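import Mathlib
import Cfsg.Statements.S3780
import Cfsg.Agent.Lib.Helper21.PGroupFrattini

set_option autoImplicit false
open Cfsg

namespace Cfsg.Agent.S3780

universe u

/-- A finite abelian group of exponent `p` and order `p ^ m` is generated by `m` elements. -/
theorem exists_generators_of_exponent (p : ℕ) [hp : Fact p.Prime] :
    ∀ (m : ℕ) (Q : Type u) [CommGroup Q] [Finite Q],
    (∀ q : Q, q ^ p = 1) → Nat.card Q = p ^ m →
    ∃ S : Finset Q, S.card ≤ m ∧ Subgroup.closure (S : Set Q) = ⊤ := by
  intro m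
  induction m with
  | zero =>
    intro Q _ _ _ hcard
    rw [pow_zero] at hcard
    have : Subsingleton Q := (Nat.card_eq_one_iff_unique.mp hcard).1
    exact ⟨∅, by simp, Subsingleton.elim _ _⟩
  | succ m ih =>
    intro Q _ _ hexp hcard
    classical
    have hnt : Nontrivial Q := by
      rw [← Finite.one_lt_card_iff_nontrivial, hcard]
      exact Nat.one_lt_pow (Nat.succ_ne_zero m) hp.out.one_lt
    obtain ⟨x, hx⟩ := exists_ne (1 : Q)
    have hord : orderOf x = p := orderOf_eq_prime (hexp x) hx
    have hZcard : Nat.card (Subgroup.zpowers x) = p := by rw [Nat.card_zpowers, hord]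
    have hQ'card : Nat.card (Q ⧸ Subgroup.zpowers x) = p ^ m := by
      have h1 := (Subgroup.zpowers x).card_mul_index
      rw [hZcard, hcard, Subgroup.index, pow_succ'] at h1
      exact Nat.eq_of_mul_eq_mul_left hp.out.pos h1
    have hQ'exp : ∀ q : Q ⧸ Subgroup.zpowers x, q ^ p = 1 := by
      intro q
      induction q using QuotientGroup.induction_on with
      | H a => rw [← QuotientGroup.mk_pow, hexp, QuotientGroup.mk_one]
    obtain ⟨S', hS'card, hS'⟩ := ih (Q ⧸ Subgroup.zpowers x) hQ'exp hQ'card
    refine ⟨insert x (S'.image Quotient.out), ?_, ?_⟩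
    · have h1 := Finset.card_insert_le x (S'.image Quotient.out)
      have h2 := Finset.card_image_le (s := S') (f := (Quotient.out : Q ⧸ Subgroup.zpowers x → Q))
      omega
    · have hxC : x ∈ Subgroup.closure ((insert x (S'.image Quotient.out) : Finset Q) : Set Q) :=
        Subgroup.subset_closure (by simp)
      have hZC : Subgroup.zpowers x ≤
          Subgroup.closure ((insert x (S'.image Quotient.out) : Finset Q) : Set Q) :=
        (Subgroup.zpowers_le).mpr hxC
      have hmap : (Subgroup.closure ((insert x (S'.image Quotient.out) : Finset Q) : Set Q)).map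
          (QuotientGroup.mk' (Subgroup.zpowers x)) = ⊤ := by
        rw [eq_top_iff, ← hS', Subgroup.closure_le]
        intro s hs
        refine Subgroup.mem_map.mpr ⟨Quotient.out s, Subgroup.subset_closure ?_, ?_⟩
        · simp only [Finset.coe_insert, Finset.coe_image, Set.mem_insert_iff, Set.mem_image,
            Finset.mem_coe]
          right
          exact ⟨s, hs, rfl⟩
        · exact QuotientGroup.out_eq' s
      have h3 := congrArg (Subgroup.comap (QuotientGroup.mk' (Subgroup.zpowers x))) hmap
      rw [QuotientGroup.comap_map_mk', Subgroup.comap_top, sup_eq_right.mpr hZC] at h3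
      exact h3

theorem congr_pow_mk {V : Type*} [CommGroup V] (T : Subgroup V) (α : MulAut V)
    (hT : T.map (α : V →* V) = T) (k : ℕ) (v : V) :
    ((QuotientGroup.congr T T α hT : MulAut (V ⧸ T)) ^ k) (v : V ⧸ T) = (((α ^ k) v : V) : V ⧸ T) := by
  induction k with
  | zero => simp
  | succ k ih =>
    rw [pow_succ', MulAut.mul_apply, ih, pow_succ', MulAut.mul_apply]
    exact QuotientGroup.congr_mk T T α hT _

/-- Let V be a finite abelian p-group and α an automorphism of V of order p whose fixed-point subgroup has order p^n. Then V can be generated by pn elements: some subset of V with at most pn elements generates V. -/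
theorem result {V : Type*} [CommGroup V] [Finite V] {p : ℕ} [Fact p.Prime] (hV : IsPGroup p V) (α : MulAut V) (hα : orderOf α = p) (n : ℕ) (hfix : Nat.card {v : V // α v = v} = p ^ n) : ∃ S : Finset V, S.card ≤ p * n ∧ Subgroup.closure (S : Set V) = ⊤ := by
  classical
  have hpp : p.Prime := Fact.out
  have hαp : α ^ p = 1 := by
    rw [← hα]
    exact pow_orderOf_eq_one α
  obtain ⟨δ, hδ⟩ : ∃ δ : V →* V, ∀ v, δ v = α v * v⁻¹ :=
    ⟨{ toFun := fun v => α v * v⁻¹
       map_one' := by simp
       map_mul' := by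
         intro a b
         rw [map_mul, mul_inv]
         exact mul_mul_mul_comm _ _ _ _ }, fun v => rfl⟩
  obtain ⟨P, hP⟩ : ∃ P : Subgroup V, P = (powMonoidHom p : V →* V).range := ⟨_, rfl⟩
  have hpowP : ∀ v : V, v ^ p ∈ P := by
    intro v
    rw [hP]
    exact ⟨v, rfl⟩
  -- index of the image of `δ`
  have hker : Nat.card δ.ker = p ^ n := by
    rw [← hfix]
    apply Nat.card_congr
    apply Equiv.subtypeEquivRight
    intro v
    rw [MonoidHom.mem_ker, hδ, mul_inv_eq_one]
  have hidx : δ.range.index = p ^ n := by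
    have h1 := δ.ker.card_mul_index
    have h2 := δ.range.card_mul_index
    rw [Subgroup.index_ker] at h1
    have hpos : 0 < Nat.card δ.range := Nat.card_pos
    have h3 : Nat.card δ.range * δ.range.index = Nat.card δ.range * Nat.card δ.ker := by
      rw [h2, ← h1, mul_comm]
    rw [← hker]
    exact Nat.eq_of_mul_eq_mul_left hpos h3
  obtain ⟨U, hU⟩ : ∃ U : Subgroup V, U = P ⊔ δ.range := ⟨_, rfl⟩
  have hPU : P ≤ U := by
    rw [hU]
    exact le_sup_left
  obtain ⟨m, hmn, hm⟩ : ∃ m : ℕ, m ≤ n ∧ U.index = p ^ m := by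
    have hd : U.index ∣ p ^ n := by
      rw [← hidx]
      apply Subgroup.index_dvd_of_le
      rw [hU]
      exact le_sup_right
    exact (Nat.dvd_prime_pow hpp).mp hd
  have hQcard : Nat.card (V ⧸ U) = p ^ m := by
    rw [← hm, Subgroup.index_eq_card]
  have hQexp : ∀ q : V ⧸ U, q ^ p = 1 := by
    intro q
    induction q using QuotientGroup.induction_on with
    | H a =>
      rw [← QuotientGroup.mk_pow, QuotientGroup.eq_one_iff]
      exact hPU (hpowP a)
  obtain ⟨S', hS'card, hS'⟩ := exists_generators_of_exponent p m (V ⧸ U) hQexp hQcard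
  obtain ⟨S₁, hS₁⟩ : ∃ S₁ : Finset V, S₁ = S'.image Quotient.out := ⟨_, rfl⟩
  have hS₁card : S₁.card ≤ m := by
    rw [hS₁]
    exact le_trans Finset.card_image_le hS'card
  have hsup : U ⊔ Subgroup.closure (S₁ : Set V) = ⊤ := by
    have hmap : (Subgroup.closure (S₁ : Set V)).map (QuotientGroup.mk' U) = ⊤ := by
      rw [eq_top_iff, ← hS', Subgroup.closure_le]
      intro s hs
      refine Subgroup.mem_map.mpr ⟨Quotient.out s, Subgroup.subset_closure ?_, ?_⟩
      · rw [hS₁]
        simp only [Finset.coe_image, Set.mem_image, Finset.mem_coe]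
        exact ⟨s, hs, rfl⟩
      · exact QuotientGroup.out_eq' s
    have h3 := congrArg (Subgroup.comap (QuotientGroup.mk' U)) hmap
    rw [QuotientGroup.comap_map_mk', Subgroup.comap_top] at h3
    exact h3
  -- the generating set
  obtain ⟨S, hS⟩ : ∃ S : Finset V,
      S = (Finset.range p ×ˢ S₁).image (fun ix : ℕ × V => (α ^ ix.1) ix.2) := ⟨_, rfl⟩
  have hScard : S.card ≤ p * n := by
    rw [hS]
    refine le_trans Finset.card_image_le ?_
    rw [Finset.card_product, Finset.card_range]
    exact Nat.mul_le_mul_left p (le_trans hS₁card hmn)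
  have hmemS : ∀ i : ℕ, i < p → ∀ x ∈ S₁, (α ^ i) x ∈ S := by
    intro i hi x hx
    rw [hS, Finset.mem_image]
    exact ⟨(i, x), Finset.mem_product.mpr ⟨Finset.mem_range.mpr hi, hx⟩, rfl⟩
  refine ⟨S, hScard, ?_⟩
  obtain ⟨M, hM⟩ : ∃ M : Subgroup V, M = Subgroup.closure (S : Set V) := ⟨_, rfl⟩
  rw [← hM]
  have hS₁M : Subgroup.closure (S₁ : Set V) ≤ M := by
    rw [hM]
    apply Subgroup.closure_mono
    intro x hx
    have := hmemS 0 hpp.pos x hx
    simpa using this
  have hMinv : M.map (α : V →* V) = M := by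
    apply Subgroup.eq_of_le_of_card_ge
    · rw [hM, MonoidHom.map_closure, Subgroup.closure_le]
      rintro _ ⟨y, hy, rfl⟩
      rw [hS] at hy
      obtain ⟨⟨i, x⟩, hix, rfl⟩ := Finset.mem_image.mp hy
      obtain ⟨hi, hx⟩ := Finset.mem_product.mp hix
      have hi' : i < p := Finset.mem_range.mp hi
      apply Subgroup.subset_closure
      have e : (α : V →* V) ((α ^ i) x) = (α ^ (i + 1)) x := by
        rw [pow_succ', MulAut.mul_apply]
        rfl
      show (α : V →* V) ((α ^ i) x) ∈ (S : Set V)
      rw [e]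
      by_cases h : i + 1 < p
      · exact hmemS (i + 1) h x hx
      · have hip : i + 1 = p := by omega
        rw [hip, hαp]
        have := hmemS 0 hpp.pos x hx
        simpa using this
    · rw [Subgroup.card_map_of_injective (f := (α : V →* V)) α.injective]
  have hPinv : P.map (α : V →* V) = P := by
    apply Subgroup.eq_of_le_of_card_ge
    · rintro _ ⟨y, hy, rfl⟩
      rw [hP] at hy
      obtain ⟨z, rfl⟩ := hy
      show (α : V →* V) ((powMonoidHom p : V →* V) z) ∈ P
      have e : (α : V →* V) ((powMonoidHom p : V →* V) z) = (α z) ^ p := by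
        simp
      rw [e]
      exact hpowP _
    · rw [Subgroup.card_map_of_injective (f := (α : V →* V)) α.injective]
  obtain ⟨T, hT⟩ : ∃ T : Subgroup V, T = M ⊔ P := ⟨_, rfl⟩
  have hTinv : T.map (α : V →* V) = T := by
    rw [hT, Subgroup.map_sup, hMinv, hPinv]
  have hMT : M ≤ T := by
    rw [hT]
    exact le_sup_left
  have hPT : P ≤ T := by
    rw [hT]
    exact le_sup_right
  -- the quotient `V ⧸ T` is trivial
  have hTtop : T = ⊤ := by
    obtain ⟨β, hβ⟩ : ∃ β : MulAut (V ⧸ T), β = QuotientGroup.congr T T α hTinv := ⟨_, rfl⟩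
    have hβmk : ∀ v : V, β (v : V ⧸ T) = ((α v : V) : V ⧸ T) := by
      intro v
      rw [hβ]
      exact QuotientGroup.congr_mk T T α hTinv v
    have hβp : β ^ p = 1 := by
      ext w
      induction w using QuotientGroup.induction_on with
      | H v =>
        rw [hβ, congr_pow_mk, hαp]
        rfl
    have hΓ : IsPGroup p (Subgroup.zpowers β) := by
      have hd : orderOf β ∣ p := orderOf_dvd_of_pow_eq_one hβp
      rcases (Nat.dvd_prime hpp).mp hd with h1 | h1
      · exact IsPGroup.of_card (n := 0) (by rw [Nat.card_zpowers, h1, pow_zero])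
      · exact IsPGroup.of_card (n := 1) (by rw [Nat.card_zpowers, h1, pow_one])
    have hsurj : Function.Surjective (fun w : V ⧸ T => β w * w⁻¹) := by
      intro w
      induction w using QuotientGroup.induction_on with
      | H v =>
        have hv : v ∈ U ⊔ Subgroup.closure (S₁ : Set V) := by
          rw [hsup]
          exact Subgroup.mem_top v
        obtain ⟨u, hu, a, ha, rfl⟩ := Subgroup.mem_sup.mp hv
        rw [hU] at hu
        obtain ⟨c, hc, d, hd, rfl⟩ := Subgroup.mem_sup.mp hu
        obtain ⟨y, rfl⟩ := hd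
        refine ⟨(y : V ⧸ T), ?_⟩
        show β (y : V ⧸ T) * (y : V ⧸ T)⁻¹ = ((c * δ y * a : V) : V ⧸ T)
        rw [hβmk, hδ]
        have hcT : ((c : V) : V ⧸ T) = 1 := (QuotientGroup.eq_one_iff c).mpr (hPT hc)
        have haT : ((a : V) : V ⧸ T) = 1 := (QuotientGroup.eq_one_iff a).mpr (hMT (hS₁M ha))
        rw [QuotientGroup.mk_mul, QuotientGroup.mk_mul, hcT, haT, one_mul, mul_one,
          QuotientGroup.mk_mul, QuotientGroup.mk_inv]
    have hinj : Function.Injective (fun w : V ⧸ T => β w * w⁻¹) :=
      Finite.injective_iff_surjective.mpr hsurj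
    have hfixed : ∀ w : V ⧸ T, β w = w → w = 1 := by
      intro w hw
      apply hinj
      show β w * w⁻¹ = β 1 * 1⁻¹
      rw [hw, map_one, mul_inv_cancel, inv_one, mul_one]
    have hfp : MulAction.fixedPoints (Subgroup.zpowers β) (V ⧸ T) = {1} := by
      ext w
      rw [MulAction.mem_fixedPoints, Set.mem_singleton_iff]
      constructor
      · intro h
        apply hfixed
        exact h ⟨β, Subgroup.mem_zpowers β⟩
      · rintro rfl g
        exact smul_one g
    have hmod := hΓ.card_modEq_card_fixedPoints (V ⧸ T)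
    rw [hfp] at hmod
    have hc1 : Nat.card ↥({1} : Set (V ⧸ T)) = 1 := by
      rw [Nat.card_eq_one_iff_unique]
      exact ⟨inferInstance, inferInstance⟩
    rw [hc1] at hmod
    obtain ⟨k, hk⟩ := (hV.to_quotient T).exists_card_eq
    have hk0 : k = 0 := by
      by_contra hk0
      have hdvd : p ∣ Nat.card (V ⧸ T) := by
        rw [hk]
        exact dvd_pow_self p hk0
      have h0 : Nat.card (V ⧸ T) ≡ 0 [MOD p] := (Nat.modEq_zero_iff_dvd).mpr hdvd
      have h01 : 0 ≡ 1 [MOD p] := h0.symm.trans hmod
      have h2 : p ∣ 1 := (Nat.modEq_zero_iff_dvd).mp h01.symm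
      exact hpp.one_lt.ne' (Nat.dvd_one.mp h2)
    rw [hk0, pow_zero, ← Subgroup.index_eq_card] at hk
    exact Subgroup.index_eq_one.mp hk
  -- Frattini
  have hPfrat : P ≤ frattini V := by
    rw [hP]
    rintro _ ⟨z, rfl⟩
    exact Cfsg.Agent.Helper21.pow_mem_frattini_of_isPGroup hV z
  apply frattini_nongenerating
  rw [eq_top_iff, ← hTtop, hT]
  exact sup_le_sup_left hPfrat M

end Cfsg.Agent.S3780
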