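import Mathlib
import Cfsg.Statements.S3781
import Cfsg.Agent.Lib.Helper7.Quasisimple
import Cfsg.Agent.Lib.Helper10.ThreeSub

set_option autoImplicit false
open Cfsg

namespace Cfsg.Agent.S3781

variable {G : Type*} [Group G]

/-- The relative lower central series `[M, G, …, G]`. -/
def rel (M : Subgroup G) : ℕ → Subgroup G
  | 0 => M
  | j + 1 => ⁅rel M j, (⊤ : Subgroup G)⁆

theorem rel_zero (M : Subgroup G) : rel M 0 = M := rfl

theorem rel_succ (M : Subgroup G) (j : ℕ) : rel M (j + 1) = ⁅rel M j, (⊤ : Subgroup G)⁆ := rfl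

theorem rel_normal (M : Subgroup G) [hM : M.Normal] (j : ℕ) : (rel M j).Normal := by
  induction j with
  | zero => exact hM
  | succ j ih =>
    rw [rel_succ]
    exact Subgroup.commutator_normal _ _

theorem rel_mono {M M' : Subgroup G} (h : M ≤ M') (j : ℕ) : rel M j ≤ rel M' j := by
  induction j with
  | zero => exact h
  | succ j ih => exact Subgroup.commutator_mono ih le_rfl

theorem rel_succ' (M : Subgroup G) (j : ℕ) : rel M (j + 1) = rel ⁅M, (⊤ : Subgroup G)⁆ j := by
  induction j with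
  | zero => rfl
  | succ j ih => rw [rel_succ, ih, rel_succ]

theorem rel_le_self (M : Subgroup G) [M.Normal] (j : ℕ) : rel M j ≤ M := by
  induction j with
  | zero => exact le_rfl
  | succ j ih =>
    have := rel_normal M j
    rw [rel_succ]
    exact (Subgroup.commutator_le_left _ _).trans ih

theorem rel_le_lcs (M : Subgroup G) (j : ℕ) :
    rel M j ≤ (⊤ : Subgroup G).lowerCentralSeries j := by
  induction j with
  | zero => exact le_top
  | succ j ih =>
    rw [rel_succ, Subgroup.lowerCentralSeries_succ]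
    exact Subgroup.commutator_mono ih le_rfl

/-- `[C_j(M), γ_{t+1}(G)] ≤ C_{j+t+1}(M)`. -/
theorem commutator_rel_lcs_le (M : Subgroup G) [M.Normal] (t : ℕ) :
    ∀ j : ℕ, ⁅rel M j, (⊤ : Subgroup G).lowerCentralSeries t⁆ ≤ rel M (j + t + 1) := by
  induction t with
  | zero =>
    intro j
    exact le_rfl
  | succ t ih =>
    intro j
    have hn : (rel M (j + (t + 1) + 1)).Normal := rel_normal M _
    have htop : ∀ X : Subgroup G, X ≤ Subgroup.normalizer ((rel M (j + (t + 1) + 1) : Subgroup G) :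
        Set G) := by
      intro X
      rw [Subgroup.normalizer_eq_top]
      exact le_top
    rw [Subgroup.lowerCentralSeries_succ, Subgroup.commutator_comm]
    apply Cfsg.Agent.Helper10.three_subgroups_mod (htop _) (htop _) (htop _)
    · -- ⁅⁅⊤, rel M j⁆, lcs t⁆
      rw [Subgroup.commutator_comm (⊤ : Subgroup G) (rel M j), ← rel_succ]
      have := ih (j + 1)
      rwa [show j + 1 + t + 1 = j + (t + 1) + 1 by omega] at this
    · -- ⁅⁅rel M j, lcs t⁆, ⊤⁆
      have := Subgroup.commutator_mono (ih j) (le_refl (⊤ : Subgroup G))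
      rwa [← rel_succ, show j + t + 1 + 1 = j + (t + 1) + 1 by omega] at this

/-- If `M = [M, G] L` then `M ≤ L` in a nilpotent group. -/
theorem le_of_le_commutator_sup [hnil : Group.IsNilpotent G] (M L : Subgroup G) [M.Normal]
    [L.Normal] (h : M ≤ ⁅M, (⊤ : Subgroup G)⁆ ⊔ L) : M ≤ L := by
  have key : ∀ j : ℕ, M ≤ rel M j ⊔ L := by
    intro j
    induction j with
    | zero => exact le_sup_left
    | succ j ih =>
      have hn : (rel M (j + 1) ⊔ L).Normal := by
        have := rel_normal M (j + 1)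
        infer_instance
      have h1 : ⁅M, (⊤ : Subgroup G)⁆ ≤ rel M (j + 1) ⊔ L := by
        refine (Subgroup.commutator_mono ih le_rfl).trans ?_
        apply Cfsg.Agent.Helper7.commutator_sup_le
        · exact le_sup_left
        · exact (Subgroup.commutator_le_left L ⊤).trans le_sup_right
      exact h.trans (sup_le h1 le_sup_right)
  obtain ⟨c, hc⟩ := Subgroup.nilpotent_iff_lowerCentralSeries.mp hnil
  have h2 := key c
  have h3 : rel M c = ⊥ := by
    rw [eq_bot_iff, ← hc]
    exact rel_le_lcs M c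
  rwa [h3, bot_sup_eq] at h2

/-- A normal section of order dividing `p^k` is killed by `k` commutations with `G`. -/
theorem rel_le_of_relIndex_dvd [Group.IsNilpotent G] {p : ℕ} [hp : Fact p.Prime]
    (L : Subgroup G) [L.Normal] :
    ∀ (k : ℕ) (M : Subgroup G) [M.Normal], L ≤ M → L.relIndex M ∣ p ^ k → rel M k ≤ L := by
  intro k
  induction k with
  | zero =>
    intro M _ _ hdvd
    rw [pow_zero, Nat.dvd_one] at hdvd
    exact Subgroup.relIndex_eq_one.mp hdvd
  | succ k ih =>
    intro M _ hLM hdvd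
    by_cases hML : M ≤ L
    · exact (rel_le_self M _).trans hML
    · have hM₁n : (⁅M, (⊤ : Subgroup G)⁆ ⊔ L).Normal := inferInstance
      have hM₁le : ⁅M, (⊤ : Subgroup G)⁆ ⊔ L ≤ M :=
        sup_le (Subgroup.commutator_le_left M ⊤) hLM
      have hstrict : ¬ M ≤ ⁅M, (⊤ : Subgroup G)⁆ ⊔ L := fun h =>
        hML (le_of_le_commutator_sup M L h)
      have hmul := Subgroup.relIndex_mul_relIndex L (⁅M, (⊤ : Subgroup G)⁆ ⊔ L) M le_sup_right
        hM₁le
      have hne1 : (⁅M, (⊤ : Subgroup G)⁆ ⊔ L).relIndex M ≠ 1 := fun h =>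
        hstrict (Subgroup.relIndex_eq_one.mp h)
      obtain ⟨a, -, ha⟩ := (Nat.dvd_prime_pow hp.out).mp
        ((Dvd.intro_left _ hmul).trans hdvd)
      obtain ⟨b, -, hb⟩ := (Nat.dvd_prime_pow hp.out).mp
        ((Dvd.intro _ hmul).trans hdvd)
      have ha0 : a ≠ 0 := by
        rintro rfl
        exact hne1 (by rw [ha, pow_zero])
      have hdvd' : L.relIndex (⁅M, (⊤ : Subgroup G)⁆ ⊔ L) ∣ p ^ k := by
        rw [hb]
        apply pow_dvd_pow
        rw [ha, hb, ← pow_add] at hmul
        obtain ⟨c, hck, hc⟩ := (Nat.dvd_prime_pow hp.out).mp hdvd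
        rw [← hmul] at hc
        have := Nat.pow_right_injective hp.out.two_le hc
        omega
      have h1 := ih (⁅M, (⊤ : Subgroup G)⁆ ⊔ L) le_sup_right hdvd'
      rw [rel_succ']
      exact (rel_mono le_sup_left k).trans h1

/-- Let G be a finite p-group and n ≥ 1, and write γ_1(G) = G, γ_{k+1}(G) = [γ_k(G), G], and likewise γ_k(N) for a subgroup N. Let N be a normal subgroup of G contained in γ_n(G). If i > 1 and γ_{i+1}(N) ≠ 1, then |γ_i(N) : γ_{i+1}(N)| ≥ p^n. -/
theorem result {G : Type*} [Group G] [Finite G] {p : ℕ} [Fact p.Prime] (hG : IsPGroup p G) (n : ℕ) (hn : 1 ≤ n) (N : Subgroup G) [N.Normal] (hN : N ≤ (⊤ : Subgroup G).lowerCentralSeries (n - 1)) (i : ℕ) (hi : 1 < i) (hne : N.lowerCentralSeries i ≠ ⊥) : p ^ n ≤ (N.lowerCentralSeries i).relIndex (N.lowerCentralSeries (i - 1)) := by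
  have hp : p.Prime := Fact.out
  have hnil : Group.IsNilpotent G := hG.isNilpotent
  obtain ⟨i', rfl⟩ : ∃ i', i = i' + 1 := ⟨i - 1, by omega⟩
  rw [Nat.add_sub_cancel]
  have hLM : N.lowerCentralSeries (i' + 1) ≤ N.lowerCentralSeries i' :=
    N.lowerCentralSeries_antitone (Nat.le_succ i')
  -- the index is a power of p
  obtain ⟨m, hm⟩ := IsPGroup.iff_card.mp hG
  have hdvdG : (N.lowerCentralSeries (i' + 1)).relIndex (N.lowerCentralSeries i') ∣ p ^ m := by
    rw [← hm]
    exact (Subgroup.relIndex_dvd_card _ _).trans (Subgroup.card_subgroup_dvd_card _)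
  obtain ⟨k, -, hk⟩ := (Nat.dvd_prime_pow hp).mp hdvdG
  rw [hk]
  by_contra hlt
  push Not at hlt
  have hkn : k < n := (Nat.pow_lt_pow_iff_right hp.one_lt).mp hlt
  apply hne
  -- L ≤ [L, G]
  have hNk : N ≤ (⊤ : Subgroup G).lowerCentralSeries k :=
    hN.trans ((⊤ : Subgroup G).lowerCentralSeries_antitone (by omega))
  have h1 : rel (N.lowerCentralSeries i') k ≤ N.lowerCentralSeries (i' + 1) :=
    rel_le_of_relIndex_dvd (p := p) _ k _ hLM (by rw [hk])
  have h2 : N.lowerCentralSeries (i' + 1) ≤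
      ⁅N.lowerCentralSeries (i' + 1), (⊤ : Subgroup G)⁆ := by
    calc N.lowerCentralSeries (i' + 1) = ⁅N.lowerCentralSeries i', N⁆ :=
          Subgroup.lowerCentralSeries_succ N i'
      _ ≤ ⁅rel (N.lowerCentralSeries i') 0, (⊤ : Subgroup G).lowerCentralSeries k⁆ :=
          Subgroup.commutator_mono le_rfl hNk
      _ ≤ rel (N.lowerCentralSeries i') (0 + k + 1) := commutator_rel_lcs_le _ k 0
      _ = ⁅rel (N.lowerCentralSeries i') k, (⊤ : Subgroup G)⁆ := by rw [zero_add, rel_succ]
      _ ≤ ⁅N.lowerCentralSeries (i' + 1), (⊤ : Subgroup G)⁆ := Subgroup.commutator_mono h1 le_rfl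
  have h3 := le_of_le_commutator_sup (N.lowerCentralSeries (i' + 1)) ⊥
    (h2.trans le_sup_left)
  exact le_bot_iff.mp h3

end Cfsg.Agent.S3781
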