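import Mathlib
import Cfsg.Statements.S0002

set_option autoImplicit false
open Pointwise
open Cfsg

namespace Cfsg.Agent.S0002

open MulOpposite MulAction Subgroup Subgroup.leftTransversals

/-- Two complements of the same subgroup, one contained in the other, are equal. -/
theorem eq_of_le_of_isComplement' {G : Type*} [Group G] {A H K : Subgroup G}
    (hH : Subgroup.IsComplement' A H) (hK : Subgroup.IsComplement' A K) (hle : H ≤ K) : H = K := by
  refine le_antisymm hle ?_
  intro k hk
  obtain ⟨⟨⟨a, ha⟩, ⟨h, hh⟩⟩, hah⟩ := hH.existsUnique k |>.exists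
  simp only at hah
  have ha' : a ∈ K := by
    have : a = k * h⁻¹ := by rw [← hah]; group
    rw [this]; exact K.mul_mem hk (K.inv_mem (hle hh))
  have : a ∈ A ⊓ K := ⟨ha, ha'⟩
  rw [hK.disjoint.eq_bot] at this
  rw [Subgroup.mem_bot] at this
  subst this
  rw [one_mul] at hah
  rw [← hah]; exact hh

/-- The class of the transversal given by a complement. -/
noncomputable def mkQ {G : Type*} [Group G] [Finite G] (A : Subgroup G) [A.Normal] [IsMulCommutative A]
    (L : Subgroup G) (hL : Subgroup.IsComplement' A L) : A.QuotientDiff :=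
  Quotient.mk'' (⟨(L : Set G), hL.symm⟩ : A.LeftTransversal)

theorem stab_mkQ {G : Type*} [Group G] [Finite G] (A : Subgroup G) [A.Normal] [IsMulCommutative A]
    (hA : (Nat.card A).Coprime A.index)
    (L : Subgroup G) (hL : Subgroup.IsComplement' A L) :
    stabilizer G (mkQ A L hL) = L := by
  symm
  apply eq_of_le_of_isComplement' hL (isComplement'_stabilizer_of_coprime hA)
  intro g hg
  rw [mem_stabilizer_iff]
  change Quotient.mk'' _ = Quotient.mk'' _
  congr 1
  apply Subtype.ext
  ext x
  change x ∈ (op g⁻¹) • (L : Set G) ↔ x ∈ (L : Set G)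
  rw [Set.mem_smul_set_iff_inv_smul_mem]
  change x * g⁻¹⁻¹ ∈ L ↔ x ∈ L
  rw [inv_inv]
  exact Subgroup.mul_mem_cancel_right L hg

theorem result {G : Type*} [Group G] [Finite G] (A : Subgroup G) [A.Normal] [IsMulCommutative A]
    (hA : (Nat.card A).Coprime A.index)
    (H K : Subgroup G) (hH : Subgroup.IsComplement' A H) (hK : Subgroup.IsComplement' A K) :
    ∃ a ∈ A, MulAut.conj a • H = K := by
  classical
  obtain ⟨a, ha⟩ := exists_smul_eq hA (mkQ A H hH) (mkQ A K hK)
  refine ⟨a, a.2, ?_⟩
  rw [← stab_mkQ A hA H hH, ← stab_mkQ A hA K hK, ← ha]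
  have : stabilizer G (a • mkQ A H hH) = stabilizer G ((a : G) • mkQ A H hH) := rfl
  rw [this, stabilizer_smul_eq_stabilizer_map_conj]
  rfl

end Cfsg.Agent.S0002
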