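import Mathlib
import Cfsg.Statements.S0001
import Cfsg.Agent.S0002
import Cfsg.Agent.Lib.Helper1.Complement
import Cfsg.Agent.Lib.Helper1.SolvableBasic

set_option autoImplicit false
set_option linter.style.haveILetI false
open Pointwise
open Cfsg

namespace Cfsg.Agent.S0001

open Subgroup Cfsg.Agent.Helper1
open scoped commutatorElement

universe u

theorem card_lt_of_ne_top {G : Type*} [Group G] [Finite G] {L : Subgroup G} (hL : L ≠ ⊤) :
    Nat.card L < Nat.card G := by
  have h1 := L.card_mul_index
  have h2 : L.index ≠ 1 := fun h => hL (Subgroup.index_eq_one.mp h)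
  have h3 : L.index ≠ 0 := Subgroup.index_ne_zero_of_finite
  have h4 : 2 ≤ L.index := by omega
  have h5 : 0 < Nat.card L := Nat.card_pos
  nlinarith

theorem card_quotient_lt_of_ne_bot {G : Type*} [Group G] [Finite G] {D : Subgroup G} [D.Normal]
    (hD : D ≠ ⊥) : Nat.card (G ⧸ D) < Nat.card G := by
  have h1 := D.card_mul_index
  have h2 : Nat.card D ≠ 1 := fun h => hD (Subgroup.card_eq_one.mp h)
  have h3 : 0 < Nat.card D := Nat.card_pos
  have h4 : 2 ≤ Nat.card D := by omega
  have h5 : 0 < D.index := Nat.pos_of_ne_zero Subgroup.index_ne_zero_of_finite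
  change D.index < _
  nlinarith

theorem card_subgroupOf_of_le {G : Type*} [Group G] {K L : Subgroup G} (h : K ≤ L) :
    Nat.card (K.subgroupOf L) = Nat.card K :=
  Nat.card_congr (Subgroup.subgroupOfEquivOfLe h).toEquiv

/-- The core induction. The solvability hypothesis on the quotient is phrased via a complement. -/
theorem sz_conj_aux : ∀ (n : ℕ) (G : Type u) [Group G] [Finite G], Nat.card G = n →
    ∀ (N : Subgroup G) [N.Normal], (Nat.card N).Coprime N.index →
    ∀ H K : Subgroup G, IsComplement' N H → IsComplement' N K →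
    (Group.IsSolvable N ∨ Group.IsSolvable H) → ∃ g : G, MulAut.conj g • H = K := by
  intro n
  induction n using Nat.strong_induction_on with
  | _ n ih =>
  intro G _ _ hcard N hNn hcop H K hH hK hsolv
  have hNH : N ⊓ H = ⊥ := hH.disjoint.eq_bot
  have hNK : N ⊓ K = ⊥ := hK.disjoint.eq_bot
  have hidxH : N.index = Nat.card H := by
    have := hH.symm.index_eq_card; exact this
  have hidxK : N.index = Nat.card K := by
    have := hK.symm.index_eq_card; exact this
  rcases hsolv with hsolvN | hsolvH
  · -- Case A: N solvable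
    by_cases hN : N = ⊥
    · subst hN
      rw [isComplement'_bot_left] at hH hK
      exact ⟨1, by rw [hH, hK]; simp⟩
    set D : Subgroup G := ⁅N, N⁆ with hDdef
    haveI hDn : D.Normal := Subgroup.commutator_normal N N
    have hDN : D ≤ N := Subgroup.commutator_le_left N N
    have hDneN : D ≠ N := by
      intro h
      haveI : Nontrivial N := (Subgroup.nontrivial_iff_ne_bot N).mpr hN
      have h1 : commutator N < ⊤ := Group.IsSolvable.commutator_lt_top_of_nontrivial N
      apply ne_of_lt h1
      rw [eq_top_iff]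
      intro x _
      have hx : (x : G) ∈ D := by rw [h]; exact x.2
      rw [hDdef, ← Subgroup.map_subtype_commutator] at hx
      obtain ⟨y, hy, hyx⟩ := hx
      have : y = x := Subtype.ext hyx
      rw [← this]; exact hy
    by_cases hD : D = ⊥
    · -- N abelian
      haveI : IsMulCommutative N := by
        constructor; constructor
        intro a b
        have h1 : ⁅(a : G), (b : G)⁆ ∈ D := Subgroup.commutator_mem_commutator a.2 b.2
        rw [hD, Subgroup.mem_bot, commutatorElement_eq_one_iff_mul_comm] at h1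
        exact Subtype.ext h1
      obtain ⟨a, -, ha⟩ := Cfsg.Agent.S0002.result N hcop H K hH hK
      exact ⟨a, ha⟩
    · -- pass to G ⧸ D
      have hlt : Nat.card (G ⧸ D) < n := hcard ▸ card_quotient_lt_of_ne_bot hD
      set π := QuotientGroup.mk' D with hπ
      have hπs : Function.Surjective π := QuotientGroup.mk'_surjective D
      haveI : (N.map π).Normal := hNn.map π hπs
      have hcop' : (Nat.card (N.map π)).Coprime (N.map π).index := by
        have h1 : (N.map π).index = N.index :=
          Subgroup.index_map_eq N hπs (by rw [hπ, QuotientGroup.ker_mk']; exact hDN)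
        rw [h1]
        exact Nat.Coprime.coprime_dvd_left (Subgroup.card_map_dvd N π) hcop
      have hsolv' : Group.IsSolvable (N.map π) :=
        Group.isSolvable_of_surjective (MonoidHom.subgroupMap_surjective π N)
      obtain ⟨gbar, hgbar⟩ := ih _ hlt (G ⧸ D) rfl (N.map π) hcop' (H.map π) (K.map π)
        (isComplement'_map_mk'_of_le_left hH hDN) (isComplement'_map_mk'_of_le_left hK hDN)
        (Or.inl hsolv')
      obtain ⟨g, rfl⟩ := hπs gbar
      have hsup := sup_eq_of_conj_map_mk' g hgbar
      set H' := MulAut.conj g • H with hH'def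
      have hH' : IsComplement' N H' := isComplement'_conj hH g
      have hNH' : N ⊓ H' = ⊥ := hH'.disjoint.eq_bot
      set L := K ⊔ D with hLdef
      have hH'L : H' ≤ L := by rw [← hsup]; exact le_sup_left
      have hKL : K ≤ L := le_sup_left
      have hDL : D ≤ L := le_sup_right
      have hLtop : L ≠ ⊤ := by
        intro h
        apply hDneN
        apply le_antisymm hDN
        intro x hx
        have hxL : x ∈ K ⊔ D := by rw [← hLdef, h]; trivial
        rw [Subgroup.mem_sup_of_normal_right] at hxL
        obtain ⟨k, hk, d, hd, rfl⟩ := hxL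
        have hk2 : k ∈ N := by
          have : k = k * d * d⁻¹ := by group
          rw [this]; exact N.mul_mem hx (N.inv_mem (hDN hd))
        have hk3 : k ∈ N ⊓ K := ⟨hk2, hk⟩
        rw [hNK, Subgroup.mem_bot] at hk3
        rw [hk3, one_mul]; exact hd
      have hlt2 : Nat.card L < n := hcard ▸ card_lt_of_ne_top hLtop
      haveI : (D.subgroupOf L).Normal := hDn.subgroupOf L
      have hDH' : D ⊓ H' = ⊥ := by
        rw [eq_bot_iff, ← hNH']; exact inf_le_inf_right _ hDN
      have hDK : D ⊓ K = ⊥ := by
        rw [eq_bot_iff, ← hNK]; exact inf_le_inf_right _ hDN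
      have hcH' : IsComplement' (D.subgroupOf L) (H'.subgroupOf L) := by
        apply isComplement'_subgroupOf hDH' hH'L
        intro l hl
        rw [← hsup, sup_comm, Subgroup.mem_sup_of_normal_left] at hl
        obtain ⟨d, hd, h, hh, rfl⟩ := hl
        exact ⟨d, hd, h, hh, rfl⟩
      have hcK : IsComplement' (D.subgroupOf L) (K.subgroupOf L) := by
        apply isComplement'_subgroupOf hDK hKL
        intro l hl
        rw [hLdef, sup_comm, Subgroup.mem_sup_of_normal_left] at hl
        obtain ⟨d, hd, h, hh, rfl⟩ := hl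
        exact ⟨d, hd, h, hh, rfl⟩
      have hcop2 : (Nat.card (D.subgroupOf L)).Coprime (D.subgroupOf L).index := by
        have h1 : (D.subgroupOf L).index = Nat.card (K.subgroupOf L) := hcK.symm.index_eq_card
        rw [h1, card_subgroupOf_of_le hKL, card_subgroupOf_of_le hDL, ← hidxK]
        exact Nat.Coprime.coprime_dvd_left (Subgroup.card_dvd_of_le hDN) hcop
      have hsolv2 : Group.IsSolvable (D.subgroupOf L) := by
        haveI : Group.IsSolvable D :=
          Group.isSolvable_of_isSolvable_injective (Subgroup.inclusion_injective hDN)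
        exact Group.isSolvable_of_isSolvable_injective
          (f := (Subgroup.subgroupOfEquivOfLe hDL).toMonoidHom)
          (Subgroup.subgroupOfEquivOfLe hDL).injective
      obtain ⟨l, hl⟩ := ih _ hlt2 L rfl (D.subgroupOf L) hcop2 (H'.subgroupOf L) (K.subgroupOf L)
        hcH' hcK (Or.inl hsolv2)
      have h3 := conj_of_conj_subgroupOf hH'L hKL l hl
      refine ⟨(l : G) * g, ?_⟩
      rw [← conj_smul_conj_smul]
      exact h3
  · -- Case B: H solvable
    by_cases hHbot : H = ⊥
    · subst hHbot
      rw [isComplement'_bot_right] at hH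
      subst hH
      rw [isComplement'_top_left] at hK
      exact ⟨1, by rw [hK]; simp⟩
    haveI : Nontrivial H := (Subgroup.nontrivial_iff_ne_bot H).mpr hHbot
    obtain ⟨p, hp, Q, hQn, hQne, hQp⟩ := exists_normal_pSubgroup_of_solvable H
    haveI : Fact p.Prime := ⟨hp⟩
    set P₀ : Subgroup G := Q.map H.subtype with hP₀def
    have hP₀H : P₀ ≤ H := Subgroup.map_subtype_le Q
    have hP₀p : IsPGroup p P₀ := hQp.map _
    have hP₀ne : P₀ ≠ ⊥ := by
      intro h
      apply hQne
      rw [eq_bot_iff]
      intro x hx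
      have : H.subtype x ∈ P₀ := Subgroup.mem_map_of_mem _ hx
      rw [h, Subgroup.mem_bot] at this
      rw [Subgroup.mem_bot]
      exact Subtype.ext this
    have hHP₀ : ∀ h ∈ H, ∀ y ∈ P₀, h * y * h⁻¹ ∈ P₀ := by
      intro h hh y hy
      obtain ⟨z, hz, rfl⟩ := hy
      exact ⟨⟨h, hh⟩ * z * ⟨h, hh⟩⁻¹, hQn.conj_mem z hz ⟨h, hh⟩, rfl⟩
    -- p does not divide |N|
    have hpN : ¬ p ∣ Nat.card N := by
      intro hdvd
      have h1 : p ∣ Nat.card H := by
        have h2 : Nat.card P₀ ∣ Nat.card H := Subgroup.card_dvd_of_le hP₀H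
        obtain ⟨k, hk⟩ := hP₀p.exists_card_eq
        have hk0 : k ≠ 0 := by
          rintro rfl
          rw [pow_zero] at hk
          exact hP₀ne (Subgroup.card_eq_one.mp hk)
        exact (dvd_trans (dvd_pow_self p hk0) (hk ▸ h2))
      rw [← hidxH] at h1
      exact hp.one_lt.ne' (Nat.eq_one_of_dvd_coprimes hcop hdvd h1)
    -- M = N ⊔ P₀ is normal
    set M := N ⊔ P₀ with hMdef
    have hNM : N ≤ M := le_sup_left
    have hP₀M : P₀ ≤ M := le_sup_right
    have hMmem : ∀ x, x ∈ M ↔ ∃ n ∈ N, ∃ y ∈ P₀, n * y = x := by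
      intro x; rw [hMdef, Subgroup.mem_sup_of_normal_left]
    haveI hMn : M.Normal := by
      constructor
      intro x hx g
      obtain ⟨n, hn, h, hh, rfl⟩ := IsComplement'.exists_mul hH g
      rw [hMmem] at hx
      obtain ⟨m, hm, y, hy, rfl⟩ := hx
      have h1 : n * h * (m * y) * (n * h)⁻¹ =
          (n * (h * m * h⁻¹) * (h * y * h⁻¹ * n⁻¹ * (h * y * h⁻¹)⁻¹)) * (h * y * h⁻¹) := by group
      rw [h1]
      apply M.mul_mem (hNM _) (hP₀M (hHP₀ h hh y hy))
      exact N.mul_mem (N.mul_mem hn (hNn.conj_mem m hm h)) (hNn.conj_mem _ (N.inv_mem hn) _)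
    -- M ⊓ H = P₀
    have hMH : M ⊓ H = P₀ := by
      apply le_antisymm _ (le_inf hP₀M hP₀H)
      intro x hx
      obtain ⟨hxM, hxH⟩ := Subgroup.mem_inf.mp hx
      rw [hMmem] at hxM
      obtain ⟨m, hm, y, hy, rfl⟩ := hxM
      have h1 : m ∈ N ⊓ H := by
        refine ⟨hm, ?_⟩
        have : m = m * y * y⁻¹ := by group
        rw [this]; exact H.mul_mem hxH (H.inv_mem (hP₀H hy))
      rw [hNH, Subgroup.mem_bot] at h1
      rw [h1, one_mul]; exact hy
    set P₁ := M ⊓ K with hP₁def
    -- complements of N in M
    have hc₀ : IsComplement' (N.subgroupOf M) (P₀.subgroupOf M) := by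
      apply isComplement'_subgroupOf _ hP₀M
      · intro l hl
        rw [hMmem] at hl
        obtain ⟨m, hm, y, hy, rfl⟩ := hl
        exact ⟨m, hm, y, hy, rfl⟩
      · rw [eq_bot_iff, ← hNH]; exact inf_le_inf_left _ hP₀H
    have hc₁ : IsComplement' (N.subgroupOf M) (P₁.subgroupOf M) := by
      apply isComplement'_subgroupOf _ inf_le_left
      · intro l hl
        obtain ⟨m, hm, k, hk, rfl⟩ := IsComplement'.exists_mul hK l
        refine ⟨m, hm, k, ⟨?_, hk⟩, rfl⟩
        have : k = m⁻¹ * (m * k) := by group
        rw [this]; exact M.mul_mem (M.inv_mem (hNM hm)) hl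
      · rw [eq_bot_iff, ← hNK]; exact inf_le_inf_left _ inf_le_right
    have hcardNM : Nat.card (N.subgroupOf M) = Nat.card N := card_subgroupOf_of_le hNM
    have hidx₀ : (P₀.subgroupOf M).index = Nat.card N := by
      rw [← hcardNM]; exact hc₀.index_eq_card
    have hidx₁ : (P₁.subgroupOf M).index = Nat.card N := by
      rw [← hcardNM]; exact hc₁.index_eq_card
    have hcard₀₁ : Nat.card (P₁.subgroupOf M) = Nat.card (P₀.subgroupOf M) := by
      have h0 := hc₀.card_mul_card
      have h1 := hc₁.card_mul_card
      have hpos : 0 < Nat.card (N.subgroupOf M) := Nat.card_pos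
      exact Nat.eq_of_mul_eq_mul_left hpos (h1.trans h0.symm)
    have hp₀ : IsPGroup p (P₀.subgroupOf M) := hP₀p.comap_subtype
    have hp₁ : IsPGroup p (P₁.subgroupOf M) := by
      obtain ⟨k, hk⟩ := hp₀.exists_card_eq
      exact IsPGroup.of_card (hcard₀₁.trans hk)
    let S₀ : Sylow p M := hp₀.toSylow (by rw [hidx₀]; exact hpN)
    let S₁ : Sylow p M := hp₁.toSylow (by rw [hidx₁]; exact hpN)
    obtain ⟨c, hc⟩ := MulAction.exists_smul_eq M S₁ S₀
    have hc' : MulAut.conj c • P₁.subgroupOf M = P₀.subgroupOf M := by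
      have := congrArg (fun S : Sylow p M => (S : Subgroup M)) hc
      exact this
    have hcP : MulAut.conj (c : G) • P₁ = P₀ :=
      conj_of_conj_subgroupOf inf_le_left hP₀M c hc'
    -- replace K by its conjugate
    set K' := MulAut.conj (c : G) • K with hK'def
    have hK' : IsComplement' N K' := isComplement'_conj hK c
    have hNK' : N ⊓ K' = ⊥ := hK'.disjoint.eq_bot
    have hMK' : M ⊓ K' = P₀ := by
      rw [← hcP]
      ext x
      rw [Subgroup.mem_inf, mem_conj_smul_iff, mem_conj_smul_iff, hP₁def, Subgroup.mem_inf]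
      constructor
      · rintro ⟨h1, h2⟩
        exact ⟨hMn.conj_mem' x h1 c, h2⟩
      · rintro ⟨h1, h2⟩
        refine ⟨?_, h2⟩
        have : x = (c : G) * ((c : G)⁻¹ * x * c) * (c : G)⁻¹ := by group
        rw [this]; exact hMn.conj_mem _ h1 c
    have hP₀K' : P₀ ≤ K' := by rw [← hMK']; exact inf_le_right
    set L := normalizer (P₀ : Set G) with hLdef
    have hHL : H ≤ L := by
      rw [hLdef, Subgroup.le_normalizer_iff]
      exact hHP₀
    have hK'L : K' ≤ L := by
      rw [hLdef, Subgroup.le_normalizer_iff]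
      intro k hk y hy
      rw [← hMK']
      exact ⟨hMn.conj_mem y (hP₀M hy) k, K'.mul_mem (K'.mul_mem hk (hP₀K' hy)) (K'.inv_mem hk)⟩
    -- it suffices to conjugate H to K'
    suffices hsuff : ∃ g : G, MulAut.conj g • H = K' by
      obtain ⟨g, hg⟩ := hsuff
      refine ⟨(c : G)⁻¹ * g, ?_⟩
      rw [← conj_smul_conj_smul, hg, hK'def, conj_smul_conj_smul, inv_mul_cancel, map_one, one_smul]
    by_cases hLtop : L = ⊤
    · -- P₀ is normal in G
      haveI hP₀n : P₀.Normal := Subgroup.normalizer_eq_top_iff.mp hLtop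
      have hlt : Nat.card (G ⧸ P₀) < n := hcard ▸ card_quotient_lt_of_ne_bot hP₀ne
      set π := QuotientGroup.mk' P₀ with hπ
      have hπs : Function.Surjective π := QuotientGroup.mk'_surjective P₀
      haveI : (N.map π).Normal := hNn.map π hπs
      have hcop' : (Nat.card (N.map π)).Coprime (N.map π).index :=
        Nat.Coprime.coprime_dvd_left (Subgroup.card_map_dvd N π)
          (Nat.Coprime.coprime_dvd_right (Subgroup.index_map_dvd N hπs) hcop)
      have hsolv' : Group.IsSolvable (H.map π) :=
        Group.isSolvable_of_surjective (MonoidHom.subgroupMap_surjective π H)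
      obtain ⟨gbar, hgbar⟩ := ih _ hlt (G ⧸ P₀) rfl (N.map π) hcop' (H.map π) (K'.map π)
        (isComplement'_map_mk'_of_le_right hH hP₀H) (isComplement'_map_mk'_of_le_right hK' hP₀K')
        (Or.inr hsolv')
      obtain ⟨g, rfl⟩ := hπs gbar
      have hsup := sup_eq_of_conj_map_mk' g hgbar
      refine ⟨g, ?_⟩
      have h1 : P₀ ≤ MulAut.conj g • H := by
        intro y hy
        rw [mem_conj_smul_iff]
        exact hP₀H (hP₀n.conj_mem' y hy g)
      rw [sup_eq_left.mpr h1, sup_eq_left.mpr hP₀K'] at hsup
      exact hsup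
    · -- work inside L
      have hlt2 : Nat.card L < n := hcard ▸ card_lt_of_ne_top hLtop
      haveI : (N.subgroupOf L).Normal := hNn.subgroupOf L
      have hcH : IsComplement' (N.subgroupOf L) (H.subgroupOf L) := by
        apply isComplement'_subgroupOf hNH hHL
        intro l _
        exact IsComplement'.exists_mul hH l
      have hcK' : IsComplement' (N.subgroupOf L) (K'.subgroupOf L) := by
        apply isComplement'_subgroupOf hNK' hK'L
        intro l _
        exact IsComplement'.exists_mul hK' l
      have hcop2 : (Nat.card (N.subgroupOf L)).Coprime (N.subgroupOf L).index := by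
        have h1 : Nat.card (N.subgroupOf L) ∣ Nat.card N := by
          have : N.subgroupOf L = (N ⊓ L).subgroupOf L := by
            rw [Subgroup.inf_subgroupOf_right]
          rw [this, card_subgroupOf_of_le inf_le_right]
          exact Subgroup.card_dvd_of_le inf_le_left
        have h2 : (N.subgroupOf L).index ∣ N.index := Subgroup.relIndex_dvd_index_of_normal N L
        exact Nat.Coprime.coprime_dvd_left h1 (Nat.Coprime.coprime_dvd_right h2 hcop)
      have hsolv2 : Group.IsSolvable (H.subgroupOf L) :=
        Group.isSolvable_of_isSolvable_injective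
          (f := (Subgroup.subgroupOfEquivOfLe hHL).toMonoidHom)
          (Subgroup.subgroupOfEquivOfLe hHL).injective
      obtain ⟨l, hl⟩ := ih _ hlt2 L rfl (N.subgroupOf L) hcop2 (H.subgroupOf L) (K'.subgroupOf L)
        hcH hcK' (Or.inr hsolv2)
      exact ⟨l, conj_of_conj_subgroupOf hHL hK'L l hl⟩

theorem result {G : Type*} [Group G] [Finite G] (N : Subgroup G) [N.Normal]
    (hN : (Nat.card N).Coprime N.index) (hsolv : Group.IsSolvable N ∨ Group.IsSolvable (G ⧸ N))
    (H K : Subgroup G) (hH : Subgroup.IsComplement' N H) (hK : Subgroup.IsComplement' N K) :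
    ∃ g : G, MulAut.conj g • H = K := by
  apply sz_conj_aux (Nat.card G) G rfl N hN H K hH hK
  rcases hsolv with h | h
  · exact Or.inl h
  · right
    have e : G ⧸ N ≃* H := hH.symm.QuotientMulEquiv
    exact Group.isSolvable_of_isSolvable_injective (f := e.symm.toMonoidHom) e.symm.injective

end Cfsg.Agent.S0001
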