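import Mathlib
import Cfsg.Statements.S0035
import Cfsg.Agent.Lib.Helper1.FrobeniusChar
import Cfsg.Agent.Lib.Helper1.QuotientCard

set_option autoImplicit false
open Cfsg

namespace Cfsg.Agent.S0035

open Cfsg.Agent.Helper1 Cfsg.Agent.Helper24
open scoped Pointwise

universe u

/-- The conjugates of `H` are indexed by the cosets of `H`. -/
theorem conj_smul_eq_out {G : Type u} [Group G] (H : Subgroup G) (x : G) :
    MulAut.conj x • H = MulAut.conj (Quotient.out (QuotientGroup.mk x : G ⧸ H)) • H := by
  have h1 : (QuotientGroup.mk (Quotient.out (QuotientGroup.mk x : G ⧸ H)) : G ⧸ H) =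
      QuotientGroup.mk x := Quotient.out_eq' _
  rw [QuotientGroup.eq] at h1
  set o := Quotient.out (QuotientGroup.mk x : G ⧸ H) with ho
  have hx : x = o * (o⁻¹ * x) := by group
  conv_lhs => rw [hx]
  rw [← conj_smul_conj_smul, Subgroup.conj_smul_eq_self_of_mem h1]

/-- Counting: `G` is covered by a normal subgroup `N` containing all elements outside the
conjugates of `H`, together with the conjugates of `H`. -/
theorem card_le_of_cover {G : Type u} [Group G] [Finite G] (H N : Subgroup G)
    (hcover : ∀ g : G, g ∈ N ∨ ∃ x : G, g ∈ MulAut.conj x • H) :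
    Nat.card G ≤ Nat.card N + H.index * (Nat.card H - 1) := by
  classical
  letI := Fintype.ofFinite G
  letI : Fintype (G ⧸ H) := Fintype.ofFinite _
  let C : G ⧸ H → Finset G := fun q =>
    (Finset.univ.filter (fun g => g ∈ MulAut.conj (Quotient.out q) • H)).erase 1
  have hsub : (Finset.univ : Finset G) ⊆
      Finset.univ.filter (fun g => g ∈ N) ∪ Finset.univ.biUnion C := by
    intro g _
    by_cases hgN : g ∈ N
    · exact Finset.mem_union_left _ (Finset.mem_filter.mpr ⟨Finset.mem_univ _, hgN⟩)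
    · rcases hcover g with h | ⟨x, hx⟩
      · exact absurd h hgN
      · apply Finset.mem_union_right
        rw [Finset.mem_biUnion]
        refine ⟨QuotientGroup.mk x, Finset.mem_univ _, ?_⟩
        rw [Finset.mem_erase]
        refine ⟨fun h1 => hgN (h1 ▸ N.one_mem), Finset.mem_filter.mpr ⟨Finset.mem_univ _, ?_⟩⟩
        rw [← conj_smul_eq_out]; exact hx
  have hC : ∀ q, (C q).card = Nat.card H - 1 := by
    intro q
    have h1 : (1 : G) ∈ Finset.univ.filter (fun g => g ∈ MulAut.conj (Quotient.out q) • H) :=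
      Finset.mem_filter.mpr ⟨Finset.mem_univ _, Subgroup.one_mem _⟩
    rw [Finset.card_erase_of_mem h1]
    congr 1
    rw [← card_conj_smul (Quotient.out q) H, Nat.card_eq_fintype_card, Fintype.card_subtype]
  calc Nat.card G = (Finset.univ : Finset G).card := by
        rw [Finset.card_univ, Nat.card_eq_fintype_card]
    _ ≤ (Finset.univ.filter (fun g => g ∈ N) ∪ Finset.univ.biUnion C).card :=
        Finset.card_le_card hsub
    _ ≤ (Finset.univ.filter (fun g => g ∈ N)).card + (Finset.univ.biUnion C).card :=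
        Finset.card_union_le _ _
    _ ≤ Nat.card N + ∑ q : G ⧸ H, (C q).card := by
        apply Nat.add_le_add
        · rw [Nat.card_eq_fintype_card, Fintype.card_subtype]
        · exact Finset.card_biUnion_le
    _ = Nat.card N + H.index * (Nat.card H - 1) := by
        simp only [hC, Finset.sum_const, Finset.card_univ, smul_eq_mul]
        rw [Subgroup.index, Nat.card_eq_fintype_card (α := G ⧸ H)]

theorem aux {G : Type u} [Group G] [Finite G] (H : Subgroup G) (hH : Cfsg.IsFrobeniusComplement H) :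
    ∃ N : Subgroup G, (N : Set G) = Cfsg.frobeniusKernel H ∧ N.Normal ∧ Subgroup.IsComplement' N H := by
  classical
  letI := Fintype.ofFinite G
  have hex : ∀ ψ : IrrCharacter H, ∃ Ψ : G → ℂ, IsCharacter G Ψ ∧
      (∀ y : H, Ψ (y : G) = (ψ : H → ℂ) y) ∧
      (∀ g : G, (∀ x : G, g ∉ MulAut.conj x • H) → Ψ g = (ψ : H → ℂ) 1) :=
    fun ψ => exists_extension_of_frobenius hH ψ.2
  choose Ψ hΨc hΨy hΨk using hex
  set N : Subgroup G := ⨅ ψ : IrrCharacter H, charKer (hΨc ψ) with hN
  have hmem : ∀ g : G, g ∈ N ↔ ∀ ψ : IrrCharacter H, Ψ ψ g = Ψ ψ 1 := by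
    intro g
    rw [hN, Subgroup.mem_iInf]
    exact Iff.rfl
  have hΨ1 : ∀ ψ : IrrCharacter H, Ψ ψ 1 = (ψ : H → ℂ) 1 := fun ψ => hΨy ψ 1
  haveI hNn : N.Normal := by
    rw [hN]
    haveI : ∀ ψ : IrrCharacter H, (charKer (hΨc ψ)).Normal := fun ψ => charKer_normal _
    exact Subgroup.normal_iInf_normal inferInstance
  have hdisj : N ⊓ H = ⊥ := by
    rw [eq_bot_iff]
    intro y hy
    obtain ⟨hyN, hyH⟩ := Subgroup.mem_inf.mp hy
    have h1 : ∀ ψ : IrrCharacter H, (ψ : H → ℂ) ⟨y, hyH⟩ = (ψ : H → ℂ) 1 := by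
      intro ψ
      rw [← hΨy ψ ⟨y, hyH⟩, ← hΨ1 ψ]
      exact (hmem y).mp hyN ψ
    have h2 := Cfsg.Agent.Helper23.isConj_of_forall_irr_eq (⟨y, hyH⟩ : H) 1 h1
    have h3 : (⟨y, hyH⟩ : H) = 1 := isConj_one_right.mp h2
    rw [Subgroup.mem_bot]
    exact congrArg Subtype.val h3
  have hsub1 : Cfsg.frobeniusKernel H ⊆ (N : Set G) := by
    intro g hg
    rcases hg with rfl | hg
    · exact N.one_mem
    · rw [SetLike.mem_coe, hmem]
      intro ψ
      rw [hΨk ψ g hg, hΨ1 ψ]
  have hsub2 : (N : Set G) ⊆ Cfsg.frobeniusKernel H := by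
    intro g hg
    by_cases hg1 : g = 1
    · exact Or.inl hg1
    · right
      intro x hx
      rw [mem_conj_smul_iff] at hx
      have h1 : x⁻¹ * g * x ∈ N := by
        have := hNn.conj_mem g hg x⁻¹
        rwa [inv_inv] at this
      have h2 : x⁻¹ * g * x ∈ N ⊓ H := Subgroup.mem_inf.mpr ⟨h1, hx⟩
      rw [hdisj, Subgroup.mem_bot] at h2
      apply hg1
      calc g = x * (x⁻¹ * g * x) * x⁻¹ := by group
        _ = 1 := by rw [h2]; group
  refine ⟨N, Set.Subset.antisymm hsub2 hsub1, hNn, ?_⟩
  apply Subgroup.isComplement'_of_card_mul_and_disjoint _ (disjoint_iff.mpr hdisj)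
  -- counting
  have hle : Nat.card N ≤ H.index := by
    have h1 : Nat.card N = H.relIndex N := by
      rw [← Subgroup.relIndex_bot_left, ← hdisj, inf_comm, Subgroup.inf_relIndex_right]
    rw [h1, ← Subgroup.relIndex_top_right]
    apply Subgroup.relIndex_le_of_le_right le_top
    rw [Subgroup.relIndex_top_right]
    exact Subgroup.index_ne_zero_of_finite
  have hcover : ∀ g : G, g ∈ N ∨ ∃ x : G, g ∈ MulAut.conj x • H := by
    intro g
    by_cases h : ∃ x : G, g ∈ MulAut.conj x • H
    · exact Or.inr h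
    · left
      push_neg at h
      exact hsub1 (Or.inr h)
  have hge := card_le_of_cover H N hcover
  have hmul := H.card_mul_index
  have hpos : 0 < Nat.card H := Nat.card_pos
  obtain ⟨m, hm⟩ : ∃ m, Nat.card H = m + 1 := ⟨Nat.card H - 1, by omega⟩
  rw [hm] at hge hmul ⊢
  simp only [Nat.add_sub_cancel] at hge
  have h3 : H.index ≤ Nat.card N := by
    have : (m + 1) * H.index = H.index * m + H.index := by ring
    rw [this] at hmul
    omega
  have h4 : Nat.card N = H.index := le_antisymm hle h3
  rw [h4, ← hmul]; ring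

/-- Frobenius' Theorem: if H is a Frobenius complement in a finite group, the identity together with the elements lying in no conjugate of H form a normal subgroup, which is a complement to H. -/
theorem result {G : Type*} [Group G] [Finite G] (H : Subgroup G) (hH : Cfsg.IsFrobeniusComplement H) :
    ∃ N : Subgroup G, (N : Set G) = Cfsg.frobeniusKernel H ∧ N.Normal ∧ Subgroup.IsComplement' N H := by
  exact aux H hH

end Cfsg.Agent.S0035
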