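import Mathlib
import Cfsg.Statements.S1473
import Cfsg.Agent.Lib.Helper1.Coprime
import Cfsg.Agent.Lib.Helper1.SolvableBasic
import Cfsg.Agent.Lib.Helper7.Coprime
import Cfsg.Agent.Lib.Helper10.Frobenius
import Cfsg.Agent.Lib.Helper14.AxB

set_option autoImplicit false
open Cfsg

namespace Cfsg.Agent.S1473

universe u

/-- In a nilpotent group, elements of coprime finite orders commute. -/
theorem commute_of_coprime_nilpotent (N : Type u) [Group N] [Group.IsNilpotent N] :
    ∀ a b : N, IsOfFinOrder a → IsOfFinOrder b → (orderOf a).Coprime (orderOf b) → a * b = b * a := by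
  refine Group.nilpotent_center_quotient_ind
    (P := fun N _ _ => ∀ a b : N, IsOfFinOrder a → IsOfFinOrder b →
      (orderOf a).Coprime (orderOf b) → a * b = b * a) N ?_ ?_
  · intro N _ _ a b _ _ _
    exact Subsingleton.elim _ _
  · intro N _ _ ih a b ha hb hcop
    have h1 := ih (QuotientGroup.mk' (Subgroup.center N) a) (QuotientGroup.mk' (Subgroup.center N) b)
      (MonoidHom.isOfFinOrder _ ha) (MonoidHom.isOfFinOrder _ hb)
      (Nat.Coprime.coprime_dvd_left (orderOf_map_dvd _ a)
        (Nat.Coprime.coprime_dvd_right (orderOf_map_dvd _ b) hcop))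
    -- z = a b a⁻¹ b⁻¹ is central
    have hz : a * b * a⁻¹ * b⁻¹ ∈ Subgroup.center N := by
      rw [← QuotientGroup.eq_one_iff]
      change QuotientGroup.mk' (Subgroup.center N) (a * b * a⁻¹ * b⁻¹) = 1
      rw [map_mul, map_mul, map_mul, h1, map_inv, map_inv]
      group
    set z := a * b * a⁻¹ * b⁻¹ with hzdef
    have hzc : ∀ g : N, g * z = z * g := fun g => (Subgroup.mem_center_iff.mp hz g)
    -- (z b)^n = z^n b^n
    have hab : a * b * a⁻¹ = z * b := by rw [hzdef]; group
    have h2 : z ^ orderOf b = 1 := by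
      have h3 : (z * b) ^ orderOf b = z ^ orderOf b * b ^ orderOf b :=
        (Commute.mul_pow (show Commute z b from (hzc b).symm) _)
      have h4 : (a * b * a⁻¹) ^ orderOf b = 1 := by
        rw [conj_pow, pow_orderOf_eq_one]; group
      rw [hab, h3, pow_orderOf_eq_one, mul_one] at h4
      exact h4
    have hba : b * a⁻¹ * b⁻¹ = a⁻¹ * z := by
      rw [hzdef]; group
    have h5 : z ^ orderOf a = 1 := by
      have h3 : (a⁻¹ * z) ^ orderOf a = a⁻¹ ^ orderOf a * z ^ orderOf a :=
        (Commute.mul_pow (show Commute a⁻¹ z from hzc a⁻¹) _)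
      have h4 : (b * a⁻¹ * b⁻¹) ^ orderOf a = 1 := by
        rw [conj_pow, inv_pow, pow_orderOf_eq_one]; group
      rw [hba, h3, inv_pow, pow_orderOf_eq_one, inv_one, one_mul] at h4
      exact h4
    have h6 : orderOf z ∣ 1 := by
      rw [← Nat.Coprime.gcd_eq_one hcop]
      exact Nat.dvd_gcd (orderOf_dvd_of_pow_eq_one h5) (orderOf_dvd_of_pow_eq_one h2)
    have h7 : z = 1 := orderOf_eq_one_iff.mp (Nat.dvd_one.mp h6)
    calc a * b = (a * b * a⁻¹ * b⁻¹) * (b * a) := by group
      _ = b * a := by rw [← hzdef, h7, one_mul]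

section aux

variable {G : Type u} [Group G]

/-- Elements of coprime orders in a nilpotent subgroup commute. -/
theorem commute_of_mem_nilpotent [Finite G] {N : Subgroup G} (hN : Group.IsNilpotent N) {a b : G}
    (ha : a ∈ N) (hb : b ∈ N) (hcop : (orderOf a).Coprime (orderOf b)) : a * b = b * a := by
  have h1 := commute_of_coprime_nilpotent N ⟨a, ha⟩ ⟨b, hb⟩ (isOfFinOrder_of_finite _)
    (isOfFinOrder_of_finite _)
    (by rw [Subgroup.orderOf_mk, Subgroup.orderOf_mk]; exact hcop)
  exact congrArg Subtype.val h1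

/-- The image of a nilpotent subgroup is nilpotent. -/
theorem isNilpotent_map {G' : Type*} [Group G'] (f : G →* G') {N : Subgroup G}
    (hN : Group.IsNilpotent N) : Group.IsNilpotent (N.map f) :=
  Group.nilpotent_of_surjective (f.subgroupMap N) (f.subgroupMap_surjective N)

/-- The CN property is invariant under isomorphism. -/
theorem isCNGroup_of_mulEquiv {X Y : Type*} [Group X] [Group Y] (e : X ≃* Y)
    (hX : Cfsg.IsCNGroup X) : Cfsg.IsCNGroup Y := by
  intro y hy
  have hx : e.symm y ≠ 1 := by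
    intro h
    apply hy
    have := congrArg e h
    rwa [e.apply_symm_apply, map_one] at this
  have h1 := isNilpotent_map e.toMonoidHom (hX (e.symm y) hx)
  refine Helper7.isNilpotent_of_le ?_ h1
  intro g hg
  rw [Subgroup.mem_centralizer_singleton_iff] at hg
  refine ⟨e.symm g, ?_, by simp⟩
  show e.symm g ∈ Subgroup.centralizer {e.symm y}
  rw [Subgroup.mem_centralizer_singleton_iff, ← map_mul, hg, map_mul]

end aux

section stepA

variable {G : Type u} [Group G] [Finite G]

theorem orderOf_dvd_of_isPGroup {p : ℕ} {P : Subgroup G} (hP : IsPGroup p P) {x : G} (hx : x ∈ P) :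
    ∃ k : ℕ, orderOf x ∣ p ^ k := by
  obtain ⟨k, hk⟩ := hP ⟨x, hx⟩
  refine ⟨k, orderOf_dvd_of_pow_eq_one ?_⟩
  have := congrArg Subtype.val hk
  simpa only [SubgroupClass.coe_pow, OneMemClass.coe_one] using this

theorem pow_card_eq_one_of_mem (H : Subgroup G) {x : G} (hx : x ∈ H) :
    x ^ Nat.card H = 1 := by
  have h := pow_card_eq_one' (G := H) (x := ⟨x, hx⟩)
  have := congrArg (Subtype.val) h
  simpa only [SubgroupClass.coe_pow, OneMemClass.coe_one] using this

theorem mem_of_quot_comm (A : Subgroup G) [A.Normal] {g a : G}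
    (h : (QuotientGroup.mk' A g) * (QuotientGroup.mk' A a)
      = (QuotientGroup.mk' A a) * (QuotientGroup.mk' A g)) :
    g⁻¹ * a * g * a⁻¹ ∈ A := by
  rw [← QuotientGroup.eq_one_iff]
  change QuotientGroup.mk' A (g⁻¹ * a * g * a⁻¹) = 1
  simp only [map_mul, map_inv]
  calc (QuotientGroup.mk' A g)⁻¹ * QuotientGroup.mk' A a * QuotientGroup.mk' A g
        * (QuotientGroup.mk' A a)⁻¹
      = (QuotientGroup.mk' A g)⁻¹ * (QuotientGroup.mk' A a * QuotientGroup.mk' A g)
        * (QuotientGroup.mk' A a)⁻¹ := by group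
    _ = (QuotientGroup.mk' A g)⁻¹ * (QuotientGroup.mk' A g * QuotientGroup.mk' A a)
        * (QuotientGroup.mk' A a)⁻¹ := by rw [h]
    _ = 1 := by group

theorem quot_comm_zpowers (A : Subgroup G) [A.Normal] {u : G ⧸ A} {w b : G}
    (h : u * QuotientGroup.mk' A w = QuotientGroup.mk' A w * u) (hb : b ∈ Subgroup.zpowers w) :
    u * QuotientGroup.mk' A b = QuotientGroup.mk' A b * u := by
  obtain ⟨k, rfl⟩ := Subgroup.mem_zpowers_iff.mp hb
  rw [map_zpow]
  exact (Commute.zpow_right (show Commute u (QuotientGroup.mk' A w) from h) k)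

theorem isSolvable_of_isMulCommutative (A : Subgroup G) [hA : IsMulCommutative A] :
    Group.IsSolvable A :=
  isSolvable_of_comm (fun a b => hA.is_comm.comm a b)

theorem case_ne (hCN : Cfsg.IsCNGroup G) (A : Subgroup G) [A.Normal] [IsMulCommutative A] {p : ℕ}
    [Fact p.Prime] (hA : IsPGroup p A) (xbar : G ⧸ A) {q : ℕ} (hq : q.Prime)
    (hxq : orderOf xbar = q) (hqp : q ≠ p) :
    Group.IsNilpotent (Subgroup.centralizer ({xbar} : Set (G ⧸ A))) := by
  have hp : p.Prime := Fact.out
  obtain ⟨x, rfl⟩ := QuotientGroup.mk'_surjective A xbar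
  obtain ⟨a, ha⟩ := hA.exists_card_eq
  have hcop : (p ^ a).Coprime q := Nat.Coprime.pow_left a ((Nat.coprime_primes hp hq).mpr (Ne.symm hqp))
  obtain ⟨t, -, ht⟩ := Nat.exists_mul_mod_eq_one_of_coprime hcop hq.one_lt
  set x' := x ^ (p ^ a * t) with hx'
  have hπx' : QuotientGroup.mk' A x' = QuotientGroup.mk' A x := by
    rw [hx', map_pow, ← pow_mod_orderOf, hxq, ht, pow_one]
  have hx'q : x' ^ q = 1 := by
    have h1 : x ^ q ∈ A := by
      rw [← QuotientGroup.eq_one_iff]
      change QuotientGroup.mk' A (x ^ q) = 1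
      rw [map_pow, ← hxq, pow_orderOf_eq_one]
    have h2 : (x ^ q) ^ (p ^ a) = 1 := by
      rw [← ha]; exact pow_card_eq_one_of_mem A h1
    calc x' ^ q = ((x ^ q) ^ (p ^ a)) ^ t := by
          rw [hx', ← pow_mul, ← pow_mul, ← pow_mul]; congr 1; ring
      _ = 1 := by rw [h2, one_pow]
  have hx'1 : x' ≠ 1 := by
    intro h
    have h1 : QuotientGroup.mk' A x = 1 := by rw [← hπx', h, map_one]
    rw [h1, orderOf_one] at hxq
    exact hq.one_lt.ne hxq
  have hox' : orderOf x' ∣ q := orderOf_dvd_of_pow_eq_one hx'q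
  have hcard : (Nat.card (Subgroup.zpowers x')).Coprime (Nat.card A) := by
    rw [Nat.card_zpowers, ha]
    exact Nat.Coprime.coprime_dvd_left hox' hcop.symm
  have hnil := hCN x' hx'1
  refine Helper7.isNilpotent_of_le ?_ (isNilpotent_map (QuotientGroup.mk' A) hnil)
  intro gbar hg
  obtain ⟨g, rfl⟩ := QuotientGroup.mk'_surjective A gbar
  rw [Subgroup.mem_centralizer_singleton_iff] at hg
  have hg' : QuotientGroup.mk' A g * QuotientGroup.mk' A x'
      = QuotientGroup.mk' A x' * QuotientGroup.mk' A g := by rw [hπx']; exact hg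
  obtain ⟨c, hc, hgc⟩ := Helper1.exists_centralizer_mem_coset A (Subgroup.zpowers x')
    (by rw [Subgroup.normalizer_eq_top]; exact le_top) hcard
    (Or.inr (isSolvable_of_isMulCommutative A)) g
    (fun b hb => mem_of_quot_comm A (quot_comm_zpowers A hg' hb))
  refine ⟨c, ?_, ?_⟩
  · show c ∈ Subgroup.centralizer {x'}
    rw [Subgroup.mem_centralizer_singleton_iff]
    exact ((Subgroup.mem_centralizer_iff.mp hc) x' (Subgroup.mem_zpowers x')).symm
  · symm
    exact QuotientGroup.eq.mpr hgc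

theorem case_eq (hCN : Cfsg.IsCNGroup G) (A : Subgroup G) [A.Normal] [hAc : IsMulCommutative A]
    {p : ℕ} [Fact p.Prime] (hA : IsPGroup p A) (hAne : A ≠ ⊥) (xbar : G ⧸ A)
    (hxp : orderOf xbar = p) :
    Group.IsNilpotent (Subgroup.centralizer ({xbar} : Set (G ⧸ A))) := by
  have hp : p.Prime := Fact.out
  set L : Subgroup G := (Subgroup.centralizer ({xbar} : Set (G ⧸ A))).comap (QuotientGroup.mk' A)
    with hL
  have hAcomm : ∀ a ∈ A, ∀ b ∈ A, a * b = b * a := fun a ha b hb =>
    congrArg Subtype.val (hAc.is_comm.comm (⟨a, ha⟩ : A) ⟨b, hb⟩)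
  have hAcent : A ≤ Subgroup.centralizer (A : Set G) := by
    intro a ha
    rw [Subgroup.mem_centralizer_iff]
    intro b hb
    exact hAcomm b hb a ha
  have hAtop : ∀ D : Subgroup G, D ≤ Subgroup.normalizer (A : Set G) := by
    intro D
    rw [Subgroup.normalizer_eq_top]; exact le_top
  have sub1 : ∀ y ∈ L, (orderOf y).Coprime p → y ∈ Subgroup.centralizer (A : Set G) := by
    intro y hy hyp
    obtain ⟨x, hx⟩ := QuotientGroup.mk'_surjective A xbar
    have hyx : QuotientGroup.mk' A y * QuotientGroup.mk' A x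
        = QuotientGroup.mk' A x * QuotientGroup.mk' A y := by
      rw [hx]
      exact Subgroup.mem_centralizer_singleton_iff.mp hy
    obtain ⟨a, ha⟩ := hA.exists_card_eq
    have hcard : (Nat.card (Subgroup.zpowers y)).Coprime (Nat.card A) := by
      rw [Nat.card_zpowers, ha]; exact Nat.Coprime.pow_right a hyp
    obtain ⟨c, hc, hxc⟩ := Helper1.exists_centralizer_mem_coset A (Subgroup.zpowers y)
      (hAtop _) hcard (Or.inr (isSolvable_of_isMulCommutative A)) x
      (fun b hb => mem_of_quot_comm A (quot_comm_zpowers A hyx.symm hb))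
    have hyc : y * c = c * y := (Subgroup.mem_centralizer_iff.mp hc) y (Subgroup.mem_zpowers y)
    have hπc : QuotientGroup.mk' A c = xbar := by
      rw [← hx]; symm; exact QuotientGroup.eq.mpr hxc
    have hc1 : c ≠ 1 := by
      intro h
      rw [h, map_one] at hπc
      rw [← hπc, orderOf_one] at hxp
      exact hp.one_lt.ne hxp
    have hcp : c ^ p ∈ A := by
      rw [← QuotientGroup.eq_one_iff]
      change QuotientGroup.mk' A (c ^ p) = 1
      rw [map_pow, hπc, ← hxp, pow_orderOf_eq_one]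
    have hpc : Helper14.PowCond p (Subgroup.zpowers c) (Subgroup.centralizer (A : Set G)) := by
      intro d hd
      obtain ⟨k, rfl⟩ := Subgroup.mem_zpowers_iff.mp hd
      refine ⟨1, ?_⟩
      have : (c ^ k) ^ p ^ 1 = (c ^ p) ^ k := by
        rw [pow_one, ← zpow_natCast, ← zpow_mul, mul_comm, zpow_mul, zpow_natCast]
      rw [this]
      exact hAcent (A.zpow_mem hcp k)
    have hne := Helper14.inf_centralizer_ne_bot_of_powCond hA hAne (hAtop _) hpc
    obtain ⟨z, hz1⟩ := (Subgroup.ne_bot_iff_exists_ne_one).mp hne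
    have hzA : (z : G) ∈ A := (Subgroup.mem_inf.mp z.2).1
    have hzc : (z : G) ∈ Subgroup.centralizer (Subgroup.zpowers c : Set G) :=
      (Subgroup.mem_inf.mp z.2).2
    have hz_ne : (z : G) ≠ 1 := fun h => hz1 (Subtype.ext h)
    have hcz : c * (z : G) = (z : G) * c :=
      (Subgroup.mem_centralizer_iff.mp hzc) c (Subgroup.mem_zpowers c)
    have hnc := hCN c hc1
    have hy_in : y ∈ Subgroup.centralizer ({c} : Set G) :=
      Subgroup.mem_centralizer_singleton_iff.mpr hyc
    have hz_in : (z : G) ∈ Subgroup.centralizer ({c} : Set G) :=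
      Subgroup.mem_centralizer_singleton_iff.mpr hcz.symm
    obtain ⟨kz, hkz⟩ := orderOf_dvd_of_isPGroup hA hzA
    have hyz : y * (z : G) = (z : G) * y := commute_of_mem_nilpotent hnc hy_in hz_in
      (Nat.Coprime.coprime_dvd_right hkz (Nat.Coprime.pow_right kz hyp))
    have hnz := hCN (z : G) hz_ne
    have hy_in' : y ∈ Subgroup.centralizer ({(z : G)} : Set G) :=
      Subgroup.mem_centralizer_singleton_iff.mpr hyz
    rw [Subgroup.mem_centralizer_iff]
    intro b hb
    have hb_in : b ∈ Subgroup.centralizer ({(z : G)} : Set G) :=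
      Subgroup.mem_centralizer_singleton_iff.mpr (hAcomm b hb z hzA)
    obtain ⟨kb, hkb⟩ := orderOf_dvd_of_isPGroup hA hb
    exact (commute_of_mem_nilpotent hnz hy_in' hb_in
      (Nat.Coprime.coprime_dvd_right hkb (Nat.Coprime.pow_right kb hyp))).symm
  have hpc2 : Helper14.PowCond p L (Subgroup.centralizer (A : Set G)) := by
    intro d hd
    obtain ⟨e, he⟩ := Helper10.exists_pow_coprime_order (p := p) d
    exact ⟨e, sub1 _ (L.pow_mem hd _) he⟩
  have hne2 := Helper14.inf_centralizer_ne_bot_of_powCond hA hAne (hAtop _) hpc2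
  obtain ⟨z₁, hz₁⟩ := (Subgroup.ne_bot_iff_exists_ne_one).mp hne2
  have hz₁_ne : (z₁ : G) ≠ 1 := fun h => hz₁ (Subtype.ext h)
  have hz₁L : (z₁ : G) ∈ Subgroup.centralizer (L : Set G) := (Subgroup.mem_inf.mp z₁.2).2
  have hLle : L ≤ Subgroup.centralizer ({(z₁ : G)} : Set G) := by
    intro g hg
    rw [Subgroup.mem_centralizer_singleton_iff]
    exact (Subgroup.mem_centralizer_iff.mp hz₁L) g hg
  have hLnil : Group.IsNilpotent L := Helper7.isNilpotent_of_le hLle (hCN _ hz₁_ne)
  refine Helper7.isNilpotent_of_le ?_ (isNilpotent_map (QuotientGroup.mk' A) hLnil)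
  intro gbar hg
  obtain ⟨g, rfl⟩ := QuotientGroup.mk'_surjective A gbar
  exact ⟨g, hg, rfl⟩

theorem stepA (hCN : Cfsg.IsCNGroup G) (A : Subgroup G) [A.Normal] [IsMulCommutative A] {p : ℕ}
    [Fact p.Prime] (hA : IsPGroup p A) (hAne : A ≠ ⊥) : Cfsg.IsCNGroup (G ⧸ A) := by
  intro xbar hx
  have hm : orderOf xbar ≠ 1 := fun h => hx (orderOf_eq_one_iff.mp h)
  have hm0 : orderOf xbar ≠ 0 := (orderOf_pos xbar).ne'
  have hq : (orderOf xbar).minFac.Prime := Nat.minFac_prime hm
  have hqd : (orderOf xbar).minFac ∣ orderOf xbar := Nat.minFac_dvd _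
  have hyq : orderOf (xbar ^ (orderOf xbar / (orderOf xbar).minFac)) = (orderOf xbar).minFac :=
    orderOf_pow_orderOf_div hm0 hqd
  have hle : Subgroup.centralizer ({xbar} : Set (G ⧸ A))
      ≤ Subgroup.centralizer ({xbar ^ (orderOf xbar / (orderOf xbar).minFac)} : Set (G ⧸ A)) := by
    intro g hg
    rw [Subgroup.mem_centralizer_singleton_iff] at hg ⊢
    exact (Commute.pow_right (show Commute g xbar from hg) _)
  refine Helper7.isNilpotent_of_le hle ?_
  by_cases hqp : (orderOf xbar).minFac = p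
  · exact case_eq hCN A hA hAne _ (hqp ▸ hyq)
  · exact case_ne hCN A hA _ hq hyq hqp

end stepA

section stepB

variable {G : Type u} [Group G]

/-- The `p`-torsion subgroup of an abelian subgroup. -/
def torsionSub (A : Subgroup G) (hA : ∀ a ∈ A, ∀ b ∈ A, a * b = b * a) (p : ℕ) : Subgroup G where
  carrier := {a | a ∈ A ∧ a ^ p = 1}
  one_mem' := ⟨A.one_mem, one_pow p⟩
  mul_mem' := by
    rintro a b ⟨ha, hap⟩ ⟨hb, hbp⟩
    refine ⟨A.mul_mem ha hb, ?_⟩
    rw [(show Commute a b from hA a ha b hb).mul_pow, hap, hbp, one_mul]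
  inv_mem' := by
    rintro a ⟨ha, hap⟩
    exact ⟨A.inv_mem ha, by rw [inv_pow, hap, inv_one]⟩

theorem mem_torsionSub {A : Subgroup G} {hA : ∀ a ∈ A, ∀ b ∈ A, a * b = b * a} {p : ℕ} {a : G} :
    a ∈ torsionSub A hA p ↔ a ∈ A ∧ a ^ p = 1 := Iff.rfl

theorem exists_normal_abelian_pSubgroup [Finite G] (H : Subgroup G) [H.Normal]
    (hH : Group.IsSolvable H) (hne : H ≠ ⊥) :
    ∃ (p : ℕ) (_ : Fact p.Prime) (P : Subgroup G), P ≤ H ∧ P.Normal ∧ IsMulCommutative P ∧
      IsPGroup p P ∧ P ≠ ⊥ := by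
  haveI : Nontrivial H := (Subgroup.nontrivial_iff_ne_bot H).mpr hne
  obtain ⟨A₀, hA₀char, hA₀ne, hA₀c⟩ := Helper1.exists_normal_abelian_of_solvable H
  haveI := hA₀char
  have hA₁n : (A₀.map H.subtype).Normal := ConjAct.normal_of_characteristic_of_normal
  have hA₁H : A₀.map H.subtype ≤ H := by
    rintro _ ⟨a, _, rfl⟩
    exact a.2
  have hA₁c : ∀ a ∈ A₀.map H.subtype, ∀ b ∈ A₀.map H.subtype, a * b = b * a := by
    rintro _ ⟨a, ha, rfl⟩ _ ⟨b, hb, rfl⟩
    have h1 := hA₀c.is_comm.comm (⟨a, ha⟩ : A₀) ⟨b, hb⟩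
    have h2 : a * b = b * a := congrArg Subtype.val h1
    exact congrArg Subtype.val h2
  have hA₁ne : A₀.map H.subtype ≠ ⊥ := by
    intro hbot
    apply hA₀ne
    rw [eq_bot_iff]
    intro x hx
    have : H.subtype x ∈ A₀.map H.subtype := Subgroup.mem_map_of_mem _ hx
    rw [hbot, Subgroup.mem_bot] at this
    rw [Subgroup.mem_bot]
    exact Subtype.ext this
  have hcard : Nat.card (A₀.map H.subtype : Subgroup G) ≠ 1 :=
    fun h => hA₁ne (Subgroup.card_eq_one.mp h)
  obtain ⟨p, hp, hpA⟩ := Nat.exists_prime_and_dvd hcard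
  haveI : Fact p.Prime := ⟨hp⟩
  obtain ⟨x, hx⟩ := exists_prime_orderOf_dvd_card' (G := (A₀.map H.subtype : Subgroup G)) p hpA
  refine ⟨p, ⟨hp⟩, torsionSub (A₀.map H.subtype) hA₁c p, ?_, ?_, ?_, ?_, ?_⟩
  · intro a ha
    exact hA₁H (mem_torsionSub.mp ha).1
  · constructor
    intro a ha g
    obtain ⟨ha1, ha2⟩ := mem_torsionSub.mp ha
    refine mem_torsionSub.mpr ⟨hA₁n.conj_mem a ha1 g, ?_⟩
    rw [conj_pow, ha2]; group
  · exact ⟨⟨fun a b => Subtype.ext
      (hA₁c a (mem_torsionSub.mp a.2).1 b (mem_torsionSub.mp b.2).1)⟩⟩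
  · intro a
    refine ⟨1, ?_⟩
    rw [pow_one]
    apply Subtype.ext
    have := (mem_torsionSub.mp a.2).2
    simpa only [SubgroupClass.coe_pow, OneMemClass.coe_one] using this
  · intro hbot
    have hxo : orderOf (x : G) = p := by rw [Subgroup.orderOf_coe]; exact hx
    have h1 : (x : G) ∈ torsionSub (A₀.map H.subtype) hA₁c p :=
      mem_torsionSub.mpr ⟨x.2, by rw [← hxo]; exact pow_orderOf_eq_one _⟩
    rw [hbot, Subgroup.mem_bot] at h1
    rw [h1, orderOf_one] at hxo
    exact hp.one_lt.ne hxo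

theorem cn_quotient_aux : ∀ n : ℕ, ∀ (G : Type u) [Group G] [Finite G], Cfsg.IsCNGroup G →
    ∀ (H : Subgroup G) [H.Normal], Group.IsSolvable H → Nat.card H = n →
      Cfsg.IsCNGroup (G ⧸ H) := by
  intro n
  induction n using Nat.strong_induction_on with
  | _ n ih =>
    intro G _ _ hCN H _ hH hn
    by_cases hbot : H = ⊥
    · subst hbot
      exact isCNGroup_of_mulEquiv (QuotientGroup.quotientBot).symm hCN
    · obtain ⟨p, hpf, P, hPH, hPn, hPc, hPp, hPne⟩ := exists_normal_abelian_pSubgroup H hH hbot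
      haveI := hpf
      haveI := hPn
      haveI := hPc
      have hCN' : Cfsg.IsCNGroup (G ⧸ P) := stepA hCN P hPp hPne
      haveI hH'n : (H.map (QuotientGroup.mk' P)).Normal :=
        Subgroup.Normal.map inferInstance _ (QuotientGroup.mk'_surjective P)
      have hH' : Group.IsSolvable (H.map (QuotientGroup.mk' P)) :=
        Group.isSolvable_of_surjective (f := (QuotientGroup.mk' P).subgroupMap H)
          ((QuotientGroup.mk' P).subgroupMap_surjective H)
      have hcard : Nat.card (H.map (QuotientGroup.mk' P)) < n := by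
        have h1 := Helper1.card_map_mk'_of_le P hPH
        have h2 : 1 < Nat.card P := (Subgroup.one_lt_card_iff_ne_bot _).mpr hPne
        have h3 : 0 < Nat.card (H.map (QuotientGroup.mk' P)) := Nat.card_pos
        rw [hn] at h1
        nlinarith
      have h4 := ih (Nat.card (H.map (QuotientGroup.mk' P))) hcard (G ⧸ P) hCN'
        (H.map (QuotientGroup.mk' P)) hH' rfl
      exact isCNGroup_of_mulEquiv (QuotientGroup.quotientQuotientEquivQuotient P H hPH) h4

end stepB

/-- Let G be a finite group in which the centralizer of every non-identity element is nilpotent, and H a solvable normal subgroup of G. Then in G/H the centralizer of every non-identity element is nilpotent. -/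
theorem result {G : Type*} [Group G] [Finite G] (hCN : Cfsg.IsCNGroup G) (H : Subgroup G) [H.Normal] (hH : Group.IsSolvable H) :
    Cfsg.IsCNGroup (G ⧸ H) :=
  cn_quotient_aux (Nat.card H) G hCN H hH rfl

end Cfsg.Agent.S1473
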