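import Mathlib
import Cfsg.Statements.S0079
import Cfsg.Agent.Lib.Helper1.Tate
import Cfsg.Agent.Lib.Helper1.HallNormalComplement
import Cfsg.Agent.S1473

set_option autoImplicit false
open Cfsg

namespace Cfsg.Agent.S0079

open Subgroup

/-- In a nilpotent finite group `H` with Sylow `p`-subgroup `Q`, conjugation by any element agrees on
`Q` with conjugation by an element of `Q`. -/
theorem exists_conj_eq_of_nilpotent {H : Type*} [Group H] [Finite H] [hH : Group.IsNilpotent H]
    {p : ℕ} [Fact p.Prime] (Q : Sylow p H) (h : H) :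
    ∃ q ∈ (Q : Subgroup H), ∀ x ∈ (Q : Subgroup H), h * x * h⁻¹ = q * x * q⁻¹ := by
  have hp : p.Prime := Fact.out
  have hQn : (Q : Subgroup H).Normal := by
    have htfae := (Group.isNilpotent_of_finite_tfae (G := H)).out 0 3
    have h3 := htfae.mp hH
    exact h3 p inferInstance Q
  obtain ⟨C, hC⟩ := Subgroup.exists_right_complement'_of_coprime Q.card_coprime_index
  have hh : h ∈ (Q : Subgroup H) ⊔ C := by rw [hC.sup_eq_top]; exact mem_top h
  obtain ⟨q, c, hc, rfl⟩ := Cfsg.Agent.Helper1.exists_mul_of_mem_normal_sup (Q : Subgroup H) C hh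
  refine ⟨q, q.2, ?_⟩
  intro x hx
  have hcardC : Nat.card C = (Q : Subgroup H).index := hC.symm.index_eq_card.symm
  have hcop : (orderOf c).Coprime (orderOf x) := by
    have h1 : orderOf c ∣ Nat.card C := by
      have := orderOf_dvd_natCard (⟨c, hc⟩ : C)
      rwa [Subgroup.orderOf_mk] at this
    obtain ⟨k, hk⟩ := Q.2 ⟨x, hx⟩
    have h2 : orderOf x ∣ p ^ k := by
      apply orderOf_dvd_of_pow_eq_one
      have := congrArg Subtype.val hk
      simpa using this
    rw [hcardC] at h1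
    have h3 : ((Q : Subgroup H).index).Coprime (p ^ k) :=
      Nat.Coprime.pow_right k ((Nat.Prime.coprime_iff_not_dvd hp).mpr Q.not_dvd_index).symm
    exact Nat.Coprime.coprime_dvd_left h1 (Nat.Coprime.coprime_dvd_right h2 h3)
  have hcomm : c * x = x * c :=
    Cfsg.Agent.S1473.commute_of_coprime_nilpotent H c x (isOfFinOrder_of_finite _)
      (isOfFinOrder_of_finite _) hcop
  calc (q : H) * c * x * ((q : H) * c)⁻¹ = q * (c * x) * c⁻¹ * (q : H)⁻¹ := by group
    _ = q * (x * c) * c⁻¹ * (q : H)⁻¹ := by rw [hcomm]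
    _ = q * x * (q : H)⁻¹ := by group

/-- A nilpotent Hall subgroup has a normal complement exactly when elements of it that are conjugate in the whole group are already conjugate inside it. -/
theorem result {G : Type*} [Group G] [Finite G] (H : Subgroup G) (hH : Group.IsNilpotent H) (hHall : Nat.Coprime (Nat.card H) H.index) : (∃ N : Subgroup G, N.Normal ∧ N.IsComplement' H) ↔ ∀ x ∈ H, ∀ y ∈ H, (∃ g : G, g * x * g⁻¹ = y) → ∃ h ∈ H, h * x * h⁻¹ = y := by
  constructor
  · rintro ⟨N, hNn, hNH⟩ x hx y hy ⟨g, rfl⟩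
    have hg : g ∈ N ⊔ H := by rw [hNH.sup_eq_top]; exact mem_top g
    obtain ⟨n, h, hh, rfl⟩ := Cfsg.Agent.Helper1.exists_mul_of_mem_normal_sup N H hg
    refine ⟨h, hh, ?_⟩
    set x' := h * x * h⁻¹ with hx'
    have hx'H : x' ∈ H := H.mul_mem (H.mul_mem hh hx) (H.inv_mem hh)
    have e : (n : G) * h * x * ((n : G) * h)⁻¹ = n * x' * (n : G)⁻¹ := by rw [hx']; group
    rw [e] at hy ⊢
    have h1 : (n : G) * x' * (n : G)⁻¹ * x'⁻¹ ∈ N := by
      have : (n : G) * x' * (n : G)⁻¹ * x'⁻¹ = n * (x' * (n : G)⁻¹ * x'⁻¹) := by group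
      rw [this]
      exact N.mul_mem n.2 (hNn.conj_mem _ (N.inv_mem n.2) x')
    have h2 : (n : G) * x' * (n : G)⁻¹ * x'⁻¹ ∈ H := H.mul_mem hy (H.inv_mem hx'H)
    have h3 : (n : G) * x' * (n : G)⁻¹ * x'⁻¹ ∈ N ⊓ H := ⟨h1, h2⟩
    rw [disjoint_iff.mp hNH.disjoint, mem_bot] at h3
    exact (mul_inv_eq_one.mp h3).symm
  · intro hc
    apply Cfsg.Agent.Helper1.exists_normal_complement_of_forall_pResidual H hHall
    intro p hp hpH
    haveI : Fact p.Prime := ⟨hp⟩
    haveI : Group.IsNilpotent H := hH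
    obtain ⟨Q⟩ := (inferInstance : Nonempty (Sylow p H))
    set P₀ : Subgroup G := (Q : Subgroup H).map H.subtype with hP₀
    have hP₀H : P₀ ≤ H := Subgroup.map_subtype_le _
    have hP₀p : IsPGroup p P₀ := Q.2.map H.subtype
    have hidx : ¬ p ∣ P₀.index := by
      rw [hP₀, Subgroup.index_map_subtype]
      intro hd
      rcases (Nat.Prime.dvd_mul hp).mp hd with h1 | h1
      · exact Q.not_dvd_index h1
      · have := Nat.Coprime.eq_one_of_dvd (Nat.Coprime.coprime_dvd_left hpH hHall) h1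
        exact hp.one_lt.ne' this
    set P : Sylow p G := hP₀p.toSylow hidx with hP
    have hPcoe : (P : Subgroup G) = P₀ := rfl
    apply Cfsg.Agent.Helper1.not_dvd_card_pResidual_of_control P
    intro x hx u hu
    rw [hPcoe] at hx hu ⊢
    obtain ⟨h, hh, hhx⟩ := hc x (hP₀H hx) _ (hP₀H hu) ⟨u, rfl⟩
    obtain ⟨q, hq, hqx⟩ := exists_conj_eq_of_nilpotent Q (⟨h, hh⟩ : H)
    obtain ⟨x', hx', rfl⟩ := hx
    refine ⟨(q : G), ⟨q, hq, rfl⟩, ?_⟩
    rw [← hhx]
    have := congrArg Subtype.val (hqx x' hx')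
    simpa using this.symm

end Cfsg.Agent.S0079
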