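import Mathlib
import Cfsg.Statements.S0087
import Cfsg.Agent.S0079
import Cfsg.Agent.S0001
import Cfsg.Agent.Lib.Helper1.Complement
import Cfsg.Agent.Lib.Helper1.QuotientCard

set_option autoImplicit false
open Cfsg

namespace Cfsg.Agent.S0087

open Subgroup
open scoped Pointwise

universe u

theorem mem_normalizer_of_forall {G : Type*} [Group G] [Finite G] {A : Subgroup G} {x : G}
    (h : ∀ a ∈ A, x * a * x⁻¹ ∈ A) : x ∈ Subgroup.normalizer (A : Set G) := by
  rw [Subgroup.mem_normalizer_iff]
  intro a
  refine ⟨h a, fun ha => ?_⟩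
  let f : A → A := fun a => ⟨x * a * x⁻¹, h a a.2⟩
  have hinj : Function.Injective f := by
    intro a1 a2 h12
    have := congrArg Subtype.val h12
    simp only [f] at this
    exact Subtype.ext (by simpa using this)
  have hsurj := Finite.surjective_of_injective hinj
  obtain ⟨a0, ha0⟩ := hsurj ⟨x * a * x⁻¹, ha⟩
  have h2 := congrArg Subtype.val ha0
  simp only [f] at h2
  have h3 : (a0 : G) = a := by simpa using h2
  rw [← h3]; exact a0.2

theorem aux : ∀ (n : ℕ) (G : Type u) [Group G] [Finite G], Nat.card G = n →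
    ∀ H : Subgroup G, Nat.Coprime (Nat.card H) H.index →
    Subgroup.normalizer (H : Set G) ≤ Subgroup.centralizer (H : Set G) →
    ∃ N : Subgroup G, N.Normal ∧ N.IsComplement' H := by
  intro n
  induction n using Nat.strong_induction_on with
  | _ n ih =>
  intro G _ _ hn H hHall h
  have hHc : H ≤ centralizer (H : Set G) := le_trans le_normalizer h
  have hcomm : ∀ a ∈ H, ∀ b ∈ H, a * b = b * a := by
    intro a ha b hb
    exact (mem_centralizer_iff.mp (hHc hb) a ha)
  haveI : IsMulCommutative H := ⟨⟨fun a b => Subtype.ext (hcomm a a.2 b b.2)⟩⟩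
  have hnil : Group.IsNilpotent H := by
    letI : CommGroup H := { (inferInstance : Group H) with mul_comm := fun a b => Subtype.ext (hcomm a a.2 b b.2) }
    infer_instance
  rw [Cfsg.Agent.S0079.result H hnil hHall]
  rintro x hx y hy ⟨g, hg⟩
  refine ⟨1, H.one_mem, ?_⟩
  rw [one_mul, inv_one, mul_one]
  -- the fusion claim: y = x
  set C : Subgroup G := centralizer ({y} : Set G) with hC
  have hyC : ∀ c ∈ C, c * y = y * c := by
    intro c hc
    exact ((mem_centralizer_iff.mp hc) y rfl).symm
  have hHC : H ≤ C := by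
    intro a ha
    rw [hC, mem_centralizer_iff]
    intro z hz
    rw [Set.mem_singleton_iff] at hz
    rw [hz]
    exact hcomm y hy a ha
  have hH₂C : MulAut.conj g • H ≤ C := by
    intro a ha
    rw [Cfsg.Agent.Helper1.mem_conj_smul_iff] at ha
    rw [hC, mem_centralizer_iff]
    intro z hz
    rw [Set.mem_singleton_iff] at hz
    rw [hz, ← hg]
    have := hcomm x hx _ ha
    calc g * x * g⁻¹ * a = g * (x * (g⁻¹ * a * g)) * g⁻¹ := by group
      _ = g * ((g⁻¹ * a * g) * x) * g⁻¹ := by rw [this]
      _ = a * (g * x * g⁻¹) := by group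
  by_cases hCtop : C = ⊤
  · have hgy : g * y = y * g := hyC g (by rw [hCtop]; exact mem_top g)
    calc x = g⁻¹ * (g * x * g⁻¹) * g := by group
      _ = g⁻¹ * (y * g) := by rw [hg, mul_assoc]
      _ = g⁻¹ * (g * y) := by rw [hgy]
      _ = y := by group
  · -- induction inside C
    have hlt : Nat.card C < n := by rw [← hn]; exact Cfsg.Agent.S0001.card_lt_of_ne_top hCtop
    set H' : Subgroup C := H.subgroupOf C with hH'
    set H₂' : Subgroup C := (MulAut.conj g • H).subgroupOf C with hH₂'
    have hcardH' : Nat.card H' = Nat.card H := Nat.card_congr (Subgroup.subgroupOfEquivOfLe hHC).toEquiv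
    have hcardH₂' : Nat.card H₂' = Nat.card H := by
      rw [← Cfsg.Agent.Helper1.card_conj_smul g H]
      exact Nat.card_congr (Subgroup.subgroupOfEquivOfLe hH₂C).toEquiv
    have hidx' : H'.index ∣ H.index := by
      change H.relIndex C ∣ H.index
      exact Subgroup.relIndex_dvd_index_of_le hHC
    have hHall' : Nat.Coprime (Nat.card H') H'.index := by
      rw [hcardH']
      exact Nat.Coprime.coprime_dvd_right hidx' hHall
    have hnc' : normalizer (H' : Set C) ≤ centralizer (H' : Set C) := by
      intro c hc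
      have hcn : (c : G) ∈ normalizer (H : Set G) := by
        apply mem_normalizer_of_forall
        intro a ha
        have h1 : (⟨a, hHC ha⟩ : C) ∈ H' := mem_subgroupOf.mpr ha
        have h2 := (mem_normalizer_iff.mp hc ⟨a, hHC ha⟩).mp h1
        exact mem_subgroupOf.mp h2
      have hcc := h hcn
      rw [mem_centralizer_iff]
      intro a ha
      apply Subtype.ext
      exact (mem_centralizer_iff.mp hcc) a (mem_subgroupOf.mp ha)
    obtain ⟨K, hKn, hKH'⟩ := ih (Nat.card C) hlt C rfl H' hHall' hnc'
    haveI := hKn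
    have hcardK : Nat.card K = H'.index := hKH'.index_eq_card.symm
    have hcopK : (Nat.card K).Coprime (Nat.card H) := by
      rw [hcardK]
      exact (Nat.Coprime.coprime_dvd_right hidx' hHall).symm
    have hKH₂' : IsComplement' K H₂' := by
      apply Subgroup.isComplement'_of_coprime
      · rw [hcardH₂', ← hcardH']
        exact hKH'.card_mul_card
      · rw [hcardH₂']
        exact hcopK
    have hKidx : K.index = Nat.card H' := hKH'.symm.index_eq_card
    have hKhall : (Nat.card K).Coprime K.index := by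
      rw [hKidx, hcardH']
      exact hcopK
    -- the quotient C/K is commutative
    have hsolv : Group.IsSolvable (C ⧸ K) := by
      have hrep : ∀ q : C ⧸ K, ∃ a ∈ H', q = QuotientGroup.mk' K a := by
        intro q
        obtain ⟨t, rfl⟩ := QuotientGroup.mk'_surjective K q
        have ht : t ∈ K ⊔ H' := by rw [hKH'.sup_eq_top]; exact mem_top t
        obtain ⟨k, a, ha, rfl⟩ := Cfsg.Agent.Helper1.exists_mul_of_mem_normal_sup K H' ht
        refine ⟨a, ha, ?_⟩
        rw [map_mul]
        have : QuotientGroup.mk' K (k : C) = 1 := (QuotientGroup.eq_one_iff _).mpr k.2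
        rw [this, one_mul]
      have hcq : ∀ a b : C ⧸ K, a * b = b * a := by
        intro a b
        obtain ⟨a', ha', rfl⟩ := hrep a
        obtain ⟨b', hb', rfl⟩ := hrep b
        rw [← map_mul, ← map_mul]
        congr 1
        apply Subtype.ext
        exact hcomm _ (mem_subgroupOf.mp ha') _ (mem_subgroupOf.mp hb')
      letI : CommGroup (C ⧸ K) := { (inferInstance : Group (C ⧸ K)) with mul_comm := hcq }
      infer_instance
    obtain ⟨c, hc⟩ := Cfsg.Agent.S0001.result K hKhall (Or.inr hsolv) H' H₂' hKH' hKH₂'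
    -- g⁻¹ c normalizes H
    have hnorm : g⁻¹ * (c : G) ∈ normalizer (H : Set G) := by
      apply mem_normalizer_of_forall
      intro a ha
      have h1 : (⟨a, hHC ha⟩ : C) ∈ H' := mem_subgroupOf.mpr ha
      have h2 : c * ⟨a, hHC ha⟩ * c⁻¹ ∈ MulAut.conj c • H' := by
        rw [Cfsg.Agent.Helper1.mem_conj_smul_iff]
        have : c⁻¹ * (c * ⟨a, hHC ha⟩ * c⁻¹) * c = ⟨a, hHC ha⟩ := by group
        rw [this]
        exact h1
      rw [hc] at h2
      have h3 : ((c * ⟨a, hHC ha⟩ * c⁻¹ : C) : G) ∈ MulAut.conj g • H := mem_subgroupOf.mp h2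
      rw [Cfsg.Agent.Helper1.mem_conj_smul_iff] at h3
      have e : g⁻¹ * (c : G) * a * (g⁻¹ * (c : G))⁻¹ = g⁻¹ * ((c * ⟨a, hHC ha⟩ * c⁻¹ : C) : G) * g := by
        simp only [Subgroup.coe_mul, Subgroup.coe_inv]
        group
      rw [e]
      exact h3
    have hcent := h hnorm
    have h5 : g⁻¹ * (c : G) * x = x * (g⁻¹ * (c : G)) := ((mem_centralizer_iff.mp hcent) x hx).symm
    have h6 : (c : G) * y = y * (c : G) := hyC c c.2
    -- c x c⁻¹ = g x g⁻¹ = y, and c commutes with y
    have h7 : (c : G) * x = y * (c : G) := by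
      rw [← hg]
      calc (c : G) * x = g * (g⁻¹ * (c : G) * x) := by group
        _ = g * (x * (g⁻¹ * (c : G))) := by rw [h5]
        _ = g * x * g⁻¹ * (c : G) := by group
    rw [← h6] at h7
    exact mul_left_cancel h7

/-- A Hall subgroup that is central in its normalizer has a normal complement. -/
theorem result {G : Type*} [Group G] [Finite G] (H : Subgroup G) (hHall : Nat.Coprime (Nat.card H) H.index) (h : Subgroup.normalizer (H : Set G) ≤ Subgroup.centralizer (H : Set G)) : ∃ N : Subgroup G, N.Normal ∧ N.IsComplement' H := by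
  exact aux (Nat.card G) G rfl H hHall h

end Cfsg.Agent.S0087
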