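import Mathlib
import Cfsg.Statements.S0648

set_option autoImplicit false
open Cfsg
open scoped commutatorElement

namespace Cfsg.Agent.S0648

section elt
variable {G : Type*} [Group G]

theorem lemIV (b d k u w : G) (hu : u = b⁻¹ * d * b * d⁻¹) (hw : w = b⁻¹ * k * b * k⁻¹)
    (h1 : d * k = k * d) (h2 : d * w = w * d) (h3 : u * w = w * u) : u * k = k * u := by
  have h1' : k⁻¹ * d⁻¹ = d⁻¹ * k⁻¹ := by rw [← mul_inv_rev, ← mul_inv_rev, h1]
  have h1'' : d⁻¹ * k * d = k := by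
    calc d⁻¹ * k * d = d⁻¹ * (k * d) := by group
      _ = d⁻¹ * (d * k) := by rw [h1]
      _ = k := by group
  have hid : d * w * d⁻¹ = u⁻¹ * w * k * u * k⁻¹ := by
    have l1 : d * w * d⁻¹ = d * b⁻¹ * k * b * (d⁻¹ * k⁻¹) := by
      rw [← h1', hw]; group
    have l2 : u⁻¹ * w * k * u * k⁻¹ = d * b⁻¹ * (d⁻¹ * k * d) * b * d⁻¹ * k⁻¹ := by
      rw [hu, hw]; group
    rw [l1, l2, h1'']; group
  have e1 : d * w * d⁻¹ = w := by rw [h2]; group
  rw [e1] at hid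
  -- w = u⁻¹ * w * k * u * k⁻¹
  have e2 : u * w = w * (k * u * k⁻¹) := by
    calc u * w = u * (u⁻¹ * w * k * u * k⁻¹) := by rw [← hid]
      _ = w * (k * u * k⁻¹) := by group
  rw [h3] at e2
  have e3 : u = k * u * k⁻¹ := mul_left_cancel e2
  calc u * k = k * u * k⁻¹ * k := by rw [← e3]
    _ = k * u := by group

theorem lemV (b a c ua uc e1 e2 : G) (hua : ua = b⁻¹ * a * b * a⁻¹) (huc : uc = b⁻¹ * c * b * c⁻¹)
    (he1 : e1 = a * uc * a⁻¹ * uc⁻¹) (he2 : e2 = c * ua * c⁻¹ * ua⁻¹) (hac : a * c = c * a)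
    (h1 : ua * e1 = e1 * ua) (h2 : uc * e2 = e2 * uc) :
    ua * uc * ua⁻¹ * uc⁻¹ = e1⁻¹ * e2 := by
  have hca : c⁻¹ * a⁻¹ = a⁻¹ * c⁻¹ := by rw [← mul_inv_rev, ← mul_inv_rev, hac]
  have hid : ua * e1 * uc = uc * e2 * ua := by
    have l1 : ua * e1 * uc = b⁻¹ * (a * c) * b * (c⁻¹ * a⁻¹) := by
      rw [hua, he1, huc]; group
    have l2 : uc * e2 * ua = b⁻¹ * (c * a) * b * (a⁻¹ * c⁻¹) := by
      rw [he2, hua, huc]; group
    rw [l1, l2, hac, hca]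
  rw [h1, h2] at hid
  -- e1 * ua * uc = e2 * uc * ua
  calc ua * uc * ua⁻¹ * uc⁻¹ = e1⁻¹ * (e1 * ua * uc) * ua⁻¹ * uc⁻¹ := by group
    _ = e1⁻¹ * (e2 * uc * ua) * ua⁻¹ * uc⁻¹ := by rw [hid]
    _ = e1⁻¹ * e2 := by group

theorem lemVI (b d l u k w v t : G) (hu : u = b⁻¹ * d * b * d⁻¹) (hk : k = d * l * d⁻¹ * l⁻¹)
    (hw : w = b⁻¹ * l * b * l⁻¹) (hv : v = b⁻¹ * k * b * k⁻¹) (ht : t = u⁻¹ * l * u * l⁻¹)
    (h1 : d * w = w * d) (h2 : k * w = w * k) (h3 : u * v = v * u) (h3' : u * w = w * u)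
    (h4 : k * u = u * k) (h5 : t * k = k * t) (h5' : t * w = w * t) : v = t⁻¹ := by
  have e1 : d * w * d⁻¹ = w := by rw [h1]; group
  have hid : d * w * d⁻¹ = u⁻¹ * (v * (k * w * k⁻¹)) * (k * l) * u * l⁻¹ * k⁻¹ := by
    rw [hw, hv, hu, hk]; group
  rw [e1] at hid
  have h2' : k * w * k⁻¹ = w := by rw [h2]; group
  rw [h2'] at hid
  have h3i : u⁻¹ * (v * w) = (v * w) * u⁻¹ := by
    have : u * (v * w) = (v * w) * u := by
      rw [← mul_assoc, h3, mul_assoc, h3', mul_assoc]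
    calc u⁻¹ * (v * w) = u⁻¹ * ((v * w) * u) * u⁻¹ := by group
      _ = u⁻¹ * (u * (v * w)) * u⁻¹ := by rw [this]
      _ = (v * w) * u⁻¹ := by group
  have h4i : u⁻¹ * k = k * u⁻¹ := by
    calc u⁻¹ * k = u⁻¹ * (k * u) * u⁻¹ := by group
      _ = u⁻¹ * (u * k) * u⁻¹ := by rw [h4]
      _ = k * u⁻¹ := by group
  have e2 : w = v * w * (k * t * k⁻¹) := by
    calc w = u⁻¹ * (v * w) * (k * l) * u * l⁻¹ * k⁻¹ := hid
      _ = (v * w) * (u⁻¹ * k) * l * u * l⁻¹ * k⁻¹ := by rw [h3i]; group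
      _ = (v * w) * (k * u⁻¹) * l * u * l⁻¹ * k⁻¹ := by rw [h4i]
      _ = v * w * (k * t * k⁻¹) := by rw [ht]; group
  have h5i : k * t * k⁻¹ = t := by rw [← h5]; group
  rw [h5i, mul_assoc, ← h5', ← mul_assoc] at e2
  -- w = v * t * w
  have e3 : v * t = 1 := by
    have : 1 * w = v * t * w := by rw [one_mul]; exact e2
    exact (mul_right_cancel this).symm
  exact eq_inv_of_mul_eq_one_left e3


theorem lemF (b ua uc e1 e2 z : G) (hz : z = ua * uc * ua⁻¹ * uc⁻¹) (hV : z = e1⁻¹ * e2)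
    (hv2 : b⁻¹ * e2 * b * e2⁻¹ = (uc⁻¹ * ua * uc * ua⁻¹)⁻¹)
    (hv1 : b⁻¹ * e1 * b * e1⁻¹ = (ua⁻¹ * uc * ua * uc⁻¹)⁻¹)
    (hzb : z * b = b * z) (hzua : z * ua = ua * z) (hzuc : z * uc = uc * z) : z * z = 1 := by
  have he2 : e2 = e1 * z := by rw [hV]; group
  have hzb' : z * b * z⁻¹ = b := by rw [hzb]; group
  have h12 : b⁻¹ * e2 * b * e2⁻¹ = b⁻¹ * e1 * b * e1⁻¹ := by
    calc b⁻¹ * e2 * b * e2⁻¹ = b⁻¹ * e1 * (z * b * z⁻¹) * e1⁻¹ := by rw [he2]; group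
      _ = b⁻¹ * e1 * b * e1⁻¹ := by rw [hzb']
  rw [hv2, hv1, inv_inj] at h12
  -- uc⁻¹ * ua * uc * ua⁻¹ = ua⁻¹ * uc * ua * uc⁻¹
  have t2 : uc⁻¹ * ua * uc * ua⁻¹ = z := by
    calc uc⁻¹ * ua * uc * ua⁻¹ = uc⁻¹ * (ua * uc * ua⁻¹ * uc⁻¹) * uc := by group
      _ = uc⁻¹ * (z * uc) := by rw [← hz]; group
      _ = z := by rw [hzuc]; group
  have t1 : ua⁻¹ * uc * ua * uc⁻¹ = z⁻¹ := by
    have hzi : z⁻¹ = uc * ua * uc⁻¹ * ua⁻¹ := by rw [hz]; group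
    have hzua' : z⁻¹ * ua = ua * z⁻¹ := by
      calc z⁻¹ * ua = z⁻¹ * (ua * z) * z⁻¹ := by group
        _ = z⁻¹ * (z * ua) * z⁻¹ := by rw [hzua]
        _ = ua * z⁻¹ := by group
    calc ua⁻¹ * uc * ua * uc⁻¹ = ua⁻¹ * (uc * ua * uc⁻¹ * ua⁻¹) * ua := by group
      _ = ua⁻¹ * (z⁻¹ * ua) := by rw [← hzi]; group
      _ = z⁻¹ := by rw [hzua']; group
  rw [t2, t1] at h12
  calc z * z = z * z⁻¹ := by rw [← h12]
    _ = 1 := by group

end elt

/-- In a subgroup generated by `S` whose commutators are central (in the subgroup), the derived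
subgroup lies in any subgroup `W` containing the commutators of generators. -/
theorem commutator_closure_le {G : Type*} [Group G] (S : Set G) (W : Subgroup G)
    (hcen : ∀ l ∈ Subgroup.closure S, ∀ m ∈ Subgroup.closure S, ∀ y ∈ Subgroup.closure S,
      y * ⁅l, m⁆ = ⁅l, m⁆ * y)
    (hbase : ∀ s ∈ S, ∀ t ∈ S, ⁅s, t⁆ ∈ W) :
    ⁅Subgroup.closure S, Subgroup.closure S⁆ ≤ W := by
  have hconj : ∀ l ∈ Subgroup.closure S, ∀ m ∈ Subgroup.closure S, ∀ y ∈ Subgroup.closure S,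
      y * ⁅l, m⁆ * y⁻¹ = ⁅l, m⁆ := by
    intro l hl m hm y hy
    rw [hcen l hl m hm y hy]; group
  have step1 : ∀ s ∈ S, ∀ m ∈ Subgroup.closure S, ⁅s, m⁆ ∈ W := by
    intro s hs m hm
    induction hm using Subgroup.closure_induction with
    | mem t ht => exact hbase s hs t ht
    | one => rw [commutatorElement_one_right]; exact W.one_mem
    | mul x y hx hy ihx ihy =>
      have : ⁅s, x * y⁆ = ⁅s, x⁆ * (x * ⁅s, y⁆ * x⁻¹) := by
        simp only [commutatorElement_def]; group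
      rw [this, hconj s (Subgroup.subset_closure hs) y hy x hx]
      exact W.mul_mem ihx ihy
    | inv x hx ihx =>
      have : ⁅s, x⁻¹⁆ = (x⁻¹ * ⁅s, x⁆ * x⁻¹⁻¹)⁻¹ := by
        simp only [commutatorElement_def]; group
      rw [this, hconj s (Subgroup.subset_closure hs) x hx x⁻¹ (Subgroup.inv_mem _ hx)]
      exact W.inv_mem ihx
  rw [Subgroup.commutator_le]
  intro l hl
  induction hl using Subgroup.closure_induction with
  | mem s hs => exact step1 s hs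
  | one => intro m _; rw [commutatorElement_one_left]; exact W.one_mem
  | mul x y hx hy ihx ihy =>
    intro m hm
    have : ⁅x * y, m⁆ = (x * ⁅y, m⁆ * x⁻¹) * ⁅x, m⁆ := by
      simp only [commutatorElement_def]; group
    rw [this, hconj y hy m hm x hx]
    exact W.mul_mem (ihy m hm) (ihx m hm)
  | inv x hx ihx =>
    intro m hm
    have : ⁅x⁻¹, m⁆ = (x⁻¹ * ⁅x, m⁆ * x⁻¹⁻¹)⁻¹ := by
      simp only [commutatorElement_def]; group
    rw [this, hconj x hx m hm x⁻¹ (Subgroup.inv_mem _ hx)]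
    exact W.inv_mem (ihx m hm)

/-- If A acts on B centralizing [B, B], then [B, A] has derived subgroup central in B, and for abelian A and b ∈ B with [[b, A], A, A] = 1 the derived subgroup of the subgroup [b, A] generated by the commutators of b with A has exponent dividing 2. -/
theorem result {G : Type*} [Group G] [Finite G] (A B : Subgroup G) (hAB : A ≤ Subgroup.normalizer (B : Set G)) (hc : ⁅⁅B, B⁆, A⁆ = ⊥) : ⁅⁅B, A⁆, ⁅B, A⁆⁆ ≤ B ⊓ Subgroup.centralizer (B : Set G) ∧ (IsMulCommutative A → ∀ b ∈ B, ⁅⁅(Subgroup.closure {g : G | ∃ a ∈ A, g = b⁻¹ * a * b * a⁻¹}), A⁆, A⁆ = ⊥ → ∀ w ∈ ⁅(Subgroup.closure {g : G | ∃ a ∈ A, g = b⁻¹ * a * b * a⁻¹}), (Subgroup.closure {g : G | ∃ a ∈ A, g = b⁻¹ * a * b * a⁻¹})⁆, w ^ 2 = 1) := by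
  -- F1
  have hBA : ⁅B, A⁆ ≤ B := by
    rw [Subgroup.commutator_le]
    intro b hb a ha
    have hn := hAB ha
    rw [Subgroup.mem_normalizer_iff] at hn
    have h1 : a * b⁻¹ * a⁻¹ ∈ B := (hn b⁻¹).1 (B.inv_mem hb)
    have : ⁅b, a⁆ = b * (a * b⁻¹ * a⁻¹) := by rw [commutatorElement_def]; group
    rw [this]; exact B.mul_mem hb h1
  have hBB : ⁅B, B⁆ ≤ B := by
    rw [Subgroup.commutator_le]
    intro b hb b' hb'
    rw [commutatorElement_def]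
    exact B.mul_mem (B.mul_mem (B.mul_mem hb hb') (B.inv_mem hb)) (B.inv_mem hb')
  -- F2
  have hcA : ∀ z ∈ ⁅B, B⁆, ∀ d ∈ A, d * z = z * d := by
    intro z hz d hd
    have h1 := (Subgroup.commutator_eq_bot_iff_le_centralizer.1 hc) hz
    rw [Subgroup.mem_centralizer_iff] at h1
    exact h1 d hd
  -- F3
  have hBBn : ∀ z ∈ ⁅B, B⁆, ∀ y ∈ B, y * z * y⁻¹ ∈ ⁅B, B⁆ := by
    intro z hz y hy
    have : y * z * y⁻¹ = ⁅y, z⁆ * z := by rw [commutatorElement_def]; group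
    rw [this]
    exact Subgroup.mul_mem _ (Subgroup.commutator_mem_commutator hy (hBB hz)) hz
  -- F4
  have ha : ∀ z ∈ ⁅B, B⁆, ∀ t ∈ ⁅B, A⁆, t * z = z * t := by
    intro z hz
    have hle : ⁅B, A⁆ ≤ Subgroup.centralizer {z} := by
      rw [Subgroup.commutator_le]
      intro b hb a ha'
      rw [Subgroup.mem_centralizer_iff]
      intro h hh
      rw [Set.mem_singleton_iff] at hh
      subst hh
      have hy : b⁻¹ * h * b⁻¹⁻¹ ∈ ⁅B, B⁆ := hBBn h hz b⁻¹ (B.inv_mem hb)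
      have e1 : a * h = h * a := hcA h hz a ha'
      have e2 : a * (b⁻¹ * h * b⁻¹⁻¹) = (b⁻¹ * h * b⁻¹⁻¹) * a := hcA _ hy a ha'
      have e1' : a⁻¹ * h = h * a⁻¹ := by
        calc a⁻¹ * h = a⁻¹ * (h * a) * a⁻¹ := by group
          _ = a⁻¹ * (a * h) * a⁻¹ := by rw [e1]
          _ = h * a⁻¹ := by group
      rw [commutatorElement_def]
      calc h * (b * a * b⁻¹ * a⁻¹) = b * ((b⁻¹ * h * b⁻¹⁻¹) * a) * b⁻¹ * a⁻¹ := by group
        _ = b * (a * (b⁻¹ * h * b⁻¹⁻¹)) * b⁻¹ * a⁻¹ := by rw [e2]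
        _ = b * a * b⁻¹ * (h * a⁻¹) := by group
        _ = b * a * b⁻¹ * (a⁻¹ * h) := by rw [e1']
        _ = b * a * b⁻¹ * a⁻¹ * h := by group
    intro t ht
    have := hle ht
    rw [Subgroup.mem_centralizer_iff] at this
    exact (this z rfl).symm
  have hBBcBA : ⁅⁅B, B⁆, ⁅B, A⁆⁆ = ⊥ := by
    rw [Subgroup.commutator_eq_bot_iff_le_centralizer]
    intro z hz
    rw [Subgroup.mem_centralizer_iff]
    intro t ht
    exact ha z hz t ht
  -- F5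
  have hb3 : ⁅⁅⁅B, A⁆, ⁅B, A⁆⁆, B⁆ = ⊥ := by
    apply Subgroup.commutator_commutator_eq_bot_of_rotate
    · rw [eq_bot_iff, ← hBBcBA]
      exact Subgroup.commutator_mono (Subgroup.commutator_mono hBA le_rfl) le_rfl
    · rw [eq_bot_iff, ← hBBcBA]
      exact Subgroup.commutator_mono (Subgroup.commutator_mono le_rfl hBA) le_rfl
  -- F6
  have hZ : ∀ z ∈ ⁅⁅B, A⁆, ⁅B, A⁆⁆, ∀ y ∈ B, y * z = z * y := by
    intro z hz y hy
    have h1 := (Subgroup.commutator_eq_bot_iff_le_centralizer.1 hb3) hz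
    rw [Subgroup.mem_centralizer_iff] at h1
    exact h1 y hy
  have hZB : ⁅⁅B, A⁆, ⁅B, A⁆⁆ ≤ B := by
    rw [Subgroup.commutator_le]
    intro l hl m hm
    rw [commutatorElement_def]
    exact B.mul_mem (B.mul_mem (B.mul_mem (hBA hl) (hBA hm)) (B.inv_mem (hBA hl)))
      (B.inv_mem (hBA hm))
  refine ⟨?_, ?_⟩
  · intro z hz
    refine Subgroup.mem_inf.2 ⟨hZB hz, ?_⟩
    rw [Subgroup.mem_centralizer_iff]
    intro y hy
    exact hZ z hz y hy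
  intro hAab b hbB hK
  set S : Set G := {g : G | ∃ a ∈ A, g = b⁻¹ * a * b * a⁻¹} with hS
  set L : Subgroup G := Subgroup.closure S with hL
  have hAcomm : ∀ a ∈ A, ∀ c ∈ A, a * c = c * a := by
    intro a haA c hcA'
    have := hAab.is_comm.comm ⟨a, haA⟩ ⟨c, hcA'⟩
    exact congrArg Subtype.val this
  have hbi : b⁻¹ ∈ B := B.inv_mem hbB
  -- the generators
  have hu_mem : ∀ a ∈ A, b⁻¹ * a * b * a⁻¹ ∈ ⁅B, A⁆ := by
    intro a haA
    have : b⁻¹ * a * b * a⁻¹ = ⁅b⁻¹, a⁆ := by rw [commutatorElement_def, inv_inv]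
    rw [this]; exact Subgroup.commutator_mem_commutator hbi haA
  have hu_L : ∀ a ∈ A, b⁻¹ * a * b * a⁻¹ ∈ L := by
    intro a haA
    exact Subgroup.subset_closure ⟨a, haA, rfl⟩
  have hL_BA : L ≤ ⁅B, A⁆ := by
    rw [hL, Subgroup.closure_le]
    rintro g ⟨a, haA, rfl⟩
    exact hu_mem a haA
  have hL_B : L ≤ B := hL_BA.trans hBA
  have hK_BA : ⁅L, A⁆ ≤ ⁅B, A⁆ := Subgroup.commutator_mono hL_B le_rfl
  have hKA : ∀ k ∈ ⁅L, A⁆, ∀ d ∈ A, d * k = k * d := by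
    intro k hk d hd
    have h1 := (Subgroup.commutator_eq_bot_iff_le_centralizer.1 hK) hk
    rw [Subgroup.mem_centralizer_iff] at h1
    exact h1 d hd
  have hem : ∀ l ∈ L, ∀ d ∈ A, d * l * d⁻¹ * l⁻¹ ∈ ⁅L, A⁆ := by
    intro l hl d hd
    have : d * l * d⁻¹ * l⁻¹ = (⁅l, d⁆)⁻¹ := by rw [commutatorElement_def]; group
    rw [this]
    exact Subgroup.inv_mem _ (Subgroup.commutator_mem_commutator hl hd)
  -- elements of the form [b⁻¹, y] with y ∈ B lie in B'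
  have hxB' : ∀ y ∈ B, b⁻¹ * y * b * y⁻¹ ∈ ⁅B, B⁆ := by
    intro y hy
    have : b⁻¹ * y * b * y⁻¹ = ⁅b⁻¹, y⁆ := by rw [commutatorElement_def, inv_inv]
    rw [this]; exact Subgroup.commutator_mem_commutator hbi hy
  -- (IV)
  have hIV : ∀ k ∈ ⁅L, A⁆, ∀ d ∈ A, (b⁻¹ * d * b * d⁻¹) * k = k * (b⁻¹ * d * b * d⁻¹) := by
    intro k hk d hd
    have hkB : k ∈ B := hBA (hK_BA hk)
    exact lemIV b d k _ _ rfl rfl (hKA k hk d hd) (hcA _ (hxB' k hkB) d hd)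
      (ha _ (hxB' k hkB) _ (hu_mem d hd))
  have hIV' : ∀ k ∈ ⁅L, A⁆, ∀ l ∈ L, l * k = k * l := by
    intro k hk
    have hle : L ≤ Subgroup.centralizer {k} := by
      rw [hL, Subgroup.closure_le]
      rintro g ⟨d, hd, rfl⟩
      rw [SetLike.mem_coe, Subgroup.mem_centralizer_iff]
      intro h hh
      rw [Set.mem_singleton_iff] at hh
      subst hh
      exact (hIV h hk d hd).symm
    intro l hl
    have := hle hl
    rw [Subgroup.mem_centralizer_iff] at this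
    exact (this k rfl).symm
  -- the subgroup W of central involutions
  let W : Subgroup G :=
    { carrier := {w | w ∈ ⁅⁅B, A⁆, ⁅B, A⁆⁆ ∧ w ^ 2 = 1}
      mul_mem' := by
        rintro x y ⟨hx, hx2⟩ ⟨hy, hy2⟩
        refine ⟨Subgroup.mul_mem _ hx hy, ?_⟩
        have hcomm : Commute x y := hZ y hy x (hZB hx)
        rw [hcomm.mul_pow, hx2, hy2, one_mul]
      one_mem' := ⟨Subgroup.one_mem _, one_pow 2⟩
      inv_mem' := by
        rintro x ⟨hx, hx2⟩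
        exact ⟨Subgroup.inv_mem _ hx, by rw [inv_pow, hx2, inv_one]⟩ }
  have hLW : ⁅L, L⁆ ≤ W := by
    apply commutator_closure_le S W
    · intro l hl m hm y hy
      exact hZ _ (Subgroup.commutator_mem_commutator (hL_BA hl) (hL_BA hm)) y (hL_B hy)
    · rintro s ⟨a, haA, rfl⟩ t ⟨c, hcA', rfl⟩
      set ua := b⁻¹ * a * b * a⁻¹ with hua
      set uc := b⁻¹ * c * b * c⁻¹ with huc
      have huaL : ua ∈ L := hu_L a haA
      have hucL : uc ∈ L := hu_L c hcA'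
      have huaBA : ua ∈ ⁅B, A⁆ := hu_mem a haA
      have hucBA : uc ∈ ⁅B, A⁆ := hu_mem c hcA'
      have hzmem : ⁅ua, uc⁆ ∈ ⁅⁅B, A⁆, ⁅B, A⁆⁆ := Subgroup.commutator_mem_commutator huaBA hucBA
      refine ⟨hzmem, ?_⟩
      set e1 := a * uc * a⁻¹ * uc⁻¹ with he1
      set e2 := c * ua * c⁻¹ * ua⁻¹ with he2
      have he1K : e1 ∈ ⁅L, A⁆ := hem uc hucL a haA
      have he2K : e2 ∈ ⁅L, A⁆ := hem ua huaL c hcA'
      have he1B : e1 ∈ B := hBA (hK_BA he1K)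
      have he2B : e2 ∈ B := hBA (hK_BA he2K)
      have hV : ua * uc * ua⁻¹ * uc⁻¹ = e1⁻¹ * e2 :=
        lemV b a c ua uc e1 e2 hua huc he1 he2 (hAcomm a haA c hcA')
          (hIV' e1 he1K ua huaL) (hIV' e2 he2K uc hucL)
      -- (VI) with d = c, l = ua
      have hv2 : b⁻¹ * e2 * b * e2⁻¹ = (uc⁻¹ * ua * uc * ua⁻¹)⁻¹ := by
        have ht : uc⁻¹ * ua * uc * ua⁻¹ ∈ ⁅⁅B, A⁆, ⁅B, A⁆⁆ := by
          have : uc⁻¹ * ua * uc * ua⁻¹ = ⁅uc⁻¹, ua⁆ := by rw [commutatorElement_def, inv_inv]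
          rw [this]
          exact Subgroup.commutator_mem_commutator (Subgroup.inv_mem _ hucBA) huaBA
        exact lemVI b c ua uc e2 (b⁻¹ * ua * b * ua⁻¹) (b⁻¹ * e2 * b * e2⁻¹)
          (uc⁻¹ * ua * uc * ua⁻¹) huc he2 rfl rfl rfl
          (hcA _ (hxB' ua (hBA huaBA)) c hcA')
          (ha _ (hxB' ua (hBA huaBA)) e2 (hK_BA he2K))
          (ha _ (hxB' e2 he2B) uc hucBA)
          (ha _ (hxB' ua (hBA huaBA)) uc hucBA)
          (hIV' e2 he2K uc hucL).symm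
          (hZ _ ht e2 he2B).symm
          (hZ _ ht _ (hBB (hxB' ua (hBA huaBA)))).symm
      have hv1 : b⁻¹ * e1 * b * e1⁻¹ = (ua⁻¹ * uc * ua * uc⁻¹)⁻¹ := by
        have ht : ua⁻¹ * uc * ua * uc⁻¹ ∈ ⁅⁅B, A⁆, ⁅B, A⁆⁆ := by
          have : ua⁻¹ * uc * ua * uc⁻¹ = ⁅ua⁻¹, uc⁆ := by rw [commutatorElement_def, inv_inv]
          rw [this]
          exact Subgroup.commutator_mem_commutator (Subgroup.inv_mem _ huaBA) hucBA
        exact lemVI b a uc ua e1 (b⁻¹ * uc * b * uc⁻¹) (b⁻¹ * e1 * b * e1⁻¹)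
          (ua⁻¹ * uc * ua * uc⁻¹) hua he1 rfl rfl rfl
          (hcA _ (hxB' uc (hBA hucBA)) a haA)
          (ha _ (hxB' uc (hBA hucBA)) e1 (hK_BA he1K))
          (ha _ (hxB' e1 he1B) ua huaBA)
          (ha _ (hxB' uc (hBA hucBA)) ua huaBA)
          (hIV' e1 he1K ua huaL).symm
          (hZ _ ht e1 he1B).symm
          (hZ _ ht _ (hBB (hxB' uc (hBA hucBA)))).symm
      have hzz := lemF b ua uc e1 e2 ⁅ua, uc⁆ (commutatorElement_def ua uc)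
        ((commutatorElement_def ua uc).trans hV) hv2 hv1
        (hZ _ hzmem b hbB).symm (hZ _ hzmem ua (hBA huaBA)).symm (hZ _ hzmem uc (hBA hucBA)).symm
      rw [pow_two]; exact hzz
  intro w hw
  exact (hLW hw).2

end Cfsg.Agent.S0648
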