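import Mathlib
import Cfsg.Statements.S0650
import Cfsg.Agent.S0648
import Cfsg.Agent.Lib.Helper4.GlaubermanRepl

set_option autoImplicit false
open Cfsg
open scoped commutatorElement

namespace Cfsg.Agent.S0650

open Cfsg.Agent.Helper4.GR

/-- `L` is commutative in the odd case (via the commutator lemma S0648). -/
theorem L_comm_odd {S : Type*} [Group S] [Finite S] {p : ℕ} [Fact p.Prime] (hS : IsPGroup p S)
    (hp : p ≠ 2) (A B : Subgroup S) [B.Normal] (hA : IsMulCommutative A) (hBA : ⁅B, B⁆ ≤ A)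
    (b : S) (h : Hyp A B b) : ∀ x ∈ L A b, ∀ y ∈ L A b, x * y = y * x := by
  have hAA : ⁅A, A⁆ = ⊥ := Subgroup.commutator_self_eq_bot_iff.2 hA
  have hAB : A ≤ Subgroup.normalizer (B : Set S) := by
    rw [Subgroup.normalizer_eq_top]; exact le_top
  have hc : ⁅⁅B, B⁆, A⁆ = ⊥ := by
    rw [eq_bot_iff, ← hAA]; exact Subgroup.commutator_mono hBA le_rfl
  have hLL : Subgroup.closure {g : S | ∃ a ∈ A, g = b⁻¹ * a * b * a⁻¹} = L A b := by
    apply le_antisymm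
    · rw [Subgroup.closure_le]
      rintro x ⟨a, ha, rfl⟩
      have : b⁻¹ * a * b * a⁻¹ = (g b a)⁻¹ := by unfold g; group
      rw [this]; exact Subgroup.inv_mem _ (Hyp.g_mem_L ha)
    · unfold L
      rw [Subgroup.closure_le]
      rintro x ⟨a, ha, rfl⟩
      have : a * b⁻¹ * a⁻¹ * b = (b⁻¹ * a * b * a⁻¹)⁻¹ := by group
      rw [this]
      exact Subgroup.inv_mem _ (Subgroup.subset_closure ⟨a, ha, rfl⟩)
  have hK : ⁅⁅L A b, A⁆, A⁆ = ⊥ := by
    rw [eq_bot_iff, ← hAA]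
    refine Subgroup.commutator_mono ?_ le_rfl
    rw [Subgroup.commutator_le]
    intro l hl a ha
    have h1 := Hyp.N_conj (h.L_le_N hl) ha
    rw [commutatorElement_def]
    exact A.mul_mem h1 (A.inv_mem ha)
  have key := (Cfsg.Agent.S0648.result A B hAB hc).2 hA b h.hb
  rw [hLL] at key
  have key2 := key hK
  intro x hx y hy
  have h2 := key2 ⁅x, y⁆ (Subgroup.commutator_mem_commutator hx hy)
  have h3 : ⁅x, y⁆ = 1 := by
    obtain ⟨k, hk⟩ := hS ⁅x, y⁆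
    have d1 : orderOf ⁅x, y⁆ ∣ 2 := orderOf_dvd_of_pow_eq_one h2
    have d2 : orderOf ⁅x, y⁆ ∣ p ^ k := orderOf_dvd_of_pow_eq_one hk
    have hpp : p.Prime := Fact.out
    have hcop : Nat.Coprime 2 (p ^ k) := by
      apply Nat.Coprime.pow_right
      rw [Nat.coprime_primes Nat.prime_two hpp]
      exact fun h => hp h.symm
    have := Nat.eq_one_of_dvd_coprimes hcop d1 d2
    exact orderOf_eq_one_iff.1 this
  exact (commutatorElement_eq_one_iff_mul_comm.1 h3)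

/-- Glauberman's replacement lemma. -/
theorem result {S : Type*} [Group S] [Finite S] {p : ℕ} [Fact p.Prime] (hS : IsPGroup p S) (B : Subgroup S) [B.Normal] (hB2 : p = 2 → IsMulCommutative B) (A : Subgroup S) (hA : IsMulCommutative A) (hBA : ⁅B, B⁆ ≤ A) (hnot : ¬ B ≤ Subgroup.normalizer (A : Set S)) (b : S) (hb : b ∈ B) (hbN : b ∈ Subgroup.normalizer ((Subgroup.normalizer (A : Set S)) : Set S)) (hbA : b ∉ Subgroup.normalizer (A : Set S)) : Nat.card ↥((A ⊓ A.map (MulAut.conj (b⁻¹)).toMonoidHom) ⊔ Subgroup.closure {g : S | ∃ a ∈ A, g = a * b⁻¹ * a⁻¹ * b}) = Nat.card A ∧ IsMulCommutative ↥((A ⊓ A.map (MulAut.conj (b⁻¹)).toMonoidHom) ⊔ Subgroup.closure {g : S | ∃ a ∈ A, g = a * b⁻¹ * a⁻¹ * b}) ∧ ⁅B, B⁆ ≤ ((A ⊓ A.map (MulAut.conj (b⁻¹)).toMonoidHom) ⊔ Subgroup.closure {g : S | ∃ a ∈ A, g = a * b⁻¹ * a⁻¹ * b}) ∧ A ⊓ B < ((A ⊓ A.map (MulAut.conj (b⁻¹)).toMonoidHom) ⊔ Subgroup.closure {g : S | ∃ a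 ∈ A, g = a * b⁻¹ * a⁻¹ * b}) ⊓ B ∧ ((A ⊓ A.map (MulAut.conj (b⁻¹)).toMonoidHom) ⊔ Subgroup.closure {g : S | ∃ a ∈ A, g = a * b⁻¹ * a⁻¹ * b}) ⊓ B < B ∧ A ≤ Subgroup.normalizer (((A ⊓ A.map (MulAut.conj (b⁻¹)).toMonoidHom) ⊔ Subgroup.closure {g : S | ∃ a ∈ A, g = a * b⁻¹ * a⁻¹ * b} : Subgroup S) : Set S) ∧ ((A ⊓ A.map (MulAut.conj (b⁻¹)).toMonoidHom) ⊔ Subgroup.closure {g : S | ∃ a ∈ A, g = a * b⁻¹ * a⁻¹ * b}) ≤ Subgroup.normalizer (A : Set S) ∧ b ∈ Subgroup.normalizer (((A ⊓ A.map (MulAut.conj (b⁻¹)).toMonoidHom) ⊔ Subgroup.closure {g : S | ∃ a ∈ A, g = a * b⁻¹ * a⁻¹ * b} : Subgroup S) : Set S) ∧ Subgroup.normalizer (A : Set S) < Subgroup.normalizer (((A ⊓ A.map (MulAut.conj (b⁻¹)).toMonoidHom) ⊔ Subgroup.closure {g : S | ∃ a ∈ A, g = a * b⁻¹ * a⁻¹ * b} : Subgroup S) : Set S) ∧ (p ≠ 2 → Monoid.exponent ↥((A ⊓ A.map (MulAut.conj (b⁻¹)).toMonoidHom) ⊔ Subgroup.closure {g : S | ∃ a ∈ A, g = a *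 b⁻¹ * a⁻¹ * b}) ∣ Monoid.exponent A) := by
  have hpp : p.Prime := Fact.out
  have hE : ((A ⊓ A.map (MulAut.conj (b⁻¹)).toMonoidHom) ⊔
      Subgroup.closure {g : S | ∃ a ∈ A, g = a * b⁻¹ * a⁻¹ * b}) = Astar A b := rfl
  rw [hE]
  have hAcomm : ∀ x ∈ A, ∀ y ∈ A, x * y = y * x := by
    intro x hx y hy
    exact congrArg Subtype.val (hA.is_comm.comm ⟨x, hx⟩ ⟨y, hy⟩)
  have h : Hyp A B b :=
    { Bn := inferInstance
      Acomm := hAcomm
      BA := by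
        intro x hx y hy
        have := hBA (Subgroup.commutator_mem_commutator hx hy)
        rwa [commutatorElement_def] at this
      hb := hb
      hbN := Subgroup.mem_normalizer_iff.1 hbN }
  have hLc : ∀ x ∈ L A b, ∀ y ∈ L A b, x * y = y * x := by
    by_cases hp2 : p = 2
    · have hBc := hB2 hp2
      intro x hx y hy
      exact congrArg Subtype.val
        (hBc.is_comm.comm ⟨x, h.L_le_B hx⟩ ⟨y, h.L_le_B hy⟩)
    · exact L_comm_odd hS hp2 A B hA hBA b h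
  have hcomm := h.Astar_comm hLc
  refine ⟨h.card_Astar hcomm, ⟨⟨fun x y => Subtype.ext (hcomm x x.2 y y.2)⟩⟩, ?_, h.inf_lt hbA,
    h.inf_lt' hbA, h.A_le_normalizer_Astar, h.Astar_le_N, h.b_mem_normalizer_Astar,
    h.normalizer_lt hbA, ?_⟩
  · intro z hz
    apply Subgroup.mem_sup_left
    rw [mem_C]
    refine ⟨hBA hz, hBA ?_⟩
    have hn : (⁅B, B⁆ : Subgroup S).Normal := inferInstance
    exact hn.conj_mem z hz b
  · intro hp2
    have hodd : Odd (Monoid.exponent A) := by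
      obtain ⟨n, hn⟩ := IsPGroup.exists_card_eq (hS.to_subgroup A)
      have h1 : Monoid.exponent A ∣ p ^ n := by
        rw [← hn]; exact Group.exponent_dvd_nat_card
      obtain ⟨m, -, hm⟩ := (Nat.dvd_prime_pow hpp).1 h1
      rw [hm]
      exact (hpp.odd_of_ne_two hp2).pow
    have he : ∀ a ∈ A, a ^ Monoid.exponent A = 1 := by
      intro a ha
      have := Monoid.pow_exponent_eq_one (⟨a, ha⟩ : A)
      exact congrArg Subtype.val this
    have hall := h.pow_Astar_eq_one hodd he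
    apply Monoid.exponent_dvd_of_forall_pow_eq_one
    intro x
    apply Subtype.ext
    rw [Subgroup.coe_pow]
    exact hall x x.2

end Cfsg.Agent.S0650
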