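import Mathlib
import Cfsg.Statements.S0658
import Cfsg.Agent.Lib.Helper4.ZJStable

set_option autoImplicit false
open Cfsg

namespace Cfsg.Agent.S0658

open Cfsg.Agent.Helper4.ZJ

variable {G : Type*} [Group G] [Finite G] {p : ℕ} [Fact p.Prime]

/-- `Z(R) ≤ Z(J(R))`. -/
theorem center_le_centerThompsonAOf (R : Subgroup G) :
    (Subgroup.center ↥R).map R.subtype ≤ Cfsg.centerThompsonAOf R := by
  apply le_centerThompsonAOf (Subgroup.map_subtype_le _)
  intro A hA
  obtain ⟨hAP, hAc, hmax⟩ := mem_famA.1 hA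
  set B := (Subgroup.center ↥R).map R.subtype with hB
  have hcomm : IsMulCommutative (A ⊔ B : Subgroup G) := by
    apply sup_comm_of A B (comm_of_mem_famA hA)
    · rintro _ ⟨x, hx, rfl⟩ _ ⟨y, hy, rfl⟩
      have := Subgroup.mem_center_iff.mp hy x
      exact congrArg Subtype.val this
    · intro x hx
      rintro _ ⟨y, hy, rfl⟩
      have := Subgroup.mem_center_iff.mp hy ⟨x, hAP hx⟩
      exact congrArg Subtype.val this
  have hle : (A ⊔ B : Subgroup G) ≤ R := sup_le hAP (Subgroup.map_subtype_le _)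
  have hcard := hmax _ hle hcomm
  have heq : A = A ⊔ B := Subgroup.eq_of_le_of_card_ge le_sup_left hcard
  rw [heq]; exact le_sup_right

theorem centerThompsonAOf_ne_bot (R : Subgroup G) (hR : IsPGroup p R) (hR1 : R ≠ ⊥) :
    Cfsg.centerThompsonAOf R ≠ ⊥ := by
  intro h
  have h1 := center_le_centerThompsonAOf R
  rw [h, le_bot_iff, Subgroup.map_eq_bot_iff_of_injective _ R.subtype_injective] at h1
  have : Nontrivial ↥R := (Subgroup.nontrivial_iff_ne_bot R).mpr hR1
  have := hR.center_nontrivial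
  exact (Subgroup.nontrivial_iff_ne_bot _).mp inferInstance h1

theorem centerThompsonAOf_le_self (R : Subgroup G) : Cfsg.centerThompsonAOf R ≤ R :=
  (inf_le_left : Cfsg.centerThompsonAOf R ≤ _).trans (thompsonSubgroupAOf_le_self R)

/-- normalizers grow in `p`-groups -/
theorem exists_normalizer_growth (P R₀ : Subgroup G) (hP : IsPGroup p P) (hle : R₀ ≤ P)
    (hne : ¬ P ≤ R₀) : ∃ x ∈ P, x ∈ Subgroup.normalizer (R₀ : Set G) ∧ x ∉ R₀ := by
  have : Group.IsNilpotent ↥P := hP.isNilpotent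
  have hlt : R₀.subgroupOf P < ⊤ := by
    rw [lt_top_iff_ne_top]
    intro h
    rw [Subgroup.subgroupOf_eq_top] at h
    exact hne h
  have h1 := Group.normalizerCondition_of_isNilpotent (G := ↥P) _ hlt
  obtain ⟨x, hx1, hx2⟩ := SetLike.exists_of_lt h1
  refine ⟨x, x.2, ?_, fun h => hx2 (Subgroup.mem_subgroupOf.mpr h)⟩
  rw [Subgroup.mem_normalizer_iff] at hx1 ⊢
  intro g
  constructor
  · intro hg
    have := (hx1 ⟨g, hle hg⟩).mp (Subgroup.mem_subgroupOf.mpr hg)
    exact Subgroup.mem_subgroupOf.mp this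
  · intro hg
    have hgP : g ∈ P := by
      have h2 : g = (x : G)⁻¹ * ((x : G) * g * (x : G)⁻¹) * (x : G) := by group
      rw [h2]
      exact P.mul_mem (P.mul_mem (P.inv_mem x.2) (hle hg)) x.2
    have := (hx1 ⟨g, hgP⟩).mpr (Subgroup.mem_subgroupOf.mpr hg)
    exact Subgroup.mem_subgroupOf.mp this

theorem card_lt_of_lt {A B : Subgroup G} (hAB : A ≤ B) {x : G} (hxB : x ∈ B) (hxA : x ∉ A) :
    Nat.card A < Nat.card B := by
  by_contra h
  push Not at h
  have := Subgroup.eq_of_le_of_card_ge hAB h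
  rw [this] at hxA
  exact hxA hxB

/-- conjugating a `p`-subgroup of `M` into a Sylow `p`-subgroup contained in `M` by an element of
`M`. -/
theorem exists_conj_le_sylow (P : Sylow p G) (M : Subgroup G) (hPM : (P : Subgroup G) ≤ M)
    (R : Subgroup G) (hRM : R ≤ M) (hR : IsPGroup p R) :
    ∃ m ∈ M, ∀ r ∈ R, m * r * m⁻¹ ∈ (P : Subgroup G) := by
  have hR' : IsPGroup p (R.subgroupOf M) := hR.comap_subtype
  obtain ⟨S', hS'⟩ := hR'.exists_le_sylow
  obtain ⟨m, hm⟩ := MulAction.exists_smul_eq ↥M S' (P.subtype hPM)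
  refine ⟨m, m.2, fun r hr => ?_⟩
  have h1 : (⟨r, hRM hr⟩ : ↥M) ∈ (S' : Subgroup ↥M) := hS' (Subgroup.mem_subgroupOf.mpr hr)
  have h2 : m * ⟨r, hRM hr⟩ * m⁻¹ ∈ ((m • S' : Sylow p ↥M) : Subgroup ↥M) := by
    rw [Sylow.coe_subgroup_smul, Subgroup.mem_pointwise_smul_iff_inv_smul_mem]
    have : (MulAut.conj m)⁻¹ • (m * ⟨r, hRM hr⟩ * m⁻¹) = (⟨r, hRM hr⟩ : ↥M) := by
      simp [MulAut.smul_def, mul_assoc]
    rw [this]; exact h1
  rw [hm, Sylow.coe_subtype, Subgroup.mem_subgroupOf] at h2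
  simpa using h2

section main

variable (hp : p ≠ 2)
  (hloc : ∀ Q : Subgroup G, IsPGroup p Q → Q ≠ ⊥ →
    Cfsg.pPrimeCore p ↥(Subgroup.normalizer (Q : Set G)) = ⊥ ∧
    Cfsg.IsPConstrained p ↥(Subgroup.normalizer (Q : Set G)) ∧
    Cfsg.IsPStable p ↥(Subgroup.normalizer (Q : Set G)))

include hp hloc

/-- ZJ-theorem in the local subgroup `N(Q)`. -/
theorem normalizer_le_of_sylow (Q : Subgroup G) (hQ : IsPGroup p Q) (hQ1 : Q ≠ ⊥)
    (S : Sylow p ↥(Subgroup.normalizer (Q : Set G))) :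
    Subgroup.normalizer (Q : Set G) ≤ Subgroup.normalizer
      (Cfsg.centerThompsonAOf ((S : Subgroup _).map (Subgroup.normalizer (Q : Set G)).subtype) :
        Set G) := by
  obtain ⟨h1, h2, h3⟩ := hloc Q hQ hQ1
  have hn := zj_normal_of_pPrimeCore_eq_bot hp h2 h3 h1 S
  rw [centerThompsonAOf_map_of_injOn _ _ (Subgroup.subtype_injective _).injOn]
  intro n hn'
  rw [Subgroup.mem_normalizer_iff]
  intro z
  constructor
  · rintro ⟨z', hz', rfl⟩
    exact ⟨⟨n, hn'⟩ * z' * ⟨n, hn'⟩⁻¹, hn.conj_mem z' hz' ⟨n, hn'⟩, by simp⟩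
  · rintro ⟨w, hw, hwz⟩
    have := hn.conj_mem w hw ⟨n, hn'⟩⁻¹
    refine ⟨_, this, ?_⟩
    simp only [inv_inv, Subgroup.subtype_apply, Subgroup.coe_mul, Subgroup.coe_inv] at hwz ⊢
    rw [hwz]; group

theorem case_le (P : Sylow p G) (Q : Subgroup G) (hQP : Q ≤ (P : Subgroup G)) (hQ1 : Q ≠ ⊥)
    (hPN : (P : Subgroup G) ≤ Subgroup.normalizer (Q : Set G)) :
    Subgroup.normalizer (Q : Set G) ≤
      Subgroup.normalizer (Cfsg.centerThompsonAOf (P : Subgroup G) : Set G) := by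
  have h := normalizer_le_of_sylow hp hloc Q (P.2.to_le hQP) hQ1 (P.subtype hPN)
  rwa [Sylow.coe_subtype, Subgroup.map_subgroupOf_eq_of_le hPN] at h

theorem main (P : Sylow p G) : ∀ n : ℕ, ∀ Q : Subgroup G, Q ≤ (P : Subgroup G) → Q ≠ ⊥ →
    Nat.card (P : Subgroup G) ≤
      Nat.card ((P : Subgroup G) ⊓ Subgroup.normalizer (Q : Set G) : Subgroup G) + n →
    Subgroup.normalizer (Q : Set G) ≤
      Subgroup.normalizer (Cfsg.centerThompsonAOf (P : Subgroup G) : Set G) := by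
  intro n
  induction n with
  | zero =>
    intro Q hQP hQ1 hcard
    apply case_le hp hloc P Q hQP hQ1
    have := Subgroup.eq_of_le_of_card_ge (inf_le_left :
      (P : Subgroup G) ⊓ Subgroup.normalizer (Q : Set G) ≤ P) (by simpa using hcard)
    rw [← this]; exact inf_le_right
  | succ n ih =>
    intro Q hQP hQ1 hcard
    by_cases hPN : (P : Subgroup G) ≤ Subgroup.normalizer (Q : Set G)
    · exact case_le hp hloc P Q hQP hQ1 hPN
    set M := Subgroup.normalizer (Cfsg.centerThompsonAOf (P : Subgroup G) : Set G) with hM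
    set R₀ : Subgroup G := (P : Subgroup G) ⊓ Subgroup.normalizer (Q : Set G) with hR₀
    have hR₀P : R₀ ≤ P := inf_le_left
    have hQR₀ : Q ≤ R₀ := le_inf hQP Subgroup.le_normalizer
    have hR₀1 : R₀ ≠ ⊥ := fun h => hQ1 (by rw [eq_bot_iff, ← h]; exact hQR₀)
    have hR₀p : IsPGroup p R₀ := P.2.to_le hR₀P
    have hPR₀ : ¬ (P : Subgroup G) ≤ R₀ := fun h => hPN (h.trans inf_le_right)
    -- normalizer growth in `P`
    obtain ⟨x, hxP, hxN, hxR₀⟩ := exists_normalizer_growth (P : Subgroup G) R₀ P.2 hR₀P hPR₀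
    have hgrow : Nat.card R₀ < Nat.card ((P : Subgroup G) ⊓ Subgroup.normalizer (R₀ : Set G) :
        Subgroup G) :=
      card_lt_of_lt (le_inf hR₀P Subgroup.le_normalizer) (Subgroup.mem_inf.2 ⟨hxP, hxN⟩) hxR₀
    have hNR₀ : Subgroup.normalizer (R₀ : Set G) ≤ M := ih R₀ hR₀P hR₀1 (by omega)
    -- a Sylow subgroup of `N(Q)` containing `R₀`
    have hR₀' : IsPGroup p (R₀.subgroupOf (Subgroup.normalizer (Q : Set G))) :=
      hR₀p.comap_subtype
    obtain ⟨S, hS⟩ := hR₀'.exists_le_sylow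
    set R : Subgroup G := (S : Subgroup _).map (Subgroup.normalizer (Q : Set G)).subtype with hR
    have hRp : IsPGroup p R := S.isPGroup'.map _
    have hRN : R ≤ Subgroup.normalizer (Q : Set G) := Subgroup.map_subtype_le _
    have hR₀R : R₀ ≤ R := by
      intro r hr
      exact ⟨⟨r, (inf_le_right : R₀ ≤ _) hr⟩, hS (Subgroup.mem_subgroupOf.mpr hr), rfl⟩
    have hL1 := normalizer_le_of_sylow hp hloc Q (P.2.to_le hQP) hQ1 S
    rw [← hR] at hL1
    by_cases hRR : R ≤ R₀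
    · -- `R₀` is a Sylow subgroup of `N(Q)`
      have hReq : R = R₀ := le_antisymm hRR hR₀R
      rw [hReq] at hL1
      set T := Cfsg.centerThompsonAOf R₀ with hT
      have hTR₀ : T ≤ R₀ := centerThompsonAOf_le_self R₀
      have hT1 : T ≠ ⊥ := centerThompsonAOf_ne_bot R₀ hR₀p hR₀1
      have hNT : Subgroup.normalizer (R₀ : Set G) ≤ Subgroup.normalizer (T : Set G) :=
        (dataA hp).normalizer_le R₀
      have hcardT : Nat.card ((P : Subgroup G) ⊓ Subgroup.normalizer (R₀ : Set G) : Subgroup G) ≤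
          Nat.card ((P : Subgroup G) ⊓ Subgroup.normalizer (T : Set G) : Subgroup G) :=
        Subgroup.card_le_of_le (inf_le_inf_left _ hNT)
      have hNTM : Subgroup.normalizer (T : Set G) ≤ M :=
        ih T (hTR₀.trans hR₀P) hT1 (by omega)
      exact hL1.trans hNTM
    · -- `R₀` is not a Sylow subgroup of `N(Q)`
      obtain ⟨y, hyR, hyN, hyR₀⟩ := exists_normalizer_growth R R₀ hRp hR₀R hRR
      set R₂ : Subgroup G := R ⊓ Subgroup.normalizer (R₀ : Set G) with hR₂
      have hR₂p : IsPGroup p R₂ := hRp.to_le inf_le_left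
      have hR₂M : R₂ ≤ M := (inf_le_right : R₂ ≤ _).trans hNR₀
      have hR₀R₂ : R₀ ≤ R₂ := le_inf hR₀R Subgroup.le_normalizer
      have hcard₂ : Nat.card R₀ < Nat.card R₂ :=
        card_lt_of_lt hR₀R₂ (Subgroup.mem_inf.2 ⟨hyR, hyN⟩) hyR₀
      have hPM : (P : Subgroup G) ≤ M :=
        Subgroup.le_normalizer.trans ((dataA hp).normalizer_le (P : Subgroup G))
      obtain ⟨m, hmM, hm⟩ := exists_conj_le_sylow P M hPM R₂ hR₂M hR₂p
      set Q' : Subgroup G := Q.map (MulAut.conj m).toMonoidHom with hQ'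
      have hQ'P : Q' ≤ P := by
        rintro _ ⟨q, hq, rfl⟩
        exact hm q (hR₀R₂ (hQR₀ hq))
      have hQ'1 : Q' ≠ ⊥ := by
        intro h
        rw [hQ', Subgroup.map_eq_bot_iff_of_injective _ (MulAut.conj m).injective] at h
        exact hQ1 h
      have hnorm : ∀ g ∈ Subgroup.normalizer (Q : Set G),
          m * g * m⁻¹ ∈ Subgroup.normalizer (Q' : Set G) := by
        intro g hg
        exact Subgroup.le_normalizer_map (MulAut.conj m).toMonoidHom ⟨g, hg, rfl⟩
      have hle₂ : R₂.map (MulAut.conj m).toMonoidHom ≤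
          (P : Subgroup G) ⊓ Subgroup.normalizer (Q' : Set G) := by
        rintro _ ⟨r, hr, rfl⟩
        exact Subgroup.mem_inf.2 ⟨hm r hr, hnorm r (hRN ((inf_le_left : R₂ ≤ R) hr))⟩
      have hcard₃ : Nat.card R₂ ≤
          Nat.card ((P : Subgroup G) ⊓ Subgroup.normalizer (Q' : Set G) : Subgroup G) := by
        have h0 : Nat.card (R₂.map (MulAut.conj m).toMonoidHom) = Nat.card R₂ :=
          Subgroup.card_map_of_injective (f := (MulAut.conj m).toMonoidHom)
            (MulAut.conj m).injective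
        rw [← h0]
        exact Subgroup.card_le_of_le hle₂
      have hNQ' : Subgroup.normalizer (Q' : Set G) ≤ M := ih Q' hQ'P hQ'1 (by omega)
      intro g hg
      have h1 : m * g * m⁻¹ ∈ M := hNQ' (hnorm g hg)
      have h2 : g = m⁻¹ * (m * g * m⁻¹) * m := by group
      rw [h2]
      exact M.mul_mem (M.mul_mem (M.inv_mem hmM) h1) hmM

end main

/-- In a group of characteristic p type all of whose p-locals are p-stable (p odd), the normalizer of Z(J(P)) contains the normalizer of every nontrivial subgroup of the Sylow p-subgroup P. -/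
theorem result {G : Type*} [Group G] [Finite G] {p : ℕ} [Fact p.Prime] (hp : p ≠ 2) (hloc : ∀ Q : Subgroup G, IsPGroup p Q → Q ≠ ⊥ → Cfsg.pPrimeCore p ↥(Subgroup.normalizer (Q : Set G)) = ⊥ ∧ Cfsg.IsPConstrained p ↥(Subgroup.normalizer (Q : Set G)) ∧ Cfsg.IsPStable p ↥(Subgroup.normalizer (Q : Set G))) (P : Sylow p G) (Q : Subgroup G) (hQP : Q ≤ (P : Subgroup G)) (hQ1 : Q ≠ ⊥) : Subgroup.normalizer (Q : Set G) ≤ Subgroup.normalizer (Cfsg.centerThompsonAOf ((P : Subgroup G)) : Set G) :=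
  main hp hloc P (Nat.card (P : Subgroup G)) Q hQP hQ1 (Nat.le_add_left _ _)

end Cfsg.Agent.S0658
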