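import Mathlib
import Cfsg.Statements.S0027
import Cfsg.Agent.S0026
import Cfsg.Agent.Lib.Helper1.CommutatorBasic

set_option autoImplicit false
open Cfsg

namespace Cfsg.Agent.S0027

open Cfsg.Agent.Helper1
open scoped commutatorElement

/-- Under coprime action the commutator subgroup with A is stable: taking the commutator with A twice gives the same subgroup as once. -/
theorem result {G : Type*} [Group G] [Finite G] (A K : Subgroup G) (hAK : A ≤ Subgroup.normalizer (K : Set G))
    (hcop : (Nat.card A).Coprime (Nat.card K)) (hsolv : Group.IsSolvable A ∨ Group.IsSolvable K) :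
    ⁅⁅K, A⁆, A⁆ = ⁅K, A⁆ := by
  set M := ⁅K, A⁆ with hM
  have hMK : M ≤ K := commutator_le_of_le_normalizer hAK
  have hAM : A ≤ Subgroup.normalizer (M : Set G) := le_normalizer_commutator_right K A
  have hKM : K ≤ Subgroup.normalizer (M : Set G) := le_normalizer_commutator_left K A
  have hcop' : (Nat.card A).Coprime (Nat.card M) :=
    Nat.Coprime.coprime_dvd_right (Subgroup.card_dvd_of_le hMK) hcop
  have hsolv' : Group.IsSolvable A ∨ Group.IsSolvable M := by
    rcases hsolv with h | h
    · exact Or.inl h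
    · right
      exact Group.isSolvable_of_isSolvable_injective (f := Subgroup.inclusion hMK)
        (Subgroup.inclusion_injective hMK)
  have h1 := Cfsg.Agent.S0026.result A K hAK hcop hsolv
  have h2 := Cfsg.Agent.S0026.result A M hAM hcop' hsolv'
  have hle : ⁅M, A⁆ ≤ M := commutator_le_of_le_normalizer hAM
  apply le_antisymm hle
  -- `K = ⁅M, A⁆ C_K(A)`
  have hK : K ≤ ⁅M, A⁆ ⊔ (K ⊓ Subgroup.centralizer (A : Set G)) := by
    calc K = M ⊔ (K ⊓ Subgroup.centralizer (A : Set G)) := h1.symm
      _ = (⁅M, A⁆ ⊔ (M ⊓ Subgroup.centralizer (A : Set G))) ⊔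
            (K ⊓ Subgroup.centralizer (A : Set G)) := by rw [h2]
      _ ≤ ⁅M, A⁆ ⊔ (K ⊓ Subgroup.centralizer (A : Set G)) := by
          apply sup_le (sup_le le_sup_left _) le_sup_right
          exact (inf_le_inf_right _ hMK).trans le_sup_right
  have hnorm : K ⊓ Subgroup.centralizer (A : Set G) ≤
      Subgroup.normalizer ((⁅M, A⁆ : Subgroup G) : Set G) := by
    refine le_trans ?_ (normalizer_inf_normalizer_le_normalizer_commutator M A)
    exact le_inf (inf_le_left.trans hKM) (inf_le_right.trans (centralizer_le_normalizer A))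
  rw [hM]
  refine (Subgroup.commutator_le (H₁ := K) (H₂ := A)).mpr ?_
  intro k hk a ha
  obtain ⟨m, hm, c, hc, rfl⟩ := exists_mul_of_mem_sup hnorm (hK hk)
  have hca : a * c = c * a := (Subgroup.mem_centralizer_iff.mp (Subgroup.mem_inf.mp hc).2) a ha
  have : ⁅m * c, a⁆ = ⁅m, a⁆ := by
    simp only [commutatorElement_def]
    calc m * c * a * (m * c)⁻¹ * a⁻¹ = m * (c * a) * c⁻¹ * m⁻¹ * a⁻¹ := by group
      _ = m * (a * c) * c⁻¹ * m⁻¹ * a⁻¹ := by rw [hca]
      _ = m * a * m⁻¹ * a⁻¹ := by group
  rw [this]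
  exact Subgroup.commutator_mono hle le_rfl (Subgroup.commutator_mem_commutator hm ha)

end Cfsg.Agent.S0027
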