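import Mathlib
import Cfsg.Statements.S0028
import Cfsg.Agent.S0027
import Cfsg.Agent.Lib.Helper1.CommutatorBasic

set_option autoImplicit false
open Cfsg

namespace Cfsg.Agent.S0028

open Cfsg.Agent.Helper1

/-- A `p`-group `P` normalising a nontrivial `p`-group `U` satisfies `⁅U, P⁆ ≠ U`. -/
theorem commutator_ne_of_isPGroup {G : Type*} [Group G] [Finite G] (p : ℕ) [Fact p.Prime]
    (P U : Subgroup G) (hP : IsPGroup p P) (hU : IsPGroup p U)
    (hPU : P ≤ Subgroup.normalizer (U : Set G)) (hne : U ≠ ⊥) : ⁅U, P⁆ ≠ U := by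
  intro h
  have hX : IsPGroup p (P ⊔ U : Subgroup G) := hP.to_sup_of_normal_right' hU hPU
  haveI : Group.IsNilpotent (P ⊔ U : Subgroup G) := hX.isNilpotent
  obtain ⟨n, hn⟩ := (Subgroup.isNilpotent_iff_lowerCentralSeries (P ⊔ U)).mp inferInstance
  have key : ∀ m, U ≤ (P ⊔ U).lowerCentralSeries m := by
    intro m
    induction m with
    | zero => exact le_sup_right
    | succ m ih =>
      rw [Subgroup.lowerCentralSeries_succ]
      calc U = ⁅U, P⁆ := h.symm
        _ ≤ ⁅(P ⊔ U).lowerCentralSeries m, P ⊔ U⁆ := Subgroup.commutator_mono ih le_sup_left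
  apply hne
  rw [eq_bot_iff, ← hn]
  exact key n

theorem aux {G : Type*} [Group G] [Finite G] (p : ℕ) [Fact p.Prime]
    (P Q : Subgroup G) (hP : IsPGroup p P) (hQ : (Nat.card Q).Coprime p)
    (hPQ : P ≤ Subgroup.centralizer (Q : Set G)) : ∀ (n : ℕ) (U : Subgroup G), Nat.card U = n →
    IsPGroup p U → P ≤ Subgroup.normalizer (U : Set G) → Q ≤ Subgroup.normalizer (U : Set G) →
    U ⊓ Subgroup.centralizer (P : Set G) ≤ Subgroup.centralizer (Q : Set G) →
    Q ≤ Subgroup.centralizer (U : Set G) := by
  intro n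
  induction n using Nat.strong_induction_on with
  | _ n ih =>
  intro U hn hU hPU hQU hC
  have hQP : Q ≤ Subgroup.centralizer (P : Set G) := Subgroup.le_centralizer_iff.mp hPQ
  have hPnQ : P ≤ Subgroup.normalizer (Q : Set G) := hPQ.trans (centralizer_le_normalizer Q)
  have hQnP : Q ≤ Subgroup.normalizer (P : Set G) := hQP.trans (centralizer_le_normalizer P)
  obtain ⟨k, hk⟩ := hU.exists_card_eq
  have hcop : (Nat.card Q).Coprime (Nat.card U) := by
    rw [hk]; exact Nat.Coprime.pow_right k hQ
  have hsolvU : Group.IsSolvable U := by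
    haveI := hU.isNilpotent
    exact IsNilpotent.to_isSolvable
  set W := ⁅U, Q⁆ with hW
  have hWU : W ≤ U := commutator_le_of_le_normalizer hQU
  have hWp : IsPGroup p W := hU.to_le hWU
  have hQW : Q ≤ Subgroup.normalizer (W : Set G) := le_normalizer_commutator_right U Q
  have hPW : P ≤ Subgroup.normalizer (W : Set G) :=
    (le_inf hPU hPnQ).trans (normalizer_inf_normalizer_le_normalizer_commutator U Q)
  have hCW : W ⊓ Subgroup.centralizer (P : Set G) ≤ Subgroup.centralizer (Q : Set G) :=
    (inf_le_inf_right _ hWU).trans hC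
  have hstable : ⁅W, Q⁆ = W := Cfsg.Agent.S0027.result Q U hQU hcop (Or.inr hsolvU)
  by_cases hWeq : W = U
  · by_cases hbot : U = ⊥
    · rw [hbot]
      intro q _
      rw [Subgroup.mem_centralizer_iff]
      intro u hu
      rw [Subgroup.coe_bot, Set.mem_singleton_iff] at hu
      subst hu; simp
    · set V := ⁅U, P⁆ with hV
      have hVU : V ≤ U := commutator_le_of_le_normalizer hPU
      have hVne : V ≠ U := commutator_ne_of_isPGroup p P U hP hU hPU hbot
      have hVlt : Nat.card V < Nat.card U := by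
        by_contra hge
        push_neg at hge
        exact hVne (Subgroup.eq_of_le_of_card_ge hVU hge)
      have hVp : IsPGroup p V := hU.to_le hVU
      have hPV : P ≤ Subgroup.normalizer (V : Set G) := le_normalizer_commutator_right U P
      have hQV : Q ≤ Subgroup.normalizer (V : Set G) :=
        (le_inf hQU hQnP).trans (normalizer_inf_normalizer_le_normalizer_commutator U P)
      have hCV : V ⊓ Subgroup.centralizer (P : Set G) ≤ Subgroup.centralizer (Q : Set G) :=
        (inf_le_inf_right _ hVU).trans hC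
      have h1 : Q ≤ Subgroup.centralizer (V : Set G) :=
        ih (Nat.card V) (hn ▸ hVlt) V rfl hVp hPV hQV hCV
      have h2 : ⁅⁅U, P⁆, Q⁆ = ⊥ :=
        Subgroup.commutator_eq_bot_iff_le_centralizer.mpr (Subgroup.le_centralizer_iff.mp h1)
      have h3 : ⁅⁅P, Q⁆, U⁆ = ⊥ := by
        rw [Subgroup.commutator_eq_bot_iff_le_centralizer.mpr hPQ, Subgroup.commutator_bot_left]
      have h4 : ⁅⁅Q, U⁆, P⁆ = ⊥ := Subgroup.commutator_commutator_eq_bot_of_rotate h2 h3
      rw [Subgroup.commutator_comm Q U, ← hW, hWeq] at h4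
      have h5 : U ≤ Subgroup.centralizer (P : Set G) :=
        Subgroup.commutator_eq_bot_iff_le_centralizer.mp h4
      exact Subgroup.le_centralizer_iff.mp ((le_inf le_rfl h5).trans hC)
  · have hWlt : Nat.card W < Nat.card U := by
      by_contra hge
      push_neg at hge
      exact hWeq (Subgroup.eq_of_le_of_card_ge hWU hge)
    have h1 : Q ≤ Subgroup.centralizer (W : Set G) :=
      ih (Nat.card W) (hn ▸ hWlt) W rfl hWp hPW hQW hCW
    have h2 : ⁅W, Q⁆ = ⊥ :=
      Subgroup.commutator_eq_bot_iff_le_centralizer.mpr (Subgroup.le_centralizer_iff.mp h1)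
    rw [h2] at hstable
    have h3 : U ≤ Subgroup.centralizer (Q : Set G) :=
      Subgroup.commutator_eq_bot_iff_le_centralizer.mp hstable.symm
    exact Subgroup.le_centralizer_iff.mp h3

/-- Thompson's P × Q Lemma: let a p-subgroup P and a subgroup Q of order prime to p centralise each other and normalise a p-subgroup U; if every element of U fixed by P is fixed by Q, then Q centralises U. -/
theorem result {G : Type*} [Group G] [Finite G] (p : ℕ) [Fact p.Prime]
    (P Q U : Subgroup G) (hP : IsPGroup p P) (hQ : (Nat.card Q).Coprime p) (hU : IsPGroup p U)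
    (hPQ : P ≤ Subgroup.centralizer (Q : Set G))
    (hPU : P ≤ Subgroup.normalizer (U : Set G)) (hQU : Q ≤ Subgroup.normalizer (U : Set G))
    (hC : U ⊓ Subgroup.centralizer (P : Set G) ≤ Subgroup.centralizer (Q : Set G)) :
    Q ≤ Subgroup.centralizer (U : Set G) := by
  exact aux p P Q hP hQ hPQ _ U rfl hU hPU hQU hC

end Cfsg.Agent.S0028
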