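import Mathlib
import Cfsg.Statements.S0630
import Cfsg.Agent.Lib.Helper7.PConstrained
import Cfsg.Agent.Lib.Helper23.PConstrained

set_option autoImplicit false
open Cfsg

namespace Cfsg.Agent.S0630

theorem pCore_map_eq {H H' : Type*} [Group H] [Group H'] (p : ℕ) [Fact p.Prime] (e : H ≃* H') :
    (pCore p H).map e.toMonoidHom = pCore p H' := by
  apply le_antisymm (Cfsg.Agent.Helper23.PSolv.pCore_map_le p e)
  intro z hz
  have h1 := Cfsg.Agent.Helper23.PSolv.pCore_map_le p e.symm
  have h2 : e.symm z ∈ pCore p H := h1 ⟨z, hz, rfl⟩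
  exact ⟨e.symm z, h2, by simp⟩

theorem cent_transport {H H' : Type*} [Group H] [Group H'] (p : ℕ) [Fact p.Prime] (e : H ≃* H')
    (h : Subgroup.centralizer (pCore p H : Set H) ≤ pCore p H) :
    Subgroup.centralizer (pCore p H' : Set H') ≤ pCore p H' := by
  intro x hx
  have h1 : e.symm x ∈ Subgroup.centralizer (pCore p H : Set H) := by
    rw [Subgroup.mem_centralizer_iff]
    intro y hy
    have hy' : e y ∈ pCore p H' := by
      rw [← pCore_map_eq p e]; exact ⟨y, hy, rfl⟩
    have := Subgroup.mem_centralizer_iff.mp hx (e y) hy'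
    apply e.injective
    simpa using this
  have h2 := h h1
  rw [← pCore_map_eq p e]
  exact ⟨e.symm x, h2, by simp⟩

/-- p-constraint passes to and from the quotient by the largest normal subgroup of order prime to p. -/
theorem result {G : Type*} [Group G] [Finite G] {p : ℕ} [Fact p.Prime] : Cfsg.IsPConstrained p G ↔ Cfsg.IsPConstrained p (G ⧸ Cfsg.pPrimeCore p G) := by
  rw [Cfsg.Agent.Helper7.isPConstrained_iff_centralizer_le,
    Cfsg.Agent.Helper7.isPConstrained_iff_centralizer_le]
  have hbot : Cfsg.pPrimeCore p (G ⧸ Cfsg.pPrimeCore p G) = ⊥ :=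
    Cfsg.Agent.Helper7.pPrimeCore_quotient_eq_bot' p
  let e : ((G ⧸ Cfsg.pPrimeCore p G) ⧸ Cfsg.pPrimeCore p (G ⧸ Cfsg.pPrimeCore p G)) ≃*
      (G ⧸ Cfsg.pPrimeCore p G) :=
    (QuotientGroup.quotientMulEquivOfEq hbot).trans QuotientGroup.quotientBot
  exact ⟨cent_transport p e.symm, cent_transport p e⟩

end Cfsg.Agent.S0630
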