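import Mathlib
import Cfsg.Statements.S0632
import Cfsg.Agent.Lib.Helper4.PPrimeQuot

set_option autoImplicit false
open Cfsg

namespace Cfsg.Agent.S0632

open Cfsg.Agent.Helper4.PQ
open scoped commutatorElement

/-- `⁅⁅P, A⁆, A⁆ ≤ P` when `A` normalizes `P`. -/
theorem comm_comm_le {G : Type*} [Group G] (P A : Subgroup G)
    (h : A ≤ Subgroup.normalizer (P : Set G)) : ⁅⁅P, A⁆, A⁆ ≤ P := by
  have h2 : ⁅P, A⁆ ≤ P := by
    rw [Subgroup.commutator_le]
    intro x hx a ha
    have h1 : a * x⁻¹ * a⁻¹ ∈ P := (Subgroup.mem_normalizer_iff.mp (h ha) x⁻¹).mp (P.inv_mem hx)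
    have : ⁅x, a⁆ = x * (a * x⁻¹ * a⁻¹) := by
      rw [commutatorElement_def]; group
    rw [this]
    exact P.mul_mem hx h1
  exact (Subgroup.commutator_mono h2 le_rfl).trans h2

/-- For a group with a nontrivial normal p-subgroup, p-stability passes to and from the quotient by the largest normal subgroup of order prime to p. -/
theorem result {G : Type*} [Group G] [Finite G] {p : ℕ} [Fact p.Prime] (hO : Cfsg.pCore p G ≠ ⊥) : Cfsg.IsPStable p G ↔ Cfsg.IsPStable p (G ⧸ Cfsg.pPrimeCore p G) := by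
  have hK : (Nat.card (pPrimeCore p G)).Coprime p :=
    Cfsg.Agent.Helper22.card_pPrimeCore_coprime p
  have hbot : pPrimeCore p (G ⧸ pPrimeCore p G) = ⊥ :=
    Cfsg.Agent.Helper7.pPrimeCore_quotient_eq_bot' p
  constructor
  · rintro ⟨hodd, -, H⟩
    refine ⟨hodd, pCore_quotient_ne_bot hK hO, ?_⟩
    intro Ab Pb hAb hPb hnorm hle hN hcomm
    have hPbN : Pb.Normal := by
      rw [hbot, bot_sup_eq] at hN; exact hN
    obtain ⟨P, hPp, hPmap⟩ := exists_lift_pSubgroup hK Pb hPb
    subst hPmap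
    obtain ⟨A, hAp, hAN, hAmap⟩ := exists_lift_normalizing hK P hPp Ab hAb (by
      intro a _
      rw [Subgroup.normalizer_eq_top]
      exact Subgroup.mem_top a)
    subst hAmap
    have hPle : P ≤ pPrimePCore p G := by
      unfold pPrimePCore
      rw [← Subgroup.map_le_iff_le_comap]
      exact le_sSup ⟨hPbN, hPb⟩
    have hKP : (pPrimeCore p G ⊔ P).Normal := by
      rw [← QuotientGroup.comap_map_mk']
      exact Subgroup.Normal.comap hPbN _
    have hcomm' : ⁅⁅P, A⁆, A⁆ = ⊥ := by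
      have h1 : ⁅⁅P, A⁆, A⁆ ≤ pPrimeCore p G := by
        rw [← QuotientGroup.ker_mk' (pPrimeCore p G), ← Subgroup.map_eq_bot_iff,
          Subgroup.map_commutator, Subgroup.map_commutator]
        exact hcomm
      have h2 := comm_comm_le P A hAN
      have h3 := Cfsg.Agent.Helper7.inf_eq_bot_of_isPGroup_of_coprime hPp hK
      rw [eq_bot_iff, ← h3]
      exact le_inf h2 h1
    have hres := H A P hAp hPp (fun a ha x hx =>
      (Subgroup.mem_normalizer_iff.mp (hAN ha) x).mp hx) hPle hKP hcomm'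
    rintro _ ⟨⟨y, hyN⟩, hyA, rfl⟩
    obtain ⟨a, ha, rfl⟩ := hyA
    have h1 := hres ⟨⟨a, hAN ha⟩, ha, rfl⟩
    exact (sec_iff hPp hK a (hAN ha)).mp h1
  · rintro ⟨hodd, -, H⟩
    refine ⟨hodd, hO, ?_⟩
    intro A P hAp hPp hnorm hle hN hcomm
    have hres := H (A.map (QuotientGroup.mk' (pPrimeCore p G)))
      (P.map (QuotientGroup.mk' (pPrimeCore p G))) (hAp.map _) (hPp.map _)
      (by
        rintro _ ⟨a, ha, rfl⟩ _ ⟨x, hx, rfl⟩
        exact ⟨a * x * a⁻¹, hnorm a ha x hx, by simp⟩)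
      (by
        refine le_trans ?_ (pCore_le_pPrimePCore p _)
        rw [Subgroup.map_le_iff_le_comap]
        exact hle)
      (by
        rw [hbot, bot_sup_eq]
        have h1 : P.map (QuotientGroup.mk' (pPrimeCore p G)) =
            (pPrimeCore p G ⊔ P).map (QuotientGroup.mk' (pPrimeCore p G)) := by
          rw [Subgroup.map_sup]
          have : (pPrimeCore p G).map (QuotientGroup.mk' (pPrimeCore p G)) = ⊥ := by
            rw [Subgroup.map_eq_bot_iff, QuotientGroup.ker_mk']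
          rw [this, bot_sup_eq]
        rw [h1]
        exact Subgroup.Normal.map hN _ (QuotientGroup.mk'_surjective _))
      (by
        rw [← Subgroup.map_commutator, ← Subgroup.map_commutator, hcomm, Subgroup.map_bot])
    rintro _ ⟨⟨a, haN⟩, haA, rfl⟩
    have haA' : a ∈ A := haA
    have h1 := hres ⟨⟨QuotientGroup.mk' (pPrimeCore p G) a,
      Subgroup.le_normalizer_map _ ⟨a, haN, rfl⟩⟩, ⟨a, haA', rfl⟩, rfl⟩
    exact (sec_iff hPp hK a haN).mpr h1

end Cfsg.Agent.S0632
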