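import Mathlib
import Cfsg.Statements.S0667
import Cfsg.Agent.S0630
import Cfsg.Agent.S0632
import Cfsg.Agent.Lib.Helper4.ZJStable

set_option autoImplicit false
open Cfsg

namespace Cfsg.Agent.S0667

open Cfsg.Agent.Helper4.ZJ Cfsg.Agent.Helper4.PQ

/-- The quotient map by a `p'`-subgroup is injective on a `p`-subgroup. -/
theorem injOn_mk' {G : Type*} [Group G] [Finite G] {p : ℕ} [Fact p.Prime] {K P : Subgroup G}
    [K.Normal] (hP : IsPGroup p P) (hK : (Nat.card K).Coprime p) :
    Set.InjOn (QuotientGroup.mk' K) (P : Set G) := by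
  intro x hx y hy hxy
  have h1 : x⁻¹ * y ∈ K := by
    rw [← QuotientGroup.eq_one_iff, ← QuotientGroup.mk'_apply, map_mul, map_inv, hxy]
    simp
  have h2 : x⁻¹ * y ∈ P ⊓ K := ⟨P.mul_mem (P.inv_mem hx) hy, h1⟩
  rw [Cfsg.Agent.Helper7.inf_eq_bot_of_isPGroup_of_coprime hP hK, Subgroup.mem_bot] at h2
  exact inv_mul_eq_one.mp h2

/-- Glauberman's Theorem in the p-constrained, p-stable vocabulary: for odd p such a group is the product of its largest normal subgroup of order prime to p with the normalizer of Z(J(P)), and Z(J(P)) is normal when that p'-subgroup is trivial. -/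
theorem result {G : Type*} [Group G] [Finite G] {p : ℕ} [Fact p.Prime] (hp : p ≠ 2) (hc : Cfsg.IsPConstrained p G) (hs : Cfsg.IsPStable p G) (P : Sylow p G) : Cfsg.pPrimeCore p G ⊔ Subgroup.normalizer (Cfsg.centerThompsonAOf ((P : Subgroup G)) : Set G) = ⊤ ∧ (Cfsg.pPrimeCore p G = ⊥ → (Cfsg.centerThompsonAOf ((P : Subgroup G))).Normal) := by
  refine ⟨?_, fun hK => zj_normal_of_pPrimeCore_eq_bot hp hc hs hK P⟩
  have hK : (Nat.card (pPrimeCore p G)).Coprime p :=
    Cfsg.Agent.Helper22.card_pPrimeCore_coprime p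
  have hbot : pPrimeCore p (G ⧸ pPrimeCore p G) = ⊥ :=
    Cfsg.Agent.Helper7.pPrimeCore_quotient_eq_bot' p
  have hc' : IsPConstrained p (G ⧸ pPrimeCore p G) := Cfsg.Agent.S0630.result.mp hc
  have hs' : IsPStable p (G ⧸ pPrimeCore p G) := (Cfsg.Agent.S0632.result hs.2.1).mp hs
  have hsurj : Function.Surjective (QuotientGroup.mk' (pPrimeCore p G)) :=
    QuotientGroup.mk'_surjective _
  have hZn := zj_normal_of_pPrimeCore_eq_bot hp hc' hs' hbot (P.mapSurjective hsurj)
  rw [Sylow.coe_mapSurjective, centerThompsonAOf_map_of_injOn _ _ (injOn_mk' P.2 hK)] at hZn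
  have hZP : Cfsg.centerThompsonAOf (P : Subgroup G) ≤ P :=
    (inf_le_left : Cfsg.centerThompsonAOf (P : Subgroup G) ≤ _).trans
      (thompsonSubgroupAOf_le_self _)
  have hZp : IsPGroup p (Cfsg.centerThompsonAOf (P : Subgroup G)) := P.2.to_le hZP
  have h1 := Cfsg.Agent.Helper7.normalizer_map_mk'_eq hZp hK
  rw [Subgroup.normalizer_eq_top] at h1
  rw [← QuotientGroup.comap_map_mk', ← h1, Subgroup.comap_top]

end Cfsg.Agent.S0667
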