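import Mathlib
import Cfsg.Statements.S0659
import Cfsg.Agent.Lib.Helper4.GTAbstract

set_option autoImplicit false
open Cfsg

namespace Cfsg.Agent.S0659

open Cfsg.Agent.Helper4.ZJ

universe u

/-- The characteristic functor `Z(J(·))` (abelian version). -/
noncomputable def cfA {p : ℕ} [Fact p.Prime] (hp : p ≠ 2) : Cfsg.Agent.Helper4.GT.CharFun.{u} p where
  W := fun _ _ R => Cfsg.centerThompsonAOf R
  le_self := fun _ _ R => (inf_le_left : Cfsg.centerThompsonAOf R ≤ Cfsg.thompsonSubgroupAOf R).trans
    (Subgroup.map_subtype_le _)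
  ne_bot := fun _ _ _ R hR hR1 => Cfsg.Agent.S0658.centerThompsonAOf_ne_bot R hR hR1
  map := fun _ _ _ _ _ _ f R hf => centerThompsonAOf_map_of_injOn f R hf
  zj := fun _ _ _ P hst hc => Z_normal (dataA hp) P hst hc

/-- Glauberman's normal p-complement Theorem with the abelian-version Thompson subgroup: for odd p, G has a normal p-complement whenever the normalizer of Z(J(P)) does. -/
theorem result {G : Type*} [Group G] [Finite G] {p : ℕ} [Fact p.Prime] (hp : p ≠ 2) (P : Sylow p G) (hN : Cfsg.HasNormalPComplement p ↥(Subgroup.normalizer (Cfsg.centerThompsonAOf ((P : Subgroup G)) : Set G))) : Cfsg.HasNormalPComplement p G :=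
  (Cfsg.Agent.Helper4.GT.gt (cfA hp) hp P
    (Cfsg.Agent.Helper10.npc_of_hasNormalPComplement hN)).hasNormalPComplement

end Cfsg.Agent.S0659
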