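import Mathlib
import Cfsg.Statements.S0012
import Cfsg.Agent.Lib.Helper1.PGroupCoatom

set_option autoImplicit false
open Cfsg

namespace Cfsg.Agent.S0012

open Subgroup Cfsg.Agent.Helper1

theorem result {G : Type*} [Group G] [Finite G] (p : ℕ) [Fact p.Prime]
    (hG : IsPGroup p G) : commutator G ≤ frattini G ∧ ∀ x : G, x ^ p ∈ frattini G := by
  have hp : p.Prime := Fact.out
  have key : ∀ M : Subgroup G, IsCoatom M → commutator G ≤ M ∧ ∀ x : G, x ^ p ∈ M := by
    intro M hM
    obtain ⟨hMn, hMi⟩ := coatom_normal_index_of_isPGroup hG M hM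
    constructor
    · rw [← Subgroup.Normal.quotient_commutative_iff_commutator_le]
      have hcard : Nat.card (G ⧸ M) = p := hMi
      haveI : Fact (Nat.card (G ⧸ M)).Prime := ⟨hcard ▸ hp⟩
      have hcyc : IsCyclic (G ⧸ M) := isCyclic_of_prime_card hcard
      exact ⟨⟨fun a b => by
        letI := hcyc.commGroup
        exact mul_comm a b⟩⟩
    · intro x
      rw [← hMi]
      exact Subgroup.pow_index_mem M x
  constructor
  · unfold frattini Order.radical
    apply le_iInf
    intro M
    apply le_iInf
    intro hM
    exact (key M hM).1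
  · intro x
    unfold frattini Order.radical
    rw [Subgroup.mem_iInf]
    intro M
    rw [Subgroup.mem_iInf]
    intro hM
    exact (key M hM).2 x

end Cfsg.Agent.S0012
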