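import Mathlib
import Cfsg.Statements.S0029
import Cfsg.Agent.Lib.Helper1.Coprime
import Cfsg.Agent.Lib.Helper1.CharacteristicMap

set_option autoImplicit false
open Cfsg

namespace Cfsg.Agent.S0029

open Cfsg.Agent.Helper1

/-- An action that is trivial on the Frattini quotient and coprime on the Frattini subgroup is trivial: if A normalises K, the orders of A and of the Frattini subgroup of K are coprime, and every commutator of an element of A with an element of K lies in the Frattini subgroup of K, then A centralises K. -/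
theorem result {G : Type*} [Group G] [Finite G] (A K : Subgroup G)
    (hAK : A ≤ Subgroup.normalizer (K : Set G))
    (hcop : (Nat.card A).Coprime (Nat.card (frattini K)))
    (htriv : ∀ a ∈ A, ∀ k ∈ K, a * k * a⁻¹ * k⁻¹ ∈ (frattini K).map K.subtype) :
    A ≤ Subgroup.centralizer (K : Set G) := by
  set D : Subgroup G := (frattini K).map K.subtype with hD
  have hAD : A ≤ Subgroup.normalizer (D : Set G) :=
    hAK.trans (normalizer_le_normalizer_map_of_characteristic K (frattini K))
  have hcop' : (Nat.card A).Coprime (Nat.card D) := by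
    rw [hD, card_map_subtype]; exact hcop
  have hsolvD : Group.IsSolvable D := by
    haveI : Group.IsNilpotent (frattini K) := frattini_nilpotent
    haveI : Group.IsSolvable (frattini K) := IsNilpotent.to_isSolvable
    exact isSolvable_map_subtype K (frattini K)
  have hDK : D ≤ K := by
    rw [hD]; exact Subgroup.map_subtype_le _
  -- every element of `K` is a fixed point times an element of the Frattini subgroup
  have key : ∀ k ∈ K, ∃ c ∈ K ⊓ Subgroup.centralizer (A : Set G), k⁻¹ * c ∈ D := by
    intro k hk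
    obtain ⟨c, hc, hcD⟩ := exists_centralizer_mem_coset D A hAD hcop' (Or.inr hsolvD) k (by
      intro a ha
      have h1 := htriv a ha k⁻¹ (K.inv_mem hk)
      have : k⁻¹ * a * k * a⁻¹ = (a * k⁻¹ * a⁻¹ * k⁻¹⁻¹)⁻¹ := by group
      rw [this]
      exact D.inv_mem h1)
    refine ⟨c, Subgroup.mem_inf.mpr ⟨?_, hc⟩, hcD⟩
    have : c = k * (k⁻¹ * c) := by group
    rw [this]
    exact K.mul_mem hk (hDK hcD)
  have htop : ((K ⊓ Subgroup.centralizer (A : Set G)).subgroupOf K) ⊔ frattini K = ⊤ := by
    rw [eq_top_iff]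
    intro k _
    obtain ⟨c, hc, hcD⟩ := key k k.2
    have hcK : c ∈ K := (Subgroup.mem_inf.mp hc).1
    have h1 : (⟨c, hcK⟩ : K) ∈ (K ⊓ Subgroup.centralizer (A : Set G)).subgroupOf K :=
      Subgroup.mem_subgroupOf.mpr hc
    have h2 : (k⁻¹ * ⟨c, hcK⟩ : K) ∈ frattini K := by
      obtain ⟨d, hd, hdc⟩ := Subgroup.mem_map.mp hcD
      have : d = k⁻¹ * ⟨c, hcK⟩ := Subtype.ext (by simpa using hdc)
      rw [← this]; exact hd
    have : k = ⟨c, hcK⟩ * (k⁻¹ * ⟨c, hcK⟩)⁻¹ := by group
    rw [this]
    exact Subgroup.mul_mem _ (Subgroup.mem_sup_left h1) (Subgroup.mem_sup_right (Subgroup.inv_mem _ h2))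
  have htop' := frattini_nongenerating htop
  intro a ha
  rw [Subgroup.mem_centralizer_iff]
  intro k hk
  have h1 : (⟨k, hk⟩ : K) ∈ (K ⊓ Subgroup.centralizer (A : Set G)).subgroupOf K := by
    rw [htop']; trivial
  have h2 : k ∈ Subgroup.centralizer (A : Set G) := (Subgroup.mem_inf.mp (Subgroup.mem_subgroupOf.mp h1)).2
  exact ((Subgroup.mem_centralizer_iff.mp h2) a ha).symm

end Cfsg.Agent.S0029
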