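import Mathlib
import Cfsg.Statements.S1033
import Cfsg.Agent.Lib.Lead.ChevH_G2
import Cfsg.Agent.Lib.Lead.ChevH_B2
import Cfsg.Agent.Lib.Lead.ChevH_D4
import Cfsg.Agent.Lib.Lead.ChevH_F4
import Cfsg.Agent.Lib.Lead.ChevH_E6
import Cfsg.Agent.Lib.Lead.ChevH_E7
import Cfsg.Agent.Lib.Lead.ChevH_E8

set_option autoImplicit false
open Cfsg

namespace Cfsg.Agent.S1033

open Cfsg.Agent.Lead.Chev

/-- `h_p(c)` (for a fundamental root `p = p_{i+1}` and `c ≠ 0`) is diagonal: it fixes each `h_{p_j}` and scales `e_s` by `c^{A_{p,s}}`. -/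
theorem result {F : Type*} [Field F] (D : Cfsg.Lie.ChevalleyDatum) (hD : D ∈ [Cfsg.Lie.chevG2, Cfsg.Lie.chevB2, Cfsg.Lie.chevD4, Cfsg.Lie.chevF4, Cfsg.Lie.chevE6, Cfsg.Lie.chevE7, Cfsg.Lie.chevE8]) (i : ℕ) (hi : i < D.rank) (c : F) (hc : c ≠ 0) :
    D.hMat F (D.simple i) c = Matrix.diagonal (Sum.elim (fun _ => (1 : F)) (fun s : Fin D.nroots => c ^ (D.cartan i s))) := by
  simp only [List.mem_cons, List.mem_nil_iff, or_false] at hD
  rcases hD with rfl | rfl | rfl | rfl | rfl | rfl | rfl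
  · exact hMat_eq_diagonal_of_chk _ i (hL_G2 i hi) (hR_G2 i hi) c hc
  · exact hMat_eq_diagonal_of_chk _ i (hL_B2 i hi) (hR_B2 i hi) c hc
  · exact hMat_eq_diagonal_of_chk _ i (hL_D4 i hi) (hR_D4 i hi) c hc
  · exact hMat_eq_diagonal_of_chk _ i (hL_F4 i hi) (hR_F4 i hi) c hc
  · exact hMat_eq_diagonal_of_chk _ i (hL_E6 i hi) (hR_E6 i hi) c hc
  · exact hMat_eq_diagonal_of_chk _ i (hL_E7 i hi) (hR_E7 i hi) c hc
  · exact hMat_eq_diagonal_of_chk _ i (hL_E8 i hi) (hR_E8 i hi) c hc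

end Cfsg.Agent.S1033
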