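import Mathlib
import Cfsg.Statements.S1023
import Cfsg.Agent.Lib.Lead.ChevAdd_G2
import Cfsg.Agent.Lib.Lead.ChevAdd_B2
import Cfsg.Agent.Lib.Lead.ChevAdd_F4
import Cfsg.Agent.Lib.Lead.ChevSL_D4
import Cfsg.Agent.Lib.Lead.ChevSL_E6
import Cfsg.Agent.Lib.Lead.ChevSL_E7
import Cfsg.Agent.Lib.Lead.ChevSL_E8
import Cfsg.Agent.Lib.Lead.ChevAdd

set_option autoImplicit false
open Cfsg

namespace Cfsg.Agent.S1023

open Cfsg.Agent.Lead.Chev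

/-- Additivity of root elements: for every type G₂, B₂, D₄, F₄, E₆, E₇, E₈ and every root `r`, `x_r(t₁) x_r(t₂) = x_r(t₁ + t₂)` as matrices. -/
theorem result {F : Type*} [Field F] (D : Cfsg.Lie.ChevalleyDatum) (hD : D ∈ [Cfsg.Lie.chevG2, Cfsg.Lie.chevB2, Cfsg.Lie.chevD4, Cfsg.Lie.chevF4, Cfsg.Lie.chevE6, Cfsg.Lie.chevE7, Cfsg.Lie.chevE8]) (r : ℕ) (hr : r < D.nroots) (t₁ t₂ : F) :
    D.x F r t₁ * D.x F r t₂ = D.x F r (t₁ + t₂) := by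
  simp only [List.mem_cons, List.mem_nil_iff, or_false] at hD
  rcases hD with rfl | rfl | rfl | rfl | rfl | rfl | rfl
  · exact add_of_chk _ r (addL_G2 r hr) (addR_G2 r hr) t₁ t₂
  · exact add_of_chk _ r (addL_B2 r hr) (addR_B2 r hr) t₁ t₂
  · exact add_of_SL _ r (slRoot_of_ok _ r (slOK_D4 0 (by norm_num) r hr)) t₁ t₂
  · exact add_of_chk _ r (addL_F4 r hr) (addR_F4 r hr) t₁ t₂
  · exact add_of_SL _ r (slRoot_of_ok _ r (slOK_E6 0 (by norm_num) r hr)) t₁ t₂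
  · exact add_of_SL _ r (slRoot_of_ok _ r (slOK_E7 0 (by norm_num) r hr)) t₁ t₂
  · exact add_of_SL _ r (slRoot_of_ok _ r (slOK_E8 0 (by norm_num) r hr)) t₁ t₂

end Cfsg.Agent.S1023
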