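import Mathlib
import Cfsg.Statements.S1024

set_option autoImplicit false
open Cfsg

namespace Cfsg.Agent.S1024

open Cfsg.Lie

/-- the decidable property of a datum used below: `-r ≠ r` and `-r` in range -/
def NegOk (D : ChevalleyDatum) : Prop :=
  ∀ r < D.nroots, D.negIdx.getD r 0 ≠ r ∧ D.negIdx.getD r 0 < D.nroots

instance (D : ChevalleyDatum) : Decidable (NegOk D) := by unfold NegOk; infer_instance

theorem negOk_G2 : NegOk chevG2 := by decide
theorem negOk_B2 : NegOk chevB2 := by decide
theorem negOk_D4 : NegOk chevD4 := by decide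
theorem negOk_F4 : NegOk chevF4 := by decide
set_option maxRecDepth 100000 in
theorem negOk_E6 : NegOk chevE6 := by decide
set_option maxRecDepth 100000 in
theorem negOk_E7 : NegOk chevE7 := by decide
set_option maxRecDepth 100000 in
theorem negOk_E8 : NegOk chevE8 := by decide

theorem chainCoeff_pos (D : ChevalleyDatum) (r s u : ℕ) (km : ℕ × ℤ) (h : km ∈ D.chainCoeff r s u) : 1 ≤ km.1 := by
  unfold ChevalleyDatum.chainCoeff at h
  simp only [List.mem_flatMap, List.mem_map] at h
  obtain ⟨e, _, q, _, rfl⟩ := h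
  simp

theorem xMat_zero {F : Type*} [Field F] (D : ChevalleyDatum) (r : Fin D.nroots) : D.xMat F r 0 = 1 := by
  ext row col
  rcases col with i | s
  · rcases row with i' | u
    · simp [ChevalleyDatum.xMat, Matrix.one_apply]
    · simp [ChevalleyDatum.xMat, Matrix.one_apply]
  · by_cases hsr : s = r
    · rcases row with i' | u
      · simp [ChevalleyDatum.xMat, Matrix.one_apply, hsr]
      · simp [ChevalleyDatum.xMat, Matrix.one_apply, hsr]
    · by_cases hneg : s.val = D.negIdx.getD r.val 0
      · rcases row with i' | u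
        · simp [ChevalleyDatum.xMat, Matrix.one_apply, hsr, hneg]
        · by_cases hus : u = s
          · simp [ChevalleyDatum.xMat, Matrix.one_apply, hsr, hneg, hus]
          · simp [ChevalleyDatum.xMat, Matrix.one_apply, hsr, hneg, hus]
      · rcases row with i' | u
        · simp [ChevalleyDatum.xMat, Matrix.one_apply, hsr, hneg]
        · have hsum : ((D.chainCoeff r.val s.val u.val).map fun km => ((km.2 : ℤ) : F) * (0 : F) ^ km.1).sum = 0 := by
            apply List.sum_eq_zero
            intro x hx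
            rw [List.mem_map] at hx
            obtain ⟨km, hkm, rfl⟩ := hx
            have := chainCoeff_pos D _ _ _ km hkm
            rw [zero_pow (by omega), mul_zero]
          simp only [ChevalleyDatum.xMat, Matrix.of_apply, hsr, hneg, if_false, hsum, add_zero, Matrix.one_apply]
          simp

theorem xMat_eq_one_imp {F : Type*} [Field F] (D : ChevalleyDatum) (hD : NegOk D) (r : Fin D.nroots) (t : F)
    (h : D.xMat F r t = 1) : t = 0 := by
  obtain ⟨hne, hlt⟩ := hD r.val r.2
  obtain ⟨s, hs⟩ : ∃ s : Fin D.nroots, s.val = D.negIdx.getD r.val 0 := ⟨⟨_, hlt⟩, rfl⟩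
  have hsr : s ≠ r := by
    intro h; apply hne; rw [← hs, h]
  have h1 := congrFun (congrFun h (Sum.inr r)) (Sum.inr s)
  have hrs : r ≠ s := fun h => hsr h.symm
  simp only [ChevalleyDatum.xMat, Matrix.of_apply, Matrix.one_apply, hsr, hrs, if_false, hs, if_true,
    Sum.inr.injEq] at h1
  simpa using h1

/-- `x_r(0) = 1`, and `x_r(t) = 1` forces `t = 0`: the map `t ↦ x_r(t)` is injective. -/
theorem result {F : Type*} [Field F] (D : Cfsg.Lie.ChevalleyDatum) (hD : D ∈ [Cfsg.Lie.chevG2, Cfsg.Lie.chevB2, Cfsg.Lie.chevD4, Cfsg.Lie.chevF4, Cfsg.Lie.chevE6, Cfsg.Lie.chevE7, Cfsg.Lie.chevE8]) (r : ℕ) (hr : r < D.nroots) (t : F) :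
    D.x F r t = 1 ↔ t = 0 := by
  have hok : NegOk D := by
    simp only [List.mem_cons, List.mem_nil_iff, or_false] at hD
    rcases hD with rfl | rfl | rfl | rfl | rfl | rfl | rfl
    · exact negOk_G2
    · exact negOk_B2
    · exact negOk_D4
    · exact negOk_F4
    · exact negOk_E6
    · exact negOk_E7
    · exact negOk_E8
  unfold ChevalleyDatum.x
  rw [dif_pos hr]
  constructor
  · exact xMat_eq_one_imp D hok ⟨r, hr⟩ t
  · rintro rfl
    exact xMat_zero D ⟨r, hr⟩

end Cfsg.Agent.S1024
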