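import Mathlib
import Cfsg.Statements.S1025
import Cfsg.Agent.S1023
import Cfsg.Agent.S1024
import Cfsg.Agent.Lib.Lead.ChevNXAll
import Cfsg.Agent.Lib.Lead.ChevComm_G2
import Cfsg.Agent.Lib.Lead.ChevComm_B2
import Cfsg.Agent.Lib.Lead.ChevComm_D4
import Cfsg.Agent.Lib.Lead.ChevComm_F4
import Cfsg.Agent.Lib.Lead.ChevComm_E6
import Cfsg.Agent.Lib.Lead.ChevComm_E7
import Cfsg.Agent.Lib.Lead.ChevComm_E8

set_option autoImplicit false
open Cfsg

namespace Cfsg.Agent.S1025

open Cfsg.Agent.Lead.Chev Cfsg.Lie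

theorem nConj_of_mem {F : Type*} [Field F] (D : ChevalleyDatum)
    (hD : D ∈ [chevG2, chevB2, chevD4, chevF4, chevE6, chevE7, chevE8]) (i : ℕ) (hi : i < D.rank) :
    NConj D F i (etaOf D i) :=
  let h := nSimple_of_mem (F := F) D hD i hi
  ⟨h.sign, h.facts, h.conj⟩

theorem simple_lt_of_mem (D : ChevalleyDatum)
    (hD : D ∈ [chevG2, chevB2, chevD4, chevF4, chevE6, chevE7, chevE8]) :
    ∀ i < D.rank, D.simple i < D.nroots := by
  simp only [List.mem_cons, List.mem_nil_iff, or_false] at hD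
  rcases hD with rfl | rfl | rfl | rfl | rfl | rfl | rfl <;> decide

/-- the simply-laced case -/
theorem comm_SL {F : Type*} [Field F] (D : ChevalleyDatum)
    (hD : D ∈ [chevG2, chevB2, chevD4, chevF4, chevE6, chevE7, chevE8])
    (hok : ∀ r < D.nroots, slRootOK D r = true) (Ws : List ℕ) (H : ℕ) (base : List (ℕ × ℕ))
    (hWs : ∀ i < D.rank, wsChk D Ws i = true)
    (hbase : ∀ k < base.length, baseAllChk D base k = true)
    (hlite : ∀ r < D.nroots, ∀ s < D.nroots, pairLite D Ws H base r s = true) :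
    ∀ r < D.nroots, ∀ s < D.nroots, s ≠ r → s ≠ D.neg r → CommOK D F r s :=
  commOK_all D (fun i => etaOf D i) (nConj_of_mem D hD) (simple_lt_of_mem D hD)
    (fun r hr t₁ t₂ => Cfsg.Agent.S1023.result D hD r hr t₁ t₂)
    (fun r hr => (Cfsg.Agent.S1024.result D hD r hr 0).2 rfl) H base
    (commOK_of_baseAllChk D base hbase)
    (hstep_of_pairLite D (fun r hr => slRoot_of_ok D r (hok r hr))
      (fun r hr => nodup_of_slRootOK D r (hok r hr)) (fun i => etaOf D i)
      (fun i hi => (nSimple_of_mem (F := F) D hD i hi).facts) Ws H base (ws_of_chk D Ws hWs) hlite)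

/-- the case of the full pair test -/
theorem comm_full {F : Type*} [Field F] (D : ChevalleyDatum)
    (hD : D ∈ [chevG2, chevB2, chevD4, chevF4, chevE6, chevE7, chevE8])
    (Ws : List ℕ) (H : ℕ) (base : List (ℕ × ℕ))
    (hWs : ∀ i < D.rank, wsChk D Ws i = true)
    (hbase : ∀ k < base.length, baseAllChk D base k = true)
    (hpair : ∀ r < D.nroots, ∀ s < D.nroots, pairChk D (masksOf D) Ws H base r s = true) :
    ∀ r < D.nroots, ∀ s < D.nroots, s ≠ r → s ≠ D.neg r → CommOK D F r s :=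
  commOK_all D (fun i => etaOf D i) (nConj_of_mem D hD) (simple_lt_of_mem D hD)
    (fun r hr t₁ t₂ => Cfsg.Agent.S1023.result D hD r hr t₁ t₂)
    (fun r hr => (Cfsg.Agent.S1024.result D hD r hr 0).2 rfl) H base
    (commOK_of_baseAllChk D base hbase)
    (hstep_of_pairChk D (masksOf D) Ws H base (ws_of_chk D Ws hWs) hpair)

/-- Chevalley's commutator formula: for roots `s ≠ ±r`, `x_s(u) x_r(t) = x_r(t) x_s(u) · ∏_{i,j>0} x_{ir+js}(C_{ijrs} (-t)^i u^j)`, the product (in order of increasing `i + j`) and the constants being those of `commWord`. -/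
theorem result {F : Type*} [Field F] (D : Cfsg.Lie.ChevalleyDatum) (hD : D ∈ [Cfsg.Lie.chevG2, Cfsg.Lie.chevB2, Cfsg.Lie.chevD4, Cfsg.Lie.chevF4, Cfsg.Lie.chevE6, Cfsg.Lie.chevE7, Cfsg.Lie.chevE8]) (r s : ℕ) (hr : r < D.nroots) (hs : s < D.nroots)
    (hrs : s ≠ r) (hneg : s ≠ D.neg r) (t u : F) :
    D.x F s u * D.x F r t = D.x F r t * D.x F s u * D.wordMat F (D.commWord F r s t u) := by
  have hD' := hD
  simp only [List.mem_cons, List.mem_nil_iff, or_false] at hD'
  rcases hD' with rfl | rfl | rfl | rfl | rfl | rfl | rfl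
  · exact comm_full _ hD commWs_G2 commH_G2 commBase_G2 (commWsOK_G2 0 (by norm_num))
      (commBaseOK_G2 0 (by norm_num)) commPairOK_G2 r hr s hs hrs hneg t u
  · exact comm_full _ hD commWs_B2 commH_B2 commBase_B2 (commWsOK_B2 0 (by norm_num))
      (commBaseOK_B2 0 (by norm_num)) commPairOK_B2 r hr s hs hrs hneg t u
  · exact comm_SL _ hD (fun r hr => slOK_D4 0 (by norm_num) r hr) commWs_D4 commH_D4 commBase_D4
      (commWsOK_D4 0 (by norm_num)) (commBaseOK_D4 0 (by norm_num)) commLiteOK_D4 r hr s hs hrs hneg t u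
  · exact comm_full _ hD commWs_F4 commH_F4 commBase_F4 (commWsOK_F4 0 (by norm_num))
      (commBaseOK_F4 0 (by norm_num)) commPairOK_F4 r hr s hs hrs hneg t u
  · exact comm_SL _ hD (fun r hr => slOK_E6 0 (by norm_num) r hr) commWs_E6 commH_E6 commBase_E6
      (commWsOK_E6 0 (by norm_num)) (commBaseOK_E6 0 (by norm_num)) commLiteOK_E6 r hr s hs hrs hneg t u
  · exact comm_SL _ hD (fun r hr => slOK_E7 0 (by norm_num) r hr) commWs_E7 commH_E7 commBase_E7
      (commWsOK_E7 0 (by norm_num)) (commBaseOK_E7 0 (by norm_num)) commLiteOK_E7 r hr s hs hrs hneg t u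
  · exact comm_SL _ hD (fun r hr => slOK_E8 0 (by norm_num) r hr) commWs_E8 commH_E8 commBase_E8
      (commWsOK_E8 0 (by norm_num)) (commBaseOK_E8 0 (by norm_num)) commLiteOK_E8 r hr s hs hrs hneg t u

end Cfsg.Agent.S1025
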