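import Mathlib
import Cfsg.Statements.S1053
import Cfsg.Agent.S1023
import Cfsg.Agent.S1024
import Cfsg.Agent.Lib.Lead.ChevW0Data

set_option autoImplicit false
open Cfsg

namespace Cfsg.Agent.S1053

open Cfsg.Agent.Lead.Chev Cfsg.Lie

theorem xAdd_of_mem {F : Type*} [Field F] (D : ChevalleyDatum)
    (hD : D ∈ [chevG2, chevB2, chevD4, chevF4, chevE6, chevE7, chevE8]) : XAdd D F :=
  ⟨fun r hr t₁ t₂ => Cfsg.Agent.S1023.result D hD r hr t₁ t₂,
   fun r hr => (Cfsg.Agent.S1024.result D hD r hr 0).2 rfl⟩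

theorem simple_lt_of_mem (D : ChevalleyDatum)
    (hD : D ∈ [chevG2, chevB2, chevD4, chevF4, chevE6, chevE7, chevE8]) :
    ∀ i < D.rank, D.simple i < D.nroots := by
  simp only [List.mem_cons, List.mem_nil_iff, or_false] at hD
  rcases hD with rfl | rfl | rfl | rfl | rfl | rfl | rfl <;> decide

/-- a word for the longest element -/
def w0Of (D : ChevalleyDatum) : List ℕ :=
  if D.nroots = 12 then w0Word_G2 else if D.nroots = 8 then w0Word_B2 else if D.nroots = 24 then w0Word_D4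
  else if D.nroots = 48 then w0Word_F4 else if D.nroots = 72 then w0Word_E6
  else if D.nroots = 126 then w0Word_E7 else w0Word_E8

theorem w0Chk_of_mem (D : ChevalleyDatum)
    (hD : D ∈ [chevG2, chevB2, chevD4, chevF4, chevE6, chevE7, chevE8]) :
    w0Chk D (wsOf D) (w0Of D) = true := by
  simp only [List.mem_cons, List.mem_nil_iff, or_false] at hD
  rcases hD with rfl | rfl | rfl | rfl | rfl | rfl | rfl
  · exact w0OK_G2
  · exact w0OK_B2
  · exact w0OK_D4
  · exact w0OK_F4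
  · exact w0OK_E6
  · exact w0OK_E7
  · exact w0OK_E8

/-- the facts on the word of the longest element -/
theorem w0_facts {F : Type*} [Field F] (D : ChevalleyDatum)
    (hD : D ∈ [chevG2, chevB2, chevD4, chevF4, chevE6, chevE7, chevE8]) :
    (∀ i ∈ w0Of D, i < D.rank) ∧ (∀ s, D.IsPosRoot s → D.IsNegRoot (reflWord D (w0Of D) s)) ∧
      (∀ s, D.IsNegRoot s → ∃ r, D.IsPosRoot r ∧ reflWord D (w0Of D) r = s) :=
  w0_of_chk D (fun i => etaOf D i) (fun i hi => (nSimple_of_mem (F := F) D hD i hi).facts) (wsOf D)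
    (wsTab_of_mem D hD) (w0Of D) (w0Chk_of_mem D hD)

/-- There is `n₀ ∈ N` with `n₀ U n₀⁻¹ = V` (a representative of the longest element of the Weyl group). -/
theorem result {F : Type*} [Field F] (D : Cfsg.Lie.ChevalleyDatum) (hD : D ∈ [Cfsg.Lie.chevG2, Cfsg.Lie.chevB2, Cfsg.Lie.chevD4, Cfsg.Lie.chevF4, Cfsg.Lie.chevE6, Cfsg.Lie.chevE7, Cfsg.Lie.chevE8]) :
    ∃ n ∈ D.monomialSubgroup F, (D.posUnipotent F).map (MulAut.conj n).toMonoidHom = D.negUnipotent F := by
  have hX : XAdd D F := xAdd_of_mem D hD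
  obtain ⟨hw, h1, h2⟩ := w0_facts (F := F) D hD
  exact ⟨nWordGL D hX (w0Of D), nWordGL_mem_monomial D hX (simple_lt_of_mem D hD) _ hw,
    map_conj_posUnipotent D hX (fun i => etaOf D i) (fun i hi => nSimple_of_mem D hD i hi) _ hw h1 h2⟩

end Cfsg.Agent.S1053
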