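import Mathlib
import Cfsg.Statements.S0308

set_option autoImplicit false
open Cfsg

namespace Cfsg.Agent.S0308

variable {G : Type*} [Group G] (P : Cfsg.BNPair G)

/-- the union of the double cosets `B n B` -/
def bnb : Set G := {g | ∃ n ∈ P.N, g ∈ DoubleCoset.doubleCoset n (P.B : Set G) P.B}

theorem bnb_mul_B {g b : G} (hg : g ∈ bnb P) (hb : b ∈ P.B) : b * g ∈ bnb P := by
  obtain ⟨n, hn, hg⟩ := hg
  rw [DoubleCoset.mem_doubleCoset] at hg
  obtain ⟨x, hx, y, hy, rfl⟩ := hg
  refine ⟨n, hn, ?_⟩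
  rw [DoubleCoset.mem_doubleCoset]
  exact ⟨b * x, P.B.mul_mem hb hx, y, hy, by group⟩

theorem bnb_mul_S {g s : G} (hg : g ∈ bnb P) (hs : s ∈ P.S) : s * g ∈ bnb P := by
  obtain ⟨n, hn, hg⟩ := hg
  rw [DoubleCoset.mem_doubleCoset] at hg
  obtain ⟨x, hx, y, hy, rfl⟩ := hg
  have hx' : x ∈ P.B := hx
  have hy' : y ∈ P.B := hy
  rcases P.mul_mem_union s hs n hn x hx' with h | h
  · rw [DoubleCoset.mem_doubleCoset] at h
    obtain ⟨x1, hx1, y1, hy1, h⟩ := h
    refine ⟨s * n, P.N.mul_mem (P.subset hs) hn, ?_⟩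
    rw [DoubleCoset.mem_doubleCoset]
    refine ⟨x1, hx1, y1 * y, P.B.mul_mem hy1 hy', ?_⟩
    calc s * (x * n * y) = (s * x * n) * y := by group
      _ = x1 * (s * n) * y1 * y := by rw [h]
      _ = x1 * (s * n) * (y1 * y) := by group
  · rw [DoubleCoset.mem_doubleCoset] at h
    obtain ⟨x1, hx1, y1, hy1, h⟩ := h
    refine ⟨n, hn, ?_⟩
    rw [DoubleCoset.mem_doubleCoset]
    refine ⟨x1, hx1, y1 * y, P.B.mul_mem hy1 hy', ?_⟩
    calc s * (x * n * y) = (s * x * n) * y := by group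
      _ = x1 * n * y1 * y := by rw [h]
      _ = x1 * n * (y1 * y) := by group

theorem closure_eq_top : Subgroup.closure ((P.B : Set G) ∪ P.S) = ⊤ := by
  rw [eq_top_iff, ← P.sup_eq_top]
  have hB : P.B ≤ Subgroup.closure ((P.B : Set G) ∪ P.S) := by
    intro b hb
    exact Subgroup.subset_closure (Or.inl hb)
  have hS : Subgroup.closure P.S ≤ Subgroup.closure ((P.B : Set G) ∪ P.S) :=
    Subgroup.closure_mono Set.subset_union_right
  apply sup_le hB
  rw [← P.closure_sup]
  exact sup_le hS (le_trans inf_le_left hB)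

theorem all_mem (g : G) : g ∈ bnb P := by
  have hg : g ∈ Subgroup.closure ((P.B : Set G) ∪ P.S) := by
    rw [closure_eq_top]; exact Subgroup.mem_top g
  induction hg using Subgroup.closure_induction_left with
  | one =>
    refine ⟨1, P.N.one_mem, ?_⟩
    rw [DoubleCoset.mem_doubleCoset]
    exact ⟨1, P.B.one_mem, 1, P.B.one_mem, by group⟩
  | mul_left x hx y _ ih =>
    rcases hx with hx | hx
    · exact bnb_mul_B P ih hx
    · exact bnb_mul_S P ih hx
  | inv_mul_cancel x hx y _ ih =>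
    rcases hx with hx | hx
    · exact bnb_mul_B P ih (P.B.inv_mem hx)
    · have h1 : (x * x)⁻¹ * y ∈ bnb P := bnb_mul_B P ih (P.B.inv_mem (P.sq_mem x hx))
      have h2 := bnb_mul_S P h1 hx
      have : x * ((x * x)⁻¹ * y) = x⁻¹ * y := by group
      rw [this] at h2
      exact h2

/-- Bruhat decomposition, existence part: every element of a group with a (B,N)-pair lies in some double
coset `B n B` with `n ∈ N`. -/
theorem result {G : Type*} [Group G] (P : Cfsg.BNPair G) (g : G) :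
    ∃ n ∈ P.N, g ∈ DoubleCoset.doubleCoset n (P.B : Set G) P.B := by
  exact all_mem P g

end Cfsg.Agent.S0308
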