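import Mathlib
import Cfsg.Statements.S1026
import Cfsg.Agent.S1023
import Cfsg.Agent.S1024
import Cfsg.Agent.S1025
import Cfsg.Agent.Lib.Lead.ChevUAll

set_option autoImplicit false
open Cfsg

namespace Cfsg.Agent.S1026

open Cfsg.Agent.Lead.Chev Cfsg.Lie

/-- Every element of `U` has a unique expression `∏_{r ∈ Φ⁺} x_r(t_r)`, the product over the positive roots in increasing index order (the coefficient family `t`, supported on the positive roots, exists and is unique); and conversely every such ordered product is the matrix of an element of `U`. -/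
theorem result {F : Type*} [Field F] (D : Cfsg.Lie.ChevalleyDatum) (hD : D ∈ [Cfsg.Lie.chevG2, Cfsg.Lie.chevB2, Cfsg.Lie.chevD4, Cfsg.Lie.chevF4, Cfsg.Lie.chevE6, Cfsg.Lie.chevE7, Cfsg.Lie.chevE8]) :
    (∀ g : GL D.Idx F, g ∈ D.posUnipotent F →
      ∃! t : ℕ → F, (∀ r, ¬ D.IsPosRoot r → t r = 0) ∧
        (g : Matrix D.Idx D.Idx F) = D.wordMat F (D.posRoots.map fun r => (r, t r))) ∧
    (∀ t : ℕ → F, ∃ g : GL D.Idx F, g ∈ D.posUnipotent F ∧
      (g : Matrix D.Idx D.Idx F) = D.wordMat F (D.posRoots.map fun r => (r, t r))) := by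
  have hadd : ∀ r < D.nroots, ∀ t₁ t₂ : F, D.x F r t₁ * D.x F r t₂ = D.x F r (t₁ + t₂) :=
    fun r hr t₁ t₂ => Cfsg.Agent.S1023.result D hD r hr t₁ t₂
  have hzero : ∀ r < D.nroots, D.x F r (0 : F) = 1 :=
    fun r hr => (Cfsg.Agent.S1024.result D hD r hr 0).2 rfl
  have hcomm : ∀ r < D.nroots, ∀ s < D.nroots, s ≠ r → s ≠ D.neg r → CommOK D F r s :=
    fun r hr s hs h1 h2 t u => Cfsg.Agent.S1025.result D hD r s hr hs h1 h2 t u
  have hU := uFacts_of_mem D hD
  have hPC := posComm_of_mem D hD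
  have hposmem : ∀ r ∈ D.posRoots, D.IsPosRoot r := by
    intro r hr
    rw [← posFrom_zero, mem_posFrom] at hr
    exact hr.2
  constructor
  · intro g hg
    obtain ⟨t₀, ht₀⟩ := exists_prodL_of_mem D hadd hzero hcomm hPC g hg
    refine ⟨fun r => if D.IsPosRoot r then t₀ r else 0, ⟨?_, ?_⟩, ?_⟩
    · intro r hr
      simp [hr]
    · rw [ht₀]
      apply prodL_congr
      intro r hr
      simp [hposmem r hr]
    · rintro t' ⟨h1, h2⟩
      funext r
      by_cases hr : D.IsPosRoot r
      · simp only [hr, if_true]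
        have h3 : prodL D D.posRoots t' = prodL D D.posRoots t₀ := by
          rw [← ht₀, h2]
          rfl
        exact prodL_posRoots_inj D hU hadd hzero t' t₀ h3 r hr
      · simp [hr, h1 r hr]
  · intro t
    exact exists_mem_of_posWord D hadd hzero _ (by
      intro q hq
      obtain ⟨r, hr, rfl⟩ := List.mem_map.1 hq
      exact hposmem r hr)

end Cfsg.Agent.S1026
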