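import Mathlib
import Cfsg.Statements.S1027
import Cfsg.Agent.S1026

set_option autoImplicit false
open Cfsg

namespace Cfsg.Agent.S1027

open Cfsg.Agent.Lead.Chev Cfsg.Lie

theorem posRoots_length (D : ChevalleyDatum)
    (hD : D ∈ [chevG2, chevB2, chevD4, chevF4, chevE6, chevE7, chevE8]) :
    D.posRoots.length = D.nroots / 2 := by
  simp only [List.mem_cons, List.mem_nil_iff, or_false] at hD
  rcases hD with rfl | rfl | rfl | rfl | rfl | rfl | rfl <;> decide +kernel

theorem posRoots_nodup (D : ChevalleyDatum) : D.posRoots.Nodup := by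
  unfold ChevalleyDatum.posRoots
  exact List.Nodup.filter _ List.nodup_range

theorem mem_posRoots (D : ChevalleyDatum) (r : ℕ) : r ∈ D.posRoots ↔ D.IsPosRoot r := by
  rw [← posFrom_zero, mem_posFrom]
  simp

/-- the positive roots as a finite type -/
abbrev PosT (D : ChevalleyDatum) : Type := {r : ℕ // r ∈ D.posRoots}

/-- extension by zero -/
noncomputable def ext0 {F : Type*} [Field F] (D : ChevalleyDatum) (f : PosT D → F) : ℕ → F := fun r =>
  if h : r ∈ D.posRoots then f ⟨r, h⟩ else 0

/-- For the subgroup `U` generated by the root elements `x_r(t)` of the positive roots `r`: `|U| = q^N` over a field with `q` elements, where `N` is the number of positive roots (half the number of roots). -/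
theorem result {F : Type*} [Field F] [Fintype F] (D : Cfsg.Lie.ChevalleyDatum) (hD : D ∈ [Cfsg.Lie.chevG2, Cfsg.Lie.chevB2, Cfsg.Lie.chevD4, Cfsg.Lie.chevF4, Cfsg.Lie.chevE6, Cfsg.Lie.chevE7, Cfsg.Lie.chevE8]) :
    Nat.card (D.posUnipotent F) = Fintype.card F ^ (D.nroots / 2) := by
  obtain ⟨h1, h2⟩ := Cfsg.Agent.S1026.result (F := F) D hD
  -- the map from parameter families to `U`
  have hex : ∀ f : PosT D → F, ∃ g : D.posUnipotent F,
      ((g : GL D.Idx F) : Matrix D.Idx D.Idx F) =
        D.wordMat F (D.posRoots.map fun r => (r, ext0 D f r)) := by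
    intro f
    obtain ⟨g, hg, hgm⟩ := h2 (ext0 D f)
    exact ⟨⟨g, hg⟩, hgm⟩
  choose Ψ hΨ using hex
  have hinj : Function.Injective Ψ := by
    intro f f' hff
    have e1 := hΨ f
    have e2 := hΨ f'
    rw [hff] at e1
    obtain ⟨t, _, htu⟩ := h1 (Ψ f' : GL D.Idx F) (Ψ f').2
    have hz : ∀ (f : PosT D → F) r, ¬ D.IsPosRoot r → ext0 D f r = 0 := by
      intro f r hr
      have : r ∉ D.posRoots := fun h => hr ((mem_posRoots D r).1 h)
      simp [ext0, this]
    have u1 := htu (ext0 D f) ⟨hz f, e1⟩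
    have u2 := htu (ext0 D f') ⟨hz f', e2⟩
    funext ⟨r, hr⟩
    have := congrFun (u1.trans u2.symm) r
    simpa [ext0, hr] using this
  have hsurj : Function.Surjective Ψ := by
    intro g
    obtain ⟨t, ⟨ht0, htm⟩, _⟩ := h1 (g : GL D.Idx F) g.2
    refine ⟨fun r => t r.val, ?_⟩
    apply Subtype.ext
    apply Units.ext
    rw [hΨ, htm]
    congr 1
    apply List.map_congr_left
    intro r hr
    simp [ext0, hr]
  have hcard := Nat.card_congr (Equiv.ofBijective Ψ ⟨hinj, hsurj⟩)
  rw [← hcard, Nat.card_fun, Nat.card_eq_fintype_card (α := F)]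
  congr 1
  have e : PosT D ≃ (D.posRoots.toFinset : Finset ℕ) :=
    Equiv.subtypeEquivRight (fun r => by simp)
  rw [Nat.card_congr e, Nat.card_eq_fintype_card, Fintype.card_coe,
    List.toFinset_card_of_nodup (posRoots_nodup D), posRoots_length D hD]

end Cfsg.Agent.S1027
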