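import Mathlib
import Cfsg.Statements.S1035
import Cfsg.Agent.S1023
import Cfsg.Agent.S1024
import Cfsg.Agent.Lib.Lead.ChevHFacts
import Cfsg.Agent.Lib.Lead.ChevHCardData

set_option autoImplicit false
open Cfsg

namespace Cfsg.Agent.S1035

open Cfsg.Agent.Lead.Chev Cfsg.Lie

theorem simple_lt_of_mem (D : ChevalleyDatum)
    (hD : D ∈ [chevG2, chevB2, chevD4, chevF4, chevE6, chevE7, chevE8]) :
    ∀ i < D.rank, D.simple i < D.nroots := by
  simp only [List.mem_cons, List.mem_nil_iff, or_false] at hD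
  rcases hD with rfl | rfl | rfl | rfl | rfl | rfl | rfl <;> decide

/-- the general formula, from the Smith normal form -/
theorem card_of_smith {F : Type*} [Field F] [Fintype F] (D : ChevalleyDatum)
    (hD : D ∈ [chevG2, chevB2, chevD4, chevF4, chevE6, chevE7, chevE8])
    (mL U Ui V Vi : List (List ℤ)) (s : List ℕ)
    (hm : RootCoef D (coefOfL D.rank mL))
    (h1 : matOfL D.rank U * cartanMat D * matOfL D.rank V =
      Matrix.diagonal (fun i => ((s.getD i.val 0 : ℕ) : ℤ)))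
    (h2 : matOfL D.rank Ui * matOfL D.rank U = 1) (h3 : matOfL D.rank V * matOfL D.rank Vi = 1)
    (h4 : matOfL D.rank Vi * matOfL D.rank V = 1) :
    (∏ i : Fin D.rank, (Fintype.card F - 1).gcd (s.getD i.val 0)) * Nat.card (D.diagonalSubgroup F) =
      (Fintype.card F - 1) ^ D.rank :=
  card_diagonalSubgroup D
    ⟨fun r hr t₁ t₂ => Cfsg.Agent.S1023.result D hD r hr t₁ t₂,
     fun r hr => (Cfsg.Agent.S1024.result D hD r hr 0).2 rfl⟩
    (hSimple_of_mem D hD) (hAll_of_mem D hD) (simple_lt_of_mem D hD) _ hm _ _ _ _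
    (fun i => s.getD i.val 0) h1 h2 h3 h4

/-- `d · |H| = (q - 1)^rank` over a field with `q` elements, with `d = 1` (G₂, F₄, E₈), `gcd(3, q-1)` (E₆), `gcd(2, q-1)` (E₇, B₂), `gcd(2, q-1)²` (D₄). -/
theorem result {F : Type*} [Field F] [Fintype F] {q : ℕ} (hq : Fintype.card F = q)
    (p : Cfsg.Lie.ChevalleyDatum × ℕ)
    (hp : p ∈ [(Cfsg.Lie.chevG2, 1), (Cfsg.Lie.chevF4, 1), (Cfsg.Lie.chevE8, 1), (Cfsg.Lie.chevE6, Nat.gcd 3 (q - 1)),
      (Cfsg.Lie.chevE7, Nat.gcd 2 (q - 1)), (Cfsg.Lie.chevB2, Nat.gcd 2 (q - 1)), (Cfsg.Lie.chevD4, Nat.gcd 2 (q - 1) ^ 2)]) :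
    p.2 * Nat.card (p.1.diagonalSubgroup F) = (q - 1) ^ p.1.rank := by
  subst hq
  simp only [List.mem_cons, List.mem_nil_iff, or_false] at hp
  rcases hp with rfl | rfl | rfl | rfl | rfl | rfl | rfl
  · have h := card_of_smith (F := F) chevG2 (by simp) rootCoefL_G2 smithU_G2 smithUi_G2 smithV_G2 smithVi_G2
      smithS_G2 rootCoef_G2 smith1_G2 smith2_G2 smith3_G2 smith4_G2
    have e : (∏ i : Fin chevG2.rank, (Fintype.card F - 1).gcd (smithS_G2.getD i.val 0)) = 1 := by
      show (∏ i : Fin 2, (Fintype.card F - 1).gcd (smithS_G2.getD i.val 0)) = 1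
      simp [Fin.prod_univ_succ, smithS_G2]
    rw [e] at h
    exact h
  · have h := card_of_smith (F := F) chevF4 (by simp) rootCoefL_F4 smithU_F4 smithUi_F4 smithV_F4 smithVi_F4
      smithS_F4 rootCoef_F4 smith1_F4 smith2_F4 smith3_F4 smith4_F4
    have e : (∏ i : Fin chevF4.rank, (Fintype.card F - 1).gcd (smithS_F4.getD i.val 0)) = 1 := by
      show (∏ i : Fin 4, (Fintype.card F - 1).gcd (smithS_F4.getD i.val 0)) = 1
      simp [Fin.prod_univ_succ, smithS_F4]
    rw [e] at h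
    exact h
  · have h := card_of_smith (F := F) chevE8 (by simp) rootCoefL_E8 smithU_E8 smithUi_E8 smithV_E8 smithVi_E8
      smithS_E8 rootCoef_E8 smith1_E8 smith2_E8 smith3_E8 smith4_E8
    have e : (∏ i : Fin chevE8.rank, (Fintype.card F - 1).gcd (smithS_E8.getD i.val 0)) = 1 := by
      show (∏ i : Fin 8, (Fintype.card F - 1).gcd (smithS_E8.getD i.val 0)) = 1
      simp [Fin.prod_univ_succ, smithS_E8]
    rw [e] at h
    exact h
  · have h := card_of_smith (F := F) chevE6 (by simp) rootCoefL_E6 smithU_E6 smithUi_E6 smithV_E6 smithVi_E6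
      smithS_E6 rootCoef_E6 smith1_E6 smith2_E6 smith3_E6 smith4_E6
    have e : (∏ i : Fin chevE6.rank, (Fintype.card F - 1).gcd (smithS_E6.getD i.val 0)) =
        Nat.gcd 3 (Fintype.card F - 1) := by
      show (∏ i : Fin 6, (Fintype.card F - 1).gcd (smithS_E6.getD i.val 0)) = _
      simp [Fin.prod_univ_succ, smithS_E6, Nat.gcd_comm]
    rw [e] at h
    exact h
  · have h := card_of_smith (F := F) chevE7 (by simp) rootCoefL_E7 smithU_E7 smithUi_E7 smithV_E7 smithVi_E7
      smithS_E7 rootCoef_E7 smith1_E7 smith2_E7 smith3_E7 smith4_E7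
    have e : (∏ i : Fin chevE7.rank, (Fintype.card F - 1).gcd (smithS_E7.getD i.val 0)) =
        Nat.gcd 2 (Fintype.card F - 1) := by
      show (∏ i : Fin 7, (Fintype.card F - 1).gcd (smithS_E7.getD i.val 0)) = _
      simp [Fin.prod_univ_succ, smithS_E7, Nat.gcd_comm]
    rw [e] at h
    exact h
  · have h := card_of_smith (F := F) chevB2 (by simp) rootCoefL_B2 smithU_B2 smithUi_B2 smithV_B2 smithVi_B2
      smithS_B2 rootCoef_B2 smith1_B2 smith2_B2 smith3_B2 smith4_B2
    have e : (∏ i : Fin chevB2.rank, (Fintype.card F - 1).gcd (smithS_B2.getD i.val 0)) =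
        Nat.gcd 2 (Fintype.card F - 1) := by
      show (∏ i : Fin 2, (Fintype.card F - 1).gcd (smithS_B2.getD i.val 0)) = _
      simp [Fin.prod_univ_succ, smithS_B2, Nat.gcd_comm]
    rw [e] at h
    exact h
  · have h := card_of_smith (F := F) chevD4 (by simp) rootCoefL_D4 smithU_D4 smithUi_D4 smithV_D4 smithVi_D4
      smithS_D4 rootCoef_D4 smith1_D4 smith2_D4 smith3_D4 smith4_D4
    have e : (∏ i : Fin chevD4.rank, (Fintype.card F - 1).gcd (smithS_D4.getD i.val 0)) =
        Nat.gcd 2 (Fintype.card F - 1) ^ 2 := by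
      show (∏ i : Fin 4, (Fintype.card F - 1).gcd (smithS_D4.getD i.val 0)) = _
      simp [Fin.prod_univ_succ, smithS_D4, Nat.gcd_comm, sq]
    rw [e] at h
    exact h

end Cfsg.Agent.S1035
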