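import Mathlib
import Cfsg.Statements.S2326
import Cfsg.Agent.Lib.Lead.ChevOrderForm

set_option autoImplicit false
open Cfsg

namespace Cfsg.Agent.S2326

/-- In a Chevalley group of type G₂, B₂, D₄, F₄, E₆, E₇ or E₈ over a finite field of characteristic p, the subgroup U generated by the positive root elements is a Sylow p-subgroup. -/
theorem result {F : Type*} [Field F] [Fintype F] (p : ℕ) [Fact p.Prime] [CharP F p] (D : Cfsg.Lie.ChevalleyDatum) (hD : D ∈ [Cfsg.Lie.chevG2, Cfsg.Lie.chevB2, Cfsg.Lie.chevD4, Cfsg.Lie.chevF4, Cfsg.Lie.chevE6, Cfsg.Lie.chevE7, Cfsg.Lie.chevE8]) :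
    ∃ P : Sylow p ↥(D.group F), (P : Subgroup ↥(D.group F)) = (D.posUnipotent F).subgroupOf (D.group F) := by
  classical
  have hp : p.Prime := Fact.out
  have hF : Cfsg.Agent.Lead.Chev.ChevFacts D F := Cfsg.Agent.Lead.Chev.chevFacts_of_mem D hD
  obtain ⟨d, ds, hpos, hord⟩ := Cfsg.Agent.Lead.Chev.exists_order_formula (F := F) D hD
  obtain ⟨e, -, he⟩ := FiniteField.card F p
  have hU : Nat.card ↥(D.posUnipotent F) = Fintype.card F ^ (D.nroots / 2) :=
    Cfsg.Agent.S1027.result D hD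
  set N := D.nroots / 2 with hN
  set q := Fintype.card F with hq
  -- the subgroup inside G
  have hcardS : Nat.card ↥((D.posUnipotent F).subgroupOf (D.group F)) = p ^ ((e : ℕ) * N) := by
    rw [Nat.card_congr (Subgroup.subgroupOfEquivOfLe hF.posUnipotent_le_group).toEquiv, hU, he, pow_mul]
  -- `p ∤ Π (q^k - 1)`
  have hm : ¬ p ∣ (ds.map fun k => q ^ k - 1).prod := by
    intro hdvd
    rw [(Nat.Prime.prime hp).dvd_prod_iff] at hdvd
    obtain ⟨a, ha, hpa⟩ := hdvd
    rw [List.mem_map] at ha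
    obtain ⟨k, hk, rfl⟩ := ha
    have hk0 := hpos k hk
    have hqk : p ∣ q ^ k := by
      rw [he, ← pow_mul]
      exact dvd_pow_self p (Nat.mul_ne_zero e.pos.ne' hk0.ne')
    have h1 : 1 ≤ q ^ k := Nat.one_le_pow _ _ Fintype.card_pos
    have : p ∣ 1 := by
      have h2 : q ^ k - (q ^ k - 1) = 1 := by omega
      rw [← h2]
      exact Nat.dvd_sub hqk hpa
    exact hp.one_lt.ne' (Nat.dvd_one.1 this)
  -- `|S|` divides `|G|`
  obtain ⟨c, hc⟩ : p ^ ((e : ℕ) * N) ∣ Nat.card ↥(D.group F) := by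
    rw [← hcardS]
    exact Subgroup.card_subgroup_dvd_card _
  have hpc : ¬ p ∣ c := by
    intro hdvd
    apply hm
    have h3 : p ^ ((e : ℕ) * N) * (d * c) = p ^ ((e : ℕ) * N) * (ds.map fun k => q ^ k - 1).prod := by
      have h5 : p ^ ((e : ℕ) * N) * (d * c) = d * (p ^ ((e : ℕ) * N) * c) := by ring
      rw [h5, ← hc, hord, he, ← pow_mul]
    have h4 := Nat.eq_of_mul_eq_mul_left (pow_pos hp.pos _) h3
    rw [← h4]
    exact Dvd.dvd.mul_left hdvd d
  have hfact : (Nat.card ↥(D.group F)).factorization p = (e : ℕ) * N := by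
    have hc0 : c ≠ 0 := by
      rintro rfl
      exact hpc (dvd_zero p)
    rw [hc, Nat.factorization_mul (pow_pos hp.pos _).ne' hc0, Nat.Prime.factorization_pow hp,
      Finsupp.add_apply, Nat.factorization_eq_zero_of_not_dvd hpc]
    simp
  haveI : Finite ↥(D.group F) := inferInstance
  refine ⟨Sylow.ofCard ((D.posUnipotent F).subgroupOf (D.group F)) ?_, ?_⟩
  · rw [hcardS, hfact]
  · simp

end Cfsg.Agent.S2326
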