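import Mathlib
import Cfsg.Statements.S0142
import Cfsg.Agent.S0141
import Cfsg.Agent.Lib.Helper24.CharBasic
import Cfsg.Agent.Lib.Helper1.CharBurnside

set_option autoImplicit false
open Cfsg

namespace Cfsg.Agent.S0142

/-- If the degree of an irreducible complex representation of a finite group is coprime to the size of the conjugacy class of g, then the character at g is zero or has absolute value equal to the degree. -/
theorem result {G : Type*} [Group G] [Finite G] {V : Type*} [AddCommGroup V] [Module ℂ V] [FiniteDimensional ℂ V] (ρ : Representation ℂ G V) [ρ.IsIrreducible] (g : G) (hcop : Nat.Coprime (Module.finrank ℂ V) (Subgroup.centralizer ({g} : Set G)).index) : ρ.character g = 0 ∨ ‖ρ.character g‖ = (Module.finrank ℂ V : ℝ) := by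
  classical
  obtain ⟨μ, hμ, hk, -⟩ := Cfsg.Agent.Helper24.exists_roots_of_unity ρ g
  have h1 := hk 1
  simp only [pow_one] at h1
  rw [h1]
  refine Cfsg.Agent.Helper1.sum_roots_eq_zero_or_norm_eq (m := Nat.card G) Nat.card_pos μ hμ ?_
  rw [← h1]
  set n := Module.finrank ℂ V with hn
  set h := (Subgroup.centralizer ({g} : Set G)).index with hh
  by_cases hn0 : n = 0
  · rw [hn0]; simp; exact isIntegral_zero
  have hnC : (n : ℂ) ≠ 0 := by exact_mod_cast hn0
  have hI1 : IsIntegral ℤ (ρ.character g) := Cfsg.Agent.Helper24.isIntegral_char ρ g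
  have hI2 : IsIntegral ℤ ((h : ℂ) * ρ.character g / (n : ℂ)) := Cfsg.Agent.S0141.result ρ g
  -- Bezout
  have hb : (n : ℤ) * Nat.gcdA n h + (h : ℤ) * Nat.gcdB n h = 1 := by
    have := Nat.gcd_eq_gcd_ab n h
    rw [hcop] at this
    exact_mod_cast this.symm
  have hbC : (n : ℂ) * (Nat.gcdA n h : ℂ) + (h : ℂ) * (Nat.gcdB n h : ℂ) = 1 := by
    exact_mod_cast hb
  have : ρ.character g / (n : ℂ) =
      (Nat.gcdA n h : ℂ) * ρ.character g + (Nat.gcdB n h : ℂ) * ((h : ℂ) * ρ.character g / (n : ℂ)) := by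
    field_simp
    linear_combination (-(ρ.character g)) * hbC
  rw [this]
  refine IsIntegral.add (IsIntegral.mul ?_ hI1) (IsIntegral.mul ?_ hI2)
  · exact isIntegral_algebraMap (R := ℤ) (A := ℂ) (x := Nat.gcdA n h)
  · exact isIntegral_algebraMap (R := ℤ) (A := ℂ) (x := Nat.gcdB n h)

end Cfsg.Agent.S0142
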