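import Mathlib
import Cfsg.Statements.S4347

set_option autoImplicit false
open Cfsg

namespace Cfsg.Agent.S4347

open Pointwise in
theorem mem_smul_sylow {G : Type*} [Group G] {p : ℕ} (g x : G) (P : Sylow p G) :
    x ∈ g • P ↔ g⁻¹ * x * g ∈ P := by
  have h : x ∈ g • P ↔ x ∈ (MulAut.conj g • (P : Subgroup G)) := by
    rw [← Sylow.coe_subgroup_smul]; rfl
  rw [h, Subgroup.mem_pointwise_smul_iff_inv_smul_mem]
  simp [MulAut.smul_def]
  rfl

/-- Let G be a finite group and p a prime. Say a Sylow p-subgroup Q is redundant when every element of p-power order lies in some Sylow p-subgroup other than Q. Then G has no redundant Sylow p-subgroup if and only if some element of p-power order lies in exactly one Sylow p-subgroup. -/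
theorem result {G : Type*} [Group G] [Finite G]
    (p : ℕ) [Fact p.Prime] :
    (¬ ∃ Q : Sylow p G, ∀ x : G, (∃ k : ℕ, orderOf x = p ^ k) → ∃ P : Sylow p G, P ≠ Q ∧ x ∈ P) ↔
      ∃ x : G, (∃ k : ℕ, orderOf x = p ^ k) ∧ ∃! P : Sylow p G, x ∈ P := by
  constructor
  · intro h
    push Not at h
    obtain ⟨Q⟩ : Nonempty (Sylow p G) := inferInstance
    obtain ⟨x, hx, hxQ⟩ := h Q
    refine ⟨x, hx, ?_⟩
    -- x lies in some Sylow
    have hpg : IsPGroup p (Subgroup.zpowers x) := by
      obtain ⟨k, hk⟩ := hx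
      apply IsPGroup.of_card (n := k)
      rw [Nat.card_zpowers, hk]
    obtain ⟨R, hR⟩ := hpg.exists_le_sylow
    have hxR : x ∈ R := hR (Subgroup.mem_zpowers x)
    have hRQ : R = Q := by
      by_contra hne
      exact hxQ R hne hxR
    refine ⟨Q, hRQ ▸ hxR, ?_⟩
    intro P hP
    by_contra hne
    exact hxQ P hne hP
  · rintro ⟨x, ⟨k, hk⟩, P₀, hxP₀, huniq⟩ ⟨Q, hQ⟩
    obtain ⟨g, hg⟩ := MulAction.exists_smul_eq G P₀ Q
    have hy : ∃ k : ℕ, orderOf (g * x * g⁻¹) = p ^ k := ⟨k, by
      have := (MulAut.conj g).orderOf_eq x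
      rw [MulAut.conj_apply] at this
      rw [this, hk]⟩
    obtain ⟨P, hPQ, hyP⟩ := hQ _ hy
    have hx' : x ∈ g⁻¹ • P := by
      rw [mem_smul_sylow]
      simpa using hyP
    have := huniq _ hx'
    apply hPQ
    rw [← hg, ← this, smul_smul]
    simp

end Cfsg.Agent.S4347
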