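import Mathlib
import Cfsg.Statements.S0202
import Cfsg.Agent.Lib.Helper21.KleinSylow

set_option autoImplicit false
open Cfsg

namespace Cfsg.Agent.S0202

open Cfsg.Agent.Helper21

/-- If a Sylow 2-subgroup of a finite group is a Klein four-group, the group has one or three conjugacy classes of involutions. -/
theorem result {G : Type*} [Group G] [Finite G] (P : Sylow 2 G) (hP : IsKleinFour (P : Subgroup G)) : Nat.card {C : ConjClasses G // ∃ t : G, orderOf t = 2 ∧ ConjClasses.mk t = C} = 1 ∨ Nat.card {C : ConjClasses G // ∃ t : G, orderOf t = 2 ∧ ConjClasses.mk t = C} = 3 := by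
  classical
  obtain ⟨a, b, ha, hb, ha1, hb1, hab, hall, hsq, hcomm, hset⟩ := klein_involution_classes P hP
  have habP : a * b ∈ P := (P : Subgroup G).mul_mem ha hb
  have hab1 : a * b ≠ 1 := by
    intro h
    exact hab (mul_left_cancel (a := a) ((hsq a ha).trans h.symm))
  have haab : a ≠ a * b := by
    intro h
    exact hb1 (mul_left_cancel (a := a) (by rw [mul_one]; exact h)).symm
  have hbab : b ≠ a * b := by
    intro h
    exact ha1 (mul_right_cancel (b := b) (by rw [one_mul]; exact h)).symm
  have hcard : Nat.card {C : ConjClasses G // ∃ t : G, orderOf t = 2 ∧ ConjClasses.mk t = C} =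
      Set.ncard ({ConjClasses.mk a, ConjClasses.mk b, ConjClasses.mk (a * b)} :
        Set (ConjClasses G)) := by
    rw [← hset]
    exact Nat.card_coe_set_eq _
  rw [hcard]
  -- all equal if some pair is conjugate
  have hall_eq : (ConjClasses.mk a = ConjClasses.mk b ∨ ConjClasses.mk a = ConjClasses.mk (a * b) ∨
      ConjClasses.mk b = ConjClasses.mk (a * b)) →
      ConjClasses.mk a = ConjClasses.mk b ∧ ConjClasses.mk b = ConjClasses.mk (a * b) := by
    rintro (h | h | h)
    · rw [ConjClasses.mk_eq_mk_iff_isConj] at h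
      have h2 := klein_fusion P hP a b ha hb ha1 hb1 hab h
      rw [← ConjClasses.mk_eq_mk_iff_isConj] at h h2
      exact ⟨h, h2⟩
    · rw [ConjClasses.mk_eq_mk_iff_isConj] at h
      have h2 := klein_fusion P hP a (a * b) ha habP ha1 hab1 haab h
      have e : a * (a * b) = b := by rw [← mul_assoc, hsq a ha, one_mul]
      rw [e] at h2
      rw [← ConjClasses.mk_eq_mk_iff_isConj] at h h2
      exact ⟨h.trans h2, h2.symm⟩
    · rw [ConjClasses.mk_eq_mk_iff_isConj] at h
      have h2 := klein_fusion P hP b (a * b) hb habP hb1 hab1 hbab h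
      have e : b * (a * b) = a := by rw [hcomm a ha b hb, ← mul_assoc, hsq b hb, one_mul]
      rw [e] at h2
      rw [← ConjClasses.mk_eq_mk_iff_isConj] at h h2
      exact ⟨h2.symm.trans h.symm, h⟩
  by_cases hc : ConjClasses.mk a = ConjClasses.mk b ∨
      ConjClasses.mk a = ConjClasses.mk (a * b) ∨ ConjClasses.mk b = ConjClasses.mk (a * b)
  · left
    obtain ⟨h1, h2⟩ := hall_eq hc
    rw [← h2, ← h1]
    simp
  · right
    push Not at hc
    obtain ⟨h1, h2, h3⟩ := hc
    rw [Set.ncard_eq_three]
    exact ⟨_, _, _, h1, h2, h3, rfl⟩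

end Cfsg.Agent.S0202
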