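import Mathlib
import Cfsg.Statements.S0203
import Cfsg.Agent.Lib.Helper21.KleinSylow

set_option autoImplicit false
open Cfsg

namespace Cfsg.Agent.S0203

open Cfsg.Agent.Helper21

theorem three_distinct {α : Type*} (u v w : α) (h : ({u, v, w} : Set α).ncard = 3) :
    u ≠ v ∧ u ≠ w ∧ v ≠ w := by
  have hle2 : ∀ x y : α, ({x, y} : Set α).ncard ≤ 2 := fun x y =>
    (Set.ncard_insert_le x {y}).trans (by rw [Set.ncard_singleton])
  refine ⟨?_, ?_, ?_⟩
  · rintro rfl
    rw [Set.insert_eq_of_mem (Set.mem_insert _ _)] at h
    have := hle2 u w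
    omega
  · rintro rfl
    rw [Set.insert_eq_of_mem (Set.mem_insert_of_mem _ (Set.mem_singleton _))] at h
    have := hle2 v u
    omega
  · rintro rfl
    rw [Set.pair_eq_singleton] at h
    have := hle2 u v
    omega

/-- If a Sylow 2-subgroup P of a finite group G is a Klein four-group, then G has three classes of involutions if and only if P has a normal complement in G. -/
theorem result {G : Type*} [Group G] [Finite G] (P : Sylow 2 G) (hP : IsKleinFour (P : Subgroup G)) : Nat.card {C : ConjClasses G // ∃ t : G, orderOf t = 2 ∧ ConjClasses.mk t = C} = 3 ↔ ∃ N : Subgroup G, N.Normal ∧ Subgroup.IsComplement' N (P : Subgroup G) := by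
  classical
  haveI : Fact (Nat.Prime 2) := ⟨Nat.prime_two⟩
  obtain ⟨a, b, ha, hb, ha1, hb1, hab, hall, hsq, hcomm, hset⟩ := klein_involution_classes P hP
  have habP : a * b ∈ P := (P : Subgroup G).mul_mem ha hb
  have hab1 : a * b ≠ 1 := by
    intro h
    exact hab (mul_left_cancel (a := a) ((hsq a ha).trans h.symm))
  have haab : a ≠ a * b := by
    intro h
    exact hb1 (mul_left_cancel (a := a) (by rw [mul_one]; exact h)).symm
  have hbab : b ≠ a * b := by
    intro h
    exact ha1 (mul_right_cancel (b := b) (by rw [one_mul]; exact h)).symm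
  have hcard : Nat.card {C : ConjClasses G // ∃ t : G, orderOf t = 2 ∧ ConjClasses.mk t = C} =
      Set.ncard ({ConjClasses.mk a, ConjClasses.mk b, ConjClasses.mk (a * b)} :
        Set (ConjClasses G)) := by
    rw [← hset]
    exact Nat.card_coe_set_eq _
  rw [hcard]
  constructor
  · intro h3
    -- the three classes are pairwise distinct
    have hdist : ConjClasses.mk a ≠ ConjClasses.mk b ∧ ConjClasses.mk a ≠ ConjClasses.mk (a * b) ∧
        ConjClasses.mk b ≠ ConjClasses.mk (a * b) := three_distinct _ _ _ h3
    obtain ⟨d1, d2, d3⟩ := hdist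
    -- the normalizer centralizes P
    have hNC : Subgroup.normalizer (P : Set G) ≤ Subgroup.centralizer (P : Set G) := by
      intro n hn
      rw [Subgroup.mem_centralizer_iff]
      intro x hx
      have hxP : x ∈ P := hx
      have hnx : n⁻¹ * x * n ∈ P := (Subgroup.mem_normalizer_iff''.mp hn x).mp hxP
      have hconj : ConjClasses.mk x = ConjClasses.mk (n⁻¹ * x * n) := by
        rw [ConjClasses.mk_eq_mk_iff_isConj, isConj_iff]
        exact ⟨n⁻¹, by rw [inv_inv]⟩
      have hne : x ≠ 1 → n⁻¹ * x * n ≠ 1 := by
        intro hx1 h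
        apply hx1
        have := congrArg (fun z => n * z * n⁻¹) h
        simpa [mul_assoc] using this
      have key : n⁻¹ * x * n = x := by
        rcases hall x hxP with h | h | h | h
        · rw [h]; group
        · subst h
          have hne' := hne ha1
          rcases hall _ hnx with h' | h' | h' | h'
          · exact absurd h' hne'
          · exact h'
          · exfalso; rw [h'] at hconj; exact d1 hconj
          · exfalso; rw [h'] at hconj; exact d2 hconj
        · subst h
          have hne' := hne hb1
          rcases hall _ hnx with h' | h' | h' | h'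
          · exact absurd h' hne'
          · exfalso; rw [h'] at hconj; exact d1 hconj.symm
          · exact h'
          · exfalso; rw [h'] at hconj; exact d3 hconj
        · subst h
          have hne' := hne hab1
          rcases hall _ hnx with h' | h' | h' | h'
          · exact absurd h' hne'
          · exfalso; rw [h'] at hconj; exact d2 hconj.symm
          · exfalso; rw [h'] at hconj; exact d3 hconj.symm
          · exact h'
      -- x * n = n * x
      have : n * (n⁻¹ * x * n) = n * x := by rw [key]
      rw [← this]; group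
    exact ⟨(MonoidHom.transferSylow P hNC).ker, inferInstance,
      MonoidHom.ker_transferSylow_isComplement' P hNC⟩
  · rintro ⟨N, hN, hNc⟩
    haveI := hN
    -- conjugate elements of P are equal
    have hdisj : Disjoint N (P : Subgroup G) := hNc.disjoint
    have hsup : N ⊔ (P : Subgroup G) = ⊤ := hNc.sup_eq_top
    have key : ∀ x ∈ P, ∀ y ∈ P, IsConj x y → x = y := by
      intro x hx y hy hxy
      obtain ⟨g, hg⟩ := isConj_iff.mp hxy
      -- g = m * u with m ∈ N, u ∈ P
      have hgmem : g ∈ N ⊔ (P : Subgroup G) := by rw [hsup]; trivial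
      obtain ⟨m, hm, u, hu, rfl⟩ := Subgroup.mem_sup_of_normal_left.mp hgmem
      have hux : u * x * u⁻¹ = x := by
        rw [hcomm u hu x hx, mul_inv_cancel_right]
      have e : m * u * x * (m * u)⁻¹ = m * (u * x * u⁻¹) * m⁻¹ := by group
      rw [e, hux] at hg
      -- x⁻¹ * y ∈ N ∩ P
      have h1 : x⁻¹ * y ∈ N := by
        rw [← hg]
        have e2 : x⁻¹ * (m * x * m⁻¹) = (x⁻¹ * m * x⁻¹⁻¹) * m⁻¹ := by group
        rw [e2]
        exact N.mul_mem (hN.conj_mem m hm x⁻¹) (N.inv_mem hm)
      have h2 : x⁻¹ * y ∈ (P : Subgroup G) :=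
        (P : Subgroup G).mul_mem ((P : Subgroup G).inv_mem hx) hy
      have h3 := Subgroup.disjoint_def.mp hdisj h1 h2
      exact (inv_mul_eq_one.mp h3)
    have d1 : ConjClasses.mk a ≠ ConjClasses.mk b := by
      intro h
      rw [ConjClasses.mk_eq_mk_iff_isConj] at h
      exact hab (key a ha b hb h)
    have d2 : ConjClasses.mk a ≠ ConjClasses.mk (a * b) := by
      intro h
      rw [ConjClasses.mk_eq_mk_iff_isConj] at h
      exact haab (key a ha _ habP h)
    have d3 : ConjClasses.mk b ≠ ConjClasses.mk (a * b) := by
      intro h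
      rw [ConjClasses.mk_eq_mk_iff_isConj] at h
      exact hbab (key b hb _ habP h)
    rw [Set.ncard_eq_three]
    exact ⟨_, _, _, d1, d2, d3, rfl⟩

end Cfsg.Agent.S0203
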