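import Mathlib
import Cfsg.Statements.S0963
import Cfsg.Agent.Lib.Helper5.Clifford2
import Cfsg.Agent.Lib.Helper24.CharIntegral

set_option autoImplicit false
open Cfsg

namespace Cfsg.Agent.S0963

open Cfsg.Agent.Helper24
open scoped ComplexConjugate

universe u

section

variable {G : Type u} [Group G] [Fintype G] (N : Subgroup G) [hN : N.Normal] [Fintype N]

/-- The value of the sum of all conjugates of a function on a normal subgroup. -/
theorem sum_conjFun_apply [DecidableEq G] (θ : N → ℂ) (n : N)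
    [DecidablePred (IsConj (n : G))] :
    (∑ x : G, Cfsg.Agent.Helper5.conjFun N x θ) n =
      (Nat.card (Subgroup.centralizer ({(n : G)} : Set G)) : ℂ) *
        ∑ b ∈ Finset.univ.filter (IsConj (n : G)), extendByZero N θ b := by
  rw [← sum_conj_eq_card_mul_sum_filter (n : G) (extendByZero N θ), Finset.sum_apply]
  refine Finset.sum_congr rfl fun x _ => ?_
  rw [Cfsg.Agent.Helper5.conjFun_apply, extendByZero_of_mem N θ (hN.conj_mem (n : G) n.2 x)]

/-- The induced central character as a sum over the class. -/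
theorem inducedCentralChar_eq [DecidableEq G] (θ : N → ℂ) (n : N)
    [DecidablePred (IsConj (n : G))] :
    inducedCentralChar N θ (n : G) =
      (∑ b ∈ Finset.univ.filter (IsConj (n : G)), extendByZero N θ b) / θ 1 := by
  classical
  unfold inducedCentralChar
  rw [finsum_mem_def, finsum_eq_sum_of_fintype, Finset.sum_filter, Finset.sum_div]
  have h0 : ∀ x ∉ N, (fun b : G => (if IsConj (n : G) b then extendByZero N θ b else 0) / θ 1) x
      = 0 := by
    intro x hx
    show (if IsConj (n : G) x then extendByZero N θ x else 0) / θ 1 = 0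
    rw [extendByZero_of_not_mem N θ hx]
    simp
  rw [sum_eq_sum_subgroup N _ h0]
  refine Finset.sum_congr rfl fun h _ => ?_
  by_cases hc : IsConj (n : G) (h : G)
  · rw [Set.indicator_of_mem (by exact hc), if_pos hc, extendByZero_of_mem N θ h.2]
  · rw [Set.indicator_of_notMem (by exact hc), if_neg hc, zero_div]

end

theorem result {G : Type*} [Group G] [Fintype G] (N : Subgroup G) [N.Normal] [Fintype N] (χ : Cfsg.IrrCharacter G) (θ : Cfsg.IrrCharacter N) : Cfsg.classInner (fun n : N => (χ : G → ℂ) n) (θ : N → ℂ) ≠ 0 ↔ ∀ n : N, Cfsg.centralChar (χ : G → ℂ) (n : G) = Cfsg.inducedCentralChar N (θ : N → ℂ) (n : G) := by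
  classical
  letI : Fintype (IrrCharacter G) := irrFintype
  letI : Fintype (IrrCharacter N) := irrFintype
  have hθ1 : (θ : N → ℂ) 1 ≠ 0 := by
    rw [irr_one_eq_charDegree θ.2]
    have := charDegree_pos θ.2
    exact_mod_cast this.ne'
  have hχ1 : (χ : G → ℂ) 1 ≠ 0 := by
    rw [irr_one_eq_charDegree χ.2]
    have := charDegree_pos χ.2
    exact_mod_cast this.ne'
  have hG0 : (Nat.card G : ℂ) ≠ 0 := by
    have : Nat.card G ≠ 0 := Nat.card_pos.ne'
    exact_mod_cast this
  have hS1 : (∑ x : G, Cfsg.Agent.Helper5.conjFun N x (θ : N → ℂ)) 1 =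
      (Nat.card G : ℂ) * (θ : N → ℂ) 1 := by
    rw [Finset.sum_apply]
    have : ∀ x : G, Cfsg.Agent.Helper5.conjFun N x (θ : N → ℂ) 1 = (θ : N → ℂ) 1 := by
      intro x
      rw [Cfsg.Agent.Helper5.conjFun_apply]
      have h2 : (⟨x * ((1 : N) : G) * x⁻¹, Subgroup.Normal.conj_mem inferInstance
          ((1 : N) : G) (1 : N).2 x⟩ : N) = 1 := by
        apply Subtype.ext
        simp
      rw [h2]
    simp only [this, Finset.sum_const, Finset.card_univ, nsmul_eq_mul]
    rw [Nat.card_eq_fintype_card]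
  have hCI : ∀ g : G, (Nat.card (Subgroup.centralizer ({g} : Set G)) : ℂ) *
      ((Subgroup.centralizer ({g} : Set G)).index : ℂ) = (Nat.card G : ℂ) := by
    intro g
    have := Subgroup.card_mul_index (Subgroup.centralizer ({g} : Set G))
    exact_mod_cast this
  constructor
  · intro he n
    have hcl := Cfsg.Agent.Helper5.clifford_orbit_sum N χ.2 θ.2 he
    have hn := congrFun hcl n
    have h1 := congrFun hcl 1
    simp only [Pi.smul_apply, smul_eq_mul] at hn h1
    rw [sum_conjFun_apply] at hn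
    rw [hS1] at h1
    rw [inducedCentralChar_eq]
    unfold centralChar
    have hC := hCI (n : G)
    have hC0 : (Nat.card (Subgroup.centralizer ({(n : G)} : Set G)) : ℂ) ≠ 0 := by
      intro h
      rw [h, zero_mul] at hC
      exact hG0 hC.symm
    have hI0 : ((Subgroup.centralizer ({(n : G)} : Set G)).index : ℂ) ≠ 0 := by
      intro h
      rw [h, mul_zero] at hC
      exact hG0 hC.symm
    have h1' : (χ : G → ℂ) ((1 : N) : G) = (χ : G → ℂ) 1 := rfl
    rw [h1'] at h1
    have ht0 : (Nat.card {x : G // Cfsg.Agent.Helper5.conjFun N x (θ : N → ℂ) = (θ : N → ℂ)} : ℂ)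
        ≠ 0 := by
      intro h
      rw [h, zero_mul] at h1
      have := mul_ne_zero he (mul_ne_zero hG0 hθ1)
      exact this h1.symm
    rw [div_eq_div_iff hχ1 hθ1]
    apply mul_left_cancel₀ ht0
    apply mul_left_cancel₀ hC0
    have e1 : (Nat.card (Subgroup.centralizer ({(n : G)} : Set G)) : ℂ) *
        ((Nat.card {x : G // Cfsg.Agent.Helper5.conjFun N x (θ : N → ℂ) = (θ : N → ℂ)} : ℂ) *
          (((Subgroup.centralizer ({(n : G)} : Set G)).index : ℂ) * (χ : G → ℂ) (n : G) *
            (θ : N → ℂ) 1)) =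
        ((Nat.card (Subgroup.centralizer ({(n : G)} : Set G)) : ℂ) *
          ((Subgroup.centralizer ({(n : G)} : Set G)).index : ℂ)) *
          ((Nat.card {x : G // Cfsg.Agent.Helper5.conjFun N x (θ : N → ℂ) = (θ : N → ℂ)} : ℂ) *
            (χ : G → ℂ) (n : G)) * (θ : N → ℂ) 1 := by
      ring
    have e2 : (Nat.card (Subgroup.centralizer ({(n : G)} : Set G)) : ℂ) *
        ((Nat.card {x : G // Cfsg.Agent.Helper5.conjFun N x (θ : N → ℂ) = (θ : N → ℂ)} : ℂ) *
          ((∑ b ∈ Finset.univ.filter (IsConj (n : G)), extendByZero N (θ : N → ℂ) b) *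
            (χ : G → ℂ) 1)) =
        ((Nat.card {x : G // Cfsg.Agent.Helper5.conjFun N x (θ : N → ℂ) = (θ : N → ℂ)} : ℂ) *
            (χ : G → ℂ) 1) *
          ((Nat.card (Subgroup.centralizer ({(n : G)} : Set G)) : ℂ) *
            ∑ b ∈ Finset.univ.filter (IsConj (n : G)), extendByZero N (θ : N → ℂ) b) := by
      ring
    rw [e1, e2, hC, hn, h1]
    ring
  · intro hall
    obtain ⟨c, hc⟩ : ∃ c : ℂ, c = (χ : G → ℂ) 1 / ((Nat.card G : ℂ) * (θ : N → ℂ) 1) := ⟨_, rfl⟩
    have hc0 : c ≠ 0 := by
      rw [hc]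
      exact div_ne_zero hχ1 (mul_ne_zero hG0 hθ1)
    have hres : (fun n : N => (χ : G → ℂ) n) =
        c • ∑ x : G, Cfsg.Agent.Helper5.conjFun N x (θ : N → ℂ) := by
      funext n
      have h := hall n
      rw [inducedCentralChar_eq] at h
      unfold centralChar at h
      rw [Pi.smul_apply, smul_eq_mul, sum_conjFun_apply]
      have hC := hCI (n : G)
      have hC0 : (Nat.card (Subgroup.centralizer ({(n : G)} : Set G)) : ℂ) ≠ 0 := by
        intro h
        rw [h, zero_mul] at hC
        exact hG0 hC.symm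
      have hI0 : ((Subgroup.centralizer ({(n : G)} : Set G)).index : ℂ) ≠ 0 := by
        intro h
        rw [h, mul_zero] at hC
        exact hG0 hC.symm
      rw [div_eq_div_iff hχ1 hθ1] at h
      rw [hc, ← hC]
      field_simp
      linear_combination h
    rw [hres, classInner_smul_left, classInner_sum_left]
    apply mul_ne_zero hc0
    have hterm : ∀ x : G, classInner (Cfsg.Agent.Helper5.conjFun N x (θ : N → ℂ)) (θ : N → ℂ) =
        if Cfsg.Agent.Helper5.conjFun N x (θ : N → ℂ) = (θ : N → ℂ) then 1 else 0 := fun x =>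
      irr_orthogonality (Cfsg.Agent.Helper5.isIrrCharacter_conjFun N x θ.2) θ.2
    simp only [hterm]
    rw [Finset.sum_boole]
    have : 0 < (Finset.univ.filter
        (fun x : G => Cfsg.Agent.Helper5.conjFun N x (θ : N → ℂ) = (θ : N → ℂ))).card := by
      apply Finset.card_pos.mpr
      exact ⟨1, Finset.mem_filter.mpr ⟨Finset.mem_univ _, Cfsg.Agent.Helper5.conjFun_one N _⟩⟩
    exact_mod_cast this.ne'

end Cfsg.Agent.S0963
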