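import Mathlib
import Cfsg.Statements.S0916
import Cfsg.Agent.Lib.Helper2.SylowSub
import Cfsg.Agent.Lib.Helper12.PGroup

set_option autoImplicit false
open Cfsg

namespace Cfsg.Agent.S0916

open Cfsg.Agent.Helper2

variable {G : Type*} [Group G]

/-- If `c = x g x⁻¹` centralizes `P`, and `P` is the image of a Sylow subgroup of `C_G(g)`, then
`c = n g n⁻¹` for some `n` normalizing `P`. -/
theorem exists_normalizer_conj [Finite G] (p : ℕ) [Fact p.Prime] (P : Subgroup G)
    (hP : IsPGroup p P) (g : G) (S : Sylow p (Subgroup.centralizer ({g} : Set G)))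
    (hS : (S : Subgroup (Subgroup.centralizer ({g} : Set G))).map
      (Subgroup.centralizer ({g} : Set G)).subtype = P)
    (x : G) (hc : x * g * x⁻¹ ∈ Subgroup.centralizer (P : Set G)) :
    ∃ n ∈ Subgroup.normalizer (P : Set G), n * g * n⁻¹ = x * g * x⁻¹ := by
  -- X = x⁻¹ P x is a p-subgroup of C_G(g)
  let X : Subgroup G := P.map (MulAut.conj x⁻¹).toMonoidHom
  have hXp : IsPGroup p X := hP.map _
  have hXC : X ≤ Subgroup.centralizer ({g} : Set G) := by
    rintro _ ⟨a, ha, rfl⟩
    rw [Subgroup.mem_centralizer_singleton_iff]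
    have h1 : a * (x * g * x⁻¹) = x * g * x⁻¹ * a := by
      have := (Subgroup.mem_centralizer_iff.mp hc) a ha
      exact this
    simp only [MulEquiv.coe_toMonoidHom, MulAut.conj_apply, inv_inv]
    calc x⁻¹ * a * x * g = x⁻¹ * (a * (x * g * x⁻¹)) * x := by group
      _ = x⁻¹ * (x * g * x⁻¹ * a) * x := by rw [h1]
      _ = g * (x⁻¹ * a * x) := by group
  obtain ⟨k, hk, hkX⟩ := exists_conj_mem_sylow_map _ S X hXp hXC
  rw [hS] at hkX
  refine ⟨x * k, ?_, ?_⟩
  · -- (x k)⁻¹ P (x k) ≤ P, so x k normalizes P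
    have h1 : (x * k)⁻¹ ∈ Subgroup.normalizer (P : Set G) := by
      apply Subgroup.mem_normalizer_fintype
      intro a ha
      have h2 := hkX (x⁻¹ * a * x) ⟨a, ha, by simp [MulAut.conj_apply]⟩
      have e : (x * k)⁻¹ * a * (x * k)⁻¹⁻¹ = k⁻¹ * (x⁻¹ * a * x) * k := by group
      rw [e]
      exact h2
    have := (Subgroup.normalizer (P : Set G)).inv_mem h1
    rwa [inv_inv] at this
  · have hkg : k * g = g * k := by
      have := Subgroup.mem_centralizer_singleton_iff.mp hk
      exact this
    calc x * k * g * (x * k)⁻¹ = x * (k * g) * k⁻¹ * x⁻¹ := by group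
      _ = x * (g * k) * k⁻¹ * x⁻¹ := by rw [hkg]
      _ = x * g * x⁻¹ := by group

/-- Let P be a p-subgroup of the finite group G, C its centralizer and N its normalizer. Say that a conjugacy class (of G, or of N) has defect group P when P is a Sylow p-subgroup of the centralizer (in G, respectively in N) of some element of the class. Then: (i) if the class of g in G has defect group P, the elements of that class lying in C form a single N-class, again with defect group P; (ii) every N-class with defect group P arises this way from exactly one G-class with defect group P. -/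
theorem result {G : Type*} [Group G] [Finite G] (p : ℕ) [Fact p.Prime] (P : Subgroup G) (hP : IsPGroup p P) : (∀ g : G, (∃ S : Sylow p (Subgroup.centralizer ({g} : Set G)), (S : Subgroup (Subgroup.centralizer ({g} : Set G))).map (Subgroup.centralizer ({g} : Set G)).subtype = P) → (∃ c : G, IsConj g c ∧ c ∈ Subgroup.centralizer (P : Set G)) ∧ (∀ c₁ c₂ : G, IsConj g c₁ → IsConj g c₂ → c₁ ∈ Subgroup.centralizer (P : Set G) → c₂ ∈ Subgroup.centralizer (P : Set G) → ∃ n ∈ Subgroup.normalizer (P : Set G), n * c₁ * n⁻¹ = c₂)) ∧ (∀ c : G, c ∈ Subgroup.centralizer (P : Set G) → (∃ S : Sylow p (Subgroup.centralizer ({c} : Set G) ⊓ Subgroup.normalizer (P : Set G) : Subgroup G), (S : Subgroup ↥(Subgroup.centralizer ({c} : Set G) ⊓ Subgroup.normalizer (P : Set G))).map (Subgroup.centralizer ({c} : Set G) ⊓ Subgroup.normalizer (P : Set G)).subtype = P) → ∃ S : Sylow p (Subgroup.centralizer ({c} : Set G)), (S : Subgroup (Subgroup.centralizer ({c} : Set G))).map (Subgroup.centralizer ({c} : Set G)).subtype =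 P) := by
  classical
  refine ⟨?_, ?_⟩
  · rintro g ⟨S, hS⟩
    refine ⟨⟨g, IsConj.refl g, ?_⟩, ?_⟩
    · rw [Subgroup.mem_centralizer_iff]
      intro a ha
      have : a ∈ Subgroup.centralizer ({g} : Set G) := by
        rw [← hS] at ha
        exact Subgroup.map_subtype_le _ ha
      exact (Subgroup.mem_centralizer_singleton_iff.mp this)
    · intro c₁ c₂ h1 h2 hc1 hc2
      obtain ⟨x, hx⟩ := isConj_iff.mp h1
      obtain ⟨y, hy⟩ := isConj_iff.mp h2
      rw [← hx] at hc1
      rw [← hy] at hc2
      obtain ⟨n₁, hn₁, e₁⟩ := exists_normalizer_conj p P hP g S hS x hc1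
      obtain ⟨n₂, hn₂, e₂⟩ := exists_normalizer_conj p P hP g S hS y hc2
      refine ⟨n₂ * n₁⁻¹, Subgroup.mul_mem _ hn₂ (Subgroup.inv_mem _ hn₁), ?_⟩
      rw [← hx, ← hy, ← e₁, ← e₂]
      group
  · rintro c hc ⟨S', hS'⟩
    have hPc : P ≤ Subgroup.centralizer ({c} : Set G) := by
      intro a ha
      rw [Subgroup.mem_centralizer_singleton_iff]
      exact ((Subgroup.mem_centralizer_iff.mp hc) a ha)
    have h1 : IsPGroup p (P.subgroupOf (Subgroup.centralizer ({c} : Set G))) := hP.comap_subtype
    obtain ⟨Q, hQ⟩ := h1.exists_le_sylow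
    refine ⟨Q, ?_⟩
    set Q' := (Q : Subgroup (Subgroup.centralizer ({c} : Set G))).map
      (Subgroup.centralizer ({c} : Set G)).subtype with hQ'
    have hPQ : P ≤ Q' := by
      rw [← Subgroup.map_subgroupOf_eq_of_le hPc]
      exact Subgroup.map_mono hQ
    have hQ'p : IsPGroup p Q' := Q.2.map _
    have hQ'c : Q' ≤ Subgroup.centralizer ({c} : Set G) := Subgroup.map_subtype_le _
    by_contra hne
    have hlt : P < Q' := lt_of_le_of_ne hPQ (Ne.symm hne)
    obtain ⟨r, hrQ, hrP, hrN⟩ := Cfsg.Agent.Helper12.exists_mem_normalizer_not_mem Q' hQ'p P hlt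
    obtain ⟨_, _, hmax⟩ := sylow_map_maximal _ S'
    rw [hS'] at hmax
    have hT := hmax (Q' ⊓ Subgroup.normalizer (P : Set G)) (hQ'p.to_le inf_le_left)
      (le_inf hPQ Subgroup.le_normalizer) (inf_le_inf_right _ hQ'c)
    apply hrP
    rw [← hT]
    exact ⟨hrQ, hrN⟩

end Cfsg.Agent.S0916
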