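import Mathlib
import Cfsg.Statements.S4657
import Cfsg.Agent.Lib.Helper23.BlockPairs

set_option autoImplicit false
open Cfsg Cfsg.Agent.Helper23.Blk Cfsg.Agent.Helper24

namespace Cfsg.Agent.S4657

/-- Fix a prime p and a maximal ideal M of the algebraic integers containing p. Every Brauer pair (P, e) of the finite group G is a Brauer pair of exactly one p-block B of G. -/
theorem result {G : Type*} [Group G] [Fintype G] (p : ℕ) [Fact p.Prime] (M : Ideal Cfsg.AlgInt) (hM : Cfsg.IsPModular p M) (P : Subgroup G) (e : Set (Cfsg.IrrCharacter (Subgroup.centralizer (P : Set G)))) (hPe : Cfsg.IsBrauerPair p M P e) : ∃! B : Set (Cfsg.IrrCharacter G), Cfsg.IsBrauerPairOf p M B P e := by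
  classical
  haveI : Fintype (Subgroup.centralizer (P : Set G)) := Fintype.ofFinite _
  letI : Fintype (IrrCharacter G) := irrFintype
  letI : Fintype (IrrCharacter (Subgroup.centralizer (P : Set G))) := irrFintype
  haveI hMp : M.IsPrime := hM.2.1.isPrime
  obtain ⟨hP, he⟩ := hPe
  obtain ⟨ξ, hξ⟩ := block_nonempty hM he
  obtain ⟨χ, hχ⟩ := exists_irr_brauerPair P hM hP ξ
  refine ⟨blockOf M (χ : G → ℂ), ?_, ?_⟩
  · exact (isBrauerPairOf_iff P hM hP he hξ hχ ⟨χ, rfl⟩).2 (mem_blockOf_self χ)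
  · intro B' hB'
    have hB'b := hB'.2.1
    have h1 := (isBrauerPairOf_iff P hM hP he hξ hχ hB'b).1 hB'
    exact isPBlock_eq_of_mem hB'b ⟨χ, rfl⟩ h1 (mem_blockOf_self χ)

end Cfsg.Agent.S4657
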