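import Mathlib
import Cfsg.Statements.S0917
import Cfsg.Agent.Lib.Helper23.BlockDefectGroup2

set_option autoImplicit false
open Cfsg Cfsg.Agent.Helper23.Blk Cfsg.Agent.Helper24

namespace Cfsg.Agent.S0917

/-- Let H be a subgroup of the finite group G, p a prime and M a maximal ideal of the algebraic integers containing p. If the block b of H induces the block B of G relative to M, then every defect group of b (a subgroup of H, viewed in G) is contained in some defect group of B. -/
theorem result {G : Type*} [Group G] [Finite G] (p : ℕ) [Fact p.Prime] (M : Ideal Cfsg.AlgInt) (hM : Cfsg.IsPModular p M) (H : Subgroup G) (b : Set (Cfsg.IrrCharacter H)) (hb : Cfsg.IsPBlock M b) (B : Set (Cfsg.IrrCharacter G)) (hB : Cfsg.IsPBlock M B) (hind : Cfsg.IsInducedBlock M H b B) (D : Subgroup H) (hD : Cfsg.IsDefectGroup p M b D) : ∃ E : Subgroup G, Cfsg.IsDefectGroup p M B E ∧ D.map H.subtype ≤ E := by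
  classical
  haveI : Fintype G := Fintype.ofFinite G
  haveI : Fintype H := Fintype.ofFinite H
  letI : Fintype (IrrCharacter G) := irrFintype
  letI : Fintype (IrrCharacter H) := irrFintype
  haveI hMp : M.IsPrime := hM.2.1.isPrime
  obtain ⟨ξ, hξ⟩ := block_nonempty hM hb
  obtain ⟨χ, hχ⟩ := block_nonempty hM hB
  have ha : IsClassFunction G (blockCoeff B) := fun g x => blockCoeff_conj B g x
  have haR : ∀ g, MemLocalRing M (blockCoeff B g) := memLocalRing_blockCoeff hMp hB
  have h1 : omega (χ : G → ℂ) (blockCoeff B) = 1 := by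
    have : blockCoeff B = synth (fun ψ : IrrCharacter G => if ψ ∈ B then (1 : ℂ) else 0) := by
      funext g
      exact blockCoeff_eq_synth B g
    rw [this, omega_synth, if_pos hχ]
  have h2 := IsInducedBlock.omega_cong H hind hξ hχ ha haR
  rw [h1] at h2
  have h3 : ¬ MemLocalIdeal M (omega (ξ : H → ℂ) (fun h : H => blockCoeff B (h : G))) :=
    not_memLocalIdeal_of_cong h2 not_memLocalIdeal_one
  obtain ⟨h, hh1, hh2⟩ := exists_of_not_memLocalIdeal_omega ξ
    (isClassFunction_comp_subtype H ha) (fun h => haR _) h3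
  obtain ⟨Q⟩ : Nonempty (Sylow p (Subgroup.centralizer ({h} : Set H))) := inferInstance
  obtain ⟨c, hc⟩ := subConj_of_centralChar hM hb hD ⟨ξ, hξ, hh2⟩ Q
  obtain ⟨E₀, hE₀⟩ := exists_isDefectGroup hM hB
  have hDp : IsPGroup p D := isPGroup_of_isDefectGroup hM hD
  have hQ₁p : IsPGroup p ((D.map (MulAut.conj c).toMonoidHom).map H.subtype) :=
    (hDp.map _).map _
  have hQ₁le : (D.map (MulAut.conj c).toMonoidHom).map H.subtype ≤
      Subgroup.centralizer ({(h : G)} : Set G) := by
    rintro _ ⟨_, ⟨d, hd, rfl⟩, rfl⟩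
    obtain ⟨⟨z, hz⟩, -, hz'⟩ := hc d hd
    rw [Subgroup.mem_centralizer_singleton_iff] at hz ⊢
    simp only [MulEquiv.coe_toMonoidHom, MulAut.conj_apply]
    have hz'' : z = c * d * c⁻¹ := hz'
    rw [← hz'']
    exact congrArg Subtype.val hz
  obtain ⟨y, hy⟩ := subConj_of_blockCoeff hM hB hE₀ hh1 hQ₁p hQ₁le
  refine ⟨E₀.map (MulAut.conj (y * (c : G))⁻¹).toMonoidHom, isDefectGroup_conj hM hB hE₀ _, ?_⟩
  rintro _ ⟨d, hd, rfl⟩
  refine ⟨y * ((c : G) * (d : G) * (c : G)⁻¹) * y⁻¹, ?_, ?_⟩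
  · apply hy
    refine ⟨c * d * c⁻¹, ⟨d, hd, ?_⟩, ?_⟩
    · simp only [MulEquiv.coe_toMonoidHom, MulAut.conj_apply]
    · push_cast
      rfl
  · simp only [MulEquiv.coe_toMonoidHom, MulAut.conj_apply, Subgroup.coe_subtype]
    group

end Cfsg.Agent.S0917
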