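import Mathlib
import Cfsg.Statements.S0936
import Cfsg.Agent.Lib.Helper23.BlockThirdMain

set_option autoImplicit false
open Cfsg Cfsg.Agent.Helper23.Blk Cfsg.Agent.Helper24

namespace Cfsg.Agent.S0936

/-- Brauer's Third Main Theorem. Let H be a subgroup of the finite group G and b a block of H (relative to a maximal ideal M of the algebraic integers containing the prime p) whose induced block in G is defined. Then b induces the principal block of G if and only if b is the principal block of H. -/
theorem result {G : Type*} [Group G] [Finite G] (p : ℕ) [Fact p.Prime] (M : Ideal Cfsg.AlgInt) (hM : Cfsg.IsPModular p M) (H : Subgroup G) (b : Set (Cfsg.IrrCharacter H)) (hdef : Cfsg.InducedBlockDefined M H b) : Cfsg.IsInducedBlock M H b (Cfsg.principalBlock M G) ↔ b = Cfsg.principalBlock M H := by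
  classical
  haveI : Fintype G := Fintype.ofFinite G
  haveI : Fintype H := Fintype.ofFinite H
  letI : Fintype (IrrCharacter G) := irrFintype
  letI : Fintype (IrrCharacter H) := irrFintype
  haveI hMp : M.IsPrime := hM.2.1.isPrime
  have ha : IsClassFunction G (pRegInd G p) := isClassFunction_pRegInd
  have haR : ∀ g, MemLocalRing M (pRegInd G p g) := fun g => memLocalRing_pRegInd g
  constructor
  · intro hind
    have hb := hind.1
    obtain ⟨ξ, hξ⟩ := block_nonempty hM hb
    have h1 := IsInducedBlock.omega_cong H hind hξ
      (principalChar_mem_principalBlock (M := M) (G := G)) ha haR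
    rw [pRegInd_comp_subtype] at h1
    have hξ' : ξ ∈ principalBlock M H := by
      by_contra hcon
      rw [omega_pRegInd_eq_zero hM ξ hcon, zero_sub] at h1
      have := memLocalIdeal_neg h1
      rw [neg_neg] at this
      exact not_memLocalIdeal_omega_principal hM this
    exact isPBlock_eq_of_mem hb isPBlock_principalBlock hξ hξ'
  · rintro rfl
    obtain ⟨B, hind⟩ := hdef
    have hB := hind.2.1
    obtain ⟨χ, hχ⟩ := block_nonempty hM hB
    have h1 := IsInducedBlock.omega_cong H hind
      (principalChar_mem_principalBlock (M := M) (G := H)) hχ ha haR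
    rw [pRegInd_comp_subtype] at h1
    have hχ' : χ ∈ principalBlock M G := by
      by_contra hcon
      rw [omega_pRegInd_eq_zero hM χ hcon, sub_zero] at h1
      exact not_memLocalIdeal_omega_principal hM h1
    have hBeq : B = principalBlock M G :=
      isPBlock_eq_of_mem hB isPBlock_principalBlock hχ hχ'
    rw [← hBeq]
    exact hind

end Cfsg.Agent.S0936
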