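import Mathlib
import Cfsg.Statements.S0942
import Cfsg.Agent.S0922
import Cfsg.Agent.S0936
import Cfsg.Agent.S0919
import Cfsg.Agent.Lib.Helper22.PPrimeCore
import Cfsg.Agent.Lib.Helper23.BlockKernel
import Cfsg.Agent.Lib.Helper23.PRegularClass

set_option autoImplicit false

open Cfsg

namespace Cfsg.Agent.S0942

open Cfsg.Agent.Helper24 Cfsg.Agent.Helper23.Blk
open scoped ComplexConjugate

/-- the block idempotents of a finite group sum to the identity -/
theorem sum_blockCoeff_blocks {H : Type*} [Group H] [Fintype H] (M : Ideal AlgInt)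
    [hMp : M.IsPrime] [Fintype (IrrCharacter H)] [DecidableEq (Set (IrrCharacter H))]
    (k : H) [Decidable (k = 1)] :
    ∑ b ∈ (Finset.univ.image (fun ξ : IrrCharacter H => blockOf M (ξ : H → ℂ))),
      blockCoeff b k = if k = 1 then 1 else 0 := by
  classical
  have h1 : ∀ b : Set (IrrCharacter H), blockCoeff b k =
      ∑ χ : IrrCharacter H, (if χ ∈ b then (1 : ℂ) else 0) * idemCoeff (χ : H → ℂ) k := by
    intro b
    rw [blockCoeff_eq_synth]
    rfl
  rw [Finset.sum_congr rfl (fun b _ => h1 b), Finset.sum_comm]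
  have h2 : ∀ χ : IrrCharacter H,
      ∑ b ∈ (Finset.univ.image (fun ξ : IrrCharacter H => blockOf M (ξ : H → ℂ))),
        (if χ ∈ b then (1 : ℂ) else 0) * idemCoeff (χ : H → ℂ) k =
        (1 : ℂ) * idemCoeff (χ : H → ℂ) k := by
    intro χ
    rw [Finset.sum_eq_single (blockOf M (χ : H → ℂ))]
    · rw [if_pos (mem_blockOf_self χ)]
    · intro b hb hne
      rw [Finset.mem_image] at hb
      obtain ⟨ξ, -, rfl⟩ := hb
      rw [if_neg, zero_mul]
      intro hχ
      exact hne (blockOf_eq_of_mem hχ).symm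
    · intro hnot
      exfalso
      apply hnot
      rw [Finset.mem_image]
      exact ⟨χ, Finset.mem_univ _, rfl⟩
  rw [Finset.sum_congr rfl (fun χ _ => h2 χ)]
  have h3 := synth_one (G := H) k
  unfold synth at h3
  convert h3

/-- uniqueness of the `p`-part -/
theorem isPPart_unique {G : Type*} [Group G] {p : ℕ} (hp : p.Prime) {u v z : G}
    (hu : ∃ k : ℕ, orderOf u = p ^ k) (hv : ¬ p ∣ orderOf v) (huv : Commute u v)
    (h : IsPPart p (u * v) z) : z = u := by
  have hz1 : z ∈ Subgroup.zpowers ((u * v) ^ 1) :=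
    Cfsg.Agent.Helper23.Blk.IsPPart.mem_zpowers_pow hp h 1 (by
      intro h1
      exact hp.one_lt.ne' (Nat.dvd_one.1 h1))
  rw [pow_one] at hz1
  obtain ⟨y, hzy, hc, ⟨k, hk⟩, hy⟩ := h
  obtain ⟨ku, hku⟩ := hu
  have huvu : Commute (u * v) u := (Commute.refl u).mul_left huv.symm
  have huvv : Commute (u * v) v := huv.mul_left (Commute.refl v)
  have hzu : Commute z u := by
    obtain ⟨i, rfl⟩ := hz1
    exact huvu.zpow_left i
  have hzv : Commute z v := by
    obtain ⟨i, rfl⟩ := hz1
    exact huvv.zpow_left i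
  have hy_def : y = z⁻¹ * (u * v) := by
    rw [← hzy, inv_mul_cancel_left]
  set w : G := u⁻¹ * z with hw
  have hcuz : Commute u⁻¹ z := hzu.symm.inv_left
  have hwo : ∃ j : ℕ, orderOf w = p ^ j := by
    have h1 : orderOf w ∣ Nat.lcm (orderOf u⁻¹) (orderOf z) := hcuz.orderOf_mul_dvd_lcm
    rw [orderOf_inv, hku, hk] at h1
    have h2 : Nat.lcm (p ^ ku) (p ^ k) ∣ p ^ (max ku k) := by
      apply Nat.lcm_dvd
      · exact pow_dvd_pow p (le_max_left _ _)
      · exact pow_dvd_pow p (le_max_right _ _)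
    obtain ⟨j, -, hj⟩ := (Nat.dvd_prime_pow hp).1 (h1.trans h2)
    exact ⟨j, hj⟩
  obtain ⟨j, hj⟩ := hwo
  have e1 : u * v * u⁻¹ = v := by rw [huv.eq, mul_inv_cancel_right]
  have hyw : y * w = v := by
    calc y * w = z⁻¹ * (u * v * u⁻¹ * z) := by rw [hy_def, hw]; group
      _ = z⁻¹ * (v * z) := by rw [e1]
      _ = v := by rw [← hzv.eq, inv_mul_cancel_left]
  have hyu : Commute y u := by
    rw [hy_def]
    exact hzu.inv_left.mul_left huvu
  have hyz : Commute y z := hc.symm
  have hcomm : Commute y w := by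
    rw [hw]
    exact hyu.inv_right.mul_right hyz
  have hw1 : w = 1 := Cfsg.Agent.Helper23.eq_one_of_pRegular_mul hp hcomm hy hj (by rw [hyw]; exact hv)
  rw [hw] at hw1
  have := congrArg (fun t => u * t) hw1
  simp only [mul_inv_cancel_left, mul_one] at this
  exact this

/-- the value of a principal-block character through the principal block of a subgroup all of whose
blocks induce -/
theorem key_expand {G : Type*} [Group G] [Fintype G] (p : ℕ) [Fact p.Prime] (M : Ideal AlgInt)
    (hM : IsPModular p M) (H : Subgroup G) [Fintype H]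
    (hdef : ∀ b : Set (IrrCharacter H), IsPBlock M b → InducedBlockDefined M H b)
    (h : H) (hC : ∀ z : G, IsPPart p (h : G) z → Subgroup.centralizer ({z} : Set G) ≤ H)
    (χ : IrrCharacter G) (hχ : χ ∈ principalBlock M G) :
    (χ : G → ℂ) (h : G) =
      ∑ k : H, blockCoeff (principalBlock M H) k * (χ : G → ℂ) ((k : G) * (h : G)) := by
  classical
  letI : Fintype (IrrCharacter G) := irrFintype
  letI : Fintype (IrrCharacter H) := irrFintype
  haveI hMp : M.IsPrime := hM.2.1.isPrime
  set blocks : Finset (Set (IrrCharacter H)) :=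
    Finset.univ.image (fun ξ : IrrCharacter H => blockOf M (ξ : H → ℂ)) with hblocks
  have hb0 : principalBlock M H ∈ blocks := by
    rw [hblocks, Finset.mem_image]
    refine ⟨principalChar H, Finset.mem_univ _, ?_⟩
    rfl
  have hPG : IsPBlock M (principalBlock M G) := ⟨principalChar G, rfl⟩
  have h1 : ∑ b ∈ blocks, ∑ k : H, blockCoeff b k * (χ : G → ℂ) ((k : G) * (h : G)) =
      (χ : G → ℂ) (h : G) := by
    rw [Finset.sum_comm]
    have h2 : ∀ k : H, ∑ b ∈ blocks, blockCoeff b k * (χ : G → ℂ) ((k : G) * (h : G)) =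
        (if k = 1 then 1 else 0) * (χ : G → ℂ) ((k : G) * (h : G)) := by
      intro k
      rw [← Finset.sum_mul, sum_blockCoeff_blocks M k]
    rw [Finset.sum_congr rfl (fun k _ => h2 k)]
    rw [Finset.sum_eq_single (1 : H)]
    · rw [if_pos rfl, one_mul, Subgroup.coe_one, one_mul]
    · intro k _ hk
      rw [if_neg hk, zero_mul]
    · intro hn
      exact absurd (Finset.mem_univ _) hn
  rw [← h1]
  rw [Finset.sum_eq_single (principalBlock M H)]
  · intro b hb hne
    rw [hblocks, Finset.mem_image] at hb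
    obtain ⟨ξ, -, rfl⟩ := hb
    have hbB : IsPBlock M (blockOf M (ξ : H → ℂ)) := ⟨ξ, rfl⟩
    obtain ⟨B, hB⟩ := hdef _ hbB
    have hBne : χ ∉ B := by
      intro hχB
      have hBeq : B = principalBlock M G := isPBlock_eq_of_mem hB.2.1 hPG hχB hχ
      rw [hBeq] at hB
      exact hne ((Cfsg.Agent.S0936.result p M hM H _ (hdef _ hbB)).1 hB)
    have := Cfsg.Agent.S0922.result p M hM H _ B hB h hC χ hBne
    rw [finsum_eq_sum_of_fintype] at this
    exact this
  · intro hn
    exact absurd hb0 hn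

/-- the principal block idempotent is invariant under translation by `O_{p'}` -/
theorem blockCoeff_principal_mul {H : Type*} [Group H] [Fintype H] (p : ℕ) [Fact p.Prime]
    (M : Ideal AlgInt) (hM : IsPModular p M) (k n : H) (hn : n ∈ pPrimeCore p H) :
    blockCoeff (principalBlock M H) (k * n) = blockCoeff (principalBlock M H) k := by
  classical
  letI : Fintype (IrrCharacter H) := irrFintype
  haveI hMp : M.IsPrime := hM.2.1.isPrime
  haveI hNn : (pPrimeCore p H).Normal := Cfsg.Agent.Helper22.pPrimeCore_normal p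
  have hNp : ¬ p ∣ Nat.card (pPrimeCore p H) :=
    Cfsg.Agent.Helper22.not_dvd_card_pPrimeCore p hM.1
  rw [blockCoeff_eq_synth, blockCoeff_eq_synth]
  unfold synth
  apply Finset.sum_congr rfl
  intro ξ _
  by_cases hξ : ξ ∈ principalBlock M H
  · show (if ξ ∈ principalBlock M H then (1 : ℂ) else 0) * idemCoeff (ξ : H → ℂ) (k * n) =
      (if ξ ∈ principalBlock M H then (1 : ℂ) else 0) * idemCoeff (ξ : H → ℂ) k
    rw [if_pos hξ]
    have hker : ∀ n ∈ pPrimeCore p H, (ξ : H → ℂ) n = (ξ : H → ℂ) 1 := by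
      have hsb : SameBlock M ((principalChar H : IrrCharacter H) : H → ℂ) (ξ : H → ℂ) := hξ
      apply le_ker_of_sameBlock hM hsb (pPrimeCore p H) hNp
      intro n _
      rfl
    have hch : IsCharacter H (ξ : H → ℂ) := isCharacter_of_isIrrCharacter ξ.2
    have : (ξ : H → ℂ) (k * n) = (ξ : H → ℂ) k :=
      char_mul_of_mem_charKer hch (hker n hn) k
    unfold idemCoeff
    rw [this]
  · show (if ξ ∈ principalBlock M H then (1 : ℂ) else 0) * idemCoeff (ξ : H → ℂ) (k * n) =
      (if ξ ∈ principalBlock M H then (1 : ℂ) else 0) * idemCoeff (ξ : H → ℂ) k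
    rw [if_neg hξ, zero_mul, zero_mul]

theorem result {G : Type*} [Group G] [Finite G] (p : ℕ) [Fact p.Prime] (M : Ideal Cfsg.AlgInt) (hM : Cfsg.IsPModular p M) (u : G) (hu : ∃ k : ℕ, orderOf u = p ^ k) (v : G) (hv : v ∈ Cfsg.centralizerPPrimeCore p u) (χ : Cfsg.IrrCharacter G) (hχ : χ ∈ Cfsg.principalBlock M G) : (χ : G → ℂ) (u * v) = (χ : G → ℂ) u := by
  classical
  haveI : Fintype G := Fintype.ofFinite G
  set H : Subgroup G := Subgroup.centralizer ({u} : Set G) with hH
  haveI : Fintype H := Fintype.ofFinite H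
  have hp := hM.1
  obtain ⟨v', hv'N, rfl⟩ := hv
  have hv'N' : v' ∈ pPrimeCore p H := hv'N
  have huH : u ∈ H := by
    rw [hH, Subgroup.mem_centralizer_iff]
    intro x hx
    rw [Set.mem_singleton_iff] at hx
    rw [hx]
  have hcomm : ∀ g ∈ H, Commute u g := by
    intro g hg
    rw [hH, Subgroup.mem_centralizer_iff] at hg
    exact hg u (Set.mem_singleton u)
  obtain ⟨ku, hku⟩ := hu
  set P : Subgroup G := Subgroup.zpowers u with hPdef
  have hP : IsPGroup p P := by
    apply IsPGroup.of_card (n := ku)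
    rw [hPdef, Nat.card_zpowers, hku]
  have hPH : P ≤ H := Subgroup.zpowers_le.2 huH
  have hCH : Subgroup.centralizer (P : Set G) ≤ H := by
    apply Subgroup.centralizer_le
    intro x hx
    rw [Set.mem_singleton_iff] at hx
    rw [hx]
    exact Subgroup.mem_zpowers u
  have hHC : H ≤ Subgroup.centralizer (P : Set G) := by
    rw [Subgroup.le_centralizer_iff]
    rw [hPdef, Subgroup.zpowers_le, Subgroup.mem_centralizer_iff]
    intro g hg
    exact ((hcomm g hg).eq).symm
  have hHN : H ≤ Subgroup.normalizer (P : Set G) :=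
    hHC.trans (Subgroup.centralizer_le_normalizer (P : Set G))
  have hdef : ∀ b : Set (IrrCharacter H), IsPBlock M b → InducedBlockDefined M H b :=
    fun b hb => Cfsg.Agent.S0919.result p M hM P H hP hPH hCH hHN b hb
  -- the `p'`-order of `v`
  have hNp : ¬ p ∣ Nat.card (pPrimeCore p H) :=
    Cfsg.Agent.Helper22.not_dvd_card_pPrimeCore p hp
  have hv'o : ¬ p ∣ orderOf (v' : G) := by
    intro hdv
    apply hNp
    have h1 : orderOf (v' : G) = orderOf (⟨v', hv'N'⟩ : pPrimeCore p H) := by
      rw [← Subgroup.orderOf_coe, ← Subgroup.orderOf_coe]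
    rw [h1] at hdv
    exact hdv.trans (orderOf_dvd_natCard _)
  have huv : Commute u (v' : G) := hcomm _ v'.2
  -- the two expansions
  have hC1 : ∀ z : G, IsPPart p (((⟨u, huH⟩ : H) : G)) z →
      Subgroup.centralizer ({z} : Set G) ≤ H := by
    intro z hz
    have hz' : IsPPart p (u * 1) z := by
      rw [mul_one]
      exact hz
    have : z = u := isPPart_unique hp ⟨ku, hku⟩ (by
      rw [orderOf_one]
      intro h1
      exact hp.one_lt.ne' (Nat.dvd_one.1 h1)) (Commute.one_right u) hz'
    rw [this]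
  have hC2 : ∀ z : G, IsPPart p (((⟨u, huH⟩ * v' : H) : G)) z →
      Subgroup.centralizer ({z} : Set G) ≤ H := by
    intro z hz
    have hz' : IsPPart p (u * (v' : G)) z := hz
    have : z = u := isPPart_unique hp ⟨ku, hku⟩ hv'o huv hz'
    rw [this]
  have e1 := key_expand p M hM H hdef ⟨u, huH⟩ hC1 χ hχ
  have e2 := key_expand p M hM H hdef (⟨u, huH⟩ * v') hC2 χ hχ
  show (χ : G → ℂ) (u * (v' : G)) = (χ : G → ℂ) u
  have e1' : (χ : G → ℂ) u =
      ∑ k : H, blockCoeff (principalBlock M H) k * (χ : G → ℂ) ((k : G) * u) := e1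
  have e2' : (χ : G → ℂ) (u * (v' : G)) =
      ∑ k : H, blockCoeff (principalBlock M H) k * (χ : G → ℂ) ((k : G) * (u * (v' : G))) := e2
  rw [e1', e2']
  rw [← Equiv.sum_comp (Equiv.mulRight v'⁻¹)]
  apply Finset.sum_congr rfl
  intro k _
  have hinv : v'⁻¹ ∈ pPrimeCore p H := inv_mem hv'N'
  rw [Equiv.coe_mulRight, blockCoeff_principal_mul p M hM k v'⁻¹ hinv]
  congr 2
  rw [Subgroup.coe_mul, Subgroup.coe_inv, huv.eq]
  group

end Cfsg.Agent.S0942
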