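import Mathlib
import Cfsg.Statements.S0944
import Cfsg.Agent.Lib.Helper24.CharCentral

set_option autoImplicit false
open Cfsg

namespace Cfsg.Agent.S0944

open Cfsg.Agent.Helper24

theorem sum_pm_one {n : ℕ} (μ : Fin n → ℂ) (h : ∀ i, μ i ^ 2 = 1) :
    ∃ k : ℤ, ∑ i, μ i = (k : ℂ) ∧ (2 : ℤ) ∣ (n : ℤ) - k := by
  classical
  have hpm : ∀ i, μ i = 1 ∨ μ i = -1 := fun i => sq_eq_one_iff.mp (h i)
  let ν : Fin n → ℤ := fun i => if μ i = 1 then 1 else -1
  have hν : ∀ i, μ i = (ν i : ℂ) := by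
    intro i
    simp only [ν]
    rcases hpm i with h1 | h1
    · simp [h1]
    · have : μ i ≠ 1 := by rw [h1]; norm_num
      simp [this, h1]
  refine ⟨∑ i, ν i, ?_, ?_⟩
  · rw [Int.cast_sum]
    exact Finset.sum_congr rfl fun i _ => hν i
  · have : (n : ℤ) - ∑ i, ν i = ∑ i : Fin n, (1 - ν i) := by
      rw [Finset.sum_sub_distrib]
      simp
    rw [this]
    apply Finset.dvd_sum
    intro i _
    simp only [ν]
    split_ifs <;> norm_num

/-- Let χ be an irreducible character of the finite group G and u an involution. Then χ u is a rational integer n with n ≡ χ 1 (mod 2). -/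
theorem result {G : Type*} [Group G] [Finite G] (χ : Cfsg.IrrCharacter G) (u : G) (hu : orderOf u = 2) : ∃ n : ℤ, (χ : G → ℂ) u = (n : ℂ) ∧ (2 : ℤ) ∣ (Cfsg.charDegree (χ : G → ℂ) : ℤ) - n := by
  obtain ⟨χ, hχ⟩ := χ
  obtain ⟨n, ρ, hρ, rfl⟩ := hχ
  have hu2 : (ρ u) ^ 2 = 1 := by
    rw [← map_pow, ← hu, pow_orderOf_eq_one, map_one]
  obtain ⟨m, b, μ, hμ, hb⟩ := exists_eigenbasis_of_pow_eq_one (ρ u) (by norm_num : 0 < 2) hu2
  have hm : Module.finrank ℂ (Fin n → ℂ) = m := finrank_eq_of_basis b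
  have htr : ρ.character u = ∑ i, μ i := trace_eq_sum_of_eigenbasis b μ (ρ u) hb
  obtain ⟨k, hk, hdvd⟩ := sum_pm_one μ hμ
  refine ⟨k, ?_, ?_⟩
  · show ρ.character u = k
    rw [htr, hk]
  · have hdeg : Cfsg.charDegree ρ.character = m := by
      apply charDegree_natCast
      rw [Representation.char_one, hm]
    show (2 : ℤ) ∣ (Cfsg.charDegree ρ.character : ℤ) - k
    rw [hdeg]
    exact hdvd

end Cfsg.Agent.S0944
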