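import Mathlib
import Cfsg.Statements.S0147
import Cfsg.Agent.Lib.Helper11.IndFun

set_option autoImplicit false
open Cfsg

namespace Cfsg.Agent.S0147

open Cfsg.Agent.Helper11

theorem result {G : Type*} [Group G] [Fintype G] (H K : Subgroup G) [Fintype K] (hHK : H ≤ K) (θ : H → ℂ) : Cfsg.indFun K (Cfsg.indFun (H.subgroupOf K) (fun x => θ ⟨(x : K), Subgroup.mem_subgroupOf.mp x.2⟩)) = Cfsg.indFun H θ := by
  funext g
  set θ' : H.subgroupOf K → ℂ := fun x => θ ⟨(x : K), Subgroup.mem_subgroupOf.mp x.2⟩ with hθ'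
  set E := Cfsg.extendByZero H θ with hE
  -- extension on K agrees with E
  have hext : ∀ v : K, Cfsg.extendByZero (H.subgroupOf K) θ' v = E (v : G) := by
    intro v
    by_cases hv : (v : G) ∈ H
    · have hv' : v ∈ H.subgroupOf K := Subgroup.mem_subgroupOf.mpr hv
      rw [extendByZero_of_mem _ _ v hv', hE, extendByZero_of_mem H θ _ hv]
    · have hv' : v ∉ H.subgroupOf K := fun h => hv (Subgroup.mem_subgroupOf.mp h)
      rw [extendByZero_of_not_mem _ _ v hv', hE, extendByZero_of_not_mem H θ _ hv]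
  have hcard : (Nat.card (H.subgroupOf K) : ℂ) = (Nat.card H : ℂ) := by
    rw [Nat.card_congr (Subgroup.subgroupOfEquivOfLe hHK).toEquiv]
  -- pointwise identity
  have hpt : ∀ x : G, Cfsg.extendByZero K (Cfsg.indFun (H.subgroupOf K) θ') (x⁻¹ * g * x)
      = (Nat.card H : ℂ)⁻¹ * ∑ y : K, E ((x * (y : G))⁻¹ * g * (x * (y : G))) := by
    intro x
    by_cases hu : x⁻¹ * g * x ∈ K
    · rw [extendByZero_of_mem K _ _ hu, indFun_apply, hcard]
      congr 1
      apply Finset.sum_congr rfl
      intro y _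
      rw [hext]
      congr 1
      simp only [Subgroup.coe_mul, Subgroup.coe_inv]
      group
    · rw [extendByZero_of_not_mem K _ _ hu]
      symm
      apply mul_eq_zero_of_right
      apply Finset.sum_eq_zero
      intro y _
      rw [hE]
      apply extendByZero_of_not_mem
      intro hmem
      apply hu
      have h1 : (x * (y : G))⁻¹ * g * (x * (y : G)) ∈ K := hHK hmem
      have h2 : x⁻¹ * g * x = (y : G) * ((x * (y : G))⁻¹ * g * (x * (y : G))) * (y : G)⁻¹ := by group
      rw [h2]
      exact K.mul_mem (K.mul_mem y.2 h1) (K.inv_mem y.2)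
  rw [indFun_apply, indFun_apply]
  rw [Finset.sum_congr rfl (fun x _ => hpt x), ← Finset.mul_sum, Finset.sum_comm]
  have hsum : ∀ y : K, ∑ x : G, E ((x * (y : G))⁻¹ * g * (x * (y : G))) = ∑ z : G, E (z⁻¹ * g * z) := by
    intro y
    exact Equiv.sum_comp (Equiv.mulRight (y : G)) (fun z => E (z⁻¹ * g * z))
  rw [Finset.sum_congr rfl (fun y _ => hsum y), Finset.sum_const, Finset.card_univ, nsmul_eq_mul]
  have hK : (Nat.card K : ℂ) ≠ 0 := by
    rw [Nat.card_eq_fintype_card]
    exact_mod_cast Fintype.card_ne_zero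
  rw [← Nat.card_eq_fintype_card]
  field_simp
  rfl

end Cfsg.Agent.S0147
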