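import Mathlib
import Cfsg.Statements.S0169
import Cfsg.Agent.Lib.Helper18.CliffordCorr
import Cfsg.Agent.Lib.Helper18.ScalarSubgroup
import Cfsg.Agent.Lib.Helper18.Lucido2
import Cfsg.Agent.Lib.Helper1.CharScalar
import Cfsg.Agent.Lib.Helper24.CharAbelian

set_option autoImplicit false
set_option linter.style.haveILetI false
open Cfsg

namespace Cfsg.Agent.S0169

open Cfsg.Agent.Helper24 Cfsg.Agent.Helper5 Cfsg.Agent.Helper18 Cfsg.Agent.Helper1

universe u

/-- A linear character has values of norm one. -/
theorem norm_eq_one_of_linear {A : Type u} [Group A] [Finite A] {ϑ : A → ℂ}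
    (hϑ : IsCharacter A ϑ) (h1 : ϑ 1 = 1) (a : A) : ‖ϑ a‖ = 1 := by
  have hmul := char_mul_of_degree_one hϑ h1
  have hpow : ∀ k : ℕ, ϑ (a ^ k) = ϑ a ^ k := by
    intro k
    induction k with
    | zero => simp [h1]
    | succ k ih => rw [pow_succ, hmul, ih, pow_succ]
  have h2 : ϑ a ^ Nat.card A = 1 := by
    rw [← hpow, pow_card_eq_one', h1]
  exact Complex.norm_eq_one_of_pow_eq_one h2 Nat.card_pos.ne'

/-- Itô's theorem, character form, by induction on the group order. -/
theorem ito_aux (k : ℕ) : ∀ (G : Type u) [Group G] [Fintype G], Nat.card G = k →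
    ∀ (A : Subgroup G) [A.Normal], (∀ a ∈ A, ∀ b ∈ A, a * b = b * a) →
    ∀ χ : G → ℂ, IsIrrCharacter G χ → charDegree χ ∣ A.index := by
  induction k using Nat.strong_induction_on with
  | _ k ih =>
  intro G _ _ hk A hA hcomm χ hχ
  classical
  letI : Fintype A := Fintype.ofFinite A
  letI : Fintype (IrrCharacter A) := irrFintype
  have hχc := isCharacter_of_isIrrCharacter hχ
  have hχA : IsCharacter A (fun a : A => χ a) := isCharacter_restrict A hχc
  have hχA0 : (fun a : A => χ a) ≠ 0 := by
    intro h
    have h1 := congrFun h 1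
    have h2 : χ ((1 : A) : G) = 0 := h1
    rw [Subgroup.coe_one, irr_one_eq_charDegree hχ] at h2
    have := charDegree_pos hχ
    have h3 : charDegree χ = 0 := by exact_mod_cast h2
    omega
  obtain ⟨ϑ, hϑ, hcon⟩ := exists_constituent hχA hχA0
  have hϑc := isCharacter_of_isIrrCharacter hϑ
  have hAcomm : ∀ a b : A, a * b = b * a := by
    intro a b
    exact Subtype.ext (hcomm a a.2 b b.2)
  have hϑdeg : charDegree ϑ = 1 := charDegree_eq_one_of_comm hAcomm hϑ
  have hϑ1 : ϑ 1 = 1 := by rw [irr_one_eq_charDegree hϑ, hϑdeg]; simp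
  by_cases hT : inertia A ϑ = ⊤
  · -- invariant case: A acts by scalars
    have hinv : ∀ g : G, conjFun A g ϑ = ϑ := by
      intro g
      have : g ∈ inertia A ϑ := by rw [hT]; trivial
      exact (mem_inertia A ϑ g).mp this
    obtain ⟨e, he0, he, hres⟩ := restrict_eq_smul_of_invariant A hχ hϑ hinv hcon
    obtain ⟨n, ρ, hρ, hρχ⟩ := hχ
    have hχ1 : χ 1 = (e : ℂ) := by
      have := congrFun hres 1
      rw [Pi.smul_apply, hϑ1, smul_eq_mul, mul_one] at this
      exact this
    have hn : (n : ℂ) = e := by
      rw [← hχ1, ← hρχ, Representation.char_one, Module.finrank_fin_fun]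
    have hne : n = e := by exact_mod_cast hn
    have hscal : ∀ a ∈ A, ∃ c : ℂ, ρ a = c • (1 : Module.End ℂ (Fin n → ℂ)) := by
      intro a ha
      apply rep_scalar_of_norm_char_eq ρ a
      have h1 := congrFun hres ⟨a, ha⟩
      rw [Pi.smul_apply, smul_eq_mul] at h1
      have h2 : ρ.character a = (e : ℂ) * ϑ ⟨a, ha⟩ := by rw [hρχ]; exact h1
      rw [h2, norm_mul, norm_eq_one_of_linear hϑc hϑ1, mul_one, Module.finrank_fin_fun, hne]
      simp
    have := finrank_dvd_index_of_scalar ρ hρ A hscal
    rw [Module.finrank_fin_fun] at this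
    have hdeg : charDegree χ = n := by
      apply charDegree_natCast
      rw [← hρχ, Representation.char_one, Module.finrank_fin_fun]
    rw [hdeg]
    exact this
  · -- proper inertia subgroup: induct
    set T := inertia A ϑ with hTdef
    have hAT : A ≤ T := le_inertia A (isClassFunction_of_isIrrCharacter hϑ)
    letI : Fintype T := Fintype.ofFinite T
    obtain ⟨ψ, hψ, hind, -⟩ := clifford_correspondence A hχ hϑ hcon
    have hTlt : Nat.card T < k := by
      rw [← hk]
      exact card_lt_of_lt_top (lt_top_iff_ne_top.mpr hT)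
    haveI : (A.subgroupOf T).Normal := Subgroup.normal_subgroupOf
    have hcomm' : ∀ a ∈ A.subgroupOf T, ∀ b ∈ A.subgroupOf T, a * b = b * a := by
      intro a ha b hb
      apply Subtype.ext
      exact hcomm a (Subgroup.mem_subgroupOf.mp ha) b (Subgroup.mem_subgroupOf.mp hb)
    have h1 := ih (Nat.card T) hTlt T rfl (A.subgroupOf T) hcomm' ψ hψ
    have h2 : charDegree χ = T.index * charDegree ψ := by
      apply charDegree_natCast
      rw [← hind, indFun_one, irr_one_eq_charDegree hψ]
      push_cast
      rfl
    rw [h2, ← Subgroup.relIndex_mul_index hAT, mul_comm]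
    exact Nat.mul_dvd_mul_right h1 _

/-- Itô's Theorem on character degrees: the degree of an irreducible complex representation of a finite group divides the index of any abelian normal subgroup. -/
theorem result {G : Type*} [Group G] [Finite G] {V : Type*} [AddCommGroup V] [Module ℂ V] [FiniteDimensional ℂ V] (ρ : Representation ℂ G V) [ρ.IsIrreducible] (H : Subgroup G) [H.Normal] (hH : ∀ a ∈ H, ∀ b ∈ H, a * b = b * a) : Module.finrank ℂ V ∣ H.index := by
  classical
  letI : Fintype G := Fintype.ofFinite G
  have hirr : IsIrrCharacter G ρ.character := isIrrCharacter_of_rep ρ inferInstance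
  have h := ito_aux (Nat.card G) G rfl H hH ρ.character hirr
  have hdeg : charDegree ρ.character = Module.finrank ℂ V := by
    apply charDegree_natCast
    rw [Representation.char_one]
  rw [hdeg] at h
  exact h

end Cfsg.Agent.S0169
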