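import Mathlib
import Cfsg.Statements.S0176
import Cfsg.Agent.S0169
import Cfsg.Agent.S0147
import Cfsg.Agent.Lib.Helper18.MGroup

set_option autoImplicit false
set_option linter.style.haveILetI false
open Cfsg

namespace Cfsg.Agent.S0176

open Cfsg.Agent.Helper24 Cfsg.Agent.Helper5 Cfsg.Agent.Helper18 Cfsg.Agent.Helper1

universe u

/-- If the restriction of an irreducible character to an abelian normal subgroup has an
invariant constituent, the subgroup acts by scalars. -/
theorem scalar_of_invariant {G : Type u} [Group G] [Fintype G] (A : Subgroup G) [hA : A.Normal]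
    [Fintype A] (hcomm : ∀ a ∈ A, ∀ b ∈ A, a * b = b * a) {n : ℕ}
    (ρ : Representation ℂ G (Fin n → ℂ)) (hρ : ρ.IsIrreducible) {ϑ : A → ℂ}
    (hϑ : IsIrrCharacter A ϑ) (hcon : classInner (fun a : A => ρ.character a) ϑ ≠ 0)
    (hinv : ∀ g : G, conjFun A g ϑ = ϑ) :
    ∀ a ∈ A, ∃ c : ℂ, ρ a = c • (1 : Module.End ℂ (Fin n → ℂ)) := by
  classical
  letI : Fintype (IrrCharacter A) := irrFintype
  have hχ : IsIrrCharacter G ρ.character := ⟨n, ρ, hρ, rfl⟩
  have hϑc := isCharacter_of_isIrrCharacter hϑ
  have hAcomm : ∀ a b : A, a * b = b * a := by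
    intro a b
    exact Subtype.ext (hcomm a a.2 b b.2)
  have hϑdeg : charDegree ϑ = 1 := charDegree_eq_one_of_comm hAcomm hϑ
  have hϑ1 : ϑ 1 = 1 := by rw [irr_one_eq_charDegree hϑ, hϑdeg]; simp
  obtain ⟨e, he0, he, hres⟩ := restrict_eq_smul_of_invariant A hχ hϑ hinv hcon
  have hχ1 : ρ.character 1 = (e : ℂ) := by
    have := congrFun hres 1
    rw [Pi.smul_apply, hϑ1, smul_eq_mul, mul_one] at this
    exact this
  have hn : (n : ℂ) = e := by
    rw [← hχ1, Representation.char_one, Module.finrank_fin_fun]
  have hne : n = e := by exact_mod_cast hn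
  intro a ha
  apply rep_scalar_of_norm_char_eq ρ a
  have h1 := congrFun hres ⟨a, ha⟩
  rw [Pi.smul_apply, smul_eq_mul] at h1
  have h2 : ρ.character a = (e : ℂ) * ϑ ⟨a, ha⟩ := h1
  rw [h2, norm_mul, Cfsg.Agent.S0169.norm_eq_one_of_linear hϑc hϑ1, mul_one,
    Module.finrank_fin_fun, hne]
  simp

/-- Nilpotent groups are M-groups, by induction on the order. -/
theorem mgroup_aux (k : ℕ) : ∀ (G : Type u) [Group G] [Fintype G], Nat.card G = k →
    Group.IsNilpotent G → ∀ χ : G → ℂ, IsIrrCharacter G χ →
    ∃ (H : Subgroup G) (lam : H →* ℂˣ), χ = indFun H (fun h => (lam h : ℂ)) := by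
  induction k using Nat.strong_induction_on with
  | _ k ih =>
  intro G _ _ hk hnil χ hχ
  classical
  haveI := hnil
  have hχc := isCharacter_of_isIrrCharacter hχ
  by_cases hdeg : χ 1 = 1
  · -- linear character
    refine ⟨⊤, (linHom hχc hdeg).comp (⊤ : Subgroup G).subtype, ?_⟩
    have h1 := indFun_top (isClassFunction_of_isCharacter hχc)
    conv_lhs => rw [← h1]
    rfl
  · haveI hKn : (charKer hχc).Normal := charKer_normal hχc
    by_cases hK : charKer hχc = ⊥
    · -- faithful case
      have hnc : ¬ ∀ a b : G, a * b = b * a := by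
        intro hc
        letI : Fintype (IrrCharacter G) := irrFintype
        have := charDegree_eq_one_of_comm hc hχ
        apply hdeg
        rw [irr_one_eq_charDegree hχ, this]
        simp
      obtain ⟨A, hAn, hAc, hAZ⟩ := exists_normal_abelian_not_le_center hnc
      haveI := hAn
      letI : Fintype A := Fintype.ofFinite A
      letI : Fintype (IrrCharacter A) := irrFintype
      have hχA : IsCharacter A (fun a : A => χ a) := isCharacter_restrict A hχc
      have hχA0 : (fun a : A => χ a) ≠ 0 := by
        intro h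
        have h1 := congrFun h 1
        have h2 : χ ((1 : A) : G) = 0 := h1
        rw [Subgroup.coe_one, irr_one_eq_charDegree hχ] at h2
        have := charDegree_pos hχ
        have h3 : charDegree χ = 0 := by exact_mod_cast h2
        omega
      obtain ⟨ϑ, hϑ, hcon⟩ := exists_constituent hχA hχA0
      by_cases hT : inertia A ϑ = ⊤
      · exfalso
        apply hAZ
        have hinv : ∀ g : G, conjFun A g ϑ = ϑ := by
          intro g
          have : g ∈ inertia A ϑ := by rw [hT]; trivial
          exact (mem_inertia A ϑ g).mp this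
        obtain ⟨n, ρ, hρ, hρχ⟩ := hχ
        have hcon' : classInner (fun a : A => ρ.character a) ϑ ≠ 0 := by rw [hρχ]; exact hcon
        have hscal := scalar_of_invariant A hAc ρ hρ hϑ hcon' hinv
        intro a ha
        rw [Subgroup.mem_center_iff]
        intro g
        obtain ⟨c, hc⟩ := hscal a ha
        have h1 := rep_commutator_eq_one_of_scalar ρ hc g
        have h2 : a * g * a⁻¹ * g⁻¹ ∈ charKer hχc := by
          rw [mem_charKer, ← hρχ]
          show LinearMap.trace ℂ _ (ρ (a * g * a⁻¹ * g⁻¹)) = LinearMap.trace ℂ _ (ρ 1)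
          rw [h1, map_one ρ]
        rw [hK, Subgroup.mem_bot] at h2
        have : a * g = a * g * a⁻¹ * g⁻¹ * (g * a) := by group
        rw [this, h2, one_mul]
      · -- proper inertia subgroup
        set T := inertia A ϑ with hTdef
        letI : Fintype T := Fintype.ofFinite T
        obtain ⟨ψ, hψ, hind, -⟩ := clifford_correspondence A hχ hϑ hcon
        have hTlt : Nat.card T < k := by
          rw [← hk]
          exact card_lt_of_lt_top (lt_top_iff_ne_top.mpr hT)
        obtain ⟨H', lam', hψeq⟩ := ih (Nat.card T) hTlt T rfl (Subgroup.isNilpotent T) ψ hψ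
        obtain ⟨H'', hle, e⟩ : ∃ H'' : Subgroup G, H'' ≤ T ∧ H''.subgroupOf T = H' :=
          ⟨H'.map T.subtype, by
            intro x hx
            obtain ⟨y, -, rfl⟩ := Subgroup.mem_map.mp hx
            exact y.2,
            Subgroup.comap_map_eq_self_of_injective (Subgroup.subtype_injective T) H'⟩
        subst e
        let lam'' : H'' →* ℂˣ := lam'.comp (Subgroup.subgroupOfEquivOfLe hle).symm.toMonoidHom
        refine ⟨H'', lam'', ?_⟩
        rw [← hind, hψeq]
        have h1 := Cfsg.Agent.S0147.result H'' T hle (fun h => (lam'' h : ℂ))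
        rw [← h1]
        congr 2
    · -- pass to the quotient by the kernel
      set K := charKer hχc with hKdef
      letI : Fintype (G ⧸ K) := Fintype.ofFinite _
      obtain ⟨χbar, hχbar, hχeq⟩ := exists_deflate K hχ (fun n hn => hn)
      have hQlt : Nat.card (G ⧸ K) < k := by
        rw [← hk]
        have h1 := Subgroup.card_eq_card_quotient_mul_card_subgroup K
        have h2 : 1 < Nat.card K := by
          rw [Subgroup.one_lt_card_iff_ne_bot]
          exact hK
        have h3 : 0 < Nat.card (G ⧸ K) := Nat.card_pos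
        rw [h1]
        nlinarith
      obtain ⟨Hbar, lambar, hbar⟩ := ih (Nat.card (G ⧸ K)) hQlt (G ⧸ K) rfl inferInstance
        χbar hχbar
      refine ⟨Hbar.comap (QuotientGroup.mk' K),
        lambar.comp ((QuotientGroup.mk' K).subgroupComap Hbar), ?_⟩
      rw [hχeq, hbar, ← indFun_comap_mk]
      rfl

/-- A finite nilpotent group is an M-group: each irreducible complex character is induced from a homomorphism of some subgroup into ℂˣ. -/
theorem result {G : Type*} [Group G] [Fintype G] [Group.IsNilpotent G] (χ : G → ℂ) (hχ : Cfsg.IsIrrCharacter G χ) : ∃ (H : Subgroup G) (lam : H →* ℂˣ), χ = Cfsg.indFun H (fun h => (lam h : ℂ)) :=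
  mgroup_aux (Nat.card G) G rfl inferInstance χ hχ

end Cfsg.Agent.S0176
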