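import Mathlib
import Cfsg.Statements.S0190
import Cfsg.Agent.Lib.Helper11.IndFun

set_option autoImplicit false
open Cfsg

namespace Cfsg.Agent.S0190

open Cfsg.Agent.Helper11

/-- fibers of the orbit map are cosets of the stabilizer -/
noncomputable def fiberEquiv {G : Type*} [Group G] (X : Type*) [MulAction G X] (x : X) (y₀ : G) :
    MulAction.stabilizer G x ≃ {y : G // y • x = y₀ • x} where
  toFun s := ⟨y₀ * s, by rw [mul_smul, MulAction.mem_stabilizer_iff.mp s.2]⟩
  invFun y := ⟨y₀⁻¹ * y, by
    rw [MulAction.mem_stabilizer_iff, mul_smul, y.2, inv_smul_smul]⟩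
  left_inv s := by
    apply Subtype.ext
    simp
  right_inv y := by
    apply Subtype.ext
    simp

theorem key {G : Type*} [Group G] [Fintype G] (X : Type*) [MulAction G X] [Fintype X]
    [MulAction.IsPretransitive G X] (x : X) (F : X → ℂ) :
    ∑ y : G, F (y • x) = (Nat.card (MulAction.stabilizer G x) : ℂ) * ∑ z : X, F z := by
  classical
  rw [← Finset.sum_fiberwise (Finset.univ : Finset G) (fun y => y • x) (fun y => F (y • x)), Finset.mul_sum]
  apply Finset.sum_congr rfl
  intro z _
  obtain ⟨y₀, rfl⟩ := MulAction.exists_smul_eq G x z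
  have h1 : ∀ y ∈ Finset.univ.filter (fun y : G => y • x = y₀ • x), F (y • x) = F (y₀ • x) := by
    intro y hy
    rw [(Finset.mem_filter.mp hy).2]
  rw [Finset.sum_congr rfl h1, Finset.sum_const, nsmul_eq_mul]
  congr 2
  rw [Nat.card_congr (fiberEquiv X x y₀), Nat.card_eq_fintype_card, Fintype.card_subtype]

theorem result {G : Type*} [Group G] [Fintype G] (X : Type*) [MulAction G X] [Finite X] [MulAction.IsPretransitive G X] (x : X) : (fun g : G => (Nat.card (MulAction.fixedBy X g) : ℂ)) = Cfsg.indFun (MulAction.stabilizer G x) (fun _ => 1) := by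
  classical
  letI : Fintype X := Fintype.ofFinite X
  funext g
  rw [indFun_apply]
  have h1 : ∀ y : G, Cfsg.extendByZero (MulAction.stabilizer G x) (fun _ => (1 : ℂ)) (y⁻¹ * g * y)
      = (fun z : X => if g • z = z then (1 : ℂ) else 0) (y • x) := by
    intro y
    have hiff : y⁻¹ * g * y ∈ MulAction.stabilizer G x ↔ g • (y • x) = y • x := by
      rw [MulAction.mem_stabilizer_iff, mul_smul, mul_smul, inv_smul_eq_iff]
    by_cases h : g • (y • x) = y • x
    · rw [extendByZero_of_mem _ _ _ (hiff.mpr h)]
      simp [h]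
    · rw [extendByZero_of_not_mem _ _ _ (fun hm => h (hiff.mp hm))]
      simp [h]
  rw [Finset.sum_congr rfl (fun y _ => h1 y),
    key X x (fun z : X => if g • z = z then (1 : ℂ) else 0), Finset.sum_boole]
  have hS : (Nat.card (MulAction.stabilizer G x) : ℂ) ≠ 0 := by
    have : Nat.card (MulAction.stabilizer G x) ≠ 0 := Nat.card_pos.ne'
    exact_mod_cast this
  rw [← mul_assoc, inv_mul_cancel₀ hS, one_mul]
  congr 1
  rw [Nat.card_eq_fintype_card, Fintype.card_subtype]
  rfl

end Cfsg.Agent.S0190
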