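import Mathlib
import Cfsg.Statements.S0163
import Cfsg.Agent.Lib.Helper18.BrauerQE

set_option autoImplicit false
open Cfsg

namespace Cfsg.Agent.S0163

open Cfsg.Agent.Helper24 Cfsg.Agent.Helper18

universe u

/-- The span of the generalized characters induced from quasi-elementary subgroups lies in the
span of the characters induced from linear characters of elementary subgroups. -/
theorem quasiElemSpan_le_brauerSpan {G : Type u} [Group G] [Fintype G] :
    quasiElemSpan G ≤ brauerSpan G := by
  classical
  unfold quasiElemSpan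
  rw [AddSubgroup.closure_le]
  rintro f ⟨K, ψ, ⟨p, hp, hK⟩, hψ, rfl⟩
  haveI : Fintype K := Fintype.ofFinite K
  apply indFun_mem_brauerSpan
  exact genChar_mem_brauerSpan (one_mem_brauerSpan_of_isQuasiElem _ K p hp hK rfl) hψ

/-- **Brauer's induction theorem**: every generalized character lies in the span. -/
theorem genChar_mem_brauerSpan_top {G : Type u} [Group G] [Fintype G] {χ : G → ℂ}
    (hχ : IsGeneralizedCharacter G χ) : χ ∈ brauerSpan G :=
  genChar_mem_brauerSpan (quasiElemSpan_le_brauerSpan one_mem_quasiElemSpan) hχ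

theorem result {G : Type*} [Group G] [Fintype G] (χ : G → ℂ) (hχ : Cfsg.IsCharacter G χ) : ∃ l : List ((E : Subgroup G) × ((E →* ℂˣ) × ℤ)), (∀ t ∈ l, ∃ p : ℕ, p.Prime ∧ Cfsg.IsElementary p t.1) ∧ χ = (l.map fun t => (t.2.2 : ℂ) • Cfsg.indFun t.1 (fun e => (t.2.1 e : ℂ))).sum :=
  exists_list_of_mem_brauerSpan (genChar_mem_brauerSpan_top (isGenChar_of_isCharacter hχ))

end Cfsg.Agent.S0163
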