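import Mathlib
import Cfsg.Statements.S0164
import Cfsg.Agent.S0163

set_option autoImplicit false
open Cfsg

namespace Cfsg.Agent.S0164

open Cfsg.Agent.Helper24 Cfsg.Agent.Helper18

universe u

theorem mul_isGenChar_of_mem_brauerSpan {G : Type u} [Group G] [Fintype G] (θ : G → ℂ)
    (hθ : Cfsg.IsClassFunction G θ)
    (hE : ∀ (E : Subgroup G) (p : ℕ), p.Prime → Cfsg.IsElementary p E →
      Cfsg.IsGeneralizedCharacter E (fun e : E => θ e))
    {f : G → ℂ} (hf : f ∈ brauerSpan G) : IsGeneralizedCharacter G (f * θ) := by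
  unfold brauerSpan at hf
  induction hf using AddSubgroup.closure_induction with
  | mem f hf =>
    obtain ⟨E, lam, ⟨p, hp, hEl⟩, rfl⟩ := hf
    rw [← indFun_mul_restrict E _ hθ]
    apply isGenChar_indFun
    exact isGenChar_mul
      (isGenChar_of_isCharacter (isCharacter_of_isIrrCharacter (isIrrCharacter_of_monoidHom lam)))
      (hE E p hp hEl)
  | zero =>
    rw [zero_mul]
    exact isGenChar_zero
  | add a b _ _ ha hb =>
    rw [add_mul]
    exact isGenChar_add ha hb
  | neg a _ ha =>
    rw [neg_mul]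
    exact isGenChar_neg ha

theorem result {G : Type*} [Group G] [Finite G] (θ : G → ℂ) (hθ : Cfsg.IsClassFunction G θ) (hE : ∀ (E : Subgroup G) (p : ℕ), p.Prime → Cfsg.IsElementary p E → Cfsg.IsGeneralizedCharacter E (fun e : E => θ e)) : Cfsg.IsGeneralizedCharacter G θ := by
  classical
  haveI : Fintype G := Fintype.ofFinite G
  have h1 : (fun _ : G => (1 : ℂ)) ∈ brauerSpan G :=
    Cfsg.Agent.S0163.genChar_mem_brauerSpan_top isGenChar_one
  have h2 := mul_isGenChar_of_mem_brauerSpan θ hθ hE h1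
  have h3 : (fun _ : G => (1 : ℂ)) * θ = θ := by
    funext g
    simp
  rwa [h3] at h2

end Cfsg.Agent.S0164
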