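import Mathlib
import Cfsg.Statements.S0165
import Cfsg.Agent.S0164
import Cfsg.Agent.Lib.Helper24.CharIntegral

set_option autoImplicit false
open Cfsg

namespace Cfsg.Agent.S0165

open Cfsg.Agent.Helper24 Cfsg.Agent.Helper18
open scoped ComplexConjugate

universe u

section

variable {G : Type u} [Group G] [Fintype G]

/-- The function agreeing with `χ` on the `p`-regular elements and vanishing elsewhere. -/
noncomputable def pRegPart (p : ℕ) (χ : G → ℂ) : G → ℂ :=
  fun g => if p ∣ orderOf g then 0 else χ g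

theorem isClassFunction_pRegPart (p : ℕ) {χ : G → ℂ} (hχ : IsClassFunction G χ) :
    IsClassFunction G (pRegPart p χ) := by
  intro g h
  unfold pRegPart
  have h1 : orderOf (h * g * h⁻¹) = orderOf g := by
    have := (MulAut.conj h).orderOf_eq g
    rwa [MulAut.conj_apply] at this
  rw [h1, hχ g h]

/-- Lemma D: the restriction of the `p`-regular part to a subgroup `E` whose `p`-regular elements
form a subgroup `Q` of `p`-power index `p ^ j`, with `p ^ j` dividing the orders of the
centralizers in `G` of the elements of `Q`. -/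
theorem isGenChar_pRegPart_restrict {p n m : ℕ} (hp : p.Prime)
    (hcard : Nat.card G = p ^ n * m) (hpm : ¬ p ∣ m)
    {χ : G → ℂ} (hχ : IsIrrCharacter G χ) {d' : ℕ} (hdeg : χ 1 = ((p ^ n * d' : ℕ) : ℂ))
    (E : Subgroup G) (Q : Subgroup E) (j : ℕ)
    (ha : ∀ e : E, e ∈ Q ↔ ¬ p ∣ orderOf e)
    (hb : Q.index = p ^ j)
    (hc : ∀ y ∈ Q, p ^ j ∣ Nat.card (Subgroup.centralizer ({((y : E) : G)} : Set G))) :
    IsGeneralizedCharacter E (fun e : E => pRegPart p χ e) := by
  classical
  haveI : Fact p.Prime := ⟨hp⟩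
  haveI : Fintype E := Fintype.ofFinite E
  haveI : Fintype Q := Fintype.ofFinite Q
  letI : Fintype (IrrCharacter E) := irrFintype
  letI : Fintype (IrrCharacter Q) := irrFintype
  have hχc := isCharacter_of_isIrrCharacter hχ
  have hχcf := isClassFunction_of_isIrrCharacter hχ
  have hcf : IsClassFunction E (fun e : E => pRegPart p χ e) := by
    intro g h
    exact isClassFunction_pRegPart p hχcf (g : G) (h : G)
  apply isGenChar_of_int_inner hcf
  intro μ
  have hμc := isCharacter_of_isIrrCharacter μ.2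
  -- the inner product over `Q`
  obtain ⟨N, hN⟩ := classInner_char_nat
    (isCharacter_restrict Q (isCharacter_restrict E hχc)) (isCharacter_restrict Q hμc)
  have hsumQ : ∑ y : Q, χ ((y : E) : G) * conj ((μ : E → ℂ) (y : E)) =
      (Nat.card Q : ℂ) * N := by
    rw [← hN]
    unfold classInner
    have hQ0 : (Nat.card Q : ℂ) ≠ 0 := by
      have : Nat.card Q ≠ 0 := Nat.card_pos.ne'
      exact_mod_cast this
    rw [← mul_assoc, mul_inv_cancel₀ hQ0, one_mul]
  have h1 : ∑ e : E, pRegPart p χ (e : G) * conj ((μ : E → ℂ) e) =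
      (Nat.card Q : ℂ) * N := by
    rw [← hsumQ, sum_eq_sum_subgroup Q (fun e : E => pRegPart p χ (e : G) * conj ((μ : E → ℂ) e))]
    · refine Finset.sum_congr rfl fun y _ => ?_
      have hy : ¬ p ∣ orderOf ((y : E) : G) := by
        rw [Subgroup.orderOf_coe]
        exact (ha y).mp y.2
      unfold pRegPart
      rw [if_neg hy]
    · intro e he
      have he' : p ∣ orderOf (e : G) := by
        rw [Subgroup.orderOf_coe]
        by_contra h
        exact he ((ha e).mpr h)
      unfold pRegPart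
      rw [if_pos he', zero_mul]
  have hEQ : Nat.card E = Nat.card Q * p ^ j := by
    rw [← hb]
    exact (Subgroup.card_mul_index Q).symm
  -- `p` does not divide the order of `Q`
  have hpQ : ¬ p ∣ Nat.card Q := by
    intro h
    rw [Nat.card_eq_fintype_card] at h
    obtain ⟨y, hy⟩ := exists_prime_orderOf_dvd_card p h
    have h2 := (ha (y : E)).mp y.2
    rw [Subgroup.orderOf_coe, hy] at h2
    exact h2 (dvd_refl p)
  -- integrality
  have hpj0 : ((p : ℂ) ^ j) ≠ 0 := pow_ne_zero _ (by exact_mod_cast hp.ne_zero)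
  have hpn0 : ((p : ℂ) ^ n) ≠ 0 := pow_ne_zero _ (by exact_mod_cast hp.ne_zero)
  have hd'0 : (d' : ℂ) ≠ 0 := by
    intro h
    obtain ⟨k, hk, hk1⟩ := irr_one_eq hχ
    rw [hdeg] at hk1
    have : (p ^ n * d' : ℕ) = k := by exact_mod_cast hk1
    have h3 : d' = 0 := by exact_mod_cast h
    rw [h3, mul_zero] at this
    omega
  have hint : ∀ y : Q, IsIntegral ℤ ((m : ℂ) * χ ((y : E) : G) / (p : ℂ) ^ j) := by
    intro y
    obtain ⟨c', hc'⟩ := hc y y.2
    have hidx := Subgroup.card_mul_index (Subgroup.centralizer ({((y : E) : G)} : Set G))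
    rw [hcard, hc'] at hidx
    have hidxC : (p : ℂ) ^ j * c' *
        ((Subgroup.centralizer ({((y : E) : G)} : Set G)).index : ℂ) = (p : ℂ) ^ n * m := by
      exact_mod_cast hidx
    have h2 : (m : ℂ) * χ ((y : E) : G) / (p : ℂ) ^ j =
        ((d' * c' : ℕ) : ℂ) * centralChar χ ((y : E) : G) := by
      unfold centralChar
      rw [hdeg, div_eq_iff hpj0]
      push_cast
      have h3 : (d' : ℂ) * c' * (((Subgroup.centralizer ({((y : E) : G)} : Set G)).index : ℂ) *
          χ ((y : E) : G) / ((p : ℂ) ^ n * d')) * (p : ℂ) ^ j =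
          ((p : ℂ) ^ j * c' * ((Subgroup.centralizer ({((y : E) : G)} : Set G)).index : ℂ)) *
            χ ((y : E) : G) / (p : ℂ) ^ n := by
        field_simp
      rw [h3, hidxC]
      field_simp
    rw [h2]
    exact IsIntegral.mul (isIntegral_natCast _) (isIntegral_centralChar hχ _)
  have hS : IsIntegral ℤ (∑ y : Q, ((m : ℂ) * χ ((y : E) : G) / (p : ℂ) ^ j) *
      conj ((μ : E → ℂ) (y : E))) := by
    refine IsIntegral.sum _ fun y _ => IsIntegral.mul (hint y) ?_
    have := isIntegral_of_isCharacter hμc ((y : E))⁻¹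
    rwa [irr_inv hμc] at this
  have hSval : (∑ y : Q, ((m : ℂ) * χ ((y : E) : G) / (p : ℂ) ^ j) *
      conj ((μ : E → ℂ) (y : E))) = ((m * Nat.card Q * N : ℕ) : ℂ) / (p : ℂ) ^ j := by
    have : ∀ y : Q, ((m : ℂ) * χ ((y : E) : G) / (p : ℂ) ^ j) * conj ((μ : E → ℂ) (y : E)) =
        ((m : ℂ) / (p : ℂ) ^ j) * (χ ((y : E) : G) * conj ((μ : E → ℂ) (y : E))) := by
      intro y
      ring
    simp only [this]
    rw [← Finset.mul_sum, hsumQ]
    push_cast
    ring
  rw [hSval] at hS
  have hdiv : p ^ j ∣ N := by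
    have h2 : ((m * Nat.card Q * N : ℕ) : ℂ) / (p : ℂ) ^ j =
        algebraMap ℚ ℂ (((m * Nat.card Q * N : ℕ) : ℚ) / ((p ^ j : ℕ) : ℚ)) := by
      simp
    rw [h2, isIntegral_algebraMap_iff (algebraMap ℚ ℂ).injective] at hS
    obtain ⟨k, hk⟩ := IsIntegrallyClosed.isIntegral_iff.mp hS
    have hpjq : ((p ^ j : ℕ) : ℚ) ≠ 0 := by
      have : p ^ j ≠ 0 := pow_ne_zero _ hp.ne_zero
      exact_mod_cast this
    have h3 : (k : ℚ) * ((p ^ j : ℕ) : ℚ) = ((m * Nat.card Q * N : ℕ) : ℚ) := by
      have : (algebraMap ℤ ℚ k) = (k : ℚ) := rfl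
      rw [this] at hk
      rw [hk]
      field_simp
    have h4 : k * ((p ^ j : ℕ) : ℤ) = ((m * Nat.card Q * N : ℕ) : ℤ) := by exact_mod_cast h3
    have h5 : ((p ^ j : ℕ) : ℤ) ∣ ((m * Nat.card Q * N : ℕ) : ℤ) := ⟨k, by rw [← h4]; ring⟩
    have h6 : p ^ j ∣ m * Nat.card Q * N := by exact_mod_cast h5
    have hcop : Nat.Coprime (p ^ j) (m * Nat.card Q) := by
      apply Nat.Coprime.pow_left
      apply Nat.Coprime.mul_right
      · exact (Nat.Prime.coprime_iff_not_dvd hp).mpr hpm
      · exact (Nat.Prime.coprime_iff_not_dvd hp).mpr hpQ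
    exact hcop.dvd_of_dvd_mul_left h6
  obtain ⟨N', hN'⟩ := hdiv
  refine ⟨(N' : ℤ), ?_⟩
  unfold classInner
  rw [h1, hEQ, hN']
  have hQ0 : (Nat.card Q : ℂ) ≠ 0 := by
    have : Nat.card Q ≠ 0 := Nat.card_pos.ne'
    exact_mod_cast this
  push_cast
  field_simp

/-- The `p`-regular elements of a `p`-elementary subgroup. -/
theorem exists_Q_same {p : ℕ} (hp : p.Prime) (E : Subgroup G) (hE : IsElementary p E) :
    ∃ (Q : Subgroup E) (j : ℕ), (∀ e : E, e ∈ Q ↔ ¬ p ∣ orderOf e) ∧ Q.index = p ^ j ∧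
      ∀ y ∈ Q, p ^ j ∣ Nat.card (Subgroup.centralizer ({((y : E) : G)} : Set G)) := by
  classical
  obtain ⟨x, hxc, hxp, k, hk⟩ := hE
  have hCcen : Subgroup.zpowers x ≤ Subgroup.center E := by
    rw [Subgroup.zpowers_le]
    exact hxc
  haveI : (Subgroup.zpowers x).Normal := normal_of_le_center hCcen
  refine ⟨Subgroup.zpowers x, k, ?_, hk, ?_⟩
  · intro e
    constructor
    · intro he hpe
      have h1 : p ∣ orderOf x := dvd_trans hpe (orderOf_dvd_of_mem_zpowers he)
      have h2 : p ∣ Nat.gcd (orderOf x) p := Nat.dvd_gcd h1 (dvd_refl p)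
      rw [hxp] at h2
      exact hp.one_lt.ne' (Nat.dvd_one.mp h2)
    · intro hpe
      have h1 := Subgroup.pow_index_mem (Subgroup.zpowers x) e
      rw [hk] at h1
      have h2 : Nat.Coprime (p ^ k) (orderOf e) :=
        Nat.Coprime.pow_left k ((Nat.Prime.coprime_iff_not_dvd hp).mpr hpe)
      obtain ⟨t, ht⟩ := exists_pow_eq_self_of_coprime h2
      rw [← ht]
      exact Subgroup.pow_mem _ h1 t
  · intro y hy
    have h1 : E ≤ Subgroup.centralizer ({((y : E) : G)} : Set G) := by
      intro g hg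
      rw [Subgroup.mem_centralizer_iff]
      intro h hh
      rw [Set.mem_singleton_iff] at hh
      rw [hh]
      have := Subgroup.mem_center_iff.mp (hCcen hy) ⟨g, hg⟩
      exact (congrArg Subtype.val this).symm
    have h2 : Nat.card E ∣ Nat.card (Subgroup.centralizer ({((y : E) : G)} : Set G)) :=
      Subgroup.card_dvd_of_le h1
    have h3 : p ^ k ∣ Nat.card E := by
      rw [← hk]
      exact Subgroup.index_dvd_card _
    exact dvd_trans h3 h2

/-- The `p`-regular elements of a `q`-elementary subgroup, `q ≠ p`. -/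
theorem exists_Q_ne {p q : ℕ} (hp : p.Prime) (hq : q.Prime) (hpq : p ≠ q) (E : Subgroup G)
    (hE : IsElementary q E) :
    ∃ (Q : Subgroup E) (j : ℕ), (∀ e : E, e ∈ Q ↔ ¬ p ∣ orderOf e) ∧ Q.index = p ^ j ∧
      ∀ y ∈ Q, p ^ j ∣ Nat.card (Subgroup.centralizer ({((y : E) : G)} : Set G)) := by
  classical
  haveI : Fact p.Prime := ⟨hp⟩
  obtain ⟨x, hxc, hxp, k, hk⟩ := hE
  have hCcen : Subgroup.zpowers x ≤ Subgroup.center E := by
    rw [Subgroup.zpowers_le]
    exact hxc
  have hidx1 : (Subgroup.center E).index ∣ q ^ k := by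
    rw [← hk]
    exact Subgroup.index_dvd_of_le hCcen
  obtain ⟨i, -, hi⟩ := (Nat.dvd_prime_pow hq).mp hidx1
  have hcopidx : Nat.Coprime (Subgroup.center E).index p := by
    rw [hi]
    apply Nat.Coprime.pow_left
    exact (Nat.coprime_primes hq hp).mpr (Ne.symm hpq)
  obtain ⟨j, L, hpL, hEL⟩ := Nat.exists_eq_pow_mul_and_not_dvd
    (Nat.card_pos (α := E)).ne' p hp.ne_one
  have hidxL : (Subgroup.center E).index ∣ L := by
    have h1 : (Subgroup.center E).index ∣ p ^ j * L := by
      rw [← hEL]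
      exact Subgroup.index_dvd_card _
    exact (Nat.Coprime.pow_right j hcopidx).dvd_of_dvd_mul_left h1
  obtain ⟨M, hM⟩ := hidxL
  let ψ : E →* Subgroup.center E :=
    { toFun := fun e => (MonoidHom.transferCenterPow E e) ^ M
      map_one' := by rw [map_one, one_pow]
      map_mul' := fun a b => by
        rw [map_mul]
        apply Subtype.ext
        rw [Subgroup.coe_pow, Subgroup.coe_mul, Subgroup.coe_mul, Subgroup.coe_pow,
          Subgroup.coe_pow]
        have hcomm : Commute ((MonoidHom.transferCenterPow E a : Subgroup.center E) : E)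
            ((MonoidHom.transferCenterPow E b : Subgroup.center E) : E) := by
          have := Subgroup.mem_center_iff.mp (MonoidHom.transferCenterPow E b).2
            ((MonoidHom.transferCenterPow E a : Subgroup.center E) : E)
          exact this
        exact hcomm.mul_pow M }
  have hψ : ∀ e : E, ((ψ e : Subgroup.center E) : E) = e ^ L := by
    intro e
    show ((MonoidHom.transferCenterPow E e) ^ M : Subgroup.center E).1 = e ^ L
    rw [Subgroup.coe_pow, MonoidHom.transferCenterPow_apply, ← pow_mul, ← hM]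
  have hpowE : ∀ e : E, e ^ (p ^ j * L) = 1 := by
    intro e
    rw [← hEL]
    exact pow_card_eq_one'
  obtain ⟨j', hj'⟩ : ∃ j' : ℕ, Nat.card ψ.range = p ^ j' := by
    apply IsPGroup.iff_card.mp
    intro z
    refine ⟨j, ?_⟩
    obtain ⟨e, he⟩ := z.2
    apply Subtype.ext
    apply Subtype.ext
    rw [Subgroup.coe_pow, Subgroup.coe_pow, ← he, hψ, ← pow_mul, mul_comm L]
    exact hpowE e
  refine ⟨ψ.ker, j', ?_, ?_, ?_⟩
  · intro e
    rw [MonoidHom.mem_ker]
    have h1 : ψ e = 1 ↔ e ^ L = 1 := by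
      rw [← hψ]
      constructor
      · intro h
        rw [h]
        rfl
      · intro h
        exact Subtype.ext h
    rw [h1, ← orderOf_dvd_iff_pow_eq_one]
    constructor
    · intro h hpe
      exact hpL (dvd_trans hpe h)
    · intro hpe
      have h2 : orderOf e ∣ p ^ j * L := orderOf_dvd_of_pow_eq_one (hpowE e)
      have h3 : Nat.Coprime (orderOf e) (p ^ j) :=
        (Nat.Coprime.pow_left j ((Nat.Prime.coprime_iff_not_dvd hp).mpr hpe)).symm
      exact h3.dvd_of_dvd_mul_left h2
  · rw [Subgroup.index_ker, hj']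
  · intro y _
    have h1 : (ψ.range.map (Subgroup.center E).subtype).map E.subtype ≤
        Subgroup.centralizer ({((y : E) : G)} : Set G) := by
      rintro w ⟨w', ⟨z, -, rfl⟩, rfl⟩
      rw [Subgroup.mem_centralizer_iff]
      intro h hh
      rw [Set.mem_singleton_iff] at hh
      rw [hh]
      have := Subgroup.mem_center_iff.mp z.2 (y : E)
      exact congrArg Subtype.val this
    have h2 := Subgroup.card_dvd_of_le h1
    rw [Subgroup.card_map_of_injective E.subtype_injective,
      Subgroup.card_map_of_injective (Subgroup.subtype_injective _), hj'] at h2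
    exact h2

end

theorem result {G : Type*} [Group G] [Finite G] {V : Type*} [AddCommGroup V] [Module ℂ V] [FiniteDimensional ℂ V] (ρ : Representation ℂ G V) [ρ.IsIrreducible] (p n : ℕ) (hp : p.Prime) (hn : p ^ n ∣ Nat.card G) (hn' : ¬ p ^ (n + 1) ∣ Nat.card G) (hdeg : p ^ n ∣ Module.finrank ℂ V) (x : G) (hx : p ∣ orderOf x) : ρ.character x = 0 := by
  classical
  haveI : Fintype G := Fintype.ofFinite G
  have hχ : IsIrrCharacter G ρ.character := isIrrCharacter_of_rep ρ inferInstance
  obtain ⟨m, hm⟩ := hn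
  have hpm : ¬ p ∣ m := by
    rintro ⟨m', rfl⟩
    apply hn'
    rw [hm, pow_succ]
    exact ⟨m', by ring⟩
  obtain ⟨d', hd'⟩ := hdeg
  have hdeg' : ρ.character 1 = ((p ^ n * d' : ℕ) : ℂ) := by
    rw [Representation.char_one, hd']
  have hθ : IsGeneralizedCharacter G (pRegPart p ρ.character) := by
    apply Cfsg.Agent.S0164.result _
      (isClassFunction_pRegPart p (isClassFunction_of_isIrrCharacter hχ))
    intro E q hq hE
    by_cases hpq : p = q
    · subst hpq
      obtain ⟨Q, j, ha, hb, hc⟩ := exists_Q_same hp E hE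
      exact isGenChar_pRegPart_restrict hp hm hpm hχ hdeg' E Q j ha hb hc
    · obtain ⟨Q, j, ha, hb, hc⟩ := exists_Q_ne hp hq hpq E hE
      exact isGenChar_pRegPart_restrict hp hm hpm hχ hdeg' E Q j ha hb hc
  obtain ⟨z, hz⟩ := Cfsg.Agent.Helper8.genChar_inner_genChar_int hθ hθ
  -- the norms
  have hcard0 : (0 : ℝ) < (Nat.card G : ℝ) := by exact_mod_cast Nat.card_pos
  have hnorm : ∀ f : G → ℂ, classInner f f =
      (((Nat.card G : ℝ)⁻¹ * ∑ g : G, Complex.normSq (f g) : ℝ) : ℂ) := by
    intro f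
    unfold classInner
    push_cast
    congr 1
    refine Finset.sum_congr rfl fun g _ => ?_
    rw [Complex.mul_conj]
  have hB : (Nat.card G : ℝ)⁻¹ * ∑ g : G, Complex.normSq (ρ.character g) = 1 := by
    have h1 := irr_orthogonality hχ hχ
    rw [if_pos rfl, hnorm] at h1
    exact_mod_cast h1
  have hA : (Nat.card G : ℝ)⁻¹ * ∑ g : G, Complex.normSq (pRegPart p ρ.character g) = z := by
    rw [hnorm] at hz
    exact_mod_cast hz
  have hle : ∀ g ∈ (Finset.univ : Finset G),
      Complex.normSq (pRegPart p ρ.character g) ≤ Complex.normSq (ρ.character g) := by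
    intro g _
    unfold pRegPart
    split_ifs
    · rw [map_zero]
      exact Complex.normSq_nonneg _
    · exact le_refl _
  have hsumle := Finset.sum_le_sum hle
  have h1pos : 0 < Complex.normSq (pRegPart p ρ.character 1) := by
    unfold pRegPart
    rw [orderOf_one, if_neg (fun h => hp.one_lt.ne' (Nat.dvd_one.mp h))]
    rw [Complex.normSq_pos]
    obtain ⟨k, hk, hk1⟩ := irr_one_eq hχ
    rw [hk1]
    exact_mod_cast hk.ne'
  have hApos : 0 < ∑ g : G, Complex.normSq (pRegPart p ρ.character g) :=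
    lt_of_lt_of_le h1pos (Finset.single_le_sum (fun g _ => Complex.normSq_nonneg _)
      (Finset.mem_univ (1 : G)))
  have hz1 : z = 1 := by
    have hzpos : (0 : ℝ) < z := by
      rw [← hA]
      exact mul_pos (inv_pos.mpr hcard0) hApos
    have hzle : (z : ℝ) ≤ 1 := by
      rw [← hA, ← hB]
      exact mul_le_mul_of_nonneg_left hsumle (inv_pos.mpr hcard0).le
    have h1 : 0 < z := by exact_mod_cast hzpos
    have h2 : z ≤ 1 := by exact_mod_cast hzle
    omega
  have hsumeq : ∑ g : G, Complex.normSq (pRegPart p ρ.character g) =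
      ∑ g : G, Complex.normSq (ρ.character g) := by
    rw [hz1] at hA
    have h3 : (Nat.card G : ℝ)⁻¹ * ∑ g : G, Complex.normSq (pRegPart p ρ.character g) =
        (Nat.card G : ℝ)⁻¹ * ∑ g : G, Complex.normSq (ρ.character g) := by
      rw [hA, hB]
      norm_num
    exact mul_left_cancel₀ (inv_pos.mpr hcard0).ne' h3
  have hterm := (Finset.sum_eq_sum_iff_of_le hle).mp hsumeq x (Finset.mem_univ x)
  unfold pRegPart at hterm
  rw [if_pos hx, map_zero] at hterm
  exact Complex.normSq_eq_zero.mp hterm.symm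

end Cfsg.Agent.S0165
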