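import Mathlib
import Cfsg.Statements.S0961
import Cfsg.Agent.S0165

set_option autoImplicit false
open Cfsg

namespace Cfsg.Agent.S0961

open Cfsg.Agent.Helper24 Cfsg.Agent.Helper18
open scoped ComplexConjugate

universe u

section

variable {G : Type u} [Group G] [Fintype G]

/-- The restriction to a subgroup `E` whose `p`-regular elements form a subgroup `Q` of index
`p ^ j`. -/
theorem isGenChar_restrict {p a : ℕ} (hp : p.Prime) (ha' : p ^ a ∣ Nat.card G)
    (ha'' : ∀ k, p ^ k ∣ Nat.card G → k ≤ a)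
    {χ : G → ℂ} (hχ : IsIrrCharacter G χ)
    (E : Subgroup G) (Q : Subgroup E) (j : ℕ)
    (ha : ∀ e : E, e ∈ Q ↔ ¬ p ∣ orderOf e)
    (hb : Q.index = p ^ j) :
    IsGeneralizedCharacter E
      (fun e : E => if p ∣ orderOf (e : G) then 0 else ((p ^ a : ℕ) : ℂ) * χ e) := by
  classical
  haveI : Fintype E := Fintype.ofFinite E
  haveI : Fintype Q := Fintype.ofFinite Q
  letI : Fintype (IrrCharacter E) := irrFintype
  letI : Fintype (IrrCharacter Q) := irrFintype
  have hχc := isCharacter_of_isIrrCharacter hχ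
  have hχcf := isClassFunction_of_isIrrCharacter hχ
  have hcf : IsClassFunction E
      (fun e : E => if p ∣ orderOf (e : G) then 0 else ((p ^ a : ℕ) : ℂ) * χ e) := by
    intro g h
    have h1 : orderOf (((h * g * h⁻¹ : E)) : G) = orderOf (g : G) := by
      have := (MulAut.conj (h : G)).orderOf_eq (g : G)
      rw [MulAut.conj_apply] at this
      simpa using this
    simp only [h1]
    have h2 : χ ((h * g * h⁻¹ : E) : G) = χ (g : G) := by
      have := hχcf (g : G) (h : G)
      simpa using this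
    rw [h2]
  apply isGenChar_of_int_inner hcf
  intro μ
  have hμc := isCharacter_of_isIrrCharacter μ.2
  obtain ⟨N, hN⟩ := classInner_char_nat
    (isCharacter_restrict Q (isCharacter_restrict E hχc)) (isCharacter_restrict Q hμc)
  have hQ0 : (Nat.card Q : ℂ) ≠ 0 := by
    have : Nat.card Q ≠ 0 := Nat.card_pos.ne'
    exact_mod_cast this
  have hsumQ : ∑ y : Q, χ ((y : E) : G) * conj ((μ : E → ℂ) (y : E)) =
      (Nat.card Q : ℂ) * N := by
    rw [← hN]
    unfold classInner
    rw [← mul_assoc, mul_inv_cancel₀ hQ0, one_mul]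
  have h1 : ∑ e : E, (if p ∣ orderOf (e : G) then 0 else ((p ^ a : ℕ) : ℂ) * χ e) *
      conj ((μ : E → ℂ) e) = ((p ^ a : ℕ) : ℂ) * ((Nat.card Q : ℂ) * N) := by
    rw [← hsumQ, sum_eq_sum_subgroup Q (fun e : E =>
      (if p ∣ orderOf (e : G) then 0 else ((p ^ a : ℕ) : ℂ) * χ e) * conj ((μ : E → ℂ) e)),
      Finset.mul_sum]
    · refine Finset.sum_congr rfl fun y _ => ?_
      have hy : ¬ p ∣ orderOf ((y : E) : G) := by
        rw [Subgroup.orderOf_coe]
        exact (ha y).mp y.2
      rw [if_neg hy]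
      ring
    · intro e he
      have he' : p ∣ orderOf (e : G) := by
        rw [Subgroup.orderOf_coe]
        by_contra h
        exact he ((ha e).mpr h)
      rw [if_pos he', zero_mul]
  have hEQ : Nat.card E = Nat.card Q * p ^ j := by
    rw [← hb]
    exact (Subgroup.card_mul_index Q).symm
  have hja : j ≤ a := by
    apply ha''
    have h2 : p ^ j ∣ Nat.card E := by
      rw [hEQ]
      exact dvd_mul_left _ _
    exact dvd_trans h2 (Subgroup.card_subgroup_dvd_card E)
  refine ⟨((p ^ (a - j) * N : ℕ) : ℤ), ?_⟩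
  unfold classInner
  rw [h1, hEQ]
  have hpj0 : ((p : ℂ) ^ j) ≠ 0 := pow_ne_zero _ (by exact_mod_cast hp.ne_zero)
  have hpa : (p : ℂ) ^ a = (p : ℂ) ^ (a - j) * (p : ℂ) ^ j := by
    rw [← pow_add, Nat.sub_add_cancel hja]
  push_cast
  rw [hpa]
  field_simp

end

theorem result {G : Type*} [Group G] [Finite G] (p : ℕ) [Fact p.Prime] (χ : Cfsg.IrrCharacter G) : Cfsg.IsGeneralizedCharacter G (fun x : G => if p ∣ orderOf x then 0 else ((p ^ (Nat.card G).factorization p : ℕ) : ℂ) * (χ : G → ℂ) x) := by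
  classical
  haveI : Fintype G := Fintype.ofFinite G
  have hp : p.Prime := Fact.out
  have hG0 : Nat.card G ≠ 0 := Nat.card_pos.ne'
  have ha' : p ^ (Nat.card G).factorization p ∣ Nat.card G := Nat.ordProj_dvd _ _
  have ha'' : ∀ k, p ^ k ∣ Nat.card G → k ≤ (Nat.card G).factorization p := fun k hk =>
    (hp.pow_dvd_iff_le_factorization hG0).mp hk
  have hχcf := isClassFunction_of_isIrrCharacter χ.2
  apply Cfsg.Agent.S0164.result
  · intro g h
    have h1 : orderOf (h * g * h⁻¹) = orderOf g := by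
      have := (MulAut.conj h).orderOf_eq g
      rwa [MulAut.conj_apply] at this
    simp only [h1, hχcf g h]
  · intro E q hq hE
    by_cases hpq : p = q
    · subst hpq
      obtain ⟨Q, j, ha, hb, -⟩ := Cfsg.Agent.S0165.exists_Q_same hp E hE
      exact isGenChar_restrict hp ha' ha'' χ.2 E Q j ha hb
    · obtain ⟨Q, j, ha, hb, -⟩ := Cfsg.Agent.S0165.exists_Q_ne hp hq hpq E hE
      exact isGenChar_restrict hp ha' ha'' χ.2 E Q j ha hb

end Cfsg.Agent.S0961
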