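import Mathlib
import Cfsg.Statements.S4425
import Cfsg.Agent.Lib.Helper23.BlockGenChar
import Cfsg.Agent.S0961

set_option autoImplicit false
open Cfsg Cfsg.Agent.Helper23.Blk Cfsg.Agent.Helper24

namespace Cfsg.Agent.S4425

/-- Let χ be an irreducible character of the finite group G, p a prime, p^a the p-part of the order of G and p^b the p-part of the degree χ(1). Let χ̃ be the class function equal to p^a · χ on p-regular elements and zero on p-singular elements. Then p^(−b) · χ̃ is a generalized character of G, while p^(−(b+1)) · χ̃ is not. -/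
theorem result {G : Type*} [Group G] [Finite G] (p : ℕ) [Fact p.Prime] (χ : Cfsg.IrrCharacter G) : Cfsg.IsGeneralizedCharacter G (fun x : G => if p ∣ orderOf x then (0 : ℂ) else ((p ^ ((Nat.card G).factorization p - (Cfsg.charDegree (χ : G → ℂ)).factorization p) : ℕ) : ℂ) * (χ : G → ℂ) x) ∧ ¬ Cfsg.IsGeneralizedCharacter G (fun x : G => if p ∣ orderOf x then (0 : ℂ) else ((p ^ (Nat.card G).factorization p : ℕ) : ℂ) / ((p ^ ((Cfsg.charDegree (χ : G → ℂ)).factorization p + 1) : ℕ) : ℂ) * (χ : G → ℂ) x) := by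
  classical
  haveI : Fintype G := Fintype.ofFinite G
  letI : Fintype (IrrCharacter G) := irrFintype
  have hp : p.Prime := Fact.out
  set a := (Nat.card G).factorization p with ha
  set b := (charDegree (χ : G → ℂ)).factorization p with hb
  have hG0 : Nat.card G ≠ 0 := (Nat.card_pos (α := G)).ne'
  have hd0 : charDegree (χ : G → ℂ) ≠ 0 := by
    intro h0
    have := irr_one_ne_zero χ.2
    rw [irr_one_eq_charDegree χ.2, h0] at this
    exact this (by simp)
  have hba : b ≤ a := by
    have h1 : p ^ b ∣ Nat.card G := (Nat.ordProj_dvd _ _).trans (charDegree_dvd_card χ.2)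
    exact (hp.pow_dvd_iff_le_factorization hG0).1 h1
  have hpc : (p : ℂ) ≠ 0 := by exact_mod_cast hp.ne_zero
  constructor
  · -- the positive part
    have hform : ∀ k : ℕ, (fun x : G => if p ∣ orderOf x then (0 : ℂ) else
        ((p ^ k : ℕ) : ℂ) * (χ : G → ℂ) x) = ((p ^ k : ℕ) : ℂ) • pRegularPart p (χ : G → ℂ) := by
      intro k
      funext x
      rw [Pi.smul_apply, pRegularPart_apply, smul_eq_mul]
      by_cases hx : p ∣ orderOf x
      · simp only [if_pos hx, mul_zero]
      · simp only [if_neg hx]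
    have hgc : IsGeneralizedCharacter G (((p ^ a : ℕ) : ℂ) • pRegularPart p (χ : G → ℂ)) := by
      rw [← hform a]
      exact Cfsg.Agent.S0961.result p χ
    rw [hform (a - b)]
    apply Cfsg.Agent.Helper18.isGenChar_of_int_inner
    · intro g h
      rw [Pi.smul_apply, Pi.smul_apply,
        isClassFunction_pRegularPart p (isClassFunction_of_isIrrCharacter χ.2) g h]
    · intro ξ
      obtain ⟨n, hn⟩ := Cfsg.Agent.Helper8.genChar_inner_int hgc ξ
      obtain ⟨k, hk⟩ := pow_dvd_of_classInner_eq hp χ.2 ξ.2 hn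
      refine ⟨k, ?_⟩
      rw [classInner_smul_left] at hn ⊢
      have h1 : ((p ^ a : ℕ) : ℂ) = ((p ^ b : ℕ) : ℂ) * ((p ^ (a - b) : ℕ) : ℂ) := by
        push_cast
        rw [← pow_add, Nat.add_sub_cancel' hba]
      rw [h1, hk, mul_assoc] at hn
      have h2 : ((p ^ b : ℕ) : ℂ) ≠ 0 := by
        push_cast
        exact pow_ne_zero _ hpc
      have h3 : (((((p ^ b : ℕ) : ℤ) * k : ℤ)) : ℂ) = ((p ^ b : ℕ) : ℂ) * (k : ℂ) := by
        push_cast
        ring
      rw [h3] at hn
      exact mul_left_cancel₀ h2 hn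
  · -- the negative part
    intro hgc
    obtain ⟨P⟩ : Nonempty (Sylow p G) := inferInstance
    haveI : Fintype (P : Subgroup G) := Fintype.ofFinite _
    letI : Fintype (IrrCharacter (P : Subgroup G)) := irrFintype
    have hres := Cfsg.Agent.Helper18.isGenChar_restrict (P : Subgroup G) hgc
    obtain ⟨z, hz⟩ := Cfsg.Agent.Helper8.genChar_inner_int hres (principalChar (P : Subgroup G))
    have hcardP : Nat.card (P : Subgroup G) = p ^ a := P.card_eq_multiplicity
    unfold classInner at hz
    rw [Finset.sum_eq_single (1 : (P : Subgroup G))] at hz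
    · simp only [principalChar, map_one, mul_one, OneMemClass.coe_one, orderOf_one] at hz
      rw [if_neg (fun h => hp.one_lt.ne' (Nat.dvd_one.1 h)), hcardP,
        irr_one_eq_charDegree χ.2] at hz
      have hpa0 : ((p ^ a : ℕ) : ℂ) ≠ 0 := by
        push_cast
        exact pow_ne_zero _ hpc
      have hpb0 : ((p ^ (b + 1) : ℕ) : ℂ) ≠ 0 := by
        push_cast
        exact pow_ne_zero _ hpc
      have h1 : ((charDegree (χ : G → ℂ) : ℤ) : ℂ) = ((z * ((p ^ (b + 1) : ℕ) : ℤ) : ℤ) : ℂ) := by
        push_cast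
        push_cast at hz hpa0 hpb0
        rw [← hz]
        field_simp
      have h2 : (charDegree (χ : G → ℂ) : ℤ) = z * ((p ^ (b + 1) : ℕ) : ℤ) := by
        exact_mod_cast h1
      have h3 : ((p ^ (b + 1) : ℕ) : ℤ) ∣ (charDegree (χ : G → ℂ) : ℤ) := ⟨z, by rw [h2]; ring⟩
      have h4 : p ^ (b + 1) ∣ charDegree (χ : G → ℂ) := by exact_mod_cast h3
      have := (hp.pow_dvd_iff_le_factorization hd0).1 h4
      omega
    · intro x _ hx
      have hx' : p ∣ orderOf ((x : (P : Subgroup G)) : G) := by
        rw [Subgroup.orderOf_coe]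
        exact IsPGroup.dvd_orderOf (P.2 : IsPGroup p (P : Subgroup G)) hx
      simp only [if_pos hx', zero_mul]
    · intro h
      exact absurd (Finset.mem_univ _) h

end Cfsg.Agent.S4425
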