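import Mathlib
import Cfsg.Statements.S0939
import Cfsg.Agent.Lib.Helper18.BlockOver
import Cfsg.Agent.Lib.Helper18.BlockPGroup
import Cfsg.Agent.Lib.Helper22.PPrimeCore
import Cfsg.Agent.Lib.Helper24.CharHom

set_option autoImplicit false
open Cfsg

namespace Cfsg.Agent.S0939

open Cfsg.Agent.Helper24 Cfsg.Agent.Helper18 Cfsg.Agent.Helper23.Blk

theorem result {G : Type*} [Group G] [Finite G] (p : ℕ) [Fact p.Prime] (M : Ideal Cfsg.AlgInt) (hM : Cfsg.IsPModular p M) (hnc : ∃ k : ℕ, (Cfsg.pPrimeCore p G).index = p ^ k) : Cfsg.principalBlock M G = {χ : Cfsg.IrrCharacter G | ∀ n ∈ Cfsg.pPrimeCore p G, (χ : G → ℂ) n = (χ : G → ℂ) 1} := by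
  classical
  haveI : Fintype G := Fintype.ofFinite G
  haveI : (pPrimeCore p G).Normal := Cfsg.Agent.Helper22.pPrimeCore_normal p
  haveI : Fintype (pPrimeCore p G) := Fintype.ofFinite _
  haveI : M.IsPrime := isPrime_of_isPModular hM
  have hpN : ¬ p ∣ Nat.card (pPrimeCore p G) :=
    Cfsg.Agent.Helper22.not_dvd_card_pPrimeCore p Fact.out
  ext χ
  constructor
  · intro hχ
    have h : SameBlock M
        (((⟨fun _ => 1, isIrrCharacter_one⟩ : IrrCharacter G)) : G → ℂ) (χ : G → ℂ) := hχ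
    have hone : IsIrrCharacter (pPrimeCore p G) (fun _ : pPrimeCore p G => (1 : ℂ)) :=
      isIrrCharacter_one
    have h1 : classInner (fun n : pPrimeCore p G =>
        (((⟨fun _ => 1, isIrrCharacter_one⟩ : IrrCharacter G)) : G → ℂ) n)
        (fun _ : pPrimeCore p G => (1 : ℂ)) ≠ 0 := by
      have := irr_orthogonality hone hone
      rw [if_pos rfl] at this
      show classInner (fun _ : pPrimeCore p G => (1 : ℂ)) (fun _ : pPrimeCore p G => (1 : ℂ)) ≠ 0
      rw [this]
      exact one_ne_zero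
    have h2 := over_of_sameBlock (pPrimeCore p G) hM hpN hone h h1
    obtain ⟨e, -, -, he⟩ := Cfsg.Agent.Helper5.restrict_eq_smul_of_invariant (pPrimeCore p G) χ.2
      hone (fun g => rfl) h2
    intro n hn
    have h3 := congrFun he ⟨n, hn⟩
    have h4 := congrFun he 1
    simp only [Pi.smul_apply, smul_eq_mul, mul_one] at h3 h4
    show (χ : G → ℂ) n = (χ : G → ℂ) 1
    rw [h3]
    exact h4.symm
  · intro hχ
    obtain ⟨χ', hχ'irr, hχ'⟩ := exists_deflate (pPrimeCore p G) χ.2 hχ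
    obtain ⟨k, hk⟩ := hnc
    haveI : Fintype (G ⧸ pPrimeCore p G) := Fintype.ofFinite _
    have hcard : Nat.card (G ⧸ pPrimeCore p G) = p ^ k := by
      rw [← hk]
      rfl
    have h1 := sameBlock_of_card_eq_pow hM hcard
      (⟨fun _ => 1, isIrrCharacter_one⟩ : IrrCharacter (G ⧸ pPrimeCore p G)) ⟨χ', hχ'irr⟩
    have h2 := sameBlock_comp_mk (pPrimeCore p G) h1
    show SameBlock M (fun _ : G => (1 : ℂ)) (χ : G → ℂ)
    rw [hχ']
    exact h2

end Cfsg.Agent.S0939
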