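import Mathlib
import Cfsg.Statements.S0947
import Cfsg.Agent.Lib.Helper23.BlockSections
import Cfsg.Agent.S0936
import Cfsg.Agent.S0939
import Cfsg.Agent.Lib.Helper24.CharQuotient
import Cfsg.Agent.Lib.Helper22.PPrimeCore

set_option autoImplicit false
open Cfsg Cfsg.Agent.Helper23.Blk Cfsg.Agent.Helper24
open scoped ComplexConjugate

namespace Cfsg.Agent.S0947

/-- the first part: the principal blocks of `G` and of the centralizer carry the same sum of
squares on the section -/
theorem part_one {G : Type*} [Group G] [Fintype G] (p : ℕ) [Fact p.Prime] (M : Ideal AlgInt)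
    (hM : IsPModular p M) (z : G) (hz : ∃ k : ℕ, orderOf z = p ^ k)
    (y : Subgroup.centralizer ({z} : Set G)) (hy : ¬ p ∣ orderOf y) :
    ∑ᶠ ζ ∈ principalBlock M G, ‖(ζ : G → ℂ) (z * (y : G))‖ ^ 2 =
      ∑ᶠ χ ∈ principalBlock M (Subgroup.centralizer ({z} : Set G)),
        ‖(χ : Subgroup.centralizer ({z} : Set G) → ℂ) y‖ ^ 2 := by
  classical
  haveI hMp : M.IsPrime := hM.2.1.isPrime
  haveI : Fintype (Subgroup.centralizer ({z} : Set G)) := Fintype.ofFinite _
  letI : Fintype (IrrCharacter G) := irrFintype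
  letI : Fintype (IrrCharacter (Subgroup.centralizer ({z} : Set G))) := irrFintype
  obtain ⟨𝔅, h𝔅⟩ := exists_finset_blocks (K := Subgroup.centralizer ({z} : Set G)) (M := M)
  have hB : IsPBlock M (principalBlock M G) := ⟨principalChar G, rfl⟩
  have hB' : IsPBlock M (principalBlock M (Subgroup.centralizer ({z} : Set G))) :=
    ⟨principalChar _, rfl⟩
  have key := section_block_orthogonality hM hz hB 𝔅 h𝔅 y y hy hy
  have hsingle : ∀ b : Set (IrrCharacter (Subgroup.centralizer ({z} : Set G))), IsPBlock M b →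
      (IsInducedBlock M (Subgroup.centralizer ({z} : Set G)) b (principalBlock M G) ↔
        b = principalBlock M (Subgroup.centralizer ({z} : Set G))) := by
    intro b hb
    exact Cfsg.Agent.S0936.result p M hM _ b (exists_isInducedBlock_centralizer hM hz hb)
  rw [Finset.sum_eq_single_of_mem (principalBlock M (Subgroup.centralizer ({z} : Set G)))] at key
  · rw [finsum_mem_def, finsum_eq_sum_of_fintype, finsum_mem_def, finsum_eq_sum_of_fintype]
    apply Complex.ofReal_injective
    rw [Complex.ofReal_sum, Complex.ofReal_sum]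
    refine Eq.trans ?_ (key.trans ?_)
    · apply Finset.sum_congr rfl
      intro ζ _
      by_cases hζ : ζ ∈ principalBlock M G
      · rw [Set.indicator_of_mem hζ, Set.indicator_of_mem hζ, Complex.mul_conj']
        push_cast
        rfl
      · rw [Set.indicator_of_notMem hζ, Set.indicator_of_notMem hζ, Complex.ofReal_zero]
    · apply Finset.sum_congr rfl
      intro χ _
      by_cases hχ : χ ∈ principalBlock M (Subgroup.centralizer ({z} : Set G))
      · rw [Set.indicator_of_mem hχ, Set.indicator_of_mem hχ, Complex.mul_conj']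
        push_cast
        rfl
      · rw [Set.indicator_of_notMem hχ, Set.indicator_of_notMem hχ, Complex.ofReal_zero]
  · rw [Finset.mem_filter]
    exact ⟨(h𝔅 _).2 hB', (hsingle _ hB').2 rfl⟩
  · intro b hb hne
    rw [Finset.mem_filter] at hb
    exact absurd ((hsingle b ((h𝔅 b).1 hb.1)).1 hb.2) hne

/-- the sum of squares over the principal block of a `p`-nilpotent group at a `p`-regular
element -/
theorem part_two {K : Type*} [Group K] [Finite K] (p : ℕ) [Fact p.Prime] (M : Ideal AlgInt)
    (hM : IsPModular p M) (hnc : ∃ k : ℕ, (pPrimeCore p K).index = p ^ k) (y : K)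
    (hy : ¬ p ∣ orderOf y) :
    ∑ᶠ χ ∈ principalBlock M K, ‖(χ : K → ℂ) y‖ ^ 2 =
      ((p ^ (Nat.card K).factorization p : ℕ) : ℝ) := by
  classical
  have hp : p.Prime := Fact.out
  haveI : Fintype K := Fintype.ofFinite K
  haveI hN : (pPrimeCore p K).Normal := Cfsg.Agent.Helper22.pPrimeCore_normal p
  letI : Fintype (IrrCharacter K) := irrFintype
  obtain ⟨k, hk⟩ := id hnc
  have hpN : ¬ p ∣ Nat.card (pPrimeCore p K) :=
    Cfsg.Agent.Helper22.not_dvd_card_pPrimeCore p hp
  -- `y` lies in the core
  have hyN : y ∈ pPrimeCore p K := by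
    rw [← QuotientGroup.eq_one_iff, ← orderOf_eq_one_iff]
    have h1 : orderOf ((y : K) : K ⧸ pPrimeCore p K) ∣ orderOf y :=
      orderOf_map_dvd (QuotientGroup.mk' (pPrimeCore p K)) y
    have h2 : orderOf ((y : K) : K ⧸ pPrimeCore p K) ∣ p ^ k := by
      rw [← hk, Subgroup.index_eq_card]
      exact orderOf_dvd_natCard _
    have hcop : Nat.Coprime (orderOf y) (p ^ k) :=
      Nat.Coprime.pow_right k ((Nat.Prime.coprime_iff_not_dvd hp).2 hy).symm
    exact Nat.eq_one_of_dvd_coprimes hcop h1 h2
  -- the exponent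
  have hexp : (Nat.card K).factorization p = k := by
    have h1 := Subgroup.card_mul_index (pPrimeCore p K)
    rw [hk] at h1
    rw [← h1, Nat.factorization_mul (Nat.card_pos (α := pPrimeCore p K)).ne'
      (pow_ne_zero _ hp.ne_zero), Finsupp.add_apply,
      Nat.factorization_eq_zero_of_not_dvd hpN, hp.factorization_pow]
    simp
  rw [hexp, Cfsg.Agent.S0939.result p M hM hnc]
  have h3 := sum_charDegree_sq_of_le_ker (G := K) (pPrimeCore p K)
  rw [← Subgroup.index_eq_card, hk] at h3
  rw [← h3]
  rw [← finsum_set_coe_eq_finsum_mem, finsum_eq_sum_of_fintype]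
  push_cast
  apply Finset.sum_congr rfl
  intro χ _
  have h4 : ((χ : IrrCharacter K) : K → ℂ) y = ((χ : IrrCharacter K) : K → ℂ) 1 := χ.2 y hyN
  rw [h4, irr_one_eq_charDegree (χ : IrrCharacter K).2, Complex.norm_natCast]

/-- Let z ≠ 1 be a p-element of the finite group G with centralizer H, and fix a maximal ideal M of the algebraic integers containing p. (i) For every y ∈ H of order prime to p, the sum over ζ in the principal block of G of |ζ (z * y)|² equals the sum over χ in the principal block of H of |χ y|². (ii) If moreover H has a normal p-complement (its largest normal subgroup of order prime to p has p-power index), that common value is the largest power of p dividing the order of H. -/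
theorem result {G : Type*} [Group G] [Finite G] (p : ℕ) [Fact p.Prime] (M : Ideal Cfsg.AlgInt) (hM : Cfsg.IsPModular p M) (z : G) (hz : ∃ k : ℕ, orderOf z = p ^ k) (hz1 : z ≠ 1) (y : Subgroup.centralizer ({z} : Set G)) (hy : ¬ p ∣ orderOf y) : (∑ᶠ ζ ∈ Cfsg.principalBlock M G, ‖(ζ : G → ℂ) (z * (y : G))‖ ^ 2 = ∑ᶠ χ ∈ Cfsg.principalBlock M (Subgroup.centralizer ({z} : Set G)), ‖(χ : Subgroup.centralizer ({z} : Set G) → ℂ) y‖ ^ 2) ∧ ((∃ k : ℕ, (Cfsg.pPrimeCore p (Subgroup.centralizer ({z} : Set G))).index = p ^ k) → ∑ᶠ ζ ∈ Cfsg.principalBlock M G, ‖(ζ : G → ℂ) (z * (y : G))‖ ^ 2 = ((p ^ (Nat.card (Subgroup.centralizer ({z} : Set G))).factorization p : ℕ) : ℝ)) := by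
  classical
  haveI : Fintype G := Fintype.ofFinite G
  have h1 := part_one p M hM z hz y hy
  refine ⟨h1, ?_⟩
  intro hnc
  rw [h1]
  exact part_two p M hM hnc y hy

end Cfsg.Agent.S0947
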