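import Mathlib
import Cfsg.Statements.S0948
import Cfsg.Agent.Lib.Helper7.BSKleinBlock
import Cfsg.Agent.Lib.Helper23.ClassConst

set_option autoImplicit false
open Cfsg

namespace Cfsg.Agent.S0948

open Cfsg.Agent.Helper7 Cfsg.Agent.Helper24 Cfsg.Agent.Helper23 Cfsg.Agent.Helper23.Blk

/-- the sum of a class function over a Klein four Sylow subgroup -/
theorem klein_sum_char {G : Type*} [Group G] [Finite G] (P : Sylow 2 G)
    (hP : IsKleinFour (P : Subgroup G))
    (hone : ∀ s t : G, orderOf s = 2 → orderOf t = 2 → IsConj s t) {z : G}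
    (hz : orderOf z = 2) (χ : G → ℂ) (hcf : IsClassFunction G χ)
    [Fintype (P : Subgroup G)] :
    ∑ g : (P : Subgroup G), χ g = χ 1 + 3 * χ z := by
  classical
  have h1 : ∀ g : (P : Subgroup G), χ g = χ z + if g = 1 then (χ 1 - χ z) else 0 := by
    intro g
    by_cases hg : g = 1
    · rw [if_pos hg, hg, Subgroup.coe_one]; ring
    · rw [if_neg hg, add_zero]
      have h2 : g * g = 1 := IsKleinFour.mul_self g
      have h3 : orderOf g = 2 := orderOf_eq_prime (by rw [pow_two]; exact h2) hg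
      rw [← Subgroup.orderOf_coe] at h3
      obtain ⟨c, hc⟩ := isConj_iff.mp (hone z g hz h3)
      rw [← hc]
      exact hcf z c
  rw [Finset.sum_congr rfl (fun g _ => h1 g), Finset.sum_add_distrib, Finset.sum_const,
    Finset.sum_ite_eq' Finset.univ (1 : (P : Subgroup G)), if_pos (Finset.mem_univ _),
    Finset.card_univ, ← Nat.card_eq_fintype_card, hP.card_four]
  simp only [nsmul_eq_mul]
  push_cast
  ring

/-- Let the finite group G have a Sylow 2-subgroup P that is a Klein four-group, suppose all involutions of G are conjugate, and fix a maximal ideal M of the algebraic integers containing 2. Then the principal block consists of exactly four irreducible characters, the principal character and ζ₂, ζ₃, ζ₄, and there is a sign ε such that for every involution z: ζ₂ z = 1, ζ₃ z = ε, ζ₄ z = -1; moreover ζ₂ 1 ≡ 1, ζ₃ 1 ≡ ε, ζ₄ 1 ≡ -1 (mod 4), and 1 + ζ₂ y + ε ζ₃ y - ζ₄ y = 0 for every y of odd order. -/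
theorem result {G : Type*} [Group G] [Finite G] (M : Ideal Cfsg.AlgInt) (hM : Cfsg.IsPModular 2 M) (P : Sylow 2 G) (hP : IsKleinFour (P : Subgroup G)) (hone : ∀ s t : G, orderOf s = 2 → orderOf t = 2 → IsConj s t) : ∃ ζ₂ ζ₃ ζ₄ : Cfsg.IrrCharacter G, ∃ ε : ℤ, (ε = 1 ∨ ε = -1) ∧ (ζ₂ : G → ℂ) ≠ (fun _ => 1) ∧ (ζ₃ : G → ℂ) ≠ (fun _ => 1) ∧ ζ₂ ≠ ζ₃ ∧ ζ₂ ≠ ζ₄ ∧ ζ₃ ≠ ζ₄ ∧ Cfsg.principalBlock M G = {χ : Cfsg.IrrCharacter G | (χ : G → ℂ) = (fun _ => 1) ∨ χ = ζ₂ ∨ χ = ζ₃ ∨ χ = ζ₄} ∧ (∀ z : G, orderOf z = 2 → (ζ₂ : G → ℂ) z = 1 ∧ (ζ₃ : G → ℂ) z = (ε : ℂ) ∧ (ζ₄ : G → ℂ) z = -1) ∧ (4 : ℤ) ∣ (Cfsg.charDegree (ζ₂ : G → ℂ) : ℤ) - 1 ∧ (4 : ℤ) ∣ (Cfsg.charDegree (ζ₃ : G → ℂ) : ℤ) - ε ∧ (4 : ℤ) ∣ (Cfsg.charDegree (ζ₄ : G → ℂ) : ℤ) + 1 ∧ ∀ y : G, Odd (orderOf y) → 1 + (ζ₂ : G → ℂ) y + (ε : ℂ) * (ζ₃ : G → ℂ) y - (ζ₄ : G → ℂ) y = 0 := by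
  classical
  haveI : Fact (2 : ℕ).Prime := ⟨Nat.prime_two⟩
  haveI hMp : M.IsPrime := hM.2.1.isPrime
  haveI : Fintype G := Fintype.ofFinite G
  letI : Fintype (IrrCharacter G) := irrFintype
  haveI : Fintype (P : Subgroup G) := Fintype.ofFinite _
  -- an involution in `P`
  obtain ⟨z, hzP, hz⟩ : ∃ z ∈ (P : Subgroup G), orderOf z = 2 := by
    have hc : Nat.card (P : Subgroup G) = 4 := hP.card_four
    haveI : Nontrivial (P : Subgroup G) := by
      rw [← Finite.one_lt_card_iff_nontrivial, hc]; norm_num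
    obtain ⟨w, hw⟩ := exists_ne (1 : (P : Subgroup G))
    refine ⟨w, w.2, ?_⟩
    have h1 : w * w = 1 := IsKleinFour.mul_self w
    have h2 : orderOf w = 2 := orderOf_eq_prime (by rw [pow_two]; exact h1) hw
    rw [Subgroup.orderOf_coe]
    exact h2
  set B : Finset (IrrCharacter G) := Finset.univ.filter (· ∈ principalBlock M G) with hB
  have hBmem : ∀ χ, χ ∈ B ↔ χ ∈ principalBlock M G := by
    intro χ; simp [hB]
  -- integer values at `z`
  have hint : ∀ χ : IrrCharacter G, ∃ n : ℤ, (χ : G → ℂ) z = n := fun χ => by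
    obtain ⟨n, hn, -⟩ := Cfsg.Agent.S0944.result χ z hz
    exact ⟨n, hn⟩
  choose n hn using hint
  have h1B : principalChar G ∈ B := (hBmem _).2 principalChar_mem_principalBlock
  have hn1 : n (principalChar G) = 1 := by
    have := hn (principalChar G)
    have h : ((principalChar G : IrrCharacter G) : G → ℂ) z = 1 := rfl
    rw [h] at this
    exact_mod_cast this.symm
  have hnz : ∀ χ ∈ B, n χ ≠ 0 := by
    intro χ hχ h0
    apply klein_block_ne_zero M hM P hP hone hzP hz χ ((hBmem χ).1 hχ)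
    rw [hn χ, h0]; simp
  have hsum : ∑ χ ∈ B, (n χ) ^ 2 = 4 := by
    have := klein_block_sum_sq M hM P hP hzP hz
    have hset : principalBlock M G = ↑B := by
      ext χ; simp [hB]
    rw [hset, finsum_mem_coe_finset] at this
    have h2 : ∀ χ ∈ B, ‖(χ : G → ℂ) z‖ ^ 2 = (((n χ) ^ 2 : ℤ) : ℝ) := by
      intro χ _
      rw [hn χ, Complex.norm_intCast, sq_abs]; push_cast; ring
    rw [Finset.sum_congr rfl h2] at this
    exact_mod_cast this
  obtain ⟨hcard, hpm⟩ := card_four_of_sum_sq B n hnz hsum (principalChar G) h1B hn1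
  -- degrees
  set d : IrrCharacter G → ℤ := fun χ => (charDegree (χ : G → ℂ) : ℤ) with hd
  have hdpos : ∀ χ, 0 < d χ := fun χ => by
    simp only [hd]; exact_mod_cast charDegree_pos χ.2
  have hd1 : ∀ χ : IrrCharacter G, (χ : G → ℂ) 1 = (d χ : ℂ) := fun χ => by
    simp only [hd]; rw [irr_one_eq_charDegree χ.2]; push_cast; rfl
  -- block orthogonality
  have horth : ∀ y : G, ¬ 2 ∣ orderOf y → ∑ χ ∈ B, (n χ : ℂ) * (χ : G → ℂ) y = 0 := by
    intro y hy
    have hgx : IsPPart 2 z z :=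
      ⟨1, mul_one z, Commute.one_right z, ⟨1, by rw [hz, pow_one]⟩, by
        rw [orderOf_one]; norm_num⟩
    have hhy : IsPPart 2 y⁻¹ 1 :=
      ⟨y⁻¹, one_mul _, Commute.one_left _, ⟨0, by rw [orderOf_one, pow_zero]⟩, by
        rwa [orderOf_inv]⟩
    have hnc : ¬ IsConj z 1 := by
      intro h
      rw [isConj_one_left] at h
      rw [h, orderOf_one] at hz
      omega
    have := block_orthogonality hM hgx hhy hnc (B := principalBlock M G)
      ⟨principalChar G, rfl⟩
    rw [inv_inv] at this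
    have hset : principalBlock M G = ↑B := by
      ext χ; simp [hB]
    rw [hset, finsum_mem_coe_finset] at this
    rw [← this]
    apply Finset.sum_congr rfl
    intro χ _
    rw [hn χ]
  -- the degree equation
  have hdeg : ∑ χ ∈ B, n χ * d χ = 0 := by
    have := horth 1 (by rw [orderOf_one]; norm_num)
    have h2 : ∀ χ ∈ B, (n χ : ℂ) * (χ : G → ℂ) 1 = ((n χ * d χ : ℤ) : ℂ) := by
      intro χ _
      rw [hd1 χ]; push_cast; ring
    rw [Finset.sum_congr rfl h2] at this
    exact_mod_cast this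
  set T := B.erase (principalChar G) with hT
  have hcard3 : T.card = 3 := by
    rw [hT, Finset.card_erase_of_mem h1B, hcard]
  have hdegT : 1 + ∑ χ ∈ T, n χ * d χ = 0 := by
    rw [← Finset.add_sum_erase B _ h1B, hn1, one_mul] at hdeg
    have hd0 : d (principalChar G) = 1 := by
      have := hd1 (principalChar G)
      have h : ((principalChar G : IrrCharacter G) : G → ℂ) 1 = 1 := rfl
      rw [h] at this
      exact_mod_cast this.symm
    rw [hd0] at hdeg
    exact hdeg
  have hTB : ∀ χ ∈ T, χ ∈ B := fun χ hχ => Finset.mem_of_mem_erase hχ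
  -- a member with value `-1`
  obtain ⟨r, hrT, hr⟩ : ∃ r ∈ T, n r = -1 := by
    by_contra hcon
    push_neg at hcon
    have : 0 ≤ ∑ χ ∈ T, n χ * d χ := by
      apply Finset.sum_nonneg
      intro χ hχ
      rcases hpm χ (hTB χ hχ) with h | h
      · rw [h, one_mul]; exact (hdpos χ).le
      · exact absurd h (hcon χ hχ)
    linarith
  -- a member with value `1`
  obtain ⟨p, hpT, hp⟩ : ∃ p ∈ T, n p = 1 := by
    by_contra hcon
    push_neg at hcon
    have : ∑ χ ∈ T, n χ * d χ ≤ ∑ χ ∈ T, (-1 : ℤ) := by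
      apply Finset.sum_le_sum
      intro χ hχ
      rcases hpm χ (hTB χ hχ) with h | h
      · exact absurd h (hcon χ hχ)
      · rw [h]; have := hdpos χ; linarith
    rw [Finset.sum_const, hcard3] at this
    simp at this
    linarith
  have hpr : p ≠ r := by
    intro h; rw [h, hr] at hp; omega
  -- the third member
  have hc1 : ((T.erase p).erase r).card = 1 := by
    rw [Finset.card_erase_of_mem (Finset.mem_erase.mpr ⟨hpr.symm, hrT⟩),
      Finset.card_erase_of_mem hpT, hcard3]
  obtain ⟨q, hq⟩ := Finset.card_eq_one.mp hc1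
  have hqmem : q ∈ (T.erase p).erase r := by rw [hq]; exact Finset.mem_singleton_self q
  have hqr : q ≠ r := (Finset.mem_erase.mp hqmem).1
  have hqp : q ≠ p := (Finset.mem_erase.mp (Finset.mem_erase.mp hqmem).2).1
  have hqT : q ∈ T := (Finset.mem_erase.mp (Finset.mem_erase.mp hqmem).2).2
  have hTeq : ∀ χ, χ ∈ T ↔ χ = p ∨ χ = q ∨ χ = r := by
    intro χ
    constructor
    · intro hχ
      by_cases h1 : χ = p
      · exact Or.inl h1
      by_cases h2 : χ = r
      · exact Or.inr (Or.inr h2)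
      have : χ ∈ (T.erase p).erase r :=
        Finset.mem_erase.mpr ⟨h2, Finset.mem_erase.mpr ⟨h1, hχ⟩⟩
      rw [hq, Finset.mem_singleton] at this
      exact Or.inr (Or.inl this)
    · rintro (h | h | h) <;> rw [h] <;> assumption
  have hp1 : p ≠ principalChar G := (Finset.mem_erase.mp hpT).1
  have hq1 : q ≠ principalChar G := (Finset.mem_erase.mp hqT).1
  have hr1 : r ≠ principalChar G := (Finset.mem_erase.mp hrT).1
  have hBeq : B = {principalChar G, p, q, r} := by
    ext χ
    simp only [Finset.mem_insert, Finset.mem_singleton]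
    constructor
    · intro hχ
      by_cases h1 : χ = principalChar G
      · exact Or.inl h1
      · exact Or.inr ((hTeq χ).1 (Finset.mem_erase.mpr ⟨h1, hχ⟩))
    · rintro (h | h)
      · rw [h]; exact h1B
      · exact hTB χ ((hTeq χ).2 h)
  have hcoe1 : ∀ χ : IrrCharacter G, (χ : G → ℂ) = (fun _ => 1) ↔ χ = principalChar G := by
    intro χ
    constructor
    · intro h; exact Subtype.ext h
    · intro h; rw [h]; rfl
  -- the congruences
  have hcong : ∀ χ : IrrCharacter G, (4 : ℤ) ∣ d χ - n χ := by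
    intro χ
    obtain ⟨m, hm⟩ := sum_char_subgroup' (χ : G → ℂ) (isCharacter_of_isIrrCharacter χ.2)
      (P : Subgroup G)
    rw [klein_sum_char P hP hone hz (χ : G → ℂ) (isClassFunction_of_isIrrCharacter χ.2),
      hd1 χ, hn χ, hP.card_four] at hm
    have h2 : d χ + 3 * n χ = 4 * (m : ℤ) := by exact_mod_cast hm
    exact ⟨(m : ℤ) - n χ, by linarith⟩
  refine ⟨p, q, r, n q, hpm q (hTB q hqT), ?_, ?_, hqp.symm, hpr, hqr, ?_, ?_, ?_, ?_, ?_, ?_⟩
  · intro h; exact hp1 ((hcoe1 p).1 h)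
  · intro h; exact hq1 ((hcoe1 q).1 h)
  · ext χ
    rw [← hBmem χ, hBeq]
    simp only [Finset.mem_insert, Finset.mem_singleton, Set.mem_setOf_eq, hcoe1]
  · intro z' hz'
    obtain ⟨c, hc⟩ := isConj_iff.mp (hone z z' hz hz')
    have hval : ∀ χ : IrrCharacter G, (χ : G → ℂ) z' = (n χ : ℂ) := by
      intro χ
      rw [← hc, isClassFunction_of_isIrrCharacter χ.2 z c, hn χ]
    refine ⟨?_, hval q, ?_⟩
    · rw [hval p, hp]; norm_num
    · rw [hval r, hr]; norm_num
  · have := hcong p; rw [hp] at this; exact this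
  · exact hcong q
  · have := hcong r; rw [hr] at this; simpa using this
  · intro y hy
    have hy2 : ¬ 2 ∣ orderOf y := by
      intro h
      exact (Nat.not_even_iff_odd.mpr hy) (even_iff_two_dvd.mpr h)
    have := horth y hy2
    rw [hBeq, Finset.sum_insert, Finset.sum_insert, Finset.sum_insert, Finset.sum_singleton,
      hn1, hp, hr] at this
    · have h1 : ((principalChar G : IrrCharacter G) : G → ℂ) y = 1 := rfl
      rw [h1] at this
      push_cast at this
      linear_combination this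
    · simp only [Finset.mem_singleton]; exact hqr
    · simp only [Finset.mem_insert, Finset.mem_singleton]
      rintro (h | h)
      · exact hqp h.symm
      · exact hpr h
    · simp only [Finset.mem_insert, Finset.mem_singleton]
      rintro (h | h | h)
      · exact hp1 h.symm
      · exact hq1 h.symm
      · exact hr1 h.symm

end Cfsg.Agent.S0948
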