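import Mathlib
import Cfsg.Statements.S0073

set_option autoImplicit false
open Pointwise
open Cfsg

namespace Cfsg.Agent.S0073

/-- Burnside: in a nonabelian simple group a nontrivial Sylow subgroup is not central in its normalizer. -/
theorem not_normalizer_le_centralizer {G : Type*} [Group G] [Finite G] [IsSimpleGroup G]
    (hG : ∃ x y : G, x * y ≠ y * x) {p : ℕ} [Fact p.Prime] (P : Sylow p G) (hpd : p ∣ Nat.card G)
    (hNC : Subgroup.normalizer ((P : Subgroup G) : Set G) ≤ Subgroup.centralizer ((P : Subgroup G) : Set G)) :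
    False := by
  have hcomp := MonoidHom.ker_transferSylow_isComplement' P hNC
  rcases (MonoidHom.normal_ker (MonoidHom.transferSylow P hNC)).eq_bot_or_eq_top with h | h
  · rw [h] at hcomp
    have hPtop : (P : Subgroup G) = ⊤ := by
      have := hcomp.sup_eq_top
      rwa [bot_sup_eq] at this
    obtain ⟨x, y, hxy⟩ := hG
    apply hxy
    have hy : y ∈ Subgroup.centralizer ((P : Subgroup G) : Set G) :=
      hNC (by rw [hPtop, Subgroup.normalizer_eq_top_iff.2 inferInstance]; trivial)
    have hx : x ∈ ((P : Subgroup G) : Set G) := by rw [hPtop]; trivial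
    exact (Subgroup.mem_centralizer_iff.1 hy x hx)
  · rw [h] at hcomp
    have hPbot : (P : Subgroup G) = ⊥ := by
      have := hcomp.disjoint
      rwa [top_disjoint] at this
    exact P.ne_bot_of_dvd_card hpd hPbot

/-- For a finite non-abelian simple group, either the cube of the least prime divisor of the order divides the order, or 12 does. -/
theorem result {G : Type*} [Group G] [Finite G] [IsSimpleGroup G] (hG : ∃ x y : G, x * y ≠ y * x) : (Nat.card G).minFac ^ 3 ∣ Nat.card G ∨ 12 ∣ Nat.card G := by
  classical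
  have hcard1 : Nat.card G ≠ 1 := by
    intro h
    have := (Nat.card_eq_one_iff_unique.1 h).1
    obtain ⟨x, y, hxy⟩ := hG
    exact hxy (Subsingleton.elim _ _)
  generalize hp : (Nat.card G).minFac = p
  have hpp : p.Prime := hp ▸ Nat.minFac_prime hcard1
  haveI : Fact p.Prime := ⟨hpp⟩
  have hpd : p ∣ Nat.card G := hp ▸ Nat.minFac_dvd _
  obtain ⟨P⟩ : Nonempty (Sylow p G) := inferInstance
  obtain ⟨k, hk⟩ := P.2.exists_card_eq
  by_cases hk3 : 3 ≤ k
  · left
    exact (pow_dvd_pow p hk3).trans (hk ▸ Subgroup.card_subgroup_dvd_card _)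
  right
  by_cases hcyc : IsCyclic P
  · exact (not_normalizer_le_centralizer hG P hpd (hcyc.normalizer_le_centralizer hp)).elim
  have hk2 : k = 2 := by
    rcases k with _ | _ | _ | k
    · exfalso; apply hcyc
      rw [pow_zero] at hk
      haveI : Subsingleton P := (Nat.card_eq_one_iff_unique.1 hk).1
      exact isCyclic_of_subsingleton
    · exfalso; apply hcyc
      rw [zero_add, pow_one] at hk
      exact isCyclic_of_prime_card hk
    · rfl
    · omega
  subst hk2
  haveI hPcomm : IsMulCommutative P := IsPGroup.isMulCommutative_of_card_eq_prime_sq hk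
  by_cases hNC : Subgroup.normalizer ((P : Subgroup G) : Set G) ≤ Subgroup.centralizer ((P : Subgroup G) : Set G)
  · exact (not_normalizer_le_centralizer hG P hpd hNC).elim
  -- the image of N in Aut(P)
  set N := Subgroup.normalizer ((P : Subgroup G) : Set G) with hN
  set φ := (P : Subgroup G).normalizerMonoidHom with hφ
  have hrange_card : Nat.card φ.range = (Subgroup.centralizer ((P : Subgroup G) : Set G)).relIndex N := by
    rw [← Subgroup.index_ker, Subgroup.normalizerMonoidHom_ker]
    rfl
  have hrange_ne : Nat.card φ.range ≠ 1 := by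
    rw [hrange_card]
    intro h
    exact hNC (Subgroup.relIndex_eq_one.1 h)
  obtain ⟨r, hr, hrd⟩ := Nat.exists_prime_and_dvd hrange_ne
  haveI : Fact r.Prime := ⟨hr⟩
  -- r ≠ p, r ∣ |G|
  have hrG : r ∣ Nat.card G := by
    have h1 : Nat.card φ.range ∣ Nat.card N := by
      rw [← Subgroup.index_ker]
      exact Subgroup.index_dvd_card _
    exact hrd.trans (h1.trans (Subgroup.card_subgroup_dvd_card _))
  have hrp : r ≠ p := by
    intro hrp
    rw [hrp, hrange_card] at hrd
    have h1 : (Subgroup.centralizer ((P : Subgroup G) : Set G)).relIndex N ∣ (P : Subgroup G).relIndex N :=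
      Subgroup.relIndex_dvd_of_le_left _ P.le_centralizer
    have h2 : (P : Subgroup G).relIndex N ∣ (P : Subgroup G).index :=
      Subgroup.relIndex_dvd_index_of_le P.le_normalizer
    exact P.not_dvd_index (hrd.trans (h1.trans h2))
  have hpr : p < r := by
    have : p ≤ r := hp ▸ Nat.minFac_le_of_dvd hr.two_le hrG
    exact lt_of_le_of_ne this (Ne.symm hrp)
  -- element of order r in the image
  obtain ⟨α, hα⟩ := exists_prime_orderOf_dvd_card' r hrd
  set α' : MulAut P := (α : MulAut P) with hα'
  have hα'ord : orderOf α' = r := by rw [hα', Subgroup.orderOf_coe, hα]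
  set Z := Subgroup.zpowers α' with hZ
  have hZp : IsPGroup r Z := by
    apply IsPGroup.of_card (n := 1)
    rw [pow_one, Nat.card_zpowers, hα'ord]
  have hmod := hZp.card_modEq_card_fixedPoints P
  -- the fixed points as a subgroup
  let F : Subgroup P :=
    { carrier := {x | α' x = x}
      one_mem' := map_one α'
      mul_mem' := by
        intro a b ha hb
        simp only [Set.mem_ofPred_eq] at ha hb ⊢
        rw [map_mul, ha, hb]
      inv_mem' := by
        intro a ha
        simp only [Set.mem_ofPred_eq] at ha ⊢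
        rw [map_inv, ha] }
  have hFfix : Nat.card (MulAction.fixedPoints Z P) = Nat.card F := by
    apply Nat.card_congr
    refine Equiv.subtypeEquivRight ?_
    intro x
    constructor
    · intro hx
      exact hx ⟨α', Subgroup.mem_zpowers α'⟩
    · intro hx
      rintro ⟨z, hz⟩
      obtain ⟨n, rfl⟩ := Subgroup.mem_zpowers_iff.1 hz
      show (α' ^ n) • x = x
      have hfix : α' ∈ MulAction.stabilizer (MulAut P) x := hx
      exact (MulAction.stabilizer (MulAut P) x).zpow_mem hfix n
  rw [hFfix, hk] at hmod
  have hFdvd : Nat.card F ∣ p ^ 2 := hk ▸ Subgroup.card_subgroup_dvd_card F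
  obtain ⟨j, hj2, hj⟩ := (Nat.dvd_prime_pow hpp).1 hFdvd
  have hjne : j ≠ 2 := by
    intro hj2'
    rw [hj2', ← hk] at hj
    have hFtop : F = ⊤ := Subgroup.eq_top_of_card_eq F hj
    have : α' = 1 := by
      ext x
      have hx : x ∈ F := by rw [hFtop]; trivial
      have hx' : α' x = x := hx
      simp [hx']
    rw [this, orderOf_one] at hα'ord
    exact hr.one_lt.ne hα'ord
  rw [hj] at hmod
  have hrdvd : r ∣ p ^ 2 - p ^ j := (Nat.modEq_iff_dvd' (Nat.pow_le_pow_right hpp.pos hj2)).1 hmod.symm
  have hp1 : ¬ r ∣ p - 1 := by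
    intro h
    have := Nat.le_of_dvd (by have := hpp.two_le; omega) h
    omega
  have hrp1 : r ∣ p + 1 := by
    interval_cases j
    · -- r ∣ p^2 - 1
      have e : p ^ 2 - p ^ 0 = (p - 1) * (p + 1) := by
        have := hpp.two_le
        obtain ⟨m, rfl⟩ : ∃ m, p = m + 1 := ⟨p - 1, by omega⟩
        simp only [pow_zero, Nat.add_sub_cancel]
        ring_nf
        omega
      rw [e] at hrdvd
      rcases (Nat.Prime.dvd_mul hr).1 hrdvd with h | h
      · exact absurd h hp1
      · exact h
    · -- r ∣ p^2 - p
      exfalso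
      have e : p ^ 2 - p ^ 1 = p * (p - 1) := by
        have := hpp.two_le
        obtain ⟨m, rfl⟩ : ∃ m, p = m + 1 := ⟨p - 1, by omega⟩
        simp only [pow_one, Nat.add_sub_cancel]
        ring_nf
        omega
      rw [e] at hrdvd
      rcases (Nat.Prime.dvd_mul hr).1 hrdvd with h | h
      · exact hrp ((Nat.prime_dvd_prime_iff_eq hr hpp).1 h)
      · exact hp1 h
    · exact absurd rfl hjne
  have hr_eq : r = p + 1 := by
    have := Nat.le_of_dvd (by omega) hrp1
    omega
  have hp2 : p = 2 := by
    rcases hpp.eq_two_or_odd with h | h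
    · exact h
    · exfalso
      have h2 : 2 ∣ r := by rw [hr_eq]; omega
      have := (Nat.prime_dvd_prime_iff_eq Nat.prime_two hr).1 h2
      have := hpp.two_le
      omega
  have h4 : 4 ∣ Nat.card G := by
    have : p ^ 2 ∣ Nat.card G := hk ▸ Subgroup.card_subgroup_dvd_card _
    rwa [hp2] at this
  have h3 : 3 ∣ Nat.card G := by
    have : r = 3 := by omega
    rwa [this] at hrG
  exact Nat.Coprime.mul_dvd_of_dvd_of_dvd (by norm_num) h4 h3

end Cfsg.Agent.S0073
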