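import Mathlib
import Cfsg.Statements.S0992
import Cfsg.Agent.S0073

set_option autoImplicit false
open Pointwise
open Cfsg

namespace Cfsg.Agent.S0992

/-- Let G be a non-abelian finite simple group of even order not divisible by 8, and T a Sylow 2-subgroup. Then T is a Klein four-group and the centralizer of T has index 3 in the normalizer of T. -/
theorem result {G : Type*} [Group G] [Finite G] [IsSimpleGroup G] (hG : ¬ IsMulCommutative G) (h2 : Even (Nat.card G)) (h8 : ¬ 8 ∣ Nat.card G) (T : Sylow 2 G) : IsKleinFour ↥(T : Subgroup G) ∧ (Subgroup.centralizer ((T : Subgroup G) : Set G)).relIndex (Subgroup.normalizer ((T : Subgroup G) : Set G)) = 3 := by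
  classical
  have hG' : ∃ x y : G, x * y ≠ y * x := by
    by_contra hcon
    push Not at hcon
    exact hG ⟨⟨hcon⟩⟩
  have h2d : 2 ∣ Nat.card G := even_iff_two_dvd.1 h2
  have hmin : (Nat.card G).minFac = 2 := (Nat.minFac_eq_two_iff _).2 h2d
  obtain ⟨k, hk⟩ := T.2.exists_card_eq
  have hkd : 2 ^ k ∣ Nat.card G := hk ▸ Subgroup.card_subgroup_dvd_card _
  have hk2 : k ≤ 2 := by
    by_contra hlt
    push Not at hlt
    exact h8 ((pow_dvd_pow 2 hlt).trans hkd)
  have hncyc : ¬ IsCyclic T := fun hcyc =>
    Cfsg.Agent.S0073.not_normalizer_le_centralizer hG' T h2d (hcyc.normalizer_le_centralizer hmin)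
  have hk2' : k = 2 := by
    interval_cases k
    · exfalso; apply hncyc
      rw [pow_zero] at hk
      haveI : Subsingleton T := (Nat.card_eq_one_iff_unique.1 hk).1
      exact isCyclic_of_subsingleton
    · exfalso; apply hncyc
      rw [pow_one] at hk
      exact isCyclic_of_prime_card hk
    · rfl
  subst hk2'
  have hexp : Monoid.exponent T = 2 := (not_isCyclic_iff_exponent_eq_prime Nat.prime_two hk).1 hncyc
  refine ⟨⟨by rw [hk]; norm_num, hexp⟩, ?_⟩
  haveI hTcomm : IsMulCommutative T := IsPGroup.isMulCommutative_of_card_eq_prime_sq hk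
  set N := Subgroup.normalizer ((T : Subgroup G) : Set G) with hN
  set C := Subgroup.centralizer ((T : Subgroup G) : Set G) with hC
  set φ := (T : Subgroup G).normalizerMonoidHom with hφ
  have hrange_card : Nat.card φ.range = C.relIndex N := by
    rw [← Subgroup.index_ker, Subgroup.normalizerMonoidHom_ker]
    rfl
  have hodd : ¬ 2 ∣ C.relIndex N := by
    intro h
    have h1 : C.relIndex N ∣ (T : Subgroup G).relIndex N :=
      Subgroup.relIndex_dvd_of_le_left _ T.le_centralizer
    have h2 : (T : Subgroup G).relIndex N ∣ (T : Subgroup G).index :=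
      Subgroup.relIndex_dvd_index_of_le T.le_normalizer
    exact T.not_dvd_index (h.trans (h1.trans h2))
  have hdvd24 : C.relIndex N ∣ 24 := by
    rw [← hrange_card]
    have h1 : Nat.card φ.range ∣ Nat.card (MulAut T) := Subgroup.card_subgroup_dvd_card _
    have h2 : Nat.card (MulAut T) ∣ Nat.card (Equiv.Perm T) :=
      Subgroup.card_dvd_of_injective (MulAut.toPerm T) (fun a b h => MulEquiv.toEquiv_injective h)
    rw [Nat.card_perm, hk] at h2
    exact h1.trans h2
  have hdvd3 : C.relIndex N ∣ 3 := by
    have hc : Nat.Coprime (C.relIndex N) 8 := by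
      have : Nat.Coprime (C.relIndex N) 2 :=
        (Nat.coprime_comm.1 ((Nat.Prime.coprime_iff_not_dvd Nat.prime_two).2 hodd))
      exact Nat.Coprime.pow_right 3 this
    exact hc.dvd_of_dvd_mul_left (by norm_num at hdvd24 ⊢; exact hdvd24)
  rcases (Nat.dvd_prime Nat.prime_three).1 hdvd3 with h | h
  · exfalso
    exact Cfsg.Agent.S0073.not_normalizer_le_centralizer hG' T h2d (Subgroup.relIndex_eq_one.1 h)
  · exact h

end Cfsg.Agent.S0992
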