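import Mathlib
import Cfsg.Statements.S0941
import Cfsg.Agent.Lib.Helper18.BlockQuotP

set_option autoImplicit false
open Cfsg

namespace Cfsg.Agent.S0941

open Cfsg.Agent.Helper24 Cfsg.Agent.Helper18 Cfsg.Agent.Helper23.Blk
open scoped ComplexConjugate

theorem result {G : Type*} [Group G] [Finite G] (p : ℕ) [Fact p.Prime] (M : Ideal Cfsg.AlgInt) (hM : Cfsg.IsPModular p M) (P : Subgroup G) [P.Normal] (hP : IsPGroup p P) (hC : ∃ k : ℕ, (Subgroup.centralizer (P : Set G)).index = p ^ k) : (∀ χ ψ : Cfsg.IrrCharacter (G ⧸ P), Cfsg.SameBlock M (χ : G ⧸ P → ℂ) (ψ : G ⧸ P → ℂ) ↔ Cfsg.SameBlock M ((χ : G ⧸ P → ℂ) ∘ QuotientGroup.mk) ((ψ : G ⧸ P → ℂ) ∘ QuotientGroup.mk)) ∧ ∀ B : Set (Cfsg.IrrCharacter G), Cfsg.IsPBlock M B → ∃ χ : Cfsg.IrrCharacter (G ⧸ P), ∃ θ ∈ B, (θ : G → ℂ) = (χ : G ⧸ P → ℂ) ∘ QuotientGroup.mk := by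
  classical
  haveI : Fintype G := Fintype.ofFinite G
  haveI : Fintype (G ⧸ P) := Fintype.ofFinite _
  have hp : p.Prime := Fact.out
  have hMp : M.IsPrime := isPrime_of_isPModular hM
  haveI := hMp
  constructor
  · intro χ ψ
    constructor
    · exact sameBlock_comp_mk P
    · intro h
      apply sameBlock_of_congr_on_pRegular hM
      intro y hy
      obtain ⟨g, hg, rfl⟩ := exists_pRegular_lift P hp y hy
      have hgC : g ∈ Subgroup.centralizer (P : Set G) := by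
        by_contra hnot
        exact hg (dvd_orderOf_of_not_mem (Subgroup.centralizer (P : Set G)) hp hC hnot)
      have h1 := h g
      rw [centralChar_comp_mk_eq P hp hP _ hg hgC, centralChar_comp_mk_eq P hp hP _ hg hgC] at h1
      exact h1
  · intro B hB
    obtain ⟨θ, hθB, hθP⟩ := exists_mem_block_trivial_on P hM hP hB
    obtain ⟨ψ, hψ, hθψ⟩ := exists_deflate P θ.2 hθP
    exact ⟨⟨ψ, hψ⟩, θ, hθB, hθψ⟩

end Cfsg.Agent.S0941
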