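import Mathlib
import Cfsg.Statements.S4479
import Cfsg.Agent.Lib.Helper7.BrOrd5
import Cfsg.Agent.Lib.Helper7.BSKleinBlock
import Cfsg.Agent.Lib.Helper24.CharCentral
import Cfsg.Agent.Lib.Helper24.CharIntegral

set_option autoImplicit false
open Cfsg

namespace Cfsg.Agent.S4479

open Cfsg.Agent.Helper7 Cfsg.Agent.Helper24 Cfsg.Agent.Helper23 Cfsg.Agent.Helper23.Blk

/-- the character-theoretic count: the principal block of a group with Klein four Sylow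
`2`-subgroup and one class of involutions -/
theorem klein_block_count {G : Type*} [Group G] [Finite G] (M : Ideal Cfsg.AlgInt)
    (hM : Cfsg.IsPModular 2 M) (P : Sylow 2 G) (hK : IsKleinFour (P : Subgroup G))
    (hone : ∀ s t : G, orderOf s = 2 → orderOf t = 2 → IsConj s t)
    (J : G) (hJ : J ∈ (P : Subgroup G)) (hJ2 : orderOf J = 2)
    (χ₁ χ₂ χ₃ : Cfsg.IrrCharacter G) (ε₁ ε₂ ε₃ : ℤ)
    (hB : Cfsg.principalBlock M G = {χ : Cfsg.IrrCharacter G | (χ : G → ℂ) = (fun _ => 1) ∨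
      χ = χ₁ ∨ χ = χ₂ ∨ χ = χ₃})
    (hdist : (χ₁ : G → ℂ) ≠ (fun _ => 1) ∧ (χ₂ : G → ℂ) ≠ (fun _ => 1) ∧
      (χ₃ : G → ℂ) ≠ (fun _ => 1) ∧ χ₁ ≠ χ₂ ∧ χ₁ ≠ χ₃ ∧ χ₂ ≠ χ₃)
    (hε : (ε₁ = 1 ∨ ε₁ = -1) ∧ (ε₂ = 1 ∨ ε₂ = -1) ∧ (ε₃ = 1 ∨ ε₃ = -1))
    (hval : (χ₁ : G → ℂ) J = ε₁ ∧ (χ₂ : G → ℂ) J = ε₂ ∧ (χ₃ : G → ℂ) J = ε₃) :
    (1 + ε₁ * (Cfsg.charDegree (χ₁ : G → ℂ) : ℤ) + ε₂ * (Cfsg.charDegree (χ₂ : G → ℂ) : ℤ) +
        ε₃ * (Cfsg.charDegree (χ₃ : G → ℂ) : ℤ) = 0) ∧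
    (4 * (Nat.card (Subgroup.centralizer ({J} : Set G)) : ℤ) *
      (Set.ncard {t : G | orderOf t = 2 ∧ 2 ∣ orderOf (J * t)} : ℤ) *
      ((Cfsg.charDegree (χ₁ : G → ℂ) : ℤ) * (Cfsg.charDegree (χ₂ : G → ℂ) : ℤ) *
        (Cfsg.charDegree (χ₃ : G → ℂ) : ℤ)) =
      (Nat.card G : ℤ) * ((Cfsg.charDegree (χ₁ : G → ℂ) : ℤ) * (Cfsg.charDegree (χ₂ : G → ℂ) : ℤ) *
        (Cfsg.charDegree (χ₃ : G → ℂ) : ℤ) +
        ε₁ * ((Cfsg.charDegree (χ₂ : G → ℂ) : ℤ) * (Cfsg.charDegree (χ₃ : G → ℂ) : ℤ)) +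
        ε₂ * ((Cfsg.charDegree (χ₁ : G → ℂ) : ℤ) * (Cfsg.charDegree (χ₃ : G → ℂ) : ℤ)) +
        ε₃ * ((Cfsg.charDegree (χ₁ : G → ℂ) : ℤ) * (Cfsg.charDegree (χ₂ : G → ℂ) : ℤ)))) := by
  classical
  haveI : Fact (2 : ℕ).Prime := ⟨Nat.prime_two⟩
  haveI hMp : M.IsPrime := hM.2.1.isPrime
  haveI : Fintype G := Fintype.ofFinite G
  obtain ⟨hd1, hd2, hd3, h12, h13, h23⟩ := hdist
  obtain ⟨hv1, hv2, hv3⟩ := hval
  have hmem : ∀ χ : IrrCharacter G, χ ∈ principalBlock M G ↔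
      ((χ : G → ℂ) = (fun _ => 1) ∨ χ = χ₁ ∨ χ = χ₂ ∨ χ = χ₃) := by
    intro χ; rw [hB]; rfl
  have hχ₁ : χ₁ ∈ principalBlock M G := (hmem _).2 (Or.inr (Or.inl rfl))
  have hχ₂ : χ₂ ∈ principalBlock M G := (hmem _).2 (Or.inr (Or.inr (Or.inl rfl)))
  have hχ₃ : χ₃ ∈ principalBlock M G := (hmem _).2 (Or.inr (Or.inr (Or.inr rfl)))
  have hp1 : principalChar G ≠ χ₁ := fun h => hd1 (by rw [← h]; rfl)
  have hp2 : principalChar G ≠ χ₂ := fun h => hd2 (by rw [← h]; rfl)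
  have hp3 : principalChar G ≠ χ₃ := fun h => hd3 (by rw [← h]; rfl)
  set B : Finset (IrrCharacter G) := {principalChar G, χ₁, χ₂, χ₃} with hBdef
  have hset : principalBlock M G = ↑B := by
    ext χ
    rw [hmem, hBdef]
    simp only [Finset.coe_insert, Finset.coe_singleton, Set.mem_insert_iff,
      Set.mem_singleton_iff]
    constructor
    · rintro (h | h | h | h)
      · left; exact Subtype.ext h
      · right; left; exact h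
      · right; right; left; exact h
      · right; right; right; exact h
    · rintro (h | h | h | h)
      · left; rw [h]; rfl
      · right; left; exact h
      · right; right; left; exact h
      · right; right; right; exact h
  have hsumB : ∀ f : IrrCharacter G → ℂ, ∑ χ ∈ B, f χ =
      f (principalChar G) + f χ₁ + f χ₂ + f χ₃ := by
    intro f
    rw [hBdef, Finset.sum_insert, Finset.sum_insert, Finset.sum_insert, Finset.sum_singleton]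
    · ring
    · simp only [Finset.mem_singleton]; exact h23
    · simp only [Finset.mem_insert, Finset.mem_singleton, not_or]; exact ⟨h12, h13⟩
    · simp only [Finset.mem_insert, Finset.mem_singleton, not_or]; exact ⟨hp1, hp2, hp3⟩
  -- signs
  have hs1 : ε₁ * ε₁ = 1 := by rcases hε.1 with h | h <;> rw [h] <;> norm_num
  have hs2 : ε₂ * ε₂ = 1 := by rcases hε.2.1 with h | h <;> rw [h] <;> norm_num
  have hs3 : ε₃ * ε₃ = 1 := by rcases hε.2.2 with h | h <;> rw [h] <;> norm_num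
  have hs1c : (ε₁ : ℂ) * ε₁ = 1 := by exact_mod_cast hs1
  have hs2c : (ε₂ : ℂ) * ε₂ = 1 := by exact_mod_cast hs2
  have hs3c : (ε₃ : ℂ) * ε₃ = 1 := by exact_mod_cast hs3
  -- the function `Θ`
  set Θ : G → ℂ := fun g => 1 + ε₁ * (χ₁ : G → ℂ) g + ε₂ * (χ₂ : G → ℂ) g +
    ε₃ * (χ₃ : G → ℂ) g with hΘ
  have hΘeven : ∀ g : G, 2 ∣ orderOf g → Θ g = 4 := by
    intro g hg
    simp only [hΘ]
    rw [klein_block_const M hM P hK hone hJ hJ2 χ₁ hχ₁ g hg,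
      klein_block_const M hM P hK hone hJ hJ2 χ₂ hχ₂ g hg,
      klein_block_const M hM P hK hone hJ hJ2 χ₃ hχ₃ g hg, hv1, hv2, hv3, hs1c, hs2c, hs3c]
    norm_num
  have hΘodd : ∀ y : G, ¬ 2 ∣ orderOf y → Θ y = 0 := by
    intro y hy
    have hgx : IsPPart 2 J J :=
      ⟨1, mul_one J, Commute.one_right J, ⟨1, by rw [hJ2, pow_one]⟩, by
        rw [orderOf_one]; norm_num⟩
    have hhy : IsPPart 2 y⁻¹ 1 :=
      ⟨y⁻¹, one_mul _, Commute.one_left _, ⟨0, by rw [orderOf_one, pow_zero]⟩, by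
        rwa [orderOf_inv]⟩
    have hnc : ¬ IsConj J 1 := by
      intro h
      rw [isConj_one_left] at h
      rw [h, orderOf_one] at hJ2
      omega
    have := block_orthogonality hM hgx hhy hnc (B := principalBlock M G)
      ⟨principalChar G, rfl⟩
    rw [inv_inv, hset, finsum_mem_coe_finset, hsumB, hv1, hv2, hv3] at this
    have h1 : ∀ g : G, ((principalChar G : IrrCharacter G) : G → ℂ) g = 1 := fun _ => rfl
    rw [h1, h1] at this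
    simp only [hΘ]
    linear_combination this
  -- degrees
  have hx1 : (χ₁ : G → ℂ) 1 = (charDegree (χ₁ : G → ℂ) : ℂ) := irr_one_eq_charDegree χ₁.2
  have hx2 : (χ₂ : G → ℂ) 1 = (charDegree (χ₂ : G → ℂ) : ℂ) := irr_one_eq_charDegree χ₂.2
  have hx3 : (χ₃ : G → ℂ) 1 = (charDegree (χ₃ : G → ℂ) : ℂ) := irr_one_eq_charDegree χ₃.2
  have hpos1 : 0 < charDegree (χ₁ : G → ℂ) := charDegree_pos χ₁.2
  have hpos2 : 0 < charDegree (χ₂ : G → ℂ) := charDegree_pos χ₂.2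
  have hpos3 : 0 < charDegree (χ₃ : G → ℂ) := charDegree_pos χ₃.2
  set x₁ := charDegree (χ₁ : G → ℂ) with hx₁
  set x₂ := charDegree (χ₂ : G → ℂ) with hx₂
  set x₃ := charDegree (χ₃ : G → ℂ) with hx₃
  have hx1ne : (x₁ : ℂ) ≠ 0 := by exact_mod_cast hpos1.ne'
  have hx2ne : (x₂ : ℂ) ≠ 0 := by exact_mod_cast hpos2.ne'
  have hx3ne : (x₃ : ℂ) ≠ 0 := by exact_mod_cast hpos3.ne'
  refine ⟨?_, ?_⟩
  · have := hΘodd 1 (by rw [orderOf_one]; norm_num)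
    simp only [hΘ] at this
    rw [hx1, hx2, hx3] at this
    exact_mod_cast this
  · -- the two evaluations of the sum
    have hsum1 : ∑ y : G, Θ (J * (y * J * y⁻¹)) =
        (Nat.card G : ℂ) + ε₁ * ((Nat.card G : ℂ) * ε₁ * ε₁ / x₁) +
          ε₂ * ((Nat.card G : ℂ) * ε₂ * ε₂ / x₂) + ε₃ * ((Nat.card G : ℂ) * ε₃ * ε₃ / x₃) := by
      simp only [hΘ]
      rw [Finset.sum_add_distrib, Finset.sum_add_distrib, Finset.sum_add_distrib,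
        ← Finset.mul_sum, ← Finset.mul_sum, ← Finset.mul_sum,
        sum_char_mul_conj χ₁.2 J J, sum_char_mul_conj χ₂.2 J J, sum_char_mul_conj χ₃.2 J J,
        hv1, hv2, hv3, hx1, hx2, hx3]
      simp only [Finset.sum_const, Finset.card_univ, nsmul_eq_mul, mul_one,
        Nat.card_eq_fintype_card]
    have hsum2 : ∑ y : G, Θ (J * (y * J * y⁻¹)) =
        (Nat.card (Subgroup.centralizer ({J} : Set G)) : ℂ) *
          (4 * (Set.ncard {t : G | orderOf t = 2 ∧ 2 ∣ orderOf (J * t)} : ℂ)) := by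
      rw [sum_conj_eq_card_mul_sum_filter J (fun b => Θ (J * b))]
      congr 1
      rw [Finset.sum_filter]
      have hpt : ∀ b : G, (if IsConj J b then Θ (J * b) else 0) =
          if (orderOf b = 2 ∧ 2 ∣ orderOf (J * b)) then (4 : ℂ) else 0 := by
        intro b
        by_cases hb : IsConj J b
        · have hb2 : orderOf b = 2 := by
            obtain ⟨c, hc⟩ := isConj_iff.mp hb
            rw [← hc, orderOf_conj', hJ2]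
          rw [if_pos hb]
          by_cases hdv : 2 ∣ orderOf (J * b)
          · rw [if_pos ⟨hb2, hdv⟩, hΘeven _ hdv]
          · rw [if_neg (fun h => hdv h.2), hΘodd _ hdv]
        · rw [if_neg hb, if_neg]
          rintro ⟨hb2, -⟩
          exact hb (hone J b hJ2 hb2)
      rw [Finset.sum_congr rfl (fun b _ => hpt b), ← Finset.sum_filter, Finset.sum_const,
        ncard_setOf_eq_card_filter]
      simp only [nsmul_eq_mul]
      ring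
    have heq := hsum1.symm.trans hsum2
    have hfin : (4 * (Nat.card (Subgroup.centralizer ({J} : Set G)) : ℂ) *
        (Set.ncard {t : G | orderOf t = 2 ∧ 2 ∣ orderOf (J * t)} : ℂ) *
        ((x₁ : ℂ) * x₂ * x₃) =
        (Nat.card G : ℂ) * ((x₁ : ℂ) * x₂ * x₃ + ε₁ * ((x₂ : ℂ) * x₃) + ε₂ * ((x₁ : ℂ) * x₃) +
          ε₃ * ((x₁ : ℂ) * x₂))) := by
      have e : (4 * (Nat.card (Subgroup.centralizer ({J} : Set G)) : ℂ) *
          (Set.ncard {t : G | orderOf t = 2 ∧ 2 ∣ orderOf (J * t)} : ℂ)) =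
          (Nat.card (Subgroup.centralizer ({J} : Set G)) : ℂ) *
          (4 * (Set.ncard {t : G | orderOf t = 2 ∧ 2 ∣ orderOf (J * t)} : ℂ)) := by ring
      rw [e, ← heq]
      have t1 : (ε₁ : ℂ) * ((Nat.card G : ℂ) * ε₁ * ε₁ / x₁) = (Nat.card G : ℂ) * ε₁ / x₁ := by
        rw [mul_assoc (Nat.card G : ℂ), hs1c, mul_one]; ring
      have t2 : (ε₂ : ℂ) * ((Nat.card G : ℂ) * ε₂ * ε₂ / x₂) = (Nat.card G : ℂ) * ε₂ / x₂ := by
        rw [mul_assoc (Nat.card G : ℂ), hs2c, mul_one]; ring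
      have t3 : (ε₃ : ℂ) * ((Nat.card G : ℂ) * ε₃ * ε₃ / x₃) = (Nat.card G : ℂ) * ε₃ / x₃ := by
        rw [mul_assoc (Nat.card G : ℂ), hs3c, mul_one]; ring
      rw [t1, t2, t3]
      field_simp
    exact_mod_cast hfin

/-- An order formula from the principal 2-block. Let G be a finite group of order 4·g₀ with g₀ odd having no normal 2-complement (no normal subgroup of order g₀); let P be a Sylow 2-subgroup, J an involution of P, and fix a maximal ideal M of the algebraic integers containing 2. Suppose the principal 2-block consists of the principal character and three further distinct characters χ₁, χ₂, χ₃ of degrees x₁, x₂, x₃, with χ_i(J) = ε_i = ±1. Then, writing c(J) and c(P) for the orders of the centralizers of J and of P, the order of G equals 8·α·c(J)³/c(P)² with α = x₁x₂x₃ / ((x₁ + ε₁)(x₂ + ε₂)(x₃ + ε₃)). -/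
theorem result {G : Type*} [Group G] [Finite G] (M : Ideal Cfsg.AlgInt) (hM : Cfsg.IsPModular 2 M) (g₀ : ℕ) (hg₀ : Odd g₀) (hG : Nat.card G = 4 * g₀) (hnc : ¬ ∃ N : Subgroup G, N.Normal ∧ Nat.card N = g₀) (P : Sylow 2 G) (J : G) (hJ : J ∈ (P : Subgroup G)) (hJ2 : orderOf J = 2) (χ₁ χ₂ χ₃ : Cfsg.IrrCharacter G) (ε₁ ε₂ ε₃ : ℤ) (hB : Cfsg.principalBlock M G = {χ : Cfsg.IrrCharacter G | (χ : G → ℂ) = (fun _ => 1) ∨ χ = χ₁ ∨ χ = χ₂ ∨ χ = χ₃}) (hdist : (χ₁ : G → ℂ) ≠ (fun _ => 1) ∧ (χ₂ : G → ℂ) ≠ (fun _ => 1) ∧ (χ₃ : G → ℂ) ≠ (fun _ => 1) ∧ χ₁ ≠ χ₂ ∧ χ₁ ≠ χ₃ ∧ χ₂ ≠ χ₃) (hε : (ε₁ = 1 ∨ ε₁ = -1) ∧ (ε₂ = 1 ∨ ε₂ = -1) ∧ (ε₃ = 1 ∨ ε₃ = -1)) (hval : (χ₁ : G → ℂ) J = ε₁ ∧ (χ₂ : G → ℂ) J = ε₂ ∧ (χ₃ : G → ℂ) J = ε₃) : (Nat.card G : ℚ) = 8 * (((Cfsg.charDegree (χ₁ : G → ℂ) : ℚ) * Cfsg.charDegree (χ₂ : G → ℂ) * Cfsg.charDegree (χ₃ : G → ℂ)) / ((Cfsg.charDegree (χ₁ :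 G → ℂ) + ε₁) * (Cfsg.charDegree (χ₂ : G → ℂ) + ε₂) * (Cfsg.charDegree (χ₃ : G → ℂ) + ε₃))) * (Nat.card (Subgroup.centralizer ({J} : Set G)) : ℚ) ^ 3 / (Nat.card (Subgroup.centralizer ((P : Subgroup G) : Set G)) : ℚ) ^ 2 := by
  obtain ⟨hK, hone⟩ := klein_of_no_complement g₀ hg₀ hG hnc P
  obtain ⟨hdeg, hmain⟩ := klein_block_count M hM P hK hone J hJ hJ2 χ₁ χ₂ χ₃ ε₁ ε₂ ε₃ hB hdist
    hε hval
  have hT := klein_count_T P hK hone hJ hJ2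
  have hpos1 : 0 < Cfsg.charDegree (χ₁ : G → ℂ) := charDegree_pos χ₁.2
  have hpos2 : 0 < Cfsg.charDegree (χ₂ : G → ℂ) := charDegree_pos χ₂.2
  have hpos3 : 0 < Cfsg.charDegree (χ₃ : G → ℂ) := charDegree_pos χ₃.2
  have hcJpos : 0 < Nat.card (Subgroup.centralizer ({J} : Set G)) := Nat.card_pos
  have hcPpos : 0 < Nat.card (Subgroup.centralizer ((P : Subgroup G) : Set G)) := Nat.card_pos
  have hGpos : 0 < Nat.card G := Nat.card_pos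
  set x₁ := Cfsg.charDegree (χ₁ : G → ℂ) with hx₁
  set x₂ := Cfsg.charDegree (χ₂ : G → ℂ) with hx₂
  set x₃ := Cfsg.charDegree (χ₃ : G → ℂ) with hx₃
  set cJ := Nat.card (Subgroup.centralizer ({J} : Set G)) with hcJ
  set cP := Nat.card (Subgroup.centralizer ((P : Subgroup G) : Set G)) with hcP
  set Tn := Set.ncard {t : G | orderOf t = 2 ∧ 2 ∣ orderOf (J * t)} with hTn
  have hs1 : ε₁ * ε₁ = 1 := by rcases hε.1 with h | h <;> rw [h] <;> norm_num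
  have hs2 : ε₂ * ε₂ = 1 := by rcases hε.2.1 with h | h <;> rw [h] <;> norm_num
  have hs3 : ε₃ * ε₃ = 1 := by rcases hε.2.2 with h | h <;> rw [h] <;> norm_num
  have hprod : ((x₁ : ℤ) + ε₁) * ((x₂ : ℤ) + ε₂) * ((x₃ : ℤ) + ε₃) =
      (x₁ : ℤ) * x₂ * x₃ + ε₁ * ((x₂ : ℤ) * x₃) + ε₂ * ((x₁ : ℤ) * x₃) + ε₃ * ((x₁ : ℤ) * x₂) := by
    linear_combination (ε₁ * ε₂ * ε₃) * hdeg - (ε₂ * ε₃ * x₁) * hs1 - (ε₁ * ε₃ * x₂) * hs2 -
      (ε₁ * ε₂ * x₃) * hs3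
  have hT' : (Tn : ℤ) * (cP : ℤ) ^ 2 = 2 * (cJ : ℤ) ^ 2 := by exact_mod_cast hT
  have hstar : 8 * (cJ : ℤ) ^ 3 * ((x₁ : ℤ) * x₂ * x₃) =
      (Nat.card G : ℤ) * (cP : ℤ) ^ 2 * (((x₁ : ℤ) + ε₁) * ((x₂ : ℤ) + ε₂) * ((x₃ : ℤ) + ε₃)) := by
    calc 8 * (cJ : ℤ) ^ 3 * ((x₁ : ℤ) * x₂ * x₃)
        = (4 * (cJ : ℤ) * (2 * (cJ : ℤ) ^ 2)) * ((x₁ : ℤ) * x₂ * x₃) := by ring
      _ = (4 * (cJ : ℤ) * ((Tn : ℤ) * (cP : ℤ) ^ 2)) * ((x₁ : ℤ) * x₂ * x₃) := by rw [hT']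
      _ = (4 * (cJ : ℤ) * (Tn : ℤ) * ((x₁ : ℤ) * x₂ * x₃)) * (cP : ℤ) ^ 2 := by ring
      _ = _ := by rw [hmain, hprod]; ring
  have hPi : ((x₁ : ℤ) + ε₁) * ((x₂ : ℤ) + ε₂) * ((x₃ : ℤ) + ε₃) ≠ 0 := by
    intro h
    rw [h, mul_zero] at hstar
    have : 0 < 8 * (cJ : ℤ) ^ 3 * ((x₁ : ℤ) * x₂ * x₃) := by positivity
    omega
  have hq : (8 : ℚ) * (cJ : ℚ) ^ 3 * ((x₁ : ℚ) * x₂ * x₃) =
      (Nat.card G : ℚ) * (cP : ℚ) ^ 2 * (((x₁ : ℚ) + ε₁) * ((x₂ : ℚ) + ε₂) * ((x₃ : ℚ) + ε₃)) := by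
    exact_mod_cast hstar
  have hPiq : ((x₁ : ℚ) + ε₁) * ((x₂ : ℚ) + ε₂) * ((x₃ : ℚ) + ε₃) ≠ 0 := by
    exact_mod_cast hPi
  have hcPq : (cP : ℚ) ≠ 0 := by exact_mod_cast hcPpos.ne'
  have hcP2 : (cP : ℚ) ^ 2 ≠ 0 := pow_ne_zero 2 hcPq
  rw [eq_div_iff hcP2]
  have e : 8 * ((x₁ : ℚ) * x₂ * x₃ / (((x₁ : ℚ) + ε₁) * ((x₂ : ℚ) + ε₂) * ((x₃ : ℚ) + ε₃))) *
      (cJ : ℚ) ^ 3 = (8 * (cJ : ℚ) ^ 3 * ((x₁ : ℚ) * x₂ * x₃)) /
        (((x₁ : ℚ) + ε₁) * ((x₂ : ℚ) + ε₂) * ((x₃ : ℚ) + ε₃)) := by ring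
  rw [e, hq, mul_div_cancel_right₀ _ hPiq]

end Cfsg.Agent.S4479
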