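import Mathlib
import Cfsg.Statements.S0143
import Cfsg.Agent.S0142
import Cfsg.Agent.Lib.Helper24.CharIntegral
import Cfsg.Agent.Lib.Helper1.CharScalar

set_option autoImplicit false
open Cfsg

namespace Cfsg.Agent.S0143

open Cfsg.Agent.Helper24 Cfsg.Agent.Helper1

open scoped ComplexConjugate

universe u

/-- In a simple group, a nonidentity central element forces commutativity. -/
theorem comm_of_mem_center {G : Type u} [Group G] [IsSimpleGroup G] {g : G} (hg : g ≠ 1)
    (hc : g ∈ Subgroup.center G) : ∀ a b : G, a * b = b * a := by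
  have hn : (Subgroup.center G).Normal := inferInstance
  rcases hn.eq_bot_or_eq_top with h | h
  · rw [h, Subgroup.mem_bot] at hc
    exact absurd hc hg
  · intro a b
    have : b ∈ Subgroup.center G := by rw [h]; trivial
    exact Subgroup.mem_center_iff.mp this a

/-- Key step of Burnside's lemma. -/
theorem isIntegral_term {G : Type u} [Group G] [Fintype G] [IsSimpleGroup G]
    (hnc : ¬ ∀ a b : G, a * b = b * a) (p k : ℕ) (hp : p.Prime) (g : G) (hg : g ≠ 1)
    (hclass : (Subgroup.centralizer ({g} : Set G)).index = p ^ k)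
    {χ : G → ℂ} (hχ : IsIrrCharacter G χ) (hχ1 : χ ≠ fun _ => (1 : ℂ)) :
    IsIntegral ℤ (χ g * χ 1 / (p : ℂ)) := by
  classical
  have hpC : (p : ℂ) ≠ 0 := by exact_mod_cast hp.ne_zero
  have hirr := hχ
  obtain ⟨n, ρ, hρ, rfl⟩ := hχ
  haveI := hρ
  rw [Representation.char_one]
  set d := Module.finrank ℂ (Fin n → ℂ) with hd
  by_cases hpd : p ∣ d
  · obtain ⟨e, he⟩ := hpd
    rw [he]
    have : ρ.character g * ((p * e : ℕ) : ℂ) / (p : ℂ) = ρ.character g * (e : ℂ) := by
      push_cast; field_simp
    rw [this]
    exact IsIntegral.mul (isIntegral_char ρ g) (isIntegral_algebraMap (R := ℤ) (A := ℂ) (x := (e : ℤ)))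
  · have hcop : Nat.Coprime d (Subgroup.centralizer ({g} : Set G)).index := by
      rw [hclass]
      exact Nat.Coprime.pow_right k ((Nat.Prime.coprime_iff_not_dvd hp).mpr hpd).symm
    rcases Cfsg.Agent.S0142.result ρ g hcop with h0 | h1
    · rw [h0]; simp; exact isIntegral_zero
    · exfalso
      obtain ⟨c, hc⟩ := rep_scalar_of_norm_char_eq ρ g h1
      have hcomm := rep_commutator_eq_one_of_scalar ρ hc
      have hker : (MonoidHom.ker ρ).Normal := MonoidHom.normal_ker ρ
      rcases hker.eq_bot_or_eq_top with hb | ht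
      · -- faithful: `g` is central
        apply hnc
        apply comm_of_mem_center hg
        rw [Subgroup.mem_center_iff]
        intro x
        have : g * x * g⁻¹ * x⁻¹ ∈ MonoidHom.ker ρ := MonoidHom.mem_ker.mpr (hcomm x)
        rw [hb, Subgroup.mem_bot] at this
        have h2 : g * x = x * g := by
          calc g * x = (g * x * g⁻¹ * x⁻¹) * (x * g) := by group
            _ = x * g := by rw [this, one_mul]
        exact h2.symm
      · -- trivial: the character is principal
        have htriv : ∀ x, ρ x = 1 := fun x => by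
          have : x ∈ MonoidHom.ker ρ := by rw [ht]; trivial
          exact MonoidHom.mem_ker.mp this
        have hchar : ρ.character = fun _ => (d : ℂ) := by
          funext x
          rw [Representation.character, htriv x]
          simp [hd]
        have horth := irr_orthogonality hirr (isIrrCharacter_one (G := G))
        rw [if_neg hχ1] at horth
        rw [hchar, classInner] at horth
        simp only [map_one, mul_one, Finset.sum_const, Finset.card_univ, nsmul_eq_mul] at horth
        have hcard : (Nat.card G : ℂ) ≠ 0 := by exact_mod_cast (Nat.card_pos (α := G)).ne'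
        rw [← Nat.card_eq_fintype_card, ← mul_assoc, inv_mul_cancel₀ hcard, one_mul] at horth
        have hd0 : d = 0 := by exact_mod_cast horth
        have : 0 < d := by
          rw [isIrreducible_iff] at hρ
          obtain ⟨hnt, -⟩ := hρ
          exact Module.finrank_pos
        omega

/-- `1 / p` is not an algebraic integer. -/
theorem not_isIntegral_inv_prime (p : ℕ) (hp : p.Prime) : ¬ IsIntegral ℤ ((1 : ℂ) / (p : ℂ)) := by
  intro h
  have hp0 : (p : ℚ) ≠ 0 := by exact_mod_cast hp.ne_zero
  have h2 : ((1 : ℂ) / (p : ℂ)) = algebraMap ℚ ℂ ((1 : ℚ) / (p : ℚ)) := by simp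
  rw [h2, isIntegral_algebraMap_iff (algebraMap ℚ ℂ).injective] at h
  obtain ⟨m, hm⟩ := IsIntegrallyClosed.isIntegral_iff.mp h
  have h3 : (m : ℚ) * p = 1 := by
    have : (algebraMap ℤ ℚ m) = (m : ℚ) := rfl
    rw [this] at hm
    rw [hm]
    field_simp
  have h4 : m * (p : ℤ) = 1 := by exact_mod_cast h3
  have h5 : (p : ℤ) ∣ 1 := ⟨m, by rw [← h4]; ring⟩
  have h6 : p ∣ 1 := by exact_mod_cast h5
  exact hp.one_lt.ne' (Nat.dvd_one.mp h6)

/-- **Burnside's lemma**: a nonabelian finite simple group has no nonidentity conjugacy class of prime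
power size. -/
theorem comm_of_prime_power_class {G : Type u} [Group G] [Finite G] [IsSimpleGroup G]
    (p k : ℕ) (hp : p.Prime) (g : G) (hg : g ≠ 1)
    (hclass : (Subgroup.centralizer ({g} : Set G)).index = p ^ k) : ∀ a b : G, a * b = b * a := by
  classical
  by_contra hnc
  letI := Fintype.ofFinite G
  letI := irrFintype (G := G)
  have hpC : (p : ℂ) ≠ 0 := by exact_mod_cast hp.ne_zero
  have hso := second_orthogonality' (G := G) g 1
  have hnconj : ¬ IsConj (1 : G) g := by
    intro h
    rw [isConj_iff] at h
    obtain ⟨c, hc⟩ := h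
    apply hg
    rw [← hc]; group
  rw [if_neg hnconj] at hso
  have hterm : ∀ χ : IrrCharacter G, (χ : G → ℂ) g * conj ((χ : G → ℂ) 1) =
      (χ : G → ℂ) g * (χ : G → ℂ) 1 := by
    intro χ
    obtain ⟨m, -, hm⟩ := irr_one_eq χ.2
    rw [hm]; simp
  simp only [hterm] at hso
  rw [← Finset.add_sum_erase Finset.univ _ (Finset.mem_univ (principalChar G))] at hso
  have hprinc : ((principalChar G : IrrCharacter G) : G → ℂ) = fun _ => (1 : ℂ) := rfl
  rw [hprinc] at hso
  simp only [mul_one] at hso
  have hsum : IsIntegral ℤ (∑ χ ∈ Finset.univ.erase (principalChar G),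
      ((χ : G → ℂ) g * (χ : G → ℂ) 1 / (p : ℂ))) := by
    refine IsIntegral.sum _ fun χ hχ => ?_
    have hne : χ ≠ principalChar G := (Finset.mem_erase.mp hχ).1
    refine isIntegral_term hnc p k hp g hg hclass χ.2 ?_
    intro h
    apply hne
    apply Subtype.ext
    rw [h]; rfl
  rw [← Finset.sum_div] at hsum
  have h1 : ∑ χ ∈ Finset.univ.erase (principalChar G), ((χ : G → ℂ) g * (χ : G → ℂ) 1) = -1 := by
    linear_combination hso
  rw [h1] at hsum
  have h2 : IsIntegral ℤ ((1 : ℂ) / (p : ℂ)) := by
    have := hsum.neg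
    rwa [neg_div, neg_neg] at this
  exact not_isIntegral_inv_prime p hp h2

/-- If a finite simple group has a non-identity element whose conjugacy class has prime-power size, then the group has prime order. -/
theorem result {G : Type*} [Group G] [Finite G] [IsSimpleGroup G] (p k : ℕ) (hp : p.Prime) (g : G) (hg : g ≠ 1) (hclass : (Subgroup.centralizer ({g} : Set G)).index = p ^ k) : (Nat.card G).Prime := by
  have hcomm := comm_of_prime_power_class p k hp g hg hclass
  letI : CommGroup G := { (inferInstance : Group G) with mul_comm := hcomm }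
  exact IsSimpleGroup.prime_card

end Cfsg.Agent.S0143
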