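import Mathlib
import Cfsg.Statements.S0144
import Cfsg.Agent.S0143
import Cfsg.Agent.S0001

set_option autoImplicit false
open Cfsg

namespace Cfsg.Agent.S0144

universe u

/-- A divisor of `p ^ a * q ^ b` is again of this shape. -/
theorem exists_of_dvd {p q a b d : ℕ} (hp : p.Prime) (hq : q.Prime) (h : d ∣ p ^ a * q ^ b) :
    ∃ a' b', d = p ^ a' * q ^ b' := by
  obtain ⟨d1, d2, h1, h2, rfl⟩ := (Nat.dvd_mul).mp h
  obtain ⟨a', -, rfl⟩ := (Nat.dvd_prime_pow hp).mp h1
  obtain ⟨b', -, rfl⟩ := (Nat.dvd_prime_pow hq).mp h2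
  exact ⟨a', b', rfl⟩

/-- A `p`-group is solvable. -/
theorem solvable_of_card_pow {G : Type u} [Group G] [Finite G] {p n : ℕ} (hp : p.Prime)
    (h : Nat.card G = p ^ n) : Group.IsSolvable G := by
  haveI : Fact p.Prime := ⟨hp⟩
  haveI := (IsPGroup.of_card h).isNilpotent
  exact IsNilpotent.to_isSolvable

/-- The simple case. -/
theorem solvable_of_simple {G : Type u} [Group G] [Finite G] [IsSimpleGroup G] (p q a b : ℕ)
    (hp : p.Prime) (hq : q.Prime) (hcard : Nat.card G = p ^ a * q ^ b) : Group.IsSolvable G := by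
  by_cases hpq : p = q
  · subst hpq
    rw [← pow_add] at hcard
    exact solvable_of_card_pow hp hcard
  by_cases hqd : q ∣ Nat.card G
  · haveI : Fact q.Prime := ⟨hq⟩
    obtain ⟨Q⟩ : Nonempty (Sylow q G) := inferInstance
    have hQne : (Q : Subgroup G) ≠ ⊥ := Q.ne_bot_of_dvd_card hqd
    haveI : Nontrivial (Q : Subgroup G) := (Subgroup.nontrivial_iff_ne_bot _).mpr hQne
    haveI := Q.2.center_nontrivial
    obtain ⟨z, hz⟩ := exists_ne (1 : Subgroup.center (Q : Subgroup G))
    set g : G := ((z : (Q : Subgroup G)) : G) with hg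
    have hg1 : g ≠ 1 := by
      intro h
      apply hz
      apply Subtype.ext
      apply Subtype.ext
      exact h
    have hle : (Q : Subgroup G) ≤ Subgroup.centralizer ({g} : Set G) := by
      intro x hx
      rw [Subgroup.mem_centralizer_iff]
      intro y hy
      rw [Set.mem_singleton_iff] at hy
      subst hy
      have := Subgroup.mem_center_iff.mp z.2 ⟨x, hx⟩
      have h2 := congrArg (Subtype.val) this
      simpa [hg] using h2.symm
    have hidx : (Subgroup.centralizer ({g} : Set G)).index ∣ p ^ a := by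
      have h1 : (Subgroup.centralizer ({g} : Set G)).index ∣ (Q : Subgroup G).index :=
        Subgroup.index_dvd_of_le hle
      have h2 : (Q : Subgroup G).index ∣ p ^ a * q ^ b := by
        rw [← hcard]; exact Subgroup.index_dvd_card _
      have h3 : Nat.Coprime (Q : Subgroup G).index (q ^ b) :=
        Nat.Coprime.pow_right b ((Nat.Prime.coprime_iff_not_dvd hq).mpr Q.not_dvd_index).symm
      exact h1.trans (h3.dvd_of_dvd_mul_right h2)
    obtain ⟨k, -, hk⟩ := (Nat.dvd_prime_pow hp).mp hidx
    have hprime := Cfsg.Agent.S0143.result p k hp g hg1 hk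
    haveI : Fact (Nat.card G).Prime := ⟨hprime⟩
    haveI : IsCyclic G := isCyclic_of_prime_card rfl
    letI : CommGroup G := IsCyclic.commGroup
    exact isSolvable_of_comm (fun a b => mul_comm a b)
  · have hb : b = 0 := by
      by_contra hb
      apply hqd
      rw [hcard]
      exact Dvd.dvd.mul_left (dvd_pow_self q hb) _
    subst hb
    rw [pow_zero, mul_one] at hcard
    exact solvable_of_card_pow hp hcard

theorem burnside_aux (p q : ℕ) (hp : p.Prime) (hq : q.Prime) :
    ∀ (n : ℕ) (G : Type u) [Group G] [Finite G], Nat.card G = n →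
    (∃ a b, Nat.card G = p ^ a * q ^ b) → Group.IsSolvable G := by
  intro n
  induction n using Nat.strong_induction_on with
  | _ n ih =>
  intro G _ _ hn ⟨a, b, hcard⟩
  by_cases hsimple : ∃ N : Subgroup G, N.Normal ∧ N ≠ ⊥ ∧ N ≠ ⊤
  · obtain ⟨N, hNn, hNbot, hNtop⟩ := hsimple
    haveI := hNn
    have h1 : Group.IsSolvable N := by
      refine ih (Nat.card N) ?_ N rfl ?_
      · rw [← hn]; exact Cfsg.Agent.S0001.card_lt_of_ne_top hNtop
      · apply exists_of_dvd hp hq (a := a) (b := b)
        rw [← hcard]; exact Subgroup.card_subgroup_dvd_card N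
    have h2 : Group.IsSolvable (G ⧸ N) := by
      refine ih (Nat.card (G ⧸ N)) ?_ (G ⧸ N) rfl ?_
      · rw [← hn]; exact Cfsg.Agent.S0001.card_quotient_lt_of_ne_bot hNbot
      · apply exists_of_dvd hp hq (a := a) (b := b)
        rw [← hcard]; exact Subgroup.card_quotient_dvd_card N
    refine Group.isSolvable_of_ker_le_range N.subtype (QuotientGroup.mk' N) ?_
    rw [QuotientGroup.ker_mk', Subgroup.range_subtype]
  · push_neg at hsimple
    by_cases htriv : Subsingleton G
    · infer_instance
    · rw [not_subsingleton_iff_nontrivial] at htriv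
      haveI : IsSimpleGroup G := by
        refine { exists_pair_ne := htriv.exists_pair_ne, eq_bot_or_eq_top_of_normal := ?_ }
        intro N hN
        by_cases hb : N = ⊥
        · exact Or.inl hb
        · exact Or.inr (hsimple N hN hb)
      exact solvable_of_simple p q a b hp hq hcard

/-- The Burnside two-prime Theorem: a finite group of order p ^ a * q ^ b, for primes p and q, is solvable. -/
theorem result {G : Type*} [Group G] [Finite G] (p q a b : ℕ) (hp : p.Prime) (hq : q.Prime) (hcard : Nat.card G = p ^ a * q ^ b) : Group.IsSolvable G := by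
  exact burnside_aux p q hp hq _ G rfl ⟨a, b, hcard⟩

end Cfsg.Agent.S0144
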