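import Mathlib
import Cfsg.Statements.S0111

set_option autoImplicit false
open Cfsg

namespace Cfsg.Agent.S0111

open scoped Classical in
/-- the sign homomorphism of a subgroup of relative index two (pattern from helper16's S3225) -/
noncomputable def signHom {G : Type*} [Group G] (S M : Subgroup G) (hM : M.relIndex S = 2) : ↥S →* ℤˣ where
  toFun s := if (s : G) ∈ M then 1 else -1
  map_one' := by simp [M.one_mem]
  map_mul' a b := by
    have h := Subgroup.mul_mem_iff_of_index_two (H := M.subgroupOf S) hM (a := a) (b := b)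
    simp only [Subgroup.mem_subgroupOf, Subgroup.coe_mul] at h
    by_cases ha : (a : G) ∈ M <;> by_cases hb : (b : G) ∈ M <;> simp_all

lemma signHom_apply_of_mem {G : Type*} [Group G] (S M : Subgroup G) (hM : M.relIndex S = 2) (s : ↥S)
    (hs : (s : G) ∈ M) : signHom S M hM s = 1 := by
  simp [signHom, hs]

lemma signHom_apply_of_not_mem {G : Type*} [Group G] (S M : Subgroup G) (hM : M.relIndex S = 2) (s : ↥S)
    (hs : (s : G) ∉ M) : signHom S M hM s = -1 := by
  simp [signHom, hs]

/-- The Thompson transfer lemma states that an involution of a Sylow 2-subgroup P lying outside a subgroup Q of index 2 in P either lies outside some normal subgroup of index 2 in G or is conjugate to an element of Q. -/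
theorem result {G : Type*} [Group G] [Finite G] (P : Sylow 2 G) (Q : Subgroup G) (hQP : Q ≤ (P : Subgroup G)) (hQi : Q.relIndex (P : Subgroup G) = 2) (u : G) (hu : orderOf u = 2) (huP : u ∈ (P : Subgroup G)) (huQ : u ∉ Q) : (∃ M : Subgroup G, M.Normal ∧ M.index = 2 ∧ u ∉ M) ∨ ∃ g : G, g * u * g⁻¹ ∈ Q := by
  classical
  have : Fact (Nat.Prime 2) := ⟨Nat.prime_two⟩
  by_contra hcon
  rw [not_or] at hcon
  obtain ⟨hcon1, hcon2⟩ := hcon
  have hcon2' : ∀ g : G, g * u * g⁻¹ ∉ Q := fun g hg => hcon2 ⟨g, hg⟩
  set ε := signHom (P : Subgroup G) Q hQi with hε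
  set V : G →* ℤˣ := MonoidHom.transfer ε with hV
  let _ : Fintype (Quotient (MulAction.orbitRel (Subgroup.zpowers u) (G ⧸ (P : Subgroup G)))) := Fintype.ofFinite _
  have hformula := MonoidHom.transfer_eq_prod_quotient_orbitRel_zpowers_quot ε u
  have hsum := Subgroup.index_eq_sum_minimalPeriod (P : Subgroup G) u
  have key : ∀ (r : ℕ) (g : G) (hmem : g⁻¹ * u ^ r * g ∈ (P : Subgroup G)), r ∣ 2 →
      ε ⟨g⁻¹ * u ^ r * g, hmem⟩ = (-1 : ℤˣ) ^ r := by
    intro r g hmemS hrdvd
    rcases (Nat.dvd_prime Nat.prime_two).1 hrdvd with hr | hr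
    · subst hr
      conv_rhs => rw [pow_one]
      apply signHom_apply_of_not_mem
      have := hcon2' g⁻¹
      simpa using this
    · subst hr
      have hu2 : u ^ 2 = 1 := by rw [← hu]; exact pow_orderOf_eq_one u
      rw [show ((-1 : ℤˣ)) ^ 2 = 1 from by decide]
      apply signHom_apply_of_mem
      simp only [hu2, mul_one, inv_mul_cancel]
      exact Q.one_mem
  have hterm : ∀ q : Quotient (MulAction.orbitRel (Subgroup.zpowers u) (G ⧸ (P : Subgroup G))),
      ε ⟨q.out.out⁻¹ * u ^ Function.minimalPeriod (u • ·) q.out * q.out.out,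
            QuotientGroup.out_conj_pow_minimalPeriod_mem (P : Subgroup G) u q.out⟩ =
        (-1 : ℤˣ) ^ Function.minimalPeriod (u • ·) q.out := by
    intro q
    apply key
    apply Function.IsPeriodicPt.minimalPeriod_dvd
    show (u • ·)^[2] q.out = q.out
    have hu2 : u ^ 2 = 1 := by rw [← hu]; exact pow_orderOf_eq_one u
    rw [smul_iterate, hu2]
    exact one_smul _ _
  have hodd : Odd (P : Subgroup G).index := by
    rw [← Nat.not_even_iff_odd, even_iff_two_dvd]
    exact P.not_dvd_index
  have hVu : V u = -1 := by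
    rw [hformula]
    rw [Finset.prod_congr rfl (fun q _ => hterm q), Finset.prod_pow_eq_pow_sum, ← hsum,
      hodd.neg_one_pow]
  apply hcon1
  refine ⟨V.ker, MonoidHom.normal_ker V, ?_, ?_⟩
  · have h1 : V.ker.index = Nat.card V.range := Subgroup.index_ker V
    have h3 : Nat.card ℤˣ = 2 := by
      rw [Nat.card_eq_fintype_card]; rfl
    have htop : V.range = ⊤ := by
      rw [eq_top_iff]
      intro x _
      rcases Int.units_eq_one_or x with hx | hx
      · rw [hx]; exact Subgroup.one_mem _
      · rw [hx, ← hVu]; exact ⟨u, rfl⟩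
    rw [h1, htop, Subgroup.card_top, h3]
  · intro hmem
    rw [MonoidHom.mem_ker, hVu] at hmem
    exact absurd hmem (by decide)

end Cfsg.Agent.S0111
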