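import Cfsg.Statements.S3278
import Cfsg.Agent.S0494
import Cfsg.Agent.Lib.Lead.SylowTools
import Cfsg.Agent.Lib.Helper7.BrOrd1
import Cfsg.Agent.Lib.Helper16.KFSYL
import Cfsg.Agent.Lib.Helper16.KFARITH
import Cfsg.Agent.Lib.Helper22.KFCENT
import Cfsg.Agent.Lib.Helper22.KFFINAL
import Cfsg.Agent.Lib.Helper28.KFBURN

set_option autoImplicit false
open Cfsg

namespace Cfsg.Agent.S3278

open Cfsg.Agent.Helper16.KF

/-- Let G be a finite simple group with an involution x such that a Sylow 2-subgroup of C_G(x) is a Klein four-group which is normal in C_G(x). Then G is isomorphic to the alternating group of degree 5 (that is, to PSL(2, 5)). -/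
theorem result {G : Type*} [Group G] [Finite G] [IsSimpleGroup G] (x : G) (hx : orderOf x = 2)
    (S₀ : Subgroup G) (hle : S₀ ≤ Subgroup.centralizer ({x} : Set G)) (hK : IsKleinFour ↥S₀)
    (hodd : ¬ 2 ∣ S₀.relIndex (Subgroup.centralizer ({x} : Set G))) (hn : (S₀.subgroupOf (Subgroup.centralizer ({x} : Set G))).Normal) :
    Nonempty (G ≃* ↥(alternatingGroup (Fin 5))) := by
  have hF : Fact (Nat.Prime 2) := ⟨Nat.prime_two⟩
  have h4 : Nat.card ↥S₀ = 4 := hK.card_four
  have hdvd : 4 ∣ Nat.card G := by rw [← h4]; exact Subgroup.card_subgroup_dvd_card S₀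
  have hpos : 0 < Nat.card G := Nat.card_pos
  -- `G` is not of prime order, hence nonabelian
  have hnp : ¬ (Nat.card G).Prime := by
    intro hp
    have := (Nat.dvd_prime hp).1 hdvd
    rcases this with h | h
    · norm_num at h
    · rw [← h] at hp; norm_num at hp
  obtain ⟨y₁, y₂, hy⟩ := Cfsg.Agent.Lead.nonabelian_of_not_prime hnp
  -- no normal subgroup of index two
  have hno : ∀ M : Subgroup G, M.Normal → M.index ≠ 2 := by
    intro M hM hidx
    rcases hM.eq_bot_or_eq_top with h | h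
    · rw [h, Subgroup.index_bot] at hidx
      rw [hidx] at hdvd
      norm_num at hdvd
    · rw [h, Subgroup.index_top] at hidx
      norm_num at hidx
  obtain ⟨hxS, hcent⟩ := cent_eq x hx S₀ hle hK hodd hn
  have h8 : ¬ 8 ∣ Nat.card G := not_eight_dvd hno x hx S₀ hle h4 hodd hxS
  obtain ⟨g₀, hG⟩ := hdvd
  have hg₀ : Odd g₀ := by
    by_contra hcon
    rw [Nat.not_odd_iff_even] at hcon
    obtain ⟨r, hr⟩ := hcon
    apply h8
    rw [hG, hr]
    exact ⟨r, by ring⟩
  -- no normal subgroup of order `g₀`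
  have hnc : ¬ ∃ N : Subgroup G, N.Normal ∧ Nat.card N = g₀ := by
    rintro ⟨N, hN, hNc⟩
    rcases hN.eq_bot_or_eq_top with h | h
    · -- `g₀ = 1`, `|G| = 4`, `G = S₀` is commutative
      rw [h, Subgroup.card_bot] at hNc
      have hG4 : Nat.card G = 4 := by rw [hG, ← hNc]
      have htop : S₀ = ⊤ := Subgroup.eq_top_of_card_eq S₀ (by rw [h4, hG4])
      apply hy
      have h1 : y₁ ∈ S₀ := by rw [htop]; trivial
      have h2 : y₂ ∈ S₀ := by rw [htop]; trivial
      have := mul_comm_of_exponent_two (IsKleinFour.exponent_two (G := ↥S₀)) (⟨y₁, h1⟩ : ↥S₀) ⟨y₂, h2⟩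
      exact congrArg Subtype.val this
    · rw [h, Subgroup.card_top, hG] at hNc
      obtain ⟨r, hr⟩ := hg₀
      omega
  -- the Sylow 2-subgroup
  have hfac : (Nat.card G).factorization 2 = 2 := by
    rw [hG]; exact Cfsg.Agent.Helper7.factorization_four_mul_odd hg₀
  let P : Sylow 2 G := Sylow.ofCard S₀ (by rw [h4, hfac]; norm_num)
  have hPS : (P : Subgroup G) = S₀ := rfl
  have hKP : IsKleinFour (P : Subgroup G) := hK
  have h3 := three_mul_card_le g₀ hg₀ hG hnc P
  have hlt := card_lt g₀ hg₀ hG hnc P x hxS hx hcent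
  have h60 := card_eq_sixty g₀ hg₀ hG P hKP h3 hlt
  exact Cfsg.Agent.S0494.result h60

end Cfsg.Agent.S3278
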