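import Mathlib
import Cfsg.Statements.S0910
import Cfsg.Agent.S0142
import Cfsg.Agent.Lib.Helper24.CharIntegral
import Cfsg.Agent.Lib.Helper1.CharScalar
import Cfsg.Agent.Lib.Helper23.BlockLocal

set_option autoImplicit false
open Cfsg

namespace Cfsg.Agent.S0910

open Cfsg.Agent.Helper24 Cfsg.Agent.Helper1 Cfsg.Agent.Helper23.Blk

open scoped ComplexConjugate

universe u

/-- In a nonabelian simple group, a nonprincipal irreducible character vanishes at every nonidentity
element whose class size is prime to the degree. -/
theorem char_eq_zero_of_coprime {G : Type u} [Group G] [Fintype G] [IsSimpleGroup G]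
    (hnc : ¬ ∀ a b : G, a * b = b * a) {χ : G → ℂ} (hχ : IsIrrCharacter G χ)
    (hχ1 : χ ≠ fun _ => (1 : ℂ)) (g : G) (hg : g ≠ 1) (d : ℕ) (hd : χ 1 = d)
    (hcop : Nat.Coprime d (Subgroup.centralizer ({g} : Set G)).index) : χ g = 0 := by
  classical
  have hirr := hχ
  obtain ⟨n, ρ, hρ, rfl⟩ := hχ
  haveI := hρ
  rw [Representation.char_one] at hd
  have hd' : Module.finrank ℂ (Fin n → ℂ) = d := by exact_mod_cast hd
  rw [← hd'] at hcop
  rcases Cfsg.Agent.S0142.result ρ g hcop with h0 | h1
  · exact h0
  · exfalso
    obtain ⟨c, hc⟩ := rep_scalar_of_norm_char_eq ρ g h1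
    have hcomm := rep_commutator_eq_one_of_scalar ρ hc
    have hker : (MonoidHom.ker ρ).Normal := MonoidHom.normal_ker ρ
    rcases hker.eq_bot_or_eq_top with hb | ht
    · apply hnc
      have hcen : g ∈ Subgroup.center G := by
        rw [Subgroup.mem_center_iff]
        intro x
        have : g * x * g⁻¹ * x⁻¹ ∈ MonoidHom.ker ρ := MonoidHom.mem_ker.mpr (hcomm x)
        rw [hb, Subgroup.mem_bot] at this
        have h2 : g * x = x * g := by
          calc g * x = (g * x * g⁻¹ * x⁻¹) * (x * g) := by group
            _ = x * g := by rw [this, one_mul]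
        exact h2.symm
      have hn : (Subgroup.center G).Normal := inferInstance
      rcases hn.eq_bot_or_eq_top with h | h
      · rw [h, Subgroup.mem_bot] at hcen
        exact absurd hcen hg
      · intro a b
        have : b ∈ Subgroup.center G := by rw [h]; trivial
        exact Subgroup.mem_center_iff.mp this a
    · have htriv : ∀ x, ρ x = 1 := fun x => by
        have : x ∈ MonoidHom.ker ρ := by rw [ht]; trivial
        exact MonoidHom.mem_ker.mp this
      have hchar : ρ.character = fun _ => (d : ℂ) := by
        funext x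
        rw [Representation.character, htriv x]
        simp [← hd']
      have horth := irr_orthogonality hirr (isIrrCharacter_one (G := G))
      rw [if_neg hχ1] at horth
      rw [hchar, classInner] at horth
      simp only [map_one, mul_one, Finset.sum_const, Finset.card_univ, nsmul_eq_mul] at horth
      have hcard : (Nat.card G : ℂ) ≠ 0 := by exact_mod_cast (Nat.card_pos (α := G)).ne'
      rw [← Nat.card_eq_fintype_card, ← mul_assoc, inv_mul_cancel₀ hcard, one_mul] at horth
      have hd0 : d = 0 := by exact_mod_cast horth
      have : 0 < Module.finrank ℂ (Fin n → ℂ) := by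
        rw [isIrreducible_iff] at hρ
        obtain ⟨hnt, -⟩ := hρ
        exact Module.finrank_pos
      omega

theorem result {G : Type*} [Group G] [Finite G] (p : ℕ) [Fact p.Prime] (M : Ideal Cfsg.AlgInt) (hM : Cfsg.IsPModular p M) [IsSimpleGroup G] (hna : ∃ a b : G, a * b ≠ b * a) (χ : Cfsg.IrrCharacter G) (hχ : χ ∈ Cfsg.principalBlock M G) (k : ℕ) (hdeg : (χ : G → ℂ) 1 = (p : ℂ) ^ k) : (χ : G → ℂ) = fun _ => 1 := by
  classical
  haveI : Fintype G := Fintype.ofFinite G
  have hp : p.Prime := Fact.out
  haveI : M.IsPrime := isPrime_of_isPModular hM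
  by_contra hχ1
  have hnc : ¬ ∀ a b : G, a * b = b * a := by
    intro h
    obtain ⟨a, b, hab⟩ := hna
    exact hab (h a b)
  -- an element with class size prime to `p`
  obtain ⟨z, hz1, hzp⟩ : ∃ z : G, z ≠ 1 ∧ ¬ p ∣ (Subgroup.centralizer ({z} : Set G)).index := by
    by_cases hpG : p ∣ Nat.card G
    · obtain ⟨P⟩ : Nonempty (Sylow p G) := inferInstance
      have hPcard : Nat.card P = p ^ (Nat.card G).factorization p := P.card_eq_multiplicity
      have hfac : 0 < (Nat.card G).factorization p :=
        hp.factorization_pos_of_dvd (Nat.card_pos (α := G)).ne' hpG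
      haveI : Nontrivial P := by
        rw [← Finite.one_lt_card_iff_nontrivial, hPcard]
        exact Nat.one_lt_pow hfac.ne' hp.one_lt
      haveI : Nontrivial (Subgroup.center P) := IsPGroup.center_nontrivial P.2
      obtain ⟨z', hz'⟩ := exists_ne (1 : Subgroup.center P)
      refine ⟨((z' : P) : G), ?_, ?_⟩
      · intro h
        apply hz'
        apply Subtype.ext
        apply Subtype.ext
        exact h
      · have hle : (P : Subgroup G) ≤ Subgroup.centralizer ({((z' : P) : G)} : Set G) := by
          intro x hx
          rw [Subgroup.mem_centralizer_iff]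
          intro y hy
          rw [Set.mem_singleton_iff] at hy
          rw [hy]
          have := Subgroup.mem_center_iff.mp z'.2 ⟨x, hx⟩
          exact (congrArg Subtype.val this).symm
        intro hdvd
        exact P.not_dvd_index (dvd_trans hdvd (Subgroup.index_dvd_of_le hle))
    · obtain ⟨a, b, hab⟩ := hna
      have : ∃ z : G, z ≠ 1 := by
        by_contra h
        push Not at h
        apply hab
        rw [h a, h b]
      obtain ⟨z, hz⟩ := this
      refine ⟨z, hz, ?_⟩
      intro hdvd
      exact hpG (dvd_trans hdvd (Subgroup.index_dvd_card _))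
  have hcop : Nat.Coprime (p ^ k) (Subgroup.centralizer ({z} : Set G)).index :=
    Nat.Coprime.pow_left k ((Nat.Prime.coprime_iff_not_dvd hp).mpr hzp)
  have hχz : (χ : G → ℂ) z = 0 :=
    char_eq_zero_of_coprime hnc χ.2 hχ1 z hz1 (p ^ k) (by rw [hdeg]; push_cast; rfl) hcop
  have hblock := hχ z
  unfold centralChar at hblock
  rw [hχz, mul_zero, zero_div, sub_zero, mul_one, div_one] at hblock
  exact hzp ((memLocalIdeal_natCast_iff hM _).mp hblock)

end Cfsg.Agent.S0910
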