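import Mathlib
import Cfsg.Statements.S0904
import Cfsg.Agent.S0910
import Cfsg.Agent.Lib.Helper23.BlockDefectZero
import Cfsg.Agent.Lib.Helper24.GlaubPGroup
import Cfsg.Agent.Lib.Helper24.CharOrtho
import Cfsg.Agent.Lib.Helper24.CharIntegral
import Cfsg.Agent.Lib.Helper24.CharComplete

set_option autoImplicit false
open Cfsg

namespace Cfsg.Agent.S0904

open Cfsg.Agent.Helper24 Cfsg.Agent.Helper23.Blk

open scoped ComplexConjugate

universe u

/-- A rational prime has no algebraic-integer inverse up to sign. -/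
theorem not_isIntegral_of_prime_mul {q : ℕ} (hq : q.Prime) {β : ℂ} (hβ : IsIntegral ℤ β)
    (h : (q : ℂ) * β = -1) : False := by
  have hq0 : (q : ℂ) ≠ 0 := by exact_mod_cast hq.ne_zero
  have h1 : β = algebraMap ℚ ℂ (-(1 : ℚ) / (q : ℚ)) := by
    have : β = -1 / (q : ℂ) := by
      rw [eq_div_iff hq0, mul_comm]
      exact h
    rw [this]
    simp
  rw [h1, isIntegral_algebraMap_iff (algebraMap ℚ ℂ).injective] at hβ
  obtain ⟨m, hm⟩ := IsIntegrallyClosed.isIntegral_iff.mp hβ
  have hq0' : (q : ℚ) ≠ 0 := by exact_mod_cast hq.ne_zero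
  have h3 : (m : ℚ) * q = -1 := by
    have : (algebraMap ℤ ℚ m) = (m : ℚ) := rfl
    rw [this] at hm
    rw [hm]
    field_simp
  have h4 : m * (q : ℤ) = -1 := by exact_mod_cast h3
  have h5 : (q : ℤ) ∣ 1 := ⟨-m, by linarith⟩
  have h6 : q ∣ 1 := by exact_mod_cast h5
  exact hq.one_lt.ne' (Nat.dvd_one.mp h6)

/-- In a nonabelian simple group of order `p ^ a * q ^ b * r`, no element has order divisible by
both `p` and `r`. -/
theorem no_mixed_element {G : Type u} [Group G] [Finite G] [IsSimpleGroup G] (p q r a b : ℕ)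
    (hp : p.Prime) (hq : q.Prime) (hr : r.Prime) (hpq : p ≠ q) (hpr : p ≠ r) (hqr : q ≠ r)
    (hcard : Nat.card G = p ^ a * q ^ b * r) (hna : ∃ x y : G, x * y ≠ y * x)
    (u : G) (hup : p ∣ orderOf u) (hur : r ∣ orderOf u) : False := by
  classical
  haveI : Fintype G := Fintype.ofFinite G
  letI : Fintype (IrrCharacter G) := irrFintype
  haveI : Fact p.Prime := ⟨hp⟩
  haveI hrF : Fact r.Prime := ⟨hr⟩
  obtain ⟨M, hM⟩ := Cfsg.Agent.Helper24.Glaub.exists_isPModular hp
  obtain ⟨M', hM'⟩ := Cfsg.Agent.Helper24.Glaub.exists_isPModular hr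
  haveI hMp : M.IsPrime := isPrime_of_isPModular hM
  haveI hMp' : M'.IsPrime := isPrime_of_isPModular hM'
  set B₀ : Set (IrrCharacter G) := principalBlock M G with hB₀
  have hB : IsPBlock M B₀ := ⟨principalChar G, rfl⟩
  have h0 := blockCoeff_eq_zero_of_pSingular hM hB hup
  unfold blockCoeff at h0
  have hcardne : (Nat.card G : ℂ)⁻¹ ≠ 0 := by
    apply inv_ne_zero
    exact_mod_cast (Nat.card_pos (α := G)).ne'
  have h1 := (mul_eq_zero.1 h0).resolve_left hcardne
  rw [finsum_mem_eq_finite_toFinset_sum _ (Set.toFinite B₀)] at h1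
  have hprin : principalChar G ∈ (Set.toFinite B₀).toFinset := by
    rw [Set.Finite.mem_toFinset]
    exact mem_blockOf_self (principalChar G)
  rw [← Finset.add_sum_erase _ _ hprin] at h1
  have hterm1 : ((principalChar G : IrrCharacter G) : G → ℂ) 1 *
      conj (((principalChar G : IrrCharacter G) : G → ℂ) u) = 1 := by
    simp [principalChar]
  rw [hterm1] at h1
  -- every other term is `q` times an algebraic integer
  have hkey : ∀ χ ∈ ((Set.toFinite B₀).toFinset).erase (principalChar G),
      ∃ α : ℂ, IsIntegral ℤ α ∧ (χ : G → ℂ) 1 * conj ((χ : G → ℂ) u) = (q : ℂ) * α := by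
    intro χ hχ
    rw [Finset.mem_erase, Set.Finite.mem_toFinset] at hχ
    obtain ⟨hχne, hχB⟩ := hχ
    have hdvd := charDegree_dvd_card χ.2
    have hpos := charDegree_pos χ.2
    have hone := irr_one_eq_charDegree χ.2
    rw [hcard] at hdvd
    by_cases hrd : r ∣ charDegree (χ : G → ℂ)
    · -- `r`-defect zero: vanishes at `u`
      refine ⟨0, isIntegral_zero, ?_⟩
      rw [mul_zero]
      have hnd : ¬ r ∣ Nat.card G / charDegree (χ : G → ℂ) := by
        obtain ⟨d', hd'⟩ := hrd
        obtain ⟨c, hc⟩ := hdvd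
        have hc' : Nat.card G / charDegree (χ : G → ℂ) = c := by
          rw [hcard, hc, Nat.mul_div_cancel_left _ hpos]
        rw [hc']
        have h2 : p ^ a * q ^ b = d' * c := by
          have h3 : r * (p ^ a * q ^ b) = r * (d' * c) := by
            rw [← mul_assoc r d' c, ← hd', ← hc]
            ring
          exact Nat.eq_of_mul_eq_mul_left hr.pos h3
        intro hrc
        have h4 : r ∣ p ^ a * q ^ b := by
          rw [h2]
          exact Dvd.dvd.mul_left hrc d'
        rcases (Nat.Prime.dvd_mul hr).mp h4 with h5 | h5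
        · have := (Nat.prime_dvd_prime_iff_eq hr hp).mp (hr.dvd_of_dvd_pow h5)
          exact hpr this.symm
        · have := (Nat.prime_dvd_prime_iff_eq hr hq).mp (hr.dvd_of_dvd_pow h5)
          exact hqr this.symm
      have hsing := (not_dvd_iff_blockOf_eq_singleton (p := r) hM' χ).mp hnd
      have hblock : IsPBlock M' ({χ} : Set (IrrCharacter G)) := ⟨χ, hsing.symm⟩
      have h2 := blockCoeff_eq_zero_of_pSingular hM' hblock hur
      rw [blockCoeff_singleton] at h2
      exact (mul_eq_zero.1 h2).resolve_left hcardne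
    · -- degree divides `p ^ a * q ^ b`
      have hcop : Nat.Coprime (charDegree (χ : G → ℂ)) r :=
        (Nat.Coprime.symm ((Nat.Prime.coprime_iff_not_dvd hr).mpr hrd))
      have hdvd2 : charDegree (χ : G → ℂ) ∣ p ^ a * q ^ b := hcop.dvd_of_dvd_mul_right hdvd
      by_cases hqd : q ∣ charDegree (χ : G → ℂ)
      · obtain ⟨d', hd'⟩ := hqd
        refine ⟨(d' : ℂ) * conj ((χ : G → ℂ) u), ?_, ?_⟩
        · have hd'int : IsIntegral ℤ (d' : ℂ) := by
            have := isIntegral_algebraMap (R := ℤ) (A := ℂ) (x := (d' : ℤ))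
            simpa using this
          apply IsIntegral.mul hd'int
          rw [← irr_inv (isCharacter_of_isIrrCharacter χ.2)]
          exact isIntegral_of_isCharacter (isCharacter_of_isIrrCharacter χ.2) _
        · rw [hone, hd']
          push_cast
          ring
      · exfalso
        have hcop2 : Nat.Coprime (charDegree (χ : G → ℂ)) (q ^ b) :=
          Nat.Coprime.pow_right b
            (Nat.Coprime.symm ((Nat.Prime.coprime_iff_not_dvd hq).mpr hqd))
        have hdvd3 : charDegree (χ : G → ℂ) ∣ p ^ a := hcop2.dvd_of_dvd_mul_right hdvd2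
        obtain ⟨k, -, hk⟩ := (Nat.dvd_prime_pow hp).mp hdvd3
        have hdeg : (χ : G → ℂ) 1 = (p : ℂ) ^ k := by
          rw [hone, hk]
          push_cast
          rfl
        have := Cfsg.Agent.S0910.result p M hM hna χ hχB k hdeg
        apply hχne
        apply Subtype.ext
        exact this
  choose! α hαint hαeq using hkey
  rw [Finset.sum_congr rfl hαeq, ← Finset.mul_sum] at h1
  apply not_isIntegral_of_prime_mul hq
    (IsIntegral.sum _ (fun χ hχ => hαint χ hχ))
  linear_combination h1

/-- Let G be a finite simple group of order p ^ a * q ^ b * r with p, q, r distinct primes. Then every Sylow r-subgroup S of G satisfies C_G(S) = S. -/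
theorem result {G : Type*} [Group G] [Finite G] [IsSimpleGroup G] (p q r a b : ℕ) (hp : p.Prime) (hq : q.Prime) [Fact r.Prime] (hpq : p ≠ q) (hpr : p ≠ r) (hqr : q ≠ r) (hcard : Nat.card G = p ^ a * q ^ b * r) (S : Sylow r G) : Subgroup.centralizer (S : Set G) = (S : Subgroup G) := by
  classical
  have hr : r.Prime := Fact.out
  -- the order of `S` is `r`
  have hfac : (Nat.card G).factorization r = 1 := by
    rw [hcard]
    have h1 : p ^ a * q ^ b ≠ 0 := by
      apply mul_ne_zero <;> apply pow_ne_zero
      · exact hp.ne_zero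
      · exact hq.ne_zero
    rw [Nat.factorization_mul h1 hr.ne_zero,
      Nat.factorization_mul (pow_ne_zero _ hp.ne_zero) (pow_ne_zero _ hq.ne_zero)]
    simp only [Nat.factorization_pow, Finsupp.coe_add, Finsupp.coe_smul, Pi.add_apply,
      Pi.smul_apply, smul_eq_mul]
    have hrp : ¬ r ∣ p := by
      intro h
      exact hpr ((Nat.prime_dvd_prime_iff_eq hr hp).mp h).symm
    have hrq : ¬ r ∣ q := by
      intro h
      exact hqr ((Nat.prime_dvd_prime_iff_eq hr hq).mp h).symm
    rw [Nat.factorization_eq_zero_of_not_dvd hrp, Nat.factorization_eq_zero_of_not_dvd hrq,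
      hr.factorization_self]
    omega
  have hScard : Nat.card (S : Subgroup G) = r := by
    rw [S.card_eq_multiplicity, hfac, pow_one]
  -- `S` is commutative
  have hScomm : ∀ x ∈ (S : Subgroup G), ∀ y ∈ (S : Subgroup G), x * y = y * x := by
    haveI : Fact (Nat.card (S : Subgroup G)).Prime := ⟨by rw [hScard]; exact hr⟩
    haveI : IsCyclic (S : Subgroup G) := isCyclic_of_prime_card rfl
    intro x hx y hy
    have := (IsCyclic.isMulCommutative (α := (S : Subgroup G))).is_comm.comm ⟨x, hx⟩ ⟨y, hy⟩
    exact congrArg Subtype.val this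
  have hle : (S : Subgroup G) ≤ Subgroup.centralizer (S : Set G) := by
    intro x hx
    rw [Subgroup.mem_centralizer_iff]
    intro y hy
    exact hScomm y hy x hx
  by_cases hcomm : ∀ x y : G, x * y = y * x
  · -- abelian case: `G` has prime order
    letI : CommGroup G := { ‹Group G› with mul_comm := hcomm }
    have hprime : (Nat.card G).Prime := IsSimpleGroup.prime_card
    have hrG : r ∣ Nat.card G := by
      rw [hcard]
      exact Dvd.intro_left _ rfl
    have hGr : r = Nat.card G := (Nat.prime_dvd_prime_iff_eq hr hprime).mp hrG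
    have hStop : (S : Subgroup G) = ⊤ := by
      apply Subgroup.eq_top_of_card_eq
      rw [hScard, hGr]
    rw [hStop]
    apply le_antisymm le_top
    rw [← hStop]
    exact hle
  · -- nonabelian case
    have hna : ∃ x y : G, x * y ≠ y * x := by
      push Not at hcomm
      exact hcomm
    by_contra hne
    have hlt : (S : Subgroup G) < Subgroup.centralizer (S : Set G) :=
      lt_of_le_of_ne hle (fun h => hne h.symm)
    set C : Subgroup G := Subgroup.centralizer (S : Set G) with hC
    have hdvd1 : Nat.card (S : Subgroup G) ∣ Nat.card C := Subgroup.card_dvd_of_le hle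
    have hdvd2 : Nat.card C ∣ Nat.card G := Subgroup.card_subgroup_dvd_card C
    obtain ⟨m, hm⟩ := hdvd1
    rw [hScard] at hm
    have hm1 : m ≠ 1 := by
      intro h1
      rw [h1, mul_one] at hm
      have : (S : Subgroup G) = C := by
        apply Subgroup.eq_of_le_of_card_ge hle
        rw [hScard, hm]
      exact hne this.symm
    have hmdvd : m ∣ p ^ a * q ^ b := by
      rw [hm, hcard, mul_comm r m] at hdvd2
      exact Nat.dvd_of_mul_dvd_mul_right hr.pos hdvd2
    obtain ⟨ℓ, hℓ, hℓm⟩ := Nat.exists_prime_and_dvd hm1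
    have hℓC : ℓ ∣ Nat.card C := by
      rw [hm]
      exact Dvd.dvd.mul_left hℓm r
    haveI : Fact ℓ.Prime := ⟨hℓ⟩
    obtain ⟨y, hy⟩ := exists_prime_orderOf_dvd_card' ℓ hℓC
    have hrS : r ∣ Nat.card (S : Subgroup G) := by rw [hScard]
    obtain ⟨x, hx⟩ := exists_prime_orderOf_dvd_card' r hrS
    have hxy : Commute (x : G) (y : G) := by
      have := (Subgroup.mem_centralizer_iff.mp y.2) (x : G) x.2
      exact this
    have hℓr : ℓ ≠ r := by
      intro h
      rw [h] at hℓm
      have h4 : r ∣ p ^ a * q ^ b := dvd_trans hℓm hmdvd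
      rcases (Nat.Prime.dvd_mul hr).mp h4 with h5 | h5
      · have := (Nat.prime_dvd_prime_iff_eq hr hp).mp (hr.dvd_of_dvd_pow h5)
        exact hpr this.symm
      · have := (Nat.prime_dvd_prime_iff_eq hr hq).mp (hr.dvd_of_dvd_pow h5)
        exact hqr this.symm
    have hox : orderOf (x : G) = r := by rw [Subgroup.orderOf_coe, hx]
    have hoy : orderOf (y : G) = ℓ := by rw [Subgroup.orderOf_coe, hy]
    have hord : orderOf ((x : G) * (y : G)) = r * ℓ := by
      rw [hxy.orderOf_mul_eq_mul_orderOf_of_coprime, hox, hoy]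
      rw [hox, hoy]
      exact (Nat.coprime_primes hr hℓ).mpr (Ne.symm hℓr)
    have hℓpq : ℓ ∣ p ^ a * q ^ b := dvd_trans hℓm hmdvd
    rcases (Nat.Prime.dvd_mul hℓ).mp hℓpq with h5 | h5
    · have hℓp : ℓ = p := (Nat.prime_dvd_prime_iff_eq hℓ hp).mp (hℓ.dvd_of_dvd_pow h5)
      apply no_mixed_element p q r a b hp hq hr hpq hpr hqr hcard hna ((x : G) * (y : G))
      · rw [hord, hℓp]
        exact Dvd.intro_left _ rfl
      · rw [hord]
        exact Dvd.intro _ rfl
    · have hℓq : ℓ = q := (Nat.prime_dvd_prime_iff_eq hℓ hq).mp (hℓ.dvd_of_dvd_pow h5)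
      have hcard' : Nat.card G = q ^ b * p ^ a * r := by
        rw [hcard]
        ring
      apply no_mixed_element q p r b a hq hp hr (Ne.symm hpq) hqr hpr hcard' hna
        ((x : G) * (y : G))
      · rw [hord, hℓq]
        exact Dvd.intro_left _ rfl
      · rw [hord]
        exact Dvd.intro _ rfl

end Cfsg.Agent.S0904
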