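import Mathlib
import Cfsg.Statements.S0800
import Cfsg.Agent.Lib.Helper12.SL2Pow

set_option autoImplicit false
open Cfsg

namespace Cfsg.Agent.S0800

open Cfsg.Agent.Helper12

/-- Tori of SL_2(q): if g ∈ SL_2(q) has order coprime to the characteristic p, then the order of g divides q − 1 or q + 1. -/
theorem result {F : Type*} [Field F] [Fintype F] {q : ℕ} (hF : Fintype.card F = q) (p : ℕ) [Fact p.Prime] [CharP F p] (g : Matrix.SpecialLinearGroup (Fin 2) F) (hg : Nat.Coprime (orderOf g) p) : orderOf g ∣ q - 1 ∨ orderOf g ∣ q + 1 := by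
  classical
  subst hF
  have hq1 : 1 < Fintype.card F := Fintype.one_lt_card
  set M : Matrix (Fin 2) (Fin 2) F := (g : Matrix (Fin 2) (Fin 2) F) with hM
  have hdet : M.det = 1 := g.2
  -- powers
  have hpow : ∀ k : ℕ, M ^ k = 1 → orderOf g ∣ k := by
    intro k hk
    apply orderOf_dvd_of_pow_eq_one
    apply Subtype.ext
    rw [Matrix.SpecialLinearGroup.coe_pow, Matrix.SpecialLinearGroup.coe_one]
    exact hk
  have hp2 : Even (Fintype.card F) → p = 2 := by
    intro hev
    obtain ⟨n, hn⟩ := FiniteField.card F p
    have h2 : 2 ∣ (p : ℕ) ^ (n : ℕ) := by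
      rw [← hn.2]; exact hev.two_dvd
    exact ((Nat.prime_dvd_prime_iff_eq Nat.prime_two hn.1).1
      (Nat.Prime.dvd_of_dvd_pow Nat.prime_two h2)).symm
  by_cases hroot : ∃ l : F, l ^ 2 - M.trace * l + 1 = 0
  · obtain ⟨l, hl⟩ := hroot
    have hl0 : l ≠ 0 := by
      rintro rfl
      simp at hl
    by_cases hl1 : l ^ 2 = 1
    · -- unipotent up to sign
      have h1 := pow_char_eq_smul_of_root M hdet l hl hl1 p
      have h2 : M ^ (2 * p) = 1 := by
        rw [mul_comm, pow_mul, h1, smul_pow, one_pow, ← pow_mul, mul_comm, pow_mul, hl1, one_pow,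
          one_smul]
      have h3 := hpow _ h2
      have h4 : orderOf g ∣ 2 := (Nat.Coprime.dvd_mul_right hg).1 h3
      rcases Nat.even_or_odd (Fintype.card F) with hev | hodd
      · -- characteristic 2
        rw [hp2 hev] at hg
        have h5 : orderOf g ∣ 1 := by
          have := Nat.Coprime.dvd_of_dvd_mul_right hg (by simpa using h4 : orderOf g ∣ 1 * 2)
          exact this
        left
        exact h5.trans (one_dvd _)
      · left
        have : 2 ∣ Fintype.card F - 1 := by
          obtain ⟨m, hm⟩ := hodd
          omega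
        exact h4.trans this
    · left
      apply hpow
      have hk : l ^ (2 * (Fintype.card F - 1)) = 1 := by
        rw [mul_comm, pow_mul, FiniteField.pow_card_sub_one_eq_one l hl0, one_pow]
      rw [pow_eq_smul_of_root M hdet l hl hl1 _ hk, FiniteField.pow_card_sub_one_eq_one l hl0,
        one_smul]
  · right
    push Not at hroot
    obtain ⟨c, hc2, hc⟩ := pow_eq_smul_of_no_root M hdet hroot
    apply hpow
    rcases Nat.mod_two_eq_zero_or_one (Fintype.card F) with hev | hodd
    · rw [gcd_two_card_sub_one_of_even hev, Nat.div_one] at hc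
      have hchar2 : (2 : F) = 0 := by
        have h2 := hp2 (Nat.even_iff.2 hev)
        have := CharP.cast_eq_zero F p
        rw [h2] at this
        exact_mod_cast this
      have hc1 : c = 1 := by
        have : (c - 1) ^ 2 = 0 := by linear_combination hc2 - (c - 1) * hchar2
        exact sub_eq_zero.1 ((pow_eq_zero_iff (two_ne_zero)).1 this)
      rw [hc, hc1, one_smul]
    · have hk2 : 2 * ((Fintype.card F + 1) / Nat.gcd 2 (Fintype.card F - 1)) = Fintype.card F + 1 := by
        rw [gcd_two_card_sub_one_of_odd hodd]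
        omega
      rw [← hk2, mul_comm, pow_mul, hc, smul_pow, one_pow, hc2, one_smul]

end Cfsg.Agent.S0800
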