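import Mathlib
import Cfsg.Agent.Lib.Helper22.BSWTrans
import Cfsg.Agent.Lib.Helper22.Sharp3Final
import Cfsg.Statements.S1230
-- import your own Cfsg.Agent.* helpers here

set_option autoImplicit false
open Cfsg

namespace Cfsg.Agent.S1230

open Cfsg.Agent.Helper22.Sharp3 Cfsg.Agent.Helper22.BSW Matrix

/-- in characteristic two, `SL₂` of a field is `PSL₂` -/
theorem sl_equiv_psl {F : Type*} [Field F] (h2 : ∀ x : F, x + x = 0) :
    Nonempty (SpecialLinearGroup (Fin 2) F ≃* ProjectiveSpecialLinearGroup (Fin 2) F) := by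
  have hbot : Subgroup.center (SpecialLinearGroup (Fin 2) F) = ⊥ := by
    rw [eq_bot_iff]
    intro A hA
    rw [Matrix.SpecialLinearGroup.mem_center_iff] at hA
    obtain ⟨r, hr, hrA⟩ := hA
    rw [Fintype.card_fin, sq] at hr
    have h1 : (r + 1) * (r + 1) = 0 := by
      have : (r + 1) * (r + 1) = r * r + 1 + (r + r) := by ring
      rw [this, hr, h2, h2, add_zero]
    have h3 : r + 1 = 0 := by
      rcases mul_eq_zero.mp h1 with h | h <;> exact h
    have h4 : r = 1 := by
      have h5 := eq_neg_of_add_eq_zero_left h3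
      have h6 : (-1 : F) = 1 := neg_eq_of_add_eq_zero_left (h2 1)
      rw [h5, h6]
    rw [Subgroup.mem_bot]
    apply Subtype.ext
    rw [← hrA, h4]
    simp
  exact ⟨(QuotientGroup.quotientBot (G := SpecialLinearGroup (Fin 2) F)).symm.trans
    (QuotientGroup.quotientMulEquivOfEq hbot.symm)⟩

/-- Let G be a finite group with a Sylow 2-subgroup T that is neither cyclic nor normal, such that the centralizer of every involution is an elementary abelian 2-group. Then G ≅ PSL(2,F) for a finite field F with |F| = |T|. -/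
theorem result {G : Type*} [Group G] [Finite G] (T : Sylow 2 G) (hnc : ¬ IsCyclic (T : Subgroup G)) (hnn : ¬ (T : Subgroup G).Normal) (hC : ∀ t : G, orderOf t = 2 → IsMulCommutative (Subgroup.centralizer ({t} : Set G)) ∧ ∀ c ∈ Subgroup.centralizer ({t} : Set G), c ^ 2 = 1) : ∃ (F : Type) (_ : Field F) (_ : Fintype F), Fintype.card F = Nat.card T ∧ Nonempty (G ≃* Matrix.ProjectiveSpecialLinearGroup (Fin 2) F) := by
  classical
  have : Fact (Nat.Prime 2) := ⟨Nat.prime_two⟩
  -- the hypothesis in the library's form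
  have hC' : CIT G := by
    intro t ht
    obtain ⟨h1, h2⟩ := hC t (isInv_iff_orderOf.mp ht)
    refine ⟨?_, ?_⟩
    · intro a ha b hb
      have := h1.is_comm.comm ⟨a, ha⟩ ⟨b, hb⟩
      exact congrArg Subtype.val this
    · intro c hc
      rw [← sq]
      exact h2 c hc
  -- the Sylow 2-subgroups have at least three elements
  have hT3 : 3 ≤ Nat.card T := by
    by_contra hlt
    push Not at hlt
    have hpos : 0 < Nat.card T := Nat.card_pos
    apply hnc
    interval_cases h : Nat.card T
    · haveI : Subsingleton T := (Nat.card_eq_one_iff_unique.mp h).1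
      exact isCyclic_of_subsingleton
    · exact isCyclic_of_prime_card h
  have hB : Big G := by
    intro P
    have hcard : Nat.card P = Nat.card T := by
      rw [Sylow.card_eq_multiplicity, Sylow.card_eq_multiplicity]
    have h3 : 2 < Nat.card P := by omega
    haveI : Finite P := inferInstance
    letI : Fintype P := Fintype.ofFinite _
    rw [Nat.card_eq_fintype_card, Fintype.two_lt_card_iff] at h3
    obtain ⟨a, b, c, hab, hac, hbc⟩ := h3
    have key : ∀ x y : P, x ≠ y → x ≠ 1 → y ≠ 1 →
        ∃ t t' : G, t ∈ P ∧ t' ∈ P ∧ IsInv t ∧ IsInv t' ∧ t ≠ t' := by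
      intro x y hxy hx hy
      refine ⟨x, y, x.2, y.2, isInv_of_mem hC' P x.2 (fun h => hx (Subtype.ext h)),
        isInv_of_mem hC' P y.2 (fun h => hy (Subtype.ext h)), fun h => hxy (Subtype.ext h)⟩
    by_cases ha : a = 1
    · exact key b c hbc (fun h => hab (ha.trans h.symm)) (fun h => hac (ha.trans h.symm))
    · by_cases hb : b = 1
      · exact key a c hac ha (fun h => hbc (hb.trans h.symm))
      · exact key a b hab ha hb
  -- another Sylow subgroup
  obtain ⟨Q, hQ⟩ : ∃ Q : Sylow 2 G, T ≠ Q := by
    by_contra hcon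
    push Not at hcon
    haveI : Subsingleton (Sylow 2 G) := ⟨fun A B => (hcon A).symm.trans (hcon B)⟩
    exact hnn (Sylow.normal_of_subsingleton T)
  letI : Fintype (Sylow 2 G) := Fintype.ofFinite _
  have hcardS : Fintype.card (Sylow 2 G) = Nat.card T + 1 := by
    rw [← Nat.card_eq_fintype_card]
    exact card_sylow hC' hB T Q hQ
  have hodd : Odd (Fintype.card (Sylow 2 G)) := by
    have := card_sylow_modEq_one 2 G
    rw [Nat.card_eq_fintype_card] at this
    rw [Nat.odd_iff]
    exact this
  obtain ⟨C⟩ := nonempty_cfg (tr3 hC' hB) (uq3 hC' hB) hodd (by omega)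
  obtain ⟨a, ha, hcard, ⟨e⟩⟩ := exists_galois C
  letI : Fintype (GaloisField 2 a) := Fintype.ofFinite _
  obtain ⟨e'⟩ := sl_equiv_psl (F := GaloisField 2 a) (fun x => CharTwo.add_self_eq_zero x)
  refine ⟨GaloisField 2 a, inferInstance, inferInstance, ?_, ⟨e.trans e'⟩⟩
  rw [← Nat.card_eq_fintype_card, GaloisField.card 2 a (by omega)]
  omega

end Cfsg.Agent.S1230
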