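import Mathlib
import Cfsg.Statements.S0929
import Cfsg.Agent.Lib.Helper18.NormalDefect
import Cfsg.Agent.Lib.Helper23.BlockFirstMain
import Cfsg.Agent.Lib.Helper23.BlockBrauer2

set_option autoImplicit false
open Cfsg

namespace Cfsg.Agent.S0929

open Cfsg.Agent.Helper24 Cfsg.Agent.Helper18 Cfsg.Agent.Helper23.Blk
open scoped ComplexConjugate

/-- the `p`-part of an element is a power of it -/
theorem isPPart_mem_zpowers {G : Type*} [Group G] {p : ℕ} (hp : p.Prime) {g z : G}
    (h : IsPPart p g z) : z ∈ Subgroup.zpowers g := by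
  obtain ⟨u, hzu, hc, ⟨k, hk⟩, hu⟩ := h
  have hcop : Nat.Coprime (p ^ k) (orderOf u) :=
    Nat.Coprime.pow_left k ((Nat.Prime.coprime_iff_not_dvd hp).mpr hu)
  obtain ⟨e, he1, he2⟩ := Nat.chineseRemainder hcop 1 0
  have h1 : z ^ e = z := by
    have : z ^ e = z ^ 1 := by
      rw [pow_eq_pow_iff_modEq, hk]
      exact he1
    rw [this, pow_one]
  have h2 : u ^ e = 1 := by
    have : u ^ e = u ^ 0 := by
      rw [pow_eq_pow_iff_modEq]
      exact he2
    rw [this, pow_zero]
  have h3 : g ^ e = z := by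
    rw [← hzu, hc.mul_pow, h1, h2, mul_one]
  rw [← h3]
  exact Subgroup.pow_mem _ (Subgroup.mem_zpowers g) e

/-- if the induced central character does not vanish at `g`, some conjugate of `g` in the
subgroup has non-vanishing central character -/
theorem exists_of_not_memLocalIdeal_induced {G : Type*} [Group G] [Finite G] {M : Ideal AlgInt}
    [hMp : M.IsPrime] (N : Subgroup G) (θ : N → ℂ) (hθ : IsClassFunction N θ) (g : G)
    (h : ¬ MemLocalIdeal M (inducedCentralChar N θ g)) :
    ∃ y : N, IsConj g (y : G) ∧ ¬ MemLocalIdeal M (centralChar θ y) := by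
  classical
  haveI : Fintype N := Fintype.ofFinite N
  haveI : Fintype (ConjClasses N) := Fintype.ofFinite _
  by_contra hcon
  push Not at hcon
  apply h
  unfold inducedCentralChar
  rw [finsum_mem_def, finsum_eq_sum_of_fintype]
  have hcf : IsClassFunction N (fun y : N =>
      ({h : N | IsConj g (h : G)} : Set N).indicator (fun h : N => θ h / θ 1) y) := by
    intro y x
    have hiff : IsConj g ((x * y * x⁻¹ : N) : G) ↔ IsConj g (y : G) := by
      have hc : IsConj ((x * y * x⁻¹ : N) : G) (y : G) := by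
        rw [isConj_comm, isConj_iff]
        exact ⟨(x : G), by push_cast; rfl⟩
      constructor
      · intro h1
        exact h1.trans hc
      · intro h1
        exact h1.trans hc.symm
    beta_reduce
    by_cases hy : IsConj g (y : G)
    · rw [Set.indicator_of_mem (show (x * y * x⁻¹ : N) ∈ {h : N | IsConj g (h : G)} from
        hiff.2 hy), Set.indicator_of_mem (show y ∈ {h : N | IsConj g (h : G)} from hy), hθ y x]
    · rw [Set.indicator_of_notMem (show (x * y * x⁻¹ : N) ∉ {h : N | IsConj g (h : G)} from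
        fun h1 => hy (hiff.1 h1)),
        Set.indicator_of_notMem (show y ∉ {h : N | IsConj g (h : G)} from hy)]
  rw [sum_classFunction_eq hcf]
  apply memLocalIdeal_sum
  intro K _
  by_cases hK : IsConj g ((Quotient.out K : N) : G)
  · rw [Set.indicator_of_mem (show (Quotient.out K : N) ∈ {h : N | IsConj g (h : G)} from hK)]
    have := hcon (Quotient.out K) hK
    unfold centralChar at this
    rwa [mul_div_assoc] at this
  · rw [Set.indicator_of_notMem (show (Quotient.out K : N) ∉ {h : N | IsConj g (h : G)} from hK),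
      mul_zero]
    exact memLocalIdeal_zero ne_top

theorem result {G : Type*} [Group G] [Finite G] (p : ℕ) [Fact p.Prime] (M : Ideal Cfsg.AlgInt) (hM : Cfsg.IsPModular p M) (B : Set (Cfsg.IrrCharacter G)) (hB : Cfsg.IsPBlock M B) (P : Subgroup G) (hP : Cfsg.IsDefectGroup p M B P) (g : G) (hg : ∃ χ ∈ B, ¬ Cfsg.MemLocalIdeal M (Cfsg.centralChar (χ : G → ℂ) g)) : ∃ x : G, IsConj g x ∧ x ∈ Subgroup.centralizer (P : Set G) ∧ ∀ z : G, Cfsg.IsPPart p x z → z ∈ P ∧ ∀ w ∈ P, z * w = w * z := by
  classical
  haveI : Fintype G := Fintype.ofFinite G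
  haveI : Fintype (Subgroup.normalizer (P : Set G)) := Fintype.ofFinite _
  letI : Fintype (IrrCharacter G) := irrFintype
  letI : Fintype (IrrCharacter (Subgroup.normalizer (P : Set G))) := irrFintype
  haveI hMp : M.IsPrime := hM.2.1.isPrime
  have hp : p.Prime := hM.1
  have hPp : IsPGroup p P := isPGroup_of_isDefectGroup hM hP
  obtain ⟨b₁, hb₁, hDb₁, hind⟩ := firstMain_exists P hM hPp hB hP
  obtain ⟨θ₁, hθ₁⟩ := hb₁
  have hθ₁b : θ₁ ∈ b₁ := by
    rw [hθ₁]
    exact mem_blockOf_self θ₁
  obtain ⟨χ, hχ, hχg⟩ := hg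
  have h1 := hind.2.2 θ₁ hθ₁b χ hχ g
  have h2 : ¬ MemLocalIdeal M (inducedCentralChar (Subgroup.normalizer (P : Set G))
      (θ₁ : Subgroup.normalizer (P : Set G) → ℂ) g) := by
    intro h
    apply hχg
    have h3 := memLocalIdeal_sub h h1
    rwa [sub_sub_cancel] at h3
  obtain ⟨y, hyg, hy⟩ := exists_of_not_memLocalIdeal_induced (Subgroup.normalizer (P : Set G))
    (θ₁ : Subgroup.normalizer (P : Set G) → ℂ) (isClassFunction_of_isIrrCharacter θ₁.2) g h2
  haveI hPn : (P.subgroupOf (Subgroup.normalizer (P : Set G))).Normal :=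
    Subgroup.normal_in_normalizer
  have hPp' : IsPGroup p (P.subgroupOf (Subgroup.normalizer (P : Set G))) := hPp.comap_subtype
  have hyC : y ∈ Subgroup.centralizer
      ((P.subgroupOf (Subgroup.normalizer (P : Set G)) :
        Subgroup (Subgroup.normalizer (P : Set G))) : Set (Subgroup.normalizer (P : Set G))) := by
    by_contra hcon
    exact hy (memLocalIdeal_centralChar_of_not_mem_centralizer hM _ hPp' θ₁ hcon)
  have hyCG : (y : G) ∈ Subgroup.centralizer (P : Set G) := by
    rw [Subgroup.mem_centralizer_iff] at hyC ⊢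
    intro w hw
    have := hyC ⟨w, Subgroup.le_normalizer hw⟩ (by
      rw [SetLike.mem_coe, Subgroup.mem_subgroupOf]
      exact hw)
    exact congrArg Subtype.val this
  refine ⟨(y : G), hyg, hyCG, ?_⟩
  intro z hz
  have hzpow : z ∈ Subgroup.zpowers (y : G) := isPPart_mem_zpowers hp hz
  have hzN : z ∈ Subgroup.normalizer (P : Set G) := by
    have hle : Subgroup.zpowers (y : G) ≤ Subgroup.normalizer (P : Set G) := by
      rw [Subgroup.zpowers_le]
      exact y.2
    exact hle hzpow
  have hzC : z ∈ Subgroup.centralizer (P : Set G) := by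
    have hle : Subgroup.zpowers (y : G) ≤ Subgroup.centralizer (P : Set G) := by
      rw [Subgroup.zpowers_le]
      exact hyCG
    exact hle hzpow
  refine ⟨?_, ?_⟩
  · obtain ⟨u, hzu, hcomm, ⟨k, hk⟩, hu⟩ := hz
    have huN : u ∈ Subgroup.normalizer (P : Set G) := by
      have : u = z⁻¹ * (y : G) := by rw [← hzu]; group
      rw [this]
      exact Subgroup.mul_mem _ (Subgroup.inv_mem _ hzN) y.2
    have hz' : IsPPart p y (⟨z, hzN⟩ : Subgroup.normalizer (P : Set G)) := by
      refine ⟨⟨u, huN⟩, ?_, ?_, ⟨k, ?_⟩, ?_⟩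
      · apply Subtype.ext
        exact hzu
      · apply Subtype.ext
        exact hcomm.eq
      · rw [← hk]
        exact Subgroup.orderOf_mk z hzN
      · rw [Subgroup.orderOf_mk u huN]
        exact hu
    have := ppart_mem_of_normal_defectGroup hM
      (P.subgroupOf (Subgroup.normalizer (P : Set G))) ⟨θ₁, hθ₁⟩ hDb₁
      ⟨θ₁, hθ₁b, hy⟩ hz'
    rw [Subgroup.mem_subgroupOf] at this
    exact this
  · intro w hw
    exact ((Subgroup.mem_centralizer_iff.mp hzC) w hw).symm

end Cfsg.Agent.S0929
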