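import Mathlib
import Cfsg.Statements.S0945
import Cfsg.Agent.Lib.Helper16.Homocyclic2

set_option autoImplicit false
open Cfsg

namespace Cfsg.Agent.S0945

open Cfsg.Agent.Helper16 in
/-- Let P be a Sylow 2-subgroup of the finite group G isomorphic to Z/2^m × Z/2^m with m ≥ 1. Then (i) the index of C_G(P) in N_G(P) is 1 or 3, and (ii) if it is not 1, then for every z ≠ 1 in P, C_G(z) ∩ N_G(P) = C_G(P). -/
theorem result {G : Type*} [Group G] [Finite G] (P : Sylow 2 G) (m : ℕ) (hm : 1 ≤ m) (e : (P : Subgroup G) ≃* Multiplicative (ZMod (2 ^ m) × ZMod (2 ^ m))) : ((Subgroup.centralizer (P : Set G)).relIndex (Subgroup.normalizer (P : Set G)) = 1 ∨ (Subgroup.centralizer (P : Set G)).relIndex (Subgroup.normalizer (P : Set G)) = 3) ∧ ((Subgroup.centralizer (P : Set G)).relIndex (Subgroup.normalizer (P : Set G)) ≠ 1 → ∀ z ∈ (P : Subgroup G), z ≠ 1 → Subgroup.centralizer ({z} : Set G) ⊓ Subgroup.normalizer (P : Set G) = Subgroup.centralizer (P : Set G)) := by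
  have hF : Fact (Nat.Prime 2) := ⟨Nat.prime_two⟩
  rw [show (P : Set G) = ((P : Subgroup G) : Set G) from rfl]
  have hcomm : ∀ x y : (P : Subgroup G), x * y = y * x := by
    intro x y
    apply e.injective
    rw [map_mul, map_mul, mul_comm]
  have hc : ∀ x ∈ (P : Subgroup G), ∀ y ∈ (P : Subgroup G), x * y = y * x := by
    intro x hx y hy
    exact congrArg Subtype.val (hcomm ⟨x, hx⟩ ⟨y, hy⟩)
  set φ := (P : Subgroup G).normalizerMonoidHom with hφ
  set r : ℕ := Nat.card φ.range with hr_def
  have hr : Odd r :=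
    Nat.odd_iff.2 (Nat.two_dvd_ne_zero.1 (not_dvd_card_range_normalizerMonoidHom' P hc))
  have hαr : ∀ β ∈ φ.range, β ^ r = 1 := by
    intro β hβ
    have := pow_card_eq_one' (G := φ.range) (x := ⟨β, hβ⟩)
    have h4 := congrArg Subtype.val this
    rw [Subgroup.coe_pow, Subgroup.coe_one] at h4
    exact h4
  have hidx : (Subgroup.centralizer ((P : Subgroup G) : Set G)).relIndex
      (Subgroup.normalizer ((P : Subgroup G) : Set G)) = Nat.card φ.range := by
    rw [Subgroup.relIndex, ← Subgroup.normalizerMonoidHom_ker, Subgroup.index_ker]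
  have hfixone : ∀ β ∈ φ.range, ∀ t : (P : Subgroup G), t ^ 2 = 1 → t ≠ 1 → β t = t → β = 1 :=
    fun β hβ t ht ht1 h => homocyclic_odd_aut_eq_one_of_fix hm e β r hr (hαr β hβ) ht ht1 h
  constructor
  · rw [hidx]
    by_cases htriv : ∀ β ∈ φ.range, β = 1
    · left
      have : φ.range = ⊥ := (Subgroup.eq_bot_iff_forall _).2 htriv
      rw [this]; exact Subgroup.card_bot
    · right
      push Not at htriv
      obtain ⟨α₀, hα₀, hα₀1⟩ := htriv
      -- an involution of `P`
      have hcardP : Nat.card (P : Subgroup G) = 2 ^ (m + m) := by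
        rw [Nat.card_congr e.toEquiv]
        change Nat.card (ZMod (2 ^ m) × ZMod (2 ^ m)) = _
        rw [Nat.card_prod, Nat.card_zmod, pow_add]
      obtain ⟨u, huo⟩ := exists_prime_orderOf_dvd_card' (G := (P : Subgroup G)) 2
        (by rw [hcardP]; exact dvd_pow_self 2 (by omega))
      have hu : u ^ 2 = 1 := by
        have := pow_orderOf_eq_one u
        rwa [huo] at this
      have hu1 : u ≠ 1 := by
        intro h
        rw [h, orderOf_one] at huo
        norm_num at huo
      have hα₀u : α₀ u ≠ u := fun h => hα₀1 (hfixone α₀ hα₀ u hu hu1 h)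
      have hv2 : (α₀ u) ^ 2 = 1 := by rw [← map_pow, hu, map_one]
      have hv1 : α₀ u ≠ 1 := by
        intro h
        apply hu1
        exact α₀.injective (h.trans (map_one α₀).symm)
      have hw := homocyclic_odd_aut_cycle hm e α₀ r hr (hαr α₀ hα₀) hu hα₀u
      have hpow : ∀ β ∈ φ.range, β ∈ Subgroup.zpowers α₀ := by
        intro β hβ
        have hβu2 : (β u) ^ 2 = 1 := by rw [← map_pow, hu, map_one]
        have hβu1 : β u ≠ 1 := by
          intro h
          apply hu1
          exact β.injective (h.trans (map_one β).symm)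
        have hkey : ∀ γ ∈ φ.range, β u = γ u → β = γ := by
          intro γ hγ h
          have h1 : (γ⁻¹ * β) u = u := by
            rw [MulAut.mul_apply, h]; exact MulAut.inv_apply_self _ γ u
          have h2 := hfixone (γ⁻¹ * β) (mul_mem (inv_mem hγ) hβ) u hu hu1 h1
          calc β = γ * (γ⁻¹ * β) := by rw [mul_inv_cancel_left]
            _ = γ := by rw [h2, mul_one]
        rcases homocyclic_involution_cases hm e hu hv2 hβu2 hu1 hv1 (Ne.symm hα₀u) with
          h | h | h | h
        · exact absurd h hβu1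
        · rw [hkey 1 (one_mem _) (by rw [h, MulAut.one_apply])]
          exact one_mem _
        · rw [hkey α₀ hα₀ h]
          exact Subgroup.mem_zpowers _
        · rw [hkey (α₀ ^ 2) (pow_mem hα₀ 2) (by rw [h, pow_two, MulAut.mul_apply, hw])]
          exact Subgroup.pow_mem _ (Subgroup.mem_zpowers _) 2
      have hrange : φ.range = Subgroup.zpowers α₀ :=
        le_antisymm hpow (Subgroup.zpowers_le.2 hα₀)
      have h3 : α₀ ^ 3 = 1 := by
        apply hfixone (α₀ ^ 3) (pow_mem hα₀ 3) u hu hu1
        have : (α₀ ^ 3) u = α₀ (α₀ (α₀ u)) := by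
          rw [pow_succ, pow_two, MulAut.mul_apply, MulAut.mul_apply]
        rw [this, hw, map_mul, hw, hcomm u (α₀ u), ← mul_assoc, ← pow_two, hv2, one_mul]
      rw [hrange, Nat.card_zpowers]
      exact orderOf_eq_prime h3 hα₀1
  · intro _ z hz hz1
    apply le_antisymm
    · rintro g ⟨hgz, hgN⟩
      have hgz' : z * g = g * z := (Subgroup.mem_centralizer_iff.1 hgz) z (Set.mem_singleton z)
      set β : MulAut (P : Subgroup G) := φ ⟨g, hgN⟩ with hβ
      have hβz : β ⟨z, hz⟩ = ⟨z, hz⟩ := by
        apply Subtype.ext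
        change g * z * g⁻¹ = z
        rw [← hgz', mul_inv_cancel_right]
      obtain ⟨k, hk⟩ := (IsPGroup.iff_orderOf.1 P.isPGroup') ⟨z, hz⟩
      have hk1 : 1 ≤ k := by
        rcases Nat.eq_zero_or_pos k with h0 | h0
        · exfalso
          rw [h0, pow_zero, orderOf_eq_one_iff] at hk
          exact hz1 (congrArg Subtype.val hk)
        · exact h0
      have hβt : β ((⟨z, hz⟩ : (P : Subgroup G)) ^ 2 ^ (k - 1)) = (⟨z, hz⟩ : (P : Subgroup G)) ^ 2 ^ (k - 1) := by
        rw [map_pow, hβz]
      have h1 : β = 1 := hfixone β ⟨_, rfl⟩ _ (pow_half_sq hk1 hk) (pow_half_ne_one hk1 hk) hβt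
      have h2 : (⟨g, hgN⟩ : Subgroup.normalizer ((P : Subgroup G) : Set G)) ∈ φ.ker := by
        rw [MonoidHom.mem_ker]; exact h1
      rw [hφ, Subgroup.normalizerMonoidHom_ker, Subgroup.mem_subgroupOf] at h2
      exact h2
    · intro g hg
      exact ⟨Subgroup.centralizer_le (Set.singleton_subset_iff.2 hz) hg,
        Subgroup.centralizer_le_normalizer _ hg⟩

end Cfsg.Agent.S0945
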