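import Mathlib
import Cfsg.Statements.S0938
import Cfsg.Agent.Lib.Helper23.BlockKernel
import Cfsg.Agent.Lib.Helper24.CharHom

set_option autoImplicit false
open Cfsg Cfsg.Agent.Helper23.Blk Cfsg.Agent.Helper24

namespace Cfsg.Agent.S0938

/-- Let B be a block of the finite group G relative to a maximal ideal M of the algebraic integers containing the prime p, and let χ ∈ B. Then the kernel of B (the set of g with ψ g = ψ 1 for all ψ ∈ B) is a normal subgroup of order prime to p contained in the kernel of χ, and it contains every normal subgroup of order prime to p on which χ takes the value χ(1); that is, it is O_p' of the kernel of χ. -/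
theorem result {G : Type*} [Group G] [Finite G] (p : ℕ) [Fact p.Prime] (M : Ideal Cfsg.AlgInt) (hM : Cfsg.IsPModular p M) (B : Set (Cfsg.IrrCharacter G)) (hB : Cfsg.IsPBlock M B) (χ : Cfsg.IrrCharacter G) (hχ : χ ∈ B) : ∃ K : Subgroup G, K.Normal ∧ (K : Set G) = Cfsg.blockKer B ∧ ¬ p ∣ Nat.card K ∧ (∀ g ∈ K, (χ : G → ℂ) g = (χ : G → ℂ) 1) ∧ ∀ N : Subgroup G, N.Normal → ¬ p ∣ Nat.card N → (∀ g ∈ N, (χ : G → ℂ) g = (χ : G → ℂ) 1) → N ≤ K := by
  classical
  haveI : Fintype G := Fintype.ofFinite G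
  letI : Fintype (IrrCharacter G) := irrFintype
  haveI hMp : M.IsPrime := hM.2.1.isPrime
  have hp : p.Prime := hM.1
  set K : Subgroup G := ⨅ ψ : B, charKer (isCharacter_of_isIrrCharacter (ψ : IrrCharacter G).2)
    with hK
  have hmem : ∀ g : G, g ∈ K ↔ ∀ ψ ∈ B, (ψ : G → ℂ) g = (ψ : G → ℂ) 1 := by
    intro g
    rw [hK, Subgroup.mem_iInf]
    constructor
    · intro h ψ hψ
      exact h ⟨ψ, hψ⟩
    · intro h ψ
      exact h ψ ψ.2
  have hsame : ∀ ψ ∈ B, SameBlock M (χ : G → ℂ) (ψ : G → ℂ) := by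
    intro ψ hψ
    obtain ⟨χ₀, rfl⟩ := hB
    exact sameBlock_trans (sameBlock_symm hχ) hψ
  refine ⟨K, ?_, ?_, ?_, ?_, ?_⟩
  · rw [hK]
    haveI : ∀ ψ : B, (charKer (isCharacter_of_isIrrCharacter (ψ : IrrCharacter G).2)).Normal :=
      fun ψ => charKer_normal _
    exact Subgroup.normal_iInf_normal inferInstance
  · ext g
    rw [SetLike.mem_coe, hmem]
    rfl
  · intro hdvd
    haveI : Fact p.Prime := ⟨hp⟩
    obtain ⟨x, hx⟩ := exists_prime_orderOf_dvd_card' (G := K) p hdvd
    have hxs : p ∣ orderOf (x : G) := by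
      rw [Subgroup.orderOf_coe, hx]
    have h0 := blockCoeff_eq_zero_of_pSingular hM hB hxs
    unfold blockCoeff at h0
    have h1 := (mul_eq_zero.1 h0).resolve_left (inv_ne_zero card_ne_zero)
    rw [finsum_mem_def, finsum_eq_sum_of_fintype] at h1
    have hxK := (hmem (x : G)).1 x.2
    have h2 : ∀ ψ : IrrCharacter G, Set.indicator B
        (fun ψ : IrrCharacter G => (ψ : G → ℂ) 1 * (starRingEnd ℂ) ((ψ : G → ℂ) (x : G))) ψ =
        (((if ψ ∈ B then (charDegree (ψ : G → ℂ)) ^ 2 else 0 : ℕ)) : ℂ) := by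
      intro ψ
      rw [Set.indicator_apply]
      by_cases hψ : ψ ∈ B
      · rw [if_pos hψ, if_pos hψ, hxK ψ hψ, irr_one_eq_charDegree ψ.2, Complex.conj_natCast]
        push_cast
        ring
      · rw [if_neg hψ, if_neg hψ, Nat.cast_zero]
    rw [Finset.sum_congr rfl (fun ψ _ => h2 ψ), ← Nat.cast_sum] at h1
    have h3 : ∑ ψ : IrrCharacter G, (if ψ ∈ B then (charDegree (ψ : G → ℂ)) ^ 2 else 0) = 0 := by
      exact_mod_cast h1
    have h4 := (Finset.sum_eq_zero_iff.1 h3) χ (Finset.mem_univ _)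
    rw [if_pos hχ] at h4
    have hd0 : charDegree (χ : G → ℂ) ≠ 0 := by
      intro h0
      have := irr_one_ne_zero χ.2
      rw [irr_one_eq_charDegree χ.2, h0] at this
      exact this (by simp)
    exact hd0 (pow_eq_zero_iff (two_ne_zero)|>.1 h4)
  · intro g hg
    exact (hmem g).1 hg χ hχ
  · intro N hNn hNp hNχ g hg
    rw [hmem]
    intro ψ hψ
    haveI := hNn
    exact le_ker_of_sameBlock hM (hsame ψ hψ) N hNp hNχ g hg

end Cfsg.Agent.S0938
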