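import Mathlib
import Cfsg.Statements.S1494
import Cfsg.Agent.Lib.Helper24.CharAbelian
import Cfsg.Agent.Lib.Helper24.CharHom

set_option autoImplicit false
open Cfsg

namespace Cfsg.Agent.S1494

open Cfsg.Agent.Helper24

/-- a root of unity is integral -/
lemma isIntegral_of_pow_eq_one {z : ℂ} {n : ℕ} (hn : 0 < n) (h : z ^ n = 1) : IsIntegral ℤ z := by
  refine IsIntegral.of_pow hn ?_
  rw [h]
  exact isIntegral_one

/-- the case of a linear character -/
lemma linear_case {A : Type*} [Group A] [Finite A] (f : A →* ℂ) (p : ℕ) (hp : p.Prime) (x y : A)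
    (hx : x ^ p = 1) :
    ∃ ω : ℂ, IsIntegral ℤ ω ∧
      f (x * y) - f y = (1 - Complex.exp (2 * Real.pi * Complex.I / p)) * ω := by
  haveI : NeZero p := ⟨hp.ne_zero⟩
  have hprim := Complex.isPrimitiveRoot_exp p hp.ne_zero
  set ε : ℂ := Complex.exp (2 * Real.pi * Complex.I / p) with hε
  have hfx : (f x) ^ p = 1 := by rw [← map_pow, hx, map_one]
  obtain ⟨k, -, hk⟩ := hprim.eq_pow_of_pow_eq_one hfx
  have hεint : IsIntegral ℤ ε := isIntegral_of_pow_eq_one hp.pos hprim.pow_eq_one
  have hyint : IsIntegral ℤ (f y) := by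
    have hn : 0 < Nat.card A := Nat.card_pos
    apply isIntegral_of_pow_eq_one hn
    rw [← map_pow, pow_card_eq_one', map_one]
  refine ⟨-(∑ j ∈ Finset.range k, ε ^ j) * f y, ?_, ?_⟩
  · refine IsIntegral.mul (IsIntegral.neg (IsIntegral.sum _ fun j _ => hεint.pow j)) hyint
  · rw [map_mul, ← hk]
    have hgeom : (∑ j ∈ Finset.range k, ε ^ j) * (ε - 1) = ε ^ k - 1 := geom_sum_mul ε k
    have : ε ^ k * f y - f y = (ε ^ k - 1) * f y := by ring
    rw [this, ← hgeom]
    ring

/-- the case of a character -/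
lemma char_case {G : Type*} [Group G] [Finite G] (χ : G → ℂ) (hχ : Cfsg.IsCharacter G χ) (p : ℕ)
    (hp : p.Prime) (x y : G) (hx : orderOf x = p) (hxy : x * y = y * x) :
    ∃ ω : ℂ, IsIntegral ℤ ω ∧
      χ (x * y) - χ y = (1 - Complex.exp (2 * Real.pi * Complex.I / p)) * ω := by
  classical
  have hk : ∀ a ∈ ({x, y} : Set G), ∀ b ∈ ({x, y} : Set G), a * b = b * a := by
    intro a ha b hb
    simp only [Set.mem_insert_iff, Set.mem_singleton_iff] at ha hb
    rcases ha with rfl | rfl <;> rcases hb with rfl | rfl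
    · rfl
    · exact hxy
    · exact hxy.symm
    · rfl
  set A : Subgroup G := Subgroup.closure {x, y} with hA
  have hcomm : ∀ a b : A, a * b = b * a := by
    letI := Subgroup.closureCommGroupOfComm hk
    exact fun a b => mul_comm a b
  haveI : Fintype A := Fintype.ofFinite A
  letI : Fintype (Cfsg.IrrCharacter A) := irrFintype
  let xA : A := ⟨x, Subgroup.subset_closure (by simp)⟩
  let yA : A := ⟨y, Subgroup.subset_closure (by simp)⟩
  have hxA : xA ^ p = 1 := by
    apply Subtype.ext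
    show x ^ p = 1
    rw [← hx]; exact pow_orderOf_eq_one x
  have hχA : Cfsg.IsCharacter A (fun a : A => χ a) := isCharacter_restrict A hχ
  obtain ⟨hm, hexp⟩ := isCharacter_decomp hχA
  choose m hm using hm
  -- each irreducible character of `A` is a homomorphism
  have hlin : ∀ lam : Cfsg.IrrCharacter A, ∃ ω : ℂ, IsIntegral ℤ ω ∧
      (lam : A → ℂ) (xA * yA) - (lam : A → ℂ) yA =
        (1 - Complex.exp (2 * Real.pi * Complex.I / p)) * ω := by
    intro lam
    have h1 : (lam : A → ℂ) 1 = 1 := by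
      rw [irr_one_eq_charDegree lam.2, charDegree_eq_one_of_comm hcomm lam.2]
      simp
    let f : A →* ℂ :=
      { toFun := (lam : A → ℂ)
        map_one' := h1
        map_mul' := char_mul_of_degree_one (isCharacter_of_isIrrCharacter lam.2) h1 }
    exact linear_case f p hp xA yA hxA
  choose w hwint hw using hlin
  refine ⟨∑ lam : Cfsg.IrrCharacter A, (m lam : ℂ) * w lam, ?_, ?_⟩
  · refine IsIntegral.sum _ fun lam _ => IsIntegral.mul ?_ (hwint lam)
    exact isIntegral_algebraMap (R := ℤ) (A := ℂ) (x := (m lam : ℤ)) |> fun h => by simpa using h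
  · have e1 : χ (x * y) = (fun a : A => χ a) (xA * yA) := rfl
    have e2 : χ y = (fun a : A => χ a) yA := rfl
    rw [e1, e2, hexp]
    simp only [Finset.sum_apply, Pi.smul_apply, smul_eq_mul]
    rw [← Finset.sum_sub_distrib, Finset.mul_sum]
    refine Finset.sum_congr rfl fun lam _ => ?_
    rw [hm lam, ← mul_sub, hw lam]
    ring

/-- Let χ be a generalized character of the finite group G, p a prime, x an element of order p and y an element commuting with x. Then χ(x * y) − χ(y) = (1 − ε) * ω for some algebraic integer ω, where ε = exp(2πi/p). -/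
theorem result {G : Type*} [Group G] [Finite G] (χ : G → ℂ) (hχ : Cfsg.IsGeneralizedCharacter G χ) (p : ℕ) (hp : p.Prime) (x y : G) (hx : orderOf x = p) (hxy : x * y = y * x) : ∃ ω : ℂ, IsIntegral ℤ ω ∧ χ (x * y) - χ y = (1 - Complex.exp (2 * Real.pi * Complex.I / p)) * ω := by
  obtain ⟨χ₁, χ₂, h₁, h₂, rfl⟩ := hχ
  obtain ⟨ω₁, hi₁, he₁⟩ := char_case χ₁ h₁ p hp x y hx hxy
  obtain ⟨ω₂, hi₂, he₂⟩ := char_case χ₂ h₂ p hp x y hx hxy
  refine ⟨ω₁ - ω₂, hi₁.sub hi₂, ?_⟩
  simp only [Pi.sub_apply]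
  have : χ₁ (x * y) - χ₂ (x * y) - (χ₁ y - χ₂ y) = (χ₁ (x * y) - χ₁ y) - (χ₂ (x * y) - χ₂ y) := by
    ring
  rw [this, he₁, he₂]
  ring

end Cfsg.Agent.S1494
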