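import Mathlib
import Cfsg.Statements.S1495

set_option autoImplicit false
open Cfsg

namespace Cfsg.Agent.S1495

open Polynomial Finset

theorem not_isIntegral_inv_prime (p : ℕ) (hp : p.Prime) : ¬ IsIntegral ℤ ((p : ℂ)⁻¹) := by
  intro h
  have e : (algebraMap ℚ ℂ) ((p : ℚ)⁻¹) = (p : ℂ)⁻¹ := by
    simp
  rw [← e, isIntegral_algebraMap_iff (algebraMap ℚ ℂ).injective] at h
  obtain ⟨y, hy⟩ := IsIntegrallyClosed.isIntegral_iff.mp h
  have hp0 : (p : ℚ) ≠ 0 := by exact_mod_cast hp.ne_zero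
  have h1 : (y : ℚ) * p = 1 := by
    have : algebraMap ℤ ℚ y = (y : ℚ) := rfl
    rw [this] at hy
    rw [hy, inv_mul_cancel₀ hp0]
  have h2 : y * (p : ℤ) = 1 := by exact_mod_cast h1
  have h3 : (p : ℤ) ∣ 1 := Dvd.intro_left y h2
  have h4 : (p : ℤ) ≤ 1 := Int.le_of_dvd one_pos h3
  have := hp.two_le
  omega

/-- Let p be a prime, ε = exp(2πi/p), and n an integer such that n = (1 − ε) * ω for some algebraic integer ω. Then p divides n. -/
theorem result (p : ℕ) (hp : p.Prime) (n : ℤ) (ω : ℂ) (hω : IsIntegral ℤ ω) (h : (n : ℂ) = (1 - Complex.exp (2 * Real.pi * Complex.I / p)) * ω) : (p : ℤ) ∣ n := by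
  have hpF : Fact p.Prime := ⟨hp⟩
  set ε := Complex.exp (2 * Real.pi * Complex.I / p) with hεdef
  have hε : IsPrimitiveRoot ε p := Complex.isPrimitiveRoot_exp p hp.ne_zero
  have hεmem : ε ∈ primitiveRoots p ℂ := (mem_primitiveRoots hp.pos).mpr hε
  have hprod : ∏ μ ∈ primitiveRoots p ℂ, (1 - μ) = (p : ℂ) := by
    have h1 := Polynomial.cyclotomic_eq_prod_X_sub_primitiveRoots hε
    have h2 : eval 1 (cyclotomic p ℂ) = (p : ℂ) := eval_one_cyclotomic_prime
    rw [h1, eval_prod] at h2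
    simpa using h2
  have hint : ∀ μ ∈ primitiveRoots p ℂ, IsIntegral ℤ μ := by
    intro μ hμ
    exact ((mem_primitiveRoots hp.pos).mp hμ).isIntegral hp.pos
  have hint1 : ∀ μ ∈ primitiveRoots p ℂ, IsIntegral ℤ (1 - μ) := by
    intro μ hμ
    exact isIntegral_one.sub (hint μ hμ)
  by_contra hnd
  have hcop : IsCoprime (p : ℤ) n :=
    (Nat.prime_iff_prime_int.mp hp).irreducible.coprime_iff_not_dvd.mpr hnd
  obtain ⟨a, b, hab⟩ := hcop
  -- β with (1 - ε) * β = 1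
  set P := ∏ μ ∈ (primitiveRoots p ℂ).erase ε, (1 - μ) with hP
  have hPint : IsIntegral ℤ P := by
    apply IsIntegral.prod
    intro μ hμ
    exact hint1 μ (Finset.mem_of_mem_erase hμ)
  have hsplit : (1 - ε) * P = (p : ℂ) := by
    rw [hP, Finset.mul_prod_erase _ _ hεmem, hprod]
  set β : ℂ := (a : ℂ) * P + (b : ℂ) * ω with hβ
  have hβint : IsIntegral ℤ β := by
    apply IsIntegral.add
    · exact (isIntegral_algebraMap (x := a)).mul hPint
    · exact (isIntegral_algebraMap (x := b)).mul hω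
  have hβ1 : (1 - ε) * β = 1 := by
    have : ((a * (p : ℤ) + b * n : ℤ) : ℂ) = 1 := by rw [hab]; simp
    push_cast at this
    calc (1 - ε) * β = (a : ℂ) * ((1 - ε) * P) + (b : ℂ) * ((1 - ε) * ω) := by rw [hβ]; ring
      _ = (a : ℂ) * (p : ℂ) + (b : ℂ) * (n : ℂ) := by rw [hsplit, ← h]
      _ = 1 := this
  -- each (1 - μ)⁻¹ is integral
  have hinv : ∀ μ ∈ primitiveRoots p ℂ, IsIntegral ℤ ((1 - μ)⁻¹) := by
    intro μ hμ
    have hμ' := (mem_primitiveRoots hp.pos).mp hμ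
    obtain ⟨m, _, hm⟩ := hμ'.eq_pow_of_pow_eq_one hε.pow_eq_one
    have hgeo : (1 - μ) * ∑ j ∈ range m, μ ^ j = 1 - ε := by
      rw [mul_neg_geom_sum, hm]
    have hne : (1 - μ) ≠ 0 := by
      intro h0
      rw [h0, zero_mul] at hgeo
      rw [← hgeo, zero_mul] at hβ1
      exact zero_ne_one hβ1
    have : (1 - μ)⁻¹ = (∑ j ∈ range m, μ ^ j) * β := by
      apply inv_eq_of_mul_eq_one_right
      rw [← mul_assoc, hgeo, hβ1]
    rw [this]
    apply IsIntegral.mul _ hβint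
    apply IsIntegral.sum
    intro j _
    exact (hint μ hμ).pow j
  have hall : IsIntegral ℤ (∏ μ ∈ primitiveRoots p ℂ, (1 - μ)⁻¹) := IsIntegral.prod _ hinv
  rw [Finset.prod_inv_distrib, hprod] at hall
  exact not_isIntegral_inv_prime p hp hall

end Cfsg.Agent.S1495
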