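import Mathlib
import Cfsg.Statements.S0954
import Cfsg.Agent.Lib.Helper18.BlockOver
import Cfsg.Agent.Lib.Helper23.BlockConv

set_option autoImplicit false
open Cfsg

namespace Cfsg.Agent.S0954

open Cfsg.Agent.Helper24 Cfsg.Agent.Helper18 Cfsg.Agent.Helper23.Blk
open scoped ComplexConjugate

theorem result {G : Type*} [Group G] [Fintype G] (p : ℕ) [Fact p.Prime] (M : Ideal Cfsg.AlgInt) (hM : Cfsg.IsPModular p M) (N : Subgroup G) [N.Normal] [Fintype N] (hN : ¬ p ∣ Nat.card N) (hidx : ∃ k : ℕ, N.index = p ^ k) (χ ψ : Cfsg.IrrCharacter G) : Cfsg.SameBlock M (χ : G → ℂ) (ψ : G → ℂ) ↔ ∃ θ : Cfsg.IrrCharacter N, Cfsg.classInner (fun n : N => (χ : G → ℂ) n) (θ : N → ℂ) ≠ 0 ∧ Cfsg.classInner (fun n : N => (ψ : G → ℂ) n) (θ : N → ℂ) ≠ 0 := by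
  classical
  letI : Fintype (IrrCharacter G) := irrFintype
  letI : Fintype (IrrCharacter N) := irrFintype
  have hp : p.Prime := Fact.out
  haveI : M.IsPrime := isPrime_of_isPModular hM
  have hMp : M.IsPrime := isPrime_of_isPModular hM
  constructor
  · intro h
    have hχN : IsCharacter N (fun n : N => (χ : G → ℂ) n) :=
      isCharacter_restrict N (isCharacter_of_isIrrCharacter χ.2)
    have hχN0 : (fun n : N => (χ : G → ℂ) n) ≠ 0 := by
      intro h0
      have := congrFun h0 1
      exact irr_one_ne_zero χ.2 this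
    obtain ⟨θ, hθ, hcon⟩ := Cfsg.Agent.Helper5.exists_constituent hχN hχN0
    exact ⟨⟨θ, hθ⟩, hcon, over_of_sameBlock N hM hN hθ h hcon⟩
  · rintro ⟨θ, hχθ, hψθ⟩
    have hθc := isCharacter_of_isIrrCharacter θ.2
    -- the multiplicities
    have hk : ∀ μ : IrrCharacter G, ∃ k : ℕ,
        classInner (fun n : N => (μ : G → ℂ) n) (θ : N → ℂ) = k := fun μ =>
      classInner_char_nat (isCharacter_restrict N (isCharacter_of_isIrrCharacter μ.2)) hθc
    choose k hk using hk
    obtain ⟨A, hA⟩ : ∃ A : Set (IrrCharacter G),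
        A = {μ : IrrCharacter G | classInner (fun n : N => (μ : G → ℂ) n) (θ : N → ℂ) ≠ 0} :=
      ⟨_, rfl⟩
    obtain ⟨B, hB⟩ : ∃ B : Set (IrrCharacter G), B = blockOf M (χ : G → ℂ) := ⟨_, rfl⟩
    have hAloc : ∀ g : G, MemLocalRing M (blockCoeff A g) := by
      rw [hA]
      exact memLocalRing_blockCoeff_over N hM hN θ.2
    have hχA : χ ∈ A := by
      rw [hA]
      exact hχθ
    have hψA : ψ ∈ A := by
      rw [hA]
      exact hψθ
    have hχB : χ ∈ B := by
      rw [hB]
      exact mem_blockOf_self χ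
    have hBA : B ⊆ A := by
      rw [hB]
      exact blockOf_subset_of_memLocalRing hMp hAloc hχA
    have hBblock : IsPBlock M B := ⟨χ, hB⟩
    have hkA : ∀ μ ∈ A, k μ ≠ 0 := by
      intro μ hμ h0
      rw [hA] at hμ
      apply hμ
      rw [hk μ, h0]
      simp
    -- restriction to `N` of the members of `A`
    obtain ⟨t, htdef⟩ : ∃ t : ℕ,
        t = Nat.card {x : G // Cfsg.Agent.Helper5.conjFun N x (θ : N → ℂ) = (θ : N → ℂ)} :=
      ⟨_, rfl⟩
    have ht0 : (t : ℂ) ≠ 0 := by
      have : 0 < t := by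
        rw [htdef]
        haveI : Nonempty {x : G // Cfsg.Agent.Helper5.conjFun N x (θ : N → ℂ) = (θ : N → ℂ)} :=
          ⟨⟨1, Cfsg.Agent.Helper5.conjFun_one N _⟩⟩
        exact Nat.card_pos
      exact_mod_cast this.ne'
    obtain ⟨S, hS⟩ : ∃ S : N → ℂ,
        S = ∑ x : G, Cfsg.Agent.Helper5.conjFun N x (θ : N → ℂ) := ⟨_, rfl⟩
    have hres : ∀ μ ∈ A, ∀ n : N, (μ : G → ℂ) n = (k μ : ℂ) * ((t : ℂ)⁻¹ * S n) := by
      intro μ hμ n
      have hcon : classInner (fun n : N => (μ : G → ℂ) n) (θ : N → ℂ) ≠ 0 := by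
        rw [hA] at hμ
        exact hμ
      have h1 := Cfsg.Agent.Helper5.clifford_orbit_sum N μ.2 θ.2 hcon
      rw [← htdef, ← hS, hk μ] at h1
      have h2 := congrFun h1 n
      simp only [Pi.smul_apply, smul_eq_mul] at h2
      field_simp
      linear_combination h2
    -- the two idempotents are proportional
    obtain ⟨E, hE⟩ : ∃ E : Set (IrrCharacter G) → ℂ,
        E = fun X => ∑ μ : IrrCharacter G, if μ ∈ X then ((k μ : ℂ)) ^ 2 else 0 := ⟨_, rfl⟩
    have hcoefN : ∀ X : Set (IrrCharacter G), X ⊆ A → ∀ n : N,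
        blockCoeff X (n : G) = (Nat.card G : ℂ)⁻¹ *
          (E X * ((t : ℂ)⁻¹ * S 1) * conj ((t : ℂ)⁻¹ * S n)) := by
      intro X hXA n
      unfold blockCoeff
      congr 1
      rw [finsum_mem_def, finsum_eq_sum_of_fintype, hE]
      simp only
      rw [Finset.sum_mul, Finset.sum_mul]
      refine Finset.sum_congr rfl fun μ _ => ?_
      by_cases hμ : μ ∈ X
      · rw [Set.indicator_of_mem hμ, if_pos hμ]
        have h1 := hres μ (hXA hμ) n
        have h2 := hres μ (hXA hμ) 1
        have h3 : (μ : G → ℂ) 1 = (μ : G → ℂ) ((1 : N) : G) := rfl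
        rw [h3, h1, h2, map_mul, Complex.conj_natCast]
        ring
      · rw [Set.indicator_of_notMem hμ, if_neg hμ, zero_mul, zero_mul]
    have hprop : ∀ g : G, E A * blockCoeff B g = E B * blockCoeff A g := by
      intro g
      by_cases hgN : g ∈ N
      · have h1 := hcoefN B hBA ⟨g, hgN⟩
        have h2 := hcoefN A (le_refl A) ⟨g, hgN⟩
        simp only at h1 h2
        rw [h1, h2]
        ring
      · -- `g` is `p`-singular
        have hsing : p ∣ orderOf g := by
          obtain ⟨j, hj⟩ := hidx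
          have hcard : Nat.card (G ⧸ N) = p ^ j := by
            rw [← hj]
            rfl
          have hne : (g : G ⧸ N) ≠ 1 := by
            intro h
            exact hgN ((QuotientGroup.eq_one_iff g).mp h)
          have hord : orderOf (g : G ⧸ N) ∣ p ^ j := by
            rw [← hcard]
            exact orderOf_dvd_natCard _
          obtain ⟨i, -, hi⟩ := (Nat.dvd_prime_pow hp).mp hord
          have hi0 : i ≠ 0 := by
            intro h0
            rw [h0, pow_zero, orderOf_eq_one_iff] at hi
            exact hne hi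
          have h3 : orderOf (g : G ⧸ N) ∣ orderOf g := by
            apply orderOf_dvd_of_pow_eq_one
            rw [← QuotientGroup.mk_pow, pow_orderOf_eq_one, QuotientGroup.mk_one]
          rw [hi] at h3
          exact dvd_trans (dvd_pow_self p hi0) h3
        rw [blockCoeff_eq_zero_of_pSingular hM hBblock hsing,
          blockCoeff_eq_zero_of_memLocalRing hM hAloc hsing, mul_zero, mul_zero]
    -- read off the coordinates
    have hcoord : ∀ ν : IrrCharacter G,
        E A * (if ν ∈ B then (1 : ℂ) else 0) = E B * (if ν ∈ A then (1 : ℂ) else 0) := by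
      intro ν
      have h1 : ∀ g : G, synth (E A • fun μ : IrrCharacter G => if μ ∈ B then (1 : ℂ) else 0) g =
          synth (E B • fun μ : IrrCharacter G => if μ ∈ A then (1 : ℂ) else 0) g := by
        intro g
        rw [synth_smul, synth_smul, ← blockCoeff_eq_synth, ← blockCoeff_eq_synth]
        exact hprop g
      have h2 : synth (E A • fun μ : IrrCharacter G => if μ ∈ B then (1 : ℂ) else 0) =
          synth (E B • fun μ : IrrCharacter G => if μ ∈ A then (1 : ℂ) else 0) := funext h1
      have h3 := congrArg (omega (ν : G → ℂ)) h2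
      rw [omega_synth, omega_synth] at h3
      simpa using h3
    have hEA : E A = E B := by
      have := hcoord χ
      rw [if_pos hχB, if_pos hχA, mul_one, mul_one] at this
      exact this
    have hEA0 : E A ≠ 0 := by
      rw [hE]
      simp only
      have hnn : ∀ μ : IrrCharacter G, (if μ ∈ A then ((k μ : ℂ)) ^ 2 else 0) =
          (((if μ ∈ A then (k μ) ^ 2 else 0 : ℕ)) : ℂ) := by
        intro μ
        split_ifs <;> simp
      simp only [hnn]
      rw [← Nat.cast_sum]
      have hpos : 0 < ∑ μ : IrrCharacter G, (if μ ∈ A then (k μ) ^ 2 else 0 : ℕ) := by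
        apply Finset.sum_pos'
        · intro μ _
          exact Nat.zero_le _
        · refine ⟨χ, Finset.mem_univ _, ?_⟩
          rw [if_pos hχA]
          have := hkA χ hχA
          positivity
      exact_mod_cast hpos.ne'
    have hψB : ψ ∈ B := by
      by_contra hψ
      have := hcoord ψ
      rw [if_neg hψ, if_pos hψA, mul_zero, mul_one] at this
      rw [← hEA] at this
      exact hEA0 this.symm
    rw [hB] at hψB
    exact hψB

end Cfsg.Agent.S0954
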