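import Mathlib
import Cfsg.Statements.S0958
import Cfsg.Agent.Lib.Helper23.BlockBrauer4
import Cfsg.Agent.S0917

set_option autoImplicit false
open Cfsg Cfsg.Agent.Helper23.Blk Cfsg.Agent.Helper24

namespace Cfsg.Agent.S0958

/-- Let P be a p-subgroup of the finite group G and H a subgroup with P ⊔ C_G(P) ≤ H ≤ N_G(P); fix a maximal ideal M of the algebraic integers containing p. Then a block B of G is induced by some block of H if and only if some conjugate of P is contained in a defect group of B. -/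
theorem result {G : Type*} [Group G] [Finite G] (p : ℕ) [Fact p.Prime] (M : Ideal Cfsg.AlgInt) (hM : Cfsg.IsPModular p M) (P H : Subgroup G) (hP : IsPGroup p P) (hPH : P ⊔ Subgroup.centralizer (P : Set G) ≤ H) (hHN : H ≤ Subgroup.normalizer (P : Set G)) (B : Set (Cfsg.IrrCharacter G)) (hB : Cfsg.IsPBlock M B) : (∃ b : Set (Cfsg.IrrCharacter H), Cfsg.IsInducedBlock M H b B) ↔ ∃ D : Subgroup G, Cfsg.IsDefectGroup p M B D ∧ ∃ x : G, P.map (MulAut.conj x).toMonoidHom ≤ D := by
  classical
  haveI : Fintype G := Fintype.ofFinite G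
  haveI : Fintype H := Fintype.ofFinite H
  letI : Fintype (IrrCharacter G) := irrFintype
  letI : Fintype (IrrCharacter H) := irrFintype
  haveI hMp : M.IsPrime := hM.2.1.isPrime
  have hPH' : P ≤ H := le_trans le_sup_left hPH
  have hCH : Subgroup.centralizer (P : Set G) ≤ H := le_trans le_sup_right hPH
  constructor
  · rintro ⟨b, hind⟩
    have hb := hind.1
    obtain ⟨D_b, hD_b⟩ := exists_isDefectGroup hM hb
    obtain ⟨E, hE, hle⟩ := Cfsg.Agent.S0917.result p M hM H b hb B hB hind D_b hD_b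
    refine ⟨E, hE, 1, ?_⟩
    haveI hN : (P.subgroupOf H).Normal := Subgroup.normal_subgroupOf_of_le_normalizer hHN
    have hP' : IsPGroup p (P.subgroupOf H) := hP.comap_subtype
    have h1 : P.subgroupOf H ≤ D_b := by
      obtain ⟨g_b, hg_b, Q, rfl⟩ := hD_b
      exact normal_pgroup_le_defectGroup hM hb _ hP' hg_b Q
    rintro _ ⟨w, hw, rfl⟩
    apply hle
    refine ⟨⟨w, hPH' hw⟩, h1 ?_, ?_⟩
    · rw [Subgroup.mem_subgroupOf]
      exact hw
    · simp [MulAut.conj_apply]
  · rintro ⟨D, hD, x, hx⟩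
    obtain ⟨g, hg, hle, -⟩ := (isDefectGroup_iff hM hB).1 hD
    have hgC : x⁻¹ * g * x ∈ Subgroup.centralizer (P : Set G) := by
      rw [Subgroup.mem_centralizer_iff]
      intro w hw
      have h1 : x * w * x⁻¹ ∈ D := by
        apply hx
        exact ⟨w, hw, by simp [MulAut.conj_apply]⟩
      have h2 := hle h1
      rw [Subgroup.mem_centralizer_singleton_iff] at h2
      calc w * (x⁻¹ * g * x) = x⁻¹ * ((x * w * x⁻¹) * g) * x := by group
        _ = x⁻¹ * (g * (x * w * x⁻¹)) * x := by rw [h2]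
        _ = x⁻¹ * g * x * w := by group
    have hgB : ¬ MemLocalIdeal M (blockCoeff B (x⁻¹ * g * x)) := by
      have := blockCoeff_conj B g x⁻¹
      rw [inv_inv] at this
      rw [this]
      exact hg.2.1
    obtain ⟨ξ₁, hξ₁⟩ := exists_induced_of_blockCoeff P H hM hP hPH' hCH hHN hB hgC hgB
    exact ⟨_, hξ₁⟩

end Cfsg.Agent.S0958
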