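import Mathlib
import Cfsg.Statements.S0973
import Cfsg.Agent.Lib.Helper18.PairBridge
import Cfsg.Agent.Lib.Helper23.BlockBrauer4

set_option autoImplicit false

open Cfsg

namespace Cfsg.Agent.S0973

open Cfsg.Agent.Helper24 Cfsg.Agent.Helper23.Blk Cfsg.Agent.Helper18.PairRel

theorem mem_normalizer_sup {G : Type*} [Group G] [Fintype G] (P : Subgroup G) {g : G}
    (hg : g ∈ Subgroup.normalizer (P : Set G)) :
    g ∈ Subgroup.normalizer ((P ⊔ Subgroup.centralizer (P : Set G) : Subgroup G) : Set G) := by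
  apply mem_normalizer_of_map_conj_eq
  rw [Subgroup.map_sup, map_conj_eq_of_mem_normalizer hg,
    map_conj_eq_of_mem_normalizer (normalizer_le_normalizer_centralizer P hg)]

theorem result {G : Type*} [Group G] [Finite G] (p : ℕ) [Fact p.Prime] (M : Ideal Cfsg.AlgInt) (hM : Cfsg.IsPModular p M) (B : Set (Cfsg.IrrCharacter G)) (hB : Cfsg.IsPBlock M B) (P : Subgroup G) (hP : Cfsg.IsDefectGroup p M B P) : (∃ b : Set (Cfsg.IrrCharacter ↥(P ⊔ Subgroup.centralizer (P : Set G))), Cfsg.IsDefectGroup p M b (P.subgroupOf (P ⊔ Subgroup.centralizer (P : Set G))) ∧ Cfsg.IsInducedBlock M (P ⊔ Subgroup.centralizer (P : Set G)) b B) ∧ ∀ b b' : Set (Cfsg.IrrCharacter ↥(P ⊔ Subgroup.centralizer (P : Set G))), Cfsg.IsInducedBlock M (P ⊔ Subgroup.centralizer (P : Set G)) b B → Cfsg.IsInducedBlock M (P ⊔ Subgroup.centralizer (P : Set G)) b' B → ∃ n ∈ Subgroup.normalizer (P : Set G), ∀ θ ∈ b, ∃ θ' ∈ b', ∀ x : ↥(P ⊔ Subgroup.centralizer (P : Set G)), ∀ hx : n * (x : G) * n⁻¹ ∈ P ⊔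 Subgroup.centralizer (P : Set G), (θ' : ↥(P ⊔ Subgroup.centralizer (P : Set G)) → ℂ) x = (θ : ↥(P ⊔ Subgroup.centralizer (P : Set G)) → ℂ) ⟨n * (x : G) * n⁻¹, hx⟩ := by
  classical
  haveI : Fintype G := Fintype.ofFinite G
  haveI hMp : M.IsPrime := hM.2.1.isPrime
  haveI : Fintype ↥(P ⊔ Subgroup.centralizer (P : Set G)) := Fintype.ofFinite _
  letI : Fintype (IrrCharacter G) := irrFintype
  letI : Fintype (IrrCharacter ↥(P ⊔ Subgroup.centralizer (P : Set G))) := irrFintype
  have hPp : IsPGroup p P := isPGroup_of_isDefectGroup hM hP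
  have hPL : P ≤ P ⊔ Subgroup.centralizer (P : Set G) := le_sup_left
  have hCL : Subgroup.centralizer (P : Set G) ≤ P ⊔ Subgroup.centralizer (P : Set G) :=
    le_sup_right
  have hLN : P ⊔ Subgroup.centralizer (P : Set G) ≤ Subgroup.normalizer (P : Set G) :=
    sup_le Subgroup.le_normalizer (Subgroup.centralizer_le_normalizer _)
  -- pairs on `P` have no proper normal superpairs
  have hnoOf : ∀ e : Set (IrrCharacter (Subgroup.centralizer (P : Set G))),
      IsBrauerPairOf p M B P e →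
      ∀ (R : Subgroup G) (g : Set (IrrCharacter (Subgroup.centralizer (R : Set G)))),
        IsNormalSubpair p M P e R g → R = P := by
    intro e hBe R g hsub
    have hBS := isBrauerPairOf_of_isNormalSubpair hM hsub hBe
    have hcard := card_le_of_subConj (subConj_of_isBrauerPairOf hM hBS hP)
    exact (Subgroup.eq_of_le_of_card_ge hsub.2.2.1 hcard).symm
  constructor
  · obtain ⟨x, hx, hle, -⟩ := (isDefectGroup_iff hM hB).1 hP
    have hxC : x ∈ Subgroup.centralizer (P : Set G) := by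
      rw [Subgroup.mem_centralizer_iff]
      intro w hw
      have h1 := hle hw
      rw [Subgroup.mem_centralizer_singleton_iff] at h1
      exact h1
    obtain ⟨ξ₁, hind⟩ := exists_induced_of_blockCoeff P (P ⊔ Subgroup.centralizer (P : Set G))
      hM hPp hPL hCL hLN hB hxC hx.2.1
    have hb : IsPBlock M (blockOf M
      (ξ₁ : ↥(P ⊔ Subgroup.centralizer (P : Set G)) → ℂ)) := ⟨ξ₁, rfl⟩
    obtain ⟨e, he, hbe, hpair⟩ := exists_block_centralizer_of_block_sup hM hPp rfl hb
    have hBe := hpair B hind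
    exact ⟨_, isDefectGroup_of_no_superpair_sup hM hPp rfl hb he hbe (hnoOf e hBe), hind⟩
  · intro b b' hind hind'
    obtain ⟨e, he, hbe, hpair⟩ := exists_block_centralizer_of_block_sup hM hPp rfl hind.1
    obtain ⟨e', he', hbe', hpair'⟩ := exists_block_centralizer_of_block_sup hM hPp rfl hind'.1
    have hBe := hpair B hind
    have hBe' := hpair' B hind'
    obtain ⟨n, hn, hconj⟩ := exists_conj_of_maxPairs hM hBe hBe' (hnoOf e hBe) (hnoOf e' hBe')
    have hnL := mem_normalizer_sup P hn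
    have hnC := normalizer_le_normalizer_centralizer P hn
    have himg := image_conjIrr_eq_of_blockCoeff_eq hCL hbe hbe' hnL hnC hconj
    refine ⟨n⁻¹, Subgroup.inv_mem _ hn, ?_⟩
    intro θ hθ
    refine ⟨conjIrr _ n hnL θ, himg ▸ ⟨θ, hθ, rfl⟩, ?_⟩
    intro x hx
    rw [conjIrr_apply]
    apply congrArg (θ : ↥(P ⊔ Subgroup.centralizer (P : Set G)) → ℂ)
    apply Subtype.ext
    rw [normConj_apply]

end Cfsg.Agent.S0973
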