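import Mathlib
import Cfsg.Statements.S0886
import Cfsg.Agent.Lib.Helper5.RepExtend

set_option autoImplicit false
open Cfsg

namespace Cfsg.Agent.S0886

open Cfsg.Agent.Helper24 Cfsg.Agent.Helper5

/-- Let N be a normal subgroup of the finite group G with G / N cyclic, and ϑ an irreducible character of N invariant under conjugation by G. Then ϑ is the restriction of some irreducible character of G. -/
theorem result {G : Type*} [Group G] [Finite G] (N : Subgroup G) [hN : N.Normal] (hcyc : IsCyclic (G ⧸ N)) (ϑ : N → ℂ) (hϑ : Cfsg.IsIrrCharacter N ϑ) (hinv : ∀ (g : G) (n : N), ϑ ⟨g * n * g⁻¹, hN.conj_mem (n : G) n.2 g⟩ = ϑ n) : ∃ χ : G → ℂ, Cfsg.IsIrrCharacter G χ ∧ ∀ n : N, χ n = ϑ n := by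
  classical
  letI : Fintype G := Fintype.ofFinite G
  letI : Fintype N := Fintype.ofFinite N
  obtain ⟨k, ρ, hρ, rfl⟩ := hϑ
  have hinv' : ∀ (g : G) (n : N), ρ.character (MulAut.conjNormal g n) = ρ.character n := by
    intro g n
    have h := hinv g n
    have e : (MulAut.conjNormal g n : N) = ⟨g * n * g⁻¹, hN.conj_mem (n : G) n.2 g⟩ := by
      apply Subtype.ext
      rw [MulAut.conjNormal_apply]
    rw [e]
    exact h
  obtain ⟨ρ', hρ'⟩ := exists_extension_of_cyclic N hcyc ρ hρ hinv'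
  refine ⟨ρ'.character, isIrrCharacter_of_rep ρ' (isIrreducible_of_restrict N ρ hρ ρ' hρ'), ?_⟩
  intro n
  show LinearMap.trace ℂ _ (ρ' (n : G)) = LinearMap.trace ℂ _ (ρ n)
  rw [hρ' n]

end Cfsg.Agent.S0886
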