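import Mathlib
import Cfsg.Statements.S0850
import Cfsg.Agent.Lib.Helper5.CharBasic

set_option autoImplicit false
set_option linter.unusedVariables false
open Cfsg

namespace Cfsg.Agent.S0850

open Cfsg.Agent.Helper5

/-- every element of the normalizer whose order divides `|K|`-primes lies in `K` -/
theorem part1 {G : Type*} [Group G] [Finite G] (K : Subgroup G)
    (hC : ∀ k ∈ K, k ≠ 1 → Subgroup.centralizer ({k} : Set G) ≤ K)
    (x : G) (hx : x ∈ Subgroup.normalizer (K : Set G)) (hxK : x ∉ K) (g : G) : g * x * g⁻¹ ∉ K := by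
  intro hy
  set N := Subgroup.normalizer (K : Set G) with hN
  have hKN : K ≤ N := Subgroup.le_normalizer
  let K' : Subgroup N := K.subgroupOf N
  haveI : K'.Normal := Subgroup.normal_in_normalizer
  let xN : N := ⟨x, hx⟩
  have hxbar : ((xN : N) : N ⧸ K') ≠ 1 := by
    rw [Ne, QuotientGroup.eq_one_iff]
    intro h
    exact hxK (Subgroup.mem_subgroupOf.mp h)
  obtain ⟨p, hp, hpd⟩ := Nat.exists_prime_and_dvd (fun h => hxbar (orderOf_eq_one_iff.mp h))
  haveI : Fact p.Prime := ⟨hp⟩
  have ho : orderOf x = orderOf (g * x * g⁻¹) := by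
    have := orderOf_injective (MulAut.conj g).toMonoidHom (MulAut.conj g).injective x
    simpa using this.symm
  have hoK : orderOf x ∣ Nat.card K := by
    rw [ho]
    exact Subgroup.orderOf_dvd_natCard K hy
  have hbarx : orderOf ((xN : N) : N ⧸ K') ∣ orderOf x := by
    have h1 : orderOf ((xN : N) : N ⧸ K') ∣ orderOf xN := orderOf_map_dvd (QuotientGroup.mk' K') xN
    have h2 : orderOf xN = orderOf x := Subgroup.orderOf_mk x hx
    rwa [h2] at h1
  have hopos : 0 < orderOf x := orderOf_pos x
  obtain ⟨a, m, hpm, hom⟩ := Nat.exists_eq_pow_mul_and_not_dvd hopos.ne' p hp.ne_one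
  -- the p-part
  set x' : G := x ^ m with hx'
  have hx'N : x' ∈ N := N.pow_mem hx m
  have hx'K : x' ∉ K := by
    intro h
    have : ((xN : N) : N ⧸ K') ^ m = 1 := by
      rw [← QuotientGroup.mk_pow, QuotientGroup.eq_one_iff]
      exact Subgroup.mem_subgroupOf.mpr h
    have := orderOf_dvd_of_pow_eq_one this
    exact hpm (hpd.trans this)
  have hx'p : x' ^ (p ^ a) = 1 := by
    rw [hx', ← pow_mul, mul_comm, ← hom, pow_orderOf_eq_one]
  let Q : Subgroup G := Subgroup.zpowers x'
  have hQN : Q ≤ N := by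
    rw [Subgroup.zpowers_le]; exact hx'N
  have hQp : IsPGroup p Q := by
    have hcard : Nat.card Q = orderOf x' := Nat.card_zpowers x'
    have hdvd : orderOf x' ∣ p ^ a := orderOf_dvd_of_pow_eq_one hx'p
    obtain ⟨j, _, hj⟩ := (Nat.dvd_prime_pow hp).mp hdvd
    exact IsPGroup.of_card (hcard.trans hj)
  have hpK : p ∣ Nat.card K := (hpd.trans hbarx).trans hoK
  obtain ⟨k, hkK, hk1, hcomm⟩ := exists_ne_one_commute_of_pgroup p K Q hQN hQp hpK
  apply hx'K
  apply hC k hkK hk1
  rw [Subgroup.mem_centralizer_iff]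
  intro h hh
  rw [Set.mem_singleton_iff] at hh
  subst hh
  exact (hcomm x' (Subgroup.mem_zpowers x')).symm

theorem part2 {G : Type*} [Group G] [Fintype G] (K N : Subgroup G)
    (hTI : ∀ g : G, g ∉ N → ∀ k ∈ K, g * k * g⁻¹ ∈ K → k = 1)
    (P1 : ∀ x ∈ N, x ∉ K → ∀ g : G, g * x * g⁻¹ ∉ K)
    (ϑ : N → ℂ) (hcf : Cfsg.IsClassFunction N ϑ) (hvan : ∀ x : N, (x : G) ∉ K → ϑ x = 0) (h1 : ϑ 1 = 0)
    (x : N) : Cfsg.indFun N ϑ x = ϑ x := by
  classical
  have hNpos : (Nat.card N : ℂ) ≠ 0 := by
    have : 0 < Nat.card N := Nat.card_pos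
    exact_mod_cast this.ne'
  -- value of the extension by zero on elements outside K
  have hext0 : ∀ z : G, z ∉ K → Cfsg.extendByZero N ϑ z = 0 := by
    intro z hz
    by_cases hzN : z ∈ N
    · rw [extendByZero_of_mem N ϑ z hzN]
      exact hvan ⟨z, hzN⟩ hz
    · exact extendByZero_of_not_mem N ϑ z hzN
  show (Nat.card N : ℂ)⁻¹ * ∑ y : G, Cfsg.extendByZero N ϑ (y⁻¹ * (x : G) * y) = ϑ x
  by_cases hxK : (x : G) ∈ K
  · by_cases hx1 : (x : G) = 1
    · have hx1' : x = 1 := Subtype.ext hx1
      have : ∀ y : G, Cfsg.extendByZero N ϑ (y⁻¹ * (x : G) * y) = 0 := by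
        intro y
        rw [hx1, mul_one, inv_mul_cancel]
        rw [extendByZero_of_mem N ϑ 1 N.one_mem]
        exact h1
      simp only [this, Finset.sum_const_zero, mul_zero]
      rw [hx1', h1]
    · -- x ∈ K, x ≠ 1
      have hterm : ∀ y : G, Cfsg.extendByZero N ϑ (y⁻¹ * (x : G) * y) = if y ∈ N then ϑ x else 0 := by
        intro y
        split_ifs with hy
        · have hmem : y⁻¹ * (x : G) * y ∈ N := N.mul_mem (N.mul_mem (N.inv_mem hy) x.2) hy
          rw [extendByZero_of_mem N ϑ _ hmem]
          have := hcf x (⟨y, hy⟩⁻¹ : N)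
          rw [← this]
          congr 1
          apply Subtype.ext
          simp
        · apply hext0
          intro hmem
          have hy' : y⁻¹ ∉ N := fun h => hy (by simpa using N.inv_mem h)
          have := hTI y⁻¹ hy' (x : G) hxK (by simpa using hmem)
          exact hx1 this
      simp only [hterm]
      rw [Finset.sum_ite, Finset.sum_const_zero, add_zero, Finset.sum_const, nsmul_eq_mul]
      have hcard : (Finset.univ.filter (fun y : G => y ∈ N)).card = Nat.card N := by
        rw [Nat.card_eq_fintype_card, Fintype.card_subtype]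
      rw [hcard, ← mul_assoc, inv_mul_cancel₀ hNpos, one_mul]
  · have : ∀ y : G, Cfsg.extendByZero N ϑ (y⁻¹ * (x : G) * y) = 0 := by
      intro y
      apply hext0
      have := P1 (x : G) x.2 hxK y⁻¹
      simpa using this
    simp only [this, Finset.sum_const_zero, mul_zero]
    exact (hvan x hxK).symm

/-- Let K be a subgroup of the finite group G that meets each conjugate by an element outside its normalizer N trivially, is properly contained in N, and contains the centralizer of each of its non-identity elements (a T.I. subgroup with Frobenius normalizer). Then no element of N outside K is conjugate in G to an element of K, and for every class function ϑ of N that vanishes on N away from K and at the identity, the function induced from ϑ to G agrees with ϑ on all of N. -/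
theorem result {G : Type*} [Group G] [Fintype G] (K : Subgroup G) (hTI : ∀ g : G, g ∉ Subgroup.normalizer (K : Set G) → ∀ k ∈ K, g * k * g⁻¹ ∈ K → k = 1) (hlt : K < Subgroup.normalizer (K : Set G)) (hC : ∀ k ∈ K, k ≠ 1 → Subgroup.centralizer ({k} : Set G) ≤ K) : (∀ x ∈ Subgroup.normalizer (K : Set G), x ∉ K → ∀ g : G, g * x * g⁻¹ ∉ K) ∧ ∀ (ϑ : Subgroup.normalizer (K : Set G) → ℂ), Cfsg.IsClassFunction (Subgroup.normalizer (K : Set G)) ϑ → (∀ x : Subgroup.normalizer (K : Set G), (x : G) ∉ K → ϑ x = 0) → ϑ 1 = 0 → ∀ x : Subgroup.normalizer (K : Set G), Cfsg.indFun (Subgroup.normalizer (K : Set G)) ϑ x = ϑ x := by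
  have P1 : ∀ x ∈ Subgroup.normalizer (K : Set G), x ∉ K → ∀ g : G, g * x * g⁻¹ ∉ K :=
    fun x hx hxK g => part1 K hC x hx hxK g
  refine ⟨P1, ?_⟩
  intro ϑ hcf hvan h1 x
  exact part2 K (Subgroup.normalizer (K : Set G)) hTI P1 ϑ hcf hvan h1 x

end Cfsg.Agent.S0850
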