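import Mathlib
import Cfsg.Statements.S0149
import Cfsg.Agent.Lib.Helper11.IndFun

set_option autoImplicit false
open Cfsg

namespace Cfsg.Agent.S0149

open Cfsg.Agent.Helper11

theorem result {G : Type*} [Group G] [Fintype G] (T : Set G) (hTI : ∀ g : G, g ∉ Subgroup.normalizer T → ∀ t ∈ T, g * t * g⁻¹ ∈ T → t = 1) (hTN : T ⊆ Subgroup.normalizer T) (ψ : Subgroup.normalizer T → ℂ) (hψ : Cfsg.IsClassFunction (Subgroup.normalizer T) ψ) (hψT : ∀ x : Subgroup.normalizer T, (x : G) ∉ T → ψ x = 0) (t : Subgroup.normalizer T) (htT : (t : G) ∈ T) (ht1 : t ≠ 1) : Cfsg.indFun (Subgroup.normalizer T) ψ t = ψ t := by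
  rw [indFun_apply]
  have ht1' : (t : G) ≠ 1 := fun h => ht1 (Subtype.ext h)
  have hsum := sum_indicator_subgroup (Subgroup.normalizer T) (ψ t) (fun x => Cfsg.extendByZero (Subgroup.normalizer T) ψ (x⁻¹ * (t : G) * x)) ?_ ?_
  · rw [hsum]
    have hNc : (Nat.card (Subgroup.normalizer T) : ℂ) ≠ 0 := by
      have : Nat.card (Subgroup.normalizer T) ≠ 0 := Nat.card_pos.ne'
      exact_mod_cast this
    field_simp
  · intro x hx
    have hmem : x⁻¹ * (t : G) * x ∈ (Subgroup.normalizer T) := (Subgroup.normalizer T).mul_mem ((Subgroup.normalizer T).mul_mem ((Subgroup.normalizer T).inv_mem hx) t.2) hx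
    rw [extendByZero_of_mem (Subgroup.normalizer T) ψ _ hmem]
    have := hψ t (⟨x, hx⟩⁻¹ : Subgroup.normalizer T)
    rw [← this]
    congr 1
    apply Subtype.ext
    simp
  · intro x hx
    by_cases hmem : x⁻¹ * (t : G) * x ∈ (Subgroup.normalizer T)
    · rw [extendByZero_of_mem (Subgroup.normalizer T) ψ _ hmem]
      apply hψT
      intro hT
      have hxinv : x⁻¹ ∉ (Subgroup.normalizer T) := fun h => hx (by simpa using (Subgroup.normalizer T).inv_mem h)
      have := hTI x⁻¹ hxinv (t : G) htT (by simpa using hT)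
      exact ht1' this
    · exact extendByZero_of_not_mem (Subgroup.normalizer T) ψ _ hmem

end Cfsg.Agent.S0149
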