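import Mathlib
import Cfsg.Statements.S0170
import Cfsg.Agent.Lib.Helper24.CharInduced
import Cfsg.Agent.Lib.Helper24.CharLinear
import Cfsg.Agent.Lib.Helper18.ExcComb
import Cfsg.Agent.S0150

set_option autoImplicit false
open Cfsg

namespace Cfsg.Agent.S0170

open Cfsg.Agent.Helper24 Cfsg.Agent.Helper18
open scoped ComplexConjugate

theorem isClassFunction_sub {G : Type*} [Group G] {f g : G → ℂ} (hf : IsClassFunction G f)
    (hg : IsClassFunction G g) : IsClassFunction G (f - g) := by
  intro x y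
  simp only [Pi.sub_apply, hf x y, hg x y]

/-- Coherence for a family of characters whose differences have the inner products of an
orthonormal-difference family. -/
theorem coherent_of_inner {G : Type*} [Group G] [Fintype G] {m : ℕ} (Φ : Fin (m + 1) → G → ℂ)
    (hΦ : ∀ i, IsCharacter G (Φ i))
    (hinner : ∀ k l : Fin m,
      classInner (Φ k.succ - Φ 0) (Φ l.succ - Φ 0) = if k = l then 2 else 1)
    (hdeg : ∀ i, Φ i 1 = Φ 0 1) :
    ∃ ε : ℂ, (ε = 1 ∨ ε = -1) ∧ ∃ θ : Fin (m + 1) → (G → ℂ),
      (∀ i, IsIrrCharacter G (θ i)) ∧ Function.Injective θ ∧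
        ∀ i j, Φ i - Φ j = ε • (θ i - θ j) := by
  classical
  letI : Fintype (IrrCharacter G) := irrFintype
  haveI : Nonempty (IrrCharacter G) := ⟨principalChar G⟩
  choose a ha using fun i => (isCharacter_decomp (hΦ i)).1
  have hexp : ∀ i, Φ i = ∑ θ : IrrCharacter G, (a i θ : ℂ) • (θ : G → ℂ) := by
    intro i
    have h := (isCharacter_decomp (hΦ i)).2
    simp only [ha i] at h
    exact h
  obtain ⟨c, hcdef⟩ : ∃ c : Fin m → IrrCharacter G → ℤ,
      ∀ k θ, c k θ = (a k.succ θ : ℤ) - (a 0 θ : ℤ) := ⟨_, fun _ _ => rfl⟩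
  have hcf : ∀ k : Fin m, IsClassFunction G (Φ k.succ - Φ 0) := fun k =>
    isClassFunction_sub (isClassFunction_of_isCharacter (hΦ _))
      (isClassFunction_of_isCharacter (hΦ _))
  have hcoef : ∀ (k : Fin m) (θ : IrrCharacter G),
      classInner (Φ k.succ - Φ 0) (θ : G → ℂ) = ((c k θ : ℤ) : ℂ) := by
    intro k θ
    rw [sub_eq_add_neg, ← neg_one_smul ℂ (Φ 0), classInner_add_left, classInner_smul_left,
      ha, ha, hcdef]
    push_cast
    ring
  have hin : ∀ k l : Fin m, ∑ θ, c k θ * c l θ = if k = l then 2 else 1 := by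
    intro k l
    have h := hinner k l
    rw [classInner_eq_sum_mul (hcf k)] at h
    simp only [hcoef, map_intCast] at h
    have h2 : ((∑ θ, c k θ * c l θ : ℤ) : ℂ) = ((if k = l then 2 else 1 : ℤ) : ℂ) := by
      push_cast
      rw [h]
    exact_mod_cast h2
  have hd : ∀ θ : IrrCharacter G, 0 < charDegree (θ : G → ℂ) := fun θ => charDegree_pos θ.2
  have h0 : ∀ k : Fin m, ∑ θ, c k θ * ((charDegree (θ : G → ℂ) : ℕ) : ℤ) = 0 := by
    intro k
    have h1 : ∀ i, Φ i 1 = ∑ θ : IrrCharacter G, (a i θ : ℂ) * (charDegree (θ : G → ℂ) : ℂ) := by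
      intro i
      conv_lhs => rw [hexp i]
      rw [Finset.sum_apply]
      refine Finset.sum_congr rfl fun θ _ => ?_
      rw [Pi.smul_apply, smul_eq_mul, irr_one_eq_charDegree θ.2]
    have h2 := hdeg k.succ
    rw [h1, h1] at h2
    have h3 : ((∑ θ, c k θ * ((charDegree (θ : G → ℂ) : ℕ) : ℤ) : ℤ) : ℂ) = 0 := by
      push_cast
      simp only [hcdef]
      push_cast
      simp only [sub_mul]
      rw [Finset.sum_sub_distrib, h2, sub_self]
    exact_mod_cast h3
  obtain ⟨ε, t₀, t, hε, htinj, htne, hc⟩ :=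
    exists_coherent (fun θ : IrrCharacter G => charDegree (θ : G → ℂ)) hd c hin h0
  have hkey : ∀ k : Fin m, Φ k.succ - Φ 0 =
      (ε : ℂ) • (((t k : IrrCharacter G) : G → ℂ) - ((t₀ : IrrCharacter G) : G → ℂ)) := by
    intro k
    have h1 : Φ k.succ - Φ 0 = ∑ θ : IrrCharacter G, ((c k θ : ℤ) : ℂ) • (θ : G → ℂ) := by
      conv_lhs => rw [hexp k.succ, hexp 0]
      rw [← Finset.sum_sub_distrib]
      refine Finset.sum_congr rfl fun θ _ => ?_
      rw [hcdef]
      push_cast
      rw [sub_smul]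
    rw [h1, hc k]
    simp only [eVec]
    push_cast
    simp only [mul_sub, sub_smul, mul_ite, mul_one, mul_zero, ite_smul, zero_smul,
      Finset.sum_sub_distrib, Finset.sum_ite_eq', Finset.mem_univ, if_true, smul_sub]
  refine ⟨(ε : ℂ), ?_, Fin.cases (t₀ : G → ℂ) (fun k => ((t k : IrrCharacter G) : G → ℂ)),
    ?_, ?_, ?_⟩
  · rcases hε with h | h <;> simp [h]
  · intro i
    refine Fin.cases ?_ ?_ i
    · exact t₀.2
    · intro k
      exact (t k).2
  · intro i j hij
    induction i using Fin.cases with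
    | zero =>
      induction j using Fin.cases with
      | zero => rfl
      | succ l =>
        exfalso
        simp only [Fin.cases_zero, Fin.cases_succ] at hij
        exact htne l (Subtype.ext hij.symm)
    | succ k =>
      induction j using Fin.cases with
      | zero =>
        exfalso
        simp only [Fin.cases_zero, Fin.cases_succ] at hij
        exact htne k (Subtype.ext hij)
      | succ l =>
        simp only [Fin.cases_succ] at hij
        rw [htinj (Subtype.ext hij)]
  · intro i j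
    have hall : ∀ i : Fin (m + 1), Φ i - Φ 0 = (ε : ℂ) •
        ((Fin.cases (t₀ : G → ℂ) (fun k => ((t k : IrrCharacter G) : G → ℂ)) i : G → ℂ) -
          (Fin.cases (t₀ : G → ℂ) (fun k => ((t k : IrrCharacter G) : G → ℂ))
            (0 : Fin (m + 1)) : G → ℂ)) := by
      intro i
      induction i using Fin.cases with
      | zero => simp
      | succ k =>
        simp only [Fin.cases_zero, Fin.cases_succ]
        exact hkey k
    have h1 : Φ i - Φ j = (Φ i - Φ 0) - (Φ j - Φ 0) := by abel
    rw [h1, hall i, hall j, ← smul_sub]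
    congr 1
    abel

theorem result {G : Type*} [Group G] [Fintype G] (S : Set G) (hSN : S ⊆ Subgroup.normalizer S) (hTI : ∀ g : G, g ∉ Subgroup.normalizer S → ∀ s ∈ S, g * s * g⁻¹ ∈ S → s = 1) (n : ℕ) (hn : 2 ≤ n) (χ : Fin n → (Subgroup.normalizer S → ℂ)) (hirr : ∀ i, Cfsg.IsIrrCharacter (Subgroup.normalizer S) (χ i)) (hinj : Function.Injective χ) (hvan : ∀ i, ∀ x : Subgroup.normalizer S, (x : G) ∉ S → χ i x = 0) (hdeg : ∀ i j, χ i 1 = χ j 1) : ∃ ε : ℂ, (ε = 1 ∨ ε = -1) ∧ ∃ θ : Fin n → (G → ℂ), (∀ i, Cfsg.IsIrrCharacter G (θ i)) ∧ Function.Injective θ ∧ ∀ i j, Cfsg.indFun (Subgroup.normalizer S) (χ i) - Cfsg.indFun (Subgroup.normalizer S) (χ j) = ε • (θ i - θ j) := by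
  classical
  obtain ⟨m, rfl⟩ : ∃ m, n = m + 1 := ⟨n - 1, by omega⟩
  haveI : Fintype (Subgroup.normalizer S) := Fintype.ofFinite _
  letI : Fintype (IrrCharacter (Subgroup.normalizer S)) := irrFintype
  have hsub : ∀ i j, indFun (Subgroup.normalizer S) (χ i - χ j) =
      indFun (Subgroup.normalizer S) (χ i) - indFun (Subgroup.normalizer S) (χ j) := by
    intro i j
    rw [sub_eq_add_neg, ← neg_one_smul ℂ (χ j), indFun_add, indFun_smul, neg_one_smul,
      ← sub_eq_add_neg]
  apply coherent_of_inner (fun i => indFun (Subgroup.normalizer S) (χ i))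
  · intro i
    exact isCharacter_indFun _ (isCharacter_of_isIrrCharacter (hirr i))
  · intro k l
    have hcfN : ∀ i j, IsClassFunction (Subgroup.normalizer S) (χ i - χ j) := fun i j =>
      isClassFunction_sub (isClassFunction_of_isIrrCharacter (hirr i))
        (isClassFunction_of_isIrrCharacter (hirr j))
    have hvan' : ∀ i j, ∀ x : Subgroup.normalizer S, (x : G) ∉ S → (χ i - χ j) x = 0 := by
      intro i j x hx
      rw [Pi.sub_apply, hvan i x hx, hvan j x hx, sub_zero]
    have h1' : ∀ i j, (χ i - χ j) 1 = 0 := by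
      intro i j
      rw [Pi.sub_apply, hdeg i j, sub_self]
    show classInner (indFun (Subgroup.normalizer S) (χ k.succ) -
        indFun (Subgroup.normalizer S) (χ 0))
      (indFun (Subgroup.normalizer S) (χ l.succ) - indFun (Subgroup.normalizer S) (χ 0)) = _
    rw [← hsub, ← hsub, Cfsg.Agent.S0150.result S hTI hSN (χ k.succ - χ 0) (χ l.succ - χ 0)
      (hcfN _ _) (hcfN _ _) (hvan' _ _) (hvan' _ _) (h1' _ _)]
    have e1 : χ k.succ - χ 0 = χ k.succ + (-1 : ℂ) • χ 0 := by
      rw [neg_one_smul, sub_eq_add_neg]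
    have e2 : χ l.succ - χ 0 = χ l.succ + (-1 : ℂ) • χ 0 := by
      rw [neg_one_smul, sub_eq_add_neg]
    rw [e1, e2, classInner_add_left, classInner_add_right, classInner_add_right,
      classInner_smul_left, classInner_smul_left, classInner_smul_right, classInner_smul_right,
      irr_orthogonality (hirr _) (hirr _), irr_orthogonality (hirr _) (hirr _),
      irr_orthogonality (hirr _) (hirr _), irr_orthogonality (hirr _) (hirr _)]
    have hk0 : χ k.succ ≠ χ 0 := fun h => Fin.succ_ne_zero k (hinj h)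
    have hl0 : χ l.succ ≠ χ 0 := fun h => Fin.succ_ne_zero l (hinj h)
    rw [if_neg hk0, if_neg (Ne.symm hl0), if_pos rfl]
    by_cases hkl : k = l
    · subst hkl
      rw [if_pos rfl, if_pos rfl]
      simp
      norm_num
    · have : χ k.succ ≠ χ l.succ := fun h => hkl (Fin.succ_injective _ (hinj h))
      rw [if_neg this, if_neg hkl]
      simp
  · intro i
    show indFun (Subgroup.normalizer S) (χ i) 1 = indFun (Subgroup.normalizer S) (χ 0) 1
    rw [indFun_one, indFun_one, hdeg i 0]

end Cfsg.Agent.S0170
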