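import Mathlib
import Cfsg.Statements.S0851
import Cfsg.Agent.Lib.Helper5.TIFN
import Cfsg.Agent.S0170

set_option autoImplicit false
open Cfsg

namespace Cfsg.Agent.S0851

/-- Let K be a subgroup of the finite group G that meets each conjugate by an element outside its normalizer N trivially, is properly contained in N, and contains the centralizer of each of its non-identity elements (a T.I. subgroup with Frobenius normalizer). Suppose K is abelian, let e be the index of K in N, and call an irreducible character of N relevant when it takes at some element of K a value different from its degree. Then either there is exactly one relevant character and K is an elementary abelian p-group of order e + 1 for some prime p, or there are a sign ε and an injective map f from the relevant characters to the irreducible characters of G such that inducing χ - ξ to G gives ε (f χ - f ξ) for all relevant χ and ξ. -/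
theorem result {G : Type*} [Group G] [Fintype G] (K : Subgroup G) (hTI : ∀ g : G, g ∉ Subgroup.normalizer (K : Set G) → ∀ k ∈ K, g * k * g⁻¹ ∈ K → k = 1) (hlt : K < Subgroup.normalizer (K : Set G)) (hC : ∀ k ∈ K, k ≠ 1 → Subgroup.centralizer ({k} : Set G) ≤ K) (hab : ∀ a ∈ K, ∀ b ∈ K, a * b = b * a) : (Nat.card {χ : Cfsg.IrrCharacter (Subgroup.normalizer (K : Set G)) // ∃ k : Subgroup.normalizer (K : Set G), (k : G) ∈ K ∧ (χ : ↥(Subgroup.normalizer (K : Set G)) → ℂ) k ≠ (χ : ↥(Subgroup.normalizer (K : Set G)) → ℂ) 1} = 1 ∧ ∃ p : ℕ, p.Prime ∧ Cfsg.IsElementaryAbelian p K ∧ Nat.card K = (K.subgroupOf (Subgroup.normalizer (K : Set G))).index + 1) ∨ ∃ (ε : ℂ) (f : {χ : Cfsg.IrrCharacter (Subgroup.normalizer (K : Set G)) // ∃ k : Subgroup.normalizer (K : Set G), (k : G) ∈ K ∧ (χ : ↥(Subgroup.normalizer (K : Set G)) → ℂ) k ≠ (χ : ↥(Subgroup.normalizer (K : Set G)) → ℂ) 1} → Cfsg.IrrCharacter G), (ε = 1 ∨ ε = -1) ∧ Function.Injective f ∧ ∀ χ ξ, Cfsg.indFun (Subgroup.normalizer (K : Set G)) ((χ.1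 : ↥(Subgroup.normalizer (K : Set G)) → ℂ) - (ξ.1 : ↥(Subgroup.normalizer (K : Set G)) → ℂ)) = ε • ((f χ : G → ℂ) - (f ξ : G → ℂ)) := by
  classical
  have hKN : K ≤ Subgroup.normalizer (K : Set G) := Subgroup.le_normalizer
  letI : Fintype ↥(Subgroup.normalizer (K : Set G)) := Fintype.ofFinite _
  letI : Fintype (IrrCharacter ↥(Subgroup.normalizer (K : Set G))) := Helper24.irrFintype
  haveI : (K.subgroupOf (Subgroup.normalizer (K : Set G))).Normal := Subgroup.normal_in_normalizer
  have hF := Helper5.TIFN.fpf K hC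
  have hab' : ∀ a b : K.subgroupOf (Subgroup.normalizer (K : Set G)), a * b = b * a := by
    intro a b
    apply Subtype.ext
    apply Subtype.ext
    exact hab _ (Subgroup.mem_subgroupOf.mp a.2) _ (Subgroup.mem_subgroupOf.mp b.2)
  have hcard := Helper5.FrobKer.card_K_of_comm (K.subgroupOf (Subgroup.normalizer (K : Set G))) hF hab'
  have hcardK : Nat.card (K.subgroupOf (Subgroup.normalizer (K : Set G))) = Nat.card K :=
    Nat.card_congr (Subgroup.subgroupOfEquivOfLe hKN).toEquiv
  have hT : Nat.card {χ : Cfsg.IrrCharacter (Subgroup.normalizer (K : Set G)) // ∃ k : Subgroup.normalizer (K : Set G), (k : G) ∈ K ∧ (χ : ↥(Subgroup.normalizer (K : Set G)) → ℂ) k ≠ (χ : ↥(Subgroup.normalizer (K : Set G)) → ℂ) 1} =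
      Nat.card {η : IrrCharacter ↥(Subgroup.normalizer (K : Set G)) //
        Helper5.FrobKer.Rel (K.subgroupOf (Subgroup.normalizer (K : Set G))) (η : ↥(Subgroup.normalizer (K : Set G)) → ℂ)} := rfl
  by_cases hone : Nat.card {χ : Cfsg.IrrCharacter (Subgroup.normalizer (K : Set G)) // ∃ k : Subgroup.normalizer (K : Set G), (k : G) ∈ K ∧ (χ : ↥(Subgroup.normalizer (K : Set G)) → ℂ) k ≠ (χ : ↥(Subgroup.normalizer (K : Set G)) → ℂ) 1} = 1
  · left
    refine ⟨hone, ?_⟩
    rw [hT] at hone
    rw [hone, one_mul, hcardK] at hcard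
    -- a nonidentity element
    obtain ⟨χ, -⟩ := Nat.card_eq_one_iff_exists.mp hone
    obtain ⟨k₁, hk₁, hk₁ne⟩ := χ.2
    have hk₁1 : k₁ ≠ 1 := fun h => hk₁ne (by rw [h])
    have ho1 : orderOf k₁ ≠ 1 := fun h => hk₁1 (orderOf_eq_one_iff.mp h)
    have hp : (orderOf k₁).minFac.Prime := Nat.minFac_prime ho1
    set p := (orderOf k₁).minFac with hp_def
    have ho0 : orderOf k₁ ≠ 0 := (orderOf_pos k₁).ne'
    have hk₂o := orderOf_pow_orderOf_div ho0 (Nat.minFac_dvd (orderOf k₁))
    set k₂ := k₁ ^ (orderOf k₁ / p) with hk₂_def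
    have hk₂ : k₂ ∈ K.subgroupOf (Subgroup.normalizer (K : Set G)) := Subgroup.pow_mem _ hk₁ _
    have hk₂1 : k₂ ≠ 1 := by
      intro h
      rw [h, orderOf_one] at hk₂o
      exact hp.one_lt.ne hk₂o
    have hk₂p : k₂ ^ p = 1 := by
      rw [hp_def, ← hk₂o]
      exact pow_orderOf_eq_one k₂
    refine ⟨p, hp, ⟨⟨⟨fun a b => Subtype.ext (hab a a.2 b b.2)⟩⟩, ?_⟩, ?_⟩
    · intro a ha
      by_cases ha1 : a = 1
      · rw [ha1, one_pow]
      · have ha' : (⟨a, hKN ha⟩ : ↥(Subgroup.normalizer (K : Set G))) ∈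
            K.subgroupOf (Subgroup.normalizer (K : Set G)) := Subgroup.mem_subgroupOf.mpr ha
        have ha1' : (⟨a, hKN ha⟩ : ↥(Subgroup.normalizer (K : Set G))) ≠ 1 :=
          fun h => ha1 (congrArg Subtype.val h)
        have hconj := Helper5.FrobKer.isConj_of_card_one
          (K.subgroupOf (Subgroup.normalizer (K : Set G))) hone ha' hk₂ ha1' hk₂1
        obtain ⟨c, hc⟩ := isConj_iff.mp hconj
        have h3 : (⟨a, hKN ha⟩ : ↥(Subgroup.normalizer (K : Set G))) ^ p = 1 := by
          rw [← hc, conj_pow, hk₂p, mul_one, mul_inv_cancel]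
        have := congrArg Subtype.val h3
        simpa using this
    · rw [hcard, add_comm]
  · right
    by_cases hle : Nat.card {χ : Cfsg.IrrCharacter (Subgroup.normalizer (K : Set G)) // ∃ k : Subgroup.normalizer (K : Set G), (k : G) ∈ K ∧ (χ : ↥(Subgroup.normalizer (K : Set G)) → ℂ) k ≠ (χ : ↥(Subgroup.normalizer (K : Set G)) → ℂ) 1} < 2
    · have h0 : Nat.card {χ : Cfsg.IrrCharacter (Subgroup.normalizer (K : Set G)) // ∃ k : Subgroup.normalizer (K : Set G), (k : G) ∈ K ∧ (χ : ↥(Subgroup.normalizer (K : Set G)) → ℂ) k ≠ (χ : ↥(Subgroup.normalizer (K : Set G)) → ℂ) 1} = 0 := by omega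
      haveI : IsEmpty {χ : Cfsg.IrrCharacter (Subgroup.normalizer (K : Set G)) // ∃ k : Subgroup.normalizer (K : Set G), (k : G) ∈ K ∧ (χ : ↥(Subgroup.normalizer (K : Set G)) → ℂ) k ≠ (χ : ↥(Subgroup.normalizer (K : Set G)) → ℂ) 1} :=
        (Nat.card_eq_zero.mp h0).resolve_right (fun h => h.not_finite inferInstance)
      exact ⟨1, fun χ => isEmptyElim χ, Or.inl rfl, fun χ => isEmptyElim χ, fun χ => isEmptyElim χ⟩
    · push Not at hle
      let e := (Finite.equivFin {χ : Cfsg.IrrCharacter (Subgroup.normalizer (K : Set G)) // ∃ k : Subgroup.normalizer (K : Set G), (k : G) ∈ K ∧ (χ : ↥(Subgroup.normalizer (K : Set G)) → ℂ) k ≠ (χ : ↥(Subgroup.normalizer (K : Set G)) → ℂ) 1}).symm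
      obtain ⟨ε, hε, θ, hθirr, hθinj, hθ⟩ := Cfsg.Agent.S0170.result (K : Set G)
        (fun x hx => hKN hx) hTI _ hle
        (fun i => ((e i).1 : ↥(Subgroup.normalizer (K : Set G)) → ℂ))
        (fun i => (e i).1.2)
        (fun i j hij => e.injective (Subtype.ext (Subtype.ext hij)))
        (fun i x hx => Helper5.FrobKer.vanish_off (K.subgroupOf (Subgroup.normalizer (K : Set G)))
          hF (e i).1.2 (e i).2 (fun h => hx (Subgroup.mem_subgroupOf.mp h)))
        (fun i j => by
          rw [Helper5.FrobKer.degree_of_rel_of_comm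
            (K.subgroupOf (Subgroup.normalizer (K : Set G))) hF hab' (e i).1.2 (e i).2,
            Helper5.FrobKer.degree_of_rel_of_comm
            (K.subgroupOf (Subgroup.normalizer (K : Set G))) hF hab' (e j).1.2 (e j).2])
      refine ⟨ε, fun χ => ⟨θ (e.symm χ), hθirr _⟩, hε, ?_, ?_⟩
      · intro χ ξ h
        have h1 := congrArg Subtype.val h
        exact e.symm.injective (hθinj h1)
      · intro χ ξ
        have h1 := hθ (e.symm χ) (e.symm ξ)
        simp only [Equiv.apply_symm_apply] at h1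
        rw [Helper18.indFun_sub']
        exact h1

end Cfsg.Agent.S0851
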