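import Mathlib
import Cfsg.Statements.S4652
import Cfsg.Agent.Lib.Helper23.BlockDefect

set_option autoImplicit false
open Cfsg

namespace Cfsg.Agent.S4652

open Cfsg.Agent.Helper23.Blk Cfsg.Agent.Helper24
open scoped Pointwise

/-- Fix a prime p and a maximal ideal M of the algebraic integers containing p. The defect groups of the principal p-block of a finite group G are exactly the Sylow p-subgroups of G: a subgroup D is a defect group of the principal block if and only if D is a Sylow p-subgroup. -/
theorem result {G : Type*} [Group G] [Fintype G] (p : ℕ) [Fact p.Prime] (M : Ideal Cfsg.AlgInt) (hM : Cfsg.IsPModular p M) (D : Subgroup G) : Cfsg.IsDefectGroup p M (Cfsg.principalBlock M G) D ↔ ∃ S : Sylow p G, (S : Subgroup G) = D := by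
  classical
  haveI hMp : M.IsPrime := hM.2.1.isPrime
  have key : ∀ g : G, Cfsg.IsDefectClass M (Cfsg.principalBlock M G) g →
      ¬ p ∣ (Subgroup.centralizer ({g} : Set G)).index := by
    intro g hg hd
    have h3 := hg.2.2 (principalChar G) principalChar_mem_principalBlock
    rw [centralChar_principalChar] at h3
    exact h3 ((memLocalIdeal_natCast_iff hM _).2 hd)
  constructor
  · rintro ⟨g, hg, P, rfl⟩
    exact ⟨Sylow.ofCard _ (card_map_sylow_of_not_dvd_index _ (key g hg) P), Sylow.coe_ofCard _ _⟩
  · rintro ⟨S, rfl⟩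
    obtain ⟨g₀, hg₀⟩ := exists_isDefectClass hMp (isPBlock_principalBlock (M := M) (G := G))
    obtain ⟨P₀⟩ : Nonempty (Sylow p (Subgroup.centralizer ({g₀} : Set G))) := inferInstance
    obtain ⟨x, hx⟩ := MulAction.exists_smul_eq G
      (Sylow.ofCard _ (card_map_sylow_of_not_dvd_index _ (key g₀ hg₀) P₀)) S
    refine ⟨x * g₀ * x⁻¹, isDefectClass_conj hg₀ x, ?_⟩
    have hS : (S : Subgroup G) ≤ Subgroup.centralizer ({x * g₀ * x⁻¹} : Set G) := by
      rw [← hx, Sylow.coe_subgroup_smul, Sylow.coe_ofCard, centralizer_conj,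
        Subgroup.pointwise_smul_def]
      exact Subgroup.map_mono (Subgroup.map_subtype_le _)
    have hcard : Nat.card ((S : Subgroup G).subgroupOf
        (Subgroup.centralizer ({x * g₀ * x⁻¹} : Set G))) =
        p ^ (Nat.card (Subgroup.centralizer ({x * g₀ * x⁻¹} : Set G))).factorization p := by
      rw [Nat.card_congr (Subgroup.subgroupOfEquivOfLe hS).toEquiv, S.card_eq_multiplicity]
      congr 1
      apply le_antisymm
      · have hdvd : p ^ (Nat.card G).factorization p ∣
            Nat.card (Subgroup.centralizer ({x * g₀ * x⁻¹} : Set G)) := by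
          rw [← S.card_eq_multiplicity]
          exact Subgroup.card_dvd_of_le hS
        exact ((Fact.out : p.Prime).pow_dvd_iff_le_factorization Nat.card_pos.ne').1 hdvd
      · have hdvd : Nat.card (Subgroup.centralizer ({x * g₀ * x⁻¹} : Set G)) ∣ Nat.card G :=
          Subgroup.card_subgroup_dvd_card _
        exact (Nat.factorization_le_iff_dvd Nat.card_pos.ne' Nat.card_pos.ne').2 hdvd p
    refine ⟨Sylow.ofCard _ hcard, ?_⟩
    rw [Sylow.coe_ofCard, Subgroup.map_subgroupOf_eq_of_le hS]

end Cfsg.Agent.S4652
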