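import Mathlib
import Cfsg.Statements.S0039

set_option autoImplicit false
open Pointwise
open Cfsg

namespace Cfsg.Agent.S0039

theorem mem_conj_smul {G : Type*} [Group G] {g x : G} {H : Subgroup G} :
    x ∈ MulAut.conj g • H ↔ g⁻¹ * x * g ∈ H := by
  rw [Subgroup.mem_pointwise_smul_iff_inv_smul_mem, ← map_inv, MulAut.smul_def, MulAut.conj_apply,
    inv_inv]

/-- In a finite group that is a semidirect product of a normal subgroup K by a nontrivial subgroup H, H is a Frobenius complement exactly when each nonidentity element of H acts without nonidentity fixed points on K by conjugation. -/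
theorem result {G : Type*} [Group G] [Finite G] (K H : Subgroup G) [K.Normal]
    (hc : Subgroup.IsComplement' K H) (hK : K ≠ ⊥) (hH : H ≠ ⊥) :
    Cfsg.IsFrobeniusComplement H ↔ ∀ h ∈ H, h ≠ 1 → K ⊓ Subgroup.centralizer {h} = ⊥ := by
  have hdisj : ∀ x, x ∈ K → x ∈ H → x = 1 := by
    intro x hxK hxH
    have := hc.disjoint
    rw [Subgroup.disjoint_def] at this
    exact this hxK hxH
  constructor
  · rintro ⟨_, _, hfrob⟩ h hh hh1
    rw [eq_bot_iff]
    intro k hk
    rw [Subgroup.mem_bot]
    obtain ⟨hkK, hkC⟩ := Subgroup.mem_inf.1 hk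
    by_contra hk1
    have hkH : k ∉ H := fun hkH => hk1 (hdisj k hkK hkH)
    have h1 := hfrob k hkH
    have h2 : h ∈ H ⊓ MulAut.conj k • H := by
      refine Subgroup.mem_inf.2 ⟨hh, ?_⟩
      rw [mem_conj_smul]
      rw [Subgroup.mem_centralizer_iff] at hkC
      have := hkC h rfl
      -- this : h * k = k * h
      have h3 : k⁻¹ * h * k = h := by
        rw [mul_assoc, this, ← mul_assoc, inv_mul_cancel, one_mul]
      rw [h3]
      exact hh
    rw [h1, Subgroup.mem_bot] at h2
    exact hh1 h2
  · intro hfix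
    refine ⟨hH, ?_, ?_⟩
    · intro htop
      apply hK
      rw [eq_bot_iff]
      intro x hx
      rw [Subgroup.mem_bot]
      exact hdisj x hx (by rw [htop]; trivial)
    · intro g hg
      rw [eq_bot_iff]
      intro x hx
      rw [Subgroup.mem_bot]
      obtain ⟨hxH, hxc⟩ := Subgroup.mem_inf.1 hx
      by_contra hx1
      -- decompose g = k * h₀
      obtain ⟨⟨⟨k, hk⟩, ⟨h₀, hh₀⟩⟩, hkh⟩ := hc.2 g
      simp only at hkh
      have hk1 : k ≠ 1 := by
        intro h1
        apply hg
        rw [← hkh, h1, one_mul]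
        exact hh₀
      rw [mem_conj_smul] at hxc
      -- h := g⁻¹ x g ∈ H, then h' := h₀ h h₀⁻¹ ∈ H and x = k h' k⁻¹
      set h' := h₀ * (g⁻¹ * x * g) * h₀⁻¹ with hh'
      have hh'H : h' ∈ H := H.mul_mem (H.mul_mem hh₀ hxc) (H.inv_mem hh₀)
      have hx_eq : x = k * h' * k⁻¹ := by
        rw [hh', ← hkh]
        group
      have h1 : x * h'⁻¹ ∈ K := by
        rw [hx_eq]
        have : k * h' * k⁻¹ * h'⁻¹ = k * (h' * k⁻¹ * h'⁻¹) := by group
        rw [this]
        exact K.mul_mem hk (‹K.Normal›.conj_mem _ (K.inv_mem hk) _)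
      have h2 : x * h'⁻¹ ∈ H := H.mul_mem hxH (H.inv_mem hh'H)
      have h3 : x = h' := by
        have := hdisj _ h1 h2
        rwa [mul_inv_eq_one] at this
      have hh'1 : h' ≠ 1 := fun h => hx1 (h3.trans h)
      have h4 : k ∈ K ⊓ Subgroup.centralizer {h'} := by
        refine Subgroup.mem_inf.2 ⟨hk, ?_⟩
        rw [Subgroup.mem_centralizer_iff]
        intro y hy
        rw [Set.mem_singleton_iff] at hy
        subst hy
        -- h' * k = k * h'
        have : k * h' * k⁻¹ = h' := by rw [← hx_eq, h3]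
        calc h' * k = (k * h' * k⁻¹) * k := by rw [this]
          _ = k * h' := by group
      rw [hfix h' hh'H hh'1, Subgroup.mem_bot] at h4
      exact hk1 h4

end Cfsg.Agent.S0039
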