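import Mathlib
import Cfsg.Statements.S0040
import Cfsg.Agent.S0016
import Cfsg.Agent.Lib.Helper1.FpfAction

set_option autoImplicit false
open Cfsg
open Cfsg.Agent.Helper1

namespace Cfsg.Agent.S0040

/-- a subgroup of prime order is generated by an element of that order -/
theorem exists_zpowers_eq {T : Type*} [Group T] {p : ℕ} [hp : Fact p.Prime] (A : Subgroup T)
    (hA : Nat.card A = p) : ∃ a : T, orderOf a = p ∧ Subgroup.zpowers a = A := by
  have hne : A ≠ ⊥ := by
    intro h
    rw [h, Subgroup.card_bot] at hA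
    exact hp.out.one_lt.ne hA
  obtain ⟨a, ha1⟩ := (Subgroup.ne_bot_iff_exists_ne_one).mp hne
  haveI : Finite A := Nat.finite_of_card_ne_zero (by rw [hA]; exact hp.out.ne_zero)
  have hdvd : orderOf (a : T) ∣ p := by
    rw [← hA, Subgroup.orderOf_coe]; exact orderOf_dvd_natCard a
  have hord : orderOf (a : T) = p := by
    rcases (Nat.dvd_prime hp.out).mp hdvd with h | h
    · exfalso
      apply ha1
      exact Subtype.ext (orderOf_eq_one_iff.mp h)
    · exact h
  refine ⟨a, hord, ?_⟩
  apply Subgroup.eq_of_le_of_card_ge ((Subgroup.zpowers_le).mpr a.2)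
  rw [Nat.card_zpowers, hord, hA]

/-- Sylow subgroups of Frobenius complements: if H complements a nontrivial normal subgroup K and every nonidentity element of H has trivial centraliser in K, then each Sylow subgroup of H is cyclic or isomorphic to a generalized quaternion group. -/
theorem result {G : Type*} [Group G] [Finite G] (K H : Subgroup G) [K.Normal]
    (hc : Subgroup.IsComplement' K H) (hK : K ≠ ⊥) (hfpf : ∀ h ∈ H, h ≠ 1 → K ⊓ Subgroup.centralizer {h} = ⊥)
    (p : ℕ) [Fact p.Prime] (P : Sylow p H) :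
    IsCyclic P ∨ ∃ n : ℕ, Nonempty (P ≃* QuaternionGroup (2 ^ n)) := by
  have hp : Fact p.Prime := inferInstance
  have hP : IsPGroup p P := P.2
  suffices huniq : ∀ A B : Subgroup P, Nat.card A = p → Nat.card B = p → A = B by
    rcases Cfsg.Agent.S0016.result p hP huniq with h | ⟨-, h⟩
    · exact Or.inl h
    · exact Or.inr h
  let ι : P →* G := H.subtype.comp (P : Subgroup H).subtype
  have hι : Function.Injective ι := by
    intro a b hab
    exact Subtype.ext (Subtype.ext hab)
  set Q : Subgroup G := ι.range with hQ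
  have hQH : Q ≤ H := by
    rintro _ ⟨x, rfl⟩
    exact (x : H).2
  have hQp : IsPGroup p Q := hP.of_equiv (MonoidHom.ofInjective hι)
  -- key: all subgroups of order `p` equal a fixed one
  intro A B hA hB
  obtain ⟨a, ha, rfl⟩ := exists_zpowers_eq A hA
  obtain ⟨b, hb, rfl⟩ := exists_zpowers_eq B hB
  haveI : Nontrivial P := by
    refine ⟨⟨a, 1, ?_⟩⟩
    intro h
    rw [h, orderOf_one] at ha
    exact hp.out.one_lt.ne ha
  -- central element of order p
  haveI hcn : Nontrivial (Subgroup.center P) := hP.center_nontrivial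
  have hdvd : p ∣ Nat.card (Subgroup.center P) := by
    obtain ⟨k, hk⟩ := (hP.to_subgroup (Subgroup.center P)).exists_card_eq
    rw [hk]
    have hk0 : k ≠ 0 := by
      rintro rfl
      rw [pow_zero] at hk
      have := Finite.one_lt_card_iff_nontrivial.mpr hcn
      omega
    exact dvd_pow_self p hk0
  obtain ⟨z', hz'⟩ := exists_prime_orderOf_dvd_card' p hdvd
  set z₀ : P := (z' : P) with hz₀
  have hz₀ord : orderOf z₀ = p := by rw [hz₀, Subgroup.orderOf_coe, hz']
  have hz₀c : ∀ x : P, z₀ * x = x * z₀ := by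
    intro x
    exact (Subgroup.mem_center_iff.mp z'.2 x).symm
  have hzord : orderOf (ι z₀) = p := by rw [orderOf_injective ι hι, hz₀ord]
  have hzc : ∀ q ∈ Q, ι z₀ * q = q * ι z₀ := by
    rintro _ ⟨x, rfl⟩
    rw [← map_mul, ← map_mul, hz₀c]
  have key : ∀ c : P, orderOf c = p → Subgroup.zpowers c = Subgroup.zpowers z₀ := by
    intro c hcord
    have h1 : ι c ∈ Subgroup.zpowers (ι z₀) :=
      mem_zpowers_of_fpf hK hfpf Q hQH hQp ⟨z₀, rfl⟩ hzord hzc ⟨c, rfl⟩
        (by rw [orderOf_injective ι hι, hcord])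
    obtain ⟨k, hk⟩ := Subgroup.mem_zpowers_iff.mp h1
    have h2 : c = z₀ ^ k := by
      apply hι
      rw [map_zpow]; exact hk.symm
    apply Subgroup.eq_of_le_of_card_ge
    · rw [Subgroup.zpowers_le, h2]
      exact Subgroup.zpow_mem _ (Subgroup.mem_zpowers z₀) k
    · rw [Nat.card_zpowers, Nat.card_zpowers, hcord, hz₀ord]
  rw [key a ha, key b hb]

end Cfsg.Agent.S0040
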