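import Mathlib
import Cfsg.Statements.S4253

set_option autoImplicit false
open Cfsg
open scoped Pointwise

namespace Cfsg.Agent.S4253

open Pointwise in
theorem mem_conj_smul {G : Type*} [Group G] (g x : G) (H : Subgroup G) :
    x ∈ MulAut.conj g • H ↔ g⁻¹ * x * g ∈ H := by
  rw [Subgroup.mem_pointwise_smul_iff_inv_smul_mem]
  simp [MulAut.smul_def]

/-- Let H be a Frobenius complement in a finite group G (a nontrivial proper subgroup meeting each conjugate gHg⁻¹ with g outside H trivially). Then in the action of G on the left cosets of H by left multiplication, no non-identity element of G fixes two distinct cosets. -/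
theorem result {G : Type*} [Group G] [Finite G] (H : Subgroup G) (hH : Cfsg.IsFrobeniusComplement H)
    (g : G) (hg : g ≠ 1) (a b : G ⧸ H) (ha : g • a = a) (hb : g • b = b) : a = b := by
  induction a using QuotientGroup.induction_on with
  | H x =>
  induction b using QuotientGroup.induction_on with
  | H y =>
  have hx : x⁻¹ * g * x ∈ H := by
    have : ((g * x : G) : G ⧸ H) = (x : G ⧸ H) := ha
    rw [QuotientGroup.eq] at this
    have h2 := H.inv_mem this
    rw [show ((g * x)⁻¹ * x)⁻¹ = x⁻¹ * g * x by group] at h2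
    exact h2
  have hy : y⁻¹ * g * y ∈ H := by
    have : ((g * y : G) : G ⧸ H) = (y : G ⧸ H) := hb
    rw [QuotientGroup.eq] at this
    have h2 := H.inv_mem this
    rw [show ((g * y)⁻¹ * y)⁻¹ = y⁻¹ * g * y by group] at h2
    exact h2
  rw [QuotientGroup.eq]
  by_contra hxy
  have h3 := hH.2.2 (x⁻¹ * y) hxy
  have hmem : x⁻¹ * g * x ∈ H ⊓ (MulAut.conj (x⁻¹ * y) • H) := by
    refine Subgroup.mem_inf.mpr ⟨hx, ?_⟩
    rw [mem_conj_smul]
    rw [show (x⁻¹ * y)⁻¹ * (x⁻¹ * g * x) * (x⁻¹ * y) = y⁻¹ * g * y by group]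
    exact hy
  rw [h3, Subgroup.mem_bot] at hmem
  apply hg
  have := congrArg (fun z => x * z * x⁻¹) hmem
  beta_reduce at this
  rw [show x * (x⁻¹ * g * x) * x⁻¹ = g by group] at this
  rw [this]; group

end Cfsg.Agent.S4253
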