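import Mathlib
import Cfsg.Statements.S0739
import Cfsg.Agent.S4252
import Cfsg.Agent.S0035
import Cfsg.Agent.S0039
import Cfsg.Agent.S0040
import Cfsg.Agent.Lib.Helper3.ZGroupInv

set_option autoImplicit false

open Cfsg

namespace Cfsg.Agent.S0739

open MulAction

/-- An automorphism of a cyclic group of odd prime power order which is induced by `g`, is not
trivial, and whose square is trivial, is inversion. -/
theorem cyclic_inv {G : Type*} [Group G] (w g : G) {q e : ℕ} (hq : q.Prime) (hq2 : q ≠ 2)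
    (hw : orderOf w = q ^ e) (k : ℕ) (hk : g * w * g⁻¹ = w ^ k)
    (hg2 : (g * g) * w * (g * g)⁻¹ = w) (hne : g * w * g⁻¹ ≠ w) : g * w * g⁻¹ = w⁻¹ := by
  have h1 : w ^ (k * k) = w ^ 1 := by
    rw [pow_one, pow_mul]
    conv_rhs => rw [← hg2]
    have : g * g * w * (g * g)⁻¹ = g * (g * w * g⁻¹) * g⁻¹ := by group
    rw [this, hk, ← conj_pow, hk]
  have hmod : k * k ≡ 1 [MOD q ^ e] := by
    rw [← hw]; exact pow_eq_pow_iff_modEq.mp h1
  have hk0 : 1 ≤ k := by
    by_contra h
    have hk00 : k = 0 := by omega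
    subst hk00
    rw [pow_zero] at hk
    apply hne
    have hw1 : w = 1 := by
      have : w = g⁻¹ * (g * w * g⁻¹) * g := by group
      rw [this, hk]; group
    rw [hw1]; group
  have hkk : 1 ≤ k * k := Nat.mul_pos hk0 hk0
  have hdvd : q ^ e ∣ (k - 1) * (k + 1) := by
    have e1 : (k - 1) * (k + 1) = k * k - 1 := by
      obtain ⟨j, rfl⟩ : ∃ j, k = j + 1 := ⟨k - 1, by omega⟩
      have : j + 1 - 1 = j := by omega
      rw [this]
      have : (j + 1) * (j + 1) = j * (j + 1 + 1) + 1 := by ring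
      omega
    rw [e1]
    exact (Nat.modEq_iff_dvd' hkk).mp hmod.symm
  by_cases hq1 : q ∣ k - 1
  · have hq3 : ¬ q ∣ k + 1 := by
      intro h
      have h2 : q ∣ (k + 1) - (k - 1) := Nat.dvd_sub h hq1
      have e2 : (k + 1) - (k - 1) = 2 := by omega
      rw [e2] at h2
      exact hq2 ((Nat.prime_dvd_prime_iff_eq hq Nat.prime_two).mp h2)
    have hcop : Nat.Coprime (q ^ e) (k + 1) :=
      Nat.Coprime.pow_left e ((Nat.Prime.coprime_iff_not_dvd hq).mpr hq3)
    have h3 : q ^ e ∣ k - 1 := hcop.dvd_of_dvd_mul_right hdvd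
    exfalso
    apply hne
    rw [hk]
    have : k ≡ 1 [MOD orderOf w] := by
      rw [hw]; exact ((Nat.modEq_iff_dvd' hk0).mpr h3).symm
    have := pow_eq_pow_iff_modEq.mpr this
    rwa [pow_one] at this
  · have hcop : Nat.Coprime (q ^ e) (k - 1) :=
      Nat.Coprime.pow_left e ((Nat.Prime.coprime_iff_not_dvd hq).mpr hq1)
    have h3 : q ^ e ∣ k + 1 := hcop.dvd_of_dvd_mul_left hdvd
    rw [hk]
    have h2 : w ^ (k + 1) = 1 := by
      rw [← hw] at h3
      exact orderOf_dvd_iff_pow_eq_one.mp h3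
    rw [pow_succ] at h2
    exact eq_inv_of_mul_eq_one_left h2


/-- The two-point stabiliser of a Zassenhaus group, when of odd order, has all Sylow subgroups
cyclic. -/
theorem zgroup_two_point {G Ω : Type*} [Group G] [Finite G] [MulAction G Ω] [Fintype Ω]
    (hZ : Cfsg.IsZassenhausGroup G Ω) {a b : Ω} (hab : a ≠ b)
    (hodd : Odd (Nat.card ↥(stabilizer G a ⊓ stabilizer G b))) :
    IsZGroup ↥(stabilizer G a ⊓ stabilizer G b) := by
  classical
  obtain ⟨hfaith, h2, h3, h4, h5⟩ := hZ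
  have := hfaith
  have h2' : ∀ {a b c d : Ω}, a ≠ b → c ≠ d → ∃ g : G, g • a = c ∧ g • b = d :=
    MulAction.is_two_pretransitive_iff.mp h2
  set A : Subgroup G := stabilizer G a with hA
  set H : Subgroup G := stabilizer G a ⊓ stabilizer G b with hH
  -- a nontrivial element of H and a third point
  have hHne : ∃ h ∈ H, h ≠ 1 := by
    obtain ⟨g₀, hg₀1, a₀, b₀, hab₀, hga₀, hgb₀⟩ := h4
    obtain ⟨g, hga, hgb⟩ := h2' hab₀ hab
    refine ⟨g * g₀ * g⁻¹, ⟨?_, ?_⟩, ?_⟩
    · show (g * g₀ * g⁻¹) • a = a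
      rw [mul_smul, mul_smul, ← hga, inv_smul_smul, hga₀]
    · show (g * g₀ * g⁻¹) • b = b
      rw [mul_smul, mul_smul, ← hgb, inv_smul_smul, hgb₀]
    · intro h
      apply hg₀1
      have : g₀ = g⁻¹ * (g * g₀ * g⁻¹) * g := by group
      rw [this, h]; group
  obtain ⟨h₀, hh₀H, hh₀1⟩ := hHne
  have hc : ∃ c : Ω, h₀ • c ≠ c := by
    by_contra hcon
    push Not at hcon
    apply hh₀1
    apply FaithfulSMul.eq_of_smul_eq_smul (α := Ω)
    intro x
    rw [hcon x, one_smul]
  obtain ⟨c, hc⟩ := hc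
  have hca : c ≠ a := by
    rintro rfl
    exact hc hh₀H.1
  have hcb : c ≠ b := by
    rintro rfl
    exact hc hh₀H.2
  haveI : Fintype (SubMulAction.ofStabilizer G a) := Fintype.ofFinite _
  have hb' : b ∈ SubMulAction.ofStabilizer G a :=
    (SubMulAction.mem_ofStabilizer_iff G a).mpr (Ne.symm hab)
  have hc' : c ∈ SubMulAction.ofStabilizer G a :=
    (SubMulAction.mem_ofStabilizer_iff G a).mpr hca
  have hΩ' : 1 < Fintype.card (SubMulAction.ofStabilizer G a) :=
    Fintype.one_lt_card_iff.mpr ⟨⟨b, hb'⟩, ⟨c, hc'⟩, fun h => hcb (congrArg Subtype.val h).symm⟩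
  have htr : ∀ x y : SubMulAction.ofStabilizer G a, ∃ g : A, g • x = y := by
    intro x y
    obtain ⟨g, hga, hgx⟩ := h2' (Ne.symm x.2) (Ne.symm y.2)
    exact ⟨⟨g, hga⟩, Subtype.ext hgx⟩
  have hnreg : ∃ g : A, g ≠ 1 ∧ ∃ x : SubMulAction.ofStabilizer G a, g • x = x := by
    refine ⟨⟨h₀, hh₀H.1⟩, fun h => hh₀1 (congrArg Subtype.val h), ⟨b, hb'⟩, ?_⟩
    apply Subtype.ext
    exact hh₀H.2
  have hfix : ∀ g : A, g ≠ 1 → ∀ x y : SubMulAction.ofStabilizer G a,
      g • x = x → g • y = y → x = y := by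
    intro g hg x y hx hy
    by_contra hxy
    apply hg
    apply Subtype.ext
    have hx' : (g : G) • x.1 = x.1 := congrArg Subtype.val hx
    have hy' : (g : G) • y.1 = y.1 := congrArg Subtype.val hy
    exact h3 g a x.1 y.1 (Ne.symm x.2) (fun h => hxy (Subtype.ext h)) (Ne.symm y.2) g.2 hx' hy'
  obtain ⟨hFC, -⟩ := Cfsg.Agent.S4252.result hΩ' htr hnreg hfix ⟨b, hb'⟩
  set H'' : Subgroup A := stabilizer A (⟨b, hb'⟩ : SubMulAction.ofStabilizer G a) with hH''
  obtain ⟨K, -, hKn, hcomp⟩ := Cfsg.Agent.S0035.result H'' hFC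
  have hKne : K ≠ ⊥ := by
    intro hK
    rw [hK, Subgroup.isComplement'_bot_left] at hcomp
    exact hFC.2.1 hcomp
  have hfpf := (Cfsg.Agent.S0039.result K H'' hcomp hKne hFC.1).mp hFC
  -- the isomorphism between H and H''
  let f : H →* H'' :=
    { toFun := fun h => ⟨⟨h.1, h.2.1⟩, by
        rw [hH'', MulAction.mem_stabilizer_iff]
        apply Subtype.ext
        exact h.2.2⟩
      map_one' := rfl
      map_mul' := fun _ _ => rfl }
  have hfinj : Function.Injective f := by
    intro x y hxy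
    apply Subtype.ext
    have := congrArg (fun z : H'' => ((z : A) : G)) hxy
    exact this
  have hfsurj : Function.Surjective f := by
    intro z
    refine ⟨⟨z.1.1, z.1.2, ?_⟩, rfl⟩
    have h1 : (z : A) • (⟨b, hb'⟩ : SubMulAction.ofStabilizer G a) = ⟨b, hb'⟩ :=
      MulAction.mem_stabilizer_iff.mp z.2
    exact congrArg Subtype.val h1
  have hcardH : Nat.card H'' = Nat.card H :=
    (Nat.card_congr (Equiv.ofBijective f ⟨hfinj, hfsurj⟩)).symm
  haveI : IsZGroup H'' := by
    refine ⟨fun p hp P => ?_⟩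
    haveI : Fact p.Prime := ⟨hp⟩
    rcases Cfsg.Agent.S0040.result K H'' hcomp hKne hfpf p P with h | ⟨n, ⟨e⟩⟩
    · exact h
    · exfalso
      have h1 : Nat.card P = 4 * 2 ^ n := by
        rw [Nat.card_congr e.toEquiv, Nat.card_eq_fintype_card, QuaternionGroup.card]
      have h2 : Nat.card P ∣ Nat.card H'' := Subgroup.card_subgroup_dvd_card _
      rw [h1, hcardH] at h2
      have h3' : 2 ∣ Nat.card H := Dvd.dvd.trans ⟨2 * 2 ^ n, by ring⟩ h2
      exact (Nat.not_even_iff_odd.mpr hodd) (even_iff_two_dvd.mpr h3')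
  exact IsZGroup.of_injective (f := f) hfinj

/-- Index of a two-point stabiliser in a doubly transitive group. -/
theorem index_two_point {G Ω : Type*} [Group G] [Finite G] [MulAction G Ω] [Fintype Ω]
    (h2' : ∀ {a b c d : Ω}, a ≠ b → c ≠ d → ∃ g : G, g • a = c ∧ g • b = d) {a b : Ω}
    (hab : a ≠ b) :
    (stabilizer G a ⊓ stabilizer G b).index = (Fintype.card Ω - 1) * Fintype.card Ω := by
  classical
  rw [← Subgroup.relIndex_mul_index (inf_le_left : stabilizer G a ⊓ stabilizer G b ≤ stabilizer G a)]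
  congr 1
  · rw [Subgroup.inf_relIndex_left, Subgroup.relIndex]
    have e : (stabilizer G b).subgroupOf (stabilizer G a) = stabilizer (stabilizer G a) b := by
      ext x
      rw [Subgroup.mem_subgroupOf, MulAction.mem_stabilizer_iff, MulAction.mem_stabilizer_iff]
      rfl
    rw [e, MulAction.index_stabilizer]
    have horb : orbit (stabilizer G a) b = {x : Ω | x ≠ a} := by
      ext x
      constructor
      · rintro ⟨g, rfl⟩ h
        have hg : (g : G) • a = a := g.2
        have h' : (g : G) • b = a := h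
        exact hab (smul_left_cancel (g : G) (h'.trans hg.symm)).symm
      · intro hx
        obtain ⟨g, hga, hgb⟩ := h2' hab (Ne.symm hx)
        exact ⟨⟨g, hga⟩, hgb⟩
    rw [horb, Set.ncard_eq_toFinset_card', Set.toFinset_setOf,
      Finset.filter_ne' Finset.univ a, Finset.card_erase_of_mem (Finset.mem_univ a),
      Finset.card_univ]
  · rw [MulAction.index_stabilizer]
    have horb : orbit G a = Set.univ := by
      ext x
      simp only [Set.mem_univ, iff_true]
      by_cases hx : x = a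
      · rw [hx]; exact mem_orbit_self a
      · obtain ⟨g, hga, hgb⟩ := h2' hab (Ne.symm hx)
        obtain ⟨g', hga', hgb'⟩ := h2' hab (Ne.symm hab)
        exact ⟨g * g', by show (g * g') • a = x; rw [mul_smul, hga', hgb]⟩
    rw [horb, Set.ncard_univ, Nat.card_eq_fintype_card]

/-- In a finite Zassenhaus group whose two-point stabiliser `H = G_{a,b}` has odd order `d`, and which has no normal `q`-complement for any prime `q ∣ d`, `H` is cyclic, `C_G(H) = H`, and every element swapping `a` and `b` inverts each element of `H`. -/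
theorem result {G Ω : Type*} [Group G] [Finite G] [MulAction G Ω] [Fintype Ω] (hZ : Cfsg.IsZassenhausGroup G Ω) {a b : Ω} (hab : a ≠ b) (hodd : Odd (Nat.card ↥(MulAction.stabilizer G a ⊓ MulAction.stabilizer G b))) (hnil : ∀ q : ℕ, q.Prime → q ∣ Nat.card ↥(MulAction.stabilizer G a ⊓ MulAction.stabilizer G b) → ¬ ∃ N : Subgroup G, N.Normal ∧ N.index = q ^ (Nat.card G).factorization q) : IsCyclic ↥(MulAction.stabilizer G a ⊓ MulAction.stabilizer G b) ∧ Subgroup.centralizer ((MulAction.stabilizer G a ⊓ MulAction.stabilizer G b : Subgroup G) : Set G) = MulAction.stabilizer G a ⊓ MulAction.stabilizer G b ∧ ∀ s : G, s • a = b → s • b = a → ∀ h ∈ MulAction.stabilizer G a ⊓ MulAction.stabilizer G b, s * h * s⁻¹ = h⁻¹ := by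
  classical
  have hZ' := hZ
  obtain ⟨hfaith, h2, h3, h4, h5⟩ := hZ
  have := hfaith
  have h2' : ∀ {a b c d : Ω}, a ≠ b → c ≠ d → ∃ g : G, g • a = c ∧ g • b = d :=
    MulAction.is_two_pretransitive_iff.mp h2
  set H : Subgroup G := stabilizer G a ⊓ stabilizer G b with hH
  haveI hZG : IsZGroup H := zgroup_two_point hZ' hab hodd
  have hHa : ∀ h ∈ H, h • a = a := fun h hh => hh.1
  have hHb : ∀ h ∈ H, h • b = b := fun h hh => hh.2
  have hHmem : ∀ h : G, h • a = a → h • b = b → h ∈ H := fun h h1 h2 => ⟨h1, h2⟩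
  have hHfix : ∀ h ∈ H, h ≠ 1 → ∀ x : Ω, h • x = x → x = a ∨ x = b := by
    intro h hh h1 x hx
    by_contra hcon
    rw [not_or] at hcon
    exact h1 (h3 h a b x hab (Ne.symm hcon.2) (Ne.symm hcon.1) (hHa h hh) (hHb h hh) hx)
  -- an element swapping a and b
  obtain ⟨t, hta, htb⟩ := h2' hab (Ne.symm hab)
  have htia : t⁻¹ • a = b := by rw [inv_smul_eq_iff, htb]
  have htib : t⁻¹ • b = a := by rw [inv_smul_eq_iff, hta]
  have htnorm : ∀ h ∈ H, t * h * t⁻¹ ∈ H := by
    intro h hh
    apply hHmem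
    · rw [mul_smul, mul_smul, htia, hHb h hh, htb]
    · rw [mul_smul, mul_smul, htib, hHa h hh, hta]
  have htnorm' : ∀ h ∈ H, t⁻¹ * h * t ∈ H := by
    intro h hh
    apply hHmem
    · rw [mul_smul, mul_smul, hta, hHb h hh, htib]
    · rw [mul_smul, mul_smul, htb, hHa h hh, htia]
  let τ : MulAut H :=
    { toFun := fun h => ⟨t * h * t⁻¹, htnorm h h.2⟩
      invFun := fun h => ⟨t⁻¹ * h * t, htnorm' h h.2⟩
      left_inv := fun h => by apply Subtype.ext; simp [mul_assoc]
      right_inv := fun h => by apply Subtype.ext; simp [mul_assoc]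
      map_mul' := fun h k => by apply Subtype.ext; simp [mul_assoc] }
  have hτ : ∀ h : H, ((τ h : H) : G) = t * h * t⁻¹ := fun h => rfl
  -- elements conjugating a nonidentity element of H into H permute {a, b}
  have hperm : ∀ g : G, ∀ w ∈ H, w ≠ 1 → g * w * g⁻¹ ∈ H →
      (g ∈ H ∨ (g • a = b ∧ g • b = a)) := by
    intro g w hw hw1 hgw
    have hw1' : g * w * g⁻¹ ≠ 1 := by
      intro h
      apply hw1
      have : w = g⁻¹ * (g * w * g⁻¹) * g := by group
      rw [this, h]; group
    have fa : (g * w * g⁻¹) • (g • a) = g • a := by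
      rw [mul_smul, mul_smul, inv_smul_smul, hHa w hw]
    have fb : (g * w * g⁻¹) • (g • b) = g • b := by
      rw [mul_smul, mul_smul, inv_smul_smul, hHb w hw]
    have hne : g • a ≠ g • b := fun h => hab (smul_left_cancel g h)
    rcases hHfix _ hgw hw1' _ fa with ha | ha <;> rcases hHfix _ hgw hw1' _ fb with hb | hb
    · exact absurd (ha.trans hb.symm) hne
    · left; exact hHmem g ha hb
    · right; exact ⟨ha, hb⟩
    · exact absurd (ha.trans hb.symm) hne
  have hswapH : ∀ g : G, g • a = b → g • b = a → t⁻¹ * g ∈ H := by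
    intro g hga hgb
    apply hHmem
    · rw [mul_smul, hga, htib]
    · rw [mul_smul, hgb, htia]
  -- the key property
  have hkey : ∀ (q : ℕ) [Fact q.Prime] (Q : Sylow q H),
      Subgroup.normalizer ((Q : Subgroup H) : Set H) ≤
        Subgroup.centralizer ((Q : Subgroup H) : Set H) →
      ∃ h : H, ∀ w ∈ (Q : Subgroup H), τ (h * w * h⁻¹) = w⁻¹ := by
    intro q hqf Q hNC
    by_cases hQbot : (Q : Subgroup H) = ⊥
    · refine ⟨1, fun w hw => ?_⟩
      rw [hQbot, Subgroup.mem_bot] at hw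
      subst hw
      simp
    have hq : q.Prime := hqf.out
    have hQcard : Nat.card (Q : Subgroup H) = q ^ (Nat.card H).factorization q :=
      Q.card_eq_multiplicity
    have hqd : q ∣ Nat.card H := by
      by_contra hnd
      apply hQbot
      have : (Nat.card H).factorization q = 0 := Nat.factorization_eq_zero_of_not_dvd hnd
      rw [this, pow_zero] at hQcard
      exact Subgroup.card_eq_one.mp hQcard
    have hq2 : q ≠ 2 := by
      rintro rfl
      exact (Nat.not_even_iff_odd.mpr hodd) (even_iff_two_dvd.mpr hqd)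
    have hq3 : 2 < q := lt_of_le_of_ne hq.two_le (Ne.symm hq2)
    -- the image of Q in G
    set QG : Subgroup G := (Q : Subgroup H).map H.subtype with hQG
    have hQGmem : ∀ g : G, g ∈ QG ↔ ∃ hg : g ∈ H, (⟨g, hg⟩ : H) ∈ (Q : Subgroup H) := by
      intro g
      constructor
      · rintro ⟨w, hw, rfl⟩
        exact ⟨w.2, hw⟩
      · rintro ⟨hg, hw⟩
        exact ⟨⟨g, hg⟩, hw, rfl⟩
    have hQGH : QG ≤ H := by
      rintro g ⟨w, hw, rfl⟩
      exact w.2
    -- a nonidentity element of QG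
    obtain ⟨w₁, hw₁1⟩ := (Subgroup.ne_bot_iff_exists_ne_one).mp hQbot
    have hw₁G : ((w₁ : H) : G) ∈ QG := ⟨w₁.1, w₁.2, rfl⟩
    have hw₁1' : ((w₁ : H) : G) ≠ 1 := by
      intro h
      apply hw₁1
      apply Subtype.ext
      apply Subtype.ext
      exact h
    -- |Ω| ≡ 2 mod q
    have hPG : IsPGroup q QG := Q.isPGroup'.map H.subtype
    have hfixed : fixedPoints QG Ω = {a, b} := by
      ext x
      rw [MulAction.mem_fixedPoints]
      constructor
      · intro hx
        have := hx ⟨_, hw₁G⟩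
        rcases hHfix _ (hQGH hw₁G) hw₁1' x this with h | h
        · left; exact h
        · right; exact h
      · rintro (rfl | rfl)
        · intro g; exact hHa g (hQGH g.2)
        · intro g; exact hHb g (hQGH g.2)
    have hmod : Nat.card Ω ≡ 2 [MOD q] := by
      have := hPG.card_modEq_card_fixedPoints Ω
      rw [hfixed, Nat.card_coe_set_eq, Set.ncard_pair hab] at this
      exact this
    rw [Nat.card_eq_fintype_card] at hmod
    have hNq : Fintype.card Ω % q = 2 := by
      have : Fintype.card Ω % q = 2 % q := hmod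
      rw [this, Nat.mod_eq_of_lt hq3]
    have hqN : ¬ q ∣ Fintype.card Ω := by
      intro h
      have := Nat.mod_eq_zero_of_dvd h
      omega
    have hqN1 : ¬ q ∣ Fintype.card Ω - 1 := by
      rintro ⟨c, hc⟩
      have h1 : 1 ≤ Fintype.card Ω := Fintype.card_pos_iff.mpr ⟨a⟩
      have h2'' : Fintype.card Ω = q * c + 1 := by omega
      rw [h2'', Nat.mul_add_mod, Nat.mod_eq_of_lt (by omega : 1 < q)] at hNq
      omega
    have hqidx : ¬ q ∣ QG.index := by
      rw [hQG, Subgroup.index_map_subtype, index_two_point h2' hab]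
      intro h
      rcases (Nat.Prime.dvd_mul hq).mp h with h | h
      · exact Q.not_dvd_index h
      · rcases (Nat.Prime.dvd_mul hq).mp h with h | h
        · exact hqN1 h
        · exact hqN h
    set P : Sylow q G := hPG.toSylow hqidx with hP
    have hPcoe : (P : Subgroup G) = QG := IsPGroup.toSylow_coe hPG hqidx
    -- Burnside: the normalizer is not contained in the centralizer
    have hnotle : ¬ Subgroup.normalizer ((P : Subgroup G) : Set G) ≤
        Subgroup.centralizer ((P : Subgroup G) : Set G) := by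
      intro hle
      have hcompl := MonoidHom.ker_transferSylow_isComplement' P hle
      apply hnil q hq hqd
      refine ⟨(MonoidHom.transferSylow P hle).ker, inferInstance, ?_⟩
      rw [hcompl.symm.index_eq_card]
      exact P.card_eq_multiplicity
    rw [hPcoe] at hnotle
    obtain ⟨g, hgN, hgC⟩ := SetLike.not_le_iff_exists.mp hnotle
    have hgN' : ∀ x : G, x ∈ QG ↔ g * x * g⁻¹ ∈ QG := by
      intro x
      exact (Subgroup.mem_normalizer_iff.mp hgN) x
    -- Q is cyclic
    haveI : IsCyclic (Q : Subgroup H) := inferInstance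
    obtain ⟨w₀, hw₀⟩ := IsCyclic.exists_generator (α := (Q : Subgroup H))
    set W : G := ((w₀ : H) : G) with hW
    have hWQ : W ∈ QG := ⟨w₀.1, w₀.2, rfl⟩
    have hWord : orderOf W = q ^ (Nat.card H).factorization q := by
      rw [← hQcard, ← orderOf_eq_card_of_forall_mem_zpowers hw₀, hW, Subgroup.orderOf_coe,
        Subgroup.orderOf_coe]
    have hpowW : ∀ x ∈ QG, ∃ j : ℕ, x = W ^ j := by
      rintro x ⟨w, hw, rfl⟩
      have h1 := hw₀ ⟨w, hw⟩
      rw [← mem_powers_iff_mem_zpowers] at h1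
      obtain ⟨j, hj⟩ := h1
      refine ⟨j, ?_⟩
      have h2'' := congrArg (fun z : (Q : Subgroup H) => ((z : H) : G)) hj
      simpa using h2''.symm
    -- g does not centralize W
    have hgW : g * W * g⁻¹ ≠ W := by
      intro h
      apply hgC
      rw [Subgroup.mem_centralizer_iff]
      intro x hx
      obtain ⟨j, rfl⟩ := hpowW x hx
      have hc : Commute g W := by
        have := congrArg (fun z => z * g) h
        have h' : g * W = W * g := by simpa using this
        exact h'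
      exact ((hc.pow_right j).eq).symm
    -- g swaps a and b
    have hgperm := hperm g _ (hQGH hw₁G) hw₁1' (hQGH ((hgN' _).mp hw₁G))
    have hinH : ∀ g' : G, g' ∈ H → (∀ x : G, x ∈ QG ↔ g' * x * g'⁻¹ ∈ QG) →
        g' * W * g'⁻¹ = W := by
      intro g' hg'H hg'N
      have hmemN : (⟨g', hg'H⟩ : H) ∈ Subgroup.normalizer ((Q : Subgroup H) : Set H) := by
        rw [Subgroup.mem_normalizer_iff]
        intro x
        have h1 := hg'N (x : G)
        rw [hQGmem, hQGmem] at h1
        constructor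
        · intro hx
          obtain ⟨_, h2''⟩ := h1.mp ⟨x.2, hx⟩
          exact h2''
        · intro hx
          obtain ⟨_, h2''⟩ := h1.mpr ⟨(⟨g', hg'H⟩ * x * ⟨g', hg'H⟩⁻¹ : H).2, hx⟩
          exact h2''
      have hcent := hNC hmemN
      rw [Subgroup.mem_centralizer_iff] at hcent
      have := hcent (w₀ : H) w₀.2
      have h3' : W * g' = g' * W := congrArg Subtype.val this
      rw [← h3']; group
    rcases hgperm with hgH | ⟨hga, hgb⟩
    · exact absurd (hinH g hgH hgN') hgW
    · have hhH := hswapH g hga hgb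
      refine ⟨⟨t⁻¹ * g, hhH⟩, ?_⟩
      -- g inverts W
      obtain ⟨k, hk⟩ := hpowW _ ((hgN' W).mp hWQ)
      have hg2H : g * g ∈ H := by
        apply hHmem
        · rw [mul_smul, hga, hgb]
        · rw [mul_smul, hgb, hga]
      have hg2N : ∀ x : G, x ∈ QG ↔ (g * g) * x * (g * g)⁻¹ ∈ QG := by
        intro x
        have e : (g * g) * x * (g * g)⁻¹ = g * (g * x * g⁻¹) * g⁻¹ := by group
        rw [e, ← hgN', ← hgN']
      have hinvW := cyclic_inv W g hq hq2 hWord k hk (hinH _ hg2H hg2N) hgW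
      intro w hw
      apply Subtype.ext
      rw [hτ]
      obtain ⟨j, hj⟩ := hpowW _ ⟨w, hw, rfl⟩
      have hj' : ((w : H) : G) = W ^ j := hj
      show t * ((⟨t⁻¹ * g, hhH⟩ * w * ⟨t⁻¹ * g, hhH⟩⁻¹ : H) : G) * t⁻¹ = ((w⁻¹ : H) : G)
      have e : t * ((⟨t⁻¹ * g, hhH⟩ * w * ⟨t⁻¹ * g, hhH⟩⁻¹ : H) : G) * t⁻¹
          = g * (w : G) * g⁻¹ := by
        show t * ((t⁻¹ * g) * (w : G) * (t⁻¹ * g)⁻¹) * t⁻¹ = g * (w : G) * g⁻¹
        group
      rw [e, hj', ← conj_pow, hinvW]
      show (W⁻¹) ^ j = ((w : H) : G)⁻¹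
      rw [hj', inv_pow]
  obtain ⟨hinv, hcyc⟩ := Helper3.ZGroupInv.zgroup_inverted hodd τ hkey
  have hinv' : ∀ h ∈ H, t * h * t⁻¹ = h⁻¹ := by
    intro h hh
    have := hinv ⟨h, hh⟩
    exact congrArg Subtype.val this
  have hHcomm : ∀ h₁ ∈ H, ∀ h₂ ∈ H, h₁ * h₂ = h₂ * h₁ := by
    intro h₁ hh₁ h₂ hh₂
    have e1 := hinv' (h₁ * h₂) (H.mul_mem hh₁ hh₂)
    have e2 := hinv' h₁ hh₁
    have e3 := hinv' h₂ hh₂
    have e4 : t * (h₁ * h₂) * t⁻¹ = (t * h₁ * t⁻¹) * (t * h₂ * t⁻¹) := by group
    rw [e4, e2, e3, mul_inv_rev] at e1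
    have := congrArg (fun z => z⁻¹) e1
    have h' : h₂ * h₁ = h₁ * h₂ := by simpa using this
    exact h'.symm
  have hswapinv : ∀ s : G, s • a = b → s • b = a → ∀ h ∈ H, s * h * s⁻¹ = h⁻¹ := by
    intro s hsa hsb h hh
    have hs := hswapH s hsa hsb
    have e : s * h * s⁻¹ = t * ((t⁻¹ * s) * h * (t⁻¹ * s)⁻¹) * t⁻¹ := by group
    have e2 : (t⁻¹ * s) * h * (t⁻¹ * s)⁻¹ = h := by
      rw [hHcomm _ hs h hh, mul_assoc, mul_inv_cancel, mul_one]
    rw [e, e2, hinv' h hh]
  refine ⟨hcyc, ?_, hswapinv⟩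
  -- the centralizer
  apply le_antisymm
  · intro g hg
    rw [Subgroup.mem_centralizer_iff] at hg
    -- a nonidentity element of H
    obtain ⟨g₀, hg₀1, a₀, b₀, hab₀, hga₀, hgb₀⟩ := h4
    obtain ⟨k, hka, hkb⟩ := h2' hab₀ hab
    set h₁ := k * g₀ * k⁻¹ with hh₁
    have hh₁H : h₁ ∈ H := by
      apply hHmem
      · rw [hh₁, mul_smul, mul_smul, ← hka, inv_smul_smul, hga₀]
      · rw [hh₁, mul_smul, mul_smul, ← hkb, inv_smul_smul, hgb₀]
    have hh₁1 : h₁ ≠ 1 := by
      intro h
      apply hg₀1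
      have : g₀ = k⁻¹ * (k * g₀ * k⁻¹) * k := by group
      rw [this, ← hh₁, h]; group
    have hcomm : g * h₁ * g⁻¹ = h₁ := by
      have := hg h₁ hh₁H
      rw [← this]; group
    rcases hperm g h₁ hh₁H hh₁1 (by rw [hcomm]; exact hh₁H) with hgH | ⟨hga, hgb⟩
    · exact hgH
    · exfalso
      have := hswapinv g hga hgb h₁ hh₁H
      rw [hcomm] at this
      -- h₁ = h₁⁻¹ so h₁ ^ 2 = 1, odd order
      have hsq : h₁ ^ 2 = 1 := by
        rw [pow_two]
        nth_rewrite 1 [this]
        exact inv_mul_cancel h₁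
      have hord : orderOf (⟨h₁, hh₁H⟩ : H) ∣ 2 := by
        apply orderOf_dvd_of_pow_eq_one
        apply Subtype.ext
        exact hsq
      have hord' : orderOf (⟨h₁, hh₁H⟩ : H) ∣ Nat.card H := orderOf_dvd_natCard _
      have h1 : orderOf (⟨h₁, hh₁H⟩ : H) = 1 := by
        rcases (Nat.dvd_prime Nat.prime_two).mp hord with h | h
        · exact h
        · exfalso
          rw [h] at hord'
          exact (Nat.not_even_iff_odd.mpr hodd) (even_iff_two_dvd.mpr hord')
      rw [orderOf_eq_one_iff] at h1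
      exact hh₁1 (congrArg Subtype.val h1)
  · intro g hg
    rw [Subgroup.mem_centralizer_iff]
    intro h hh
    exact hHcomm h hh g hg

end Cfsg.Agent.S0739
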