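import Mathlib
import Cfsg.Statements.S0741

set_option autoImplicit false

open Cfsg

namespace Cfsg.Agent.S0741

open MulAction

/-- If the two-point stabilisers of a finite Zassenhaus group of degree `n + 1` have even order `d`, then `2d ≥ n - 1`. -/
theorem result {G Ω : Type*} [Group G] [Finite G] [MulAction G Ω] [Fintype Ω] (hZ : Cfsg.IsZassenhausGroup G Ω) {a b : Ω} (hab : a ≠ b) (heven : Even (Nat.card ↥(MulAction.stabilizer G a ⊓ MulAction.stabilizer G b))) : Fintype.card Ω - 2 ≤ 2 * Nat.card ↥(MulAction.stabilizer G a ⊓ MulAction.stabilizer G b) := by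
  classical
  obtain ⟨hfaith, h2, h3, h4, h5⟩ := hZ
  have h2' : ∀ {a b c d : Ω}, a ≠ b → c ≠ d → ∃ g : G, g • a = c ∧ g • b = d :=
    MulAction.is_two_pretransitive_iff.mp h2
  haveI : Fintype G := Fintype.ofFinite G
  set H : Subgroup G := stabilizer G a ⊓ stabilizer G b with hH
  -- an involution in H
  haveI : Fact (Nat.Prime 2) := ⟨Nat.prime_two⟩
  obtain ⟨z, hz⟩ := exists_prime_orderOf_dvd_card' (G := H) 2 heven.two_dvd
  have hz2 : (z : G) * (z : G) = 1 := by
    have := pow_orderOf_eq_one z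
    rw [hz, pow_two] at this
    exact congrArg Subtype.val this
  have hz1 : (z : G) ≠ 1 := by
    intro h
    have : z = 1 := Subtype.ext h
    rw [this, orderOf_one] at hz
    omega
  have hza : (z : G) • a = a := z.2.1
  have hzb : (z : G) • b = b := z.2.2
  have hζ : ∀ w w' : Ω, w ≠ w' → ∃ u : G, u ≠ 1 ∧ u * u = 1 ∧ u • w = w ∧ u • w' = w' := by
    intro w w' hww
    obtain ⟨g, hga, hgb⟩ := h2' hab hww
    refine ⟨g * z * g⁻¹, ?_, ?_, ?_, ?_⟩
    · intro h
      apply hz1
      have : (z : G) = g⁻¹ * (g * z * g⁻¹) * g := by group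
      rw [this, h]; group
    · have : g * (z : G) * g⁻¹ * (g * z * g⁻¹) = g * ((z : G) * z) * g⁻¹ := by group
      rw [this, hz2]; group
    · rw [mul_smul, mul_smul, ← hga, inv_smul_smul, hza]
    · rw [mul_smul, mul_smul, ← hgb, inv_smul_smul, hzb]
  choose! ζ hζ1 hζ2 hζw hζw' using hζ
  set N := Fintype.card Ω with hN
  set P : Finset (Ω × Ω) := (Finset.univ.erase a).offDiag with hP
  have hPcard : P.card = (N - 1) * (N - 1) - (N - 1) := by
    rw [hP, Finset.offDiag_card, Finset.card_erase_of_mem (Finset.mem_univ a), Finset.card_univ]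
  set Sa : Finset G := Finset.univ.filter (fun u : G => u * u = 1 ∧ u • a ≠ a) with hSa
  have hPmem : ∀ p ∈ P, p.1 ≠ a ∧ p.2 ≠ a ∧ p.1 ≠ p.2 := by
    intro p hp
    rw [hP, Finset.mem_offDiag] at hp
    exact ⟨(Finset.mem_erase.mp hp.1).1, (Finset.mem_erase.mp hp.2.1).1, hp.2.2⟩
  have h1 : P.card ≤ 2 * Sa.card := by
    apply Finset.card_le_mul_card_image_of_maps_to (f := fun p : Ω × Ω => ζ p.1 p.2)
    · intro p hp
      obtain ⟨hp1, hp2, hp12⟩ := hPmem p hp
      rw [hSa, Finset.mem_filter]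
      refine ⟨Finset.mem_univ _, hζ2 _ _ hp12, ?_⟩
      intro hfa
      exact hζ1 _ _ hp12 (h3 _ p.1 p.2 a hp12 hp2 hp1 (hζw _ _ hp12) (hζw' _ _ hp12) hfa)
    · intro u hu
      by_cases hne : (P.filter (fun p : Ω × Ω => ζ p.1 p.2 = u)).Nonempty
      · obtain ⟨p₀, hp₀⟩ := hne
        rw [Finset.mem_filter] at hp₀
        obtain ⟨hp₀P, hp₀u⟩ := hp₀
        obtain ⟨_, _, hp₀12⟩ := hPmem p₀ hp₀P
        have hu1 : u ≠ 1 := hp₀u ▸ hζ1 _ _ hp₀12
        have hu01 : u • p₀.1 = p₀.1 := hp₀u ▸ hζw _ _ hp₀12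
        have hu02 : u • p₀.2 = p₀.2 := hp₀u ▸ hζw' _ _ hp₀12
        have hfix : ∀ x : Ω, u • x = x → x = p₀.1 ∨ x = p₀.2 := by
          intro x hx
          by_contra hcon
          rw [not_or] at hcon
          exact hu1 (h3 u p₀.1 p₀.2 x hp₀12 (Ne.symm hcon.2) (Ne.symm hcon.1) hu01 hu02 hx)
        refine le_trans (Finset.card_le_card (t := {p₀, p₀.swap}) ?_) Finset.card_le_two
        intro p hp
        rw [Finset.mem_filter] at hp
        obtain ⟨hpP, hpu⟩ := hp
        obtain ⟨_, _, hp12⟩ := hPmem p hpP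
        have hu1' : u • p.1 = p.1 := hpu ▸ hζw _ _ hp12
        have hu2' : u • p.2 = p.2 := hpu ▸ hζw' _ _ hp12
        rw [Finset.mem_insert, Finset.mem_singleton]
        rcases hfix _ hu1' with e1 | e1 <;> rcases hfix _ hu2' with e2 | e2
        · exact absurd (e1.trans e2.symm) hp12
        · left; exact Prod.ext e1 e2
        · right; exact Prod.ext e1 e2
        · exact absurd (e1.trans e2.symm) hp12
      · rw [Finset.not_nonempty_iff_eq_empty] at hne
        rw [hne]; simp
  have hHcard : (Finset.univ.filter (fun g : G => g ∈ H)).card = Nat.card H := by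
    rw [Nat.card_eq_fintype_card, Fintype.card_subtype]
  have h2 : Sa.card ≤ Nat.card H * (N - 1) := by
    have : (Finset.univ.erase a).card = N - 1 := by
      rw [Finset.card_erase_of_mem (Finset.mem_univ a), Finset.card_univ]
    rw [← this]
    apply Finset.card_le_mul_card_image_of_maps_to (f := fun u : G => u • a)
    · intro u hu
      rw [hSa, Finset.mem_filter] at hu
      exact Finset.mem_erase.mpr ⟨hu.2.2, Finset.mem_univ _⟩
    · intro y hy
      have hya : y ≠ a := (Finset.mem_erase.mp hy).1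
      by_cases hne : (Sa.filter (fun u : G => u • a = y)).Nonempty
      · obtain ⟨t, ht⟩ := hne
        rw [Finset.mem_filter, hSa, Finset.mem_filter] at ht
        obtain ⟨⟨_, ht2, _⟩, hta⟩ := ht
        have hty : t • y = a := by rw [← hta, ← mul_smul, ht2, one_smul]
        obtain ⟨g, hga, hgb⟩ := h2' hab (Ne.symm hya)
        rw [← hHcard]
        apply Finset.card_le_card_of_injOn (fun u => g⁻¹ * (t⁻¹ * u) * g)
        · intro u hu
          rw [Finset.mem_coe, Finset.mem_filter, hSa, Finset.mem_filter] at hu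
          obtain ⟨⟨_, hu2, _⟩, hua⟩ := hu
          have huy : u • y = a := by rw [← hua, ← mul_smul, hu2, one_smul]
          rw [Finset.mem_coe, Finset.mem_filter]
          refine ⟨Finset.mem_univ _, ?_, ?_⟩
          · show (g⁻¹ * (t⁻¹ * u) * g) • a = a
            rw [mul_smul, mul_smul, mul_smul, hga, hua, inv_smul_eq_iff, inv_smul_eq_iff, hga, hta]
          · show (g⁻¹ * (t⁻¹ * u) * g) • b = b
            rw [mul_smul, mul_smul, mul_smul, hgb, huy, inv_smul_eq_iff, inv_smul_eq_iff, hgb, hty]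
        · intro u _ u' _ he
          simpa using he
      · rw [Finset.not_nonempty_iff_eq_empty] at hne
        rw [hne]; simp
  have hN2 : 2 ≤ N := by
    rw [hN]
    exact Fintype.one_lt_card_iff.mpr ⟨a, b, hab⟩
  have h3' : (N - 1) * (N - 1) - (N - 1) ≤ 2 * (Nat.card H * (N - 1)) := by
    rw [← hPcard]
    exact h1.trans (Nat.mul_le_mul_left _ h2)
  obtain ⟨m, hm⟩ : ∃ m, N = m + 2 := ⟨N - 2, by omega⟩
  rw [hm] at h3' ⊢
  have e1 : m + 2 - 1 = m + 1 := by omega
  have e2 : m + 2 - 2 = m := by omega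
  rw [e1] at h3'
  rw [e2]
  have e3 : (m + 1) * (m + 1) - (m + 1) = m * (m + 1) := by
    have : (m + 1) * (m + 1) = m * (m + 1) + (m + 1) := by ring
    omega
  rw [e3] at h3'
  have e4 : 2 * (Nat.card H * (m + 1)) = (2 * Nat.card H) * (m + 1) := by ring
  rw [e4] at h3'
  exact Nat.le_of_mul_le_mul_right h3' (Nat.succ_pos m)

end Cfsg.Agent.S0741
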