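import Mathlib
import Cfsg.Statements.S1531
import Cfsg.Agent.Lib.Helper8.Zspan

set_option autoImplicit false
open Cfsg

namespace Cfsg.Agent.S1531

open Cfsg.Agent.Helper8 Cfsg.Agent.Helper24
open scoped ComplexConjugate

section aux

variable {G : Type*} [Group G] [Fintype G]

/-- a generalized character of norm one is a signed irreducible character -/
lemma signed_irr {A : G → ℂ} (hA : Cfsg.IsGeneralizedCharacter G A)
    (hn : Cfsg.classInner A A = 1) :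
    ∃ (μ : G → ℂ) (ε : ℤ), Cfsg.IsIrrCharacter G μ ∧ (ε = 1 ∨ ε = -1) ∧ A = ε • μ := by
  rcases genChar_norm_one hA hn with h | h
  · exact ⟨A, 1, h, Or.inl rfl, by simp⟩
  · exact ⟨-A, -1, h, Or.inr rfl, by simp⟩

/-- two generalized characters of norm one with nonzero inner product agree up to sign -/
lemma eq_sign_smul {A B : G → ℂ} (hA : Cfsg.IsGeneralizedCharacter G A)
    (hB : Cfsg.IsGeneralizedCharacter G B) (hnA : Cfsg.classInner A A = 1)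
    (hnB : Cfsg.classInner B B = 1) (hne : Cfsg.classInner A B ≠ 0) :
    ∃ ε : ℤ, (ε = 1 ∨ ε = -1) ∧ A = ε • B ∧ B = ε • A ∧ B 1 ≠ 0 := by
  obtain ⟨μ, εA, hμ, hεA, rfl⟩ := signed_irr hA hnA
  obtain ⟨ν, εB, hν, hεB, rfl⟩ := signed_irr hB hnB
  have hμν : μ = ν := by
    by_contra hne'
    apply hne
    rw [classInner_zsmul_left, classInner_zsmul_right, irr_orthogonality hμ hν, if_neg hne']
    simp
  subst hμν
  obtain ⟨d, hd, hd1⟩ := irr_one_eq hμ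
  refine ⟨εA * εB, ?_, ?_, ?_, ?_⟩
  · rcases hεA with rfl | rfl <;> rcases hεB with rfl | rfl <;> simp
  · rw [smul_smul]
    rcases hεA with rfl | rfl <;> rcases hεB with rfl | rfl <;> simp
  · rw [smul_smul]
    rcases hεA with rfl | rfl <;> rcases hεB with rfl | rfl <;> simp
  · rw [Pi.smul_apply, hd1]
    have : (d : ℂ) ≠ 0 := by exact_mod_cast hd.ne'
    rcases hεB with rfl | rfl <;> simpa using this

end aux

lemma mem_zspanOn_of {N : Type*} [Group N] {S Z : Set (N → ℂ)} (hZS : Z ⊆ S) {a : N → ℂ}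
    (ha : a ∈ Cfsg.zspan Z) (h1 : a 1 = 0) :
    a ∈ Cfsg.zspanOn Z {1}ᶜ ∧ a ∈ Cfsg.zspanOn S {1}ᶜ := by
  have hv : ∀ x : N, x ∉ ({1}ᶜ : Set N) → a x = 0 := by
    intro x hx
    have : x = 1 := by
      by_contra hne
      exact hx hne
    rw [this, h1]
  exact ⟨⟨ha, hv⟩, ⟨zspan_mono hZS ha, hv⟩⟩

section main

variable {G : Type*} [Group G] [Fintype G] (N : Subgroup G) [Fintype N] (S X Y : Set (N → ℂ))
  (hirr : ∀ ξ ∈ S, Cfsg.IsIrrCharacter N ξ) (hXS : X ⊆ S) (hYS : Y ⊆ S) (hXY : Disjoint X Y)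
  (α : (N → ℂ) → (G → ℂ)) (hα : Cfsg.IsLinearIsometryOn (Cfsg.zspanOn S {1}ᶜ) α)
  (hα1 : ∀ θ ∈ Cfsg.zspanOn S {1}ᶜ, α θ 1 = 0) (σ τ : (N → ℂ) → (G → ℂ))
  (hσ : Cfsg.IsLinearIsometryOn (Cfsg.zspan X) σ) (hσα : ∀ θ ∈ Cfsg.zspanOn X {1}ᶜ, σ θ = α θ)
  (hτ : Cfsg.IsLinearIsometryOn (Cfsg.zspan Y) τ) (hτα : ∀ θ ∈ Cfsg.zspanOn Y {1}ᶜ, τ θ = α θ)

include hirr hXS hYS hXY

omit [Fintype G] in
lemma orthXY : ∀ a ∈ X, ∀ b ∈ Y, Cfsg.classInner a b = 0 := by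
  intro a ha b hb
  rw [irr_orthogonality (hirr a (hXS ha)) (hirr b (hYS hb))]
  rw [if_neg]
  rintro rfl
  exact Set.disjoint_left.1 hXY ha hb

include hα hα1 hσ hσα hτ hτα

/-- the cross inner products vanish -/
lemma cross_zero (hX2 : ∃ a ∈ X, ∃ b ∈ X, a ≠ b) (hY2 : ∃ a ∈ Y, ∃ b ∈ Y, a ≠ b) :
    ∀ χ ∈ X, ∀ η ∈ Y, Cfsg.classInner (σ χ) (τ η) = 0 := by
  intro χ hχ η hη
  by_contra hne
  -- other members
  obtain ⟨χ', hχ', hχχ'⟩ : ∃ χ' ∈ X, χ' ≠ χ := by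
    obtain ⟨a, ha, b, hb, hab⟩ := hX2
    by_cases h : a = χ
    · exact ⟨b, hb, fun hb' => hab (h.trans hb'.symm)⟩
    · exact ⟨a, ha, h⟩
  obtain ⟨η', hη', hηη'⟩ : ∃ η' ∈ Y, η' ≠ η := by
    obtain ⟨a, ha, b, hb, hab⟩ := hY2
    by_cases h : a = η
    · exact ⟨b, hb, fun hb' => hab (h.trans hb'.symm)⟩
    · exact ⟨a, ha, h⟩
  have iχ := hirr χ (hXS hχ)
  have iχ' := hirr χ' (hXS hχ')
  have iη := hirr η (hYS hη)
  have iη' := hirr η' (hYS hη')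
  obtain ⟨c, hc, hc1⟩ := irr_one_eq iχ
  obtain ⟨c', hc', hc1'⟩ := irr_one_eq iχ'
  obtain ⟨e, he, he1⟩ := irr_one_eq iη
  obtain ⟨e', he', he1'⟩ := irr_one_eq iη'
  have mχ := mem_zspan_of_mem hχ
  have mχ' := mem_zspan_of_mem hχ'
  have mη := mem_zspan_of_mem hη
  have mη' := mem_zspan_of_mem hη'
  -- norms and orthogonality of the images
  have nA : Cfsg.classInner (σ χ) (σ χ) = 1 := by
    rw [lio_inner hσ mχ mχ, irr_orthogonality iχ iχ, if_pos rfl]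
  have nA' : Cfsg.classInner (σ χ') (σ χ') = 1 := by
    rw [lio_inner hσ mχ' mχ', irr_orthogonality iχ' iχ', if_pos rfl]
  have nB : Cfsg.classInner (τ η) (τ η) = 1 := by
    rw [lio_inner hτ mη mη, irr_orthogonality iη iη, if_pos rfl]
  have nB' : Cfsg.classInner (τ η') (τ η') = 1 := by
    rw [lio_inner hτ mη' mη', irr_orthogonality iη' iη', if_pos rfl]
  have oAA' : Cfsg.classInner (σ χ') (σ χ) = 0 := by
    rw [lio_inner hσ mχ' mχ, irr_orthogonality iχ' iχ, if_neg hχχ']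
  have oBB' : Cfsg.classInner (τ η) (τ η') = 0 := by
    rw [lio_inner hτ mη mη', irr_orthogonality iη iη', if_neg (fun h => hηη' h.symm)]
  have gA := lio_gen hσ mχ
  have gA' := lio_gen hσ mχ'
  have gB := lio_gen hτ mη
  have gB' := lio_gen hτ mη'
  -- the two auxiliary elements
  set a : N → ℂ := (c' : ℤ) • χ - (c : ℤ) • χ' with ha
  set b : N → ℂ := (e' : ℤ) • η - (e : ℤ) • η' with hb
  have haX : a ∈ Cfsg.zspan X := zspan_sub_mem (zspan_zsmul_mem _ mχ) (zspan_zsmul_mem _ mχ')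
  have hbY : b ∈ Cfsg.zspan Y := zspan_sub_mem (zspan_zsmul_mem _ mη) (zspan_zsmul_mem _ mη')
  have ha1 : a 1 = 0 := by
    simp only [ha, Pi.sub_apply, Pi.smul_apply, hc1, hc1']
    simp; ring
  have hb1 : b 1 = 0 := by
    simp only [hb, Pi.sub_apply, Pi.smul_apply, he1, he1']
    simp; ring
  obtain ⟨haX', haS⟩ := mem_zspanOn_of hXS haX ha1
  obtain ⟨hbY', hbS⟩ := mem_zspanOn_of hYS hbY hb1
  have hσa : σ a = (c' : ℤ) • σ χ - (c : ℤ) • σ χ' := by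
    rw [ha, lio_sub hσ (zspan_zsmul_mem _ mχ) (zspan_zsmul_mem _ mχ'), lio_zsmul hσ mχ,
      lio_zsmul hσ mχ']
  have hτb : τ b = (e' : ℤ) • τ η - (e : ℤ) • τ η' := by
    rw [hb, lio_sub hτ (zspan_zsmul_mem _ mη) (zspan_zsmul_mem _ mη'), lio_zsmul hτ mη,
      lio_zsmul hτ mη']
  have hab0 : Cfsg.classInner (σ a) (τ b) = 0 := by
    rw [hσα a haX', hτα b hbY', hα.2.2.1 a haS b hbS]
    exact classInner_zspan_orth (orthXY N S X Y hirr hXS hYS hXY) haX hbY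
  have hσa1 : σ a 1 = 0 := by rw [hσα a haX']; exact hα1 a haS
  have hτb1 : τ b 1 = 0 := by rw [hτα b hbY']; exact hα1 b hbS
  -- the first sign
  obtain ⟨ε, hε, hAB, hBA, hB1⟩ := eq_sign_smul gA gB nA nB hne
  have hεne : (ε : ℂ) ≠ 0 := by rcases hε with rfl | rfl <;> norm_num
  have iAB : Cfsg.classInner (σ χ) (τ η) = ε := by
    rw [hAB, classInner_zsmul_left, nB, mul_one]
  have iAB' : Cfsg.classInner (σ χ) (τ η') = 0 := by
    rw [hAB, classInner_zsmul_left, oBB', mul_zero]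
  have iA'B : Cfsg.classInner (σ χ') (τ η) = 0 := by
    rw [hBA, classInner_zsmul_right, oAA', mul_zero]
  -- expansion of the inner product
  have hexp : (c' : ℂ) * e' * ε + (c : ℂ) * e * Cfsg.classInner (σ χ') (τ η') = 0 := by
    have e1 : Cfsg.classInner ((c' : ℤ) • σ χ) ((e' : ℤ) • τ η) = (c' : ℂ) * e' * ε := by
      rw [classInner_zsmul_left, classInner_zsmul_right, iAB]; push_cast; ring
    have e2 : Cfsg.classInner ((c' : ℤ) • σ χ) ((e : ℤ) • τ η') = 0 := by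
      rw [classInner_zsmul_left, classInner_zsmul_right, iAB']; ring
    have e3 : Cfsg.classInner ((c : ℤ) • σ χ') ((e' : ℤ) • τ η) = 0 := by
      rw [classInner_zsmul_left, classInner_zsmul_right, iA'B]; ring
    have e4 : Cfsg.classInner ((c : ℤ) • σ χ') ((e : ℤ) • τ η') =
        (c : ℂ) * e * Cfsg.classInner (σ χ') (τ η') := by
      rw [classInner_zsmul_left, classInner_zsmul_right]; push_cast; ring
    have := hab0
    rw [hσa, hτb, classInner_sub_left, classInner_sub_right, classInner_sub_right, e1, e2, e3,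
      e4] at this
    linear_combination this
  have hne' : Cfsg.classInner (σ χ') (τ η') ≠ 0 := by
    intro h0
    rw [h0, mul_zero, add_zero] at hexp
    have h1 : (c' : ℂ) ≠ 0 := by exact_mod_cast hc'.ne'
    have h2 : (e' : ℂ) ≠ 0 := by exact_mod_cast he'.ne'
    exact mul_ne_zero (mul_ne_zero h1 h2) hεne hexp
  obtain ⟨ε', hε', hAB', -, hB1'⟩ := eq_sign_smul gA' gB' nA' nB' hne'
  have iA'B' : Cfsg.classInner (σ χ') (τ η') = ε' := by
    rw [hAB', classInner_zsmul_left, nB', mul_one]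
  rw [iA'B'] at hexp
  -- the signs are opposite
  have hsign : ε' = -ε := by
    have hpos1 : (0 : ℝ) < (c' : ℝ) * e' := by positivity
    have hpos2 : (0 : ℝ) < (c : ℝ) * e := by positivity
    have hexpR : ((c' : ℝ) * e') * (ε : ℝ) + ((c : ℝ) * e) * (ε' : ℝ) = 0 := by
      have : (((c' : ℝ) * e' * (ε : ℝ) + (c : ℝ) * e * (ε' : ℝ) : ℝ) : ℂ) = 0 := by
        push_cast; exact hexp
      exact_mod_cast this
    rcases hε with rfl | rfl <;> rcases hε' with rfl | rfl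
    · exfalso; push_cast at hexpR; nlinarith
    · rfl
    · simp
    · exfalso; push_cast at hexpR; nlinarith
  -- degrees
  have hA1 : σ χ 1 = (ε : ℂ) * τ η 1 := by
    rw [hAB, Pi.smul_apply, zsmul_eq_mul]
  have hA1' : σ χ' 1 = -(ε : ℂ) * τ η' 1 := by
    rw [hAB', hsign, Pi.smul_apply, zsmul_eq_mul]; push_cast; ring
  have h1 : (c' : ℂ) * (τ η 1) + (c : ℂ) * (τ η' 1) = 0 := by
    have := hσa1
    rw [hσa, Pi.sub_apply, Pi.smul_apply, Pi.smul_apply, zsmul_eq_mul, zsmul_eq_mul, hA1,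
      hA1'] at this
    push_cast at this
    have h2 : (ε : ℂ) * ((c' : ℂ) * (τ η 1) + (c : ℂ) * (τ η' 1)) = 0 := by
      linear_combination this
    rcases mul_eq_zero.1 h2 with h | h
    · exact absurd h hεne
    · exact h
  have h2 : (e' : ℂ) * (τ η 1) - (e : ℂ) * (τ η' 1) = 0 := by
    have := hτb1
    rw [hτb, Pi.sub_apply, Pi.smul_apply, Pi.smul_apply, zsmul_eq_mul, zsmul_eq_mul] at this
    push_cast at this
    exact this
  have h3 : ((c' : ℂ) * e + (c : ℂ) * e') * (τ η 1) = 0 := by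
    linear_combination (e : ℂ) * h1 + (c : ℂ) * h2
  have h4 : ((c' : ℂ) * e + (c : ℂ) * e') ≠ 0 := by
    have : (0 : ℝ) < (c' : ℝ) * e + (c : ℝ) * e' := by positivity
    have h5 : (((c' : ℝ) * e + (c : ℝ) * e' : ℝ) : ℂ) ≠ 0 := by
      exact_mod_cast this.ne'
    push_cast at h5
    exact h5
  rcases mul_eq_zero.1 h3 with h | h
  · exact h4 h
  · exact hB1 h

end main

/-- Let N be a subgroup of the finite group G, S a set of irreducible characters of N, and α a linear isometry on the integer combinations of S vanishing at 1 with values virtual characters of G vanishing at 1. Let X, Y ⊆ S be disjoint, each with at least two members, and σ, τ linear isometries on ℤ[X], ℤ[Y] into virtual characters agreeing with α on the members vanishing at 1. Then ⟨σ χ, τ η⟩ = 0 for χ ∈ X, η ∈ Y; and if for some χ₀ ∈ X, η₀ ∈ Y with degrees c = χ₀ 1, e = η₀ 1 one has α (c • η₀ − e • χ₀) = c • τ η₀ − e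 • σ χ₀, then (X ∪ Y, N minus 1, α) is coherent. -/
theorem result {G : Type*} [Group G] [Fintype G] (N : Subgroup G) [Fintype N] (S X Y : Set (N → ℂ)) (hirr : ∀ ξ ∈ S, Cfsg.IsIrrCharacter N ξ) (hXS : X ⊆ S) (hYS : Y ⊆ S) (hXY : Disjoint X Y) (hX2 : ∃ a ∈ X, ∃ b ∈ X, a ≠ b) (hY2 : ∃ a ∈ Y, ∃ b ∈ Y, a ≠ b) (α : (N → ℂ) → (G → ℂ)) (hα : Cfsg.IsLinearIsometryOn (Cfsg.zspanOn S {1}ᶜ) α) (hα1 : ∀ θ ∈ Cfsg.zspanOn S {1}ᶜ, α θ 1 = 0) (σ τ : (N → ℂ) → (G → ℂ)) (hσ : Cfsg.IsLinearIsometryOn (Cfsg.zspan X) σ) (hσα : ∀ θ ∈ Cfsg.zspanOn X {1}ᶜ, σ θ = α θ) (hτ : Cfsg.IsLinearIsometryOn (Cfsg.zspan Y) τ) (hτα : ∀ θ ∈ Cfsg.zspanOn Y {1}ᶜ, τ θ = α θ) : (∀ χ ∈ X, ∀ η ∈ Y, Cfsg.classInner (σ χ) (τ η) = 0) ∧ ((∃ χ₀ ∈ X, ∃ η₀ ∈ Y, α (χ₀ 1 • η₀ - η₀ 1 • χ₀) = χ₀ 1 • τ η₀ - η₀ 1 • σ χ₀) → Cfsg.IsCoherent (X ∪ Y) {1}ᶜ α) := by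
  classical
  have hcross := cross_zero N S X Y hirr hXS hYS hXY α hα hα1 σ τ hσ hσα hτ hτα hX2 hY2
  refine ⟨hcross, ?_⟩
  rintro ⟨χ₀, hχ₀, η₀, hη₀, hkey⟩
  have horth := orthXY N S X Y hirr hXS hYS hXY
  have hcross' : ∀ {a b : N → ℂ}, a ∈ Cfsg.zspan X → b ∈ Cfsg.zspan Y →
      Cfsg.classInner (σ a) (τ b) = 0 := fun ha hb => classInner_lio_orth hσ hτ hcross ha hb
  -- the combined isometry
  have hdec : ∀ θ : N → ℂ, θ ∈ Cfsg.zspan (X ∪ Y) → ∃ p : (N → ℂ) × (N → ℂ),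
      p.1 ∈ Cfsg.zspan X ∧ p.2 ∈ Cfsg.zspan Y ∧ θ = p.1 + p.2 := by
    intro θ h
    obtain ⟨b, hb, c, hc, rfl⟩ := zspan_union_decomp h
    exact ⟨(b, c), hb, hc, rfl⟩
  let τ₁ : (N → ℂ) → (G → ℂ) := fun θ =>
    if h : θ ∈ Cfsg.zspan (X ∪ Y) then
      σ (Classical.choose (hdec θ h)).1 + τ (Classical.choose (hdec θ h)).2
    else 0
  have hτ₁ : ∀ {b c : N → ℂ}, b ∈ Cfsg.zspan X → c ∈ Cfsg.zspan Y → τ₁ (b + c) = σ b + τ c := by
    intro b c hb hc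
    have hmem : b + c ∈ Cfsg.zspan (X ∪ Y) :=
      zspan_add_mem (zspan_mono Set.subset_union_left hb) (zspan_mono Set.subset_union_right hc)
    simp only [τ₁, dif_pos hmem]
    obtain ⟨hb', hc', heq⟩ := Classical.choose_spec (hdec (b + c) hmem)
    generalize Classical.choose (hdec (b + c) hmem) = p at hb' hc' heq ⊢
    obtain ⟨b', c'⟩ := p
    simp only at hb' hc' heq ⊢
    have hdiff : b - b' = c' - c := by
      rw [sub_eq_sub_iff_add_eq_add, heq, add_comm]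
    have h0 : b - b' = 0 := by
      apply eq_zero_of_mem_zspan_orth horth (zspan_sub_mem hb hb')
      rw [hdiff]
      exact zspan_sub_mem hc' hc
    have hbb' : b = b' := sub_eq_zero.1 h0
    have hcc' : c = c' := by
      rw [h0] at hdiff
      exact (sub_eq_zero.1 hdiff.symm).symm
    rw [← hbb', ← hcc']
  have hlio : Cfsg.IsLinearIsometryOn (Cfsg.zspan (X ∪ Y)) τ₁ := by
    refine ⟨?_, ?_, ?_, ?_⟩
    · intro θ hθ θ' hθ'
      obtain ⟨b, hb, c, hc, rfl⟩ := zspan_union_decomp hθ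
      obtain ⟨b', hb', c', hc', rfl⟩ := zspan_union_decomp hθ'
      have : b + c + (b' + c') = (b + b') + (c + c') := by abel
      rw [this, hτ₁ (zspan_add_mem hb hb') (zspan_add_mem hc hc'), hτ₁ hb hc, hτ₁ hb' hc',
        lio_add hσ hb hb', lio_add hτ hc hc']
      abel
    · intro θ hθ n
      obtain ⟨b, hb, c, hc, rfl⟩ := zspan_union_decomp hθ
      rw [smul_add, hτ₁ (zspan_zsmul_mem n hb) (zspan_zsmul_mem n hc), hτ₁ hb hc,
        lio_zsmul hσ hb, lio_zsmul hτ hc, smul_add]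
    · intro θ hθ θ' hθ'
      obtain ⟨b, hb, c, hc, rfl⟩ := zspan_union_decomp hθ
      obtain ⟨b', hb', c', hc', rfl⟩ := zspan_union_decomp hθ'
      rw [hτ₁ hb hc, hτ₁ hb' hc']
      simp only [Helper24.classInner_add_left, Helper24.classInner_add_right]
      rw [lio_inner hσ hb hb', lio_inner hτ hc hc', hcross' hb hc',
        classInner_zspan_orth horth hb hc']
      have e1 : Cfsg.classInner (τ c) (σ b') = 0 := by
        rw [← Helper24.classInner_conj_symm, hcross' hb' hc, map_zero]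
      have e2 : Cfsg.classInner c b' = 0 := by
        rw [← Helper24.classInner_conj_symm, classInner_zspan_orth horth hb' hc, map_zero]
      rw [e1, e2]
    · intro θ hθ
      obtain ⟨b, hb, c, hc, rfl⟩ := zspan_union_decomp hθ
      rw [hτ₁ hb hc]
      exact isGen_add (lio_gen hσ hb) (lio_gen hτ hc)
  -- degrees
  have iχ₀ := hirr χ₀ (hXS hχ₀)
  have iη₀ := hirr η₀ (hYS hη₀)
  obtain ⟨c, hc, hc1⟩ := irr_one_eq iχ₀
  obtain ⟨e, he, he1⟩ := irr_one_eq iη₀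
  have mχ₀ := mem_zspan_of_mem hχ₀
  have mη₀ := mem_zspan_of_mem hη₀
  have hconv : ∀ (n : ℕ) (f : N → ℂ), ((n : ℂ)) • f = ((n : ℤ)) • f := by
    intro n f; ext x; simp
  have hconv' : ∀ (n : ℕ) (f : G → ℂ), ((n : ℂ)) • f = ((n : ℤ)) • f := by
    intro n f; ext x; simp
  rw [hc1, he1, hconv, hconv, hconv', hconv'] at hkey
  set key : N → ℂ := (c : ℤ) • η₀ - (e : ℤ) • χ₀ with hkeydef
  have hkeyXY : key ∈ Cfsg.zspan (X ∪ Y) :=
    zspan_sub_mem (zspan_zsmul_mem _ (zspan_mono Set.subset_union_right mη₀))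
      (zspan_zsmul_mem _ (zspan_mono Set.subset_union_left mχ₀))
  have hkey1 : key 1 = 0 := by
    simp only [hkeydef, Pi.sub_apply, Pi.smul_apply, hc1, he1]
    simp; ring
  have hXYS : X ∪ Y ⊆ S := Set.union_subset hXS hYS
  have hvan : ∀ {a : N → ℂ}, a 1 = 0 → ∀ x : N, x ∉ ({1}ᶜ : Set N) → a x = 0 := by
    intro a h1 x hx
    have : x = 1 := by
      by_contra hne
      exact hx hne
    rw [this, h1]
  have hkeyS : key ∈ Cfsg.zspanOn S {1}ᶜ := ⟨zspan_mono hXYS hkeyXY, hvan hkey1⟩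
  refine ⟨⟨key, ⟨hkeyXY, hvan hkey1⟩, ?_⟩, τ₁, hlio, ?_⟩
  · intro h0
    have h1 : Cfsg.classInner key η₀ = c := by
      rw [hkeydef, classInner_sub_left, classInner_zsmul_left, classInner_zsmul_left,
        irr_orthogonality iη₀ iη₀, if_pos rfl, horth χ₀ hχ₀ η₀ hη₀]
      simp
    rw [h0, Helper24.classInner_zero_left] at h1
    have : (c : ℂ) ≠ 0 := by exact_mod_cast hc.ne'
    exact this h1.symm
  · rintro θ ⟨hθ, hθv⟩
    obtain ⟨a, ha, b, hb, rfl⟩ := zspan_union_decomp hθ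
    have hθ1 : (a + b) 1 = 0 := hθv 1 (by simp)
    -- the degree of `a`
    obtain ⟨t, ht⟩ := zspan_apply_int (S := X) 1 (fun φ hφ => by
      obtain ⟨n, -, hn⟩ := irr_one_eq (hirr φ (hXS hφ))
      exact ⟨n, by rw [hn]; simp⟩) ha
    have hb1 : b 1 = -(t : ℂ) := by
      have : a 1 + b 1 = 0 := hθ1
      rw [ht] at this
      linear_combination this
    set a₀ : N → ℂ := (c : ℤ) • a - t • χ₀ with ha₀
    set b₀ : N → ℂ := (e : ℤ) • b + t • η₀ with hb₀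
    have ha₀X : a₀ ∈ Cfsg.zspan X := zspan_sub_mem (zspan_zsmul_mem _ ha) (zspan_zsmul_mem _ mχ₀)
    have hb₀Y : b₀ ∈ Cfsg.zspan Y := zspan_add_mem (zspan_zsmul_mem _ hb) (zspan_zsmul_mem _ mη₀)
    have ha₀1 : a₀ 1 = 0 := by
      simp only [ha₀, Pi.sub_apply, Pi.smul_apply, ht, hc1]
      simp; ring
    have hb₀1 : b₀ 1 = 0 := by
      simp only [hb₀, Pi.add_apply, Pi.smul_apply, hb1, he1]
      simp; ring
    have ha₀X' : a₀ ∈ Cfsg.zspanOn X {1}ᶜ := ⟨ha₀X, hvan ha₀1⟩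
    have hb₀Y' : b₀ ∈ Cfsg.zspanOn Y {1}ᶜ := ⟨hb₀Y, hvan hb₀1⟩
    have ha₀S : a₀ ∈ Cfsg.zspanOn S {1}ᶜ := ⟨zspan_mono hXS ha₀X, hvan ha₀1⟩
    have hb₀S : b₀ ∈ Cfsg.zspanOn S {1}ᶜ := ⟨zspan_mono hYS hb₀Y, hvan hb₀1⟩
    have hθS : a + b ∈ Cfsg.zspanOn S {1}ᶜ := ⟨zspan_mono hXYS hθ, hθv⟩
    -- closure properties of `zspanOn S {1}ᶜ`
    have hSadd : ∀ {u v : N → ℂ}, u ∈ Cfsg.zspanOn S {1}ᶜ → v ∈ Cfsg.zspanOn S {1}ᶜ →
        u + v ∈ Cfsg.zspanOn S {1}ᶜ := by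
      intro u v hu hv
      refine ⟨zspan_add_mem hu.1 hv.1, fun x hx => ?_⟩
      rw [Pi.add_apply, hu.2 x hx, hv.2 x hx, add_zero]
    have hSsmul : ∀ (n : ℤ) {u : N → ℂ}, u ∈ Cfsg.zspanOn S {1}ᶜ →
        n • u ∈ Cfsg.zspanOn S {1}ᶜ := by
      intro n u hu
      refine ⟨zspan_zsmul_mem n hu.1, fun x hx => ?_⟩
      rw [Pi.smul_apply, hu.2 x hx, smul_zero]
    -- the identity `ce θ = e a₀ + c b₀ - t key`
    have hid : ((c : ℤ) * (e : ℤ)) • (a + b) =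
        ((e : ℤ) • a₀ + (c : ℤ) • b₀) + (-t) • key := by
      simp only [ha₀, hb₀, hkeydef]
      ext x
      simp only [Pi.add_apply, Pi.sub_apply, Pi.smul_apply]
      simp only [zsmul_eq_mul]
      push_cast
      ring
    have hα_id : α (((c : ℤ) * (e : ℤ)) • (a + b)) = ((c : ℤ) * (e : ℤ)) • α (a + b) :=
      hα.2.1 _ hθS _
    have hα_rhs : α (((e : ℤ) • a₀ + (c : ℤ) • b₀) + (-t) • key) =
        ((e : ℤ) • α a₀ + (c : ℤ) • α b₀) + (-t) • α key := by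
      rw [hα.1 _ (hSadd (hSsmul _ ha₀S) (hSsmul _ hb₀S)) _ (hSsmul _ hkeyS),
        hα.1 _ (hSsmul _ ha₀S) _ (hSsmul _ hb₀S), hα.2.1 _ ha₀S, hα.2.1 _ hb₀S, hα.2.1 _ hkeyS]
    have hσa₀ : α a₀ = (c : ℤ) • σ a - t • σ χ₀ := by
      rw [← hσα a₀ ha₀X', ha₀, lio_sub hσ (zspan_zsmul_mem _ ha) (zspan_zsmul_mem _ mχ₀),
        lio_zsmul hσ ha, lio_zsmul hσ mχ₀]
    have hτb₀ : α b₀ = (e : ℤ) • τ b + t • τ η₀ := by
      rw [← hτα b₀ hb₀Y', hb₀, lio_add hτ (zspan_zsmul_mem _ hb) (zspan_zsmul_mem _ mη₀),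
        lio_zsmul hτ hb, lio_zsmul hτ mη₀]
    have hfinal : ((c : ℤ) * (e : ℤ)) • α (a + b) = ((c : ℤ) * (e : ℤ)) • τ₁ (a + b) := by
      rw [← hα_id, hid, hα_rhs, hσa₀, hτb₀, hkey, hτ₁ ha hb]
      ext x
      simp only [Pi.add_apply, Pi.sub_apply, Pi.smul_apply]
      simp only [zsmul_eq_mul]
      push_cast
      ring
    have hce : ((c : ℤ) * (e : ℤ)) ≠ 0 := by
      have : 0 < (c : ℤ) * (e : ℤ) := by positivity
      exact this.ne'
    ext x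
    have := congrFun hfinal x
    simp only [Pi.smul_apply, zsmul_eq_mul] at this
    have hce' : (((c : ℤ) * (e : ℤ) : ℤ) : ℂ) ≠ 0 := by exact_mod_cast hce
    exact (mul_left_cancel₀ hce' this).symm

end Cfsg.Agent.S1531
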