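import Mathlib
import Cfsg.Statements.S1515
import Cfsg.Agent.Lib.Helper8.InnerExtra

set_option autoImplicit false
open Cfsg

namespace Cfsg.Agent.S1515

open Cfsg.Agent.Helper8 Cfsg.Agent.Helper24
open scoped ComplexConjugate

/-- an integer is at most its square -/
lemma int_le_sq (a : ℤ) : a ≤ a ^ 2 := by
  rcases le_or_gt a 0 with h | h
  · nlinarith [sq_nonneg a]
  · nlinarith

lemma int_sq_eq (a : ℤ) (h : a ^ 2 = a) : a = 0 ∨ a = 1 := by
  have : a * (a - 1) = 0 := by ring_nf; ring_nf at h; linarith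
  rcases mul_eq_zero.1 this with h | h
  · exact Or.inl h
  · exact Or.inr (by linarith)

/-- Let (S, τ, R) be a coherence system from L to G, χ ∈ S, and ψ an integer combination of S with ⟨χ, ψ⟩ = ⟨conj χ, ψ⟩ = 0. Let τ₁ be a linear isometry on the integer combinations of χ − ψ and χ − conj χ, with virtual-character values, agreeing with τ on integer multiples of χ − conj χ. Then the sum over α ∈ R χ of the squared absolute values of ⟨τ₁(χ − ψ), α⟩ is at least ⟨χ, χ⟩; and if ⟨τ₁(χ − ψ), τ₁(χ − ψ)⟩ minus that sum is at least ⟨ψ, ψ⟩, then the sum equals ⟨χ, χ⟩ and every ⟨τ₁(χ − ψ), α⟩ with α ∈ R χ is 0 or 1. -/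
theorem result {L : Type*} [Group L] [Fintype L] {G : Type*} [Group G] [Fintype G] (S : Set (L → ℂ)) (τ : (L → ℂ) → (G → ℂ)) (R : (L → ℂ) → Finset (G → ℂ)) (hS : Cfsg.IsCoherenceSystem S τ R) (χ : L → ℂ) (hχ : χ ∈ S) (ψ : L → ℂ) (hψ : ψ ∈ Cfsg.zspan S) (h1 : Cfsg.classInner χ ψ = 0) (h2 : Cfsg.classInner (Cfsg.conjFun χ) ψ = 0) (τ₁ : (L → ℂ) → (G → ℂ)) (hτ₁ : Cfsg.IsLinearIsometryOn (Cfsg.zspan {χ - ψ, χ - Cfsg.conjFun χ}) τ₁) (hagree : ∀ n : ℤ, τ₁ (n • (χ - Cfsg.conjFun χ)) = τ (n • (χ - Cfsg.conjFun χ))) : (Cfsg.classInner χ χ).re ≤ ∑ α ∈ R χ, ‖Cfsg.classInner (τ₁ (χ - ψ)) α‖ ^ 2 ∧ ((Cfsg.classInner ψ ψ).re ≤ (Cfsg.classInner (τ₁ (χ - ψ)) (τ₁ (χ - ψ))).re - ∑ α ∈ R χ, ‖Cfsg.classInner (τ₁ (χ - ψ)) α‖ ^ 2 → (∑ α ∈ R χ, ‖Cfsg.classInner (τ₁ (χ - ψ)) α‖ ^ 2 = (Cfsg.classInner χ χ).re ∧ ∀ α ∈ R χ, Cfsg.classInner (τ₁ (χ - ψ)) α = 0 ∨ Cfsg.classInner (τ₁ (χ - ψ)) α = 1)) := by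
  classical
  obtain ⟨hadd, hsmul, hiso, hgen⟩ := hτ₁
  have hm1 : χ - ψ ∈ Cfsg.zspan {χ - ψ, χ - Cfsg.conjFun χ} := Submodule.subset_span (by simp)
  have hm2 : χ - Cfsg.conjFun χ ∈ Cfsg.zspan {χ - ψ, χ - Cfsg.conjFun χ} :=
    Submodule.subset_span (by simp)
  have hτχ : τ₁ (χ - Cfsg.conjFun χ) = ∑ α ∈ R χ, α := by
    have := hagree 1
    rw [one_smul] at this
    rw [this, hS.sum_eq χ hχ]
  have hψχ : Cfsg.classInner ψ χ = 0 := by
    rw [← Helper24.classInner_conj_symm, h1, map_zero]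
  have hψχ' : Cfsg.classInner ψ (Cfsg.conjFun χ) = 0 := by
    rw [← Helper24.classInner_conj_symm, h2, map_zero]
  have hχχ' : Cfsg.classInner χ (Cfsg.conjFun χ) = 0 :=
    hS.orthogonal χ hχ _ (hS.conj_mem χ hχ) (fun h => hS.conj_ne χ hχ h.symm)
  -- the multiplicities are integers
  have hint : ∀ α ∈ R χ, ∃ m : ℤ, Cfsg.classInner (τ₁ (χ - ψ)) α = m := fun α hα =>
    genChar_inner_genChar_int (hgen _ hm1) (hS.virtual χ hχ α hα)
  choose! a ha using hint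
  obtain ⟨n, hn⟩ := char_inner_char_nat (hS.isCharacter χ hχ) (hS.isCharacter χ hχ)
  have hsum : ∑ α ∈ R χ, Cfsg.classInner (τ₁ (χ - ψ)) α = Cfsg.classInner χ χ := by
    rw [← Helper24.classInner_sum_right, ← hτχ, hiso _ hm1 _ hm2, classInner_sub_left,
      classInner_sub_right, classInner_sub_right, hχχ', hψχ, hψχ']
    ring
  have hsumZ : ∑ α ∈ R χ, a α = n := by
    have : ((∑ α ∈ R χ, a α : ℤ) : ℂ) = (n : ℂ) := by
      rw [← hn, ← hsum]
      push_cast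
      exact Finset.sum_congr rfl fun α hα => (ha α hα).symm
    exact_mod_cast this
  have hsq : ∑ α ∈ R χ, ‖Cfsg.classInner (τ₁ (χ - ψ)) α‖ ^ 2 = ((∑ α ∈ R χ, (a α) ^ 2 : ℤ) : ℝ) := by
    push_cast
    refine Finset.sum_congr rfl fun α hα => ?_
    rw [ha α hα, Complex.norm_intCast, sq_abs]
  have hnre : (Cfsg.classInner χ χ).re = (n : ℝ) := by
    rw [hn]; simp
  have hle : n ≤ ∑ α ∈ R χ, (a α) ^ 2 := by
    rw [← hsumZ]
    exact Finset.sum_le_sum fun α _ => int_le_sq (a α)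
  refine ⟨?_, ?_⟩
  · rw [hsq, hnre]
    exact_mod_cast hle
  · intro hbound
    have hnorm : Cfsg.classInner (τ₁ (χ - ψ)) (τ₁ (χ - ψ)) =
        Cfsg.classInner χ χ + Cfsg.classInner ψ ψ := by
      rw [hiso _ hm1 _ hm1, classInner_sub_left, classInner_sub_right, classInner_sub_right,
        h1, hψχ]
      ring
    rw [hnorm, Complex.add_re, hsq, hnre] at hbound
    have hge : ((∑ α ∈ R χ, (a α) ^ 2 : ℤ) : ℝ) ≤ (n : ℝ) := by linarith
    have hge' : ∑ α ∈ R χ, (a α) ^ 2 ≤ n := by exact_mod_cast hge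
    have heq : ∑ α ∈ R χ, (a α) ^ 2 = n := le_antisymm hge' hle
    refine ⟨?_, ?_⟩
    · rw [hsq, hnre, heq]
    · intro α hα
      have hterm : ∀ β ∈ R χ, (a β) ^ 2 = a β := by
        have h0 : ∑ β ∈ R χ, ((a β) ^ 2 - a β) = 0 := by
          rw [Finset.sum_sub_distrib, heq, hsumZ, sub_self]
        have := (Finset.sum_eq_zero_iff_of_nonneg
          (fun β _ => sub_nonneg.2 (int_le_sq (a β)))).1 h0
        intro β hβ
        have := this β hβ
        linarith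
      rcases int_sq_eq (a α) (hterm α hα) with h | h
      · left; rw [ha α hα, h]; simp
      · right; rw [ha α hα, h]; simp

end Cfsg.Agent.S1515
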