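import Mathlib
import Cfsg.Statements.S1517
import Cfsg.Agent.S1515
import Cfsg.Agent.Lib.Helper8.Proj
import Cfsg.Agent.Lib.Helper8.CharBound

set_option autoImplicit false
open Cfsg

namespace Cfsg.Agent.S1517

open Cfsg.Agent.Helper8 Cfsg.Agent.Helper24
open scoped ComplexConjugate

section general

variable {L : Type*} [Group L] [Fintype L] {G : Type*} [Group G] [Fintype G]

lemma lio_restrict {E E' : Set (L → ℂ)} {τ : (L → ℂ) → (G → ℂ)} (h : E' ⊆ E)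
    (hτ : Cfsg.IsLinearIsometryOn E τ) : Cfsg.IsLinearIsometryOn E' τ :=
  ⟨fun a ha b hb => hτ.1 a (h ha) b (h hb), fun a ha n => hτ.2.1 a (h ha) n,
    fun a ha b hb => hτ.2.2.1 a (h ha) b (h hb), fun a ha => hτ.2.2.2 a (h ha)⟩

omit [Fintype L] in
lemma conjFun_conjFun (a : L → ℂ) : Cfsg.conjFun (Cfsg.conjFun a) = a := by
  ext x; simp [Cfsg.conjFun]

omit [Group L] [Fintype L] in
lemma vanish_of_one [One L] {a : L → ℂ} (h1 : a 1 = 0) : ∀ x : L, x ∉ ({1}ᶜ : Set L) → a x = 0 := by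
  intro x hx
  have : x = 1 := by
    by_contra hne
    exact hx hne
  rw [this, h1]

end general

section main

variable {L : Type*} [Group L] [Fintype L] {G : Type*} [Group G] [Fintype G]
  {S : Set (L → ℂ)} {τ : (L → ℂ) → (G → ℂ)} {R : (L → ℂ) → Finset (G → ℂ)}
  (hS : Cfsg.IsCoherenceSystem S τ R) (hdeg : ∀ φ ∈ S, ∀ ψ ∈ S, φ 1 = ψ 1)

include hS hdeg

lemma sub_mem {φ ψ : L → ℂ} (hφ : φ ∈ S) (hψ : ψ ∈ S) : φ - ψ ∈ Cfsg.zspanOn S {1}ᶜ := by
  refine ⟨zspan_sub_mem (mem_zspan_of_mem hφ) (mem_zspan_of_mem hψ), vanish_of_one ?_⟩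
  rw [Pi.sub_apply, hdeg φ hφ ψ hψ, sub_self]

omit hdeg in
lemma zspanOn_add {a b : L → ℂ} (ha : a ∈ Cfsg.zspanOn S {1}ᶜ) (hb : b ∈ Cfsg.zspanOn S {1}ᶜ) :
    a + b ∈ Cfsg.zspanOn S {1}ᶜ :=
  ⟨zspan_add_mem ha.1 hb.1, fun x hx => by rw [Pi.add_apply, ha.2 x hx, hb.2 x hx, add_zero]⟩

omit hdeg in
lemma zspanOn_zsmul (n : ℤ) {a : L → ℂ} (ha : a ∈ Cfsg.zspanOn S {1}ᶜ) :
    n • a ∈ Cfsg.zspanOn S {1}ᶜ :=
  ⟨zspan_zsmul_mem n ha.1, fun x hx => by rw [Pi.smul_apply, ha.2 x hx, smul_zero]⟩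

omit hdeg in
lemma zspanOn_zero : (0 : L → ℂ) ∈ Cfsg.zspanOn S {1}ᶜ :=
  ⟨zspan_zero_mem S, fun _ _ => rfl⟩

omit hdeg in
lemma τ_zero : τ 0 = 0 := by
  have := hS.isometry.2.1 0 (zspanOn_zero hS) 0
  simpa using this

omit hdeg in
lemma τ_neg {a : L → ℂ} (ha : a ∈ Cfsg.zspanOn S {1}ᶜ) : τ (-a) = -τ a := by
  have := hS.isometry.2.1 a ha (-1)
  simpa using this

lemma pair_subset {φ ψ : L → ℂ} (hφ : φ ∈ S) (hψ : ψ ∈ S) :
    Cfsg.zspan {φ - ψ, φ - Cfsg.conjFun φ} ⊆ Cfsg.zspanOn S {1}ᶜ := by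
  intro a ha
  refine zspan_induction (p := fun a => a ∈ Cfsg.zspanOn S {1}ᶜ) ?_ (zspanOn_zero hS) ?_ ?_ ha
  · intro b hb
    simp only [Set.mem_insert_iff, Set.mem_singleton_iff] at hb
    rcases hb with rfl | rfl
    · exact sub_mem hS hdeg hφ hψ
    · exact sub_mem hS hdeg hφ (hS.conj_mem φ hφ)
  · intro x y _ _ hx hy
    exact zspanOn_add hS hx hy
  · intro n x _ hx
    exact zspanOn_zsmul hS n hx

/-- the key structural lemma -/
lemma lemmaP {φ ψ : L → ℂ} (hφ : φ ∈ S) (hψ : ψ ∈ S) (h1 : ψ ≠ φ) (h2 : ψ ≠ Cfsg.conjFun φ) :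
    τ (φ - ψ) = proj (R φ) (τ (φ - ψ)) + proj (R ψ) (τ (φ - ψ)) ∧
    ∑ α ∈ R φ, ‖Cfsg.classInner (τ (φ - ψ)) α‖ ^ 2 = (Cfsg.classInner φ φ).re ∧
    ∑ α ∈ R ψ, ‖Cfsg.classInner (τ (φ - ψ)) α‖ ^ 2 = (Cfsg.classInner ψ ψ).re := by
  have hφc := hS.conj_mem φ hφ
  have hψc := hS.conj_mem ψ hψ
  have o1 : Cfsg.classInner φ ψ = 0 := hS.orthogonal φ hφ ψ hψ (fun h => h1 h.symm)
  have o2 : Cfsg.classInner (Cfsg.conjFun φ) ψ = 0 :=
    hS.orthogonal _ hφc ψ hψ (fun h => h2 h.symm)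
  have o3 : Cfsg.classInner ψ φ = 0 := hS.orthogonal ψ hψ φ hφ h1
  have h3 : Cfsg.conjFun ψ ≠ φ := by
    intro h
    apply h2
    rw [← h, conjFun_conjFun]
  have o4 : Cfsg.classInner (Cfsg.conjFun ψ) φ = 0 := hS.orthogonal _ hψc φ hφ h3
  have o5 : Cfsg.classInner φ (Cfsg.conjFun ψ) = 0 :=
    hS.orthogonal φ hφ _ hψc (fun h => h3 h.symm)
  set X := τ (φ - ψ) with hX
  have r1 := (S1515.result S τ R hS φ hφ ψ (mem_zspan_of_mem hψ) o1 o2 τ
    (lio_restrict (pair_subset hS hdeg hφ hψ) hS.isometry) (fun n => rfl)).1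
  have r2 := (S1515.result S τ R hS ψ hψ φ (mem_zspan_of_mem hφ) o3 o4 τ
    (lio_restrict (pair_subset hS hdeg hψ hφ) hS.isometry) (fun n => rfl)).1
  have hneg : τ (ψ - φ) = -X := by
    rw [hX, ← τ_neg hS (sub_mem hS hdeg hφ hψ), neg_sub]
  rw [hneg] at r2
  have r2' : (Cfsg.classInner ψ ψ).re ≤ ∑ α ∈ R ψ, ‖Cfsg.classInner X α‖ ^ 2 := by
    refine le_trans r2 (le_of_eq ?_)
    refine Finset.sum_congr rfl fun α _ => ?_
    rw [classInner_neg_left, norm_neg]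
  have hnormX : (Cfsg.classInner X X).re = (Cfsg.classInner φ φ).re + (Cfsg.classInner ψ ψ).re := by
    rw [hX, hS.isometry.2.2.1 _ (sub_mem hS hdeg hφ hψ) _ (sub_mem hS hdeg hφ hψ),
      classInner_sub_left, classInner_sub_right, classInner_sub_right, o1, o3]
    simp
  have hb := bessel_two (hS.orthonormal φ hφ) (hS.orthonormal ψ hψ)
    (hS.disjoint ψ hψ φ hφ o1 o5) X
  have hres := classInner_self_re_nonneg (X - proj (R φ) X - proj (R ψ) X)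
  rw [hb, hnormX] at hres
  have e1 : ∑ α ∈ R φ, ‖Cfsg.classInner X α‖ ^ 2 = (Cfsg.classInner φ φ).re := by linarith
  have e2 : ∑ α ∈ R ψ, ‖Cfsg.classInner X α‖ ^ 2 = (Cfsg.classInner ψ ψ).re := by linarith
  refine ⟨?_, e1, e2⟩
  have hzero : (Cfsg.classInner (X - proj (R φ) X - proj (R ψ) X)
      (X - proj (R φ) X - proj (R ψ) X)).re = 0 := by
    rw [hb, hnormX, e1, e2]; ring
  have := classInner_self_eq_zero_of_re hzero
  rw [sub_sub] at this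
  exact sub_eq_zero.1 this

omit hS hdeg [Fintype L] [Group L] in
/-- inner product of the sum of an orthonormal family with the sum of a subfamily -/
lemma inner_sum_sub {F B : Finset (G → ℂ)}
    (ho : ∀ α ∈ F, ∀ β ∈ F, Cfsg.classInner α β = if α = β then 1 else 0) (hB : B ⊆ F) :
    Cfsg.classInner (∑ α ∈ F, α) (∑ β ∈ B, β) = (B.card : ℂ) := by
  classical
  rw [Helper24.classInner_sum_right]
  have : ∀ β ∈ B, Cfsg.classInner (∑ α ∈ F, α) β = 1 := by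
    intro β hβ
    rw [Helper24.classInner_sum_left, Finset.sum_eq_single β]
    · rw [ho β (hB hβ) β (hB hβ), if_pos rfl]
    · intro α hα hne
      rw [ho α hα β (hB hβ), if_neg hne]
    · intro h; exact absurd (hB hβ) h
  rw [Finset.sum_congr rfl this]
  simp

/-- the image of `χ₁` under the extended isometry -/
lemma exists_Y {χ₁ : L → ℂ} (h₁ : χ₁ ∈ S) :
    ∃ Y : G → ℂ, Cfsg.IsGeneralizedCharacter G Y ∧
      Cfsg.classInner Y Y = Cfsg.classInner χ₁ χ₁ ∧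
      ∀ χ ∈ S, χ ≠ χ₁ → Cfsg.classInner (τ (χ - χ₁)) Y = -Cfsg.classInner χ₁ χ₁ := by
  classical
  letI : Fintype (Cfsg.IrrCharacter L) := irrFintype
  obtain ⟨n₁, hn₁⟩ := classInner_char_nat (hS.isCharacter χ₁ h₁) (hS.isCharacter χ₁ h₁)
  set c₁ := Cfsg.conjFun χ₁ with hc₁
  have hc₁S : c₁ ∈ S := hS.conj_mem χ₁ h₁
  have hc₁ne : c₁ ≠ χ₁ := hS.conj_ne χ₁ h₁
  have o1 : Cfsg.classInner χ₁ c₁ = 0 := hS.orthogonal χ₁ h₁ c₁ hc₁S (fun h => hc₁ne h.symm)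
  have o2 : Cfsg.classInner c₁ χ₁ = 0 := hS.orthogonal c₁ hc₁S χ₁ h₁ hc₁ne
  have nc : Cfsg.classInner c₁ c₁ = n₁ := by
    rw [hc₁, classInner_conjFun_conjFun, hn₁, Complex.conj_natCast]
  have hsum : τ (χ₁ - c₁) = ∑ β ∈ R χ₁, β := hS.sum_eq χ₁ h₁
  have hneg : τ (c₁ - χ₁) = -∑ β ∈ R χ₁, β := by
    rw [← hsum, ← τ_neg hS (sub_mem hS hdeg h₁ hc₁S), neg_sub]
  by_cases hex : ∃ χ₂ ∈ S, χ₂ ≠ χ₁ ∧ χ₂ ≠ c₁
  · obtain ⟨χ₂, h₂, h21, h2c⟩ := hex
    have h12' : χ₁ ≠ Cfsg.conjFun χ₂ := by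
      intro h
      apply h2c
      rw [hc₁, h, conjFun_conjFun]
    obtain ⟨-, -, hP3⟩ := lemmaP hS hdeg h₂ h₁ (fun h => h21 h.symm) h12'
    set X₂ := τ (χ₂ - χ₁) with hX₂
    have o21 : Cfsg.classInner χ₂ χ₁ = 0 := hS.orthogonal χ₂ h₂ χ₁ h₁ h21
    have o2c : Cfsg.classInner χ₂ c₁ = 0 := hS.orthogonal χ₂ h₂ c₁ hc₁S h2c
    have gX₂ : Cfsg.IsGeneralizedCharacter G X₂ := hS.isometry.2.2.2 _ (sub_mem hS hdeg h₂ h₁)
    refine ⟨-proj (R χ₁) X₂, ?_, ?_, ?_⟩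
    · apply isGen_neg
      unfold proj
      refine isGen_sum _ _ fun β hβ => ?_
      obtain ⟨k, hk⟩ := genChar_inner_genChar_int gX₂ (hS.virtual χ₁ h₁ β hβ)
      have : Cfsg.classInner X₂ β • β = k • β := by
        rw [hk]; ext x; simp
      rw [this]
      exact isGen_zsmul k (hS.virtual χ₁ h₁ β hβ)
    · rw [classInner_neg_left, classInner_neg_right, neg_neg,
        classInner_proj_proj (hS.orthonormal χ₁ h₁), hP3, hn₁]
      simp
    · intro χ hχ hχ1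
      by_cases hχc : χ = c₁
      · rw [hχc, hneg, classInner_neg_left, classInner_neg_right, neg_neg,
          ← Helper24.classInner_conj_symm, Helper24.classInner_sum_right,
          Finset.sum_congr rfl (fun β hβ => classInner_proj_of_mem (hS.orthonormal χ₁ h₁) X₂ hβ),
          ← Helper24.classInner_sum_right, ← hsum, hX₂,
          hS.isometry.2.2.1 _ (sub_mem hS hdeg h₂ h₁) _ (sub_mem hS hdeg h₁ hc₁S),
          classInner_sub_left, classInner_sub_right, classInner_sub_right, o21, o2c, o1, hn₁]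
        simp
      · -- `χ ∉ {χ₁, c₁}`
        have hsplit : τ (χ - χ₁) = X₂ + τ (χ - χ₂) := by
          rw [hX₂, ← hS.isometry.1 _ (sub_mem hS hdeg h₂ h₁) _ (sub_mem hS hdeg hχ h₂)]
          congr 1
          abel
        have oχ1 : Cfsg.classInner χ χ₁ = 0 := hS.orthogonal χ hχ χ₁ h₁ hχ1
        have oχc : Cfsg.classInner χ c₁ = 0 := hS.orthogonal χ hχ c₁ hc₁S hχc
        have hd2 : ∀ α ∈ R χ₂, ∀ β ∈ R χ₁, Cfsg.classInner α β = 0 :=
          hS.disjoint χ₁ h₁ χ₂ h₂ o21 o2c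
        have hdχ : ∀ α ∈ R χ, ∀ β ∈ R χ₁, Cfsg.classInner α β = 0 :=
          hS.disjoint χ₁ h₁ χ hχ oχ1 oχc
        -- `τ (χ - χ₂)` is orthogonal to `R χ₁`
        have horth : ∀ β ∈ R χ₁, Cfsg.classInner (τ (χ - χ₂)) β = 0 := by
          intro β hβ
          by_cases e1 : χ = χ₂
          · rw [e1, sub_self, τ_zero hS, Helper24.classInner_zero_left]
          by_cases e2 : χ = Cfsg.conjFun χ₂
          · have : τ (χ - χ₂) = -∑ α ∈ R χ₂, α := by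
              rw [← hS.sum_eq χ₂ h₂, ← τ_neg hS (sub_mem hS hdeg h₂ (hS.conj_mem χ₂ h₂)), neg_sub,
                e2]
            rw [this, classInner_neg_left, Helper24.classInner_sum_left,
              Finset.sum_eq_zero (fun α hα => hd2 α hα β hβ), neg_zero]
          · have e2' : χ₂ ≠ Cfsg.conjFun χ := by
              intro h
              apply e2
              rw [h, conjFun_conjFun]
            obtain ⟨hP1, -, -⟩ := lemmaP hS hdeg hχ h₂ (fun h => e1 h.symm) e2'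
            rw [hP1, Helper24.classInner_add_left,
              classInner_proj_of_orth _ (fun α hα => hdχ α hα β hβ),
              classInner_proj_of_orth _ (fun α hα => hd2 α hα β hβ), add_zero]
        rw [hsplit, Helper24.classInner_add_left, classInner_neg_right, classInner_neg_right,
          classInner_self_proj, hP3, classInner_proj_right,
          Finset.sum_eq_zero (fun β hβ => by rw [horth β hβ, mul_zero]), hn₁]
        simp
  · -- `S = {χ₁, c₁}`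
    push Not at hex
    have hcard : ((R χ₁).card : ℂ) = (n₁ : ℂ) + n₁ := by
      rw [← inner_sum_sub (hS.orthonormal χ₁ h₁) (Finset.Subset.refl _), ← hsum,
        hS.isometry.2.2.1 _ (sub_mem hS hdeg h₁ hc₁S) _ (sub_mem hS hdeg h₁ hc₁S),
        classInner_sub_left, classInner_sub_right, classInner_sub_right, o1, o2, hn₁, nc]
      ring
    have hcard' : (R χ₁).card = n₁ + n₁ := by exact_mod_cast hcard
    obtain ⟨B, hBR, hBcard⟩ := Finset.exists_subset_card_eq (show n₁ ≤ (R χ₁).card by omega)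
    have hoB : ∀ α ∈ B, ∀ β ∈ B, Cfsg.classInner α β = if α = β then 1 else 0 :=
      fun α hα β hβ => hS.orthonormal χ₁ h₁ α (hBR hα) β (hBR hβ)
    refine ⟨∑ β ∈ B, β, ?_, ?_, ?_⟩
    · exact isGen_sum _ _ fun β hβ => hS.virtual χ₁ h₁ β (hBR hβ)
    · rw [inner_sum_sub hoB (Finset.Subset.refl _), hBcard, hn₁]
    · intro χ hχ hχ1
      have hχc : χ = c₁ := by
        by_contra hne
        exact hne (hex χ hχ hχ1)
      rw [hχc, hneg, classInner_neg_left, inner_sum_sub (hS.orthonormal χ₁ h₁) hBR, hBcard, hn₁]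

omit hdeg in
lemma deg_ne_zero {χ₁ : L → ℂ} (h₁ : χ₁ ∈ S) : χ₁ 1 ≠ 0 := by
  obtain ⟨n, hn, hle, -⟩ := char_bound (hS.isCharacter χ₁ h₁)
  intro h0
  rw [hn] at h0
  have hn0 : n = 0 := by exact_mod_cast h0
  apply hS.conj_ne χ₁ h₁
  have hz : χ₁ = 0 := by
    ext g
    have := hle g
    rw [hn0] at this
    simpa using this
  rw [hz]
  ext g
  simp [Cfsg.conjFun]

lemma deg_exists {χ₁ : L → ℂ} (h₁ : χ₁ ∈ S) {θ : L → ℂ} (hθ : θ ∈ Cfsg.zspan S) :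
    ∃ m : ℤ, θ 1 = (m : ℂ) * χ₁ 1 := by
  refine zspan_induction (p := fun θ => ∃ m : ℤ, θ 1 = (m : ℂ) * χ₁ 1) ?_ ⟨0, by simp⟩ ?_ ?_ hθ
  · intro φ hφ
    exact ⟨1, by rw [hdeg φ hφ χ₁ h₁]; simp⟩
  · rintro a b _ _ ⟨ma, hma⟩ ⟨mb, hmb⟩
    exact ⟨ma + mb, by rw [Pi.add_apply, hma, hmb]; push_cast; ring⟩
  · rintro n a _ ⟨ma, hma⟩
    exact ⟨n * ma, by rw [Pi.smul_apply, hma, zsmul_eq_mul]; push_cast; ring⟩

omit hdeg in
lemma deg_unique {χ₁ : L → ℂ} (h₁ : χ₁ ∈ S) {m k : ℤ} (h : (m : ℂ) * χ₁ 1 = (k : ℂ) * χ₁ 1) :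
    m = k := by
  have := mul_right_cancel₀ (deg_ne_zero hS h₁) h
  exact_mod_cast this

omit hdeg in
lemma shift_mem {χ₁ : L → ℂ} (h₁ : χ₁ ∈ S) {θ : L → ℂ} (hθ : θ ∈ Cfsg.zspan S) {m : ℤ}
    (hm : θ 1 = (m : ℂ) * χ₁ 1) : θ - m • χ₁ ∈ Cfsg.zspanOn S {1}ᶜ := by
  refine ⟨zspan_sub_mem hθ (zspan_zsmul_mem m (mem_zspan_of_mem h₁)), vanish_of_one ?_⟩
  rw [Pi.sub_apply, Pi.smul_apply, hm, zsmul_eq_mul, sub_self]

/-- `Y` behaves like the image of `χ₁` -/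
lemma lemmaK {χ₁ : L → ℂ} (h₁ : χ₁ ∈ S) {Y : G → ℂ}
    (hY : ∀ χ ∈ S, χ ≠ χ₁ → Cfsg.classInner (τ (χ - χ₁)) Y = -Cfsg.classInner χ₁ χ₁)
    {θ : L → ℂ} (hθ : θ ∈ Cfsg.zspan S) :
    ∀ m : ℤ, θ 1 = (m : ℂ) * χ₁ 1 →
      Cfsg.classInner (τ (θ - m • χ₁)) Y = Cfsg.classInner (θ - m • χ₁) χ₁ := by
  refine zspan_induction (p := fun θ => ∀ m : ℤ, θ 1 = (m : ℂ) * χ₁ 1 →
      Cfsg.classInner (τ (θ - m • χ₁)) Y = Cfsg.classInner (θ - m • χ₁) χ₁) ?_ ?_ ?_ ?_ hθ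
  · intro φ hφ m hm
    have hm1 : m = 1 := by
      apply deg_unique hS h₁
      rw [← hm, hdeg φ hφ χ₁ h₁]; simp
    subst hm1
    rw [one_smul]
    by_cases hφ1 : φ = χ₁
    · rw [hφ1, sub_self, τ_zero hS, Helper24.classInner_zero_left, Helper24.classInner_zero_left]
    · rw [hY φ hφ hφ1, classInner_sub_left, hS.orthogonal φ hφ χ₁ h₁ hφ1, zero_sub]
  · intro m hm
    have hm0 : m = 0 := by
      apply deg_unique hS h₁
      rw [← hm]; simp
    subst hm0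
    rw [zero_smul, sub_zero, τ_zero hS, Helper24.classInner_zero_left,
      Helper24.classInner_zero_left]
  · intro a b ha hb Pa Pb m hm
    obtain ⟨ma, hma⟩ := deg_exists hS hdeg h₁ ha
    obtain ⟨mb, hmb⟩ := deg_exists hS hdeg h₁ hb
    have hmab : m = ma + mb := by
      apply deg_unique hS h₁
      rw [← hm, Pi.add_apply, hma, hmb]; push_cast; ring
    subst hmab
    have hsplit : a + b - (ma + mb) • χ₁ = (a - ma • χ₁) + (b - mb • χ₁) := by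
      rw [add_smul]; abel
    rw [hsplit, hS.isometry.1 _ (shift_mem hS h₁ ha hma) _ (shift_mem hS h₁ hb hmb),
      Helper24.classInner_add_left, Helper24.classInner_add_left, Pa ma hma, Pb mb hmb]
  · intro n a ha Pa m hm
    obtain ⟨ma, hma⟩ := deg_exists hS hdeg h₁ ha
    have hmn : m = n * ma := by
      apply deg_unique hS h₁
      rw [← hm, Pi.smul_apply, hma, zsmul_eq_mul]; push_cast; ring
    subst hmn
    have hsplit : n • a - (n * ma) • χ₁ = n • (a - ma • χ₁) := by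
      rw [smul_sub, mul_smul]
    rw [hsplit, hS.isometry.2.1 _ (shift_mem hS h₁ ha hma), classInner_zsmul_left,
      classInner_zsmul_left, Pa ma hma]

end main

/-- Let (S, τ, R) be a coherence system from L to G such that φ 1 = ψ 1 for all φ, ψ ∈ S. Then (S, L minus 1, τ) is coherent. -/
theorem result {L : Type*} [Group L] [Fintype L] {G : Type*} [Group G] [Fintype G] (S : Set (L → ℂ)) (τ : (L → ℂ) → (G → ℂ)) (R : (L → ℂ) → Finset (G → ℂ)) (hS : Cfsg.IsCoherenceSystem S τ R) (hdeg : ∀ φ ∈ S, ∀ ψ ∈ S, φ 1 = ψ 1) : Cfsg.IsCoherent S {1}ᶜ τ := by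
  classical
  obtain ⟨χ₁, h₁⟩ := hS.nonempty
  have hc₁S := hS.conj_mem χ₁ h₁
  have hc₁ne := hS.conj_ne χ₁ h₁
  obtain ⟨Y, hYgen, hYnorm, hYprop⟩ := exists_Y hS hdeg h₁
  have hK := fun {θ : L → ℂ} (hθ : θ ∈ Cfsg.zspan S) => lemmaK hS hdeg h₁ hYprop hθ
  refine ⟨⟨χ₁ - Cfsg.conjFun χ₁, sub_mem hS hdeg h₁ hc₁S, ?_⟩, ?_⟩
  · intro h0
    exact hc₁ne (sub_eq_zero.1 h0).symm
  -- the degree function
  let m : (L → ℂ) → ℤ := fun θ =>
    if h : ∃ k : ℤ, θ 1 = (k : ℂ) * χ₁ 1 then Classical.choose h else 0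
  have hm_spec : ∀ {θ : L → ℂ}, θ ∈ Cfsg.zspan S → θ 1 = (m θ : ℂ) * χ₁ 1 := by
    intro θ hθ
    have h := deg_exists hS hdeg h₁ hθ
    simp only [m, dif_pos h]
    exact Classical.choose_spec h
  have hm_unique : ∀ {θ : L → ℂ} {k : ℤ}, θ ∈ Cfsg.zspan S → θ 1 = (k : ℂ) * χ₁ 1 → m θ = k := by
    intro θ k hθ hk
    apply deg_unique hS h₁
    rw [← hm_spec hθ, hk]
  have hsh : ∀ {θ : L → ℂ}, θ ∈ Cfsg.zspan S → θ - m θ • χ₁ ∈ Cfsg.zspanOn S {1}ᶜ :=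
    fun hθ => shift_mem hS h₁ hθ (hm_spec hθ)
  let τ₁ : (L → ℂ) → (G → ℂ) := fun θ => τ (θ - m θ • χ₁) + m θ • Y
  refine ⟨τ₁, ⟨?_, ?_, ?_, ?_⟩, ?_⟩
  · intro a ha b hb
    have hmab : m (a + b) = m a + m b := by
      apply hm_unique (zspan_add_mem ha hb)
      rw [Pi.add_apply, hm_spec ha, hm_spec hb]; push_cast; ring
    simp only [τ₁]
    rw [hmab]
    have hsplit : a + b - (m a + m b) • χ₁ = (a - m a • χ₁) + (b - m b • χ₁) := by
      rw [add_smul]; abel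
    rw [hsplit, hS.isometry.1 _ (hsh ha) _ (hsh hb), add_smul]
    abel
  · intro a ha n
    have hmn : m (n • a) = n * m a := by
      apply hm_unique (zspan_zsmul_mem n ha)
      rw [Pi.smul_apply, hm_spec ha, zsmul_eq_mul]; push_cast; ring
    simp only [τ₁]
    rw [hmn]
    have hsplit : n • a - (n * m a) • χ₁ = n • (a - m a • χ₁) := by
      rw [smul_sub, mul_smul]
    rw [hsplit, hS.isometry.2.1 _ (hsh ha), smul_add, mul_smul]
  · intro a ha b hb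
    simp only [τ₁]
    have ea : a = (a - m a • χ₁) + m a • χ₁ := by abel
    have eb : b = (b - m b • χ₁) + m b • χ₁ := by abel
    set a' := a - m a • χ₁ with ha'
    set b' := b - m b • χ₁ with hb'
    have hKa := hK ha (m a) (hm_spec ha)
    have hKb := hK hb (m b) (hm_spec hb)
    rw [← ha'] at hKa
    rw [← hb'] at hKb
    have hYb : Cfsg.classInner Y (τ b') = Cfsg.classInner χ₁ b' := by
      rw [← Helper24.classInner_conj_symm, hKb, Helper24.classInner_conj_symm]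
    conv_rhs => rw [ea, eb]
    simp only [Helper24.classInner_add_left, Helper24.classInner_add_right, classInner_zsmul_left,
      classInner_zsmul_right]
    rw [hS.isometry.2.2.1 _ (hsh ha) _ (hsh hb), hKa, hYb, hYnorm]
  · intro a ha
    exact isGen_add (hS.isometry.2.2.2 _ (hsh ha)) (isGen_zsmul _ hYgen)
  · rintro θ ⟨hθ, hθv⟩
    have h0 : m θ = 0 := by
      apply hm_unique hθ
      rw [hθv 1 (by simp)]; simp
    simp only [τ₁]
    rw [h0, zero_smul, zero_smul, sub_zero, add_zero]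

end Cfsg.Agent.S1517
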