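import Mathlib
import Cfsg.Statements.S1516
import Cfsg.Agent.Lib.Helper8.Coherence
import Cfsg.Agent.Lib.Helper8.CharExtra
import Cfsg.Agent.Lib.Helper8.Proj
import Cfsg.Agent.S1517

set_option autoImplicit false
open Cfsg

namespace Cfsg.Agent.S1516

open Cfsg.Agent.Helper8 Cfsg.Agent.Helper24
open scoped ComplexConjugate

section general

variable {G : Type*} [Group G] [Fintype G]

/-- Bessel for one orthonormal family -/
lemma bessel_one {F : Finset (G → ℂ)}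
    (ho : ∀ α ∈ F, ∀ β ∈ F, Cfsg.classInner α β = if α = β then 1 else 0) (Z : G → ℂ) :
    (Cfsg.classInner (Z - proj F Z) (Z - proj F Z)).re =
      (Cfsg.classInner Z Z).re - ∑ α ∈ F, ‖Cfsg.classInner Z α‖ ^ 2 := by
  have := bessel_two ho (F₂ := ∅) (by simp) (by simp) Z
  simpa [proj] using this

lemma int_le_sq (z : ℤ) : z ≤ z ^ 2 := by
  rcases le_or_gt z 0 with h | h <;> nlinarith

lemma int_sum_le {F : Finset (G → ℂ)} (Z : G → ℂ) (z : (G → ℂ) → ℤ)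
    (hz : ∀ α ∈ F, Cfsg.classInner Z α = z α) :
    ((∑ α ∈ F, z α : ℤ) : ℝ) ≤ ∑ α ∈ F, ‖Cfsg.classInner Z α‖ ^ 2 := by
  push_cast
  refine Finset.sum_le_sum fun α hα => ?_
  rw [hz α hα]
  have h1 : ‖((z α : ℤ) : ℂ)‖ = |(z α : ℝ)| := by
    rw [← Complex.ofReal_intCast, Complex.norm_real, Real.norm_eq_abs]
  rw [h1, sq_abs]
  have h := int_le_sq (z α)
  exact_mod_cast h

end general

section sys

variable {L : Type*} [Group L] [Fintype L] {G : Type*} [Group G] [Fintype G]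
  {S : Set (L → ℂ)} {τ : (L → ℂ) → (G → ℂ)} {R : (L → ℂ) → Finset (G → ℂ)}
  (hS : Cfsg.IsCoherenceSystem S τ R)

include hS

lemma conj_one {φ : L → ℂ} (hφ : φ ∈ S) : (Cfsg.conjFun φ) 1 = φ 1 := by
  obtain ⟨n, hn⟩ := char_one_eq (hS.isCharacter φ hφ)
  simp only [Cfsg.conjFun, hn]
  simp

lemma sub_conj_mem {φ : L → ℂ} (hφ : φ ∈ S) : φ - Cfsg.conjFun φ ∈ Cfsg.zspanOn S {1}ᶜ := by
  refine ⟨zspan_sub_mem (mem_zspan_of_mem hφ) (mem_zspan_of_mem (hS.conj_mem φ hφ)),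
    S1517.vanish_of_one ?_⟩
  rw [Pi.sub_apply, conj_one hS hφ, sub_self]

lemma orth_conj {φ : L → ℂ} (hφ : φ ∈ S) : Cfsg.classInner φ (Cfsg.conjFun φ) = 0 :=
  hS.orthogonal φ hφ _ (hS.conj_mem φ hφ) (fun h => hS.conj_ne φ hφ h.symm)

lemma orth_conj' {φ : L → ℂ} (hφ : φ ∈ S) : Cfsg.classInner (Cfsg.conjFun φ) φ = 0 :=
  hS.orthogonal _ (hS.conj_mem φ hφ) φ hφ (hS.conj_ne φ hφ)

variable {S₁ : Finset (L → ℂ)} (hS₁ : (↑S₁ : Set (L → ℂ)) ⊆ S)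
  (hS₁c : ∀ φ ∈ S₁, Cfsg.conjFun φ ∈ S₁)
  {τ₁ : (L → ℂ) → (G → ℂ)} (hτ₁ : Cfsg.IsLinearIsometryOn (Cfsg.zspan (↑S₁ : Set (L → ℂ))) τ₁)
  (hτ₁τ : ∀ α ∈ Cfsg.zspanOn (↑S₁ : Set (L → ℂ)) {1}ᶜ, τ₁ α = τ α)

include hS₁ hS₁c hτ₁ hτ₁τ

/-- the image of a member of `S₁` lies in the span of its `R`-set -/
lemma tau1_eq_proj {φ : L → ℂ} (hφ : φ ∈ S₁) : τ₁ φ = proj (R φ) (τ₁ φ) := by
  have hφS := hS₁ hφ
  have hφc := hS₁c φ hφ
  have mφ : φ ∈ Cfsg.zspan (↑S₁ : Set (L → ℂ)) := mem_zspan_of_mem hφ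
  have mφc : Cfsg.conjFun φ ∈ Cfsg.zspan (↑S₁ : Set (L → ℂ)) := mem_zspan_of_mem hφc
  have gZ := lio_gen hτ₁ mφ
  have hz : ∀ α ∈ R φ, ∃ z : ℤ, Cfsg.classInner (τ₁ φ) α = z :=
    fun α hα => genChar_inner_genChar_int gZ (hS.virtual φ hφS α hα)
  choose! z hz using hz
  have hsub : φ - Cfsg.conjFun φ ∈ Cfsg.zspanOn (↑S₁ : Set (L → ℂ)) {1}ᶜ :=
    ⟨zspan_sub_mem mφ mφc, S1517.vanish_of_one (by rw [Pi.sub_apply, conj_one hS hφS, sub_self])⟩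
  have hsum : ((∑ α ∈ R φ, z α : ℤ) : ℂ) = Cfsg.classInner φ φ := by
    push_cast
    rw [← Finset.sum_congr rfl hz, ← Helper24.classInner_sum_right, ← hS.sum_eq φ hφS,
      ← hτ₁τ _ hsub, lio_inner hτ₁ mφ (zspan_sub_mem mφ mφc), classInner_sub_right,
      orth_conj hS hφS, sub_zero]
  have hZZ : Cfsg.classInner (τ₁ φ) (τ₁ φ) = Cfsg.classInner φ φ := lio_inner hτ₁ mφ mφ
  have hb := bessel_one (hS.orthonormal φ hφS) (τ₁ φ)
  have hle := int_sum_le (F := R φ) (τ₁ φ) z hz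
  have hnn := classInner_self_re_nonneg (τ₁ φ - proj (R φ) (τ₁ φ))
  have hre : (Cfsg.classInner φ φ).re = ((∑ α ∈ R φ, z α : ℤ) : ℝ) := by
    rw [← hsum]; simp
  have h0 : (Cfsg.classInner (τ₁ φ - proj (R φ) (τ₁ φ)) (τ₁ φ - proj (R φ) (τ₁ φ))).re = 0 := by
    rw [hb, hZZ, hre] at hnn
    rw [hb, hZZ, hre]
    linarith
  have := classInner_self_eq_zero_of_re h0
  exact sub_eq_zero.1 this

/-- images of members of `S₁` are orthogonal to the `R`-sets of members outside `S₁` -/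
lemma tau1_orth_R {φ χ : L → ℂ} (hφ : φ ∈ S₁) (hχ : χ ∈ S) (h1 : Cfsg.classInner φ χ = 0)
    (h2 : Cfsg.classInner φ (Cfsg.conjFun χ) = 0) {β : G → ℂ} (hβ : β ∈ R χ) :
    Cfsg.classInner (τ₁ φ) β = 0 := by
  rw [tau1_eq_proj hS hS₁ hS₁c hτ₁ hτ₁τ hφ]
  apply classInner_proj_of_orth
  intro α hα
  exact hS.disjoint χ hχ φ (hS₁ hφ) h1 h2 α hα β hβ

end sys

section mainsec

variable {L : Type*} [Group L] [Fintype L] {G : Type*} [Group G] [Fintype G]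
  {S : Set (L → ℂ)} {τ : (L → ℂ) → (G → ℂ)} {R : (L → ℂ) → Finset (G → ℂ)}
  (hS : Cfsg.IsCoherenceSystem S τ R) (d n : (L → ℂ) → ℕ) (hd : ∀ φ ∈ S, φ 1 = (d φ : ℂ))
  (hn : ∀ φ ∈ S, Cfsg.classInner φ φ = (n φ : ℂ))

include hS hd in
lemma dpos {φ : L → ℂ} (hφ : φ ∈ S) : 0 < d φ := by
  have h := S1517.deg_ne_zero hS hφ
  rw [hd φ hφ] at h
  have : d φ ≠ 0 := by
    rintro h0
    rw [h0] at h
    exact h (by simp)
  omega

include hS hd hn in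
lemma npos {φ : L → ℂ} (hφ : φ ∈ S) : 0 < n φ := by
  rcases Nat.eq_zero_or_pos (n φ) with h | h
  · exfalso
    have h0 := hn φ hφ
    rw [h] at h0
    have hz := Helper24.classInner_self_eq_zero (by simpa using h0)
    apply S1517.deg_ne_zero hS hφ
    rw [hz]; rfl
  · exact h

include hS hd in
lemma d_conj {φ : L → ℂ} (hφ : φ ∈ S) : d (Cfsg.conjFun φ) = d φ := by
  have h1 := hd _ (hS.conj_mem φ hφ)
  rw [conj_one hS hφ, hd φ hφ] at h1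
  exact_mod_cast h1.symm

include hS hn in
lemma n_conj {φ : L → ℂ} (hφ : φ ∈ S) : n (Cfsg.conjFun φ) = n φ := by
  have h1 := hn _ (hS.conj_mem φ hφ)
  rw [classInner_conjFun_conjFun, hn φ hφ] at h1
  simp only [map_natCast] at h1
  exact_mod_cast h1.symm

variable {S₁ : Finset (L → ℂ)} (hS₁ : (↑S₁ : Set (L → ℂ)) ⊆ S)
  (hS₁c : ∀ φ ∈ S₁, Cfsg.conjFun φ ∈ S₁)
  {τ₁ : (L → ℂ) → (G → ℂ)} (hτ₁ : Cfsg.IsLinearIsometryOn (Cfsg.zspan (↑S₁ : Set (L → ℂ))) τ₁)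
  (hτ₁τ : ∀ α ∈ Cfsg.zspanOn (↑S₁ : Set (L → ℂ)) {1}ᶜ, τ₁ α = τ α)

include hS hd hn hS₁ hS₁c hτ₁ hτ₁τ

/-- the candidate image of `χ` is orthogonal to the images of `S₁` and has the right norm -/
lemma main_aux {χ χ₁ : L → ℂ} (hχ : χ ∈ S) (hχ₁ : χ ∉ S₁) (hχ₂ : Cfsg.conjFun χ ∉ S₁)
    (hχ₁S : χ₁ ∈ S₁) {a : ℕ} (ha : d χ = d χ₁ * a)
    (hineq : (2 * d χ * d χ₁ : ℝ) < ∑ φ ∈ S₁, ((d φ : ℝ) ^ 2 / (n φ : ℝ))) :
    Cfsg.IsGeneralizedCharacter G (τ (χ - (a : ℤ) • χ₁) + (a : ℤ) • τ₁ χ₁) ∧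
    (∀ φ ∈ S₁, Cfsg.classInner (τ (χ - (a : ℤ) • χ₁) + (a : ℤ) • τ₁ χ₁) (τ₁ φ) = 0) ∧
    Cfsg.classInner (τ (χ - (a : ℤ) • χ₁) + (a : ℤ) • τ₁ χ₁)
      (τ (χ - (a : ℤ) • χ₁) + (a : ℤ) • τ₁ χ₁) = n χ := by
  classical
  have hχ₁SS := hS₁ hχ₁S
  have hdχ := hd χ hχ
  have hdχ₁ := hd χ₁ hχ₁SS
  have hdχpos := dpos hS d hd hχ
  have hdχ₁pos := dpos hS d hd hχ₁SS
  have hapos : 0 < a := by
    rcases Nat.eq_zero_or_pos a with h | h
    · rw [h, mul_zero] at ha; omega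
    · exact h
  -- orthogonality
  have oχφ : ∀ φ ∈ S₁, Cfsg.classInner χ φ = 0 := fun φ hφ =>
    hS.orthogonal χ hχ φ (hS₁ hφ) (by rintro rfl; exact hχ₁ hφ)
  have oφχ : ∀ φ ∈ S₁, Cfsg.classInner φ χ = 0 := fun φ hφ =>
    hS.orthogonal φ (hS₁ hφ) χ hχ (by rintro rfl; exact hχ₁ hφ)
  have oφχc : ∀ φ ∈ S₁, Cfsg.classInner φ (Cfsg.conjFun χ) = 0 := fun φ hφ =>
    hS.orthogonal φ (hS₁ hφ) _ (hS.conj_mem χ hχ) (by rintro rfl; exact hχ₂ hφ)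
  have oφφ : ∀ φ ∈ S₁, ∀ η ∈ S₁, Cfsg.classInner φ η = if φ = η then (n φ : ℂ) else 0 := by
    intro φ hφ η hη
    split_ifs with h
    · subst h; exact hn φ (hS₁ hφ)
    · exact hS.orthogonal φ (hS₁ hφ) η (hS₁ hη) h
  have mφ : ∀ φ ∈ S₁, φ ∈ Cfsg.zspan (↑S₁ : Set (L → ℂ)) := fun φ hφ => mem_zspan_of_mem hφ
  have oσ : ∀ φ ∈ S₁, ∀ η ∈ S₁,
      Cfsg.classInner (τ₁ φ) (τ₁ η) = if φ = η then (n φ : ℂ) else 0 := by
    intro φ hφ η hη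
    rw [lio_inner hτ₁ (mφ φ hφ) (mφ η hη), oφφ φ hφ η hη]
  have gσ : ∀ φ ∈ S₁, Cfsg.IsGeneralizedCharacter G (τ₁ φ) := fun φ hφ => lio_gen hτ₁ (mφ φ hφ)
  -- the element `β`
  set β : L → ℂ := χ - (a : ℤ) • χ₁ with hβ
  have mχ : χ ∈ Cfsg.zspan S := mem_zspan_of_mem hχ
  have mχ₁ : χ₁ ∈ Cfsg.zspan S := mem_zspan_of_mem hχ₁SS
  have mχ₁' := mφ χ₁ hχ₁S
  have hβS : β ∈ Cfsg.zspan S := zspan_sub_mem mχ (zspan_zsmul_mem _ mχ₁)
  have hβ1 : β 1 = 0 := by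
    simp only [hβ, Pi.sub_apply, Pi.smul_apply, hdχ, hdχ₁, ha]
    simp; ring
  have hβZ : β ∈ Cfsg.zspanOn S {1}ᶜ := ⟨hβS, S1517.vanish_of_one hβ1⟩
  have hββ : Cfsg.classInner β β = (n χ : ℂ) + (a : ℂ) ^ 2 * n χ₁ := by
    rw [hβ, classInner_sub_left, classInner_sub_right, classInner_sub_right,
      classInner_zsmul_left, classInner_zsmul_left, classInner_zsmul_right,
      classInner_zsmul_right, hn χ hχ, oχφ χ₁ hχ₁S, oφχ χ₁ hχ₁S, hn χ₁ hχ₁SS]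
    push_cast; ring
  -- the candidate image of `χ`
  set Xc : G → ℂ := τ β + (a : ℤ) • τ₁ χ₁ with hXc
  have gτβ : Cfsg.IsGeneralizedCharacter G (τ β) := hS.isometry.2.2.2 β hβZ
  have gX : Cfsg.IsGeneralizedCharacter G Xc := isGen_add gτβ (isGen_zsmul _ (gσ χ₁ hχ₁S))
  have hm : ∀ φ ∈ S₁, ∃ m : ℤ, Cfsg.classInner Xc (τ₁ φ) = m :=
    fun φ hφ => genChar_inner_genChar_int gX (gσ φ hφ)
  choose! m hm using hm
  have hγ : ∀ φ ∈ S₁, (d χ₁ : ℂ) * Cfsg.classInner Xc (τ₁ φ) =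
      (d φ : ℂ) * Cfsg.classInner Xc (τ₁ χ₁) := by
    intro φ hφ
    set γ : L → ℂ := (d χ₁ : ℤ) • φ - (d φ : ℤ) • χ₁ with hγdef
    have hγ₀ : γ ∈ Cfsg.zspan (↑S₁ : Set (L → ℂ)) :=
      zspan_sub_mem (zspan_zsmul_mem _ (mφ φ hφ)) (zspan_zsmul_mem _ mχ₁')
    have hγ1 : γ 1 = 0 := by
      simp only [hγdef, Pi.sub_apply, Pi.smul_apply, hd φ (hS₁ hφ), hdχ₁]
      simp; ring
    have hγZ₀ : γ ∈ Cfsg.zspanOn (↑S₁ : Set (L → ℂ)) {1}ᶜ := ⟨hγ₀, S1517.vanish_of_one hγ1⟩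
    have hγZ : γ ∈ Cfsg.zspanOn S {1}ᶜ := ⟨zspan_mono hS₁ hγ₀, S1517.vanish_of_one hγ1⟩
    have hσγ : τ₁ γ = (d χ₁ : ℤ) • τ₁ φ - (d φ : ℤ) • τ₁ χ₁ := by
      rw [hγdef, lio_sub hτ₁ (zspan_zsmul_mem _ (mφ φ hφ)) (zspan_zsmul_mem _ mχ₁'),
        lio_zsmul hτ₁ (mφ φ hφ), lio_zsmul hτ₁ mχ₁']
    have hχγ : Cfsg.classInner χ γ = 0 := by
      rw [hγdef, classInner_sub_right, classInner_zsmul_right, classInner_zsmul_right,
        oχφ φ hφ, oχφ χ₁ hχ₁S]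
      ring
    have h0 : Cfsg.classInner Xc (τ₁ γ) = 0 := by
      have e1 : Cfsg.classInner (τ β) (τ₁ γ) = Cfsg.classInner β γ := by
        rw [hτ₁τ γ hγZ₀, hS.isometry.2.2.1 β hβZ γ hγZ]
      have e2 : Cfsg.classInner (τ₁ χ₁) (τ₁ γ) = Cfsg.classInner χ₁ γ := lio_inner hτ₁ mχ₁' hγ₀
      rw [hXc, Helper24.classInner_add_left, classInner_zsmul_left, e1, e2]
      have : Cfsg.classInner β γ + (a : ℤ) * Cfsg.classInner χ₁ γ = Cfsg.classInner χ γ := by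
        rw [hβ, classInner_sub_left, classInner_zsmul_left]; ring
      rw [this, hχγ]
    rw [hσγ, classInner_sub_right, classInner_zsmul_right, classInner_zsmul_right] at h0
    push_cast at h0
    linear_combination h0
  set k : ℤ := m χ₁ with hk
  have hrel : ∀ φ ∈ S₁, (d χ₁ : ℤ) * m φ = (d φ : ℤ) * k := by
    intro φ hφ
    have := hγ φ hφ
    rw [hm φ hφ, hm χ₁ hχ₁S] at this
    exact_mod_cast this
  -- the norm of `Xc`
  have hτβψ : Cfsg.classInner (τ β) (τ₁ χ₁) = (k : ℂ) - a * n χ₁ := by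
    have := hm χ₁ hχ₁S
    rw [hXc, Helper24.classInner_add_left, classInner_zsmul_left, oσ χ₁ hχ₁S χ₁ hχ₁S,
      if_pos rfl] at this
    push_cast at this
    linear_combination this
  have hψτβ : Cfsg.classInner (τ₁ χ₁) (τ β) = (k : ℂ) - a * n χ₁ := by
    rw [← Helper24.classInner_conj_symm, hτβψ]
    simp
  have hXX : Cfsg.classInner Xc Xc = (n χ : ℂ) + 2 * (a : ℂ) * k := by
    rw [hXc]
    simp only [Helper24.classInner_add_left, Helper24.classInner_add_right, classInner_zsmul_left,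
      classInner_zsmul_right]
    rw [hS.isometry.2.2.1 β hβZ β hβZ, hββ, hτβψ, hψτβ, oσ χ₁ hχ₁S χ₁ hχ₁S, if_pos rfl]
    push_cast; ring
  -- the projection on the images of `S₁`
  have hnpos : ∀ φ ∈ S₁, (0 : ℝ) < (n φ : ℝ) := fun φ hφ => by
    exact_mod_cast npos hS d n hd hn (hS₁ hφ)
  set c : (L → ℂ) → ℝ := fun φ => (m φ : ℝ) / (n φ : ℝ) with hc
  set T : ℝ := ∑ φ ∈ S₁, (m φ : ℝ) ^ 2 / (n φ : ℝ) with hT
  set P : G → ℂ := ∑ φ ∈ S₁, ((c φ : ℝ) : ℂ) • τ₁ φ with hP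
  have hcn : ∀ φ ∈ S₁, ((c φ : ℝ) : ℂ) * (n φ : ℂ) = m φ := by
    intro φ hφ
    have h := (hnpos φ hφ).ne'
    have : c φ * (n φ : ℝ) = m φ := by simp only [hc]; field_simp
    have h2 : ((c φ * (n φ : ℝ) : ℝ) : ℂ) = ((m φ : ℝ) : ℂ) := by rw [this]
    push_cast at h2
    exact h2
  have hcm : ∀ φ ∈ S₁, ((c φ : ℝ) : ℂ) * (m φ : ℂ) = (((m φ : ℝ) ^ 2 / (n φ : ℝ) : ℝ) : ℂ) := by
    intro φ hφ
    simp only [hc]
    push_cast; ring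
  have hσP : ∀ φ ∈ S₁, Cfsg.classInner (τ₁ φ) P = m φ := by
    intro φ hφ
    rw [hP, Helper24.classInner_sum_right, Finset.sum_eq_single φ]
    · rw [Helper24.classInner_smul_right, oσ φ hφ φ hφ, if_pos rfl, Complex.conj_ofReal,
        hcn φ hφ]
    · intro η hη hne
      rw [Helper24.classInner_smul_right, oσ φ hφ η hη, if_neg (fun h => hne h.symm), mul_zero]
    · intro h; exact absurd hφ h
  have hXP : Cfsg.classInner Xc P = ((T : ℝ) : ℂ) := by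
    rw [hP, Helper24.classInner_sum_right, hT]
    push_cast
    refine Finset.sum_congr rfl fun φ hφ => ?_
    rw [Helper24.classInner_smul_right, hm φ hφ, Complex.conj_ofReal, hcm φ hφ]
    push_cast; rfl
  have hPX : Cfsg.classInner P Xc = ((T : ℝ) : ℂ) := by
    rw [← Helper24.classInner_conj_symm, hXP, Complex.conj_ofReal]
  have hPP : Cfsg.classInner P P = ((T : ℝ) : ℂ) := by
    conv_lhs => rw [hP]
    rw [Helper24.classInner_sum_left, hT]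
    push_cast
    refine Finset.sum_congr rfl fun φ hφ => ?_
    rw [Helper24.classInner_smul_left, hσP φ hφ, hcm φ hφ]
    push_cast; rfl
  have hYY : Cfsg.classInner (Xc - P) (Xc - P) =
      (((n χ : ℝ) + 2 * (a : ℝ) * (k : ℝ) - T : ℝ) : ℂ) := by
    rw [classInner_sub_left, classInner_sub_right, classInner_sub_right, hXX, hXP, hPX, hPP]
    push_cast; ring
  -- inner products with the members of `R χ`
  have hσα : ∀ φ ∈ S₁, ∀ α ∈ R χ, Cfsg.classInner (τ₁ φ) α = 0 := fun φ hφ α hα =>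
    tau1_orth_R hS hS₁ hS₁c hτ₁ hτ₁τ hφ hχ (oφχ φ hφ) (oφχc φ hφ) hα
  have hPα : ∀ α ∈ R χ, Cfsg.classInner P α = 0 := by
    intro α hα
    rw [hP, Helper24.classInner_sum_left]
    refine Finset.sum_eq_zero fun φ hφ => ?_
    rw [Helper24.classInner_smul_left, hσα φ hφ α hα, mul_zero]
  have hz : ∀ α ∈ R χ, ∃ z : ℤ, Cfsg.classInner (τ β) α = z :=
    fun α hα => genChar_inner_genChar_int gτβ (hS.virtual χ hχ α hα)
  choose! z hz using hz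
  have hYα : ∀ α ∈ R χ, Cfsg.classInner (Xc - P) α = z α := by
    intro α hα
    rw [classInner_sub_left, hPα α hα, hXc, Helper24.classInner_add_left, classInner_zsmul_left,
      hσα χ₁ hχ₁S α hα, hz α hα]
    ring
  have hzsum : ((∑ α ∈ R χ, z α : ℤ) : ℂ) = (n χ : ℂ) := by
    push_cast
    rw [← Finset.sum_congr rfl hz, ← Helper24.classInner_sum_right, ← hS.sum_eq χ hχ,
      hS.isometry.2.2.1 β hβZ _ (sub_conj_mem hS hχ), hβ, classInner_sub_left,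
      classInner_sub_right, classInner_sub_right, classInner_zsmul_left, classInner_zsmul_left,
      hn χ hχ, orth_conj hS hχ, oφχ χ₁ hχ₁S, oφχc χ₁ hχ₁S]
    ring
  have hzsum' : ((∑ α ∈ R χ, z α : ℤ) : ℝ) = (n χ : ℝ) := by
    have : ((∑ α ∈ R χ, z α : ℤ) : ℂ) = ((n χ : ℕ) : ℂ) := hzsum
    exact_mod_cast this
  have hbes : (n χ : ℝ) ≤ (n χ : ℝ) + 2 * (a : ℝ) * (k : ℝ) - T := by
    have hb := bessel_one (hS.orthonormal χ hχ) (Xc - P)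
    have hle := int_sum_le (F := R χ) (Xc - P) z hYα
    have hnn := classInner_self_re_nonneg (Xc - P - proj (R χ) (Xc - P))
    rw [hb, hYY, Complex.ofReal_re] at hnn
    rw [hzsum'] at hle
    linarith
  -- arithmetic
  have hTd : T * (d χ₁ : ℝ) ^ 2 = (k : ℝ) ^ 2 * ∑ φ ∈ S₁, ((d φ : ℝ) ^ 2 / (n φ : ℝ)) := by
    rw [hT, Finset.sum_mul, Finset.mul_sum]
    refine Finset.sum_congr rfl fun φ hφ => ?_
    have h1 : ((d χ₁ : ℝ)) * (m φ : ℝ) = (d φ : ℝ) * (k : ℝ) := by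
      have := hrel φ hφ
      exact_mod_cast this
    have h2 := (hnpos φ hφ).ne'
    field_simp
    calc (m φ : ℝ) ^ 2 * (d χ₁ : ℝ) ^ 2 = ((d χ₁ : ℝ) * (m φ : ℝ)) ^ 2 := by ring
      _ = ((d φ : ℝ) * (k : ℝ)) ^ 2 := by rw [h1]
      _ = (k : ℝ) ^ 2 * (d φ : ℝ) ^ 2 := by ring
  have hk0 : k = 0 := by
    by_contra hkne
    have hk2pos : (0 : ℝ) < (k : ℝ) ^ 2 := by
      have : (k : ℝ) ≠ 0 := by exact_mod_cast hkne
      positivity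
    have hkk : (k : ℝ) ≤ (k : ℝ) ^ 2 := by
      have := int_le_sq k
      exact_mod_cast this
    have hdpos : (0 : ℝ) < (d χ₁ : ℝ) := by exact_mod_cast hdχ₁pos
    have hapos' : (0 : ℝ) < (a : ℝ) := by exact_mod_cast hapos
    have hdχa : (d χ : ℝ) = (d χ₁ : ℝ) * (a : ℝ) := by exact_mod_cast ha
    have h1 : (k : ℝ) ^ 2 * (2 * (d χ : ℝ) * (d χ₁ : ℝ)) <
        (k : ℝ) ^ 2 * ∑ φ ∈ S₁, ((d φ : ℝ) ^ 2 / (n φ : ℝ)) :=
      mul_lt_mul_of_pos_left hineq hk2pos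
    rw [← hTd, hdχa] at h1
    have h2 : T * (d χ₁ : ℝ) ^ 2 ≤ 2 * (a : ℝ) * (k : ℝ) * (d χ₁ : ℝ) ^ 2 := by
      have : T ≤ 2 * (a : ℝ) * (k : ℝ) := by linarith
      exact mul_le_mul_of_nonneg_right this (sq_nonneg _)
    have h3 : (0 : ℝ) < 2 * (a : ℝ) * (d χ₁ : ℝ) ^ 2 := by positivity
    nlinarith [mul_nonneg h3.le (sub_nonneg.2 hkk)]
  refine ⟨gX, ?_, ?_⟩
  · intro φ hφ
    have h2 := hrel φ hφ
    rw [hk0, mul_zero] at h2
    have h3 : m φ = 0 := by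
      rcases mul_eq_zero.1 h2 with h | h
      · omega
      · exact h
    rw [hm φ hφ, h3]; simp
  · rw [hXX, hk0]; simp

end mainsec

section pair

variable {L : Type*} [Group L] [Fintype L] {G : Type*} [Group G] [Fintype G]

lemma pair_val {χ χ' : L → ℂ} {N : ℂ} (hN : N ≠ 0) (h11 : Cfsg.classInner χ χ = N)
    (h22 : Cfsg.classInner χ' χ' = N) (h12 : Cfsg.classInner χ χ' = 0)
    (h21 : Cfsg.classInner χ' χ = 0) (X X' : G → ℂ) (s t : ℤ) :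
    (Cfsg.classInner (s • χ + t • χ') χ / N) • X + (Cfsg.classInner (s • χ + t • χ') χ' / N) • X' =
      s • X + t • X' := by
  rw [Helper24.classInner_add_left, Helper24.classInner_add_left, classInner_zsmul_left,
    classInner_zsmul_left, classInner_zsmul_left, classInner_zsmul_left, h11, h22, h12, h21]
  ext g
  simp only [Pi.add_apply, Pi.smul_apply]
  simp only [smul_eq_mul, zsmul_eq_mul]
  field_simp
  ring

lemma lio_pair {χ χ' : L → ℂ} {N : ℂ} (hN : N ≠ 0) (h11 : Cfsg.classInner χ χ = N)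
    (h22 : Cfsg.classInner χ' χ' = N) (h12 : Cfsg.classInner χ χ' = 0)
    (h21 : Cfsg.classInner χ' χ = 0) {X X' : G → ℂ} (gX : Cfsg.IsGeneralizedCharacter G X)
    (gX' : Cfsg.IsGeneralizedCharacter G X') (k11 : Cfsg.classInner X X = N)
    (k22 : Cfsg.classInner X' X' = N) (k12 : Cfsg.classInner X X' = 0)
    (k21 : Cfsg.classInner X' X = 0) :
    Cfsg.IsLinearIsometryOn (Cfsg.zspan ({χ, χ'} : Set (L → ℂ)))
      (fun θ => (Cfsg.classInner θ χ / N) • X + (Cfsg.classInner θ χ' / N) • X') := by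
  have hmem : ∀ θ ∈ Cfsg.zspan ({χ, χ'} : Set (L → ℂ)), ∃ s t : ℤ, θ = s • χ + t • χ' := by
    intro θ hθ
    obtain ⟨s, t, hst⟩ := Submodule.mem_span_pair.1 hθ
    exact ⟨s, t, hst.symm⟩
  refine ⟨?_, ?_, ?_, ?_⟩
  · intro α _ β _
    simp only [Helper24.classInner_add_left, add_div, add_smul]
    abel
  · intro α _ n
    simp only [classInner_zsmul_left]
    ext g
    simp only [Pi.add_apply, Pi.smul_apply]
    simp only [smul_eq_mul, zsmul_eq_mul]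
    ring
  · intro α hα β hβ
    obtain ⟨s, t, rfl⟩ := hmem α hα
    obtain ⟨s', t', rfl⟩ := hmem β hβ
    simp only [pair_val hN h11 h22 h12 h21]
    simp only [Helper24.classInner_add_left, Helper24.classInner_add_right, classInner_zsmul_left,
      classInner_zsmul_right, h11, h22, h12, h21, k11, k22, k12, k21]
  · intro α hα
    obtain ⟨s, t, rfl⟩ := hmem α hα
    simp only [pair_val hN h11 h22 h12 h21]
    exact isGen_add (isGen_zsmul s gX) (isGen_zsmul t gX')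

end pair

/-- Let (S, τ, R) be a coherence system from L to G with degrees φ 1 = d φ and squared norms ⟨φ, φ⟩ = n φ for φ ∈ S. Let S₁ ⊆ S be a finite subset closed under complex conjugation such that (S₁, L minus 1, τ) is coherent, let χ ∈ S with χ ∉ S₁ and conj χ ∉ S₁, and let χ₁ ∈ S₁ with d χ₁ dividing d χ and 2 d χ d χ₁ < Σ_{φ ∈ S₁} (d φ)² / n φ. Then S₁ together with χ and conj χ is coherent. -/
theorem result {L : Type*} [Group L] [Fintype L] {G : Type*} [Group G] [Fintype G] (S : Set (L → ℂ)) (τ : (L → ℂ) → (G → ℂ)) (R : (L → ℂ) → Finset (G → ℂ)) (hS : Cfsg.IsCoherenceSystem S τ R) (d n : (L → ℂ) → ℕ) (hd : ∀ φ ∈ S, φ 1 = (d φ : ℂ)) (hn : ∀ φ ∈ S, Cfsg.classInner φ φ = (n φ : ℂ)) (S₁ : Finset (L → ℂ)) (hS₁ : ↑S₁ ⊆ S) (hS₁c : ∀ φ ∈ S₁, Cfsg.conjFun φ ∈ S₁) (hcoh : Cfsg.IsCoherent (↑S₁ : Set (L → ℂ)) {1}ᶜ τ) (χ : L → ℂ) (hχ : χ ∈ S) (hχ₁ : χ ∉ S₁) (hχ₂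 : Cfsg.conjFun χ ∉ S₁) (χ₁ : L → ℂ) (hχ₁S : χ₁ ∈ S₁) (hdvd : d χ₁ ∣ d χ) (hineq : (2 * d χ * d χ₁ : ℝ) < ∑ φ ∈ S₁, ((d φ : ℝ) ^ 2 / (n φ : ℝ))) : Cfsg.IsCoherent (↑S₁ ∪ {χ, Cfsg.conjFun χ} : Set (L → ℂ)) {1}ᶜ τ := by
  classical
  obtain ⟨⟨α₀, hα₀, hα₀ne⟩, τ₁, hτ₁, hτ₁τ⟩ := hcoh
  obtain ⟨a, ha⟩ := hdvd
  have hχc : Cfsg.conjFun χ ∈ S := hS.conj_mem χ hχ
  have hχ₁c : Cfsg.conjFun χ₁ ∈ S₁ := hS₁c χ₁ hχ₁S
  have hχ₁SS := hS₁ hχ₁S
  have hχ₁cS := hS₁ hχ₁c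
  -- first application
  obtain ⟨gX, hXo, hXX⟩ := main_aux hS d n hd hn hS₁ hS₁c hτ₁ hτ₁τ hχ hχ₁ hχ₂ hχ₁S ha hineq
  -- second application
  have ha' : d (Cfsg.conjFun χ) = d (Cfsg.conjFun χ₁) * a := by
    rw [d_conj hS d hd hχ, d_conj hS d hd hχ₁SS, ha]
  have hineq' : (2 * d (Cfsg.conjFun χ) * d (Cfsg.conjFun χ₁) : ℝ) <
      ∑ φ ∈ S₁, ((d φ : ℝ) ^ 2 / (n φ : ℝ)) := by
    rw [d_conj hS d hd hχ, d_conj hS d hd hχ₁SS]; exact hineq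
  obtain ⟨gX', hXo', hXX'⟩ := main_aux hS d n hd hn hS₁ hS₁c hτ₁ hτ₁τ hχc hχ₂
    (by rw [S1517.conjFun_conjFun]; exact hχ₁) hχ₁c ha' hineq'
  rw [n_conj hS n hn hχ] at hXX'
  set β : L → ℂ := χ - (a : ℤ) • χ₁ with hβ
  set β' : L → ℂ := Cfsg.conjFun χ - (a : ℤ) • Cfsg.conjFun χ₁ with hβ'
  set X : G → ℂ := τ β + (a : ℤ) • τ₁ χ₁ with hX
  set X' : G → ℂ := τ β' + (a : ℤ) • τ₁ (Cfsg.conjFun χ₁) with hX'
  have hdχ := hd χ hχ
  have hdχ₁ := hd χ₁ hχ₁SS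
  have hdχpos := dpos hS d hd hχ
  have hdχ₁pos := dpos hS d hd hχ₁SS
  have hnχpos := npos hS d n hd hn hχ
  have hNne : (n χ : ℂ) ≠ 0 := by exact_mod_cast hnχpos.ne'
  -- membership facts
  have mχ : χ ∈ Cfsg.zspan S := mem_zspan_of_mem hχ
  have mχc : Cfsg.conjFun χ ∈ Cfsg.zspan S := mem_zspan_of_mem hχc
  have mχ₁ : χ₁ ∈ Cfsg.zspan S := mem_zspan_of_mem hχ₁SS
  have mχ₁c : Cfsg.conjFun χ₁ ∈ Cfsg.zspan S := mem_zspan_of_mem hχ₁cS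
  have mχ₁' : χ₁ ∈ Cfsg.zspan (↑S₁ : Set (L → ℂ)) := mem_zspan_of_mem hχ₁S
  have mχ₁c' : Cfsg.conjFun χ₁ ∈ Cfsg.zspan (↑S₁ : Set (L → ℂ)) := mem_zspan_of_mem hχ₁c
  have hβ1 : β 1 = 0 := by
    simp only [hβ, Pi.sub_apply, Pi.smul_apply, hdχ, hdχ₁, ha]
    simp; ring
  have hβZ : β ∈ Cfsg.zspanOn S {1}ᶜ :=
    ⟨zspan_sub_mem mχ (zspan_zsmul_mem _ mχ₁), S1517.vanish_of_one hβ1⟩
  have hβ'1 : β' 1 = 0 := by
    simp only [hβ', Pi.sub_apply, Pi.smul_apply, conj_one hS hχ, conj_one hS hχ₁SS, hdχ, hdχ₁, ha]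
    simp; ring
  have hβ'Z : β' ∈ Cfsg.zspanOn S {1}ᶜ :=
    ⟨zspan_sub_mem mχc (zspan_zsmul_mem _ mχ₁c), S1517.vanish_of_one hβ'1⟩
  have hδ₁ : χ₁ - Cfsg.conjFun χ₁ ∈ Cfsg.zspanOn (↑S₁ : Set (L → ℂ)) {1}ᶜ :=
    ⟨zspan_sub_mem mχ₁' mχ₁c', S1517.vanish_of_one
      (by rw [Pi.sub_apply, conj_one hS hχ₁SS, sub_self])⟩
  have hδ₁S : χ₁ - Cfsg.conjFun χ₁ ∈ Cfsg.zspanOn S {1}ᶜ := sub_conj_mem hS hχ₁SS
  have hδS : χ - Cfsg.conjFun χ ∈ Cfsg.zspanOn S {1}ᶜ := sub_conj_mem hS hχ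
  -- `X - X' = τ (χ - conj χ)`
  have hdiff : X - X' = τ (χ - Cfsg.conjFun χ) := by
    have e0 : χ - Cfsg.conjFun χ = (β + (-1 : ℤ) • β') + (a : ℤ) • (χ₁ - Cfsg.conjFun χ₁) := by
      simp only [hβ, hβ']
      ext x
      simp only [Pi.add_apply, Pi.sub_apply, Pi.smul_apply]
      simp only [zsmul_eq_mul]
      push_cast; ring
    have e1 : τ (χ₁ - Cfsg.conjFun χ₁) = τ₁ χ₁ - τ₁ (Cfsg.conjFun χ₁) := by
      rw [← hτ₁τ _ hδ₁, lio_sub hτ₁ mχ₁' mχ₁c']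
    rw [e0, hS.isometry.1 _ (S1517.zspanOn_add hS hβZ (S1517.zspanOn_zsmul hS _ hβ'Z)) _
      (S1517.zspanOn_zsmul hS _ hδ₁S), hS.isometry.1 _ hβZ _ (S1517.zspanOn_zsmul hS _ hβ'Z),
      hS.isometry.2.1 _ hβ'Z, hS.isometry.2.1 _ hδ₁S, e1, hX, hX']
    ext x
    simp only [Pi.add_apply, Pi.sub_apply, Pi.smul_apply]
    simp only [zsmul_eq_mul]
    push_cast; ring
  -- orthogonality facts in `S`
  have o1 : Cfsg.classInner χ₁ χ = 0 :=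
    hS.orthogonal χ₁ hχ₁SS χ hχ (by rintro rfl; exact hχ₁ hχ₁S)
  have o2 : Cfsg.classInner χ₁ (Cfsg.conjFun χ) = 0 :=
    hS.orthogonal χ₁ hχ₁SS _ hχc (by rintro rfl; exact hχ₂ hχ₁S)
  have hβδ : Cfsg.classInner β (χ - Cfsg.conjFun χ) = n χ := by
    rw [hβ, classInner_sub_left, classInner_sub_right, classInner_sub_right,
      classInner_zsmul_left, classInner_zsmul_left, hn χ hχ, orth_conj hS hχ, o1, o2]
    ring
  have hσX : Cfsg.classInner (τ₁ χ₁) X = 0 := by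
    rw [← Helper24.classInner_conj_symm, hXo χ₁ hχ₁S, map_zero]
  have hσX' : Cfsg.classInner (τ₁ χ₁) X' = 0 := by
    rw [← Helper24.classInner_conj_symm, hXo' χ₁ hχ₁S, map_zero]
  have hXX'0 : Cfsg.classInner X X' = 0 := by
    have e1 : X' = X - τ (χ - Cfsg.conjFun χ) := by rw [← hdiff]; abel
    have e2 : Cfsg.classInner X (τ (χ - Cfsg.conjFun χ)) = n χ := by
      conv_lhs => rw [hX]
      rw [Helper24.classInner_add_left, classInner_zsmul_left,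
        hS.isometry.2.2.1 β hβZ _ hδS, hβδ, ← hdiff, classInner_sub_right, hσX, hσX']
      ring
    rw [e1, classInner_sub_right, hXX, e2, sub_self]
  have hX'X0 : Cfsg.classInner X' X = 0 := by
    rw [← Helper24.classInner_conj_symm, hXX'0, map_zero]
  -- the isometry on `ℤ[χ, conj χ]`
  have h22 : Cfsg.classInner (Cfsg.conjFun χ) (Cfsg.conjFun χ) = n χ := by
    rw [hn _ hχc, n_conj hS n hn hχ]
  set τY : (L → ℂ) → (G → ℂ) := fun θ =>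
    (Cfsg.classInner θ χ / (n χ : ℂ)) • X +
      (Cfsg.classInner θ (Cfsg.conjFun χ) / (n χ : ℂ)) • X' with hτY
  have hτYlio : Cfsg.IsLinearIsometryOn
      (Cfsg.zspan ({χ, Cfsg.conjFun χ} : Set (L → ℂ))) τY :=
    lio_pair hNne (hn χ hχ) h22 (orth_conj hS hχ) (orth_conj' hS hχ) gX gX' hXX hXX' hXX'0 hX'X0
  have hτYval : ∀ s t : ℤ, τY (s • χ + t • Cfsg.conjFun χ) = s • X + t • X' := fun s t =>
    pair_val hNne (hn χ hχ) h22 (orth_conj hS hχ) (orth_conj' hS hχ) X X' s t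
  have hτYχ : τY χ = X := by
    have := hτYval 1 0
    simpa using this
  have hτYχc : τY (Cfsg.conjFun χ) = X' := by
    have := hτYval 0 1
    simpa using this
  have hagree : ∀ θ ∈ Cfsg.zspanOn ({χ, Cfsg.conjFun χ} : Set (L → ℂ)) {1}ᶜ, τY θ = τ θ := by
    rintro θ ⟨hθ, hθ1⟩
    obtain ⟨s, t, rfl⟩ := Submodule.mem_span_pair.1 hθ
    have h1 : (s • χ + t • Cfsg.conjFun χ) 1 = 0 := hθ1 1 (by simp)
    rw [Pi.add_apply, Pi.smul_apply, Pi.smul_apply, conj_one hS hχ, hdχ, zsmul_eq_mul,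
      zsmul_eq_mul] at h1
    have hst : t = -s := by
      have h2 : ((s + t : ℤ) : ℂ) * (d χ : ℂ) = 0 := by push_cast; linear_combination h1
      rcases mul_eq_zero.1 h2 with h | h
      · have : s + t = 0 := by exact_mod_cast h
        omega
      · exfalso
        have : d χ = 0 := by exact_mod_cast h
        omega
    subst hst
    rw [hτYval]
    have e1 : s • χ + -s • Cfsg.conjFun χ = s • (χ - Cfsg.conjFun χ) := by
      rw [smul_sub, neg_smul]; abel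
    rw [e1, hS.isometry.2.1 _ hδS, ← hdiff, smul_sub, neg_smul]
    abel
  have hcross : ∀ φ ∈ (↑S₁ : Set (L → ℂ)), ∀ η ∈ ({χ, Cfsg.conjFun χ} : Set (L → ℂ)),
      Cfsg.classInner (τ₁ φ) (τY η) = 0 := by
    intro φ hφ η hη
    simp only [Set.mem_insert_iff, Set.mem_singleton_iff] at hη
    rcases hη with rfl | rfl
    · rw [hτYχ, ← Helper24.classInner_conj_symm, hXo φ hφ, map_zero]
    · rw [hτYχc, ← Helper24.classInner_conj_symm, hXo' φ hφ, map_zero]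
  have horth : ∀ φ ∈ (↑S₁ : Set (L → ℂ)), ∀ η ∈ ({χ, Cfsg.conjFun χ} : Set (L → ℂ)),
      Cfsg.classInner φ η = 0 := by
    intro φ hφ η hη
    simp only [Set.mem_insert_iff, Set.mem_singleton_iff] at hη
    rcases hη with rfl | rfl
    · exact hS.orthogonal φ (hS₁ hφ) η hχ (by rintro rfl; exact hχ₁ hφ)
    · exact hS.orthogonal φ (hS₁ hφ) _ hχc (by rintro rfl; exact hχ₂ hφ)
  have hkey : τ ((d χ₁ : ℤ) • χ - (d χ : ℤ) • χ₁) = (d χ₁ : ℤ) • τY χ - (d χ : ℤ) • τ₁ χ₁ := by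
    have e1 : (d χ₁ : ℤ) • χ - (d χ : ℤ) • χ₁ = (d χ₁ : ℤ) • β := by
      ext x
      simp only [hβ, ha, Pi.sub_apply, Pi.smul_apply]
      simp only [zsmul_eq_mul]
      push_cast; ring
    rw [e1, hS.isometry.2.1 β hβZ, hτYχ, hX]
    ext x
    simp only [ha, Pi.sub_apply, Pi.add_apply, Pi.smul_apply]
    simp only [zsmul_eq_mul]
    push_cast; ring
  have hYS : ({χ, Cfsg.conjFun χ} : Set (L → ℂ)) ⊆ S := by
    intro η hη
    simp only [Set.mem_insert_iff, Set.mem_singleton_iff] at hη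
    rcases hη with rfl | rfl
    · exact hχ
    · exact hχc
  exact Coh.coherent_union' S (↑S₁) {χ, Cfsg.conjFun χ} hS₁ hYS horth
    (fun φ hφ => ⟨(d φ : ℤ), by rw [hd φ (hS₁ hφ)]; simp⟩) τ hS.isometry τ₁ τY hτ₁ hτ₁τ hτYlio
    hagree hcross χ₁ χ hχ₁S (Set.mem_insert _ _) (d χ₁) (d χ) hdχ₁pos hdχpos hdχ₁ hdχ hkey

end Cfsg.Agent.S1516
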