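import Mathlib
import Cfsg.Statements.S0160
import Cfsg.Agent.Lib.Helper24.CharBrauerPerm

set_option autoImplicit false
open Cfsg

namespace Cfsg.Agent.S0160

open Cfsg.Agent.Helper24
open scoped ComplexConjugate

/-- A finite group has as many real-valued irreducible complex characters as conjugacy classes closed under taking inverses. -/
theorem result {G : Type*} [Group G] [Finite G] : Nat.card {χ : Cfsg.IrrCharacter G // ∀ g : G, ((χ : G → ℂ) g).im = 0} = Nat.card {C : ConjClasses G // ∀ g : G, ConjClasses.mk g = C → IsConj g g⁻¹} := by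
  classical
  letI : Fintype G := Fintype.ofFinite G
  letI : Fintype (IrrCharacter G) := irrFintype
  let σ : IrrCharacter G → IrrCharacter G := fun χ =>
    ⟨fun g => conj ((χ : G → ℂ) g), isIrrCharacter_conj χ.2⟩
  have hτ : ∀ a b : G, IsConj a b → IsConj ((Equiv.inv G) a) ((Equiv.inv G) b) := by
    intro a b hab
    obtain ⟨c, hc⟩ := hab
    refine ⟨c, ?_⟩
    simpa using hc.inv_right
  have h : ∀ (χ : IrrCharacter G) (g : G), (σ χ : G → ℂ) ((Equiv.inv G) g) = (χ : G → ℂ) g := by
    intro χ g
    simp only [σ, Equiv.inv_apply]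
    rw [irr_inv (isCharacter_of_isIrrCharacter χ.2) g]
    simp
  have key := brauer_permutation σ (Equiv.inv G) hτ h
  have e1 : Nat.card {χ : Cfsg.IrrCharacter G // ∀ g : G, ((χ : G → ℂ) g).im = 0} =
      Nat.card {χ : IrrCharacter G // σ χ = χ} := by
    apply Nat.card_congr
    apply Equiv.subtypeEquivRight
    intro χ
    constructor
    · intro hχ
      apply Subtype.ext
      funext g
      simp only [σ]
      exact Complex.conj_eq_iff_im.mpr (hχ g)
    · intro hχ g
      have h2 : (σ χ : G → ℂ) = (χ : G → ℂ) := congrArg Subtype.val hχ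
      have := congrFun h2 g
      simp only [σ] at this
      exact Complex.conj_eq_iff_im.mp this
  rw [e1, key]
  apply Nat.card_congr
  apply Equiv.subtypeEquivRight
  intro c
  constructor
  · intro hc g hg
    have := hc g hg
    rw [← hg] at this
    simp only [Equiv.inv_apply] at this
    exact (ConjClasses.mk_eq_mk_iff_isConj.mp this).symm
  · intro hc g hg
    have := hc g hg
    simp only [Equiv.inv_apply]
    rw [← hg]
    exact ConjClasses.mk_eq_mk_iff_isConj.mpr this.symm

end Cfsg.Agent.S0160
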