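import Mathlib
import Cfsg.Statements.S0161
import Cfsg.Agent.S0160

set_option autoImplicit false
open Cfsg

namespace Cfsg.Agent.S0161

open Cfsg.Agent.Helper24

/-- In a group of odd order, an element conjugate to its inverse is trivial. -/
theorem eq_one_of_isConj_inv {G : Type*} [Group G] [Finite G] (hodd : Odd (Nat.card G))
    {g : G} (h : IsConj g g⁻¹) : g = 1 := by
  obtain ⟨x, h1⟩ := isConj_iff.mp h
  -- x^2 commutes with g
  have h2 : Commute (x ^ 2) g := by
    have h3 : x * g⁻¹ * x⁻¹ = g := by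
      have e : x * g⁻¹ * x⁻¹ = (x * g * x⁻¹)⁻¹ := by group
      rw [e, h1, inv_inv]
    have : x ^ 2 * g * (x ^ 2)⁻¹ = g := by
      have e : x ^ 2 * g * (x ^ 2)⁻¹ = x * (x * g * x⁻¹) * x⁻¹ := by
        simp only [pow_two, mul_inv_rev, mul_assoc]
      rw [e, h1, h3]
    unfold Commute SemiconjBy
    have e : x ^ 2 * g = x ^ 2 * g * (x ^ 2)⁻¹ * x ^ 2 := by simp
    rw [e, this]
  have hxodd : Odd (orderOf x) := by
    have := orderOf_dvd_natCard x
    exact Odd.of_dvd_nat hodd this
  obtain ⟨k, hk⟩ := hxodd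
  have h4 : x = (x ^ 2) ^ (k + 1) := by
    rw [← pow_mul, show 2 * (k + 1) = (2 * k + 1) + 1 by ring, ← hk, pow_succ, pow_orderOf_eq_one,
      one_mul]
  have h5 : Commute x g := by
    rw [h4]; exact h2.pow_left _
  have h6 : g = g⁻¹ := by
    rw [← h1, h5.eq]; group
  have h7 : g ^ 2 = 1 := by
    rw [pow_two]
    nth_rewrite 1 [h6]
    exact inv_mul_cancel g
  have h8 : orderOf g ∣ 2 := orderOf_dvd_of_pow_eq_one h7
  have h9 : Odd (orderOf g) := Odd.of_dvd_nat hodd (orderOf_dvd_natCard g)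
  have h10 : orderOf g = 1 := by
    rcases (Nat.dvd_prime Nat.prime_two).mp h8 with h | h
    · exact h
    · rw [h] at h9; exact absurd h9 (by decide)
  exact orderOf_eq_one_iff.mp h10

/-- In a finite group of odd order, a real-valued irreducible complex character is the trivial character. -/
theorem result {G : Type*} [Group G] [Finite G] (hodd : Odd (Nat.card G)) (χ : Cfsg.IrrCharacter G) (hreal : ∀ g : G, ((χ : G → ℂ) g).im = 0) : (χ : G → ℂ) = fun _ => 1 := by
  classical
  have h1 := Cfsg.Agent.S0160.result (G := G)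
  have h2 : Nat.card {C : ConjClasses G // ∀ g : G, ConjClasses.mk g = C → IsConj g g⁻¹} = 1 := by
    rw [Nat.card_eq_one_iff_unique]
    refine ⟨⟨?_⟩, ⟨⟨ConjClasses.mk 1, ?_⟩⟩⟩
    · rintro ⟨a, ha⟩ ⟨b, hb⟩
      apply Subtype.ext
      obtain ⟨a, rfl⟩ := ConjClasses.exists_rep a
      obtain ⟨b, rfl⟩ := ConjClasses.exists_rep b
      show ConjClasses.mk a = ConjClasses.mk b
      rw [eq_one_of_isConj_inv hodd (ha a rfl), eq_one_of_isConj_inv hodd (hb b rfl)]
    · intro g hg
      have : IsConj g 1 := ConjClasses.mk_eq_mk_iff_isConj.mp hg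
      have : g = 1 := by simpa using this
      subst this
      simp
  rw [h2, Nat.card_eq_one_iff_unique] at h1
  obtain ⟨hsub, -⟩ := h1
  have := @Subsingleton.elim _ hsub
    (⟨χ, hreal⟩ : {χ : Cfsg.IrrCharacter G // ∀ g : G, ((χ : G → ℂ) g).im = 0})
    ⟨principalChar G, fun g => by simp [principalChar]⟩
  have h3 : χ = principalChar G := congrArg Subtype.val this
  rw [h3]
  rfl

end Cfsg.Agent.S0161
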