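import Mathlib
import Cfsg.Statements.S1514
import Cfsg.Agent.Lib.Helper8.CharExtra

set_option autoImplicit false
open Cfsg

namespace Cfsg.Agent.S1514

open Cfsg.Agent.Helper8 Cfsg.Agent.Helper24
open scoped ComplexConjugate

section aux

variable {X : Type*} [Group X] [Fintype X]

lemma classInner_neg_left (a b : X → ℂ) : Cfsg.classInner (-a) b = -Cfsg.classInner a b := by
  have : -a = (-1 : ℂ) • a := by ext; simp
  rw [this, Helper24.classInner_smul_left]; ring

lemma classInner_neg_right (a b : X → ℂ) : Cfsg.classInner a (-b) = -Cfsg.classInner a b := by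
  have : -b = (-1 : ℂ) • b := by ext; simp
  rw [this, Helper24.classInner_smul_right]; simp

lemma classInner_sub_left (a b c : X → ℂ) :
    Cfsg.classInner (a - b) c = Cfsg.classInner a c - Cfsg.classInner b c := by
  rw [sub_eq_add_neg, Helper24.classInner_add_left, classInner_neg_left]; ring

lemma classInner_sub_right (a b c : X → ℂ) :
    Cfsg.classInner a (b - c) = Cfsg.classInner a b - Cfsg.classInner a c := by
  rw [sub_eq_add_neg, Helper24.classInner_add_right, classInner_neg_right]; ring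

lemma classInner_conjFun_conjFun (a b : X → ℂ) :
    Cfsg.classInner (Cfsg.conjFun a) (Cfsg.conjFun b) = conj (Cfsg.classInner a b) := by
  simp only [Cfsg.classInner, Cfsg.conjFun, map_mul, map_inv₀, map_natCast, map_sum]

lemma classInner_conjFun_left (a b : X → ℂ) :
    Cfsg.classInner (Cfsg.conjFun a) b = conj (Cfsg.classInner a (Cfsg.conjFun b)) := by
  simp only [Cfsg.classInner, Cfsg.conjFun, map_mul, map_inv₀, map_natCast, map_sum,
    Complex.conj_conj]

lemma isIrr_conjFun {a : X → ℂ} (h : Cfsg.IsIrrCharacter X a) :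
    Cfsg.IsIrrCharacter X (Cfsg.conjFun a) := by
  letI : Fintype (Cfsg.IrrCharacter X) := irrFintype
  exact isIrrCharacter_conj h

lemma isGen_of_irr {a : X → ℂ} (h : Cfsg.IsIrrCharacter X a) :
    Cfsg.IsGeneralizedCharacter X a :=
  ⟨a, 0, isCharacter_of_isIrrCharacter h, isCharacter_zero, by simp⟩

lemma isGen_neg_of_irr {a : X → ℂ} (h : Cfsg.IsIrrCharacter X a) :
    Cfsg.IsGeneralizedCharacter X (-a) :=
  ⟨0, a, isCharacter_zero, isCharacter_of_isIrrCharacter h, by simp⟩

lemma irr_ne_neg_irr {a b : X → ℂ} (ha : Cfsg.IsIrrCharacter X a) (hb : Cfsg.IsIrrCharacter X b) :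
    a ≠ -b := by
  intro h
  obtain ⟨d, hd, hda⟩ := irr_one_eq ha
  obtain ⟨e, he, heb⟩ := irr_one_eq hb
  have := congrFun h 1
  rw [Pi.neg_apply, hda, heb] at this
  have h2 : ((d : ℝ) : ℂ) = ((-(e : ℝ) : ℝ) : ℂ) := by push_cast; exact this
  have h3 : (d : ℝ) = -(e : ℝ) := Complex.ofReal_injective h2
  have : (0 : ℝ) < d := by exact_mod_cast hd
  have : (0 : ℝ) < e := by exact_mod_cast he
  linarith

end aux

/-- Let S be a nonempty set of irreducible characters of the finite group L, closed under complex conjugation and containing no real-valued member, and τ a linear isometry on the integer combinations of S vanishing at 1, with values virtual characters of G vanishing at 1. Then there is a choice R making (S, τ, R) a coherence system. -/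
theorem result {L : Type*} [Group L] [Fintype L] {G : Type*} [Group G] [Fintype G] (S : Set (L → ℂ)) (hS : S.Nonempty) (hirr : ∀ χ ∈ S, Cfsg.IsIrrCharacter L χ) (hconj : ∀ χ ∈ S, Cfsg.conjFun χ ∈ S ∧ Cfsg.conjFun χ ≠ χ) (τ : (L → ℂ) → (G → ℂ)) (hτ : Cfsg.IsLinearIsometryOn (Cfsg.zspanOn S {1}ᶜ) τ) (hτ1 : ∀ α ∈ Cfsg.zspanOn S {1}ᶜ, τ α 1 = 0) : ∃ R : (L → ℂ) → Finset (G → ℂ), Cfsg.IsCoherenceSystem S τ R := by
  classical
  obtain ⟨hadd, hsmul, hiso, hgen⟩ := hτ
  have hmem : ∀ χ ∈ S, χ ∈ Cfsg.zspan S := fun χ hχ => Submodule.subset_span hχ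
  -- `χ - conj χ` lies in the domain of `τ`
  have hδ : ∀ χ ∈ S, χ - Cfsg.conjFun χ ∈ Cfsg.zspanOn S {1}ᶜ := by
    intro χ hχ
    refine ⟨Submodule.sub_mem _ (hmem χ hχ) (hmem _ (hconj χ hχ).1), ?_⟩
    intro x hx
    have hx1 : x = 1 := by
      by_contra hne
      exact hx hne
    subst hx1
    obtain ⟨d, -, hd⟩ := irr_one_eq (hirr χ hχ)
    simp only [Pi.sub_apply, Cfsg.conjFun, hd, Complex.conj_natCast, sub_self]
  have hnorm2 : ∀ χ ∈ S, Cfsg.classInner (τ (χ - Cfsg.conjFun χ)) (τ (χ - Cfsg.conjFun χ)) = 2 := by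
    intro χ hχ
    rw [hiso _ (hδ χ hχ) _ (hδ χ hχ), classInner_sub_left, classInner_sub_right,
      classInner_sub_right]
    have hc := isIrr_conjFun (hirr χ hχ)
    rw [irr_orthogonality (hirr χ hχ) (hirr χ hχ), irr_orthogonality (hirr χ hχ) hc,
      irr_orthogonality hc (hirr χ hχ), irr_orthogonality hc hc, if_pos rfl, if_pos rfl,
      if_neg (hconj χ hχ).2, if_neg (fun h => (hconj χ hχ).2 h.symm)]
    ring
  have key : ∀ χ ∈ S, ∃ μ₁ μ₂ : G → ℂ, Cfsg.IsIrrCharacter G μ₁ ∧ Cfsg.IsIrrCharacter G μ₂ ∧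
      μ₁ ≠ μ₂ ∧ τ (χ - Cfsg.conjFun χ) = μ₁ - μ₂ := fun χ hχ =>
    genChar_norm_two (hgen _ (hδ χ hχ)) (hnorm2 χ hχ) (hτ1 _ (hδ χ hχ))
  choose! m₁ m₂ hm using key
  refine ⟨fun χ => {m₁ χ, -m₂ χ}, ?_⟩
  have hne : ∀ χ ∈ S, m₁ χ ≠ -m₂ χ := fun χ hχ =>
    irr_ne_neg_irr (hm χ hχ).1 (hm χ hχ).2.1
  refine
    { nonempty := hS
      isCharacter := fun χ hχ => isCharacter_of_isIrrCharacter (hirr χ hχ)
      conj_mem := fun χ hχ => (hconj χ hχ).1
      conj_ne := fun χ hχ => (hconj χ hχ).2
      isometry := ⟨hadd, hsmul, hiso, hgen⟩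
      map_one := hτ1
      orthogonal := ?_
      orthonormal := ?_
      virtual := ?_
      sum_eq := ?_
      disjoint := ?_ }
  · intro χ hχ φ hφ hne'
    rw [irr_orthogonality (hirr χ hχ) (hirr φ hφ), if_neg hne']
  · intro χ hχ α hα β hβ
    obtain ⟨h1, h2, h12, -⟩ := hm χ hχ
    simp only [Finset.mem_insert, Finset.mem_singleton] at hα hβ
    rcases hα with rfl | rfl <;> rcases hβ with rfl | rfl
    · rw [irr_orthogonality h1 h1]
    · rw [classInner_neg_right, irr_orthogonality h1 h2, if_neg h12, if_neg (hne χ hχ)]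
      simp
    · rw [classInner_neg_left, irr_orthogonality h2 h1, if_neg (fun h => h12 h.symm),
        if_neg (fun h => hne χ hχ h.symm)]
      simp
    · rw [classInner_neg_left, classInner_neg_right, irr_orthogonality h2 h2, if_pos rfl,
        if_pos rfl]
      simp
  · intro χ hχ α hα
    obtain ⟨h1, h2, -, -⟩ := hm χ hχ
    simp only [Finset.mem_insert, Finset.mem_singleton] at hα
    rcases hα with rfl | rfl
    · exact isGen_of_irr h1
    · exact isGen_neg_of_irr h2
  · intro χ hχ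
    rw [Finset.sum_pair (hne χ hχ), (hm χ hχ).2.2.2, sub_eq_add_neg]
  · intro χ hχ φ hφ h1 h2 α hα β hβ
    obtain ⟨hμ1, hμ2, hμ12, hμ⟩ := hm χ hχ
    obtain ⟨hν1, hν2, hν12, hν⟩ := hm φ hφ
    -- the inner product of the two images vanishes
    have hzero : Cfsg.classInner (τ (φ - Cfsg.conjFun φ)) (τ (χ - Cfsg.conjFun χ)) = 0 := by
      rw [hiso _ (hδ φ hφ) _ (hδ χ hχ), classInner_sub_left, classInner_sub_right,
        classInner_sub_right, classInner_conjFun_conjFun, classInner_conjFun_left, h1, h2]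
      simp
    rw [hμ, hν, classInner_sub_left, classInner_sub_right, classInner_sub_right,
      irr_orthogonality hν1 hμ1, irr_orthogonality hν1 hμ2, irr_orthogonality hν2 hμ1,
      irr_orthogonality hν2 hμ2] at hzero
    -- case analysis
    have n11 : m₁ φ ≠ m₁ χ := by
      intro h
      have a : m₁ φ ≠ m₂ χ := fun h' => hμ12 (h.symm.trans h')
      have b : m₂ φ ≠ m₁ χ := fun h' => hν12 (h.trans h'.symm)
      rw [if_pos h, if_neg a, if_neg b] at hzero
      by_cases c : m₂ φ = m₂ χ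
      · rw [if_pos c] at hzero; norm_num at hzero
      · rw [if_neg c] at hzero; norm_num at hzero
    have n22 : m₂ φ ≠ m₂ χ := by
      intro h
      have a : m₁ φ ≠ m₂ χ := fun h' => hν12 (h'.trans h.symm)
      have b : m₂ φ ≠ m₁ χ := fun h' => hμ12 (h'.symm.trans h)
      rw [if_neg n11, if_neg a, if_neg b, if_pos h] at hzero
      norm_num at hzero
    have n12 : m₁ φ ≠ m₂ χ := by
      intro h
      rw [if_neg n11, if_pos h, if_neg n22] at hzero
      by_cases c : m₂ φ = m₁ χ
      · rw [if_pos c] at hzero; norm_num at hzero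
      · rw [if_neg c] at hzero; norm_num at hzero
    have n21 : m₂ φ ≠ m₁ χ := by
      intro h
      rw [if_neg n11, if_neg n12, if_pos h, if_neg n22] at hzero
      norm_num at hzero
    simp only [Finset.mem_insert, Finset.mem_singleton] at hα hβ
    rcases hα with rfl | rfl <;> rcases hβ with rfl | rfl
    · rw [irr_orthogonality hν1 hμ1, if_neg n11]
    · rw [classInner_neg_right, irr_orthogonality hν1 hμ2, if_neg n12]; simp
    · rw [classInner_neg_left, irr_orthogonality hν2 hμ1, if_neg n21]; simp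
    · rw [classInner_neg_left, classInner_neg_right, irr_orthogonality hν2 hμ2, if_neg n22]; simp

end Cfsg.Agent.S1514
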