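import Mathlib
import Cfsg.Statements.S1459
import Cfsg.Agent.Lib.Helper1.CommutatorBasic
import Cfsg.Agent.Lib.Helper1.CoprimeAbelian
import Cfsg.Agent.Lib.Helper22.PPrimeCore
import Cfsg.Agent.Lib.Helper23.PSolvable
import Cfsg.Agent.Lib.Helper7.Cores

set_option autoImplicit false
open Cfsg

namespace Cfsg.Agent.S1459

open Subgroup
open scoped commutatorElement

section basic

variable {G : Type*} [Group G]

lemma conj_central {z w : G} (hz : ∀ g, z * g = g * z) : z * w * z⁻¹ = w := by
  rw [hz w]; group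

lemma comm_central_left {z a y : G} (hz : ∀ g, z * g = g * z) : ⁅z * a, y⁆ = ⁅a, y⁆ := by
  have : ⁅z * a, y⁆ = z * (a * y * a⁻¹) * z⁻¹ * y⁻¹ := by
    simp only [commutatorElement_def]; group
  rw [this, conj_central hz, commutatorElement_def]

lemma comm_central_right {z a y : G} (hz : ∀ g, z * g = g * z) : ⁅a, z * y⁆ = ⁅a, y⁆ := by
  rw [← commutatorElement_inv (z * y) a, comm_central_left hz, commutatorElement_inv]

/-- every element of `H ⊔ K = ⊤` with `H` normal is a product -/
lemma exists_mul_of_sup_eq_top {H K : Subgroup G} [H.Normal] (h : H ⊔ K = ⊤) (g : G) :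
    ∃ x ∈ H, ∃ y ∈ K, g = x * y := by
  have hg : g ∈ ((H ⊔ K : Subgroup G) : Set G) := by rw [h]; trivial
  rw [Subgroup.normal_mul] at hg
  obtain ⟨x, hx, y, hy, rfl⟩ := Set.mem_mul.1 hg
  exact ⟨x, hx, y, hy, rfl⟩

end basic

section partA

variable {G : Type*} [Group G] [Finite G]

/-- `H ≤ [H, G]` for a normal Hall subgroup inside `G'` with a complement -/
lemma le_commutator_top (H K : Subgroup G) [H.Normal] (hcop : (Nat.card H).Coprime (Nat.card K))
    (hsup : H ⊔ K = ⊤) (hHG : H ≤ commutator G) : H ≤ ⁅H, (⊤ : Subgroup G)⁆ := by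
  set N : Subgroup G := ⁅H, (⊤ : Subgroup G)⁆ with hN
  set π := QuotientGroup.mk' N with hπ
  have hcentral : ∀ h ∈ H, ∀ x : G ⧸ N, π h * x = x * π h := by
    intro h hh x
    obtain ⟨g, rfl⟩ := QuotientGroup.mk'_surjective N x
    have h1 : ⁅h, g⁆ ∈ N := Subgroup.commutator_mem_commutator hh (Subgroup.mem_top g)
    have h2 : π ⁅h, g⁆ = 1 := (QuotientGroup.eq_one_iff _).2 h1
    rw [map_commutatorElement, commutatorElement_eq_one_iff_mul_comm] at h2
    exact h2
  -- the derived subgroup of the quotient lies in the image of `K`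
  have hcomm : commutator (G ⧸ N) ≤ K.map π := by
    rw [commutator_def, Subgroup.commutator_le]
    intro x _ y _
    obtain ⟨g₁, rfl⟩ := QuotientGroup.mk'_surjective N x
    obtain ⟨g₂, rfl⟩ := QuotientGroup.mk'_surjective N y
    obtain ⟨h₁, hh₁, k₁, hk₁, rfl⟩ := exists_mul_of_sup_eq_top hsup g₁
    obtain ⟨h₂, hh₂, k₂, hk₂, rfl⟩ := exists_mul_of_sup_eq_top hsup g₂
    change ⁅π (h₁ * k₁), π (h₂ * k₂)⁆ ∈ K.map π
    rw [map_mul, map_mul, comm_central_left (hcentral h₁ hh₁), comm_central_right (hcentral h₂ hh₂),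
      ← map_commutatorElement]
    refine Subgroup.mem_map_of_mem _ ?_
    rw [commutatorElement_def]
    exact K.mul_mem (K.mul_mem (K.mul_mem hk₁ hk₂) (K.inv_mem hk₁)) (K.inv_mem hk₂)
  -- the image of `H` lies in the derived subgroup of the quotient
  have hHc : H.map π ≤ commutator (G ⧸ N) := by
    have h1 : (commutator G).map π ≤ commutator (G ⧸ N) := by
      rw [commutator_def, commutator_def, Subgroup.map_commutator]
      exact Subgroup.commutator_mono le_top le_top
    exact le_trans (Subgroup.map_mono hHG) h1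
  have hHK : H.map π ≤ K.map π := le_trans hHc hcomm
  -- coprimality forces the image of `H` to be trivial
  have hbot : H.map π = ⊥ := by
    have h1 : Nat.card (H.map π) ∣ Nat.card H := Subgroup.card_map_dvd H π
    have h2 : Nat.card (H.map π) ∣ Nat.card K :=
      dvd_trans (Subgroup.card_dvd_of_le hHK) (Subgroup.card_map_dvd K π)
    have h3 : Nat.card (H.map π) ∣ 1 := by
      rw [← Nat.Coprime.gcd_eq_one hcop]
      exact Nat.dvd_gcd h1 h2
    exact Subgroup.card_eq_one.1 (Nat.dvd_one.1 h3)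
  intro h hh
  have h1 : π h ∈ H.map π := Subgroup.mem_map_of_mem _ hh
  rw [hbot, Subgroup.mem_bot] at h1
  exact (QuotientGroup.eq_one_iff _).1 h1

omit [Finite G] in
/-- `[H, G] ≤ [H, H][H, K]` when `G = HK` -/
lemma commutator_top_le (H K : Subgroup G) [H.Normal] (hsup : H ⊔ K = ⊤) :
    ⁅H, (⊤ : Subgroup G)⁆ ≤ ⁅H, H⁆ ⊔ ⁅H, K⁆ := by
  rw [Subgroup.commutator_le]
  intro h hh g _
  obtain ⟨x, hx, y, hy, rfl⟩ := exists_mul_of_sup_eq_top hsup g
  have e : ⁅h, x * y⁆ = ⁅h, x⁆ * (x * ⁅h, y⁆ * x⁻¹) := by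
    simp only [commutatorElement_def]; group
  rw [e]
  refine Subgroup.mul_mem _ (Subgroup.mem_sup_left (Subgroup.commutator_mem_commutator hh hx))
    (Subgroup.mem_sup_right ?_)
  exact Cfsg.Agent.Helper1.conj_mem_commutator_left hx (Subgroup.commutator_mem_commutator hh hy)

/-- part (a), first claim -/
lemma eq_commutator [Group.IsSolvable G] (H K : Subgroup G) [H.Normal]
    (hcop : (Nat.card H).Coprime (Nat.card K)) (hsup : H ⊔ K = ⊤) (hHG : H ≤ commutator G) :
    H = ⁅H, K⁆ := by
  refine le_antisymm ?_ (Subgroup.commutator_le_left H K)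
  set M : Subgroup G := ⁅H, K⁆ with hM
  have hMn : M.Normal := by
    apply Subgroup.normalizer_eq_top_iff.1
    rw [eq_top_iff, ← hsup]
    exact sup_le (Cfsg.Agent.Helper1.le_normalizer_commutator_left H K)
      (Cfsg.Agent.Helper1.le_normalizer_commutator_right H K)
  have h1 : H ≤ ⁅H, H⁆ ⊔ M :=
    le_trans (le_commutator_top H K hcop hsup hHG) (commutator_top_le H K hsup)
  set π := QuotientGroup.mk' M with hπ
  have h2 : H.map π ≤ ⁅H.map π, H.map π⁆ := by
    rw [← Subgroup.map_commutator]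
    intro x hx
    obtain ⟨h, hh, rfl⟩ := Subgroup.mem_map.1 hx
    have h3 := h1 hh
    have h4 : π h ∈ (⁅H, H⁆ ⊔ M).map π := Subgroup.mem_map_of_mem _ h3
    rw [Subgroup.map_sup] at h4
    have h5 : M.map π = ⊥ := by
      rw [eq_bot_iff]
      rintro y ⟨m, hm, rfl⟩
      rw [Subgroup.mem_bot]
      exact (QuotientGroup.eq_one_iff _).2 hm
    rw [h5, sup_bot_eq] at h4
    exact h4
  have h3 : H.map π = ⊥ := by
    by_contra hne
    exact absurd h2 (not_le_of_gt (Group.IsSolvable.commutator_lt_of_ne_bot hne))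
  intro h hh
  have h4 : π h ∈ H.map π := Subgroup.mem_map_of_mem _ hh
  rw [h3, Subgroup.mem_bot] at h4
  exact (QuotientGroup.eq_one_iff _).1 h4

/-- part (a), second claim -/
lemma inf_centralizer_le (H K : Subgroup G) [H.Normal]
    (hcop : (Nat.card H).Coprime (Nat.card K)) (hHK : H = ⁅H, K⁆) :
    H ⊓ Subgroup.centralizer (K : Set G) ≤ ⁅H, H⁆ := by
  set D : Subgroup G := ⁅H, H⁆ with hD
  set π := QuotientGroup.mk' D with hπ
  set V := H.map π with hV
  set A := K.map π with hA
  haveI : V.Normal := Subgroup.Normal.map inferInstance π (QuotientGroup.mk'_surjective D)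
  have hVc : ⁅V, V⁆ = ⊥ := by
    rw [hV, ← Subgroup.map_commutator, eq_bot_iff]
    rintro y ⟨m, hm, rfl⟩
    rw [Subgroup.mem_bot]
    exact (QuotientGroup.eq_one_iff _).2 hm
  haveI : IsMulCommutative V := by
    refine ⟨⟨fun a b => ?_⟩⟩
    have h1 : ⁅(a : G ⧸ D), (b : G ⧸ D)⁆ ∈ ⁅V, V⁆ := Subgroup.commutator_mem_commutator a.2 b.2
    rw [hVc, Subgroup.mem_bot, commutatorElement_eq_one_iff_mul_comm] at h1
    exact Subtype.ext h1
  have hAV : A ≤ Subgroup.normalizer (V : Set (G ⧸ D)) := by
    rw [Subgroup.normalizer_eq_top]; exact le_top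
  have hcop' : (Nat.card A).Coprime (Nat.card V) := by
    refine Nat.Coprime.coprime_dvd_left (Subgroup.card_map_dvd K π) ?_
    exact (Nat.Coprime.coprime_dvd_left (Subgroup.card_map_dvd H π) hcop).symm
  have hkey := Cfsg.Agent.Helper1.commutator_inf_centralizer_eq_bot A V hAV hcop'
  have hVA : ⁅V, A⁆ = V := by
    rw [hV, hA, ← Subgroup.map_commutator, ← hHK]
  rw [hVA] at hkey
  intro x hx
  obtain ⟨hxH, hxC⟩ := Subgroup.mem_inf.1 hx
  have h1 : π x ∈ V ⊓ Subgroup.centralizer (A : Set (G ⧸ D)) := by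
    refine Subgroup.mem_inf.2 ⟨Subgroup.mem_map_of_mem _ hxH, ?_⟩
    rw [Subgroup.mem_centralizer_iff]
    rintro y ⟨k, hk, rfl⟩
    have := (Subgroup.mem_centralizer_iff.1 hxC) k hk
    rw [← map_mul, ← map_mul, this]
  rw [hkey, Subgroup.mem_bot] at h1
  exact (QuotientGroup.eq_one_iff _).1 h1

end partA

section partB

universe u

/-- `P = ⟨g⟩ P'` -/
def CycMod (P : Type u) [Group P] : Prop :=
  ∃ g : P, ∀ x : P, ∃ n : ℤ, ∃ c ∈ commutator P, x = g ^ n * c

lemma cycMod_of_surjective {A B : Type u} [Group A] [Group B] (f : A →* B)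
    (hf : Function.Surjective f) (h : CycMod A) : CycMod B := by
  obtain ⟨g, hg⟩ := h
  refine ⟨f g, fun y => ?_⟩
  obtain ⟨x, rfl⟩ := hf y
  obtain ⟨n, c, hc, rfl⟩ := hg x
  refine ⟨n, f c, ?_, by rw [map_mul, map_zpow]⟩
  have h1 : (commutator A).map f ≤ commutator B := by
    rw [commutator_def, commutator_def, Subgroup.map_commutator]
    exact Subgroup.commutator_mono le_top le_top
  exact h1 (Subgroup.mem_map_of_mem _ hc)

lemma cycMod_of_isCyclic_quotient {A : Type u} [Group A]
    (h : IsCyclic (A ⧸ commutator A)) : CycMod A := by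
  obtain ⟨y, hy⟩ := h.exists_zpow_surjective
  obtain ⟨g, rfl⟩ := QuotientGroup.mk'_surjective (commutator A) y
  refine ⟨g, fun x => ?_⟩
  obtain ⟨n, hn⟩ := hy (QuotientGroup.mk' (commutator A) x)
  simp only at hn
  refine ⟨n, (g ^ n)⁻¹ * x, ?_, by group⟩
  rw [← map_zpow] at hn
  exact (QuotientGroup.eq (s := commutator A)).1 hn

/-- a finite `p`-group that is cyclic modulo its derived subgroup is abelian -/
lemma comm_of_cycMod {p : ℕ} [Fact p.Prime] : ∀ (n : ℕ) (P : Type u) [Group P] [Finite P],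
    Nat.card P = n → IsPGroup p P → CycMod P → ∀ a b : P, a * b = b * a := by
  intro n
  induction n using Nat.strong_induction_on with
  | _ n ih =>
    intro P _ _ hcard hP hcyc
    rcases subsingleton_or_nontrivial P with hsub | hnt
    · intro a b; exact Subsingleton.elim _ _
    · haveI := hP.center_nontrivial
      set Z := Subgroup.center P with hZ
      have hZ1 : 1 < Nat.card Z := Finite.one_lt_card
      have hlt : Nat.card (P ⧸ Z) < n := by
        have h1 : Nat.card Z * Nat.card (P ⧸ Z) = Nat.card P := by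
          rw [mul_comm]; exact (Subgroup.card_eq_card_quotient_mul_card_subgroup Z).symm
        have h2 : 0 < Nat.card (P ⧸ Z) := Nat.card_pos
        rw [← hcard, ← h1]
        nlinarith
      have hQcyc : CycMod (P ⧸ Z) :=
        cycMod_of_surjective (QuotientGroup.mk' Z) (QuotientGroup.mk'_surjective Z) hcyc
      have hQcomm := ih _ hlt (P ⧸ Z) rfl (hP.to_quotient Z) hQcyc
      have hQc : commutator (P ⧸ Z) = ⊥ := by
        rw [commutator_def, eq_bot_iff, Subgroup.commutator_le]
        intro x _ y _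
        rw [Subgroup.mem_bot, commutatorElement_eq_one_iff_mul_comm]
        exact hQcomm x y
      haveI : IsCyclic (P ⧸ Z) := by
        obtain ⟨g, hg⟩ := hQcyc
        refine ⟨g, fun x => ?_⟩
        obtain ⟨k, c, hc, rfl⟩ := hg x
        rw [hQc, Subgroup.mem_bot] at hc
        exact ⟨k, by simp [hc]⟩
      exact commutative_of_cyclic_center_quotient (QuotientGroup.mk' Z)
        (by rw [QuotientGroup.ker_mk'])

/-- a finite nilpotent group with trivial `O_{q'}` is a `q`-group -/
lemma isPGroup_of_pPrimeCore_eq_bot {N : Type u} [Group N] [Finite N] [Group.IsNilpotent N]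
    (q : ℕ) [Fact q.Prime] (h : Cfsg.pPrimeCore q N = ⊥) : IsPGroup q N := by
  rw [IsPGroup.iff_card]
  refine ⟨_, Nat.eq_prime_pow_of_unique_prime_dvd Nat.card_pos.ne' ?_⟩
  intro r hr hrN
  by_contra hne
  haveI : Fact r.Prime := ⟨hr⟩
  obtain ⟨P⟩ : Nonempty (Sylow r N) := inferInstance
  have hPn : (P : Subgroup N).Normal := inferInstance
  have hPc : (Nat.card (P : Subgroup N)).Coprime q := by
    obtain ⟨k, hk⟩ := IsPGroup.iff_card.1 P.isPGroup'
    rw [hk]
    exact Nat.Coprime.pow_left _ ((Nat.coprime_primes hr (Fact.out : q.Prime)).2 hne)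
  have hPle := Cfsg.Agent.Helper22.le_pPrimeCore q (P : Subgroup N) hPn hPc
  rw [h, le_bot_iff] at hPle
  exact P.ne_bot_of_dvd_card hrN hPle

/-- part (b), first claim -/
lemma coprime_index {G : Type u} [Group G] [Finite G]
    (hnil : Group.IsNilpotent ↥(commutator G)) (hq : (commutator G).index.Prime) :
    (Nat.card ↥(commutator G)).Coprime (commutator G).index := by
  set D := commutator G with hD
  set q := D.index with hqdef
  haveI : Fact q.Prime := ⟨hq⟩
  set T₀ : Subgroup ↥D := Cfsg.pPrimeCore q ↥D with hT₀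
  haveI hT₀n : T₀.Normal := Cfsg.Agent.Helper22.pPrimeCore_normal q
  haveI hT₀c : T₀.Characteristic := Cfsg.Agent.Helper7.pPrimeCore_characteristic q
  set T : Subgroup G := T₀.map D.subtype with hT
  haveI hTn : T.Normal := ConjAct.normal_of_characteristic_of_normal
  have hbot : Cfsg.pPrimeCore q (↥D ⧸ T₀) = ⊥ :=
    Cfsg.Agent.Helper23.PSolv.pPrimeCore_quotient_pPrimeCore q
  have hpq : IsPGroup q (↥D ⧸ T₀) := isPGroup_of_pPrimeCore_eq_bot q hbot
  obtain ⟨k, hk⟩ := IsPGroup.iff_card.1 hpq
  have hTidx : T.index = q ^ k * q := by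
    rw [hT, Subgroup.index_map_subtype, Subgroup.index_eq_card, hk]
  have hP : IsPGroup q (G ⧸ T) := by
    refine IsPGroup.of_card (n := k + 1) ?_
    rw [← Subgroup.index_eq_card, hTidx, pow_succ]
  have hcycG : CycMod G := by
    apply cycMod_of_isCyclic_quotient
    exact isCyclic_of_prime_card (p := q) (by rw [← Subgroup.index_eq_card])
  have hcyc : CycMod (G ⧸ T) :=
    cycMod_of_surjective (QuotientGroup.mk' T) (QuotientGroup.mk'_surjective T) hcycG
  have hcomm := comm_of_cycMod (p := q) _ (G ⧸ T) rfl hP hcyc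
  have hDT : D ≤ T := by
    rw [hD, commutator_def, Subgroup.commutator_le]
    intro a _ b _
    have h2 : (QuotientGroup.mk' T) ⁅a, b⁆ = 1 := by
      rw [map_commutatorElement, commutatorElement_eq_one_iff_mul_comm]
      exact hcomm _ _
    exact (QuotientGroup.eq_one_iff _).1 h2
  have hT₀top : T₀ = ⊤ := by
    rw [eq_top_iff]
    intro x _
    obtain ⟨y, hy, hxy⟩ := hDT x.2
    have : y = x := Subtype.ext hxy
    rwa [← this]
  have h1 := Cfsg.Agent.Helper22.card_pPrimeCore_coprime (G := ↥D) q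
  rw [← hT₀, hT₀top, Subgroup.card_top] at h1
  exact h1

end partB

/-- Let G be a finite solvable group. (a) If H is a normal subgroup of order coprime to its index, K is a complement to H, and H ≤ G', then H = [H, K] and H ∩ C_G(K) ≤ [H, H]. (b) If G' is nilpotent and has prime index in G, then the order of G' is coprime to its index and G' = [G, K] (the subgroup generated by commutators of elements of G with elements of K) for every complement K of G'. -/
theorem result {G : Type*} [Group G] [Finite G] [Group.IsSolvable G] :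
    (∀ (H K : Subgroup G), H.Normal → (Nat.card H).Coprime H.index → Subgroup.IsComplement' H K → H ≤ commutator G →
        H = ⁅H, K⁆ ∧ H ⊓ Subgroup.centralizer (K : Set G) ≤ ⁅H, H⁆) ∧
      (Group.IsNilpotent ↥(commutator G) → (commutator G).index.Prime →
        (Nat.card ↥(commutator G)).Coprime (commutator G).index ∧
        ∀ K : Subgroup G, Subgroup.IsComplement' (commutator G) K → commutator G = ⁅(⊤ : Subgroup G), K⁆) := by
  refine ⟨?_, ?_⟩
  · intro H K hHn hcop hcompl hHG
    haveI := hHn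
    have hcop' : (Nat.card H).Coprime (Nat.card K) := by
      rwa [hcompl.symm.index_eq_card] at hcop
    have hsup : H ⊔ K = ⊤ := hcompl.sup_eq_top
    have h1 := eq_commutator H K hcop' hsup hHG
    exact ⟨h1, inf_centralizer_le H K hcop' h1⟩
  · intro hnil hq
    have hcop := coprime_index hnil hq
    refine ⟨hcop, fun K hK => ?_⟩
    have hcop' : (Nat.card ↥(commutator G)).Coprime (Nat.card K) := by
      rwa [hK.symm.index_eq_card] at hcop
    have h1 := eq_commutator (commutator G) K hcop' hK.sup_eq_top le_rfl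
    refine le_antisymm ?_ ?_
    · calc commutator G = ⁅commutator G, K⁆ := h1
        _ ≤ ⁅(⊤ : Subgroup G), K⁆ := Subgroup.commutator_mono le_top le_rfl
    · rw [commutator_def]
      exact Subgroup.commutator_mono le_rfl le_top

end Cfsg.Agent.S1459
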