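import Mathlib
import Cfsg.Statements.S1519
import Cfsg.Agent.Lib.Helper8.Coh6
import Cfsg.Agent.Lib.Helper24.CharAlgebra

set_option autoImplicit false
open Cfsg

namespace Cfsg.Agent.S1519

open Cfsg.Agent.Helper8 Cfsg.Agent.Helper24 Cfsg.Agent.Helper8.Coh6
open scoped ComplexConjugate

/-- the standard degree and norm functions on a coherence system -/
lemma deg_norm {L : Type*} [Group L] [Fintype L] {S : Set (L → ℂ)}
    (hchar : ∀ χ ∈ S, Cfsg.IsCharacter L χ) :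
    (∀ φ ∈ S, φ 1 = ((charDegree φ : ℕ) : ℂ)) ∧
    (∀ φ ∈ S, Cfsg.classInner φ φ = ((⌊(Cfsg.classInner φ φ).re⌋₊ : ℕ) : ℂ)) := by
  refine ⟨fun φ hφ => char_one_eq_charDegree (hchar φ hφ), fun φ hφ => ?_⟩
  letI : Fintype (IrrCharacter L) := irrFintype
  obtain ⟨m, hm⟩ := classInner_char_nat (hchar φ hφ) (hchar φ hφ)
  rw [hm]
  simp

/-- the numerical step: `4 [L:C]² [C:D] < (a-1)²` and `t² ≤ [K:C]² [C:D]` give
`2 (e t) e < e (a - 1)` -/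
lemma numeric {e c r a t : ℕ} (he : 0 < e) (ha : 1 ≤ a)
    (hlt : 4 * (c * e) ^ 2 * r < (a - 1) ^ 2) (ht : (t : ℝ) ^ 2 ≤ (c : ℝ) ^ 2 * (r : ℝ)) :
    (2 * ((e * t : ℕ) : ℝ) * (e : ℝ)) < (e : ℝ) * ((a : ℝ) - 1) := by
  have heR : (0 : ℝ) < e := by exact_mod_cast he
  have h1 : ((4 * (c * e) ^ 2 * r : ℕ) : ℝ) < (((a - 1) ^ 2 : ℕ) : ℝ) := by exact_mod_cast hlt
  have h2 : (((a - 1 : ℕ) : ℝ)) = (a : ℝ) - 1 := by
    rw [Nat.cast_sub ha]; simp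
  push_cast at h1
  rw [h2] at h1
  have ha' : (0 : ℝ) ≤ (a : ℝ) - 1 := by
    have : (1 : ℝ) ≤ a := by exact_mod_cast ha
    linarith
  have h3 : (2 * ((e : ℝ) * t) * e) ^ 2 < ((e : ℝ) * ((a : ℝ) - 1)) ^ 2 := by
    have h4 : (2 * ((e : ℝ) * t) * e) ^ 2 = (e : ℝ) ^ 2 * (4 * (e : ℝ) ^ 2 * (t : ℝ) ^ 2) := by ring
    have h5 : 4 * (e : ℝ) ^ 2 * (t : ℝ) ^ 2 ≤ 4 * ((c : ℝ) * e) ^ 2 * r := by
      have : 4 * (e : ℝ) ^ 2 * (t : ℝ) ^ 2 ≤ 4 * (e : ℝ) ^ 2 * ((c : ℝ) ^ 2 * r) :=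
        mul_le_mul_of_nonneg_left ht (by positivity)
      calc 4 * (e : ℝ) ^ 2 * (t : ℝ) ^ 2 ≤ 4 * (e : ℝ) ^ 2 * ((c : ℝ) ^ 2 * r) := this
        _ = 4 * ((c : ℝ) * e) ^ 2 * r := by ring
    have h6 : 4 * (e : ℝ) ^ 2 * (t : ℝ) ^ 2 < ((a : ℝ) - 1) ^ 2 := lt_of_le_of_lt h5 h1
    rw [h4, mul_pow]
    exact mul_lt_mul_of_pos_left h6 (by positivity)
  push_cast
  exact lt_of_pow_lt_pow_left₀ 2 (by positivity) h3

/-- Let K be a solvable normal subgroup of the finite group L and (S, τ, R) a coherence system from L to G where S is the set of functions induced from non-principal irreducible characters of K; write S(A) for those induced from characters whose kernel contains A. Let A, B, C, D be normal subgroups of L with A < K, B < K, B ≤ D ≤ C ≤ K and every commutator of D with C in B. If S(A) is coherent and 4 * [L:C]^2 * [C:D] < ([K:A] − 1)^2, then S(B) is coherent.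 -/
theorem result {L : Type*} [Group L] [Fintype L] {G : Type*} [Group G] [Fintype G] (K : Subgroup L) [hK : K.Normal] (hsolv : Group.IsSolvable K) (τ : (L → ℂ) → (G → ℂ)) (R : (L → ℂ) → Finset (G → ℂ)) (hS : Cfsg.IsCoherenceSystem (Cfsg.inducedIrrAbove K ⊥) τ R) (A B C D : Subgroup L) [A.Normal] [B.Normal] [C.Normal] [D.Normal] (hAK : A < K) (hBK : B < K) (hBD : B ≤ D) (hDC : D ≤ C) (hCK : C ≤ K) (hcent : ∀ x ∈ D, ∀ y ∈ C, x * y * x⁻¹ * y⁻¹ ∈ B) (hA : Cfsg.IsCoherent (Cfsg.inducedIrrAbove K A) {1}ᶜ τ) (hlt : 4 * C.index ^ 2 * D.relIndex C < (A.relIndex K - 1) ^ 2) : Cfsg.IsCoherent (Cfsg.inducedIrrAbove K B) {1}ᶜ τ := by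
  classical
  have hfin : (Cfsg.inducedIrrAbove K ⊥).Finite := inducedIrrAbove_finite K ⊥
  obtain ⟨hd, hn⟩ := deg_norm hS.isCharacter
  set d : (L → ℂ) → ℕ := fun φ => charDegree φ with hddef
  set n : (L → ℂ) → ℕ := fun φ => ⌊(Cfsg.classInner φ φ).re⌋₊ with hndef
  have he : 0 < K.index := Nat.pos_of_ne_zero Subgroup.index_ne_zero_of_finite
  -- the finite set `S(A)`
  set SA : Finset (L → ℂ) := (inducedIrrAbove_finite K A).toFinset with hSAdef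
  have hSA : (↑SA : Set (L → ℂ)) = Cfsg.inducedIrrAbove K A := Set.Finite.coe_toFinset _
  have hSAS : (↑SA : Set (L → ℂ)) ⊆ Cfsg.inducedIrrAbove K ⊥ := by
    rw [hSA]; exact inducedIrrAbove_subset_bot K A
  have hSAc : ∀ φ ∈ SA, Cfsg.conjFun φ ∈ SA := by
    intro φ hφ
    rw [← Finset.mem_coe, hSA] at hφ ⊢
    exact inducedIrrAbove_conj K hφ
  have hcohA : Cfsg.IsCoherent (↑SA : Set (L → ℂ)) {1}ᶜ τ := by rw [hSA]; exact hA
  -- a member of degree `[L:K]`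
  obtain ⟨θ₁, hθ₁, hθ₁ne, hθ₁A, hθ₁1⟩ := exists_linear K hsolv hAK
  have hχ₁A : Cfsg.indFun K θ₁ ∈ Cfsg.inducedIrrAbove K A := ⟨θ₁, hθ₁, hθ₁ne, hθ₁A, rfl⟩
  have hχ₁ : Cfsg.indFun K θ₁ ∈ SA := by rw [← Finset.mem_coe, hSA]; exact hχ₁A
  have hdχ₁ : d (Cfsg.indFun K θ₁) = K.index := by
    apply charDegree_natCast
    rw [Helper24.indFun_one, hθ₁1, mul_one]
  -- degrees in `S(B)`
  have hdT : ∀ χ ∈ Cfsg.inducedIrrAbove K B, ∃ t : ℕ, d χ = K.index * t ∧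
      (t : ℝ) ^ 2 ≤ ((C.relIndex K : ℝ)) ^ 2 * (D.relIndex C : ℝ) := by
    rintro χ ⟨θ, hθ, -, hθB, rfl⟩
    obtain ⟨t, -, ht⟩ := irr_one_eq hθ
    refine ⟨t, ?_, ?_⟩
    · apply charDegree_natCast
      rw [Helper24.indFun_one, ht]; push_cast; rfl
    · have := degree_bound K hCK hcent hθ hθB
      rw [ht] at this
      simpa using this
  have hT : Cfsg.inducedIrrAbove K B ⊆ Cfsg.inducedIrrAbove K ⊥ := inducedIrrAbove_subset_bot K B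
  have hdvd : ∀ χ ∈ Cfsg.inducedIrrAbove K B, d (Cfsg.indFun K θ₁) ∣ d χ := by
    intro χ hχ
    obtain ⟨t, ht, -⟩ := hdT χ hχ
    rw [hdχ₁, ht]
    exact Dvd.intro _ rfl
  have hapos : 1 ≤ A.relIndex K := Nat.pos_of_ne_zero (by
    haveI : Finite L := Finite.of_fintype L
    exact Subgroup.index_ne_zero_of_finite)
  have hsum := sum_bound K A d n (fun φ hφ => hd φ (inducedIrrAbove_subset_bot K A hφ))
    (fun φ hφ => hn φ (inducedIrrAbove_subset_bot K A hφ)) SA hSA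
  have hineq : ∀ χ ∈ Cfsg.inducedIrrAbove K B, (2 * d χ * d (Cfsg.indFun K θ₁) : ℝ) <
      ∑ φ ∈ SA, ((d φ : ℝ) ^ 2 / (n φ : ℝ)) := by
    intro χ hχ
    obtain ⟨t, ht, hbound⟩ := hdT χ hχ
    refine lt_of_lt_of_le ?_ hsum
    rw [hdχ₁, ht]
    refine numeric he hapos ?_ hbound
    rw [Subgroup.relIndex_mul_index hCK]
    exact hlt
  obtain ⟨S₁, -, -, h2, -, h4⟩ := extend_coherent _ τ R hS hfin d n hd hn SA hSAS hSAc hcohA
    (Cfsg.indFun K θ₁) hχ₁ (Cfsg.inducedIrrAbove K B) hT hdvd hineq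
  refine coherent_subset h4 h2 ?_
  -- a nonzero member of `ℤ[S(B), L#]`
  obtain ⟨θ₂, hθ₂, hθ₂ne, hθ₂B, -⟩ := exists_linear K hsolv hBK
  have hχ₂B : Cfsg.indFun K θ₂ ∈ Cfsg.inducedIrrAbove K B := ⟨θ₂, hθ₂, hθ₂ne, hθ₂B, rfl⟩
  have hχ₂S := hT hχ₂B
  refine ⟨Cfsg.indFun K θ₂ - Cfsg.conjFun (Cfsg.indFun K θ₂),
    sub_conj_mem_zspanOn hχ₂B (inducedIrrAbove_conj K hχ₂B) (S1516.conj_one hS hχ₂S), ?_⟩
  intro h0
  apply hS.conj_ne _ hχ₂S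
  rw [sub_eq_zero] at h0
  exact h0.symm

end Cfsg.Agent.S1519
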