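import Mathlib
import Cfsg.Statements.S1520
import Cfsg.Agent.S1519

set_option autoImplicit false
open Cfsg

namespace Cfsg.Agent.S1520

open Cfsg.Agent.Helper8 Cfsg.Agent.Helper24 Cfsg.Agent.Helper8.Coh6
open scoped commutatorElement

section series

variable {L : Type*} [Group L]

/-- the descending series `N₀ = H₁`, `N_{i+1} = [N_i, H] M` -/
def ser (H₁ H M : Subgroup L) : ℕ → Subgroup L
  | 0 => H₁
  | (i + 1) => ⁅ser H₁ H M i, H⁆ ⊔ M

variable (H₁ H M : Subgroup L)

lemma ser_normal [H₁.Normal] [H.Normal] [M.Normal] (i : ℕ) : (ser H₁ H M i).Normal := by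
  induction i with
  | zero => exact inferInstanceAs H₁.Normal
  | succ i ih =>
    haveI := ih
    exact inferInstanceAs (⁅ser H₁ H M i, H⁆ ⊔ M).Normal

lemma le_ser (hMH₁ : M ≤ H₁) (i : ℕ) : M ≤ ser H₁ H M i := by
  cases i with
  | zero => exact hMH₁
  | succ i => exact le_sup_right

lemma ser_succ_le [H₁.Normal] [H.Normal] [M.Normal] (hMH₁ : M ≤ H₁) (i : ℕ) :
    ser H₁ H M (i + 1) ≤ ser H₁ H M i := by
  haveI := ser_normal H₁ H M i
  exact sup_le (Subgroup.commutator_le_left _ _) (le_ser H₁ H M hMH₁ i)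

lemma ser_le [H₁.Normal] [H.Normal] [M.Normal] (hMH₁ : M ≤ H₁) (i : ℕ) :
    ser H₁ H M i ≤ H₁ := by
  induction i with
  | zero => exact le_refl _
  | succ i ih => exact le_trans (ser_succ_le H₁ H M hMH₁ i) ih

/-- the full preimage in `L` of the `i`-th lower central term of `H/M` -/
def gam [(M.subgroupOf H).Normal] (i : ℕ) : Subgroup L :=
  (((⊤ : Subgroup (↥H ⧸ M.subgroupOf H)).lowerCentralSeries i).comap
    (QuotientGroup.mk' (M.subgroupOf H))).map H.subtype

lemma ser_le_gam [H₁.Normal] [H.Normal] [M.Normal] [(M.subgroupOf H).Normal] (hMH₁ : M ≤ H₁)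
    (hH₁H : H₁ ≤ H) (i : ℕ) : ser H₁ H M i ≤ gam H M i := by
  induction i with
  | zero =>
    intro x hx
    exact ⟨⟨x, hH₁H hx⟩, Subgroup.mem_comap.2 (Subgroup.mem_top _), rfl⟩
  | succ i ih =>
    refine sup_le ?_ ?_
    · rw [Subgroup.commutator_le]
      intro x hx h hh
      obtain ⟨x', hx', rfl⟩ := ih hx
      refine ⟨⁅x', ⟨h, hh⟩⁆, ?_, ?_⟩
      · rw [SetLike.mem_coe, Subgroup.mem_comap, map_commutatorElement,
          Subgroup.lowerCentralSeries_succ]
        exact Subgroup.commutator_mem_commutator (Subgroup.mem_comap.1 hx') (Subgroup.mem_top _)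
      · simp [commutatorElement_def]
    · intro m hm
      have hmH : m ∈ H := hH₁H (hMH₁ hm)
      refine ⟨⟨m, hmH⟩, ?_, rfl⟩
      rw [SetLike.mem_coe, Subgroup.mem_comap]
      have : (QuotientGroup.mk' (M.subgroupOf H)) ⟨m, hmH⟩ = 1 := by
        rw [QuotientGroup.mk'_apply, QuotientGroup.eq_one_iff, Subgroup.mem_subgroupOf]
        exact hm
      rw [this]
      exact Subgroup.one_mem _

lemma gam_le [(M.subgroupOf H).Normal] {c : ℕ}
    (hc : (⊤ : Subgroup (↥H ⧸ M.subgroupOf H)).lowerCentralSeries c = ⊥) : gam H M c ≤ M := by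
  rintro x ⟨x', hx', rfl⟩
  rw [SetLike.mem_coe, Subgroup.mem_comap, hc, Subgroup.mem_bot, QuotientGroup.mk'_apply,
    QuotientGroup.eq_one_iff, Subgroup.mem_subgroupOf] at hx'
  exact hx'

end series

lemma numeric2 {e k h : ℕ} (hk : 1 ≤ k) (hh : 4 * e ^ 2 + 2 ≤ h) :
    4 * (k * e) ^ 2 * h < (h * k - 1) ^ 2 := by
  have hhk : 1 ≤ h * k := Nat.one_le_iff_ne_zero.2 (Nat.mul_ne_zero (by omega) (by omega))
  obtain ⟨u, hu⟩ : ∃ u, h * k = u + 1 := ⟨h * k - 1, by omega⟩
  rw [hu, Nat.add_sub_cancel]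
  zify at hk hh hu ⊢
  have hH0 : (0 : ℤ) ≤ h := by positivity
  have hK0 : (0 : ℤ) ≤ k := by positivity
  have hu' : (u : ℤ) = h * k - 1 := by linarith
  rw [hu']
  nlinarith [mul_nonneg (mul_nonneg (sq_nonneg (k : ℤ)) hH0) (sub_nonneg.2 hh),
    mul_nonneg (mul_nonneg hH0 hK0) (sub_nonneg.2 hk)]

/-- Let K be a solvable normal subgroup of the finite group L and (S, τ, R) a coherence system from L to G with S the functions induced from non-principal irreducible characters of K; S(A) the members of S induced from characters whose kernel contains A. Let M ≤ H₁ ≤ H ≤ K be normal subgroups of L such that every term of the lower central series of H eventually lies in M (H/M nilpotent), S(H₁) is coherent and [H:H₁] > 4 * [L:K]^2 + 1. Then S(M) is coherent. -/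
theorem result {L : Type*} [Group L] [Fintype L] {G : Type*} [Group G] [Fintype G] (K : Subgroup L) [hK : K.Normal] (hsolv : Group.IsSolvable K) (τ : (L → ℂ) → (G → ℂ)) (R : (L → ℂ) → Finset (G → ℂ)) (hS : Cfsg.IsCoherenceSystem (Cfsg.inducedIrrAbove K ⊥) τ R) (M H₁ H : Subgroup L) [M.Normal] [H₁.Normal] [H.Normal] (hMH₁ : M ≤ H₁) (hH₁H : H₁ ≤ H) (hHK : H ≤ K) [(M.subgroupOf H).Normal] (hnil : Group.IsNilpotent (↥H ⧸ M.subgroupOf H)) (hcoh : Cfsg.IsCoherent (Cfsg.inducedIrrAbove K H₁) {1}ᶜ τ) (hbig : 4 * K.index ^ 2 + 1 < H₁.relIndex H) : Cfsg.IsCoherent (Cfsg.inducedIrrAbove K M) {1}ᶜ τ := by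
  classical
  haveI : Finite L := Finite.of_fintype L
  obtain ⟨c, hc⟩ := Subgroup.nilpotent_iff_lowerCentralSeries.1 hnil
  -- `H₁ < H`
  have hH₁ltH : H₁ < H := by
    refine lt_of_le_of_ne hH₁H ?_
    intro h
    have : H₁.relIndex H = 1 := Subgroup.relIndex_eq_one.2 (by rw [h])
    omega
  have hstep : ∀ i : ℕ, Cfsg.IsCoherent (Cfsg.inducedIrrAbove K (ser H₁ H M i)) {1}ᶜ τ := by
    intro i
    induction i with
    | zero => exact hcoh
    | succ i ih =>
      haveI := ser_normal H₁ H M i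
      haveI := ser_normal H₁ H M (i + 1)
      have hle := ser_le H₁ H M hMH₁ i
      have hle' := ser_le H₁ H M hMH₁ (i + 1)
      have hltK : ∀ j, ser H₁ H M j < K := fun j =>
        lt_of_le_of_lt (ser_le H₁ H M hMH₁ j) (lt_of_lt_of_le hH₁ltH hHK)
      refine Cfsg.Agent.S1519.result K hsolv τ R hS (ser H₁ H M i) (ser H₁ H M (i + 1)) H
        (ser H₁ H M i) (hltK i) (hltK (i + 1)) (ser_succ_le H₁ H M hMH₁ i) (le_trans hle hH₁H) hHK
        ?_ ih ?_
      · intro x hx y hy
        have : ⁅x, y⁆ ∈ ⁅ser H₁ H M i, H⁆ := Subgroup.commutator_mem_commutator hx hy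
        rw [commutatorElement_def] at this
        exact (le_sup_left : ⁅ser H₁ H M i, H⁆ ≤ ser H₁ H M (i + 1)) this
      · -- the numerical condition
        have h1 : H.relIndex K * K.index = H.index := Subgroup.relIndex_mul_index hHK
        have h2 : (ser H₁ H M i).relIndex H * H.relIndex K = (ser H₁ H M i).relIndex K :=
          Subgroup.relIndex_mul_relIndex _ _ _ (le_trans hle hH₁H) hHK
        have h3 : (ser H₁ H M i).relIndex H₁ * H₁.relIndex H = (ser H₁ H M i).relIndex H :=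
          Subgroup.relIndex_mul_relIndex _ _ _ hle hH₁H
        have h4 : 1 ≤ (ser H₁ H M i).relIndex H₁ :=
          Nat.one_le_iff_ne_zero.2 Subgroup.index_ne_zero_of_finite
        have h5 : 1 ≤ H.relIndex K := Nat.one_le_iff_ne_zero.2 Subgroup.index_ne_zero_of_finite
        have h6 : 4 * K.index ^ 2 + 2 ≤ (ser H₁ H M i).relIndex H := by
          rw [← h3]
          calc 4 * K.index ^ 2 + 2 ≤ H₁.relIndex H := hbig
            _ = 1 * H₁.relIndex H := (one_mul _).symm
            _ ≤ _ := Nat.mul_le_mul_right _ h4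
        rw [← h1, ← h2]
        exact numeric2 h5 h6
  have hfinal : ser H₁ H M c = M :=
    le_antisymm (le_trans (ser_le_gam H₁ H M hMH₁ hH₁H c) (gam_le H M hc)) (le_ser H₁ H M hMH₁ c)
  rw [← hfinal]
  exact hstep c

end Cfsg.Agent.S1520
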