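import Mathlib
import Cfsg.Statements.S1521
import Cfsg.Agent.S1520
import Cfsg.Agent.S1459
import Cfsg.Agent.Lib.Helper8.Coh6b
import Cfsg.Agent.Lib.Helper3.NilpotentHall

set_option autoImplicit false
open Cfsg

namespace Cfsg.Agent.S1521

open Cfsg.Agent.Helper8 Cfsg.Agent.Helper24 Cfsg.Agent.Helper8.Coh6
open scoped commutatorElement

universe u

section groups

variable {L : Type u} [Group L] [Finite L]

/-- the order of the image of `N` in `L/H₁` -/
lemma card_map_mk (H₁ N : Subgroup L) [H₁.Normal] (hH₁N : H₁ ≤ N) :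
    Nat.card (N.map (QuotientGroup.mk' H₁)) = H₁.relIndex N := by
  have hsurj : Function.Surjective (QuotientGroup.mk' H₁) := QuotientGroup.mk'_surjective H₁
  have hNidx : (N.map (QuotientGroup.mk' H₁)).index = N.index :=
    Subgroup.index_map_eq _ hsurj (by rw [QuotientGroup.ker_mk']; exact hH₁N)
  have h1 := (N.map (QuotientGroup.mk' H₁)).card_mul_index
  rw [hNidx] at h1
  have h2 : Nat.card (L ⧸ H₁) = H₁.index := rfl
  rw [h2, ← Subgroup.relIndex_mul_index hH₁N] at h1
  have hpos : 0 < N.index := Nat.pos_of_ne_zero Subgroup.index_ne_zero_of_finite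
  exact Nat.eq_of_mul_eq_mul_right hpos h1

/-- every abelian quotient of `K/M` has order dividing `[K : K'M]` -/
lemma card_dvd_relIndex (K M : Subgroup L) [(M.subgroupOf K).Normal] (hMK : M ≤ K)
    {A : Type u} [CommGroup A] (g : (↥K ⧸ M.subgroupOf K) →* A) (hg : Function.Surjective g) :
    Nat.card A ∣ (⁅K, K⁆ ⊔ M).relIndex K := by
  set f : K →* A := g.comp (QuotientGroup.mk' (M.subgroupOf K)) with hf
  have hfsurj : Function.Surjective f := hg.comp (QuotientGroup.mk'_surjective _)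
  have h1 : f.ker.index = Nat.card A := by
    rw [Subgroup.index_ker, MonoidHom.range_eq_top.2 hfsurj, Subgroup.card_top]
  rw [← h1]
  apply Subgroup.index_dvd_of_le
  have hsup : ⁅K, K⁆ ⊔ M ≤ f.ker.map K.subtype := by
    refine sup_le ?_ ?_
    · rw [Subgroup.commutator_le]
      intro a ha b hb
      refine ⟨⁅(⟨a, ha⟩ : K), ⟨b, hb⟩⁆, ?_, by simp [commutatorElement_def]⟩
      rw [SetLike.mem_coe, MonoidHom.mem_ker, map_commutatorElement,
        commutatorElement_eq_one_iff_mul_comm, mul_comm]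
    · intro m hm
      refine ⟨⟨m, hMK hm⟩, ?_, rfl⟩
      rw [SetLike.mem_coe, MonoidHom.mem_ker, hf, MonoidHom.comp_apply]
      have : (QuotientGroup.mk' (M.subgroupOf K)) ⟨m, hMK hm⟩ = 1 := by
        rw [QuotientGroup.mk'_apply, QuotientGroup.eq_one_iff, Subgroup.mem_subgroupOf]
        exact hm
      rw [this, map_one]
  intro x hx
  rw [Subgroup.mem_subgroupOf] at hx
  obtain ⟨x', hx', hxx'⟩ := hsup hx
  have : x' = x := Subtype.ext hxx'
  rw [← this]; exact hx'

/-- a finite nilpotent group whose abelianisation is a `p`-group is a `p`-group -/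
lemma nilpotent_prime_pow {X : Type u} [Group X] [Finite X] (hnil : Group.IsNilpotent X)
    {p n : ℕ} (hp : p.Prime) (hidx : (commutator X).index ∣ p ^ n) :
    ∃ m, Nat.card X = p ^ m := by
  refine ⟨_, Nat.eq_prime_pow_of_unique_prime_dvd Nat.card_pos.ne' ?_⟩
  intro q hq hqX
  haveI : Fact q.Prime := ⟨hq⟩
  obtain ⟨Lq, hLqn, hcop, k, hk⟩ := Cfsg.Agent.Helper3.exists_normal_compl_of_isNilpotent hnil q
  haveI := hLqn
  have hk1 : k ≠ 0 := by
    rintro rfl
    rw [pow_zero] at hk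
    have h1 := Lq.card_mul_index
    rw [hk, mul_one] at h1
    rw [← h1] at hqX
    have := Nat.Coprime.eq_one_of_dvd hcop.symm hqX
    exact hq.one_lt.ne' this
  have hcardZ : Nat.card (X ⧸ Lq) = q ^ k := hk
  have hZp : IsPGroup q (X ⧸ Lq) := IsPGroup.of_card hcardZ
  haveI : Group.IsNilpotent (X ⧸ Lq) := hZp.isNilpotent
  haveI : Nontrivial (X ⧸ Lq) := by
    rw [← Finite.one_lt_card_iff_nontrivial, hcardZ]
    exact Nat.one_lt_pow hk1 hq.one_lt
  have hlt := Group.IsSolvable.commutator_lt_top_of_nontrivial (G := X ⧸ Lq)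
  have hidx1 : (commutator (X ⧸ Lq)).index ≠ 1 := by
    intro h
    rw [Subgroup.index_eq_one] at h
    exact hlt.ne h
  have hdvd1 : (commutator (X ⧸ Lq)).index ∣ q ^ k := by
    rw [← hcardZ]; exact Subgroup.index_dvd_card _
  obtain ⟨j, hj, hjeq⟩ := (Nat.dvd_prime_pow hq).1 hdvd1
  have hj0 : j ≠ 0 := by
    rintro rfl
    rw [pow_zero] at hjeq
    exact hidx1 hjeq
  have hq1 : q ∣ (commutator (X ⧸ Lq)).index := by
    rw [hjeq]; exact dvd_pow_self q hj0
  -- the abelianisation of `X/Lq` is a quotient of the abelianisation of `X`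
  set f : X →* Abelianization (X ⧸ Lq) := (Abelianization.of).comp (QuotientGroup.mk' Lq) with hf
  have hfsurj : Function.Surjective f :=
    (QuotientGroup.mk'_surjective _).comp (QuotientGroup.mk'_surjective _)
  have h1 : f.ker.index = (commutator (X ⧸ Lq)).index := by
    rw [Subgroup.index_ker, MonoidHom.range_eq_top.2 hfsurj, Subgroup.card_top]
    rfl
  have h2 : f.ker.index ∣ (commutator X).index :=
    Subgroup.index_dvd_of_le (Abelianization.commutator_subset_ker f)
  have h3 : q ∣ p ^ n := by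
    rw [h1] at h2
    exact dvd_trans hq1 (dvd_trans h2 hidx)
  exact (Nat.prime_dvd_prime_iff_eq hq hp).1 (hq.dvd_of_dvd_pow h3)

/-- a finite `p`-group whose abelianisation has order dividing `p` is abelian -/
lemma comm_of_index_dvd_prime {X : Type u} [Group X] [Finite X] {p : ℕ} [hp : Fact p.Prime]
    (hX : IsPGroup p X) (h : (commutator X).index ∣ p) : ∀ a b : X, a * b = b * a := by
  have hcyc : IsCyclic (X ⧸ commutator X) := by
    rcases (Nat.dvd_prime hp.out).1 h with h1 | h1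
    · haveI : Subsingleton (X ⧸ commutator X) := by
        rw [← Finite.card_le_one_iff_subsingleton]
        exact le_of_eq h1
      exact isCyclic_of_subsingleton
    · exact isCyclic_of_prime_card (p := p) h1
  exact Cfsg.Agent.S1459.comm_of_cycMod _ X rfl hX
    (Cfsg.Agent.S1459.cycMod_of_isCyclic_quotient hcyc)

/-- the `p`-power torsion of an abelian normal subgroup -/
def ptors {Q : Type u} [Group Q] (Kb : Subgroup Q) (hab : ∀ a ∈ Kb, ∀ b ∈ Kb, a * b = b * a)
    (p : ℕ) : Subgroup Q where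
  carrier := {x | x ∈ Kb ∧ ∃ j : ℕ, x ^ (p ^ j) = 1}
  one_mem' := ⟨Kb.one_mem, 0, by simp⟩
  mul_mem' := by
    rintro a b ⟨ha, i, hi⟩ ⟨hb, j, hj⟩
    refine ⟨Kb.mul_mem ha hb, i + j, ?_⟩
    have hc : Commute a b := hab a ha b hb
    rw [hc.mul_pow, pow_add, pow_mul, hi, one_pow, mul_comm (p ^ i) (p ^ j), pow_mul, hj, one_pow,
      one_mul]
  inv_mem' := by
    rintro a ⟨ha, i, hi⟩
    exact ⟨Kb.inv_mem ha, i, by rw [inv_pow, hi, inv_one]⟩

lemma ptors_normal {Q : Type u} [Group Q] (Kb : Subgroup Q) [hKb : Kb.Normal]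
    (hab : ∀ a ∈ Kb, ∀ b ∈ Kb, a * b = b * a) (p : ℕ) : (ptors Kb hab p).Normal := by
  refine ⟨?_⟩
  rintro n ⟨hn, j, hj⟩ g
  exact ⟨hKb.conj_mem n hn g, j, by rw [conj_pow, hj]; group⟩

/-- an abelian section of non-prime-power order has a proper nontrivial invariant subgroup -/
lemma exists_between (K H₁ : Subgroup L) [K.Normal] [H₁.Normal] (hH₁K : H₁ ≤ K)
    (hKK : ⁅K, K⁆ ≤ H₁) (hnpp : ¬ ∃ p m : ℕ, p.Prime ∧ H₁.relIndex K = p ^ m) :
    ∃ N : Subgroup L, N.Normal ∧ H₁ < N ∧ N < K := by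
  classical
  have hsurj : Function.Surjective (QuotientGroup.mk' H₁) := QuotientGroup.mk'_surjective H₁
  have hr0 : H₁.relIndex K ≠ 0 := Subgroup.index_ne_zero_of_finite
  have hr1 : H₁.relIndex K ≠ 1 := by
    intro h
    exact hnpp ⟨2, 0, Nat.prime_two, by rw [h, pow_zero]⟩
  set p := (H₁.relIndex K).minFac with hpdef
  have hp : p.Prime := Nat.minFac_prime hr1
  have hpr : p ∣ H₁.relIndex K := Nat.minFac_dvd _
  obtain ⟨q, hq, hqr, hqp⟩ : ∃ q : ℕ, q.Prime ∧ q ∣ H₁.relIndex K ∧ q ≠ p := by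
    by_contra hcon
    push Not at hcon
    exact hnpp ⟨p, _, hp, Nat.eq_prime_pow_of_unique_prime_dvd hr0 (fun {d} hd hdr => hcon d hd hdr)⟩
  haveI : (K.map (QuotientGroup.mk' H₁)).Normal := Subgroup.Normal.map inferInstance _ hsurj
  have hab : ∀ a ∈ K.map (QuotientGroup.mk' H₁), ∀ b ∈ K.map (QuotientGroup.mk' H₁),
      a * b = b * a := by
    rintro a ⟨x, hx, rfl⟩ b ⟨y, hy, rfl⟩
    rw [← map_mul, ← map_mul, QuotientGroup.mk'_apply, QuotientGroup.mk'_apply, QuotientGroup.eq]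
    have : ⁅x⁻¹, y⁻¹⁆ ∈ ⁅K, K⁆ :=
      Subgroup.commutator_mem_commutator (K.inv_mem hx) (K.inv_mem hy)
    have h2 : (x * y)⁻¹ * (y * x) = ⁅x⁻¹, y⁻¹⁆⁻¹ := by
      rw [commutatorElement_def]; group
    rw [h2]
    exact H₁.inv_mem (hKK this)
  have hcard := card_map_mk H₁ K hH₁K
  haveI := ptors_normal (K.map (QuotientGroup.mk' H₁)) hab p
  refine ⟨(ptors (K.map (QuotientGroup.mk' H₁)) hab p).comap (QuotientGroup.mk' H₁),
    inferInstance, ?_, ?_⟩
  · -- `H₁ < N`
    haveI : Fact p.Prime := ⟨hp⟩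
    obtain ⟨a, ha⟩ := exists_prime_orderOf_dvd_card' (G := K.map (QuotientGroup.mk' H₁)) p
      (by rw [hcard]; exact hpr)
    obtain ⟨x, hx, hxa⟩ := a.2
    refine lt_of_le_of_ne ?_ ?_
    · intro h hh
      rw [Subgroup.mem_comap]
      have : (QuotientGroup.mk' H₁) h = 1 := by
        rw [QuotientGroup.mk'_apply, QuotientGroup.eq_one_iff]; exact hh
      rw [this]; exact Subgroup.one_mem _
    · intro heq
      have hxN : x ∈ (ptors (K.map (QuotientGroup.mk' H₁)) hab p).comap (QuotientGroup.mk' H₁) := by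
        rw [Subgroup.mem_comap, hxa]
        refine ⟨a.2, 1, ?_⟩
        rw [pow_one, ← Subgroup.coe_pow, ← ha, pow_orderOf_eq_one, Subgroup.coe_one]
      rw [← heq] at hxN
      have h1 : (a : L ⧸ H₁) = 1 := by
        rw [← hxa, QuotientGroup.mk'_apply, QuotientGroup.eq_one_iff]; exact hxN
      have h2 : a = 1 := Subtype.ext h1
      rw [h2, orderOf_one] at ha
      exact hp.one_lt.ne ha
  · -- `N < K`
    haveI : Fact q.Prime := ⟨hq⟩
    obtain ⟨b, hb⟩ := exists_prime_orderOf_dvd_card' (G := K.map (QuotientGroup.mk' H₁)) q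
      (by rw [hcard]; exact hqr)
    obtain ⟨y, hy, hyb⟩ := b.2
    refine lt_of_le_of_ne ?_ ?_
    · intro x hx
      rw [Subgroup.mem_comap] at hx
      obtain ⟨k, hk, hkx⟩ := hx.1
      rw [QuotientGroup.mk'_apply, QuotientGroup.mk'_apply, QuotientGroup.eq] at hkx
      have : x = k * (k⁻¹ * x) := by group
      rw [this]
      exact K.mul_mem hk (hH₁K hkx)
    · intro heq
      have hyN : y ∈ (ptors (K.map (QuotientGroup.mk' H₁)) hab p).comap (QuotientGroup.mk' H₁) := by
        rw [heq]; exact hy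
      rw [Subgroup.mem_comap, hyb] at hyN
      obtain ⟨-, j, hj⟩ := hyN
      have h1 : b ^ (p ^ j) = 1 := Subtype.ext (by rw [Subgroup.coe_pow, hj, Subgroup.coe_one])
      have h2 : q ∣ p ^ j := by rw [← hb]; exact orderOf_dvd_of_pow_eq_one h1
      exact hqp ((Nat.prime_dvd_prime_iff_eq hq hp).1 (hq.dvd_of_dvd_pow h2))

end groups

/-- Let K be a solvable normal subgroup of the finite group L of odd order and (S, τ, R) a coherence system from L to G with S the functions induced from non-principal irreducible characters of K; S(A) as before. Let M ≤ K be normal in L with K/M nilpotent, H₁ = [K, K] ⊔ M, H₁ < K < L, and suppose every element of K outside H₁ is centralised modulo H₁ only from inside K (L/H₁ is a Frobenius group with kernel K/H₁). Suppose one of the following: some normal subgroup of L lies strictly between H₁ and K; or [K:H₁] > 4[L:K]^2 + 1; or [K:M] is not a prime power; or [K,K] ≤ M; or [K:M] is a power of a prime p with [L:K] dividing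 p − 1. Then S(M) is coherent. -/
theorem result {L : Type*} [Group L] [Fintype L] {G : Type*} [Group G] [Fintype G] (K : Subgroup L) [hK : K.Normal] (hsolv : Group.IsSolvable K) (τ : (L → ℂ) → (G → ℂ)) (R : (L → ℂ) → Finset (G → ℂ)) (hS : Cfsg.IsCoherenceSystem (Cfsg.inducedIrrAbove K ⊥) τ R) (hodd : Odd (Nat.card L)) (M : Subgroup L) [M.Normal] (hMK : M ≤ K) [(M.subgroupOf K).Normal] (hnil : Group.IsNilpotent (↥K ⧸ M.subgroupOf K)) (H₁ : Subgroup L) (hH₁ : H₁ = ⁅K, K⁆ ⊔ M) (hH₁K : H₁ < K) (hKL : K < ⊤) (hfrob : ∀ k ∈ K, k ∉ H₁ → ∀ x : L, x * k * x⁻¹ * k⁻¹ ∈ H₁ → x ∈ K) (hgood : (∃ N : Subgroup L, N.Normal ∧ H₁ < N ∧ N < K) ∨ 4 * K.index ^ 2 + 1 < H₁.relIndex K ∨ (¬ ∃ p m : ℕ, p.Prime ∧ M.relIndex K = p ^ m) ∨ ⁅K, K⁆ ≤ M ∨ (∃ p m : ℕ, p.Prime ∧ M.relIndex K = p ^ m ∧ K.index ∣ p - 1)) : Cfsg.IsCoherent (Cfsg.inducedIrrAbove K M) {1}ᶜ τ := by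
  classical
  haveI : Finite L := Finite.of_fintype L
  haveI hH₁n : H₁.Normal := by rw [hH₁]; infer_instance
  have hMH₁ : M ≤ H₁ := by rw [hH₁]; exact le_sup_right
  have hKK : ⁅K, K⁆ ≤ H₁ := by rw [hH₁]; exact le_sup_left
  have hcohH₁ := coh_linear K hsolv hS H₁ hH₁K hKK
  have he_odd : Odd K.index := Odd.of_dvd_nat hodd (Subgroup.index_dvd_card K)
  have hodd_rel : ∀ A B : Subgroup L, Odd (A.relIndex B) := fun A B =>
    Odd.of_dvd_nat hodd (dvd_trans (Subgroup.index_dvd_card _) (Subgroup.card_subgroup_dvd_card B))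
  -- case (b)
  have caseB : 4 * K.index ^ 2 + 1 < H₁.relIndex K →
      Cfsg.IsCoherent (Cfsg.inducedIrrAbove K M) {1}ᶜ τ := fun h =>
    Cfsg.Agent.S1520.result K hsolv τ R hS M H₁ K hMH₁ hH₁K.le le_rfl hnil hcohH₁ h
  -- case (d)
  have caseD : ⁅K, K⁆ ≤ M → Cfsg.IsCoherent (Cfsg.inducedIrrAbove K M) {1}ᶜ τ := by
    intro h
    have : H₁ = M := by rw [hH₁]; exact sup_eq_right.2 h
    rw [← this]; exact hcohH₁
  -- case (a)
  have caseA : (∃ N : Subgroup L, N.Normal ∧ H₁ < N ∧ N < K) →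
      Cfsg.IsCoherent (Cfsg.inducedIrrAbove K M) {1}ᶜ τ := by
    rintro ⟨N, hNn, hH₁N, hNK⟩
    haveI := hNn
    apply caseB
    have h1 := frob_congr K H₁ N hH₁N.le hNK.le hKK hfrob
    have h2 := frob_congr K H₁ K hH₁K.le le_rfl hKK hfrob
    have hmul : H₁.relIndex N * N.relIndex K = H₁.relIndex K :=
      Subgroup.relIndex_mul_relIndex _ _ _ hH₁N.le hNK.le
    have hr1 : 1 < H₁.relIndex N := by
      have h0 : H₁.relIndex N ≠ 0 := Subgroup.index_ne_zero_of_finite
      have h1' : H₁.relIndex N ≠ 1 := fun h => (not_le_of_gt hH₁N) (Subgroup.relIndex_eq_one.1 h)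
      omega
    have hs1 : 1 < N.relIndex K := by
      have h0 : N.relIndex K ≠ 0 := Subgroup.index_ne_zero_of_finite
      have h1' : N.relIndex K ≠ 1 := fun h => (not_le_of_gt hNK) (Subgroup.relIndex_eq_one.1 h)
      omega
    have h3 : K.index ∣ N.relIndex K - 1 := by
      have hsum : (H₁.relIndex N - 1) * N.relIndex K + (N.relIndex K - 1) = H₁.relIndex K - 1 := by
        rw [← hmul]
        obtain ⟨a, ha⟩ : ∃ a, H₁.relIndex N = a + 1 := ⟨H₁.relIndex N - 1, by omega⟩
        obtain ⟨b, hb⟩ : ∃ b, N.relIndex K = b + 1 := ⟨N.relIndex K - 1, by omega⟩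
        rw [ha, hb]
        simp only [Nat.add_sub_cancel]
        have : (a + 1) * (b + 1) = a * (b + 1) + b + 1 := by ring
        rw [this, Nat.add_sub_cancel]
      rw [← hsum] at h2
      exact (Nat.dvd_add_right (Dvd.dvd.mul_right h1 _)).1 h2
    have hr := two_e he_odd (hodd_rel H₁ N) hr1 h1
    have hs := two_e he_odd (hodd_rel N K) hs1 h3
    rw [← hmul]
    have : (2 * K.index + 1) * (2 * K.index + 1) ≤ H₁.relIndex N * N.relIndex K :=
      Nat.mul_le_mul hr hs
    nlinarith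
  -- the abelianisation of `K/M`
  have habel : (commutator (↥K ⧸ M.subgroupOf K)).index ∣ H₁.relIndex K := by
    have h := card_dvd_relIndex K M hMK (Abelianization.of (G := ↥K ⧸ M.subgroupOf K))
      (QuotientGroup.mk'_surjective _)
    rw [hH₁]
    exact h
  have hcardX : Nat.card (↥K ⧸ M.subgroupOf K) = M.relIndex K := rfl
  rcases hgood with hA | hB | hC | hD | hE
  · exact caseA hA
  · exact caseB hB
  · by_cases hpp : ∃ p m : ℕ, p.Prime ∧ H₁.relIndex K = p ^ m
    · exfalso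
      obtain ⟨p, m, hp, hpm⟩ := hpp
      rw [hpm] at habel
      obtain ⟨m', hm'⟩ := nilpotent_prime_pow hnil hp habel
      exact hC ⟨p, m', hp, by rw [← hcardX, hm']⟩
    · exact caseA (exists_between K H₁ hH₁K.le hKK hpp)
  · exact caseD hD
  · obtain ⟨p, m, hp, hpm, hep⟩ := hE
    haveI : Fact p.Prime := ⟨hp⟩
    have hdvd : H₁.relIndex K ∣ M.relIndex K := Subgroup.relIndex_dvd_of_le_left K hMH₁
    rw [hpm] at hdvd
    obtain ⟨n, -, hn⟩ := (Nat.dvd_prime_pow hp).1 hdvd
    have hn0 : n ≠ 0 := by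
      rintro rfl
      rw [pow_zero] at hn
      exact (not_le_of_gt hH₁K) (Subgroup.relIndex_eq_one.1 hn)
    have hp_odd : Odd p := by
      have : p ∣ H₁.relIndex K := by rw [hn]; exact dvd_pow_self p hn0
      exact Odd.of_dvd_nat (hodd_rel H₁ K) this
    have hp2 := two_e he_odd hp_odd hp.one_lt hep
    rcases Nat.lt_or_ge n 2 with hlt | hge
    · -- `[K:H₁] = p`
      have hn1 : n = 1 := by omega
      rw [hn1, pow_one] at hn
      apply caseD
      have hXp : IsPGroup p (↥K ⧸ M.subgroupOf K) := IsPGroup.of_card (hcardX.trans hpm)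
      rw [hn] at habel
      have hcomm := comm_of_index_dvd_prime hXp habel
      rw [Subgroup.commutator_le]
      intro a ha b hb
      have h1 := hcomm ((QuotientGroup.mk' (M.subgroupOf K)) ⟨a, ha⟩)
        ((QuotientGroup.mk' (M.subgroupOf K)) ⟨b, hb⟩)
      rw [← commutatorElement_eq_one_iff_mul_comm, ← map_commutatorElement,
        QuotientGroup.mk'_apply, QuotientGroup.eq_one_iff, Subgroup.mem_subgroupOf] at h1
      simpa [commutatorElement_def] using h1
    · apply caseB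
      rw [hn]
      have h1 : p ^ 2 ≤ p ^ n := Nat.pow_le_pow_right hp.pos hge
      have h2 : (2 * K.index + 1) ^ 2 ≤ p ^ 2 := Nat.pow_le_pow_left hp2 2
      have h3 : 0 < K.index := Nat.pos_of_ne_zero Subgroup.index_ne_zero_of_finite
      have h4 : (2 * K.index + 1) ^ 2 = 4 * K.index ^ 2 + 4 * K.index + 1 := by ring
      omega

end Cfsg.Agent.S1521
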