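import Mathlib
import Cfsg.Statements.S1522
import Cfsg.Agent.S1521
import Cfsg.Agent.Lib.Helper24.CharIntegral

set_option autoImplicit false
open Cfsg

namespace Cfsg.Agent.S1522

open Cfsg.Agent.Helper8 Cfsg.Agent.Helper24 Cfsg.Agent.Helper8.Coh6
open scoped ComplexConjugate

universe u

section part1

variable {L : Type u} [Group L] [Fintype L] (K Z : Subgroup L) [hZn : Z.Normal]

include hZn in
/-- a function induced from a function trivial on the normal subgroup `Z ≤ K` is trivial on `Z` -/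
lemma ind_trivial_on (hZK : Z ≤ K) {θ : K → ℂ} (hθ : ∀ a : K, (a : L) ∈ Z → θ a = θ 1) (z : L)
    (hz : z ∈ Z) : Cfsg.indFun K θ z = Cfsg.indFun K θ 1 := by
  rw [Helper24.indFun_apply, Helper24.indFun_apply]
  congr 1
  refine Finset.sum_congr rfl fun x _ => ?_
  have h1 : x⁻¹ * z * x ∈ Z := by
    have := hZn.conj_mem z hz x⁻¹
    simpa using this
  have h2 : x⁻¹ * 1 * x = 1 := by group
  rw [Helper24.extendByZero_of_mem K θ (hZK h1), h2, Helper24.extendByZero_of_mem K θ K.one_mem]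
  exact hθ ⟨_, hZK h1⟩ h1

omit hZn in
/-- if the induced character is trivial on `Z` then so is the irreducible character it is induced
from -/
lemma trivial_of_ind {θ : K → ℂ} (hθ : Cfsg.IsIrrCharacter K θ)
    (h : ∀ z ∈ Z, Cfsg.indFun K θ z = Cfsg.indFun K θ 1) (a : K) (ha : (a : L) ∈ Z) :
    θ a = θ 1 := by
  classical
  haveI : Fintype K := Fintype.ofFinite K
  have hθc := isCharacter_of_isIrrCharacter hθ
  have hφc : Cfsg.IsCharacter L (Cfsg.indFun K θ) := isCharacter_indFun K hθc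
  have hres : Cfsg.IsCharacter K (fun k : K => Cfsg.indFun K θ k) := isCharacter_restrict K hφc
  have hne : Cfsg.classInner (fun k : K => Cfsg.indFun K θ k) θ ≠ 0 := by
    rw [← classInner_indFun_right K θ _ (isClassFunction_of_isCharacter hφc)]
    intro h0
    have hz := Helper24.classInner_self_eq_zero h0
    have h1 := congrFun hz 1
    rw [Helper24.indFun_one] at h1
    obtain ⟨t, ht0, ht⟩ := irr_one_eq hθ
    rw [ht] at h1
    have he : K.index ≠ 0 := Subgroup.index_ne_zero_of_finite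
    have : (K.index : ℂ) * (t : ℂ) ≠ 0 := by
      have : K.index * t ≠ 0 := Nat.mul_ne_zero he ht0.ne'
      exact_mod_cast this
    exact this (by simpa using h1)
  refine constituent_ker hres hθ hne ?_
  show Cfsg.indFun K θ (a : L) = Cfsg.indFun K θ ((1 : K) : L)
  rw [Subgroup.coe_one]
  exact h _ ha

include hZn in
/-- an irreducible constituent of the restriction to `K` of an irreducible character nontrivial on
`Z` is nontrivial on `Z` -/
lemma constituent_nontrivial (hZK : Z ≤ K) {φ : L → ℂ} (hφ : Cfsg.IsIrrCharacter L φ)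
    (hφZ : ∃ z ∈ Z, φ z ≠ φ 1) {θ : K → ℂ} (hθ : Cfsg.IsIrrCharacter K θ) [Fintype K]
    (hne : Cfsg.classInner (fun k : K => φ k) θ ≠ 0) :
    ∃ a : K, (a : L) ∈ Z ∧ θ a ≠ θ 1 := by
  classical
  by_contra hcon
  push Not at hcon
  obtain ⟨z, hz, hzne⟩ := hφZ
  apply hzne
  have hθc := isCharacter_of_isIrrCharacter hθ
  have hφc := isCharacter_of_isIrrCharacter hφ
  have hind : Cfsg.IsCharacter L (Cfsg.indFun K θ) := isCharacter_indFun K hθc
  have hne2 : Cfsg.classInner (Cfsg.indFun K θ) φ ≠ 0 := by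
    rw [classInner_indFun_left K θ φ (isClassFunction_of_isCharacter hφc),
      Helper8.classInner_conj_symm]
    intro h
    apply hne
    have := congrArg (starRingEnd ℂ) h
    simpa using this
  exact constituent_ker hind hφ hne2 (ind_trivial_on K Z hZK hcon z hz)

omit hZn in
/-- a nontrivial subgroup of `K` is detected by some irreducible character of `K` -/
lemma exists_nontrivial_on (hZK : Z ≤ K) (hZ1 : Z ≠ ⊥) :
    ∃ θ : K → ℂ, Cfsg.IsIrrCharacter K θ ∧ ∃ a : K, (a : L) ∈ Z ∧ θ a ≠ θ 1 := by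
  classical
  haveI : Fintype K := Fintype.ofFinite K
  letI : Fintype (IrrCharacter K) := irrFintype
  obtain ⟨z, hz1⟩ := (Subgroup.ne_bot_iff_exists_ne_one).1 hZ1
  have hzZ : (z : L) ∈ Z := z.2
  by_contra hcon
  push Not at hcon
  have h := second_orthogonality (G := K) ⟨(z : L), hZK hzZ⟩ 1
  have hempty : Nat.card {y : K // y * 1 * y⁻¹ = ⟨(z : L), hZK hzZ⟩} = 0 := by
    rw [Nat.card_eq_zero]
    left
    refine ⟨fun ⟨y, hy⟩ => ?_⟩
    apply hz1
    have h1 : (1 : K) = ⟨(z : L), hZK hzZ⟩ := by rw [← hy]; group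
    have h2 := congrArg (Subtype.val) h1
    simp only [Subgroup.coe_one] at h2
    exact Subtype.ext (by rw [← h2]; rfl)
  rw [hempty] at h
  have h2 : ∑ χ : IrrCharacter K, (χ : K → ℂ) ⟨(z : L), hZK hzZ⟩ * conj ((χ : K → ℂ) 1) =
      ((∑ χ : IrrCharacter K, charDegree (χ : K → ℂ) ^ 2 : ℕ) : ℂ) := by
    push_cast
    refine Finset.sum_congr rfl fun χ _ => ?_
    rw [hcon χ.1 χ.2 ⟨(z : L), hZK hzZ⟩ hzZ, irr_one_eq_charDegree χ.2]
    simp [sq]
  rw [h2, sum_charDegree_sq] at h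
  have : Nat.card K ≠ 0 := Nat.card_pos.ne'
  exact this (by exact_mod_cast h)

end part1

section part2

variable {L : Type u} [Group L] [Fintype L] (K Z : Subgroup L) [hZn : Z.Normal]

/-- `θ` is nontrivial on `Z` -/
def NT (θ : K → ℂ) : Prop := ∃ a : K, (a : L) ∈ Z ∧ θ a ≠ θ 1

include hZn in
lemma ind_mem_S1 (hZK : Z ≤ K) {θ : K → ℂ} (hθ : Cfsg.IsIrrCharacter K θ) (hnt : NT K Z θ) :
    Cfsg.indFun K θ ∈ Cfsg.inducedIrrAbove K ⊥ \ Cfsg.inducedIrrAbove K Z := by
  refine ⟨⟨θ, hθ, ?_, fun a ha => ?_, rfl⟩, ?_⟩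
  · rintro rfl
    obtain ⟨a, -, ha⟩ := hnt
    exact ha rfl
  · rw [Subgroup.mem_bot] at ha
    have : a = 1 := Subtype.ext ha
    rw [this]
  · rintro ⟨θ', hθ', -, hθ'Z, heq⟩
    obtain ⟨a, haZ, ha⟩ := hnt
    apply ha
    refine trivial_of_ind K Z hθ (fun z hz => ?_) a haZ
    rw [heq]
    exact ind_trivial_on K Z hZK hθ'Z z hz

omit hZn in
lemma exists_of_mem_S1 {φ : L → ℂ}
    (hφ : φ ∈ Cfsg.inducedIrrAbove K ⊥ \ Cfsg.inducedIrrAbove K Z) :
    ∃ θ : K → ℂ, Cfsg.IsIrrCharacter K θ ∧ NT K Z θ ∧ φ = Cfsg.indFun K θ := by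
  obtain ⟨⟨θ, hθ, hne, -, rfl⟩, hnot⟩ := hφ
  refine ⟨θ, hθ, ?_, rfl⟩
  by_contra hnt
  apply hnot
  refine ⟨θ, hθ, hne, fun a ha => ?_, rfl⟩
  by_contra h
  exact hnt ⟨a, ha, h⟩

omit hZn in
lemma nontrivial_of_mem_S1 {φ : L → ℂ}
    (hφ : φ ∈ Cfsg.inducedIrrAbove K ⊥ \ Cfsg.inducedIrrAbove K Z) : ∃ z ∈ Z, φ z ≠ φ 1 := by
  obtain ⟨θ, hθ, ⟨a, haZ, ha⟩, rfl⟩ := exists_of_mem_S1 K Z hφ
  by_contra hcon
  push Not at hcon
  exact ha (trivial_of_ind K Z hθ hcon a haZ)

include hZn in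
lemma eq_ind_of_constituent (hZK : Z ≤ K)
    (hirr : ∀ χ ∈ Cfsg.inducedIrrAbove K ⊥ \ Cfsg.inducedIrrAbove K Z, Cfsg.IsIrrCharacter L χ)
    {φ : L → ℂ} (hφ : Cfsg.IsIrrCharacter L φ) (hφZ : ∃ z ∈ Z, φ z ≠ φ 1) {θ : K → ℂ}
    (hθ : Cfsg.IsIrrCharacter K θ) [Fintype K]
    (hne : Cfsg.classInner (fun k : K => φ k) θ ≠ 0) :
    NT K Z θ ∧ φ = Cfsg.indFun K θ := by
  classical
  have hnt := constituent_nontrivial K Z hZK hφ hφZ hθ hne
  refine ⟨hnt, ?_⟩
  have hind := hirr _ (ind_mem_S1 K Z hZK hθ hnt)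
  have hφc := isCharacter_of_isIrrCharacter hφ
  have hne2 : Cfsg.classInner (Cfsg.indFun K θ) φ ≠ 0 := by
    rw [classInner_indFun_left K θ φ (isClassFunction_of_isCharacter hφc),
      Helper8.classInner_conj_symm]
    intro h
    apply hne
    have := congrArg (starRingEnd ℂ) h
    simpa using this
  rw [irr_orthogonality hind hφ] at hne2
  by_contra hcon
  exact hne2 (if_neg (fun h => hcon h.symm))

include hZn in
/-- each member of `S \ S(Z)` is induced from exactly `[L:K]` irreducible characters of `K` -/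
lemma fibre_card (hZK : Z ≤ K)
    (hirr : ∀ χ ∈ Cfsg.inducedIrrAbove K ⊥ \ Cfsg.inducedIrrAbove K Z, Cfsg.IsIrrCharacter L χ)
    {φ : L → ℂ} (hφ : φ ∈ Cfsg.inducedIrrAbove K ⊥ \ Cfsg.inducedIrrAbove K Z) [Fintype K]
    [Fintype (IrrCharacter K)] [DecidableEq (L → ℂ)] :
    (Finset.univ.filter (fun χ : IrrCharacter K => Cfsg.indFun K χ.1 = φ)).card = K.index ∧
    ∀ χ ∈ Finset.univ.filter (fun χ : IrrCharacter K => Cfsg.indFun K χ.1 = φ),
      K.index * charDegree χ.1 = charDegree φ := by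
  classical
  have he : 0 < K.index := Nat.pos_of_ne_zero Subgroup.index_ne_zero_of_finite
  have hφirr := hirr φ hφ
  have hφZ := nontrivial_of_mem_S1 K Z hφ
  have hφc := isCharacter_of_isIrrCharacter hφirr
  have hφcf := isClassFunction_of_isCharacter hφc
  have hRc : Cfsg.IsCharacter K (fun k : K => φ k) := isCharacter_restrict K hφc
  have hdeg : ∀ χ ∈ Finset.univ.filter (fun χ : IrrCharacter K => Cfsg.indFun K χ.1 = φ),
      K.index * charDegree χ.1 = charDegree φ := by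
    intro χ hχ
    have hFχ : Cfsg.indFun K χ.1 = φ := (Finset.mem_filter.1 hχ).2
    symm
    apply charDegree_natCast
    rw [← hFχ, Helper24.indFun_one, irr_one_eq_charDegree χ.2]
    push_cast; rfl
  refine ⟨?_, hdeg⟩
  choose m hm using (isCharacter_decomp hRc).1
  have hdsum : charDegree φ = ∑ χ : IrrCharacter K, m χ * charDegree χ.1 := by
    have h1 := char_apply_eq_sum hRc 1
    have h2 : φ ((1 : K) : L) = (charDegree φ : ℂ) := by
      rw [Subgroup.coe_one]; exact char_one_eq_charDegree hφc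
    rw [h2] at h1
    have h3 : ∑ χ : IrrCharacter K, Cfsg.classInner (fun k : K => φ k) (χ : K → ℂ) *
        (χ : K → ℂ) 1 = ((∑ χ : IrrCharacter K, m χ * charDegree χ.1 : ℕ) : ℂ) := by
      push_cast
      refine Finset.sum_congr rfl fun χ _ => ?_
      rw [hm χ, irr_one_eq_charDegree χ.2]
    rw [h3] at h1
    exact_mod_cast h1
  have hm1 : ∀ χ ∈ Finset.univ.filter (fun χ : IrrCharacter K => Cfsg.indFun K χ.1 = φ),
      m χ = 1 := by
    intro χ hχ
    have hFχ : Cfsg.indFun K χ.1 = φ := (Finset.mem_filter.1 hχ).2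
    have h1 := classInner_indFun_right K χ.1 φ hφcf
    rw [hFχ, irr_orthogonality hφirr hφirr, if_pos rfl, hm χ] at h1
    exact_mod_cast h1.symm
  have hm0 : ∀ χ : IrrCharacter K, χ ∉ Finset.univ.filter
      (fun χ : IrrCharacter K => Cfsg.indFun K χ.1 = φ) → m χ = 0 := by
    intro χ hχ
    by_contra h0
    apply hχ
    have hne : Cfsg.classInner (fun k : K => φ k) χ.1 ≠ 0 := by
      rw [hm χ]; exact_mod_cast h0
    have := (eq_ind_of_constituent K Z hZK hirr hφirr hφZ χ.2 hne).2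
    exact Finset.mem_filter.2 ⟨Finset.mem_univ _, this.symm⟩
  have hsum2 : charDegree φ = ∑ χ ∈ Finset.univ.filter
      (fun χ : IrrCharacter K => Cfsg.indFun K χ.1 = φ), charDegree χ.1 := by
    rw [hdsum, ← Finset.sum_subset (Finset.subset_univ (Finset.univ.filter
      (fun χ : IrrCharacter K => Cfsg.indFun K χ.1 = φ)))
      (fun χ _ hχ => by rw [hm0 χ hχ, zero_mul])]
    refine Finset.sum_congr rfl fun χ hχ => ?_
    rw [hm1 χ hχ, one_mul]
  -- all members of the fibre have the same degree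
  have h4 : K.index * charDegree φ = (Finset.univ.filter
      (fun χ : IrrCharacter K => Cfsg.indFun K χ.1 = φ)).card * charDegree φ := by
    conv_lhs => rw [hsum2, Finset.mul_sum]
    rw [Finset.sum_congr rfl hdeg, Finset.sum_const, smul_eq_mul]
  have hdpos : 0 < charDegree φ := charDegree_pos hφirr
  exact (Nat.eq_of_mul_eq_mul_right hdpos h4).symm

end part2

section part3

variable {L : Type u} [Group L] [Fintype L] (K Z : Subgroup L) [hZn : Z.Normal]

include hZn in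
/-- the sum of the squared degrees over `S \ S(Z)` -/
lemma sum_sq_S1 (hZK : Z ≤ K)
    (hirr : ∀ χ ∈ Cfsg.inducedIrrAbove K ⊥ \ Cfsg.inducedIrrAbove K Z, Cfsg.IsIrrCharacter L χ)
    (S₁ : Finset (L → ℂ))
    (hS₁ : (↑S₁ : Set (L → ℂ)) = Cfsg.inducedIrrAbove K ⊥ \ Cfsg.inducedIrrAbove K Z) :
    ∑ φ ∈ S₁, (charDegree φ) ^ 2 + K.index * Z.relIndex K = K.index * Nat.card K := by
  classical
  haveI : Fintype K := Fintype.ofFinite K
  letI : Fintype (IrrCharacter K) := irrFintype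
  have he : 0 < K.index := Nat.pos_of_ne_zero Subgroup.index_ne_zero_of_finite
  set Θ : Finset (IrrCharacter K) := Finset.univ.filter (fun θ : IrrCharacter K => NT K Z θ.1)
    with hΘ
  have hS₁mem : ∀ φ, φ ∈ S₁ ↔ φ ∈ Cfsg.inducedIrrAbove K ⊥ \ Cfsg.inducedIrrAbove K Z := by
    intro φ; rw [← hS₁]; exact Finset.mem_coe.symm
  -- the degrees over `K`
  have h1 : ∑ θ ∈ Θ, (charDegree θ.1) ^ 2 + Z.relIndex K = Nat.card K := by
    rw [← sum_charDegree_sq (G := K),
      ← Finset.sum_filter_add_sum_filter_not Finset.univ (fun θ : IrrCharacter K => NT K Z θ.1)]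
    congr 1
    have h := sum_charDegree_sq_of_le_ker (Z.subgroupOf K)
    have hidx : Nat.card (↥K ⧸ Z.subgroupOf K) = Z.relIndex K := rfl
    rw [hidx] at h
    rw [← h]
    symm
    refine Finset.sum_subtype _ (fun θ => ?_) (fun θ : IrrCharacter K => (charDegree θ.1) ^ 2)
    rw [Finset.mem_filter]
    constructor
    · rintro ⟨-, hnt⟩ n hn
      by_contra h0
      exact hnt ⟨n, hn, h0⟩
    · intro h0
      refine ⟨Finset.mem_univ _, ?_⟩
      rintro ⟨a, ha, hne⟩
      exact hne (h0 a ha)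
  -- the fibres
  have hF : ∀ θ ∈ Θ, Cfsg.indFun K θ.1 ∈ S₁ := by
    intro θ hθ
    rw [hS₁mem]
    exact ind_mem_S1 K Z hZK θ.2 (Finset.mem_filter.1 hθ).2
  have h2 : K.index * ∑ θ ∈ Θ, (charDegree θ.1) ^ 2 = ∑ φ ∈ S₁, (charDegree φ) ^ 2 := by
    rw [← Finset.sum_fiberwise_of_maps_to hF, Finset.mul_sum]
    refine Finset.sum_congr rfl fun φ hφ => ?_
    have hφS := (hS₁mem φ).1 hφ
    have hfilt : Θ.filter (fun θ => Cfsg.indFun K θ.1 = φ) =
        Finset.univ.filter (fun χ : IrrCharacter K => Cfsg.indFun K χ.1 = φ) := by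
      ext θ
      simp only [hΘ, Finset.mem_filter, Finset.mem_univ, true_and]
      constructor
      · exact fun h => h.2
      · intro h
        refine ⟨?_, h⟩
        by_contra hnt
        obtain ⟨z, hz, hzne⟩ := nontrivial_of_mem_S1 K Z hφS
        apply hzne
        rw [← h]
        refine ind_trivial_on K Z hZK (fun a ha => ?_) z hz
        by_contra h0
        exact hnt ⟨a, ha, h0⟩
    rw [hfilt]
    obtain ⟨hcard, hdeg⟩ := fibre_card K Z hZK hirr hφS
    have h3 : K.index * (K.index * ∑ θ ∈ Finset.univ.filter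
        (fun χ : IrrCharacter K => Cfsg.indFun K χ.1 = φ), (charDegree θ.1) ^ 2) =
        K.index * (charDegree φ) ^ 2 := by
      rw [← mul_assoc, Finset.mul_sum]
      have : ∀ θ ∈ Finset.univ.filter (fun χ : IrrCharacter K => Cfsg.indFun K χ.1 = φ),
          K.index * K.index * (charDegree θ.1) ^ 2 = (charDegree φ) ^ 2 := by
        intro θ hθ
        rw [← hdeg θ hθ]; ring
      rw [Finset.sum_congr rfl this, Finset.sum_const, smul_eq_mul, hcard]
    exact Nat.eq_of_mul_eq_mul_left he h3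
  rw [← h2, ← Nat.mul_add, h1]

end part3

section arith

/-- the sum of the squares of the degrees below level `a+1` is at least `e² p^(2(a+1))` -/
lemma key_sum {ι : Type*} (s : Finset ι) (β : ι → ℕ) {e p a w z : ℕ} (he : 0 < e)
    (hp : p.Prime) (hcop : Nat.Coprime e p)
    (htot : ∑ i ∈ s, (e * p ^ (β i)) ^ 2 + e * (p ^ (2 * (a + 1)) * w) =
      e * (p ^ (2 * (a + 1)) * w * z))
    (hne : ∃ i ∈ s, β i ≤ a) :
    e ^ 2 * p ^ (2 * (a + 1)) ≤ ∑ i ∈ s.filter (fun i => β i ≤ a), (e * p ^ (β i)) ^ 2 := by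
  classical
  set P := p ^ (2 * (a + 1)) with hP
  have hsplit := Finset.sum_filter_add_sum_filter_not s (fun i => β i ≤ a)
    (fun i => (e * p ^ (β i)) ^ 2)
  have h1 : ∑ i ∈ s.filter (fun i => β i ≤ a), (e * p ^ (β i)) ^ 2 =
      e ^ 2 * ∑ i ∈ s.filter (fun i => β i ≤ a), p ^ (2 * β i) := by
    rw [Finset.mul_sum]
    refine Finset.sum_congr rfl fun i _ => ?_
    rw [mul_pow, ← pow_mul, mul_comm (β i) 2]
  have h2 : ∑ i ∈ s.filter (fun i => ¬ β i ≤ a), (e * p ^ (β i)) ^ 2 =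
      e ^ 2 * (P * ∑ i ∈ s.filter (fun i => ¬ β i ≤ a), p ^ (2 * (β i - (a + 1)))) := by
    rw [Finset.mul_sum, Finset.mul_sum]
    refine Finset.sum_congr rfl fun i hi => ?_
    have hi' : a + 1 ≤ β i := by
      have := (Finset.mem_filter.1 hi).2
      omega
    rw [mul_pow, ← pow_mul, hP, ← pow_add]
    congr 2
    omega
  set s₁ := ∑ i ∈ s.filter (fun i => β i ≤ a), p ^ (2 * β i) with hs₁
  set t := ∑ i ∈ s.filter (fun i => ¬ β i ≤ a), p ^ (2 * (β i - (a + 1))) with ht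
  rw [← hsplit, h1, h2] at htot
  have h3 : e * (e * s₁ + (e * (P * t) + P * w)) = e * (P * w * z) := by
    rw [← htot]; ring
  have h4 : e * s₁ + (e * (P * t) + P * w) = P * w * z := Nat.eq_of_mul_eq_mul_left he h3
  have h5 : P ∣ e * s₁ := by
    have h6 : P ∣ e * s₁ + (e * (P * t) + P * w) := by
      rw [h4]; exact ⟨w * z, by ring⟩
    have h7 : P ∣ e * (P * t) + P * w := ⟨e * t + w, by ring⟩
    exact (Nat.dvd_add_left h7).1 h6
  have h8 : P ∣ s₁ := by
    have hcop' : Nat.Coprime P e := by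
      rw [hP]; exact (Nat.Coprime.pow_left _ hcop.symm)
    exact hcop'.dvd_of_dvd_mul_left h5
  have hs₁pos : 0 < s₁ := by
    obtain ⟨i, his, hia⟩ := hne
    have hmem : i ∈ s.filter (fun i => β i ≤ a) := Finset.mem_filter.2 ⟨his, hia⟩
    have : p ^ (2 * β i) ≤ s₁ :=
      Finset.single_le_sum (f := fun i => p ^ (2 * β i)) (fun _ _ => Nat.zero_le _) hmem
    exact lt_of_lt_of_le (pow_pos hp.pos _) this
  have h9 : P ≤ s₁ := Nat.le_of_dvd hs₁pos h8
  rw [h1]
  exact Nat.mul_le_mul_left _ h9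

end arith

section part4

universe v

variable {L : Type u} [Group L] [Fintype L] {G : Type v} [Group G] [Fintype G]

lemma exists_nonzero {S T : Set (L → ℂ)} {τ : (L → ℂ) → (G → ℂ)}
    {R : (L → ℂ) → Finset (G → ℂ)} (hS : Cfsg.IsCoherenceSystem S τ R) (hT : T ⊆ S)
    (hne : T.Nonempty) (hc : ∀ χ ∈ T, Cfsg.conjFun χ ∈ T) :
    ∃ α ∈ Cfsg.zspanOn T {1}ᶜ, α ≠ 0 := by
  obtain ⟨φ, hφ⟩ := hne
  refine ⟨φ - Cfsg.conjFun φ,
    sub_conj_mem_zspanOn hφ (hc φ hφ) (Cfsg.Agent.S1516.conj_one hS (hT hφ)), ?_⟩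
  intro h0
  apply hS.conj_ne φ (hT hφ)
  rw [sub_eq_zero] at h0
  exact h0.symm

lemma coh_same_degree {S T : Set (L → ℂ)} {τ : (L → ℂ) → (G → ℂ)}
    {R : (L → ℂ) → Finset (G → ℂ)} (hS : Cfsg.IsCoherenceSystem S τ R) (hT : T ⊆ S)
    (hne : T.Nonempty) (hc : ∀ χ ∈ T, Cfsg.conjFun χ ∈ T)
    (hdeg : ∀ φ ∈ T, ∀ ψ ∈ T, φ 1 = ψ 1) : Cfsg.IsCoherent T {1}ᶜ τ :=
  Cfsg.Agent.S1517.result T τ R (subsystem hS hT hne hc) hdeg

/-- the case of a `p`-group `K` -/
lemma pgroup_case (K : Subgroup L) [hK : K.Normal] (τ : (L → ℂ) → (G → ℂ))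
    (R : (L → ℂ) → Finset (G → ℂ))
    (hS : Cfsg.IsCoherenceSystem (Cfsg.inducedIrrAbove K ⊥) τ R) (Z : Subgroup L) [hZn : Z.Normal]
    (hZ1 : Z ≠ ⊥) (hZK : Z ≤ K) (hZc : ∀ z ∈ Z, ∀ k ∈ K, z * k = k * z)
    (hirr : ∀ χ ∈ Cfsg.inducedIrrAbove K ⊥ \ Cfsg.inducedIrrAbove K Z, Cfsg.IsIrrCharacter L χ)
    {p n : ℕ} (hp : p.Prime) (hp3 : 3 ≤ p) (hcard : Nat.card K = p ^ n)
    (hcop : Nat.Coprime K.index p) :
    Cfsg.IsCoherent (Cfsg.inducedIrrAbove K ⊥ \ Cfsg.inducedIrrAbove K Z) {1}ᶜ τ := by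
  classical
  haveI : Finite L := Finite.of_fintype L
  have he : 0 < K.index := Nat.pos_of_ne_zero Subgroup.index_ne_zero_of_finite
  have hfinS : (Cfsg.inducedIrrAbove K ⊥).Finite := inducedIrrAbove_finite K ⊥
  have hfin : (Cfsg.inducedIrrAbove K ⊥ \ Cfsg.inducedIrrAbove K Z).Finite :=
    hfinS.subset Set.diff_subset
  set S₁ : Finset (L → ℂ) := hfin.toFinset with hS₁def
  have hS₁ : (↑S₁ : Set (L → ℂ)) = Cfsg.inducedIrrAbove K ⊥ \ Cfsg.inducedIrrAbove K Z :=
    hfin.coe_toFinset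
  have hS₁mem : ∀ φ, φ ∈ S₁ ↔ φ ∈ Cfsg.inducedIrrAbove K ⊥ \ Cfsg.inducedIrrAbove K Z := by
    intro φ; rw [← hS₁]; exact Finset.mem_coe.symm
  have hS₁S : ∀ φ ∈ S₁, φ ∈ Cfsg.inducedIrrAbove K ⊥ := fun φ hφ => ((hS₁mem φ).1 hφ).1
  have hconj : ∀ φ ∈ S₁, Cfsg.conjFun φ ∈ S₁ := by
    intro φ hφ
    rw [hS₁mem] at hφ ⊢
    refine ⟨inducedIrrAbove_conj K hφ.1, fun h => hφ.2 ?_⟩
    have := inducedIrrAbove_conj K h
    rwa [conjFun_conjFun] at this
  obtain ⟨hd, hn⟩ := Cfsg.Agent.S1519.deg_norm hS.isCharacter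
  have hn1 : ∀ φ ∈ S₁, ⌊(Cfsg.classInner φ φ).re⌋₊ = 1 := by
    intro φ hφ
    have := hirr φ ((hS₁mem φ).1 hφ)
    rw [irr_orthogonality this this, if_pos rfl]
    simp
  -- the shape of the degrees
  have hdegform : ∀ φ, φ ∈ S₁ → ∃ b : ℕ, charDegree φ = K.index * p ^ b ∧
      p ^ (2 * b) ∣ Z.relIndex K := by
    intro φ hφ
    obtain ⟨θ, hθ, hnt, rfl⟩ := exists_of_mem_S1 K Z ((hS₁mem φ).1 hφ)
    have hdvd := charDegree_dvd_card hθ
    rw [hcard] at hdvd
    obtain ⟨b, -, hb⟩ := (Nat.dvd_prime_pow hp).1 hdvd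
    refine ⟨b, ?_, ?_⟩
    · apply charDegree_natCast
      rw [Helper24.indFun_one, irr_one_eq_charDegree hθ, hb]; push_cast; rfl
    · have hbd := degree_bound K (B := ⊥) (C := K) (D := Z) le_rfl (fun x hx y hy => by
        rw [Subgroup.mem_bot, hZc x hx y hy]; group) hθ (fun a ha => by
        rw [Subgroup.mem_bot] at ha
        have : a = 1 := Subtype.ext ha
        rw [this])
      rw [irr_one_eq_charDegree hθ, Complex.natCast_re, hb] at hbd
      have h1 : K.relIndex K = 1 := Subgroup.relIndex_eq_one.2 le_rfl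
      rw [h1] at hbd
      have h2 : (p ^ b) ^ 2 ≤ Z.relIndex K := by
        have : (((p ^ b : ℕ) : ℝ)) ^ 2 ≤ (Z.relIndex K : ℝ) := by
          simpa only [Nat.cast_one, one_pow, one_mul] using hbd
        exact_mod_cast this
      have h3 : Z.relIndex K ∣ p ^ n := by rw [← hcard]; exact Subgroup.relIndex_dvd_card Z K
      obtain ⟨m, -, hm⟩ := (Nat.dvd_prime_pow hp).1 h3
      rw [hm] at h2 ⊢
      rw [← pow_mul, mul_comm] at h2
      exact pow_dvd_pow p ((Nat.pow_le_pow_iff_right hp.one_lt).1 h2)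
  choose! β hβ using hdegform
  have hβconj : ∀ φ ∈ S₁, β (Cfsg.conjFun φ) = β φ := by
    intro φ hφ
    have h1 := (hβ _ (hconj φ hφ)).1
    have h2 := (hβ φ hφ).1
    have h3 : charDegree (Cfsg.conjFun φ) = charDegree φ := by
      unfold charDegree
      rw [Cfsg.Agent.S1516.conj_one hS (hS₁S φ hφ)]
    rw [h3, h2] at h1
    exact (Nat.pow_right_injective hp.two_le (Nat.eq_of_mul_eq_mul_left he h1)).symm
  -- the total sum
  have hsum := sum_sq_S1 K Z hZK hirr S₁ hS₁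
  have hKZ : Z.relIndex K * Nat.card Z = Nat.card K := by
    have h1 := Subgroup.relIndex_mul_index hZK
    have h2 := Z.index_mul_card
    have h3 := K.index_mul_card
    rw [← h1, ← h3] at h2
    have : K.index * (Z.relIndex K * Nat.card Z) = K.index * Nat.card K := by
      rw [← h2]; ring
    exact Nat.eq_of_mul_eq_mul_left he this
  -- level sets
  set U : ℕ → Finset (L → ℂ) := fun a => S₁.filter (fun φ => β φ ≤ a) with hU
  have hU_sub : ∀ a, (↑(U a) : Set (L → ℂ)) ⊆ Cfsg.inducedIrrAbove K ⊥ := fun a φ hφ =>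
    hS₁S φ (Finset.mem_filter.1 (Finset.mem_coe.1 hφ)).1
  have hU_conj : ∀ a, ∀ φ ∈ (↑(U a) : Set (L → ℂ)), Cfsg.conjFun φ ∈ (↑(U a) : Set (L → ℂ)) := by
    intro a φ hφ
    have h1 := Finset.mem_filter.1 (Finset.mem_coe.1 hφ)
    exact Finset.mem_coe.2 (Finset.mem_filter.2 ⟨hconj φ h1.1, by rw [hβconj φ h1.1]; exact h1.2⟩)
  have hsame : ∀ (T : Finset (L → ℂ)) (c : ℕ), T ⊆ S₁ → (∀ φ ∈ T, β φ = c) →
      ∀ φ ∈ (↑T : Set (L → ℂ)), ∀ ψ ∈ (↑T : Set (L → ℂ)), φ 1 = ψ 1 := by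
    intro T c hTS hT φ hφ ψ hψ
    have hφ' := Finset.mem_coe.1 hφ
    have hψ' := Finset.mem_coe.1 hψ
    rw [hd φ (hS₁S φ (hTS hφ')), hd ψ (hS₁S ψ (hTS hψ')), (hβ φ (hTS hφ')).1,
      (hβ ψ (hTS hψ')).1, hT φ hφ', hT ψ hψ']
  have hlevel : ∀ a, (U a).Nonempty → Cfsg.IsCoherent (↑(U a) : Set (L → ℂ)) {1}ᶜ τ := by
    intro a
    induction a with
    | zero =>
      intro hne
      refine coh_same_degree hS (hU_sub 0) (by exact_mod_cast hne) (hU_conj 0) ?_
      exact hsame (U 0) 0 (Finset.filter_subset _ _) (fun φ hφ => by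
        have := (Finset.mem_filter.1 hφ).2
        omega)
    | succ a ih =>
      intro hne
      by_cases hUa : (U a).Nonempty
      · have hcoh := ih hUa
        by_cases hT : ∃ χ ∈ S₁, β χ = a + 1
        · obtain ⟨χ₁, hχ₁⟩ := hUa
          have hχ₁' := Finset.mem_filter.1 hχ₁
          obtain ⟨χ₀, hχ₀S, hχ₀β⟩ := hT
          -- the key inequality
          obtain ⟨w, hw⟩ := (hβ χ₀ hχ₀S).2
          rw [hχ₀β] at hw
          have htot : ∑ φ ∈ S₁, (K.index * p ^ (β φ)) ^ 2 +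
              K.index * (p ^ (2 * (a + 1)) * w) =
              K.index * (p ^ (2 * (a + 1)) * w * Nat.card Z) := by
            rw [← hw, hKZ, ← hsum]
            congr 1
            refine Finset.sum_congr rfl fun φ hφ => ?_
            rw [(hβ φ hφ).1]
          have hkey := key_sum S₁ β he hp hcop htot ⟨χ₁, hχ₁'.1, hχ₁'.2⟩
          set T : Set (L → ℂ) := {χ | χ ∈ S₁ ∧ β χ = a + 1} with hTdef
          have hTS : T ⊆ Cfsg.inducedIrrAbove K ⊥ := fun χ hχ => hS₁S χ hχ.1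
          have hdvd : ∀ χ ∈ T, charDegree χ₁ ∣ charDegree χ := by
            intro χ hχ
            rw [(hβ χ₁ hχ₁'.1).1, (hβ χ hχ.1).1, hχ.2]
            exact Nat.mul_dvd_mul_left _ (pow_dvd_pow p (by omega))
          have hineq : ∀ χ ∈ T, (2 * (charDegree χ : ℝ) * (charDegree χ₁ : ℝ)) <
              ∑ φ ∈ U a, (((charDegree φ : ℕ) : ℝ) ^ 2 /
                ((⌊(Cfsg.classInner φ φ).re⌋₊ : ℕ) : ℝ)) := by
            intro χ hχ
            have h1 : ∑ φ ∈ U a, (((charDegree φ : ℕ) : ℝ) ^ 2 /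
                ((⌊(Cfsg.classInner φ φ).re⌋₊ : ℕ) : ℝ)) =
                ((∑ φ ∈ U a, (K.index * p ^ (β φ)) ^ 2 : ℕ) : ℝ) := by
              push_cast
              refine Finset.sum_congr rfl fun φ hφ => ?_
              have hφS := (Finset.mem_filter.1 hφ).1
              rw [hn1 φ hφS, (hβ φ hφS).1]
              push_cast
              simp
            rw [h1, (hβ χ₁ hχ₁'.1).1, (hβ χ hχ.1).1, hχ.2]
            have h2 : 2 * (K.index * p ^ (a + 1)) * (K.index * p ^ (β χ₁)) <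
                K.index ^ 2 * p ^ (2 * (a + 1)) := by
              have h3 : p ^ (β χ₁) ≤ p ^ a := Nat.pow_le_pow_right hp.pos hχ₁'.2
              have h4 : 2 * (K.index * p ^ (a + 1)) * (K.index * p ^ (β χ₁)) ≤
                  2 * (K.index * p ^ (a + 1)) * (K.index * p ^ a) :=
                Nat.mul_le_mul_left _ (Nat.mul_le_mul_left _ h3)
              have h5 : 2 * (K.index * p ^ (a + 1)) * (K.index * p ^ a) <
                  K.index ^ 2 * p ^ (2 * (a + 1)) := by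
                have h6 : p ^ (2 * (a + 1)) = p * (p ^ (a + 1) * p ^ a) := by
                  rw [← pow_add, ← pow_succ']; congr 1; omega
                rw [h6]
                have hpos : 0 < K.index ^ 2 * (p ^ (a + 1) * p ^ a) := by positivity
                nlinarith
              exact lt_of_le_of_lt h4 h5
            have h7 : ((2 * (K.index * p ^ (a + 1)) * (K.index * p ^ (β χ₁)) : ℕ) : ℝ) <
                ((∑ φ ∈ U a, (K.index * p ^ (β φ)) ^ 2 : ℕ) : ℝ) := by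
              exact_mod_cast lt_of_lt_of_le h2 hkey
            push_cast at h7 ⊢
            exact h7
          obtain ⟨S₂, h0, -, h2, -, h4⟩ := extend_coherent _ τ R hS hfinS
            (fun φ => charDegree φ) (fun φ => ⌊(Cfsg.classInner φ φ).re⌋₊) hd hn (U a)
            (hU_sub a) (fun φ hφ => Finset.mem_coe.1 (hU_conj a φ (Finset.mem_coe.2 hφ))) hcoh χ₁
            hχ₁ T hTS hdvd hineq
          refine coherent_subset h4 ?_ (exists_nonzero hS (hU_sub (a + 1))
            (by exact_mod_cast hne) (hU_conj (a + 1)))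
          intro φ hφ
          have hφ' := Finset.mem_filter.1 (Finset.mem_coe.1 hφ)
          by_cases hle : β φ ≤ a
          · exact Finset.mem_coe.2 (h0 (Finset.mem_filter.2 ⟨hφ'.1, hle⟩))
          · exact h2 ⟨hφ'.1, by omega⟩
        · have : U (a + 1) = U a := by
            ext φ
            simp only [hU, Finset.mem_filter]
            constructor
            · rintro ⟨h1, h2⟩
              refine ⟨h1, ?_⟩
              by_contra hcon
              exact hT ⟨φ, h1, by omega⟩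
            · rintro ⟨h1, h2⟩
              exact ⟨h1, by omega⟩
          rw [this]; exact hcoh
      · refine coh_same_degree hS (hU_sub (a + 1)) (by exact_mod_cast hne) (hU_conj (a + 1)) ?_
        refine hsame (U (a + 1)) (a + 1) (Finset.filter_subset _ _) (fun φ hφ => ?_)
        have h1 := Finset.mem_filter.1 hφ
        by_contra hcon
        exact hUa ⟨φ, Finset.mem_filter.2 ⟨h1.1, by omega⟩⟩
  -- the top level
  have htop : U (S₁.sup β) = S₁ := by
    ext φ
    simp only [hU, Finset.mem_filter]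
    exact ⟨fun h => h.1, fun h => ⟨h, Finset.le_sup h⟩⟩
  have hne : S₁.Nonempty := by
    obtain ⟨θ, hθ, hnt⟩ := exists_nontrivial_on K Z hZK hZ1
    exact ⟨_, (hS₁mem _).2 (ind_mem_S1 K Z hZK hθ hnt)⟩
  have := hlevel (S₁.sup β) (by rw [htop]; exact hne)
  rw [htop, hS₁] at this
  exact this

end part4

/-- Let K be a nilpotent normal subgroup of the finite group L of odd order with [K,K] < K < L and L/[K,K] a Frobenius group with kernel K/[K,K] (elements of K outside [K,K] are centralised modulo [K,K] only from inside K); let (S, τ, R) be a coherence system from L to G with S the functions induced from non-principal irreducible characters of K. Let Z be a nontrivial normal subgroup of L contained in the centre of K, and suppose every member of S outside S(Z) is an irreducible character of L. Then S minus S(Z) is the set of irreducible characters χ of L with χ z ≠ χ 1 for some z ∈ Z, and it is coherent. -/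
theorem result {L : Type*} [Group L] [Fintype L] {G : Type*} [Group G] [Fintype G] (K : Subgroup L) [hK : K.Normal] (hsolv : Group.IsSolvable K) (τ : (L → ℂ) → (G → ℂ)) (R : (L → ℂ) → Finset (G → ℂ)) (hS : Cfsg.IsCoherenceSystem (Cfsg.inducedIrrAbove K ⊥) τ R) (hodd : Odd (Nat.card L)) (hnil : Group.IsNilpotent K) (hH₁K : ⁅K, K⁆ < K) (hKL : K < ⊤) (hfrob : ∀ k ∈ K, k ∉ ⁅K, K⁆ → ∀ x : L, x * k * x⁻¹ * k⁻¹ ∈ ⁅K, K⁆ → x ∈ K) (Z : Subgroup L) [Z.Normal] (hZ1 : Z ≠ ⊥) (hZK : Z ≤ K) (hZc : ∀ z ∈ Z, ∀ k ∈ K, z * k = k * z) (hirr : ∀ χ ∈ Cfsg.inducedIrrAbove K ⊥ \ Cfsg.inducedIrrAbove K Z, Cfsg.IsIrrCharacter L χ) : Cfsg.inducedIrrAbove K ⊥ \ Cfsg.inducedIrrAbove K Z = {χ | Cfsg.IsIrrCharacter L χ ∧ ∃ z ∈ Z, χ z ≠ χ 1} ∧ Cfsg.IsCoherent (Cfsg.inducedIrrAbove K ⊥ \ Cfsg.inducedIrrAbove K Z) {1}ᶜ τ := by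
  classical
  haveI : Finite L := Finite.of_fintype L
  haveI : Fintype K := Fintype.ofFinite K
  have he : 0 < K.index := Nat.pos_of_ne_zero Subgroup.index_ne_zero_of_finite
  have hconj : ∀ φ ∈ Cfsg.inducedIrrAbove K ⊥ \ Cfsg.inducedIrrAbove K Z,
      Cfsg.conjFun φ ∈ Cfsg.inducedIrrAbove K ⊥ \ Cfsg.inducedIrrAbove K Z := by
    intro φ hφ
    refine ⟨inducedIrrAbove_conj K hφ.1, fun h => hφ.2 ?_⟩
    have := inducedIrrAbove_conj K h
    rwa [conjFun_conjFun] at this
  have hne : (Cfsg.inducedIrrAbove K ⊥ \ Cfsg.inducedIrrAbove K Z).Nonempty := by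
    obtain ⟨θ, hθ, hnt⟩ := exists_nontrivial_on K Z hZK hZ1
    exact ⟨_, ind_mem_S1 K Z hZK hθ hnt⟩
  refine ⟨?_, ?_⟩
  · ext φ
    constructor
    · intro hφ
      exact ⟨hirr φ hφ, nontrivial_of_mem_S1 K Z hφ⟩
    · rintro ⟨hφirr, hφZ⟩
      have hφc := isCharacter_of_isIrrCharacter hφirr
      have hRc : Cfsg.IsCharacter K (fun k : K => φ k) := isCharacter_restrict K hφc
      have h1 : (fun k : K => φ k) 1 ≠ 0 := by
        show φ ((1 : K) : L) ≠ 0
        rw [Subgroup.coe_one]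
        obtain ⟨t, ht0, ht⟩ := irr_one_eq hφirr
        rw [ht]
        exact_mod_cast ht0.ne'
      obtain ⟨θ, hθ, hθne⟩ := exists_constituent hRc h1
      obtain ⟨hnt, rfl⟩ := eq_ind_of_constituent K Z hZK hirr hφirr hφZ hθ hθne
      exact ind_mem_S1 K Z hZK hθ hnt
  · by_cases hpp : ∃ p n : ℕ, p.Prime ∧ Nat.card K = p ^ n
    · obtain ⟨p, n, hp, hcard⟩ := hpp
      have hn0 : n ≠ 0 := by
        rintro rfl
        rw [pow_zero, Subgroup.card_eq_one] at hcard
        rw [hcard] at hH₁K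
        exact (not_lt_bot hH₁K)
      have hpK : p ∣ Nat.card K := by rw [hcard]; exact dvd_pow_self p hn0
      have hpodd : Odd p := Odd.of_dvd_nat hodd (dvd_trans hpK (Subgroup.card_subgroup_dvd_card K))
      have hp3 : 3 ≤ p := by
        have h2 := hp.two_le
        rcases hpodd with ⟨k, hk⟩
        omega
      -- `[L:K]` is prime to `p`
      have hcong := frob_congr K ⁅K, K⁆ K hH₁K.le le_rfl le_rfl hfrob
      have hrel : (⁅K, K⁆).relIndex K ∣ p ^ n := by
        rw [← hcard]; exact Subgroup.relIndex_dvd_card _ K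
      obtain ⟨j, -, hj⟩ := (Nat.dvd_prime_pow hp).1 hrel
      have hj0 : j ≠ 0 := by
        rintro rfl
        rw [pow_zero] at hj
        exact (not_le_of_gt hH₁K) (Subgroup.relIndex_eq_one.1 hj)
      have hcop : Nat.Coprime K.index p := by
        refine ((Nat.Prime.coprime_iff_not_dvd hp).2 ?_).symm
        intro hpe
        have h1 : p ∣ p ^ j - 1 := by rw [← hj]; exact dvd_trans hpe hcong
        have h2 : p ∣ p ^ j := dvd_pow_self p hj0
        have h3 : 1 ≤ p ^ j := Nat.one_le_pow _ _ hp.pos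
        have h4 : p ∣ p ^ j - (p ^ j - 1) := Nat.dvd_sub h2 h1
        have h5 : p ^ j - (p ^ j - 1) = 1 := by omega
        rw [h5] at h4
        exact hp.one_lt.ne' (Nat.dvd_one.1 h4)
      exact pgroup_case K τ R hS Z hZ1 hZK hZc hirr hp hp3 hcard hcop
    · haveI := hnil
      have hall := Cfsg.Agent.S1521.result K hsolv τ R hS hodd ⊥ bot_le inferInstance ⁅K, K⁆
        (sup_bot_eq _).symm hH₁K hKL hfrob (Or.inr (Or.inr (Or.inl (by
          rw [Subgroup.relIndex_bot_left]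
          exact hpp))))
      exact coherent_subset hall Set.diff_subset (exists_nonzero hS Set.diff_subset hne hconj)

end Cfsg.Agent.S1522
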