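import Mathlib
import Cfsg.Statements.S1530
import Cfsg.Agent.Lib.Helper8.Coherence
import Cfsg.Agent.Lib.Helper8.CharExtra
import Cfsg.Agent.Lib.Helper8.Proj

set_option autoImplicit false
open Cfsg

namespace Cfsg.Agent.S1530

open Cfsg.Agent.Helper8 Cfsg.Agent.Helper24
open scoped ComplexConjugate

lemma vanish_of_one {L : Type*} [One L] {a : L → ℂ} (h1 : a 1 = 0) :
    ∀ x : L, x ∉ ({1}ᶜ : Set L) → a x = 0 := by
  intro x hx
  have : x = 1 := by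
    by_contra hne
    exact hx hne
  rw [this, h1]

/-- a generalized character of norm one does not vanish at the identity -/
lemma one_ne_zero_of_norm_one {G : Type*} [Group G] [Fintype G] {A : G → ℂ}
    (hA : Cfsg.IsGeneralizedCharacter G A) (hn : Cfsg.classInner A A = 1) : A 1 ≠ 0 := by
  rcases genChar_norm_one hA hn with h | h
  · obtain ⟨n, hn, hn1⟩ := irr_one_eq h
    rw [hn1]
    exact_mod_cast hn.ne'
  · obtain ⟨n, hn, hn1⟩ := irr_one_eq h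
    intro h0
    rw [Pi.neg_apply, h0, neg_zero] at hn1
    have : (n : ℂ) ≠ 0 := by exact_mod_cast hn.ne'
    exact this hn1.symm

/-- the linear isometry on `ℤ[χ]` sending `χ` to a prescribed generalized character of norm one -/
lemma lio_single {G : Type*} [Group G] [Fintype G] {N : Type*} [Group N] [Fintype N] {χ : N → ℂ}
    (hχ : Cfsg.classInner χ χ = 1) {X : G → ℂ} (gX : Cfsg.IsGeneralizedCharacter G X)
    (hX : Cfsg.classInner X X = 1) :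
    Cfsg.IsLinearIsometryOn (Cfsg.zspan ({χ} : Set (N → ℂ)))
      (fun θ => Cfsg.classInner θ χ • X) := by
  have hmem : ∀ θ ∈ Cfsg.zspan ({χ} : Set (N → ℂ)), ∃ s : ℤ, θ = s • χ := by
    intro θ hθ
    obtain ⟨s, hs⟩ := Submodule.mem_span_singleton.1 hθ
    exact ⟨s, hs.symm⟩
  have hval : ∀ s : ℤ, Cfsg.classInner (s • χ) χ • X = s • X := by
    intro s
    rw [classInner_zsmul_left, hχ, mul_one]
    ext g; simp
  refine ⟨?_, ?_, ?_, ?_⟩
  · intro α _ β _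
    simp only [Helper24.classInner_add_left, add_smul]
  · intro α _ n
    simp only [classInner_zsmul_left]
    ext g; simp [mul_assoc]
  · intro α hα β hβ
    obtain ⟨s, rfl⟩ := hmem α hα
    obtain ⟨t, rfl⟩ := hmem β hβ
    simp only [hval]
    rw [classInner_zsmul_left, classInner_zsmul_right, classInner_zsmul_left,
      classInner_zsmul_right, hχ, hX]
  · intro α hα
    obtain ⟨s, rfl⟩ := hmem α hα
    simp only [hval]
    exact isGen_zsmul s gX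

theorem result {G : Type*} [Group G] [Fintype G] (N : Subgroup G) [Fintype N] (S₀ : Finset (N → ℂ)) (χ : N → ℂ) (hirr : ∀ ξ ∈ S₀, Cfsg.IsIrrCharacter N ξ) (hχ : Cfsg.IsIrrCharacter N χ) (hχS : χ ∉ S₀) (d : (N → ℂ) → ℕ) (hd : ∀ ξ ∈ insert χ S₀, ξ 1 = (d ξ : ℂ)) (τ : (N → ℂ) → (G → ℂ)) (hτ : Cfsg.IsLinearIsometryOn (Cfsg.zspanOn (↑(insert χ S₀) : Set (N → ℂ)) {1}ᶜ) τ) (hτ1 : ∀ α ∈ Cfsg.zspanOn (↑(insert χ S₀) : Set (N → ℂ)) {1}ᶜ, τ α 1 = 0) (hcoh : Cfsg.IsCoherent (↑S₀ : Set (N → ℂ)) {1}ᶜ τ) (ψ : N → ℂ) (hψ : ψ ∈ S₀) (hdvd : d ψ ∣ d χ) (hlt : 2 * d ψ * d χ < ∑ ξ ∈ S₀, d ξ ^ 2) : Cfsg.IsCoherent (↑(insert χ S₀) : Set (N → ℂ)) {1}ᶜ τ := by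
  classical
  obtain ⟨⟨α₀, hα₀, hα₀ne⟩, σ, hσ, hσα⟩ := hcoh
  set S : Set (N → ℂ) := (↑(insert χ S₀) : Set (N → ℂ)) with hSdef
  have hS₀S : (↑S₀ : Set (N → ℂ)) ⊆ S := by
    intro x hx
    rw [hSdef, Finset.coe_insert]
    exact Set.mem_insert_of_mem _ hx
  have hχmem : χ ∈ S := by
    rw [hSdef, Finset.coe_insert]
    exact Set.mem_insert _ _
  have hirrS : ∀ ξ ∈ S, Cfsg.IsIrrCharacter N ξ := by
    intro ξ hξ
    rw [hSdef, Finset.coe_insert] at hξ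
    rcases hξ with rfl | hξ
    · exact hχ
    · exact hirr ξ hξ
  have hψS : ψ ∈ S := hS₀S hψ
  -- degrees
  have hdpos : ∀ ξ ∈ insert χ S₀, 0 < d ξ := by
    intro ξ hξ
    obtain ⟨n, hn, hn1⟩ := irr_one_eq (hirrS ξ (by rw [hSdef]; exact_mod_cast hξ))
    have h := hd ξ hξ
    rw [hn1] at h
    have : n = d ξ := by exact_mod_cast h
    rw [← this]; exact hn
  have hdψ := hd ψ (Finset.mem_insert_of_mem hψ)
  have hdχ := hd χ (Finset.mem_insert_self _ _)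
  have hdψpos := hdpos ψ (Finset.mem_insert_of_mem hψ)
  have hdχpos := hdpos χ (Finset.mem_insert_self _ _)
  obtain ⟨a, ha⟩ := hdvd
  have hapos : 0 < a := by
    rcases Nat.eq_zero_or_pos a with h | h
    · rw [h, mul_zero] at ha; omega
    · exact h
  -- orthogonality relations in `S`
  have oχχ : Cfsg.classInner χ χ = 1 := by rw [irr_orthogonality hχ hχ, if_pos rfl]
  have oχξ : ∀ ξ ∈ S₀, Cfsg.classInner χ ξ = 0 := by
    intro ξ hξ
    rw [irr_orthogonality hχ (hirr ξ hξ), if_neg]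
    rintro rfl; exact hχS hξ
  have oξχ : ∀ ξ ∈ S₀, Cfsg.classInner ξ χ = 0 := by
    intro ξ hξ
    rw [irr_orthogonality (hirr ξ hξ) hχ, if_neg]
    rintro rfl; exact hχS hξ
  have oξη : ∀ ξ ∈ S₀, ∀ η ∈ S₀, Cfsg.classInner ξ η = if ξ = η then 1 else 0 :=
    fun ξ hξ η hη => irr_orthogonality (hirr ξ hξ) (hirr η hη)
  have mξ : ∀ ξ ∈ S₀, ξ ∈ Cfsg.zspan (↑S₀ : Set (N → ℂ)) := fun ξ hξ => mem_zspan_of_mem hξ
  have oσ : ∀ ξ ∈ S₀, ∀ η ∈ S₀, Cfsg.classInner (σ ξ) (σ η) = if ξ = η then 1 else 0 := by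
    intro ξ hξ η hη
    rw [lio_inner hσ (mξ ξ hξ) (mξ η hη), oξη ξ hξ η hη]
  have gσ : ∀ ξ ∈ S₀, Cfsg.IsGeneralizedCharacter G (σ ξ) := fun ξ hξ => lio_gen hσ (mξ ξ hξ)
  -- the element `β`
  set β : N → ℂ := χ - (a : ℤ) • ψ with hβ
  have mχ : χ ∈ Cfsg.zspan S := mem_zspan_of_mem hχmem
  have mψ : ψ ∈ Cfsg.zspan S := mem_zspan_of_mem hψS
  have mψ₀ := mξ ψ hψ
  have hβS : β ∈ Cfsg.zspan S := zspan_sub_mem mχ (zspan_zsmul_mem _ mψ)
  have hβ1 : β 1 = 0 := by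
    simp only [hβ, Pi.sub_apply, Pi.smul_apply, hdχ, hdψ, ha]
    simp; ring
  have hβZ : β ∈ Cfsg.zspanOn S {1}ᶜ := ⟨hβS, vanish_of_one hβ1⟩
  have hββ : Cfsg.classInner β β = 1 + (a : ℂ) ^ 2 := by
    rw [hβ, classInner_sub_left, classInner_sub_right, classInner_sub_right,
      classInner_zsmul_left, classInner_zsmul_left, classInner_zsmul_right,
      classInner_zsmul_right, oχχ, oχξ ψ hψ, oξχ ψ hψ, oξη ψ hψ ψ hψ, if_pos rfl]
    push_cast; ring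
  -- the candidate image of `χ`
  set Xc : G → ℂ := τ β + (a : ℤ) • σ ψ with hXc
  have gτβ : Cfsg.IsGeneralizedCharacter G (τ β) := hτ.2.2.2 β hβZ
  have gX : Cfsg.IsGeneralizedCharacter G Xc := isGen_add gτβ (isGen_zsmul _ (gσ ψ hψ))
  have hm : ∀ ξ ∈ S₀, ∃ m : ℤ, Cfsg.classInner Xc (σ ξ) = m :=
    fun ξ hξ => genChar_inner_genChar_int gX (gσ ξ hξ)
  choose! m hm using hm
  -- the elements `γ ξ`
  have hγ : ∀ ξ ∈ S₀, (d ψ : ℂ) * Cfsg.classInner Xc (σ ξ) = (d ξ : ℂ) * Cfsg.classInner Xc (σ ψ) ∧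
      (d ψ : ℂ) * σ ξ 1 = (d ξ : ℂ) * σ ψ 1 := by
    intro ξ hξ
    set γ : N → ℂ := (d ψ : ℤ) • ξ - (d ξ : ℤ) • ψ with hγdef
    have hγ₀ : γ ∈ Cfsg.zspan (↑S₀ : Set (N → ℂ)) :=
      zspan_sub_mem (zspan_zsmul_mem _ (mξ ξ hξ)) (zspan_zsmul_mem _ mψ₀)
    have hγ1 : γ 1 = 0 := by
      simp only [hγdef, Pi.sub_apply, Pi.smul_apply, hd ξ (Finset.mem_insert_of_mem hξ), hdψ]
      simp; ring
    have hγZ₀ : γ ∈ Cfsg.zspanOn (↑S₀ : Set (N → ℂ)) {1}ᶜ := ⟨hγ₀, vanish_of_one hγ1⟩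
    have hγZ : γ ∈ Cfsg.zspanOn S {1}ᶜ := ⟨zspan_mono hS₀S hγ₀, vanish_of_one hγ1⟩
    have hσγ : σ γ = (d ψ : ℤ) • σ ξ - (d ξ : ℤ) • σ ψ := by
      rw [hγdef, lio_sub hσ (zspan_zsmul_mem _ (mξ ξ hξ)) (zspan_zsmul_mem _ mψ₀),
        lio_zsmul hσ (mξ ξ hξ), lio_zsmul hσ mψ₀]
    have hχγ : Cfsg.classInner χ γ = 0 := by
      rw [hγdef, classInner_sub_right, classInner_zsmul_right, classInner_zsmul_right,
        oχξ ξ hξ, oχξ ψ hψ]
      ring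
    have h0 : Cfsg.classInner Xc (σ γ) = 0 := by
      have e1 : Cfsg.classInner (τ β) (σ γ) = Cfsg.classInner β γ := by
        rw [hσα γ hγZ₀, hτ.2.2.1 β hβZ γ hγZ]
      have e2 : Cfsg.classInner (σ ψ) (σ γ) = Cfsg.classInner ψ γ := lio_inner hσ mψ₀ hγ₀
      rw [hXc, Helper24.classInner_add_left, classInner_zsmul_left, e1, e2]
      have : Cfsg.classInner β γ + (a : ℤ) * Cfsg.classInner ψ γ = Cfsg.classInner χ γ := by
        rw [hβ, classInner_sub_left, classInner_zsmul_left]; ring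
      rw [this, hχγ]
    constructor
    · rw [hσγ, classInner_sub_right, classInner_zsmul_right, classInner_zsmul_right] at h0
      push_cast at h0
      linear_combination h0
    · have h1 : σ γ 1 = 0 := by rw [hσα γ hγZ₀]; exact hτ1 γ hγZ
      rw [hσγ] at h1
      have h2 : ((d ψ : ℤ) : ℂ) * σ ξ 1 - ((d ξ : ℤ) : ℂ) * σ ψ 1 = 0 := by
        have := h1
        rw [Pi.sub_apply, Pi.smul_apply, Pi.smul_apply, zsmul_eq_mul, zsmul_eq_mul] at this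
        exact this
      push_cast at h2
      linear_combination h2
  set k : ℤ := m ψ with hk
  have hrel : ∀ ξ ∈ S₀, (d ψ : ℤ) * m ξ = (d ξ : ℤ) * k := by
    intro ξ hξ
    have := (hγ ξ hξ).1
    rw [hm ξ hξ, hm ψ hψ] at this
    exact_mod_cast this
  -- the norm of `Xc`
  have hτβψ : Cfsg.classInner (τ β) (σ ψ) = (k : ℂ) - a := by
    have := hm ψ hψ
    rw [hXc, Helper24.classInner_add_left, classInner_zsmul_left, oσ ψ hψ ψ hψ, if_pos rfl] at this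
    push_cast at this
    linear_combination this
  have hψτβ : Cfsg.classInner (σ ψ) (τ β) = (k : ℂ) - a := by
    rw [← Helper24.classInner_conj_symm, hτβψ]
    simp
  have hXX : Cfsg.classInner Xc Xc = 1 + 2 * (a : ℂ) * k := by
    rw [hXc]
    simp only [Helper24.classInner_add_left, Helper24.classInner_add_right, classInner_zsmul_left,
      classInner_zsmul_right]
    rw [hτ.2.2.1 β hβZ β hβZ, hββ, hτβψ, hψτβ, oσ ψ hψ ψ hψ, if_pos rfl]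
    push_cast; ring
  -- Bessel
  set P : G → ℂ := ∑ ξ ∈ S₀, (m ξ) • σ ξ with hP
  have hσP : ∀ ξ ∈ S₀, Cfsg.classInner (σ ξ) P = m ξ := by
    intro ξ hξ
    rw [hP, Helper24.classInner_sum_right]
    rw [Finset.sum_eq_single ξ]
    · rw [classInner_zsmul_right, oσ ξ hξ ξ hξ, if_pos rfl, mul_one]
    · intro η hη hne
      rw [classInner_zsmul_right, oσ ξ hξ η hη, if_neg (fun h => hne h.symm), mul_zero]
    · intro h; exact absurd hξ h
  have hXP : Cfsg.classInner Xc P = ((∑ ξ ∈ S₀, m ξ ^ 2 : ℤ) : ℂ) := by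
    rw [hP, Helper24.classInner_sum_right]
    push_cast
    refine Finset.sum_congr rfl fun ξ hξ => ?_
    rw [classInner_zsmul_right, hm ξ hξ]; ring
  have hPX : Cfsg.classInner P Xc = ((∑ ξ ∈ S₀, m ξ ^ 2 : ℤ) : ℂ) := by
    rw [← Helper24.classInner_conj_symm, hXP]
    simp
  have hPP : Cfsg.classInner P P = ((∑ ξ ∈ S₀, m ξ ^ 2 : ℤ) : ℂ) := by
    conv_lhs => rw [hP]
    rw [Helper24.classInner_sum_left]
    push_cast
    refine Finset.sum_congr rfl fun ξ hξ => ?_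
    rw [classInner_zsmul_left, hσP ξ hξ]; ring
  have hRR : Cfsg.classInner (Xc - P) (Xc - P) =
      ((1 + 2 * (a : ℤ) * k - ∑ ξ ∈ S₀, m ξ ^ 2 : ℤ) : ℂ) := by
    rw [classInner_sub_left, classInner_sub_right, classInner_sub_right, hXX, hXP, hPX, hPP]
    push_cast; ring
  have hbessel : ∑ ξ ∈ S₀, m ξ ^ 2 ≤ 1 + 2 * (a : ℤ) * k := by
    have := classInner_self_re_nonneg (Xc - P)
    rw [hRR, Complex.intCast_re] at this
    have h2 : (0 : ℤ) ≤ 1 + 2 * (a : ℤ) * k - ∑ ξ ∈ S₀, m ξ ^ 2 := by exact_mod_cast this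
    linarith
  -- arithmetic
  have hsum : (d ψ : ℤ) ^ 2 * ∑ ξ ∈ S₀, m ξ ^ 2 = k ^ 2 * ∑ ξ ∈ S₀, (d ξ : ℤ) ^ 2 := by
    rw [Finset.mul_sum, Finset.mul_sum]
    refine Finset.sum_congr rfl fun ξ hξ => ?_
    have := hrel ξ hξ
    calc (d ψ : ℤ) ^ 2 * m ξ ^ 2 = ((d ψ : ℤ) * m ξ) ^ 2 := by ring
      _ = ((d ξ : ℤ) * k) ^ 2 := by rw [this]
      _ = k ^ 2 * (d ξ : ℤ) ^ 2 := by ring
  have hlt' : 2 * (a : ℤ) * (d ψ : ℤ) ^ 2 + 1 ≤ ∑ ξ ∈ S₀, (d ξ : ℤ) ^ 2 := by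
    have h1 : ((2 * d ψ * d χ : ℕ) : ℤ) < ((∑ ξ ∈ S₀, d ξ ^ 2 : ℕ) : ℤ) := by exact_mod_cast hlt
    rw [ha] at h1
    push_cast at h1
    nlinarith
  have hdψ1 : (1 : ℤ) ≤ (d ψ : ℤ) := by exact_mod_cast hdψpos
  have ha1 : (1 : ℤ) ≤ (a : ℤ) := by exact_mod_cast hapos
  have hk01 : k = 0 ∨ k = 1 := by
    by_contra hcon
    push Not at hcon
    have hkk : 2 ≤ k ^ 2 - k := by
      rcases lt_or_gt_of_ne hcon.1 with h | h
      · nlinarith
      · have : 2 ≤ k := by omega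
        nlinarith
    have hk2 : 0 ≤ k ^ 2 := sq_nonneg k
    have h1 : k ^ 2 * (2 * (a : ℤ) * (d ψ : ℤ) ^ 2 + 1) ≤ (d ψ : ℤ) ^ 2 * (1 + 2 * (a : ℤ) * k) := by
      calc k ^ 2 * (2 * (a : ℤ) * (d ψ : ℤ) ^ 2 + 1) ≤ k ^ 2 * ∑ ξ ∈ S₀, (d ξ : ℤ) ^ 2 :=
            mul_le_mul_of_nonneg_left hlt' hk2
        _ = (d ψ : ℤ) ^ 2 * ∑ ξ ∈ S₀, m ξ ^ 2 := hsum.symm
        _ ≤ (d ψ : ℤ) ^ 2 * (1 + 2 * (a : ℤ) * k) :=
            mul_le_mul_of_nonneg_left hbessel (sq_nonneg _)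
    have hd2 : (1 : ℤ) ≤ (d ψ : ℤ) ^ 2 := by nlinarith
    have h3 : 2 * (a : ℤ) * (d ψ : ℤ) ^ 2 * (k ^ 2 - k) + k ^ 2 ≤ (d ψ : ℤ) ^ 2 := by nlinarith
    have h4 : 2 * (a : ℤ) * (d ψ : ℤ) ^ 2 * 2 ≤ 2 * (a : ℤ) * (d ψ : ℤ) ^ 2 * (k ^ 2 - k) :=
      mul_le_mul_of_nonneg_left hkk (by positivity)
    nlinarith
  have hσψ1 : σ ψ 1 ≠ 0 :=
    one_ne_zero_of_norm_one (gσ ψ hψ) (by rw [oσ ψ hψ ψ hψ, if_pos rfl])
  rcases hk01 with hk0 | hk1
  swap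
  · exfalso
    have hsum1 : (d ψ : ℤ) ^ 2 * ∑ ξ ∈ S₀, m ξ ^ 2 = ∑ ξ ∈ S₀, (d ξ : ℤ) ^ 2 := by
      rw [hsum, hk1]; ring
    have hd2 : (1 : ℤ) ≤ (d ψ : ℤ) ^ 2 := by nlinarith
    have hsumge : 2 * (a : ℤ) + 1 ≤ ∑ ξ ∈ S₀, m ξ ^ 2 := by
      by_contra hlt2
      push Not at hlt2
      have h1 : ∑ ξ ∈ S₀, m ξ ^ 2 ≤ 2 * (a : ℤ) := by omega
      have h2 : (d ψ : ℤ) ^ 2 * ∑ ξ ∈ S₀, m ξ ^ 2 ≤ (d ψ : ℤ) ^ 2 * (2 * (a : ℤ)) :=
        mul_le_mul_of_nonneg_left h1 (sq_nonneg _)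
      nlinarith
    have heq : ∑ ξ ∈ S₀, m ξ ^ 2 = 1 + 2 * (a : ℤ) := by
      rw [hk1] at hbessel
      linarith
    have hR0 : Xc - P = 0 := by
      apply classInner_self_eq_zero_of_re
      rw [hRR, hk1, heq]
      simp
    have hXP' : Xc = P := sub_eq_zero.1 hR0
    have hσ1 : ∀ ξ ∈ S₀, σ ξ 1 = m ξ * σ ψ 1 := by
      intro ξ hξ
      have h1 := (hγ ξ hξ).2
      have h2 := hrel ξ hξ
      rw [hk1, mul_one] at h2
      have h3 : (d ξ : ℂ) = (d ψ : ℂ) * m ξ := by exact_mod_cast h2.symm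
      rw [h3] at h1
      have hne : (d ψ : ℂ) ≠ 0 := by exact_mod_cast hdψpos.ne'
      apply mul_left_cancel₀ hne
      linear_combination h1
    have hX1 : Xc 1 = a * σ ψ 1 := by
      rw [hXc, Pi.add_apply, hτ1 β hβZ, zero_add, Pi.smul_apply, zsmul_eq_mul]
      push_cast; rfl
    have hP1 : P 1 = ((∑ ξ ∈ S₀, m ξ ^ 2 : ℤ) : ℂ) * σ ψ 1 := by
      rw [hP, Finset.sum_apply]
      push_cast
      rw [Finset.sum_mul]
      refine Finset.sum_congr rfl fun ξ hξ => ?_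
      rw [Pi.smul_apply, zsmul_eq_mul, hσ1 ξ hξ]; ring
    have hfin : ((a : ℂ) + 1) * σ ψ 1 = 0 := by
      have := congrFun hXP' 1
      rw [hX1, hP1, heq] at this
      push_cast at this
      linear_combination -this
    rcases mul_eq_zero.1 hfin with h | h
    · have h5 : ((a + 1 : ℕ) : ℂ) = 0 := by push_cast; exact h
      have h6 : (a + 1 : ℕ) = 0 := by exact_mod_cast h5
      omega
    · exact hσψ1 h
  · have hm0 : ∀ ξ ∈ S₀, Cfsg.classInner Xc (σ ξ) = 0 := by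
      intro ξ hξ
      have h2 := hrel ξ hξ
      rw [hk0, mul_zero] at h2
      have h3 : m ξ = 0 := by
        rcases mul_eq_zero.1 h2 with h | h
        · omega
        · exact h
      rw [hm ξ hξ, h3]; simp
    have hXX1 : Cfsg.classInner Xc Xc = 1 := by rw [hXX, hk0]; simp
    have hτ0 : τ 0 = 0 := by
      have h0 : (0 : N → ℂ) ∈ Cfsg.zspanOn S {1}ᶜ := ⟨zspan_zero_mem S, fun _ _ => rfl⟩
      have := hτ.2.1 0 h0 0
      simpa using this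
    have hagree : ∀ θ ∈ Cfsg.zspanOn ({χ} : Set (N → ℂ)) {1}ᶜ,
        (fun θ => Cfsg.classInner θ χ • Xc) θ = τ θ := by
      rintro θ ⟨hθ, hθ1⟩
      obtain ⟨s, rfl⟩ := Submodule.mem_span_singleton.1 hθ
      have h1 : (s • χ) 1 = 0 := hθ1 1 (by simp)
      rw [Pi.smul_apply, hdχ, zsmul_eq_mul] at h1
      have hs : s = 0 := by
        rcases mul_eq_zero.1 h1 with h | h
        · exact_mod_cast h
        · exfalso
          have : d χ = 0 := by exact_mod_cast h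
          omega
      subst hs
      simp only [zero_smul, hτ0]
      rw [Helper24.classInner_zero_left, zero_smul]
    have hcross : ∀ ξ ∈ (↑S₀ : Set (N → ℂ)), ∀ η ∈ ({χ} : Set (N → ℂ)),
        Cfsg.classInner (σ ξ) ((fun θ => Cfsg.classInner θ χ • Xc) η) = 0 := by
      intro ξ hξ η hη
      rw [Set.mem_singleton_iff] at hη
      subst hη
      simp only
      rw [oχχ, one_smul, ← Helper24.classInner_conj_symm, hm0 ξ hξ, map_zero]
    have hkey : τ (ψ 1 • χ - χ 1 • ψ) =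
        ψ 1 • (fun θ => Cfsg.classInner θ χ • Xc) χ - χ 1 • σ ψ := by
      simp only
      rw [hdψ, hdχ, oχχ, one_smul]
      have e1 : (d ψ : ℂ) • χ - (d χ : ℂ) • ψ = (d ψ : ℤ) • β := by
        ext x
        simp only [hβ, ha, Pi.sub_apply, Pi.smul_apply]
        simp only [zsmul_eq_mul, smul_eq_mul]
        push_cast; ring
      have e2 : (d ψ : ℂ) • Xc - (d χ : ℂ) • σ ψ = (d ψ : ℤ) • τ β := by
        ext x
        simp only [hXc, ha, Pi.sub_apply, Pi.add_apply, Pi.smul_apply]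
        simp only [zsmul_eq_mul, smul_eq_mul]
        push_cast; ring
      rw [e1, e2, hτ.2.1 β hβZ]
    have hdisj : Disjoint (↑S₀ : Set (N → ℂ)) ({χ} : Set (N → ℂ)) := by
      rw [Set.disjoint_singleton_right]
      exact_mod_cast hχS
    have hglue := Coh.coherent_union N S (↑S₀) {χ} hirrS hS₀S
      (Set.singleton_subset_iff.2 hχmem) hdisj τ hτ σ (fun θ => Cfsg.classInner θ χ • Xc) hσ hσα
      (lio_single oχχ gX hXX1) hagree hcross ⟨ψ, hψ, χ, rfl, hkey⟩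
    have hSeq : ((↑S₀ : Set (N → ℂ)) ∪ {χ}) = S := by
      rw [hSdef, Finset.coe_insert, Set.union_singleton]
    rw [hSeq] at hglue
    exact hglue

end Cfsg.Agent.S1530
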