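import Mathlib
import Cfsg.Agent.Lib.Helper8.FrobCoh5
import Cfsg.Agent.Lib.Helper8.FrobCoh6
import Cfsg.Statements.S1533
-- import your own Cfsg.Agent.* helpers here

set_option autoImplicit false
open Cfsg

namespace Cfsg.Agent.S1533

/-- Let G be a finite group, p an odd prime, and P a nontrivial Sylow p-subgroup whose underlying set is a TI-subset of G, with P properly contained in its set normaliser N and C_G(x) ≤ P for every non-identity x ∈ P. Let S be the set of irreducible characters χ of N with χ x ≠ χ 1 for some x ∈ P. Then either S has exactly one member, P is elementary abelian and Nat.card P = [N:P] + 1; or (S, N minus 1, induction to G) is coherent. -/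
theorem result {G : Type*} [Group G] [Fintype G] (p : ℕ) [Fact p.Prime] (hp : p ≠ 2) (P : Sylow p G) (hP1 : (P : Subgroup G) ≠ ⊥) (hTI : Cfsg.IsTISubset ((P : Subgroup G) : Set G)) (hlt : (P : Subgroup G) < Subgroup.normalizer ((P : Subgroup G) : Set G)) (hC : ∀ k ∈ (P : Subgroup G), k ≠ 1 → Subgroup.centralizer ({k} : Set G) ≤ (P : Subgroup G)) [Fintype ↥(Subgroup.normalizer ((P : Subgroup G) : Set G))] : (Nat.card {χ : ↥(Subgroup.normalizer ((P : Subgroup G) : Set G)) → ℂ // Cfsg.IsIrrCharacter ↥(Subgroup.normalizer ((P : Subgroup G) : Set G)) χ ∧ ∃ x : ↥(Subgroup.normalizer ((P : Subgroup G) : Set G)), (x : G) ∈ (P : Subgroup G) ∧ χ x ≠ χ 1} = 1 ∧ Cfsg.IsElementaryAbelian p (P : Subgroup G) ∧ Nat.card (P : Subgroup G) = ((P : Subgroup G).subgroupOf (Subgroup.normalizer ((P : Subgroup G) : Set G))).index + 1) ∨ Cfsg.IsCoherent {χ : ↥(Subgroup.normalizer ((P : Subgroup G) : Set G)) → ℂ | Cfsg.IsIrrCharacter ↥(Subgroup.normalizer ((P : Subgroup G) : Set G)) χ ∧ ∃ x : ↥(Subgroup.normalizer ((P : Subgroup G) : Set G)),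 (x : G) ∈ (P : Subgroup G) ∧ χ x ≠ χ 1} {1}ᶜ (fun α => Cfsg.indFun (Subgroup.normalizer ((P : Subgroup G) : Set G)) α) := by
  classical
  haveI hKn : ((P : Subgroup G).subgroupOf
      (Subgroup.normalizer ((P : Subgroup G) : Set G))).Normal := Subgroup.normal_in_normalizer
  have hF := Cfsg.Agent.Helper5.TIFN.fpf (P : Subgroup G) hC
  have hSeq : {χ : ↥(Subgroup.normalizer ((P : Subgroup G) : Set G)) → ℂ |
      Cfsg.IsIrrCharacter ↥(Subgroup.normalizer ((P : Subgroup G) : Set G)) χ ∧
      ∃ x : ↥(Subgroup.normalizer ((P : Subgroup G) : Set G)), (x : G) ∈ (P : Subgroup G) ∧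
        χ x ≠ χ 1} =
      Cfsg.inducedIrrAbove ((P : Subgroup G).subgroupOf
        (Subgroup.normalizer ((P : Subgroup G) : Set G))) ⊥ := by
    rw [Cfsg.Agent.Helper8.FrobCoh.inducedIrrAbove_bot_eq _ hF]
    rfl
  by_cases hodd : Odd (Nat.card ↥(Subgroup.normalizer ((P : Subgroup G) : Set G)))
  · right
    rw [hSeq]
    exact Cfsg.Agent.Helper8.FrobCoh.coherent_pgroup (P : Subgroup G) hTI hlt hC P.isPGroup' hP1 hodd
  · have hpK' : IsPGroup p ↥((P : Subgroup G).subgroupOf
        (Subgroup.normalizer ((P : Subgroup G) : Set G))) := P.isPGroup'.comap_subtype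
    have hKodd : Odd (Nat.card ↥((P : Subgroup G).subgroupOf
        (Subgroup.normalizer ((P : Subgroup G) : Set G)))) := by
      obtain ⟨n, hn⟩ := hpK'.exists_card_eq
      rw [hn]
      exact ((Fact.out : p.Prime).odd_of_ne_two hp).pow
    have hab : ∀ a ∈ (P : Subgroup G).subgroupOf (Subgroup.normalizer ((P : Subgroup G) : Set G)),
        ∀ b ∈ (P : Subgroup G).subgroupOf (Subgroup.normalizer ((P : Subgroup G) : Set G)),
        a * b = b * a := by
      by_contra h
      exact hodd (Cfsg.Agent.Helper8.FrobCoh.odd_of_not_comm _ hF hKodd h)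
    have hab' : ∀ a b : ↥((P : Subgroup G).subgroupOf
        (Subgroup.normalizer ((P : Subgroup G) : Set G))), a * b = b * a :=
      fun a b => Subtype.ext (hab a a.2 b b.2)
    letI : Fintype (Cfsg.IrrCharacter ↥(Subgroup.normalizer ((P : Subgroup G) : Set G))) :=
      Cfsg.Agent.Helper24.irrFintype
    have hcardK : Nat.card ↥((P : Subgroup G).subgroupOf
        (Subgroup.normalizer ((P : Subgroup G) : Set G))) = Nat.card ↥(P : Subgroup G) :=
      Nat.card_congr (Subgroup.subgroupOfEquivOfLe hlt.le).toEquiv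
    have hTcard : Nat.card {χ : ↥(Subgroup.normalizer ((P : Subgroup G) : Set G)) → ℂ //
        Cfsg.IsIrrCharacter ↥(Subgroup.normalizer ((P : Subgroup G) : Set G)) χ ∧
        ∃ x : ↥(Subgroup.normalizer ((P : Subgroup G) : Set G)), (x : G) ∈ (P : Subgroup G) ∧
          χ x ≠ χ 1} =
        Nat.card {η : Cfsg.IrrCharacter ↥(Subgroup.normalizer ((P : Subgroup G) : Set G)) //
          Cfsg.Agent.Helper5.FrobKer.Rel ((P : Subgroup G).subgroupOf
            (Subgroup.normalizer ((P : Subgroup G) : Set G)))
            (η : ↥(Subgroup.normalizer ((P : Subgroup G) : Set G)) → ℂ)} :=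
      (Nat.card_congr (Equiv.subtypeSubtypeEquivSubtypeInter _ _)).symm
    by_cases hone : Nat.card {χ : ↥(Subgroup.normalizer ((P : Subgroup G) : Set G)) → ℂ //
        Cfsg.IsIrrCharacter ↥(Subgroup.normalizer ((P : Subgroup G) : Set G)) χ ∧
        ∃ x : ↥(Subgroup.normalizer ((P : Subgroup G) : Set G)), (x : G) ∈ (P : Subgroup G) ∧
          χ x ≠ χ 1} = 1
    · left
      refine ⟨hone, ?_, ?_⟩
      · rw [hTcard] at hone
        -- an element of order `p`
        have hpdvd : p ∣ Nat.card ↥((P : Subgroup G).subgroupOf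
            (Subgroup.normalizer ((P : Subgroup G) : Set G))) := by
          obtain ⟨n, hn⟩ := hpK'.exists_card_eq
          rw [hn]
          rcases Nat.eq_zero_or_pos n with h0 | hpos
          · exfalso
            rw [h0, pow_zero, hcardK] at hn
            exact hP1 (Subgroup.card_eq_one.1 hn)
          · exact dvd_pow_self p hpos.ne'
        obtain ⟨k₂, hk₂o⟩ := exists_prime_orderOf_dvd_card' p hpdvd
        have hk₂1 : (k₂ : ↥(Subgroup.normalizer ((P : Subgroup G) : Set G))) ≠ 1 := by
          intro h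
          have : k₂ = 1 := Subtype.ext h
          rw [this, orderOf_one] at hk₂o
          exact (Fact.out : p.Prime).one_lt.ne hk₂o
        have hk₂p : (k₂ : ↥(Subgroup.normalizer ((P : Subgroup G) : Set G))) ^ p = 1 := by
          have := pow_orderOf_eq_one k₂
          rw [hk₂o] at this
          have h2 := congrArg Subtype.val this
          simpa using h2
        refine ⟨⟨⟨fun a b => Subtype.ext ?_⟩⟩, ?_⟩
        · have := hab ⟨a, hlt.le a.2⟩ (Subgroup.mem_subgroupOf.2 a.2) ⟨b, hlt.le b.2⟩
            (Subgroup.mem_subgroupOf.2 b.2)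
          have h2 := congrArg Subtype.val this
          simpa using h2
        · intro a ha
          by_cases ha1 : a = 1
          · rw [ha1, one_pow]
          · have ha' : (⟨a, hlt.le ha⟩ : ↥(Subgroup.normalizer ((P : Subgroup G) : Set G))) ∈
                (P : Subgroup G).subgroupOf (Subgroup.normalizer ((P : Subgroup G) : Set G)) :=
              Subgroup.mem_subgroupOf.mpr ha
            have ha1' : (⟨a, hlt.le ha⟩ : ↥(Subgroup.normalizer ((P : Subgroup G) : Set G))) ≠ 1 :=
              fun h => ha1 (congrArg Subtype.val h)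
            have hconj := Cfsg.Agent.Helper5.FrobKer.isConj_of_card_one
              ((P : Subgroup G).subgroupOf (Subgroup.normalizer ((P : Subgroup G) : Set G)))
              hone ha' k₂.2 ha1' hk₂1
            obtain ⟨c, hc⟩ := isConj_iff.mp hconj
            have h3 : (⟨a, hlt.le ha⟩ : ↥(Subgroup.normalizer ((P : Subgroup G) : Set G))) ^ p
                = 1 := by
              rw [← hc, conj_pow, hk₂p, mul_one, mul_inv_cancel]
            have := congrArg Subtype.val h3
            simpa using this
      · rw [hTcard] at hone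
        have hcard := Cfsg.Agent.Helper5.FrobKer.card_K_of_comm
          ((P : Subgroup G).subgroupOf (Subgroup.normalizer ((P : Subgroup G) : Set G))) hF hab'
        rw [hone, one_mul, hcardK] at hcard
        rw [hcard, add_comm]
    · right
      have hfinS : (Cfsg.inducedIrrAbove ((P : Subgroup G).subgroupOf
          (Subgroup.normalizer ((P : Subgroup G) : Set G))) ⊥).Finite :=
        Cfsg.Agent.Helper8.Coh6.inducedIrrAbove_finite _ ⊥
      have hScard : Nat.card {χ : ↥(Subgroup.normalizer ((P : Subgroup G) : Set G)) → ℂ //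
          Cfsg.IsIrrCharacter ↥(Subgroup.normalizer ((P : Subgroup G) : Set G)) χ ∧
          ∃ x : ↥(Subgroup.normalizer ((P : Subgroup G) : Set G)), (x : G) ∈ (P : Subgroup G) ∧
            χ x ≠ χ 1} = hfinS.toFinset.card := by
        have h1 : Nat.card ↥{χ : ↥(Subgroup.normalizer ((P : Subgroup G) : Set G)) → ℂ |
          Cfsg.IsIrrCharacter ↥(Subgroup.normalizer ((P : Subgroup G) : Set G)) χ ∧
          ∃ x : ↥(Subgroup.normalizer ((P : Subgroup G) : Set G)), (x : G) ∈ (P : Subgroup G) ∧
            χ x ≠ χ 1} = hfinS.toFinset.card := by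
          rw [hSeq, Nat.card_coe_set_eq, Set.ncard_eq_toFinset_card _ hfinS]
        exact h1
      rw [hScard] at hone
      have hK1' : (P : Subgroup G).subgroupOf
          (Subgroup.normalizer ((P : Subgroup G) : Set G)) ≠ ⊥ := by
        intro h
        apply hP1
        rw [Subgroup.subgroupOf_eq_bot] at h
        rw [eq_bot_iff]
        intro x hx
        have : x ∈ (P : Subgroup G) ⊓ Subgroup.normalizer ((P : Subgroup G) : Set G) :=
          ⟨hx, hlt.le hx⟩
        rw [disjoint_iff.1 h] at this
        exact this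
      have hne : hfinS.toFinset.Nonempty := by
        haveI := hpK'.isNilpotent
        obtain ⟨θ, hθ, hθne, hθA, -⟩ := Cfsg.Agent.Helper8.Coh6.exists_linear
          ((P : Subgroup G).subgroupOf (Subgroup.normalizer ((P : Subgroup G) : Set G)))
          inferInstance (bot_lt_iff_ne_bot.2 hK1')
        exact ⟨_, hfinS.mem_toFinset.2 ⟨θ, hθ, hθne, hθA, rfl⟩⟩
      have h2 : 2 ≤ hfinS.toFinset.card := by
        have := Finset.card_pos.2 hne
        omega
      rw [hSeq]
      have hcoh := Cfsg.Agent.Helper8.FrobCoh.coherent_same_degree hfinS.toFinset h2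
        (fun ξ hξ => Cfsg.Agent.Helper8.FrobCoh.isIrr_of_mem _ hF (hfinS.mem_toFinset.1 hξ))
        (fun ξ hξ η hη => by
          have h1 := hfinS.mem_toFinset.1 hξ
          have h2 := hfinS.mem_toFinset.1 hη
          rw [Cfsg.Agent.Helper8.FrobCoh.inducedIrrAbove_bot_eq _ hF] at h1 h2
          rw [Cfsg.Agent.Helper5.FrobKer.degree_of_rel_of_comm _ hF hab' h1.1 h1.2,
            Cfsg.Agent.Helper5.FrobKer.degree_of_rel_of_comm _ hF hab' h2.1 h2.2])
        (fun α : ↥(Subgroup.normalizer ((P : Subgroup G) : Set G)) → ℂ =>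
          Cfsg.indFun (Subgroup.normalizer ((P : Subgroup G) : Set G)) α)
        (by rw [hfinS.coe_toFinset]
            exact Cfsg.Agent.Helper8.FrobCoh.lio_ind (P : Subgroup G) hTI hlt hC)
        (by rw [hfinS.coe_toFinset]
            exact fun α hα => Cfsg.Agent.Helper8.FrobCoh.ind_one (P : Subgroup G) hα)
      rw [hfinS.coe_toFinset] at hcoh
      exact hcoh

end Cfsg.Agent.S1533
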