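import Mathlib
import Cfsg.Agent.Lib.Helper8.FeitDecomp
import Cfsg.Agent.Lib.Helper8.FeitSplit
import Cfsg.Agent.Lib.Helper8.PartThompson
import Cfsg.Statements.S1535
-- import your own Cfsg.Agent.* helpers here

set_option autoImplicit false
open Cfsg

namespace Cfsg.Agent.S1535

/-- Let N be a finite group with a proper nontrivial normal subgroup H such that every element commuting with a non-identity element of H lies in H (N is a Frobenius group with kernel H); let e be the index of H and suppose Nat.card H ≠ e + 1. Let S be the set of irreducible characters χ of N with χ h ≠ χ 1 for some h ∈ H, and τ a linear isometry on the integer combinations of S vanishing at 1, with values virtual characters of a finite group G vanishing at 1. Then (S, N minus 1, τ) is coherent, or there is a prime p with Nat.card H a power of p, H non-abelian and [H : [H,H]] ≤ 4e² + 1. -/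
theorem result {N : Type*} [Group N] [Fintype N] {G : Type*} [Group G] [Fintype G] (H : Subgroup N) [H.Normal] (hH1 : H ≠ ⊥) (hH2 : H ≠ ⊤) (hC : ∀ h ∈ H, h ≠ 1 → Subgroup.centralizer ({h} : Set N) ≤ H) (he : Nat.card H ≠ H.index + 1) (τ : (N → ℂ) → (G → ℂ)) (hτ : Cfsg.IsLinearIsometryOn (Cfsg.zspanOn {χ : N → ℂ | Cfsg.IsIrrCharacter N χ ∧ ∃ h ∈ H, χ h ≠ χ 1} {1}ᶜ) τ) (hτ1 : ∀ α ∈ Cfsg.zspanOn {χ : N → ℂ | Cfsg.IsIrrCharacter N χ ∧ ∃ h ∈ H, χ h ≠ χ 1} {1}ᶜ, τ α 1 = 0) : Cfsg.IsCoherent {χ : N → ℂ | Cfsg.IsIrrCharacter N χ ∧ ∃ h ∈ H, χ h ≠ χ 1} {1}ᶜ τ ∨ ∃ p : ℕ, p.Prime ∧ (∃ m : ℕ, Nat.card H = p ^ m) ∧ ¬ IsMulCommutative H ∧ (⁅H, H⁆.subgroupOf H).index ≤ 4 * H.index ^ 2 + 1 := by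
  classical
  haveI : Finite N := Finite.of_fintype N
  have hF : ∀ k ∈ H, k ≠ 1 → ∀ x : N, x * k = k * x → x ∈ H := by
    intro k hk hk1 x hx
    exact hC k hk hk1 (Subgroup.mem_centralizer_singleton_iff.2 hx)
  have hSeq : Cfsg.inducedIrrAbove H ⊥ =
      {χ : N → ℂ | Cfsg.IsIrrCharacter N χ ∧ ∃ h ∈ H, χ h ≠ χ 1} := by
    rw [Cfsg.Agent.Helper8.FrobCoh.inducedIrrAbove_bot_eq H hF]
    rfl
  rw [← hSeq] at hτ hτ1 ⊢
  have hepos : 1 ≤ H.index := Nat.pos_of_ne_zero Subgroup.index_ne_zero_of_finite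
  by_cases hab : ∀ a ∈ H, ∀ b ∈ H, a * b = b * a
  · left
    refine Cfsg.Agent.Helper8.FeitCoh.base H hF τ hτ hτ1 ⊥ ?_ ?_
    · intro x hx y hy
      rw [Subgroup.mem_bot]
      have e1 : x * y * x⁻¹ * y⁻¹ = (x * y) * (y * x)⁻¹ := by group
      rw [e1, mul_inv_eq_one]
      exact hab x hx y hy
    · have h1 := Cfsg.Agent.Helper8.FeitCoh.relIndex_sub_one H hF ⊥ bot_le
      rw [Subgroup.relIndex_bot_left] at h1 ⊢
      obtain ⟨c, hc⟩ := h1
      have hpos : 0 < Nat.card H := Nat.card_pos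
      have hne1 : Nat.card H ≠ 1 := by
        intro h
        exact hH1 (Subgroup.card_eq_one.1 h)
      by_contra hlt
      push Not at hlt
      -- `|H| - 1 = e c` with `0 < |H| - 1 < 2 e`, so `c = 1`
      have hc1 : c = 1 := by
        have h2 : (0 : ℤ) < (Nat.card H : ℤ) - 1 := by
          have : 2 ≤ Nat.card H := by omega
          have : (2 : ℤ) ≤ (Nat.card H : ℤ) := by exact_mod_cast this
          linarith
        have h3 : (Nat.card H : ℤ) - 1 < 2 * (H.index : ℤ) := by
          have : (Nat.card H : ℤ) < 2 * (H.index : ℤ) + 1 := by exact_mod_cast hlt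
          linarith
        have hepos' : (0 : ℤ) < (H.index : ℤ) := by exact_mod_cast hepos
        rw [hc] at h2 h3
        have hc0 : 0 < c := by
          by_contra h0
          push Not at h0
          nlinarith
        have hc2 : c < 2 := by
          by_contra h0
          push Not at h0
          nlinarith
        omega
      rw [hc1, mul_one] at hc
      apply he
      have : (Nat.card H : ℤ) = ((H.index + 1 : ℕ) : ℤ) := by push_cast; linarith
      exact_mod_cast this
  · have hnil : Group.IsNilpotent ↥H :=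
      Cfsg.Agent.Helper8.PartFrob.frobenius_kernel_nilpotent H ⊤ (lt_top_iff_ne_top.2 hH2)
        (fun x _ h hh => Subgroup.Normal.conj_mem inferInstance h hh x)
        (fun h hh h1 => inf_le_right.trans (hC h hh h1))
    haveI hcn : (⁅H, H⁆ : Subgroup N).Normal := Subgroup.commutator_normal H H
    by_cases hidx : 4 * H.index ^ 2 + 2 ≤ (⁅H, H⁆ : Subgroup N).relIndex H
    · left
      have hbase := Cfsg.Agent.Helper8.FeitCoh.base H hF τ hτ hτ1 ⁅H, H⁆
        (fun x hx y hy => Cfsg.Agent.Helper8.FeitCoh.comm_mem_commutator x hx y hy)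
        (by nlinarith)
      exact Cfsg.Agent.Helper8.FeitCoh.descend H hF τ hτ hτ1 hnil _ ⁅H, H⁆ hcn
        (Cfsg.Agent.Helper8.FeitCoh.commutator_lt_left H H hnil le_rfl hH1) rfl hbase hidx
    · by_cases hpp : ∃ p m : ℕ, p.Prime ∧ Nat.card H = p ^ m
      · right
        obtain ⟨p, m, hp, hm⟩ := hpp
        refine ⟨p, hp, ⟨m, hm⟩, ?_, ?_⟩
        · intro hcomm
          apply hab
          intro a ha b hb
          have := (isMulCommutative_iff.1 hcomm) ⟨a, ha⟩ ⟨b, hb⟩
          exact congrArg Subtype.val this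
        · show (⁅H, H⁆ : Subgroup N).relIndex H ≤ 4 * H.index ^ 2 + 1
          omega
      · left
        obtain ⟨X, Y, hXn, hYn, hsup, hinf, hXna, hY1⟩ :=
          Cfsg.Agent.Helper8.FeitCoh.exists_decomp H hnil hab hpp
        haveI := hXn
        haveI := hYn
        exact Cfsg.Agent.Helper8.FeitCoh.coherent_of_decomp H hF τ hτ hτ1 hnil X Y hsup hinf
          hXna hY1

end Cfsg.Agent.S1535
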