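import Mathlib
import Cfsg.Statements.S1529
import Cfsg.Agent.Lib.Helper8.CharExtra

set_option autoImplicit false
open Cfsg

namespace Cfsg.Agent.S1529

open Cfsg.Agent.Helper8 Cfsg.Agent.Helper24

/-- Let N be a subgroup of the finite group G, S a set of irreducible characters of N with at least two members, and τ₁ a linear isometry on the integer combinations of S with virtual-character values such that τ₁ α vanishes at 1 whenever α ∈ ℤ[S] does. Then there is ε ∈ {1, −1} such that ε • τ₁ χ is an irreducible character of G for every χ ∈ S, and distinct members of S give distinct characters. -/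
theorem result {G : Type*} [Group G] [Fintype G] (N : Subgroup G) [Fintype N] (S : Set (N → ℂ)) (hirr : ∀ χ ∈ S, Cfsg.IsIrrCharacter N χ) (htwo : ∃ χ ∈ S, ∃ ψ ∈ S, χ ≠ ψ) (τ₁ : (N → ℂ) → (G → ℂ)) (hτ₁ : Cfsg.IsLinearIsometryOn (Cfsg.zspan S) τ₁) (h0 : ∀ α ∈ Cfsg.zspan S, α 1 = 0 → τ₁ α 1 = 0) : ∃ ε : ℂ, (ε = 1 ∨ ε = -1) ∧ (∀ χ ∈ S, Cfsg.IsIrrCharacter G (ε • τ₁ χ)) ∧ (∀ χ ∈ S, ∀ ψ ∈ S, τ₁ χ = τ₁ ψ → χ = ψ) := by
  classical
  obtain ⟨hadd, hsmul, hiso, hgen⟩ := hτ₁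
  have hmem : ∀ χ ∈ S, χ ∈ Cfsg.zspan S := fun χ hχ => Submodule.subset_span hχ
  have hnorm : ∀ χ ∈ S, Cfsg.classInner (τ₁ χ) (τ₁ χ) = 1 := by
    intro χ hχ
    rw [hiso χ (hmem χ hχ) χ (hmem χ hχ), irr_orthogonality (hirr χ hχ) (hirr χ hχ), if_pos rfl]
  have hpm : ∀ χ ∈ S, Cfsg.IsIrrCharacter G (τ₁ χ) ∨ Cfsg.IsIrrCharacter G (-τ₁ χ) :=
    fun χ hχ => genChar_norm_one (hgen χ (hmem χ hχ)) (hnorm χ hχ)
  -- injectivity
  have hinj : ∀ χ ∈ S, ∀ ψ ∈ S, τ₁ χ = τ₁ ψ → χ = ψ := by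
    intro χ hχ ψ hψ h
    have h1 := hiso χ (hmem χ hχ) ψ (hmem ψ hψ)
    rw [← h, hnorm χ hχ, irr_orthogonality (hirr χ hχ) (hirr ψ hψ)] at h1
    by_contra hne
    rw [if_neg hne] at h1
    exact one_ne_zero h1
  -- the degree relation
  have hdeg : ∀ χ ∈ S, ∀ ψ ∈ S, ψ 1 * τ₁ χ 1 = χ 1 * τ₁ ψ 1 := by
    intro χ hχ ψ hψ
    obtain ⟨d, hdpos, hd⟩ := irr_one_eq (hirr χ hχ)
    obtain ⟨e, hepos, he⟩ := irr_one_eq (hirr ψ hψ)
    have hm1 : (e : ℤ) • χ ∈ Cfsg.zspan S := Submodule.smul_mem _ _ (hmem χ hχ)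
    have hm2 : (-(d : ℤ)) • ψ ∈ Cfsg.zspan S := Submodule.smul_mem _ _ (hmem ψ hψ)
    have hm3 : (e : ℤ) • χ + (-(d : ℤ)) • ψ ∈ Cfsg.zspan S := Submodule.add_mem _ hm1 hm2
    have hval : ((e : ℤ) • χ + (-(d : ℤ)) • ψ) 1 = 0 := by
      rw [Pi.add_apply, Pi.smul_apply, Pi.smul_apply, hd, he, zsmul_eq_mul, zsmul_eq_mul]
      push_cast
      ring
    have h1 := h0 _ hm3 hval
    rw [hadd _ hm1 _ hm2, hsmul χ (hmem χ hχ), hsmul ψ (hmem ψ hψ)] at h1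
    rw [Pi.add_apply, Pi.smul_apply, Pi.smul_apply, zsmul_eq_mul, zsmul_eq_mul] at h1
    rw [hd, he]
    push_cast at h1
    linear_combination h1
  -- the value at one of `τ₁ χ` is a nonzero real of sign `±`
  obtain ⟨χ₀, hχ₀, -, -, -⟩ := htwo
  have hsign : ∀ χ ∈ S, (Cfsg.IsIrrCharacter G (τ₁ χ₀) → Cfsg.IsIrrCharacter G (τ₁ χ)) ∧
      (Cfsg.IsIrrCharacter G (-τ₁ χ₀) → Cfsg.IsIrrCharacter G (-τ₁ χ)) := by
    intro χ hχ
    obtain ⟨d, hdpos, hd⟩ := irr_one_eq (hirr χ hχ)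
    obtain ⟨d₀, hd₀pos, hd₀⟩ := irr_one_eq (hirr χ₀ hχ₀)
    have hrel := hdeg χ hχ χ₀ hχ₀
    rw [hd, hd₀] at hrel
    have hdR : (0 : ℝ) < d := by exact_mod_cast hdpos
    have hd₀R : (0 : ℝ) < d₀ := by exact_mod_cast hd₀pos
    constructor
    · intro h₀
      rcases hpm χ hχ with h | h
      · exact h
      · exfalso
        obtain ⟨m₀, hm₀pos, hm₀⟩ := irr_one_eq h₀
        obtain ⟨m, hmpos, hm⟩ := irr_one_eq h
        have hm' : τ₁ χ 1 = -(m : ℂ) := by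
          have : (-τ₁ χ) 1 = -(τ₁ χ 1) := rfl
          rw [this] at hm
          rw [← hm]; ring
        rw [hm₀, hm'] at hrel
        have hmR : (0 : ℝ) < m := by exact_mod_cast hmpos
        have hm₀R : (0 : ℝ) < m₀ := by exact_mod_cast hm₀pos
        have hrel' : (d₀ : ℝ) * -(m : ℝ) = (d : ℝ) * (m₀ : ℝ) := by exact_mod_cast hrel
        nlinarith
    · intro h₀
      rcases hpm χ hχ with h | h
      · exfalso
        obtain ⟨m₀, hm₀pos, hm₀⟩ := irr_one_eq h₀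
        obtain ⟨m, hmpos, hm⟩ := irr_one_eq h
        have hm₀' : τ₁ χ₀ 1 = -(m₀ : ℂ) := by
          have : (-τ₁ χ₀) 1 = -(τ₁ χ₀ 1) := rfl
          rw [this] at hm₀
          rw [← hm₀]; ring
        rw [hm, hm₀'] at hrel
        have hmR : (0 : ℝ) < m := by exact_mod_cast hmpos
        have hm₀R : (0 : ℝ) < m₀ := by exact_mod_cast hm₀pos
        have hrel' : (d₀ : ℝ) * (m : ℝ) = (d : ℝ) * -(m₀ : ℝ) := by exact_mod_cast hrel
        nlinarith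
      · exact h
  rcases hpm χ₀ hχ₀ with h₀ | h₀
  · refine ⟨1, Or.inl rfl, fun χ hχ => ?_, hinj⟩
    rw [one_smul]
    exact (hsign χ hχ).1 h₀
  · refine ⟨-1, Or.inr rfl, fun χ hχ => ?_, hinj⟩
    rw [neg_one_smul]
    exact (hsign χ hχ).2 h₀

end Cfsg.Agent.S1529
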