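import Mathlib
import Cfsg.Statements.S0080

set_option autoImplicit false
open Cfsg

namespace Cfsg.Agent.S0080

open Subgroup
open scoped IsMulCommutative

theorem result {G : Type*} [Group G] [Finite G] (H : Subgroup G) (h : Nat.Coprime H.index (⁅H, H⁆.relIndex H)) : Subgroup.focalSubgroup H = commutator G ⊓ H ∧ ∃ N : Subgroup G, N.Normal ∧ N ⊓ H = commutator G ⊓ H ∧ N ⊔ H = ⊤ := by
  -- the quotient H / H*
  have hcardQ : Nat.card (H ⧸ H.focalSubgroupOf) ∣ ⁅H, H⁆.relIndex H := by
    change (H.focalSubgroupOf).index ∣ _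
    have h1 : (⁅H, H⁆).subgroupOf H = commutator H := by
      rw [← Subgroup.map_subtype_commutator]
      ext x
      rw [Subgroup.mem_subgroupOf]
      constructor
      · rintro ⟨y, hy, hyx⟩
        have : y = x := Subtype.ext hyx
        rw [← this]; exact hy
      · intro hx
        exact ⟨x, hx, rfl⟩
    rw [Subgroup.relIndex, h1]
    exact Subgroup.index_dvd_of_le H.commutator_le_focalSubgroupOf
  have hcop : (Nat.card (H ⧸ H.focalSubgroupOf)).Coprime H.index :=
    (Nat.Coprime.coprime_dvd_right hcardQ h).symm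
  have hinj : Function.Injective (fun y : H ⧸ H.focalSubgroupOf => y ^ H.index) :=
    (powCoprime hcop).injective
  have hsurj : Function.Surjective (fun y : H ⧸ H.focalSubgroupOf => y ^ H.index) :=
    (powCoprime hcop).surjective
  have hker : H.transferFocal.ker ⊓ H = H.focalSubgroup := by
    ext x
    rw [Subgroup.mem_inf]
    constructor
    · rintro ⟨hx1, hx2⟩
      rw [MonoidHom.mem_ker] at hx1
      have h1 := H.transferFocal_eq_pow ⟨x, hx2⟩
      rw [hx1] at h1
      have h2 : ((⟨x, hx2⟩ : H) : H ⧸ H.focalSubgroupOf) = 1 := by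
        apply hinj
        simp only [one_pow]
        exact h1.symm
      rw [QuotientGroup.eq_one_iff, Subgroup.focalSubgroupOf_def, Subgroup.mem_subgroupOf] at h2
      exact h2
    · intro hx
      have hxH := H.focalSubgroup_le hx
      refine ⟨?_, hxH⟩
      rw [MonoidHom.mem_ker]
      have h1 := H.transferFocal_eq_pow ⟨x, hxH⟩
      have h2 : ((⟨x, hxH⟩ : H) : H ⧸ H.focalSubgroupOf) = 1 := by
        rw [QuotientGroup.eq_one_iff, Subgroup.focalSubgroupOf_def, Subgroup.mem_subgroupOf]
        exact hx
      rw [h1, h2, one_pow]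
  have hG' : commutator G ≤ H.transferFocal.ker :=
    Abelianization.commutator_subset_ker H.transferFocal
  have hfoc : Subgroup.focalSubgroup H = commutator G ⊓ H := by
    apply le_antisymm
    · exact le_inf H.focalSubgroup_le_commutator H.focalSubgroup_le
    · rw [← hker]; exact inf_le_inf_right _ hG'
  refine ⟨hfoc, H.transferFocal.ker, inferInstance, ?_, ?_⟩
  · rw [hker, hfoc]
  · rw [eq_top_iff]
    intro g _
    obtain ⟨y, hy⟩ := hsurj (H.transferFocal g)
    obtain ⟨x, rfl⟩ := QuotientGroup.mk_surjective y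
    simp only at hy
    have h1 := H.transferFocal_eq_pow x
    have h2 : g * (x : G)⁻¹ ∈ H.transferFocal.ker := by
      rw [MonoidHom.mem_ker, map_mul, map_inv, h1, hy, mul_inv_cancel]
    have : g = g * (x : G)⁻¹ * x := by group
    rw [this]
    exact Subgroup.mul_mem_sup h2 x.2

end Cfsg.Agent.S0080
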