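import Mathlib
import Cfsg.Statements.S0879
-- import your own Cfsg.Agent.* helpers here

set_option autoImplicit false
open Cfsg

namespace Cfsg.Agent.S0879

open Subgroup

/-- Let G be a Zassenhaus group on the finite set Ω and E the stabilizer of two distinct points a, b. Then an element outside the normalizer of E conjugates no non-identity element of E into E, and E has index 2 in its normalizer. -/
theorem result {G Ω : Type*} [Group G] [Finite G] [MulAction G Ω] [Fintype Ω] (hZ : Cfsg.IsZassenhausGroup G Ω) {a b : Ω} (hab : a ≠ b) : (∀ g : G, g ∉ Subgroup.normalizer ((MulAction.stabilizer G a ⊓ MulAction.stabilizer G b : Subgroup G) : Set G) → ∀ x ∈ (MulAction.stabilizer G a ⊓ MulAction.stabilizer G b : Subgroup G), g * x * g⁻¹ ∈ (MulAction.stabilizer G a ⊓ MulAction.stabilizer G b : Subgroup G) → x = 1) ∧ ((MulAction.stabilizer G a ⊓ MulAction.stabilizer G b : Subgroup G).subgroupOf (Subgroup.normalizer ((MulAction.stabilizer G a ⊓ MulAction.stabilizer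 G b : Subgroup G) : Set G))).index = 2 := by
  classical
  obtain ⟨hfaith, h2, h3, ⟨g₀, hg₀, a₀, b₀, hab₀, hga₀, hgb₀⟩, _⟩ := hZ
  set E := MulAction.stabilizer G a ⊓ MulAction.stabilizer G b with hE
  have hmemE : ∀ x : G, x ∈ E ↔ x • a = a ∧ x • b = b := by
    intro x
    rw [hE, Subgroup.mem_inf, MulAction.mem_stabilizer_iff, MulAction.mem_stabilizer_iff]
  have hF1 : ∀ x ∈ E, x ≠ 1 → ∀ c : Ω, x • c = c → c = a ∨ c = b := by
    intro x hx hx1 c hc
    by_contra hcon
    push Not at hcon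
    have hx' := (hmemE x).mp hx
    exact hx1 (h3 x a b c hab (Ne.symm hcon.2) (Ne.symm hcon.1) hx'.1 hx'.2 hc)
  obtain ⟨x₀, hx₀E, hx₀1⟩ : ∃ x ∈ E, x ≠ 1 := by
    obtain ⟨h, hha, hhb⟩ := MulAction.is_two_pretransitive_iff.mp h2 hab₀ hab
    refine ⟨h * g₀ * h⁻¹, (hmemE _).mpr ⟨?_, ?_⟩, ?_⟩
    · rw [mul_smul, mul_smul, ← hha, inv_smul_smul, hga₀]
    · rw [mul_smul, mul_smul, ← hhb, inv_smul_smul, hgb₀]
    · intro h1
      apply hg₀
      have : g₀ = h⁻¹ * (h * g₀ * h⁻¹) * h := by group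
      rw [this, h1]; group
  -- elements permuting `{a, b}` conjugate `E` into itself
  have hconj : ∀ g : G, ((g • a = a ∧ g • b = b) ∨ (g • a = b ∧ g • b = a)) →
      ∀ n ∈ E, g * n * g⁻¹ ∈ E := by
    intro g hg n hn
    have hn' := (hmemE n).mp hn
    rw [hmemE]
    rcases hg with ⟨h1, h2'⟩ | ⟨h1, h2'⟩
    · have e1 : g⁻¹ • a = a := by rw [inv_smul_eq_iff, h1]
      have e2 : g⁻¹ • b = b := by rw [inv_smul_eq_iff, h2']
      constructor
      · rw [mul_smul, mul_smul, e1, hn'.1, h1]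
      · rw [mul_smul, mul_smul, e2, hn'.2, h2']
    · have e1 : g⁻¹ • a = b := by rw [inv_smul_eq_iff, h2']
      have e2 : g⁻¹ • b = a := by rw [inv_smul_eq_iff, h1]
      constructor
      · rw [mul_smul, mul_smul, e1, hn'.2, h2']
      · rw [mul_smul, mul_smul, e2, hn'.1, h1]
  have hperm_inv : ∀ g : G, ((g • a = a ∧ g • b = b) ∨ (g • a = b ∧ g • b = a)) →
      ((g⁻¹ • a = a ∧ g⁻¹ • b = b) ∨ (g⁻¹ • a = b ∧ g⁻¹ • b = a)) := by
    intro g hg
    rcases hg with ⟨h1, h2'⟩ | ⟨h1, h2'⟩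
    · left
      exact ⟨by rw [inv_smul_eq_iff, h1], by rw [inv_smul_eq_iff, h2']⟩
    · right
      exact ⟨by rw [inv_smul_eq_iff, h2'], by rw [inv_smul_eq_iff, h1]⟩
  have hnorm_of : ∀ g : G, ((g • a = a ∧ g • b = b) ∨ (g • a = b ∧ g • b = a)) →
      g ∈ normalizer (E : Set G) := by
    intro g hg
    rw [mem_normalizer_iff]
    intro n
    constructor
    · exact hconj g hg n
    · intro hn
      have := hconj g⁻¹ (hperm_inv g hg) _ hn
      have e : g⁻¹ * (g * n * g⁻¹) * g⁻¹⁻¹ = n := by group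
      rw [e] at this
      exact this
  have hset_of_conj : ∀ g : G, ∀ x ∈ E, x ≠ 1 → g * x * g⁻¹ ∈ E →
      ((g • a = a ∧ g • b = b) ∨ (g • a = b ∧ g • b = a)) := by
    intro g x hx hx1 hy
    have hx' := (hmemE x).mp hx
    have hy1 : g * x * g⁻¹ ≠ 1 := by
      intro h1
      apply hx1
      have : x = g⁻¹ * (g * x * g⁻¹) * g := by group
      rw [this, h1]; group
    have hfa : (g * x * g⁻¹) • (g • a) = g • a := by
      rw [mul_smul, mul_smul, inv_smul_smul, hx'.1]
    have hfb : (g * x * g⁻¹) • (g • b) = g • b := by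
      rw [mul_smul, mul_smul, inv_smul_smul, hx'.2]
    have hne : g • a ≠ g • b := fun h => hab (MulAction.injective g h)
    rcases hF1 _ hy hy1 _ hfa with ha | ha <;> rcases hF1 _ hy hy1 _ hfb with hb | hb
    · exact absurd (ha.trans hb.symm) hne
    · exact Or.inl ⟨ha, hb⟩
    · exact Or.inr ⟨ha, hb⟩
    · exact absurd (ha.trans hb.symm) hne
  constructor
  · intro g hg x hx hy
    by_contra hx1
    exact hg (hnorm_of g (hset_of_conj g x hx hx1 hy))
  · rw [Subgroup.index_eq_two_iff]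
    obtain ⟨s, hsa, hsb⟩ := MulAction.is_two_pretransitive_iff.mp h2 hab (Ne.symm hab)
    have hsN : s ∈ normalizer (E : Set G) := hnorm_of s (Or.inr ⟨hsa, hsb⟩)
    refine ⟨⟨s, hsN⟩, ?_⟩
    rintro ⟨g, hg⟩
    have hgx : g * x₀ * g⁻¹ ∈ E := (mem_normalizer_iff.mp hg x₀).mp hx₀E
    rw [Subgroup.mem_subgroupOf, Subgroup.mem_subgroupOf]
    show Xor (g * s ∈ E) (g ∈ E)
    rcases hset_of_conj g x₀ hx₀E hx₀1 hgx with ⟨h1, h2'⟩ | ⟨h1, h2'⟩
    · right
      refine ⟨(hmemE g).mpr ⟨h1, h2'⟩, ?_⟩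
      intro h
      have := ((hmemE _).mp h).1
      rw [mul_smul, hsa, h2'] at this
      exact hab this.symm
    · left
      refine ⟨(hmemE _).mpr ⟨?_, ?_⟩, ?_⟩
      · rw [mul_smul, hsa, h2']
      · rw [mul_smul, hsb, h1]
      · intro h
        have := ((hmemE _).mp h).1
        rw [h1] at this
        exact hab this.symm

end Cfsg.Agent.S0879
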