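import Mathlib
import Cfsg.Statements.S0088

set_option autoImplicit false
open Cfsg

namespace Cfsg.Agent.S0088

open Subgroup MonoidHom
open scoped IsMulCommutative

theorem result {G : Type*} [Group G] [Finite G] (H : Subgroup G) (hc : IsMulCommutative H) (hHall : Nat.Coprime (Nat.card H) H.index) : H ⊓ commutator G ⊓ Subgroup.center G = ⊥ := by
  rw [eq_bot_iff]
  rintro x ⟨⟨hxH, hxG'⟩, hxZ⟩
  rw [Subgroup.mem_bot]
  have hxZ' : x ∈ Subgroup.center G := hxZ
  have key : ∀ (k : ℕ) (g₀ : G), g₀⁻¹ * x ^ k * g₀ ∈ H → g₀⁻¹ * x ^ k * g₀ = x ^ k := by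
    intro k g₀ _
    have h1 : x ^ k ∈ Subgroup.center G := Subgroup.pow_mem _ hxZ' k
    rw [Subgroup.mem_center_iff] at h1
    rw [mul_assoc, ← h1 g₀]; group
  have h1 := transfer_eq_pow (MonoidHom.id H) x key
  have h2 : transfer (MonoidHom.id H) x = 1 := by
    have := Abelianization.commutator_subset_ker (transfer (MonoidHom.id H))
    exact this hxG'
  rw [h2] at h1
  have h3 : x ^ H.index = 1 := by
    have := congrArg Subtype.val h1
    simpa using this.symm
  have h4 : orderOf x ∣ H.index := orderOf_dvd_of_pow_eq_one h3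
  have h5 : orderOf x ∣ Nat.card H := by
    have := orderOf_dvd_natCard (⟨x, hxH⟩ : H)
    rwa [Subgroup.orderOf_mk] at this
  have h6 : orderOf x = 1 := Nat.eq_one_of_dvd_coprimes hHall h5 h4
  exact orderOf_eq_one_iff.mp h6

end Cfsg.Agent.S0088
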