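import Mathlib
import Cfsg.Statements.S0740
-- import your own Cfsg.Agent.* helpers here

set_option autoImplicit false
open Cfsg

namespace Cfsg.Agent.S0740


/-- Fixed points of an involution in a group where no non-identity element fixes three points. -/
theorem fix_card {G Ω : Type*} [Group G] [MulAction G Ω] [Fintype Ω]
    (h3 : ∀ g : G, ∀ a b c : Ω, a ≠ b → b ≠ c → a ≠ c → g • a = a → g • b = b → g • c = c → g = 1)
    (s : G) (hs : orderOf s = 2) :
    (Odd (Fintype.card Ω) → Nat.card (MulAction.fixedBy Ω s) = 1) ∧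
    (Even (Fintype.card Ω) →
      Nat.card (MulAction.fixedBy Ω s) = 0 ∨ Nat.card (MulAction.fixedBy Ω s) = 2) := by
  classical
  have hs1 : s ≠ 1 := by
    intro h
    rw [h, orderOf_one] at hs
    omega
  have hle : Nat.card (MulAction.fixedBy Ω s) ≤ 2 := by
    by_contra hgt
    push Not at hgt
    rw [Nat.card_eq_fintype_card] at hgt
    obtain ⟨x, y, z, hxy, hxz, hyz⟩ := Fintype.two_lt_card_iff.mp hgt
    apply hs1
    apply h3 s x y z
    · exact fun h => hxy (Subtype.ext h)
    · exact fun h => hyz (Subtype.ext h)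
    · exact fun h => hxz (Subtype.ext h)
    · exact x.2
    · exact y.2
    · exact z.2
  have hmod : Fintype.card Ω ≡ Nat.card (MulAction.fixedBy Ω s) [MOD 2] := by
    let f : Function.End Ω := fun x => s • x
    have hf : f ^ 2 ^ 1 = 1 := by
      funext x
      show (f * f) x = x
      show s • s • x = x
      rw [← mul_smul, ← sq, ← hs, pow_orderOf_eq_one, one_smul]
    haveI : Fact (Nat.Prime 2) := ⟨Nat.prime_two⟩
    have := Equiv.Perm.card_fixedPoints_modEq (p := 2) (n := 1) hf
    rw [Nat.card_eq_fintype_card]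
    have hset : MulAction.fixedBy Ω s = Function.fixedPoints f := by
      ext x
      rfl
    have hcard : Fintype.card (MulAction.fixedBy Ω s) = Fintype.card (Function.fixedPoints f) := by
      apply Fintype.card_congr
      exact Equiv.setCongr hset
    rw [hcard]
    exact this
  constructor
  · intro hodd
    have h1 : Nat.card (MulAction.fixedBy Ω s) % 2 = 1 := by
      rw [← hmod]
      exact Nat.odd_iff.mp hodd
    omega
  · intro heven
    have h1 : Nat.card (MulAction.fixedBy Ω s) % 2 = 0 := by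
      rw [← hmod]
      exact Nat.even_iff.mp heven
    omega

/-- an involution moving a point can be conjugated to swap any two given points -/
theorem exists_conj_swap {G Ω : Type*} [Group G] [MulAction G Ω]
    (h2 : MulAction.IsMultiplyPretransitive G Ω 2) [FaithfulSMul G Ω] (t : G)
    (ht : orderOf t = 2) {a b : Ω} (hab : a ≠ b) :
    ∃ g : G, orderOf (g * t * g⁻¹) = 2 ∧ (g * t * g⁻¹) • a = b ∧ (g * t * g⁻¹) • b = a := by
  have ht1 : t ≠ 1 := by
    intro h
    rw [h, orderOf_one] at ht
    omega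
  have ht2 : t * t = 1 := by
    rw [← sq, ← ht, pow_orderOf_eq_one]
  obtain ⟨c, hc⟩ : ∃ c : Ω, t • c ≠ c := by
    by_contra hall
    push Not at hall
    apply ht1
    apply FaithfulSMul.eq_of_smul_eq_smul (α := Ω)
    intro x
    rw [hall x, one_smul]
  obtain ⟨g, hgc, hgc'⟩ := MulAction.is_two_pretransitive_iff.mp h2 (Ne.symm hc) hab
  have hinv_a : g⁻¹ • a = c := by rw [inv_smul_eq_iff, hgc]
  have hinv_b : g⁻¹ • b = t • c := by rw [inv_smul_eq_iff, hgc']
  refine ⟨g, ?_, ?_, ?_⟩
  · haveI : Fact (Nat.Prime 2) := ⟨Nat.prime_two⟩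
    apply orderOf_eq_prime
    · rw [sq]
      have : g * t * g⁻¹ * (g * t * g⁻¹) = g * (t * t) * g⁻¹ := by group
      rw [this, ht2]
      group
    · intro h
      apply ht1
      have := congrArg (fun x => g⁻¹ * x * g) h
      beta_reduce at this
      have e : g⁻¹ * (g * t * g⁻¹) * g = t := by group
      rw [e] at this
      rw [this]
      group
  · rw [mul_smul, mul_smul, hinv_a, hgc']
  · rw [mul_smul, mul_smul, hinv_b, ← mul_smul t t, ht2, one_smul, hgc]

/-- In a finite Zassenhaus group any two points `a ≠ b` are swapped by an involution; every such involution has exactly one fixed point when the degree is odd and 0 or 2 fixed points when the degree is even; and if the two-point stabiliser has even order, some such involution has exactly 2 fixed points. -/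
theorem result {G Ω : Type*} [Group G] [Finite G] [MulAction G Ω] [Fintype Ω] (hZ : Cfsg.IsZassenhausGroup G Ω) {a b : Ω} (hab : a ≠ b) : (∃ s : G, orderOf s = 2 ∧ s • a = b ∧ s • b = a) ∧ (∀ s : G, orderOf s = 2 → s • a = b → s • b = a → (Odd (Fintype.card Ω) → Nat.card (MulAction.fixedBy Ω s) = 1) ∧ (Even (Fintype.card Ω) → Nat.card (MulAction.fixedBy Ω s) = 0 ∨ Nat.card (MulAction.fixedBy Ω s) = 2)) ∧ (Even (Fintype.card Ω) → Even (Nat.card ↥(MulAction.stabilizer G a ⊓ MulAction.stabilizer G b)) → ∃ s : G, orderOf s = 2 ∧ s • a = b ∧ s • b = a ∧ Nat.card (MulAction.fixedBy Ω s) = 2) := by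
  classical
  obtain ⟨hfaith, h2, h3, _, _⟩ := hZ
  haveI := hfaith
  -- an involution exists
  obtain ⟨g₀, hg₀a, hg₀b⟩ := MulAction.is_two_pretransitive_iff.mp h2 hab (Ne.symm hab)
  have hpow : ∀ k : ℕ, (g₀ ^ (2 * k)) • a = a ∧ (g₀ ^ (2 * k + 1)) • a = b := by
    intro k
    induction k with
    | zero => simp [hg₀a]
    | succ k ih =>
      have e1 : g₀ ^ (2 * (k + 1)) = g₀ * g₀ ^ (2 * k + 1) := by
        rw [← pow_succ']; congr 1
      have e2 : g₀ ^ (2 * (k + 1) + 1) = g₀ * (g₀ * g₀ ^ (2 * k + 1)) := by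
        rw [← pow_succ', ← pow_succ']; congr 1
      rw [e1, e2]
      refine ⟨?_, ?_⟩
      · rw [mul_smul, ih.2, hg₀b]
      · rw [mul_smul, mul_smul, ih.2, hg₀b, hg₀a]
  have heven : 2 ∣ orderOf g₀ := by
    rcases Nat.even_or_odd' (orderOf g₀) with ⟨k, hk | hk⟩
    · exact ⟨k, hk⟩
    · exfalso
      have := (hpow k).2
      rw [← hk, pow_orderOf_eq_one, one_smul] at this
      exact hab this
  have h2G : 2 ∣ Nat.card G := heven.trans (orderOf_dvd_natCard g₀)
  haveI : Fact (Nat.Prime 2) := ⟨Nat.prime_two⟩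
  obtain ⟨t, ht⟩ := exists_prime_orderOf_dvd_card' 2 h2G
  refine ⟨?_, ?_, ?_⟩
  · obtain ⟨g, h1, h2', h3'⟩ := exists_conj_swap h2 t ht hab
    exact ⟨g * t * g⁻¹, h1, h2', h3'⟩
  · intro s hs _ _
    exact fix_card h3 s hs
  · intro hev hHev
    obtain ⟨t', ht'⟩ := exists_prime_orderOf_dvd_card' 2 hHev.two_dvd
    have ht'G : orderOf (t' : G) = 2 := by rw [Subgroup.orderOf_coe]; exact ht'
    obtain ⟨g, h1, h2', h3'⟩ := exists_conj_swap h2 (t' : G) ht'G hab
    refine ⟨g * (t' : G) * g⁻¹, h1, h2', h3', ?_⟩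
    rcases (fix_card h3 _ h1).2 hev with h0 | h2''
    · exfalso
      have hfa : (t' : G) • a = a := (t'.2.1 : (t' : G) ∈ MulAction.stabilizer G a)
      have hmem : g • a ∈ MulAction.fixedBy Ω (g * (t' : G) * g⁻¹) := by
        rw [MulAction.mem_fixedBy, mul_smul, mul_smul, inv_smul_smul, hfa]
      haveI : Nonempty (MulAction.fixedBy Ω (g * (t' : G) * g⁻¹)) := ⟨⟨_, hmem⟩⟩
      have := Nat.card_pos (α := MulAction.fixedBy Ω (g * (t' : G) * g⁻¹))
      omega
    · exact h2''

end Cfsg.Agent.S0740
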