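import Mathlib
import Cfsg.Statements.S0878
-- import your own Cfsg.Agent.* helpers here

set_option autoImplicit false
open Cfsg

namespace Cfsg.Agent.S0878

open Subgroup

/-- Let G be a Zassenhaus group on the finite set Ω, a a point, and let H be the subgroup of the stabilizer of a consisting of the identity and the elements fixing no point other than a (given here as a subgroup of the stabilizer of order one less than the number of points whose non-identity elements fix only a; it is the Frobenius kernel of the stabilizer). Then an element outside the stabilizer of a conjugates no non-identity element of H into H, and the normalizer of H is exactly the stabilizer of a. -/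
theorem result {G Ω : Type*} [Group G] [Finite G] [MulAction G Ω] [Fintype Ω] (hZ : Cfsg.IsZassenhausGroup G Ω) (a : Ω) (H : Subgroup G) (hHa : H ≤ MulAction.stabilizer G a) (hHcard : Nat.card H + 1 = Fintype.card Ω) (hHfix : ∀ u ∈ H, u ≠ 1 → ∀ c : Ω, u • c = c → c = a) : (∀ g : G, g ∉ MulAction.stabilizer G a → ∀ u ∈ H, g * u * g⁻¹ ∈ H → u = 1) ∧ Subgroup.normalizer (H : Set G) = MulAction.stabilizer G a := by
  classical
  obtain ⟨hfaith, h2, h3, ⟨g₀, hg₀, a₀, b₀, hab₀, hga₀, hgb₀⟩, _⟩ := hZ
  haveI : Fintype G := Fintype.ofFinite G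
  have part1 : ∀ g : G, g ∉ MulAction.stabilizer G a → ∀ u ∈ H, g * u * g⁻¹ ∈ H → u = 1 := by
    intro g hg u hu hy
    by_contra hu1
    have hy1 : g * u * g⁻¹ ≠ 1 := by
      intro h1
      apply hu1
      have : u = g⁻¹ * (g * u * g⁻¹) * g := by group
      rw [this, h1]; group
    have hua : u • a = a := hHa hu
    have hfix : (g * u * g⁻¹) • (g • a) = g • a := by
      rw [mul_smul, mul_smul, inv_smul_smul, hua]
    exact hg (hHfix _ hy hy1 _ hfix)
  have hΩ3 : 3 ≤ Fintype.card Ω := by
    by_contra hlt
    push Not at hlt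
    apply hg₀
    haveI := hfaith
    apply FaithfulSMul.eq_of_smul_eq_smul (α := Ω)
    intro c
    rw [one_smul]
    by_cases hca : c = a₀
    · rw [hca, hga₀]
    by_cases hcb : c = b₀
    · rw [hcb, hgb₀]
    exfalso
    have h3' : ({a₀, b₀, c} : Finset Ω).card = 3 := by
      rw [Finset.card_eq_three]
      exact ⟨a₀, b₀, c, hab₀, Ne.symm hca, Ne.symm hcb, rfl⟩
    have := Finset.card_le_univ ({a₀, b₀, c} : Finset Ω)
    omega
  obtain ⟨u₁, hu₁H, hu₁1⟩ : ∃ u ∈ H, u ≠ 1 := by
    by_contra hcon
    push Not at hcon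
    have : H = ⊥ := (Subgroup.eq_bot_iff_forall H).mpr hcon
    rw [this, Subgroup.card_bot] at hHcard
    omega
  refine ⟨part1, ?_⟩
  -- Burnside counting on the complement of `a`
  set S := MulAction.stabilizer G a with hS
  haveI hpre : MulAction.IsPretransitive S (SubMulAction.ofStabilizer G a) := by
    refine ⟨fun c d => ?_⟩
    have hc : (c : Ω) ≠ a := (SubMulAction.mem_ofStabilizer_iff G a).mp c.2
    have hd : (d : Ω) ≠ a := (SubMulAction.mem_ofStabilizer_iff G a).mp d.2
    obtain ⟨g, hga, hgc⟩ := MulAction.is_two_pretransitive_iff.mp h2 (Ne.symm hc) (Ne.symm hd)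
    refine ⟨⟨g, hga⟩, ?_⟩
    apply Subtype.ext
    exact hgc
  haveI : Fintype (SubMulAction.ofStabilizer G a) := Fintype.ofFinite _
  haveI : ∀ x : S, Fintype (MulAction.fixedBy (SubMulAction.ofStabilizer G a) x) :=
    fun x => Fintype.ofFinite _
  haveI : Fintype (Quotient (MulAction.orbitRel S (SubMulAction.ofStabilizer G a))) :=
    Fintype.ofFinite _
  haveI : Fintype S := Fintype.ofFinite _
  have hB := MulAction.sum_card_fixedBy_eq_card_orbits_mul_card_group S
    (SubMulAction.ofStabilizer G a)
  have hn : Fintype.card (SubMulAction.ofStabilizer G a) = Nat.card H := by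
    have h1 := SubMulAction.nat_card_ofStabilizer_add_one_eq G a
    rw [Nat.card_eq_fintype_card, Nat.card_eq_fintype_card] at h1
    omega
  have hnpos : 0 < Fintype.card (SubMulAction.ofStabilizer G a) := by
    rw [hn]; exact Nat.card_pos
  haveI : Nonempty (SubMulAction.ofStabilizer G a) := Fintype.card_pos_iff.mp hnpos
  have hQ : Fintype.card (Quotient (MulAction.orbitRel S (SubMulAction.ofStabilizer G a))) = 1 := by
    have hsub : Subsingleton (MulAction.orbitRel.Quotient S (SubMulAction.ofStabilizer G a)) :=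
      (MulAction.pretransitive_iff_subsingleton_quotient S _).mp hpre
    haveI : Subsingleton (Quotient (MulAction.orbitRel S (SubMulAction.ofStabilizer G a))) := hsub
    haveI : Nonempty (Quotient (MulAction.orbitRel S (SubMulAction.ofStabilizer G a))) :=
      ⟨Quotient.mk _ (Classical.arbitrary _)⟩
    apply le_antisymm
    · exact Fintype.card_le_one_iff_subsingleton.mpr inferInstance
    · exact Fintype.card_pos
  rw [hQ, one_mul] at hB
  -- the comparison function
  set n := Fintype.card (SubMulAction.ofStabilizer G a) with hndef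
  let gfun : S → ℕ := fun x => (if x = 1 then n else 0) + (if (x : G) ∈ H then 0 else 1)
  have hfixval : ∀ (x : S) (c : SubMulAction.ofStabilizer G a),
      c ∈ MulAction.fixedBy (SubMulAction.ofStabilizer G a) x → (x : G) • (c : Ω) = (c : Ω) := by
    intro x c hc
    have := congrArg Subtype.val (MulAction.mem_fixedBy.mp hc)
    exact this
  have hle : ∀ x ∈ (Finset.univ : Finset S),
      Fintype.card (MulAction.fixedBy (SubMulAction.ofStabilizer G a) x) ≤ gfun x := by
    intro x _
    show _ ≤ (if x = 1 then n else 0) + (if (x : G) ∈ H then 0 else 1)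
    by_cases hx1 : x = 1
    · rw [if_pos hx1]
      exact (Fintype.card_subtype_le _).trans (Nat.le_add_right _ _)
    · rw [if_neg hx1, zero_add]
      have hx1' : (x : G) ≠ 1 := fun h => hx1 (Subtype.ext h)
      by_cases hxH : (x : G) ∈ H
      · rw [if_pos hxH]
        rw [Nat.le_zero, Fintype.card_eq_zero_iff]
        refine ⟨fun c => ?_⟩
        have hc := hfixval x c.1 c.2
        have := hHfix _ hxH hx1' _ hc
        exact (SubMulAction.mem_ofStabilizer_iff G a).mp c.1.2 this
      · rw [if_neg hxH]
        rw [Fintype.card_le_one_iff_subsingleton]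
        refine ⟨fun c d => ?_⟩
        by_contra hcd
        have hc := hfixval x c.1 c.2
        have hd := hfixval x d.1 d.2
        have hca : (c.1 : Ω) ≠ a := (SubMulAction.mem_ofStabilizer_iff G a).mp c.1.2
        have hda : (d.1 : Ω) ≠ a := (SubMulAction.mem_ofStabilizer_iff G a).mp d.1.2
        have hcd' : (c.1 : Ω) ≠ (d.1 : Ω) := fun h => hcd (Subtype.ext (Subtype.ext h))
        exact hx1' (h3 (x : G) a c.1 d.1 (Ne.symm hca) hcd' (Ne.symm hda) x.2 hc hd)
  have hsumg : ∑ x : S, gfun x = Fintype.card S := by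
    show ∑ x : S, ((if x = 1 then n else 0) + (if (x : G) ∈ H then 0 else 1)) = Fintype.card S
    rw [Finset.sum_add_distrib, Finset.sum_ite_eq' Finset.univ (1 : S) (fun _ => n)]
    simp only [Finset.mem_univ, if_true]
    have h1 : ∑ x : S, (if (x : G) ∈ H then 0 else 1) =
        (Finset.univ.filter (fun x : S => (x : G) ∉ H)).card := by
      rw [Finset.card_filter]
      apply Finset.sum_congr rfl
      intro x _
      by_cases hx : (x : G) ∈ H <;> simp [hx]
    rw [h1]
    have h2' : (Finset.univ.filter (fun x : S => (x : G) ∈ H)).card = Nat.card H := by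
      rw [← Fintype.card_subtype, ← Nat.card_eq_fintype_card]
      exact Nat.card_congr (subgroupOfEquivOfLe hHa).toEquiv
    have h3' := Finset.card_filter_add_card_filter_not (s := (Finset.univ : Finset S))
      (fun x : S => (x : G) ∈ H)
    rw [Finset.card_univ] at h3'
    omega
  have heq := (Finset.sum_eq_sum_iff_of_le hle).mp (hB.trans hsumg.symm)
  -- every element of `S` outside `H` has a fixed point other than `a`
  have hkey : ∀ x : G, x ∈ S → x ∉ H → ∃ c : Ω, c ≠ a ∧ x • c = c := by
    intro x hxS hxH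
    have h1 := heq ⟨x, hxS⟩ (Finset.mem_univ _)
    have hx1 : (⟨x, hxS⟩ : S) ≠ 1 := by
      intro h
      apply hxH
      have : x = 1 := congrArg Subtype.val h
      rw [this]; exact one_mem _
    have h2' : gfun ⟨x, hxS⟩ = 1 := by
      show (if (⟨x, hxS⟩ : S) = 1 then n else 0) + (if x ∈ H then 0 else 1) = 1
      rw [if_neg hx1, if_neg hxH]
    rw [h2'] at h1
    have hpos : 0 < Fintype.card (MulAction.fixedBy (SubMulAction.ofStabilizer G a)
        (⟨x, hxS⟩ : S)) := by omega
    obtain ⟨c⟩ := Fintype.card_pos_iff.mp hpos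
    exact ⟨c.1, (SubMulAction.mem_ofStabilizer_iff G a).mp c.1.2, hfixval _ c.1 c.2⟩
  have hconj : ∀ g : G, g ∈ S → ∀ u ∈ H, g * u * g⁻¹ ∈ H := by
    intro g hg u hu
    by_contra hnot
    have hgS : g * u * g⁻¹ ∈ S := mul_mem (mul_mem hg (hHa hu)) (inv_mem hg)
    obtain ⟨c, hca, hc⟩ := hkey _ hgS hnot
    have hu1 : u ≠ 1 := by
      rintro rfl
      apply hnot
      have : g * 1 * g⁻¹ = 1 := by group
      rw [this]; exact one_mem _
    have hfix : u • (g⁻¹ • c) = g⁻¹ • c := by
      have h1 : (g * u * g⁻¹) • c = c := hc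
      rw [mul_smul, mul_smul] at h1
      calc u • (g⁻¹ • c) = g⁻¹ • (g • (u • (g⁻¹ • c))) := by rw [inv_smul_smul]
        _ = g⁻¹ • c := by rw [h1]
    have h4 := hHfix u hu hu1 _ hfix
    apply hca
    have hga : g • a = a := hg
    rw [inv_smul_eq_iff] at h4
    rw [h4, hga]
  apply le_antisymm
  · intro g hg
    by_contra hgS
    have h1 : g * u₁ * g⁻¹ ∈ H := (mem_normalizer_iff.mp hg u₁).mp hu₁H
    exact hu₁1 (part1 g hgS u₁ hu₁H h1)
  · intro g hg
    rw [mem_normalizer_iff]
    intro u
    constructor
    · exact hconj g hg u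
    · intro hy
      have := hconj g⁻¹ (inv_mem hg) _ hy
      have e : g⁻¹ * (g * u * g⁻¹) * g⁻¹⁻¹ = u := by group
      rw [e] at this
      exact this

end Cfsg.Agent.S0878
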