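import Mathlib
import Cfsg.Statements.S0157
import Cfsg.Agent.S0190
import Cfsg.Agent.Lib.Helper5.Clifford
import Cfsg.Agent.Lib.Helper24.CharAlgebra

set_option autoImplicit false
open Cfsg

namespace Cfsg.Agent.S0157

open Cfsg.Agent.Helper24 Cfsg.Agent.Helper5
open scoped ComplexConjugate

section
variable {G : Type*} [Group G] (X : Type*) [MulAction G X]

/-- Fixed points on pairs. -/
def fixedByProdEquiv (g : G) :
    MulAction.fixedBy (X × X) g ≃ MulAction.fixedBy X g × MulAction.fixedBy X g where
  toFun c := (⟨c.1.1, by
      have := c.2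
      rw [MulAction.mem_fixedBy] at this ⊢
      exact congrArg Prod.fst this⟩, ⟨c.1.2, by
      have := c.2
      rw [MulAction.mem_fixedBy] at this ⊢
      exact congrArg Prod.snd this⟩)
  invFun c := ⟨(c.1.1, c.2.1), by
      rw [MulAction.mem_fixedBy]
      have h1 := c.1.2
      have h2 := c.2.2
      rw [MulAction.mem_fixedBy] at h1 h2
      exact Prod.ext h1 h2⟩
  left_inv c := by
    apply Subtype.ext
    rfl
  right_inv c := by
    rfl

/-- The diagonal indicator on orbits of pairs. -/
def diagInd [DecidableEq X] : MulAction.orbitRel.Quotient G (X × X) → Bool :=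
  Quotient.lift (fun c : X × X => decide (c.1 = c.2)) (by
    rintro ⟨a, b⟩ ⟨c, d⟩ h
    obtain ⟨g, hg⟩ := h
    have h1 : g • c = a := congrArg Prod.fst hg
    have h2 : g • d = b := congrArg Prod.snd hg
    simp only [decide_eq_decide]
    rw [← h1, ← h2]
    exact (MulAction.injective g).eq_iff)

theorem diagInd_mk [DecidableEq X] (c : X × X) :
    diagInd (G := G) X (Quotient.mk'' c) = decide (c.1 = c.2) := rfl

theorem diagInd_surjective [DecidableEq X] [Finite X] (hX : 2 ≤ Nat.card X) :
    Function.Surjective (diagInd (G := G) X) := by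
  have : 1 < Nat.card X := hX
  rw [Finite.one_lt_card_iff_nontrivial] at this
  obtain ⟨a, b, hab⟩ := this
  intro t
  cases t
  · exact ⟨Quotient.mk'' (a, b), by simp [diagInd_mk, hab]⟩
  · exact ⟨Quotient.mk'' (a, a), by simp [diagInd_mk]⟩

theorem diagInd_injective_iff [DecidableEq X] [MulAction.IsPretransitive G X] :
    Function.Injective (diagInd (G := G) X) ↔ MulAction.IsMultiplyPretransitive G X 2 := by
  rw [MulAction.is_two_pretransitive_iff]
  constructor
  · intro hinj a b c d hab hcd
    have h1 : diagInd (G := G) X (Quotient.mk'' (c, d)) = diagInd (G := G) X (Quotient.mk'' (a, b)) := by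
      simp [diagInd_mk, hab, hcd]
    have h2 := hinj h1
    have h3 : (c, d) ∈ MulAction.orbit G (a, b) := by
      have := Quotient.exact' h2
      exact this
    obtain ⟨g, hg⟩ := h3
    exact ⟨g, congrArg Prod.fst hg, congrArg Prod.snd hg⟩
  · intro h2 q q' hqq
    induction q using Quotient.inductionOn' with
    | _ c =>
    induction q' using Quotient.inductionOn' with
    | _ c' =>
    obtain ⟨a, b⟩ := c
    obtain ⟨c, d⟩ := c'
    simp only [diagInd_mk, decide_eq_decide] at hqq
    apply Quotient.sound'
    show (a, b) ∈ MulAction.orbit G (c, d)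
    by_cases hab : a = b
    · have hcd : c = d := hqq.mp hab
      subst hab hcd
      obtain ⟨g, hg⟩ := MulAction.exists_smul_eq G c a
      exact ⟨g, by simp [hg]⟩
    · have hcd : c ≠ d := fun h => hab (hqq.mpr h)
      obtain ⟨g, hg1, hg2⟩ := h2 hcd hab
      exact ⟨g, by simp [hg1, hg2]⟩

end

/-- For a transitive action of a finite group on a finite set with at least two points: the action is 2-transitive if and only if the function sending g to (number of fixed points of g) − 1 is an irreducible character. -/
theorem result {G : Type*} [Group G] [Finite G] (X : Type*) [MulAction G X] [Finite X] [MulAction.IsPretransitive G X] (hX : 2 ≤ Nat.card X) : Cfsg.IsIrrCharacter G (fun g => (Nat.card (MulAction.fixedBy X g) : ℂ) - 1) ↔ MulAction.IsMultiplyPretransitive G X 2 := by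
  classical
  letI : Fintype G := Fintype.ofFinite G
  letI : Fintype X := Fintype.ofFinite X
  letI : Fintype (IrrCharacter G) := irrFintype
  have hXne : Nonempty X := (Nat.card_pos_iff.mp (by omega)).1
  obtain ⟨x₀⟩ := hXne
  have hcard : (Nat.card G : ℂ) ≠ 0 := by
    exact_mod_cast (Nat.card_pos (α := G)).ne'
  set π : G → ℂ := fun g => (Nat.card (MulAction.fixedBy X g) : ℂ) with hπ
  have hπchar : IsCharacter G π := by
    rw [hπ, Cfsg.Agent.S0190.result X x₀]
    apply isCharacter_indFun
    exact isCharacter_of_isIrrCharacter isIrrCharacter_one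
  -- Burnside sums
  have hS1 : ∑ g : G, π g = (Nat.card G : ℂ) := by
    have h := MulAction.sum_card_fixedBy_eq_card_orbits_mul_card_group G X
    have h1 : Fintype.card (MulAction.orbitRel.Quotient G X) = 1 := by
      have hss : Subsingleton (MulAction.orbitRel.Quotient G X) :=
        (MulAction.pretransitive_iff_subsingleton_quotient G X).mp inferInstance
      exact Fintype.card_eq_one_iff.mpr ⟨Quotient.mk'' x₀, fun y => Subsingleton.elim _ _⟩
    rw [h1, one_mul] at h
    simp only [hπ, Nat.card_eq_fintype_card]
    exact_mod_cast h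
  set r := Fintype.card (MulAction.orbitRel.Quotient G (X × X)) with hr
  have hS2 : ∑ g : G, π g * π g = (r : ℂ) * (Nat.card G : ℂ) := by
    have h := MulAction.sum_card_fixedBy_eq_card_orbits_mul_card_group G (X × X)
    have h1 : ∀ g : G, Fintype.card (MulAction.fixedBy (X × X) g) =
        Fintype.card (MulAction.fixedBy X g) * Fintype.card (MulAction.fixedBy X g) := by
      intro g
      rw [Fintype.card_congr (fixedByProdEquiv X g), Fintype.card_prod]
    simp only [h1] at h
    simp only [hπ, Nat.card_eq_fintype_card]
    exact_mod_cast h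
  have hinner1 : classInner π (fun _ => (1 : ℂ)) = 1 := by
    rw [classInner]
    simp only [map_one, mul_one]
    rw [hS1, inv_mul_cancel₀ hcard]
  obtain ⟨ρ', hρ', hπρ'⟩ := exists_add_of_constituent hπchar isIrrCharacter_one
    (by rw [hinner1]; exact one_ne_zero)
  have hsub : (fun g => (Nat.card (MulAction.fixedBy X g) : ℂ) - 1) = ρ' := by
    funext g
    have := congrFun hπρ' g
    simp only [Pi.add_apply, hπ] at this
    rw [this]
    ring
  have hsubchar : IsCharacter G (fun g => (Nat.card (MulAction.fixedBy X g) : ℂ) - 1) := by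
    rw [hsub]; exact hρ'
  have hinner : classInner (fun g : G => (Nat.card (MulAction.fixedBy X g) : ℂ) - 1)
      (fun g : G => (Nat.card (MulAction.fixedBy X g) : ℂ) - 1) = (r : ℂ) - 1 := by
    rw [classInner]
    have h1 : ∀ g : G, ((Nat.card (MulAction.fixedBy X g) : ℂ) - 1) *
        conj ((Nat.card (MulAction.fixedBy X g) : ℂ) - 1) = π g * π g - 2 * π g + 1 := by
      intro g
      simp only [map_sub, map_natCast, map_one, hπ]
      ring
    simp only [h1]
    rw [Finset.sum_add_distrib, Finset.sum_sub_distrib, hS2, ← Finset.mul_sum, hS1]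
    simp only [Finset.sum_const, Finset.card_univ, nsmul_eq_mul, mul_one]
    rw [← Nat.card_eq_fintype_card]
    field_simp
    ring
  rw [isIrrCharacter_iff, hinner]
  rw [← diagInd_injective_iff (G := G) X]
  constructor
  · rintro ⟨-, h⟩
    have hr2 : r = 2 := by
      have : (r : ℂ) = 2 := by linear_combination h
      exact_mod_cast this
    have hbij := (Fintype.bijective_iff_surjective_and_card (diagInd (G := G) X)).mpr
      ⟨diagInd_surjective (G := G) X hX, by rw [← hr, hr2]; rfl⟩
    exact hbij.1
  · intro hinj
    refine ⟨hsubchar, ?_⟩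
    have hbij : Function.Bijective (diagInd (G := G) X) := ⟨hinj, diagInd_surjective (G := G) X hX⟩
    have := ((Fintype.bijective_iff_surjective_and_card (diagInd (G := G) X)).mp hbij).2
    rw [← hr] at this
    rw [this]
    simp
    norm_num

end Cfsg.Agent.S0157
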