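import Mathlib
import Cfsg.Statements.S0882
import Cfsg.Agent.Lib.Helper5.ZassOdd
-- import your own Cfsg.Agent.* helpers here

set_option autoImplicit false
open Cfsg

namespace Cfsg.Agent.S0882

/-- Let G be a finite simple Zassenhaus group on Ω with n = h + 1 points whose two-point stabilizer E has odd order e with 2e < h - 1. Then any two involutions of G are conjugate, and the number of involutions is e * (h + 1) if h is even and e * h if h is odd. -/
theorem result {G Ω : Type*} [Group G] [Finite G] [MulAction G Ω] [Fintype Ω] (hZ : Cfsg.IsZassenhausGroup G Ω) {a b : Ω} (hab : a ≠ b) [IsSimpleGroup G] (h e : ℕ) (hh : Fintype.card Ω = h + 1) (he : Nat.card ↥(MulAction.stabilizer G a ⊓ MulAction.stabilizer G b : Subgroup G) = e) (hodd : Odd e) (hlt : 2 * e < h - 1) : (∀ x y : G, orderOf x = 2 → orderOf y = 2 → IsConj x y) ∧ Nat.card {x : G // orderOf x = 2} = (if Even h then e * (h + 1) else e * h) := by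
  classical
  have h2 := hZ.2.1
  rw [MulAction.is_two_pretransitive_iff] at h2
  subst he
  constructor
  · -- conjugacy
    intro x y hx hy
    obtain ⟨c, d, hcd, hxc, hxd⟩ := Cfsg.Agent.Helper5.ZassOdd.exists_swap hZ x hx
    obtain ⟨c', d', hcd', hyc, hyd⟩ := Cfsg.Agent.Helper5.ZassOdd.exists_swap hZ y hy
    obtain ⟨g, hgc, hgd⟩ := h2 hcd hcd'
    have hodd' : Odd (Nat.card ↥(MulAction.stabilizer G c' ⊓ MulAction.stabilizer G d' :
        Subgroup G)) := by
      rw [Cfsg.Agent.Helper5.ZassOdd.card_two_point_eq h2 hab hcd']; exact hodd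
    have hgx : orderOf (g * x * g⁻¹) = 2 := by
      have : g * x * g⁻¹ = MulAut.conj g x := by simp [MulAut.conj_apply]
      rw [this, MulEquiv.orderOf_eq, hx]
    have h1 : (g * x * g⁻¹) • c' = d' := by
      rw [mul_smul, mul_smul, ← hgc, inv_smul_smul, hxc, hgd]
    have h3 : (g * x * g⁻¹) • d' = c' := by
      rw [mul_smul, mul_smul, ← hgd, inv_smul_smul, hxd, hgc]
    have h4 := Cfsg.Agent.Helper5.ZassOdd.swap_isConj hZ hcd' hodd' (g * x * g⁻¹) y hgx h1 h3
      hyc hyd
    exact (isConj_iff.mpr ⟨g, rfl⟩).trans h4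
  · -- the count
    have hpos : 0 < h := by omega
    split_ifs with hev
    · have hoddn : Odd (Fintype.card Ω) := by rw [hh]; exact hev.add_one
      have hf : ∀ s : G, orderOf s = 2 → Nat.card (MulAction.fixedBy Ω s) = 1 := fun s hs =>
        (Cfsg.Agent.Helper5.ZassOdd.fix_invol hZ hab hodd s hs).1 hoddn
      have h5 := Cfsg.Agent.Helper5.ZassOdd.card_invol_mul hZ hab hodd 1 hf
      rw [hh, Nat.add_sub_cancel] at h5
      apply Nat.eq_of_mul_eq_mul_right hpos
      rw [h5]
      ring
    · have hevn : Even (Fintype.card Ω) := by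
        rw [hh]
        rw [Nat.not_even_iff_odd] at hev
        exact hev.add_one
      have hf : ∀ s : G, orderOf s = 2 → Nat.card (MulAction.fixedBy Ω s) = 0 := fun s hs =>
        (Cfsg.Agent.Helper5.ZassOdd.fix_invol hZ hab hodd s hs).2 hevn
      have h5 := Cfsg.Agent.Helper5.ZassOdd.card_invol_mul hZ hab hodd 0 hf
      rw [hh, Nat.add_sub_cancel, Nat.sub_zero] at h5
      apply Nat.eq_of_mul_eq_mul_right (show 0 < h + 1 by omega)
      rw [h5]
      ring

end Cfsg.Agent.S0882
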