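import Mathlib
import Cfsg.Statements.S0883
import Cfsg.Agent.Lib.Helper5.ZassOdd
-- import your own Cfsg.Agent.* helpers here

set_option autoImplicit false
open Cfsg

namespace Cfsg.Agent.S0883

/-- Let G be a finite simple Zassenhaus group on Ω with h + 1 points whose two-point stabilizer E has odd order e with 2e < h - 1, and let H be the subgroup of the stabilizer of a consisting of the identity and the elements fixing no point other than a (given here as a subgroup of the stabilizer of order one less than the number of points whose non-identity elements fix only a; it is the Frobenius kernel of the stabilizer). If a non-identity element u of H is a product of two involutions of G, then u is an involution. -/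
theorem result {G Ω : Type*} [Group G] [Finite G] [MulAction G Ω] [Fintype Ω] (hZ : Cfsg.IsZassenhausGroup G Ω) {a b : Ω} (hab : a ≠ b) [IsSimpleGroup G] (h e : ℕ) (hh : Fintype.card Ω = h + 1) (he : Nat.card ↥(MulAction.stabilizer G a ⊓ MulAction.stabilizer G b : Subgroup G) = e) (hodd : Odd e) (hlt : 2 * e < h - 1) (H : Subgroup G) (hHa : H ≤ MulAction.stabilizer G a) (hHcard : Nat.card H + 1 = Fintype.card Ω) (hHfix : ∀ u ∈ H, u ≠ 1 → ∀ c : Ω, u • c = c → c = a) (u : G) (hu : u ∈ H) (hu1 : u ≠ 1) (x y : G) (hx : orderOf x = 2) (hy : orderOf y = 2) (hxy : x * y = u) : orderOf u = 2 := by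
  classical
  haveI : Fintype G := Fintype.ofFinite G
  have h2 := hZ.2.1
  rw [MulAction.is_two_pretransitive_iff] at h2
  have h3 := hZ.2.2.1
  subst he
  have hxx : x * x = 1 := Cfsg.Agent.Helper5.ZassOdd.mul_self_of_orderOf hx
  have hyy : y * y = 1 := Cfsg.Agent.Helper5.ZassOdd.mul_self_of_orderOf hy
  have hxinv : x⁻¹ = x := inv_eq_of_mul_eq_one_left hxx
  have hyinv : y⁻¹ = y := inv_eq_of_mul_eq_one_left hyy
  have hconj : x * u * x⁻¹ = u⁻¹ := by
    rw [← hxy, mul_inv_rev, hxinv, hyinv]
    calc x * (x * y) * x = (x * x) * y * x := by group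
      _ = y * x := by rw [hxx, one_mul]
  have huinv : u⁻¹ ∈ H := H.inv_mem hu
  have huinv1 : u⁻¹ ≠ 1 := inv_ne_one.mpr hu1
  have hua : u • a = a := MulAction.mem_stabilizer_iff.mp (hHa hu)
  have hxa : x • a = a := by
    apply hHfix u⁻¹ huinv huinv1 (x • a)
    rw [← hconj, mul_smul, mul_smul, inv_smul_smul, hua]
  rcases Nat.even_or_odd (Fintype.card Ω) with hev | hoddn
  · exfalso
    have h0 := (Cfsg.Agent.Helper5.ZassOdd.fix_invol hZ hab hodd x hx).2 hev
    have hpos : 0 < Nat.card (MulAction.fixedBy Ω x) := by
      haveI : Nonempty (MulAction.fixedBy Ω x) := ⟨⟨a, hxa⟩⟩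
      exact Nat.card_pos
    omega
  · have hfix1 : Nat.card (MulAction.fixedBy Ω x) = 1 :=
      (Cfsg.Agent.Helper5.ZassOdd.fix_invol hZ hab hodd x hx).1 hoddn
    have hxmove : ∀ c : Ω, x • c = c → c = a := by
      intro c hc
      rw [Nat.card_eq_one_iff_unique] at hfix1
      have := hfix1.1.elim (⟨c, hc⟩ : MulAction.fixedBy Ω x) ⟨a, hxa⟩
      exact congrArg Subtype.val this
    have hJcard := Cfsg.Agent.Helper5.ZassOdd.card_invol_fix hZ hab hodd hoddn
    have hbound := Cfsg.Agent.Helper5.ZassOdd.card_le_mul_centralizer (MulAction.stabilizer G a) x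
      (Finset.univ.filter (fun s : G => orderOf s = 2 ∧ s • a = a)) (by
        intro g hg
        rw [MulAction.mem_stabilizer_iff] at hg
        rw [Finset.mem_filter]
        refine ⟨Finset.mem_univ _, ?_, ?_⟩
        · have : g * x * g⁻¹ = MulAut.conj g x := by simp [MulAut.conj_apply]
          rw [this, MulEquiv.orderOf_eq, hx]
        · have hg' : g⁻¹ • a = a := by rw [inv_smul_eq_iff, hg]
          rw [mul_smul, mul_smul, hg', hxa, hg])
    have hGa : Nat.card (MulAction.stabilizer G a) = (Fintype.card Ω - 1) *
        Nat.card ↥(MulAction.stabilizer G a ⊓ MulAction.stabilizer G b : Subgroup G) := by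
      rw [← Cfsg.Agent.Helper5.Zass.cnt1_eq (G := G) h2 hab a a, Nat.card_eq_fintype_card,
        Fintype.card_subtype]
      rfl
    have hCH : (Subgroup.centralizer {x} ⊓ MulAction.stabilizer G a : Subgroup G) ≤ H := by
      intro g hg
      obtain ⟨hgc, hga⟩ := Subgroup.mem_inf.mp hg
      rw [Subgroup.mem_centralizer_singleton_iff] at hgc
      rw [MulAction.mem_stabilizer_iff] at hga
      by_contra hgH
      obtain ⟨c, hca, hgc'⟩ := Cfsg.Agent.Helper5.ZassOdd.exists_fixed_of_not_mem hZ hab H hHa
        hHcard hHfix g hga hgH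
      have h5 : g • (x • c) = x • c := by
        rw [← mul_smul, hgc, mul_smul, hgc']
      have hne1 : c ≠ x • c := fun h => hca (hxmove c h.symm)
      have hne2 : a ≠ x • c := by
        intro h
        apply hca
        have : x • a = x • c := by rw [hxa]; exact h
        exact (MulAction.injective _ this).symm
      have := h3 g a c (x • c) (Ne.symm hca) hne1 hne2 hga hgc' h5
      exact hgH (this ▸ H.one_mem)
    have hE_pos : 0 < Nat.card ↥(MulAction.stabilizer G a ⊓ MulAction.stabilizer G b :
        Subgroup G) := Nat.card_pos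
    have hHle : Nat.card H ≤
        Nat.card ↥(Subgroup.centralizer {x} ⊓ MulAction.stabilizer G a : Subgroup G) := by
      rw [hGa, hJcard] at hbound
      have hHc : Nat.card H = Fintype.card Ω - 1 := by omega
      rw [hHc]
      rw [mul_comm] at hbound
      exact Nat.le_of_mul_le_mul_left hbound hE_pos
    have hCeq := Subgroup.eq_of_le_of_card_ge hCH hHle
    have huC : u ∈ (Subgroup.centralizer {x} ⊓ MulAction.stabilizer G a : Subgroup G) := by
      rw [hCeq]; exact hu
    have hux := (Subgroup.mem_inf.mp huC).1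
    rw [Subgroup.mem_centralizer_singleton_iff] at hux
    have h6 : u⁻¹ = u := by
      rw [← hconj]
      calc x * u * x⁻¹ = (u * x) * x⁻¹ := by rw [hux]
        _ = u := by group
    have h7 : u * u = 1 := by
      calc u * u = u * u⁻¹ := by rw [h6]
        _ = 1 := mul_inv_cancel u
    exact Cfsg.Agent.Helper5.ZassOdd.orderOf_eq_two h7 hu1

end Cfsg.Agent.S0883
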