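import Mathlib
import Cfsg.Statements.S0884
import Cfsg.Agent.Lib.Helper5.ZassOdd
import Cfsg.Agent.Lib.Helper5.InvolPairs
import Cfsg.Agent.S0882
import Cfsg.Agent.S0883
-- import your own Cfsg.Agent.* helpers here

set_option autoImplicit false
open Cfsg

namespace Cfsg.Agent.S0884

/-- Let G be a finite simple Zassenhaus group on Ω with h + 1 points whose two-point stabilizer E has odd order e with 2e < h - 1, and let H be the subgroup of the stabilizer of a consisting of the identity and the elements fixing no point other than a (given here as a subgroup of the stabilizer of order one less than the number of points whose non-identity elements fix only a; it is the Frobenius kernel of the stabilizer). Then at least e conjugacy classes of G contain no element of H. -/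
theorem result {G Ω : Type*} [Group G] [Finite G] [MulAction G Ω] [Fintype Ω] (hZ : Cfsg.IsZassenhausGroup G Ω) {a b : Ω} (hab : a ≠ b) [IsSimpleGroup G] (h e : ℕ) (hh : Fintype.card Ω = h + 1) (he : Nat.card ↥(MulAction.stabilizer G a ⊓ MulAction.stabilizer G b : Subgroup G) = e) (hodd : Odd e) (hlt : 2 * e < h - 1) (H : Subgroup G) (hHa : H ≤ MulAction.stabilizer G a) (hHcard : Nat.card H + 1 = Fintype.card Ω) (hHfix : ∀ u ∈ H, u ≠ 1 → ∀ c : Ω, u • c = c → c = a) : e ≤ Nat.card {C : ConjClasses G // ∀ g : G, ConjClasses.mk g = C → g ∉ H} := by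
  classical
  haveI : Fintype G := Fintype.ofFinite G
  have h2 := hZ.2.1
  rw [MulAction.is_two_pretransitive_iff] at h2
  subst he
  have hIcard : (Finset.univ.filter (fun x : G => orderOf x = 2)).card =
      Nat.card {x : G // orderOf x = 2} := by
    rw [Nat.card_eq_fintype_card, Fintype.card_subtype]
  obtain ⟨-, hI⟩ := Cfsg.Agent.S0882.result hZ hab h _ hh rfl hodd hlt
  have hG : Fintype.card G = (h + 1) * (h *
      Nat.card ↥(MulAction.stabilizer G a ⊓ MulAction.stabilizer G b : Subgroup G)) := by
    rw [Cfsg.Agent.Helper5.Zass.card_eq h2 hab, hh, Nat.add_sub_cancel]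
  have hA : Nat.card {C : ConjClasses G // ∀ g : G, ConjClasses.mk g = C → g ∉ H} =
      (Finset.univ.filter (fun C : ConjClasses G =>
        ∀ g : G, ConjClasses.mk g = C → g ∉ H)).card := by
    rw [Nat.card_eq_fintype_card, Fintype.card_subtype]
  rw [hA]
  have hP : ((Finset.univ.filter (fun x : G => orderOf x = 2)) ×ˢ
      (Finset.univ.filter (fun x : G => orderOf x = 2))).card =
      Nat.card {x : G // orderOf x = 2} * Nat.card {x : G // orderOf x = 2} := by
    rw [Finset.card_product, hIcard]
  -- pairs whose product class avoids H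
  have hPA : (((Finset.univ.filter (fun x : G => orderOf x = 2)) ×ˢ
      (Finset.univ.filter (fun x : G => orderOf x = 2))).filter
        (fun p : G × G => ∀ g : G, ConjClasses.mk g = ConjClasses.mk (p.1 * p.2) → g ∉ H)).card ≤
      (Finset.univ.filter (fun C : ConjClasses G =>
        ∀ g : G, ConjClasses.mk g = C → g ∉ H)).card * Fintype.card G := by
    rw [Finset.card_eq_sum_card_fiberwise (f := fun p : G × G => ConjClasses.mk (p.1 * p.2))
      (t := Finset.univ.filter (fun C : ConjClasses G =>
        ∀ g : G, ConjClasses.mk g = C → g ∉ H))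
      (fun p hp => by
        have hp' := Finset.mem_coe.mp hp
        rw [Finset.mem_filter] at hp'
        rw [Finset.mem_coe, Finset.mem_filter]
        exact ⟨Finset.mem_univ _, hp'.2⟩)]
    rw [← smul_eq_mul, ← Finset.sum_const]
    apply Finset.sum_le_sum
    intro C _
    refine le_trans (Finset.card_le_card ?_) (Cfsg.Agent.Helper5.InvolPairs.card_pairs_le C)
    intro p hp
    rw [Finset.mem_filter, Finset.mem_filter] at hp
    rw [Finset.mem_filter]
    exact ⟨hp.1.1, hp.2⟩
  -- pairs whose product class meets H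
  have hmeet : ∀ p : G × G, orderOf p.1 = 2 → orderOf p.2 = 2 →
      (¬ ∀ g : G, ConjClasses.mk g = ConjClasses.mk (p.1 * p.2) → g ∉ H) →
      p.1 * p.2 = 1 ∨ (orderOf (p.1 * p.2) = 2 ∧ ∃ c : Ω, (p.1 * p.2) • c = c) := by
    rintro ⟨x, y⟩ hx hy hnot
    simp only at hx hy hnot ⊢
    push Not at hnot
    obtain ⟨g, hgC, hgH⟩ := hnot
    rw [ConjClasses.mk_eq_mk_iff_isConj, isConj_iff] at hgC
    obtain ⟨k, hk⟩ := hgC
    by_cases hg1 : g = 1
    · left
      rw [← hk, hg1]; group
    · right
      have hx' : orderOf (k⁻¹ * x * k) = 2 := by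
        have : k⁻¹ * x * k = MulAut.conj k⁻¹ x := by simp [MulAut.conj_apply]
        rw [this, MulEquiv.orderOf_eq, hx]
      have hy' : orderOf (k⁻¹ * y * k) = 2 := by
        have : k⁻¹ * y * k = MulAut.conj k⁻¹ y := by simp [MulAut.conj_apply]
        rw [this, MulEquiv.orderOf_eq, hy]
      have hprod : (k⁻¹ * x * k) * (k⁻¹ * y * k) = g := by
        have : (k⁻¹ * x * k) * (k⁻¹ * y * k) = k⁻¹ * (x * y) * k := by group
        rw [this, ← hk]; group
      have hg2 := Cfsg.Agent.S0883.result hZ hab h _ hh rfl hodd hlt H hHa hHcard hHfix g hgH hg1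
        _ _ hx' hy' hprod
      constructor
      · have : x * y = MulAut.conj k g := by simp [MulAut.conj_apply, hk]
        rw [this, MulEquiv.orderOf_eq, hg2]
      · refine ⟨k • a, ?_⟩
        rw [← hk, mul_smul, mul_smul, inv_smul_smul,
          MulAction.mem_stabilizer_iff.mp (hHa hgH)]
  have hP1 : (((Finset.univ.filter (fun x : G => orderOf x = 2)) ×ˢ
      (Finset.univ.filter (fun x : G => orderOf x = 2))).filter
        (fun p : G × G => p.1 * p.2 = 1)).card ≤ Nat.card {x : G // orderOf x = 2} := by
    rw [← hIcard]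
    apply Finset.card_le_card_of_injOn Prod.fst
    · intro p hp
      have hp' := Finset.mem_coe.mp hp
      rw [Finset.mem_filter, Finset.mem_product] at hp'
      exact Finset.mem_coe.mpr hp'.1.1
    · intro p hp p' hp' hpp
      have hp1 := Finset.mem_coe.mp hp
      have hp1' := Finset.mem_coe.mp hp'
      rw [Finset.mem_filter] at hp1 hp1'
      have h5 : p.2 = p'.2 := by
        have e1 : p.2 = p.1⁻¹ := (inv_eq_of_mul_eq_one_right hp1.2).symm
        have e2 : p'.2 = p'.1⁻¹ := (inv_eq_of_mul_eq_one_right hp1'.2).symm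
        rw [e1, e2, hpp]
      exact Prod.ext hpp h5
  have hsplit := Finset.card_filter_add_card_filter_not
    (s := ((Finset.univ.filter (fun x : G => orderOf x = 2)) ×ˢ
      (Finset.univ.filter (fun x : G => orderOf x = 2))))
    (fun p : G × G => ∀ g : G, ConjClasses.mk g = ConjClasses.mk (p.1 * p.2) → g ∉ H)
  rw [hP] at hsplit
  have hepos : 0 < Nat.card ↥(MulAction.stabilizer G a ⊓ MulAction.stabilizer G b : Subgroup G) :=
    Nat.card_pos
  have hhpos : 0 < h := by omega
  rcases Nat.even_or_odd h with hev | hoddh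
  · -- n odd
    rw [if_pos hev] at hI
    have hoddn : Odd (Fintype.card Ω) := by rw [hh]; exact hev.add_one
    have hf1 : ∀ s : G, orderOf s = 2 → Nat.card (MulAction.fixedBy Ω s) = 1 := fun s hs =>
      (Cfsg.Agent.Helper5.ZassOdd.fix_invol hZ hab hodd s hs).1 hoddn
    have hP2 : (((Finset.univ.filter (fun x : G => orderOf x = 2)) ×ˢ
        (Finset.univ.filter (fun x : G => orderOf x = 2))).filter
          (fun p : G × G => orderOf (p.1 * p.2) = 2)).card ≤
        Nat.card {x : G // orderOf x = 2} *
          (Nat.card ↥(MulAction.stabilizer G a ⊓ MulAction.stabilizer G b : Subgroup G) - 1) := by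
      rw [Finset.card_eq_sum_card_fiberwise (f := Prod.fst)
        (t := Finset.univ.filter (fun x : G => orderOf x = 2))
        (fun p hp => by
          have hp' := Finset.mem_coe.mp hp
          rw [Finset.mem_filter, Finset.mem_product] at hp'
          exact Finset.mem_coe.mpr hp'.1.1)]
      rw [← hIcard, ← smul_eq_mul, ← Finset.sum_const]
      apply Finset.sum_le_sum
      intro x hx
      have hx2 : orderOf x = 2 := (Finset.mem_filter.mp hx).2
      have hfx := hf1 x hx2
      rw [Nat.card_eq_one_iff_unique] at hfx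
      obtain ⟨hsub, ⟨⟨c, hc⟩⟩⟩ := hfx
      have hc' : x • c = c := hc
      obtain ⟨d, hdc, -⟩ := Cfsg.Agent.Helper5.ZassOdd.exists_third hZ c c
      have hcd : c ≠ d := Ne.symm hdc
      have hcardE := Cfsg.Agent.Helper5.ZassOdd.card_two_point_eq h2 hab hcd
      have hodd' : Odd (Nat.card ↥(MulAction.stabilizer G c ⊓ MulAction.stabilizer G d :
          Subgroup G)) := by rw [hcardE]; exact hodd
      have hJ := Cfsg.Agent.Helper5.ZassOdd.card_invol_fix hZ hcd hodd' hoddn
      have hxJ : x ∈ Finset.univ.filter (fun s : G => orderOf s = 2 ∧ s • c = c) := by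
        rw [Finset.mem_filter]
        exact ⟨Finset.mem_univ _, hx2, hc'⟩
      have hcardJ : ((Finset.univ.filter (fun s : G => orderOf s = 2 ∧ s • c = c)).erase x).card =
          Nat.card ↥(MulAction.stabilizer G a ⊓ MulAction.stabilizer G b : Subgroup G) - 1 := by
        rw [Finset.card_erase_of_mem hxJ, hJ, hcardE]
      rw [← hcardJ]
      apply Finset.card_le_card_of_injOn Prod.snd
      · intro p hp
        have hp' := Finset.mem_coe.mp hp
        rw [Finset.mem_filter, Finset.mem_filter, Finset.mem_product, Finset.mem_filter,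
          Finset.mem_filter] at hp'
        obtain ⟨⟨⟨⟨-, hp1⟩, ⟨-, hp2⟩⟩, hp12⟩, hpx⟩ := hp'
        rw [Finset.mem_coe, Finset.mem_erase, Finset.mem_filter]
        have hpx' : p.1 = x := hpx
        rw [hpx'] at hp12
        have hcomm : x * p.2 = p.2 * x := by
          have h5 := Cfsg.Agent.Helper5.ZassOdd.mul_self_of_orderOf hp12
          have h6 : x * p.2 = (x * p.2)⁻¹ := (inv_eq_of_mul_eq_one_left h5).symm
          rw [mul_inv_rev, inv_eq_of_mul_eq_one_left
            (Cfsg.Agent.Helper5.ZassOdd.mul_self_of_orderOf hx2),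
            inv_eq_of_mul_eq_one_left (Cfsg.Agent.Helper5.ZassOdd.mul_self_of_orderOf hp2)] at h6
          exact h6
        refine ⟨?_, Finset.mem_univ _, hp2, ?_⟩
        · intro hyx
          rw [hyx, Cfsg.Agent.Helper5.ZassOdd.mul_self_of_orderOf hx2, orderOf_one] at hp12
          omega
        · have h7 : x • (p.2 • c) = p.2 • c := by
            rw [← mul_smul, hcomm, mul_smul, hc']
          have := hsub.elim (⟨p.2 • c, h7⟩ : MulAction.fixedBy Ω x) ⟨c, hc⟩
          exact congrArg Subtype.val this
      · intro p hp p' hp' hpp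
        have hp1 := Finset.mem_coe.mp hp
        have hp1' := Finset.mem_coe.mp hp'
        rw [Finset.mem_filter] at hp1 hp1'
        exact Prod.ext (hp1.2.trans hp1'.2.symm) hpp
    have hPB : (((Finset.univ.filter (fun x : G => orderOf x = 2)) ×ˢ
        (Finset.univ.filter (fun x : G => orderOf x = 2))).filter
          (fun p : G × G => ¬ ∀ g : G, ConjClasses.mk g = ConjClasses.mk (p.1 * p.2) → g ∉ H)).card ≤
        Nat.card {x : G // orderOf x = 2} + Nat.card {x : G // orderOf x = 2} *
          (Nat.card ↥(MulAction.stabilizer G a ⊓ MulAction.stabilizer G b : Subgroup G) - 1) := by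
      refine le_trans ?_ (add_le_add hP1 hP2)
      refine le_trans (Finset.card_le_card ?_) (Finset.card_union_le _ _)
      intro p hp
      rw [Finset.mem_filter, Finset.mem_product, Finset.mem_filter, Finset.mem_filter] at hp
      rw [Finset.mem_union, Finset.mem_filter, Finset.mem_filter, Finset.mem_product,
        Finset.mem_filter, Finset.mem_filter]
      rcases hmeet p hp.1.1.2 hp.1.2.2 hp.2 with h1 | ⟨h1, -⟩
      · exact Or.inl ⟨hp.1, h1⟩
      · exact Or.inr ⟨hp.1, h1⟩
    -- arithmetic
    rw [hG] at hPA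
    rw [hI] at hPB hsplit
    generalize (Finset.univ.filter (fun C : ConjClasses G =>
        ∀ g : G, ConjClasses.mk g = C → g ∉ H)).card = A at hPA ⊢
    generalize Nat.card ↥(MulAction.stabilizer G a ⊓ MulAction.stabilizer G b : Subgroup G) = e
      at hPA hPB hsplit hepos
    have h8 : e * (h + 1) + e * (h + 1) * (e - 1) = e * (h + 1) * e := by
      obtain ⟨e', rfl⟩ : ∃ e', e = e' + 1 := ⟨e - 1, by omega⟩
      rw [Nat.add_sub_cancel]; ring
    have h9 : e * (h + 1) * (e * (h + 1)) ≤ A * ((h + 1) * (h * e)) + e * (h + 1) * e := by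
      rw [← h8, ← hsplit]
      exact add_le_add hPA hPB
    have h10 : e * ((h + 1) * (h * e)) ≤ A * ((h + 1) * (h * e)) := by
      have : e * (h + 1) * (e * (h + 1)) = e * ((h + 1) * (h * e)) + e * (h + 1) * e := by ring
      rw [this] at h9
      exact Nat.le_of_add_le_add_right h9
    exact Nat.le_of_mul_le_mul_right h10 (by positivity)
  · -- n even
    rw [if_neg (Nat.not_even_iff_odd.mpr hoddh)] at hI
    have hevn : Even (Fintype.card Ω) := by rw [hh]; exact hoddh.add_one
    have hf0 : ∀ s : G, orderOf s = 2 → Nat.card (MulAction.fixedBy Ω s) = 0 := fun s hs =>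
      (Cfsg.Agent.Helper5.ZassOdd.fix_invol hZ hab hodd s hs).2 hevn
    have hPB : (((Finset.univ.filter (fun x : G => orderOf x = 2)) ×ˢ
        (Finset.univ.filter (fun x : G => orderOf x = 2))).filter
          (fun p : G × G => ¬ ∀ g : G, ConjClasses.mk g = ConjClasses.mk (p.1 * p.2) → g ∉ H)).card ≤
        Nat.card {x : G // orderOf x = 2} := by
      refine le_trans (Finset.card_le_card ?_) hP1
      intro p hp
      rw [Finset.mem_filter, Finset.mem_product, Finset.mem_filter, Finset.mem_filter] at hp
      rw [Finset.mem_filter, Finset.mem_product, Finset.mem_filter, Finset.mem_filter]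
      rcases hmeet p hp.1.1.2 hp.1.2.2 hp.2 with h1 | ⟨h1, c, hc⟩
      · exact ⟨hp.1, h1⟩
      · exfalso
        have h0 := hf0 _ h1
        have hpos : 0 < Nat.card (MulAction.fixedBy Ω (p.1 * p.2)) := by
          haveI : Nonempty (MulAction.fixedBy Ω (p.1 * p.2)) := ⟨⟨c, hc⟩⟩
          exact Nat.card_pos
        omega
    rw [hG] at hPA
    rw [hI] at hPB hsplit
    generalize (Finset.univ.filter (fun C : ConjClasses G =>
        ∀ g : G, ConjClasses.mk g = C → g ∉ H)).card = A at hPA ⊢
    generalize Nat.card ↥(MulAction.stabilizer G a ⊓ MulAction.stabilizer G b : Subgroup G) = e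
      at hPA hPB hsplit hepos hlt
    have h9 : e * h * (e * h) ≤ A * ((h + 1) * (h * e)) + e * h := by
      rw [← hsplit]
      exact add_le_add hPA hPB
    by_contra hlt'
    push Not at hlt'
    have h10 : (e * h) * (e * h) ≤ (e * h) * (A * (h + 1) + 1) := by
      calc (e * h) * (e * h) ≤ A * ((h + 1) * (h * e)) + e * h := h9
        _ = (e * h) * (A * (h + 1) + 1) := by ring
    have h11 : e * h ≤ A * (h + 1) + 1 := Nat.le_of_mul_le_mul_left h10 (by positivity)
    have h12 : A + 1 ≤ e := hlt'
    have h13 : (A + 1) * h ≤ e * h := Nat.mul_le_mul_right h h12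
    have h14 : (A + 1) * h = A * h + h := by ring
    have h15 : A * (h + 1) = A * h + A := by ring
    omega

end Cfsg.Agent.S0884
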