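import Mathlib
import Cfsg.Statements.S0339
import Cfsg.Agent.S4252
import Cfsg.Agent.S0035
import Cfsg.Agent.Lib.Helper3.ZassCount

set_option autoImplicit false

open Cfsg

namespace Cfsg.Agent.S0339

open MulAction

section basics

variable {G Ω : Type*} [Group G] [MulAction G Ω]

/-- A nontrivial normal subgroup of a faithful doubly transitive group is transitive. -/
theorem normal_trans [FaithfulSMul G Ω]
    (h2 : ∀ {a b c d : Ω}, a ≠ b → c ≠ d → ∃ g : G, g • a = c ∧ g • b = d)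
    (N : Subgroup G) [hNn : N.Normal] (hN : N ≠ ⊥) (c d : Ω) : ∃ m ∈ N, m • c = d := by
  by_cases hcd : c = d
  · exact ⟨1, N.one_mem, by rw [one_smul, hcd]⟩
  obtain ⟨n, hn1⟩ := (Subgroup.ne_bot_iff_exists_ne_one).mp hN
  have hn1' : (n : G) ≠ 1 := fun h => hn1 (Subtype.ext h)
  have : ∃ a : Ω, (n : G) • a ≠ a := by
    by_contra hcon
    push Not at hcon
    apply hn1'
    apply FaithfulSMul.eq_of_smul_eq_smul (α := Ω)
    intro a
    rw [hcon a, one_smul]
  obtain ⟨a, ha⟩ := this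
  obtain ⟨g, hg1, hg2⟩ := h2 (Ne.symm ha) hcd
  refine ⟨g * n * g⁻¹, hNn.conj_mem _ n.2 g, ?_⟩
  rw [mul_smul, mul_smul, ← hg1, inv_smul_smul, hg2]

end basics


/-- Case A: a normal subgroup acting as a Frobenius group yields a regular normal subgroup. -/
theorem caseA {G Ω : Type*} [Group G] [Finite G] [MulAction G Ω] [Fintype Ω]
    (hΩ : 1 < Fintype.card Ω) (N : Subgroup G) [hNn : N.Normal]
    (htr : ∀ c d : Ω, ∃ m ∈ N, m • c = d)
    (hnreg : ∃ m ∈ N, m ≠ 1 ∧ ∃ a : Ω, m • a = a)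
    (hfix : ∀ m ∈ N, m ≠ 1 → ∀ a b : Ω, m • a = a → m • b = b → a = b) :
    ∃ M : Subgroup G, M.Normal ∧ (∀ c d : Ω, ∃ m ∈ M, m • c = d) ∧
      ∀ m ∈ M, m ≠ 1 → ∀ a : Ω, m • a ≠ a := by
  classical
  have hne : Nonempty Ω := by
    rw [← Fintype.card_pos_iff]; omega
  obtain ⟨α⟩ := hne
  have htr' : ∀ c d : Ω, ∃ g : N, g • c = d := by
    intro c d
    obtain ⟨m, hm, h⟩ := htr c d
    exact ⟨⟨m, hm⟩, h⟩
  have hnreg' : ∃ g : N, g ≠ 1 ∧ ∃ a : Ω, g • a = a := by
    obtain ⟨m, hm, hm1, a, ha⟩ := hnreg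
    exact ⟨⟨m, hm⟩, fun h => hm1 (congrArg Subtype.val h), a, ha⟩
  have hfix' : ∀ g : N, g ≠ 1 → ∀ a b : Ω, g • a = a → g • b = b → a = b := by
    intro g hg a b ha hb
    exact hfix g g.2 (fun h => hg (Subtype.ext h)) a b ha hb
  obtain ⟨hFC, hker⟩ := Cfsg.Agent.S4252.result hΩ htr' hnreg' hfix' α
  obtain ⟨M₀, hM₀, hM₀n, hcomp⟩ := Cfsg.Agent.S0035.result (stabilizer N α) hFC
  rw [hker] at hM₀
  have hmem : ∀ m : N, m ∈ M₀ ↔ (m = 1 ∨ ∀ ω : Ω, m • ω ≠ ω) := by
    intro m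
    rw [← SetLike.mem_coe, hM₀]
    rfl
  refine ⟨M₀.map N.subtype, ?_, ?_, ?_⟩
  · constructor
    intro x hx g
    obtain ⟨m, hm, rfl⟩ := hx
    refine ⟨⟨g * m * g⁻¹, hNn.conj_mem _ m.2 g⟩, ?_, rfl⟩
    rw [SetLike.mem_coe, hmem] at hm ⊢
    rcases hm with rfl | hm
    · left
      apply Subtype.ext
      simp
    · right
      intro ω h
      apply hm (g⁻¹ • ω)
      have h' : (g * (m : G) * g⁻¹) • ω = ω := h
      show (m : G) • g⁻¹ • ω = g⁻¹ • ω
      rw [mul_smul, mul_smul] at h'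
      have h'' := congrArg (fun w => g⁻¹ • w) h'
      simp only [inv_smul_smul] at h''
      exact h''
  · have hpt : ∀ c : Ω, ∃ m ∈ M₀, m • α = c := by
      intro c
      obtain ⟨n, hn⟩ := htr' α c
      obtain ⟨⟨m, s⟩, hms, -⟩ := (Subgroup.isComplement'_def.mp hcomp).existsUnique n
      refine ⟨m, m.2, ?_⟩
      have hs : (s : N) • α = α := s.2
      have : ((m : N) * (s : N)) • α = c := by rw [hms]; exact hn
      rw [mul_smul, hs] at this
      exact this
    intro c d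
    obtain ⟨mc, hmc, hc⟩ := hpt c
    obtain ⟨md, hmd, hd⟩ := hpt d
    refine ⟨((md * mc⁻¹ : N) : G), ⟨md * mc⁻¹, M₀.mul_mem hmd (M₀.inv_mem hmc), rfl⟩, ?_⟩
    show (md * mc⁻¹ : N) • c = d
    rw [← hc, mul_smul, inv_smul_smul, hd]
  · rintro x ⟨m, hm, rfl⟩ hx a
    rw [SetLike.mem_coe, hmem] at hm
    rcases hm with rfl | hm
    · exact absurd rfl hx
    · exact hm a


/-- Case B: point stabilizers of `N` are transitive on the remaining points. -/
theorem caseB_trans {G Ω : Type*} [Group G] [Finite G] [MulAction G Ω] [Finite Ω]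
    (h2 : ∀ {a b c d : Ω}, a ≠ b → c ≠ d → ∃ g : G, g • a = c ∧ g • b = d)
    (h3 : ∀ g : G, ∀ a b c : Ω, a ≠ b → b ≠ c → a ≠ c → g • a = a → g • b = b → g • c = c → g = 1)
    (N : Subgroup G) [hNn : N.Normal]
    (hB : ∃ m ∈ N, m ≠ 1 ∧ ∃ a b : Ω, a ≠ b ∧ m • a = a ∧ m • b = b)
    (a x y : Ω) (hx : x ≠ a) (hy : y ≠ a) : ∃ m ∈ N, m • a = a ∧ m • x = y := by
  classical
  set A : Subgroup G := N ⊓ stabilizer G a with hA
  have haA : ∀ g : A, g • a = a := fun g => g.2.2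
  have h3' : ∀ g : A, g ≠ 1 → ∀ z w : Ω, z ≠ a → w ≠ a → g • z = z → g • w = w → z = w := by
    intro g hg z w hz hw hgz hgw
    by_contra hzw
    apply hg
    apply Subtype.ext
    exact h3 (g : G) a z w (Ne.symm hz) hzw (Ne.symm hw) (haA g) hgz hgw
  have hle : ∀ z w : Ω, z ≠ a → w ≠ a →
      Nat.card (stabilizer A z) ≤ Nat.card (stabilizer A w) := by
    intro z w hz hw
    obtain ⟨g, hga, hgz⟩ := h2 (Ne.symm hz) (Ne.symm hw)
    have hmemA : ∀ s : A, g * (s : G) * g⁻¹ ∈ A := by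
      intro s
      refine ⟨hNn.conj_mem _ s.2.1 g, ?_⟩
      show (g * (s : G) * g⁻¹) • a = a
      rw [mul_smul, mul_smul]
      have h1 : g⁻¹ • a = a := by rw [inv_smul_eq_iff, hga]
      have h2' : (s : G) • a = a := s.2.2
      rw [h1, h2', hga]
    let φ : stabilizer A z → stabilizer A w := fun s =>
      ⟨⟨g * ((s : A) : G) * g⁻¹, hmemA s⟩, by
        rw [mem_stabilizer_iff]
        show (g * ((s : A) : G) * g⁻¹) • w = w
        have h1 : g⁻¹ • w = z := by rw [inv_smul_eq_iff, hgz]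
        have h2' : ((s : A) : G) • z = z := s.2
        rw [mul_smul, mul_smul, h1, h2', hgz]⟩
    have hφ : Function.Injective φ := by
      intro s t hst
      have h1 : g * ((s : A) : G) * g⁻¹ = g * ((t : A) : G) * g⁻¹ :=
        congrArg (fun u : stabilizer A w => ((u : A) : G)) hst
      have h2' : ((s : A) : G) = ((t : A) : G) := by
        have := mul_right_cancel h1
        exact mul_left_cancel this
      exact Subtype.ext (Subtype.ext h2')
    exact Nat.card_le_card_of_injective φ hφ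
  have hstab : ∀ z : Ω, z ≠ a → Nat.card (stabilizer A z) = Nat.card (stabilizer A x) :=
    fun z hz => le_antisymm (hle z x hz hx) (hle x z hx hz)
  have he : 2 ≤ Nat.card (stabilizer A x) := by
    obtain ⟨m₀, hm₀N, hm₀1, a₀, b₀, hab₀, hma₀, hmb₀⟩ := hB
    obtain ⟨g, hga, hgb⟩ := h2 hab₀ (Ne.symm hx)
    have h1 : g⁻¹ • a = a₀ := by rw [inv_smul_eq_iff, hga]
    have h1' : g⁻¹ • x = b₀ := by rw [inv_smul_eq_iff, hgb]
    have htA : g * m₀ * g⁻¹ ∈ A := by
      refine ⟨hNn.conj_mem _ hm₀N g, ?_⟩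
      show (g * m₀ * g⁻¹) • a = a
      rw [mul_smul, mul_smul, h1, hma₀, hga]
    have hbot : stabilizer A x ≠ ⊥ := by
      intro hbot
      have hmem : (⟨g * m₀ * g⁻¹, htA⟩ : A) ∈ stabilizer A x := by
        rw [mem_stabilizer_iff]
        show (g * m₀ * g⁻¹) • x = x
        rw [mul_smul, mul_smul, h1', hmb₀, hgb]
      rw [hbot, Subgroup.mem_bot] at hmem
      have h5 : g * m₀ * g⁻¹ = 1 := congrArg Subtype.val hmem
      apply hm₀1
      have h6 : m₀ = g⁻¹ * (g * m₀ * g⁻¹) * g := by group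
      rw [h6, h5]
      group
    have := (Subgroup.one_lt_card_iff_ne_bot (stabilizer A x)).mpr hbot
    omega
  obtain ⟨g, hg⟩ := Helper3.ZassCount.trans_of_count (A := A) a haA h3' _ he hstab x y hx hy
  exact ⟨(g : G), g.2.1, haA g, hg⟩


/-- A regular subgroup `M ≤ N` normalized by `N`, where point stabilizers of `N` are transitive on
the remaining points, is normal in `G`. -/
theorem regular_normal {G Ω : Type*} [Group G] [Finite G] [MulAction G Ω] [FaithfulSMul G Ω]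
    (N : Subgroup G) [hNn : N.Normal]
    (hNtr : ∀ a x y : Ω, x ≠ a → y ≠ a → ∃ m ∈ N, m • a = a ∧ m • x = y)
    (M : Subgroup G) (hMN : M ≤ N) (hMnorm : ∀ n ∈ N, ∀ m ∈ M, n * m * n⁻¹ ∈ M)
    (hMtr : ∀ c d : Ω, ∃ m ∈ M, m • c = d) (hMreg : ∀ m ∈ M, m ≠ 1 → ∀ a : Ω, m • a ≠ a)
    (a b : Ω) (hab : a ≠ b) : M.Normal := by
  classical
  -- (i) all nonidentity elements of M are N-conjugate
  have hconj : ∀ m₁ ∈ M, ∀ m₂ ∈ M, m₁ ≠ 1 → m₂ ≠ 1 → ∃ s ∈ N, s * m₁ * s⁻¹ = m₂ := by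
    intro m₁ hm₁ m₂ hm₂ h1 h2
    obtain ⟨s, hsN, hsa, hs⟩ := hNtr a (m₁ • a) (m₂ • a) (hMreg m₁ hm₁ h1 a) (hMreg m₂ hm₂ h2 a)
    refine ⟨s, hsN, ?_⟩
    by_contra hne
    have hu : m₂⁻¹ * (s * m₁ * s⁻¹) ∈ M := M.mul_mem (M.inv_mem hm₂) (hMnorm s hsN m₁ hm₁)
    have hu1 : m₂⁻¹ * (s * m₁ * s⁻¹) ≠ 1 := by
      intro h
      apply hne
      rw [inv_mul_eq_one] at h
      exact h.symm
    apply hMreg _ hu hu1 a
    have h3 : s⁻¹ • a = a := by rw [inv_smul_eq_iff, hsa]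
    rw [mul_smul, mul_smul, mul_smul, h3, hs, inv_smul_smul]
  -- (ii) invariant subgroups
  have hinv : ∀ L : Subgroup G, L ≤ M → (∀ n ∈ N, ∀ l ∈ L, n * l * n⁻¹ ∈ L) →
      (∃ l ∈ L, l ≠ 1) → M ≤ L := by
    intro L hLM hLinv ⟨l, hl, hl1⟩ m hm
    by_cases hm1 : m = 1
    · rw [hm1]; exact L.one_mem
    · obtain ⟨s, hsN, hs⟩ := hconj l (hLM hl) m hm hl1 hm1
      rw [← hs]
      exact hLinv s hsN l hl
  -- M is nontrivial
  obtain ⟨m₀, hm₀, hm₀ab⟩ := hMtr a b
  have hm₀1 : m₀ ≠ 1 := by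
    intro h
    rw [h, one_smul] at hm₀ab
    exact hab hm₀ab
  -- (iii) M is commutative
  have hcomm : ∀ x ∈ M, ∀ y ∈ M, x * y = y * x := by
    haveI : Nontrivial M := ⟨⟨⟨m₀, hm₀⟩, 1, fun h => hm₀1 (congrArg Subtype.val h)⟩⟩
    have hcardM : Nat.card M ≠ 1 := by
      intro h
      have := (Nat.card_eq_one_iff_unique.mp h).1
      exact not_subsingleton M this
    obtain ⟨p, hp, hpdvd⟩ := Nat.exists_prime_and_dvd hcardM
    haveI : Fact p.Prime := ⟨hp⟩
    obtain ⟨x₀, hx₀⟩ := exists_prime_orderOf_dvd_card' (G := M) p hpdvd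
    have hx₀1 : (x₀ : G) ≠ 1 := by
      intro h
      have : x₀ = 1 := Subtype.ext h
      rw [this, orderOf_one] at hx₀
      exact hp.one_lt.ne hx₀
    have hx₀p : (x₀ : G) ^ p = 1 := by
      have := pow_orderOf_eq_one x₀
      rw [hx₀] at this
      exact_mod_cast congrArg Subtype.val this
    have hpG : IsPGroup p M := by
      intro m
      refine ⟨1, ?_⟩
      rw [pow_one]
      by_cases hm1 : (m : G) = 1
      · have : m = 1 := Subtype.ext hm1
        rw [this, one_pow]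
      · obtain ⟨s, hsN, hs⟩ := hconj x₀ x₀.2 m m.2 hx₀1 hm1
        apply Subtype.ext
        rw [Subgroup.coe_pow, ← hs, conj_pow, hx₀p]
        simp
    have hcen := hpG.center_nontrivial
    obtain ⟨z, hz1⟩ := exists_ne (1 : Subgroup.center M)
    set L : Subgroup G := (Subgroup.center M).map M.subtype with hL
    have hLM : L ≤ M := by
      rintro _ ⟨u, _, rfl⟩
      exact u.2
    have hLinv : ∀ n ∈ N, ∀ l ∈ L, n * l * n⁻¹ ∈ L := by
      rintro n hn _ ⟨u, hu, rfl⟩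
      refine ⟨⟨n * (u : G) * n⁻¹, hMnorm n hn u u.2⟩, ?_, rfl⟩
      rw [SetLike.mem_coe, Subgroup.mem_center_iff] at hu ⊢
      intro w
      have hw' : n⁻¹ * (w : G) * n ∈ M := by
        have := hMnorm n⁻¹ (N.inv_mem hn) w w.2
        rwa [inv_inv] at this
      have h1 := hu ⟨n⁻¹ * (w : G) * n, hw'⟩
      have h2 : (n⁻¹ * (w : G) * n) * (u : G) = (u : G) * (n⁻¹ * (w : G) * n) :=
        congrArg Subtype.val h1
      apply Subtype.ext
      show (w : G) * (n * (u : G) * n⁻¹) = (n * (u : G) * n⁻¹) * (w : G)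
      have h3 : (w : G) * (n * (u : G) * n⁻¹) = n * ((n⁻¹ * (w : G) * n) * (u : G)) * n⁻¹ := by
        group
      rw [h3, h2]
      group
    have hLne : ∃ l ∈ L, l ≠ 1 := by
      refine ⟨((z : M) : G), ⟨(z : M), z.2, rfl⟩, ?_⟩
      intro h
      apply hz1
      apply Subtype.ext
      apply Subtype.ext
      exact h
    have hML := hinv L hLM hLinv hLne
    intro x hx y hy
    obtain ⟨u, hu, hux⟩ := hML hx
    rw [SetLike.mem_coe, Subgroup.mem_center_iff] at hu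
    have := hu ⟨y, hy⟩
    have h2 : y * (u : G) = (u : G) * y := congrArg Subtype.val this
    have hux' : (u : G) = x := hux
    rw [← hux', h2]
  -- (iv) M ≤ conj g M for all g
  have hle : ∀ g : G, ∀ m ∈ M, g⁻¹ * m * g ∈ M := by
    intro g
    set M₂ : Subgroup G := M.map (MulAut.conj g).toMonoidHom with hM₂
    have hmemM₂ : ∀ x : G, x ∈ M₂ ↔ g⁻¹ * x * g ∈ M := by
      intro x
      rw [hM₂, Subgroup.mem_map]
      constructor
      · rintro ⟨m, hm, rfl⟩
        have : g⁻¹ * ((MulAut.conj g).toMonoidHom m) * g = m := by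
          simp [MulAut.conj_apply]; group
        rw [this]; exact hm
      · intro h
        refine ⟨g⁻¹ * x * g, h, ?_⟩
        simp [MulAut.conj_apply]; group
    have hM₂N : M₂ ≤ N := by
      intro x hx
      rw [hmemM₂] at hx
      have := hNn.conj_mem _ (hMN hx) g
      have h3 : g * (g⁻¹ * x * g) * g⁻¹ = x := by group
      rwa [h3] at this
    have hM₂inv : ∀ n ∈ N, ∀ x ∈ M₂, n * x * n⁻¹ ∈ M₂ := by
      intro n hn x hx
      rw [hmemM₂] at hx ⊢
      have hn' : g⁻¹ * n * g ∈ N := by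
        have := hNn.conj_mem _ hn g⁻¹
        rwa [inv_inv] at this
      have := hMnorm _ hn' _ hx
      have h3 : g⁻¹ * n * g * (g⁻¹ * x * g) * (g⁻¹ * n * g)⁻¹ = g⁻¹ * (n * x * n⁻¹) * g := by group
      rwa [h3] at this
    set L : Subgroup G := M ⊓ M₂ with hL
    have hLinv : ∀ n ∈ N, ∀ l ∈ L, n * l * n⁻¹ ∈ L := by
      intro n hn l hl
      exact ⟨hMnorm n hn l hl.1, hM₂inv n hn l hl.2⟩
    by_cases hLne : ∃ l ∈ L, l ≠ 1
    · have hML := hinv L inf_le_left hLinv hLne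
      intro m hm
      exact (hmemM₂ m).mp (hML hm).2
    · exfalso
      push Not at hLne
      -- M and M₂ commute
      have hcomm2 : ∀ m ∈ M, ∀ x ∈ M₂, m * x = x * m := by
        intro m hm x hx
        have h1 : m * x * m⁻¹ * x⁻¹ ∈ L := by
          refine ⟨?_, ?_⟩
          · have := M.mul_mem hm (hMnorm x (hM₂N hx) m⁻¹ (M.inv_mem hm))
            have h3 : m * (x * m⁻¹ * x⁻¹) = m * x * m⁻¹ * x⁻¹ := by group
            rwa [h3] at this
          · exact M₂.mul_mem (hM₂inv m (hMN hm) x hx) (M₂.inv_mem hx)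
        have h2 := hLne _ h1
        have h3 : m * x = (m * x * m⁻¹ * x⁻¹) * (x * m) := by group
        rw [h3, h2, one_mul]
      -- M₂ ≤ M
      have hM₂M : M₂ ≤ M := by
        intro x hx
        obtain ⟨m, hm, hmx⟩ := hMtr a (x • a)
        have hc : ∀ ω : Ω, (m⁻¹ * x) • ω = ω := by
          intro ω
          obtain ⟨m', hm', rfl⟩ := hMtr a ω
          have h4 : (m⁻¹ * x) * m' = m' * (m⁻¹ * x) := by
            rw [mul_assoc, ← hcomm2 m' hm' x hx, ← mul_assoc, ← mul_assoc,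
              hcomm m⁻¹ (M.inv_mem hm) m' hm']
          rw [← mul_smul, h4, mul_smul, mul_smul m⁻¹ x a, ← hmx, inv_smul_smul]
        have h5 : m⁻¹ * x = 1 := by
          apply FaithfulSMul.eq_of_smul_eq_smul (α := Ω)
          intro ω
          rw [hc ω, one_smul]
        have h6 : x = m := by
          rw [inv_mul_eq_one] at h5
          exact h5.symm
        rw [h6]; exact hm
      -- so M₂ = ⊥, hence M = ⊥
      have h7 : g * m₀ * g⁻¹ ∈ M₂ := by
        rw [hmemM₂]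
        have h3 : g⁻¹ * (g * m₀ * g⁻¹) * g = m₀ := by group
        rw [h3]; exact hm₀
      have h8 := hLne _ ⟨hM₂M h7, h7⟩
      apply hm₀1
      have h9 : m₀ = g⁻¹ * (g * m₀ * g⁻¹) * g := by group
      rw [h9, h8]
      group
  constructor
  intro m hm g
  have := hle g⁻¹ m hm
  rwa [inv_inv] at this

/-- A non-trivial normal subgroup of a Zassenhaus group is itself a Zassenhaus group on the same set. -/
theorem result {G Ω : Type*} [Group G] [MulAction G Ω] [Finite Ω]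
    (hZ : Cfsg.IsZassenhausGroup G Ω) (N : Subgroup G) [N.Normal] (hN : N ≠ ⊥) :
    Cfsg.IsZassenhausGroup N Ω := by
  classical
  obtain ⟨hfaith, h2, h3, h4, h5⟩ := hZ
  haveI := hfaith
  haveI : Finite G := Finite.of_injective _ (MulAction.toPerm_injective (α := G) (β := Ω))
  haveI : Fintype Ω := Fintype.ofFinite Ω
  have h2' : ∀ {a b c d : Ω}, a ≠ b → c ≠ d → ∃ g : G, g • a = c ∧ g • b = d :=
    MulAction.is_two_pretransitive_iff.mp h2
  obtain ⟨g₀, hg₀1, a₀, b₀, hab₀, hga₀, hgb₀⟩ := h4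
  have hΩ : 1 < Fintype.card Ω := Fintype.one_lt_card_iff.mpr ⟨a₀, b₀, hab₀⟩
  have htr := normal_trans h2' N hN
  have hpre : IsPretransitive N Ω :=
    ⟨fun c d => by obtain ⟨m, hm, h⟩ := htr c d; exact ⟨⟨m, hm⟩, h⟩⟩
  obtain ⟨a₁, ha₁⟩ := h5 N inferInstance hpre
  have hnreg : ∃ m ∈ N, m ≠ 1 ∧ ∃ a : Ω, m • a = a := by
    obtain ⟨s, hs1⟩ := (Subgroup.ne_bot_iff_exists_ne_one).mp ha₁
    refine ⟨((s : N) : G), (s : N).2, ?_, a₁, s.2⟩
    intro h
    apply hs1
    apply Subtype.ext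
    apply Subtype.ext
    exact h
  by_cases hB : ∃ m ∈ N, m ≠ 1 ∧ ∃ a b : Ω, a ≠ b ∧ m • a = a ∧ m • b = b
  · have hNtr := caseB_trans h2' h3 N hB
    refine ⟨?_, ?_, ?_, ?_, ?_⟩
    · constructor
      intro m₁ m₂ h
      apply Subtype.ext
      apply FaithfulSMul.eq_of_smul_eq_smul (α := Ω)
      exact h
    · rw [MulAction.is_two_pretransitive_iff]
      intro a b c d hab hcd
      obtain ⟨n₁, hn₁, hn₁a⟩ := htr a c
      have hb' : n₁ • b ≠ c := by
        intro h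
        rw [← hn₁a] at h
        exact hab (smul_left_cancel n₁ h).symm
      obtain ⟨m, hm, hmc, hmb⟩ := hNtr c (n₁ • b) d hb' (Ne.symm hcd)
      refine ⟨⟨m * n₁, N.mul_mem hm hn₁⟩, ?_, ?_⟩
      · show (m * n₁) • a = c
        rw [mul_smul, hn₁a, hmc]
      · show (m * n₁) • b = d
        rw [mul_smul, hmb]
    · intro g a b c hab hbc hac hga hgb hgc
      apply Subtype.ext
      exact h3 (g : G) a b c hab hbc hac hga hgb hgc
    · obtain ⟨m, hm, hm1, a, b, hab, hma, hmb⟩ := hB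
      exact ⟨⟨m, hm⟩, fun h => hm1 (congrArg Subtype.val h), a, b, hab, hma, hmb⟩
    · intro M₀ hM₀n hM₀tr
      by_contra hall
      push Not at hall
      set M : Subgroup G := M₀.map N.subtype with hM
      have hMN : M ≤ N := by
        rintro _ ⟨u, _, rfl⟩
        exact u.2
      have hMnorm : ∀ n ∈ N, ∀ m ∈ M, n * m * n⁻¹ ∈ M := by
        rintro n hn _ ⟨u, hu, rfl⟩
        exact ⟨⟨n, hn⟩ * u * ⟨n, hn⟩⁻¹, hM₀n.conj_mem u hu ⟨n, hn⟩, rfl⟩
      have hMtr : ∀ c d : Ω, ∃ m ∈ M, m • c = d := by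
        intro c d
        obtain ⟨u, hu⟩ := hM₀tr.exists_smul_eq c d
        exact ⟨((u : N) : G), ⟨(u : N), u.2, rfl⟩, hu⟩
      have hMreg : ∀ m ∈ M, m ≠ 1 → ∀ a : Ω, m • a ≠ a := by
        rintro _ ⟨u, hu, rfl⟩ hu1 a hua
        have hmem : (⟨u, hu⟩ : M₀) ∈ stabilizer M₀ a := hua
        rw [hall a, Subgroup.mem_bot] at hmem
        apply hu1
        have : u = 1 := congrArg Subtype.val hmem
        rw [this]; rfl
      have hMnormal : M.Normal := regular_normal N hNtr M hMN hMnorm hMtr hMreg a₀ b₀ hab₀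
      have hMpre : IsPretransitive M Ω :=
        ⟨fun c d => by obtain ⟨m, hm, h⟩ := hMtr c d; exact ⟨⟨m, hm⟩, h⟩⟩
      obtain ⟨a, ha⟩ := h5 M hMnormal hMpre
      obtain ⟨s, hs1⟩ := (Subgroup.ne_bot_iff_exists_ne_one).mp ha
      apply hMreg ((s : M) : G) (s : M).2 _ a s.2
      intro h
      apply hs1
      apply Subtype.ext
      apply Subtype.ext
      exact h
  · exfalso
    push Not at hB
    have hfix : ∀ m ∈ N, m ≠ 1 → ∀ a b : Ω, m • a = a → m • b = b → a = b := by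
      intro m hm hm1 a b hma hmb
      by_contra hab
      exact hB m hm hm1 a b hab hma hmb
    obtain ⟨M, hMn, hMtr, hMreg⟩ := caseA hΩ N htr hnreg hfix
    have hMpre : IsPretransitive M Ω :=
      ⟨fun c d => by obtain ⟨m, hm, h⟩ := hMtr c d; exact ⟨⟨m, hm⟩, h⟩⟩
    obtain ⟨a, ha⟩ := h5 M hMn hMpre
    obtain ⟨s, hs1⟩ := (Subgroup.ne_bot_iff_exists_ne_one).mp ha
    apply hMreg ((s : M) : G) (s : M).2 _ a s.2
    intro h
    apply hs1
    apply Subtype.ext
    apply Subtype.ext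
    exact h

end Cfsg.Agent.S0339

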