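import Mathlib
import Cfsg.Statements.S0732
import Cfsg.Agent.Lib.Helper27.Zp1G

set_option autoImplicit false
open Cfsg

namespace Cfsg.Agent.S0732

open Cfsg.Agent.Helper27.PSLp Cfsg.Agent.Helper27.ZP

/-- A transitive permutation group on `p + 1` points (`p` prime) of order `(p+1) p d` with `d < p` is isomorphic to `PGL(2,p)` with `d = p - 1`, or to `PSL(2,p)` with `2d = p - 1`, or else `p + 1 = 2^q` for a prime `q`, `d = 1` or `d = q`, and the group is permutation-isomorphic to a group of semi-affine maps `x ↦ a φ(x) + b` of the field with `2^q` elements. -/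
theorem result {α : Type*} [Fintype α] [DecidableEq α] {p d : ℕ} (hp : p.Prime) (hα : Fintype.card α = p + 1) (G : Subgroup (Equiv.Perm α)) [MulAction.IsPretransitive G α] (hG : Nat.card G = (p + 1) * p * d) (hd : d < p) : (d = p - 1 ∧ Nonempty (G ≃* Matrix.ProjGenLinGroup (Fin 2) (ZMod p))) ∨ (2 * d = p - 1 ∧ Nonempty (G ≃* Matrix.ProjectiveSpecialLinearGroup (Fin 2) (ZMod p))) ∨ (∃ q : ℕ, q.Prime ∧ p + 1 = 2 ^ q ∧ (d = 1 ∨ d = q) ∧ ∃ e : α ≃ GaloisField 2 q, ∀ g : G, (e.symm.trans (((g : Equiv.Perm α)).trans e)) ∈ Cfsg.semiaffineGroup (GaloisField 2 q)) := by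
  haveI : Fact p.Prime := ⟨hp⟩
  have hp2le := hp.two_le
  have hd0 : 0 < d := by
    rcases Nat.eq_zero_or_pos d with h | h
    · rw [h, mul_zero] at hG
      exact absurd hG Nat.card_pos.ne'
    · exact h
  have D : Data G p d := ⟨hα, hG, hd0, hd, inferInstance⟩
  obtain ⟨C, hinj, hHs⟩ := exists_ctx D
  by_cases h1 : d = p - 1
  · left
    exact ⟨h1, C.pgl_of_card_Hs hinj (hHs.trans h1)⟩
  by_cases hnr : NoReg G p
  · right; left
    rcases C.card_Hs_cases hinj hnr with h | h
    · exact absurd (hHs.symm.trans h) h1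
    · rw [hHs] at h
      refine ⟨h, C.psl_of_card_Hs hinj (by rw [hHs]; exact h) (Or.inr hnr)⟩
  · right; right
    unfold NoReg at hnr
    push Not at hnr
    obtain ⟨N, hNn, hN⟩ := hnr
    have hp2 : p ≠ 2 := by
      rintro rfl
      omega
    exact caseR D C hinj hp2 N hN

end Cfsg.Agent.S0732
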