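import Mathlib
import Cfsg.Statements.S0925
import Cfsg.Agent.Lib.Helper23.BlockSecondMain4

set_option autoImplicit false
open Cfsg Cfsg.Agent.Helper23.Blk Cfsg.Agent.Helper24

namespace Cfsg.Agent.S0925

/-- (i) Let ϑ be a class function on the finite group G and x a p-element, and suppose ϑ vanishes at every element whose p-part is conjugate to x. Then for every block B (relative to a maximal ideal M of the algebraic integers containing p) the B-part of ϑ — the sum over χ ∈ B of the inner product of ϑ with χ, times χ — also vanishes at every such element. (ii) Block orthogonality, its corollary: if the p-parts of g and h are not conjugate, then the sum over χ ∈ B of χ g * χ h⁻¹ is zero for every block B. -/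
theorem result {G : Type*} [Group G] [Finite G] (p : ℕ) [Fact p.Prime] (M : Ideal Cfsg.AlgInt) (hM : Cfsg.IsPModular p M) : (∀ (ϑ : G → ℂ), Cfsg.IsClassFunction G ϑ → ∀ x : G, (∃ k : ℕ, orderOf x = p ^ k) → (∀ u z : G, Cfsg.IsPPart p u z → IsConj x z → ϑ u = 0) → ∀ B : Set (Cfsg.IrrCharacter G), Cfsg.IsPBlock M B → ∀ u z : G, Cfsg.IsPPart p u z → IsConj x z → Cfsg.blockPart B ϑ u = 0) ∧ (∀ g h x y : G, Cfsg.IsPPart p g x → Cfsg.IsPPart p h y → ¬ IsConj x y → ∀ B : Set (Cfsg.IrrCharacter G), Cfsg.IsPBlock M B → ∑ᶠ χ ∈ B, (χ : G → ℂ) g * (χ : G → ℂ) h⁻¹ = 0) := by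
  classical
  haveI : Fintype G := Fintype.ofFinite G
  constructor
  · intro ϑ hϑ x hx hvan B hB u z hpp hconj
    obtain ⟨y, hzy, hcomm, hzp, hy⟩ := id hpp
    have hyC : y ∈ Subgroup.centralizer ({z} : Set G) := by
      rw [Subgroup.mem_centralizer_iff]
      intro w hw
      rw [Set.mem_singleton_iff] at hw
      rw [hw]
      exact hcomm.eq
    have hvan' : ∀ y' : Subgroup.centralizer ({z} : Set G), ¬ p ∣ orderOf y' →
        ϑ (z * (y' : G)) = 0 := by
      intro y' hy'
      apply hvan (z * (y' : G)) z _ hconj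
      refine ⟨(y' : G), rfl, ?_, hzp, by rwa [Subgroup.orderOf_coe]⟩
      exact Subgroup.mem_centralizer_iff.1 y'.2 z (Set.mem_singleton z)
    have key := blockPart_eq_zero_of_vanish_section hM hϑ hzp hvan' hB ⟨y, hyC⟩
      (by rw [← Subgroup.orderOf_coe]; exact hy)
    simp only [] at key
    rwa [hzy] at key
  · intro g h x y hgx hhy hnc B hB
    exact block_orthogonality hM hgx hhy hnc hB

end Cfsg.Agent.S0925
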