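import Mathlib
import Cfsg.Statements.S4730
import Cfsg.Agent.Lib.Helper23.BlockRows
import Cfsg.Agent.Lib.Helper23.CharValues
import Cfsg.Agent.S0142

set_option autoImplicit false
open Cfsg Cfsg.Agent.Helper23.Blk Cfsg.Agent.Helper24 Cfsg.Agent.Helper18 Cfsg.Agent.Helper23
open scoped ComplexConjugate

namespace Cfsg.Agent.S4730

set_option linter.style.haveILetI false

/-- a faithful irreducible character of a group with trivial centre vanishes at the nonidentity
elements whose class size is prime to the degree -/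
theorem char_eq_zero_of_coprime_of_faithful {G : Type*} [Group G] [Finite G]
    (hZ : Subgroup.center G = ⊥) (χ : Cfsg.IrrCharacter G)
    (hfaith : ∀ g : G, (χ : G → ℂ) g = (χ : G → ℂ) 1 → g = 1) (z : G) (hz : z ≠ 1)
    (hcop : Nat.Coprime (Cfsg.charDegree (χ : G → ℂ))
      (Subgroup.centralizer ({z} : Set G)).index) : (χ : G → ℂ) z = 0 := by
  classical
  obtain ⟨n, ρ, hρ, hρχ⟩ := χ.2
  haveI : ρ.IsIrreducible := hρ
  have hdeg : Cfsg.charDegree (χ : G → ℂ) = n := by
    rw [← hρχ]
    exact charDegree_character_fin n ρ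
  have hfin : Module.finrank ℂ (Fin n → ℂ) = n := Module.finrank_fin_fun ℂ
  rw [hdeg] at hcop
  rcases Cfsg.Agent.S0142.result ρ z (by rw [hfin]; exact hcop) with h0 | hnorm
  · rw [← hρχ]
    exact h0
  · exfalso
    have hm0 : 0 < Nat.card G := Nat.card_pos
    have hm : z ^ Nat.card G = 1 := pow_card_eq_one'
    obtain ⟨hcard, hroots, hsum⟩ := roots_charpoly_spec ρ z (Nat.card G) hm
    have hn1 : ∀ μ ∈ (ρ z).charpoly.roots, ‖μ‖ = 1 := fun μ hμ =>
      Complex.norm_eq_one_of_pow_eq_one (hroots μ hμ) hm0.ne'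
    rw [hsum, ← hcard] at hnorm
    obtain ⟨ω, hω⟩ := multiset_const_of_norm_sum_eq_card _ hn1 hnorm
    have hscal := eq_smul_id_of_roots_eq ρ z (Nat.card G) hm0 hm ω hω
    have hcentral : z ∈ Subgroup.center G := by
      rw [Subgroup.mem_center_iff]
      intro g
      have h1 : ρ (g * z) = ρ (z * g) := by
        rw [map_mul, map_mul, hscal]
        ext v
        simp
      have h2 : ρ ((g * z) * (z * g)⁻¹) = 1 := by
        rw [map_mul, h1, ← map_mul, mul_inv_cancel, map_one]
      have h3 : (χ : G → ℂ) ((g * z) * (z * g)⁻¹) = (χ : G → ℂ) 1 := by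
        rw [← hρχ]
        unfold Representation.character
        rw [h2, map_one ρ]
      have h4 := hfaith _ h3
      exact mul_inv_eq_one.mp h4
    rw [hZ, Subgroup.mem_bot] at hcentral
    exact hz hcentral

/-- Let p be a prime, M a maximal ideal of the algebraic integers containing p, and G a finite group with trivial centre, Sylow p-subgroup P of order p^a and centre Z(P) of order p^b. If χ is a faithful irreducible character of G whose degree is a power of p, then the p-block of χ has defect at most a − b; in particular, if P is abelian then χ lies in a block of defect zero. -/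
theorem result {G : Type*} [Group G] [Finite G] (p : ℕ) [Fact p.Prime] (M : Ideal Cfsg.AlgInt) (hM : Cfsg.IsPModular p M) (hZ : Subgroup.center G = ⊥) (P : Sylow p G) (a b : ℕ) (ha : Nat.card P = p ^ a) (hb : Nat.card (Subgroup.center ↥(P : Subgroup G)) = p ^ b) (χ : Cfsg.IrrCharacter G) (hfaith : ∀ g : G, (χ : G → ℂ) g = (χ : G → ℂ) 1 → g = 1) (n : ℕ) (hdeg : Cfsg.charDegree (χ : G → ℂ) = p ^ n) : Cfsg.blockDefect p (Cfsg.blockOf M (χ : G → ℂ)) ≤ a - b ∧ (IsMulCommutative ↥(P : Subgroup G) → Cfsg.blockDefect p (Cfsg.blockOf M (χ : G → ℂ)) = 0) := by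
  classical
  haveI : Fintype G := Fintype.ofFinite G
  letI : Fintype (Cfsg.IrrCharacter G) := irrFintype
  haveI hMp : M.IsPrime := hM.2.1.isPrime
  have hp : p.Prime := hM.1
  set Z : Subgroup G := (Subgroup.center ↥(P : Subgroup G)).map (P : Subgroup G).subtype
    with hZdef
  have hZcard : Nat.card Z = p ^ b := by
    rw [hZdef, Subgroup.card_map_of_injective (Subgroup.subtype_injective _), hb]
  have hZcent : ∀ z ∈ Z, (P : Subgroup G) ≤ Subgroup.centralizer ({z} : Set G) := by
    rintro _ ⟨c, hc, rfl⟩ x hx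
    rw [Subgroup.mem_centralizer_singleton_iff]
    have h1 := Subgroup.mem_center_iff.mp hc ⟨x, hx⟩
    have h2 := congrArg Subtype.val h1
    exact h2
  have hcopz : ∀ z ∈ Z, ¬ p ∣ (Subgroup.centralizer ({z} : Set G)).index := by
    intro z hz hdvd
    exact P.not_dvd_index (dvd_trans hdvd (Subgroup.index_dvd_of_le (hZcent z hz)))
  have hχz : ∀ z ∈ Z, z ≠ 1 → (χ : G → ℂ) z = 0 := by
    intro z hz hz1
    apply char_eq_zero_of_coprime_of_faithful hZ χ hfaith z hz1
    rw [hdeg]
    exact Nat.Coprime.pow_left n ((Nat.Prime.coprime_iff_not_dvd hp).2 (hcopz z hz))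
  -- the key divisibility
  have hkey : ∀ ψ ∈ Cfsg.blockOf M (χ : G → ℂ), p ^ b ∣ Cfsg.charDegree (ψ : G → ℂ) := by
    intro ψ hψ
    haveI : Fintype Z := Fintype.ofFinite _
    letI : Fintype (Cfsg.IrrCharacter Z) := irrFintype
    have hψ1 : (ψ : G → ℂ) 1 ≠ 0 := irr_one_ne_zero ψ.2
    have hd : (ψ : G → ℂ) 1 = (Cfsg.charDegree (ψ : G → ℂ) : ℂ) := irr_one_eq_charDegree ψ.2
    have hd0 : Cfsg.charDegree (ψ : G → ℂ) ≠ 0 := (charDegree_pos ψ.2).ne'
    -- the ratios
    have hr : ∀ z ∈ Z, z ≠ 1 → MemLocalIdeal M ((ψ : G → ℂ) z / (ψ : G → ℂ) 1) := by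
      intro z hz hz1
      have h1 : MemLocalIdeal M (Cfsg.centralChar (χ : G → ℂ) z -
          Cfsg.centralChar (ψ : G → ℂ) z) := hψ z
      have h2 : Cfsg.centralChar (χ : G → ℂ) z = 0 := by
        unfold Cfsg.centralChar
        rw [hχz z hz hz1, mul_zero, zero_div]
      rw [h2, zero_sub] at h1
      have h3 := memLocalIdeal_neg h1
      rw [neg_neg] at h3
      have hidx : ¬ MemLocalIdeal M (((Subgroup.centralizer ({z} : Set G)).index : ℕ) : ℂ) := by
        rw [memLocalIdeal_natCast_iff hM]
        exact hcopz z hz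
      have hidxR : MemLocalRing M (((Subgroup.centralizer ({z} : Set G)).index : ℕ) : ℂ) :=
        memLocalRing_natCast _
      have hidx0 : (((Subgroup.centralizer ({z} : Set G)).index : ℕ) : ℂ) ≠ 0 := by
        exact_mod_cast Subgroup.index_ne_zero_of_finite
      have h4 : (ψ : G → ℂ) z / (ψ : G → ℂ) 1 =
          Cfsg.centralChar (ψ : G → ℂ) z *
            (((Subgroup.centralizer ({z} : Set G)).index : ℕ) : ℂ)⁻¹ := by
        unfold Cfsg.centralChar
        field_simp
      rw [h4]
      exact memLocalIdeal_mul_right h3 (memLocalRing_inv hidxR hidx)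
    -- the multiplicity of the trivial character of `Z`
    have hres : Cfsg.IsCharacter Z (fun k : Z => (ψ : G → ℂ) k) :=
      isCharacter_restrict Z (isCharacter_of_isIrrCharacter ψ.2)
    obtain ⟨m, hm⟩ := (isCharacter_decomp hres).1 (principalChar Z)
    have hsum : ∑ k : Z, (ψ : G → ℂ) k = (m : ℂ) * ((p ^ b : ℕ) : ℂ) := by
      unfold classInner at hm
      have h1 : ∀ k : Z, (fun k : Z => (ψ : G → ℂ) k) k *
          conj (((principalChar Z : Cfsg.IrrCharacter Z) : Z → ℂ) k) = (ψ : G → ℂ) k := by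
        intro k
        unfold principalChar
        simp
      rw [Finset.sum_congr rfl (fun k _ => h1 k), hZcard] at hm
      have hpb : ((p ^ b : ℕ) : ℂ) ≠ 0 := by
        exact_mod_cast (pow_pos hp.pos b).ne'
      rw [← hm]
      field_simp
    -- the unit
    set u : ℂ := ∑ k : Z, (ψ : G → ℂ) k / (ψ : G → ℂ) 1 with hu
    have hu1 : MemLocalIdeal M (u - 1) := by
      have h1 : u - 1 = ∑ k : Z, if (k : G) = 1 then (0 : ℂ) else
          (ψ : G → ℂ) k / (ψ : G → ℂ) 1 := by
        rw [hu]
        have h2 : (1 : ℂ) = ∑ k : Z, if (k : G) = 1 then (1 : ℂ) else 0 := by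
          rw [Finset.sum_eq_single (1 : Z)]
          · simp
          · intro k _ hk
            rw [if_neg]
            intro hk'
            exact hk (Subtype.ext hk')
          · intro h
            exact absurd (Finset.mem_univ _) h
        conv_lhs => rw [h2]
        rw [← Finset.sum_sub_distrib]
        apply Finset.sum_congr rfl
        intro k _
        by_cases hk : (k : G) = 1
        · rw [if_pos hk, if_pos hk, hk, div_self hψ1, sub_self]
        · rw [if_neg hk, if_neg hk, sub_zero]
      rw [h1]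
      apply memLocalIdeal_sum
      intro k _
      by_cases hk : (k : G) = 1
      · rw [if_pos hk]
        exact memLocalIdeal_zero ne_top
      · rw [if_neg hk]
        exact hr k k.2 hk
    have huR : MemLocalRing M u := by
      have := memLocalRing_add (memLocalRing_of_memLocalIdeal hu1) (memLocalRing_one (M := M) ne_top)
      rwa [sub_add_cancel] at this
    have hun : ¬ MemLocalIdeal M u := by
      intro hc
      have := memLocalIdeal_sub hc hu1
      rw [sub_sub_cancel] at this
      exact not_memLocalIdeal_one this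
    have hdu : (Cfsg.charDegree (ψ : G → ℂ) : ℂ) * u = (m : ℂ) * ((p ^ b : ℕ) : ℂ) := by
      rw [← hsum, hu, Finset.mul_sum, ← hd]
      apply Finset.sum_congr rfl
      intro k _
      field_simp
    by_contra hnd
    obtain ⟨c, d', hd', hdd'⟩ := Nat.exists_eq_pow_mul_and_not_dvd hd0 p hp.ne_one
    have hcb : c < b := by
      by_contra hcb
      push Not at hcb
      apply hnd
      rw [hdd']
      exact Dvd.dvd.mul_right (pow_dvd_pow p hcb) d'
    have hpc : ((p ^ c : ℕ) : ℂ) ≠ 0 := by
      exact_mod_cast (pow_pos hp.pos c).ne'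
    have h5 : (d' : ℂ) * u = (m : ℂ) * ((p ^ (b - c) : ℕ) : ℂ) := by
      have h6 : ((p ^ c : ℕ) : ℂ) * ((d' : ℂ) * u) =
          ((p ^ c : ℕ) : ℂ) * ((m : ℂ) * ((p ^ (b - c) : ℕ) : ℂ)) := by
        have h7 : (Cfsg.charDegree (ψ : G → ℂ) : ℂ) = ((p ^ c : ℕ) : ℂ) * (d' : ℂ) := by
          rw [hdd']
          push_cast
          ring
        have h8 : ((p ^ b : ℕ) : ℂ) = ((p ^ c : ℕ) : ℂ) * ((p ^ (b - c) : ℕ) : ℂ) := by
          rw [← Nat.cast_mul, ← pow_add, Nat.add_sub_cancel' hcb.le]
        rw [← mul_assoc, ← h7, hdu, h8]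
        ring
      exact mul_left_cancel₀ hpc h6
    have h9 : MemLocalIdeal M ((d' : ℂ) * u) := by
      rw [h5]
      apply memLocalIdeal_mul_left (memLocalRing_natCast m)
      rw [memLocalIdeal_natCast_iff hM]
      exact dvd_pow_self p (by omega)
    have h10 : ¬ MemLocalIdeal M (d' : ℂ) := by
      rw [memLocalIdeal_natCast_iff hM]
      exact hd'
    exact not_memLocalIdeal_mul (memLocalRing_natCast d') huR h10 hun h9
  -- the defect
  have hacard : (Nat.card G).factorization p = a := by
    have h1 := P.card_eq_multiplicity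
    rw [ha] at h1
    exact (Nat.pow_right_injective hp.two_le h1).symm
  have hminb : b ≤ minVal p (Cfsg.blockOf M (χ : G → ℂ)) := by
    unfold minVal
    apply le_csInf
    · exact ⟨_, χ, mem_blockOf_self χ, rfl⟩
    · rintro _ ⟨ψ, hψ, rfl⟩
      exact (hp.pow_dvd_iff_le_factorization (charDegree_pos ψ.2).ne').1 (hkey ψ hψ)
  have hdef : Cfsg.blockDefect p (Cfsg.blockOf M (χ : G → ℂ)) ≤ a - b := by
    rw [blockDefect_eq_sub_minVal, hacard]
    omega
  refine ⟨hdef, fun hcomm => ?_⟩
  have hcen : Subgroup.center ↥(P : Subgroup G) = ⊤ := by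
    rw [eq_top_iff]
    intro x _
    rw [Subgroup.mem_center_iff]
    intro g
    exact hcomm.is_comm.comm g x
  rw [hcen, Subgroup.card_top, ha] at hb
  have hab : a = b := Nat.pow_right_injective hp.two_le hb
  omega

end Cfsg.Agent.S4730
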