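import Mathlib
import Cfsg.Statements.S4499
import Cfsg.Agent.Lib.Helper23.BlockHeightZero
import Cfsg.Agent.Lib.Helper23.BlockDefectZero
import Cfsg.Agent.Lib.Helper8.Proj

set_option autoImplicit false
open Cfsg Cfsg.Agent.Helper23.Blk Cfsg.Agent.Helper24 Cfsg.Agent.Helper18
open scoped ComplexConjugate

namespace Cfsg.Agent.S4499


theorem classInner_pReg_pReg {G : Type*} [Group G] [Fintype G] (p : ℕ) (φ ψ : G → ℂ) :
    classInner (pRegularPart p φ) (pRegularPart p ψ) = classInner (pRegularPart p φ) ψ := by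
  classical
  unfold classInner
  congr 1
  refine Finset.sum_congr rfl fun g _ => ?_
  rw [pRegularPart_apply, pRegularPart_apply]
  split_ifs
  · rw [zero_mul, zero_mul]
  · rfl

theorem classInner_sing_sing {G : Type*} [Group G] [Fintype G] (p : ℕ) (φ : G → ℂ) :
    classInner (φ - pRegularPart p φ) (φ - pRegularPart p φ) =
      classInner φ φ - classInner (pRegularPart p φ) φ := by
  classical
  unfold classInner
  rw [← mul_sub, ← Finset.sum_sub_distrib]
  congr 1
  refine Finset.sum_congr rfl fun g _ => ?_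
  rw [Pi.sub_apply, pRegularPart_apply]
  split_ifs
  · rw [sub_zero, zero_mul, sub_zero]
  · rw [sub_self, zero_mul, sub_self]

/-- the inner product `[χ°, χ]`, if an integer, is one, and then `χ` vanishes at the
`p`-singular elements -/
theorem pReg_self_int {G : Type*} [Group G] [Fintype G] {p : ℕ} (hp : p.Prime)
    (χ : IrrCharacter G) {t : ℤ}
    (ht : classInner (pRegularPart p (χ : G → ℂ)) (χ : G → ℂ) = t) :
    t = 1 ∧ ∀ y : G, p ∣ orderOf y → (χ : G → ℂ) y = 0 := by
  classical
  have h1 : classInner (pRegularPart p (χ : G → ℂ)) (pRegularPart p (χ : G → ℂ)) = t := by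
    rw [classInner_pReg_pReg, ht]
  have h2 : classInner ((χ : G → ℂ) - pRegularPart p (χ : G → ℂ))
      ((χ : G → ℂ) - pRegularPart p (χ : G → ℂ)) = ((1 - t : ℤ) : ℂ) := by
    rw [classInner_sing_sing, ht, irr_orthogonality χ.2 χ.2, if_pos rfl]
    push_cast
    ring
  have h3 := Cfsg.Agent.Helper8.classInner_self_re_nonneg (pRegularPart p (χ : G → ℂ))
  rw [h1, Complex.intCast_re] at h3
  have h4 := Cfsg.Agent.Helper8.classInner_self_re_nonneg
    ((χ : G → ℂ) - pRegularPart p (χ : G → ℂ))
  rw [h2, Complex.intCast_re] at h4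
  have h5 : (0 : ℤ) ≤ t := by exact_mod_cast h3
  have h6 : (0 : ℤ) ≤ 1 - t := by exact_mod_cast h4
  have h7 : t ≠ 0 := by
    intro h0
    rw [h0, Int.cast_zero] at h1
    exact pRegularPart_ne_zero p hp χ (classInner_self_eq_zero h1)
  have ht1 : t = 1 := by omega
  refine ⟨ht1, fun y hy => ?_⟩
  rw [ht1] at h2
  have h8 : (χ : G → ℂ) - pRegularPart p (χ : G → ℂ) = 0 := by
    apply classInner_self_eq_zero
    rw [h2]
    simp
  have h9 := congrFun h8 y
  rw [Pi.sub_apply, pRegularPart_of_dvd p _ hy, sub_zero, Pi.zero_apply] at h9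
  exact h9

/-- Let G be a finite group whose order has p-part p^a (a ≥ 1), and fix a maximal ideal M of the algebraic integers containing p. If the degree of one irreducible character of a p-block B is divisible by p^(a−1), then the degree of every irreducible character in B is divisible by p^(a−1) (so B has defect at most 1). -/
theorem result {G : Type*} [Group G] [Finite G] (p : ℕ) [Fact p.Prime] (M : Ideal Cfsg.AlgInt) (hM : Cfsg.IsPModular p M) (hpa : p ∣ Nat.card G) (B : Set (Cfsg.IrrCharacter G)) (hB : Cfsg.IsPBlock M B) (χ : Cfsg.IrrCharacter G) (hχ : χ ∈ B) (hdiv : p ^ ((Nat.card G).factorization p - 1) ∣ Cfsg.charDegree (χ : G → ℂ)) (ψ : Cfsg.IrrCharacter G) (hψ : ψ ∈ B) : p ^ ((Nat.card G).factorization p - 1) ∣ Cfsg.charDegree (ψ : G → ℂ) := by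
  classical
  haveI hMp : M.IsPrime := hM.2.1.isPrime
  letI : Fintype G := Fintype.ofFinite G
  letI : Fintype (IrrCharacter G) := irrFintype
  have hp : p.Prime := hM.1
  set a := (Nat.card G).factorization p with ha
  set e := (charDegree (χ : G → ℂ)).factorization p with he
  have hd0 : charDegree (χ : G → ℂ) ≠ 0 := by
    intro h0'
    have := irr_one_ne_zero χ.2
    rw [irr_one_eq_charDegree χ.2, h0'] at this
    exact this (by simp)
  have hae : a - 1 ≤ e := (hp.pow_dvd_iff_le_factorization hd0).1 hdiv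
  by_cases h0 : blockHeight p B (χ : G → ℂ) = 0
  · have hmin := (blockHeight_eq_zero_iff hχ).1 h0 ψ hψ
    have hψ0 : charDegree (ψ : G → ℂ) ≠ 0 := by
      intro h0'
      have := irr_one_ne_zero ψ.2
      rw [irr_one_eq_charDegree ψ.2, h0'] at this
      exact this (by simp)
    exact (hp.pow_dvd_iff_le_factorization hψ0).2 (hae.trans hmin)
  · -- positive height: `χ` has defect zero
    have hnu : ¬ ∃ ξ ∈ B, ¬ MemLocalIdeal M (omega (ξ : G → ℂ) (conjReg p (χ : G → ℂ))) :=
      fun h => h0 ((height_zero_criterion hM hB hχ).1.2 h)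
    push Not at hnu
    have hJ := hnu χ hχ
    obtain ⟨n, hn, hdχ, -, hform⟩ := exists_int_tilde (p := p) χ χ
    have hJ2 := (heightUnit_iff hM χ χ hform).2 hJ
    rw [irr_one_eq_charDegree χ.2] at hJ2
    have h1 := (not_memLocalIdeal_intCast_div_iff hM hd0 hdχ).not.1 (not_not.2 hJ2)
    push Not at h1
    -- `n = p ^ a * t`
    have hn0 : n ≠ 0 := by
      intro hn0
      rw [hn0, Int.cast_zero, classInner_smul_left] at hn
      rcases mul_eq_zero.1 hn with h | h
      · have : p ^ a ≠ 0 := pow_ne_zero _ hp.ne_zero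
        exact this (by exact_mod_cast h)
      · rw [← classInner_pReg_pReg] at h
        exact pRegularPart_ne_zero p hp χ (classInner_self_eq_zero h)
    have h2 := h1 hn0
    have h3 : e ≤ padicValInt p n := by
      have := (padicValInt_dvd_iff (p := p) _ n).1 (by
        have := hdχ
        push_cast at this ⊢
        exact this)
      rcases this with h | h
      · exact absurd h hn0
      · exact h
    have h4 : a ≤ padicValInt p n := by omega
    have h5 : ((p : ℤ) ^ a) ∣ n := (padicValInt_dvd_iff (p := p) a n).2 (Or.inr h4)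
    obtain ⟨t, ht⟩ := h5
    have hpa0 : ((p ^ a : ℕ) : ℂ) ≠ 0 := by
      have : p ^ a ≠ 0 := pow_ne_zero _ hp.ne_zero
      exact_mod_cast this
    have h6 : classInner (pRegularPart p (χ : G → ℂ)) (χ : G → ℂ) = t := by
      rw [classInner_smul_left, ht] at hn
      push_cast at hn hpa0
      exact mul_left_cancel₀ hpa0 hn
    obtain ⟨-, hv⟩ := pReg_self_int hp χ h6
    have h7 := not_dvd_card_div_degree_of_vanish (p := p) χ.2 hv
    have h8 := (not_dvd_iff_blockOf_eq_singleton hM χ).1 h7
    have h9 : B = blockOf M (χ : G → ℂ) := by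
      obtain ⟨χ₀, rfl⟩ := hB
      exact (blockOf_eq_of_mem hχ).symm
    rw [h9, h8] at hψ
    rw [Set.mem_singleton_iff.1 hψ]
    exact hdiv

end Cfsg.Agent.S4499
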