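import Mathlib
import Cfsg.Statements.S4757
import Cfsg.Agent.Lib.Helper24.CharAbelian
import Cfsg.Agent.Lib.Helper23.CyclicExt
import Cfsg.Agent.Lib.Helper22.PPrimeCore
import Cfsg.Agent.Lib.Helper23.InvolutionInvert

set_option autoImplicit false
open Cfsg

namespace Cfsg.Agent.S4757

open Cfsg.Agent.Helper24 Cfsg.Agent.Helper23
open scoped ComplexConjugate

section

variable {G : Type*} [Group G] [Finite G]

/-- values of a linear character are nonzero -/
theorem linear_ne_zero {lam : G → ℂ} (hl : IsCharacter G lam) (h1 : lam 1 = 1) (g : G) :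
    lam g ≠ 0 := by
  intro h0
  have := char_mul_of_degree_one hl h1 g g⁻¹
  rw [mul_inv_cancel, h1, h0, zero_mul] at this
  exact one_ne_zero this

/-- the first column orthogonality at `u ≠ 1` -/
theorem sum_deg_conj_eq_zero [Fintype (IrrCharacter G)] (u : G) (hu : u ≠ 1) :
    ∑ χ : IrrCharacter G, (χ : G → ℂ) 1 * conj ((χ : G → ℂ) u) = 0 := by
  classical
  haveI : Fintype G := Fintype.ofFinite G
  rw [second_orthogonality]
  have : IsEmpty {y : G // y * u * y⁻¹ = 1} := by
    constructor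
    rintro ⟨y, hy⟩
    apply hu
    have : u = y⁻¹ * (y * u * y⁻¹) * y := by group
    rw [this, hy]; group
  rw [Nat.card_of_isEmpty, Nat.cast_zero]

theorem sum_norm_eq_card_centralizer [Fintype (IrrCharacter G)] (u : G) :
    ∑ χ : IrrCharacter G, (χ : G → ℂ) u * conj ((χ : G → ℂ) u) =
      (Nat.card (Subgroup.centralizer ({u} : Set G)) : ℂ) := by
  classical
  haveI : Fintype G := Fintype.ofFinite G
  rw [second_orthogonality' u u, if_pos (IsConj.refl u)]

end

section Main

variable {G : Type*} [Group G] [Finite G] (u : G) (hu : u ≠ 1) (c : ℂ)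
  (hyp : ∀ χ : Cfsg.IrrCharacter G, (χ : G → ℂ) ≠ (fun _ => (1 : ℂ)) →
    ((χ : G → ℂ) 1 - (χ : G → ℂ) u = c ∨ (χ : G → ℂ) u = 0))

include hu hyp

/-- `c ≠ 0`. -/
theorem c_ne_zero : c ≠ 0 := by
  classical
  haveI : Fintype G := Fintype.ofFinite G
  letI : Fintype (IrrCharacter G) := irrFintype
  intro hc
  have h0 := sum_deg_conj_eq_zero u hu
  have hre : ∑ χ : IrrCharacter G, ((χ : G → ℂ) 1 * conj ((χ : G → ℂ) u)).re = 0 := by
    rw [← Complex.re_sum, h0, Complex.zero_re]
  have hnonneg : ∀ χ ∈ (Finset.univ : Finset (IrrCharacter G)),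
      0 ≤ ((χ : G → ℂ) 1 * conj ((χ : G → ℂ) u)).re := by
    intro χ _
    by_cases hχ : (χ : G → ℂ) = fun _ => (1 : ℂ)
    · rw [hχ]; simp
    · rcases hyp χ hχ with h | h
      · rw [hc, sub_eq_zero] at h
        rw [← h, irr_one_eq_charDegree χ.2]
        simp only [Complex.conj_natCast, ← Nat.cast_mul, Complex.natCast_re]
        positivity
      · rw [h]; simp
  have hall := (Finset.sum_eq_zero_iff_of_nonneg hnonneg).mp hre (principalChar G) (Finset.mem_univ _)
  simp [principalChar] at hall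

/-- A nonprincipal linear character takes value `-1` at `u`, has square one, and `c = 2`. -/
theorem linear_props (lam : IrrCharacter G) (h1 : (lam : G → ℂ) 1 = 1)
    (hne : (lam : G → ℂ) ≠ fun _ => (1 : ℂ)) :
    (lam : G → ℂ) u = -1 ∧ c = 2 ∧ ∀ g : G, (lam : G → ℂ) g * (lam : G → ℂ) g = 1 := by
  haveI : Fintype G := Fintype.ofFinite G
  letI : Fintype (IrrCharacter G) := irrFintype
  have hc0 := c_ne_zero u hu c hyp
  have hlc : IsCharacter G (lam : G → ℂ) := isCharacter_of_isIrrCharacter lam.2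
  have hlu : (lam : G → ℂ) u ≠ 0 := linear_ne_zero hlc h1 u
  have hc1 : 1 - (lam : G → ℂ) u = c := by
    rcases hyp lam hne with h | h
    · rwa [h1] at h
    · exact absurd h hlu
  -- the square of lam
  have hsq_irr : IsIrrCharacter G ((lam : G → ℂ) * (lam : G → ℂ)) :=
    isIrrCharacter_mul_linear lam.2 hlc h1
  have hsq : ((lam : G → ℂ) * (lam : G → ℂ)) = fun _ => (1 : ℂ) := by
    by_contra hne2
    rcases hyp ⟨_, hsq_irr⟩ hne2 with h | h
    · simp only [Pi.mul_apply, h1, mul_one] at h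
      have h2 : (lam : G → ℂ) u * ((lam : G → ℂ) u - 1) = 0 := by
        have : (lam : G → ℂ) u * (lam : G → ℂ) u = (lam : G → ℂ) u := by
          have := h.trans hc1.symm
          linear_combination -this
        linear_combination this
      rcases mul_eq_zero.mp h2 with h3 | h3
      · exact hlu h3
      · apply hc0
        rw [← hc1]
        linear_combination -h3
    · simp only [Pi.mul_apply] at h
      exact hlu (mul_self_eq_zero.mp h)
  have hsq' : ∀ g : G, (lam : G → ℂ) g * (lam : G → ℂ) g = 1 := fun g => congrFun hsq g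
  have hu2 := hsq' u
  have hu3 : ((lam : G → ℂ) u - 1) * ((lam : G → ℂ) u + 1) = 0 := by
    linear_combination hu2
  have hneg : (lam : G → ℂ) u = -1 := by
    rcases mul_eq_zero.mp hu3 with h3 | h3
    · exfalso
      apply hc0
      rw [← hc1]
      linear_combination -h3
    · linear_combination h3
  refine ⟨hneg, ?_, hsq'⟩
  rw [← hc1, hneg]; norm_num

/-- Two nonprincipal linear characters coincide. -/
theorem linear_unique (lam mu : IrrCharacter G) (h1 : (lam : G → ℂ) 1 = 1)
    (hne : (lam : G → ℂ) ≠ fun _ => (1 : ℂ)) (h1' : (mu : G → ℂ) 1 = 1)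
    (hne' : (mu : G → ℂ) ≠ fun _ => (1 : ℂ)) : mu = lam := by
  haveI : Fintype G := Fintype.ofFinite G
  letI : Fintype (IrrCharacter G) := irrFintype
  have hc0 := c_ne_zero u hu c hyp
  obtain ⟨hlu, -, hlsq⟩ := linear_props u hu c hyp lam h1 hne
  obtain ⟨hmu, -, -⟩ := linear_props u hu c hyp mu h1' hne'
  have hmc : IsCharacter G (mu : G → ℂ) := isCharacter_of_isIrrCharacter mu.2
  have hlc : IsCharacter G (lam : G → ℂ) := isCharacter_of_isIrrCharacter lam.2
  have hprod_irr : IsIrrCharacter G ((lam : G → ℂ) * (mu : G → ℂ)) :=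
    isIrrCharacter_mul_linear lam.2 hmc h1'
  have hprod : ((lam : G → ℂ) * (mu : G → ℂ)) = fun _ => (1 : ℂ) := by
    by_contra hne2
    rcases hyp ⟨_, hprod_irr⟩ hne2 with h | h
    · simp only [Pi.mul_apply, h1, h1', hlu, hmu] at h
      apply hc0
      rw [← h]; norm_num
    · simp only [Pi.mul_apply, hlu, hmu] at h
      norm_num at h
  apply Subtype.ext
  funext g
  have h2 : (lam : G → ℂ) g * (mu : G → ℂ) g = 1 := congrFun hprod g
  have h3 := hlsq g
  have h4 : (lam : G → ℂ) g ≠ 0 := linear_ne_zero hlc h1 g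
  apply mul_left_cancel₀ h4
  rw [h2, h3]

end Main

section Exist

variable {G : Type*} [Group G] [Finite G]

theorem exists_linear_of_not_perfect (h : commutator G ≠ ⊤) :
    ∃ lam : IrrCharacter G, (lam : G → ℂ) 1 = 1 ∧ (lam : G → ℂ) ≠ fun _ => (1 : ℂ) := by
  have hcard := card_linear_characters (G := G)
  have hidx : 1 < (commutator G).index := by
    have h1 : (commutator G).index ≠ 1 := fun h1 => h (Subgroup.index_eq_one.mp h1)
    have h0 : (commutator G).index ≠ 0 := Subgroup.index_ne_zero_of_finite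
    omega
  rw [← hcard] at hidx
  haveI : Finite {χ : IrrCharacter G // (χ : G → ℂ) 1 = 1} :=
    Nat.finite_of_card_ne_zero (by omega)
  obtain ⟨a, b, hab⟩ := (Finite.one_lt_card_iff_nontrivial.mp hidx).exists_pair_ne
  by_cases ha : (a.1 : G → ℂ) = fun _ => (1 : ℂ)
  · refine ⟨b.1, b.2, ?_⟩
    intro hb
    apply hab
    apply Subtype.ext; apply Subtype.ext; rw [ha, hb]
  · exact ⟨a.1, a.2, ha⟩

theorem linear_eq_one_of_perfect (h : commutator G = ⊤) (lam : IrrCharacter G)
    (h1 : (lam : G → ℂ) 1 = 1) : (lam : G → ℂ) = fun _ => (1 : ℂ) := by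
  have hcard := card_linear_characters (G := G)
  rw [h, Subgroup.index_top] at hcard
  have hsub : Subsingleton {χ : IrrCharacter G // (χ : G → ℂ) 1 = 1} :=
    (Nat.card_eq_one_iff_unique.mp hcard).1
  have := Subsingleton.elim (⟨lam, h1⟩ : {χ : IrrCharacter G // (χ : G → ℂ) 1 = 1})
    ⟨principalChar G, rfl⟩
  have h2 : lam = principalChar G := congrArg Subtype.val this
  rw [h2]; rfl

/-- real part of the orthogonality term when `χ 1 - χ u = 2` -/
theorem term_re (χ : IrrCharacter G) (u : G) (h : (χ : G → ℂ) 1 - (χ : G → ℂ) u = 2) :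
    ((χ : G → ℂ) 1 * conj ((χ : G → ℂ) u)).re =
      (charDegree (χ : G → ℂ) : ℝ) * ((charDegree (χ : G → ℂ) : ℝ) - 2) ∧
    ((charDegree (χ : G → ℂ) : ℝ) = 2 → (χ : G → ℂ) u = 0) := by
  haveI : Fintype G := Fintype.ofFinite G
  have hd := irr_one_eq_charDegree χ.2
  have hu : (χ : G → ℂ) u = (charDegree (χ : G → ℂ) : ℂ) - 2 := by
    rw [← hd]; linear_combination -h
  constructor
  · rw [hu, hd]
    simp
  · intro h2
    rw [hu]
    have : (charDegree (χ : G → ℂ) : ℂ) = 2 := by exact_mod_cast h2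
    rw [this]; ring

end Exist

section Final

variable {G : Type*} [Group G] [Finite G] (u : G) (hu : u ≠ 1) (c : ℂ)
  (hyp : ∀ χ : Cfsg.IrrCharacter G, (χ : G → ℂ) ≠ (fun _ => (1 : ℂ)) →
    ((χ : G → ℂ) 1 - (χ : G → ℂ) u = c ∨ (χ : G → ℂ) u = 0))

include hu hyp

/-- (c) ⇒ (b) -/
theorem not_perfect_of_c_eq_two (hc : c = 2) : commutator G ≠ ⊤ := by
  classical
  haveI : Fintype G := Fintype.ofFinite G
  letI : Fintype (IrrCharacter G) := irrFintype
  intro hperf
  have h0 := sum_deg_conj_eq_zero u hu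
  have hre : ∑ χ : IrrCharacter G, ((χ : G → ℂ) 1 * conj ((χ : G → ℂ) u)).re = 0 := by
    rw [← Complex.re_sum, h0, Complex.zero_re]
  have hnonneg : ∀ χ ∈ (Finset.univ : Finset (IrrCharacter G)),
      0 ≤ ((χ : G → ℂ) 1 * conj ((χ : G → ℂ) u)).re := by
    intro χ _
    by_cases hχ : (χ : G → ℂ) = fun _ => (1 : ℂ)
    · rw [hχ]; simp
    · have hd2 : 2 ≤ charDegree (χ : G → ℂ) := by
        have hpos := charDegree_pos χ.2
        by_contra hlt
        have h1 : charDegree (χ : G → ℂ) = 1 := by omega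
        have h1' : (χ : G → ℂ) 1 = 1 := (charDegree_eq_one_iff χ.2).mp h1
        exact hχ (linear_eq_one_of_perfect hperf χ h1')
      rcases hyp χ hχ with h | h
      · rw [hc] at h
        rw [(term_re χ u h).1]
        have : (2 : ℝ) ≤ (charDegree (χ : G → ℂ) : ℝ) := by exact_mod_cast hd2
        nlinarith
      · rw [h]; simp
  have hall := (Finset.sum_eq_zero_iff_of_nonneg hnonneg).mp hre (principalChar G) (Finset.mem_univ _)
  simp [principalChar] at hall

/-- (b) ⇒ all characters other than the principal one and the sign vanish at `u`,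
and the centralizer of `u` has order two. -/
theorem card_centralizer_eq_two (lam : IrrCharacter G) (h1 : (lam : G → ℂ) 1 = 1)
    (hne : (lam : G → ℂ) ≠ fun _ => (1 : ℂ)) :
    Nat.card (Subgroup.centralizer ({u} : Set G)) = 2 := by
  classical
  haveI : Fintype G := Fintype.ofFinite G
  letI : Fintype (IrrCharacter G) := irrFintype
  obtain ⟨hlu, hc, hlsq⟩ := linear_props u hu c hyp lam h1 hne
  set T : IrrCharacter G := principalChar G with hT
  have hlT : lam ≠ T := by
    intro h; apply hne; rw [h]; rfl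
  have hTval : ∀ g, (T : G → ℂ) g = 1 := fun g => rfl
  set rest : Finset (IrrCharacter G) := (Finset.univ.erase T).erase lam with hrest
  have hmem_rest : ∀ χ ∈ rest, χ ≠ lam ∧ χ ≠ T := by
    intro χ hχ
    rw [hrest, Finset.mem_erase, Finset.mem_erase] at hχ
    exact ⟨hχ.1, hχ.2.1⟩
  have hsplit : ∀ f : IrrCharacter G → ℂ,
      ∑ χ, f χ = f T + f lam + ∑ χ ∈ rest, f χ := by
    intro f
    rw [← Finset.add_sum_erase Finset.univ f (Finset.mem_univ T),
      ← Finset.add_sum_erase (Finset.univ.erase T) f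
        (Finset.mem_erase.mpr ⟨hlT, Finset.mem_univ _⟩), add_assoc]
  -- first orthogonality
  have h0 := sum_deg_conj_eq_zero u hu
  rw [hsplit] at h0
  simp only [hTval, h1, hlu, map_one, map_neg, mul_one, mul_neg] at h0
  have hrest0 : ∑ χ ∈ rest, (χ : G → ℂ) 1 * conj ((χ : G → ℂ) u) = 0 := by
    linear_combination h0
  have hre : ∑ χ ∈ rest, ((χ : G → ℂ) 1 * conj ((χ : G → ℂ) u)).re = 0 := by
    rw [← Complex.re_sum, hrest0, Complex.zero_re]
  have hdeg : ∀ χ ∈ rest, 2 ≤ charDegree (χ : G → ℂ) := by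
    intro χ hχ
    obtain ⟨hχl, hχT⟩ := hmem_rest χ hχ
    have hpos := charDegree_pos χ.2
    by_contra hlt
    have hd1 : charDegree (χ : G → ℂ) = 1 := by omega
    have hd1' : (χ : G → ℂ) 1 = 1 := (charDegree_eq_one_iff χ.2).mp hd1
    have hχne : (χ : G → ℂ) ≠ fun _ => (1 : ℂ) := by
      intro h; apply hχT; apply Subtype.ext; rw [h]; rfl
    exact hχl (linear_unique u hu c hyp lam χ h1 hne hd1' hχne)
  have hnonneg : ∀ χ ∈ rest, 0 ≤ ((χ : G → ℂ) 1 * conj ((χ : G → ℂ) u)).re := by
    intro χ hχ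
    obtain ⟨hχl, hχT⟩ := hmem_rest χ hχ
    have hχne : (χ : G → ℂ) ≠ fun _ => (1 : ℂ) := by
      intro h; apply hχT; apply Subtype.ext; rw [h]; rfl
    rcases hyp χ hχne with h | h
    · rw [hc] at h
      rw [(term_re χ u h).1]
      have : (2 : ℝ) ≤ (charDegree (χ : G → ℂ) : ℝ) := by exact_mod_cast hdeg χ hχ
      nlinarith
    · rw [h]; simp
  have hvanish : ∀ χ ∈ rest, (χ : G → ℂ) u = 0 := by
    intro χ hχ
    obtain ⟨hχl, hχT⟩ := hmem_rest χ hχ
    have hχne : (χ : G → ℂ) ≠ fun _ => (1 : ℂ) := by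
      intro h; apply hχT; apply Subtype.ext; rw [h]; rfl
    have hz := (Finset.sum_eq_zero_iff_of_nonneg hnonneg).mp hre χ hχ
    rcases hyp χ hχne with h | h
    · rw [hc] at h
      rw [(term_re χ u h).1] at hz
      have h2 : (2 : ℝ) ≤ (charDegree (χ : G → ℂ) : ℝ) := by exact_mod_cast hdeg χ hχ
      have hpos : (0 : ℝ) < (charDegree (χ : G → ℂ) : ℝ) := by linarith
      have : (charDegree (χ : G → ℂ) : ℝ) - 2 = 0 := by
        rcases mul_eq_zero.mp hz with h3 | h3
        · linarith
        · exact h3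
      exact (term_re χ u h).2 (by linarith)
    · exact h
  -- second orthogonality
  have h2 := sum_norm_eq_card_centralizer u
  rw [hsplit] at h2
  have hrest2 : ∑ χ ∈ rest, (χ : G → ℂ) u * conj ((χ : G → ℂ) u) = 0 := by
    apply Finset.sum_eq_zero
    intro χ hχ
    rw [hvanish χ hχ, zero_mul]
  rw [hrest2] at h2
  simp only [hTval, hlu, map_one, map_neg, mul_one, mul_neg, neg_neg, add_zero] at h2
  have : ((2 : ℕ) : ℂ) = (Nat.card (Subgroup.centralizer ({u} : Set G)) : ℂ) := by
    rw [← h2]; norm_num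
  exact (Nat.cast_injective this).symm

end Final

section GroupPart

variable {G : Type*} [Group G] [Finite G]

theorem not_perfect_of_a (u : G) (ho : orderOf u = 2)
    (hsup : Subgroup.zpowers u ⊔ oddCore G = ⊤) : commutator G ≠ ⊤ := by
  intro hperf
  haveI : (oddCore G).Normal := Helper22.pPrimeCore_normal 2
  have hle : commutator G ≤ oddCore G := by
    apply commutator_le_of_sup_zpowers (oddCore G) (oddCore G) u (by rw [sup_comm]; exact hsup)
    · exact Subgroup.commutator_le_right _ _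
    · intro n hn
      rw [commutatorElement_def]
      exact (oddCore G).mul_mem (Subgroup.Normal.conj_mem inferInstance n hn u)
        ((oddCore G).inv_mem hn)
  rw [hperf, top_le_iff] at hle
  have hcop := Helper22.card_pPrimeCore_coprime (G := G) 2
  rw [show pPrimeCore 2 G = ⊤ from hle, Subgroup.card_top] at hcop
  have h2 : 2 ∣ Nat.card G := ho ▸ orderOf_dvd_natCard u
  have h3 : 2 ∣ Nat.gcd (Nat.card G) 2 := Nat.dvd_gcd h2 dvd_rfl
  rw [hcop] at h3
  norm_num at h3

theorem a_of_props (u : G) (hu : u ≠ 1) (lam : IrrCharacter G) (h1 : (lam : G → ℂ) 1 = 1)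
    (hlu : (lam : G → ℂ) u = -1) (hlsq : ∀ g : G, (lam : G → ℂ) g * (lam : G → ℂ) g = 1)
    (hcard : Nat.card (Subgroup.centralizer ({u} : Set G)) = 2) :
    orderOf u = 2 ∧ Subgroup.zpowers u ⊔ oddCore G = ⊤ ∧
      Subgroup.centralizer ({u} : Set G) = Subgroup.zpowers u := by
  haveI : Fintype G := Fintype.ofFinite G
  have hzle : Subgroup.zpowers u ≤ Subgroup.centralizer ({u} : Set G) := by
    rw [Subgroup.zpowers_le]; exact Subgroup.mem_centralizer_singleton_iff.mpr rfl
  have hdvd : orderOf u ∣ 2 := by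
    rw [← Nat.card_zpowers, ← hcard]; exact Subgroup.card_dvd_of_le hzle
  have ho : orderOf u = 2 := by
    rcases (Nat.dvd_prime Nat.prime_two).mp hdvd with h | h
    · exact absurd (orderOf_eq_one_iff.mp h) hu
    · exact h
  have hceq : Subgroup.centralizer ({u} : Set G) = Subgroup.zpowers u := by
    symm
    apply Subgroup.eq_of_le_of_card_ge hzle
    rw [hcard, Nat.card_zpowers, ho]
  refine ⟨ho, ?_, hceq⟩
  have hlc : IsCharacter G (lam : G → ℂ) := isCharacter_of_isIrrCharacter lam.2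
  have hmul : ∀ a b : G, (lam : G → ℂ) (a * b) = (lam : G → ℂ) a * (lam : G → ℂ) b :=
    char_mul_of_degree_one hlc h1
  obtain ⟨f, hf⟩ : ∃ f : G →* ℂˣ, ∀ g, ((f g : ℂˣ) : ℂ) = (lam : G → ℂ) g :=
    ⟨linHom hlc h1, fun g => rfl⟩
  obtain ⟨K, hKdef⟩ : ∃ K : Subgroup G, K = f.ker := ⟨_, rfl⟩
  haveI hKn : K.Normal := by rw [hKdef]; infer_instance
  have hKmem : ∀ g, g ∈ K ↔ (lam : G → ℂ) g = 1 := by
    intro g
    rw [hKdef, MonoidHom.mem_ker, ← Units.val_inj, hf, Units.val_one]
  have huK : u ∉ K := by rw [hKmem, hlu]; norm_num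
  have huu : u * u = 1 := by rw [← pow_two, ← ho]; exact pow_orderOf_eq_one u
  have hzpow : ∀ n : ℤ, (lam : G → ℂ) (u ^ n) = (-1) ^ n := by
    intro n
    have : ((f (u ^ n) : ℂˣ) : ℂ) = ((f u : ℂˣ) : ℂ) ^ n := by
      rw [map_zpow, Units.val_zpow_eq_zpow_val]
    rw [hf, hf, hlu] at this
    exact this
  have hfree : ∀ k ∈ K, u * k * u⁻¹ = k → k = 1 := by
    intro k hk hfix
    have hkc : k ∈ Subgroup.centralizer ({u} : Set G) := by
      rw [Subgroup.mem_centralizer_singleton_iff]
      calc k * u = (u * k * u⁻¹) * u := by rw [hfix]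
        _ = u * k := by group
    rw [hceq] at hkc
    obtain ⟨n, rfl⟩ := Subgroup.mem_zpowers_iff.mp hkc
    rcases Int.even_or_odd n with ⟨m, rfl⟩ | ⟨m, rfl⟩
    · rw [← two_mul, zpow_mul, zpow_two, huu, one_zpow]
    · exfalso
      have := (hKmem _).mp hk
      rw [hzpow, Odd.neg_one_zpow ⟨m, rfl⟩] at this
      norm_num at this
  have hinv := inverts_of_fixed_point_free u huu K
    (fun k hk => Subgroup.Normal.conj_mem inferInstance k hk u) hfree
  have hKodd : (Nat.card K).Coprime 2 := by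
    rw [Nat.coprime_comm, Nat.Prime.coprime_iff_not_dvd Nat.prime_two]
    intro h2
    haveI : Fact (Nat.Prime 2) := ⟨Nat.prime_two⟩
    obtain ⟨t, ht⟩ := exists_prime_orderOf_dvd_card' 2 h2
    have htt : (t : G) * (t : G) = 1 := by
      have : t ^ 2 = 1 := by rw [← ht]; exact pow_orderOf_eq_one t
      have := congrArg Subtype.val this
      simpa [pow_two] using this
    have htinv : (t : G)⁻¹ = (t : G) := inv_eq_of_mul_eq_one_right htt
    have h3 := hinv (t : G) t.2
    rw [htinv] at h3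
    have h4 := hfree (t : G) t.2 h3
    have h5 : t = 1 := Subtype.ext h4
    rw [h5, orderOf_one] at ht
    norm_num at ht
  have hKle : K ≤ oddCore G := Helper22.le_pPrimeCore 2 K hKn hKodd
  rw [eq_top_iff]
  intro g _
  have hg2 := hlsq g
  have hg3 : ((lam : G → ℂ) g - 1) * ((lam : G → ℂ) g + 1) = 0 := by linear_combination hg2
  rcases mul_eq_zero.mp hg3 with h3 | h3
  · have : g ∈ K := (hKmem g).mpr (by linear_combination h3)
    exact Subgroup.mem_sup_right (hKle this)
  · have hug : u * g ∈ K := by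
      rw [hKmem, hmul, hlu]
      linear_combination -h3
    have : g = u⁻¹ * (u * g) := by group
    rw [this]
    exact Subgroup.mul_mem_sup (Subgroup.inv_mem _ (Subgroup.mem_zpowers u)) (hKle hug)

end GroupPart

/-- Let u ≠ 1 be an element of the finite group G and c a complex number such that every non-principal irreducible character χ satisfies χ(1) − χ(u) = c or χ(u) = 0. Then the following are equivalent: (a) u has order 2, G is generated by u together with O(G), the largest normal subgroup of G of odd order, and the centralizer of u is {1, u}; (b) G is not perfect; (c) c = 2. -/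
theorem result {G : Type*} [Group G] [Finite G] (u : G) (hu : u ≠ 1) (c : ℂ) (hyp : ∀ χ : Cfsg.IrrCharacter G, (χ : G → ℂ) ≠ (fun _ => (1 : ℂ)) → ((χ : G → ℂ) 1 - (χ : G → ℂ) u = c ∨ (χ : G → ℂ) u = 0)) : ((orderOf u = 2 ∧ Subgroup.zpowers u ⊔ Cfsg.oddCore G = ⊤ ∧ Subgroup.centralizer ({u} : Set G) = Subgroup.zpowers u) ↔ commutator G ≠ ⊤) ∧ (commutator G ≠ ⊤ ↔ c = 2) := by
  refine ⟨⟨?_, ?_⟩, ⟨?_, ?_⟩⟩
  · rintro ⟨ho, hsup, -⟩
    exact not_perfect_of_a u ho hsup
  · intro hb
    obtain ⟨lam, h1, hne⟩ := exists_linear_of_not_perfect hb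
    obtain ⟨hlu, -, hlsq⟩ := linear_props u hu c hyp lam h1 hne
    exact a_of_props u hu lam h1 hlu hlsq (card_centralizer_eq_two u hu c hyp lam h1 hne)
  · intro hb
    obtain ⟨lam, h1, hne⟩ := exists_linear_of_not_perfect hb
    exact (linear_props u hu c hyp lam h1 hne).2.1
  · exact not_perfect_of_c_eq_two u hu c hyp

end Cfsg.Agent.S4757
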