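import Mathlib
import Cfsg.Statements.S4500
import Cfsg.Agent.S0925
import Cfsg.Agent.S4499
import Cfsg.Agent.S4757
import Cfsg.Agent.S0144
import Cfsg.Agent.Lib.Helper23.BlockDefectZero
import Cfsg.Agent.Lib.Helper24.GlaubPGroup

set_option autoImplicit false
open Cfsg

namespace Cfsg.Agent.S4500

open Cfsg.Agent.Helper24 Cfsg.Agent.Helper23 Cfsg.Agent.Helper23.Blk
open scoped ComplexConjugate

/-- no algebraic integer `α` satisfies `1 + r α = 0` for a prime `r` -/
theorem no_int (r : ℕ) (hr : r.Prime) (α : ℂ) (hα : IsIntegral ℤ α)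
    (h : 1 + (r : ℂ) * α = 0) : False := by
  have hr0 : (r : ℂ) ≠ 0 := by exact_mod_cast hr.ne_zero
  have h3 : α = algebraMap ℚ ℂ (-(1 : ℚ) / (r : ℚ)) := by
    have h' : α = -1 / (r : ℂ) := by
      field_simp
      linear_combination h
    rw [h']
    simp
  rw [h3, isIntegral_algebraMap_iff (algebraMap ℚ ℂ).injective] at hα
  obtain ⟨m, hm⟩ := IsIntegrallyClosed.isIntegral_iff.mp hα
  have hr0' : (r : ℚ) ≠ 0 := by exact_mod_cast hr.ne_zero
  have h4 : (m : ℚ) * r = -1 := by
    have : (algebraMap ℤ ℚ m) = (m : ℚ) := rfl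
    rw [this] at hm
    rw [hm]
    field_simp
  have h5 : m * (r : ℤ) = -1 := by exact_mod_cast h4
  have h6 : (r : ℤ) ∣ 1 := ⟨-m, by rw [mul_neg, mul_comm, h5]; ring⟩
  have h7 : r ∣ 1 := by exact_mod_cast h6
  exact hr.one_lt.ne' (Nat.dvd_one.mp h7)

theorem exists_qpow {G : Type*} [Group G] [Finite G] [Nontrivial G] (p q r a b c : ℕ)
    (hp : p.Prime) (hq : q.Prime) (hr : r.Prime) (hpq : p ≠ q) (hpr : p ≠ r) (hqr : q ≠ r)
    (ha : a ≤ 2) (hG : Nat.card G = p ^ a * q ^ b * r ^ c) :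
    ∃ χ : Cfsg.IrrCharacter G, (χ : G → ℂ) ≠ (fun _ => 1) ∧
      ∃ k : ℕ, Cfsg.charDegree (χ : G → ℂ) = q ^ k := by
  classical
  haveI : Fintype G := Fintype.ofFinite G
  by_cases hperf : commutator G = ⊤
  swap
  · obtain ⟨lam, h1, hne⟩ := Cfsg.Agent.S4757.exists_linear_of_not_perfect hperf
    refine ⟨lam, hne, 0, ?_⟩
    have hd := irr_one_eq_charDegree lam.2
    rw [h1] at hd
    have : ((charDegree (lam : G → ℂ) : ℕ) : ℂ) = ((1 : ℕ) : ℂ) := by
      rw [← hd]; simp
    rw [pow_zero]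
    exact_mod_cast this
  -- the perfect case
  by_contra hno
  push_neg at hno
  haveI : Fact p.Prime := ⟨hp⟩
  -- G is not solvable
  have hns : ¬ Group.IsSolvable G := by
    intro hs
    haveI := hs
    have := IsSolvable.commutator_lt_top_of_nontrivial G
    exact this.ne hperf
  have ha0 : a ≠ 0 := by
    intro h0
    apply hns
    rw [h0, pow_zero, one_mul] at hG
    exact Cfsg.Agent.S0144.result q r b c hq hr hG
  have hpdvd : p ∣ Nat.card G := by
    rw [hG]
    exact Dvd.dvd.mul_right (Dvd.dvd.mul_right (dvd_pow_self p ha0) _) _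
  have hpq' : ¬ p ∣ q := fun h => hpq ((Nat.prime_dvd_prime_iff_eq hp hq).mp h)
  have hpr' : ¬ p ∣ r := fun h => hpr ((Nat.prime_dvd_prime_iff_eq hp hr).mp h)
  have hcard0 : Nat.card G ≠ 0 := Nat.card_pos.ne'
  have hfac : (Nat.card G).factorization p = a := by
    rw [hG]
    have h1 : p ^ a ≠ 0 := pow_ne_zero _ hp.ne_zero
    have h2 : q ^ b ≠ 0 := pow_ne_zero _ hq.ne_zero
    have h3 : r ^ c ≠ 0 := pow_ne_zero _ hr.ne_zero
    rw [Nat.factorization_mul (mul_ne_zero h1 h2) h3, Nat.factorization_mul h1 h2]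
    simp only [Finsupp.coe_add, Pi.add_apply, Nat.factorization_pow, Finsupp.coe_smul,
      Pi.smul_apply, smul_eq_mul]
    rw [hp.factorization_self, Nat.factorization_eq_zero_of_not_dvd hpq',
      Nat.factorization_eq_zero_of_not_dvd hpr']
    ring
  obtain ⟨M, hM⟩ := Cfsg.Agent.Helper24.Glaub.exists_isPModular hp
  haveI hMp : M.IsPrime := hM.2.1.isPrime
  set one : IrrCharacter G := principalChar G with hone
  set B₀ : Set (IrrCharacter G) := blockOf M (one : G → ℂ) with hB₀
  have hB : IsPBlock M B₀ := ⟨one, rfl⟩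
  have hone_mem : one ∈ B₀ := mem_blockOf_self one
  have hdeg_one : charDegree (one : G → ℂ) = 1 := by
    have hd := irr_one_eq_charDegree one.2
    have h1 : (one : G → ℂ) 1 = 1 := rfl
    rw [h1] at hd
    have : ((charDegree (one : G → ℂ) : ℕ) : ℂ) = ((1 : ℕ) : ℂ) := by
      rw [← hd]; simp
    exact_mod_cast this
  -- characters of the principal block have degree prime to p
  have hclaim : ∀ χ ∈ B₀, ¬ p ∣ charDegree (χ : G → ℂ) := by
    intro χ hχ hdvd
    have hd := charDegree_dvd_card χ.2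
    have ha12 : a = 1 ∨ a = 2 := by omega
    rcases ha12 with h1 | h2
    · -- defect zero
      have hnd : ¬ p ∣ Nat.card G / charDegree (χ : G → ℂ) := by
        intro h
        have h2 : p * p ∣ Nat.card G / charDegree (χ : G → ℂ) * charDegree (χ : G → ℂ) :=
          mul_dvd_mul h hdvd
        rw [Nat.div_mul_cancel hd, ← pow_two] at h2
        have := (Nat.Prime.pow_dvd_iff_le_factorization hp hcard0).mp h2
        omega
      have hs := (not_dvd_iff_blockOf_eq_singleton hM χ).mp hnd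
      have hb : blockOf M (χ : G → ℂ) = B₀ := blockOf_eq_of_mem hχ
      rw [hb] at hs
      have : one ∈ ({χ} : Set (IrrCharacter G)) := by rw [← hs]; exact hone_mem
      rw [Set.mem_singleton_iff] at this
      rw [← this, hdeg_one] at hdvd
      exact hp.one_lt.ne' (Nat.dvd_one.mp hdvd)
    · have hdiv : p ^ ((Nat.card G).factorization p - 1) ∣ charDegree (χ : G → ℂ) := by
        rw [hfac, h2]
        simpa using hdvd
      have := Cfsg.Agent.S4499.result p M hM hpdvd B₀ hB χ hχ hdiv one hone_mem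
      rw [hfac, h2, hdeg_one] at this
      have h3 : p ∣ 1 := by simpa using this
      exact hp.one_lt.ne' (Nat.dvd_one.mp h3)
  -- nonprincipal characters of the principal block have degree divisible by r
  have hr_dvd : ∀ χ ∈ B₀, χ ≠ one → r ∣ charDegree (χ : G → ℂ) := by
    intro χ hχ hne
    by_contra hrd
    have hne' : (χ : G → ℂ) ≠ fun _ => (1 : ℂ) := by
      intro h
      apply hne
      apply Subtype.ext
      rw [h]
      rfl
    have hd := charDegree_dvd_card χ.2
    rw [hG] at hd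
    have hc1 : Nat.Coprime (charDegree (χ : G → ℂ)) (r ^ c) :=
      Nat.Coprime.pow_right c ((Nat.Prime.coprime_iff_not_dvd hr).mpr hrd).symm
    have hc2 : Nat.Coprime (charDegree (χ : G → ℂ)) (p ^ a) :=
      Nat.Coprime.pow_right a ((Nat.Prime.coprime_iff_not_dvd hp).mpr (hclaim χ hχ)).symm
    have hd1 : charDegree (χ : G → ℂ) ∣ p ^ a * q ^ b := hc1.dvd_of_dvd_mul_right hd
    have hd2 : charDegree (χ : G → ℂ) ∣ q ^ b := hc2.dvd_of_dvd_mul_left hd1
    obtain ⟨k, -, hk⟩ := (Nat.dvd_prime_pow hq).mp hd2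
    exact hno χ hne' k hk
  -- block orthogonality
  obtain ⟨x, hx⟩ := exists_prime_orderOf_dvd_card' p hpdvd
  have hx1 : x ≠ 1 := by
    intro h
    rw [h, orderOf_one] at hx
    exact hp.one_lt.ne hx
  have hP1 : IsPPart p (1 : G) 1 :=
    ⟨1, mul_one 1, Commute.one_right 1, ⟨0, by rw [orderOf_one, pow_zero]⟩, by
      rw [orderOf_one]; exact fun h => hp.one_lt.ne' (Nat.dvd_one.mp h)⟩
  have hPx : IsPPart p x x :=
    ⟨1, mul_one x, Commute.one_right x, ⟨1, by rw [hx, pow_one]⟩, by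
      rw [orderOf_one]; exact fun h => hp.one_lt.ne' (Nat.dvd_one.mp h)⟩
  have hnc : ¬ IsConj (1 : G) x := by
    rw [isConj_one_right]
    exact hx1
  have horth := (Cfsg.Agent.S0925.result p M hM).2 1 x 1 x hP1 hPx hnc B₀ hB
  letI : Fintype (IrrCharacter G) := irrFintype
  rw [finsum_mem_eq_finite_toFinset_sum _ (Set.toFinite B₀)] at horth
  have hmem : one ∈ (Set.toFinite B₀).toFinset := by
    rw [Set.Finite.mem_toFinset]; exact hone_mem
  rw [← Finset.add_sum_erase _ _ hmem] at horth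
  have h11 : (one : G → ℂ) 1 * (one : G → ℂ) x⁻¹ = 1 := by
    show (1 : ℂ) * 1 = 1
    ring
  rw [h11] at horth
  have hsum : ∑ χ ∈ (Set.toFinite B₀).toFinset.erase one, (χ : G → ℂ) 1 * (χ : G → ℂ) x⁻¹
      = (r : ℂ) * ∑ χ ∈ (Set.toFinite B₀).toFinset.erase one,
          ((charDegree (χ : G → ℂ) / r : ℕ) : ℂ) * (χ : G → ℂ) x⁻¹ := by
    rw [Finset.mul_sum]
    apply Finset.sum_congr rfl
    intro χ hχ
    rw [Finset.mem_erase, Set.Finite.mem_toFinset] at hχ
    have hrd := hr_dvd χ hχ.2 hχ.1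
    rw [irr_one_eq_charDegree χ.2]
    have : ((charDegree (χ : G → ℂ) : ℕ) : ℂ) = (r : ℂ) * ((charDegree (χ : G → ℂ) / r : ℕ) : ℂ) := by
      rw [← Nat.cast_mul, Nat.mul_div_cancel' hrd]
    rw [this]
    ring
  rw [hsum] at horth
  refine no_int r hr _ ?_ horth
  apply IsIntegral.sum
  intro χ _
  apply IsIntegral.mul
  · have h : IsIntegral ℤ ((((charDegree (χ : G → ℂ) / r : ℕ) : ℤ) : ℂ)) :=
      isIntegral_algebraMap (R := ℤ) (A := ℂ) (x := ((charDegree (χ : G → ℂ) / r : ℕ) : ℤ))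
    rwa [Int.cast_natCast] at h
  · exact isIntegral_of_isCharacter (isCharacter_of_isIrrCharacter χ.2) _

/-- Let G be a non-trivial finite group of order p^a · q^b · r^c with p, q, r distinct primes and a ≤ 2. Then G has a non-principal irreducible character whose degree is a power of q, and a non-principal irreducible character whose degree is a power of r; the power may be the zeroth, so a non-principal linear character serves for both. -/
theorem result {G : Type*} [Group G] [Finite G] [Nontrivial G] (p q r a b c : ℕ) (hp : p.Prime) (hq : q.Prime) (hr : r.Prime) (hpq : p ≠ q) (hpr : p ≠ r) (hqr : q ≠ r) (ha : a ≤ 2) (hG : Nat.card G = p ^ a * q ^ b * r ^ c) : (∃ χ : Cfsg.IrrCharacter G, (χ : G → ℂ) ≠ (fun _ => 1) ∧ ∃ k : ℕ, Cfsg.charDegree (χ : G → ℂ) = q ^ k) ∧ ∃ χ : Cfsg.IrrCharacter G, (χ : G → ℂ) ≠ (fun _ => 1) ∧ ∃ k : ℕ, Cfsg.charDegree (χ : G → ℂ) = r ^ k := by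
  refine ⟨exists_qpow p q r a b c hp hq hr hpq hpr hqr ha hG, ?_⟩
  have hG' : Nat.card G = p ^ a * r ^ c * q ^ b := by rw [hG]; ring
  exact exists_qpow p r q a c b hp hr hq hpr hpq (Ne.symm hqr) ha hG'

end Cfsg.Agent.S4500
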