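import Mathlib
import Cfsg.Statements.S0875
import Cfsg.Agent.Lib.Helper18.AlgIntChar

set_option autoImplicit false
open Cfsg

namespace Cfsg.Agent.S0875

open Cfsg.Agent.Helper24 Cfsg.Agent.Helper18
open scoped ComplexConjugate

universe u

section

variable {G : Type u} [Group G] [Fintype G]

/-- The restriction to an elementary subgroup of the class function `x ↦ n • β (x ^ k)`, where
`k ≡ 0 mod m` and `k ≡ 1 mod n`, has algebraic integer coefficients. -/
theorem isAlgIntChar_restrict {m n k k' : ℕ} (hmn : Nat.card G = m * n) (hcop : Nat.Coprime m n)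
    (hk0 : m ∣ k) (hk'0 : n ∣ k') (hkk : ∀ x : G, x ^ (k + k') = x) (β : G → ℂ)
    (hβc : IsClassFunction G β) (hβ : ∀ x, IsIntegral ℤ (β x))
    (E : Subgroup G) [Fintype E] {q : ℕ} (hq : q.Prime) (hE : IsElementary q E) :
    IsAlgIntChar E (fun e : E => (n : ℂ) * β ((e : G) ^ k)) := by
  classical
  refine ⟨?_, ?_⟩
  · intro a b
    have h1 : (((b * a * b⁻¹ : E) : G)) ^ k = (b : G) * (a : G) ^ k * (b : G)⁻¹ := by
      rw [Subgroup.coe_mul, Subgroup.coe_mul, Subgroup.coe_inv, conj_pow]
    show (n : ℂ) * β (((b * a * b⁻¹ : E) : G) ^ k) = (n : ℂ) * β ((a : G) ^ k)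
    rw [h1, hβc]
  · intro μ
    -- the power map is a homomorphism
    obtain ⟨i, hi⟩ := center_index_eq_pow_of_isElementary hq hE
    have hqi : q ^ i ∣ m * n := by
      rw [← hi, ← hmn]
      exact dvd_trans (Subgroup.index_dvd_card _) (Subgroup.card_subgroup_dvd_card E)
    have hkkE : ∀ e : E, e ^ (k + k') = e := by
      intro e
      apply Subtype.ext
      rw [Subgroup.coe_pow]
      exact hkk e
    have hmul : ∀ a b : E, (a * b) ^ k = a ^ k * b ^ k := by
      by_cases hqm : q ∣ m
      · have hqn : Nat.Coprime (q ^ i) n := by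
          apply Nat.Coprime.pow_left
          rw [Nat.Prime.coprime_iff_not_dvd hq]
          intro hqn
          have := Nat.dvd_gcd hqm hqn
          rw [hcop] at this
          exact hq.one_lt.ne' (Nat.dvd_one.mp this)
        have h1 : q ^ i ∣ m := hqn.dvd_of_dvd_mul_right hqi
        intro a b
        exact (pow_mul_of_center_index_dvd (by rw [hi]; exact dvd_trans h1 hk0) a b).1
      · have hqm' : Nat.Coprime (q ^ i) m := by
          apply Nat.Coprime.pow_left
          rwa [Nat.Prime.coprime_iff_not_dvd hq]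
        have h1 : q ^ i ∣ n := hqm'.dvd_of_dvd_mul_left hqi
        intro a b
        apply pow_mul_of_compl hkkE
        intro a b
        exact pow_mul_of_center_index_dvd (by rw [hi]; exact dvd_trans h1 hk'0) a b
    let φ : E →* E :=
      { toFun := fun e => e ^ k
        map_one' := one_pow k
        map_mul' := hmul }
    have hφ : ∀ e : E, φ e = e ^ k := fun e => rfl
    -- the index of the kernel divides `n`
    have hidx : φ.ker.index ∣ n := by
      rw [Subgroup.index_ker]
      have h1 : Nat.card φ.range ∣ m * n := by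
        rw [← hmn]
        exact dvd_trans (Subgroup.card_subgroup_dvd_card φ.range)
          (Subgroup.card_subgroup_dvd_card E)
      have h2 : Nat.Coprime (Nat.card φ.range) m := by
        apply Nat.coprime_of_dvd
        intro r hr hrB hrm
        haveI : Fact r.Prime := ⟨hr⟩
        obtain ⟨b, hb⟩ := exists_prime_orderOf_dvd_card' r hrB
        obtain ⟨e, he⟩ := b.2
        have h3 : (((b : φ.range) : E) : G) ^ n = 1 := by
          rw [← he, hφ, Subgroup.coe_pow, ← pow_mul]
          obtain ⟨c, hc⟩ := hk0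
          rw [hc, mul_assoc, mul_comm c n, ← mul_assoc, ← hmn, pow_mul, pow_card_eq_one',
            one_pow]
        have hbn : b ^ n = 1 := by
          apply Subtype.ext
          apply Subtype.ext
          rw [Subgroup.coe_pow, Subgroup.coe_pow, Subgroup.coe_one, Subgroup.coe_one]
          exact h3
        have hrn : r ∣ n := by
          rw [← hb]
          exact orderOf_dvd_of_pow_eq_one hbn
        have := Nat.dvd_gcd hrm hrn
        rw [hcop] at this
        exact hr.one_lt.ne' (Nat.dvd_one.mp this)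
      exact h2.dvd_of_dvd_mul_left h1
    have hconst : ∀ e : E, ∀ a ∈ φ.ker, (fun e : E => β ((e : G) ^ k)) (e * a) =
        (fun e : E => β ((e : G) ^ k)) e := by
      intro e a ha
      show β (((e * a : E) : G) ^ k) = β ((e : G) ^ k)
      have h1 : ((e * a : E) : G) ^ k = (e : G) ^ k := by
        rw [← Subgroup.coe_pow, ← Subgroup.coe_pow]
        congr 1
        rw [hmul]
        have : a ^ k = 1 := by
          rw [← hφ]
          exact MonoidHom.mem_ker.mp ha
        rw [this, mul_one]
      rw [h1]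
    exact isIntegral_inner_of_coset_const φ.ker (fun e : E => β ((e : G) ^ k))
      (fun e => hβ _) hconst n hidx μ.2

end

theorem result {G : Type*} [Group G] [Fintype G] (m n : ℕ) (hmn : Nat.card G = m * n) (hcop : Nat.Coprime m n) (g : G) (hg : Nat.Coprime (orderOf g) m) (ϑ : G → ℂ) (hϑ1 : ∀ x : G, (∃ v : G, IsConj v g ∧ (∃ u : G, x = u * v ∧ Commute u v ∧ Nat.Coprime (orderOf u) n ∧ Nat.Coprime (orderOf v) m)) → ϑ x = n) (hϑ0 : ∀ x : G, (¬ ∃ v : G, IsConj v g ∧ (∃ u : G, x = u * v ∧ Commute u v ∧ Nat.Coprime (orderOf u) n ∧ Nat.Coprime (orderOf v) m)) → ϑ x = 0) : ∃ c : Cfsg.IrrCharacter G → ℂ, (∀ χ, c χ ∈ Cfsg.AlgInt) ∧ ϑ = ∑ᶠ χ : Cfsg.IrrCharacter G, c χ • (χ : G → ℂ) := by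
  classical
  letI : Fintype (IrrCharacter G) := irrFintype
  have hGpos : 0 < Nat.card G := Nat.card_pos
  -- the exponents
  obtain ⟨k, hk0, hk1⟩ : ∃ k : ℕ, k ≡ 0 [MOD m] ∧ k ≡ 1 [MOD n] :=
    ⟨_, (Nat.chineseRemainder hcop 0 1).2⟩
  obtain ⟨k', hk'1, hk'0⟩ : ∃ k' : ℕ, k' ≡ 1 [MOD m] ∧ k' ≡ 0 [MOD n] :=
    ⟨_, (Nat.chineseRemainder hcop 1 0).2⟩
  have hmk : m ∣ k := (Nat.modEq_zero_iff_dvd).mp hk0
  have hnk' : n ∣ k' := (Nat.modEq_zero_iff_dvd).mp hk'0
  have hkk : ∀ x : G, x ^ (k + k') = x := by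
    intro x
    have h1 : k + k' ≡ 1 [MOD m] := by
      have := hk0.add hk'1
      simpa using this
    have h2 : k + k' ≡ 1 [MOD n] := by
      have := hk1.add hk'0
      simpa using this
    have h3 : k + k' ≡ 1 [MOD m * n] := (Nat.modEq_and_modEq_iff_modEq_mul hcop).mp ⟨h1, h2⟩
    have h4 : k + k' ≡ 1 [MOD orderOf x] := by
      apply h3.of_dvd
      rw [← hmn]
      exact orderOf_dvd_natCard x
    have := pow_eq_pow_iff_modEq.mpr h4
    rwa [pow_one] at this
  -- the condition in terms of the power map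
  have hP : ∀ x : G, (∃ v : G, IsConj v g ∧ (∃ u : G, x = u * v ∧ Commute u v ∧
      Nat.Coprime (orderOf u) n ∧ Nat.Coprime (orderOf v) m)) ↔ IsConj (x ^ k) g := by
    intro x
    constructor
    · rintro ⟨v, hvg, u, hx, huv, hun, hvm⟩
      have hou : orderOf u ∣ m := by
        have : orderOf u ∣ m * n := by
          rw [← hmn]
          exact orderOf_dvd_natCard u
        exact hun.dvd_of_dvd_mul_right this
      have hov : orderOf v ∣ n := by
        have : orderOf v ∣ m * n := by
          rw [← hmn]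
          exact orderOf_dvd_natCard v
        exact hvm.dvd_of_dvd_mul_left this
      have hu : u ^ k = 1 := orderOf_dvd_iff_pow_eq_one.mp (dvd_trans hou hmk)
      have hv : v ^ k = v := by
        have h4 : k ≡ 1 [MOD orderOf v] := hk1.of_dvd hov
        have := pow_eq_pow_iff_modEq.mpr h4
        rwa [pow_one] at this
      rw [hx, huv.mul_pow, hu, hv, one_mul]
      exact hvg
    · intro h
      refine ⟨x ^ k, h, x ^ k', ?_, ?_, ?_, ?_⟩
      · rw [← pow_add, add_comm]
        exact (hkk x).symm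
      · exact (Commute.refl x).pow_pow k' k
      · have h1 : (x ^ k') ^ m = 1 := by
          obtain ⟨c, hc⟩ := hnk'
          rw [← pow_mul, hc, mul_comm n c, mul_assoc, mul_comm n m, ← hmn, mul_comm, pow_mul,
            pow_card_eq_one', one_pow]
        exact Nat.Coprime.coprime_dvd_left (orderOf_dvd_of_pow_eq_one h1) hcop
      · have h1 : (x ^ k) ^ n = 1 := by
          obtain ⟨c, hc⟩ := hmk
          rw [← pow_mul, hc, mul_comm m c, mul_assoc, ← hmn, mul_comm, pow_mul,
            pow_card_eq_one', one_pow]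
        exact Nat.Coprime.coprime_dvd_left (orderOf_dvd_of_pow_eq_one h1) hcop.symm
  obtain ⟨β, hβdef⟩ : ∃ β : G → ℂ, β = fun y : G => if IsConj y g then 1 else 0 := ⟨_, rfl⟩
  have hβc : IsClassFunction G β := by
    intro a b
    have h2 : IsConj (b * a * b⁻¹) g ↔ IsConj a g := by
      constructor
      · intro h
        exact (isConj_iff.mpr ⟨b, rfl⟩ : IsConj a _).trans h
      · intro h
        exact (isConj_iff.mpr ⟨b, rfl⟩ : IsConj a _).symm.trans h
    rw [hβdef]
    simp only [h2]
  have hβint : ∀ x, IsIntegral ℤ (β x) := by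
    intro x
    rw [hβdef]
    show IsIntegral ℤ (if IsConj x g then (1 : ℂ) else 0)
    split_ifs
    · exact isIntegral_one
    · exact isIntegral_zero
  have hϑ : ϑ = fun x : G => (n : ℂ) * β (x ^ k) := by
    funext x
    rw [hβdef]
    by_cases hx : IsConj (x ^ k) g
    · rw [hϑ1 x ((hP x).mpr hx)]
      show (n : ℂ) = (n : ℂ) * (if IsConj (x ^ k) g then 1 else 0)
      rw [if_pos hx, mul_one]
    · rw [hϑ0 x (fun h => hx ((hP x).mp h))]
      show (0 : ℂ) = (n : ℂ) * (if IsConj (x ^ k) g then 1 else 0)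
      rw [if_neg hx, mul_zero]
  have hcf : IsClassFunction G ϑ := by
    intro a b
    rw [hϑ]
    have h1 : (b * a * b⁻¹) ^ k = b * a ^ k * b⁻¹ := conj_pow
    show (n : ℂ) * β ((b * a * b⁻¹) ^ k) = (n : ℂ) * β (a ^ k)
    rw [h1, hβc]
  have hmain : IsAlgIntChar G ϑ := by
    apply isAlgIntChar_of_elementary ϑ hcf
    intro E _ q hq hE
    rw [hϑ]
    exact isAlgIntChar_restrict hmn hcop hmk hnk' hkk β hβc hβint E hq hE
  refine ⟨fun χ => classInner ϑ (χ : G → ℂ), fun χ => hmain.2 χ, ?_⟩
  rw [finsum_eq_sum_of_fintype]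
  exact classFunction_expansion hcf

end Cfsg.Agent.S0875
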