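import Mathlib
import Cfsg.Statements.S0876
import Cfsg.Agent.S0875
import Cfsg.Agent.Lib.Helper23.BlockLocal
import Cfsg.Agent.Lib.Helper23.PRegularClass

set_option autoImplicit false
open Cfsg

namespace Cfsg.Agent.S0876

open Cfsg.Agent.Helper24 Cfsg.Agent.Helper23 Cfsg.Agent.Helper23.Blk

/-- The value of a character at an element is congruent, modulo `M`, to its value at the
`p`-regular part. -/
theorem congr_pRegPart {G : Type*} [Group G] [Finite G] {p : ℕ} {M : Ideal AlgInt}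
    (hM : IsPModular p M) {x a : G} (ha : IsPPart p x a) {χ : G → ℂ} (hχ : IsCharacter G χ) :
    MemLocalIdeal M (χ x - χ (a⁻¹ * x)) := by
  obtain ⟨u, hau, hcomm, ⟨k, hk⟩, -⟩ := ha
  have hu : a⁻¹ * x = u := by rw [← hau, inv_mul_cancel_left]
  rw [hu]
  have hp := hM.1
  haveI : Fact p.Prime := ⟨hp⟩
  haveI : M.IsMaximal := hM.2.1
  haveI : M.IsPrime := isPrime_of_isPModular hM
  have hxq : x ^ p ^ k = u ^ p ^ k := by
    rw [← hau, hcomm.mul_pow, ← hk, pow_orderOf_eq_one, one_mul]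
  obtain ⟨γ₁, h1⟩ := frobenius_congr hp k hχ x
  obtain ⟨γ₂, h2⟩ := frobenius_congr hp k hχ u
  obtain ⟨αA, hαA⟩ : ∃ αA : AlgInt, (αA : ℂ) = χ x := ⟨⟨χ x, isIntegral_of_isCharacter hχ x⟩, rfl⟩
  obtain ⟨βA, hβA⟩ : ∃ βA : AlgInt, (βA : ℂ) = χ u := ⟨⟨χ u, isIntegral_of_isCharacter hχ u⟩, rfl⟩
  have h3 : αA ^ p ^ k - βA ^ p ^ k = (p : AlgInt) * (γ₁ - γ₂) := by
    apply Subtype.ext
    push_cast
    rw [hαA, hβA]
    rw [hxq] at h1
    linear_combination h1 - h2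
  have h4 : αA ^ p ^ k - βA ^ p ^ k ∈ M := by
    rw [h3]
    exact M.mul_mem_right _ hM.2.2
  have hp0 : ((p : ℕ) : AlgInt ⧸ M) = 0 := by
    have : ((p : ℕ) : AlgInt ⧸ M) = Ideal.Quotient.mk M ((p : ℕ) : AlgInt) := by
      rw [map_natCast]
    rw [this, Ideal.Quotient.eq_zero_iff_mem]
    exact hM.2.2
  haveI : CharP (AlgInt ⧸ M) p := (CharP.charP_iff_prime_eq_zero hp).mpr hp0
  have h5 : (Ideal.Quotient.mk M αA - Ideal.Quotient.mk M βA) ^ p ^ k = 0 := by
    rw [sub_pow_char_pow, ← map_pow, ← map_pow, ← map_sub, Ideal.Quotient.eq_zero_iff_mem]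
    exact h4
  have h6 : Ideal.Quotient.mk M αA - Ideal.Quotient.mk M βA = 0 :=
    (pow_eq_zero_iff (pow_ne_zero k hp.ne_zero)).mp h5
  rw [← map_sub, Ideal.Quotient.eq_zero_iff_mem] at h6
  have h7 := (memLocalIdeal_coe_iff (M := M)).mpr h6
  push_cast at h7
  rwa [hαA, hβA] at h7

/-- Uniqueness of the decomposition. -/
theorem pow_eq_of_decomp {G : Type*} [Group G] [Finite G] {m n k : ℕ}
    (hmn : Nat.card G = m * n) (hk0 : m ∣ k) (hk1 : k ≡ 1 [MOD n]) {z u v : G}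
    (hz : z = u * v) (huv : Commute u v) (hun : Nat.Coprime (orderOf u) n)
    (hvm : Nat.Coprime (orderOf v) m) : z ^ k = v := by
  have hou : orderOf u ∣ m := by
    have : orderOf u ∣ m * n := by
      rw [← hmn]
      exact orderOf_dvd_natCard u
    exact hun.dvd_of_dvd_mul_right this
  have hov : orderOf v ∣ n := by
    have : orderOf v ∣ m * n := by
      rw [← hmn]
      exact orderOf_dvd_natCard v
    exact hvm.dvd_of_dvd_mul_left this
  have hu : u ^ k = 1 := orderOf_dvd_iff_pow_eq_one.mp (dvd_trans hou hk0)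
  have hv : v ^ k = v := by
    have h4 : k ≡ 1 [MOD orderOf v] := hk1.of_dvd hov
    have := pow_eq_pow_iff_modEq.mpr h4
    rwa [pow_one] at this
  rw [hz, huv.mul_pow, hu, hv, one_mul]

theorem result {G : Type*} [Group G] [Finite G] (p : ℕ) (M : Ideal Cfsg.AlgInt) (hM : Cfsg.IsPModular p M) (x y a b : G) (ha : Cfsg.IsPPart p x a) (hb : Cfsg.IsPPart p y b) : IsConj (a⁻¹ * x) (b⁻¹ * y) ↔ ∀ χ : Cfsg.IrrCharacter G, Cfsg.MemLocalIdeal M ((χ : G → ℂ) x - (χ : G → ℂ) y) := by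
  classical
  haveI : Fintype G := Fintype.ofFinite G
  letI : Fintype (IrrCharacter G) := irrFintype
  have hp := hM.1
  haveI : M.IsPrime := isPrime_of_isPModular hM
  constructor
  · intro hconj χ
    have hχ := isCharacter_of_isIrrCharacter χ.2
    have h1 := congr_pRegPart hM ha hχ
    have h2 := congr_pRegPart hM hb hχ
    have h3 : (χ : G → ℂ) (a⁻¹ * x) = (χ : G → ℂ) (b⁻¹ * y) :=
      classFunction_eq_of_isConj (isClassFunction_of_isCharacter hχ) hconj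
    have h4 : (χ : G → ℂ) x - (χ : G → ℂ) y =
        ((χ : G → ℂ) x - (χ : G → ℂ) (a⁻¹ * x)) - ((χ : G → ℂ) y - (χ : G → ℂ) (b⁻¹ * y)) := by
      rw [h3]
      ring
    rw [h4]
    exact memLocalIdeal_sub h1 h2
  · intro hall
    by_contra hnc
    obtain ⟨u, hau, hcu, ⟨ka, hka⟩, hpu⟩ := id ha
    obtain ⟨v, hbv, hcv, ⟨kb, hkb⟩, hpv⟩ := id hb
    have hu : a⁻¹ * x = u := by rw [← hau, inv_mul_cancel_left]
    have hv : b⁻¹ * y = v := by rw [← hbv, inv_mul_cancel_left]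
    obtain ⟨e, n, hpn, hGn⟩ := Nat.exists_eq_pow_mul_and_not_dvd
      (Nat.card_pos (α := G)).ne' p hp.ne_one
    have hcop : Nat.Coprime (p ^ e) n :=
      Nat.Coprime.pow_left e ((Nat.Prime.coprime_iff_not_dvd hp).mpr hpn)
    obtain ⟨k, hk0, hk1⟩ : ∃ k : ℕ, k ≡ 0 [MOD p ^ e] ∧ k ≡ 1 [MOD n] :=
      ⟨_, (Nat.chineseRemainder hcop 0 1).2⟩
    have hmk : p ^ e ∣ k := (Nat.modEq_zero_iff_dvd).mp hk0
    obtain ⟨P, hPdef⟩ : ∃ P : G → Prop, P = fun z => ∃ v' : G, IsConj v' (a⁻¹ * x) ∧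
        (∃ u' : G, z = u' * v' ∧ Commute u' v' ∧ Nat.Coprime (orderOf u') n ∧
          Nat.Coprime (orderOf v') (p ^ e)) := ⟨_, rfl⟩
    obtain ⟨ϑ, hϑdef⟩ : ∃ ϑ : G → ℂ, ϑ = fun z => if P z then (n : ℂ) else 0 := ⟨_, rfl⟩
    have hg : Nat.Coprime (orderOf (a⁻¹ * x)) (p ^ e) := by
      rw [hu]
      exact Nat.Coprime.pow_right e ((Nat.Prime.coprime_iff_not_dvd hp).mpr hpu).symm
    have hϑ1 : ∀ z : G, (∃ v' : G, IsConj v' (a⁻¹ * x) ∧
        (∃ u' : G, z = u' * v' ∧ Commute u' v' ∧ Nat.Coprime (orderOf u') n ∧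
          Nat.Coprime (orderOf v') (p ^ e))) → ϑ z = n := by
      intro z hz
      rw [hϑdef]
      have : P z := by rw [hPdef]; exact hz
      show (if P z then (n : ℂ) else 0) = n
      rw [if_pos this]
    have hϑ0 : ∀ z : G, (¬ ∃ v' : G, IsConj v' (a⁻¹ * x) ∧
        (∃ u' : G, z = u' * v' ∧ Commute u' v' ∧ Nat.Coprime (orderOf u') n ∧
          Nat.Coprime (orderOf v') (p ^ e))) → ϑ z = 0 := by
      intro z hz
      rw [hϑdef]
      have : ¬ P z := by rw [hPdef]; exact hz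
      show (if P z then (n : ℂ) else 0) = 0
      rw [if_neg this]
    obtain ⟨c, hc, hexp⟩ := Cfsg.Agent.S0875.result (p ^ e) n hGn hcop (a⁻¹ * x) hg ϑ hϑ1 hϑ0
    have hx : ϑ x = n := by
      apply hϑ1
      refine ⟨a⁻¹ * x, IsConj.refl _, a, (mul_inv_cancel_left a x).symm, ?_, ?_, hg⟩
      · rw [hu]
        exact hcu
      · rw [hka]
        exact Nat.Coprime.pow_left ka ((Nat.Prime.coprime_iff_not_dvd hp).mpr hpn)
    have hy : ϑ y = 0 := by
      apply hϑ0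
      rintro ⟨v', hv'g, u', hyz, hcomm', hu'n, hv'm⟩
      apply hnc
      have h1 : y ^ k = v' := pow_eq_of_decomp hGn hmk hk1 hyz hcomm' hu'n hv'm
      have h2 : y ^ k = v := by
        apply pow_eq_of_decomp hGn hmk hk1 hbv.symm hcv
        · rw [hkb]
          exact Nat.Coprime.pow_left kb ((Nat.Prime.coprime_iff_not_dvd hp).mpr hpn)
        · exact Nat.Coprime.pow_right e ((Nat.Prime.coprime_iff_not_dvd hp).mpr hpv).symm
      rw [hv, ← h2, h1]
      exact hv'g.symm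
    have h1 : (n : ℂ) = ∑ χ : IrrCharacter G, c χ * ((χ : G → ℂ) x - (χ : G → ℂ) y) := by
      have h2 : ∀ z : G, ϑ z = ∑ χ : IrrCharacter G, c χ * (χ : G → ℂ) z := by
        intro z
        conv_lhs => rw [hexp]
        rw [finsum_eq_sum_of_fintype, Finset.sum_apply]
        rfl
      rw [← sub_zero (n : ℂ), ← hx, ← hy, h2 x, h2 y, ← Finset.sum_sub_distrib]
      refine Finset.sum_congr rfl fun χ _ => ?_
      ring
    have h3 : MemLocalIdeal M (n : ℂ) := by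
      rw [h1]
      apply memLocalIdeal_sum
      intro χ _
      exact memLocalIdeal_mul_left (memLocalRing_of_isIntegral (hc χ) ne_top) (hall χ)
    exact hpn ((memLocalIdeal_natCast_iff hM n).mp h3)

end Cfsg.Agent.S0876
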