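import Mathlib
import Cfsg.Statements.S0912
import Cfsg.Agent.Lib.Helper23.BlockNormalP
import Cfsg.Agent.Lib.Helper10.Cores
import Cfsg.Agent.Lib.Helper12.PGroup

set_option autoImplicit false
open Cfsg Cfsg.Agent.Helper23.Blk

namespace Cfsg.Agent.S0912

/-- Let B be a block of the finite group G relative to a maximal ideal M of the algebraic integers containing the prime p. Every defect group of B contains the largest normal p-subgroup O_p(G). -/
theorem result {G : Type*} [Group G] [Finite G] (p : ℕ) [Fact p.Prime] (M : Ideal Cfsg.AlgInt) (hM : Cfsg.IsPModular p M) (B : Set (Cfsg.IrrCharacter G)) (hB : Cfsg.IsPBlock M B) (D : Subgroup G) (hD : Cfsg.IsDefectGroup p M B D) : Cfsg.pCore p G ≤ D := by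
  classical
  haveI : Fintype G := Fintype.ofFinite G
  haveI hMp : M.IsPrime := hM.2.1.isPrime
  haveI hn : (pCore p G).Normal := Cfsg.Agent.Helper10.pCore_normal p
  have hpg : IsPGroup p (pCore p G) := Cfsg.Agent.Helper10.pCore_isPGroup p
  obtain ⟨g, hg, P, rfl⟩ := hD
  -- `g` centralizes `O_p(G)`
  have hgc : g ∈ Subgroup.centralizer ((pCore p G : Subgroup G) : Set G) := by
    by_contra hcon
    have h0 := blockCoeff_eq_zero_of_not_mem_centralizer hM hB (pCore p G) hpg hcon
    apply hg.2.1
    rw [h0]
    exact memLocalIdeal_zero ne_top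
  have hle : pCore p G ≤ Subgroup.centralizer ({g} : Set G) := by
    intro x hx
    rw [Subgroup.mem_centralizer_iff]
    intro y hy
    rw [Set.mem_singleton_iff] at hy
    subst hy
    rw [Subgroup.mem_centralizer_iff] at hgc
    exact (hgc x hx).symm
  -- the core, inside the centralizer
  have hsub : IsPGroup p ((pCore p G).subgroupOf (Subgroup.centralizer ({g} : Set G))) :=
    hpg.comap_subtype
  haveI : ((pCore p G).subgroupOf (Subgroup.centralizer ({g} : Set G))).Normal := inferInstance
  have h1 := Cfsg.Agent.Helper12.normal_pgroup_le_sylow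
    ((pCore p G).subgroupOf (Subgroup.centralizer ({g} : Set G))) hsub P
  intro x hx
  have h2 : (⟨x, hle hx⟩ : Subgroup.centralizer ({g} : Set G)) ∈
      (pCore p G).subgroupOf (Subgroup.centralizer ({g} : Set G)) := by
    rw [Subgroup.mem_subgroupOf]
    exact hx
  exact ⟨⟨x, hle hx⟩, h1 h2, rfl⟩

end Cfsg.Agent.S0912
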