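import Mathlib
import Cfsg.Statements.S5082
import Cfsg.Agent.Lib.Helper25.FusionAlperin

set_option autoImplicit false

namespace Cfsg.Agent.Helper25

open Cfsg Cfsg.FusionSystem

variable {Ω : Type*} [Group Ω] {S : Subgroup Ω}

/-- A map of the system from `P` onto `P` is (the inclusion composed with) an element of `Aut_F(P)`. -/
theorem exists_aut_of_range_eq (F : FusionSystem S) {P : Subgroup Ω} {φ : P →* Ω} (hφ : φ ∈ F.Hom P)
    (hr : φ.range = P) : ∃ α ∈ F.autGroup P, P.subtype.comp α.toMonoidHom = φ := by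
  have hPS : P ≤ S := (F.le_of_mem hφ).1
  set e := homEquiv F hφ with he
  set α : MulAut P := e.trans (MulEquiv.subgroupCongr hr) with hα
  have h : P.subtype.comp α.toMonoidHom = φ := by
    ext x; rfl
  refine ⟨α, ?_, h⟩
  rw [mem_autGroup_iff F hPS, h]
  exact hφ

theorem card_lt_of_lt [Finite S] {P Q : Subgroup Ω} (hQS : Q ≤ S) (h : P < Q) :
    Nat.card P < Nat.card Q := by
  haveI : Finite Q := finite_of_le_finite hQS
  by_contra hcon
  push Not at hcon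
  exact h.ne (Subgroup.eq_of_le_of_card_ge h.le hcon)

end Cfsg.Agent.Helper25

namespace Cfsg.Agent.S5082

open Cfsg Cfsg.FusionSystem Cfsg.Agent.Helper25

theorem alperin_aux {Ω : Type*} [Group Ω] {S : Subgroup Ω} [Finite S] (p : ℕ) [Fact p.Prime]
    (hS : IsPGroup p S) (F : Cfsg.FusionSystem S) (hF : F.IsSaturated p) (E : Cfsg.FusionSystem S)
    (hE : ∀ P : Subgroup Ω, (P = S ∨ F.IsEssential p P) → F.autGroup P ≤ E.autGroup P) :
    ∀ (n : ℕ) (P : Subgroup Ω), P ≤ S → Nat.card S - Nat.card P = n → F.Hom P ⊆ E.Hom P := by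
  intro n
  induction n using Nat.strong_induction_on with
  | _ n ih =>
  intro P hPS hn φ hφ
  by_cases hP : P = S
  · -- automorphisms of S
    have hr : φ.range = P := by
      have hle : φ.range ≤ P := (range_le F hφ).trans (le_of_eq hP.symm)
      haveI : Finite P := finite_of_le_finite hPS
      exact Subgroup.eq_of_le_of_card_ge hle
        (le_of_eq (Nat.card_congr (homEquiv F hφ).toEquiv))
    obtain ⟨α, hα, rfl⟩ := exists_aut_of_range_eq F hφ hr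
    exact (mem_autGroup_iff E hPS α).mp (hE P (Or.inl hP) hα)
  · have hcardP : Nat.card P < Nat.card S := card_lt_of_lt le_rfl (lt_of_le_of_ne hPS hP)
    -- IH in convenient form
    have IH : ∀ Q' : Subgroup Ω, Q' ≤ S → Nat.card P < Nat.card Q' → F.Hom Q' ⊆ E.Hom Q' := by
      intro Q' hQ'S hlt
      have hle : Nat.card Q' ≤ Nat.card S := Subgroup.card_le_of_le hQ'S
      exact ih (Nat.card S - Nat.card Q') (by omega) Q' hQ'S rfl
    -- automorphism groups of fully normalized subgroups of the same order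
    have hAut : ∀ Q : Subgroup Ω, F.IsFullyNormalized Q → Nat.card Q = Nat.card P →
        F.autGroup Q ≤ E.autGroup Q := by
      intro Q hFN hcard
      have hQS : Q ≤ S := hFN.1
      have hQne : Q ≠ S := by
        rintro rfl; omega
      by_cases hess : F.IsEssential p Q
      · exact hE Q (Or.inr hess)
      · refine (autGroup_le_closure_extSet p hS F hF hQne hFN hess).trans ?_
        rw [Subgroup.closure_le]
        rintro α ⟨Q', hlt, φ', hφ', h⟩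
        have hQ'S : Q' ≤ S := (F.le_of_mem hφ').1
        have h1 : Nat.card Q < Nat.card Q' := card_lt_of_lt hQ'S hlt
        exact extSet_subset_autGroup E Q ⟨Q', hlt, φ', IH Q' hQ'S (by omega) hφ', h⟩
    -- normalizers are strictly larger
    have hNlt : ∀ P₁ : Subgroup Ω, P₁ ≤ S → Nat.card P₁ = Nat.card P →
        Nat.card P < Nat.card (normalizerIn S P₁) := by
      intro P₁ hP₁S hc
      have hne : P₁ ≠ S := by rintro rfl; omega
      obtain ⟨g₀, hg₀N, hg₀P⟩ := exists_mem_normalizerIn_not_mem hS hP₁S hne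
      have hlt : P₁ < normalizerIn S P₁ :=
        lt_of_le_of_ne (le_normalizerIn hP₁S) (fun h => hg₀P (h ▸ hg₀N))
      rw [← hc]
      exact card_lt_of_lt normalizerIn_le hlt
    have hRS : φ.range ≤ S := range_le F hφ
    have hcardR : Nat.card φ.range = Nat.card P := (Nat.card_congr (homEquiv F hφ).toEquiv).symm
    obtain ⟨Q, hPQ, hFN⟩ := exists_isConj_fullyNormalized F hPS
    obtain ⟨-, hFA, hRec⟩ := of_fullyNormalized p hS F hF hFN
    have hRQ : F.IsConj φ.range Q := isConj_trans F (isConj_symm F ⟨φ, hφ, rfl⟩) hPQ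
    obtain ⟨ψ, hψF, -, hψQ, hψimg⟩ := exists_normalizer_map p hS F Q P hFA hRec hPQ
    obtain ⟨ψ', hψ'F, -, hψ'Q, hψ'img⟩ := exists_normalizer_map p hS F Q φ.range hFA hRec hRQ
    have hψE : ψ ∈ E.Hom (normalizerIn S P) := IH _ normalizerIn_le (hNlt P hPS rfl) hψF
    have hψ'E : ψ' ∈ E.Hom (normalizerIn S φ.range) :=
      IH _ normalizerIn_le (hNlt φ.range hRS hcardR) hψ'F
    have hPN : P ≤ normalizerIn S P := le_normalizerIn hPS
    have hRN : φ.range ≤ normalizerIn S φ.range := le_normalizerIn hRS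
    set ψ₀ : P →* Ω := ψ.comp (Subgroup.inclusion hPN) with hψ₀
    set ψ₀' : φ.range →* Ω := ψ'.comp (Subgroup.inclusion hRN) with hψ₀'
    have hψ₀F : ψ₀ ∈ F.Hom P := restrict_mem F hPN hψF
    have hψ₀E : ψ₀ ∈ E.Hom P := restrict_mem E hPN hψE
    have hψ₀'F : ψ₀' ∈ F.Hom φ.range := restrict_mem F hRN hψ'F
    have hψ₀'E : ψ₀' ∈ E.Hom φ.range := restrict_mem E hRN hψ'E
    have hψ₀r : ψ₀.range = Q := by
      rw [← hψimg]
      ext y
      rw [mem_map_subgroupOf]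
      constructor
      · rintro ⟨x, rfl⟩; exact ⟨x, hPN x.2, x.2, rfl⟩
      · rintro ⟨x, hN, hx, rfl⟩; exact ⟨⟨x, hx⟩, rfl⟩
    have hψ₀'r : ψ₀'.range = Q := by
      rw [← hψ'img]
      ext y
      rw [mem_map_subgroupOf]
      constructor
      · rintro ⟨x, rfl⟩; exact ⟨x, hRN x.2, x.2, rfl⟩
      · rintro ⟨x, hN, hx, rfl⟩; exact ⟨⟨x, hx⟩, rfl⟩
    have hψ₀Q : ∀ x : P, ψ₀ x ∈ Q := fun x => hψ₀r ▸ ⟨x, rfl⟩
    have hψ₀'Q : ∀ y : φ.range, ψ₀' y ∈ Q := fun y => hψ₀'r ▸ ⟨y, rfl⟩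
    obtain ⟨θ, hθF, hθinv, hθr⟩ := exists_inv F hψ₀F hψ₀r
    have hθP : ∀ y : Q, θ y ∈ P := fun y => hθr ▸ ⟨y, rfl⟩
    have hφR : ∀ x : P, φ x ∈ φ.range := fun x => ⟨x, rfl⟩
    -- κ = ψ₀' ∘ φ ∘ θ
    set κ₁ : Q →* Ω := φ.comp (θ.codRestrict P hθP) with hκ₁
    have hκ₁F : κ₁ ∈ F.Hom Q := F.comp_mem hθF hφ hθP
    have hκ₁R : ∀ y : Q, κ₁ y ∈ φ.range := fun y => ⟨_, rfl⟩
    set κ : Q →* Ω := ψ₀'.comp (κ₁.codRestrict φ.range hκ₁R) with hκ
    have hκF : κ ∈ F.Hom Q := F.comp_mem hκ₁F hψ₀'F hκ₁R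
    have hκapply : ∀ x : P, κ ⟨ψ₀ x, hψ₀Q x⟩ = ψ₀' ⟨φ x, hφR x⟩ := by
      intro x
      show ψ₀' ⟨φ ⟨θ ⟨ψ₀ x, _⟩, _⟩, _⟩ = _
      congr 2
      congr 1
      exact Subtype.ext (hθinv x (hψ₀Q x))
    have hκr : κ.range = Q := by
      apply le_antisymm
      · rintro _ ⟨y, rfl⟩; exact hψ₀'Q _
      · intro y hy
        rw [← hψ₀'r] at hy
        obtain ⟨⟨_, x, rfl⟩, rfl⟩ := hy
        exact ⟨⟨ψ₀ x, hψ₀Q x⟩, hκapply x⟩
    obtain ⟨α, hα, hακ⟩ := exists_aut_of_range_eq F hκF hκr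
    have hκE : κ ∈ E.Hom Q := by
      rw [← hακ]
      exact (mem_autGroup_iff E hFN.1 α).mp (hAut Q hFN (by
        rw [← hψ₀r]; exact (Nat.card_congr (homEquiv F hψ₀F).toEquiv).symm) hα)
    obtain ⟨θ', hθ'E, hθ'inv, -⟩ := exists_inv E hψ₀'E hψ₀'r
    -- φ = θ' ∘ κ ∘ ψ₀
    have hκQ : ∀ y : Q, κ y ∈ Q := fun y => hψ₀'Q _
    set χ₁ : P →* Ω := κ.comp (ψ₀.codRestrict Q hψ₀Q) with hχ₁
    have hχ₁E : χ₁ ∈ E.Hom P := E.comp_mem hψ₀E hκE hψ₀Q
    have hχ₁Q : ∀ x : P, χ₁ x ∈ Q := fun x => hκQ _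
    refine comp_mem' E hχ₁E hθ'E hχ₁Q (fun x => ?_)
    have h1 : χ₁ x = ψ₀' ⟨φ x, hφR x⟩ := hκapply x
    have h2 := hθ'inv ⟨φ x, hφR x⟩ (hψ₀'Q _)
    refine (show φ x = _ from h2.symm).trans ?_
    congr 1
    exact Subtype.ext h1.symm

theorem result {Ω : Type*} [Group Ω] {S : Subgroup Ω} [Finite S] (p : ℕ) [Fact p.Prime] (hS : IsPGroup p S) (F : Cfsg.FusionSystem S) (hF : F.IsSaturated p) (E : Cfsg.FusionSystem S) (hE : ∀ P : Subgroup Ω, (P = S ∨ F.IsEssential p P) → F.autGroup P ≤ E.autGroup P) : F ≤ E := by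
  intro P φ hφ
  exact alperin_aux p hS F hF E hE _ P (F.le_of_mem hφ).1 rfl hφ

end Cfsg.Agent.S5082
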