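import Mathlib
import Cfsg.Statements.S5327
import Cfsg.Agent.Lib.Helper25.FusionRecept

set_option autoImplicit false
open Cfsg

namespace Cfsg.Agent.S5327

open Cfsg.FusionSystem Cfsg.Agent.Helper25

variable {Ω : Type*} [Group Ω] {S : Subgroup Ω}

/-- conjugate subgroups have the same order -/
lemma card_eq_of_isConj (F : FusionSystem S) {P Q : Subgroup Ω} (h : F.IsConj P Q) :
    Nat.card P = Nat.card Q := by
  obtain ⟨φ, hφ, rfl⟩ := h
  exact Nat.card_congr (MonoidHom.ofInjective (F.injective_of_mem hφ)).toEquiv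

/-- the system that is `F` on small subgroups and `F ∩ E` on the subgroups satisfying `C` -/
def mixed (F E : FusionSystem S) (C : Subgroup Ω → Prop)
    (hup : ∀ (P Q : Subgroup Ω) (φ : P →* Ω), C P → φ ∈ F.Hom P → Q ≤ S → (∀ x : P, φ x ∈ Q) → C Q)
    (hdown : ∀ (P : Subgroup Ω) (φ : P →* Ω), φ ∈ F.Hom P → C φ.range → C P) : FusionSystem S where
  Hom P := {φ | φ ∈ F.Hom P ∧ (C P → φ ∈ E.Hom P)}
  le_of_mem h := F.le_of_mem h.1
  injective_of_mem h := F.injective_of_mem h.1
  conj_mem hP hg := ⟨F.conj_mem hP hg, fun _ => E.conj_mem hP hg⟩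
  comp_mem := by
    rintro P Q φ ψ ⟨hφF, hφE⟩ ⟨hψF, hψE⟩ h
    refine ⟨F.comp_mem hφF hψF h, fun hC => ?_⟩
    have hCQ : C Q := hup P Q φ hC hφF (F.le_of_mem hψF).1 h
    exact E.comp_mem (hφE hC) (hψE hCQ) h
  inv_mem := by
    rintro P φ ⟨hφF, hφE⟩
    obtain ⟨ψ, hψ, hinv⟩ := F.inv_mem hφF
    refine ⟨ψ, ⟨hψ, fun hC => ?_⟩, hinv⟩
    have hCP : C P := hdown P φ hφF hC
    obtain ⟨ψ', hψ', hinv'⟩ := E.inv_mem (hφE hCP)
    have : ψ = ψ' := by
      ext ⟨_, x, rfl⟩
      rw [hinv x, hinv' x]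
    rw [this]; exact hψ'

lemma key [Finite S] (F E : FusionSystem S) (𝒬 : Set (Subgroup Ω))
    (hclosed : ∀ R ∈ 𝒬, ∀ R' : Subgroup Ω, F.IsConj R R' → R' ∈ 𝒬)
    (hgen : ∀ M : FusionSystem S, (∀ R ∈ 𝒬, F.autGroup R ≤ M.autGroup R) → F ≤ M)
    (U : Subgroup Ω) (hUS : U ≤ S) (hU : U ∉ 𝒬)
    (IH : ∀ R ∈ 𝒬, R ≤ S → Nat.card U < Nat.card R → F.autGroup R ≤ E.autGroup R) :
    F.autGroup U ≤ E.autGroup U := by
  let C : Subgroup Ω → Prop := fun P => Nat.card U < Nat.card P ∨ F.IsConj U P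
  have hup : ∀ (P Q : Subgroup Ω) (φ : P →* Ω), C P → φ ∈ F.Hom P → Q ≤ S →
      (∀ x : P, φ x ∈ Q) → C Q := by
    intro P Q φ hC hφ hQS h
    haveI : Finite Q := finite_of_le_finite hQS
    have hinj := F.injective_of_mem hφ
    have hle : Nat.card P ≤ Nat.card Q :=
      Nat.card_le_card_of_injective (fun x => (⟨φ x, h x⟩ : Q))
        (fun a b hab => hinj (congrArg Subtype.val hab))
    rcases hC with hC | hC
    · exact Or.inl (lt_of_lt_of_le hC hle)
    · have hcard := card_eq_of_isConj F hC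
      rcases lt_or_eq_of_le hle with hlt | heq
      · left; rw [hcard]; exact hlt
      · right
        have hrange : φ.range = Q := by
          apply Subgroup.eq_of_le_of_card_ge
          · rintro _ ⟨x, rfl⟩; exact h x
          · rw [← heq]
            exact le_of_eq (Nat.card_congr (MonoidHom.ofInjective hinj).toEquiv)
        exact isConj_trans F hC ⟨φ, hφ, hrange⟩
  have hdown : ∀ (P : Subgroup Ω) (φ : P →* Ω), φ ∈ F.Hom P → C φ.range → C P := by
    intro P φ hφ hC
    have hPr : F.IsConj P φ.range := ⟨φ, hφ, rfl⟩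
    rcases hC with hC | hC
    · left; rw [card_eq_of_isConj F hPr]; exact hC
    · right; exact isConj_trans F hC (isConj_symm F hPr)
  let M := mixed F E C hup hdown
  have hFM : F ≤ M := by
    apply hgen
    intro R hR
    unfold FusionSystem.autGroup
    apply (Subgroup.closure_le _).2
    intro α hα
    have hRS : R ≤ S := (F.le_of_mem hα).1
    apply Subgroup.subset_closure
    refine ⟨hα, fun hC => ?_⟩
    rcases hC with hC | hC
    · have hαF : α ∈ F.autGroup R := Subgroup.subset_closure hα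
      exact (mem_autGroup_iff E hRS α).1 (IH R hR hRS hC hαF)
    · exact absurd (hclosed R hR U (isConj_symm F hC)) hU
  unfold FusionSystem.autGroup
  apply (Subgroup.closure_le _).2
  intro α hα
  apply Subgroup.subset_closure
  have := hFM U hα
  exact this.2 (Or.inr (isConj_refl F hUS))

/-- Let F be a saturated fusion system over a finite p-group S. Call a family of subgroups of S generating when every fusion system over S whose automorphism group of each member R contains Aut_F(R) contains every map of F. If two families are each closed under F-conjugacy and each generating, then their intersection is generating. -/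
theorem result {Ω : Type*} [Group Ω] {S : Subgroup Ω} [Finite S] (p : ℕ) [Fact p.Prime] (hS : IsPGroup p S) (F : Cfsg.FusionSystem S) (hF : F.IsSaturated p) (𝒬₁ 𝒬₂ : Set (Subgroup Ω)) (h₁ : ∀ R ∈ 𝒬₁, ∀ R' : Subgroup Ω, F.IsConj R R' → R' ∈ 𝒬₁) (h₂ : ∀ R ∈ 𝒬₂, ∀ R' : Subgroup Ω, F.IsConj R R' → R' ∈ 𝒬₂) (hg₁ : ∀ E : Cfsg.FusionSystem S, (∀ R ∈ 𝒬₁, F.autGroup R ≤ E.autGroup R) → F ≤ E) (hg₂ : ∀ E : Cfsg.FusionSystem S, (∀ R ∈ 𝒬₂, F.autGroup R ≤ E.autGroup R) → F ≤ E) (E : Cfsg.FusionSystem S) (hE : ∀ R ∈ 𝒬₁ ∩ 𝒬₂, F.autGroup R ≤ E.autGroup R) : F ≤ E := by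
  -- main claim by strong induction on the index
  have claim : ∀ m : ℕ, ∀ U : Subgroup Ω, U ≤ S → U ∈ 𝒬₁ ∪ 𝒬₂ →
      Nat.card S - Nat.card U = m → F.autGroup U ≤ E.autGroup U := by
    intro m
    induction m using Nat.strong_induction_on with
    | _ m ih =>
      intro U hUS hU hm
      have hcardle : ∀ R : Subgroup Ω, R ≤ S → Nat.card R ≤ Nat.card S := fun R hR =>
        Subgroup.card_le_of_le hR
      have IH : ∀ R : Subgroup Ω, R ∈ 𝒬₁ ∪ 𝒬₂ → R ≤ S → Nat.card U < Nat.card R →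
          F.autGroup R ≤ E.autGroup R := by
        intro R hR hRS hlt
        have h1 := hcardle R hRS
        have h2 := hcardle U hUS
        exact ih (Nat.card S - Nat.card R) (by omega) R hRS hR rfl
      by_cases hU1 : U ∈ 𝒬₁
      · by_cases hU2 : U ∈ 𝒬₂
        · exact hE U ⟨hU1, hU2⟩
        · exact key F E 𝒬₂ h₂ hg₂ U hUS hU2 (fun R hR hRS hlt => IH R (Or.inr hR) hRS hlt)
      · exact key F E 𝒬₁ h₁ hg₁ U hUS hU1 (fun R hR hRS hlt => IH R (Or.inl hR) hRS hlt)
  apply hg₁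
  intro R hR
  unfold FusionSystem.autGroup
  apply (Subgroup.closure_le _).2
  intro α hα
  have hRS : R ≤ S := (F.le_of_mem hα).1
  have := claim _ R hRS (Or.inl hR) rfl
  exact this (Subgroup.subset_closure hα)

end Cfsg.Agent.S5327
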