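import Mathlib
import Cfsg.Statements.S5080
import Cfsg.Agent.Lib.Helper25.FusionAut
import Cfsg.Agent.Lib.Helper25.FusionRecept
import Cfsg.Agent.Lib.Helper25.StronglyEmbedded

set_option autoImplicit false

namespace Cfsg.Agent.S5080

open Cfsg Cfsg.FusionSystem Cfsg.Agent.Helper25

theorem result {Ω : Type*} [Group Ω] {S : Subgroup Ω} [Finite S] (p : ℕ) [Fact p.Prime] (hS : IsPGroup p S) (F : Cfsg.FusionSystem S) (hF : F.IsSaturated p) (P : Subgroup Ω) (hP : F.IsEssential p P) : F.IsRadical p P := by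
  obtain ⟨hcen, hFN, hnorm, E, hE⟩ := hP
  have hPS : P ≤ S := hcen.1
  haveI : Finite P := finite_of_le_finite hPS
  have hPp : IsPGroup p P := hS.to_le hPS
  refine ⟨hPS, ?_⟩
  have hInnle : Inn P ≤ F.autGroup P := by
    rintro _ ⟨g, rfl⟩
    apply autInducedBy_le_autGroup F hPS
    rw [mem_autInducedBy_iff]
    exact ⟨g, hPS g.2, fun x => rfl⟩
  have hInnp : IsPGroup p (Inn P) := by
    exact hPp.of_surjective (MulAut.conj : P →* MulAut P).rangeRestrict
      (MonoidHom.rangeRestrict_surjective _)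
  have hIp : IsPGroup p ((Inn P).subgroupOf (F.autGroup P)) := isPGroup_subgroupOf _ hInnp
  apply le_antisymm
  · -- O_p(A) maps to a normal p-subgroup of Out, which is trivial
    haveI := hnorm
    set I := (Inn P).subgroupOf (F.autGroup P) with hI
    set O := pCore p (F.autGroup P) with hO
    have hOp : IsPGroup p O := isPGroup_pCore' p _
    set Obar := O.map (QuotientGroup.mk' I) with hObar
    haveI : Obar.Normal := Subgroup.Normal.map inferInstance _ (QuotientGroup.mk'_surjective I)
    have hObarp : IsPGroup p Obar := hOp.map _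
    have hbot : Obar = ⊥ := eq_bot_of_normal_of_isStronglyPEmbedded p hE hObarp
    have hOI : O ≤ I := by
      intro x hx
      have : QuotientGroup.mk' I x ∈ Obar := ⟨x, hx, rfl⟩
      rw [hbot, Subgroup.mem_bot] at this
      exact (QuotientGroup.eq_one_iff x).mp this
    rintro _ ⟨x, hx, rfl⟩
    exact Subgroup.mem_subgroupOf.mp (hOI hx)
  · have hle : (Inn P).subgroupOf (F.autGroup P) ≤ pCore p (F.autGroup P) := le_pCore' hnorm hIp
    intro x hx
    exact ⟨⟨x, hInnle hx⟩, hle (Subgroup.mem_subgroupOf.mpr hx), rfl⟩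

end Cfsg.Agent.S5080
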