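import Mathlib
import Cfsg.Statements.S5086
import Cfsg.Agent.Lib.Helper25.FusionNormal2

set_option autoImplicit false

namespace Cfsg.Agent.S5086

open Cfsg Cfsg.FusionSystem Cfsg.Agent.Helper25

theorem result {Ω : Type*} [Group Ω] {S : Subgroup Ω} [Finite S] (p : ℕ) [Fact p.Prime] (hS : IsPGroup p S) (F : Cfsg.FusionSystem S) (hF : F.IsSaturated p) (Q : Subgroup Ω) : F.IsNormal Q ↔ (F.StronglyClosed Q ∧ ∀ P : Subgroup Ω, F.IsCentric P → F.IsRadical p P → Q ≤ P) := by
  constructor
  · intro hQ
    exact ⟨stronglyClosed_of_isNormal F hQ, fun P hc hr =>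
      le_of_isNormal_of_centric_radical p hS F hQ hc hr⟩
  · rintro ⟨hsc, hcr⟩
    apply isNormal_of_forall_essential p hS F hF Q
    intro P hP
    have hPS : P ≤ S := by
      rcases hP with rfl | hP
      · exact le_rfl
      · exact le_of_isEssential F hP
    have hQP : Q ≤ P := by
      rcases hP with rfl | hP
      · exact hsc.1
      · exact hcr P hP.1 (Cfsg.Agent.S5080.result p hS F hF P hP)
    exact ⟨hQP, fun α hα => map_aut_eq_of_stronglyClosed F hsc hPS hQP hα⟩

end Cfsg.Agent.S5086
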