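import Mathlib
import Cfsg.Statements.S5134
import Cfsg.Agent.Lib.Helper25.FusionMorph
import Cfsg.Agent.Lib.Helper26.FusionInduction2

set_option autoImplicit false
open Cfsg

namespace Cfsg.Agent.S5134

open Cfsg.FusionSystem Cfsg.Agent.Helper25 Cfsg.Agent.Helper26 in
/-- Let F be a saturated fusion system over a finite p-group S, S₀ a subgroup strongly closed in F, and E the factor system of F modulo S₀ read through θ (a homomorphism on S with kernel S₀ and image the group of E). Then θ is a surjective morphism of fusion systems from F onto E: in particular every map of F, and not only the maps whose source contains S₀, induces along θ a map of E. -/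
theorem result {Ω : Type*} [Group Ω] {S : Subgroup Ω} [Finite S] (p : ℕ) [Fact p.Prime] (hS : IsPGroup p S) (F : Cfsg.FusionSystem S) (hF : F.IsSaturated p) (S₀ : Subgroup Ω) (hS₀ : F.StronglyClosed S₀) {Ω' : Type*} [Group Ω'] {S' : Subgroup Ω'} (θ : S →* Ω') (E : Cfsg.FusionSystem S') (hE : F.IsFactorSystem S₀ θ E) : F.IsSurjectiveMorphism E θ := by
  obtain ⟨hS₀S, hker, hrange, hEiff⟩ := hE
  have hθS' : ∀ s : S, θ s ∈ S' := fun s => hrange ▸ ⟨s, rfl⟩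
  have himgle : ∀ P : Subgroup Ω, imageAlong θ P ≤ S' := by
    intro P y hy
    obtain ⟨s, -, rfl⟩ := mem_imageAlong.mp hy
    exact hθS' s
  have hmemimg : ∀ {P : Subgroup Ω} (hP : P ≤ S) (x : P), θ ⟨x, hP x.2⟩ ∈ imageAlong θ P :=
    fun hP x => mem_imageAlong.mpr ⟨⟨x, hP x.2⟩, x.2, rfl⟩
  refine ⟨⟨hθS', ?_⟩, hrange, fun P' hP' φ' hφ' => ((hEiff P' φ').mp hφ').2⟩
  intro R φ hφ
  refine stronglyClosed_induction p hS F hF hS₀
    (fun P φ => ∃ φ' ∈ E.Hom (imageAlong θ P), InducedAlong θ φ φ') ?_ ?_ ?_ ?_ ?_ hφ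
  · -- conjugations
    intro P g hP hg
    refine ⟨conjHom (imageAlong θ P) (θ ⟨g, hg⟩), E.conj_mem (himgle P) (hθS' _), hP,
      fun x => S.mul_mem (S.mul_mem hg (hP x.2)) (S.inv_mem hg), hmemimg hP, fun x => ?_⟩
    rw [conjHom_apply]
    show θ ⟨g, hg⟩ * θ ⟨x, hP x.2⟩ * (θ ⟨g, hg⟩)⁻¹ = _
    rw [← map_inv, ← map_mul, ← map_mul]
    rfl
  · -- composition
    rintro P Q φ ψ hφ hψ ⟨φ', hφ', hP, hφS, hP', hindφ⟩ ⟨ψ', hψ', hQ, hψS, hQ', hindψ⟩ h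
    have hval : ∀ y : imageAlong θ P, φ' y ∈ imageAlong θ Q := by
      intro y
      obtain ⟨s, hs, hsy⟩ := mem_imageAlong.mp y.2
      have e : y = ⟨θ ⟨((⟨s, hs⟩ : P) : Ω), hP hs⟩, hP' ⟨s, hs⟩⟩ := Subtype.ext hsy.symm
      rw [e, hindφ]
      exact mem_imageAlong.mpr ⟨⟨φ ⟨s, hs⟩, hφS _⟩, h ⟨s, hs⟩, rfl⟩
    refine ⟨ψ'.comp (φ'.codRestrict _ hval), E.comp_mem hφ' hψ' hval, hP, fun x => hψS _, hP',
      fun x => ?_⟩
    have e1 : (φ'.codRestrict _ hval) ⟨θ ⟨x, hP x.2⟩, hP' x⟩ =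
        ⟨θ ⟨((⟨φ x, h x⟩ : Q) : Ω), hQ (h x)⟩, hQ' ⟨φ x, h x⟩⟩ := Subtype.ext (hindφ x)
    rw [MonoidHom.comp_apply, e1, hindψ]
    rfl
  · -- inverses
    rintro P φ hφ ⟨φ', hφ', hP, hφS, hP', hind⟩ ψ hψ hψinv
    obtain ⟨ψ'', hψ'', hinv''⟩ := E.inv_mem hφ'
    have hrr : imageAlong θ φ.range = φ'.range := by
      ext y'
      rw [mem_imageAlong]
      constructor
      · rintro ⟨s, ⟨x, hx⟩, rfl⟩
        refine ⟨⟨θ ⟨x, hP x.2⟩, hP' x⟩, ?_⟩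
        rw [hind x]
        congr 1
        exact Subtype.ext hx
      · rintro ⟨y, rfl⟩
        obtain ⟨s, hs, hsy⟩ := mem_imageAlong.mp y.2
        have e : y = ⟨θ ⟨((⟨s, hs⟩ : P) : Ω), hP hs⟩, hP' ⟨s, hs⟩⟩ := Subtype.ext hsy.symm
        rw [e, hind]
        exact ⟨⟨φ ⟨s, hs⟩, hφS _⟩, ⟨⟨s, hs⟩, rfl⟩, rfl⟩
    have hrS : φ.range ≤ S := range_le F hφ
    refine ⟨ψ''.comp (Subgroup.inclusion hrr.le), hom_transport E hrr hψ'', hrS,
      fun y => (F.le_of_mem hψ).2 y, hmemimg hrS, ?_⟩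
    rintro ⟨_, x, rfl⟩
    have e1 : (Subgroup.inclusion hrr.le) ⟨θ ⟨φ x, hrS ⟨x, rfl⟩⟩, hmemimg hrS ⟨φ x, ⟨x, rfl⟩⟩⟩ =
        ⟨φ' ⟨θ ⟨x, hP x.2⟩, hP' x⟩, ⟨_, rfl⟩⟩ := Subtype.ext (hind x).symm
    have e2 : (⟨ψ ⟨φ x, ⟨x, rfl⟩⟩, (F.le_of_mem hψ).2 ⟨φ x, ⟨x, rfl⟩⟩⟩ : S) = ⟨x, hP x.2⟩ :=
      Subtype.ext (hψinv x)
    rw [MonoidHom.comp_apply, e1, hinv'', e2]
  · -- automorphisms of subgroups containing `S₀`
    intro P hP hS₀P α hα
    have hαF := (mem_autGroup_iff F hP α).mp hα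
    have hpre : preimageAlong θ (imageAlong θ P) = P := by
      ext y
      rw [mem_preimageAlong]
      constructor
      · rintro ⟨hyS, hy⟩
        obtain ⟨s, hs, hsy⟩ := mem_imageAlong.mp hy
        have h1 : θ (⟨y, hyS⟩ * s⁻¹) = 1 := by rw [map_mul, map_inv, hsy, mul_inv_cancel]
        have h2 : ((⟨y, hyS⟩ * s⁻¹ : S) : Ω) ∈ S₀ := (hker _).mp h1
        have h3 : y * (s : Ω)⁻¹ ∈ P := hS₀P h2
        have := P.mul_mem h3 hs
        simpa using this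
      · intro hy
        exact ⟨hP hy, hmemimg hP ⟨y, hy⟩⟩
    have hφ₀ := hom_transport F hpre hαF
    have hφ₀S : ∀ x, ((P.subtype.comp α.toMonoidHom).comp (Subgroup.inclusion hpre.le)) x ∈ S :=
      fun x => (F.le_of_mem hφ₀).2 x
    obtain ⟨ψ', hindψ⟩ := exists_inducedAlong hrange (himgle P) hφ₀S (by
      intro x hx
      rw [hker] at hx ⊢
      exact aut_mem_of_stronglyClosed F hS₀ hP hα (y := Subgroup.inclusion hpre.le x) hx)
    have hψ'E : ψ' ∈ E.Hom (imageAlong θ P) := (hEiff _ ψ').mpr ⟨himgle P, _, hφ₀, hindψ⟩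
    obtain ⟨h1, h2, h3, h4⟩ := hindψ
    refine ⟨ψ', hψ'E, hP, fun x => hP (α x).2, hmemimg hP, fun x => ?_⟩
    exact h4 ⟨x, hpre.ge x.2⟩
  · -- coset automorphisms
    intro P hP γ hγ
    refine ⟨(imageAlong θ P).subtype, subtype_mem E (himgle P), hP, fun x => hP (γ x).2,
      hmemimg hP, fun x => ?_⟩
    have h1 := hγ.2 x
    have h2 : θ (⟨x, hP x.2⟩⁻¹ * ⟨γ x, hP (γ x).2⟩) = 1 := (hker _).mpr h1
    rw [map_mul, map_inv, inv_mul_eq_one] at h2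
    exact h2

end Cfsg.Agent.S5134
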