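import Mathlib
import Cfsg.Statements.S5329
import Cfsg.Agent.Lib.Helper3.BisetChar
import Cfsg.Agent.Lib.Helper3.BisetTransport

set_option autoImplicit false
set_option linter.style.haveILetI false
set_option linter.unusedSectionVars false
open Cfsg

namespace Cfsg.Agent.S5329

open Cfsg.FusionSystem Cfsg.Agent.Helper25 Cfsg.Agent.Helper3.Biset in
/-- For a saturated fusion system F over a finite p-group S, the focal subgroup and the derived subgroup of S meet the centre Z(F) of the system in the same subgroup: foc(F) ∩ Z(F) = S′ ∩ Z(F). -/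
theorem result {Ω : Type*} [Group Ω] {S : Subgroup Ω} [Finite S] (p : ℕ) [Fact p.Prime] (hS : IsPGroup p S) (F : Cfsg.FusionSystem S) (hF : F.IsSaturated p) : F.focalSubgroup ⊓ F.center = ⁅(S : Subgroup Ω), (S : Subgroup Ω)⁆ ⊓ F.center := by
  apply le_antisymm
  · rintro z ⟨hzf, hzc⟩
    refine ⟨?_, hzc⟩
    have hcS : F.center ≤ S := (isCentral_center F).1
    have hzS : z ∈ S := hcS hzc
    obtain ⟨E, hE⟩ := exists_topCopy F
    have hEsat := hE.isSaturated hS hF
    have hz' := hE.isCentral_zpowers hzc hzS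
    have hfoc' : (⟨z, hzS⟩ : ↥S) ∈ E.focalSubgroup := by
      obtain ⟨w, hw, hwz⟩ := hE.focal_le hzf
      have : w = ⟨z, hzS⟩ := Subtype.ext hwz
      rwa [← this]
    have hmem := mem_commutator_of_isCentral_of_mem_focal hS hEsat hz' hfoc'
    rw [← Subgroup.map_subtype_commutator]
    exact ⟨_, hmem, rfl⟩
  · refine inf_le_inf_right _ ?_
    rw [Subgroup.commutator_le]
    intro a ha b hb
    have hmem : conjHom (Subgroup.zpowers a⁻¹) b ∈ F.Hom (Subgroup.zpowers a⁻¹) :=
      F.conj_mem (Subgroup.zpowers_le.2 (S.inv_mem ha)) hb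
    refine Subgroup.subset_closure ⟨_, _, ⟨a⁻¹, Subgroup.mem_zpowers _⟩, hmem, ?_⟩
    rw [conjHom_apply]
    simp [commutatorElement_def, mul_assoc]

end Cfsg.Agent.S5329
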