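import Mathlib
import Cfsg.Statements.S5083
import Cfsg.Agent.Lib.Helper25.FusionInner

set_option autoImplicit false

namespace Cfsg.Agent.Helper25

open Cfsg Cfsg.FusionSystem

variable {Ω : Type*} [Group Ω] {S : Subgroup Ω}

/-- If `ψ` is an `F`-isomorphism onto a fully automized subgroup whose `F`-automorphism group is a
`p`-group, then `N_S(P) ≤ N_ψ`. -/
theorem normalizerIn_le_extender_of_isPGroup (F : FusionSystem S) (p : ℕ) {P Q : Subgroup Ω}
    (hFA : F.IsFullyAutomized p Q) (hpQ : IsPGroup p (F.autGroup Q)) {ψ : P →* Ω}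
    (hψ : ψ ∈ F.Hom P) (hr : ψ.range = Q) : normalizerIn S P ≤ extender S P ψ := by
  subst hr
  have hPS : P ≤ S := (F.le_of_mem hψ).1
  have heq := autInducedBy_eq_autGroup_of_isPGroup F p hFA hpQ
  set e := homEquiv F hψ with he
  apply normalizerIn_le_extender
  intro g hg
  set βg : MulAut P := P.normalizerMonoidHom ⟨g, hg.2⟩ with hβg
  have hβg_mem : βg ∈ autInducedBy S P :=
    (mem_autInducedBy_iff βg).mpr ⟨g, hg.1, fun x => rfl⟩
  have h1 : MulAut.congr e βg ∈ F.autGroup ψ.range :=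
    congr_mem_autGroup F hψ (autInducedBy_le_autGroup F hPS hβg_mem)
  rw [← heq] at h1
  obtain ⟨k, hkS, hk⟩ := (mem_autInducedBy_iff _).mp h1
  refine ⟨k, hkS, fun x hx => ?_⟩
  have := hk (e x)
  rw [homEquiv_apply_coe] at this
  rw [← this]
  show ψ ⟨g * x * g⁻¹, hx⟩ = ((e (βg (e.symm (e x))) : ψ.range) : Ω)
  rw [MulEquiv.symm_apply_apply]
  rfl

end Cfsg.Agent.Helper25

namespace Cfsg.Agent.S5083

open Cfsg Cfsg.FusionSystem Cfsg.Agent.Helper25

theorem hom_eq_conj {Ω : Type*} [Group Ω] {S : Subgroup Ω} [Finite S] (p : ℕ) [Fact p.Prime]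
    (hS : IsPGroup p S) (F : Cfsg.FusionSystem S) (hF : F.IsSaturated p)
    (h : ∀ P : Subgroup Ω, P ≤ S → IsPGroup p (F.autGroup P)) :
    ∀ (n : ℕ) (P : Subgroup Ω), P ≤ S → Nat.card S - Nat.card P = n →
      ∀ φ : P →* Ω, φ ∈ F.Hom P → ∃ g ∈ S, ∀ x : P, φ x = g * (x : Ω) * g⁻¹ := by
  intro n
  induction n using Nat.strong_induction_on with
  | _ n ih =>
  intro P hPS hn φ hφ
  -- sub-claim: isomorphisms onto FA + receptive subgroups from subgroups of the same order
  have key : ∀ (P₁ Q : Subgroup Ω) (ψ : P₁ →* Ω), Nat.card P₁ = Nat.card P → ψ ∈ F.Hom P₁ →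
      ψ.range = Q → F.IsFullyAutomized p Q → F.IsReceptive Q →
      ∃ g ∈ S, ∀ x : P₁, ψ x = g * (x : Ω) * g⁻¹ := by
    intro P₁ Q ψ hcard hψ hr hFA hRec
    have hP₁S : P₁ ≤ S := (F.le_of_mem hψ).1
    have hQS : Q ≤ S := hFA.1
    have hpQ := h Q hQS
    by_cases hP₁ : P₁ = S
    · -- ψ is an automorphism of S
      subst hP₁
      have hQeq : Q = P₁ := by
        haveI : Finite P₁ := inferInstance
        apply Subgroup.eq_of_le_of_card_ge hQS
        rw [← hr]
        exact le_of_eq (Nat.card_congr (homEquiv F hψ).toEquiv)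
      subst hQeq
      have heq := autInducedBy_eq_autGroup_of_isPGroup F p hFA hpQ
      -- build the automorphism
      have hr' : ψ.range = Q := hr
      set e := homEquiv F hψ with he
      set α : MulAut Q := e.trans (MulEquiv.subgroupCongr hr') with hα
      have hαF : α ∈ F.autGroup Q := by
        rw [mem_autGroup_iff F hQS]
        have : Q.subtype.comp α.toMonoidHom = ψ := by
          ext x; rfl
        rw [this]; exact hψ
      rw [← heq] at hαF
      obtain ⟨g, hgS, hg⟩ := (mem_autInducedBy_iff _).mp hαF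
      exact ⟨g, hgS, fun x => hg x⟩
    · obtain ⟨g₀, hg₀N, hg₀P⟩ := exists_mem_normalizerIn_not_mem hS hP₁S hP₁
      have hNle := normalizerIn_le_extender_of_isPGroup F p hFA hpQ hψ hr
      obtain ⟨χ, hχ, hχext⟩ := hRec.2 P₁ ψ hψ hr
      have hχ' := restrict_mem F hNle hχ
      have hle : P₁ ≤ normalizerIn S P₁ := le_normalizerIn hP₁S
      haveI : Finite (normalizerIn S P₁) := finite_of_le_finite normalizerIn_le
      have hlt : Nat.card P₁ < Nat.card (normalizerIn S P₁) := by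
        by_contra hcon
        push Not at hcon
        have := Subgroup.eq_of_le_of_card_ge hle hcon
        exact hg₀P (this ▸ hg₀N)
      have hNS : Nat.card (normalizerIn S P₁) ≤ Nat.card S :=
        Subgroup.card_le_of_le normalizerIn_le
      have hm : Nat.card S - Nat.card (normalizerIn S P₁) < n := by
        rw [← hn, ← hcard]; omega
      obtain ⟨g, hgS, hg⟩ := ih _ hm (normalizerIn S P₁) normalizerIn_le rfl _ hχ'
      refine ⟨g, hgS, fun x => ?_⟩
      have h1 := hg ⟨x, hle x.2⟩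
      rw [← h1]
      exact (hχext x x.2 (hNle (hle x.2))).symm
  -- main argument
  have hRS : φ.range ≤ S := range_le F hφ
  obtain ⟨Q, ⟨χ, hχ, hχr⟩, hFA, hRec⟩ := hF φ.range hRS
  have hval : ∀ x : P, φ x ∈ φ.range := fun x => ⟨x, rfl⟩
  set ψ : P →* Ω := χ.comp (φ.codRestrict φ.range hval) with hψdef
  have hψ : ψ ∈ F.Hom P := F.comp_mem hφ hχ hval
  have hψr : ψ.range = Q := by
    rw [← hχr]
    ext y
    constructor
    · rintro ⟨x, rfl⟩; exact ⟨_, rfl⟩
    · rintro ⟨⟨_, x, rfl⟩, rfl⟩; exact ⟨x, rfl⟩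
  obtain ⟨a, haS, ha⟩ := key P Q ψ rfl hψ hψr hFA hRec
  have hcardR : Nat.card φ.range = Nat.card P := (Nat.card_congr (homEquiv F hφ).toEquiv).symm
  obtain ⟨b, hbS, hb⟩ := key φ.range Q χ hcardR hχ hχr hFA hRec
  refine ⟨b⁻¹ * a, S.mul_mem (S.inv_mem hbS) haS, fun x => ?_⟩
  have h1 : ψ x = b * φ x * b⁻¹ := hb ⟨φ x, hval x⟩
  have h2 := ha x
  rw [h1] at h2
  have h3 : φ x = b⁻¹ * (b * φ x * b⁻¹) * b := by group
  rw [h3, h2]; group

theorem result {Ω : Type*} [Group Ω] {S : Subgroup Ω} [Finite S] (p : ℕ) [Fact p.Prime] (hS : IsPGroup p S) (F : Cfsg.FusionSystem S) (hF : F.IsSaturated p) (h : ∀ P : Subgroup Ω, P ≤ S → IsPGroup p (F.autGroup P)) : F = Cfsg.innerFusionSystem S := by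
  apply fs_ext
  intro P
  ext φ
  constructor
  · intro hφ
    have hPS : P ≤ S := (F.le_of_mem hφ).1
    obtain ⟨g, hgS, hg⟩ := hom_eq_conj p hS F hF h _ P hPS rfl φ hφ
    exact ⟨hPS, g, hgS, hg⟩
  · rintro ⟨hPS, g, hgS, hg⟩
    have : φ = conjHom P g := by
      ext x; rw [hg, conjHom_apply]
    rw [this]
    exact F.conj_mem hPS hgS

end Cfsg.Agent.S5083
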