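import Mathlib
import Cfsg.Statements.S5096
import Cfsg.Agent.Lib.Helper25.FusionNormal

set_option autoImplicit false
open Cfsg

namespace Cfsg.Agent.S5096

open Cfsg.Agent.Helper25 Cfsg.FusionSystem

variable {Ω : Type*} [Group Ω] {S : Subgroup Ω}

/-- the image-of-`Q` condition, elementwise -/
theorem img_iff {K Q : Subgroup Ω} (ψ : K →* Ω) (hQK : Q ≤ K) (hinj : Function.Injective ψ) :
    (Q.subgroupOf K).map ψ = Q ↔
      (∀ x (hx : x ∈ Q), ψ ⟨x, hQK hx⟩ ∈ Q) ∧ ∀ y ∈ Q, ∃ x, ∃ hx : x ∈ Q, ψ ⟨x, hQK hx⟩ = y := by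
  constructor
  · intro h
    refine ⟨fun x hx => ?_, fun y hy => ?_⟩
    · rw [← h]; exact (mem_map_subgroupOf ψ).mpr ⟨x, hQK hx, hx, rfl⟩
    · rw [← h] at hy
      obtain ⟨x, hK, hxQ, hxy⟩ := (mem_map_subgroupOf ψ).mp hy
      exact ⟨x, hxQ, hxy⟩
  · rintro ⟨h1, h2⟩
    ext y
    rw [mem_map_subgroupOf]
    constructor
    · rintro ⟨x, hK, hxQ, rfl⟩; exact h1 x hxQ
    · intro hy
      obtain ⟨x, hx, hxy⟩ := h2 y hy
      exact ⟨x, hQK hx, hx, hxy⟩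

theorem conj_mem_aux (F : FusionSystem S) (Q : Subgroup Ω) (hQ : Q ≤ S) {P : Subgroup Ω} {g : Ω}
    (hP : P ≤ normalizerIn S Q) (hg : g ∈ normalizerIn S Q) : conjHom P g ∈ F.normalizerHom Q P := by
  have hPS : P ≤ S := hP.trans normalizerIn_le
  refine ⟨F.conj_mem hPS hg.1, hP, fun x => ?_, conjHom (P ⊔ Q) g, F.conj_mem (sup_le hPS hQ) hg.1,
    fun x => rfl, ?_⟩
  · exact Subgroup.mul_mem _ (Subgroup.mul_mem _ hg (hP x.2)) (Subgroup.inv_mem _ hg)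
  · ext y
    rw [mem_map_subgroupOf]
    have hgN := Subgroup.mem_normalizer_iff.mp hg.2
    constructor
    · rintro ⟨x, hK, hxQ, rfl⟩
      exact (hgN x).mp hxQ
    · intro hy
      have hgN' := Subgroup.mem_normalizer_iff.mp (Subgroup.inv_mem _ hg.2)
      have hx : g⁻¹ * y * g ∈ Q := by simpa using (hgN' y).mp hy
      refine ⟨g⁻¹ * y * g, le_sup_right (a := P) hx, hx, ?_⟩
      show g * (g⁻¹ * y * g) * g⁻¹ = y
      group

theorem comp_mem_aux (F : FusionSystem S) (Q : Subgroup Ω) {P R : Subgroup Ω} {φ : P →* Ω} {ψ : R →* Ω}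
    (hφ : φ ∈ F.normalizerHom Q P) (hψ : ψ ∈ F.normalizerHom Q R) (h : ∀ x : P, φ x ∈ R) :
    ψ.comp (φ.codRestrict R h) ∈ F.normalizerHom Q P := by
  obtain ⟨hφF, hPN, hφN, φ', hφ', hφext, hφimg⟩ := hφ
  obtain ⟨hψF, hRN, hψN, ψ', hψ', hψext, hψimg⟩ := hψ
  have hφQ := (img_iff φ' le_sup_right (F.injective_of_mem hφ')).mp hφimg
  have hψQ := (img_iff ψ' le_sup_right (F.injective_of_mem hψ')).mp hψimg
  -- φ' maps P ⊔ Q into R ⊔ Q
  have hmaps : ∀ z (hz : z ∈ P ⊔ Q), φ' ⟨z, hz⟩ ∈ R ⊔ Q := by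
    intro z hz
    refine sup_induction (C := fun z => ∀ hz : z ∈ P ⊔ Q, φ' ⟨z, hz⟩ ∈ R ⊔ Q) ?_ ?_ ?_ hz hz
    · intro x hx hz
      have := hφext ⟨x, hx⟩
      have e : Subgroup.inclusion (le_sup_left : P ≤ P ⊔ Q) ⟨x, hx⟩ = ⟨x, hz⟩ := rfl
      rw [e] at this; rw [this]
      exact le_sup_left (a := R) (h ⟨x, hx⟩)
    · intro x hx hz
      exact le_sup_right (a := R) (hφQ.1 x hx)
    · intro a b ha hb iha ihb hz
      have : (⟨a * b, hz⟩ : ↥(P ⊔ Q)) = ⟨a, ha⟩ * ⟨b, hb⟩ := rfl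
      rw [this, map_mul]
      exact Subgroup.mul_mem _ (iha ha) (ihb hb)
  have hmaps' : ∀ z : ↥(P ⊔ Q), φ' z ∈ R ⊔ Q := fun z => hmaps z z.2
  refine ⟨F.comp_mem hφF hψF h, hPN, fun x => hψN _, ψ'.comp (φ'.codRestrict (R ⊔ Q) hmaps'),
    F.comp_mem hφ' hψ' hmaps', fun x => ?_, ?_⟩
  · show ψ' ⟨φ' (Subgroup.inclusion le_sup_left x), _⟩ = ψ ⟨φ x, h x⟩
    have e1 := hφext x
    have e2 := hψext ⟨φ x, h x⟩
    rw [← e2]
    congr 1
    exact Subtype.ext e1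
  · rw [img_iff _ le_sup_right (F.injective_of_mem (F.comp_mem hφ' hψ' hmaps'))]
    refine ⟨fun x hx => ?_, fun y hy => ?_⟩
    · exact hψQ.1 _ (hφQ.1 x hx)
    · obtain ⟨u, hu, huy⟩ := hψQ.2 y hy
      obtain ⟨x, hx, hxu⟩ := hφQ.2 u hu
      refine ⟨x, hx, ?_⟩
      rw [← huy]
      show ψ' ⟨φ' ⟨x, _⟩, _⟩ = ψ' ⟨u, _⟩
      congr 1
      exact Subtype.ext hxu

theorem inv_mem_aux (F : FusionSystem S) (Q : Subgroup Ω) {P : Subgroup Ω} {φ : P →* Ω}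
    (hφ : φ ∈ F.normalizerHom Q P) :
    ∃ ψ ∈ F.normalizerHom Q φ.range, ∀ x : P, ψ ⟨φ x, ⟨x, rfl⟩⟩ = (x : Ω) := by
  obtain ⟨hφF, hPN, hφN, φ', hφ', hφext, hφimg⟩ := hφ
  have hφQ := (img_iff φ' le_sup_right (F.injective_of_mem hφ')).mp hφimg
  obtain ⟨θ, hθ, hθinv, -⟩ := exists_inv F hφ' rfl
  have hle1 : φ.range ≤ φ'.range := by
    rintro _ ⟨x, rfl⟩
    exact ⟨Subgroup.inclusion le_sup_left x, hφext x⟩
  have hle2 : Q ≤ φ'.range := by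
    intro y hy
    obtain ⟨x, hx, hxy⟩ := hφQ.2 y hy
    exact ⟨_, hxy⟩
  have hle : φ.range ⊔ Q ≤ φ'.range := sup_le hle1 hle2
  have hθφ : ∀ x : P, θ ⟨φ x, hle1 ⟨x, rfl⟩⟩ = (x : Ω) := by
    intro x
    have := hθinv (Subgroup.inclusion le_sup_left x) ⟨_, rfl⟩
    have e : (⟨φ' (Subgroup.inclusion le_sup_left x), ⟨_, rfl⟩⟩ : φ'.range) =
        ⟨φ x, hle1 ⟨x, rfl⟩⟩ := Subtype.ext (hφext x)
    rw [e] at this
    exact this
  refine ⟨θ.comp (Subgroup.inclusion hle1), ⟨restrict_mem F hle1 hθ, ?_, ?_,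
    θ.comp (Subgroup.inclusion hle), restrict_mem F hle hθ, fun x => rfl, ?_⟩, fun x => hθφ x⟩
  · rintro _ ⟨x, rfl⟩; exact hφN x
  · rintro ⟨_, x, rfl⟩
    show θ ⟨φ x, _⟩ ∈ _
    rw [hθφ x]; exact hPN x.2
  · rw [img_iff _ le_sup_right (F.injective_of_mem (restrict_mem F hle hθ))]
    refine ⟨fun y hy => ?_, fun x hx => ?_⟩
    · obtain ⟨x, hx, hxy⟩ := hφQ.2 y hy
      have := hθinv ⟨x, le_sup_right (a := P) hx⟩ ⟨_, rfl⟩
      show θ ⟨y, _⟩ ∈ Q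
      have e : (⟨y, hle (le_sup_right (a := φ.range) hy)⟩ : φ'.range) =
          ⟨φ' ⟨x, le_sup_right (a := P) hx⟩, ⟨_, rfl⟩⟩ := Subtype.ext hxy.symm
      rw [e, this]; exact hx
    · refine ⟨φ' ⟨x, le_sup_right (a := P) hx⟩, hφQ.1 x hx, ?_⟩
      exact hθinv ⟨x, le_sup_right (a := P) hx⟩ ⟨_, rfl⟩

/-- For any fusion system over a subgroup S and any Q ≤ S, the maps of the normalizer system N_F(Q) — those maps between subgroups of N_S(Q) that extend to the subgroup generated with Q carrying Q onto Q — form a fusion system over N_S(Q). -/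
theorem result {Ω : Type*} [Group Ω] {S : Subgroup Ω} (F : Cfsg.FusionSystem S) (Q : Subgroup Ω) (hQ : Q ≤ S) : ∃ E : Cfsg.FusionSystem (Cfsg.FusionSystem.normalizerIn S Q), F.IsNormalizerSystem Q E := by
  refine ⟨{ Hom := fun P => F.normalizerHom Q P
            le_of_mem := fun h => ⟨h.2.1, h.2.2.1⟩
            injective_of_mem := fun h => F.injective_of_mem h.1
            conj_mem := fun hP hg => conj_mem_aux F Q hQ hP hg
            comp_mem := fun hφ hψ h => comp_mem_aux F Q hφ hψ h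
            inv_mem := fun hφ => inv_mem_aux F Q hφ }, fun P => rfl⟩

end Cfsg.Agent.S5096
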