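import Mathlib
import Cfsg.Statements.S1464
import Cfsg.Agent.Lib.Helper8.OddStable

set_option autoImplicit false
open Cfsg

namespace Cfsg.Agent.S1464

theorem mem_pCore_of_eq {X : Type*} [Group X] {p : ℕ} (C₁ C₂ : Subgroup X) [C₁.Normal] [C₂.Normal]
    (h : C₁ = C₂) (a : X) (h1 : (QuotientGroup.mk a : X ⧸ C₁) ∈ Cfsg.pCore p (X ⧸ C₁)) :
    (QuotientGroup.mk a : X ⧸ C₂) ∈ Cfsg.pCore p (X ⧸ C₂) := by
  subst h
  exact h1

/-- Let p be an odd prime and G a solvable group of odd order, P a p-subgroup with O_{p'}(G)P normal in G, and A a p-subgroup of N_G(P) with [[P, A], A] = 1. Then the image of A in the quotient N_G(P)/C_G(P) is contained in the p-core of that quotient. -/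
theorem result {G : Type*} [Group G] [Finite G] [Group.IsSolvable G] (hodd : Odd (Nat.card G)) (p : ℕ) [Fact p.Prime] (hp : p ≠ 2) (P A : Subgroup G) (hP : IsPGroup p P) (hPn : (Cfsg.pPrimeCore p G ⊔ P).Normal)
    (hA : IsPGroup p A) (hAN : A ≤ Subgroup.normalizer (P : Set G)) (hquad : ⁅⁅P, A⁆, A⁆ = ⊥) :
    (A.subgroupOf (Subgroup.normalizer (P : Set G))).map
        (QuotientGroup.mk' ((Subgroup.centralizer (P : Set G)).subgroupOf (Subgroup.normalizer (P : Set G))))
      ≤ Cfsg.pCore p _ := by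
  set N : Subgroup G := Subgroup.normalizer (P : Set G) with hN
  have hPN : P ≤ N := Subgroup.le_normalizer
  have hoddN : Odd (Nat.card N) := Odd.of_dvd_nat hodd (Subgroup.card_subgroup_dvd_card N)
  haveI hVn : (P.subgroupOf N).Normal := Subgroup.normal_in_normalizer
  have hVp : IsPGroup p (P.subgroupOf N) := hP.comap_subtype
  have hCeq : Subgroup.centralizer ((P.subgroupOf N : Subgroup N) : Set N) =
      (Subgroup.centralizer (P : Set G)).subgroupOf N := by
    ext x
    rw [Subgroup.mem_centralizer_iff, Subgroup.mem_subgroupOf, Subgroup.mem_centralizer_iff]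
    constructor
    · intro h g hg
      have := h ⟨g, hPN hg⟩ (by rw [SetLike.mem_coe, Subgroup.mem_subgroupOf]; exact hg)
      exact congrArg Subtype.val this
    · intro h v hv
      rw [SetLike.mem_coe, Subgroup.mem_subgroupOf] at hv
      exact Subtype.ext (h v hv)
  rintro _ ⟨a', ha', rfl⟩
  rw [SetLike.mem_coe, Subgroup.mem_subgroupOf] at ha'
  have hpel : ∃ k : ℕ, a' ^ p ^ k = 1 := by
    obtain ⟨k, hk⟩ := hA ⟨a', ha'⟩
    refine ⟨k, Subtype.ext ?_⟩
    have := congrArg Subtype.val hk
    simpa using this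
  have hq' : ⁅⁅P.subgroupOf N, Subgroup.zpowers a'⁆, Subgroup.zpowers a'⁆ = ⊥ := by
    rw [← Subgroup.map_eq_bot_iff_of_injective _ N.subtype_injective, Subgroup.map_commutator,
      Subgroup.map_commutator, Subgroup.subgroupOf_map_subtype, MonoidHom.map_zpowers, eq_bot_iff,
      ← hquad]
    have hz : Subgroup.zpowers (N.subtype a') ≤ A := Subgroup.zpowers_le.2 ha'
    exact Subgroup.commutator_mono (Subgroup.commutator_mono inf_le_left hz) hz
  have key := Cfsg.Agent.Helper8.OddStable.stab_of_odd hoddN hp (P.subgroupOf N) hVp a' hpel hq'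
  exact mem_pCore_of_eq _ _ hCeq a' key

end Cfsg.Agent.S1464
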