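import Mathlib
import Cfsg.Statements.S4219
import Cfsg.Agent.S4347

set_option autoImplicit false
open Cfsg

namespace Cfsg.Agent.S4219

open MulAction

/-- Abstract form of Witt's lemma. -/
theorem witt {G Ω : Type*} [Group G] [Finite G] [MulAction G Ω] [MulAction.IsPretransitive G Ω]
    (x : Ω) {p : ℕ} [Fact p.Prime] (P : Sylow p (stabilizer G x)) (a b : Ω)
    (ha : (P : Subgroup (stabilizer G x)).map (stabilizer G x).subtype ≤ stabilizer G a)
    (hb : (P : Subgroup (stabilizer G x)).map (stabilizer G x).subtype ≤ stabilizer G b) :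
    ∃ g ∈ Subgroup.normalizer
      ((((P : Subgroup (stabilizer G x)).map (stabilizer G x).subtype) : Subgroup G) : Set G),
      g • a = b := by
  set Q : Subgroup G := (P : Subgroup (stabilizer G x)).map (stabilizer G x).subtype with hQ
  have hQcard : Nat.card Q = p ^ (Nat.card (stabilizer G x)).factorization p := by
    rw [← P.card_eq_multiplicity]
    exact (Nat.card_congr (Subgroup.equivMapOfInjective _ _
      (Subgroup.subtype_injective _)).toEquiv).symm
  have hstab : ∀ y : Ω, Nat.card (stabilizer G y) = Nat.card (stabilizer G x) := by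
    intro y
    obtain ⟨g, hg⟩ := MulAction.exists_smul_eq G x y
    exact (Nat.card_congr (stabilizerEquivStabilizer hg.symm).toEquiv).symm
  set K := stabilizer G b with hK
  obtain ⟨g, hg⟩ := MulAction.exists_smul_eq G a b
  set Q' : Subgroup G := Q.map (MulAut.conj g).toMonoidHom with hQ'
  have hQ'K : Q' ≤ K := by
    rintro _ ⟨q, hq, rfl⟩
    have hqa : q • a = a := ha hq
    show (MulAut.conj g q) • b = b
    rw [MulAut.conj_apply, ← hg, mul_smul, mul_smul, inv_smul_smul, hqa]
  have hQ'card : Nat.card Q' = Nat.card Q :=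
    (Nat.card_congr (Subgroup.equivMapOfInjective _ _
      (MulAut.conj g).injective).toEquiv).symm
  have hcard : ∀ R : Subgroup G, R ≤ K → Nat.card R = Nat.card Q →
      Nat.card (R.subgroupOf K) = p ^ (Nat.card K).factorization p := by
    intro R hR hRQ
    rw [Nat.card_congr (Subgroup.subgroupOfEquivOfLe hR).toEquiv, hRQ, hQcard, hK, hstab b]
  let S₁ : Sylow p K := Sylow.ofCard (Q'.subgroupOf K) (hcard Q' hQ'K hQ'card)
  let S₂ : Sylow p K := Sylow.ofCard (Q.subgroupOf K) (hcard Q hb rfl)
  obtain ⟨c, hc⟩ := MulAction.exists_smul_eq K S₁ S₂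
  refine ⟨(c : G) * g, ?_, ?_⟩
  · apply Subgroup.mem_normalizer_fintype
    intro q hq
    have hq' : q ∈ Q := hq
    have h1 : g * q * g⁻¹ ∈ Q' := ⟨q, hq', by simp [MulAut.conj_apply]⟩
    have h1K : g * q * g⁻¹ ∈ K := hQ'K h1
    have h2 : (⟨g * q * g⁻¹, h1K⟩ : K) ∈ S₁ := by
      show (⟨g * q * g⁻¹, h1K⟩ : K) ∈ Q'.subgroupOf K
      rw [Subgroup.mem_subgroupOf]
      exact h1
    have h3 : c * (⟨g * q * g⁻¹, h1K⟩ : K) * c⁻¹ ∈ c • S₁ := by
      rw [Cfsg.Agent.S4347.mem_smul_sylow]
      have : c⁻¹ * (c * (⟨g * q * g⁻¹, h1K⟩ : K) * c⁻¹) * c = ⟨g * q * g⁻¹, h1K⟩ := by group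
      rw [this]
      exact h2
    rw [hc] at h3
    have h4 : c * (⟨g * q * g⁻¹, h1K⟩ : K) * c⁻¹ ∈ Q.subgroupOf K := h3
    rw [Subgroup.mem_subgroupOf] at h4
    have e : ((c : G) * g) * q * ((c : G) * g)⁻¹ =
        ((c * (⟨g * q * g⁻¹, h1K⟩ : K) * c⁻¹ : K) : G) := by
      simp only [Subgroup.coe_mul, Subgroup.coe_inv]
      group
    show ((c : G) * g) * q * ((c : G) * g)⁻¹ ∈ Q
    rw [e]
    exact h4
  · rw [mul_smul, hg]
    exact c.2

/-- Let a finite group `G` act `t`-fold transitively on a finite set, let `H` be the stabilizer of `t` distinct points and `P` a Sylow `p`-subgroup of `H`. Then the normalizer of `P` in `G` is `t`-fold transitive on the fixed points of `P`: any `t` distinct fixed points of `P` can be carried to any other `t` distinct fixed points of `P` by an element normalizing `P`. -/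
theorem result {G : Type*} [Group G] [Finite G] {α : Type*} [Fintype α] [MulAction G α] {t : ℕ} (hG : MulAction.IsMultiplyPretransitive G α t) (x : Fin t ↪ α) {p : ℕ} [Fact p.Prime] (P : Sylow p (MulAction.stabilizer G x)) (a b : Fin t ↪ α) (ha : ∀ i, a i ∈ MulAction.fixedPoints ((P : Subgroup (MulAction.stabilizer G x)).map (MulAction.stabilizer G x).subtype) α) (hb : ∀ i, b i ∈ MulAction.fixedPoints ((P : Subgroup (MulAction.stabilizer G x)).map (MulAction.stabilizer G x).subtype) α) : ∃ g ∈ Subgroup.normalizer ((((P : Subgroup (MulAction.stabilizer G x)).map (MulAction.stabilizer G x).subtype) : Subgroup G) : Set G), g • a = b := by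
  haveI : MulAction.IsPretransitive G (Fin t ↪ α) := hG
  have key : ∀ y : Fin t ↪ α,
      (∀ i, y i ∈ MulAction.fixedPoints ((P : Subgroup (MulAction.stabilizer G x)).map
        (MulAction.stabilizer G x).subtype) α) →
      (P : Subgroup (stabilizer G x)).map (stabilizer G x).subtype ≤ stabilizer G y := by
    intro y hy q hq
    rw [MulAction.mem_stabilizer_iff]
    ext i
    rw [Function.Embedding.smul_apply]
    have := hy i
    rw [MulAction.mem_fixedPoints] at this
    exact this ⟨q, hq⟩
  exact witt x P a b (key a ha) (key b hb)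

end Cfsg.Agent.S4219
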