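import Mathlib
import Cfsg.Agent.S4219
import Cfsg.Statements.S0713
-- import your own Cfsg.Agent.* helpers here

set_option autoImplicit false
open Cfsg

namespace Cfsg.Agent.S0713

open Equiv Equiv.Perm MulAction
open scoped Pointwise commutatorElement

theorem mult_trans {α : Type*} [Fintype α] [DecidableEq α] (G : Subgroup (Equiv.Perm α))
    (hG : MulAction.IsPreprimitive G α) {p : ℕ} (hp : p.Prime)
    (hpn : p + 3 ≤ Fintype.card α) {g : Equiv.Perm α} (hgc : g.IsCycle)
    (hgp : g.support.card = p) (hg : g ∈ G) :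
    MulAction.IsMultiplyPretransitive G α (Fintype.card α - p) := by
  classical
  obtain ⟨m, hm⟩ : ∃ m, Fintype.card α = p + (m + 3) := ⟨Fintype.card α - p - 3, by omega⟩
  have hprim : MulAction.IsMultiplyPreprimitive G α ((m + 2) + 2) := by
    apply hG.isMultiplyPreprimitive (s := ((g.support : Set α)ᶜ))
    · apply Nat.add_left_cancel
      rw [Set.ncard_add_ncard_compl, Set.ncard_coe_finset, hgp, Nat.card_eq_fintype_card, hm]
    · rw [Nat.card_eq_fintype_card, hm]
      have := hp.two_le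
      omega
    · have := Equiv.Perm.isPretransitive_of_isCycle_mem hgc hg
      apply MulAction.IsPreprimitive.of_prime_card
      convert hp
      rw [Nat.card_eq_fintype_card, Fintype.card_subtype, ← hgp]
      apply congr_arg
      ext x
      simp [SubMulAction.mem_ofFixingSubgroup_iff]
  have h1 : MulAction.IsMultiplyPretransitive G α ((m + 2) + 2) :=
    MulAction.IsMultiplyPreprimitive.isMultiplyPretransitive ..
  have h2 : Fintype.card α - p = m + 3 := by omega
  rw [h2]
  apply MulAction.isMultiplyPretransitive_of_le (n := (m + 2) + 2) (by omega)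
  rw [Nat.card_eq_fintype_card, hm]
  have := hp.two_le
  omega

theorem exists_enum {α : Type*} [Fintype α] [DecidableEq α] (s : Finset α) :
    ∃ x : Fin (Fintype.card α - s.card) ↪ α, ∀ y, y ∈ Set.range x ↔ y ∉ s := by
  have hc : (sᶜ).card = Fintype.card α - s.card := Finset.card_compl s
  let e : ↥(sᶜ) ≃ Fin (Fintype.card α - s.card) := Finset.equivFinOfCardEq hc
  refine ⟨e.symm.toEmbedding.trans (Function.Embedding.subtype _), fun y => ?_⟩
  constructor
  · rintro ⟨i, rfl⟩
    have := (e.symm i).2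
    rw [Finset.mem_compl] at this
    exact this
  · intro hy
    have hy' : y ∈ sᶜ := Finset.mem_compl.mpr hy
    exact ⟨e ⟨y, hy'⟩, by simp⟩

theorem mem_stabilizer_emb_iff {α : Type*} [Fintype α] [DecidableEq α]
    (G : Subgroup (Equiv.Perm α)) {d : ℕ} (x : Fin d ↪ α) (s : Finset α)
    (hx : ∀ y, y ∈ Set.range x ↔ y ∉ s) (h : G) :
    h ∈ MulAction.stabilizer G x ↔ ∀ y, y ∉ s → (h : Equiv.Perm α) y = y := by
  rw [MulAction.mem_stabilizer_iff]
  constructor
  · intro hh y hy
    obtain ⟨i, rfl⟩ := (hx y).mpr hy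
    have := DFunLike.congr_fun hh i
    exact this
  · intro hh
    ext i
    exact hh (x i) ((hx (x i)).mp ⟨i, rfl⟩)

theorem stab_preserves {α : Type*} [Fintype α] [DecidableEq α]
    (s : Finset α) (h : Equiv.Perm α) (hh : ∀ y, y ∉ s → h y = y) :
    ∀ y, h y ∈ s ↔ y ∈ s := by
  intro y
  constructor
  · intro hy
    by_contra hys
    rw [hh y hys] at hy
    exact hys hy
  · intro hy
    by_contra hys
    have h1 := hh (h y) hys
    have h2 : h y = y := h.injective h1
    rw [h2] at hys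
    exact hys hy

theorem card_stabilizer_dvd {α : Type*} [Fintype α] [DecidableEq α]
    (G : Subgroup (Equiv.Perm α)) {d : ℕ} (x : Fin d ↪ α) (s : Finset α)
    (hx : ∀ y, y ∈ Set.range x ↔ y ∉ s) :
    Nat.card (MulAction.stabilizer G x) ∣ (s.card).factorial := by
  have hfix : ∀ h : MulAction.stabilizer G x, ∀ y, y ∉ s → ((h : G) : Equiv.Perm α) y = y :=
    fun h => (mem_stabilizer_emb_iff G x s hx h).mp h.2
  let φ : MulAction.stabilizer G x →* Equiv.Perm {y // y ∈ s} :=
    { toFun := fun h => Equiv.Perm.subtypePerm ((h : G) : Equiv.Perm α)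
        (stab_preserves s _ (hfix h))
      map_one' := by
        ext y
        simp
      map_mul' := by
        intro a b
        ext y
        rfl }
  have hφ : Function.Injective φ := by
    rw [injective_iff_map_eq_one]
    intro h hh
    apply Subtype.ext
    apply Subtype.ext
    ext y
    by_cases hy : y ∈ s
    · have := Equiv.Perm.congr_fun hh ⟨y, hy⟩
      have h2 := congrArg Subtype.val this
      simpa [φ] using h2
    · exact hfix h y hy
  have := Subgroup.card_dvd_of_injective φ hφ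
  rw [Nat.card_perm] at this
  have h2 : Nat.card {y // y ∈ s} = s.card := by
    rw [Nat.card_eq_fintype_card, Fintype.card_coe]
  rw [h2] at this
  exact this

theorem not_sq_dvd_factorial {p : ℕ} (hp : p.Prime) : ¬ p ^ 2 ∣ p.factorial := by
  intro h
  obtain ⟨q, rfl⟩ : ∃ q, p = q + 1 := ⟨p - 1, by have := hp.one_lt; omega⟩
  rw [Nat.factorial_succ, sq] at h
  have h2 : (q + 1) ∣ q.factorial := Nat.dvd_of_mul_dvd_mul_left (Nat.succ_pos q) h
  have := (Nat.Prime.dvd_factorial hp).mp h2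
  omega

theorem exists_sylow_eq_zpowers {α : Type*} [Fintype α] [DecidableEq α]
    (G : Subgroup (Equiv.Perm α)) {p : ℕ} [hp : Fact p.Prime] {g : Equiv.Perm α}
    (hgc : g.IsCycle) (hgp : g.support.card = p) (hg : g ∈ G) {d : ℕ} (x : Fin d ↪ α)
    (hx : ∀ y, y ∈ Set.range x ↔ y ∉ g.support) :
    ∃ P : Sylow p (MulAction.stabilizer G x),
      (P : Subgroup (MulAction.stabilizer G x)).map (MulAction.stabilizer G x).subtype =
        Subgroup.zpowers (⟨g, hg⟩ : G) := by
  have hgSt : (⟨g, hg⟩ : G) ∈ MulAction.stabilizer G x := by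
    rw [mem_stabilizer_emb_iff G x g.support hx]
    intro y hy
    exact Equiv.Perm.notMem_support.mp hy
  set g'' : MulAction.stabilizer G x := ⟨⟨g, hg⟩, hgSt⟩ with hg''
  have hord : orderOf g'' = p := by
    rw [hg'', Subgroup.orderOf_mk, Subgroup.orderOf_mk, hgc.orderOf, hgp]
  have hQ₀ : IsPGroup p ↥(Subgroup.zpowers g'') := by
    apply IsPGroup.of_card (n := 1)
    rw [Nat.card_zpowers, hord, pow_one]
  obtain ⟨P, hP⟩ := hQ₀.exists_le_sylow
  obtain ⟨k, hk⟩ := P.isPGroup'.exists_card_eq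
  have hk1 : k ≤ 1 := by
    by_contra hk2
    push Not at hk2
    have h1 : p ^ 2 ∣ Nat.card (MulAction.stabilizer G x) := by
      have h2 : p ^ k ∣ Nat.card (MulAction.stabilizer G x) := by
        rw [← hk]; exact Subgroup.card_subgroup_dvd_card _
      exact (pow_dvd_pow p hk2).trans h2
    have h3 := h1.trans (card_stabilizer_dvd G x g.support hx)
    rw [hgp] at h3
    exact not_sq_dvd_factorial hp.out h3
  have hcard : Nat.card (P : Subgroup (MulAction.stabilizer G x)) ≤
      Nat.card (Subgroup.zpowers g'') := by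
    rw [hk, Nat.card_zpowers, hord]
    calc p ^ k ≤ p ^ 1 := Nat.pow_le_pow_right hp.out.pos hk1
      _ = p := pow_one p
  have hPeq : Subgroup.zpowers g'' = (P : Subgroup (MulAction.stabilizer G x)) :=
    Subgroup.eq_of_le_of_card_ge hP hcard
  refine ⟨P, ?_⟩
  rw [← hPeq, MonoidHom.map_zpowers]
  rfl

theorem exists_normalizer_acts {α : Type*} [Fintype α] [DecidableEq α]
    (G : Subgroup (Equiv.Perm α)) {d : ℕ} (hd : MulAction.IsMultiplyPretransitive G α d)
    {p : ℕ} [hp : Fact p.Prime] {g : Equiv.Perm α}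
    (hgc : g.IsCycle) (hgp : g.support.card = p) (hg : g ∈ G) (x : Fin d ↪ α)
    (hx : ∀ y, y ∈ Set.range x ↔ y ∉ g.support) (σ : Equiv.Perm (Fin d)) :
    ∃ h : G, h ∈ Subgroup.normalizer ((Subgroup.zpowers (⟨g, hg⟩ : G) : Subgroup G) : Set G) ∧
      ∀ i, (h : Equiv.Perm α) (x i) = x (σ i) := by
  obtain ⟨P, hP⟩ := exists_sylow_eq_zpowers G hgc hgp hg x hx
  have hfixed : ∀ i, x i ∈ MulAction.fixedPoints
      ((P : Subgroup (MulAction.stabilizer G x)).map (MulAction.stabilizer G x).subtype) α := by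
    intro i
    rw [hP, MulAction.mem_fixedPoints]
    rintro ⟨k, hk⟩
    obtain ⟨j, rfl⟩ := Subgroup.mem_zpowers_iff.mp hk
    show (((⟨g, hg⟩ : G) ^ j : G) : Equiv.Perm α) (x i) = x i
    rw [Subgroup.coe_zpow]
    apply Equiv.Perm.zpow_apply_eq_self_of_apply_eq_self
    exact Equiv.Perm.notMem_support.mp ((hx (x i)).mp ⟨i, rfl⟩)
  have hfixed' : ∀ i, (σ.toEmbedding.trans x) i ∈ MulAction.fixedPoints
      ((P : Subgroup (MulAction.stabilizer G x)).map (MulAction.stabilizer G x).subtype) α :=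
    fun i => hfixed (σ i)
  obtain ⟨h, hhN, hh⟩ := Cfsg.Agent.S4219.result hd x P x (σ.toEmbedding.trans x) hfixed hfixed'
  have hhN' : h ∈ Subgroup.normalizer
      ((Subgroup.zpowers (⟨g, hg⟩ : G) : Subgroup G) : Set G) := by
    rw [← hP]; exact hhN
  refine ⟨h, hhN', fun i => ?_⟩
  have := DFunLike.congr_fun hh i
  exact this

theorem commutator_commute_of_normalizer {G : Type*} [Group G] (z h₁ h₂ : G)
    (h1 : h₁ ∈ Subgroup.normalizer ((Subgroup.zpowers z : Subgroup G) : Set G))
    (h2 : h₂ ∈ Subgroup.normalizer ((Subgroup.zpowers z : Subgroup G) : Set G)) :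
    Commute ⁅h₁, h₂⁆ z := by
  set C := Subgroup.zpowers z with hC
  let f := C.normalizerMonoidHom
  have hcomm : ∀ a b : MulAut ↥C, a * b = b * a := by
    intro a b
    let e := IsCyclic.mulAutMulEquiv ↥C
    apply e.injective
    rw [map_mul, map_mul, mul_comm]
  have h3 : f ⁅(⟨h₁, h1⟩ : Subgroup.normalizer (C : Set G)), ⟨h₂, h2⟩⁆ = 1 := by
    rw [map_commutatorElement, commutatorElement_eq_one_iff_commute]
    exact hcomm _ _
  have h4 : ⁅(⟨h₁, h1⟩ : Subgroup.normalizer (C : Set G)), ⟨h₂, h2⟩⁆ ∈ f.ker := h3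
  rw [Subgroup.normalizerMonoidHom_ker, Subgroup.mem_subgroupOf] at h4
  have h5 : ⁅h₁, h₂⁆ ∈ Subgroup.centralizer (C : Set G) := h4
  rw [Subgroup.mem_centralizer_iff] at h5
  exact (h5 z (Subgroup.mem_zpowers z)).symm

theorem acts_mul {α : Type*} {d : ℕ} (x : Fin d ↪ α) (a b : Equiv.Perm α)
    (σ τ : Equiv.Perm (Fin d)) (ha : ∀ i, a (x i) = x (σ i)) (hb : ∀ i, b (x i) = x (τ i)) :
    ∀ i, (a * b) (x i) = x ((σ * τ) i) := by
  intro i
  rw [Equiv.Perm.mul_apply, hb, ha, Equiv.Perm.mul_apply]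

theorem acts_inv {α : Type*} {d : ℕ} (x : Fin d ↪ α) (a : Equiv.Perm α)
    (σ : Equiv.Perm (Fin d)) (ha : ∀ i, a (x i) = x (σ i)) :
    ∀ i, a⁻¹ (x i) = x (σ⁻¹ i) := by
  intro i
  rw [Equiv.Perm.inv_eq_iff_eq, ha]
  simp

/-- Jordan's Theorem: a primitive permutation group of degree `n ≥ 5` containing a `p`-cycle for a prime `p ≤ n - 3` contains the alternating group. -/
theorem result {α : Type*} [Fintype α] [DecidableEq α] (G : Subgroup (Equiv.Perm α)) (hG : MulAction.IsPreprimitive G α) {p : ℕ} (hp : p.Prime) (hn : 5 ≤ Fintype.card α) (hpn : p + 3 ≤ Fintype.card α) {g : Equiv.Perm α} (hgc : g.IsCycle) (hgp : g.support.card = p) (hg : g ∈ G) : alternatingGroup α ≤ G := by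
  classical
  subst hgp
  haveI : Fact (g.support.card).Prime := ⟨hp⟩
  have htr : MulAction.IsMultiplyPretransitive G α (Fintype.card α - g.support.card) :=
    mult_trans G hG hp hpn hgc rfl hg
  obtain ⟨x, hx⟩ := exists_enum g.support
  obtain ⟨i₀, i₁, i₂, h01, h02, h12⟩ :=
    Fintype.two_lt_card_iff.mp (by rw [Fintype.card_fin]; omega :
      2 < Fintype.card (Fin (Fintype.card α - g.support.card)))
  set σ : Equiv.Perm (Fin (Fintype.card α - g.support.card)) := Equiv.swap i₀ i₁ with hσ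
  set τ : Equiv.Perm (Fin (Fintype.card α - g.support.card)) := Equiv.swap i₀ i₂ with hτ
  obtain ⟨h₁, h1N, h1⟩ := exists_normalizer_acts G htr hgc rfl hg x hx σ
  obtain ⟨h₂, h2N, h2⟩ := exists_normalizer_acts G htr hgc rfl hg x hx τ
  have hcomm := commutator_commute_of_normalizer (⟨g, hg⟩ : G) h₁ h₂ h1N h2N
  set cP : Equiv.Perm α := ((⁅h₁, h₂⁆ : G) : Equiv.Perm α) with hcP
  have hcPG : cP ∈ G := (⁅h₁, h₂⁆ : G).2
  have hcPg : Commute cP g := by
    have := congrArg (Subtype.val : G → Equiv.Perm α) hcomm.eq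
    exact this
  have hcPdef : cP = (h₁ : Equiv.Perm α) * (h₂ : Equiv.Perm α) * (h₁ : Equiv.Perm α)⁻¹ *
      (h₂ : Equiv.Perm α)⁻¹ := by
    rw [hcP, commutatorElement_def]
    simp
  set ρ : Equiv.Perm (Fin (Fintype.card α - g.support.card)) := σ * τ * σ⁻¹ * τ⁻¹ with hρ
  have hacts : ∀ i, cP (x i) = x (ρ i) := by
    rw [hcPdef, hρ]
    exact acts_mul x _ _ _ _ (acts_mul x _ _ _ _ (acts_mul x _ _ _ _ h1 h2) (acts_inv x _ _ h1))
      (acts_inv x _ _ h2)
  obtain ⟨hc', hz⟩ := hgc.commute_iff.mp hcPg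
  obtain ⟨j, hj⟩ := Subgroup.mem_zpowers_iff.mp hz
  set θ : Equiv.Perm α := cP * (g ^ j)⁻¹ with hθ
  have hθG : θ ∈ G := G.mul_mem hcPG (G.inv_mem (G.zpow_mem hg j))
  let f : Fin (Fintype.card α - g.support.card) ≃ {y // y ∈ Set.range x} :=
    Equiv.ofInjective x x.injective
  have hθeq : θ = ρ.extendDomain f := by
    ext y
    by_cases hy : y ∈ Set.range x
    · obtain ⟨i, rfl⟩ := hy
      have h3 : x i = ((f i : {y // y ∈ Set.range x}) : α) := rfl
      have h4 : (ρ.extendDomain f) (x i) = x (ρ i) := by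
        conv_lhs => rw [h3]
        rw [Equiv.Perm.extendDomain_apply_image]
        rfl
      rw [h4, hθ, Equiv.Perm.mul_apply]
      have h5 : (g ^ j)⁻¹ (x i) = x i := by
        rw [Equiv.Perm.inv_eq_iff_eq]
        symm
        apply Equiv.Perm.zpow_apply_eq_self_of_apply_eq_self
        exact Equiv.Perm.notMem_support.mp ((hx (x i)).mp ⟨i, rfl⟩)
      rw [h5, hacts]
    · rw [Equiv.Perm.extendDomain_apply_not_subtype _ _ hy]
      have hys : y ∈ g.support := by
        by_contra h
        exact hy ((hx y).mpr h)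
      rw [hθ, Equiv.Perm.mul_apply]
      set z := (g ^ j)⁻¹ y with hz'
      have hzs : z ∈ g.support := by
        rw [hz', ← zpow_neg]
        exact Equiv.Perm.zpow_apply_mem_support.mpr hys
      have h6 := Equiv.Perm.ofSubtype_subtypePerm_of_mem hc' hzs
      rw [← h6, ← hj, hz']
      simp
  have h3c : (σ * τ).IsThreeCycle := Equiv.Perm.isThreeCycle_swap_mul_swap_same h01 h02 h12
  have hρ2 : ρ = (σ * τ) * (σ * τ) := by
    rw [hρ, hσ, hτ, Equiv.swap_inv, Equiv.swap_inv]
    simp [mul_assoc]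
  have hρ3 : ρ.IsThreeCycle := by rw [hρ2]; exact h3c.isThreeCycle_sq
  have hθ3 : θ.IsThreeCycle := by
    rw [← card_support_eq_three_iff, hθeq, Equiv.Perm.card_support_extend_domain,
      hρ3.card_support]
  exact Equiv.Perm.alternatingGroup_le_of_isPreprimitive_of_isThreeCycle_mem hG hθ3 hθG

end Cfsg.Agent.S0713
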