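import Mathlib
import Cfsg.Statements.S0063

set_option autoImplicit false
open Pointwise
open Cfsg

namespace Cfsg.Agent.S0063

theorem aux (p : ℕ) [Fact p.Prime] : ∀ (m : ℕ) (G : Type*) [Group G] [Finite G],
    Nat.card G = p ^ m → 1 < m → Group.nilpotencyClass G ≤ m - 1 := by
  intro m
  induction m using Nat.strong_induction_on with
  | _ m ih =>
    intro G _ _ hG hm
    have hp : p.Prime := Fact.out
    have hPG : IsPGroup p G := IsPGroup.of_card hG
    haveI : Group.IsNilpotent G := hPG.isNilpotent
    haveI : Nontrivial G := by
      rw [← Finite.one_lt_card_iff_nontrivial, hG]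
      exact Nat.one_lt_pow (by omega) hp.one_lt
    have hZnt : Nontrivial (Subgroup.center G) := hPG.center_nontrivial
    have hZp : IsPGroup p (Subgroup.center G) := hPG.to_subgroup _
    obtain ⟨k, hk⟩ := IsPGroup.iff_card.1 hZp
    have hk1 : 1 ≤ k := by
      rcases k with _ | k
      · rw [pow_zero] at hk
        have : Subsingleton (Subgroup.center G) := (Nat.card_eq_one_iff_unique.1 hk).1
        exact absurd hZnt (not_nontrivial _)
      · omega
    have hmul : Nat.card (Subgroup.center G) * Nat.card (G ⧸ Subgroup.center G) = Nat.card G := by
      rw [← Subgroup.index_eq_card]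
      exact Subgroup.card_mul_index _
    have hkm : k ≤ m := by
      have : p ^ k ∣ p ^ m := by rw [← hk, ← hG]; exact Subgroup.card_subgroup_dvd_card _
      exact (Nat.pow_dvd_pow_iff_le_right hp.one_lt).1 this
    have hq : Nat.card (G ⧸ Subgroup.center G) = p ^ (m - k) := by
      have h1 : p ^ k * Nat.card (G ⧸ Subgroup.center G) = p ^ k * p ^ (m - k) := by
        rw [← hk, hmul, hG, hk, ← pow_add]
        congr 1
        omega
      exact Nat.eq_of_mul_eq_mul_left (pow_pos hp.pos k) h1
    -- three cases
    rcases Nat.lt_or_ge 1 (m - k) with h2 | h2
    · have := ih (m - k) (by omega) (G ⧸ Subgroup.center G) hq h2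
      rw [Group.nilpotencyClass_eq_quotient_center_plus_one]
      omega
    · have hcomm : ∀ a b : G, a * b = b * a := by
        rcases Nat.eq_or_lt_of_le h2 with h3 | h3
        · -- quotient of order p
          rw [h3, pow_one] at hq
          haveI : IsCyclic (G ⧸ Subgroup.center G) := isCyclic_of_prime_card hq
          intro a b
          exact commutative_of_cyclic_center_quotient (QuotientGroup.mk' (Subgroup.center G))
            (by rw [QuotientGroup.ker_mk']) a b
        · -- center is everything
          have hmk : m - k = 0 := by omega
          have htop : Subgroup.center G = ⊤ := by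
            apply Subgroup.eq_top_of_card_eq
            rw [hk, hG]
            congr 1
            omega
          intro a b
          have : a ∈ Subgroup.center G := by rw [htop]; trivial
          exact ((Subgroup.mem_center_iff.1 this) b).symm
      have hle1 : Group.nilpotencyClass G ≤ 1 := by
        rw [Group.IsNilpotent.nilpotencyClass_le_one_iff]
        exact ⟨⟨hcomm⟩⟩
      omega

/-- A finite group of prime-power order p ^ m with m > 1 is nilpotent of class at most m - 1. -/
theorem result {G : Type*} [Group G] [Finite G] (p m : ℕ) [Fact p.Prime]
    (hG : Nat.card G = p ^ m) (hm : 1 < m) : Group.nilpotencyClass G ≤ m - 1 :=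
  aux p m G hG hm

end Cfsg.Agent.S0063
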