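import Mathlib
import Cfsg.Statements.S1080

set_option autoImplicit false
open Cfsg

namespace Cfsg.Agent.S1080

open Cfsg.Lie Cfsg.Lie.ChevalleyDatum

theorem xMat_map {F : Type*} [Field F] (D : ChevalleyDatum) (f : F ≃+* F) (r : Fin D.nroots) (t : F) :
    (D.xMat F r t).map f = D.xMat F r (f t) := by
  ext row col
  simp only [Matrix.map_apply]
  unfold ChevalleyDatum.xMat
  simp only [Matrix.of_apply]
  rcases col with i | s
  · rcases row with i' | u
    · simp only
      split_ifs <;> simp
    · simp only
      split_ifs <;> simp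
  · simp only
    by_cases hs : s = r
    · simp only [hs, if_true]
      rcases row with i | u
      · simp
      · simp only
        split_ifs <;> simp
    · simp only [hs, if_false]
      by_cases hs2 : s.val = D.negIdx.getD r.val 0
      · simp only [hs2, if_true]
        rcases row with i | u
        · simp
        · simp only
          split_ifs <;> simp
      · simp only [hs2, if_false]
        rcases row with i | u
        · simp
        · simp only [map_add, map_list_sum, List.map_map]
          congr 1
          · split_ifs <;> simp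
          · congr 1
            apply List.map_congr_left
            intro km _
            simp

/-- The entrywise action of a field automorphism on `GL`. -/
noncomputable def Phi {F : Type*} [Field F] (D : ChevalleyDatum) (f : F ≃+* F) : GL D.Idx F ≃* GL D.Idx F :=
  Units.mapEquiv (RingEquiv.mapMatrix f).toMulEquiv

theorem Phi_coe {F : Type*} [Field F] (D : ChevalleyDatum) (f : F ≃+* F) (g : GL D.Idx F) :
    ((Phi D f g : GL D.Idx F) : Matrix D.Idx D.Idx F) = (g : Matrix D.Idx D.Idx F).map f := by
  rfl

theorem Phi_map_group {F : Type*} [Field F] (D : ChevalleyDatum) (f : F ≃+* F) :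
    (D.group F).map (Phi D f).toMonoidHom = D.group F := by
  unfold ChevalleyDatum.group
  rw [MonoidHom.map_closure]
  congr 1
  ext g
  constructor
  · rintro ⟨g0, ⟨r, t, hg0⟩, rfl⟩
    refine ⟨r, f t, ?_⟩
    show ((Phi D f g0 : GL D.Idx F) : Matrix D.Idx D.Idx F) = _
    rw [Phi_coe, hg0, xMat_map]
  · rintro ⟨r, t, hg⟩
    refine ⟨(Phi D f).symm g, ⟨r, f.symm t, ?_⟩, ?_⟩
    · have h1 : ((Phi D f ((Phi D f).symm g) : GL D.Idx F) : Matrix D.Idx D.Idx F)
          = (((Phi D f).symm g : GL D.Idx F) : Matrix D.Idx D.Idx F).map f := Phi_coe D f _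
      rw [MulEquiv.apply_symm_apply, hg] at h1
      have h2 : (D.xMat F r (f.symm t)).map f = D.xMat F r t := by
        rw [xMat_map, RingEquiv.apply_symm_apply]
      rw [← h2] at h1
      -- injectivity of entrywise map
      ext i j
      have := congrFun (congrFun h1 i) j
      simp only [Matrix.map_apply] at this
      exact (f.injective this).symm
    · show (Phi D f) ((Phi D f).symm g) = g
      rw [MulEquiv.apply_symm_apply]

/-- Field automorphisms: for every field automorphism `f` there is a group automorphism sending each `x_r(t)` to `x_r(f t)`. -/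
theorem result {F : Type*} [Field F] (D : Cfsg.Lie.ChevalleyDatum) (hD : D ∈ [Cfsg.Lie.chevG2, Cfsg.Lie.chevB2, Cfsg.Lie.chevD4, Cfsg.Lie.chevF4, Cfsg.Lie.chevE6, Cfsg.Lie.chevE7, Cfsg.Lie.chevE8]) (f : F ≃+* F) :
    ∃ α : ↥(D.group F) ≃* ↥(D.group F), ∀ (g : ↥(D.group F)) (r : ℕ) (t : F), r < D.nroots →
      ((g : GL D.Idx F) : Matrix D.Idx D.Idx F) = D.x F r t → ((α g : GL D.Idx F) : Matrix D.Idx D.Idx F) = D.x F r (f t) := by
  refine ⟨((Phi D f).subgroupMap (D.group F)).trans (MulEquiv.subgroupCongr (Phi_map_group D f)), ?_⟩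
  intro g r t hr hg
  have h1 : (((((Phi D f).subgroupMap (D.group F)).trans (MulEquiv.subgroupCongr (Phi_map_group D f))) g : D.group F) : GL D.Idx F)
      = Phi D f (g : GL D.Idx F) := rfl
  rw [h1, Phi_coe, hg]
  unfold ChevalleyDatum.x
  rw [dif_pos hr, dif_pos hr, xMat_map]

end Cfsg.Agent.S1080
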