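import Mathlib
import Cfsg.Statements.S0030
import Cfsg.Agent.Lib.Helper1.Coprime

set_option autoImplicit false
open Cfsg

namespace Cfsg.Agent.S0030

open Cfsg.Agent.Helper1

/-- Under coprime action fixed points of a product of two invariant subgroups factor: if K = X Y with X and Y normalised by A then every A-fixed element of K is a product of an A-fixed element of X and an A-fixed element of Y. -/
theorem result {G : Type*} [Group G] [Finite G] (A K : Subgroup G) (hAK : A ≤ Subgroup.normalizer (K : Set G))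
    (hcop : (Nat.card A).Coprime (Nat.card K)) (hsolv : Group.IsSolvable A ∨ Group.IsSolvable K)
    (X Y : Subgroup G) (hX : X ≤ K) (hY : Y ≤ K) (hXA : A ≤ Subgroup.normalizer (X : Set G)) (hYA : A ≤ Subgroup.normalizer (Y : Set G))
    (hXY : ∀ k ∈ K, ∃ x ∈ X, ∃ y ∈ Y, k = x * y) (k : G) (hk : k ∈ K ⊓ Subgroup.centralizer (A : Set G)) :
    ∃ x ∈ X ⊓ Subgroup.centralizer (A : Set G), ∃ y ∈ Y ⊓ Subgroup.centralizer (A : Set G), k = x * y := by
  obtain ⟨hkK, hkA⟩ := Subgroup.mem_inf.mp hk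
  obtain ⟨x, hx, y, hy, hxy⟩ := hXY k hkK
  have hDK : X ⊓ Y ≤ K := inf_le_left.trans hX
  have hcop' : (Nat.card A).Coprime (Nat.card (X ⊓ Y : Subgroup G)) :=
    Nat.Coprime.coprime_dvd_right (Subgroup.card_dvd_of_le hDK) hcop
  have hsolv' : Group.IsSolvable A ∨ Group.IsSolvable (X ⊓ Y : Subgroup G) := by
    rcases hsolv with h | h
    · exact Or.inl h
    · right
      exact Group.isSolvable_of_isSolvable_injective (f := Subgroup.inclusion hDK)
        (Subgroup.inclusion_injective hDK)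
  have hAD : A ≤ Subgroup.normalizer ((X ⊓ Y : Subgroup G) : Set G) :=
    (le_inf hXA hYA).trans Subgroup.inf_normalizer_le_normalizer_inf
  obtain ⟨c, hc, hcD⟩ := exists_centralizer_mem_coset (X ⊓ Y) A hAD hcop' hsolv' x (by
    intro a ha
    apply Subgroup.mem_inf.mpr
    constructor
    · have h1 : a * x * a⁻¹ ∈ X := (Subgroup.mem_normalizer_iff.mp (hXA ha) x).mp hx
      have : x⁻¹ * a * x * a⁻¹ = x⁻¹ * (a * x * a⁻¹) := by group
      rw [this]
      exact X.mul_mem (X.inv_mem hx) h1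
    · have h1 : a * y⁻¹ * a⁻¹ ∈ Y := (Subgroup.mem_normalizer_iff.mp (hYA ha) y⁻¹).mp (Y.inv_mem hy)
      have h2 : a * k = k * a := (Subgroup.mem_centralizer_iff.mp hkA) a ha
      have : x⁻¹ * a * x * a⁻¹ = y * (a * y⁻¹ * a⁻¹) := by
        have h3 : a * x = x * y * a * y⁻¹ := by
          calc a * x = (a * k) * y⁻¹ := by rw [hxy]; group
            _ = (k * a) * y⁻¹ := by rw [h2]
            _ = x * y * a * y⁻¹ := by rw [hxy]
        calc x⁻¹ * a * x * a⁻¹ = x⁻¹ * (a * x) * a⁻¹ := by group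
          _ = x⁻¹ * (x * y * a * y⁻¹) * a⁻¹ := by rw [h3]
          _ = y * (a * y⁻¹ * a⁻¹) := by group
      rw [this]
      exact Y.mul_mem hy h1)
  obtain ⟨hcX, hcY⟩ := Subgroup.mem_inf.mp hcD
  refine ⟨c, Subgroup.mem_inf.mpr ⟨?_, hc⟩, c⁻¹ * k, Subgroup.mem_inf.mpr ⟨?_, ?_⟩, by group⟩
  · have : c = x * (x⁻¹ * c) := by group
    rw [this]
    exact X.mul_mem hx hcX
  · have : c⁻¹ * k = (x⁻¹ * c)⁻¹ * y := by rw [hxy]; group
    rw [this]
    exact Y.mul_mem (Y.inv_mem hcY) hy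
  · exact Subgroup.mul_mem _ (Subgroup.inv_mem _ hc) hkA

end Cfsg.Agent.S0030
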