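import Mathlib
import Cfsg.Statements.S4967
import Cfsg.Agent.Lib.Helper3.SchurField

set_option autoImplicit false
set_option linter.style.haveILetI false

open Cfsg

namespace Cfsg.Agent.S4967

open Module Cfsg.Agent.Helper3.SchurField

/-- If inversion on `H` is trivial on the character values, `H` has order at most two and acts
by scalars `±1`. -/
theorem of_inv_eq {H L : Type*} [CommGroup H] [Finite H] [Field L] (χ : H →* L)
    (hχ : Function.Injective χ) (hinv : ∀ h : H, χ h = χ h⁻¹) :
    Nat.card H ≤ 2 ∧ ∀ h : H, χ h = 1 ∨ χ h = -1 := by
  classical
  have hpm : ∀ h : H, χ h = 1 ∨ χ h = -1 := by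
    intro h
    apply mul_self_eq_one_iff.mp
    nth_rewrite 2 [hinv h]
    rw [← map_mul, mul_inv_cancel, map_one]
  refine ⟨?_, hpm⟩
  have hinj : Function.Injective (fun h : H => decide (χ h = 1)) := by
    intro h h' hh
    have hh' : decide (χ h = 1) = decide (χ h' = 1) := hh
    apply hχ
    by_cases h1 : χ h = 1
    · have : decide (χ h' = 1) = true := by rw [← hh']; exact decide_eq_true h1
      rw [h1, of_decide_eq_true this]
    · have h1' : ¬ χ h' = 1 := by
        intro h2
        have : decide (χ h = 1) = true := by rw [hh']; exact decide_eq_true h2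
        exact h1 (of_decide_eq_true this)
      rw [(hpm h).resolve_left h1, (hpm h').resolve_left h1']
  have := Nat.card_le_card_of_injective _ hinj
  have h2 : Nat.card Bool = 2 := by rw [Nat.card_eq_fintype_card, Fintype.card_bool]
  rwa [h2] at this

/-- Let F be a finite field with r elements and of characteristic p, H a finite abelian group of order prime to p, and V a faithful irreducible representation of H over F of dimension n (faithful: distinct elements act differently; irreducible: the only H-invariant subspaces are 0 and V). Call V self-dual when it carries a nondegenerate H-invariant bilinear form. If n = 1 and V is self-dual then H has order at most 2. If n ≥ 2 then V is self-dual if and only if n is even and the order of H divides r^(n/2) + 1. -/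
theorem result {F : Type*} [Field F] [Fintype F] (p : ℕ) [Fact p.Prime] [CharP F p] {H : Type*} [CommGroup H] [Finite H] (hcop : ¬ p ∣ Nat.card H) {V : Type*} [AddCommGroup V] [Module F V] [FiniteDimensional F V] (ρ : Representation F H V) (hfaith : Function.Injective ρ) (hirr : ∀ U : Submodule F V, (∀ h : H, ∀ u ∈ U, ρ h u ∈ U) → U = ⊥ ∨ U = ⊤) : (Module.finrank F V = 1 → (∃ B : LinearMap.BilinForm F V, B.Nondegenerate ∧ ∀ h : H, ∀ x y : V, B (ρ h x) (ρ h y) = B x y) → Nat.card H ≤ 2) ∧ (2 ≤ Module.finrank F V → ((∃ B : LinearMap.BilinForm F V, B.Nondegenerate ∧ ∀ h : H, ∀ x y : V, B (ρ h x) (ρ h y) = B x y) ↔ (Even (Module.finrank F V) ∧ Nat.card H ∣ Fintype.card F ^ (Module.finrank F V / 2) + 1))) := by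
  classical
  have hirr' : Irr ρ := hirr
  by_cases hV : Nontrivial V
  swap
  · have h0 : finrank F V = 0 := by
      rw [not_nontrivial_iff_subsingleton] at hV
      exact finrank_zero_of_subsingleton
    constructor
    · intro h1; omega
    · intro h2; omega
  obtain ⟨L, instF, instA, ⟨D⟩⟩ := exists_data ρ hirr'
  haveI := D.finite
  have hn : finrank F L = finrank F V := D.finrank_eq
  have hχinj := D.χ_injective hfaith
  constructor
  · rintro h1 ⟨B, hB, hinv⟩
    obtain ⟨i, hi, -, hpow⟩ := D.frob_of_form B hB hinv
    have hi0 : i = 0 := by omega
    rw [hi0, pow_zero] at hpow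
    simp only [pow_one] at hpow
    exact (of_inv_eq D.χ hχinj hpow).1
  · intro h2
    constructor
    · rintro ⟨B, hB, hinv⟩
      obtain ⟨i, hi, hcase, hpow⟩ := D.frob_of_form B hB hinv
      rcases hcase with h0 | h0
      · exfalso
        have hi0 : i = 0 := by omega
        rw [hi0, pow_zero] at hpow
        simp only [pow_one] at hpow
        have hpm := (of_inv_eq D.χ hχinj hpow).2
        obtain ⟨v, hv⟩ := exists_ne (0 : V)
        rcases hirr (Submodule.span F {v}) (by
          intro h u hu
          rcases hpm h with h1 | h1
          · have : ρ h u = u := by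
              rw [← D.hχ, h1, map_one]; rfl
            rw [this]; exact hu
          · have : ρ h u = -u := by
              rw [← D.hχ, h1, map_neg, map_one]; rfl
            rw [this]; exact Submodule.neg_mem _ hu) with hb | ht
        · apply hv
          have : v ∈ Submodule.span F {v} := Submodule.mem_span_singleton_self v
          rw [hb] at this
          exact (Submodule.mem_bot F).mp this
        · have h1 : finrank F (Submodule.span F {v}) = 1 := finrank_span_singleton hv
          rw [ht, finrank_top] at h1
          omega
      · have hi2 : finrank F V = i + i := by omega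
        refine ⟨⟨i, hi2⟩, ?_⟩
        have hdiv : finrank F V / 2 = i := by omega
        rw [hdiv]
        have hpow' : ∀ h : H, h ^ (Fintype.card F ^ i + 1) = 1 := by
          intro h
          apply hχinj
          rw [map_pow, map_one, pow_succ, hpow h, ← map_mul, inv_mul_cancel, map_one]
        haveI : IsCyclic H := isCyclic_of_injective_ringHom D.χ hχinj
        rw [← IsCyclic.exponent_eq_card]
        exact Monoid.exponent_dvd_of_forall_pow_eq_one hpow'
    · rintro ⟨heven, hdvd⟩
      apply D.exists_form (finrank F V / 2)
      intro h
      obtain ⟨c, hc⟩ := hdvd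
      rw [← map_pow, hc, pow_mul, pow_card_eq_one', one_pow, map_one]

end Cfsg.Agent.S4967
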