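import Mathlib
import Cfsg.Statements.S3767
import Cfsg.Agent.Lib.Helper19.SympSection
import Cfsg.Agent.Lib.Helper19.CommPairing
import Cfsg.Agent.Lib.Helper21.FreeAction
import Cfsg.Agent.Lib.Helper21.PGroupFrattini
import Cfsg.Agent.S0022

set_option autoImplicit false
open Cfsg
open scoped commutatorElement

namespace Cfsg.Agent.S3767

open Cfsg.Agent.Helper19 Cfsg.Agent.Helper19.SelfDual

/-- the arithmetic part -/
theorem arith (p n h : ℕ) (hp : p.Prime) (hcop : h.Coprime p) (h2n : h ∣ p ^ (2 * n) - 1)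
    (hcase : h ≤ 2 ∨ ∃ e, 1 ≤ e ∧ h ∣ p ^ e + 1) : h ∣ p ^ n + 1 ∨ h ∣ p ^ n - 1 := by
  have hpn : 1 ≤ p ^ n := Nat.one_le_pow _ _ hp.pos
  have hh0 : h ≠ 0 := by
    rintro rfl
    rw [Nat.coprime_zero_left] at hcop
    exact hp.one_lt.ne' hcop
  -- a general consequence: u ^ n = ± 1 gives the result
  have conclude : ((p : ZMod h) ^ n = 1 ∨ (p : ZMod h) ^ n = -1) → h ∣ p ^ n + 1 ∨ h ∣ p ^ n - 1 := by
    rintro (h1 | h1)
    · right
      rw [← ZMod.natCast_eq_zero_iff, Nat.cast_sub hpn, Nat.cast_pow, h1]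
      simp
    · left
      rw [← ZMod.natCast_eq_zero_iff, Nat.cast_add, Nat.cast_pow, h1]
      simp
  have small : h ≤ 2 → h ∣ p ^ n + 1 ∨ h ∣ p ^ n - 1 := by
    intro hle
    interval_cases h
    · exact absurd rfl hh0
    · left; exact one_dvd _
    · left
      have hodd : Odd p := by
        rcases hp.eq_two_or_odd' with rfl | ho
        · simp at hcop
        · exact ho
      have : Odd (p ^ n) := hodd.pow
      exact even_iff_two_dvd.1 (this.add_odd odd_one)
  by_cases hle : h ≤ 2
  · exact small hle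
  rcases hcase with hle' | ⟨e, he, hdvd⟩
  · exact small hle'
  · apply conclude
    have h11 : (1 : ZMod h) ≠ -1 := by
      intro h1
      have h2 : ((2 : ℕ) : ZMod h) = 0 := by
        have : (1 : ZMod h) + 1 = 0 := by nth_rw 1 [h1]; simp
        rw [Nat.cast_ofNat, ← one_add_one_eq_two]; exact this
      rw [ZMod.natCast_eq_zero_iff] at h2
      exact hle (Nat.le_of_dvd (by norm_num) h2)
    set u : ZMod h := (p : ZMod h) with hu
    have hu2n : u ^ (2 * n) = 1 := by
      have := (ZMod.natCast_eq_zero_iff (p ^ (2 * n) - 1) h).2 h2n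
      rw [Nat.cast_sub (Nat.one_le_pow _ _ hp.pos), Nat.cast_pow, Nat.cast_one, sub_eq_zero] at this
      exact this
    have hue : u ^ e = -1 := by
      have := (ZMod.natCast_eq_zero_iff (p ^ e + 1) h).2 hdvd
      rw [Nat.cast_add, Nat.cast_pow, Nat.cast_one] at this
      exact eq_neg_of_add_eq_zero_left this
    have hu2e : u ^ (2 * e) = 1 := by
      rw [mul_comm, pow_mul, hue]; simp
    set g := Nat.gcd n e with hg
    have hg2 : u ^ (2 * g) = 1 := by
      have : Nat.gcd (2 * n) (2 * e) = 2 * g := Nat.gcd_mul_left 2 n e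
      rw [← this, pow_gcd_eq_one]
      exact ⟨hu2n, hu2e⟩
    set t := u ^ g with ht
    have ht2 : t ^ 2 = 1 := by rw [ht, ← pow_mul, mul_comm]; exact hg2
    obtain ⟨n', hn'⟩ : g ∣ n := Nat.gcd_dvd_left n e
    obtain ⟨e', he'⟩ : g ∣ e := Nat.gcd_dvd_right n e
    have hun : u ^ n = t ^ n' := by rw [ht, ← pow_mul, ← hn']
    have hue' : u ^ e = t ^ e' := by rw [ht, ← pow_mul, ← he']
    have hpowt : ∀ k : ℕ, t ^ k = 1 ∨ t ^ k = t := by
      intro k
      induction k with
      | zero => left; simp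
      | succ k ih =>
        rcases ih with h1 | h1
        · right; rw [pow_succ, h1, one_mul]
        · left; rw [pow_succ, h1, ← pow_two, ht2]
    rcases hpowt e' with h1 | h1
    · exfalso
      apply h11
      calc (1 : ZMod h) = t ^ e' := h1.symm
        _ = u ^ e := hue'.symm
        _ = -1 := hue
    · have htm : t = -1 := by
        calc t = t ^ e' := h1.symm
          _ = u ^ e := hue'.symm
          _ = -1 := hue
      rcases hpowt n' with h2 | h2
      · left; rw [hun, h2]
      · right; rw [hun, h2, htm]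

variable {G : Type*} [Group G]

/-- semiregular conjugation action on `A \ Z` -/
theorem semireg [Finite G] (H A Z : Subgroup G) (hZA : Z ≤ A)
    (hHA : H ≤ Subgroup.normalizer (A : Set G)) (hHZ : ∀ g ∈ H, ∀ z ∈ Z, g * z = z * g)
    (hfix : ∀ g ∈ H, g ≠ 1 → ∀ x ∈ A, g * x = x * g → x ∈ Z) :
    Nat.card H ∣ Nat.card A - Nat.card Z := by
  classical
  let X := {x : G // x ∈ A ∧ x ∉ Z}
  have hmem : ∀ (g : H) (x : X), (g : G) * x.1 * (g : G)⁻¹ ∈ A ∧ (g : G) * x.1 * (g : G)⁻¹ ∉ Z := by
    intro g x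
    refine ⟨(Subgroup.mem_normalizer_iff.1 (hHA g.2) x.1).1 x.2.1, ?_⟩
    intro hz
    apply x.2.2
    have h1 := hHZ g g.2 _ hz
    have h2 : x.1 = (g : G)⁻¹ * ((g : G) * x.1 * (g : G)⁻¹) * g := by group
    have h3 : (g : G)⁻¹ * ((g : G) * x.1 * (g : G)⁻¹) * g = (g : G) * x.1 * (g : G)⁻¹ := by
      rw [mul_assoc, ← h1, inv_mul_cancel_left]
    rw [h2, h3]; exact hz
  let act : MulAction H X :=
    { smul := fun g x => ⟨(g : G) * x.1 * (g : G)⁻¹, hmem g x⟩
      one_smul := by
        intro x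
        apply Subtype.ext
        show ((1 : H) : G) * x.1 * ((1 : H) : G)⁻¹ = x.1
        simp
      mul_smul := by
        intro a b x
        apply Subtype.ext
        show ((a * b : H) : G) * x.1 * ((a * b : H) : G)⁻¹ =
          (a : G) * ((b : G) * x.1 * (b : G)⁻¹) * (a : G)⁻¹
        rw [Subgroup.coe_mul]; group }
  have hfree : ∀ (g : H) (x : X), g • x = x → g = 1 := by
    intro g x hgx
    by_contra hg
    have h1 : (g : G) * x.1 * (g : G)⁻¹ = x.1 := congrArg Subtype.val hgx
    have h2 : (g : G) * x.1 = x.1 * g := by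
      calc (g : G) * x.1 = ((g : G) * x.1 * (g : G)⁻¹) * g := by group
        _ = x.1 * g := by rw [h1]
    have hg' : (g : G) ≠ 1 := fun h => hg (Subtype.ext h)
    exact x.2.2 (hfix g g.2 hg' x.1 x.2.1 h2)
  have hdvd := Cfsg.Agent.Helper21.card_dvd_of_free hfree
  have hX : Nat.card X = Nat.card A - Nat.card Z := by
    have e : X ≃ ((A : Set G) \ (Z : Set G) : Set G) :=
      { toFun := fun x => ⟨x.1, x.2.1, x.2.2⟩
        invFun := fun x => ⟨x.1, x.2.1, x.2.2⟩
        left_inv := fun x => rfl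
        right_inv := fun x => rfl }
    rw [Nat.card_congr e, Nat.card_coe_set_eq, Set.ncard_sdiff (by exact_mod_cast hZA),
      ← Nat.card_coe_set_eq, ← Nat.card_coe_set_eq]
    rfl
  rw [← hX]
  exact hdvd

/-- Let P be an extraspecial p-group of order p^(2n+1) and H a cyclic group of order h prime to p acting on P (inside a common finite group: H normalizes P) so that C_P(x) = Z(P) for every non-identity x ∈ H. Then h divides p^n + 1 or h divides p^n − 1. -/
theorem result {G : Type*} [Group G] [Finite G] {p : ℕ} [Fact p.Prime] (P H : Subgroup G) (hP : Cfsg.IsExtraspecial p ↥P) (n : ℕ) (hn : Nat.card P = p ^ (2 * n + 1)) (hH : IsCyclic H) (hcop : (Nat.card H).Coprime p) (hHP : H ≤ Subgroup.normalizer (P : Set G)) (hfix : ∀ x ∈ H, x ≠ 1 → P ⊓ Subgroup.centralizer {x} = (Subgroup.center ↥P).map P.subtype) : Nat.card H ∣ p ^ n + 1 ∨ Nat.card H ∣ p ^ n - 1 := by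
  classical
  have hp : p.Prime := Fact.out
  obtain ⟨⟨hPp, hfrat, hcommP⟩, hcardZ0⟩ := hP
  set Z := (Subgroup.center ↥P).map P.subtype with hZdef
  have hZmem : ∀ x (hx : x ∈ P), x ∈ Z ↔ (⟨x, hx⟩ : P) ∈ Subgroup.center ↥P := by
    intro x hx
    rw [hZdef, Subgroup.mem_map]
    constructor
    · rintro ⟨y, hy, hyx⟩
      have : y = ⟨x, hx⟩ := Subtype.ext hyx
      rw [← this]; exact hy
    · intro h
      exact ⟨⟨x, hx⟩, h, rfl⟩
  have hZP : Z ≤ P := by
    rw [hZdef]
    intro x hx
    rw [Subgroup.mem_map] at hx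
    obtain ⟨y, _, rfl⟩ := hx
    exact y.2
  have hZcard : Nat.card Z = p := by
    rw [hZdef, Subgroup.card_map_of_injective (Subgroup.subtype_injective P), hcardZ0]
  have hZcen : ∀ z ∈ Z, ∀ x ∈ P, z * x = x * z := by
    intro z hz x hx
    have h1 := (hZmem z (hZP hz)).1 hz
    rw [Subgroup.mem_center_iff] at h1
    have := h1 ⟨x, hx⟩
    exact (congrArg Subtype.val this).symm
  have hcen : ∀ x ∈ P, (∀ y ∈ P, x * y = y * x) → x ∈ Z := by
    intro x hx h
    rw [hZmem x hx, Subgroup.mem_center_iff]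
    intro y
    apply Subtype.ext
    exact (h y y.2).symm
  have hcomm : ∀ x ∈ P, ∀ y ∈ P, ⁅x, y⁆ ∈ Z := by
    intro x hx y hy
    have h1 : ⁅(⟨x, hx⟩ : P), (⟨y, hy⟩ : P)⁆ ∈ commutator ↥P :=
      Subgroup.commutator_mem_commutator (Subgroup.mem_top _) (Subgroup.mem_top _)
    rw [hcommP] at h1
    have hxy : ⁅x, y⁆ ∈ P := by
      rw [commutatorElement_def]
      exact P.mul_mem (P.mul_mem (P.mul_mem hx hy) (P.inv_mem hx)) (P.inv_mem hy)
    have h2 : (⁅(⟨x, hx⟩ : P), (⟨y, hy⟩ : P)⁆ : P) = ⟨⁅x, y⁆, hxy⟩ := by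
      apply Subtype.ext
      simp [commutatorElement_def]
    rw [h2] at h1
    exact (hZmem _ _).2 h1
  have hpow : ∀ x ∈ P, x ^ p ∈ Z := by
    intro x hx
    have h1 := Cfsg.Agent.Helper21.pow_mem_frattini_of_isPGroup hPp (⟨x, hx⟩ : P)
    rw [hfrat] at h1
    have h2 : ((⟨x, hx⟩ : P) ^ p) = ⟨x ^ p, P.pow_mem hx p⟩ := by
      apply Subtype.ext
      simp
    rw [h2] at h1
    exact (hZmem _ _).2 h1
  have hfixmem : ∀ g ∈ H, g ≠ 1 → ∀ x ∈ P, g * x = x * g → x ∈ Z := by
    intro g hg hg1 x hx hgx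
    have h1 : x ∈ P ⊓ Subgroup.centralizer {g} := by
      refine ⟨hx, ?_⟩
      show x ∈ Subgroup.centralizer {g}
      rw [Subgroup.mem_centralizer_iff]
      intro y hy
      rw [Set.mem_singleton_iff] at hy
      rw [hy]; exact hgx
    rw [hfix g hg hg1] at h1
    exact h1
  have hHZ : ∀ g ∈ H, ∀ z ∈ Z, g * z = z * g := by
    intro g hg z hz
    by_cases hg1 : g = 1
    · rw [hg1]; simp
    · have h1 : z ∈ P ⊓ Subgroup.centralizer {g} := by
        rw [hfix g hg hg1]; exact hz
      have h2 : z ∈ Subgroup.centralizer {g} := h1.2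
      rw [Subgroup.mem_centralizer_iff] at h2
      exact h2 g rfl
  have hHc : ∀ a ∈ H, ∀ b ∈ H, a * b = b * a := by
    intro a ha b hb
    have := hH
    obtain ⟨c, hc⟩ := IsCyclic.exists_generator (α := H)
    obtain ⟨i, hi⟩ := Subgroup.mem_zpowers_iff.1 (hc ⟨a, ha⟩)
    obtain ⟨j, hj⟩ := Subgroup.mem_zpowers_iff.1 (hc ⟨b, hb⟩)
    have h1 : (⟨a, ha⟩ : H) * ⟨b, hb⟩ = ⟨b, hb⟩ * ⟨a, ha⟩ := by
      rw [← hi, ← hj, ← zpow_add, ← zpow_add, add_comm]
    exact congrArg Subtype.val h1
  have hcopH : ¬ p ∣ Nat.card H := by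
    intro h
    have := Nat.Coprime.eq_one_of_dvd hcop.symm h
    exact hp.one_lt.ne' this
  -- (M1)
  have hM1 : Nat.card H ∣ p ^ (2 * n) - 1 := by
    have h1 := semireg H P Z hZP hHP hHZ hfixmem
    rw [hn, hZcard] at h1
    have h2 : p ^ (2 * n + 1) - p = p * (p ^ (2 * n) - 1) := by
      rw [Nat.mul_sub, mul_one, pow_succ, mul_comm]
    rw [h2] at h1
    exact hcop.dvd_of_dvd_mul_left h1
  -- the family of invariant abelian subgroups
  let 𝒜 : Subgroup G → Prop := fun A => Z ≤ A ∧ A ≤ P ∧ (∀ a ∈ A, ∀ b ∈ A, a * b = b * a) ∧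
    H ≤ Subgroup.normalizer (A : Set G)
  have hZ𝒜 : 𝒜 Z := by
    refine ⟨le_rfl, hZP, fun a ha b hb => hZcen a ha b (hZP hb), ?_⟩
    apply le_normalizer_of_conj_mem
    intro g hg z hz
    rw [hHZ g hg z hz, mul_inv_cancel_right]; exact hz
  obtain ⟨A, hZA', hAmax⟩ := Finite.exists_le_maximal (p := 𝒜) hZ𝒜
  obtain ⟨hZA, hAP, hAab, hHA⟩ := hAmax.prop
  set C := P ⊓ Subgroup.centralizer (A : Set G) with hC
  have hAC : A ≤ C := by
    intro a ha
    refine ⟨hAP ha, ?_⟩
    show a ∈ Subgroup.centralizer (A : Set G)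
    rw [Subgroup.mem_centralizer_iff]
    intro b hb
    exact hAab b hb a ha
  have hHC : H ≤ Subgroup.normalizer (C : Set G) := by
    apply le_normalizer_of_conj_mem
    intro g hg c hc
    refine ⟨(Subgroup.mem_normalizer_iff.1 (hHP hg) c).1 hc.1, ?_⟩
    show g * c * g⁻¹ ∈ Subgroup.centralizer (A : Set G)
    have hc2 : c ∈ Subgroup.centralizer (A : Set G) := hc.2
    rw [Subgroup.mem_centralizer_iff]
    intro a ha
    have hginv : g⁻¹ ∈ H := H.inv_mem hg
    have h1 : g⁻¹ * a * g ∈ A := by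
      have := (Subgroup.mem_normalizer_iff.1 (hHA hginv) a).1 ha
      simpa using this
    have h2 := (Subgroup.mem_centralizer_iff.1 hc2) _ h1
    calc a * (g * c * g⁻¹) = g * ((g⁻¹ * a * g) * c) * g⁻¹ := by group
      _ = g * (c * (g⁻¹ * a * g)) * g⁻¹ := by rw [h2]
      _ = g * c * g⁻¹ * a := by group
  by_cases hCA : C = A
  · -- A is self-centralizing: |A| = p^(n+1)
    right
    have hpair := relIndex_centralizer_eq_of_pairing hp P Z hZcard
      (fun a ha z hz => (hZcen z hz a ha).symm) (Nat.card A) A rfl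
      (fun b hb z hz => (hZcen z hz b (hAP hb)).symm)
      (fun a ha b hb => by
        have := hcomm a ha b (hAP hb)
        rwa [commutatorElement_def] at this)
    rw [← hC, hCA] at hpair
    have hAZ : A ⊓ Subgroup.centralizer (P : Set G) = Z := by
      apply le_antisymm
      · intro x hx
        apply hcen x (hAP hx.1)
        intro y hy
        have h2 : x ∈ Subgroup.centralizer (P : Set G) := hx.2
        rw [Subgroup.mem_centralizer_iff] at h2
        exact (h2 y hy).symm
      · intro z hz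
        refine ⟨hZA hz, ?_⟩
        show z ∈ Subgroup.centralizer (P : Set G)
        rw [Subgroup.mem_centralizer_iff]
        intro y hy
        exact (hZcen z hz y hy).symm
    rw [hAZ] at hpair
    -- cardinalities
    have h1 : A.relIndex P * Nat.card A = Nat.card P := by
      have := Subgroup.relIndex_mul_relIndex ⊥ A P bot_le hAP
      rw [Subgroup.relIndex_bot_left, Subgroup.relIndex_bot_left] at this
      rw [mul_comm]; exact this
    have h2 : Z.relIndex A * Nat.card Z = Nat.card A := by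
      have := Subgroup.relIndex_mul_relIndex ⊥ Z A bot_le hZA
      rw [Subgroup.relIndex_bot_left, Subgroup.relIndex_bot_left] at this
      rw [mul_comm]; exact this
    set k := Z.relIndex A with hk
    rw [hpair, ← h2, hZcard, hn] at h1
    have h3 : k ^ 2 = (p ^ n) ^ 2 := by
      have h4 : k * (k * p) = p ^ (2 * n + 1) := h1
      have h5 : p ^ (2 * n + 1) = (p ^ n) ^ 2 * p := by
        rw [← pow_mul, mul_comm n 2, pow_succ]
      have h6 : k ^ 2 * p = (p ^ n) ^ 2 * p := by
        rw [← h5, ← h4]; ring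
      exact Nat.eq_of_mul_eq_mul_right hp.pos h6
    have h4 : k = p ^ n := Nat.pow_left_injective (by norm_num : 2 ≠ 0) h3
    have hAcard : Nat.card A = p ^ (n + 1) := by
      rw [← h2, h4, hZcard, pow_succ]
    have h5 := semireg H A Z hZA hHA hHZ (fun g hg hg1 x hx hgx => hfixmem g hg hg1 x (hAP hx) hgx)
    rw [hAcard, hZcard] at h5
    have h6 : p ^ (n + 1) - p = p * (p ^ n - 1) := by
      rw [Nat.mul_sub, mul_one, pow_succ, mul_comm]
    rw [h6] at h5
    exact hcop.dvd_of_dvd_mul_left h5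
  · -- a minimal invariant subgroup above A inside C
    apply arith p n (Nat.card H) hp hcop hM1
    let ℬ : Subgroup G → Prop := fun B => A ≤ B ∧ B ≤ C ∧ B ≠ A ∧
      H ≤ Subgroup.normalizer (B : Set G)
    have hCℬ : ℬ C := ⟨hAC, le_rfl, hCA, hHC⟩
    obtain ⟨W, hWC', hWmin⟩ := Finite.exists_le_minimal (p := ℬ) hCℬ
    obtain ⟨hAW, hWC, hWA, hHW⟩ := hWmin.prop
    have hWP : W ≤ P := hWC.trans inf_le_left
    have hWcA : ∀ a ∈ A, ∀ w ∈ W, a * w = w * a := by
      intro a ha w hw
      have h2 : w ∈ Subgroup.centralizer (A : Set G) := (hWC hw).2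
      rw [Subgroup.mem_centralizer_iff] at h2
      exact h2 a ha
    -- Z(W) = A
    have hAcen : ∀ x ∈ W, (∀ w ∈ W, x * w = w * x) → x ∈ A := by
      intro x hx hxc
      set A' := W ⊓ Subgroup.centralizer (W : Set G) with hA'
      have hxA' : x ∈ A' := by
        refine ⟨hx, ?_⟩
        show x ∈ Subgroup.centralizer (W : Set G)
        rw [Subgroup.mem_centralizer_iff]
        intro w hw
        exact (hxc w hw).symm
      have hAA' : A ≤ A' := by
        intro a ha
        refine ⟨hAW ha, ?_⟩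
        show a ∈ Subgroup.centralizer (W : Set G)
        rw [Subgroup.mem_centralizer_iff]
        intro w hw
        exact (hWcA a ha w hw).symm
      have hA'𝒜 : 𝒜 A' := by
        refine ⟨hZA.trans hAA', inf_le_left.trans hWP, ?_, ?_⟩
        · intro a ha b hb
          have h2 : a ∈ Subgroup.centralizer (W : Set G) := ha.2
          rw [Subgroup.mem_centralizer_iff] at h2
          exact (h2 b hb.1).symm
        · apply le_normalizer_of_conj_mem
          intro g hg a ha
          refine ⟨(Subgroup.mem_normalizer_iff.1 (hHW hg) a).1 ha.1, ?_⟩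
          show g * a * g⁻¹ ∈ Subgroup.centralizer (W : Set G)
          have ha2 : a ∈ Subgroup.centralizer (W : Set G) := ha.2
          rw [Subgroup.mem_centralizer_iff]
          intro w hw
          have hginv : g⁻¹ ∈ H := H.inv_mem hg
          have h1 : g⁻¹ * w * g ∈ W := by
            have := (Subgroup.mem_normalizer_iff.1 (hHW hginv) w).1 hw
            simpa using this
          have h2 := (Subgroup.mem_centralizer_iff.1 ha2) _ h1
          calc w * (g * a * g⁻¹) = g * ((g⁻¹ * w * g) * a) * g⁻¹ := by group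
            _ = g * (a * (g⁻¹ * w * g)) * g⁻¹ := by rw [h2]
            _ = g * a * g⁻¹ * w := by group
      have := hAmax.le_of_ge hA'𝒜 hAA'
      exact this hxA'
    have hirr : ∀ B : Subgroup G, A ≤ B → B ≤ W → H ≤ Subgroup.normalizer (B : Set G) →
        B = A ∨ B = W := by
      intro B hAB hBW hHB
      by_cases hBA : B = A
      · exact Or.inl hBA
      · right
        have hBℬ : ℬ B := ⟨hAB, hBW.trans hWC, hBA, hHB⟩
        exact le_antisymm hBW (hWmin.le_of_le hBℬ hBW)
    -- faithfulness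
    have hWp : IsPGroup p ↥W := hPp.to_le hWP
    have hfaith : ∀ g ∈ H, (∀ x ∈ W, g * x * g⁻¹ * x⁻¹ ∈ A) → g = 1 := by
      intro g hg hgW
      by_contra hg1
      -- the kernel of the action on W / A
      let T : Subgroup G :=
        { carrier := {a | a ∈ H ∧ ∀ x ∈ W, a * x * a⁻¹ * x⁻¹ ∈ A}
          one_mem' := ⟨H.one_mem, fun x hx => by simp [A.one_mem]⟩
          mul_mem' := by
            rintro a b ⟨ha, ha'⟩ ⟨hb, hb'⟩
            refine ⟨H.mul_mem ha hb, ?_⟩
            intro x hx
            have h1 := hb' x hx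
            have h2 := ha' x hx
            have h3 : a * (b * x * b⁻¹ * x⁻¹) * a⁻¹ ∈ A :=
              (Subgroup.mem_normalizer_iff.1 (hHA ha) _).1 h1
            have h4 : a * b * x * (a * b)⁻¹ * x⁻¹ =
                (a * (b * x * b⁻¹ * x⁻¹) * a⁻¹) * (a * x * a⁻¹ * x⁻¹) := by group
            rw [h4]
            exact A.mul_mem h3 h2
          inv_mem' := by
            rintro a ⟨ha, ha'⟩
            refine ⟨H.inv_mem ha, ?_⟩
            intro x hx
            have hy : a⁻¹ * x * a ∈ W := by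
              have := (Subgroup.mem_normalizer_iff.1 (hHW (H.inv_mem ha)) x).1 hx
              simpa using this
            have h1 := ha' _ hy
            have h2 : a * (a⁻¹ * x * a) * a⁻¹ * (a⁻¹ * x * a)⁻¹ = x * (a⁻¹ * x * a)⁻¹ := by group
            rw [h2] at h1
            have h3 := A.inv_mem h1
            have h4 : (x * (a⁻¹ * x * a)⁻¹)⁻¹ = a⁻¹ * x * a⁻¹⁻¹ * x⁻¹ := by group
            rw [h4] at h3
            exact h3 }
      have hTH : T ≤ H := fun a ha => ha.1
      have hgT : g ∈ T := ⟨hg, hgW⟩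
      have hcopT : (Nat.card T).Coprime (Nat.card W) := by
        obtain ⟨k, hk⟩ := IsPGroup.iff_card.1 hWp
        rw [hk]
        apply Nat.Coprime.pow_right
        exact Nat.Coprime.coprime_dvd_left (Subgroup.card_dvd_of_le hTH) hcop
      have hsolv : Group.IsSolvable ↥T ∨ Group.IsSolvable ↥W := by
        right
        have := hWp.isNilpotent
        infer_instance
      apply hWA
      apply le_antisymm _ hAW
      intro x hx
      obtain ⟨c, hc, hxc⟩ := Cfsg.Agent.S0022.result T W (hTH.trans hHW) hcopT hsolv A hAW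
        (by
          apply le_normalizer_of_conj_mem
          intro w hw a ha
          rw [← hWcA a ha w hw, mul_inv_cancel_right]; exact ha)
        (hTH.trans hHA) x hx (fun a ha => ha.2 x hx)
      have hc2 : c ∈ Subgroup.centralizer (T : Set G) := hc.2
      rw [Subgroup.mem_centralizer_iff] at hc2
      have hcZ : c ∈ Z := hfixmem g hg hg1 c (hWP hc.1) (hc2 g hgT)
      have hcA : c ∈ A := hZA hcZ
      have : x = c * (x⁻¹ * c)⁻¹ := by group
      rw [this]
      exact A.mul_mem hcA (A.inv_mem hxc)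
    exact section_lemma p W A Z H hAW hWcA hAcen hZcard hZA
      (fun x hx y hy => hcomm x (hWP hx) y (hWP hy))
      (fun x hx => hZA (hpow x (hWP hx))) (fun h => hWA h.symm) hHW hHZ hHc hcopH hirr hfaith

end Cfsg.Agent.S3767
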