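import Mathlib
import Cfsg.Statements.S0635
import Cfsg.Agent.Lib.Helper19.PLength
import Cfsg.Agent.Lib.Helper23.PSolvable

set_option autoImplicit false
open Cfsg

namespace Cfsg.Agent.S0635

open Subgroup Cfsg.Agent.Helper19.PLen Cfsg.Agent.Helper23.PSolv

universe u

/-- quotient by a nontrivial normal subgroup is smaller -/
theorem card_quotient_lt {G : Type u} [Group G] [Finite G] (N : Subgroup G) [N.Normal]
    (hN : N ≠ ⊥) : Nat.card (G ⧸ N) < Nat.card G := by
  have h1 := Subgroup.card_mul_index N
  rw [Subgroup.index_eq_card] at h1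
  have h2 : 1 < Nat.card N := (Subgroup.one_lt_card_iff_ne_bot N).2 hN
  have h3 : 0 < Nat.card (G ⧸ N) := Nat.card_pos
  nlinarith

theorem aux {p : ℕ} [hp : Fact p.Prime] : ∀ (m : ℕ) (G : Type u) [Group G] [Finite G],
    Nat.card G = m → IsPSolvable p G → ∀ S : Sylow p G,
      PLengthLE p (Group.nilpotencyClass ↥(S : Subgroup G)) G := by
  intro m
  induction m using Nat.strong_induction_on with
  | _ m ih =>
  intro G _ _ hm hsol S
  have hSnil : Group.IsNilpotent ↥(S : Subgroup G) := S.2.isNilpotent
  by_cases hO : pPrimeCore p G = ⊥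
  · -- O_{p'}(G) = 1
    set H := pCore p G with hH
    have hHn : H.Normal := inferInstance
    have hHp : IsPGroup p H := Cfsg.Agent.Helper10.pCore_isPGroup p
    have hc : centralizer (H : Set G) ≤ H := centralizer_pCore_le hsol hO
    have hHS : H ≤ S := pCore_le_sylow S
    by_cases hHbot : H = ⊥
    · -- G is trivial
      have htop : (⊤ : Subgroup G) ≤ ⊥ := by
        have : centralizer ((⊥ : Subgroup G) : Set G) = ⊤ := by
          rw [Subgroup.coe_bot]; exact Subgroup.centralizer_eq_top_iff_subset.2 (by
            intro x hx; rw [Set.mem_singleton_iff] at hx; rw [hx]; exact Subgroup.one_mem _)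
        rw [hHbot, this] at hc
        exact hc
      have hcard : Nat.card G = 1 := by
        have h1 : (⊤ : Subgroup G) = ⊥ := le_bot_iff.1 htop
        rw [← Subgroup.card_top (G := G), h1]
        exact Subgroup.card_bot
      have h0 : PLengthLE p 0 G := plengthLE_zero_of_coprime (by rw [hcard]; exact Nat.coprime_one_left p)
      exact plengthLE_mono (Nat.zero_le _) h0
    · have hlt : Nat.card (G ⧸ H) < m := hm ▸ card_quotient_lt H hHbot
      have hsurj := QuotientGroup.mk'_surjective H
      have hsolQ : IsPSolvable p (G ⧸ H) := isPSolvable_quotient H hsol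
      have hih := ih _ hlt (G ⧸ H) rfl hsolQ (S.mapSurjective hsurj)
      -- the class goes down
      set g : ↥(S : Subgroup G) →* ↥((S : Subgroup G).map (QuotientGroup.mk' H)) :=
        (QuotientGroup.mk' H).subgroupMap (S : Subgroup G) with hg
      have hgsurj : Function.Surjective g := MonoidHom.subgroupMap_surjective _ _
      have hker : center ↥(S : Subgroup G) ≤ g.ker := by
        intro z hz
        rw [MonoidHom.mem_ker]
        apply Subtype.ext
        show (QuotientGroup.mk' H) (z : G) = 1
        rw [QuotientGroup.mk'_apply, QuotientGroup.eq_one_iff]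
        apply hc
        rw [Subgroup.mem_centralizer_iff]
        intro h hh
        have := Subgroup.mem_center_iff.1 hz ⟨h, hHS hh⟩
        exact congrArg Subtype.val this
      have hφsurj := QuotientGroup.lift_surjective_of_surjective (center ↥(S : Subgroup G)) g hgsurj hker
      have hQnil : Group.IsNilpotent (↥(S : Subgroup G) ⧸ center ↥(S : Subgroup G)) := inferInstance
      have hcl1 := Group.nilpotencyClass_le_of_surjective _ hφsurj
      rw [Group.nilpotencyClass_quotient_center] at hcl1
      have hcl2 : Group.nilpotencyClass ↥((S.mapSurjective hsurj : Sylow p (G ⧸ H)) : Subgroup (G ⧸ H))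
          ≤ Group.nilpotencyClass ↥(S : Subgroup G) - 1 := hcl1
      have hQ : PLengthLE p (Group.nilpotencyClass ↥(S : Subgroup G) - 1) (G ⧸ H) :=
        plengthLE_mono hcl2 hih
      have hHlen : PLengthLE p 1 H := plengthLE_one_of_isPGroup hHp
      have hadd := plengthLE_add H hHlen hQ
      -- the class is positive
      have hpos : 1 ≤ Group.nilpotencyClass ↥(S : Subgroup G) := by
        by_contra hcon
        have h0 : Group.nilpotencyClass ↥(S : Subgroup G) = 0 := by omega
        rw [Group.nilpotencyClass_zero_iff_subsingleton] at h0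
        apply hHbot
        rw [eq_bot_iff]
        intro x hx
        have : (⟨x, hHS hx⟩ : ↥(S : Subgroup G)) = 1 := Subsingleton.elim _ _
        rw [Subgroup.mem_bot]
        exact congrArg Subtype.val this
      have e : 1 + (Group.nilpotencyClass ↥(S : Subgroup G) - 1) =
          Group.nilpotencyClass ↥(S : Subgroup G) := by omega
      rwa [e] at hadd
  · -- O_{p'}(G) ≠ 1
    set N := pPrimeCore p G with hN
    have hNn : N.Normal := inferInstance
    have hlt : Nat.card (G ⧸ N) < m := hm ▸ card_quotient_lt N hO
    have hsurj := QuotientGroup.mk'_surjective N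
    have hsolQ : IsPSolvable p (G ⧸ N) := isPSolvable_quotient N hsol
    have hih := ih _ hlt (G ⧸ N) rfl hsolQ (S.mapSurjective hsurj)
    set g : ↥(S : Subgroup G) →* ↥((S : Subgroup G).map (QuotientGroup.mk' N)) :=
      (QuotientGroup.mk' N).subgroupMap (S : Subgroup G) with hg
    have hgsurj : Function.Surjective g := MonoidHom.subgroupMap_surjective _ _
    have hcl1 := Group.nilpotencyClass_le_of_surjective g hgsurj
    have hcl2 : Group.nilpotencyClass ↥((S.mapSurjective hsurj : Sylow p (G ⧸ N)) : Subgroup (G ⧸ N))
        ≤ Group.nilpotencyClass ↥(S : Subgroup G) := hcl1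
    have hQ : PLengthLE p (Group.nilpotencyClass ↥(S : Subgroup G)) (G ⧸ N) :=
      plengthLE_mono hcl2 hih
    have hNlen : PLengthLE p 0 N :=
      plengthLE_zero_of_coprime (Cfsg.Agent.Helper22.card_pPrimeCore_coprime p)
    have hadd := plengthLE_add N hNlen hQ
    rwa [zero_add] at hadd

/-- The p-length of a p-soluble group is at most the nilpotency class of its Sylow p-subgroups. -/
theorem result {G : Type*} [Group G] [Finite G] {p : ℕ} [Fact p.Prime] (hsol : Cfsg.IsPSolvable p G) (S : Sylow p G) : Cfsg.PLengthLE p (Group.nilpotencyClass ↥(S : Subgroup G)) G := by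
  exact aux (Nat.card G) G rfl hsol S

end Cfsg.Agent.S0635
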