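import Mathlib
import Cfsg.Statements.S4218
import Cfsg.Agent.Lib.Helper23.PSolvable
import Cfsg.Agent.Lib.Helper23.PGroup
import Cfsg.Agent.Lib.Helper23.BurnsideFrattini

set_option autoImplicit false
open Cfsg

namespace Cfsg.Agent.S4218


open Cfsg.Agent.Helper23 Subgroup
open scoped commutatorElement

theorem mem_frattini_iff_of_equiv {A B : Type*} [Group A] [Group B] (e : A ≃* B) (a : A) :
    a ∈ frattini A ↔ e a ∈ frattini B := by
  constructor
  · intro h
    exact frattini_le_comap_frattini_of_surjective (φ := e.toMonoidHom) e.surjective h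
  · intro h
    have := frattini_le_comap_frattini_of_surjective (φ := e.symm.toMonoidHom) e.symm.surjective h
    simpa using this

/-- In a finite `p`-solvable group `X` with `O_{p'}(X) = 1`, an element acting trivially on the
Frattini quotient of `O_p(X)` lies in `O_p(X)`. -/
theorem core_claim {X : Type*} [Group X] [Finite X] {p : ℕ} [hp : Fact p.Prime]
    (hsol : IsPSolvable p X) (hO : pPrimeCore p X = ⊥) (y : X)
    (hy : ∀ r ∈ pCore p X, y * r * y⁻¹ * r⁻¹ ∈ (frattini ↥(pCore p X)).map (pCore p X).subtype) :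
    y ∈ pCore p X := by
  have hHH := PSolv.centralizer_pCore_le hsol hO
  have hRp : IsPGroup p (pCore p X) := Helper10.pCore_isPGroup p
  obtain ⟨R, hRdef⟩ : ∃ R : Subgroup X, R = pCore p X := ⟨_, rfl⟩
  haveI hRn : R.Normal := by rw [hRdef]; infer_instance
  rw [← hRdef] at hHH hRp hy ⊢
  obtain ⟨Φ', hΦ'⟩ : ∃ Φ' : Subgroup X, Φ' = (frattini R).map R.subtype := ⟨_, rfl⟩
  haveI hΦn : Φ'.Normal := by
    rw [hΦ']; exact ConjAct.normal_of_characteristic_of_normal
  have hΦR : Φ' ≤ R := by rw [hΦ']; exact map_subtype_le _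
  rw [← hΦ'] at hy
  have hRconj : ∀ r ∈ R, ∀ h : X, h⁻¹ * r * h ∈ R := by
    intro r hr h
    have := hRn.conj_mem r hr h⁻¹
    simpa using this
  -- the subgroup of elements acting trivially on `R / Φ(R)`
  let D : Subgroup X :=
    { carrier := {a | ∀ r ∈ R, a * r * a⁻¹ * r⁻¹ ∈ Φ'}
      one_mem' := by
        intro r _
        simp only [one_mul, inv_one, mul_one, mul_inv_cancel]
        exact one_mem _
      mul_mem' := by
        intro a b ha hb r hr
        have h1 := hΦn.conj_mem _ (hb r hr) a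
        have h2 := ha r hr
        have : a * b * r * (a * b)⁻¹ * r⁻¹ = (a * (b * r * b⁻¹ * r⁻¹) * a⁻¹) * (a * r * a⁻¹ * r⁻¹) := by
          group
        rw [this]
        exact mul_mem h1 h2
      inv_mem' := by
        intro a ha r hr
        have h1 := hΦn.conj_mem _ (inv_mem (ha r hr)) a⁻¹
        have : a⁻¹ * r * a⁻¹⁻¹ * r⁻¹ = a⁻¹ * (a * r * a⁻¹ * r⁻¹)⁻¹ * a⁻¹⁻¹ := by group
        rw [this]
        exact h1 }
  have hDmem : ∀ a : X, a ∈ D ↔ ∀ r ∈ R, a * r * a⁻¹ * r⁻¹ ∈ Φ' := fun a => Iff.rfl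
  haveI hDn : D.Normal := by
    constructor
    intro a ha h
    rw [hDmem] at ha ⊢
    intro r hr
    have h1 := ha _ (hRconj r hr h)
    have h2 := hΦn.conj_mem _ h1 h
    have : h * a * h⁻¹ * r * (h * a * h⁻¹)⁻¹ * r⁻¹ =
        h * (a * (h⁻¹ * r * h) * a⁻¹ * (h⁻¹ * r * h)⁻¹) * h⁻¹ := by group
    rw [this]
    exact h2
  have hDp : IsPGroup p D := by
    intro d
    obtain ⟨a, m, hm, hn⟩ := Nat.exists_eq_pow_mul_and_not_dvd (orderOf_pos (d : X)).ne' p
      hp.out.ne_one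
    refine ⟨a, ?_⟩
    apply Subtype.ext
    rw [Subgroup.coe_pow, Subgroup.coe_one]
    obtain ⟨d1, hd1⟩ : ∃ d1 : X, d1 = (d : X) ^ p ^ a := ⟨_, rfl⟩
    rw [← hd1]
    have hd1D : d1 ∈ D := by rw [hd1]; exact D.pow_mem d.2 _
    have hd1m : d1 ^ m = 1 := by
      rw [hd1, ← pow_mul, ← hn]; exact pow_orderOf_eq_one _
    have hord : (orderOf d1).Coprime p := by
      have h1 : orderOf d1 ∣ m := orderOf_dvd_of_pow_eq_one hd1m
      have h2 : m.Coprime p := ((Nat.Prime.coprime_iff_not_dvd hp.out).mpr hm).symm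
      exact Nat.Coprime.coprime_dvd_left h1 h2
    have hAD : zpowers d1 ≤ D := zpowers_le.mpr hd1D
    have hcent : R ≤ centralizer ((zpowers d1 : Subgroup X) : Set X) := by
      apply centralizes_of_frattini R hRp (zpowers d1)
      · rw [Nat.card_zpowers]; exact hord
      · infer_instance
      · rw [← hΦ']; exact le_normalizer_of_normal
      · intro a ha r hr
        rw [← hΦ']
        exact (hDmem a).mp (hAD ha) r hr
    have hd1c : d1 ∈ centralizer (R : Set X) := by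
      rw [mem_centralizer_iff]
      intro r hr
      have := mem_centralizer_iff.mp (hcent hr) d1 (mem_zpowers d1)
      exact this.symm
    have hd1R : d1 ∈ R := hHH hd1c
    obtain ⟨k, hk⟩ := hRp ⟨d1, hd1R⟩
    have hk' : d1 ^ p ^ k = 1 := by simpa using congrArg Subtype.val hk
    have h3 : orderOf d1 ∣ p ^ k := orderOf_dvd_of_pow_eq_one hk'
    have h4 : orderOf d1 = 1 := Nat.Coprime.eq_one_of_dvd (Nat.Coprime.pow_right k hord) h3
    exact orderOf_eq_one_iff.mp h4
  have hDR : D ≤ R := by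
    rw [hRdef]; exact le_sSup ⟨hDn, hDp⟩
  exact hDR ((hDmem y).mpr hy)


theorem aux {G : Type*} [Group G] [Finite G] {p : ℕ} [Fact p.Prime] (K L : Subgroup G) [K.Normal]
    (hLcomap : L = (pCore p (G ⧸ K)).comap (QuotientGroup.mk' K))
    (hO : pPrimeCore p (G ⧸ K) = ⊥) (hsol : IsPSolvable p (G ⧸ K)) (g : G) :
    (∀ x ∈ L, g * x * g⁻¹ * x⁻¹ ∈ ((frattini (↥L ⧸ K.subgroupOf L)).comap
      (QuotientGroup.mk' (K.subgroupOf L))).map L.subtype) ↔ g ∈ L := by
  classical
  have hmemL : ∀ x : G, x ∈ L ↔ QuotientGroup.mk' K x ∈ pCore p (G ⧸ K) := by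
    intro x; rw [hLcomap]; exact Iff.rfl
  have hRp : IsPGroup p (pCore p (G ⧸ K)) := Helper10.pCore_isPGroup p
  -- the restriction of the quotient map to `L`
  obtain ⟨f, hf⟩ : ∃ f : ↥L →* ↥(pCore p (G ⧸ K)), ∀ x : L, ((f x : ↥(pCore p (G ⧸ K))) : G ⧸ K) =
      QuotientGroup.mk' K (x : G) :=
    ⟨((QuotientGroup.mk' K).comp L.subtype).codRestrict (pCore p (G ⧸ K))
      (fun x => (hmemL x).mp x.2), fun x => rfl⟩
  have hfsurj : Function.Surjective f := by
    rintro ⟨r, hr⟩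
    obtain ⟨x, rfl⟩ := QuotientGroup.mk'_surjective K r
    refine ⟨⟨x, (hmemL x).mpr hr⟩, ?_⟩
    apply Subtype.ext
    rw [hf]
  have hfker : K.subgroupOf L = f.ker := by
    ext x
    rw [mem_subgroupOf, MonoidHom.mem_ker, ← Subtype.coe_inj, hf, Subgroup.coe_one,
      QuotientGroup.mk'_apply, QuotientGroup.eq_one_iff]
  let e : (↥L ⧸ K.subgroupOf L) ≃* ↥(pCore p (G ⧸ K)) :=
    QuotientGroup.liftEquiv (K.subgroupOf L) hfsurj hfker
  have he : ∀ x : L, e (QuotientGroup.mk' (K.subgroupOf L) x) = f x := fun x => rfl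
  constructor
  · intro h
    rw [hmemL]
    apply core_claim hsol hO
    intro r hr
    obtain ⟨x, rfl⟩ := QuotientGroup.mk'_surjective K r
    have hxL : x ∈ L := (hmemL x).mpr hr
    obtain ⟨z, hz, hzeq⟩ := h x hxL
    rw [SetLike.mem_coe, mem_comap, mem_frattini_iff_of_equiv e, he] at hz
    refine ⟨f z, hz, ?_⟩
    rw [Subgroup.subtype_apply, hf]
    have : (z : G) = g * x * g⁻¹ * x⁻¹ := hzeq
    rw [this]
    simp only [map_mul, map_inv]
  · intro hg x hx
    have hQp : IsPGroup p (↥L ⧸ K.subgroupOf L) := hRp.of_injective e.toMonoidHom e.injective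
    refine ⟨(⟨g, hg⟩ : L) * ⟨x, hx⟩ * (⟨g, hg⟩ : L)⁻¹ * (⟨x, hx⟩ : L)⁻¹, ?_, rfl⟩
    rw [SetLike.mem_coe, mem_comap]
    apply commutator_le_frattini_pgroup p hQp
    rw [_root_.commutator_def]
    have : QuotientGroup.mk' (K.subgroupOf L)
        ((⟨g, hg⟩ : L) * ⟨x, hx⟩ * (⟨g, hg⟩ : L)⁻¹ * (⟨x, hx⟩ : L)⁻¹) =
        ⁅QuotientGroup.mk' (K.subgroupOf L) ⟨g, hg⟩, QuotientGroup.mk' (K.subgroupOf L) ⟨x, hx⟩⁆ := by
      rw [commutatorElement_def]
      simp only [map_mul, map_inv]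
    rw [this]
    exact commutator_mem_commutator (mem_top _) (mem_top _)


/-- Let `G` be a finite `p`-solvable group, `N₀ = O_{p'}(G)`, `P₁ = O_{p',p}(G)`, and let `F ≤ P₁` be the preimage of the Frattini subgroup of `P₁/N₀`. Then an element `g` of `G` induces the identity on `P₁/F` by conjugation (that is, `g x g⁻¹ x⁻¹ ∈ F` for all `x ∈ P₁`) if and only if `g ∈ P₁`: the group `G/P₁` acts faithfully on `P₁/F`. -/
theorem result {G : Type*} [Group G] [Finite G] {p : ℕ} [Fact p.Prime] (hG : Cfsg.IsPSolvable p G) (g : G) : (∀ x ∈ Cfsg.pPrimePCore p G, g * x * g⁻¹ * x⁻¹ ∈ ((frattini (↥(Cfsg.pPrimePCore p G) ⧸ (Cfsg.pPrimeCore p G).subgroupOf (Cfsg.pPrimePCore p G))).comap (QuotientGroup.mk' ((Cfsg.pPrimeCore p G).subgroupOf (Cfsg.pPrimePCore p G)))).map (Cfsg.pPrimePCore p G).subtype) ↔ g ∈ Cfsg.pPrimePCore p G := by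
  exact aux (pPrimeCore p G) (pPrimePCore p G) rfl
    (PSolv.pPrimeCore_quotient_pPrimeCore (G := G) p) (PSolv.isPSolvable_quotient _ hG) g

end Cfsg.Agent.S4218
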