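import Mathlib
import Cfsg.Agent.S0144
import Cfsg.Agent.S0635
import Cfsg.Agent.S4218
import Cfsg.Agent.Lib.Helper19.PLength
import Cfsg.Agent.Lib.Helper16.QuotPGroup
import Cfsg.Agent.Lib.Helper21.PGroupFrattini
import Cfsg.Statements.S4227
-- import your own Cfsg.Agent.* helpers here

set_option autoImplicit false
open Cfsg

namespace Cfsg.Agent.S4227

open Subgroup
open scoped commutatorElement

universe u

/-! ### Solvable groups are `p`-solvable -/

theorem isPSolvable_extend {G : Type*} [Group G] {p : ℕ} (N : Subgroup G) [N.Normal]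
    (hN : (∃ m : ℕ, Nat.card N = p ^ m) ∨ (Nat.card N).Coprime p)
    (h : IsPSolvable p (G ⧸ N)) : IsPSolvable p G := by
  obtain ⟨n, H, h0, hn, hmono, hnorm, hfac⟩ := h
  refine ⟨n + 1, Fin.cons ⊥ (fun i => (H i).comap (QuotientGroup.mk' N)), ?_, ?_, ?_, ?_, ?_⟩
  · rfl
  · rw [← Fin.succ_last, Fin.cons_succ, hn, Subgroup.comap_top]
  · apply Fin.monotone_iff_le_succ.mpr
    intro i
    refine Fin.cases ?_ (fun j => ?_) i
    · rw [Fin.castSucc_zero, Fin.cons_zero]
      exact bot_le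
    · rw [← Fin.succ_castSucc, Fin.cons_succ, Fin.cons_succ]
      exact Subgroup.comap_mono (hmono (Fin.castSucc_le_succ j))
  · intro i
    refine Fin.cases ?_ (fun j => ?_) i
    · rw [Fin.cons_zero]; exact Subgroup.normal_bot
    · rw [Fin.cons_succ]
      haveI := hnorm j
      exact Subgroup.Normal.comap inferInstance _
  · intro i
    refine Fin.cases ?_ (fun j => ?_) i
    · rw [Fin.castSucc_zero, Fin.cons_zero, Fin.cons_succ, h0, Subgroup.relIndex_bot_left]
      have : (⊥ : Subgroup (G ⧸ N)).comap (QuotientGroup.mk' N) = N := by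
        rw [MonoidHom.comap_bot, QuotientGroup.ker_mk']
      rw [this]
      exact hN
    · rw [← Fin.succ_castSucc, Fin.cons_succ, Fin.cons_succ]
      have : ((H j.castSucc).comap (QuotientGroup.mk' N)).relIndex
          ((H j.succ).comap (QuotientGroup.mk' N)) = (H j.castSucc).relIndex (H j.succ) := by
        rw [Subgroup.relIndex_comap, Subgroup.map_comap_eq_self_of_surjective
          (QuotientGroup.mk'_surjective N)]
      rw [this]
      exact hfac j

/-- The elements of order dividing `q` of an abelian subgroup. -/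
def omegaSub {G : Type*} [Group G] (A : Subgroup G) (hA : ∀ x ∈ A, ∀ y ∈ A, x * y = y * x)
    (q : ℕ) : Subgroup G where
  carrier := {x | x ∈ A ∧ x ^ q = 1}
  one_mem' := ⟨A.one_mem, one_pow q⟩
  mul_mem' := by
    rintro x y ⟨hx, hxq⟩ ⟨hy, hyq⟩
    refine ⟨A.mul_mem hx hy, ?_⟩
    rw [(show Commute x y from hA x hx y hy).mul_pow, hxq, hyq, one_mul]
  inv_mem' := by
    rintro x ⟨hx, hxq⟩
    exact ⟨A.inv_mem hx, by rw [inv_pow, hxq, inv_one]⟩

theorem mem_omegaSub {G : Type*} [Group G] (A : Subgroup G)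
    (hA : ∀ x ∈ A, ∀ y ∈ A, x * y = y * x) (q : ℕ) (x : G) :
    x ∈ omegaSub A hA q ↔ x ∈ A ∧ x ^ q = 1 := Iff.rfl

theorem omegaSub_normal {G : Type*} [Group G] (A : Subgroup G) [hn : A.Normal]
    (hA : ∀ x ∈ A, ∀ y ∈ A, x * y = y * x) (q : ℕ) : (omegaSub A hA q).Normal := by
  constructor
  intro x hx g
  rw [mem_omegaSub] at hx ⊢
  refine ⟨hn.conj_mem x hx.1 g, ?_⟩
  rw [conj_pow, hx.2, mul_one, mul_inv_cancel]

theorem exists_normal_prime_power {G : Type*} [Group G] [Finite G] [Nontrivial G]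
    (hs : Group.IsSolvable G) :
    ∃ (N : Subgroup G) (q k : ℕ), N.Normal ∧ N ≠ ⊥ ∧ q.Prime ∧ Nat.card N = q ^ k := by
  classical
  obtain ⟨n, hn⟩ := hs.solvable
  have hex : ∃ n, derivedSeries G n = ⊥ := ⟨n, hn⟩
  set m := Nat.find hex with hm
  have hm0 : m ≠ 0 := by
    intro h0
    have := Nat.find_spec hex
    rw [← hm, h0, derivedSeries_zero] at this
    exact top_ne_bot this
  obtain ⟨j, hj⟩ := Nat.exists_eq_succ_of_ne_zero hm0
  have hjne : derivedSeries G j ≠ ⊥ := Nat.find_min hex (by omega)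
  have hjs : ⁅derivedSeries G j, derivedSeries G j⁆ = ⊥ := by
    have := Nat.find_spec hex
    rw [← hm, hj, derivedSeries_succ] at this
    exact this
  set A := derivedSeries G j with hAdef
  have hA : ∀ x ∈ A, ∀ y ∈ A, x * y = y * x := by
    intro x hx y hy
    have h1 : ⁅x, y⁆ ∈ ⁅A, A⁆ := Subgroup.commutator_mem_commutator hx hy
    rw [hjs, Subgroup.mem_bot, commutatorElement_eq_one_iff_mul_comm] at h1
    exact h1
  haveI hAn : A.Normal := by rw [hAdef]; infer_instance
  have hAnt : Nontrivial A := (Subgroup.nontrivial_iff_ne_bot A).mpr hjne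
  have hcard : Nat.card A ≠ 1 := by
    intro h1
    exact hjne ((Subgroup.card_eq_one).mp h1)
  obtain ⟨q, hq, hqd⟩ := Nat.exists_prime_and_dvd hcard
  haveI : Fact q.Prime := ⟨hq⟩
  obtain ⟨x, hx⟩ := exists_prime_orderOf_dvd_card' q hqd
  have hp : IsPGroup q (omegaSub A hA q) := by
    rintro ⟨y, hy⟩
    refine ⟨1, ?_⟩
    apply Subtype.ext
    rw [Subgroup.coe_pow, pow_one, Subgroup.coe_one]
    exact ((mem_omegaSub A hA q y).mp hy).2
  obtain ⟨k, hk⟩ := IsPGroup.iff_card.mp hp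
  refine ⟨omegaSub A hA q, q, k, omegaSub_normal A hA q, ?_, hq, hk⟩
  intro hbot
  have hxm : (x : G) ∈ omegaSub A hA q := by
    rw [mem_omegaSub]
    refine ⟨x.2, ?_⟩
    rw [← Subgroup.coe_pow, ← hx, pow_orderOf_eq_one, Subgroup.coe_one]
  rw [hbot, Subgroup.mem_bot] at hxm
  have : x = 1 := Subtype.ext hxm
  rw [this, orderOf_one] at hx
  exact hq.one_lt.ne hx

theorem isPSolvable_of_isSolvable_aux (p : ℕ) [hp : Fact p.Prime] : ∀ (n : ℕ) (G : Type u)
    [Group G] [Finite G], Group.IsSolvable G → Nat.card G = n → IsPSolvable p G := by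
  intro n
  induction n using Nat.strong_induction_on with
  | _ n ih =>
    intro G _ _ hs hcard
    rcases subsingleton_or_nontrivial G with hsub | hnt
    · refine ⟨0, fun _ => ⊥, rfl, ?_, fun _ _ _ => le_rfl, fun _ => Subgroup.normal_bot, ?_⟩
      · exact (Subsingleton.elim _ _)
      · intro i; exact i.elim0
    · obtain ⟨N, q, k, hNn, hNne, hq, hNcard⟩ := exists_normal_prime_power hs
      haveI := hNn
      have hlt : Nat.card (G ⧸ N) < n := by
        rw [← hcard, Subgroup.card_eq_card_quotient_mul_card_subgroup N]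
        have h1 : 1 < Nat.card N := by
          rcases Nat.lt_or_ge 1 (Nat.card N) with h | h
          · exact h
          · exfalso
            have : Nat.card N = 1 := le_antisymm h Nat.card_pos
            exact hNne (Subgroup.card_eq_one.mp this)
        have h2 : 0 < Nat.card (G ⧸ N) := Nat.card_pos
        nlinarith
      have hQ := ih _ hlt (G ⧸ N) inferInstance rfl
      apply isPSolvable_extend N _ hQ
      by_cases hqp : q = p
      · left; exact ⟨k, by rw [hNcard, hqp]⟩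
      · right
        rw [hNcard]
        apply Nat.Coprime.pow_left
        exact (Nat.coprime_primes hq hp.out).mpr hqp

theorem isPSolvable_of_isSolvable {G : Type*} [Group G] [Finite G] (hs : Group.IsSolvable G) (p : ℕ)
    [Fact p.Prime] : IsPSolvable p G :=
  isPSolvable_of_isSolvable_aux p _ G hs rfl

/-! ### Exponent six -/

theorem card_eq_of_exp_six {G : Type*} [Group G] [Finite G] (h : ∀ x : G, x ^ 6 = 1) :
    ∃ a b : ℕ, Nat.card G = 2 ^ a * 3 ^ b := by
  have hpr : ∀ q : ℕ, q.Prime → q ∣ Nat.card G → q = 2 ∨ q = 3 := by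
    intro q hq hd
    haveI : Fact q.Prime := ⟨hq⟩
    obtain ⟨x, hx⟩ := exists_prime_orderOf_dvd_card' q hd
    have h1 : q ∣ 6 := by rw [← hx]; exact orderOf_dvd_of_pow_eq_one (h x)
    have h2 : q ∣ 2 * 3 := h1
    rcases (Nat.Prime.dvd_mul hq).mp h2 with h3 | h3
    · left; exact (Nat.prime_dvd_prime_iff_eq hq Nat.prime_two).mp h3
    · right; exact (Nat.prime_dvd_prime_iff_eq hq Nat.prime_three).mp h3
  set n := Nat.card G with hn
  have hn0 : n ≠ 0 := Nat.card_pos.ne'
  refine ⟨n.factorization 2, (n / 2 ^ n.factorization 2).primeFactorsList.length, ?_⟩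
  have h1 := Nat.ordProj_mul_ordCompl_eq_self n 2
  have hm0 : n / 2 ^ n.factorization 2 ≠ 0 := (Nat.ordCompl_pos 2 hn0).ne'
  have h2 : n / 2 ^ n.factorization 2 =
      3 ^ (n / 2 ^ n.factorization 2).primeFactorsList.length := by
    apply Nat.eq_prime_pow_of_unique_prime_dvd hm0
    intro d hd hdm
    have hdn : d ∣ n := hdm.trans (Nat.ordCompl_dvd n 2)
    rcases hpr d hd hdn with h3 | h3
    · exfalso
      rw [h3] at hdm
      exact Nat.not_dvd_ordCompl Nat.prime_two hn0 hdm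
    · exact h3
  rw [← h2]; exact h1.symm

theorem isSolvable_of_exp_six {G : Type*} [Group G] [Finite G] (h : ∀ x : G, x ^ 6 = 1) :
    Group.IsSolvable G := by
  obtain ⟨a, b, hc⟩ := card_eq_of_exp_six h
  exact Cfsg.Agent.S0144.result 2 3 a b Nat.prime_two Nat.prime_three hc

theorem sq_eq_one_of_two_elem {G : Type*} [Group G] {x : G} (h6 : x ^ 6 = 1) {k : ℕ}
    (hk : x ^ 2 ^ k = 1) : x ^ 2 = 1 := by
  have h1 : orderOf x ∣ 2 * 3 := orderOf_dvd_of_pow_eq_one h6
  have h2 : orderOf x ∣ 2 ^ k := orderOf_dvd_of_pow_eq_one hk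
  have h3 : (orderOf x).Coprime 3 :=
    Nat.Coprime.coprime_dvd_left h2 (Nat.Coprime.pow_left k (by norm_num))
  exact orderOf_dvd_iff_pow_eq_one.mp (h3.dvd_of_dvd_mul_right h1)

theorem cube_eq_one_of_three_elem {G : Type*} [Group G] {x : G} (h6 : x ^ 6 = 1) {k : ℕ}
    (hk : x ^ 3 ^ k = 1) : x ^ 3 = 1 := by
  have h1 : orderOf x ∣ 2 * 3 := orderOf_dvd_of_pow_eq_one h6
  have h2 : orderOf x ∣ 3 ^ k := orderOf_dvd_of_pow_eq_one hk
  have h3 : (orderOf x).Coprime 2 :=
    Nat.Coprime.coprime_dvd_left h2 (Nat.Coprime.pow_left k (by norm_num))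
  exact orderOf_dvd_iff_pow_eq_one.mp (h3.dvd_of_dvd_mul_left h1)

theorem comm_of_sq_eq_one {G : Type*} [Group G] (h : ∀ x : G, x ^ 2 = 1) (a b : G) :
    a * b = b * a := by
  have ha : a⁻¹ = a := by rw [inv_eq_iff_mul_eq_one, ← sq, h]
  have hb : b⁻¹ = b := by rw [inv_eq_iff_mul_eq_one, ← sq, h]
  have hab : (a * b)⁻¹ = a * b := by rw [inv_eq_iff_mul_eq_one, ← sq, h]
  rw [← hab, mul_inv_rev, ha, hb]

theorem plength_two {G : Type*} [Group G] [Finite G] (h : ∀ x : G, x ^ 6 = 1) :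
    PLengthLE 2 1 G := by
  haveI : Fact (Nat.Prime 2) := ⟨Nat.prime_two⟩
  have hs := isSolvable_of_exp_six h
  have hps := isPSolvable_of_isSolvable hs 2
  obtain ⟨S⟩ : Nonempty (Sylow 2 G) := inferInstance
  have h1 := Cfsg.Agent.S0635.result hps S
  have hsq : ∀ x : (S : Subgroup G), x ^ 2 = 1 := by
    intro x
    obtain ⟨k, hk⟩ := S.isPGroup' x
    apply sq_eq_one_of_two_elem _ hk
    apply Subtype.ext
    rw [Subgroup.coe_pow, h, Subgroup.coe_one]
  have hcomm := comm_of_sq_eq_one hsq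
  refine Cfsg.Agent.Helper19.PLen.plengthLE_mono ?_ h1
  haveI : Group.IsNilpotent (S : Subgroup G) := S.isPGroup'.isNilpotent
  rw [← Subgroup.lowerCentralSeries_eq_bot_iff_nilpotencyClass_le,
    Subgroup.top_lowerCentralSeries_one,
    _root_.commutator_def, Subgroup.commutator_eq_bot_iff_le_centralizer]
  intro x _
  rw [Subgroup.mem_centralizer_iff]
  intro y _
  exact hcomm y x

/-! ### The key computation with automorphisms of an abelian group of exponent three -/

theorem eq_one_of_sq {V : Type*} [Group V] (h3 : ∀ v : V, v ^ 3 = 1) {v : V} (h : v * v = 1) :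
    v = 1 := by
  have h1 : v ^ 3 = v * v * v := by rw [pow_succ, pow_two]
  rw [h3, h, one_mul] at h1
  exact h1.symm

theorem key_aut_comm {V : Type*} [CommGroup V] (h3 : ∀ v : V, v ^ 3 = 1)
    (A B γ : MulAut V) (hA : A * A = 1) (hB : B * B = 1) (hAB : A * B = B * A)
    (h1 : γ * A = B * γ) (h2 : γ * B = A * B * γ)
    (hN : ∀ v : V, v * γ v * γ (γ v) = 1) : A = 1 := by
  have hA' : ∀ v, A (A v) = v := fun v => by
    have := congrArg (fun f : MulAut V => f v) hA
    simpa using this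
  have hB' : ∀ v, B (B v) = v := fun v => by
    have := congrArg (fun f : MulAut V => f v) hB
    simpa using this
  have hAB' : ∀ v, A (B v) = B (A v) := fun v => by
    have := congrArg (fun f : MulAut V => f v) hAB
    simpa using this
  have h1' : ∀ v, γ (A v) = B (γ v) := fun v => by
    have := congrArg (fun f : MulAut V => f v) h1
    simpa using this
  have h2' : ∀ v, γ (B v) = A (B (γ v)) := fun v => by
    have := congrArg (fun f : MulAut V => f v) h2
    simpa using this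
  have h3' : ∀ v, γ (A (B v)) = A (γ v) := fun v => by
    rw [h1', h2', hAB', hB']
  -- first claim
  have c1 : ∀ v : V, B v = v → A v = v⁻¹ → v = 1 := by
    intro v hBv hAv
    have e0 := hN v
    have e1 : B v * B (γ v) * B (γ (γ v)) = 1 := by
      rw [← map_mul, ← map_mul, e0, map_one]
    have e2 : B (γ v) = (γ v)⁻¹ := by rw [← h1', hAv, map_inv]
    have e3 : B (γ (γ v)) = (γ (γ v))⁻¹ := by
      rw [← h1', ← h3', hBv, hAv, map_inv, map_inv]
    rw [hBv, e2, e3] at e1
    apply eq_one_of_sq h3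
    calc v * v = (v * γ v * γ (γ v)) * (v * (γ v)⁻¹ * (γ (γ v))⁻¹) := by
          apply Additive.ofMul.injective
          simp only [ofMul_mul, ofMul_inv]
          abel
      _ = 1 := by rw [e0, e1, one_mul]
  have c2 : ∀ v : V, B v = v⁻¹ → A v = v⁻¹ → v = 1 := by
    intro v hBv hAv
    have e0 := hN v
    have e1 : A (B v) * A (B (γ v)) * A (B (γ (γ v))) = 1 := by
      rw [← map_mul, ← map_mul, ← map_mul, ← map_mul, e0, map_one, map_one]
    have e2 : A (B v) = v := by rw [hBv, map_inv, hAv, inv_inv]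
    have e3 : A (B (γ v)) = (γ v)⁻¹ := by rw [← h2', hBv, map_inv]
    have e4 : A (B (γ (γ v))) = (γ (γ v))⁻¹ := by
      rw [← h2', ← h1', hAv, map_inv, map_inv]
    rw [e2, e3, e4] at e1
    apply eq_one_of_sq h3
    calc v * v = (v * γ v * γ (γ v)) * (v * (γ v)⁻¹ * (γ (γ v))⁻¹) := by
          apply Additive.ofMul.injective
          simp only [ofMul_mul, ofMul_inv]
          abel
      _ = 1 := by rw [e0, e1, one_mul]
  ext u
  rw [MulAut.one_apply]
  obtain ⟨w, hw⟩ : ∃ w : V, w = u * (A u)⁻¹ := ⟨_, rfl⟩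
  have hAw : A w = w⁻¹ := by
    rw [hw, map_mul, map_inv, hA', mul_inv_rev, inv_inv]
  have hp : w * B w = 1 := by
    apply c1
    · rw [map_mul, hB', mul_comm]
    · rw [map_mul, hAB', hAw, map_inv, mul_inv_rev, mul_comm]
  have hm : w * (B w)⁻¹ = 1 := by
    apply c2
    · rw [map_mul, map_inv, hB', mul_inv_rev, inv_inv, mul_comm]
    · rw [map_mul, map_inv, hAB', hAw, map_inv, mul_inv_rev, inv_inv, mul_comm]
  have hww : w * w = 1 := by
    calc w * w = (w * B w) * (w * (B w)⁻¹) := by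
          apply Additive.ofMul.injective
          simp only [ofMul_mul, ofMul_inv]
          abel
      _ = 1 := by rw [hp, hm, one_mul]
  have hw1 := eq_one_of_sq h3 hww
  rw [hw1] at hw
  rw [eq_comm, mul_inv_eq_one] at hw
  exact hw.symm

theorem key_aut {V : Type*} [Group V] (hcomm : ∀ a b : V, a * b = b * a)
    (h3 : ∀ v : V, v ^ 3 = 1)
    (A B γ : MulAut V) (hA : A * A = 1) (hB : B * B = 1) (hAB : A * B = B * A)
    (h1 : γ * A = B * γ) (h2 : γ * B = A * B * γ)
    (hN : ∀ v : V, v * γ v * γ (γ v) = 1) : A = 1 := by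
  letI : CommGroup V := { (inferInstance : Group V) with mul_comm := hcomm }
  exact key_aut_comm h3 A B γ hA hB hAB h1 h2 hN

/-! ### The action on the Frattini quotient -/

/-- Automorphisms act on the quotient by a characteristic subgroup. -/
noncomputable def quotAut {H : Type*} [Group H] (N : Subgroup H) [N.Normal]
    (hN : N.Characteristic) : MulAut H →* MulAut (H ⧸ N) where
  toFun φ := QuotientGroup.congr N N φ (Subgroup.characteristic_iff_map_eq.mp hN φ)
  map_one' := by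
    ext x
    induction x using QuotientGroup.induction_on with
    | H x => rfl
  map_mul' := by
    intro φ ψ
    ext x
    induction x using QuotientGroup.induction_on with
    | H x => rfl

theorem quotAut_mk {H : Type*} [Group H] (N : Subgroup H) [N.Normal]
    (hN : N.Characteristic) (φ : MulAut H) (x : H) :
    quotAut N hN φ (x : H ⧸ N) = ((φ x : H) : H ⧸ N) := rfl

section rho

variable {G : Type*} [Group G] (R : Subgroup G) [R.Normal]

/-- The action of `G` on the Frattini quotient of a normal subgroup. -/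
noncomputable def rho : G →* MulAut (↥R ⧸ frattini ↥R) :=
  (quotAut (frattini ↥R) inferInstance).comp (MulAut.conjNormal (H := R))

theorem rho_mk (g : G) (r : R) :
    rho R g (r : ↥R ⧸ frattini ↥R) = ((MulAut.conjNormal g r : R) : ↥R ⧸ frattini ↥R) := rfl

variable [Finite G]

theorem W_comm (hR : IsPGroup 3 R) (a b : ↥R ⧸ frattini ↥R) : a * b = b * a := by
  haveI : Fact (Nat.Prime 3) := ⟨Nat.prime_three⟩
  induction a using QuotientGroup.induction_on with
  | H a =>
    induction b using QuotientGroup.induction_on with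
    | H b =>
      rw [← QuotientGroup.mk_mul, ← QuotientGroup.mk_mul, QuotientGroup.eq]
      have := Cfsg.Agent.Helper21.commutator_mem_frattini_of_isPGroup hR b⁻¹ a⁻¹
      rw [inv_inv, inv_inv] at this
      rw [mul_inv_rev, ← mul_assoc]
      exact this

theorem W_cube (hR : IsPGroup 3 R) (w : ↥R ⧸ frattini ↥R) : w ^ 3 = 1 := by
  haveI : Fact (Nat.Prime 3) := ⟨Nat.prime_three⟩
  induction w using QuotientGroup.induction_on with
  | H a =>
    rw [← QuotientGroup.mk_pow, QuotientGroup.eq_one_iff]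
    exact Cfsg.Agent.Helper21.pow_mem_frattini_of_isPGroup hR a

theorem rho_eq_one_of_mem (hR : IsPGroup 3 R) {g : G} (hg : g ∈ R) : rho R g = 1 := by
  ext w
  induction w using QuotientGroup.induction_on with
  | H r =>
    rw [rho_mk, MulAut.one_apply]
    have h1 : (MulAut.conjNormal g r : R) = (⟨g, hg⟩ : R) * r * (⟨g, hg⟩ : R)⁻¹ := by
      apply Subtype.ext
      rw [MulAut.conjNormal_apply]
      rfl
    rw [h1, QuotientGroup.mk_mul, QuotientGroup.mk_mul, QuotientGroup.mk_inv,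
      W_comm R hR _ (r : ↥R ⧸ frattini ↥R), mul_assoc, mul_inv_cancel, mul_one]

theorem norm_eq_one (hR : IsPGroup 3 R) (h6 : ∀ x : G, x ^ 6 = 1) (g : G) (hg : g ^ 3 ∈ R)
    (w : ↥R ⧸ frattini ↥R) : w * rho R g w * rho R g (rho R g w) = 1 := by
  induction w using QuotientGroup.induction_on with
  | H r =>
    rw [rho_mk, rho_mk]
    obtain ⟨c1, hc1⟩ : ∃ c1 : R, c1 = MulAut.conjNormal g r := ⟨_, rfl⟩
    obtain ⟨c2, hc2⟩ : ∃ c2 : R, c2 = MulAut.conjNormal g c1 := ⟨_, rfl⟩
    rw [← hc1, ← hc2]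
    have hc1' : (c1 : G) = g * r * g⁻¹ := by rw [hc1, MulAut.conjNormal_apply]
    have hc2' : (c2 : G) = g * (g * r * g⁻¹) * g⁻¹ := by
      rw [hc2, MulAut.conjNormal_apply, hc1']
    obtain ⟨t, ht⟩ : ∃ t : R, (t : G) = g ^ 3 := ⟨⟨g ^ 3, hg⟩, rfl⟩
    have ht2 : t * t = 1 := by
      apply Subtype.ext
      rw [Subgroup.coe_mul, ht, Subgroup.coe_one, ← pow_add]
      exact h6 g
    have hx3 : ((r : G) * g) ^ 3 = ((r * c1 * c2 * t : R) : G) := by
      rw [Subgroup.coe_mul, Subgroup.coe_mul, Subgroup.coe_mul, ht, hc1', hc2', pow_succ, pow_two,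
        pow_succ, pow_two]
      group
    have hu2 : (r * c1 * c2 * t) * (r * c1 * c2 * t) = 1 := by
      apply Subtype.ext
      rw [Subgroup.coe_mul, ← hx3, Subgroup.coe_one, ← pow_add]
      exact h6 _
    have e1 : ((r * c1 * c2 * t : R) : ↥R ⧸ frattini ↥R) = 1 := by
      apply eq_one_of_sq (W_cube R hR)
      rw [← QuotientGroup.mk_mul, hu2]
      rfl
    have e2 : ((t : R) : ↥R ⧸ frattini ↥R) = 1 := by
      apply eq_one_of_sq (W_cube R hR)
      rw [← QuotientGroup.mk_mul, ht2]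
      rfl
    rw [QuotientGroup.mk_mul, e2, mul_one, QuotientGroup.mk_mul, QuotientGroup.mk_mul] at e1
    exact e1

end rho

/-! ### The `3`-length -/

theorem mem_of_rho_eq_one {G : Type*} [Group G] [Finite G]
    (hps : IsPSolvable 3 G) (hO : pPrimeCore 3 G = ⊥)
    [hn : (pCore 3 G).Normal] (g : G) (hg : rho (pCore 3 G) g = 1) : g ∈ pCore 3 G := by
  haveI : Fact (Nat.Prime 3) := ⟨Nat.prime_three⟩
  apply Cfsg.Agent.S4218.core_claim hps hO
  intro r hr
  have h1 := congrArg (fun f : MulAut (↥(pCore 3 G) ⧸ frattini ↥(pCore 3 G)) =>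
    f ((⟨r, hr⟩ : pCore 3 G) : ↥(pCore 3 G) ⧸ frattini ↥(pCore 3 G))) hg
  simp only [MulAut.one_apply] at h1
  rw [rho_mk] at h1
  have h2 : ((MulAut.conjNormal g (⟨r, hr⟩ : pCore 3 G) * (⟨r, hr⟩ : pCore 3 G)⁻¹ : pCore 3 G) :
      ↥(pCore 3 G) ⧸ frattini ↥(pCore 3 G)) = 1 := by
    rw [QuotientGroup.mk_mul, h1, QuotientGroup.mk_inv, mul_inv_cancel]
  rw [QuotientGroup.eq_one_iff] at h2
  refine ⟨_, h2, ?_⟩
  rw [Subgroup.subtype_apply, Subgroup.coe_mul, MulAut.conjNormal_apply, Subgroup.coe_inv]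

theorem plength_three_core {G : Type*} [Group G] [Finite G] (h : ∀ x : G, x ^ 6 = 1)
    (hO : pPrimeCore 3 G = ⊥) : PLengthLE 3 1 G := by
  haveI : Fact (Nat.Prime 3) := ⟨Nat.prime_three⟩
  haveI : Fact (Nat.Prime 2) := ⟨Nat.prime_two⟩
  have hs := isSolvable_of_exp_six h
  have hps3 := isPSolvable_of_isSolvable hs 3
  haveI hRn : (pCore 3 G).Normal := Cfsg.Agent.Helper10.pCore_normal 3
  have hRp : IsPGroup 3 (pCore 3 G) := Cfsg.Agent.Helper10.pCore_isPGroup 3
  have hY6 : ∀ y : G ⧸ pCore 3 G, y ^ 6 = 1 := by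
    intro y
    induction y using QuotientGroup.induction_on with
    | H x => rw [← QuotientGroup.mk_pow, h]; rfl
  have hYs := isSolvable_of_exp_six hY6
  have hYps2 := isPSolvable_of_isSolvable hYs 2
  have hY3 : pCore 3 (G ⧸ pCore 3 G) = ⊥ := by
    have h1 := Cfsg.Agent.Helper16.comap_pCore_quotient (pCore 3 G) hRp
    have h2 := Subgroup.map_comap_eq_self_of_surjective
      (QuotientGroup.mk'_surjective (pCore 3 G)) (pCore 3 (G ⧸ pCore 3 G))
    rw [h1, QuotientGroup.map_mk'_self] at h2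
    exact h2.symm
  have hY2' : pPrimeCore 2 (G ⧸ pCore 3 G) = ⊥ := by
    rw [eq_bot_iff, ← hY3]
    haveI hKn : (pPrimeCore 2 (G ⧸ pCore 3 G)).Normal := Cfsg.Agent.Helper10.pPrimeCore_normal 2
    have hKc := Cfsg.Agent.Helper10.card_pPrimeCore_coprime (G := G ⧸ pCore 3 G) 2
    refine le_sSup ⟨hKn, ?_⟩
    intro x
    refine ⟨1, ?_⟩
    rw [pow_one]
    have h1 : orderOf x ∣ 2 * 3 := orderOf_dvd_of_pow_eq_one (by
      apply Subtype.ext
      rw [Subgroup.coe_pow, hY6, Subgroup.coe_one])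
    have h2 : (orderOf x).Coprime 2 :=
      Nat.Coprime.coprime_dvd_left (orderOf_dvd_natCard x) hKc
    exact orderOf_dvd_iff_pow_eq_one.mp (h2.dvd_of_dvd_mul_left h1)
  have hcent := Cfsg.Agent.Helper23.PSolv.centralizer_pCore_le hYps2 hY2'
  haveI hQn : (pCore 2 (G ⧸ pCore 3 G)).Normal := Cfsg.Agent.Helper10.pCore_normal 2
  have hQp : IsPGroup 2 (pCore 2 (G ⧸ pCore 3 G)) := Cfsg.Agent.Helper10.pCore_isPGroup 2
  have hQ2 : ∀ x ∈ pCore 2 (G ⧸ pCore 3 G), x ^ 2 = 1 := by
    intro x hx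
    obtain ⟨k, hk⟩ := hQp ⟨x, hx⟩
    have hk' : x ^ 2 ^ k = 1 := by
      have := congrArg Subtype.val hk
      simpa using this
    exact sq_eq_one_of_two_elem (hY6 x) hk'
  have hQc : ∀ x ∈ pCore 2 (G ⧸ pCore 3 G), ∀ z ∈ pCore 2 (G ⧸ pCore 3 G), x * z = z * x := by
    intro x hx z hz
    have hsq : ∀ u : pCore 2 (G ⧸ pCore 3 G), u ^ 2 = 1 := by
      intro u
      apply Subtype.ext
      rw [Subgroup.coe_pow, hQ2 _ u.2, Subgroup.coe_one]
    have := comm_of_sq_eq_one hsq ⟨x, hx⟩ ⟨z, hz⟩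
    exact congrArg Subtype.val this
  -- the induced action of the quotient
  obtain ⟨ρ', hρ'⟩ : ∃ ρ' : (G ⧸ pCore 3 G) →* MulAut (↥(pCore 3 G) ⧸ frattini ↥(pCore 3 G)),
      ∀ g : G, ρ' (g : G ⧸ pCore 3 G) = rho (pCore 3 G) g :=
    ⟨QuotientGroup.lift (pCore 3 G) (rho (pCore 3 G))
      (fun g hg => rho_eq_one_of_mem (pCore 3 G) hRp hg), fun g => rfl⟩
  have hρinj : ∀ a : G ⧸ pCore 3 G, ρ' a = 1 → a = 1 := by
    intro a ha
    induction a using QuotientGroup.induction_on with
    | H g =>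
      rw [hρ'] at ha
      rw [QuotientGroup.eq_one_iff]
      exact mem_of_rho_eq_one hps3 hO g ha
  -- no elements of order three in the quotient
  have hno : ∀ y : G ⧸ pCore 3 G, y ^ 3 = 1 → y = 1 := by
    intro y hy3
    by_contra hy1
    have hyQ : y ∉ pCore 2 (G ⧸ pCore 3 G) := by
      intro hyQ
      have h2 := hQ2 y hyQ
      apply hy1
      have : y ^ 3 = y ^ 2 * y := pow_succ y 2
      rw [hy3, h2, one_mul] at this
      exact this.symm
    have hyC : y ∉ centralizer (pCore 2 (G ⧸ pCore 3 G) : Set (G ⧸ pCore 3 G)) :=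
      fun hc => hyQ (hcent hc)
    rw [Subgroup.mem_centralizer_iff] at hyC
    push Not at hyC
    obtain ⟨s, hsQ, hsy⟩ := hyC
    have hsQ' : s ∈ pCore 2 (G ⧸ pCore 3 G) := hsQ
    obtain ⟨s1, hs1⟩ : ∃ s1, s1 = y * s * y⁻¹ := ⟨_, rfl⟩
    obtain ⟨s2, hs2⟩ : ∃ s2, s2 = y * s1 * y⁻¹ := ⟨_, rfl⟩
    have hs1Q : s1 ∈ pCore 2 (G ⧸ pCore 3 G) := by rw [hs1]; exact hQn.conj_mem s hsQ' y
    have hs2Q : s2 ∈ pCore 2 (G ⧸ pCore 3 G) := by rw [hs2]; exact hQn.conj_mem s1 hs1Q y
    have hyinv : y⁻¹ = y * y := by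
      rw [inv_eq_iff_mul_eq_one]
      have : y ^ 3 = y * (y * y) := by rw [pow_succ, pow_two, mul_assoc]
      rw [← this, hy3]
    have hs0 : s = y * s2 * y⁻¹ := by
      rw [hs2, hs1]
      have : y * (y * (y * s * y⁻¹) * y⁻¹) * y⁻¹ = (y * (y * y)) * s * (y * (y * y))⁻¹ := by group
      rw [this, ← hyinv, mul_inv_cancel, one_mul, inv_one, mul_one]
    have sq0 : s * s = 1 := by rw [← pow_two]; exact hQ2 s hsQ'
    have sq1 : s1 * s1 = 1 := by rw [← pow_two]; exact hQ2 s1 hs1Q
    have sq2 : s2 * s2 = 1 := by rw [← pow_two]; exact hQ2 s2 hs2Q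
    obtain ⟨a, ha⟩ : ∃ a, a = s * s1 := ⟨_, rfl⟩
    obtain ⟨b, hb⟩ : ∃ b, b = s1 * s2 := ⟨_, rfl⟩
    have haQ : a ∈ pCore 2 (G ⧸ pCore 3 G) := by rw [ha]; exact mul_mem hsQ' hs1Q
    have hbQ : b ∈ pCore 2 (G ⧸ pCore 3 G) := by rw [hb]; exact mul_mem hs1Q hs2Q
    have haa : a * a = 1 := by rw [← pow_two]; exact hQ2 a haQ
    have hbb : b * b = 1 := by rw [← pow_two]; exact hQ2 b hbQ
    have hab : a * b = b * a := hQc a haQ b hbQ
    have hya : y * a = b * y := by
      rw [ha, hb, hs2, hs1]; group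
    have hab' : a * b = s2 * s := by
      rw [ha, hb, mul_assoc, ← mul_assoc s1, sq1, one_mul]
      exact hQc s hsQ' s2 hs2Q
    have hyb : y * b = a * b * y := by
      have e1 : y * s1 = s2 * y := by rw [hs2]; group
      have e2 : y * s2 = s * y := by rw [hs0]; group
      rw [hab', hb, ← mul_assoc, e1, mul_assoc, e2, mul_assoc]
    have ha1 : a ≠ 1 := by
      intro h1
      rw [ha, mul_eq_one_iff_eq_inv] at h1
      have hsinv : s1⁻¹ = s1 := by rw [inv_eq_iff_mul_eq_one]; exact sq1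
      rw [hsinv, hs1] at h1
      apply hsy
      have : y * s * y⁻¹ * y = s * y := by rw [← h1]
      rw [← this]; group
    apply ha1
    apply hρinj
    apply key_aut (W_comm (pCore 3 G) hRp) (W_cube (pCore 3 G) hRp) (ρ' a) (ρ' b) (ρ' y)
    · rw [← map_mul, haa, map_one]
    · rw [← map_mul, hbb, map_one]
    · rw [← map_mul, ← map_mul, hab]
    · rw [← map_mul, ← map_mul, hya]
    · rw [← map_mul, ← map_mul, ← map_mul, hyb]
    · intro v
      induction y using QuotientGroup.induction_on with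
      | H g =>
        rw [hρ']
        apply norm_eq_one (pCore 3 G) hRp h g
        rw [← QuotientGroup.eq_one_iff, QuotientGroup.mk_pow]
        exact hy3
  have hcop : (Nat.card (G ⧸ pCore 3 G)).Coprime 3 := by
    rw [Nat.coprime_comm, Nat.Prime.coprime_iff_not_dvd Nat.prime_three]
    intro hd
    obtain ⟨y, hy⟩ := exists_prime_orderOf_dvd_card' 3 hd
    have hy3 : y ^ 3 = 1 := by
      have := pow_orderOf_eq_one y
      rwa [hy] at this
    have := hno y hy3
    rw [this, orderOf_one] at hy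
    norm_num at hy
  have := Cfsg.Agent.Helper19.PLen.plengthLE_add (pCore 3 G)
    (Cfsg.Agent.Helper19.PLen.plengthLE_one_of_isPGroup hRp)
    (Cfsg.Agent.Helper19.PLen.plengthLE_zero_of_coprime hcop)
  exact this

theorem plength_three {G : Type*} [Group G] [Finite G] (h : ∀ x : G, x ^ 6 = 1) :
    PLengthLE 3 1 G := by
  haveI : Fact (Nat.Prime 3) := ⟨Nat.prime_three⟩
  haveI hKn : (pPrimeCore 3 G).Normal := Cfsg.Agent.Helper10.pPrimeCore_normal 3
  have hY6 : ∀ y : G ⧸ pPrimeCore 3 G, y ^ 6 = 1 := by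
    intro y
    induction y using QuotientGroup.induction_on with
    | H x => rw [← QuotientGroup.mk_pow, h]; rfl
  have hO := Cfsg.Agent.Helper23.PSolv.pPrimeCore_quotient_pPrimeCore (G := G) 3
  have h1 := plength_three_core hY6 hO
  have := Cfsg.Agent.Helper19.PLen.plengthLE_add (pPrimeCore 3 G)
    (Cfsg.Agent.Helper19.PLen.plengthLE_zero_of_coprime
      (Cfsg.Agent.Helper10.card_pPrimeCore_coprime 3)) h1
  exact this


/-- A finite group in which every element has order dividing `6` has `2`-length at most `1` and `3`-length at most `1`. -/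
theorem result {G : Type*} [Group G] [Finite G] (h : ∀ x : G, x ^ 6 = 1) : Cfsg.PLengthLE 2 1 G ∧ Cfsg.PLengthLE 3 1 G := by
  exact ⟨plength_two h, plength_three h⟩

end Cfsg.Agent.S4227
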