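import Mathlib
import Cfsg.Statements.S0025
import Cfsg.Agent.Lib.Helper1.CoprimeSylow
import Cfsg.Agent.Lib.Helper1.SylowNumeric
import Cfsg.Agent.Lib.Helper1.HallConj

set_option autoImplicit false
open Cfsg

namespace Cfsg.Agent.S0025

open Cfsg.Agent.Helper1

theorem aux {G : Type*} [Group G] [Finite G] (A K : Subgroup G) (hAK : A ≤ Subgroup.normalizer (K : Set G))
    (hcop : (Nat.card A).Coprime (Nat.card K)) (hsolv : Group.IsSolvable A ∨ Group.IsSolvable K)
    (p : ℕ) [Fact p.Prime] : ∀ (d : ℕ) (U : Subgroup G), U ≤ K → IsPGroup p U →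
    A ≤ Subgroup.normalizer (U : Set G) → Nat.card K - Nat.card U = d →
    ∃ P : Sylow p K, U ≤ (P : Subgroup K).map K.subtype ∧
      A ≤ Subgroup.normalizer ((P : Subgroup K).map K.subtype : Set G) := by
  intro d
  induction d using Nat.strong_induction_on with
  | _ d ih =>
  intro U hUK hU hUA hd
  obtain ⟨n, hn⟩ := hU.exists_card_eq
  set N : Subgroup G := K ⊓ Subgroup.normalizer (U : Set G) with hN
  have hNK : N ≤ K := inf_le_left
  have hUN : U ≤ N := le_inf hUK Subgroup.le_normalizer
  have hAN : A ≤ Subgroup.normalizer (N : Set G) :=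
    (le_inf hAK (hUA.trans Subgroup.le_normalizer)).trans Subgroup.inf_normalizer_le_normalizer_inf
  have hcop' : (Nat.card A).Coprime (Nat.card N) :=
    Nat.Coprime.coprime_dvd_right (Subgroup.card_dvd_of_le hNK) hcop
  have hsolv' : Group.IsSolvable A ∨ Group.IsSolvable N := by
    rcases hsolv with h | h
    · exact Or.inl h
    · right
      exact Group.isSolvable_of_isSolvable_injective (f := Subgroup.inclusion hNK)
        (Subgroup.inclusion_injective hNK)
  obtain ⟨S, hS⟩ := exists_invariant_sylow (p := p) A hAN hcop' hsolv'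
  set S' : Subgroup G := (S : Subgroup N).map N.subtype with hS'
  have hS'N : S' ≤ N := by rw [hS']; exact Subgroup.map_subtype_le _
  have hS'card : Nat.card S' = Nat.card (S : Subgroup N) := card_map_subtype N _
  -- `U ≤ S'`
  have hUS : U ≤ S' := by
    haveI : (U.subgroupOf N).Normal := Subgroup.normal_subgroupOf_of_le_normalizer inf_le_right
    have h1 : Nat.card (U.subgroupOf N) = p ^ n := by
      rw [Cfsg.Agent.S0001.card_subgroupOf_of_le hUN, hn]
    have h2 : (p ^ n).Coprime (S : Subgroup N).index :=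
      Nat.Coprime.pow_left n ((Nat.Prime.coprime_iff_not_dvd Fact.out).mpr S.not_dvd_index)
    have h3 := le_of_normal_pGroup_of_coprime_index (U.subgroupOf N) (S : Subgroup N) h1 h2
    have h4 := Subgroup.map_mono (f := N.subtype) h3
    rwa [Subgroup.map_subgroupOf_eq_of_le hUN] at h4
  by_cases hEq : S' = U
  · -- `U` is Sylow in `N_K(U)`, hence in `K`
    have hnd : ¬ p ^ (n + 1) ∣ Nat.card K := by
      intro hdvd
      have hmod := card_inf_normalizer_modEq (p := p) hUK hn
      have hdvdN : p ^ (n + 1) ∣ Nat.card N := (Nat.modEq_zero_iff_dvd.mp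
        (hmod.trans (Nat.modEq_zero_iff_dvd.mpr hdvd)))
      have h5 := S.pow_dvd_card_of_pow_dvd_card hdvdN
      rw [← hS'card, hEq, hn] at h5
      have := Nat.le_of_dvd (pow_pos (Fact.out : p.Prime).pos n) h5
      have h6 : p ^ n < p ^ (n + 1) := Nat.pow_lt_pow_right (Fact.out : p.Prime).one_lt (Nat.lt_succ_self n)
      omega
    obtain ⟨P, hP⟩ := exists_sylow_map_eq (p := p) hUK hn hnd
    exact ⟨P, by rw [hP], by rw [hP]; exact hUA⟩
  · have hlt : Nat.card U < Nat.card S' := by
      by_contra hge
      push_neg at hge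
      exact hEq (Subgroup.eq_of_le_of_card_ge hUS hge).symm
    have hS'K : S' ≤ K := hS'N.trans hNK
    have hS'p : IsPGroup p S' := by
      rw [hS']
      exact S.2.map N.subtype
    have hle : Nat.card S' ≤ Nat.card K := Subgroup.card_le_of_le hS'K
    obtain ⟨P, hP1, hP2⟩ := ih (Nat.card K - Nat.card S') (by omega) S' hS'K hS'p hS rfl
    exact ⟨P, hUS.trans hP1, hP2⟩

/-- Under coprime action (A normalising K, coprime orders, A or K solvable), an A-invariant p-subgroup of K is contained in an A-invariant Sylow p-subgroup of K. -/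
theorem result {G : Type*} [Group G] [Finite G] (A K : Subgroup G) (hAK : A ≤ Subgroup.normalizer (K : Set G))
    (hcop : (Nat.card A).Coprime (Nat.card K)) (hsolv : Group.IsSolvable A ∨ Group.IsSolvable K)
    (p : ℕ) [Fact p.Prime] (U : Subgroup G) (hUK : U ≤ K) (hU : IsPGroup p U) (hUA : A ≤ Subgroup.normalizer (U : Set G)) :
    ∃ P : Sylow p K, U ≤ (P : Subgroup K).map K.subtype ∧ A ≤ Subgroup.normalizer ((P : Subgroup K).map K.subtype : Set G) := by
  exact aux A K hAK hcop hsolv p _ U hUK hU hUA rfl

end Cfsg.Agent.S0025
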