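import Mathlib
import Cfsg.Statements.S1280
import Cfsg.Agent.Lib.Helper7.Signalizer

set_option autoImplicit false
open Cfsg

namespace Cfsg.Agent.S1280

open Cfsg.Agent.Helper7

/-- Let θ be a solvable A-signalizer functor (A a noncyclic elementary abelian p-subgroup of the finite group G), and X, Y members of its family with Y ≤ N_G(X). Then X ⊔ Y (= XY) is again in the family. -/
theorem result {G : Type*} [Group G] [Finite G] (p : ℕ) [Fact p.Prime] (A : Subgroup G) (hA : Cfsg.IsElementaryAbelian p A) (hA2 : p ^ 2 ≤ Nat.card ↥A) (θ : G → Subgroup G) (hθ : Cfsg.IsSolvableSignalizerFunctor p A θ) (X Y : Subgroup G) (hX : X ∈ Cfsg.signalizerFamily p A θ) (hY : Y ∈ Cfsg.signalizerFamily p A θ) (hn : Y ≤ Subgroup.normalizer (X : Set G)) : X ⊔ Y ∈ Cfsg.signalizerFamily p A θ := by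
  obtain ⟨⟨hθc, hθp, hθA, hθb⟩, hθs⟩ := hθ
  obtain ⟨hXs, hXp, hXA, hXb⟩ := hX
  obtain ⟨hYs, hYp, hYA, hYb⟩ := hY
  refine ⟨isSolvable_sup_of_le_normalizer hn hXs hYs, ?_, ?_, ?_⟩
  · intro hdvd
    have := hdvd.trans (card_sup_dvd_mul_of_le_normalizer hn)
    rcases (Nat.Prime.dvd_mul (Fact.out : p.Prime)).mp this with h | h
    · exact hXp h
    · exact hYp h
  · intro b hb
    exact conj_mem_sup_of_forall (hXA b hb) (hYA b hb)
  · intro a ha ha1 k hk
    obtain ⟨hk1, hk2⟩ := Subgroup.mem_inf.mp hk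
    obtain ⟨x, hx, y, hy, rfl⟩ := exists_mul_of_mem_sup_centralizer
      (card_zpowers_of_isElementaryAbelian hA ha ha1) hn hXp hYp (hXA a ha) (hYA a ha) hk1 hk2
    exact (θ a).mul_mem (hXb a ha ha1 hx) (hYb a ha ha1 hy)

end Cfsg.Agent.S1280
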