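import Mathlib
import Cfsg.Statements.S1282
import Cfsg.Agent.Lib.Helper7.CoprimeGen3

set_option autoImplicit false
open Cfsg

namespace Cfsg.Agent.S1282

open Cfsg.Agent.Helper7

/-- Let A be an elementary abelian p-subgroup of rank at least 3 of the finite group G, q ≠ p a prime, and Q₁, Q₂ q-subgroups normalized by A with D = Q₁ ∩ Q₂ different from both. Then there is a non-identity a ∈ A such that, for i = 1 and i = 2, N_{Q_i}(D) ∩ C_G(a) is not contained in D. -/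
theorem result {G : Type*} [Group G] [Finite G] (p : ℕ) [Fact p.Prime] (A : Subgroup G) (hA : Cfsg.IsElementaryAbelian p A) (hA3 : p ^ 3 ≤ Nat.card ↥A) (q : ℕ) [Fact q.Prime] (hqp : q ≠ p) (Q₁ Q₂ : Subgroup G) (h₁ : IsPGroup q ↥Q₁) (h₂ : IsPGroup q ↥Q₂) (hA₁ : A ≤ Subgroup.normalizer (Q₁ : Set G)) (hA₂ : A ≤ Subgroup.normalizer (Q₂ : Set G)) (hD₁ : Q₁ ⊓ Q₂ ≠ Q₁) (hD₂ : Q₁ ⊓ Q₂ ≠ Q₂) : ∃ a ∈ A, a ≠ 1 ∧ ¬ (Subgroup.normalizer ((Q₁ ⊓ Q₂ : Subgroup G) : Set G) ⊓ Q₁ ⊓ Subgroup.centralizer {a} ≤ Q₁ ⊓ Q₂) ∧ ¬ (Subgroup.normalizer ((Q₁ ⊓ Q₂ : Subgroup G) : Set G) ⊓ Q₂ ⊓ Subgroup.centralizer {a} ≤ Q₁ ⊓ Q₂) := by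
  have hpp := (Fact.out : p.Prime)
  have hqq := (Fact.out : q.Prime)
  set D := Q₁ ⊓ Q₂ with hD
  have hAD : A ≤ Subgroup.normalizer (D : Set G) :=
    (le_inf hA₁ hA₂).trans Subgroup.inf_normalizer_le_normalizer_inf
  have hANN : A ≤ Subgroup.normalizer ((Subgroup.normalizer (D : Set G) : Subgroup G) : Set G) :=
    hAD.trans Subgroup.le_normalizer
  -- general step
  have step : ∀ Q : Subgroup G, IsPGroup q ↥Q → A ≤ Subgroup.normalizer (Q : Set G) → D < Q →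
      ∃ B : Subgroup G, B ≤ A ∧ B.relIndex A ≤ p ∧
        ¬ (Subgroup.normalizer (D : Set G) ⊓ Q ⊓ Subgroup.centralizer (B : Set G) ≤ D) := by
    intro Q hQ hAQ hDQ
    set N := Subgroup.normalizer (D : Set G) ⊓ Q with hN
    have hNq : IsPGroup q ↥N := hQ.to_le inf_le_right
    have hNp : ¬ p ∣ Nat.card ↥N := by
      intro hd
      obtain ⟨k, hk⟩ := hNq.exists_card_eq
      rw [hk] at hd
      exact hqp ((Nat.prime_dvd_prime_iff_eq hpp hqq).mp (hpp.dvd_of_dvd_pow hd)).symm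
    have hAN : A ≤ Subgroup.normalizer (N : Set G) :=
      (le_inf hANN hAQ).trans Subgroup.inf_normalizer_le_normalizer_inf
    have hDN : D < N := by
      have := lt_inf_normalizer_of_lt q hQ hDQ
      rw [inf_comm] at this
      exact this
    have hgen := le_hyperGen p A N hA hNp hAN
    by_contra hcon
    push_neg at hcon
    have : N ≤ D := by
      refine hgen.trans (iSup_le ?_)
      rintro ⟨B, hBA, hBr⟩
      exact hcon B hBA hBr
    exact absurd hDN (not_lt_of_ge this)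
  have hDQ₁ : D < Q₁ := lt_of_le_of_ne inf_le_left hD₁
  have hDQ₂ : D < Q₂ := lt_of_le_of_ne inf_le_right hD₂
  obtain ⟨B₁, hB₁A, hB₁r, hB₁⟩ := step Q₁ h₁ hA₁ hDQ₁
  obtain ⟨B₂, hB₂A, hB₂r, hB₂⟩ := step Q₂ h₂ hA₂ hDQ₂
  -- the intersection of B₁ and B₂ is nontrivial
  have hBne : B₁ ⊓ B₂ ≠ ⊥ := by
    intro hbot
    have h1 : (B₁ ⊓ B₂).relIndex A ≤ p * p :=
      (Subgroup.relIndex_inf_le).trans (Nat.mul_le_mul hB₁r hB₂r)
    have h2 := relIndex_mul_card_of_le (inf_le_left.trans hB₁A : B₁ ⊓ B₂ ≤ A)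
    rw [hbot, Subgroup.card_bot, mul_one] at h2
    rw [hbot, h2] at h1
    have h3 : p ^ 3 ≤ p * p := hA3.trans h1
    have h4 : p * p * p ≤ p * p * 1 := by
      rw [mul_one]
      calc p * p * p = p ^ 3 := by ring
        _ ≤ p * p := h3
    have := Nat.le_of_mul_le_mul_left h4 (Nat.mul_pos hpp.pos hpp.pos)
    exact absurd hpp.one_lt (not_lt.mpr this)
  obtain ⟨⟨a, haB⟩, ha1⟩ := (Subgroup.ne_bot_iff_exists_ne_one).mp hBne
  have ha1' : a ≠ 1 := fun h => ha1 (Subtype.ext h)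
  obtain ⟨haB₁, haB₂⟩ := Subgroup.mem_inf.mp haB
  refine ⟨a, hB₁A haB₁, ha1', ?_, ?_⟩
  · intro hle
    apply hB₁
    refine le_trans (inf_le_inf_left _ (Subgroup.centralizer_le ?_)) hle
    intro y hy
    rw [Set.mem_singleton_iff] at hy
    rw [hy]; exact haB₁
  · intro hle
    apply hB₂
    refine le_trans (inf_le_inf_left _ (Subgroup.centralizer_le ?_)) hle
    intro y hy
    rw [Set.mem_singleton_iff] at hy
    rw [hy]; exact haB₂

end Cfsg.Agent.S1282
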