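import Mathlib
import Cfsg.Statements.S1460
import Cfsg.Agent.Lib.Helper1.Coprime

set_option autoImplicit false
open Cfsg

namespace Cfsg.Agent.S1460

open scoped Pointwise

section aux

variable {G : Type*} [Group G]

theorem commutator_le_sup (K U : Subgroup G) [K.Normal] (hKU : K ⊔ U = ⊤) :
    commutator G ≤ K ⊔ ⁅U, U⁆ := by
  have hsurj : Function.Surjective (QuotientGroup.mk' K) := QuotientGroup.mk'_surjective K
  have htop : Subgroup.map (QuotientGroup.mk' K) ⊤ = ⊤ := by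
    rw [← MonoidHom.range_eq_map, MonoidHom.range_eq_top]
    exact hsurj
  have h1 : Subgroup.map (QuotientGroup.mk' K) U = ⊤ := by
    have : Subgroup.map (QuotientGroup.mk' K) (K ⊔ U) = ⊤ := by
      rw [hKU, htop]
    rw [Subgroup.map_sup] at this
    have hK : Subgroup.map (QuotientGroup.mk' K) K = ⊥ := by
      rw [← le_bot_iff, Subgroup.map_le_iff_le_comap]
      intro k hk
      simp [hk]
    rwa [hK, bot_sup_eq] at this
  have h2 : Subgroup.map (QuotientGroup.mk' K) (commutator G)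
      = Subgroup.map (QuotientGroup.mk' K) ⁅U, U⁆ := by
    rw [commutator_def, Subgroup.map_commutator, Subgroup.map_commutator, h1, htop]
  calc commutator G
      ≤ Subgroup.comap (QuotientGroup.mk' K) (Subgroup.map (QuotientGroup.mk' K) (commutator G)) :=
        Subgroup.le_comap_map _ _
    _ = Subgroup.comap (QuotientGroup.mk' K) (Subgroup.map (QuotientGroup.mk' K) ⁅U, U⁆) := by
        rw [h2]
    _ = ⁅U, U⁆ ⊔ K := by rw [Subgroup.comap_map_eq, QuotientGroup.ker_mk']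
    _ = K ⊔ ⁅U, U⁆ := sup_comm _ _

theorem pow_card_eq_one_of_mem [Finite G] (H : Subgroup G) {x : G} (hx : x ∈ H) :
    x ^ Nat.card H = 1 := by
  have h := pow_card_eq_one' (G := H) (x := ⟨x, hx⟩)
  have := congrArg (Subtype.val) h
  simpa only [SubgroupClass.coe_pow, OneMemClass.coe_one] using this

theorem partA [Finite G] (K U H : Subgroup G) [K.Normal] (hKU : K ⊔ U = ⊤) (hH : H ≤ U)
    (hcop : (Nat.card H).Coprime (Nat.card K)) :
    H ⊓ commutator G = H ⊓ ⁅U, U⁆ := by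
  apply le_antisymm
  · intro x hx
    obtain ⟨hxH, hxG⟩ := Subgroup.mem_inf.mp hx
    refine Subgroup.mem_inf.mpr ⟨hxH, ?_⟩
    have hx2 : x ∈ K ⊔ ⁅U, U⁆ := commutator_le_sup K U hKU hxG
    have hUU : ⁅U, U⁆ ≤ U := Subgroup.commutator_le_self U
    obtain ⟨k, hk, w, hw, hxkw⟩ := Cfsg.Agent.Helper1.exists_mul_of_mem_sup
      (N := K) (A := ⁅U, U⁆) (by rw [Subgroup.normalizer_eq_top]; exact le_top) hx2
    have hwU : w ∈ U := hUU hw
    have hxU : x ∈ U := hH hxH
    have hkU : k ∈ U := by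
      have : k = x * w⁻¹ := by rw [hxkw]; group
      rw [this]; exact U.mul_mem hxU (U.inv_mem hwU)
    -- work in the abelianization of U
    let π := QuotientGroup.mk' (commutator U)
    have hw' : (⟨w, hwU⟩ : U) ∈ commutator U := by
      have : w ∈ Subgroup.map U.subtype (commutator U) := by
        rw [Subgroup.map_subtype_commutator]
        exact hw
      obtain ⟨w', hw'1, hw'2⟩ := this
      have : w' = ⟨w, hwU⟩ := Subtype.ext hw'2
      rwa [this] at hw'1
    have hπw : π ⟨w, hwU⟩ = 1 := (QuotientGroup.eq_one_iff _).mpr hw'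
    have hπx : π ⟨x, hxU⟩ = π ⟨k, hkU⟩ := by
      have : (⟨x, hxU⟩ : U) = ⟨k, hkU⟩ * ⟨w, hwU⟩ := Subtype.ext hxkw
      rw [this, map_mul, hπw, mul_one]
    have h1 : (π ⟨x, hxU⟩) ^ Nat.card H = 1 := by
      rw [← map_pow]
      have : (⟨x, hxU⟩ : U) ^ Nat.card H = 1 := Subtype.ext (by
        simpa using pow_card_eq_one_of_mem H hxH)
      rw [this, map_one]
    have h2 : (π ⟨x, hxU⟩) ^ Nat.card K = 1 := by
      rw [hπx, ← map_pow]
      have : (⟨k, hkU⟩ : U) ^ Nat.card K = 1 := Subtype.ext (by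
        simpa using pow_card_eq_one_of_mem K hk)
      rw [this, map_one]
    have h3 : π ⟨x, hxU⟩ = 1 := by
      have := (pow_gcd_eq_one (a := π ⟨x, hxU⟩)).mpr ⟨h1, h2⟩
      rwa [Nat.Coprime.gcd_eq_one hcop, pow_one] at this
    have h4 : (⟨x, hxU⟩ : U) ∈ commutator U := (QuotientGroup.eq_one_iff _).mp h3
    have : x ∈ Subgroup.map U.subtype (commutator U) := ⟨⟨x, hxU⟩, h4, rfl⟩
    rw [Subgroup.map_subtype_commutator] at this
    exact this
  · apply inf_le_inf_left
    rw [commutator_def]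
    exact Subgroup.commutator_mono le_top le_top

theorem partC [Finite G] [Group.IsSolvable G] (K U H : Subgroup G) [K.Normal]
    (hKU : K ⊔ U = ⊤) (hH : H ≤ U)
    (hcop : (Nat.card H).Coprime (Nat.card K)) (g : G)
    (hg : H.map (MulAut.conj g).toMonoidHom ≤ U) :
    ∃ u ∈ U, ∃ c ∈ K ⊓ Subgroup.centralizer (H : Set G), g = u * c := by
  have hKn : U ≤ Subgroup.normalizer (K : Set G) := by
    rw [Subgroup.normalizer_eq_top]; exact le_top
  have hginv : g⁻¹ ∈ K ⊔ U := by rw [hKU]; trivial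
  obtain ⟨k', hk', u', hu', hgku⟩ := Cfsg.Agent.Helper1.exists_mul_of_mem_sup hKn hginv
  have hg' : g = u'⁻¹ * k'⁻¹ := by
    have : g = (g⁻¹)⁻¹ := by group
    rw [this, hgku]; group
  set u₀ := u'⁻¹ with hu₀
  set k := k'⁻¹ with hk0
  have hu₀U : u₀ ∈ U := U.inv_mem hu'
  have hkK : k ∈ K := K.inv_mem hk'
  have hkU : ∀ h ∈ H, k * h * k⁻¹ ∈ U := by
    intro h hh
    have h1 : g * h * g⁻¹ ∈ U := hg ⟨h, hh, by simp⟩
    have h2 : k * h * k⁻¹ = u₀⁻¹ * (g * h * g⁻¹) * u₀ := by rw [hg']; group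
    rw [h2]
    exact U.mul_mem (U.mul_mem (U.inv_mem hu₀U) h1) hu₀U
  have hB : MulAut.conj k • H ≤ (K ⊓ U) ⊔ H := by
    intro b hb
    rw [Cfsg.Agent.Helper1.mem_conj_smul_iff] at hb
    have h3 : b = (k * (k⁻¹ * b * k) * k⁻¹ * (k⁻¹ * b * k)⁻¹) * (k⁻¹ * b * k) := by group
    rw [h3]
    refine Subgroup.mul_mem _ (Subgroup.mem_sup_left (Subgroup.mem_inf.mpr ⟨?_, ?_⟩))
      (Subgroup.mem_sup_right hb)
    · have h4 : k * (k⁻¹ * b * k) * k⁻¹ * (k⁻¹ * b * k)⁻¹
          = k * ((k⁻¹ * b * k) * k⁻¹ * (k⁻¹ * b * k)⁻¹) := by group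
      rw [h4]
      exact K.mul_mem hkK (Subgroup.Normal.conj_mem inferInstance _ (K.inv_mem hkK) _)
    · exact U.mul_mem (hkU _ hb) (U.inv_mem (hH hb))
  have hnorm : H ≤ Subgroup.normalizer ((K ⊓ U : Subgroup G) : Set G) := by
    intro h hh
    rw [Subgroup.mem_normalizer_iff]
    intro x
    have hhU : h ∈ U := hH hh
    constructor
    · intro hx
      obtain ⟨hx1, hx2⟩ := Subgroup.mem_inf.mp hx
      exact Subgroup.mem_inf.mpr ⟨Subgroup.Normal.conj_mem inferInstance _ hx1 _,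
        U.mul_mem (U.mul_mem hhU hx2) (U.inv_mem hhU)⟩
    · intro hx
      obtain ⟨hx1, hx2⟩ := Subgroup.mem_inf.mp hx
      have h5 : x = h⁻¹ * (h * x * h⁻¹) * h⁻¹⁻¹ := by group
      rw [h5]
      exact Subgroup.mem_inf.mpr ⟨Subgroup.Normal.conj_mem inferInstance _ hx1 _,
        U.mul_mem (U.mul_mem (U.inv_mem hhU) hx2) (U.inv_mem (U.inv_mem hhU))⟩
  have hcop' : (Nat.card H).Coprime (Nat.card (K ⊓ U : Subgroup G)) :=
    Nat.Coprime.coprime_dvd_right (Subgroup.card_dvd_of_le inf_le_left) hcop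
  have hsolv : Group.IsSolvable H ∨ Group.IsSolvable (K ⊓ U : Subgroup G) :=
    Or.inl inferInstance
  obtain ⟨n, hn, hnB⟩ := Cfsg.Agent.Helper1.sz_internal (K ⊓ U) H (MulAut.conj k • H) hnorm
    hcop' hsolv hB (Cfsg.Agent.Helper1.card_conj_smul _ _)
  rw [Cfsg.Agent.Helper1.conj_smul_conj_smul] at hnB
  obtain ⟨hnK, hnU⟩ := Subgroup.mem_inf.mp hn
  have hcK : n * k ∈ K := K.mul_mem hnK hkK
  have hHK : H ⊓ K = ⊥ := (Subgroup.disjoint_of_coprime_natCard hcop).eq_bot
  have hcinv : MulAut.conj (n * k)⁻¹ • H = H := by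
    have h6 : MulAut.conj (n * k)⁻¹ • (MulAut.conj (n * k) • H) = MulAut.conj (n * k)⁻¹ • H := by
      rw [hnB]
    rw [Cfsg.Agent.Helper1.conj_smul_conj_smul] at h6
    rw [← h6]
    simp
  have hcC : n * k ∈ Subgroup.centralizer (H : Set G) := by
    apply Cfsg.Agent.Helper1.mem_centralizer_of_conj_eq hHK hcinv
    intro a ha
    have h7 : (n * k)⁻¹ * a * (n * k) * a⁻¹ = (n * k)⁻¹ * (a * (n * k) * a⁻¹) := by group
    rw [h7]
    exact K.mul_mem (K.inv_mem hcK) (Subgroup.Normal.conj_mem inferInstance _ hcK _)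
  refine ⟨u₀ * n⁻¹, U.mul_mem hu₀U (U.inv_mem hnU), n * k, Subgroup.mem_inf.mpr ⟨hcK, hcC⟩, ?_⟩
  rw [hg']; group

theorem partB [Finite G] [Group.IsSolvable G] (K U H : Subgroup G) [K.Normal]
    (hKU : K ⊔ U = ⊤) (hH : H ≤ U)
    (hcop : (Nat.card H).Coprime (Nat.card K)) :
    Subgroup.normalizer (H : Set G)
      = (K ⊓ Subgroup.centralizer (H : Set G)) ⊔ (U ⊓ Subgroup.normalizer (H : Set G)) := by
  have hCN : Subgroup.centralizer (H : Set G) ≤ Subgroup.normalizer (H : Set G) := by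
    intro c hc
    rw [Subgroup.mem_normalizer_iff]
    rw [Subgroup.mem_centralizer_iff] at hc
    intro h
    constructor
    · intro hh
      have : c * h * c⁻¹ = h := by rw [← hc h hh]; group
      rw [this]; exact hh
    · intro hh
      have h1 : c⁻¹ * (c * h * c⁻¹) * c = c * h * c⁻¹ := by
        have := hc _ hh
        calc c⁻¹ * (c * h * c⁻¹) * c = c⁻¹ * ((c * h * c⁻¹) * c) := by group
          _ = c⁻¹ * (c * (c * h * c⁻¹)) := by rw [this]
          _ = c * h * c⁻¹ := by group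
      have h2 : h = c⁻¹ * (c * h * c⁻¹) * c := by group
      rw [h2, h1]; exact hh
  apply le_antisymm
  · intro g hg
    have hgH : H.map (MulAut.conj g).toMonoidHom ≤ U := by
      rintro _ ⟨h, hh, rfl⟩
      apply hH
      have := (Subgroup.mem_normalizer_iff.mp hg h).mp hh
      simpa using this
    obtain ⟨u, hu, c, hc, hguc⟩ := partC K U H hKU hH hcop g hgH
    obtain ⟨hcK, hcC⟩ := Subgroup.mem_inf.mp hc
    have huN : u ∈ Subgroup.normalizer (H : Set G) := by
      have : u = g * c⁻¹ := by rw [hguc]; group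
      rw [this]
      exact Subgroup.mul_mem _ hg (Subgroup.inv_mem _ (hCN hcC))
    rw [hguc, sup_comm]
    exact Subgroup.mul_mem _ (Subgroup.mem_sup_left (Subgroup.mem_inf.mpr ⟨hu, huN⟩))
      (Subgroup.mem_sup_right hc)
  · apply sup_le
    · exact inf_le_right.trans hCN
    · exact inf_le_right

end aux

/-- Let G be a finite solvable group, K a normal subgroup and U a subgroup with G = KU, and H ≤ U a subgroup whose order is coprime to that of K. Then H ∩ G' = H ∩ U'; N_G(H) is generated by K ∩ C_G(H) and U ∩ N_G(H); and if gHg⁻¹ ≤ U for some g ∈ G then g = u c with u ∈ U and c ∈ K ∩ C_G(H). -/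
theorem result {G : Type*} [Group G] [Finite G] [Group.IsSolvable G] (K U H : Subgroup G) [K.Normal] (hKU : K ⊔ U = ⊤) (hH : H ≤ U) (hcop : (Nat.card H).Coprime (Nat.card K)) :
    H ⊓ commutator G = H ⊓ ⁅U, U⁆ ∧
      Subgroup.normalizer (H : Set G) = (K ⊓ Subgroup.centralizer (H : Set G)) ⊔ (U ⊓ Subgroup.normalizer (H : Set G)) ∧
      ∀ g : G, H.map (MulAut.conj g).toMonoidHom ≤ U → ∃ u ∈ U, ∃ c ∈ K ⊓ Subgroup.centralizer (H : Set G), g = u * c :=
  ⟨partA K U H hKU hH hcop, partB K U H hKU hH hcop, fun g hg => partC K U H hKU hH hcop g hg⟩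

end Cfsg.Agent.S1460
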