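import Mathlib
import Cfsg.Statements.S1461
import Cfsg.Agent.S1460
import Cfsg.Agent.Lib.Helper23.PSolvable2

set_option autoImplicit false
open Cfsg

namespace Cfsg.Agent.S1461

open scoped Pointwise

section aux

variable {G : Type*} [Group G]

/-- In a group of `p`-length at most one, `G = K N_G(S)` for a normal `p'`-subgroup `K`. -/
theorem structure_lemma [Finite G] (p : ℕ) [Fact p.Prime] (hpl : Cfsg.PLengthLE p 1 G)
    (S : Sylow p G) :
    ∃ K : Subgroup G, K.Normal ∧ (Nat.card K).Coprime p ∧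
      K ⊔ Subgroup.normalizer ((S : Subgroup G) : Set G) = ⊤ := by
  have hp : p.Prime := Fact.out
  have hU0 : (upperPSeries p G 0).1 = ⊥ := by rw [upperPSeries]
  have hU1 := Helper23.PSolv.upperPSeries_succ_even (G := G) p 0 (by decide)
  have hU2 := Helper23.PSolv.upperPSeries_succ_odd (G := G) p 1 (by decide)
  have hU3 := Helper23.PSolv.upperPSeries_succ_even (G := G) p 2 (by decide)
  have hU3top : (upperPSeries p G 3).1 = ⊤ := hpl
  simp only [zero_add, Nat.reduceAdd] at hU1 hU2 hU3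
  set K := (upperPSeries p G 1).1 with hK
  set M := (upperPSeries p G 2).1 with hM
  haveI hKn : K.Normal := upperPSeries_normal p G 1
  haveI hMn : M.Normal := upperPSeries_normal p G 2
  -- the order of K is prime to p
  have hKcop : (Nat.card K).Coprime p := by
    have h0 : Nat.card (upperPSeries p G 0).1 = 1 := by rw [hU0]; exact Subgroup.card_bot
    rw [hU1, Helper1.card_comap_mk', h0, one_mul]
    exact Helper22.card_pPrimeCore_coprime p
  -- the index of M is prime to p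
  have hMcop : (Nat.card (G ⧸ M)).Coprime p := by
    have h1 : pPrimeCore p (G ⧸ M) = ⊤ := by
      have h2 := congrArg (Subgroup.map (QuotientGroup.mk' M)) hU3
      rw [hU3top, Subgroup.map_comap_eq_self_of_surjective (QuotientGroup.mk'_surjective M)] at h2
      rw [← h2, ← MonoidHom.range_eq_map, MonoidHom.range_eq_top]
      exact QuotientGroup.mk'_surjective M
    have h3 := Helper22.card_pPrimeCore_coprime (G := G ⧸ M) p
    rwa [h1, Subgroup.card_top] at h3
  -- S ≤ M
  have hSM : (S : Subgroup G) ≤ M := by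
    have h1 : IsPGroup p ((S : Subgroup G).map (QuotientGroup.mk' M)) := IsPGroup.map S.2 _
    obtain ⟨n, hn⟩ := h1.exists_card_eq
    have h2 : Nat.card ((S : Subgroup G).map (QuotientGroup.mk' M)) ∣ Nat.card (G ⧸ M) :=
      Subgroup.card_subgroup_dvd_card _
    have h3 : n = 0 := by
      by_contra hne
      have h4 : p ∣ Nat.card (G ⧸ M) := by
        refine dvd_trans ?_ h2
        rw [hn]
        exact dvd_pow_self p hne
      have h5 : p ∣ Nat.gcd (Nat.card (G ⧸ M)) p := Nat.dvd_gcd h4 dvd_rfl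
      rw [hMcop] at h5
      exact hp.one_lt.ne' (Nat.dvd_one.mp h5)
    rw [h3, pow_zero] at hn
    have h6 : (S : Subgroup G).map (QuotientGroup.mk' M) = ⊥ := Subgroup.card_eq_one.mp hn
    have h7 := (Subgroup.map_eq_bot_iff _).mp h6
    rwa [QuotientGroup.ker_mk'] at h7
  -- M ≤ K ⊔ S
  have hMKS : M ≤ K ⊔ (S : Subgroup G) := by
    have h1 : pCore p (G ⧸ K) ≤ (S.mapSurjective (QuotientGroup.mk'_surjective K) : Subgroup (G ⧸ K)) :=
      Helper23.PSolv.pCore_le_sylow _
    rw [Sylow.coe_mapSurjective] at h1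
    rw [hU2, ← QuotientGroup.comap_map_mk']
    exact Subgroup.comap_mono h1
  -- Frattini
  have hFr : Subgroup.normalizer ((S : Subgroup G) : Set G) ⊔ M = ⊤ :=
    Sylow.normalizer_sup_eq_top' S hSM
  refine ⟨K, hKn, hKcop, ?_⟩
  rw [eq_top_iff, ← hFr]
  apply sup_le le_sup_right
  refine hMKS.trans (sup_le le_sup_left ?_)
  exact le_trans Subgroup.le_normalizer le_sup_right

/-- Every element is a product of an element of `N` and an element of the normal subgroup `K`. -/
theorem exists_mul_right {K N : Subgroup G} [K.Normal] (h : K ⊔ N = ⊤) (x : G) :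
    ∃ g ∈ N, ∃ k ∈ K, x = g * k := by
  have hKn : N ≤ Subgroup.normalizer (K : Set G) := by
    rw [Subgroup.normalizer_eq_top]; exact le_top
  have hx : x⁻¹ ∈ K ⊔ N := by rw [h]; trivial
  obtain ⟨k', hk', n', hn', hxkn⟩ := Cfsg.Agent.Helper1.exists_mul_of_mem_sup hKn hx
  refine ⟨n'⁻¹, N.inv_mem hn', k'⁻¹, K.inv_mem hk', ?_⟩
  have : x = (x⁻¹)⁻¹ := by group
  rw [this, hxkn]; group

theorem main [Finite G] (p : ℕ) [Fact p.Prime] (hpl : Cfsg.PLengthLE p 1 G) (S : Sylow p G) :
    ((S : Subgroup G) ≤ commutator G → (S : Subgroup G) ≤ ⁅Subgroup.normalizer ((S : Subgroup G) : Set G), Subgroup.normalizer ((S : Subgroup G) : Set G)⁆) ∧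
      (∀ (Y : Set G) (x : G), Y ⊆ (S : Subgroup G) → (fun y => x * y * x⁻¹) '' Y ⊆ (S : Subgroup G) →
        ∃ g ∈ Subgroup.normalizer ((S : Subgroup G) : Set G), ∃ c ∈ Subgroup.centralizer Y, g * c = x) ∧
      ∀ Q : Subgroup G, IsPGroup p Q → ∃ x ∈ Subgroup.centralizer ((Q ⊓ (S : Subgroup G) : Subgroup G) : Set G), Q.map (MulAut.conj x).toMonoidHom ≤ (S : Subgroup G) := by
  have hp : p.Prime := Fact.out
  obtain ⟨K, hKn, hKcop, hKN⟩ := structure_lemma p hpl S
  haveI := hKn
  set N := Subgroup.normalizer ((S : Subgroup G) : Set G) with hN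
  have hSK : (Nat.card (S : Subgroup G)).Coprime (Nat.card K) := by
    obtain ⟨n, hn⟩ := S.2.exists_card_eq
    rw [hn]
    exact Nat.Coprime.pow_left n (Nat.Coprime.symm hKcop)
  have hSKbot : (S : Subgroup G) ⊓ K = ⊥ := (Subgroup.disjoint_of_coprime_natCard hSK).eq_bot
  have key : ∀ k ∈ K, ∀ y ∈ (S : Subgroup G), k * y * k⁻¹ ∈ (S : Subgroup G) → k * y * k⁻¹ = y := by
    intro k hk y hy h
    have h1 : k * y * k⁻¹ * y⁻¹ ∈ (S : Subgroup G) ⊓ K := by
      refine Subgroup.mem_inf.mpr ⟨Subgroup.mul_mem _ h (Subgroup.inv_mem _ hy), ?_⟩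
      have h2 : k * y * k⁻¹ * y⁻¹ = k * (y * k⁻¹ * y⁻¹) := by group
      rw [h2]
      exact K.mul_mem hk (Subgroup.Normal.conj_mem inferInstance _ (K.inv_mem hk) _)
    rw [hSKbot, Subgroup.mem_bot] at h1
    exact mul_inv_eq_one.mp h1
  have hNconj : ∀ g ∈ N, ∀ z : G, g * z * g⁻¹ ∈ (S : Subgroup G) → z ∈ (S : Subgroup G) := by
    intro g hg z hz
    exact (Subgroup.mem_normalizer_iff.mp hg z).mpr hz
  refine ⟨?_, ?_, ?_⟩
  · intro hS
    have hA := Cfsg.Agent.S1460.partA K N (S : Subgroup G) hKN Subgroup.le_normalizer hSK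
    have h1 : (S : Subgroup G) ≤ (S : Subgroup G) ⊓ commutator G := le_inf le_rfl hS
    rw [hA] at h1
    exact h1.trans inf_le_right
  · intro Y x hY hxY
    obtain ⟨g, hg, k, hk, hxgk⟩ := exists_mul_right hKN x
    refine ⟨g, hg, k, ?_, hxgk.symm⟩
    rw [Subgroup.mem_centralizer_iff]
    intro y hy
    have h1 : x * y * x⁻¹ ∈ (S : Subgroup G) := hxY ⟨y, hy, rfl⟩
    have h2 : k * y * k⁻¹ ∈ (S : Subgroup G) := by
      apply hNconj g hg
      have : g * (k * y * k⁻¹) * g⁻¹ = x * y * x⁻¹ := by rw [hxgk]; group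
      rw [this]; exact h1
    have h3 := key k hk y (hY hy) h2
    calc y * k = (k * y * k⁻¹) * k := by rw [h3]
      _ = k * y := by group
  · intro Q hQ
    obtain ⟨P, hQP⟩ := hQ.exists_le_sylow
    obtain ⟨g, hg⟩ := MulAction.exists_smul_eq G P S
    have hS' : (S : Subgroup G) = MulAut.conj g • (P : Subgroup G) := by
      rw [← hg]; rfl
    have hgQ : ∀ q ∈ Q, g * q * g⁻¹ ∈ (S : Subgroup G) := by
      intro q hq
      rw [hS', Cfsg.Agent.Helper1.mem_conj_smul_iff]
      have : g⁻¹ * (g * q * g⁻¹) * g = q := by group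
      rw [this]
      exact hQP hq
    obtain ⟨n, hn, k, hk, hgnk⟩ := exists_mul_right hKN g
    have hkQ : ∀ q ∈ Q, k * q * k⁻¹ ∈ (S : Subgroup G) := by
      intro q hq
      apply hNconj n hn
      have : n * (k * q * k⁻¹) * n⁻¹ = g * q * g⁻¹ := by rw [hgnk]; group
      rw [this]; exact hgQ q hq
    refine ⟨k, ?_, ?_⟩
    · rw [Subgroup.mem_centralizer_iff]
      intro y hy
      obtain ⟨hyQ, hyS⟩ := Subgroup.mem_inf.mp hy
      have h3 := key k hk y hyS (hkQ y hyQ)
      calc y * k = (k * y * k⁻¹) * k := by rw [h3]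
        _ = k * y := by group
    · rintro _ ⟨q, hq, rfl⟩
      have := hkQ q hq
      simpa using this

end aux

/-- Let G be a finite solvable group, p a prime with G = O_{p',p,p'}(G), and S a Sylow p-subgroup. Then: if S ≤ G' then S ≤ [N_G(S), N_G(S)]; if Y ⊆ S and xYx⁻¹ ⊆ S then x = g c for some g ∈ N_G(S) and c centralizing Y; and for every p-subgroup Q there is x ∈ C_G(Q ∩ S) with xQx⁻¹ ≤ S. -/
theorem result {G : Type*} [Group G] [Finite G] [Group.IsSolvable G] (p : ℕ) [Fact p.Prime] (hpl : Cfsg.PLengthLE p 1 G) (S : Sylow p G) :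
    ((S : Subgroup G) ≤ commutator G → (S : Subgroup G) ≤ ⁅Subgroup.normalizer ((S : Subgroup G) : Set G), Subgroup.normalizer ((S : Subgroup G) : Set G)⁆) ∧
      (∀ (Y : Set G) (x : G), Y ⊆ (S : Subgroup G) → (fun y => x * y * x⁻¹) '' Y ⊆ (S : Subgroup G) →
        ∃ g ∈ Subgroup.normalizer ((S : Subgroup G) : Set G), ∃ c ∈ Subgroup.centralizer Y, g * c = x) ∧
      ∀ Q : Subgroup G, IsPGroup p Q → ∃ x ∈ Subgroup.centralizer ((Q ⊓ (S : Subgroup G) : Subgroup G) : Set G), Q.map (MulAut.conj x).toMonoidHom ≤ (S : Subgroup G) :=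
  main p hpl S

end Cfsg.Agent.S1461
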