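import Mathlib
import Cfsg.Statements.S1462
import Cfsg.Agent.S1461
import Cfsg.Agent.S0017
import Cfsg.Agent.Lib.Helper7.Coprime
import Cfsg.Agent.Lib.Helper10.OmegaLemma
import Cfsg.Agent.Lib.Helper14.Basic

set_option autoImplicit false
open Cfsg

namespace Cfsg.Agent.S1462

open scoped commutatorElement Pointwise

section aux

variable {G : Type*} [Group G]

/-- Adjoining to an elementary abelian subgroup a commuting element of order dividing `p`. -/
theorem extend_elemAb {p : ℕ} (E : Subgroup G) (hE : Cfsg.IsElementaryAbelian p E) (x : G)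
    (hxp : x ^ p = 1) (hxE : ∀ e ∈ E, x * e = e * x) :
    Cfsg.IsElementaryAbelian p (Subgroup.closure ((E : Set G) ∪ {x})) := by
  obtain ⟨hEc, hEp⟩ := hE
  have hcomm : ∀ a ∈ ((E : Set G) ∪ {x}), ∀ b ∈ ((E : Set G) ∪ {x}), a * b = b * a := by
    intro a ha b hb
    rcases ha with ha | ha <;> rcases hb with hb | hb
    · have := hEc.is_comm.comm (⟨a, ha⟩ : E) ⟨b, hb⟩
      exact congrArg Subtype.val this
    · rw [Set.mem_singleton_iff] at hb; subst hb
      exact (hxE a ha).symm
    · rw [Set.mem_singleton_iff] at ha; subst ha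
      exact hxE b hb
    · rw [Set.mem_singleton_iff] at ha hb; subst ha; subst hb; rfl
  have hBc : IsMulCommutative ↥(Subgroup.closure ((E : Set G) ∪ {x})) :=
    Subgroup.isMulCommutative_closure hcomm
  refine ⟨hBc, ?_⟩
  intro b hb
  induction hb using Subgroup.closure_induction with
  | mem y hy =>
    rcases hy with hy | hy
    · exact hEp y hy
    · rw [Set.mem_singleton_iff] at hy; subst hy; exact hxp
  | one => exact one_pow p
  | mul y z hy hz ihy ihz =>
    have hyz : Commute y z := by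
      have := hBc.is_comm.comm (⟨y, hy⟩ : Subgroup.closure ((E : Set G) ∪ {x})) ⟨z, hz⟩
      exact congrArg Subtype.val this
    rw [hyz.mul_pow, ihy, ihz, one_mul]
  | inv y hy ihy => rw [inv_pow, ihy, inv_one]

theorem main [Finite G] [Group.IsSolvable G] (p : ℕ) [Fact p.Prime] (hp : p ≠ 2)
    (hpl : Cfsg.PLengthLE p 1 G) (E L : Subgroup G) (hE : Cfsg.IsElementaryAbelian p E)
    (hEmax : ∀ B : Subgroup G, Cfsg.IsElementaryAbelian p B → E ≤ B → B = E)
    (hL : (Nat.card L).Coprime p) (hEL : E ≤ Subgroup.normalizer (L : Set G)) :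
    L ≤ Cfsg.pPrimeCore p G := by
  have hpp : p.Prime := Fact.out
  have hEpg : IsPGroup p E := by
    intro e
    refine ⟨1, ?_⟩
    rw [pow_one]
    exact Subtype.ext (by simpa using hE.2 e e.2)
  obtain ⟨S, hES⟩ := hEpg.exists_le_sylow
  obtain ⟨K₀, hK₀n, hK₀cop, hK₀N⟩ := Cfsg.Agent.S1461.structure_lemma p hpl S
  haveI hKn : (pPrimeCore p G).Normal := Helper22.pPrimeCore_normal p
  have hKcop : (Nat.card (pPrimeCore p G)).Coprime p := Helper22.card_pPrimeCore_coprime p
  have hKN : pPrimeCore p G ⊔ Subgroup.normalizer ((S : Subgroup G) : Set G) = ⊤ := by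
    rw [eq_top_iff, ← hK₀N]
    exact sup_le_sup_right (Helper22.le_pPrimeCore p K₀ hK₀n hK₀cop) _
  have hSK : (Nat.card (S : Subgroup G)).Coprime (Nat.card (pPrimeCore p G)) := by
    obtain ⟨n, hn⟩ := S.2.exists_card_eq
    rw [hn]
    exact Nat.Coprime.pow_left n (Nat.Coprime.symm hKcop)
  have hSKbot : (S : Subgroup G) ⊓ pPrimeCore p G = ⊥ :=
    (Subgroup.disjoint_of_coprime_natCard hSK).eq_bot
  -- the quotient
  have hπs : Function.Surjective (QuotientGroup.mk' (pPrimeCore p G)) :=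
    QuotientGroup.mk'_surjective _
  have hπ1 : ∀ k ∈ pPrimeCore p G, QuotientGroup.mk' (pPrimeCore p G) k = 1 :=
    fun k hk => (QuotientGroup.eq_one_iff k).mpr hk
  have hπ1' : ∀ k : G, QuotientGroup.mk' (pPrimeCore p G) k = 1 → k ∈ pPrimeCore p G :=
    fun k hk => (QuotientGroup.eq_one_iff k).mp hk
  set Sbar : Subgroup (G ⧸ pPrimeCore p G) :=
    (S : Subgroup G).map (QuotientGroup.mk' (pPrimeCore p G)) with hSbar
  set Ebar : Subgroup (G ⧸ pPrimeCore p G) := E.map (QuotientGroup.mk' (pPrimeCore p G)) with hEbar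
  set Lbar : Subgroup (G ⧸ pPrimeCore p G) := L.map (QuotientGroup.mk' (pPrimeCore p G)) with hLbar
  have hSbarp : IsPGroup p Sbar := IsPGroup.map S.2 _
  haveI hSbarn : Sbar.Normal := by
    constructor
    rintro _ ⟨s, hs, rfl⟩ gbar
    obtain ⟨g, rfl⟩ := hπs gbar
    obtain ⟨n, hn, k, hk, hgnk⟩ := Cfsg.Agent.S1461.exists_mul_right hKN g
    refine ⟨n * s * n⁻¹, (Subgroup.mem_normalizer_iff.mp hn s).mp hs, ?_⟩
    rw [hgnk]
    simp only [map_mul, map_inv, hπ1 k hk, mul_one, inv_one]
  have hSbar_eq : pCore p (G ⧸ pPrimeCore p G) = Sbar := by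
    apply le_antisymm
    · have := Helper14.pCore_le_sylow (S.mapSurjective hπs)
      rwa [Sylow.coe_mapSurjective] at this
    · exact Helper14.le_pCore hSbarn hSbarp
  have hHH : Subgroup.centralizer (Sbar : Set (G ⧸ pPrimeCore p G)) ≤ Sbar := by
    have h1 := Cfsg.Agent.S0017.result (G := G ⧸ pPrimeCore p G) p
      (Helper23.PSolv.pPrimeCore_quotient_pPrimeCore p)
    rwa [hSbar_eq] at h1
  have hLbarcop : (Nat.card Lbar).Coprime p :=
    Nat.Coprime.coprime_dvd_left (Subgroup.card_map_dvd L _) hL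
  have hLS : (Nat.card Lbar).Coprime (Nat.card Sbar) := by
    obtain ⟨n, hn⟩ := hSbarp.exists_card_eq
    rw [hn]; exact Nat.Coprime.pow_right n hLbarcop
  have hLSbot : Lbar ⊓ Sbar = ⊥ := (Subgroup.disjoint_of_coprime_natCard hLS).eq_bot
  have hEbarS : Ebar ≤ Sbar := Subgroup.map_mono hES
  have hEbarL : Ebar ≤ Subgroup.normalizer (Lbar : Set (G ⧸ pPrimeCore p G)) := by
    rintro _ ⟨e, he, rfl⟩
    exact Subgroup.le_normalizer_map _ ⟨e, hEL he, rfl⟩
  have hLE : ⁅Lbar, Ebar⁆ = ⊥ := by
    rw [eq_bot_iff, ← hLSbot]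
    apply le_inf
    · rw [Subgroup.commutator_le]
      intro l hl e he
      have h1 : e * l⁻¹ * e⁻¹ ∈ Lbar :=
        (Subgroup.mem_normalizer_iff.mp (hEbarL he) l⁻¹).mp (Lbar.inv_mem hl)
      have : ⁅l, e⁆ = l * (e * l⁻¹ * e⁻¹) := by rw [commutatorElement_def]; group
      rw [this]; exact Lbar.mul_mem hl h1
    · rw [Subgroup.commutator_le]
      intro l hl e he
      have h1 : l * e * l⁻¹ ∈ Sbar := hSbarn.conj_mem e (hEbarS he) l
      have : ⁅l, e⁆ = (l * e * l⁻¹) * e⁻¹ := by rw [commutatorElement_def]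
      rw [this]; exact Sbar.mul_mem h1 (Sbar.inv_mem (hEbarS he))
  have hLcE : Lbar ≤ Subgroup.centralizer (Ebar : Set (G ⧸ pPrimeCore p G)) :=
    Subgroup.commutator_eq_bot_iff_le_centralizer.mp hLE
  -- elements of order p of C_Sbar(Ebar) lie in Ebar
  have hΩ : ∀ xbar ∈ Sbar ⊓ Subgroup.centralizer (Ebar : Set (G ⧸ pPrimeCore p G)),
      xbar ^ p = 1 → xbar ∈ Ebar := by
    intro xbar hx hxp
    obtain ⟨hxS, hxC⟩ := Subgroup.mem_inf.mp hx
    obtain ⟨x, hxS', rfl⟩ := hxS
    have hxp' : x ^ p = 1 := by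
      have h1 : x ^ p ∈ (S : Subgroup G) ⊓ pPrimeCore p G := by
        refine Subgroup.mem_inf.mpr ⟨Subgroup.pow_mem _ hxS' p, ?_⟩
        apply hπ1'
        rw [map_pow]; exact hxp
      rwa [hSKbot, Subgroup.mem_bot] at h1
    have hxE : ∀ e ∈ E, x * e = e * x := by
      intro e he
      have h1 : x * e * x⁻¹ * e⁻¹ ∈ (S : Subgroup G) ⊓ pPrimeCore p G := by
        refine Subgroup.mem_inf.mpr ⟨?_, ?_⟩
        · exact Subgroup.mul_mem _ (Subgroup.mul_mem _ (Subgroup.mul_mem _ hxS' (hES he))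
            (Subgroup.inv_mem _ hxS')) (Subgroup.inv_mem _ (hES he))
        · apply hπ1'
          have h2 := Subgroup.mem_centralizer_iff.mp hxC
            (QuotientGroup.mk' (pPrimeCore p G) e) ⟨e, he, rfl⟩
          simp only [map_mul, map_inv]
          rw [← h2]; group
      rw [hSKbot, Subgroup.mem_bot] at h1
      calc x * e = (x * e * x⁻¹ * e⁻¹) * (e * x) := by group
        _ = e * x := by rw [h1, one_mul]
    have hB := extend_elemAb E hE x hxp' hxE
    have hEB : E ≤ Subgroup.closure ((E : Set G) ∪ {x}) :=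
      fun e he => Subgroup.subset_closure (Or.inl he)
    have hBE := hEmax _ hB hEB
    have hxB : x ∈ Subgroup.closure ((E : Set G) ∪ {x}) :=
      Subgroup.subset_closure (Or.inr rfl)
    rw [hBE] at hxB
    exact ⟨x, hxB, rfl⟩
  have hSL : Sbar ≤ Subgroup.centralizer (Lbar : Set (G ⧸ pPrimeCore p G)) := by
    apply Helper7.thompson_AxB Sbar Lbar Ebar
    · rw [Subgroup.normalizer_eq_top]; exact le_top
    · rw [Subgroup.normalizer_eq_top]; exact le_top
    · exact hLE
    · exact hLS
    · have : Sbar ⊔ Ebar = Sbar := sup_eq_left.mpr hEbarS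
      rw [this]; exact hSbarp.isNilpotent
    · intro d hd
      rw [Subgroup.mem_centralizer_iff]
      intro a ha
      have haC : a ∈ Subgroup.centralizer (Ebar : Set (G ⧸ pPrimeCore p G)) := hLcE ha
      have haD : a ∈ Subgroup.centralizer
          ((Sbar ⊓ Subgroup.centralizer (Ebar : Set (G ⧸ pPrimeCore p G)) :
            Subgroup (G ⧸ pPrimeCore p G)) : Set (G ⧸ pPrimeCore p G)) := by
        apply Helper10.mem_centralizer_of_omega _ (hSbarp.to_le inf_le_left) a
        · exact Nat.Coprime.coprime_dvd_left (Subgroup.orderOf_dvd_natCard _ ha) hLbarcop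
        · rw [Subgroup.mem_normalizer_iff]
          intro h
          constructor
          · intro hh
            obtain ⟨hh1, hh2⟩ := Subgroup.mem_inf.mp hh
            refine Subgroup.mem_inf.mpr ⟨hSbarn.conj_mem h hh1 a, ?_⟩
            exact Subgroup.mul_mem _ (Subgroup.mul_mem _ haC hh2) (Subgroup.inv_mem _ haC)
          · intro hh
            obtain ⟨hh1, hh2⟩ := Subgroup.mem_inf.mp hh
            have h3 : h = a⁻¹ * (a * h * a⁻¹) * a⁻¹⁻¹ := by group
            rw [h3]
            refine Subgroup.mem_inf.mpr ⟨hSbarn.conj_mem _ hh1 a⁻¹, ?_⟩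
            exact Subgroup.mul_mem _ (Subgroup.mul_mem _ (Subgroup.inv_mem _ haC) hh2)
              (Subgroup.inv_mem _ (Subgroup.inv_mem _ haC))
        · intro x hx hxΩ
          rcases hxΩ with hxp | ⟨h2, _⟩
          · have hxE := hΩ x hx hxp
            exact (Subgroup.mem_centralizer_iff.mp haC x hxE).symm
          · exact absurd h2 hp
      exact (Subgroup.mem_centralizer_iff.mp haD d hd).symm
  have hLbot : Lbar = ⊥ := by
    rw [eq_bot_iff, ← hLSbot]
    apply le_inf le_rfl
    refine le_trans ?_ hHH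
    intro a ha
    rw [Subgroup.mem_centralizer_iff]
    intro s hs
    exact ((Subgroup.mem_centralizer_iff.mp (hSL hs)) a ha).symm
  have := (Subgroup.map_eq_bot_iff _).mp hLbot
  rwa [QuotientGroup.ker_mk'] at this

end aux

/-- Let G be a finite solvable group, p an odd prime with G = O_{p',p,p'}(G), E an elementary abelian p-subgroup contained in no larger elementary abelian p-subgroup of G, and L a subgroup of order coprime to p normalized by E. Then L ≤ O_{p'}(G). -/
theorem result {G : Type*} [Group G] [Finite G] [Group.IsSolvable G] (p : ℕ) [Fact p.Prime] (hp : p ≠ 2) (hpl : Cfsg.PLengthLE p 1 G) (E L : Subgroup G) (hE : Cfsg.IsElementaryAbelian p E)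
    (hEmax : ∀ B : Subgroup G, Cfsg.IsElementaryAbelian p B → E ≤ B → B = E) (hL : (Nat.card L).Coprime p) (hEL : E ≤ Subgroup.normalizer (L : Set G)) :
    L ≤ Cfsg.pPrimeCore p G :=
  main p hp hpl E L hE hEmax hL hEL

end Cfsg.Agent.S1462
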