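import Mathlib
import Cfsg.Statements.S1465
import Cfsg.Agent.Lib.Helper8.OddStable
import Cfsg.Agent.Lib.Helper7.Cores
import Cfsg.Agent.S0017

set_option autoImplicit false
set_option linter.style.haveILetI false
open Cfsg

namespace Cfsg.Agent.S1465

open scoped commutatorElement

/-- In a solvable group with `O_{p'}(G) = 1`, the centralizer of a normal `p`-subgroup `P` with
`O_p(G) ∩ C_G(P) ≤ P` is a `p`-group. -/
theorem centralizer_isPGroup {G : Type*} [Group G] [Finite G] [Group.IsSolvable G] (p : ℕ)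
    [Fact p.Prime] (P : Subgroup G) [P.Normal] (hO : Cfsg.pPrimeCore p G = ⊥)
    (hQC : Cfsg.pCore p G ⊓ Subgroup.centralizer (P : Set G) ≤ P) :
    IsPGroup p (Subgroup.centralizer (P : Set G)) := by
  set C := Subgroup.centralizer (P : Set G) with hC
  haveI hCn : C.Normal := inferInstance
  have hO' : Cfsg.pPrimeCore p ↥C = ⊥ := by
    have h1 := Cfsg.Agent.Helper7.map_subtype_pPrimeCore_le p C
    rw [hO, le_bot_iff] at h1
    exact (Subgroup.map_eq_bot_iff_of_injective _ C.subtype_injective).mp h1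
  have h2 := Cfsg.Agent.S0017.result (G := ↥C) p hO'
  have h3 : Subgroup.centralizer ((Cfsg.pCore p ↥C : Subgroup ↥C) : Set ↥C) = ⊤ := by
    rw [eq_top_iff]
    intro c _
    rw [Subgroup.mem_centralizer_iff]
    intro x hx
    have hxP : (x : G) ∈ P := by
      apply hQC
      refine ⟨?_, x.2⟩
      exact Cfsg.Agent.Helper7.map_subtype_pCore_le p C ⟨x, hx, rfl⟩
    have := Subgroup.mem_centralizer_iff.mp c.2 (x : G) hxP
    exact Subtype.ext this
  rw [h3] at h2
  have h4 : IsPGroup p (Cfsg.pCore p ↥C) := Cfsg.Agent.Helper7.pCore_isPGroup p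
  intro c
  obtain ⟨k, hk⟩ := h4 ⟨c, h2 (Subgroup.mem_top c)⟩
  refine ⟨k, ?_⟩
  have := congrArg Subtype.val hk
  simpa using this

/-- Let p be an odd prime, G a solvable group of odd order, P a normal p-subgroup of G, and X the subgroup generated by a family of abelian p-subgroups of G each normalized by P. Then the image of X in G/C_G(P) lies in O_p(G/C_G(P)); and if O_{p'}(G) = 1 and O_p(G) ∩ C_G(P) ≤ P then X ≤ O_p(G). -/
theorem result {G : Type*} [Group G] [Finite G] [Group.IsSolvable G] (hodd : Odd (Nat.card G)) (p : ℕ) [Fact p.Prime] (hp : p ≠ 2) (P : Subgroup G) [P.Normal] (hP : IsPGroup p P)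
    (S : Set (Subgroup G)) (hS : ∀ B ∈ S, IsMulCommutative B ∧ IsPGroup p B ∧ P ≤ Subgroup.normalizer (B : Set G)) :
    (sSup S).map (QuotientGroup.mk' (Subgroup.centralizer (P : Set G))) ≤ Cfsg.pCore p (G ⧸ Subgroup.centralizer (P : Set G)) ∧
      (Cfsg.pPrimeCore p G = ⊥ → Cfsg.pCore p G ⊓ Subgroup.centralizer (P : Set G) ≤ P → sSup S ≤ Cfsg.pCore p G) := by
  set C := Subgroup.centralizer (P : Set G) with hC
  have part1 : (sSup S).map (QuotientGroup.mk' C) ≤ Cfsg.pCore p (G ⧸ C) := by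
    rw [Subgroup.map_le_iff_le_comap]
    apply sSup_le
    intro B hB b hb
    obtain ⟨hBc, hBp, hPB⟩ := hS B hB
    rw [Subgroup.mem_comap]
    have hpel : ∃ k : ℕ, b ^ p ^ k = 1 := by
      obtain ⟨k, hk⟩ := hBp ⟨b, hb⟩
      refine ⟨k, ?_⟩
      have := congrArg Subtype.val hk
      simpa using this
    have hq : ⁅⁅P, Subgroup.zpowers b⁆, Subgroup.zpowers b⁆ = ⊥ := by
      have hz : Subgroup.zpowers b ≤ B := Subgroup.zpowers_le.2 hb
      have hBB : ⁅B, B⁆ = ⊥ := by
        rw [Subgroup.commutator_eq_bot_iff_le_centralizer]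
        intro x hx
        rw [Subgroup.mem_centralizer_iff]
        intro y hy
        exact congrArg Subtype.val (hBc.is_comm.comm ⟨y, hy⟩ ⟨x, hx⟩)
      have hPBB : ⁅P, B⁆ ≤ B := by
        rw [Subgroup.commutator_le]
        intro x hx y hy
        have hxn := hPB hx
        rw [Subgroup.mem_normalizer_iff] at hxn
        rw [commutatorElement_def]
        exact B.mul_mem ((hxn y).1 hy) (B.inv_mem hy)
      rw [eq_bot_iff, ← hBB]
      exact Subgroup.commutator_mono ((Subgroup.commutator_mono le_rfl hz).trans hPBB) hz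
    exact Cfsg.Agent.Helper8.OddStable.stab_of_odd hodd hp P hP b hpel hq
  refine ⟨part1, ?_⟩
  intro hO hQC
  have hCp : IsPGroup p C := centralizer_isPGroup p P hO hQC
  set T : Subgroup G := (Cfsg.pCore p (G ⧸ C)).comap (QuotientGroup.mk' C) with hT
  haveI : (Cfsg.pCore p (G ⧸ C)).Characteristic := Cfsg.Agent.Helper7.pCore_characteristic p
  have hTn : T.Normal := inferInstance
  have hTp : IsPGroup p T := by
    rintro ⟨t, ht⟩
    have h1 : IsPGroup p (Cfsg.pCore p (G ⧸ C)) := Cfsg.Agent.Helper7.pCore_isPGroup p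
    obtain ⟨k, hk⟩ := h1 ⟨QuotientGroup.mk' C t, ht⟩
    have hk' : (QuotientGroup.mk' C t) ^ p ^ k = 1 := by
      have := congrArg Subtype.val hk
      simpa using this
    rw [← map_pow, QuotientGroup.mk'_apply, QuotientGroup.eq_one_iff] at hk'
    obtain ⟨j, hj⟩ := hCp ⟨t ^ p ^ k, hk'⟩
    have hj' : (t ^ p ^ k) ^ p ^ j = 1 := by
      have := congrArg Subtype.val hj
      simpa using this
    refine ⟨k + j, Subtype.ext ?_⟩
    show t ^ p ^ (k + j) = 1
    rw [pow_add, pow_mul]
    exact hj'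
  have hTle : T ≤ Cfsg.pCore p G := Cfsg.Agent.Helper7.le_pCore hTn hTp
  exact (Subgroup.map_le_iff_le_comap.mp part1).trans hTle

end Cfsg.Agent.S1465
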