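import Mathlib
import Cfsg.Statements.S1466
import Cfsg.Agent.Lib.Helper8.PGroup

set_option autoImplicit false
open Cfsg

namespace Cfsg.Agent.S1466

theorem le_puigStep {R : Type*} [Group R] (A : Subgroup R) (hAn : A.Normal) (hAc : IsMulCommutative A)
    (X : Subgroup R) : A ≤ Cfsg.puigStep X := by
  apply le_sSup
  refine ⟨hAc, ?_⟩
  rw [Subgroup.normalizer_eq_top]
  exact le_top

/-- Let p be a prime and R a nontrivial finite p-group. Then for every i > 0, Z(R) ≤ C_R(L_i(R)) ≤ L_i(R); likewise Z(R) ≤ C_R(L_*(R)) ≤ L_*(R) and Z(R) ≤ C_R(L(R)) ≤ L(R); and L(R) ≠ 1, L_*(R) ≠ 1. -/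
theorem result {R : Type*} [Group R] [Finite R] (p : ℕ) [Fact p.Prime] (hR : IsPGroup p R) [Nontrivial R] :
    (∀ i : ℕ, 0 < i → Subgroup.center R ≤ Subgroup.centralizer ((Cfsg.puigSeq R i : Subgroup R) : Set R) ∧
        Subgroup.centralizer ((Cfsg.puigSeq R i : Subgroup R) : Set R) ≤ Cfsg.puigSeq R i) ∧
      (Subgroup.center R ≤ Subgroup.centralizer ((Cfsg.puigLower R : Subgroup R) : Set R) ∧ Subgroup.centralizer ((Cfsg.puigLower R : Subgroup R) : Set R) ≤ Cfsg.puigLower R) ∧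
      (Subgroup.center R ≤ Subgroup.centralizer ((Cfsg.puigSubgroup R : Subgroup R) : Set R) ∧ Subgroup.centralizer ((Cfsg.puigSubgroup R : Subgroup R) : Set R) ≤ Cfsg.puigSubgroup R) ∧
      Cfsg.puigSubgroup R ≠ ⊥ ∧ Cfsg.puigLower R ≠ ⊥ := by
  obtain ⟨A, hAn, hAc, hCA⟩ := Cfsg.Agent.Helper8.exists_normal_abelian_self_centralizing hR
  have hAseq : ∀ i : ℕ, 0 < i → A ≤ Cfsg.puigSeq R i := by
    intro i hi
    obtain ⟨n, rfl⟩ := Nat.exists_eq_succ_of_ne_zero hi.ne'
    exact le_puigStep A hAn hAc _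
  have hAlow : A ≤ Cfsg.puigLower R :=
    (hAseq 2 (by norm_num)).trans (le_iSup (fun n => Cfsg.puigSeq R (2 * n)) 1)
  have hAsub : A ≤ Cfsg.puigSubgroup R := by
    apply le_iInf
    intro n
    exact hAseq _ (by omega)
  have key : ∀ X : Subgroup R, A ≤ X → Subgroup.centralizer (X : Set R) ≤ X := by
    intro X hX
    exact (Subgroup.centralizer_le hX).trans (hCA.trans hX)
  have hZ : ⊥ < Subgroup.center R := hR.bot_lt_center
  have hne : ∀ X : Subgroup R, A ≤ X → X ≠ ⊥ := by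
    intro X hX h
    have h1 : Subgroup.center R ≤ X := (Subgroup.center_le_centralizer _).trans (key X hX)
    rw [h] at h1
    exact absurd (lt_of_lt_of_le hZ h1) (lt_irrefl _)
  refine ⟨fun i hi => ⟨Subgroup.center_le_centralizer _, key _ (hAseq i hi)⟩,
    ⟨Subgroup.center_le_centralizer _, key _ hAlow⟩,
    ⟨Subgroup.center_le_centralizer _, key _ hAsub⟩, hne _ hAsub, hne _ hAlow⟩

end Cfsg.Agent.S1466
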