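import Mathlib
import Cfsg.Statements.S1457
import Cfsg.Agent.S1465
import Cfsg.Agent.Lib.Helper23.PSolvable

set_option autoImplicit false
set_option linter.style.haveILetI false
open Cfsg

namespace Cfsg.Agent.S1457

/-- Let G be a solvable group of odd order, p a prime, S a Sylow p-subgroup of G and A an abelian subgroup of S normal in S. Then A ≤ O_{p',p}(G). -/
theorem result {G : Type*} [Group G] [Finite G] [Group.IsSolvable G] (hodd : Odd (Nat.card G)) (p : ℕ) [Fact p.Prime] (S : Sylow p G) (A : Subgroup G) (hA : A ≤ (S : Subgroup G)) (hAc : IsMulCommutative A)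
    (hAn : (S : Subgroup G) ≤ Subgroup.normalizer (A : Set G)) :
    A ≤ Cfsg.pPrimePCore p G := by
  by_cases hp : p = 2
  · -- the Sylow 2-subgroup is trivial
    subst hp
    have h1 : (S : Subgroup G) = ⊥ := by
      rw [← Subgroup.card_eq_one]
      obtain ⟨k, hk⟩ := IsPGroup.iff_card.mp S.2
      have hdvd : Nat.card (S : Subgroup G) ∣ Nat.card G := Subgroup.card_subgroup_dvd_card _
      have hoddS : Odd (Nat.card (S : Subgroup G)) := Odd.of_dvd_nat hodd hdvd
      rw [hk] at hoddS ⊢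
      rcases k with _ | k
      · simp
      · exfalso
        rw [pow_succ] at hoddS
        exact (Nat.not_even_iff_odd.mpr hoddS) (Even.mul_left even_two _)
    rw [h1] at hA
    exact (le_bot_iff.mp hA) ▸ bot_le
  set K := Cfsg.pPrimeCore p G with hK
  haveI hKn : K.Normal := Cfsg.Agent.Helper7.pPrimeCore_normal' p
  set f := QuotientGroup.mk' K with hf
  have hsurj : Function.Surjective f := QuotientGroup.mk'_surjective K
  have hoddq : Odd (Nat.card (G ⧸ K)) := by
    refine Odd.of_dvd_nat hodd ?_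
    rw [← Subgroup.index_eq_card]
    exact Subgroup.index_dvd_card K
  have hO : Cfsg.pPrimeCore p (G ⧸ K) = ⊥ :=
    Cfsg.Agent.Helper23.PSolv.pPrimeCore_quotient_pPrimeCore p
  set Pb := Cfsg.pCore p (G ⧸ K) with hPb
  haveI : Pb.Characteristic := Cfsg.Agent.Helper7.pCore_characteristic p
  haveI hPbn : Pb.Normal := inferInstance
  have hPbp : IsPGroup p Pb := Cfsg.Agent.Helper7.pCore_isPGroup p
  set Ab := A.map f with hAb
  have hAbc : IsMulCommutative Ab := by
    refine ⟨⟨?_⟩⟩
    rintro ⟨_, ⟨x, hx, rfl⟩⟩ ⟨_, ⟨y, hy, rfl⟩⟩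
    apply Subtype.ext
    show f x * f y = f y * f x
    rw [← map_mul, ← map_mul]
    congr 1
    exact congrArg Subtype.val (hAc.is_comm.comm ⟨x, hx⟩ ⟨y, hy⟩)
  have hAbp : IsPGroup p Ab := (S.2.to_le hA).map f
  have hPbN : Pb ≤ Subgroup.normalizer (Ab : Set (G ⧸ K)) := by
    have h1 : Pb ≤ (S.mapSurjective hsurj : Sylow p (G ⧸ K)) :=
      Cfsg.Agent.Helper23.PSolv.pCore_le_sylow _
    intro x hx
    have h2 : x ∈ ((S.mapSurjective hsurj : Sylow p (G ⧸ K)) : Subgroup (G ⧸ K)) := h1 hx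
    rw [Sylow.coe_mapSurjective] at h2
    obtain ⟨s, hs, rfl⟩ := h2
    have hsn := hAn hs
    rw [Subgroup.mem_normalizer_iff] at hsn ⊢
    intro y
    constructor
    · rintro ⟨a, ha, rfl⟩
      exact ⟨s * a * s⁻¹, (hsn a).1 ha, by simp⟩
    · rintro ⟨a, ha, hay⟩
      obtain ⟨y', rfl⟩ := hsurj y
      -- y' = s⁻¹ a s modulo K
      have h3 : f y' = f (s⁻¹ * a * s) := by
        rw [map_mul, map_mul, hay, map_inv]; group
      rw [h3]
      refine ⟨s⁻¹ * a * s, ?_, rfl⟩
      have := (hsn (s⁻¹ * a * s)).2 (by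
        have : s * (s⁻¹ * a * s) * s⁻¹ = a := by group
        rw [this]; exact ha)
      exact this
  have key := (Cfsg.Agent.S1465.result hoddq p hp Pb hPbp {Ab} (by
    intro B hB
    rw [Set.mem_singleton_iff] at hB
    subst hB
    exact ⟨hAbc, hAbp, hPbN⟩)).2 hO inf_le_left
  rw [sSup_singleton] at key
  intro a ha
  show f a ∈ Cfsg.pCore p (G ⧸ K)
  exact key ⟨a, ha, rfl⟩

end Cfsg.Agent.S1457
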