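import Mathlib
import Cfsg.Agent.Lib.Helper22.AlperinStep
import Cfsg.Agent.Lib.Helper19.PGroupBasic
import Cfsg.Agent.S0126
import Cfsg.Statements.S0100
-- import your own Cfsg.Agent.* helpers here

set_option autoImplicit false
open Cfsg

namespace Cfsg.Agent.S0100

open Subgroup

/-- In a cyclic group, a subgroup of exponent dividing `p` has at most `p` elements. -/
theorem card_le_of_isCyclic {P : Type*} [Group P] [Finite P] [IsCyclic P] (p : ℕ) [hp : Fact p.Prime]
    (E : Subgroup P) (hEe : ∀ e ∈ E, e ^ p = 1) : Nat.card E ≤ p := by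
  classical
  have := Fintype.ofFinite P
  have hle := IsCyclic.card_pow_eq_one_le (α := P) (n := p) hp.out.pos
  set F := Finset.univ.filter (fun a : P => a ^ p = 1) with hF
  have h1 : Nat.card E = (Finset.univ.filter (fun a : P => a ∈ E)).card := by
    rw [Nat.card_eq_fintype_card, Fintype.card_subtype]
  rw [h1]
  refine le_trans (Finset.card_le_card ?_) hle
  intro a ha
  rw [Finset.mem_filter] at ha ⊢
  exact ⟨Finset.mem_univ _, hEe a ha.2⟩

/-- The centralizer of a normal subgroup of order `p ^ 2` of a `p`-group has index at most `p`. -/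
theorem index_centralizer_le {P : Type*} [Group P] [Finite P] {p : ℕ} [hp : Fact p.Prime]
    (hP : IsPGroup p P) (A : Subgroup P) [hA : A.Normal] (hcard : Nat.card A = p ^ 2) :
    (centralizer (A : Set P)).index ≤ p := by
  classical
  have hpp : p.Prime := hp.out
  have hAne : A ≠ ⊥ := by
    intro h
    rw [h, Subgroup.card_bot] at hcard
    have := hpp.two_le
    nlinarith
  have hZ0 := Cfsg.Agent.Helper19.normal_inf_center_ne_bot hP A hAne
  set Z₀ : Subgroup P := A ⊓ center P with hZ₀
  by_cases hAZ : A ≤ center P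
  · have : centralizer (A : Set P) = ⊤ := by
      rw [Subgroup.centralizer_eq_top_iff_subset]
      exact hAZ
    rw [this, Subgroup.index_top]
    exact hpp.one_le
  · obtain ⟨a, haA, haZ⟩ := SetLike.not_le_iff_exists.1 hAZ
    set H : Subgroup P := Z₀ ⊔ zpowers a with hH
    have hHA : H ≤ A := sup_le inf_le_left (by rw [Subgroup.zpowers_le]; exact haA)
    have hZH : Z₀ < H := by
      refine lt_of_le_of_ne le_sup_left ?_
      intro h
      apply haZ
      have : a ∈ Z₀ := by
        rw [h]
        exact (le_sup_right : zpowers a ≤ H) (Subgroup.mem_zpowers a)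
      exact this.2
    have hHeq : H = A := by
      obtain ⟨i, hi⟩ := (Nat.dvd_prime_pow hpp).1 (hcard ▸ Subgroup.card_dvd_of_le hHA)
      obtain ⟨j, hj⟩ := (Nat.dvd_prime_pow hpp).1
        (hcard ▸ Subgroup.card_dvd_of_le (hZH.le.trans hHA))
      have hj0 : j ≠ 0 := by
        rintro rfl
        rw [pow_zero] at hj
        exact hZ0 (Subgroup.card_eq_one.1 hj.2)
      have hlt : Nat.card Z₀ < Nat.card H := by
        refine lt_of_le_of_ne (Subgroup.card_le_of_le hZH.le) ?_
        intro h
        exact hZH.ne (Subgroup.eq_of_le_of_card_ge hZH.le h.ge)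
      rw [hi.2, hj.2] at hlt
      have hji : j < i := (Nat.pow_lt_pow_iff_right hpp.one_lt).1 hlt
      have hi2 : i = 2 := by have := hi.1; omega
      apply Subgroup.eq_of_le_of_card_ge hHA
      rw [hcard, hi.2, hi2]
    have hcent : centralizer (A : Set P) = centralizer {a} := by
      apply le_antisymm
      · apply Subgroup.centralizer_le
        intro x hx
        rw [Set.mem_singleton_iff.1 hx]
        exact haA
      · intro g hg
        rw [Subgroup.mem_centralizer_iff]
        intro b hb
        have hbH : b ∈ H := hHeq ▸ hb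
        have hHK : H ≤ centralizer {g} := by
          apply sup_le
          · intro z hz
            rw [Subgroup.mem_centralizer_singleton_iff]
            exact (Subgroup.mem_center_iff.1 hz.2 g).symm
          · rw [Subgroup.zpowers_le, Subgroup.mem_centralizer_singleton_iff]
            exact (Subgroup.mem_centralizer_singleton_iff.1 hg).symm
        exact (Subgroup.mem_centralizer_singleton_iff.1 (hHK hbH))
    rw [hcent]
    -- orbit of `a` under conjugation inside `A`
    let _inst : MulAction P A := MulAction.compHom A (MulAut.conjNormal : P →* MulAut A)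
    have hsmul : ∀ (g : P) (n : A), ((g • n : A) : P) = g * n * g⁻¹ := fun g n => rfl
    have hstab : MulAction.stabilizer P (⟨a, haA⟩ : A) = centralizer {a} := by
      ext g
      rw [MulAction.mem_stabilizer_iff, Subgroup.mem_centralizer_singleton_iff, Subtype.ext_iff, hsmul]
      change g * a * g⁻¹ = a ↔ g * a = a * g
      constructor
      · intro h
        rw [← mul_inv_eq_iff_eq_mul]
        exact h
      · intro h
        rw [mul_inv_eq_iff_eq_mul]
        exact h
    rw [← hstab, MulAction.index_stabilizer]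
    have hdvd : (MulAction.orbit P (⟨a, haA⟩ : A)).ncard ∣ Nat.card P := by
      rw [← MulAction.index_stabilizer]
      exact Subgroup.index_dvd_card _
    obtain ⟨n, hn⟩ := hP.exists_card_eq
    obtain ⟨i, hi⟩ := (Nat.dvd_prime_pow hpp).1 (hn ▸ hdvd)
    have hlt : (MulAction.orbit P (⟨a, haA⟩ : A)).ncard < p ^ 2 := by
      rw [← hcard, ← Set.ncard_univ]
      apply Set.ncard_lt_ncard _ (Set.toFinite _)
      refine ⟨Set.subset_univ _, ?_⟩
      intro h
      have h1 : (1 : A) ∈ MulAction.orbit P (⟨a, haA⟩ : A) := h (Set.mem_univ _)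
      obtain ⟨g, hg⟩ := h1
      have h2 : g * a * g⁻¹ = 1 := by
        have := congrArg Subtype.val hg
        simpa [hsmul] using this
      have ha1 : a = 1 := by
        have : a = g⁻¹ * (g * a * g⁻¹) * g := by group
        rw [this, h2]
        group
      apply haZ
      rw [ha1]
      exact Subgroup.one_mem _
    rw [hi.2] at hlt ⊢
    have : i < 2 := (Nat.pow_lt_pow_iff_right hpp.one_lt).1 hlt
    calc p ^ i ≤ p ^ 1 := Nat.pow_le_pow_right hpp.pos (by omega)
    _ = p := pow_one p

/-- For odd p, a p-group without normal elementary abelian subgroups of order p^3 has p-rank at most 2. -/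
theorem result {P : Type*} [Group P] [Finite P] {p : ℕ} [Fact p.Prime] (hp : p ≠ 2) (hP : IsPGroup p P) (h : ∀ A : Subgroup P, A.Normal → IsMulCommutative A → (∀ a ∈ A, a ^ p = 1) → Nat.card A ≠ p ^ 3) (E : Subgroup P) (hE : IsMulCommutative E) (hEe : ∀ e ∈ E, e ^ p = 1) : Nat.card E ≤ p ^ 2 := by
  classical
  have hpp : p.Prime := Fact.out
  by_contra hcon
  rw [not_le] at hcon
  have hnc : ¬ IsCyclic P := by
    intro hc
    have h1 := card_le_of_isCyclic p E hEe
    have : p ≤ p ^ 2 := by nlinarith [hpp.two_le]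
    omega
  obtain ⟨A, hAn, ⟨hAc, hAe⟩, hAcard⟩ := Cfsg.Agent.S0126.result hp hP hnc
  haveI := hAn
  set C : Subgroup P := centralizer (A : Set P) with hC
  have hidx : C.index ≤ p := index_centralizer_le hP A hAcard
  have hEc : ∀ a ∈ E, ∀ b ∈ E, a * b = b * a := fun a ha b hb =>
    congrArg Subtype.val (hE.is_comm.comm ⟨a, ha⟩ ⟨b, hb⟩)
  have hAcm : ∀ a ∈ A, ∀ b ∈ A, a * b = b * a := fun a ha b hb =>
    congrArg Subtype.val (hAc.is_comm.comm ⟨a, ha⟩ ⟨b, hb⟩)
  -- an element of order p in C outside A
  have hx : ∃ x ∈ E ⊓ C, x ∉ A := by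
    by_contra hno
    have hle : E ⊓ C ≤ A := by
      intro y hy
      by_contra hyA
      exact hno ⟨y, hy, hyA⟩
    have hrel : Nat.card (E ⊓ C : Subgroup P) * C.relIndex E = Nat.card E := by
      have h1 := Subgroup.card_mul_index (C.subgroupOf E)
      have h2 : Nat.card (C.subgroupOf E) = Nat.card (E ⊓ C : Subgroup P) := by
        rw [← Subgroup.inf_subgroupOf_left]
        exact Nat.card_congr (Subgroup.subgroupOfEquivOfLe inf_le_left).toEquiv
      rw [h2] at h1
      exact h1
    have hr : C.relIndex E ≤ p := by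
      have h1 : C.relIndex E ∣ C.index := Subgroup.relIndex_dvd_index_of_normal C E
      have hpos : 0 < C.index := Nat.pos_of_ne_zero Subgroup.index_ne_zero_of_finite
      exact (Nat.le_of_dvd hpos h1).trans hidx
    have hAE : ¬ A ≤ E := by
      intro hAE
      have hEC : E ≤ C := by
        intro e he
        rw [hC, Subgroup.mem_centralizer_iff]
        intro a ha
        exact hEc a (hAE ha) e he
      have : E ⊓ C = E := inf_eq_left.2 hEC
      rw [this] at hle
      have := Subgroup.card_le_of_le hle
      omega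
    have hne : E ⊓ C ≠ A := by
      intro h
      exact hAE (h ▸ inf_le_left)
    obtain ⟨i, hi⟩ := (Nat.dvd_prime_pow hpp).1 (hAcard ▸ Subgroup.card_dvd_of_le hle)
    have hi2 : i ≠ 2 := by
      rintro rfl
      apply hne
      apply Subgroup.eq_of_le_of_card_ge hle
      rw [hAcard, hi.2]
    have hi1 : i ≤ 1 := by have := hi.1; omega
    have hcard1 : Nat.card (E ⊓ C : Subgroup P) ≤ p := by
      rw [hi.2]
      calc p ^ i ≤ p ^ 1 := Nat.pow_le_pow_right hpp.pos hi1
      _ = p := pow_one p
    have : Nat.card E ≤ p * p := by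
      rw [← hrel]
      exact Nat.mul_le_mul hcard1 hr
    rw [← pow_two] at this
    omega
  obtain ⟨x, hxEC, hxA⟩ := hx
  have hp1 : p ^ 1 ≠ 2 := by rwa [pow_one]
  have hAe' : ∀ a ∈ A, a ^ p ^ 1 = 1 := by
    intro a ha
    rw [pow_one]
    exact hAe a ha
  have hxp : x ^ p ^ 1 = 1 := by
    rw [pow_one]
    exact hEe x hxEC.1
  obtain ⟨B, hBn, hB⟩ :=
    Cfsg.Agent.Helper22.exists_normal_isStepOver hP 1 hp1 A hAcm hAe' x hxEC.2 hxp hxA
  apply h B hBn ⟨⟨fun a b => Subtype.ext (hB.comm a a.2 b b.2)⟩⟩
  · intro b hb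
    have := hB.exp b hb
    rwa [pow_one] at this
  · rw [hB.card, hAcard]
    ring

end Cfsg.Agent.S0100
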