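import Mathlib
import Cfsg.Agent.Lib.Helper22.RankFour
import Cfsg.Agent.S0100
import Cfsg.Statements.S1452
-- import your own Cfsg.Agent.* helpers here

set_option autoImplicit false
open Cfsg

namespace Cfsg.Agent.S1452

open Subgroup
open scoped commutatorElement
open Cfsg.Agent.Helper22

/-- An elementary abelian subgroup of order `> p ^ 2` has an element centralising the normal subgroup
`A` of order `p ^ 2` but outside it. -/
theorem exists_mem_centralizer_not_mem {P : Type*} [Group P] [Finite P] {p : ℕ} [hp : Fact p.Prime]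
    (hP : IsPGroup p P) (A : Subgroup P) [hA : A.Normal] (hAcard : Nat.card A = p ^ 2)
    (E : Subgroup P) (hEc : ∀ a ∈ E, ∀ b ∈ E, a * b = b * a) (hcon : p ^ 2 < Nat.card E) :
    ∃ x ∈ E ⊓ centralizer (A : Set P), x ∉ A := by
  classical
  have hpp : p.Prime := hp.out
  set C : Subgroup P := centralizer (A : Set P) with hC
  have hidx : C.index ≤ p := Cfsg.Agent.S0100.index_centralizer_le hP A hAcard
  by_contra hno
  have hle : E ⊓ C ≤ A := by
    intro y hy
    by_contra hyA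
    exact hno ⟨y, hy, hyA⟩
  have hrel : Nat.card (E ⊓ C : Subgroup P) * C.relIndex E = Nat.card E := by
    have h1 := card_eq_relIndex_mul_card (E ⊓ C) E inf_le_left
    rw [inf_comm, Subgroup.inf_relIndex_right, inf_comm] at h1
    rw [h1, mul_comm]
  have hr : C.relIndex E ≤ p := by
    have h1 : C.relIndex E ∣ C.index := Subgroup.relIndex_dvd_index_of_normal C E
    have hpos : 0 < C.index := Nat.pos_of_ne_zero Subgroup.index_ne_zero_of_finite
    exact (Nat.le_of_dvd hpos h1).trans hidx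
  have hAE : ¬ A ≤ E := by
    intro hAE
    have hEC : E ≤ C := by
      intro e he
      rw [hC, Subgroup.mem_centralizer_iff]
      intro a ha
      exact hEc a (hAE ha) e he
    have : E ⊓ C = E := inf_eq_left.2 hEC
    rw [this] at hle
    have := Subgroup.card_le_of_le hle
    omega
  have hne : E ⊓ C ≠ A := by
    intro h
    exact hAE (h ▸ inf_le_left)
  obtain ⟨i, hi⟩ := (Nat.dvd_prime_pow hpp).1 (hAcard ▸ Subgroup.card_dvd_of_le hle)
  have hi2 : i ≠ 2 := by
    rintro rfl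
    apply hne
    apply Subgroup.eq_of_le_of_card_ge hle
    rw [hAcard, hi.2]
  have hi1 : i ≤ 1 := by have := hi.1; omega
  have hcard1 : Nat.card (E ⊓ C : Subgroup P) ≤ p := by
    rw [hi.2]
    calc p ^ i ≤ p ^ 1 := Nat.pow_le_pow_right hpp.pos hi1
    _ = p := pow_one p
  have : Nat.card E ≤ p * p := by
    rw [← hrel]
    exact Nat.mul_le_mul hcard1 hr
  rw [← pow_two] at this
  omega

/-- A maximal normal abelian subgroup of a `p`-group is self-centralising; every normal abelian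
subgroup lies in one. -/
theorem exists_self_centralizing {R : Type*} [Group R] [Finite R] {p : ℕ} [hp : Fact p.Prime]
    (hR : IsPGroup p R) (A₀ : Subgroup R) [hA₀ : A₀.Normal]
    (hA₀c : ∀ a ∈ A₀, ∀ b ∈ A₀, a * b = b * a) :
    ∃ A : Subgroup R, A₀ ≤ A ∧ A.Normal ∧ centralizer (A : Set R) = A := by
  classical
  let 𝒜 : Set (Subgroup R) := {A | A₀ ≤ A ∧ A.Normal ∧ ∀ a ∈ A, ∀ b ∈ A, a * b = b * a}
  have hfin : 𝒜.Finite := Set.toFinite 𝒜
  have hne : 𝒜.Nonempty := ⟨A₀, le_rfl, hA₀, hA₀c⟩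
  obtain ⟨A, ⟨hA₀A, hAn, hAc⟩, hmax⟩ := hfin.exists_maximal hne
  haveI := hAn
  refine ⟨A, hA₀A, hAn, ?_⟩
  have hAle : A ≤ centralizer (A : Set R) := by
    intro a ha
    rw [Subgroup.mem_centralizer_iff]
    intro b hb
    exact hAc b hb a ha
  by_contra hne
  obtain ⟨K', hK'n, hAK', hK'C, hK'card⟩ :=
    exists_normal_step hR (centralizer (A : Set R)) A hAle (Ne.symm hne)
  obtain ⟨n, hn⟩ := hR.exists_card_eq
  have hstep : IsStepOver p n A K' := by
    refine ⟨hAK', hK'C, hK'card, ?_⟩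
    intro b _
    rw [← hn]
    exact pow_card_eq_one'
  have hK'mem : K' ∈ 𝒜 := ⟨hA₀A.trans hAK', hK'n, hstep.comm⟩
  have := hmax hK'mem hAK'
  exact hstep.lt.not_ge this

/-- Let p be an odd prime and R a finite p-group containing an elementary abelian subgroup of order p ^ 3. If E is a normal elementary abelian subgroup of R of order p ^ 2, then E ≤ A for some normal subgroup A of R with C_R(A) = A that contains an elementary abelian subgroup of order p ^ 3. -/
theorem result {R : Type*} [Group R] [Finite R] (p : ℕ) [Fact p.Prime] (hp : p ≠ 2) (hR : IsPGroup p R) (hr : ¬ Cfsg.PRankLE p 2 R)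
    (E : Subgroup R) [E.Normal] (hE : Cfsg.IsElementaryAbelian p E) (hE2 : Nat.card E = p ^ 2) :
    ∃ A : Subgroup R, E ≤ A ∧ A.Normal ∧ Subgroup.centralizer (A : Set R) = A ∧ ¬ Cfsg.PRankLE p 2 A := by
  classical
  have hpp : p.Prime := Fact.out
  obtain ⟨hEc, hEe⟩ := hE
  have hEcm : ∀ u ∈ E, ∀ v ∈ E, u * v = v * u := fun a ha b hb =>
    congrArg Subtype.val (hEc.is_comm.comm ⟨a, ha⟩ ⟨b, hb⟩)
  -- an elementary abelian subgroup of order > p^2
  obtain ⟨X, hXc, hXe, hXcard⟩ : ∃ X : Subgroup R, IsMulCommutative X ∧ (∀ a ∈ X, a ^ p = 1) ∧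
      p ^ 2 < Nat.card X := by
    by_contra hno
    apply hr
    intro X hXc hXe
    by_contra hX
    exact hno ⟨X, hXc, hXe, not_le.1 hX⟩
  have hXcm : ∀ u ∈ X, ∀ v ∈ X, u * v = v * u := fun a ha b hb =>
    congrArg Subtype.val (hXc.is_comm.comm ⟨a, ha⟩ ⟨b, hb⟩)
  obtain ⟨x, hxXC, hxE⟩ := exists_mem_centralizer_not_mem hR E hE2 X hXcm hXcard
  have hp1 : p ^ 1 ≠ 2 := by rwa [pow_one]
  have hEe' : ∀ a ∈ E, a ^ p ^ 1 = 1 := by
    intro a ha
    rw [pow_one]
    exact hEe a ha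
  have hxp : x ^ p ^ 1 = 1 := by
    rw [pow_one]
    exact hXe x hxXC.1
  obtain ⟨A₀, hA₀n, hA₀⟩ := exists_normal_isStepOver hR 1 hp1 E hEcm hEe' x hxXC.2 hxp hxE
  haveI := hA₀n
  obtain ⟨A, hA₀A, hAn, hAC⟩ := exists_self_centralizing hR A₀ hA₀.comm
  refine ⟨A, hA₀.le.trans hA₀A, hAn, hAC, ?_⟩
  intro hrk
  have h1 := hrk (A₀.subgroupOf A)
    ⟨⟨fun a b => Subtype.ext (Subtype.ext (hA₀.comm a.1.1 a.2 b.1.1 b.2))⟩⟩
    (by
      intro a ha
      apply Subtype.ext
      have := hA₀.exp a.1 ha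
      rw [pow_one] at this
      simpa using this)
  have h2 : Nat.card (A₀.subgroupOf A) = Nat.card A₀ :=
    Nat.card_congr (Subgroup.subgroupOfEquivOfLe hA₀A).toEquiv
  rw [h2, hA₀.card, hE2] at h1
  have h3 : p ^ 2 < p * p ^ 2 := by
    have := hpp.two_le
    have hpos : 0 < p ^ 2 := pow_pos hpp.pos 2
    nlinarith
  omega

end Cfsg.Agent.S1452
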