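import Mathlib
import Cfsg.Agent.Lib.Helper22.RankThree
import Cfsg.Agent.S0100
import Cfsg.Agent.S0126
import Cfsg.Agent.S1452
import Cfsg.Statements.S1337
-- import your own Cfsg.Agent.* helpers here

set_option autoImplicit false
open Cfsg

namespace Cfsg.Agent.S1337

open Subgroup
open scoped commutatorElement
open Cfsg.Agent.Helper22

section Aux

variable {P : Type*} [Group P] [Finite P] {p : ℕ} [hp : Fact p.Prime]

/-- a normal subgroup of order `p ^ 2` in a `p`-group with at least `p ^ 2` elements -/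
theorem exists_normal_card_sq (hP : IsPGroup p P) (hcard : p ^ 2 ≤ Nat.card P) :
    ∃ U : Subgroup P, U.Normal ∧ Nat.card U = p ^ 2 := by
  have hpp : p.Prime := hp.out
  have hne1 : (⊥ : Subgroup P) ≠ ⊤ := by
    intro h
    have := congrArg (fun H : Subgroup P => Nat.card H) h
    simp only [Subgroup.card_bot, Subgroup.card_top] at this
    rw [← this] at hcard
    nlinarith [hpp.two_le]
  obtain ⟨K₁, hK₁n, -, -, hK₁c⟩ := exists_normal_step hP ⊤ ⊥ bot_le hne1
  rw [Subgroup.card_bot, mul_one] at hK₁c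
  haveI := hK₁n
  have hne2 : K₁ ≠ ⊤ := by
    intro h
    rw [h, Subgroup.card_top] at hK₁c
    rw [hK₁c] at hcard
    nlinarith [hpp.two_le]
  obtain ⟨K₂, hK₂n, -, -, hK₂c⟩ := exists_normal_step hP ⊤ K₁ le_top hne2
  exact ⟨K₂, hK₂n, by rw [hK₂c, hK₁c]; ring⟩

/-- A `2`-group containing an elementary abelian subgroup of order `> 4` has a normal four-group. -/
theorem exists_normal_four {P : Type*} [Group P] [Finite P] (hP : IsPGroup 2 P)
    (X : Subgroup P) (_hXc : ∀ u ∈ X, ∀ v ∈ X, u * v = v * u) (hXe : ∀ u ∈ X, u ^ 2 = 1)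
    (hXcard : 2 ^ 2 < Nat.card X) :
    ∃ U : Subgroup P, U.Normal ∧ Cfsg.IsElementaryAbelian 2 U ∧ Nat.card U = 2 ^ 2 := by
  classical
  haveI : Fact (Nat.Prime 2) := ⟨Nat.prime_two⟩
  have hcardP : 2 ^ 2 ≤ Nat.card P := hXcard.le.trans (Subgroup.card_le_card_group X)
  obtain ⟨U, hUn, hUcard⟩ := exists_normal_card_sq hP hcardP
  haveI := hUn
  have hUcomm : IsMulCommutative U := IsPGroup.isMulCommutative_of_card_eq_prime_sq hUcard
  have hUcm : ∀ u ∈ U, ∀ v ∈ U, u * v = v * u := fun a ha b hb =>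
    congrArg Subtype.val (hUcomm.is_comm.comm ⟨a, ha⟩ ⟨b, hb⟩)
  by_cases hUe : ∀ u ∈ U, u ^ 2 = 1
  · exact ⟨U, hUn, ⟨hUcomm, hUe⟩, hUcard⟩
  · -- U is cyclic of order 4
    obtain ⟨u₀, hu₀U, hu₀⟩ : ∃ u ∈ U, u ^ 2 ≠ 1 := by
      by_contra hno
      apply hUe
      intro u hu
      by_contra h
      exact hno ⟨u, hu, h⟩
    have hU4 : ∀ u ∈ U, u ^ 2 ^ 2 = 1 := by
      intro u hu
      have : (⟨u, hu⟩ : U) ^ Nat.card U = 1 := pow_card_eq_one'
      rw [hUcard] at this
      exact congrArg Subtype.val this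
    -- order of u₀ is 4, so U = zpowers u₀
    have hord : orderOf u₀ = 4 := by
      have h1 : orderOf u₀ ∣ 2 ^ 2 := orderOf_dvd_of_pow_eq_one (hU4 u₀ hu₀U)
      obtain ⟨i, hi⟩ := (Nat.dvd_prime_pow Nat.prime_two).1 h1
      have hi2 : i = 2 := by
        by_contra h
        have hi1 : i ≤ 1 := by have := hi.1; omega
        apply hu₀
        have : orderOf u₀ ∣ 2 := by
          rw [hi.2]
          calc 2 ^ i ∣ 2 ^ 1 := pow_dvd_pow 2 hi1
          _ = 2 := pow_one 2
        exact orderOf_dvd_iff_pow_eq_one.1 this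
      rw [hi.2, hi2]
      norm_num
    have hUz : U = zpowers u₀ := by
      symm
      apply Subgroup.eq_of_le_of_card_ge
      · rw [Subgroup.zpowers_le]; exact hu₀U
      · rw [Nat.card_zpowers, hord, hUcard]
        norm_num
    -- involutions of U are 1 and u₀^2
    have hinvU : ∀ x ∈ U, x ^ 2 = 1 → x = 1 ∨ x = u₀ ^ 2 := by
      intro x hx hx2
      rw [hUz] at hx
      obtain ⟨k, rfl⟩ := Subgroup.mem_zpowers_iff.1 hx
      have h1 : (u₀ ^ k) ^ 2 = u₀ ^ (k * 2) := by rw [← zpow_natCast, ← zpow_mul]; rfl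
      rw [h1] at hx2
      have h2 : ((orderOf u₀ : ℕ) : ℤ) ∣ k * 2 := (orderOf_dvd_iff_zpow_eq_one).2 hx2
      rw [hord] at h2
      have h3 : (2 : ℤ) ∣ k := by
        obtain ⟨m, hm⟩ := h2
        exact ⟨m, by push_cast at hm; omega⟩
      obtain ⟨m, rfl⟩ := h3
      rcases Int.even_or_odd m with hm | hm
      · left
        obtain ⟨j, rfl⟩ := hm
        have : (2 : ℤ) * (j + j) = ((4 : ℕ) : ℤ) * j := by push_cast; ring
        rw [this, zpow_mul, zpow_natCast, ← hord, pow_orderOf_eq_one, one_zpow]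
      · right
        obtain ⟨j, rfl⟩ := hm
        have : (2 : ℤ) * (2 * j + 1) = ((4 : ℕ) : ℤ) * j + 2 := by push_cast; ring
        rw [this, zpow_add, zpow_mul, zpow_natCast, ← hord, pow_orderOf_eq_one, one_zpow, one_mul]
        exact zpow_ofNat u₀ 2
    -- an element of X centralising U outside U
    set C : Subgroup P := centralizer (U : Set P) with hC
    have hidx : C.index ≤ 2 := Cfsg.Agent.S0100.index_centralizer_le hP U hUcard
    obtain ⟨x, hxXC, hxU⟩ : ∃ x ∈ X ⊓ C, x ∉ U := by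
      by_contra hno
      have hle : X ⊓ C ≤ U := by
        intro y hy
        by_contra hyU
        exact hno ⟨y, hy, hyU⟩
      -- X ⊓ C has at most 2 elements
      have hle2 : X ⊓ C ≤ zpowers (u₀ ^ 2) := by
        intro y hy
        rcases hinvU y (hle hy) (hXe y hy.1) with h | h
        · rw [h]; exact Subgroup.one_mem _
        · rw [h]; exact Subgroup.mem_zpowers _
      have hcard2 : Nat.card (X ⊓ C : Subgroup P) ≤ 2 := by
        refine (Subgroup.card_le_of_le hle2).trans ?_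
        rw [Nat.card_zpowers]
        apply orderOf_le_of_pow_eq_one (by norm_num)
        rw [← pow_mul]
        have := hU4 u₀ hu₀U
        norm_num at this ⊢
        exact this
      have hrel := card_eq_relIndex_mul_card (X ⊓ C) X inf_le_left
      rw [inf_comm, Subgroup.inf_relIndex_right, inf_comm] at hrel
      have hr : C.relIndex X ≤ 2 := by
        have h1 : C.relIndex X ∣ C.index := Subgroup.relIndex_dvd_index_of_normal C X
        have hpos : 0 < C.index := Nat.pos_of_ne_zero Subgroup.index_ne_zero_of_finite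
        exact (Nat.le_of_dvd hpos h1).trans hidx
      have : Nat.card X ≤ 2 * 2 := by
        rw [hrel]
        exact Nat.mul_le_mul hr hcard2
      omega
    have hx4 : x ^ 2 ^ 2 = 1 := by
      have := hXe x hxXC.1
      rw [pow_two, pow_mul, this, one_pow]
    obtain ⟨B, hBn, hB⟩ := exists_normal_isStepOver hP 2 (by norm_num) U hUcm hU4 x hxXC.2 hx4 hxU
    haveI := hBn
    have hBcard : Nat.card B = 8 := by
      rw [hB.card, hUcard]; norm_num
    -- K = elements of B of order ≤ 2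
    let K : Subgroup P :=
      { carrier := {b : P | b ∈ B ∧ b ^ 2 = 1}
        mul_mem' := by
          rintro a b ⟨ha, ha2⟩ ⟨hb, hb2⟩
          refine ⟨B.mul_mem ha hb, ?_⟩
          have : Commute a b := hB.comm a ha b hb
          rw [this.mul_pow, ha2, hb2, one_mul]
        one_mem' := ⟨B.one_mem, one_pow _⟩
        inv_mem' := by
          rintro a ⟨ha, ha2⟩
          exact ⟨B.inv_mem ha, by rw [inv_pow, ha2, inv_one]⟩ }
    have hKmem : ∀ b, b ∈ K ↔ b ∈ B ∧ b ^ 2 = 1 := fun b => Iff.rfl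
    have hKB : K ≤ B := fun b hb => ((hKmem b).1 hb).1
    have hKn : K.Normal := by
      refine ⟨fun b hb g => ?_⟩
      obtain ⟨hbB, hb2⟩ := (hKmem b).1 hb
      refine (hKmem _).2 ⟨hBn.conj_mem b hbB g, ?_⟩
      rw [conj_pow, hb2]
      group
    -- squaring homomorphism on B
    let sq : B →* B := MonoidHom.mk' (fun b => b ^ 2) (by
      intro a b
      have : Commute a b := Subtype.ext (hB.comm a a.2 b b.2)
      exact this.mul_pow 2)
    have hker : sq.ker = K.subgroupOf B := by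
      ext b
      rw [MonoidHom.mem_ker, Subgroup.mem_subgroupOf, hKmem]
      have hsq : ((sq b : B) : P) = (b : P) ^ 2 := rfl
      constructor
      · intro h
        refine ⟨b.2, ?_⟩
        rw [← hsq, h]
        rfl
      · intro h
        apply Subtype.ext
        rw [hsq, h.2]
        rfl
    have hrange : sq.range ≤ K.subgroupOf B := by
      rintro _ ⟨b, rfl⟩
      rw [Subgroup.mem_subgroupOf, hKmem]
      refine ⟨(sq b).2, ?_⟩
      change ((b : P) ^ 2) ^ 2 = 1
      rw [← pow_mul]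
      have := hB.exp b b.2
      norm_num at this ⊢
      exact this
    have hKcardB : Nat.card (K.subgroupOf B) = Nat.card K :=
      Nat.card_congr (Subgroup.subgroupOfEquivOfLe hKB).toEquiv
    have h8 : Nat.card K * Nat.card sq.range = 8 := by
      have := Subgroup.card_eq_card_quotient_mul_card_subgroup sq.ker
      rw [Nat.card_congr (QuotientGroup.quotientKerEquivRange sq).toEquiv, hker, hKcardB,
        hBcard] at this
      rw [mul_comm]
      exact this.symm
    have hrle : Nat.card sq.range ≤ Nat.card K := by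
      rw [← hKcardB]
      exact Subgroup.card_le_of_le hrange
    have hKne : K ≠ B := by
      intro h
      have : u₀ ∈ K := h ▸ hB.le hu₀U
      exact hu₀ ((hKmem u₀).1 this).2
    have hKcard : Nat.card K = 4 := by
      have hdvd : Nat.card K ∣ 8 := hBcard ▸ Subgroup.card_dvd_of_le hKB
      have hK8 : Nat.card K ≠ 8 := by
        intro h
        exact hKne (Subgroup.eq_of_le_of_card_ge hKB (by rw [hBcard, h]))
      have hle8 : Nat.card K ≤ 8 := Nat.le_of_dvd (by norm_num) hdvd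
      have hpos : 0 < Nat.card sq.range := Nat.card_pos
      interval_cases h : Nat.card K <;> simp_all <;> omega
    refine ⟨K, hKn, ⟨⟨⟨fun a b => Subtype.ext (hB.comm a (hKB a.2) b (hKB b.2))⟩⟩, ?_⟩, ?_⟩
    · intro a ha
      exact ((hKmem a).1 ha).2
    · rw [hKcard]; norm_num

end Aux

section Aux2

variable {P : Type*} [Group P] [Finite P] {p : ℕ} [hp : Fact p.Prime]

theorem not_pRankLE_of_le (C T : Subgroup P) (hT : T ≤ C) (hc : ∀ u ∈ T, ∀ v ∈ T, u * v = v * u)
    (he : ∀ u ∈ T, u ^ p = 1) (hcard : p ^ 2 < Nat.card T) : ¬ Cfsg.PRankLE p 2 C := by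
  intro hrk
  have h1 := hrk (T.subgroupOf C)
    ⟨⟨fun a b => Subtype.ext (Subtype.ext (hc a.1.1 a.2 b.1.1 b.2))⟩⟩
    (by
      intro a ha
      apply Subtype.ext
      have := he a.1 ha
      simpa using this)
  have h2 : Nat.card (T.subgroupOf C) = Nat.card T :=
    Nat.card_congr (Subgroup.subgroupOfEquivOfLe hT).toEquiv
  rw [h2] at h1
  omega

theorem exists_of_not_pRankLE (C : Subgroup P) (h : ¬ Cfsg.PRankLE p 2 C) :
    ∃ T : Subgroup P, T ≤ C ∧ (∀ u ∈ T, ∀ v ∈ T, u * v = v * u) ∧ (∀ u ∈ T, u ^ p = 1) ∧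
      p ^ 2 < Nat.card T := by
  classical
  obtain ⟨Y, hYc, hYe, hYcard⟩ : ∃ Y : Subgroup C, IsMulCommutative Y ∧ (∀ a ∈ Y, a ^ p = 1) ∧
      p ^ 2 < Nat.card Y := by
    by_contra hno
    apply h
    intro Y hYc hYe
    by_contra hY
    exact hno ⟨Y, hYc, hYe, not_le.1 hY⟩
  refine ⟨Y.map C.subtype, Subgroup.map_subtype_le Y, ?_, ?_, ?_⟩
  · rintro _ ⟨u, hu, rfl⟩ _ ⟨v, hv, rfl⟩
    have := hYc.is_comm.comm ⟨u, hu⟩ ⟨v, hv⟩
    have h2 : u * v = v * u := congrArg Subtype.val this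
    exact congrArg Subtype.val h2
  · rintro _ ⟨u, hu, rfl⟩
    have := hYe u hu
    simpa using congrArg Subtype.val this
  · rw [Subgroup.card_map_of_injective C.subtype_injective]
    exact hYcard

theorem exists_of_not_pRankLE_top (h : ¬ Cfsg.PRankLE p 2 P) :
    ∃ T : Subgroup P, (∀ u ∈ T, ∀ v ∈ T, u * v = v * u) ∧ (∀ u ∈ T, u ^ p = 1) ∧
      p ^ 2 < Nat.card T := by
  classical
  obtain ⟨Y, hYc, hYe, hYcard⟩ : ∃ Y : Subgroup P, IsMulCommutative Y ∧ (∀ a ∈ Y, a ^ p = 1) ∧
      p ^ 2 < Nat.card Y := by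
    by_contra hno
    apply h
    intro Y hYc hYe
    by_contra hY
    exact hno ⟨Y, hYc, hYe, not_le.1 hY⟩
  exact ⟨Y, fun a ha b hb => congrArg Subtype.val (hYc.is_comm.comm ⟨a, ha⟩ ⟨b, hb⟩), hYe, hYcard⟩

end Aux2

/-- Let P be a finite p-group of p-rank greater than 2. Then P has a normal elementary abelian subgroup U of order p², and for every elementary abelian X ≤ P with |X| ≥ p²: X is joined to U by a chain of pairwise commuting elementary abelian subgroups of order ≥ p² if and only if C_P(X) has p-rank greater than 2. -/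
theorem result {P : Type*} [Group P] [Finite P] (p : ℕ) [Fact p.Prime] (hP : IsPGroup p P) (hrk : ¬ Cfsg.PRankLE p 2 P) : ∃ U : Subgroup P, U.Normal ∧ Cfsg.IsElementaryAbelian p U ∧ Nat.card ↥U = p ^ 2 ∧ ∀ X : Subgroup P, Cfsg.IsElementaryAbelian p X → p ^ 2 ≤ Nat.card ↥X → (Relation.ReflTransGen (fun A B : Subgroup P => Cfsg.IsElementaryAbelian p A ∧ p ^ 2 ≤ Nat.card ↥A ∧ Cfsg.IsElementaryAbelian p B ∧ p ^ 2 ≤ Nat.card ↥B ∧ ∀ a ∈ A, ∀ b ∈ B, a * b = b * a) X U ↔ ¬ Cfsg.PRankLE p 2 ↥(Subgroup.centralizer (X : Set P))) := by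
  classical
  have hpp : p.Prime := Fact.out
  obtain ⟨X₀, hX₀c, hX₀e, hX₀card⟩ := exists_of_not_pRankLE_top hrk
  -- the normal elementary abelian subgroup U
  obtain ⟨U, hUn, ⟨hUc, hUe⟩, hUcard⟩ : ∃ U : Subgroup P, U.Normal ∧
      Cfsg.IsElementaryAbelian p U ∧ Nat.card U = p ^ 2 := by
    by_cases hp2 : p = 2
    · subst hp2
      exact exists_normal_four hP X₀ hX₀c hX₀e hX₀card
    · have hnc : ¬ IsCyclic P := by
        intro hc
        have h1 := Cfsg.Agent.S0100.card_le_of_isCyclic p X₀ hX₀e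
        have : p ≤ p ^ 2 := by nlinarith [hpp.two_le]
        omega
      exact Cfsg.Agent.S0126.result hp2 hP hnc
  haveI := hUn
  have hUcm : ∀ u ∈ U, ∀ v ∈ U, u * v = v * u := fun a ha b hb =>
    congrArg Subtype.val (hUc.is_comm.comm ⟨a, ha⟩ ⟨b, hb⟩)
  refine ⟨U, hUn, ⟨hUc, hUe⟩, hUcard, ?_⟩
  have hidx : (centralizer (U : Set P)).index ≤ p :=
    Cfsg.Agent.S0100.index_centralizer_le hP U hUcard
  -- the centraliser of U has rank at least 3
  have hbase : ¬ Cfsg.PRankLE p 2 (centralizer (U : Set P)) := by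
    obtain ⟨x, hxXC, hxU⟩ :=
      Cfsg.Agent.S1452.exists_mem_centralizer_not_mem hP U hUcard X₀ hX₀c hX₀card
    have hxc : ∀ u ∈ U, Commute u x := fun u hu => Subgroup.mem_centralizer_iff.1 hxXC.2 u hu
    have hxp : x ^ p = 1 := hX₀e x hxXC.1
    obtain ⟨hc, he⟩ := comm_and_pow_of_mem_sup p U (zpowers x)
      (by
        intro u hu v hv
        obtain ⟨k, rfl⟩ := Subgroup.mem_zpowers_iff.1 hv
        exact ((hxc u hu).zpow_right k).eq)
      hUcm
      (by
        intro u hu v hv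
        obtain ⟨k, rfl⟩ := Subgroup.mem_zpowers_iff.1 hu
        obtain ⟨l, rfl⟩ := Subgroup.mem_zpowers_iff.1 hv
        exact (Commute.zpow_zpow_self x k l).eq)
      hUe
      (by
        intro u hu
        obtain ⟨k, rfl⟩ := Subgroup.mem_zpowers_iff.1 hu
        rw [← zpow_natCast, ← zpow_mul, mul_comm, zpow_mul, zpow_natCast, hxp, one_zpow])
    apply not_pRankLE_of_le (centralizer (U : Set P)) (U ⊔ zpowers x) _ hc he
    · rw [← hUcard]
      have hlt : U < U ⊔ zpowers x := by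
        refine lt_of_le_of_ne le_sup_left ?_
        intro h
        apply hxU
        rw [h]
        exact (le_sup_right : zpowers x ≤ U ⊔ zpowers x) (Subgroup.mem_zpowers x)
      refine lt_of_le_of_ne (Subgroup.card_le_of_le hlt.le) ?_
      intro h
      exact hlt.ne (Subgroup.eq_of_le_of_card_ge hlt.le h.ge)
    · apply sup_le
      · intro u hu
        rw [Subgroup.mem_centralizer_iff]
        intro v hv
        exact hUcm v hv u hu
      · rw [Subgroup.zpowers_le]
        exact hxXC.2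
  intro X hX hXcard
  obtain ⟨hXc, hXe⟩ := hX
  have hXcm : ∀ u ∈ X, ∀ v ∈ X, u * v = v * u := fun a ha b hb =>
    congrArg Subtype.val (hXc.is_comm.comm ⟨a, ha⟩ ⟨b, hb⟩)
  constructor
  · -- chain ⇒ rank of centraliser
    intro hchain
    refine Relation.ReflTransGen.head_induction_on
      (motive := fun (A : Subgroup P) _ => ¬ Cfsg.PRankLE p 2 (centralizer (A : Set P))) hchain hbase ?_
    rintro A B ⟨⟨hAc, hAe⟩, hAcard, ⟨hBc, hBe⟩, hBcard, hAB⟩ _ ih
    have hAcm : ∀ u ∈ A, ∀ v ∈ A, u * v = v * u := fun a ha b hb =>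
      congrArg Subtype.val (hAc.is_comm.comm ⟨a, ha⟩ ⟨b, hb⟩)
    have hBcm : ∀ u ∈ B, ∀ v ∈ B, u * v = v * u := fun a ha b hb =>
      congrArg Subtype.val (hBc.is_comm.comm ⟨a, ha⟩ ⟨b, hb⟩)
    obtain ⟨hc, he⟩ := comm_and_pow_of_mem_sup p A B hAB hAcm hBcm hAe hBe
    by_cases hT : p ^ 2 < Nat.card (A ⊔ B : Subgroup P)
    · apply not_pRankLE_of_le (centralizer (A : Set P)) (A ⊔ B) _ hc he hT
      intro t ht
      rw [Subgroup.mem_centralizer_iff]
      intro a ha
      exact hc a (le_sup_left (a := A) ha) t ht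
    · rw [not_lt] at hT
      have hAT : A = A ⊔ B := Subgroup.eq_of_le_of_card_ge le_sup_left (hT.trans hAcard)
      have hBT : B = A ⊔ B := Subgroup.eq_of_le_of_card_ge le_sup_right (hT.trans hBcard)
      have hAB' : A = B := hAT.trans hBT.symm
      rw [hAB']
      exact ih
  · -- rank of centraliser ⇒ chain
    intro hrkX
    obtain ⟨Y, hYC, hYcm, hYe, hYcard⟩ := exists_of_not_pRankLE (centralizer (X : Set P)) hrkX
    have hYea : Cfsg.IsElementaryAbelian p Y :=
      ⟨⟨⟨fun a b => Subtype.ext (hYcm a a.2 b b.2)⟩⟩, hYe⟩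
    set Y₁ : Subgroup P := Y ⊓ centralizer (U : Set P) with hY₁
    have hY₁cm : ∀ u ∈ Y₁, ∀ v ∈ Y₁, u * v = v * u := fun u hu v hv => hYcm u hu.1 v hv.1
    have hY₁ea : Cfsg.IsElementaryAbelian p Y₁ :=
      ⟨⟨⟨fun a b => Subtype.ext (hY₁cm a a.2 b b.2)⟩⟩, fun a ha => hYe a ha.1⟩
    have hY₁card : p ^ 2 ≤ Nat.card Y₁ := by
      have hrel := card_eq_relIndex_mul_card Y₁ Y inf_le_left
      rw [hY₁, inf_comm, Subgroup.inf_relIndex_right, inf_comm] at hrel
      have hr : (centralizer (U : Set P)).relIndex Y ≤ p := by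
        have h1 : (centralizer (U : Set P)).relIndex Y ∣ (centralizer (U : Set P)).index :=
          Subgroup.relIndex_dvd_index_of_normal _ Y
        have hpos : 0 < (centralizer (U : Set P)).index :=
          Nat.pos_of_ne_zero Subgroup.index_ne_zero_of_finite
        exact (Nat.le_of_dvd hpos h1).trans hidx
      -- card Y ≥ p^3
      obtain ⟨k, hk⟩ := (hP.to_subgroup Y).exists_card_eq
      have hk3 : 3 ≤ k := by
        by_contra h
        have : k ≤ 2 := by omega
        have : p ^ k ≤ p ^ 2 := Nat.pow_le_pow_right hpp.pos this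
        omega
      have hY3 : p ^ 3 ≤ Nat.card Y := by
        rw [hk]
        exact Nat.pow_le_pow_right hpp.pos hk3
      by_contra hlt
      rw [not_le] at hlt
      have : Nat.card Y < p * p ^ 2 := by
        rw [hrel]
        calc (centralizer (U : Set P)).relIndex Y * Nat.card (Y ⊓ centralizer (U : Set P) : Subgroup P)
            ≤ p * Nat.card (Y ⊓ centralizer (U : Set P) : Subgroup P) := Nat.mul_le_mul_right _ hr
        _ < p * p ^ 2 := Nat.mul_lt_mul_of_pos_left hlt hpp.pos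
      have h5 : p * p ^ 2 = p ^ 3 := by ring
      omega
    have hXea : Cfsg.IsElementaryAbelian p X := ⟨hXc, hXe⟩
    have hUea : Cfsg.IsElementaryAbelian p U := ⟨hUc, hUe⟩
    have r1 : (fun A B : Subgroup P => Cfsg.IsElementaryAbelian p A ∧ p ^ 2 ≤ Nat.card ↥A ∧
        Cfsg.IsElementaryAbelian p B ∧ p ^ 2 ≤ Nat.card ↥B ∧ ∀ a ∈ A, ∀ b ∈ B, a * b = b * a) X Y := by
      refine ⟨hXea, hXcard, hYea, hYcard.le, ?_⟩
      intro a ha b hb
      exact Subgroup.mem_centralizer_iff.1 (hYC hb) a ha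
    have r2 : (fun A B : Subgroup P => Cfsg.IsElementaryAbelian p A ∧ p ^ 2 ≤ Nat.card ↥A ∧
        Cfsg.IsElementaryAbelian p B ∧ p ^ 2 ≤ Nat.card ↥B ∧ ∀ a ∈ A, ∀ b ∈ B, a * b = b * a) Y Y₁ := by
      refine ⟨hYea, hYcard.le, hY₁ea, hY₁card, ?_⟩
      intro a ha b hb
      exact hYcm a ha b hb.1
    have r3 : (fun A B : Subgroup P => Cfsg.IsElementaryAbelian p A ∧ p ^ 2 ≤ Nat.card ↥A ∧
        Cfsg.IsElementaryAbelian p B ∧ p ^ 2 ≤ Nat.card ↥B ∧ ∀ a ∈ A, ∀ b ∈ B, a * b = b * a) Y₁ U := by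
      refine ⟨hY₁ea, hY₁card, hUea, hUcard.ge, ?_⟩
      intro a ha b hb
      exact (Subgroup.mem_centralizer_iff.1 ha.2 b hb).symm
    exact Relation.ReflTransGen.head r1 (Relation.ReflTransGen.head r2 (Relation.ReflTransGen.single r3))

end Cfsg.Agent.S1337
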