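import Mathlib
import Cfsg.Statements.S0263

set_option autoImplicit false
open Cfsg

namespace Cfsg.Agent.S0263

open Matrix

/-- A Sylow p-subgroup of GL_n(q), p the characteristic, has order q^(n(n-1)/2). -/
theorem result {F : Type*} [Field F] [Fintype F] {q : ℕ} (hF : Fintype.card F = q) (p : ℕ) [Fact p.Prime] [CharP F p] (n : ℕ) (P : Sylow p (Matrix.GeneralLinearGroup (Fin n) F)) : Nat.card P = q ^ (n * (n - 1) / 2) := by
  classical
  have hp : p.Prime := Fact.out
  obtain ⟨f, -, hqf⟩ := FiniteField.card F p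
  rw [hF] at hqf
  have hq1 : 1 < q := by rw [← hF]; exact Fintype.one_lt_card
  have hcard := Matrix.card_GL_field (𝔽 := F) (n := n)
  rw [hF] at hcard
  -- factor the product
  have hfac : ∀ i : Fin n, q ^ n - q ^ (i : ℕ) = q ^ (i : ℕ) * (q ^ (n - (i : ℕ)) - 1) := by
    intro i
    have hi : (i : ℕ) ≤ n := i.2.le
    rw [Nat.mul_sub, mul_one, ← pow_add, Nat.add_sub_cancel' hi]
  have hprod : ∏ i : Fin n, (q ^ n - q ^ (i : ℕ)) =
      q ^ (n * (n - 1) / 2) * ∏ i : Fin n, (q ^ (n - (i : ℕ)) - 1) := by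
    simp only [hfac]
    rw [Finset.prod_mul_distrib, Finset.prod_pow_eq_pow_sum]
    congr 2
    rw [← Finset.sum_range_id, Finset.sum_range]
  -- the second factor is prime to p
  have hcop : ¬ p ∣ ∏ i : Fin n, (q ^ (n - (i : ℕ)) - 1) := by
    rw [Prime.dvd_finset_prod_iff hp.prime]
    rintro ⟨i, -, hi⟩
    have hpos : 0 < n - (i : ℕ) := Nat.sub_pos_of_lt i.2
    have hpq : p ∣ q ^ (n - (i : ℕ)) := by
      rw [hqf, ← pow_mul]
      exact dvd_pow_self p (Nat.mul_ne_zero f.ne_zero hpos.ne')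
    have h1 : 1 ≤ q ^ (n - (i : ℕ)) := Nat.one_le_pow _ _ (by omega)
    have := (Nat.dvd_sub_iff_right h1 hpq).mp hi
    exact hp.one_lt.ne' (Nat.dvd_one.mp this)
  have hne : (∏ i : Fin n, (q ^ (n - (i : ℕ)) - 1)) ≠ 0 := by
    intro h0
    apply hcop
    rw [h0]
    exact dvd_zero p
  rw [Sylow.card_eq_multiplicity, hcard, hprod]
  rw [Nat.factorization_mul (pow_ne_zero _ (by omega)) hne]
  simp only [Finsupp.coe_add, Pi.add_apply]
  rw [Nat.factorization_eq_zero_of_not_dvd hcop, add_zero, hqf, ← pow_mul,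
    Nat.Prime.factorization_pow hp]
  simp

end Cfsg.Agent.S0263
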