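import Mathlib
import Cfsg.Statements.S0120
import Cfsg.Agent.Lib.Helper10.OmegaLemma

set_option autoImplicit false
open Cfsg

namespace Cfsg.Agent.S0120

/-- For odd p, a p'-automorphism of a p-group acting trivially on the elements of order dividing p is trivial. -/
theorem result {G : Type*} [Group G] [Finite G] {p : ℕ} [Fact p.Prime] (hp : p ≠ 2) (hG : IsPGroup p G) (a : MulAut G) (ha : Nat.Coprime (orderOf a) p) (h : ∀ x : G, x ^ p = 1 → a x = x) : a = 1 := by
  -- work in the holomorph
  let S := G ⋊[MonoidHom.id (MulAut G)] MulAut G
  haveI : Finite (MulAut G) := Finite.of_injective (fun f : MulAut G => (f : G → G))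
    (fun f g hfg => MulEquiv.ext (congrFun hfg))
  haveI : Finite S := Finite.of_equiv _ SemidirectProduct.equivProd.symm
  let P : Subgroup S := (SemidirectProduct.inl : G →* S).range
  let a' : S := SemidirectProduct.inr a
  have hconj : ∀ y : G, a' * SemidirectProduct.inl y * a'⁻¹ = SemidirectProduct.inl (a y) := by
    intro y
    have := SemidirectProduct.inl_aut (φ := MonoidHom.id (MulAut G)) a y
    rw [map_inv] at this
    exact this.symm
  have hP : IsPGroup p P := by
    have e : G ≃* P := MonoidHom.ofInjective SemidirectProduct.inl_injective
    exact hG.of_equiv e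
  have hord : orderOf a' = orderOf a := orderOf_injective _ SemidirectProduct.inr_injective a
  have haN : a' ∈ Subgroup.normalizer (P : Set S) := by
    haveI : P.Normal := by
      show ((SemidirectProduct.inl : G →* S).range).Normal
      rw [SemidirectProduct.range_inl_eq_ker_rightHom]
      infer_instance
    rw [Subgroup.normalizer_eq_top]
    exact Subgroup.mem_top _
  have key := Cfsg.Agent.Helper10.mem_centralizer_of_omega P hP a' (by rw [hord]; exact ha) haN
    (by
      rintro _ ⟨y, rfl⟩ hx
      rcases hx with hx | ⟨h2, -⟩
      · have hy : y ^ p = 1 := by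
          apply SemidirectProduct.inl_injective (φ := MonoidHom.id (MulAut G))
          rw [map_pow, map_one]; exact hx
        have h1 := hconj y
        rw [h y hy] at h1
        calc a' * SemidirectProduct.inl y = (a' * SemidirectProduct.inl y * a'⁻¹) * a' := (inv_mul_cancel_right _ _).symm
          _ = SemidirectProduct.inl y * a' := by rw [h1]
      · exact absurd h2 hp)
  ext y
  show a y = y
  have h1 := Subgroup.mem_centralizer_iff.mp key (SemidirectProduct.inl y) ⟨y, rfl⟩
  have h2 := hconj y
  apply SemidirectProduct.inl_injective (φ := MonoidHom.id (MulAut G))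
  rw [← h2, ← h1]
  exact mul_inv_cancel_right _ _

end Cfsg.Agent.S0120
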