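import Mathlib
import Cfsg.Statements.S0121

set_option autoImplicit false
open Cfsg

namespace Cfsg.Agent.S0121

/-- A p'-automorphism of a p-group acting trivially on a critical subgroup is trivial. -/
theorem result {G : Type*} [Group G] [Finite G] {p : ℕ} [Fact p.Prime] (hG : IsPGroup p G) (H : Subgroup G) (hH : H.Characteristic) (h1 : (frattini H).map H.subtype ≤ Subgroup.centralizer (H : Set G)) (h2 : ⁅H, (⊤ : Subgroup G)⁆ ≤ H ⊓ Subgroup.centralizer (H : Set G)) (h3 : Subgroup.centralizer (H : Set G) ≤ H) (a : MulAut G) (ha : Nat.Coprime (orderOf a) p) (h : ∀ x ∈ H, a x = x) : a = 1 := by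
  have hHn : H.Normal := inferInstance
  ext g
  show a g = g
  set c : G := a g * g⁻¹ with hc
  have hcC : c ∈ Subgroup.centralizer (H : Set G) := by
    rw [Subgroup.mem_centralizer_iff]
    intro x hx
    have hx' : g⁻¹ * x * g ∈ H := by
      have := hHn.conj_mem x hx g⁻¹
      simpa using this
    have e1 := h _ hx'
    rw [map_mul, map_mul, map_inv, h x hx] at e1
    -- e1 : (a g)⁻¹ * x * a g = g⁻¹ * x * g
    have e2 : x * a g = a g * (g⁻¹ * x * g) := by
      rw [← e1]; group
    rw [hc]
    calc x * (a g * g⁻¹) = (x * a g) * g⁻¹ := by group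
      _ = a g * (g⁻¹ * x * g) * g⁻¹ := by rw [e2]
      _ = a g * g⁻¹ * x := by group
  have hcH : c ∈ H := h3 hcC
  have hac : a c = c := h c hcH
  have hag : a g = c * g := by rw [hc]; group
  have hpow : ∀ n : ℕ, (a ^ n) g = c ^ n * g := by
    intro n
    induction n with
    | zero => simp
    | succ n ih =>
      rw [pow_succ', MulAut.mul_apply, ih, map_mul, map_pow, hac, hag, pow_succ]
      group
  have h4 := hpow (orderOf a)
  rw [pow_orderOf_eq_one, MulAut.one_apply] at h4
  have h5 : c ^ orderOf a = 1 := by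
    have : c ^ orderOf a * g = 1 * g := by rw [← h4, one_mul]
    exact mul_right_cancel this
  have h6 : orderOf c ∣ orderOf a := orderOf_dvd_of_pow_eq_one h5
  obtain ⟨k, hk⟩ := hG c
  have h7 : orderOf c ∣ p ^ k := orderOf_dvd_of_pow_eq_one hk
  have h8 : orderOf c = 1 := Nat.eq_one_of_dvd_coprimes (Nat.Coprime.pow_right k ha) h6 h7
  have h9 : c = 1 := orderOf_eq_one_iff.mp h8
  rw [hag, h9, one_mul]

end Cfsg.Agent.S0121
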