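import Mathlib
import Cfsg.Statements.S3771
import Cfsg.Agent.Lib.Helper19.PGroupBasic

set_option autoImplicit false
open Cfsg

namespace Cfsg.Agent.S3771

/-- Let p be a prime and R a finite p-group of p-rank at most 2 (no elementary abelian subgroup of order p³) in which every element has order dividing p. Then R has order at most p³. -/
theorem result {R : Type*} [Group R] [Finite R] {p : ℕ} [Fact p.Prime] (hR : IsPGroup p R) (hrank : Cfsg.PRankLE p 2 R) (hexp : ∀ x : R, x ^ p = 1) : Nat.card R ≤ p ^ 3 := by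
  have hp : p.Prime := Fact.out
  have hab : ∀ A : Subgroup R, (∀ a ∈ A, ∀ b ∈ A, a * b = b * a) → Nat.card A ≤ p ^ 2 :=
    fun A h => hrank A (isMulCommutative_iff_of_setLike.mpr h) (fun a _ => hexp a)
  by_contra hcon
  push Not at hcon
  obtain ⟨n, hn⟩ := hR.exists_card_eq
  have hn4 : 4 ≤ n := by
    by_contra h
    have h3 : n ≤ 3 := by omega
    have := Nat.pow_le_pow_right hp.pos h3
    rw [← hn] at this
    omega
  have hcard4 : p ^ 4 ≤ Nat.card R := by
    rw [hn]
    exact Nat.pow_le_pow_right hp.pos hn4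
  -- the centre
  have hZc : ∀ a ∈ Subgroup.center R, ∀ b ∈ Subgroup.center R, a * b = b * a :=
    fun a _ b hb => Subgroup.mem_center_iff.mp hb a
  have hZtop : Subgroup.center R ≠ ⊤ := by
    intro h
    have := hab _ hZc
    rw [h, Subgroup.card_top] at this
    have h2 : p ^ 2 < p ^ 4 := Nat.pow_lt_pow_right hp.one_lt (by norm_num)
    omega
  have hnt : Nontrivial (R ⧸ Subgroup.center R) := by
    rw [← Finite.one_lt_card_iff_nontrivial, ← Subgroup.index_eq_card]
    have h1 : (Subgroup.center R).index ≠ 1 := fun h => hZtop (Subgroup.index_eq_one.mp h)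
    have h2 : (Subgroup.center R).index ≠ 0 := Subgroup.index_ne_zero_of_finite
    omega
  have hcn := IsPGroup.center_nontrivial (hR.to_quotient (Subgroup.center R))
  obtain ⟨⟨t, htc⟩, ht1⟩ := exists_ne (1 : ↥(Subgroup.center (R ⧸ Subgroup.center R)))
  obtain ⟨x, rfl⟩ := QuotientGroup.mk_surjective t
  have hxZ : x ∉ Subgroup.center R := by
    intro h
    apply ht1
    apply Subtype.ext
    exact (QuotientGroup.eq_one_iff x).mpr h
  have hall : ∀ g : R, g * x * g⁻¹ * x⁻¹ ∈ Subgroup.center R := by
    intro g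
    rw [← QuotientGroup.eq_one_iff]
    have h' : (g : R ⧸ Subgroup.center R) * (x : R ⧸ Subgroup.center R) =
        (x : R ⧸ Subgroup.center R) * (g : R ⧸ Subgroup.center R) :=
      Subgroup.mem_center_iff.mp htc (g : R ⧸ Subgroup.center R)
    simp only [QuotientGroup.mk_mul, QuotientGroup.mk_inv]
    rw [h']
    group
  -- B = Z ⊔ ⟨x⟩
  have hBc := Cfsg.Agent.Helper19.commute_sup_zpowers (Subgroup.center R) hZc x
    (fun a ha => (Subgroup.mem_center_iff.mp ha x).symm)
  have hxB : x ∈ Subgroup.center R ⊔ Subgroup.zpowers x :=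
    (le_sup_right : Subgroup.zpowers x ≤ _) (Subgroup.mem_zpowers x)
  have hZB : Subgroup.center R < Subgroup.center R ⊔ Subgroup.zpowers x := by
    apply lt_of_le_of_ne le_sup_left
    intro h
    apply hxZ
    rw [h]
    exact hxB
  have hBcard := hab _ hBc
  have hRnt : Nontrivial R := by
    rw [← Finite.one_lt_card_iff_nontrivial]
    have : 1 < p ^ 4 := Nat.one_lt_pow (by norm_num) hp.one_lt
    omega
  have hZbot : (⊥ : Subgroup R) < Subgroup.center R := IsPGroup.bot_lt_center hR
  have h1 := Cfsg.Agent.Helper19.mul_card_le_of_lt hR hZbot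
  have h2 := Cfsg.Agent.Helper19.mul_card_le_of_lt hR hZB
  rw [Subgroup.card_bot, mul_one] at h1
  have hZcard : Nat.card (Subgroup.center R) = p := by
    have : p * Nat.card (Subgroup.center R) ≤ p * p := by
      calc p * Nat.card (Subgroup.center R) ≤ _ := h2
        _ ≤ p ^ 2 := hBcard
        _ = p * p := pow_two p
    have := Nat.le_of_mul_le_mul_left this hp.pos
    omega
  -- the centraliser of x
  obtain ⟨f, hfker⟩ : ∃ f : R →* ↥(Subgroup.center R), ∀ g, g ∈ f.ker ↔ g * x = x * g :=
    ⟨Cfsg.Agent.Helper19.commHom x (Subgroup.center R) le_rfl hall,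
      Cfsg.Agent.Helper19.mem_commHom_ker x _ le_rfl hall⟩
  have hCi : f.ker.index ∣ p := by
    rw [Subgroup.index_ker, ← hZcard]
    exact Subgroup.card_subgroup_dvd_card _
  have hCcard : p ^ 3 ≤ Nat.card f.ker := by
    have h3 := Subgroup.card_mul_index f.ker
    have h4 : f.ker.index ≤ p := Nat.le_of_dvd hp.pos hCi
    have h5 : p ^ 3 * p ≤ Nat.card f.ker * p := by
      calc p ^ 3 * p = p ^ 4 := by ring
        _ ≤ Nat.card R := hcard4
        _ = Nat.card f.ker * f.ker.index := h3.symm
        _ ≤ Nat.card f.ker * p := Nat.mul_le_mul_left _ h4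
    exact Nat.le_of_mul_le_mul_right h5 hp.pos
  have hBC : Subgroup.center R ⊔ Subgroup.zpowers x ≤ f.ker := by
    apply sup_le
    · intro z hz
      exact (hfker z).mpr (Subgroup.mem_center_iff.mp hz x).symm
    · rw [Subgroup.zpowers_le]
      exact (hfker x).mpr rfl
  obtain ⟨g, hgC, hgB⟩ : ∃ g ∈ f.ker, g ∉ Subgroup.center R ⊔ Subgroup.zpowers x := by
    by_contra h
    push Not at h
    have := Subgroup.card_le_of_le (show f.ker ≤ Subgroup.center R ⊔ Subgroup.zpowers x from h)
    have h2 : p ^ 2 < p ^ 3 := Nat.pow_lt_pow_right hp.one_lt (by norm_num)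
    omega
  -- B' = B ⊔ ⟨g⟩ is abelian of order at least p³
  have hgcomm : ∀ a ∈ Subgroup.center R ⊔ Subgroup.zpowers x, a * g = g * a := by
    have hle : Subgroup.center R ⊔ Subgroup.zpowers x ≤ Subgroup.centralizer ({g} : Set R) := by
      apply sup_le (Subgroup.center_le_centralizer _)
      rw [Subgroup.zpowers_le, Subgroup.mem_centralizer_iff]
      intro d hd
      rw [Set.mem_singleton_iff] at hd
      rw [hd]
      exact (hfker g).mp hgC
    intro a ha
    have := hle ha
    rw [Subgroup.mem_centralizer_iff] at this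
    exact (this g rfl).symm
  have hB'c := Cfsg.Agent.Helper19.commute_sup_zpowers _ hBc g hgcomm
  have hBB' : Subgroup.center R ⊔ Subgroup.zpowers x <
      Subgroup.center R ⊔ Subgroup.zpowers x ⊔ Subgroup.zpowers g := by
    apply lt_of_le_of_ne le_sup_left
    intro h
    apply hgB
    rw [h]
    exact (le_sup_right : Subgroup.zpowers g ≤ _) (Subgroup.mem_zpowers g)
  have h3 := Cfsg.Agent.Helper19.mul_card_le_of_lt hR hBB'
  have hB'card := hab _ hB'c
  have h4 : p * (p * p) ≤ p ^ 2 := by
    calc p * (p * p) = p * (p * Nat.card (Subgroup.center R)) := by rw [hZcard]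
      _ ≤ p * Nat.card ↥(Subgroup.center R ⊔ Subgroup.zpowers x) := Nat.mul_le_mul_left _ h2
      _ ≤ _ := h3
      _ ≤ p ^ 2 := hB'card
  have h5 : p ^ 2 < p ^ 3 := Nat.pow_lt_pow_right hp.one_lt (by norm_num)
  have h6 : p * (p * p) = p ^ 3 := by ring
  omega

end Cfsg.Agent.S3771
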