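import Mathlib
import Cfsg.Agent.S0120
import Cfsg.Agent.S0121
import Cfsg.Agent.Lib.Helper1.Critical
import Cfsg.Agent.Lib.Helper1.RankTwoOmega
import Cfsg.Agent.Lib.Helper21.PGroupFrattini
import Cfsg.Agent.Lib.Helper22.ClassTwo
import Cfsg.Statements.S0640
-- import your own Cfsg.Agent.* helpers here

set_option autoImplicit false
open Cfsg

namespace Cfsg.Agent.S0640

open Subgroup
open scoped commutatorElement

section Count

variable {R : Type*} [Group R]

/-- The subgroup of elements of `U` fixed by the automorphism `a`. -/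
def fixedSub (a : MulAut R) (U : Subgroup R) : Subgroup R where
  carrier := {x | x ∈ U ∧ a x = x}
  one_mem' := ⟨one_mem U, map_one a⟩
  mul_mem' := fun {x y} hx hy => ⟨mul_mem hx.1 hy.1, by rw [map_mul, hx.2, hy.2]⟩
  inv_mem' := fun {x} hx => ⟨inv_mem hx.1, by rw [map_inv, hx.2]⟩

theorem mem_fixedSub {a : MulAut R} {U : Subgroup R} {x : R} :
    x ∈ fixedSub a U ↔ x ∈ U ∧ a x = x := Iff.rfl

theorem fixedSub_le (a : MulAut R) (U : Subgroup R) : fixedSub a U ≤ U := fun _ hx => hx.1

/-- Orbit counting for an automorphism of prime order `q` on an invariant finite subgroup. -/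
theorem card_modEq_card_fixedSub (a : MulAut R) (q : ℕ) [Fact q.Prime] (hq : a ^ q = 1)
    (U : Subgroup R) [Finite U] (hU : ∀ x ∈ U, a x ∈ U) :
    Nat.card U ≡ Nat.card (fixedSub a U) [MOD q] := by
  classical
  haveI : Fintype U := Fintype.ofFinite U
  let f : Function.End U := fun x => ⟨a x, hU x x.2⟩
  have hpow : ∀ (n : ℕ) (x : U), (((f ^ n) x : U) : R) = (a ^ n) x := by
    intro n
    induction n with
    | zero => intro x; rfl
    | succ n ih =>
      intro x
      rw [pow_succ, pow_succ, MulAut.mul_apply]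
      show (((f ^ n) (f x) : U) : R) = (a ^ n) (a x)
      rw [ih]
  have hf : f ^ q ^ 1 = 1 := by
    rw [pow_one]
    funext x
    apply Subtype.ext
    rw [hpow, hq]
    rfl
  have h := Equiv.Perm.card_fixedPoints_modEq hf
  rw [← Nat.card_eq_fintype_card, ← Nat.card_eq_fintype_card] at h
  have he : Nat.card (Function.fixedPoints f) = Nat.card (fixedSub a U) := by
    apply Nat.card_congr
    refine ⟨fun x => ⟨x.1.1, x.1.2, congrArg Subtype.val x.2⟩,
      fun y => ⟨⟨y.1, y.2.1⟩, Subtype.ext y.2.2⟩, fun x => rfl, fun y => rfl⟩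
  rw [he] at h
  exact h

/-- Arithmetic: the conclusion from the orbit count. -/
theorem dvd_sq_sub_one {p q u f : ℕ} (hp : p.Prime) (hq : q.Prime) (hqp : q ≠ p)
    (hfu : f < u) (huf : u ≤ f + 2) (h : p ^ u ≡ p ^ f [MOD q]) : q ∣ p ^ 2 - 1 := by
  have hcop : Nat.Coprime q p := (Nat.coprime_primes hq hp).mpr hqp
  have h1 : q ∣ p ^ u - p ^ f := (Nat.modEq_iff_dvd' (Nat.pow_le_pow_right hp.pos hfu.le)).mp h.symm
  obtain ⟨d, rfl⟩ : ∃ d, u = f + d := ⟨u - f, by omega⟩
  have h2 : p ^ (f + d) - p ^ f = p ^ f * (p ^ d - 1) := by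
    rw [pow_add, Nat.mul_sub, mul_one]
  rw [h2] at h1
  have h3 : q ∣ p ^ d - 1 := (Nat.Coprime.dvd_mul_left (hcop.pow_right f)).mp h1
  have hd : d = 1 ∨ d = 2 := by omega
  rcases hd with rfl | rfl
  · rw [pow_one] at h3
    have h4 : p ^ 2 - 1 = (p - 1) * (p + 1) := by
      have := hp.one_lt
      zify [Nat.one_le_pow 2 p hp.pos, hp.one_lt.le]
      ring
    rw [h4]
    exact h3.mul_right _
  · exact h3

theorem lt_of_dvd_sq_sub_one {p q : ℕ} (hp : p.Prime) (hp2 : p ≠ 2) (hq : q.Prime) (hqp : q ≠ p)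
    (h : q ∣ p ^ 2 - 1) : q < p := by
  have h4 : p ^ 2 - 1 = (p - 1) * (p + 1) := by
    have := hp.one_lt
    zify [Nat.one_le_pow 2 p hp.pos, hp.one_lt.le]
    ring
  rw [h4] at h
  rcases (Nat.Prime.dvd_mul hq).mp h with h1 | h1
  · have := Nat.le_of_dvd (by have := hp.two_le; omega) h1
    omega
  · have h5 := Nat.le_of_dvd (by omega) h1
    have hodd : p % 2 = 1 := hp.eq_two_or_odd.resolve_left hp2
    have hne : q ≠ p + 1 := by
      intro he
      rw [he] at hq
      have h2 : 2 ∣ p + 1 := by omega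
      have := (Nat.prime_dvd_prime_iff_eq Nat.prime_two hq).mp h2
      have := hp.two_le
      omega
    omega

end Count

section Aut

variable {R : Type*} [Group R]

/-- Restriction of an automorphism to a subgroup invariant under all automorphisms. -/
def restrictAut (a : MulAut R) (C : Subgroup R) (hC : ∀ b : MulAut R, ∀ x ∈ C, b x ∈ C) :
    MulAut C where
  toFun x := ⟨a x, hC a x x.2⟩
  invFun x := ⟨a⁻¹ x, hC a⁻¹ x x.2⟩
  left_inv x := Subtype.ext (by simp)
  right_inv x := Subtype.ext (by simp)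
  map_mul' x y := Subtype.ext (by simp)

theorem restrictAut_apply (a : MulAut R) (C : Subgroup R)
    (hC : ∀ b : MulAut R, ∀ x ∈ C, b x ∈ C) (x : C) :
    ((restrictAut a C hC x : C) : R) = a x := rfl

theorem restrictAut_pow (a : MulAut R) (C : Subgroup R)
    (hC : ∀ b : MulAut R, ∀ x ∈ C, b x ∈ C) (n : ℕ) (x : C) :
    ((((restrictAut a C hC) ^ n) x : C) : R) = (a ^ n) x := by
  induction n generalizing x with
  | zero => rfl
  | succ n ih =>
    rw [pow_succ, pow_succ, MulAut.mul_apply, MulAut.mul_apply, ih, restrictAut_apply]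

variable [Finite R] {p : ℕ} [Fact p.Prime]

theorem main (hp2 : p ≠ 2) (hR : IsPGroup p R) (hrk : Cfsg.PRankLE p 2 R) (q : ℕ) (hq : q.Prime)
    (hqp : q ≠ p) (a : MulAut R) (ha : orderOf a = q) : q ∣ p ^ 2 - 1 := by
  have hp : p.Prime := Fact.out
  haveI : Fact q.Prime := ⟨hq⟩
  have haq : a ^ q = 1 := by rw [← ha]; exact pow_orderOf_eq_one a
  have ha1 : a ≠ 1 := by
    intro h
    rw [h, orderOf_one] at ha
    exact hq.one_lt.ne ha
  have hcopq : Nat.Coprime q p := (Nat.coprime_primes hq hp).mpr hqp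
  have hcop : Nat.Coprime (orderOf a) p := by rw [ha]; exact hcopq
  have hrk' : ∀ E : Subgroup R, Cfsg.IsElementaryAbelian p E → Nat.card E ≤ p ^ 2 :=
    fun E hE => hrk E hE.1 hE.2
  obtain ⟨C, hCchar, h1, h2, h3⟩ := Cfsg.Agent.Helper1.exists_critical hR
  have hCinv : ∀ b : MulAut R, ∀ x ∈ C, b x ∈ C := by
    intro b x hx
    have := (Subgroup.characteristic_iff_map_le.mp hCchar) b
    exact this ⟨x, hx, rfl⟩
  -- `a` moves some element of `C`
  have hmoveC : ∃ x ∈ C, a x ≠ x := by
    by_contra hcon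
    apply ha1
    apply Cfsg.Agent.S0121.result hR C hCchar h1 h2 h3 a hcop
    intro x hx
    by_contra hne
    exact hcon ⟨x, hx, hne⟩
  -- `a` moves some element of order dividing `p` of `C`
  set aC : MulAut C := restrictAut a C hCinv with haC
  have haC1 : aC ≠ 1 := by
    intro h
    obtain ⟨x, hx, hxa⟩ := hmoveC
    apply hxa
    have h4 : aC ⟨x, hx⟩ = ⟨x, hx⟩ := by rw [h]; rfl
    exact congrArg Subtype.val h4
  have haCq : aC ^ q = 1 := by
    ext x
    rw [restrictAut_pow, haq]
    rfl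
  have hcopC : Nat.Coprime (orderOf aC) p :=
    Nat.Coprime.coprime_dvd_left (orderOf_dvd_of_pow_eq_one haCq) hcopq
  have hmove : ∃ x ∈ C, x ^ p = 1 ∧ a x ≠ x := by
    by_contra hcon
    apply haC1
    apply Cfsg.Agent.S0120.result hp2 (hR.to_subgroup C) aC hcopC
    intro x hx
    by_contra hne
    apply hcon
    refine ⟨x.1, x.2, ?_, fun h => hne (Subtype.ext h)⟩
    have := congrArg Subtype.val hx
    simpa using this
  -- the subgroup `T = Ω₁(C)`
  set T : Subgroup R := closure {x : R | x ∈ C ∧ x ^ p = 1} with hT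
  have hTC : T ≤ C := (closure_le _).mpr (fun x hx => hx.1)
  have hTinv : ∀ b : MulAut R, ∀ x ∈ T, b x ∈ T := by
    intro b x hx
    induction hx using closure_induction with
    | mem y hy => exact subset_closure ⟨hCinv b y hy.1, by rw [← map_pow, hy.2, map_one]⟩
    | one => rw [map_one]; exact one_mem _
    | mul y z _ _ hy hz => rw [map_mul]; exact mul_mem hy hz
    | inv y _ hy => rw [map_inv]; exact inv_mem hy
  have hcomm : ∀ u v : C, ⁅u, v⁆ ∈ center C := by
    intro u v
    have hΦ : ⁅u, v⁆ ∈ frattini C := by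
      have := Cfsg.Agent.Helper21.commutator_mem_frattini_of_isPGroup (hR.to_subgroup C) u v
      rwa [← commutatorElement_def] at this
    have hcen := h1 (mem_map_of_mem C.subtype hΦ)
    rw [mem_center_iff]
    intro g
    have := mem_centralizer_iff.mp hcen g g.2
    exact Subtype.ext this
  have hTexp : ∀ x ∈ T, x ^ p = 1 := by
    intro x hx
    have hxC : x ∈ C := hTC hx
    have hmap : (closure {y : C | y ^ p = 1}).map C.subtype = T := by
      rw [MonoidHom.map_closure, hT]
      congr 1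
      ext y
      constructor
      · rintro ⟨w, hw, rfl⟩
        refine ⟨w.2, ?_⟩
        have := congrArg Subtype.val hw
        simpa using this
      · rintro ⟨hyC, hyp⟩
        exact ⟨⟨y, hyC⟩, Subtype.ext (by simpa using hyp), rfl⟩
    have h4 : (⟨x, hxC⟩ : C) ∈ closure {y : C | y ^ p = 1} := by
      rw [← hmap] at hx
      obtain ⟨w, hw, hwx⟩ := hx
      have : w = ⟨x, hxC⟩ := Subtype.ext hwx
      rwa [← this]
    have h5 := Cfsg.Agent.Helper22.pow_prime_eq_one_of_mem_closure hp2 hcomm _ h4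
    have := congrArg Subtype.val h5
    simpa using this
  have hTcard : Nat.card T ≤ p ^ 3 := by
    apply Cfsg.Agent.Helper1.card_le_cube_of_exponent_of_rank (hR.to_subgroup T)
    · intro g
      exact Subtype.ext (by simpa using hTexp g g.2)
    · exact Cfsg.Agent.Helper1.rank_le_of_subgroup T hrk'
  obtain ⟨x₀, hx₀C, hx₀p, hx₀a⟩ := hmove
  have hx₀T : x₀ ∈ T := subset_closure ⟨hx₀C, hx₀p⟩
  have finish : ∀ U : Subgroup R, (∀ x ∈ U, a x ∈ U) → ∀ u f : ℕ, Nat.card U = p ^ u →
      Nat.card (fixedSub a U) = p ^ f → f < u → u ≤ f + 2 → q ∣ p ^ 2 - 1 := by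
    intro U hU u f hu hf hfu huf
    have := card_modEq_card_fixedSub a q haq U hU
    rw [hu, hf] at this
    exact dvd_sq_sub_one hp hq hqp hfu huf this
  have hpow : ∀ U : Subgroup R, ∃ u, Nat.card U = p ^ u :=
    fun U => IsPGroup.iff_card.mp (hR.to_subgroup U)
  have hcardlt : ∀ U V : Subgroup R, U ≤ V → U ≠ V → ∀ u v, Nat.card U = p ^ u →
      Nat.card V = p ^ v → u < v := by
    intro U V hUV hne u v hu hv
    by_contra hcon
    rw [not_lt] at hcon
    apply hne
    apply Subgroup.eq_of_le_of_card_ge hUV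
    rw [hu, hv]
    exact Nat.pow_le_pow_right hp.pos hcon
  have hlt : ∀ U : Subgroup R, (∃ x ∈ U, a x ≠ x) → ∀ u f, Nat.card U = p ^ u →
      Nat.card (fixedSub a U) = p ^ f → f < u := by
    rintro U ⟨x, hxU, hxa⟩ u f hu hf
    refine hcardlt _ _ (fixedSub_le a U) ?_ f u hf hu
    intro h
    have hx : x ∈ fixedSub a U := by rw [h]; exact hxU
    exact hxa hx.2
  obtain ⟨t, ht⟩ := hpow T
  obtain ⟨f, hf⟩ := hpow (fixedSub a T)
  have hft : f < t := hlt T ⟨x₀, hx₀T, hx₀a⟩ t f ht hf
  have ht3 : t ≤ 3 := by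
    rw [ht] at hTcard
    exact (Nat.pow_le_pow_iff_right hp.one_lt).mp hTcard
  by_cases hcase : t ≤ f + 2
  · exact finish T (hTinv a) t f ht hf hft hcase
  · have ht' : t = 3 := by omega
    have hf' : f = 0 := by omega
    set Z : Subgroup R := T ⊓ centralizer (T : Set R) with hZ
    have hZinv : ∀ x ∈ Z, a x ∈ Z := by
      intro x hx
      refine Subgroup.mem_inf.mpr ⟨hTinv a x hx.1, ?_⟩
      rw [mem_centralizer_iff]
      intro y hy
      have hy' : a⁻¹ y ∈ T := hTinv a⁻¹ y hy
      have h5 := mem_centralizer_iff.mp hx.2 (a⁻¹ y) hy'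
      have h6 := congrArg a h5
      rw [map_mul, map_mul] at h6
      simpa using h6
    have hfix : fixedSub a T = ⊥ := by
      rw [hf', pow_zero] at hf
      exact Subgroup.card_eq_one.mp hf
    have hZne : ∃ z ∈ Z, z ≠ 1 := by
      haveI : Nontrivial T := by
        rw [← Finite.one_lt_card_iff_nontrivial, ht, ht']
        exact Nat.one_lt_pow (by norm_num) hp.one_lt
      haveI : Nontrivial (center T) := (hR.to_subgroup T).center_nontrivial
      obtain ⟨z, hz⟩ := exists_ne (1 : center T)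
      refine ⟨((z : T) : R), Subgroup.mem_inf.mpr ⟨z.1.2, ?_⟩, ?_⟩
      · rw [mem_centralizer_iff]
        intro y hy
        have := mem_center_iff.mp z.2 ⟨y, hy⟩
        exact congrArg Subtype.val this
      · intro h
        apply hz
        exact Subtype.ext (Subtype.ext h)
    obtain ⟨z, hzZ, hz1⟩ := hZne
    have hza : a z ≠ z := by
      intro h
      apply hz1
      have hz : z ∈ fixedSub a T := ⟨hzZ.1, h⟩
      rw [hfix] at hz
      exact mem_bot.mp hz
    have hZT : Z ≠ T := by
      intro h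
      have hab : IsMulCommutative T := by
        refine ⟨⟨fun x y => Subtype.ext ?_⟩⟩
        have hx : (x : R) ∈ Z := by rw [h]; exact x.2
        exact (mem_centralizer_iff.mp hx.2 y y.2).symm
      have h7 := hrk T hab hTexp
      rw [ht, ht'] at h7
      have := Nat.pow_lt_pow_right hp.one_lt (show 2 < 3 by norm_num)
      omega
    obtain ⟨u, hu⟩ := hpow Z
    obtain ⟨f', hf'Z⟩ := hpow (fixedSub a Z)
    have hfu : f' < u := hlt Z ⟨z, hzZ, hza⟩ u f' hu hf'Z
    have hu2 : u < t := hcardlt Z T inf_le_left hZT u t hu ht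
    exact finish Z hZinv u f' hu hf'Z hfu (by omega)

end Aut

/-- For odd p, a prime q ≠ p dividing the order of the automorphism group of a p-group of rank at most 2 divides p² - 1 and is less than p. -/
theorem result {R : Type*} [Group R] [Finite R] {p : ℕ} [Fact p.Prime] (hp : p ≠ 2) (hR : IsPGroup p R) (hrk : Cfsg.PRankLE p 2 R) (q : ℕ) (hq : q.Prime) (hqp : q ≠ p) (hdvd : q ∣ Nat.card (MulAut R)) : q ∣ p ^ 2 - 1 ∧ q < p := by
  haveI : Fact q.Prime := ⟨hq⟩
  obtain ⟨a, ha⟩ := exists_prime_orderOf_dvd_card' q hdvd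
  have h := main hp hR hrk q hq hqp a ha
  exact ⟨h, lt_of_dvd_sq_sub_one Fact.out hp hq hqp h⟩

end Cfsg.Agent.S0640
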