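import Mathlib
import Cfsg.Statements.S1451
import Cfsg.Agent.Lib.Helper8.NarrowFit
import Cfsg.Agent.Lib.Helper10.PCompCover
import Cfsg.Agent.Lib.Helper23.PSolvable

set_option autoImplicit false
set_option linter.style.haveILetI false
open Cfsg
open scoped commutatorElement Pointwise

namespace Cfsg.Agent.S1451

open Cfsg.Agent.Helper8

universe u

section Aux

variable {G : Type u} [Group G] [Finite G]

theorem pRank_pCore (hr : Cfsg.RankLE 2 G ∨ Cfsg.RankLE 2 (Cfsg.fittingSubgroup G)) (q : ℕ)
    [hq : Fact q.Prime] : PRankLE q 2 ↥(pCore q G) := by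
  rcases hr with h | h
  · exact RankTwo.pRankLE_of_injective (pCore q G).subtype Subtype.val_injective (h q hq.out)
  · exact RankTwo.pRankLE_of_injective
      (Subgroup.inclusion (Helper7.pCore_le_fittingSubgroup (H := G) q))
      (Subgroup.inclusion_injective _) (h q hq.out)

theorem normal_of_commutator_le {N : Subgroup G} (h : commutator G ≤ N) : N.Normal := by
  constructor
  intro n hn g
  have h1 : g * n * g⁻¹ * n⁻¹ ∈ commutator G := by
    have := Subgroup.commutator_mem_commutator (Subgroup.mem_top g) (Subgroup.mem_top n)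
    rwa [commutatorElement_def] at this
  have h2 : g * n * g⁻¹ = (g * n * g⁻¹ * n⁻¹) * n := by group
  rw [h2]
  exact N.mul_mem (h h1) hn

/-- an `s`-element centralizes `O_q(G)` of rank at most two when `q < s` -/
theorem mem_centralizer_pCore (hodd : Odd (Nat.card G)) {s q : ℕ} [Fact s.Prime] [Fact q.Prime]
    (hqs : q < s) (hrk : PRankLE q 2 ↥(pCore q G)) (x : G) (hx : ∃ j : ℕ, x ^ s ^ j = 1) :
    x ∈ Subgroup.centralizer (pCore q G : Set G) := by
  have hsp : s.Prime := Fact.out
  have hqp : q.Prime := Fact.out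
  haveI hPn : (pCore q G).Normal := Helper7.pCore_normal q
  have hPp : IsPGroup q (pCore q G) := Helper7.pCore_isPGroup q
  by_cases hq2 : q = 2
  · have hbot : pCore q G = ⊥ := by
      rw [← Subgroup.card_eq_one]
      obtain ⟨k, hk⟩ := hPp.exists_card_eq
      have h1 : Nat.card (pCore q G) ∣ Nat.card G := Subgroup.card_subgroup_dvd_card _
      rw [hk, hq2] at h1 ⊢
      rcases Nat.eq_zero_or_pos k with h0 | h0
      · rw [h0, pow_zero]
      · exfalso
        have h2 : 2 ∣ Nat.card G := (dvd_pow_self 2 h0.ne').trans h1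
        exact (Nat.not_even_iff_odd.mpr hodd) (even_iff_two_dvd.mpr h2)
    rw [hbot, Subgroup.mem_centralizer_iff]
    intro y hy
    rw [Subgroup.coe_bot, Set.mem_singleton_iff] at hy
    rw [hy, one_mul, mul_one]
  · set α : MulAut (pCore q G) := MulAut.conjNormal x with hα
    obtain ⟨j, hj⟩ := hx
    have h1 : orderOf α ∣ s ^ j :=
      (orderOf_map_dvd (MulAut.conjNormal (H := pCore q G)) x).trans (orderOf_dvd_of_pow_eq_one hj)
    obtain ⟨i, -, hi⟩ := (Nat.dvd_prime_pow hsp).mp h1
    have hα1 : α = 1 := by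
      rcases Nat.eq_zero_or_pos i with h0 | h0
      · rw [h0, pow_zero] at hi
        exact orderOf_eq_one_iff.mp hi
      · exfalso
        have h2 : s ∣ Nat.card (MulAut (pCore q G)) := by
          have h3 : s ∣ orderOf α := by rw [hi]; exact dvd_pow_self s h0.ne'
          exact h3.trans (orderOf_dvd_natCard α)
        have h4 := (Cfsg.Agent.S0640.result hq2 hPp hrk s hsp (by omega) h2).2
        omega
    rw [Subgroup.mem_centralizer_iff]
    intro y hy
    have h0 := DFunLike.congr_fun hα1 ⟨y, hy⟩
    have h1 : x * y * x⁻¹ = y := by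
      have := congrArg Subtype.val h0
      rwa [hα, MulAut.conjNormal_apply] at this
    calc y * x = (x * y * x⁻¹) * x := by rw [h1]
      _ = x * y := by group

end Aux

section PartB

variable {G : Type u} [Group G] [Finite G]

theorem partB (hGF : commutator G ≤ fittingSubgroup G) (q : ℕ) [Fact q.Prime] (S : Sylow q G)
    (T : Subgroup ↥(S : Subgroup G)) (hTc : T.Characteristic)
    (hT : T.map (S : Subgroup G).subtype ≤ ⁅(S : Subgroup G), (S : Subgroup G)⁆) :
    (T.map (S : Subgroup G).subtype).Normal := by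
  have hqp : q.Prime := Fact.out
  haveI := hTc
  set F := fittingSubgroup G with hF
  set N : Subgroup G := (S : Subgroup G) ⊔ F with hN
  haveI hNn : N.Normal := normal_of_commutator_le (hGF.trans le_sup_right)
  have hSN : (S : Subgroup G) ≤ N := le_sup_left
  -- Frattini argument
  have hfr := Sylow.normalizer_sup_eq_top (S.subtype hSN)
  have hmap : ((S.subtype hSN : Sylow q ↥N) : Subgroup ↥N).map N.subtype = (S : Subgroup G) := by
    rw [Sylow.coe_subtype, Subgroup.map_subgroupOf_eq_of_le hSN]
  rw [hmap] at hfr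
  set r : Nat.Primes := ⟨q, hqp⟩ with hr
  have hPS : pCore q G ≤ S := Helper23.PSolv.pCore_le_sylow S
  have htop : Subgroup.normalizer ((S : Subgroup G) : Set G) ⊔ NarrowFit.coFit (G := G) r = ⊤ := by
    rw [eq_top_iff, ← hfr]
    apply sup_le le_sup_left
    apply sup_le (Subgroup.le_normalizer.trans le_sup_left)
    rw [hF, NarrowFit.fitting_eq_sup r]
    apply sup_le
    · exact (hPS.trans Subgroup.le_normalizer).trans le_sup_left
    · exact le_sup_right
  -- `T ≤ O_q(G)`
  have hTP : T.map (S : Subgroup G).subtype ≤ pCore q G := by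
    intro x hx
    have hxS : x ∈ (S : Subgroup G) := by
      obtain ⟨y, _, rfl⟩ := hx
      exact y.2
    have hxF : x ∈ F := by
      apply hGF
      have := hT hx
      rw [commutator_def]
      exact Subgroup.commutator_mono le_top le_top this
    obtain ⟨k, hk⟩ := S.isPGroup' ⟨x, hxS⟩
    apply Helper7.mem_pCore_of_mem_fittingSubgroup q hxF ⟨k, ?_⟩
    have := congrArg Subtype.val hk
    simpa using this
  rw [← Subgroup.normalizer_eq_top_iff, eq_top_iff, ← htop]
  apply sup_le
  · exact Helper10.normalizer_le_normalizer_map_of_characteristic (S : Subgroup G) T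
  · refine le_trans ?_ (Subgroup.centralizer_le_normalizer _)
    exact (NarrowFit.coFit_le_centralizer_pCore r).trans (Subgroup.centralizer_le hTP)

end PartB

section PartC

variable {G : Type u} [Group G] [Finite G]

theorem partC (hodd : Odd (Nat.card G)) (hGF : commutator G ≤ fittingSubgroup G)
    (hrk : ∀ (q : ℕ) [Fact q.Prime], PRankLE q 2 ↥(pCore q G)) (p : ℕ) :
    ∃ N : Subgroup G, N.Characteristic ∧ IsPiHall {q | q.Prime ∧ p < q} N := by
  set π : Set ℕ := {q | q.Prime ∧ p < q} with hπ
  set N := piCore π G with hN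
  haveI hNn : N.Normal := inferInstance
  refine ⟨N, Helper10.piCore_characteristic π, Helper10.card_piCore π, ?_⟩
  intro s hs hsπ hdvd
  haveI : Fact s.Prime := ⟨hs⟩
  obtain ⟨S⟩ : Nonempty (Sylow s G) := inferInstance
  suffices hSN : (S : Subgroup G) ≤ N by
    exact S.not_dvd_index (hdvd.trans (Subgroup.index_dvd_of_le hSN))
  set L : Subgroup G := (S : Subgroup G) ⊔ N with hL
  have hLcard : Helper10.IsPiNum π (Nat.card L) := by
    apply Helper10.IsPiNum.of_dvd (Helper22.card_sup_dvd_mul (S : Subgroup G) N)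
    apply Helper10.IsPiNum.mul _ (Helper10.card_piCore π)
    obtain ⟨k, hk⟩ := S.isPGroup'.exists_card_eq
    rw [hk]
    intro t ht htd
    have := (Nat.prime_dvd_prime_iff_eq ht hs).mp (ht.dvd_of_dvd_pow htd)
    rw [this]
    exact hsπ
  set A : Subgroup G := NarrowFit.fitPart G (fun q => p < q) with hA
  set Mc : Subgroup G := NarrowFit.fitPart G (fun q => ¬ p < q) with hMc
  have hAN : A ≤ N := NarrowFit.fitPart_le_piCore (fun q => p < q)
  have hAM : A ≤ Subgroup.centralizer (Mc : Set G) :=
    NarrowFit.fitPart_le_centralizer_fitPart _ _ (fun q h1 h2 => h2 h1)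
  have hMccard : Helper10.IsPiNum {q | q.Prime ∧ ¬ p < q} (Nat.card Mc) :=
    Helper10.IsPiNum.of_dvd
      (Subgroup.card_dvd_of_le (NarrowFit.fitPart_le_piCore (fun q => ¬ p < q)))
      (Helper10.card_piCore _)
  have hcop : (Nat.card L).Coprime (Nat.card Mc) := by
    apply Nat.coprime_of_dvd
    intro t ht h1 h2
    exact (hMccard t ht h2).2 (hLcard t ht h1).2
  have key : ∀ x ∈ (S : Subgroup G), ∀ g : G, g * x * g⁻¹ ∈ L := by
    intro x hx g
    have hxj : ∃ j : ℕ, x ^ s ^ j = 1 := by
      obtain ⟨j, hj⟩ := S.isPGroup' ⟨x, hx⟩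
      refine ⟨j, ?_⟩
      have := congrArg Subtype.val hj
      simpa using this
    have hy : ⁅g, x⁆ ∈ fittingSubgroup G :=
      hGF (Subgroup.commutator_mem_commutator (Subgroup.mem_top g) (Subgroup.mem_top x))
    rw [NarrowFit.fitting_eq_fitPart_sup (fun q => p < q), ← SetLike.mem_coe,
      Subgroup.mul_normal] at hy
    obtain ⟨a, ha, m, hm, ham⟩ := Set.mem_mul.mp hy
    have hma : m * a = a * m := (Subgroup.mem_centralizer_iff.mp (hAM ha)) m hm
    have hMx : Mc ≤ Subgroup.centralizer ({x} : Set G) := by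
      apply NarrowFit.fitPart_le_centralizer_singleton
      intro q hq
      haveI : Fact (q : ℕ).Prime := ⟨q.2⟩
      have hqs : (q : ℕ) < s := by
        have := hsπ.2
        omega
      exact mem_centralizer_pCore hodd hqs (hrk (q : ℕ)) x hxj
    have hmx : x * m = m * x := (Subgroup.mem_centralizer_iff.mp (hMx hm)) x rfl
    have hwL : a * x ∈ L := L.mul_mem (Subgroup.mem_sup_right (hAN ha)) (Subgroup.mem_sup_left hx)
    have hconj : g * x * g⁻¹ = m * (a * x) := by
      have h1 : g * x * g⁻¹ = ⁅g, x⁆ * x := by rw [commutatorElement_def]; group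
      rw [h1, ← ham, ← hma]
      group
    have hcomm : Commute m (a * x) := by
      show m * (a * x) = a * x * m
      rw [← mul_assoc, hma, mul_assoc, ← hmx, mul_assoc]
    have hxL : x ∈ L := Subgroup.mem_sup_left hx
    have hpowL : ∀ z ∈ L, z ^ Nat.card L = 1 := by
      intro z hz
      have : (⟨z, hz⟩ : L) ^ Nat.card L = 1 := pow_card_eq_one'
      exact congrArg Subtype.val this
    have h1 : (g * x * g⁻¹) ^ Nat.card L = 1 := by
      rw [conj_pow, hpowL x hxL]; group
    rw [hconj, hcomm.mul_pow, hpowL _ hwL, mul_one] at h1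
    have h2 : m ^ Nat.card Mc = 1 := by
      have : (⟨m, hm⟩ : Mc) ^ Nat.card Mc = 1 := pow_card_eq_one'
      exact congrArg Subtype.val this
    have h3 : orderOf m ∣ Nat.gcd (Nat.card L) (Nat.card Mc) :=
      Nat.dvd_gcd (orderOf_dvd_of_pow_eq_one h1) (orderOf_dvd_of_pow_eq_one h2)
    rw [hcop.gcd_eq_one, Nat.dvd_one, orderOf_eq_one_iff] at h3
    rw [hconj, h3, one_mul]
    exact hwL
  have hLn : L.Normal := by
    constructor
    intro n hn g
    rw [hL, ← SetLike.mem_coe, Subgroup.mul_normal] at hn
    obtain ⟨x, hx, a, ha, rfl⟩ := Set.mem_mul.mp hn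
    have : g * (x * a) * g⁻¹ = (g * x * g⁻¹) * (g * a * g⁻¹) := by group
    rw [this]
    exact L.mul_mem (key x hx g) (Subgroup.mem_sup_right (hNn.conj_mem a ha g))
  exact le_sup_left.trans (Helper10.le_piCore π hLn hLcard)

end PartC

/-- Let G be a solvable group of odd order such that G, or its Fitting subgroup, has no elementary abelian subgroup of order q ^ 3 for any prime q. Then G' is nilpotent; for every Sylow subgroup S of G, every characteristic subgroup T of S with T ≤ [S, S] is normal in G; and for every prime p, G has a characteristic subgroup that is a Hall subgroup for the set of primes greater than p. -/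
theorem result {G : Type*} [Group G] [Finite G] [Group.IsSolvable G] (hodd : Odd (Nat.card G)) (hr : Cfsg.RankLE 2 G ∨ Cfsg.RankLE 2 (Cfsg.fittingSubgroup G)) :
    Group.IsNilpotent ↥(commutator G) ∧
      (∀ (q : ℕ) [Fact q.Prime] (S : Sylow q G) (T : Subgroup ↥(S : Subgroup G)), T.Characteristic → T.map (S : Subgroup G).subtype ≤ ⁅(S : Subgroup G), (S : Subgroup G)⁆ →
        (T.map (S : Subgroup G).subtype).Normal) ∧
      ∀ p : ℕ, ∃ N : Subgroup G, N.Characteristic ∧ Cfsg.IsPiHall {q | q.Prime ∧ p < q} N := by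
  have hGF : commutator G ≤ fittingSubgroup G := by
    apply NarrowFit.commutator_le_fitting hodd
    intro q hq _
    haveI : Fact q.Prime := ⟨hq⟩
    exact Or.inl (pRank_pCore hr q)
  refine ⟨?_, ?_, ?_⟩
  · haveI : Group.IsNilpotent ↥(fittingSubgroup G) := Helper7.fittingSubgroup_isNilpotent
    apply Subgroup.isNilpotent_of_ker_le_center (Subgroup.inclusion hGF)
    rw [(MonoidHom.ker_eq_bot_iff _).mpr (Subgroup.inclusion_injective hGF)]
    exact bot_le
  · intro q _ S T hTc hT
    exact partB hGF q S T hTc hT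
  · intro p
    exact partC hodd hGF (fun q _ => pRank_pCore hr q) p

end Cfsg.Agent.S1451
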