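import Mathlib
import Cfsg.Statements.S1398
import Cfsg.Agent.Lib.Helper14.BGUniqK
import Cfsg.Agent.Lib.Helper7.CoprimeGen2

set_option autoImplicit false
open Cfsg

namespace Cfsg.Agent.S1398

/-- Let G be a minimal simple group of odd order, M a maximal subgroup, p a prime, and B a noncyclic elementary abelian p-subgroup of M. If C_G(b) ≤ M for every non-identity b ∈ B, or if every subgroup of G of order coprime to p normalized by B is contained in M, then M is the only maximal subgroup of G containing B. -/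
theorem result {G : Type*} [Group G] [Finite G] (hG : Cfsg.IsMinSimpleOddOrder G)
    (M : Subgroup G) (hM : IsCoatom M) (p : ℕ) [Fact p.Prime] (B : Subgroup G) (hBM : B ≤ M)
    (hBe : Cfsg.IsElementaryAbelian p B) (hBnc : ¬ IsCyclic B)
    (h : (∀ b ∈ B, b ≠ 1 → Subgroup.centralizer ({b} : Set G) ≤ M) ∨
      ∀ Y ∈ Cfsg.invSubgroups ⊤ B (Cfsg.primesNotDvd p), Y ≤ M) :
    Cfsg.InUniqueMaximal B := by
  classical
  have hp : p.Prime := Fact.out
  have hBp : IsPGroup p ↥B := Cfsg.Agent.Helper14.BGUniq.isPGroup_of_isElementaryAbelian hBe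
  have hB1 : B ≠ ⊥ := by
    intro hb
    apply hBnc
    rw [hb]
    exact isCyclic_of_subsingleton
  have hBcard : p ^ 2 ≤ Nat.card ↥B := by
    obtain ⟨k, hk⟩ := hBp.exists_card_eq
    rw [hk]
    apply Nat.pow_le_pow_right hp.pos
    by_contra hk2
    push Not at hk2
    interval_cases k
    · rw [pow_zero] at hk
      exact hB1 (Subgroup.card_eq_one.mp hk)
    · rw [pow_one] at hk
      haveI : Fact p.Prime := ⟨hp⟩
      exact hBnc (isCyclic_of_prime_card hk)
  have hinv : ∀ Y : Subgroup G, (Nat.card ↥Y).Coprime p →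
      B ≤ Subgroup.normalizer (Y : Set G) → Y ≤ M := by
    intro Y hY hBY
    rcases h with h | h
    · have hpY : ¬ p ∣ Nat.card ↥Y := by
        intro hd
        have := Nat.Coprime.eq_one_of_dvd hY.symm hd
        exact hp.one_lt.ne' this
      refine (Cfsg.Agent.Helper7.le_hyperGen p B Y hBe hpY hBY).trans ?_
      apply iSup_le
      rintro ⟨D, hDB, hDr⟩
      have hD1 : D ≠ ⊥ := by
        intro hD
        rw [hD, Subgroup.relIndex_bot_left] at hDr
        have : p < p ^ 2 := by
          calc p = p ^ 1 := (pow_one p).symm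
            _ < p ^ 2 := Nat.pow_lt_pow_right hp.one_lt (by norm_num)
        omega
      obtain ⟨b, hb, hb1⟩ := Cfsg.Agent.Helper14.BGTrans.exists_mem_ne_one hD1
      refine le_trans inf_le_right ?_
      refine le_trans ?_ (h b (hDB hb) hb1)
      apply Subgroup.centralizer_le
      intro x hx
      rw [Set.mem_singleton_iff] at hx
      rw [hx]; exact hb
    · apply h Y
      refine ⟨le_top, ?_, hBY⟩
      intro q hq hqY
      refine ⟨hq, ?_⟩
      intro hqp
      have e : q = p := (Nat.prime_dvd_prime_iff_eq hq hp).mp hqp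
      rw [e] at hqY
      have := Nat.Coprime.eq_one_of_dvd hY.symm hqY
      exact hp.one_lt.ne' this
  refine ⟨M, ⟨hM, hBM⟩, ?_⟩
  rintro H ⟨hH, hBH⟩
  exact Cfsg.Agent.Helper14.BGUniq.eq_of_inv_le hG hM hBp hB1 hBM hinv H hH hBH

end Cfsg.Agent.S1398
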