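import Mathlib
import Cfsg.Statements.S1399
import Cfsg.Agent.Lib.Helper14.BGUniqL
import Cfsg.Agent.S1398

set_option autoImplicit false
open Cfsg

namespace Cfsg.Agent.S1399

/-- Let G be a minimal simple group of odd order, L a subgroup contained in exactly one maximal subgroup of G, and K a subgroup of C_G(L) having, for some prime p, an elementary abelian subgroup of order p ^ 2. Then K is contained in exactly one maximal subgroup of G. -/
theorem result {G : Type*} [Group G] [Finite G] (hG : Cfsg.IsMinSimpleOddOrder G)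
    (L K : Subgroup G) (hL : Cfsg.InUniqueMaximal L) (hK : K ≤ Subgroup.centralizer (L : Set G)) (hKr : ¬ Cfsg.RankLE 1 K) :
    Cfsg.InUniqueMaximal K := by
  classical
  obtain ⟨M, ⟨hM, hLM⟩, huniq⟩ := hL
  have hNL := Cfsg.Agent.Helper14.BGUniq.normalizer_le_of_inUniqueMaximal hG hM hLM huniq
  have hKM : K ≤ M := (hK.trans (Subgroup.centralizer_le_normalizer _)).trans hNL
  obtain ⟨p, hp, B, hBK, hBe, hBc⟩ := Cfsg.Agent.Helper14.BGTrans.exists_elemAb_of_not_rankLE hKr
  haveI : Fact p.Prime := ⟨hp⟩
  rw [pow_one] at hBc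
  have hBnc := Cfsg.Agent.Helper14.BGUniq.not_isCyclic_of_isElementaryAbelian hBe hBc
  have hcent : ∀ b ∈ B, b ≠ 1 → Subgroup.centralizer ({b} : Set G) ≤ M := by
    intro b hb hb1
    apply Cfsg.Agent.Helper14.BGUniq.le_of_inUniqueMaximal
      (Cfsg.Agent.Helper14.BGTrans.centralizer_singleton_ne_top hG hb1) _ huniq
    intro l hl
    rw [Subgroup.mem_centralizer_singleton_iff]
    have := (Subgroup.mem_centralizer_iff.mp (hK (hBK hb))) l hl
    first
      | exact this
      | exact this.symm
  have hBU := Cfsg.Agent.S1398.result hG M hM p B (hBK.trans hKM) hBe hBnc (Or.inl hcent)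
  exact Cfsg.Agent.Helper14.BGUniq.inUniqueMaximal_of_le hM hKM hBK hBU

end Cfsg.Agent.S1399
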