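import Mathlib
import Cfsg.Statements.S1402
import Cfsg.Agent.Lib.Helper1.BG95B
import Cfsg.Agent.Lib.Helper22.BG95B

set_option autoImplicit false
open Cfsg

namespace Cfsg.Agent.S1402

/-- Let G be a minimal simple group of odd order, p a prime, P a Sylow p-subgroup of G and A a normal subgroup of P with C_P(A) = A containing an elementary abelian subgroup of order p ^ 3. Then A lies in exactly one maximal subgroup of G. -/
theorem result {G : Type*} [Group G] [Finite G] (hG : Cfsg.IsMinSimpleOddOrder G)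
    (p : ℕ) [Fact p.Prime] (P : Sylow p G) (A : Subgroup G) (hA : Cfsg.IsSCN (P : Subgroup G) A) (hA3 : ¬ Cfsg.PRankLE p 2 ↥A) :
    Cfsg.InUniqueMaximal A := by
  by_contra hnU
  obtain ⟨hAC, hAc, hAp, hA1, hrk1, hpG, hTH, hZ⟩ :=
    Cfsg.Agent.Helper1.BG95.scn_basic hG p P hA hA3
  have hP1 : (P : Subgroup G) ≠ ⊥ := fun h => hA1 (eq_bot_iff.mpr (h ▸ hA.1))
  have hD : Cfsg.Agent.Helper22.BG95.focal (P : Subgroup G) ≠ ⊥ :=
    Cfsg.Agent.Helper1.BG95.focal_ne_bot hG p P hP1
  have hNP : ∀ M : Subgroup G, IsCoatom M → Subgroup.centralizer (A : Set G) ≤ M →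
      Subgroup.normalizer ((P : Subgroup G) : Set G) ≤ M := fun M hM hCM =>
    Cfsg.Agent.Helper1.BG95.normalizer_sylow_le_of_centralizer_le hG p P hA hA3 hnU hM hCM
  have hα : ∀ M : Subgroup G, IsCoatom M → Subgroup.centralizer (A : Set G) ≤ M →
      Cfsg.RankLE 2 ↥(Cfsg.fittingOf M) →
      M ≤ Subgroup.normalizer
        ((Cfsg.Agent.Helper22.BG95.focal (P : Subgroup G) : Subgroup G) : Set G) :=
    fun M hM hCM hr =>
      Cfsg.Agent.Helper1.BG95.le_normalizer_focal_of_rankLE hG p P hM (hNP M hM hCM) hr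
  exact hnU (Cfsg.Agent.Helper1.BG95.inUniqueMaximal_of_unique hG p P hA hA3
    (Cfsg.Agent.Helper22.BG95.eq_of_centralizer_le hG p P A hA hA3 hnU hD hNP hα))

end Cfsg.Agent.S1402
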