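import Mathlib
import Cfsg.Statements.S2761

set_option autoImplicit false
open Cfsg

namespace Cfsg.Agent.S2761

open Matrix

/-- The matrices in `SL₃(R)` with last row `(0, 0, 1)`. -/
def LastRow {R : Type*} [CommRing R] (M : Matrix.SpecialLinearGroup (Fin 3) R) : Prop :=
  (M : Matrix (Fin 3) (Fin 3) R) 2 0 = 0 ∧ (M : Matrix (Fin 3) (Fin 3) R) 2 1 = 0 ∧
    (M : Matrix (Fin 3) (Fin 3) R) 2 2 = 1

theorem lastRow_mul_apply {R : Type*} [CommRing R] {M N : Matrix.SpecialLinearGroup (Fin 3) R}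
    (h : LastRow M) (j : Fin 3) :
    ((M * N : Matrix.SpecialLinearGroup (Fin 3) R) : Matrix (Fin 3) (Fin 3) R) 2 j =
      (N : Matrix (Fin 3) (Fin 3) R) 2 j := by
  obtain ⟨h0, h1, h2⟩ := h
  simp [Matrix.SpecialLinearGroup.coe_mul, Matrix.mul_apply, Fin.sum_univ_three, h0, h1, h2]

/-- The affine subgroup. -/
def affSubgroup (R : Type*) [CommRing R] : Subgroup (Matrix.SpecialLinearGroup (Fin 3) R) where
  carrier := {M | LastRow M}
  one_mem' := by
    refine ⟨?_, ?_, ?_⟩ <;> simp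
  mul_mem' := by
    intro M N hM hN
    refine ⟨?_, ?_, ?_⟩
    · rw [lastRow_mul_apply hM]; exact hN.1
    · rw [lastRow_mul_apply hM]; exact hN.2.1
    · rw [lastRow_mul_apply hM]; exact hN.2.2
  inv_mem' := by
    intro M hM
    have key : ∀ j : Fin 3, ((M⁻¹ : Matrix.SpecialLinearGroup (Fin 3) R) : Matrix (Fin 3) (Fin 3) R) 2 j =
        ((1 : Matrix.SpecialLinearGroup (Fin 3) R) : Matrix (Fin 3) (Fin 3) R) 2 j := by
      intro j
      rw [← lastRow_mul_apply hM (N := M⁻¹) j, mul_inv_cancel]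
    refine ⟨?_, ?_, ?_⟩
    · rw [key]; simp
    · rw [key]; simp
    · rw [key]; simp

theorem qd_eq (p : ℕ) : Cfsg.qd p = affSubgroup (ZMod p) :=
  Subgroup.closure_eq (affSubgroup (ZMod p))

/-- The affine action as a monoid homomorphism to endomorphisms of `R × R`. -/
def affEnd (R : Type*) [CommRing R] : ↥(affSubgroup R) →* Function.End (R × R) where
  toFun M := fun v =>
    ((M.1 : Matrix (Fin 3) (Fin 3) R) 0 0 * v.1 + (M.1 : Matrix (Fin 3) (Fin 3) R) 0 1 * v.2 +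
        (M.1 : Matrix (Fin 3) (Fin 3) R) 0 2,
      (M.1 : Matrix (Fin 3) (Fin 3) R) 1 0 * v.1 + (M.1 : Matrix (Fin 3) (Fin 3) R) 1 1 * v.2 +
        (M.1 : Matrix (Fin 3) (Fin 3) R) 1 2)
  map_one' := by
    funext v
    show _ = v
    simp
  map_mul' := by
    intro M N
    funext v
    obtain ⟨n0, n1, n2⟩ := N.2
    show _ = ((_ : R), (_ : R))
    simp only [Subgroup.coe_mul, Matrix.SpecialLinearGroup.coe_mul, Matrix.mul_apply, Fin.sum_univ_three,
      Function.End.mul_def, Function.comp]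
    rw [n0, n1, n2]
    ext
    · simp only; ring
    · simp only; ring

/-- The affine action on the plane as permutations. -/
def affPerm (R : Type*) [CommRing R] : ↥(affSubgroup R) →* Equiv.Perm (R × R) := (affEnd R).toHomPerm

theorem affPerm_apply {R : Type*} [CommRing R] (M : ↥(affSubgroup R)) (v : R × R) :
    affPerm R M v =
    ((M.1 : Matrix (Fin 3) (Fin 3) R) 0 0 * v.1 + (M.1 : Matrix (Fin 3) (Fin 3) R) 0 1 * v.2 +
        (M.1 : Matrix (Fin 3) (Fin 3) R) 0 2,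
      (M.1 : Matrix (Fin 3) (Fin 3) R) 1 0 * v.1 + (M.1 : Matrix (Fin 3) (Fin 3) R) 1 1 * v.2 +
        (M.1 : Matrix (Fin 3) (Fin 3) R) 1 2) := rfl

theorem affPerm_injective (R : Type*) [CommRing R] : Function.Injective (affPerm R) := by
  rw [injective_iff_map_eq_one]
  intro M hM
  have h00 := congrArg (fun σ : Equiv.Perm (R × R) => σ (0, 0)) hM
  have h10 := congrArg (fun σ : Equiv.Perm (R × R) => σ (1, 0)) hM
  have h01 := congrArg (fun σ : Equiv.Perm (R × R) => σ (0, 1)) hM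
  simp only [affPerm_apply, Equiv.Perm.coe_one, id_eq, Prod.mk.injEq, mul_zero, mul_one, zero_add, add_zero] at h00 h10 h01
  obtain ⟨n0, n1, n2⟩ := M.2
  obtain ⟨a02, a12⟩ := h00
  obtain ⟨a00, a10⟩ := h10
  obtain ⟨a01, a11⟩ := h01
  rw [a02, add_zero] at a00 a01
  rw [a12, add_zero] at a10 a11
  apply Subtype.ext
  apply Subtype.ext
  ext i j
  fin_cases i <;> fin_cases j <;> simp <;> assumption

/-- The matrix of the `4`-cycle `(x, y) ↦ (y + 1, x)`. -/
def sigmaMat : Matrix (Fin 3) (Fin 3) (ZMod 2) := !![0, 1, 1; 1, 0, 0; 0, 0, 1]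

/-- The matrix of the transposition `(x, y) ↦ (x + y + 1, y)`. -/
def tauMat : Matrix (Fin 3) (Fin 3) (ZMod 2) := !![1, 1, 1; 0, 1, 0; 0, 0, 1]

theorem sigmaMat_det : sigmaMat.det = 1 := by
  rw [sigmaMat, Matrix.det_fin_three]; decide

theorem tauMat_det : tauMat.det = 1 := by
  rw [tauMat, Matrix.det_fin_three]; decide

def sigmaEl : ↥(affSubgroup (ZMod 2)) := ⟨⟨sigmaMat, sigmaMat_det⟩, by
  refine ⟨?_, ?_, ?_⟩ <;> simp [sigmaMat]⟩

def tauEl : ↥(affSubgroup (ZMod 2)) := ⟨⟨tauMat, tauMat_det⟩, by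
  refine ⟨?_, ?_, ?_⟩ <;> simp [tauMat]⟩

theorem sigma_apply (v : ZMod 2 × ZMod 2) : affPerm (ZMod 2) sigmaEl v = (v.2 + 1, v.1) := by
  rw [affPerm_apply]
  simp [sigmaEl, sigmaMat]

theorem tau_apply (v : ZMod 2 × ZMod 2) : affPerm (ZMod 2) tauEl v = (v.1 + v.2 + 1, v.2) := by
  rw [affPerm_apply]
  simp [tauEl, tauMat]

theorem tau_eq_swap : affPerm (ZMod 2) tauEl = Equiv.swap ((0, 0) : ZMod 2 × ZMod 2) (affPerm (ZMod 2) sigmaEl (0, 0)) := by
  ext1 v
  rw [tau_apply, sigma_apply]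
  revert v
  decide

theorem sigma_isCycle : (affPerm (ZMod 2) sigmaEl).IsCycle := by
  refine ⟨(0, 0), ?_, ?_⟩
  · rw [sigma_apply]; decide
  · intro y _
    have h1 : ∀ v, affPerm (ZMod 2) sigmaEl v = (v.2 + 1, v.1) := sigma_apply
    have hy : y = (0, 0) ∨ y = (1, 0) ∨ y = (1, 1) ∨ y = (0, 1) := by revert y; decide
    rcases hy with rfl | rfl | rfl | rfl
    · exact ⟨0, by simp⟩
    · refine ⟨1, ?_⟩
      rw [zpow_one, h1]; decide
    · refine ⟨2, ?_⟩
      have : (affPerm (ZMod 2) sigmaEl ^ (2 : ℤ)) (0, 0) =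
          affPerm (ZMod 2) sigmaEl (affPerm (ZMod 2) sigmaEl (0, 0)) := by
        rw [show (2 : ℤ) = ((2 : ℕ) : ℤ) from rfl, zpow_natCast, pow_two, Equiv.Perm.mul_apply]
      rw [this, h1, h1]; decide
    · refine ⟨3, ?_⟩
      have : (affPerm (ZMod 2) sigmaEl ^ (3 : ℤ)) (0, 0) =
          affPerm (ZMod 2) sigmaEl (affPerm (ZMod 2) sigmaEl (affPerm (ZMod 2) sigmaEl (0, 0))) := by
        rw [show (3 : ℤ) = ((3 : ℕ) : ℤ) from rfl, zpow_natCast, pow_succ, pow_two, Equiv.Perm.mul_apply,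
          Equiv.Perm.mul_apply]
      rw [this, h1, h1, h1]; decide

theorem sigma_support : (affPerm (ZMod 2) sigmaEl).support = Finset.univ := by
  ext v
  simp only [Equiv.Perm.mem_support, Finset.mem_univ, iff_true]
  rw [sigma_apply]
  revert v
  decide

theorem affPerm_surjective : Function.Surjective (affPerm (ZMod 2)) := by
  rw [← MonoidHom.range_eq_top, eq_top_iff,
    ← Equiv.Perm.closure_cycle_adjacent_swap sigma_isCycle sigma_support (0, 0), Subgroup.closure_le]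
  intro σ hσ
  rcases hσ with rfl | hσ
  · exact ⟨sigmaEl, rfl⟩
  · rw [Set.mem_singleton_iff] at hσ
    rw [hσ, ← tau_eq_swap]
    exact ⟨tauEl, rfl⟩

/-- The group Qd(2), the natural semidirect product of an elementary abelian group of order 4 by SL₂(2) (realised as the affine subgroup of SL₃(2)), is isomorphic to the symmetric group of degree 4. -/
theorem result : Nonempty (↥(Cfsg.qd 2) ≃* Equiv.Perm (Fin 4)) := by
  rw [qd_eq]
  have e1 : ↥(affSubgroup (ZMod 2)) ≃* Equiv.Perm (ZMod 2 × ZMod 2) :=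
    MulEquiv.ofBijective (affPerm (ZMod 2)) ⟨affPerm_injective _, affPerm_surjective⟩
  have hcard : Fintype.card (ZMod 2 × ZMod 2) = 4 := by
    rw [Fintype.card_prod, ZMod.card]
  exact ⟨e1.trans (Fintype.equivFinOfCardEq hcard).permCongrHom⟩

end Cfsg.Agent.S2761
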