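import Mathlib
import Cfsg.Statements.S2779
import Cfsg.Agent.Lib.Helper14.NaturalSL2

set_option autoImplicit false
open Cfsg

namespace Cfsg.Agent.S2779

open scoped Matrix commutatorElement
open Cfsg.Agent.Helper14.SL2Vec Cfsg.Agent.Helper14.NatSL2

/-- faithfulness makes `ρ` injective -/
theorem rho_injective {G : Type*} [Group G] {F : Type*} [Field F] {V L : Subgroup G}
    (ρ : ↥L →* Matrix.SpecialLinearGroup (Fin 2) F)
    (hker : ρ.ker = (Subgroup.centralizer (V : Set G)).subgroupOf L)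
    (hf : L ⊓ Subgroup.centralizer (V : Set G) = ⊥) : Function.Injective ρ := by
  rw [← MonoidHom.ker_eq_bot_iff, hker, eq_bot_iff]
  intro x hx
  have : (x : G) ∈ L ⊓ Subgroup.centralizer (V : Set G) := ⟨x.2, hx⟩
  rw [hf, Subgroup.mem_bot] at this
  rw [Subgroup.mem_bot]
  exact Subtype.ext this

/-- Let L act on the elementary abelian p-group V (inside a finite group, by conjugation, faithfully) as SL₂(F) on its natural module, F a field with p^n elements, and let S be a Sylow p-subgroup of L. Then [V, S, S] = 1; |V| = p^(2n) and |C_V(S)| = p^n; and for every nonidentity s ∈ S and every v ∈ V outside C_V(S): C_V(s) = C_V(S) = [V, S] = [V, s] = the subgroup generated by the commutators [v, t], t ∈ S. -/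
theorem result {G : Type*} [Group G] [Finite G] {p : ℕ} [Fact p.Prime] {F : Type*} [Field F] [Fintype F] (n : ℕ) (hF : Fintype.card F = p ^ n) (V L : Subgroup G) (hnat : Cfsg.IsNaturalSL2Module F V L) (hf : L ⊓ Subgroup.centralizer (V : Set G) = ⊥) (S : Sylow p ↥L) (T : Subgroup G) (hT : T = ((S : Subgroup ↥L).map L.subtype)) : ⁅⁅V, T⁆, T⁆ = ⊥ ∧ Nat.card V = p ^ (2 * n) ∧ Nat.card ↥(V ⊓ Subgroup.centralizer ((T : Subgroup G) : Set G)) = p ^ n ∧ ∀ s ∈ T, s ≠ 1 → (V ⊓ Subgroup.centralizer ({s} : Set G)) = (V ⊓ Subgroup.centralizer ((T : Subgroup G) : Set G)) ∧ ⁅V, T⁆ = (V ⊓ Subgroup.centralizer ((T : Subgroup G) : Set G)) ∧ ⁅V, Subgroup.zpowers s⁆ = (V ⊓ Subgroup.centralizer ((T : Subgroup G) : Set G)) ∧ ∀ v ∈ V, v ∉ Subgroup.centralizer (T : Set G) → Subgroup.closure {x : G | ∃ t ∈ T, x = v * t * v⁻¹ * t⁻¹} = (V ⊓ Subgroup.centralizer ((T : Subgroup G) : Set G)) := by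
  obtain ⟨hLV, ρ, ψ, hρs, hker, hact⟩ := hnat
  have hρi := rho_injective ρ hker hf
  subst hT
  obtain ⟨v₀, hv₀, hfix⟩ := exists_fixed_vector ρ n hF S
  obtain ⟨w₀, hw₀⟩ := exists_dt_eq_one hv₀
  set T := (S : Subgroup ↥L).map L.subtype with hT
  set V₀ := V ⊓ Subgroup.centralizer (T : Set G) with hV₀
  have hmemC : ∀ v : ↥V, (v : G) ∈ Subgroup.centralizer (T : Set G) ↔ ∃ c : F, θ ψ v = c • v₀ :=
    fun v => mem_centralizer_iff ρ ψ n hF hρs hρi S hact hv₀ hfix v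
  -- commutators land in `V₀`
  have hcomm_mem : ∀ v ∈ V, ∀ t ∈ T, ⁅v, t⁆ ∈ V₀ := by
    rintro v hv _ ⟨s, hs, rfl⟩
    have h1 := commutator_mem ρ ψ hact ⟨v, hv⟩ s
    refine ⟨h1, ?_⟩
    rw [SetLike.mem_coe]
    refine (hmemC ⟨_, h1⟩).mpr ?_
    obtain ⟨c, hc⟩ := exists_smul_of_fix hv₀ (hfix s hs) (θ ψ ⟨v, hv⟩)
    refine ⟨-c, ?_⟩
    rw [θ_commutator ρ ψ hact ⟨v, hv⟩ s, neg_smul, ← hc]
    abel
  have hVT : ⁅V, T⁆ ≤ V₀ := Subgroup.commutator_le.mpr hcomm_mem
  -- covering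
  have hcover : ∀ u ∈ V, u ∉ Subgroup.centralizer (T : Set G) → ∀ x ∈ V₀,
      ∃ t ∈ T, x = u * t * u⁻¹ * t⁻¹ := by
    intro u hu huC x hx
    have hd : dt v₀ (θ ψ ⟨u, hu⟩) ≠ 0 := by
      intro hd
      exact huC ((hmemC ⟨u, hu⟩).mpr (eq_smul_of_dt_eq_zero hv₀ hd))
    obtain ⟨c, hc⟩ := (hmemC ⟨x, hx.1⟩).mp hx.2
    obtain ⟨s, hs, hsc⟩ := exists_mem_sylow ρ n hF hρs hρi S hv₀ hfix hd (-c)
    refine ⟨(s : G), Subgroup.mem_map_of_mem _ hs, ?_⟩
    have h1 := θ_commutator ρ ψ hact ⟨u, hu⟩ s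
    have h2 : θ ψ ⟨⁅u, (s : G)⁆, commutator_mem ρ ψ hact ⟨u, hu⟩ s⟩ = θ ψ ⟨x, hx.1⟩ := by
      rw [h1, hc]
      have : θ ψ ⟨u, hu⟩ - ((ρ s : Matrix.SpecialLinearGroup (Fin 2) F) :
          Matrix (Fin 2) (Fin 2) F) *ᵥ θ ψ ⟨u, hu⟩ = -(-c • v₀) := by
        rw [← hsc]; abel
      rw [this, neg_smul, neg_neg]
    have h3 := congrArg Subtype.val (θ_injective ψ h2)
    rw [← commutatorElement_def]
    exact h3.symm
  -- a vector outside `C_V(T)`
  obtain ⟨u₀, hu₀⟩ := θ_surjective ψ w₀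
  have hu₀C : (u₀ : G) ∉ Subgroup.centralizer (T : Set G) := by
    intro h
    obtain ⟨c, hc⟩ := (hmemC u₀).mp h
    rw [hu₀] at hc
    rw [hc, dt_smul_right, dt_self, mul_zero] at hw₀
    exact zero_ne_one hw₀
  have hV₀le : V₀ ≤ ⁅V, T⁆ := by
    intro x hx
    obtain ⟨t, ht, hxt⟩ := hcover u₀ u₀.2 hu₀C x hx
    rw [hxt, ← commutatorElement_def]
    exact Subgroup.commutator_mem_commutator u₀.2 ht
  have hVTeq : ⁅V, T⁆ = V₀ := le_antisymm hVT hV₀le
  refine ⟨?_, ?_, ?_, ?_⟩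
  · rw [Subgroup.commutator_eq_bot_iff_le_centralizer]
    exact hVT.trans inf_le_right
  · have h1 : Nat.card ↥V = Nat.card (Additive ↥V) := Nat.card_congr Additive.ofMul
    rw [h1, Nat.card_congr ψ.toEquiv, Nat.card_eq_fintype_card, Fintype.card_fun, Fintype.card_fin,
      hF, ← pow_mul, mul_comm]
  · -- `|C_V(T)| = q`
    have hex : ∀ x : ↥V₀, ∃ c : F, θ ψ ⟨(x : G), x.2.1⟩ = c • v₀ :=
      fun x => (hmemC ⟨(x : G), x.2.1⟩).mp x.2.2
    set g : ↥V₀ → F := fun x => Classical.choose (hex x) with hg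
    have hgs : ∀ x : ↥V₀, θ ψ ⟨(x : G), x.2.1⟩ = g x • v₀ := fun x => Classical.choose_spec (hex x)
    have hbij : Function.Bijective g := by
      constructor
      · intro x y hxy
        have h1 : θ ψ ⟨(x : G), x.2.1⟩ = θ ψ ⟨(y : G), y.2.1⟩ := by rw [hgs x, hgs y, hxy]
        have h2 : (⟨(x : G), x.2.1⟩ : ↥V) = ⟨(y : G), y.2.1⟩ := θ_injective ψ h1
        have h3 : (x : G) = (y : G) := congrArg (fun z : ↥V => (z : G)) h2
        exact Subtype.ext h3
      · intro c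
        obtain ⟨v, hv⟩ := θ_surjective ψ (c • v₀)
        have hvV₀ : (v : G) ∈ V₀ := ⟨v.2, (hmemC v).mpr ⟨c, hv⟩⟩
        refine ⟨⟨(v : G), hvV₀⟩, ?_⟩
        have h1 := hgs ⟨(v : G), hvV₀⟩
        have h2 : θ ψ ⟨(v : G), hvV₀.1⟩ = c • v₀ := hv
        rw [h2] at h1
        exact (smul_left_injective F hv₀ h1).symm
    rw [Nat.card_congr (Equiv.ofBijective g hbij), Nat.card_eq_fintype_card, hF]
  · rintro _ ⟨s, hs, rfl⟩ hs1
    have hs1' : s ≠ 1 := by
      rintro rfl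
      exact hs1 rfl
    have hρs1 : ρ s ≠ 1 := by
      intro h
      apply hs1'
      apply hρi
      rw [h, map_one]
    refine ⟨?_, hVTeq, ?_, ?_⟩
    · apply le_antisymm
      · rintro x ⟨hxV, hxs⟩
        refine ⟨hxV, ?_⟩
        rw [SetLike.mem_coe]
        refine (hmemC ⟨x, hxV⟩).mpr ?_
        apply eq_smul_of_dt_eq_zero hv₀
        by_contra hd
        apply hρs1
        refine eq_one_of_fix hd (hfix s hs) ?_
        rw [← commute_iff ρ ψ hact s ⟨x, hxV⟩]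
        exact ((Subgroup.mem_centralizer_iff.mp hxs) (s : G) rfl).symm
      · refine inf_le_inf_left _ (Subgroup.centralizer_le ?_)
        rw [Set.singleton_subset_iff]
        exact Subgroup.mem_map_of_mem _ hs
    · apply le_antisymm
      · refine le_trans (Subgroup.commutator_mono le_rfl ?_) hVT
        rw [Subgroup.zpowers_le]
        exact Subgroup.mem_map_of_mem _ hs
      · intro x hx
        obtain ⟨c, hc⟩ := (hmemC ⟨x, hx.1⟩).mp hx.2
        obtain ⟨c₁, hc₁⟩ := exists_smul_of_fix hv₀ (hfix s hs) w₀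
        have hc₁0 : c₁ ≠ 0 := by
          rintro rfl
          apply hρs1
          have hd : dt v₀ w₀ ≠ 0 := by rw [hw₀]; exact one_ne_zero
          refine eq_one_of_fix hd (hfix s hs) ?_
          rw [zero_smul, sub_eq_zero] at hc₁
          exact hc₁
        obtain ⟨u', hu'⟩ := θ_surjective ψ ((-c / c₁) • w₀)
        have h1 := θ_commutator ρ ψ hact u' s
        have h2 : θ ψ ⟨⁅(u' : G), (s : G)⁆, commutator_mem ρ ψ hact u' s⟩ = θ ψ ⟨x, hx.1⟩ := by
          rw [h1, hc, hu', Matrix.mulVec_smul, ← smul_sub]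
          have : w₀ - ((ρ s : Matrix.SpecialLinearGroup (Fin 2) F) :
              Matrix (Fin 2) (Fin 2) F) *ᵥ w₀ = -(c₁ • v₀) := by
            rw [← hc₁]; abel
          rw [this, smul_neg, smul_smul, ← neg_smul]
          congr 1
          field_simp
        have h3 : ⁅(u' : G), (s : G)⁆ = x := congrArg Subtype.val (θ_injective ψ h2)
        rw [← h3]
        exact Subgroup.commutator_mem_commutator u'.2 (Subgroup.mem_zpowers _)
    · intro v hv hvC
      apply le_antisymm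
      · rw [Subgroup.closure_le]
        rintro x ⟨t, ht, rfl⟩
        rw [← commutatorElement_def]
        exact hcomm_mem v hv t ht
      · intro x hx
        apply Subgroup.subset_closure
        exact hcover v hv hvC x hx

end Cfsg.Agent.S2779
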