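import Mathlib
import Cfsg.Statements.S2780
import Cfsg.Agent.Lib.Helper14.NaturalSL2
import Cfsg.Agent.S2779

set_option autoImplicit false
open Cfsg

namespace Cfsg.Agent.S2780

open scoped Matrix commutatorElement
open Cfsg.Agent.Helper14.SL2Vec Cfsg.Agent.Helper14.NatSL2

theorem dt_smul_left {F : Type*} [Field F] (u v : Fin 2 → F) (c : F) :
    dt (c • u) v = c * dt u v := by
  unfold dt
  simp only [Pi.smul_apply, smul_eq_mul]
  ring

theorem inv_mulVec_mulVec {F : Type*} [Field F] (g : Matrix.SpecialLinearGroup (Fin 2) F)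
    (v : Fin 2 → F) :
    ((g⁻¹ : Matrix.SpecialLinearGroup (Fin 2) F) : Matrix (Fin 2) (Fin 2) F) *ᵥ
      ((g : Matrix (Fin 2) (Fin 2) F) *ᵥ v) = v := by
  rw [Matrix.mulVec_mulVec, ← Matrix.SpecialLinearGroup.coe_mul, inv_mul_cancel,
    Matrix.SpecialLinearGroup.coe_one, Matrix.one_mulVec]

theorem mulVec_inv_mulVec {F : Type*} [Field F] (g : Matrix.SpecialLinearGroup (Fin 2) F)
    (v : Fin 2 → F) :
    (g : Matrix (Fin 2) (Fin 2) F) *ᵥ
      (((g⁻¹ : Matrix.SpecialLinearGroup (Fin 2) F) : Matrix (Fin 2) (Fin 2) F) *ᵥ v) = v := by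
  rw [Matrix.mulVec_mulVec, ← Matrix.SpecialLinearGroup.coe_mul, mul_inv_cancel,
    Matrix.SpecialLinearGroup.coe_one, Matrix.one_mulVec]

/-- an element scaling `v₀` has an inverse scaling `v₀` -/
theorem inv_scale {F : Type*} [Field F] {g : Matrix.SpecialLinearGroup (Fin 2) F}
    {v₀ : Fin 2 → F} (hv₀ : v₀ ≠ 0) {a : F} (h : (g : Matrix (Fin 2) (Fin 2) F) *ᵥ v₀ = a • v₀) :
    a ≠ 0 ∧ ((g⁻¹ : Matrix.SpecialLinearGroup (Fin 2) F) : Matrix (Fin 2) (Fin 2) F) *ᵥ v₀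
      = a⁻¹ • v₀ := by
  have ha : a ≠ 0 := by
    rintro rfl
    rw [zero_smul] at h
    apply hv₀
    have := inv_mulVec_mulVec g v₀
    rw [h, Matrix.mulVec_zero] at this
    exact this.symm
  refine ⟨ha, ?_⟩
  have h1 := inv_mulVec_mulVec g v₀
  rw [h, Matrix.mulVec_smul] at h1
  have h2 := congrArg (fun z => a⁻¹ • z) h1
  simp only [smul_smul, inv_mul_cancel₀ ha, one_smul] at h2
  exact h2

theorem mem_centralizer_map_conj_iff {G : Type*} [Group G] (T : Subgroup G) (g x : G) :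
    x ∈ Subgroup.centralizer ((T.map (MulAut.conj g).toMonoidHom : Subgroup G) : Set G) ↔
      g⁻¹ * x * g ∈ Subgroup.centralizer (T : Set G) := by
  constructor
  · intro h
    rw [Subgroup.mem_centralizer_iff]
    intro t ht
    have h1 := Subgroup.mem_centralizer_iff.mp h (g * t * g⁻¹) ⟨t, ht, by simp⟩
    calc t * (g⁻¹ * x * g) = g⁻¹ * ((g * t * g⁻¹) * x) * g := by group
      _ = g⁻¹ * (x * (g * t * g⁻¹)) * g := by rw [h1]
      _ = g⁻¹ * x * g * t := by group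
  · intro h
    rw [Subgroup.mem_centralizer_iff]
    rintro _ ⟨t, ht, rfl⟩
    have h1 := Subgroup.mem_centralizer_iff.mp h t ht
    show (MulAut.conj g) t * x = x * (MulAut.conj g) t
    rw [MulAut.conj_apply]
    calc g * t * g⁻¹ * x = g * (t * (g⁻¹ * x * g)) * g⁻¹ := by group
      _ = g * ((g⁻¹ * x * g) * t) * g⁻¹ := by rw [h1]
      _ = x * (g * t * g⁻¹) := by group

section main

variable {G : Type*} [Group G] [Finite G] {p : ℕ} [Fact p.Prime] {F : Type*} [Field F] [Fintype F]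
  {V L : Subgroup G}
  (ρ : ↥L →* Matrix.SpecialLinearGroup (Fin 2) F) (ψ : Additive ↥V ≃+ (Fin 2 → F))
  (n : ℕ) (hF : Fintype.card F = p ^ n)
  (hρs : Function.Surjective ρ) (hρi : Function.Injective ρ) (S : Sylow p ↥L)
  {v₀ : Fin 2 → F} (hv₀ : v₀ ≠ 0)
  (hfix : ∀ s ∈ (S : Subgroup ↥L),
    ((ρ s : Matrix.SpecialLinearGroup (Fin 2) F) : Matrix (Fin 2) (Fin 2) F) *ᵥ v₀ = v₀)

include hF hρs hρi hv₀ hfix in
/-- the stabilizer of `v₀` is `S` -/
theorem mem_sylow_of_fix {l : ↥L}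
    (hl : ((ρ l : Matrix.SpecialLinearGroup (Fin 2) F) : Matrix (Fin 2) (Fin 2) F) *ᵥ v₀ = v₀) :
    l ∈ (S : Subgroup ↥L) := by
  obtain ⟨w₀, hw₀⟩ := exists_dt_eq_one hv₀
  have hd : dt v₀ w₀ ≠ 0 := by rw [hw₀]; exact one_ne_zero
  obtain ⟨c, hc⟩ := exists_smul_of_fix hv₀ hl w₀
  obtain ⟨s, hs, hsc⟩ := exists_mem_sylow ρ n hF hρs hρi S hv₀ hfix hd c
  have h1 : ρ s = ρ l := by
    apply eq_of_mulVec_eq hd
    · rw [hfix s hs, hl]
    · exact sub_left_injective (hsc.trans hc.symm)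
  rw [← hρi h1]
  exact hs

include hF hρs hρi hv₀ hfix in
/-- elements scaling `v₀` conjugate `S` into itself -/
theorem conj_mem_sylow_of_scale {l : ↥L} {a : F}
    (hl : ((ρ l : Matrix.SpecialLinearGroup (Fin 2) F) : Matrix (Fin 2) (Fin 2) F) *ᵥ v₀ = a • v₀)
    {s : ↥L} (hs : s ∈ (S : Subgroup ↥L)) : l * s * l⁻¹ ∈ (S : Subgroup ↥L) := by
  apply mem_sylow_of_fix ρ n hF hρs hρi S hv₀ hfix
  obtain ⟨ha, hinv⟩ := inv_scale hv₀ hl
  rw [map_mul, map_mul, map_inv, Matrix.SpecialLinearGroup.coe_mul,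
    Matrix.SpecialLinearGroup.coe_mul, ← Matrix.mulVec_mulVec, ← Matrix.mulVec_mulVec, hinv,
    Matrix.mulVec_smul, hfix s hs, Matrix.mulVec_smul, hl, smul_smul, inv_mul_cancel₀ ha, one_smul]

include hF hρs hρi hv₀ hfix in
/-- elements scaling `v₀` normalize `T` -/
theorem mem_normalizer_of_scale {l : ↥L} {a : F}
    (hl : ((ρ l : Matrix.SpecialLinearGroup (Fin 2) F) : Matrix (Fin 2) (Fin 2) F) *ᵥ v₀ = a • v₀) :
    (l : G) ∈ Subgroup.normalizer (((S : Subgroup ↥L).map L.subtype : Subgroup G) : Set G) := by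
  obtain ⟨ha, hinv⟩ := inv_scale hv₀ hl
  rw [← map_inv] at hinv
  rw [Subgroup.mem_normalizer_iff]
  intro h
  constructor
  · rintro ⟨s, hs, rfl⟩
    exact ⟨l * s * l⁻¹, conj_mem_sylow_of_scale ρ n hF hρs hρi S hv₀ hfix hl hs, rfl⟩
  · rintro ⟨s, hs, hse⟩
    refine ⟨l⁻¹ * s * l⁻¹⁻¹, conj_mem_sylow_of_scale ρ n hF hρs hρi S hv₀ hfix hinv hs, ?_⟩
    have : (L.subtype s : G) = (l : G) * h * (l : G)⁻¹ := hse
    show ((l⁻¹ * s * l⁻¹⁻¹ : ↥L) : G) = h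
    push_cast
    have h2 : ((s : ↥L) : G) = (l : G) * h * (l : G)⁻¹ := hse
    rw [h2]
    group

end main

/-- Let L act on the elementary abelian p-group V (inside a finite group, faithfully) as SL₂(F) on its natural module, F a field with p^n elements, S a Sylow p-subgroup of L. Then: for every g ∈ L not normalizing S, V is the internal direct product of C_V(S) and C_V(gSg⁻¹); every nonidentity element of L of order prime to p acts on V without nonidentity fixed points; and C_V(S) and V/C_V(S) are irreducible for N_L(S): the only N_L(S)-invariant subgroups of C_V(S) are 1 and C_V(S), and the only N_L(S)-invariant subgroups between C_V(S) and V are those two. -/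
theorem result {G : Type*} [Group G] [Finite G] {p : ℕ} [Fact p.Prime] {F : Type*} [Field F] [Fintype F] (n : ℕ) (hF : Fintype.card F = p ^ n) (V L : Subgroup G) (hnat : Cfsg.IsNaturalSL2Module F V L) (hf : L ⊓ Subgroup.centralizer (V : Set G) = ⊥) (S : Sylow p ↥L) (T : Subgroup G) (hT : T = ((S : Subgroup ↥L).map L.subtype)) : (∀ g ∈ L, g ∉ Subgroup.normalizer (T : Set G) → Cfsg.IsInternalDirectProduct (V ⊓ Subgroup.centralizer ((T : Subgroup G) : Set G)) (V ⊓ Subgroup.centralizer ((T.map (MulAut.conj g).toMonoidHom : Subgroup G) : Set G)) V) ∧ (∀ x ∈ L, x ≠ 1 → (orderOf x).Coprime p → (V ⊓ Subgroup.centralizer ({x} : Set G)) = ⊥) ∧ (∀ U : Subgroup G, U ≤ (V ⊓ Subgroup.centralizer ((T : Subgroup G) : Set G)) → L ⊓ Subgroup.normalizer (T : Set G) ≤ Subgroup.normalizer (U : Set G) → U = ⊥ ∨ U = (V ⊓ Subgroup.centralizer ((T : Subgroup G) : Set G))) ∧ (∀ U : Subgroup G, (V ⊓ Subgroup.centralizer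 ((T : Subgroup G) : Set G)) ≤ U → U ≤ V → L ⊓ Subgroup.normalizer (T : Set G) ≤ Subgroup.normalizer (U : Set G) → U = (V ⊓ Subgroup.centralizer ((T : Subgroup G) : Set G)) ∨ U = V) := by
  obtain ⟨hLV, ρ, ψ, hρs, hker, hact⟩ := hnat
  have hρi := Cfsg.Agent.S2779.rho_injective ρ hker hf
  subst hT
  obtain ⟨v₀, hv₀, hfix⟩ := exists_fixed_vector ρ n hF S
  obtain ⟨w₀, hw₀⟩ := exists_dt_eq_one hv₀
  set T := (S : Subgroup ↥L).map L.subtype with hT
  set V₀ := V ⊓ Subgroup.centralizer (T : Set G) with hV₀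
  have hmemC : ∀ v : ↥V, (v : G) ∈ Subgroup.centralizer (T : Set G) ↔ ∃ c : F, θ ψ v = c • v₀ :=
    fun v => mem_centralizer_iff ρ ψ n hF hρs hρi S hact hv₀ hfix v
  have hscale : ∀ (l : ↥L) (a : F),
      ((ρ l : Matrix.SpecialLinearGroup (Fin 2) F) : Matrix (Fin 2) (Fin 2) F) *ᵥ v₀ = a • v₀ →
      (l : G) ∈ L ⊓ Subgroup.normalizer (T : Set G) :=
    fun l a hl => ⟨l.2, mem_normalizer_of_scale ρ n hF hρs hρi S hv₀ hfix hl⟩
  -- `V` is abelian
  have hVab : ∀ a ∈ V, ∀ b ∈ V, a * b = b * a := by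
    intro a ha b hb
    have h1 : θ ψ (⟨a, ha⟩ * ⟨b, hb⟩) = θ ψ (⟨b, hb⟩ * ⟨a, ha⟩) := by
      rw [θ_mul, θ_mul, add_comm]
    exact congrArg (fun z : ↥V => (z : G)) (θ_injective ψ h1)
  -- torus elements
  have htorus : ∀ a : F, a ≠ 0 → ∃ l : ↥L, (l : G) ∈ L ⊓ Subgroup.normalizer (T : Set G) ∧
      ((ρ l : Matrix.SpecialLinearGroup (Fin 2) F) : Matrix (Fin 2) (Fin 2) F) *ᵥ v₀ = a • v₀ := by
    intro a ha
    obtain ⟨h, hh1, -⟩ := exists_torus hw₀ ha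
    obtain ⟨l, rfl⟩ := hρs h
    exact ⟨l, hscale l a hh1, hh1⟩
  refine ⟨?_, ?_, ?_, ?_⟩
  · intro g hgL hgN
    set g' : ↥L := ⟨g, hgL⟩ with hg'
    set v₁ := ((ρ g' : Matrix.SpecialLinearGroup (Fin 2) F) : Matrix (Fin 2) (Fin 2) F) *ᵥ v₀
      with hv₁
    have hd : dt v₀ v₁ ≠ 0 := by
      intro hd
      obtain ⟨a, ha⟩ := eq_smul_of_dt_eq_zero hv₀ hd
      exact hgN (hscale g' a ha).2
    have hmemC1 : ∀ v : ↥V, (v : G) ∈ Subgroup.centralizer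
        ((T.map (MulAut.conj g).toMonoidHom : Subgroup G) : Set G) ↔ ∃ c : F, θ ψ v = c • v₁ := by
      intro v
      rw [mem_centralizer_map_conj_iff]
      have hmV : g⁻¹ * (v : G) * g ∈ V := by
        have h := conj_mem ρ ψ hact g'⁻¹ v
        have e : ((g'⁻¹ : ↥L) : G) * (v : G) * ((g'⁻¹ : ↥L) : G)⁻¹ = g⁻¹ * (v : G) * g := by
          show g⁻¹ * (v : G) * g⁻¹⁻¹ = g⁻¹ * (v : G) * g
          rw [inv_inv]
        rwa [e] at h
      have e1 : (⟨g⁻¹ * (v : G) * g, hmV⟩ : ↥V) =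
          ⟨((g'⁻¹ : ↥L) : G) * (v : G) * ((g'⁻¹ : ↥L) : G)⁻¹, conj_mem ρ ψ hact g'⁻¹ v⟩ := by
        apply Subtype.ext
        show g⁻¹ * (v : G) * g = g⁻¹ * (v : G) * g⁻¹⁻¹
        rw [inv_inv]
      have h1 : θ ψ ⟨g⁻¹ * (v : G) * g, hmV⟩ =
          (((ρ g')⁻¹ : Matrix.SpecialLinearGroup (Fin 2) F) : Matrix (Fin 2) (Fin 2) F) *ᵥ θ ψ v := by
        rw [e1, θ_conj ρ ψ hact g'⁻¹ v, map_inv]
      have h2 := hmemC ⟨g⁻¹ * (v : G) * g, hmV⟩
      rw [h1] at h2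
      rw [show (g⁻¹ * (v : G) * g ∈ Subgroup.centralizer (T : Set G)) ↔ _ from h2]
      constructor
      · rintro ⟨c, hc⟩
        refine ⟨c, ?_⟩
        rw [hv₁, ← Matrix.mulVec_smul, ← hc, mulVec_inv_mulVec]
      · rintro ⟨c, hc⟩
        refine ⟨c, ?_⟩
        rw [hc, Matrix.mulVec_smul, hv₁, inv_mulVec_mulVec]
    refine ⟨inf_le_left, inf_le_left, fun a ha b hb => hVab a ha.1 b hb.1, ?_, ?_⟩
    · rw [eq_bot_iff]
      rintro x ⟨⟨hxV, hx0⟩, ⟨-, hx1⟩⟩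
      obtain ⟨c, hc⟩ := (hmemC ⟨x, hxV⟩).mp hx0
      obtain ⟨c', hc'⟩ := (hmemC1 ⟨x, hxV⟩).mp hx1
      have h1 : dt v₀ (θ ψ ⟨x, hxV⟩) = 0 := by rw [hc, dt_smul_right, dt_self, mul_zero]
      rw [hc', dt_smul_right] at h1
      have hc'0 : c' = 0 := by
        rcases mul_eq_zero.mp h1 with h | h
        · exact h
        · exact absurd h hd
      rw [hc'0, zero_smul, ← θ_one ψ] at hc'
      rw [Subgroup.mem_bot]
      exact congrArg (fun z : ↥V => (z : G)) (θ_injective ψ hc')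
    · apply le_antisymm (sup_le inf_le_left inf_le_left)
      intro x hx
      have hcr := cramer v₀ v₁ (θ ψ ⟨x, hx⟩)
      obtain ⟨a, ha⟩ := θ_surjective ψ ((dt (θ ψ ⟨x, hx⟩) v₁ / dt v₀ v₁) • v₀)
      obtain ⟨b, hb⟩ := θ_surjective ψ ((dt v₀ (θ ψ ⟨x, hx⟩) / dt v₀ v₁) • v₁)
      have haV₀ : (a : G) ∈ V₀ := ⟨a.2, (hmemC a).mpr ⟨_, ha⟩⟩
      have hbV₁ : (b : G) ∈ V ⊓ Subgroup.centralizer
          ((T.map (MulAut.conj g).toMonoidHom : Subgroup G) : Set G) :=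
        ⟨b.2, (hmemC1 b).mpr ⟨_, hb⟩⟩
      have hab : θ ψ (a * b) = θ ψ ⟨x, hx⟩ := by
        rw [θ_mul, ha, hb]
        have : dt v₀ v₁ • ((dt (θ ψ ⟨x, hx⟩) v₁ / dt v₀ v₁) • v₀ +
            (dt v₀ (θ ψ ⟨x, hx⟩) / dt v₀ v₁) • v₁) = dt v₀ v₁ • θ ψ ⟨x, hx⟩ := by
          rw [smul_add, smul_smul, smul_smul, mul_div_cancel₀ _ hd, mul_div_cancel₀ _ hd, hcr]
        exact smul_right_injective _ hd this
      have : (a : G) * (b : G) = x := congrArg (fun z : ↥V => (z : G)) (θ_injective ψ hab)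
      rw [← this]
      exact Subgroup.mul_mem_sup haV₀ hbV₁
  · intro x hxL hx1 hcop
    rw [eq_bot_iff]
    rintro v ⟨hvV, hvx⟩
    rw [Subgroup.mem_bot]
    by_contra hv1
    set x' : ↥L := ⟨x, hxL⟩ with hx'
    have hu0 : θ ψ ⟨v, hvV⟩ ≠ 0 := by
      intro h
      rw [← θ_one ψ] at h
      exact hv1 (congrArg (fun z : ↥V => (z : G)) (θ_injective ψ h))
    have hfixu : ((ρ x' : Matrix.SpecialLinearGroup (Fin 2) F) : Matrix (Fin 2) (Fin 2) F) *ᵥ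
        θ ψ ⟨v, hvV⟩ = θ ψ ⟨v, hvV⟩ := by
      rw [← commute_iff ρ ψ hact x' ⟨v, hvV⟩]
      exact ((Subgroup.mem_centralizer_iff.mp hvx) x rfl).symm
    obtain ⟨u', hu'⟩ := exists_dt_eq_one hu0
    have hd : dt (θ ψ ⟨v, hvV⟩) u' ≠ 0 := by rw [hu']; exact one_ne_zero
    obtain ⟨c, hc⟩ := exists_smul_of_fix hu0 hfixu u'
    have hpow := pow_mulVec_of_fix hfixu hc (orderOf x)
    have hx'pow : x' ^ orderOf x = 1 := by
      apply Subtype.ext
      show x ^ orderOf x = 1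
      exact pow_orderOf_eq_one x
    rw [← map_pow, hx'pow, map_one, Matrix.SpecialLinearGroup.coe_one, Matrix.one_mulVec] at hpow
    have hkc : ((orderOf x : F) * c) • θ ψ ⟨v, hvV⟩ = 0 := by
      have h := hpow
      nth_rewrite 1 [← add_zero u'] at h
      exact (add_left_cancel h).symm
    rcases smul_eq_zero.mp hkc with h | h
    · rcases mul_eq_zero.mp h with h | h
      · haveI := charP_of_card_eq_prime_pow hF
        rw [CharP.cast_eq_zero_iff F p] at h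
        have hp1 := Nat.Coprime.eq_one_of_dvd hcop.symm h
        exact (Fact.out : p.Prime).one_lt.ne' hp1
      · rw [h, zero_smul, sub_eq_zero] at hc
        have h1 := eq_one_of_fix hd hfixu hc
        have h2 : x' = 1 := hρi (by rw [h1, map_one])
        exact hx1 (congrArg (fun z : ↥L => (z : G)) h2)
    · exact hu0 h
  · intro U hUV₀ hN
    by_cases hU : U = ⊥
    · exact Or.inl hU
    right
    obtain ⟨⟨u, hu⟩, hu1⟩ := (Subgroup.ne_bot_iff_exists_ne_one).mp hU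
    have hu1' : u ≠ 1 := fun h => hu1 (Subtype.ext h)
    have huV : u ∈ V := (hUV₀ hu).1
    obtain ⟨c, hc⟩ := (hmemC ⟨u, huV⟩).mp (hUV₀ hu).2
    have hc0 : c ≠ 0 := by
      rintro rfl
      rw [zero_smul, ← θ_one ψ] at hc
      exact hu1' (congrArg (fun z : ↥V => (z : G)) (θ_injective ψ hc))
    apply le_antisymm hUV₀
    intro x hx
    obtain ⟨c', hc'⟩ := (hmemC ⟨x, hx.1⟩).mp hx.2
    by_cases hc'0 : c' = 0
    · rw [hc'0, zero_smul, ← θ_one ψ] at hc'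
      have : x = 1 := congrArg (fun z : ↥V => (z : G)) (θ_injective ψ hc')
      rw [this]; exact U.one_mem
    obtain ⟨l, hlN, hl⟩ := htorus (c' / c) (div_ne_zero hc'0 hc0)
    have h1 : (l : G) * u * (l : G)⁻¹ ∈ U := (Subgroup.mem_normalizer_iff.mp (hN hlN) u).mp hu
    have h2 := θ_conj ρ ψ hact l ⟨u, huV⟩
    rw [hc, Matrix.mulVec_smul, hl, smul_smul, mul_div_cancel₀ _ hc0, ← hc'] at h2
    have h3 : (l : G) * u * (l : G)⁻¹ = x := congrArg (fun z : ↥V => (z : G)) (θ_injective ψ h2)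
    rw [← h3]; exact h1
  · intro U hV₀U hUV hN
    by_cases hU : U ≤ V₀
    · exact Or.inl (le_antisymm hU hV₀U)
    right
    apply le_antisymm hUV
    obtain ⟨u, hu, huV₀⟩ := SetLike.not_le_iff_exists.mp hU
    have huV : u ∈ V := hUV hu
    have he : dt v₀ (θ ψ ⟨u, huV⟩) ≠ 0 := by
      intro he
      exact huV₀ ⟨huV, (hmemC ⟨u, huV⟩).mpr (eq_smul_of_dt_eq_zero hv₀ he)⟩
    intro x hx
    by_cases hβ : dt v₀ (θ ψ ⟨x, hx⟩) = 0
    · exact hV₀U ⟨hx, (hmemC ⟨x, hx⟩).mpr (eq_smul_of_dt_eq_zero hv₀ hβ)⟩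
    obtain ⟨l, hlN, hl⟩ := htorus (dt v₀ (θ ψ ⟨u, huV⟩) / dt v₀ (θ ψ ⟨x, hx⟩)) (div_ne_zero he hβ)
    have h1 : (l : G) * u * (l : G)⁻¹ ∈ U := (Subgroup.mem_normalizer_iff.mp (hN hlN) u).mp hu
    have h1V : (l : G) * u * (l : G)⁻¹ ∈ V := hUV h1
    have h2 := θ_conj ρ ψ hact l ⟨u, huV⟩
    have h3 := dt_mulVec (ρ l) v₀ (θ ψ ⟨u, huV⟩)
    rw [hl, ← h2, dt_smul_left] at h3
    have h4 : dt v₀ (θ ψ ⟨(l : G) * u * (l : G)⁻¹, h1V⟩) = dt v₀ (θ ψ ⟨x, hx⟩) := by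
      field_simp at h3
      exact h3
    have h5 : x * ((l : G) * u * (l : G)⁻¹)⁻¹ ∈ V₀ := by
      have hmV : x * ((l : G) * u * (l : G)⁻¹)⁻¹ ∈ V := V.mul_mem hx (V.inv_mem h1V)
      refine ⟨hmV, (hmemC ⟨_, hmV⟩).mpr ?_⟩
      apply eq_smul_of_dt_eq_zero hv₀
      have : (⟨x * ((l : G) * u * (l : G)⁻¹)⁻¹, hmV⟩ : ↥V) =
          ⟨x, hx⟩ * (⟨(l : G) * u * (l : G)⁻¹, h1V⟩ : ↥V)⁻¹ := rfl
      rw [this, θ_mul, θ_inv, ← sub_eq_add_neg, dt_sub_right, h4, sub_self]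
    have h6 := U.mul_mem (hV₀U h5) h1
    rwa [inv_mul_cancel_right] at h6

end Cfsg.Agent.S2780
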