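import Mathlib
import Cfsg.Agent.Lib.Helper22.OddCyclicMax
import Cfsg.Agent.Lib.Helper22.MaxClass
import Cfsg.Agent.Lib.Helper22.PPrimeCore
import Cfsg.Agent.Lib.Helper22.ClassTwo
import Cfsg.Statements.S0638
-- import your own Cfsg.Agent.* helpers here

set_option autoImplicit false
open Cfsg

namespace Cfsg.Agent.S0638

open Subgroup Cfsg.Agent.Helper22
open scoped commutatorElement

/-- a finite cyclic group of exponent `p` has at most `p` elements -/
theorem card_le_of_isCyclic_of_exp {X : Type*} [Group X] [Finite X] (p : ℕ) (hp : 0 < p)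
    (hX : IsCyclic X) (hexp : ∀ x : X, x ^ p = 1) : Nat.card X ≤ p := by
  obtain ⟨g, hg⟩ := hX.exists_generator
  rw [← orderOf_eq_card_of_forall_mem_zpowers hg]
  exact Nat.le_of_dvd hp (orderOf_dvd_of_pow_eq_one (hexp g))

/-- a subgroup of exponent `p` of a metacyclic group has order at most `p ^ 2` -/
theorem card_le_of_metacyclic_of_exp {R : Type*} [Group R] [Finite R] (p : ℕ) (hp : 0 < p)
    (hm : Cfsg.IsMetacyclic R) (T : Subgroup R) (hexp : ∀ t ∈ T, t ^ p = 1) :
    Nat.card T ≤ p ^ 2 := by
  obtain ⟨N, hNn, hNc, hQc⟩ := hm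
  haveI := hNn
  haveI := hNc
  haveI := hQc
  have h1 := (N.subgroupOf T).card_mul_index
  have h2 : Nat.card (N.subgroupOf T) ≤ p := by
    apply card_le_of_isCyclic_of_exp p hp
    · let f : (N.subgroupOf T) →* N :=
        { toFun := fun x => ⟨(x : T), x.2⟩
          map_one' := rfl
          map_mul' := fun _ _ => rfl }
      apply isCyclic_of_injective f
      intro a b hab
      have := congrArg (fun z : N => (z : R)) hab
      exact Subtype.ext (Subtype.ext this)
    · intro x
      ext
      have := hexp (x : T) (x : T).2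
      simpa using this
  have h3 : (N.subgroupOf T).index ≤ p := by
    rw [Subgroup.index_eq_card]
    haveI : (N.subgroupOf T).Normal := inferInstance
    apply card_le_of_isCyclic_of_exp p hp
    · let f : T ⧸ N.subgroupOf T →* R ⧸ N :=
        QuotientGroup.map (N.subgroupOf T) N T.subtype (fun x hx => hx)
      apply isCyclic_of_injective f
      rw [injective_iff_map_eq_one]
      intro q hq
      obtain ⟨t, rfl⟩ := QuotientGroup.mk_surjective q
      have h4 : f (QuotientGroup.mk t) = QuotientGroup.mk (t : R) := rfl
      rw [h4] at hq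
      have h5 : (t : R) ∈ N := (QuotientGroup.eq_one_iff _).mp hq
      exact (QuotientGroup.eq_one_iff t).mpr h5
    · intro q
      obtain ⟨t, rfl⟩ := QuotientGroup.mk_surjective q
      rw [← QuotientGroup.mk_pow]
      have : t ^ p = 1 := by
        ext
        have := hexp (t : R) t.2
        simpa using this
      rw [this]; rfl
  calc Nat.card T = Nat.card (N.subgroupOf T) * (N.subgroupOf T).index := h1.symm
    _ ≤ p * p := Nat.mul_le_mul h2 h3
    _ = p ^ 2 := (pow_two p).symm

/-- For odd p, in a non-cyclic metacyclic p-group the elements of order dividing p generate an elementary abelian subgroup of order p². -/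
theorem result {R : Type*} [Group R] [Finite R] {p : ℕ} [Fact p.Prime] (hp : p ≠ 2) (hR : IsPGroup p R) (hm : Cfsg.IsMetacyclic R) (hnc : ¬ IsCyclic R) : Cfsg.IsElementaryAbelian p (Cfsg.omegaOne p (⊤ : Subgroup R)) ∧ Nat.card ↥(Cfsg.omegaOne p (⊤ : Subgroup R)) = p ^ 2 := by
  classical
  have hpp : p.Prime := Fact.out
  have htopnc : ¬ IsCyclic (⊤ : Subgroup R) := by
    intro h
    apply hnc
    haveI := h
    exact isCyclic_of_surjective (Subgroup.topEquiv : (⊤ : Subgroup R) ≃* R)
      Subgroup.topEquiv.surjective
  obtain ⟨A, -, hAn, ⟨hAc, hAexp⟩, hAcard⟩ :=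
    exists_normal_elementary_sq hp hR (⊤ : Subgroup R) htopnc
  haveI := hAn
  -- every element of order dividing `p` lies in `A`
  have hkey : ∀ x : R, x ^ p = 1 → x ∈ A := by
    intro x hx
    by_contra hxA
    have hx1 : x ≠ 1 := fun h => hxA (h ▸ one_mem A)
    have hxo : orderOf x = p := orderOf_eq_prime hx hx1
    have hdisj : zpowers x ⊓ A = ⊥ := by
      by_contra hne
      have h1 : Nat.card ↥(zpowers x ⊓ A) ∣ p := by
        have := card_dvd_of_le (inf_le_left : zpowers x ⊓ A ≤ zpowers x)
        rwa [Nat.card_zpowers, hxo] at this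
      have h2 : Nat.card ↥(zpowers x ⊓ A) ≠ 1 := fun h => hne ((zpowers x ⊓ A).card_eq_one.mp h)
      have h3 : Nat.card ↥(zpowers x ⊓ A) = p := by
        rcases (Nat.dvd_prime hpp).mp h1 with h | h
        · exact absurd h h2
        · exact h
      have h4 : zpowers x ⊓ A = zpowers x := by
        apply eq_of_le_of_card_ge inf_le_left
        rw [h3, Nat.card_zpowers, hxo]
      apply hxA
      have : x ∈ zpowers x ⊓ A := by rw [h4]; exact mem_zpowers x
      exact this.2
    set T := zpowers x ⊔ A with hT
    have hTcard : Nat.card T = p ^ 3 := by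
      rw [hT, card_sup_eq_mul (zpowers x) A hdisj, Nat.card_zpowers, hxo, hAcard]
      ring
    have hTp : IsPGroup p T := hR.to_subgroup T
    -- commutators in `T` are central
    have hcT : ∀ a b : T, ⁅a, b⁆ ∈ center T := by
      intro a b
      by_cases hTc : IsMulCommutative T
      · rw [commutatorElement_eq_one_iff_commute.mpr (hTc.is_comm.comm a b)]
        exact one_mem _
      · have := comm_mem_center_of_card_cube p hTcard hTc a b
        rw [commutatorElement_def]
        exact this
    -- `T` is generated by elements of order dividing `p`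
    have hgen : ∀ t : T, t ∈ closure {y : T | y ^ p = 1} := by
      have hle : T ≤ (closure {y : T | y ^ p = 1}).map T.subtype := by
        rw [hT]
        apply sup_le
        · rw [zpowers_le]
          have hxT : x ∈ T := (le_sup_left : zpowers x ≤ T) (mem_zpowers x)
          refine ⟨⟨x, hxT⟩, subset_closure ?_, rfl⟩
          show (⟨x, hxT⟩ : T) ^ p = 1
          ext
          simpa using hx
        · intro y hy
          have hyT : y ∈ T := (le_sup_right : A ≤ T) hy
          refine ⟨⟨y, hyT⟩, subset_closure ?_, rfl⟩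
          show (⟨y, hyT⟩ : T) ^ p = 1
          ext
          simpa using hAexp y hy
      intro t
      obtain ⟨s, hs, hst⟩ := hle t.2
      have : s = t := Subtype.ext hst
      rw [← this]; exact hs
    have hexpT : ∀ t ∈ T, t ^ p = 1 := by
      intro t ht
      have := pow_prime_eq_one_of_mem_closure hp hcT ⟨t, ht⟩ (hgen ⟨t, ht⟩)
      have h2 := congrArg Subtype.val this
      simpa using h2
    have hle := card_le_of_metacyclic_of_exp p hpp.pos hm T hexpT
    rw [hTcard] at hle
    have : p ^ 2 < p ^ 3 := Nat.pow_lt_pow_right hpp.one_lt (by norm_num)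
    omega
  have hom : Cfsg.omegaOne p (⊤ : Subgroup R) = A := by
    unfold Cfsg.omegaOne
    have hset : {x : R | x ∈ (⊤ : Subgroup R) ∧ x ^ p = 1} = (A : Set R) := by
      ext x
      constructor
      · rintro ⟨-, hx⟩
        exact hkey x hx
      · intro hx
        exact ⟨mem_top x, hAexp x hx⟩
    rw [hset, closure_eq]
  rw [hom]
  exact ⟨⟨hAc, hAexp⟩, hAcard⟩

end Cfsg.Agent.S0638
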