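import Mathlib
import Cfsg.Statements.S0553
import Cfsg.Agent.Lib.Helper3.Hall

set_option autoImplicit false
open Cfsg

namespace Cfsg.Agent.S0553

open Cfsg.Agent.Helper3

universe u

theorem isCoatom_comap_mk' {G : Type u} [Group G] (N : Subgroup G) [N.Normal]
    (M : Subgroup (G ⧸ N)) (hM : IsCoatom M) : IsCoatom (M.comap (QuotientGroup.mk' N)) := by
  have hs : Function.Surjective (QuotientGroup.mk' N) := QuotientGroup.mk'_surjective N
  constructor
  · intro h
    apply hM.1
    rw [← Subgroup.map_comap_eq_self_of_surjective hs M, h, ← MonoidHom.range_eq_map,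
      MonoidHom.range_eq_top.mpr hs]
  · intro L hL
    have hNL : N ≤ L := by
      have := Subgroup.ker_le_comap (QuotientGroup.mk' N) M
      rw [QuotientGroup.ker_mk'] at this
      exact this.trans hL.le
    have hcm : (L.map (QuotientGroup.mk' N)).comap (QuotientGroup.mk' N) = L := by
      rw [Subgroup.comap_map_eq, QuotientGroup.ker_mk', sup_of_le_left hNL]
    have h1 : M ≤ L.map (QuotientGroup.mk' N) := by
      rw [← Subgroup.map_comap_eq_self_of_surjective hs M]
      exact Subgroup.map_mono hL.le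
    have h2 : M ≠ L.map (QuotientGroup.mk' N) := by
      intro h
      apply hL.ne
      rw [h, hcm]
    have h3 := hM.2 _ (lt_of_le_of_ne h1 h2)
    rw [← hcm, h3, Subgroup.comap_top]

theorem aux (n : ℕ) : ∀ (G : Type u) [Group G] [Finite G] [Group.IsSolvable G] [Nontrivial G],
    Nat.card G = n → (∀ M : Subgroup G, IsCoatom M → (Nat.card M).Coprime M.index) →
    ∃ p : ℕ, p.Prime ∧ p ∣ Nat.card G ∧ ∃ P : Sylow p G, (P : Subgroup G).Normal := by
  induction n using Nat.strong_induction_on with
  | _ n ih =>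
  intro G _ _ _ _ hcard h
  obtain ⟨N, hNn, hNbot, hNmin⟩ := exists_minimal_normal (G := G)
  have hc := commute_of_minimal_normal N hNbot hNmin
  obtain ⟨p, k, hp, hk, hNcard, -⟩ := card_eq_prime_pow_of_minimal_normal N hNbot hNmin hc
  have hpF : Fact p.Prime := ⟨hp⟩
  have hpG : p ∣ Nat.card G := by
    have : p ∣ Nat.card N := by rw [hNcard]; exact dvd_pow_self p hk.ne'
    exact this.trans (Subgroup.card_subgroup_dvd_card N)
  by_cases hex : ∃ M : Subgroup G, IsCoatom M ∧ ¬ N ≤ M
  · obtain ⟨M, hM, hNM⟩ := hex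
    have hsup : N ⊔ M = ⊤ := hM.2 _ (lt_of_le_of_ne le_sup_right (fun h => hNM (h ▸ le_sup_left)))
    have hinfn : (N ⊓ M).Normal := by
      constructor
      intro x hx g
      have hg : g ∈ ((N ⊔ M : Subgroup G) : Set G) := by rw [hsup]; trivial
      rw [Subgroup.normal_mul] at hg
      obtain ⟨a, ha, m, hm, rfl⟩ := hg
      have h1 : m * x * m⁻¹ ∈ N ⊓ M :=
        ⟨hNn.conj_mem x hx.1 m, M.mul_mem (M.mul_mem hm hx.2) (M.inv_mem hm)⟩
      have h2 : a * (m * x * m⁻¹) = (m * x * m⁻¹) * a := hc a ha _ h1.1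
      have e : a * m * x * (a * m)⁻¹ = m * x * m⁻¹ := by
        calc a * m * x * (a * m)⁻¹ = (a * (m * x * m⁻¹)) * a⁻¹ := by group
          _ = (m * x * m⁻¹) * a * a⁻¹ := by rw [h2]
          _ = _ := by group
      rw [e]; exact h1
    have hinf : N ⊓ M = ⊥ := by
      rcases hNmin (N ⊓ M) hinfn inf_le_left with h1 | h1
      · exact h1
      · exact absurd (h1 ▸ inf_le_right) hNM
    have hcompl : Subgroup.IsComplement' N M := by
      apply Subgroup.isComplement'_of_disjoint_and_mul_eq_univ (disjoint_iff.mpr hinf)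
      rw [← Subgroup.normal_mul, hsup, Subgroup.coe_top]
    have hidx : M.index = p ^ k := by rw [hcompl.index_eq_card, hNcard]
    have hcop := h M hM
    rw [hidx] at hcop
    have hpM : ¬ p ∣ Nat.card M := by
      intro hd
      have : p ∣ Nat.gcd (Nat.card M) (p ^ k) := Nat.dvd_gcd hd (dvd_pow_self p hk.ne')
      rw [hcop] at this
      exact hp.one_lt.ne' (Nat.dvd_one.mp this)
    -- N is a Sylow p-subgroup
    obtain ⟨P⟩ : Nonempty (Sylow p G) := inferInstance
    have hNP : N ≤ (P : Subgroup G) :=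
      IsPGroup.le_sylow_of_normal (IsPGroup.of_card hNcard) P
    have hPcard : Nat.card (P : Subgroup G) = p ^ k := by
      rw [P.card_eq_multiplicity]
      congr 1
      have h1 := Subgroup.card_mul_index M
      rw [hidx] at h1
      rw [← h1, Nat.factorization_mul Nat.card_pos.ne' (pow_ne_zero _ hp.ne_zero)]
      simp [Nat.factorization_eq_zero_of_not_dvd hpM, hp.factorization_pow]
    have hPN : (P : Subgroup G) = N := by
      symm
      apply Subgroup.eq_of_le_of_card_ge hNP
      rw [hPcard, hNcard]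
    exact ⟨p, hp, hpG, P, hPN ▸ hNn⟩
  · push Not at hex
    -- N lies in every maximal subgroup
    have hQnt : Nontrivial (G ⧸ N) := by
      by_contra hcon
      rw [not_nontrivial_iff_subsingleton] at hcon
      have hNtop : N = ⊤ := by
        rw [eq_top_iff]
        intro g _
        rw [← QuotientGroup.ker_mk' N, MonoidHom.mem_ker]
        exact Subsingleton.elim _ _
      rcases eq_top_or_exists_le_coatom (⊥ : Subgroup G) with h1 | ⟨M, hM, -⟩
      · exact bot_ne_top h1
      · have := hex M hM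
        rw [hNtop, top_le_iff] at this
        exact hM.1 this
    have hlt : Nat.card (G ⧸ N) < n := by
      rw [← hcard]
      apply card_quotient_lt
      rw [hNcard]
      exact Nat.one_lt_pow hk.ne' hp.one_lt
    have hQ : ∀ M : Subgroup (G ⧸ N), IsCoatom M → (Nat.card M).Coprime M.index := by
      intro M hM
      have hM' := isCoatom_comap_mk' N M hM
      have h1 := h _ hM'
      rw [card_comap_mk', Subgroup.index_comap_of_surjective M (QuotientGroup.mk'_surjective N)] at h1
      exact Nat.Coprime.coprime_dvd_left (Dvd.intro _ rfl) h1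
    obtain ⟨q, hq, hqd, Qbar, hQbar⟩ := ih _ hlt (G ⧸ N) rfl hQ
    have hqF : Fact q.Prime := ⟨hq⟩
    have hqG : q ∣ Nat.card G := by
      rw [Subgroup.card_eq_card_quotient_mul_card_subgroup N]
      exact Dvd.dvd.mul_right hqd _
    obtain ⟨Q₁⟩ : Nonempty (Sylow q G) := inferInstance
    refine ⟨q, hq, hqG, Q₁, ?_⟩
    have hsurj := QuotientGroup.mk'_surjective N
    -- the image of Q₁ is normal in G/N
    have himg : ((Q₁.mapSurjective hsurj : Sylow q (G ⧸ N)) : Subgroup (G ⧸ N)).Normal := by
      obtain ⟨g, hg⟩ := MulAction.exists_smul_eq (G ⧸ N) Qbar (Q₁.mapSurjective hsurj)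
      rw [← hg, Sylow.smul_eq_of_normal]
      exact hQbar
    rw [Sylow.coe_mapSurjective] at himg
    set Q : Subgroup G := ((Q₁ : Subgroup G).map (QuotientGroup.mk' N)).comap (QuotientGroup.mk' N)
      with hQdef
    have hQn : Q.Normal := himg.comap _
    have hQ₁Q : (Q₁ : Subgroup G) ≤ Q := Subgroup.le_comap_map _ _
    have hfr := Sylow.normalizer_sup_eq_top (Q₁.subtype hQ₁Q)
    rw [Sylow.coe_subtype, Subgroup.subgroupOf_map_subtype, inf_of_le_left hQ₁Q] at hfr
    -- Q = Q₁ ⊔ N
    have hQeq : Q = (Q₁ : Subgroup G) ⊔ N := by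
      rw [hQdef, Subgroup.comap_map_eq, QuotientGroup.ker_mk']
    -- the normalizer of Q₁ is everything
    have hnorm : Subgroup.normalizer ((Q₁ : Subgroup G) : Set G) = ⊤ := by
      rcases eq_top_or_exists_le_coatom (Subgroup.normalizer ((Q₁ : Subgroup G) : Set G)) with h1 | ⟨M, hM, hle⟩
      · exact h1
      · exfalso
        apply hM.1
        rw [eq_top_iff, ← hfr, hQeq]
        apply sup_le hle
        exact sup_le (Subgroup.le_normalizer.trans hle) (hex M hM)
    exact Subgroup.normalizer_eq_top_iff.mp hnorm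

theorem result {G : Type*} [Group G] [Finite G] [Group.IsSolvable G] [Nontrivial G] (h : ∀ M : Subgroup G, IsCoatom M → (Nat.card M).Coprime M.index) : ∃ p : ℕ, p.Prime ∧ p ∣ Nat.card G ∧ ∀ P : Sylow p G, (P : Subgroup G).Normal := by
  obtain ⟨p, hp, hpd, P, hP⟩ := aux _ G rfl h
  have : Fact p.Prime := ⟨hp⟩
  refine ⟨p, hp, hpd, ?_⟩
  intro P'
  obtain ⟨g, hg⟩ := MulAction.exists_smul_eq G P P'
  rw [← hg, Sylow.smul_eq_of_normal]
  exact hP

end Cfsg.Agent.S0553
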