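import Mathlib
import Cfsg.Statements.S0580
import Cfsg.Agent.Lib.Helper3.Supersolvable2
import Cfsg.Agent.S0553

set_option autoImplicit false
open Cfsg

namespace Cfsg.Agent.S0580

open Cfsg.Agent.Helper3

universe u

/-- the Sylow subgroup for the largest prime is normal -/
theorem sylow_normal {G : Type u} [Group G] [Finite G]
    (h : ∀ M : Subgroup G, IsCoatom M → M.index.Prime) (p : ℕ) [hpF : Fact p.Prime]
    (hmax : ∀ q : ℕ, q.Prime → q ∣ Nat.card G → q ≤ p) (P : Sylow p G) :
    (P : Subgroup G).Normal := by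
  have hp : p.Prime := hpF.out
  rw [← Subgroup.normalizer_eq_top_iff]
  rcases eq_top_or_exists_le_coatom (Subgroup.normalizer ((P : Subgroup G) : Set G)) with h1 | ⟨M, hM, hle⟩
  · exact h1
  exfalso
  have hq := h M hM
  have hPM : (P : Subgroup G) ≤ M := Subgroup.le_normalizer.trans hle
  -- counting Sylow subgroups in G and in M
  have c1 : Nat.card (Sylow p G) = (Subgroup.normalizer ((P : Subgroup G) : Set G)).index :=
    P.card_eq_index_normalizer
  have c2 : Nat.card (Sylow p M) =
      (Subgroup.normalizer ((P : Subgroup G) : Set G)).relIndex M := by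
    have e : Subgroup.normalizer ((P.subtype hPM : Sylow p M) : Set M) =
        (Subgroup.normalizer ((P : Subgroup G) : Set G)).subgroupOf M := by
      rw [Subgroup.subgroupOf_normalizer_eq hPM]; rfl
    rw [(P.subtype hPM).card_eq_index_normalizer, e]
    rfl
  have m1 : Nat.card (Sylow p G) ≡ 1 [MOD p] := card_sylow_modEq_one p G
  have m2 : Nat.card (Sylow p M) ≡ 1 [MOD p] := card_sylow_modEq_one p M
  have hmul := Subgroup.relIndex_mul_index hle
  rw [← c1, ← c2] at hmul
  have m3 : M.index ≡ 1 [MOD p] := by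
    have : Nat.card (Sylow p M) * M.index ≡ 1 * M.index [MOD p] := Nat.ModEq.mul_right _ m2
    rw [hmul, one_mul] at this
    exact this.symm.trans m1
  have hqG : M.index ∣ Nat.card G := Subgroup.index_dvd_card M
  have hle' := hmax _ hq hqG
  have h1 : M.index % p = 1 % p := m3
  rw [Nat.mod_eq_of_lt hp.one_lt] at h1
  have hqlt : M.index < p := by
    rcases lt_or_eq_of_le hle' with h2 | h2
    · exact h2
    · rw [h2, Nat.mod_self] at h1; omega
  rw [Nat.mod_eq_of_lt hqlt] at h1
  rw [h1] at hq
  exact Nat.not_prime_one hq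

theorem aux (n : ℕ) : ∀ (G : Type u) [Group G] [Finite G], Nat.card G = n →
    (∀ M : Subgroup G, IsCoatom M → M.index.Prime) → Group.IsSolvable G := by
  induction n using Nat.strong_induction_on with
  | _ n ih =>
  intro G _ _ hcard h
  by_cases hnt : Nontrivial G
  · have hn1 : n ≠ 1 := by
      intro h1
      rw [h1] at hcard
      exact not_subsingleton G (Nat.card_eq_one_iff_unique.mp hcard).1
    have hn0 : n ≠ 0 := by rw [← hcard]; exact Nat.card_pos.ne'
    have hne : n.primeFactors.Nonempty :=
      ⟨n.minFac, Nat.mem_primeFactors.mpr ⟨Nat.minFac_prime hn1, Nat.minFac_dvd n, hn0⟩⟩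
    set p := n.primeFactors.max' hne with hp
    have hpmem := Finset.max'_mem n.primeFactors hne
    rw [← hp, Nat.mem_primeFactors] at hpmem
    obtain ⟨hpp, hpn, -⟩ := hpmem
    have hmax : ∀ q : ℕ, q.Prime → q ∣ Nat.card G → q ≤ p := fun q hq hqn =>
      Finset.le_max' _ _ (Nat.mem_primeFactors.mpr ⟨hq, hcard ▸ hqn, hn0⟩)
    have hpF : Fact p.Prime := ⟨hpp⟩
    obtain ⟨P⟩ : Nonempty (Sylow p G) := inferInstance
    have hPn : (P : Subgroup G).Normal := sylow_normal h p hmax P
    have hPcard : 1 < Nat.card (P : Subgroup G) := by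
      rw [P.card_eq_multiplicity]
      apply Nat.one_lt_pow _ hpp.one_lt
      have := (hpp.dvd_iff_one_le_factorization Nat.card_pos.ne').mp (hcard ▸ hpn)
      omega
    have hlt : Nat.card (G ⧸ (P : Subgroup G)) < n := hcard ▸ card_quotient_lt _ hPcard
    have hQ : ∀ M : Subgroup (G ⧸ (P : Subgroup G)), IsCoatom M → M.index.Prime := by
      intro M hM
      have := h _ (Cfsg.Agent.S0553.isCoatom_comap_mk' (P : Subgroup G) M hM)
      rwa [Subgroup.index_comap_of_surjective M (QuotientGroup.mk'_surjective _)] at this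
    have hsQ : Group.IsSolvable (G ⧸ (P : Subgroup G)) := ih _ hlt _ rfl hQ
    have hnP : Group.IsNilpotent (P : Subgroup G) := P.isPGroup'.isNilpotent
    have hsP : Group.IsSolvable (P : Subgroup G) := inferInstance
    apply Group.isSolvable_of_ker_le_range (P : Subgroup G).subtype (QuotientGroup.mk' (P : Subgroup G))
    rw [QuotientGroup.ker_mk', Subgroup.range_subtype]
  · rw [not_nontrivial_iff_subsingleton] at hnt
    infer_instance

theorem result {G : Type*} [Group G] [Finite G] (h : ∀ M : Subgroup G, IsCoatom M → M.index.Prime) : Group.IsSolvable G :=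
  aux _ G rfl h

end Cfsg.Agent.S0580
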