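import Mathlib
import Cfsg.Statements.S0584

set_option autoImplicit false
open Cfsg

namespace Cfsg.Agent.S0584

theorem result {G : Type*} [Group G] [Finite G] (A B : Subgroup G) [A.Normal] [B.Normal] (hBA : B ≤ A) (hB : B ≤ frattini G) (h : Group.IsNilpotent (↥A ⧸ B.subgroupOf A)) : Group.IsNilpotent A := by
  have q := (Group.isNilpotent_of_finite_tfae (G := A)).out 0 3
  rw [q]; clear q
  intro p hp P
  set B' : Subgroup A := B.subgroupOf A with hB'
  -- Step 1: K = P ⊔ B' is normal in A
  let f : A →* A ⧸ B' := QuotientGroup.mk' B'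
  have hf : Function.Surjective f := QuotientGroup.mk'_surjective B'
  have hQn : ((P.mapSurjective hf : Sylow p (A ⧸ B')) : Subgroup (A ⧸ B')).Normal := inferInstance
  have hKn : (((P : Subgroup A).map f).comap f).Normal := by
    rw [← Sylow.coe_mapSurjective hf]
    exact hQn.comap f
  have hKeq : ((P : Subgroup A).map f).comap f = (P : Subgroup A) ⊔ B' := by
    rw [Subgroup.comap_map_eq, QuotientGroup.ker_mk']
  rw [hKeq] at hKn
  -- Step 2: Frattini argument inside A
  have hPK : (P : Subgroup A) ≤ (P : Subgroup A) ⊔ B' := le_sup_left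
  have h2 : Subgroup.normalizer ((P : Subgroup A) : Set A) ⊔ ((P : Subgroup A) ⊔ B') = ⊤ :=
    Sylow.normalizer_sup_eq_top' P hPK
  have h2' : Subgroup.normalizer ((P : Subgroup A) : Set A) ⊔ B' = ⊤ := by
    rw [← h2, ← sup_assoc, sup_of_le_left (Subgroup.le_normalizer : (P : Subgroup A) ≤ _)]
  -- Step 3: Frattini argument in G
  have h3 : Subgroup.normalizer (((P : Subgroup A).map A.subtype : Subgroup G) : Set G) ⊔ A = ⊤ :=
    Sylow.normalizer_sup_eq_top P
  have hA : A ≤ Subgroup.normalizer (((P : Subgroup A).map A.subtype : Subgroup G) : Set G) ⊔ B := by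
    have : A ≤ (⊤ : Subgroup A).map A.subtype := by
      rw [← MonoidHom.range_eq_map, Subgroup.range_subtype]
    refine this.trans ?_
    rw [← h2', Subgroup.map_sup]
    apply sup_le_sup
    · exact Subgroup.le_normalizer_map _
    · rw [hB', Subgroup.map_subgroupOf_eq_of_le hBA]
  have h4 : Subgroup.normalizer (((P : Subgroup A).map A.subtype : Subgroup G) : Set G) ⊔ frattini G = ⊤ := by
    rw [eq_top_iff, ← h3]
    apply sup_le le_sup_left
    exact hA.trans (sup_le_sup_left hB _)
  have h5 := frattini_nongenerating h4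
  have P_normal_in_G : ((P : Subgroup A).map A.subtype).Normal := Subgroup.normalizer_eq_top_iff.mp h5
  exact P_normal_in_G.of_map_subtype

end Cfsg.Agent.S0584
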