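import Mathlib
import Cfsg.Statements.S0579
import Cfsg.Agent.Lib.Helper3.Huppert
import Cfsg.Agent.Lib.Helper3.Supersolvable4
import Cfsg.Agent.Lib.Helper3.Supersolvable6
import Cfsg.Agent.Lib.Helper3.CoverAvoid
import Cfsg.Agent.S0580
import Cfsg.Agent.S0583
import Cfsg.Agent.S0584
import Cfsg.Agent.S0553

set_option autoImplicit false
open Cfsg

namespace Cfsg.Agent.S0579

open Cfsg.Agent.Helper3
open scoped commutatorElement

universe u

/-- A group embedding into a product of two supersolvable quotients is supersolvable. -/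
theorem isSupersolvable_of_inf_eq_bot {G : Type u} [Group G] (N₁ N₂ : Subgroup G) [N₁.Normal]
    [N₂.Normal] (h : N₁ ⊓ N₂ = ⊥) (h₁ : Cfsg.IsSupersolvable (G ⧸ N₁))
    (h₂ : Cfsg.IsSupersolvable (G ⧸ N₂)) : Cfsg.IsSupersolvable G := by
  let f : G →* (G ⧸ N₁) × (G ⧸ N₂) := (QuotientGroup.mk' N₁).prod (QuotientGroup.mk' N₂)
  have hf : Function.Injective f := by
    rw [injective_iff_map_eq_one]
    intro g hg
    have h1 : (QuotientGroup.mk' N₁ g) = 1 := congrArg Prod.fst hg
    have h2 : (QuotientGroup.mk' N₂ g) = 1 := congrArg Prod.snd hg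
    have h3 : g ∈ N₁ ⊓ N₂ :=
      ⟨(QuotientGroup.eq_one_iff g).mp h1, (QuotientGroup.eq_one_iff g).mp h2⟩
    rw [h, Subgroup.mem_bot] at h3
    exact h3
  have h3 : Cfsg.IsSupersolvable f.range := isSupersolvable_subgroup (isSupersolvable_prod h₁ h₂) _
  exact isSupersolvable_of_mulEquiv h3 (MonoidHom.ofInjective hf).symm

/-- A nilpotent normal subgroup is a `p`-group if every nontrivial normal subgroup has order
divisible by `p`. -/
theorem isPGroup_of_nilpotent_normal {G : Type u} [Group G] [Finite G] (p : ℕ) [Fact p.Prime]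
    (X : Subgroup G) [hXn : X.Normal] (hX : Group.IsNilpotent X)
    (hp' : ∀ R : Subgroup G, R.Normal → R ≠ ⊥ → p ∣ Nat.card R) : IsPGroup p X := by
  have hp : p.Prime := Fact.out
  apply IsPGroup.of_card (n := (Nat.card X).primeFactorsList.length)
  apply Nat.eq_prime_pow_of_unique_prime_dvd Nat.card_pos.ne'
  intro r hr hrX
  by_contra hrp
  haveI : Fact r.Prime := ⟨hr⟩
  let R : Sylow r X := default
  have hRn : (R : Subgroup X).Normal :=
    ((Group.isNilpotent_of_finite_tfae (G := X)).out 0 3 rfl rfl).mp hX r inferInstance R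
  have hR'n : ((R : Subgroup X).map X.subtype).Normal := by
    constructor
    intro x hx g
    obtain ⟨w, hw, rfl⟩ := hx
    have hz : IsPGroup r ((Subgroup.zpowers w).map (MulAut.conjNormal g : MulAut X).toMonoidHom) :=
      (R.isPGroup'.to_le (Subgroup.zpowers_le.mpr hw)).map _
    obtain ⟨Q, hQ⟩ := hz.exists_le_sylow
    obtain ⟨x, hx⟩ := MulAction.exists_smul_eq X R Q
    have hQR : Q = R := by rw [← hx]; exact Sylow.smul_eq_of_normal
    have hmem : (MulAut.conjNormal g : MulAut X) w ∈ (R : Subgroup X) := by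
      rw [← hQR]
      exact hQ (Subgroup.mem_map_of_mem _ (Subgroup.mem_zpowers w))
    refine ⟨(MulAut.conjNormal g : MulAut X) w, hmem, ?_⟩
    simp [MulAut.conjNormal_apply]
  have hRne : (R : Subgroup X) ≠ ⊥ := R.ne_bot_of_dvd_card hrX
  have hR'ne : (R : Subgroup X).map X.subtype ≠ ⊥ := by
    intro h
    exact hRne ((Subgroup.map_eq_bot_iff_of_injective _ (Subgroup.subtype_injective _)).mp h)
  have h1 := hp' _ hR'n hR'ne
  rw [Subgroup.card_map_of_injective (Subgroup.subtype_injective _)] at h1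
  obtain ⟨k, hk⟩ := R.isPGroup'.exists_card_eq
  rw [hk] at h1
  exact hrp ((Nat.prime_dvd_prime_iff_eq hp hr).mp (hp.dvd_of_dvd_pow h1)).symm

/-- If `N ≤ Φ(G)` is normal and `G ⧸ N` is supersolvable, then `G' N` is nilpotent. -/
theorem isNilpotent_commutator_sup {G : Type u} [Group G] [Finite G] (N : Subgroup G) [N.Normal]
    (hN : N ≤ frattini G) (hq : Cfsg.IsSupersolvable (G ⧸ N)) :
    Group.IsNilpotent (commutator G ⊔ N : Subgroup G) := by
  set A : Subgroup G := commutator G ⊔ N with hA
  have hAn : A.Normal := by rw [hA]; infer_instance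
  apply Cfsg.Agent.S0584.result A N le_sup_right hN
  let φ : A →* G ⧸ N := (QuotientGroup.mk' N).comp A.subtype
  have hker : φ.ker = N.subgroupOf A := by
    ext x
    rw [MonoidHom.mem_ker, Subgroup.mem_subgroupOf]
    change QuotientGroup.mk' N (x : G) = 1 ↔ _
    exact QuotientGroup.eq_one_iff (x : G)
  have hle : A ≤ (commutator (G ⧸ N)).comap (QuotientGroup.mk' N) := by
    rw [hA]
    apply sup_le
    · rw [commutator_def, Subgroup.commutator_le]
      intro a _ b _
      rw [Subgroup.mem_comap, map_commutatorElement, commutator_def]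
      exact Subgroup.commutator_mem_commutator (Subgroup.mem_top _) (Subgroup.mem_top _)
    · intro n hn
      rw [Subgroup.mem_comap]
      have : QuotientGroup.mk' N n = 1 := (QuotientGroup.eq_one_iff n).mpr hn
      rw [this]
      exact Subgroup.one_mem _
  have hrange : φ.range ≤ commutator (G ⧸ N) := by
    rintro _ ⟨a, rfl⟩
    exact hle a.2
  have hnil : Group.IsNilpotent (commutator (G ⧸ N)) :=
    isNilpotent_commutator_of_isSupersolvable hq
  have h1 : Group.IsNilpotent ((φ.range).subgroupOf (commutator (G ⧸ N))) := inferInstance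
  have h2 : Group.IsNilpotent φ.range :=
    Group.nilpotent_of_mulEquiv (Subgroup.subgroupOfEquivOfLe hrange)
  have h3 : Group.IsNilpotent (A ⧸ φ.ker) :=
    Group.nilpotent_of_mulEquiv (QuotientGroup.quotientKerEquivRange φ).symm
  exact Group.nilpotent_of_mulEquiv (QuotientGroup.quotientMulEquivOfEq hker)

/-- An abelian minimal normal subgroup not contained in a maximal subgroup `M` has order `|G : M|`. -/
theorem card_eq_index_of_not_le {G : Type u} [Group G] [Finite G] (N M : Subgroup G) [hNn : N.Normal]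
    (hNcomm : ∀ a ∈ N, ∀ b ∈ N, a * b = b * a)
    (hmin : ∀ K : Subgroup G, K.Normal → K ≤ N → K = ⊥ ∨ K = N) (hM : IsCoatom M)
    (hNM : ¬ N ≤ M) : Nat.card N = M.index := by
  have hsup : N ⊔ M = ⊤ := by
    apply hM.2
    refine lt_of_le_of_ne le_sup_right ?_
    intro h
    apply hNM
    rw [h]
    exact le_sup_left
  have hnorm : (N ⊓ M).Normal := by
    rw [← Subgroup.normalizer_eq_top_iff, eq_top_iff, ← hsup]
    apply sup_le
    · intro a ha
      rw [Subgroup.mem_normalizer_iff]
      intro x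
      constructor
      · rintro ⟨hx1, hx2⟩
        have : a * x * a⁻¹ = x := by
          rw [hNcomm a ha x hx1]; group
        rw [this]; exact ⟨hx1, hx2⟩
      · intro hx
        have hx1 : x ∈ N := by
          have := hNn.conj_mem _ hx.1 a⁻¹
          simpa [mul_assoc] using this
        have : a * x * a⁻¹ = x := by
          rw [hNcomm a ha x hx1]; group
        rw [this] at hx; exact hx
    · intro m hm
      rw [Subgroup.mem_normalizer_iff]
      intro x
      constructor
      · rintro ⟨hx1, hx2⟩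
        exact ⟨hNn.conj_mem x hx1 m, M.mul_mem (M.mul_mem hm hx2) (M.inv_mem hm)⟩
      · rintro ⟨hx1, hx2⟩
        constructor
        · have := hNn.conj_mem _ hx1 m⁻¹
          simpa [mul_assoc] using this
        · have := M.mul_mem (M.mul_mem (M.inv_mem hm) hx2) hm
          simpa [mul_assoc] using this
  have hbot : N ⊓ M = ⊥ := by
    rcases hmin _ hnorm inf_le_left with h | h
    · exact h
    · exact absurd (h ▸ inf_le_right) hNM
  have hcompl : Subgroup.IsComplement' N M := by
    apply Subgroup.isComplement'_of_disjoint_and_mul_eq_univ (disjoint_iff.mpr hbot)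
    rw [← Subgroup.normal_mul, hsup, Subgroup.coe_top]
  exact hcompl.index_eq_card.symm

theorem exists_pow_eigen' {p : ℕ} [Fact p.Prime] {V : Type*} [Group V] [Finite V] [Nontrivial V]
    (hc : ∀ a b : V, a * b = b * a) (hV : ∀ v : V, v ^ p = 1) (T : V →* V)
    (hT : ∀ v, T^[p] v = T v) : ∃ (a : ℕ) (v : V), v ≠ 1 ∧ T v = v ^ a := by
  let inst : CommGroup V := { (inferInstance : Group V) with mul_comm := hc }
  exact @exists_pow_eigen p _ V inst _ _ hV T hT

/-- The Frattini case of Huppert's theorem. -/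
theorem isCyclic_of_le_frattini {G : Type u} [Group G] [Finite G] (p : ℕ) [Fact p.Prime]
    (P : Sylow p G) [hPn : (P : Subgroup G).Normal] (N : Subgroup G) [hNn : N.Normal] (hNne : N ≠ ⊥)
    (hNP : N ≤ P) (hmin : ∀ K : Subgroup G, K.Normal → K ≤ N → K = ⊥ ∨ K = N)
    (huniq : ∀ R : Subgroup G, R.Normal → R ≠ ⊥ → N ≤ R)
    (hΦ : N ≤ frattini G) (hq : Cfsg.IsSupersolvable (G ⧸ N)) : IsCyclic N := by
  have hp : p.Prime := Fact.out
  -- 1. `P` centralizes `N`
  have hPnil : Group.IsNilpotent (P : Subgroup G) := P.isPGroup'.isNilpotent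
  have hPcent : ∀ u ∈ (P : Subgroup G), ∀ v ∈ N, u * v = v * u := by
    intro u hu v hv
    have := Cfsg.Agent.S0583.normal_nilpotent_le_centralizer N hNne hmin (P : Subgroup G) hPnil hu
    exact (Subgroup.mem_centralizer_iff.mp this v hv).symm
  have hNcomm : ∀ a ∈ N, ∀ b ∈ N, a * b = b * a := fun a ha b hb => hPcent a (hNP ha) b hb
  have hNp : IsPGroup p N := P.isPGroup'.to_le hNP
  have hpN : p ∣ Nat.card N := by
    obtain ⟨k, hk⟩ := hNp.exists_card_eq
    have hk0 : k ≠ 0 := by
      rintro rfl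
      rw [pow_zero] at hk
      exact hNne (Subgroup.card_eq_one.mp hk)
    exact hk ▸ dvd_pow_self p hk0
  -- 3. exponent `p`
  have hexp : ∀ v ∈ N, v ^ p = 1 := by
    let E : Subgroup G :=
      { carrier := {v | v ∈ N ∧ v ^ p = 1}
        one_mem' := ⟨N.one_mem, one_pow p⟩
        mul_mem' := by
          rintro a b ⟨ha, ha'⟩ ⟨hb, hb'⟩
          refine ⟨N.mul_mem ha hb, ?_⟩
          have hc : Commute a b := hNcomm a ha b hb
          rw [hc.mul_pow, ha', hb', one_mul]
        inv_mem' := by
          rintro a ⟨ha, ha'⟩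
          exact ⟨N.inv_mem ha, by rw [inv_pow, ha', inv_one]⟩ }
    have hEn : E.Normal := by
      constructor
      rintro a ⟨ha, ha'⟩ g
      exact ⟨hNn.conj_mem a ha g, by rw [conj_pow, ha', mul_one, mul_inv_cancel]⟩
    have hEN : E ≤ N := fun a ha => ha.1
    have hEne : E ≠ ⊥ := by
      obtain ⟨x, hx⟩ := exists_prime_orderOf_dvd_card' p hpN
      intro h
      have hxE : (x : G) ∈ E := by
        refine ⟨x.2, ?_⟩
        have := pow_orderOf_eq_one x
        rw [hx] at this
        exact_mod_cast congrArg Subtype.val this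
      rw [h, Subgroup.mem_bot] at hxE
      have hx1 : x = 1 := Subtype.ext hxE
      rw [hx1, orderOf_one] at hx
      exact hp.one_lt.ne hx
    rcases hmin E hEn hEN with h | h
    · exact absurd h hEne
    · intro v hv
      have : v ∈ E := by rw [h]; exact hv
      exact this.2
  -- 4. every nontrivial normal subgroup has order divisible by `p`
  have hp' : ∀ R : Subgroup G, R.Normal → R ≠ ⊥ → p ∣ Nat.card R := fun R hR hRne =>
    hpN.trans (Subgroup.card_dvd_of_le (huniq R hR hRne))
  -- 5. `G' ≤ P`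
  have hGP : commutator G ≤ (P : Subgroup G) := by
    have hXnil := isNilpotent_commutator_sup N hΦ hq
    have hXn : (commutator G ⊔ N : Subgroup G).Normal := inferInstance
    have hXp := isPGroup_of_nilpotent_normal p (commutator G ⊔ N) hXnil hp'
    exact le_sup_left.trans (le_sylow_of_normal_isPGroup _ hXp P)
  -- 6. the actions of any two elements on `N` commute
  have hact : ∀ g h : G, ∀ v ∈ N, g * (h * v * h⁻¹) * g⁻¹ = h * (g * v * g⁻¹) * h⁻¹ := by
    intro g h v hv
    have hc : g⁻¹ * h⁻¹ * g * h ∈ (P : Subgroup G) := by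
      apply hGP
      have : g⁻¹ * h⁻¹ * g * h = ⁅g⁻¹, h⁻¹⁆ := by rw [commutatorElement_def]; group
      rw [this, commutator_def]
      exact Subgroup.commutator_mem_commutator (Subgroup.mem_top _) (Subgroup.mem_top _)
    have h1 := hPcent _ hc v hv
    calc g * (h * v * h⁻¹) * g⁻¹ = h * g * ((g⁻¹ * h⁻¹ * g * h) * v) * h⁻¹ * g⁻¹ := by group
      _ = h * g * (v * (g⁻¹ * h⁻¹ * g * h)) * h⁻¹ * g⁻¹ := by rw [h1]
      _ = h * (g * v * g⁻¹) * h⁻¹ := by group
  -- 7. an abelian complement
  obtain ⟨K, hK⟩ := Subgroup.exists_right_complement'_of_coprime (N := (P : Subgroup G))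
    P.card_coprime_index
  have hPK : (P : Subgroup G) ⊓ K = ⊥ := hK.disjoint.eq_bot
  have hKcomm : ∀ a ∈ K, ∀ b ∈ K, a * b = b * a := by
    intro a ha b hb
    have h1 : ⁅a, b⁆ ∈ (P : Subgroup G) ⊓ K := by
      constructor
      · apply hGP
        rw [commutator_def]
        exact Subgroup.commutator_mem_commutator (Subgroup.mem_top _) (Subgroup.mem_top _)
      · rw [commutatorElement_def]
        exact K.mul_mem (K.mul_mem (K.mul_mem ha hb) (K.inv_mem ha)) (K.inv_mem hb)
    rw [hPK, Subgroup.mem_bot, commutatorElement_eq_one_iff_mul_comm] at h1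
    exact h1
  have hKcop : (Nat.card K).Coprime p := by
    rw [← hK.symm.index_eq_card]
    exact (Nat.Coprime.symm ((Nat.Prime.coprime_iff_not_dvd hp).mpr P.not_dvd_index))
  -- 8. `k ^ (p - 1)` centralizes `N` for `k ∈ K`
  have hKpow : ∀ k ∈ K, ∀ v ∈ N, k ^ (p - 1) * v * (k ^ (p - 1))⁻¹ = v := by
    intro k hk v hv
    set y := k ^ (p - 1) with hy
    have hyK : y ∈ K := K.pow_mem hk _
    have hkord : (orderOf k).Coprime p :=
      Nat.Coprime.coprime_dvd_left (Subgroup.orderOf_dvd_natCard K hk) hKcop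
    have hyord : (orderOf y).Coprime p :=
      Nat.Coprime.coprime_dvd_left (orderOf_pow_dvd (p - 1)) hkord
    -- 8a
    have h8a : ∀ u ∈ (P : Subgroup G), y * u * y⁻¹ * u⁻¹ ∈ N := by
      intro u hu
      have hQ' : IsPGroup p ((P : Subgroup G).map (QuotientGroup.mk' N)) := P.isPGroup'.map _
      have hQn' : ((P : Subgroup G).map (QuotientGroup.mk' N)).Normal :=
        Subgroup.Normal.map hPn _ (QuotientGroup.mk'_surjective N)
      have hk' : (orderOf (QuotientGroup.mk' N k)).Coprime p :=
        Nat.Coprime.coprime_dvd_left (orderOf_map_dvd _ k) hkord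
      have := pow_pred_centralizes hq p ((P : Subgroup G).map (QuotientGroup.mk' N)) hQ'
        (QuotientGroup.mk' N k) hk' (QuotientGroup.mk' N u) (Subgroup.mem_map_of_mem _ hu)
      rw [← QuotientGroup.eq_one_iff]
      have h4 : ((y * u * y⁻¹ * u⁻¹ : G) : G ⧸ N) =
          (QuotientGroup.mk' N k) ^ (p - 1) * (QuotientGroup.mk' N u) *
            ((QuotientGroup.mk' N k) ^ (p - 1))⁻¹ * (QuotientGroup.mk' N u)⁻¹ := by
        simp [hy]
      rw [h4, this, mul_inv_cancel]
    -- 8b/8c
    have h8c : ∀ u ∈ (P : Subgroup G),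
        ∃ c ∈ Subgroup.centralizer (Subgroup.zpowers y : Set G), u⁻¹ * c ∈ N := by
      intro u hu
      let T : Subgroup G :=
        { carrier := {a | u⁻¹ * a * u * a⁻¹ ∈ N}
          one_mem' := by simp
          mul_mem' := by
            intro a b ha hb
            have h1 : a * (u⁻¹ * b * u * b⁻¹) * a⁻¹ ∈ N := hNn.conj_mem _ hb a
            have h2 := N.mul_mem ha h1
            have : u⁻¹ * a * u * a⁻¹ * (a * (u⁻¹ * b * u * b⁻¹) * a⁻¹) =
                u⁻¹ * (a * b) * u * (a * b)⁻¹ := by group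
            rw [this] at h2
            exact h2
          inv_mem' := by
            intro a ha
            have h1 : a⁻¹ * (u⁻¹ * a * u * a⁻¹)⁻¹ * a⁻¹⁻¹ ∈ N := hNn.conj_mem _ (N.inv_mem ha) a⁻¹
            have : a⁻¹ * (u⁻¹ * a * u * a⁻¹)⁻¹ * a⁻¹⁻¹ = u⁻¹ * a⁻¹ * u * a⁻¹⁻¹ := by group
            rw [this] at h1
            exact h1 }
      have hyT : y ∈ T := by
        have h1 := h8a u⁻¹ ((P : Subgroup G).inv_mem hu)
        have h2 := N.inv_mem h1
        have : (y * u⁻¹ * y⁻¹ * u⁻¹⁻¹)⁻¹ = u⁻¹ * y * u * y⁻¹ := by group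
        rw [this] at h2
        exact h2
      have hzT : Subgroup.zpowers y ≤ T := Subgroup.zpowers_le.mpr hyT
      have hcopN : (Nat.card (Subgroup.zpowers y)).Coprime (Nat.card N) := by
        rw [Nat.card_zpowers]
        obtain ⟨k', hk'⟩ := hNp.exists_card_eq
        rw [hk']
        exact Nat.Coprime.pow_right _ hyord
      exact Cfsg.Agent.Helper1.exists_centralizer_mem_coset N (Subgroup.zpowers y)
        (by rw [Subgroup.normalizer_eq_top_iff.mpr hNn]; exact le_top) hcopN
        (Or.inl inferInstance) u (fun a ha => hzT ha)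
    -- 8d
    have hHtop : Subgroup.centralizer (Subgroup.zpowers y : Set G) = ⊤ := by
      apply frattini_nongenerating
      rw [eq_top_iff]
      intro g _
      obtain ⟨⟨u, k'⟩, hg, -⟩ := hK.existsUnique g
      obtain ⟨c, hc, hcu⟩ := h8c u u.2
      have hk'H : (k' : G) ∈ Subgroup.centralizer (Subgroup.zpowers y : Set G) := by
        rw [Subgroup.mem_centralizer_iff]
        intro a ha
        exact hKcomm a (Subgroup.zpowers_le.mpr hyK ha) k' k'.2
      have hg' : g = c * (((u : G)⁻¹ * c)⁻¹ * k') := by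
        rw [← hg]; group
      rw [hg']
      refine Subgroup.mul_mem _ (Subgroup.mem_sup_left hc) (Subgroup.mul_mem _ ?_
        (Subgroup.mem_sup_left hk'H))
      exact Subgroup.mem_sup_right (hΦ (N.inv_mem hcu))
    have hvH : v ∈ Subgroup.centralizer (Subgroup.zpowers y : Set G) := by
      rw [hHtop]; exact Subgroup.mem_top v
    have h1 := Subgroup.mem_centralizer_iff.mp hvH y (Subgroup.mem_zpowers y)
    calc y * v * y⁻¹ = (y * v) * y⁻¹ := rfl
      _ = (v * y) * y⁻¹ := by rw [h1]
      _ = v := by group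
  -- 9. `g ^ (p - 1)` centralizes `N` for every `g`
  let ρ : G →* MulAut N := MulAut.conjNormal
  have hρ : ∀ (g : G) (v : N), ((ρ g v : N) : G) = g * v * g⁻¹ := fun g v =>
    MulAut.conjNormal_apply g v
  have hρP : ∀ u ∈ (P : Subgroup G), ρ u = 1 := by
    intro u hu
    ext v
    rw [hρ, hPcent u hu v v.2]
    simp
  have hρK : ∀ k ∈ K, ρ (k ^ (p - 1)) = 1 := by
    intro k hk
    ext v
    rw [hρ, hKpow k hk v v.2]
    simp
  have hρpow : ∀ g : G, ρ (g ^ (p - 1)) = 1 := by
    intro g
    obtain ⟨⟨u, k'⟩, hg, -⟩ := hK.existsUnique g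
    have h1 : ρ g = ρ k' := by
      rw [← hg, map_mul, hρP u u.2, one_mul]
    rw [map_pow, h1, ← map_pow]
    exact hρK k' k'.2
  -- 10/11. every `g` acts on `N` as a power map
  haveI : Nontrivial N := (Subgroup.nontrivial_iff_ne_bot N).mpr hNne
  have hpowmap : ∀ g : G, ∃ a : ℕ, ∀ w ∈ N, g * w * g⁻¹ = w ^ a := by
    intro g
    have hiter : ∀ (n : ℕ) (v : N), (ρ g).toMonoidHom^[n] v = ρ (g ^ n) v := by
      intro n
      induction n with
      | zero => intro v; simp
      | succ n ih =>
        intro v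
        rw [Function.iterate_succ_apply', ih, pow_succ', map_mul]
        rfl
    have hT : ∀ v : N, (ρ g).toMonoidHom^[p] v = (ρ g).toMonoidHom v := by
      intro v
      rw [hiter]
      have : g ^ p = g ^ (p - 1) * g := by
        rw [← pow_succ, Nat.sub_add_cancel hp.one_lt.le]
      rw [this, map_mul, hρpow, one_mul]
      rfl
    obtain ⟨a, v, hv1, hv⟩ := exists_pow_eigen' (p := p) (V := N)
      (fun a b => Subtype.ext (hNcomm a a.2 b b.2))
      (fun v => Subtype.ext (by simpa using hexp v v.2)) (ρ g).toMonoidHom hT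
    have hv' : g * (v : G) * g⁻¹ = (v : G) ^ a := by
      have := congrArg (fun w : N => (w : G)) hv
      simpa [hρ] using this
    let E : Subgroup G :=
      { carrier := {w | w ∈ N ∧ g * w * g⁻¹ = w ^ a}
        one_mem' := ⟨N.one_mem, by simp⟩
        mul_mem' := by
          rintro x y ⟨hx, hx'⟩ ⟨hy, hy'⟩
          refine ⟨N.mul_mem hx hy, ?_⟩
          have hc : Commute x y := hNcomm x hx y hy
          rw [hc.mul_pow, ← hx', ← hy']
          group
        inv_mem' := by
          rintro x ⟨hx, hx'⟩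
          refine ⟨N.inv_mem hx, ?_⟩
          rw [inv_pow, ← hx']
          group }
    have hEn : E.Normal := by
      constructor
      rintro x ⟨hx, hx'⟩ h
      refine ⟨hNn.conj_mem x hx h, ?_⟩
      rw [hact g h x hx, hx', conj_pow]
    have hEN : E ≤ N := fun x hx => hx.1
    have hEne : E ≠ ⊥ := by
      intro h
      have hvE : (v : G) ∈ E := ⟨v.2, hv'⟩
      rw [h, Subgroup.mem_bot] at hvE
      exact hv1 (Subtype.ext hvE)
    rcases hmin E hEn hEN with h | h
    · exact absurd h hEne
    · refine ⟨a, fun w hw => ?_⟩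
      have : w ∈ E := by rw [h]; exact hw
      exact this.2
  -- 12. `N` is cyclic
  obtain ⟨v₀, hv₀N, hv₀1⟩ : ∃ v₀ ∈ N, v₀ ≠ 1 := by
    by_contra hcon
    push Not at hcon
    apply hNne
    rw [eq_bot_iff]
    intro x hx
    rw [Subgroup.mem_bot]
    exact hcon x hx
  have hzn : (Subgroup.zpowers v₀).Normal := by
    apply zpowers_normal_of_conj_mem
    intro g
    obtain ⟨a, ha⟩ := hpowmap g
    rw [ha v₀ hv₀N]
    exact Subgroup.npow_mem_zpowers v₀ a
  have hzN : Subgroup.zpowers v₀ ≤ N := Subgroup.zpowers_le.mpr hv₀N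
  have hzne : Subgroup.zpowers v₀ ≠ ⊥ := by
    intro h
    apply hv₀1
    have : v₀ ∈ Subgroup.zpowers v₀ := Subgroup.mem_zpowers v₀
    rw [h, Subgroup.mem_bot] at this
    exact this
  rcases hmin _ hzn hzN with h | h
  · exact absurd h hzne
  · rw [← h]
    infer_instance

theorem aux (n : ℕ) : ∀ (G : Type u) [Group G] [Finite G], Nat.card G = n →
    (∀ M : Subgroup G, IsCoatom M → M.index.Prime) → Cfsg.IsSupersolvable G := by
  induction n using Nat.strong_induction_on with
  | _ n ih =>
  intro G _ _ hcard h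
  by_cases hnt : Nontrivial G
  · have hn1 : n ≠ 1 := by
      intro h1
      rw [h1] at hcard
      exact not_subsingleton G (Nat.card_eq_one_iff_unique.mp hcard).1
    have hn0 : n ≠ 0 := by rw [← hcard]; exact Nat.card_pos.ne'
    have hne : n.primeFactors.Nonempty :=
      ⟨n.minFac, Nat.mem_primeFactors.mpr ⟨Nat.minFac_prime hn1, Nat.minFac_dvd n, hn0⟩⟩
    set p := n.primeFactors.max' hne with hp
    have hpmem := Finset.max'_mem n.primeFactors hne
    rw [← hp, Nat.mem_primeFactors] at hpmem
    obtain ⟨hpp, hpn, -⟩ := hpmem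
    have hmax : ∀ q : ℕ, q.Prime → q ∣ Nat.card G → q ≤ p := fun q hq hqn =>
      Finset.le_max' _ _ (Nat.mem_primeFactors.mpr ⟨hq, hcard ▸ hqn, hn0⟩)
    have hpF : Fact p.Prime := ⟨hpp⟩
    obtain ⟨P⟩ : Nonempty (Sylow p G) := inferInstance
    have hPn : (P : Subgroup G).Normal := Cfsg.Agent.S0580.sylow_normal h p hmax P
    have hPcard : 1 < Nat.card (P : Subgroup G) := by
      rw [P.card_eq_multiplicity]
      apply Nat.one_lt_pow _ hpp.one_lt
      have := (hpp.dvd_iff_one_le_factorization Nat.card_pos.ne').mp (hcard ▸ hpn)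
      omega
    have hPne : (P : Subgroup G) ≠ ⊥ := (Subgroup.one_lt_card_iff_ne_bot _).mp hPcard
    -- quotients by nontrivial normal subgroups are supersolvable
    have hquot : ∀ N : Subgroup G, ∀ hN : N.Normal, N ≠ ⊥ → Cfsg.IsSupersolvable (G ⧸ N) := by
      intro N hN hNne
      have hNcard : 1 < Nat.card N := (Subgroup.one_lt_card_iff_ne_bot _).mpr hNne
      have hlt : Nat.card (G ⧸ N) < n := hcard ▸ card_quotient_lt _ hNcard
      have hQ : ∀ M : Subgroup (G ⧸ N), IsCoatom M → M.index.Prime := by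
        intro M hM
        have := h _ (Cfsg.Agent.S0553.isCoatom_comap_mk' N M hM)
        rwa [Subgroup.index_comap_of_surjective M (QuotientGroup.mk'_surjective _)] at this
      exact ih _ hlt _ rfl hQ
    -- a minimal normal subgroup inside `P`
    obtain ⟨N, hNP, hNmin⟩ := Finite.exists_le_minimal
      (p := fun K : Subgroup G => K.Normal ∧ K ≠ ⊥ ∧ K ≤ (P : Subgroup G)) (a := (P : Subgroup G))
      ⟨hPn, hPne, le_refl _⟩
    obtain ⟨⟨hNn, hNne, hNleP⟩, hNmin'⟩ := hNmin
    have hmin : ∀ K : Subgroup G, K.Normal → K ≤ N → K = ⊥ ∨ K = N := by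
      intro K hK hKN
      by_cases hKb : K = ⊥
      · exact Or.inl hKb
      · right
        exact le_antisymm hKN (hNmin' ⟨hK, hKb, hKN.trans hNleP⟩ hKN)
    have hPnil : Group.IsNilpotent (P : Subgroup G) := P.isPGroup'.isNilpotent
    have hNcomm : ∀ a ∈ N, ∀ b ∈ N, a * b = b * a := by
      intro a ha b hb
      have := Cfsg.Agent.S0583.normal_nilpotent_le_centralizer N hNne hmin (P : Subgroup G) hPnil
        (hNleP ha)
      exact (Subgroup.mem_centralizer_iff.mp this b hb).symm
    by_cases hA : ∃ M : Subgroup G, IsCoatom M ∧ ¬ N ≤ M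
    · obtain ⟨M, hM, hNM⟩ := hA
      have hc : Nat.card N = M.index := card_eq_index_of_not_le N M hNcomm hmin hM hNM
      have hprime : (Nat.card N).Prime := hc ▸ h M hM
      haveI : Fact (Nat.card N).Prime := ⟨hprime⟩
      haveI : IsCyclic N := isCyclic_of_prime_card rfl
      exact isSupersolvable_of_cyclic_normal_of_quotient N (hquot N hNn hNne)
    · push Not at hA
      have hΦ : N ≤ frattini G := by
        unfold frattini Order.radical
        exact le_iInf₂ (fun M hM => hA M hM)
      by_cases hB : ∃ R : Subgroup G, R.Normal ∧ R ≠ ⊥ ∧ N ⊓ R = ⊥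
      · obtain ⟨R, hRn, hRne, hNR⟩ := hB
        exact isSupersolvable_of_inf_eq_bot N R hNR (hquot N hNn hNne) (hquot R hRn hRne)
      · push Not at hB
        have huniq : ∀ R : Subgroup G, R.Normal → R ≠ ⊥ → N ≤ R := by
          intro R hRn hRne
          have h1 := hB R hRn hRne
          haveI : (N ⊓ R).Normal := Subgroup.normal_inf_normal N R
          rcases hmin (N ⊓ R) inferInstance inf_le_left with h2 | h2
          · exact absurd h2 h1
          · rw [← h2]; exact inf_le_right
        haveI : IsCyclic N := isCyclic_of_le_frattini p P N hNne hNleP hmin huniq hΦ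
          (hquot N hNn hNne)
        exact isSupersolvable_of_cyclic_normal_of_quotient N (hquot N hNn hNne)
  · rw [not_nontrivial_iff_subsingleton] at hnt
    exact isSupersolvable_of_subsingleton


/-- Huppert's supersolvability criterion: if every maximal subgroup of a finite group has prime index, then the group is supersolvable. -/
theorem result {G : Type*} [Group G] [Finite G] (h : ∀ M : Subgroup G, IsCoatom M → M.index.Prime) : Cfsg.IsSupersolvable G :=
  aux _ G rfl h

end Cfsg.Agent.S0579
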