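import Mathlib
import Cfsg.Statements.S3888
import Cfsg.Agent.Lib.Helper11.BlkFam
import Cfsg.Agent.Lib.Helper22.MetacyclicCrit

set_option autoImplicit false
open Cfsg

namespace Cfsg.Agent.S3888

/-- The classification of the p-groups of rank at most two for odd p. Let p be an odd prime and G a group of order p^n with no elementary abelian subgroup of order p³. Then one of the following holds: G is metacyclic; n ≥ 3 and G is generated by elements x, y, z with x^p = y^p = z^(p^(n−2)) = 1, z commuting with x and y, and x⁻¹yx = y z^(p^(n−3)); n ≥ 4 and G is generated by elements x, y, z with x^p = y^p = z^(p^(n−2)) = 1, yz = zy, x⁻¹yx = y z^(s p^(n−3)) and x⁻¹zx = yz, where s = 1 or s is a quadratic non-residue modulo p; or p = 3 and G has maximal class (nilpotency class n − 1). -/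
theorem result {G : Type*} [Group G] [Finite G] {p : ℕ} [Fact p.Prime] (hp : p ≠ 2) (n : ℕ) (hG : Nat.card G = p ^ n)
    (hrk : Cfsg.PRankLE p 2 G) :
    Cfsg.IsMetacyclic G ∨
    (3 ≤ n ∧ ∃ x y z : G, Subgroup.closure ({x, y, z} : Set G) = ⊤ ∧ x ^ p = 1 ∧ y ^ p = 1 ∧ z ^ p ^ (n - 2) = 1 ∧
        x * z = z * x ∧ y * z = z * y ∧ x⁻¹ * y * x = y * z ^ p ^ (n - 3)) ∨
    (4 ≤ n ∧ ∃ (s : ℕ) (x y z : G), (s = 1 ∨ ¬ IsSquare (s : ZMod p)) ∧ Subgroup.closure ({x, y, z} : Set G) = ⊤ ∧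
        x ^ p = 1 ∧ y ^ p = 1 ∧ z ^ p ^ (n - 2) = 1 ∧ y * z = z * y ∧ x⁻¹ * y * x = y * z ^ (s * p ^ (n - 3)) ∧
        x⁻¹ * z * x = y * z) ∨
    (p = 3 ∧ 2 ≤ n ∧ (⊤ : Subgroup G).lowerCentralSeries (n - 2) ≠ ⊥) := by
  have hpp : p.Prime := Fact.out
  have hGp : IsPGroup p G := IsPGroup.of_card hG
  haveI : Group.IsNilpotent G := hGp.isNilpotent
  have hmax : p = 3 → 2 ≤ n → Group.nilpotencyClass G = n - 1 →
      (p = 3 ∧ 2 ≤ n ∧ (⊤ : Subgroup G).lowerCentralSeries (n - 2) ≠ ⊥) := by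
    intro h3 hn hc
    refine ⟨h3, hn, ?_⟩
    rw [Ne, Subgroup.lowerCentralSeries_eq_bot_iff_nilpotencyClass_le, hc]
    omega
  by_cases hS : Cfsg.Agent.Helper22.SmallOmega p G
  · by_cases hp3 : 3 < p
    · left
      exact Cfsg.Agent.Helper22.isMetacyclic_of_smallOmega hp3 hGp hS
    · have hp3' : p = 3 := by
        have := hpp.two_le
        omega
      rcases Cfsg.Agent.Helper11.Blk.metacyclic_or_maxClass hp n hG hS with h | ⟨hn, hc⟩
      · left; exact h
      · right; right; right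
        exact hmax hp3' (by omega) hc
  · unfold Cfsg.Agent.Helper22.SmallOmega at hS
    push_neg at hS
    obtain ⟨K₀, hK₀exp, hK₀⟩ := hS
    obtain ⟨D⟩ := Cfsg.Agent.Helper11.Blk.exists_config hp n hG hrk K₀ hK₀exp hK₀
    have h3 : 3 ≤ n := by
      have h1 : Nat.card D.K ≤ Nat.card G := Subgroup.card_le_card_group D.K
      rw [D.hKcard, hG] at h1
      exact (Nat.pow_le_pow_iff_right hpp.one_lt).mp h1
    rcases D.normal_or_maxClass hp n hG with hK | ⟨hp3, hc⟩
    · rcases D.card_C_cases hK n hG with ⟨hn, hC, hr⟩ | ⟨hn, hC, hr⟩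
      · right; left
        exact ⟨hn, D.family_b hp hK n hG hn hC hr⟩
      · right; right; left
        exact ⟨hn, D.family_c hp hK n hG hn hC hr⟩
    · right; right; right
      exact hmax hp3 (by omega) hc

end Cfsg.Agent.S3888
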