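import Mathlib
import Cfsg.Agent.Lib.Helper8.FitPrime4
import Cfsg.Statements.S1445
-- import your own Cfsg.Agent.* helpers here

set_option autoImplicit false
open Cfsg

namespace Cfsg.Agent.S1445

/-- Let G be a solvable group of odd order, K a normal subgroup and R a subgroup with G = KR and the orders of K and R coprime. Suppose K ∩ C_G(x) = K ∩ C_G(R) for every non-identity x ∈ R, and F(K) ∩ C_G(R) = 1. Then [K, R] is contained in the Fitting subgroup of K. -/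
theorem result {G : Type*} [Group G] [Finite G] [Group.IsSolvable G] (hodd : Odd (Nat.card G)) (K R : Subgroup G) [K.Normal] (hKR : K ⊔ R = ⊤) (hcop : (Nat.card K).Coprime (Nat.card R))
    (hprime : ∀ x ∈ R, x ≠ 1 → K ⊓ Subgroup.centralizer ({x} : Set G) = (K ⊓ Subgroup.centralizer (R : Set G)))
    (hF : Cfsg.fittingOf K ⊓ Subgroup.centralizer (R : Set G) = ⊥) :
    ⁅K, R⁆ ≤ Cfsg.fittingOf K := by
  classical
  open Cfsg.Agent.Helper8.FitPrime in
  haveI hFn : (Cfsg.fittingOf K).Normal := fittingOf_normal K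
  have hFK : Cfsg.fittingOf K ≤ K := Cfsg.Agent.Helper8.FitPrime.fittingOf_le K
  by_cases hR1 : R = ⊥
  · rw [hR1, Subgroup.commutator_bot_right]
    exact bot_le
  have hcard1 : Nat.card ↥R ≠ 1 := by
    intro h
    exact hR1 (Subgroup.card_eq_one.mp h)
  obtain ⟨r, hr, hrd⟩ := Nat.exists_prime_and_dvd hcard1
  haveI : Fact r.Prime := ⟨hr⟩
  obtain ⟨x₀', hx₀'⟩ := exists_prime_orderOf_dvd_card' (G := ↥R) r hrd
  set x₀ : G := (x₀' : G) with hx₀def
  have hx₀R : x₀ ∈ R := x₀'.2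
  have hx₀o : orderOf x₀ = r := by
    rw [hx₀def, Subgroup.orderOf_coe]; exact hx₀'
  have hx₀1 : x₀ ≠ 1 := by
    intro h
    rw [h, orderOf_one] at hx₀o
    exact hr.one_lt.ne hx₀o
  set R₀ : Subgroup G := Subgroup.zpowers x₀ with hR₀
  have hR₀card : Nat.card ↥R₀ = r := by rw [hR₀, Nat.card_zpowers, hx₀o]
  have hR₀R : R₀ ≤ R := Subgroup.zpowers_le.mpr hx₀R
  have hrK : ¬ r ∣ Nat.card ↥K := by
    intro hd
    have h1 : r ∣ Nat.gcd (Nat.card ↥K) (Nat.card ↥R) := Nat.dvd_gcd hd hrd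
    rw [hcop] at h1
    exact hr.one_lt.ne' (Nat.dvd_one.mp h1)
  have hKodd : Odd (Nat.card ↥K) := Odd.of_dvd_nat hodd (Subgroup.card_subgroup_dvd_card K)
  have hcentx₀ : ∀ y ∈ K, x₀ * y = y * x₀ → y ∈ Subgroup.centralizer (R : Set G) := by
    intro y hyK hy
    have h1 : y ∈ K ⊓ Subgroup.centralizer ({x₀} : Set G) := by
      refine Subgroup.mem_inf.mpr ⟨hyK, ?_⟩
      rw [Subgroup.mem_centralizer_iff]
      intro z hz
      rw [Set.mem_singleton_iff] at hz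
      rw [hz]; exact hy
    rw [hprime x₀ hx₀R hx₀1] at h1
    exact (Subgroup.mem_inf.mp h1).2
  have hFR₀ : Cfsg.fittingOf K ⊓ Subgroup.centralizer (R₀ : Set G) = ⊥ := by
    rw [eq_bot_iff, ← hF]
    intro y hy
    obtain ⟨hyF, hyC⟩ := Subgroup.mem_inf.mp hy
    refine Subgroup.mem_inf.mpr ⟨hyF, ?_⟩
    apply hcentx₀ y (hFK hyF)
    exact Subgroup.mem_centralizer_iff.mp hyC x₀ (Subgroup.mem_zpowers x₀)
  have hP := Cfsg.Agent.Helper8.FitPrime.commutator_mem_fittingOf K R₀ inferInstance hKodd hr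
    hR₀card hrK hFR₀
  -- `K = C_K(R) F`
  have hdecomp : ∀ k ∈ K, ∃ c ∈ K ⊓ Subgroup.centralizer (R : Set G), ∃ f ∈ Cfsg.fittingOf K,
      k = c * f := by
    intro k hk
    have hcop' : (Nat.card ↥R₀).Coprime (Nat.card ↥(Cfsg.fittingOf K)) := by
      rw [hR₀card]
      apply (Nat.Prime.coprime_iff_not_dvd hr).mpr
      intro hd
      exact hrK (hd.trans (Subgroup.card_dvd_of_le hFK))
    have hsolv : Group.IsSolvable ↥R₀ ∨ Group.IsSolvable ↥(Cfsg.fittingOf K) :=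
      Or.inr inferInstance
    have hx : ∀ a ∈ R₀, k⁻¹ * a * k * a⁻¹ ∈ Cfsg.fittingOf K := by
      intro a ha
      have h1 := hP k hk a ha
      have h2 := hFn.conj_mem _ h1 k⁻¹
      have e : k⁻¹ * (a * k * a⁻¹ * k⁻¹) * k⁻¹⁻¹ = k⁻¹ * a * k * a⁻¹ := by group
      rwa [e] at h2
    obtain ⟨c, hc, hkc⟩ := Cfsg.Agent.Helper1.exists_centralizer_mem_coset (Cfsg.fittingOf K) R₀
      (by rw [Subgroup.normalizer_eq_top_iff.mpr hFn]; exact le_top) hcop' hsolv k hx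
    have hcK : c ∈ K := by
      have e : c = k * (k⁻¹ * c) := by group
      rw [e]
      exact K.mul_mem hk (hFK hkc)
    have hcx₀ : x₀ * c = c * x₀ :=
      Subgroup.mem_centralizer_iff.mp hc x₀ (Subgroup.mem_zpowers x₀)
    refine ⟨c, Subgroup.mem_inf.mpr ⟨hcK, hcentx₀ c hcK hcx₀⟩, (k⁻¹ * c)⁻¹,
      Subgroup.inv_mem _ hkc, ?_⟩
    group
  rw [Subgroup.commutator_le]
  intro k hk x hx
  obtain ⟨c, hc, f, hf, rfl⟩ := hdecomp k hk
  obtain ⟨hcK, hcR⟩ := Subgroup.mem_inf.mp hc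
  have hcx : x * c = c * x := Subgroup.mem_centralizer_iff.mp hcR x hx
  have hcx' : c⁻¹ * x⁻¹ = x⁻¹ * c⁻¹ := by
    rw [← mul_inv_rev, ← mul_inv_rev, hcx]
  rw [commutatorElement_def]
  have e : c * f * x * (c * f)⁻¹ * x⁻¹ = c * (f * (x * f⁻¹ * x⁻¹)) * c⁻¹ := by
    calc c * f * x * (c * f)⁻¹ * x⁻¹ = c * f * x * f⁻¹ * (c⁻¹ * x⁻¹) := by group
      _ = c * f * x * f⁻¹ * (x⁻¹ * c⁻¹) := by rw [hcx']
      _ = c * (f * (x * f⁻¹ * x⁻¹)) * c⁻¹ := by group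
  rw [e]
  exact hFn.conj_mem _ (Subgroup.mul_mem _ hf (hFn.conj_mem _ (Subgroup.inv_mem _ hf) x)) c

end Cfsg.Agent.S1445
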