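import Mathlib
import Cfsg.Statements.S0542
import Cfsg.Agent.Lib.Helper3.Card
import Cfsg.Agent.Lib.Helper3.Basic

set_option autoImplicit false
open Cfsg
open scoped Pointwise

namespace Cfsg.Agent.S0542

open Cfsg.Agent.Helper3

theorem relIndex_dvd_index_of_normal_right {G : Type*} [Group G] [Finite G] (Q N : Subgroup G) [N.Normal] :
    Q.relIndex N ∣ Q.index := by
  have h1 : Q.relIndex N = Q.relIndex (Q ⊔ N) := by
    have hset : ((Q ⊔ N : Subgroup G) : Set G) = (Q : Set G) * (N : Set G) := Subgroup.mul_normal Q N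
    have hc := card_set_mul_mul_card_inf Q N
    rw [← hset] at hc
    have hc' : Nat.card (Q ⊔ N : Subgroup G) * Nat.card (Q ⊓ N : Subgroup G) = Nat.card Q * Nat.card N := hc
    have e1 : Q.relIndex N * Nat.card (Q ⊓ N : Subgroup G) = Nat.card N := by
      rw [← Subgroup.inf_relIndex_right, mul_comm]
      exact card_mul_relIndex_of_le inf_le_right
    have e2 : Q.relIndex (Q ⊔ N) * Nat.card Q = Nat.card (Q ⊔ N : Subgroup G) :=
      (mul_comm _ _).trans (card_mul_relIndex_of_le le_sup_left)
    have hQ : 0 < Nat.card Q := Nat.card_pos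
    have hI : 0 < Nat.card (Q ⊓ N : Subgroup G) := Nat.card_pos
    have : Q.relIndex N * (Nat.card Q * Nat.card (Q ⊓ N : Subgroup G)) =
        Q.relIndex (Q ⊔ N) * (Nat.card Q * Nat.card (Q ⊓ N : Subgroup G)) := by
      calc Q.relIndex N * (Nat.card Q * Nat.card (Q ⊓ N : Subgroup G))
          = Nat.card Q * (Q.relIndex N * Nat.card (Q ⊓ N : Subgroup G)) := by ring
        _ = Nat.card Q * Nat.card N := by rw [e1]
        _ = Nat.card (Q ⊔ N : Subgroup G) * Nat.card (Q ⊓ N : Subgroup G) := hc'.symm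
        _ = Q.relIndex (Q ⊔ N) * Nat.card Q * Nat.card (Q ⊓ N : Subgroup G) := by rw [e2]
        _ = _ := by ring
    exact Nat.eq_of_mul_eq_mul_right (Nat.mul_pos hQ hI) this
  rw [h1]
  exact Subgroup.relIndex_dvd_index_of_le le_sup_left

theorem not_dvd_relIndex {G : Type*} [Group G] [Finite G] (p : ℕ) [Fact p.Prime] (H : Subgroup G)
    (hH : H.IsSubnormal) (S : Sylow p G) : ¬ p ∣ (S : Subgroup G).relIndex H := by
  induction hH with
  | top => rw [Subgroup.relIndex_top_right]; exact S.not_dvd_index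
  | step H K hle _ hN ih =>
    intro hdvd
    apply ih
    have h1 : (S : Subgroup G).relIndex H =
        ((S : Subgroup G).subgroupOf K).relIndex (H.subgroupOf K) :=
      (Subgroup.relIndex_subgroupOf hle).symm
    have h2 : ((S : Subgroup G).subgroupOf K).relIndex (H.subgroupOf K) ∣
        ((S : Subgroup G).subgroupOf K).index :=
      relIndex_dvd_index_of_normal_right _ _
    rw [h1] at hdvd
    exact hdvd.trans h2

theorem result {G : Type*} [Group G] [Finite G] (p : ℕ) [Fact p.Prime] (H : Subgroup G) (hH : H.IsSubnormal) (S : Sylow p G) : ∃ Q : Sylow p H, (Q : Subgroup H) = (S : Subgroup G).subgroupOf H := by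
  have h1 : IsPGroup p ((S : Subgroup G).subgroupOf H) := S.isPGroup'.comap_subtype
  have h2 : ¬ p ∣ ((S : Subgroup G).subgroupOf H).index := not_dvd_relIndex p H hH S
  exact ⟨h1.toSylow h2, rfl⟩

end Cfsg.Agent.S0542
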