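import Mathlib
import Cfsg.Statements.S0847
import Cfsg.Agent.Lib.Helper16.BSQuatFinal

set_option autoImplicit false
open Cfsg

namespace Cfsg.Agent.S0847

/-- The Brauer–Suzuki Theorem in the case of order at least 16: if a Sylow 2-subgroup S of the finite group G is generalized quaternion of order at least 16 and G has no nontrivial normal subgroup of odd order, then the centre of G has order 2. -/
theorem result {G : Type*} [Group G] [Finite G] (S : Sylow 2 G) (n : ℕ) (e : (S : Subgroup G) ≃* QuaternionGroup (2 ^ (n + 2))) (hO : ∀ N : Subgroup G, N.Normal → Odd (Nat.card N) → N = ⊥) : Nat.card (Subgroup.center G) = 2 := by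
  have hF : Fact (Nat.Prime 2) := ⟨Nat.prime_two⟩
  obtain ⟨a, ha⟩ := Cfsg.Agent.Helper16.exists_isQuatSub (S : Subgroup G) (n + 2) (by omega) e
  have hj3 : 3 ≤ n + 2 + 1 := by omega
  obtain ⟨M, hM, hz, hc, -⟩ := ha.exists_normal_bs S hj3
  set z : G := a ^ 2 ^ (n + 2 + 1 - 1) with hzdef
  have hz2 : z ^ 2 = 1 := ha.z_sq
  have hz1 : z ≠ 1 := ha.z_ne_one
  have hzo : orderOf z = 2 := orderOf_eq_prime hz2 hz1
  -- `M` is a `2`-group
  obtain ⟨P⟩ : Nonempty (Sylow 2 ↥M) := inferInstance
  have hPR : IsPGroup 2 ((P : Subgroup M).map M.subtype) := P.2.map _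
  have hPRM : (P : Subgroup M).map M.subtype ≤ M := by
    rintro _ ⟨q, -, rfl⟩
    exact q.2
  obtain ⟨t, ht⟩ := ha.exists_forall_eq_or_of_le_normal S hj3 M hc _ hPR hPRM
  have hPc : IsCyclic P := by
    apply Cfsg.Agent.Helper16.isCyclic_of_forall_eq_or
      (M.subtype.comp (P : Subgroup M).subtype) ?_ t
    · intro x
      exact ht _ ⟨x.1, x.2, rfl⟩
    · intro x y hxy
      apply Subtype.ext
      apply Subtype.ext
      exact hxy
  have h2M : 2 ∣ Nat.card M := by
    rw [← hzo]
    exact Subgroup.orderOf_dvd_natCard M hz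
  obtain ⟨K, hKn, hKodd, hdec⟩ :=
    Cfsg.Agent.Helper16.exists_odd_normal_of_cyclic_sylow M P hPc h2M
  have hK : K = ⊥ := hO K hKn hKodd
  have hM2 : IsPGroup 2 M := by
    intro x
    obtain ⟨k, α, hk, hα, hx⟩ := hdec x
    rw [hK, Subgroup.mem_bot] at hk
    have hk1 : k = 1 := Subtype.ext hk
    rw [hk1, one_mul] at hx
    obtain ⟨m, hm⟩ := P.2 ⟨α, hα⟩
    refine ⟨m, ?_⟩
    rw [hx]
    exact congrArg Subtype.val hm
  obtain ⟨t', ht'⟩ := ha.exists_forall_eq_or_of_le_normal S hj3 M hc M hM2 le_rfl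
  have hzt : z = t' := by
    rcases ht' z hz with h | h
    · exact absurd h hz1
    · exact h
  -- `z` is central
  have hzc : z ∈ Subgroup.center G := by
    rw [Subgroup.mem_center_iff]
    intro g
    have h1 : g * z * g⁻¹ ∈ M := hM.conj_mem _ hz g
    rcases ht' _ h1 with h | h
    · exfalso
      apply hz1
      have : z = g⁻¹ * (g * z * g⁻¹) * g := by group
      rw [this, h]; group
    · rw [← hzt] at h
      calc g * z = g * z * g⁻¹ * g := by group
        _ = z * g := by rw [h]
  -- the centre is contained in `{1, z}`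
  have hcen : ∀ x ∈ Subgroup.center G, x = 1 ∨ x = z := by
    intro x hx
    have hxc : ∀ g : G, g * x = x * g := fun g => Subgroup.mem_center_iff.1 hx g
    obtain ⟨e', m, hm, hxo⟩ := Nat.exists_eq_two_pow_mul_odd (orderOf_pos x).ne'
    have hyo : orderOf (x ^ 2 ^ e') = m := by
      rw [orderOf_pow_of_dvd (pow_ne_zero _ two_ne_zero) ⟨m, hxo⟩, hxo,
        Nat.mul_div_cancel_left _ (pow_pos two_pos _)]
    have hyc : x ^ 2 ^ e' ∈ Subgroup.center G := Subgroup.pow_mem _ hx _
    have hN : (Subgroup.zpowers (x ^ 2 ^ e')).Normal := by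
      constructor
      intro w hw g
      have hwc : w ∈ Subgroup.center G := (Subgroup.zpowers_le.2 hyc) hw
      have : g * w * g⁻¹ = w := by
        rw [Subgroup.mem_center_iff.1 hwc g, mul_inv_cancel_right]
      rw [this]
      exact hw
    have hNodd : Odd (Nat.card (Subgroup.zpowers (x ^ 2 ^ e'))) := by
      rw [Nat.card_zpowers, hyo]
      exact hm
    have hNbot := hO _ hN hNodd
    have hy1 : x ^ 2 ^ e' = 1 := by
      have : x ^ 2 ^ e' ∈ (⊥ : Subgroup G) := by
        rw [← hNbot]
        exact Subgroup.mem_zpowers _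
      exact Subgroup.mem_bot.1 this
    obtain ⟨e'', -, he''⟩ := (Nat.dvd_prime_pow Nat.prime_two).1 (orderOf_dvd_of_pow_eq_one hy1)
    obtain ⟨k, hk⟩ := Cfsg.Agent.Helper9.exists_conj_mem_sylow S x ⟨e'', he''⟩
    have hkx : k * x * k⁻¹ = x := by rw [hxc k, mul_inv_cancel_right]
    rw [hkx] at hk
    have hxA : x ∈ Subgroup.zpowers a := ha.mem_zpowers_of_commute hk (hxc a).symm
    obtain ⟨b, hbS, hba⟩ := ha.exists_out
    have hinv := ha.out_inv_mem hbS hba hxA
    rw [hxc b, mul_inv_cancel_right] at hinv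
    have hx2 : x ^ 2 = 1 := by
      rw [pow_two]
      nth_rewrite 1 [hinv]
      exact inv_mul_cancel x
    by_cases hx1 : x = 1
    · left; exact hx1
    · right; exact ha.eq_z_of_sq_eq_one hk hx2 hx1
  have hceq : Subgroup.center G = Subgroup.zpowers z := by
    apply le_antisymm
    · intro x hx
      rcases hcen x hx with h | h
      · rw [h]; exact Subgroup.one_mem _
      · rw [h]; exact Subgroup.mem_zpowers _
    · exact Subgroup.zpowers_le.2 hzc
  rw [hceq, Nat.card_zpowers, hzo]

end Cfsg.Agent.S0847
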