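import Mathlib
import Cfsg.Statements.S0950
import Cfsg.Agent.Lib.Helper16.QuatSylow
import Cfsg.Agent.Lib.Helper16.Q8Sub

set_option autoImplicit false
open Cfsg

namespace Cfsg.Agent.S0950

open Cfsg.Agent.Helper16 in
/-- Let S be a Sylow 2-subgroup of the finite group G that is isomorphic to the quaternion group of order 8, and suppose S has no normal complement in G. Then any two subgroups of order 4 of S are conjugate by an element of the normalizer of S. -/
theorem result {G : Type*} [Group G] [Finite G] (S : Sylow 2 G) (e : (S : Subgroup G) ≃* QuaternionGroup 2) (hnc : ∀ N : Subgroup G, N.Normal → ¬ Subgroup.IsComplement' N (S : Subgroup G)) (A B : Subgroup G) (hA : A ≤ S) (hB : B ≤ S) (hA4 : Nat.card A = 4) (hB4 : Nat.card B = 4) : ∃ n ∈ Subgroup.normalizer ((S : Subgroup G) : Set G), B = A.map (MulAut.conj n).toMonoidHom := by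
  have hnc' : ¬ ∃ N : Subgroup G, N.Normal ∧ N.IsComplement' (S : Subgroup G) := by
    rintro ⟨N, hN, hNc⟩
    exact hnc N hN hNc
  have e' : (S : Subgroup G) ≃* QuaternionGroup (2 ^ 1) := e
  obtain ⟨Q, g, hQS, hg, hodd, hgc, h8, b, y₀, hb, hy₀, hbo, hy2, hyb⟩ :=
    exists_quat_of_no_complement S 1 e' hnc'
  have hScard : Nat.card (S : Subgroup G) = 8 := by
    rw [Nat.card_congr e.toEquiv, Nat.card_eq_fintype_card, QuaternionGroup.card]
  have hQeq : Q = (S : Subgroup G) := by
    apply Subgroup.eq_of_le_of_card_ge hQS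
    rw [h8, hScard]
  subst hQeq
  have hQ8 : Q8.IsQ8 (⟨b, hb⟩ : (S : Subgroup G)) ⟨y₀, hy₀⟩ := by
    refine ⟨h8, ?_, ?_, ?_⟩
    · rw [← hbo]; exact Subgroup.orderOf_mk b hb
    · exact Subtype.ext (by simpa using hy2)
    · exact Subtype.ext (by simpa using hyb)
  set α : MulAut (S : Subgroup G) := (S : Subgroup G).normalizerMonoidHom ⟨g, hg⟩ with hαdef
  have hα : α ^ orderOf g = 1 := by
    rw [hαdef, ← map_pow]
    have : (⟨g, hg⟩ : Subgroup.normalizer ((S : Subgroup G) : Set G)) ^ orderOf g = 1 :=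
      Subtype.ext (by simp [pow_orderOf_eq_one])
    rw [this, map_one]
  have hα1 : α ≠ 1 := by
    intro h1
    apply hgc
    have h2 : (⟨g, hg⟩ : Subgroup.normalizer ((S : Subgroup G) : Set G)) ∈
        (S : Subgroup G).normalizerMonoidHom.ker := by
      rw [MonoidHom.mem_ker]; exact h1
    rw [Subgroup.normalizerMonoidHom_ker, Subgroup.mem_subgroupOf] at h2
    exact h2
  have hA' : Nat.card (A.subgroupOf (S : Subgroup G)) = 4 := by
    rw [Nat.card_congr (Subgroup.subgroupOfEquivOfLe hA).toEquiv, hA4]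
  have hB' : Nat.card (B.subgroupOf (S : Subgroup G)) = 4 := by
    rw [Nat.card_congr (Subgroup.subgroupOfEquivOfLe hB).toEquiv, hB4]
  obtain ⟨i, hi⟩ := hQ8.exists_pow_map_eq α _ hodd hα hα1 _ _ hA' hB'
  have hgi : g ^ i ∈ Subgroup.normalizer ((S : Subgroup G) : Set G) := Subgroup.pow_mem _ hg i
  have hαi : ∀ x : (S : Subgroup G), (((α ^ i) x : (S : Subgroup G)) : G) = g ^ i * x * (g ^ i)⁻¹ := by
    intro x
    have h1 : α ^ i = (S : Subgroup G).normalizerMonoidHom ⟨g ^ i, hgi⟩ := by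
      rw [hαdef, ← map_pow]
      rfl
    rw [h1, Subgroup.normalizerMonoidHom_apply_apply_coe]
  refine ⟨g ^ i, hgi, ?_⟩
  ext x
  constructor
  · intro hx
    have h1 : (⟨x, hB hx⟩ : (S : Subgroup G)) ∈ B.subgroupOf (S : Subgroup G) := by
      rw [Subgroup.mem_subgroupOf]; exact hx
    rw [hi] at h1
    obtain ⟨a', ha', hax⟩ := h1
    refine ⟨(a' : G), Subgroup.mem_subgroupOf.1 ha', ?_⟩
    have := congrArg (fun v : (S : Subgroup G) => (v : G)) hax
    simp only [MulEquiv.coe_toMonoidHom] at this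
    rw [hαi] at this
    exact this
  · rintro ⟨a', ha', rfl⟩
    have h1 : (α ^ i) ⟨a', hA ha'⟩ ∈ B.subgroupOf (S : Subgroup G) := by
      rw [hi]
      exact ⟨⟨a', hA ha'⟩, by rw [SetLike.mem_coe, Subgroup.mem_subgroupOf]; exact ha', rfl⟩
    rw [Subgroup.mem_subgroupOf, hαi] at h1
    exact h1

end Cfsg.Agent.S0950
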