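import Mathlib
import Cfsg.Statements.S0201
import Cfsg.Agent.Lib.Helper7.BSQFin2
import Cfsg.Agent.S0847
import Cfsg.Agent.S0950

set_option autoImplicit false
open Cfsg

namespace Cfsg.Agent.S0201

/-- Brauer–Suzuki Theorem: if a Sylow 2-subgroup of a finite group is generalized quaternion (of order at least 8) and the group has no nontrivial normal subgroup of odd order, then its centre has order 2. -/
theorem result {G : Type*} [Group G] [Finite G] (S : Sylow 2 G) (n : ℕ) (e : (S : Subgroup G) ≃* QuaternionGroup (2 ^ (n + 1))) (hO : ∀ N : Subgroup G, N.Normal → Odd (Nat.card N) → N = ⊥) : Nat.card (Subgroup.center G) = 2 := by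
  have hF : Fact (Nat.Prime 2) := ⟨Nat.prime_two⟩
  rcases Nat.eq_zero_or_pos n with hn | hn
  swap
  · obtain ⟨k, rfl⟩ : ∃ k, n = k + 1 := ⟨n - 1, by omega⟩
    exact Cfsg.Agent.S0847.result S k e hO
  subst hn
  have e1 : (S : Subgroup G) ≃* QuaternionGroup (2 ^ 1) := e
  have e2 : (S : Subgroup G) ≃* QuaternionGroup 2 := e
  obtain ⟨a, ha⟩ := Cfsg.Agent.Helper16.exists_isQuatSub (S : Subgroup G) 1 le_rfl e1
  have ha : Cfsg.Agent.Helper16.IsQuatSub (S : Subgroup G) a 2 := ha
  have hzo : orderOf (a ^ 2) = 2 := Cfsg.Agent.Helper7.q8_orderOf_u S ha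
  -- the involution is central
  have hcent : ∀ g : G, a ^ 2 * g = g * a ^ 2 := by
    by_cases hnc : ∀ N : Subgroup G, N.Normal → ¬ Subgroup.IsComplement' N (S : Subgroup G)
    · have hconj := fun A B hA hB hA4 hB4 =>
        Cfsg.Agent.S0950.result S e2 hnc A B hA hB hA4 hB4
      obtain ⟨K, hKn, hKu, hKc⟩ := Cfsg.Agent.Helper7.bsq_main S ha hconj
      haveI := hKn
      have hKodd := Cfsg.Agent.Helper7.q8_odd_of_normal_not_mem S ha K hKu
      have hK := hO K hKn hKodd
      intro g
      have h1 := hKc g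
      rw [hK, Subgroup.mem_bot] at h1
      calc a ^ 2 * g = a ^ 2 * g * (a ^ 2)⁻¹ * g⁻¹ * (g * a ^ 2) := by group
        _ = g * a ^ 2 := by rw [h1, one_mul]
    · push_neg at hnc
      obtain ⟨N, hN, hcomp⟩ := hnc
      have hNodd : Odd (Nat.card N) := by
        have h1 : (Nat.card (S : Subgroup G)).Coprime (S : Subgroup G).index :=
          S.card_coprime_index
        rw [hcomp.index_eq_card, ha.card] at h1
        rw [← Nat.not_even_iff_odd]
        intro hev
        have h2 : 2 ∣ Nat.gcd (2 ^ (2 + 1)) (Nat.card N) :=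
          Nat.dvd_gcd (by norm_num) (even_iff_two_dvd.1 hev)
        rw [h1] at h2
        omega
      have hNbot := hO N hN hNodd
      have hS : (S : Subgroup G) = ⊤ := by
        rw [hNbot] at hcomp
        exact Subgroup.isComplement'_bot_left.1 hcomp
      intro g
      have hg : g ∈ (S : Subgroup G) := by rw [hS]; exact Subgroup.mem_top g
      have h1 := Cfsg.Agent.Helper7.q8_le_centralizer S ha hg
      exact Subgroup.mem_centralizer_iff.1 h1 (a ^ 2) (Set.mem_singleton _)
  have hzc : a ^ 2 ∈ Subgroup.center G := by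
    rw [Subgroup.mem_center_iff]
    intro g
    exact (hcent g).symm
  -- the centre is contained in `{1, a ^ 2}`
  have hcen : ∀ x ∈ Subgroup.center G, x = 1 ∨ x = a ^ 2 := by
    intro x hx
    have hxc : ∀ g : G, g * x = x * g := fun g => Subgroup.mem_center_iff.1 hx g
    obtain ⟨e', m, hm, hxo⟩ := Nat.exists_eq_two_pow_mul_odd (orderOf_pos x).ne'
    have hyo : orderOf (x ^ 2 ^ e') = m := by
      rw [orderOf_pow_of_dvd (pow_ne_zero _ two_ne_zero) ⟨m, hxo⟩, hxo,
        Nat.mul_div_cancel_left _ (pow_pos two_pos _)]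
    have hyc : x ^ 2 ^ e' ∈ Subgroup.center G := Subgroup.pow_mem _ hx _
    have hN : (Subgroup.zpowers (x ^ 2 ^ e')).Normal := by
      constructor
      intro w hw g
      have hwc : w ∈ Subgroup.center G := (Subgroup.zpowers_le.2 hyc) hw
      have : g * w * g⁻¹ = w := by
        rw [Subgroup.mem_center_iff.1 hwc g, mul_inv_cancel_right]
      rw [this]
      exact hw
    have hNodd : Odd (Nat.card (Subgroup.zpowers (x ^ 2 ^ e'))) := by
      rw [Nat.card_zpowers, hyo]
      exact hm
    have hNbot := hO _ hN hNodd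
    have hy1 : x ^ 2 ^ e' = 1 := by
      have : x ^ 2 ^ e' ∈ (⊥ : Subgroup G) := by
        rw [← hNbot]
        exact Subgroup.mem_zpowers _
      exact Subgroup.mem_bot.1 this
    obtain ⟨e'', -, he''⟩ := (Nat.dvd_prime_pow Nat.prime_two).1 (orderOf_dvd_of_pow_eq_one hy1)
    obtain ⟨k, hk⟩ := Cfsg.Agent.Helper9.exists_conj_mem_sylow S x ⟨e'', he''⟩
    have hkx : k * x * k⁻¹ = x := by rw [hxc k, mul_inv_cancel_right]
    rw [hkx] at hk
    have hxA : x ∈ Subgroup.zpowers a := ha.mem_zpowers_of_commute hk (hxc a).symm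
    obtain ⟨b, hbS, hba⟩ := ha.exists_out
    have hinv := ha.out_inv_mem hbS hba hxA
    rw [hxc b, mul_inv_cancel_right] at hinv
    have hx2 : x ^ 2 = 1 := by
      rw [pow_two]
      nth_rewrite 1 [hinv]
      exact inv_mul_cancel x
    by_cases hx1 : x = 1
    · left; exact hx1
    · right
      have := ha.eq_z_of_sq_eq_one hk hx2 hx1
      rw [this]
      norm_num
  have hceq : Subgroup.center G = Subgroup.zpowers (a ^ 2) := by
    apply le_antisymm
    · intro x hx
      rcases hcen x hx with h | h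
      · rw [h]; exact Subgroup.one_mem _
      · rw [h]; exact Subgroup.mem_zpowers _
    · exact Subgroup.zpowers_le.2 hzc
  rw [hceq, Nat.card_zpowers, hzo]

end Cfsg.Agent.S0201
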