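import Mathlib
import Cfsg.Statements.S2970
import Cfsg.Agent.Lib.Helper15.CyclicSylow

namespace Cfsg.Agent.S2970

open Cfsg.Agent.Helper15

/-- Let G be a finite group, p a prime and x ∈ G an element of p-power order which is isolated in G. Then the image of x in any quotient G ⧸ N is isolated in G ⧸ N; and if x ≠ 1 and the Sylow p-subgroups of G are cyclic, then G has a normal p-complement. -/
theorem result {G : Type*} [Group G] [Finite G] {p : ℕ} [Fact p.Prime] (x : G) (hx : ∃ k : ℕ, orderOf x = p ^ k) (hiso : Cfsg.IsIsolated x) : (∀ (N : Subgroup G) [N.Normal], Cfsg.IsIsolated (QuotientGroup.mk x : G ⧸ N)) ∧ (x ≠ 1 → (∀ P : Sylow p G, IsCyclic ↥(P : Subgroup G)) → Cfsg.HasNormalPComplement p G) := by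
  have hP : IsPGroup p ↥(Subgroup.zpowers x) := isPGroup_zpowers_of_orderOf hx
  constructor
  · intro N _ gb hc
    obtain ⟨g, rfl⟩ := QuotientGroup.mk_surjective gb
    set x' := g * x * g⁻¹ with hx'
    set D := Subgroup.closure ({x, x'} : Set G) with hD
    have hxD : x ∈ D := Subgroup.subset_closure (by simp)
    have hx'D : x' ∈ D := Subgroup.subset_closure (by simp)
    have hx'ord : ∃ k : ℕ, orderOf x' = p ^ k := by
      obtain ⟨k, hk⟩ := hx
      refine ⟨k, ?_⟩
      rw [hx', ← hk]
      have := MulEquiv.orderOf_eq (MulAut.conj g) x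
      rwa [MulAut.conj_apply] at this
    have hP' : IsPGroup p ↥(Subgroup.zpowers x') := isPGroup_zpowers_of_orderOf hx'ord
    obtain ⟨T, hxT, hT⟩ := exists_isSylowIn_ge hP ((Subgroup.zpowers_le).2 hxD)
    obtain ⟨T', hxT', hT'⟩ := exists_isSylowIn_ge hP' ((Subgroup.zpowers_le).2 hx'D)
    obtain ⟨d, hdD, hdT⟩ := hT'.exists_conj hT
    have h1 : d * x' * d⁻¹ ∈ T := by
      rw [← hdT]
      exact conj_mem_map_conj d (hxT' (Subgroup.mem_zpowers x'))
    have h2 : T ≤ Subgroup.centralizer ({x} : Set G) :=
      IsIsolated.commute_of_mem hiso hT.isPGroup (hxT (Subgroup.mem_zpowers x))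
    have h3 : (d * x' * d⁻¹) * x = x * (d * x' * d⁻¹) := mem_centralizer_singleton_iff.1 (h2 h1)
    have e1 : d * x' * d⁻¹ = (d * g) * x * (d * g)⁻¹ := by rw [hx']; group
    have h4 : (d * g) * x * (d * g)⁻¹ = x := by
      apply hiso
      rw [← e1]
      exact h3.symm
    have h5 : d * x' * d⁻¹ = x := by rw [e1, h4]
    -- in the quotient the image of `D` centralizes the image of `x`
    have hDle : D ≤ (Subgroup.centralizer ({(QuotientGroup.mk x : G ⧸ N)} : Set (G ⧸ N))).comap
        (QuotientGroup.mk' N) := by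
      rw [hD, Subgroup.closure_le]
      intro y hy
      rcases hy with rfl | hy
      · rw [SetLike.mem_coe, Subgroup.mem_comap, mem_centralizer_singleton_iff]
        rfl
      · rw [Set.mem_singleton_iff] at hy
        rw [hy, SetLike.mem_coe, Subgroup.mem_comap, mem_centralizer_singleton_iff]
        have : (QuotientGroup.mk' N) x' = (QuotientGroup.mk g : G ⧸ N) * QuotientGroup.mk x * (QuotientGroup.mk g)⁻¹ := by
          rw [hx']; rfl
        rw [this]
        exact hc.eq.symm
    have h6 := hDle hdD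
    have h7 : (QuotientGroup.mk d : G ⧸ N) * QuotientGroup.mk x = QuotientGroup.mk x * QuotientGroup.mk d :=
      mem_centralizer_singleton_iff.1 h6
    have h8 : (QuotientGroup.mk x' : G ⧸ N) = QuotientGroup.mk x := by
      have e2 : x' = d⁻¹ * x * d := by rw [← h5]; group
      rw [e2]
      show (QuotientGroup.mk d : G ⧸ N)⁻¹ * QuotientGroup.mk x * QuotientGroup.mk d = QuotientGroup.mk x
      rw [mul_assoc, ← h7, inv_mul_cancel_left]
    exact h8
  · intro hx1 hcyc
    obtain ⟨P, hPle⟩ := hP.exists_le_sylow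
    have hxP : x ∈ (P : Subgroup G) := hPle (Subgroup.mem_zpowers x)
    have hfix : Subgroup.normalizer ((P : Subgroup G) : Set G) ≤ Subgroup.centralizer ({x} : Set G) := by
      intro n hn
      have h1 : n * x * n⁻¹ ∈ (P : Subgroup G) := (Subgroup.mem_normalizer_iff.1 hn x).1 hxP
      have h2 := IsIsolated.commute_of_mem hiso P.isPGroup' hxP h1
      have h3 := mem_centralizer_singleton_iff.1 h2
      have h4 := hiso n h3.symm
      exact mem_centralizer_singleton_iff.2 (conj_eq_self_iff.1 h4)
    have hNC := normalizer_le_centralizer_of_cyclic_of_fixed P (hcyc P) hxP hx1 hfix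
    exact ⟨P, (MonoidHom.transferSylow P hNC).ker, inferInstance,
      MonoidHom.ker_transferSylow_isComplement' P hNC⟩

end Cfsg.Agent.S2970
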