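import Mathlib
import Cfsg.Statements.S1301
import Cfsg.Agent.Lib.Helper7.Glaub8
import Cfsg.Agent.Lib.Helper7.LpB7
import Cfsg.Agent.Lib.Helper7.LpB8
import Cfsg.Agent.Lib.Helper7.Frattini
import Cfsg.Agent.Lib.Helper7.ExtLayer

set_option autoImplicit false
open Cfsg

namespace Cfsg.Agent.S1301

open Cfsg.Agent.Helper7 in
/-- L-balance: for a finite group X and a 2-subgroup T ≤ X, L_{2'}(C_X(T)) ≤ L_{2'}(X). -/
theorem result {X : Type*} [Group X] [Finite X] (T : Subgroup X) (hT : IsPGroup 2 ↥T) : (Cfsg.pLayer 2 ↥(Subgroup.centralizer (T : Set X))).map (Subgroup.centralizer (T : Set X)).subtype ≤ Cfsg.pLayer 2 X := by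
  haveI : Fact (Nat.Prime 2) := ⟨Nat.prime_two⟩
  set C : Subgroup X := Subgroup.centralizer (T : Set X) with hC
  set O : Subgroup X := Cfsg.pPrimeCore 2 X with hOdef
  have hOcop : (Nat.card ↥O).Coprime 2 := Cfsg.Agent.Helper22.card_pPrimeCore_coprime 2
  set π := QuotientGroup.mk' O with hπ
  rw [Subgroup.map_le_iff_le_comap]
  unfold Cfsg.pLayer
  apply sSup_le
  intro J₀ hJ₀
  have hJ₀ : Cfsg.IsPComponent 2 J₀ := hJ₀
  rw [← Subgroup.map_le_iff_le_comap]
  show J₀.map C.subtype ≤ Cfsg.pLayer 2 X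
  set J : Subgroup X := J₀.map C.subtype with hJ
  have hJC : J ≤ C := by
    rintro _ ⟨a, _, rfl⟩
    exact a.2
  -- the image in `X / O(X)`
  have hCbar : C.map π = Subgroup.centralizer ((T.map π : Subgroup (X ⧸ O)) : Set (X ⧸ O)) :=
    (centralizer_map_mk'_eq hT hOcop).symm
  have hcomp : Cfsg.IsPComponent 2 ((J.map π).subgroupOf (C.map π)) := by
    have hf : Function.Surjective (π.subgroupMap C) := π.subgroupMap_surjective C
    have hker : (Nat.card ↥(π.subgroupMap C).ker).Coprime 2 := by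
      apply coprime_card_of_forall_orderOf_ne
      rintro ⟨x, hx⟩ hxo
      rw [Subgroup.orderOf_mk] at hxo
      have h1 : (x : X) ∈ O := by
        have h0 : π (x : X) = 1 := by
          have := congrArg Subtype.val (MonoidHom.mem_ker.mp hx)
          simpa using this
        rw [hπ, QuotientGroup.mk'_apply, QuotientGroup.eq_one_iff] at h0
        exact h0
      apply no_orderOf_eq_of_coprime_card 2 hOcop ⟨(x : X), h1⟩
      rw [Subgroup.orderOf_mk, Subgroup.orderOf_coe, hxo]
    have h2 := IsPComponent.map_of_surjective 2 hJ₀ (π.subgroupMap C) hf hker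
    have h3 : J₀.map (π.subgroupMap C) = (J.map π).subgroupOf (C.map π) := by
      ext y
      rw [Subgroup.mem_subgroupOf, Subgroup.mem_map, Subgroup.mem_map]
      constructor
      · rintro ⟨a, ha, rfl⟩
        exact ⟨(a : X), Subgroup.mem_map_of_mem _ ha, rfl⟩
      · rintro ⟨x, ⟨a, ha, rfl⟩, hx⟩
        exact ⟨a, ha, Subtype.ext hx⟩
    rw [← h3]
    exact h2
  -- transfer to the normalizer of the image of `T`
  have hCN : C.map π ≤ Subgroup.normalizer ((T.map π : Subgroup (X ⧸ O)) : Set (X ⧸ O)) := by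
    rw [hCbar]; exact Subgroup.centralizer_le_normalizer _
  have hNC : Subgroup.normalizer ((T.map π : Subgroup (X ⧸ O)) : Set (X ⧸ O)) ≤
      Subgroup.normalizer ((C.map π : Subgroup (X ⧸ O)) : Set (X ⧸ O)) := by
    rw [hCbar]; exact normalizer_le_normalizer_centralizer_sub (T.map π)
  have hcomp' : Cfsg.IsPComponent 2 ((J.map π).subgroupOf
      (Subgroup.normalizer ((T.map π : Subgroup (X ⧸ O)) : Set (X ⧸ O)))) :=
    isPComponent_subgroupOf_of_le_of_normal 2 (Subgroup.map_mono hJC) le_rfl hCN hNC hcomp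
  have hJbar : J.map π ≤ Cfsg.layer (X ⧸ O) :=
    Glaub.le_layer_of_isPComponent_normalizer_two (pPrimeCore_quotient_eq_bot' 2) (T.map π)
      (hT.map π) _ rfl ((Subgroup.map_mono hJC).trans hCN) hcomp'
  -- back to `X`
  have hgen : Cfsg.pElementClosure 2 J = J := by
    rw [hJ, ← map_pElementClosure_of_injective 2 C.subtype C.subtype_injective,
      IsPComponent.pElementClosure_eq 2 hJ₀]
  rw [← hgen]
  apply pElementClosure_le_of_forall
  intro d hd hdp
  apply pElement_mem_of_isSubnormal 2 O hOcop (pLayer_normal 2).isSubnormal d hdp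
  rw [map_pLayer_eq_layer 2]
  exact hJbar (Subgroup.mem_map_of_mem _ hd)

end Cfsg.Agent.S1301
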