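import Mathlib
import Cfsg.Statements.S1455
import Cfsg.Agent.S1450
import Cfsg.Agent.Lib.Helper8.NarrowSolv

set_option autoImplicit false
set_option linter.style.haveILetI false
open Cfsg

namespace Cfsg.Agent.S1455

open Cfsg.Agent.Helper8

/-- Let G be a solvable group of odd order, p a prime dividing its order, and S a Sylow p-subgroup of G that is narrow; if S has an elementary abelian subgroup of order p ^ 3 assume also G = O_{p',p,p'}(G). Then every prime dividing the index of O_{p'}(G) is at most p; if p = 3 or p is the smallest prime divisor of #G then G has a normal p-complement; G' has a normal p-complement; every subgroup of G' of order coprime to p lies in O_{p'}(G'); and G' ≤ O_{p',p}(G) with the index of O_{p',p}(G) coprime to p. -/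
theorem result {G : Type*} [Group G] [Finite G] [Group.IsSolvable G] (hodd : Odd (Nat.card G)) (p : ℕ) [Fact p.Prime] (hpG : p ∣ Nat.card G) (S : Sylow p G) (hS : Cfsg.IsNarrow p ↥(S : Subgroup G))
    (hpl : ¬ Cfsg.PRankLE p 2 ↥(S : Subgroup G) → Cfsg.PLengthLE p 1 G) :
    (∀ q : ℕ, q.Prime → q ∣ (Cfsg.pPrimeCore p G).index → q ≤ p) ∧
      ((p = 3 ∨ ∀ q : ℕ, q.Prime → q ∣ Nat.card G → p ≤ q) → Cfsg.HasNormalPComplement p G) ∧
      Cfsg.HasNormalPComplement p ↥(commutator G) ∧
      (∀ L : Subgroup ↥(commutator G), (Nat.card L).Coprime p → L ≤ Cfsg.pPrimeCore p ↥(commutator G)) ∧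
      commutator G ≤ Cfsg.pPrimePCore p G ∧ ((Cfsg.pPrimePCore p G).index).Coprime p := by
  by_cases hrk : Cfsg.PRankLE p 2 ↥(S : Subgroup G)
  · exact Cfsg.Agent.S1450.result hodd p hpG (NarrowSolv.pRankLE_of_sylow 2 S hrk)
  · have hpp : p.Prime := Fact.out
    have hp2 : p ≠ 2 := by
      rintro rfl
      exact (Nat.not_even_iff_odd.mpr hodd) (even_iff_two_dvd.mpr hpG)
    haveI hKn : (pPrimeCore p G).Normal := Helper7.pPrimeCore_normal' (G := G) p
    have hsolvQ : Group.IsSolvable (G ⧸ pPrimeCore p G) := inferInstance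
    have hoddQ : Odd (Nat.card (G ⧸ pPrimeCore p G)) := by
      have hdvd : Nat.card (G ⧸ pPrimeCore p G) ∣ Nat.card G := by
        rw [← Subgroup.index_eq_card]
        exact Subgroup.index_dvd_card _
      exact Odd.of_dvd_nat hodd hdvd
    have hO : pPrimeCore p (G ⧸ pPrimeCore p G) = ⊥ :=
      Helper23.PSolv.pPrimeCore_quotient_pPrimeCore p
    have hnar : IsNarrow p ↥(pCore p (G ⧸ pPrimeCore p G)) :=
      NarrowSolv.isNarrow_pCore_quotient p S hS (hpl hrk)
    obtain ⟨h1, h2, h3⟩ := NarrowSolv.core' hsolvQ hoddQ p hp2 hO hnar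
    exact RankTwoSolv.lift hodd p h1 h2 h3

end Cfsg.Agent.S1455
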