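import Mathlib
import Cfsg.Statements.S1410
import Cfsg.Agent.S1403
import Cfsg.Agent.S1404
import Cfsg.Agent.S1407
import Cfsg.Agent.S1444
import Cfsg.Agent.Lib.Helper1.BG107

set_option autoImplicit false
open Cfsg

namespace Cfsg.Agent.S1410

/-- Let G be a minimal simple group of odd order. Then for every prime p and every proper subgroup H of G, H = O_{p',p,p'}(H). -/
theorem result {G : Type*} [Group G] [Finite G] (hG : Cfsg.IsMinSimpleOddOrder G) (p : ℕ) [Fact p.Prime] (H : Subgroup G) (hH : H ≠ ⊤) :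
    Cfsg.PLengthLE p 1 H := by
  refine Cfsg.Agent.Helper1.BG107.plengthLE_one_of_ne_top hG
    (fun K hK hK2 hK3 => Cfsg.Agent.S1403.result hG K hK hK2 hK3)
    (fun M hM p _ hp X hXp hX1 hXM => Cfsg.Agent.S1404.result hG M hM p hp X hXp hX1 hXM)
    ?_ ?_ p H hH
  · intro M hM hMα r hr hrM hrσ
    haveI : Fact r.Prime := ⟨hr⟩
    obtain ⟨P⟩ : Nonempty (Sylow r ↥M) := inferInstance
    obtain ⟨x, hx, hox, hZ, -⟩ := Cfsg.Agent.S1407.result hG M hM hMα r hrM hrσ P
    refine ⟨x, ?_, hox, hZ⟩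
    obtain ⟨y, -, rfl⟩ := hx
    exact y.2
  · intro K _ _ _ hodd A R R₀ _ hHall hR hR₀ hR₀p hZ q _
    exact Cfsg.Agent.S1444.result hodd A R R₀ hHall hR hR₀ hR₀p hZ q

end Cfsg.Agent.S1410
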