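import Mathlib
import Cfsg.Agent.Lib.Helper8.RankTwoOdd
import Cfsg.Statements.S1448
-- import your own Cfsg.Agent.* helpers here

set_option autoImplicit false
open Cfsg

namespace Cfsg.Agent.S1448

/-- Let G be a finite group, p an odd prime, R a nontrivial p-subgroup with no elementary abelian subgroup of order p ^ 3, and A a subgroup of odd order coprime to p normalizing R with [R, A] = R. Then 3 < p, and either R is abelian or R is generated by two elementwise-commuting subgroups R₁, R₂ with R₁ non-abelian of order p ^ 3 and exponent p, R₂ cyclic, and the elements of R₂ of order dividing p generating exactly [R₁, R₁]. -/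
theorem result {G : Type*} [Group G] [Finite G] (p : ℕ) [Fact p.Prime] (hp : p ≠ 2) (R A : Subgroup G) (hR : IsPGroup p R) (hR1 : R ≠ ⊥) (hr : Cfsg.PRankLE p 2 R)
    (hA : (A ≤ Subgroup.normalizer (R : Set G))) (hcop : (Nat.card A).Coprime p) (hAodd : Odd (Nat.card A)) (hRA : ⁅R, A⁆ = R) :
    3 < p ∧ (IsMulCommutative R ∨ ∃ R₁ R₂ : Subgroup G, R₁ ⊔ R₂ = R ∧ (∀ a ∈ R₁, ∀ b ∈ R₂, a * b = b * a) ∧
        ¬ IsMulCommutative R₁ ∧ Nat.card R₁ = p ^ 3 ∧ Monoid.exponent R₁ = p ∧ IsCyclic R₂ ∧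
        Subgroup.closure {x : G | x ∈ R₂ ∧ x ^ p = 1} = ⁅R₁, R₁⁆) := by
  have hpp : p.Prime := Fact.out
  set φ : ↥A →* MulAut ↥R := (R.normalizerMonoidHom).comp (Subgroup.inclusion hA) with hφ
  have hφapp : ∀ (a : ↥A) (x : ↥R), ((φ a x : ↥R) : G) = (a : G) * (x : G) * (a : G)⁻¹ :=
    fun a x => rfl
  have hnt : Nontrivial ↥R := (Subgroup.nontrivial_iff_ne_bot R).mpr hR1
  have hcomm : ∀ K : Subgroup ↥R, K.Normal → (∀ g x, x⁻¹ * φ g x ∈ K) → K = ⊤ := by
    intro K _ hK
    have hle : ⁅R, A⁆ ≤ K.map R.subtype := by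
      rw [Subgroup.commutator_le]
      intro r hr b hb
      set x : ↥R := (⟨r, hr⟩ : ↥R)⁻¹ with hx
      rw [commutatorElement_def]
      refine ⟨x⁻¹ * φ ⟨b, hb⟩ x, hK _ x, ?_⟩
      show ((x⁻¹ : ↥R) : G) * ((φ ⟨b, hb⟩ x : ↥R) : G) = r * b * r⁻¹ * b⁻¹
      rw [hφapp, hx]
      simp only [inv_inv, Subgroup.coe_inv]
      group
    rw [hRA] at hle
    rw [eq_top_iff]
    intro x _
    obtain ⟨y, hy, hyx⟩ := hle x.2
    have : y = x := Subtype.ext hyx
    rw [← this]
    exact hy
  obtain ⟨hp3, hmain⟩ := Helper8.RankTwoOdd.main hp hR hnt hr φ hcop hAodd hcomm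
  refine ⟨hp3, ?_⟩
  rcases hmain with hab | ⟨N, X, hsup, hcommNX, hNnab, hNcard, hNexp, hXcyc, hZ1, hZ2⟩
  · left
    rw [isMulCommutative_iff_of_setLike]
    intro x hx y hy
    exact congrArg Subtype.val (hab ⟨x, hx⟩ ⟨y, hy⟩)
  · right
    refine ⟨N.map R.subtype, X.map R.subtype, ?_, ?_, ?_, ?_, ?_, ?_, ?_⟩
    · rw [← Subgroup.map_sup, hsup, ← MonoidHom.range_eq_map, Subgroup.range_subtype]
    · rintro _ ⟨a, ha, rfl⟩ _ ⟨b, hb, rfl⟩
      exact congrArg Subtype.val (hcommNX a ha b hb)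
    · intro hc
      rw [isMulCommutative_iff_of_setLike] at hc
      obtain ⟨a, ha, b, hb, hab⟩ := hNnab
      apply hab
      apply Subtype.ext
      exact hc a ⟨a, ha, rfl⟩ b ⟨b, hb, rfl⟩
    · rw [Subgroup.card_map_of_injective R.subtype_injective, hNcard]
    · have h1 : Monoid.exponent ↥(N.map R.subtype) ∣ p := by
        apply Monoid.exponent_dvd_of_forall_pow_eq_one
        rintro ⟨_, ⟨a, ha, rfl⟩⟩
        apply Subtype.ext
        show (R.subtype a) ^ p = 1
        rw [← map_pow, hNexp a ha, map_one]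
      rcases (Nat.dvd_prime hpp).mp h1 with h | h
      · exfalso
        rw [Monoid.exp_eq_one_iff] at h
        have h2 : Nat.card ↥(N.map R.subtype) = 1 := Nat.card_eq_one_iff_unique.mpr ⟨h, ⟨1⟩⟩
        rw [Subgroup.card_map_of_injective R.subtype_injective, hNcard] at h2
        have h3 : p ^ 3 = p ^ 0 := by rw [h2, pow_zero]
        have := Nat.pow_right_injective hpp.two_le h3
        omega
      · exact h
    · haveI := hXcyc
      exact isCyclic_of_surjective (R.subtype.subgroupMap X) (R.subtype.subgroupMap_surjective X)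
    · apply le_antisymm
      · rw [Subgroup.closure_le]
        rintro x ⟨⟨c, hc, rfl⟩, hxp⟩
        have hcp : c ^ p = 1 := by
          apply Subtype.ext
          simpa using hxp
        have h1 := hZ1 c hc hcp
        rw [← Subgroup.map_commutator]
        exact ⟨c, h1, rfl⟩
      · rw [← Subgroup.map_commutator]
        rintro _ ⟨c, hc, rfl⟩
        obtain ⟨h1, h2⟩ := hZ2 c hc
        apply Subgroup.subset_closure
        refine ⟨⟨c, h1, rfl⟩, ?_⟩
        show (R.subtype c) ^ p = 1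
        rw [← map_pow, h2, map_one]

end Cfsg.Agent.S1448
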