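import Mathlib
import Cfsg.Agent.S0640
import Cfsg.Agent.Lib.Helper7.Cores
import Cfsg.Agent.Lib.Helper7.PLocal
import Cfsg.Agent.Lib.Helper23.PSolvable
import Cfsg.Agent.Lib.Helper8.Narrow
import Cfsg.Agent.Lib.Helper8.NarrowPrime
import Cfsg.Statements.S1454

set_option autoImplicit false
open Cfsg

namespace Cfsg.Agent.S1454

/-- Let G be a finite group, p an odd prime, R a narrow p-subgroup and A a solvable subgroup of odd order normalizing R with A ∩ C_G(R) = 1. Then [A, A] ≤ O_p(A) and the index of O_p(A) in A is coprime to p; if R has an elementary abelian subgroup of order p ^ 3 then the order of every element of A of order coprime to p divides p − 1; and if the order of A is a prime not dividing p(p − 1), then 2·#A divides p + 1, and if in addition [R, A] = R and R is non-abelian then #R = p ^ 3. -/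
theorem result {G : Type*} [Group G] [Finite G] (p : ℕ) [Fact p.Prime] (hp : p ≠ 2) (R A : Subgroup G) (hR : IsPGroup p R) (hRn : Cfsg.IsNarrow p R)
    (hA : (A ≤ Subgroup.normalizer (R : Set G))) (hAs : Group.IsSolvable A) (hAodd : Odd (Nat.card A)) (hfaith : A ⊓ Subgroup.centralizer (R : Set G) = ⊥) :
    (commutator ↥A ≤ Cfsg.pCore p ↥A ∧ ((Cfsg.pCore p ↥A).index).Coprime p) ∧
      (¬ Cfsg.PRankLE p 2 R → ∀ a ∈ A, (orderOf a).Coprime p → orderOf a ∣ p - 1) ∧
      ((Nat.card A).Prime → ¬ Nat.card A ∣ p * (p - 1) →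
        2 * Nat.card A ∣ p + 1 ∧ (⁅R, A⁆ = R → ¬ IsMulCommutative R → Nat.card R = p ^ 3)) := by
  have hpp : p.Prime := Fact.out
  -- the action of `A` on `R`
  set φ : ↥A →* MulAut ↥R := (R.normalizerMonoidHom).comp (Subgroup.inclusion hA) with hφ
  have hφapp : ∀ (a : ↥A) (x : ↥R), ((φ a x : ↥R) : G) = (a : G) * (x : G) * (a : G)⁻¹ :=
    fun a x => rfl
  have hφinj : Function.Injective φ := by
    rw [injective_iff_map_eq_one]
    intro a ha
    have h1 : (a : G) ∈ A ⊓ Subgroup.centralizer (R : Set G) := by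
      refine Subgroup.mem_inf.mpr ⟨a.2, ?_⟩
      rw [Subgroup.mem_centralizer_iff]
      intro x hx
      have h2 := DFunLike.congr_fun ha ⟨x, hx⟩
      have h3 : (a : G) * x * (a : G)⁻¹ = x := by
        have := congrArg Subtype.val h2
        rwa [hφapp] at this
      calc x * (a : G) = ((a : G) * x * (a : G)⁻¹) * (a : G) := by rw [h3]
        _ = (a : G) * x := by group
    rw [hfaith, Subgroup.mem_bot] at h1
    exact Subtype.ext h1
  obtain ⟨hΓ, hΓq, hΓ3⟩ := Helper8.Narrow.aut p hp hR hRn hAs hAodd φ hφinj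
  have hPbp : IsPGroup p (pCore p ↥A) := Helper7.pCore_isPGroup p
  have hcomm : commutator ↥A ≤ pCore p ↥A := Helper7.le_pCore inferInstance hΓ
  refine ⟨⟨hcomm, ?_⟩, ?_, ?_⟩
  · obtain ⟨S⟩ : Nonempty (Sylow p ↥A) := inferInstance
    have hPS : pCore p ↥A ≤ S := Helper23.PSolv.pCore_le_sylow S
    have hSn : (S : Subgroup ↥A).Normal := by
      constructor
      intro n hn g
      have h1 : g * n * g⁻¹ * n⁻¹ ∈ commutator ↥A := by
        have := Subgroup.commutator_mem_commutator (Subgroup.mem_top g) (Subgroup.mem_top n)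
        rwa [commutatorElement_def] at this
      have h2 : g * n * g⁻¹ = (g * n * g⁻¹ * n⁻¹) * n := by group
      rw [h2]
      exact (S : Subgroup ↥A).mul_mem (hPS (hcomm h1)) hn
    have hSP : (S : Subgroup ↥A) ≤ pCore p ↥A := Helper7.le_pCore hSn S.2
    have heq : pCore p ↥A = S := le_antisymm hPS hSP
    rw [heq]
    exact ((Nat.Prime.coprime_iff_not_dvd hpp).mpr S.not_dvd_index).symm
  · intro hrk a ha hcop
    have h1 := hΓ3 hrk ⟨a, ha⟩ (by rwa [Subgroup.orderOf_mk])
    rwa [Subgroup.orderOf_mk] at h1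
  · intro hprime hnd
    set q := Nat.card A with hqdef
    haveI : Fact q.Prime := ⟨hprime⟩
    have hqne : q ≠ p := by
      intro h
      apply hnd
      rw [h]
      exact Dvd.intro _ rfl
    have hqcop : q.Coprime p := (Nat.coprime_primes hprime hpp).mpr hqne
    haveI hAnt : Nontrivial ↥A := (Finite.one_lt_card_iff_nontrivial).mp hprime.one_lt
    obtain ⟨a, ha1⟩ := exists_ne (1 : ↥A)
    have hao : orderOf a = q := by
      have h1 : orderOf a ∣ q := orderOf_dvd_natCard a
      rcases (Nat.dvd_prime hprime).mp h1 with h | h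
      · exact absurd (orderOf_eq_one_iff.mp h) ha1
      · exact h
    have hrk : PRankLE p 2 ↥R := by
      by_contra hrk
      have h1 := hΓ3 hrk a (by rw [hao]; exact hqcop)
      rw [hao] at h1
      exact hnd (Dvd.dvd.mul_left h1 _)
    set α := φ a with hα
    have hα1 : α ≠ 1 := by
      intro h
      apply ha1
      apply hφinj
      rw [← hα, h, map_one]
    have hαq : α ^ q = 1 := by
      rw [hα, ← map_pow, ← hao, pow_orderOf_eq_one, map_one]
    have hαo : orderOf α = q := by
      have h1 : orderOf α ∣ q := orderOf_dvd_of_pow_eq_one hαq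
      rcases (Nat.dvd_prime hprime).mp h1 with h | h
      · exact absurd (orderOf_eq_one_iff.mp h) hα1
      · exact h
    obtain ⟨hS1, -⟩ := Cfsg.Agent.S0640.result hp hR hrk q hprime hqne
      (by rw [← hαo]; exact orderOf_dvd_natCard α)
    have hq1 : ¬ q ∣ p - 1 := fun h => hnd (Dvd.dvd.mul_left h _)
    have hqp1 : q ∣ p + 1 := by
      have h1 : (p - 1) * (p + 1) = p ^ 2 - 1 := by
        have h0 : 1 ≤ p := hpp.one_le
        have h0' : 1 ≤ p ^ 2 := Nat.one_le_pow 2 p hpp.pos
        zify [h0, h0']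
        ring
      rw [← h1] at hS1
      exact (hprime.dvd_mul.mp hS1).resolve_left hq1
    have hqodd : Odd q := hAodd
    have hq2 : q ≠ 2 := by
      intro h
      rw [h] at hqodd
      exact absurd hqodd (by decide)
    have h2q : 2 * q ∣ p + 1 := by
      apply Nat.Coprime.mul_dvd_of_dvd_of_dvd
      · exact (Nat.coprime_primes Nat.prime_two hprime).mpr (Ne.symm hq2)
      · rcases hpp.eq_two_or_odd' with h | h
        · exact absurd h hp
        · obtain ⟨m, hm⟩ := h
          exact ⟨m + 1, by omega⟩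
      · exact hqp1
    refine ⟨h2q, ?_⟩
    intro hRA hnab
    have hq3 : 3 ≤ q := by
      have := hprime.two_le
      omega
    have hp3 : 3 < p := by
      have := Nat.le_of_dvd (by omega) h2q
      omega
    apply Helper8.NarrowPrime.card_eq_cube hp3 hR hrk hprime hnd α hαq hα1 ?_ ?_
    · intro K hKn hK
      have hpow : ∀ k : ℕ, ∀ x : ↥R, x⁻¹ * (α ^ k) x ∈ K := by
        intro k
        induction k with
        | zero =>
          intro x
          simp
        | succ k ih =>
          intro x
          rw [pow_succ', MulAut.mul_apply]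
          have h1 : x⁻¹ * α ((α ^ k) x) =
              (x⁻¹ * (α ^ k) x) * (((α ^ k) x)⁻¹ * α ((α ^ k) x)) := by group
          rw [h1]
          exact K.mul_mem (ih x) (hK _)
      have hle : ⁅R, A⁆ ≤ K.map R.subtype := by
        rw [Subgroup.commutator_le]
        intro r hr b hb
        have hbz : (⟨b, hb⟩ : ↥A) ∈ Subgroup.zpowers a := mem_zpowers_of_prime_card hqdef.symm ha1
        rw [← mem_powers_iff_mem_zpowers, Submonoid.mem_powers_iff] at hbz
        obtain ⟨k, hk⟩ := hbz
        set x : ↥R := (⟨r, hr⟩ : ↥R)⁻¹ with hx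
        rw [commutatorElement_def]
        refine ⟨x⁻¹ * (α ^ k) x, hpow k x, ?_⟩
        have h1 : (α ^ k) = φ ⟨b, hb⟩ := by rw [hα, ← map_pow, hk]
        rw [h1]
        show ((x⁻¹ : ↥R) : G) * ((φ ⟨b, hb⟩ x : ↥R) : G) = r * b * r⁻¹ * b⁻¹
        rw [hφapp, hx]
        simp only [inv_inv, Subgroup.coe_inv]
        group
      rw [hRA] at hle
      rw [eq_top_iff]
      intro x _
      obtain ⟨y, hy, hyx⟩ := hle x.2
      have : y = x := Subtype.ext hyx
      rw [← this]
      exact hy
    · by_contra h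
      apply hnab
      rw [isMulCommutative_iff_of_setLike]
      intro x hx y hy
      by_contra hxy
      apply h
      refine ⟨⟨x, hx⟩, ⟨y, hy⟩, ?_⟩
      intro h'
      exact hxy (congrArg Subtype.val h')

end Cfsg.Agent.S1454
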