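import Mathlib
import Cfsg.Statements.S0055

set_option autoImplicit false
open Pointwise
open Cfsg
open scoped IsMulCommutative commutatorElement

namespace Cfsg.Agent.S0055

/-- If A normalises an abelian subgroup V of coprime order, then V is the internal direct product of its A-fixed points and its commutator with A: the two meet trivially and generate V. -/
theorem result {G : Type*} [Group G] [Finite G] (A V : Subgroup G) [IsMulCommutative V]
    (hAV : A ≤ Subgroup.normalizer (V : Set G)) (hcop : (Nat.card A).Coprime (Nat.card V)) :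
    (V ⊓ Subgroup.centralizer (A : Set G)) ⊓ ⁅V, A⁆ = ⊥ ∧ (V ⊓ Subgroup.centralizer (A : Set G)) ⊔ ⁅V, A⁆ = V := by
  classical
  haveI : Fintype A := Fintype.ofFinite A
  have hconj : ∀ a ∈ A, ∀ v ∈ V, a * v * a⁻¹ ∈ V := by
    intro a ha v hv
    exact (Subgroup.mem_normalizer_iff.1 (hAV ha) v).1 hv
  have hVA : ⁅V, A⁆ ≤ V := by
    rw [Subgroup.commutator_le]
    intro v hv a ha
    rw [commutatorElement_def]
    have := hconj a ha v⁻¹ (V.inv_mem hv)
    have h2 : v * a * v⁻¹ * a⁻¹ = v * (a * v⁻¹ * a⁻¹) := by group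
    rw [h2]
    exact V.mul_mem hv this
  -- conjugation homs
  let c : A → (V →* V) := fun a =>
    { toFun := fun v => ⟨(a : G) * (v : G) * (a : G)⁻¹, hconj a a.2 v v.2⟩
      map_one' := by apply Subtype.ext; simp
      map_mul' := by intro x y; apply Subtype.ext; simp [mul_assoc] }
  have hc_val : ∀ (a : A) (v : V), ((c a v : V) : G) = (a : G) * (v : G) * (a : G)⁻¹ := fun a v => rfl
  have hc_mul : ∀ (a b : A) (v : V), c a (c b v) = c (a * b) v := by
    intro a b v
    apply Subtype.ext
    simp only [hc_val, Subgroup.coe_mul, mul_inv_rev, mul_assoc]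
  let τ : V →* V :=
    { toFun := fun v => ∏ a : A, c a v
      map_one' := by simp
      map_mul' := by intro x y; simp [Finset.prod_mul_distrib] }
  have hτ : ∀ v : V, τ v = ∏ a : A, c a v := fun v => rfl
  -- Fact 1: τ v is fixed by A
  have fact1 : ∀ (b : A) (v : V), c b (τ v) = τ v := by
    intro b v
    rw [hτ, map_prod]
    simp only [hc_mul]
    exact Fintype.prod_equiv (Equiv.mulLeft b) _ _ (fun a => rfl)
  -- Fact 1': τ (c a v) = τ v
  have fact1' : ∀ (b : A) (v : V), τ (c b v) = τ v := by
    intro b v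
    rw [hτ, hτ]
    simp only [hc_mul]
    exact Fintype.prod_equiv (Equiv.mulRight b) _ _ (fun a => rfl)
  -- Fact 2
  have fact2 : ∀ v : V, (v : G) ∈ Subgroup.centralizer (A : Set G) → τ v = v ^ Nat.card A := by
    intro v hv
    rw [hτ]
    have : ∀ a : A, c a v = v := by
      intro a
      apply Subtype.ext
      rw [hc_val]
      have := (Subgroup.mem_centralizer_iff.1 hv) a a.2
      rw [this, mul_assoc, mul_inv_cancel, mul_one]
    simp only [this, Finset.prod_const, Finset.card_univ, Nat.card_eq_fintype_card]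
  -- Fact 3: ⁅V, A⁆ ≤ ker τ
  have fact3 : ⁅V, A⁆ ≤ (τ.ker).map V.subtype := by
    rw [Subgroup.commutator_le]
    intro v hv a ha
    refine ⟨⟨v, hv⟩ * (c ⟨a, ha⟩ ⟨v, hv⟩)⁻¹, ?_, ?_⟩
    · rw [SetLike.mem_coe, MonoidHom.mem_ker, map_mul, map_inv, fact1', mul_inv_cancel]
    · simp only [Subgroup.coe_subtype, Subgroup.coe_mul, Subgroup.coe_inv, hc_val]
      rw [commutatorElement_def]
      group
  constructor
  · -- trivial intersection
    rw [eq_bot_iff]
    intro x hx
    rw [Subgroup.mem_bot]
    obtain ⟨⟨hxV, hxC⟩, hxc⟩ := hx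
    obtain ⟨x', hx'ker, hx'⟩ := fact3 hxc
    have hxx : x' = ⟨x, hxV⟩ := Subtype.ext hx'
    have h1 : τ x' = 1 := hx'ker
    have h2 : τ x' = x' ^ Nat.card A := fact2 x' (by rw [hxx]; exact hxC)
    have h3 : x' ^ Nat.card A = 1 := by rw [← h2, h1]
    have h4 : orderOf x' ∣ Nat.card A := orderOf_dvd_of_pow_eq_one h3
    have h5 : orderOf x' ∣ Nat.card V := orderOf_dvd_natCard x'
    have h6 : orderOf x' = 1 := Nat.eq_one_of_dvd_coprimes hcop h4 h5
    rw [orderOf_eq_one_iff] at h6
    rw [← hx', h6]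
    rfl
  · apply le_antisymm
    · exact sup_le inf_le_left hVA
    · intro v hv
      set S := (V ⊓ Subgroup.centralizer (A : Set G)) ⊔ ⁅V, A⁆ with hS
      set v' : V := ⟨v, hv⟩ with hv'
      -- τ v' ∈ V ⊓ C(A)
      have hτC : ((τ v' : V) : G) ∈ V ⊓ Subgroup.centralizer (A : Set G) := by
        refine Subgroup.mem_inf.2 ⟨(τ v').2, ?_⟩
        rw [Subgroup.mem_centralizer_iff]
        intro a ha
        have := fact1 ⟨a, ha⟩ v'
        have h := congrArg Subtype.val this
        rw [hc_val] at h
        calc a * ((τ v' : V) : G) = (a * ((τ v' : V) : G) * a⁻¹) * a := by group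
          _ = ((τ v' : V) : G) * a := by rw [show ((⟨a, ha⟩ : A) : G) = a from rfl] at h; rw [h]
      -- v'^n * (τ v')⁻¹ ∈ ⁅V, A⁆
      have hW : v' ^ Nat.card A * (τ v')⁻¹ ∈ (⁅V, A⁆).subgroupOf V := by
        have : v' ^ Nat.card A * (τ v')⁻¹ = ∏ a : A, (v' * (c a v')⁻¹) := by
          rw [Finset.prod_mul_distrib, Finset.prod_inv_distrib, Finset.prod_const, Finset.card_univ,
            Nat.card_eq_fintype_card, hτ]
        rw [this]
        apply Subgroup.prod_mem
        intro a _
        rw [Subgroup.mem_subgroupOf]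
        have : ((v' * (c a v')⁻¹ : V) : G) = ⁅v, (a : G)⁆ := by
          have h0 : ((v' * (c a v')⁻¹ : V) : G) = v * ((a : G) * v * (a : G)⁻¹)⁻¹ := rfl
          rw [h0, commutatorElement_def]
          group
        rw [this]
        exact Subgroup.commutator_mem_commutator hv a.2
      have hvn : v ^ Nat.card A ∈ S := by
        have h1 : ((τ v' : V) : G) ∈ S := Subgroup.mem_sup_left hτC
        have h2 : ((v' ^ Nat.card A * (τ v')⁻¹ : V) : G) ∈ S :=
          Subgroup.mem_sup_right (Subgroup.mem_subgroupOf.1 hW)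
        have h3 := S.mul_mem h2 h1
        have h4 : ((v' ^ Nat.card A * (τ v')⁻¹ : V) : G) * ((τ v' : V) : G) = v ^ Nat.card A := by
          rw [← Subgroup.coe_mul, inv_mul_cancel_right]
          rfl
        rwa [h4] at h3
      have hvk : v ^ Nat.card V ∈ S := by
        have : v' ^ Nat.card V = 1 := pow_card_eq_one'
        have h := congrArg Subtype.val this
        simp only [Subgroup.coe_pow, Subgroup.coe_one] at h
        rw [show (v' : G) = v from rfl] at h
        rw [h]
        exact S.one_mem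
      have hgcd := Int.gcd_eq_gcd_ab (Nat.card A) (Nat.card V)
      have hg1 : Nat.gcd (Nat.card A) (Nat.card V) = 1 := hcop
      rw [Int.gcd_natCast_natCast, hg1] at hgcd
      have : v = (v ^ Nat.card A) ^ (Int.gcdA (Nat.card A) (Nat.card V)) *
          (v ^ Nat.card V) ^ (Int.gcdB (Nat.card A) (Nat.card V)) := by
        rw [← zpow_natCast, ← zpow_natCast, ← zpow_mul, ← zpow_mul, ← zpow_add, ← hgcd]
        simp
      rw [this]
      exact S.mul_mem (S.zpow_mem hvn _) (S.zpow_mem hvk _)

end Cfsg.Agent.S0055
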