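import Mathlib
import Cfsg.Statements.S0651
import Cfsg.Agent.Lib.Helper4.GlaubermanRepl2

set_option autoImplicit false
open Cfsg
open scoped commutatorElement

namespace Cfsg.Agent.S0651

open Cfsg.Agent.Helper4.GR

/-- Glauberman replacement for abelian subgroups of largest order of a normal subgroup `D`. -/
theorem result {S : Type*} [Group S] [Finite S] {p : ℕ} [Fact p.Prime] (hS : IsPGroup p S) (hp : p ≠ 2) (D : Subgroup S) [D.Normal] : ∀ (B : Subgroup S) [B.Normal], ⁅⁅B, B⁆, B⁆ = ⊥ → (∃ U ∈ (Set.image (fun A : Subgroup ↥D => A.map D.subtype) (Cfsg.maxAbelianSubgroups ↥D)), ⁅B, B⁆ ≤ U ∧ ¬ B ≤ U) → ∃ A ∈ (Set.image (fun A : Subgroup ↥D => A.map D.subtype) (Cfsg.maxAbelianSubgroups ↥D)), ⁅B, B⁆ ≤ A ∧ ¬ B ≤ A ∧ B ≤ Subgroup.normalizer (A : Set S) := by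
  intro B _ _ hU
  refine replacement_abstract hS B (fun h => absurd h hp) _ ?_ ?_ hU
  · intro A hA
    exact ((mem_maxAbelian_image_iff D A).1 hA).2.1
  · intro A hA hBA b hbB hbN hbA
    obtain ⟨hAD, hAc, hmax⟩ := (mem_maxAbelian_image_iff D A).1 hA
    have hnot : ¬ B ≤ Subgroup.normalizer (A : Set S) := fun hle => hbA (hle hbB)
    have hres := Cfsg.Agent.S0650.result hS B (fun h => absurd h hp) A hAc hBA hnot b hbB hbN hbA
    obtain ⟨h1, h2, -⟩ := hres
    have hE : ((A ⊓ A.map (MulAut.conj (b⁻¹)).toMonoidHom) ⊔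
        Subgroup.closure {g : S | ∃ a ∈ A, g = a * b⁻¹ * a⁻¹ * b}) = Astar A b := rfl
    rw [hE] at h1 h2
    rw [mem_maxAbelian_image_iff]
    refine ⟨Astar_le_of_normal hAD b, h2, ?_⟩
    intro A' hA'D hA'c
    rw [h1]
    exact hmax A' hA'D hA'c

end Cfsg.Agent.S0651
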