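import Mathlib
import Cfsg.Statements.S0652
import Cfsg.Agent.Lib.Helper4.GlaubermanRepl2

set_option autoImplicit false
open Cfsg
open scoped commutatorElement

namespace Cfsg.Agent.S0652

open Cfsg.Agent.Helper4.GR

/-- Glauberman replacement for elementary abelian subgroups of largest order of a normal subgroup `D`. -/
theorem result {S : Type*} [Group S] [Finite S] {p : ℕ} [Fact p.Prime] (hS : IsPGroup p S) (hp : p ≠ 2) (D : Subgroup S) [D.Normal] : ∀ (B : Subgroup S) [B.Normal], ⁅⁅B, B⁆, B⁆ = ⊥ → (∃ U ∈ (Set.image (fun A : Subgroup ↥D => A.map D.subtype) (Cfsg.maxElementaryAbelianSubgroups p ↥D)), ⁅B, B⁆ ≤ U ∧ ¬ B ≤ U) → ∃ A ∈ (Set.image (fun A : Subgroup ↥D => A.map D.subtype) (Cfsg.maxElementaryAbelianSubgroups p ↥D)), ⁅B, B⁆ ≤ A ∧ ¬ B ≤ A ∧ B ≤ Subgroup.normalizer (A : Set S) := by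
  intro B _ _ hU
  refine replacement_abstract hS B (fun h => absurd h hp) _ ?_ ?_ hU
  · intro A hA
    exact ((mem_maxElementaryAbelian_image_iff p D A).1 hA).2.1.1
  · intro A hA hBA b hbB hbN hbA
    obtain ⟨hAD, ⟨hAc, hAexp⟩, hmax⟩ := (mem_maxElementaryAbelian_image_iff p D A).1 hA
    have hnot : ¬ B ≤ Subgroup.normalizer (A : Set S) := fun hle => hbA (hle hbB)
    have hres := Cfsg.Agent.S0650.result hS B (fun h => absurd h hp) A hAc hBA hnot b hbB hbN hbA
    obtain ⟨h1, h2, -, -, -, -, -, -, -, h10⟩ := hres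
    have hE : ((A ⊓ A.map (MulAut.conj (b⁻¹)).toMonoidHom) ⊔
        Subgroup.closure {g : S | ∃ a ∈ A, g = a * b⁻¹ * a⁻¹ * b}) = Astar A b := rfl
    rw [hE] at h1 h2 h10
    rw [mem_maxElementaryAbelian_image_iff]
    refine ⟨Astar_le_of_normal hAD b, ⟨h2, ?_⟩, ?_⟩
    · intro x hx
      have hd1 : Monoid.exponent A ∣ p := by
        apply Monoid.exponent_dvd_of_forall_pow_eq_one
        intro a
        apply Subtype.ext
        rw [Subgroup.coe_pow]
        exact hAexp a a.2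
      have hd2 : Monoid.exponent (Astar A b) ∣ p := (h10 hp).trans hd1
      have h3 : (⟨x, hx⟩ : Astar A b) ^ p = 1 := by
        obtain ⟨k, hk⟩ := hd2
        rw [hk, pow_mul, Monoid.pow_exponent_eq_one, one_pow]
      exact congrArg Subtype.val h3
    · intro A' hA'D hA'e
      rw [h1]
      exact hmax A' hA'D hA'e

end Cfsg.Agent.S0652
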