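import Mathlib
import Cfsg.Statements.S3836

set_option autoImplicit false
open Cfsg

namespace Cfsg.Agent.S3836

theorem isPGroup_pCore (p : ℕ) (X : Type*) [Group X] : IsPGroup p ↥(Cfsg.pCore p X) :=
  Sylow.sSup_of_normal _ (fun _ h => h.2) (fun _ h => h.1)

/-- Let G be a finite group that is p-stable in the normalizer form: for every p-subgroup Q and every x ∈ N_G(Q) with [Q, x, x] = 1, the image of x in N_G(Q)/C_G(Q) lies in O_p(N_G(Q)/C_G(Q)). Then every subgroup of G is p-stable in the same sense. -/
theorem result {G : Type*} [Group G] [Finite G] {p : ℕ} [Fact p.Prime] (hst : Cfsg.IsNormalizerPStable p G) (H : Subgroup G) : Cfsg.IsNormalizerPStable p ↥H := by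
  intro P' hP' g' hg' hquad
  set P := P'.map H.subtype with hPdef
  have hP : IsPGroup p P := hP'.map _
  have hnorm : ∀ x : ↥H, x ∈ Subgroup.normalizer (P' : Set ↥H) →
      (x : G) ∈ Subgroup.normalizer (P : Set G) := by
    intro x hx
    exact Subgroup.le_normalizer_map H.subtype ⟨x, hx, rfl⟩
  have hg : (g' : G) ∈ Subgroup.normalizer (P : Set G) := hnorm g' hg'
  have hquad' : ⁅⁅P, Subgroup.zpowers (g' : G)⁆, Subgroup.zpowers (g' : G)⁆ = ⊥ := by
    have h1 : Subgroup.zpowers (g' : G) = (Subgroup.zpowers g').map H.subtype := by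
      rw [MonoidHom.map_zpowers]; rfl
    rw [h1, hPdef, ← Subgroup.map_commutator, ← Subgroup.map_commutator, hquad, Subgroup.map_bot]
  have hmain := hst P hP (g' : G) hg hquad'
  -- the map of normalizers
  let f : ↥(Subgroup.normalizer (P' : Set ↥H)) →* ↥(Subgroup.normalizer (P : Set G)) :=
    { toFun := fun x => ⟨((x : ↥H) : G), hnorm x x.2⟩
      map_one' := rfl
      map_mul' := fun _ _ => rfl }
  have hcent : ∀ x : ↥(Subgroup.normalizer (P' : Set ↥H)),
      (x : ↥H) ∈ Subgroup.centralizer (P' : Set ↥H) ↔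
        ((x : ↥H) : G) ∈ Subgroup.centralizer (P : Set G) := by
    intro x
    rw [Subgroup.mem_centralizer_iff, Subgroup.mem_centralizer_iff]
    constructor
    · intro h y hy
      obtain ⟨y', hy', rfl⟩ := hy
      have := h y' hy'
      have := congrArg (fun z : ↥H => (z : G)) this
      simpa using this
    · intro h y' hy'
      have := h (y' : G) ⟨y', hy', rfl⟩
      apply Subtype.ext
      simpa using this
  have hle : (Subgroup.centralizer (P' : Set ↥H)).subgroupOf (Subgroup.normalizer (P' : Set ↥H)) ≤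
      ((Subgroup.centralizer (P : Set G)).subgroupOf (Subgroup.normalizer (P : Set G))).comap f := by
    intro x hx
    rw [Subgroup.mem_comap, Subgroup.mem_subgroupOf]
    rw [Subgroup.mem_subgroupOf] at hx
    exact (hcent x).mp hx
  let ι := QuotientGroup.map
    ((Subgroup.centralizer (P' : Set ↥H)).subgroupOf (Subgroup.normalizer (P' : Set ↥H)))
    ((Subgroup.centralizer (P : Set G)).subgroupOf (Subgroup.normalizer (P : Set G))) f hle
  have hinj : Function.Injective ι := by
    rw [← MonoidHom.ker_eq_bot_iff, QuotientGroup.ker_map, eq_bot_iff]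
    rintro _ ⟨x, hx, rfl⟩
    rw [Subgroup.mem_bot, QuotientGroup.mk'_apply, QuotientGroup.eq_one_iff, Subgroup.mem_subgroupOf]
    rw [SetLike.mem_coe, Subgroup.mem_comap, Subgroup.mem_subgroupOf] at hx
    exact (hcent x).mpr hx
  have hK1 : ((Cfsg.pCore p _).comap ι).Normal := Subgroup.Normal.comap inferInstance ι
  have hK2 : IsPGroup p ↥((Cfsg.pCore p _).comap ι) :=
    (isPGroup_pCore p _).comap_of_injective ι hinj
  have hKle : (Cfsg.pCore p _).comap ι ≤ Cfsg.pCore p _ := le_sSup ⟨hK1, hK2⟩
  apply hKle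
  rw [Subgroup.mem_comap]
  exact hmain

end Cfsg.Agent.S3836
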