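import Mathlib
import Cfsg.Statements.S0262
import Cfsg.Agent.Lib.Helper12.SL2Upper

set_option autoImplicit false
open Cfsg

namespace Cfsg.Agent.S0262

open Cfsg.Agent.Helper12 Matrix

variable {F : Type*} [Field F] [Fintype F]

/-- the diagonal torus -/
def diagSL (u : Fˣ) : Matrix.SpecialLinearGroup (Fin 2) F :=
  ⟨!![(u : F), 0; 0, ((u⁻¹ : Fˣ) : F)], by simp [Matrix.det_fin_two]⟩

lemma diagSL_coe (u : Fˣ) :
    (diagSL u : Matrix (Fin 2) (Fin 2) F) = !![(u : F), 0; 0, ((u⁻¹ : Fˣ) : F)] := rfl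

lemma diagSL_mul (u v : Fˣ) : diagSL (u * v) = diagSL u * diagSL v := by
  apply Subtype.ext
  rw [Matrix.SpecialLinearGroup.coe_mul, diagSL_coe, diagSL_coe, diagSL_coe]
  ext i j
  fin_cases i <;> fin_cases j <;> simp [Matrix.mul_apply, Fin.sum_univ_two, mul_comm]

lemma diagSL_one : diagSL (1 : Fˣ) = 1 := by
  apply Subtype.ext
  rw [Matrix.SpecialLinearGroup.coe_one, diagSL_coe]
  ext i j
  fin_cases i <;> fin_cases j <;> simp

/-- the diagonal torus as a homomorphism -/
def diagHom : Fˣ →* Matrix.SpecialLinearGroup (Fin 2) F where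
  toFun := diagSL
  map_one' := diagSL_one
  map_mul' := diagSL_mul

lemma diagHom_injective : Function.Injective (diagHom (F := F)) := by
  intro u v h
  have h1 := congrArg (fun g : Matrix.SpecialLinearGroup (Fin 2) F => (g : Matrix (Fin 2) (Fin 2) F) 0 0) h
  simp only [diagHom, MonoidHom.coe_mk, OneHom.coe_mk, diagSL_coe] at h1
  simp at h1
  exact Units.ext h1

theorem exists_orderOf_split :
    ∃ x : Matrix.SpecialLinearGroup (Fin 2) F, orderOf x = Fintype.card F - 1 := by
  obtain ⟨ζ, hζ⟩ := IsCyclic.exists_generator (α := Fˣ)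
  refine ⟨diagHom ζ, ?_⟩
  rw [orderOf_injective diagHom diagHom_injective, orderOf_eq_card_of_forall_mem_zpowers hζ,
    Nat.card_units, Nat.card_eq_fintype_card]

theorem exists_orderOf_nonsplit (p : ℕ) [Fact p.Prime] [CharP F p] :
    ∃ x : Matrix.SpecialLinearGroup (Fin 2) F, orderOf x = Fintype.card F + 1 := by
  classical
  have hq1 : 1 < Fintype.card F := Fintype.one_lt_card
  let K := FiniteField.Extension F p 2
  have hfr : Module.finrank F K = 2 := FiniteField.finrank_extension F p 2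
  have hcK : Nat.card K = Fintype.card F ^ 2 := by
    rw [FiniteField.natCard_extension, Nat.card_eq_fintype_card]
  obtain ⟨y, hy⟩ := IsCyclic.exists_generator (α := Kˣ)
  have hfact : Fintype.card F ^ 2 - 1 = (Fintype.card F + 1) * (Fintype.card F - 1) := by
    obtain ⟨m, hm⟩ := Nat.exists_eq_add_of_le hq1.le
    rw [hm]
    simp only [Nat.add_sub_cancel_left]
    have : (1 + m) ^ 2 = (1 + m + 1) * m + 1 := by ring
    rw [this, Nat.add_sub_cancel]
  have hyo : orderOf y = (Fintype.card F + 1) * (Fintype.card F - 1) := by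
    rw [orderOf_eq_card_of_forall_mem_zpowers hy, Nat.card_units, hcK, hfact]
  set x : Kˣ := y ^ (Fintype.card F - 1) with hx
  have hxo : orderOf x = Fintype.card F + 1 := by
    rw [hx, orderOf_pow, hyo, Nat.gcd_eq_right (Dvd.intro_left _ rfl),
      Nat.mul_div_cancel _ (by omega)]
  have hnorm : Algebra.norm F (x : K) = 1 := by
    rw [hx, Units.val_pow_eq_pow_val, map_pow]
    apply FiniteField.pow_card_sub_one_eq_one
    rw [Algebra.norm_ne_zero_iff]
    exact y.ne_zero
  let b : Module.Basis (Fin 2) F K := Module.finBasisOfFinrankEq F K hfr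
  let φ := Algebra.leftMulMatrix b
  have hφinj : Function.Injective φ := Algebra.leftMulMatrix_injective b
  have hdet : (φ (x : K)).det = 1 := by
    rw [← Algebra.norm_eq_matrix_det b, hnorm]
  let g : Matrix.SpecialLinearGroup (Fin 2) F := ⟨φ (x : K), hdet⟩
  have hgc : (g : Matrix (Fin 2) (Fin 2) F) = φ (x : K) := rfl
  refine ⟨g, ?_⟩
  rw [← hxo]
  rw [orderOf_eq_orderOf_iff]
  intro k
  constructor
  · intro h
    apply Units.ext
    apply hφinj
    rw [Units.val_pow_eq_pow_val, map_pow, ← hgc, ← Matrix.SpecialLinearGroup.coe_pow, h,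
      Units.val_one, map_one, Matrix.SpecialLinearGroup.coe_one]
  · intro h
    apply Subtype.ext
    rw [Matrix.SpecialLinearGroup.coe_pow, hgc, ← map_pow, ← Units.val_pow_eq_pow_val, h,
      Units.val_one, map_one, Matrix.SpecialLinearGroup.coe_one]

/-- For an odd prime r different from the characteristic, the Sylow r-subgroups of SL_2(q) are cyclic. -/
theorem result {F : Type*} [Field F] [Fintype F] (p : ℕ) [Fact p.Prime] [CharP F p] (r : ℕ) [Fact r.Prime] (hr : r ≠ 2) (hrp : r ≠ p) (R : Sylow r (Matrix.SpecialLinearGroup (Fin 2) F)) : IsCyclic (R : Subgroup (Matrix.SpecialLinearGroup (Fin 2) F)) := by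
  classical
  have hrprime : r.Prime := Fact.out
  have hpprime : p.Prime := Fact.out
  have hq1 : 1 < Fintype.card F := Fintype.one_lt_card
  set q := Fintype.card F with hq
  set a := (Nat.card (Matrix.SpecialLinearGroup (Fin 2) F)).factorization r with ha
  have hcard : Nat.card (Matrix.SpecialLinearGroup (Fin 2) F) = q * (q ^ 2 - 1) := card_SL2
  have hdvd : r ^ a ∣ Nat.card (Matrix.SpecialLinearGroup (Fin 2) F) := Nat.ordProj_dvd _ _
  have hrq : Nat.Coprime (r ^ a) q := by
    obtain ⟨n, hn⟩ := FiniteField.card F p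
    rw [hq, hn.2]
    apply Nat.Coprime.pow
    exact (Nat.coprime_primes hrprime hpprime).2 hrp
  have hfact : q ^ 2 - 1 = (q - 1) * (q + 1) := by
    obtain ⟨m, hm⟩ := Nat.exists_eq_add_of_le hq1.le
    rw [hm]
    simp only [Nat.add_sub_cancel_left]
    have : (1 + m) ^ 2 = m * (1 + m + 1) + 1 := by ring
    rw [this, Nat.add_sub_cancel]
  have h2 : r ^ a ∣ (q - 1) * (q + 1) := by
    rw [hcard, hfact] at hdvd
    exact hrq.dvd_of_dvd_mul_left hdvd
  have h3 : r ^ a ∣ q - 1 ∨ r ^ a ∣ q + 1 := by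
    by_cases h : r ∣ q - 1
    · left
      have h4 : ¬ r ∣ q + 1 := by
        intro h5
        have h6 : r ∣ (q + 1) - (q - 1) := Nat.dvd_sub h5 h
        have h7 : (q + 1) - (q - 1) = 2 := by omega
        rw [h7] at h6
        exact hr ((Nat.prime_dvd_prime_iff_eq hrprime Nat.prime_two).1 h6)
      have h8 : Nat.Coprime (r ^ a) (q + 1) :=
        Nat.Coprime.pow_left _ ((Nat.Prime.coprime_iff_not_dvd hrprime).2 h4)
      exact h8.dvd_of_dvd_mul_right h2
    · right
      have h8 : Nat.Coprime (r ^ a) (q - 1) :=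
        Nat.Coprime.pow_left _ ((Nat.Prime.coprime_iff_not_dvd hrprime).2 h)
      exact h8.dvd_of_dvd_mul_left h2
  obtain ⟨m, x, hx, hm⟩ : ∃ (m : ℕ) (x : Matrix.SpecialLinearGroup (Fin 2) F),
      orderOf x = m ∧ r ^ a ∣ m := by
    rcases h3 with h | h
    · obtain ⟨x, hx⟩ := exists_orderOf_split (F := F)
      exact ⟨_, x, hx, h⟩
    · obtain ⟨x, hx⟩ := exists_orderOf_nonsplit (F := F) p
      exact ⟨_, x, hx, h⟩
  have hm0 : 0 < m := by rw [← hx]; exact orderOf_pos x
  have hra0 : 0 < r ^ a := pow_pos hrprime.pos _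
  obtain ⟨c, hc⟩ := hm
  have hc0 : c ≠ 0 := by
    rintro rfl
    rw [mul_zero] at hc
    omega
  let z := x ^ c
  have hz : orderOf z = r ^ a := by
    have : c ∣ orderOf x := by rw [hx, hc]; exact Dvd.intro_left _ rfl
    rw [orderOf_pow_of_dvd hc0 this, hx, hc, Nat.mul_div_cancel _ (Nat.pos_of_ne_zero hc0)]
  let P : Sylow r (Matrix.SpecialLinearGroup (Fin 2) F) :=
    Sylow.ofCard (Subgroup.zpowers z) (by rw [Nat.card_zpowers, hz])
  have hP : IsCyclic (P : Subgroup (Matrix.SpecialLinearGroup (Fin 2) F)) := by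
    change IsCyclic (Subgroup.zpowers z)
    infer_instance
  obtain ⟨g, hg⟩ := MulAction.exists_smul_eq (Matrix.SpecialLinearGroup (Fin 2) F) P R
  subst hg
  exact (MulEquiv.isCyclic (Sylow.equivSMul P g)).1 hP

end Cfsg.Agent.S0262
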