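import Mathlib
import Cfsg.Statements.S0268

set_option autoImplicit false
open Cfsg

namespace Cfsg.Agent.S0268

theorem key {F : Type*} [Field F] (a b c d : F) (h2ne : (2 : F) ≠ 0) (hdet : a * d - b * c = 1)
    (e00 : a * a + b * c = 1) (e01 : a * b + b * d = 0) (e10 : c * a + d * c = 0) :
    (a = 1 ∧ b = 0 ∧ c = 0 ∧ d = 1) ∨ (a = -1 ∧ b = 0 ∧ c = 0 ∧ d = -1) := by
  have had : a = d := by
    have : (a - d) = 0 := by
      have k1 : a = a * (a * d - b * c) := by rw [hdet, mul_one]
      have k2 : d = d * (a * a + b * c) := by rw [e00, mul_one]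
      have k3 : b * (a + d) = 0 := by linear_combination e01
      linear_combination k1 - k2 - c * k3
    exact sub_eq_zero.mp this
  subst had
  have hb0 : b = 0 := by
    have k : 2 * (a * b) = 0 := by linear_combination e01
    have k' : a * b = 0 := by
      rcases mul_eq_zero.mp k with h | h
      · exact absurd h h2ne
      · exact h
    rcases mul_eq_zero.mp k' with h | h
    · exfalso
      rw [h] at hdet e00
      apply h2ne
      linear_combination -(e00 + hdet)
    · exact h
  subst hb0
  have hc0 : c = 0 := by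
    have k : 2 * (a * c) = 0 := by linear_combination e10
    have k' : a * c = 0 := by
      rcases mul_eq_zero.mp k with h | h
      · exact absurd h h2ne
      · exact h
    rcases mul_eq_zero.mp k' with h | h
    · exfalso
      rw [h] at e00
      simp at e00
    · exact h
  subst hc0
  have haa : a * a = 1 := by simpa using e00
  rcases mul_self_eq_one_iff.mp haa with h | h
  · exact Or.inl ⟨h, rfl, rfl, h⟩
  · exact Or.inr ⟨h, rfl, rfl, h⟩

/-- For q odd, -1 is the unique involution of SL_2(q). -/
theorem result {F : Type*} [Field F] [Fintype F] (hF : Odd (Fintype.card F)) (g : Matrix.SpecialLinearGroup (Fin 2) F) (h1 : g ≠ 1) (h2 : g * g = 1) : (g : Matrix (Fin 2) (Fin 2) F) = -1 := by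
  have hchar : ringChar F ≠ 2 := by
    intro h
    have := FiniteField.even_card_of_char_two h
    rw [Nat.odd_iff] at hF
    omega
  have h2ne : (2 : F) ≠ 0 := Ring.two_ne_zero hchar
  have hdet := g.det_coe
  rw [Matrix.det_fin_two] at hdet
  have hm : (g : Matrix (Fin 2) (Fin 2) F) * (g : Matrix (Fin 2) (Fin 2) F) = 1 := by
    have := congrArg (fun x : Matrix.SpecialLinearGroup (Fin 2) F => (x : Matrix (Fin 2) (Fin 2) F)) h2
    simpa using this
  have e00 := congrFun (congrFun hm 0) 0
  have e01 := congrFun (congrFun hm 0) 1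
  have e10 := congrFun (congrFun hm 1) 0
  simp only [Matrix.mul_apply, Fin.sum_univ_two, Matrix.one_apply_eq, Matrix.one_apply_ne,
    ne_eq, zero_ne_one, one_ne_zero, not_false_eq_true, Fin.isValue] at e00 e01 e10
  rcases key _ _ _ _ h2ne hdet e00 e01 e10 with ⟨ha, hb, hc, hd⟩ | ⟨ha, hb, hc, hd⟩
  · exfalso
    apply h1
    ext i j
    fin_cases i <;> fin_cases j <;> simp [ha, hb, hc, hd]
  · ext i j
    fin_cases i <;> fin_cases j <;> simp [ha, hb, hc, hd]

end Cfsg.Agent.S0268
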