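import Mathlib
import Cfsg.Statements.S0261
import Cfsg.Agent.S0262
import Cfsg.Agent.S0268
import Cfsg.Agent.S0800
import Cfsg.Agent.Lib.Helper2.QuaternionRecog

set_option autoImplicit false
open Cfsg

namespace Cfsg.Agent.S0261

open Matrix Cfsg.Agent.Helper12 Cfsg.Agent.Helper2

variable {F : Type*} [Field F]

lemma not_scalar_of_order (d : Matrix.SpecialLinearGroup (Fin 2) F) (m : ℕ) (hm : 2 ≤ m)
    (hd : orderOf d = 2 ^ m) : ¬ IsScalar2 (d : Matrix (Fin 2) (Fin 2) F) := by
  intro hs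
  rw [isScalar2_iff] at hs
  set c := (d : Matrix (Fin 2) (Fin 2) F) 0 0 with hc
  have hdet : (d : Matrix (Fin 2) (Fin 2) F).det = 1 := d.2
  have hcc : c * c = 1 := by
    rw [hs, Matrix.det_smul, Matrix.det_one, Fintype.card_fin, mul_one] at hdet
    rw [← pow_two]; exact hdet
  have hdd : d * d = 1 := by
    apply Subtype.ext
    rw [Matrix.SpecialLinearGroup.coe_mul, Matrix.SpecialLinearGroup.coe_one, hs,
      smul_mul_smul_comm, hcc, one_smul, one_mul]
  have h1 : orderOf d ∣ 2 := orderOf_dvd_of_pow_eq_one (by rw [pow_two]; exact hdd)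
  rw [hd] at h1
  have h2 : 2 ^ m ≤ 2 := Nat.le_of_dvd (by norm_num) h1
  have h3 : 2 ^ 2 ≤ 2 ^ m := Nat.pow_le_pow_right (by norm_num) hm
  omega

lemma conj_eq_or_inv (p : ℕ) [Fact p.Prime] [CharP F p] (hp2 : p ≠ 2)
    (d g : Matrix.SpecialLinearGroup (Fin 2) F) (m : ℕ) (hm : 2 ≤ m)
    (hd : orderOf d = 2 ^ m) (h : g * d * g⁻¹ ∈ Subgroup.zpowers d) :
    g * d * g⁻¹ = d ∨ g * d * g⁻¹ = d⁻¹ := by
  have hpp : p.Prime := Fact.out
  have h2 : (2 : F) ≠ 0 := by
    intro h0
    have h3 : ((2 : ℕ) : F) = 0 := by exact_mod_cast h0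
    rw [CharP.cast_eq_zero_iff F p] at h3
    exact hp2 ((Nat.prime_dvd_prime_iff_eq hpp Nat.prime_two).1 h3)
  set D : Matrix (Fin 2) (Fin 2) F := (d : Matrix (Fin 2) (Fin 2) F) with hD
  have hdet : D.det = 1 := d.2
  have hns := not_scalar_of_order d m hm hd
  obtain ⟨j, hj⟩ := Subgroup.mem_zpowers_iff.1 h
  set X : Matrix (Fin 2) (Fin 2) F := ((g * d * g⁻¹ : Matrix.SpecialLinearGroup (Fin 2) F) :
    Matrix (Fin 2) (Fin 2) F) with hX
  have hXdet : X.det = 1 := (g * d * g⁻¹).2
  have hcomm : X * D = D * X := by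
    have h1 : (g * d * g⁻¹) * d = d * (g * d * g⁻¹) := by
      rw [← hj]
      exact (Commute.zpow_self d j).eq
    have h2 : ((g * d * g⁻¹ * d : Matrix.SpecialLinearGroup (Fin 2) F) :
        Matrix (Fin 2) (Fin 2) F) = ((d * (g * d * g⁻¹) : Matrix.SpecialLinearGroup (Fin 2) F) :
        Matrix (Fin 2) (Fin 2) F) := by rw [h1]
    rw [Matrix.SpecialLinearGroup.coe_mul, Matrix.SpecialLinearGroup.coe_mul d] at h2
    exact h2
  obtain ⟨x, y, hxy⟩ := (commute_iff_exists_smul D X hns).1 hcomm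
  set t := D.trace with ht
  have hXtr : X.trace = t := by
    rw [hX, Matrix.SpecialLinearGroup.coe_mul, Matrix.SpecialLinearGroup.coe_mul,
      Matrix.trace_mul_cycle, ← Matrix.SpecialLinearGroup.coe_mul, inv_mul_cancel,
      Matrix.SpecialLinearGroup.coe_one, one_mul]
  have htr' : 2 * x + y * t = t := by
    have h3 : X.trace = 2 * x + y * t := by
      rw [hxy, Matrix.trace_add, Matrix.trace_smul, Matrix.trace_smul, Matrix.trace_one]
      simp
      ring
    rw [← h3, hXtr]
  have hdet' : x ^ 2 + x * y * t + y ^ 2 = 1 := by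
    have h3 : X.det = x ^ 2 + x * y * t + y ^ 2 := by
      rw [hxy, ht, Matrix.det_fin_two, Matrix.trace_fin_two]
      rw [Matrix.det_fin_two] at hdet
      simp
      linear_combination (y ^ 2) * hdet
    rw [← h3, hXdet]
  have hkey : (1 - y ^ 2) * (t ^ 2 - 4) = 0 := by
    linear_combination 4 * hdet' - (2 * x + t * (1 - y) + 2 * y * t) * htr'
  rcases mul_eq_zero.1 hkey with h1 | h1
  · have h3 : (1 - y) * (1 + y) = 0 := by linear_combination h1
    rcases mul_eq_zero.1 h3 with h4 | h4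
    · left
      have hy : y = 1 := by linear_combination -h4
      have hx : x = 0 := by
        have : 2 * x = 0 := by linear_combination htr' - t * hy
        exact (mul_eq_zero.1 this).resolve_left h2
      apply Subtype.ext
      show X = D
      rw [hxy, hx, hy, zero_smul, one_smul, zero_add]
    · right
      have hy : y = -1 := by linear_combination h4
      have hx : x = t := by
        have : 2 * (x - t) = 0 := by linear_combination htr' - t * hy
        exact sub_eq_zero.1 ((mul_eq_zero.1 this).resolve_left h2)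
      apply Subtype.ext
      show X = ((d⁻¹ : Matrix.SpecialLinearGroup (Fin 2) F) : Matrix (Fin 2) (Fin 2) F)
      rw [Matrix.SpecialLinearGroup.coe_inv, Matrix.adjugate_fin_two, hxy, hx, hy, ht,
        Matrix.trace_fin_two]
      ext i j
      fin_cases i <;> fin_cases j <;> simp <;> rfl
  · exfalso
    set l := t / 2 with hl
    have hl2 : 2 * l = t := by rw [hl]; field_simp
    have h4 : (4 : F) ≠ 0 := by
      have : (4 : F) = 2 * 2 := by norm_num
      rw [this]; exact mul_ne_zero h2 h2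
    have hl1 : l ^ 2 = 1 := by
      have : 4 * (l ^ 2 - 1) = 0 := by rw [← hl2] at h1; linear_combination h1
      exact sub_eq_zero.1 ((mul_eq_zero.1 this).resolve_left h4)
    have hlr : l ^ 2 - D.trace * l + 1 = 0 := by
      rw [← ht, ← hl2]; linear_combination (-1 : F) * hl1
    have h5 := pow_char_eq_smul_of_root D hdet l hlr hl1 p
    have h6 : D ^ (2 * p) = 1 := by
      rw [mul_comm, pow_mul, h5, smul_pow, one_pow, ← pow_mul, mul_comm, pow_mul, hl1, one_pow,
        one_smul]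
    have h7 : d ^ (2 * p) = 1 := by
      apply Subtype.ext
      rw [Matrix.SpecialLinearGroup.coe_pow, Matrix.SpecialLinearGroup.coe_one]
      exact h6
    have h8 : 2 ^ m ∣ 2 * p := by
      rw [← hd]; exact orderOf_dvd_of_pow_eq_one h7
    have h9 : Nat.Coprime (2 ^ m) p :=
      Nat.Coprime.pow_left _ ((Nat.coprime_primes Nat.prime_two hpp).2 (Ne.symm hp2))
    have h10 : 2 ^ m ∣ 2 := h9.dvd_of_dvd_mul_right h8
    have h11 : 2 ^ m ≤ 2 := Nat.le_of_dvd (by norm_num) h10
    have h12 : 2 ^ 2 ≤ 2 ^ m := Nat.pow_le_pow_right (by norm_num) hm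
    omega

theorem key [Fintype F] (hF : Odd (Fintype.card F)) (p : ℕ) [Fact p.Prime] [CharP F p]
    (hp2 : p ≠ 2)
    (P : Subgroup (Matrix.SpecialLinearGroup (Fin 2) F)) (m : ℕ) (hm : 2 ≤ m)
    (hcard : Nat.card P = 2 ^ (m + 1)) (d : Matrix.SpecialLinearGroup (Fin 2) F) (hdP : d ∈ P)
    (hd : orderOf d = 2 ^ m) (hbound : ∀ g ∈ P, g ^ (2 ^ m) = 1) :
    Nonempty (P ≃* QuaternionGroup (2 ^ (m - 1))) := by
  classical
  set n := 2 ^ (m - 1) with hn
  have h2n : 2 ^ m = 2 * n := by
    rw [hn, ← pow_succ']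
    congr 1
    omega
  have hn2 : 2 ≤ n := by
    rw [hn]
    calc 2 = 2 ^ 1 := by norm_num
      _ ≤ 2 ^ (m - 1) := Nat.pow_le_pow_right (by norm_num) (by omega)
  set z := d ^ n with hz
  have hz1 : z ≠ 1 := by
    intro h
    have h1 := orderOf_dvd_of_pow_eq_one h
    rw [hd, h2n] at h1
    have := Nat.le_of_dvd (by omega) h1
    omega
  have hdn : d ^ (2 * n) = 1 := by rw [← h2n, ← hd]; exact pow_orderOf_eq_one d
  have hzz : z * z = 1 := by
    rw [hz, ← pow_add, ← two_mul, hdn]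
  have hzm : (z : Matrix (Fin 2) (Fin 2) F) = -1 := Cfsg.Agent.S0268.result hF z hz1 hzz
  have hinv : ∀ c : Matrix.SpecialLinearGroup (Fin 2) F, c * c = 1 → c = 1 ∨ c = z := by
    intro c hc
    by_cases h1 : c = 1
    · left; exact h1
    · right
      apply Subtype.ext
      rw [hzm]
      exact Cfsg.Agent.S0268.result hF c h1 hc
  have hzZ : z ∈ Subgroup.zpowers d := Subgroup.pow_mem _ (Subgroup.mem_zpowers d) _
  let a' : P := ⟨d, hdP⟩
  have ha' : orderOf a' = 2 ^ m := by rw [Subgroup.orderOf_mk, hd]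
  have hidx : (Subgroup.zpowers a').index = 2 := by
    have h1 := Subgroup.card_mul_index (Subgroup.zpowers a')
    rw [Nat.card_zpowers, ha', hcard, pow_succ] at h1
    exact Nat.eq_of_mul_eq_mul_left (by positivity) h1
  have hnormal : (Subgroup.zpowers a').Normal := Subgroup.normal_of_index_eq_two hidx
  have hmem : ∀ (g : Matrix.SpecialLinearGroup (Fin 2) F) (hg : g ∈ P),
      (⟨g, hg⟩ : P) ∈ Subgroup.zpowers a' ↔ g ∈ Subgroup.zpowers d := by
    intro g hg
    rw [Subgroup.mem_zpowers_iff, Subgroup.mem_zpowers_iff]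
    constructor
    · rintro ⟨k, hk⟩
      refine ⟨k, ?_⟩
      have := congrArg Subtype.val hk
      simpa using this
    · rintro ⟨k, hk⟩
      refine ⟨k, ?_⟩
      apply Subtype.ext
      simpa using hk
  obtain ⟨b, hbP, hbZ⟩ : ∃ b ∈ P, b ∉ Subgroup.zpowers d := by
    by_contra hcon
    push Not at hcon
    have hle : P ≤ Subgroup.zpowers d := fun g hg => hcon g hg
    have h1 := Subgroup.card_le_of_le hle
    rw [hcard, Nat.card_zpowers, hd, pow_succ] at h1
    have : 0 < 2 ^ m := by positivity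
    omega
  have hconj : b * d * b⁻¹ ∈ Subgroup.zpowers d := by
    have h1 := hnormal.conj_mem a' (Subgroup.mem_zpowers a') ⟨b, hbP⟩
    rw [← hmem _ (P.mul_mem (P.mul_mem hbP hdP) (P.inv_mem hbP))]
    exact h1
  have hsq : b * b ∈ Subgroup.zpowers d := by
    have h1 := Subgroup.mul_self_mem_of_index_two hidx ⟨b, hbP⟩
    rw [← hmem _ (P.mul_mem hbP hbP)]
    exact h1
  obtain ⟨i, hi⟩ := Subgroup.mem_zpowers_iff.1 hsq
  have hinvcase : b * d * b⁻¹ = d⁻¹ := by
    rcases conj_eq_or_inv p hp2 d b m hm hd hconj with h | h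
    · exfalso
      have hcomm : Commute b d := by
        have h1 := congrArg (· * b) h
        show b * d = d * b
        simpa using h1
      have hcz : ∀ k : ℤ, d ^ k * b = b * d ^ k := fun k => ((hcomm.zpow_right k).eq).symm
      rcases Int.even_or_odd' i with ⟨l, rfl | rfl⟩
      · set c := b * d ^ (-l) with hc
        have hcc : c * c = 1 := by
          calc c * c = b * (d ^ (-l) * b) * d ^ (-l) := by rw [hc]; group
            _ = b * (b * d ^ (-l)) * d ^ (-l) := by rw [hcz]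
            _ = (b * b) * (d ^ (-l) * d ^ (-l)) := by group
            _ = d ^ (2 * l) * (d ^ (-l) * d ^ (-l)) := by rw [hi]
            _ = 1 := by
              rw [← _root_.zpow_add, ← _root_.zpow_add]
              have : 2 * l + (-l + -l) = 0 := by ring
              rw [this, zpow_zero]
        have hbc : b = c * d ^ l := by rw [hc]; group
        rcases hinv c hcc with h1 | h1
        · apply hbZ
          rw [hbc, h1, one_mul]
          exact Subgroup.zpow_mem _ (Subgroup.mem_zpowers d) _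
        · apply hbZ
          rw [hbc, h1]
          exact Subgroup.mul_mem _ hzZ (Subgroup.zpow_mem _ (Subgroup.mem_zpowers d) _)
      · apply hz1
        have h1 : (b * b) ^ n = z := by
          rw [← hi, ← zpow_natCast, ← _root_.zpow_mul,
            show (2 * l + 1) * (n : ℤ) = ((2 * n : ℕ) : ℤ) * l + (n : ℤ) by push_cast; ring,
            _root_.zpow_add, _root_.zpow_mul, zpow_natCast, hdn, _root_.one_zpow, one_mul, zpow_natCast]
        have h2 : (b * b) ^ n = 1 := by
          rw [← pow_two, ← pow_mul, ← h2n]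
          exact hbound b hbP
        rw [← h1, h2]
    · exact h
  have hbz : ∀ k : ℤ, b * d ^ k * b⁻¹ = (d ^ k)⁻¹ := by
    intro k
    rw [← conj_zpow, hinvcase, _root_.inv_zpow]
  have hbb : (b * b) * (b * b) = 1 := by
    have h1 : b * (b * b) * b⁻¹ = (b * b)⁻¹ := by
      rw [← hi]; exact hbz i
    have h2 : b * (b * b) * b⁻¹ = b * b := by group
    rw [h2] at h1
    exact mul_eq_one_iff_eq_inv.2 h1
  have hbbz : b * b = z := by
    rcases hinv (b * b) hbb with h3 | h3
    · exfalso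
      rcases hinv b h3 with h4 | h4
      · apply hbZ; rw [h4]; exact Subgroup.one_mem _
      · apply hbZ; rw [h4]; exact hzZ
    · exact h3
  refine nonempty_mulEquiv_quaternion n hn2 a' ⟨b, hbP⟩ (by rw [ha', h2n]) ?_ ?_ ?_
  · apply Subtype.ext
    show b * b = ((a' ^ n : P) : Matrix.SpecialLinearGroup (Fin 2) F)
    rw [Subgroup.coe_pow]
    exact hbbz
  · apply Subtype.ext
    show b * d * b⁻¹ = d⁻¹
    exact hinvcase
  · rw [hcard, pow_succ, h2n]; ring


lemma two_adic (q : ℕ) (hq : Odd q) (hq1 : 1 < q) :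
    ∃ e m : ℕ, (e = q - 1 ∨ e = q + 1) ∧ 2 ≤ m ∧ 2 ^ m ∣ e ∧
      (q * (q ^ 2 - 1)).factorization 2 = m + 1 ∧
      ∀ k, (2 ^ k ∣ q - 1 ∨ 2 ^ k ∣ q + 1) → k ≤ m := by
  have h2 := Nat.prime_two
  have hqm : q - 1 ≠ 0 := by omega
  have hqp : q + 1 ≠ 0 := by omega
  have hq0 : q ≠ 0 := by omega
  have hA := fun k => Nat.Prime.pow_dvd_iff_le_factorization (k := k) h2 hqm
  have hB := fun k => Nat.Prime.pow_dvd_iff_le_factorization (k := k) h2 hqp
  have hfac : q ^ 2 - 1 = (q - 1) * (q + 1) := by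
    obtain ⟨j, rfl⟩ := Nat.exists_eq_add_of_le hq1.le
    simp only [Nat.add_sub_cancel_left]
    have : (1 + j) ^ 2 = j * (1 + j + 1) + 1 := by ring
    rw [this, Nat.add_sub_cancel]
  have hq2 : q.factorization 2 = 0 := by
    apply Nat.factorization_eq_zero_of_not_dvd
    rw [Nat.two_dvd_ne_zero]
    exact Nat.odd_iff.1 hq
  have htot : (q * (q ^ 2 - 1)).factorization 2 =
      (q - 1).factorization 2 + (q + 1).factorization 2 := by
    rw [hfac, Nat.factorization_mul hq0 (mul_ne_zero hqm hqp), Nat.factorization_mul hqm hqp]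
    simp [hq2]
  have hmod : q % 4 = 1 ∨ q % 4 = 3 := by
    have := Nat.odd_iff.1 hq
    omega
  rcases hmod with h | h
  · have h4 : 2 ^ 2 ∣ q - 1 := by norm_num; omega
    have h4' : ¬ 2 ^ 2 ∣ q + 1 := by norm_num; omega
    have h1' : 2 ^ 1 ∣ q + 1 := by norm_num; omega
    rw [hA] at h4
    rw [hB] at h4' h1'
    have hB1 : (q + 1).factorization 2 = 1 := by omega
    refine ⟨q - 1, (q - 1).factorization 2, Or.inl rfl, h4, Nat.ordProj_dvd _ _, ?_, ?_⟩
    · rw [htot, hB1]
    · intro k hk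
      rcases hk with hk | hk
      · exact (hA k).1 hk
      · have := (hB k).1 hk
        omega
  · have h4 : 2 ^ 2 ∣ q + 1 := by norm_num; omega
    have h4' : ¬ 2 ^ 2 ∣ q - 1 := by norm_num; omega
    have h1' : 2 ^ 1 ∣ q - 1 := by norm_num; omega
    rw [hB] at h4
    rw [hA] at h4' h1'
    have hA1 : (q - 1).factorization 2 = 1 := by omega
    refine ⟨q + 1, (q + 1).factorization 2, Or.inr rfl, h4, Nat.ordProj_dvd _ _, ?_, ?_⟩
    · rw [htot, hA1, add_comm]
    · intro k hk
      rcases hk with hk | hk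
      · have := (hA k).1 hk
        omega
      · exact (hB k).1 hk

/-- For q odd, the Sylow 2-subgroups of SL_2(q) are generalised quaternion. -/
theorem result {F : Type*} [Field F] [Fintype F] (hF : Odd (Fintype.card F)) (P : Sylow 2 (Matrix.SpecialLinearGroup (Fin 2) F)) : ∃ k : ℕ, 1 ≤ k ∧ Nonempty ((P : Subgroup (Matrix.SpecialLinearGroup (Fin 2) F)) ≃* QuaternionGroup (2 ^ k)) := by
  classical
  obtain ⟨p, hp⟩ := CharP.exists F
  have := hp
  have : Fact p.Prime := ⟨CharP.char_is_prime F p⟩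
  have hpp : p.Prime := Fact.out
  have hp2 : p ≠ 2 := by
    intro h2
    obtain ⟨n, hn⟩ := FiniteField.card F p
    rw [hn.2, h2] at hF
    have : Even (2 ^ (n : ℕ)) := (Nat.even_pow' n.ne_zero).2 even_two
    exact (Nat.not_odd_iff_even.2 this) hF
  have hq1 : 1 < Fintype.card F := Fintype.one_lt_card
  obtain ⟨e, m, he, hm, hme, hfac, hbd⟩ := two_adic (Fintype.card F) hF hq1
  obtain ⟨x, hx⟩ : ∃ x : Matrix.SpecialLinearGroup (Fin 2) F, orderOf x = e := by
    rcases he with rfl | rfl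
    · exact Cfsg.Agent.S0262.exists_orderOf_split
    · exact Cfsg.Agent.S0262.exists_orderOf_nonsplit p
  obtain ⟨c, hc⟩ := hme
  have he0 : 0 < e := by rw [← hx]; exact orderOf_pos x
  have hc0 : c ≠ 0 := by
    rintro rfl
    rw [mul_zero] at hc
    omega
  set d := x ^ c with hd'
  have hd : orderOf d = 2 ^ m := by
    have h1 : c ∣ orderOf x := by rw [hx, hc]; exact Dvd.intro_left _ rfl
    rw [hd', orderOf_pow_of_dvd hc0 h1, hx, hc, Nat.mul_div_cancel _ (Nat.pos_of_ne_zero hc0)]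
  have hZ : IsPGroup 2 (Subgroup.zpowers d) :=
    IsPGroup.of_card (n := m) (by rw [Nat.card_zpowers, hd])
  obtain ⟨P₀, hP₀⟩ := hZ.exists_le_sylow
  have hcardP : Nat.card (P₀ : Subgroup (Matrix.SpecialLinearGroup (Fin 2) F)) = 2 ^ (m + 1) := by
    rw [Sylow.card_eq_multiplicity, card_SL2, hfac]
  have hbound : ∀ g ∈ (P₀ : Subgroup (Matrix.SpecialLinearGroup (Fin 2) F)), g ^ (2 ^ m) = 1 := by
    intro g hg
    obtain ⟨k, hk⟩ := P₀.2 ⟨g, hg⟩
    have hk' : g ^ (2 ^ k) = 1 := by
      have := congrArg Subtype.val hk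
      simpa using this
    obtain ⟨r, -, hr⟩ := (Nat.dvd_prime_pow Nat.prime_two).1 (orderOf_dvd_of_pow_eq_one hk')
    have hcop : Nat.Coprime (orderOf g) p := by
      rw [hr]
      exact Nat.Coprime.pow_left _ ((Nat.coprime_primes Nat.prime_two hpp).2 (Ne.symm hp2))
    have h1 := Cfsg.Agent.S0800.result (F := F) (q := Fintype.card F) rfl p g hcop
    rw [hr] at h1
    have hrm : r ≤ m := hbd r h1
    rw [← orderOf_dvd_iff_pow_eq_one, hr]
    exact pow_dvd_pow 2 hrm
  obtain ⟨φ⟩ := key hF p hp2 (P₀ : Subgroup (Matrix.SpecialLinearGroup (Fin 2) F)) m hm hcardP d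
    (hP₀ (Subgroup.mem_zpowers d)) hd hbound
  obtain ⟨g, hg⟩ := MulAction.exists_smul_eq (Matrix.SpecialLinearGroup (Fin 2) F) P₀ P
  subst hg
  exact ⟨m - 1, by omega, ⟨(Sylow.equivSMul P₀ g).symm.trans φ⟩⟩

end Cfsg.Agent.S0261
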