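import Mathlib
import Cfsg.Statements.S0275
import Cfsg.Agent.S0274
import Cfsg.Agent.S0016
import Cfsg.Agent.S0261
import Cfsg.Agent.S0040

set_option autoImplicit false
open Cfsg

namespace Cfsg.Agent.S0275

open Cfsg.Agent.Helper12
open scoped MatrixGroups

/-- generalized quaternion groups of order at least `8` are not commutative -/
theorem quaternion_not_comm (k : ℕ) (hk : 1 ≤ k) :
    ∃ a b : QuaternionGroup (2 ^ k), a * b ≠ b * a := by
  refine ⟨QuaternionGroup.a 1, QuaternionGroup.xa 0, ?_⟩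
  rw [QuaternionGroup.a_mul_xa, QuaternionGroup.xa_mul_a]
  intro h
  have h1 : (0 - 1 : ZMod (2 * 2 ^ k)) = 0 + 1 := QuaternionGroup.xa.inj h
  have h2 : ((2 : ℕ) : ZMod (2 * 2 ^ k)) = 0 := by
    push_cast
    linear_combination -h1
  rw [ZMod.natCast_eq_zero_iff] at h2
  have h3 : 2 ^ 1 ≤ 2 ^ k := Nat.pow_le_pow_right (by norm_num) hk
  have := Nat.le_of_dvd (by norm_num) h2
  omega

theorem quaternion_one_comm (a b : QuaternionGroup (2 ^ 0)) : a * b = b * a := by
  revert a b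
  decide

/-- If p is odd and H is a subgroup of SL_2(q), q a power of p, with more than one Sylow p-subgroup, then the Sylow 2-subgroups of H are generalised quaternion. -/
theorem result {F : Type*} [Field F] [Fintype F] (p : ℕ) [Fact p.Prime] [CharP F p] (hp : p ≠ 2) (H : Subgroup (Matrix.SpecialLinearGroup (Fin 2) F)) (hH : 1 < Nat.card (Sylow p H)) (S : Sylow 2 H) : ∃ k : ℕ, 1 ≤ k ∧ Nonempty ((S : Subgroup H) ≃* QuaternionGroup (2 ^ k)) := by
  classical
  have hpp : p.Prime := Fact.out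
  have h2F : (2 : F) ≠ 0 := Cfsg.Agent.Helper4.DSL.two_ne_zero_of_odd (F := F) p hp
  -- a noncommuting pair of `2`-elements in `H`
  obtain ⟨K, hKH, ⟨e⟩⟩ := Cfsg.Agent.S0274.result p hp H hH
  obtain ⟨T₀⟩ : Nonempty (Sylow 2 (Matrix.SpecialLinearGroup (Fin 2) (ZMod p))) := inferInstance
  have hodd : Odd (Fintype.card (ZMod p)) := by
    rw [ZMod.card]; exact hpp.odd_of_ne_two hp
  obtain ⟨k₀, hk₀, ⟨e₀⟩⟩ := Cfsg.Agent.S0261.result hodd T₀
  obtain ⟨a₀, b₀, hab₀⟩ := quaternion_not_comm k₀ hk₀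
  -- transport to `H`
  let ι : ↥(T₀ : Subgroup (Matrix.SpecialLinearGroup (Fin 2) (ZMod p))) →* ↥H :=
    (Subgroup.inclusion hKH).comp (e.symm.toMonoidHom.comp (Subgroup.subtype _))
  have hι : Function.Injective ι := by
    intro x y hxy
    have h1 : Subgroup.inclusion hKH (e.symm (x : Matrix.SpecialLinearGroup (Fin 2) (ZMod p))) =
        Subgroup.inclusion hKH (e.symm (y : Matrix.SpecialLinearGroup (Fin 2) (ZMod p))) := hxy
    have h2 := Subgroup.inclusion_injective hKH h1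
    exact Subtype.ext (e.symm.injective h2)
  have hR : IsPGroup 2 ι.range := T₀.2.of_equiv (MonoidHom.ofInjective hι)
  obtain ⟨S', hS'⟩ := hR.exists_le_sylow
  obtain ⟨g, hg⟩ := MulAction.exists_smul_eq ↥H S' S
  -- noncommuting pair in `S`
  have hnc : ∃ a b : ↥(S : Subgroup ↥H), a * b ≠ b * a := by
    set a₁ : ↥H := ι (e₀.symm a₀) with ha₁
    set b₁ : ↥H := ι (e₀.symm b₀) with hb₁
    have ha₁S : a₁ ∈ S' := hS' ⟨_, rfl⟩
    have hb₁S : b₁ ∈ S' := hS' ⟨_, rfl⟩
    have hne : a₁ * b₁ ≠ b₁ * a₁ := by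
      intro h
      apply hab₀
      rw [ha₁, hb₁, ← map_mul, ← map_mul, ← map_mul, ← map_mul] at h
      exact e₀.symm.injective (hι h)
    have hmem : ∀ x ∈ S', g * x * g⁻¹ ∈ S := by
      intro x hx
      rw [← hg, Cfsg.Agent.Helper4.DC.mem_sylow_smul_iff]
      have : g⁻¹ * (g * x * g⁻¹) * g = x := by group
      rw [this]; exact hx
    refine ⟨⟨g * a₁ * g⁻¹, hmem _ ha₁S⟩, ⟨g * b₁ * g⁻¹, hmem _ hb₁S⟩, ?_⟩
    intro h
    apply hne
    have h1 := congrArg Subtype.val h
    simp only [Subgroup.coe_mul] at h1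
    have e1 : a₁ * b₁ = g⁻¹ * ((g * a₁ * g⁻¹) * (g * b₁ * g⁻¹)) * g := by group
    have e2 : b₁ * a₁ = g⁻¹ * ((g * b₁ * g⁻¹) * (g * a₁ * g⁻¹)) * g := by group
    rw [e1, e2, h1]
  -- uniqueness of the involution
  have hinv : ∀ t : ↥(S : Subgroup ↥H), orderOf t = 2 →
      ((t : ↥H) : Matrix.SpecialLinearGroup (Fin 2) F) = negOneSL := by
    intro t ht
    have h1 : t * t = 1 := by
      have := pow_orderOf_eq_one t
      rw [ht, pow_two] at this
      exact this
    have h2 : ((t : ↥H) : Matrix.SpecialLinearGroup (Fin 2) F) * ((t : ↥H) : Matrix.SpecialLinearGroup (Fin 2) F) = 1 := by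
      have := congrArg (fun y : ↥(S : Subgroup ↥H) => ((y : ↥H) : Matrix.SpecialLinearGroup (Fin 2) F)) h1
      simpa using this
    rcases SL2_sq_eq_one h2F _ h2 with h | h
    · exfalso
      have : t = 1 := by
        apply Subtype.ext
        apply Subtype.ext
        simpa using h
      rw [this, orderOf_one] at ht
      omega
    · exact h
  have huniq : ∀ A B : Subgroup ↥(S : Subgroup ↥H), Nat.card A = 2 → Nat.card B = 2 → A = B := by
    intro A B hA hB
    obtain ⟨a, ha, rfl⟩ := Cfsg.Agent.S0040.exists_zpowers_eq (p := 2) A hA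
    obtain ⟨b, hb, rfl⟩ := Cfsg.Agent.S0040.exists_zpowers_eq (p := 2) B hB
    have : a = b := by
      apply Subtype.ext
      apply Subtype.ext
      rw [hinv a ha, hinv b hb]
    rw [this]
  obtain ⟨a, b, hab⟩ := hnc
  rcases Cfsg.Agent.S0016.result 2 S.2 huniq with hc | ⟨-, n, ⟨en⟩⟩
  · exfalso
    obtain ⟨c, hc'⟩ := hc.exists_generator
    obtain ⟨i, rfl⟩ := Subgroup.mem_zpowers_iff.1 (hc' a)
    obtain ⟨j, rfl⟩ := Subgroup.mem_zpowers_iff.1 (hc' b)
    apply hab
    rw [← zpow_add, ← zpow_add, add_comm]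
  · refine ⟨n, ?_, ⟨en⟩⟩
    by_contra hn
    have hn0 : n = 0 := by omega
    subst hn0
    apply hab
    apply en.injective
    rw [map_mul, map_mul]
    exact quaternion_one_comm _ _

end Cfsg.Agent.S0275
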