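import Mathlib
import Cfsg.Statements.S3079
import Cfsg.Agent.Lib.Helper9.ZJInst
import Cfsg.Agent.Lib.Helper9.CentricRadical
-- import your own Cfsg.Agent.* helpers here

set_option autoImplicit false
open Cfsg

namespace Cfsg.Agent.S3079

open Subgroup Cfsg.Agent.Helper9 Cfsg.Agent.Helper9.ZJ

/-- Normalizer-form stability gives the ambient stability on normal `p`-subgroups. -/
theorem stab_of_normalizerPStable {G : Type*} [Group G] {p : ℕ}
    (hst : Cfsg.IsNormalizerPStable p G) : Stab p G := by
  intro B hBn hBp a hq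
  have hNtop : normalizer (B : Set G) = ⊤ := normalizer_eq_top_iff.2 hBn
  have haN : a ∈ normalizer (B : Set G) := by rw [hNtop]; exact mem_top a
  have h := hst B hBp a haN hq
  refine ⟨((Cfsg.pCore p (↥(normalizer (B : Set G)) ⧸
      (centralizer (B : Set G)).subgroupOf (normalizer (B : Set G)))).comap
      (QuotientGroup.mk' ((centralizer (B : Set G)).subgroupOf (normalizer (B : Set G))))).map
      (normalizer (B : Set G)).subtype, ?_, ⟨⟨a, haN⟩, h, rfl⟩, ?_⟩
  · have hT₀n := comap_pCore_normal p
      ((centralizer (B : Set G)).subgroupOf (normalizer (B : Set G)))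
    constructor
    rintro _ ⟨t, ht, rfl⟩ g
    have hgN : g ∈ normalizer (B : Set G) := by rw [hNtop]; exact mem_top g
    exact ⟨⟨g, hgN⟩ * t * ⟨g, hgN⟩⁻¹, hT₀n.conj_mem t ht ⟨g, hgN⟩, by simp⟩
  · rintro _ ⟨t, ht, rfl⟩
    obtain ⟨k, hk⟩ := powCond_comap_pCore p
      ((centralizer (B : Set G)).subgroupOf (normalizer (B : Set G))) t ht
    refine ⟨k, ?_⟩
    have : ((t ^ p ^ k : ↥(normalizer (B : Set G))) : G) ∈ centralizer (B : Set G) :=
      mem_subgroupOf.1 hk
    simpa using this

/-- Glauberman's ZJ-Theorem for strongly closed subgroups, p odd. Let G be a finite group that is p-stable in the normalizer form (for every p-subgroup U and g ∈ N_G(U) with [U, g, g] = 1, the image of g lies in O_p(N_G(U)/C_G(U))), with C_G(O_p(G)) ≤ O_p(G), let P be a Sylow p-subgroup and D a subgroup of P strongly closed in P with respect to G. Then Z(J(D)) is normal in G, where J(D) is generated by the abelian subgroups of D of largest order; and so is Ω₁(Z(J_e(D))), where J_e(D) is generated by the elementary abelian subgroups of D of largest order.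 -/
theorem result {G : Type*} [Group G] [Finite G] {p : ℕ} [Fact p.Prime] (hp : p ≠ 2) (P : Sylow p G) (D : Subgroup G) (hD : Cfsg.IsStronglyClosed D (P : Subgroup G)) (hst : Cfsg.IsNormalizerPStable p G) (hc : Subgroup.centralizer ((Cfsg.pCore p G : Subgroup G) : Set G) ≤ Cfsg.pCore p G) : (Cfsg.centerThompsonAOf D).Normal ∧ (Cfsg.omegaOne p (Cfsg.centerThompsonOf p D)).Normal := by
  have hS := stab_of_normalizerPStable hst
  constructor
  · rw [centerThompsonAOf_eq]
    exact zj_normal P hD (famAxA hp) hS hc
  · rw [omegaOne_centerThompsonOf_eq]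
    exact zj_normal P hD (famAxE hp) hS hc

end Cfsg.Agent.S3079
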