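import Mathlib
import Cfsg.Statements.S3742

set_option autoImplicit false
open Cfsg

namespace Cfsg.Agent.S3742

open QuaternionGroup

/-- the quaternion group of order 8 -/
abbrev Q := QuaternionGroup 2

/-- `(x, y)` is the image of the standard generating pair under an automorphism -/
def valid (x y : Q) : Prop := x * x = a 2 ∧ y * y = a 2 ∧ y ≠ x ∧ y ≠ x⁻¹

instance (x y : Q) : Decidable (valid x y) := by
  unfold valid
  infer_instance

/-- the endomorphism determined by the images of the generators -/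
def f (x y : Q) : Q → Q
  | a k => x ^ k.val
  | xa k => y * x ^ k.val

/-- the action on the four diagonals of the cube -/
def θ (x y : Q) : Fin 4 → Fin 4 :=
  if x = a 1 ∧ y = xa 0 then ![0,1,2,3] else
  if x = a 1 ∧ y = xa 1 then ![3,2,0,1] else
  if x = a 1 ∧ y = xa 2 then ![1,0,3,2] else
  if x = a 1 ∧ y = xa 3 then ![2,3,1,0] else
  if x = a 3 ∧ y = xa 0 then ![2,3,0,1] else
  if x = a 3 ∧ y = xa 1 then ![0,1,3,2] else
  if x = a 3 ∧ y = xa 2 then ![3,2,1,0] else
  if x = a 3 ∧ y = xa 3 then ![1,0,2,3] else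
  if x = xa 0 ∧ y = a 1 then ![3,1,2,0] else
  if x = xa 0 ∧ y = a 3 then ![1,3,0,2] else
  if x = xa 0 ∧ y = xa 1 then ![2,0,1,3] else
  if x = xa 0 ∧ y = xa 3 then ![0,2,3,1] else
  if x = xa 1 ∧ y = a 1 then ![1,2,0,3] else
  if x = xa 1 ∧ y = a 3 then ![2,1,3,0] else
  if x = xa 1 ∧ y = xa 0 then ![3,0,1,2] else
  if x = xa 1 ∧ y = xa 2 then ![0,3,2,1] else
  if x = xa 2 ∧ y = a 1 then ![2,0,3,1] else
  if x = xa 2 ∧ y = a 3 then ![0,2,1,3] else
  if x = xa 2 ∧ y = xa 1 then ![1,3,2,0] else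
  if x = xa 2 ∧ y = xa 3 then ![3,1,0,2] else
  if x = xa 3 ∧ y = a 1 then ![0,3,1,2] else
  if x = xa 3 ∧ y = a 3 then ![3,0,2,1] else
  if x = xa 3 ∧ y = xa 0 then ![1,2,3,0] else
  if x = xa 3 ∧ y = xa 2 then ![2,1,0,3] else
  ![0,1,2,3]

set_option maxRecDepth 100000 in
theorem f_mul : ∀ x y : Q, valid x y → ∀ g h : Q, f x y (g * h) = f x y g * f x y h := by
  decide +kernel


set_option maxRecDepth 100000 in
theorem f_injective : ∀ x y : Q, valid x y → ∀ g h : Q, f x y g = f x y h → g = h := by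
  decide +kernel

set_option maxRecDepth 100000 in
theorem θ_mul : ∀ x y x' y' : Q, valid x y → valid x' y' →
    θ (f x y x') (f x y y') = θ x y ∘ θ x' y' := by
  decide +kernel

set_option maxRecDepth 100000 in
theorem θ_eq_id : ∀ x y : Q, valid x y → θ x y = id → x = a 1 ∧ y = xa 0 := by
  decide +kernel

set_option maxRecDepth 100000 in
theorem θ_surj : ∀ σ : Equiv.Perm (Fin 4), ∃ x y : Q, valid x y ∧ θ x y = ⇑σ := by
  decide +kernel

theorem θ_one : θ (a 1) (xa 0) = id := by
  decide +kernel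

theorem unique_involution : ∀ g : Q, g * g = 1 → g ≠ 1 → g = a 2 := by
  decide +kernel


theorem apply_eq_f (φ : MulAut Q) (g : Q) : φ g = f (φ (a 1)) (φ (xa 0)) g := by
  cases g with
  | a k =>
    show φ (a k) = φ (a 1) ^ k.val
    rw [← map_pow, a_one_pow, ZMod.natCast_zmod_val]
  | xa k =>
    show φ (xa k) = φ (xa 0) * φ (a 1) ^ k.val
    rw [← map_pow, ← map_mul, a_one_pow, ZMod.natCast_zmod_val, xa_mul_a, zero_add]

theorem valid_apply (φ : MulAut Q) : valid (φ (a 1)) (φ (xa 0)) := by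
  have h2 : φ (a 2) = a 2 := by
    apply unique_involution
    · rw [← map_mul]
      have : (a 2 : Q) * a 2 = 1 := by decide +kernel
      rw [this, map_one]
    · intro h
      have : (a 2 : Q) = 1 := φ.injective (by rw [h, map_one])
      revert this
      decide +kernel
  refine ⟨?_, ?_, ?_, ?_⟩
  · rw [← map_mul]
    have : (a 1 : Q) * a 1 = a 2 := by decide +kernel
    rw [this, h2]
  · rw [← map_mul]
    have : (xa 0 : Q) * xa 0 = a 2 := by decide +kernel
    rw [this, h2]
  · intro h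
    have : (xa 0 : Q) = a 1 := φ.injective h
    revert this
    decide +kernel
  · intro h
    rw [← map_inv] at h
    have : (xa 0 : Q) = (a 1)⁻¹ := φ.injective h
    revert this
    decide +kernel

/-- the action as a monoid homomorphism -/
def Φ : MulAut Q →* Function.End (Fin 4) where
  toFun φ := θ (φ (a 1)) (φ (xa 0))
  map_one' := θ_one
  map_mul' φ ψ := by
    show θ (φ (ψ (a 1))) (φ (ψ (xa 0))) = θ (φ (a 1)) (φ (xa 0)) ∘ θ (ψ (a 1)) (ψ (xa 0))
    rw [apply_eq_f φ (ψ (a 1)), apply_eq_f φ (ψ (xa 0))]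
    exact θ_mul _ _ _ _ (valid_apply φ) (valid_apply ψ)

/-- the automorphism with prescribed images of the generators -/
noncomputable def autOfPair (x y : Q) (h : valid x y) : MulAut Q :=
  MulEquiv.ofBijective (MonoidHom.mk' (f x y) (f_mul x y h))
    ((Finite.injective_iff_bijective).mp (fun g g' hgg' => f_injective x y h g g' hgg'))

theorem autOfPair_apply (x y : Q) (h : valid x y) (g : Q) : autOfPair x y h g = f x y g := rfl

/-- the homomorphism into the symmetric group -/
noncomputable def Ψ : MulAut Q →* Equiv.Perm (Fin 4) :=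
  (Equiv.Perm.equivUnitsEnd (α := Fin 4)).symm.toMonoidHom.comp Φ.toHomUnits

theorem Ψ_apply (φ : MulAut Q) (d : Fin 4) : Ψ φ d = θ (φ (a 1)) (φ (xa 0)) d := rfl

/-- The automorphism group of the quaternion group of order 8 is isomorphic to the symmetric group of degree 4. -/
theorem result : Nonempty (MulAut (QuaternionGroup 2) ≃* Equiv.Perm (Fin 4)) := by
  refine ⟨MulEquiv.ofBijective Ψ ⟨?_, ?_⟩⟩
  · rw [injective_iff_map_eq_one]
    intro φ hφ
    have h1 : θ (φ (a 1)) (φ (xa 0)) = id := by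
      funext d
      rw [← Ψ_apply, hφ]
      rfl
    obtain ⟨hx, hy⟩ := θ_eq_id _ _ (valid_apply φ) h1
    apply MulEquiv.ext
    intro g
    rw [apply_eq_f φ g, hx, hy]
    have := apply_eq_f 1 g
    rw [MulAut.one_apply, MulAut.one_apply, MulAut.one_apply] at this
    rw [← this]
    rfl
  · intro σ
    obtain ⟨x, y, hv, hθ⟩ := θ_surj σ
    refine ⟨autOfPair x y hv, ?_⟩
    apply Equiv.ext
    intro d
    rw [Ψ_apply, autOfPair_apply, autOfPair_apply, ← hθ]
    have h1 : f x y (a 1) = x := by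
      show x ^ (1 : ZMod (2 * 2)).val = x
      have : (1 : ZMod (2 * 2)).val = 1 := by decide
      rw [this, pow_one]
    have h2 : f x y (xa 0) = y := by
      show y * x ^ (0 : ZMod (2 * 2)).val = y
      have : (0 : ZMod (2 * 2)).val = 0 := by decide
      rw [this, pow_zero, mul_one]
    rw [h1, h2]

end Cfsg.Agent.S3742
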