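import Mathlib
import Cfsg.Statements.S0041
import Cfsg.Agent.Lib.Helper1.FpfAction
import Cfsg.Agent.Lib.Helper1.FpfPQ
import Cfsg.Agent.Lib.Helper1.CyclicCriterion

set_option autoImplicit false
open Cfsg
open Cfsg.Agent.Helper1
open scoped IsMulCommutative

namespace Cfsg.Agent.S0041

variable {G : Type*} [Group G] [Finite G]

theorem cyclic_of_comm (A V : Subgroup G)
    (hV : V ≠ ⊥) (hAV : A ≤ Subgroup.normalizer (V : Set G))
    (hfpf : ∀ a ∈ A, a ≠ 1 → V ⊓ Subgroup.centralizer {a} = ⊥)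
    (hc : ∀ a b : A, a * b = b * a) : IsCyclic A := by
  apply isCyclic_of_comm_of_unique hc
  intro r hr x y hx hy
  haveI : Fact r.Prime := ⟨hr⟩
  have h1 : (y : G) ∈ Subgroup.zpowers (x : G) :=
    mem_zpowers_of_fpf_of_commute (K := V) (H := A) hAV hV hfpf x.2 y.2
      (by rw [Subgroup.orderOf_coe, hx]) (by rw [Subgroup.orderOf_coe, hy])
      (congrArg Subtype.val (hc x y))
  obtain ⟨k, hk⟩ := Subgroup.mem_zpowers_iff.mp h1
  rw [Subgroup.mem_zpowers_iff]
  exact ⟨k, Subtype.ext (by simpa using hk)⟩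

theorem false_of_nonabelian_pq (A V : Subgroup G) [IsMulCommutative V]
    (hV : V ≠ ⊥) (hAV : A ≤ Subgroup.normalizer (V : Set G))
    (hfpf : ∀ a ∈ A, a ≠ 1 → V ⊓ Subgroup.centralizer {a} = ⊥)
    {p q : ℕ} (hp : p.Prime) (hq : q.Prime) (hpq : p < q) (hcard : Nat.card A = p * q)
    (hnc : ¬ ∀ a b : A, a * b = b * a) : False := by
  let φ : A →* MulAut V := (V.normalizerMonoidHom).comp (Subgroup.inclusion hAV)
  have hφ : ∀ (a : A) (w : V), ((φ a w : V) : G) = a * w * (a : G)⁻¹ := fun a w => rfl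
  have hfpf' : ∀ a : A, a ≠ 1 → ∀ w : V, φ a w = w → w = 1 := by
    intro a ha w hw
    have h1 : ((a : G)) ≠ 1 := fun h => ha (Subtype.ext h)
    have h2 := congrArg Subtype.val hw
    rw [hφ] at h2
    have h3 : (w : G) ∈ V ⊓ Subgroup.centralizer {(a : G)} := by
      refine Subgroup.mem_inf.mpr ⟨w.2, ?_⟩
      rw [Subgroup.mem_centralizer_iff]
      intro y hy
      rw [Set.mem_singleton_iff] at hy
      subst hy
      calc (a : G) * (w : G) = ((a : G) * w * (a : G)⁻¹) * a := by group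
        _ = (w : G) * a := by rw [h2]
    rw [hfpf a a.2 h1, Subgroup.mem_bot] at h3
    exact Subtype.ext h3
  have hexp : ∀ w : V, w ^ q = 1 := pow_eq_one_of_fpf_pq φ hfpf' hp hq hpq hcard hnc
  haveI : Fact q.Prime := ⟨hq⟩
  obtain ⟨y, hy⟩ := exists_prime_orderOf_dvd_card' (G := A) q (hcard ▸ dvd_mul_left q p)
  have hy1 : (y : G) ≠ 1 := by
    intro h
    have : y = 1 := Subtype.ext h
    rw [this, orderOf_one] at hy
    exact hq.one_lt.ne hy
  have hmod := card_modEq_one_of_fpf' (K := V) (hAV y.2)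
    (by rw [Subgroup.orderOf_coe, hy]) (hfpf y y.2 hy1)
  obtain ⟨v, hv1⟩ := (Subgroup.ne_bot_iff_exists_ne_one).mp hV
  have hvq : orderOf v = q := orderOf_eq_prime (hexp v) hv1
  have hdvd : q ∣ Nat.card V := hvq ▸ orderOf_dvd_natCard v
  have h1 : Nat.card V % q = 0 := Nat.mod_eq_zero_of_dvd hdvd
  have h2 : Nat.card V % q = 1 % q := hmod
  rw [h1, Nat.mod_eq_of_lt hq.one_lt] at h2
  exact absurd h2 (by norm_num)

/-- A group acting on a nontrivial abelian group so that no nonidentity element has a nonidentity fixed point is cyclic, provided it is abelian or its order is a product of two (possibly equal) primes. -/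
theorem result {G : Type*} [Group G] [Finite G] (A V : Subgroup G) [IsMulCommutative V]
    (hV : V ≠ ⊥) (hAV : A ≤ Subgroup.normalizer (V : Set G)) (hfpf : ∀ a ∈ A, a ≠ 1 → V ⊓ Subgroup.centralizer {a} = ⊥)
    (hA : IsMulCommutative A ∨ ∃ p q : ℕ, p.Prime ∧ q.Prime ∧ Nat.card A = p * q) : IsCyclic A := by
  by_cases hc : ∀ a b : A, a * b = b * a
  · exact cyclic_of_comm A V hV hAV hfpf hc
  · exfalso
    rcases hA with hA | ⟨p, q, hp, hq, hcard⟩
    · exact hc (fun a b => hA.is_comm.comm a b)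
    · rcases lt_trichotomy p q with hpq | hpq | hpq
      · exact false_of_nonabelian_pq A V hV hAV hfpf hp hq hpq hcard hc
      · subst hpq
        haveI : Fact p.Prime := ⟨hp⟩
        exact hc (IsPGroup.commutative_of_card_eq_prime_sq (by rw [hcard, sq]))
      · exact false_of_nonabelian_pq A V hV hAV hfpf hq hp hpq (by rw [hcard, mul_comm]) hc

end Cfsg.Agent.S0041
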