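import Mathlib
import Cfsg.Statements.S0042
import Cfsg.Agent.Lib.Helper1.FpfThompson
import Cfsg.Agent.S0035
import Cfsg.Agent.S0039

set_option autoImplicit false
open Cfsg

namespace Cfsg.Agent.S0042

/-- In a finite Frobenius group, the Frobenius kernel is (the carrier of) a normal subgroup which is nilpotent. -/
theorem result {G : Type*} [Group G] [Finite G] (H : Subgroup G) (hH : Cfsg.IsFrobeniusComplement H) :
    ∃ N : Subgroup G, (N : Set G) = Cfsg.frobeniusKernel H ∧ N.Normal ∧ Group.IsNilpotent N := by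
  obtain ⟨N, hNk, hNn, hc⟩ := Cfsg.Agent.S0035.result H hH
  refine ⟨N, hNk, hNn, ?_⟩
  haveI := hNn
  have hH1 : H ≠ ⊥ := hH.1
  have hN1 : N ≠ ⊥ := by
    intro h
    rw [h, Subgroup.isComplement'_bot_left] at hc
    exact hH.2.1 hc
  have hfix := (Cfsg.Agent.S0039.result N H hc hN1 hH1).mp hH
  -- an element of prime order in `H`
  have hHcard : Nat.card H ≠ 1 := by
    intro h
    exact hH1 (Subgroup.card_eq_one.mp h)
  obtain ⟨r, hr, hrdvd⟩ := Nat.exists_prime_and_dvd hHcard
  haveI : Fact r.Prime := ⟨hr⟩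
  obtain ⟨h, hh⟩ := exists_prime_orderOf_dvd_card' r hrdvd
  have hh1 : (h : G) ≠ 1 := by
    intro e
    have : h = 1 := Subtype.ext e
    rw [this, orderOf_one] at hh
    exact hr.one_lt.ne hh
  have hhr : (h : G) ^ r = 1 := by
    have := pow_orderOf_eq_one h
    rw [hh] at this
    have h2 := congrArg Subtype.val this
    simpa using h2
  let φ : ↥N ≃* ↥N := MulAut.conjNormal (H := N) (h : G)
  have hφr : φ ^ r = 1 := by
    change (MulAut.conjNormal (H := N) (h : G)) ^ r = 1
    rw [← map_pow, hhr, map_one]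
  have hφ : MonoidHom.FixedPointFree φ := by
    intro n hn
    have h2 : (h : G) * n * (h : G)⁻¹ = n := by
      have := congrArg Subtype.val hn
      simpa [φ, MulAut.conjNormal_apply] using this
    have h3 : (n : G) ∈ N ⊓ Subgroup.centralizer {(h : G)} := by
      refine Subgroup.mem_inf.mpr ⟨n.2, ?_⟩
      rw [Subgroup.mem_centralizer_singleton_iff]
      calc (n : G) * h = ((h : G) * n * (h : G)⁻¹) * h := by rw [h2]
        _ = h * n := by group
    rw [hfix h h.2 hh1, Subgroup.mem_bot] at h3
    exact Subtype.ext h3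
  exact Cfsg.Agent.Helper1.Fpf.fpf_nilpotent φ hφ hr hφr

end Cfsg.Agent.S0042
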