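import Mathlib
import Cfsg.Statements.S0991

set_option autoImplicit false
open Cfsg

namespace Cfsg.Agent.S0991

/-- Embedding Theorem: if a non-abelian finite simple group has a proper subgroup of index n, then it is isomorphic to a subgroup of the alternating group of degree n. -/
theorem result {G : Type*} [Group G] [Finite G] [IsSimpleGroup G] (hG : ¬ IsMulCommutative G) (H : Subgroup G) (hH : H ≠ ⊤) : ∃ f : G →* ↥(alternatingGroup (Fin H.index)), Function.Injective f := by
  classical
  haveI : Fintype (G ⧸ H) := Fintype.ofFinite _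
  have hcard : Fintype.card (G ⧸ H) = H.index := by
    rw [Subgroup.index, Nat.card_eq_fintype_card]
  let e : (G ⧸ H) ≃ Fin H.index := Fintype.equivFinOfCardEq hcard
  let ψ : G →* Equiv.Perm (Fin H.index) :=
    (e.permCongrHom.toMonoidHom).comp (MulAction.toPermHom G (G ⧸ H))
  have hker : ψ.ker = ⊥ := by
    rcases (ψ.normal_ker).eq_bot_or_eq_top with h | h
    · exact h
    · exfalso
      apply hH
      rw [eq_top_iff]
      intro g _
      have hg : g ∈ ψ.ker := by rw [h]; trivial
      rw [MonoidHom.mem_ker] at hg
      have h2 : MulAction.toPermHom G (G ⧸ H) g = 1 := by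
        have : e.permCongrHom (MulAction.toPermHom G (G ⧸ H) g) = 1 := hg
        exact (MulEquiv.map_eq_one_iff _).mp this
      have h3 : g • ((1 : G) : G ⧸ H) = ((1 : G) : G ⧸ H) := by
        have := congrArg (fun σ : Equiv.Perm (G ⧸ H) => σ ((1 : G) : G ⧸ H)) h2
        simpa using this
      have h4 : ((g * 1 : G) : G ⧸ H) = ((1 : G) : G ⧸ H) := h3
      rw [QuotientGroup.eq] at h4
      simpa using h4
  have hinj : Function.Injective ψ := (MonoidHom.ker_eq_bot_iff ψ).mp hker
  have hsign : ∀ g : G, Equiv.Perm.sign (ψ g) = 1 := by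
    let s : G →* ℤˣ := (Equiv.Perm.sign).comp ψ
    rcases (s.normal_ker).eq_bot_or_eq_top with h | h
    · exfalso
      apply hG
      have sinj : Function.Injective s := (MonoidHom.ker_eq_bot_iff s).mp h
      refine ⟨⟨fun a b => ?_⟩⟩
      apply sinj
      rw [map_mul, map_mul, mul_comm]
    · intro g
      have : g ∈ s.ker := by rw [h]; trivial
      exact this
  refine ⟨ψ.codRestrict (alternatingGroup (Fin H.index)) (fun g => ?_), ?_⟩
  · exact Equiv.Perm.mem_alternatingGroup.mpr (hsign g)
  · intro a b hab
    apply hinj
    have := congrArg (fun x : ↥(alternatingGroup (Fin H.index)) => (x : Equiv.Perm (Fin H.index))) hab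
    simpa using this

end Cfsg.Agent.S0991
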