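import Mathlib
import Cfsg.Statements.S0350

set_option autoImplicit false
universe u
open Cfsg

namespace Cfsg.Agent.S0350

/-- Counting pairs (t-subset, block containing it) in two ways: the number of blocks of a Steiner system with parameters (t, k, v), multiplied by C(k, t), equals C(v, t). -/
theorem result {α : Type*} [Fintype α] [DecidableEq α] {t k : ℕ} {B : Set (Finset α)} (hB : Cfsg.IsSteinerSystem t k B) : B.ncard * Nat.choose k t = Nat.choose (Fintype.card α) t := by
  classical
  obtain ⟨hk, hex⟩ := hB
  have hfin : B.Finite := Set.toFinite B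
  set Bf : Finset (Finset α) := hfin.toFinset with hBf
  have hmem : ∀ b, b ∈ Bf ↔ b ∈ B := fun b => Set.Finite.mem_toFinset hfin
  have hncard : B.ncard = Bf.card := Set.ncard_eq_toFinset_card B hfin
  have hunion : Bf.biUnion (fun b => Finset.powersetCard t b) =
      Finset.powersetCard t (Finset.univ : Finset α) := by
    ext s
    simp only [Finset.mem_biUnion, Finset.mem_powersetCard, Finset.subset_univ, true_and]
    constructor
    · rintro ⟨b, -, -, hs⟩; exact hs
    · intro hs
      obtain ⟨b, ⟨hbB, hsb⟩, -⟩ := hex s hs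
      exact ⟨b, (hmem b).mpr hbB, hsb, hs⟩
  have hdisj : (Bf : Set (Finset α)).PairwiseDisjoint (fun b => Finset.powersetCard t b) := by
    intro b hb b' hb' hne
    rw [Function.onFun, Finset.disjoint_left]
    intro s hs hs'
    rw [Finset.mem_powersetCard] at hs hs'
    obtain ⟨b₀, -, huniq⟩ := hex s hs.2
    have h1 := huniq b ⟨(hmem b).mp hb, hs.1⟩
    have h2 := huniq b' ⟨(hmem b').mp hb', hs'.1⟩
    exact hne (h1.trans h2.symm)
  have hcard := Finset.card_biUnion hdisj
  rw [hunion, Finset.card_powersetCard, Finset.card_univ] at hcard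
  rw [hcard, hncard]
  rw [Finset.sum_congr rfl (fun b hb => by
    rw [Finset.card_powersetCard, hk b ((hmem b).mp hb)])]
  rw [Finset.sum_const, smul_eq_mul]

end Cfsg.Agent.S0350
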