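import Mathlib
import Cfsg.Statements.S0352
import Cfsg.Agent.Lib.Helper27.Steiner

set_option autoImplicit false
open Cfsg

namespace Cfsg.Agent.S0352

open Cfsg.Agent.Helper27 Finset

/-- In a Steiner system S(5, 8, 24), two distinct blocks intersect in 0, 2 or 4 points. -/
theorem result {α : Type*} [Fintype α] [DecidableEq α] (hα : Fintype.card α = 24) {B : Set (Finset α)} (hB : Cfsg.IsSteinerSystem 5 8 B) {b c : Finset α} (hb : b ∈ B) (hc : c ∈ B) (hbc : b ≠ c) : (b ∩ c).card = 0 ∨ (b ∩ c).card = 2 ∨ (b ∩ c).card = 4 := by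
  obtain ⟨Bf, rfl⟩ := exists_finset_blocks B
  have hb' : b ∈ Bf := by exact_mod_cast hb
  have hc' : c ∈ Bf := by exact_mod_cast hc
  have e0 := steiner_inter_eq Bf hB b hb' 0 (by norm_num)
  have e1 := steiner_inter_eq Bf hB b hb' 1 (by norm_num)
  have e2 := steiner_inter_eq Bf hB b hb' 2 (by norm_num)
  have e3 := steiner_inter_eq Bf hB b hb' 3 (by norm_num)
  have e4 := steiner_inter_eq Bf hB b hb' 4 (by norm_num)
  have n5 := steiner_inter_card_eq_zero Bf hB b hb' 5 (by norm_num) (by norm_num)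
  have n6 := steiner_inter_card_eq_zero Bf hB b hb' 6 (by norm_num) (by norm_num)
  have n7 := steiner_inter_card_eq_zero Bf hB b hb' 7 (by norm_num) (by norm_num)
  have n8 := steiner_inter_card_eq_one Bf hB b hb' (by norm_num)
  rw [hα] at e0 e1 e2 e3 e4
  simp only [sum_range_succ, range_zero, sum_empty, n5, n6, n7, n8] at e0 e1 e2 e3 e4
  norm_num [Nat.choose] at e0 e1 e2 e3 e4
  have hle : (c ∩ b).card ≤ 4 := by
    by_contra h
    exact hbc (steiner_eq_of_le_card_inter hB hb hc (by rw [inter_comm]; omega))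
  have h1 : (c ∩ b).card ≠ 1 := by
    intro h
    have : c ∈ Bf.filter (fun c => (c ∩ b).card = 1) := mem_filter.mpr ⟨hc', h⟩
    have := card_pos.mpr ⟨c, this⟩
    omega
  have h3 : (c ∩ b).card ≠ 3 := by
    intro h
    have : c ∈ Bf.filter (fun c => (c ∩ b).card = 3) := mem_filter.mpr ⟨hc', h⟩
    have := card_pos.mpr ⟨c, this⟩
    omega
  rw [inter_comm]
  omega

end Cfsg.Agent.S0352
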