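import Mathlib
import Cfsg.Statements.S4127
import Cfsg.Agent.Lib.Helper1.CoprimeIndex
import Cfsg.Agent.Lib.Helper20.ConjUnion
import Cfsg.Agent.Lib.Helper20.PrimaryParts
import Cfsg.Agent.Lib.Helper21.FittingSubgroup
import Cfsg.Agent.Lib.Helper7.PLocal2

set_option autoImplicit false
open Cfsg
open scoped Pointwise

namespace Cfsg.Agent.S4127

universe u

variable {H : Type u} [Group H] [Finite H]

/-- a subgroup of index prime to `p` contains every normal Sylow `p`-subgroup -/
theorem sylow_le_of_index_coprime (p : ℕ) [hp : Fact p.Prime] (P : Sylow p H)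
    [hn : (P : Subgroup H).Normal] (D : Subgroup H) (hD : ¬ p ∣ D.index) :
    (P : Subgroup H) ≤ D := by
  rw [← Subgroup.relIndex_eq_one]
  have h1 := Helper21.relIndex_dvd_index_of_normal_right D (P : Subgroup H)
  have h2 : D.relIndex (P : Subgroup H) ∣ Nat.card (P : Subgroup H) := by
    have := Helper21.card_inf_mul_relIndex D (P : Subgroup H)
    exact Dvd.intro_left _ this
  obtain ⟨n, hn⟩ := IsPGroup.iff_card.mp P.2
  rw [hn] at h2
  obtain ⟨j, hj, hj'⟩ := (Nat.dvd_prime_pow hp.out).mp h2
  rcases Nat.eq_zero_or_pos j with h0 | h0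
  · rw [hj', h0, pow_zero]
  · exfalso
    apply hD
    exact dvd_trans (hj' ▸ dvd_pow_self p h0.ne') h1

theorem exists_sylow_le_of_index_coprime (p : ℕ) [hp : Fact p.Prime] (D : Subgroup H)
    (hD : ¬ p ∣ D.index) (u : H) (huD : u ∈ D) (hu : ∃ k : ℕ, orderOf u = p ^ k) :
    ∃ Q : Sylow p H, (Q : Subgroup H) ≤ D ∧ u ∈ Q := by
  have hpg : IsPGroup p (Subgroup.zpowers (⟨u, huD⟩ : D)) := by
    obtain ⟨k, hk⟩ := hu
    apply IsPGroup.of_card (n := k)
    rw [Nat.card_zpowers, ← hk]
    exact (Subgroup.orderOf_mk u huD)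
  obtain ⟨Q₀, hQ₀⟩ := hpg.exists_le_sylow
  have hcard : Nat.card ((Q₀ : Subgroup D).map D.subtype) = p ^ (Nat.card H).factorization p := by
    rw [Subgroup.card_map_of_injective D.subtype_injective, Q₀.card_eq_multiplicity]
    congr 1
    have h1 := D.card_mul_index
    rw [← h1, Nat.factorization_mul Nat.card_pos.ne' Subgroup.index_ne_zero_of_finite,
      Finsupp.add_apply, Nat.factorization_eq_zero_of_not_dvd hD, add_zero]
  refine ⟨Sylow.ofCard _ hcard, ?_, ?_⟩
  · rw [Sylow.coe_ofCard]
    exact Subgroup.map_subtype_le _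
  · change u ∈ ((Q₀ : Subgroup D).map D.subtype)
    exact ⟨⟨u, huD⟩, hQ₀ (Subgroup.mem_zpowers _), rfl⟩

theorem structure_of_coprime_index (p : ℕ) [hp : Fact p.Prime]
    (hU : ∀ y : H, (orderOf y).Coprime p →
      ¬ p ∣ (Subgroup.centralizer ({y} : Set H)).index) :
    ∃ (P₀ : Sylow p H) (K : Subgroup H), (P₀ : Subgroup H).Normal ∧ K.Normal ∧
      K ≤ Subgroup.centralizer ((P₀ : Subgroup H) : Set H) ∧
      K.IsComplement' (P₀ : Subgroup H) := by
  obtain ⟨P₀⟩ : Nonempty (Sylow p H) := inferInstance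
  have hM : (P₀ : Subgroup H) ⊔ Subgroup.centralizer ((P₀ : Subgroup H) : Set H) = ⊤ := by
    apply Helper20.eq_top_of_forall_conj_mem
    intro z
    obtain ⟨u, v, hz, huv, hu, hv, -, -⟩ := Helper20.exists_pPart_decomp p z (orderOf_pos z)
    have hD := hU v hv
    obtain ⟨Q, hQD, huQ⟩ := exists_sylow_le_of_index_coprime p _ hD u
      (by rw [Subgroup.mem_centralizer_singleton_iff]; exact huv) hu
    obtain ⟨g, hg⟩ := MulAction.exists_smul_eq H Q P₀
    refine ⟨g⁻¹, ?_⟩
    have h1 : g⁻¹⁻¹ * z * g⁻¹ = (g * u * g⁻¹) * (g * v * g⁻¹) := by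
      rw [hz]; group
    rw [h1]
    have hP₀ : (P₀ : Subgroup H) = MulAut.conj g • (Q : Subgroup H) := by
      rw [← hg]; exact Sylow.coe_subgroup_smul
    apply Subgroup.mul_mem
    · apply Subgroup.mem_sup_left
      rw [hP₀]
      have := Subgroup.smul_mem_pointwise_smul u (MulAut.conj g) (Q : Subgroup H) huQ
      rwa [MulAut.smul_def, MulAut.conj_apply] at this
    · apply Subgroup.mem_sup_right
      rw [Subgroup.mem_centralizer_iff]
      intro w hw
      rw [SetLike.mem_coe, hP₀, Subgroup.mem_pointwise_smul_iff_inv_smul_mem, MulAut.smul_def,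
        ← map_inv, MulAut.conj_apply, inv_inv] at hw
      have h2 := hQD hw
      rw [Subgroup.mem_centralizer_singleton_iff] at h2
      calc w * (g * v * g⁻¹) = g * ((g⁻¹ * w * g) * v) * g⁻¹ := by group
        _ = g * (v * (g⁻¹ * w * g)) * g⁻¹ := by rw [h2]
        _ = g * v * g⁻¹ * w := by group
  haveI hP₀n : (P₀ : Subgroup H).Normal := by
    rw [← Subgroup.normalizer_eq_top_iff, eq_top_iff, ← hM]
    exact sup_le Subgroup.le_normalizer (Subgroup.centralizer_le_normalizer _)
  obtain ⟨K, hK⟩ := Subgroup.exists_left_complement'_of_coprime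
    (N := (P₀ : Subgroup H)) P₀.card_coprime_index
  have hKcard : Nat.card K = (P₀ : Subgroup H).index := hK.index_eq_card.symm
  have hKc : K ≤ Subgroup.centralizer ((P₀ : Subgroup H) : Set H) := by
    intro y hy
    have hyo : (orderOf y).Coprime p := by
      have h1 : orderOf y ∣ (P₀ : Subgroup H).index := hKcard ▸ Subgroup.orderOf_dvd_natCard K hy
      have h2 : ((P₀ : Subgroup H).index).Coprime p :=
        ((Nat.Prime.coprime_iff_not_dvd hp.out).mpr P₀.not_dvd_index).symm
      exact Nat.Coprime.coprime_dvd_left h1 h2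
    have h3 := sylow_le_of_index_coprime p P₀ _ (hU y hyo)
    rw [Subgroup.mem_centralizer_iff]
    intro w hw
    have := h3 hw
    rw [Subgroup.mem_centralizer_singleton_iff] at this
    exact this
  refine ⟨P₀, K, hP₀n, ?_, hKc, hK⟩
  rw [← Subgroup.normalizer_eq_top_iff, eq_top_iff, ← hK.sup_eq_top]
  refine sup_le Subgroup.le_normalizer ?_
  refine le_trans ?_ (Subgroup.centralizer_le_normalizer _)
  intro w hw
  rw [Subgroup.mem_centralizer_iff]
  intro y hy
  have := hKc hy
  rw [Subgroup.mem_centralizer_iff] at this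
  exact (this w hw).symm


omit [Finite H] in
theorem centralizer_mul_of_coprime (x y : H) (hxy : x * y = y * x)
    (hcop : (orderOf x).Coprime (orderOf y)) :
    Subgroup.centralizer ({x * y} : Set H) =
      Subgroup.centralizer ({x} : Set H) ⊓ Subgroup.centralizer ({y} : Set H) := by
  apply le_antisymm
  · intro g hg
    rw [Subgroup.mem_centralizer_singleton_iff] at hg
    have hpow : ∀ n : ℕ, g * (x * y) ^ n = (x * y) ^ n * g := by
      intro n
      have : Commute g (x * y) := hg
      exact (this.pow_right n)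
    have hc : Commute x y := hxy
    obtain ⟨m, hm⟩ := exists_pow_eq_self_of_coprime (x := x) (n := orderOf y) hcop.symm
    obtain ⟨m', hm'⟩ := exists_pow_eq_self_of_coprime (x := y) (n := orderOf x) hcop
    have hx' : x = (x * y) ^ (orderOf y * m) := by
      rw [pow_mul, hc.mul_pow, pow_orderOf_eq_one, mul_one, hm]
    have hy' : y = (x * y) ^ (orderOf x * m') := by
      rw [pow_mul, hc.mul_pow, pow_orderOf_eq_one, one_mul, hm']
    rw [Subgroup.mem_inf]
    refine ⟨?_, ?_⟩
    · rw [Subgroup.mem_centralizer_singleton_iff]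
      rw [hx']; exact hpow _
    · rw [Subgroup.mem_centralizer_singleton_iff]
      rw [hy']; exact hpow _
  · intro g hg
    rw [Subgroup.mem_inf] at hg
    obtain ⟨hg1, hg2⟩ := hg
    rw [Subgroup.mem_centralizer_singleton_iff] at hg1 hg2 ⊢
    rw [← mul_assoc, hg1, mul_assoc, hg2, mul_assoc]


theorem main {G : Type u} [Group G] [Finite G] (p : ℕ) [hp : Fact p.Prime]
    (a : ℕ) (hmax : ∀ y : G, ¬ p ^ (a + 1) ∣ (Subgroup.centralizer ({y} : Set G)).index)
    (x : G) (hxo : ∃ k : ℕ, orderOf x = p ^ k)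
    (hxa : (Subgroup.centralizer ({x} : Set G)).index = p ^ a) :
    Cfsg.HasNormalPComplement p G := by
  set C := Subgroup.centralizer ({x} : Set G) with hCdef
  have hxC : x ∈ C := by rw [hCdef, Subgroup.mem_centralizer_singleton_iff]
  have hcomm : ∀ c ∈ C, c * x = x * c := fun c hc => Subgroup.mem_centralizer_singleton_iff.mp hc
  -- step 1: hypothesis of the structure lemma for `C`
  have hU : ∀ y : C, (orderOf y).Coprime p →
      ¬ p ∣ (Subgroup.centralizer ({y} : Set C)).index := by
    intro y hy hdvd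
    have hcent : Subgroup.centralizer ({y} : Set C) =
        (Subgroup.centralizer ({(y : G)} : Set G)).subgroupOf C := by
      ext w
      rw [Subgroup.mem_centralizer_singleton_iff, Subgroup.mem_subgroupOf,
        Subgroup.mem_centralizer_singleton_iff, Subtype.ext_iff]
      rfl
    rw [hcent] at hdvd
    change p ∣ (Subgroup.centralizer ({(y : G)} : Set G)).relIndex C at hdvd
    have hyo : (orderOf (y : G)).Coprime p := by rwa [Subgroup.orderOf_coe]
    have hcop : (orderOf x).Coprime (orderOf (y : G)) := by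
      obtain ⟨k, hk⟩ := hxo
      rw [hk]
      exact Nat.Coprime.pow_left k hyo.symm
    have h1 := centralizer_mul_of_coprime x (y : G) (hcomm y y.2).symm hcop
    have h2 : (C ⊓ Subgroup.centralizer ({(y : G)} : Set G)).relIndex C * C.index =
        (C ⊓ Subgroup.centralizer ({(y : G)} : Set G)).index :=
      Subgroup.relIndex_mul_index inf_le_left
    rw [Subgroup.inf_relIndex_left, ← h1, hxa] at h2
    apply hmax (x * (y : G))
    rw [← h2, pow_succ, mul_comm]
    exact Nat.mul_dvd_mul_right hdvd _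
  obtain ⟨P₀, K, hP₀n, hKn, hKc, hK⟩ := structure_of_coprime_index p hU
  set P₀' : Subgroup G := (P₀ : Subgroup C).map C.subtype with hP₀'
  set K' : Subgroup G := K.map C.subtype with hK'
  have hP₀'C : P₀' ≤ C := Subgroup.map_subtype_le _
  have hK'C : K' ≤ C := Subgroup.map_subtype_le _
  have hP₀'pg : IsPGroup p P₀' := P₀.2.map _
  have hKcard : Nat.card K = (P₀ : Subgroup C).index := hK.index_eq_card.symm
  have hKcop : (Nat.card K).Coprime p := by
    rw [hKcard]
    exact ((Nat.Prime.coprime_iff_not_dvd hp.out).mpr P₀.not_dvd_index).symm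
  -- F1: p-elements of C lie in P₀'
  have F1 : ∀ c ∈ C, (∃ k : ℕ, orderOf c = p ^ k) → c ∈ P₀' := by
    intro c hc ⟨k, hk⟩
    have hpg : IsPGroup p (Subgroup.zpowers (⟨c, hc⟩ : C)) := by
      apply IsPGroup.of_card (n := k)
      rw [Nat.card_zpowers, ← hk]
      exact Subgroup.orderOf_mk c hc
    obtain ⟨Q, hQ⟩ := hpg.exists_le_sylow
    haveI := Sylow.unique_of_normal P₀ hP₀n
    have hQP : Q = P₀ := Subsingleton.elim _ _
    rw [hQP] at hQ
    exact ⟨⟨c, hc⟩, hQ (Subgroup.mem_zpowers _), rfl⟩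
  -- F2: p'-elements of C lie in K'
  have F2 : ∀ y ∈ C, (orderOf y).Coprime p → y ∈ K' := by
    intro y hy hyo
    have h1 : orderOf ((⟨y, hy⟩ : C) : C ⧸ K) ∣ orderOf (⟨y, hy⟩ : C) :=
      orderOf_map_dvd (QuotientGroup.mk' K) _
    rw [Subgroup.orderOf_mk] at h1
    have h2 : orderOf ((⟨y, hy⟩ : C) : C ⧸ K) ∣ Nat.card (C ⧸ K) := orderOf_dvd_natCard _
    rw [← Subgroup.index_eq_card, hK.symm.index_eq_card] at h2
    obtain ⟨n, hn⟩ := IsPGroup.iff_card.mp P₀.2
    rw [hn] at h2
    have h3 : orderOf ((⟨y, hy⟩ : C) : C ⧸ K) = 1 := by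
      have hc : (orderOf ((⟨y, hy⟩ : C) : C ⧸ K)).Coprime (p ^ n) :=
        Nat.Coprime.coprime_dvd_left h1 (Nat.Coprime.pow_right n hyo)
      exact Nat.eq_one_of_dvd_coprimes hc (dvd_refl _) h2
    rw [orderOf_eq_one_iff, QuotientGroup.eq_one_iff] at h3
    exact ⟨⟨y, hy⟩, h3, rfl⟩
  -- F3: elements of K' have order prime to p
  have F3 : ∀ y ∈ K', (orderOf y).Coprime p := by
    rintro y ⟨w, hw, rfl⟩
    have h1 : orderOf w ∣ Nat.card K := Subgroup.orderOf_dvd_natCard K hw
    have h2 : orderOf (C.subtype w) = orderOf w := Subgroup.orderOf_coe w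
    rw [h2]
    exact Nat.Coprime.coprime_dvd_left h1 hKcop
  -- F4: K' centralizes P₀'
  have F4 : ∀ y ∈ K', ∀ c ∈ P₀', c * y = y * c := by
    rintro y ⟨w, hw, rfl⟩ c ⟨v, hv, rfl⟩
    have := hKc hw
    rw [Subgroup.mem_centralizer_iff] at this
    have h1 := this v hv
    exact congrArg C.subtype h1
  have hxP₀ : x ∈ P₀' := F1 x hxC hxo
  -- the normal closure of x is a p-group
  set L := Subgroup.normalClosure ({x} : Set G) with hL
  haveI hLn : L.Normal := Subgroup.normalClosure_normal
  obtain ⟨P, hP⟩ : ∃ P : Sylow p G, x ∈ P := by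
    have hpg : IsPGroup p (Subgroup.zpowers x) := by
      obtain ⟨k, hk⟩ := hxo
      apply IsPGroup.of_card (n := k)
      rw [Nat.card_zpowers, hk]
    obtain ⟨P, hP⟩ := hpg.exists_le_sylow
    exact ⟨P, hP (Subgroup.mem_zpowers x)⟩
  have hLP : L ≤ (P : Subgroup G) := by
    rw [hL, Subgroup.normalClosure, Subgroup.closure_le]
    intro z hz
    rw [Group.mem_conjugatesOfSet_iff] at hz
    obtain ⟨b, hb, hbz⟩ := hz
    rw [Set.mem_singleton_iff] at hb
    subst hb
    obtain ⟨g, hg⟩ := isConj_iff.mp hbz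
    have hcopi : ((P : Subgroup G).index).Coprime C.index := by
      rw [hxa]
      exact Nat.Coprime.pow_right a
        ((Nat.Prime.coprime_iff_not_dvd hp.out).mpr P.not_dvd_index).symm
    obtain ⟨u, hu, c, hc, hguc⟩ := Helper1.exists_mul_of_coprime_index hcopi g
    have h1 : z = u * b * u⁻¹ := by
      rw [← hg, hguc]
      have := hcomm c hc
      calc u * c * b * (u * c)⁻¹ = u * (c * b) * c⁻¹ * u⁻¹ := by group
        _ = u * (b * c) * c⁻¹ * u⁻¹ := by rw [this]
        _ = u * b * u⁻¹ := by group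
    rw [h1]
    exact (P : Subgroup G).mul_mem ((P : Subgroup G).mul_mem hu hP) ((P : Subgroup G).inv_mem hu)
  have hLpg : IsPGroup p L := P.2.to_le hLP
  -- K' centralizes L
  have hKL : ∀ y ∈ K', y ∈ Subgroup.centralizer (L : Set G) := by
    intro y hy
    apply Helper7.thompson_AxB_element p L P₀' hLpg hP₀'pg
    · rw [Subgroup.normalizer_eq_top_iff.mpr hLn]; exact le_top
    · rw [Subgroup.normalizer_eq_top_iff.mpr hLn]; exact Subgroup.mem_top y
    · exact F3 y hy
    · rw [Subgroup.mem_centralizer_iff]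
      intro c hc
      exact F4 y hy c hc
    · rw [Subgroup.mem_centralizer_iff]
      intro c hc
      rw [SetLike.mem_coe, Subgroup.mem_inf] at hc
      obtain ⟨hcL, hcP⟩ := hc
      rw [Subgroup.mem_centralizer_iff] at hcP
      have hcC : c ∈ C := by
        rw [hCdef, Subgroup.mem_centralizer_singleton_iff]
        exact (hcP x hxP₀).symm
      have hco : ∃ k : ℕ, orderOf c = p ^ k := by
        obtain ⟨k, hk⟩ := hLpg ⟨c, hcL⟩
        have h1 : c ^ p ^ k = 1 := by
          have := congrArg Subtype.val hk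
          simpa using this
        obtain ⟨j, -, hj⟩ := (Nat.dvd_prime_pow hp.out).mp (orderOf_dvd_of_pow_eq_one h1)
        exact ⟨j, hj⟩
      exact F4 y hy c (F1 c hcC hco)
  -- K' is normal in G
  haveI hK'n : K'.Normal := by
    constructor
    intro y hy g
    apply F2
    · rw [hCdef, Subgroup.mem_centralizer_singleton_iff]
      have h1 : g⁻¹ * x * g ∈ L := by
        have := hLn.conj_mem x (Subgroup.subset_normalClosure (Set.mem_singleton x)) g⁻¹
        rwa [inv_inv] at this
      have h2 := hKL y hy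
      rw [Subgroup.mem_centralizer_iff] at h2
      have h3 := h2 _ h1
      calc g * y * g⁻¹ * x = g * (y * (g⁻¹ * x * g)) * g⁻¹ := by group
        _ = g * ((g⁻¹ * x * g) * y) * g⁻¹ := by rw [h3]
        _ = x * (g * y * g⁻¹) := by group
    · have := MulEquiv.orderOf_eq (MulAut.conj g) y
      rw [MulAut.conj_apply] at this
      rw [this]
      exact F3 y hy
  -- complement
  obtain ⟨P⟩ : Nonempty (Sylow p G) := inferInstance
  refine ⟨P, K', hK'n, ?_⟩
  have hK'card : Nat.card K' = Nat.card K := Subgroup.card_map_of_injective C.subtype_injective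
  obtain ⟨n₀, hn₀⟩ := IsPGroup.iff_card.mp P₀.2
  have hcardC : Nat.card K * Nat.card (P₀ : Subgroup C) = Nat.card C := hK.card_mul
  have hcardG : Nat.card C * C.index = Nat.card G := C.card_mul_index
  have hG : Nat.card G = Nat.card K * p ^ (n₀ + a) := by
    rw [← hcardG, ← hcardC, hn₀, hxa, pow_add]; ring
  have hfac : (Nat.card G).factorization p = n₀ + a := by
    have hKndvd : ¬ p ∣ Nat.card K := by
      intro h
      have := Nat.Coprime.eq_one_of_dvd hKcop.symm h
      exact hp.out.one_lt.ne' this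
    rw [hG, Nat.factorization_mul Nat.card_pos.ne' (pow_ne_zero _ hp.out.ne_zero),
      Finsupp.add_apply, Nat.factorization_eq_zero_of_not_dvd hKndvd,
      Nat.Prime.factorization_pow hp.out, Finsupp.single_eq_same, zero_add]
  have hPcard : Nat.card (P : Subgroup G) = p ^ (n₀ + a) := by
    rw [P.card_eq_multiplicity, hfac]
  apply Subgroup.isComplement'_of_coprime
  · rw [hK'card, hPcard, hG]
  · rw [hK'card, hPcard]
    exact Nat.Coprime.pow_right _ hKcop


/-- Let G be a finite group, p a prime and p^a the largest power of p dividing the size of any conjugacy class of G. If some element of p-power order has a conjugacy class of size exactly p^a, then G has a normal p-complement. -/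
theorem result {G : Type*} [Group G] [Finite G] (p : ℕ) [Fact p.Prime]
    (a : ℕ) (hmax : ∀ y : G, ¬ p ^ (a + 1) ∣ (Subgroup.centralizer ({y} : Set G)).index)
    (hx : ∃ x : G, (∃ k : ℕ, orderOf x = p ^ k) ∧ (Subgroup.centralizer ({x} : Set G)).index = p ^ a) :
    Cfsg.HasNormalPComplement p G := by
  obtain ⟨x, hxo, hxa⟩ := hx
  exact main p a hmax x hxo hxa

end Cfsg.Agent.S4127
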