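import Mathlib
import Cfsg.Statements.S4035
import Cfsg.Agent.Lib.Helper20.Basic
import Cfsg.Agent.Lib.Helper20.SylowCentralizer
import Cfsg.Agent.Lib.Helper20.SylowDirectFactor

set_option autoImplicit false
open Cfsg

namespace Cfsg.Agent.S4035

/-- Let G be a finite group and p a prime such that p divides the size of no conjugacy class of p-regular elements (elements of order prime to p). Then G is the internal direct product of a Sylow p-subgroup P and a normal subgroup H of order prime to p: P is normal, P ⊓ H = 1 and PH = G. -/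
theorem result {G : Type*} [Group G] [Finite G] {p : ℕ} [Fact p.Prime]
    (h : ∀ x : G, (orderOf x).Coprime p → ¬ p ∣ (ConjClasses.mk x).carrier.ncard) (P : Sylow p G) :
    (P : Subgroup G).Normal ∧ ∃ H : Subgroup G, H.Normal ∧ ¬ p ∣ Nat.card H ∧
      (P : Subgroup G) ⊓ H = ⊥ ∧ (P : Subgroup G) ⊔ H = ⊤ := by
  have hp : p.Prime := Fact.out
  have h1 : ∀ y : G, (orderOf y).Coprime p →
      ∃ g : G, ∀ u ∈ (P : Subgroup G), (g⁻¹ * u * g) * y = y * (g⁻¹ * u * g) := by
    intro y hy
    apply Helper20.exists_conj_sylow_commute P y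
    rw [← Helper20.ncard_carrier_eq_index]
    exact h y hy
  obtain ⟨hPn, hcent⟩ := Helper20.sylow_normal_of_forall_conj_commute P h1
  refine ⟨hPn, ?_⟩
  obtain ⟨P0, K, hP0n, hKn, hinf, hsup⟩ := Helper20.directFactor_of_commute (G := G) p (by
    intro x y hx hy
    obtain ⟨a, ha⟩ := hx
    obtain ⟨q, b, hq, hqp, hb⟩ := hy
    have hxP : x ∈ (P : Subgroup G) := Helper20.mem_sylow_of_normal_of_orderOf P ha
    apply hcent y _ x hxP
    rw [hb]
    exact Nat.Coprime.pow_left b ((Nat.coprime_primes hq hp).mpr hqp))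
  -- P0 = P
  have hP0P : (P0 : Subgroup G) = (P : Subgroup G) := by
    have hle : (P0 : Subgroup G) ≤ (P : Subgroup G) := by
      intro w hw
      obtain ⟨k, hk⟩ := Helper20.exists_orderOf_eq_of_mem_isPGroup P0.isPGroup' hw
      exact Helper20.mem_sylow_of_normal_of_orderOf P hk
    exact (P0.is_maximal' P.isPGroup' hle).symm
  rw [hP0P] at hinf hsup
  refine ⟨K, hKn, ?_, hinf, hsup⟩
  -- p ∤ |K|
  have hcompl : Subgroup.IsComplement' (P : Subgroup G) K := by
    apply Subgroup.isComplement'_of_disjoint_and_mul_eq_univ (disjoint_iff.mpr hinf)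
    rw [← Subgroup.mul_normal, hsup, Subgroup.coe_top]
  have hidx : (P : Subgroup G).index = Nat.card K := hcompl.symm.index_eq_card
  rw [← hidx]
  exact P.not_dvd_index

end Cfsg.Agent.S4035
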