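import Mathlib
import Cfsg.Statements.S4134
import Cfsg.Agent.Lib.Helper19.ClassSize

set_option autoImplicit false
open Cfsg
open Cfsg.Agent.Helper19.ClassSize

namespace Cfsg.Agent.S4134

variable {G : Type*} [Group G] [Finite G]

/-- a noncentral `s`-element forces `v_s(ζ) < v_s(μ)` -/
theorem fact_lt {μ : ℕ} (hC : ∀ x : G, x ∉ Subgroup.center G → Nat.card (Cz x) = μ)
    {s : ℕ} (hs : s.Prime) {x₀ : G} (hx₀ : x₀ ∉ Subgroup.center G)
    (hord : ∃ i, orderOf x₀ = s ^ i) :
    (Nat.card (Subgroup.center G)).factorization s < μ.factorization s := by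
  obtain ⟨i, hi⟩ := hord
  set Z := Subgroup.center G with hZ
  set C := Cz x₀ with hCdef
  have hZC : Z ≤ C := center_le_Cz x₀
  let xC : C := ⟨x₀, self_mem_Cz x₀⟩
  let xbar : C ⧸ (Z.subgroupOf C) := QuotientGroup.mk xC
  have hne : xbar ≠ 1 := by
    intro h1
    rw [QuotientGroup.eq_one_iff, Subgroup.mem_subgroupOf] at h1
    exact hx₀ h1
  have hpow : xbar ^ s ^ i = 1 := by
    show (QuotientGroup.mk xC : C ⧸ (Z.subgroupOf C)) ^ s ^ i = 1
    rw [← QuotientGroup.mk_pow]
    have : xC ^ s ^ i = 1 := by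
      apply Subtype.ext
      show x₀ ^ s ^ i = 1
      rw [← hi]; exact pow_orderOf_eq_one x₀
    rw [this]; rfl
  have hd : orderOf xbar ∣ s ^ i := orderOf_dvd_of_pow_eq_one hpow
  obtain ⟨j, _, hj⟩ := (Nat.dvd_prime_pow hs).mp hd
  have hj0 : j ≠ 0 := by
    intro h0
    rw [h0, pow_zero, orderOf_eq_one_iff] at hj
    exact hne hj
  have hsd : s ∣ Nat.card (C ⧸ (Z.subgroupOf C)) := by
    have h1 : s ∣ orderOf xbar := by rw [hj]; exact dvd_pow_self s hj0
    exact dvd_trans h1 (orderOf_dvd_natCard xbar)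
  have hcard : Nat.card C = Nat.card (C ⧸ (Z.subgroupOf C)) * Nat.card (Z.subgroupOf C) :=
    Subgroup.card_eq_card_quotient_mul_card_subgroup _
  have hcz : Nat.card (Z.subgroupOf C) = Nat.card Z :=
    Nat.card_congr (Subgroup.subgroupOfEquivOfLe hZC).toEquiv
  rw [hcz, hC x₀ hx₀] at hcard
  have hq0 : Nat.card (C ⧸ (Z.subgroupOf C)) ≠ 0 := Nat.card_pos.ne'
  have hz0 : Nat.card Z ≠ 0 := Nat.card_pos.ne'
  rw [hcard, Nat.factorization_mul hq0 hz0]
  have := hs.factorization_pos_of_dvd hq0 hsd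
  simp only [Finsupp.coe_add, Pi.add_apply]
  omega

/-- every noncentral centralizer then contains a noncentral `s`-element -/
theorem exists_sElt {μ : ℕ} (hC : ∀ x : G, x ∉ Subgroup.center G → Nat.card (Cz x) = μ)
    {s : ℕ} (hs : s.Prime)
    (hlt : (Nat.card (Subgroup.center G)).factorization s < μ.factorization s)
    {g : G} (hg : g ∉ Subgroup.center G) :
    ∃ y ∈ Cz g, y ∉ Subgroup.center G ∧ ∃ j, orderOf y = s ^ j := by
  have : Fact s.Prime := ⟨hs⟩
  obtain ⟨S⟩ : Nonempty (Sylow s (Cz g)) := inferInstance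
  have hScard : Nat.card S = s ^ μ.factorization s := by
    rw [S.card_eq_multiplicity, hC g hg]
  by_contra hcon
  push Not at hcon
  have hle : (S : Subgroup (Cz g)).map (Cz g).subtype ≤ Subgroup.center G := by
    rintro _ ⟨u, hu, rfl⟩
    by_contra hu2
    obtain ⟨k, hk⟩ := (IsPGroup.iff_orderOf.mp S.isPGroup') ⟨u, hu⟩
    apply hcon (u : G) u.2 hu2 k
    rw [← hk]
    rw [Subgroup.orderOf_mk]
    exact (Subgroup.orderOf_coe u)
  have h1 := Subgroup.card_dvd_of_le hle
  rw [Subgroup.card_map_of_injective (Subgroup.subtype_injective _), hScard] at h1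
  have hz0 : Nat.card (Subgroup.center G) ≠ 0 := Nat.card_pos.ne'
  have := (hs.pow_dvd_iff_le_factorization hz0).mp h1
  omega

/-- in Case 1 every noncentral element of prime power order has abelian centralizer -/
theorem abelian_Cz {μ : ℕ} (hC : ∀ x : G, x ∉ Subgroup.center G → Nat.card (Cz x) = μ)
    {p q : ℕ} (hp : p.Prime) (hq : q.Prime) (hpq : p ≠ q)
    (hltp : (Nat.card (Subgroup.center G)).factorization p < μ.factorization p)
    (hltq : (Nat.card (Subgroup.center G)).factorization q < μ.factorization q)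
    {r : ℕ} (hr : r.Prime) {z : G} (hz : z ∉ Subgroup.center G) (hzr : ∃ i, orderOf z = r ^ i) :
    ∀ a ∈ Cz z, ∀ b ∈ Cz z, a * b = b * a := by
  by_cases hrp : r = p
  · obtain ⟨y, hy1, hy2, hy3⟩ := exists_sElt hC hq hltq hz
    exact (abelian_of_two_primes hC hr hq (by rw [hrp]; exact hpq) hz hy2 hy1 hzr hy3).2
  · obtain ⟨y, hy1, hy2, hy3⟩ := exists_sElt hC hp hltp hz
    exact (abelian_of_two_primes hC hr hp hrp hz hy2 hy1 hzr hy3).2

/-- an abelian centralizer is the centralizer of each of its noncentral elements -/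
theorem Cz_eq_of_mem_abelian {μ : ℕ} (hC : ∀ x : G, x ∉ Subgroup.center G → Nat.card (Cz x) = μ)
    {z u : G} (hz : z ∉ Subgroup.center G) (hab : ∀ a ∈ Cz z, ∀ b ∈ Cz z, a * b = b * a)
    (hu : u ∈ Cz z) (hu2 : u ∉ Subgroup.center G) : Cz u = Cz z := by
  symm
  apply Cz_eq_of_le hC hz hu2
  intro g hg
  rw [mem_Cz]
  exact hab u hu g hg

/-- `μ ≤ n ζ` when some noncentral centralizer is abelian -/
theorem mu_le {μ n : ℕ} (hC : ∀ x : G, x ∉ Subgroup.center G → Nat.card (Cz x) = μ)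
    (hcard : Nat.card G = n * μ) (hn : 0 < n)
    {z : G} (hz : z ∉ Subgroup.center G) (hab : ∀ a ∈ Cz z, ∀ b ∈ Cz z, a * b = b * a) :
    μ ≤ n * Nat.card (Subgroup.center G) := by
  have hμ : 0 < μ := by rw [← hC z hz]; exact Nat.card_pos
  have hne : Cz z ≠ ⊤ := fun h => hz (Cz_eq_top_iff.mp h)
  obtain ⟨g, hg⟩ : ∃ g : G, g ∉ Cz z := by
    by_contra hcon
    push Not at hcon
    exact hne (eq_top_iff.mpr fun g _ => hcon g)
  have hgZ : g ∉ Subgroup.center G := fun h => hg (center_le_Cz z h)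
  have hinf : Cz z ⊓ Cz g = Subgroup.center G := by
    apply le_antisymm
    · intro u hu
      obtain ⟨hu1, hu2⟩ := Subgroup.mem_inf.mp hu
      by_contra huZ
      have h1 : Cz u = Cz z := Cz_eq_of_mem_abelian hC hz hab hu1 huZ
      apply hg
      rw [← h1, mem_Cz]
      exact (mem_Cz.mp hu2).symm
    · exact le_inf (center_le_Cz z) (center_le_Cz g)
  have hidx : ∀ x : G, x ∉ Subgroup.center G → (Cz x).index = n := by
    intro x hx
    have h1 := Subgroup.card_mul_index (Cz x)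
    rw [hC x hx, hcard, mul_comm n μ] at h1
    exact Nat.eq_of_mul_eq_mul_left hμ h1
  have h1 := Subgroup.index_inf_le (H := Cz z) (K := Cz g)
  rw [hinf, hidx z hz, hidx g hgZ] at h1
  have h2 := Subgroup.card_mul_index (Subgroup.center G)
  rw [hcard] at h2
  -- ζ * idx = n * μ, idx ≤ n * n
  have h3 : n * μ ≤ Nat.card (Subgroup.center G) * (n * n) := by
    rw [← h2]; exact Nat.mul_le_mul_left _ h1
  have h4 : n * μ ≤ n * (n * Nat.card (Subgroup.center G)) := by
    calc n * μ ≤ Nat.card (Subgroup.center G) * (n * n) := h3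
      _ = n * (n * Nat.card (Subgroup.center G)) := by ring
  exact Nat.le_of_mul_le_mul_left h4 hn

/-- a noncentral `r`-subgroup has a noncentral element which is central modulo the center -/
theorem exists_second_center {r : ℕ} [Fact r.Prime] (T : Subgroup G) (hT : IsPGroup r T)
    (hTZ : ¬ T ≤ Subgroup.center G) :
    ∃ z ∈ T, z ∉ Subgroup.center G ∧
      ∀ t ∈ T, ∃ c ∈ Subgroup.center G, t⁻¹ * z * t = z * c := by
  set Z := Subgroup.center G with hZ
  let π := QuotientGroup.mk' Z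
  have hTbar : IsPGroup r (T.map π) := hT.map π
  obtain ⟨t₀, ht₀, ht₀Z⟩ : ∃ t ∈ T, t ∉ Z := by
    by_contra h
    push Not at h
    exact hTZ h
  have hnt : Nontrivial (T.map π) := by
    refine ⟨⟨⟨π t₀, Subgroup.mem_map_of_mem π ht₀⟩, 1, fun h => ht₀Z ?_⟩⟩
    have h1 : π t₀ = 1 := congrArg Subtype.val h
    exact (QuotientGroup.eq_one_iff t₀).mp h1
  have hcn := hTbar.center_nontrivial
  obtain ⟨c, hc⟩ := exists_ne (1 : Subgroup.center (T.map π))
  obtain ⟨z, hzT, hzc⟩ := Subgroup.mem_map.mp (c : T.map π).2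
  refine ⟨z, hzT, ?_, ?_⟩
  · intro hzZ
    apply hc
    apply Subtype.ext
    apply Subtype.ext
    show ((c : T.map π) : G ⧸ Z) = 1
    rw [← hzc]
    exact (QuotientGroup.eq_one_iff z).mpr hzZ
  · intro t ht
    have hcomm := Subgroup.mem_center_iff.mp c.2 ⟨π t, Subgroup.mem_map_of_mem π ht⟩
    have h2 : π t * π z = π z * π t := by
      have h3 := congrArg Subtype.val hcomm
      rw [hzc]
      exact h3
    refine ⟨z⁻¹ * (t⁻¹ * z * t), ?_, by group⟩
    apply (QuotientGroup.eq_one_iff _).mp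
    show π (z⁻¹ * (t⁻¹ * z * t)) = 1
    rw [map_mul, map_mul, map_mul, map_inv, map_inv, mul_assoc ((π t)⁻¹), ← h2,
      inv_mul_cancel_left, inv_mul_cancel]

omit [Finite G] in
theorem conj_mem_Cz {z t u : G} (h : ∃ c ∈ Subgroup.center G, t⁻¹ * z * t = z * c)
    (hu : u ∈ Cz z) : t * u * t⁻¹ ∈ Cz z := by
  obtain ⟨c, hc, hconj⟩ := h
  rw [mem_Cz] at hu ⊢
  have hcu := Subgroup.mem_center_iff.mp hc u
  have h1 : z * t = t * (z * c) := by rw [← hconj]; group
  calc z * (t * u * t⁻¹) = (z * t) * u * t⁻¹ := by group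
    _ = t * (z * c) * u * t⁻¹ := by rw [h1]
    _ = t * z * (c * u) * t⁻¹ := by group
    _ = t * z * (u * c) * t⁻¹ := by rw [hcu]
    _ = t * (z * u) * c * t⁻¹ := by group
    _ = t * (u * z) * c * t⁻¹ := by rw [hu]
    _ = t * u * (z * c) * t⁻¹ := by group
    _ = t * u * (t⁻¹ * z * t) * t⁻¹ := by rw [hconj]
    _ = t * u * t⁻¹ * z := by group

theorem key_dvd {μ n : ℕ} (hC : ∀ x : G, x ∉ Subgroup.center G → Nat.card (Cz x) = μ)
    (hcard : Nat.card G = n * μ) (hn : 0 < n)
    (hAb : ∀ r : ℕ, r.Prime → ∀ z : G, z ∉ Subgroup.center G → (∃ i, orderOf z = r ^ i) →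
      ∀ a ∈ Cz z, ∀ b ∈ Cz z, a * b = b * a)
    {x₀ : G} (hx₀ : x₀ ∉ Subgroup.center G)
    {r s : ℕ} (hr : r.Prime) (hs : s.Prime) :
    r ^ n.factorization r ∣
      s ^ μ.factorization s - s ^ (Nat.card (Subgroup.center G)).factorization s := by
  have : Fact r.Prime := ⟨hr⟩
  have : Fact s.Prime := ⟨hs⟩
  have hμ : 0 < μ := by rw [← hC x₀ hx₀]; exact Nat.card_pos
  obtain ⟨T⟩ : Nonempty (Sylow r G) := inferInstance
  have hTcard : Nat.card T = r ^ (n.factorization r + μ.factorization r) := by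
    rw [T.card_eq_multiplicity, hcard, Nat.factorization_mul hn.ne' hμ.ne']
    rfl
  by_cases hTZ : (T : Subgroup G) ≤ Subgroup.center G
  · have h1 : Nat.card T ∣ Nat.card (Subgroup.center G) := Subgroup.card_dvd_of_le hTZ
    have h2 : Nat.card (Subgroup.center G) ∣ μ := by
      rw [← hC x₀ hx₀]; exact Subgroup.card_dvd_of_le (center_le_Cz x₀)
    have h3 := dvd_trans h1 h2
    rw [hTcard] at h3
    have h4 := (hr.pow_dvd_iff_le_factorization hμ.ne').mp h3
    have h5 : n.factorization r = 0 := by omega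
    rw [h5, pow_zero]
    exact one_dvd _
  · obtain ⟨z, hzT, hzZ, hzconj⟩ := exists_second_center (T : Subgroup G) T.isPGroup' hTZ
    have hzr : ∃ i, orderOf z = r ^ i := by
      obtain ⟨k, hk⟩ := (IsPGroup.iff_orderOf.mp T.isPGroup') ⟨z, hzT⟩
      exact ⟨k, by rw [← hk, Subgroup.orderOf_mk]⟩
    have hab := hAb r hr z hzZ hzr
    have hZab : ∀ a ∈ Subgroup.center G, ∀ b ∈ Subgroup.center G, a * b = b * a := by
      intro a _ b hb
      exact Subgroup.mem_center_iff.mp hb a
    set U : Set G := sElts (Cz z) s \ sElts (Subgroup.center G) s with hU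
    have hsub : sElts (Subgroup.center G) s ⊆ sElts (Cz z) s := by
      rintro u ⟨hu1, hu2⟩
      exact ⟨center_le_Cz z hu1, hu2⟩
    have hUmem : ∀ u ∈ U, u ∈ Cz z ∧ u ∉ Subgroup.center G := by
      rintro u ⟨⟨hu1, hu2⟩, hu3⟩
      exact ⟨hu1, fun h => hu3 ⟨h, hu2⟩⟩
    have hUinv : ∀ t ∈ (T : Subgroup G), ∀ u ∈ U, t * u * t⁻¹ ∈ U := by
      rintro t ht u ⟨⟨hu1, k, hk⟩, hu3⟩
      refine ⟨⟨conj_mem_Cz (hzconj t ht) hu1, k, ?_⟩, ?_⟩
      · rw [conj_pow, hk]; group
      · rintro ⟨h1, _⟩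
        apply hu3
        refine ⟨?_, k, hk⟩
        have h2 := (inferInstance : (Subgroup.center G).Normal).conj_mem _ h1 t⁻¹
        have h3 : t⁻¹ * (t * u * t⁻¹) * t⁻¹⁻¹ = u := by group
        rwa [h3] at h2
    have hstab : ∀ u ∈ U, r ^ n.factorization r ∣ (Cz u).relIndex T := by
      intro u hu
      obtain ⟨hu1, hu2⟩ := hUmem u hu
      have e0 : Cz u = Cz z := Cz_eq_of_mem_abelian hC hzZ hab hu1 hu2
      have e1 : Nat.card (Cz u ⊓ T : Subgroup G) * (Cz u).relIndex T = Nat.card T := by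
        have := Subgroup.relIndex_mul_relIndex (H := ⊥) (K := Cz u ⊓ T) (L := T)
          bot_le inf_le_right
        rwa [Subgroup.relIndex_bot_left, Subgroup.relIndex_bot_left,
          Subgroup.inf_relIndex_right] at this
      have e2 : IsPGroup r (Cz u ⊓ T : Subgroup G) := IsPGroup.to_le T.isPGroup' inf_le_right
      obtain ⟨j, hj⟩ := IsPGroup.iff_card.mp e2
      have e3 : Nat.card (Cz u ⊓ T : Subgroup G) ∣ μ := by
        rw [← hC u hu2]
        exact Subgroup.card_dvd_of_le inf_le_left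
      rw [hj] at e3
      have e4 := (hr.pow_dvd_iff_le_factorization hμ.ne').mp e3
      rw [hj, hTcard] at e1
      have e5 : r ^ (n.factorization r + μ.factorization r)
          = r ^ j * (r ^ n.factorization r * r ^ (μ.factorization r - j)) := by
        rw [← pow_add, ← pow_add]
        congr 1
        omega
      rw [e5] at e1
      have e6 := Nat.eq_of_mul_eq_mul_left (pow_pos hr.pos j) e1
      rw [e6]
      exact dvd_mul_right _ _
    have hdvd := dvd_card_of_conj hUinv _ hstab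
    have hfin : (sElts (Cz z) s).Finite := Set.toFinite _
    have hnc := Set.ncard_sdiff_add_ncard_of_subset hsub hfin
    rw [ncard_sElts _ hab s, ncard_sElts _ hZab s, hC z hzZ] at hnc
    rw [Nat.card_coe_set_eq] at hdvd
    have : U.ncard = s ^ μ.factorization s
        - s ^ (Nat.card (Subgroup.center G)).factorization s := by
      have h7 : U.ncard + s ^ (Nat.card (Subgroup.center G)).factorization s
          = s ^ μ.factorization s := hnc
      omega
    rwa [this] at hdvd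

theorem arith {n μ ζ p q : ℕ} (hp : p.Prime) (hq : q.Prime) (hpq : p ≠ q) (hn : 0 < n)
    (hμ : 0 < μ) (hζ : ζ ∣ μ) (hle : μ ≤ n * ζ)
    (hltp : ζ.factorization p < μ.factorization p)
    (hltq : ζ.factorization q < μ.factorization q)
    (hK : ∀ r s : ℕ, r.Prime → s.Prime → r ≠ s →
      r ^ n.factorization r ∣ s ^ μ.factorization s - s ^ ζ.factorization s) : False := by
  obtain ⟨m, rfl⟩ := hζ
  have hζ0 : ζ ≠ 0 := by rintro rfl; simp at hμ
  have hm0 : m ≠ 0 := by rintro rfl; simp at hμ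
  have hmn : m ≤ n := by
    have : ζ * m ≤ ζ * n := by rw [mul_comm ζ n]; exact hle
    exact Nat.le_of_mul_le_mul_left this (Nat.pos_of_ne_zero hζ0)
  have hfac : ∀ s : ℕ, (ζ * m).factorization s = ζ.factorization s + m.factorization s := by
    intro s
    rw [Nat.factorization_mul hζ0 hm0]; rfl
  rw [hfac] at hltp hltq
  have hK' : ∀ r s : ℕ, r.Prime → s.Prime → r ≠ s →
      r ^ n.factorization r ∣ s ^ m.factorization s - 1 := by
    intro r s hr hs hrs
    have h1 := hK r s hr hs hrs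
    rw [hfac, pow_add] at h1
    have h2 : s ^ ζ.factorization s * s ^ m.factorization s - s ^ ζ.factorization s
        = s ^ ζ.factorization s * (s ^ m.factorization s - 1) := by
      rw [Nat.mul_sub, mul_one]
    rw [h2] at h1
    have hcop : (r ^ n.factorization r).Coprime (s ^ ζ.factorization s) :=
      Nat.Coprime.pow _ _ ((Nat.coprime_primes hr hs).mpr hrs)
    exact hcop.dvd_of_dvd_mul_left h1
  set cp := p ^ m.factorization p with hcp
  set cq := q ^ m.factorization q with hcq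
  have hcp2 : 2 ≤ cp := by
    have : p ^ 1 ≤ p ^ m.factorization p := Nat.pow_le_pow_right hp.pos (by omega)
    have := hp.two_le
    rw [pow_one] at *
    omega
  have hcq2 : 2 ≤ cq := by
    have : q ^ 1 ≤ q ^ m.factorization q := Nat.pow_le_pow_right hq.pos (by omega)
    have := hq.two_le
    rw [pow_one] at *
    omega
  have hcm : cp * cq ∣ m := by
    apply Nat.Coprime.mul_dvd_of_dvd_of_dvd
    · exact Nat.Coprime.pow _ _ ((Nat.coprime_primes hp hq).mpr hpq)
    · exact Nat.ordProj_dvd m p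
    · exact Nat.ordProj_dvd m q
  have h1 : ordProj[p] n ∣ cq - 1 := hK' p q hp hq hpq
  have h2 : ordCompl[p] n ∣ cp - 1 := by
    rw [Nat.dvd_iff_prime_pow_dvd_dvd]
    intro r k hr hrk
    by_cases hk : k = 0
    · rw [hk, pow_zero]; exact one_dvd _
    · have hrd : r ∣ ordCompl[p] n := dvd_trans (dvd_pow_self r hk) hrk
      have hrp : r ≠ p := by
        rintro rfl
        exact Nat.not_dvd_ordCompl hr hn.ne' hrd
      have hrn : r ^ k ∣ n := dvd_trans hrk (Nat.ordCompl_dvd n p)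
      have hkle := (hr.pow_dvd_iff_le_factorization hn.ne').mp hrn
      exact dvd_trans (pow_dvd_pow r hkle) (hK' r p hr hp hrp)
  have h3 : n ∣ (cq - 1) * (cp - 1) := by
    rw [← Nat.ordProj_mul_ordCompl_eq_self n p]
    exact mul_dvd_mul h1 h2
  have h4 : 0 < (cq - 1) * (cp - 1) := Nat.mul_pos (by omega) (by omega)
  have h5 : n ≤ (cq - 1) * (cp - 1) := Nat.le_of_dvd h4 h3
  have h6 : (cq - 1) * (cp - 1) < cq * cp := Nat.mul_lt_mul'' (by omega) (by omega)
  have h7 : cp * cq ≤ m := Nat.le_of_dvd (Nat.pos_of_ne_zero hm0) hcm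
  rw [mul_comm cp cq] at h7
  omega

theorem partII {μ : ℕ} (hC : ∀ x : G, x ∉ Subgroup.center G → Nat.card (Cz x) = μ)
    {p : ℕ} [hp : Fact p.Prime] (hpG : IsPGroup p (G ⧸ Subgroup.center G))
    (hnt : ∃ x : G, x ∉ Subgroup.center G) :
    ∃ A : Subgroup G, A.Normal ∧ (∀ a ∈ A, ∀ b ∈ A, a * b = b * a) ∧ ∀ y : G, y ^ p ∈ A := by
  set Z := Subgroup.center G with hZ
  let π := QuotientGroup.mk' Z
  have hπ : ∀ g : G, π g = 1 ↔ g ∈ Z := fun g => QuotientGroup.eq_one_iff g
  obtain ⟨x₁, hx₁⟩ := hnt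
  have hntQ : Nontrivial (G ⧸ Z) := ⟨⟨π x₁, 1, fun h => hx₁ ((hπ x₁).mp h)⟩⟩
  have hcn := hpG.center_nontrivial
  have hcp : IsPGroup p (Subgroup.center (G ⧸ Z)) := hpG.to_subgroup _
  obtain ⟨k, hk⟩ := IsPGroup.iff_card.mp hcp
  have hk0 : k ≠ 0 := by
    intro h0
    rw [h0, pow_zero] at hk
    have := Finite.one_lt_card (α := Subgroup.center (G ⧸ Z))
    omega
  have hdvd : p ∣ Nat.card (Subgroup.center (G ⧸ Z)) := by rw [hk]; exact dvd_pow_self p hk0
  obtain ⟨c, hc⟩ := exists_prime_orderOf_dvd_card' p hdvd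
  obtain ⟨z, hz⟩ := QuotientGroup.mk'_surjective Z (c : G ⧸ Z)
  have hcne : (c : G ⧸ Z) ≠ 1 := by
    intro h1
    have : c = 1 := Subtype.ext h1
    rw [this, orderOf_one] at hc
    exact hp.out.one_lt.ne hc
  have hzZ : z ∉ Z := by
    intro h1
    apply hcne
    rw [← hz]
    exact (hπ z).mpr h1
  have hcpow : (c : G ⧸ Z) ^ p = 1 := by
    have : c ^ p = 1 := by rw [← hc]; exact pow_orderOf_eq_one c
    have := congrArg Subtype.val this
    simpa using this
  have hzcomm : ∀ g : G, π g * π z = π z * π g := by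
    intro g
    have := Subgroup.mem_center_iff.mp c.2 (π g)
    rw [hz]
    exact this
  have hzconj : ∀ g : G, ∃ c' ∈ Z, g⁻¹ * z * g = z * c' := by
    intro g
    refine ⟨z⁻¹ * (g⁻¹ * z * g), ?_, by group⟩
    apply (hπ _).mp
    rw [map_mul, map_mul, map_mul, map_inv, map_inv, mul_assoc ((π g)⁻¹), ← hzcomm g,
      inv_mul_cancel_left, inv_mul_cancel]
  refine ⟨Cz z ⊓ Subgroup.centralizer (Cz z : Set G), ?_, ?_, ?_⟩
  · -- normal
    constructor
    intro a ha g
    obtain ⟨ha1, ha2⟩ := Subgroup.mem_inf.mp ha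
    refine Subgroup.mem_inf.mpr ⟨conj_mem_Cz (hzconj g) ha1, ?_⟩
    rw [Subgroup.mem_centralizer_iff]
    intro w hw
    have hw' : g⁻¹ * w * g⁻¹⁻¹ ∈ Cz z := conj_mem_Cz (hzconj g⁻¹) hw
    rw [Subgroup.mem_centralizer_iff] at ha2
    have h1 := ha2 _ hw'
    calc w * (g * a * g⁻¹) = g * ((g⁻¹ * w * g⁻¹⁻¹) * a) * g⁻¹ := by group
      _ = g * (a * (g⁻¹ * w * g⁻¹⁻¹)) * g⁻¹ := by rw [h1]
      _ = g * a * g⁻¹ * w := by group
  · intro a ha b hb
    obtain ⟨ha1, _⟩ := Subgroup.mem_inf.mp ha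
    obtain ⟨_, hb2⟩ := Subgroup.mem_inf.mp hb
    rw [Subgroup.mem_centralizer_iff] at hb2
    exact hb2 a ha1
  · intro y
    have hZle : Z ≤ Cz z ⊓ Subgroup.centralizer (Cz z : Set G) := by
      intro u hu
      refine Subgroup.mem_inf.mpr ⟨center_le_Cz z hu, ?_⟩
      rw [Subgroup.mem_centralizer_iff]
      intro w _
      exact (Subgroup.mem_center_iff.mp hu w)
    by_cases hyp : y ^ p ∈ Z
    · exact hZle hyp
    · have hyZ : y ∉ Z := fun h => hyp (Subgroup.pow_mem _ h p)
      have e1 : Cz y = Cz (y ^ p) := Cz_eq_of_le hC hyZ hyp (Cz_pow_le y p)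
      -- (y z)^p = y^p * c₁
      have hpow : π ((y ^ p)⁻¹ * (y * z) ^ p) = 1 := by
        rw [map_mul, map_inv, map_pow, map_pow, map_mul]
        have hcm : Commute (π y) (π z) := hzcomm y
        rw [hcm.mul_pow, hz, hcpow, mul_one, inv_mul_cancel]
      have hc₁ : (y ^ p)⁻¹ * (y * z) ^ p ∈ Z := (hπ _).mp hpow
      set c₁ := (y ^ p)⁻¹ * (y * z) ^ p with hc₁def
      have e2 : (y * z) ^ p = y ^ p * c₁ := by rw [hc₁def]; group
      have hyzp : (y * z) ^ p ∉ Z := by
        intro h1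
        apply hyp
        have : y ^ p = (y * z) ^ p * c₁⁻¹ := by rw [e2]; group
        rw [this]
        exact Subgroup.mul_mem _ h1 (Subgroup.inv_mem _ hc₁)
      have hyzZ : y * z ∉ Z := fun h => hyzp (Subgroup.pow_mem _ h p)
      have e3 : Cz (y * z) = Cz ((y * z) ^ p) := Cz_eq_of_le hC hyzZ hyzp (Cz_pow_le (y * z) p)
      have e4 : Cz (y * z) = Cz y := by
        rw [e3, e2, Cz_mul_central hc₁, ← e1]
      have hzy : y * z = z * y := by
        have h1 : y * z ∈ Cz y := by rw [← e4]; exact self_mem_Cz _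
        rw [mem_Cz] at h1
        calc y * z = y⁻¹ * (y * (y * z)) := by group
          _ = y⁻¹ * (y * z * y) := by rw [h1]
          _ = z * y := by group
      have hle : Cz y ≤ Cz z := by
        intro g hg
        have hg2 : g ∈ Cz (y * z) := by rw [e4]; exact hg
        rw [mem_Cz] at hg hg2 ⊢
        calc z * g = y⁻¹ * (y * z * g) := by group
          _ = y⁻¹ * (g * (y * z)) := by rw [hg2]
          _ = y⁻¹ * (g * y) * z := by group
          _ = y⁻¹ * (y * g) * z := by rw [hg]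
          _ = g * z := by group
      have e5 : Cz y = Cz z := Cz_eq_of_le hC hyZ hzZ hle
      apply Subgroup.pow_mem
      refine Subgroup.mem_inf.mpr ⟨mem_Cz.mpr hzy.symm, ?_⟩
      rw [Subgroup.mem_centralizer_iff]
      intro w hw
      have : w ∈ Cz y := by rw [e5]; exact hw
      exact (mem_Cz.mp this).symm


/-- two distinct primes cannot both have noncentral elements of that prime power order -/
theorem one_prime {μ n : ℕ} (hC : ∀ x : G, x ∉ Subgroup.center G → Nat.card (Cz x) = μ)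
    (hcard : Nat.card G = n * μ) (hn : 0 < n)
    {p q : ℕ} (hp : p.Prime) (hq : q.Prime) (hpq : p ≠ q)
    {x₀ y₀ : G} (hx₀ : x₀ ∉ Subgroup.center G) (hy₀ : y₀ ∉ Subgroup.center G)
    (hxp : ∃ i, orderOf x₀ = p ^ i) (hyq : ∃ j, orderOf y₀ = q ^ j) : False := by
  have hltp := fact_lt hC hp hx₀ hxp
  have hltq := fact_lt hC hq hy₀ hyq
  have hAb : ∀ r : ℕ, r.Prime → ∀ z : G, z ∉ Subgroup.center G → (∃ i, orderOf z = r ^ i) →
      ∀ a ∈ Cz z, ∀ b ∈ Cz z, a * b = b * a :=
    fun r hr z hz hzr => abelian_Cz hC hp hq hpq hltp hltq hr hz hzr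
  have hμ : 0 < μ := by rw [← hC x₀ hx₀]; exact Nat.card_pos
  have hle := mu_le hC hcard hn hx₀ (hAb p hp x₀ hx₀ hxp)
  have hζ : Nat.card (Subgroup.center G) ∣ μ := by
    rw [← hC x₀ hx₀]; exact Subgroup.card_dvd_of_le (center_le_Cz x₀)
  exact arith hp hq hpq hn hμ hζ hle hltp hltq
    (fun r s hr hs _ => key_dvd hC hcard hn hAb hx₀ hr hs)

/-- Let G be a finite group whose conjugacy classes have exactly two sizes, 1 and n > 1. Then n is a power of a prime p and G is the direct product of a p-group and an abelian group of order prime to p: its Sylow p-subgroup P is normal with an abelian normal complement centralizing it; moreover P has an abelian normal subgroup A with P/A of exponent dividing p. -/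
theorem result {G : Type*} [Group G] [Finite G] (n : ℕ) (hn : 1 < n)
    (h : ∀ x : G, (Subgroup.centralizer ({x} : Set G)).index = 1 ∨ (Subgroup.centralizer ({x} : Set G)).index = n) (hex : ∃ x : G, (Subgroup.centralizer ({x} : Set G)).index = n) :
    ∃ (p : ℕ) (_ : Fact p.Prime) (a : ℕ), n = p ^ a ∧ ∀ P : Sylow p G, (P : Subgroup G).Normal ∧
      (∃ N : Subgroup G, N.Normal ∧ N.IsComplement' (P : Subgroup G) ∧ IsMulCommutative N ∧
        ∀ x ∈ N, ∀ y ∈ (P : Subgroup G), x * y = y * x) ∧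
      ∃ A : Subgroup (P : Subgroup G), A.Normal ∧ IsMulCommutative A ∧ ∀ y : (P : Subgroup G), y ^ p ∈ A := by
  set Z := Subgroup.center G with hZ
  obtain ⟨x₁, hx₁⟩ := hex
  have hidx : ∀ x : G, x ∉ Z → (Cz x).index = n := by
    intro x hx
    rcases h x with h1 | h1
    · exact absurd (Cz_eq_top_iff.mp (Subgroup.index_eq_one.mp h1)) hx
    · exact h1
  have hx₁Z : x₁ ∉ Z := by
    intro hx
    have h1 : (Cz x₁).index = 1 := Subgroup.index_eq_one.mpr (Cz_eq_top_iff.mpr hx)
    have h2 : (Cz x₁).index = n := hx₁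
    omega
  set μ := Nat.card (Cz x₁) with hμdef
  have hcard : Nat.card G = n * μ := by
    have h1 := Subgroup.card_mul_index (Cz x₁)
    rw [hidx x₁ hx₁Z] at h1
    rw [← h1, mul_comm]
  have hn0 : 0 < n := by omega
  have hC : ∀ x : G, x ∉ Z → Nat.card (Cz x) = μ := by
    intro x hx
    have h1 := Subgroup.card_mul_index (Cz x)
    rw [hidx x hx, hcard, mul_comm n μ] at h1
    exact Nat.eq_of_mul_eq_mul_right hn0 h1
  -- a noncentral element of prime power order
  obtain ⟨p, hp, u₀, hu₀, hu₀Z⟩ : ∃ p : ℕ, p.Prime ∧ ∃ u : G, (∃ i, orderOf u = p ^ i) ∧ u ∉ Z := by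
    by_contra hcon
    push Not at hcon
    exact hx₁Z (central_of_primary_central x₁ (fun q hq _ u hu => hcon q hq u hu))
  have hone : ∀ q : ℕ, q.Prime → q ≠ p → ∀ u : G, (∃ i, orderOf u = q ^ i) → u ∈ Z := by
    intro q hq hqp u hu
    by_contra huZ
    exact one_prime hC hcard hn0 hp hq (Ne.symm hqp) hu₀Z huZ hu₀ hu
  have hp'central : ∀ g : G, (orderOf g).Coprime p → g ∈ Z := by
    intro g hg
    apply central_of_primary_central g
    intro q hq hqd u hu
    apply hone q hq ?_ u hu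
    rintro rfl
    have := Nat.Coprime.coprime_dvd_left hqd hg
    rw [Nat.coprime_self] at this
    exact hq.one_lt.ne' this
  have hfp : Fact p.Prime := ⟨hp⟩
  have hpG : IsPGroup p (G ⧸ Z) := by
    intro gbar
    obtain ⟨g, rfl⟩ := QuotientGroup.mk_surjective gbar
    obtain ⟨a, b, hdec, ⟨i, hi⟩, hcop, _⟩ := exists_pow_decomp g p hp
    refine ⟨i, ?_⟩
    rw [← QuotientGroup.mk_pow, QuotientGroup.eq_one_iff]
    have hb : g ^ b ∈ Z := hp'central _ hcop
    have e1 : g ^ p ^ i = (g ^ a) ^ p ^ i * (g ^ b) ^ p ^ i := by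
      conv_lhs => rw [hdec]
      exact (Commute.pow_pow_self g a b).mul_pow _
    rw [e1, ← hi, pow_orderOf_eq_one, one_mul]
    exact Subgroup.pow_mem _ hb _
  obtain ⟨k, hk⟩ := IsPGroup.iff_card.mp hpG
  have hZidx : Z.index = p ^ k := by rw [Subgroup.index_eq_card]; exact hk
  obtain ⟨a, ha⟩ : ∃ a, n = p ^ a := by
    have h1 : (Cz x₁).index ∣ Z.index := Subgroup.index_dvd_of_le (center_le_Cz x₁)
    rw [hidx x₁ hx₁Z, hZidx] at h1
    obtain ⟨a, _, ha⟩ := (Nat.dvd_prime_pow hp).mp h1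
    exact ⟨a, ha⟩
  obtain ⟨A, hAn, hAab, hApow⟩ := partII hC hpG ⟨x₁, hx₁Z⟩
  refine ⟨p, hfp, a, ha, ?_⟩
  intro P
  have hPZ : (P : Subgroup G) ⊔ Z = ⊤ := by
    rw [← Subgroup.index_eq_one]
    have h1 : ((P : Subgroup G) ⊔ Z).index ∣ (P : Subgroup G).index :=
      Subgroup.index_dvd_of_le le_sup_left
    have h2 : ((P : Subgroup G) ⊔ Z).index ∣ Z.index := Subgroup.index_dvd_of_le le_sup_right
    rw [hZidx] at h2
    obtain ⟨j, _, hj⟩ := (Nat.dvd_prime_pow hp).mp h2
    by_cases hj0 : j = 0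
    · rw [hj, hj0, pow_zero]
    · exfalso
      apply P.not_dvd_index
      refine dvd_trans ?_ h1
      rw [hj]
      exact dvd_pow_self p hj0
  have hPn : (P : Subgroup G).Normal := by
    rw [← Subgroup.normalizer_eq_top_iff, eq_top_iff, ← hPZ]
    apply sup_le Subgroup.le_normalizer
    rw [Subgroup.le_normalizer_iff]
    intro c hc u hu
    have : c * u * c⁻¹ = u := by
      rw [← Subgroup.mem_center_iff.mp hc u]; group
    rw [this]; exact hu
  refine ⟨hPn, ?_, ?_⟩
  · obtain ⟨N, hN⟩ := Subgroup.exists_left_complement'_of_coprime (N := (P : Subgroup G))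
      P.card_coprime_index
    have hNZ : N ≤ Z := by
      intro x hx
      apply hp'central
      have h1 : orderOf x ∣ Nat.card N := by
        have := orderOf_dvd_natCard (⟨x, hx⟩ : N)
        rwa [Subgroup.orderOf_mk] at this
      rw [← hN.index_eq_card] at h1
      have h2 : ¬ p ∣ (P : Subgroup G).index := P.not_dvd_index
      have h3 : ((P : Subgroup G).index).Coprime p :=
        ((Nat.Prime.coprime_iff_not_dvd hp).mpr h2).symm
      exact Nat.Coprime.coprime_dvd_left h1 h3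
    refine ⟨N, ?_, hN, ?_, ?_⟩
    · constructor
      intro x hx g
      have : g * x * g⁻¹ = x := by
        rw [Subgroup.mem_center_iff.mp (hNZ hx) g]; group
      rw [this]; exact hx
    · exact ⟨⟨fun x y => Subtype.ext (Subgroup.mem_center_iff.mp (hNZ x.2) y).symm⟩⟩
    · intro x hx y _
      exact (Subgroup.mem_center_iff.mp (hNZ hx) y).symm
  · refine ⟨A.subgroupOf (P : Subgroup G), inferInstance, ?_, ?_⟩
    · refine ⟨⟨fun x y => Subtype.ext (Subtype.ext ?_)⟩⟩
      exact hAab _ (Subgroup.mem_subgroupOf.mp x.2) _ (Subgroup.mem_subgroupOf.mp y.2)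
    · intro y
      rw [Subgroup.mem_subgroupOf]
      exact hApow (y : G)

end Cfsg.Agent.S4134
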