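import Cfsg.Statements.S0996
import Cfsg.Agent.Lib.Helper6.BR996G0
import Cfsg.Agent.Lib.Helper24.CharOrtho
import Cfsg.Agent.Lib.Helper10.BR996Asm

set_option autoImplicit false
open Cfsg

namespace Cfsg.Agent.S0996

/-- Let G be a finite perfect group containing an element z of prime order p whose centralizer is the cyclic group it generates, and suppose the number 1 + n * p of Sylow p-subgroups satisfies n < (p + 3) / 2. Then p > 3 and G is isomorphic to the projective special linear group of dimension 2 over the field with p elements, or p - 1 is a power of 2 and G is isomorphic to that group over the field with p - 1 elements. -/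
theorem result {G : Type*} [Group G] [Finite G] (hperf : commutator G = ⊤) (p : ℕ) [Fact p.Prime] (z : G) (hz : orderOf z = p) (hC : Subgroup.centralizer ({z} : Set G) = Subgroup.zpowers z) (hn : 2 * Nat.card (Sylow p G) < (p + 1) * (p + 2)) : (∃ (F : Type) (_ : Field F) (_ : Fintype F), Fintype.card F = p ∧ 3 < p ∧ Nonempty (G ≃* Matrix.ProjectiveSpecialLinearGroup (Fin 2) F)) ∨ (∃ (m : ℕ) (F : Type) (_ : Field F) (_ : Fintype F), Fintype.card F = 2 ^ m ∧ p = 2 ^ m + 1 ∧ 3 < p ∧ Nonempty (G ≃* Matrix.ProjectiveSpecialLinearGroup (Fin 2) F)) := by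
  classical
  haveI : Fintype G := Fintype.ofFinite G
  haveI : Fintype (IrrCharacter G) := Cfsg.Agent.Helper24.irrFintype
  obtain ⟨S, hS, hcard, hcent⟩ := Cfsg.Agent.Helper6.BR996.G0_exists_sylow p z hz hC
  have hcent' : Subgroup.centralizer ((S : Subgroup G) : Set G) ≤ (S : Subgroup G) := le_of_eq hcent
  have hcardS : Nat.card (Sylow p G) = (Subgroup.normalizer ((S : Subgroup G) : Set G)).index :=
    S.card_eq_index_normalizer
  obtain ⟨n, hidx⟩ := Cfsg.Agent.Helper10.BR996.exists_index_eq p (S : Subgroup G) hcard hcent'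
  have hw2 := Cfsg.Agent.Helper10.BR996.two_le_relIndex p (S : Subgroup G) hcard hcent' hperf
  have hwdvd := Cfsg.Agent.Helper10.BR996.relIndex_dvd p (S : Subgroup G) hcard hcent'
  have hp2 : 2 ≤ p := (Fact.out : p.Prime).two_le
  have hp3 : 3 ≤ p := by
    have := Nat.le_of_dvd (by omega) hwdvd
    omega
  have hodd : ¬ 2 ∣ p := by
    intro h
    have := (Nat.prime_dvd_prime_iff_eq Nat.prime_two (Fact.out : p.Prime)).mp h
    omega
  have hn' : 2 * n ≤ p + 1 := by
    rw [hcardS, hidx] at hn
    have h1 : 2 * n * p < (p + 3) * p := by nlinarith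
    have h2 : 2 * n < p + 3 := lt_of_mul_lt_mul_right h1 (Nat.zero_le p)
    omega
  exact Cfsg.Agent.Helper10.BR996.Asm.main p (S : Subgroup G) hperf hcard hcent' n hidx hn'

end Cfsg.Agent.S0996
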