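import Mathlib
import Cfsg.Statements.S0999
import Cfsg.Agent.S0996
import Cfsg.Agent.Lib.Helper17.BRRedCor

set_option autoImplicit false
set_option linter.style.haveILetI false
open Cfsg
open scoped commutatorElement

namespace Cfsg.Agent.S0999

/-- A simple group that is not cyclic is perfect. -/
theorem perfect_of_simple {G : Type*} [Group G] [IsSimpleGroup G] (hG : ¬ IsCyclic G) :
    commutator G = ⊤ := by
  rcases (inferInstance : (commutator G).Normal).eq_bot_or_eq_top with h | h
  · exfalso
    apply hG
    have hcomm : ∀ a b : G, a * b = b * a := by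
      intro a b
      have h1 : ⁅a, b⁆ ∈ commutator G := by
        rw [commutator_def]
        exact Subgroup.commutator_mem_commutator (Subgroup.mem_top a) (Subgroup.mem_top b)
      rw [h, Subgroup.mem_bot, commutatorElement_eq_one_iff_mul_comm] at h1
      exact h1
    let inst : CommGroup G := { (inferInstance : Group G) with mul_comm := hcomm }
    exact @IsSimpleGroup.isCyclic G inst _
  · exact h

/-- Let G be a non-cyclic finite simple group and p a prime divisor of its order with p^3 > |G|. Then p > 3 and G is isomorphic to the projective special linear group of dimension 2 over the field with p elements, or p - 1 is a power of 2 and G is isomorphic to that group over the field with p - 1 elements. -/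
theorem result {G : Type*} [Group G] [Finite G] [IsSimpleGroup G] (hG : ¬ IsCyclic G) (p : ℕ) (hp : p.Prime) (hdvd : p ∣ Nat.card G) (hbig : Nat.card G < p ^ 3) : (∃ (F : Type) (_ : Field F) (_ : Fintype F), Fintype.card F = p ∧ 3 < p ∧ Nonempty (G ≃* Matrix.ProjectiveSpecialLinearGroup (Fin 2) F)) ∨ (∃ (m : ℕ) (F : Type) (_ : Field F) (_ : Fintype F), Fintype.card F = 2 ^ m ∧ p = 2 ^ m + 1 ∧ 3 < p ∧ Nonempty (G ≃* Matrix.ProjectiveSpecialLinearGroup (Fin 2) F)) := by
  haveI : Fact p.Prime := ⟨hp⟩
  have hperf := perfect_of_simple hG
  -- normal subgroups of order prime to p are trivial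
  have hcore : ∀ N : Subgroup G, N.Normal → (Nat.card N).Coprime p → N = ⊥ := by
    intro N hN hc
    rcases hN.eq_bot_or_eq_top with h | h
    · exact h
    · exfalso
      rw [h, Subgroup.card_top] at hc
      exact (Nat.Prime.coprime_iff_not_dvd hp).mp hc.symm hdvd
  -- the Sylow subgroup is not normal
  obtain ⟨P⟩ : Nonempty (Sylow p G) := inferInstance
  have hPn : ¬ (P : Subgroup G).Normal := by
    intro hN
    rcases hN.eq_bot_or_eq_top with h | h
    · have h1 : p ∣ Nat.card (P : Subgroup G) := P.dvd_card_of_dvd_card hdvd
      rw [h, Subgroup.card_bot] at h1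
      exact hp.one_lt.ne' (Nat.dvd_one.mp h1)
    · -- G is a p-group, so its centre is not trivial; then G is abelian, not perfect
      have hpg : IsPGroup p G := by
        have := P.2
        rw [h] at this
        exact (IsPGroup.of_equiv this Subgroup.topEquiv)
      haveI : Nontrivial G := IsSimpleGroup.toNontrivial
      have hcen := hpg.center_nontrivial
      rcases (inferInstance : (Subgroup.center G).Normal).eq_bot_or_eq_top with h1 | h1
      · rw [h1] at hcen
        exact not_nontrivial _ hcen
      · apply hG
        have hcomm : ∀ a b : G, a * b = b * a := by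
          intro a b
          have : a ∈ Subgroup.center G := by rw [h1]; trivial
          exact (Subgroup.mem_center_iff.mp this b).symm
        let inst : CommGroup G := { (inferInstance : Group G) with mul_comm := hcomm }
        exact @IsSimpleGroup.isCyclic G inst _
  have hP : Nat.card P = p := Cfsg.Agent.Helper17.BRRed.card_sylow_eq_prime p hdvd hbig P hPn
  obtain ⟨z, hzo, hzC, hn⟩ := Cfsg.Agent.Helper17.BRRed.main hperf p P hP hbig hcore
  exact Cfsg.Agent.S0996.result hperf p z hzo hzC hn

end Cfsg.Agent.S0999
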