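import Cfsg.Statements.S4700
import Cfsg.Agent.Lib.Helper6.BR4700A
import Cfsg.Agent.Lib.Helper6.BR4700D
import Cfsg.Agent.Lib.Helper6.BR996G0
import Cfsg.Agent.Lib.Helper10.BR4700S
import Cfsg.Agent.Lib.Helper17.BRRed2
import Cfsg.Agent.Lib.Helper17.BRRedCor
import Cfsg.Agent.Lib.Helper24.CharOrtho

set_option autoImplicit false
set_option linter.style.haveILetI false
open Cfsg

namespace Cfsg.Agent.S4700

/-- Let G be a finite perfect group and p a prime such that a Sylow p-subgroup of G has order p, and write the number of Sylow p-subgroups as 1 + np. Let H = O_p'(G). Then either p > 3 and G/H is isomorphic to PSL(2, p); or p = 2^m + 1 > 3 and G/H is isomorphic to SL(2, 2^m); or n = (hup + u^2 + u + h)/(u + 1) for some positive integers h and u. -/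
theorem result {G : Type*} [Group G] [Finite G] (hperf : commutator G = ⊤) (p : ℕ) [Fact p.Prime] (P : Sylow p G) (hP : Nat.card P = p) (n : ℕ) (hn : Nat.card (Sylow p G) = 1 + n * p) : (∃ (F : Type) (_ : Field F) (_ : Fintype F), Fintype.card F = p ∧ 3 < p ∧ Nonempty (G ⧸ Cfsg.pPrimeCore p G ≃* Matrix.ProjectiveSpecialLinearGroup (Fin 2) F)) ∨ (∃ (m : ℕ) (F : Type) (_ : Field F) (_ : Fintype F), Fintype.card F = 2 ^ m ∧ p = 2 ^ m + 1 ∧ 3 < p ∧ Nonempty (G ⧸ Cfsg.pPrimeCore p G ≃* Matrix.SpecialLinearGroup (Fin 2) F)) ∨ (∃ h u : ℕ, 0 < h ∧ 0 < u ∧ n * (u + 1) = h * u * p + u ^ 2 + u + h) := by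
  classical
  have hp : p.Prime := Fact.out
  -- (c) or (NC)
  by_cases hc : Cfsg.Agent.Helper6.BR4700.CondC p n
  · right; right; exact hc
  have hnc := Cfsg.Agent.Helper6.BR4700.nc_of_not_condC hp.two_le hc
  -- reduction to `O_{p'}(G) = 1` (helper6, BR4700D)
  rcases Cfsg.Agent.Helper6.BR4700.reduction_R1 hperf p P hP n hn with
    hc' | ⟨hperf', ⟨Q, hQ⟩, hn', hcore⟩
  · exact absurd hc' hc
  -- reduction to `C(P) = P` (helper17, BRRed2)
  obtain ⟨z, hzo, hzC⟩ := Cfsg.Agent.Helper17.BRRed.main_nc hperf' p Q hQ hcore n hn' hnc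
  -- Theorem S (helper10, BR4700S: the S0996 assembly under (NC))
  haveI : Fintype (G ⧸ Cfsg.pPrimeCore p G) := Fintype.ofFinite _
  haveI : Fintype (IrrCharacter (G ⧸ Cfsg.pPrimeCore p G)) := Cfsg.Agent.Helper24.irrFintype
  obtain ⟨S, -, hcard, hcent⟩ := Cfsg.Agent.Helper6.BR996.G0_exists_sylow p z hzo hzC
  have hcent' : Subgroup.centralizer ((S : Subgroup (G ⧸ Cfsg.pPrimeCore p G)) : Set (G ⧸ Cfsg.pPrimeCore p G)) ≤
      (S : Subgroup (G ⧸ Cfsg.pPrimeCore p G)) := le_of_eq hcent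
  have hidx : (Subgroup.normalizer ((S : Subgroup (G ⧸ Cfsg.pPrimeCore p G)) : Set (G ⧸ Cfsg.pPrimeCore p G))).index =
      1 + n * p := by
    have h1 := S.card_eq_index_normalizer
    rw [hn'] at h1
    exact h1.symm
  rcases Cfsg.Agent.Helper10.BR996.Asm.main_nc p (S : Subgroup (G ⧸ Cfsg.pPrimeCore p G)) hperf' hcard
    hcent' n hidx hnc with
    ⟨F, iF, iFt, hF, hp3, he⟩ | ⟨m, F, iF, iFt, hF, hpm, hp3, ⟨e⟩⟩
  · left
    exact ⟨F, iF, iFt, hF, hp3, he⟩
  · right; left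
    obtain ⟨e'⟩ := Cfsg.Agent.Helper17.BRRed.nonempty_psl_equiv_sl F m hF
    exact ⟨m, F, iF, iFt, hF, hpm, hp3, ⟨e.trans e'⟩⟩

end Cfsg.Agent.S4700
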