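import Mathlib
import Cfsg.Statements.S0985
import Cfsg.Agent.Lib.Helper5.OrbitMod

set_option autoImplicit false
set_option linter.style.haveILetI false
set_option linter.unusedVariables false
open Cfsg

namespace Cfsg.Agent.S0985

open MulAction Cfsg.Agent.Helper5

/-- If the number of Sylow p-subgroups of a finite group is not congruent to 1 modulo p^k, then there are two distinct Sylow p-subgroups P and R such that the index of P ∩ R in P is at most p^(k-1). -/
theorem result {G : Type*} [Group G] [Finite G] (p k : ℕ) [Fact p.Prime] (h : ¬ Nat.card (Sylow p G) ≡ 1 [MOD p ^ k]) : ∃ P R : Sylow p G, P ≠ R ∧ ((R : Subgroup G).subgroupOf (P : Subgroup G)).index ≤ p ^ (k - 1) := by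
  have hp : p.Prime := Fact.out
  by_contra hcon
  push Not at hcon
  apply h
  let P : Sylow p G := default
  have hfix : ∀ R : Sylow p G, R ∈ fixedPoints (P : Subgroup G) (Sylow p G) ↔ R = P := by
    intro R
    rw [P.isPGroup'.sylow_mem_fixedPoints_iff]
    constructor
    · intro hle
      exact Sylow.ext (P.is_maximal' R.isPGroup' hle)
    · intro e; rw [e]
  have hstab : ∀ R : Sylow p G, stabilizer (P : Subgroup G) R = (R : Subgroup G).subgroupOf (P : Subgroup G) := by
    intro R
    ext x
    rw [mem_stabilizer_iff, Subgroup.mem_subgroupOf]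
    have h1 : x • R = (x : G) • R := rfl
    rw [h1, Sylow.smul_eq_iff_mem_normalizer]
    have h2 := P.isPGroup'.inf_normalizer_sylow R
    constructor
    · intro hx
      exact (h2.le ⟨x.2, hx⟩).2
    · intro hx
      exact Subgroup.le_normalizer hx
  have hmod := card_modEq_card_fixedPoints_of_dvd (H := (P : Subgroup G)) (α := Sylow p G) (p ^ k) (by
    intro R hR
    rw [hfix] at hR
    have h1 := hcon P R (Ne.symm hR)
    rw [← hstab, index_stabilizer, ← Nat.card_coe_set_eq] at h1
    obtain ⟨n, hn⟩ := P.isPGroup'.card_orbit R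
    rw [hn] at h1 ⊢
    have : k - 1 < n := (Nat.pow_lt_pow_iff_right hp.one_lt).mp h1
    exact pow_dvd_pow p (by omega))
  have hcard : Nat.card (fixedPoints (P : Subgroup G) (Sylow p G)) = 1 := by
    rw [Nat.card_eq_one_iff_unique]
    refine ⟨⟨?_⟩, ⟨⟨P, (hfix P).mpr rfl⟩⟩⟩
    rintro ⟨a, ha⟩ ⟨b, hb⟩
    apply Subtype.ext
    show a = b
    rw [(hfix a).mp ha, (hfix b).mp hb]
  rw [hcard] at hmod
  exact hmod

end Cfsg.Agent.S0985
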