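import Mathlib
import Cfsg.Statements.S0671
import Cfsg.Agent.Lib.Helper4.PermModule

set_option autoImplicit false
open Cfsg

namespace Cfsg.Agent.S0671

open Cfsg.Agent.Helper4.PermModule

/-- If the heart of the permutation module in characteristic `p` of a transitive action of degree `p ^ f` has no trivial composition factor, the action is doubly transitive. The hypothesis is phrased without composition series: no invariant subspaces `W < W'` between the constants and the sum-zero functions with trivial action on the quotient. -/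
theorem result {G : Type*} [Group G] [Finite G] {K : Type*} [Field K] {p f : ℕ} [Fact p.Prime] [CharP K p] {Ω : Type*} [Fintype Ω] [MulAction G Ω] [MulAction.IsPretransitive G Ω] (hf : 1 ≤ f) (hcard : Fintype.card Ω = p ^ f) (h : ∀ W W' : Subrepresentation (Cfsg.permRep K G Ω), (Cfsg.permConstants K G Ω).toSubmodule ≤ W.toSubmodule → W.toSubmodule < W'.toSubmodule → W'.toSubmodule ≤ (Cfsg.permSumZero K G Ω).toSubmodule → ∃ g : G, ∃ v ∈ W'.toSubmodule, Cfsg.permRep K G Ω g v - v ∉ W.toSubmodule) : MulAction.IsMultiplyPretransitive G Ω 2 := by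
  classical
  by_contra hnot
  rw [MulAction.is_two_pretransitive_iff] at hnot
  push Not at hnot
  obtain ⟨a0, b, c0, d0, hab0, hcd0, hno0⟩ := hnot
  -- normalise so that the first points agree
  obtain ⟨g0, hg0⟩ := MulAction.exists_smul_eq G c0 a0
  set d := g0 • d0 with hd
  have hda : d ≠ a0 := by
    intro e
    apply hcd0
    apply MulAction.injective g0
    show g0 • c0 = g0 • d0
    rw [hg0, ← hd, e]
  have hno : ∀ g : G, g • a0 = a0 → g • b ≠ d := by
    intro g hga hgb
    apply hno0 (g0⁻¹ * g)
    · rw [mul_smul, hga, inv_smul_eq_iff, hg0]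
    · rw [mul_smul, hgb, hd, inv_smul_smul]
  have hba : b ≠ a0 := fun e => hab0 e.symm
  -- the orbital of (a0, b)
  set Γ : Ω → Ω → Prop := fun x y => ∃ g : G, g • a0 = x ∧ g • b = y with hΓ
  have hΓinv : ∀ (k : G) (x y : Ω), Γ (k • x) (k • y) ↔ Γ x y := by
    intro k x y
    constructor
    · rintro ⟨g, hg1, hg2⟩
      refine ⟨k⁻¹ * g, ?_, ?_⟩
      · rw [mul_smul, hg1, inv_smul_smul]
      · rw [mul_smul, hg2, inv_smul_smul]
    · rintro ⟨g, hg1, hg2⟩
      refine ⟨k * g, ?_, ?_⟩
      · rw [mul_smul, hg1]
      · rw [mul_smul, hg2]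
  have hΓab : Γ a0 b := ⟨1, one_smul _ _, one_smul _ _⟩
  have hΓad : ¬ Γ a0 d := by
    rintro ⟨g, hg1, hg2⟩
    exact hno g hg1 hg2
  -- adjacency operator
  let A : (Ω → K) →ₗ[K] (Ω → K) :=
    { toFun := fun v x => ∑ y, if Γ x y then v y else 0
      map_add' := by
        intro v w
        funext x
        simp only [Pi.add_apply, ← Finset.sum_add_distrib]
        apply Finset.sum_congr rfl
        intro y _
        split_ifs <;> simp
      map_smul' := by
        intro k v
        funext x
        simp only [Pi.smul_apply, smul_eq_mul, RingHom.id_apply, Finset.mul_sum]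
        apply Finset.sum_congr rfl
        intro y _
        split_ifs <;> simp }
  have hAapp : ∀ v x, A v x = ∑ y, if Γ x y then v y else 0 := fun v x => rfl
  have hAcomm : ∀ (g : G) (v : Ω → K), A (Cfsg.permRep K G Ω g v) = Cfsg.permRep K G Ω g (A v) := by
    intro g v
    funext x
    rw [permRep_apply, hAapp, hAapp]
    refine Fintype.sum_equiv (MulAction.toPerm g⁻¹) _ _ ?_
    intro y
    rw [permRep_apply, MulAction.toPerm_apply]
    have : Γ x y ↔ Γ (g⁻¹ • x) (g⁻¹ • y) := (hΓinv g⁻¹ x y).symm
    by_cases hxy : Γ x y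
    · rw [if_pos hxy, if_pos (this.1 hxy)]
    · rw [if_neg hxy, if_neg (fun e => hxy (this.2 e))]
  -- the sum functional composed with A is invariant
  let sumL : (Ω → K) →ₗ[K] K :=
    { toFun := fun v => ∑ x, v x
      map_add' := by intro v w; simp [Finset.sum_add_distrib]
      map_smul' := by intro k v; simp [Finset.mul_sum] }
  have hsumL : ∀ v, sumL v = ∑ x, v x := fun v => rfl
  obtain ⟨lam, hlam⟩ := invariant_functional (G := G) (sumL.comp A) (by
    intro g v
    rw [LinearMap.comp_apply, LinearMap.comp_apply, hAcomm, hsumL, hsumL, sum_permRep])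
  set ψ : (Ω → K) →ₗ[K] (Ω → K) := A - lam • LinearMap.id with hψ
  have hψapp : ∀ v, ψ v = A v - lam • v := fun v => rfl
  have hψcomm : ∀ (g : G) (v : Ω → K), ψ (Cfsg.permRep K G Ω g v) = Cfsg.permRep K G Ω g (ψ v) := by
    intro g v
    rw [hψapp, hψapp, hAcomm, map_sub, map_smul]
  have hψsum : ∀ v, ψ v ∈ (Cfsg.permSumZero K G Ω).toSubmodule := by
    intro v
    rw [mem_sumZero, hψapp]
    have h1 := hlam v
    rw [LinearMap.comp_apply, hsumL] at h1
    simp only [Pi.sub_apply, Pi.smul_apply, smul_eq_mul, Finset.sum_sub_distrib, ← Finset.mul_sum]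
    rw [h1, sub_self]
  -- the two subrepresentations
  let W' : Subrepresentation (Cfsg.permRep K G Ω) :=
    { toSubmodule := LinearMap.range ψ
      apply_mem_toSubmodule := by
        rintro g _ ⟨m, rfl⟩
        exact ⟨Cfsg.permRep K G Ω g m, hψcomm g m⟩ }
  let W : Subrepresentation (Cfsg.permRep K G Ω) :=
    { toSubmodule := (Cfsg.permSumZero K G Ω).toSubmodule.map ψ
      apply_mem_toSubmodule := by
        rintro g _ ⟨m, hm, rfl⟩
        exact ⟨Cfsg.permRep K G Ω g m, (Cfsg.permSumZero K G Ω).apply_mem_toSubmodule g hm,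
          hψcomm g m⟩ }
  by_cases hWbot : W.toSubmodule = ⊥
  · -- ψ kills the sum-zero functions
    have hkill : ∀ v ∈ (Cfsg.permSumZero K G Ω).toSubmodule, ψ v = 0 := by
      intro v hv
      have : ψ v ∈ W.toSubmodule := ⟨v, hv, rfl⟩
      rw [hWbot, Submodule.mem_bot] at this
      exact this
    have hbd : b ≠ d := by
      intro e
      exact hno 1 (one_smul _ _) (by rw [one_smul, e])
    set v0 : Ω → K := Pi.single b 1 - Pi.single d 1 with hv0
    have hv0S : v0 ∈ (Cfsg.permSumZero K G Ω).toSubmodule := by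
      rw [mem_sumZero, hv0]
      simp [Finset.sum_sub_distrib]
    have h1 := congrFun (hkill v0 hv0S) a0
    rw [hψapp, Pi.sub_apply, Pi.smul_apply, hAapp] at h1
    have h2 : v0 a0 = 0 := by
      rw [hv0, Pi.sub_apply, Pi.single_eq_of_ne hba.symm, Pi.single_eq_of_ne hda.symm, sub_zero]
    have h3 : (∑ y, if Γ a0 y then v0 y else 0) = 1 := by
      have : ∀ y, (if Γ a0 y then v0 y else 0) = if y = b then (1 : K) else 0 := by
        intro y
        by_cases hyb : y = b
        · rw [hyb, if_pos hΓab, if_pos rfl, hv0, Pi.sub_apply, Pi.single_eq_same,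
            Pi.single_eq_of_ne hbd, sub_zero]
        · rw [if_neg hyb]
          by_cases hyd : y = d
          · rw [hyd, if_neg hΓad]
          · have : v0 y = 0 := by
              rw [hv0, Pi.sub_apply, Pi.single_eq_of_ne hyb, Pi.single_eq_of_ne hyd, sub_zero]
            rw [this, ite_self]
      simp only [this, Finset.sum_ite_eq', Finset.mem_univ, if_true]
    rw [h3, h2, smul_zero, sub_zero] at h1
    exact one_ne_zero h1
  · -- a trivial factor in the heart
    have hconst : (Cfsg.permConstants K G Ω).toSubmodule ≤ W.toSubmodule := by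
      show Submodule.span K {fun _ => 1} ≤ W.toSubmodule
      rw [Submodule.span_le, Set.singleton_subset_iff]
      exact one_mem_of_ne_bot hcard W hWbot
    have hWW' : W.toSubmodule ≤ W'.toSubmodule := by
      rintro _ ⟨m, _, rfl⟩
      exact ⟨m, rfl⟩
    have hW'S : W'.toSubmodule ≤ (Cfsg.permSumZero K G Ω).toSubmodule := by
      rintro _ ⟨m, rfl⟩
      exact hψsum m
    have hne : W.toSubmodule ≠ W'.toSubmodule := by
      intro heq
      -- kernel of ψ as a subrepresentation
      let Kψ : Subrepresentation (Cfsg.permRep K G Ω) :=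
        { toSubmodule := LinearMap.ker ψ
          apply_mem_toSubmodule := by
            intro g v hv
            rw [LinearMap.mem_ker] at hv ⊢
            rw [hψcomm, hv, map_zero] }
      have hsup : ∀ m : Ω → K, ∃ s ∈ (Cfsg.permSumZero K G Ω).toSubmodule, m - s ∈ LinearMap.ker ψ := by
        intro m
        have : ψ m ∈ W.toSubmodule := by rw [heq]; exact ⟨m, rfl⟩
        obtain ⟨s, hs, hsm⟩ := this
        refine ⟨s, hs, ?_⟩
        rw [LinearMap.mem_ker, map_sub, hsm, sub_self]
      have hSnetop : ∃ m : Ω → K, m ∉ (Cfsg.permSumZero K G Ω).toSubmodule := by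
        refine ⟨Pi.single a0 1, ?_⟩
        rw [mem_sumZero]
        simp
      by_cases hK : Kψ.toSubmodule = ⊤
      · apply hWbot
        rw [eq_bot_iff]
        rintro _ ⟨m, _, rfl⟩
        have : m ∈ LinearMap.ker ψ := by
          have : m ∈ Kψ.toSubmodule := by rw [hK]; trivial
          exact this
        rw [Submodule.mem_bot]
        exact this
      · have hKS := le_sumZero_of_ne_top hcard Kψ hK
        obtain ⟨m, hm⟩ := hSnetop
        obtain ⟨s, hs, hms⟩ := hsup m
        apply hm
        have h5 : m - s ∈ (Cfsg.permSumZero K G Ω).toSubmodule := hKS hms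
        have : m = (m - s) + s := by abel
        rw [this]
        exact Submodule.add_mem _ h5 hs
    obtain ⟨g, v, hv, hgv⟩ := h W W' hconst (lt_of_le_of_ne hWW' hne) hW'S
    apply hgv
    obtain ⟨m, rfl⟩ := hv
    refine ⟨Cfsg.permRep K G Ω g m - m, ?_, ?_⟩
    · show Cfsg.permRep K G Ω g m - m ∈ (Cfsg.permSumZero K G Ω).toSubmodule
      rw [mem_sumZero]
      simp only [Pi.sub_apply, Finset.sum_sub_distrib]
      rw [sum_permRep, sub_self]
    · rw [map_sub, hψcomm]

end Cfsg.Agent.S0671
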