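import Mathlib
import Cfsg.Statements.S0673
import Cfsg.Agent.Lib.Helper4.KerPow

set_option autoImplicit false
open Cfsg

namespace Cfsg.Agent.S0673

open Polynomial Module Cfsg.Agent.Helper4

variable {p : ℕ} [Fact p.Prime] {K : Type*} [Field K] [CharP K p]

/-- The shift operator. -/
noncomputable def T (p : ℕ) (K : Type*) [Field K] : (ZMod p → K) →ₗ[K] (ZMod p → K) :=
  LinearMap.funLeft K K (fun j => j - 1)

theorem T_apply (f : ZMod p → K) (j : ZMod p) : T p K f j = f (j - 1) := rfl

/-- The difference operator. -/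
noncomputable def D (p : ℕ) (K : Type*) [Field K] : Module.End K (ZMod p → K) :=
  LinearMap.id - T p K

theorem D_apply (f : ZMod p → K) (j : ZMod p) : D p K f j = f j - f (j - 1) := rfl

/-- Evaluation of polynomials at the points of the prime field. -/
noncomputable def ev (p : ℕ) (K : Type*) [Field K] : K[X] →ₗ[K] (ZMod p → K) :=
  LinearMap.pi (fun j => Polynomial.leval (ZMod.cast j : K))

theorem ev_apply (P : K[X]) (j : ZMod p) : ev p K P j = P.eval (ZMod.cast j : K) := rfl

/-- Polynomial functions of degree less than `r`. -/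
noncomputable def Vr (p : ℕ) (K : Type*) [Field K] (r : ℕ) : Submodule K (ZMod p → K) :=
  (degreeLT K r).map (ev p K)

theorem mem_Vr (r : ℕ) (f : ZMod p → K) :
    f ∈ Vr p K r ↔ ∃ P : K[X], P.degree < r ∧ ∀ j : ZMod p, f j = P.eval (ZMod.cast j : K) := by
  unfold Vr
  rw [Submodule.mem_map]
  constructor
  · rintro ⟨P, hP, rfl⟩
    exact ⟨P, mem_degreeLT.1 hP, fun j => rfl⟩
  · rintro ⟨P, hP, hf⟩
    exact ⟨P, mem_degreeLT.2 hP, funext fun j => (hf j).symm⟩

theorem cast_inj : Function.Injective (fun j : ZMod p => (ZMod.cast j : K)) := by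
  have := ZMod.castHom_injective (n := p) K
  intro a b hab
  apply this
  rw [ZMod.castHom_apply, ZMod.castHom_apply]
  exact hab

theorem finrank_Vr {r : ℕ} (hr : r ≤ p) : finrank K (Vr p K r) = r := by
  have hinj : Function.Injective ((ev p K).domRestrict (degreeLT K r)) := by
    rw [injective_iff_map_eq_zero]
    rintro ⟨P, hP⟩ hPz
    apply Subtype.ext
    show P = 0
    rw [LinearMap.domRestrict_apply] at hPz
    by_cases hP0 : P = 0
    · exact hP0
    apply eq_zero_of_natDegree_lt_card_of_eval_eq_zero P (cast_inj (p := p) (K := K))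
    · intro j
      have := congrFun hPz j
      exact this
    · rw [ZMod.card]
      have h1 : P.degree < r := mem_degreeLT.1 hP
      have h2 : P.natDegree < r := (natDegree_lt_iff_degree_lt hP0).2 h1
      omega
  have h1 := LinearMap.finrank_range_of_inj hinj
  rw [LinearMap.range_domRestrict] at h1
  unfold Vr
  rw [h1]
  rw [LinearEquiv.finrank_eq (degreeLTEquiv K r), Module.finrank_fin_fun]

theorem ev_taylor (P : K[X]) : ev p K (taylor (-1) P) = T p K (ev p K P) := by
  funext j
  rw [ev_apply, T_apply, ev_apply, taylor_eval, ZMod.cast_sub', ZMod.cast_one', sub_eq_add_neg]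

theorem D_Vr (r : ℕ) {f : ZMod p → K} (hf : f ∈ Vr p K (r + 1)) : D p K f ∈ Vr p K r := by
  unfold Vr at hf ⊢
  rw [Submodule.mem_map] at hf ⊢
  obtain ⟨P, hP, rfl⟩ := hf
  refine ⟨P - taylor (-1) P, ?_, ?_⟩
  · rw [mem_degreeLT] at hP ⊢
    by_cases hP0 : P = 0
    · rw [hP0, map_zero, sub_zero, degree_zero]
      exact WithBot.bot_lt_coe r
    · have h1 : (P - taylor (-1) P).degree < P.degree :=
        degree_sub_lt (degree_taylor P (-1)).symm hP0 (leadingCoeff_taylor (-1) P).symm
      have h2 : P.natDegree < r + 1 := (natDegree_lt_iff_degree_lt hP0).2 hP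
      have h3 : P.degree ≤ (r : WithBot ℕ) := by
        rw [degree_eq_natDegree hP0]
        exact_mod_cast Nat.lt_succ_iff.1 h2
      exact lt_of_lt_of_le h1 h3
  · rw [map_sub, ev_taylor]
    rfl

theorem Vr_zero : Vr p K 0 = ⊥ := by
  rw [eq_bot_iff]
  intro f hf
  rw [mem_Vr] at hf
  obtain ⟨P, hP, hf⟩ := hf
  have hP0 : P = 0 := by
    rw [← degree_eq_bot]
    exact Nat.WithBot.lt_zero_iff.1 hP
  rw [Submodule.mem_bot]
  funext j
  rw [hf j, hP0, eval_zero]
  rfl

theorem Vr_le_ker (r : ℕ) : Vr p K r ≤ LinearMap.ker (D p K ^ r) := by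
  induction r with
  | zero => rw [Vr_zero]; exact bot_le
  | succ r ih =>
    intro f hf
    rw [LinearMap.mem_ker, pow_succ]
    exact ih (D_Vr r hf)

theorem finrank_ker_D : finrank K (LinearMap.ker (D p K)) ≤ 1 := by
  have hle : LinearMap.ker (D p K) ≤ Submodule.span K {(fun _ => 1 : ZMod p → K)} := by
    intro f hf
    rw [LinearMap.mem_ker] at hf
    have h1 : ∀ j : ZMod p, f j = f (j - 1) := by
      intro j
      have := congrFun hf j
      rw [D_apply] at this
      exact sub_eq_zero.1 this
    have h2 : ∀ n : ℕ, f (n : ZMod p) = f 0 := by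
      intro n
      induction n with
      | zero => simp
      | succ n ih =>
        rw [h1, Nat.cast_succ, add_sub_cancel_right, ih]
    have h3 : ∀ j : ZMod p, f j = f 0 := by
      intro j
      have := h2 j.val
      rwa [ZMod.natCast_zmod_val] at this
    rw [Submodule.mem_span_singleton]
    refine ⟨f 0, ?_⟩
    funext j
    rw [Pi.smul_apply, smul_eq_mul, mul_one, h3 j]
  have hne : (fun _ => 1 : ZMod p → K) ≠ 0 := by
    intro h
    have := congrFun h 0
    exact one_ne_zero this
  calc finrank K (LinearMap.ker (D p K)) ≤ finrank K (Submodule.span K {(fun _ => 1 : ZMod p → K)}) :=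
        Submodule.finrank_mono hle
    _ = 1 := finrank_span_singleton hne

theorem ker_pow_eq {r : ℕ} (hr : r ≤ p) : LinearMap.ker (D p K ^ r) = Vr p K r := by
  symm
  apply Submodule.eq_of_le_of_finrank_le (Vr_le_ker r)
  rw [finrank_Vr hr]
  have h1 := finrank_ker_pow_le (D p K) r
  have h2 := finrank_ker_D (p := p) (K := K)
  calc finrank K (LinearMap.ker (D p K ^ r)) ≤ r * finrank K (LinearMap.ker (D p K)) := h1
    _ ≤ r * 1 := Nat.mul_le_mul_left r h2
    _ = r := mul_one r

theorem finrank_fun : finrank K (ZMod p → K) = p := by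
  rw [Module.finrank_fintype_fun_eq_card, ZMod.card]

theorem D_pow_p : D p K ^ p = 0 := by
  rw [← LinearMap.ker_eq_top, ker_pow_eq le_rfl]
  apply Submodule.eq_top_of_finrank_eq
  rw [finrank_Vr le_rfl, finrank_fun]

/-- In characteristic `p`, the translation-invariant subspaces of the space of functions on `ZMod p` are exactly the spaces of polynomial functions of degree less than `r`, one for each `r ≤ p`, of dimension `r`. -/
theorem result {p : ℕ} [Fact p.Prime] {K : Type*} [Field K] [CharP K p] (W : Submodule K (ZMod p → K)) (hW : ∀ f ∈ W, (fun j => f (j - 1)) ∈ W) : ∃ r : ℕ, r ≤ p ∧ Module.finrank K W = r ∧ ∀ f : ZMod p → K, f ∈ W ↔ ∃ P : Polynomial K, P.degree < r ∧ ∀ j : ZMod p, f j = P.eval (ZMod.cast j : K) := by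
  have hDW : ∀ f ∈ W, D p K f ∈ W := by
    intro f hf
    have : D p K f = f - (fun j => f (j - 1)) := rfl
    rw [this]
    exact W.sub_mem hf (hW f hf)
  have hrp : finrank K W ≤ p := by
    have := Submodule.finrank_le W
    rwa [finrank_fun] at this
  refine ⟨finrank K W, hrp, rfl, ?_⟩
  have h1 : W ≤ Vr p K (finrank K W) := by
    rw [← ker_pow_eq hrp]
    exact le_ker_pow_finrank_of_nilpotent (D p K) D_pow_p W hDW
  have h2 : W = Vr p K (finrank K W) := by
    apply Submodule.eq_of_le_of_finrank_le h1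
    rw [finrank_Vr hrp]
  intro f
  rw [← mem_Vr, ← h2]

end Cfsg.Agent.S0673
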