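import Mathlib
import Cfsg.Statements.S0674
import Cfsg.Agent.Lib.Helper4.BurnsideTransport

set_option autoImplicit false
open Cfsg

namespace Cfsg.Agent.S0674

open Module Cfsg.Agent.Helper4.Burnside

theorem finrank_constants {G : Type*} [Group G] {K : Type*} [Field K] {Ω : Type*} [MulAction G Ω]
    [Nonempty Ω] : finrank K (Cfsg.permConstants K G Ω).toSubmodule = 1 := by
  have hne : (fun _ => 1 : Ω → K) ≠ 0 := by
    intro h
    obtain ⟨x⟩ := ‹Nonempty Ω›
    exact one_ne_zero (congrFun h x)
  exact finrank_span_singleton hne

/-- Let `G` be a non-solvable transitive permutation group of prime degree `p` and `K` a field of characteristic `p`. Then the heart of the permutation module is irreducible: an invariant subspace containing the constants and contained in the sum-zero functions is one or the other. -/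
theorem result {α : Type*} [Fintype α] [DecidableEq α] {p : ℕ} [Fact p.Prime] (hα : Fintype.card α = p) (G : Subgroup (Equiv.Perm α)) [MulAction.IsPretransitive G α] (hG : ¬ Group.IsSolvable G) {K : Type*} [Field K] [CharP K p] (W : Subrepresentation (Cfsg.permRep K G α)) (h₁ : (Cfsg.permConstants K G α).toSubmodule ≤ W.toSubmodule) (h₂ : W.toSubmodule ≤ (Cfsg.permSumZero K G α).toSubmodule) : W = Cfsg.permConstants K G α ∨ W = Cfsg.permSumZero K G α := by
  by_contra hcon
  push Not at hcon
  obtain ⟨hC, hS⟩ := hcon
  apply hG
  have hp : p.Prime := Fact.out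
  have hne : Nonempty α := by
    rw [← Fintype.card_pos_iff, hα]
    exact hp.pos
  have hC' : (Cfsg.permConstants K G α).toSubmodule < W.toSubmodule := by
    apply lt_of_le_of_ne h₁
    intro h
    exact hC (Subrepresentation.toSubmodule_injective h.symm)
  have hS' : W.toSubmodule < (Cfsg.permSumZero K G α).toSubmodule := by
    apply lt_of_le_of_ne h₂
    intro h
    exact hS (Subrepresentation.toSubmodule_injective h)
  have h1 := Submodule.finrank_lt_finrank_of_lt hC'
  rw [finrank_constants] at h1
  have h2 := Submodule.finrank_lt_finrank_of_lt hS'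
  have hStop : (Cfsg.permSumZero K G α).toSubmodule ≠ ⊤ := by
    intro h
    obtain ⟨x⟩ := hne
    have : (Pi.single x 1 : α → K) ∈ (Cfsg.permSumZero K G α).toSubmodule := by rw [h]; trivial
    have h' : ∑ y, (Pi.single x 1 : α → K) y = 0 := this
    simp at h'
  have h3 := Submodule.finrank_lt hStop
  rw [Module.finrank_fintype_fun_eq_card, hα] at h3
  exact solvable_of_invariant hα G W (by omega) (by omega)

end Cfsg.Agent.S0674
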