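import Mathlib
import Cfsg.Statements.S0675
import Cfsg.Agent.S0671
import Cfsg.Agent.S0674
import Cfsg.Agent.Lib.Helper4.SmallPermSolvable

set_option autoImplicit false
open Cfsg

namespace Cfsg.Agent.S0675

open Cfsg.Agent.Helper4 Cfsg.Agent.Helper4.PermModule

/-- Burnside's Theorem on permutation groups of prime degree: a transitive permutation group of prime degree that is not solvable is doubly transitive. -/
theorem result {α : Type*} [Fintype α] [DecidableEq α] (hα : (Fintype.card α).Prime) (G : Subgroup (Equiv.Perm α)) [MulAction.IsPretransitive G α] : Group.IsSolvable G ∨ MulAction.IsMultiplyPretransitive G α 2 := by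
  by_cases hsol : Group.IsSolvable G
  · exact Or.inl hsol
  right
  set p := Fintype.card α with hp
  have hpf : Fact p.Prime := ⟨hα⟩
  have hp2 : p ≠ 2 := by
    intro h2
    apply hsol
    have := perm_isSolvable_of_card_two (α := α) (hp.symm.trans h2)
    infer_instance
  have hp3 : p ≠ 3 := by
    intro h3
    apply hsol
    have := perm_isSolvable_of_card_three (α := α) (hp.symm.trans h3)
    infer_instance
  have hp5 : 5 ≤ p := by
    have h2 := hα.two_le
    by_contra hlt
    have h4 : p = 4 := by omega
    rw [h4] at hα
    exact absurd hα (by norm_num)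
  apply Cfsg.Agent.S0671.result (K := ZMod p) (p := p) (f := 1) le_rfl (by rw [pow_one])
  intro W W' hCW hlt hW'S
  have hW := Cfsg.Agent.S0674.result (K := ZMod p) rfl G hsol W hCW (hlt.le.trans hW'S)
  have hW' := Cfsg.Agent.S0674.result (K := ZMod p) rfl G hsol W' (hCW.trans hlt.le) hW'S
  have hWC : W = Cfsg.permConstants (ZMod p) G α := by
    rcases hW with h | h
    · exact h
    · exfalso
      rw [h] at hlt
      exact absurd (lt_of_lt_of_le hlt hW'S) (lt_irrefl _)
  have hW'S' : W' = Cfsg.permSumZero (ZMod p) G α := by
    rcases hW' with h | h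
    · exfalso
      rw [h, hWC] at hlt
      exact absurd hlt (lt_irrefl _)
    · exact h
  -- a non-trivial action on the heart
  have hcard3 : 2 < Fintype.card α := by omega
  obtain ⟨a, b, c, hab, hac, hbc⟩ := Fintype.two_lt_card_iff.1 hcard3
  obtain ⟨g, hg⟩ := MulAction.exists_smul_eq G a b
  set v : α → ZMod p := Pi.single a 1 - Pi.single b 1 with hv
  refine ⟨g, v, ?_, ?_⟩
  · rw [hW'S']
    show ∑ x, v x = 0
    rw [hv]
    simp [Finset.sum_sub_distrib]
  · rw [hWC]
    intro hmem
    change _ ∈ Submodule.span (ZMod p) {fun _ => 1} at hmem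
    rw [Submodule.mem_span_singleton] at hmem
    obtain ⟨k, hk⟩ := hmem
    -- the function g v - v takes value k everywhere
    have hval : ∀ x : α, (Cfsg.permRep (ZMod p) G α g v - v) x = k := by
      intro x
      rw [← hk]
      simp
    have hgv : Cfsg.permRep (ZMod p) G α g v = Pi.single b 1 - Pi.single (g • b) 1 := by
      rw [hv, map_sub, permRep_single, permRep_single, hg]
    -- there are at least 5 points, so some point avoids a, b, g • b
    have hex : ∃ x : α, x ≠ a ∧ x ≠ b ∧ x ≠ g • b := by
      by_contra hno
      push Not at hno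
      have hsub : (Finset.univ : Finset α) ⊆ {a, b, g • b} := by
        intro x _
        simp only [Finset.mem_insert, Finset.mem_singleton]
        by_cases h1 : x = a
        · exact Or.inl h1
        · by_cases h2 : x = b
          · exact Or.inr (Or.inl h2)
          · exact Or.inr (Or.inr (hno x h1 h2))
      have := Finset.card_le_card hsub
      have h3 : ({a, b, g • b} : Finset α).card ≤ 3 := Finset.card_le_three
      rw [Finset.card_univ] at this
      omega
    obtain ⟨x, hxa, hxb, hxgb⟩ := hex
    have hk0 : k = 0 := by
      rw [← hval x, hgv, hv]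
      simp [Pi.single_eq_of_ne hxa, Pi.single_eq_of_ne hxb, Pi.single_eq_of_ne hxgb]
    -- evaluate at a
    have hgba : g • b ≠ b := by
      intro h
      have : g • b = g • a := by rw [h, hg]
      exact hab (MulAction.injective g this).symm
    have h1 := hval a
    rw [hk0, hgv, hv] at h1
    simp only [Pi.sub_apply, Pi.single_eq_same, Pi.single_eq_of_ne hab] at h1
    by_cases hgb : a = g • b
    · rw [← hgb, Pi.single_eq_same] at h1
      -- 0 - 1 - (1 - 0) = 0 means 2 = 0
      have h2 : (2 : ZMod p) = 0 := by
        have : (0 : ZMod p) - 1 - (1 - 0) = -2 := by ring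
        rw [this] at h1
        exact neg_eq_zero.1 h1
      have : p ∣ 2 := (ZMod.natCast_eq_zero_iff 2 p).1 (by exact_mod_cast h2)
      have := Nat.le_of_dvd (by norm_num) this
      omega
    · rw [Pi.single_eq_of_ne hgb] at h1
      have : (0 : ZMod p) - 0 - (1 - 0) = -1 := by ring
      rw [this] at h1
      exact one_ne_zero (neg_eq_zero.1 h1)

end Cfsg.Agent.S0675
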