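import Mathlib
import Cfsg.Statements.S0656
import Cfsg.Agent.Lib.Helper4.QuadSection

set_option autoImplicit false
open Cfsg

namespace Cfsg.Agent.S0656

open scoped commutatorElement

/-- the conjugation action of `H ≤ N_G(V)` on `V` -/
def conjAct {G : Type*} [Group G] (V H : Subgroup G)
    (hHV : H ≤ Subgroup.normalizer (V : Set G)) : ↥H →* MulAut ↥V where
  toFun h :=
    { toFun := fun v => ⟨h * v * (h : G)⁻¹, (Subgroup.mem_normalizer_iff.1 (hHV h.2) v).1 v.2⟩
      invFun := fun v => ⟨(h : G)⁻¹ * v * h, by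
        have := (Subgroup.mem_normalizer_iff.1 (hHV (H.inv_mem h.2)) v).1 v.2
        simpa using this⟩
      left_inv := fun v => by apply Subtype.ext; simp only; group
      right_inv := fun v => by apply Subtype.ext; simp only; group
      map_mul' := fun v w => by apply Subtype.ext; simp only [Subgroup.coe_mul]; group }
  map_one' := by
    ext v
    simp
  map_mul' h k := by
    ext v
    simp only [Subgroup.coe_mul, MulEquiv.coe_mk, Equiv.coe_fn_mk, MulAut.mul_apply]
    group

theorem conjAct_apply {G : Type*} [Group G] (V H : Subgroup G)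
    (hHV : H ≤ Subgroup.normalizer (V : Set G)) (h : ↥H) (v : ↥V) :
    ((conjAct V H hHV h v : ↥V) : G) = h * v * (h : G)⁻¹ := rfl

/-- For odd p, a faithful group on an elementary abelian p-group with no nontrivial normal p-subgroup in which some nontrivial p-element acts quadratically has a section isomorphic to SL(2, p). -/
theorem result {G : Type*} [Group G] [Finite G] {p : ℕ} [Fact p.Prime] (hp : p ≠ 2) (V H : Subgroup G) (hV : Cfsg.IsElementaryAbelian p V) (hHV : H ≤ Subgroup.normalizer (V : Set G)) (hf : H ⊓ Subgroup.centralizer (V : Set G) = ⊥) (hO : Cfsg.pCore p ↥H = ⊥) (x : G) (hxH : x ∈ H) (hx1 : x ≠ 1) (hxp : ∃ k : ℕ, orderOf x = p ^ k) (hq : ⁅⁅V, Subgroup.zpowers x⁆, Subgroup.zpowers x⁆ = ⊥) : ∃ (K L : Subgroup G) (hL : (L.subgroupOf K).Normal), K ≤ H ∧ Nonempty ((K ⧸ L.subgroupOf K) ≃* Matrix.SpecialLinearGroup (Fin 2) (ZMod p)) := by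
  obtain ⟨hVc, hVp⟩ := hV
  let _ : CommGroup ↥V :=
    { (inferInstance : Group ↥V) with mul_comm := fun a b => mul_comm' a b }
  set act := conjAct V H hHV with hact_def
  have hact : Function.Injective act := by
    rw [injective_iff_map_eq_one]
    intro h hh
    have hmem : (h : G) ∈ H ⊓ Subgroup.centralizer (V : Set G) := by
      refine Subgroup.mem_inf.2 ⟨h.2, ?_⟩
      rw [Subgroup.mem_centralizer_iff]
      intro v hv
      have h1 : act h ⟨v, hv⟩ = ⟨v, hv⟩ := by rw [hh]; rfl
      have h2 := congrArg Subtype.val h1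
      rw [conjAct_apply] at h2
      simp only at h2
      calc v * (h : G) = ((h : G) * v * (h : G)⁻¹) * h := by rw [h2]
        _ = h * v := by group
    rw [hf, Subgroup.mem_bot] at hmem
    exact Subtype.ext hmem
  have hW : ∀ w : ↥V, w ^ p = 1 := by
    intro w
    apply Subtype.ext
    rw [Subgroup.coe_pow]
    exact hVp w w.2
  have hO' : ∀ N : Subgroup ↥H, N.Normal → IsPGroup p N → N = ⊥ := by
    intro N hN hNp
    rw [eq_bot_iff, ← hO]
    exact le_sSup ⟨hN, hNp⟩
  have hquad : ∀ w : ↥V, act ⟨x, hxH⟩ (act ⟨x, hxH⟩ w / w) = act ⟨x, hxH⟩ w / w := by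
    intro w
    set c : ↥V := act ⟨x, hxH⟩ w / w with hc
    have hcG : (c : G) = x * w * x⁻¹ * (w : G)⁻¹ := by
      rw [hc, div_eq_mul_inv, Subgroup.coe_mul, Subgroup.coe_inv, conjAct_apply]
    have hcmem : (c : G) ∈ ⁅V, Subgroup.zpowers x⁆ := by
      have h1 : ⁅(w : G), x⁆ ∈ ⁅V, Subgroup.zpowers x⁆ :=
        Subgroup.commutator_mem_commutator w.2 (Subgroup.mem_zpowers x)
      have h2 : (c : G) = ⁅(w : G), x⁆⁻¹ := by
        rw [hcG, commutatorElement_def]; group
      rw [h2]
      exact Subgroup.inv_mem _ h1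
    have h1 : ⁅(c : G), x⁆ ∈ ⁅⁅V, Subgroup.zpowers x⁆, Subgroup.zpowers x⁆ :=
      Subgroup.commutator_mem_commutator hcmem (Subgroup.mem_zpowers x)
    rw [hq, Subgroup.mem_bot, commutatorElement_def] at h1
    apply Subtype.ext
    rw [conjAct_apply]
    show x * (c : G) * x⁻¹ = c
    calc x * (c : G) * x⁻¹ = ((c : G) * x * (c : G)⁻¹ * x⁻¹)⁻¹ * (c : G) := by group
      _ = c := by rw [h1, inv_one, one_mul]
  have hx1' : (⟨x, hxH⟩ : ↥H) ≠ 1 := by
    intro h
    exact hx1 (congrArg Subtype.val h)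
  obtain ⟨K₁, f₁, hf₁⟩ := Cfsg.Agent.Helper4.QSec.quadratic_section hp act hact hW hO'
    ⟨x, hxH⟩ hx1' hquad
  -- transport to `G`
  set K : Subgroup G := K₁.map H.subtype with hK
  let eK : ↥K₁ ≃* ↥K := K₁.equivMapOfInjective H.subtype H.subtype_injective
  let f : ↥K →* Matrix.SpecialLinearGroup (Fin 2) (ZMod p) := f₁.comp eK.symm.toMonoidHom
  have hfs : Function.Surjective f := hf₁.comp eK.symm.surjective
  set L : Subgroup G := f.ker.map K.subtype with hL
  have hLK : L.subgroupOf K = f.ker := by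
    rw [hL, Subgroup.subgroupOf, Subgroup.comap_map_eq_self_of_injective K.subtype_injective]
  have hLn : (L.subgroupOf K).Normal := by rw [hLK]; infer_instance
  refine ⟨K, L, hLn, ?_, ?_⟩
  · rw [hK]
    rintro _ ⟨k, -, rfl⟩
    exact k.2
  · exact ⟨(QuotientGroup.quotientMulEquivOfEq hLK).trans
      (QuotientGroup.quotientKerEquivOfSurjective f hfs)⟩

end Cfsg.Agent.S0656
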