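import Mathlib
import Cfsg.Statements.S0335

set_option autoImplicit false
open Cfsg

namespace Cfsg.Agent.S0335

section Alg

variable {F : Type*} [Field F] (s : F →+* F)

/-- the function defining the affine part of the ovoid -/
def ff (x y : F) : F := x * y + x ^ 2 * s x + s y

theorem s_eq_zero {t : F} (h : s t = 0) : t = 0 := (map_eq_zero s).1 h

theorem aniso (hs : ∀ t, s (s t) = t ^ 2) (h2 : (2 : F) = 0) (x y : F) (h : ff s x y = 0) :
    x = 0 ∧ y = 0 := by
  unfold ff at h
  by_cases hx : x = 0
  · subst hx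
    refine ⟨rfl, ?_⟩
    apply s_eq_zero s
    simpa using h
  · exfalso
    have hsx : s x ≠ 0 := fun h0 => hx (s_eq_zero s h0)
    set t : F := y / (x * s x) with ht
    have hy : y = t * (x * s x) := by
      rw [ht]; field_simp
    have hsy : s y = s t * (s x * x ^ 2) := by
      rw [hy, map_mul, map_mul, hs]
    -- t + 1 + s t = 0
    have h1 : t + 1 + s t = 0 := by
      have : x ^ 2 * s x * (t + 1 + s t) = 0 := by
        rw [← h, hsy, hy]; ring
      rcases mul_eq_zero.1 this with h0 | h0
      · exact absurd h0 (mul_ne_zero (pow_ne_zero 2 hx) hsx)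
      · exact h0
    have h3 : s t + 1 + t ^ 2 = 0 := by
      have := congrArg s h1
      rw [map_add, map_add, map_one, hs, map_zero] at this
      exact this
    have h4 : t * (t + 1) = 0 := by
      linear_combination h1 + h3 - (s t + 1) * h2
    rcases mul_eq_zero.1 h4 with h0 | h0
    · rw [h0, map_zero] at h1
      simp at h1
    · have ht1 : t = 1 := by linear_combination h0 - h2
      rw [ht1, map_one] at h1
      have : (1 : F) = 0 := by linear_combination h1 - h2
      exact one_ne_zero this

theorem inv_identity (hs : ∀ t, s (s t) = t ^ 2) (h2 : (2 : F) = 0) (x y : F) :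
    x * y * s (ff s x y) + y ^ 2 * s y + s x * (ff s x y) ^ 2 = ff s x y * s (ff s x y) := by
  have hsz : s (ff s x y) = s x * s y + x ^ 2 * (s x) ^ 2 + y ^ 2 := by
    unfold ff
    rw [map_add, map_add, map_mul, map_mul, map_pow, hs, hs]
    ring
  rw [hsz]
  unfold ff
  linear_combination (x ^ 3 * y * (s x) ^ 2 + x * y * s x * s y) * h2

theorem transl (hs : ∀ t, s (s t) = t ^ 2) (h2 : (2 : F) = 0) (a b x y : F) :
    ff s (a + x) (b + y + s a * x) =
      ff s x y + a * y + (a * s a + b) * x + ff s a b := by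
  unfold ff
  rw [map_add, map_add, map_add, map_mul, hs]
  linear_combination (s a * x ^ 2 + a ^ 2 * s x + a * x * s a + a * x * s x) * h2

theorem key' (hs : ∀ t, s (s t) = t ^ 2) (h2 : (2 : F) = 0) (x y l : F)
    (hxy : ¬ (x = 0 ∧ y = 0)) (h : ff s (l * x) (l * y) = l * ff s x y) : l = 0 ∨ l = 1 := by
  by_cases hl : l = 0
  · exact Or.inl hl
  right
  have hz : ff s x y ≠ 0 := fun h0 => hxy (aniso s hs h2 x y h0)
  set z := ff s x y with hzdef
  have hz' : ff s (l * x) (l * y) ≠ 0 := by rw [h]; exact mul_ne_zero hl hz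
  -- the inversion identity for both points
  have e1 := inv_identity s hs h2 x y
  have e2 := inv_identity s hs h2 (l * x) (l * y)
  rw [h] at e2
  rw [← hzdef] at e1
  have hsz : s z ≠ 0 := fun h0 => hz (s_eq_zero s h0)
  have hsl : s l ≠ 0 := fun h0 => hl (s_eq_zero s h0)
  rw [map_mul, map_mul, map_mul] at e2
  -- e1 : x*y*s z + y^2 * s y + s x * z^2 = z * s z
  -- e2 : l x l y s l s z + l^2 y^2 s l s y + s l s x l^2 z^2 = l z s l s z
  have e3 : l ^ 2 * s l * (x * y * s z + y ^ 2 * s y + s x * z ^ 2) = l * s l * (z * s z) := by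
    linear_combination e2
  rw [e1] at e3
  have e4 : (l * s l * (z * s z)) * (l - 1) = 0 := by linear_combination e3
  rcases mul_eq_zero.1 e4 with h0 | h0
  · exfalso
    exact (mul_ne_zero (mul_ne_zero hl hsl) (mul_ne_zero hz hsz)) h0
  · linear_combination h0

theorem key (hs : ∀ t, s (s t) = t ^ 2) (h2 : (2 : F) = 0) (x0 y0 u v l : F)
    (huv : ¬ (u = 0 ∧ v = 0))
    (h : ff s (x0 + l * u) (y0 + l * v) + ff s x0 y0 =
      l * (ff s (x0 + u) (y0 + v) + ff s x0 y0)) : l = 0 ∨ l = 1 := by
  set v' : F := v + s x0 * u with hv'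
  have h1 : ff s (x0 + u) (y0 + v) = ff s u v' + x0 * v' + (x0 * s x0 + y0) * u + ff s x0 y0 := by
    rw [← transl s hs h2 x0 y0 u v']
    congr 1
    rw [hv']
    linear_combination (-(s x0 * u)) * h2
  have h3 : ff s (x0 + l * u) (y0 + l * v) =
      ff s (l * u) (l * v') + x0 * (l * v') + (x0 * s x0 + y0) * (l * u) + ff s x0 y0 := by
    rw [← transl s hs h2 x0 y0 (l * u) (l * v')]
    congr 1
    rw [hv']
    linear_combination (-(s x0 * l * u)) * h2
  apply key' s hs h2 u v' l
  · rintro ⟨hu, hv0⟩
    apply huv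
    refine ⟨hu, ?_⟩
    rw [hv', hu, mul_zero, add_zero] at hv0
    exact hv0
  · rw [h1, h3] at h
    linear_combination h - (ff s x0 y0) * h2 + l * (ff s x0 y0) * h2

end Alg

section Vec

variable {F : Type*} [Field F] (s : F →+* F)

theorem key2 (hs : ∀ t, s (s t) = t ^ 2) (h2 : (2 : F) = 0) (x0 y0 x1 y1 x2 y2 l : F)
    (h01 : ¬ (x0 = x1 ∧ y0 = y1)) (hx : x2 = x0 + l * (x1 + x0)) (hy : y2 = y0 + l * (y1 + y0))
    (hf : ff s x2 y2 + ff s x0 y0 = l * (ff s x1 y1 + ff s x0 y0)) : l = 0 ∨ l = 1 := by
  apply key s hs h2 x0 y0 (x1 + x0) (y1 + y0) l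
  · rintro ⟨hu, hv⟩
    apply h01
    constructor
    · linear_combination -hu + x0 * h2
    · linear_combination -hv + y0 * h2
  · have e1 : x0 + (x1 + x0) = x1 := by linear_combination x0 * h2
    have e2 : y0 + (y1 + y0) = y1 := by linear_combination y0 * h2
    rw [e1, e2, ← hx, ← hy]
    exact hf

theorem coreB (hs : ∀ t, s (s t) = t ^ 2) (h2 : (2 : F) = 0) (x0 y0 x1 y1 x2 y2 a b c : F)
    (h01 : ¬ (x0 = x1 ∧ y0 = y1)) (h02 : ¬ (x0 = x2 ∧ y0 = y2)) (h12 : ¬ (x1 = x2 ∧ y1 = y2))
    (e0 : a * ff s x0 y0 + b * ff s x1 y1 + c * ff s x2 y2 = 0)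
    (e1 : a * y0 + b * y1 + c * y2 = 0) (e2 : a * x0 + b * x1 + c * x2 = 0)
    (e3 : a + b + c = 0) : a = 0 ∧ b = 0 ∧ c = 0 := by
  have ha : a = b + c := by linear_combination e3 - (b + c) * h2
  subst ha
  by_cases hc : c = 0
  · subst hc
    have hb : b = 0 := by
      by_contra hb
      apply h01
      constructor
      · have : b * (x0 - x1) = 0 := by linear_combination e2 - b * x1 * h2
        rcases mul_eq_zero.1 this with h | h
        · exact absurd h hb
        · linear_combination h
      · have : b * (y0 - y1) = 0 := by linear_combination e1 - b * y1 * h2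
        rcases mul_eq_zero.1 this with h | h
        · exact absurd h hb
        · linear_combination h
    subst hb
    simp
  · exfalso
    obtain ⟨l, hb⟩ : ∃ l : F, b = l * c := ⟨b / c, by field_simp⟩
    subst hb
    have hx : x2 = x0 + l * (x1 + x0) := by
      have : c * (x2 - (x0 + l * (x1 + x0))) = 0 := by
        linear_combination e2 - (c * x0 + c * l * x1 + c * l * x0) * h2
      rcases mul_eq_zero.1 this with h | h
      · exact absurd h hc
      · linear_combination h
    have hy : y2 = y0 + l * (y1 + y0) := by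
      have : c * (y2 - (y0 + l * (y1 + y0))) = 0 := by
        linear_combination e1 - (c * y0 + c * l * y1 + c * l * y0) * h2
      rcases mul_eq_zero.1 this with h | h
      · exact absurd h hc
      · linear_combination h
    have hf : ff s x2 y2 + ff s x0 y0 = l * (ff s x1 y1 + ff s x0 y0) := by
      have : c * (ff s x2 y2 + ff s x0 y0 - l * (ff s x1 y1 + ff s x0 y0)) = 0 := by
        linear_combination e0 - (c * l * ff s x1 y1 + c * l * ff s x0 y0) * h2
      rcases mul_eq_zero.1 this with h | h
      · exact absurd h hc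
      · linear_combination h
    rcases key2 s hs h2 x0 y0 x1 y1 x2 y2 l h01 hx hy hf with h | h
    · apply h02
      rw [h] at hx hy
      constructor
      · linear_combination -hx
      · linear_combination -hy
    · apply h12
      rw [h] at hx hy
      constructor
      · linear_combination -hx - x0 * h2
      · linear_combination -hy - y0 * h2

theorem coreA (h2 : (2 : F) = 0) (x1 y1 x2 y2 a b c : F)
    (h12 : ¬ (x1 = x2 ∧ y1 = y2))
    (e0 : a + b * ff s x1 y1 + c * ff s x2 y2 = 0)
    (e1 : b * y1 + c * y2 = 0) (e2 : b * x1 + c * x2 = 0)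
    (e3 : b + c = 0) : a = 0 ∧ b = 0 ∧ c = 0 := by
  have hb : b = c := by linear_combination e3 - c * h2
  subst hb
  have hb0 : b = 0 := by
    by_contra hb
    apply h12
    constructor
    · have : b * (x1 - x2) = 0 := by linear_combination e2 - b * x2 * h2
      rcases mul_eq_zero.1 this with h | h
      · exact absurd h hb
      · linear_combination h
    · have : b * (y1 - y2) = 0 := by linear_combination e1 - b * y2 * h2
      rcases mul_eq_zero.1 this with h | h
      · exact absurd h hb
      · linear_combination h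
  subst hb0
  simp at e0
  exact ⟨e0, rfl, rfl⟩

end Vec

section Main

variable {F : Type*} [Field F]

theorem coords (a b c : F) (V0 V1 V2 : Fin 4 → F) (h : a • V0 + b • V1 + c • V2 = 0) (k : Fin 4) :
    a * V0 k + b * V1 k + c * V2 k = 0 := by
  have := congrFun h k
  simpa using this

/-- the affine vectors of the ovoid -/
def wv (s : F →+* F) (x y : F) : Fin 4 → F := ![ff s x y, y, x, 1]

/-- the vector of the point at infinity -/
def ev : Fin 4 → F := ![1, 0, 0, 0]

theorem wv_inj (s : F →+* F) {x y x' y' : F} (h : ¬ wv s x y = wv s x' y') :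
    ¬ (x = x' ∧ y = y') := by
  rintro ⟨rfl, rfl⟩
  exact h rfl

theorem indep3 (s : F →+* F) (hs : ∀ t, s (s t) = t ^ 2) (h2 : (2 : F) = 0)
    (v : Fin 3 → (Fin 4 → F)) (hne : ∀ i j, i ≠ j → v i ≠ v j)
    (hcase : ∀ i, v i = ev ∨ ∃ x y : F, v i = wv s x y) : LinearIndependent F v := by
  rw [Fintype.linearIndependent_iff]
  intro g hg
  rw [Fin.sum_univ_three] at hg
  have h01 := hne 0 1 (by decide)
  have h02 := hne 0 2 (by decide)
  have h12 := hne 1 2 (by decide)
  have hall : g 0 = 0 ∧ g 1 = 0 ∧ g 2 = 0 := by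
    rcases hcase 0 with e0 | ⟨x0, y0, e0⟩ <;> rcases hcase 1 with e1 | ⟨x1, y1, e1⟩ <;>
      rcases hcase 2 with e2 | ⟨x2, y2, e2⟩
    · exact absurd (e0.trans e1.symm) h01
    · exact absurd (e0.trans e1.symm) h01
    · exact absurd (e0.trans e2.symm) h02
    · -- ev, wv, wv
      rw [e0, e1, e2] at hg
      rw [e0, e1] at h01
      rw [e0, e2] at h02
      rw [e1, e2] at h12
      have c0 := coords _ _ _ _ _ _ hg 0
      have c1 := coords _ _ _ _ _ _ hg 1
      have c2 := coords _ _ _ _ _ _ hg 2
      have c3 := coords _ _ _ _ _ _ hg 3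
      simp [ev, wv] at c0 c1 c2 c3
      exact coreA s h2 x1 y1 x2 y2 (g 0) (g 1) (g 2) (wv_inj s h12) c0 c1 c2 c3
    · exact absurd (e1.trans e2.symm) h12
    · -- wv, ev, wv
      rw [e0, e1, e2] at hg
      rw [e0, e1] at h01
      rw [e0, e2] at h02
      rw [e1, e2] at h12
      have c0 := coords _ _ _ _ _ _ hg 0
      have c1 := coords _ _ _ _ _ _ hg 1
      have c2 := coords _ _ _ _ _ _ hg 2
      have c3 := coords _ _ _ _ _ _ hg 3
      simp [ev, wv] at c0 c1 c2 c3
      have := coreA s h2 x0 y0 x2 y2 (g 1) (g 0) (g 2) (wv_inj s h02)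
        (by linear_combination c0) (by linear_combination c1) (by linear_combination c2)
        (by linear_combination c3)
      exact ⟨this.2.1, this.1, this.2.2⟩
    · -- wv, wv, ev
      rw [e0, e1, e2] at hg
      rw [e0, e1] at h01
      rw [e0, e2] at h02
      rw [e1, e2] at h12
      have c0 := coords _ _ _ _ _ _ hg 0
      have c1 := coords _ _ _ _ _ _ hg 1
      have c2 := coords _ _ _ _ _ _ hg 2
      have c3 := coords _ _ _ _ _ _ hg 3
      simp [ev, wv] at c0 c1 c2 c3
      have := coreA s h2 x0 y0 x1 y1 (g 2) (g 0) (g 1) (wv_inj s h01)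
        (by linear_combination c0) (by linear_combination c1) (by linear_combination c2)
        (by linear_combination c3)
      exact ⟨this.2.1, this.2.2, this.1⟩
    · -- wv, wv, wv
      rw [e0, e1, e2] at hg
      rw [e0, e1] at h01
      rw [e0, e2] at h02
      rw [e1, e2] at h12
      have c0 := coords _ _ _ _ _ _ hg 0
      have c1 := coords _ _ _ _ _ _ hg 1
      have c2 := coords _ _ _ _ _ _ hg 2
      have c3 := coords _ _ _ _ _ _ hg 3
      simp [wv] at c0 c1 c2 c3
      exact coreB s hs h2 x0 y0 x1 y1 x2 y2 (g 0) (g 1) (g 2) (wv_inj s h01) (wv_inj s h02)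
        (wv_inj s h12) c0 c1 c2 c3
  intro i
  fin_cases i
  · exact hall.1
  · exact hall.2.1
  · exact hall.2.2

end Main

/-- The Suzuki–Tits point set is an ovoid: any three distinct points of it are projectively independent
(no line of projective 3-space meets it in more than two points). -/
theorem result {F : Type*} [Field F] [Fintype F] {m : ℕ} (hm : 1 ≤ m)
    (hF : Fintype.card F = 2 ^ (2 * m + 1)) (p : Fin 3 ↪ Cfsg.suzukiOvoid F m) :
    Projectivization.Independent (fun i => (p i : Projectivization F (Fin 4 → F))) := by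
  classical
  have hp2 : Fact (Nat.Prime 2) := ⟨Nat.prime_two⟩
  have hchar : CharP F 2 := charP_of_card_eq_prime_pow hF
  have h2 : (2 : F) = 0 := by
    have := CharP.cast_eq_zero F 2
    exact_mod_cast this
  set s : F →+* F := iterateFrobenius F 2 (m + 1) with hsdef
  have hs : ∀ t, s (s t) = t ^ 2 := by
    intro t
    rw [hsdef, iterateFrobenius_def, iterateFrobenius_def, ← pow_mul]
    have : 2 ^ (m + 1) * 2 ^ (m + 1) = 2 ^ (2 * m + 1) * 2 := by ring
    rw [this, pow_mul, ← hF, FiniteField.pow_card]
  have hmem := fun i => (p i).2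
  choose v hv hpv hcase using hmem
  have hfun : (fun i => ((p i : Cfsg.suzukiOvoid F m) : Projectivization F (Fin 4 → F))) =
      fun i => Projectivization.mk F (v i) (hv i) := funext hpv
  rw [hfun]
  refine Projectivization.Independent.mk v hv ?_
  apply indep3 s hs h2 v
  · intro i j hij h
    apply hij
    apply p.injective
    apply Subtype.ext
    rw [hpv i, hpv j]
    congr 1
  · intro i
    rcases hcase i with h | ⟨x, y, h⟩
    · left; exact h
    · right
      refine ⟨x, y, ?_⟩
      rw [h]
      unfold wv ff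
      rw [hsdef, iterateFrobenius_def, iterateFrobenius_def, pow_add]
      congr 1
      ring

end Cfsg.Agent.S0335
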