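import Mathlib
import Cfsg.Statements.S0326

set_option autoImplicit false
open Cfsg

namespace Cfsg.Agent.S0326

variable {F : Type*} [Field F]

def pt (m : ℕ) (x y : F) : Fin 4 → F :=
  ![x * y + x ^ (2 ^ (m + 1) + 2) + y ^ (2 ^ (m + 1)), y, x, 1]

lemma pt_ne (m : ℕ) (x y : F) : pt m x y ≠ 0 := by
  intro h
  have := congrFun h 3
  simp [pt] at this

def e0 : Fin 4 → F := ![1, 0, 0, 0]

lemma e0_ne : (e0 : Fin 4 → F) ≠ 0 := by
  intro h
  have := congrFun h 0
  simp [e0] at this

noncomputable def phi (m : ℕ) : Option (F × F) → Projectivization F (Fin 4 → F)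
  | none => Projectivization.mk F e0 e0_ne
  | some (x, y) => Projectivization.mk F (pt m x y) (pt_ne m x y)

lemma phi_inj (m : ℕ) : Function.Injective (phi (F := F) m) := by
  intro a b hab
  rcases a with _ | ⟨x, y⟩ <;> rcases b with _ | ⟨x', y'⟩
  · rfl
  · exfalso
    simp only [phi] at hab
    rw [Projectivization.mk_eq_mk_iff] at hab
    obtain ⟨a, ha⟩ := hab
    have := congrFun ha 3
    simp [pt, e0, Units.smul_def] at this
  · exfalso
    simp only [phi] at hab
    rw [Projectivization.mk_eq_mk_iff] at hab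
    obtain ⟨a, ha⟩ := hab
    have := congrFun ha 3
    simp [pt, e0, Units.smul_def] at this
  · simp only [phi] at hab
    rw [Projectivization.mk_eq_mk_iff] at hab
    obtain ⟨a, ha⟩ := hab
    have h3 := congrFun ha 3
    have h2 := congrFun ha 2
    have h1 := congrFun ha 1
    simp [pt, Units.smul_def] at h3 h2 h1
    rw [h3] at h2 h1
    simp only [Units.val_one, one_mul] at h2 h1
    rw [h2, h1]

lemma range_phi (m : ℕ) : Set.range (phi (F := F) m) = Cfsg.suzukiOvoid F m := by
  ext p
  constructor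
  · rintro ⟨a, rfl⟩
    rcases a with _ | ⟨x, y⟩
    · exact ⟨e0, e0_ne, rfl, Or.inl rfl⟩
    · exact ⟨pt m x y, pt_ne m x y, rfl, Or.inr ⟨x, y, rfl⟩⟩
  · rintro ⟨v, hv, rfl, h | ⟨x, y, h⟩⟩
    · refine ⟨none, ?_⟩
      subst h; rfl
    · refine ⟨some (x, y), ?_⟩
      subst h; rfl

/-- The Suzuki–Tits ovoid over a finite field with `q` elements has `q² + 1` points. -/
theorem result {F : Type*} [Field F] [Fintype F] (m : ℕ) :
    Nat.card (Cfsg.suzukiOvoid F m) = Fintype.card F ^ 2 + 1 := by
  rw [← range_phi m, Nat.card_congr (Equiv.ofInjective (phi (F := F) m) (phi_inj m)).symm]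
  rw [Nat.card_eq_fintype_card, Fintype.card_option, Fintype.card_prod, pow_two]

end Cfsg.Agent.S0326
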