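import Mathlib
import Cfsg.Statements.S0327
import Cfsg.Agent.Lib.Helper2.SzSimple

set_option autoImplicit false
open Cfsg

namespace Cfsg.Agent.S0327

open Cfsg.Agent.Helper2.Sz Cfsg.Agent.Helper2.Sz.SzData

variable {F : Type*} [Field F] {m : ℕ}

theorem coe_smul (g : Cfsg.Sz F m) (p : Cfsg.suzukiOvoid F m) :
    ((g • p : Cfsg.suzukiOvoid F m) : Projectivization F (Fin 4 → F)) =
      (g : Matrix.SpecialLinearGroup (Fin 4) F) • (p : Projectivization F (Fin 4 → F)) := rfl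

theorem exists_unit_ne_one [Fintype F] (hm : 1 ≤ m) (hF : Fintype.card F = 2 ^ (2 * m + 1)) :
    ∃ u : Fˣ, u ≠ 1 := by
  have h8 : 2 < Fintype.card F := by
    rw [hF]
    calc 2 < 2 ^ 3 := by norm_num
      _ ≤ 2 ^ (2 * m + 1) := Nat.pow_le_pow_right (by norm_num) (by omega)
  have h1 : 1 < Nat.card Fˣ := by
    rw [Nat.card_units, Nat.card_eq_fintype_card]
    omega
  have : Nontrivial Fˣ := Finite.one_lt_card_iff_nontrivial.1 h1
  exact exists_ne 1

/-- The Suzuki group (`m ≥ 1`) is a Zassenhaus group on the `q² + 1` points of the Suzuki–Tits ovoid. -/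
theorem result {F : Type*} [Field F] [Fintype F] {m : ℕ} (hm : 1 ≤ m)
    (hF : Fintype.card F = 2 ^ (2 * m + 1)) :
    Cfsg.IsZassenhausGroup (Cfsg.Sz F m) (Cfsg.suzukiOvoid F m) := by
  obtain ⟨S⟩ := nonempty_szData (m := m) hF
  obtain ⟨u, hu⟩ := exists_unit_ne_one hm hF
  have hD1 : S.DgSz u ≠ 1 := by
    intro h
    apply hu
    apply S.DgSz_injective
    rw [h, map_one]
  refine ⟨⟨?_⟩, ?_, ?_, ?_, ?_⟩
  · intro g₁ g₂ h
    have h1 : ((g₂⁻¹ * g₁ : Cfsg.Sz F m) : Matrix.SpecialLinearGroup (Fin 4) F) = 1 := by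
      apply S.eq_one_of_forall_fix hm hF (g₂⁻¹ * g₁).2
      intro p hp
      have := congrArg Subtype.val (h ⟨p, hp⟩)
      rw [coe_smul, coe_smul] at this
      rw [Subgroup.coe_mul, mul_smul, this, Subgroup.coe_inv, inv_smul_smul]
    have h2 : g₂⁻¹ * g₁ = 1 := Subtype.ext h1
    exact (inv_mul_eq_one.1 h2).symm
  · rw [MulAction.is_two_pretransitive_iff]
    intro a b c d hab hcd
    have hab' : (a : Projectivization F (Fin 4 → F)) ≠ b := fun h => hab (Subtype.ext h)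
    have hcd' : (c : Projectivization F (Fin 4 → F)) ≠ d := fun h => hcd (Subtype.ext h)
    obtain ⟨h₁, hh₁, e1, e2⟩ := S.exists_smul_pair a.2 b.2 hab'
    obtain ⟨h₂, hh₂, e3, e4⟩ := S.exists_smul_pair c.2 d.2 hcd'
    refine ⟨⟨h₂ * h₁⁻¹, (Cfsg.Sz F m).mul_mem hh₂ ((Cfsg.Sz F m).inv_mem hh₁)⟩, ?_, ?_⟩
    · apply Subtype.ext
      rw [coe_smul]
      show (h₂ * h₁⁻¹) • (a : Projectivization F (Fin 4 → F)) = c
      rw [← e1, mul_smul, inv_smul_smul, e3]
    · apply Subtype.ext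
      rw [coe_smul]
      show (h₂ * h₁⁻¹) • (b : Projectivization F (Fin 4 → F)) = d
      rw [← e2, mul_smul, inv_smul_smul, e4]
  · intro g a b c hab hbc hac h1 h2 h3
    apply Subtype.ext
    rw [Subgroup.coe_one]
    exact S.eq_one_of_fix_three hm hF g.2 a.2 b.2 c.2 (fun h => hab (Subtype.ext h))
      (fun h => hbc (Subtype.ext h)) (fun h => hac (Subtype.ext h))
      (congrArg Subtype.val h1) (congrArg Subtype.val h2) (congrArg Subtype.val h3)
  · refine ⟨S.DgSz u, hD1, ⟨pInf F, S.pInf_mem⟩, ⟨S.pt 0 0, S.pt_mem 0 0⟩, ?_, ?_, ?_⟩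
    · intro h
      exact S.pt_ne_pInf 0 0 (congrArg Subtype.val h).symm
    · apply Subtype.ext
      rw [coe_smul]
      exact S.Dg_smul_pInf u
    · apply Subtype.ext
      rw [coe_smul]
      exact S.Dg_smul_pt_zero u
  · intro N hN htrans
    have hsimple := S.isSimpleGroup_Sz hm hF
    rcases hsimple.eq_bot_or_eq_top_of_normal N hN with h | h
    · exfalso
      obtain ⟨⟨n, hn⟩, hnp⟩ := htrans.exists_smul_eq
        (⟨pInf F, S.pInf_mem⟩ : Cfsg.suzukiOvoid F m) ⟨S.pt 0 0, S.pt_mem 0 0⟩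
      rw [h, Subgroup.mem_bot] at hn
      subst hn
      have h2 := congrArg Subtype.val hnp
      have h3 : ((1 : Cfsg.Sz F m) : Matrix.SpecialLinearGroup (Fin 4) F) • pInf F = S.pt 0 0 := h2
      rw [Subgroup.coe_one, one_smul] at h3
      exact S.pt_ne_pInf 0 0 h3.symm
    · refine ⟨⟨pInf F, S.pInf_mem⟩, ?_⟩
      intro hbot
      have hmem : (⟨S.DgSz u, h ▸ Subgroup.mem_top _⟩ : N) ∈
          MulAction.stabilizer N (⟨pInf F, S.pInf_mem⟩ : Cfsg.suzukiOvoid F m) := by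
        rw [MulAction.mem_stabilizer_iff]
        apply Subtype.ext
        exact S.Dg_smul_pInf u
      rw [hbot, Subgroup.mem_bot] at hmem
      apply hD1
      exact congrArg Subtype.val hmem

end Cfsg.Agent.S0327
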