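import Mathlib
import Cfsg.Statements.S0331
import Cfsg.Agent.Lib.Helper2.SzOdd

set_option autoImplicit false
open Cfsg

namespace Cfsg.Agent.S0331

open Cfsg.Agent.Helper2.Sz Cfsg.Agent.Helper2.Sz.SzData Cfsg.Agent.Helper2

theorem prime_dvd_cases {p q : ℕ} (hp : p.Prime) (hp2 : p ≠ 2) (hq : ∃ k, q = 2 ^ k)
    (h : p ∣ q ^ 2 * (q ^ 2 + 1) * (q - 1)) : p ∣ q ^ 2 + 1 ∨ p ∣ q - 1 := by
  rcases (Nat.Prime.dvd_mul hp).1 h with h | h
  · rcases (Nat.Prime.dvd_mul hp).1 h with h | h
    · exfalso
      have h1 := hp.dvd_of_dvd_pow h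
      obtain ⟨k, hk⟩ := hq
      rw [hk] at h1
      have h2 := hp.dvd_of_dvd_pow h1
      exact hp2 ((Nat.prime_dvd_prime_iff_eq hp Nat.prime_two).1 h2)
    · exact Or.inl h
  · exact Or.inr h

/-- In the Suzuki group (`m ≥ 1`), the Sylow `p`-subgroups are cyclic for every odd prime `p`. -/
theorem result {F : Type*} [Field F] [Fintype F] {m : ℕ} (hm : 1 ≤ m)
    (hF : Fintype.card F = 2 ^ (2 * m + 1)) {p : ℕ} [Fact p.Prime] (hp : p ≠ 2)
    (P : Sylow p (Cfsg.Sz F m)) : IsCyclic P := by
  obtain ⟨S⟩ := nonempty_szData (m := m) hF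
  have hpp : p.Prime := Fact.out
  by_cases hpq : p ∣ 2 ^ (2 * m + 1) - 1
  · -- the split torus
    obtain ⟨a, b, ha, hb, hab, hfix⟩ :=
      S.exists_two_fixed hF hp hpq (P : Subgroup (Cfsg.Sz F m)) P.isPGroup'
    obtain ⟨g, hg⟩ := S.exists_conj_torus hm hF ha hb hab
    have hcyc : IsCyclic S.DgSz.range :=
      isCyclic_of_surjective S.DgSz.rangeRestrict S.DgSz.rangeRestrict_surjective
    let f : (P : Subgroup (Cfsg.Sz F m)) →* S.DgSz.range :=
      { toFun := fun x => ⟨g⁻¹ * x.1 * g, by
          obtain ⟨u, hu⟩ := hg x.1 (hfix x.1 x.2).1 (hfix x.1 x.2).2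
          exact ⟨u, hu.symm⟩⟩
        map_one' := by
          apply Subtype.ext
          show g⁻¹ * ((1 : (P : Subgroup (Cfsg.Sz F m))) : Cfsg.Sz F m) * g = 1
          rw [Subgroup.coe_one, mul_one, inv_mul_cancel]
        map_mul' := fun x y => by
          apply Subtype.ext
          show g⁻¹ * ((x * y : (P : Subgroup (Cfsg.Sz F m))) : Cfsg.Sz F m) * g =
            (g⁻¹ * x.1 * g) * (g⁻¹ * y.1 * g)
          rw [Subgroup.coe_mul]
          group }
    have hf : Function.Injective f := by
      intro x y hxy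
      have h1 : g⁻¹ * x.1 * g = g⁻¹ * y.1 * g := congrArg Subtype.val hxy
      apply Subtype.ext
      exact mul_left_cancel (mul_right_cancel h1)
    exact isCyclic_of_injective f hf
  · -- the twisted tori
    rcases subsingleton_or_nontrivial (P : Subgroup (Cfsg.Sz F m)) with hsub | hnt
    · exact isCyclic_of_subsingleton
    · have hPp : IsPGroup p (P : Subgroup (Cfsg.Sz F m)) := P.isPGroup'
      have hcnt : Nontrivial (Subgroup.center (P : Subgroup (Cfsg.Sz F m))) :=
        hPp.center_nontrivial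
      have hcp : IsPGroup p (Subgroup.center (P : Subgroup (Cfsg.Sz F m))) :=
        hPp.to_subgroup _
      have hdvd : p ∣ Nat.card (Subgroup.center (P : Subgroup (Cfsg.Sz F m))) := by
        rcases hcp.card_eq_or_dvd with h1 | h1
        · exact absurd h1 (Finite.one_lt_card (α := Subgroup.center
            (P : Subgroup (Cfsg.Sz F m)))).ne'
        · exact h1
      obtain ⟨z, hz⟩ := exists_prime_orderOf_dvd_card' p hdvd
      -- the order of the group
      have hpG : p ∣ Nat.card (Cfsg.Sz F m) :=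
        hdvd.trans ((Subgroup.card_subgroup_dvd_card _).trans (Subgroup.card_subgroup_dvd_card _))
      rw [S.card_Sz hm hF] at hpG
      have hlog : ∃ k, 2 ^ (2 * m + 1) = 2 ^ k := ⟨_, rfl⟩
      have hq2 : p ∣ (2 ^ (2 * m + 1)) ^ 2 + 1 := by
        rcases prime_dvd_cases hpp hp hlog hpG with h | h
        · exact h
        · exact absurd h hpq
      -- the central element
      have hzp : (z.1.1.1 : Matrix.SpecialLinearGroup (Fin 4) F) ^ p = 1 := by
        have h1 : z ^ p = 1 := by
          have := pow_orderOf_eq_one z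
          rwa [hz] at this
        have h2 := congrArg (fun y : Subgroup.center (P : Subgroup (Cfsg.Sz F m)) =>
          (y.1.1.1 : Matrix.SpecialLinearGroup (Fin 4) F)) h1
        exact h2
      have hz1 : (z.1.1.1 : Matrix.SpecialLinearGroup (Fin 4) F) ≠ 1 := by
        intro h1
        have h2 : z = 1 := Subtype.ext (Subtype.ext (Subtype.ext h1))
        rw [h2, orderOf_one] at hz
        exact hpp.one_lt.ne hz
      have hirr := S.irrData_of_prime_order hF hpp hp hq2 hzp hz1
      let φ : (P : Subgroup (Cfsg.Sz F m)) →* Matrix (Fin 4) (Fin 4) F :=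
        (toMatHom F).comp ((Cfsg.Sz F m).subtype.comp (P : Subgroup (Cfsg.Sz F m)).subtype)
      have hφ : Function.Injective φ := by
        intro x y hxy
        exact Subtype.ext (Subtype.ext (toMatHom_injective F hxy))
      apply IrrMat.isCyclic_of_commute hirr φ hφ
      intro x
      have h1 : z.1 * x = x * z.1 := (Subgroup.mem_center_iff.1 z.2 x).symm
      exact congrArg φ h1

end Cfsg.Agent.S0331
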