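import Mathlib
import Cfsg.Statements.S0493
import Cfsg.Agent.S0144

set_option autoImplicit false
open Pointwise
open Cfsg

namespace Cfsg.Agent.S0493

theorem small_cases (n : ℕ) (h1 : 1 ≤ n) (h : n ≤ 100) :
    (∃ p q a b : ℕ, p.Prime ∧ q.Prime ∧ n = p ^ a * q ^ b) ∨
      (n = 30 ∨ n = 42 ∨ n = 60 ∨ n = 66 ∨ n = 70 ∨ n = 78 ∨ n = 84 ∨ n = 90) := by
  interval_cases n
  · exact Or.inl ⟨2, 3, 0, 0, by norm_num, by norm_num, by norm_num⟩
  · exact Or.inl ⟨2, 3, 1, 0, by norm_num, by norm_num, by norm_num⟩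
  · exact Or.inl ⟨3, 2, 1, 0, by norm_num, by norm_num, by norm_num⟩
  · exact Or.inl ⟨2, 3, 2, 0, by norm_num, by norm_num, by norm_num⟩
  · exact Or.inl ⟨5, 2, 1, 0, by norm_num, by norm_num, by norm_num⟩
  · exact Or.inl ⟨2, 3, 1, 1, by norm_num, by norm_num, by norm_num⟩
  · exact Or.inl ⟨7, 2, 1, 0, by norm_num, by norm_num, by norm_num⟩
  · exact Or.inl ⟨2, 3, 3, 0, by norm_num, by norm_num, by norm_num⟩
  · exact Or.inl ⟨3, 2, 2, 0, by norm_num, by norm_num, by norm_num⟩
  · exact Or.inl ⟨2, 5, 1, 1, by norm_num, by norm_num, by norm_num⟩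
  · exact Or.inl ⟨11, 2, 1, 0, by norm_num, by norm_num, by norm_num⟩
  · exact Or.inl ⟨2, 3, 2, 1, by norm_num, by norm_num, by norm_num⟩
  · exact Or.inl ⟨13, 2, 1, 0, by norm_num, by norm_num, by norm_num⟩
  · exact Or.inl ⟨2, 7, 1, 1, by norm_num, by norm_num, by norm_num⟩
  · exact Or.inl ⟨3, 5, 1, 1, by norm_num, by norm_num, by norm_num⟩
  · exact Or.inl ⟨2, 3, 4, 0, by norm_num, by norm_num, by norm_num⟩
  · exact Or.inl ⟨17, 2, 1, 0, by norm_num, by norm_num, by norm_num⟩
  · exact Or.inl ⟨2, 3, 1, 2, by norm_num, by norm_num, by norm_num⟩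
  · exact Or.inl ⟨19, 2, 1, 0, by norm_num, by norm_num, by norm_num⟩
  · exact Or.inl ⟨2, 5, 2, 1, by norm_num, by norm_num, by norm_num⟩
  · exact Or.inl ⟨3, 7, 1, 1, by norm_num, by norm_num, by norm_num⟩
  · exact Or.inl ⟨2, 11, 1, 1, by norm_num, by norm_num, by norm_num⟩
  · exact Or.inl ⟨23, 2, 1, 0, by norm_num, by norm_num, by norm_num⟩
  · exact Or.inl ⟨2, 3, 3, 1, by norm_num, by norm_num, by norm_num⟩
  · exact Or.inl ⟨5, 2, 2, 0, by norm_num, by norm_num, by norm_num⟩
  · exact Or.inl ⟨2, 13, 1, 1, by norm_num, by norm_num, by norm_num⟩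
  · exact Or.inl ⟨3, 2, 3, 0, by norm_num, by norm_num, by norm_num⟩
  · exact Or.inl ⟨2, 7, 2, 1, by norm_num, by norm_num, by norm_num⟩
  · exact Or.inl ⟨29, 2, 1, 0, by norm_num, by norm_num, by norm_num⟩
  · right; omega
  · exact Or.inl ⟨31, 2, 1, 0, by norm_num, by norm_num, by norm_num⟩
  · exact Or.inl ⟨2, 3, 5, 0, by norm_num, by norm_num, by norm_num⟩
  · exact Or.inl ⟨3, 11, 1, 1, by norm_num, by norm_num, by norm_num⟩
  · exact Or.inl ⟨2, 17, 1, 1, by norm_num, by norm_num, by norm_num⟩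
  · exact Or.inl ⟨5, 7, 1, 1, by norm_num, by norm_num, by norm_num⟩
  · exact Or.inl ⟨2, 3, 2, 2, by norm_num, by norm_num, by norm_num⟩
  · exact Or.inl ⟨37, 2, 1, 0, by norm_num, by norm_num, by norm_num⟩
  · exact Or.inl ⟨2, 19, 1, 1, by norm_num, by norm_num, by norm_num⟩
  · exact Or.inl ⟨3, 13, 1, 1, by norm_num, by norm_num, by norm_num⟩
  · exact Or.inl ⟨2, 5, 3, 1, by norm_num, by norm_num, by norm_num⟩
  · exact Or.inl ⟨41, 2, 1, 0, by norm_num, by norm_num, by norm_num⟩
  · right; omega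
  · exact Or.inl ⟨43, 2, 1, 0, by norm_num, by norm_num, by norm_num⟩
  · exact Or.inl ⟨2, 11, 2, 1, by norm_num, by norm_num, by norm_num⟩
  · exact Or.inl ⟨3, 5, 2, 1, by norm_num, by norm_num, by norm_num⟩
  · exact Or.inl ⟨2, 23, 1, 1, by norm_num, by norm_num, by norm_num⟩
  · exact Or.inl ⟨47, 2, 1, 0, by norm_num, by norm_num, by norm_num⟩
  · exact Or.inl ⟨2, 3, 4, 1, by norm_num, by norm_num, by norm_num⟩
  · exact Or.inl ⟨7, 2, 2, 0, by norm_num, by norm_num, by norm_num⟩
  · exact Or.inl ⟨2, 5, 1, 2, by norm_num, by norm_num, by norm_num⟩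
  · exact Or.inl ⟨3, 17, 1, 1, by norm_num, by norm_num, by norm_num⟩
  · exact Or.inl ⟨2, 13, 2, 1, by norm_num, by norm_num, by norm_num⟩
  · exact Or.inl ⟨53, 2, 1, 0, by norm_num, by norm_num, by norm_num⟩
  · exact Or.inl ⟨2, 3, 1, 3, by norm_num, by norm_num, by norm_num⟩
  · exact Or.inl ⟨5, 11, 1, 1, by norm_num, by norm_num, by norm_num⟩
  · exact Or.inl ⟨2, 7, 3, 1, by norm_num, by norm_num, by norm_num⟩
  · exact Or.inl ⟨3, 19, 1, 1, by norm_num, by norm_num, by norm_num⟩
  · exact Or.inl ⟨2, 29, 1, 1, by norm_num, by norm_num, by norm_num⟩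
  · exact Or.inl ⟨59, 2, 1, 0, by norm_num, by norm_num, by norm_num⟩
  · right; omega
  · exact Or.inl ⟨61, 2, 1, 0, by norm_num, by norm_num, by norm_num⟩
  · exact Or.inl ⟨2, 31, 1, 1, by norm_num, by norm_num, by norm_num⟩
  · exact Or.inl ⟨3, 7, 2, 1, by norm_num, by norm_num, by norm_num⟩
  · exact Or.inl ⟨2, 3, 6, 0, by norm_num, by norm_num, by norm_num⟩
  · exact Or.inl ⟨5, 13, 1, 1, by norm_num, by norm_num, by norm_num⟩
  · right; omega
  · exact Or.inl ⟨67, 2, 1, 0, by norm_num, by norm_num, by norm_num⟩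
  · exact Or.inl ⟨2, 17, 2, 1, by norm_num, by norm_num, by norm_num⟩
  · exact Or.inl ⟨3, 23, 1, 1, by norm_num, by norm_num, by norm_num⟩
  · right; omega
  · exact Or.inl ⟨71, 2, 1, 0, by norm_num, by norm_num, by norm_num⟩
  · exact Or.inl ⟨2, 3, 3, 2, by norm_num, by norm_num, by norm_num⟩
  · exact Or.inl ⟨73, 2, 1, 0, by norm_num, by norm_num, by norm_num⟩
  · exact Or.inl ⟨2, 37, 1, 1, by norm_num, by norm_num, by norm_num⟩
  · exact Or.inl ⟨3, 5, 1, 2, by norm_num, by norm_num, by norm_num⟩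
  · exact Or.inl ⟨2, 19, 2, 1, by norm_num, by norm_num, by norm_num⟩
  · exact Or.inl ⟨7, 11, 1, 1, by norm_num, by norm_num, by norm_num⟩
  · right; omega
  · exact Or.inl ⟨79, 2, 1, 0, by norm_num, by norm_num, by norm_num⟩
  · exact Or.inl ⟨2, 5, 4, 1, by norm_num, by norm_num, by norm_num⟩
  · exact Or.inl ⟨3, 2, 4, 0, by norm_num, by norm_num, by norm_num⟩
  · exact Or.inl ⟨2, 41, 1, 1, by norm_num, by norm_num, by norm_num⟩
  · exact Or.inl ⟨83, 2, 1, 0, by norm_num, by norm_num, by norm_num⟩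
  · right; omega
  · exact Or.inl ⟨5, 17, 1, 1, by norm_num, by norm_num, by norm_num⟩
  · exact Or.inl ⟨2, 43, 1, 1, by norm_num, by norm_num, by norm_num⟩
  · exact Or.inl ⟨3, 29, 1, 1, by norm_num, by norm_num, by norm_num⟩
  · exact Or.inl ⟨2, 11, 3, 1, by norm_num, by norm_num, by norm_num⟩
  · exact Or.inl ⟨89, 2, 1, 0, by norm_num, by norm_num, by norm_num⟩
  · right; omega
  · exact Or.inl ⟨7, 13, 1, 1, by norm_num, by norm_num, by norm_num⟩
  · exact Or.inl ⟨2, 23, 2, 1, by norm_num, by norm_num, by norm_num⟩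
  · exact Or.inl ⟨3, 31, 1, 1, by norm_num, by norm_num, by norm_num⟩
  · exact Or.inl ⟨2, 47, 1, 1, by norm_num, by norm_num, by norm_num⟩
  · exact Or.inl ⟨5, 19, 1, 1, by norm_num, by norm_num, by norm_num⟩
  · exact Or.inl ⟨2, 3, 5, 1, by norm_num, by norm_num, by norm_num⟩
  · exact Or.inl ⟨97, 2, 1, 0, by norm_num, by norm_num, by norm_num⟩
  · exact Or.inl ⟨2, 7, 1, 2, by norm_num, by norm_num, by norm_num⟩
  · exact Or.inl ⟨3, 11, 2, 1, by norm_num, by norm_num, by norm_num⟩
  · exact Or.inl ⟨2, 5, 2, 2, by norm_num, by norm_num, by norm_num⟩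

theorem not_isSolvable {G : Type*} [Group G] [Finite G] [IsSimpleGroup G] (hG : ¬ IsCyclic G) :
    ¬ IsSolvable G := by
  intro hs
  have hcomm := (IsSimpleGroup.comm_iff_isSolvable (G := G)).mpr hs
  apply hG
  let _ : CommGroup G := { (inferInstance : Group G) with mul_comm := hcomm }
  exact IsSimpleGroup.isCyclic

theorem two_mul_odd {G : Type*} [Group G] [Finite G] [IsSimpleGroup G] (m : ℕ) (hm : Odd m)
    (h : Nat.card G = 2 * m) : m = 1 := by
  have hfact : Fact (Nat.Prime 2) := ⟨Nat.prime_two⟩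
  obtain ⟨P⟩ : Nonempty (Sylow 2 G) := inferInstance
  have hm0 : m ≠ 0 := by rintro rfl; simp at hm
  have hP2 : Nat.card P = 2 := by
    rw [Sylow.card_eq_multiplicity, h, Nat.factorization_mul (by norm_num) hm0]
    have : m.factorization 2 = 0 := by
      apply Nat.factorization_eq_zero_of_not_dvd
      rw [← even_iff_two_dvd]
      exact Nat.not_even_iff_odd.mpr hm
    simp [this, Nat.Prime.factorization_self Nat.prime_two]
  have huniq := (Nat.card_eq_two_iff' (1 : P)).mp hP2
  have hNC : Subgroup.normalizer ((P : Subgroup G) : Set G) ≤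
      Subgroup.centralizer ((P : Subgroup G) : Set G) := by
    intro g hg y hy
    by_cases hy1 : y = 1
    · rw [hy1]; simp
    · have h1 : g * y * g⁻¹ ∈ (P : Subgroup G) := (Subgroup.mem_normalizer_iff.mp hg y).mp hy
      have h2 : (⟨g * y * g⁻¹, h1⟩ : P) ≠ 1 := by
        intro h
        have := congrArg Subtype.val h
        simp only [Subgroup.coe_one] at this
        apply hy1
        have e : y = g⁻¹ * (g * y * g⁻¹) * g := by group
        rw [e, this]; group
      have h3 : (⟨y, hy⟩ : P) ≠ 1 := fun h => hy1 (congrArg Subtype.val h)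
      have := huniq.unique h2 h3
      have h4 : g * y * g⁻¹ = y := congrArg Subtype.val this
      calc y * g = g * y * g⁻¹ * g := by rw [h4]
        _ = g * y := by group
  have hcompl := MonoidHom.ker_transferSylow_isComplement' P hNC
  have hcard := hcompl.card_mul_card
  rw [h] at hcard
  have hP2' : Nat.card (P : Subgroup G) = 2 := hP2
  rw [hP2'] at hcard
  rcases (MonoidHom.normal_ker (MonoidHom.transferSylow P hNC)).eq_bot_or_eq_top with hb | ht
  · rw [hb] at hcard; simp at hcard; omega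
  · rw [ht, Subgroup.card_top, h] at hcard; omega

theorem not_eighty_four {G : Type*} [Group G] [Finite G] [IsSimpleGroup G]
    (h : Nat.card G = 84) : False := by
  have hfact : Fact (Nat.Prime 7) := ⟨by norm_num⟩
  obtain ⟨P⟩ : Nonempty (Sylow 7 G) := inferInstance
  have hP7 : Nat.card P = 7 := by
    rw [Sylow.card_eq_multiplicity, h]
    have : (84 : ℕ) = 7 ^ 1 * 12 := by norm_num
    rw [this, Nat.factorization_mul (by norm_num) (by norm_num)]
    have h12 : (12 : ℕ).factorization 7 = 0 :=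
      Nat.factorization_eq_zero_of_not_dvd (by norm_num)
    simp [h12, Nat.Prime.factorization_self (show Nat.Prime 7 by norm_num)]
  have hidx : (P : Subgroup G).index = 12 := by
    have := Subgroup.card_mul_index (P : Subgroup G)
    have hP7' : Nat.card (P : Subgroup G) = 7 := hP7
    rw [hP7', h] at this
    omega
  have h1 : Nat.card (Sylow 7 G) ≡ 1 [MOD 7] := card_sylow_modEq_one 7 G
  have h2 : Nat.card (Sylow 7 G) ∣ 12 := hidx ▸ Sylow.card_dvd_index P
  have h3 : Nat.card (Sylow 7 G) = 1 := by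
    have hle : Nat.card (Sylow 7 G) ≤ 12 := Nat.le_of_dvd (by norm_num) h2
    have hpos : 0 < Nat.card (Sylow 7 G) := Nat.card_pos
    unfold Nat.ModEq at h1
    interval_cases (Nat.card (Sylow 7 G)) <;> omega
  have hsub : Subsingleton (Sylow 7 G) := (Nat.card_eq_one_iff_unique.mp h3).1
  have hn : (P : Subgroup G).Normal := Sylow.normal_of_subsingleton P
  have hP7' : Nat.card (P : Subgroup G) = 7 := hP7
  rcases hn.eq_bot_or_eq_top with hb | ht
  · rw [hb] at hP7'; simp at hP7'
  · rw [ht, Subgroup.card_top, h] at hP7'; omega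

/-- A finite simple group of order at most 100 that is not cyclic has order 60. -/
theorem result {G : Type*} [Group G] [Finite G] [IsSimpleGroup G]
    (hG : ¬ IsCyclic G) (h : Nat.card G ≤ 100) : Nat.card G = 60 := by
  have hns := not_isSolvable hG
  rcases small_cases (Nat.card G) Nat.card_pos h with ⟨p, q, a, b, hp, hq, hcard⟩ | hc
  · exact absurd (Cfsg.Agent.S0144.result p q a b hp hq hcard) hns
  · rcases hc with hc | hc | hc | hc | hc | hc | hc | hc
    · have := two_mul_odd 15 (by decide) (by rw [hc]); omega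
    · have := two_mul_odd 21 (by decide) (by rw [hc]); omega
    · exact hc
    · have := two_mul_odd 33 (by decide) (by rw [hc]); omega
    · have := two_mul_odd 35 (by decide) (by rw [hc]); omega
    · have := two_mul_odd 39 (by decide) (by rw [hc]); omega
    · exact (not_eighty_four hc).elim
    · have := two_mul_odd 45 (by decide) (by rw [hc]); omega

end Cfsg.Agent.S0493
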