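import Mathlib
import Cfsg.Statements.S2119
import Cfsg.Agent.Lib.Helper11.AutAlt

set_option autoImplicit false
open Cfsg

namespace Cfsg.Agent.S2119

open Equiv Equiv.Perm Cfsg.Agent.Helper11.AutAlt


theorem num1 : ∀ K : ℕ, 3 ≤ K → 2 * 3 ^ K * K.factorial < 3 * (3 * K - 3).factorial := by
  intro K hK
  induction K, hK using Nat.le_induction with
  | base => decide
  | succ K hK ih =>
    obtain ⟨j, hj⟩ : ∃ j, 3 * K - 3 = j := ⟨_, rfl⟩
    have hj' : 3 * (K + 1) - 3 = j + 3 := by omega
    rw [hj] at ih
    rw [hj', Nat.factorial_succ, Nat.factorial_succ, Nat.factorial_succ, Nat.factorial_succ, pow_succ]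
    have hjK : j + 3 = 3 * K := by omega
    have hpos : 0 < j.factorial := Nat.factorial_pos j
    have h1 : 2 * 3 ^ K * K.factorial * (3 * (K + 1)) < 3 * j.factorial * (3 * (K + 1)) :=
      Nat.mul_lt_mul_of_pos_right ih (by positivity)
    have h2 : 3 * (K + 1) ≤ (j + 2 + 1) * ((j + 1 + 1) * (j + 1)) := by
      have : j + 2 + 1 = 3 * K := by omega
      rw [this]
      have h6 : 6 ≤ j := by omega
      have hX : 2 ≤ (j + 1 + 1) * (j + 1) := by nlinarith
      calc 3 * (K + 1) ≤ 3 * K * 2 := by omega
        _ ≤ 3 * K * ((j + 1 + 1) * (j + 1)) := Nat.mul_le_mul_left _ hX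
    calc 2 * (3 ^ K * 3) * ((K + 1) * K.factorial)
        = 2 * 3 ^ K * K.factorial * (3 * (K + 1)) := by ring
      _ < 3 * j.factorial * (3 * (K + 1)) := h1
      _ ≤ 3 * j.factorial * ((j + 2 + 1) * ((j + 1 + 1) * (j + 1))) := Nat.mul_le_mul_left _ h2
      _ = 3 * ((j + 2 + 1) * ((j + 1 + 1) * ((j + 1) * j.factorial))) := by ring

theorem num2 (m K : ℕ) (hK : 2 ≤ K) (hn : 7 ≤ m + 3 * K) :
    2 * (m.factorial * 3 ^ K * K.factorial) < 3 * (m + 3 * K - 3).factorial := by
  rcases Nat.lt_or_ge K 3 with h3 | h3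
  · have hK2 : K = 2 := by omega
    subst hK2
    obtain ⟨m', rfl⟩ : ∃ m', m = m' + 1 := ⟨m - 1, by omega⟩
    have e : m' + 1 + 3 * 2 - 3 = m' + 1 + 3 := by omega
    rw [e, Nat.factorial_succ (m' + 1 + 2), Nat.factorial_succ (m' + 1 + 1), Nat.factorial_succ (m' + 1)]
    have hpos : 0 < (m' + 1).factorial := Nat.factorial_pos _
    rw [Nat.factorial_two]
    generalize (m' + 1).factorial = F at hpos ⊢
    have hY : 24 ≤ (m' + 1 + 2 + 1) * ((m' + 1 + 1 + 1) * (m' + 1 + 1)) := by
      calc 24 = 4 * (3 * 2) := by norm_num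
        _ ≤ (m' + 1 + 2 + 1) * ((m' + 1 + 1 + 1) * (m' + 1 + 1)) :=
          Nat.mul_le_mul (by omega) (Nat.mul_le_mul (by omega) (by omega))
    calc 2 * (F * 3 ^ 2 * 2) = 36 * F := by ring
      _ < 72 * F := by omega
      _ = 3 * (24 * F) := by ring
      _ ≤ 3 * ((m' + 1 + 2 + 1) * ((m' + 1 + 1 + 1) * (m' + 1 + 1)) * F) :=
          Nat.mul_le_mul_left _ (Nat.mul_le_mul_right _ hY)
      _ = 3 * ((m' + 1 + 2 + 1) * ((m' + 1 + 1 + 1) * ((m' + 1 + 1) * F))) := by ring
  · have h1 := num1 K h3
    have e : m + 3 * K - 3 = m + (3 * K - 3) := by omega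
    rw [e]
    have h2 : m.factorial * (3 * K - 3).factorial ≤ (m + (3 * K - 3)).factorial :=
      Nat.le_of_dvd (Nat.factorial_pos _) (Nat.factorial_mul_factorial_dvd_factorial_add _ _)
    have hpos : 0 < m.factorial := Nat.factorial_pos m
    calc 2 * (m.factorial * 3 ^ K * K.factorial) = m.factorial * (2 * 3 ^ K * K.factorial) := by ring
      _ < m.factorial * (3 * (3 * K - 3).factorial) := Nat.mul_lt_mul_of_pos_left h1 hpos
      _ = 3 * (m.factorial * (3 * K - 3).factorial) := by ring
      _ ≤ 3 * (m + (3 * K - 3)).factorial := Nat.mul_le_mul_left _ h2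

variable {n : ℕ}

/-- the order of the centralizer of a product of `k` disjoint three-cycles -/
theorem card_centralizer_perm (g : Perm (Fin n)) (k : ℕ) (hk : 1 ≤ k)
    (hg : g.cycleType = Multiset.replicate k 3) :
    Nat.card (Subgroup.centralizer ({g} : Set (Perm (Fin n)))) =
      (n - 3 * k).factorial * 3 ^ k * k.factorial := by
  rw [Equiv.Perm.nat_card_centralizer, hg, Multiset.sum_replicate, Multiset.prod_replicate,
    Fintype.card_fin]
  have hfs : (Multiset.replicate k 3).toFinset = {3} := by
    ext a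
    simp only [Multiset.mem_toFinset, Multiset.mem_replicate, Finset.mem_singleton]
    constructor
    · rintro ⟨_, rfl⟩; rfl
    · rintro rfl; exact ⟨by omega, rfl⟩
  rw [hfs, Finset.prod_singleton, Multiset.count_replicate_self]
  simp [mul_comm]

/-- centralizers in the alternating group against centralizers in the symmetric group -/
theorem card_centralizer_alt_le (y : ↥(alternatingGroup (Fin n))) :
    Nat.card (Subgroup.centralizer ({y} : Set ↥(alternatingGroup (Fin n)))) ≤
      Nat.card (Subgroup.centralizer ({(y : Perm (Fin n))} : Set (Perm (Fin n)))) := by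
  apply Nat.card_le_card_of_injective
    (fun z : Subgroup.centralizer ({y} : Set ↥(alternatingGroup (Fin n))) =>
      (⟨((z : ↥(alternatingGroup (Fin n))) : Perm (Fin n)), by
        have := Subgroup.mem_centralizer_singleton_iff.1 z.2
        rw [Subgroup.mem_centralizer_singleton_iff]
        exact congrArg Subtype.val this⟩ :
        Subgroup.centralizer ({(y : Perm (Fin n))} : Set (Perm (Fin n)))))
  intro z w h
  apply Subtype.ext
  apply Subtype.ext
  have h' := congrArg Subtype.val h
  exact h'

theorem card_centralizer_le_two_mul (y : ↥(alternatingGroup (Fin n))) :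
    Nat.card (Subgroup.centralizer ({(y : Perm (Fin n))} : Set (Perm (Fin n)))) ≤
      2 * Nat.card (Subgroup.centralizer ({y} : Set ↥(alternatingGroup (Fin n)))) := by
  set C := Subgroup.centralizer ({(y : Perm (Fin n))} : Set (Perm (Fin n))) with hC
  let ψ : C →* ℤˣ := (Equiv.Perm.sign).comp C.subtype
  have h1 : Nat.card ψ.ker * ψ.ker.index = Nat.card C := Subgroup.card_mul_index _
  have h2 : ψ.ker.index ≤ 2 := by
    rw [Subgroup.index_ker]
    calc Nat.card ψ.range ≤ Nat.card ℤˣ := Nat.card_le_card_of_injective _ Subtype.val_injective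
      _ = 2 := by simp
  have h3 : Nat.card ψ.ker ≤
      Nat.card (Subgroup.centralizer ({y} : Set ↥(alternatingGroup (Fin n)))) := by
    apply Nat.card_le_card_of_injective
      (fun z : ψ.ker =>
        (⟨⟨((z : C) : Perm (Fin n)), by
            rw [Equiv.Perm.mem_alternatingGroup]
            exact z.2⟩, by
          rw [Subgroup.mem_centralizer_singleton_iff]
          apply Subtype.ext
          exact Subgroup.mem_centralizer_singleton_iff.1 (z : C).2⟩ :
          Subgroup.centralizer ({y} : Set ↥(alternatingGroup (Fin n)))))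
    intro z w h
    apply Subtype.ext
    apply Subtype.ext
    exact congrArg (fun u : Subgroup.centralizer ({y} : Set ↥(alternatingGroup (Fin n))) =>
      ((u : ↥(alternatingGroup (Fin n))) : Perm (Fin n))) h
  calc Nat.card C = Nat.card ψ.ker * ψ.ker.index := h1.symm
    _ ≤ Nat.card ψ.ker * 2 := Nat.mul_le_mul_left _ h2
    _ ≤ Nat.card (Subgroup.centralizer ({y} : Set ↥(alternatingGroup (Fin n)))) * 2 :=
        Nat.mul_le_mul_right _ h3
    _ = _ := by ring

theorem card_centralizer_map (φ : MulAut ↥(alternatingGroup (Fin n)))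
    (x : ↥(alternatingGroup (Fin n))) :
    Nat.card (Subgroup.centralizer ({φ x} : Set ↥(alternatingGroup (Fin n)))) =
      Nat.card (Subgroup.centralizer ({x} : Set ↥(alternatingGroup (Fin n)))) := by
  symm
  apply Nat.card_congr
  refine Equiv.subtypeEquiv φ.toEquiv ?_
  intro z
  rw [Subgroup.mem_centralizer_singleton_iff, Subgroup.mem_centralizer_singleton_iff]
  constructor
  · intro h
    show φ z * φ x = φ x * φ z
    rw [← map_mul, ← map_mul, h]
  · intro h
    have h' : φ z * φ x = φ x * φ z := h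
    rw [← map_mul, ← map_mul] at h'
    exact φ.injective h'

/-- automorphisms preserve three-cycles -/
theorem map_threeCycle (h6 : n ≠ 6) (φ : MulAut ↥(alternatingGroup (Fin n)))
    (x : ↥(alternatingGroup (Fin n))) (hx : (x : Perm (Fin n)).IsThreeCycle) :
    ((φ x : ↥(alternatingGroup (Fin n))) : Perm (Fin n)).IsThreeCycle := by
  have ho : orderOf ((φ x : ↥(alternatingGroup (Fin n))) : Perm (Fin n)) = 3 := by
    rw [Subgroup.orderOf_coe, MulEquiv.orderOf_eq, ← Subgroup.orderOf_coe, hx.orderOf]
  have hprime : (orderOf ((φ x : ↥(alternatingGroup (Fin n))) : Perm (Fin n))).Prime := by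
    rw [ho]; exact Nat.prime_three
  obtain ⟨k, hk⟩ := Equiv.Perm.cycleType_prime_order hprime
  rw [ho] at hk
  have hsum : 3 * (k + 1) ≤ n := by
    have h1 := Equiv.Perm.sum_cycleType ((φ x : ↥(alternatingGroup (Fin n))) : Perm (Fin n))
    rw [hk, Multiset.sum_replicate, smul_eq_mul] at h1
    have h2 := Finset.card_le_univ
      (((φ x : ↥(alternatingGroup (Fin n))) : Perm (Fin n)).support)
    rw [Fintype.card_fin] at h2
    omega
  rcases Nat.eq_zero_or_pos k with h0 | h0
  · subst h0
    show _ = _
    rw [hk]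
    rfl
  exfalso
  have hn7 : 7 ≤ n := by omega
  have c1 := card_centralizer_perm (x : Perm (Fin n)) 1 le_rfl (by rw [hx.cycleType]; rfl)
  have c2 := card_centralizer_perm _ (k + 1) (by omega) hk
  have i1 := card_centralizer_le_two_mul x
  have i2 := card_centralizer_alt_le (φ x)
  have i3 := card_centralizer_map φ x
  have hnum := num2 (n - 3 * (k + 1)) (k + 1) (by omega) (by omega)
  have e : n - 3 * (k + 1) + 3 * (k + 1) - 3 = n - 3 := by omega
  rw [e] at hnum
  have c1' : Nat.card (Subgroup.centralizer ({(x : Perm (Fin n))} : Set (Perm (Fin n)))) =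
      (n - 3).factorial * 3 := by
    rw [c1]; simp
  rw [c1'] at i1
  rw [c2] at i2
  rw [i3] at i2
  omega

/-- conjugation by a permutation centralizing the alternating group -/
theorem eq_one_of_conj_eq (hn : 4 ≤ n) (σ : Perm (Fin n))
    (h : ∀ g : Perm (Fin n), g ∈ alternatingGroup (Fin n) → σ * g * σ⁻¹ = g) : σ = 1 := by
  by_contra hne
  obtain ⟨x, hx⟩ : ∃ x, σ x ≠ x := by
    by_contra hall
    push Not at hall
    apply hne
    ext x
    simp [hall x]
  have hex : ∀ s : Finset (Fin n), s.card < n → ∃ z, z ∉ s := by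
    intro s hs
    by_contra hall
    push Not at hall
    have : s = Finset.univ := Finset.eq_univ_iff_forall.2 hall
    rw [this, Finset.card_univ, Fintype.card_fin] at hs
    exact lt_irrefl _ hs
  obtain ⟨z, hz⟩ := hex {x, σ x} (by
    calc _ ≤ 2 := Finset.card_le_two
      _ < n := by omega)
  obtain ⟨w, hw⟩ := hex {x, σ x, z} (by
    calc _ ≤ 3 := Finset.card_le_three
      _ < n := by omega)
  simp only [Finset.mem_insert, Finset.mem_singleton, not_or] at hz hw
  have hyz : σ x ≠ z := Ne.symm hz.2
  have hyw : σ x ≠ w := Ne.symm hw.2.1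
  have hzw : z ≠ w := Ne.symm hw.2.2
  have ht := c3_isThreeCycle hyz hyw hzw
  have hc := h _ ht.mem_alternatingGroup
  have h1 : σ * c3 (σ x) z w = c3 (σ x) z w * σ := by
    calc σ * c3 (σ x) z w = (σ * c3 (σ x) z w * σ⁻¹) * σ := by group
      _ = c3 (σ x) z w * σ := by rw [hc]
  have h2 := congrArg (fun f : Perm (Fin n) => f x) h1
  simp only [Perm.mul_apply] at h2
  have h3 : c3 (σ x) z w x = x := by
    simp only [c3, Perm.mul_apply, swap_apply_def]
    grind
  have h4 : c3 (σ x) z w (σ x) = z := by
    simp only [c3, Perm.mul_apply, swap_apply_def]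
    grind
  rw [h3, h4] at h2
  exact hyz h2


/-- every automorphism is a conjugation -/
theorem exists_conj (hn : 4 ≤ n) (h6 : n ≠ 6) (φ : MulAut ↥(alternatingGroup (Fin n))) :
    ∃ σ : Perm (Fin n), MulAut.conjNormal σ = φ := by
  classical
  set a0 : Fin n := ⟨0, by omega⟩ with ha0
  set a1 : Fin n := ⟨1, by omega⟩ with ha1
  have h01 : a0 ≠ a1 := by
    intro h
    have := congrArg Fin.val h
    simp [ha0, ha1] at this
  -- the generators
  let ι := {i : Fin n // i ≠ a0 ∧ i ≠ a1}
  let aI : ι → ↥(alternatingGroup (Fin n)) := fun i =>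
    ⟨c3 a0 a1 i, (c3_isThreeCycle h01 i.2.1.symm i.2.2.symm).mem_alternatingGroup⟩
  let b : ι → Perm (Fin n) := fun i => ((φ (aI i) : ↥(alternatingGroup (Fin n))) : Perm (Fin n))
  have hb : ∀ i, (b i).IsThreeCycle := fun i =>
    map_threeCycle h6 φ (aI i) (c3_isThreeCycle h01 i.2.1.symm i.2.2.symm)
  have hij : ∀ i j : ι, i ≠ j → (i : Fin n) ≠ j := fun i j h h' => h (Subtype.ext h')
  have h2 : ∀ i j, i ≠ j → b i * b j * (b i * b j) = 1 := by
    intro i j h
    have e : aI i * aI j * (aI i * aI j) = 1 := by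
      apply Subtype.ext
      exact c3_mul_sq h01 i.2.1 i.2.2 j.2.1 j.2.2 (hij i j h)
    have := congrArg (fun u : ↥(alternatingGroup (Fin n)) => (u : Perm (Fin n)))
      (congrArg φ e)
    simpa [b] using this
  have h1 : ∀ i j, i ≠ j → b i * b j ≠ 1 := by
    intro i j h hone
    have e : φ (aI i * aI j) = 1 := by
      apply Subtype.ext
      simpa [b] using hone
    have e' : aI i * aI j = 1 := by
      apply φ.injective
      rw [e, map_one]
    have := congrArg (fun u : ↥(alternatingGroup (Fin n)) => (u : Perm (Fin n))) e'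
    exact c3_mul_ne_one h01 i.2.1 i.2.2 j.2.1 j.2.2 (hij i j h) this
  have hi2 : (⟨2, by omega⟩ : Fin n) ≠ a0 ∧ (⟨2, by omega⟩ : Fin n) ≠ a1 := by
    constructor <;> intro h <;> have := congrArg Fin.val h <;> simp [ha0, ha1] at this
  have hi3 : (⟨3, by omega⟩ : Fin n) ≠ a0 ∧ (⟨3, by omega⟩ : Fin n) ≠ a1 := by
    constructor <;> intro h <;> have := congrArg Fin.val h <;> simp [ha0, ha1] at this
  let i₀ : ι := ⟨⟨2, by omega⟩, hi2⟩
  let i₁ : ι := ⟨⟨3, by omega⟩, hi3⟩
  have hi01 : i₀ ≠ i₁ := by
    intro h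
    have := congrArg (fun u : ι => ((u : Fin n) : ℕ)) h
    simp [i₀, i₁] at this
  obtain ⟨p, q, hqp, hpq⟩ := exists_common_edge_family b hb h2 h1 i₀ i₁ hi01
  have hbp : ∀ i, b i p ≠ p := fun i => by rw [hpq i]; exact hqp
  -- the permutation
  let f : Fin n → Fin n := fun w =>
    if h0 : w = a0 then p else if h1 : w = a1 then q else b ⟨w, h0, h1⟩ q
  have hr_p : ∀ i, b i q ≠ p := by
    intro i
    have := apply_apply_ne (hb i) (hbp i)
    rwa [hpq i] at this
  have hr_q : ∀ i, b i q ≠ q := by
    intro i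
    have := apply_apply_ne' (hbp i)
    rwa [hpq i] at this
  have hbeq : ∀ i, b i = c3 p q (b i q) := by
    intro i
    have := eq_c3 (hb i) (hbp i)
    rwa [hpq i] at this
  have hr_inj : ∀ i j, b i q = b j q → i = j := by
    intro i j h
    by_contra hne
    apply ne_of_sq (hb i) (h2 i j hne)
    rw [hbeq i, hbeq j, h]
  have hf : Function.Injective f := by
    intro w w' h
    simp only [f] at h
    by_cases h0 : w = a0 <;> by_cases h0' : w' = a0
    · rw [h0, h0']
    · by_cases h1' : w' = a1
      · simp only [h0, h0', h1', dite_true, dite_false] at h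
        exact absurd h.symm hqp
      · simp only [h0, h0', h1', dite_true, dite_false] at h
        exact absurd h.symm (hr_p _)
    · by_cases h1 : w = a1
      · simp only [h0, h0', h1, dite_true, dite_false] at h
        exact absurd h hqp
      · simp only [h0, h0', h1, dite_true, dite_false] at h
        exact absurd h (hr_p _)
    · by_cases h1 : w = a1 <;> by_cases h1' : w' = a1
      · rw [h1, h1']
      · simp only [h0, h0', h1, h1', dite_true, dite_false] at h
        exact absurd h.symm (hr_q _)
      · simp only [h0, h0', h1, h1', dite_true, dite_false] at h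
        exact absurd h (hr_q _)
      · simp only [h0, h0', h1, h1', dite_false] at h
        have := hr_inj _ _ h
        exact congrArg (fun u : ι => (u : Fin n)) this
  let σ : Perm (Fin n) := Equiv.ofBijective f (Finite.injective_iff_bijective.1 hf)
  have hσ0 : σ a0 = p := by
    show f a0 = p
    simp [f]
  have hσ1 : σ a1 = q := by
    show f a1 = q
    simp [f, Ne.symm h01]
  have hσi : ∀ i : ι, σ i = b i q := by
    intro i
    show f i = b i q
    simp [f, i.2.1, i.2.2]
  refine ⟨σ, ?_⟩
  -- the two automorphisms agree on the generators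
  have hgen : Subgroup.closure (Set.range aI) = ⊤ := by
    apply Subgroup.map_injective (alternatingGroup (Fin n)).subtype_injective
    rw [MonoidHom.map_closure, ← MonoidHom.range_eq_map, Subgroup.range_subtype]
    refine Eq.trans ?_ (closure_c3 h01)
    congr 1
    ext g
    simp only [Set.mem_image, Set.mem_range, Set.mem_setOf_eq]
    constructor
    · rintro ⟨_, ⟨i, rfl⟩, rfl⟩
      exact ⟨i, i.2.1, i.2.2, rfl⟩
    · rintro ⟨x, hx0, hx1, rfl⟩
      exact ⟨_, ⟨⟨x, hx0, hx1⟩, rfl⟩, rfl⟩
  apply MulEquiv.toMonoidHom_injective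
  apply MonoidHom.eq_of_eqOn_dense hgen
  rintro _ ⟨i, rfl⟩
  apply Subtype.ext
  show ((MulAut.conjNormal σ (aI i) : ↥(alternatingGroup (Fin n))) : Perm (Fin n)) = b i
  rw [MulAut.conjNormal_apply]
  show σ * c3 a0 a1 i * σ⁻¹ = b i
  rw [conj_c3, hσ0, hσ1, hσi, ← hbeq]

/-- Automorphisms of the alternating groups: for n ≥ 4 with n ≠ 6, every automorphism of the alternating group of degree n is conjugation by a unique permutation, i.e. conjugation induces an isomorphism from the symmetric group of degree n onto the automorphism group of the alternating group (so the outer automorphism group has order 2). -/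
theorem result (n : ℕ) (hn : 4 ≤ n) (h6 : n ≠ 6) : Function.Bijective (MulAut.conjNormal : Equiv.Perm (Fin n) →* MulAut ↥(alternatingGroup (Fin n))) := by
  constructor
  · rw [injective_iff_map_eq_one]
    intro σ hσ
    apply eq_one_of_conj_eq hn σ
    intro g hg
    have := congrArg (fun ψ : MulAut ↥(alternatingGroup (Fin n)) =>
      ((ψ ⟨g, hg⟩ : ↥(alternatingGroup (Fin n))) : Perm (Fin n))) hσ
    simpa [MulAut.conjNormal_apply] using this
  · intro φ
    exact exists_conj hn h6 φ

end Cfsg.Agent.S2119
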