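import Mathlib
import Cfsg.Statements.S0764

set_option autoImplicit false
open Cfsg

namespace Cfsg.Agent.S0764

open Matrix

theorem dot_J_self {F : Type*} [CommRing F] (m : ℕ) (v : Fin m ⊕ Fin m → F) :
    v ⬝ᵥ (Matrix.J (Fin m) F *ᵥ v) = 0 := by
  simp only [Matrix.J, dotProduct, Matrix.mulVec, Fintype.sum_sum_type, Matrix.fromBlocks_apply₁₁,
    Matrix.fromBlocks_apply₁₂, Matrix.fromBlocks_apply₂₁, Matrix.fromBlocks_apply₂₂]
  simp [Matrix.one_apply, Finset.sum_ite_eq]
  rw [neg_add_eq_zero]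
  exact Finset.sum_congr rfl (fun x _ => mul_comm _ _)

theorem J_mulVec_J {F : Type*} [CommRing F] (m : ℕ) (v : Fin m ⊕ Fin m → F) :
    Matrix.J (Fin m) F *ᵥ (Matrix.J (Fin m) F *ᵥ v) = -v := by
  rw [Matrix.mulVec_mulVec, Matrix.J_squared, Matrix.neg_mulVec, Matrix.one_mulVec]

theorem Jv_vecMul_J {F : Type*} [CommRing F] (m : ℕ) (v : Fin m ⊕ Fin m → F) :
    (Matrix.J (Fin m) F *ᵥ v) ᵥ* Matrix.J (Fin m) F = v := by
  rw [← Matrix.vecMul_transpose, Matrix.vecMul_vecMul, Matrix.J_transpose, Matrix.neg_mul,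
    Matrix.J_squared, neg_neg, Matrix.vecMul_one]

/-- Symplectic transvections are isometries: for every vector v and scalar c the matrix of x ↦ x + c f(x, v) v lies in the symplectic group. -/
theorem result {F : Type*} [Field F] (m : ℕ) (v : Fin m ⊕ Fin m → F) (c : F) : Cfsg.sympTransvection m v c ∈ Matrix.symplecticGroup (Fin m) F := by
  rw [SymplecticGroup.mem_iff]
  unfold Cfsg.sympTransvection
  set w := Matrix.J (Fin m) F *ᵥ v with hw
  have hT : (1 + c • Matrix.vecMulVec v w)ᵀ = 1 + c • Matrix.vecMulVec w v := by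
    rw [Matrix.transpose_add, Matrix.transpose_one, Matrix.transpose_smul, Matrix.transpose_vecMulVec]
  rw [hT, Matrix.add_mul, Matrix.one_mul, Matrix.smul_mul, Matrix.vecMulVec_mul, Jv_vecMul_J,
    Matrix.add_mul, Matrix.mul_add, Matrix.mul_add, Matrix.mul_one, Matrix.mul_one, Matrix.mul_smul,
    Matrix.mul_vecMulVec, J_mulVec_J, Matrix.smul_mul, Matrix.mul_smul, Matrix.vecMulVec_mul_vecMulVec,
    dot_J_self, zero_smul, Matrix.vecMulVec_zero, smul_zero, smul_zero, add_zero, Matrix.neg_vecMulVec,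
    smul_neg]
  abel

end Cfsg.Agent.S0764
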