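import Mathlib
import Cfsg.Statements.S0599
import Cfsg.Agent.Lib.Helper27.Timmesfeld
import Cfsg.Agent.Lib.Helper27.NilAction
import Cfsg.Agent.Lib.Helper3.Thompson

set_option autoImplicit false
open Cfsg
open scoped commutatorElement

namespace Cfsg.Agent.S0599

open Cfsg.Agent.Helper27

/-- The Timmesfeld replacement Theorem: replacing a best offender A by C_A([U, A]) gives a best offender with fixed points [U, A]C_V(A), still nontrivial on V if A was. -/
theorem result {G : Type*} [Group G] [Finite G] {p : ℕ} [Fact p.Prime] (V A : Subgroup G) (hV : Cfsg.IsElementaryAbelian p V) (hAV : A ≤ Subgroup.normalizer (V : Set G)) (hA : Cfsg.IsBestOffenderOn p V A) (U : Subgroup G) (hU : U ≤ V) : Cfsg.IsBestOffenderOn p V (A ⊓ Subgroup.centralizer ((⁅U, A⁆ : Subgroup G) : Set G)) ∧ V ⊓ Subgroup.centralizer ((A ⊓ Subgroup.centralizer ((⁅U, A⁆ : Subgroup G) : Set G) : Subgroup G) : Set G) = ⁅U, A⁆ ⊔ (V ⊓ Subgroup.centralizer (A : Set G)) ∧ (⁅V, A⁆ ≠ ⊥ → ⁅V, A ⊓ Subgroup.centralizer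 ((⁅U, A⁆ : Subgroup G) : Set G)⁆ ≠ ⊥) := by
  classical
  obtain ⟨hbest, hab, hpow⟩ := hA
  have hcomm : ∀ x ∈ V, ∀ y ∈ V, x * y = y * x := fun x hx y hy =>
    Helper3.IsElementaryAbelian.commute hV hx hy
  have h : TimHyp V A := ⟨hcomm, hAV, hab, hbest⟩
  set X := ⁅U, A⁆ with hX
  set A₀ := A ⊓ Subgroup.centralizer (X : Set G) with hA₀
  set C := V ⊓ Subgroup.centralizer (A : Set G) with hC
  have hgood : Nat.card A * Nat.card C ≤ Nat.card A₀ * Nat.card (X ⊔ C : Subgroup G) :=
    h.good_commutator hU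
  have hXV : X ≤ V := by
    refine (Subgroup.commutator_mono hU le_rfl).trans ?_
    exact Subgroup.le_normalizer_iff_commutator_le_left.mp hAV
  have hA₀A : A₀ ≤ A := inf_le_left
  have hle : X ⊔ C ≤ V ⊓ Subgroup.centralizer (A₀ : Set G) := by
    apply sup_le
    · apply le_inf hXV
      rw [Subgroup.le_centralizer_iff]
      exact inf_le_right
    · exact le_inf inf_le_left
        (inf_le_right.trans (Subgroup.centralizer_le (SetLike.coe_subset_coe.mpr hA₀A)))
  have hb0 := hbest A₀ hA₀A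
  have hA₀pos : 0 < Nat.card A₀ := Nat.card_pos
  have hcard : Nat.card (V ⊓ Subgroup.centralizer (A₀ : Set G) : Subgroup G) ≤
      Nat.card (X ⊔ C : Subgroup G) :=
    Nat.le_of_mul_le_mul_left (hb0.trans hgood) hA₀pos
  have heq : V ⊓ Subgroup.centralizer (A₀ : Set G) = X ⊔ C :=
    (Subgroup.eq_of_le_of_card_ge hle hcard).symm
  refine ⟨⟨?_, ?_, ?_⟩, heq, ?_⟩
  · intro B hB
    calc Nat.card B * Nat.card (V ⊓ Subgroup.centralizer (B : Set G) : Subgroup G)
        ≤ Nat.card A * Nat.card C := hbest B (hB.trans hA₀A)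
      _ ≤ Nat.card A₀ * Nat.card (X ⊔ C : Subgroup G) := hgood
      _ = Nat.card A₀ * Nat.card (V ⊓ Subgroup.centralizer (A₀ : Set G) : Subgroup G) := by
          rw [heq]
  · exact (Subgroup.commutator_mono hA₀A hA₀A).trans hab
  · intro a ha
    exact hpow a (hA₀A ha)
  · intro hVA hVA₀
    apply hVA
    have hVcent : V ≤ Subgroup.centralizer (A₀ : Set G) :=
      Subgroup.commutator_eq_bot_iff_le_centralizer.mp hVA₀
    have hVeq : V = X ⊔ C := by
      rw [← heq]
      exact (inf_of_le_left hVcent).symm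
    set R := ⁅V, A⁆ with hR
    have hRV : R ≤ V := Subgroup.le_normalizer_iff_commutator_le_left.mp hAV
    have hXR : X ≤ R := Subgroup.commutator_mono hU le_rfl
    -- the subgroup of `V` whose commutators with `A` land in `⁅R, A⁆`
    let D : Subgroup G :=
      { carrier := {v | v ∈ V ∧ ∀ a ∈ A, ⁅v, a⁆ ∈ ⁅R, A⁆}
        mul_mem' := by
          rintro v w ⟨hv, hv'⟩ ⟨hw, hw'⟩
          refine ⟨V.mul_mem hv hw, fun a ha => ?_⟩
          have hwa : ⁅w, a⁆ ∈ V := h.comm_mem hw ha
          have h1 : ⁅v * w, a⁆ = (v * ⁅w, a⁆ * v⁻¹) * ⁅v, a⁆ := by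
            simp only [commutatorElement_def]; group
          have h2 : v * ⁅w, a⁆ * v⁻¹ = ⁅w, a⁆ := by
            rw [hcomm v hv _ hwa]; group
          rw [h1, h2]
          exact Subgroup.mul_mem _ (hw' a ha) (hv' a ha)
        one_mem' := by
          refine ⟨V.one_mem, fun a _ => ?_⟩
          rw [commutatorElement_def]
          simp
        inv_mem' := by
          rintro v ⟨hv, hv'⟩
          refine ⟨V.inv_mem hv, fun a ha => ?_⟩
          have hva : ⁅v, a⁆ ∈ V := h.comm_mem hv ha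
          have h1 : ⁅v⁻¹, a⁆ = v⁻¹ * ⁅v, a⁆⁻¹ * v := by
            simp only [commutatorElement_def]; group
          have h2 : v⁻¹ * ⁅v, a⁆⁻¹ * v = ⁅v, a⁆⁻¹ := by
            rw [hcomm v⁻¹ (V.inv_mem hv) _ (V.inv_mem hva)]; group
          rw [h1, h2]
          exact Subgroup.inv_mem _ (hv' a ha) }
    have hXD : X ≤ D := by
      intro x hx
      exact ⟨hXV hx, fun a ha => Subgroup.commutator_mem_commutator (hXR hx) ha⟩
    have hCD : C ≤ D := by
      intro w hw
      refine ⟨hw.1, fun a ha => ?_⟩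
      have := hw.2 a ha
      have h1 : ⁅w, a⁆ = 1 := by
        rw [commutatorElement_def]
        calc w * a * w⁻¹ * a⁻¹ = (w * a) * w⁻¹ * a⁻¹ := by group
          _ = (a * w) * w⁻¹ * a⁻¹ := by rw [this]
          _ = 1 := by group
      rw [h1]
      exact Subgroup.one_mem _
    have hVD : V ≤ D := by
      rw [hVeq]
      exact sup_le hXD hCD
    have hRR : R ≤ ⁅R, A⁆ := by
      rw [hR, Subgroup.commutator_le]
      intro v hv a ha
      exact (hVD hv).2 a ha
    exact eq_bot_of_le_commutator V A (Helper3.IsElementaryAbelian.isPGroup hV) hAV hpow R hRV hRR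

end Cfsg.Agent.S0599
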