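import Mathlib
import Cfsg.Statements.S0606
import Cfsg.Agent.Lib.Helper3.Thompson

set_option autoImplicit false
open Cfsg

namespace Cfsg.Agent.S0606

open Cfsg.Agent.Helper3

theorem result {G : Type*} [Group G] [Finite G] {p : ℕ} [Fact p.Prime] (V : Subgroup G) [V.Normal] (hV : Cfsg.IsElementaryAbelian p V) (A : Subgroup G) (hA : A ∈ Cfsg.maxElementaryAbelianSubgroups p G) : Cfsg.IsBestOffenderOn p V A := by
  have hAab : A ≤ Subgroup.centralizer (A : Set G) := by
    have := hA.1.1
    exact Subgroup.le_centralizer_iff_isMulCommutative.mpr this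
  refine ⟨fun B hBA => ?_, ?_, ?_⟩
  · set C := V ⊓ Subgroup.centralizer (B : Set G) with hC
    have hBel : IsElementaryAbelian p B := isElementaryAbelian_mono hBA hA.1
    have hCel : IsElementaryAbelian p C := isElementaryAbelian_mono inf_le_left hV
    have hBC : IsElementaryAbelian p (B ⊔ C) := isElementaryAbelian_sup hBel hCel inf_le_right
    have h1 : Nat.card (B ⊔ C : Subgroup G) ≤ Nat.card A := hA.2 _ hBC
    have h2 := card_mul_card_le_card_sup_mul_card_inf B C
    have h3 : B ⊓ C ≤ V ⊓ Subgroup.centralizer (A : Set G) := by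
      intro x hx
      obtain ⟨hxB, hxC⟩ := Subgroup.mem_inf.mp hx
      exact Subgroup.mem_inf.mpr ⟨(Subgroup.mem_inf.mp hxC).1, hAab (hBA hxB)⟩
    have h4 : Nat.card (B ⊓ C : Subgroup G) ≤ Nat.card (V ⊓ Subgroup.centralizer (A : Set G) : Subgroup G) :=
      Subgroup.card_le_of_le h3
    calc Nat.card B * Nat.card C ≤ Nat.card (B ⊔ C : Subgroup G) * Nat.card (B ⊓ C : Subgroup G) := h2
      _ ≤ Nat.card A * Nat.card (V ⊓ Subgroup.centralizer (A : Set G) : Subgroup G) :=
          Nat.mul_le_mul h1 h4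
  · have : ⁅A, A⁆ = ⊥ := by
      rw [Subgroup.commutator_eq_bot_iff_le_centralizer]
      exact hAab
    rw [this]; exact bot_le
  · intro a ha
    rw [hA.1.2 a ha]
    exact Subgroup.one_mem _

end Cfsg.Agent.S0606
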