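import Mathlib
import Cfsg.Agent.Lib.Helper22.PermCentralizer
import Cfsg.Statements.S0718
-- import your own Cfsg.Agent.* helpers here

set_option autoImplicit false
open Cfsg

namespace Cfsg.Agent.S0718

open Cfsg.Agent.Helper22.PermCent Cfsg.Agent.Helper24 Module


/-- Multiplicity-freeness of the permutation character is equivalent to commutativity of the centraliser ring, i.e. of the algebra of `G`-equivariant endomorphisms of the complex permutation module. -/
theorem result {G : Type*} [Group G] [Fintype G] {Ω : Type*} [Fintype Ω] [MulAction G Ω] : (∀ χ : G → ℂ, Cfsg.IsIrrCharacter G χ → Cfsg.classInner (fun g : G => (Nat.card (MulAction.fixedBy Ω g) : ℂ)) χ = 0 ∨ Cfsg.classInner (fun g : G => (Nat.card (MulAction.fixedBy Ω g) : ℂ)) χ = 1) ↔ ∀ S T : (Ω → ℂ) →ₗ[ℂ] (Ω → ℂ), S ∈ ((Cfsg.permRep ℂ G Ω).linHom (Cfsg.permRep ℂ G Ω)).invariants → T ∈ ((Cfsg.permRep ℂ G Ω).linHom (Cfsg.permRep ℂ G Ω)).invariants → S ∘ₗ T = T ∘ₗ S := by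
  have hπ : (fun g : G => (Nat.card (MulAction.fixedBy Ω g) : ℂ)) =
      (Cfsg.permRep ℂ G Ω).character := by
    funext g; rw [permRep_character]
  rw [hπ]
  constructor
  · intro hmf S T hS hT
    exact comm_of_multFree (Cfsg.permRep ℂ G Ω) hmf S T hS hT
  · intro hcomm χ hχ
    obtain ⟨n, σ, hσ, rfl⟩ := hχ
    have h1 := finrank_linHom_invariants σ (Cfsg.permRep ℂ G Ω)
    rw [← h1]
    by_cases h2 : 2 ≤ finrank ℂ (Representation.linHom σ (Cfsg.permRep ℂ G Ω)).invariants
    · exfalso
      obtain ⟨A, B, hA, hB, hne⟩ := exists_noncomm σ hσ (Cfsg.permRep ℂ G Ω) h2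
      exact hne (hcomm A B hA hB)
    · have h3 : finrank ℂ (Representation.linHom σ (Cfsg.permRep ℂ G Ω)).invariants = 0 ∨
          finrank ℂ (Representation.linHom σ (Cfsg.permRep ℂ G Ω)).invariants = 1 := by omega
      rcases h3 with h | h
      · left; rw [h]; simp
      · right; rw [h]; simp

end Cfsg.Agent.S0718
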