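import Mathlib
import Cfsg.Agent.Lib.Helper22.PermSymm
import Cfsg.Agent.S0718
import Cfsg.Statements.S0717
-- import your own Cfsg.Agent.* helpers here

set_option autoImplicit false
open Cfsg

namespace Cfsg.Agent.S0717

open Cfsg.Agent.Helper22.PermCent Cfsg.Agent.Helper24 Module
open scoped ComplexConjugate

section aux

variable {G : Type*} [Group G] [Fintype G] {Ω : Type*} [Fintype Ω] [MulAction G Ω]

omit [Fintype G] in
/-- the centralizer ring is closed under products -/
theorem mul_mem_centralizer [DecidableEq Ω] {S T : Module.End ℂ (Ω → ℂ)}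
    (hS : S ∈ (Representation.linHom (Cfsg.permRep ℂ G Ω) (Cfsg.permRep ℂ G Ω)).invariants)
    (hT : T ∈ (Representation.linHom (Cfsg.permRep ℂ G Ω) (Cfsg.permRep ℂ G Ω)).invariants) :
    S * T ∈ (Representation.linHom (Cfsg.permRep ℂ G Ω) (Cfsg.permRep ℂ G Ω)).invariants := by
  rw [mem_centralizer_iff] at hS hT ⊢
  intro g x y
  rw [ent_mul, ent_mul, ← Equiv.sum_comp (MulAction.toPerm g : Equiv.Perm Ω)]
  refine Finset.sum_congr rfl fun z _ => ?_
  rw [MulAction.toPerm_apply, hS, hT]

/-- operator with a prescribed kernel -/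
noncomputable def kerOp (K : Ω → Ω → ℂ) : Module.End ℂ (Ω → ℂ) where
  toFun f x := ∑ y, K x y * f y
  map_add' f₁ f₂ := by
    funext x
    simp only [Pi.add_apply, mul_add, Finset.sum_add_distrib]
  map_smul' c f := by
    funext x
    simp only [Pi.smul_apply, smul_eq_mul, RingHom.id_apply, Finset.mul_sum]
    refine Finset.sum_congr rfl fun y _ => ?_
    ring

theorem ent_kerOp [DecidableEq Ω] (K : Ω → Ω → ℂ) (x y : Ω) : ent (kerOp K) x y = K x y := by
  show ∑ z, K x z * (Pi.single y (1 : ℂ) : Ω → ℂ) z = K x y
  rw [Finset.sum_eq_single y]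
  · rw [Pi.single_eq_same, mul_one]
  · intro z _ hz
    rw [Pi.single_eq_of_ne hz, mul_zero]
  · intro h; exact absurd (Finset.mem_univ y) h

end aux


/-- All suborbits of a transitive group are self-paired (every pair of points is interchanged by some group element) if and only if the permutation character is multiplicity-free and each of its irreducible constituents is real-valued. -/
theorem result {G : Type*} [Group G] [Fintype G] {Ω : Type*} [Fintype Ω] [MulAction G Ω] [MulAction.IsPretransitive G Ω] : (∀ a b : Ω, ∃ g : G, g • a = b ∧ g • b = a) ↔ ∀ χ : G → ℂ, Cfsg.IsIrrCharacter G χ → Cfsg.classInner (fun g : G => (Nat.card (MulAction.fixedBy Ω g) : ℂ)) χ ≠ 0 → Cfsg.classInner (fun g : G => (Nat.card (MulAction.fixedBy Ω g) : ℂ)) χ = 1 ∧ ∀ g : G, (starRingEnd ℂ) (χ g) = χ g := by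
  classical
  letI := irrFintype (G := G)
  have hπ : (fun g : G => (Nat.card (MulAction.fixedBy Ω g) : ℂ)) =
      (Cfsg.permRep ℂ G Ω).character := by
    funext g; rw [permRep_character]
  have h718 := Cfsg.Agent.S0718.result (G := G) (Ω := Ω)
  rw [hπ] at h718 ⊢
  set ρ := Cfsg.permRep ℂ G Ω with hρ
  constructor
  · intro hswap
    have hsym : ∀ T : Module.End ℂ (Ω → ℂ), T ∈ (Representation.linHom ρ ρ).invariants →
        ∀ x y, ent T x y = ent T y x := by
      intro T hT x y
      obtain ⟨g, hg1, hg2⟩ := hswap x y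
      have := (mem_centralizer_iff T).mp hT g x y
      rw [hg1, hg2] at this
      exact this.symm
    have hcomm : ∀ S T : (Ω → ℂ) →ₗ[ℂ] (Ω → ℂ), S ∈ (Representation.linHom ρ ρ).invariants →
        T ∈ (Representation.linHom ρ ρ).invariants → S ∘ₗ T = T ∘ₗ S := by
      intro S T hS hT
      show S * T = T * S
      apply ext_ent
      intro x y
      rw [hsym (S * T) (mul_mem_centralizer hS hT) x y, ent_mul, ent_mul]
      refine Finset.sum_congr rfl fun z _ => ?_
      rw [hsym S hS y z, hsym T hT z x, mul_comm]
    have hmf := h718.mpr hcomm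
    intro χ hχ hne
    have h1 : Cfsg.classInner ρ.character χ = 1 := by
      rcases hmf χ hχ with h | h
      · exact absurd h hne
      · exact h
    refine ⟨h1, ?_⟩
    have hχc := isClassFunction_of_isIrrCharacter hχ
    have hχbar := isIrrCharacter_conj hχ
    have hEq : idem χ ρ = idem (fun g => conj (χ g)) ρ := by
      apply ext_ent
      intro x y
      rw [hsym _ (idem_mem_invariants hχc ρ) x y, ent_idem_transpose hχ]
    have hne0 : idem χ ρ ≠ 0 := by
      apply idem_ne_zero hχ ρ
      rw [← classInner_conj_symm, h1, map_one]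
      exact one_ne_zero
    by_contra hnot
    have hne' : χ ≠ fun g => conj (χ g) := by
      intro h
      apply hnot
      intro g
      exact (congrFun h g).symm
    have h2 := idem_mul_idem hχ hχbar ρ
    rw [if_neg hne', ← hEq] at h2
    have h3 := idem_mul_idem hχ hχ ρ
    rw [if_pos rfl, h2] at h3
    exact hne0 h3.symm
  · intro hyp a b
    have hmf : ∀ χ : G → ℂ, Cfsg.IsIrrCharacter G χ →
        Cfsg.classInner ρ.character χ = 0 ∨ Cfsg.classInner ρ.character χ = 1 := by
      intro χ hχ
      by_cases h : Cfsg.classInner ρ.character χ = 0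
      · exact Or.inl h
      · exact Or.inr (hyp χ hχ h).1
    have hsym : ∀ T : Module.End ℂ (Ω → ℂ), T ∈ (Representation.linHom ρ ρ).invariants →
        ∀ x y, ent T x y = ent T y x := by
      intro T hT
      rw [← span_idem_eq ρ hmf] at hT
      induction hT using Submodule.span_induction with
      | mem T hT =>
        obtain ⟨χ, rfl⟩ := hT
        intro x y
        have hreal := (hyp χ.1.1 χ.1.2 (by rw [χ.2]; exact one_ne_zero)).2
        have : (fun g => conj ((χ.1 : G → ℂ) g)) = (χ.1 : G → ℂ) := funext hreal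
        have h1 := ent_idem_transpose (Ω := Ω) χ.1.2 y x
        rw [this] at h1
        exact h1
      | zero => intro x y; rfl
      | add S T _ _ hS hT =>
        intro x y
        rw [ent_add, ent_add, hS, hT]
      | smul c T _ hT =>
        intro x y
        rw [ent_smul, ent_smul, hT]
    let K : Ω → Ω → ℂ := fun x y => if ∃ g : G, g • x = a ∧ g • y = b then 1 else 0
    have hKmem : kerOp K ∈ (Representation.linHom ρ ρ).invariants := by
      rw [mem_centralizer_iff]
      intro g x y
      rw [ent_kerOp, ent_kerOp]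
      have : (∃ h : G, h • g • x = a ∧ h • g • y = b) ↔ (∃ h : G, h • x = a ∧ h • y = b) := by
        constructor
        · rintro ⟨h, h1, h2⟩
          exact ⟨h * g, by rw [mul_smul]; exact h1, by rw [mul_smul]; exact h2⟩
        · rintro ⟨h, h1, h2⟩
          exact ⟨h * g⁻¹, by rw [mul_smul, inv_smul_smul]; exact h1,
            by rw [mul_smul, inv_smul_smul]; exact h2⟩
      show (if ∃ h : G, h • g • x = a ∧ h • g • y = b then (1 : ℂ) else 0) =
        if ∃ h : G, h • x = a ∧ h • y = b then 1 else 0
      rw [if_congr this rfl rfl]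
    have h1 := hsym _ hKmem a b
    rw [ent_kerOp, ent_kerOp] at h1
    have h2 : K a b = 1 := if_pos ⟨1, one_smul _ _, one_smul _ _⟩
    rw [h2] at h1
    by_contra hno
    have h3 : K b a = 0 := by
      apply if_neg
      rintro ⟨g, hg1, hg2⟩
      exact hno ⟨g, hg2, hg1⟩
    rw [h3] at h1
    exact one_ne_zero h1

end Cfsg.Agent.S0717
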