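import Mathlib
import Cfsg.Agent.Lib.Helper22.PermSymm
import Cfsg.Agent.Lib.Helper22.CentralizerTrace
import Cfsg.Agent.Lib.Helper18.PermCharOrbits
import Cfsg.Agent.S0717
import Cfsg.Statements.S0715
-- import your own Cfsg.Agent.* helpers here

set_option autoImplicit false
open Cfsg

namespace Cfsg.Agent.S0715

open Cfsg.Agent.Helper22.PermCent Cfsg.Agent.Helper24 Module
open scoped ComplexConjugate

section aux

variable {G : Type*} [Group G] {Ω : Type*} [Fintype Ω] [MulAction G Ω]

/-- members of the centralizer ring commute with the representation -/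
theorem commute_of_mem_invariants {V : Type*} [AddCommGroup V] [Module ℂ V]
    (ρ : Representation ℂ G V) {T : Module.End ℂ V}
    (hT : T ∈ (Representation.linHom ρ ρ).invariants) (g : G) : Commute T (ρ g) := by
  rw [Representation.mem_invariants] at hT
  have h1 := hT g
  rw [Representation.linHom_apply] at h1
  show T * ρ g = ρ g * T
  conv_lhs => rw [← h1]
  ext v
  simp only [Module.End.mul_apply, LinearMap.comp_apply]
  rw [rep_inv_apply]

/-- the orbital kernel attached to a pair of points -/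
noncomputable def orbK (G : Type*) [Group G] {Ω : Type*} [MulAction G Ω] (a b : Ω) :
    Ω → Ω → ℤ := by
  classical
  exact fun x y => if ∃ g : G, g • x = a ∧ g • y = b then 1 else 0

omit [Fintype Ω] in
theorem orbK_smul (a b : Ω) (g : G) (x y : Ω) : orbK G a b (g • x) (g • y) = orbK G a b x y := by
  classical
  have : (∃ h : G, h • g • x = a ∧ h • g • y = b) ↔ (∃ h : G, h • x = a ∧ h • y = b) := by
    constructor
    · rintro ⟨h, h1, h2⟩
      exact ⟨h * g, by rw [mul_smul]; exact h1, by rw [mul_smul]; exact h2⟩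
    · rintro ⟨h, h1, h2⟩
      exact ⟨h * g⁻¹, by rw [mul_smul, inv_smul_smul]; exact h1,
        by rw [mul_smul, inv_smul_smul]; exact h2⟩
  unfold orbK
  rw [if_congr this rfl rfl]

/-- row sums of the orbital kernel are the subdegree -/
theorem sum_orbK [MulAction.IsPretransitive G Ω] (a b x : Ω) :
    ∑ y, orbK G a b x y = (Nat.card (MulAction.orbit (MulAction.stabilizer G a) b) : ℤ) := by
  classical
  unfold orbK
  rw [Finset.sum_boole, ← Fintype.card_subtype, ← Nat.card_eq_fintype_card]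
  congr 1
  obtain ⟨g₀, hg₀⟩ := MulAction.exists_smul_eq G x a
  apply Nat.card_congr
  refine ⟨fun y => ⟨g₀ • y.1, ?_⟩, fun z => ⟨g₀⁻¹ • z.1, ?_⟩, ?_, ?_⟩
  · obtain ⟨g, hg1, hg2⟩ := y.2
    have hmem : g * g₀⁻¹ ∈ MulAction.stabilizer G a := by
      rw [MulAction.mem_stabilizer_iff, mul_smul, ← hg₀, inv_smul_smul, hg1, hg₀]
    refine ⟨(⟨g * g₀⁻¹, hmem⟩ : MulAction.stabilizer G a)⁻¹, ?_⟩
    show (g * g₀⁻¹)⁻¹ • b = g₀ • y.1
    rw [inv_smul_eq_iff, mul_smul, inv_smul_smul, hg2]
  · obtain ⟨h, hh⟩ := z.2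
    refine ⟨(h : G)⁻¹ * g₀, ?_, ?_⟩
    · rw [mul_smul, hg₀, inv_smul_eq_iff]
      exact (MulAction.mem_stabilizer_iff.mp h.2).symm
    · rw [mul_smul, smul_inv_smul, inv_smul_eq_iff]
      exact hh.symm
  · intro y
    apply Subtype.ext
    simp
  · intro z
    apply Subtype.ext
    simp

end aux


/-- If a natural number `f` divides the degree of every non-principal irreducible constituent of the permutation character of a transitive group, then `f` divides every non-trivial subdegree. -/
theorem result {G : Type*} [Group G] [Fintype G] {Ω : Type*} [Fintype Ω] [MulAction G Ω] [MulAction.IsPretransitive G Ω] (f : ℕ) (hf : ∀ χ : G → ℂ, Cfsg.IsIrrCharacter G χ → χ ≠ (fun _ => 1) → Cfsg.classInner (fun g : G => (Nat.card (MulAction.fixedBy Ω g) : ℂ)) χ ≠ 0 → ∃ m : ℕ, χ 1 = (f : ℂ) * m) (a b : Ω) (hab : b ≠ a) : f ∣ Nat.card (MulAction.orbit (MulAction.stabilizer G a) b) := by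
  classical
  letI := irrFintype (G := G)
  have hπ : (fun g : G => (Nat.card (MulAction.fixedBy Ω g) : ℂ)) =
      (Cfsg.permRep ℂ G Ω).character := by
    funext g; rw [permRep_character]
  rw [hπ] at hf
  set ρ := Cfsg.permRep ℂ G Ω with hρ
  let A : Module.End ℂ (Ω → ℂ) := Cfsg.Agent.S0717.kerOp (fun x y => (orbK G a b x y : ℂ))
  have hent : ∀ x y, ent A x y = (orbK G a b x y : ℂ) := fun x y =>
    Cfsg.Agent.S0717.ent_kerOp _ x y
  have hAmem : A ∈ (Representation.linHom ρ ρ).invariants := by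
    rw [mem_centralizer_iff]
    intro g x y
    rw [hent, hent, orbK_smul]
  have hA : ∀ g : G, Commute A (ρ g) := commute_of_mem_invariants ρ hAmem
  have hint : ∀ μ : ℂ, A.HasEigenvalue μ → IsIntegral ℤ μ := fun μ hμ =>
    isIntegral_of_hasEigenvalue A (orbK G a b) hent hμ
  obtain ⟨β, hβ, htr⟩ := trace_decomp ρ A hA f hf hint
  -- principal part
  haveI : Nonempty Ω := ⟨a⟩
  have h1 : Cfsg.classInner ρ.character (fun _ => 1) = 1 := by
    rw [← hπ]
    exact Cfsg.Agent.Helper18.inner_permChar_one (G := G) (X := Ω)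
  set d : ℕ := Nat.card (MulAction.orbit (MulAction.stabilizer G a) b) with hd
  have hone : (fun _ : Ω => (1 : ℂ)) ≠ 0 := by
    intro h
    have := congrFun h a
    simp at this
  have hAone : A (fun _ => (1 : ℂ)) = (d : ℂ) • (fun _ : Ω => (1 : ℂ)) := by
    funext x
    rw [apply_eq_sum]
    simp only [hent, mul_one, Pi.smul_apply, smul_eq_mul]
    have := sum_orbK (G := G) a b x
    have h2 : (∑ y, (orbK G a b x y : ℂ)) = ((∑ y, orbK G a b x y : ℤ) : ℂ) := by push_cast; rfl
    rw [h2, this, ← hd]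
    push_cast
    ring
  have hprin := principal_part ρ A hA h1 hone (fun g => by
    funext x; rw [permRep_apply']) hAone
  rw [hprin] at htr
  -- the trace vanishes
  have htr0 : LinearMap.trace ℂ (Ω → ℂ) A = 0 := by
    rw [trace_eq_sum_ent]
    refine Finset.sum_eq_zero fun x _ => ?_
    rw [hent]
    have : orbK G a b x x = 0 := by
      unfold orbK
      rw [if_neg]
      rintro ⟨g, hg1, hg2⟩
      exact hab (hg2.symm.trans hg1)
    rw [this]; simp
  rw [htr0] at htr
  -- arithmetic
  by_cases hf0 : f = 0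
  · subst hf0
    simp only [Nat.cast_zero, zero_mul, add_zero] at htr
    have : d = 0 := by exact_mod_cast htr.symm
    rw [this]
  · have hfc : (f : ℂ) ≠ 0 := by exact_mod_cast hf0
    have hβq : β = ((-(d : ℚ) / (f : ℚ) : ℚ) : ℂ) := by
      push_cast
      field_simp
      linear_combination -htr
    rw [hβq] at hβ
    have hβ' : IsIntegral ℤ (-(d : ℚ) / (f : ℚ) : ℚ) :=
      (isIntegral_algebraMap_iff (algebraMap ℚ ℂ).injective).mp hβ
    obtain ⟨z, hz⟩ := IsIntegrallyClosed.isIntegral_iff.mp hβ'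
    have hfq : (f : ℚ) ≠ 0 := by exact_mod_cast hf0
    have h3 : (d : ℚ) = -(f : ℚ) * z := by
      have : (z : ℚ) = -(d : ℚ) / (f : ℚ) := hz
      rw [this]; field_simp
    have h4 : (d : ℤ) = -(f : ℤ) * z := by exact_mod_cast h3
    have h5 : (f : ℤ) ∣ (d : ℤ) := ⟨-z, by rw [h4]; ring⟩
    exact_mod_cast h5

end Cfsg.Agent.S0715
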