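import Mathlib
import Cfsg.Agent.Lib.Helper22.PermSymm
import Cfsg.Agent.Lib.Helper22.PermCentralizer
import Cfsg.Agent.Lib.Helper18.PermCharOrbits
import Cfsg.Agent.S0715
import Cfsg.Agent.S0717
import Cfsg.Statements.S0719
-- import your own Cfsg.Agent.* helpers here

set_option autoImplicit false
open Cfsg

namespace Cfsg.Agent.S0719

open Cfsg.Agent.Helper22.PermCent Cfsg.Agent.Helper24 Module
open Cfsg.Agent.S0715 (orbK orbK_smul sum_orbK commute_of_mem_invariants)
open Cfsg.Agent.S0717 (kerOp ent_kerOp mul_mem_centralizer)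
open scoped ComplexConjugate

/-! ### Orbit combinatorics -/

section orbits

variable {G : Type*} [Group G] {Ω : Type*} [MulAction G Ω] (a₀ : Ω)

theorem orbit_stab_self : MulAction.orbit (MulAction.stabilizer G a₀) a₀ = {a₀} := by
  ext z
  constructor
  · rintro ⟨h, rfl⟩
    exact MulAction.mem_stabilizer_iff.mp h.2
  · intro hz
    rw [Set.mem_singleton_iff] at hz
    rw [hz]
    exact MulAction.mem_orbit_self a₀

theorem mem_orbit_stab_iff (b y : Ω) :
    y ∈ MulAction.orbit (MulAction.stabilizer G a₀) b ↔ ∃ h : G, h • a₀ = a₀ ∧ h • b = y := by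
  constructor
  · rintro ⟨h, rfl⟩
    exact ⟨h.1, MulAction.mem_stabilizer_iff.mp h.2, rfl⟩
  · rintro ⟨h, h1, h2⟩
    exact ⟨⟨h, MulAction.mem_stabilizer_iff.mpr h1⟩, h2⟩

theorem orbK_eq (b x y : Ω) (g : G) (hg : g • x = a₀) [Decidable (g • y ∈ MulAction.orbit (MulAction.stabilizer G a₀) b)] :
    orbK G a₀ b x y = if g • y ∈ MulAction.orbit (MulAction.stabilizer G a₀) b then 1 else 0 := by
  classical
  unfold orbK
  have : (∃ g' : G, g' • x = a₀ ∧ g' • y = b) ↔
      g • y ∈ MulAction.orbit (MulAction.stabilizer G a₀) b := by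
    rw [mem_orbit_stab_iff]
    constructor
    · rintro ⟨g', h1, h2⟩
      refine ⟨g * g'⁻¹, ?_, ?_⟩
      · have : g'⁻¹ • a₀ = x := by rw [inv_smul_eq_iff, h1]
        rw [mul_smul, this, hg]
      · have : g'⁻¹ • b = y := by rw [inv_smul_eq_iff, h2]
        rw [mul_smul, this]
    · rintro ⟨h, h1, h2⟩
      refine ⟨h⁻¹ * g, ?_, ?_⟩
      · rw [mul_smul, hg, inv_smul_eq_iff, h1]
      · rw [mul_smul, inv_smul_eq_iff, h2]
  simp only [this]

theorem three_orbits (hrank : Nat.card (MulAction.orbitRel.Quotient (MulAction.stabilizer G a₀) Ω) = 3)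
    (b : Ω) (hb : b ≠ a₀) :
    ∃ c : Ω, c ≠ a₀ ∧ c ∉ MulAction.orbit (MulAction.stabilizer G a₀) b ∧
      ∀ y : Ω, y = a₀ ∨ y ∈ MulAction.orbit (MulAction.stabilizer G a₀) b ∨
        y ∈ MulAction.orbit (MulAction.stabilizer G a₀) c := by
  classical
  haveI : Finite (MulAction.orbitRel.Quotient (MulAction.stabilizer G a₀) Ω) :=
    Nat.finite_of_card_ne_zero (by rw [hrank]; norm_num)
  haveI : Fintype (MulAction.orbitRel.Quotient (MulAction.stabilizer G a₀) Ω) := Fintype.ofFinite _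
  have hcard : Fintype.card (MulAction.orbitRel.Quotient (MulAction.stabilizer G a₀) Ω) = 3 := by
    rw [← Nat.card_eq_fintype_card, hrank]
  have hmk : ∀ x y : Ω, (Quotient.mk'' x : MulAction.orbitRel.Quotient (MulAction.stabilizer G a₀) Ω)
      = Quotient.mk'' y ↔ x ∈ MulAction.orbit (MulAction.stabilizer G a₀) y := by
    intro x y
    rw [Quotient.eq'']
    exact MulAction.orbitRel_apply
  set q₀ : MulAction.orbitRel.Quotient (MulAction.stabilizer G a₀) Ω := Quotient.mk'' a₀ with hq₀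
  set q₁ : MulAction.orbitRel.Quotient (MulAction.stabilizer G a₀) Ω := Quotient.mk'' b with hq₁
  have h01 : q₀ ≠ q₁ := by
    intro h
    have := (hmk b a₀).mp h.symm
    rw [orbit_stab_self] at this
    exact hb this
  have hex : ∃ q₂, q₂ ≠ q₀ ∧ q₂ ≠ q₁ := by
    by_contra hcon
    push Not at hcon
    have hsub : (Finset.univ : Finset (MulAction.orbitRel.Quotient (MulAction.stabilizer G a₀) Ω))
        ⊆ {q₀, q₁} := by
      intro q _
      rw [Finset.mem_insert, Finset.mem_singleton]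
      by_cases h : q = q₀
      · left; exact h
      · right; exact hcon q h
    have := Finset.card_le_card hsub
    rw [Finset.card_univ, hcard] at this
    have h2 : ({q₀, q₁} : Finset _).card ≤ 2 := Finset.card_le_two
    omega
  obtain ⟨q₂, h20, h21⟩ := hex
  induction q₂ using Quotient.inductionOn' with
  | h c =>
    have hall : ({q₀, q₁, Quotient.mk'' c} : Finset (MulAction.orbitRel.Quotient (MulAction.stabilizer G a₀) Ω))
        = Finset.univ := by
      apply Finset.eq_univ_of_card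
      rw [hcard, Finset.card_insert_of_notMem, Finset.card_insert_of_notMem, Finset.card_singleton]
      · rw [Finset.mem_singleton]; exact fun h => h21 h.symm
      · rw [Finset.mem_insert, Finset.mem_singleton]
        rintro (h | h)
        · exact h01 h
        · exact h20 h.symm
    refine ⟨c, ?_, ?_, ?_⟩
    · rintro rfl
      exact h20 rfl
    · intro hc
      exact h21 ((hmk c b).mpr hc)
    · intro y
      have hy : (Quotient.mk'' y : MulAction.orbitRel.Quotient (MulAction.stabilizer G a₀) Ω) ∈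
          ({q₀, q₁, Quotient.mk'' c} : Finset _) := by rw [hall]; exact Finset.mem_univ _
      rw [Finset.mem_insert, Finset.mem_insert, Finset.mem_singleton] at hy
      rcases hy with h | h | h
      · left
        have := (hmk y a₀).mp h
        rw [orbit_stab_self] at this
        exact this
      · right; left; exact (hmk y b).mp h
      · right; right; exact (hmk y c).mp h

end orbits

section orbits2

variable {G : Type*} [Group G] {Ω : Type*} [MulAction G Ω] (a₀ : Ω)

theorem not_mem_orbit_stab (b : Ω) (hb : b ≠ a₀) :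
    a₀ ∉ MulAction.orbit (MulAction.stabilizer G a₀) b := by
  rw [mem_orbit_stab_iff]
  rintro ⟨h, h1, h2⟩
  apply hb
  have : h • b = h • a₀ := by rw [h1, h2]
  exact smul_left_cancel h this

theorem orbK_congr (b b' : Ω) (hb' : b' ∈ MulAction.orbit (MulAction.stabilizer G a₀) b)
    [MulAction.IsPretransitive G Ω] (x y : Ω) : orbK G a₀ b' x y = orbK G a₀ b x y := by
  classical
  obtain ⟨g, hg⟩ := MulAction.exists_smul_eq G x a₀
  rw [orbK_eq a₀ b' x y g hg, orbK_eq a₀ b x y g hg, MulAction.orbit_eq_iff.mpr hb']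

variable [MulAction.IsPretransitive G Ω]

theorem pair_sum [DecidableEq Ω] (b c : Ω) (hb : b ≠ a₀) (hc : c ≠ a₀)
    (hcb : c ∉ MulAction.orbit (MulAction.stabilizer G a₀) b)
    (hall : ∀ y : Ω, y = a₀ ∨ y ∈ MulAction.orbit (MulAction.stabilizer G a₀) b ∨
        y ∈ MulAction.orbit (MulAction.stabilizer G a₀) c) (x y : Ω) :
    (if x = y then (1 : ℤ) else 0) + orbK G a₀ b x y + orbK G a₀ c x y = 1 := by
  classical
  obtain ⟨g, hg⟩ := MulAction.exists_smul_eq G x a₀
  rw [orbK_eq a₀ b x y g hg, orbK_eq a₀ c x y g hg]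
  have hxy : x = y ↔ g • y = a₀ := by
    constructor
    · rintro rfl; exact hg
    · intro h
      exact smul_left_cancel g (hg.trans h.symm)
  rcases hall (g • y) with h | h | h
  · rw [if_pos (hxy.mpr h), h, if_neg (not_mem_orbit_stab a₀ b hb),
      if_neg (not_mem_orbit_stab a₀ c hc)]
    norm_num
  · have h1 : ¬ x = y := by
      intro hxy'
      have := hxy.mp hxy'
      rw [this] at h
      exact not_mem_orbit_stab a₀ b hb h
    have h2 : g • y ∉ MulAction.orbit (MulAction.stabilizer G a₀) c := by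
      intro h3
      apply hcb
      have e1 := MulAction.orbit_eq_iff.mpr h
      have e2 := MulAction.orbit_eq_iff.mpr h3
      rw [← e1, e2]
      exact MulAction.mem_orbit_self c
    rw [if_neg h1, if_pos h, if_neg h2]
    norm_num
  · have h1 : ¬ x = y := by
      intro hxy'
      have := hxy.mp hxy'
      rw [this] at h
      exact not_mem_orbit_stab a₀ c hc h
    have h2 : g • y ∉ MulAction.orbit (MulAction.stabilizer G a₀) b := by
      intro h3
      apply hcb
      have e1 := MulAction.orbit_eq_iff.mpr h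
      have e2 := MulAction.orbit_eq_iff.mpr h3
      rw [← e2, e1]
      exact MulAction.mem_orbit_self c
    rw [if_neg h1, if_neg h2, if_pos h]
    norm_num

variable [Fintype Ω]

theorem card_eq_sum_orbits (b c : Ω) (hb : b ≠ a₀) (hc : c ≠ a₀)
    (hcb : c ∉ MulAction.orbit (MulAction.stabilizer G a₀) b)
    (hall : ∀ y : Ω, y = a₀ ∨ y ∈ MulAction.orbit (MulAction.stabilizer G a₀) b ∨
        y ∈ MulAction.orbit (MulAction.stabilizer G a₀) c) :
    Fintype.card Ω = 1 + Nat.card (MulAction.orbit (MulAction.stabilizer G a₀) b) +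
      Nat.card (MulAction.orbit (MulAction.stabilizer G a₀) c) := by
  classical
  have h1 : ∑ y : Ω, ((if a₀ = y then (1 : ℤ) else 0) + orbK G a₀ b a₀ y + orbK G a₀ c a₀ y) =
      ∑ _y : Ω, (1 : ℤ) :=
    Finset.sum_congr rfl fun y _ => pair_sum a₀ b c hb hc hcb hall a₀ y
  rw [Finset.sum_add_distrib, Finset.sum_add_distrib, sum_orbK, sum_orbK, Finset.sum_ite_eq,
    if_pos (Finset.mem_univ _), Finset.sum_const, Finset.card_univ] at h1
  simp only [nsmul_eq_mul, mul_one] at h1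
  exact_mod_cast h1.symm

theorem exists_transpose (b : Ω) (hb : b ≠ a₀) :
    ∃ b' : Ω, b' ≠ a₀ ∧ (∀ x y : Ω, orbK G a₀ b' x y = orbK G a₀ b y x) ∧
      Nat.card (MulAction.orbit (MulAction.stabilizer G a₀) b') =
        Nat.card (MulAction.orbit (MulAction.stabilizer G a₀) b) := by
  classical
  obtain ⟨g, hg⟩ := MulAction.exists_smul_eq G b a₀
  have hne : g • a₀ ≠ a₀ := by
    intro h
    apply hb
    exact smul_left_cancel g (hg.trans h.symm)
  have htr : ∀ x y : Ω, orbK G a₀ (g • a₀) x y = orbK G a₀ b y x := by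
    intro x y
    unfold orbK
    have : (∃ h : G, h • x = a₀ ∧ h • y = g • a₀) ↔ (∃ h : G, h • y = a₀ ∧ h • x = b) := by
      constructor
      · rintro ⟨h, h1, h2⟩
        refine ⟨g⁻¹ * h, ?_, ?_⟩
        · rw [mul_smul, h2, inv_smul_smul]
        · rw [mul_smul, h1, inv_smul_eq_iff, hg]
      · rintro ⟨h, h1, h2⟩
        refine ⟨g * h, ?_, ?_⟩
        · rw [mul_smul, h2, hg]
        · rw [mul_smul, h1]
    simp only [this]
  refine ⟨g • a₀, hne, htr, ?_⟩
  have h1 : ∑ x : Ω, ∑ y : Ω, orbK G a₀ b x y =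
      (Fintype.card Ω : ℤ) * (Nat.card (MulAction.orbit (MulAction.stabilizer G a₀) b) : ℤ) := by
    simp only [sum_orbK, Finset.sum_const, Finset.card_univ, nsmul_eq_mul]
  have h2 : ∑ x : Ω, ∑ y : Ω, orbK G a₀ b x y =
      (Fintype.card Ω : ℤ) *
        (Nat.card (MulAction.orbit (MulAction.stabilizer G a₀) (g • a₀)) : ℤ) := by
    rw [Finset.sum_comm]
    simp only [← htr, sum_orbK, Finset.sum_const, Finset.card_univ, nsmul_eq_mul]
  rw [h1] at h2
  have hpos : (Fintype.card Ω : ℤ) ≠ 0 := by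
    haveI : Nonempty Ω := ⟨a₀⟩
    exact_mod_cast Fintype.card_ne_zero
  have := mul_left_cancel₀ hpos h2
  exact_mod_cast this.symm

theorem orbK_symm {m : ℕ} (hm : Fintype.card Ω = 2 * m) (b c : Ω) (hb : b ≠ a₀) (hc : c ≠ a₀)
    (hcb : c ∉ MulAction.orbit (MulAction.stabilizer G a₀) b)
    (hall : ∀ y : Ω, y = a₀ ∨ y ∈ MulAction.orbit (MulAction.stabilizer G a₀) b ∨
        y ∈ MulAction.orbit (MulAction.stabilizer G a₀) c) (x y : Ω) :
    orbK G a₀ b y x = orbK G a₀ b x y := by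
  obtain ⟨b', hb', htr, hcard⟩ := exists_transpose (G := G) a₀ b hb
  rcases hall b' with h | h | h
  · exact absurd h hb'
  · rw [← htr, orbK_congr a₀ b b' h]
  · exfalso
    have e1 := MulAction.orbit_eq_iff.mpr h
    rw [e1] at hcard
    have := card_eq_sum_orbits (G := G) a₀ b c hb hc hcb hall
    omega

end orbits2

/-! ### Primitivity: no non-trivial suborbit of length one -/

theorem card_orbit_ne_one {G : Type*} [Group G] {Ω : Type*} [MulAction G Ω] [Fintype Ω]
    (hprim : MulAction.IsPreprimitive G Ω) (a₀ : Ω) {m : ℕ} (hm : Fintype.card Ω = 2 * m)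
    (hrank : Nat.card (MulAction.orbitRel.Quotient (MulAction.stabilizer G a₀) Ω) = 3)
    (y : Ω) (hy : y ≠ a₀) : Nat.card (MulAction.orbit (MulAction.stabilizer G a₀) y) ≠ 1 := by
  intro hcard
  haveI : MulAction.IsPretransitive G Ω := hprim.toIsPretransitive
  haveI : Nontrivial Ω := ⟨⟨y, a₀, hy⟩⟩
  have hfix : ∀ h ∈ MulAction.stabilizer G a₀, h • y = y := by
    intro h hh
    obtain ⟨hs, -⟩ := Nat.card_eq_one_iff_unique.mp hcard
    have := hs.elim (⟨h • y, ⟨⟨h, hh⟩, rfl⟩⟩ : MulAction.orbit (MulAction.stabilizer G a₀) y)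
      ⟨y, MulAction.mem_orbit_self y⟩
    exact congrArg Subtype.val this
  have hco : IsCoatom (MulAction.stabilizer G a₀) :=
    MulAction.IsPreprimitive.isCoatom_stabilizer_of_isPreprimitive (G := G) a₀
  have hle : MulAction.stabilizer G a₀ ≤ MulAction.stabilizer G y := fun h hh =>
    MulAction.mem_stabilizer_iff.mpr (hfix h hh)
  have hytop : MulAction.stabilizer G y ≠ ⊤ := by
    intro htop
    obtain ⟨g, hg⟩ := MulAction.exists_smul_eq G y a₀
    have : g ∈ MulAction.stabilizer G y := by rw [htop]; trivial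
    rw [MulAction.mem_stabilizer_iff, hg] at this
    exact hy this.symm
  have hyeq : MulAction.stabilizer G y = MulAction.stabilizer G a₀ := by
    rcases hco.le_iff.mp hle with h | h
    · exact absurd h hytop
    · exact h
  obtain ⟨g, hg⟩ := MulAction.exists_smul_eq G a₀ y
  have hconj := MulAction.stabilizer_smul_eq_stabilizer_map_conj g a₀
  rw [hg, hyeq] at hconj
  have hgN : g ∈ Subgroup.normalizer (MulAction.stabilizer G a₀ : Set G) := by
    rw [Subgroup.mem_normalizer_iff]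
    intro h
    constructor
    · intro hh
      rw [hconj]
      exact ⟨h, hh, rfl⟩
    · intro hh
      rw [hconj] at hh
      obtain ⟨h', hh', he⟩ := hh
      have : h' = h := by
        have he' : g * h' * g⁻¹ = g * h * g⁻¹ := he
        have := mul_right_cancel he'
        exact mul_left_cancel this
      rw [← this]; exact hh'
  have hgH : g ∉ MulAction.stabilizer G a₀ := by
    intro h
    rw [MulAction.mem_stabilizer_iff, hg] at h
    exact hy h
  have hNtop : Subgroup.normalizer (MulAction.stabilizer G a₀ : Set G) = ⊤ := by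
    rcases hco.le_iff.mp (Subgroup.le_normalizer (H := MulAction.stabilizer G a₀)) with h | h
    · exact h
    · exfalso
      rw [h] at hgN
      exact hgH hgN
  haveI hnorm : (MulAction.stabilizer G a₀).Normal := Subgroup.normalizer_eq_top_iff.mp hNtop
  have hfixall : ∀ x : Ω, ∀ h ∈ MulAction.stabilizer G a₀, h • x = x := by
    intro x h hh
    obtain ⟨g', rfl⟩ := MulAction.exists_smul_eq G a₀ x
    have h1 : g'⁻¹ * h * g'⁻¹⁻¹ ∈ MulAction.stabilizer G a₀ := hnorm.conj_mem h hh g'⁻¹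
    rw [inv_inv, MulAction.mem_stabilizer_iff, mul_smul, mul_smul, inv_smul_eq_iff] at h1
    exact h1
  have hbij : Function.Bijective (fun x : Ω =>
      (Quotient.mk'' x : MulAction.orbitRel.Quotient (MulAction.stabilizer G a₀) Ω)) := by
    constructor
    · intro x x' hxx
      have h1 : x ∈ MulAction.orbit (MulAction.stabilizer G a₀) x' := by
        have := Quotient.eq''.mp hxx
        exact MulAction.orbitRel_apply.mp this
      obtain ⟨h, rfl⟩ := h1
      exact hfixall x' h.1 h.2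
    · intro q
      induction q using Quotient.inductionOn' with
      | h x => exact ⟨x, rfl⟩
  have := Nat.card_congr (Equiv.ofBijective _ hbij)
  rw [hrank, Nat.card_eq_fintype_card, hm] at this
  omega

/-! ### Three constituents -/

section three

variable {G : Type*} [Group G] [Fintype G]
variable {V : Type*} [AddCommGroup V] [Module ℂ V] [FiniteDimensional ℂ V]
variable (ρ : Representation ℂ G V) {ψ₀ ψ₁ ψ₂ : G → ℂ}

theorem inner_three (h₀ : IsIrrCharacter G ψ₀) (h₁ : IsIrrCharacter G ψ₁)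
    (h₂ : IsIrrCharacter G ψ₂) (hchar : ρ.character = ψ₀ + ψ₁ + ψ₂)
    {χ : G → ℂ} (hχ : IsIrrCharacter G χ) :
    classInner ρ.character χ = (if ψ₀ = χ then 1 else 0) + (if ψ₁ = χ then 1 else 0) +
      (if ψ₂ = χ then 1 else 0) := by
  rw [hchar, classInner_add_left, classInner_add_left, irr_orthogonality h₀ hχ,
    irr_orthogonality h₁ hχ, irr_orthogonality h₂ hχ]

theorem multFree_three (h₀ : IsIrrCharacter G ψ₀) (h₁ : IsIrrCharacter G ψ₁)
    (h₂ : IsIrrCharacter G ψ₂) (hchar : ρ.character = ψ₀ + ψ₁ + ψ₂)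
    (h01 : ψ₀ ≠ ψ₁) (h02 : ψ₀ ≠ ψ₂) (h12 : ψ₁ ≠ ψ₂)
    (χ : G → ℂ) (hχ : IsIrrCharacter G χ) :
    classInner ρ.character χ = 0 ∨ classInner ρ.character χ = 1 := by
  rw [inner_three ρ h₀ h₁ h₂ hchar hχ]
  by_cases e0 : ψ₀ = χ
  · rw [if_pos e0, if_neg (fun e => h01 (e0.trans e.symm)), if_neg (fun e => h02 (e0.trans e.symm))]
    right; norm_num
  · by_cases e1 : ψ₁ = χ
    · rw [if_neg e0, if_pos e1, if_neg (fun e => h12 (e1.trans e.symm))]
      right; norm_num
    · by_cases e2 : ψ₂ = χ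
      · rw [if_neg e0, if_neg e1, if_pos e2]
        right; norm_num
      · rw [if_neg e0, if_neg e1, if_neg e2]
        left; norm_num

theorem decomp_three (h₀ : IsIrrCharacter G ψ₀) (h₁ : IsIrrCharacter G ψ₁)
    (h₂ : IsIrrCharacter G ψ₂) (hchar : ρ.character = ψ₀ + ψ₁ + ψ₂)
    (h01 : ψ₀ ≠ ψ₁) (h02 : ψ₀ ≠ ψ₂) (h12 : ψ₁ ≠ ψ₂)
    {T : Module.End ℂ V} (hT : T ∈ (Representation.linHom ρ ρ).invariants) :
    ∃ c₀ c₁ c₂ : ℂ, T = c₀ • idem ψ₀ ρ + c₁ • idem ψ₁ ρ + c₂ • idem ψ₂ ρ := by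
  classical
  letI := irrFintype (G := G)
  rw [← span_idem_eq ρ (multFree_three ρ h₀ h₁ h₂ hchar h01 h02 h12)] at hT
  induction hT using Submodule.span_induction with
  | mem T hT =>
    obtain ⟨χ, rfl⟩ := hT
    have h1 := χ.2
    rw [inner_three ρ h₀ h₁ h₂ hchar χ.1.2] at h1
    by_cases e0 : ψ₀ = (χ.1 : G → ℂ)
    · exact ⟨1, 0, 0, by simp only [← e0, one_smul, zero_smul, add_zero]⟩
    · by_cases e1 : ψ₁ = (χ.1 : G → ℂ)
      · exact ⟨0, 1, 0, by simp only [← e1, one_smul, zero_smul, add_zero, zero_add]⟩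
      · by_cases e2 : ψ₂ = (χ.1 : G → ℂ)
        · exact ⟨0, 0, 1, by simp only [← e2, one_smul, zero_smul, zero_add]⟩
        · rw [if_neg e0, if_neg e1, if_neg e2] at h1
          norm_num at h1
  | zero => exact ⟨0, 0, 0, by simp⟩
  | add S T _ _ hS hT =>
    obtain ⟨a₀, a₁, a₂, rfl⟩ := hS
    obtain ⟨b₀, b₁, b₂, rfl⟩ := hT
    exact ⟨a₀ + b₀, a₁ + b₁, a₂ + b₂, by simp only [add_smul]; abel⟩
  | smul c T _ hT =>
    obtain ⟨a₀, a₁, a₂, rfl⟩ := hT
    exact ⟨c * a₀, c * a₁, c * a₂, by simp only [smul_add, smul_smul]⟩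

theorem inner_self_three (h₀ : IsIrrCharacter G ψ₀) (h₁ : IsIrrCharacter G ψ₁)
    (h₂ : IsIrrCharacter G ψ₂) (hchar : ρ.character = ψ₀ + ψ₁ + ψ₂)
    (h01 : ψ₀ ≠ ψ₁) (h02 : ψ₀ ≠ ψ₂) (h12 : ψ₁ ≠ ψ₂) :
    classInner ψ₀ ρ.character = 1 ∧ classInner ψ₁ ρ.character = 1 ∧
      classInner ψ₂ ρ.character = 1 := by
  refine ⟨?_, ?_, ?_⟩
  · rw [← classInner_conj_symm, inner_three ρ h₀ h₁ h₂ hchar h₀, if_pos rfl,
      if_neg (fun e => h01 e.symm), if_neg (fun e => h02 e.symm)]
    simp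
  · rw [← classInner_conj_symm, inner_three ρ h₀ h₁ h₂ hchar h₁, if_neg h01, if_pos rfl,
      if_neg (fun e => h12 e.symm)]
    simp
  · rw [← classInner_conj_symm, inner_three ρ h₀ h₁ h₂ hchar h₂, if_neg h02, if_neg h12,
      if_pos rfl]
    simp

end three

/-! ### Arithmetic -/

theorem arith (m k : ℕ) (u s : ℤ) (hk : 2 ≤ k) (hk2 : k + 3 ≤ 2 * m)
    (hlin : (k : ℤ) + ((m : ℤ) - 1) * u + s = 0)
    (hquad : (k : ℤ) ^ 2 + ((m : ℤ) - 1) * (u - s) ^ 2 + (m : ℤ) * s ^ 2 = 2 * m * k) :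
    ∃ a : ℕ, 0 < a ∧ m = 2 * a ^ 2 + 2 * a + 1 ∧
      (k = a * (2 * a + 1) ∨ k = (a + 1) * (2 * a + 1)) := by
  have hm : (3 : ℤ) ≤ m := by omega
  have hk' : (k : ℤ) = -(((m : ℤ) - 1) * u) - s := by linarith
  have hkey : (m : ℤ) * (((m : ℤ) - 1) * u * (u + 2) + 2 * s * (s + 1)) = 0 := by
    rw [hk'] at hquad
    linear_combination hquad
  have hkey2 : ((m : ℤ) - 1) * u * (u + 2) + 2 * s * (s + 1) = 0 := by
    rcases mul_eq_zero.mp hkey with h | h
    · omega
    · exact h
  have hs : 0 ≤ s * (s + 1) := by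
    rcases le_or_gt 0 s with h | h
    · positivity
    · nlinarith
  have hu : u * (u + 2) ≤ 0 := by
    by_contra hcon
    push Not at hcon
    nlinarith
  have hu1 : -2 ≤ u := by nlinarith
  have hu2 : u ≤ 0 := by nlinarith
  interval_cases u
  · -- u = -2
    exfalso
    have h0 : s * (s + 1) = 0 := by linarith
    rcases mul_eq_zero.mp h0 with h | h
    · rw [h] at hk'; omega
    · have : s = -1 := by linarith
      rw [this] at hk'; omega
  · -- u = -1
    have h0 : (m : ℤ) = 2 * s * (s + 1) + 1 := by linarith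
    rcases le_or_gt 0 s with h | h
    · refine ⟨s.toNat, ?_, ?_, ?_⟩
      · have : s ≠ 0 := by
          intro h'; rw [h'] at h0; omega
        omega
      · have h1 : ((s.toNat : ℕ) : ℤ) = s := Int.toNat_of_nonneg h
        have : (m : ℤ) = 2 * (s.toNat : ℤ) ^ 2 + 2 * (s.toNat : ℤ) + 1 := by rw [h1, h0]; ring
        exact_mod_cast this
      · left
        have h1 : ((s.toNat : ℕ) : ℤ) = s := Int.toNat_of_nonneg h
        have : (k : ℤ) = (s.toNat : ℤ) * (2 * (s.toNat : ℤ) + 1) := by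
          rw [h1, hk', h0]; ring
        exact_mod_cast this
    · have h1 : (((-s - 1).toNat : ℕ) : ℤ) = -s - 1 := Int.toNat_of_nonneg (by omega)
      refine ⟨(-s - 1).toNat, ?_, ?_, ?_⟩
      · have : s ≠ -1 := by
          intro h'; rw [h'] at h0; omega
        omega
      · have : (m : ℤ) = 2 * ((-s - 1).toNat : ℤ) ^ 2 + 2 * ((-s - 1).toNat : ℤ) + 1 := by
          rw [h1, h0]; ring
        exact_mod_cast this
      · right
        have : (k : ℤ) = (((-s - 1).toNat : ℤ) + 1) * (2 * ((-s - 1).toNat : ℤ) + 1) := by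
          rw [h1, hk', h0]; ring
        exact_mod_cast this
  · -- u = 0
    exfalso
    have h0 : s * (s + 1) = 0 := by linarith
    rcases mul_eq_zero.mp h0 with h | h
    · rw [h] at hk'; omega
    · have : s = -1 := by linarith
      rw [this] at hk'; omega

/-! ### The main computation -/

section main

variable {G : Type*} [Group G] [Fintype G] {Ω : Type*} [Fintype Ω] [MulAction G Ω]

theorem pair_cases [DecidableEq Ω] [MulAction.IsPretransitive G Ω] (a₀ b c : Ω) (hb : b ≠ a₀)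
    (hc : c ≠ a₀)
    (hcb : c ∉ MulAction.orbit (MulAction.stabilizer G a₀) b)
    (hall : ∀ y : Ω, y = a₀ ∨ y ∈ MulAction.orbit (MulAction.stabilizer G a₀) b ∨
        y ∈ MulAction.orbit (MulAction.stabilizer G a₀) c) (x y : Ω) (g : G) (hg : g • x = a₀) :
    (x = y ∧ orbK G a₀ b x y = 0 ∧ orbK G a₀ c x y = 0 ∧ g • y = a₀) ∨
    (x ≠ y ∧ orbK G a₀ b x y = 1 ∧ orbK G a₀ c x y = 0 ∧
      g • y ∈ MulAction.orbit (MulAction.stabilizer G a₀) b) ∨
    (x ≠ y ∧ orbK G a₀ b x y = 0 ∧ orbK G a₀ c x y = 1 ∧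
      g • y ∈ MulAction.orbit (MulAction.stabilizer G a₀) c) := by
  classical
  rw [orbK_eq a₀ b x y g hg, orbK_eq a₀ c x y g hg]
  have hxy : x = y ↔ g • y = a₀ := by
    constructor
    · rintro rfl; exact hg
    · intro h
      exact smul_left_cancel g (hg.trans h.symm)
  rcases hall (g • y) with h | h | h
  · left
    refine ⟨hxy.mpr h, ?_, ?_, h⟩
    · rw [h, if_neg (not_mem_orbit_stab a₀ b hb)]
    · rw [h, if_neg (not_mem_orbit_stab a₀ c hc)]
  · right; left
    have h1 : ¬ x = y := by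
      intro hxy'
      have := hxy.mp hxy'
      rw [this] at h
      exact not_mem_orbit_stab a₀ b hb h
    have h2 : g • y ∉ MulAction.orbit (MulAction.stabilizer G a₀) c := by
      intro h3
      apply hcb
      have e1 := MulAction.orbit_eq_iff.mpr h
      have e2 := MulAction.orbit_eq_iff.mpr h3
      rw [← e1, e2]
      exact MulAction.mem_orbit_self c
    exact ⟨h1, by rw [if_pos h], by rw [if_neg h2], h⟩
  · right; right
    have h1 : ¬ x = y := by
      intro hxy'
      have := hxy.mp hxy'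
      rw [this] at h
      exact not_mem_orbit_stab a₀ c hc h
    have h2 : g • y ∉ MulAction.orbit (MulAction.stabilizer G a₀) b := by
      intro h3
      apply hcb
      have e1 := MulAction.orbit_eq_iff.mpr h
      have e2 := MulAction.orbit_eq_iff.mpr h3
      rw [← e2, e1]
      exact MulAction.mem_orbit_self c
    exact ⟨h1, by rw [if_neg h2], by rw [if_pos h], h⟩

/-- an element of the centralizer ring is a combination of the three basic matrices -/
theorem centralizer_decomp [DecidableEq Ω] [MulAction.IsPretransitive G Ω] (a₀ b c : Ω)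
    (hb : b ≠ a₀) (hc : c ≠ a₀)
    (hcb : c ∉ MulAction.orbit (MulAction.stabilizer G a₀) b)
    (hall : ∀ y : Ω, y = a₀ ∨ y ∈ MulAction.orbit (MulAction.stabilizer G a₀) b ∨
        y ∈ MulAction.orbit (MulAction.stabilizer G a₀) c)
    (T : Module.End ℂ (Ω → ℂ))
    (hT : T ∈ (Representation.linHom (Cfsg.permRep ℂ G Ω) (Cfsg.permRep ℂ G Ω)).invariants) :
    T = (ent T a₀ a₀ - ent T a₀ c) • (1 : Module.End ℂ (Ω → ℂ)) +
      (ent T a₀ b - ent T a₀ c) • kerOp (fun x y => (orbK G a₀ b x y : ℂ)) +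
      ent T a₀ c • kerOp (fun _ _ => (1 : ℂ)) := by
  rw [mem_centralizer_iff] at hT
  apply ext_ent
  intro x y
  rw [ent_add, ent_add, ent_smul, ent_smul, ent_smul, ent_kerOp, ent_kerOp]
  have hone : ent (1 : Module.End ℂ (Ω → ℂ)) x y = if x = y then 1 else 0 := by
    show (Pi.single y (1 : ℂ) : Ω → ℂ) x = _
    rw [Pi.single_apply]
  rw [hone]
  obtain ⟨g, hg⟩ := MulAction.exists_smul_eq G x a₀
  have h0 : ent T x y = ent T a₀ (g • y) := by rw [← hT g x y, hg]
  have horb : ∀ (d z : Ω), z ∈ MulAction.orbit (MulAction.stabilizer G a₀) d →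
      ent T a₀ z = ent T a₀ d := by
    intro d z hz
    rw [mem_orbit_stab_iff] at hz
    obtain ⟨h, h1, h2⟩ := hz
    rw [← h2]
    nth_rewrite 1 [← h1]
    exact hT h a₀ d
  rcases pair_cases a₀ b c hb hc hcb hall x y g hg with ⟨h1, h2, -, h4⟩ | ⟨h1, h2, -, h4⟩ |
    ⟨h1, h2, -, h4⟩
  · rw [h0, h4, if_pos h1, h2]
    push_cast
    ring
  · rw [h0, horb b _ h4, if_neg h1, h2]
    push_cast
    ring
  · rw [h0, horb c _ h4, if_neg h1, h2]
    push_cast
    ring

end main

section main2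

variable {G : Type*} [Group G] [Fintype G] {Ω : Type*} [Fintype Ω] [MulAction G Ω]

theorem main_b (hprim : MulAction.IsPreprimitive G Ω) {m : ℕ} (hm : Fintype.card Ω = 2 * m)
    (a₀ : Ω)
    (hrank : Nat.card (MulAction.orbitRel.Quotient (MulAction.stabilizer G a₀) Ω) = 3)
    (χ₁ χ₂ : G → ℂ) (h₁ : Cfsg.IsIrrCharacter G χ₁) (h₂ : Cfsg.IsIrrCharacter G χ₂)
    (hπ : (fun g : G => (Nat.card (MulAction.fixedBy Ω g) : ℂ)) = fun g => 1 + χ₁ g + χ₂ g)
    (hd₁ : χ₁ 1 = (m : ℂ) - 1) (hd₂ : χ₂ 1 = m) (b : Ω) (hb : b ≠ a₀) :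
    ∃ a : ℕ, 0 < a ∧ m = 2 * a ^ 2 + 2 * a + 1 ∧
      (Nat.card (MulAction.orbit (MulAction.stabilizer G a₀) b) = a * (2 * a + 1) ∨
        Nat.card (MulAction.orbit (MulAction.stabilizer G a₀) b) = (a + 1) * (2 * a + 1)) := by
  classical
  haveI : MulAction.IsPretransitive G Ω := hprim.toIsPretransitive
  haveI : Nonempty Ω := ⟨a₀⟩
  obtain ⟨c, hc, hcb, hall⟩ := three_orbits a₀ hrank b hb
  obtain ⟨k, hkdef⟩ : ∃ k : ℕ, k = Nat.card (MulAction.orbit (MulAction.stabilizer G a₀) b) :=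
    ⟨_, rfl⟩
  obtain ⟨l, hldef⟩ : ∃ l : ℕ, l = Nat.card (MulAction.orbit (MulAction.stabilizer G a₀) c) :=
    ⟨_, rfl⟩
  have hn : 2 * m = 1 + k + l := by
    rw [← hm, hkdef, hldef]
    exact card_eq_sum_orbits (G := G) a₀ b c hb hc hcb hall
  have hk1 : k ≠ 1 := by rw [hkdef]; exact card_orbit_ne_one hprim a₀ hm hrank b hb
  have hl1 : l ≠ 1 := by rw [hldef]; exact card_orbit_ne_one hprim a₀ hm hrank c hc
  have hk0 : 0 < k := by
    rw [hkdef]
    haveI : Nonempty (MulAction.orbit (MulAction.stabilizer G a₀) b) :=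
      ⟨⟨b, MulAction.mem_orbit_self b⟩⟩
    exact Nat.card_pos
  have hl0 : 0 < l := by
    rw [hldef]
    haveI : Nonempty (MulAction.orbit (MulAction.stabilizer G a₀) c) :=
      ⟨⟨c, MulAction.mem_orbit_self c⟩⟩
    exact Nat.card_pos
  have hk2 : 2 ≤ k := by omega
  have hk3 : k + 3 ≤ 2 * m := by omega
  rw [← hkdef]
  -- the character
  set ρ := Cfsg.permRep ℂ G Ω with hρ
  have h₀ : IsIrrCharacter G (fun _ : G => (1 : ℂ)) := Cfsg.Agent.Helper24.isIrrCharacter_one
  have hchar : ρ.character = (fun _ : G => (1 : ℂ)) + χ₁ + χ₂ := by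
    funext g
    rw [permRep_character]
    exact congrFun hπ g
  have hinn1 : classInner ρ.character (fun _ : G => (1 : ℂ)) = 1 := by
    have := Cfsg.Agent.Helper18.inner_permChar_one (G := G) (X := Ω)
    have hπ' : (fun g : G => (Nat.card (MulAction.fixedBy Ω g) : ℂ)) = ρ.character := by
      funext g; rw [permRep_character]
    rw [← hπ']
    exact this
  have h01 : (fun _ : G => (1 : ℂ)) ≠ χ₁ := by
    intro e
    have := inner_three ρ h₀ h₁ h₂ hchar h₀
    rw [hinn1, if_pos rfl, if_pos e.symm] at this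
    by_cases e2 : χ₂ = fun _ => 1
    · rw [if_pos e2] at this; norm_num at this
    · rw [if_neg e2] at this; norm_num at this
  have h02 : (fun _ : G => (1 : ℂ)) ≠ χ₂ := by
    intro e
    have := inner_three ρ h₀ h₁ h₂ hchar h₀
    rw [hinn1, if_pos rfl, if_pos e.symm] at this
    by_cases e2 : χ₁ = fun _ => 1
    · rw [if_pos e2] at this; norm_num at this
    · rw [if_neg e2] at this; norm_num at this
  have h12 : χ₁ ≠ χ₂ := by
    intro e
    rw [e, hd₂] at hd₁
    have : (m : ℂ) - 1 = m := hd₁.symm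
    exact one_ne_zero (sub_eq_self.mp this)
  obtain ⟨hi0, hi1, hi2⟩ := inner_self_three ρ h₀ h₁ h₂ hchar h01 h02 h12
  set E₀ := idem (fun _ : G => (1 : ℂ)) ρ with hE₀
  set E₁ := idem χ₁ ρ with hE₁
  set E₂ := idem χ₂ ρ with hE₂
  have m00 : E₀ * E₀ = E₀ := by rw [hE₀, idem_mul_idem h₀ h₀, if_pos rfl]
  have m11 : E₁ * E₁ = E₁ := by rw [hE₁, idem_mul_idem h₁ h₁, if_pos rfl]
  have m22 : E₂ * E₂ = E₂ := by rw [hE₂, idem_mul_idem h₂ h₂, if_pos rfl]
  have m01 : E₀ * E₁ = 0 := by rw [hE₀, hE₁, idem_mul_idem h₀ h₁, if_neg h01]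
  have m10 : E₁ * E₀ = 0 := by rw [hE₀, hE₁, idem_mul_idem h₁ h₀, if_neg (Ne.symm h01)]
  have m02 : E₀ * E₂ = 0 := by rw [hE₀, hE₂, idem_mul_idem h₀ h₂, if_neg h02]
  have m20 : E₂ * E₀ = 0 := by rw [hE₀, hE₂, idem_mul_idem h₂ h₀, if_neg (Ne.symm h02)]
  have m12 : E₁ * E₂ = 0 := by rw [hE₁, hE₂, idem_mul_idem h₁ h₂, if_neg h12]
  have m21 : E₂ * E₁ = 0 := by rw [hE₁, hE₂, idem_mul_idem h₂ h₁, if_neg (Ne.symm h12)]
  have t0 : LinearMap.trace ℂ (Ω → ℂ) E₀ = 1 := by rw [hE₀, trace_idem, hi0, mul_one]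
  have t1 : LinearMap.trace ℂ (Ω → ℂ) E₁ = (m : ℂ) - 1 := by rw [hE₁, trace_idem, hi1, mul_one, hd₁]
  have t2 : LinearMap.trace ℂ (Ω → ℂ) E₂ = m := by rw [hE₂, trace_idem, hi2, mul_one, hd₂]
  have hE1ne : E₁ ≠ 0 := idem_ne_zero h₁ ρ (by rw [hi1]; exact one_ne_zero)
  have hE2ne : E₂ ≠ 0 := idem_ne_zero h₂ ρ (by rw [hi2]; exact one_ne_zero)
  -- the operators
  set A : Module.End ℂ (Ω → ℂ) := kerOp (fun x y => (orbK G a₀ b x y : ℂ)) with hAdef
  set J : Module.End ℂ (Ω → ℂ) := kerOp (fun _ _ => (1 : ℂ)) with hJdef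
  have hentA : ∀ x y, ent A x y = (orbK G a₀ b x y : ℂ) := fun x y => ent_kerOp _ x y
  have hentJ : ∀ x y, ent J x y = 1 := fun x y => ent_kerOp _ x y
  have hAmem : A ∈ (Representation.linHom ρ ρ).invariants := by
    rw [mem_centralizer_iff]
    intro g x y
    rw [hentA, hentA, orbK_smul]
  obtain ⟨c₀, r, s, hA⟩ := decomp_three ρ h₀ h₁ h₂ hchar h01 h02 h12 hAmem
  rw [← hE₀, ← hE₁, ← hE₂] at hA
  -- the all-ones vector
  obtain ⟨one, hone⟩ : ∃ one : Ω → ℂ, one = fun _ => 1 := ⟨_, rfl⟩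
  have hE0one : E₀ one = one := by
    rw [hE₀, idem, fnOp_apply]
    have : ∀ g : G, ρ g⁻¹ one = one := by
      intro g
      funext x
      rw [hρ, permRep_apply', hone]
    simp only [this, ← Finset.sum_smul]
    rw [Finset.sum_const, Finset.card_univ, nsmul_eq_mul, ← Nat.card_eq_fintype_card]
    have hc := card_ne_zero (G := G)
    have : (Nat.card G : ℂ) * (1 / (Nat.card G : ℂ) * 1) = 1 := by field_simp
    rw [this, one_smul]
  have hE1one : E₁ one = 0 := by
    rw [← hE0one, ← Module.End.mul_apply, m10, LinearMap.zero_apply]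
  have hE2one : E₂ one = 0 := by
    rw [← hE0one, ← Module.End.mul_apply, m20, LinearMap.zero_apply]
  have hAone : A one = (k : ℂ) • one := by
    funext x
    rw [apply_eq_sum]
    simp only [hentA, hone, mul_one, Pi.smul_apply, smul_eq_mul]
    have := sum_orbK (G := G) a₀ b x
    have h2 : (∑ y, (orbK G a₀ b x y : ℂ)) = ((∑ y, orbK G a₀ b x y : ℤ) : ℂ) := by push_cast; rfl
    rw [h2, this, ← hkdef]
    push_cast
    rfl
  have hc0 : c₀ = k := by
    have h1 := congrArg (fun T : Module.End ℂ (Ω → ℂ) => T one a₀) hA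
    simp only [LinearMap.add_apply, LinearMap.smul_apply, hE0one, hE1one, hE2one, hAone,
      Pi.add_apply, Pi.smul_apply, smul_eq_mul, Pi.zero_apply, mul_zero, add_zero] at h1
    rw [hone] at h1
    simp only [mul_one] at h1
    exact h1.symm
  rw [hc0] at hA
  -- symmetry of the kernel
  have hsymm : ∀ x y, orbK G a₀ b y x = orbK G a₀ b x y :=
    orbK_symm (G := G) a₀ hm b c hb hc hcb hall
  have h01v : ∀ x y, orbK G a₀ b x y * orbK G a₀ b x y = orbK G a₀ b x y := by
    intro x y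
    unfold orbK
    split_ifs <;> norm_num
  -- traces
  have htrA : LinearMap.trace ℂ (Ω → ℂ) A = 0 := by
    rw [trace_eq_sum_ent]
    refine Finset.sum_eq_zero fun x _ => ?_
    rw [hentA]
    have : orbK G a₀ b x x = 0 := by
      unfold orbK
      rw [if_neg]
      rintro ⟨g, hg1, hg2⟩
      exact hb (hg2.symm.trans hg1)
    rw [this]; simp
  have hlin : (k : ℂ) + r * ((m : ℂ) - 1) + s * m = 0 := by
    rw [hA, map_add, map_add, map_smul, map_smul, map_smul, t0, t1, t2] at htrA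
    simpa using htrA
  have hAA : A * A = ((k : ℂ) * k) • E₀ + (r * r) • E₁ + (s * s) • E₂ := by
    rw [hA]
    simp only [mul_add, add_mul, smul_mul_smul_comm, m00, m11, m22, m01, m10, m02, m20, m12, m21,
      smul_zero, add_zero, zero_add]
  have hentAA : ∀ x, ent (A * A) x x = k := by
    intro x
    rw [ent_mul]
    have : ∀ z, ent A x z * ent A z x = (orbK G a₀ b x z : ℂ) := by
      intro z
      rw [hentA, hentA, hsymm x z, ← Int.cast_mul, h01v]
    simp only [this]
    have h2 : (∑ y, (orbK G a₀ b x y : ℂ)) = ((∑ y, orbK G a₀ b x y : ℤ) : ℂ) := by push_cast; rfl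
    rw [h2, sum_orbK, ← hkdef]
    push_cast
    rfl
  have htrAA : LinearMap.trace ℂ (Ω → ℂ) (A * A) = 2 * m * k := by
    rw [trace_eq_sum_ent]
    simp only [hentAA]
    rw [Finset.sum_const, Finset.card_univ, hm, nsmul_eq_mul]
    push_cast
    ring
  have hquad : (k : ℂ) * k + r * r * ((m : ℂ) - 1) + s * s * m = 2 * m * k := by
    rw [hAA, map_add, map_add, map_smul, map_smul, map_smul, t0, t1, t2] at htrAA
    simpa using htrAA
  -- the intersection numbers
  have hAAmem : A * A ∈ (Representation.linHom ρ ρ).invariants := mul_mem_centralizer hAmem hAmem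
  have hdec := centralizer_decomp (G := G) a₀ b c hb hc hcb hall (A * A) hAAmem
  rw [← hAdef, ← hJdef] at hdec
  have hint : ∀ x y, ∃ N : ℤ, ent (A * A) x y = N := by
    intro x y
    refine ⟨∑ z, orbK G a₀ b x z * orbK G a₀ b z y, ?_⟩
    rw [ent_mul]
    push_cast
    refine Finset.sum_congr rfl fun z _ => ?_
    rw [hentA, hentA]
  obtain ⟨N₁, hN₁⟩ := hint a₀ b
  obtain ⟨N₂, hN₂⟩ := hint a₀ c
  obtain ⟨α, hα⟩ : ∃ α : ℂ, α = ent (A * A) a₀ a₀ - ent (A * A) a₀ c := ⟨_, rfl⟩
  rw [← hα, hN₁, hN₂] at hdec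
  -- J kills the non-principal parts
  have hJap : ∀ f : Ω → ℂ, J f = (∑ y, f y) • one := by
    intro f
    funext x
    rw [apply_eq_sum]
    simp only [hentJ, one_mul, hone, Pi.smul_apply, smul_eq_mul, mul_one]
  have hE1J : E₁ * J = 0 := by
    apply LinearMap.ext
    intro f
    rw [Module.End.mul_apply, hJap, map_smul, hE1one, smul_zero, LinearMap.zero_apply]
  have hE2J : E₂ * J = 0 := by
    apply LinearMap.ext
    intro f
    rw [Module.End.mul_apply, hJap, map_smul, hE2one, smul_zero, LinearMap.zero_apply]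
  have hE1A : E₁ * A = r • E₁ := by
    rw [hA]
    simp only [mul_add, mul_smul_comm, m10, m11, m12, smul_zero, add_zero, zero_add]
  have hE2A : E₂ * A = s • E₂ := by
    rw [hA]
    simp only [mul_add, mul_smul_comm, m20, m21, m22, smul_zero, add_zero, zero_add]
  have hr2 : r * r = α + ((N₁ : ℂ) - N₂) * r := by
    have h1 : E₁ * (A * A) = (r * r) • E₁ := by
      rw [← mul_assoc, hE1A, smul_mul_assoc, hE1A, smul_smul]
    have h2 : E₁ * (A * A) = (α + ((N₁ : ℂ) - N₂) * r) • E₁ := by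
      rw [hdec]
      simp only [mul_add, mul_smul_comm, hE1A, hE1J, mul_one, smul_zero, add_zero, smul_smul,
        ← add_smul]
    rw [h1] at h2
    by_contra hne
    apply hE1ne
    have : (r * r - (α + ((N₁ : ℂ) - N₂) * r)) • E₁ = 0 := by
      have h3 := sub_smul (r * r) (α + ((N₁ : ℂ) - N₂) * r) E₁
      rw [h3, h2, sub_self]
    rcases smul_eq_zero.mp this with h | h
    · exact absurd (sub_eq_zero.mp h) hne
    · exact h
  have hs2 : s * s = α + ((N₁ : ℂ) - N₂) * s := by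
    have h1 : E₂ * (A * A) = (s * s) • E₂ := by
      rw [← mul_assoc, hE2A, smul_mul_assoc, hE2A, smul_smul]
    have h2 : E₂ * (A * A) = (α + ((N₁ : ℂ) - N₂) * s) • E₂ := by
      rw [hdec]
      simp only [mul_add, mul_smul_comm, hE2A, hE2J, mul_one, smul_zero, add_zero, smul_smul,
        ← add_smul]
    rw [h1] at h2
    by_contra hne
    apply hE2ne
    have : (s * s - (α + ((N₁ : ℂ) - N₂) * s)) • E₂ = 0 := by
      have h3 := sub_smul (s * s) (α + ((N₁ : ℂ) - N₂) * s) E₂
      rw [h3, h2, sub_self]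
    rcases smul_eq_zero.mp this with h | h
    · exact absurd (sub_eq_zero.mp h) hne
    · exact h
  -- r ≠ s
  have hmC : (m : ℂ) ≠ 0 := by
    have : m ≠ 0 := by omega
    exact_mod_cast this
  have hkC : (k : ℂ) ≠ 0 := by
    have : k ≠ 0 := by omega
    exact_mod_cast this
  have hrs : r ≠ s := by
    intro e
    rw [e] at hlin hquad
    have e1 : s * (2 * (m : ℂ) - 1) = -k := by linear_combination hlin
    have e2 : (2 * (m : ℂ)) * k * ((k : ℂ) - (2 * m - 1)) = 0 := by
      linear_combination (2 * (m : ℂ) - 1) * hquad - (s * (2 * (m : ℂ) - 1) - k) * e1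
    have e3 : (k : ℂ) = 2 * m - 1 := by
      rcases mul_eq_zero.mp e2 with h | h
      · rcases mul_eq_zero.mp h with h' | h'
        · exfalso
          rcases mul_eq_zero.mp h' with h'' | h''
          · norm_num at h''
          · exact hmC h''
        · exact absurd h' hkC
      · exact sub_eq_zero.mp h
    have e4 : (k : ℤ) = 2 * m - 1 := by exact_mod_cast e3
    omega
  have hu : r + s = (N₁ : ℂ) - N₂ := by
    have h1 : (r - s) * (r + s - ((N₁ : ℂ) - N₂)) = 0 := by
      linear_combination hr2 - hs2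
    rcases mul_eq_zero.mp h1 with h | h
    · exact absurd (sub_eq_zero.mp h) hrs
    · exact sub_eq_zero.mp h
  -- integrality
  obtain ⟨u, hudef⟩ : ∃ u : ℤ, u = N₁ - N₂ := ⟨_, rfl⟩
  have hu' : r + s = (u : ℂ) := by rw [hu, hudef]; push_cast; ring
  obtain ⟨si, hsidef⟩ : ∃ si : ℤ, si = -(k : ℤ) - ((m : ℤ) - 1) * u := ⟨_, rfl⟩
  have hs' : s = (si : ℂ) := by
    rw [hsidef]
    push_cast
    linear_combination hlin - ((m : ℂ) - 1) * hu'
  have hr' : r = (u : ℂ) - si := by rw [← hu', hs']; ring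
  have hlinZ : (k : ℤ) + ((m : ℤ) - 1) * u + si = 0 := by rw [hsidef]; ring
  have hquadZ : (k : ℤ) ^ 2 + ((m : ℤ) - 1) * (u - si) ^ 2 + (m : ℤ) * si ^ 2 = 2 * m * k := by
    rw [hr', hs'] at hquad
    have : ((k : ℤ) ^ 2 + ((m : ℤ) - 1) * (u - si) ^ 2 + (m : ℤ) * si ^ 2 : ℂ) =
        ((2 * m * k : ℤ) : ℂ) := by
      push_cast
      linear_combination hquad
    exact_mod_cast this
  exact arith m k u si hk2 hk3 hlinZ hquadZ

end main2


/-- Groups of Wielandt type: if a primitive group of degree `2m` has rank 3 and permutation character `1 + χ₁ + χ₂` with irreducible `χ₁, χ₂` of degrees `m - 1` and `m`, then `m = 2a² + 2a + 1` for some positive integer `a` and the two non-trivial subdegrees are `a(2a+1)` and `(a+1)(2a+1)`. -/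
theorem result {G : Type*} [Group G] [Fintype G] {Ω : Type*} [Fintype Ω] [MulAction G Ω] (hprim : MulAction.IsPreprimitive G Ω) {m : ℕ} (hm : Fintype.card Ω = 2 * m) (a₀ : Ω) (hrank : Nat.card (MulAction.orbitRel.Quotient (MulAction.stabilizer G a₀) Ω) = 3) (χ₁ χ₂ : G → ℂ) (h₁ : Cfsg.IsIrrCharacter G χ₁) (h₂ : Cfsg.IsIrrCharacter G χ₂) (hπ : (fun g : G => (Nat.card (MulAction.fixedBy Ω g) : ℂ)) = fun g => 1 + χ₁ g + χ₂ g) (hd₁ : χ₁ 1 = (m : ℂ) - 1) (hd₂ : χ₂ 1 = m) : ∃ a : ℕ, 0 < a ∧ m = 2 * a ^ 2 + 2 * a + 1 ∧ ∀ b : Ω, b ≠ a₀ → Nat.card (MulAction.orbit (MulAction.stabilizer G a₀) b) = a * (2 * a + 1) ∨ Nat.card (MulAction.orbit (MulAction.stabilizer G a₀) b) = (a + 1) * (2 * a + 1) := by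
  classical
  have hex : ∃ b₀ : Ω, b₀ ≠ a₀ := by
    by_contra hcon
    push Not at hcon
    have : Fintype.card Ω = 1 := Fintype.card_eq_one_iff.mpr ⟨a₀, hcon⟩
    omega
  obtain ⟨b₀, hb₀⟩ := hex
  obtain ⟨a, ha, hma, -⟩ := main_b hprim hm a₀ hrank χ₁ χ₂ h₁ h₂ hπ hd₁ hd₂ b₀ hb₀
  refine ⟨a, ha, hma, ?_⟩
  intro b hb
  obtain ⟨a', ha', hma', hor⟩ := main_b hprim hm a₀ hrank χ₁ χ₂ h₁ h₂ hπ hd₁ hd₂ b hb
  have haa : a' = a := by
    rcases Nat.lt_trichotomy a' a with h | h | h
    · exfalso; nlinarith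
    · exact h
    · exfalso; nlinarith
  rw [haa] at hor
  exact hor

end Cfsg.Agent.S0719
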