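import Mathlib
import Cfsg.Statements.S2420
import Cfsg.Agent.Lib.Helper17.BlockTriCount

set_option autoImplicit false
open scoped MatrixGroups
open Cfsg

namespace Cfsg.Agent.S2420

open Cfsg.Agent.Helper17.BlockTri Cfsg.Agent.Helper17.NilCount

/-- The number of partial flags of a given type: for a composition `μ` of `n` (with `n` parts, zeros allowed) and a field with `q` elements, the index of the standard parabolic subgroup `P_μ` in `GL_n(q)` times `∏_i {μ_i}` equals `{n}`, where `{r}` denotes the product over `k = 1, …, r` of the q-integers `1 + q + ⋯ + q^(k−1)`. -/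
theorem result {F : Type*} [Field F] [Fintype F] {q : ℕ} (hq : Fintype.card F = q) {n : ℕ} (μ : Fin n → ℕ) (hμ : ∑ i, μ i = n) :
    Nat.card (GL (Fin n) F ⧸ Cfsg.parabolicGL n F μ) * ∏ i : Fin n, ∏ j ∈ Finset.range (μ i), ∑ l ∈ Finset.range (j + 1), q ^ l =
      ∏ j ∈ Finset.range n, ∑ l ∈ Finset.range (j + 1), q ^ l := by
  classical
  subst hq
  have hlt : ∀ i : Fin n, Cfsg.compLabel μ i < n := compLabel_lt μ hμ
  set b : Fin n → Fin n := fun i => ⟨Cfsg.compLabel μ i, hlt i⟩ with hb
  have hP : Nat.card (Cfsg.parabolicGL n F μ) = Nat.card (T F b) := by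
    refine Nat.card_eq_of_bijective
      (fun g : Cfsg.parabolicGL n F μ =>
        (⟨(g.1 : Matrix (Fin n) (Fin n) F), fun i j hij => g.2 hij,
          (Matrix.isUnits_det_units g.1).ne_zero⟩ : T F b)) ⟨?_, ?_⟩
    · intro g h hgh
      apply Subtype.ext
      apply Units.ext
      exact congrArg Subtype.val hgh
    · rintro ⟨M, hM, hd⟩
      exact ⟨⟨Matrix.nonsingInvUnit M (isUnit_iff_ne_zero.2 hd), fun i j hij => hM hij⟩, rfl⟩
  have hL := Subgroup.card_eq_card_quotient_mul_card_subgroup (Cfsg.parabolicGL n F μ)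
  have hT := card_T (F := F) b
  have hcard : ∀ a : Fin n, (Finset.univ.filter (fun i : Fin n => b i = a)).card = μ a := by
    intro a
    rw [← card_compLabel μ hμ a]
    congr 1
    apply Finset.filter_congr
    intro i _
    exact Fin.ext_iff
  have hblock : ∀ a : Fin n, Nat.card (GL {i // b i = a} F) = gl F (μ a) := by
    intro a
    have hc : Fintype.card {i // b i = a} = μ a := by
      rw [Fintype.card_subtype, hcard a]
    rw [gl]
    exact card_GL_congr (Fintype.equivFinOfCardEq hc)
  have hpairs := card_pairs_aux b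
  have hUp : Nat.card (Up b) =
      (Finset.univ.filter (fun p : Fin n × Fin n => b p.1 < b p.2)).card := by
    unfold Up
    rw [Nat.card_eq_fintype_card, Fintype.card_subtype]
  rw [← hUp] at hpairs
  simp only [hcard, Fintype.card_fin] at hpairs
  simp only [hblock] at hT
  -- exponent bookkeeping
  have hE : (∑ a : Fin n, ∑ i ∈ Finset.range (μ a), i) + Nat.card (Up b) =
      ∑ i ∈ Finset.range n, i := by
    have h1 : (∑ a : Fin n, ∑ i ∈ Finset.range (μ a), i) * 2 = ∑ a : Fin n, μ a * (μ a - 1) := by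
      rw [Finset.sum_mul]
      apply Finset.sum_congr rfl
      intro a _
      exact Finset.sum_range_id_mul_two _
    have h2 := Finset.sum_range_id_mul_two n
    have hsq : ∀ k : ℕ, k ^ 2 = k * (k - 1) + k := by
      intro k
      cases k with
      | zero => rfl
      | succ r => rw [Nat.add_sub_cancel]; ring
    have h3 : ∑ a : Fin n, μ a ^ 2 = ∑ a : Fin n, μ a * (μ a - 1) + n := by
      have h3' : ∑ a : Fin n, μ a ^ 2 = ∑ a : Fin n, (μ a * (μ a - 1) + μ a) :=
        Finset.sum_congr rfl (fun a _ => hsq (μ a))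
      rw [h3', Finset.sum_add_distrib, hμ]
    have h4 : n ^ 2 = n * (n - 1) + n := hsq n
    omega
  have hprod : ∏ a : Fin n, gl F (μ a) =
      Fintype.card F ^ (∑ a : Fin n, ∑ i ∈ Finset.range (μ a), i) * (Fintype.card F - 1) ^ n *
        ∏ a : Fin n, ∏ j ∈ Finset.range (μ a), ∑ l ∈ Finset.range (j + 1), Fintype.card F ^ l := by
    simp only [gl_formula]
    rw [Finset.prod_mul_distrib, Finset.prod_mul_distrib, Finset.prod_pow_eq_pow_sum,
      Finset.prod_pow_eq_pow_sum, hμ]
  have hG : Nat.card (GL (Fin n) F) = gl F n := rfl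
  rw [hG, gl_formula, hP, hT, hprod, ← hE, pow_add] at hL
  have hq1 : 0 < Fintype.card F - 1 := by
    have := Fintype.one_lt_card (α := F)
    omega
  have hpos : 0 < Fintype.card F ^ (∑ a : Fin n, ∑ i ∈ Finset.range (μ a), i) *
      Fintype.card F ^ Nat.card (Up b) * (Fintype.card F - 1) ^ n :=
    Nat.mul_pos (Nat.mul_pos (pow_pos Fintype.card_pos _) (pow_pos Fintype.card_pos _))
      (pow_pos hq1 _)
  apply Nat.eq_of_mul_eq_mul_right hpos
  rw [← mul_left_inj' (show (1 : ℕ) ≠ 0 from one_ne_zero)]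
  calc _ = _ := by ring
    _ = _ := hL.symm
    _ = _ := by ring

end Cfsg.Agent.S2420
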