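import Mathlib
import Cfsg.Statements.S2424
import Cfsg.Agent.Lib.Helper17.QVandermonde
import Cfsg.Agent.S2420

set_option autoImplicit false
open scoped MatrixGroups
open Cfsg

namespace Cfsg.Agent.S2424

open Cfsg.Agent.Helper17.QVand

/-- Degrees of the partition-indexed irreducible characters of `GL_n(q)`: for `ν` a partition of `n` with `n` non-decreasing parts `ν_0 ≤ ⋯ ≤ ν_{n−1}` (zeros allowed; positions counted from 0) and `λ_i = ν_i + i`, write `Q(r)` for the q-integer `1 + q + ⋯ + q^(r−1)` and `Q!(r)` for `Q(1)Q(2)⋯Q(r)`; then the degree `γ(ν)` of the character satisfies `γ(ν) · q^(n(n−1)(n−2)/6) · ∏_i Q!(λ_i) = Q!(n) · ∏_{i<j} (Q(λ_j) − Q(λ_i))`. For `ν = (1,…,1)` this gives the Steinberg degree `q^(n(n−1)/2)`, for `ν = (0,…,0,n)` degree 1. -/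
theorem result {F : Type*} [Field F] [Fintype F] {q : ℕ} (hq : Fintype.card F = q) {n : ℕ} (ν : Fin n → ℕ) (hmono : Monotone ν) (hsum : ∑ i, ν i = n) :
    Cfsg.unipotentCharacterGL n F ν 1 * (q : ℂ) ^ (n * (n - 1) * (n - 2) / 6) *
        ∏ i : Fin n, ∏ j ∈ Finset.range (ν i + i.val), ((∑ l ∈ Finset.range (j + 1), q ^ l : ℕ) : ℂ) =
      (∏ j ∈ Finset.range n, ((∑ l ∈ Finset.range (j + 1), q ^ l : ℕ) : ℂ)) *
        ∏ i : Fin n, ∏ j ∈ Finset.univ.filter (fun j : Fin n => i < j),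
          (((∑ l ∈ Finset.range (ν j + j.val), q ^ l : ℕ) : ℂ) - ((∑ l ∈ Finset.range (ν i + i.val), q ^ l : ℕ) : ℂ)) := by
  classical
  set lam : Fin n → ℕ := fun i => ν i + i.val with hlam
  have e1 : ∀ i : Fin n, ∏ j ∈ Finset.range (ν i + i.val),
      ((∑ l ∈ Finset.range (j + 1), q ^ l : ℕ) : ℂ) = ((Qf q (lam i) : ℕ) : ℂ) := by
    intro i
    unfold Qf Qn
    rw [Nat.cast_prod]
  have e2 : ∏ j ∈ Finset.range n, ((∑ l ∈ Finset.range (j + 1), q ^ l : ℕ) : ℂ) =
      ((Qf q n : ℕ) : ℂ) := by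
    unfold Qf Qn
    rw [Nat.cast_prod]
  have hfix : ∀ H : Subgroup (GL (Fin n) F),
      Cfsg.fixedPointCharacter H 1 = (Nat.card (GL (Fin n) F ⧸ H) : ℂ) := by
    intro H
    unfold Cfsg.fixedPointCharacter
    congr 1
    exact Nat.card_eq_of_bijective Subtype.val
      ⟨Subtype.val_injective, fun x => ⟨⟨x, one_smul _ _⟩, rfl⟩⟩
  have key : ∀ κ : Equiv.Perm (Fin n),
      (if ∀ i : Fin n, (κ i).val ≤ ν i + i.val then
        ((Equiv.Perm.sign κ : ℤ) : ℂ) *
          Cfsg.fixedPointCharacter (Cfsg.parabolicGL n F fun i => ν i + i.val - (κ i).val) 1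
        else 0) * ∏ i : Fin n, ((Qf q (lam i) : ℕ) : ℂ) =
      ((Qf q n : ℕ) : ℂ) * (((Equiv.Perm.sign κ : ℤ) : ℂ) *
        ∏ i : Fin n, ((ff q (lam i) (κ i).val : ℕ) : ℂ)) := by
    intro κ
    by_cases hc : ∀ i : Fin n, (κ i).val ≤ ν i + i.val
    · rw [if_pos hc, hfix]
      have hsum' : ∑ i : Fin n, (ν i + i.val - (κ i).val) = n := by
        have h1 : ∑ i : Fin n, (ν i + i.val - (κ i).val) + ∑ i : Fin n, (κ i).val =
            ∑ i : Fin n, (ν i + i.val) := by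
          rw [← Finset.sum_add_distrib]
          apply Finset.sum_congr rfl
          intro i _
          exact Nat.sub_add_cancel (hc i)
        have h2 : ∑ i : Fin n, (κ i).val = ∑ i : Fin n, i.val :=
          Equiv.sum_comp κ (fun i : Fin n => i.val)
        rw [Finset.sum_add_distrib, hsum] at h1
        omega
      have h3 := Cfsg.Agent.S2420.result hq (fun i : Fin n => ν i + i.val - (κ i).val) hsum'
      have h4 : ∏ i : Fin n, Qf q (lam i) =
          (∏ i : Fin n, Qf q (ν i + i.val - (κ i).val)) * ∏ i : Fin n, ff q (lam i) (κ i).val := by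
        rw [← Finset.prod_mul_distrib]
        apply Finset.prod_congr rfl
        intro i _
        exact Qf_eq q (lam i) (κ i).val (hc i)
      have h5 : Nat.card (GL (Fin n) F ⧸ Cfsg.parabolicGL n F fun i => ν i + i.val - (κ i).val) *
          ∏ i : Fin n, Qf q (lam i) = Qf q n * ∏ i : Fin n, ff q (lam i) (κ i).val := by
        rw [h4, ← mul_assoc]
        congr 1
      have h6 := congrArg (fun k : ℕ => (k : ℂ)) h5
      simp only [Nat.cast_mul, Nat.cast_prod] at h6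
      calc _ = ((Equiv.Perm.sign κ : ℤ) : ℂ) * ((Nat.card (GL (Fin n) F ⧸
            Cfsg.parabolicGL n F fun i => ν i + i.val - (κ i).val) : ℂ) *
              ∏ i : Fin n, ((Qf q (lam i) : ℕ) : ℂ)) := by ring
        _ = _ := by rw [h6]; ring
    · rw [if_neg hc, zero_mul]
      push_neg at hc
      obtain ⟨i, hi⟩ := hc
      have : ∏ i : Fin n, ((ff q (lam i) (κ i).val : ℕ) : ℂ) = 0 := by
        apply Finset.prod_eq_zero (Finset.mem_univ i)
        rw [ff_eq_zero q (lam i) (κ i).val hi, Nat.cast_zero]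
      rw [this, mul_zero, mul_zero]
  have hdet : Matrix.det (Matrix.of fun i j : Fin n => ((ff q (lam i) j.val : ℕ) : ℂ)) =
      ∑ κ : Equiv.Perm (Fin n), ((Equiv.Perm.sign κ : ℤ) : ℂ) *
        ∏ i : Fin n, ((ff q (lam i) (κ i).val : ℕ) : ℂ) := by
    rw [← Matrix.det_transpose, Matrix.det_apply']
    rfl
  have hV := det_ff (R := ℂ) q n lam
  rw [sum_tri] at hV
  simp only [e1, e2]
  have hγ : Cfsg.unipotentCharacterGL n F ν 1 * ∏ i : Fin n, ((Qf q (lam i) : ℕ) : ℂ) =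
      ((Qf q n : ℕ) : ℂ) * Matrix.det (Matrix.of fun i j : Fin n => ((ff q (lam i) j.val : ℕ) : ℂ)) := by
    unfold Cfsg.unipotentCharacterGL
    rw [Finset.sum_mul, hdet, Finset.mul_sum]
    exact Finset.sum_congr rfl (fun κ _ => key κ)
  have hI : ∀ i : Fin n, Finset.univ.filter (fun j : Fin n => i < j) = Finset.Ioi i :=
    fun i => Finset.filter_lt_eq_Ioi
  simp only [hI]
  have hV' : ∏ i : Fin n, ∏ j ∈ Finset.Ioi i,
      (((∑ l ∈ Finset.range (ν j + j.val), q ^ l : ℕ) : ℂ) -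
        ((∑ l ∈ Finset.range (ν i + i.val), q ^ l : ℕ) : ℂ)) =
      (q : ℂ) ^ (n * (n - 1) * (n - 2) / 6) *
        Matrix.det (Matrix.of fun i j : Fin n => ((ff q (lam i) j.val : ℕ) : ℂ)) := by
    rw [hV]
    rfl
  rw [hV']
  calc _ = (Cfsg.unipotentCharacterGL n F ν 1 * ∏ i : Fin n, ((Qf q (lam i) : ℕ) : ℂ)) *
        (q : ℂ) ^ (n * (n - 1) * (n - 2) / 6) := by ring
    _ = _ := by rw [hγ]; ring

end Cfsg.Agent.S2424
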