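import Mathlib
import Cfsg.Agent.Lib.Helper22.RankThree
import Cfsg.Agent.Lib.Helper19.PGroupBasic
import Cfsg.Agent.S0100
import Cfsg.Agent.S0126
import Cfsg.Agent.S1452
import Cfsg.Statements.S1453
-- import your own Cfsg.Agent.* helpers here

set_option autoImplicit false
open Cfsg

namespace Cfsg.Agent.S1453

open Subgroup
open scoped commutatorElement
open Cfsg.Agent.Helper22

/-- if `⁅a, u⁆ = ⁅a, x⁆` then `u⁻¹ * x` commutes with `a` -/
theorem commute_of_commutator_eq {G : Type*} [Group G] (a u x : G) (h : ⁅a, u⁆ = ⁅a, x⁆) :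
    (u⁻¹ * x) * a = a * (u⁻¹ * x) := by
  rw [commutatorElement_def, commutatorElement_def] at h
  have h1 : u * a⁻¹ * u⁻¹ = x * a⁻¹ * x⁻¹ := by
    have : a * (u * a⁻¹ * u⁻¹) = a * (x * a⁻¹ * x⁻¹) := by
      simpa [mul_assoc] using h
    exact mul_left_cancel this
  have h2 : (u⁻¹ * x) * a⁻¹ = a⁻¹ * (u⁻¹ * x) := by
    have : u⁻¹ * x * a⁻¹ = u⁻¹ * (x * a⁻¹ * x⁻¹) * x := by group
    rw [this, ← h1]
    group
  have h3 : Commute (u⁻¹ * x) a⁻¹ := h2
  have h4 := h3.inv_right
  rw [inv_inv] at h4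
  exact h4.eq

/-- Let p be an odd prime and R a finite p-group with an elementary abelian subgroup of order p ^ 3 and an elementary abelian subgroup E of order p ^ 2 contained in no larger elementary abelian subgroup. Let Z₂ be the second centre of R, W the subgroup generated by the elements of Z₂ of order dividing p, and T = C_R(W). Then E is not contained in T; the elements of order dividing p of the centre of R generate a group of order p; W is elementary abelian of order p ^ 2; and T is characteristic in R of index p. -/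
theorem result {R : Type*} [Group R] [Finite R] (p : ℕ) [Fact p.Prime] (hp : p ≠ 2) (hR : IsPGroup p R) (hr : ¬ Cfsg.PRankLE p 2 R)
    (E : Subgroup R) (hE : Cfsg.IsElementaryAbelian p E) (hE2 : Nat.card E = p ^ 2)
    (hEmax : ∀ B : Subgroup R, Cfsg.IsElementaryAbelian p B → E ≤ B → B = E) :
    ¬ E ≤ Subgroup.centralizer ((Subgroup.closure {x : R | x ∈ Subgroup.upperCentralSeries R 2 ∧ x ^ p = 1} : Subgroup R) : Set R) ∧
      Nat.card ↥(Subgroup.closure {x : R | x ∈ Subgroup.center R ∧ x ^ p = 1}) = p ∧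
      (Cfsg.IsElementaryAbelian p (Subgroup.closure {x : R | x ∈ Subgroup.upperCentralSeries R 2 ∧ x ^ p = 1}) ∧
        Nat.card ↥(Subgroup.closure {x : R | x ∈ Subgroup.upperCentralSeries R 2 ∧ x ^ p = 1}) = p ^ 2) ∧
      (Subgroup.centralizer ((Subgroup.closure {x : R | x ∈ Subgroup.upperCentralSeries R 2 ∧ x ^ p = 1} : Subgroup R) : Set R)).Characteristic ∧
      (Subgroup.centralizer ((Subgroup.closure {x : R | x ∈ Subgroup.upperCentralSeries R 2 ∧ x ^ p = 1} : Subgroup R) : Set R)).index = p := by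
  classical
  have hpp : p.Prime := Fact.out
  obtain ⟨hEc, hEe⟩ := hE
  have hEcm : ∀ u ∈ E, ∀ v ∈ E, u * v = v * u := fun a ha b hb =>
    congrArg Subtype.val (hEc.is_comm.comm ⟨a, ha⟩ ⟨b, hb⟩)
  -- an elementary abelian subgroup of order > p^2
  obtain ⟨X, hXc, hXe, hXcard⟩ : ∃ X : Subgroup R, IsMulCommutative X ∧ (∀ a ∈ X, a ^ p = 1) ∧
      p ^ 2 < Nat.card X := by
    by_contra hno
    apply hr
    intro X hXc hXe
    by_contra hX
    exact hno ⟨X, hXc, hXe, not_le.1 hX⟩
  have hXcm : ∀ u ∈ X, ∀ v ∈ X, u * v = v * u := fun a ha b hb =>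
    congrArg Subtype.val (hXc.is_comm.comm ⟨a, ha⟩ ⟨b, hb⟩)
  -- (a) elements of order p centralising E lie in E
  have ha : ∀ x ∈ centralizer (E : Set R), x ^ p = 1 → x ∈ E := by
    intro x hx hxp
    have hxc : ∀ u ∈ E, Commute u x := fun u hu => Subgroup.mem_centralizer_iff.1 hx u hu
    obtain ⟨hc, he⟩ := comm_and_pow_of_mem_sup p E (zpowers x)
      (by
        intro u hu v hv
        obtain ⟨k, rfl⟩ := Subgroup.mem_zpowers_iff.1 hv
        exact ((hxc u hu).zpow_right k).eq)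
      hEcm
      (by
        intro u hu v hv
        obtain ⟨k, rfl⟩ := Subgroup.mem_zpowers_iff.1 hu
        obtain ⟨l, rfl⟩ := Subgroup.mem_zpowers_iff.1 hv
        exact (Commute.zpow_zpow_self x k l).eq)
      hEe
      (by
        intro u hu
        obtain ⟨k, rfl⟩ := Subgroup.mem_zpowers_iff.1 hu
        rw [← zpow_natCast, ← zpow_mul, mul_comm, zpow_mul, zpow_natCast, hxp, one_zpow])
    have hB := hEmax (E ⊔ zpowers x) ⟨⟨⟨fun a b => Subtype.ext (hc a a.2 b b.2)⟩⟩, he⟩ le_sup_left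
    rw [← hB]
    exact (le_sup_right : zpowers x ≤ E ⊔ zpowers x) (Subgroup.mem_zpowers x)
  -- the subgroup Z₀ of central elements of order dividing p
  let Z₀ : Subgroup R :=
    { carrier := {x : R | x ∈ center R ∧ x ^ p = 1}
      mul_mem' := by
        rintro x y ⟨hx, hxp⟩ ⟨hy, hyp⟩
        refine ⟨Subgroup.mul_mem _ hx hy, ?_⟩
        have : Commute x y := (Subgroup.mem_center_iff.1 hx y).symm
        rw [this.mul_pow, hxp, hyp, one_mul]
      one_mem' := ⟨Subgroup.one_mem _, one_pow _⟩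
      inv_mem' := by
        rintro x ⟨hx, hxp⟩
        exact ⟨Subgroup.inv_mem _ hx, by rw [inv_pow, hxp, inv_one]⟩ }
  have hZ₀mem : ∀ x, x ∈ Z₀ ↔ x ∈ center R ∧ x ^ p = 1 := fun x => Iff.rfl
  have hZ₀cl : Subgroup.closure {x : R | x ∈ Subgroup.center R ∧ x ^ p = 1} = Z₀ :=
    Subgroup.closure_eq Z₀
  have hZ₀n : Z₀.Normal := by
    refine ⟨fun z hz g => ?_⟩
    have : g * z * g⁻¹ = z := by
      rw [Subgroup.mem_center_iff.1 ((hZ₀mem z).1 hz).1 g, mul_inv_cancel_right]
    rwa [this]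
  have hZE : Z₀ ≤ E := by
    intro z hz
    apply ha z _ ((hZ₀mem z).1 hz).2
    rw [Subgroup.mem_centralizer_iff]
    intro e _
    exact Subgroup.mem_center_iff.1 ((hZ₀mem z).1 hz).1 e
  -- a normal elementary abelian subgroup of order p^2
  have hnc : ¬ IsCyclic R := by
    intro hc
    have h1 := Cfsg.Agent.S0100.card_le_of_isCyclic p X hXe
    have : p ≤ p ^ 2 := by nlinarith [hpp.two_le]
    omega
  obtain ⟨U, hUn, ⟨hUc, hUe⟩, hUcard⟩ := Cfsg.Agent.S0126.result hp hR hnc
  haveI := hUn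
  have hUcm : ∀ u ∈ U, ∀ v ∈ U, u * v = v * u := fun a ha b hb =>
    congrArg Subtype.val (hUc.is_comm.comm ⟨a, ha⟩ ⟨b, hb⟩)
  have hUne : U ≠ ⊥ := by
    intro h
    rw [h, Subgroup.card_bot] at hUcard
    have := hpp.two_le
    nlinarith
  obtain ⟨c, hcUZ, hc1⟩ : ∃ c ∈ U ⊓ center R, c ≠ 1 := by
    have := Cfsg.Agent.Helper19.normal_inf_center_ne_bot hR U hUne
    obtain ⟨c, hc⟩ := (Subgroup.ne_bot_iff_exists_ne_one).1 this
    exact ⟨c.1, c.2, fun h => hc (Subtype.ext h)⟩
  have hcZ : c ∈ Z₀ := (hZ₀mem c).2 ⟨hcUZ.2, hUe c hcUZ.1⟩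
  have hordc : orderOf c = p := orderOf_eq_prime (hUe c hcUZ.1) hc1
  -- card Z₀ = p
  have hZcard : Nat.card Z₀ = p := by
    obtain ⟨i, hi⟩ := (Nat.dvd_prime_pow hpp).1 (hE2 ▸ Subgroup.card_dvd_of_le hZE)
    have hi0 : i ≠ 0 := by
      rintro rfl
      rw [pow_zero] at hi
      have hbot : Z₀ = ⊥ := Subgroup.card_eq_one.1 hi.2
      rw [hbot, Subgroup.mem_bot] at hcZ
      exact hc1 hcZ
    have hi2 : i ≠ 2 := by
      rintro rfl
      have hZeq : Z₀ = E := Subgroup.eq_of_le_of_card_ge hZE (by rw [hE2, hi.2])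
      have hXE : X ≤ E := by
        intro x hx
        apply ha x _ (hXe x hx)
        rw [Subgroup.mem_centralizer_iff]
        intro e he
        have : e ∈ Z₀ := hZeq ▸ he
        exact Subgroup.mem_center_iff.1 ((hZ₀mem e).1 this).1 x |>.symm
      have := Subgroup.card_le_of_le hXE
      omega
    have hi1 : i = 1 := by have := hi.1; omega
    rw [hi.2, hi1, pow_one]
  have hZU : Z₀ ≤ U := by
    have hle : zpowers c ≤ Z₀ := by rw [Subgroup.zpowers_le]; exact hcZ
    have heq : zpowers c = Z₀ := by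
      apply Subgroup.eq_of_le_of_card_ge hle
      rw [Nat.card_zpowers, hordc, hZcard]
    rw [← heq, Subgroup.zpowers_le]
    exact hcUZ.1
  have hUcardZ : Nat.card U = p * Nat.card Z₀ := by rw [hUcard, hZcard]; ring
  have hEcardZ : Nat.card E = p * Nat.card Z₀ := by rw [hE2, hZcard]; ring
  have hUZ₂ : U ≤ Subgroup.upperCentralSeries R 2 := by
    intro u hu
    rw [show (2 : ℕ) = 1 + 1 from rfl, Subgroup.mem_upperCentralSeries_succ_iff]
    intro y
    rw [Subgroup.upperCentralSeries_one]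
    exact ((hZ₀mem _).1 (commutator_mem_of_card_eq_prime_mul hR Z₀ U hZU hUcardZ u hu y)).1
  have hZ₂comm : ∀ x ∈ Subgroup.upperCentralSeries R 2, ∀ y : R, ⁅x, y⁆ ∈ center R := by
    intro x hx y
    rw [show (2 : ℕ) = 1 + 1 from rfl, Subgroup.mem_upperCentralSeries_succ_iff] at hx
    have := hx y
    rwa [Subgroup.upperCentralSeries_one] at this
  -- centralising criterion for E
  have hcentE : ∀ e ∈ E, e ∉ center R → ∀ a : R, a * e = e * a → a ∈ centralizer (E : Set R) := by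
    intro e he hec a hae
    have heZ : e ∉ Z₀ := fun h => hec ((hZ₀mem e).1 h).1
    have hlt : Z₀ < Z₀ ⊔ zpowers e := by
      refine lt_of_le_of_ne le_sup_left ?_
      intro h
      apply heZ
      rw [h]
      exact (le_sup_right : zpowers e ≤ Z₀ ⊔ zpowers e) (Subgroup.mem_zpowers e)
    have hle : Z₀ ⊔ zpowers e ≤ E := sup_le hZE (by rw [Subgroup.zpowers_le]; exact he)
    have heq : Z₀ ⊔ zpowers e = E :=
      eq_of_lt_of_le_of_card_eq_prime_mul Z₀ _ E hlt hle hEcardZ
    have hsub : Z₀ ⊔ zpowers e ≤ centralizer {a} := by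
      apply sup_le
      · intro z hz
        rw [Subgroup.mem_centralizer_singleton_iff]
        exact (Subgroup.mem_center_iff.1 ((hZ₀mem z).1 hz).1 a).symm
      · rw [Subgroup.zpowers_le, Subgroup.mem_centralizer_singleton_iff]
        exact hae.symm
    rw [Subgroup.mem_centralizer_iff]
    intro b hb
    have := hsub (heq ▸ hb)
    exact (Subgroup.mem_centralizer_singleton_iff.1 this)
  -- (★★)
  have hstar2 : ∀ e ∈ E, e ∈ Subgroup.upperCentralSeries R 2 → e ∈ center R := by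
    intro e he heZ₂
    by_contra hec
    obtain ⟨A, hAn, hAc, hAe, hAcard⟩ : ∃ A : Subgroup R, A.Normal ∧ IsMulCommutative A ∧
        (∀ a ∈ A, a ^ p = 1) ∧ Nat.card A = p ^ 3 := by
      by_contra hno
      have := Cfsg.Agent.S0100.result hp hR
        (fun A hn hc he hcard => hno ⟨A, hn, hc, he, hcard⟩) X hXc hXe
      omega
    have h1 : ∀ a ∈ A, ⁅e, a⁆ ∈ Z₀ := by
      intro a ha'
      refine (hZ₀mem _).2 ⟨hZ₂comm e heZ₂ a, hAe _ ?_⟩
      rw [commutatorElement_def]
      exact A.mul_mem (hAn.conj_mem a ha' e) (A.inv_mem ha')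
    have h2 : ∀ a ∈ A, ∀ z ∈ Z₀, a * z = z * a := by
      intro a _ z hz
      exact (Subgroup.mem_center_iff.1 ((hZ₀mem z).1 hz).1 a)
    have h3 := card_le_card_inf_centralizer_mul e A Z₀ h1 h2
    rw [hAcard, hZcard] at h3
    have h4 : p ^ 2 ≤ Nat.card (A ⊓ centralizer {e} : Subgroup R) := by
      have : p ^ 2 * p ≤ Nat.card (A ⊓ centralizer {e} : Subgroup R) * p := by
        calc p ^ 2 * p = p ^ 3 := by ring
        _ ≤ _ := h3
      exact Nat.le_of_mul_le_mul_right this hpp.pos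
    have h5 : A ⊓ centralizer {e} ≤ E := by
      intro a ha'
      apply ha a _ (hAe a ha'.1)
      exact hcentE e he hec a (Subgroup.mem_centralizer_singleton_iff.1 ha'.2)
    have h6 : A ⊓ centralizer {e} = E := Subgroup.eq_of_le_of_card_ge h5 (by rw [hE2]; exact h4)
    have h7 : E ≤ A := by rw [← h6]; exact inf_le_left
    have h8 := hEmax A ⟨hAc, hAe⟩ h7
    rw [h8, hE2] at hAcard
    have : p ^ 2 < p ^ 3 := Nat.pow_lt_pow_right hpp.one_lt (by norm_num)
    omega
  -- an element of E outside the centre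
  obtain ⟨e₀, he₀E, he₀Z⟩ : ∃ e₀ ∈ E, e₀ ∉ Z₀ := by
    by_contra hno
    have hEZ : E ≤ Z₀ := by
      intro e he
      by_contra heZ
      exact hno ⟨e, he, heZ⟩
    have := Subgroup.card_le_of_le hEZ
    rw [hE2, hZcard] at this
    nlinarith [hpp.two_le]
  have he₀c : e₀ ∉ center R := fun h => he₀Z ((hZ₀mem e₀).2 ⟨h, hEe e₀ he₀E⟩)
  -- W and its characteristic property
  set W : Subgroup R :=
    Subgroup.closure {x : R | x ∈ Subgroup.upperCentralSeries R 2 ∧ x ^ p = 1} with hW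
  have hWchar : W.Characteristic := by
    rw [Subgroup.characteristic_iff_map_le]
    intro φ
    rw [hW, MonoidHom.map_closure]
    apply Subgroup.closure_mono
    rintro _ ⟨x, ⟨hx, hxp⟩, rfl⟩
    refine ⟨?_, ?_⟩
    · have hfix := (inferInstance : (Subgroup.upperCentralSeries R 2).Characteristic).fixed φ
      rw [← hfix] at hx
      exact hx
    · change (φ x) ^ p = 1
      rw [← map_pow, hxp, map_one]
  have hcommZ : ∀ x : R, x ∈ Subgroup.upperCentralSeries R 2 → x ^ p = 1 → ⁅e₀, x⁆ ∈ Z₀ := by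
    intro x hx hxp
    have hc1 : ⁅x, e₀⁆ ∈ center R := hZ₂comm x hx e₀
    have hcx : Commute ⁅x, e₀⁆ e₀ := (Subgroup.mem_center_iff.1 hc1 e₀).symm
    have hcy : Commute ⁅x, e₀⁆ x := (Subgroup.mem_center_iff.1 hc1 x).symm
    have hpow : ⁅x, e₀⁆ ^ p = 1 := by
      rw [← commutator_pow_left_of_commute e₀ x hcx hcy p, hxp, commutatorElement_one_left]
    have hinv : ⁅e₀, x⁆ = ⁅x, e₀⁆⁻¹ := (commutatorElement_inv x e₀).symm
    rw [hinv]
    exact Z₀.inv_mem ((hZ₀mem _).2 ⟨hc1, hpow⟩)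
  have hUC : U ⊓ centralizer {e₀} = Z₀ := by
    apply le_antisymm
    · intro u hu
      have h1 : u ∈ centralizer (E : Set R) :=
        hcentE e₀ he₀E he₀c u (Subgroup.mem_centralizer_singleton_iff.1 hu.2)
      have h2 : u ∈ E := ha u h1 (hUe u hu.1)
      exact (hZ₀mem u).2 ⟨hstar2 u h2 (hUZ₂ hu.1), hUe u hu.1⟩
    · intro z hz
      refine ⟨hZU hz, ?_⟩
      change z ∈ centralizer {e₀}
      rw [Subgroup.mem_centralizer_singleton_iff]
      exact (Subgroup.mem_center_iff.1 ((hZ₀mem z).1 hz).1 e₀).symm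
  have hsurj : ∀ b ∈ Z₀, ∃ u ∈ U, ⁅e₀, u⁆ = b := by
    apply exists_commutator_eq e₀ U Z₀ (fun u hu => hcommZ u (hUZ₂ hu) (hUe u hu))
    · intro u _ z hz
      exact (Subgroup.mem_center_iff.1 ((hZ₀mem z).1 hz).1 u)
    · rw [hUC, hUcard, hZcard]
      ring
  have hWU : W = U := by
    apply le_antisymm
    · rw [hW, Subgroup.closure_le]
      rintro x ⟨hx, hxp⟩
      obtain ⟨u, hu, hux⟩ := hsurj _ (hcommZ x hx hxp)
      set y := u⁻¹ * x with hy
      have hye : y * e₀ = e₀ * y := commute_of_commutator_eq e₀ u x hux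
      have hyZ₂ : y ∈ Subgroup.upperCentralSeries R 2 :=
        Subgroup.mul_mem _ (Subgroup.inv_mem _ (hUZ₂ hu)) hx
      have hyp : y ^ p = 1 := by
        have hc1 : ⁅x, u⁻¹⁆ ∈ center R := hZ₂comm x hx u⁻¹
        have hcx : Commute ⁅x, u⁻¹⁆ u⁻¹ := (Subgroup.mem_center_iff.1 hc1 u⁻¹).symm
        have hcy : Commute ⁅x, u⁻¹⁆ x := (Subgroup.mem_center_iff.1 hc1 x).symm
        have hpow : ⁅x, u⁻¹⁆ ^ p = 1 := by
          rw [← commutator_pow_left_of_commute u⁻¹ x hcx hcy p, hxp, commutatorElement_one_left]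
        have hdvd : p ∣ p.choose 2 := by
          apply hpp.dvd_choose_self (by norm_num)
          have := hpp.two_le
          omega
        obtain ⟨k, hk⟩ := hdvd
        rw [hy, mul_pow_eq_of_commute u⁻¹ x hcx hcy p, hk, pow_mul, hpow, one_pow, inv_pow,
          hUe u hu, hxp]
        simp
      have hyE : y ∈ E := ha y (hcentE e₀ he₀E he₀c y hye) hyp
      have hyZ : y ∈ Z₀ := (hZ₀mem y).2 ⟨hstar2 y hyE hyZ₂, hyp⟩
      have : x = u * y := by rw [hy]; group
      rw [this]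
      exact U.mul_mem hu (hZU hyZ)
    · intro u hu
      exact Subgroup.subset_closure ⟨hUZ₂ hu, hUe u hu⟩
  -- E is not in the centraliser of U
  have hET : ¬ E ≤ centralizer (U : Set R) := by
    intro h
    have hUE : U ≤ E := by
      intro u hu
      apply ha u _ (hUe u hu)
      rw [Subgroup.mem_centralizer_iff]
      intro e he
      exact (Subgroup.mem_centralizer_iff.1 (h he) u hu).symm
    have hUeqE : U = E := Subgroup.eq_of_le_of_card_ge hUE (by rw [hE2, hUcard])
    subst hUeqE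
    obtain ⟨x, hxXC, hxE⟩ :=
      Cfsg.Agent.S1452.exists_mem_centralizer_not_mem hR U hE2 X hXcm hXcard
    exact hxE (ha x hxXC.2 (hXe x hxXC.1))
  haveI := hWchar
  refine ⟨?_, ?_, ⟨?_, ?_⟩, inferInstance, ?_⟩
  · rw [hWU]; exact hET
  · rw [hZ₀cl]; exact hZcard
  · rw [hWU]; exact ⟨hUc, hUe⟩
  · rw [hWU]; exact hUcard
  · rw [hWU]
    have hidx : (centralizer (U : Set R)).index ≤ p :=
      Cfsg.Agent.S0100.index_centralizer_le hR U hUcard
    obtain ⟨n, hn⟩ := hR.exists_card_eq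
    obtain ⟨i, hi⟩ := (Nat.dvd_prime_pow hpp).1 (hn ▸ Subgroup.index_dvd_card (centralizer (U : Set R)))
    have hi0 : i ≠ 0 := by
      rintro rfl
      rw [pow_zero] at hi
      apply hET
      rw [Subgroup.index_eq_one.1 hi.2]
      exact le_top
    have hi1 : i ≤ 1 := by
      by_contra h
      have h2 : 2 ≤ i := by omega
      have : p ^ 2 ≤ p ^ i := Nat.pow_le_pow_right hpp.pos h2
      rw [hi.2] at hidx
      nlinarith [hpp.two_le]
    have : i = 1 := by omega
    rw [hi.2, this, pow_one]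

end Cfsg.Agent.S1453
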