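import Mathlib
import Cfsg.Agent.Lib.Helper22.BG13E
import Cfsg.Agent.S1403
import Cfsg.Agent.S1404
import Cfsg.Agent.S1413
import Cfsg.Agent.S1416
import Cfsg.Agent.S1350
import Cfsg.Agent.S1414
import Cfsg.Agent.S1417
import Cfsg.Statements.S1425
-- import your own Cfsg.Agent.* helpers here

set_option autoImplicit false
open Cfsg

namespace Cfsg.Agent.S1425


/-- Let G be a minimal simple group of odd order, M a maximal subgroup and Y a nontrivial subgroup of G all of whose prime divisors lie in σ(M). Then gYg⁻¹ ≤ M_σ for some g ∈ G. -/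
theorem result {G : Type*} [Group G] [Finite G] (hG : Cfsg.IsMinSimpleOddOrder G)
    (M : Subgroup G) (hM : IsCoatom M) (Y : Subgroup G) (hY1 : Y ≠ ⊥) (hY : ∀ p : ℕ, p.Prime → p ∣ Nat.card Y → p ∈ Cfsg.sigma M) :
    ∃ g : G, Y.map (MulAut.conj g).toMonoidHom ≤ Cfsg.sigmaCore M := by
  exact Cfsg.Agent.Helper22.BG13.theorem_13_3 hG
    (fun K hK h2 h3 => Cfsg.Agent.S1403.result hG K hK h2 h3)
    (fun M hM p _ hp X hXp hX1 hXM => Cfsg.Agent.S1404.result hG M hM p hp X hXp hX1 hXM)
    (fun p _ P => Cfsg.Agent.S1413.result hG p P)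
    (fun M hM p _ A hA => Cfsg.Agent.S1416.result hG M hM p A hA)
    (fun M hM => Cfsg.Agent.S1350.result hG M hM)
    (fun M hM => Cfsg.Agent.S1414.result hG M hM)
    (fun M hM p _ hp A hA => Cfsg.Agent.S1417.result hG M hM p hp A hA)
    M hM Y hY1 hY

end Cfsg.Agent.S1425
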