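import Mathlib
import Cfsg.Statements.S1978
import Cfsg.Agent.Lib.Helper10.KSeq2
-- import your own Cfsg.Agent.* helpers here

set_option autoImplicit false
open Cfsg

namespace Cfsg.Agent.S1978

/-- Let P be a finite p-group. Each of the two K-infinity subgroups of P contains its own centralizer in P, which in turn contains Z(P); in particular both are nontrivial when P is. -/
theorem result {P : Type*} [Group P] [Finite P] {p : ℕ} [Fact p.Prime] (hP : IsPGroup p P) : Subgroup.centralizer (Cfsg.kInfLower P : Set P) ≤ Cfsg.kInfLower P ∧ Subgroup.center P ≤ Subgroup.centralizer (Cfsg.kInfLower P : Set P) ∧ Subgroup.centralizer (Cfsg.kInfUpper P : Set P) ≤ Cfsg.kInfUpper P ∧ Subgroup.center P ≤ Subgroup.centralizer (Cfsg.kInfUpper P : Set P) := by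
  haveI : Group.IsNilpotent P := hP.isNilpotent
  obtain ⟨n, hn⟩ := Cfsg.Agent.Helper10.exists_kSeq_stable (P := P)
  have h1 := (hn (n + 1) (Nat.le_succ n)).1
  have h2 := (hn (n + 1) (Nat.le_succ n)).2
  have hL : Subgroup.centralizer (Cfsg.kInfLower P : Set P) ≤ Cfsg.kInfLower P := by
    rw [← h1]
    unfold Cfsg.kSeqEven
    apply Cfsg.Agent.Helper10.centralizer_sSup_le _ ⟨_, Cfsg.Agent.Helper10.center_mem_lower _⟩
    intro B hB hmax
    exact Cfsg.Agent.Helper10.lower_maximal_self_centralizing B _ hB hmax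
  have hU : Subgroup.centralizer (Cfsg.kInfUpper P : Set P) ≤ Cfsg.kInfUpper P := by
    rw [← h2, Cfsg.Agent.Helper10.kSeqOdd_succ]
    apply Cfsg.Agent.Helper10.centralizer_sSup_le _ ⟨_, Cfsg.Agent.Helper10.center_mem_upper _⟩
    intro B hB hmax
    exact Cfsg.Agent.Helper10.upper_maximal_self_centralizing B _ hB hmax
  exact ⟨hL, Subgroup.center_le_centralizer _, hU, Subgroup.center_le_centralizer _⟩

end Cfsg.Agent.S1978
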