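import Mathlib
import Cfsg.Statements.S3752
import Cfsg.Agent.Lib.Helper10.BenderPair2
-- import your own Cfsg.Agent.* helpers here

set_option autoImplicit false
open Cfsg

namespace Cfsg.Agent.S3752

/-- Bender's Theorem on primitive pairs. Two distinct subgroups M₁, M₂ of G form a primitive pair when, for {i, j} = {1, 2}, every non-trivial normal subgroup A of M_i contained in M₁ ∩ M₂ satisfies N_{M_j}(A) = M₁ ∩ M₂; the pair has characteristic p when moreover C_{M_i}(O_p(M_i)) ≤ O_p(M_i) for both i and O_p(M₁)O_p(M₂) ≤ M₁ ∩ M₂. If (M₁, M₂) is a primitive pair of the finite group G with F*(M₁) ≤ M₂ and F*(M₂) ≤ M₁, then for some prime p the pair has characteristic p. -/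
theorem result {G : Type*} [Group G] [Finite G] (M₁ M₂ : Subgroup G) (hne : M₁ ≠ M₂) (hP : ∀ A : Subgroup G, A ≠ ⊥ → A ≤ M₁ ⊓ M₂ → (M₁ ≤ Subgroup.normalizer (A : Set G) → M₂ ⊓ Subgroup.normalizer (A : Set G) = M₁ ⊓ M₂) ∧ (M₂ ≤ Subgroup.normalizer (A : Set G) → M₁ ⊓ Subgroup.normalizer (A : Set G) = M₁ ⊓ M₂)) (h₁ : (Cfsg.generalizedFittingSubgroup ↥M₁).map M₁.subtype ≤ M₂) (h₂ : (Cfsg.generalizedFittingSubgroup ↥M₂).map M₂.subtype ≤ M₁) : ∃ p : ℕ, p.Prime ∧ Subgroup.centralizer (Cfsg.pCore p ↥M₁ : Set ↥M₁) ≤ Cfsg.pCore p ↥M₁ ∧ Subgroup.centralizer (Cfsg.pCore p ↥M₂ : Set ↥M₂) ≤ Cfsg.pCore p ↥M₂ ∧ (Cfsg.pCore p ↥M₁).map M₁.subtype ⊔ (Cfsg.pCore p ↥M₂).map M₂.subtype ≤ M₁ ⊓ M₂ := by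
  classical
  have h₁' : Cfsg.Agent.Helper10.BenderPair.fS M₁ ≤ M₂ := h₁
  have h₂' : Cfsg.Agent.Helper10.BenderPair.fS M₂ ≤ M₁ := h₂
  obtain ⟨hl₁, hl₂⟩ := Cfsg.Agent.Helper10.BenderPair.layer_eq_bot_of_pair hne hP h₁' h₂'
  have hP' : ∀ A : Subgroup G, A ≠ ⊥ → A ≤ M₂ ⊓ M₁ →
      (M₂ ≤ Subgroup.normalizer (A : Set G) → M₁ ⊓ Subgroup.normalizer (A : Set G) = M₂ ⊓ M₁) ∧
      (M₁ ≤ Subgroup.normalizer (A : Set G) → M₂ ⊓ Subgroup.normalizer (A : Set G) = M₂ ⊓ M₁) := by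
    intro A hA hAX
    rw [inf_comm] at hAX
    obtain ⟨ha, hb⟩ := hP A hA hAX
    rw [inf_comm M₂ M₁]
    exact ⟨hb, ha⟩
  -- symmetric facts
  have hsym12 : ∀ (p : ℕ) [Fact p.Prime], Cfsg.Agent.Helper10.BenderPair.oR p M₁ ≠ ⊥ →
      Cfsg.Agent.Helper10.BenderPair.oR p M₂ ≠ ⊥ := fun p _ h =>
    Cfsg.Agent.Helper10.BenderPair.oR_ne_bot_of_oR_ne_bot hl₂ h₁' h₂' h
  have hsym21 : ∀ (p : ℕ) [Fact p.Prime], Cfsg.Agent.Helper10.BenderPair.oR p M₂ ≠ ⊥ →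
      Cfsg.Agent.Helper10.BenderPair.oR p M₁ ≠ ⊥ := fun p _ h =>
    Cfsg.Agent.Helper10.BenderPair.oR_ne_bot_of_oR_ne_bot hl₁ h₂' h₁' h
  -- two distinct primes are impossible
  have htwo : ∀ (p q : ℕ) [Fact p.Prime] [Fact q.Prime], p ≠ q →
      Cfsg.Agent.Helper10.BenderPair.oR p M₁ ≠ ⊥ →
      Cfsg.Agent.Helper10.BenderPair.oR q M₁ = ⊥ := by
    intro p q _ _ hpq hp1
    by_contra hq1
    have hp2 := hsym12 p hp1
    have e1 : Cfsg.Agent.Helper10.BenderPair.oR q M₂ ≤ Cfsg.Agent.Helper10.BenderPair.oR q M₁ :=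
      Cfsg.Agent.Helper10.BenderPair.oR_le_oR (fun A hA hAX => (hP A hA hAX).2) hl₁ h₁' h₂' hpq hp2
    have e2 : Cfsg.Agent.Helper10.BenderPair.oR q M₁ ≤ Cfsg.Agent.Helper10.BenderPair.oR q M₂ :=
      Cfsg.Agent.Helper10.BenderPair.oR_le_oR (fun A hA hAX => (hP' A hA hAX).2) hl₂ h₂' h₁' hpq hp1
    have e : Cfsg.Agent.Helper10.BenderPair.oR q M₁ = Cfsg.Agent.Helper10.BenderPair.oR q M₂ :=
      le_antisymm e2 e1
    apply Cfsg.Agent.Helper10.BenderPair.false_of_both_normalize hne hP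
      (Cfsg.Agent.Helper10.BenderPair.oR q M₁) hq1
    · apply le_inf (Cfsg.Agent.Helper10.BenderPair.oR_le q M₁)
      rw [e]; exact Cfsg.Agent.Helper10.BenderPair.oR_le q M₂
    · exact Cfsg.Agent.Helper10.BenderPair.le_normalizer_oR q M₁
    · rw [e]; exact Cfsg.Agent.Helper10.BenderPair.le_normalizer_oR q M₂
  -- fitting subgroup trivial forces the group trivial
  have htriv : ∀ (M : Subgroup G), Cfsg.layer ↥M = ⊥ →
      (∀ r : Nat.Primes, Cfsg.pCore (r : ℕ) ↥M = ⊥) → M = ⊥ := by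
    intro M hl hall
    have hF : Cfsg.fittingSubgroup ↥M = ⊥ := by
      rw [Cfsg.Agent.Helper7.fittingSubgroup_eq_iSup_pCore]
      simp [hall]
    have hC := Cfsg.Agent.Helper7.centralizer_fittingSubgroup_le_iff.mpr hl
    rw [hF] at hC
    rw [eq_bot_iff]
    intro x hx
    have h1 : (⟨x, hx⟩ : ↥M) ∈ Subgroup.centralizer (((⊥ : Subgroup ↥M) : Subgroup ↥M) : Set ↥M) := by
      rw [Subgroup.mem_centralizer_iff]
      intro y hy
      rw [SetLike.mem_coe, Subgroup.mem_bot] at hy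
      rw [hy]; simp
    have h2 := hC h1
    rw [Subgroup.mem_bot] at h2
    rw [Subgroup.mem_bot]
    exact congrArg Subtype.val h2
  -- some prime occurs
  have hex : ∃ p : Nat.Primes, Cfsg.Agent.Helper10.BenderPair.oR (p : ℕ) M₁ ≠ ⊥ := by
    by_contra hcon
    push Not at hcon
    have hall1 : ∀ r : Nat.Primes, Cfsg.pCore (r : ℕ) ↥M₁ = ⊥ := fun r =>
      (Cfsg.Agent.Helper10.BenderPair.oR_eq_bot_iff (r : ℕ) M₁).mp (hcon r)
    have hall2 : ∀ r : Nat.Primes, Cfsg.pCore (r : ℕ) ↥M₂ = ⊥ := by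
      intro r
      have : Fact (r : ℕ).Prime := ⟨r.2⟩
      by_contra h
      have h' : Cfsg.Agent.Helper10.BenderPair.oR (r : ℕ) M₂ ≠ ⊥ := fun hh =>
        h ((Cfsg.Agent.Helper10.BenderPair.oR_eq_bot_iff (r : ℕ) M₂).mp hh)
      exact hsym21 (r : ℕ) h' (hcon r)
    apply hne
    rw [htriv M₁ hl₁ hall1, htriv M₂ hl₂ hall2]
  obtain ⟨p, hp1⟩ := hex
  have hpF : Fact (p : ℕ).Prime := ⟨p.2⟩
  have hp2 := hsym12 (p : ℕ) hp1
  have hother1 : ∀ r : Nat.Primes, (r : ℕ) ≠ (p : ℕ) → Cfsg.pCore (r : ℕ) ↥M₁ = ⊥ := by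
    intro r hr
    have : Fact (r : ℕ).Prime := ⟨r.2⟩
    exact (Cfsg.Agent.Helper10.BenderPair.oR_eq_bot_iff (r : ℕ) M₁).mp
      (htwo (p : ℕ) (r : ℕ) (Ne.symm hr) hp1)
  have hother2 : ∀ r : Nat.Primes, (r : ℕ) ≠ (p : ℕ) → Cfsg.pCore (r : ℕ) ↥M₂ = ⊥ := by
    intro r hr
    have : Fact (r : ℕ).Prime := ⟨r.2⟩
    by_contra h
    have h' : Cfsg.Agent.Helper10.BenderPair.oR (r : ℕ) M₂ ≠ ⊥ := fun hh =>
      h ((Cfsg.Agent.Helper10.BenderPair.oR_eq_bot_iff (r : ℕ) M₂).mp hh)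
    have h1 := hsym21 (r : ℕ) h'
    exact h1 (htwo (p : ℕ) (r : ℕ) (Ne.symm hr) hp1)
  have hfit : ∀ (M : Subgroup G), (∀ r : Nat.Primes, (r : ℕ) ≠ (p : ℕ) → Cfsg.pCore (r : ℕ) ↥M = ⊥) →
      Cfsg.fittingSubgroup ↥M = Cfsg.pCore (p : ℕ) ↥M := by
    intro M hM
    rw [Cfsg.Agent.Helper7.fittingSubgroup_eq_iSup_pCore]
    apply le_antisymm
    · apply iSup_le
      intro r
      by_cases h : (r : ℕ) = (p : ℕ)
      · rw [h]
      · rw [hM r h]; exact bot_le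
    · exact le_iSup (fun r : Nat.Primes => Cfsg.pCore (r : ℕ) ↥M) p
  refine ⟨(p : ℕ), p.2, ?_, ?_, ?_⟩
  · have hC := Cfsg.Agent.Helper7.centralizer_fittingSubgroup_le_iff.mpr hl₁
    rwa [hfit M₁ hother1] at hC
  · have hC := Cfsg.Agent.Helper7.centralizer_fittingSubgroup_le_iff.mpr hl₂
    rwa [hfit M₂ hother2] at hC
  · apply sup_le
    · exact le_inf (Cfsg.Agent.Helper10.BenderPair.oR_le (p : ℕ) M₁)
        ((Cfsg.Agent.Helper10.BenderPair.oR_le_fS (p : ℕ) M₁).trans h₁')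
    · exact le_inf ((Cfsg.Agent.Helper10.BenderPair.oR_le_fS (p : ℕ) M₂).trans h₂')
        (Cfsg.Agent.Helper10.BenderPair.oR_le (p : ℕ) M₂)

end Cfsg.Agent.S3752
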