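import Mathlib
import Cfsg.Statements.S1527

set_option autoImplicit false
open Cfsg

namespace Cfsg.Agent.S1527

variable {G : Type*} [Group G]

theorem card_ne_one (K : Type*) [Group K] [Finite K] : Nat.card {h : K // h ≠ 1} = Nat.card K - 1 := by
  classical
  have := Fintype.ofFinite K
  rw [Nat.card_eq_fintype_card, Nat.card_eq_fintype_card]
  exact Set.card_ne_eq (1 : K)

/-- the nonidentity elements conjugate into `K` -/
def conjSet (K : Subgroup G) : Set G := {g : G | g ≠ 1 ∧ ∃ x : G, x * g * x⁻¹ ∈ K}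

noncomputable def rep (K : Subgroup G) (g : conjSet K) : G := Classical.choose g.2.2

theorem rep_spec (K : Subgroup G) (g : conjSet K) : rep K g * g.1 * (rep K g)⁻¹ ∈ K :=
  Classical.choose_spec g.2.2

theorem conj_ne_one {g x : G} (hg : g ≠ 1) : x * g * x⁻¹ ≠ 1 := by
  intro h
  apply hg
  have : g = x⁻¹ * (x * g * x⁻¹) * x := by group
  rw [this, h]; group

noncomputable def fiberEquiv (K : Subgroup G) (hTI : Cfsg.IsTISubset (K : Set G)) :
    (conjSet K × Subgroup.normalizer (K : Set G)) ≃ (G × {h : K // h ≠ 1}) where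
  toFun := fun p =>
    (p.2.1 * rep K p.1,
      ⟨⟨(p.2.1 * rep K p.1) * p.1.1 * (p.2.1 * rep K p.1)⁻¹, by
        have h1 := rep_spec K p.1
        have h2 := (Subgroup.mem_set_normalizer_iff.mp p.2.2 _).mp h1
        have e : (p.2.1 * rep K p.1) * p.1.1 * (p.2.1 * rep K p.1)⁻¹
            = p.2.1 * (rep K p.1 * p.1.1 * (rep K p.1)⁻¹) * p.2.1⁻¹ := by group
        rw [e]; exact h2⟩, by
        intro h
        have := congrArg Subtype.val h
        exact conj_ne_one p.1.2.1 this⟩)
  invFun := fun q =>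
    (⟨q.1⁻¹ * q.2.1.1 * q.1, by
        refine ⟨?_, q.1, ?_⟩
        · have hne : (q.2.1 : G) ≠ 1 := fun h => q.2.2 (Subtype.ext h)
          have := conj_ne_one (x := q.1⁻¹) hne
          simpa using this
        · have e : q.1 * (q.1⁻¹ * q.2.1.1 * q.1) * q.1⁻¹ = q.2.1.1 := by group
          rw [e]; exact q.2.1.2⟩,
      ⟨q.1 * (rep K ⟨q.1⁻¹ * q.2.1.1 * q.1, by
        refine ⟨?_, q.1, ?_⟩
        · have hne : (q.2.1 : G) ≠ 1 := fun h => q.2.2 (Subtype.ext h)
          have := conj_ne_one (x := q.1⁻¹) hne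
          simpa using this
        · have e : q.1 * (q.1⁻¹ * q.2.1.1 * q.1) * q.1⁻¹ = q.2.1.1 := by group
          rw [e]; exact q.2.1.2⟩)⁻¹, by
        set g' : conjSet K := ⟨q.1⁻¹ * q.2.1.1 * q.1, _⟩ with hg'
        by_contra hn
        have h1 := rep_spec K g'
        have h2 : (q.1 * (rep K g')⁻¹) * (rep K g' * g'.1 * (rep K g')⁻¹) * (q.1 * (rep K g')⁻¹)⁻¹ ∈ (K : Set G) := by
          have e : (q.1 * (rep K g')⁻¹) * (rep K g' * g'.1 * (rep K g')⁻¹) * (q.1 * (rep K g')⁻¹)⁻¹
              = q.2.1.1 := by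
            have : g'.1 = q.1⁻¹ * q.2.1.1 * q.1 := rfl
            rw [this]; group
          rw [e]; exact q.2.1.2
        have h3 := hTI _ hn _ h1 h2
        have hne : g'.1 ≠ 1 := g'.2.1
        exact conj_ne_one hne h3⟩)
  left_inv := by
    rintro ⟨g, n⟩
    have hg' : (⟨(n.1 * rep K g)⁻¹ * ((n.1 * rep K g) * g.1 * (n.1 * rep K g)⁻¹) * (n.1 * rep K g), by
        refine ⟨?_, n.1 * rep K g, ?_⟩
        · have e : (n.1 * rep K g)⁻¹ * ((n.1 * rep K g) * g.1 * (n.1 * rep K g)⁻¹) * (n.1 * rep K g) = g.1 := by group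
          rw [e]; exact g.2.1
        · have h1 := rep_spec K g
          have h2 := (Subgroup.mem_set_normalizer_iff.mp n.2 _).mp h1
          have e : (n.1 * rep K g) * ((n.1 * rep K g)⁻¹ * ((n.1 * rep K g) * g.1 * (n.1 * rep K g)⁻¹) * (n.1 * rep K g)) * (n.1 * rep K g)⁻¹
              = n.1 * (rep K g * g.1 * (rep K g)⁻¹) * n.1⁻¹ := by group
          rw [e]; exact h2⟩ : conjSet K) = g := by
      apply Subtype.ext
      show (n.1 * rep K g)⁻¹ * ((n.1 * rep K g) * g.1 * (n.1 * rep K g)⁻¹) * (n.1 * rep K g) = g.1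
      group
    apply Prod.ext
    · exact hg'
    · apply Subtype.ext
      show (n.1 * rep K g) * (rep K _)⁻¹ = n.1
      rw [hg']
      group
  right_inv := by
    rintro ⟨x, h⟩
    apply Prod.ext
    · show x * (rep K _)⁻¹ * rep K _ = x
      group
    · apply Subtype.ext
      apply Subtype.ext
      show (x * (rep K _)⁻¹ * rep K _) * (x⁻¹ * h.1.1 * x) * (x * (rep K _)⁻¹ * rep K _)⁻¹ = h.1.1
      group

theorem card_conjSet [Finite G] (K : Subgroup G) (hTI : Cfsg.IsTISubset (K : Set G)) :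
    Nat.card (conjSet K) = (Subgroup.normalizer (K : Set G)).index * (Nat.card K - 1) := by
  have h1 := Nat.card_congr (fiberEquiv K hTI)
  rw [Nat.card_prod, Nat.card_prod, card_ne_one] at h1
  have h2 := Subgroup.index_mul_card (Subgroup.normalizer (K : Set G))
  have hpos : 0 < Nat.card (Subgroup.normalizer (K : Set G)) := Nat.card_pos
  apply Nat.eq_of_mul_eq_mul_right hpos
  rw [h1, ← h2]
  ring

/-- Let G be a finite group and H i (i in a finite index type) subgroups of pairwise coprime orders, each of whose underlying sets is a TI-subset of G, such that every non-identity element of G is conjugate to an element of some H i. Then Nat.card G − 1 = Σ_i [G : N_G(H i)] · (Nat.card (H i) − 1). -/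
theorem result {G : Type*} [Group G] [Finite G] {ι : Type*} [Fintype ι] (H : ι → Subgroup G) (hcop : ∀ i j, i ≠ j → Nat.Coprime (Nat.card (H i)) (Nat.card (H j))) (hTI : ∀ i, Cfsg.IsTISubset (H i : Set G)) (hcover : ∀ g : G, g ≠ 1 → ∃ i, ∃ x : G, x * g * x⁻¹ ∈ H i) : Nat.card G - 1 = ∑ i, (Subgroup.normalizer (H i : Set G)).index * (Nat.card (H i) - 1) := by
  classical
  -- uniqueness of the index
  have huniq : ∀ g : G, g ≠ 1 → ∀ i j, (∃ x : G, x * g * x⁻¹ ∈ H i) → (∃ x : G, x * g * x⁻¹ ∈ H j) → i = j := by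
    intro g hg i j ⟨x, hx⟩ ⟨y, hy⟩
    by_contra hij
    have ho : ∀ (K : Subgroup G) (z : G), z * g * z⁻¹ ∈ K → orderOf g ∣ Nat.card K := by
      intro K z hz
      have h1 := orderOf_dvd_natCard (⟨z * g * z⁻¹, hz⟩ : K)
      rw [Subgroup.orderOf_mk] at h1
      have h2 : orderOf (z * g * z⁻¹) = orderOf g := by
        have := orderOf_injective (MulAut.conj z).toMonoidHom (MulAut.conj z).injective g
        simpa using this
      rwa [h2] at h1
    have h1 := Nat.eq_one_of_dvd_coprimes (hcop i j hij) (ho _ x hx) (ho _ y hy)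
    exact hg (orderOf_eq_one_iff.mp h1)
  let e : {g : G // g ≠ 1} ≃ Σ i, conjSet (H i) :=
    { toFun := fun g => ⟨Classical.choose (hcover g.1 g.2), ⟨g.1, g.2, Classical.choose_spec (hcover g.1 g.2)⟩⟩
      invFun := fun s => ⟨s.2.1, s.2.2.1⟩
      left_inv := fun g => rfl
      right_inv := by
        rintro ⟨i, ⟨g, hg1, hg2⟩⟩
        have hi : Classical.choose (hcover g hg1) = i :=
          huniq g hg1 _ _ (Classical.choose_spec (hcover g hg1)) hg2
        subst hi
        rfl }
  rw [← card_ne_one G, Nat.card_congr e, Nat.card_sigma]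
  apply Finset.sum_congr rfl
  intro i _
  exact card_conjSet (H i) (hTI i)

end Cfsg.Agent.S1527
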