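import Mathlib
import Cfsg.Statements.S4250
import Cfsg.Agent.Lib.Helper10.TameAlperin
import Cfsg.Agent.Lib.Helper10.TransferFusion
import Cfsg.Agent.Lib.Helper7.Coprime

set_option autoImplicit false
open Cfsg

namespace Cfsg.Agent.S4250

open Cfsg.Agent.Helper10
open scoped commutatorElement

variable {G : Type*} [Group G] [Finite G] (p : ℕ) [Fact p.Prime] (P : Sylow p G)

/-- the right-hand side of the statement -/
def rhs : Subgroup G :=
  ⁅(P : Subgroup G), Subgroup.normalizer ((P : Subgroup G) : Set G)⁆ ⊔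
    ⨆ (Q : Sylow p G) (_ : (¬ p ∣ ((P : Subgroup G) ⊓ Subgroup.normalizer (((P : Subgroup G) ⊓ (Q : Subgroup G) : Subgroup G) : Set G)).relIndex (Subgroup.normalizer (((P : Subgroup G) ⊓ (Q : Subgroup G) : Subgroup G) : Set G)) ∧ ¬ p ∣ ((Q : Subgroup G) ⊓ Subgroup.normalizer (((P : Subgroup G) ⊓ (Q : Subgroup G) : Subgroup G) : Set G)).relIndex (Subgroup.normalizer (((P : Subgroup G) ⊓ (Q : Subgroup G) : Subgroup G) : Set G))))
      (x : G) (_ : x ∈ Subgroup.normalizer (((P : Subgroup G) ⊓ (Q : Subgroup G) : Subgroup G) : Set G) ∧ ∃ k : ℕ, orderOf x = p ^ k),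
      ⁅(P : Subgroup G) ⊓ (Q : Subgroup G), Subgroup.zpowers x⁆

theorem foc_of_chain {A : Set G} {g : G} (hc : XChain (TameStep P) A g) :
    Foc (rhs p P) A g := by
  induction hc with
  | nil A => exact Foc.one _ _
  | cons A T x g hT hx hAT _ ih =>
    refine Foc.trans ?_ ih
    intro a ha
    have haT : a ∈ T := hAT ha
    have e : a⁻¹ * (x⁻¹ * a * x) = ⁅a⁻¹, x⁻¹⁆ := by
      rw [commutatorElement_def]; group
    rw [e]
    obtain ⟨Q, hTQ, h2, h3, h4⟩ := hT
    subst hTQ
    rcases h4 with hQP | hxp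
    · rw [hQP, inf_idem] at haT hx
      apply (le_sup_left : _ ≤ rhs p P)
      exact Subgroup.commutator_mem_commutator (Subgroup.inv_mem _ haT) (Subgroup.inv_mem _ hx)
    · apply (le_sup_right : _ ≤ rhs p P)
      have h5 : ⁅a⁻¹, x⁻¹⁆ ∈ ⁅(P : Subgroup G) ⊓ (Q : Subgroup G), Subgroup.zpowers x⁆ :=
        Subgroup.commutator_mem_commutator (Subgroup.inv_mem _ haT)
          (Subgroup.inv_mem _ (Subgroup.mem_zpowers x))
      apply Subgroup.mem_iSup_of_mem Q
      apply Subgroup.mem_iSup_of_mem ⟨h2, h3⟩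
      apply Subgroup.mem_iSup_of_mem x
      apply Subgroup.mem_iSup_of_mem ⟨hx, hxp⟩
      exact h5

/-- Let P be a Sylow p-subgroup of a finite group G. Call an intersection H = P ∩ Q with a Sylow p-subgroup Q tame when N_P(H) and N_Q(H) are Sylow p-subgroups of N_G(H). Then P ∩ G′ is generated by [P, N_G(P)] together with the commutator subgroups [P ∩ Q, ⟨x⟩] for all tame intersections P ∩ Q and all p-elements x of N_G(P ∩ Q). -/
theorem result {G : Type*} [Group G] [Finite G] (p : ℕ) [Fact p.Prime] (P : Sylow p G) :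
    (P : Subgroup G) ⊓ commutator G =
      ⁅(P : Subgroup G), Subgroup.normalizer ((P : Subgroup G) : Set G)⁆ ⊔
        ⨆ (Q : Sylow p G) (_ : (¬ p ∣ ((P : Subgroup G) ⊓ Subgroup.normalizer (((P : Subgroup G) ⊓ (Q : Subgroup G) : Subgroup G) : Set G)).relIndex (Subgroup.normalizer (((P : Subgroup G) ⊓ (Q : Subgroup G) : Subgroup G) : Set G)) ∧ ¬ p ∣ ((Q : Subgroup G) ⊓ Subgroup.normalizer (((P : Subgroup G) ⊓ (Q : Subgroup G) : Subgroup G) : Set G)).relIndex (Subgroup.normalizer (((P : Subgroup G) ⊓ (Q : Subgroup G) : Subgroup G) : Set G))))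
          (x : G) (_ : x ∈ Subgroup.normalizer (((P : Subgroup G) ⊓ (Q : Subgroup G) : Subgroup G) : Set G) ∧ ∃ k : ℕ, orderOf x = p ^ k),
          ⁅(P : Subgroup G) ⊓ (Q : Subgroup G), Subgroup.zpowers x⁆ := by
  change _ = rhs p P
  apply le_antisymm
  · have h := focal_le_of_foc P (rhs p P) ?_
    · rwa [← commutator_def] at h
    · intro y hy v hv
      have hc : XChain (TameStep P) {y} v := by
        apply tame_chain P {y} v
        · intro a ha
          rw [Set.mem_singleton_iff.mp ha]; exact hy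
        · intro a ha
          rw [mem_rcs, Set.mem_singleton_iff] at ha
          have : a = v⁻¹ * y * v := by rw [← ha]; group
          rw [this]; exact hv
      exact foc_of_chain p P hc y rfl
  · apply le_inf
    · apply sup_le
      · exact Cfsg.Agent.Helper7.commutator_le_of_le_normalizer le_rfl
      · refine iSup_le fun Q => iSup_le fun _ => iSup_le fun x => iSup_le fun hx => ?_
        exact (Cfsg.Agent.Helper7.commutator_le_of_le_normalizer
          (Subgroup.zpowers_le.mpr hx.1)).trans inf_le_left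
    · rw [commutator_def]
      apply sup_le
      · exact Subgroup.commutator_mono le_top le_top
      · refine iSup_le fun Q => iSup_le fun _ => iSup_le fun x => iSup_le fun _ => ?_
        exact Subgroup.commutator_mono le_top le_top

end Cfsg.Agent.S4250
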