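import Mathlib
import Cfsg.Statements.S4216
import Cfsg.Agent.S4250

set_option autoImplicit false
open Cfsg

namespace Cfsg.Agent.S4216

open scoped Pointwise

/-- Grün's first Theorem: if `P` is a Sylow `p`-subgroup of the finite group `G`, then `P ∩ G'` is the subgroup generated by `P ∩ N_G(P)'` together with the subgroups `P ∩ z P' z⁻¹` for all `z ∈ G`, where `'` denotes the derived subgroup and `N_G(P)` the normalizer of `P`. -/
theorem result {G : Type*} [Group G] [Finite G] {p : ℕ} [Fact p.Prime] (P : Sylow p G) : (P : Subgroup G) ⊓ commutator G = ((P : Subgroup G) ⊓ ⁅Subgroup.normalizer ((P : Subgroup G) : Set G), Subgroup.normalizer ((P : Subgroup G) : Set G)⁆) ⊔ ⨆ z : G, (P : Subgroup G) ⊓ (⁅(P : Subgroup G), (P : Subgroup G)⁆).map (MulAut.conj z).toMonoidHom := by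
  apply le_antisymm
  · rw [Cfsg.Agent.S4250.result p P]
    apply sup_le
    · apply le_sup_of_le_left
      apply le_inf
      · exact Cfsg.Agent.Helper7.commutator_le_of_le_normalizer le_rfl
      · exact Subgroup.commutator_mono Subgroup.le_normalizer le_rfl
    · refine iSup_le fun Q => iSup_le fun _ => iSup_le fun x => iSup_le fun hx => ?_
      apply le_sup_of_le_right
      obtain ⟨hxN, k, hk⟩ := hx
      set T : Subgroup G := (P : Subgroup G) ⊓ (Q : Subgroup G) with hT
      have hTp : IsPGroup p T := P.isPGroup'.to_le inf_le_left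
      have hxp : IsPGroup p (Subgroup.zpowers x) :=
        IsPGroup.of_card (n := k) (by rw [Nat.card_zpowers, hk])
      have hKp : IsPGroup p (T ⊔ Subgroup.zpowers x : Subgroup G) :=
        hTp.to_sup_of_normal_left' hxp (Subgroup.zpowers_le.mpr hxN)
      obtain ⟨P₁, hP₁⟩ := hKp.exists_le_sylow
      obtain ⟨z, hz⟩ := MulAction.exists_smul_eq G P P₁
      have hz' : (P₁ : Subgroup G) = (P : Subgroup G).map (MulAut.conj z).toMonoidHom := by
        rw [← hz]; rfl
      have h1 : ⁅T, Subgroup.zpowers x⁆ ≤ ⁅(P₁ : Subgroup G), (P₁ : Subgroup G)⁆ :=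
        Subgroup.commutator_mono (le_sup_left.trans hP₁) (le_sup_right.trans hP₁)
      rw [hz', ← Subgroup.map_commutator] at h1
      have h2 : ⁅T, Subgroup.zpowers x⁆ ≤ (P : Subgroup G) :=
        (Cfsg.Agent.Helper7.commutator_le_of_le_normalizer
          (Subgroup.zpowers_le.mpr hxN)).trans inf_le_left
      exact le_iSup_of_le z (le_inf h2 h1)
  · apply sup_le
    · apply le_inf inf_le_left
      rw [commutator_def]
      exact inf_le_right.trans (Subgroup.commutator_mono le_top le_top)
    · refine iSup_le fun z => ?_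
      apply le_inf inf_le_left
      rw [commutator_def, Subgroup.map_commutator]
      exact inf_le_right.trans (Subgroup.commutator_mono le_top le_top)

end Cfsg.Agent.S4216
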