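import Mathlib
import Cfsg.Statements.S0738
import Cfsg.Agent.S4252
import Cfsg.Agent.S0042

set_option autoImplicit false

open Cfsg

namespace Cfsg.Agent.S0738

open MulAction

/-- Let a finite Zassenhaus group of degree `n + 1` have two-point stabilisers of order `d` with `2d ≥ n - 1`. Then a normal subgroup of a point stabiliser acting regularly on the remaining points is elementary abelian, and the degree is a prime power plus one. -/
theorem result {G Ω : Type*} [Group G] [Finite G] [MulAction G Ω] [Fintype Ω] (hZ : Cfsg.IsZassenhausGroup G Ω) {a b : Ω} (hab : a ≠ b) (hd : Fintype.card Ω - 2 ≤ 2 * Nat.card ↥(MulAction.stabilizer G a ⊓ MulAction.stabilizer G b)) (F : Subgroup G) (hFle : F ≤ MulAction.stabilizer G a) (hFn : (F.subgroupOf (MulAction.stabilizer G a)).Normal) (hreg : ∀ y z : Ω, y ≠ a → z ≠ a → ∃! u : F, (u : G) • y = z) : IsMulCommutative F ∧ ∃ p f : ℕ, p.Prime ∧ (∀ u ∈ F, u ^ p = 1) ∧ Fintype.card Ω = p ^ f + 1 := by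
  classical
  obtain ⟨hfaith, h2, h3, h4, h5⟩ := hZ
  have := hfaith
  have h2' : ∀ {a b c d : Ω}, a ≠ b → c ≠ d → ∃ g : G, g • a = c ∧ g • b = d :=
    MulAction.is_two_pretransitive_iff.mp h2
  haveI : Fintype G := Fintype.ofFinite G
  set A : Subgroup G := stabilizer G a with hA
  set H : Subgroup G := stabilizer G a ⊓ stabilizer G b with hH
  set N := Fintype.card Ω with hN
  -- basic facts on F
  have hFa : ∀ u ∈ F, u • a = a := fun u hu => hFle hu
  have hFreg : ∀ u ∈ F, u ≠ 1 → ∀ x : Ω, x ≠ a → u • x ≠ x := by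
    intro u hu hu1 x hx hux
    obtain ⟨w, _, hw⟩ := hreg x x hx hx
    have e1 := hw ⟨u, hu⟩ hux
    have e2 := hw 1 (one_smul _ _)
    apply hu1
    have := e1.trans e2.symm
    exact congrArg Subtype.val this
  have hFnorm : ∀ g ∈ A, ∀ u ∈ F, g * u * g⁻¹ ∈ F := by
    intro g hg u hu
    have := hFn.conj_mem ⟨u, hFle hu⟩ (Subgroup.mem_subgroupOf.mpr hu) ⟨g, hg⟩
    exact Subgroup.mem_subgroupOf.mp this
  have hFcard : Nat.card F = N - 1 := by
    have hbij : Function.Bijective (fun u : F => (⟨(u : G) • b, by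
        intro h
        have := hFa u u.2
        rw [← this] at h
        exact hab (smul_left_cancel _ h).symm⟩ : {x : Ω // x ≠ a})) := by
      constructor
      · intro u v huv
        have huv' : (u : G) • b = (v : G) • b := congrArg Subtype.val huv
        obtain ⟨w, _, hw⟩ := hreg b ((v : G) • b) (Ne.symm hab) (by
          intro h
          have := hFa v v.2
          rw [← this] at h
          exact hab (smul_left_cancel _ h).symm)
        exact (hw u huv').trans (hw v rfl).symm
      · intro y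
        obtain ⟨w, hw, _⟩ := hreg b y.1 (Ne.symm hab) y.2
        exact ⟨w, Subtype.ext hw⟩
    rw [Nat.card_congr (Equiv.ofBijective _ hbij), Nat.card_eq_fintype_card,
      Fintype.card_subtype_compl, Fintype.card_subtype_eq]
  -- a nontrivial element of H and a third point
  have hHne : ∃ h ∈ H, h ≠ 1 := by
    obtain ⟨g₀, hg₀1, a₀, b₀, hab₀, hga₀, hgb₀⟩ := h4
    obtain ⟨g, hga, hgb⟩ := h2' hab₀ hab
    refine ⟨g * g₀ * g⁻¹, ⟨?_, ?_⟩, ?_⟩
    · show (g * g₀ * g⁻¹) • a = a
      rw [mul_smul, mul_smul, ← hga, inv_smul_smul, hga₀]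
    · show (g * g₀ * g⁻¹) • b = b
      rw [mul_smul, mul_smul, ← hgb, inv_smul_smul, hgb₀]
    · intro h
      apply hg₀1
      have : g₀ = g⁻¹ * (g * g₀ * g⁻¹) * g := by group
      rw [this, h]; group
  obtain ⟨h₀, hh₀H, hh₀1⟩ := hHne
  have hc : ∃ c : Ω, h₀ • c ≠ c := by
    by_contra hcon
    push Not at hcon
    apply hh₀1
    apply FaithfulSMul.eq_of_smul_eq_smul (α := Ω)
    intro x
    rw [hcon x, one_smul]
  obtain ⟨c, hc⟩ := hc
  have hca : c ≠ a := by
    rintro rfl
    exact hc hh₀H.1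
  have hcb : c ≠ b := by
    rintro rfl
    exact hc hh₀H.2
  have hN3 : 3 ≤ N := by
    rw [hN]
    exact Fintype.two_lt_card_iff.mpr ⟨a, b, c, hab, Ne.symm hca, Ne.symm hcb⟩
  -- semiregularity of conjugation by H on F
  have hsemi : ∀ h ∈ H, ∀ u ∈ F, u ≠ 1 → h * u * h⁻¹ = u → h = 1 := by
    intro h hh u hu hu1 hcomm
    have hub : u • b ≠ b := hFreg u hu hu1 b (Ne.symm hab)
    have hua : u • b ≠ a := by
      intro h'
      have := hFa u hu
      rw [← this] at h'
      exact hab (smul_left_cancel _ h').symm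
    have hfix : h • (u • b) = u • b := by
      have e : h * u = u * h := by
        have := congrArg (fun x => x * h) hcomm
        simpa using this
      rw [← mul_smul, e, mul_smul, hh.2]
    exact h3 h a b (u • b) hab (Ne.symm hub) (Ne.symm hua) hh.1 hh.2 hfix
  have hHs : (Finset.univ.filter (fun g : G => g ∈ H)).card = Nat.card H := by
    rw [Nat.card_eq_fintype_card, Fintype.card_subtype]
  have hcardS : ∀ M : Subgroup G, (Finset.univ.filter (fun g : G => g ∈ M)).card = Nat.card M := by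
    intro M
    rw [Nat.card_eq_fintype_card, Fintype.card_subtype]
  have horb : ∀ u ∈ F, u ≠ 1 →
      ((Finset.univ.filter (fun g : G => g ∈ H)).image (fun h => h * u * h⁻¹)).card = Nat.card H := by
    intro u hu hu1
    rw [← hHs]
    apply Finset.card_image_of_injOn
    intro h hh h' hh' he
    rw [Finset.mem_coe, Finset.mem_filter] at hh hh'
    have he' : h * u * h⁻¹ = h' * u * h'⁻¹ := he
    have h1 : (h'⁻¹ * h) * u * (h'⁻¹ * h)⁻¹ = u := by
      have : (h'⁻¹ * h) * u * (h'⁻¹ * h)⁻¹ = h'⁻¹ * (h * u * h⁻¹) * h' := by group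
      rw [this, he']; group
    have := hsemi _ (H.mul_mem (H.inv_mem hh'.2) hh.2) u hu hu1 h1
    rw [inv_mul_eq_one] at this
    exact this.symm
  -- invariant subgroups
  have hC : ∀ M : Subgroup G, M ≤ F → (∀ h ∈ H, ∀ m ∈ M, h * m * h⁻¹ ∈ M) → M = ⊥ ∨ M = F := by
    intro M hMF hMinv
    by_contra hcon
    rw [not_or] at hcon
    obtain ⟨hMbot, hMF'⟩ := hcon
    obtain ⟨u, hu1⟩ := (Subgroup.ne_bot_iff_exists_ne_one).mp hMbot
    have hu1' : (u : G) ≠ 1 := fun h => hu1 (Subtype.ext h)
    have hnle : ¬ F ≤ M := fun h => hMF' (le_antisymm hMF h)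
    obtain ⟨v, hvF, hvM⟩ := SetLike.not_le_iff_exists.mp hnle
    have hv1 : v ≠ 1 := by
      rintro rfl
      exact hvM M.one_mem
    -- first orbit inside M minus 1
    have hs1 : ((Finset.univ.filter (fun g : G => g ∈ H)).image (fun h => h * (u : G) * h⁻¹)) ⊆
        (Finset.univ.filter (fun g : G => g ∈ M)).erase 1 := by
      intro x hx
      rw [Finset.mem_image] at hx
      obtain ⟨h, hh, rfl⟩ := hx
      rw [Finset.mem_filter] at hh
      rw [Finset.mem_erase, Finset.mem_filter]
      refine ⟨?_, Finset.mem_univ _, hMinv h hh.2 u u.2⟩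
      intro h1
      apply hu1'
      have : (u : G) = h⁻¹ * (h * u * h⁻¹) * h := by group
      rw [this, h1]; group
    have hs2 : ((Finset.univ.filter (fun g : G => g ∈ H)).image (fun h => h * v * h⁻¹)) ⊆
        (Finset.univ.filter (fun g : G => g ∈ F)) \ (Finset.univ.filter (fun g : G => g ∈ M)) := by
      intro x hx
      rw [Finset.mem_image] at hx
      obtain ⟨h, hh, rfl⟩ := hx
      rw [Finset.mem_filter] at hh
      rw [Finset.mem_sdiff, Finset.mem_filter, Finset.mem_filter]
      refine ⟨⟨Finset.mem_univ _, hFnorm h hh.2.1 v hvF⟩, ?_⟩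
      rintro ⟨_, hm⟩
      apply hvM
      have := hMinv h⁻¹ (H.inv_mem hh.2) _ hm
      have e : h⁻¹ * (h * v * h⁻¹) * h⁻¹⁻¹ = v := by group
      rwa [e] at this
    have hc1 := Finset.card_le_card hs1
    have hc2 := Finset.card_le_card hs2
    rw [horb u (hMF u.2) hu1', Finset.card_erase_of_mem (by
      rw [Finset.mem_filter]; exact ⟨Finset.mem_univ _, M.one_mem⟩), hcardS] at hc1
    rw [horb v hvF hv1, Finset.card_sdiff_of_subset (by
      intro x hx
      rw [Finset.mem_filter] at hx ⊢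
      exact ⟨hx.1, hMF hx.2⟩), hcardS, hcardS, hFcard] at hc2
    have hdvd : Nat.card M ∣ Nat.card F := Subgroup.card_dvd_of_le hMF
    rw [hFcard] at hdvd
    have hM1 : 1 < Nat.card M := by
      rw [Subgroup.one_lt_card_iff_ne_bot]
      exact hMbot
    obtain ⟨k, hk⟩ := hdvd
    set m := Nat.card M with hm
    set d := Nat.card H with hd'
    have hn : N - 1 = 2 * m - 1 := by omega
    rw [hn] at hk
    rcases Nat.lt_or_ge k 2 with hk2 | hk2
    · interval_cases k
      · omega
      · omega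
    · have : m * 2 ≤ m * k := Nat.mul_le_mul_left _ hk2
      omega
  -- nilpotency via the Frobenius kernel theorem
  have hnil : Group.IsNilpotent F := by
    haveI : Fintype (SubMulAction.ofStabilizer G a) := Fintype.ofFinite _
    have hb' : b ∈ SubMulAction.ofStabilizer G a :=
      (SubMulAction.mem_ofStabilizer_iff G a).mpr (Ne.symm hab)
    have hc' : c ∈ SubMulAction.ofStabilizer G a :=
      (SubMulAction.mem_ofStabilizer_iff G a).mpr hca
    have hΩ' : 1 < Fintype.card (SubMulAction.ofStabilizer G a) :=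
      Fintype.one_lt_card_iff.mpr ⟨⟨b, hb'⟩, ⟨c, hc'⟩, fun h => hcb (congrArg Subtype.val h).symm⟩
    have htr : ∀ x y : SubMulAction.ofStabilizer G a, ∃ g : A, g • x = y := by
      intro x y
      obtain ⟨u, hu, _⟩ := hreg x.1 y.1 x.2 y.2
      exact ⟨⟨u, hFle u.2⟩, Subtype.ext hu⟩
    have hnreg : ∃ g : A, g ≠ 1 ∧ ∃ x : SubMulAction.ofStabilizer G a, g • x = x := by
      refine ⟨⟨h₀, hh₀H.1⟩, fun h => hh₀1 (congrArg Subtype.val h), ⟨b, hb'⟩, ?_⟩
      apply Subtype.ext
      exact hh₀H.2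
    have hfix : ∀ g : A, g ≠ 1 → ∀ x y : SubMulAction.ofStabilizer G a,
        g • x = x → g • y = y → x = y := by
      intro g hg x y hx hy
      by_contra hxy
      apply hg
      apply Subtype.ext
      have hx' : (g : G) • x.1 = x.1 := congrArg Subtype.val hx
      have hy' : (g : G) • y.1 = y.1 := congrArg Subtype.val hy
      exact h3 g a x.1 y.1 (Ne.symm x.2) (fun h => hxy (Subtype.ext h)) (Ne.symm y.2) g.2 hx' hy'
    obtain ⟨hFC, hker⟩ := Cfsg.Agent.S4252.result hΩ' htr hnreg hfix ⟨b, hb'⟩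
    obtain ⟨K, hK, hKn, hKnil⟩ := Cfsg.Agent.S0042.result _ hFC
    rw [hker] at hK
    have hmem : ∀ k : A, k ∈ K ↔ (k = 1 ∨ ∀ ω : SubMulAction.ofStabilizer G a, k • ω ≠ ω) := by
      intro k
      rw [← SetLike.mem_coe, hK]
      rfl
    have hFK' : F.subgroupOf A ≤ K := by
      intro k hk
      rw [Subgroup.mem_subgroupOf] at hk
      rw [hmem]
      by_cases hk1 : k = 1
      · left; exact hk1
      · right
        intro ω hω
        exact hFreg k.1 hk (fun h => hk1 (Subtype.ext h)) ω.1 ω.2 (congrArg Subtype.val hω)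
    have hFK : F.subgroupOf A = K := by
      apply le_antisymm hFK'
      intro k hk
      have hkb : (k : G) • b ≠ a := by
        intro h
        have := k.2
        have h' : (k : G) • a = a := this
        rw [← h'] at h
        exact hab (smul_left_cancel _ h).symm
      obtain ⟨u, hu, _⟩ := hreg b ((k : G) • b) (Ne.symm hab) hkb
      have huK : (⟨u, hFle u.2⟩ : A) ∈ K := hFK' (Subgroup.mem_subgroupOf.mpr u.2)
      have hprod := K.mul_mem (K.inv_mem huK) hk
      rw [hmem] at hprod
      rcases hprod with h1 | h1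
      · rw [inv_mul_eq_one] at h1
        rw [Subgroup.mem_subgroupOf, ← h1]
        exact u.2
      · exfalso
        apply h1 ⟨b, hb'⟩
        apply Subtype.ext
        show ((u : G)⁻¹ * (k : G)) • b = b
        rw [mul_smul, ← hu, inv_smul_smul]
    rw [← hFK] at hKnil
    have := hKnil
    exact Group.nilpotent_of_mulEquiv (Subgroup.subgroupOfEquivOfLe hFle)
  -- F is nontrivial
  have hFnt : Nontrivial F := by
    rw [← Finite.one_lt_card_iff_nontrivial, hFcard]
    omega
  -- abelian
  have hab' : ∀ u ∈ F, ∀ v ∈ F, u * v = v * u := by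
    set Z : Subgroup G := (Subgroup.center F).map F.subtype with hZ
    have hZF : Z ≤ F := by
      rintro x ⟨z, _, rfl⟩
      exact z.2
    have hZinv : ∀ h ∈ H, ∀ m ∈ Z, h * m * h⁻¹ ∈ Z := by
      rintro h hh x ⟨z, hz, rfl⟩
      refine ⟨⟨h * z * h⁻¹, hFnorm h hh.1 z z.2⟩, ?_, rfl⟩
      rw [SetLike.mem_coe, Subgroup.mem_center_iff] at hz ⊢
      intro w
      apply Subtype.ext
      have hw := hz ⟨h⁻¹ * w * h, by
        have := hFnorm h⁻¹ (A.inv_mem hh.1) w w.2
        simpa using this⟩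
      have hw' : h⁻¹ * (w : G) * h * (z : G) = (z : G) * (h⁻¹ * (w : G) * h) :=
        congrArg Subtype.val hw
      show (w : G) * (h * (z : G) * h⁻¹) = h * (z : G) * h⁻¹ * (w : G)
      have e1 : (w : G) * (h * (z : G) * h⁻¹) = h * (h⁻¹ * (w : G) * h * (z : G)) * h⁻¹ := by group
      have e2 : h * (z : G) * h⁻¹ * (w : G) = h * ((z : G) * (h⁻¹ * (w : G) * h)) * h⁻¹ := by group
      rw [e1, e2, hw']
    rcases hC Z hZF hZinv with hZ0 | hZ1
    · exfalso
      have hcb' : Subgroup.center F ≠ ⊥ := Group.IsNilpotent.center_ne_bot F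
      apply hcb'
      rw [hZ, Subgroup.map_eq_bot_iff_of_injective _ (Subgroup.subtype_injective F)] at hZ0
      exact hZ0
    · intro u hu v hv
      have huZ : u ∈ Z := hZ1 ▸ hu
      obtain ⟨z, hz, rfl⟩ := huZ
      rw [SetLike.mem_coe, Subgroup.mem_center_iff] at hz
      have := hz ⟨v, hv⟩
      exact (congrArg Subtype.val this).symm
  refine ⟨⟨⟨fun x y => Subtype.ext (hab' x x.2 y y.2)⟩⟩, ?_⟩
  -- exponent p
  obtain ⟨p, hp, hpdvd⟩ := Nat.exists_prime_and_dvd (n := Nat.card F) (by rw [hFcard]; omega)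
  have : Fact p.Prime := ⟨hp⟩
  obtain ⟨x, hx⟩ := exists_prime_orderOf_dvd_card' (G := F) p hpdvd
  let E : Subgroup G :=
    { carrier := {u | u ∈ F ∧ u ^ p = 1}
      one_mem' := ⟨F.one_mem, one_pow _⟩
      mul_mem' := by
        rintro u v ⟨hu, hup⟩ ⟨hv, hvp⟩
        refine ⟨F.mul_mem hu hv, ?_⟩
        have hcomm : Commute u v := hab' u hu v hv
        rw [hcomm.mul_pow, hup, hvp, one_mul]
      inv_mem' := by
        rintro u ⟨hu, hup⟩
        exact ⟨F.inv_mem hu, by rw [inv_pow, hup, inv_one]⟩ }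
  have hEF : E ≤ F := fun u hu => hu.1
  have hEinv : ∀ h ∈ H, ∀ m ∈ E, h * m * h⁻¹ ∈ E := by
    rintro h hh m ⟨hm, hmp⟩
    refine ⟨hFnorm h hh.1 m hm, ?_⟩
    rw [conj_pow, hmp, mul_one, mul_inv_cancel]
  have hEne : E ≠ ⊥ := by
    intro hE
    have hxE : (x : G) ∈ E := by
      refine ⟨x.2, ?_⟩
      have := pow_orderOf_eq_one x
      rw [hx] at this
      exact_mod_cast congrArg Subtype.val this
    rw [hE, Subgroup.mem_bot] at hxE
    have : x = 1 := Subtype.ext hxE
    rw [this, orderOf_one] at hx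
    exact hp.one_lt.ne hx
  have hEeq : E = F := by
    rcases hC E hEF hEinv with h | h
    · exact absurd h hEne
    · exact h
  have hexp : ∀ u ∈ F, u ^ p = 1 := by
    intro u hu
    have : u ∈ E := hEeq ▸ hu
    exact this.2
  have hPG : IsPGroup p F := by
    intro u
    refine ⟨1, ?_⟩
    apply Subtype.ext
    rw [pow_one]
    exact_mod_cast hexp u u.2
  obtain ⟨f, hf⟩ := IsPGroup.iff_card.mp hPG
  refine ⟨p, f, hp, hexp, ?_⟩
  rw [← hf, hFcard]
  omega

end Cfsg.Agent.S0738
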