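import Mathlib
import Cfsg.Statements.S0086

set_option autoImplicit false
open Cfsg

namespace Cfsg.Agent.S0086

theorem result {G : Type*} [Group G] [Finite G] {p : ℕ} [Fact p.Prime] (P : Sylow p G) (N : Subgroup G) [N.Normal] (hN : N.IsComplement' (P : Subgroup G)) (x : G) : x ∈ N ↔ Nat.Coprime (orderOf x) p := by
  have hp : p.Prime := Fact.out
  have hcardN : Nat.card N = (P : Subgroup G).index := by
    have h1 := hN.card_mul_card
    have h2 := (P : Subgroup G).card_mul_index
    have hpos : 0 < Nat.card (P : Subgroup G) := Nat.card_pos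
    rw [mul_comm] at h1
    exact Nat.eq_of_mul_eq_mul_left hpos (h1.trans h2.symm)
  have hidxN : N.index = Nat.card (P : Subgroup G) := by
    have h1 := hN.card_mul_card
    have h2 := N.card_mul_index
    have hpos : 0 < Nat.card N := Nat.card_pos
    exact Nat.eq_of_mul_eq_mul_left hpos (h2.trans h1.symm)
  constructor
  · intro hx
    have h1 : orderOf x ∣ Nat.card N := by
      have := orderOf_dvd_natCard (⟨x, hx⟩ : N)
      rwa [Subgroup.orderOf_mk] at this
    rw [hcardN] at h1
    have h2 : ¬ p ∣ (P : Subgroup G).index := P.not_dvd_index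
    have h3 : Nat.Coprime (P : Subgroup G).index p := (Nat.Coprime.symm ((Nat.Prime.coprime_iff_not_dvd hp).mpr h2))
    exact Nat.Coprime.coprime_dvd_left h1 h3
  · intro hx
    rw [← QuotientGroup.eq_one_iff]
    have h1 : orderOf (x : G ⧸ N) ∣ orderOf x := orderOf_dvd_of_pow_eq_one (by
      rw [← QuotientGroup.mk_pow, pow_orderOf_eq_one]; rfl)
    have h2 : orderOf (x : G ⧸ N) ∣ Nat.card (G ⧸ N) := orderOf_dvd_natCard _
    change orderOf (x : G ⧸ N) ∣ N.index at h2
    rw [hidxN] at h2
    obtain ⟨k, hk⟩ := P.2.exists_card_eq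
    rw [hk] at h2
    have h3 : Nat.Coprime (orderOf (x : G ⧸ N)) (p ^ k) := Nat.Coprime.pow_right k (Nat.Coprime.coprime_dvd_left h1 hx)
    have h4 : orderOf (x : G ⧸ N) = 1 := Nat.Coprime.eq_one_of_dvd h3 h2
    exact orderOf_eq_one_iff.mp h4

end Cfsg.Agent.S0086
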