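import Mathlib
import Cfsg.Statements.S2910
import Mathlib
import Cfsg.Agent.Lib.Helper10.OmegaLemma
import Cfsg.Agent.Lib.Helper10.Frobenius3
-- import your own Cfsg.Agent.* helpers here

set_option autoImplicit false
open Cfsg

namespace Cfsg.Agent.S2910

/-- Let p be an odd prime dividing the order of the finite group G and P a Sylow p-subgroup of G. If Ω₁(P) (generated by the elements of order dividing p) is contained in the centre of G, then G has a normal p-complement. In particular, if G is quasisimple then Ω₁(P) is not central in G. -/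
theorem result {G : Type*} [Group G] [Finite G] {p : ℕ} [Fact p.Prime] (hp : p ≠ 2) (hdiv : p ∣ Nat.card G) (P : Sylow p G) (hZ : Cfsg.omegaOne p (P : Subgroup G) ≤ Subgroup.center G) : Cfsg.HasNormalPComplement p G ∧ ¬ Cfsg.IsQuasisimple G := by
  classical
  have hF : Cfsg.Agent.Helper10.FrobCond p G := by
    apply Cfsg.Agent.Helper10.frobCond_of_sylow P
    intro Q hQ g hg hcop
    apply Cfsg.Agent.Helper10.mem_centralizer_of_omega Q (P.2.to_le hQ) g hcop hg
    intro x hx hxΩ
    rcases hxΩ with h | ⟨h2, -⟩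
    · have h1 : x ∈ Cfsg.omegaOne p (P : Subgroup G) := Subgroup.subset_closure ⟨hQ hx, h⟩
      exact Subgroup.mem_center_iff.mp (hZ h1) g
    · exact absurd h2 hp
  have hNPC := Cfsg.Agent.Helper10.npc_of_frobCond _ G rfl hF
  refine ⟨Cfsg.Agent.Helper10.NPC.hasNormalPComplement hNPC, ?_⟩
  rintro ⟨hperf, -⟩
  obtain ⟨N, hNn, hNc, k, hk⟩ := hNPC
  have hcard : Nat.card ↥N * p ^ k = Nat.card G := by rw [← hk]; exact N.card_mul_index
  have hk0 : k ≠ 0 := by
    rintro rfl
    rw [pow_zero, mul_one] at hcard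
    rw [← hcard] at hdiv
    have h1 : p ∣ Nat.gcd (Nat.card ↥N) p := Nat.dvd_gcd hdiv dvd_rfl
    rw [hNc] at h1
    exact (Fact.out : p.Prime).one_lt.ne' (Nat.dvd_one.mp h1)
  have hqcard : Nat.card (G ⧸ N) = p ^ k := by rw [← Subgroup.index_eq_card]; exact hk
  have hqp : IsPGroup p (G ⧸ N) := IsPGroup.of_card hqcard
  haveI : Nontrivial (G ⧸ N) := by
    rw [← Finite.one_lt_card_iff_nontrivial, hqcard]
    exact Nat.one_lt_pow hk0 (Fact.out : p.Prime).one_lt
  haveI : Group.IsNilpotent (G ⧸ N) := hqp.isNilpotent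
  haveI : Group.IsPerfect (G ⧸ N) := inferInstance
  exact Group.IsPerfect.not_isNilpotent (G := G ⧸ N) inferInstance

end Cfsg.Agent.S2910
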