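import Mathlib
import Cfsg.Statements.S0728

set_option autoImplicit false

open Cfsg

namespace Cfsg.Agent.S0728

open MulAction

/-- Abstract counting form: in a sharply triply transitive group a two-point stabiliser has at most
one subgroup of order 3. -/
theorem main {M α : Type*} [Group M] [Finite M] [MulAction M α] [Fintype α] [DecidableEq α]
    (h3t : ∀ x y w x' y' w' : α, x ≠ y → x ≠ w → y ≠ w → x' ≠ y' → x' ≠ w' → y' ≠ w' →
      ∃ g : M, g • x = x' ∧ g • y = y' ∧ g • w = w')
    (hsh : ∀ (g : M) (x y w : α), x ≠ y → x ≠ w → y ≠ w → g • x = x → g • y = y → g • w = w → g = 1)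
    (h4 : 4 ≤ Fintype.card α)
    {a b : α} (hab : a ≠ b) (A B : Subgroup M)
    (hA : A ≤ stabilizer M a ⊓ stabilizer M b) (hB : B ≤ stabilizer M a ⊓ stabilizer M b)
    (hA3 : Nat.card A = 3) (hB3 : Nat.card B = 3) : A = B := by
  classical
  haveI : Fintype M := Fintype.ofFinite M
  set H : Subgroup M := stabilizer M a ⊓ stabilizer M b with hH
  set N := Fintype.card α with hN
  -- a point outside any pair
  have hthird : ∀ x y : α, ∃ w : α, w ≠ x ∧ w ≠ y := by
    intro x y
    by_contra hcon
    push Not at hcon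
    have : (Finset.univ : Finset α) ⊆ {x, y} := by
      intro w _
      rw [Finset.mem_insert, Finset.mem_singleton]
      by_cases h : w = x
      · left; exact h
      · right; exact hcon w h
    have := Finset.card_le_card this
    rw [Finset.card_univ] at this
    have h2 := Finset.card_le_two (a := x) (b := y)
    omega
  have h2t : ∀ x y : α, x ≠ y → ∃ g : M, g • a = x ∧ g • b = y := by
    intro x y hxy
    obtain ⟨c, hca, hcb⟩ := hthird a b
    obtain ⟨w, hwx, hwy⟩ := hthird x y
    obtain ⟨g, h1, h2, _⟩ := h3t a b c x y w hab (Ne.symm hca) (Ne.symm hcb) hxy (Ne.symm hwx)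
      (Ne.symm hwy)
    exact ⟨g, h1, h2⟩
  set TH : Finset M := Finset.univ.filter (fun t : M => t ∈ H ∧ t ≠ 1 ∧ t ^ 3 = 1) with hTH
  set P : Finset (α × α) := (Finset.univ.erase a).offDiag with hP
  have hPmem : ∀ p ∈ P, p.1 ≠ a ∧ p.2 ≠ a ∧ p.1 ≠ p.2 := by
    intro p hp
    rw [hP, Finset.mem_offDiag] at hp
    exact ⟨(Finset.mem_erase.mp hp.1).1, (Finset.mem_erase.mp hp.2.1).1, hp.2.2⟩
  have hPmem' : ∀ p : α × α, p.1 ≠ a → p.2 ≠ a → p.1 ≠ p.2 → p ∈ P := by
    intro p h1 h2 h12
    rw [hP, Finset.mem_offDiag]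
    exact ⟨Finset.mem_erase.mpr ⟨h1, Finset.mem_univ _⟩, Finset.mem_erase.mpr ⟨h2, Finset.mem_univ _⟩,
      h12⟩
  have hPpos : 0 < P.card := by
    obtain ⟨c, hca, hcb⟩ := hthird a b
    exact Finset.card_pos.mpr ⟨(b, c), hPmem' (b, c) (Ne.symm hab) hca (Ne.symm hcb)⟩
  set Ta : Finset M := Finset.univ.filter (fun g : M => g ^ 3 = 1 ∧ g • a ≠ a) with hTa
  -- Ta injects into P
  have hTaP : Ta.card ≤ P.card := by
    apply Finset.card_le_card_of_injOn (fun g : M => (g • a, g • g • a))
    · intro g hg
      rw [Finset.mem_coe, hTa, Finset.mem_filter] at hg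
      obtain ⟨_, hg3, hga⟩ := hg
      have h2 : g • g • a ≠ a := by
        intro h
        apply hga
        have : g • g • g • a = a := by
          rw [← mul_smul, ← mul_smul, ← pow_two, ← pow_succ, hg3, one_smul]
        rw [h] at this
        exact this
      have h3 : g • a ≠ g • g • a := fun h => hga (smul_left_cancel g h.symm)
      exact hPmem' (g • a, g • g • a) hga h2 h3
    · intro g hg g' hg' he
      rw [Finset.mem_coe, hTa, Finset.mem_filter] at hg hg'
      obtain ⟨_, hg3, hga⟩ := hg
      obtain ⟨_, hg3', hga'⟩ := hg'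
      have he1 : g • a = g' • a := congrArg Prod.fst he
      have he2 : g • g • a = g' • g' • a := congrArg Prod.snd he
      have hcyc : ∀ k : M, k ^ 3 = 1 → k • k • k • a = a := by
        intro k hk
        rw [← mul_smul, ← mul_smul, ← pow_two, ← pow_succ, hk, one_smul]
      have hgg : g • g • a ≠ a := by
        intro h
        apply hga
        have := hcyc g hg3
        rw [h] at this
        exact this
      -- g⁻¹ g' fixes a, g a, g g a
      have f1 : (g⁻¹ * g') • a = a := by
        rw [mul_smul, ← he1, inv_smul_smul]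
      have f2 : (g⁻¹ * g') • (g • a) = g • a := by
        have h' : g' • (g • a) = g • g • a := by
          calc g' • (g • a) = g' • (g' • a) := by rw [he1]
            _ = g • g • a := he2.symm
        rw [mul_smul, h', inv_smul_smul]
      have f3 : (g⁻¹ * g') • (g • g • a) = g • g • a := by
        have h' : g' • (g • g • a) = a := by rw [he2]; exact hcyc g' hg3'
        rw [mul_smul, h', inv_smul_eq_iff]
        exact (hcyc g hg3).symm
      have := hsh (g⁻¹ * g') a (g • a) (g • g • a) (Ne.symm hga) (Ne.symm hgg)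
        (fun h => hga (smul_left_cancel g h.symm)) f1 f2 f3
      rw [inv_mul_eq_one] at this
      exact this
  -- conjugating elements
  have hk : ∀ p : α × α, p.1 ≠ p.2 → ∃ g : M, g • a = p.1 ∧ g • b = p.2 := fun p hp => h2t p.1 p.2 hp
  choose! k hka hkb using hk
  have hmain : (TH ×ˢ P).card ≤ 2 * Ta.card := by
    apply Finset.card_le_mul_card_image_of_maps_to
      (f := fun tp : M × (α × α) => k tp.2 * tp.1 * (k tp.2)⁻¹)
    · intro tp htp
      rw [Finset.mem_product] at htp
      obtain ⟨ht, hp⟩ := htp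
      rw [hTH, Finset.mem_filter] at ht
      obtain ⟨_, htH, ht1, ht3⟩ := ht
      obtain ⟨hp1, hp2, hp12⟩ := hPmem _ hp
      rw [hTa, Finset.mem_filter]
      refine ⟨Finset.mem_univ _, ?_, ?_⟩
      · rw [conj_pow, ht3, mul_one, mul_inv_cancel]
      · intro hfa
        apply ht1
        have f1 : (k tp.2 * tp.1 * (k tp.2)⁻¹) • tp.2.1 = tp.2.1 := by
          rw [mul_smul, mul_smul, ← hka _ hp12, inv_smul_smul, htH.1]
        have f2 : (k tp.2 * tp.1 * (k tp.2)⁻¹) • tp.2.2 = tp.2.2 := by
          rw [mul_smul, mul_smul, ← hkb _ hp12, inv_smul_smul, htH.2]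
        have := hsh _ a tp.2.1 tp.2.2 (Ne.symm hp1) (Ne.symm hp2) hp12 hfa f1 f2
        have e : tp.1 = (k tp.2)⁻¹ * (k tp.2 * tp.1 * (k tp.2)⁻¹) * k tp.2 := by group
        rw [e, this]; group
    · intro g hg
      rw [hTa, Finset.mem_filter] at hg
      obtain ⟨_, hg3, hga⟩ := hg
      have hg1 : g ≠ 1 := by
        rintro rfl
        exact hga (one_smul _ _)
      -- the pairs fixed by g
      set Q : Finset (α × α) := P.filter (fun p => g • p.1 = p.1 ∧ g • p.2 = p.2) with hQ
      have hQ2 : Q.card ≤ 2 := by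
        by_cases hne : Q.Nonempty
        · obtain ⟨p₀, hp₀⟩ := hne
          rw [hQ, Finset.mem_filter] at hp₀
          obtain ⟨hp₀P, h01, h02⟩ := hp₀
          obtain ⟨_, _, hp₀12⟩ := hPmem p₀ hp₀P
          have hfix : ∀ x : α, g • x = x → x = p₀.1 ∨ x = p₀.2 := by
            intro x hx
            by_contra hcon
            rw [not_or] at hcon
            exact hg1 (hsh g p₀.1 p₀.2 x hp₀12 (Ne.symm hcon.1) (Ne.symm hcon.2) h01 h02 hx)
          refine le_trans (Finset.card_le_card (t := {p₀, p₀.swap}) ?_) Finset.card_le_two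
          intro p hp
          rw [hQ, Finset.mem_filter] at hp
          obtain ⟨hpP, hp1, hp2⟩ := hp
          obtain ⟨_, _, hp12⟩ := hPmem p hpP
          rw [Finset.mem_insert, Finset.mem_singleton]
          rcases hfix _ hp1 with e1 | e1 <;> rcases hfix _ hp2 with e2 | e2
          · exact absurd (e1.trans e2.symm) hp12
          · left; exact Prod.ext e1 e2
          · right; exact Prod.ext e1 e2
          · exact absurd (e1.trans e2.symm) hp12
        · rw [Finset.not_nonempty_iff_eq_empty] at hne
          rw [hne]; simp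
      refine le_trans ?_ hQ2
      apply Finset.card_le_card_of_injOn (fun tp : M × (α × α) => tp.2)
      · intro tp htp
        rw [Finset.mem_coe, Finset.mem_filter, Finset.mem_product] at htp
        obtain ⟨⟨ht, hp⟩, he⟩ := htp
        rw [hTH, Finset.mem_filter] at ht
        obtain ⟨_, htH, ht1, ht3⟩ := ht
        obtain ⟨hp1, hp2, hp12⟩ := hPmem _ hp
        rw [Finset.mem_coe, hQ, Finset.mem_filter]
        refine ⟨hp, ?_, ?_⟩
        · rw [← he, mul_smul, mul_smul, ← hka _ hp12, inv_smul_smul, htH.1]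
        · rw [← he, mul_smul, mul_smul, ← hkb _ hp12, inv_smul_smul, htH.2]
      · intro tp htp tp' htp' he
        rw [Finset.mem_coe, Finset.mem_filter] at htp htp'
        have he' : tp.2 = tp'.2 := he
        have h1 : k tp.2 * tp.1 * (k tp.2)⁻¹ = g := htp.2
        have h2 : k tp'.2 * tp'.1 * (k tp'.2)⁻¹ = g := htp'.2
        rw [← he'] at h2
        have : tp.1 = tp'.1 := by
          have e : k tp.2 * tp.1 * (k tp.2)⁻¹ = k tp.2 * tp'.1 * (k tp.2)⁻¹ := h1.trans h2.symm
          have e' := mul_right_cancel e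
          exact mul_left_cancel e'
        exact Prod.ext this he'
  have hTH2 : TH.card ≤ 2 := by
    rw [Finset.card_product] at hmain
    have : TH.card * P.card ≤ 2 * P.card := hmain.trans (Nat.mul_le_mul_left _ hTaP)
    exact Nat.le_of_mul_le_mul_right this hPpos
  -- the subgroups of order 3
  have hsub : ∀ C : Subgroup M, C ≤ H → Nat.card C = 3 →
      (Finset.univ.filter (fun t : M => t ∈ C ∧ t ≠ 1)) = TH := by
    intro C hCH hC3
    apply Finset.eq_of_subset_of_card_le
    · intro t ht
      rw [Finset.mem_filter] at ht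
      rw [hTH, Finset.mem_filter]
      refine ⟨Finset.mem_univ _, hCH ht.2.1, ht.2.2, ?_⟩
      have := pow_card_eq_one' (G := C) (x := ⟨t, ht.2.1⟩)
      rw [hC3] at this
      have h := congrArg (fun x : C => (x : M)) this
      simpa using h
    · have e : (Finset.univ.filter (fun t : M => t ∈ C ∧ t ≠ 1))
          = (Finset.univ.filter (fun t : M => t ∈ C)).erase 1 := by
        ext t
        simp only [Finset.mem_filter, Finset.mem_univ, true_and, Finset.mem_erase]
        tauto
      rw [e, Finset.card_erase_of_mem (by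
        rw [Finset.mem_filter]; exact ⟨Finset.mem_univ _, C.one_mem⟩)]
      have : (Finset.univ.filter (fun t : M => t ∈ C)).card = 3 := by
        rw [← hC3, Nat.card_eq_fintype_card, Fintype.card_subtype]
      rw [this]
      exact hTH2
  have hAe := hsub A hA hA3
  have hBe := hsub B hB hB3
  ext t
  by_cases ht1 : t = 1
  · rw [ht1]
    exact ⟨fun _ => B.one_mem, fun _ => A.one_mem⟩
  · have hA' : t ∈ A ↔ t ∈ TH := by
      rw [← hAe, Finset.mem_filter]
      simp [ht1]
    have hB' : t ∈ B ↔ t ∈ TH := by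
      rw [← hBe, Finset.mem_filter]
      simp [ht1]
    rw [hA', hB']

/-- In a sharply triply transitive group of even degree at least 6 (degree `q + 1`, `q` odd), a two-point stabiliser has at most one subgroup of order 3. -/
theorem result {α : Type*} [Fintype α] [DecidableEq α] (heven : Even (Fintype.card α)) (h6 : 6 ≤ Fintype.card α) (G : Subgroup (Equiv.Perm α)) (h3 : MulAction.IsMultiplyPretransitive G α 3) (hsharp : ∀ x : Fin 3 ↪ α, MulAction.stabilizer G x = ⊥) {a b : α} (hab : a ≠ b) (A B : Subgroup G) (hA : A ≤ MulAction.stabilizer G a ⊓ MulAction.stabilizer G b) (hB : B ≤ MulAction.stabilizer G a ⊓ MulAction.stabilizer G b) (hA3 : Nat.card A = 3) (hB3 : Nat.card B = 3) : A = B := by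
  classical
  have h3t : ∀ x y w x' y' w' : α, x ≠ y → x ≠ w → y ≠ w → x' ≠ y' → x' ≠ w' → y' ≠ w' →
      ∃ g : G, g • x = x' ∧ g • y = y' ∧ g • w = w' := by
    intro x y w x' y' w' hxy hxw hyw hxy' hxw' hyw'
    let e : Fin 3 ↪ α := ⟨![x, y, w], by
      intro i j hij
      fin_cases i <;> fin_cases j <;> simp_all⟩
    let e' : Fin 3 ↪ α := ⟨![x', y', w'], by
      intro i j hij
      fin_cases i <;> fin_cases j <;> simp_all⟩
    obtain ⟨g, hg⟩ := h3.exists_smul_eq e e'
    refine ⟨g, ?_, ?_, ?_⟩
    · exact DFunLike.congr_fun hg 0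
    · exact DFunLike.congr_fun hg 1
    · exact DFunLike.congr_fun hg 2
  have hsh : ∀ (g : G) (x y w : α), x ≠ y → x ≠ w → y ≠ w → g • x = x → g • y = y → g • w = w →
      g = 1 := by
    intro g x y w hxy hxw hyw hx hy hw
    let e : Fin 3 ↪ α := ⟨![x, y, w], by
      intro i j hij
      fin_cases i <;> fin_cases j <;> simp_all⟩
    have hmem : g ∈ MulAction.stabilizer G e := by
      rw [MulAction.mem_stabilizer_iff]
      ext i
      fin_cases i
      · exact hx
      · exact hy
      · exact hw
    rw [hsharp e, Subgroup.mem_bot] at hmem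
    exact hmem
  exact main h3t hsh (by omega) hab A B hA hB hA3 hB3

end Cfsg.Agent.S0728
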