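import Mathlib
import Cfsg.Statements.S0729
import Cfsg.Agent.Lib.Helper14.Sh3F

set_option autoImplicit false
open Cfsg

namespace Cfsg.Agent.S0729

/-- In a sharply triply transitive group of even degree at least 6, the two-point stabiliser `H = G_{a,b}` has a normal subgroup of index 2 that is normalised by the element `s` interchanging `a, b` and fixing a third point `c`. -/
theorem result {α : Type*} [Fintype α] [DecidableEq α] (heven : Even (Fintype.card α)) (h6 : 6 ≤ Fintype.card α) (G : Subgroup (Equiv.Perm α)) (h3 : MulAction.IsMultiplyPretransitive G α 3) (hsharp : ∀ x : Fin 3 ↪ α, MulAction.stabilizer G x = ⊥) {a b c : α} (hab : a ≠ b) (hac : a ≠ c) (hbc : b ≠ c) (s : G) (hsa : s • a = b) (hsb : s • b = a) (hsc : s • c = c) : ∃ N : Subgroup G, N ≤ MulAction.stabilizer G a ⊓ MulAction.stabilizer G b ∧ (N.subgroupOf (MulAction.stabilizer G a ⊓ MulAction.stabilizer G b)).Normal ∧ N.relIndex (MulAction.stabilizer G a ⊓ MulAction.stabilizer G b) = 2 ∧ ∀ n ∈ N, s * n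 * s⁻¹ ∈ N := by
  classical
  have h3t : ∀ x y w x' y' w' : α, x ≠ y → x ≠ w → y ≠ w → x' ≠ y' → x' ≠ w' → y' ≠ w' →
      ∃ g : G, g • x = x' ∧ g • y = y' ∧ g • w = w' := by
    intro x y w x' y' w' hxy hxw hyw hxy' hxw' hyw'
    let e : Fin 3 ↪ α := ⟨![x, y, w], by
      intro i j hij
      fin_cases i <;> fin_cases j <;> simp_all⟩
    let e' : Fin 3 ↪ α := ⟨![x', y', w'], by
      intro i j hij
      fin_cases i <;> fin_cases j <;> simp_all⟩
    obtain ⟨g, hg⟩ := h3.exists_smul_eq e e'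
    refine ⟨g, ?_, ?_, ?_⟩
    · exact DFunLike.congr_fun hg 0
    · exact DFunLike.congr_fun hg 1
    · exact DFunLike.congr_fun hg 2
  have hsh : ∀ (g : G) (x y w : α), x ≠ y → x ≠ w → y ≠ w → g • x = x → g • y = y → g • w = w →
      g = 1 := by
    intro g x y w hxy hxw hyw hx hy hw
    let e : Fin 3 ↪ α := ⟨![x, y, w], by
      intro i j hij
      fin_cases i <;> fin_cases j <;> simp_all⟩
    have hmem : g ∈ MulAction.stabilizer G e := by
      rw [MulAction.mem_stabilizer_iff]
      ext i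
      fin_cases i
      · exact hx
      · exact hy
      · exact hw
    rw [hsharp e, Subgroup.mem_bot] at hmem
    exact hmem
  obtain ⟨N₁, hN₁L, hN₁idx⟩ :=
    Cfsg.Agent.Helper14.Sh3.exists_index_two_stab h3t hsh heven h6 hab
  set L : Subgroup G := MulAction.stabilizer G a ⊓ MulAction.stabilizer G b with hL
  have hs2 : s * s = 1 :=
    hsh (s * s) a b c hab hac hbc (by rw [mul_smul, hsa, hsb]) (by rw [mul_smul, hsb, hsa])
      (by rw [mul_smul, hsc, hsc])
  have hsinv : s⁻¹ = s := inv_eq_of_mul_eq_one_left hs2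
  have hsL : ∀ n ∈ L, s * n * s⁻¹ ∈ L := by
    intro n hn
    obtain ⟨hna, hnb⟩ := Subgroup.mem_inf.1 hn
    rw [MulAction.mem_stabilizer_iff] at hna hnb
    rw [hsinv]
    refine Subgroup.mem_inf.2 ⟨?_, ?_⟩
    · rw [MulAction.mem_stabilizer_iff, mul_smul, mul_smul, hsa, hnb, hsb]
    · rw [MulAction.mem_stabilizer_iff, mul_smul, mul_smul, hsb, hna, hsa]
  have hss : ∀ n : G, s * (s * n * s⁻¹) * s⁻¹ = n := by
    intro n
    rw [hsinv]
    calc s * (s * n * s) * s = (s * s) * n * (s * s) := by group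
      _ = n := by rw [hs2, one_mul, mul_one]
  let σ : L ≃* L :=
    { toFun := fun h => ⟨s * h * s⁻¹, hsL h h.2⟩
      invFun := fun h => ⟨s * h * s⁻¹, hsL h h.2⟩
      left_inv := fun h => Subtype.ext (hss h)
      right_inv := fun h => Subtype.ext (hss h)
      map_mul' := fun h k => Subtype.ext (by
        show s * ((h : G) * (k : G)) * s⁻¹ = (s * (h : G) * s⁻¹) * (s * (k : G) * s⁻¹)
        group) }
  have hσ : ∀ h : L, σ (σ h) = h := fun h => Subtype.ext (hss h)
  have hidx : (N₁.subgroupOf L).index = 2 := hN₁idx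
  obtain ⟨N', hN'idx, hN'inv⟩ :=
    Cfsg.Agent.Helper14.Sh3.exists_invariant_index_two σ hσ (N₁.subgroupOf L) hidx
  have hsub : (N'.map L.subtype).subgroupOf L = N' :=
    Subgroup.comap_map_eq_self_of_injective (Subgroup.subtype_injective L) N'
  refine ⟨N'.map L.subtype, Subgroup.map_subtype_le N', ?_, ?_, ?_⟩
  · rw [hsub]
    exact Subgroup.normal_of_index_eq_two hN'idx
  · show ((N'.map L.subtype).subgroupOf L).index = 2
    rw [hsub]
    exact hN'idx
  · rintro n ⟨h, hh, rfl⟩
    exact ⟨σ h, hN'inv h hh, rfl⟩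

end Cfsg.Agent.S0729
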