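import Mathlib
import Cfsg.Statements.S0499
import Cfsg.Agent.S0071
import Cfsg.Agent.Lib.Helper3.Schmidt2

set_option autoImplicit false
open Cfsg

namespace Cfsg.Agent.S0499

open Cfsg.Agent.Helper3

variable {G : Type*} [Group G]

/-- An `r`-subgroup `T` normalizing a finite subgroup `Q`: fixed point congruence. -/
theorem card_modEq_card_inf_centralizer [Finite G] {r : ℕ} [Fact r.Prime] (T Q : Subgroup G)
    (hT : IsPGroup r T) (hTQ : T ≤ Subgroup.normalizer (Q : Set G)) :
    Nat.card Q ≡ Nat.card (Q ⊓ Subgroup.centralizer (T : Set G) : Subgroup G) [MOD r] := by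
  let act : MulAction T Q :=
    { smul := fun t q => ⟨t * q * t⁻¹, (Subgroup.mem_normalizer_iff.mp (hTQ t.2) q).mp q.2⟩
      one_smul := fun q => Subtype.ext (by
        change ((1 : T) : G) * q * ((1 : T) : G)⁻¹ = q
        simp)
      mul_smul := fun s t q => Subtype.ext (by
        change ((s * t : T) : G) * q * ((s * t : T) : G)⁻¹ = s * (t * q * (t : G)⁻¹) * (s : G)⁻¹
        simp [mul_assoc]) }
  have h1 := hT.card_modEq_card_fixedPoints (α := Q)
  have h2 : Nat.card (MulAction.fixedPoints T Q) =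
      Nat.card (Q ⊓ Subgroup.centralizer (T : Set G) : Subgroup G) := by
    apply Nat.card_congr
    refine
      { toFun := fun x => ⟨x.1.1, ⟨x.1.2, ?_⟩⟩
        invFun := fun y => ⟨⟨y.1, y.2.1⟩, ?_⟩
        left_inv := fun x => rfl
        right_inv := fun y => rfl }
    · intro t ht
      have := x.2 ⟨t, ht⟩
      have h3 : t * (x.1 : G) * t⁻¹ = (x.1 : G) := congrArg Subtype.val this
      calc t * (x.1 : G) = (t * (x.1 : G) * t⁻¹) * t := by group
        _ = (x.1 : G) * t := by rw [h3]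
    · intro t
      apply Subtype.ext
      change (t : G) * y.1 * (t : G)⁻¹ = y.1
      have h3 := y.2.2 (t : G) t.2
      calc (t : G) * y.1 * (t : G)⁻¹ = ((t : G) * y.1) * (t : G)⁻¹ := by group
        _ = (y.1 * (t : G)) * (t : G)⁻¹ := by rw [h3]
        _ = y.1 := by group
  rw [h2] at h1
  exact h1

/-- The arithmetic at the end: `r` odd prime, `r ∣ 2^b - 2^c`, `c < b ≤ 3`. -/
theorem arith_aux {r b c : ℕ} (hr : r.Prime) (hr2 : r ≠ 2) (hcb : c < b) (hb : b ≤ 3)
    (h : 2 ^ b ≡ 2 ^ c [MOD r]) : (r = 3 ∧ 2 ≤ b) ∨ (r = 7 ∧ b = 3) := by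
  have hle : 2 ^ c ≤ 2 ^ b := Nat.pow_le_pow_right (by norm_num) hcb.le
  have hd : r ∣ 2 ^ b - 2 ^ c := (Nat.modEq_iff_dvd' hle).mp h.symm
  have hr7 : r ≤ 7 := by
    have h7 : 2 ^ b - 2 ^ c ≤ 7 := by interval_cases b <;> interval_cases c <;> norm_num
    have hpos : 0 < 2 ^ b - 2 ^ c := Nat.sub_pos_of_lt (Nat.pow_lt_pow_right (by norm_num) hcb)
    exact (Nat.le_of_dvd hpos hd).trans h7
  have hr1 := hr.two_le
  interval_cases r <;> interval_cases b <;> interval_cases c <;>
    first | (norm_num at hd; done) | (norm_num at hr; done) | (exact absurd rfl hr2) | norm_num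

theorem result {G : Type*} [Group G] [Finite G] [IsSimpleGroup G]
    (hG : ¬ IsMulCommutative G) (h2 : Even (Nat.card G)) :
    12 ∣ Nat.card G ∨ 16 ∣ Nat.card G ∨ 56 ∣ Nat.card G := by
  classical
  haveI : Fact (Nat.Prime 2) := ⟨Nat.prime_two⟩
  have h2' : 2 ∣ Nat.card G := even_iff_two_dvd.mp h2
  let P : Sylow 2 G := default
  have hnc : ¬ ∃ N : Subgroup G, N.Normal ∧ N.IsComplement' (P : Subgroup G) := by
    rintro ⟨N, hN, hc⟩
    rcases hN.eq_bot_or_eq_top with h | h
    · subst h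
      have hP : (P : Subgroup G) = ⊤ := Subgroup.isComplement'_bot_left.mp hc
      have hGp : IsPGroup 2 G := by
        intro g
        obtain ⟨k, hk⟩ := P.isPGroup' ⟨g, by rw [hP]; trivial⟩
        exact ⟨k, by simpa using congrArg Subtype.val hk⟩
      have hcen := hGp.bot_lt_center
      have hcen' : Subgroup.center G = ⊤ :=
        ((inferInstance : (Subgroup.center G).Normal).eq_bot_or_eq_top).resolve_left hcen.ne'
      apply hG
      refine ⟨⟨fun a b => ?_⟩⟩
      have hb : b ∈ Subgroup.center G := by rw [hcen']; trivial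
      exact Subgroup.mem_center_iff.mp hb a
    · subst h
      exact P.ne_bot_of_dvd_card h2' (Subgroup.isComplement'_top_left.mp hc)
  rw [Cfsg.Agent.S0071.result P] at hnc
  push Not at hnc
  obtain ⟨Q, hQP, g, hgN, hgcop, hgC⟩ := hnc
  -- find an r-element
  let Z : Subgroup G := Subgroup.zpowers g
  have hZN : Z ≤ Subgroup.normalizer (Q : Set G) := by
    rw [Subgroup.zpowers_le]; exact hgN
  let N : Subgroup Z := (Subgroup.centralizer (Q : Set G)).subgroupOf Z
  have hNtop : N ≠ ⊤ := by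
    intro h
    have : (⟨g, Subgroup.mem_zpowers g⟩ : Z) ∈ N := by rw [h]; trivial
    exact hgC (Subgroup.mem_subgroupOf.mp this)
  have hex : ∃ (r : ℕ) (_ : Fact r.Prime), ∀ R : Sylow r Z, ¬ (R : Subgroup Z) ≤ N := by
    by_contra hcon
    push Not at hcon
    exact hNtop (eq_top_of_forall_sylow_le N (fun r hr => hcon r hr))
  obtain ⟨r, hr, hR⟩ := hex
  let R : Sylow r Z := default
  obtain ⟨h, hhR, hhN⟩ := SetLike.not_le_iff_exists.mp (hR R)
  have hhC : (h : G) ∉ Subgroup.centralizer (Q : Set G) := fun hh => hhN (Subgroup.mem_subgroupOf.mpr hh)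
  obtain ⟨k, hk⟩ := (IsPGroup.iff_orderOf.mp R.isPGroup') ⟨h, hhR⟩
  have hk' : orderOf (h : G) = r ^ k := by
    rw [← hk]
    rw [← Subgroup.orderOf_coe, ← Subgroup.orderOf_coe]
  have hdvd : orderOf (h : G) ∣ orderOf g := orderOf_dvd_of_mem_zpowers h.2
  have hh1 : (h : G) ≠ 1 := by
    intro h1
    apply hhC
    rw [h1]; exact Subgroup.one_mem _
  have hk0 : k ≠ 0 := by
    rintro rfl
    rw [pow_zero, orderOf_eq_one_iff] at hk'
    exact hh1 hk'
  have hr2 : r ≠ 2 := by
    rintro rfl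
    have h3 : (2 ^ k).Coprime 2 := Nat.Coprime.coprime_dvd_left (hk' ▸ hdvd) hgcop
    rw [Nat.coprime_pow_left_iff (Nat.pos_of_ne_zero hk0)] at h3
    norm_num at h3
  have hrG : r ∣ Nat.card G := by
    have h3 := orderOf_dvd_natCard (h : G)
    rw [hk'] at h3
    exact (dvd_pow_self r hk0).trans h3
  let T : Subgroup G := Subgroup.zpowers (h : G)
  have hT : IsPGroup r T := by
    apply IsPGroup.of_card (n := k)
    rw [Nat.card_zpowers, hk']
  have hTN : T ≤ Subgroup.normalizer (Q : Set G) := by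
    rw [Subgroup.zpowers_le]; exact hZN h.2
  have hcong := card_modEq_card_inf_centralizer T Q hT hTN
  have hQ2 : IsPGroup 2 Q := P.isPGroup'.to_le hQP
  obtain ⟨b, hb⟩ := hQ2.exists_card_eq
  have hQ2' : IsPGroup 2 (Q ⊓ Subgroup.centralizer (T : Set G) : Subgroup G) :=
    hQ2.to_le inf_le_left
  obtain ⟨c, hc⟩ := hQ2'.exists_card_eq
  have hlt : (Q ⊓ Subgroup.centralizer (T : Set G) : Subgroup G) < Q := by
    refine lt_of_le_of_ne inf_le_left ?_
    intro heq
    apply hhC
    intro q hq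
    have hq' : q ∈ (Q ⊓ Subgroup.centralizer (T : Set G) : Subgroup G) := by rw [heq]; exact hq
    exact (hq'.2 (h : G) (Subgroup.mem_zpowers _)).symm
  have hcb : c < b := by
    have h1 : Nat.card (Q ⊓ Subgroup.centralizer (T : Set G) : Subgroup G) ∣ Nat.card Q :=
      Subgroup.card_dvd_of_le inf_le_left
    rw [hb, hc] at h1
    have hle : c ≤ b := (Nat.pow_dvd_pow_iff_le_right (by norm_num)).mp h1
    refine lt_of_le_of_ne hle ?_
    rintro rfl
    exact hlt.ne (Subgroup.eq_of_le_of_card_ge inf_le_left (by rw [hb, hc]))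
  have hbG : 2 ^ b ∣ Nat.card G := hb ▸ Subgroup.card_subgroup_dvd_card Q
  by_cases hb3 : b ≤ 3
  · rw [hb, hc] at hcong
    rcases arith_aux hr.out hr2 hcb hb3 hcong with ⟨rfl, hb2⟩ | ⟨rfl, rfl⟩
    · left
      have h4 : 4 ∣ Nat.card G := (pow_dvd_pow 2 hb2).trans hbG
      exact Nat.Coprime.mul_dvd_of_dvd_of_dvd (by norm_num : Nat.Coprime 3 4) hrG h4
    · right; right
      exact Nat.Coprime.mul_dvd_of_dvd_of_dvd (by norm_num : Nat.Coprime 7 (2 ^ 3)) hrG hbG
  · right; left
    push Not at hb3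
    exact (pow_dvd_pow 2 hb3 : 2 ^ 4 ∣ 2 ^ b).trans hbG

end Cfsg.Agent.S0499
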