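import Mathlib
import Cfsg.Statements.S0988
import Cfsg.Agent.S0144
import Cfsg.Agent.Lib.Lead.SylowTools
import Cfsg.Agent.Lib.Lead.SimpleTools

set_option autoImplicit false
open Cfsg

namespace Cfsg.Agent.S0988

open Cfsg.Agent.Lead

/-- Fixed-point congruence for an `ℓ`-subgroup `Q` normalizing a subgroup `T`. -/
theorem card_modEq_card_inf_centralizer {G : Type*} [Group G] [Finite G] {l : ℕ} [Fact l.Prime]
    (Q T : Subgroup G) (hQ : IsPGroup l Q) (hQT : Q ≤ Subgroup.normalizer (T : Set G)) :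
    Nat.card T ≡ Nat.card (T ⊓ Subgroup.centralizer (Q : Set G) : Subgroup G) [MOD l] := by
  classical
  set S : Subgroup (Subgroup.normalizer (T : Set G)) :=
    Q.subgroupOf (Subgroup.normalizer (T : Set G)) with hS
  have hSp : IsPGroup l S := by
    rw [hS]
    exact hQ.comap_subtype
  haveI : Fintype T := Fintype.ofFinite _
  haveI : Fintype (MulAction.fixedPoints S T) := Fintype.ofFinite _
  have hmod := hSp.card_modEq_card_fixedPoints T
  have hiff : ∀ t : T, t ∈ MulAction.fixedPoints S T ↔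
      (t : G) ∈ Subgroup.centralizer (Q : Set G) := by
    intro t
    constructor
    · intro ht
      rw [Subgroup.mem_centralizer_iff]
      intro q hq
      have hqN : q ∈ Subgroup.normalizer (T : Set G) := hQT hq
      have hs : (⟨q, hqN⟩ : Subgroup.normalizer (T : Set G)) ∈ S := by
        rw [hS, Subgroup.mem_subgroupOf]
        exact hq
      have := ht ⟨⟨q, hqN⟩, hs⟩
      have h2 : q * (t : G) * q⁻¹ = (t : G) := congrArg Subtype.val this
      calc q * (t : G) = q * (t : G) * q⁻¹ * q := by group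
        _ = (t : G) * q := by rw [h2]
    · intro ht s
      rw [Subgroup.mem_centralizer_iff] at ht
      have hsQ : ((s : Subgroup.normalizer (T : Set G)) : G) ∈ Q :=
        Subgroup.mem_subgroupOf.1 s.2
      have h1 := ht _ hsQ
      apply Subtype.ext
      show ((s : Subgroup.normalizer (T : Set G)) : G) * (t : G) *
        ((s : Subgroup.normalizer (T : Set G)) : G)⁻¹ = (t : G)
      rw [h1]
      group
  have hcard : Nat.card (MulAction.fixedPoints S T) =
      Nat.card (T ⊓ Subgroup.centralizer (Q : Set G) : Subgroup G) := by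
    apply Nat.card_congr
    refine ⟨fun t => ⟨(t.1 : G), ⟨t.1.2, (hiff t.1).1 t.2⟩⟩,
      fun u => ⟨⟨u.1, u.2.1⟩, (hiff ⟨u.1, u.2.1⟩).2 u.2.2⟩, fun t => rfl, fun u => rfl⟩
  rw [← hcard]
  exact hmod

theorem aux_not_dvd {a b c : ℕ} (ha : a.Prime) (hb : b.Prime) (hc : c.Prime) (hab : a ≠ b)
    (hac : a ≠ c) : ¬ a ∣ b ^ 2 * c := by
  intro h
  rcases (Nat.Prime.dvd_mul ha).1 h with h1 | h1
  · exact hab ((Nat.prime_dvd_prime_iff_eq ha hb).1 (ha.dvd_of_dvd_pow h1))
  · exact hac ((Nat.prime_dvd_prime_iff_eq ha hc).1 h1)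

/-- The main case: distinct primes with `q < r`. -/
theorem main_aux {G : Type*} [Group G] [Finite G] [IsSimpleGroup G] (p q r : ℕ) (hp : p.Prime)
    (hq : q.Prime) (hr : r.Prime) (hpq : p ≠ q) (hpr : p ≠ r) (hqr : q < r)
    (hG : Nat.card G = p ^ 2 * q * r) : Nat.card G = 60 := by
  classical
  haveI : Fact p.Prime := ⟨hp⟩
  haveI : Fact q.Prime := ⟨hq⟩
  haveI : Fact r.Prime := ⟨hr⟩
  have hnp : ¬ (Nat.card G).Prime := by
    rw [hG]
    apply Nat.not_prime_mul
    · intro h
      have h1 : q ∣ 1 := by rw [← h]; exact Dvd.intro_left _ rfl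
      exact hq.one_lt.ne' (Nat.dvd_one.1 h1)
    · exact hr.one_lt.ne'
  have hnab := nonabelian_of_not_prime (G := G) hnp
  -- Sylow `q`
  have hGq : Nat.card G = q ^ 1 * (p ^ 2 * r) := by rw [hG]; ring
  have hqm : ¬ q ∣ p ^ 2 * r := aux_not_dvd hq hp hr (Ne.symm hpq) hqr.ne
  obtain ⟨hQcard, -, -⟩ := sylow_facts hGq hqm
  obtain ⟨Q⟩ : Nonempty (Sylow q G) := inferInstance
  have hQc : Nat.card (Q : Subgroup G) = q := by rw [hQcard Q, pow_one]
  -- (A) `p < q`
  have hpltq : p < q := by
    have h1 : ¬ Nat.Coprime (Nat.card (Subgroup.normalizer ((Q : Subgroup G) : Set G)) / q)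
        (q - 1) := fun h => not_coprime_of_prime_sylow hnab Q hQc h
    obtain ⟨s, hs, hs1, hs2⟩ := Nat.Prime.not_coprime_iff_dvd.1 h1
    have hqN : q ∣ Nat.card (Subgroup.normalizer ((Q : Subgroup G) : Set G)) := by
      have := Subgroup.card_dvd_of_le (Subgroup.le_normalizer (H := (Q : Subgroup G)))
      rwa [hQc] at this
    obtain ⟨t, ht⟩ := hqN
    have htdvd : t ∣ p ^ 2 * r := by
      have h2 : Nat.card (Subgroup.normalizer ((Q : Subgroup G) : Set G)) ∣ Nat.card G :=
        Subgroup.card_subgroup_dvd_card _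
      rw [ht, hGq, pow_one] at h2
      exact Nat.dvd_of_mul_dvd_mul_left hq.pos h2
    rw [ht, Nat.mul_div_cancel_left _ hq.pos] at hs1
    have hs3 : s ∣ p ^ 2 * r := hs1.trans htdvd
    have hsle : s ≤ q - 1 := Nat.le_of_dvd (by have := hq.two_le; omega) hs2
    rcases (Nat.Prime.dvd_mul hs).1 hs3 with h3 | h3
    · have : s = p := (Nat.prime_dvd_prime_iff_eq hs hp).1 (hs.dvd_of_dvd_pow h3)
      omega
    · have : s = r := (Nat.prime_dvd_prime_iff_eq hs hr).1 h3
      omega
  have hpltr : p < r := hpltq.trans hqr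
  -- Sylow `p`
  have hGp : Nat.card G = p ^ 2 * (q * r) := by rw [hG]; ring
  have hpm : ¬ p ∣ q * r := by
    intro h
    rcases (Nat.Prime.dvd_mul hp).1 h with h1 | h1
    · exact hpq ((Nat.prime_dvd_prime_iff_eq hp hq).1 h1)
    · exact hpr ((Nat.prime_dvd_prime_iff_eq hp hr).1 h1)
  obtain ⟨hPcard, -, -⟩ := sylow_facts hGp hpm
  obtain ⟨P⟩ : Nonempty (Sylow p G) := inferInstance
  have hPc : Nat.card (P : Subgroup G) = p ^ 2 := hPcard P
  have hPab : ∀ x ∈ (P : Subgroup G), ∀ y ∈ (P : Subgroup G), x * y = y * x := by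
    intro x hx y hy
    have h1 := (IsPGroup.isMulCommutative_of_card_eq_prime_sq hPc).is_comm.comm
      (⟨x, hx⟩ : (P : Subgroup G)) ⟨y, hy⟩
    exact congrArg Subtype.val h1
  have hpd : p ∣ Nat.card G := by rw [hGp]; exact ⟨p * (q * r), by ring⟩
  set N := Subgroup.normalizer ((P : Subgroup G) : Set G) with hN
  set C := Subgroup.centralizer ((P : Subgroup G) : Set G) with hC
  have hNC : ¬ N ≤ C := fun h => Cfsg.Agent.S0073.not_normalizer_le_centralizer hnab P hpd h
  have hrel1 : C.relIndex N ≠ 1 := fun h => hNC (Subgroup.relIndex_eq_one.1 h)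
  have hreldvd : C.relIndex N ∣ Nat.card N / Nat.card (P : Subgroup G) :=
    relIndex_centralizer_normalizer_dvd_div P hPab
  have hNdiv : Nat.card N / Nat.card (P : Subgroup G) ∣ q * r := by
    have hPN : Nat.card (P : Subgroup G) ∣ Nat.card N := Subgroup.card_dvd_of_le Subgroup.le_normalizer
    obtain ⟨t, ht⟩ := hPN
    have h2 : Nat.card N ∣ Nat.card G := Subgroup.card_subgroup_dvd_card _
    rw [ht, Nat.mul_div_cancel_left _ Nat.card_pos]
    rw [ht, hGp, hPc] at h2
    exact Nat.dvd_of_mul_dvd_mul_left (pow_pos hp.pos 2) h2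
  obtain ⟨l, hl, hlrel⟩ := Nat.exists_prime_and_dvd hrel1
  haveI : Fact l.Prime := ⟨hl⟩
  have hlqr : l = q ∨ l = r := by
    have h1 : l ∣ q * r := (hlrel.trans hreldvd).trans hNdiv
    rcases (Nat.Prime.dvd_mul hl).1 h1 with h2 | h2
    · left; exact (Nat.prime_dvd_prime_iff_eq hl hq).1 h2
    · right; exact (Nat.prime_dvd_prime_iff_eq hl hr).1 h2
  have hpl : p < l := by rcases hlqr with h | h <;> omega
  have hlsq : ¬ l ^ 2 ∣ Nat.card G := by
    intro h
    rcases hlqr with rfl | rfl
    · rw [hGq, pow_one, sq] at h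
      exact hqm (Nat.dvd_of_mul_dvd_mul_left hq.pos h)
    · have hGr : Nat.card G = l * (p ^ 2 * q) := by rw [hG]; ring
      rw [hGr, sq] at h
      exact aux_not_dvd hr hp hq (Ne.symm hpr) hqr.ne' (Nat.dvd_of_mul_dvd_mul_left hr.pos h)
  have hrelmul : Nat.card (C.subgroupOf N) * C.relIndex N = Nat.card N :=
    Subgroup.card_mul_index (C.subgroupOf N)
  have hlN : l ∣ Nat.card N := by
    rw [← hrelmul]
    exact Dvd.dvd.mul_left hlrel _
  obtain ⟨x, hx⟩ := exists_prime_orderOf_dvd_card' (G := ↥N) l hlN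
  have hxo : orderOf (x : G) = l := by rw [Subgroup.orderOf_coe, hx]
  have hxC : (x : G) ∉ C := by
    intro hxC
    apply hlsq
    have h1 : l ∣ Nat.card (C.subgroupOf N) := by
      have hmem : x ∈ C.subgroupOf N := Subgroup.mem_subgroupOf.2 hxC
      have h2 : orderOf (⟨x, hmem⟩ : C.subgroupOf N) = l := by
        rw [← hx]
        exact Subgroup.orderOf_mk x hmem
      rw [← h2]
      exact orderOf_dvd_natCard _
    have h3 : l ^ 2 ∣ Nat.card N := by
      rw [← hrelmul, sq]
      exact Nat.mul_dvd_mul h1 hlrel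
    exact h3.trans (Subgroup.card_subgroup_dvd_card _)
  -- fixed points
  have hZp : IsPGroup l (Subgroup.zpowers (x : G)) := by
    apply IsPGroup.of_card (n := 1)
    rw [Nat.card_zpowers, hxo, pow_one]
  have hZN : Subgroup.zpowers (x : G) ≤ Subgroup.normalizer ((P : Subgroup G) : Set G) := by
    rw [Subgroup.zpowers_le]
    exact x.2
  have hmod := card_modEq_card_inf_centralizer (Subgroup.zpowers (x : G)) (P : Subgroup G) hZp hZN
  set F : Subgroup G := (P : Subgroup G) ⊓ Subgroup.centralizer (Subgroup.zpowers (x : G) : Set G)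
    with hF
  have hFdvd : Nat.card F ∣ p ^ 2 := by
    rw [← hPc]
    exact Subgroup.card_dvd_of_le inf_le_left
  obtain ⟨j, hj2, hj⟩ := (Nat.dvd_prime_pow hp).1 hFdvd
  have hjne2 : j ≠ 2 := by
    rintro rfl
    apply hxC
    have hFP : F = (P : Subgroup G) := by
      apply Subgroup.eq_of_le_of_card_ge inf_le_left
      rw [hj, hPc]
    rw [hC, Subgroup.mem_centralizer_iff]
    intro y hy
    have hyF : y ∈ F := by rw [hFP]; exact hy
    have h1 := Subgroup.mem_centralizer_iff.1 hyF.2 (x : G) (Subgroup.mem_zpowers _)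
    exact h1.symm
  rw [hPc, hj] at hmod
  have hldvd : l ∣ p + 1 := by
    have hj01 : j = 0 ∨ j = 1 := by omega
    have hnl1 : ¬ l ∣ p := fun h => by
      have := Nat.le_of_dvd hp.pos h
      omega
    have hnl2 : ¬ l ∣ p - 1 := fun h => by
      have := Nat.le_of_dvd (by have := hp.two_le; omega) h
      omega
    rcases hj01 with rfl | rfl
    · rw [pow_zero] at hmod
      have h1 : l ∣ p ^ 2 - 1 := (Nat.modEq_iff_dvd' (Nat.one_le_pow _ _ hp.pos)).1 hmod.symm
      have h2 : p ^ 2 - 1 = (p - 1) * (p + 1) := by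
        obtain ⟨k, rfl⟩ : ∃ k, p = k + 1 := ⟨p - 1, by have := hp.pos; omega⟩
        simp only [Nat.add_sub_cancel]
        have : (k + 1) ^ 2 = k * (k + 1 + 1) + 1 := by ring
        rw [this, Nat.add_sub_cancel]
      rw [h2] at h1
      rcases (Nat.Prime.dvd_mul hl).1 h1 with h3 | h3
      · exact absurd h3 hnl2
      · exact h3
    · rw [pow_one] at hmod
      have hle : p ≤ p ^ 2 := by nlinarith [hp.pos]
      have h1 : l ∣ p ^ 2 - p := (Nat.modEq_iff_dvd' hle).1 hmod.symm
      have h2 : p ^ 2 - p = p * (p - 1) := by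
        obtain ⟨k, rfl⟩ : ∃ k, p = k + 1 := ⟨p - 1, by have := hp.pos; omega⟩
        simp only [Nat.add_sub_cancel]
        have : (k + 1) ^ 2 = (k + 1) * k + (k + 1) := by ring
        rw [this, Nat.add_sub_cancel]
      rw [h2] at h1
      rcases (Nat.Prime.dvd_mul hl).1 h1 with h3 | h3
      · exact absurd h3 hnl1
      · exact absurd h3 hnl2
  have hlp1 : l = p + 1 := by
    have := Nat.le_of_dvd (Nat.succ_pos p) hldvd
    omega
  have hq3 : q = p + 1 := by
    rcases hlqr with h | h
    · rw [← h]; exact hlp1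
    · omega
  have hp2 : p = 2 := by
    rcases hp.eq_two_or_odd with h | h
    · exact h
    · exfalso
      have h2 : 2 ∣ q := by rw [hq3]; omega
      have h3 := (Nat.prime_dvd_prime_iff_eq Nat.prime_two hq).1 h2
      have := hp.two_le
      omega
  subst hp2
  have hq3' : q = 3 := hq3
  subst hq3'
  -- (C)
  have hGr : Nat.card G = r ^ 1 * 12 := by rw [hG]; ring
  have hr5 : 5 ≤ r := by
    have h4 : r ≠ 4 := fun h => by rw [h] at hr; exact absurd hr (by decide)
    omega
  have hrm : ¬ r ∣ 12 := fun h => by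
    have h1 := Nat.le_of_dvd (by norm_num) h
    interval_cases r <;> first | omega | (exact absurd hr (by decide)) | (exact absurd h (by decide))
  obtain ⟨hRcard, hnrdvd, hnrmod⟩ := sylow_facts hGr hrm
  obtain ⟨R⟩ : Nonempty (Sylow r G) := inferInstance
  have hRc : Nat.card (R : Subgroup G) = r := by rw [hRcard R, pow_one]
  have hrd : r ∣ Nat.card G := by rw [hGr, pow_one]; exact Dvd.intro _ rfl
  have hnr1 : Nat.card (Sylow r G) ≠ 1 := by
    intro h
    rw [R.card_eq_index_normalizer, Subgroup.index_eq_one] at h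
    exact sylow_normalizer_ne_top hnab hrd R h
  have hnr12 : Nat.card (Sylow r G) ≠ 12 := by
    intro h
    have h1 := card_sylow_mul_card_normalizer R
    rw [h, hGr, pow_one, mul_comm r 12] at h1
    have h2 : Nat.card (Subgroup.normalizer ((R : Subgroup G) : Set G)) = r :=
      Nat.eq_of_mul_eq_mul_left (by norm_num) h1
    apply not_coprime_of_prime_sylow hnab R hRc
    rw [h2, Nat.div_self hr.pos]
    exact Nat.coprime_one_left _
  have hnrle : Nat.card (Sylow r G) ≤ 12 := Nat.le_of_dvd (by norm_num) hnrdvd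
  have hr5' : r = 5 := by
    generalize Nat.card (Sylow r G) = n at *
    interval_cases n <;> first | omega | (exfalso; revert hnrdvd; decide) | skip
    all_goals
      by_contra hne
      have h7 : 7 ≤ r := by
        have h6 : r ≠ 6 := fun h => by rw [h] at hr; exact absurd hr (by decide)
        omega
      rw [Nat.mod_eq_of_lt (by omega)] at hnrmod
      omega
  rw [hG, hr5']
  norm_num

/-- If a finite simple group has order p^2 * q * r with p, q and r prime, then its order is 60. -/
theorem result {G : Type*} [Group G] [Finite G] [IsSimpleGroup G] (p q r : ℕ) (hp : p.Prime) (hq : q.Prime) (hr : r.Prime) (hG : Nat.card G = p ^ 2 * q * r) : Nat.card G = 60 := by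
  have hnp : ¬ (Nat.card G).Prime := by
    rw [hG]
    apply Nat.not_prime_mul
    · intro h
      have h1 : q ∣ 1 := by rw [← h]; exact Dvd.intro_left _ rfl
      exact hq.one_lt.ne' (Nat.dvd_one.1 h1)
    · exact hr.one_lt.ne'
  have hnab := Cfsg.Agent.Lead.nonabelian_of_not_prime (G := G) hnp
  have hns : ¬ Group.IsSolvable G := by
    intro h
    obtain ⟨x, y, hxy⟩ := hnab
    exact hxy (IsSimpleGroup.comm_iff_isSolvable.2 h x y)
  by_cases hpq : p = q
  · exfalso
    apply hns
    subst hpq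
    exact Cfsg.Agent.S0144.result p r 3 1 hp hr (by rw [hG]; ring)
  by_cases hpr : p = r
  · exfalso
    apply hns
    subst hpr
    exact Cfsg.Agent.S0144.result p q 3 1 hp hq (by rw [hG]; ring)
  by_cases hqr : q = r
  · exfalso
    apply hns
    subst hqr
    exact Cfsg.Agent.S0144.result p q 2 2 hp hq (by rw [hG]; ring)
  rcases Nat.lt_or_gt_of_ne hqr with h | h
  · exact main_aux p q r hp hq hr hpq hpr h hG
  · exact main_aux p r q hp hr hq hpr hpq h (by rw [hG]; ring)

end Cfsg.Agent.S0988
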