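import Mathlib
import Cfsg.Statements.S0496
import Cfsg.Agent.Lib.Helper3.SmallOrdGen
import Cfsg.Agent.Lib.Helper3.SmallOrdCls
import Cfsg.Agent.Lib.Helper3.Ord720
import Cfsg.Agent.Lib.Helper16.Ord420
import Cfsg.Agent.Lib.Helper18.Ord756
import Cfsg.Agent.Lib.Helper18.Ord900
import Cfsg.Agent.Lib.Helper18.Ord960
import Cfsg.Agent.Lib.Helper27.Ord612
import Cfsg.Agent.Lib.Helper27.Ord840
import Cfsg.Agent.S0144
import Cfsg.Agent.S0493
import Cfsg.Agent.S0499
import Cfsg.Agent.S0073
import Cfsg.Agent.S0988

set_option autoImplicit false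
set_option maxRecDepth 8000
open Cfsg

namespace Cfsg.Agent.S0496

open Cfsg.Agent.Helper3.SmallOrd

/-- A non-abelian finite simple group of order at most 1092 has order 60, 168, 360, 504, 660 or 1092. -/
theorem result {G : Type*} [Group G] [Finite G] [IsSimpleGroup G]
    (hG : ¬ IsMulCommutative G) (h : Nat.card G ≤ 1092) :
    Nat.card G = 60 ∨ Nat.card G = 168 ∨ Nat.card G = 360 ∨ Nat.card G = 504 ∨ Nat.card G = 660 ∨
      Nat.card G = 1092 := by
  have hnab : ∃ x y : G, x * y ≠ y * x := by
    by_contra hc
    push Not at hc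
    exact hG ⟨⟨hc⟩⟩
  have hns : ¬ IsSolvable G := by
    intro hs
    have hcomm := (IsSimpleGroup.comm_iff_isSolvable (G := G)).mpr hs
    obtain ⟨x, y, hxy⟩ := hnab
    exact hxy (hcomm x y)
  rcases cls (Nat.card G) Nat.card_pos h with ⟨p, q, a, b, hp, hq, hc⟩ | ⟨m, hm, hm3, hc⟩ |
    ⟨hev, hnd⟩ | ⟨p, hp, hp3, h12⟩ | ⟨p, q, r, hp, hq, hr, hc⟩ | hl
  · exact absurd (Cfsg.Agent.S0144.result p q a b hp hq hc) hns
  · have := Cfsg.Agent.S0493.two_mul_odd m hm hc
    omega
  · exact absurd (Cfsg.Agent.S0499.result hG hev) hnd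
  · rcases Cfsg.Agent.S0073.result hnab with h3 | h3
    · rw [hp] at h3
      exact absurd h3 hp3
    · exact absurd h3 h12
  · have := Cfsg.Agent.S0988.result p q r hp hq hr hc
    exact Or.inl this
  · simp only [List.mem_cons, List.not_mem_nil, or_false] at hl
    rcases hl with hl | hl | hl | hl | hl | hl | hl | hl | hl | hl | hl | hl | hl | hl | hl | hl | hl | hl | hl | hl | hl | hl | hl | hl | hl | hl | hl | hl | hl | hl | hl | hl | hl | hl | hl | hl | hl | hl | hl | hl | hl | hl | hl | hl | hl | hl | hl | hl | hl | hl | hl | hl | hl | hl | hl | hl | hl | hl | hl | hl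
    · exact Or.inl hl
    · exact (no_simple_120 hl).elim
    · exact Or.inr (Or.inl hl)
    · exact (no_simple_180 hl).elim
    · exact (no_simple_240 hl).elim
    · exact (no_simple_252 hl).elim
    · exact (no_simple_264 hl).elim
    · exact (no_simple_280 hl).elim
    · exact (no_simple_300 hl).elim
    · exact (no_simple_312 hl).elim
    · exact (no_simple_336 hl).elim
    · exact Or.inr (Or.inr (Or.inl hl))
    · exact (no_simple_396 hl).elim
    · exact (no_simple_408 hl).elim
    · exact (no_simple_420 hl).elim
    · exact (no_simple_456 hl).elim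
    · exact (no_simple_468 hl).elim
    · exact (no_simple_480 hl).elim
    · exact Or.inr (Or.inr (Or.inr (Or.inl hl)))
    · exact (no_simple_528 hl).elim
    · exact (no_simple_540 hl).elim
    · exact (no_simple_552 hl).elim
    · exact (no_simple_560 hl).elim
    · exact (no_simple_588 hl).elim
    · exact (no_simple_600 hl).elim
    · exact (no_simple_612 hl).elim
    · exact (no_simple_616 hl).elim
    · exact (no_simple_624 hl).elim
    · exact Or.inr (Or.inr (Or.inr (Or.inr (Or.inl hl))))
    · exact (no_simple_672 hl).elim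
    · exact (no_simple_684 hl).elim
    · exact (no_simple_696 hl).elim
    · exact (no_simple_720 hl).elim
    · exact (no_simple_728 hl).elim
    · exact (no_simple_744 hl).elim
    · exact (no_simple_756 hl).elim
    · exact (no_simple_780 hl).elim
    · exact (no_simple_792 hl).elim
    · exact (no_simple_816 hl).elim
    · exact (no_simple_828 hl).elim
    · exact (no_simple_840 hl).elim
    · exact (no_simple_880 hl).elim
    · exact (no_simple_888 hl).elim
    · exact (no_simple_900 hl).elim
    · exact (no_simple_912 hl).elim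
    · exact (no_simple_924 hl).elim
    · exact (no_simple_936 hl).elim
    · exact (no_simple_945 hl).elim
    · exact (no_simple_952 hl).elim
    · exact (no_simple_960 hl).elim
    · exact (no_simple_984 hl).elim
    · exact (no_simple_1008 hl).elim
    · exact (no_simple_1020 hl).elim
    · exact (no_simple_1032 hl).elim
    · exact (no_simple_1040 hl).elim
    · exact (no_simple_1044 hl).elim
    · exact (no_simple_1056 hl).elim
    · exact (no_simple_1064 hl).elim
    · exact (no_simple_1080 hl).elim
    · exact Or.inr (Or.inr (Or.inr (Or.inr (Or.inr hl))))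

end Cfsg.Agent.S0496
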