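import Mathlib
import Cfsg.Statements.S0646
import Cfsg.Agent.Lib.Helper16.CyclicTwo
import Cfsg.Agent.Lib.Helper4.CyclicMax

set_option autoImplicit false
open Cfsg

namespace Cfsg.Agent.S0646

open Cfsg.Agent.Helper16 Cfsg.Agent.Helper4

/-- The nonabelian groups of order `2^n` with a cyclic subgroup of index 2. -/
theorem result {G : Type*} [Group G] [Finite G] (n : ℕ) (hn : 3 ≤ n) (hG : Nat.card G = 2 ^ n) (C : Subgroup G) (hC : IsCyclic C) (hCi : C.index = 2) (hna : ∃ x y : G, x * y ≠ y * x) : ∃ a b : G, orderOf a = 2 ^ (n - 1) ∧ b ∉ Subgroup.zpowers a ∧ ((b ^ 2 = 1 ∧ b * a * b⁻¹ = a⁻¹) ∨ (b ^ 2 = a ^ (2 ^ (n - 2)) ∧ b * a * b⁻¹ = a⁻¹) ∨ (4 ≤ n ∧ b ^ 2 = 1 ∧ b * a * b⁻¹ = a ^ (1 + 2 ^ (n - 2))) ∨ (4 ≤ n ∧ b ^ 2 = 1 ∧ b * a * b⁻¹ = a ^ (2 ^ (n - 2) - 1))) := by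
  obtain ⟨a, haC, hzC⟩ := exists_zpowers_eq_of_isCyclic C hC
  have hCn : C.Normal := Subgroup.normal_of_index_eq_two hCi
  obtain ⟨k, rfl⟩ : ∃ k, n = k + 1 := ⟨n - 1, by omega⟩
  have hk : 2 ≤ k := by omega
  have hcardC : Nat.card C = 2 ^ k := by
    have h1 := C.card_mul_index
    rw [hCi, hG, pow_succ] at h1
    exact Nat.eq_of_mul_eq_mul_right (by norm_num) h1
  have hao : orderOf a = 2 ^ k := by
    rw [← Nat.card_zpowers, hzC, hcardC]
  obtain ⟨g, hg⟩ : ∃ g : G, g ∉ C := by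
    by_contra hcon
    push Not at hcon
    have : C = ⊤ := eq_top_iff.2 fun x _ => hcon x
    rw [this, Subgroup.index_top] at hCi
    omega
  have hconj : g * a * g⁻¹ ∈ Subgroup.zpowers a := by
    rw [hzC]; exact hCn.conj_mem a haC g
  have hg2 : g ^ 2 ∈ Subgroup.zpowers a := by
    rw [hzC]; exact Subgroup.sq_mem_of_index_two hCi g
  have hgz : g ∉ Subgroup.zpowers a := by rw [hzC]; exact hg
  have hk1 : k + 1 - 1 = k := by omega
  have hk2 : k + 1 - 2 = k - 1 := by omega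
  rw [hk1, hk2]
  set z := a ^ 2 ^ (k - 1) with hz
  have hz2 : z ^ 2 = 1 := pow_half_sq (by omega) hao
  rcases cyclic_index_two_cases hk hao hconj hg2 with h | ⟨h1, h2 | h2⟩ | ⟨h0, h1, h2 | h2⟩ |
    ⟨h0, h1, i, hi⟩
  · exfalso
    obtain ⟨x, y, hxy⟩ := hna
    apply hxy
    refine comm_of_zpowers_index_prime a g ?_ hgz ?_ x y
    · rw [hzC, hCi]; exact Nat.prime_two
    · calc g * a = g * a * g⁻¹ * g := by group
        _ = a * g := by rw [h]
  · exact ⟨a, g, hao, hgz, Or.inl ⟨h2, h1⟩⟩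
  · exact ⟨a, g, hao, hgz, Or.inr (Or.inl ⟨h2, h1⟩)⟩
  · refine ⟨a, g, hao, hgz, Or.inr (Or.inr (Or.inr ⟨by omega, h2, ?_⟩))⟩
    rw [h1]
    have hpos : 1 ≤ 2 ^ (k - 1) := Nat.one_le_two_pow
    rw [eq_comm, ← hz]
    calc a ^ (2 ^ (k - 1) - 1) = a⁻¹ * (a * a ^ (2 ^ (k - 1) - 1)) := by group
      _ = a⁻¹ * a ^ (2 ^ (k - 1) - 1 + 1) := by rw [pow_succ']
      _ = a⁻¹ * z := by rw [Nat.sub_add_cancel hpos]
  · -- semidihedral action with g^2 = z: use b = g * a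
    have hza : Commute z a := (Commute.refl a).pow_left _
    have hb2 : (g * a) ^ 2 = 1 := by
      have e1 : (g * a) ^ 2 = (g * a * g⁻¹) * g ^ 2 * a := by rw [pow_two, pow_two]; group
      rw [e1, h1, h2]
      calc a⁻¹ * z * z * a = a⁻¹ * (z ^ 2) * a := by rw [pow_two]; group
        _ = 1 := by rw [hz2]; group
    have hbz : g * a ∉ Subgroup.zpowers a := by
      intro hmem
      apply hgz
      have := (Subgroup.zpowers a).mul_mem hmem ((Subgroup.zpowers a).inv_mem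
        (Subgroup.mem_zpowers a))
      simpa using this
    refine ⟨a, g * a, hao, hbz, Or.inr (Or.inr (Or.inr ⟨by omega, hb2, ?_⟩))⟩
    have e2 : g * a * a * (g * a)⁻¹ = g * a * g⁻¹ := by group
    rw [e2, h1]
    have hpos : 1 ≤ 2 ^ (k - 1) := Nat.one_le_two_pow
    rw [eq_comm]
    calc a ^ (2 ^ (k - 1) - 1) = a⁻¹ * (a * a ^ (2 ^ (k - 1) - 1)) := by group
      _ = a⁻¹ * a ^ (2 ^ (k - 1) - 1 + 1) := by rw [pow_succ']
      _ = a⁻¹ * z := by rw [Nat.sub_add_cancel hpos]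
  · -- modular action
    have hbz : g * a ^ i ∉ Subgroup.zpowers a := by
      intro hmem
      apply hgz
      have := (Subgroup.zpowers a).mul_mem hmem ((Subgroup.zpowers a).inv_mem
        ((Subgroup.zpowers a).pow_mem (Subgroup.mem_zpowers a) i))
      simpa using this
    refine ⟨a, g * a ^ i, hao, hbz, Or.inr (Or.inr (Or.inl ⟨by omega, hi, ?_⟩))⟩
    have e2 : g * a ^ i * a * (g * a ^ i)⁻¹ = g * a * g⁻¹ := by
      have : a ^ i * a = a * a ^ i := ((Commute.refl a).pow_left i).eq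
      calc g * a ^ i * a * (g * a ^ i)⁻¹ = g * (a ^ i * a) * (a ^ i)⁻¹ * g⁻¹ := by group
        _ = g * (a * a ^ i) * (a ^ i)⁻¹ * g⁻¹ := by rw [this]
        _ = g * a * g⁻¹ := by group
    rw [e2, h1, pow_add, pow_one]

end Cfsg.Agent.S0646
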