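import Mathlib
import Cfsg.Agent.S0646
import Cfsg.Agent.Lib.Lead.DihedralRecog
import Cfsg.Agent.Lib.Helper2.QuaternionRecog
import Cfsg.Agent.Lib.Helper19.PGroupBasic
import Cfsg.Agent.Lib.Helper22.CyclicChain
import Cfsg.Statements.S4399
-- import your own Cfsg.Agent.* helpers here

set_option autoImplicit false
open Cfsg

namespace Cfsg.Agent.S4399

open Subgroup Cfsg.Agent.Helper22
open scoped commutatorElement

universe u

theorem comm_mul_left {S : Type*} [Group S] (m m' g : S) :
    ⁅m * m', g⁆ = m * ⁅m', g⁆ * m⁻¹ * ⁅m, g⁆ := by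
  simp only [commutatorElement_def]
  group

theorem comm_of_commute_mul {S : Type*} [Group S] (a m' g : S) (h : a * m' = m' * a) :
    ⁅a, m' * g⁆ = m' * ⁅a, g⁆ * m'⁻¹ := by
  simp only [commutatorElement_def]
  calc a * (m' * g) * a⁻¹ * (m' * g)⁻¹ = (a * m') * g * a⁻¹ * g⁻¹ * m'⁻¹ := by group
    _ = (m' * a) * g * a⁻¹ * g⁻¹ * m'⁻¹ := by rw [h]
    _ = m' * (a * g * a⁻¹ * g⁻¹) * m'⁻¹ := by group

theorem comm_mul_mul {S : Type*} [Group S] (m₁ m₂ g : S) :
    ⁅m₁ * g, m₂ * g⁆ = (m₁ * (m₂ * m₁⁻¹)) * ⁅(m₂ * m₁⁻¹)⁻¹, g⁆ * m₂⁻¹ := by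
  simp only [commutatorElement_def]
  group

/-- Core computation: `M` abelian of index two, generated by `x` modulo a central element `z`. -/
theorem commutator_le_zpowers {S : Type*} [Group S] (M : Subgroup S) (hM2 : M.index = 2)
    (hMc : ∀ a ∈ M, ∀ b ∈ M, a * b = b * a) (g : S) (hg : g ∉ M) (x z : S) (hx : x ∈ M)
    (hzc : ∀ s : S, s * z = z * s) (hgen : ∀ m ∈ M, ∃ i j : ℤ, m = x ^ i * z ^ j) :
    commutator S ≤ zpowers ⁅x, g⁆ := by
  haveI : M.Normal := normal_of_index_eq_two hM2
  have hcM : ∀ m ∈ M, ⁅m, g⁆ ∈ M := by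
    intro m hm
    rw [commutatorElement_def]
    have h1 : g * m⁻¹ * g⁻¹ ∈ M := ‹M.Normal›.conj_mem _ (M.inv_mem hm) g
    have : m * g * m⁻¹ * g⁻¹ = m * (g * m⁻¹ * g⁻¹) := by group
    rw [this]
    exact M.mul_mem hm h1
  have hconj : ∀ m ∈ M, ∀ c ∈ M, m * c * m⁻¹ = c := by
    intro m hm c hc
    rw [hMc m hm c hc]
    group
  have hmul : ∀ m ∈ M, ∀ m' ∈ M, ⁅m * m', g⁆ = ⁅m, g⁆ * ⁅m', g⁆ := by
    intro m hm m' hm'
    rw [comm_mul_left, hconj m hm _ (hcM m' hm'), hMc _ (hcM m' hm') _ (hcM m hm)]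
  let φ : M →* S := MonoidHom.mk' (fun m => ⁅(m : S), g⁆) (fun a b => hmul a a.2 b b.2)
  have hφ : ∀ m : M, φ m = ⁅(m : S), g⁆ := fun m => rfl
  have key : ∀ m ∈ M, ⁅m, g⁆ ∈ zpowers ⁅x, g⁆ := by
    intro m hm
    obtain ⟨i, j, rfl⟩ := hgen m hm
    have hzj : ∀ s : S, s * z ^ j = z ^ j * s := by
      intro s
      have : Commute s z := hzc s
      exact (this.zpow_right j).eq
    have h1 : ⁅x ^ i * z ^ j, g⁆ = ⁅x ^ i, g⁆ := by
      simp only [commutatorElement_def]
      calc x ^ i * z ^ j * g * (x ^ i * z ^ j)⁻¹ * g⁻¹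
          = x ^ i * (z ^ j * g) * (z ^ j)⁻¹ * (x ^ i)⁻¹ * g⁻¹ := by group
        _ = x ^ i * (g * z ^ j) * (z ^ j)⁻¹ * (x ^ i)⁻¹ * g⁻¹ := by rw [hzj g]
        _ = x ^ i * g * (x ^ i)⁻¹ * g⁻¹ := by group
    rw [h1]
    have h2 : ⁅x ^ i, g⁆ = φ (⟨x, hx⟩ ^ i) := by
      rw [hφ]
      simp
    rw [h2, map_zpow, hφ]
    exact zpow_mem (mem_zpowers _) i
  have hginv : g⁻¹ ∉ M := fun h => hg (by simpa using M.inv_mem h)
  have hcoset : ∀ a : S, a ∉ M → a * g⁻¹ ∈ M := by
    intro a ha
    rw [mul_mem_iff_of_index_two hM2]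
    exact ⟨fun h => absurd h ha, fun h => absurd h hginv⟩
  have hcase : ∀ a ∈ M, ∀ b : S, ⁅a, b⁆ ∈ zpowers ⁅x, g⁆ := by
    intro a ha b
    by_cases hb : b ∈ M
    · have : ⁅a, b⁆ = 1 := commutatorElement_eq_one_iff_commute.mpr (hMc a ha b hb)
      rw [this]
      exact one_mem _
    · have hm' := hcoset b hb
      have hb' : b = (b * g⁻¹) * g := by group
      rw [hb', comm_of_commute_mul a _ g (hMc a ha _ hm'), hconj _ hm' _ (hcM a ha)]
      exact key a ha
  rw [commutator_eq_closure, closure_le]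
  intro c hc
  obtain ⟨a, b, rfl⟩ := mem_commutatorSet_iff.mp hc
  by_cases ha : a ∈ M
  · exact hcase a ha b
  · by_cases hb : b ∈ M
    · have h1 := inv_mem (hcase b hb a)
      rwa [commutatorElement_inv] at h1
    · have hm₁ := hcoset a ha
      have hm₂ := hcoset b hb
      have ha' : a = (a * g⁻¹) * g := by group
      have hb' : b = (b * g⁻¹) * g := by group
      rw [ha', hb', comm_mul_mul]
      set m₁ := a * g⁻¹
      set m₂ := b * g⁻¹
      have hu : (m₂ * m₁⁻¹)⁻¹ ∈ M := M.inv_mem (M.mul_mem hm₂ (M.inv_mem hm₁))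
      have h1 : m₁ * (m₂ * m₁⁻¹) = m₂ := by
        rw [← mul_assoc, hMc m₁ hm₁ m₂ hm₂]
        group
      rw [h1, hconj m₂ hm₂ _ (hcM _ hu)]
      exact key _ hu
theorem comm_of_sq_eq_one {S : Type*} [Group S] (h : ∀ x : S, x ^ 2 = 1) (a b : S) :
    a * b = b * a := by
  have h1 : (a * b) * (a * b) = 1 := by rw [← pow_two]; exact h _
  have h2 : a * a = 1 := by rw [← pow_two]; exact h _
  have h3 : b * b = 1 := by rw [← pow_two]; exact h _
  have hminv : a⁻¹ = a := inv_eq_of_mul_eq_one_right h2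
  have hninv : b⁻¹ = b := inv_eq_of_mul_eq_one_right h3
  have hmninv : (a * b)⁻¹ = a * b := inv_eq_of_mul_eq_one_right h1
  calc a * b = (a * b)⁻¹ := hmninv.symm
    _ = b⁻¹ * a⁻¹ := mul_inv_rev a b
    _ = b * a := by rw [hminv, hninv]

theorem commutator_eq_bot_of_comm {S : Type*} [Group S] (h : ∀ a b : S, a * b = b * a) :
    commutator S = ⊥ := by
  rw [commutator_eq_closure, closure_eq_bot_iff]
  intro c hc
  obtain ⟨a, b, rfl⟩ := mem_commutatorSet_iff.mp hc
  exact commutatorElement_eq_one_iff_commute.mpr (h a b)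

theorem exists_cyclic_index_two : ∀ (n : ℕ), 3 ≤ n → ∀ (S : Type u) [Group S] [Finite S],
    Nat.card S = 2 ^ n → (commutator S).index = 4 → (∀ s : S, s ^ 2 ∈ commutator S) →
    ∃ C : Subgroup S, IsCyclic C ∧ C.index = 2 := by
  intro n hn
  induction n, hn using Nat.le_induction with
  | base =>
    intro S _ _ hcard hidx hsq
    by_cases hall : ∀ x : S, x ^ 2 = 1
    · exfalso
      have := commutator_eq_bot_of_comm (comm_of_sq_eq_one hall)
      rw [this, index_bot, hcard] at hidx
      omega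
    · push Not at hall
      obtain ⟨x, hx⟩ := hall
      have hdvd : orderOf x ∣ 2 ^ 3 := by rw [← hcard]; exact orderOf_dvd_natCard x
      obtain ⟨k, hk3, hk⟩ := (Nat.dvd_prime_pow Nat.prime_two).mp hdvd
      have hk2 : 2 ≤ k := by
        by_contra hcon
        have : k = 0 ∨ k = 1 := by omega
        apply hx
        rcases this with rfl | rfl
        · rw [pow_zero, orderOf_eq_one_iff] at hk
          rw [hk, one_pow]
        · rw [pow_one] at hk
          rw [← hk]
          exact pow_orderOf_eq_one x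
      rcases (show k = 2 ∨ k = 3 by omega) with rfl | rfl
      · refine ⟨zpowers x, inferInstance, ?_⟩
        have := (zpowers x).card_mul_index
        rw [Nat.card_zpowers, hk, hcard] at this
        omega
      · refine ⟨zpowers (x ^ 2), inferInstance, ?_⟩
        have h4 : orderOf (x ^ 2) = 4 := by
          rw [orderOf_pow, hk]
          rfl
        have := (zpowers (x ^ 2)).card_mul_index
        rw [Nat.card_zpowers, h4, hcard] at this
        omega
  | succ n hn ih =>
    intro S _ _ hcard hidx hsq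
    haveI : Fact (Nat.Prime 2) := ⟨Nat.prime_two⟩
    have hS2 : IsPGroup 2 S := IsPGroup.of_card hcard
    have hS'card : Nat.card (commutator S) * 4 = 2 ^ (n + 1) := by
      have := (commutator S).card_mul_index
      rw [hidx, hcard] at this
      exact this
    have hS'ne : commutator S ≠ ⊥ := by
      intro h
      rw [h, card_bot] at hS'card
      have : 2 ^ 4 ≤ 2 ^ (n + 1) := Nat.pow_le_pow_right (by norm_num) (by omega)
      omega
    have h1 := Cfsg.Agent.Helper19.normal_inf_center_ne_bot hS2 (commutator S) hS'ne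
    obtain ⟨z, hzo⟩ : ∃ z : (commutator S ⊓ center S : Subgroup S), orderOf z = 2 := by
      apply exists_prime_orderOf_dvd_card' 2
      have hp := hS2.to_subgroup (commutator S ⊓ center S)
      haveI : Nontrivial (commutator S ⊓ center S : Subgroup S) :=
        (Subgroup.nontrivial_iff_ne_bot _).mpr h1
      obtain ⟨k, hk0, hk⟩ := hp.nontrivial_iff_card.mp inferInstance
      rw [hk]
      exact dvd_pow_self 2 (by omega)
    have hz'S' : (z : S) ∈ commutator S := z.2.1
    have hz'c : (z : S) ∈ center S := z.2.2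
    have hz'o : orderOf (z : S) = 2 := by rw [Subgroup.orderOf_coe]; exact hzo
    have hzcomm : ∀ s : S, s * (z : S) = (z : S) * s := fun s => mem_center_iff.mp hz'c s
    set N := zpowers (z : S) with hN
    haveI hNn : N.Normal := by
      refine ⟨fun m hm g => ?_⟩
      rw [hN, mem_zpowers_iff] at hm
      obtain ⟨j, rfl⟩ := hm
      have : g * (z : S) ^ j * g⁻¹ = (z : S) ^ j := by
        have hc : Commute g (z : S) := hzcomm g
        rw [(hc.zpow_right j).eq]
        group
      rw [this]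
      exact zpow_mem (mem_zpowers _) j
    have hNcard : Nat.card N = 2 := by rw [hN, Nat.card_zpowers, hz'o]
    have hNle : N ≤ commutator S := zpowers_le.mpr hz'S'
    have hQcard : Nat.card (S ⧸ N) = 2 ^ n := by
      have := N.card_eq_card_quotient_mul_card_subgroup
      rw [hcard, hNcard, pow_succ] at this
      omega
    have hcommQ : commutator (S ⧸ N) = (commutator S).map (QuotientGroup.mk' N) := by
      rw [commutator_def, commutator_def, Subgroup.map_commutator, ← MonoidHom.range_eq_map,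
        MonoidHom.range_eq_top.mpr (QuotientGroup.mk'_surjective N)]
    have hQidx : (commutator (S ⧸ N)).index = 4 := by
      have hker : (QuotientGroup.mk' N).ker ≤ commutator S := by
        rw [QuotientGroup.ker_mk']; exact hNle
      rw [hcommQ, Subgroup.index_map_eq (H := commutator S) (f := QuotientGroup.mk' N)
        (QuotientGroup.mk'_surjective N) hker, hidx]
    have hQsq : ∀ q : S ⧸ N, q ^ 2 ∈ commutator (S ⧸ N) := by
      intro q
      obtain ⟨s, rfl⟩ := QuotientGroup.mk'_surjective N q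
      rw [hcommQ, ← map_pow]
      exact Subgroup.mem_map_of_mem _ (hsq s)
    obtain ⟨Cbar, hCcyc, hCidx⟩ := ih (S ⧸ N) hQcard hQidx hQsq
    set M := Cbar.comap (QuotientGroup.mk' N) with hM
    have hM2 : M.index = 2 := by
      rw [hM, Subgroup.index_comap_of_surjective _ (QuotientGroup.mk'_surjective N)]
      exact hCidx
    refine ⟨M, ?_, hM2⟩
    obtain ⟨cbar, hcbar⟩ := hCcyc.exists_generator
    obtain ⟨x, hxc⟩ := QuotientGroup.mk'_surjective N (cbar : S ⧸ N)
    have hxM : x ∈ M := by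
      rw [hM, mem_comap, hxc]
      exact cbar.2
    have hgen : ∀ m ∈ M, ∃ i j : ℤ, m = x ^ i * (z : S) ^ j := by
      intro m hm
      have hm' : QuotientGroup.mk' N m ∈ Cbar := hm
      have h2 := hcbar ⟨_, hm'⟩
      rw [mem_zpowers_iff] at h2
      obtain ⟨i, hi⟩ := h2
      have hi' : (cbar : S ⧸ N) ^ i = QuotientGroup.mk' N m := by
        have := congrArg Subtype.val hi
        simpa using this
      rw [← hxc, ← map_zpow] at hi'
      have h3 : (x ^ i)⁻¹ * m ∈ N := QuotientGroup.eq.mp hi'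
      rw [hN, mem_zpowers_iff] at h3
      obtain ⟨j, hj⟩ := h3
      exact ⟨i, j, by rw [hj]; group⟩
    have hzz : ∀ (e : ℤ) (s : S), s * (z : S) ^ e = (z : S) ^ e * s :=
      fun e s => ((show Commute s (z : S) from hzcomm s).zpow_right e).eq
    have hMc : ∀ a ∈ M, ∀ b ∈ M, a * b = b * a := by
      intro a ha b hb
      obtain ⟨i, j, rfl⟩ := hgen a ha
      obtain ⟨k, l, rfl⟩ := hgen b hb
      calc x ^ i * (z : S) ^ j * (x ^ k * (z : S) ^ l)
          = x ^ i * ((z : S) ^ j * x ^ k) * (z : S) ^ l := by group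
        _ = x ^ i * (x ^ k * (z : S) ^ j) * (z : S) ^ l := by rw [hzz j (x ^ k)]
        _ = (x ^ i * x ^ k) * ((z : S) ^ j * (z : S) ^ l) := by group
        _ = (x ^ k * x ^ i) * ((z : S) ^ l * (z : S) ^ j) := by
            rw [← zpow_add, ← zpow_add, ← zpow_add, ← zpow_add, add_comm i k, add_comm j l]
        _ = x ^ k * (x ^ i * (z : S) ^ l) * (z : S) ^ j := by group
        _ = x ^ k * ((z : S) ^ l * x ^ i) * (z : S) ^ j := by rw [hzz l (x ^ i)]
        _ = x ^ k * (z : S) ^ l * (x ^ i * (z : S) ^ j) := by group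
    obtain ⟨g, hg⟩ : ∃ g : S, g ∉ M := by
      by_contra hcon
      push Not at hcon
      have : M = ⊤ := eq_top_iff.mpr (fun s _ => hcon s)
      rw [this, index_top] at hM2
      omega
    have hS'le := commutator_le_zpowers M hM2 hMc g hg x (z : S) hxM hzcomm hgen
    haveI : IsCyclic (commutator S) := Subgroup.isCyclic_of_le hS'le
    have hx2 : x ^ 2 ∈ commutator S := hsq x
    -- order of the image of x
    have hcbo : orderOf (cbar : S ⧸ N) = 2 ^ (n - 1) := by
      rw [Subgroup.orderOf_coe, orderOf_eq_card_of_forall_mem_zpowers hcbar]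
      have := Cbar.card_mul_index
      rw [hCidx, hQcard] at this
      have h2 : 2 ^ n = 2 ^ (n - 1) * 2 := by rw [← pow_succ]; congr 1; omega
      omega
    have hx2N : x ^ 2 ∉ N := by
      intro h
      have h2 : (QuotientGroup.mk' N x) ^ 2 = 1 := by
        rw [← map_pow]
        exact (QuotientGroup.eq_one_iff _).mpr h
      rw [hxc] at h2
      have h3 := orderOf_dvd_of_pow_eq_one h2
      rw [hcbo] at h3
      have h4 : 2 ^ 2 ≤ 2 ^ (n - 1) := Nat.pow_le_pow_right (by norm_num) (by omega)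
      have := Nat.le_of_dvd (by norm_num) h3
      omega
    have hzx : (z : S) ∈ zpowers x := by
      rcases le_or_le_of_le_isCyclic_of_isPGroup (commutator S) (hS2.to_subgroup _) N
        (zpowers (x ^ 2)) hNle (zpowers_le.mpr hx2) with h | h
      · have h2 : (z : S) ∈ zpowers (x ^ 2) := h (mem_zpowers _)
        exact (zpowers_le.mpr (pow_mem (mem_zpowers x) 2)) h2
      · exact absurd (h (mem_zpowers _)) hx2N
    have hMle : M ≤ zpowers x := by
      intro m hm
      obtain ⟨i, j, rfl⟩ := hgen m hm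
      exact mul_mem (zpow_mem (mem_zpowers x) i) (zpow_mem hzx j)
    exact Subgroup.isCyclic_of_le hMle

/-- Let S be a finite 2-group whose commutator quotient S/[S,S] is a Klein four-group (order 4 and exponent 2). Then S itself has order 4, or S is dihedral of order at least 8, semidihedral of order at least 16 (order 2^(k+4) with an element a of order 2^(k+3) and an involution b with b a b⁻¹ = a^(2^(k+2)−1)), or generalized quaternion of order at least 8. -/
theorem result {S : Type*} [Group S] [Finite S] (h2 : IsPGroup 2 S) (hab : Nat.card (Abelianization S) = 4)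
    (hexp : ∀ x : Abelianization S, x ^ 2 = 1) :
    Nat.card S = 4 ∨
    ((∃ k : ℕ, Nonempty (S ≃* DihedralGroup (2 ^ (k + 2)))) ∨
      (∃ k : ℕ, Nat.card S = 2 ^ (k + 4) ∧ ∃ a b : S, orderOf a = 2 ^ (k + 3) ∧ orderOf b = 2 ∧ b * a * b⁻¹ = a ^ (2 ^ (k + 2) - 1)) ∨
      (∃ k : ℕ, Nonempty (S ≃* QuaternionGroup (2 ^ (k + 1))))) := by
  classical
  haveI : Fact (Nat.Prime 2) := ⟨Nat.prime_two⟩
  obtain ⟨n, hn⟩ := h2.exists_card_eq
  have hidx : (commutator S).index = 4 := by
    rw [← hab]; rfl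
  by_cases hcomm : ∀ x y : S, x * y = y * x
  · left
    have h0 : commutator S = ⊥ := commutator_eq_bot_of_comm hcomm
    rw [h0, index_bot] at hidx
    exact hidx
  · right
    push Not at hcomm
    obtain ⟨x, y, hxy⟩ := hcomm
    have hS'card : Nat.card (commutator S) * 4 = 2 ^ n := by
      have := (commutator S).card_mul_index
      rw [hidx, hn] at this
      exact this
    have hS'ne : commutator S ≠ ⊥ := by
      intro h
      apply hxy
      have h1 : ⁅x, y⁆ ∈ commutator S := by
        rw [commutator_eq_closure]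
        exact subset_closure (mem_commutatorSet_iff.mpr ⟨x, y, rfl⟩)
      rw [h, mem_bot] at h1
      exact (commutatorElement_eq_one_iff_commute.mp h1).eq
    have hn3 : 3 ≤ n := by
      have h1 : 2 ≤ Nat.card (commutator S) := by
        have hne : Nat.card (commutator S) ≠ 1 := by
          intro h
          exact hS'ne ((commutator S).card_eq_one.mp h)
        have hpos : 0 < Nat.card (commutator S) := Nat.card_pos
        omega
      by_contra hlt
      push Not at hlt
      have : 2 ^ n ≤ 2 ^ 2 := Nat.pow_le_pow_right (by norm_num) (by omega)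
      omega
    have hsq : ∀ s : S, s ^ 2 ∈ commutator S := by
      intro s
      have h1 := hexp (Abelianization.of s)
      rw [← map_pow] at h1
      exact (QuotientGroup.eq_one_iff _).mp h1
    obtain ⟨C, hC, hCi⟩ := exists_cyclic_index_two n hn3 S hn hidx hsq
    obtain ⟨a, b, hao, hbz, hcases⟩ := Cfsg.Agent.S0646.result n hn3 hn C hC hCi ⟨x, y, hxy⟩
    obtain ⟨m, rfl⟩ : ∃ m, n = m + 3 := ⟨n - 3, by omega⟩
    have e1 : m + 3 - 1 = m + 2 := by omega
    have e2 : m + 3 - 2 = m + 1 := by omega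
    rw [e1] at hao
    rw [e2] at hcases
    have hcard2 : Nat.card S = 2 * 2 ^ (m + 2) := by rw [hn]; ring
    rcases hcases with ⟨hb2, hba⟩ | ⟨hb2, hba⟩ | ⟨h4, hb2, hba⟩ | ⟨h4, hb2, hba⟩
    · -- dihedral
      left
      refine ⟨m, ?_⟩
      have hbinv : b⁻¹ = b := by
        apply inv_eq_of_mul_eq_one_right
        rw [← pow_two]; exact hb2
      have hbb : b * b = 1 := by rw [← pow_two]; exact hb2
      rw [hbinv] at hba
      exact Cfsg.Agent.Lead.nonempty_mulEquiv_dihedral (2 ^ (m + 2)) a b hao hbb hba hbz hcard2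
    · -- quaternion
      right; right
      refine ⟨m, ?_⟩
      have hbb : b * b = a ^ (2 ^ (m + 1)) := by rw [← pow_two]; exact hb2
      have h2le : 2 ≤ 2 ^ (m + 1) := by
        calc 2 = 2 ^ 1 := by norm_num
          _ ≤ 2 ^ (m + 1) := Nat.pow_le_pow_right (by norm_num) (by omega)
      have hao' : orderOf a = 2 * 2 ^ (m + 1) := by rw [hao]; ring
      have hcard4 : Nat.card S = 4 * 2 ^ (m + 1) := by rw [hn]; ring
      exact Cfsg.Agent.Helper2.nonempty_mulEquiv_quaternion (2 ^ (m + 1)) h2le a b hao' hbb hba hcard4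
    · -- modular: impossible
      exfalso
      set M := zpowers a with hM
      have hMcard : Nat.card M = 2 ^ (m + 2) := by rw [hM, Nat.card_zpowers, hao]
      have hM2 : M.index = 2 := by
        have := M.card_mul_index
        rw [hMcard, hcard2] at this
        have hpos : 0 < 2 ^ (m + 2) := by positivity
        nlinarith
      have hMc : ∀ u ∈ M, ∀ v ∈ M, u * v = v * u := by
        intro u hu v hv
        rw [hM, mem_zpowers_iff] at hu hv
        obtain ⟨i, rfl⟩ := hu
        obtain ⟨j, rfl⟩ := hv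
        rw [← zpow_add, ← zpow_add, add_comm]
      have hgen : ∀ u ∈ M, ∃ i j : ℤ, u = a ^ i * (1 : S) ^ j := by
        intro u hu
        rw [hM, mem_zpowers_iff] at hu
        obtain ⟨i, rfl⟩ := hu
        exact ⟨i, 0, by simp⟩
      have hle := commutator_le_zpowers M hM2 hMc b hbz a 1 (mem_zpowers a) (fun s => by simp) hgen
      have hcomm_eq : ⁅a, b⁆ = (a ^ (2 ^ (m + 1)))⁻¹ := by
        rw [commutatorElement_def]
        have h1 : a * b * a⁻¹ * b⁻¹ = a * (b * a * b⁻¹)⁻¹ := by group
        rw [h1, hba, add_comm, pow_succ]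
        group
      have hsq1 : ⁅a, b⁆ ^ 2 = 1 := by
        rw [hcomm_eq, inv_pow, ← pow_mul, ← pow_succ, inv_eq_one, ← hao]
        exact pow_orderOf_eq_one a
      have hord : orderOf ⁅a, b⁆ ≤ 2 := Nat.le_of_dvd (by norm_num) (orderOf_dvd_of_pow_eq_one hsq1)
      have hcard_le : Nat.card (commutator S) ≤ 2 := by
        calc Nat.card (commutator S) ≤ Nat.card (zpowers ⁅a, b⁆) :=
              Nat.card_le_card_of_injective _ (Subgroup.inclusion_injective hle)
          _ = orderOf ⁅a, b⁆ := Nat.card_zpowers _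
          _ ≤ 2 := hord
      have : 2 ^ 4 ≤ 2 ^ (m + 3) := Nat.pow_le_pow_right (by norm_num) (by omega)
      omega
    · -- semidihedral
      right; left
      obtain ⟨k, rfl⟩ : ∃ k, m = k + 1 := ⟨m - 1, by omega⟩
      refine ⟨k, hn, a, b, hao, ?_, hba⟩
      apply orderOf_eq_prime hb2
      rintro rfl
      exact hbz (one_mem _)

end Cfsg.Agent.S4399
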