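import Mathlib
import Cfsg.Agent.S4399
import Cfsg.Agent.Lib.Helper23.PGroup
import Cfsg.Statements.S4189
-- import your own Cfsg.Agent.* helpers here

set_option autoImplicit false
open Cfsg

namespace Cfsg.Agent.S4189

open Subgroup
open scoped commutatorElement

/-- restriction of an automorphism to an invariant subgroup -/
def restrictAut {P : Type*} [Group P] (α : P ≃* P) (C : Subgroup P)
    (h : ∀ x, α x ∈ C ↔ x ∈ C) : C ≃* C where
  toFun x := ⟨α x, (h x).mpr x.2⟩
  invFun x := ⟨α.symm x, (h _).mp (by simp)⟩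
  left_inv x := by ext; simp
  right_inv x := by ext; simp
  map_mul' x y := by ext; simp

theorem restrictAut_pow {P : Type*} [Group P] (α : P ≃* P) (C : Subgroup P)
    (h : ∀ x, α x ∈ C ↔ x ∈ C) (j : ℕ) (x : C) :
    (((restrictAut α C h : MulAut C) ^ j) x : P) = (α ^ j : MulAut P) x := by
  induction j generalizing x with
  | zero => simp
  | succ j ih =>
    rw [pow_succ', pow_succ', MulAut.mul_apply, MulAut.mul_apply, ← ih x]
    rfl

/-- an odd-order automorphism of a 2-group normalising a cyclic maximal subgroup is trivial -/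
theorem aut_eq_one_of_fix_cyclic {P : Type*} [Group P] [Finite P] (hP : IsPGroup 2 P)
    (C : Subgroup P) (hC : IsCyclic C) (hCi : C.index = 2) (α : MulAut P)
    (hα : ∀ x, α x ∈ C ↔ x ∈ C) (r : ℕ) (hr : Odd r) (hαr : α ^ r = 1) : α = 1 := by
  haveI : Fact (Nat.Prime 2) := ⟨Nat.prime_two⟩
  set β : MulAut C := restrictAut α C hα with hβ
  have hβr : β ^ r = 1 := by
    ext x
    rw [hβ, restrictAut_pow, hαr]
    rfl
  obtain ⟨m, hm⟩ := (hP.to_subgroup C).exists_card_eq
  have hβ2 : ∃ k, β ^ (2 ^ k) = 1 := by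
    have h1 : β ^ Nat.card (MulAut C) = 1 := pow_card_eq_one'
    rw [IsCyclic.card_mulAut, hm] at h1
    rcases Nat.eq_zero_or_pos m with h0 | h0
    · refine ⟨0, ?_⟩
      rw [h0, pow_zero, Nat.totient_one] at h1
      simpa using h1
    · refine ⟨m - 1, ?_⟩
      rw [Nat.totient_prime_pow Nat.prime_two h0] at h1
      simpa using h1
  obtain ⟨k, hk⟩ := hβ2
  have hβ1 : β = 1 := by
    have h1 : orderOf β ∣ r := orderOf_dvd_of_pow_eq_one hβr
    have h2 : orderOf β ∣ 2 ^ k := orderOf_dvd_of_pow_eq_one hk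
    have h3 : Nat.Coprime r (2 ^ k) := Nat.Coprime.pow_right k (Nat.Coprime.symm hr.coprime_two_left)
    have h4 : orderOf β = 1 := Nat.eq_one_of_dvd_coprimes h3 h1 h2
    exact orderOf_eq_one_iff.mp h4
  have hfixC : ∀ c ∈ C, α c = c := by
    intro c hc
    have h1 : (β ⟨c, hc⟩ : P) = c := by rw [hβ1]; rfl
    exact h1
  ext g
  show α g = g
  have hc : g⁻¹ * α g ∈ C := by
    rw [mul_mem_iff_of_index_two hCi, inv_mem_iff, hα]
  set c := g⁻¹ * α g with hcdef
  have hαg : α g = g * c := by rw [hcdef]; group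
  have hpow : ∀ j : ℕ, (α ^ j) g = g * c ^ j := by
    intro j
    induction j with
    | zero => simp
    | succ j ih =>
      rw [pow_succ', MulAut.mul_apply, ih, map_mul, map_pow, hfixC c hc, hαg, pow_succ']
      group
  have hcr : c ^ r = 1 := by
    have h1 := hpow r
    rw [hαr] at h1
    have h2 : g = g * c ^ r := h1
    exact (mul_eq_left.mp h2.symm)
  have hc1 : c = 1 := by
    obtain ⟨k, hk⟩ := hP c
    have h1 : orderOf c ∣ r := orderOf_dvd_of_pow_eq_one hcr
    have h2 : orderOf c ∣ 2 ^ k := orderOf_dvd_of_pow_eq_one hk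
    have h3 : Nat.Coprime r (2 ^ k) := Nat.Coprime.pow_right k (Nat.Coprime.symm hr.coprime_two_left)
    exact orderOf_eq_one_iff.mp (Nat.eq_one_of_dvd_coprimes h3 h1 h2)
  rw [hαg, hc1, mul_one]

/-- two distinct cyclic maximal subgroups force a derived subgroup of order at most two -/
theorem card_commutator_le_two_of_two_cyclic {P : Type*} [Group P] [Finite P]
    (C D : Subgroup P) (hC : IsCyclic C) (hD : IsCyclic D) (hCi : C.index = 2) (hDi : D.index = 2)
    (hne : C ≠ D) : Nat.card (commutator P) ≤ 2 := by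
  haveI hCn : C.Normal := normal_of_index_eq_two hCi
  obtain ⟨⟨a, haC⟩, hagen⟩ := hC.exists_generator
  have hCgen : ∀ u ∈ C, ∃ i : ℤ, u = a ^ i := by
    intro u hu
    have h1 := hagen ⟨u, hu⟩
    rw [mem_zpowers_iff] at h1
    obtain ⟨i, hi⟩ := h1
    refine ⟨i, ?_⟩
    have := congrArg Subtype.val hi
    simpa using this.symm
  have hcards : Nat.card C = Nat.card D := by
    have h1 := C.card_mul_index
    have h2 := D.card_mul_index
    rw [hCi] at h1
    rw [hDi] at h2
    omega
  obtain ⟨g, hgD, hgC⟩ : ∃ g ∈ D, g ∉ C := by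
    by_contra hcon
    push Not at hcon
    exact hne (eq_of_le_of_card_ge hcon hcards.le).symm
  have hMc : ∀ u ∈ C, ∀ v ∈ C, u * v = v * u := by
    intro u hu v hv
    obtain ⟨i, rfl⟩ := hCgen u hu
    obtain ⟨j, rfl⟩ := hCgen v hv
    rw [← zpow_add, ← zpow_add, add_comm]
  have hgen : ∀ u ∈ C, ∃ i j : ℤ, u = a ^ i * (1 : P) ^ j := by
    intro u hu
    obtain ⟨i, rfl⟩ := hCgen u hu
    exact ⟨i, 0, by simp⟩
  have hle := Cfsg.Agent.S4399.commutator_le_zpowers C hCi hMc g hgC a 1 haC (fun s => by simp) hgen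
  have haaD : a * a ∈ D := by rw [← pow_two]; exact sq_mem_of_index_two hDi a
  have hcomm : (a * a) * g = g * (a * a) := by
    haveI := hD
    have h1 := (IsCyclic.isMulCommutative (α := D)).is_comm.comm ⟨a * a, haaD⟩ ⟨g, hgD⟩
    exact congrArg Subtype.val h1
  have h1 : ⁅a * a, g⁆ = 1 := commutatorElement_eq_one_iff_commute.mpr hcomm
  have hcC : ⁅a, g⁆ ∈ C := by
    rw [commutatorElement_def]
    have h2 : g * a⁻¹ * g⁻¹ ∈ C := hCn.conj_mem _ (C.inv_mem haC) g
    have : a * g * a⁻¹ * g⁻¹ = a * (g * a⁻¹ * g⁻¹) := by group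
    rw [this]
    exact C.mul_mem haC h2
  have hsq1 : ⁅a, g⁆ ^ 2 = 1 := by
    rw [Cfsg.Agent.S4399.comm_mul_left] at h1
    have h3 : a * ⁅a, g⁆ * a⁻¹ = ⁅a, g⁆ := by
      rw [hMc a haC _ hcC]; group
    rw [h3] at h1
    rw [pow_two]; exact h1
  have hord : orderOf ⁅a, g⁆ ≤ 2 := Nat.le_of_dvd (by norm_num) (orderOf_dvd_of_pow_eq_one hsq1)
  calc Nat.card (commutator P) ≤ Nat.card (zpowers ⁅a, g⁆) :=
        Nat.card_le_card_of_injective _ (Subgroup.inclusion_injective hle)
    _ = orderOf ⁅a, g⁆ := Nat.card_zpowers _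
    _ ≤ 2 := hord

/-- nonabelian of order 8 with two cyclic subgroups of order 4 is quaternion -/
theorem quaternion_of_card_eight {P : Type*} [Group P] [Finite P] (hcard : Nat.card P = 2 ^ 3)
    (C D : Subgroup P) (hC : IsCyclic C) (hD : IsCyclic D) (hCi : C.index = 2) (hDi : D.index = 2)
    (hne : C ≠ D) (hna : ∃ x y : P, x * y ≠ y * x) : Nonempty (P ≃* QuaternionGroup 2) := by
  obtain ⟨a, b, hao, hbz, hcases⟩ := Cfsg.Agent.S0646.result 3 (le_refl 3) hcard C hC hCi hna
  norm_num at hao hcases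
  have hcard8 : Nat.card P = 8 := by rw [hcard]; norm_num
  rcases hcases with ⟨hb2, hba⟩ | ⟨hb2, hba⟩
  · exfalso
    have hAcard : Nat.card (zpowers a) = 4 := by rw [Nat.card_zpowers, hao]
    have hAi : (zpowers a).index = 2 := by
      have := (zpowers a).card_mul_index
      rw [hAcard, hcard8] at this
      omega
    obtain ⟨E, hE, hEi, hEne⟩ : ∃ E : Subgroup P, IsCyclic E ∧ E.index = 2 ∧ E ≠ zpowers a := by
      by_cases h : C = zpowers a
      · exact ⟨D, hD, hDi, fun h' => hne (h.trans h'.symm)⟩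
      · exact ⟨C, hC, hCi, h⟩
    have hEcard : Nat.card E = 4 := by
      have := E.card_mul_index
      rw [hEi, hcard8] at this
      omega
    obtain ⟨⟨e, heE⟩, hegen⟩ := hE.exists_generator
    have heo : orderOf e = 4 := by
      have h1 := orderOf_eq_card_of_forall_mem_zpowers hegen
      rw [hEcard] at h1
      rw [← h1, Subgroup.orderOf_mk]
    have hez : e ∉ zpowers a := by
      intro h
      apply hEne
      apply eq_of_le_of_card_ge
      · intro u hu
        have h1 := hegen ⟨u, hu⟩
        rw [mem_zpowers_iff] at h1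
        obtain ⟨i, hi⟩ := h1
        have h2 : e ^ i = u := by
          have := congrArg Subtype.val hi
          simpa using this
        rw [← h2]
        exact zpow_mem h i
      · rw [hAcard, hEcard]
    have h1 : e * b⁻¹ ∈ zpowers a := by
      rw [mul_mem_iff_of_index_two hAi, inv_mem_iff]
      exact ⟨fun h => absurd h hez, fun h => absurd h hbz⟩
    rw [mem_zpowers_iff] at h1
    obtain ⟨i, hi⟩ := h1
    have he : e = a ^ i * b := by rw [hi]; group
    have hbinv : b⁻¹ = b := by
      apply inv_eq_of_mul_eq_one_right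
      rw [← pow_two]; exact hb2
    have hconj : b * a ^ i * b⁻¹ = (a ^ i)⁻¹ := by
      rw [← conj_zpow, hba, inv_zpow]
    have he2 : e ^ 2 = 1 := by
      rw [he, pow_two]
      calc a ^ i * b * (a ^ i * b) = a ^ i * (b * a ^ i * b⁻¹) * (b * b) := by group
        _ = 1 := by rw [hconj, ← pow_two, hb2]; group
    have := orderOf_dvd_of_pow_eq_one he2
    rw [heo] at this
    omega
  · have hbb : b * b = a ^ 2 := by rw [← pow_two]; exact hb2
    exact Cfsg.Agent.Helper2.nonempty_mulEquiv_quaternion 2 (le_refl 2) a b (by rw [hao]) hbb hba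
      (by rw [hcard8])

/-- Let P be a finite non-abelian 2-group whose commutator subgroup has index 4 and whose automorphism group is not a 2-group (some automorphism has order that is not a power of 2). Then P is isomorphic to the quaternion group of order 8. -/
theorem result {P : Type*} [Group P] [Finite P] (hP : IsPGroup 2 P) (hna : ¬ IsMulCommutative P) (h4 : (commutator P).index = 4) (haut : ¬ IsPGroup 2 (MulAut P)) : Nonempty (P ≃* QuaternionGroup 2) := by
  classical
  haveI : Fact (Nat.Prime 2) := ⟨Nat.prime_two⟩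
  obtain ⟨n, hn⟩ := hP.exists_card_eq
  have hxy : ∃ x y : P, x * y ≠ y * x := by
    by_contra hcon
    push Not at hcon
    exact hna ⟨⟨hcon⟩⟩
  have hsq : ∀ s : P, s ^ 2 ∈ commutator P := by
    intro s
    by_contra hs
    obtain ⟨x, y, hxy⟩ := hxy
    apply hxy
    have hQcard : Nat.card (P ⧸ commutator P) = 4 := by
      rw [← h4]; rfl
    set sb : P ⧸ commutator P := QuotientGroup.mk s with hsb
    have hsb2 : sb ^ 2 ≠ 1 := by
      intro h
      apply hs
      rw [hsb, ← QuotientGroup.mk_pow] at h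
      exact (QuotientGroup.eq_one_iff _).mp h
    have hord : orderOf sb = 4 := by
      have h1 : orderOf sb ∣ 4 := by rw [← hQcard]; exact orderOf_dvd_natCard sb
      have h2 : orderOf sb ≤ 4 := Nat.le_of_dvd (by norm_num) h1
      have h3 : ¬ orderOf sb ∣ 2 := fun h => hsb2 (orderOf_dvd_iff_pow_eq_one.mp h)
      have h0 : 0 < orderOf sb := Nat.pos_of_dvd_of_pos h1 (by norm_num)
      interval_cases (orderOf sb) <;> simp_all
    have htop : zpowers sb = ⊤ := by
      rw [← card_eq_iff_eq_top, Nat.card_zpowers, hord, hQcard]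
    have hsup : zpowers s ⊔ frattini P = ⊤ := by
      rw [eq_top_iff]
      intro g _
      have h1 : (QuotientGroup.mk g : P ⧸ commutator P) ∈ zpowers sb := by rw [htop]; trivial
      rw [mem_zpowers_iff] at h1
      obtain ⟨i, hi⟩ := h1
      rw [hsb, ← QuotientGroup.mk_zpow] at hi
      have h2 : (s ^ i)⁻¹ * g ∈ commutator P := QuotientGroup.eq.mp hi
      have h3 : g = s ^ i * ((s ^ i)⁻¹ * g) := by group
      rw [h3]
      exact mul_mem (mem_sup_left (zpow_mem (mem_zpowers s) i))
        (mem_sup_right (Cfsg.Agent.Helper23.commutator_le_frattini_pgroup 2 hP h2))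
    have hz : zpowers s = ⊤ := frattini_nongenerating hsup
    have hx : x ∈ zpowers s := by rw [hz]; trivial
    have hy : y ∈ zpowers s := by rw [hz]; trivial
    rw [mem_zpowers_iff] at hx hy
    obtain ⟨i, rfl⟩ := hx
    obtain ⟨j, rfl⟩ := hy
    rw [← zpow_add, ← zpow_add, add_comm]
  have hS'card : Nat.card (commutator P) * 4 = 2 ^ n := by
    have := (commutator P).card_mul_index
    rw [h4, hn] at this
    exact this
  have hS'ne : commutator P ≠ ⊥ := by
    intro h
    obtain ⟨x, y, hxy⟩ := hxy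
    apply hxy
    have h1 : ⁅x, y⁆ ∈ commutator P := by
      rw [commutator_eq_closure]
      exact subset_closure (mem_commutatorSet_iff.mpr ⟨x, y, rfl⟩)
    rw [h, mem_bot] at h1
    exact (commutatorElement_eq_one_iff_commute.mp h1).eq
  have hn3 : 3 ≤ n := by
    have h1 : 2 ≤ Nat.card (commutator P) := by
      have hne : Nat.card (commutator P) ≠ 1 := by
        intro h
        exact hS'ne ((commutator P).card_eq_one.mp h)
      have hpos : 0 < Nat.card (commutator P) := Nat.card_pos
      omega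
    by_contra hlt
    push Not at hlt
    have : 2 ^ n ≤ 2 ^ 2 := Nat.pow_le_pow_right (by norm_num) (by omega)
    omega
  obtain ⟨C, hC, hCi⟩ := Cfsg.Agent.S4399.exists_cyclic_index_two n hn3 P hn h4 hsq
  -- an automorphism of odd order
  obtain ⟨β, r, hr, hβr, hβ1⟩ : ∃ (β : MulAut P) (r : ℕ), Odd r ∧ β ^ r = 1 ∧ β ≠ 1 := by
    unfold IsPGroup at haut
    push Not at haut
    obtain ⟨α, hα⟩ := haut
    have hpos : orderOf α ≠ 0 := (orderOf_pos α).ne'
    obtain ⟨k, r, hr, hkr⟩ := Nat.exists_eq_two_pow_mul_odd hpos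
    refine ⟨α ^ (2 ^ k), r, hr, ?_, hα k⟩
    rw [← pow_mul, ← hkr, pow_orderOf_eq_one]
  set D := C.map (β : P ≃* P).toMonoidHom with hD
  have hDcyc : IsCyclic D := by
    haveI := hC
    exact isCyclic_of_surjective ((β : P ≃* P).subgroupMap C) (MulEquiv.surjective _)
  have hDi : D.index = 2 := by
    rw [hD, ← hCi]
    exact index_map_equiv (H := C) (β : P ≃* P)
  have hne : C ≠ D := by
    intro h
    apply hβ1
    refine aut_eq_one_of_fix_cyclic hP C hC hCi β ?_ r hr hβr
    intro x
    constructor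
    · intro hx
      rw [h, hD] at hx
      obtain ⟨y, hy, hyx⟩ := hx
      have : y = x := (β : P ≃* P).injective hyx
      rw [← this]; exact hy
    · intro hx
      rw [h, hD]
      exact ⟨x, hx, rfl⟩
  have hle := card_commutator_le_two_of_two_cyclic C D hC hDcyc hCi hDi hne
  have hn3' : n = 3 := by
    by_contra hne3
    have : 2 ^ 4 ≤ 2 ^ n := Nat.pow_le_pow_right (by norm_num) (by omega)
    omega
  subst hn3'
  exact quaternion_of_card_eight hn C D hC hDcyc hCi hDi hne hxy

end Cfsg.Agent.S4189
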