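import Mathlib
import Cfsg.Statements.S0105

set_option autoImplicit false
open Cfsg

namespace Cfsg.Agent.S0105

open scoped IsMulCommutative

/-- With an abelian Sylow p-subgroup P, some quotient of G is isomorphic to the part of P central in N_G(P). -/
theorem result {G : Type*} [Group G] [Finite G] {p : ℕ} [Fact p.Prime] (P : Sylow p G) (hP : IsMulCommutative P) : ∃ (N : Subgroup G) (hN : N.Normal), Nonempty (G ⧸ N ≃* ((P : Subgroup G) ⊓ Subgroup.centralizer (Subgroup.normalizer (P : Set G) : Set G) : Subgroup G)) := by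
  classical
  haveI := hP
  change ∃ (N : Subgroup G) (hN : N.Normal), Nonempty (G ⧸ N ≃* ((P : Subgroup G) ⊓ Subgroup.centralizer (Subgroup.normalizer ((P : Subgroup G) : Set G) : Set G) : Subgroup G))
  obtain ⟨α, hα⟩ : ∃ α : Subgroup.normalizer ((P : Subgroup G) : Set G) →* MulAut (P : Subgroup G),
      α = (P : Subgroup G).normalizerMonoidHom := ⟨_, rfl⟩
  have hαapp : ∀ (n : Subgroup.normalizer ((P : Subgroup G) : Set G)) (x : (P : Subgroup G)),
      ((α n x : (P : Subgroup G)) : G) = (n : G) * x * (n : G)⁻¹ := by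
    intro n x; subst hα; rfl
  obtain ⟨E, hE⟩ : ∃ E : Subgroup (MulAut (P : Subgroup G)), E = α.range := ⟨_, rfl⟩
  haveI : Finite E := inferInstance
  haveI : Fintype E := Fintype.ofFinite E
  obtain ⟨τ, hτdef⟩ : ∃ τ : (P : Subgroup G) →* (P : Subgroup G),
      τ = ∏ σ : E, (σ : MulAut (P : Subgroup G)).toMonoidHom := ⟨_, rfl⟩
  have hτ : ∀ x, τ x = ∏ σ : E, (σ : MulAut (P : Subgroup G)) x := by
    intro x; subst hτdef; simp [MonoidHom.finset_prod_apply]
  have hαE : ∀ n, α n ∈ E := by intro n; rw [hE]; exact ⟨n, rfl⟩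
  -- (a) fixedness
  have ha : ∀ n x, α n (τ x) = τ x := by
    intro n x
    rw [hτ, map_prod]
    refine Fintype.prod_equiv (Equiv.mulLeft (⟨α n, hαE n⟩ : E)) _ _ ?_
    intro σ
    simp
  -- (d) invariance
  have hd : ∀ n x, τ (α n x) = τ x := by
    intro n x
    rw [hτ, hτ]
    refine Fintype.prod_equiv (Equiv.mulRight (⟨α n, hαE n⟩ : E)) _ _ ?_
    intro σ
    simp
  -- Z0
  obtain ⟨Z0, hZ0⟩ : ∃ Z0 : Subgroup G, Z0 = (P : Subgroup G) ⊓
      Subgroup.centralizer (Subgroup.normalizer ((P : Subgroup G) : Set G) : Set G) := ⟨_, rfl⟩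
  rw [← hZ0]
  have hmemZ0 : ∀ x : (P : Subgroup G), (x : G) ∈ Z0 ↔ ∀ n, α n x = x := by
    intro x
    rw [hZ0, Subgroup.mem_inf, Subgroup.mem_centralizer_iff]
    constructor
    · rintro ⟨_, h⟩ n
      apply Subtype.ext
      rw [hαapp, h n n.2]
      simp
    · intro h
      refine ⟨x.2, fun n hn => ?_⟩
      have := congrArg Subtype.val (h ⟨n, hn⟩)
      rw [hαapp] at this
      simp only at this
      rw [mul_inv_eq_iff_eq_mul] at this
      exact this
  have hτZ0 : ∀ x, ((τ x : (P : Subgroup G)) : G) ∈ Z0 := fun x => (hmemZ0 _).2 (fun n => ha n x)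
  -- (b)
  have hb : ∀ z : (P : Subgroup G), (z : G) ∈ Z0 → τ z = z ^ Nat.card E := by
    intro z hz
    rw [hτ]
    have h1 : ∀ σ : E, (σ : MulAut (P : Subgroup G)) z = z := by
      rintro ⟨σ, hσ⟩
      rw [hE] at hσ
      obtain ⟨n, rfl⟩ := hσ
      exact (hmemZ0 z).1 hz n
    simp [h1, Nat.card_eq_fintype_card]
  -- (c)
  have hc : ¬ p ∣ Nat.card E := by
    have h1 : Nat.card E = α.ker.index := by rw [hE, Subgroup.index_ker]
    rw [h1, hα, Subgroup.normalizerMonoidHom_ker, ← Subgroup.relIndex]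
    intro hdvd
    have h2 := Subgroup.relIndex_dvd_of_le_left
      (Subgroup.normalizer ((P : Subgroup G) : Set G)) (P.le_centralizer)
    have h3 := Subgroup.relIndex_dvd_index_of_le (P.le_normalizer)
    exact P.not_dvd_index (hdvd.trans (h2.trans h3))
  -- ψ
  obtain ⟨ψ, hψ⟩ : ∃ ψ : (P : Subgroup G) →* Z0, ∀ x, ((ψ x : Z0) : G) = ((τ x : (P : Subgroup G)) : G) :=
    ⟨((P : Subgroup G).subtype.comp τ).codRestrict Z0 hτZ0, fun x => rfl⟩
  have hker : (P : Subgroup G).focalSubgroupOf ≤ ψ.ker := by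
    rw [Subgroup.focalSubgroupOf_eq_closure, Subgroup.closure_le]
    rintro g ⟨x, hx, u, hgu⟩
    rw [SetLike.mem_coe, MonoidHom.mem_ker]
    apply Subtype.ext
    rw [hψ]
    -- u x⁻¹ u⁻¹ ∈ P
    have hg : (g : G) = x * (u * x⁻¹ * u⁻¹) := by
      rw [hgu, commutatorElement_def]; group
    have hconj : (u⁻¹)⁻¹ * x⁻¹ * u⁻¹ ∈ (P : Subgroup G) := by
      have : (u⁻¹)⁻¹ * x⁻¹ * u⁻¹ = x⁻¹ * g := by rw [hg]; group
      rw [this]
      exact mul_mem (inv_mem hx) g.2
    obtain ⟨n, hn, hnx⟩ := P.conj_eq_normalizer_conj_of_mem x⁻¹ u⁻¹ (inv_mem hx) hconj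
    have hn' : n⁻¹ ∈ Subgroup.normalizer ((P : Subgroup G) : Set G) := inv_mem hn
    have hgx : g = (⟨x, hx⟩ : (P : Subgroup G)) * (α ⟨n⁻¹, hn'⟩ ⟨x, hx⟩)⁻¹ := by
      apply Subtype.ext
      rw [Subgroup.coe_mul, Subgroup.coe_inv, hαapp, hg]
      simp only [inv_inv] at hnx
      simp only [inv_inv, mul_inv_rev]
      rw [hnx]
      group
    rw [hgx, map_mul, map_inv, hd, mul_inv_cancel]
    rfl
  -- W
  haveI : (P : Subgroup G).FiniteIndex := inferInstance
  obtain ⟨W, hW⟩ : ∃ W : G →* Z0, W = (QuotientGroup.lift ((P : Subgroup G).focalSubgroupOf) ψ hker).comp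
      (P : Subgroup G).transferFocal := ⟨_, rfl⟩
  have hZ0p : IsPGroup p Z0 := by
    rw [hZ0]; exact P.2.to_le inf_le_left
  have hWsurj : Function.Surjective W := by
    intro z
    obtain ⟨w, hw⟩ := (hZ0p.powEquiv' hc).surjective z
    have hw' : w ^ Nat.card E = z := hw
    have hwP : (w : G) ∈ (P : Subgroup G) := by
      have h0 : (w : G) ∈ Z0 := w.2
      have h1 : Z0 ≤ (P : Subgroup G) := by rw [hZ0]; exact inf_le_left
      exact h1 h0
    obtain ⟨g, hg⟩ := Subgroup.transferFocal_surjective P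
      (QuotientGroup.mk' _ (⟨w, hwP⟩ : (P : Subgroup G)))
    refine ⟨g, ?_⟩
    rw [hW, MonoidHom.comp_apply, hg]
    rw [QuotientGroup.mk'_apply, QuotientGroup.lift_mk]
    apply Subtype.ext
    rw [hψ, hb _ w.2, ← hw']
    simp
  exact ⟨W.ker, inferInstance, ⟨QuotientGroup.quotientKerEquivOfSurjective W hWsurj⟩⟩

end Cfsg.Agent.S0105
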