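import Mathlib
import Cfsg.Statements.S2261

set_option autoImplicit false
open Cfsg

namespace Cfsg.Agent.S2261

open Matrix Polynomial

section part1

variable {F : Type*} [Field F]

/-- The linear map `c ↦ Σ c_i M^i`. -/
noncomputable def polyMap (d : ℕ) (M : Matrix (Fin d) (Fin d) F) :
    (Fin d → F) →ₗ[F] Matrix (Fin d) (Fin d) F :=
  Fintype.linearCombination F (fun i : Fin d => M ^ (i : ℕ))

lemma pow_mem_range (d : ℕ) (hd : 1 ≤ d) (M : Matrix (Fin d) (Fin d) F) (k : ℕ) :
    ∃ c, polyMap d M c = M ^ k := by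
  haveI : Nonempty (Fin d) := ⟨⟨0, hd⟩⟩
  have h1 := Matrix.pow_eq_aeval_mod_charpoly M k
  set r := (X ^ k %ₘ M.charpoly : F[X]) with hr
  have hdeg : r.natDegree < d := by
    have h2 : M.charpoly ≠ 1 := by
      intro h
      have := Matrix.charpoly_natDegree_eq_dim M
      rw [h, natDegree_one] at this
      simp at this
      omega
    have := Polynomial.natDegree_modByMonic_lt (X ^ k) (Matrix.charpoly_monic M) h2
    rw [Matrix.charpoly_natDegree_eq_dim] at this
    simpa using this
  refine ⟨fun i => r.coeff i, ?_⟩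
  rw [h1, Polynomial.aeval_eq_sum_range' hdeg]
  unfold polyMap
  rw [Fintype.linearCombination_apply, Fin.sum_univ_eq_sum_range (fun i => r.coeff i • M ^ i) d]

/-- key step of injectivity -/
lemma key_inj [Fintype F] (d : ℕ) (hd : 1 ≤ d) (M : GL (Fin d) F) (i j : ℕ) (hij : i ≤ j)
    (hj : j < orderOf (M : GL (Fin d) F ⧸ Subgroup.center (GL (Fin d) F)))
    (u v : Fˣ)
    (h : (u : F) • ((M : Matrix (Fin d) (Fin d) F) ^ i) = (v : F) • ((M : Matrix (Fin d) (Fin d) F) ^ j)) :
    i = j ∧ u = v := by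
  haveI : Nonempty (Fin d) := ⟨⟨0, hd⟩⟩
  have h1 : Matrix.GeneralLinearGroup.scalar (Fin d) u * M ^ i =
      Matrix.GeneralLinearGroup.scalar (Fin d) v * M ^ j := by
    apply Units.ext
    simp only [Units.val_mul, Matrix.GeneralLinearGroup.coe_scalar, Units.val_pow_eq_pow_val]
    rw [Matrix.scalar_apply, Matrix.scalar_apply, ← Matrix.smul_eq_diagonal_mul,
      ← Matrix.smul_eq_diagonal_mul]
    exact h
  have h2 : M ^ (j - i) = Matrix.GeneralLinearGroup.scalar (Fin d) (v⁻¹ * u) := by
    have : M ^ j = M ^ (j - i) * M ^ i := by rw [← pow_add, Nat.sub_add_cancel hij]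
    rw [this, ← mul_assoc] at h1
    have h3 := mul_right_cancel h1
    rw [map_mul, map_inv, h3]
    group
  have h3 : M ^ (j - i) ∈ Subgroup.center (GL (Fin d) F) := by
    rw [Matrix.GeneralLinearGroup.center_eq_range_scalar, h2]
    exact ⟨_, rfl⟩
  have h4 : (M : GL (Fin d) F ⧸ Subgroup.center (GL (Fin d) F)) ^ (j - i) = 1 := by
    rw [← QuotientGroup.mk_pow, QuotientGroup.eq_one_iff]
    exact h3
  have h5 := orderOf_dvd_of_pow_eq_one h4
  have h6 : j - i = 0 := Nat.eq_zero_of_dvd_of_lt h5 (by omega)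
  have h7 : i = j := by omega
  refine ⟨h7, ?_⟩
  subst h7
  have h8 : ((u : F) - (v : F)) • ((M : Matrix (Fin d) (Fin d) F) ^ i) = 0 := by
    rw [sub_smul, h, sub_self]
  rcases smul_eq_zero.1 h8 with h9 | h9
  · exact Units.ext (sub_eq_zero.1 h9)
  · exfalso
    have : ((M ^ i : GL (Fin d) F) : Matrix (Fin d) (Fin d) F) = 0 := by
      rw [Units.val_pow_eq_pow_val]; exact h9
    exact (Units.ne_zero _) this

theorem part1 [Fintype F] (d : ℕ) (hd : 1 ≤ d)
    (g : (GL (Fin d) F ⧸ Subgroup.center (GL (Fin d) F))) :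
    (Fintype.card F - 1) * orderOf g ≤ Fintype.card F ^ d - 1 := by
  classical
  haveI : Nonempty (Fin d) := ⟨⟨0, hd⟩⟩
  obtain ⟨M, rfl⟩ := QuotientGroup.mk_surjective g
  set r := orderOf (M : GL (Fin d) F ⧸ Subgroup.center (GL (Fin d) F)) with hr
  let S : Finset (Matrix (Fin d) (Fin d) F) := Finset.univ.image (polyMap d (M : Matrix (Fin d) (Fin d) F))
  have hS : S.card ≤ Fintype.card F ^ d := by
    refine le_trans Finset.card_image_le ?_
    simp
  have h0 : (0 : Matrix (Fin d) (Fin d) F) ∈ S := by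
    rw [Finset.mem_image]; exact ⟨0, Finset.mem_univ _, map_zero _⟩
  have hS' : (S.erase 0).card ≤ Fintype.card F ^ d - 1 := by
    rw [Finset.card_erase_of_mem h0]; omega
  let φ : Fin r × Fˣ → Matrix (Fin d) (Fin d) F := fun x =>
    (x.2 : F) • ((M : Matrix (Fin d) (Fin d) F) ^ (x.1 : ℕ))
  have hφ : ∀ x ∈ (Finset.univ : Finset (Fin r × Fˣ)), φ x ∈ S.erase 0 := by
    intro x _
    rw [Finset.mem_erase]
    constructor
    · intro h
      rcases smul_eq_zero.1 h with h9 | h9
      · exact x.2.ne_zero h9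
      · have : ((M ^ (x.1 : ℕ) : GL (Fin d) F) : Matrix (Fin d) (Fin d) F) = 0 := by
          rw [Units.val_pow_eq_pow_val]; exact h9
        exact (Units.ne_zero _) this
    · obtain ⟨c, hc⟩ := pow_mem_range d hd (M : Matrix (Fin d) (Fin d) F) (x.1 : ℕ)
      rw [Finset.mem_image]
      refine ⟨(x.2 : F) • c, Finset.mem_univ _, ?_⟩
      rw [map_smul, hc]
  have hinj : Set.InjOn φ (Finset.univ : Finset (Fin r × Fˣ)) := by
    rintro ⟨i, u⟩ _ ⟨j, v⟩ _ h
    simp only [φ] at h
    rcases le_total (i : ℕ) (j : ℕ) with hij | hij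
    · obtain ⟨h1, h2⟩ := key_inj d hd M i j hij j.2 u v h
      exact Prod.ext (Fin.ext h1) h2
    · obtain ⟨h1, h2⟩ := key_inj d hd M j i hij i.2 v u h.symm
      exact Prod.ext (Fin.ext h1.symm) h2.symm
  have := Finset.card_le_card_of_injOn φ hφ hinj
  rw [Finset.card_univ, Fintype.card_prod, Fintype.card_fin, Fintype.card_units] at this
  calc (Fintype.card F - 1) * r = r * (Fintype.card F - 1) := mul_comm _ _
    _ ≤ (S.erase 0).card := this
    _ ≤ _ := hS'

end part1

section part2

variable {F : Type*} [Field F] [Fintype F]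

/-- An element of a field extension fixed by the `q`-power map lies in the base field. -/
lemma mem_range_of_pow_card {K : Type*} [Field K] [Algebra F K] (y : K)
    (hy : y ^ Fintype.card F = y) : ∃ a : F, algebraMap F K a = y := by
  classical
  have hq1 : 1 < Fintype.card F := Fintype.one_lt_card
  set P : K[X] := X ^ Fintype.card F - X with hP
  have hP0 : P ≠ 0 := FiniteField.X_pow_card_sub_X_ne_zero K hq1
  have hdeg : P.natDegree = Fintype.card F := FiniteField.X_pow_card_sub_X_natDegree_eq K hq1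
  let S : Finset K := Finset.univ.image (algebraMap F K)
  have hScard : S.card = Fintype.card F := by
    rw [Finset.card_image_of_injective _ (algebraMap F K).injective, Finset.card_univ]
  have hSsub : S ⊆ P.roots.toFinset := by
    intro x hx
    rw [Finset.mem_image] at hx
    obtain ⟨a, _, rfl⟩ := hx
    rw [Multiset.mem_toFinset, Polynomial.mem_roots hP0, Polynomial.IsRoot.def, hP]
    simp only [eval_sub, eval_pow, eval_X]
    rw [← map_pow, FiniteField.pow_card, sub_self]
  have hle : P.roots.toFinset.card ≤ S.card := by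
    rw [hScard, ← hdeg]
    exact le_trans (Multiset.toFinset_card_le _) (Polynomial.card_roots' P)
  have heq := Finset.eq_of_subset_of_card_le hSsub hle
  have hymem : y ∈ P.roots.toFinset := by
    rw [Multiset.mem_toFinset, Polynomial.mem_roots hP0, Polynomial.IsRoot.def, hP]
    simp only [eval_sub, eval_pow, eval_X]
    rw [hy, sub_self]
  rw [← heq, Finset.mem_image] at hymem
  obtain ⟨a, _, ha⟩ := hymem
  exact ⟨a, ha⟩

theorem part2 (d : ℕ) (hd : 1 ≤ d) :
    ∃ g : (GL (Fin d) F ⧸ Subgroup.center (GL (Fin d) F)),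
      (Fintype.card F - 1) * orderOf g = Fintype.card F ^ d - 1 := by
  classical
  haveI : NeZero d := ⟨by omega⟩
  have hq1 : 1 < Fintype.card F := Fintype.one_lt_card
  set q := Fintype.card F with hq
  let p := ringChar F
  haveI : CharP F p := ringChar.charP F
  haveI : Fact p.Prime := ⟨CharP.char_is_prime F p⟩
  let K := FiniteField.Extension F p d
  have hfr : Module.finrank F K = d := FiniteField.finrank_extension F p d
  have hcK : Nat.card K = q ^ d := by
    rw [FiniteField.natCard_extension, Nat.card_eq_fintype_card]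
  obtain ⟨ζ, hζ⟩ := IsCyclic.exists_generator (α := Kˣ)
  have hζo : orderOf ζ = q ^ d - 1 := by
    rw [orderOf_eq_card_of_forall_mem_zpowers hζ, Nat.card_units, hcK]
  have hdvd : q - 1 ∣ q ^ d - 1 := Nat.sub_one_dvd_pow_sub_one q d
  obtain ⟨r₀, hr₀⟩ := hdvd
  let b : Module.Basis (Fin d) F K := Module.finBasisOfFinrankEq F K hfr
  let φ := Algebra.leftMulMatrix b
  have hφinj : Function.Injective φ := Algebra.leftMulMatrix_injective b
  let M : GL (Fin d) F := Units.map (φ : K →* Matrix (Fin d) (Fin d) F) ζ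
  have hMk : ∀ k : ℕ, ((M ^ k : GL (Fin d) F) : Matrix (Fin d) (Fin d) F) = φ ((ζ : K) ^ k) := by
    intro k
    rw [Units.val_pow_eq_pow_val, map_pow]
    rfl
  -- central iff in base field
  have hcent : ∀ k : ℕ, M ^ k ∈ Subgroup.center (GL (Fin d) F) ↔
      ∃ a : F, algebraMap F K a = (ζ : K) ^ k := by
    intro k
    rw [Matrix.GeneralLinearGroup.mem_center_iff_val_mem_range_scalar, hMk]
    constructor
    · rintro ⟨a, ha⟩
      refine ⟨a, hφinj ?_⟩
      rw [AlgHom.commutes, ← ha]
      rfl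
    · rintro ⟨a, ha⟩
      refine ⟨a, ?_⟩
      rw [← ha, AlgHom.commutes]
      rfl
  refine ⟨(M : GL (Fin d) F ⧸ Subgroup.center (GL (Fin d) F)), ?_⟩
  set n := orderOf (M : GL (Fin d) F ⧸ Subgroup.center (GL (Fin d) F)) with hn
  apply Nat.dvd_antisymm
  · -- n ∣ r₀
    have h1 : n ∣ r₀ := by
      apply orderOf_dvd_of_pow_eq_one
      rw [← QuotientGroup.mk_pow, QuotientGroup.eq_one_iff, hcent]
      apply mem_range_of_pow_card
      have h2 : ((ζ : K) ^ r₀) ^ (q - 1) = 1 := by
        rw [← pow_mul, mul_comm, ← hr₀, ← hζo, ← Units.val_pow_eq_pow_val, pow_orderOf_eq_one,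
          Units.val_one]
      have h3 : q = (q - 1) + 1 := by omega
      rw [← hq]
      conv_lhs => rw [h3, pow_succ, h2, one_mul]
    rw [hr₀]
    exact Nat.mul_dvd_mul_left _ h1
  · -- q^d - 1 ∣ (q-1) n
    have h1 : M ^ n ∈ Subgroup.center (GL (Fin d) F) := by
      rw [← QuotientGroup.eq_one_iff, QuotientGroup.mk_pow, hn, pow_orderOf_eq_one]
    rw [hcent] at h1
    obtain ⟨a, ha⟩ := h1
    have ha0 : a ≠ 0 := by
      rintro rfl
      rw [map_zero] at ha
      have : ((ζ ^ n : Kˣ) : K) = 0 := by rw [Units.val_pow_eq_pow_val]; exact ha.symm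
      exact (Units.ne_zero _) this
    have h2 : ζ ^ (n * (q - 1)) = 1 := by
      apply Units.ext
      rw [Units.val_pow_eq_pow_val, pow_mul, ← ha, ← map_pow, hq,
        FiniteField.pow_card_sub_one_eq_one a ha0, map_one, Units.val_one]
    have := orderOf_dvd_of_pow_eq_one h2
    rw [hζo, mul_comm] at this
    exact this

end part2

theorem result {F : Type*} [Field F] [Fintype F] (d : ℕ) (hd : 1 ≤ d) :
    (∀ g : (GL (Fin d) F ⧸ Subgroup.center (GL (Fin d) F)), (Fintype.card F - 1) * orderOf g ≤ Fintype.card F ^ d - 1) ∧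
    (∃ g : (GL (Fin d) F ⧸ Subgroup.center (GL (Fin d) F)), (Fintype.card F - 1) * orderOf g = Fintype.card F ^ d - 1) :=
  ⟨fun g => part1 d hd g, part2 d hd⟩

end Cfsg.Agent.S2261
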