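import Mathlib
import Cfsg.Statements.S0306
import Cfsg.Agent.Lib.Helper11.AnisoGroup

set_option autoImplicit false
open Cfsg

namespace Cfsg.Agent.S0306

/-- GO^-_2(q) is dihedral of order 2(q+1). -/
theorem result {F : Type*} [Field F] [Fintype F] {q : ℕ} (hF : Fintype.card F = q) (a b : F) (hab : ∀ z₁ z₂ : F, z₁ ^ 2 + a * z₁ * z₂ + b * z₂ ^ 2 = 0 → z₁ = 0 ∧ z₂ = 0) : Nonempty (Cfsg.isometryGroup F (Cfsg.quadFormMinus 0 F a b) ≃* DihedralGroup (q + 1)) := by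
  subst hF
  obtain ⟨ψ⟩ := Cfsg.Agent.Helper11.Aniso.nonempty_dihedral a b hab
  have hQ : Cfsg.quadFormMinus 0 F a b = fun v : (Fin 0 ⊕ Fin 0) ⊕ Fin 2 → F =>
      Cfsg.Agent.Helper11.Aniso.Q2 a b (v ∘ (Equiv.emptySum (Fin 0 ⊕ Fin 0) (Fin 2)).symm) := by
    funext v
    unfold Cfsg.quadFormMinus Cfsg.Agent.Helper11.Aniso.Q2
    rw [Finset.univ_eq_empty, Finset.sum_empty, zero_add]
    rfl
  rw [hQ]
  obtain ⟨χ⟩ := Cfsg.Agent.Helper11.Aniso.nonempty_iso_reindex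
    (Equiv.emptySum (Fin 0 ⊕ Fin 0) (Fin 2)) (Cfsg.Agent.Helper11.Aniso.Q2 a b)
  exact ⟨χ.trans ψ⟩

end Cfsg.Agent.S0306
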