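import Mathlib
import Cfsg.Statements.S0255
import Cfsg.Agent.Lib.Helper2.PSL27
import Cfsg.Agent.Lib.Helper2.PSLMapEquiv

set_option autoImplicit false
open Cfsg

namespace Cfsg.Agent.S0255

/-- PSL_2(7) is isomorphic to PSL_3(2). -/
theorem result {F K : Type*} [Field F] [Fintype F] [Field K] [Fintype K] (hF : Fintype.card F = 7) (hK : Fintype.card K = 2) : Nonempty (Matrix.ProjectiveSpecialLinearGroup (Fin 2) F ≃* Matrix.ProjectiveSpecialLinearGroup (Fin 3) K) := by
  have e7 : ZMod 7 ≃+* F := ZMod.ringEquivOfPrime F (by norm_num) hF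
  have e2 : ZMod 2 ≃+* K := ZMod.ringEquivOfPrime K Nat.prime_two hK
  exact ⟨((Cfsg.Agent.Helper2.pslMapEquiv e7).symm.trans
    Cfsg.Agent.Helper2.P27.psl27Equiv).trans (Cfsg.Agent.Helper2.pslMapEquiv e2)⟩

end Cfsg.Agent.S0255
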