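import Mathlib
import Cfsg.Statements.S1003
import Cfsg.Agent.Lib.Lead.SylowTools
import Cfsg.Agent.Lib.Lead.SimpleTools

set_option autoImplicit false
open Pointwise
open Cfsg

namespace Cfsg.Agent.S1003

variable {G : Type*} [Group G] [Finite G]

/-- an element of order `p` in a subgroup whose order is divisible by `p`, with the Sylow subgroup
of order `p` it generates -/
theorem exists_sylow_le_of_prime_dvd {p m : ℕ} [Fact p.Prime] (hcard : Nat.card G = p ^ 1 * m)
    (hm : ¬ p ∣ m) (H : Subgroup G) (hH : p ∣ Nat.card H) :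
    ∃ Q : Sylow p G, (Q : Subgroup G) ≤ H := by
  obtain ⟨x, hx⟩ := exists_prime_orderOf_dvd_card' (G := H) p hH
  have hxG : orderOf (x : G) = p := by rw [Subgroup.orderOf_coe, hx]
  have hz : IsPGroup p (Subgroup.zpowers (x : G)) := by
    apply IsPGroup.of_card (n := 1)
    rw [Nat.card_zpowers, hxG, pow_one]
  obtain ⟨Q, hQ⟩ := hz.exists_le_sylow
  refine ⟨Q, ?_⟩
  have hQc := (Cfsg.Agent.Lead.sylow_facts hcard hm).1 Q
  have heq : Subgroup.zpowers (x : G) = (Q : Subgroup G) := by
    apply Subgroup.eq_of_le_of_card_ge hQ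
    rw [hQc, Nat.card_zpowers, hxG, pow_one]
  rw [← heq, Subgroup.zpowers_le]
  exact x.2

theorem n7 [IsSimpleGroup G] (h : Nat.card G = 168) : Nat.card (Sylow 7 G) = 8 := by
  have hG : ∃ x y : G, x * y ≠ y * x :=
    Cfsg.Agent.Lead.nonabelian_of_not_prime (by rw [h]; norm_num)
  haveI : Fact (Nat.Prime 7) := ⟨by norm_num⟩
  obtain ⟨-, hdvd, hmod⟩ := Cfsg.Agent.Lead.sylow_facts (G := G) (p := 7) (k := 1) (m := 24)
    (by rw [h]; norm_num) (by norm_num)
  have hfac := Cfsg.Agent.Lead.card_dvd_factorial_card_sylow hG (p := 7) (by rw [h]; norm_num)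
  rw [h] at hfac
  set n := Nat.card (Sylow 7 G) with hn
  have hle : n ≤ 24 := Nat.le_of_dvd (by norm_num) hdvd
  have : n = 1 ∨ n = 8 ∨ n = 15 ∨ n = 22 := by omega
  rcases this with h1 | h1 | h1 | h1
  · exfalso; rw [h1] at hfac; revert hfac; decide
  · exact h1
  · exfalso; rw [h1] at hdvd; revert hdvd; decide
  · exfalso; rw [h1] at hdvd; revert hdvd; decide

theorem n3_cases [IsSimpleGroup G] (h : Nat.card G = 168) :
    Nat.card (Sylow 3 G) = 7 ∨ Nat.card (Sylow 3 G) = 28 := by
  have hG : ∃ x y : G, x * y ≠ y * x :=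
    Cfsg.Agent.Lead.nonabelian_of_not_prime (by rw [h]; norm_num)
  haveI : Fact (Nat.Prime 3) := ⟨by norm_num⟩
  obtain ⟨-, hdvd, hmod⟩ := Cfsg.Agent.Lead.sylow_facts (G := G) (p := 3) (k := 1) (m := 56)
    (by rw [h]; norm_num) (by norm_num)
  have hfac := Cfsg.Agent.Lead.card_dvd_factorial_card_sylow hG (p := 3) (by rw [h]; norm_num)
  rw [h] at hfac
  set n := Nat.card (Sylow 3 G) with hn
  have hle : n ≤ 56 := Nat.le_of_dvd (by norm_num) hdvd
  have h4 : n ≠ 4 := by
    intro h1; rw [h1] at hfac; revert hfac; decide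
  have h1 : n ≠ 1 := by
    intro h1; rw [h1] at hfac; revert hfac; decide
  obtain ⟨c, hc⟩ := hdvd
  have hc56 : c ≤ 56 := by
    rcases Nat.eq_zero_or_pos n with h0 | h0
    · rw [h0] at hc; omega
    · nlinarith
  interval_cases c <;> omega

theorem n2_cases [IsSimpleGroup G] (h : Nat.card G = 168) :
    Nat.card (Sylow 2 G) = 7 ∨ Nat.card (Sylow 2 G) = 21 := by
  have hG : ∃ x y : G, x * y ≠ y * x :=
    Cfsg.Agent.Lead.nonabelian_of_not_prime (by rw [h]; norm_num)
  obtain ⟨-, hdvd, hmod⟩ := Cfsg.Agent.Lead.sylow_facts (G := G) (p := 2) (k := 3) (m := 21)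
    (by rw [h]; norm_num) (by norm_num)
  have hfac := Cfsg.Agent.Lead.card_dvd_factorial_card_sylow hG (p := 2) (by rw [h]; norm_num)
  rw [h] at hfac
  set n := Nat.card (Sylow 2 G) with hn
  have hle : n ≤ 21 := Nat.le_of_dvd (by norm_num) hdvd
  have h3 : n ≠ 3 := by
    intro h1; rw [h1] at hfac; revert hfac; decide
  have h1 : n ≠ 1 := by
    intro h1; rw [h1] at hfac; revert hfac; decide
  obtain ⟨c, hc⟩ := hdvd
  have hc21 : c ≤ 21 := by
    rcases Nat.eq_zero_or_pos n with h0 | h0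
    · rw [h0] at hc; omega
    · nlinarith
  interval_cases c <;> omega

theorem n3 [IsSimpleGroup G] (h : Nat.card G = 168) : Nat.card (Sylow 3 G) = 28 := by
  rcases n3_cases h with h7 | h28
  swap
  · exact h28
  exfalso
  have hG : ∃ x y : G, x * y ≠ y * x :=
    Cfsg.Agent.Lead.nonabelian_of_not_prime (by rw [h]; norm_num)
  haveI : Fact (Nat.Prime 7) := ⟨by norm_num⟩
  haveI : Fact (Nat.Prime 3) := ⟨by norm_num⟩
  obtain ⟨hc7, -, -⟩ := Cfsg.Agent.Lead.sylow_facts (G := G) (p := 7) (k := 1) (m := 24)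
    (by rw [h]; norm_num) (by norm_num)
  obtain ⟨hc3, -, -⟩ := Cfsg.Agent.Lead.sylow_facts (G := G) (p := 3) (k := 1) (m := 56)
    (by rw [h]; norm_num) (by norm_num)
  obtain ⟨P⟩ : Nonempty (Sylow 7 G) := inferInstance
  set M := Subgroup.normalizer ((P : Subgroup G) : Set G) with hM
  have hMcard : Nat.card M = 21 := by
    have hmul : Nat.card (Sylow 7 G) * Nat.card M = Nat.card G :=
      Cfsg.Agent.Lead.card_sylow_mul_card_normalizer P
    rw [n7 h, h] at hmul
    omega
  obtain ⟨Q, hQM⟩ := exists_sylow_le_of_prime_dvd (G := G) (p := 3) (m := 56) (by rw [h]; norm_num)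
    (by norm_num) M (by rw [hMcard]; norm_num)
  have hNQ : Nat.card (Subgroup.normalizer ((Q : Subgroup G) : Set G)) = 24 := by
    have := Cfsg.Agent.Lead.card_sylow_mul_card_normalizer Q
    rw [h7, h] at this
    omega
  -- P ∩ N(Q) is trivial
  have htriv : (P : Subgroup G) ⊓ Subgroup.normalizer ((Q : Subgroup G) : Set G) = ⊥ := by
    rw [← Subgroup.card_eq_one]
    have h1 : Nat.card ((P : Subgroup G) ⊓ Subgroup.normalizer ((Q : Subgroup G) : Set G) : Subgroup G)
        ∣ 7 := by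
      have := Subgroup.card_dvd_of_le (inf_le_left :
        (P : Subgroup G) ⊓ Subgroup.normalizer ((Q : Subgroup G) : Set G) ≤ (P : Subgroup G))
      rwa [hc7 P] at this
    have h2 : Nat.card ((P : Subgroup G) ⊓ Subgroup.normalizer ((Q : Subgroup G) : Set G) : Subgroup G)
        ∣ 24 := by
      have := Subgroup.card_dvd_of_le (inf_le_right :
        (P : Subgroup G) ⊓ Subgroup.normalizer ((Q : Subgroup G) : Set G) ≤
          Subgroup.normalizer ((Q : Subgroup G) : Set G))
      rwa [hNQ] at this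
    have h3 := Nat.dvd_gcd h1 h2
    have h4 : Nat.gcd 7 24 = 1 := by norm_num
    rw [h4] at h3
    exact Nat.dvd_one.1 h3
  -- the map P → Sylow 3 G is injective hence bijective
  let f : ↥(P : Subgroup G) → Sylow 3 G := fun y => (y : G) • Q
  have hinj : Function.Injective f := by
    intro y y' hyy
    have h1 : ((y' : G)⁻¹ * (y : G)) • Q = Q := by
      rw [mul_smul]
      show (y' : G)⁻¹ • f y = Q
      rw [hyy]
      show (y' : G)⁻¹ • ((y' : G) • Q) = Q
      rw [inv_smul_smul]
    rw [Sylow.smul_eq_iff_mem_normalizer] at h1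
    have h2 : (y' : G)⁻¹ * (y : G) ∈ (P : Subgroup G) ⊓
        Subgroup.normalizer ((Q : Subgroup G) : Set G) :=
      Subgroup.mem_inf.2 ⟨(P : Subgroup G).mul_mem ((P : Subgroup G).inv_mem y'.2) y.2, h1⟩
    rw [htriv, Subgroup.mem_bot] at h2
    apply Subtype.ext
    have : (y : G) = (y' : G) := by
      calc (y : G) = (y' : G) * ((y' : G)⁻¹ * (y : G)) := by group
        _ = (y' : G) := by rw [h2, mul_one]
    exact this
  have hbij := hinj.bijective_of_nat_card_le (by rw [h7, hc7 P, pow_one])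
  -- so every conjugate of Q is in M
  have hQne : (Q : Subgroup G) ≠ ⊥ := by
    intro hb
    have := hc3 Q
    rw [hb, Subgroup.card_bot] at this
    omega
  have hMne : M ≠ ⊤ := by
    intro ht
    rw [ht, Subgroup.card_top, h] at hMcard
    omega
  obtain ⟨g, hg⟩ := Cfsg.Agent.Lead.exists_conj_not_le (Q : Subgroup G) M hQne hMne
  apply hg
  obtain ⟨y, hy⟩ := hbij.2 (g • Q)
  have hy' : MulAut.conj (y : G) • (Q : Subgroup G) = MulAut.conj g • (Q : Subgroup G) := by
    have := congrArg (fun S : Sylow 3 G => (S : Subgroup G)) hy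
    simpa [f, Sylow.smul_def, Sylow.pointwise_smul_def] using this
  rw [← hy']
  intro z hz
  rw [Cfsg.Agent.Lead.mem_conj_smul'] at hz
  have hyM : (y : G) ∈ M := Subgroup.le_normalizer y.2
  have := M.mul_mem (M.mul_mem hyM (hQM hz)) (M.inv_mem hyM)
  have e : (y : G) * ((y : G)⁻¹ * z * (y : G)) * (y : G)⁻¹ = z := by group
  rwa [e] at this

theorem n2 [IsSimpleGroup G] (h : Nat.card G = 168) : Nat.card (Sylow 2 G) = 21 := by
  rcases n2_cases h with h7 | h21
  swap
  · exact h21
  exfalso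
  have hG : ∃ x y : G, x * y ≠ y * x :=
    Cfsg.Agent.Lead.nonabelian_of_not_prime (by rw [h]; norm_num)
  haveI : Fact (Nat.Prime 3) := ⟨by norm_num⟩
  obtain ⟨hc2, -, -⟩ := Cfsg.Agent.Lead.sylow_facts (G := G) (p := 2) (k := 3) (m := 21)
    (by rw [h]; norm_num) (by norm_num)
  obtain ⟨hc3, -, -⟩ := Cfsg.Agent.Lead.sylow_facts (G := G) (p := 3) (k := 1) (m := 56)
    (by rw [h]; norm_num) (by norm_num)
  obtain ⟨T⟩ : Nonempty (Sylow 2 G) := inferInstance
  set H := Subgroup.normalizer ((T : Subgroup G) : Set G) with hH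
  have hHcard : Nat.card H = 24 := by
    have hmul : Nat.card (Sylow 2 G) * Nat.card H = Nat.card G :=
      Cfsg.Agent.Lead.card_sylow_mul_card_normalizer T
    rw [h7, h] at hmul
    omega
  obtain ⟨Q, hQH⟩ := exists_sylow_le_of_prime_dvd (G := G) (p := 3) (m := 56) (by rw [h]; norm_num)
    (by norm_num) H (by rw [hHcard]; norm_num)
  obtain ⟨t, htT, ht1, htc⟩ := Cfsg.Agent.Lead.exists_ne_one_fixed_of_pgroup (p := 3)
    (Q : Subgroup G) (T : Subgroup G) Q.2 hQH (by rw [hc2 T]; norm_num)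
  have hNQ : Nat.card (Subgroup.normalizer ((Q : Subgroup G) : Set G)) = 6 := by
    have := Cfsg.Agent.Lead.card_sylow_mul_card_normalizer Q
    rw [n3 h, h] at this
    omega
  set C := Subgroup.centralizer ((Q : Subgroup G) : Set G) with hC
  have hCN : C ≤ Subgroup.normalizer ((Q : Subgroup G) : Set G) :=
    Subgroup.centralizer_le_normalizer _
  have htC : t ∈ C := by
    rw [hC, Subgroup.mem_centralizer_iff]
    intro q hq
    exact htc q hq
  have hQC : (Q : Subgroup G) ≤ C := by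
    haveI : IsCyclic (Q : Subgroup G) := isCyclic_of_prime_card (p := 3) (by rw [hc3 Q]; norm_num)
    intro x hx
    rw [hC, Subgroup.mem_centralizer_iff]
    intro y hy
    obtain ⟨g, hg⟩ := IsCyclic.exists_generator (α := (Q : Subgroup G))
    obtain ⟨m, hm⟩ := Subgroup.mem_zpowers_iff.1 (hg ⟨x, hx⟩)
    obtain ⟨n, hn⟩ := Subgroup.mem_zpowers_iff.1 (hg ⟨y, hy⟩)
    have hx' : x = (g : G) ^ m := by rw [← Subgroup.coe_zpow, hm]
    have hy' : y = (g : G) ^ n := by rw [← Subgroup.coe_zpow, hn]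
    rw [hx', hy', ← zpow_add, ← zpow_add, add_comm]
  -- |C| divisible by 3 and 2, divides 6
  have hC6 : Nat.card C ∣ 6 := by
    have := Subgroup.card_dvd_of_le hCN
    rwa [hNQ] at this
  have hC3 : 3 ∣ Nat.card C := by
    have := Subgroup.card_dvd_of_le hQC
    rwa [hc3 Q] at this
  have hC2 : 2 ∣ Nat.card C := by
    have ho : orderOf t ∣ 2 ^ 3 := by
      have h0 := pow_card_eq_one' (G := ↥(T : Subgroup G)) (x := ⟨t, htT⟩)
      rw [hc2 T] at h0
      apply orderOf_dvd_of_pow_eq_one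
      have := congrArg Subtype.val h0
      simpa using this
    obtain ⟨k, hk, hk'⟩ := (Nat.dvd_prime_pow Nat.prime_two).1 ho
    have hk0 : k ≠ 0 := by
      rintro rfl
      rw [pow_zero, orderOf_eq_one_iff] at hk'
      exact ht1 hk'
    have h2 : 2 ∣ orderOf t := by
      rw [hk']
      exact dvd_pow_self 2 hk0
    have h3 : orderOf t ∣ Nat.card C := by
      have := orderOf_dvd_natCard (⟨t, htC⟩ : C)
      rwa [Subgroup.orderOf_mk] at this
    exact h2.trans h3
  have hCcard : Nat.card C = 6 := by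
    have hle : Nat.card C ≤ 6 := Nat.le_of_dvd (by norm_num) hC6
    have hpos : 0 < Nat.card C := Nat.card_pos
    interval_cases (Nat.card C) <;> omega
  have hNC : Subgroup.normalizer ((Q : Subgroup G) : Set G) ≤ C := by
    have := Subgroup.eq_of_le_of_card_ge hCN (by rw [hNQ, hCcard])
    rw [this]
  exact Cfsg.Agent.S0073.not_normalizer_le_centralizer hG Q (by rw [h]; norm_num) hNC

/-- In a finite simple group of order 168 the numbers of Sylow 2-, 3- and 7-subgroups are 21, 28 and 8. -/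
theorem result {G : Type*} [Group G] [Finite G] [IsSimpleGroup G] (h : Nat.card G = 168) : Nat.card (Sylow 2 G) = 21 ∧ Nat.card (Sylow 3 G) = 28 ∧ Nat.card (Sylow 7 G) = 8 :=
  ⟨n2 h, n3 h, n7 h⟩

end Cfsg.Agent.S1003
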