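import Mathlib
import Cfsg.Statements.S1004
import Cfsg.Agent.Lib.Lead.Order168

set_option autoImplicit false
set_option linter.style.haveILetI false
open Pointwise
open Cfsg

namespace Cfsg.Agent.S1004

open Cfsg.Agent.Lead Cfsg.Agent.Lead.O168

variable {G : Type*} [Group G] [Finite G]

/-- distinct Sylow subgroups of prime order meet trivially -/
theorem inf_eq_bot_of_prime_card {p : ℕ} [Fact p.Prime]
    (hcard : ∀ P : Sylow p G, Nat.card (P : Subgroup G) = p) (P P' : Sylow p G) (hne : P ≠ P') :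
    (P : Subgroup G) ⊓ (P' : Subgroup G) = ⊥ := by
  have hpp : p.Prime := Fact.out
  have h1 : Nat.card ((P : Subgroup G) ⊓ (P' : Subgroup G) : Subgroup G) ∣ p := by
    have := Subgroup.card_dvd_of_le (inf_le_left : (P : Subgroup G) ⊓ (P' : Subgroup G) ≤ P)
    rwa [hcard P] at this
  rcases (Nat.dvd_prime hpp).1 h1 with h | h
  · exact Subgroup.card_eq_one.1 h
  · exfalso
    apply hne
    have e1 : (P : Subgroup G) ⊓ (P' : Subgroup G) = (P : Subgroup G) :=
      Subgroup.eq_of_le_of_card_ge inf_le_left (by rw [h, hcard P])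
    have e2 : (P : Subgroup G) ⊓ (P' : Subgroup G) = (P' : Subgroup G) :=
      Subgroup.eq_of_le_of_card_ge inf_le_right (by rw [h, hcard P'])
    exact Sylow.ext (e1.symm.trans e2)

/-- the quaternion-like alternative for a Sylow 2-subgroup, stated inside `G` -/
def QLike (T : Subgroup G) : Prop :=
  ∃ z ∈ T, z ≠ 1 ∧ ∀ x ∈ T, x ≠ 1 → z ∈ Subgroup.zpowers x

theorem dihedral_or_qlike [IsSimpleGroup G] (h : Nat.card G = 168) (T : Sylow 2 G) :
    Nonempty (↥(T : Subgroup G) ≃* DihedralGroup 4) ∨ QLike (T : Subgroup G) := by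
  rcases order8_nonabelian (T := ↥(T : Subgroup G)) (card_sylow2 h T) (sylow2_nonabelian h T) with
    h1 | ⟨z, hz1, hz⟩
  · left; exact h1
  · right
    refine ⟨(z : G), z.2, fun hh => hz1 (Subtype.ext hh), ?_⟩
    intro x hx hx1
    have := hz ⟨x, hx⟩ (fun hh => hx1 (congrArg Subtype.val hh))
    obtain ⟨k, hk⟩ := Subgroup.mem_zpowers_iff.1 this
    rw [Subgroup.mem_zpowers_iff]
    refine ⟨k, ?_⟩
    have := congrArg Subtype.val hk
    simpa using this

theorem qlike_TI [IsSimpleGroup G] (h : Nat.card G = 168)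
    (hq : ∀ T : Sylow 2 G, QLike (T : Subgroup G)) (T T' : Sylow 2 G) (hne : T ≠ T') :
    (T : Subgroup G) ⊓ (T' : Subgroup G) = ⊥ := by
  rw [eq_bot_iff]
  intro x hx
  rw [Subgroup.mem_bot]
  by_contra hx1
  obtain ⟨hxT, hxT'⟩ := Subgroup.mem_inf.1 hx
  obtain ⟨z, hzT, hz1, hz⟩ := hq T
  obtain ⟨z', hzT', hz1', hz'⟩ := hq T'
  -- z' ^ 2 = 1
  have hsq : ∀ (S : Sylow 2 G) (w : G), w ∈ (S : Subgroup G) → w ≠ 1 →
      (∀ x ∈ (S : Subgroup G), x ≠ 1 → w ∈ Subgroup.zpowers x) → w ^ 2 = 1 := by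
    intro S w hwS hw1 hw
    by_contra hne2
    have h1 := hw (w ^ 2) ((S : Subgroup G).pow_mem hwS 2) hne2
    obtain ⟨k, hk⟩ := Subgroup.mem_zpowers_iff.1 h1
    -- w = w^(2k) so w^(2k-1) = 1
    have h2 : w ^ (2 * k - 1) = 1 := by
      have : (w ^ 2) ^ k = w ^ (2 * k) := by rw [← zpow_natCast, ← zpow_mul]; norm_num
      rw [this] at hk
      rw [zpow_sub, zpow_one, hk, mul_inv_cancel]
    have h3 : (orderOf w : ℤ) ∣ 2 * k - 1 := orderOf_dvd_iff_zpow_eq_one.2 h2
    have h4 : orderOf w ∣ 8 := by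
      apply orderOf_dvd_of_pow_eq_one
      have h0 := pow_card_eq_one' (G := ↥(S : Subgroup G)) (x := ⟨w, hwS⟩)
      rw [card_sylow2 h S] at h0
      have := congrArg Subtype.val h0
      simpa using this
    have h5 : orderOf w ≠ 1 := fun hh => hw1 (orderOf_eq_one_iff.1 hh)
    have h6 : 2 ∣ orderOf w := by
      have : orderOf w ∣ 2 ^ 3 := h4
      obtain ⟨j, hj, hj'⟩ := (Nat.dvd_prime_pow Nat.prime_two).1 this
      rcases j with _ | j
      · rw [pow_zero] at hj'; exact absurd hj' h5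
      · rw [hj']; exact dvd_pow_self 2 (Nat.succ_ne_zero j)
    have h7 : (2 : ℤ) ∣ 2 * k - 1 := by
      have : ((2 : ℕ) : ℤ) ∣ (orderOf w : ℤ) := Int.natCast_dvd_natCast.2 h6
      exact this.trans h3
    omega
  have hz'sq := hsq T' z' hzT' hz1' hz'
  -- z' ∈ zpowers x ⊆ T
  have hz'x : z' ∈ Subgroup.zpowers x := hz' x hxT' hx1
  have hz'T : z' ∈ (T : Subgroup G) := by
    have : Subgroup.zpowers x ≤ (T : Subgroup G) := by
      rw [Subgroup.zpowers_le]; exact hxT
    exact this hz'x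
  -- z ∈ zpowers z' = {1, z'}
  have hzz' : z ∈ Subgroup.zpowers z' := hz z' hz'T hz1'
  have hzeq : z = z' := by
    obtain ⟨k, hk⟩ := Subgroup.mem_zpowers_iff.1 hzz'
    rcases Int.even_or_odd' k with ⟨j, hj | hj⟩
    · exfalso
      apply hz1
      rw [← hk, hj, zpow_mul, zpow_ofNat, hz'sq, one_zpow]
    · rw [← hk, hj, zpow_add, zpow_mul, zpow_ofNat, hz'sq, one_zpow, one_mul, zpow_one]
  -- z central in both
  have hcen : ∀ (S : Sylow 2 G) (w : G), w ≠ 1 →
      (∀ x ∈ (S : Subgroup G), x ≠ 1 → w ∈ Subgroup.zpowers x) →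
      ∀ t ∈ (S : Subgroup G), t * w = w * t := by
    intro S w hw1 hw t ht
    by_cases ht1 : t = 1
    · rw [ht1, one_mul, mul_one]
    · obtain ⟨k, hk⟩ := Subgroup.mem_zpowers_iff.1 (hw t ht ht1)
      rw [← hk]
      exact ((Commute.refl t).zpow_right k).eq
  have hC1 := centralizer_central_elt h T hzT hz1 (hcen T z hz1 hz)
  have hC2 := centralizer_central_elt h T' (hzeq ▸ hzT') hz1 (hcen T' z hz1 (hzeq ▸ hz'))
  exact hne (Sylow.ext (hC1.symm.trans hC2))

theorem sylow2_dihedral [IsSimpleGroup G] (h : Nat.card G = 168) (T : Sylow 2 G) :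
    Nonempty (↥(T : Subgroup G) ≃* DihedralGroup 4) := by
  by_cases hex : ∃ T' : Sylow 2 G, Nonempty (↥(T' : Subgroup G) ≃* DihedralGroup 4)
  · obtain ⟨T', ⟨e⟩⟩ := hex
    exact ⟨(Sylow.equiv T T').trans e⟩
  · exfalso
    push Not at hex
    have hq : ∀ T' : Sylow 2 G, QLike (T' : Subgroup G) := by
      intro T'
      rcases dihedral_or_qlike h T' with h1 | h1
      · exact absurd h1 (not_nonempty_iff.2 (hex T'))
      · exact h1
    haveI : Fact (Nat.Prime 7) := ⟨by norm_num⟩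
    have c2 := card_ge_of_TI (G := G) (p := 2) 8 (card_sylow2 h) (qlike_TI h hq)
    have c7 := card_ge_of_TI (G := G) (p := 7) 7 (card_sylow7 h)
      (inf_eq_bot_of_prime_card (card_sylow7 h))
    have ctot := card_add_card_add_one_le (G := G) 8 7 (by decide)
    rw [Cfsg.Agent.S1003.n2 h] at c2
    rw [Cfsg.Agent.S1003.n7 h] at c7
    rw [h] at ctot
    omega

/-- In a finite simple group of order 168, a Sylow 2-subgroup T is dihedral of order 8, equals its own normalizer, and equals the centralizer of its central involution z (any non-identity element of T commuting with all of T). -/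
theorem result {G : Type*} [Group G] [Finite G] [IsSimpleGroup G] (h : Nat.card G = 168) (T : Sylow 2 G) : Nonempty (↥(T : Subgroup G) ≃* DihedralGroup 4) ∧ Subgroup.normalizer ((T : Subgroup G) : Set G) = T ∧ ∀ z : G, z ∈ (T : Subgroup G) → z ≠ 1 → (∀ t ∈ (T : Subgroup G), t * z = z * t) → Subgroup.centralizer ({z} : Set G) = T :=
  ⟨sylow2_dihedral h T, normalizer2 h T, fun _ hzT hz1 hzc => centralizer_central_elt h T hzT hz1 hzc⟩

end Cfsg.Agent.S1004
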