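import Mathlib
import Cfsg.Statements.S1005
import Cfsg.Agent.S1004
import Cfsg.Agent.Lib.Lead.ConjCount

set_option autoImplicit false
set_option linter.style.haveILetI false
open Pointwise
open Cfsg

namespace Cfsg.Agent.S1005

open Cfsg.Agent.Lead Cfsg.Agent.Lead.O168

variable {G : Type*} [Group G] [Finite G]

theorem d4_sq_central : ∀ x t : DihedralGroup 4, x ^ 2 ≠ 1 → t * x ^ 2 = x ^ 2 * t := by decide

theorem d4_card_sq_ne : Fintype.card {x : DihedralGroup 4 // x ^ 2 ≠ 1} = 2 := by decide

theorem d4_center : (DihedralGroup.r 2 : DihedralGroup 4) ≠ 1 ∧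
    (DihedralGroup.r 2 : DihedralGroup 4) ^ 2 = 1 ∧
    ∀ t : DihedralGroup 4, t * DihedralGroup.r 2 = DihedralGroup.r 2 * t := by decide

/-- orders of elements divide by a prime `p ∈ {3, 7}` only if equal to it -/
theorem orderOf_eq_of_dvd [IsSimpleGroup G] (h : Nat.card G = 168) (g : G) (p : ℕ)
    (hp : p = 3 ∨ p = 7) (hd : p ∣ orderOf g) : orderOf g = p := by
  have hpos : 0 < orderOf g := orderOf_pos g
  obtain ⟨y, hydef⟩ : ∃ y, y = g ^ (orderOf g / p) := ⟨_, rfl⟩
  have hy : orderOf y = p := by rw [hydef]; exact orderOf_pow_orderOf_div hpos.ne' hd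
  have hc : Commute g y := by rw [hydef]; exact (Commute.refl g).pow_right _
  have hm : g ∈ Subgroup.zpowers y := by
    rcases hp with rfl | rfl
    · exact mem_zpowers_of_commute3 h hy hc
    · exact mem_zpowers_of_commute7 h hy hc
  obtain ⟨k, hk⟩ := Subgroup.mem_zpowers_iff.1 hm
  have hyp : y ^ p = 1 := by rw [← hy]; exact pow_orderOf_eq_one y
  have hgp : g ^ p = 1 := by
    calc g ^ p = (y ^ k) ^ p := by rw [hk]
      _ = 1 := by
        rw [← zpow_natCast, ← zpow_mul, mul_comm, zpow_mul, zpow_natCast, hyp, one_zpow]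
  exact Nat.dvd_antisymm (orderOf_dvd_of_pow_eq_one hgp) hd

theorem orderOf_mem [IsSimpleGroup G] (h : Nat.card G = 168) (g : G) :
    orderOf g = 1 ∨ orderOf g = 2 ∨ orderOf g = 3 ∨ orderOf g = 4 ∨ orderOf g = 7 := by
  have ho : orderOf g ∣ 168 := h ▸ orderOf_dvd_natCard g
  by_cases h7 : 7 ∣ orderOf g
  · right; right; right; right
    exact orderOf_eq_of_dvd h g 7 (Or.inr rfl) h7
  by_cases h3 : 3 ∣ orderOf g
  · right; right; left
    exact orderOf_eq_of_dvd h g 3 (Or.inl rfl) h3
  have h8 : orderOf g ∣ 2 ^ 3 := by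
    have c3 : Nat.Coprime (orderOf g) 3 :=
      Nat.coprime_comm.1 ((Nat.Prime.coprime_iff_not_dvd Nat.prime_three).2 h3)
    have c7 : Nat.Coprime (orderOf g) 7 :=
      Nat.coprime_comm.1 ((Nat.Prime.coprime_iff_not_dvd (by norm_num)).2 h7)
    have c21 : Nat.Coprime (orderOf g) 21 := by
      have : (21 : ℕ) = 3 * 7 := by norm_num
      rw [this]; exact Nat.Coprime.mul_right c3 c7
    have : (168 : ℕ) = 2 ^ 3 * 21 := by norm_num
    rw [this] at ho
    exact c21.dvd_of_dvd_mul_right ho
  obtain ⟨k, hk, hk'⟩ := (Nat.dvd_prime_pow Nat.prime_two).1 h8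
  interval_cases k
  · left; exact hk'
  · right; left; exact hk'
  · right; right; right; left; exact hk'
  · exfalso
    -- zpowers g would be a cyclic Sylow 2-subgroup
    have hz : IsPGroup 2 (Subgroup.zpowers g) := by
      apply IsPGroup.of_card (n := 3)
      rw [Nat.card_zpowers, hk']
    obtain ⟨T, hT⟩ := hz.exists_le_sylow
    have heq : Subgroup.zpowers g = (T : Subgroup G) := by
      apply Subgroup.eq_of_le_of_card_ge hT
      rw [card_sylow2 h T, Nat.card_zpowers, hk']; norm_num
    obtain ⟨x, y, hxy⟩ := sylow2_nonabelian h T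
    apply hxy
    apply Subtype.ext
    have hx : (x : G) ∈ Subgroup.zpowers g := by rw [heq]; exact x.2
    have hy : (y : G) ∈ Subgroup.zpowers g := by rw [heq]; exact y.2
    obtain ⟨m, hm⟩ := Subgroup.mem_zpowers_iff.1 hx
    obtain ⟨n, hn⟩ := Subgroup.mem_zpowers_iff.1 hy
    show (x : G) * (y : G) = (y : G) * (x : G)
    rw [← hm, ← hn, ← zpow_add, ← zpow_add, add_comm]

/-- the subtype of elements of prime order `p` -/
theorem card_orderOf_prime_ge {p : ℕ} [Fact p.Prime]
    (hcard : ∀ P : Sylow p G, Nat.card (P : Subgroup G) = p) :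
    Nat.card (Sylow p G) * (p - 1) ≤ Nat.card {g : G // orderOf g = p} := by
  have hpp : p.Prime := Fact.out
  have c := card_ge_of_TI (G := G) (p := p) p hcard
    (Cfsg.Agent.S1004.inf_eq_bot_of_prime_card hcard)
  refine c.trans (le_of_eq ?_)
  apply Nat.card_congr
  refine Equiv.subtypeEquivRight ?_
  intro g
  constructor
  · rintro ⟨h1, h2⟩
    exact orderOf_eq_prime h2 h1
  · intro ho
    refine ⟨?_, ?_⟩
    · intro h1
      rw [h1, orderOf_one] at ho
      exact hpp.one_lt.ne ho
    · rw [← ho]; exact pow_orderOf_eq_one g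

section

variable [IsSimpleGroup G] (h : Nat.card G = 168)
include h

theorem pow8_of_mem (T : Sylow 2 G) {x : G} (hx : x ∈ (T : Subgroup G)) : x ^ 8 = 1 := by
  have h0 := pow_card_eq_one' (G := ↥(T : Subgroup G)) (x := ⟨x, hx⟩)
  rw [card_sylow2 h T] at h0
  have := congrArg Subtype.val h0
  simpa using this

theorem orderOf_eq_four (T : Sylow 2 G) {x : G} (hx : x ∈ (T : Subgroup G)) (hx2 : x ^ 2 ≠ 1) :
    orderOf x = 4 := by
  have h8 : orderOf x ∣ 8 := orderOf_dvd_of_pow_eq_one (pow8_of_mem h T hx)
  have h2 : ¬ orderOf x ∣ 2 := fun hd => hx2 (orderOf_dvd_iff_pow_eq_one.1 hd)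
  rcases orderOf_mem h x with ho | ho | ho | ho | ho
  · rw [ho] at h2; exact absurd (one_dvd 2) h2
  · rw [ho] at h2; exact absurd (dvd_refl 2) h2
  · exfalso; rw [ho] at h8; revert h8; decide
  · exact ho
  · exfalso; rw [ho] at h8; revert h8; decide

theorem sq_central (T : Sylow 2 G) (x : ↥(T : Subgroup G)) (hx : x ^ 2 ≠ 1)
    (t : ↥(T : Subgroup G)) : t * x ^ 2 = x ^ 2 * t := by
  obtain ⟨e⟩ := Cfsg.Agent.S1004.sylow2_dihedral h T
  apply e.injective
  rw [map_mul, map_mul, map_pow]
  apply d4_sq_central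
  intro hh
  apply hx
  apply e.injective
  rw [map_pow, hh, map_one]

theorem card_sq_ne (T : Sylow 2 G) : Nat.card {x : ↥(T : Subgroup G) // x ^ 2 ≠ 1} = 2 := by
  obtain ⟨e⟩ := Cfsg.Agent.S1004.sylow2_dihedral h T
  have h1 : Nat.card {x : DihedralGroup 4 // x ^ 2 ≠ 1} = 2 := by
    rw [Nat.card_eq_fintype_card]; exact d4_card_sq_ne
  refine Eq.trans (Nat.card_congr ?_) h1
  refine e.toEquiv.subtypeEquiv ?_
  intro x
  show x ^ 2 ≠ 1 ↔ (e x) ^ 2 ≠ 1
  rw [← map_pow, Ne, Ne, MulEquiv.map_eq_one_iff]

theorem card_order4_ge : 42 ≤ Nat.card {g : G // orderOf g = 4} := by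
  classical
  haveI : Fintype (Sylow 2 G) := Fintype.ofFinite _
  let β : Sylow 2 G → Type _ := fun T => {x : ↥(T : Subgroup G) // x ^ 2 ≠ 1}
  let f : (Σ T : Sylow 2 G, β T) → {g : G // orderOf g = 4} := fun a =>
    ⟨(a.2.1 : G), orderOf_eq_four h a.1 a.2.1.2 (fun hh => a.2.2 (Subtype.ext (by simpa using hh)))⟩
  have hinj : Function.Injective f := by
    rintro ⟨T, x, hx⟩ ⟨T', x', hx'⟩ hxx
    have hval : (x : G) = (x' : G) := congrArg Subtype.val hxx
    have hTT : T = T' := by
      have hw1 : (x : G) ^ 2 ≠ 1 := fun hh => hx (Subtype.ext (by simpa using hh))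
      have c1 := centralizer_central_elt h T (z := (x : G) ^ 2)
        ((T : Subgroup G).pow_mem x.2 2) hw1 (by
          intro t ht
          have := sq_central h T x hx ⟨t, ht⟩
          have := congrArg Subtype.val this
          simpa using this)
      have c2 := centralizer_central_elt h T' (z := (x : G) ^ 2)
        (hval ▸ (T' : Subgroup G).pow_mem x'.2 2) hw1 (by
          intro t ht
          have := sq_central h T' x' hx' ⟨t, ht⟩
          have := congrArg Subtype.val this
          rw [hval]
          simpa using this)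
      exact Sylow.ext (c1.symm.trans c2)
    subst hTT
    have : x = x' := Subtype.ext hval
    subst this
    rfl
  have hcard : Nat.card (Σ T : Sylow 2 G, β T) = 42 := by
    rw [Nat.card_sigma]
    rw [Finset.sum_congr rfl (fun T _ => card_sq_ne h T), Finset.sum_const, Finset.card_univ,
      smul_eq_mul, ← Nat.card_eq_fintype_card, Cfsg.Agent.S1003.n2 h]
  rw [← hcard]
  exact Nat.card_le_card_of_injective f hinj

/-- there is an involution with exactly 21 conjugates -/
theorem exists_involution : ∃ z : G, orderOf z = 2 ∧ Nat.card {g : G // IsConj z g} = 21 := by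
  obtain ⟨T⟩ : Nonempty (Sylow 2 G) := inferInstance
  obtain ⟨e⟩ := Cfsg.Agent.S1004.sylow2_dihedral h T
  obtain ⟨d1, d2, d3⟩ := d4_center
  set z : ↥(T : Subgroup G) := e.symm (DihedralGroup.r 2) with hz
  have hz1 : (z : G) ≠ 1 := by
    intro hh
    apply d1
    have : z = 1 := Subtype.ext hh
    rw [hz] at this
    have := congrArg e this
    simpa using this
  have hz2 : (z : G) ^ 2 = 1 := by
    have : z ^ 2 = 1 := by
      apply e.injective
      rw [map_pow, hz, MulEquiv.apply_symm_apply, d2, map_one]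
    have := congrArg Subtype.val this
    simpa using this
  have hzc : ∀ t ∈ (T : Subgroup G), t * (z : G) = (z : G) * t := by
    intro t ht
    have : (⟨t, ht⟩ : ↥(T : Subgroup G)) * z = z * ⟨t, ht⟩ := by
      apply e.injective
      rw [map_mul, map_mul, hz, MulEquiv.apply_symm_apply]
      exact d3 _
    exact congrArg Subtype.val this
  refine ⟨(z : G), orderOf_eq_prime hz2 hz1, ?_⟩
  have hC := centralizer_central_elt h T z.2 hz1 hzc
  have := card_conj_mul_card_centralizer (z : G)
  rw [hC, card_sylow2 h T, h] at this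
  omega

theorem card_order2_ge : 21 ≤ Nat.card {g : G // orderOf g = 2} := by
  obtain ⟨z, hz, hc⟩ := exists_involution h
  rw [← hc]
  let f : {g : G // IsConj z g} → {g : G // orderOf g = 2} := fun g =>
    ⟨g.1, by
      obtain ⟨c, hc⟩ := isConj_iff.1 g.2
      have hsc : SemiconjBy c z g.1 := by
        unfold SemiconjBy
        rw [← hc]; group
      rw [← hsc.orderOf_eq c, hz]⟩
  refine Nat.card_le_card_of_injective f (fun a b hab => ?_)
  have : (f a).1 = (f b).1 := congrArg Subtype.val hab
  exact Subtype.ext this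

theorem card_total_le :
    Nat.card {g : G // orderOf g = 2} + Nat.card {g : G // orderOf g = 3} +
      Nat.card {g : G // orderOf g = 4} + Nat.card {g : G // orderOf g = 7} + 1 ≤ 168 := by
  classical
  let ord : Fin 4 → ℕ := ![2, 3, 4, 7]
  have hord : Function.Injective ord := by decide
  have hord1 : ∀ i, ord i ≠ 1 := by decide
  let f : Option (Σ i : Fin 4, {g : G // orderOf g = ord i}) → G := fun o =>
    match o with
    | none => 1
    | some a => a.2.1
  have hinj : Function.Injective f := by
    intro o o' hoo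
    rcases o with _ | ⟨i, g, hg⟩ <;> rcases o' with _ | ⟨j, g', hg'⟩
    · rfl
    · exfalso
      have : g' = 1 := hoo.symm
      rw [this, orderOf_one] at hg'
      exact hord1 j hg'.symm
    · exfalso
      have : g = 1 := hoo
      rw [this, orderOf_one] at hg
      exact hord1 i hg.symm
    · have hgg : g = g' := hoo
      subst hgg
      have hij : i = j := hord (hg.symm.trans hg')
      subst hij
      rfl
  have := Nat.card_le_card_of_injective f hinj
  rw [Finite.card_option, Nat.card_sigma, Fin.sum_univ_four, h] at this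
  exact this

end

/-- In a finite simple group of order 168 every element has order 1, 2, 3, 4 or 7; there are exactly 21 involutions, and they form a single conjugacy class. -/
theorem result {G : Type*} [Group G] [Finite G] [IsSimpleGroup G] (h : Nat.card G = 168) : (∀ g : G, orderOf g = 1 ∨ orderOf g = 2 ∨ orderOf g = 3 ∨ orderOf g = 4 ∨ orderOf g = 7) ∧ Nat.card {g : G // orderOf g = 2} = 21 ∧ ∀ s t : G, orderOf s = 2 → orderOf t = 2 → IsConj s t := by
  haveI : Fact (Nat.Prime 3) := ⟨by norm_num⟩
  haveI : Fact (Nat.Prime 7) := ⟨by norm_num⟩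
  have c3 := card_orderOf_prime_ge (G := G) (p := 3) (card_sylow3 h)
  have c7 := card_orderOf_prime_ge (G := G) (p := 7) (card_sylow7 h)
  rw [Cfsg.Agent.S1003.n3 h] at c3
  rw [Cfsg.Agent.S1003.n7 h] at c7
  have c4 := card_order4_ge h
  have c2 := card_order2_ge h
  have ct := card_total_le h
  have h2 : Nat.card {g : G // orderOf g = 2} = 21 := by omega
  refine ⟨orderOf_mem h, h2, ?_⟩
  -- single class
  obtain ⟨z, hz, hc⟩ := exists_involution h
  have hall : ∀ s : G, orderOf s = 2 → IsConj z s := by
    let f : {g : G // IsConj z g} → {g : G // orderOf g = 2} := fun g =>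
      ⟨g.1, by
        obtain ⟨c, hc⟩ := isConj_iff.1 g.2
        have hsc : SemiconjBy c z g.1 := by
          unfold SemiconjBy
          rw [← hc]; group
        rw [← hsc.orderOf_eq c, hz]⟩
    have hinj : Function.Injective f := by
      intro a b hab
      have : (f a).1 = (f b).1 := congrArg Subtype.val hab
      exact Subtype.ext this
    have hbij := hinj.bijective_of_nat_card_le (by rw [h2, hc])
    intro s hs
    obtain ⟨g, hg⟩ := hbij.2 ⟨s, hs⟩
    have : g.1 = s := congrArg Subtype.val hg
    rw [← this]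
    exact g.2
  intro s t hs ht
  exact (hall s hs).symm.trans (hall t ht)

end Cfsg.Agent.S1005
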