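import Mathlib
import Cfsg.Statements.S0495
import Cfsg.Agent.Lib.Helper2.PSLMapEquiv
import Cfsg.Agent.Lib.Helper16.Simple168c

set_option autoImplicit false
open Cfsg

namespace Cfsg.Agent.S0495

/-- A simple group of order 168 is isomorphic to the projective special linear group of dimension 2 over the field with
7 elements. -/
theorem result {G : Type*} [Group G] [Finite G] [IsSimpleGroup G]
    (h : Nat.card G = 168) {F : Type*} [Field F] [Fintype F] (hF : Fintype.card F = 7) :
    Nonempty (G ≃* Matrix.ProjectiveSpecialLinearGroup (Fin 2) F) := by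
  obtain ⟨e⟩ := Cfsg.Agent.Helper16.O168.simple_168_equiv_psl h
  have e7 : ZMod 7 ≃+* F := ZMod.ringEquivOfPrime F (by norm_num) hF
  exact ⟨e.trans (Cfsg.Agent.Helper2.pslMapEquiv e7)⟩

end Cfsg.Agent.S0495
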