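import Mathlib
import Cfsg.Statements.S1985
import Cfsg.Agent.Lib.Helper10.KInfWeak
import Cfsg.Agent.S1973
-- import your own Cfsg.Agent.* helpers here

set_option autoImplicit false
universe u
open Cfsg

namespace Cfsg.Agent.S1985

/-- Let p be an odd prime and G a finite group. Then the lower K-infinity subgroup controls weak closure of elements in G: the lower K-infinity subgroup of every p-subgroup P of G contains Z(P), and for some (equivalently, every) Sylow p-subgroup S of G, with K the lower K-infinity subgroup of S, every element of S commuting with all of N_G(K) is weakly closed in S with respect to G (every G-conjugate of it lying in S equals it). -/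
theorem result {G : Type u} [Group G] [Finite G] {p : ℕ} [Fact p.Prime] (hp : p ≠ 2) : Cfsg.ControlsWeakClosureOfElementsIn p (Cfsg.inducedFunctor (G := G) Cfsg.kInfLower) ⊤ := by
  have hpp : p.Prime := Fact.out
  have hp3 : 2 ≤ p - 1 := by
    have := hpp.two_le
    omega
  have hW := Cfsg.Agent.Helper10.isConjugacyFunctor_indW (H := G)
    (Cfsg.Agent.Helper10.isCharPFunctor_kInfLower.{u} p)
  refine Cfsg.Agent.S1973.result (Cfsg.inducedFunctor (G := G) Cfsg.kInfLower) hW
    (fun P _ => Cfsg.Agent.Helper10.kinf_hWZ
      (fun Q _ => Cfsg.Agent.Helper10.center_le_kInfLower) P) ?_ ⊤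
  intro H T hTH hT hidx hHW
  obtain ⟨g, hgT, hgP, hq⟩ := Cfsg.Agent.Helper10.kinf_hloc
    (Cfsg.Agent.Helper10.isCharPFunctor_kInfLower.{u} p) (fun H S h => Or.inl h) H T hTH hT hidx hHW
  refine ⟨g, hgT, hgP, ?_⟩
  intro U V _ hU
  rw [Cfsg.Agent.Helper10.iterCommutator_eq_bot_of_quad hU hq (p - 1) hp3]
  exact bot_le

end Cfsg.Agent.S1985
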