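import Mathlib
import Cfsg.Statements.S0319
import Cfsg.Agent.Lib.Helper2.BNPair

set_option autoImplicit false
open Cfsg

namespace Cfsg.Agent.S0319

open Cfsg.Agent.Helper2.BN Cfsg.Agent.Helper2.WordLen
open scoped Pointwise

variable {G : Type*} [Group G] (P : Cfsg.BNPair G)

/-- generators inside and outside the parabolic `B H`, `H` normal, commute in the Weyl group -/
theorem claim (H : Subgroup G) [hH : H.Normal] (s1 s2 : P.S)
    (h1 : (s1 : G) ∈ P.B ⊔ H) (h2 : (s2 : G) ∉ P.B ⊔ H) :
    (s1 : G) * s2 * (s1 : G)⁻¹ * (s2 : G)⁻¹ ∈ P.B := by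
  set M := P.B ⊔ H with hMdef
  have hM : P.B ≤ M := le_sup_left
  set J : Set G := {s | s ∈ P.S ∧ s ∈ M} with hJdef
  have hJS : J ⊆ P.S := fun s hs => hs.1
  have hMJ : M = P.parabolic J := eq_parabolic P M hM
  have hne : s1 ≠ s2 := by
    rintro rfl; exact h2 h1
  -- s1 = b h
  have h1' : (s1 : G) ∈ (P.B : Set G) * (H : Set G) := by
    rw [← Subgroup.mul_normal]; exact h1
  obtain ⟨b, hb, h, hh, hbh⟩ := h1'
  have hh' : h = b⁻¹ * s1 := by rw [← hbh]; group
  have hhC : h ∈ C P (σ P s1) := by
    rw [hh']; exact B_mul_C P (P.B.inv_mem hb) (gen_mem_C P s1)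
  have hxH : (s2 : G) * h * (s2 : G)⁻¹ ∈ H := hH.conj_mem h hh s2
  have hxM : (s2 : G) * h * (s2 : G)⁻¹ ∈ M := (le_sup_right : H ≤ M) hxH
  have hprod_ne : σ P s2 * σ P s1 ≠ 1 := by
    intro h3
    apply hne
    apply σ_injective P
    have := mul_eq_one_iff_eq_inv.mp h3
    rw [σ_inv] at this
    exact this.symm
  have hup : Up P s2 (σ P s1) := by
    apply Up_of_le
    have : ℓ P (σ P s2 * σ P s1) ≠ 0 := by
      intro h3
      rw [len_eq_zero_iff (σ P) (wp_surj P)] at h3
      exact hprod_ne h3
    have h4 : ℓ P (σ P s1) = 1 := ℓ_σ P s1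
    omega
  have h5 : (s2 : G) * h ∈ C P (σ P s2 * σ P s1) := hup h hhC
  rw [hMJ, mem_parabolic_iff P hJS] at hxM
  obtain ⟨l, hl, hxl⟩ := hxM
  have hs2J : (s2 : G) ∉ J := fun hs => h2 hs.2
  rcases L1r_inv P s2 h5 with h6 | h6
  · -- x ∈ C (s2 s1 s2)
    have hwl : σ P s2 * σ P s1 * σ P s2 = wp (σ P) l := C_inj P h6 hxl
    have hw3 : wp (σ P) [s2, s1, s2] = σ P s2 * σ P s1 * σ P s2 := by
      simp [mul_assoc]
    by_cases hred : IsReduced (σ P) [s2, s1, s2]
    · exfalso
      apply hs2J
      refine ⟨s2.2, ?_⟩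
      have hn : gp P [s2, s1, s2] ∈ M := by
        rw [hMJ, mem_parabolic_iff P hJS]
        refine ⟨l, hl, ?_⟩
        rw [← hwl, ← hw3, ← π_gp]
        exact mem_C_self P _
      exact letters_mem P M hM [s2, s1, s2] hred ⟨gp P [s2, s1, s2], gp_mem P _⟩
        (π_gp P _) hn s2 (by simp)
    · obtain ⟨l', hsub, hlen, hwp⟩ := deletion P _ hred
      have hlen1 : l'.length = 1 := by simpa using hlen
      obtain ⟨x, rfl⟩ := List.length_eq_one_iff.mp hlen1
      have hx : x ∈ [s2, s1, s2] := hsub.subset (by simp)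
      rw [wp_singleton, hw3] at hwp
      have hx' : x = s2 ∨ x = s1 := by
        simp only [List.mem_cons, List.not_mem_nil, or_false] at hx
        tauto
      rcases hx' with rfl | rfl
      · exfalso
        apply hprod_ne
        have h7 : σ P x * σ P s1 * σ P x = σ P x * 1 := by rw [← hwp, mul_one]
        rw [mul_assoc] at h7
        have h8 := mul_left_cancel h7
        -- s1 * x = 1 → x * s1 = 1
        have h9 : σ P s1 = (σ P x)⁻¹ := mul_eq_one_iff_eq_inv.mp h8
        rw [h9, mul_inv_cancel]
      · -- commute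
        have hcomm : σ P s2 * σ P x = σ P x * σ P s2 := by
          calc σ P s2 * σ P x = σ P s2 * σ P x * σ P s2 * σ P s2 := (mul_σ_cancel P _ _).symm
            _ = σ P x * σ P s2 := by rw [← hwp]
        have : π P (⟨x, P.subset x.2⟩ * ⟨s2, P.subset s2.2⟩ * (⟨x, P.subset x.2⟩)⁻¹ *
            (⟨s2, P.subset s2.2⟩)⁻¹) = 1 := by
          rw [map_mul, map_mul, map_mul, map_inv, map_inv]
          change σ P x * σ P s2 * (σ P x)⁻¹ * (σ P s2)⁻¹ = 1
          rw [← hcomm]
          group
        rw [π_eq_one_iff] at this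
        simpa using this
  · -- x ∈ C (s2 s1)
    exfalso
    have hwl : σ P s2 * σ P s1 = wp (σ P) l := C_inj P h6 hxl
    apply hs2J
    apply mem_of_mem_parabolic P hJS s2
    rw [mem_parabolic_iff P hJS]
    refine ⟨l ++ [s1], ?_, ?_⟩
    · intro z hz
      rcases List.mem_append.mp hz with hz | hz
      · exact hl z hz
      · simp only [List.mem_singleton] at hz
        rw [hz]
        exact ⟨s1.2, h1⟩
    · rw [wp_append, wp_singleton, ← hwl, mul_σ_cancel]
      exact gen_mem_C P s2

/-- Simplicity criterion for groups with a (B,N)-pair: if the distinguished generators admit no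
splitting into two non-empty mutually commuting parts, `B` is solvable, `G` is perfect and the intersection
of all conjugates of `B` is trivial, then `G` is simple. -/
theorem result {G : Type*} [Group G] [Nontrivial G]
    (P : Cfsg.BNPair G) (hirr : P.Irreducible) (hsolv : Group.IsSolvable P.B) (hperf : commutator G = ⊤)
    (hcore : P.B.normalCore = ⊥) : IsSimpleGroup G := by
  refine ⟨fun H hH => ?_⟩
  set M := P.B ⊔ H with hMdef
  have hM : P.B ≤ M := le_sup_left
  set J : Set G := {s | s ∈ P.S ∧ s ∈ M} with hJdef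
  have hJS : J ⊆ P.S := fun s hs => hs.1
  have hMJ : M = P.parabolic J := eq_parabolic P M hM
  by_cases hJe : J.Nonempty
  · by_cases hJc : (P.S \ J).Nonempty
    · exfalso
      obtain ⟨s, hs, s', hs', hnot⟩ := hirr J hJS hJe hJc
      apply hnot
      exact claim P H ⟨s, hs.1⟩ ⟨s', hs'.1⟩ hs.2 (fun h => hs'.2 ⟨hs'.1, h⟩)
    · right
      rw [Set.not_nonempty_iff_eq_empty, Set.sdiff_eq_empty] at hJc
      have hMtop : M = ⊤ := by
        rw [eq_top_iff, ← P.sup_eq_top]
        apply sup_le hM
        rw [← P.closure_sup]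
        apply sup_le
        · rw [hMJ]
          exact le_trans (Subgroup.closure_mono hJc) le_sup_right
        · exact le_trans inf_le_left hM
      by_contra hHtop
      have hnt : Nontrivial (G ⧸ H) := by
        rw [QuotientGroup.nontrivial_iff]
        exact hHtop
      have hsurj : Function.Surjective ((QuotientGroup.mk' H).comp P.B.subtype) := by
        intro x
        obtain ⟨g, rfl⟩ := QuotientGroup.mk'_surjective H x
        have hg : g ∈ (P.B : Set G) * (H : Set G) := by
          rw [← Subgroup.mul_normal, ← hMdef, hMtop]; exact Set.mem_univ g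
        obtain ⟨b, hb, h, hh, rfl⟩ := hg
        refine ⟨⟨b, hb⟩, ?_⟩
        simp only [MonoidHom.coe_comp, Function.comp_apply, Subgroup.subtype_apply,
          QuotientGroup.mk'_apply]
        rw [QuotientGroup.eq]
        simpa using hh
      have hsolvQ : Group.IsSolvable (G ⧸ H) := Group.isSolvable_of_surjective hsurj
      have hlt := Group.IsSolvable.commutator_lt_top_of_nontrivial (G ⧸ H)
      have htop : commutator (G ⧸ H) = ⊤ := by
        rw [commutator_def, ← Subgroup.map_top_of_surjective (QuotientGroup.mk' H)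
          (QuotientGroup.mk'_surjective H), ← Subgroup.map_commutator, ← commutator_def, hperf]
      rw [htop] at hlt
      exact lt_irrefl _ hlt
  · left
    rw [Set.not_nonempty_iff_eq_empty] at hJe
    have hMB : M = P.B := by
      rw [hMJ, hJe, BNPair.parabolic, Subgroup.closure_empty, sup_bot_eq]
    have hHB : H ≤ P.B := by
      rw [← hMB]; exact le_sup_right
    have := Subgroup.normal_le_normalCore.mpr hHB
    rw [hcore] at this
    exact le_bot_iff.mp this

end Cfsg.Agent.S0319
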