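import Mathlib
import Cfsg.Statements.S1052
import Cfsg.Agent.S1023
import Cfsg.Agent.S1024
import Cfsg.Agent.S1025
import Cfsg.Agent.Lib.Lead.ChevHFacts
import Cfsg.Agent.Lib.Lead.ChevPerfectData

set_option autoImplicit false
open Cfsg

namespace Cfsg.Agent.S1052

open Cfsg.Agent.Lead.Chev Cfsg.Lie

theorem xAdd_of_mem {F : Type*} [Field F] (D : ChevalleyDatum)
    (hD : D ∈ [chevG2, chevB2, chevD4, chevF4, chevE6, chevE7, chevE8]) : XAdd D F :=
  ⟨fun r hr t₁ t₂ => Cfsg.Agent.S1023.result D hD r hr t₁ t₂,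
   fun r hr => (Cfsg.Agent.S1024.result D hD r hr 0).2 rfl⟩

/-- `G = G'` for every type G₂, B₂, D₄, F₄, E₆, E₇, E₈ over every field, except G₂ and B₂ over the field with two elements. -/
theorem result {F : Type*} [Field F] (D : Cfsg.Lie.ChevalleyDatum) (hD : D ∈ [Cfsg.Lie.chevG2, Cfsg.Lie.chevB2, Cfsg.Lie.chevD4, Cfsg.Lie.chevF4, Cfsg.Lie.chevE6, Cfsg.Lie.chevE7, Cfsg.Lie.chevE8]) (h2 : D = Cfsg.Lie.chevG2 ∨ D = Cfsg.Lie.chevB2 → ∃ a : F, a ≠ 0 ∧ a ≠ 1) :
    commutator ↥(D.group F) = ⊤ := by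
  have hX : XAdd D F := xAdd_of_mem D hD
  have hcomm : ∀ r < D.nroots, ∀ s < D.nroots, s ≠ r → s ≠ D.neg r → CommOK D F r s :=
    fun r hr s hs h1 h2 t u => Cfsg.Agent.S1025.result D hD r s hr hs h1 h2 t u
  have hS : HSimple D F := hSimple_of_mem D hD
  have hC : HConj D F := hConj_of_mem D hD
  apply commutator_eq_top_of D hX
  have hD' := hD
  simp only [List.mem_cons, List.mem_nil_iff, or_false] at hD'
  rcases hD' with rfl | rfl | rfl | rfl | rfl | rfl | rfl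
  · exact mem_commutator_of_chk _ hX hcomm hS hC perfCert_G2 (Or.inr (h2 (Or.inl rfl))) perfOK_G2
  · exact mem_commutator_of_chk _ hX hcomm hS hC perfCert_B2 (Or.inr (h2 (Or.inr rfl))) perfOK_B2
  · exact mem_commutator_of_chk _ hX hcomm hS hC perfCert_D4 (Or.inl perfKind_D4) perfOK_D4
  · exact mem_commutator_of_chk _ hX hcomm hS hC perfCert_F4 (Or.inl perfKind_F4) perfOK_F4
  · exact mem_commutator_of_chk _ hX hcomm hS hC perfCert_E6 (Or.inl perfKind_E6) perfOK_E6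
  · exact mem_commutator_of_chk _ hX hcomm hS hC perfCert_E7 (Or.inl perfKind_E7) perfOK_E7
  · exact mem_commutator_of_chk _ hX hcomm hS hC perfCert_E8 (Or.inl perfKind_E8) perfOK_E8

end Cfsg.Agent.S1052
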