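import Mathlib
import Cfsg.Statements.S0013

set_option autoImplicit false
open Cfsg

namespace Cfsg.Agent.S0013

open Subgroup
open scoped commutatorElement

/-- If `G / N` is elementary abelian then every element outside `N` is avoided by some maximal
subgroup containing `N`. -/
theorem exists_coatom_not_mem {G : Type*} [Group G] [Finite G] (p : ℕ) [Fact p.Prime]
    (N : Subgroup G) (hcomm : commutator G ≤ N) (hpow : ∀ x : G, x ^ p ∈ N)
    (x : G) (hx : x ∉ N) : ∃ M : Subgroup G, IsCoatom M ∧ N ≤ M ∧ x ∉ M := by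
  have hp : p.Prime := Fact.out
  set S : Set (Subgroup G) := {K | N ≤ K ∧ x ∉ K} with hS
  have hfin : S.Finite := Set.toFinite S
  have hne : S.Nonempty := ⟨N, le_rfl, hx⟩
  obtain ⟨M, hM⟩ := hfin.exists_maximal hne
  obtain ⟨hNM, hxM⟩ := hM.1
  refine ⟨M, ⟨?_, ?_⟩, hNM, hxM⟩
  · rintro rfl
    exact hxM (Subgroup.mem_top x)
  · intro K hMK
    have hxK : x ∈ K := by
      by_contra hxK
      have hKS : K ∈ S := ⟨hNM.trans hMK.le, hxK⟩
      exact (lt_irrefl M) (lt_of_lt_of_le hMK (hM.2 hKS hMK.le))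
    have hMn : M.Normal := by
      constructor
      intro m hm g
      have : g * m * g⁻¹ = ⁅g, m⁆ * m := by rw [commutatorElement_def]; group
      rw [this]
      exact M.mul_mem (hNM (hcomm (Subgroup.commutator_mem_commutator (mem_top g) (mem_top m)))) hm
    rw [eq_top_iff]
    intro y _
    by_cases hyM : y ∈ M
    · exact hMK.le hyM
    · -- x ∈ M ⊔ zpowers y
      have hlt : M < M ⊔ zpowers y := by
        rw [lt_iff_le_and_ne]
        refine ⟨le_sup_left, ?_⟩
        intro h
        apply hyM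
        rw [h]
        exact Subgroup.mem_sup_right (mem_zpowers y)
      have hxMy : x ∈ M ⊔ zpowers y := by
        by_contra hxMy
        have hKS : M ⊔ zpowers y ∈ S := ⟨hNM.trans le_sup_left, hxMy⟩
        exact (lt_irrefl M) (lt_of_lt_of_le hlt (hM.2 hKS hlt.le))
      rw [Subgroup.mem_sup_of_normal_left] at hxMy
      obtain ⟨m, hm, z, hz, hmz⟩ := hxMy
      obtain ⟨i, rfl⟩ := mem_zpowers_iff.mp hz
      -- p does not divide i
      have hpi : ¬ (p : ℤ) ∣ i := by
        rintro ⟨j, rfl⟩
        apply hxM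
        rw [← hmz]
        apply M.mul_mem hm
        rw [zpow_mul, zpow_natCast]
        exact M.zpow_mem (hNM (hpow y)) j
      have hcop : IsCoprime i (p : ℤ) := by
        rw [isCoprime_comm]
        exact (Nat.prime_iff_prime_int.mp hp).coprime_iff_not_dvd.mpr hpi
      obtain ⟨a, b, hab⟩ := hcop
      have hyi : y ^ i ∈ K := by
        have : y ^ i = m⁻¹ * x := by rw [← hmz]; group
        rw [this]
        exact K.mul_mem (K.inv_mem (hMK.le hm)) hxK
      have hyp : y ^ (p : ℤ) ∈ K := by
        rw [zpow_natCast]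
        exact hMK.le (hNM (hpow y))
      have : y = (y ^ i) ^ a * (y ^ (p : ℤ)) ^ b := by
        rw [← zpow_mul, ← zpow_mul, ← zpow_add, mul_comm i a, mul_comm (p : ℤ) b, hab, zpow_one]
      rw [this]
      exact K.mul_mem (K.zpow_mem hyi a) (K.zpow_mem hyp b)

theorem result {G : Type*} [Group G] [Finite G] (p : ℕ) [Fact p.Prime]
    (hG : IsPGroup p G) (N : Subgroup G) [N.Normal] (hcomm : commutator G ≤ N) (hpow : ∀ x : G, x ^ p ∈ N) :
    frattini G ≤ N := by
  intro y hy
  by_contra hyN
  obtain ⟨M, hM, -, hyM⟩ := exists_coatom_not_mem p N hcomm hpow y hyN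
  exact hyM (frattini_le_coatom hM hy)

end Cfsg.Agent.S0013
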