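import Mathlib
import Cfsg.Statements.S4208
import Cfsg.Agent.Lib.Helper21.FreeAction
import Cfsg.Agent.Lib.Helper21.PGroupFrattini
import Cfsg.Agent.Lib.Helper21.GenTuples

set_option autoImplicit false
open Cfsg

namespace Cfsg.Agent.S4208

open Cfsg.Agent.Helper21

/-- generating `r`-tuples of a group -/
def Gen (G : Type*) [Group G] (r : ℕ) : Type _ :=
  {y : Fin r → G // Subgroup.closure (Set.range y) = ⊤}

instance (G : Type*) [Group G] [Finite G] (r : ℕ) : Finite (Gen G r) := by
  unfold Gen; infer_instance

variable {P : Type*} [Group P]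

theorem card_Gen [Finite P] (r : ℕ) :
    Nat.card (Gen P r) = Nat.card (frattini P) ^ r * Nat.card (Gen (P ⧸ frattini P) r) := by
  classical
  have hπ : Function.Surjective (QuotientGroup.mk' (frattini P)) :=
    QuotientGroup.mk'_surjective (frattini P)
  have hmap : ∀ y : Fin r → P,
      Subgroup.closure (Set.range (fun i => QuotientGroup.mk' (frattini P) (y i))) =
        (Subgroup.closure (Set.range y)).map (QuotientGroup.mk' (frattini P)) := by
    intro y
    have : Set.range (fun i => QuotientGroup.mk' (frattini P) (y i)) =
        QuotientGroup.mk' (frattini P) '' Set.range y := by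
      rw [← Set.range_comp]; rfl
    rw [this, ← MonoidHom.map_closure]
  let φ : Gen P r → Gen (P ⧸ frattini P) r := fun y =>
    ⟨fun i => QuotientGroup.mk' (frattini P) (y.1 i), by
      rw [hmap, y.2, Subgroup.map_top_of_surjective _ hπ]⟩
  have := Fintype.ofFinite (Gen (P ⧸ frattini P) r)
  rw [Nat.card_congr (Equiv.sigmaFiberEquiv φ).symm, Nat.card_sigma]
  have hfib : ∀ s : Gen (P ⧸ frattini P) r,
      Nat.card {y : Gen P r // φ y = s} = Nat.card (frattini P) ^ r := by
    intro s
    choose y₀ hy₀ using fun i => hπ (s.1 i)
    have hgen : ∀ f : Fin r → frattini P,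
        Subgroup.closure (Set.range (fun i => y₀ i * (f i : P))) = ⊤ := by
      intro f
      apply frattini_nongenerating
      have h1 : (Subgroup.closure (Set.range (fun i => y₀ i * (f i : P)))).map
          (QuotientGroup.mk' (frattini P)) = ⊤ := by
        rw [← hmap]
        have : (fun i => QuotientGroup.mk' (frattini P) (y₀ i * (f i : P))) = s.1 := by
          funext i
          rw [map_mul, hy₀ i]
          have : QuotientGroup.mk' (frattini P) (f i : P) = 1 :=
            (QuotientGroup.eq_one_iff _).mpr (f i).2
          rw [this, mul_one]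
        rw [this, s.2]
      have h2 := Subgroup.comap_map_eq (QuotientGroup.mk' (frattini P))
        (Subgroup.closure (Set.range (fun i => y₀ i * (f i : P))))
      rw [h1, Subgroup.comap_top, QuotientGroup.ker_mk'] at h2
      exact h2.symm
    have e : {y : Gen P r // φ y = s} ≃ (Fin r → frattini P) :=
      { toFun := fun y i => ⟨(y₀ i)⁻¹ * y.1.1 i, by
          have h1 : QuotientGroup.mk' (frattini P) (y.1.1 i) = s.1 i := by
            have := congrArg (fun z : Gen (P ⧸ frattini P) r => z.1 i) y.2
            exact this
          rw [← QuotientGroup.eq]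
          show QuotientGroup.mk' (frattini P) (y₀ i) = QuotientGroup.mk' (frattini P) (y.1.1 i)
          rw [hy₀ i, h1]⟩
        invFun := fun f => ⟨⟨fun i => y₀ i * (f i : P), hgen f⟩, by
          apply Subtype.ext
          funext i
          show QuotientGroup.mk' (frattini P) (y₀ i * (f i : P)) = s.1 i
          rw [map_mul, hy₀ i]
          have : QuotientGroup.mk' (frattini P) (f i : P) = 1 :=
            (QuotientGroup.eq_one_iff _).mpr (f i).2
          rw [this, mul_one]⟩
        left_inv := fun y => by
          apply Subtype.ext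
          apply Subtype.ext
          funext i
          simp
        right_inv := fun f => by
          funext i
          apply Subtype.ext
          simp }
    rw [Nat.card_congr e, Nat.card_fun, Nat.card_eq_fintype_card (α := Fin r), Fintype.card_fin]
  simp_rw [hfib]
  rw [Finset.sum_const, Finset.card_univ, smul_eq_mul, mul_comm,
    Nat.card_eq_fintype_card (α := Gen (P ⧸ frattini P) r)]

/-- the action of the automorphism group on generating tuples -/
instance genAction (r : ℕ) : MulAction (MulAut P) (Gen P r) where
  smul α y := ⟨fun i => α (y.1 i), by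
    have : Set.range (fun i => α (y.1 i)) = α.toMonoidHom '' Set.range y.1 := by
      rw [← Set.range_comp]; rfl
    rw [this, ← MonoidHom.map_closure, y.2]
    exact Subgroup.map_top_of_surjective _ α.surjective⟩
  one_smul y := rfl
  mul_smul α β y := rfl

theorem genAction_apply (r : ℕ) (α : MulAut P) (y : Gen P r) (i : Fin r) :
    (α • y).1 i = α (y.1 i) := rfl

theorem genAction_free (r : ℕ) (α : MulAut P) (y : Gen P r) (h : α • y = y) : α = 1 := by
  have hle : Subgroup.closure (Set.range y.1) ≤
      MonoidHom.eqLocus (α.toMonoidHom) (MonoidHom.id P) := by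
    rw [Subgroup.closure_le]
    rintro _ ⟨i, rfl⟩
    show α (y.1 i) = y.1 i
    rw [← genAction_apply, h]
  rw [y.2] at hle
  ext g
  have : g ∈ MonoidHom.eqLocus (α.toMonoidHom) (MonoidHom.id P) := hle trivial
  exact this

/-- Let `P` be a group of order `p^n` whose Frattini subgroup has index `p^r`. Then the order of the automorphism group of `P` divides `p^(r(n-r)) · (p^r - 1)(p^r - p) ⋯ (p^r - p^(r-1))`. -/
theorem result {P : Type*} [Group P] [Finite P] {p n r : ℕ} [Fact p.Prime] (hP : Nat.card P = p ^ n) (hr : (frattini P).index = p ^ r) : Nat.card (MulAut P) ∣ p ^ (r * (n - r)) * ∏ i ∈ Finset.range r, (p ^ r - p ^ i) := by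
  classical
  have hp : p.Prime := Fact.out
  have hPG : IsPGroup p P := IsPGroup.of_card hP
  -- order of the Frattini subgroup
  have hmul : Nat.card (frattini P) * p ^ r = p ^ n := by
    rw [← hr, ← hP]; exact Subgroup.card_mul_index _
  have hrn : r ≤ n := by
    have : p ^ r ∣ p ^ n := ⟨Nat.card (frattini P), by rw [← hmul]; ring⟩
    exact (Nat.pow_dvd_pow_iff_le_right hp.one_lt).mp this
  have hΦ : Nat.card (frattini P) = p ^ (n - r) := by
    have h2 : p ^ (n - r) * p ^ r = p ^ n := by rw [← pow_add]; congr 1; omega
    exact Nat.eq_of_mul_eq_mul_right (pow_pos hp.pos r) (hmul.trans h2.symm)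
  -- the Frattini quotient is elementary abelian
  have hcomm : ∀ a b : P ⧸ frattini P, a * b = b * a := by
    intro a b
    induction a using QuotientGroup.induction_on with
    | H x =>
    induction b using QuotientGroup.induction_on with
    | H y =>
    rw [← QuotientGroup.mk_mul, ← QuotientGroup.mk_mul, QuotientGroup.eq]
    have := commutator_mem_frattini_of_isPGroup hPG y⁻¹ x⁻¹
    have e : (x * y)⁻¹ * (y * x) = y⁻¹ * x⁻¹ * y⁻¹⁻¹ * x⁻¹⁻¹ := by group
    rw [e]
    exact this
  have hexp : ∀ v : P ⧸ frattini P, v ^ p = 1 := by
    intro v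
    induction v using QuotientGroup.induction_on with
    | H x =>
    rw [← QuotientGroup.mk_pow, QuotientGroup.eq_one_iff]
    exact pow_mem_frattini_of_isPGroup hPG x
  have hcardV : Nat.card (P ⧸ frattini P) = p ^ r := hr
  have hV : Nat.card (Gen (P ⧸ frattini P) r) = ∏ i ∈ Finset.range r, (p ^ r - p ^ i) :=
    card_generating_tuples_of_group hcomm hexp hcardV
  have hdvd : Nat.card (MulAut P) ∣ Nat.card (Gen P r) :=
    card_dvd_of_free (fun α y h => genAction_free r α y h)
  rw [card_Gen, hΦ, hV, ← pow_mul, mul_comm (n - r) r] at hdvd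
  exact hdvd

end Cfsg.Agent.S4208
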