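import Mathlib
import Cfsg.Statements.S0804
import Cfsg.Agent.Lib.Helper12.Icosa3
import Cfsg.Agent.Lib.Helper12.TwoByTwo
import Cfsg.Agent.Lib.Helper2.CardSL

set_option autoImplicit false
open Cfsg

namespace Cfsg.Agent.S0804

open Matrix Cfsg.Agent.Helper12

variable {F : Type*} [Field F]

theorem pow_five_coeff (M : Matrix (Fin 2) (Fin 2) F) (hdet : M.det = 1) :
    M ^ 5 = (M.trace ^ 4 - 3 * M.trace ^ 2 + 1) • M -
      (M.trace ^ 3 - 2 * M.trace) • (1 : Matrix (Fin 2) (Fin 2) F) := by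
  obtain ⟨τ, hτ⟩ : ∃ τ, τ = M.trace := ⟨_, rfl⟩
  rw [← hτ]
  have h2 : M * M = τ • M - 1 := by rw [sq_eq2, hdet, one_smul, hτ]
  have h3 : M ^ 3 = (τ ^ 2 - 1) • M - τ • (1 : Matrix (Fin 2) (Fin 2) F) := by
    have : M ^ 3 = (M * M) * M := by rw [pow_succ, pow_two]
    rw [this, h2, sub_mul, smul_mul_assoc, h2, one_mul]
    module
  have h4 : M ^ 4 = (τ ^ 3 - 2 * τ) • M - (τ ^ 2 - 1) • (1 : Matrix (Fin 2) (Fin 2) F) := by
    have : M ^ 4 = M ^ 3 * M := by rw [pow_succ]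
    rw [this, h3, sub_mul, smul_mul_assoc, smul_mul_assoc, h2, one_mul]
    module
  have : M ^ 5 = M ^ 4 * M := by rw [pow_succ]
  rw [this, h4, sub_mul, smul_mul_assoc, smul_mul_assoc, h2, one_mul]
  module

/-- the trace of an element of order `5` in `SL₂` is a golden ratio. -/
theorem golden_of_pow_five (g : SpecialLinearGroup (Fin 2) F) (h5 : g ^ 5 = 1) (hne : g ≠ 1) :
    ∃ τ : F, τ ^ 2 + τ - 1 = 0 := by
  obtain ⟨M, hM⟩ : ∃ M : Matrix (Fin 2) (Fin 2) F, M = g.1 := ⟨_, rfl⟩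
  have hdet : M.det = 1 := by rw [hM]; exact g.2
  have hM5 : M ^ 5 = 1 := by
    have := congrArg Subtype.val h5
    rw [hM]
    simpa using this
  obtain ⟨τ, hτ⟩ : ∃ τ, τ = M.trace := ⟨_, rfl⟩
  have hp := pow_five_coeff M hdet
  rw [hM5, ← hτ] at hp
  have hA : τ ^ 4 - 3 * τ ^ 2 + 1 = 0 := by
    by_contra hA
    apply hne
    -- M is scalar
    have hsc : M = ((τ ^ 4 - 3 * τ ^ 2 + 1)⁻¹ * (1 + (τ ^ 3 - 2 * τ))) •
        (1 : Matrix (Fin 2) (Fin 2) F) := by
      have h6 : (τ ^ 4 - 3 * τ ^ 2 + 1) • M = (1 + (τ ^ 3 - 2 * τ)) • (1 : Matrix (Fin 2) (Fin 2) F) := by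
        calc (τ ^ 4 - 3 * τ ^ 2 + 1) • M
            = ((τ ^ 4 - 3 * τ ^ 2 + 1) • M - (τ ^ 3 - 2 * τ) • (1 : Matrix (Fin 2) (Fin 2) F)) +
                (τ ^ 3 - 2 * τ) • (1 : Matrix (Fin 2) (Fin 2) F) := by abel
          _ = 1 + (τ ^ 3 - 2 * τ) • (1 : Matrix (Fin 2) (Fin 2) F) := by rw [← hp]
          _ = (1 + (τ ^ 3 - 2 * τ)) • (1 : Matrix (Fin 2) (Fin 2) F) := by
              rw [add_smul (1 : F), one_smul]
      rw [mul_smul, ← h6, smul_smul, inv_mul_cancel₀ hA, one_smul]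
    obtain ⟨l, hl⟩ : ∃ l : F, M = l • (1 : Matrix (Fin 2) (Fin 2) F) := ⟨_, hsc⟩
    have hl2 : l ^ 2 = 1 := by
      rw [hl] at hdet
      simpa [Matrix.det_fin_two, pow_two] using hdet
    have hl5 : l ^ 5 = 1 := by
      rw [hl] at hM5
      have := congrFun (congrFun hM5 0) 0
      simpa [smul_pow] using this
    have hl1 : l = 1 := by
      have : l ^ 5 = l * (l ^ 2) ^ 2 := by ring
      rw [this, hl2, one_pow, mul_one] at hl5
      exact hl5
    apply Subtype.ext
    rw [← hM, hl, hl1, one_smul]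
    rfl
  have hB : τ ^ 3 - 2 * τ + 1 = 0 := by
    rw [hA, zero_smul, zero_sub] at hp
    have := congrFun (congrFun hp 0) 0
    simp only [Matrix.one_apply_eq, Matrix.neg_apply, Matrix.smul_apply, smul_eq_mul, mul_one]
      at this
    linear_combination this
  have hfac : (τ - 1) * (τ ^ 2 + τ - 1) = 0 := by linear_combination hB
  rcases mul_eq_zero.mp hfac with h | h
  · exfalso
    have h1 : τ = 1 := sub_eq_zero.mp h
    rw [h1] at hA
    norm_num at hA
  · exact ⟨τ, h⟩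

theorem card_SL2 [Fintype F] :
    Nat.card (SpecialLinearGroup (Fin 2) F) = Fintype.card F * (Fintype.card F ^ 2 - 1) := by
  have h := Cfsg.Agent.Helper2.card_SL_mul (F := F) 2 (by norm_num)
  rw [Fin.prod_univ_two] at h
  simp only [Fin.val_zero, Fin.val_one, pow_zero, pow_one] at h
  have hq : 2 ≤ Fintype.card F := Fintype.one_lt_card
  obtain ⟨q, hqd⟩ : ∃ q, q = Fintype.card F := ⟨_, rfl⟩
  rw [← hqd] at h hq ⊢
  have e : q ^ 2 - q = (q - 1) * q := by
    obtain ⟨m, rfl⟩ : ∃ m, q = m + 1 := ⟨q - 1, by omega⟩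
    simp only [Nat.add_sub_cancel]
    have : (m + 1) ^ 2 = m * (m + 1) + (m + 1) := by ring
    rw [this, Nat.add_sub_cancel]
  rw [e] at h
  have h' : (q - 1) * Nat.card (SpecialLinearGroup (Fin 2) F) = (q - 1) * (q * (q ^ 2 - 1)) := by
    rw [h]; ring
  exact Nat.eq_of_mul_eq_mul_left (by omega) h'

theorem exists_golden [Fintype F] (h : 5 ∣ Fintype.card F * (Fintype.card F ^ 2 - 1)) :
    ∃ τ : F, τ ^ 2 + τ - 1 = 0 := by
  have : Fact (Nat.Prime 5) := ⟨by norm_num⟩
  rw [← card_SL2] at h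
  obtain ⟨g, hg⟩ := exists_prime_orderOf_dvd_card' 5 h
  refine golden_of_pow_five g ?_ ?_
  · rw [← hg]; exact pow_orderOf_eq_one g
  · intro h1
    rw [h1, orderOf_one] at hg
    norm_num at hg

theorem exists_conic [Fintype F] (τ : F) (hτ : τ ^ 2 + τ - 1 = 0) :
    ∃ r t : F, t ^ 2 + τ * t + r ^ 2 + r + 1 = 0 := by
  by_cases h2 : (2 : F) = 0
  · exact ⟨τ, τ, by linear_combination hτ + (τ ^ 2 + 1) * h2⟩
  · have hchar : ringChar F ≠ 2 := by
      intro hc
      apply h2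
      have := ringChar.Nat.cast_ringChar (R := F)
      rw [hc] at this
      exact_mod_cast this
    have hodd := FiniteField.odd_card_of_char_ne_two hchar
    have hf : (Polynomial.C (1 : F) * Polynomial.X ^ 2 + Polynomial.C τ * Polynomial.X +
        Polynomial.C 0).degree = 2 := Polynomial.degree_quadratic one_ne_zero
    have hg : (Polynomial.C (1 : F) * Polynomial.X ^ 2 + Polynomial.C 1 * Polynomial.X +
        Polynomial.C 1).degree = 2 := Polynomial.degree_quadratic one_ne_zero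
    obtain ⟨t, r, htr⟩ := FiniteField.exists_root_sum_quadratic hf hg hodd
    refine ⟨r, t, ?_⟩
    simp only [Polynomial.eval_add, Polynomial.eval_mul, Polynomial.eval_C, Polynomial.eval_pow,
      Polynomial.eval_X] at htr
    linear_combination htr

/-- the matrix `X` of order `4`. -/
def mX (F : Type*) [Field F] : SpecialLinearGroup (Fin 2) F :=
  ⟨!![0, -1; 1, 0], by simp [Matrix.det_fin_two]⟩

/-- the matrix `Y` of order `3`. -/
def mY (τ r t : F) (h : t ^ 2 + τ * t + r ^ 2 + r + 1 = 0) : SpecialLinearGroup (Fin 2) F :=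
  ⟨!![r, t + τ; t, -1 - r], by
    rw [Matrix.det_fin_two]
    simp only [Matrix.of_apply, Matrix.cons_val_zero, Matrix.cons_val_one, Matrix.cons_val',
      Matrix.cons_val_fin_one]
    linear_combination -h⟩

theorem mX_sq : ((mX F).1 * (mX F).1) = -1 := by
  ext i j
  fin_cases i <;> fin_cases j <;> simp [mX, Matrix.mul_apply, Fin.sum_univ_two]

theorem mY_cube (τ r t : F) (h : t ^ 2 + τ * t + r ^ 2 + r + 1 = 0) :
    (mY τ r t h).1 * (mY τ r t h).1 * (mY τ r t h).1 = 1 := by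
  have hdet : (mY τ r t h).1.det = 1 := (mY τ r t h).2
  have htr : (mY τ r t h).1.trace = -1 := by
    simp [mY, Matrix.trace_fin_two]
  have h2 := sq_eq2 (mY τ r t h).1
  rw [hdet, htr, one_smul] at h2
  rw [h2, sub_mul, one_mul, smul_mul_assoc, h2]
  module

theorem mXY_trace (τ r t : F) (h : t ^ 2 + τ * t + r ^ 2 + r + 1 = 0) :
    ((mX F).1 * (mY τ r t h).1).trace = τ := by
  simp [mX, mY, Matrix.trace_fin_two, Matrix.mul_apply, Fin.sum_univ_two]

theorem mXY_pow (τ r t : F) (h : t ^ 2 + τ * t + r ^ 2 + r + 1 = 0) (hτ : τ ^ 2 + τ - 1 = 0) :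
    ((mX F).1 * (mY τ r t h).1) ^ 5 = 1 := by
  have hdet : ((mX F).1 * (mY τ r t h).1).det = 1 := by
    rw [Matrix.det_mul, (mX F).2, (mY τ r t h).2, one_mul]
  rw [pow_five_coeff _ hdet, mXY_trace]
  have hA : τ ^ 4 - 3 * τ ^ 2 + 1 = 0 := by linear_combination (τ ^ 2 - τ - 1) * hτ
  have hB : τ ^ 3 - 2 * τ = -1 := by linear_combination (τ - 1) * hτ
  rw [hA, hB, zero_smul, zero_sub, neg_smul, one_smul, neg_neg]

theorem neg_one_mem_center :
    (mX F) * (mX F) ∈ Subgroup.center (SpecialLinearGroup (Fin 2) F) := by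
  rw [Matrix.SpecialLinearGroup.mem_center_iff]
  refine ⟨-1, by simp, ?_⟩
  rw [Matrix.SpecialLinearGroup.coe_mul, mX_sq]
  ext i j
  fin_cases i <;> fin_cases j <;> simp

theorem mX_not_mem_center : (mX F) ∉ Subgroup.center (SpecialLinearGroup (Fin 2) F) := by
  rw [Matrix.SpecialLinearGroup.mem_center_iff]
  rintro ⟨l, -, hl⟩
  have := congrFun (congrFun hl 0) 1
  simp [mX] at this

theorem exists_A5_of_dvd [Fintype F] (h : 5 ∣ Fintype.card F * (Fintype.card F ^ 2 - 1)) :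
    ∃ H : Subgroup (ProjectiveSpecialLinearGroup (Fin 2) F),
      Nonempty (H ≃* alternatingGroup (Fin 5)) := by
  obtain ⟨τ, hτ⟩ := exists_golden h
  obtain ⟨r, t, hrt⟩ := exists_conic τ hτ
  let Z := Subgroup.center (SpecialLinearGroup (Fin 2) F)
  let x : ProjectiveSpecialLinearGroup (Fin 2) F := QuotientGroup.mk' Z (mX F)
  let y : ProjectiveSpecialLinearGroup (Fin 2) F := QuotientGroup.mk' Z (mY τ r t hrt)
  have hx : x * x = 1 := by
    show QuotientGroup.mk' Z (mX F) * QuotientGroup.mk' Z (mX F) = 1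
    rw [← map_mul]
    exact (QuotientGroup.eq_one_iff _).mpr neg_one_mem_center
  have hy : y * y * y = 1 := by
    show QuotientGroup.mk' Z (mY τ r t hrt) * QuotientGroup.mk' Z (mY τ r t hrt) *
      QuotientGroup.mk' Z (mY τ r t hrt) = 1
    rw [← map_mul, ← map_mul]
    have : mY τ r t hrt * mY τ r t hrt * mY τ r t hrt = 1 := by
      apply Subtype.ext
      simp only [Matrix.SpecialLinearGroup.coe_mul]
      exact mY_cube τ r t hrt
    rw [this, map_one]
  have hxy : (x * y) ^ 5 = 1 := by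
    show (QuotientGroup.mk' Z (mX F) * QuotientGroup.mk' Z (mY τ r t hrt)) ^ 5 = 1
    rw [← map_mul, ← map_pow]
    have : (mX F * mY τ r t hrt) ^ 5 = 1 := by
      apply Subtype.ext
      simp only [Matrix.SpecialLinearGroup.coe_pow, Matrix.SpecialLinearGroup.coe_mul]
      exact mXY_pow τ r t hrt hτ
    rw [this, map_one]
  have hne : x ≠ 1 := by
    intro h1
    exact mX_not_mem_center ((QuotientGroup.eq_one_iff _).mp h1)
  exact Ico.exists_A5 x y hx hy hxy hne

/-- PSL_2(q) has a subgroup isomorphic to A_5 iff 5 ∣ q(q² − 1). -/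
theorem result {F : Type*} [Field F] [Fintype F] {q : ℕ} (hF : Fintype.card F = q) : (∃ H : Subgroup (Matrix.ProjectiveSpecialLinearGroup (Fin 2) F), Nonempty (H ≃* alternatingGroup (Fin 5))) ↔ 5 ∣ q * (q ^ 2 - 1) := by
  subst hF
  constructor
  · rintro ⟨H, ⟨e⟩⟩
    have hcard : Nat.card (alternatingGroup (Fin 5)) = 60 := by
      rw [Nat.card_eq_fintype_card]
      decide
    have h60 : 60 ∣ Nat.card (ProjectiveSpecialLinearGroup (Fin 2) F) := by
      rw [← hcard, ← Nat.card_congr e.toEquiv]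
      exact Subgroup.card_subgroup_dvd_card H
    have h5 : 5 ∣ Nat.card (ProjectiveSpecialLinearGroup (Fin 2) F) :=
      Dvd.dvd.trans (by norm_num) h60
    have hmul := Cfsg.Agent.Helper2.card_PSL_mul (F := F) 2 (by norm_num)
    rw [Fin.prod_univ_two] at hmul
    simp only [Fin.val_zero, Fin.val_one, pow_zero, pow_one] at hmul
    have h5' : 5 ∣ (Fintype.card F ^ 2 - 1) * (Fintype.card F ^ 2 - Fintype.card F) := by
      rw [← hmul]
      exact Dvd.dvd.mul_left (Dvd.dvd.mul_left h5 _) _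
    have hq : 2 ≤ Fintype.card F := Fintype.one_lt_card
    obtain ⟨q, hqd⟩ : ∃ q, q = Fintype.card F := ⟨_, rfl⟩
    rw [← hqd] at h5' hq ⊢
    have e1 : q ^ 2 - q = q * (q - 1) := by
      obtain ⟨m, rfl⟩ : ∃ m, q = m + 1 := ⟨q - 1, by omega⟩
      simp only [Nat.add_sub_cancel]
      have : (m + 1) ^ 2 = (m + 1) * m + (m + 1) := by ring
      rw [this, Nat.add_sub_cancel]
    have e2 : q ^ 2 - 1 = (q - 1) * (q + 1) := by
      obtain ⟨m, rfl⟩ : ∃ m, q = m + 1 := ⟨q - 1, by omega⟩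
      simp only [Nat.add_sub_cancel]
      have : (m + 1) ^ 2 = m * (m + 1 + 1) + 1 := by ring
      rw [this, Nat.add_sub_cancel]
    have p5 : Nat.Prime 5 := by norm_num
    rw [e1] at h5'
    rcases (Nat.Prime.dvd_mul p5).mp h5' with h | h
    · exact Dvd.dvd.mul_left h _
    · rcases (Nat.Prime.dvd_mul p5).mp h with h | h
      · exact Dvd.dvd.mul_right h _
      · rw [e2]
        exact Dvd.dvd.mul_left (Dvd.dvd.mul_right h _) _
  · intro h
    exact exists_A5_of_dvd h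

end Cfsg.Agent.S0804
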