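import Mathlib
import Cfsg.Statements.S0537
import Cfsg.Agent.Lib.Helper3.Schmidt2

set_option autoImplicit false
open Pointwise
open Cfsg

namespace Cfsg.Agent.S0537

open Cfsg.Agent.Helper3

universe u

variable {G : Type u} [Group G]

theorem comm_of_isMulCommutative {Q : Subgroup G} (hQ : IsMulCommutative Q) {a b : G}
    (ha : a ∈ Q) (hb : b ∈ Q) : a * b = b * a :=
  congrArg Subtype.val (mul_comm' (⟨a, ha⟩ : Q) ⟨b, hb⟩)

/-- The subgroup of `q`-th powers of an abelian subgroup. -/
def powSubgroup (Q : Subgroup G) (hQ : IsMulCommutative Q) (q : ℕ) : Subgroup G where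
  carrier := {z | ∃ b ∈ Q, z = b ^ q}
  one_mem' := ⟨1, Q.one_mem, by simp⟩
  mul_mem' := by
    rintro _ _ ⟨b, hb, rfl⟩ ⟨c, hc, rfl⟩
    exact ⟨b * c, Q.mul_mem hb hc,
      ((Commute.mul_pow (comm_of_isMulCommutative hQ hb hc) q)).symm⟩
  inv_mem' := by
    rintro _ ⟨b, hb, rfl⟩
    exact ⟨b⁻¹, Q.inv_mem hb, by simp⟩

/-- The subgroup of elements of exponent `q` of an abelian subgroup. -/
def omegaSubgroup (Q : Subgroup G) (hQ : IsMulCommutative Q) (q : ℕ) : Subgroup G where
  carrier := {z | z ∈ Q ∧ z ^ q = 1}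
  one_mem' := ⟨Q.one_mem, by simp⟩
  mul_mem' := by
    rintro b c ⟨hb, hb1⟩ ⟨hc, hc1⟩
    refine ⟨Q.mul_mem hb hc, ?_⟩
    rw [Commute.mul_pow (comm_of_isMulCommutative hQ hb hc) q, hb1, hc1, one_mul]
  inv_mem' := by
    rintro b ⟨hb, hb1⟩
    exact ⟨Q.inv_mem hb, by rw [inv_pow, hb1, inv_one]⟩

theorem powSubgroup_normal (Q : Subgroup G) [hQn : Q.Normal] (hQ : IsMulCommutative Q) (q : ℕ) :
    (powSubgroup Q hQ q).Normal := by
  constructor
  rintro _ ⟨b, hb, rfl⟩ g
  exact ⟨g * b * g⁻¹, hQn.conj_mem b hb g, by rw [conj_pow]⟩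

theorem omegaSubgroup_normal (Q : Subgroup G) [hQn : Q.Normal] (hQ : IsMulCommutative Q) (q : ℕ) :
    (omegaSubgroup Q hQ q).Normal := by
  constructor
  rintro b ⟨hb, hb1⟩ g
  exact ⟨hQn.conj_mem b hb g, by rw [conj_pow, hb1]; group⟩

theorem le_of_sup_eq_top_of_disjoint {P Q R : Subgroup G} [R.Normal] (hRQ : R ≤ Q)
    (hdis : ∀ z, z ∈ P → z ∈ Q → z = 1) (htop : P ⊔ R = ⊤) : Q ≤ R := by
  intro z hz
  have hz' : z ∈ ((P ⊔ R : Subgroup G) : Set G) := by rw [htop]; exact Set.mem_univ _
  rw [Subgroup.mul_normal] at hz'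
  obtain ⟨a, ha, b, hb, hab⟩ := Set.mem_mul.mp hz'
  have ha1 : a = 1 := by
    apply hdis a ha
    have : a = z * b⁻¹ := by rw [← hab]; group
    rw [this]
    exact Q.mul_mem hz (Q.inv_mem (hRQ hb))
  rw [ha1, one_mul] at hab
  rw [← hab]; exact hb

theorem conj_pow_eq {x a c : G} (hc : x * a * x⁻¹ = a * c) (hxc : x * c = c * x) (n : ℕ) :
    x ^ n * a * (x ^ n)⁻¹ = a * c ^ n := by
  induction n with
  | zero => simp
  | succ n ih =>
    have hxcn : x * c ^ n * x⁻¹ = c ^ n := by
      have : Commute x (c ^ n) := (show Commute x c from hxc).pow_right n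
      rw [this.eq]; group
    calc x ^ (n + 1) * a * (x ^ (n + 1))⁻¹
        = x * (x ^ n * a * (x ^ n)⁻¹) * x⁻¹ := by rw [pow_succ']; group
      _ = x * (a * c ^ n) * x⁻¹ := by rw [ih]
      _ = (x * a * x⁻¹) * (x * c ^ n * x⁻¹) := by group
      _ = a * c * c ^ n := by rw [hc, hxcn]
      _ = a * c ^ (n + 1) := by rw [pow_succ', mul_assoc]

/-- A finite non-abelian group in which every proper subgroup is abelian is either of prime-power order, or is generated by a cyclic Sylow p-subgroup and a normal Sylow q-subgroup that is elementary abelian, for distinct primes p and q. -/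
theorem result {G : Type*} [Group G] [Finite G] (hna : ¬ IsMulCommutative G) (h : ∀ H : Subgroup G, H ≠ ⊤ → IsMulCommutative H) : (∃ p : ℕ, p.Prime ∧ IsPGroup p G) ∨ ∃ p q : ℕ, p.Prime ∧ q.Prime ∧ p ≠ q ∧ ∃ (P : Sylow p G) (Q : Sylow q G), IsCyclic P ∧ (Q : Subgroup G).Normal ∧ Cfsg.IsElementaryAbelian q (Q : Subgroup G) ∧ (P : Subgroup G) ⊔ Q = ⊤ := by
  classical
  have hprop : ∀ H : Subgroup G, H ≠ ⊤ → Group.IsNilpotent H := by
    intro H hH
    have := h H hH
    have hc : ∀ a b : H, a * b = b * a := fun a b => mul_comm' a b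
    let _ : CommGroup H := { (inferInstance : Group H) with mul_comm := hc }
    exact CommGroup.isNilpotent
  by_cases hsyl : ∃ (p : ℕ) (_ : Fact p.Prime) (P : Sylow p G), (P : Subgroup G) = ⊤
  · left
    obtain ⟨p, hp, P, hP⟩ := hsyl
    refine ⟨p, hp.out, ?_⟩
    have := P.isPGroup'
    rw [hP] at this
    exact this.of_equiv Subgroup.topEquiv
  · right
    push Not at hsyl
    have hnn : ¬ Group.IsNilpotent G := by
      intro hnil
      apply hna
      obtain ⟨e⟩ := ((Group.isNilpotent_of_finite_tfae (G := G)).out 0 4 rfl rfl).mp hnil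
      constructor
      constructor
      intro a b
      have hpi : ∀ f g : (∀ p : (Nat.card G).primeFactors, ∀ P : Sylow p G, (↑P : Subgroup G)),
          f * g = g * f := by
        intro f g
        funext p P
        have hpf : Fact (p : ℕ).Prime := ⟨Nat.prime_of_mem_primeFactors p.2⟩
        have := h (P : Subgroup G) (hsyl p hpf P)
        exact mul_comm' (f p P) (g p P)
      have := hpi (e.symm a) (e.symm b)
      rw [← map_mul, ← map_mul] at this
      exact e.symm.injective this
    obtain ⟨p, q, hp, hq, hpq, P, Q, hPc, hQn, hPQ⟩ := minimalNonNilpotent_structure hnn hprop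
    have hpf : Fact p.Prime := ⟨hp⟩
    have hqf : Fact q.Prime := ⟨hq⟩
    refine ⟨p, q, hp, hq, hpq, P, Q, hPc, hQn, ?_, hPQ⟩
    have hQtop : (Q : Subgroup G) ≠ ⊤ := hsyl q hqf Q
    have hPtop : (P : Subgroup G) ≠ ⊤ := hsyl p hpf P
    have hQc : IsMulCommutative (Q : Subgroup G) := h _ hQtop
    have hPcomm : IsMulCommutative (P : Subgroup G) := h _ hPtop
    refine ⟨hQc, ?_⟩
    by_contra hexp
    push Not at hexp
    obtain ⟨a₀, ha₀Q, ha₀⟩ := hexp
    apply hna
    have hdis : ∀ z, z ∈ (P : Subgroup G) → z ∈ (Q : Subgroup G) → z = 1 := by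
      intro z hzP hzQ
      have := (IsPGroup.disjoint_of_ne p q hpq _ _ P.isPGroup' Q.isPGroup')
      exact Subgroup.disjoint_def.mp this hzP hzQ
    set R₁ := powSubgroup (Q : Subgroup G) hQc q with hR₁
    set R₂ := omegaSubgroup (Q : Subgroup G) hQc q with hR₂
    have hR₁n : R₁.Normal := powSubgroup_normal _ hQc q
    have hR₂n : R₂.Normal := omegaSubgroup_normal _ hQc q
    have hR₁Q : R₁ ≤ Q := by
      rintro _ ⟨b, hb, rfl⟩
      exact Subgroup.pow_mem _ hb q
    have hR₂Q : R₂ ≤ Q := fun z hz => hz.1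
    -- `P ⊔ R₂` is proper
    have hPR₂ : (P : Subgroup G) ⊔ R₂ ≠ ⊤ := by
      intro htop
      have := le_of_sup_eq_top_of_disjoint hR₂Q hdis htop
      exact ha₀ (this ha₀Q).2
    -- `P ⊔ R₁` is proper
    have hPR₁ : (P : Subgroup G) ⊔ R₁ ≠ ⊤ := by
      intro htop
      have hle := le_of_sup_eq_top_of_disjoint hR₁Q hdis htop
      -- the `q`-power map on `Q` is surjective, hence injective
      have hsurj : Function.Surjective (fun b : (Q : Subgroup G) => b ^ q) := by
        intro z
        obtain ⟨b, hb, hzb⟩ := hle z.2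
        exact ⟨⟨b, hb⟩, Subtype.ext hzb.symm⟩
      have hinj := Finite.injective_iff_surjective.mpr hsurj
      have hQbot : Nat.card (Q : Subgroup G) ≠ 1 := by
        intro h1
        have : a₀ = 1 := by
          have := Subgroup.card_eq_one.mp h1
          rw [this] at ha₀Q
          exact Subgroup.mem_bot.mp ha₀Q
        apply ha₀; rw [this, one_pow]
      have hqdvd : q ∣ Nat.card (Q : Subgroup G) := by
        obtain ⟨k, hk⟩ := IsPGroup.iff_card.mp Q.isPGroup'
        rw [hk]
        rcases Nat.eq_zero_or_pos k with h0 | hpos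
        · rw [h0, pow_zero] at hk; exact absurd hk hQbot
        · exact dvd_pow_self q hpos.ne'
      obtain ⟨z, hz⟩ := exists_prime_orderOf_dvd_card' (G := (Q : Subgroup G)) q hqdvd
      have hz1 : z ^ q = (1 : (Q : Subgroup G)) ^ q := by
        rw [one_pow]
        have := pow_orderOf_eq_one z
        rwa [hz] at this
      have := hinj hz1
      rw [this, orderOf_one] at hz
      exact hq.one_lt.ne hz
    have hc₁ := h _ hPR₁
    have hc₂ := h _ hPR₂
    -- `P` centralizes `Q`
    have hcent : ∀ x ∈ (P : Subgroup G), ∀ a ∈ (Q : Subgroup G), x * a = a * x := by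
      intro x hx a ha
      set c := a⁻¹ * (x * a * x⁻¹) with hc
      have hxaQ : x * a * x⁻¹ ∈ (Q : Subgroup G) := hQn.conj_mem a ha x
      have hcQ : c ∈ (Q : Subgroup G) := Q.mul_mem (Q.inv_mem ha) hxaQ
      have hxaq : x * a ^ q = a ^ q * x :=
        comm_of_isMulCommutative hc₁ (Subgroup.mem_sup_left hx)
          (Subgroup.mem_sup_right ⟨a, ha, rfl⟩)
      have hcq : c ^ q = 1 := by
        rw [hc, Commute.mul_pow (comm_of_isMulCommutative hQc (Q.inv_mem ha) hxaQ) q, conj_pow,
          inv_pow, hxaq]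
        group
      have hcR₂ : c ∈ R₂ := ⟨hcQ, hcq⟩
      have hxc : x * c = c * x :=
        comm_of_isMulCommutative hc₂ (Subgroup.mem_sup_left hx) (Subgroup.mem_sup_right hcR₂)
      have hconj : x * a * x⁻¹ = a * c := by rw [hc]; group
      have hn := conj_pow_eq hconj hxc (orderOf x)
      rw [pow_orderOf_eq_one, inv_one, mul_one, one_mul] at hn
      have hcn : c ^ orderOf x = 1 := by
        have := mul_left_cancel (a := a) (b := 1) (c := c ^ orderOf x) (by rw [mul_one]; exact hn)
        exact this.symm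
      have ho1 : orderOf c ∣ orderOf x := orderOf_dvd_of_pow_eq_one hcn
      have ho2 : orderOf c ∣ q := orderOf_dvd_of_pow_eq_one hcq
      have ho3 : orderOf x ∣ Nat.card (P : Subgroup G) := Subgroup.orderOf_dvd_natCard _ hx
      obtain ⟨k, hk⟩ := IsPGroup.iff_card.mp P.isPGroup'
      rw [hk] at ho3
      have hcop : (p ^ k).Coprime q := Nat.Coprime.pow_left _ ((Nat.coprime_primes hp hq).mpr hpq)
      have ho4 : orderOf c = 1 :=
        Nat.eq_one_of_dvd_coprimes hcop (ho1.trans ho3) ho2
      have hc1 : c = 1 := orderOf_eq_one_iff.mp ho4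
      rw [hc1, mul_one] at hconj
      calc x * a = x * a * x⁻¹ * x := by group
        _ = a * x := by rw [hconj]
    -- hence `G` is abelian
    have hPcen : (P : Subgroup G) ≤ Subgroup.center G := by
      rw [← Subgroup.centralizer_univ, ← Subgroup.coe_top, ← hPQ, Subgroup.le_centralizer_iff]
      apply sup_le
      · intro y hy
        rw [Subgroup.mem_centralizer_iff]
        intro x hx
        exact comm_of_isMulCommutative hPcomm hx hy
      · intro a ha
        rw [Subgroup.mem_centralizer_iff]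
        intro x hx
        exact hcent x hx a ha
    have hQcen : (Q : Subgroup G) ≤ Subgroup.center G := by
      rw [← Subgroup.centralizer_univ, ← Subgroup.coe_top, ← hPQ, Subgroup.le_centralizer_iff]
      apply sup_le
      · intro x hx
        rw [Subgroup.mem_centralizer_iff]
        intro a ha
        exact (hcent x hx a ha).symm
      · intro b hb
        rw [Subgroup.mem_centralizer_iff]
        intro a ha
        exact comm_of_isMulCommutative hQc ha hb
    have hcen : Subgroup.center G = ⊤ := by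
      rw [eq_top_iff, ← hPQ]
      exact sup_le hPcen hQcen
    constructor
    constructor
    intro a b
    have : b ∈ Subgroup.center G := by rw [hcen]; exact Subgroup.mem_top b
    exact (Subgroup.mem_center_iff.mp this a)

end Cfsg.Agent.S0537
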