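import Mathlib
import Cfsg.Statements.S0556
import Cfsg.Agent.Lib.Helper3.AbelianMaximal
import Cfsg.Agent.Lib.Helper3.Schmidt
import Cfsg.Agent.Lib.Helper3.Supersolvable2

set_option autoImplicit false
open Pointwise
open Cfsg

namespace Cfsg.Agent.S0556

open scoped commutatorElement
open Cfsg.Agent.Helper3

/-- If a finite group has a maximal subgroup that is abelian, then the third term of its derived series is trivial (so the group is solvable of derived length at most three). -/
theorem result {G : Type*} [Group G] [Finite G] (A : Subgroup G) (hA : IsCoatom A) [IsMulCommutative A] : derivedSeries G 3 = ⊥ := by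
  classical
  have hAc : ∀ a ∈ A, ∀ b ∈ A, a * b = b * a := fun a ha b hb =>
    congrArg Subtype.val (mul_comm' (⟨a, ha⟩ : A) ⟨b, hb⟩)
  have hcomm_bot : ∀ S : Subgroup G, (∀ a ∈ S, ∀ b ∈ S, a * b = b * a) → ⁅S, S⁆ = ⊥ := by
    intro S hS
    rw [eq_bot_iff, Subgroup.commutator_le]
    intro a ha b hb
    rw [Subgroup.mem_bot, commutatorElement_eq_one_iff_mul_comm]
    exact hS a ha b hb
  have hAA : ⁅A, A⁆ = ⊥ := hcomm_bot A hAc
  by_cases hn : A.Normal
  · obtain ⟨x, hx⟩ : ∃ x, x ∉ A := by
      by_contra h
      push Not at h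
      exact hA.1 (eq_top_iff.mpr (fun y _ => h y))
    have hsup : A ⊔ Subgroup.zpowers x = ⊤ := by
      apply hA.2
      refine lt_of_le_of_ne le_sup_left ?_
      intro heq
      apply hx
      rw [heq]
      exact Subgroup.mem_sup_right (Subgroup.mem_zpowers x)
    have hzc : ∀ a ∈ Subgroup.zpowers x, ∀ b ∈ Subgroup.zpowers x, a * b = b * a := by
      intro a ha b hb
      obtain ⟨k, rfl⟩ := Subgroup.mem_zpowers_iff.mp ha
      obtain ⟨l, rfl⟩ := Subgroup.mem_zpowers_iff.mp hb
      rw [← zpow_add, ← zpow_add, add_comm]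
    have h1 : derivedSeries G 1 ≤ A := by
      rw [derivedSeries_one, commutator_def, Subgroup.commutator_le]
      intro g _ h _
      exact commutator_mem_of_sup_eq_top A (Subgroup.zpowers x) hzc hsup g h
    have h2 : derivedSeries G 2 = ⊥ := by
      rw [show (2 : ℕ) = 1 + 1 from rfl, derivedSeries_succ, eq_bot_iff, ← hAA]
      exact Subgroup.commutator_mono h1 h1
    rw [show (3 : ℕ) = 2 + 1 from rfl, derivedSeries_succ, h2]
    exact hcomm_bot ⊥ (fun a ha b hb => by
      rw [Subgroup.mem_bot] at ha hb; rw [ha, hb])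
  · have hNA : Subgroup.normalizer (A : Set G) = A := by
      have hle : A ≤ Subgroup.normalizer (A : Set G) := Subgroup.le_normalizer
      rcases hle.lt_or_eq with hlt | heq
      · exact absurd (Subgroup.normalizer_eq_top_iff.mp (hA.2 _ hlt)) hn
      · exact heq.symm
    set Z := Subgroup.center G with hZ
    have hZA : Z ≤ A := by
      by_contra hnle
      apply hn
      rw [← Subgroup.normalizer_eq_top_iff, eq_top_iff]
      have htop : A ⊔ Z = ⊤ := by
        apply hA.2
        refine lt_of_le_of_ne le_sup_left ?_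
        intro heq
        apply hnle
        rw [heq]; exact le_sup_right
      rw [← htop]
      exact sup_le Subgroup.le_normalizer (Subgroup.center_le_normalizer _)
    have hTI : ∀ x, x ∉ A → A ⊓ MulAut.conj x • A ≤ Z := by
      intro x hx
      have hB := isCoatom_conj_smul hA x
      have hBA : MulAut.conj x • A ≠ A := by
        intro heq
        apply hx
        rw [← hNA]
        exact mem_normalizer_of_conj_smul_eq heq
      have htop : A ⊔ MulAut.conj x • A = ⊤ := by
        apply hA.2
        refine lt_of_le_of_ne le_sup_left ?_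
        intro heq
        have hle : MulAut.conj x • A ≤ A :=
          le_trans (le_sup_right : MulAut.conj x • A ≤ A ⊔ MulAut.conj x • A) heq.symm.le
        rcases hle.lt_or_eq with hlt | heq'
        · exact hA.1 (hB.2 _ hlt)
        · exact hBA heq'
      intro y hy
      obtain ⟨hyA, hyB⟩ := Subgroup.mem_inf.mp hy
      have hcen : A ⊔ MulAut.conj x • A ≤ Subgroup.centralizer ({y} : Set G) := by
        apply sup_le
        · intro a ha
          rw [Subgroup.mem_centralizer_singleton_iff]
          exact hAc a ha y hyA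
        · intro b hb
          rw [Subgroup.mem_centralizer_singleton_iff]
          rw [mem_conj_smul_iff] at hb hyB
          have := hAc _ hb _ hyB
          have e1 : b * y = x * ((x⁻¹ * b * x) * (x⁻¹ * y * x)) * x⁻¹ := by group
          have e2 : y * b = x * ((x⁻¹ * y * x) * (x⁻¹ * b * x)) * x⁻¹ := by group
          rw [e1, e2, this]
      rw [htop] at hcen
      rw [hZ, Subgroup.mem_center_iff]
      intro g
      have := hcen (Subgroup.mem_top g)
      rw [Subgroup.mem_centralizer_singleton_iff] at this
      exact this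
    have hsurj : Function.Surjective (QuotientGroup.mk' Z) := QuotientGroup.mk'_surjective Z
    set A' := A.map (QuotientGroup.mk' Z) with hA'
    have hA'co : IsCoatom A' := isCoatom_map_mk' Z A hA hZA
    have hA'c : ∀ a ∈ A', ∀ b ∈ A', a * b = b * a := by
      rintro _ ⟨a, ha, rfl⟩ _ ⟨b, hb, rfl⟩
      rw [← map_mul, ← map_mul, hAc a ha b hb]
    have hF : Cfsg.IsFrobeniusComplement A' := by
      refine ⟨?_, hA'co.1, ?_⟩
      · intro hbot
        apply hn
        have hAZ : A ≤ Z := by
          intro a ha
          have : QuotientGroup.mk' Z a ∈ A' := Subgroup.mem_map_of_mem _ ha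
          rw [hbot, Subgroup.mem_bot] at this
          exact (QuotientGroup.eq_one_iff a).mp this
        have : A = Z := le_antisymm hAZ hZA
        rw [this]
        infer_instance
      · intro g' hg'
        obtain ⟨g, rfl⟩ := hsurj g'
        have hg : g ∉ A := fun h => hg' (Subgroup.mem_map_of_mem _ h)
        rw [eq_bot_iff]
        intro z hz
        obtain ⟨hz1, hz2⟩ := Subgroup.mem_inf.mp hz
        obtain ⟨a, ha, rfl⟩ := hz1
        rw [mem_conj_smul_iff] at hz2
        rw [← map_inv, ← map_mul, ← map_mul] at hz2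
        obtain ⟨a', ha', haa'⟩ := hz2
        have hz3 : a'⁻¹ * (g⁻¹ * a * g) ∈ Z := (QuotientGroup.eq).mp haa'
        have hgA : g⁻¹ * a * g ∈ A := by
          have : g⁻¹ * a * g = a' * (a'⁻¹ * (g⁻¹ * a * g)) := by group
          rw [this]
          exact A.mul_mem ha' (hZA hz3)
        have haZ : a ∈ Z := hTI g hg (Subgroup.mem_inf.mpr ⟨ha, by rw [mem_conj_smul_iff]; exact hgA⟩)
        rw [Subgroup.mem_bot]
        exact (QuotientGroup.eq_one_iff a).mpr haZ
    have hq := derivedSeries_two_of_frobenius A' hA'co hA'c hF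
    have h2 : derivedSeries G 2 ≤ Z := by
      have h3 := map_derivedSeries_le_derivedSeries (QuotientGroup.mk' Z) 2
      rw [hq] at h3
      intro y hy
      have : QuotientGroup.mk' Z y ∈ (⊥ : Subgroup (G ⧸ Z)) := h3 (Subgroup.mem_map_of_mem _ hy)
      rw [Subgroup.mem_bot] at this
      exact (QuotientGroup.eq_one_iff y).mp this
    have hZZ : ⁅Z, Z⁆ = ⊥ := hcomm_bot Z (fun a ha b _ => ((Subgroup.mem_center_iff.mp ha) b).symm)
    rw [show (3 : ℕ) = 2 + 1 from rfl, derivedSeries_succ, eq_bot_iff, ← hZZ]
    exact Subgroup.commutator_mono h2 h2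

end Cfsg.Agent.S0556
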