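import Mathlib
import Cfsg.Statements.S0228
import Cfsg.Agent.Lib.Helper2.SylowSub

set_option autoImplicit false
open Cfsg

namespace Cfsg.Agent.S0228

open scoped Pointwise
open Cfsg.Agent.Helper2

theorem case_one {G : Type*} [Group G] [Finite G] (hG : Nat.card G = 12)
    (h1 : Nat.card (Sylow 3 G) = 1) : ∃ z : G, orderOf z = 2 ∧ z ∈ Subgroup.center G := by
  haveI : Fact (Nat.Prime 3) := ⟨by norm_num⟩
  haveI : Fact (Nat.Prime 2) := ⟨Nat.prime_two⟩
  obtain ⟨P⟩ : Nonempty (Sylow 3 G) := inferInstance
  obtain ⟨V⟩ : Nonempty (Sylow 2 G) := inferInstance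
  have hPcard : Nat.card P = 3 := by
    have := sylow_card_of_card_eq (p := 3) (a := 1) (m := 4) P (by rw [hG]; norm_num) (by norm_num)
    simpa using this
  have hVcard : Nat.card V = 2 ^ 2 :=
    sylow_card_of_card_eq (p := 2) (a := 2) (m := 3) V (by rw [hG]; norm_num) (by norm_num)
  haveI : Subsingleton (Sylow 3 G) := (Nat.card_eq_one_iff_unique.mp h1).1
  haveI : (P : Subgroup G).Normal := Sylow.normal_of_subsingleton P
  haveI hPcyc : IsCyclic (P : Subgroup G) := isCyclic_of_prime_card hPcard
  have hAut : Nat.card (MulAut (P : Subgroup G)) = 2 := by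
    rw [IsCyclic.card_mulAut, hPcard]; rfl
  let f : (V : Subgroup G) →* MulAut (P : Subgroup G) := (MulAut.conjNormal).comp (V : Subgroup G).subtype
  have hk1 := Subgroup.card_mul_index f.ker
  rw [Subgroup.index_ker, hVcard] at hk1
  have hr : Nat.card f.range ∣ 2 := by
    have := Subgroup.card_subgroup_dvd_card f.range
    rwa [hAut] at this
  have hkdvd : 2 ∣ Nat.card f.ker := by
    rcases (Nat.dvd_prime Nat.prime_two).mp hr with h | h
    · rw [h] at hk1; omega
    · rw [h] at hk1; omega
  obtain ⟨z', hz'⟩ := exists_prime_orderOf_dvd_card' 2 hkdvd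
  refine ⟨((z' : (V : Subgroup G)) : G), ?_, ?_⟩
  · rw [Subgroup.orderOf_coe, Subgroup.orderOf_coe, hz']
  · set z : G := ((z' : (V : Subgroup G)) : G) with hz
    have hzV : z ∈ (V : Subgroup G) := (z' : (V : Subgroup G)).2
    have hPle : (P : Subgroup G) ≤ Subgroup.centralizer ({z} : Set G) := by
      intro p hp
      rw [Subgroup.mem_centralizer_singleton_iff]
      have hker : f z' = 1 := z'.2
      have h2 : (f z') ⟨p, hp⟩ = ⟨p, hp⟩ := by rw [hker]; rfl
      have h3 := congrArg Subtype.val h2
      simp only [f, MonoidHom.coe_comp, Function.comp_apply, Subgroup.subtype_apply,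
        MulAut.conjNormal_apply] at h3
      -- h3 : z * p * z⁻¹ = p
      calc p * z = (z * p * z⁻¹) * z := by rw [h3]
        _ = z * p := by group
    have hVle : (V : Subgroup G) ≤ Subgroup.centralizer ({z} : Set G) := by
      intro v hv
      rw [Subgroup.mem_centralizer_singleton_iff]
      have hcomm := IsPGroup.isMulCommutative_of_card_eq_prime_sq hVcard
      have := hcomm.is_comm.comm ⟨v, hv⟩ ⟨z, hzV⟩
      exact congrArg Subtype.val this
    have h3 : 3 ∣ Nat.card (Subgroup.centralizer ({z} : Set G)) := by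
      rw [← hPcard]; exact Subgroup.card_dvd_of_le hPle
    have h4 : 4 ∣ Nat.card (Subgroup.centralizer ({z} : Set G)) := by
      have : (4 : ℕ) = 2 ^ 2 := by norm_num
      rw [this, ← hVcard]; exact Subgroup.card_dvd_of_le hVle
    have h12 : 12 ∣ Nat.card (Subgroup.centralizer ({z} : Set G)) := by
      have : (12 : ℕ) = 3 * 4 := by norm_num
      rw [this]
      exact Nat.Coprime.mul_dvd_of_dvd_of_dvd (by norm_num) h3 h4
    have hle : Nat.card (Subgroup.centralizer ({z} : Set G)) ∣ 12 := by
      rw [← hG]; exact Subgroup.card_subgroup_dvd_card _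
    have hcard : Nat.card (Subgroup.centralizer ({z} : Set G)) = Nat.card G := by
      rw [hG]; exact Nat.dvd_antisymm hle h12
    have htop := Subgroup.eq_top_of_card_eq _ hcard
    rw [Subgroup.mem_center_iff]
    intro g
    have : g ∈ Subgroup.centralizer ({z} : Set G) := by rw [htop]; exact Subgroup.mem_top g
    rw [Subgroup.mem_centralizer_singleton_iff] at this
    exact this

open Classical in
theorem case_four {G : Type*} [Group G] [Finite G] (hG : Nat.card G = 12)
    (h4 : Nat.card (Sylow 3 G) = 4) : Nonempty (G ≃* alternatingGroup (Fin 4)) := by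
  haveI : Fact (Nat.Prime 3) := ⟨by norm_num⟩
  haveI := Fintype.ofFinite (Sylow 3 G)
  have hcardQ : ∀ Q : Sylow 3 G, Nat.card Q = 3 := by
    intro Q
    have := sylow_card_of_card_eq (p := 3) (a := 1) (m := 4) Q (by rw [hG]; norm_num) (by norm_num)
    simpa using this
  -- normalizer of a Sylow 3 is itself
  have hnorm : ∀ Q : Sylow 3 G, Subgroup.normalizer ((Q : Subgroup G) : Set G) = Q := by
    intro Q
    have h1 : Nat.card (Sylow 3 G) = (Subgroup.normalizer ((Q : Subgroup G) : Set G)).index :=
      Sylow.card_eq_index_normalizer Q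
    rw [h4] at h1
    have h2 := Subgroup.card_mul_index (Subgroup.normalizer ((Q : Subgroup G) : Set G))
    rw [← h1, hG] at h2
    have h3 : Nat.card (Subgroup.normalizer ((Q : Subgroup G) : Set G)) = 3 := by omega
    symm
    apply Subgroup.eq_of_le_of_card_ge Subgroup.le_normalizer
    rw [h3, hcardQ Q]
  let φ : G →* Equiv.Perm (Sylow 3 G) := MulAction.toPermHom G (Sylow 3 G)
  have hker : ∀ g : G, φ g = 1 → ∀ Q : Sylow 3 G, g ∈ Q := by
    intro g hg Q
    have h1 : g • Q = Q := by
      have := congrArg (fun σ : Equiv.Perm (Sylow 3 G) => σ Q) hg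
      simpa [φ] using this
    have h2 : g ∈ Subgroup.normalizer ((Q : Subgroup G) : Set G) :=
      Sylow.smul_eq_iff_mem_normalizer.mp h1
    rw [hnorm Q] at h2
    exact h2
  have hinj : Function.Injective φ := by
    rw [injective_iff_map_eq_one]
    intro g hg
    by_contra hg1
    -- two distinct Sylow subgroups
    have hnontriv : Nontrivial (Sylow 3 G) := by
      rw [← Fintype.one_lt_card_iff_nontrivial, ← Nat.card_eq_fintype_card, h4]
      norm_num
    obtain ⟨Q₁, Q₂, hne⟩ := hnontriv
    have hg3 : orderOf g = 3 := by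
      have h1 := Subgroup.orderOf_dvd_natCard _ (hker g hg Q₁)
      rw [hcardQ Q₁] at h1
      rcases (Nat.dvd_prime Nat.prime_three).mp h1 with h | h
      · exact absurd (orderOf_eq_one_iff.mp h) hg1
      · exact h
    have hz : ∀ Q : Sylow 3 G, Subgroup.zpowers g = Q := by
      intro Q
      apply Subgroup.eq_of_le_of_card_ge
      · rw [Subgroup.zpowers_le]; exact hker g hg Q
      · rw [Nat.card_zpowers, hg3, hcardQ Q]
    apply hne
    apply Sylow.ext
    rw [← hz Q₁, ← hz Q₂]
  -- range has index 2
  have hrange_card : Nat.card φ.range = 12 := by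
    rw [← hG]
    exact (Nat.card_congr (MonoidHom.ofInjective hinj).toEquiv).symm
  have hperm : Nat.card (Equiv.Perm (Sylow 3 G)) = 24 := by
    rw [Nat.card_perm, h4]; rfl
  have hidx : φ.range.index = 2 := by
    have := Subgroup.card_mul_index φ.range
    rw [hrange_card, hperm] at this
    omega
  have halt := Equiv.Perm.eq_alternatingGroup_of_index_eq_two hidx
  have e1 : G ≃* φ.range := MonoidHom.ofInjective hinj
  have e2 : φ.range ≃* alternatingGroup (Sylow 3 G) := MulEquiv.subgroupCongr halt
  have hcard4 : Fintype.card (Sylow 3 G) = 4 := by rw [← Nat.card_eq_fintype_card, h4]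
  have e3 : Sylow 3 G ≃ Fin 4 := Fintype.equivFinOfCardEq hcard4
  exact ⟨(e1.trans e2).trans (Equiv.altCongrHom e3)⟩

/-- A group of order 12 in which no involution is central is isomorphic to the alternating group on four letters. -/
theorem result {G : Type*} [Group G] [Finite G] (hG : Nat.card G = 12) (hz : ∀ z : G, orderOf z = 2 → z ∉ Subgroup.center G) : Nonempty (G ≃* alternatingGroup (Fin 4)) := by
  haveI : Fact (Nat.Prime 3) := ⟨by norm_num⟩
  obtain ⟨P⟩ : Nonempty (Sylow 3 G) := inferInstance
  have hPcard : Nat.card P = 3 := by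
    have := sylow_card_of_card_eq (p := 3) (a := 1) (m := 4) P (by rw [hG]; norm_num) (by norm_num)
    simpa using this
  have hmod := card_sylow_modEq_one 3 G
  have hdvd := Sylow.card_dvd_index P
  have hidx : (P : Subgroup G).index = 4 := by
    have := Subgroup.card_mul_index (P : Subgroup G)
    rw [hPcard, hG] at this
    omega
  rw [hidx] at hdvd
  have hle : Nat.card (Sylow 3 G) ≤ 4 := Nat.le_of_dvd (by norm_num) hdvd
  have hpos : 0 < Nat.card (Sylow 3 G) := Nat.card_pos
  unfold Nat.ModEq at hmod
  have hcases : Nat.card (Sylow 3 G) = 1 ∨ Nat.card (Sylow 3 G) = 4 := by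
    interval_cases h : Nat.card (Sylow 3 G) <;> simp_all
  rcases hcases with h1 | h4
  · exfalso
    obtain ⟨z, hz2, hzc⟩ := case_one hG h1
    exact hz z hz2 hzc
  · exact case_four hG h4

end Cfsg.Agent.S0228
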