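import Mathlib
import Cfsg.Statements.S2507
import Cfsg.Agent.Lib.Helper13.ConicCount
import Cfsg.Agent.Lib.Helper12.SL2
import Cfsg.Agent.Lib.Helper12.SL2Upper

set_option autoImplicit false
open Cfsg

namespace Cfsg.Agent.S2507

open Matrix Finset Cfsg.Agent.Helper13 Cfsg.Agent.Helper12

section
variable {F : Type*} [Field F] [Fintype F] [DecidableEq F] [CharP F 2]

/-- number of roots of `r² + t r + 1` -/
def Rt (t : F) : ℕ := (univ.filter (fun r : F => r * r + t * r + 1 = 0)).card

/-- number of points of the conic -/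
def Nt (t : F) : ℕ := (univ.filter (fun p : F × F => conicQ t p = 1)).card

theorem Nt_add_Rt (t : F) : Nt t + Rt t = Fintype.card F + 1 := conic_count t

theorem Rt_le_two (t : F) : Rt t ≤ 2 := by
  unfold Rt
  by_cases h : ∃ r₁ : F, r₁ * r₁ + t * r₁ + 1 = 0
  · obtain ⟨r₁, h₁⟩ := h
    have hsub : (univ.filter (fun r : F => r * r + t * r + 1 = 0)) ⊆ {r₁, r₁ + t} := by
      intro r hr
      simp only [mem_filter, mem_univ, true_and] at hr
      have : (r - r₁) * (r - (r₁ + t)) = 0 := by
        linear_combination hr - h₁ + (-(r * r₁) - r * t + r₁ * r₁ + r₁ * t) * (CharTwo.two_eq_zero (R := F))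
      simp only [mem_insert, mem_singleton]
      rcases mul_eq_zero.1 this with h | h
      · left; exact sub_eq_zero.1 h
      · right; exact sub_eq_zero.1 h
    exact (card_le_card hsub).trans card_le_two
  · have : (univ.filter (fun r : F => r * r + t * r + 1 = 0)) = ∅ := by
      rw [filter_eq_empty_iff]
      intro r _ hr
      exact h ⟨r, hr⟩
    rw [this]; simp

theorem Rt_zero : Rt (0 : F) = 1 := by
  unfold Rt
  have : (univ.filter (fun r : F => r * r + 0 * r + 1 = 0)) = {1} := by
    ext r
    simp only [mem_filter, mem_univ, true_and, mem_singleton]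
    constructor
    · intro h
      have h2 : (r - 1) * (r - 1) = 0 := by
        linear_combination h - (r) * (CharTwo.two_eq_zero (R := F))
      have := mul_self_eq_zero.1 h2
      exact sub_eq_zero.1 this
    · rintro rfl
      linear_combination (CharTwo.two_eq_zero (R := F))
  rw [this, card_singleton]

theorem Rt_split (l : F) (h0 : l ≠ 0) (h1 : l ≠ 1) : Rt (l + l⁻¹) = 2 := by
  apply le_antisymm (Rt_le_two _)
  unfold Rt
  have hne : l ≠ l⁻¹ := by
    intro h
    have h2 : l * l = 1 := by
      nth_rewrite 2 [h]; exact mul_inv_cancel₀ h0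
    have h3 : (l - 1) * (l - 1) = 0 := by
      linear_combination h2 + (1 - l) * (CharTwo.two_eq_zero (R := F))
    exact h1 (sub_eq_zero.1 (mul_self_eq_zero.1 h3))
  have hsub : ({l, l⁻¹} : Finset F) ⊆ (univ.filter (fun r : F => r * r + (l + l⁻¹) * r + 1 = 0)) := by
    intro r hr
    simp only [mem_insert, mem_singleton] at hr
    simp only [mem_filter, mem_univ, true_and]
    rcases hr with rfl | rfl
    · have : r⁻¹ * r = 1 := inv_mul_cancel₀ h0
      linear_combination (r * r + 1) * (CharTwo.two_eq_zero (R := F)) + this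
    · have : l * l⁻¹ = 1 := mul_inv_cancel₀ h0
      linear_combination (l⁻¹ * l⁻¹ + 1) * (CharTwo.two_eq_zero (R := F)) + this
  calc 2 = ({l, l⁻¹} : Finset F).card := (card_pair hne).symm
    _ ≤ _ := card_le_card hsub

/-- Artin–Schreier: some `t ≠ 0` has no root. -/
theorem exists_Rt_zero : ∃ t : F, Rt t = 0 := by
  -- the additive map x ↦ x² + x is not injective, hence not surjective
  have hns : ¬ Function.Surjective (fun x : F => x * x + x) := by
    rw [← Finite.injective_iff_surjective]
    intro hinj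
    have : (0 : F) = 1 := hinj (by
      simp only [mul_zero, add_zero, mul_one]
      exact (CharTwo.add_self_eq_zero (1 : F)).symm)
    exact zero_ne_one this
  rw [Function.Surjective] at hns
  push Not at hns
  obtain ⟨c, hc⟩ := hns
  obtain ⟨s, hs⟩ := FiniteField.isSquare_of_char_two (ringChar.eq F 2) c
  have hs0 : s ≠ 0 := by
    rintro rfl
    exact hc 0 (by simp [hs])
  refine ⟨s⁻¹, ?_⟩
  unfold Rt
  rw [card_eq_zero, filter_eq_empty_iff]
  intro r _ hr
  apply hc (r * s)
  have h1 : s⁻¹ * s = 1 := inv_mul_cancel₀ hs0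
  rw [hs]
  linear_combination (s * s) * hr - (r * s) * h1 - (s * s) * (CharTwo.two_eq_zero (R := F))

/-- companion matrix of trace `t` in `SL₂` in characteristic 2 -/
def comp (t : F) : SpecialLinearGroup (Fin 2) F :=
  ⟨!![0, 1; 1, t], by
    rw [Matrix.det_fin_two_of]
    have := CharTwo.neg_eq (1 : F)
    simp [this]⟩

omit [Fintype F] [DecidableEq F] in
theorem comp_not_scalar (t : F) : ¬ IsScalar2 ((comp t : SpecialLinearGroup (Fin 2) F) : Matrix (Fin 2) (Fin 2) F) := by
  rintro ⟨h, -, -⟩
  simp [comp] at h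

omit [Fintype F] [DecidableEq F] in
theorem comp_trace (t : F) : ((comp t : SpecialLinearGroup (Fin 2) F) : Matrix (Fin 2) (Fin 2) F).trace = t := by
  simp [comp, Matrix.trace_fin_two]

omit [CharP F 2] in
/-- the centraliser of a non-scalar element is in bijection with the conic -/
theorem card_centralizer (g : SpecialLinearGroup (Fin 2) F)
    (hg : ¬ IsScalar2 (g : Matrix (Fin 2) (Fin 2) F)) :
    Nat.card (Subgroup.centralizer ({g} : Set (SpecialLinearGroup (Fin 2) F))) =
      Nt (g : Matrix (Fin 2) (Fin 2) F).trace := by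
  set M := (g : Matrix (Fin 2) (Fin 2) F) with hM
  set t := M.trace with ht
  have hdetM : M.det = 1 := g.det_coe
  have hdet : ∀ p : F × F, (p.1 • (1 : Matrix (Fin 2) (Fin 2) F) + p.2 • M).det = conicQ t p := by
    intro p
    rw [Matrix.det_fin_two] at hdetM ⊢
    simp only [conicQ, ht, Matrix.trace_fin_two, Matrix.add_apply, Matrix.smul_apply,
      Matrix.one_apply_eq, Matrix.one_apply_ne, smul_eq_mul, ne_eq, zero_ne_one, one_ne_zero,
      not_false_eq_true, mul_one, mul_zero, zero_add]
    linear_combination (p.2 * p.2) * hdetM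
  unfold Nt
  rw [← Fintype.card_subtype, ← Nat.card_eq_fintype_card]
  symm
  let ψ : {p : F × F // conicQ t p = 1} → SpecialLinearGroup (Fin 2) F :=
    fun p => ⟨p.1.1 • (1 : Matrix (Fin 2) (Fin 2) F) + p.1.2 • M, by rw [hdet, p.2]⟩
  have hψ : ∀ p, ψ p ∈ Subgroup.centralizer ({g} : Set (SpecialLinearGroup (Fin 2) F)) := by
    intro p
    rw [Subgroup.mem_centralizer_singleton_iff]
    apply Subtype.ext
    change (p.1.1 • (1 : Matrix (Fin 2) (Fin 2) F) + p.1.2 • M) * M = M * (p.1.1 • (1 : Matrix (Fin 2) (Fin 2) F) + p.1.2 • M)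
    rw [add_mul, mul_add]
    simp
  let φ : {p : F × F // conicQ t p = 1} → Subgroup.centralizer ({g} : Set (SpecialLinearGroup (Fin 2) F)) :=
    fun p => ⟨ψ p, hψ p⟩
  apply Nat.card_eq_of_bijective φ
  constructor
  · rintro ⟨⟨x, y⟩, hp⟩ ⟨⟨x', y'⟩, hp'⟩ h
    have h1 : x • (1 : Matrix (Fin 2) (Fin 2) F) + y • M = x' • (1 : Matrix (Fin 2) (Fin 2) F) + y' • M := by
      have := congrArg (fun z : Subgroup.centralizer ({g} : Set (SpecialLinearGroup (Fin 2) F)) =>
        ((z : SpecialLinearGroup (Fin 2) F) : Matrix (Fin 2) (Fin 2) F)) h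
      exact this
    have hy : y = y' := by
      by_contra hne
      have hne' : y - y' ≠ 0 := sub_ne_zero.2 hne
      apply hg
      have e : M = ((x' - x) / (y - y')) • (1 : Matrix (Fin 2) (Fin 2) F) := by
        have h2 : (y - y') • M = (x' - x) • (1 : Matrix (Fin 2) (Fin 2) F) := by
          rw [sub_smul, sub_smul]
          rw [sub_eq_sub_iff_add_eq_add]
          rw [add_comm, h1, add_comm]
        rw [div_eq_inv_mul, mul_smul, ← h2, smul_smul, inv_mul_cancel₀ hne', one_smul]
      rw [e]
      exact isScalar2_smul_one _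
    subst hy
    have hx : x = x' := by
      have h2 := add_right_cancel h1
      have := congrFun (congrFun h2 0) 0
      simpa using this
    subst hx
    rfl
  · rintro ⟨X, hX⟩
    rw [Subgroup.mem_centralizer_singleton_iff] at hX
    have hXm : (X : Matrix (Fin 2) (Fin 2) F) * M = M * (X : Matrix (Fin 2) (Fin 2) F) :=
      congrArg (fun z : SpecialLinearGroup (Fin 2) F => (z : Matrix (Fin 2) (Fin 2) F)) hX
    obtain ⟨x, y, hxy⟩ := (commute_iff_exists_smul M _ hg).1 hXm
    have hQ : conicQ t (x, y) = 1 := by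
      rw [← hdet, ← hxy]; exact X.det_coe
    refine ⟨⟨(x, y), hQ⟩, ?_⟩
    apply Subtype.ext
    apply Subtype.ext
    exact hxy.symm

/-- index times centraliser order -/
theorem index_mul (g : SpecialLinearGroup (Fin 2) F)
    (hg : ¬ IsScalar2 (g : Matrix (Fin 2) (Fin 2) F)) :
    (Subgroup.centralizer ({g} : Set (SpecialLinearGroup (Fin 2) F))).index *
        (Fintype.card F + 1 - Rt (g : Matrix (Fin 2) (Fin 2) F).trace) =
      Fintype.card F * (Fintype.card F ^ 2 - 1) := by
  have h := Subgroup.index_mul_card (Subgroup.centralizer ({g} : Set (SpecialLinearGroup (Fin 2) F)))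
  rw [card_centralizer g hg, card_SL2] at h
  have h2 := Nt_add_Rt (g : Matrix (Fin 2) (Fin 2) F).trace
  have : Nt (g : Matrix (Fin 2) (Fin 2) F).trace
      = Fintype.card F + 1 - Rt (g : Matrix (Fin 2) (Fin 2) F).trace := by omega
  rw [← this]; exact h

theorem arith (q idx : ℕ) (hq : 2 ≤ q) :
    (idx * (q + 1 - 0) = q * (q ^ 2 - 1) → idx = q * (q - 1)) ∧
    (idx * (q + 1 - 1) = q * (q ^ 2 - 1) → idx = q ^ 2 - 1) ∧
    (idx * (q + 1 - 2) = q * (q ^ 2 - 1) → idx = q * (q + 1)) := by
  obtain ⟨m, rfl⟩ : ∃ m, q = m + 1 := ⟨q - 1, by omega⟩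
  have hm : 1 ≤ m := by omega
  have e : (m + 1) ^ 2 - 1 = m * (m + 2) := by
    have : (m + 1) ^ 2 = m * (m + 2) + 1 := by ring
    omega
  rw [e]
  simp only [Nat.sub_zero, Nat.add_sub_cancel]
  refine ⟨?_, ?_, ?_⟩
  · intro h
    have : idx * (m + 2) = ((m + 1) * m) * (m + 2) := by rw [h]; ring
    exact Nat.eq_of_mul_eq_mul_right (by omega) this
  · intro h
    have : idx * (m + 1) = (m * (m + 2)) * (m + 1) := by rw [h]; ring
    exact Nat.eq_of_mul_eq_mul_right (by omega) this
  · intro h
    have e2 : m + 1 + 1 - 2 = m := by omega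
    rw [e2] at h
    have : idx * m = ((m + 1) * (m + 1 + 1)) * m := by rw [h]; ring
    exact Nat.eq_of_mul_eq_mul_right (by omega) this

theorem index_of_Rt (g : SpecialLinearGroup (Fin 2) F)
    (hg : ¬ IsScalar2 (g : Matrix (Fin 2) (Fin 2) F)) :
    (Rt (g : Matrix (Fin 2) (Fin 2) F).trace = 0 →
      (Subgroup.centralizer ({g} : Set (SpecialLinearGroup (Fin 2) F))).index =
        Fintype.card F * (Fintype.card F - 1)) ∧
    (Rt (g : Matrix (Fin 2) (Fin 2) F).trace = 1 →
      (Subgroup.centralizer ({g} : Set (SpecialLinearGroup (Fin 2) F))).index =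
        Fintype.card F ^ 2 - 1) ∧
    (Rt (g : Matrix (Fin 2) (Fin 2) F).trace = 2 →
      (Subgroup.centralizer ({g} : Set (SpecialLinearGroup (Fin 2) F))).index =
        Fintype.card F * (Fintype.card F + 1)) := by
  have h := index_mul g hg
  have hq : 2 ≤ Fintype.card F := Fintype.one_lt_card
  obtain ⟨a0, a1, a2⟩ := arith (Fintype.card F)
    (Subgroup.centralizer ({g} : Set (SpecialLinearGroup (Fin 2) F))).index hq
  refine ⟨fun hR => a0 (by have h' := h; rw [hR] at h'; exact h'),
    fun hR => a1 (by have h' := h; rw [hR] at h'; exact h'),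
    fun hR => a2 (by have h' := h; rw [hR] at h'; exact h')⟩

theorem index_mem (g : SpecialLinearGroup (Fin 2) F) :
    (Subgroup.centralizer ({g} : Set (SpecialLinearGroup (Fin 2) F))).index ∈
      ({1, Fintype.card F * (Fintype.card F - 1), Fintype.card F ^ 2 - 1,
        Fintype.card F * (Fintype.card F + 1)} : Set ℕ) := by
  by_cases hg : IsScalar2 (g : Matrix (Fin 2) (Fin 2) F)
  · have : g = 1 := scalar_SL2_char_two g hg
    subst this
    left
    rw [Subgroup.index_eq_one, eq_top_iff]
    intro x _
    rw [Subgroup.mem_centralizer_singleton_iff]; simp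
  · obtain ⟨a0, a1, a2⟩ := index_of_Rt g hg
    have hle := Rt_le_two (g : Matrix (Fin 2) (Fin 2) F).trace
    have : Rt (g : Matrix (Fin 2) (Fin 2) F).trace = 0 ∨ Rt (g : Matrix (Fin 2) (Fin 2) F).trace = 1 ∨
        Rt (g : Matrix (Fin 2) (Fin 2) F).trace = 2 := by omega
    rcases this with h | h | h
    · right; left; exact a0 h
    · right; right; left; exact a1 h
    · right; right; right; exact a2 h

omit [Fintype F] [DecidableEq F] in
/-- transport of centraliser indices to the quotient by the (trivial) centre -/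
theorem index_psl (g : SpecialLinearGroup (Fin 2) F) :
    (Subgroup.centralizer ({(QuotientGroup.mk g : ProjectiveSpecialLinearGroup (Fin 2) F)} :
      Set (ProjectiveSpecialLinearGroup (Fin 2) F))).index =
    (Subgroup.centralizer ({g} : Set (SpecialLinearGroup (Fin 2) F))).index := by
  let π : SpecialLinearGroup (Fin 2) F →* ProjectiveSpecialLinearGroup (Fin 2) F :=
    QuotientGroup.mk' (Subgroup.center (SpecialLinearGroup (Fin 2) F))
  have hinj : Function.Injective π := by
    intro a b hab
    have := QuotientGroup.eq.1 hab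
    have hc : Subgroup.center (SpecialLinearGroup (Fin 2) F) = ⊥ := by
      rw [Subgroup.eq_bot_iff_forall]
      intro x hx
      rw [Matrix.SpecialLinearGroup.mem_center_iff] at hx
      obtain ⟨r, -, hr⟩ := hx
      apply scalar_SL2_char_two x
      rw [← hr]
      refine ⟨?_, ?_, ?_⟩ <;> simp [Matrix.scalar]
    rw [hc, Subgroup.mem_bot] at this
    exact inv_mul_eq_one.1 this
  have hsurj : Function.Surjective π := QuotientGroup.mk'_surjective _
  have key := Subgroup.index_comap_of_surjective (f := π)
    (H := Subgroup.centralizer ({π g} : Set (ProjectiveSpecialLinearGroup (Fin 2) F))) hsurj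
  change (Subgroup.centralizer ({π g} : Set (ProjectiveSpecialLinearGroup (Fin 2) F))).index = _
  rw [← key]
  congr 1
  ext x
  rw [Subgroup.mem_comap, Subgroup.mem_centralizer_singleton_iff, Subgroup.mem_centralizer_singleton_iff]
  rw [← map_mul, ← map_mul, hinj.eq_iff]

end

theorem charP_two {F : Type*} [Field F] [Fintype F] (h2 : 2 ∣ Fintype.card F) : CharP F 2 := by
  rw [← ringChar.eq_iff, FiniteField.even_card_iff_char_two]
  omega

theorem result {F : Type*} [Field F] [Fintype F]
    (h2 : 2 ∣ Fintype.card F) (h4 : 4 ≤ Fintype.card F) :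
    Set.range (fun g : (Matrix.ProjectiveSpecialLinearGroup (Fin 2) F) => (Subgroup.centralizer ({g} : Set (Matrix.ProjectiveSpecialLinearGroup (Fin 2) F))).index) =
      {1, Fintype.card F * (Fintype.card F - 1), Fintype.card F ^ 2 - 1, Fintype.card F * (Fintype.card F + 1)} := by
  classical
  have := charP_two h2
  ext y
  constructor
  · rintro ⟨gq, rfl⟩
    obtain ⟨g, rfl⟩ := QuotientGroup.mk_surjective gq
    simp only
    rw [index_psl]
    exact index_mem g
  · -- an element l ≠ 0, 1
    obtain ⟨l, hl⟩ : ∃ a : F, a ∉ ({0, 1} : Finset F) := by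
      by_contra hcon
      push Not at hcon
      have : (Finset.univ : Finset F) ⊆ {0, 1} := fun x _ => hcon x
      have h := Finset.card_le_card this
      rw [Finset.card_univ] at h
      have h3 : ({0, 1} : Finset F).card ≤ 2 := Finset.card_le_two
      omega
    simp only [Finset.mem_insert, Finset.mem_singleton, not_or] at hl
    obtain ⟨t0, ht0⟩ := exists_Rt_zero (F := F)
    rintro (rfl | rfl | rfl | rfl)
    · refine ⟨(QuotientGroup.mk (1 : SpecialLinearGroup (Fin 2) F)), ?_⟩
      simp only
      rw [index_psl, Subgroup.index_eq_one, eq_top_iff]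
      intro x _
      rw [Subgroup.mem_centralizer_singleton_iff]; simp
    · refine ⟨(QuotientGroup.mk (comp t0)), ?_⟩
      simp only
      rw [index_psl]
      exact (index_of_Rt (comp t0) (comp_not_scalar t0)).1 (by rw [comp_trace]; exact ht0)
    · refine ⟨(QuotientGroup.mk (comp (0 : F))), ?_⟩
      simp only
      rw [index_psl]
      exact (index_of_Rt (comp 0) (comp_not_scalar 0)).2.1 (by rw [comp_trace]; exact Rt_zero)
    · refine ⟨(QuotientGroup.mk (comp (l + l⁻¹))), ?_⟩
      simp only
      rw [index_psl]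
      exact (index_of_Rt (comp _) (comp_not_scalar _)).2.2 (by rw [comp_trace]; exact Rt_split l hl.1 hl.2)

end Cfsg.Agent.S2507
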