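import Mathlib
import Cfsg.Statements.S2508
import Cfsg.Agent.S2507
import Cfsg.Agent.Lib.Helper13.ConicOdd
import Cfsg.Agent.Lib.Helper12.SL2Odd
import Cfsg.Agent.Lib.Helper12.SL2Upper

set_option autoImplicit false
open Cfsg

namespace Cfsg.Agent.S2508

open Matrix Finset Cfsg.Agent.Helper13 Cfsg.Agent.Helper12

section
variable {F : Type*} [Field F]

theorem neg_one_mem_center :
    (-1 : SpecialLinearGroup (Fin 2) F) ∈ Subgroup.center (SpecialLinearGroup (Fin 2) F) := by
  rw [Subgroup.mem_center_iff]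
  intro g
  rw [mul_neg, neg_mul, mul_one, one_mul]

theorem center_cases (z : SpecialLinearGroup (Fin 2) F)
    (hz : z ∈ Subgroup.center (SpecialLinearGroup (Fin 2) F)) : z = 1 ∨ z = -1 := by
  rw [Matrix.SpecialLinearGroup.mem_center_iff] at hz
  obtain ⟨r, hr, hz⟩ := hz
  simp only [Fintype.card_fin] at hr
  have : (r - 1) * (r + 1) = 0 := by linear_combination hr
  rcases mul_eq_zero.1 this with h | h
  · left
    have hr1 : r = 1 := sub_eq_zero.1 h
    apply Subtype.ext
    rw [← hz, hr1]
    simp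
  · right
    have hr1 : r = -1 := eq_neg_of_add_eq_zero_left h
    apply Subtype.ext
    rw [← hz, hr1, Matrix.SpecialLinearGroup.coe_neg, Matrix.SpecialLinearGroup.coe_one]
    ext i j
    fin_cases i <;> fin_cases j <;> simp [Matrix.scalar]

/-- membership in the preimage of the centraliser in `PSL₂` -/
theorem mem_comap_iff (g x : SpecialLinearGroup (Fin 2) F) :
    x ∈ (Subgroup.centralizer
        ({(QuotientGroup.mk g : ProjectiveSpecialLinearGroup (Fin 2) F)} :
          Set (ProjectiveSpecialLinearGroup (Fin 2) F))).comap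
        (QuotientGroup.mk' (Subgroup.center (SpecialLinearGroup (Fin 2) F))) ↔
      x * g = g * x ∨ x * g = -(g * x) := by
  rw [Subgroup.mem_comap, Subgroup.mem_centralizer_singleton_iff, QuotientGroup.mk'_apply]
  rw [← QuotientGroup.mk_mul, ← QuotientGroup.mk_mul, QuotientGroup.eq]
  constructor
  · intro hz
    have e : g * x = (x * g) * ((x * g)⁻¹ * (g * x)) := by group
    rcases center_cases _ hz with h | h
    · left
      rw [h, mul_one] at e
      exact e.symm
    · right
      rw [h, mul_neg, mul_one] at e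
      rw [e, neg_neg]
  · rintro (h | h)
    · rw [h, inv_mul_cancel]
      exact Subgroup.one_mem _
    · have h' : g * x = -(x * g) := by rw [h, neg_neg]
      rw [h', mul_neg, inv_mul_cancel]
      exact neg_one_mem_center

theorem neg_ne_self (hF : ringChar F ≠ 2) (y : SpecialLinearGroup (Fin 2) F) : y ≠ -y := by
  intro h
  have h1 : (1 : SpecialLinearGroup (Fin 2) F) = -1 := by
    calc (1 : SpecialLinearGroup (Fin 2) F) = y⁻¹ * y := (inv_mul_cancel y).symm
      _ = y⁻¹ * (-y) := by rw [← h]
      _ = -1 := by rw [mul_neg, inv_mul_cancel]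
  have h2 := congrArg (fun z : SpecialLinearGroup (Fin 2) F => (z : Matrix (Fin 2) (Fin 2) F) 0 0) h1
  simp only [Matrix.SpecialLinearGroup.coe_neg, Matrix.SpecialLinearGroup.coe_one,
    Matrix.neg_apply, Matrix.one_apply_eq] at h2
  apply Ring.two_ne_zero hF
  linear_combination h2

theorem trace_eq_zero_of_anti (hF : ringChar F ≠ 2) (g x : SpecialLinearGroup (Fin 2) F)
    (h : x * g = -(g * x)) : (g : Matrix (Fin 2) (Fin 2) F).trace = 0 := by
  have hc : IsConj g (-g) := by
    rw [isConj_iff]
    refine ⟨x, ?_⟩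
    rw [h, neg_mul, mul_inv_cancel_right]
  have ht := trace_eq_of_isConj g (-g) hc
  rw [Matrix.SpecialLinearGroup.coe_neg, Matrix.trace_neg] at ht
  have h2 : (2 : F) ≠ 0 := Ring.two_ne_zero hF
  have : 2 * (g : Matrix (Fin 2) (Fin 2) F).trace = 0 := by linear_combination ht
  rcases mul_eq_zero.1 this with h | h
  · exact absurd h h2
  · exact h

theorem not_scalar_neg (g : SpecialLinearGroup (Fin 2) F)
    (hg : ¬ IsScalar2 (g : Matrix (Fin 2) (Fin 2) F)) :
    ¬ IsScalar2 ((-g : SpecialLinearGroup (Fin 2) F) : Matrix (Fin 2) (Fin 2) F) := by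
  intro h
  apply hg
  obtain ⟨h1, h2, h3⟩ := h
  rw [Matrix.SpecialLinearGroup.coe_neg] at h1 h2 h3
  simp only [Matrix.neg_apply, neg_eq_zero, neg_inj] at h1 h2 h3
  exact ⟨h1, h2, h3⟩

end

section
variable {F : Type*} [Field F] [Fintype F]

/-- an element of trace zero is conjugate to its negative -/
theorem exists_anti (hF : ringChar F ≠ 2) (g : SpecialLinearGroup (Fin 2) F)
    (ht : (g : Matrix (Fin 2) (Fin 2) F).trace = 0) :
    ∃ x : SpecialLinearGroup (Fin 2) F, x * g = -(g * x) := by
  have h2 : (2 : F) ≠ 0 := Ring.two_ne_zero hF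
  have h4 : (4 : F) ≠ 0 := by
    have : (4 : F) = 2 * 2 := by norm_num
    rw [this]; exact mul_ne_zero h2 h2
  have hg : ¬ IsScalar2 (g : Matrix (Fin 2) (Fin 2) F) := by
    rintro ⟨h01, h10, h00⟩
    have hd := g.2
    rw [Matrix.det_fin_two, h01, h10] at hd
    rw [Matrix.trace_fin_two, ← h00] at ht
    have : (g : Matrix (Fin 2) (Fin 2) F) 0 0 = 0 := by
      have : 2 * (g : Matrix (Fin 2) (Fin 2) F) 0 0 = 0 := by linear_combination ht
      rcases mul_eq_zero.1 this with h | h
      · exact absurd h h2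
      · exact h
    rw [← h00, this] at hd
    simp at hd
  have hng := not_scalar_neg g hg
  have htn : ((-g : SpecialLinearGroup (Fin 2) F) : Matrix (Fin 2) (Fin 2) F).trace = 0 := by
    rw [Matrix.SpecialLinearGroup.coe_neg, Matrix.trace_neg, ht, neg_zero]
  have hc : IsConj g (-g) := by
    rw [SL2_isConj_iff hF g (-g) hg hng]
    refine ⟨by rw [ht, htn], ?_⟩
    have r1 : Rep1 g := rep1_of_trace_sq_ne hF g (by rw [ht]; simpa using h4.symm)
    have r2 : Rep1 (-g) := rep1_of_trace_sq_ne hF (-g) (by rw [htn]; simpa using h4.symm)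
    exact ⟨fun _ => r2, fun _ => r1⟩
  obtain ⟨x, hx⟩ := isConj_iff.1 hc
  refine ⟨x, ?_⟩
  have : x * g = (x * g * x⁻¹) * x := by group
  rw [this, hx, neg_mul]

end

section
variable {F : Type*} [Field F] [Fintype F] [DecidableEq F]

/-- class size in `PSL₂` of the image of `g` -/
noncomputable def idx (g : SpecialLinearGroup (Fin 2) F) : ℕ :=
  (Subgroup.centralizer ({(QuotientGroup.mk g : ProjectiveSpecialLinearGroup (Fin 2) F)} :
    Set (ProjectiveSpecialLinearGroup (Fin 2) F))).index

omit [Fintype F] [DecidableEq F] in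
theorem idx_eq_comap (g : SpecialLinearGroup (Fin 2) F) :
    idx g = ((Subgroup.centralizer
        ({(QuotientGroup.mk g : ProjectiveSpecialLinearGroup (Fin 2) F)} :
          Set (ProjectiveSpecialLinearGroup (Fin 2) F))).comap
        (QuotientGroup.mk' (Subgroup.center (SpecialLinearGroup (Fin 2) F)))).index :=
  (Subgroup.index_comap_of_surjective _ (QuotientGroup.mk'_surjective _)).symm

omit [Fintype F] [DecidableEq F] in
theorem idx_of_trace_ne (hF : ringChar F ≠ 2) (g : SpecialLinearGroup (Fin 2) F)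
    (ht : (g : Matrix (Fin 2) (Fin 2) F).trace ≠ 0) :
    idx g = (Subgroup.centralizer ({g} : Set (SpecialLinearGroup (Fin 2) F))).index := by
  rw [idx_eq_comap]
  congr 1
  ext x
  rw [mem_comap_iff, Subgroup.mem_centralizer_singleton_iff]
  constructor
  · rintro (h | h)
    · exact h
    · exact absurd (trace_eq_zero_of_anti hF g x h) ht
  · intro h
    exact Or.inl h

omit [DecidableEq F] in
theorem two_mul_idx (hF : ringChar F ≠ 2) (g : SpecialLinearGroup (Fin 2) F)
    (ht : (g : Matrix (Fin 2) (Fin 2) F).trace = 0) :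
    2 * idx g = (Subgroup.centralizer ({g} : Set (SpecialLinearGroup (Fin 2) F))).index := by
  rw [idx_eq_comap]
  set K := (Subgroup.centralizer
        ({(QuotientGroup.mk g : ProjectiveSpecialLinearGroup (Fin 2) F)} :
          Set (ProjectiveSpecialLinearGroup (Fin 2) F))).comap
        (QuotientGroup.mk' (Subgroup.center (SpecialLinearGroup (Fin 2) F))) with hK
  set H := Subgroup.centralizer ({g} : Set (SpecialLinearGroup (Fin 2) F)) with hH
  have hle : H ≤ K := by
    intro x hx
    rw [hK, mem_comap_iff]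
    rw [hH, Subgroup.mem_centralizer_singleton_iff] at hx
    exact Or.inl hx
  rw [← Subgroup.relIndex_mul_index hle]
  congr 1
  symm
  obtain ⟨x₀, hx₀⟩ := exists_anti hF g ht
  have hx₀K : x₀ ∈ K := by
    rw [hK, mem_comap_iff]; exact Or.inr hx₀
  rw [Subgroup.relIndex, Subgroup.index_eq_two_iff]
  refine ⟨⟨x₀, hx₀K⟩, ?_⟩
  rintro ⟨b, hb⟩
  rw [Subgroup.mem_subgroupOf, Subgroup.mem_subgroupOf]
  simp only [Subgroup.coe_mul]
  rw [hH, Subgroup.mem_centralizer_singleton_iff, Subgroup.mem_centralizer_singleton_iff]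
  rw [hK, mem_comap_iff] at hb
  rcases hb with hb | hb
  · right
    refine ⟨hb, ?_⟩
    intro h
    have h1 : b * x₀ * g = -(g * (b * x₀)) := by
      rw [mul_assoc, hx₀, mul_neg, ← mul_assoc, hb, mul_assoc]
    rw [h] at h1
    exact neg_ne_self hF _ h1
  · left
    refine ⟨?_, ?_⟩
    · rw [mul_assoc, hx₀, mul_neg, ← mul_assoc, hb, neg_mul, neg_neg, mul_assoc]
    · intro h
      rw [h] at hb
      exact neg_ne_self hF _ hb

theorem cent_index_mul (g : SpecialLinearGroup (Fin 2) F)
    (hg : ¬ IsScalar2 (g : Matrix (Fin 2) (Fin 2) F)) :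
    (Subgroup.centralizer ({g} : Set (SpecialLinearGroup (Fin 2) F))).index *
        S2507.Nt (g : Matrix (Fin 2) (Fin 2) F).trace =
      Fintype.card F * (Fintype.card F ^ 2 - 1) := by
  have h := Subgroup.index_mul_card (Subgroup.centralizer ({g} : Set (SpecialLinearGroup (Fin 2) F)))
  rw [S2507.card_centralizer g hg, card_SL2] at h
  exact h

/-- the possible class sizes of a non-scalar element, by trace -/
theorem idx_values (hF : ringChar F ≠ 2) (g : SpecialLinearGroup (Fin 2) F)
    (hg : ¬ IsScalar2 (g : Matrix (Fin 2) (Fin 2) F)) :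
    ((g : Matrix (Fin 2) (Fin 2) F).trace ^ 2 = 4 →
      idx g = (Fintype.card F ^ 2 - 1) / 2) ∧
    ((g : Matrix (Fin 2) (Fin 2) F).trace ≠ 0 → (g : Matrix (Fin 2) (Fin 2) F).trace ^ 2 ≠ 4 →
      S2507.Rt (g : Matrix (Fin 2) (Fin 2) F).trace = 2 →
      idx g = Fintype.card F * (Fintype.card F + 1)) ∧
    ((g : Matrix (Fin 2) (Fin 2) F).trace ≠ 0 → (g : Matrix (Fin 2) (Fin 2) F).trace ^ 2 ≠ 4 →
      S2507.Rt (g : Matrix (Fin 2) (Fin 2) F).trace = 0 →
      idx g = Fintype.card F * (Fintype.card F - 1)) ∧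
    ((g : Matrix (Fin 2) (Fin 2) F).trace = 0 →
      S2507.Rt (g : Matrix (Fin 2) (Fin 2) F).trace = 2 →
      idx g = Fintype.card F * (Fintype.card F + 1) / 2) ∧
    ((g : Matrix (Fin 2) (Fin 2) F).trace = 0 →
      S2507.Rt (g : Matrix (Fin 2) (Fin 2) F).trace = 0 →
      idx g = Fintype.card F * (Fintype.card F - 1) / 2) := by
  have h2 : (2 : F) ≠ 0 := Ring.two_ne_zero hF
  have h4 : (4 : F) ≠ 0 := by
    have : (4 : F) = 2 * 2 := by norm_num
    rw [this]; exact mul_ne_zero h2 h2
  set t := (g : Matrix (Fin 2) (Fin 2) F).trace with ht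
  set q := Fintype.card F with hq
  set I := (Subgroup.centralizer ({g} : Set (SpecialLinearGroup (Fin 2) F))).index with hI
  have hmul : I * S2507.Nt t = q * (q ^ 2 - 1) := cent_index_mul g hg
  have hq2 : 2 ≤ q := Fintype.one_lt_card
  obtain ⟨a0, -, a2⟩ := S2507.arith q I hq2
  have hcount : t ^ 2 ≠ 4 → S2507.Nt t + S2507.Rt t = q + 1 := fun h => conic_count_odd hF t h
  refine ⟨?_, ?_, ?_, ?_, ?_⟩
  · intro h
    have ht0 : t ≠ 0 := by
      rintro h0
      rw [h0] at h
      apply h4
      rw [← h]; ring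
    rw [idx_of_trace_ne hF g ht0, ← hI]
    have hN : S2507.Nt t = 2 * q := card_conic_degenerate hF t h
    rw [hN] at hmul
    have h3 : (I * 2) * q = (q ^ 2 - 1) * q := by rw [mul_comm (q ^ 2 - 1) q, ← hmul]; ring
    have h5 := Nat.eq_of_mul_eq_mul_right (by omega) h3
    omega
  · intro ht0 ht4 hR
    rw [idx_of_trace_ne hF g ht0, ← hI]
    apply a2
    have := hcount ht4
    have hN : S2507.Nt t = q + 1 - 2 := by omega
    rw [← hN]; exact hmul
  · intro ht0 ht4 hR
    rw [idx_of_trace_ne hF g ht0, ← hI]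
    apply a0
    have := hcount ht4
    have hN : S2507.Nt t = q + 1 - 0 := by omega
    rw [← hN]; exact hmul
  · intro ht0 hR
    have ht4 : t ^ 2 ≠ 4 := by rw [ht0]; simpa using h4.symm
    have h5 := two_mul_idx hF g ht0
    rw [← hI] at h5
    have : I = q * (q + 1) := by
      apply a2
      have := hcount ht4
      have hN : S2507.Nt t = q + 1 - 2 := by omega
      rw [← hN]; exact hmul
    omega
  · intro ht0 hR
    have ht4 : t ^ 2 ≠ 4 := by rw [ht0]; simpa using h4.symm
    have h5 := two_mul_idx hF g ht0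
    rw [← hI] at h5
    have : I = q * (q - 1) := by
      apply a0
      have := hcount ht4
      have hN : S2507.Nt t = q + 1 - 0 := by omega
      rw [← hN]; exact hmul
    omega

/-- the number of square roots of `-1` -/
theorem Rt_zero_eq (hF : ringChar F ≠ 2) :
    (Fintype.card F % 4 = 1 → S2507.Rt (0 : F) = 2) ∧
      (Fintype.card F % 4 = 3 → S2507.Rt (0 : F) = 0) := by
  have h2 : (2 : F) ≠ 0 := Ring.two_ne_zero hF
  have h4 : (4 : F) ≠ 0 := by
    have : (4 : F) = 2 * 2 := by norm_num
    rw [this]; exact mul_ne_zero h2 h2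
  have h04 : (0 : F) ^ 2 ≠ 4 := by simpa using h4.symm
  have hcases := card_roots_zero_or_two (0 : F) h04
  have hsq := FiniteField.isSquare_neg_one_iff (F := F)
  constructor
  · intro h1
    rcases hcases with h | h
    · exfalso
      have : IsSquare (-1 : F) := hsq.2 (by omega)
      obtain ⟨r, hr⟩ := this
      rw [card_eq_zero, filter_eq_empty_iff] at h
      exact h (mem_univ r) (by linear_combination -hr)
    · exact h
  · intro h3
    rcases hcases with h | h
    · exact h
    · exfalso
      have hpos : 0 < (univ.filter (fun r : F => r * r + 0 * r + 1 = 0)).card := by omega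
      obtain ⟨r, hr⟩ := card_pos.1 hpos
      simp only [mem_filter, mem_univ, true_and] at hr
      have : IsSquare (-1 : F) := ⟨r, by linear_combination -hr⟩
      exact hsq.1 this h3

/-- companion matrix of trace `t` -/
def compO (t : F) : SpecialLinearGroup (Fin 2) F :=
  ⟨!![0, 1; -1, t], by rw [Matrix.det_fin_two_of]; ring⟩

omit [Fintype F] [DecidableEq F] in
theorem compO_not_scalar (t : F) :
    ¬ IsScalar2 ((compO t : SpecialLinearGroup (Fin 2) F) : Matrix (Fin 2) (Fin 2) F) := by
  rintro ⟨h, -, -⟩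
  simp [compO] at h

omit [Fintype F] [DecidableEq F] in
theorem compO_trace (t : F) :
    ((compO t : SpecialLinearGroup (Fin 2) F) : Matrix (Fin 2) (Fin 2) F).trace = t := by
  simp [compO, Matrix.trace_fin_two]

omit [DecidableEq F] in
theorem exists_pow_four_ne (h7 : 7 ≤ Fintype.card F) : ∃ l : F, l ≠ 0 ∧ l ^ 4 ≠ 1 := by
  classical
  by_contra hcon
  push Not at hcon
  have hsub : (univ : Finset F) ⊆ insert 0 (Polynomial.nthRootsFinset 4 (1 : F)) := by
    intro x _
    by_cases hx : x = 0
    · simp [hx]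
    · rw [mem_insert]; right
      rw [Polynomial.mem_nthRootsFinset (by norm_num)]
      exact hcon x hx
  have h := card_le_card hsub
  rw [card_univ] at h
  have h2 : (Polynomial.nthRootsFinset 4 (1 : F)).card ≤ 4 := by
    unfold Polynomial.nthRootsFinset
    exact (Multiset.toFinset_card_le _).trans (Polynomial.card_nthRoots 4 (1 : F))
  have h3 := card_insert_le (0 : F) (Polynomial.nthRootsFinset 4 (1 : F))
  omega

theorem exists_nonsplit (h7 : 7 ≤ Fintype.card F) :
    ∃ t : F, t ≠ 0 ∧ t ^ 2 ≠ 4 ∧ S2507.Rt t = 0 := by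
  by_contra hcon
  push Not at hcon
  have hsum := sum_card_roots (F := F)
  have h2 : ∀ t ∈ (univ \ {0, 2, -2} : Finset F),
      2 ≤ (univ.filter (fun r : F => r * r + t * r + 1 = 0)).card := by
    intro t ht
    simp only [mem_sdiff, mem_univ, mem_insert, mem_singleton, true_and, not_or] at ht
    have ht4 : t ^ 2 ≠ 4 := by
      intro h
      have : (t - 2) * (t + 2) = 0 := by linear_combination h
      rcases mul_eq_zero.1 this with h | h
      · exact ht.2.1 (sub_eq_zero.1 h)
      · exact ht.2.2 (eq_neg_of_add_eq_zero_left h)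
    rcases card_roots_zero_or_two t ht4 with h | h
    · exact absurd h (hcon t ht.1 ht4)
    · omega
  have h3 : 2 * (univ \ {0, 2, -2} : Finset F).card ≤
      ∑ t : F, (univ.filter (fun r : F => r * r + t * r + 1 = 0)).card := by
    calc 2 * (univ \ {0, 2, -2} : Finset F).card
        = ∑ _t ∈ (univ \ {0, 2, -2} : Finset F), 2 := by simp [mul_comm]
      _ ≤ ∑ t ∈ (univ \ {0, 2, -2} : Finset F),
            (univ.filter (fun r : F => r * r + t * r + 1 = 0)).card := Finset.sum_le_sum h2
      _ ≤ ∑ t : F, (univ.filter (fun r : F => r * r + t * r + 1 = 0)).card :=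
          Finset.sum_le_sum_of_subset (sdiff_subset)
  have h4 := le_card_sdiff ({0, 2, -2} : Finset F) univ
  have h5 : ({0, 2, -2} : Finset F).card ≤ 3 := card_le_three
  rw [card_univ] at h4
  omega

omit [Fintype F] [DecidableEq F] in
theorem idx_of_scalar (g : SpecialLinearGroup (Fin 2) F)
    (hg : IsScalar2 (g : Matrix (Fin 2) (Fin 2) F)) : idx g = 1 := by
  have h1 : (QuotientGroup.mk g : ProjectiveSpecialLinearGroup (Fin 2) F) = 1 :=
    (QuotientGroup.eq_one_iff g).2 (mem_center_of_isScalar2 g hg)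
  unfold idx
  rw [h1, Subgroup.index_eq_one, eq_top_iff]
  intro x _
  rw [Subgroup.mem_centralizer_singleton_iff]; simp

theorem idx_mem (hF : ringChar F ≠ 2) (hodd : ¬ 2 ∣ Fintype.card F)
    (g : SpecialLinearGroup (Fin 2) F) :
    idx g = 1 ∨ idx g = (Fintype.card F ^ 2 - 1) / 2 ∨
      idx g = Fintype.card F * (Fintype.card F + 1) ∨
      idx g = Fintype.card F * (Fintype.card F - 1) ∨
      (Fintype.card F % 4 = 1 ∧ idx g = Fintype.card F * (Fintype.card F + 1) / 2) ∨
      (Fintype.card F % 4 = 3 ∧ idx g = Fintype.card F * (Fintype.card F - 1) / 2) := by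
  by_cases hg : IsScalar2 (g : Matrix (Fin 2) (Fin 2) F)
  · left; exact idx_of_scalar g hg
  · obtain ⟨v1, v2, v3, v4, v5⟩ := idx_values hF g hg
    obtain ⟨z1, z3⟩ := Rt_zero_eq (F := F) hF
    by_cases ht0 : (g : Matrix (Fin 2) (Fin 2) F).trace = 0
    · have hq4 : Fintype.card F % 4 = 1 ∨ Fintype.card F % 4 = 3 := by omega
      rcases hq4 with h | h
      · right; right; right; right; left
        refine ⟨h, v4 ht0 ?_⟩
        rw [ht0]; exact z1 h
      · right; right; right; right; right
        refine ⟨h, v5 ht0 ?_⟩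
        rw [ht0]; exact z3 h
    · by_cases ht4 : (g : Matrix (Fin 2) (Fin 2) F).trace ^ 2 = 4
      · right; left; exact v1 ht4
      · rcases card_roots_zero_or_two _ ht4 with h | h
        · right; right; right; left; exact v3 ht0 ht4 h
        · right; right; left; exact v2 ht0 ht4 h

theorem witnesses (hF : ringChar F ≠ 2) (h7 : 7 ≤ Fintype.card F) :
    (∃ g : SpecialLinearGroup (Fin 2) F, idx g = 1) ∧
    (∃ g : SpecialLinearGroup (Fin 2) F, idx g = (Fintype.card F ^ 2 - 1) / 2) ∧
    (∃ g : SpecialLinearGroup (Fin 2) F, idx g = Fintype.card F * (Fintype.card F + 1)) ∧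
    (∃ g : SpecialLinearGroup (Fin 2) F, idx g = Fintype.card F * (Fintype.card F - 1)) ∧
    (Fintype.card F % 4 = 1 →
      ∃ g : SpecialLinearGroup (Fin 2) F, idx g = Fintype.card F * (Fintype.card F + 1) / 2) ∧
    (Fintype.card F % 4 = 3 →
      ∃ g : SpecialLinearGroup (Fin 2) F, idx g = Fintype.card F * (Fintype.card F - 1) / 2) := by
  have h2 : (2 : F) ≠ 0 := Ring.two_ne_zero hF
  obtain ⟨z1, z3⟩ := Rt_zero_eq (F := F) hF
  refine ⟨⟨1, ?_⟩, ⟨compO 2, ?_⟩, ?_, ?_, ?_, ?_⟩
  · apply idx_of_scalar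
    rw [Matrix.SpecialLinearGroup.coe_one]
    refine ⟨?_, ?_, ?_⟩ <;> simp
  · apply (idx_values hF (compO 2) (compO_not_scalar 2)).1
    rw [compO_trace]; norm_num
  · obtain ⟨l, hl0, hl4⟩ := exists_pow_four_ne (F := F) h7
    have hll : l * l⁻¹ = 1 := mul_inv_cancel₀ hl0
    refine ⟨compO (l + l⁻¹), ?_⟩
    have ht0 : l + l⁻¹ ≠ 0 := by
      intro h
      apply hl4
      have h1 : l ^ 2 = -1 := by linear_combination l * h - hll
      have : l ^ 4 = (l ^ 2) ^ 2 := by ring
      rw [this, h1]; ring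
    have ht4 : (l + l⁻¹) ^ 2 ≠ 4 := by
      intro h
      apply hl4
      have h1 : (l ^ 2 - 1) ^ 2 = 0 := by
        linear_combination (l ^ 2) * h - (2 * l ^ 2 + 1 + l * l⁻¹) * hll
      have h3 : l ^ 2 = 1 := by
        have := pow_eq_zero_iff (two_ne_zero) |>.1 h1
        linear_combination this
      have : l ^ 4 = (l ^ 2) ^ 2 := by ring
      rw [this, h3]; ring
    apply (idx_values hF (compO (l + l⁻¹)) (compO_not_scalar _)).2.1
    · rw [compO_trace]; exact ht0
    · rw [compO_trace]; exact ht4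
    · rw [compO_trace]
      rcases card_roots_zero_or_two _ ht4 with h | h
      · exfalso
        rw [card_eq_zero, filter_eq_empty_iff] at h
        apply h (mem_univ (-l))
        linear_combination -hll
      · exact h
  · obtain ⟨t, ht0, ht4, hR⟩ := exists_nonsplit (F := F) h7
    refine ⟨compO t, ?_⟩
    apply (idx_values hF (compO t) (compO_not_scalar _)).2.2.1
    · rw [compO_trace]; exact ht0
    · rw [compO_trace]; exact ht4
    · rw [compO_trace]; exact hR
  · intro h
    refine ⟨compO 0, ?_⟩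
    apply (idx_values hF (compO 0) (compO_not_scalar _)).2.2.2.1
    · rw [compO_trace]
    · rw [compO_trace]; exact z1 h
  · intro h
    refine ⟨compO 0, ?_⟩
    apply (idx_values hF (compO 0) (compO_not_scalar _)).2.2.2.2
    · rw [compO_trace]
    · rw [compO_trace]; exact z3 h

end

theorem result {F : Type*} [Field F] [Fintype F]
    (hodd : ¬ 2 ∣ Fintype.card F) (h7 : 7 ≤ Fintype.card F) :
    (Fintype.card F % 4 = 1 →
      Set.range (fun g : (Matrix.ProjectiveSpecialLinearGroup (Fin 2) F) => (Subgroup.centralizer ({g} : Set (Matrix.ProjectiveSpecialLinearGroup (Fin 2) F))).index) =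
        {1, (Fintype.card F ^ 2 - 1) / 2, Fintype.card F * (Fintype.card F + 1) / 2,
          Fintype.card F * (Fintype.card F - 1), Fintype.card F * (Fintype.card F + 1)}) ∧
    (Fintype.card F % 4 = 3 →
      Set.range (fun g : (Matrix.ProjectiveSpecialLinearGroup (Fin 2) F) => (Subgroup.centralizer ({g} : Set (Matrix.ProjectiveSpecialLinearGroup (Fin 2) F))).index) =
        {1, (Fintype.card F ^ 2 - 1) / 2, Fintype.card F * (Fintype.card F - 1) / 2,
          Fintype.card F * (Fintype.card F + 1), Fintype.card F * (Fintype.card F - 1)}) := by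
  classical
  have hF : ringChar F ≠ 2 := by
    intro h
    rw [FiniteField.even_card_iff_char_two] at h
    exact hodd (Nat.dvd_of_mod_eq_zero h)
  obtain ⟨w1, w2, w3, w4, w5, w6⟩ := witnesses (F := F) hF h7
  constructor
  · intro hq
    ext y
    simp only [Set.mem_range, Set.mem_insert_iff, Set.mem_singleton_iff]
    constructor
    · rintro ⟨gq, rfl⟩
      obtain ⟨g, rfl⟩ := QuotientGroup.mk_surjective gq
      rcases idx_mem hF hodd g with h | h | h | h | ⟨_, h⟩ | ⟨h3, _⟩
      · left; exact h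
      · right; left; exact h
      · right; right; right; right; exact h
      · right; right; right; left; exact h
      · right; right; left; exact h
      · omega
    · rintro (rfl | rfl | rfl | rfl | rfl)
      · obtain ⟨g, hg⟩ := w1; exact ⟨_, hg⟩
      · obtain ⟨g, hg⟩ := w2; exact ⟨_, hg⟩
      · obtain ⟨g, hg⟩ := w5 hq; exact ⟨_, hg⟩
      · obtain ⟨g, hg⟩ := w4; exact ⟨_, hg⟩
      · obtain ⟨g, hg⟩ := w3; exact ⟨_, hg⟩
  · intro hq
    ext y
    simp only [Set.mem_range, Set.mem_insert_iff, Set.mem_singleton_iff]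
    constructor
    · rintro ⟨gq, rfl⟩
      obtain ⟨g, rfl⟩ := QuotientGroup.mk_surjective gq
      rcases idx_mem hF hodd g with h | h | h | h | ⟨h1, _⟩ | ⟨_, h⟩
      · left; exact h
      · right; left; exact h
      · right; right; right; left; exact h
      · right; right; right; right; exact h
      · omega
      · right; right; left; exact h
    · rintro (rfl | rfl | rfl | rfl | rfl)
      · obtain ⟨g, hg⟩ := w1; exact ⟨_, hg⟩
      · obtain ⟨g, hg⟩ := w2; exact ⟨_, hg⟩
      · obtain ⟨g, hg⟩ := w6 hq; exact ⟨_, hg⟩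
      · obtain ⟨g, hg⟩ := w3; exact ⟨_, hg⟩
      · obtain ⟨g, hg⟩ := w4; exact ⟨_, hg⟩

end Cfsg.Agent.S2508
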