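import Mathlib
import Cfsg.Statements.S0809
import Cfsg.Agent.Lib.Helper13.SL2TraceZero
import Cfsg.Agent.Lib.Helper13.TwoAdic

set_option autoImplicit false
set_option linter.unusedSectionVars false
open Cfsg

namespace Cfsg.Agent.S0809

open Matrix Cfsg.Agent.Helper12 Cfsg.Agent.Helper13 Cfsg.Agent.Helper13.SL2TZ Cfsg.Agent.S2508

section
variable {F : Type*} [Field F] [Fintype F]

/-- the preimage of the centraliser in `PSL₂` -/
def Kg (g : SpecialLinearGroup (Fin 2) F) : Subgroup (SpecialLinearGroup (Fin 2) F) :=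
  (Subgroup.centralizer
        ({(QuotientGroup.mk g : ProjectiveSpecialLinearGroup (Fin 2) F)} :
          Set (ProjectiveSpecialLinearGroup (Fin 2) F))).comap
        (QuotientGroup.mk' (Subgroup.center (SpecialLinearGroup (Fin 2) F)))

theorem mem_Kg (g x : SpecialLinearGroup (Fin 2) F) :
    x ∈ Kg g ↔ x * g = g * x ∨ x * g = -(g * x) := mem_comap_iff g x

theorem trace_one_ne (hF : ringChar F ≠ 2) :
    ((1 : SpecialLinearGroup (Fin 2) F) : Matrix (Fin 2) (Fin 2) F).trace ≠ 0 := by
  have h2 : (2 : F) ≠ 0 := Ring.two_ne_zero hF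
  rw [Matrix.SpecialLinearGroup.coe_one, Matrix.trace_fin_two, Matrix.one_apply_eq,
    Matrix.one_apply_eq]
  intro h
  apply h2
  linear_combination h

theorem trace_neg_one_ne (hF : ringChar F ≠ 2) :
    ((-1 : SpecialLinearGroup (Fin 2) F) : Matrix (Fin 2) (Fin 2) F).trace ≠ 0 := by
  have h2 : (2 : F) ≠ 0 := Ring.two_ne_zero hF
  rw [Matrix.SpecialLinearGroup.coe_neg, Matrix.SpecialLinearGroup.coe_one, Matrix.trace_neg,
    Matrix.trace_fin_two, Matrix.one_apply_eq, Matrix.one_apply_eq]
  intro h
  apply h2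
  linear_combination -h

theorem normalizer_eq (hF : ringChar F ≠ 2) (g : SpecialLinearGroup (Fin 2) F)
    (ht : (g : Matrix (Fin 2) (Fin 2) F).trace = 0) (hgg : g * g = -1) :
    Subgroup.normalizer ((Subgroup.zpowers g : Subgroup (SpecialLinearGroup (Fin 2) F)) :
      Set (SpecialLinearGroup (Fin 2) F)) = Kg g := by
  ext x
  rw [Subgroup.mem_normalizer_iff_map_conj_eq, mem_Kg, MonoidHom.map_zpowers]
  constructor
  · intro h
    have hmem : x * g * x⁻¹ ∈ Subgroup.zpowers g := by
      rw [← h]
      exact Subgroup.mem_zpowers _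
    have htr : ((x * g * x⁻¹ : SpecialLinearGroup (Fin 2) F) : Matrix (Fin 2) (Fin 2) F).trace = 0 := by
      rw [← trace_eq_of_isConj g (x * g * x⁻¹) (isConj_iff.2 ⟨x, rfl⟩), ht]
    rcases mem_zpowers_cases g hgg _ hmem with h1 | h1 | h1 | h1
    · rw [h1] at htr; exact absurd htr (trace_one_ne hF)
    · left
      have : x * g = (x * g * x⁻¹) * x := by group
      rw [this, h1]
    · rw [h1] at htr; exact absurd htr (trace_neg_one_ne hF)
    · right
      have : x * g = (x * g * x⁻¹) * x := by group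
      rw [this, h1, neg_mul]
  · rintro (h | h)
    · have : (MulAut.conj x) g = g := by
        rw [MulAut.conj_apply, h, mul_inv_cancel_right]
      exact congrArg Subgroup.zpowers this
    · have : (MulAut.conj x) g = g⁻¹ := by
        rw [MulAut.conj_apply, h, ← neg_eq_inv g hgg, neg_mul, mul_inv_cancel_right]
      refine (congrArg Subgroup.zpowers this).trans ?_
      exact Subgroup.zpowers_inv

theorem card_Kg (hF : ringChar F ≠ 2) (g : SpecialLinearGroup (Fin 2) F)
    (ht : (g : Matrix (Fin 2) (Fin 2) F).trace = 0) :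
    Nat.card (Kg g) =
      2 * Nat.card (Subgroup.centralizer ({g} : Set (SpecialLinearGroup (Fin 2) F))) := by
  have h1 := two_mul_idx hF g ht
  rw [idx_eq_comap] at h1
  change 2 * (Kg g).index = _ at h1
  have h2 := (Kg g).index_mul_card
  have h3 := (Subgroup.centralizer ({g} : Set (SpecialLinearGroup (Fin 2) F))).index_mul_card
  have h4 : (Kg g).index ≠ 0 := Subgroup.index_ne_zero_of_finite
  have h5 : (Kg g).index * Nat.card (Kg g) = (Kg g).index *
      (2 * Nat.card (Subgroup.centralizer ({g} : Set (SpecialLinearGroup (Fin 2) F)))) := by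
    rw [h2, ← h3, ← h1]; ring
  exact Nat.eq_of_mul_eq_mul_left (Nat.pos_of_ne_zero h4) h5

variable [DecidableEq F]

theorem card_centralizer_trace_zero (hF : ringChar F ≠ 2) (g : SpecialLinearGroup (Fin 2) F)
    (ht : (g : Matrix (Fin 2) (Fin 2) F).trace = 0) :
    (Fintype.card F % 4 = 1 →
      Nat.card (Subgroup.centralizer ({g} : Set (SpecialLinearGroup (Fin 2) F))) =
        Fintype.card F - 1) ∧
    (Fintype.card F % 4 = 3 →
      Nat.card (Subgroup.centralizer ({g} : Set (SpecialLinearGroup (Fin 2) F))) =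
        Fintype.card F + 1) := by
  have h2 : (2 : F) ≠ 0 := Ring.two_ne_zero hF
  have h4 : (4 : F) ≠ 0 := by
    have : (4 : F) = 2 * 2 := by norm_num
    rw [this]; exact mul_ne_zero h2 h2
  have h04 : (0 : F) ^ 2 ≠ 4 := by simpa using h4.symm
  have hc := S2507.card_centralizer g (not_scalar_of_trace_zero hF g ht)
  rw [ht] at hc
  have hcount := conic_count_odd hF (0 : F) h04
  change S2507.Nt (0 : F) + S2507.Rt (0 : F) = _ at hcount
  obtain ⟨z1, z3⟩ := Rt_zero_eq (F := F) hF
  constructor
  · intro h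
    rw [hc]
    have := z1 h
    omega
  · intro h
    rw [hc]
    have := z3 h
    omega

end

/-- For q odd, the subgroups of order 4 of SL_2(q) are all conjugate, with normalizer of order 2(q − 1) or 2(q + 1); all involutions of PSL_2(q) are conjugate. -/
theorem result {F : Type*} [Field F] [Fintype F] {q : ℕ} (hF : Fintype.card F = q) (hodd : Odd q) (A : Subgroup (Matrix.SpecialLinearGroup (Fin 2) F)) (hA : Nat.card A = 4) : (∀ B : Subgroup (Matrix.SpecialLinearGroup (Fin 2) F), Nat.card B = 4 → ∃ g : Matrix.SpecialLinearGroup (Fin 2) F, B = A.map (MulAut.conj g).toMonoidHom) ∧ (q % 4 = 1 → Nat.card ↥(Subgroup.normalizer (A : Set (Matrix.SpecialLinearGroup (Fin 2) F))) = 2 * (q - 1)) ∧ (q % 4 = 3 → Nat.card ↥(Subgroup.normalizer (A : Set (Matrix.SpecialLinearGroup (Fin 2) F))) = 2 * (q + 1)) ∧ (∀ x y : Matrix.ProjectiveSpecialLinearGroup (Fin 2) F, orderOf x = 2 → orderOf y = 2 → IsConj x y) := by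
  classical
  subst hF
  have hch : ringChar F ≠ 2 := ringChar_ne_two_of_odd_card hodd
  obtain ⟨g, hgA, htg, hgg, rfl⟩ := exists_gen_of_card_four hch A hA
  obtain ⟨c1, c3⟩ := card_centralizer_trace_zero hch g htg
  refine ⟨?_, ?_, ?_, ?_⟩
  · intro B hB
    obtain ⟨h, hhB, hth, hhh, rfl⟩ := exists_gen_of_card_four hch B hB
    obtain ⟨x, hx⟩ := isConj_iff.1 (isConj_of_trace_zero hch g h htg hth)
    refine ⟨x, ?_⟩
    rw [MonoidHom.map_zpowers]
    congr 1
    exact hx.symm
  · intro h
    rw [normalizer_eq hch g htg hgg, card_Kg hch g htg, c1 h]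
  · intro h
    rw [normalizer_eq hch g htg hgg, card_Kg hch g htg, c3 h]
  · have key : ∀ x : Matrix.ProjectiveSpecialLinearGroup (Fin 2) F, orderOf x = 2 →
        ∃ a : Matrix.SpecialLinearGroup (Fin 2) F, QuotientGroup.mk a = x ∧
          (a : Matrix (Fin 2) (Fin 2) F).trace = 0 := by
      intro x hx
      obtain ⟨a, rfl⟩ := QuotientGroup.mk_surjective x
      refine ⟨a, rfl, ?_⟩
      have hx1 : (QuotientGroup.mk a : Matrix.ProjectiveSpecialLinearGroup (Fin 2) F) ≠ 1 := by
        intro h1
        rw [h1, orderOf_one] at hx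
        norm_num at hx
      have hx2 : (QuotientGroup.mk a : Matrix.ProjectiveSpecialLinearGroup (Fin 2) F) ^ 2 = 1 := by
        have h := pow_orderOf_eq_one (QuotientGroup.mk a : Matrix.ProjectiveSpecialLinearGroup (Fin 2) F)
        rw [hx] at h
        exact h
      have ha1 : a ∉ Subgroup.center (Matrix.SpecialLinearGroup (Fin 2) F) := by
        intro h1
        exact hx1 ((QuotientGroup.eq_one_iff a).2 h1)
      have ha2 : a * a ∈ Subgroup.center (Matrix.SpecialLinearGroup (Fin 2) F) := by
        rw [← QuotientGroup.eq_one_iff, QuotientGroup.mk_mul, ← pow_two]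
        exact hx2
      apply trace_of_mul_self_eq_neg_one hch
      rcases center_cases _ ha2 with h1 | h1
      · exfalso
        rcases eq_one_or_neg_one_of_mul_self hch a h1 with h2 | h2
        · exact ha1 (by rw [h2]; exact Subgroup.one_mem _)
        · exact ha1 (by rw [h2]; exact neg_one_mem_center)
      · exact h1
    intro x y hx hy
    obtain ⟨a, rfl, hta⟩ := key x hx
    obtain ⟨b, rfl, htb⟩ := key y hy
    exact MonoidHom.map_isConj
      (QuotientGroup.mk' (Subgroup.center (Matrix.SpecialLinearGroup (Fin 2) F)))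
      (isConj_of_trace_zero hch a b hta htb)

end Cfsg.Agent.S0809
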