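import Mathlib
import Cfsg.Statements.S1012
import Cfsg.Agent.Lib.Lead.SylowTools
import Cfsg.Agent.Lib.Lead.SimpleTools
import Cfsg.Agent.Lib.Lead.PermTools

set_option autoImplicit false
set_option linter.style.haveILetI false
open Pointwise
open Cfsg

namespace Cfsg.Agent.S1012

open Cfsg.Agent.Lead

/-- A group of order 24 with no element of order 6 is isomorphic to the symmetric group of degree 4. -/
theorem result {G : Type*} [Group G] [Finite G] (h : Nat.card G = 24) (h6 : ∀ g : G, orderOf g ≠ 6) : Nonempty (G ≃* Equiv.Perm (Fin 4)) := by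
  classical
  haveI : Fact (Nat.Prime 3) := ⟨by norm_num⟩
  obtain ⟨hc3, hdvd, hmod⟩ := sylow_facts (G := G) (p := 3) (k := 1) (m := 8)
    (by rw [h]; norm_num) (by norm_num)
  have hc3' : ∀ Q : Sylow 3 G, Nat.card (Q : Subgroup G) = 3 := by
    intro Q; rw [hc3 Q]; norm_num
  -- an element of order 3
  obtain ⟨y, hy⟩ := exists_prime_orderOf_dvd_card' (G := G) 3 (by rw [h]; norm_num)
  -- no involution commutes with an element of order 3
  have hno : ∀ t y : G, orderOf t = 2 → orderOf y = 3 → ¬ Commute t y := by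
    intro t y ht hy hcomm
    have := hcomm.orderOf_mul_eq_mul_orderOf_of_coprime (by rw [ht, hy]; decide)
    rw [ht, hy] at this
    exact h6 _ this
  -- n_3 = 4
  have hn3 : Nat.card (Sylow 3 G) = 4 := by
    have hle : Nat.card (Sylow 3 G) ≤ 8 := Nat.le_of_dvd (by norm_num) hdvd
    have h14 : Nat.card (Sylow 3 G) = 1 ∨ Nat.card (Sylow 3 G) = 4 ∨ Nat.card (Sylow 3 G) = 7 := by
      omega
    rcases h14 with h1 | h4 | h7
    · exfalso
      obtain ⟨Q⟩ : Nonempty (Sylow 3 G) := inferInstance
      have hN : Subgroup.normalizer ((Q : Subgroup G) : Set G) = ⊤ := by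
        have := card_sylow_mul_card_normalizer Q
        rw [h1, one_mul] at this
        exact Subgroup.eq_top_of_card_eq _ this
      have hrel := relIndex_centralizer_normalizer_dvd Q (hc3' Q)
      rw [hN, Subgroup.relIndex_top_right] at hrel
      set C := Subgroup.centralizer ((Q : Subgroup G) : Set G) with hC
      have hmul := Subgroup.card_mul_index C
      rw [h] at hmul
      have h2 : 2 ∣ Nat.card C := by
        have hi : C.index = 1 ∨ C.index = 2 := by
          have := Nat.le_of_dvd (by norm_num) hrel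
          have hpos : 0 < C.index := by
            rcases Nat.eq_zero_or_pos C.index with h0 | h0
            · rw [h0, mul_zero] at hmul; omega
            · exact h0
          omega
        rcases hi with hi | hi <;> rw [hi] at hmul <;> omega
      obtain ⟨t, ht⟩ := exists_prime_orderOf_dvd_card' (G := C) 2 h2
      have htG : orderOf (t : G) = 2 := by rw [Subgroup.orderOf_coe, ht]
      -- generator of Q
      obtain ⟨y', hy'⟩ := exists_prime_orderOf_dvd_card' (G := (Q : Subgroup G)) 3
        (by rw [hc3' Q])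
      have hy'G : orderOf (y' : G) = 3 := by rw [Subgroup.orderOf_coe, hy']
      have htc : (t : G) ∈ Subgroup.centralizer ((Q : Subgroup G) : Set G) := t.2
      rw [Subgroup.mem_centralizer_iff] at htc
      exact hno (t : G) (y' : G) htG hy'G (htc (y' : G) y'.2).symm
    · exact h4
    · exfalso; rw [h7] at hdvd; revert hdvd; decide
  haveI : Fintype (Sylow 3 G) := Fintype.ofFinite _
  -- two distinct Sylow 3-subgroups meet trivially
  have hTI : ∀ Q Q' : Sylow 3 G, Q ≠ Q' → (Q : Subgroup G) ⊓ (Q' : Subgroup G) = ⊥ := by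
    intro Q Q' hne
    have h1 : Nat.card ((Q : Subgroup G) ⊓ (Q' : Subgroup G) : Subgroup G) ∣ 3 := by
      have := Subgroup.card_dvd_of_le (inf_le_left : (Q : Subgroup G) ⊓ (Q' : Subgroup G) ≤ Q)
      rwa [hc3' Q] at this
    rcases (Nat.dvd_prime Nat.prime_three).1 h1 with h' | h'
    · exact Subgroup.card_eq_one.1 h'
    · exfalso
      apply hne
      have e1 : (Q : Subgroup G) ⊓ (Q' : Subgroup G) = (Q : Subgroup G) :=
        Subgroup.eq_of_le_of_card_ge inf_le_left (by rw [h', hc3' Q])
      have e2 : (Q : Subgroup G) ⊓ (Q' : Subgroup G) = (Q' : Subgroup G) :=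
        Subgroup.eq_of_le_of_card_ge inf_le_right (by rw [h', hc3' Q'])
      exact Sylow.ext (e1.symm.trans e2)
  obtain ⟨Q1, Q2, hQ12⟩ : ∃ Q1 Q2 : Sylow 3 G, Q1 ≠ Q2 := by
    have : 1 < Nat.card (Sylow 3 G) := by rw [hn3]; norm_num
    rw [Finite.one_lt_card_iff_nontrivial] at this
    exact exists_pair_ne _
  have hN6 : ∀ Q : Sylow 3 G, Nat.card (Subgroup.normalizer ((Q : Subgroup G) : Set G)) = 6 := by
    intro Q
    have := card_sylow_mul_card_normalizer Q
    rw [hn3, h] at this
    omega
  -- the action on Sylow 3-subgroups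
  let φ : G →* Equiv.Perm (Sylow 3 G) := MulAction.toPermHom G (Sylow 3 G)
  have hker : ∀ g : G, g ∈ φ.ker → ∀ Q : Sylow 3 G,
      g ∈ Subgroup.normalizer ((Q : Subgroup G) : Set G) := by
    intro g hg Q
    rw [MonoidHom.mem_ker] at hg
    have : g • Q = Q := by
      have := congrArg (fun σ : Equiv.Perm (Sylow 3 G) => σ Q) hg
      simpa [φ] using this
    exact Sylow.smul_eq_iff_mem_normalizer.1 this
  -- every element of the kernel squares to one
  have hsq : ∀ g : G, g ∈ φ.ker → g ^ 2 = 1 := by
    intro g hg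
    have hg6 : g ^ 6 = 1 := by
      have hgN := hker g hg Q1
      have h0 := pow_card_eq_one'
        (G := ↥(Subgroup.normalizer ((Q1 : Subgroup G) : Set G))) (x := ⟨g, hgN⟩)
      rw [hN6 Q1] at h0
      have := congrArg Subtype.val h0
      simpa using this
    have ha3 : (g ^ 2) ^ 3 ^ 1 = 1 := by rw [pow_one, ← pow_mul]; exact hg6
    have ha : g ^ 2 ∈ φ.ker := φ.ker.pow_mem hg 2
    have m1 := mem_sylow_of_mem_normalizer_of_pow Q1 (hker _ ha Q1) ha3
    have m2 := mem_sylow_of_mem_normalizer_of_pow Q2 (hker _ ha Q2) ha3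
    have : g ^ 2 ∈ (Q1 : Subgroup G) ⊓ (Q2 : Subgroup G) := Subgroup.mem_inf.2 ⟨m1, m2⟩
    rw [hTI Q1 Q2 hQ12, Subgroup.mem_bot] at this
    exact this
  have hkerbot : φ.ker = ⊥ := by
    rw [eq_bot_iff]
    intro t ht
    rw [Subgroup.mem_bot]
    by_contra ht1
    have ht2 : orderOf t = 2 := orderOf_eq_prime (hsq t ht) ht1
    -- the kernel has order 2
    have hkN : φ.ker ≤ Subgroup.normalizer ((Q1 : Subgroup G) : Set G) := fun g hg => hker g hg Q1
    have hk6 : Nat.card φ.ker ∣ 6 := by
      have := Subgroup.card_dvd_of_le hkN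
      rwa [hN6 Q1] at this
    have hk3 : ¬ 3 ∣ Nat.card φ.ker := by
      intro h3
      obtain ⟨w, hw⟩ := exists_prime_orderOf_dvd_card' (G := φ.ker) 3 h3
      have hwG : orderOf (w : G) = 3 := by rw [Subgroup.orderOf_coe, hw]
      have := orderOf_dvd_of_pow_eq_one (hsq (w : G) w.2)
      rw [hwG] at this
      omega
    have hk2 : Nat.card φ.ker = 2 := by
      have hle : Nat.card φ.ker ≤ 6 := Nat.le_of_dvd (by norm_num) hk6
      have hpos : 0 < Nat.card φ.ker := Nat.card_pos
      have h2 : 2 ∣ Nat.card φ.ker := by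
        have := orderOf_dvd_natCard (⟨t, ht⟩ : φ.ker)
        rwa [Subgroup.orderOf_mk, ht2] at this
      have h6' : Nat.card φ.ker ≠ 6 := fun hh => hk3 (by rw [hh]; norm_num)
      obtain ⟨c, hc⟩ := h2
      have hc' : Nat.card φ.ker ≠ 4 := by
        intro hh; rw [hh] at hk6; revert hk6; decide
      omega
    -- t is central
    have hcen : ∀ x : G, x * t * x⁻¹ = t := by
      intro x
      have hmem : x * t * x⁻¹ ∈ φ.ker := (φ.normal_ker).conj_mem t ht x
      by_contra hne
      -- two nontrivial elements in a group of order 2 coincide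
      have hne1 : x * t * x⁻¹ ≠ 1 := by
        intro hh
        apply ht1
        have : t = x⁻¹ * (x * t * x⁻¹) * x := by group
        rw [this, hh]; group
      obtain ⟨w, -, hw⟩ := (Nat.card_eq_two_iff' (1 : φ.ker)).1 hk2
      have e1 : (⟨t, ht⟩ : φ.ker) = w := hw _ (fun hh => ht1 (congrArg Subtype.val hh))
      have e2 : (⟨x * t * x⁻¹, hmem⟩ : φ.ker) = w :=
        hw _ (fun hh => hne1 (congrArg Subtype.val hh))
      exact hne (congrArg Subtype.val (e2.trans e1.symm))
    have hcomm : Commute t y := by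
      have := hcen y
      calc t * y = (y * t * y⁻¹)⁻¹⁻¹ * y := by rw [inv_inv, this]
        _ = y * t := by group
    exact hno t y ht2 hy hcomm
  have hinj : Function.Injective φ := (MonoidHom.ker_eq_bot_iff φ).1 hkerbot
  have hbij : Function.Bijective φ := by
    apply hinj.bijective_of_nat_card_le
    rw [Nat.card_perm, hn3, h]
    decide
  have hcard4 : Fintype.card (Sylow 3 G) = Fintype.card (Fin 4) := by
    rw [← Nat.card_eq_fintype_card, hn3, Fintype.card_fin]
  exact ⟨(MulEquiv.ofBijective φ hbij).trans (Fintype.equivOfCardEq hcard4).permCongrHom⟩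

end Cfsg.Agent.S1012
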