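import Mathlib
import Cfsg.Statements.S0803
import Cfsg.Agent.Lib.Helper13.PSL2S4
import Cfsg.Agent.Lib.Helper13.PSL2Char2
import Cfsg.Agent.Lib.Helper28.SubfieldPSL2

set_option autoImplicit false
open Cfsg

namespace Cfsg.Agent.S0803

theorem arith1 : ∀ r < 16, r * r % 16 = 1 → r % 8 = 1 ∨ r % 8 = 7 := by decide

theorem arith2 : ∀ r < 16, r % 2 = 1 → r * r * r % 16 = r → r * r % 16 = 1 := by decide

theorem arith3 : ∀ r < 16, r * r % 16 = 1 → r % 2 = 1 := by decide

/-- PSL_2(q) has a subgroup isomorphic to S_4 iff q² ≡ 1 (mod 16). -/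
theorem result {F : Type*} [Field F] [Fintype F] {q : ℕ} (hF : Fintype.card F = q) : (∃ H : Subgroup (Matrix.ProjectiveSpecialLinearGroup (Fin 2) F), Nonempty (H ≃* Equiv.Perm (Fin 4))) ↔ q ^ 2 % 16 = 1 := by
  have hr : q % 16 < 16 := Nat.mod_lt _ (by norm_num)
  have hsq : q ^ 2 % 16 = (q % 16) * (q % 16) % 16 := by
    rw [pow_two, Nat.mul_mod]
  constructor
  · rintro ⟨H, ⟨e⟩⟩
    by_cases h2 : ringChar F = 2
    · exfalso
      haveI : CharP F 2 := by
        rw [← h2]
        exact ringChar.charP F
      exact Cfsg.Agent.Helper13.PSL2Char2.no_S4 H e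
    · have hodd : Odd (Fintype.card F) := by
        rw [← Nat.not_even_iff_odd, Nat.even_iff]
        intro h
        exact h2 (FiniteField.even_card_iff_char_two.2 h)
      have hcard := Cfsg.Agent.Helper28.SubfieldPSL2.card_PSL2_two_mul (F := F) hodd
      have hH : Nat.card H = 24 := by
        rw [Nat.card_congr e.toEquiv, Nat.card_eq_fintype_card, Fintype.card_perm, Fintype.card_fin]
        rfl
      have hdvd : 24 ∣ Nat.card (Matrix.ProjectiveSpecialLinearGroup (Fin 2) F) := by
        rw [← hH]
        exact Subgroup.card_subgroup_dvd_card H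
      rw [hF] at hcard hodd
      -- `16 ∣ q (q² - 1) = q³ - q`
      have h16 : 16 ∣ q * (q ^ 2 - 1) := by
        rw [← hcard]
        obtain ⟨k, hk⟩ := hdvd
        exact ⟨3 * k, by rw [hk]; ring⟩
      have hq1 : 1 ≤ q := by
        rcases hodd with ⟨k, rfl⟩
        omega
      have hge : q ≤ q * q * q := by
        calc q = q * 1 * 1 := by ring
          _ ≤ q * q * q := by gcongr
      have heq : q * (q ^ 2 - 1) = q * q * q - q := by
        rw [Nat.mul_sub, mul_one, pow_two, mul_assoc]
      rw [heq] at h16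
      have hmod : q * q * q % 16 = q % 16 := by
        have := (Nat.modEq_iff_dvd' hge).2 h16
        exact this.symm
      have hmod' : (q % 16) * (q % 16) * (q % 16) % 16 = q % 16 := by
        have e : q % 16 ≡ q [MOD 16] := Nat.mod_modEq q 16
        have e3 : (q % 16) * (q % 16) * (q % 16) ≡ q * q * q [MOD 16] := (e.mul e).mul e
        exact e3.trans hmod
      rw [hsq]
      apply arith2 _ hr _ hmod'
      rcases hodd with ⟨k, rfl⟩
      omega
  · intro h
    rw [hsq] at h
    have hq8 := arith1 _ hr h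
    have hq2 := arith3 _ hr h
    have hF2 : ringChar F ≠ 2 := by
      intro h2
      have := FiniteField.even_card_iff_char_two.1 h2
      rw [hF] at this
      omega
    have hsq2 : IsSquare (2 : F) := by
      rw [FiniteField.isSquare_two_iff, hF]
      omega
    obtain ⟨ρ, hρ⟩ := hsq2
    exact Cfsg.Agent.Helper13.PSL2S4.exists_S4_of_sqrt_two hF2 ρ hρ.symm

end Cfsg.Agent.S0803
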