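import Mathlib
import Cfsg.Statements.S0749
-- import your own Cfsg.Agent.* helpers here

set_option autoImplicit false
open Cfsg

namespace Cfsg.Agent.S0749

open Module

theorem exists_partner {F V : Type*} [Field F] [AddCommGroup V] [Module F V]
    [FiniteDimensional F V] (B : LinearMap.BilinForm F V) (hB : B.Nondegenerate) (hA : B.IsAlt)
    (X : Submodule F V) (f : X →ₗ[F] V) (hf : Function.Injective f)
    (hiso : ∀ x x' : X, B (f x) (f x') = B (x : V) (x' : V)) (v : V) (hv : v ∉ X) :
    ∃ w : V, w ∉ LinearMap.range f ∧ ∀ x : X, B w (f x) = B v (x : V) := by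
  set Y := LinearMap.range f with hY
  let e : X ≃ₗ[F] Y := LinearEquiv.ofInjective f hf
  have he : ∀ x : X, ((e x : Y) : V) = f x := fun x => LinearEquiv.ofInjective_apply f x
  let ℓ₀ : Y →ₗ[F] F := (B v) ∘ₗ X.subtype ∘ₗ e.symm.toLinearMap
  obtain ⟨ℓ, hℓ⟩ := LinearMap.exists_extend ℓ₀
  set w₀ := (B.toDual hB).symm ℓ with hw₀
  have hw₀' : ∀ u, B w₀ u = ℓ u := fun u => LinearMap.BilinForm.apply_toDual_symm_apply ℓ u
  have h1 : ∀ x : X, B w₀ (f x) = B v (x : V) := by
    intro x
    rw [hw₀']
    have h2 : ℓ (f x) = ℓ₀ (e x) := by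
      rw [← hℓ]
      simp [he]
    rw [h2]
    simp [ℓ₀]
  by_cases hw₀Y : w₀ ∈ Y
  swap
  · exact ⟨w₀, hw₀Y, h1⟩
  by_cases hYo : B.orthogonal Y ≤ Y
  · exfalso
    obtain ⟨x₀, hx₀⟩ := hw₀Y
    -- v - x₀ is orthogonal to X
    have h2 : v - (x₀ : V) ∈ B.orthogonal X := by
      rw [LinearMap.BilinForm.mem_orthogonal_iff]
      intro x hx
      have h3 : B v x = B (x₀ : V) x := by
        have := h1 ⟨x, hx⟩
        rw [← hx₀, hiso] at this
        exact this.symm
      rw [← hA.neg_eq, map_sub, LinearMap.sub_apply, h3, sub_self, neg_zero]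
    -- the orthogonal of X is contained in X
    have h3 : B.orthogonal X ≤ X := by
      set R : Submodule F X := (B.orthogonal X).comap X.subtype with hR
      have h4 : B.orthogonal Y ≤ R.map f := by
        intro z hz
        obtain ⟨x, hx⟩ := hYo hz
        refine ⟨x, ?_, hx⟩
        show (x : V) ∈ B.orthogonal X
        rw [LinearMap.BilinForm.mem_orthogonal_iff]
        intro x' hx'
        have := hiso ⟨x', hx'⟩ x
        rw [← this, hx]
        rw [LinearMap.BilinForm.mem_orthogonal_iff] at hz
        exact hz _ ⟨⟨x', hx'⟩, rfl⟩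
      have h5 : finrank F (B.orthogonal Y) ≤ finrank F (R.map f) := Submodule.finrank_mono h4
      have h6 : finrank F (R.map f) = finrank F R :=
        (Submodule.equivMapOfInjective f hf R).finrank_eq.symm
      have h7 : finrank F (R.map X.subtype) = finrank F R :=
        (Submodule.equivMapOfInjective X.subtype X.subtype_injective R).finrank_eq.symm
      have h8 : R.map X.subtype ≤ B.orthogonal X := by
        rintro _ ⟨x, hx, rfl⟩
        exact hx
      have h9 : finrank F (B.orthogonal Y) = finrank F (B.orthogonal X) := by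
        rw [LinearMap.BilinForm.finrank_orthogonal hB, LinearMap.BilinForm.finrank_orthogonal hB,
          hY, LinearMap.finrank_range_of_inj hf]
      have h10 : R.map X.subtype = B.orthogonal X := by
        apply Submodule.eq_of_le_of_finrank_le h8
        rw [h7, ← h6, ← h9]
        exact h5
      rw [← h10]
      rintro _ ⟨x, _, rfl⟩
      exact x.2
    have h4 : v - (x₀ : V) ∈ X := h3 h2
    apply hv
    have := X.add_mem h4 x₀.2
    simpa using this
  · obtain ⟨z, hz, hzY⟩ := SetLike.not_le_iff_exists.mp hYo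
    refine ⟨w₀ + z, ?_, ?_⟩
    · intro hw
      apply hzY
      have := Y.sub_mem hw hw₀Y
      simpa using this
    · intro x
      rw [map_add, LinearMap.add_apply, h1]
      rw [LinearMap.BilinForm.mem_orthogonal_iff] at hz
      have h2 : B z (f x) = 0 := by
        rw [← hA.neg_eq, hz (f x) ⟨x, rfl⟩, neg_zero]
      rw [h2, add_zero]

theorem witt_aux {F V : Type*} [Field F] [AddCommGroup V] [Module F V]
    [FiniteDimensional F V] (B : LinearMap.BilinForm F V) (hB : B.Nondegenerate) (hA : B.IsAlt) :
    ∀ (n : ℕ) (X : Submodule F V) (f : X →ₗ[F] V), Function.Injective f →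
      (∀ x x' : X, B (f x) (f x') = B (x : V) (x' : V)) → finrank F V - finrank F X = n →
      ∃ g : V ≃ₗ[F] V, (∀ u v : V, B (g u) (g v) = B u v) ∧ ∀ x : X, g (x : V) = f x := by
  intro n
  induction n using Nat.strong_induction_on with
  | _ n ih =>
  intro X f hf hiso hn
  by_cases hX : X = ⊤
  · -- define g directly
    have hmem : ∀ u : V, u ∈ X := fun u => by rw [hX]; trivial
    let g₀ : V →ₗ[F] V := f ∘ₗ (LinearMap.codRestrict X LinearMap.id hmem)
    have hg₀ : ∀ u : V, g₀ u = f ⟨u, hmem u⟩ := fun u => rfl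
    have hinj : Function.Injective g₀ := by
      intro u u' h
      rw [hg₀, hg₀] at h
      have := hf h
      exact congrArg Subtype.val this
    refine ⟨LinearEquiv.ofInjectiveEndo g₀ hinj, ?_, ?_⟩
    · intro u v
      rw [LinearEquiv.coe_ofInjectiveEndo, hg₀, hg₀, hiso]
    · intro x
      rw [LinearEquiv.coe_ofInjectiveEndo, hg₀]
  · have hlt : X < ⊤ := lt_top_iff_ne_top.mpr hX
    obtain ⟨v, _, hv⟩ := SetLike.exists_of_lt hlt
    obtain ⟨w, hwY, hw⟩ := exists_partner B hB hA X f hf hiso v hv
    obtain ⟨F₀, hF₀⟩ := LinearMap.exists_extend f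
    have hF₀' : ∀ x : X, F₀ (x : V) = f x := by
      intro x
      rw [← hF₀]
      rfl
    obtain ⟨ψ₀, hψ₀v, hψ₀X⟩ := Submodule.exists_dual_map_eq_bot_of_notMem hv inferInstance
    let ψ : V →ₗ[F] F := (ψ₀ v)⁻¹ • ψ₀
    have hψv : ψ v = 1 := by
      simp only [ψ, LinearMap.smul_apply, smul_eq_mul]
      exact inv_mul_cancel₀ hψ₀v
    have hψX : ∀ x ∈ X, ψ x = 0 := by
      intro x hx
      have : ψ₀ x ∈ X.map ψ₀ := ⟨x, hx, rfl⟩
      rw [hψ₀X, Submodule.mem_bot] at this
      simp only [ψ, LinearMap.smul_apply, smul_eq_mul, this, mul_zero]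
    let F₁ : V →ₗ[F] V := F₀ + ψ.smulRight (w - F₀ v)
    have hF₁X : ∀ x : X, F₁ (x : V) = f x := by
      intro x
      simp only [F₁, LinearMap.add_apply, LinearMap.smulRight_apply, hψX x x.2, zero_smul,
        add_zero, hF₀']
    have hF₁v : F₁ v = w := by
      simp only [F₁, LinearMap.add_apply, LinearMap.smulRight_apply, hψv, one_smul]
      abel
    set X' : Submodule F V := X ⊔ Submodule.span F {v} with hX'
    let f' : X' →ₗ[F] V := F₁.domRestrict X'
    have hdecomp : ∀ u : X', ∃ (x : X) (a : F), (u : V) = (x : V) + a • v ∧ f' u = f x + a • w := by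
      intro u
      obtain ⟨y, hy, z, hz, hyz⟩ := Submodule.mem_sup.mp u.2
      obtain ⟨a, rfl⟩ := Submodule.mem_span_singleton.mp hz
      refine ⟨⟨y, hy⟩, a, hyz.symm, ?_⟩
      show F₁ (u : V) = _
      rw [← hyz, map_add, map_smul, hF₁v]
      congr 1
      exact hF₁X ⟨y, hy⟩
    have hf' : Function.Injective f' := by
      rw [injective_iff_map_eq_zero]
      intro u hu
      obtain ⟨x, a, hux, hfu⟩ := hdecomp u
      rw [hu] at hfu
      have ha : a = 0 := by
        by_contra ha
        apply hwY
        refine ⟨(-a⁻¹) • x, ?_⟩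
        rw [map_smul]
        have h1 : f x = - (a • w) := eq_neg_of_add_eq_zero_left hfu.symm
        rw [h1, smul_neg, neg_smul, neg_neg, smul_smul, inv_mul_cancel₀ ha, one_smul]
      rw [ha, zero_smul, add_zero] at hfu hux
      have hx0 : x = 0 := by
        apply hf
        rw [map_zero, ← hfu]
      apply Subtype.ext
      rw [hux, hx0]
      rfl
    have hiso' : ∀ u u' : X', B (f' u) (f' u') = B (u : V) (u' : V) := by
      intro u u'
      obtain ⟨x, a, hux, hfu⟩ := hdecomp u
      obtain ⟨x', a', hux', hfu'⟩ := hdecomp u'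
      rw [hfu, hfu', hux, hux']
      simp only [map_add, map_smul, LinearMap.add_apply, LinearMap.smul_apply, smul_eq_mul,
        hiso, hw, hA.self_eq_zero]
      have h1 : B (f x) w = - B v (x : V) := by
        rw [← hw, hA.neg_eq]
      have h2 : B (x : V) v = - B v (x : V) := by
        rw [hA.neg_eq]
      rw [h1, h2]
    have hlt' : X < X' := by
      apply lt_of_le_of_ne le_sup_left
      intro h
      apply hv
      rw [h]
      exact Submodule.mem_sup_right (Submodule.mem_span_singleton_self v)
    have hfr : finrank F X < finrank F X' := Submodule.finrank_lt_finrank_of_lt hlt'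
    have hfr' : finrank F X' ≤ finrank F V := Submodule.finrank_le X'
    obtain ⟨g, hg1, hg2⟩ := ih (finrank F V - finrank F X') (by omega) X' f' hf' hiso' rfl
    refine ⟨g, hg1, ?_⟩
    intro x
    have hxX' : (x : V) ∈ X' := Submodule.mem_sup_left x.2
    have := hg2 ⟨x, hxX'⟩
    rw [this]
    exact hF₁X x

/-- Witt's Lemma for alternating forms. If B is a non-degenerate alternating bilinear form on a finite-dimensional vector space V (over any field) and φ is a linear equivalence between subspaces X and Y of V preserving B, then φ extends to a B-preserving linear automorphism of V. -/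
theorem result {F V : Type*} [Field F] [AddCommGroup V] [Module F V] [FiniteDimensional F V] (B : LinearMap.BilinForm F V) (hB : B.Nondegenerate) (hA : B.IsAlt) (X Y : Submodule F V) (φ : X ≃ₗ[F] Y) (hφ : ∀ x x' : X, B (φ x : V) (φ x' : V) = B (x : V) (x' : V)) : ∃ g : V ≃ₗ[F] V, (∀ u v : V, B (g u) (g v) = B u v) ∧ ∀ x : X, g (x : V) = (φ x : V) := by
  have hf : Function.Injective (Y.subtype ∘ₗ φ.toLinearMap) := by
    intro x x' h
    apply φ.injective
    apply Subtype.ext
    exact h
  obtain ⟨g, hg1, hg2⟩ := witt_aux B hB hA _ X (Y.subtype ∘ₗ φ.toLinearMap) hf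
    (fun x x' => hφ x x') rfl
  exact ⟨g, hg1, fun x => hg2 x⟩

end Cfsg.Agent.S0749
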