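import Mathlib
import Cfsg.Statements.S0752

set_option autoImplicit false
open Cfsg

namespace Cfsg.Agent.S0752

open Module

section

variable {F : Type*} [Field F]

/-- The family version of the symplectic basis theorem. -/
theorem main : ∀ (n : ℕ) {V : Type*} [AddCommGroup V] [Module F V] [FiniteDimensional F V]
    (B : LinearMap.BilinForm F V) (_ : B.IsAlt) (_ : finrank F V = n),
    ∃ (m k : ℕ) (e f : Fin m → V) (r : Fin k → V),
      (∀ i j, B (e i) (f j) = if i = j then 1 else 0) ∧ (∀ i j, B (e i) (e j) = 0) ∧
      (∀ i j, B (f i) (f j) = 0) ∧ (∀ j x, B (r j) x = 0) ∧ LinearIndependent F r ∧ 2 * m + k = n := by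
  intro n
  induction n using Nat.strong_induction_on with
  | _ n ih =>
    intro V _ _ _ B hA hn
    have hskew : ∀ x y : V, B x y = - B y x := fun x y => (LinearMap.IsAlt.neg hA y x).symm
    by_cases hB0 : ∀ x y : V, B x y = 0
    · refine ⟨0, n, Fin.elim0, Fin.elim0, Module.finBasisOfFinrankEq F V hn, ?_, ?_, ?_, ?_, ?_, ?_⟩
      · intro i; exact i.elim0
      · intro i; exact i.elim0
      · intro i; exact i.elim0
      · intro j x; exact hB0 _ _
      · exact (Module.finBasisOfFinrankEq F V hn).linearIndependent
      · omega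
    · push Not at hB0
      obtain ⟨u, v0, huv0⟩ := hB0
      set v := (B u v0)⁻¹ • v0 with hv
      have huv : B u v = 1 := by
        rw [hv, map_smul, smul_eq_mul, inv_mul_cancel₀ huv0]
      have hvu : B v u = -1 := by rw [hskew, huv]
      have huu : B u u = 0 := hA u
      have hvv : B v v = 0 := hA v
      set W : Submodule F V := LinearMap.ker (B u) ⊓ LinearMap.ker (B v) with hW
      have hmemW : ∀ w : V, w ∈ W ↔ B u w = 0 ∧ B v w = 0 := by
        intro w
        rw [hW, Submodule.mem_inf, LinearMap.mem_ker, LinearMap.mem_ker]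
      have hWu : ∀ w : V, w ∈ W → B w u = 0 := by
        intro w hw
        rw [hskew, ((hmemW w).mp hw).1, neg_zero]
      have hWv : ∀ w : V, w ∈ W → B w v = 0 := by
        intro w hw
        rw [hskew, ((hmemW w).mp hw).2, neg_zero]
      have hdimW : finrank F W + 2 = n := by
        set φ : V →ₗ[F] F × F := (B u).prod (B v) with hφ
        have hker : LinearMap.ker φ = W := by rw [hφ, LinearMap.ker_prod]
        have hrange : LinearMap.range φ = ⊤ := by
          rw [LinearMap.range_eq_top]
          rintro ⟨a, b⟩
          refine ⟨a • v - b • u, ?_⟩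
          have e1 : B u (a • v - b • u) = a := by
            simp only [map_sub, map_smul, huv, huu, smul_eq_mul]; ring
          have e2 : B v (a • v - b • u) = b := by
            simp only [map_sub, map_smul, hvu, hvv, smul_eq_mul]; ring
          exact Prod.ext e1 e2
        have h1 := LinearMap.finrank_range_add_finrank_ker φ
        rw [hrange, hker, finrank_top, Module.finrank_prod, Module.finrank_self, hn] at h1
        omega
      have hlt : finrank F W < n := by omega
      set B' : LinearMap.BilinForm F W := B.restrict W with hB'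
      have hA' : B'.IsAlt := fun x => hA x
      obtain ⟨m', k', e', f', r', h1, h2, h3, h4, h5, h6⟩ := ih (finrank F W) hlt B' hA' rfl
      have hB'app : ∀ x y : W, B' x y = B (x : V) (y : V) := fun x y => rfl
      refine ⟨m' + 1, k', Fin.cons u (fun i => ((e' i : W) : V)), Fin.cons v (fun i => ((f' i : W) : V)),
        fun j => ((r' j : W) : V), ?_, ?_, ?_, ?_, ?_, ?_⟩
      · intro i j
        refine Fin.cases ?_ (fun i => ?_) i <;> refine Fin.cases ?_ (fun j => ?_) j
        · rw [Fin.cons_zero, Fin.cons_zero, huv, if_pos rfl]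
        · rw [Fin.cons_zero, Fin.cons_succ, ((hmemW _).mp (f' j).2).1, if_neg (Fin.succ_ne_zero j).symm]
        · rw [Fin.cons_zero, Fin.cons_succ, hWv _ (e' i).2, if_neg (Fin.succ_ne_zero i)]
        · rw [Fin.cons_succ, Fin.cons_succ, ← hB'app, h1]
          simp only [Fin.succ_inj]
      · intro i j
        refine Fin.cases ?_ (fun i => ?_) i <;> refine Fin.cases ?_ (fun j => ?_) j
        · rw [Fin.cons_zero, huu]
        · rw [Fin.cons_zero, Fin.cons_succ, ((hmemW _).mp (e' j).2).1]
        · rw [Fin.cons_zero, Fin.cons_succ, hWu _ (e' i).2]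
        · rw [Fin.cons_succ, Fin.cons_succ, ← hB'app, h2]
      · intro i j
        refine Fin.cases ?_ (fun i => ?_) i <;> refine Fin.cases ?_ (fun j => ?_) j
        · rw [Fin.cons_zero, hvv]
        · rw [Fin.cons_zero, Fin.cons_succ, ((hmemW _).mp (f' j).2).2]
        · rw [Fin.cons_zero, Fin.cons_succ, hWv _ (f' i).2]
        · rw [Fin.cons_succ, Fin.cons_succ, ← hB'app, h3]
      · intro j x
        obtain ⟨w, hw⟩ : ∃ w : V, w = x + (B v x) • u - (B u x) • v := ⟨_, rfl⟩
        have hwW : w ∈ W := by
          rw [hmemW, hw]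
          simp only [map_add, map_sub, map_smul, huv, hvu, huu, hvv, smul_eq_mul]
          constructor <;> ring
        have hx : x = w - (B v x) • u + (B u x) • v := by rw [hw]; abel
        have h7 : B ((r' j : W) : V) w = 0 := by
          have := h4 j ⟨w, hwW⟩
          rwa [hB'app] at this
        have key : B ((r' j : W) : V) x = B ((r' j : W) : V) w - (B v x) * B ((r' j : W) : V) u +
            (B u x) * B ((r' j : W) : V) v := by
          conv_lhs => rw [hx]
          simp only [map_add, map_sub, map_smul, smul_eq_mul]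
        rw [key, h7, hWu _ (r' j).2, hWv _ (r' j).2]
        ring
      · exact h5.map' W.subtype (Submodule.ker_subtype W)
      · omega

end

/-- Every alternating bilinear form on a finite-dimensional space over any field has a basis e_1..e_m, f_1..f_m, r_1..r_k in which the e_i, f_i are hyperbolic pairs, mutually orthogonal otherwise, and the r_j lie in the radical. -/
theorem result {F V : Type*} [Field F] [AddCommGroup V] [Module F V] [FiniteDimensional F V] (B : LinearMap.BilinForm F V) (hA : B.IsAlt) : ∃ (m k : ℕ) (b : Module.Basis ((Fin m ⊕ Fin m) ⊕ Fin k) F V), (∀ i j : Fin m, B (b (Sum.inl (Sum.inl i))) (b (Sum.inl (Sum.inr j))) = if i = j then 1 else 0) ∧ (∀ i j : Fin m, B (b (Sum.inl (Sum.inl i))) (b (Sum.inl (Sum.inl j))) = 0) ∧ (∀ i j : Fin m, B (b (Sum.inl (Sum.inr i))) (b (Sum.inl (Sum.inr j))) = 0) ∧ (∀ (j : Fin k) (v : V), B (b (Sum.inr j)) v = 0) := by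
  obtain ⟨m, k, e, f, r, h1, h2, h3, h4, h5, h6⟩ := main (Module.finrank F V) B hA rfl
  have hskew : ∀ x y : V, B x y = - B y x := fun x y => (LinearMap.IsAlt.neg hA y x).symm
  set x : (Fin m ⊕ Fin m) ⊕ Fin k → V := Sum.elim (Sum.elim e f) r with hx
  have hli : LinearIndependent F x := by
    rw [Fintype.linearIndependent_iff]
    intro g hg
    rw [Fintype.sum_sum_type, Fintype.sum_sum_type] at hg
    simp only [hx, Sum.elim_inl, Sum.elim_inr] at hg
    have ha : ∀ l, g (Sum.inl (Sum.inl l)) = 0 := by
      intro l
      have h7 := congrArg (fun z => B z (f l)) hg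
      simp only [map_add, map_sum, map_smul, LinearMap.add_apply, LinearMap.sum_apply,
        LinearMap.smul_apply, smul_eq_mul, map_zero, LinearMap.zero_apply, h1, h3, h4, mul_zero,
        Finset.sum_const_zero, add_zero, mul_ite, mul_one, Finset.sum_ite_eq', Finset.mem_univ,
        if_true] at h7
      exact h7
    have hb : ∀ l, g (Sum.inl (Sum.inr l)) = 0 := by
      intro l
      have h7 := congrArg (fun z => B z (e l)) hg
      have h8 : ∀ i, B (f i) (e l) = if l = i then -1 else 0 := by
        intro i
        rw [hskew, h1]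
        split_ifs <;> simp
      simp only [map_add, map_sum, map_smul, LinearMap.add_apply, LinearMap.sum_apply,
        LinearMap.smul_apply, smul_eq_mul, map_zero, LinearMap.zero_apply, h2, h8, h4, mul_zero,
        Finset.sum_const_zero, add_zero, zero_add, mul_ite, Finset.sum_ite_eq, Finset.mem_univ,
        if_true] at h7
      simpa using h7
    have hc : ∀ j, g (Sum.inr j) = 0 := by
      have h7 : ∑ j, g (Sum.inr j) • r j = 0 := by
        rw [← hg]
        simp [ha, hb]
      exact Fintype.linearIndependent_iff.mp h5 (fun j => g (Sum.inr j)) h7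
    rintro ((i | i) | j)
    · exact ha i
    · exact hb i
    · exact hc j
  have hcard : Fintype.card ((Fin m ⊕ Fin m) ⊕ Fin k) = Module.finrank F V := by
    simp only [Fintype.card_sum, Fintype.card_fin]
    omega
  refine ⟨m, k, basisOfLinearIndependentOfCardEqFinrank' x hli hcard, ?_, ?_, ?_, ?_⟩
  · intro i j
    rw [coe_basisOfLinearIndependentOfCardEqFinrank']
    exact h1 i j
  · intro i j
    rw [coe_basisOfLinearIndependentOfCardEqFinrank']
    exact h2 i j
  · intro i j
    rw [coe_basisOfLinearIndependentOfCardEqFinrank']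
    exact h3 i j
  · intro j v
    rw [coe_basisOfLinearIndependentOfCardEqFinrank']
    exact h4 j v

end Cfsg.Agent.S0752
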