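import Mathlib
import Cfsg.Statements.S0358
import Cfsg.Agent.Lib.Helper27.GolayBasic

set_option autoImplicit false
open Cfsg Cfsg.Agent.Helper27

namespace Cfsg.Agent.S0358

/-- Index of a coordinate position. -/
def idx : GolayPt → ℕ
  | none => 23
  | some x => x.val

/-- The twelve basis words: eleven translates of the square word and the all-ones word. -/
def bas (i : Fin 12) : GolayPt → ZMod 2 :=
  if i.val < 11 then qrWord (i.val : ZMod 23) else 1

def coefMask (t : ZMod 23) : ℕ :=
  [1, 2, 4, 8, 16, 32, 64, 128, 256, 512, 1024, 739, 1478, 367, 734, 1468, 411, 822, 1644,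
    1595, 1685, 1993, 1393].getD t.val 0

def coef (t : ZMod 23) : Fin 12 → ZMod 2 := fun i => if (coefMask t).testBit i.val then 1 else 0

def lMask (j : Fin 12) : ℕ :=
  [3941, 1328, 2656, 95, 190, 3609, 1992, 245, 490, 3249, 3581, 3189].getD j.val 0

def ML : Matrix (Fin 12) GolayPt (ZMod 2) := fun j p => if (lMask j).testBit (idx p) then 1 else 0

def MG : Matrix GolayPt (Fin 12) (ZMod 2) := fun p i => bas i p

set_option maxRecDepth 100000 in
theorem ML_mul_MG : ML * MG = 1 := by decide

set_option maxRecDepth 100000 in
theorem qrWord_eq : ∀ t : ZMod 23, qrWord t = MG.mulVec (coef t) := by decide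

set_option maxRecDepth 100000 in
theorem one_eq : (1 : GolayPt → ZMod 2) = MG.mulVec (Pi.single 11 1) := by decide

theorem bas_mem (i : Fin 12) : bas i ∈ golayCode := by
  unfold bas
  split_ifs
  · exact qrWord_mem _
  · exact one_mem_golayCode

theorem golayCode_eq_range : golayCode = LinearMap.range (Matrix.toLin' MG) := by
  apply le_antisymm
  · unfold golayCode
    rw [Submodule.span_le]
    rintro x (⟨t, rfl⟩ | hx)
    · exact ⟨coef t, (qrWord_eq t).symm⟩
    · rw [Set.mem_singleton_iff] at hx; subst hx
      exact ⟨Pi.single 11 1, one_eq.symm⟩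
  · rw [Matrix.range_toLin', Submodule.span_le]
    rintro x ⟨i, rfl⟩
    exact bas_mem i

theorem toLin_injective : Function.Injective (Matrix.toLin' MG) := by
  have h : (Matrix.toLin' ML).comp (Matrix.toLin' MG) = LinearMap.id := by
    rw [← Matrix.toLin'_mul, ML_mul_MG, Matrix.toLin'_one]
  intro x y hxy
  have := congrArg (Matrix.toLin' ML) hxy
  rw [← LinearMap.comp_apply, ← LinearMap.comp_apply, h] at this
  exact this

theorem result : Module.finrank (ZMod 2) Cfsg.golayCode = 12 := by
  rw [golayCode_eq_range, LinearMap.finrank_range_of_inj toLin_injective]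
  simp

end Cfsg.Agent.S0358
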