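import Mathlib
import Cfsg.Statements.S0363
import Cfsg.Agent.Lib.Helper29.GolayCount
import Cfsg.Agent.S0360

set_option autoImplicit false
open Cfsg

namespace Cfsg.Agent.S0363

open Cfsg.Agent.Helper27 Cfsg.Agent.Helper29

theorem support₂_add (v w : GolayPt → ZMod 2) :
    support₂ (v + w) = symmDiff (support₂ v) (support₂ w) := by
  ext a
  unfold support₂
  simp only [Finset.mem_symmDiff, Finset.mem_filter, Finset.mem_univ, true_and, Pi.add_apply]
  have key : ∀ x y : ZMod 2, x + y ≠ 0 ↔ (x ≠ 0 ∧ ¬ y ≠ 0) ∨ (y ≠ 0 ∧ ¬ x ≠ 0) := by decide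
  exact key _ _

theorem card_symmDiff_add {α : Type*} [DecidableEq α] (b c : Finset α) :
    (symmDiff b c).card + 2 * (b ∩ c).card = b.card + c.card := by
  have h0 : symmDiff b c = (b \ c) ∪ (c \ b) := rfl
  have hd : Disjoint (b \ c) (c \ b) := by
    rw [Finset.disjoint_left]
    intro x hx hx'
    rw [Finset.mem_sdiff] at hx hx'
    exact hx.2 hx'.1
  rw [h0, Finset.card_union_of_disjoint hd]
  have h1 := Finset.card_sdiff_add_card_inter b c
  have h2 := Finset.card_sdiff_add_card_inter c b
  rw [Finset.inter_comm c b] at h2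
  omega

theorem mem_octads_iff (b : Finset GolayPt) :
    b ∈ octads ↔ ∃ w ∈ golayCode, support₂ w = b ∧ b.card = 8 := by
  unfold octads wordsOfWeight supports
  constructor
  · rintro ⟨⟨w, hw, rfl⟩, h⟩
    exact ⟨w, hw, rfl, h⟩
  · rintro ⟨w, hw, rfl, h⟩
    exact ⟨⟨w, hw, rfl⟩, h⟩

/-- two octads sharing five points are equal -/
theorem octad_unique {b c s : Finset GolayPt} (hb : b ∈ octads) (hc : c ∈ octads)
    (hs : s.card = 5) (hsb : s ⊆ b) (hsc : s ⊆ c) : b = c := by
  rw [mem_octads_iff] at hb hc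
  obtain ⟨v, hv, rfl, hvc⟩ := hb
  obtain ⟨w, hw, rfl, hwc⟩ := hc
  have hvw : v + w ∈ golayCode := golayCode.add_mem hv hw
  have h5 : 5 ≤ (support₂ v ∩ support₂ w).card := by
    rw [← hs]
    exact Finset.card_le_card (Finset.subset_inter hsb hsc)
  have hcard := card_symmDiff_add (support₂ v) (support₂ w)
  rw [← support₂_add] at hcard
  by_cases h0 : v + w = 0
  · have : v = w := by
      funext a
      have h1 := congrFun h0 a
      have key : ∀ x y : ZMod 2, x + y = 0 → x = y := by decide
      exact key _ _ h1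
    rw [this]
  · exfalso
    have := golay_min_weight hvw h0
    omega

theorem finite_octads : (octads : Set (Finset GolayPt)).Finite := Set.toFinite _

/-- The octads of the length-24 code form a Steiner system S(5, 8, 24) on the 24 points. -/
theorem result : Cfsg.IsSteinerSystem 5 8 Cfsg.octads := by
  classical
  refine ⟨fun b hb => ?_, ?_⟩
  · rw [mem_octads_iff] at hb
    obtain ⟨w, -, -, h⟩ := hb
    exact h
  set O : Finset (Finset GolayPt) := finite_octads.toFinset with hO
  have hOmem : ∀ b, b ∈ O ↔ b ∈ octads := fun b => Set.Finite.mem_toFinset _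
  have hOcard : O.card = 759 := by
    rw [← Cfsg.Agent.S0360.result, Set.ncard_eq_toFinset_card _ finite_octads]
  set S : Finset (Finset GolayPt) := Finset.powersetCard 5 Finset.univ with hS
  have hScard : S.card = 42504 := by
    rw [hS, Finset.card_powersetCard, Finset.card_univ]
    decide
  -- double counting
  have hdc := Finset.sum_card_bipartiteAbove_eq_sum_card_bipartiteBelow (s := S) (t := O)
    (fun (s b : Finset GolayPt) => s ⊆ b)
  have hbelow : ∀ b ∈ O, (S.bipartiteBelow (fun (s b : Finset GolayPt) => s ⊆ b) b).card = 56 := by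
    intro b hb
    have hb8 : b.card = 8 := by
      rw [hOmem, mem_octads_iff] at hb
      obtain ⟨w, -, -, h⟩ := hb
      exact h
    have : S.bipartiteBelow (fun (s b : Finset GolayPt) => s ⊆ b) b = Finset.powersetCard 5 b := by
      ext s
      rw [Finset.mem_bipartiteBelow, hS, Finset.mem_powersetCard, Finset.mem_powersetCard]
      constructor
      · rintro ⟨⟨-, h5⟩, hsb⟩
        exact ⟨hsb, h5⟩
      · rintro ⟨hsb, h5⟩
        exact ⟨⟨Finset.subset_univ _, h5⟩, hsb⟩
    rw [this, Finset.card_powersetCard, hb8]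
    decide
  rw [Finset.sum_congr rfl hbelow, Finset.sum_const, hOcard, smul_eq_mul] at hdc
  have hle : ∀ s ∈ S, (O.bipartiteAbove (fun (s b : Finset GolayPt) => s ⊆ b) s).card ≤ 1 := by
    intro s hs
    rw [hS, Finset.mem_powersetCard] at hs
    rw [Finset.card_le_one]
    intro b hb c hc
    rw [Finset.mem_bipartiteAbove] at hb hc
    exact octad_unique ((hOmem b).mp hb.1) ((hOmem c).mp hc.1) hs.2 hb.2 hc.2
  have hsum1 : ∑ s ∈ S, (O.bipartiteAbove (fun (s b : Finset GolayPt) => s ⊆ b) s).card =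
      ∑ _s ∈ S, 1 := by
    rw [hdc, Finset.sum_const, hScard]
    rfl
  have heq := (Finset.sum_eq_sum_iff_of_le hle).mp hsum1
  intro s hs
  have hsS : s ∈ S := by
    rw [hS, Finset.mem_powersetCard]
    exact ⟨Finset.subset_univ _, hs⟩
  have h1 := heq s hsS
  obtain ⟨b, hb⟩ := Finset.card_eq_one.mp h1
  have hbm : b ∈ O.bipartiteAbove (fun (s b : Finset GolayPt) => s ⊆ b) s := by
    rw [hb]; exact Finset.mem_singleton_self b
  rw [Finset.mem_bipartiteAbove] at hbm
  refine ⟨b, ⟨(hOmem b).mp hbm.1, hbm.2⟩, ?_⟩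
  rintro c ⟨hc, hsc⟩
  exact octad_unique hc ((hOmem b).mp hbm.1) hs hsc hbm.2

end Cfsg.Agent.S0363
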