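import Mathlib
import Cfsg.Statements.S0370
import Cfsg.Agent.Lib.Helper27.GolayBasic

set_option autoImplicit false
open Cfsg Cfsg.Agent.Helper27

namespace Cfsg.Agent.S0370

theorem permWord_shift (c t : ZMod 23) :
    permWord (Equiv.optionCongr (Equiv.addRight c)) (qrWord t) = qrWord (t + c) := by
  funext p
  cases p with
  | none => rfl
  | some x =>
    show qrWord t ((Equiv.optionCongr (Equiv.addRight c)).symm (some x)) = qrWord (t + c) (some x)
    have : (Equiv.optionCongr (Equiv.addRight c)).symm (some x) = some (x - c) := by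
      simp [Equiv.optionCongr, sub_eq_add_neg]
    rw [this]
    unfold qrWord
    have hiff : (∃ r : ZMod 23, x - c = r ^ 2 + t) ↔ (∃ r : ZMod 23, x = r ^ 2 + (t + c)) := by
      constructor
      · rintro ⟨r, hr⟩; exact ⟨r, by linear_combination hr⟩
      · rintro ⟨r, hr⟩; exact ⟨r, by linear_combination hr⟩
    simp only [hiff]

theorem shift_inv (c : ZMod 23) :
    (Equiv.optionCongr (Equiv.addRight c))⁻¹ = Equiv.optionCongr (Equiv.addRight (-c)) := by
  ext p
  cases p with
  | none => rfl
  | some x =>
    rw [Equiv.Perm.inv_def]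
    simp [Equiv.optionCongr]

theorem shift_mem (c : ZMod 23) : Equiv.optionCongr (Equiv.addRight c) ∈ Cfsg.M24 := by
  apply mem_M24_of_gens
  · intro t; rw [permWord_shift]; exact qrWord_mem _
  · intro t; rw [shift_inv, permWord_shift]; exact qrWord_mem _

theorem result : Equiv.optionCongr (Equiv.addRight (1 : ZMod 23)) ∈ Cfsg.M24 := shift_mem 1

end Cfsg.Agent.S0370
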