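import Mathlib
import Cfsg.Statements.S0372
import Cfsg.Agent.Lib.Helper9.GolayAut

set_option autoImplicit false
open Cfsg

namespace Cfsg.Agent.S0372

/-- coefficient table: `qrWord t ∘ projInv` as a combination of the generators -/
def coefTable : List (List (ZMod 23)) :=
  [[0], [4, 5, 6, 8, 10], [1, 5, 6, 7, 9], [0, 2, 3, 4, 5, 7, 8, 10], [0, 1, 2, 4, 5, 8, 9],
   [0, 9], [1, 3, 4, 5, 9, 10], [1, 2, 3, 5, 6, 8], [2, 4, 7, 9, 10], [0, 5], [1, 3, 4, 7, 8],
   [0, 2], [3, 6, 7, 8, 9, 10], [0, 7], [0, 2, 3, 5, 6, 9, 10], [0, 3], [0, 10], [0, 4],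
   [0, 1, 2, 3, 4, 6, 7, 9], [0, 6], [0, 8], [0, 1, 2, 6, 7, 8, 10], [0, 1]]

def epsTable : List (ZMod 2) :=
  [1, 0, 0, 0, 0, 1, 0, 1, 0, 0, 1, 1, 0, 0, 1, 1, 0, 1, 0, 1, 1, 1, 1]

set_option maxRecDepth 100000 in
theorem key : ∀ t : ZMod 23, ∀ p : GolayPt, qrWord t (projInv p) =
    ((coefTable.getD t.val []).map (fun s => qrWord s p)).sum + epsTable.getD t.val 0 := by
  decide +kernel

/-- The involution x ↦ -1/x of the projective line over ZMod 23 lies in the group of the length-24 code. -/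
theorem result : Cfsg.projInv ∈ Cfsg.M24 := by
  apply Cfsg.Agent.Helper9.mem_M24_of_comp_mem
  intro t
  have : qrWord t ∘ projInv = fun p =>
      ((coefTable.getD t.val []).map (fun s => qrWord s p)).sum + epsTable.getD t.val 0 := by
    funext p
    exact key t p
  rw [this]
  exact Cfsg.Agent.Helper9.comb_mem_golayCode _ _

end Cfsg.Agent.S0372
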