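import Mathlib
import Cfsg.Statements.S0373
import Cfsg.Agent.Lib.Helper9.GolayAut

set_option autoImplicit false
open Cfsg

namespace Cfsg.Agent.S0373

/-- coefficient table: `qrWord t ∘ cubeTwist` as a combination of the generators -/
def coefTable : List (List (ZMod 23)) :=
  [[0], [0, 3, 4, 7, 8], [0, 1, 4, 7, 8], [1, 2, 6, 7, 10], [2, 3], [2, 3, 8, 10],
   [0, 1, 2, 3, 5, 6], [1, 2, 4, 8, 10], [2, 9], [4, 6], [1, 3, 4, 9, 10],
   [0, 2, 3, 4, 5, 7, 8], [0, 2, 3, 5, 6, 8], [1, 3, 5, 7, 8, 9], [0, 3, 5, 6, 7, 8],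
   [0, 2, 3, 4, 6, 8], [6, 9], [1, 2, 3, 4, 6, 8, 9, 10], [2, 3, 4, 5, 6, 9, 10], [2, 4, 9, 10],
   [1, 6, 7, 9], [4, 5, 6, 7, 8, 10], [4, 5, 6, 8]]

set_option maxRecDepth 100000 in
theorem key : ∀ t : ZMod 23, ∀ p : GolayPt, qrWord t (cubeTwistFun p) =
    ((coefTable.getD t.val []).map (fun s => qrWord s p)).sum + 0 := by
  decide +kernel

/-- The cube-twist permutation (squares t ↦ t^3/9, non-squares t ↦ 9t^3, extra point fixed) lies in the group of the length-24 code. -/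
theorem result : Cfsg.cubeTwist ∈ Cfsg.M24 := by
  apply Cfsg.Agent.Helper9.mem_M24_of_comp_mem
  intro t
  have : qrWord t ∘ cubeTwist = fun p =>
      ((coefTable.getD t.val []).map (fun s => qrWord s p)).sum + 0 := by
    funext p
    have h1 : cubeTwist p = cubeTwistFun p := rfl
    rw [Function.comp_apply, h1]
    exact key t p
  rw [this]
  exact Cfsg.Agent.Helper9.comb_mem_golayCode _ _

end Cfsg.Agent.S0373
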