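import Mathlib
import Cfsg.Statements.S5604
import Cfsg.Agent.Lib.Helper29.M24Cent7

set_option autoImplicit false
open scoped Pointwise
open Cfsg

namespace Cfsg.Agent.S5604

open Cfsg.Agent.Helper29.M24 Cfsg.Agent.Helper29 Cfsg.Agent.Helper27 Cfsg.Agent.Helper29.Cent7

theorem fact7 : Fact (Nat.Prime 7) := ⟨by norm_num⟩

theorem factorization7 : (244823040 : ℕ).factorization 7 = 1 := by
  have h : (244823040 : ℕ) = 7 * 34974720 := by norm_num
  rw [h, Nat.factorization_mul (by norm_num) (by norm_num)]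
  have h7 : Nat.Prime 7 := by norm_num
  rw [Finsupp.add_apply, h7.factorization_self, Nat.factorization_eq_zero_of_not_dvd (by norm_num)]

theorem finite_M24 : Finite ↥Cfsg.M24 := Nat.finite_of_card_ne_zero (by rw [card_M24]; norm_num)

/-- the order of the normalizer, from the order of the centralizer and the theorems of Sylow -/
theorem card_normalizer (S : Subgroup ↥Cfsg.M24) (hS : Nat.card S = 7)
    (hC : Nat.card (Subgroup.centralizer (S : Set ↥Cfsg.M24)) = 42) :
    Nat.card (Subgroup.normalizer (S : Set ↥Cfsg.M24)) = 126 := by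
  have := fact7
  have := finite_M24
  let P : Sylow 7 ↥Cfsg.M24 := Sylow.ofCard S (by rw [hS, card_M24, factorization7, pow_one])
  have h1 : Nat.card (Sylow 7 ↥Cfsg.M24) = (Subgroup.normalizer (S : Set ↥Cfsg.M24)).index :=
    Sylow.card_eq_index_normalizer P
  have h2 := card_sylow_modEq_one 7 ↥Cfsg.M24
  have h3 := Subgroup.card_mul_index (Subgroup.normalizer (S : Set ↥Cfsg.M24))
  rw [card_M24, ← h1] at h3
  -- the normalizer modulo the centralizer
  have h4 := Subgroup.card_eq_card_quotient_mul_card_subgroup S.normalizerMonoidHom.ker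
  have h5 : Nat.card (Subgroup.normalizer (S : Set ↥Cfsg.M24) ⧸ S.normalizerMonoidHom.ker) ∣
      Nat.card (MulAut S) :=
    Subgroup.card_dvd_of_injective _ (QuotientGroup.kerLift_injective S.normalizerMonoidHom)
  have : IsCyclic S := isCyclic_of_prime_card hS
  have : Finite S := Nat.finite_of_card_ne_zero (by rw [hS]; norm_num)
  rw [IsCyclic.card_mulAut, hS] at h5
  have h6 : Nat.card S.normalizerMonoidHom.ker = 42 := by
    rw [Subgroup.normalizerMonoidHom_ker, ← hC]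
    exact Nat.card_congr (Subgroup.subgroupOfEquivOfLe (Subgroup.centralizer_le_normalizer _)).toEquiv
  rw [h6] at h4
  have h7 : Nat.totient 7 = 6 := by decide
  rw [h7] at h5
  set k := Nat.card (Subgroup.normalizer (S : Set ↥Cfsg.M24) ⧸ S.normalizerMonoidHom.ker) with hk
  set n7 := Nat.card (Sylow 7 ↥Cfsg.M24) with hn7
  have hk6 : k ≤ 6 := Nat.le_of_dvd (by norm_num) h5
  have hmod : n7 % 7 = 1 := h2
  rw [h4] at h3 ⊢
  interval_cases k
  · simp at h5
  · exfalso; omega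
  · exfalso; omega
  · rfl
  · exfalso; omega
  · exfalso; omega
  · exfalso; omega

/-- the standard element of order seven, in the group -/
def s0 : ↥Cfsg.M24 := ⟨s7, s7_mem⟩

theorem s7_pow : s7 ^ 7 = 1 := by
  unfold s7
  rw [← evalW_powW]
  have := evalW_eq_of_appW (powW z7 7) [] (powW_lt z7 z7_lt 7) (fun l hl => by simp at hl)
    (by decide +kernel)
  rw [this]
  rfl

theorem s7_ne_one : s7 ≠ 1 := by
  intro h
  have := congrArg (fun f : Equiv.Perm GolayPt => f (dec 0)) h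
  rw [s7_apply 0 1 (by norm_num) (by decide +kernel)] at this
  exact absurd this (by decide)

theorem orderOf_s0 : orderOf s0 = 7 := by
  have := fact7
  apply orderOf_eq_prime
  · apply Subtype.ext
    exact s7_pow
  · intro h
    exact s7_ne_one (congrArg Subtype.val h)

/-- a subgroup of order seven is generated by a conjugate of the standard element -/
theorem exists_conj (S : Subgroup ↥Cfsg.M24) (hS : Nat.card S = 7) :
    ∃ g : ↥Cfsg.M24, g * s0 * g⁻¹ ∈ S ∧ S = Subgroup.zpowers (g * s0 * g⁻¹) := by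
  have := fact7
  have := finite_M24
  have hc0 : Nat.card (Subgroup.zpowers s0) = 7 := by rw [Nat.card_zpowers, orderOf_s0]
  let P0 : Sylow 7 ↥Cfsg.M24 := Sylow.ofCard (Subgroup.zpowers s0)
    (by rw [hc0, card_M24, factorization7, pow_one])
  let P : Sylow 7 ↥Cfsg.M24 := Sylow.ofCard S (by rw [hS, card_M24, factorization7, pow_one])
  obtain ⟨g, hg⟩ := MulAction.exists_smul_eq ↥Cfsg.M24 P0 P
  have h1 : (P : Subgroup ↥Cfsg.M24) = MulAut.conj g • (P0 : Subgroup ↥Cfsg.M24) := by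
    rw [← hg]
    exact Sylow.coe_subgroup_smul
  have h2 : (P : Subgroup ↥Cfsg.M24) = S := rfl
  have h3 : (P0 : Subgroup ↥Cfsg.M24) = Subgroup.zpowers s0 := rfl
  rw [h2, h3] at h1
  have hmem : g * s0 * g⁻¹ ∈ S := by
    rw [h1]
    have : MulAut.conj g • s0 ∈ MulAut.conj g • Subgroup.zpowers s0 :=
      Subgroup.smul_mem_pointwise_smul _ _ _ (Subgroup.mem_zpowers s0)
    exact this
  refine ⟨g, hmem, ?_⟩
  have hord : orderOf (g * s0 * g⁻¹) = 7 := by
    have := orderOf_injective (MulAut.conj g).toMonoidHom (MulAut.conj g).injective s0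
    rw [← orderOf_s0, ← this]
    rfl
  symm
  apply Subgroup.eq_of_le_of_card_ge
  · rw [Subgroup.zpowers_le]
    exact hmem
  · rw [hS, Nat.card_zpowers, hord]

theorem mem_centralizer_zpowers (s c : ↥Cfsg.M24) :
    c ∈ Subgroup.centralizer ((Subgroup.zpowers s : Subgroup ↥Cfsg.M24) : Set ↥Cfsg.M24) ↔
      c * s = s * c := by
  rw [Subgroup.mem_centralizer_iff]
  constructor
  · intro h
    exact (h s (Subgroup.mem_zpowers s)).symm
  · intro h y hy
    obtain ⟨k, rfl⟩ := Subgroup.mem_zpowers_iff.1 hy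
    exact ((Commute.zpow_right (show Commute c s from h) k).eq).symm

theorem conj_comm' (k z c : Equiv.Perm GolayPt) :
    c * (k * z * k⁻¹) = (k * z * k⁻¹) * c ↔ (k⁻¹ * c * k) * z = z * (k⁻¹ * c * k) := by
  constructor
  · intro h
    have : k⁻¹ * (c * (k * z * k⁻¹)) * k = k⁻¹ * ((k * z * k⁻¹) * c) * k := by rw [h]
    calc (k⁻¹ * c * k) * z = k⁻¹ * (c * (k * z * k⁻¹)) * k := by group
      _ = k⁻¹ * ((k * z * k⁻¹) * c) * k := this
      _ = z * (k⁻¹ * c * k) := by group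
  · intro h
    calc c * (k * z * k⁻¹) = k * ((k⁻¹ * c * k) * z) * k⁻¹ := by group
      _ = k * (z * (k⁻¹ * c * k)) * k⁻¹ := by rw [h]
      _ = (k * z * k⁻¹) * c := by group

/-- the centralizer of a conjugate of the standard element corresponds to `C7` -/
def centEquiv (g : ↥Cfsg.M24) :
    ↥(Subgroup.centralizer ((Subgroup.zpowers (g * s0 * g⁻¹) : Subgroup ↥Cfsg.M24) :
      Set ↥Cfsg.M24)) ≃ ↥C7 where
  toFun c := ⟨(g⁻¹ * c.1 * g : ↥Cfsg.M24).1, by
    rw [mem_C7]
    refine ⟨(g⁻¹ * c.1 * g : ↥Cfsg.M24).2, ?_⟩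
    have h := (mem_centralizer_zpowers _ _).1 c.2
    have h' := congrArg Subtype.val h
    exact (conj_comm' g.1 s7 c.1.1).1 h'⟩
  invFun c := ⟨g * ⟨c.1, ((mem_C7 c.1).1 c.2).1⟩ * g⁻¹, by
    rw [mem_centralizer_zpowers]
    apply Subtype.ext
    apply (conj_comm' g.1 s7 _).2
    have : (g.1)⁻¹ * (g.1 * c.1 * (g.1)⁻¹) * g.1 = c.1 := by group
    show (g.1)⁻¹ * (g.1 * c.1 * (g.1)⁻¹) * g.1 * s7 = s7 * ((g.1)⁻¹ * (g.1 * c.1 * (g.1)⁻¹) * g.1)
    rw [this]
    exact ((mem_C7 c.1).1 c.2).2⟩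
  left_inv c := by
    apply Subtype.ext
    apply Subtype.ext
    show g.1 * ((g.1)⁻¹ * c.1.1 * g.1) * (g.1)⁻¹ = c.1.1
    group
  right_inv c := by
    apply Subtype.ext
    show (g.1)⁻¹ * (g.1 * c.1 * (g.1)⁻¹) * g.1 = c.1
    group

/-- For a subgroup S of order 7 of the group of the length-24 code (a Sylow 7-subgroup): the normaliser of S has order 126, the centraliser of S has order 42 and is non-abelian, and the whole normaliser leaves some trio invariant. (These are the orders of a Frobenius group of order 21 times a symmetric group of degree 3; the isomorphism type itself is not asserted here.) -/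
theorem result (S : Subgroup ↥Cfsg.M24) (hS : Nat.card S = 7) : Nat.card ↥(Subgroup.normalizer (S : Set ↥Cfsg.M24)) = 126 ∧ Nat.card ↥(Subgroup.centralizer (S : Set ↥Cfsg.M24)) = 42 ∧ (∃ x ∈ Subgroup.centralizer (S : Set ↥Cfsg.M24), ∃ y ∈ Subgroup.centralizer (S : Set ↥Cfsg.M24), x * y ≠ y * x) ∧ ∃ T ∈ Cfsg.trios, ∀ n ∈ Subgroup.normalizer (S : Set ↥Cfsg.M24), ((n : ↥Cfsg.M24) : Equiv.Perm Cfsg.GolayPt) • T = T := by
  obtain ⟨g, hmem, hSeq⟩ := exists_conj S hS
  subst hSeq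
  have hC : Nat.card (Subgroup.centralizer ((Subgroup.zpowers (g * s0 * g⁻¹) : Subgroup ↥Cfsg.M24) :
      Set ↥Cfsg.M24)) = 42 := by
    rw [Nat.card_congr (centEquiv g), card_C7]
  refine ⟨card_normalizer _ hS hC, hC, ?_, ?_⟩
  · refine ⟨((centEquiv g).symm ⟨u7, u7_mem_C7⟩).1, ((centEquiv g).symm ⟨u7, u7_mem_C7⟩).2,
      ((centEquiv g).symm ⟨c7, c7_mem_C7⟩).1, ((centEquiv g).symm ⟨c7, c7_mem_C7⟩).2, ?_⟩
    intro h
    have h' : g.1 * u7 * (g.1)⁻¹ * (g.1 * c7 * (g.1)⁻¹) = g.1 * c7 * (g.1)⁻¹ * (g.1 * u7 * (g.1)⁻¹) :=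
      congrArg Subtype.val h
    apply u7_c7
    have e1 : u7 * c7 = (g.1)⁻¹ * (g.1 * u7 * (g.1)⁻¹ * (g.1 * c7 * (g.1)⁻¹)) * g.1 := by group
    have e2 : c7 * u7 = (g.1)⁻¹ * (g.1 * c7 * (g.1)⁻¹ * (g.1 * u7 * (g.1)⁻¹)) * g.1 := by group
    rw [e1, e2, h']
  · refine ⟨g.1 • T7, smul_mem_trios g.2 T7_mem, ?_⟩
    intro n hn
    have hfixT : ∀ o ∈ g.1 • T7, (g.1 * s7 * (g.1)⁻¹) • o = o := by
      intro o ho
      obtain ⟨o0, ho0, rfl⟩ := Finset.mem_smul_finset.1 ho
      rw [mul_smul, mul_smul, inv_smul_smul, T7_inv o0 ho0]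
    have hchar : ∀ o ∈ Cfsg.octads, (g.1 * s7 * (g.1)⁻¹) • o = o → o ∈ g.1 • T7 := by
      intro o ho h
      have h1 : s7 • ((g.1)⁻¹ • o) = (g.1)⁻¹ • o := by
        have := congrArg (fun X => (g.1)⁻¹ • X) h
        simp only [mul_smul, inv_smul_smul] at this
        exact this
      have h2 := mem_T7_of_inv _ (smul_mem_octads (Subgroup.inv_mem _ g.2) ho) h1
      have := Finset.smul_mem_smul_finset (a := g.1) h2
      rwa [smul_inv_smul] at this
    have hn' : n⁻¹ * (g * s0 * g⁻¹) * n ∈ Subgroup.zpowers (g * s0 * g⁻¹) :=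
      (Subgroup.mem_normalizer_iff''.1 hn _).1 (Subgroup.mem_zpowers _)
    obtain ⟨k, hk⟩ := Subgroup.mem_zpowers_iff.1 hn'
    have hk' : (g.1 * s7 * (g.1)⁻¹) ^ k = (n.1)⁻¹ * (g.1 * s7 * (g.1)⁻¹) * n.1 :=
      congrArg Subtype.val hk
    have htrio := smul_mem_trios g.2 T7_mem
    apply Finset.eq_of_subset_of_card_le
    · intro o' ho'
      obtain ⟨o, ho, rfl⟩ := Finset.mem_smul_finset.1 ho'
      apply hchar _ (smul_mem_octads n.2 (htrio.2.1 o ho))
      have hstab : (g.1 * s7 * (g.1)⁻¹) ∈ MulAction.stabilizer (Equiv.Perm GolayPt) o :=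
        MulAction.mem_stabilizer_iff.2 (hfixT o ho)
      have hpow : ((g.1 * s7 * (g.1)⁻¹) ^ k) • o = o :=
        MulAction.mem_stabilizer_iff.1 (Subgroup.zpow_mem _ hstab k)
      rw [hk'] at hpow
      have e : (g.1 * s7 * (g.1)⁻¹) * n.1 = n.1 * ((n.1)⁻¹ * (g.1 * s7 * (g.1)⁻¹) * n.1) := by group
      rw [smul_smul, e, mul_smul, hpow]
    · simp only [Finset.card_smul_finset]
      exact le_rfl

end Cfsg.Agent.S5604
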