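import Mathlib
import Cfsg.Statements.S5613
import Cfsg.Agent.Lib.Helper29.M24Cfg
import Cfsg.Agent.S1556
import Cfsg.Agent.S0360

set_option autoImplicit false
open scoped Pointwise
open Cfsg

namespace Cfsg.Agent.S5613

open Cfsg.Agent.Helper29.M24 Cfsg.Agent.Helper29 Cfsg.Agent.Helper27
open Cfsg.Agent.S0358 (idx)

set_option maxRecDepth 1000000 in
theorem counts :
    countS (fun m => pop24 m == 8 && (([] : List ℕ).all (fun a => m.testBit a) &&
        ([] : List ℕ).all (fun a => !m.testBit a) && pop24 (8536111 &&& m) == 0)) 4096 = 30 ∧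
    countS (fun m => pop24 m == 8 && (([] : List ℕ).all (fun a => m.testBit a) &&
        ([] : List ℕ).all (fun a => !m.testBit a) && pop24 (8536111 &&& m) == 4)) 4096 = 280 ∧
    countS (fun m => pop24 m == 8 && (([] : List ℕ).all (fun a => m.testBit a) &&
        ([] : List ℕ).all (fun a => !m.testBit a) && pop24 (8536111 &&& m) == 2)) 4096 = 448 := by
  decide +kernel

theorem octads_finite : (Cfsg.octads : Set (Finset Cfsg.GolayPt)).Finite := Set.toFinite _

theorem card_stab_octad (o : Finset Cfsg.GolayPt) (ho : o ∈ Cfsg.octads) :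
    Nat.card (MulAction.stabilizer Cfsg.M24 o) = 322560 := by
  have horb : MulAction.orbit Cfsg.M24 o = Cfsg.octads := by
    ext o'
    constructor
    · rintro ⟨g, rfl⟩
      exact smul_mem_octads g.2 ho
    · intro ho'
      obtain ⟨g, hg, e⟩ := octad_transitive o o' ho ho'
      exact ⟨⟨g, hg⟩, e⟩
  have h1 : Nat.card (MulAction.orbit Cfsg.M24 o) * Nat.card (MulAction.stabilizer Cfsg.M24 o) =
      244823040 := by
    rw [← Nat.card_prod, Nat.card_congr (MulAction.orbitProdStabilizerEquivGroup Cfsg.M24 o), card_M24]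
  rw [horb, Nat.card_coe_set_eq, Cfsg.Agent.S0360.result] at h1
  omega

/-- the number of octads meeting a given octad in `k` points -/
theorem ncard_meet (o : Finset Cfsg.GolayPt) (ho : o ∈ Cfsg.octads) (k : ℕ) :
    {o'' : Finset Cfsg.GolayPt | o'' ∈ Cfsg.octads ∧ (o ∩ o'').card = k}.ncard =
      countS (fun m => pop24 m == 8 && (([] : List ℕ).all (fun a => m.testBit a) &&
        ([] : List ℕ).all (fun a => !m.testBit a) && pop24 (8536111 &&& m) == k)) 4096 := by
  obtain ⟨g0, hg0, hg0e⟩ := octad_transitive oct0 o oct0_mem ho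
  have hoe : g0 • maskSet 8536111 = o := hg0e
  rw [← ncard_cfg g0 hg0 8 [] [] (by simp) (by simp)]
  congr 1
  ext Y
  simp only [Set.mem_ofPred_eq, List.not_mem_nil, false_imp_iff, implies_true, true_and, hoe]
  rfl

theorem joint (o o' : Finset Cfsg.GolayPt) (ho : o ∈ Cfsg.octads) (ho' : o' ∈ Cfsg.octads) :
    {o'' : Finset Cfsg.GolayPt | o'' ∈ Cfsg.octads ∧ (o ∩ o'').card = (o ∩ o').card}.ncard *
      Nat.card ↥(MulAction.stabilizer Cfsg.M24 o ⊓ MulAction.stabilizer Cfsg.M24 o') = 322560 := by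
  have horb : MulAction.orbit (MulAction.stabilizer Cfsg.M24 o) o' =
      {o'' : Finset Cfsg.GolayPt | o'' ∈ Cfsg.octads ∧ (o ∩ o'').card = (o ∩ o').card} := by
    ext o''
    constructor
    · rintro ⟨h, rfl⟩
      have hfix : ((h : Cfsg.M24) : Equiv.Perm Cfsg.GolayPt) • o = o := by
        have := h.2
        rw [MulAction.mem_stabilizer_iff, smul_finset_def'] at this
        exact this
      refine ⟨smul_mem_octads (h : Cfsg.M24).2 ho', ?_⟩
      have key : ∀ σ : Equiv.Perm Cfsg.GolayPt, σ • o = o → (o ∩ σ • o').card = (o ∩ o').card := by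
        intro σ hσ
        have : o ∩ σ • o' = σ • (o ∩ o') := by rw [Finset.smul_finset_inter, hσ]
        rw [this, Finset.card_smul_finset]
      exact key _ hfix
    · rintro ⟨ho'', hc⟩
      obtain ⟨g, hg, hgo, hgo'⟩ := Cfsg.Agent.S1556.result o o' o'' ho ho' ho'' hc.symm
      refine ⟨⟨⟨g, hg⟩, ?_⟩, hgo'⟩
      rw [MulAction.mem_stabilizer_iff]
      exact hgo
  have h1 : Nat.card (MulAction.orbit (MulAction.stabilizer Cfsg.M24 o) o') *
      Nat.card (MulAction.stabilizer (MulAction.stabilizer Cfsg.M24 o) o') = 322560 := by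
    rw [← Nat.card_prod, Nat.card_congr (MulAction.orbitProdStabilizerEquivGroup _ o'),
      card_stab_octad o ho]
  rw [horb, Nat.card_coe_set_eq] at h1
  have h2 : (MulAction.stabilizer (MulAction.stabilizer Cfsg.M24 o) o').map
      (MulAction.stabilizer Cfsg.M24 o).subtype =
      MulAction.stabilizer Cfsg.M24 o ⊓ MulAction.stabilizer Cfsg.M24 o' := by
    ext g
    rw [Subgroup.mem_map, Subgroup.mem_inf]
    constructor
    · rintro ⟨h, hh, rfl⟩
      exact ⟨h.2, hh⟩
    · rintro ⟨h1, h2⟩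
      exact ⟨⟨g, h1⟩, h2, rfl⟩
  rw [← h2, Subgroup.card_subtype]
  exact h1

/-- In the group of the length-24 code, the joint stabiliser of two octads has order 10752, 1152 or 720 according as the octads meet in 0, 4 or 2 points. -/
theorem result (o o' : Finset Cfsg.GolayPt) (ho : o ∈ Cfsg.octads) (ho' : o' ∈ Cfsg.octads) : ((o ∩ o').card = 0 → Nat.card ↥(MulAction.stabilizer Cfsg.M24 o ⊓ MulAction.stabilizer Cfsg.M24 o') = 10752) ∧ ((o ∩ o').card = 4 → Nat.card ↥(MulAction.stabilizer Cfsg.M24 o ⊓ MulAction.stabilizer Cfsg.M24 o') = 1152) ∧ ((o ∩ o').card = 2 → Nat.card ↥(MulAction.stabilizer Cfsg.M24 o ⊓ MulAction.stabilizer Cfsg.M24 o') = 720) := by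
  have hj := joint o o' ho ho'
  refine ⟨fun h => ?_, fun h => ?_, fun h => ?_⟩
  · rw [h, ncard_meet o ho 0, counts.1] at hj
    omega
  · rw [h, ncard_meet o ho 4, counts.2.1] at hj
    omega
  · rw [h, ncard_meet o ho 2, counts.2.2] at hj
    omega

end Cfsg.Agent.S5613
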