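import Mathlib
import Cfsg.Statements.S0760

set_option autoImplicit false
open Cfsg

namespace Cfsg.Agent.S0760

section

variable {F V : Type*} [Field F] [AddCommGroup V] [Module F V]

theorem polar_eq_zero_of_singular (Q : QuadraticForm F V) (W : Submodule F V) (hW : ∀ w ∈ W, Q w = 0)
    (x y : V) (hx : x ∈ W) (hy : y ∈ W) : QuadraticMap.polarBilin Q x y = 0 := by
  rw [QuadraticMap.polarBilin_apply_apply, QuadraticMap.polar, hW _ (W.add_mem hx hy), hW x hx, hW y hy]
  simp

/-- Maximality: a singular vector orthogonal to a maximal totally singular subspace lies in it. -/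
theorem mem_of_maximal (Q : QuadraticForm F V) (W₁ : Submodule F V) (h₁ : ∀ w ∈ W₁, Q w = 0)
    (hmax₁ : ∀ W : Submodule F V, W₁ ≤ W → (∀ w ∈ W, Q w = 0) → W = W₁) (x : V) (hx : Q x = 0)
    (hxW : ∀ w ∈ W₁, QuadraticMap.polarBilin Q w x = 0) : x ∈ W₁ := by
  have hW : W₁ ⊔ Submodule.span F {x} = W₁ := by
    apply hmax₁ _ le_sup_left
    intro v hv
    obtain ⟨w, hw, y, hy, rfl⟩ := Submodule.mem_sup.mp hv
    obtain ⟨c, rfl⟩ := Submodule.mem_span_singleton.mp hy
    have h3 := hxW w hw
    rw [QuadraticMap.polarBilin_apply_apply] at h3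
    have h4 : Q (w + c • x) = Q w + Q (c • x) + QuadraticMap.polar Q w (c • x) := by
      unfold QuadraticMap.polar
      ring
    rw [h4, h₁ w hw, QuadraticMap.map_smul, hx, QuadraticMap.polar_smul_right, h3]
    simp
  rw [← hW]
  exact Submodule.mem_sup_right (Submodule.mem_span_singleton_self x)

theorem finrank_le_of_maximal [FiniteDimensional F V] (Q : QuadraticForm F V) (W₁ W₂ : Submodule F V)
    (h₁ : ∀ w ∈ W₁, Q w = 0) (h₂ : ∀ w ∈ W₂, Q w = 0)
    (hmax₁ : ∀ W : Submodule F V, W₁ ≤ W → (∀ w ∈ W, Q w = 0) → W = W₁) :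
    Module.finrank F W₂ ≤ Module.finrank F W₁ := by
  set B : LinearMap.BilinForm F V := QuadraticMap.polarBilin Q with hB
  set U := W₁ ⊓ W₂ with hU
  obtain ⟨C0, hC0⟩ := Submodule.exists_isCompl U
  set C := C0 ⊓ W₁ with hC
  have hsup : U ⊔ C = W₁ := by
    rw [hC, ← sup_inf_assoc_of_le C0 (inf_le_left : U ≤ W₁), hC0.sup_eq_top, top_inf_eq]
  have hinf : U ⊓ C = ⊥ := by
    rw [hC, ← inf_assoc, hC0.inf_eq_bot, bot_inf_eq]
  have hdim1 : Module.finrank F U + Module.finrank F C = Module.finrank F W₁ := by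
    have := Submodule.finrank_sup_add_finrank_inf_eq U C
    rw [hsup, hinf, finrank_bot, add_zero] at this
    exact this.symm
  set K := W₂ ⊓ LinearMap.BilinForm.orthogonal B C with hK
  have hKU : K ≤ U := by
    intro x hx
    obtain ⟨hx2, hxC⟩ := Submodule.mem_inf.mp hx
    refine Submodule.mem_inf.mpr ⟨?_, hx2⟩
    apply mem_of_maximal Q W₁ h₁ hmax₁ x (h₂ x hx2)
    intro w hw
    rw [← hsup] at hw
    obtain ⟨u, hu, c, hc, rfl⟩ := Submodule.mem_sup.mp hw
    rw [map_add, LinearMap.add_apply]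
    have e1 : B u x = 0 := polar_eq_zero_of_singular Q W₂ h₂ u x (Submodule.mem_inf.mp hu).2 hx2
    have e2 : B c x = 0 := hxC c hc
    rw [e1, e2, add_zero]
  have hdim2 : Module.finrank F K ≤ Module.finrank F U := Submodule.finrank_mono hKU
  have hdim3 := Submodule.finrank_sup_add_finrank_inf_eq W₂ (LinearMap.BilinForm.orthogonal B C)
  have hdim4 : Module.finrank F ↥(W₂ ⊔ LinearMap.BilinForm.orthogonal B C) ≤ Module.finrank F V := Submodule.finrank_le _
  have hdim5 := LinearMap.BilinForm.finrank_add_finrank_orthogonal' (B := B) C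
  have hKeq : Module.finrank F K = Module.finrank F ↥(W₂ ⊓ LinearMap.BilinForm.orthogonal B C) := rfl
  omega

end

/-- Witt index is well defined: if Q is a quadratic form on a finite-dimensional space V over a finite field with non-degenerate polar form, and W₁, W₂ are subspaces on which Q vanishes that are maximal with this property, then W₁ and W₂ have the same dimension, and twice this dimension is at most dim V. -/
theorem result {F V : Type*} [Field F] [Finite F] [AddCommGroup V] [Module F V] [FiniteDimensional F V] (Q : QuadraticForm F V) (hQ : (QuadraticMap.polarBilin Q).Nondegenerate) (W₁ W₂ : Submodule F V) (h₁ : ∀ w ∈ W₁, Q w = 0) (h₂ : ∀ w ∈ W₂, Q w = 0) (hmax₁ : ∀ W : Submodule F V, W₁ ≤ W → (∀ w ∈ W, Q w = 0) → W = W₁) (hmax₂ : ∀ W : Submodule F V, W₂ ≤ W → (∀ w ∈ W, Q w = 0) → W = W₂) : Module.finrank F W₁ = Module.finrank F W₂ ∧ 2 * Module.finrank F W₁ ≤ Module.finrank F V := by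
  refine ⟨le_antisymm (finrank_le_of_maximal Q W₂ W₁ h₂ h₁ hmax₂) (finrank_le_of_maximal Q W₁ W₂ h₁ h₂ hmax₁), ?_⟩
  have hle : W₁ ≤ LinearMap.BilinForm.orthogonal (QuadraticMap.polarBilin Q) W₁ := by
    intro x hx w hw
    exact polar_eq_zero_of_singular Q W₁ h₁ w x hw hx
  have h3 := Submodule.finrank_mono hle
  have h4 := LinearMap.BilinForm.finrank_orthogonal hQ W₁
  have h5 : Module.finrank F W₁ ≤ Module.finrank F V := Submodule.finrank_le _
  omega

end Cfsg.Agent.S0760
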