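import Mathlib
import Cfsg.Statements.S3950
import Cfsg.Agent.Lib.Helper20.Schur
import Cfsg.Agent.Lib.Helper20.BiExt
import Cfsg.Agent.Lib.Helper20.AbelianNoncyclic

set_option autoImplicit false
open Cfsg

namespace Cfsg.Agent.S3950

/-- the bimultiplicative pairing `(g, h) ↦ f₁ g * f₂ h` -/
noncomputable def pairing {G : Type*} [CommGroup G] (p : ℕ) (f₁ f₂ : G →* Multiplicative (ZMod p)) :
    G →* G →* Multiplicative (ZMod p) :=
  MonoidHom.mk' (fun g => MonoidHom.mk' (fun h => Multiplicative.ofAdd
      (Multiplicative.toAdd (f₁ g) * Multiplicative.toAdd (f₂ h)))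
    (by
      intro a b
      simp only [map_mul, toAdd_mul, mul_add, ofAdd_add]))
    (by
      intro a b
      apply MonoidHom.ext
      intro h
      rw [MonoidHom.mul_apply]
      simp only [MonoidHom.mk'_apply, map_mul, toAdd_mul, add_mul, ofAdd_add])

theorem pairing_apply {G : Type*} [CommGroup G] (p : ℕ) (f₁ f₂ : G →* Multiplicative (ZMod p))
    (g h : G) : pairing p f₁ f₂ g h = Multiplicative.ofAdd
      (Multiplicative.toAdd (f₁ g) * Multiplicative.toAdd (f₂ h)) := rfl

/-- A finite abelian group has trivial Schur multiplier if and only if it is cyclic. -/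
theorem result {G : Type*} [CommGroup G] [Finite G] : Cfsg.HasCyclicSchurMultiplier G 1 ↔ IsCyclic G := by
  constructor
  · intro hM
    by_contra hnc
    obtain ⟨p, hp, hlt⟩ := Helper20.exists_prime_lt_card_torsionSub hnc
    have : Fact p.Prime := ⟨hp⟩
    obtain ⟨f₁, f₂, v, w, hv, hw1, hw2⟩ := Helper20.exists_two_homs p hlt
    set β := pairing p f₁ f₂ with hβ
    -- the commutator of the lifts of v and w
    set c : Multiplicative (ZMod p) := β v w * (β w v)⁻¹ with hc
    have hc1 : c ≠ 1 := by
      have h1 : β w v = 1 := by
        rw [hβ, pairing_apply, hw1]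
        simp
      rw [hc, h1, inv_one, mul_one, hβ, pairing_apply]
      intro h0
      have h0' : Multiplicative.toAdd (f₁ v) * Multiplicative.toAdd (f₂ w) = 0 := h0
      rcases mul_eq_zero.mp h0' with h | h
      · exact hv h
      · exact hw2 h
    have hcmem : Helper20.BiExt.incl β c ∈ commutator (Helper20.BiExt β) := by
      rw [hc, ← Helper20.BiExt.commutator_lift β (fun g h => mul_comm g h) v w, commutator_def]
      exact Subgroup.commutator_mem_commutator (Subgroup.mem_top _) (Subgroup.mem_top _)
    have hstem : Cfsg.IsStemExtension (Helper20.BiExt.proj β) := by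
      refine ⟨Helper20.BiExt.proj_surjective β, Helper20.BiExt.ker_proj_le_center β, ?_⟩
      intro x hx
      rw [← Helper20.BiExt.range_incl] at hx
      obtain ⟨a, rfl⟩ := hx
      let S : Subgroup (Multiplicative (ZMod p)) :=
        (commutator (Helper20.BiExt β)).comap (Helper20.BiExt.incl β)
      have hcard : Nat.card (Multiplicative (ZMod p)) = p := by
        change Nat.card (ZMod p) = p
        exact Nat.card_zmod p
      have : Fact (Nat.card (Multiplicative (ZMod p))).Prime := ⟨by rw [hcard]; exact hp⟩
      have hS : S = ⊤ := by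
        rcases Subgroup.eq_bot_or_eq_top_of_prime_card S with h | h
        · exfalso
          have : c ∈ S := hcmem
          rw [h, Subgroup.mem_bot] at this
          exact hc1 this
        · exact h
      have : a ∈ S := hS ▸ Subgroup.mem_top a
      exact this
    obtain ⟨π, hπ⟩ := hM.2 (Helper20.BiExt β) (Helper20.BiExt.proj β) hstem
    have hck : Helper20.BiExt.incl β c ∈ (Helper20.BiExt.proj β).ker := by
      rw [← Helper20.BiExt.range_incl]
      exact ⟨c, rfl⟩
    obtain ⟨a, ha⟩ := hπ ⟨_, hck⟩
    have ha1 : a = 1 := by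
      have : Subsingleton (Multiplicative (ZMod 1)) := by
        have : Subsingleton (ZMod 1) := by
          change Subsingleton (Fin 1)
          infer_instance
        exact inferInstanceAs (Subsingleton (ZMod 1))
      exact Subsingleton.elim _ _
    rw [ha1, map_one] at ha
    have h1 : Helper20.BiExt.incl β c = 1 := (congrArg Subtype.val ha).symm
    apply hc1
    apply Helper20.BiExt.incl_injective β
    rw [h1, map_one]
  · intro hcyc
    apply Helper20.hasCyclicSchurMultiplier_one_of_forall_ker_eq_bot
    intro Γ _ _ σ hσ
    have hcomm : ∀ a b : Γ, a * b = b * a :=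
      (MonoidHom.isMulCommutative_of_isCyclic_of_ker_le_center σ hσ.2.1).is_comm.comm
    rw [eq_bot_iff]
    refine le_trans hσ.2.2 ?_
    rw [commutator_def, Subgroup.commutator_le]
    intro a _ b _
    rw [Subgroup.mem_bot, commutatorElement_def, hcomm a b, mul_assoc b, mul_inv_cancel, mul_one,
      mul_inv_cancel]

end Cfsg.Agent.S3950
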