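import Mathlib
import Cfsg.Statements.S3954
import Cfsg.Agent.Lib.Helper20.SchurCover3
import Cfsg.Agent.Lib.Helper20.ProdStem3
import Cfsg.Agent.Lib.Helper20.DualEmbed

set_option autoImplicit false
open Cfsg

namespace Cfsg.Agent.S3954

open Cfsg.Agent.Helper20

/-- the transfer argument: a central element of `Γ'` has its `|Γ : H|`-th power in `H'` -/
theorem pow_index_mem_commutator {Γ : Type*} [Group Γ] (H : Subgroup Γ) [H.FiniteIndex]
    {a : Γ} (hc : a ∈ Subgroup.center Γ) (hd : a ∈ commutator Γ) (haH : a ^ H.index ∈ H) :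
    (⟨a ^ H.index, haH⟩ : H) ∈ commutator H := by
  have key : ∀ (k : ℕ) (g₀ : Γ), g₀⁻¹ * a ^ k * g₀ ∈ H → g₀⁻¹ * a ^ k * g₀ = a ^ k := by
    intro k g₀ _
    have h1 : a ^ k ∈ Subgroup.center Γ := Subgroup.pow_mem _ hc k
    have h2 := Subgroup.mem_center_iff.mp h1 g₀
    rw [mul_assoc, ← h2, ← mul_assoc, inv_mul_cancel, one_mul]
  have h1 := MonoidHom.transfer_eq_pow (Abelianization.of : H →* Abelianization H) a key
  have h2 : MonoidHom.transfer (Abelianization.of : H →* Abelianization H) a = 1 := by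
    have := Abelianization.commutator_subset_ker
      (MonoidHom.transfer (Abelianization.of : H →* Abelianization H)) hd
    exact this
  rw [h2] at h1
  rw [← Abelianization.ker_of, MonoidHom.mem_ker]
  exact h1.symm

/-- Let `U` be a subgroup of index `m` in the finite group `G`, let `A` be the Schur multiplier of `G` and `B` that of `U`. Then the subgroup of `m`-th powers of `A` is isomorphic to a subgroup of `B`. -/
theorem result {G : Type*} [Group G] [Finite G] (U : Subgroup G) {A B : Type*} [CommGroup A] [CommGroup B] (hA : Cfsg.HasSchurMultiplier G A) (hB : Cfsg.HasSchurMultiplier U B) : ∃ C : Subgroup B, Nonempty ((powMonoidHom U.index : A →* A).range ≃* C) := by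
  obtain ⟨eB⟩ := nonempty_equiv_schurM hB
  obtain ⟨Γ, _, _, σ, hσ, ⟨e⟩⟩ := hA.1
  -- the preimage of `U`
  set Ut : Subgroup Γ := U.comap σ with hUt
  have hidx : Ut.index = U.index := Subgroup.index_comap_of_surjective U hσ.1
  let ξ : Ut →* U := σ.subgroupComap U
  have hξs : Function.Surjective ξ := σ.subgroupComap_surjective_of_surjective U hσ.1
  have hξv : ∀ x : Ut, ((ξ x : U) : G) = σ (x : Γ) := fun x => rfl
  have hξk : ∀ x : Ut, x ∈ ξ.ker ↔ (x : Γ) ∈ σ.ker := by
    intro x
    rw [MonoidHom.mem_ker, MonoidHom.mem_ker, ← hξv]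
    constructor
    · intro h
      rw [h]
      rfl
    · intro h
      apply Subtype.ext
      rw [h]
      rfl
  have hξc : ξ.ker ≤ Subgroup.center Ut := by
    intro x hx
    rw [Subgroup.mem_center_iff]
    intro y
    apply Subtype.ext
    have h1 := Subgroup.mem_center_iff.mp (hσ.2.1 ((hξk x).mp hx)) (y : Γ)
    simpa using h1
  obtain ⟨η, hη⟩ := exists_uce_lift (Q := U) ξ hξs hξc
  let _ : CommGroup ξ.ker := kerCommGroup ξ hξc
  -- the embedding of the `m`-th powers of `A` into `ker ξ`
  have hmemU : ∀ a : σ.ker, (a : Γ) ∈ Ut := by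
    intro a
    rw [hUt, Subgroup.mem_comap, a.2]
    exact U.one_mem
  let ι : σ.ker →* ξ.ker :=
    { toFun := fun a => ⟨⟨(a : Γ), hmemU a⟩, (hξk _).mpr a.2⟩
      map_one' := by
        apply Subtype.ext
        apply Subtype.ext
        rfl
      map_mul' := by
        intro a b
        apply Subtype.ext
        apply Subtype.ext
        rfl }
  have hι : Function.Injective ι := by
    intro a b hab
    apply Subtype.ext
    have := congrArg (fun z : ξ.ker => ((z : Ut) : Γ)) hab
    exact this
  let ψ : (powMonoidHom U.index : A →* A).range →* ξ.ker :=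
    (ι.comp e.symm.toMonoidHom).comp (powMonoidHom U.index : A →* A).range.subtype
  have hψ : Function.Injective ψ := by
    intro a b hab
    apply Subtype.ext
    apply e.symm.injective
    apply hι
    exact hab
  have hle : ψ.range ≤ (schurMToKer ξ η hη).range := by
    rintro _ ⟨⟨y, x, rfl⟩, rfl⟩
    -- the element is `ι ((e.symm x) ^ m)`
    set a : σ.ker := e.symm x with ha
    have h1 : ψ ⟨powMonoidHom U.index x, ⟨x, rfl⟩⟩ = ι (a ^ U.index) := by
      change ι (e.symm (x ^ U.index)) = ι (a ^ U.index)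
      rw [map_pow]
    rw [h1]
    have hac : (a : Γ) ∈ Subgroup.center Γ := hσ.2.1 a.2
    have had : (a : Γ) ∈ commutator Γ := hσ.2.2 a.2
    have haH : (a : Γ) ^ Ut.index ∈ Ut := Subgroup.pow_mem _ (hmemU a) _
    have h2 := pow_index_mem_commutator Ut hac had haH
    have h3 : (⟨(a : Γ) ^ Ut.index, haH⟩ : Ut) ∈ ξ.ker := by
      rw [hξk]
      exact Subgroup.pow_mem _ a.2 _
    obtain ⟨m, hm, hm2⟩ := exists_schurM_of_mem_ker_inf_commutator ξ hξc η hη h3 h2
    refine ⟨⟨m, hm⟩, ?_⟩
    apply Subtype.ext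
    rw [schurMToKer_coe, hm2]
    apply Subtype.ext
    change (a : Γ) ^ Ut.index = ((a ^ U.index : σ.ker) : Γ)
    rw [hidx]
    rfl
  obtain ⟨g, hg⟩ := exists_injective_of_range_le (schurMToKer ξ η hη) ψ hψ hle
  let g' : (powMonoidHom U.index : A →* A).range →* B := eB.toMonoidHom.comp g
  have hg' : Function.Injective g' := fun a b hab => hg (eB.injective hab)
  exact ⟨g'.range, ⟨MonoidHom.ofInjective hg'⟩⟩

end Cfsg.Agent.S3954
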