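import Mathlib
import Cfsg.Statements.S3965
import Cfsg.Agent.Lib.Helper20.Schur
import Cfsg.Agent.Lib.Helper20.StemCyclic
import Cfsg.Agent.Lib.Helper20.DihedralRot
import Cfsg.Agent.Lib.Helper20.DihedralCover
import Cfsg.Agent.Lib.Helper20.StemBasic
import Cfsg.Agent.Lib.Helper20.ZModHom

set_option autoImplicit false
open Cfsg

namespace Cfsg.Agent.S3965

open DihedralGroup

/-- For even `n ≥ 2` the dihedral group of order `2 n` has Schur multiplier cyclic of order `2`. -/
theorem result (n : ℕ) [NeZero n] (hn : Even n) : Cfsg.HasCyclicSchurMultiplier (DihedralGroup n) 2 := by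
  refine ⟨⟨DihedralGroup (2 * n), inferInstance, inferInstance, Helper20.dihedralCover n,
    Helper20.dihedralCover_isStem n hn, ?_⟩, ?_⟩
  · exact Helper20.nonempty_mulEquiv_zmod_two (Helper20.card_ker_dihedralCover n)
  · intro Γ _ _ σ hσ
    obtain ⟨s, hs⟩ := hσ.1 (sr 0)
    -- every element of the kernel is `[s, r₀]` with `σ r₀ = r i`, `2 i = 0`
    have hform : ∀ k ∈ σ.ker, k ≠ 1 → ∃ r₀ : Γ, ∃ i : ZMod n, σ r₀ = r i ∧ 2 * i = 0 ∧ i ≠ 0 ∧
        k = s * r₀ * s⁻¹ * r₀⁻¹ := by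
      intro k hk hk1
      obtain ⟨r₀, hr₀C, hkr, hcomm⟩ := Helper20.stem_ker_eq_comm σ hσ (Helper20.rotSubgroup n)
        (sr 0) (Helper20.exists_zpow_mul_mem_rotSubgroup n) s hs k hk
      obtain ⟨i, hi⟩ := (Helper20.mem_rotSubgroup_iff n _).mp hr₀C
      rw [hi] at hcomm
      have h2 := Helper20.two_mul_eq_zero_of_commute n i hcomm
      refine ⟨r₀, i, hi, h2, ?_, hkr⟩
      rintro rfl
      rw [r_zero] at hi
      exact hk1 (hkr.trans (Helper20.comm_eq_one_of_map_eq_one σ hσ.2.1 s r₀ hi))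
    have key : ∀ k ∈ σ.ker, k ≠ 1 → ∀ k' ∈ σ.ker, k' ≠ 1 → k = k' := by
      intro k hk hk1 k' hk' hk1'
      obtain ⟨r₀, i, hi, h2i, hi0, hkr⟩ := hform k hk hk1
      obtain ⟨r₀', i', hi', h2i', hi0', hkr'⟩ := hform k' hk' hk1'
      have hii : i = i' := Helper20.zmod_eq_of_two_mul_eq_zero n i i' h2i h2i' hi0 hi0'
      rw [hkr, hkr']
      apply Helper20.comm_eq_of_map_eq σ hσ.2.1
      rw [hi, hi', hii]
    by_cases hbot : ∀ k ∈ σ.ker, k = 1
    · refine ⟨1, ?_⟩
      intro x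
      refine ⟨1, ?_⟩
      apply Subtype.ext
      rw [hbot x.1 x.2]
      rfl
    · push Not at hbot
      obtain ⟨k0, hk0, hk0ne⟩ := hbot
      apply Helper20.exists_surjective_zmod_two_hom (⟨k0, hk0⟩ : σ.ker)
      · apply Subtype.ext
        change k0 * k0 = 1
        by_contra hne
        have h1 := key (k0 * k0) (Subgroup.mul_mem _ hk0 hk0) hne k0 hk0 hk0ne
        apply hk0ne
        calc k0 = k0⁻¹ * (k0 * k0) := by group
          _ = k0⁻¹ * k0 := by rw [h1]
          _ = 1 := inv_mul_cancel k0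
      · intro x
        by_cases hx : (x : Γ) = 1
        · left
          exact Subtype.ext hx
        · right
          exact Subtype.ext (key x.1 x.2 hx k0 hk0 hk0ne)

end Cfsg.Agent.S3965
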