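import Mathlib
import Cfsg.Statements.S0827
import Cfsg.Agent.Lib.Helper11.UnitaryHeis2
import Cfsg.Agent.S0035

set_option autoImplicit false
open Cfsg

namespace Cfsg.Agent.S0827

open Cfsg.Agent.Helper11.Herm
open scoped commutatorElement

/-- U_3(2) ≅ 3².Q_8: PSU_3(2) (form over the field with 4 elements) has a normal subgroup N which is elementary abelian of order 9 such that the quotient by N is isomorphic to the quaternion group of order 8. -/
theorem result {F : Type*} [Field F] [Fintype F] (hF : Fintype.card F = 4) : ∃ (N : Subgroup (Cfsg.PSU 3 F 2)) (_ : N.Normal), Nat.card N = 9 ∧ (∀ x ∈ N, x ^ 3 = 1) ∧ Nonempty (Cfsg.PSU 3 F 2 ⧸ N ≃* QuaternionGroup 2) := by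
  have hF' : Fintype.card F = 2 ^ 2 := by rw [hF]; norm_num
  obtain ⟨φ, hφ⟩ := exists_frob hF'
  have hchar2 : CharP F 2 := by
    rw [← ringChar.eq_iff, FiniteField.even_card_iff_char_two, hF]
  have hφφ : Fact (∀ x : F, φ (φ x) = x) := ⟨frob_frob hF' φ hφ⟩
  have hne := frob_ne_id hF' φ hφ
  have hfinG : Finite (Cfsg.PSU 3 F 2) :=
    Nat.finite_of_card_ne_zero (by rw [card_PSU_three_two hF']; norm_num)
  obtain ⟨H, hHdef⟩ : ∃ H, H = (Hs.toPSU hF' φ hφ).range := ⟨_, rfl⟩
  have hH : Cfsg.IsFrobeniusComplement H := by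
    rw [hHdef]; exact isFrobeniusComplement_range hF' φ hφ
  let eH : Hs φ ≃* H := (MonoidHom.ofInjective (Hs.toPSU_injective hF' φ hφ)).trans
    (MulEquiv.subgroupCongr hHdef.symm)
  have hcardH : Nat.card H = 8 := by
    rw [← Nat.card_congr eH.toEquiv, card_Hs hF' φ hφ]
    norm_num
  obtain ⟨N, -, hNn, hcompl⟩ := Cfsg.Agent.S0035.result H hH
  have hcardN : Nat.card N = 9 := by
    have := hcompl.card_mul_card
    rw [hcardH, card_PSU_three_two hF'] at this
    omega
  have hNH : N ⊓ H = ⊥ := hcompl.disjoint.eq_bot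
  refine ⟨N, hNn, hcardN, ?_, ?_⟩
  · -- exponent three
    have hNne : N ≠ ⊥ := by
      intro h
      rw [h, Subgroup.card_bot] at hcardN
      omega
    -- a nontrivial commutator
    obtain ⟨c, hc⟩ : ∃ c, φ c ≠ c := by
      by_contra hc
      push Not at hc
      exact hne (RingHom.ext hc)
    obtain ⟨x, hx⟩ := Hs.exists_a φ hne 1
    obtain ⟨y, hy⟩ := Hs.exists_a φ hne c
    have hcomm1 : ⁅x, y⁆ ≠ 1 := by
      rw [Ne, commutatorElement_eq_one_iff_mul_comm, Hs.commute_iff, hx, hy, map_one, mul_one,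
        one_mul]
      exact fun h => hc h.symm
    have hncyc : ¬ IsCyclic N := by
      apply not_isCyclic_of_frobenius H N hH hNH hNne (Hs.toPSU hF' φ hφ ⁅x, y⁆)
      · rw [map_commutatorElement]
        apply Subgroup.commutator_mem_commutator
        · rw [hHdef]; exact ⟨x, rfl⟩
        · rw [hHdef]; exact ⟨y, rfl⟩
      · intro h
        apply hcomm1
        apply Hs.toPSU_injective hF' φ hφ
        rw [h, map_one]
    intro g hg
    have hfinN : Finite N := Nat.finite_of_card_ne_zero (by rw [hcardN]; norm_num)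
    have hdvd : orderOf (⟨g, hg⟩ : N) ∣ 3 ^ 2 := by
      have := orderOf_dvd_natCard (⟨g, hg⟩ : N)
      rwa [hcardN] at this
    obtain ⟨k, hk, hko⟩ := (Nat.dvd_prime_pow Nat.prime_three).1 hdvd
    have hk1 : k ≤ 1 := by
      by_contra hk2
      have hk3 : k = 2 := by omega
      apply hncyc
      apply isCyclic_of_orderOf_eq_card (⟨g, hg⟩ : N)
      rw [hko, hk3, hcardN]
      norm_num
    have h3 : (⟨g, hg⟩ : N) ^ 3 = 1 := by
      apply orderOf_dvd_iff_pow_eq_one.1
      rw [hko]
      exact pow_dvd_pow 3 hk1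
    have := congrArg Subtype.val h3
    simpa using this
  · -- the quotient
    obtain ⟨eQ⟩ := Hs_equiv_quaternion hF' φ hφ
    let f : H →* Cfsg.PSU 3 F 2 ⧸ N := (QuotientGroup.mk' N).comp H.subtype
    have hinj : Function.Injective f := by
      rw [injective_iff_map_eq_one]
      intro h hh
      have h1 : (h : Cfsg.PSU 3 F 2) ∈ N := by
        have : f h = ((h : Cfsg.PSU 3 F 2) : Cfsg.PSU 3 F 2 ⧸ N) := rfl
        rw [this] at hh
        exact (QuotientGroup.eq_one_iff _).1 hh
      have h2 : (h : Cfsg.PSU 3 F 2) ∈ N ⊓ H := ⟨h1, h.2⟩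
      rw [hNH, Subgroup.mem_bot] at h2
      exact Subtype.ext h2
    have hcardQ : Nat.card (Cfsg.PSU 3 F 2 ⧸ N) = 8 := by
      have := Subgroup.card_eq_card_quotient_mul_card_subgroup N
      rw [card_PSU_three_two hF', hcardN] at this
      omega
    have hfinH : Finite H := Nat.finite_of_card_ne_zero (by rw [hcardH]; norm_num)
    have hbij : Function.Bijective f :=
      (Nat.bijective_iff_injective_and_card f).2 ⟨hinj, by rw [hcardH, hcardQ]⟩
    exact ⟨((MulEquiv.ofBijective f hbij).symm.trans eH.symm).trans eQ⟩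

end Cfsg.Agent.S0827
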