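import Mathlib
import Cfsg.Statements.S0684

set_option autoImplicit false
open Cfsg

namespace Cfsg.Agent.S0684

/-- A free action of a finite group on a finite set: the order divides the size. -/
theorem card_dvd_of_free {G X : Type*} [Group G] [MulAction G X]
    (h : ∀ b : X, MulAction.stabilizer G b = ⊥) : Nat.card G ∣ Nat.card X := by
  rw [Nat.card_congr (MulAction.selfEquivOrbitsQuotientProd h), Nat.card_prod]
  exact dvd_mul_left _ _

section

variable {p : ℕ} [Fact p.Prime] {V : Type*} [AddCommGroup V] [Module (ZMod p) V]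

/-- the restricted representation on an invariant subspace -/
def rho {A₀ : Type*} [Group A₀] (ι : A₀ →* (V ≃ₗ[ZMod p] V)) (W : Submodule (ZMod p) V)
    (hWinv : ∀ a, ∀ v ∈ W, ι a v ∈ W) : A₀ →* Module.End (ZMod p) W where
  toFun a := ((ι a : V ≃ₗ[ZMod p] V) : V →ₗ[ZMod p] V).restrict (hWinv a)
  map_one' := by ext w; simp
  map_mul' a b := by ext w; simp

theorem rho_apply {A₀ : Type*} [Group A₀] (ι : A₀ →* (V ≃ₗ[ZMod p] V)) (W : Submodule (ZMod p) V)
    (hWinv : ∀ a, ∀ v ∈ W, ι a v ∈ W) (a : A₀) (w : W) :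
    ((rho ι W hWinv a) w : V) = ι a (w : V) := rfl

open scoped IsMulCommutative in
theorem cyclic_of_fpf [Finite V] {A₀ : Type*} [Group A₀] [Finite A₀]
    (hcomm : ∀ a b : A₀, a * b = b * a) (ι : A₀ →* (V ≃ₗ[ZMod p] V))
    (hfpf : ∀ a : A₀, ∀ v : V, v ≠ 0 → ι a v = v → a = 1)
    (W : Submodule (ZMod p) V) (hW0 : W ≠ ⊥) (hWinv : ∀ a, ∀ v ∈ W, ι a v ∈ W)
    (hWmin : ∀ W' : Submodule (ZMod p) V, W' ≤ W → (∀ a, ∀ v ∈ W', ι a v ∈ W') →
      W' = ⊥ ∨ W' = W) : IsCyclic A₀ := by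
  classical
  obtain ⟨w0, hw0W, hw0⟩ := (Submodule.ne_bot_iff W).1 hW0
  set ρ := rho ι W hWinv with hρ
  set s : Set (Module.End (ZMod p) W) := Set.range ρ with hs
  have hsc : ∀ x ∈ s, ∀ y ∈ s, x * y = y * x := by
    rintro _ ⟨a, rfl⟩ _ ⟨b, rfl⟩
    rw [← map_mul, ← map_mul, hcomm]
  have hRc : IsMulCommutative (Algebra.adjoin (ZMod p) s) :=
    Algebra.isMulCommutative_adjoin (ZMod p) hsc
  -- kernel of a nonzero element is trivial
  have hker : ∀ x : Module.End (ZMod p) W, x ∈ Algebra.adjoin (ZMod p) s → x ≠ 0 →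
      ∀ w : W, x w = 0 → w = 0 := by
    intro x hx hx0 w hxw
    have hcx : ∀ a : A₀, Commute (ρ a) x := fun a =>
      Algebra.commute_of_mem_adjoin_of_forall_mem_commute hx (by
        rintro _ ⟨b, rfl⟩
        exact hsc _ ⟨a, rfl⟩ _ ⟨b, rfl⟩)
    let K' : Submodule (ZMod p) V := (LinearMap.ker x).map W.subtype
    have hK'le : K' ≤ W := by
      rintro _ ⟨u, _, rfl⟩
      exact u.2
    have hK'inv : ∀ a, ∀ v ∈ K', ι a v ∈ K' := by
      rintro a _ ⟨u, hu, rfl⟩
      refine ⟨ρ a u, ?_, rfl⟩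
      rw [SetLike.mem_coe, LinearMap.mem_ker] at hu ⊢
      have := (hcx a).eq
      have h2 : x (ρ a u) = ρ a (x u) := by
        have := congrArg (fun f => f u) this
        simp only [Module.End.mul_apply] at this
        exact this.symm
      rw [h2, hu, map_zero]
    rcases hWmin K' hK'le hK'inv with h | h
    · have : (w : V) ∈ K' := ⟨w, hxw, rfl⟩
      rw [h, Submodule.mem_bot] at this
      exact Subtype.ext this
    · exfalso
      apply hx0
      ext u
      have : (u : V) ∈ K' := by rw [h]; exact u.2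
      obtain ⟨u', hu', hu'e⟩ := this
      have : u' = u := Subtype.ext hu'e
      rw [← this]
      rw [SetLike.mem_coe, LinearMap.mem_ker] at hu'
      rw [hu']; rfl
  have hnt : Nontrivial (Algebra.adjoin (ZMod p) s) := by
    refine ⟨⟨0, 1, ?_⟩⟩
    intro h01
    have h2 := congrArg (fun r : Algebra.adjoin (ZMod p) s => (r : Module.End (ZMod p) W)) h01
    simp only [ZeroMemClass.coe_zero, OneMemClass.coe_one] at h2
    have h3 := congrArg (fun f => f ⟨w0, hw0W⟩) h2
    simp only [LinearMap.zero_apply, Module.End.one_apply] at h3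
    exact hw0 (congrArg Subtype.val h3).symm
  have hnzd : NoZeroDivisors (Algebra.adjoin (ZMod p) s) := by
    refine ⟨fun {x y} hxy => ?_⟩
    by_cases hx0 : x = 0
    · exact Or.inl hx0
    · right
      have hx0' : (x : Module.End (ZMod p) W) ≠ 0 := fun h => hx0 (Subtype.ext h)
      apply Subtype.ext
      ext u
      have h2 := congrArg (fun r : Algebra.adjoin (ZMod p) s => (r : Module.End (ZMod p) W)) hxy
      simp only [MulMemClass.coe_mul, ZeroMemClass.coe_zero] at h2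
      have h3 := congrArg (fun f => f u) h2
      simp only [Module.End.mul_apply, LinearMap.zero_apply] at h3
      have := hker x x.2 hx0' _ h3
      rw [this]; rfl
  have hdom : IsDomain (Algebra.adjoin (ZMod p) s) := NoZeroDivisors.to_isDomain _
  let f : A₀ →* (Algebra.adjoin (ZMod p) s) :=
    { toFun := fun a => ⟨ρ a, Algebra.subset_adjoin ⟨a, rfl⟩⟩
      map_one' := by apply Subtype.ext; simp
      map_mul' := by intro a b; apply Subtype.ext; simp }
  have hf : Function.Injective f := by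
    rw [injective_iff_map_eq_one]
    intro a ha
    have h1 : ρ a = 1 := congrArg Subtype.val ha
    apply hfpf a w0 hw0
    have h2 := congrArg (fun g => ((g ⟨w0, hw0W⟩ : W) : V)) h1
    simpa [hρ, rho_apply] using h2
  exact isCyclic_of_injective_ringHom f hf

theorem card_dvd_of_fpf [Finite V] {A₀ : Type*} [Group A₀] [Finite A₀]
    (ι : A₀ →* (V ≃ₗ[ZMod p] V))
    (hfpf : ∀ a : A₀, ∀ v : V, v ≠ 0 → ι a v = v → a = 1)
    (W : Submodule (ZMod p) V) (hWinv : ∀ a, ∀ v ∈ W, ι a v ∈ W) :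
    Nat.card A₀ ∣ p ^ Module.finrank (ZMod p) W - 1 := by
  classical
  let X := {w : W // w ≠ 0}
  let _ : MulAction A₀ X :=
    { smul := fun a x => ⟨⟨ι a (x.1 : V), hWinv a _ x.1.2⟩, by
        intro h
        apply x.2
        have h1 : ι a (x.1 : V) = 0 := congrArg Subtype.val h
        have h2 : (x.1 : V) = 0 := by
          have := (ι a).map_eq_zero_iff.1 h1
          exact this
        exact Subtype.ext h2⟩
      one_smul := by
        intro x
        apply Subtype.ext; apply Subtype.ext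
        show ι 1 (x.1 : V) = x.1
        rw [map_one]; rfl
      mul_smul := by
        intro a b x
        apply Subtype.ext; apply Subtype.ext
        show ι (a * b) (x.1 : V) = ι a (ι b (x.1 : V))
        rw [map_mul]; rfl }
  have hfree : ∀ x : X, MulAction.stabilizer A₀ x = ⊥ := by
    intro x
    rw [eq_bot_iff]
    intro a ha
    rw [MulAction.mem_stabilizer_iff] at ha
    rw [Subgroup.mem_bot]
    have h1 : ι a (x.1 : V) = x.1 := congrArg (fun y : X => ((y.1 : W) : V)) ha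
    apply hfpf a _ _ h1
    intro h
    exact x.2 (Subtype.ext h)
  have h1 := card_dvd_of_free hfree
  have h2 : Nat.card X = p ^ Module.finrank (ZMod p) W - 1 := by
    have h3 : Nat.card W = p ^ Module.finrank (ZMod p) W := by
      rw [Module.natCard_eq_pow_finrank (K := ZMod p), Nat.card_zmod]
    have : Fintype W := Fintype.ofFinite W
    rw [← h3, Nat.card_eq_fintype_card, Nat.card_eq_fintype_card]
    exact Set.card_ne_eq (0 : W)
  rw [← h2]; exact h1

end

/-- A maximal normal abelian subgroup of a regular linear group is cyclic and reducible. -/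
theorem result {p : ℕ} [Fact p.Prime] {V : Type*} [AddCommGroup V] [Module (ZMod p) V] [Finite V] (H : Subgroup (V ≃ₗ[ZMod p] V)) (hreg : ∀ v w : V, v ≠ 0 → w ≠ 0 → ∃! h : H, (h : V ≃ₗ[ZMod p] V) v = w) (hI : ∀ A : Subgroup H, A.Normal → IsCyclic A → ∃ W : Submodule (ZMod p) V, W ≠ ⊥ ∧ W ≠ ⊤ ∧ ∀ a ∈ A, ∀ v ∈ W, ((a : H) : V ≃ₗ[ZMod p] V) v ∈ W) (A : Subgroup H) (hAn : A.Normal) (hAc : IsMulCommutative A) (hAmax : ∀ B : Subgroup H, B.Normal → IsMulCommutative B → A ≤ B → B = A) : IsCyclic A ∧ ∃ W : Submodule (ZMod p) V, W ≠ ⊥ ∧ W ≠ ⊤ ∧ (∀ a ∈ A, ∀ v ∈ W, ((a : H) : V ≃ₗ[ZMod p] V) v ∈ W) ∧ (∀ W' : Submodule (ZMod p) V, W' ≤ W → (∀ a ∈ A, ∀ v ∈ W', ((a : H) : V ≃ₗ[ZMod p] V) v ∈ W') → W' = ⊥ ∨ W' = W) ∧ Nat.card A ∣ p ^ Module.finrank (ZMod p) W - 1 := by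
  classical
  have hfinGL : Finite (V ≃ₗ[ZMod p] V) :=
    Finite.of_injective (fun e : V ≃ₗ[ZMod p] V => (e : V → V)) DFunLike.coe_injective
  let ι : A →* (V ≃ₗ[ZMod p] V) := H.subtype.comp A.subtype
  have hι : ∀ a : A, ι a = ((a : H) : V ≃ₗ[ZMod p] V) := fun a => rfl
  have hfpf : ∀ a : A, ∀ v : V, v ≠ 0 → ι a v = v → a = 1 := by
    intro a v hv hav
    obtain ⟨h0, -, huniq⟩ := hreg v v hv hv
    have h1 : (a : H) = h0 := huniq (a : H) hav
    have h2 : (1 : H) = h0 := huniq 1 (by simp)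
    apply Subtype.ext
    rw [h1, ← h2]; rfl
  -- V is nontrivial
  obtain ⟨W₀, hW₀, -, -⟩ := hI ⊥ inferInstance inferInstance
  have hex : ∃ k, ∃ W : Submodule (ZMod p) V, W ≠ ⊥ ∧ (∀ a : A, ∀ v ∈ W, ι a v ∈ W) ∧
      Module.finrank (ZMod p) W = k := by
    refine ⟨_, ⊤, ?_, fun _ _ _ => Submodule.mem_top, rfl⟩
    intro htop
    apply hW₀
    rw [eq_bot_iff, ← htop]; exact le_top
  obtain ⟨W, hW0, hWinv, hWk⟩ := Nat.find_spec hex
  have hWmin : ∀ W' : Submodule (ZMod p) V, W' ≤ W → (∀ a : A, ∀ v ∈ W', ι a v ∈ W') →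
      W' = ⊥ ∨ W' = W := by
    intro W' hle hinv
    by_cases h0 : W' = ⊥
    · exact Or.inl h0
    · right
      have h1 : Nat.find hex ≤ Module.finrank (ZMod p) W' :=
        Nat.find_min' hex ⟨W', h0, hinv, rfl⟩
      exact Submodule.eq_of_le_of_finrank_le hle (by rw [hWk]; exact h1)
  have hcomm : ∀ a b : A, a * b = b * a := fun a b => hAc.is_comm.comm a b
  have hcyc : IsCyclic A := cyclic_of_fpf hcomm ι hfpf W hW0 hWinv hWmin
  refine ⟨hcyc, W, hW0, ?_, fun a ha v hv => hWinv ⟨a, ha⟩ v hv, ?_, ?_⟩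
  · intro htop
    obtain ⟨W₁, h1, h2, h3⟩ := hI A hAn hcyc
    rcases hWmin W₁ (by rw [htop]; exact le_top) (fun a v hv => h3 a.1 a.2 v hv) with h | h
    · exact h1 h
    · exact h2 (h.trans htop)
  · intro W' hle hinv
    exact hWmin W' hle (fun a v hv => hinv a.1 a.2 v hv)
  · exact card_dvd_of_fpf ι hfpf W hWinv

end Cfsg.Agent.S0684
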