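import Mathlib
import Cfsg.Statements.S4337

set_option autoImplicit false
open Cfsg

namespace Cfsg.Agent.S4337

open Equiv Equiv.Perm

set_option maxRecDepth 100000 in
theorem comm_sq : ∀ σ τ : Equiv.Perm (Fin 4), Equiv.Perm.sign σ = 1 → Equiv.Perm.sign τ = 1 →
    (σ * τ * σ⁻¹ * τ⁻¹) ^ 2 = 1 := by
  decide +kernel

set_option maxRecDepth 100000 in
theorem mul_sq : ∀ σ τ : Equiv.Perm (Fin 4), σ ^ 2 = 1 → Equiv.Perm.sign σ = 1 → τ ^ 2 = 1 →
    Equiv.Perm.sign τ = 1 → (σ * τ) ^ 2 = 1 := by
  decide +kernel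

/-- the Klein four-group inside `S_4`. -/
def V4 : Subgroup (Equiv.Perm (Fin 4)) where
  carrier := {σ | σ ^ 2 = 1 ∧ Equiv.Perm.sign σ = 1}
  mul_mem' := by
    rintro σ τ ⟨h1, h2⟩ ⟨h3, h4⟩
    exact ⟨mul_sq σ τ h1 h2 h3 h4, by rw [map_mul, h2, h4, one_mul]⟩
  one_mem' := ⟨one_pow 2, map_one _⟩
  inv_mem' := by
    rintro σ ⟨h1, h2⟩
    exact ⟨by rw [inv_pow, h1, inv_one], by rw [map_inv, h2, inv_one]⟩

theorem perm4_solvable : Group.IsSolvable (Equiv.Perm (Fin 4)) := by
  refine ⟨⟨3, ?_⟩⟩
  have h1 : derivedSeries (Equiv.Perm (Fin 4)) 1 ≤ alternatingGroup (Fin 4) := by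
    rw [derivedSeries_succ, derivedSeries_zero, Subgroup.commutator_le]
    intro g₁ _ g₂ _
    rw [Equiv.Perm.mem_alternatingGroup, map_commutatorElement]
    exact commutatorElement_eq_one_iff_commute.mpr (Commute.all _ _)
  have h2 : derivedSeries (Equiv.Perm (Fin 4)) 2 ≤ V4 := by
    rw [derivedSeries_succ]
    refine (Subgroup.commutator_mono h1 h1).trans ?_
    rw [Subgroup.commutator_le]
    intro g₁ hg₁ g₂ hg₂
    rw [Equiv.Perm.mem_alternatingGroup] at hg₁ hg₂
    refine ⟨?_, ?_⟩
    · rw [commutatorElement_def]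
      exact comm_sq g₁ g₂ hg₁ hg₂
    · rw [map_commutatorElement]
      exact commutatorElement_eq_one_iff_commute.mpr (Commute.all _ _)
  rw [eq_bot_iff, derivedSeries_succ]
  refine (Subgroup.commutator_mono h2 h2).trans ?_
  rw [Subgroup.commutator_le]
  intro g₁ hg₁ g₂ hg₂
  rw [Subgroup.mem_bot, commutatorElement_def]
  have h12 : (g₁ * g₂) ^ 2 = 1 := (V4.mul_mem hg₁ hg₂).1
  have e1 : g₁⁻¹ = g₁ := by
    have := hg₁.1
    rw [pow_two] at this
    exact inv_eq_of_mul_eq_one_left this
  have e2 : g₂⁻¹ = g₂ := by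
    have := hg₂.1
    rw [pow_two] at this
    exact inv_eq_of_mul_eq_one_left this
  rw [e1, e2, mul_assoc, ← pow_two]
  exact h12

variable {α : Type*} [DecidableEq α] [Fintype α]

/-- permutations fixing every point outside `S`. -/
def Fix (S : Finset α) : Subgroup (Equiv.Perm α) where
  carrier := {σ | ∀ x, x ∉ S → σ x = x}
  mul_mem' := by
    intro σ τ hσ hτ x hx
    show σ (τ x) = x
    rw [hτ x hx, hσ x hx]
  one_mem' := fun x _ => rfl
  inv_mem' := by
    intro σ hσ x hx
    have := hσ x hx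
    show σ⁻¹ x = x
    rw [Equiv.Perm.inv_eq_iff_eq]
    exact this.symm

theorem mem_Fix (S : Finset α) (σ : Equiv.Perm α) : σ ∈ Fix S ↔ ∀ x, x ∉ S → σ x = x := Iff.rfl

theorem Fix_solvable (S : Finset α) (hS : S.card ≤ 4) : Group.IsSolvable (Fix S) := by
  haveI := perm4_solvable
  -- Perm S is solvable
  have hcard : Fintype.card {x // x ∈ S} ≤ Fintype.card (Fin 4) := by
    rw [Fintype.card_coe, Fintype.card_fin]; exact hS
  obtain ⟨ι⟩ := Function.Embedding.nonempty_of_card_le hcard
  haveI hS4 : Group.IsSolvable (Equiv.Perm {x // x ∈ S}) :=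
    Group.isSolvable_of_isSolvable_injective (Equiv.Perm.viaEmbeddingHom_injective ι)
  -- range of ofSubtype is solvable
  let f : Equiv.Perm {x // x ∈ S} →* Equiv.Perm α := Equiv.Perm.ofSubtype
  haveI hR : Group.IsSolvable f.range := Group.isSolvable_of_surjective f.rangeRestrict_surjective
  have hle : Fix S ≤ f.range := by
    intro σ hσ
    have h₁ : ∀ x, σ x ∈ S ↔ x ∈ S := by
      intro x
      constructor
      · intro h
        by_contra hx
        rw [hσ x hx] at h
        exact hx h
      · intro h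
        by_contra hx
        have := hσ (σ x) hx
        have := σ.injective this
        rw [this] at hx
        exact hx h
    have h₂ : ∀ x, σ x ≠ x → x ∈ S := by
      intro x hx
      by_contra h
      exact hx (hσ x h)
    exact ⟨Equiv.Perm.subtypePerm σ h₁, Equiv.Perm.ofSubtype_subtypePerm h₁ h₂⟩
  exact Group.isSolvable_of_isSolvable_injective (Subgroup.inclusion_injective hle)

theorem swap_mem_Fix (S : Finset α) (x y : α) (hx : x ∈ S) (hy : y ∈ S) :
    Equiv.swap x y ∈ Fix S := by
  intro z hz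
  apply Equiv.swap_apply_of_ne_of_ne
  · rintro rfl; exact hz hx
  · rintro rfl; exact hz hy

/-- If `a, b` fix everything outside a set `T` of at most four points, and `c = swap x y` with
`x, y ∉ T`, then `⟨a, b, c⟩` is solvable. -/
theorem solvable_of_disjoint (T : Finset α) (hT : T.card ≤ 4) (a b : Equiv.Perm α)
    (ha : a ∈ Fix T) (hb : b ∈ Fix T) (x y : α) (hx : x ∉ T) (hy : y ∉ T) :
    Group.IsSolvable (Subgroup.closure ({a, b, Equiv.swap x y} : Set (Equiv.Perm α))) := by
  haveI := Fix_solvable T hT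
  set c := Equiv.swap x y with hc
  have hcomm : ∀ (σ : Fix T) (τ : Subgroup.zpowers c),
      Commute ((Fix T).subtype σ) ((Subgroup.zpowers c).subtype τ) := by
    rintro ⟨σ, hσ⟩ ⟨τ, hτ⟩
    obtain ⟨i, rfl⟩ := Subgroup.mem_zpowers_iff.mp hτ
    apply Commute.zpow_right
    show σ * c = c * σ
    ext z
    show σ (c z) = c (σ z)
    by_cases hzT : z ∈ T
    · have hzx : z ≠ x := by rintro rfl; exact hx hzT
      have hzy : z ≠ y := by rintro rfl; exact hy hzT
      have hσz : σ z ∈ T := by
        by_contra h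
        have := hσ (σ z) h
        have := σ.injective this
        rw [this] at h
        exact h hzT
      have hσzx : σ z ≠ x := by intro h; rw [h] at hσz; exact hx hσz
      have hσzy : σ z ≠ y := by intro h; rw [h] at hσz; exact hy hσz
      rw [hc, Equiv.swap_apply_of_ne_of_ne hzx hzy, Equiv.swap_apply_of_ne_of_ne hσzx hσzy]
    · rw [hσ z hzT]
      have : c z ∉ T := by
        rw [hc]
        by_cases hzx : z = x
        · rw [hzx, Equiv.swap_apply_left]; exact hy
        · by_cases hzy : z = y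
          · rw [hzy, Equiv.swap_apply_right]; exact hx
          · rw [Equiv.swap_apply_of_ne_of_ne hzx hzy]; exact hzT
      rw [hσ _ this]
  let F : (Fix T) × (Subgroup.zpowers c) →* Equiv.Perm α :=
    MonoidHom.noncommCoprod (Fix T).subtype (Subgroup.zpowers c).subtype hcomm
  haveI : Group.IsSolvable (Subgroup.zpowers c) := by
    apply Group.isSolvable_of_comm
    rintro ⟨_, hu⟩ ⟨_, hv⟩
    obtain ⟨i, rfl⟩ := Subgroup.mem_zpowers_iff.mp hu
    obtain ⟨j, rfl⟩ := Subgroup.mem_zpowers_iff.mp hv
    apply Subtype.ext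
    exact ((Commute.refl c).zpow_zpow i j).eq
  haveI hR : Group.IsSolvable F.range := Group.isSolvable_of_surjective F.rangeRestrict_surjective
  have hle : Subgroup.closure ({a, b, c} : Set (Equiv.Perm α)) ≤ F.range := by
    rw [Subgroup.closure_le]
    rintro σ (rfl | rfl | rfl)
    · exact ⟨(⟨σ, ha⟩, 1), by simp [F]⟩
    · exact ⟨(⟨σ, hb⟩, 1), by simp [F]⟩
    · refine ⟨(1, ⟨c, Subgroup.mem_zpowers c⟩), by simp [F]⟩
  exact Group.isSolvable_of_isSolvable_injective (Subgroup.inclusion_injective hle)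

/-- In a finite symmetric group, any three transpositions generate a solvable subgroup. -/
theorem result (n : ℕ) (a b c : Equiv.Perm (Fin n))
    (ha : a.IsSwap) (hb : b.IsSwap) (hc : c.IsSwap) :
    Group.IsSolvable (Subgroup.closure ({a, b, c} : Set (Equiv.Perm (Fin n)))) := by
  classical
  obtain ⟨a1, a2, ha12, rfl⟩ := ha
  obtain ⟨b1, b2, hb12, rfl⟩ := hb
  obtain ⟨c1, c2, hc12, rfl⟩ := hc
  set A : Finset (Fin n) := {a1, a2} with hA
  set B : Finset (Fin n) := {b1, b2} with hB
  set C : Finset (Fin n) := {c1, c2} with hC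
  have cA : A.card = 2 := Finset.card_pair ha12
  have cB : B.card = 2 := Finset.card_pair hb12
  have cC : C.card = 2 := Finset.card_pair hc12
  have ha1 : a1 ∈ A := by simp [hA]
  have ha2 : a2 ∈ A := by simp [hA]
  have hb1 : b1 ∈ B := by simp [hB]
  have hb2 : b2 ∈ B := by simp [hB]
  have hc1 : c1 ∈ C := by simp [hC]
  have hc2 : c2 ∈ C := by simp [hC]
  have card_union_le : ∀ X Y : Finset (Fin n), (X ∪ Y).card ≤ X.card + Y.card :=
    fun X Y => Finset.card_union_le X Y
  by_cases h1 : Disjoint C (A ∪ B)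
  · -- c disjoint from a, b
    have hT : (A ∪ B).card ≤ 4 := by have := card_union_le A B; omega
    exact solvable_of_disjoint (A ∪ B) hT _ _
      (swap_mem_Fix _ _ _ (Finset.mem_union_left _ ha1) (Finset.mem_union_left _ ha2))
      (swap_mem_Fix _ _ _ (Finset.mem_union_right _ hb1) (Finset.mem_union_right _ hb2))
      c1 c2 (Finset.disjoint_left.mp h1 hc1) (Finset.disjoint_left.mp h1 hc2)
  by_cases h2 : Disjoint B (A ∪ C)
  · have hT : (A ∪ C).card ≤ 4 := by have := card_union_le A C; omega
    have := solvable_of_disjoint (A ∪ C) hT (Equiv.swap a1 a2) (Equiv.swap c1 c2)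
      (swap_mem_Fix _ _ _ (Finset.mem_union_left _ ha1) (Finset.mem_union_left _ ha2))
      (swap_mem_Fix _ _ _ (Finset.mem_union_right _ hc1) (Finset.mem_union_right _ hc2))
      b1 b2 (Finset.disjoint_left.mp h2 hb1) (Finset.disjoint_left.mp h2 hb2)
    have e : ({Equiv.swap a1 a2, Equiv.swap b1 b2, Equiv.swap c1 c2} : Set (Equiv.Perm (Fin n))) =
        {Equiv.swap a1 a2, Equiv.swap c1 c2, Equiv.swap b1 b2} := by
      ext σ; simp only [Set.mem_insert_iff, Set.mem_singleton_iff]; tauto
    rw [e]; exact this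
  by_cases h3 : Disjoint A (B ∪ C)
  · have hT : (B ∪ C).card ≤ 4 := by have := card_union_le B C; omega
    have := solvable_of_disjoint (B ∪ C) hT (Equiv.swap b1 b2) (Equiv.swap c1 c2)
      (swap_mem_Fix _ _ _ (Finset.mem_union_left _ hb1) (Finset.mem_union_left _ hb2))
      (swap_mem_Fix _ _ _ (Finset.mem_union_right _ hc1) (Finset.mem_union_right _ hc2))
      a1 a2 (Finset.disjoint_left.mp h3 ha1) (Finset.disjoint_left.mp h3 ha2)
    have e : ({Equiv.swap a1 a2, Equiv.swap b1 b2, Equiv.swap c1 c2} : Set (Equiv.Perm (Fin n))) =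
        {Equiv.swap b1 b2, Equiv.swap c1 c2, Equiv.swap a1 a2} := by
      ext σ; simp only [Set.mem_insert_iff, Set.mem_singleton_iff]; tauto
    rw [e]; exact this
  · -- all connected: the support has at most four points
    have key : ∀ X Y : Finset (Fin n), ¬ Disjoint X Y → (X ∪ Y).card + 1 ≤ X.card + Y.card := by
      intro X Y hXY
      have h := Finset.card_union_add_card_inter X Y
      have : 0 < (X ∩ Y).card := by
        rw [Finset.card_pos]
        rw [Finset.not_disjoint_iff_nonempty_inter] at hXY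
        exact hXY
      omega
    have hS : (A ∪ B ∪ C).card ≤ 4 := by
      -- A meets B ∪ C
      have hAB_or : ¬ Disjoint A B ∨ ¬ Disjoint A C := by
        by_contra hcon
        push Not at hcon
        apply h3
        rw [Finset.disjoint_union_right]
        exact hcon
      rcases hAB_or with hAB | hAC
      · have e1 := key A B hAB
        have h1' : ¬ Disjoint (A ∪ B) C := fun h => h1 h.symm
        have e2 := key (A ∪ B) C h1'
        omega
      · have e1 := key A C hAC
        have h2' : ¬ Disjoint (A ∪ C) B := fun h => h2 h.symm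
        have e2 := key (A ∪ C) B h2'
        have e3 : A ∪ B ∪ C = A ∪ C ∪ B := by
          ext z; simp only [Finset.mem_union]; tauto
        rw [e3]
        omega
    haveI := Fix_solvable (A ∪ B ∪ C) hS
    have hle : Subgroup.closure
        ({Equiv.swap a1 a2, Equiv.swap b1 b2, Equiv.swap c1 c2} : Set (Equiv.Perm (Fin n))) ≤
        Fix (A ∪ B ∪ C) := by
      rw [Subgroup.closure_le]
      rintro σ (rfl | rfl | rfl)
      · exact swap_mem_Fix _ _ _ (by simp [ha1]) (by simp [ha2])
      · exact swap_mem_Fix _ _ _ (by simp [hb1]) (by simp [hb2])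
      · exact swap_mem_Fix _ _ _ (by simp [hc1]) (by simp [hc2])
    exact Group.isSolvable_of_isSolvable_injective (Subgroup.inclusion_injective hle)

end Cfsg.Agent.S4337
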