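import Mathlib
import Cfsg.Statements.S0106
import Cfsg.Agent.Lib.Helper16.QuatSylow
import Cfsg.Agent.Lib.Helper16.SL23Section

set_option autoImplicit false
open Cfsg

namespace Cfsg.Agent.S0106

open Cfsg.Agent.Helper16 in
/-- A finite group with generalized quaternion Sylow 2-subgroups either has a normal 2-complement or has a section isomorphic to SL(2,3). -/
theorem result {G : Type*} [Group G] [Finite G] (T : Sylow 2 G) (n : ℕ) (hn : 1 ≤ n) (hT : Nonempty ((T : Subgroup G) ≃* QuaternionGroup (2 ^ n))) : Cfsg.HasNormalPComplement 2 G ∨ ∃ (H K : Subgroup G) (hK : (K.subgroupOf H).Normal), Nonempty ((H ⧸ K.subgroupOf H) ≃* Matrix.SpecialLinearGroup (Fin 2) (ZMod 3)) := by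
  obtain ⟨e⟩ := hT
  by_cases hc : ∃ N : Subgroup G, N.Normal ∧ N.IsComplement' (T : Subgroup G)
  · left
    obtain ⟨N, hN, hNc⟩ := hc
    exact ⟨T, N, hN, hNc⟩
  · right
    obtain ⟨Q, g, hQT, hg, hodd, hgc, h8, b, y₀, hb, hy₀, hbo, hy2, hyb⟩ :=
      exists_quat_of_no_complement T n e hc
    obtain ⟨x, y, -, -, hxo, hy, hyx, hgx, hgy⟩ :=
      exists_rel_of_odd_normalizer_quat Q h8 hb hy₀ hbo hy2 hyb hg hodd hgc
    exact SL23.exists_section hxo hy hyx hgx hgy hodd

end Cfsg.Agent.S0106
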