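import Mathlib
import Cfsg.Statements.S0680
import Cfsg.Agent.Lib.Helper4.Sharp2

set_option autoImplicit false
open Cfsg

namespace Cfsg.Agent.S0680

open Cfsg.Agent.Helper4

/-- The embedding of `Fin 2` given by two distinct points. -/
def emb2 {α : Type*} (a b : α) (hab : a ≠ b) : Fin 2 ↪ α :=
  ⟨![a, b], by
    intro i j hij
    fin_cases i <;> fin_cases j
    · rfl
    · exact absurd hij hab
    · exact absurd hij.symm hab
    · rfl⟩

/-- A sharply doubly transitive permutation group satisfies the elementary axioms. -/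
theorem sharp2_of {α : Type*} (G : Subgroup (Equiv.Perm α))
    [MulAction.IsMultiplyPretransitive G α 2]
    (hsharp : ∀ x : Fin 2 ↪ α, MulAction.stabilizer G x = ⊥) : Sharp2 G α := by
  constructor
  · intro a b c d hab hcd
    obtain ⟨g, hg⟩ := MulAction.exists_smul_eq G (emb2 a b hab) (emb2 c d hcd)
    refine ⟨g, ?_, ?_⟩
    · have := DFunLike.congr_fun hg 0
      exact this
    · have := DFunLike.congr_fun hg 1
      exact this
  · intro a b g hab ha hb
    have hmem : g ∈ MulAction.stabilizer G (emb2 a b hab) := by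
      rw [MulAction.mem_stabilizer_iff]
      ext i
      fin_cases i
      · exact ha
      · exact hb
    rw [hsharp, Subgroup.mem_bot] at hmem
    exact hmem

/-- A finite sharply doubly transitive permutation group has degree a prime power `p ^ j`; a Sylow `p`-subgroup is normal, elementary abelian and regular, and consists of the identity together with the elements without fixed points. (Frobenius' Theorem is not needed.) -/
theorem result {α : Type*} [Fintype α] [DecidableEq α] (G : Subgroup (Equiv.Perm α)) [MulAction.IsMultiplyPretransitive G α 2] (hsharp : ∀ x : Fin 2 ↪ α, MulAction.stabilizer G x = ⊥) (h2 : 2 ≤ Fintype.card α) : ∃ p j : ℕ, p.Prime ∧ 1 ≤ j ∧ Fintype.card α = p ^ j ∧ ∀ (hp : Fact p.Prime) (P : Sylow p G), (P : Subgroup G).Normal ∧ IsMulCommutative (P : Subgroup G) ∧ (∀ x ∈ (P : Subgroup G), x ^ p = 1) ∧ MulAction.IsPretransitive (P : Subgroup G) α ∧ (∀ a : α, MulAction.stabilizer (P : Subgroup G) a = ⊥) ∧ ∀ g : G, g ∈ (P : Subgroup G) ↔ g = 1 ∨ ∀ a : α, g •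 a ≠ a := by
  have h := sharp2_of G hsharp
  have h2' : ∃ a b : α, a ≠ b := Fintype.one_lt_card_iff.1 h2
  obtain ⟨p, hpp, hdvd, hexp⟩ := h.N_exponent h2'
  have hNp : IsPGroup p (h.N h2') := by
    intro x
    refine ⟨1, ?_⟩
    rw [pow_one]
    apply Subtype.ext
    rw [Subgroup.coe_pow]
    exact hexp x x.2
  have : Fact p.Prime := ⟨hpp⟩
  obtain ⟨j, hj⟩ := IsPGroup.iff_card.mp hNp
  rw [h.card_N' h2'] at hj
  have hj1 : 1 ≤ j := by
    rcases Nat.eq_zero_or_pos j with h0 | h0
    · rw [h0, pow_zero] at hj; omega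
    · exact h0
  refine ⟨p, j, hpp, hj1, hj, ?_⟩
  intro hp P
  have hPN : (P : Subgroup G) = h.N h2' := h.sylow_eq_N h2' hdvd hexp P
  have key : ∀ Q : Subgroup G, Q = h.N h2' → Q.Normal ∧ IsMulCommutative Q ∧
      (∀ x ∈ Q, x ^ p = 1) ∧ MulAction.IsPretransitive Q α ∧
      (∀ a : α, MulAction.stabilizer Q a = ⊥) ∧ ∀ g : G, g ∈ Q ↔ g = 1 ∨ ∀ a : α, g • a ≠ a := by
    rintro Q rfl
    refine ⟨h.N_normal h2', ⟨⟨?_⟩⟩, hexp, ⟨?_⟩, ?_, ?_⟩
    · intro x y
      apply Subtype.ext
      exact h.N_comm h2' x.2 y.2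
    · intro a b
      obtain ⟨x, hx, hxab⟩ := h.N_exists_smul_eq h2' a b
      exact ⟨⟨x, hx⟩, hxab⟩
    · intro a
      rw [eq_bot_iff]
      intro x hx
      rw [Subgroup.mem_bot]
      rw [MulAction.mem_stabilizer_iff] at hx
      apply Subtype.ext
      exact h.N_free h2' x.2 hx
    · intro g
      exact h.mem_N h2' g
  exact key _ hPN

end Cfsg.Agent.S0680
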