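import Mathlib
import Cfsg.Statements.S3880
import Cfsg.Agent.Lib.Helper21.MetacyclicAbelian

set_option autoImplicit false
open Cfsg

namespace Cfsg.Agent.S3880

open Cfsg.Agent.Helper21
open scoped commutatorElement

/-- Let p be an odd prime and G a finite metacyclic p-group (G has a cyclic normal subgroup with cyclic quotient). Then a subgroup L of G is abelian if and only if |L| ≤ |G : G'|, and L is a maximal abelian subgroup of G if and only if |L| = |G : G'|. -/
theorem result {G : Type*} [Group G] [Finite G] {p : ℕ} [Fact p.Prime] (hp : p ≠ 2) (hG : IsPGroup p G) (hmc : Cfsg.IsMetacyclic G) (L : Subgroup G) :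
    (IsMulCommutative ↥L ↔ Nat.card ↥L ≤ (commutator G).index) ∧
      (Maximal (fun K : Subgroup G => IsMulCommutative ↥K) L ↔ Nat.card ↥L = (commutator G).index) := by
  have hpp : p.Prime := Fact.out
  obtain ⟨N, hNn, hNc, hQc⟩ := hmc
  obtain ⟨D⟩ := Cfsg.Agent.Helper21.exists_mcGen N hNc hQc
  have hqpos : 0 < orderOf ⁅D.b, D.a⁆ := orderOf_pos _
  have hidx : (commutator G).index * orderOf ⁅D.b, D.a⁆ = Nat.card G := by
    rw [← D.card_commutator hG, mul_comm]
    exact Subgroup.card_mul_index _
  have key : ∀ K : Subgroup G, IsMulCommutative ↥K ↔ Nat.card ↥K ≤ (commutator G).index := by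
    intro K
    rw [D.isMulCommutative_iff_card_le hp hG K, ← hidx]
    exact Nat.mul_le_mul_right_iff hqpos
  refine ⟨key L, ?_⟩
  constructor
  · intro hmax
    have hle : Nat.card ↥L ≤ (commutator G).index := (key L).mp hmax.prop
    by_contra hne
    have hlt : Nat.card ↥L < (commutator G).index := lt_of_le_of_ne hle hne
    obtain ⟨s, hs⟩ := IsPGroup.iff_card.mp (hG.to_subgroup L)
    obtain ⟨M, hM⟩ := IsPGroup.iff_card.mp hG
    have hdvd : (commutator G).index ∣ p ^ M := by
      rw [← hM]; exact Subgroup.index_dvd_card _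
    obtain ⟨t, -, ht⟩ := (Nat.dvd_prime_pow hpp).mp hdvd
    rw [hs, ht] at hlt
    have hst : s < t := (Nat.pow_lt_pow_iff_right hpp.one_lt).mp hlt
    have hdvd2 : p ^ (s + 1) ∣ Nat.card G := by
      apply Dvd.dvd.trans _ (Subgroup.index_dvd_card (commutator G))
      rw [ht]
      exact pow_dvd_pow p hst
    obtain ⟨K, hKcard, hLK⟩ := Sylow.exists_subgroup_card_pow_succ hdvd2 hs
    have hKab : IsMulCommutative ↥K := by
      rw [key K, hKcard, ht]
      exact Nat.pow_le_pow_right hpp.pos hst
    have hKL : K ≤ L := hmax.le_of_ge hKab hLK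
    have := Subgroup.card_le_of_le hKL
    rw [hKcard, hs] at this
    have := (Nat.pow_le_pow_iff_right hpp.one_lt).mp this
    omega
  · intro hcard
    refine ⟨(key L).mpr hcard.le, ?_⟩
    intro K hK hLK
    have h1 : Nat.card ↥K ≤ Nat.card ↥L := by
      rw [hcard]; exact (key K).mp hK
    exact (Subgroup.eq_of_le_of_card_ge hLK h1).ge

end Cfsg.Agent.S3880
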