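import Mathlib
import Cfsg.Statements.S3886
import Cfsg.Agent.Lib.Helper21.MetacyclicAbelian
import Cfsg.Agent.S3880

set_option autoImplicit false
open Cfsg

namespace Cfsg.Agent.S3886

open Cfsg.Agent.Helper21
open scoped commutatorElement

section
variable {G : Type*} [Group G] [Finite G] {p : ℕ} [hp : Fact p.Prime]

theorem isMetacyclic_of_mcGen (D : MCGen G) : Cfsg.IsMetacyclic G :=
  ⟨Subgroup.zpowers D.a, D.normal, inferInstance, D.isCyclic_quotient⟩

theorem isMetacyclic_subgroup (hG : IsPGroup p G) (hmc : Cfsg.IsMetacyclic G) (R : Subgroup G) :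
    Cfsg.IsMetacyclic ↥R := by
  obtain ⟨N, hNn, hNc, hQc⟩ := hmc
  obtain ⟨D⟩ := exists_mcGen N hNc hQc
  obtain ⟨DR⟩ := D.exists_subgroup_mcGen hG R
  exact isMetacyclic_of_mcGen DR

theorem card_mul_card_center (hodd : p ≠ 2) (hG : IsPGroup p G) (hmc : Cfsg.IsMetacyclic G) :
    Nat.card G * Nat.card (Subgroup.center G) = (commutator G).index ^ 2 := by
  obtain ⟨N, hNn, hNc, hQc⟩ := hmc
  obtain ⟨D⟩ := exists_mcGen N hNc hQc
  have h1 := D.index_center hodd hG
  have h2 := Subgroup.card_mul_index (Subgroup.center G)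
  have h3 := Subgroup.card_mul_index (commutator G)
  have hpos : 0 < Nat.card (commutator G) := Nat.card_pos
  have : Nat.card G * Nat.card (Subgroup.center G) * Nat.card (commutator G) ^ 2 =
      (commutator G).index ^ 2 * Nat.card (commutator G) ^ 2 := by
    calc Nat.card G * Nat.card (Subgroup.center G) * Nat.card (commutator G) ^ 2
        = Nat.card G * (Nat.card (Subgroup.center G) * (Subgroup.center G).index) := by
          rw [h1, mul_assoc]
      _ = Nat.card G * Nat.card G := by rw [h2]
      _ = (Nat.card (commutator G) * (commutator G).index) ^ 2 := by rw [h3, sq]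
      _ = _ := by rw [mul_pow, mul_comm]
  exact Nat.eq_of_mul_eq_mul_right (pow_pos hpos 2) this

omit [Finite G] in
theorem isMulCommutative_map_subtype (R : Subgroup G) (A : Subgroup ↥R) :
    IsMulCommutative ↥(A.map R.subtype) ↔ IsMulCommutative ↥A := by
  constructor
  · intro h
    refine ⟨⟨?_⟩⟩
    rintro ⟨x, hx⟩ ⟨y, hy⟩
    have := h.is_comm.comm (⟨x, Subgroup.mem_map_of_mem _ hx⟩ : A.map R.subtype)
      ⟨y, Subgroup.mem_map_of_mem _ hy⟩
    apply Subtype.ext
    apply Subtype.ext
    have h2 := congrArg Subtype.val this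
    exact h2
  · intro h
    refine ⟨⟨?_⟩⟩
    rintro ⟨_, x, hx, rfl⟩ ⟨_, y, hy, rfl⟩
    apply Subtype.ext
    have := h.is_comm.comm (⟨x, hx⟩ : A) ⟨y, hy⟩
    exact congrArg (fun z : A => ((z : R) : G)) this

omit [Finite G] in
theorem commutator_eq_bot_iff : commutator G = ⊥ ↔ IsMulCommutative G := by
  constructor
  · intro h1
    refine ⟨⟨fun a b => ?_⟩⟩
    have h2 : ⁅a, b⁆ ∈ commutator G := by
      rw [commutator_def]
      exact Subgroup.commutator_mem_commutator (Subgroup.mem_top _) (Subgroup.mem_top _)
    rw [h1, Subgroup.mem_bot, commutatorElement_eq_one_iff_mul_comm] at h2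
    exact h2
  · intro h
    rw [eq_bot_iff, commutator_def, Subgroup.commutator_le]
    intro a _ b _
    rw [Subgroup.mem_bot, commutatorElement_eq_one_iff_mul_comm]
    exact h.is_comm.comm a b

omit [Finite G] in
theorem index_commutator_of_comm (h : IsMulCommutative G) :
    (commutator G).index = Nat.card G := by
  rw [commutator_eq_bot_iff.mpr h, Subgroup.index_bot]

theorem index_commutator_subgroup (hodd : p ≠ 2) (hG : IsPGroup p G)
    (hmc : Cfsg.IsMetacyclic G) (R : Subgroup G) :
    (commutator ↥R).index ≤ (commutator G).index ∧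
      ((commutator ↥R).index = (commutator G).index ↔
        (¬ IsMulCommutative ↥R ∨ Nat.card R = (commutator G).index)) := by
  have hpp := hp.out
  have hR : IsPGroup p ↥R := hG.to_subgroup R
  have hmcR := isMetacyclic_subgroup hG hmc R
  have keyG := fun K => (Cfsg.Agent.S3880.result hodd hG hmc K).1
  have keyR := fun K => (Cfsg.Agent.S3880.result hodd hR hmcR K).1
  obtain ⟨r, hr⟩ := IsPGroup.iff_card.mp hR
  have hdvdR : (commutator ↥R).index ∣ p ^ r := by
    rw [← hr]; exact Subgroup.index_dvd_card _
  obtain ⟨k, -, hk⟩ := (Nat.dvd_prime_pow hpp).mp hdvdR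
  obtain ⟨M, hM⟩ := IsPGroup.iff_card.mp hG
  have hdvdG : (commutator G).index ∣ p ^ M := by
    rw [← hM]; exact Subgroup.index_dvd_card _
  obtain ⟨m, -, hm⟩ := (Nat.dvd_prime_pow hpp).mp hdvdG
  have hle : (commutator ↥R).index ≤ (commutator G).index := by
    have hd : p ^ k ∣ Nat.card ↥R := by
      rw [← hk]; exact Subgroup.index_dvd_card _
    obtain ⟨A, hA⟩ := Sylow.exists_subgroup_card_pow_prime p hd
    have hAab : IsMulCommutative ↥A := (keyR A).mpr (by rw [hA, hk])
    have h2 : IsMulCommutative ↥(A.map R.subtype) :=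
      (isMulCommutative_map_subtype R A).mpr hAab
    have h3 := (keyG _).mp h2
    rw [Subgroup.card_subtype, hA, ← hk] at h3
    exact h3
  refine ⟨hle, ?_⟩
  constructor
  · intro heq
    by_cases hab : IsMulCommutative ↥R
    · right
      rw [← heq, index_commutator_of_comm hab]
    · left; exact hab
  · rintro (hnab | hcard)
    · by_contra hne
      have hlt : (commutator ↥R).index < (commutator G).index := lt_of_le_of_ne hle hne
      rw [hk, hm] at hlt
      have hkm : k < m := (Nat.pow_lt_pow_iff_right hpp.one_lt).mp hlt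
      have hR'ne : Nat.card (commutator ↥R) ≠ 1 := by
        intro h1
        apply hnab
        rw [Subgroup.card_eq_one] at h1
        exact commutator_eq_bot_iff.mp h1
      obtain ⟨s, hs⟩ := IsPGroup.iff_card.mp (hR.to_subgroup (commutator ↥R))
      have hs1 : 1 ≤ s := by
        by_contra h
        have h0 : s = 0 := by omega
        subst h0
        exact hR'ne (by rw [hs, pow_zero])
      have hd : p ^ (k + 1) ∣ Nat.card ↥R := by
        rw [← Subgroup.card_mul_index (commutator ↥R), hs, hk]
        calc p ^ (k + 1) = p ^ k * p := pow_succ _ _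
          _ ∣ p ^ k * p ^ s := Nat.mul_dvd_mul_left _ (dvd_pow_self p (by omega))
          _ = p ^ s * p ^ k := mul_comm _ _
      obtain ⟨B, hB⟩ := Sylow.exists_subgroup_card_pow_prime p hd
      have h2 : IsMulCommutative ↥(B.map R.subtype) := (keyG _).mpr (by
        rw [Subgroup.card_subtype, hB, hm]
        exact Nat.pow_le_pow_right hpp.pos hkm)
      have h3 := (keyR B).mp ((isMulCommutative_map_subtype R B).mp h2)
      rw [hB, hk] at h3
      have := (Nat.pow_le_pow_iff_right hpp.one_lt).mp h3
      omega
    · have hab : IsMulCommutative ↥R := (keyG R).mpr hcard.le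
      rw [index_commutator_of_comm hab, hcard]

end

/-- Let p be an odd prime and G a finite metacyclic p-group (G has a cyclic normal subgroup with cyclic quotient). Then the largest value of |R| · |Z(R)| over subgroups R of G is |G : G'|², and the subgroups attaining it (the centrally large subgroups) are exactly the non-abelian subgroups together with the maximal abelian subgroups of G. -/
theorem result {G : Type*} [Group G] [Finite G] {p : ℕ} [Fact p.Prime] (hp : p ≠ 2) (hG : IsPGroup p G) (hmc : Cfsg.IsMetacyclic G) : Cfsg.maxCentralProduct G = (commutator G).index ^ 2 ∧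
    ∀ R : Subgroup G, Cfsg.IsCentrallyLarge R ↔ (¬ IsMulCommutative ↥R ∨ Maximal (fun K : Subgroup G => IsMulCommutative ↥K) R) := by
  have hpp : p.Prime := Fact.out
  have hX := fun R => index_commutator_subgroup hp hG hmc R
  have hprod : ∀ R : Subgroup G,
      Nat.card R * Nat.card (Subgroup.center ↥R) = (commutator ↥R).index ^ 2 :=
    fun R => card_mul_card_center hp (hG.to_subgroup R) (isMetacyclic_subgroup hG hmc R)
  have hmax : Cfsg.maxCentralProduct G = (commutator G).index ^ 2 := by
    unfold Cfsg.maxCentralProduct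
    apply IsGreatest.csSup_eq
    constructor
    · obtain ⟨M, hM⟩ := IsPGroup.iff_card.mp hG
      have hdvdG : (commutator G).index ∣ p ^ M := by
        rw [← hM]; exact Subgroup.index_dvd_card _
      obtain ⟨m, -, hm⟩ := (Nat.dvd_prime_pow hpp).mp hdvdG
      have hd : p ^ m ∣ Nat.card G := by
        rw [← hm]; exact Subgroup.index_dvd_card _
      obtain ⟨R, hRc⟩ := Sylow.exists_subgroup_card_pow_prime p hd
      refine ⟨R, ?_⟩
      rw [hprod R, (hX R).2.mpr (Or.inr (by rw [hRc, hm]))]
    · rintro k ⟨R, rfl⟩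
      rw [hprod R]
      exact Nat.pow_le_pow_left (hX R).1 2
  refine ⟨hmax, ?_⟩
  intro R
  unfold Cfsg.IsCentrallyLarge
  rw [hmax, hprod R, (Cfsg.Agent.S3880.result hp hG hmc R).2,
    Nat.pow_left_inj (by norm_num : (2 : ℕ) ≠ 0)]
  exact (hX R).2

end Cfsg.Agent.S3886
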