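import Mathlib
import Cfsg.Statements.S2564
import Cfsg.Agent.Lib.Helper13.F2Quad

set_option autoImplicit false
open Cfsg

namespace Cfsg.Agent.S2564

open QuadraticMap Cfsg.Agent.Helper13

/-- the plus-type form over `ZMod 2` as a Mathlib quadratic form -/
noncomputable def Qp (m : ℕ) : QuadraticForm (ZMod 2) (Fin m ⊕ Fin m → ZMod 2) :=
  matQ (plusMat m (ZMod 2))

theorem Qp_eq (m : ℕ) : Cfsg.quadFormPlus m (ZMod 2) = ⇑(Qp m) := by
  funext v
  rw [Qp, matQ_plusMat]
  rfl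

theorem Qp_nondeg (m : ℕ) : (polarBilin (Qp m)).Nondegenerate := by
  apply matQ_nondeg
  rw [plusMat_add_transpose, hypBlock_det]
  exact pow_ne_zero _ (by decide)

theorem result (m : ℕ) (hm : 1 ≤ m) (q : (Fin m ⊕ Fin m → ZMod 2) → ZMod 2) (hq : (∀ u v : (Fin m ⊕ Fin m → ZMod 2), q (u + v) = q u + q v + (Cfsg.quadFormPlus m (ZMod 2) (u + v) - Cfsg.quadFormPlus m (ZMod 2) u - Cfsg.quadFormPlus m (ZMod 2) v))) (w : (Fin m ⊕ Fin m → ZMod 2)) :
    (∀ u v : (Fin m ⊕ Fin m → ZMod 2), (q (u + v) + (Cfsg.quadFormPlus m (ZMod 2) (u + v + w) - Cfsg.quadFormPlus m (ZMod 2) (u + v) - Cfsg.quadFormPlus m (ZMod 2) w)) =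
        (q u + (Cfsg.quadFormPlus m (ZMod 2) (u + w) - Cfsg.quadFormPlus m (ZMod 2) u - Cfsg.quadFormPlus m (ZMod 2) w)) + (q v + (Cfsg.quadFormPlus m (ZMod 2) (v + w) - Cfsg.quadFormPlus m (ZMod 2) v - Cfsg.quadFormPlus m (ZMod 2) w)) +
        (Cfsg.quadFormPlus m (ZMod 2) (u + v) - Cfsg.quadFormPlus m (ZMod 2) u - Cfsg.quadFormPlus m (ZMod 2) v)) ∧
    ((∃ g : (Fin m ⊕ Fin m → ZMod 2) ≃ₗ[ZMod 2] (Fin m ⊕ Fin m → ZMod 2), ∀ v, q v + (Cfsg.quadFormPlus m (ZMod 2) (v + w) - Cfsg.quadFormPlus m (ZMod 2) v - Cfsg.quadFormPlus m (ZMod 2) w) = q (g v)) ↔ q w = 0) := by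
  rw [Qp_eq] at hq ⊢
  have hq' : ∀ u v, q (u + v) = q u + q v + polar (Qp m) u v := hq
  have hnd := Qp_nondeg m
  have hq0 : q 0 = 0 := by
    have := hq' 0 0
    simp only [add_zero, polar_zero_left] at this
    have h2 := zmod2_add_self (q 0)
    rw [← this] at h2
    exact h2
  show (∀ u v, q (u + v) + polar (Qp m) (u + v) w = (q u + polar (Qp m) u w) + (q v + polar (Qp m) v w)
      + polar (Qp m) u v) ∧
    ((∃ g : (Fin m ⊕ Fin m → ZMod 2) ≃ₗ[ZMod 2] (Fin m ⊕ Fin m → ZMod 2),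
      ∀ v, q v + polar (Qp m) v w = q (g v)) ↔ q w = 0)
  constructor
  · intro u v
    rw [hq' u v, polar_add_left]; ring
  constructor
  · rintro ⟨g, hg⟩
    by_contra hw
    have hw1 : q w = 1 := zmod2_eq_one_of_ne_zero hw
    -- character sums
    have h1 : charSum (fun v => q v + polar (Qp m) v w) = charSum q := by
      unfold charSum
      simp_rw [hg]
      exact Fintype.sum_equiv g.toEquiv _ _ (fun v => rfl)
    have h2 : charSum (fun v => q v + polar (Qp m) v w) = - charSum q := by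
      unfold charSum
      rw [← Fintype.sum_equiv (Equiv.addRight w) (fun v => chi2 (q (v + w))) (fun v => chi2 (q v))
        (fun v => rfl), ← Finset.sum_neg_distrib]
      refine Finset.sum_congr rfl fun v _ => ?_
      rw [hq' v w, hw1, chi2_add, chi2_add, chi2_add, chi2_one]; ring
    have h3 := charSum_ne_zero (Qp m) hnd q hq'
    apply h3
    linarith
  · intro hw
    have hfw : ((polarBilin (Qp m)).flip w) w = 0 := by
      show polar (Qp m) w w = 0
      rw [polar_self]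
      exact zmod2_add_self _ |> fun h => by rw [two_nsmul]; exact h
    refine ⟨LinearEquiv.transvection hfw, ?_⟩
    intro v
    rw [LinearEquiv.transvection.apply]
    show q v + polar (Qp m) v w = q (v + polar (Qp m) v w • w)
    have hcases : ∀ a : ZMod 2, a = 0 ∨ a = 1 := by decide
    rcases hcases (polar (Qp m) v w) with h | h
    · rw [h]; simp
    · rw [h, one_smul, hq' v w, hw, h, add_zero]

end Cfsg.Agent.S2564
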