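import Mathlib
import Cfsg.Statements.S2562
import Cfsg.Agent.Lib.Helper13.F2Quad
import Cfsg.Agent.S2564

set_option autoImplicit false
open Cfsg

namespace Cfsg.Agent.S2562

open QuadraticMap Cfsg.Agent.Helper13 Cfsg.Agent.S2564 Module

/-- the minus-type form over `ZMod 2` as a Mathlib quadratic form -/
noncomputable def Qm (k : ℕ) : QuadraticForm (ZMod 2) ((Fin k ⊕ Fin k) ⊕ Fin 2 → ZMod 2) :=
  matQ (minusMat k (1 : ZMod 2) 1)

theorem Qm_eq (k : ℕ) : Cfsg.quadFormMinus k (ZMod 2) 1 1 = ⇑(Qm k) := by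
  funext v
  rw [Qm, matQ_minusMat]
  rfl

theorem Qm_nondeg (k : ℕ) : (polarBilin (Qm k)).Nondegenerate := by
  apply matQ_nondeg
  rw [minusMat_det]
  refine mul_ne_zero (pow_ne_zero _ (by decide)) (by decide)

/-- vectors with vanishing `y`-coordinates -/
def Uplus (m : ℕ) : Submodule (ZMod 2) (Fin m ⊕ Fin m → ZMod 2) :=
  LinearMap.ker (LinearMap.funLeft (ZMod 2) (ZMod 2) (Sum.inr : Fin m → Fin m ⊕ Fin m))

theorem Uplus_singular (m : ℕ) : ∀ u ∈ Uplus m, Qp m u = 0 := by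
  intro u hu
  have h : ∀ i, u (Sum.inr i) = 0 := fun i => congrFun hu i
  rw [← Qp_eq]
  unfold Cfsg.quadFormPlus
  simp [h]

theorem Uplus_finrank (m : ℕ) : finrank (ZMod 2) (Uplus m) = m := by
  have h1 := LinearMap.finrank_range_add_finrank_ker
    (LinearMap.funLeft (ZMod 2) (ZMod 2) (Sum.inr : Fin m → Fin m ⊕ Fin m))
  have hsurj : LinearMap.range (LinearMap.funLeft (ZMod 2) (ZMod 2) (Sum.inr : Fin m → Fin m ⊕ Fin m)) = ⊤ :=
    LinearMap.range_eq_top.mpr (LinearMap.funLeft_surjective_of_injective _ _ _ Sum.inr_injective)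
  rw [hsurj, finrank_top, Module.finrank_fintype_fun_eq_card, Module.finrank_fintype_fun_eq_card] at h1
  simp only [Fintype.card_fin, Fintype.card_sum] at h1
  unfold Uplus
  omega

/-- the embedding of the `y` and `z` coordinates -/
def jmap (k : ℕ) : Fin k ⊕ Fin 2 → (Fin k ⊕ Fin k) ⊕ Fin 2 :=
  Sum.elim (fun i => Sum.inl (Sum.inr i)) Sum.inr

theorem jmap_injective (k : ℕ) : Function.Injective (jmap k) := by
  rintro (a | a) (b | b) h <;> simp [jmap] at h <;> simp [h]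

def Uminus (k : ℕ) : Submodule (ZMod 2) ((Fin k ⊕ Fin k) ⊕ Fin 2 → ZMod 2) :=
  LinearMap.ker (LinearMap.funLeft (ZMod 2) (ZMod 2) (jmap k))

theorem Uminus_singular (k : ℕ) : ∀ u ∈ Uminus k, Qm k u = 0 := by
  intro u hu
  have h1 : ∀ i, u (Sum.inl (Sum.inr i)) = 0 := fun i => congrFun hu (Sum.inl i)
  have h2 : ∀ j, u (Sum.inr j) = 0 := fun j => congrFun hu (Sum.inr j)
  rw [← Qm_eq]
  unfold Cfsg.quadFormMinus
  simp [h1, h2]

theorem Uminus_finrank (k : ℕ) : finrank (ZMod 2) (Uminus k) = k := by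
  have h1 := LinearMap.finrank_range_add_finrank_ker
    (LinearMap.funLeft (ZMod 2) (ZMod 2) (jmap k))
  have hsurj : LinearMap.range (LinearMap.funLeft (ZMod 2) (ZMod 2) (jmap k)) = ⊤ :=
    LinearMap.range_eq_top.mpr (LinearMap.funLeft_surjective_of_injective _ _ _ (jmap_injective k))
  rw [hsurj, finrank_top, Module.finrank_fintype_fun_eq_card, Module.finrank_fintype_fun_eq_card] at h1
  simp only [Fintype.card_fin, Fintype.card_sum] at h1
  unfold Uminus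
  omega

theorem charSum_Qp (k : ℕ) : charSum (⇑(Qp k)) = 2 ^ k := by
  rw [charSum_eq_card_of_lagrangian (Qp k) (Qp_nondeg k) (Uplus k) (Uplus_singular k)]
  · rw [Module.natCard_eq_pow_finrank (K := ZMod 2), Uplus_finrank]
    simp
  · rw [Uplus_finrank, Module.finrank_fintype_fun_eq_card]
    simp; ring

theorem charSum_aniso : charSum (fun b : Fin 2 → ZMod 2 => b 0 ^ 2 + 1 * b 0 * b 1 + 1 * b 1 ^ 2) = -2 := by
  decide

theorem charSum_Qm (k : ℕ) : charSum (⇑(Qm k)) = -(2 ^ (k + 1)) := by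
  have h : (⇑(Qm k)) = fun v : (Fin k ⊕ Fin k) ⊕ Fin 2 → ZMod 2 =>
      (⇑(Qp k)) (v ∘ Sum.inl) + (fun b : Fin 2 → ZMod 2 => b 0 ^ 2 + 1 * b 0 * b 1 + 1 * b 1 ^ 2) (v ∘ Sum.inr) := by
    funext v
    rw [← Qm_eq, ← Qp_eq]
    rfl
  have h2 := charSum_sum_elim (α := Fin k ⊕ Fin k) (β := Fin 2) (⇑(Qp k))
    (fun b : Fin 2 → ZMod 2 => b 0 ^ 2 + 1 * b 0 * b 1 + 1 * b 1 ^ 2)
  rw [h]
  refine h2.trans ?_
  rw [charSum_Qp, charSum_aniso]
  ring

theorem result (m : ℕ) (hm : 1 ≤ m) :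
    (∃ U : Submodule (ZMod 2) (Fin m ⊕ Fin m → ZMod 2), (∀ u ∈ U, Cfsg.quadFormPlus m (ZMod 2) u = 0) ∧ Module.finrank (ZMod 2) ↥U = m) ∧
    (∀ U : Submodule (ZMod 2) (Fin m ⊕ Fin m → ZMod 2), (∀ u ∈ U, Cfsg.quadFormPlus m (ZMod 2) u = 0) → Module.finrank (ZMod 2) ↥U ≤ m) ∧
    (∃ U : Submodule (ZMod 2) ((Fin (m - 1) ⊕ Fin (m - 1)) ⊕ Fin 2 → ZMod 2), (∀ u ∈ U, Cfsg.quadFormMinus (m - 1) (ZMod 2) 1 1 u = 0) ∧ Module.finrank (ZMod 2) ↥U = m - 1) ∧
    (∀ U : Submodule (ZMod 2) ((Fin (m - 1) ⊕ Fin (m - 1)) ⊕ Fin 2 → ZMod 2), (∀ u ∈ U, Cfsg.quadFormMinus (m - 1) (ZMod 2) 1 1 u = 0) → Module.finrank (ZMod 2) ↥U ≤ m - 1) := by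
  rw [Qp_eq, Qm_eq]
  refine ⟨⟨Uplus m, Uplus_singular m, Uplus_finrank m⟩, ?_, ⟨Uminus (m - 1), Uminus_singular _, Uminus_finrank _⟩, ?_⟩
  · intro U hU
    have := finrank_le_of_totally_singular (Qp m) (Qp_nondeg m) U hU
    rw [Module.finrank_fintype_fun_eq_card] at this
    simp only [Fintype.card_fin, Fintype.card_sum] at this
    omega
  · intro U hU
    have h1 := finrank_le_of_totally_singular (Qm (m - 1)) (Qm_nondeg _) U hU
    have hV : finrank (ZMod 2) ((Fin (m - 1) ⊕ Fin (m - 1)) ⊕ Fin 2 → ZMod 2) = 2 * m := by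
      rw [Module.finrank_fintype_fun_eq_card]
      simp only [Fintype.card_fin, Fintype.card_sum]
      omega
    rw [hV] at h1
    by_contra hcon
    have hUm : finrank (ZMod 2) U = m := by omega
    have h2 := charSum_eq_card_of_lagrangian (Qm (m - 1)) (Qm_nondeg _) U hU (by rw [hV, hUm])
    rw [charSum_Qm] at h2
    have h3 : (0 : ℤ) ≤ (Nat.card U : ℤ) := Int.natCast_nonneg _
    have h4 : (0 : ℤ) < 2 ^ (m - 1 + 1) := by positivity
    linarith

end Cfsg.Agent.S2562
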