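import Mathlib
import Cfsg.Statements.S2616
import Cfsg.Agent.Lib.Helper13.Hyperbolic

set_option autoImplicit false
open Cfsg

namespace Cfsg.Agent.S2616

open Module QuadraticMap Cfsg.Agent.Helper13 Matrix

theorem four_zeta_ne {F : Type*} [Field F] (ζ : F) (h : ∀ t : F, t ^ 2 + t + ζ ≠ 0) :
    4 * ζ - 1 ≠ 0 := by
  intro h0
  by_cases h2 : (2 : F) = 0
  · have : (4 : F) = 0 := by
      have : (4 : F) = 2 * 2 := by norm_num
      rw [this, h2, mul_zero]
    rw [this, zero_mul, zero_sub] at h0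
    exact one_ne_zero (neg_eq_zero.mp h0)
  · apply h (-(1 / 2))
    field_simp
    linear_combination h0

theorem result {F V : Type*} [Field F] [Finite F] [AddCommGroup V] [Module F V] [FiniteDimensional F V] {m : ℕ} (hm : 1 ≤ m) (hV : Module.finrank F V = 2 * m) (Q : QuadraticForm F V) (hQ : (QuadraticMap.polarBilin Q).Nondegenerate) : (∃ b : Module.Basis (Fin m ⊕ Fin m) F V, (∀ i, Q (b (Sum.inl i)) = 0 ∧ Q (b (Sum.inr i)) = 0) ∧ (∀ i j, QuadraticMap.polar ⇑Q (b (Sum.inl i)) (b (Sum.inr j)) = if i = j then 1 else 0) ∧ (∀ i j, QuadraticMap.polar ⇑Q (b (Sum.inl i)) (b (Sum.inl j)) = 0 ∧ QuadraticMap.polar ⇑Q (b (Sum.inr i)) (b (Sum.inr j)) = 0)) ∨ (∃ (b : Module.Basis ((Fin (m - 1) ⊕ Fin (m - 1)) ⊕ Fin 2) F V) (ζ : F), (∀ t : F, t ^ 2 + t + ζ ≠ 0) ∧ (∀ i, Q (b (Sum.inl (Sum.inl i))) = 0 ∧ Q (b (Sum.inl (Sum.inr i))) = 0) ∧ (∀ i j, QuadraticMap.polar ⇑Q (b (Sum.inl (Sum.inl i))) (b (Sum.inl (Sum.inr j))) = if i = j then 1 else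 0) ∧ (∀ i j, QuadraticMap.polar ⇑Q (b (Sum.inl (Sum.inl i))) (b (Sum.inl (Sum.inl j))) = 0 ∧ QuadraticMap.polar ⇑Q (b (Sum.inl (Sum.inr i))) (b (Sum.inl (Sum.inr j))) = 0) ∧ (∀ i (k : Fin 2), QuadraticMap.polar ⇑Q (b (Sum.inl (Sum.inl i))) (b (Sum.inr k)) = 0 ∧ QuadraticMap.polar ⇑Q (b (Sum.inl (Sum.inr i))) (b (Sum.inr k)) = 0) ∧ Q (b (Sum.inr 0)) = 1 ∧ QuadraticMap.polar ⇑Q (b (Sum.inr 0)) (b (Sum.inr 1)) = 1 ∧ Q (b (Sum.inr 1)) = ζ) := by
  classical
  cases nonempty_fintype F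
  obtain ⟨k, rfl⟩ : ∃ k, m = k + 1 := ⟨m - 1, by omega⟩
  obtain ⟨e, f, x, y, hH, horth, hxy, h | h⟩ := hyp_decomp k V Q hQ (by omega)
  · left
    obtain ⟨h1, h2, h3⟩ := hH.cons h.1 h.2 hxy horth
    have hG : (Matrix.of fun i j => polar Q
        ((Sum.elim (Fin.cons x e) (Fin.cons y f) : Fin (k + 1) ⊕ Fin (k + 1) → V) i)
        ((Sum.elim (Fin.cons x e) (Fin.cons y f) : Fin (k + 1) ⊕ Fin (k + 1) → V) j))
        = hypBlock (k + 1) F := by
      ext (i | i) (j | j)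
      · simp [hypBlock, (h3 i j).1]
      · simp [hypBlock, h2 i j, Matrix.one_apply]
      · simp only [Matrix.of_apply, Sum.elim_inr, Sum.elim_inl, hypBlock, fromBlocks_apply₂₁]
        rw [polar_comm, h2 j i, Matrix.one_apply]
        simp only [eq_comm]
      · simp [hypBlock, (h3 i j).2]
    obtain ⟨b, hb⟩ := exists_basis_of_gram Q
      (Sum.elim (Fin.cons x e) (Fin.cons y f) : Fin (k + 1) ⊕ Fin (k + 1) → V)
      (by rw [hG, hypBlock_det]; exact pow_ne_zero _ (neg_ne_zero.mpr one_ne_zero))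
      (by simp [hV]; omega)
    refine ⟨b, ?_, ?_, ?_⟩
    · intro i; simp only [hb, Sum.elim_inl, Sum.elim_inr]; exact h1 i
    · intro i j; simp only [hb, Sum.elim_inl, Sum.elim_inr]; exact h2 i j
    · intro i j; simp only [hb, Sum.elim_inl, Sum.elim_inr]; exact h3 i j
  · right
    obtain ⟨hx1, hζ⟩ := h
    obtain ⟨h1, h2, h3⟩ := hH
    have hxx : polar Q x x = 2 := by rw [polar_self, hx1]; simp
    have hyy : polar Q y y = 2 * Q y := by rw [polar_self]; simp
    have hyx : polar Q y x = 1 := by rw [polar_comm]; exact hxy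
    have hG : (Matrix.of fun i j => polar Q
        ((Sum.elim (Sum.elim e f) ![x, y] : (Fin k ⊕ Fin k) ⊕ Fin 2 → V) i)
        ((Sum.elim (Sum.elim e f) ![x, y] : (Fin k ⊕ Fin k) ⊕ Fin 2 → V) j))
        = fromBlocks (hypBlock k F) 0 0 !![2, 1; 1, 2 * Q y] := by
      ext ((i | i) | i) ((j | j) | j)
      · simp [hypBlock, (h3 i j).1]
      · simp [hypBlock, h2 i j, Matrix.one_apply]
      · fin_cases j
        · simp [(horth i).1]
        · simp [(horth i).2.2.1]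
      · simp only [Matrix.of_apply, Sum.elim_inr, Sum.elim_inl, hypBlock, fromBlocks_apply₁₁,
          fromBlocks_apply₂₁]
        rw [polar_comm, h2 j i, Matrix.one_apply]
        simp only [eq_comm]
      · simp [hypBlock, (h3 i j).2]
      · fin_cases j
        · simp [(horth i).2.1]
        · simp [(horth i).2.2.2]
      · fin_cases i
        · simp [polar_comm Q x, (horth j).1]
        · simp [polar_comm Q y, (horth j).2.2.1]
      · fin_cases i
        · simp [polar_comm Q x, (horth j).2.1]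
        · simp [polar_comm Q y, (horth j).2.2.2]
      · fin_cases i <;> fin_cases j <;> simp [hxx, hyy, hxy, hyx]
    obtain ⟨b, hb⟩ := exists_basis_of_gram Q
      (Sum.elim (Sum.elim e f) ![x, y] : (Fin k ⊕ Fin k) ⊕ Fin 2 → V)
      (by
        rw [hG, ← minusMat_add_transpose, minusMat_det, one_pow]
        exact mul_ne_zero (pow_ne_zero _ (neg_ne_zero.mpr one_ne_zero)) (four_zeta_ne _ hζ))
      (by simp [hV]; omega)
    refine ⟨b, Q y, hζ, ?_, ?_, ?_, ?_, ?_, ?_, ?_⟩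
    · intro i; simp only [hb, Sum.elim_inl, Sum.elim_inr]; exact h1 i
    · intro i j; simp only [hb, Sum.elim_inl, Sum.elim_inr]; exact h2 i j
    · intro i j; simp only [hb, Sum.elim_inl, Sum.elim_inr]; exact h3 i j
    · intro i j
      simp only [hb, Sum.elim_inl, Sum.elim_inr]
      fin_cases j
      · exact ⟨(horth i).1, (horth i).2.1⟩
      · exact ⟨(horth i).2.2.1, (horth i).2.2.2⟩
    · simp only [hb, Sum.elim_inr]; exact hx1
    · simp only [hb, Sum.elim_inr]; exact hxy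
    · simp only [hb, Sum.elim_inr]; rfl

end Cfsg.Agent.S2616
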