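import Mathlib
import Cfsg.Statements.S2563
import Cfsg.Agent.Lib.Helper13.PermModHom

set_option autoImplicit false
open Cfsg

namespace Cfsg.Agent.S2563

open Cfsg.Agent.Helper13.PermMod

/-- the points `Fin (4k+4)` as `Fin (4k+2) ⊕ Fin 2` -/
def ptEquiv (k : ℕ) : Fin (4 * k + 4) ≃ Pt (Fin (4 * k + 2)) :=
  (finCongr (show 4 * k + 4 = 4 * k + 2 + 2 by omega)).trans finSumFinEquiv.symm

theorem card_pt (k : ℕ) : Fintype.card (Pt (Fin (4 * k + 2))) = 4 * (k + 1) := by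
  rw [card_Pt, Fintype.card_fin]
  ring

/-- For k ≥ 1, Sym(4k+4) embeds in O^ε_{4k+2}(2) with ε = + for k odd and ε = − for k even (k = 1: Sym8 ≅ O6+(2)). -/
theorem result (k : ℕ) (hk : 1 ≤ k) :
    (Odd k → ∃ φ : Equiv.Perm (Fin (4 * k + 4)) →* ↥(Cfsg.isometryGroup (ZMod 2) (Cfsg.quadFormPlus (2 * k + 1) (ZMod 2))), Function.Injective φ) ∧
    (Even k → ∃ φ : Equiv.Perm (Fin (4 * k + 4)) →* ↥(Cfsg.isometryGroup (ZMod 2) (Cfsg.quadFormMinus (2 * k) (ZMod 2) 1 1)), Function.Injective φ) := by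
  have hm : Fintype.card (Fin (4 * k + 2)) = 2 * (2 * k + 1) := by
    rw [Fintype.card_fin]; ring
  have h5 : 5 ≤ Fintype.card (Pt (Fin (4 * k + 2))) := by
    rw [card_pt]; omega
  constructor
  · intro hodd
    obtain ⟨φ, hφ⟩ := exists_hom_plus (ι := Fin (4 * k + 2)) (k + 1) (2 * k + 1) (card_pt k)
      (by rw [Nat.even_add_one, Nat.not_even_iff_odd]; exact hodd) hm (by omega) h5
    exact ⟨φ.comp (Equiv.permCongrHom (ptEquiv k)).toMonoidHom,
      hφ.comp (Equiv.permCongrHom (ptEquiv k)).injective⟩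
  · intro heven
    have key := exists_hom_minus (ι := Fin (4 * k + 2)) (k + 1) (2 * k + 1) (card_pt k)
      (by rw [Nat.odd_add_one, Nat.not_odd_iff_even]; exact heven) hm (by omega) h5
    rw [show 2 * k + 1 - 1 = 2 * k by omega] at key
    obtain ⟨φ, hφ⟩ := key
    exact ⟨φ.comp (Equiv.permCongrHom (ptEquiv k)).toMonoidHom,
      hφ.comp (Equiv.permCongrHom (ptEquiv k)).injective⟩

end Cfsg.Agent.S2563
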