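import Mathlib
import Cfsg.Statements.S2565
import Cfsg.Agent.S2563
import Cfsg.Agent.Lib.Helper13.O6Plus

set_option autoImplicit false
open Cfsg

namespace Cfsg.Agent.S2565

open Cfsg.Agent.Helper13.O6Plus Equiv

/-- `O⁺₆(2) ≅ S₈` -/
theorem O6_iso : Nonempty (Perm (Fin 8) ≃* O6) := by
  have h := (Cfsg.Agent.S2563.result 1 le_rfl).1 (by decide)
  have h' : ∃ φ : Perm (Fin 8) →* O6, Function.Injective φ := h
  obtain ⟨φ, hφ⟩ := h'
  have hc : Nat.card O6 ≤ Nat.card (Perm (Fin 8)) := by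
    rw [Nat.card_perm, Nat.card_fin]
    exact card_O6_le
  exact ⟨MulEquiv.ofBijective φ (hφ.bijective_of_nat_card_le hc)⟩

/-- Ω+_6(2) (the index-2 commutator subgroup of O+_6(2)) is isomorphic to the alternating group A8. -/
theorem result :
    (Cfsg.Omega (ZMod 2) (Cfsg.quadFormPlus 3 (ZMod 2))).index = 2 ∧
    Nonempty (↥(Cfsg.Omega (ZMod 2) (Cfsg.quadFormPlus 3 (ZMod 2))) ≃* alternatingGroup (Fin 8)) := by
  obtain ⟨e⟩ := O6_iso
  have h1 : (alternatingGroup (Fin 8)).map (e : Perm (Fin 8) →* O6) =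
      Cfsg.Omega (ZMod 2) (Cfsg.quadFormPlus 3 (ZMod 2)) := by
    rw [← alternatingGroup.commutator_perm_eq (by simp)]
    change Subgroup.map (e : Perm (Fin 8) →* O6) (commutator (Perm (Fin 8))) = commutator O6
    rw [commutator_def, commutator_def, Subgroup.map_commutator,
      Subgroup.map_top_of_surjective _ e.surjective]
  constructor
  · rw [← h1, Subgroup.index_map_equiv, alternatingGroup.index_eq_two]
  · rw [← h1]
    exact ⟨(MulEquiv.subgroupMap e (alternatingGroup (Fin 8))).symm⟩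

end Cfsg.Agent.S2565
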