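import Mathlib
import Cfsg.Statements.S0825
import Cfsg.Agent.S2565
import Cfsg.Agent.Lib.Helper13.IsomFieldMap

set_option autoImplicit false
open Cfsg

namespace Cfsg.Agent.S0825

open Cfsg.Agent.Helper13

/-- O⁺_6(2) is isomorphic to the symmetric group S_8. -/
theorem result {F : Type*} [Field F] [Fintype F] (hF : Fintype.card F = 2) : Nonempty (↥(Cfsg.isometryGroup F (Cfsg.quadFormPlus 3 F)) ≃* Equiv.Perm (Fin 8)) := by
  have e2 : ZMod 2 ≃+* F := ZMod.ringEquivOfPrime F Nat.prime_two hF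
  obtain ⟨e⟩ := Cfsg.Agent.S2565.O6_iso
  exact ⟨(isomMapEquiv e2.symm (Cfsg.quadFormPlus 3 F) (Cfsg.quadFormPlus 3 (ZMod 2))
    (quadFormPlus_map e2.symm 3)).trans e.symm⟩

end Cfsg.Agent.S0825
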