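import Mathlib
import Cfsg.Statements.S0256
import Cfsg.Agent.S0302
import Cfsg.Agent.S0825
import Cfsg.Agent.Lib.Helper2.PSLMapEquiv

set_option autoImplicit false
open Cfsg

namespace Cfsg.Agent.S0256

/-- an isomorphism of groups induces an isomorphism of the commutator subgroups -/
theorem nonempty_commutator_equiv {G H : Type*} [Group G] [Group H] (e : G ≃* H) :
    Nonempty (commutator G ≃* commutator H) := by
  have h : (commutator G).map e.toMonoidHom = commutator H := by
    rw [commutator_def, Subgroup.map_commutator, ← MonoidHom.range_eq_map,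
      MonoidHom.range_eq_top.2 e.surjective, commutator_def]
  exact ⟨(e.subgroupMap (commutator G)).trans (MulEquiv.subgroupCongr h)⟩

/-- PSL_4(2) is isomorphic to A_8. -/
theorem result {F : Type*} [Field F] [Fintype F] (hF : Fintype.card F = 2) : Nonempty (Matrix.ProjectiveSpecialLinearGroup (Fin 4) F ≃* alternatingGroup (Fin 8)) := by
  obtain ⟨e1⟩ := Cfsg.Agent.S0302.result (F := F)
  obtain ⟨e2⟩ := Cfsg.Agent.S0825.result hF
  obtain ⟨e3⟩ := nonempty_commutator_equiv e2
  have h5 : 5 ≤ Nat.card (Fin 8) := by simp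
  have e4 : commutator (Equiv.Perm (Fin 8)) ≃* alternatingGroup (Fin 8) :=
    MulEquiv.subgroupCongr (alternatingGroup.commutator_perm_eq h5)
  have e5 : Cfsg.Omega F (Cfsg.quadFormPlus 3 F) ≃* alternatingGroup (Fin 8) := e3.trans e4
  have e6 := Cfsg.Agent.Helper2.quotientCenterCongr e5
  have hc : Subgroup.center (alternatingGroup (Fin 8)) = ⊥ :=
    alternatingGroup.center_eq_bot (by simp)
  have e7 : alternatingGroup (Fin 8) ⧸ Subgroup.center (alternatingGroup (Fin 8)) ≃*
      alternatingGroup (Fin 8) :=
    (QuotientGroup.quotientMulEquivOfEq hc).trans (QuotientGroup.quotientBot)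
  exact ⟨e1.symm.trans (e6.trans e7)⟩

end Cfsg.Agent.S0256
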