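import Mathlib
import Cfsg.Statements.S2352
import Cfsg.Agent.Lib.Helper12.FreeLaw

set_option autoImplicit false
open Cfsg

namespace Cfsg.Agent.S2352

open Cfsg.Agent.Helper12

/-- A non-trivial law holds in only finitely many alternating groups: for every non-trivial element w of the free group on countably many generators there is N such that for all n ≥ N some substitution of elements of the alternating group of degree n into w is not the identity. -/
theorem result (w : FreeGroup ℕ) (hw : w ≠ 1) :
    ∃ N : ℕ, ∀ n : ℕ, N ≤ n → ∃ f : ℕ → alternatingGroup (Fin n), FreeGroup.lift f w ≠ 1 := by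
  classical
  obtain ⟨P, f, hf⟩ := exists_perm_rep w hw
  refine ⟨2 * Fintype.card P, fun n hn => ?_⟩
  obtain ⟨φ, hφ⟩ := exists_injective_hom_alt P n hn
  refine ⟨fun i => φ (f i), ?_⟩
  have hcomp : FreeGroup.lift (fun i => φ (f i)) = φ.comp (FreeGroup.lift f) := by
    ext x
    simp
  rw [hcomp, MonoidHom.comp_apply]
  intro h
  exact hf (hφ (h.trans (map_one φ).symm))

end Cfsg.Agent.S2352
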