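import Mathlib
import Cfsg.Statements.S2353

set_option autoImplicit false
open Cfsg

namespace Cfsg.Agent.S2353

open Polynomial

section poly

variable {F : Type*} [Field F]

/-- the basic degree estimate -/
theorem deg_lt_add_mul {P Q f : F[X]} (h : degree P < degree Q) (hf : 0 < degree f) :
    degree Q < degree (P + f * Q) := by
  have hQ : Q ≠ 0 := by
    rintro rfl
    rw [degree_zero] at h
    exact not_lt_bot h
  have hf0 : f ≠ 0 := by
    rintro rfl
    rw [degree_zero] at hf
    exact not_lt_bot hf
  have h1 : degree Q < degree (f * Q) := by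
    rw [degree_mul, degree_eq_natDegree hQ, degree_eq_natDegree hf0]
    rw [degree_eq_natDegree hf0] at hf
    have : 0 < natDegree f := by exact_mod_cast hf
    exact_mod_cast (by omega : natDegree Q < natDegree f + natDegree Q)
  rw [degree_add_eq_right_of_degree_lt (lt_trans h h1)]
  exact h1

/-- the polynomials `X ^ (i + 1)` -/
noncomputable def fp (F : Type*) [Field F] (i : ℕ) : F[X] := X ^ (i + 1)

theorem degree_fp (i : ℕ) : degree (fp F i) = ((i + 1 : ℕ) : WithBot ℕ) := by
  unfold fp
  rw [degree_X_pow]

theorem degree_fp_pos (i : ℕ) : 0 < degree (fp F i) := by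
  rw [degree_fp]
  exact_mod_cast Nat.succ_pos i

theorem degree_neg_fp_pos (i : ℕ) : 0 < degree (-fp F i) := by
  rw [degree_neg]
  exact degree_fp_pos i

theorem degree_fp_sub_pos {i j : ℕ} (hij : i ≠ j) : 0 < degree (fp F i - fp F j) := by
  rcases lt_or_gt_of_ne hij with h | h
  · have h1 : degree (fp F i) < degree (fp F j) := by
      rw [degree_fp, degree_fp]
      exact_mod_cast Nat.succ_lt_succ h
    rw [degree_sub_eq_right_of_degree_lt h1]
    exact degree_fp_pos j
  · have h1 : degree (fp F j) < degree (fp F i) := by
      rw [degree_fp, degree_fp]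
      exact_mod_cast Nat.succ_lt_succ h
    rw [degree_sub_eq_left_of_degree_lt h1]
    exact degree_fp_pos i

theorem natDegree_fp (i : ℕ) : natDegree (fp F i) = i + 1 := by
  unfold fp
  rw [natDegree_X_pow]

/-- the action of a letter on the first column -/
noncomputable def act (F : Type*) [Field F] (x : ℕ × Bool) (c : F[X] × F[X]) : F[X] × F[X] :=
  if x.2 then (c.1 + fp F x.1 * (c.2 + fp F x.1 * c.1), c.2 + fp F x.1 * c.1)
  else (c.1 - fp F x.1 * c.2, c.2 - fp F x.1 * (c.1 - fp F x.1 * c.2))

/-- the first column of the matrix of a word -/
noncomputable def colL (F : Type*) [Field F] (L : List (ℕ × Bool)) : F[X] × F[X] :=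
  L.foldr (act F) (1, 0)

theorem colL_nil : colL F [] = (1, 0) := rfl

theorem colL_cons (x : ℕ × Bool) (L : List (ℕ × Bool)) :
    colL F (x :: L) = act F x (colL F L) := rfl

/-- the invariant of reduced words -/
theorem invariant (L : List (ℕ × Bool)) : ∀ (i : ℕ) (e : Bool),
    FreeGroup.IsReduced ((i, e) :: L) →
    (e = true → degree (colL F L).1 < degree ((colL F L).2 + fp F i * (colL F L).1)) ∧
    (e = false → degree (colL F L).2 < degree ((colL F L).1 - fp F i * (colL F L).2)) := by
  induction L with
  | nil =>
    intro i e _
    rw [colL_nil]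
    constructor
    · intro _
      simp only [zero_add, mul_one, degree_one]
      exact degree_fp_pos i
    · intro _
      simp only [mul_zero, sub_zero, degree_one, degree_zero]
      exact WithBot.bot_lt_coe 0
  | cons y L ih =>
    obtain ⟨j, d⟩ := y
    intro i e hred
    rw [FreeGroup.isReduced_cons_cons] at hred
    obtain ⟨hij, hred'⟩ := hred
    obtain ⟨ih1, ih2⟩ := ih j d hred'
    rw [colL_cons]
    set P := (colL F L).1 with hP
    set Q := (colL F L).2 with hQ
    cases d
    · -- the next letter is an inverse
      have h0 := ih2 rfl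
      have hact : act F (j, false) (colL F L) =
          (P - fp F j * Q, Q - fp F j * (P - fp F j * Q)) := by
        unfold act
        simp only [Bool.false_eq_true, if_false]
        rfl
      rw [hact]
      simp only
      set P' := P - fp F j * Q with hP'
      -- `degree Q < degree P'`
      have h1 : degree P' < degree (Q + (-fp F j) * P') := deg_lt_add_mul h0 (degree_neg_fp_pos j)
      constructor
      · intro he
        have hne : i ≠ j := by
          intro h
          have := hij h
          rw [he] at this
          exact Bool.noConfusion this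
        have h2 := deg_lt_add_mul (f := fp F i - fp F j) h0 (degree_fp_sub_pos hne)
        have e1 : Q - fp F j * P' + fp F i * P' = Q + (fp F i - fp F j) * P' := by ring
        rw [e1]
        exact h2
      · intro _
        have h2 := deg_lt_add_mul h1 (degree_neg_fp_pos i)
        have e1 : P' - fp F i * (Q - fp F j * P') = P' + (-fp F i) * (Q + (-fp F j) * P') := by
          ring
        have e2 : Q - fp F j * P' = Q + (-fp F j) * P' := by ring
        rw [e1, e2]
        exact h2
    · -- the next letter is a generator
      have h0 := ih1 rfl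
      have hact : act F (j, true) (colL F L) =
          (P + fp F j * (Q + fp F j * P), Q + fp F j * P) := by
        unfold act
        simp only [if_true]
        rfl
      rw [hact]
      simp only
      set Q' := Q + fp F j * P with hQ'
      have h1 : degree Q' < degree (P + fp F j * Q') := deg_lt_add_mul h0 (degree_fp_pos j)
      constructor
      · intro _
        exact deg_lt_add_mul h1 (degree_fp_pos i)
      · intro he
        have hne : j ≠ i := by
          intro h
          have := hij h.symm
          rw [he] at this
          exact Bool.noConfusion this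
        have h2 := deg_lt_add_mul (f := fp F j - fp F i) h0 (degree_fp_sub_pos hne)
        have e1 : P + fp F j * Q' - fp F i * Q' = P + (fp F j - fp F i) * Q' := by ring
        rw [e1]
        exact h2

/-- the lower left entry of the matrix of a non-empty reduced word does not vanish -/
theorem colL_snd_ne_zero (L : List (ℕ × Bool)) (hL : FreeGroup.IsReduced L) (hne : L ≠ []) :
    (colL F L).2 ≠ 0 := by
  cases L with
  | nil => exact absurd rfl hne
  | cons x L =>
    obtain ⟨i, e⟩ := x
    obtain ⟨h1, h2⟩ := invariant (F := F) L i e hL
    rw [colL_cons]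
    cases e
    · have h0 := h2 rfl
      have hact : act F (i, false) (colL F L) = ((colL F L).1 - fp F i * (colL F L).2,
          (colL F L).2 - fp F i * ((colL F L).1 - fp F i * (colL F L).2)) := by
        unfold act
        simp only [Bool.false_eq_true, if_false]
      rw [hact]
      simp only
      have h3 := deg_lt_add_mul h0 (degree_neg_fp_pos i)
      intro hz
      have e1 : (colL F L).2 - fp F i * ((colL F L).1 - fp F i * (colL F L).2) =
          (colL F L).2 + (-fp F i) * ((colL F L).1 - fp F i * (colL F L).2) := by ring
      rw [← e1, hz, degree_zero] at h3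
      exact not_lt_bot h3
    · have h0 := h1 rfl
      have hact : act F (i, true) (colL F L) =
          ((colL F L).1 + fp F i * ((colL F L).2 + fp F i * (colL F L).1),
            (colL F L).2 + fp F i * (colL F L).1) := by
        unfold act
        simp only [if_true]
      rw [hact]
      simp only
      intro hz
      rw [hz, degree_zero] at h0
      exact not_lt_bot h0

/-- the degree bound -/
def bound (L : List (ℕ × Bool)) : ℕ := (L.map (fun x => 2 * (x.1 + 1))).sum

theorem natDegree_colL (L : List (ℕ × Bool)) :
    natDegree (colL F L).1 ≤ bound L ∧ natDegree (colL F L).2 ≤ bound L := by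
  induction L with
  | nil =>
    rw [colL_nil]
    simp [bound]
  | cons x L ih =>
    obtain ⟨i, e⟩ := x
    obtain ⟨ih1, ih2⟩ := ih
    have hb : bound ((i, e) :: L) = 2 * (i + 1) + bound L := by
      simp [bound]
    rw [colL_cons, hb]
    have hmul : ∀ p : F[X], natDegree (fp F i * p) ≤ (i + 1) + natDegree p := by
      intro p
      refine le_trans natDegree_mul_le ?_
      rw [natDegree_fp]
    cases e
    · have hact : act F (i, false) (colL F L) = ((colL F L).1 - fp F i * (colL F L).2,
          (colL F L).2 - fp F i * ((colL F L).1 - fp F i * (colL F L).2)) := by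
        unfold act
        simp only [Bool.false_eq_true, if_false]
      rw [hact]
      simp only
      have h1 : natDegree ((colL F L).1 - fp F i * (colL F L).2) ≤ (i + 1) + bound L := by
        refine le_trans (natDegree_sub_le _ _) (max_le (by omega) ?_)
        exact le_trans (hmul _) (by omega)
      refine ⟨by omega, ?_⟩
      refine le_trans (natDegree_sub_le _ _) (max_le (by omega) ?_)
      exact le_trans (hmul _) (by omega)
    · have hact : act F (i, true) (colL F L) =
          ((colL F L).1 + fp F i * ((colL F L).2 + fp F i * (colL F L).1),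
            (colL F L).2 + fp F i * (colL F L).1) := by
        unfold act
        simp only [if_true]
      rw [hact]
      simp only
      have h1 : natDegree ((colL F L).2 + fp F i * (colL F L).1) ≤ (i + 1) + bound L := by
        refine le_trans (natDegree_add_le _ _) (max_le (by omega) ?_)
        exact le_trans (hmul _) (by omega)
      refine ⟨?_, by omega⟩
      refine le_trans (natDegree_add_le _ _) (max_le (by omega) ?_)
      exact le_trans (hmul _) (by omega)

/-- the generators -/
noncomputable def gen (F : Type*) [Field F] (i : ℕ) : Matrix.SpecialLinearGroup (Fin 2) F[X] :=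
  ⟨!![1 + fp F i * fp F i, fp F i; fp F i, 1], by
    rw [Matrix.det_fin_two_of]; ring⟩

theorem gen_coe (i : ℕ) : ((gen F i : Matrix.SpecialLinearGroup (Fin 2) F[X]) :
    Matrix (Fin 2) (Fin 2) F[X]) = !![1 + fp F i * fp F i, fp F i; fp F i, 1] := rfl

/-- the first column of a matrix -/
def col (M : Matrix.SpecialLinearGroup (Fin 2) F[X]) : F[X] × F[X] :=
  ((M : Matrix (Fin 2) (Fin 2) F[X]) 0 0, (M : Matrix (Fin 2) (Fin 2) F[X]) 1 0)

theorem col_gen_mul (i : ℕ) (M : Matrix.SpecialLinearGroup (Fin 2) F[X]) :
    col (gen F i * M) = act F (i, true) (col M) := by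
  unfold col act
  simp only [if_true]
  rw [Matrix.SpecialLinearGroup.coe_mul, gen_coe]
  simp only [Matrix.mul_apply, Fin.sum_univ_two, Matrix.of_apply, Matrix.cons_val', Matrix.cons_val_zero,
    Matrix.cons_val_one, Matrix.cons_val_fin_one]
  apply Prod.ext
  · simp only
    ring
  · simp only
    ring

theorem col_gen_inv_mul (i : ℕ) (M : Matrix.SpecialLinearGroup (Fin 2) F[X]) :
    col ((gen F i)⁻¹ * M) = act F (i, false) (col M) := by
  unfold col act
  simp only [Bool.false_eq_true, if_false]
  rw [Matrix.SpecialLinearGroup.coe_mul, Matrix.SpecialLinearGroup.coe_inv, gen_coe,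
    Matrix.adjugate_fin_two_of]
  simp only [Matrix.mul_apply, Fin.sum_univ_two, Matrix.of_apply, Matrix.cons_val', Matrix.cons_val_zero,
    Matrix.cons_val_one, Matrix.cons_val_fin_one]
  apply Prod.ext
  · simp only
    ring
  · simp only
    ring

theorem col_prod (L : List (ℕ × Bool)) :
    col ((L.map fun x => cond x.2 (gen F x.1) (gen F x.1)⁻¹).prod) = colL F L := by
  induction L with
  | nil =>
    rw [List.map_nil, List.prod_nil, colL_nil]
    unfold col
    simp
  | cons x L ih =>
    obtain ⟨i, e⟩ := x
    rw [List.map_cons, List.prod_cons, colL_cons, ← ih]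
    cases e
    · exact col_gen_inv_mul i _
    · exact col_gen_mul i _

theorem col_lift (w : FreeGroup ℕ) :
    col (FreeGroup.lift (gen F) w) = colL F w.toWord := by
  conv_lhs => rw [← FreeGroup.mk_toWord (x := w), FreeGroup.lift_mk]
  exact col_prod _

end poly

/-- A non-trivial law holds in PSL_2 over only finitely many finite fields: for every non-trivial element w of the free group on countably many generators there is N such that over every finite field with at least N elements some substitution of elements of PSL_2 into w is not the identity. -/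
theorem result (w : FreeGroup ℕ) (hw : w ≠ 1) :
    ∃ N : ℕ, ∀ (F : Type*) [Field F] [Fintype F], N ≤ Fintype.card F →
      ∃ f : ℕ → Matrix.ProjectiveSpecialLinearGroup (Fin 2) F, FreeGroup.lift f w ≠ 1 := by
  refine ⟨bound w.toWord + 1, ?_⟩
  intro F _ _ hN
  have hne : w.toWord ≠ [] := fun h => hw (FreeGroup.toWord_eq_nil_iff.1 h)
  have h1 := colL_snd_ne_zero (F := F) w.toWord FreeGroup.isReduced_toWord hne
  have h2 := (natDegree_colL (F := F) w.toWord).2
  have hcard : natDegree (colL F w.toWord).2 < Cardinal.mk F := by
    rw [Cardinal.mk_fintype]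
    exact_mod_cast (by omega : natDegree (colL F w.toWord).2 < Fintype.card F)
  obtain ⟨t, ht⟩ := exists_eval_ne_zero_of_natDegree_lt_card _ h1 hcard
  -- specialise
  let φ : Matrix.SpecialLinearGroup (Fin 2) F[X] →* Matrix.SpecialLinearGroup (Fin 2) F :=
    Matrix.SpecialLinearGroup.map (evalRingHom t)
  let π : Matrix.SpecialLinearGroup (Fin 2) F →* Matrix.ProjectiveSpecialLinearGroup (Fin 2) F :=
    QuotientGroup.mk' _
  refine ⟨fun i => π (φ (gen F i)), ?_⟩
  have hcomp : FreeGroup.lift (fun i => π (φ (gen F i))) = (π.comp φ).comp (FreeGroup.lift (gen F)) := by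
    apply FreeGroup.ext_hom
    intro i
    simp
  rw [hcomp]
  change π (φ (FreeGroup.lift (gen F) w)) ≠ 1
  intro hone
  have hmem : φ (FreeGroup.lift (gen F) w) ∈
      Subgroup.center (Matrix.SpecialLinearGroup (Fin 2) F) := by
    have := (QuotientGroup.eq_one_iff (N := Subgroup.center (Matrix.SpecialLinearGroup (Fin 2) F))
      (φ (FreeGroup.lift (gen F) w))).1 hone
    exact this
  obtain ⟨r, -, hr⟩ := Matrix.SpecialLinearGroup.mem_center_iff.1 hmem
  have h10 := congrFun (congrFun hr 1) 0
  have hcol := col_lift (F := F) w
  have h3 : ((φ (FreeGroup.lift (gen F) w) : Matrix.SpecialLinearGroup (Fin 2) F) :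
      Matrix (Fin 2) (Fin 2) F) 1 0 = eval t (colL F w.toWord).2 := by
    rw [← hcol]
    rfl
  rw [h3] at h10
  apply ht
  rw [← h10]
  simp

end Cfsg.Agent.S2353
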