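import Mathlib
import Cfsg.Statements.S2299
import Cfsg.Agent.Lib.Helper12.SL2Count

set_option autoImplicit false
open Cfsg

namespace Cfsg.Agent.S2299

open Cfsg.Agent.Helper12 Cfsg.Agent.Helper24 Cfsg.Agent.Helper5

/-- Over a finite field F with q elements, q odd, every irreducible complex character of SL₂ has degree 1, q, q + 1, q − 1, (q + 1)/2 or (q − 1)/2; and when q ≥ 5 there are exactly one irreducible character of degree 1, one of degree q, (q − 3)/2 of degree q + 1, (q − 1)/2 of degree q − 1, two of degree (q + 1)/2 and two of degree (q − 1)/2. -/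
theorem result {F : Type*} [Field F] [Fintype F] (hodd : Odd (Fintype.card F)) :
    (∀ χ : Matrix.SpecialLinearGroup (Fin 2) F → ℂ, Cfsg.IsIrrCharacter (Matrix.SpecialLinearGroup (Fin 2) F) χ →
      χ 1 = 1 ∨ χ 1 = (Fintype.card F : ℂ) ∨ χ 1 = (Fintype.card F : ℂ) + 1 ∨ χ 1 = (Fintype.card F : ℂ) - 1 ∨
        χ 1 = (((Fintype.card F + 1) / 2 : ℕ) : ℂ) ∨ χ 1 = (((Fintype.card F - 1) / 2 : ℕ) : ℂ)) ∧
    (5 ≤ Fintype.card F →
      Nat.card {χ : Cfsg.IrrCharacter (Matrix.SpecialLinearGroup (Fin 2) F) // (χ : Matrix.SpecialLinearGroup (Fin 2) F → ℂ) 1 = 1} = 1 ∧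
      Nat.card {χ : Cfsg.IrrCharacter (Matrix.SpecialLinearGroup (Fin 2) F) // (χ : Matrix.SpecialLinearGroup (Fin 2) F → ℂ) 1 = (Fintype.card F : ℂ)} = 1 ∧
      Nat.card {χ : Cfsg.IrrCharacter (Matrix.SpecialLinearGroup (Fin 2) F) // (χ : Matrix.SpecialLinearGroup (Fin 2) F → ℂ) 1 = (Fintype.card F : ℂ) + 1} = (Fintype.card F - 3) / 2 ∧
      Nat.card {χ : Cfsg.IrrCharacter (Matrix.SpecialLinearGroup (Fin 2) F) // (χ : Matrix.SpecialLinearGroup (Fin 2) F → ℂ) 1 = (Fintype.card F : ℂ) - 1} = (Fintype.card F - 1) / 2 ∧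
      Nat.card {χ : Cfsg.IrrCharacter (Matrix.SpecialLinearGroup (Fin 2) F) // (χ : Matrix.SpecialLinearGroup (Fin 2) F → ℂ) 1 = (((Fintype.card F + 1) / 2 : ℕ) : ℂ)} = 2 ∧
      Nat.card {χ : Cfsg.IrrCharacter (Matrix.SpecialLinearGroup (Fin 2) F) // (χ : Matrix.SpecialLinearGroup (Fin 2) F → ℂ) 1 = (((Fintype.card F - 1) / 2 : ℕ) : ℂ)} = 2) := by
  classical
  letI : Fintype (MulChar F ℂ) := Fintype.ofFinite _
  have hq1 : 1 ≤ Fintype.card F := Fintype.card_pos
  have hF : ringChar F ≠ 2 := by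
    intro h
    have := FiniteField.even_card_of_char_two h
    rw [Nat.odd_iff] at hodd
    omega
  obtain ⟨k, hk⟩ := hodd
  have hdeg : ∀ χ : Matrix.SpecialLinearGroup (Fin 2) F → ℂ,
      Cfsg.IsIrrCharacter (Matrix.SpecialLinearGroup (Fin 2) F) χ →
      charDegree χ = 1 ∨ charDegree χ = Fintype.card F ∨ charDegree χ = Fintype.card F + 1 ∨
        charDegree χ = Fintype.card F - 1 ∨ charDegree χ = (Fintype.card F + 1) / 2 ∨
        charDegree χ = (Fintype.card F - 1) / 2 := by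
    intro χ hχ
    have hd := irr_one_eq_charDegree hχ
    rcases SL2_degree_cases hχ _ hd with ⟨h, -⟩ | ⟨h, -⟩ | ⟨h, -⟩ | ⟨h, -⟩ | ⟨h, -⟩ | ⟨h, -⟩
    · left; exact h
    · right; left; exact h
    · right; right; left; exact h
    · right; right; right; right; left; omega
    · right; right; right; left; omega
    · right; right; right; right; right; omega
  have c4 : ((Fintype.card F - 1 : ℕ) : ℂ) = (Fintype.card F : ℂ) - 1 := by
    rw [Nat.cast_sub hq1, Nat.cast_one]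
  refine ⟨?_, ?_⟩
  · intro χ hχ
    have hd := irr_one_eq_charDegree hχ
    rcases hdeg χ hχ with h | h | h | h | h | h
    · left; rw [hd, h]; simp
    · right; left; rw [hd, h]
    · right; right; left; rw [hd, h]; simp
    · right; right; right; left; rw [hd, h, c4]
    · right; right; right; right; left; rw [hd, h]
    · right; right; right; right; right; rw [hd, h]
  intro hq
  -- the unique characters of degree `1` and `q`
  have hn1 : Nat.card {χ : Cfsg.IrrCharacter (Matrix.SpecialLinearGroup (Fin 2) F) //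
      (χ : Matrix.SpecialLinearGroup (Fin 2) F → ℂ) 1 = 1} = 1 := by
    apply card_irr_unique 1 (fun _ => (1 : ℂ)) isIrrCharacter_one rfl
    intro χ hχ h1
    rcases SL2_degree_cases hχ 1 (by rw [h1]; simp) with
      ⟨-, h⟩ | ⟨h, -⟩ | ⟨h, -⟩ | ⟨h, -⟩ | ⟨h, -⟩ | ⟨h, -⟩
    · exact h
    all_goals omega
  have hnq : Nat.card {χ : Cfsg.IrrCharacter (Matrix.SpecialLinearGroup (Fin 2) F) //
      (χ : Matrix.SpecialLinearGroup (Fin 2) F → ℂ) 1 = (Fintype.card F : ℂ)} = 1 := by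
    apply card_irr_unique _ stSL isIrrCharacter_stSL stSL_one_apply
    intro χ hχ h1
    rcases SL2_degree_cases hχ (Fintype.card F) h1 with
      ⟨h, -⟩ | ⟨-, h⟩ | ⟨h, -⟩ | ⟨h, -⟩ | ⟨h, -⟩ | ⟨h, -⟩
    · omega
    · exact h
    all_goals omega
  have hnps : 2 * Nat.card {χ : Cfsg.IrrCharacter (Matrix.SpecialLinearGroup (Fin 2) F) //
      (χ : Matrix.SpecialLinearGroup (Fin 2) F → ℂ) 1 = (Fintype.card F : ℂ) + 1} =
      Fintype.card F - 3 := by
    rw [← card_sq_ne_one_odd ⟨k, hk⟩]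
    apply card_irr_ps
    intro χ hχ h1
    rcases SL2_degree_cases hχ (Fintype.card F + 1) (by rw [h1]; simp) with
      ⟨h, -⟩ | ⟨h, -⟩ | ⟨-, h⟩ | ⟨h, -⟩ | ⟨h, -⟩ | ⟨h, -⟩
    · omega
    · omega
    · exact h
    all_goals omega
  -- the two characters of degree `(q + 1) / 2`
  obtain ⟨γ₀, ξ₁, ξ₂, hγ1, hγ2, hP⟩ := exists_halfPair_psSL (F := F) ⟨k, hk⟩
  have hξ1 : ξ₁ 1 = (((Fintype.card F + 1) / 2 : ℕ) : ℂ) := by
    have h2 := hP.two_mul_one
    rw [psSL_one_apply] at h2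
    have : (Fintype.card F + 1) / 2 = k + 1 := by omega
    rw [this]
    rw [hk] at h2
    push_cast at h2 ⊢
    linear_combination (1 / 2 : ℂ) * h2
  have hnhalf : Nat.card {χ : Cfsg.IrrCharacter (Matrix.SpecialLinearGroup (Fin 2) F) //
      (χ : Matrix.SpecialLinearGroup (Fin 2) F → ℂ) 1 =
        (((Fintype.card F + 1) / 2 : ℕ) : ℂ)} = 2 := by
    apply card_irr_pair _ ξ₁ ξ₂ hP.irr hP.irr' hP.ne hξ1 (by rw [hP.one_eq, hξ1])
    intro χ hχ h1
    rcases SL2_degree_cases hχ _ h1 with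
      ⟨h, -⟩ | ⟨h, -⟩ | ⟨h, -⟩ | ⟨-, μ, hμ1, hμ2, χ', hP'⟩ | ⟨h, -⟩ | ⟨h, -⟩
    · omega
    · omega
    · omega
    · have hμ : μ = γ₀ := quadratic_mulChar_unique μ γ₀ hμ2 hγ2 hμ1 hγ1
      rw [hμ] at hP'
      exact hP.eq_or_eq hP'
    · omega
    · omega
  -- the counting equations
  have hD : ∀ χ : Matrix.SpecialLinearGroup (Fin 2) F → ℂ,
      IsIrrCharacter (Matrix.SpecialLinearGroup (Fin 2) F) χ →
      charDegree χ ∈ ({1, Fintype.card F, Fintype.card F + 1, Fintype.card F - 1,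
        (Fintype.card F + 1) / 2, (Fintype.card F - 1) / 2} : Finset ℕ) := by
    intro χ hχ
    simp only [Finset.mem_insert, Finset.mem_singleton]
    exact hdeg χ hχ
  obtain ⟨hcls, hord⟩ := card_irr_fiberwise _ hD
  rw [card_SL2] at hord
  rw [card_conjClasses_SL2 hF] at hcls
  have e1 : (1 : ℕ) ∉ ({Fintype.card F, Fintype.card F + 1, Fintype.card F - 1,
      (Fintype.card F + 1) / 2, (Fintype.card F - 1) / 2} : Finset ℕ) := by
    simp only [Finset.mem_insert, Finset.mem_singleton]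
    omega
  have e2 : Fintype.card F ∉ ({Fintype.card F + 1, Fintype.card F - 1,
      (Fintype.card F + 1) / 2, (Fintype.card F - 1) / 2} : Finset ℕ) := by
    simp only [Finset.mem_insert, Finset.mem_singleton]
    omega
  have e3 : Fintype.card F + 1 ∉ ({Fintype.card F - 1,
      (Fintype.card F + 1) / 2, (Fintype.card F - 1) / 2} : Finset ℕ) := by
    simp only [Finset.mem_insert, Finset.mem_singleton]
    omega
  have e4 : Fintype.card F - 1 ∉ ({(Fintype.card F + 1) / 2,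
      (Fintype.card F - 1) / 2} : Finset ℕ) := by
    simp only [Finset.mem_insert, Finset.mem_singleton]
    omega
  have e5 : (Fintype.card F + 1) / 2 ∉ ({(Fintype.card F - 1) / 2} : Finset ℕ) := by
    simp only [Finset.mem_singleton]
    omega
  rw [Finset.sum_insert e1, Finset.sum_insert e2, Finset.sum_insert e3, Finset.sum_insert e4,
    Finset.sum_insert e5, Finset.sum_singleton] at hord hcls
  have c1 : ((1 : ℕ) : ℂ) = 1 := Nat.cast_one
  have c3 : ((Fintype.card F + 1 : ℕ) : ℂ) = (Fintype.card F : ℂ) + 1 := by push_cast; ring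
  rw [c1, c3, c4, hn1, hnq, hnhalf] at hord hcls
  set a := Nat.card {χ : Cfsg.IrrCharacter (Matrix.SpecialLinearGroup (Fin 2) F) //
      (χ : Matrix.SpecialLinearGroup (Fin 2) F → ℂ) 1 = (Fintype.card F : ℂ) + 1} with ha
  set b := Nat.card {χ : Cfsg.IrrCharacter (Matrix.SpecialLinearGroup (Fin 2) F) //
      (χ : Matrix.SpecialLinearGroup (Fin 2) F → ℂ) 1 = (Fintype.card F : ℂ) - 1} with hb
  set c := Nat.card {χ : Cfsg.IrrCharacter (Matrix.SpecialLinearGroup (Fin 2) F) //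
      (χ : Matrix.SpecialLinearGroup (Fin 2) F → ℂ) 1 =
        (((Fintype.card F - 1) / 2 : ℕ) : ℂ)} with hc
  obtain ⟨j, hj⟩ : ∃ j, k = j + 2 := ⟨k - 2, by omega⟩
  have hqj : Fintype.card F = 2 * j + 5 := by omega
  have haj : a = j + 1 := by omega
  have h1 : Fintype.card F ^ 2 - 1 = 4 * j ^ 2 + 20 * j + 24 := by
    have : Fintype.card F ^ 2 = 4 * j ^ 2 + 20 * j + 25 := by rw [hqj]; ring
    omega
  have h2 : Fintype.card F - 1 = 2 * j + 4 := by omega
  have h3 : (Fintype.card F + 1) / 2 = j + 3 := by omega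
  have h4 : (Fintype.card F - 1) / 2 = j + 2 := by omega
  rw [h1, h3, h4, h2, haj, hqj] at hord
  rw [haj, hqj] at hcls
  have hbc : b + c = j + 4 := by omega
  have h4bc : (j + 2) ^ 2 * (4 * b + c) = (j + 2) ^ 2 * (4 * j + 10) := by
    zify at hord ⊢
    linear_combination -hord
  have h4bc' : 4 * b + c = 4 * j + 10 := Nat.eq_of_mul_eq_mul_left (by positivity) h4bc
  have hbj : b = j + 2 := by omega
  have hcj : c = 2 := by omega
  refine ⟨hn1, hnq, ?_, ?_, hnhalf, hcj⟩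
  · omega
  · omega

end Cfsg.Agent.S2299
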