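import Mathlib
import Cfsg.Statements.S2577
import Cfsg.Agent.Lib.Helper13.InvolConj
import Cfsg.Agent.Lib.Helper12.SL2Odd

set_option autoImplicit false
open Cfsg

namespace Cfsg.Agent.S2577

open Matrix Module LinearMap Cfsg.Agent.Helper13

section
variable {F : Type*} [Field F] {n : ℕ}

/-- conjugacy in `GL` from an intertwining linear equivalence -/
theorem isConj_of_intertwiner (a b : GL (Fin n) F) (T : (Fin n → F) ≃ₗ[F] (Fin n → F))
    (hT : ∀ v, T (Matrix.toLin' (a : Matrix (Fin n) (Fin n) F) v) =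
      Matrix.toLin' (b : Matrix (Fin n) (Fin n) F) (T v)) : IsConj a b := by
  set Tm := LinearMap.toMatrix' (T : (Fin n → F) →ₗ[F] (Fin n → F)) with hTm
  set Tm' := LinearMap.toMatrix' (T.symm : (Fin n → F) →ₗ[F] (Fin n → F)) with hTm'
  have h1 : Tm * Tm' = 1 := by
    rw [hTm, hTm', ← LinearMap.toMatrix'_comp]
    have : (T : (Fin n → F) →ₗ[F] (Fin n → F)) ∘ₗ (T.symm : (Fin n → F) →ₗ[F] (Fin n → F)) =
        LinearMap.id := by
      ext v; simp
    rw [this, LinearMap.toMatrix'_id]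
  have h2 : Tm' * Tm = 1 := by
    rw [hTm, hTm', ← LinearMap.toMatrix'_comp]
    have : (T.symm : (Fin n → F) →ₗ[F] (Fin n → F)) ∘ₗ (T : (Fin n → F) →ₗ[F] (Fin n → F)) =
        LinearMap.id := by
      ext v; simp
    rw [this, LinearMap.toMatrix'_id]
  have hcomm : Tm * (a : Matrix (Fin n) (Fin n) F) = (b : Matrix (Fin n) (Fin n) F) * Tm := by
    have h3 : (T : (Fin n → F) →ₗ[F] (Fin n → F)) ∘ₗ Matrix.toLin' (a : Matrix (Fin n) (Fin n) F) =
        Matrix.toLin' (b : Matrix (Fin n) (Fin n) F) ∘ₗ (T : (Fin n → F) →ₗ[F] (Fin n → F)) := by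
      apply LinearMap.ext
      intro v
      exact hT v
    have := congrArg LinearMap.toMatrix' h3
    rw [LinearMap.toMatrix'_comp, LinearMap.toMatrix'_comp, LinearMap.toMatrix'_toLin',
      LinearMap.toMatrix'_toLin'] at this
    exact this
  let y : GL (Fin n) F := ⟨Tm, Tm', h1, h2⟩
  have hy : y * a = b * y := Units.ext hcomm
  rw [isConj_iff]
  exact ⟨y, by rw [hy, mul_inv_cancel_right]⟩

theorem finrank_ker_toLin' (A : Matrix (Fin n) (Fin n) F) :
    finrank F (ker (Matrix.toLin' A)) + A.rank = n := by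
  have h := LinearMap.finrank_range_add_finrank_ker (Matrix.toLin' A)
  rw [Module.finrank_fin_fun] at h
  rw [Matrix.rank, ← Matrix.toLin'_apply']
  omega

/-- involutions in `GL` with the same rank of `a + 1` are conjugate -/
theorem isConj_of_invol (h2 : (2 : F) ≠ 0) (a b : GL (Fin n) F)
    (ha : (a : Matrix (Fin n) (Fin n) F) * (a : Matrix (Fin n) (Fin n) F) = 1)
    (hb : (b : Matrix (Fin n) (Fin n) F) * (b : Matrix (Fin n) (Fin n) F) = 1)
    (hr : ((a : Matrix (Fin n) (Fin n) F) + 1).rank = ((b : Matrix (Fin n) (Fin n) F) + 1).rank) :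
    IsConj a b := by
  have hfa : (Matrix.toLin' (a : Matrix (Fin n) (Fin n) F) : Module.End F (Fin n → F)) *
      Matrix.toLin' (a : Matrix (Fin n) (Fin n) F) = 1 := by
    rw [Module.End.mul_eq_comp, ← Matrix.toLin'_mul, ha, Matrix.toLin'_one]; rfl
  have hfb : (Matrix.toLin' (b : Matrix (Fin n) (Fin n) F) : Module.End F (Fin n → F)) *
      Matrix.toLin' (b : Matrix (Fin n) (Fin n) F) = 1 := by
    rw [Module.End.mul_eq_comp, ← Matrix.toLin'_mul, hb, Matrix.toLin'_one]; rfl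
  have e1 : ∀ A : Matrix (Fin n) (Fin n) F,
      (Matrix.toLin' A : Module.End F (Fin n → F)) + 1 = Matrix.toLin' (A + 1) := by
    intro A
    rw [map_add, Matrix.toLin'_one]; rfl
  have hdim : finrank F (ker ((Matrix.toLin' (a : Matrix (Fin n) (Fin n) F) :
      Module.End F (Fin n → F)) + 1)) =
      finrank F (ker ((Matrix.toLin' (b : Matrix (Fin n) (Fin n) F) :
        Module.End F (Fin n → F)) + 1)) := by
    rw [e1, e1]
    have := finrank_ker_toLin' ((a : Matrix (Fin n) (Fin n) F) + 1)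
    have := finrank_ker_toLin' ((b : Matrix (Fin n) (Fin n) F) + 1)
    omega
  obtain ⟨T, hT⟩ := exists_intertwiner_invol h2 _ _ hfa hfb hdim
  exact isConj_of_intertwiner a b T hT

/-- non-split square roots of the same scalar are conjugate in `GL` -/
theorem isConj_of_nonsplit (a b : GL (Fin n) F) (μ : F) (hμ : ¬ IsSquare μ)
    (ha : (a : Matrix (Fin n) (Fin n) F) * (a : Matrix (Fin n) (Fin n) F) = μ • 1)
    (hb : (b : Matrix (Fin n) (Fin n) F) * (b : Matrix (Fin n) (Fin n) F) = μ • 1) :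
    IsConj a b := by
  have hfa : (Matrix.toLin' (a : Matrix (Fin n) (Fin n) F) : Module.End F (Fin n → F)) *
      Matrix.toLin' (a : Matrix (Fin n) (Fin n) F) = μ • 1 := by
    rw [Module.End.mul_eq_comp, ← Matrix.toLin'_mul, ha, map_smul, Matrix.toLin'_one]; rfl
  have hfb : (Matrix.toLin' (b : Matrix (Fin n) (Fin n) F) : Module.End F (Fin n → F)) *
      Matrix.toLin' (b : Matrix (Fin n) (Fin n) F) = μ • 1 := by
    rw [Module.End.mul_eq_comp, ← Matrix.toLin'_mul, hb, map_smul, Matrix.toLin'_one]; rfl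
  obtain ⟨T, hT⟩ := exists_intertwiner_nonsplit _ _ μ hμ hfa hfb
  exact isConj_of_intertwiner a b T hT

theorem even_of_nonsplit (a : GL (Fin n) F) (μ : F) (hμ : ¬ IsSquare μ)
    (ha : (a : Matrix (Fin n) (Fin n) F) * (a : Matrix (Fin n) (Fin n) F) = μ • 1) : Even n := by
  have hfa : (Matrix.toLin' (a : Matrix (Fin n) (Fin n) F) : Module.End F (Fin n → F)) *
      Matrix.toLin' (a : Matrix (Fin n) (Fin n) F) = μ • 1 := by
    rw [Module.End.mul_eq_comp, ← Matrix.toLin'_mul, ha, map_smul, Matrix.toLin'_one]; rfl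
  have := even_finrank_of_nonsplit _ μ hμ hfa
  rwa [Module.finrank_fin_fun] at this

/-- the diagonal involution with `i` entries `-1` -/
def dmat (n i : ℕ) : Matrix (Fin n) (Fin n) F :=
  Matrix.diagonal (fun j : Fin n => if j.val < i then (-1 : F) else 1)

theorem dmat_mul_self (n i : ℕ) : (dmat n i : Matrix (Fin n) (Fin n) F) * dmat n i = 1 := by
  unfold dmat
  rw [Matrix.diagonal_mul_diagonal, ← Matrix.diagonal_one]
  congr 1
  ext j
  split_ifs <;> simp

/-- the diagonal involution as an element of `GL` -/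
def dGL (n i : ℕ) : GL (Fin n) F := ⟨dmat n i, dmat n i, dmat_mul_self n i, dmat_mul_self n i⟩

theorem dGL_coe (n i : ℕ) : ((dGL n i : GL (Fin n) F) : Matrix (Fin n) (Fin n) F) = dmat n i := rfl

theorem rank_dmat_add_one (h2 : (2 : F) ≠ 0) (i : ℕ) (hi : i ≤ n) :
    ((dmat n i : Matrix (Fin n) (Fin n) F) + 1).rank = n - i := by
  classical
  unfold dmat
  rw [← Matrix.diagonal_one, Matrix.diagonal_add, Matrix.rank_diagonal]
  have e : ∀ j : Fin n, ((if j.val < i then (-1 : F) else 1) + 1 ≠ 0) ↔ ¬ ((j : ℕ) < i) := by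
    intro j
    split_ifs with h
    · simp [h]
    · simp only [h, not_false_eq_true, iff_true]
      intro h3
      apply h2
      rw [← h3]; norm_num
  rw [Fintype.card_congr (Equiv.subtypeEquivRight e), Fintype.card_subtype_compl,
    Fintype.card_fin, Fintype.card_fin_lt_of_le hi]

theorem rank_dmat_sub_one (h2 : (2 : F) ≠ 0) (i : ℕ) (hi : i ≤ n) :
    ((dmat n i : Matrix (Fin n) (Fin n) F) - 1).rank = i := by
  classical
  unfold dmat
  rw [← Matrix.diagonal_one, Matrix.diagonal_sub, Matrix.rank_diagonal]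
  have e : ∀ j : Fin n, ((if j.val < i then (-1 : F) else 1) - 1 ≠ 0) ↔ ((j : ℕ) < i) := by
    intro j
    split_ifs with h
    · simp only [h, iff_true]
      intro h3
      apply h2
      have : (2 : F) = -(-1 - 1) := by norm_num
      rw [this, h3, neg_zero]
    · simp [h]
  rw [Fintype.card_congr (Equiv.subtypeEquivRight e), Fintype.card_fin_lt_of_le hi]

/-- a scalar matrix -/
def IsScal (A : Matrix (Fin n) (Fin n) F) : Prop := ∃ c : F, A = c • 1

theorem not_isScal_dmat (h2 : (2 : F) ≠ 0) (i : ℕ) (hi1 : 1 ≤ i) (hin : i < n) :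
    ¬ IsScal (dmat n i : Matrix (Fin n) (Fin n) F) := by
  rintro ⟨c, hc⟩
  have h0 := congrFun (congrFun hc ⟨0, by omega⟩) ⟨0, by omega⟩
  have h1 := congrFun (congrFun hc ⟨i, hin⟩) ⟨i, hin⟩
  simp only [dmat, Matrix.diagonal_apply_eq, Matrix.smul_apply, Matrix.one_apply_eq,
    smul_eq_mul, mul_one] at h0 h1
  rw [if_pos (by omega)] at h0
  rw [if_neg (by omega)] at h1
  apply h2
  rw [← h0] at h1
  linear_combination h1

theorem rank_conj (y : GL (Fin n) F) (A : Matrix (Fin n) (Fin n) F) :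
    ((y : Matrix (Fin n) (Fin n) F) * A * ((y⁻¹ : GL (Fin n) F) : Matrix (Fin n) (Fin n) F)).rank =
      A.rank := by
  have hy : IsUnit (y : Matrix (Fin n) (Fin n) F).det := Matrix.isUnits_det_units y
  have hy' : IsUnit ((y⁻¹ : GL (Fin n) F) : Matrix (Fin n) (Fin n) F).det :=
    Matrix.isUnits_det_units y⁻¹
  rw [Matrix.rank_mul_eq_left_of_isUnit_det _ _ hy', Matrix.rank_mul_eq_right_of_isUnit_det _ _ hy]

theorem rank_neg' (A : Matrix (Fin n) (Fin n) F) : (-A).rank = A.rank := by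
  have h1 : IsUnit ((-1 : Matrix (Fin n) (Fin n) F)).det := by
    rw [Matrix.det_neg, Matrix.det_one, mul_one]
    exact (isUnit_one.neg).pow _
  have := Matrix.rank_mul_eq_left_of_isUnit_det (-1 : Matrix (Fin n) (Fin n) F) A h1
  rwa [mul_neg, mul_one] at this

theorem eq_zero_of_rank_eq_zero (A : Matrix (Fin n) (Fin n) F) (h : A.rank = 0) : A = 0 := by
  have h1 := finrank_ker_toLin' A
  have h2 : finrank F (ker (Matrix.toLin' A)) = finrank F (Fin n → F) := by
    rw [Module.finrank_fin_fun]; omega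
  have h3 := Submodule.eq_top_of_finrank_eq h2
  have h4 : Matrix.toLin' A = 0 := LinearMap.ker_eq_top.1 h3
  have : Matrix.toLin' A = Matrix.toLin' 0 := by rw [h4, map_zero]
  exact Matrix.toLin'.injective this

/-- for an involution, the ranks of `h - 1` and `h + 1` add up to `n` -/
theorem rank_sub_add_rank_add (h2 : (2 : F) ≠ 0) (A : Matrix (Fin n) (Fin n) F) (hA : A * A = 1) :
    (A - 1).rank + (A + 1).rank = n := by
  have hfa : (Matrix.toLin' A : Module.End F (Fin n → F)) * Matrix.toLin' A = 1 := by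
    rw [Module.End.mul_eq_comp, ← Matrix.toLin'_mul, hA, Matrix.toLin'_one]; rfl
  have hc := Submodule.finrank_add_eq_of_isCompl (isCompl_eigen h2 _ hfa)
  rw [Module.finrank_fin_fun] at hc
  have e1 : (Matrix.toLin' A : Module.End F (Fin n → F)) + 1 = Matrix.toLin' (A + 1) := by
    rw [map_add, Matrix.toLin'_one]; rfl
  have e2 : (Matrix.toLin' A : Module.End F (Fin n → F)) - 1 = Matrix.toLin' (A - 1) := by
    rw [map_sub, Matrix.toLin'_one]; rfl
  rw [e1, e2] at hc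
  have := finrank_ker_toLin' (A + 1)
  have := finrank_ker_toLin' (A - 1)
  omega

end

section quotient
variable {F : Type*} [Field F] {n : ℕ}

/-- scalar elements of `GL` -/
noncomputable def scGL (n : ℕ) (c : F) (hc : c ≠ 0) : GL (Fin n) F :=
  Matrix.GeneralLinearGroup.scalar (Fin n) (Units.mk0 c hc)

theorem scGL_coe (c : F) (hc : c ≠ 0) :
    ((scGL n c hc : GL (Fin n) F) : Matrix (Fin n) (Fin n) F) = c • 1 := by
  unfold scGL
  rw [Matrix.GeneralLinearGroup.coe_scalar, Matrix.scalar_apply, Matrix.smul_one_eq_diagonal]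
  rfl

theorem mem_center_iff_isScal (g : GL (Fin n) F) :
    g ∈ Subgroup.center (GL (Fin n) F) ↔ IsScal (g : Matrix (Fin n) (Fin n) F) := by
  rw [Matrix.GeneralLinearGroup.mem_center_iff_val_mem_range_scalar]
  constructor
  · rintro ⟨c, hc⟩
    refine ⟨c, ?_⟩
    rw [← hc, Matrix.scalar_apply, Matrix.smul_one_eq_diagonal]
  · rintro ⟨c, hc⟩
    refine ⟨c, ?_⟩
    rw [hc, Matrix.scalar_apply, Matrix.smul_one_eq_diagonal]

theorem scGL_mem_center (c : F) (hc : c ≠ 0) :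
    (scGL n c hc : GL (Fin n) F) ∈ Subgroup.center (GL (Fin n) F) := by
  rw [mem_center_iff_isScal]
  exact ⟨c, scGL_coe c hc⟩

theorem mk_scGL_mul (c : F) (hc : c ≠ 0) (g : GL (Fin n) F) :
    (QuotientGroup.mk (scGL n c hc * g) : GL (Fin n) F ⧸ Subgroup.center (GL (Fin n) F)) =
      QuotientGroup.mk g := by
  rw [QuotientGroup.mk_mul, (QuotientGroup.eq_one_iff _).2 (scGL_mem_center c hc), one_mul]

theorem mk_eq_one_iff (g : GL (Fin n) F) :
    (QuotientGroup.mk g : GL (Fin n) F ⧸ Subgroup.center (GL (Fin n) F)) = 1 ↔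
      IsScal (g : Matrix (Fin n) (Fin n) F) := by
  rw [QuotientGroup.eq_one_iff, mem_center_iff_isScal]

theorem orderOf_mk_eq_two_iff (g : GL (Fin n) F) :
    orderOf (QuotientGroup.mk g : GL (Fin n) F ⧸ Subgroup.center (GL (Fin n) F)) = 2 ↔
      ¬ IsScal (g : Matrix (Fin n) (Fin n) F) ∧
        IsScal ((g : Matrix (Fin n) (Fin n) F) * (g : Matrix (Fin n) (Fin n) F)) := by
  have : Fact (Nat.Prime 2) := ⟨Nat.prime_two⟩
  rw [orderOf_eq_prime_iff, ← mk_eq_one_iff, ← QuotientGroup.mk_pow, mk_eq_one_iff, pow_two,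
    Units.val_mul, and_comm]

/-- conjugacy in the quotient, unfolded -/
theorem exists_of_isConj_mk (a b : GL (Fin n) F)
    (h : IsConj (QuotientGroup.mk a : GL (Fin n) F ⧸ Subgroup.center (GL (Fin n) F))
      (QuotientGroup.mk b)) :
    ∃ (y : GL (Fin n) F) (c : F), c ≠ 0 ∧ (b : Matrix (Fin n) (Fin n) F) =
      c • ((y : Matrix (Fin n) (Fin n) F) * (a : Matrix (Fin n) (Fin n) F) *
        ((y⁻¹ : GL (Fin n) F) : Matrix (Fin n) (Fin n) F)) := by
  obtain ⟨yq, hyq⟩ := isConj_iff.1 h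
  obtain ⟨y, rfl⟩ := QuotientGroup.mk_surjective yq
  rcases Nat.eq_zero_or_pos n with hn | hn
  · subst hn
    exact ⟨y, 1, one_ne_zero, Subsingleton.elim _ _⟩
  rw [← QuotientGroup.mk_inv, ← QuotientGroup.mk_mul, ← QuotientGroup.mk_mul,
    QuotientGroup.eq, mem_center_iff_isScal] at hyq
  obtain ⟨c, hc⟩ := hyq
  have hc0 : c ≠ 0 := by
    rintro rfl
    rw [zero_smul] at hc
    have h1 : IsUnit (((y * a * y⁻¹)⁻¹ * b : GL (Fin n) F) : Matrix (Fin n) (Fin n) F).det :=
      Matrix.isUnits_det_units _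
    haveI : Nonempty (Fin n) := ⟨⟨0, hn⟩⟩
    rw [hc, Matrix.det_zero] at h1
    exact not_isUnit_zero h1
  refine ⟨y, c, hc0, ?_⟩
  have h2 : b = (y * a * y⁻¹) * ((y * a * y⁻¹)⁻¹ * b) := by group
  have h3 := congrArg (fun z : GL (Fin n) F => (z : Matrix (Fin n) (Fin n) F)) h2
  simp only [Units.val_mul] at h3
  rw [h3]
  simp only [Units.val_mul] at hc
  rw [hc, Matrix.mul_smul, Matrix.mul_one]

end quotient

section main
variable {F : Type*} [Field F] {n : ℕ}

theorem conj_mul_conj (y : GL (Fin n) F) (A B : Matrix (Fin n) (Fin n) F) :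
    ((y : Matrix (Fin n) (Fin n) F) * A * ((y⁻¹ : GL (Fin n) F) : Matrix (Fin n) (Fin n) F)) *
      ((y : Matrix (Fin n) (Fin n) F) * B * ((y⁻¹ : GL (Fin n) F) : Matrix (Fin n) (Fin n) F)) =
      (y : Matrix (Fin n) (Fin n) F) * (A * B) *
        ((y⁻¹ : GL (Fin n) F) : Matrix (Fin n) (Fin n) F) := by
  have h1 : ((y⁻¹ : GL (Fin n) F) : Matrix (Fin n) (Fin n) F) * (y : Matrix (Fin n) (Fin n) F) = 1 :=
    Units.inv_mul y
  calc _ = (y : Matrix (Fin n) (Fin n) F) * A *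
        (((y⁻¹ : GL (Fin n) F) : Matrix (Fin n) (Fin n) F) * (y : Matrix (Fin n) (Fin n) F)) * B *
          ((y⁻¹ : GL (Fin n) F) : Matrix (Fin n) (Fin n) F) := by
        simp only [Matrix.mul_assoc]
    _ = _ := by rw [h1, Matrix.mul_one]; simp only [Matrix.mul_assoc]

theorem conj_one (y : GL (Fin n) F) :
    (y : Matrix (Fin n) (Fin n) F) * 1 * ((y⁻¹ : GL (Fin n) F) : Matrix (Fin n) (Fin n) F) = 1 := by
  rw [Matrix.mul_one]; exact Units.mul_inv y

theorem conj_add_one (y : GL (Fin n) F) (A : Matrix (Fin n) (Fin n) F) :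
    (y : Matrix (Fin n) (Fin n) F) * (A + 1) * ((y⁻¹ : GL (Fin n) F) : Matrix (Fin n) (Fin n) F) =
      (y : Matrix (Fin n) (Fin n) F) * A * ((y⁻¹ : GL (Fin n) F) : Matrix (Fin n) (Fin n) F) + 1 := by
  rw [Matrix.mul_add, Matrix.add_mul, conj_one]

theorem smul_one_inj (hn : 1 ≤ n) (a b : F)
    (h : a • (1 : Matrix (Fin n) (Fin n) F) = b • 1) : a = b := by
  have := congrFun (congrFun h ⟨0, hn⟩) ⟨0, hn⟩
  simpa using this

theorem orderOf_mk_dGL (h2 : (2 : F) ≠ 0) (i : ℕ) (hi1 : 1 ≤ i) (hin : i < n) :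
    orderOf (QuotientGroup.mk (dGL n i) : GL (Fin n) F ⧸ Subgroup.center (GL (Fin n) F)) = 2 := by
  rw [orderOf_mk_eq_two_iff]
  refine ⟨not_isScal_dmat h2 i hi1 hin, ⟨1, ?_⟩⟩
  rw [dGL_coe, dmat_mul_self, one_smul]

theorem orderOf_mk_of_nonsplit (hn : 1 ≤ n) (c : GL (Fin n) F) (μ₀ : F) (hμ₀ : ¬ IsSquare μ₀)
    (hc : (c : Matrix (Fin n) (Fin n) F) * (c : Matrix (Fin n) (Fin n) F) = μ₀ • 1) :
    orderOf (QuotientGroup.mk c : GL (Fin n) F ⧸ Subgroup.center (GL (Fin n) F)) = 2 := by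
  rw [orderOf_mk_eq_two_iff]
  refine ⟨?_, ⟨μ₀, hc⟩⟩
  rintro ⟨k, hk⟩
  apply hμ₀
  refine ⟨k, ?_⟩
  rw [hk, Matrix.smul_mul, Matrix.mul_smul, Matrix.mul_one, smul_smul] at hc
  exact (smul_one_inj hn _ _ hc).symm

theorem eq_of_isConj_dGL (h2 : (2 : F) ≠ 0) (i j : ℕ) (hi1 : 1 ≤ i) (hi : i ≤ n / 2)
    (hj : j ≤ n / 2)
    (h : IsConj (QuotientGroup.mk (dGL n i) : GL (Fin n) F ⧸ Subgroup.center (GL (Fin n) F))
      (QuotientGroup.mk (dGL n j))) : i = j := by
  have hn : 1 ≤ n := by omega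
  obtain ⟨y, c, hc0, hb⟩ := exists_of_isConj_mk _ _ h
  rw [dGL_coe, dGL_coe] at hb
  set A := (y : Matrix (Fin n) (Fin n) F) * dmat n i *
    ((y⁻¹ : GL (Fin n) F) : Matrix (Fin n) (Fin n) F) with hA
  have hAA : A * A = 1 := by rw [hA, conj_mul_conj, dmat_mul_self, conj_one]
  have hcc : c * c = 1 := by
    have h1 := dmat_mul_self (F := F) n j
    rw [hb, Matrix.smul_mul, Matrix.mul_smul, hAA, smul_smul] at h1
    have h3 : (c * c) • (1 : Matrix (Fin n) (Fin n) F) = (1 : F) • 1 := by rw [h1, one_smul]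
    exact smul_one_inj hn _ _ h3
  have hA1 : A + 1 = (y : Matrix (Fin n) (Fin n) F) * (dmat n i + 1) *
      ((y⁻¹ : GL (Fin n) F) : Matrix (Fin n) (Fin n) F) := by rw [conj_add_one]
  have hrA : (A + 1).rank = n - i := by
    rw [hA1, rank_conj, rank_dmat_add_one h2 i (by omega)]
  have hc : (c - 1) * (c + 1) = 0 := by linear_combination hcc
  rcases mul_eq_zero.1 hc with h1 | h1
  · have hc1 : c = 1 := sub_eq_zero.1 h1
    rw [hc1, one_smul] at hb
    have h3 := rank_dmat_add_one (F := F) h2 j (by omega : j ≤ n)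
    rw [hb, hrA] at h3
    omega
  · have hc1 : c = -1 := eq_neg_of_add_eq_zero_left h1
    rw [hc1, neg_one_smul] at hb
    have h3 := rank_dmat_sub_one (F := F) h2 j (by omega : j ≤ n)
    have h4 : (dmat n j : Matrix (Fin n) (Fin n) F) - 1 = -(A + 1) := by rw [hb]; abel
    rw [h4, rank_neg', hrA] at h3
    omega

theorem not_isConj_dGL_nonsplit (hn : 1 ≤ n) (i : ℕ) (c : GL (Fin n) F) (μ₀ : F)
    (hμ₀ : ¬ IsSquare μ₀)
    (hc : (c : Matrix (Fin n) (Fin n) F) * (c : Matrix (Fin n) (Fin n) F) = μ₀ • 1)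
    (h : IsConj (QuotientGroup.mk (dGL n i) : GL (Fin n) F ⧸ Subgroup.center (GL (Fin n) F))
      (QuotientGroup.mk c)) : False := by
  obtain ⟨y, k, hk0, hb⟩ := exists_of_isConj_mk _ _ h
  rw [dGL_coe] at hb
  set A := (y : Matrix (Fin n) (Fin n) F) * dmat n i *
    ((y⁻¹ : GL (Fin n) F) : Matrix (Fin n) (Fin n) F) with hA
  have hAA : A * A = 1 := by rw [hA, conj_mul_conj, dmat_mul_self, conj_one]
  rw [hb, Matrix.smul_mul, Matrix.mul_smul, hAA, smul_smul] at hc
  exact hμ₀ ⟨k, (smul_one_inj hn _ _ hc).symm⟩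

/-- existence of a non-split square root of a scalar in even dimension -/
theorem exists_nonsplit_root (hn : Even n) (μ₀ : F) (hμ₀ : μ₀ ≠ 0) :
    ∃ c : GL (Fin n) F,
      (c : Matrix (Fin n) (Fin n) F) * (c : Matrix (Fin n) (Fin n) F) = μ₀ • 1 := by
  obtain ⟨m, rfl⟩ := hn
  set A : Matrix (Fin m ⊕ Fin m) (Fin m ⊕ Fin m) F :=
    Matrix.fromBlocks 0 1 (μ₀ • 1) 0 with hA
  have hAA : A * A = μ₀ • 1 := by
    rw [hA, Matrix.fromBlocks_multiply]
    simp only [Matrix.zero_mul, Matrix.mul_zero, Matrix.one_mul, Matrix.mul_one, zero_add, add_zero]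
    rw [← Matrix.fromBlocks_one, Matrix.fromBlocks_smul, smul_zero]
  set C : Matrix (Fin (m + m)) (Fin (m + m)) F :=
    Matrix.reindexAlgEquiv F F finSumFinEquiv A with hC
  have hCC : C * C = μ₀ • 1 := by
    rw [hC, ← map_mul, hAA, map_smul, map_one]
  have h1 : C * (μ₀⁻¹ • C) = 1 := by
    rw [Matrix.mul_smul, hCC, smul_smul, inv_mul_cancel₀ hμ₀, one_smul]
  have h2 : (μ₀⁻¹ • C) * C = 1 := by
    rw [Matrix.smul_mul, hCC, smul_smul, inv_mul_cancel₀ hμ₀, one_smul]
  exact ⟨⟨C, μ₀⁻¹ • C, h1, h2⟩, hCC⟩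

theorem classify_split (h2 : (2 : F) ≠ 0) (h : GL (Fin n) F)
    (hh : (h : Matrix (Fin n) (Fin n) F) * (h : Matrix (Fin n) (Fin n) F) = 1)
    (hns : ¬ IsScal (h : Matrix (Fin n) (Fin n) F)) :
    ∃ i, 1 ≤ i ∧ i ≤ n / 2 ∧
      IsConj (QuotientGroup.mk h : GL (Fin n) F ⧸ Subgroup.center (GL (Fin n) F))
        (QuotientGroup.mk (dGL n i)) := by
  have hsum := rank_sub_add_rank_add h2 _ hh
  have hm0 : ((h : Matrix (Fin n) (Fin n) F) - 1).rank ≠ 0 := by
    intro h0
    apply hns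
    refine ⟨1, ?_⟩
    rw [one_smul]
    exact sub_eq_zero.1 (eq_zero_of_rank_eq_zero _ h0)
  have hp0 : ((h : Matrix (Fin n) (Fin n) F) + 1).rank ≠ 0 := by
    intro h0
    apply hns
    refine ⟨-1, ?_⟩
    rw [neg_one_smul]
    exact eq_neg_of_add_eq_zero_left (eq_zero_of_rank_eq_zero _ h0)
  by_cases hcase : ((h : Matrix (Fin n) (Fin n) F) - 1).rank ≤ n / 2
  · refine ⟨((h : Matrix (Fin n) (Fin n) F) - 1).rank, by omega, hcase, ?_⟩
    apply MonoidHom.map_isConj (QuotientGroup.mk' (Subgroup.center (GL (Fin n) F)))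
    apply isConj_of_invol h2 _ _ hh
    · rw [dGL_coe]; exact dmat_mul_self n _
    · rw [dGL_coe, rank_dmat_add_one h2 _ (by omega)]
      omega
  · refine ⟨((h : Matrix (Fin n) (Fin n) F) + 1).rank, by omega, by omega, ?_⟩
    have hneg : (-1 : F) ≠ 0 := neg_ne_zero.2 one_ne_zero
    rw [← mk_scGL_mul (-1) hneg h]
    apply MonoidHom.map_isConj (QuotientGroup.mk' (Subgroup.center (GL (Fin n) F)))
    have hval : ((scGL n (-1 : F) hneg * h : GL (Fin n) F) : Matrix (Fin n) (Fin n) F) =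
        -(h : Matrix (Fin n) (Fin n) F) := by
      rw [Units.val_mul, scGL_coe, Matrix.smul_mul, Matrix.one_mul, neg_one_smul]
    apply isConj_of_invol h2
    · rw [hval, neg_mul_neg, hh]
    · rw [dGL_coe]; exact dmat_mul_self n _
    · rw [hval, dGL_coe, rank_dmat_add_one h2 _ (by omega)]
      have : -(h : Matrix (Fin n) (Fin n) F) + 1 = -((h : Matrix (Fin n) (Fin n) F) - 1) := by abel
      rw [this, rank_neg']
      omega

end main

theorem card_classes_of_reps {P : Type*} [Group P] (r : ℕ → P) (N : ℕ)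
    (hA : ∀ k < N, orderOf (r k) = 2)
    (hB : ∀ k < N, ∀ k' < N, IsConj (r k) (r k') → k = k')
    (hC : ∀ x : P, orderOf x = 2 → ∃ k < N, IsConj x (r k)) :
    Nat.card {C : ConjClasses P // ∃ g : P, ConjClasses.mk g = C ∧ orderOf g = 2} = N := by
  classical
  have hS : {C : ConjClasses P | ∃ g : P, ConjClasses.mk g = C ∧ orderOf g = 2} =
      ↑((Finset.range N).image (fun k => ConjClasses.mk (r k))) := by
    ext C
    simp only [Set.mem_setOf_eq, Finset.coe_image, Finset.coe_range, Set.mem_image, Set.mem_Iio]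
    constructor
    · rintro ⟨g, rfl, hg⟩
      obtain ⟨k, hk, hc⟩ := hC g hg
      exact ⟨k, hk, (ConjClasses.mk_eq_mk_iff_isConj.2 hc).symm⟩
    · rintro ⟨k, hk, rfl⟩
      exact ⟨r k, rfl, hA k hk⟩
  change Nat.card ↥{C : ConjClasses P | ∃ g : P, ConjClasses.mk g = C ∧ orderOf g = 2} = N
  rw [Nat.card_coe_set_eq, hS, Set.ncard_coe_finset, Finset.card_image_of_injOn, Finset.card_range]
  intro k hk k' hk' h
  exact hB k (by simpa using hk) k' (by simpa using hk') (ConjClasses.mk_eq_mk_iff_isConj.1 h)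

section final
variable {F : Type*} [Field F] [Fintype F] {n : ℕ}

theorem classify (hF : ringChar F ≠ 2) (hn : 2 ≤ n) (μ₀ : F) (hμ₀ : ¬ IsSquare μ₀)
    (g : GL (Fin n) F)
    (hg : orderOf (QuotientGroup.mk g : GL (Fin n) F ⧸ Subgroup.center (GL (Fin n) F)) = 2) :
    (∃ i, 1 ≤ i ∧ i ≤ n / 2 ∧
      IsConj (QuotientGroup.mk g : GL (Fin n) F ⧸ Subgroup.center (GL (Fin n) F))
        (QuotientGroup.mk (dGL n i))) ∨
    (Even n ∧ ∀ c : GL (Fin n) F,
      (c : Matrix (Fin n) (Fin n) F) * (c : Matrix (Fin n) (Fin n) F) = μ₀ • 1 →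
      IsConj (QuotientGroup.mk g : GL (Fin n) F ⧸ Subgroup.center (GL (Fin n) F))
        (QuotientGroup.mk c)) := by
  have h2 : (2 : F) ≠ 0 := Ring.two_ne_zero hF
  have hn1 : 1 ≤ n := by omega
  have hμ₀0 : μ₀ ≠ 0 := fun h => hμ₀ (h ▸ IsSquare.zero)
  rw [orderOf_mk_eq_two_iff] at hg
  obtain ⟨hns, μ, hμ⟩ := hg
  have hμ0 : μ ≠ 0 := by
    rintro rfl
    rw [zero_smul] at hμ
    have h1 : IsUnit ((g * g : GL (Fin n) F) : Matrix (Fin n) (Fin n) F).det :=
      Matrix.isUnits_det_units _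
    haveI : Nonempty (Fin n) := ⟨⟨0, hn1⟩⟩
    rw [Units.val_mul, hμ, Matrix.det_zero] at h1
    exact not_isUnit_zero h1
  by_cases hsq : IsSquare μ
  · left
    obtain ⟨l, hl⟩ := hsq
    have hl0 : l ≠ 0 := by
      rintro rfl
      rw [mul_zero] at hl
      exact hμ0 hl
    have hli : l⁻¹ ≠ 0 := inv_ne_zero hl0
    have hval : ((scGL n l⁻¹ hli * g : GL (Fin n) F) : Matrix (Fin n) (Fin n) F) =
        l⁻¹ • (g : Matrix (Fin n) (Fin n) F) := by
      rw [Units.val_mul, scGL_coe, Matrix.smul_mul, Matrix.one_mul]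
    have hh : ((scGL n l⁻¹ hli * g : GL (Fin n) F) : Matrix (Fin n) (Fin n) F) *
        ((scGL n l⁻¹ hli * g : GL (Fin n) F) : Matrix (Fin n) (Fin n) F) = 1 := by
      rw [hval, Matrix.smul_mul, Matrix.mul_smul, hμ, smul_smul, smul_smul, hl]
      have : l⁻¹ * l⁻¹ * (l * l) = 1 := by field_simp
      rw [this, one_smul]
    have hns' : ¬ IsScal ((scGL n l⁻¹ hli * g : GL (Fin n) F) : Matrix (Fin n) (Fin n) F) := by
      rintro ⟨k, hk⟩
      apply hns
      refine ⟨l * k, ?_⟩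
      rw [hval] at hk
      have := congrArg (fun M : Matrix (Fin n) (Fin n) F => l • M) hk
      simp only [smul_smul, mul_inv_cancel₀ hl0, one_smul] at this
      exact this
    obtain ⟨i, hi1, hi2, hc⟩ := classify_split h2 _ hh hns'
    rw [mk_scGL_mul] at hc
    exact ⟨i, hi1, hi2, hc⟩
  · right
    refine ⟨even_of_nonsplit g μ hsq hμ, ?_⟩
    intro c hc
    -- μ = μ₀ s²
    obtain ⟨r, hr⟩ := Cfsg.Agent.Helper12.isSquare_mul_of_not_isSquare hF μ μ₀ hsq hμ₀
    have hr0 : r ≠ 0 := by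
      rintro rfl
      rw [mul_zero] at hr
      exact (mul_ne_zero hμ0 hμ₀0) hr
    have hs0 : r / μ₀ ≠ 0 := div_ne_zero hr0 hμ₀0
    have hsi : (r / μ₀)⁻¹ ≠ 0 := inv_ne_zero hs0
    have hval : ((scGL n (r / μ₀)⁻¹ hsi * g : GL (Fin n) F) : Matrix (Fin n) (Fin n) F) =
        (r / μ₀)⁻¹ • (g : Matrix (Fin n) (Fin n) F) := by
      rw [Units.val_mul, scGL_coe, Matrix.smul_mul, Matrix.one_mul]
    have hh : ((scGL n (r / μ₀)⁻¹ hsi * g : GL (Fin n) F) : Matrix (Fin n) (Fin n) F) *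
        ((scGL n (r / μ₀)⁻¹ hsi * g : GL (Fin n) F) : Matrix (Fin n) (Fin n) F) = μ₀ • 1 := by
      rw [hval, Matrix.smul_mul, Matrix.mul_smul, hμ, smul_smul, smul_smul]
      congr 1
      field_simp
      linear_combination hr
    rw [← mk_scGL_mul (r / μ₀)⁻¹ hsi g]
    apply MonoidHom.map_isConj (QuotientGroup.mk' (Subgroup.center (GL (Fin n) F)))
    exact isConj_of_nonsplit _ _ μ₀ hμ₀ hh hc

end final

theorem result {F : Type*} [Field F] [Fintype F] {q : ℕ} (hF : Fintype.card F = q) (hq : Odd q) {n : ℕ} (hn : 2 ≤ n) : Nat.card {C : ConjClasses (GL (Fin n) F ⧸ Subgroup.center (GL (Fin n) F)) // ∃ g : GL (Fin n) F ⧸ Subgroup.center (GL (Fin n) F), ConjClasses.mk g = C ∧ orderOf g = 2} = n / 2 + (if Even n then 1 else 0) := by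
  have hchar : ringChar F ≠ 2 := by
    intro h
    rw [FiniteField.even_card_iff_char_two, hF] at h
    rcases hq with ⟨k, hk⟩
    omega
  have h2 : (2 : F) ≠ 0 := Ring.two_ne_zero hchar
  obtain ⟨μ₀, hμ₀⟩ := FiniteField.exists_nonsquare (F := F) hchar
  have hμ₀0 : μ₀ ≠ 0 := fun h => hμ₀ (h ▸ IsSquare.zero)
  have hn1 : 1 ≤ n := by omega
  by_cases he : Even n
  · rw [if_pos he]
    obtain ⟨c₀, hc₀⟩ := exists_nonsplit_root (F := F) he μ₀ hμ₀0
    apply card_classes_of_reps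
      (fun k => if k < n / 2 then
        (QuotientGroup.mk (dGL n (k + 1)) : GL (Fin n) F ⧸ Subgroup.center (GL (Fin n) F))
        else QuotientGroup.mk c₀)
    · intro k hk
      split_ifs with h
      · exact orderOf_mk_dGL h2 (k + 1) (by omega) (by omega)
      · exact orderOf_mk_of_nonsplit hn1 c₀ μ₀ hμ₀ hc₀
    · intro k hk k' hk' hc
      split_ifs at hc with h h'
      · have := eq_of_isConj_dGL h2 (k + 1) (k' + 1) (by omega) (by omega) (by omega) hc
        omega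
      · exact (not_isConj_dGL_nonsplit hn1 _ c₀ μ₀ hμ₀ hc₀ hc).elim
      · exact (not_isConj_dGL_nonsplit hn1 _ c₀ μ₀ hμ₀ hc₀ hc.symm).elim
      · omega
    · intro x hx
      obtain ⟨g, rfl⟩ := QuotientGroup.mk_surjective x
      rcases classify hchar hn μ₀ hμ₀ g hx with ⟨i, hi1, hi2, hc⟩ | ⟨-, hc⟩
      · refine ⟨i - 1, by omega, ?_⟩
        rw [if_pos (by omega)]
        have : i - 1 + 1 = i := by omega
        rw [this]
        exact hc
      · refine ⟨n / 2, by omega, ?_⟩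
        rw [if_neg (by omega)]
        exact hc c₀ hc₀
  · rw [if_neg he, add_zero]
    apply card_classes_of_reps
      (fun k => (QuotientGroup.mk (dGL n (k + 1)) : GL (Fin n) F ⧸ Subgroup.center (GL (Fin n) F)))
    · intro k hk
      exact orderOf_mk_dGL h2 (k + 1) (by omega) (by omega)
    · intro k hk k' hk' hc
      have := eq_of_isConj_dGL h2 (k + 1) (k' + 1) (by omega) (by omega) (by omega) hc
      omega
    · intro x hx
      obtain ⟨g, rfl⟩ := QuotientGroup.mk_surjective x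
      rcases classify hchar hn μ₀ hμ₀ g hx with ⟨i, hi1, hi2, hc⟩ | ⟨he', -⟩
      · refine ⟨i - 1, by omega, ?_⟩
        have : i - 1 + 1 = i := by omega
        rw [this]
        exact hc
      · exact (he he').elim

end Cfsg.Agent.S2577
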