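import Mathlib
import Cfsg.Statements.S2322
import Cfsg.Agent.Lib.Helper12.SL2Three

set_option autoImplicit false
open Cfsg

namespace Cfsg.Agent.S2322

open Cfsg.Agent.Helper12 Cfsg.Agent.Helper24 Cfsg.Agent.Helper5

/-- Over a finite field F with q elements, q odd: an irreducible complex character of SL₂ of degree q − 1 or (q − 1)/2 vanishes at every diagonal matrix diag(a, a⁻¹) with a² ≠ 1, and one of degree q + 1 or (q + 1)/2 vanishes at every matrix with no eigenvector over F. -/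
theorem result {F : Type*} [Field F] [Fintype F] (hodd : Odd (Fintype.card F)) (χ : Matrix.SpecialLinearGroup (Fin 2) F → ℂ) (hχ : Cfsg.IsIrrCharacter (Matrix.SpecialLinearGroup (Fin 2) F) χ) (g : Matrix.SpecialLinearGroup (Fin 2) F) :
    ((χ 1 = (Fintype.card F : ℂ) - 1 ∨ χ 1 = (((Fintype.card F - 1) / 2 : ℕ) : ℂ)) →
      (g : Matrix (Fin 2) (Fin 2) F) 0 1 = 0 → (g : Matrix (Fin 2) (Fin 2) F) 1 0 = 0 → (g : Matrix (Fin 2) (Fin 2) F) 0 0 ^ 2 ≠ 1 → χ g = 0) ∧
    ((χ 1 = (Fintype.card F : ℂ) + 1 ∨ χ 1 = (((Fintype.card F + 1) / 2 : ℕ) : ℂ)) →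
      (∀ (c : F) (v : Fin 2 → F), v ≠ 0 → (g : Matrix (Fin 2) (Fin 2) F).mulVec v ≠ c • v) → χ g = 0) := by
  classical
  have hF : ringChar F ≠ 2 := by
    intro h
    have := FiniteField.even_card_of_char_two h
    rw [Nat.odd_iff] at hodd
    omega
  have h2 : (2 : F) ≠ 0 := Ring.two_ne_zero hF
  obtain ⟨k, hk⟩ := hodd
  have hq : 2 ≤ Fintype.card F := Fintype.one_lt_card
  constructor
  · intro hdeg h01 h10 hsq
    have hd := SL2_diag_entries g h01
    have h00 : (g : Matrix (Fin 2) (Fin 2) F) 0 0 ≠ 0 := by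
      intro h0
      rw [h0, zero_mul] at hd
      exact zero_ne_one hd
    have hne : (g : Matrix (Fin 2) (Fin 2) F) 0 0 ≠ (g : Matrix (Fin 2) (Fin 2) F) 1 1 := by
      intro h
      apply hsq
      rw [← h] at hd
      rw [pow_two]
      exact hd
    have htr : (g : Matrix (Fin 2) (Fin 2) F).trace ^ 2 ≠ 4 := by
      rw [Matrix.trace_fin_two]
      intro h
      apply hne
      have : ((g : Matrix (Fin 2) (Fin 2) F) 0 0 - (g : Matrix (Fin 2) (Fin 2) F) 1 1) ^ 2 = 0 := by
        linear_combination h - 4 * hd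
      exact sub_eq_zero.1 ((pow_eq_zero_iff (two_ne_zero)).1 this)
    -- the case `q = 3` is vacuous
    have hvac : Fintype.card F ≠ 3 := by
      intro h3
      apply hsq
      have := FiniteField.pow_card_sub_one_eq_one _ h00
      rwa [h3] at this
    have hcusp : ∀ π : GL (Fin 2) F → ℂ, IsIrrCharacter (GL (Fin 2) F) π → IsCuspidalGL2 π →
        resSL π g = 0 := by
      intro π hπ hc
      rw [resSL_apply]
      apply cuspidal_apply_split hπ hc
      · rw [toGL_coe, h01]
      · rw [toGL_coe, h10]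
      · rw [toGL_coe]; exact hne
    rcases hdeg with h1 | h1
    · have hd' : χ 1 = ((Fintype.card F - 1 : ℕ) : ℂ) := by
        rw [h1, Nat.cast_sub (by omega), Nat.cast_one]
      rcases SL2_degree_cases hχ (Fintype.card F - 1) hd' with
        ⟨h, -⟩ | ⟨h, -⟩ | ⟨h, -⟩ | ⟨h, -⟩ | ⟨-, π, hπ, hc, -, -, hres⟩ | ⟨h, -⟩
      · omega
      · omega
      · omega
      · omega
      · rw [← hres]; exact hcusp π hπ hc
      · omega
    · rcases SL2_degree_cases hχ _ h1 with
        ⟨h, -⟩ | ⟨h, -⟩ | ⟨h, -⟩ | ⟨h, -⟩ | ⟨h, -⟩ | ⟨-, π, hπ, hc, -, -, χ', hP⟩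
      · omega
      · omega
      · omega
      · omega
      · omega
      · have h3 := hP.two_mul_apply g (hP.eq_of_trace_sq_ne hF g htr)
        rw [hcusp π hπ hc] at h3
        have : (2 : ℂ) ≠ 0 := by norm_num
        exact (mul_eq_zero.1 h3).resolve_left this
  · intro hdeg hno
    have hell : IsElliptic g := hno
    have htr := hell.trace_sq_ne h2
    rcases hdeg with h1 | h1
    · rcases SL2_degree_cases hχ (Fintype.card F + 1) (by rw [h1]; simp) with
        ⟨h, -⟩ | ⟨h, -⟩ | ⟨-, μ, -, h⟩ | ⟨h, -⟩ | ⟨h, -⟩ | ⟨h, -⟩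
      · omega
      · omega
      · rw [h]; exact psSL_apply_elliptic μ g hno
      all_goals omega
    · rcases SL2_degree_cases hχ _ h1 with
        ⟨h, -⟩ | ⟨h, -⟩ | ⟨h, -⟩ | ⟨-, μ, -, -, χ', hP⟩ | ⟨h, -⟩ | ⟨h, -⟩
      · omega
      · omega
      · omega
      · have h3 := hP.two_mul_apply g (hP.eq_of_trace_sq_ne hF g htr)
        rw [psSL_apply_elliptic μ g hno] at h3
        have : (2 : ℂ) ≠ 0 := by norm_num
        exact (mul_eq_zero.1 h3).resolve_left this
      · have h3 : Fintype.card F = 3 := by omega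
        apply SL2_three_vanish h3 hχ _ g hell
        rw [h1, h3]
        norm_num
      · omega

end Cfsg.Agent.S2322
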