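import Mathlib
import Cfsg.Statements.S2430
import Cfsg.Agent.Lib.Helper12.SL2Sylow

set_option autoImplicit false
open Cfsg

namespace Cfsg.Agent.S2430

open Cfsg.Agent.Helper12

theorem exists_central_elt {G : Type*} [Group G] [Finite G] {ℓ : ℕ} [Fact ℓ.Prime]
    (P : Sylow ℓ G) (hdvd : ℓ ∣ Nat.card G) :
    ∃ c : G, c ∈ (P : Subgroup G) ∧ c ≠ 1 ∧ (∀ p ∈ (P : Subgroup G), c * p = p * c) ∧
      ∃ k : ℕ, c ^ (ℓ ^ k) = 1 := by
  haveI : Nontrivial (P : Subgroup G) :=
    (Subgroup.nontrivial_iff_ne_bot _).2 (P.ne_bot_of_dvd_card hdvd)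
  haveI := IsPGroup.center_nontrivial P.isPGroup'
  obtain ⟨z, hz⟩ := exists_ne (1 : Subgroup.center (P : Subgroup G))
  refine ⟨((z : (P : Subgroup G)) : G), (z : (P : Subgroup G)).2, ?_, ?_, ?_⟩
  · intro h
    apply hz
    apply Subtype.ext
    apply Subtype.ext
    exact h
  · intro p hp
    have := Subgroup.mem_center_iff.1 z.2 ⟨p, hp⟩
    exact (congrArg Subtype.val this).symm
  · obtain ⟨k, hk⟩ := P.isPGroup' (z : (P : Subgroup G))
    exact ⟨k, by
      have := congrArg Subtype.val hk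
      simpa using this⟩

theorem key {F : Type*} [Field F] [Fintype F] [DecidableEq F] (hF : ringChar F ≠ 2)
    (c : Matrix.SpecialLinearGroup (Fin 2) F) (hr : IsRegularSL c)
    (htr : (c : Matrix (Fin 2) (Fin 2) F).trace ^ 2 ≠ 4)
    (P : Subgroup (Matrix.SpecialLinearGroup (Fin 2) F)) (hcP : c ∈ P) (hP : P ≤ torus c) (m : ℕ)
    (hcard : Nat.card (torus c) = m) (hcyc : IsCyclic (torus c)) :
    Nat.card (Subgroup.centralizer (P : Set (Matrix.SpecialLinearGroup (Fin 2) F))) = m ∧
    IsCyclic (Subgroup.centralizer (P : Set (Matrix.SpecialLinearGroup (Fin 2) F))) ∧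
    Nat.card (Subgroup.normalizer (P : Set (Matrix.SpecialLinearGroup (Fin 2) F))) = 2 * m := by
  rw [centralizer_eq_torus hr.ns P hcP hP, normalizer_eq_normalizer_torus hr P hcP hP,
    card_normalizer_torus hF hr htr, hcard]
  exact ⟨rfl, hcyc, rfl⟩

/-- Let F be a finite field with q elements, q odd, ℓ an odd prime, and P a Sylow ℓ-subgroup of SL₂ over F. If ℓ divides q − 1, the centraliser of P is cyclic of order q − 1 (a split torus) and the normaliser of P has order 2(q − 1); if ℓ divides q + 1, the centraliser of P is cyclic of order q + 1 (a non-split torus) and the normaliser of P has order 2(q + 1). -/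
theorem result {F : Type*} [Field F] [Fintype F] (hodd : Odd (Fintype.card F)) (ℓ : ℕ) [Fact ℓ.Prime] (hℓ : ℓ ≠ 2)
    (P : Sylow ℓ (Matrix.SpecialLinearGroup (Fin 2) F)) :
    (ℓ ∣ Fintype.card F - 1 →
      Nat.card (Subgroup.centralizer ((P : Subgroup (Matrix.SpecialLinearGroup (Fin 2) F)) : Set (Matrix.SpecialLinearGroup (Fin 2) F))) = Fintype.card F - 1 ∧
      IsCyclic (Subgroup.centralizer ((P : Subgroup (Matrix.SpecialLinearGroup (Fin 2) F)) : Set (Matrix.SpecialLinearGroup (Fin 2) F))) ∧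
      Nat.card (Subgroup.normalizer ((P : Subgroup (Matrix.SpecialLinearGroup (Fin 2) F)) : Set (Matrix.SpecialLinearGroup (Fin 2) F))) = 2 * (Fintype.card F - 1)) ∧
    (ℓ ∣ Fintype.card F + 1 →
      Nat.card (Subgroup.centralizer ((P : Subgroup (Matrix.SpecialLinearGroup (Fin 2) F)) : Set (Matrix.SpecialLinearGroup (Fin 2) F))) = Fintype.card F + 1 ∧
      IsCyclic (Subgroup.centralizer ((P : Subgroup (Matrix.SpecialLinearGroup (Fin 2) F)) : Set (Matrix.SpecialLinearGroup (Fin 2) F))) ∧
      Nat.card (Subgroup.normalizer ((P : Subgroup (Matrix.SpecialLinearGroup (Fin 2) F)) : Set (Matrix.SpecialLinearGroup (Fin 2) F))) = 2 * (Fintype.card F + 1)) := by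
  classical
  have hF : ringChar F ≠ 2 := by
    intro h
    have := FiniteField.even_card_of_char_two h
    rw [Nat.odd_iff] at hodd
    omega
  have h2 : (2 : F) ≠ 0 := Ring.two_ne_zero hF
  have hℓp : ℓ.Prime := Fact.out
  obtain ⟨p, hp⟩ := CharP.exists F
  haveI := hp
  obtain ⟨n, hpp, hq⟩ := FiniteField.card F p
  haveI : Fact p.Prime := ⟨hpp⟩
  have hqpos : 2 ≤ Fintype.card F := Fintype.one_lt_card
  have hpq : p ∣ Fintype.card F := by
    rw [hq]
    exact dvd_pow_self p n.ne_zero
  have hcardG : Nat.card (Matrix.SpecialLinearGroup (Fin 2) F) =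
      Fintype.card F * ((Fintype.card F - 1) * (Fintype.card F + 1)) := by
    rw [card_SL2]
    congr 1
    obtain ⟨m, hm⟩ : ∃ m, Fintype.card F = m + 1 := ⟨Fintype.card F - 1, by omega⟩
    rw [hm]
    simp only [Nat.add_sub_cancel]
    have : (m + 1) ^ 2 = m * (m + 1 + 1) + 1 := by ring
    rw [this, Nat.add_sub_cancel]
  have hcop2 : Nat.Coprime ℓ 2 := (Nat.coprime_primes hℓp Nat.prime_two).2 hℓ
  constructor
  · intro hdvd
    have hdvdG : ℓ ∣ Nat.card (Matrix.SpecialLinearGroup (Fin 2) F) := by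
      rw [hcardG]
      exact Dvd.dvd.mul_left (Dvd.dvd.mul_right hdvd _) _
    obtain ⟨c, hcP, hc1, hcomm, k, hk⟩ := exists_central_elt P hdvdG
    -- numerical facts
    have hℓp' : ℓ ≠ p := by
      rintro rfl
      have : ℓ ∣ Fintype.card F - (Fintype.card F - 1) := Nat.dvd_sub hpq hdvd
      have e : Fintype.card F - (Fintype.card F - 1) = 1 := by omega
      rw [e] at this
      exact hℓp.one_lt.ne' (Nat.dvd_one.1 this)
    have hndvd : ¬ ℓ ∣ Fintype.card F + 1 := by
      intro h
      have : ℓ ∣ Fintype.card F + 1 - (Fintype.card F - 1) := Nat.dvd_sub h hdvd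
      have e : Fintype.card F + 1 - (Fintype.card F - 1) = 2 := by omega
      rw [e] at this
      exact hℓ ((Nat.prime_dvd_prime_iff_eq hℓp Nat.prime_two).1 this)
    have hcop1 : Nat.Coprime (ℓ ^ k) (Fintype.card F + 1) :=
      Nat.Coprime.pow_left k ((Nat.Prime.coprime_iff_not_dvd hℓp).2 hndvd)
    have hcop3 : Nat.Coprime (ℓ ^ k) (2 * p) :=
      Nat.Coprime.pow_left k (Nat.Coprime.mul_right hcop2 ((Nat.coprime_primes hℓp hpp).2 hℓp'))
    -- the type of `c`
    have hnell : ¬ IsElliptic c := by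
      intro hell
      exact hc1 (eq_one_of_pow_coprime c _ _ hk (hell.pow_card_add_one hF) hcop1)
    have hroot : ∀ l : F, l ^ 2 - (c : Matrix (Fin 2) (Fin 2) F).trace * l + 1 = 0 → l ^ 2 ≠ 1 := by
      intro l hl hl1
      exact hc1 (eq_one_of_pow_coprime c _ _ hk (SL2_pow_two_char_eq_one p c l hl hl1) hcop3)
    have htr : (c : Matrix (Fin 2) (Fin 2) F).trace ^ 2 ≠ 4 := by
      intro ht
      apply hroot ((c : Matrix (Fin 2) (Fin 2) F).trace / 2)
      · field_simp
        linear_combination -ht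
      · field_simp
        linear_combination ht
    have hev : ∃ (l : F) (v : Fin 2 → F), v ≠ 0 ∧
        (c : Matrix (Fin 2) (Fin 2) F).mulVec v = l • v := by
      by_contra hcon
      apply hnell
      intro l v hv hlv
      exact hcon ⟨l, v, hv, hlv⟩
    obtain ⟨a, ha, hconj⟩ := exists_conj_diagSL hF c htr hev
    obtain ⟨y, hy⟩ := isConj_iff.1 hconj
    have hd : IsSplitReg (diagSL a) := by
      refine ⟨?_, ?_, ?_⟩
      · rw [diagSL_coe]; simp
      · rw [diagSL_coe]; simp
      · rw [diagSL_coe]; simpa using ha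
    have hce : c = y⁻¹ * diagSL a * y⁻¹⁻¹ := by
      rw [← hy]; group
    have hr : IsRegularSL c := by
      rw [hce]
      exact hd.isRegularSL.conj y⁻¹
    have hcard : Nat.card (torus c) = Fintype.card F - 1 := by
      rw [hce, card_torus_conj, hd.card_torus]
    have hcyc : IsCyclic (torus c) := by
      rw [hce]
      exact isCyclic_torus_conj _ _ hd.isCyclic_torus
    have hP : (P : Subgroup (Matrix.SpecialLinearGroup (Fin 2) F)) ≤ torus c := by
      intro x hx
      rw [mem_torus_iff]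
      exact hcomm x hx
    exact key hF c hr htr P hcP hP _ hcard hcyc
  · intro hdvd
    have hdvdG : ℓ ∣ Nat.card (Matrix.SpecialLinearGroup (Fin 2) F) := by
      rw [hcardG]
      exact Dvd.dvd.mul_left (Dvd.dvd.mul_left hdvd _) _
    obtain ⟨c, hcP, hc1, hcomm, k, hk⟩ := exists_central_elt P hdvdG
    have hℓp' : ℓ ≠ p := by
      rintro rfl
      have : ℓ ∣ Fintype.card F + 1 - Fintype.card F := Nat.dvd_sub hdvd hpq
      have e : Fintype.card F + 1 - Fintype.card F = 1 := by omega
      rw [e] at this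
      exact hℓp.one_lt.ne' (Nat.dvd_one.1 this)
    have hndvd : ¬ ℓ ∣ Fintype.card F - 1 := by
      intro h
      have : ℓ ∣ Fintype.card F + 1 - (Fintype.card F - 1) := Nat.dvd_sub hdvd h
      have e : Fintype.card F + 1 - (Fintype.card F - 1) = 2 := by omega
      rw [e] at this
      exact hℓ ((Nat.prime_dvd_prime_iff_eq hℓp Nat.prime_two).1 this)
    have hcop1 : Nat.Coprime (ℓ ^ k) (Fintype.card F - 1) :=
      Nat.Coprime.pow_left k ((Nat.Prime.coprime_iff_not_dvd hℓp).2 hndvd)
    have hcop3 : Nat.Coprime (ℓ ^ k) (2 * p) :=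
      Nat.Coprime.pow_left k (Nat.Coprime.mul_right hcop2 ((Nat.coprime_primes hℓp hpp).2 hℓp'))
    have hell : IsElliptic c := by
      apply isElliptic_of_charpoly
      intro l hl
      by_cases hl1 : l ^ 2 = 1
      · exact hc1 (eq_one_of_pow_coprime c _ _ hk (SL2_pow_two_char_eq_one p c l hl hl1) hcop3)
      · exact hc1 (eq_one_of_pow_coprime c _ _ hk (SL2_pow_card_sub_one_eq_one c l hl hl1) hcop1)
    have hP : (P : Subgroup (Matrix.SpecialLinearGroup (Fin 2) F)) ≤ torus c := by
      intro x hx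
      rw [mem_torus_iff]
      exact hcomm x hx
    exact key hF c hell.isRegularSL (hell.trace_sq_ne h2) P hcP hP _
      (card_centralizer_elliptic hF c hell) (isCyclic_torus hell)

end Cfsg.Agent.S2430
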