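import Mathlib
import Cfsg.Statements.S0600

set_option autoImplicit false
open Cfsg

namespace Cfsg.Agent.S0600

theorem result {G : Type*} [Group G] [Finite G] {p : ℕ} [Fact p.Prime] (V : Subgroup G) [V.Normal] (hV : Cfsg.IsElementaryAbelian p V) (hgen : V = ⨆ S : Sylow p G, V ⊓ Subgroup.centralizer ((S : Subgroup G) : Set G)) : Cfsg.pCore p (G ⧸ Subgroup.centralizer (V : Set G)) = ⊥ := by
  set C := Subgroup.centralizer (V : Set G) with hC
  unfold Cfsg.pCore
  rw [eq_bot_iff]
  apply sSup_le
  rintro N ⟨hNn, hNp⟩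
  have := hNn
  let f : G →* G ⧸ C := QuotientGroup.mk' C
  have hf : Function.Surjective f := QuotientGroup.mk'_surjective C
  set D := N.comap f with hD
  -- D ≤ S ⊔ C for every Sylow S
  have hDS : ∀ S : Sylow p G, D ≤ (S : Subgroup G) ⊔ C := by
    intro S
    have h1 : N ≤ ((S.mapSurjective hf : Sylow p (G ⧸ C)) : Subgroup (G ⧸ C)) :=
      hNp.le_sylow_of_normal _
    rw [Sylow.coe_mapSurjective] at h1
    have h2 := Subgroup.comap_mono (f := f) h1
    rw [Subgroup.comap_map_eq, QuotientGroup.ker_mk'] at h2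
    exact h2
  -- D centralizes V
  have hDC : D ≤ C := by
    rw [hC, Subgroup.le_centralizer_iff]
    conv_lhs => rw [hgen]
    apply iSup_le
    intro S
    rw [← Subgroup.le_centralizer_iff]
    refine (hDS S).trans ?_
    apply sup_le
    · rw [Subgroup.le_centralizer_iff]
      exact inf_le_right
    · rw [hC]
      exact Subgroup.centralizer_le inf_le_left
  have hN : N = D.map f := by
    rw [hD, Subgroup.map_comap_eq_self_of_surjective hf]
  rw [hN]
  have := Subgroup.map_mono (f := f) hDC
  have hCbot : C.map f = ⊥ := by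
    rw [eq_bot_iff]
    rintro _ ⟨c, hc, rfl⟩
    rw [Subgroup.mem_bot]
    exact (QuotientGroup.eq_one_iff c).mpr hc
  rwa [hCbot] at this

end Cfsg.Agent.S0600
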