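import Mathlib
import Cfsg.Statements.S0601
import Cfsg.Agent.Lib.Helper27.Basic
import Cfsg.Agent.Lib.Helper3.Thompson
import Cfsg.Agent.S0600

set_option autoImplicit false
open Cfsg
open scoped Pointwise

namespace Cfsg.Agent.S0601

variable {G : Type*} [Group G]

/-- `Ω₁(Z(S))` in the form used by the statement. -/
def zOmega (p : ℕ) (S : Subgroup G) : Subgroup G :=
  Cfsg.omegaOne p (S ⊓ Subgroup.centralizer (S : Set G))

theorem zOmega_le (p : ℕ) (S : Subgroup G) :
    zOmega p S ≤ S ⊓ Subgroup.centralizer (S : Set G) := by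
  unfold zOmega Cfsg.omegaOne
  rw [Subgroup.closure_le]
  intro x hx
  exact hx.1

theorem conj_zOmega_le {p : ℕ} (S : Sylow p G) (g : G) :
    (zOmega p (S : Subgroup G)).map (MulAut.conj g).toMonoidHom
      ≤ zOmega p ((g • S : Sylow p G) : Subgroup G) := by
  unfold zOmega Cfsg.omegaOne
  rw [MonoidHom.map_closure, Subgroup.closure_le]
  rintro _ ⟨x, ⟨⟨hxS, hxC⟩, hxp⟩, rfl⟩
  apply Subgroup.subset_closure
  have hmem : ∀ y, y ∈ ((g • S : Sylow p G) : Subgroup G) ↔ g⁻¹ * y * g ∈ (S : Subgroup G) := by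
    intro y
    change y ∈ (MulAut.conj g • (S : Subgroup G)) ↔ _
    rw [Subgroup.mem_pointwise_smul_iff_inv_smul_mem]
    simp [MulAut.smul_def]
  refine ⟨⟨?_, ?_⟩, ?_⟩
  · apply (hmem _).mpr
    show g⁻¹ * (g * x * g⁻¹) * g ∈ (S : Subgroup G)
    have : g⁻¹ * (g * x * g⁻¹) * g = x := by group
    rw [this]; exact hxS
  · intro y hy
    have hy' := (hmem y).mp hy
    have := hxC _ hy'
    show y * (g * x * g⁻¹) = g * x * g⁻¹ * y
    calc y * (g * x * g⁻¹) = g * ((g⁻¹ * y * g) * x) * g⁻¹ := by group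
      _ = g * (x * (g⁻¹ * y * g)) * g⁻¹ := by rw [this]
      _ = g * x * g⁻¹ * y := by group
  · show (g * x * g⁻¹) ^ p = 1
    rw [conj_pow, hxp]; group

theorem aux [Finite G] {p : ℕ} [Fact p.Prime]
    (hc : Subgroup.centralizer (Cfsg.pCore p G : Set G) ≤ Cfsg.pCore p G)
    (Vv : Subgroup G) (hVv : Vv = ⨆ S : Sylow p G, zOmega p (S : Subgroup G)) :
    Vv.Normal ∧ Cfsg.IsElementaryAbelian p Vv ∧
    ∀ D : Subgroup G, D.Normal → Subgroup.centralizer (Vv : Set G) ≤ D →
      (∃ k : ℕ, (Subgroup.centralizer (Vv : Set G)).relIndex D = p ^ k) →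
      D = Subgroup.centralizer (Vv : Set G) := by
  classical
  set Q := Cfsg.pCore p G with hQ
  have hQn : Q.Normal := Helper27.pCore_normal p
  have hQp : IsPGroup p Q := Helper27.pCore_isPGroup p
  have hZle : ∀ S : Sylow p G, zOmega p (S : Subgroup G) ≤ Vv := by
    intro S
    rw [hVv]
    exact le_iSup (fun S : Sylow p G => zOmega p (S : Subgroup G)) S
  -- normality
  have hVn : Vv.Normal := by
    have hle : ∀ g : G, Vv.map (MulAut.conj g).toMonoidHom ≤ Vv := by
      intro g
      conv_lhs => rw [hVv]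
      rw [Subgroup.map_iSup]
      apply iSup_le
      intro S
      exact (conj_zOmega_le S g).trans (hZle (g • S))
    refine ⟨fun x hx g => ?_⟩
    exact hle g ⟨x, hx, rfl⟩
  -- elementary abelian
  have hQS : ∀ S : Sylow p G, Q ≤ (S : Subgroup G) := fun S => hQp.le_sylow_of_normal S
  let Z0 : Subgroup G := Q ⊓ Subgroup.centralizer (Q : Set G)
  have hZ0comm : ∀ a ∈ Z0, ∀ b ∈ Z0, a * b = b * a := by
    intro a ha b hb
    exact (hb.2 a ha.1)
  let E : Subgroup G :=
    { carrier := {x | x ∈ Z0 ∧ x ^ p = 1}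
      mul_mem' := by
        rintro a b ⟨ha, hap⟩ ⟨hb, hbp⟩
        refine ⟨Z0.mul_mem ha hb, ?_⟩
        have hcm : Commute a b := hZ0comm a ha b hb
        rw [hcm.mul_pow, hap, hbp, one_mul]
      one_mem' := ⟨Z0.one_mem, one_pow _⟩
      inv_mem' := by
        rintro a ⟨ha, hap⟩
        exact ⟨Z0.inv_mem ha, by rw [inv_pow, hap, inv_one]⟩ }
  have hE : Cfsg.IsElementaryAbelian p E := by
    refine ⟨⟨⟨?_⟩⟩, fun a ha => ha.2⟩
    rintro ⟨a, ha⟩ ⟨b, hb⟩
    apply Subtype.ext
    exact hZ0comm a ha.1 b hb.1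
  have hVE : Vv ≤ E := by
    rw [hVv]
    apply iSup_le
    intro S
    unfold zOmega Cfsg.omegaOne
    rw [Subgroup.closure_le]
    rintro x ⟨⟨hxS, hxC⟩, hxp⟩
    have hxCQ : x ∈ Subgroup.centralizer (Q : Set G) := by
      intro y hy
      exact hxC y (hQS S hy)
    exact ⟨⟨hc hxCQ, hxCQ⟩, hxp⟩
  have hVel : Cfsg.IsElementaryAbelian p Vv := Helper3.isElementaryAbelian_mono hVE hE
  refine ⟨hVn, hVel, ?_⟩
  intro D hDn hCD hk
  obtain ⟨k, hk⟩ := hk
  haveI := hVn
  have hgen : Vv = ⨆ S : Sylow p G, Vv ⊓ Subgroup.centralizer ((S : Subgroup G) : Set G) := by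
    apply le_antisymm
    · conv_lhs => rw [hVv]
      apply iSup_le
      intro S
      have h0 : zOmega p (S : Subgroup G) ≤ Subgroup.centralizer ((S : Subgroup G) : Set G) := by
        intro x hx
        exact (zOmega_le p (S : Subgroup G) hx).2
      have h1 : zOmega p (S : Subgroup G) ≤ Vv ⊓ Subgroup.centralizer ((S : Subgroup G) : Set G) := by
        intro x hx
        exact ⟨hZle S hx, h0 hx⟩
      have h2 : Vv ⊓ Subgroup.centralizer ((S : Subgroup G) : Set G) ≤
          ⨆ S : Sylow p G, Vv ⊓ Subgroup.centralizer ((S : Subgroup G) : Set G) :=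
        le_iSup (fun S : Sylow p G =>
          Vv ⊓ Subgroup.centralizer ((S : Subgroup G) : Set G)) S
      exact h1.trans h2
    · apply iSup_le
      intro S
      exact inf_le_left
  have h600 := Cfsg.Agent.S0600.result Vv hVel hgen
  apply le_antisymm _ hCD
  -- the image of D in the quotient is a normal p-subgroup
  have hf : Function.Surjective (QuotientGroup.mk' (Subgroup.centralizer (Vv : Set G))) :=
    QuotientGroup.mk'_surjective _
  have hDfn : (D.map (QuotientGroup.mk' (Subgroup.centralizer (Vv : Set G)))).Normal :=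
    Subgroup.Normal.map hDn _ hf
  have hDfp : IsPGroup p (D.map (QuotientGroup.mk' (Subgroup.centralizer (Vv : Set G)))) := by
    rintro ⟨y, hy⟩
    obtain ⟨d, hd, rfl⟩ := hy
    refine ⟨k, ?_⟩
    apply Subtype.ext
    show ((QuotientGroup.mk' (Subgroup.centralizer (Vv : Set G))) d) ^ (p ^ k) = 1
    rw [← map_pow]
    show ((d ^ (p ^ k) : G) : G ⧸ (Subgroup.centralizer (Vv : Set G))) = 1
    rw [QuotientGroup.eq_one_iff]
    haveI : ((Subgroup.centralizer (Vv : Set G)).subgroupOf D).Normal := by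
      have : (Subgroup.centralizer (Vv : Set G)).Normal := inferInstance
      exact Subgroup.Normal.subgroupOf this D
    have := Subgroup.pow_index_mem ((Subgroup.centralizer (Vv : Set G)).subgroupOf D) (⟨d, hd⟩ : D)
    have hidx : ((Subgroup.centralizer (Vv : Set G)).subgroupOf D).index = p ^ k := hk
    rw [hidx] at this
    exact this
  have hle := Helper27.le_pCore hDfn hDfp
  rw [h600, le_bot_iff] at hle
  intro d hd
  have : (QuotientGroup.mk' (Subgroup.centralizer (Vv : Set G))) d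
      ∈ D.map (QuotientGroup.mk' (Subgroup.centralizer (Vv : Set G))) := ⟨d, hd, rfl⟩
  rw [hle, Subgroup.mem_bot] at this
  exact (QuotientGroup.eq_one_iff d).mp this

/-- When O_p(G) contains its centralizer, the normal closure of Ω₁(Z(S)) is elementary abelian and G has no nontrivial normal p-subgroup modulo its centralizer. -/
theorem result {G : Type*} [Group G] [Finite G] {p : ℕ} [Fact p.Prime] (hc : Subgroup.centralizer (Cfsg.pCore p G : Set G) ≤ Cfsg.pCore p G) : (⨆ S : Sylow p G, Cfsg.omegaOne p (((S : Subgroup G)) ⊓ Subgroup.centralizer ((S : Subgroup G) : Set G))).Normal ∧ Cfsg.IsElementaryAbelian p (⨆ S : Sylow p G, Cfsg.omegaOne p (((S : Subgroup G)) ⊓ Subgroup.centralizer ((S : Subgroup G) : Set G))) ∧ ∀ D : Subgroup G, D.Normal → Subgroup.centralizer ((⨆ S : Sylow p G, Cfsg.omegaOne p (((S : Subgroup G)) ⊓ Subgroup.centralizer ((S : Subgroup G) : Set G)) : Subgroup G) : Set G) ≤ D → (∃ k : ℕ, (Subgroup.centralizer ((⨆ S : Sylow p G, Cfsg.omegaOne p (((S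 : Subgroup G)) ⊓ Subgroup.centralizer ((S : Subgroup G) : Set G)) : Subgroup G) : Set G)).relIndex D = p ^ k) → D = Subgroup.centralizer ((⨆ S : Sylow p G, Cfsg.omegaOne p (((S : Subgroup G)) ⊓ Subgroup.centralizer ((S : Subgroup G) : Set G)) : Subgroup G) : Set G) :=
  aux hc _ rfl

end Cfsg.Agent.S0601
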