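import Mathlib
import Cfsg.Statements.S0602
import Cfsg.Agent.Lib.Helper3.Thompson

set_option autoImplicit false
open Cfsg

namespace Cfsg.Agent.S0602

open Cfsg.Agent.Helper3

theorem result {G : Type*} [Group G] [Finite G] {p : ℕ} [Fact p.Prime] : (Cfsg.thompsonSubgroup p G).Characteristic ∧ (p ∣ Nat.card G → Cfsg.thompsonSubgroup p G ≠ ⊥) := by
  refine ⟨thompsonSubgroup_characteristic p, fun hp hbot => ?_⟩
  obtain ⟨x, hx⟩ := exists_prime_orderOf_dvd_card' p hp
  obtain ⟨A, hA⟩ := exists_mem_maxElementaryAbelianSubgroups (G := G) p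
  have hle : A ≤ ⊥ := hbot ▸ le_thompsonSubgroup hA
  have hAbot : A = ⊥ := le_bot_iff.mp hle
  -- zpowers x is elementary abelian of order p
  have hz : IsElementaryAbelian p (Subgroup.zpowers x) := by
    refine ⟨inferInstance, ?_⟩
    intro a ha
    obtain ⟨k, rfl⟩ := Subgroup.mem_zpowers_iff.mp ha
    rw [← zpow_natCast, ← zpow_mul, mul_comm, zpow_mul, zpow_natCast, ← hx, pow_orderOf_eq_one, one_zpow]
  have := hA.2 _ hz
  rw [Nat.card_zpowers, hx, hAbot, Subgroup.card_bot] at this
  exact absurd this (not_le.mpr (Fact.out : p.Prime).one_lt)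

end Cfsg.Agent.S0602
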