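import Mathlib
import Cfsg.Statements.S0856
import Cfsg.Agent.Lib.Helper5.Gallagher

set_option autoImplicit false
set_option linter.style.haveILetI false
set_option linter.unusedVariables false
open Cfsg

namespace Cfsg.Agent.S0856

open Cfsg.Agent.Helper24 Cfsg.Agent.Helper5
open scoped ComplexConjugate

/-- Let N be a normal subgroup of the finite group G and φ, ϑ irreducible characters of N that are invariant under conjugation by G, such that the pointwise product φ * ϑ is irreducible and ϑ is the restriction of an irreducible character χ of G. Then multiplication by χ is a bijection from the set of irreducible characters of G having nonzero inner product with the function induced from φ onto the set of those having nonzero inner product with the function induced from φ * ϑ. -/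
theorem result {G : Type*} [Group G] [Fintype G] (N : Subgroup G) [hN : N.Normal] (φ ϑ : N → ℂ) (hφ : Cfsg.IsIrrCharacter N φ) (hϑ : Cfsg.IsIrrCharacter N ϑ) (hφinv : ∀ (g : G) (n : N), φ ⟨g * n * g⁻¹, hN.conj_mem (n : G) n.2 g⟩ = φ n) (hϑinv : ∀ (g : G) (n : N), ϑ ⟨g * n * g⁻¹, hN.conj_mem (n : G) n.2 g⟩ = ϑ n) (hprod : Cfsg.IsIrrCharacter N (φ * ϑ)) (χ : G → ℂ) (hχ : Cfsg.IsIrrCharacter G χ) (hext : ∀ n : N, χ n = ϑ n) : Set.BijOn (fun β : G → ℂ => β * χ) {β : G → ℂ | Cfsg.IsIrrCharacter G β ∧ Cfsg.classInner (Cfsg.indFun N φ) β ≠ 0} {ψ : G → ℂ | Cfsg.IsIrrCharacter G ψ ∧ Cfsg.classInner (Cfsg.indFun N (φ * ϑ)) ψ ≠ 0} := by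
  classical
  letI : Fintype N := Fintype.ofFinite N
  letI := irrFintype (G := G)
  have hχc := isCharacter_of_isIrrCharacter hχ
  have hφc := isCharacter_of_isIrrCharacter hφ
  have hφinv' : ∀ g : G, conjFun N g φ = φ := fun g => funext (hφinv g)
  have hϑinv' : ∀ g : G, conjFun N g ϑ = ϑ := fun g => funext (hϑinv g)
  have hpinv' : ∀ g : G, conjFun N g (φ * ϑ) = φ * ϑ := by
    intro g
    funext n
    show φ _ * ϑ _ = φ n * ϑ n
    rw [hφinv g n, hϑinv g n]
  have hidx0 : (N.index : ℂ) ≠ 0 := by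
    rw [Nat.cast_ne_zero]; exact Subgroup.index_ne_zero_of_finite
  -- decomposition of φ^G
  have hindc : IsCharacter G (indFun N φ) := isCharacter_indFun N hφc
  obtain ⟨hm, hdec⟩ := isCharacter_decomp hindc
  choose e he using hm
  set S : Finset (IrrCharacter G) :=
    Finset.univ.filter (fun β => classInner (indFun N φ) (β : G → ℂ) ≠ 0) with hS
  have hmemS : ∀ β : IrrCharacter G, β ∈ S ↔ classInner (indFun N φ) (β : G → ℂ) ≠ 0 := by
    intro β; simp [hS]
  have heS : ∀ β ∈ S, e β ≠ 0 := by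
    intro β hβ h0
    rw [hmemS, he β, h0] at hβ
    exact hβ (by simp)
  have hdecS : indFun N φ = ∑ β ∈ S, (e β : ℂ) • (β : G → ℂ) := by
    conv_lhs => rw [hdec]
    simp only [he]
    symm
    apply Finset.sum_subset (Finset.subset_univ _)
    intro β _ hβ
    rw [hmemS, not_not, he β] at hβ
    rw [hβ, zero_smul]
  have hdecS' : indFun N φ = ∑ β ∈ S, (e β : ℂ) • (β : G → ℂ) := hdecS
  -- product formula
  have hprodF : indFun N (φ * ϑ) = indFun N φ * χ := by
    funext g
    by_cases hg : g ∈ N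
    · have h1 := congrFun (indFun_normal_restrict_of_invariant N (φ * ϑ) hpinv') ⟨g, hg⟩
      have h2 := congrFun (indFun_normal_restrict_of_invariant N φ hφinv') ⟨g, hg⟩
      simp only [Pi.smul_apply, Pi.mul_apply, smul_eq_mul] at h1 h2
      rw [Pi.mul_apply, h1, h2, ← hext ⟨g, hg⟩]
      ring
    · rw [Pi.mul_apply, indFun_normal_of_not_mem N _ hg, indFun_normal_of_not_mem N _ hg, zero_mul]
  have hprodS : indFun N (φ * ϑ) = ∑ β ∈ S, (e β : ℂ) • ((β : G → ℂ) * χ) := by
    rw [hprodF, hdecS, Finset.sum_mul]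
    apply Finset.sum_congr rfl
    intro β _
    rw [smul_mul_assoc]
  -- norms
  have hnorm1 : classInner (indFun N φ) (indFun N φ) = (N.index : ℂ) := by
    rw [frobenius_reciprocity N φ (isClassFunction_indFun N φ),
      indFun_normal_restrict_of_invariant N φ hφinv', classInner_smul_right,
      irr_orthogonality hφ hφ, if_pos rfl, Complex.conj_natCast, mul_one]
  have hnorm2 : classInner (indFun N (φ * ϑ)) (indFun N (φ * ϑ)) = (N.index : ℂ) := by
    rw [frobenius_reciprocity N (φ * ϑ) (isClassFunction_indFun N (φ * ϑ)),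
      indFun_normal_restrict_of_invariant N (φ * ϑ) hpinv', classInner_smul_right,
      irr_orthogonality hprod hprod, if_pos rfl, Complex.conj_natCast, mul_one]
  have hsq : (N.index : ℂ) = ((∑ β ∈ S, e β ^ 2 : ℕ) : ℂ) := by
    rw [← hnorm1]
    have hstep : classInner (indFun N φ) (indFun N φ) =
        classInner (∑ β ∈ S, (e β : ℂ) • (β : G → ℂ)) (indFun N φ) := by rw [← hdecS]
    rw [hstep, classInner_sum_left]
    push_cast
    apply Finset.sum_congr rfl
    intro β _
    rw [classInner_smul_left, ← classInner_conj_symm, he β, Complex.conj_natCast]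
    ring
  have hsqueeze := char_squeeze S e (fun β => (β : G → ℂ) * χ) heS
    (fun β _ => isCharacter_mul (isCharacter_of_isIrrCharacter β.2) hχc)
    (by
      intro β _ h0
      have h1 := congrFun h0 1
      simp only [Pi.mul_apply, Pi.zero_apply] at h1
      obtain ⟨n, hn, hn1⟩ := irr_one_eq β.2
      obtain ⟨m, hm, hm1⟩ := irr_one_eq hχ
      rw [hn1, hm1] at h1
      have : (n : ℂ) * (m : ℂ) ≠ 0 := by
        apply mul_ne_zero <;> rw [Nat.cast_ne_zero] <;> omega
      exact this h1)
    (by rw [← hprodS, hnorm2, hsq])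
  obtain ⟨hirr, horth⟩ := hsqueeze
  have hinner : ∀ β ∈ S, classInner (indFun N (φ * ϑ)) ((β : G → ℂ) * χ) = (e β : ℂ) := by
    intro β hβ
    rw [hprodS, classInner_sum_left, Finset.sum_eq_single β]
    · rw [classInner_smul_left, irr_orthogonality (hirr β hβ) (hirr β hβ), if_pos rfl, mul_one]
    · intro β' hβ' hne
      rw [classInner_smul_left, horth β' hβ' β hβ hne, mul_zero]
    · intro h; exact absurd hβ h
  refine ⟨?_, ?_, ?_⟩
  · -- MapsTo
    rintro β ⟨hβ, hβ0⟩
    have hβS : (⟨β, hβ⟩ : IrrCharacter G) ∈ S := (hmemS _).mpr hβ0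
    refine ⟨hirr ⟨β, hβ⟩ hβS, ?_⟩
    show classInner (indFun N (φ * ϑ)) (β * χ) ≠ 0
    have := hinner ⟨β, hβ⟩ hβS
    simp only at this
    rw [this, Nat.cast_ne_zero]
    exact heS _ hβS
  · -- InjOn
    rintro β ⟨hβ, hβ0⟩ β' ⟨hβ', hβ'0⟩ heq
    simp only at heq
    have hβS : (⟨β, hβ⟩ : IrrCharacter G) ∈ S := (hmemS _).mpr hβ0
    have hβ'S : (⟨β', hβ'⟩ : IrrCharacter G) ∈ S := (hmemS _).mpr hβ'0
    by_contra hne
    have hne' : (⟨β, hβ⟩ : IrrCharacter G) ≠ ⟨β', hβ'⟩ := fun h => hne (congrArg Subtype.val h)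
    have h1 := horth _ hβS _ hβ'S hne'
    simp only at h1
    rw [← heq, irr_orthogonality (hirr _ hβS) (hirr _ hβS), if_pos rfl] at h1
    exact one_ne_zero h1
  · -- SurjOn
    rintro ψ ⟨hψ, hψ0⟩
    rw [hprodS, classInner_sum_left] at hψ0
    have : ∃ β ∈ S, classInner ((β : G → ℂ) * χ) ψ ≠ 0 := by
      by_contra hcon
      push Not at hcon
      apply hψ0
      apply Finset.sum_eq_zero
      intro β hβ
      rw [classInner_smul_left, hcon β hβ, mul_zero]
    obtain ⟨β, hβS, hβ⟩ := this
    refine ⟨(β : G → ℂ), ⟨β.2, (hmemS β).mp hβS⟩, ?_⟩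
    simp only
    by_contra hne
    apply hβ
    rw [irr_orthogonality (hirr β hβS) hψ, if_neg hne]

end Cfsg.Agent.S0856
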