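import Mathlib
import Cfsg.Statements.S0862
import Cfsg.Agent.Lib.Helper5.ExtUnique

set_option autoImplicit false
open Cfsg

namespace Cfsg.Agent.S0862

open Cfsg.Agent.Helper5 Cfsg.Agent.Helper24 in
/-- Let N be a normal subgroup of the finite group G and ϑ an irreducible character of N of degree d coprime to the index of N, which is the restriction of some irreducible character of G. Let μ be a character of G of degree 1 whose restriction to N is the determinantal character of ϑ. Then there is exactly one irreducible character χ of G restricting to ϑ whose determinantal character is μ. -/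
theorem result {G : Type*} [Group G] [Finite G] (N : Subgroup G) [N.Normal] (ϑ : N → ℂ) (hϑ : Cfsg.IsIrrCharacter N ϑ) (d : ℕ) (hd : ϑ 1 = d) (hcop : Nat.Coprime N.index d) (hext : ∃ η : G → ℂ, Cfsg.IsIrrCharacter G η ∧ (∀ n : N, η n = ϑ n)) (μ : G → ℂ) (hμ : Cfsg.IsCharacter G μ ∧ μ 1 = 1) (hμN : ∀ n : N, μ n = Cfsg.detChar ϑ n) : ∃! χ : G → ℂ, Cfsg.IsIrrCharacter G χ ∧ (∀ n : N, χ n = ϑ n) ∧ Cfsg.detChar χ = μ := by
  classical
  obtain ⟨η, hη, hηN⟩ := hext
  have hηres : (η ∘ N.subtype) = ϑ := funext hηN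
  have hηNirr : IsIrrCharacter N (fun n : N => η n) := by
    have : (fun n : N => η n) = ϑ := funext hηN
    rw [this]
    exact hϑ
  have hη1 : η 1 = d := by
    rw [← hd]
    exact hηN 1
  have hdetN : ∀ n : N, detChar ϑ n = detChar η (n : G) := by
    intro n
    rw [← hηres]
    exact detChar_comp N.subtype hη (by rw [hηres]; exact hϑ) n
  have hηc := isCharacter_of_isIrrCharacter hη
  set fμ : G →* ℂˣ := linHom hμ.1 hμ.2 with hfμ
  set δ : G →* ℂˣ := detHom hηc with hδ
  set γ : G →* ℂˣ := fμ * δ⁻¹ with hγ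
  have hγN : ∀ n : N, γ (n : G) = 1 := by
    intro n
    have h1 : fμ (n : G) = δ (n : G) := by
      apply Units.ext
      rw [hfμ, hδ, linHom_apply, detHom_apply, hμN n, hdetN n]
    rw [hγ, MonoidHom.mul_apply, MonoidHom.inv_apply, h1, mul_inv_cancel]
  have hpowN : ∀ (κ : G →* ℂˣ), (∀ n : N, κ (n : G) = 1) → κ ^ N.index = 1 := by
    intro κ hκ
    ext g
    rw [MonoidHom.pow_apply, ← map_pow]
    have := hκ ⟨g ^ N.index, Subgroup.pow_index_mem N g⟩
    rw [this]
    rfl
  have hord : orderOf γ ∣ N.index := orderOf_dvd_of_pow_eq_one (hpowN γ hγN)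
  have hcop' : d.Coprime (orderOf γ) := (Nat.Coprime.coprime_dvd_left hord hcop).symm
  obtain ⟨m, hm⟩ := exists_pow_eq_self_of_coprime hcop'
  set β : G →* ℂˣ := γ ^ m with hβ
  have hβd : β ^ d = γ := by
    have h1 : (γ ^ m) ^ d = γ ^ (m * d) := (pow_mul γ m d).symm
    have h2 : γ ^ (m * d) = γ ^ (d * m) := by rw [mul_comm]
    have h3 : γ ^ (d * m) = (γ ^ d) ^ m := pow_mul γ d m
    exact h1.trans (h2.trans (h3.trans hm))
  have hβN : ∀ n : N, β (n : G) = 1 := by
    intro n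
    rw [hβ, MonoidHom.pow_apply, hγN, one_pow]
  have hdetχ : ∀ (β' : G →* ℂˣ) (g : G),
      detChar (fun g => ((β' g : ℂˣ) : ℂ) * η g) g = (((β' ^ d * δ) g : ℂˣ) : ℂ) := by
    intro β' g
    rw [detChar_twist β' hη d hη1 g, MonoidHom.mul_apply, MonoidHom.pow_apply, Units.val_mul,
      Units.val_pow_eq_pow_val, hδ, detHom_apply]
  refine ⟨fun g => ((β g : ℂˣ) : ℂ) * η g, ⟨isIrrCharacter_twist β hη, ?_, ?_⟩, ?_⟩
  · intro n
    show ((β (n : G) : ℂˣ) : ℂ) * η n = ϑ n
    rw [hβN, Units.val_one, one_mul, hηN]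
  · funext g
    rw [hdetχ β g, hβd, hγ, MonoidHom.mul_apply, MonoidHom.mul_apply, MonoidHom.inv_apply,
      mul_assoc, inv_mul_cancel, mul_one, hfμ, linHom_apply]
  · rintro χ' ⟨hχ', hres', hdet'⟩
    obtain ⟨β', hβ'N, hβ'χ⟩ := exists_hom_of_extensions_char N hη hχ' hηNirr
      (fun n => by rw [hres', hηN])
    have hβ'd : β' ^ d = γ := by
      ext g
      have h1 := congrFun hdet' g
      rw [hβ'χ, hdetχ β' g] at h1
      have h2 : (β' ^ d * δ) g = fμ g := by
        apply Units.ext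
        rw [h1, hfμ, linHom_apply]
      rw [hγ, MonoidHom.mul_apply, MonoidHom.inv_apply, ← h2, MonoidHom.mul_apply, mul_assoc,
        mul_inv_cancel, mul_one]
    have hκ : β' * β⁻¹ = 1 := by
      have h1 : (β' * β⁻¹) ^ d = 1 := by
        have e1 : (β' * β⁻¹) ^ d = β' ^ d * (β⁻¹) ^ d := mul_pow β' β⁻¹ d
        have e2 : (β⁻¹) ^ d = (β ^ d)⁻¹ := inv_pow β d
        rw [e1, e2, hβ'd, hβd]
        exact mul_inv_cancel γ
      have h2 : (β' * β⁻¹) ^ N.index = 1 := by
        apply hpowN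
        intro n
        rw [MonoidHom.mul_apply, MonoidHom.inv_apply, hβ'N, hβN, inv_one, mul_one]
      have h3 : (β' * β⁻¹) ^ (Nat.gcd N.index d) = 1 :=
        (pow_gcd_eq_one (a := β' * β⁻¹)).mpr ⟨h2, h1⟩
      rw [hcop] at h3
      exact (pow_one (β' * β⁻¹)).symm.trans h3
    have hββ' : β' = β := mul_inv_eq_one.mp hκ
    rw [hβ'χ, hββ']

end Cfsg.Agent.S0862
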