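import Mathlib
import Cfsg.Statements.S0888
import Cfsg.Agent.Lib.Helper5.ExtendSylow

set_option autoImplicit false
open Cfsg

namespace Cfsg.Agent.S0888

open Cfsg.Agent.Helper5 Cfsg.Agent.Helper24 in
/-- Let N be a normal subgroup of the finite group G and ϑ an irreducible character of N invariant under conjugation by G. Suppose that for every prime p there are a subgroup P containing N, of index prime to p and with the index of N in P a power of p, and an irreducible character of P restricting to ϑ. Then ϑ is the restriction of an irreducible character of G. -/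
theorem result {G : Type*} [Group G] [Finite G] (N : Subgroup G) [hN : N.Normal] (ϑ : N → ℂ) (hϑ : Cfsg.IsIrrCharacter N ϑ) (hinv : ∀ (g : G) (n : N), ϑ ⟨g * n * g⁻¹, hN.conj_mem (n : G) n.2 g⟩ = ϑ n) (hsyl : ∀ p : ℕ, p.Prime → ∃ (P : Subgroup G) (hNP : N ≤ P) (η : P → ℂ), Nat.Coprime P.index p ∧ (∃ k : ℕ, N.relIndex P = p ^ k) ∧ Cfsg.IsIrrCharacter P η ∧ ∀ n : N, η ⟨(n : G), hNP n.2⟩ = ϑ n) : ∃ χ : G → ℂ, Cfsg.IsIrrCharacter G χ ∧ ∀ n : N, χ n = ϑ n := by
  classical
  letI : Fintype G := Fintype.ofFinite G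
  letI : Fintype N := Fintype.ofFinite N
  obtain ⟨d, ρ, hρ, hρϑ⟩ := hϑ
  have hinv' : ∀ (g : G) (n : N), ρ.character (MulAut.conjNormal g n) = ρ.character n := by
    intro g n
    rw [hρϑ, ← hinv g n]
    congr 1
  have hsyl' : ∀ p : ℕ, p.Prime → ∃ (P : Subgroup G) (hNP : N ≤ P)
      (R : Representation ℂ P (Fin d → ℂ)), Nat.Coprime P.index p ∧
        ∀ n : N, R ⟨n, hNP n.2⟩ = ρ n := by
    intro p hp
    obtain ⟨P, hNP, η, hcop, -, hη, hres⟩ := hsyl p hp
    obtain ⟨d', R', hR', hR'η⟩ := hη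
    let RN : Representation ℂ N (Fin d' → ℂ) := R'.comp (Subgroup.inclusion hNP)
    have hRNchar : RN.character = ρ.character := by
      funext n
      rw [hρϑ, ← hres n, ← hR'η]
      rfl
    have hRNirr : RN.IsIrreducible :=
      isIrreducible_of_isIrrCharacter RN (by rw [hRNchar]; exact ⟨d, ρ, hρ, rfl⟩)
    obtain ⟨φ⟩ := nonempty_equiv_of_char_eq ρ RN hρ hRNirr hRNchar.symm
    refine ⟨P, hNP, transportRep R' φ.toLinearEquiv.symm, hcop, ?_⟩
    intro n
    apply LinearMap.ext
    intro v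
    rw [transportRep_apply, LinearEquiv.symm_symm]
    have h := φ.toIntertwiningMap.isIntertwining' n
    have h2 := congrArg (fun f => f v) h
    simp only [LinearMap.comp_apply] at h2
    rw [LinearEquiv.symm_apply_eq]
    exact h2.symm
  obtain ⟨R, hR⟩ := exists_extension_of_sylow N ρ hρ hinv' hsyl'
  refine ⟨R.character, ⟨d, R, isIrreducible_of_restrict N ρ hρ R hR, rfl⟩, ?_⟩
  intro n
  rw [← hρϑ]
  show LinearMap.trace ℂ _ (R (n : G)) = LinearMap.trace ℂ _ (ρ n)
  rw [hR]

end Cfsg.Agent.S0888
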