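import Mathlib
import Cfsg.Statements.S0866
import Cfsg.Agent.Lib.Helper5.DetExtend
import Cfsg.Agent.S0888

set_option autoImplicit false
open Cfsg

namespace Cfsg.Agent.S0866

open Cfsg.Agent.Helper5 Cfsg.Agent.Helper24 in
/-- Let N be a normal subgroup of the finite group G and ϑ an irreducible character of N, invariant under conjugation by G, of degree d coprime to the index of N. Then ϑ is the restriction of an irreducible character of G if and only if the determinantal character of ϑ is the restriction of a character of G of degree 1. -/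
theorem result {G : Type*} [Group G] [Finite G] (N : Subgroup G) [hN : N.Normal] (ϑ : N → ℂ) (hϑ : Cfsg.IsIrrCharacter N ϑ) (hinv : ∀ (g : G) (n : N), ϑ ⟨g * n * g⁻¹, hN.conj_mem (n : G) n.2 g⟩ = ϑ n) (d : ℕ) (hd : ϑ 1 = d) (hcop : Nat.Coprime N.index d) : (∃ χ : G → ℂ, Cfsg.IsIrrCharacter G χ ∧ (∀ n : N, χ n = ϑ n)) ↔ ∃ μ : G → ℂ, Cfsg.IsCharacter G μ ∧ μ 1 = 1 ∧ ∀ n : N, μ n = Cfsg.detChar ϑ n := by
  constructor
  · rintro ⟨χ, hχ, hres⟩
    exact det_ext_of_ext N hϑ hχ hres
  · rintro ⟨μ, hμ, hμ1, hμN⟩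
    apply Cfsg.Agent.S0888.result N ϑ hϑ hinv
    intro p hp
    haveI : Fact p.Prime := ⟨hp⟩
    let S : Sylow p (G ⧸ N) := default
    set P : Subgroup G := (S : Subgroup (G ⧸ N)).comap (QuotientGroup.mk' N) with hP
    have hNP : N ≤ P := by
      intro n hn
      show QuotientGroup.mk' N n ∈ (S : Subgroup (G ⧸ N))
      rw [QuotientGroup.mk'_apply, (QuotientGroup.eq_one_iff n).mpr hn]
      exact (S : Subgroup (G ⧸ N)).one_mem
    have hPindex : P.index = (S : Subgroup (G ⧸ N)).index := by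
      rw [hP, Subgroup.index_comap_of_surjective _ (QuotientGroup.mk'_surjective N)]
    have hcopP : Nat.Coprime P.index p := by
      rw [hPindex]
      exact ((Nat.Prime.coprime_iff_not_dvd hp).mpr S.not_dvd_index).symm
    obtain ⟨k, hk⟩ := IsPGroup.iff_card.mp S.isPGroup'
    have hrel : N.relIndex P = p ^ k := by
      have h1 := Subgroup.relIndex_mul_index hNP
      have h2 := (S : Subgroup (G ⧸ N)).card_mul_index
      rw [← Subgroup.index_eq_card N, ← hPindex, hk] at h2
      have hpos : 0 < P.index := Nat.pos_of_ne_zero Subgroup.index_ne_zero_of_finite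
      exact Nat.eq_of_mul_eq_mul_right hpos (h1.trans h2.symm)
    -- data on `P`
    haveI hN'norm : (N.subgroupOf P).Normal := Subgroup.normal_subgroupOf
    let E : N.subgroupOf P ≃* N := Subgroup.subgroupOfEquivOfLe hNP
    have hsolv' : Group.IsSolvable (P ⧸ N.subgroupOf P) := by
      have hcard : Nat.card (P ⧸ N.subgroupOf P) = p ^ k := by
        rw [← Subgroup.index_eq_card]
        exact hrel
      haveI := (IsPGroup.of_card hcard).isNilpotent
      infer_instance
    set ϑ' : N.subgroupOf P → ℂ := ϑ ∘ E with hϑ'def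
    have hϑ' : IsIrrCharacter (N.subgroupOf P) ϑ' := isIrrCharacter_comp_equiv E hϑ
    have hinv' : ∀ (m : P) (n' : N.subgroupOf P),
        ϑ' ⟨m * n' * m⁻¹, hN'norm.conj_mem (n' : P) n'.2 m⟩ = ϑ' n' := by
      intro m n'
      have := hinv (m : G) (E n')
      show ϑ (E _) = ϑ (E n')
      rw [← this]
      congr 1
    have hd' : ϑ' 1 = d := by
      show ϑ (E 1) = d
      rw [map_one, hd]
    have hcop' : Nat.Coprime (N.subgroupOf P).index d := by
      apply Nat.Coprime.coprime_dvd_left _ hcop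
      rw [← Subgroup.relIndex_mul_index hNP]
      exact dvd_mul_right _ _
    set μ' : P → ℂ := fun m => μ m with hμ'def
    have hμ' : IsCharacter P μ' := isCharacter_restrict P hμ
    have hμ'N : ∀ n' : N.subgroupOf P, μ' n' = detChar ϑ' n' := by
      intro n'
      have := detChar_comp E.toMonoidHom hϑ hϑ' n'
      show μ' n' = detChar (ϑ ∘ E.toMonoidHom) n'
      rw [this]
      exact hμN (E n')
    obtain ⟨η, hη, hηN⟩ := ext_of_det_ext_solvable_aux (N.subgroupOf P).index P (N.subgroupOf P) rfl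
      hsolv' ϑ' hϑ' hinv' d hd' hcop' ⟨μ', hμ', hμ1, hμ'N⟩
    refine ⟨P, hNP, η, hcopP, ⟨k, hrel⟩, hη, ?_⟩
    intro n
    have h2 := hηN ⟨⟨n, hNP n.2⟩, n.2⟩
    rw [h2]
    show ϑ (E _) = ϑ n
    congr 1

end Cfsg.Agent.S0866
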