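import Mathlib
import Cfsg.Statements.S0867
import Cfsg.Agent.S0866
import Cfsg.Agent.S0862
import Cfsg.Agent.Lib.Helper5.TransferInv

set_option autoImplicit false
open Cfsg

namespace Cfsg.Agent.S0867

open Cfsg.Agent.Helper5 Cfsg.Agent.Helper24 in
/-- Let N be a normal subgroup of the finite group G and ϑ an irreducible character of N of degree d, invariant under conjugation by G, such that the index of N is coprime to the product of d and the determinantal order of ϑ. Then there is an irreducible character χ of G restricting to ϑ whose determinantal order equals that of ϑ, and χ is the only irreducible character of G restricting to ϑ whose determinantal order is coprime to the index of N. -/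
theorem result {G : Type*} [Group G] [Finite G] (N : Subgroup G) [hN : N.Normal] (ϑ : N → ℂ) (hϑ : Cfsg.IsIrrCharacter N ϑ) (hinv : ∀ (g : G) (n : N), ϑ ⟨g * n * g⁻¹, hN.conj_mem (n : G) n.2 g⟩ = ϑ n) (d : ℕ) (hd : ϑ 1 = d) (hcop : Nat.Coprime N.index (Cfsg.detOrder ϑ * d)) : ∃ χ : G → ℂ, (Cfsg.IsIrrCharacter G χ ∧ (∀ n : N, χ n = ϑ n) ∧ Cfsg.detOrder χ = Cfsg.detOrder ϑ) ∧ ∀ χ' : G → ℂ, Cfsg.IsIrrCharacter G χ' → (∀ n : N, χ' n = ϑ n) → Nat.Coprime N.index (Cfsg.detOrder χ') → χ' = χ := by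
  classical
  have hcopo : Nat.Coprime N.index (detOrder ϑ) := Nat.Coprime.coprime_mul_right_right hcop
  have hcopd : Nat.Coprime N.index d := Nat.Coprime.coprime_mul_left_right hcop
  have hϑc := isCharacter_of_isIrrCharacter hϑ
  set lam : N →* ℂˣ := detHom hϑc with hlam
  -- invariance of the determinant
  have hdetinv : ∀ (g : G) (n : N), detChar ϑ (MulAut.conjNormal g n) = detChar ϑ n := by
    intro g n
    have hconj : ϑ ∘ (MulAut.conjNormal g : MulAut N).toMonoidHom = ϑ := by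
      funext m
      have := hinv g m
      rw [← this]
      show ϑ (MulAut.conjNormal g m) = _
      congr 1
    have := detChar_comp (MulAut.conjNormal g : MulAut N).toMonoidHom hϑ
      (by rw [hconj]; exact hϑ) n
    rw [hconj] at this
    exact this.symm
  have hlaminv : ∀ (g : G) (n : N), lam ⟨g⁻¹ * n * g, by
      have := hN.conj_mem (n : G) n.2 g⁻¹
      rwa [inv_inv] at this⟩ = lam n := by
    intro g n
    apply Units.ext
    rw [hlam, detHom_apply, detHom_apply, ← hdetinv g⁻¹ n]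
    congr 1
    apply Subtype.ext
    rw [MulAut.conjNormal_apply]
    simp
  -- the order of the determinant
  have hlamo : ∀ n : N, lam n ^ detOrder ϑ = 1 := by
    intro n
    apply Units.ext
    rw [Units.val_pow_eq_pow_val, hlam, detHom_apply, Units.val_one]
    have h1 : detChar ϑ ^ detOrder ϑ = 1 := pow_orderOf_eq_one (detChar ϑ)
    have := congrFun h1 n
    rwa [Pi.pow_apply] at this
  obtain ⟨m, hm⟩ := exists_pow_eq_self_of_coprime (x := detChar ϑ) hcopo
  -- the extension of the determinant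
  set T : G →* ℂˣ := MonoidHom.transfer lam with hT
  have hTN : ∀ n : N, T (n : G) = lam n ^ N.index := fun n =>
    transfer_invariant_apply N lam hlaminv n
  have hTo : ∀ g : G, T g ^ detOrder ϑ = 1 := fun g =>
    transfer_pow_eq_one N lam (detOrder ϑ) hlamo g
  set μ₀ : G →* ℂˣ := T ^ m with hμ₀
  have hμ₀N : ∀ n : N, ((μ₀ (n : G) : ℂˣ) : ℂ) = detChar ϑ n := by
    intro n
    rw [hμ₀, MonoidHom.pow_apply, hTN, Units.val_pow_eq_pow_val, Units.val_pow_eq_pow_val, hlam,
      detHom_apply]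
    have := congrFun hm n
    rwa [Pi.pow_apply, Pi.pow_apply] at this
  have hμ₀o : ∀ g : G, μ₀ g ^ detOrder ϑ = 1 := by
    intro g
    rw [hμ₀, MonoidHom.pow_apply, ← pow_mul, mul_comm, pow_mul, hTo, one_pow]
  set μ : G → ℂ := fun g => ((μ₀ g : ℂˣ) : ℂ) with hμdef
  have hμirr : IsIrrCharacter G μ := isIrrCharacter_of_monoidHom μ₀
  have hμc : IsCharacter G μ := isCharacter_of_isIrrCharacter hμirr
  have hμ1 : μ 1 = 1 := by
    rw [hμdef]
    simp
  have hμorder : orderOf μ = detOrder ϑ := by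
    show orderOf μ = orderOf (detChar ϑ)
    rw [orderOf_eq_orderOf_iff]
    intro k
    constructor
    · intro h
      funext n
      have := congrFun h (n : G)
      rw [Pi.pow_apply, hμdef] at this
      rw [Pi.pow_apply, ← hμ₀N n]
      exact this
    · intro h
      have hdvd : detOrder ϑ ∣ k := orderOf_dvd_of_pow_eq_one h
      obtain ⟨c, rfl⟩ := hdvd
      funext g
      rw [Pi.pow_apply, hμdef]
      show ((μ₀ g : ℂˣ) : ℂ) ^ (detOrder ϑ * c) = 1
      rw [← Units.val_pow_eq_pow_val, pow_mul, hμ₀o, one_pow, Units.val_one]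
  -- existence
  obtain ⟨η, hη, hηN⟩ := (Cfsg.Agent.S0866.result N ϑ hϑ hinv d hd hcopd).mpr
    ⟨μ, hμc, hμ1, hμ₀N⟩
  obtain ⟨χ, ⟨hχ, hχN, hχdet⟩, hχuniq⟩ := Cfsg.Agent.S0862.result N ϑ hϑ d hd hcopd
    ⟨η, hη, hηN⟩ μ ⟨hμc, hμ1⟩ hμ₀N
  refine ⟨χ, ⟨hχ, hχN, ?_⟩, ?_⟩
  · show orderOf (detChar χ) = detOrder ϑ
    rw [hχdet, hμorder]
  · intro χ' hχ' hχ'N hcop'
    apply hχuniq
    refine ⟨hχ', hχ'N, ?_⟩
    have hχ'c := isCharacter_of_isIrrCharacter hχ'
    set μ' : G →* ℂˣ := detHom hχ'c with hμ'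
    have hμ'N : ∀ n : N, μ' (n : G) = μ₀ (n : G) := by
      intro n
      apply Units.ext
      rw [hμ₀N, hμ', detHom_apply]
      have hres : (χ' ∘ N.subtype) = ϑ := funext hχ'N
      rw [← hres]
      exact (detChar_comp N.subtype hχ' (by rw [hres]; exact hϑ) n).symm
    have hμ'o : ∀ g : G, μ' g ^ detOrder χ' = 1 := by
      intro g
      apply Units.ext
      rw [Units.val_pow_eq_pow_val, hμ', detHom_apply, Units.val_one]
      have h1 : detChar χ' ^ detOrder χ' = 1 := pow_orderOf_eq_one (detChar χ')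
      have := congrFun h1 g
      rwa [Pi.pow_apply] at this
    funext g
    have hκ1 : (μ' g * (μ₀ g)⁻¹) ^ N.index = 1 := by
      rw [← MonoidHom.inv_apply, ← MonoidHom.mul_apply, ← map_pow]
      have hmem : g ^ N.index ∈ N := Subgroup.pow_index_mem N g
      have := hμ'N ⟨g ^ N.index, hmem⟩
      rw [MonoidHom.mul_apply, MonoidHom.inv_apply]
      show μ' (g ^ N.index) * (μ₀ (g ^ N.index))⁻¹ = 1
      rw [show μ' (g ^ N.index) = μ₀ (g ^ N.index) from this, mul_inv_cancel]
    have hκ2 : (μ' g * (μ₀ g)⁻¹) ^ (detOrder χ' * detOrder ϑ) = 1 := by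
      rw [mul_pow, inv_pow, pow_mul, hμ'o, one_pow, mul_comm (detOrder χ'), pow_mul, hμ₀o,
        one_pow, inv_one, mul_one]
    have hgcd : Nat.gcd N.index (detOrder χ' * detOrder ϑ) = 1 :=
      Nat.Coprime.mul_right hcop' hcopo
    have hκ : μ' g * (μ₀ g)⁻¹ = 1 := by
      have h3 := (pow_gcd_eq_one (a := μ' g * (μ₀ g)⁻¹)).mpr ⟨hκ1, hκ2⟩
      rwa [hgcd, pow_one] at h3
    have : μ' g = μ₀ g := mul_inv_eq_one.mp hκ
    show detChar χ' g = ((μ₀ g : ℂˣ) : ℂ)
    rw [← this, hμ', detHom_apply]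

end Cfsg.Agent.S0867
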