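import Mathlib
import Cfsg.Statements.S0854
import Cfsg.Agent.Lib.Helper5.Clifford

set_option autoImplicit false
set_option linter.style.haveILetI false
set_option linter.unusedVariables false
open Cfsg

namespace Cfsg.Agent.S0854

open Cfsg.Agent.Helper24 Cfsg.Agent.Helper5
open scoped ComplexConjugate

/-- Let H be a normal subgroup of the finite group G, ϑ an irreducible character of H, and T the inertia group of ϑ (the elements g with ϑ(g n g⁻¹) = ϑ(n) for all n in H). If χ is an irreducible character of G whose restriction to H has nonzero inner product with ϑ, then χ is induced from some irreducible character ψ of T, and the restrictions of ψ and of χ to H have the same inner product with ϑ. -/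
theorem result {G : Type*} [Group G] [Fintype G] (H : Subgroup G) [hN : H.Normal] [Fintype H] (ϑ : H → ℂ) (hϑ : Cfsg.IsIrrCharacter H ϑ) (T : Subgroup G) [Fintype T] (hT : ∀ g : G, g ∈ T ↔ ∀ n : H, ϑ ⟨g * n * g⁻¹, hN.conj_mem (n : G) n.2 g⟩ = ϑ n) (hHT : H ≤ T) (χ : G → ℂ) (hχ : Cfsg.IsIrrCharacter G χ) (hcon : Cfsg.classInner (fun n : H => χ n) ϑ ≠ 0) : ∃ ψ : T → ℂ, Cfsg.IsIrrCharacter T ψ ∧ Cfsg.indFun T ψ = χ ∧ Cfsg.classInner (fun n : H => ψ ⟨(n : G), hHT n.2⟩) ϑ = Cfsg.classInner (fun n : H => χ n) ϑ := by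
  classical
  letI := irrFintype (G := T)
  letI := irrFintype (G := H)
  letI := irrFintype (G := G)
  have hϑc := isCharacter_of_isIrrCharacter hϑ
  have hχc := isCharacter_of_isIrrCharacter hχ
  have hcfχ := isClassFunction_of_isIrrCharacter hχ
  have hT' : ∀ g : G, g ∈ T ↔ conjFun H g ϑ = ϑ := by
    intro g
    rw [hT]
    constructor
    · intro h; funext n; exact h n
    · intro h n; exact congrFun h n
  -- Step 1: find ψ
  have hχT : IsCharacter T (fun t : T => χ t) := isCharacter_restrict T hχc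
  obtain ⟨hmT, hdecT⟩ := isCharacter_decomp hχT
  have hresχ : (fun n : H => χ n) = ∑ ψ : IrrCharacter T,
      classInner (fun t : T => χ t) (ψ : T → ℂ) • resFun hHT (ψ : T → ℂ) := by
    have h1 : (fun n : H => χ n) = resFun hHT (fun t : T => χ t) := rfl
    rw [h1]
    conv_lhs => rw [hdecT]
    rw [resFun_sum]
    rfl
  have hex : ∃ ψ : IrrCharacter T, classInner (fun t : T => χ t) (ψ : T → ℂ) ≠ 0 ∧
      classInner (resFun hHT (ψ : T → ℂ)) ϑ ≠ 0 := by
    by_contra hno
    push Not at hno
    apply hcon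
    rw [hresχ, classInner_sum_left]
    apply Finset.sum_eq_zero
    intro ψ _
    rw [classInner_smul_left]
    by_cases h0 : classInner (fun t : T => χ t) (ψ : T → ℂ) = 0
    · rw [h0, zero_mul]
    · rw [hno ψ h0, mul_zero]
  obtain ⟨⟨ψ, hψ⟩, hmψ, hfψ⟩ := hex
  simp only at hmψ hfψ
  have hψc := isCharacter_of_isIrrCharacter hψ
  have hψN : IsCharacter H (resFun hHT ψ) := isCharacter_resFun hHT hψc
  -- Step 2: ψ_N = f • ϑ
  obtain ⟨f, hf⟩ := classInner_char_nat hψN hϑc
  have hf0 : f ≠ 0 := by
    rintro rfl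
    exact hfψ (by simpa using hf)
  have hψres : resFun hHT ψ = (f : ℂ) • ϑ := by
    obtain ⟨_, hdecN⟩ := isCharacter_decomp hψN
    conv_lhs => rw [hdecN]
    rw [Finset.sum_eq_single (⟨ϑ, hϑ⟩ : IrrCharacter H)]
    · simp only
      rw [hf]
    · intro φ _ hne
      have : classInner (resFun hHT ψ) (φ : H → ℂ) = 0 := by
        by_contra h2
        obtain ⟨x, hxT, hx⟩ := clifford_conj_rel H T hHT hψ hϑ φ.2 hfψ h2
        rw [(hT' x).mp hxT] at hx
        exact hne (Subtype.ext hx.symm)
      rw [this, zero_smul]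
    · intro h; exact absurd (Finset.mem_univ _) h
  -- Step 3: e = f + r
  have hmψ' : classInner (fun t : T => χ t) ψ ≠ 0 := hmψ
  obtain ⟨ρ', hρ', hdec'⟩ := exists_add_of_constituent hχT hψ hmψ'
  have hχN : IsCharacter H (fun n : H => χ n) := isCharacter_restrict H hχc
  obtain ⟨e, he⟩ := classInner_char_nat hχN hϑc
  obtain ⟨r, hr⟩ := classInner_char_nat (isCharacter_resFun hHT hρ') hϑc
  have hefr : e = f + r := by
    have h1 : (fun n : H => χ n) = resFun hHT ψ + resFun hHT ρ' := by
      have : (fun n : H => χ n) = resFun hHT (fun t : T => χ t) := rfl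
      rw [this, hdec', resFun_add]
    have h2 : classInner (fun n : H => χ n) ϑ = classInner (resFun hHT ψ) ϑ + classInner (resFun hHT ρ') ϑ := by
      rw [h1, classInner_add_left]
    rw [he, hf, hr] at h2
    exact_mod_cast h2
  -- Step 4: ψ^G = χ + ρ
  have hfr : classInner (indFun T ψ) χ = classInner ψ (fun t : T => χ t) :=
    frobenius_reciprocity T ψ hcfχ
  have hindc : IsCharacter G (indFun T ψ) := isCharacter_indFun T hψc
  have h3 : classInner (indFun T ψ) χ ≠ 0 := by
    rw [hfr, classInner_char_comm hψc hχT]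
    exact hmψ'
  obtain ⟨ρ, hρ, hdec⟩ := exists_add_of_constituent hindc hχ h3
  -- [(ψ^G)_N, ϑ] = f
  have hTcard : (Nat.card T : ℂ) ≠ 0 := by
    rw [Nat.cast_ne_zero]; exact Nat.card_pos.ne'
  have hsumT : ∑ x : G, classInner (conjFun H x ϑ) ϑ = (Nat.card T : ℂ) := by
    have h1 : ∀ x : G, classInner (conjFun H x ϑ) ϑ = if x ∈ T then 1 else 0 := by
      intro x
      rw [irr_orthogonality (isIrrCharacter_conjFun H x hϑ) hϑ]
      simp only [hT' x]
    simp only [h1]
    rw [Finset.sum_boole, Nat.card_eq_fintype_card, Fintype.card_subtype]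
  have hindN : classInner (fun n : H => indFun T ψ n) ϑ = (f : ℂ) := by
    rw [indFun_restrict_normal H T hHT ψ, hψres, classInner_smul_left, classInner_sum_left]
    simp only [conjFun_smul, classInner_smul_left]
    rw [← Finset.mul_sum, hsumT]
    field_simp
  obtain ⟨s, hs⟩ := classInner_char_nat (isCharacter_restrict H hρ) hϑc
  have hfes : f = e + s := by
    have h1 : (fun n : H => indFun T ψ n) = (fun n : H => χ n) + (fun n : H => ρ n) := by
      funext n; rw [hdec]; rfl
    have h2 := hindN
    rw [h1, classInner_add_left, he, hs] at h2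
    exact_mod_cast h2.symm
  have hs0 : s = 0 := by omega
  have hef : e = f := by omega
  -- Step 5: ρ = 0
  have hρ0 : ρ = 0 := by
    by_contra hne
    obtain ⟨χ', hχ', hc'⟩ := exists_constituent hρ hne
    have hχ'c := isCharacter_of_isIrrCharacter hχ'
    have hcf' := isClassFunction_of_isIrrCharacter hχ'
    -- χ' is a constituent of ψ^G
    have h4 : classInner (indFun T ψ) χ' ≠ 0 := by
      rw [hdec, add_comm]
      exact classInner_add_ne_zero hρ hχc hχ'c hc'
    rw [frobenius_reciprocity T ψ hcf'] at h4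
    have hχ'T : IsCharacter T (fun t : T => χ' t) := isCharacter_restrict T hχ'c
    rw [classInner_char_comm hψc hχ'T] at h4
    obtain ⟨ρ'', hρ'', hdec''⟩ := exists_add_of_constituent hχ'T hψ h4
    have h5 : classInner (fun n : H => χ' n) ϑ ≠ 0 := by
      have h1 : (fun n : H => χ' n) = resFun hHT ψ + resFun hHT ρ'' := by
        have : (fun n : H => χ' n) = resFun hHT (fun t : T => χ' t) := rfl
        rw [this, hdec'', resFun_add]
      rw [h1]
      exact classInner_add_ne_zero hψN (isCharacter_resFun hHT hρ'') hϑc hfψ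
    obtain ⟨ρ₃, hρ₃, hdec₃⟩ := exists_add_of_constituent hρ hχ' hc'
    have h6 : classInner (fun n : H => ρ n) ϑ ≠ 0 := by
      have h1 : (fun n : H => ρ n) = (fun n : H => χ' n) + (fun n : H => ρ₃ n) := by
        funext n; rw [hdec₃]; rfl
      rw [h1]
      exact classInner_add_ne_zero (isCharacter_restrict H hχ'c) (isCharacter_restrict H hρ₃) hϑc h5
    apply h6
    rw [hs, hs0]
    simp
  refine ⟨ψ, hψ, ?_, ?_⟩
  · rw [hdec, hρ0, add_zero]
  · show classInner (resFun hHT ψ) ϑ = _
    rw [hf, he, hef]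

end Cfsg.Agent.S0854
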