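import Mathlib
import Cfsg.Statements.S0868
import Cfsg.Agent.Lib.Helper5.Gallagher
import Cfsg.Agent.S0856

set_option autoImplicit false
set_option linter.style.haveILetI false
set_option linter.unusedVariables false
open Cfsg

namespace Cfsg.Agent.S0868

open Cfsg.Agent.Helper24 Cfsg.Agent.Helper5
open scoped ComplexConjugate

/-- Let N be a normal subgroup of the finite group G, χ an irreducible character of G whose restriction ϑ to N is irreducible, and ψ an irreducible character of G. Define η on G by η g = (1 / order of N) * Σ over n in N of ψ (n * g) * conj (χ (n * g)). Then: if the restriction of ψ to N has nonzero inner product with ϑ, η is an irreducible character of G; if that inner product is zero, η vanishes identically; and if ψ = χ then η is identically 1. -/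
theorem result {G : Type*} [Group G] [Fintype G] (N : Subgroup G) [N.Normal] [Fintype N] (χ : G → ℂ) (hχ : Cfsg.IsIrrCharacter G χ) (hχN : Cfsg.IsIrrCharacter N (fun n : N => χ n)) (ψ : G → ℂ) (hψ : Cfsg.IsIrrCharacter G ψ) (η : G → ℂ) (hη : η = fun g => (Nat.card N : ℂ)⁻¹ * ∑ n : N, ψ ((n : G) * g) * conj (χ ((n : G) * g))) : (Cfsg.classInner (fun n : N => ψ n) (fun n : N => χ n) ≠ 0 → Cfsg.IsIrrCharacter G η) ∧ (Cfsg.classInner (fun n : N => ψ n) (fun n : N => χ n) = 0 → η = 0) ∧ (ψ = χ → η = fun _ => 1) := by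
  classical
  letI := irrFintype (G := G)
  have hN : N.Normal := inferInstance
  have hN0 : (Nat.card N : ℂ) ≠ 0 := by
    rw [Nat.cast_ne_zero]; exact Nat.card_pos.ne'
  have hG0 : (Nat.card G : ℂ) ≠ 0 := by
    rw [Nat.cast_ne_zero]; exact Nat.card_pos.ne'
  have hcfχ := isClassFunction_of_isIrrCharacter hχ
  have hcfψ := isClassFunction_of_isIrrCharacter hψ
  have hχc := isCharacter_of_isIrrCharacter hχ
  have hone : IsIrrCharacter N (fun _ : N => (1 : ℂ)) := isIrrCharacter_one
  set ϑ : N → ℂ := fun n : N => χ n with hϑdef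
  have hϑinv : ∀ (g : G) (n : N), ϑ ⟨g * n * g⁻¹, hN.conj_mem (n : G) n.2 g⟩ = ϑ n := by
    intro g n
    exact hcfχ n g
  have hprodeq : ((fun _ : N => (1 : ℂ)) * ϑ) = ϑ := by
    funext n; simp
  -- Gallagher via S0856
  have hgal := Cfsg.Agent.S0856.result N (fun _ => (1 : ℂ)) ϑ hone hχN (fun g n => rfl) hϑinv
    (by rw [hprodeq]; exact hχN) χ hχ (fun n => rfl)
  rw [hprodeq] at hgal
  obtain ⟨hmaps, hinj, hsurj⟩ := hgal
  -- η is a class function
  have hηapp : ∀ g, η g = (Nat.card N : ℂ)⁻¹ * ∑ n : N, ψ ((n : G) * g) * conj (χ ((n : G) * g)) := by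
    intro g; rw [hη]
  have hηleft : ∀ (m : G) (hm : m ∈ N) (g : G), η (m * g) = η g := by
    intro m hm g
    rw [hηapp, hηapp]
    congr 1
    have hre := Equiv.sum_comp (Equiv.mulRight (⟨m, hm⟩ : N))
      (fun n : N => ψ ((n : G) * g) * conj (χ ((n : G) * g)))
    rw [← hre]
    apply Finset.sum_congr rfl
    intro n _
    simp [mul_assoc]
  have hηcf : IsClassFunction G η := by
    intro g h
    rw [hηapp, hηapp]
    congr 1
    rw [← Equiv.sum_comp ((MulAut.conjNormal h : MulAut N).toEquiv)]
    apply Finset.sum_congr rfl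
    intro n _
    have e1 : ((MulAut.conjNormal h : MulAut N).toEquiv n : G) * (h * g * h⁻¹) = h * ((n : G) * g) * h⁻¹ := by
      show ((MulAut.conjNormal h n : N) : G) * (h * g * h⁻¹) = _
      rw [MulAut.conjNormal_apply]
      group
    rw [e1, hcfψ, hcfχ]
  have hηright : ∀ g : G, ∀ m ∈ N, η (g * m) = η g := by
    intro g m hm
    have h1 : g * m = (g * m * g⁻¹) * g := by group
    rw [h1]
    exact hηleft _ (hN.conj_mem m hm g) g
  -- inner product of η with N-trivial irreducible β
  have hηβ : ∀ β : G → ℂ, IsIrrCharacter G β → (∀ n ∈ N, β n = β 1) →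
      classInner η β = classInner ψ (β * χ) := by
    intro β hβ hβN
    have hβc := isCharacter_of_isIrrCharacter hβ
    have hβcf := isClassFunction_of_isIrrCharacter hβ
    have hβleft : ∀ (n : N) (g : G), β ((n : G) * g) = β g := by
      intro n g
      have h1 : (n : G) * g = g * (g⁻¹ * n * g) := by group
      rw [h1]
      have hmem : g⁻¹ * (n : G) * g ∈ N := by
        have := hN.conj_mem (n : G) n.2 g⁻¹
        simpa using this
      exact char_mul_of_mem_charKer hβc ((mem_charKer hβc _).mpr (hβN _ hmem)) g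
    unfold classInner
    congr 1
    have h1 : ∀ g : G, η g * conj (β g) = (Nat.card N : ℂ)⁻¹ *
        ∑ n : N, ψ ((n : G) * g) * conj ((β * χ) ((n : G) * g)) := by
      intro g
      rw [hηapp, mul_assoc, Finset.sum_mul]
      congr 1
      apply Finset.sum_congr rfl
      intro n _
      rw [Pi.mul_apply, hβleft n g, map_mul]
      ring
    simp only [h1]
    rw [← Finset.mul_sum, Finset.sum_comm]
    have h2 : ∀ n : N, ∑ g : G, ψ ((n : G) * g) * conj ((β * χ) ((n : G) * g)) =
        ∑ g : G, ψ g * conj ((β * χ) g) := by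
      intro n
      exact Equiv.sum_comp (Equiv.mulLeft (n : G)) (fun g => ψ g * conj ((β * χ) g))
    simp only [h2]
    rw [Finset.sum_const, Finset.card_univ, ← Nat.card_eq_fintype_card, nsmul_eq_mul]
    field_simp
  -- N-trivial irreducibles are in the domain
  have hdom : ∀ β : G → ℂ, IsIrrCharacter G β → (∀ n ∈ N, β n = β 1) →
      β ∈ {β : G → ℂ | IsIrrCharacter G β ∧ classInner (indFun N (fun _ => (1 : ℂ))) β ≠ 0} :=
    fun β hβ hβN => ⟨hβ, constituent_ind_one_of_ntrivial N hβ hβN⟩
  -- key: if ψ = β₀ χ with β₀ in the domain then η = β₀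
  have hkey : ∀ β₀ : G → ℂ, β₀ ∈ {β : G → ℂ | IsIrrCharacter G β ∧
      classInner (indFun N (fun _ => (1 : ℂ))) β ≠ 0} → β₀ * χ = ψ → η = β₀ := by
    intro β₀ hβ₀ heq
    have hβ₀irr := hβ₀.1
    have hβ₀N := ntrivial_of_constituent_ind_one N hβ₀.1 hβ₀.2
    rw [classFunction_expansion hηcf]
    rw [Finset.sum_eq_single (⟨β₀, hβ₀irr⟩ : IrrCharacter G)]
    · simp only
      rw [hηβ β₀ hβ₀irr hβ₀N, heq, irr_orthogonality hψ hψ, if_pos rfl, one_smul]
    · intro β _ hne
      by_cases hβN : ∀ n ∈ N, (β : G → ℂ) n = (β : G → ℂ) 1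
      · rw [hηβ β β.2 hβN]
        have hβdom := hdom β β.2 hβN
        have hirr := (hmaps hβdom).1
        simp only at hirr
        have hne' : ψ ≠ (β : G → ℂ) * χ := by
          intro h
          apply hne
          apply Subtype.ext
          apply hinj hβdom hβ₀
          simp only
          rw [← h, heq]
        rw [irr_orthogonality hψ hirr, if_neg hne', zero_smul]
      · push Not at hβN
        obtain ⟨x, hx, hxne⟩ := hβN
        rw [classInner_eq_zero_of_right_invariant N hηright β.2 ⟨x, hx, hxne⟩, zero_smul]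
    · intro h; exact absurd (Finset.mem_univ _) h
  refine ⟨?_, ?_, ?_⟩
  · intro hne
    -- ψ is a constituent of ϑ^G
    have h1 : classInner (indFun N ϑ) ψ ≠ 0 := by
      rw [frobenius_reciprocity N ϑ hcfψ, ← classInner_conj_symm]
      intro h0
      apply hne
      have := congrArg conj h0
      simpa using this
    obtain ⟨β₀, hβ₀, heq⟩ := hsurj ⟨hψ, h1⟩
    simp only at heq
    rw [hkey β₀ hβ₀ heq]
    exact hβ₀.1
  · intro h0
    rw [classFunction_expansion hηcf]
    apply Finset.sum_eq_zero
    intro β _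
    by_cases hβN : ∀ n ∈ N, (β : G → ℂ) n = (β : G → ℂ) 1
    · rw [hηβ β β.2 hβN]
      have hβdom := hdom β β.2 hβN
      have hmap := hmaps hβdom
      simp only at hmap
      have hne' : ψ ≠ (β : G → ℂ) * χ := by
        intro h
        have h2 := hmap.2
        rw [← h, frobenius_reciprocity N ϑ hcfψ, ← classInner_conj_symm, h0] at h2
        simp at h2
      rw [irr_orthogonality hψ hmap.1, if_neg hne', zero_smul]
    · push Not at hβN
      obtain ⟨x, hx, hxne⟩ := hβN
      rw [classInner_eq_zero_of_right_invariant N hηright β.2 ⟨x, hx, hxne⟩, zero_smul]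
  · intro heq
    have h1dom := hdom (fun _ => (1 : ℂ)) isIrrCharacter_one (fun _ _ => rfl)
    apply hkey (fun _ => (1 : ℂ)) h1dom
    rw [heq]
    funext g
    simp

end Cfsg.Agent.S0868
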