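import Mathlib
import Cfsg.Statements.S0927
import Cfsg.Agent.Lib.Helper23.BlockCongr
import Cfsg.Agent.Lib.Helper23.BlockMinMax2

set_option autoImplicit false
open Cfsg Cfsg.Agent.Helper23.Blk Cfsg.Agent.Helper24

namespace Cfsg.Agent.S0927

/-- Let B be a block of the finite group G relative to a maximal ideal M of the algebraic integers containing p, let y represent a defect class of B and let P be a Sylow p-subgroup of the centralizer of y. (a) If x ∈ P and χ ∈ B has height zero, then χ (x * y) is not in the local ideal at M. (b) If x lies in the centre of P, then for every χ ∈ B the central character of χ at x * y is not in the local ideal at M. -/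
theorem result {G : Type*} [Group G] [Finite G] (p : ℕ) [Fact p.Prime] (M : Ideal Cfsg.AlgInt) (hM : Cfsg.IsPModular p M) (B : Set (Cfsg.IrrCharacter G)) (hB : Cfsg.IsPBlock M B) (y : G) (hy : Cfsg.IsDefectClass M B y) (P : Sylow p (Subgroup.centralizer ({y} : Set G))) (x : Subgroup.centralizer ({y} : Set G)) (hx : x ∈ (P : Subgroup (Subgroup.centralizer ({y} : Set G)))) : (∀ χ ∈ B, Cfsg.blockHeight p B (χ : G → ℂ) = 0 → ¬ Cfsg.MemLocalIdeal M ((χ : G → ℂ) ((x : G) * y))) ∧ ((∀ w ∈ (P : Subgroup (Subgroup.centralizer ({y} : Set G))), x * w = w * x) → ∀ χ ∈ B, ¬ Cfsg.MemLocalIdeal M (Cfsg.centralChar (χ : G → ℂ) ((x : G) * y))) := by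
  classical
  haveI : Fintype G := Fintype.ofFinite G
  haveI hMp : M.IsPrime := hM.2.1.isPrime
  have hp : p.Prime := hM.1
  -- basic facts on `x`
  obtain ⟨k, hk⟩ := (P.2 : IsPGroup p (P : Subgroup (Subgroup.centralizer ({y} : Set G)))) ⟨x, hx⟩
  have hxk : (x : G) ^ p ^ k = 1 := by
    have := congrArg (fun z : (P : Subgroup (Subgroup.centralizer ({y} : Set G))) =>
      ((z : Subgroup.centralizer ({y} : Set G)) : G)) hk
    simpa using this
  have hcomm : Commute (x : G) y := by
    have := x.2
    rw [Subgroup.mem_centralizer_iff] at this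
    exact (this y rfl).symm
  -- degrees
  have hd0 : ∀ χ : IrrCharacter G, charDegree (χ : G → ℂ) ≠ 0 := by
    intro χ h0
    have := irr_one_ne_zero χ.2
    rw [irr_one_eq_charDegree χ.2, h0] at this
    exact this (by simp)
  have hi0 : ∀ g : G, (Subgroup.centralizer ({g} : Set G)).index ≠ 0 :=
    fun g => Subgroup.index_ne_zero_of_finite
  have hsInf := sInf_factorization_eq_of_isDefectClass hM hB hy
  -- part (a)
  have parta : ∀ χ ∈ B, blockHeight p B (χ : G → ℂ) = 0 →
      ¬ MemLocalIdeal M ((χ : G → ℂ) ((x : G) * y)) := by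
    intro χ hχ hht hcon
    unfold blockHeight at hht
    rw [hsInf] at hht
    have hle := factorization_index_le_of_isDefectClass hM hy hχ
    have hR := (memLocalRing_natCast_div hM (hi0 y) (hd0 χ) (by omega)).1
    have hχy : ¬ MemLocalIdeal M ((χ : G → ℂ) y) := by
      intro h
      apply hy.2.2 χ hχ
      unfold centralChar
      have h2 : ((Subgroup.centralizer ({y} : Set G)).index : ℂ) * (χ : G → ℂ) y /
          (χ : G → ℂ) 1 = ((Subgroup.centralizer ({y} : Set G)).index : ℂ) /
          (charDegree (χ : G → ℂ) : ℂ) * (χ : G → ℂ) y := by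
        rw [irr_one_eq_charDegree χ.2]
        ring
      rw [h2]
      exact memLocalIdeal_mul_left hR h
    apply hχy
    have hdiff := memLocalIdeal_char_mul_sub hM (isCharacter_of_isIrrCharacter χ.2) hcomm hxk
    have : (χ : G → ℂ) y = (χ : G → ℂ) ((x : G) * y) -
        ((χ : G → ℂ) ((x : G) * y) - (χ : G → ℂ) y) := by ring
    rw [this]
    exact memLocalIdeal_sub hcon hdiff
  refine ⟨parta, ?_⟩
  intro hcent χ hχ
  -- a character of height zero
  have hne : ((fun χ : IrrCharacter G => (charDegree (χ : G → ℂ)).factorization p) '' B).Nonempty := by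
    obtain ⟨χ', hχ'⟩ := block_nonempty hM hB
    exact ⟨_, χ', hχ', rfl⟩
  obtain ⟨χ₀, hχ₀, hχ₀e⟩ := Nat.sInf_mem hne
  have hht₀ : blockHeight p B (χ₀ : G → ℂ) = 0 := by
    unfold blockHeight
    simp only at hχ₀e
    rw [hχ₀e]
    exact Nat.sub_self _
  have h1 := parta χ₀ hχ₀ hht₀
  apply not_memLocalIdeal_centralChar_of_block hM hB ⟨χ₀, hχ₀, ?_⟩ hχ
  -- the centralizer of `x * y`
  have hyreg : ¬ p ∣ orderOf y := by
    intro h
    apply hy.2.1
    rw [blockCoeff_eq_zero_of_pSingular hM hB h]
    exact memLocalIdeal_zero ne_top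
  have hypow : ∃ m : ℕ, ((x : G) * y) ^ m = y := by
    have hcop : Nat.Coprime (p ^ k) (orderOf y) :=
      Nat.Coprime.pow_left _ ((Nat.Prime.coprime_iff_not_dvd hp).2 hyreg)
    obtain ⟨m, hm1, hm2⟩ := Nat.chineseRemainder hcop 0 1
    refine ⟨m, ?_⟩
    rw [hcomm.mul_pow]
    have e1 : (x : G) ^ m = 1 := by
      have : p ^ k ∣ m := (Nat.modEq_zero_iff_dvd).1 hm1
      obtain ⟨t, rfl⟩ := this
      rw [pow_mul, hxk, one_pow]
    have e2 : y ^ m = y := by
      have := pow_eq_pow_iff_modEq.2 hm2
      rw [this, pow_one]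
    rw [e1, e2, one_mul]
  obtain ⟨m, hm⟩ := hypow
  have hCle : Subgroup.centralizer ({(x : G) * y} : Set G) ≤ Subgroup.centralizer ({y} : Set G) := by
    intro g hg
    rw [Subgroup.mem_centralizer_iff] at hg ⊢
    intro w hw
    rw [Set.mem_singleton_iff] at hw
    subst hw
    have h2 : Commute ((x : G) * w) g := hg _ rfl
    have h3 := h2.pow_left m
    rw [hm] at h3
    exact h3
  have hPle : (P : Subgroup (Subgroup.centralizer ({y} : Set G))).map
      (Subgroup.centralizer ({y} : Set G)).subtype ≤
      Subgroup.centralizer ({(x : G) * y} : Set G) := by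
    rintro _ ⟨w, hw, rfl⟩
    rw [Subgroup.mem_centralizer_iff]
    intro z hz
    rw [Set.mem_singleton_iff] at hz
    subst hz
    have e1 : (x : G) * (w : G) = (w : G) * (x : G) := by
      have := hcent w hw
      exact congrArg Subtype.val this
    have e2 : y * (w : G) = (w : G) * y := by
      have := w.2
      rw [Subgroup.mem_centralizer_iff] at this
      exact this y rfl
    simp only [Subgroup.subtype_apply]
    calc (x : G) * y * (w : G) = (x : G) * ((w : G) * y) := by rw [mul_assoc, e2]
      _ = (w : G) * ((x : G) * y) := by rw [← mul_assoc, e1, mul_assoc]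
  have hcardP := card_sylow_map_centralizer y P
  have hfac : (Nat.card (Subgroup.centralizer ({(x : G) * y} : Set G))).factorization p =
      (Nat.card (Subgroup.centralizer ({y} : Set G))).factorization p := by
    apply le_antisymm
    · have hdvd := Subgroup.card_dvd_of_le hCle
      exact (Nat.factorization_le_iff_dvd Nat.card_pos.ne' Nat.card_pos.ne').2 hdvd p
    · have hdvd := Subgroup.card_dvd_of_le hPle
      rw [hcardP] at hdvd
      exact (hp.pow_dvd_iff_le_factorization Nat.card_pos.ne').1 hdvd
  have hidx : ((Subgroup.centralizer ({(x : G) * y} : Set G)).index).factorization p =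
      ((Subgroup.centralizer ({y} : Set G)).index).factorization p := by
    have e1 := Subgroup.card_mul_index (Subgroup.centralizer ({(x : G) * y} : Set G))
    have e2 := Subgroup.card_mul_index (Subgroup.centralizer ({y} : Set G))
    have f1 := congrArg (fun n => n.factorization p) e1
    have f2 := congrArg (fun n => n.factorization p) e2
    rw [Nat.factorization_mul Nat.card_pos.ne' (hi0 _)] at f1 f2
    simp only [Finsupp.coe_add, Pi.add_apply] at f1 f2
    omega
  -- conclusion
  have hdeg : (charDegree (χ₀ : G → ℂ)).factorization p =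
      ((Subgroup.centralizer ({(x : G) * y} : Set G)).index).factorization p := by
    rw [hidx, ← hsInf]
    exact hχ₀e
  have hU := (memLocalRing_natCast_div hM (hi0 ((x : G) * y)) (hd0 χ₀) (le_of_eq hdeg))
  unfold centralChar
  have h2 : ((Subgroup.centralizer ({(x : G) * y} : Set G)).index : ℂ) *
      (χ₀ : G → ℂ) ((x : G) * y) / (χ₀ : G → ℂ) 1 =
      ((Subgroup.centralizer ({(x : G) * y} : Set G)).index : ℂ) /
      (charDegree (χ₀ : G → ℂ) : ℂ) * (χ₀ : G → ℂ) ((x : G) * y) := by
    rw [irr_one_eq_charDegree χ₀.2]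
    ring
  rw [h2]
  exact not_memLocalIdeal_mul hU.1 (memLocalRing_of_isIntegral
    (isIntegral_of_isCharacter (isCharacter_of_isIrrCharacter χ₀.2) _) ne_top) (hU.2 hdeg) h1

end Cfsg.Agent.S0927
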