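import Mathlib
import Cfsg.Statements.S0931
import Cfsg.Agent.Lib.Helper23.BlockBrauer4
import Cfsg.Agent.Lib.Helper23.BlockRank
import Cfsg.Agent.Lib.Helper23.BlockDefectZero
import Cfsg.Agent.S0917
import Cfsg.Agent.S0927

set_option autoImplicit false
open Cfsg Cfsg.Agent.Helper23.Blk Cfsg.Agent.Helper24
open scoped ComplexConjugate

namespace Cfsg.Agent.S0931

/-- characters of defect zero vanish on the `p`-singular elements -/
theorem eq_zero_of_defect_zero {G : Type*} [Group G] [Finite G] {p : ℕ} [Fact p.Prime]
    {M : Ideal AlgInt} (hM : IsPModular p M) (χ : IrrCharacter G)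
    (h : ¬ p ∣ Nat.card G / charDegree (χ : G → ℂ)) {y : G} (hy : p ∣ orderOf y) :
    (χ : G → ℂ) y = 0 := by
  classical
  haveI : Fintype G := Fintype.ofFinite G
  have h1 := (not_dvd_iff_blockOf_eq_singleton hM χ).1 h
  have h2 := blockCoeff_eq_zero_of_pSingular hM (B := blockOf M (χ : G → ℂ)) ⟨χ, rfl⟩ hy
  rw [h1, blockCoeff_singleton] at h2
  have h3 : (Nat.card G : ℂ)⁻¹ ≠ 0 := inv_ne_zero card_ne_zero
  have h4 := irr_one_ne_zero χ.2
  rcases mul_eq_zero.1 h2 with h5 | h5
  · exact absurd h5 h3
  · rcases mul_eq_zero.1 h5 with h6 | h6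
    · exact absurd h6 h4
    · have := congrArg conj h6
      rwa [Complex.conj_conj, map_zero] at this

/-- Let H be a subgroup of the finite group G and fix a maximal ideal M of the algebraic integers containing the prime p. If the block b of H induces the block B of G, then b has defect 0 if and only if B has defect 0. -/
theorem result {G : Type*} [Group G] [Finite G] (p : ℕ) [Fact p.Prime] (M : Ideal Cfsg.AlgInt) (hM : Cfsg.IsPModular p M) (H : Subgroup G) (b : Set (Cfsg.IrrCharacter H)) (B : Set (Cfsg.IrrCharacter G)) (hind : Cfsg.IsInducedBlock M H b B) : Cfsg.blockDefect p b = 0 ↔ Cfsg.blockDefect p B = 0 := by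
  classical
  haveI : Fintype G := Fintype.ofFinite G
  haveI : Fintype H := Fintype.ofFinite H
  letI : Fintype (IrrCharacter G) := irrFintype
  letI : Fintype (IrrCharacter H) := irrFintype
  haveI hMp : M.IsPrime := hM.2.1.isPrime
  have hp : p.Prime := hM.1
  have hb := hind.1
  have hB := hind.2.1
  constructor
  · intro hb0
    by_contra hB0
    obtain ⟨ξ, hξ⟩ := block_nonempty hM hb
    obtain ⟨χ, hχ⟩ := block_nonempty hM hB
    have hξ0 : ¬ p ∣ Nat.card H / charDegree (ξ : H → ℂ) :=
      (blockDefect_eq_zero_iff p hp ⟨ξ, hξ⟩).1 hb0 ξ hξ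
    obtain ⟨g, hg⟩ := exists_isDefectClass hMp hB
    obtain ⟨P⟩ : Nonempty (Sylow p (Subgroup.centralizer ({g} : Set G))) := inferInstance
    have hgreg : ¬ p ∣ orderOf g := by
      intro hcon
      apply hg.2.1
      rw [blockCoeff_eq_zero_of_pSingular hM hB hcon]
      exact memLocalIdeal_zero ne_top
    -- the Sylow subgroup is nontrivial
    have hcard : Nat.card (P : Subgroup (Subgroup.centralizer ({g} : Set G))) =
        p ^ blockDefect p B := by
      rw [blockDefect_eq_of_isDefectClass hM hB hg]
      exact P.card_eq_multiplicity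
    haveI : Nontrivial (P : Subgroup (Subgroup.centralizer ({g} : Set G))) := by
      rw [← Finite.one_lt_card_iff_nontrivial, hcard]
      exact Nat.one_lt_pow hB0 hp.one_lt
    haveI := P.2.center_nontrivial
    obtain ⟨⟨z, hz⟩, hz1⟩ := exists_ne (1 : Subgroup.center (P : Subgroup (Subgroup.centralizer ({g} : Set G))))
    have hzc : ∀ w ∈ (P : Subgroup (Subgroup.centralizer ({g} : Set G))),
        (z : Subgroup.centralizer ({g} : Set G)) * w = w * (z : Subgroup.centralizer ({g} : Set G)) := by
      intro w hw
      rw [Subgroup.mem_center_iff] at hz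
      have := hz ⟨w, hw⟩
      exact (congrArg Subtype.val this).symm
    have h1 := (Cfsg.Agent.S0927.result p M hM B hB g hg P (z : Subgroup.centralizer ({g} : Set G))
      z.2).2 hzc χ hχ
    -- the element is p-singular
    have hzne : ((z : Subgroup.centralizer ({g} : Set G)) : G) ≠ 1 := by
      intro hcon
      apply hz1
      apply Subtype.ext
      apply Subtype.ext
      apply Subtype.ext
      exact hcon
    have hzord : ∃ k, orderOf ((z : Subgroup.centralizer ({g} : Set G)) : G) = p ^ k := by
      obtain ⟨k, hk⟩ := P.2 z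
      have h2 : ((z : Subgroup.centralizer ({g} : Set G)) : G) ^ p ^ k = 1 := by
        have := congrArg (fun t : (P : Subgroup (Subgroup.centralizer ({g} : Set G))) =>
          ((t : Subgroup.centralizer ({g} : Set G)) : G)) hk
        simpa using this
      obtain ⟨j, -, hj⟩ := (Nat.dvd_prime_pow hp).1 (orderOf_dvd_of_pow_eq_one h2)
      exact ⟨j, hj⟩
    have hcomm : Commute ((z : Subgroup.centralizer ({g} : Set G)) : G) g := by
      have := (z : Subgroup.centralizer ({g} : Set G)).2
      rw [Subgroup.mem_centralizer_singleton_iff] at this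
      exact this
    have hsing := dvd_orderOf_mul_of_commute hp hzne hzord hgreg hcomm
    -- the induced central character vanishes there
    have h3 : inducedCentralChar H (ξ : H → ℂ)
        (((z : Subgroup.centralizer ({g} : Set G)) : G) * g) = 0 := by
      unfold inducedCentralChar
      apply finsum_mem_eq_zero_of_forall_eq_zero
      intro h hh
      have hh' : IsConj (((z : Subgroup.centralizer ({g} : Set G)) : G) * g) (h : G) := hh
      have hord : orderOf (h : G) = orderOf (((z : Subgroup.centralizer ({g} : Set G)) : G) * g) := by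
        obtain ⟨c, hc⟩ := isConj_iff.1 hh'
        rw [← hc]
        exact (MulAut.conj c).orderOf_eq _
      have hsing' : p ∣ orderOf h := by
        rw [← Subgroup.orderOf_coe, hord]
        exact hsing
      rw [eq_zero_of_defect_zero hM ξ hξ0 hsing', zero_div]
    have h4 := hind.2.2 ξ hξ χ hχ (((z : Subgroup.centralizer ({g} : Set G)) : G) * g)
    rw [h3, zero_sub] at h4
    have := memLocalIdeal_neg h4
    rw [neg_neg] at this
    exact h1 this
  · intro hB0
    obtain ⟨D_b, hD_b⟩ := exists_isDefectGroup hM hb
    obtain ⟨E, hE, hle⟩ := Cfsg.Agent.S0917.result p M hM H b hb B hB hind D_b hD_b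
    have h1 := card_defectGroup hM hB hE
    rw [hB0, pow_zero] at h1
    have h2 := card_defectGroup hM hb hD_b
    have h3 : Nat.card (D_b.map H.subtype) ≤ 1 := by
      rw [← h1]
      exact Subgroup.card_le_of_le hle
    rw [Subgroup.card_map_of_injective (Subgroup.subtype_injective _), h2] at h3
    by_contra hcon
    have := Nat.one_lt_pow hcon hp.one_lt
    omega

end Cfsg.Agent.S0931
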