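import Mathlib
import Cfsg.Statements.S2566

set_option autoImplicit false
open Cfsg

namespace Cfsg.Agent.S2566

open Matrix Equiv

abbrev I4 := Fin 2 ⊕ Fin 2
abbrev V4 := I4 → ZMod 2
abbrev Qf : V4 → ZMod 2 := Cfsg.quadFormPlus 2 (ZMod 2)
abbrev O4 : Subgroup (GL I4 (ZMod 2)) := Cfsg.isometryGroup (ZMod 2) (Cfsg.quadFormPlus 2 (ZMod 2))

/-- the polar form -/
def Bf (u v : V4) : ZMod 2 := Qf (u + v) + Qf u + Qf v

theorem mem_O4 (g : GL I4 (ZMod 2)) : g ∈ O4 ↔ ∀ u : V4, Qf ((g : Matrix I4 I4 (ZMod 2)) *ᵥ u) = Qf u := by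
  constructor
  · intro h u
    exact h u 0
  · intro h u v
    exact h u

/-- the natural action on vectors -/
instance actGL : MulAction (GL I4 (ZMod 2)) V4 where
  smul g v := (g : Matrix I4 I4 (ZMod 2)) *ᵥ v
  one_smul v := Matrix.one_mulVec v
  mul_smul g h v := by
    change ((g * h : GL I4 (ZMod 2)) : Matrix I4 I4 (ZMod 2)) *ᵥ v =
      (g : Matrix I4 I4 (ZMod 2)) *ᵥ ((h : Matrix I4 I4 (ZMod 2)) *ᵥ v)
    rw [Units.val_mul, Matrix.mulVec_mulVec]

theorem smul_def (g : GL I4 (ZMod 2)) (v : V4) : g • v = (g : Matrix I4 I4 (ZMod 2)) *ᵥ v := rfl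

theorem smul_add' (g : GL I4 (ZMod 2)) (u v : V4) : g • (u + v) = g • u + g • v := by
  rw [smul_def, smul_def, smul_def, Matrix.mulVec_add]

theorem Qf_smul (g : O4) (u : V4) : Qf ((g : GL I4 (ZMod 2)) • u) = Qf u :=
  (mem_O4 _).1 g.2 u

theorem Bf_smul (g : O4) (u v : V4) :
    Bf ((g : GL I4 (ZMod 2)) • u) ((g : GL I4 (ZMod 2)) • v) = Bf u v := by
  unfold Bf
  rw [← smul_add', Qf_smul, Qf_smul, Qf_smul]

/-- one step of the stabiliser chain -/
theorem card_le_mul_stab {G α : Type*} [Group G] [Finite G] [MulAction G α] [DecidableEq α]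
    (x : α) (S : Finset α) (h : ∀ g : G, g • x ∈ S) :
    Nat.card G ≤ S.card * Nat.card (MulAction.stabilizer G x) := by
  have h1 := MulAction.index_stabilizer G x
  have h2 := (MulAction.stabilizer G x).index_mul_card
  have h3 : (MulAction.orbit G x).ncard ≤ S.card := by
    rw [← Set.ncard_coe_finset S]
    apply Set.ncard_le_ncard _ (Finset.finite_toSet S)
    rintro _ ⟨g, rfl⟩
    exact h g
  rw [← h2, h1]
  exact Nat.mul_le_mul_right _ h3

/-- vectors in matrix coordinates `(a, b; c, d)` -/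
def vec (a b c d : ZMod 2) : V4 := Sum.elim ![a, b] ![d, c]

def v₁ : V4 := vec 1 0 0 1
def v₂ : V4 := vec 0 1 1 1
def w₁ : V4 := vec 0 1 1 0
def w₂ : V4 := vec 1 1 0 1

def S₁ : Finset V4 := Finset.univ.filter (fun u => Qf u = 1)
def S₂ : Finset V4 := Finset.univ.filter (fun u => Qf u = 1 ∧ Bf v₁ u = 1)
def S₃ : Finset V4 := Finset.univ.filter (fun u => Qf u = 1 ∧ Bf v₁ u = 0 ∧ Bf v₂ u = 0)
def S₄ : Finset V4 :=
  Finset.univ.filter (fun u => Qf u = 1 ∧ Bf v₁ u = 0 ∧ Bf v₂ u = 0 ∧ Bf w₁ u = 1)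

set_option maxRecDepth 100000 in
theorem card_S₁ : S₁.card = 6 := by decide
set_option maxRecDepth 100000 in
theorem card_S₂ : S₂.card = 2 := by decide
set_option maxRecDepth 100000 in
theorem card_S₃ : S₃.card = 3 := by decide
set_option maxRecDepth 100000 in
theorem card_S₄ : S₄.card = 2 := by decide

set_option maxRecDepth 100000 in
theorem base_facts : Qf v₁ = 1 ∧ Qf v₂ = 1 ∧ Qf w₁ = 1 ∧ Qf w₂ = 1 ∧ Bf v₁ v₂ = 1 ∧ Bf v₁ w₁ = 0 ∧
    Bf v₂ w₁ = 0 ∧ Bf v₁ w₂ = 0 ∧ Bf v₂ w₂ = 0 ∧ Bf w₁ w₂ = 1 := by decide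

set_option maxRecDepth 100000 in
theorem span_base : ∀ u : V4, ∃ c₁ c₂ c₃ c₄ : ZMod 2,
    u = c₁ • v₁ + c₂ • v₂ + c₃ • w₁ + c₄ • w₂ := by decide

theorem eq_one_of_fix (g : GL I4 (ZMod 2)) (h1 : g • v₁ = v₁) (h2 : g • v₂ = v₂)
    (h3 : g • w₁ = w₁) (h4 : g • w₂ = w₂) : g = 1 := by
  have hall : ∀ u : V4, (g : Matrix I4 I4 (ZMod 2)) *ᵥ u = u := by
    intro u
    obtain ⟨c₁, c₂, c₃, c₄, rfl⟩ := span_base u
    rw [smul_def] at h1 h2 h3 h4
    simp only [Matrix.mulVec_add, Matrix.mulVec_smul, h1, h2, h3, h4]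
  apply Units.ext
  have : Matrix.toLin' (g : Matrix I4 I4 (ZMod 2)) = Matrix.toLin' 1 := by
    apply LinearMap.ext
    intro u
    rw [Matrix.toLin'_apply, hall, Matrix.toLin'_one, LinearMap.id_apply]
  exact Matrix.toLin'.injective this

theorem card_O4_le : Nat.card O4 ≤ 72 := by
  obtain ⟨q1, q2, q3, q4, b12, b13, b23, b14, b24, b34⟩ := base_facts
  -- level 0
  have e0 : Nat.card O4 ≤ S₁.card * Nat.card (MulAction.stabilizer O4 v₁) := by
    apply card_le_mul_stab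
    intro g
    simp only [S₁, Finset.mem_filter, Finset.mem_univ, true_and]
    change Qf ((g : GL I4 (ZMod 2)) • v₁) = 1
    rw [Qf_smul, q1]
  -- level 1
  have e1 : Nat.card (MulAction.stabilizer O4 v₁) ≤
      S₂.card * Nat.card (MulAction.stabilizer (MulAction.stabilizer O4 v₁) v₂) := by
    apply card_le_mul_stab
    intro g
    have hg1 : ((g : O4) : GL I4 (ZMod 2)) • v₁ = v₁ := g.2
    simp only [S₂, Finset.mem_filter, Finset.mem_univ, true_and]
    change Qf (((g : O4) : GL I4 (ZMod 2)) • v₂) = 1 ∧ Bf v₁ (((g : O4) : GL I4 (ZMod 2)) • v₂) = 1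
    refine ⟨by rw [Qf_smul, q2], ?_⟩
    nth_rewrite 1 [← hg1]
    rw [Bf_smul, b12]
  -- level 2
  have e2 : Nat.card (MulAction.stabilizer (MulAction.stabilizer O4 v₁) v₂) ≤
      S₃.card * Nat.card (MulAction.stabilizer
        (MulAction.stabilizer (MulAction.stabilizer O4 v₁) v₂) w₁) := by
    apply card_le_mul_stab
    intro g
    have hg1 : (((g : MulAction.stabilizer O4 v₁) : O4) : GL I4 (ZMod 2)) • v₁ = v₁ :=
      (g : MulAction.stabilizer O4 v₁).2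
    have hg2 : (((g : MulAction.stabilizer O4 v₁) : O4) : GL I4 (ZMod 2)) • v₂ = v₂ := g.2
    simp only [S₃, Finset.mem_filter, Finset.mem_univ, true_and]
    change Qf ((((g : MulAction.stabilizer O4 v₁) : O4) : GL I4 (ZMod 2)) • w₁) = 1 ∧
      Bf v₁ ((((g : MulAction.stabilizer O4 v₁) : O4) : GL I4 (ZMod 2)) • w₁) = 0 ∧
      Bf v₂ ((((g : MulAction.stabilizer O4 v₁) : O4) : GL I4 (ZMod 2)) • w₁) = 0
    refine ⟨by rw [Qf_smul, q3], ?_, ?_⟩
    · nth_rewrite 1 [← hg1]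
      rw [Bf_smul, b13]
    · nth_rewrite 1 [← hg2]
      rw [Bf_smul, b23]
  -- level 3
  have e3 : Nat.card (MulAction.stabilizer
        (MulAction.stabilizer (MulAction.stabilizer O4 v₁) v₂) w₁) ≤
      S₄.card * Nat.card (MulAction.stabilizer (MulAction.stabilizer
        (MulAction.stabilizer (MulAction.stabilizer O4 v₁) v₂) w₁) w₂) := by
    apply card_le_mul_stab
    intro g
    have hg1 : ((((g : MulAction.stabilizer (MulAction.stabilizer O4 v₁) v₂) :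
        MulAction.stabilizer O4 v₁) : O4) : GL I4 (ZMod 2)) • v₁ = v₁ :=
      ((g : MulAction.stabilizer (MulAction.stabilizer O4 v₁) v₂) :
        MulAction.stabilizer O4 v₁).2
    have hg2 : ((((g : MulAction.stabilizer (MulAction.stabilizer O4 v₁) v₂) :
        MulAction.stabilizer O4 v₁) : O4) : GL I4 (ZMod 2)) • v₂ = v₂ :=
      (g : MulAction.stabilizer (MulAction.stabilizer O4 v₁) v₂).2
    have hg3 : ((((g : MulAction.stabilizer (MulAction.stabilizer O4 v₁) v₂) :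
        MulAction.stabilizer O4 v₁) : O4) : GL I4 (ZMod 2)) • w₁ = w₁ := g.2
    simp only [S₄, Finset.mem_filter, Finset.mem_univ, true_and]
    change Qf (((((g : MulAction.stabilizer (MulAction.stabilizer O4 v₁) v₂) :
        MulAction.stabilizer O4 v₁) : O4) : GL I4 (ZMod 2)) • w₂) = 1 ∧
      Bf v₁ (((((g : MulAction.stabilizer (MulAction.stabilizer O4 v₁) v₂) :
        MulAction.stabilizer O4 v₁) : O4) : GL I4 (ZMod 2)) • w₂) = 0 ∧
      Bf v₂ (((((g : MulAction.stabilizer (MulAction.stabilizer O4 v₁) v₂) :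
        MulAction.stabilizer O4 v₁) : O4) : GL I4 (ZMod 2)) • w₂) = 0 ∧
      Bf w₁ (((((g : MulAction.stabilizer (MulAction.stabilizer O4 v₁) v₂) :
        MulAction.stabilizer O4 v₁) : O4) : GL I4 (ZMod 2)) • w₂) = 1
    refine ⟨by rw [Qf_smul, q4], ?_, ?_, ?_⟩
    · nth_rewrite 1 [← hg1]
      rw [Bf_smul, b14]
    · nth_rewrite 1 [← hg2]
      rw [Bf_smul, b24]
    · nth_rewrite 1 [← hg3]
      rw [Bf_smul, b34]
  -- level 4: trivial
  have e4 : Nat.card (MulAction.stabilizer (MulAction.stabilizer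
        (MulAction.stabilizer (MulAction.stabilizer O4 v₁) v₂) w₁) w₂) ≤ 1 := by
    rw [Finite.card_le_one_iff_subsingleton]
    refine ⟨fun a b => ?_⟩
    have key : ∀ g : MulAction.stabilizer (MulAction.stabilizer
        (MulAction.stabilizer (MulAction.stabilizer O4 v₁) v₂) w₁) w₂, g = 1 := by
      intro g
      have h := eq_one_of_fix (g.1.1.1.1 : GL I4 (ZMod 2)) g.1.1.1.2 g.1.1.2 g.1.2 g.2
      apply Subtype.ext
      apply Subtype.ext
      apply Subtype.ext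
      apply Subtype.ext
      apply Subtype.ext
      exact h
    rw [key a, key b]
  rw [card_S₁] at e0
  rw [card_S₂] at e1
  rw [card_S₃] at e2
  rw [card_S₄] at e3
  calc Nat.card O4 ≤ 6 * (2 * (3 * (2 * 1))) := by
        refine e0.trans (Nat.mul_le_mul_left _ (e1.trans (Nat.mul_le_mul_left _
          (e2.trans (Nat.mul_le_mul_left _ (e3.trans (Nat.mul_le_mul_left _ e4)))))))
    _ = 72 := by norm_num

/-! ### The explicit isometries -/

def rho (σ : Perm (Fin 3)) (i j : Fin 2) : ZMod 2 :=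
  (if σ j.castSucc = i.castSucc then 1 else 0) + (if σ 2 = i.castSucc then 1 else 0)

def row : I4 → Fin 2 := Sum.elim ![0, 0] ![1, 1]
def col : I4 → Fin 2 := Sum.elim ![0, 1] ![1, 0]

def Lmat (σ : Perm (Fin 3)) : Matrix I4 I4 (ZMod 2) :=
  Matrix.of fun x y => if col x = col y then rho σ (row x) (row y) else 0

def Rmat (σ : Perm (Fin 3)) : Matrix I4 I4 (ZMod 2) :=
  Matrix.of fun x y => if row x = row y then rho σ⁻¹ (col y) (col x) else 0

def Tmat : Matrix I4 I4 (ZMod 2) :=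
  Matrix.of fun x y => if row x = col y ∧ col x = row y then 1 else 0

set_option maxRecDepth 100000 in
theorem Lmat_mul : ∀ σ τ : Perm (Fin 3), Lmat σ * Lmat τ = Lmat (σ * τ) := by decide
set_option maxRecDepth 100000 in
theorem Lmat_one : Lmat 1 = 1 := by decide
set_option maxRecDepth 100000 in
theorem Rmat_mul : ∀ σ τ : Perm (Fin 3), Rmat σ * Rmat τ = Rmat (σ * τ) := by decide
set_option maxRecDepth 100000 in
theorem Rmat_one : Rmat 1 = 1 := by decide
set_option maxRecDepth 100000 in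
theorem Tmat_mul : Tmat * Tmat = 1 := by decide
set_option maxRecDepth 100000 in
theorem Lmat_isom : ∀ (σ : Perm (Fin 3)) (u : V4), Qf (Lmat σ *ᵥ u) = Qf u := by decide
set_option maxRecDepth 100000 in
theorem Rmat_isom : ∀ (σ : Perm (Fin 3)) (u : V4), Qf (Rmat σ *ᵥ u) = Qf u := by decide
set_option maxRecDepth 100000 in
theorem Tmat_isom : ∀ (u : V4), Qf (Tmat *ᵥ u) = Qf u := by decide
set_option maxRecDepth 100000 in
theorem LR_comm : ∀ σ τ : Perm (Fin 3), Lmat σ * Rmat τ = Rmat τ * Lmat σ := by decide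
set_option maxRecDepth 100000 in
theorem LR_inj : ∀ σ τ : Perm (Fin 3), Lmat σ * Rmat τ = 1 → σ = 1 ∧ τ = 1 := by decide
set_option maxRecDepth 100000 in
theorem LR_ne_T : ∀ σ τ : Perm (Fin 3), Lmat σ * Rmat τ ≠ Tmat := by decide
set_option maxRecDepth 100000 in
theorem TLT : ∀ σ : Perm (Fin 3), ∃ τ : Perm (Fin 3), Tmat * Lmat σ * Tmat = Rmat τ := by decide
set_option maxRecDepth 100000 in
theorem TRT : ∀ τ : Perm (Fin 3), ∃ σ : Perm (Fin 3), Tmat * Lmat σ * Tmat = Rmat τ := by decide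

def LGL (σ : Perm (Fin 3)) : GL I4 (ZMod 2) :=
  ⟨Lmat σ, Lmat σ⁻¹, by rw [Lmat_mul, mul_inv_cancel, Lmat_one],
    by rw [Lmat_mul, inv_mul_cancel, Lmat_one]⟩

def RGL (σ : Perm (Fin 3)) : GL I4 (ZMod 2) :=
  ⟨Rmat σ, Rmat σ⁻¹, by rw [Rmat_mul, mul_inv_cancel, Rmat_one],
    by rw [Rmat_mul, inv_mul_cancel, Rmat_one]⟩

def TGL : GL I4 (ZMod 2) := ⟨Tmat, Tmat, Tmat_mul, Tmat_mul⟩

theorem LGL_mem (σ : Perm (Fin 3)) : LGL σ ∈ O4 := (mem_O4 _).2 (Lmat_isom σ)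
theorem RGL_mem (σ : Perm (Fin 3)) : RGL σ ∈ O4 := (mem_O4 _).2 (Rmat_isom σ)
theorem TGL_mem : TGL ∈ O4 := (mem_O4 _).2 Tmat_isom

def φL : Perm (Fin 3) →* O4 :=
  MonoidHom.mk' (fun σ => ⟨LGL σ, LGL_mem σ⟩) (by
    intro σ τ
    apply Subtype.ext
    apply Units.ext
    exact (Lmat_mul σ τ).symm)

def φR : Perm (Fin 3) →* O4 :=
  MonoidHom.mk' (fun σ => ⟨RGL σ, RGL_mem σ⟩) (by
    intro σ τ
    apply Subtype.ext
    apply Units.ext
    exact (Rmat_mul σ τ).symm)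

def TO : O4 := ⟨TGL, TGL_mem⟩

theorem φL_val (σ : Perm (Fin 3)) : ((φL σ : GL I4 (ZMod 2)) : Matrix I4 I4 (ZMod 2)) = Lmat σ := rfl
theorem φR_val (σ : Perm (Fin 3)) : ((φR σ : GL I4 (ZMod 2)) : Matrix I4 I4 (ZMod 2)) = Rmat σ := rfl
theorem TO_val : ((TO : GL I4 (ZMod 2)) : Matrix I4 I4 (ZMod 2)) = Tmat := rfl

theorem O4_ext {g h : O4}
    (H : ((g : GL I4 (ZMod 2)) : Matrix I4 I4 (ZMod 2)) = ((h : GL I4 (ZMod 2)) : Matrix I4 I4 (ZMod 2))) :
    g = h := Subtype.ext (Units.ext H)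

theorem φLR_comm (σ τ : Perm (Fin 3)) : Commute (φL σ) (φR τ) := by
  apply O4_ext
  exact LR_comm σ τ

def φLR : Perm (Fin 3) × Perm (Fin 3) →* O4 := MonoidHom.noncommCoprod φL φR φLR_comm

theorem φLR_val (p : Perm (Fin 3) × Perm (Fin 3)) :
    ((φLR p : GL I4 (ZMod 2)) : Matrix I4 I4 (ZMod 2)) = Lmat p.1 * Rmat p.2 := rfl

theorem φLR_inj : Function.Injective φLR := by
  rw [injective_iff_map_eq_one]
  intro p hp
  have h : Lmat p.1 * Rmat p.2 = 1 := by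
    rw [← φLR_val, hp]
    rfl
  obtain ⟨h1, h2⟩ := LR_inj _ _ h
  exact Prod.ext h1 h2

theorem φLR_props : Function.Injective φL ∧ Function.Injective φR ∧ Disjoint φL.range φR.range :=
  (MonoidHom.noncommCoprod_injective φL φR φLR_comm).1 φLR_inj

theorem φLR_range : φLR.range = φL.range ⊔ φR.range :=
  MonoidHom.noncommCoprod_range φL φR φLR_comm

theorem card_sup : Nat.card ↥(φL.range ⊔ φR.range) = 36 := by
  rw [← φLR_range, ← Nat.card_congr (MonoidHom.ofInjective φLR_inj).toEquiv, Nat.card_prod,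
    Nat.card_perm, Nat.card_eq_fintype_card, Fintype.card_fin]
  rfl

theorem TO_not_mem : TO ∉ φL.range ⊔ φR.range := by
  rw [← φLR_range]
  rintro ⟨p, hp⟩
  apply LR_ne_T p.1 p.2
  rw [← φLR_val, hp]
  rfl

theorem index_sup : (φL.range ⊔ φR.range).index = 2 ∧ Nat.card O4 = 72 := by
  have h1 := (φL.range ⊔ φR.range).index_mul_card
  rw [card_sup] at h1
  have h2 := card_O4_le
  have h3 : (φL.range ⊔ φR.range).index ≠ 1 := by
    intro h
    rw [Subgroup.index_eq_one] at h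
    apply TO_not_mem
    rw [h]
    trivial
  have h4 : (φL.range ⊔ φR.range).index ≠ 0 := Subgroup.index_ne_zero_of_finite
  have h5 : (φL.range ⊔ φR.range).index = 2 := by
    have : (φL.range ⊔ φR.range).index * 36 ≤ 72 := by rw [h1]; exact h2
    omega
  refine ⟨h5, ?_⟩
  rw [← h1, h5]

theorem conj_range : (φL.range).map (MulAut.conj TO).toMonoidHom = φR.range := by
  ext x
  constructor
  · rintro ⟨_, ⟨σ, rfl⟩, rfl⟩
    obtain ⟨τ, hτ⟩ := TLT σ
    refine ⟨τ, ?_⟩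
    apply O4_ext
    rw [φR_val, ← hτ]
    rfl
  · rintro ⟨τ, rfl⟩
    obtain ⟨σ, hσ⟩ := TRT τ
    refine ⟨φL σ, ⟨σ, rfl⟩, ?_⟩
    apply O4_ext
    rw [φR_val, ← hσ]
    rfl

theorem result :
    Nat.card ↥(Cfsg.isometryGroup (ZMod 2) (Cfsg.quadFormPlus 2 (ZMod 2))) = 72 ∧
    ∃ (A B : Subgroup ↥(Cfsg.isometryGroup (ZMod 2) (Cfsg.quadFormPlus 2 (ZMod 2)))),
      Nonempty (↥A ≃* Equiv.Perm (Fin 3)) ∧ Nonempty (↥B ≃* Equiv.Perm (Fin 3)) ∧ A ⊓ B = ⊥ ∧ (∀ a ∈ A, ∀ b ∈ B, a * b = b * a) ∧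
      (A ⊔ B).index = 2 ∧ ∃ g : ↥(Cfsg.isometryGroup (ZMod 2) (Cfsg.quadFormPlus 2 (ZMod 2))), A.map (MulAut.conj g).toMonoidHom = B := by
  obtain ⟨hL, hR, hd⟩ := φLR_props
  refine ⟨index_sup.2, φL.range, φR.range, ⟨(MonoidHom.ofInjective hL).symm⟩,
    ⟨(MonoidHom.ofInjective hR).symm⟩, disjoint_iff.1 hd, ?_, index_sup.1, TO, conj_range⟩
  rintro _ ⟨σ, rfl⟩ _ ⟨τ, rfl⟩
  exact φLR_comm σ τ

end Cfsg.Agent.S2566
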