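import Mathlib
import Cfsg.Statements.S0297
import Cfsg.Agent.Lib.Helper2.OrthFrames3

set_option autoImplicit false
open Cfsg

namespace Cfsg.Agent.S0297

open Cfsg.Agent.Helper2.Orth Cfsg.Agent.Helper13 in
/-- Over any finite field and m at least 4, POmega^-_{2m}(q) is simple. -/
theorem result {F : Type*} [Field F] [Fintype F] (m : ℕ) (hm : 4 ≤ m) (a b : F) (hab : ∀ z₁ z₂ : F, z₁ ^ 2 + a * z₁ * z₂ + b * z₂ ^ 2 = 0 → z₁ = 0 ∧ z₂ = 0) : IsSimpleGroup (Cfsg.POmega F (Cfsg.quadFormMinus (m - 1) F a b)) := by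
  classical
  obtain ⟨k, rfl⟩ : ∃ k, m = k + 4 := ⟨m - 4, by omega⟩
  have e : k + 4 - 1 = k + 3 := rfl
  rw [e, quadFormMinus_eq]
  have hex : Fintype.card F ≠ 2 ∨ Fintype.card ((Fin (k + 3) ⊕ Fin (k + 3)) ⊕ Fin 2) ≠ 4 := by
    right
    simp only [Fintype.card_sum, Fintype.card_fin]
    omega
  exact isSimpleGroup_POmega (nondeg_minus (F := F) (k + 3) a b hab) hex (hypFrame_minus k a b)

end Cfsg.Agent.S0297
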