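import Mathlib
import Cfsg.Statements.S0721
-- import your own Cfsg.Agent.* helpers here

set_option autoImplicit false
open Cfsg

namespace Cfsg.Agent.S0721

universe u

/-- `K` is normalized by `N`. -/
def NNormal {H : Type u} [Group H] (N K : Subgroup H) : Prop :=
  ∀ g ∈ N, ∀ x ∈ K, g * x * g⁻¹ ∈ K

/-- conjugate subgroup -/
def cj {H : Type u} [Group H] (h : H) (K : Subgroup H) : Subgroup H :=
  K.map (MulAut.conj h).toMonoidHom

theorem mem_cj {H : Type u} [Group H] (h : H) (K : Subgroup H) (x : H) :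
    x ∈ cj h K ↔ h⁻¹ * x * h ∈ K := by
  unfold cj
  rw [Subgroup.mem_map_equiv, MulAut.conj_symm_apply]

theorem cj_mono {H : Type u} [Group H] (h : H) {K L : Subgroup H} (hKL : K ≤ L) :
    cj h K ≤ cj h L := Subgroup.map_mono hKL

theorem cj_cj {H : Type u} [Group H] (g h : H) (K : Subgroup H) :
    cj g (cj h K) = cj (g * h) K := by
  ext x
  simp only [mem_cj]
  have : h⁻¹ * (g⁻¹ * x * g) * h = (g * h)⁻¹ * x * (g * h) := by group
  rw [this]

theorem cj_one {H : Type u} [Group H] (K : Subgroup H) : cj 1 K = K := by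
  ext x
  simp [mem_cj]

theorem cj_eq_bot {H : Type u} [Group H] (h : H) (K : Subgroup H) : cj h K = ⊥ ↔ K = ⊥ := by
  unfold cj
  exact Subgroup.map_eq_bot_iff_of_injective K (MulAut.conj h).injective

theorem cj_normal {H : Type u} [Group H] (h : H) (N : Subgroup H) [hN : N.Normal] :
    cj h N = N := by
  ext x
  rw [mem_cj]
  constructor
  · intro hx
    have := hN.conj_mem _ hx h
    simpa [mul_assoc] using this
  · intro hx
    have := hN.conj_mem _ hx h⁻¹
    simpa using this

theorem nnormal_inf {H : Type u} [Group H] {N A B : Subgroup H} (hA : NNormal N A)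
    (hB : NNormal N B) : NNormal N (A ⊓ B) :=
  fun g hg x hx => ⟨hA g hg x hx.1, hB g hg x hx.2⟩

theorem nnormal_iSup {H : Type u} [Group H] {N : Subgroup H} {ι : Type*} (A : ι → Subgroup H)
    (hA : ∀ i, NNormal N (A i)) : NNormal N (⨆ i, A i) := by
  intro g hg x hx
  have hle : (⨆ i, A i) ≤ (⨆ i, A i).comap (MulAut.conj g).toMonoidHom := by
    apply iSup_le
    intro i y hy
    rw [Subgroup.mem_comap]
    exact Subgroup.mem_iSup_of_mem i (hA i g hg y hy)
  exact hle hx

theorem nnormal_sup {H : Type u} [Group H] {N A B : Subgroup H} (hA : NNormal N A)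
    (hB : NNormal N B) : NNormal N (A ⊔ B) := by
  intro g hg x hx
  have hle : A ⊔ B ≤ (A ⊔ B).comap (MulAut.conj g).toMonoidHom := by
    apply sup_le
    · intro y hy
      rw [Subgroup.mem_comap]
      exact Subgroup.mem_sup_left (hA g hg y hy)
    · intro y hy
      rw [Subgroup.mem_comap]
      exact Subgroup.mem_sup_right (hB g hg y hy)
  exact hle hx

theorem nnormal_cj {H : Type u} [Group H] {N : Subgroup H} [hN : N.Normal] {K : Subgroup H}
    (hK : NNormal N K) (h : H) : NNormal N (cj h K) := by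
  intro g hg x hx
  rw [mem_cj] at hx ⊢
  have h1 : h⁻¹ * g * h ∈ N := by
    have := hN.conj_mem g hg h⁻¹
    simpa using this
  have h2 := hK _ h1 _ hx
  have h3 : h⁻¹ * g * h * (h⁻¹ * x * h) * (h⁻¹ * g * h)⁻¹ = h⁻¹ * (g * x * g⁻¹) * h := by group
  rw [h3] at h2
  exact h2

theorem commute_of_disjoint {H : Type u} [Group H] {N A B : Subgroup H} (hAN : A ≤ N)
    (hBN : B ≤ N) (hA : NNormal N A) (hB : NNormal N B) (hd : A ⊓ B = ⊥) :
    ∀ a ∈ A, ∀ b ∈ B, a * b = b * a := by
  intro a ha b hb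
  have h1 : a * b * a⁻¹ * b⁻¹ ∈ A := by
    have h2 := hA b (hBN hb) a⁻¹ (A.inv_mem ha)
    have h3 := A.mul_mem ha h2
    have h4 : a * (b * a⁻¹ * b⁻¹) = a * b * a⁻¹ * b⁻¹ := by group
    rw [h4] at h3
    exact h3
  have h2 : a * b * a⁻¹ * b⁻¹ ∈ B := by
    have h2 := hB a (hAN ha) b hb
    exact B.mul_mem h2 (B.inv_mem hb)
  have h3 : a * b * a⁻¹ * b⁻¹ ∈ A ⊓ B := ⟨h1, h2⟩
  rw [hd, Subgroup.mem_bot] at h3
  have h4 : a * b = a * b * a⁻¹ * b⁻¹ * (b * a) := by group
  rw [h4, h3, one_mul]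

/-- `T` is a minimal normal subgroup of `N` (all inside `H`). -/
def IsMinIn {H : Type u} [Group H] (N T : Subgroup H) : Prop :=
  T ≠ ⊥ ∧ T ≤ N ∧ NNormal N T ∧ ∀ L : Subgroup H, L ≤ T → NNormal N L → L = ⊥ ∨ L = T

theorem exists_isMinIn {H : Type u} [Group H] [Finite H] (N : Subgroup H) (hN : N ≠ ⊥) :
    ∃ T, IsMinIn N T := by
  let S : Set (Subgroup H) := {K | K ≠ ⊥ ∧ K ≤ N ∧ NNormal N K}
  have hS : S.Nonempty :=
    ⟨N, hN, le_rfl, fun g hg x hx => N.mul_mem (N.mul_mem hg hx) (N.inv_mem hg)⟩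
  obtain ⟨T, hT⟩ := (Set.toFinite S).exists_minimal hS
  refine ⟨T, hT.1.1, hT.1.2.1, hT.1.2.2, fun L hLT hLN => ?_⟩
  by_cases hL : L = ⊥
  · left; exact hL
  · right
    exact le_antisymm hLT (hT.2 ⟨hL, hLT.trans hT.1.2.1, hLN⟩ hLT)

theorem isMinIn_cj {H : Type u} [Group H] {N : Subgroup H} [hN : N.Normal] {T : Subgroup H}
    (hT : IsMinIn N T) (h : H) : IsMinIn N (cj h T) := by
  obtain ⟨h1, h2, h3, h4⟩ := hT
  refine ⟨?_, ?_, nnormal_cj h3 h, ?_⟩
  · rw [Ne, cj_eq_bot]; exact h1
  · rw [← cj_normal h N]; exact cj_mono h h2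
  · intro L hL hLN
    have hL' : cj h⁻¹ L ≤ T := by
      have := cj_mono h⁻¹ hL
      rwa [cj_cj, inv_mul_cancel, cj_one] at this
    have hback : cj h (cj h⁻¹ L) = L := by rw [cj_cj, mul_inv_cancel, cj_one]
    rcases h4 _ hL' (nnormal_cj hLN h⁻¹) with h5 | h5
    · left
      rwa [cj_eq_bot] at h5
    · right
      rw [← hback, h5]

theorem iSup_cj_eq {H : Type u} [Group H] (N : Subgroup H) [hN : N.Normal]
    (hmin : ∀ M : Subgroup H, M.Normal → M ≤ N → M = ⊥ ∨ M = N) {T : Subgroup H}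
    (hT : IsMinIn N T) : ⨆ h : H, cj h T = N := by
  have hle : ⨆ h : H, cj h T ≤ N := iSup_le fun h => (isMinIn_cj hT h).2.1
  have hnorm : (⨆ h : H, cj h T).Normal := by
    constructor
    intro x hx g
    have h1 : (⨆ h : H, cj h T) ≤ (⨆ h : H, cj h T).comap (MulAut.conj g).toMonoidHom := by
      apply iSup_le
      intro h y hy
      rw [Subgroup.mem_comap]
      apply Subgroup.mem_iSup_of_mem (g * h)
      rw [← cj_cj, mem_cj g]
      have : g⁻¹ * ((MulAut.conj g).toMonoidHom y) * g = y := by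
        simp [MulAut.conj_apply, mul_assoc]
      rw [this]
      exact hy
    exact h1 hx
  have hne : (⨆ h : H, cj h T) ≠ ⊥ := by
    intro h0
    apply hT.1
    rw [eq_bot_iff, ← h0]
    have := le_iSup (fun h : H => cj h T) 1
    rwa [cj_one] at this
  rcases hmin _ hnorm hle with h | h
  · exact (hne h).elim
  · exact h

theorem isMinIn_inf_eq_bot {H : Type u} [Group H] {N T M : Subgroup H} (hT : IsMinIn N T)
    (hM : NNormal N M) (hTM : ¬ T ≤ M) : T ⊓ M = ⊥ := by
  rcases hT.2.2.2 (T ⊓ M) inf_le_left (nnormal_inf hT.2.2.1 hM) with h | h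
  · exact h
  · exfalso
    apply hTM
    rw [← h]
    exact inf_le_right

theorem isSimpleGroup_of_isMinIn {H : Type u} [Group H] (N : Subgroup H) [hN : N.Normal]
    (hmin : ∀ M : Subgroup H, M.Normal → M ≤ N → M = ⊥ ∨ M = N) {T : Subgroup H}
    (hT : IsMinIn N T) : IsSimpleGroup T := by
  haveI : Nontrivial T := (Subgroup.nontrivial_iff_ne_bot T).mpr hT.1
  refine ⟨fun K hK => ?_⟩
  set K' : Subgroup H := K.map T.subtype with hK'
  have hK'T : K' ≤ T := by
    rintro _ ⟨k, _, rfl⟩
    exact k.2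
  have hnn : NNormal N K' := by
    intro g hg x hx
    -- g lies in the join of the conjugates
    have hg' : g ∈ ⨆ h : H, cj h T := by rw [iSup_cj_eq N hmin hT]; exact hg
    have hle : (⨆ h : H, cj h T) ≤ Subgroup.normalizer (K' : Set H) := by
      apply iSup_le
      intro h b hb
      by_cases hc : cj h T ≤ T
      · -- b in T
        have hbT : b ∈ T := hc hb
        rw [Subgroup.mem_normalizer_iff]
        intro y
        constructor
        · rintro ⟨k, hk, rfl⟩
          refine ⟨⟨b, hbT⟩ * k * ⟨b, hbT⟩⁻¹, hK.conj_mem k hk ⟨b, hbT⟩, ?_⟩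
          simp
        · rintro ⟨k, hk, hky⟩
          have hyT : y ∈ T := by
            have h1 : b * y * b⁻¹ ∈ T := by rw [← hky]; exact k.2
            have h2 := T.mul_mem (T.mul_mem (T.inv_mem hbT) h1) hbT
            have h3 : b⁻¹ * (b * y * b⁻¹) * b = y := by group
            rwa [h3] at h2
          refine ⟨⟨b, hbT⟩⁻¹ * k * ⟨b, hbT⟩, ?_, ?_⟩
          · have := hK.conj_mem k hk (⟨b, hbT⟩⁻¹)
            simpa using this
          · simp only [Subgroup.coe_subtype, Subgroup.coe_mul, InvMemClass.coe_inv]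
            have : (k : H) = b * y * b⁻¹ := hky
            rw [this]
            group
      · -- cj h T commutes with T
        have hmc := isMinIn_cj hT h
        have hd := isMinIn_inf_eq_bot hmc hT.2.2.1 hc
        have hcomm := commute_of_disjoint hmc.2.1 hT.2.1 hmc.2.2.1 hT.2.2.1 hd
        rw [Subgroup.mem_normalizer_iff]
        intro y
        constructor
        · intro hy
          have h1 := hcomm b hb y (hK'T hy)
          have h2 : b * y * b⁻¹ = y := by rw [h1]; group
          rw [h2]; exact hy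
        · intro hy
          have h0 : b * y * b⁻¹ ∈ T := hK'T hy
          have h1 := hcomm b hb _ h0
          have h2 : y = b * y * b⁻¹ := by
            have h3 : b * (b * y * b⁻¹) * b⁻¹ = b * y * b⁻¹ := by rw [h1]; group
            have h4 : b * y * b⁻¹ = y := by
              have := congrArg (fun z => b⁻¹ * z * b) h3
              beta_reduce at this
              have e1 : b⁻¹ * (b * (b * y * b⁻¹) * b⁻¹) * b = b * y * b⁻¹ := by group
              have e2 : b⁻¹ * (b * y * b⁻¹) * b = y := by group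
              rw [e1, e2] at this
              exact this
            exact h4.symm
          rw [h2]; exact hy
    have h5 := hle hg'
    rw [Subgroup.mem_normalizer_iff] at h5
    exact (h5 x).mp hx
  rcases hT.2.2.2 K' hK'T hnn with h | h
  · left
    rw [hK'] at h
    exact (Subgroup.map_eq_bot_iff_of_injective K T.subtype_injective).mp h
  · right
    rw [eq_top_iff]
    intro t _
    have : (t : H) ∈ K' := by rw [h]; exact t.2
    obtain ⟨k, hk, hkt⟩ := this
    have : k = t := Subtype.ext hkt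
    rw [← this]; exact hk

/-- product of two commuting disjoint subgroups -/
theorem nonempty_sup_mulEquiv_prod {H : Type u} [Group H] (A B : Subgroup H)
    (hd : A ⊓ B = ⊥) (hc : ∀ a ∈ A, ∀ b ∈ B, a * b = b * a) :
    Nonempty ((A ⊔ B : Subgroup H) ≃* A × B) := by
  have comm : ∀ (a : A) (b : B), Commute (A.subtype a) (B.subtype b) := fun a b => hc a a.2 b b.2
  set f := MonoidHom.noncommCoprod A.subtype B.subtype comm with hf
  have hinj : Function.Injective f := by
    rw [MonoidHom.noncommCoprod_injective]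
    refine ⟨A.subtype_injective, B.subtype_injective, ?_⟩
    rw [Subgroup.range_subtype, Subgroup.range_subtype, disjoint_iff, hd]
  have hrange : f.range = A ⊔ B := by
    rw [hf, MonoidHom.noncommCoprod_range, Subgroup.range_subtype, Subgroup.range_subtype]
  exact ⟨((MonoidHom.ofInjective hinj).trans (MulEquiv.subgroupCongr hrange)).symm⟩

/-- `T^m × T ≃* T^(m+1)` -/
theorem nonempty_pi_succ_mulEquiv (T : Type u) [Group T] (m : ℕ) :
    Nonempty (((Fin m → T) × T) ≃* (Fin (m + 1) → T)) := by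
  refine ⟨{ toEquiv := (Equiv.prodComm _ _).trans (Fin.snocEquiv (fun _ => T)), map_mul' := ?_ }⟩
  intro x y
  ext i
  refine Fin.lastCases ?_ (fun j => ?_) i
  · simp [Fin.snocEquiv]
  · simp [Fin.snocEquiv]

/-- A minimal normal subgroup of a finite group is isomorphic to a direct power `T ^ m` of a simple group `T` (possibly of prime order). -/
theorem result {H : Type*} [Group H] [Finite H] (N : Subgroup H) [N.Normal] (hN : N ≠ ⊥) (hmin : ∀ M : Subgroup H, M.Normal → M ≤ N → M = ⊥ ∨ M = N) : ∃ (T : Type) (_ : Group T) (m : ℕ), IsSimpleGroup T ∧ 0 < m ∧ Nonempty (N ≃* (Fin m → T)) := by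
  obtain ⟨T, hT⟩ := exists_isMinIn N hN
  have hsimple := isSimpleGroup_of_isMinIn N hmin hT
  let S : Set (Subgroup H) := {M | M ≤ N ∧ NNormal N M ∧ ∃ m : ℕ, 0 < m ∧ Nonempty (M ≃* (Fin m → T))}
  have hS : S.Nonempty := ⟨T, hT.2.1, hT.2.2.1, 1, Nat.one_pos, ⟨(MulEquiv.funUnique (Fin 1) T).symm⟩⟩
  obtain ⟨M, hM⟩ := (Set.toFinite S).exists_maximal hS
  obtain ⟨⟨hMN, hMn, m, hm, ⟨e⟩⟩, hmax⟩ := hM
  have hMeq : M = N := by
    by_contra hne
    have hex : ∃ h : H, ¬ cj h T ≤ M := by
      by_contra hall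
      push Not at hall
      apply hne
      apply le_antisymm hMN
      rw [← iSup_cj_eq N hmin hT]
      exact iSup_le hall
    obtain ⟨h, hh⟩ := hex
    have hmc := isMinIn_cj hT h
    have hd : M ⊓ cj h T = ⊥ := by
      rw [inf_comm]; exact isMinIn_inf_eq_bot hmc hMn hh
    have hcomm := commute_of_disjoint hMN hmc.2.1 hMn hmc.2.2.1 hd
    obtain ⟨e1⟩ := nonempty_sup_mulEquiv_prod M (cj h T) hd hcomm
    obtain ⟨e2⟩ := nonempty_pi_succ_mulEquiv T m
    have e3 : T ≃* cj h T := MulEquiv.subgroupMap (MulAut.conj h) T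
    have hin : M ⊔ cj h T ∈ S := by
      refine ⟨sup_le hMN hmc.2.1, nnormal_sup hMn hmc.2.2.1, m + 1, Nat.succ_pos m, ?_⟩
      exact ⟨(e1.trans (MulEquiv.prodCongr e e3.symm)).trans e2⟩
    have := hmax hin le_sup_left
    exact hh (le_sup_right.trans this)
  have e0 : N ≃* (Fin m → T) := (MulEquiv.subgroupCongr hMeq.symm).trans e
  let e4 : Shrink.{0} T ≃* T := Shrink.mulEquiv
  refine ⟨Shrink.{0} T, inferInstance, m, ?_, hm, ?_⟩
  · exact e4.isSimpleGroup
  · exact ⟨e0.trans (MulEquiv.piCongrRight fun _ => e4.symm)⟩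

end Cfsg.Agent.S0721
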