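import Mathlib
import Cfsg.Agent.S0721
import Cfsg.Statements.S3680
-- import your own Cfsg.Agent.* helpers here

set_option autoImplicit false
open Cfsg

namespace Cfsg.Agent.S3680

open MulAction

/-- minimal normal subgroup -/
def IsMinNormal {G : Type*} [Group G] (V : Subgroup G) : Prop :=
  V.Normal ∧ V ≠ ⊥ ∧ ∀ M : Subgroup G, M.Normal → M ≤ V → M = ⊥ ∨ M = V

theorem trans_of_normal {G Ω : Type*} [Group G] [MulAction G Ω] [FaithfulSMul G Ω]
    [IsPreprimitive G Ω] (K : Subgroup G) [K.Normal] (hK : K ≠ ⊥) : IsPretransitive K Ω := by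
  apply IsQuasiPreprimitive.isPretransitive_of_normal
  intro h
  apply hK
  rw [Subgroup.eq_bot_iff_forall]
  intro k hk
  apply FaithfulSMul.eq_of_smul_eq_smul (α := Ω)
  intro ω
  have h1 : ω ∈ fixedPoints K Ω := by rw [h]; trivial
  have h2 := h1 ⟨k, hk⟩
  rw [one_smul]
  exact h2

theorem semireg_of_commute {G Ω : Type*} [Group G] [MulAction G Ω] [FaithfulSMul G Ω]
    (A B : Subgroup G) (hc : ∀ a ∈ A, ∀ b ∈ B, a * b = b * a) [hA : IsPretransitive A Ω]
    (ω : Ω) (b : G) (hb : b ∈ B) (hfix : b • ω = ω) : b = 1 := by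
  apply FaithfulSMul.eq_of_smul_eq_smul (α := Ω)
  intro ω'
  obtain ⟨a, ha⟩ := hA.exists_smul_eq ω ω'
  have ha' : (a : G) • ω = ω' := ha
  rw [← ha', one_smul, smul_smul, ← hc a a.2 b hb, ← smul_smul, hfix]

theorem eq_of_trans_le_semireg {G Ω : Type*} [Group G] [MulAction G Ω]
    (L C : Subgroup G) (hLC : L ≤ C) [hL : IsPretransitive L Ω] (ω : Ω)
    (hsr : ∀ c ∈ C, c • ω = ω → c = 1) : L = C := by
  apply le_antisymm hLC
  intro c hc
  obtain ⟨l, hl⟩ := hL.exists_smul_eq ω (c • ω)
  have hl' : (l : G) • ω = c • ω := hl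
  have h1 : (l : G)⁻¹ * c = 1 := by
    apply hsr _ (C.mul_mem (C.inv_mem (hLC l.2)) hc)
    rw [mul_smul, ← hl', inv_smul_smul]
  have h2 : c = l := by
    have := congrArg (fun x => (l : G) * x) h1
    simpa using this
  rw [h2]; exact l.2

theorem exists_isMinNormal_le {G : Type*} [Group G] [Finite G] (K : Subgroup G) [hKn : K.Normal]
    (hK : K ≠ ⊥) : ∃ M : Subgroup G, IsMinNormal M ∧ M ≤ K := by
  let S : Set (Subgroup G) := {M | M.Normal ∧ M ≠ ⊥ ∧ M ≤ K}
  have hS : S.Nonempty := ⟨K, hKn, hK, le_refl K⟩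
  obtain ⟨M, hM, hmin⟩ := (Set.toFinite S).exists_minimal hS
  refine ⟨M, ⟨hM.1, hM.2.1, ?_⟩, hM.2.2⟩
  intro L hL hLM
  by_cases hLb : L = ⊥
  · left; exact hLb
  · right
    exact le_antisymm hLM (hmin ⟨hL, hLb, hLM.trans hM.2.2⟩ hLM)

theorem le_centralizer_of_ne {G : Type*} [Group G] {V M : Subgroup G} (hV : IsMinNormal V)
    (hM : IsMinNormal M) (hne : V ≠ M) : V ≤ Subgroup.centralizer (M : Set G) := by
  haveI := hV.1
  haveI := hM.1
  have hd : V ⊓ M = ⊥ := by
    rcases hV.2.2 (V ⊓ M) inferInstance inf_le_left with h | h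
    · exact h
    · exfalso
      have hVM : V ≤ M := by rw [← h]; exact inf_le_right
      rcases hM.2.2 V hV.1 hVM with h' | h'
      · exact hV.2.1 h'
      · exact hne h'
  intro v hv
  rw [Subgroup.mem_centralizer_iff]
  intro m hm
  exact (Subgroup.commute_of_normal_of_disjoint V M hV.1 hM.1 (disjoint_iff.mpr hd) v m hv hm).symm

theorem nonempty_mulEquiv_of_regular {G Ω : Type*} [Group G] [MulAction G Ω]
    (M C : Subgroup G) (hc : ∀ a ∈ M, ∀ b ∈ C, a * b = b * a)
    [hM : IsPretransitive M Ω] [hC : IsPretransitive C Ω] (ω : Ω)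
    (hMs : ∀ a ∈ M, a • ω = ω → a = 1) (hCs : ∀ c ∈ C, c • ω = ω → c = 1) :
    Nonempty (M ≃* C) := by
  have hex : ∀ a : M, ∃ c : C, (c : G) • ω = (a : G)⁻¹ • ω :=
    fun a => hC.exists_smul_eq ω ((a : G)⁻¹ • ω)
  choose f hf using hex
  have huniq : ∀ c c' : C, (c : G) • ω = (c' : G) • ω → c = c' := by
    intro c c' h
    have h1 : (c' : G)⁻¹ * c = 1 := by
      apply hCs _ (C.mul_mem (C.inv_mem c'.2) c.2)
      rw [mul_smul, h, inv_smul_smul]
    apply Subtype.ext
    have := congrArg (fun x => (c' : G) * x) h1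
    simpa using this
  have hmul : ∀ a b : M, f (a * b) = f a * f b := by
    intro a b
    apply huniq
    rw [hf]
    calc ((a * b : M) : G)⁻¹ • ω = (b : G)⁻¹ • ((a : G)⁻¹ • ω) := by
          rw [Subgroup.coe_mul, mul_inv_rev, mul_smul]
      _ = (b : G)⁻¹ • ((f a : G) • ω) := by rw [hf a]
      _ = ((b : G)⁻¹ * (f a : G)) • ω := by rw [mul_smul]
      _ = ((f a : G) * (b : G)⁻¹) • ω := by rw [hc _ (M.inv_mem b.2) _ (f a).2]
      _ = (f a : G) • ((b : G)⁻¹ • ω) := by rw [mul_smul]
      _ = (f a : G) • ((f b : G) • ω) := by rw [hf b]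
      _ = ((f a * f b : C) : G) • ω := by rw [Subgroup.coe_mul, mul_smul]
  let φ : M →* C := MonoidHom.mk' f hmul
  have hinj : Function.Injective φ := by
    rw [injective_iff_map_eq_one]
    intro a ha
    have h1 : f a = 1 := ha
    have h2 := hf a
    rw [h1, Subgroup.coe_one, one_smul] at h2
    have h3 : (a : G)⁻¹ = 1 := hMs _ (M.inv_mem a.2) h2.symm
    apply Subtype.ext
    rw [inv_eq_one] at h3
    exact h3
  have hsurj : Function.Surjective φ := by
    intro c
    obtain ⟨a', ha'⟩ := hM.exists_smul_eq ω ((c : G) • ω)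
    have ha'' : (a' : G) • ω = (c : G) • ω := ha'
    refine ⟨a'⁻¹, ?_⟩
    apply huniq
    show (f a'⁻¹ : G) • ω = (c : G) • ω
    rw [hf, Subgroup.coe_inv, inv_inv, ha'']
  exact ⟨MulEquiv.ofBijective φ ⟨hinj, hsurj⟩⟩

theorem nonempty_pi_add_mulEquiv (T : Type*) [Group T] (m n : ℕ) :
    Nonempty (((Fin m → T) × (Fin n → T)) ≃* (Fin (m + n) → T)) := by
  refine ⟨{ toEquiv := Fin.appendEquiv m n, map_mul' := ?_ }⟩
  intro p q
  ext i
  refine Fin.addCases (fun i => ?_) (fun j => ?_) i
  · simp [Fin.appendEquiv]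
  · simp [Fin.appendEquiv]

theorem comm_of_equiv_pi {G : Type*} [Group G] {M : Subgroup G} {T : Type*} [Group T] {m : ℕ}
    (e : M ≃* (Fin m → T)) (hT : IsMulCommutative T) (a : G) (ha : a ∈ M) (b : G) (hb : b ∈ M) :
    a * b = b * a := by
  have h : e (⟨a, ha⟩ * ⟨b, hb⟩) = e (⟨b, hb⟩ * ⟨a, ha⟩) := by
    rw [map_mul, map_mul]
    funext i
    exact hT.is_comm.comm _ _
  exact congrArg Subtype.val (e.injective h)

theorem exists_prime_exponent {G : Type*} [Group G] [Finite G] (M : Subgroup G)
    (hM : IsMinNormal M) (hab : ∀ a ∈ M, ∀ b ∈ M, a * b = b * a) :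
    ∃ p : ℕ, p.Prime ∧ ∀ x ∈ M, x ^ p = 1 := by
  haveI := hM.1
  have hcard : Nat.card M ≠ 1 := by
    intro h
    exact hM.2.1 (Subgroup.card_eq_one.mp h)
  obtain ⟨p, hp, hpd⟩ := Nat.exists_prime_and_dvd hcard
  haveI := Fact.mk hp
  obtain ⟨x, hx⟩ := exists_prime_orderOf_dvd_card' p hpd
  let K : Subgroup G :=
    { carrier := {g | g ∈ M ∧ g ^ p = 1}
      one_mem' := ⟨M.one_mem, one_pow p⟩
      mul_mem' := by
        intro a b ha hb
        refine ⟨M.mul_mem ha.1 hb.1, ?_⟩
        have hcm : Commute a b := hab a ha.1 b hb.1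
        rw [hcm.mul_pow, ha.2, hb.2, one_mul]
      inv_mem' := by
        intro a ha
        refine ⟨M.inv_mem ha.1, ?_⟩
        rw [inv_pow, ha.2, inv_one] }
  have hKn : K.Normal := ⟨fun g hg h => ⟨hM.1.conj_mem g hg.1 h, by rw [conj_pow, hg.2]; group⟩⟩
  have hKM : K ≤ M := fun g hg => hg.1
  rcases hM.2.2 K hKn hKM with h | h
  · exfalso
    have hxK : (x : G) ∈ K := by
      refine ⟨x.2, ?_⟩
      rw [← Subgroup.coe_pow, ← hx, pow_orderOf_eq_one]; rfl
    rw [h, Subgroup.mem_bot] at hxK
    have hx1 : x = 1 := Subtype.ext hxK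
    rw [hx1, orderOf_one] at hx
    exact hp.one_lt.ne hx
  · refine ⟨p, hp, fun x hx => ?_⟩
    rw [← h] at hx
    exact hx.2

/-- The socle of a finite primitive permutation group. Let a finite group G act faithfully and primitively on a set Ω, and let N be the subgroup generated by the minimal normal subgroups of G. Then either N is an elementary abelian p-group for some prime p and acts regularly on Ω (transitively with trivial point stabilizers), or N is isomorphic to a direct product of m ≥ 1 copies of a non-abelian simple group. -/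
theorem result {G Ω : Type*} [Group G] [Finite G] [MulAction G Ω] [FaithfulSMul G Ω] [Finite Ω]
    (hprim : MulAction.IsPreprimitive G Ω) (N : Subgroup G)
    (hN : N = sSup {V : Subgroup G | V.Normal ∧ V ≠ ⊥ ∧ ∀ M : Subgroup G, M.Normal → M ≤ V → M = ⊥ ∨ M = V}) :
    (∃ p : ℕ, p.Prime ∧ IsMulCommutative N ∧ (∀ x : N, x ^ p = 1) ∧
      MulAction.IsPretransitive N Ω ∧ ∀ ω : Ω, MulAction.stabilizer N ω = ⊥) ∨
    (∃ (T : Type) (_ : Group T) (m : ℕ), 1 ≤ m ∧ IsSimpleGroup T ∧ ¬ IsMulCommutative T ∧ Nonempty (N ≃* (Fin m → T))) := by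
  classical
  haveI := hprim
  rcases subsingleton_or_nontrivial G with hG | hG
  · left
    refine ⟨2, Nat.prime_two, ⟨⟨fun a b => Subsingleton.elim _ _⟩⟩,
      fun x => Subsingleton.elim _ _, ?_, ?_⟩
    · constructor
      intro x y
      obtain ⟨g, hg⟩ := hprim.toIsPretransitive.exists_smul_eq x y
      refine ⟨1, ?_⟩
      rw [one_smul, ← hg, Subsingleton.elim g 1, one_smul]
    · intro ω
      exact Subgroup.eq_bot_of_subsingleton _
  · have htop : (⊤ : Subgroup G) ≠ ⊥ := top_ne_bot
    obtain ⟨M, hM, -⟩ := exists_isMinNormal_le (⊤ : Subgroup G) htop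
    haveI hMn : M.Normal := hM.1
    obtain ⟨ω₀⟩ : Nonempty Ω := by
      by_contra hemp
      rw [not_nonempty_iff] at hemp
      obtain ⟨a, b, hab⟩ := hG.exists_pair_ne
      apply hab
      apply FaithfulSMul.eq_of_smul_eq_smul (α := Ω)
      intro ω; exact hemp.elim ω
    have hCn : (Subgroup.centralizer (M : Set G)).Normal := Subgroup.normal_centralizer
    have hcomm : ∀ a ∈ M, ∀ b ∈ Subgroup.centralizer (M : Set G), a * b = b * a := by
      intro a ha b hb
      exact (Subgroup.mem_centralizer_iff.mp hb a ha)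
    have hcomm' : ∀ b ∈ Subgroup.centralizer (M : Set G), ∀ a ∈ M, b * a = a * b :=
      fun b hb a ha => (hcomm a ha b hb).symm
    haveI hMt : IsPretransitive M Ω := trans_of_normal M hM.2.1
    have hsup1 : (∀ V, IsMinNormal V → V = M) → N = M := by
      intro huniq
      rw [hN]
      apply le_antisymm
      · apply sSup_le; intro V hV; exact (huniq V hV).le
      · exact le_sSup hM
    by_cases hCb : Subgroup.centralizer (M : Set G) = ⊥
    · right
      have huniq : ∀ V, IsMinNormal V → V = M := by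
        intro V hV
        by_contra hne
        have h1 := le_centralizer_of_ne hV hM hne
        rw [hCb] at h1
        exact hV.2.1 (le_bot_iff.mp h1)
      have hNM : N = M := hsup1 huniq
      obtain ⟨T, hT, m, hsimp, hm, ⟨e⟩⟩ := S0721.result M hM.2.1 hM.2.2
      refine ⟨T, hT, m, hm, hsimp, ?_, ⟨(MulEquiv.subgroupCongr hNM).trans e⟩⟩
      intro hTc
      apply hM.2.1
      rw [← le_bot_iff, ← hCb]
      intro a ha
      rw [Subgroup.mem_centralizer_iff]
      intro b hb
      exact comm_of_equiv_pi e hTc b hb a ha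
    · haveI hCt : IsPretransitive (Subgroup.centralizer (M : Set G)) Ω :=
        trans_of_normal _ hCb
      have hMs : ∀ ω : Ω, ∀ a ∈ M, a • ω = ω → a = 1 := fun ω a ha hfix =>
        semireg_of_commute (Subgroup.centralizer (M : Set G)) M hcomm' ω a ha hfix
      have hCs : ∀ c ∈ Subgroup.centralizer (M : Set G), c • ω₀ = ω₀ → c = 1 :=
        fun c hc hfix => semireg_of_commute M _ hcomm ω₀ c hc hfix
      by_cases hMC : M ≤ Subgroup.centralizer (M : Set G)
      · left
        have hMC' : M = Subgroup.centralizer (M : Set G) :=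
          eq_of_trans_le_semireg M _ hMC ω₀ hCs
        have huniq : ∀ V, IsMinNormal V → V = M := by
          intro V hV
          by_contra hne
          have h1 : V ≤ M := by rw [hMC']; exact le_centralizer_of_ne hV hM hne
          rcases hM.2.2 V hV.1 h1 with h | h
          · exact hV.2.1 h
          · exact hne h
        have hNM : N = M := hsup1 huniq
        have hab : ∀ a ∈ M, ∀ b ∈ M, a * b = b * a := fun a ha b hb => hcomm a ha b (hMC hb)
        obtain ⟨p, hp, hexp⟩ := exists_prime_exponent M hM hab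
        subst hNM
        refine ⟨p, hp, ⟨⟨fun a b => Subtype.ext (hab a a.2 b b.2)⟩⟩,
          fun x => Subtype.ext (hexp x x.2), hMt, ?_⟩
        intro ω
        rw [Subgroup.eq_bot_iff_forall]
        intro x hx
        apply Subtype.ext
        exact hMs ω x x.2 (MulAction.mem_stabilizer_iff.mp hx)
      · right
        have hd : M ⊓ Subgroup.centralizer (M : Set G) = ⊥ := by
          rcases hM.2.2 (M ⊓ Subgroup.centralizer (M : Set G)) inferInstance inf_le_left
            with h | h
          · exact h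
          · exfalso; exact hMC (h.ge.trans inf_le_right)
        have hCmin : IsMinNormal (Subgroup.centralizer (M : Set G)) := by
          refine ⟨hCn, hCb, ?_⟩
          intro L hL hLC
          by_cases hLb : L = ⊥
          · left; exact hLb
          · right
            haveI := hL
            haveI : IsPretransitive L Ω := trans_of_normal L hLb
            exact eq_of_trans_le_semireg L _ hLC ω₀ hCs
        have hcases : ∀ V, IsMinNormal V → V = M ∨ V = Subgroup.centralizer (M : Set G) := by
          intro V hV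
          by_cases hne : V = M
          · left; exact hne
          · right
            have h1 : V ≤ Subgroup.centralizer (M : Set G) := le_centralizer_of_ne hV hM hne
            rcases hCmin.2.2 V hV.1 h1 with h | h
            · exact absurd h hV.2.1
            · exact h
        have hNM : N = M ⊔ Subgroup.centralizer (M : Set G) := by
          rw [hN]
          apply le_antisymm
          · apply sSup_le; intro V hV
            rcases hcases V hV with h | h
            · rw [h]; exact le_sup_left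
            · rw [h]; exact le_sup_right
          · exact sup_le (le_sSup hM) (le_sSup hCmin)
        obtain ⟨T, hT, m, hsimp, hm, ⟨e⟩⟩ := S0721.result M hM.2.1 hM.2.2
        obtain ⟨e1⟩ := S0721.nonempty_sup_mulEquiv_prod M _ hd hcomm
        obtain ⟨e2⟩ := nonempty_mulEquiv_of_regular M _ hcomm ω₀ (hMs ω₀) hCs
        obtain ⟨e3⟩ := nonempty_pi_add_mulEquiv T m m
        refine ⟨T, hT, m + m, by omega, hsimp, ?_, ⟨?_⟩⟩
        · intro hTc
          apply hMC
          intro a ha
          rw [Subgroup.mem_centralizer_iff]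
          intro b hb
          exact comm_of_equiv_pi e hTc b hb a ha
        · exact ((MulEquiv.subgroupCongr hNM).trans e1).trans
            ((MulEquiv.prodCongr e (e2.symm.trans e)).trans e3)

end Cfsg.Agent.S3680
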