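import Mathlib
import Cfsg.Statements.S3761
import Cfsg.Agent.Lib.Lead.DihedralRecog
import Cfsg.Agent.Lib.Helper2.QuaternionRecog
import Cfsg.Agent.Lib.Helper19.PGroupBasic
import Cfsg.Agent.Lib.Helper1.QuotientCard

set_option autoImplicit false
set_option linter.unusedSectionVars false
open Cfsg

namespace Cfsg.Agent.S3761

open Subgroup
open scoped commutatorElement

/-! ### Number theory -/

theorem nt_odd {p : ℕ} [hp : Fact p.Prime] (hodd : Odd p) {k n : ℕ} (hk : 2 ≤ k)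
    (h1 : p ∣ k - 1) (h2 : ¬ p ^ n ∣ k - 1) :
    ∃ s : ℕ, p ^ (n - 1) ∣ k ^ p ^ s - 1 ∧ ¬ p ^ n ∣ k ^ p ^ s - 1 := by
  have hk1 : k - 1 ≠ 0 := by omega
  have hv : padicValNat p (k - 1) < n := by
    by_contra hcon
    push Not at hcon
    exact h2 ((padicValNat_dvd_iff_le hk1).mpr hcon)
  have hpk : ¬ p ∣ k := by
    intro hdvd
    have h3 : p ∣ k - (k - 1) := Nat.dvd_sub hdvd h1
    rw [show k - (k - 1) = 1 by omega] at h3
    exact hp.out.one_lt.ne' (Nat.dvd_one.mp h3)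
  refine ⟨n - 1 - padicValNat p (k - 1), ?_⟩
  have hne : p ^ (n - 1 - padicValNat p (k - 1)) ≠ 0 := pow_ne_zero _ hp.out.ne_zero
  have hval := padicValNat.pow_sub_pow hodd (show 1 < k by omega) (by simpa using h1) hpk hne
  rw [one_pow, padicValNat.prime_pow] at hval
  have hpos : k ^ p ^ (n - 1 - padicValNat p (k - 1)) - 1 ≠ 0 := by
    have : 2 ≤ k ^ p ^ (n - 1 - padicValNat p (k - 1)) := by
      calc 2 ≤ k := hk
        _ = k ^ 1 := (pow_one k).symm
        _ ≤ k ^ p ^ (n - 1 - padicValNat p (k - 1)) :=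
          Nat.pow_le_pow_right (by omega) (Nat.one_le_iff_ne_zero.mpr hne)
    omega
  constructor
  · rw [padicValNat_dvd_iff_le hpos, hval]
    omega
  · rw [padicValNat_dvd_iff_le hpos, hval]
    omega

theorem nt_two {k n : ℕ} (hk : 2 ≤ k) (h1 : 4 ∣ k - 1) (h2 : ¬ 2 ^ n ∣ k - 1) :
    ∃ s : ℕ, 2 ^ (n - 1) ∣ k ^ 2 ^ s - 1 ∧ ¬ 2 ^ n ∣ k ^ 2 ^ s - 1 := by
  have hk1 : k - 1 ≠ 0 := by omega
  have hv : padicValNat 2 (k - 1) < n := by
    by_contra hcon
    push Not at hcon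
    exact h2 ((padicValNat_dvd_iff_le hk1).mpr hcon)
  have hv2 : 2 ≤ padicValNat 2 (k - 1) := by
    rw [← padicValNat_dvd_iff_le hk1]
    exact h1
  by_cases hs : n - 1 - padicValNat 2 (k - 1) = 0
  · refine ⟨0, ?_⟩
    rw [pow_zero, pow_one]
    refine ⟨?_, h2⟩
    rw [padicValNat_dvd_iff_le hk1]
    omega
  · refine ⟨n - 1 - padicValNat 2 (k - 1), ?_⟩
    have hne : 2 ^ (n - 1 - padicValNat 2 (k - 1)) ≠ 0 := pow_ne_zero _ (by norm_num)
    have h2k : ¬ 2 ∣ k := by omega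
    have heven : Even (2 ^ (n - 1 - padicValNat 2 (k - 1))) :=
      (Nat.even_pow' hs).mpr even_two
    have hval := padicValNat.pow_two_sub_pow (show 1 < k by omega) (by omega) h2k hne heven
    rw [one_pow, padicValNat.prime_pow] at hval
    have hk1' : padicValNat 2 (k + 1) = 1 := by
      have h3 : k + 1 = 2 * ((k + 1) / 2) := by omega
      have h4 : ¬ 2 ∣ (k + 1) / 2 := by omega
      rw [h3, padicValNat.mul (by norm_num) (by omega), padicValNat.self (by norm_num),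
        padicValNat.eq_zero_of_not_dvd h4]
    rw [hk1'] at hval
    have hpos : k ^ 2 ^ (n - 1 - padicValNat 2 (k - 1)) - 1 ≠ 0 := by
      have : 2 ≤ k ^ 2 ^ (n - 1 - padicValNat 2 (k - 1)) := by
        calc 2 ≤ k := hk
          _ = k ^ 1 := (pow_one k).symm
          _ ≤ k ^ 2 ^ (n - 1 - padicValNat 2 (k - 1)) :=
            Nat.pow_le_pow_right (by omega) (Nat.one_le_iff_ne_zero.mpr hne)
      omega
    constructor
    · rw [padicValNat_dvd_iff_le hpos]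
      omega
    · rw [padicValNat_dvd_iff_le hpos]
      omega

theorem nt_sq {k n : ℕ} (h3 : k % 4 = 3) (hsq : 2 ^ n ∣ k ^ 2 - 1) (hn : 1 ≤ n) :
    2 ^ (n - 1) ∣ k + 1 := by
  have e : k ^ 2 - 1 = (k - 1) * (k + 1) := by
    have hk : 1 ≤ k := by omega
    obtain ⟨m, rfl⟩ : ∃ m, k = m + 1 := ⟨k - 1, by omega⟩
    simp only [Nat.add_sub_cancel]
    have : (m + 1) ^ 2 = m * (m + 1 + 1) + 1 := by ring
    rw [this, Nat.add_sub_cancel]
  rw [e] at hsq
  obtain ⟨m, hm⟩ : ∃ m, k - 1 = 2 * m := ⟨(k - 1) / 2, by omega⟩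
  have hmodd : ¬ 2 ∣ m := by omega
  rw [hm, mul_assoc] at hsq
  obtain ⟨n', rfl⟩ : ∃ n', n = n' + 1 := ⟨n - 1, by omega⟩
  rw [pow_succ, mul_comm (2 ^ n') 2] at hsq
  have h4 : 2 ^ n' ∣ m * (k + 1) := Nat.dvd_of_mul_dvd_mul_left (by norm_num) hsq
  rw [Nat.add_sub_cancel]
  have hcop : Nat.Coprime (2 ^ n') m := by
    apply Nat.Coprime.pow_left
    rw [Nat.coprime_two_left]
    rwa [← Nat.not_even_iff_odd, even_iff_two_dvd]
  exact hcop.dvd_of_dvd_mul_left h4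

/-! ### The configuration -/

variable {G : Type*} [Group G]

/-- `u` generates a normal self-centralizing cyclic subgroup of order `p ^ n`. -/
structure IsCfg (p n : ℕ) (u : G) : Prop where
  ord : orderOf u = p ^ n
  normal : (zpowers u).Normal
  cent : centralizer (zpowers u : Set G) = zpowers u

theorem mem_zpowers_iff_exists_pow [Finite G] (u x : G) : x ∈ zpowers u ↔ ∃ k : ℕ, x = u ^ k := by
  rw [← mem_powers_iff_mem_zpowers, Submonoid.mem_powers_iff]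
  constructor
  · rintro ⟨k, hk⟩; exact ⟨k, hk.symm⟩
  · rintro ⟨k, hk⟩; exact ⟨k, hk.symm⟩

namespace IsCfg

variable {p n : ℕ} {u : G}

theorem exists_acts [Finite G] (h : IsCfg p n u) (g : G) : ∃ k : ℕ, g * u * g⁻¹ = u ^ k := by
  have h1 := h.normal.conj_mem u (mem_zpowers u) g
  exact (mem_zpowers_iff_exists_pow u _).mp h1

theorem mem_iff_commute (h : IsCfg p n u) (g : G) : g ∈ zpowers u ↔ g * u * g⁻¹ = u := by
  constructor
  · intro hg
    obtain ⟨i, rfl⟩ := mem_zpowers_iff.mp hg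
    have : Commute (u ^ i) u := (Commute.refl u).zpow_left i
    rw [this.eq, mul_inv_cancel_right]
  · intro hg
    rw [← h.cent, zpowers_eq_closure, centralizer_closure, mem_centralizer_iff]
    intro x hx
    rw [Set.mem_singleton_iff] at hx
    rw [hx]
    calc u * g = (g * u * g⁻¹) * g := by rw [hg]
      _ = g * u := by group

end IsCfg

theorem conj_pow_eq {g u : G} {k : ℕ} (hk : g * u * g⁻¹ = u ^ k) (i : ℕ) :
    g * u ^ i * g⁻¹ = u ^ (k * i) := by
  rw [← conj_pow, hk, ← pow_mul]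

theorem acts_mul {g g' u : G} {k k' : ℕ} (hk : g * u * g⁻¹ = u ^ k)
    (hk' : g' * u * g'⁻¹ = u ^ k') : (g * g') * u * (g * g')⁻¹ = u ^ (k * k') := by
  have e : (g * g') * u * (g * g')⁻¹ = g * (g' * u * g'⁻¹) * g⁻¹ := by group
  rw [e, hk', conj_pow_eq hk]

theorem acts_pow {g u : G} {k : ℕ} (hk : g * u * g⁻¹ = u ^ k) (s : ℕ) :
    g ^ s * u * (g ^ s)⁻¹ = u ^ (k ^ s) := by
  induction s with
  | zero => simp
  | succ s ih =>
    rw [pow_succ, pow_succ]
    exact acts_mul ih hk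

/-- Powers of a product when the commutator commutes with both factors. -/
theorem mul_pow_of_commutator_central {a b c : G} (hc : b * a = c * (a * b))
    (hca : c * a = a * c) (hcb : c * b = b * c) (m : ℕ) :
    (a * b) ^ m = a ^ m * b ^ m * c ^ (m.choose 2) := by
  have hbm : ∀ m : ℕ, b ^ m * a = c ^ m * (a * b ^ m) := by
    intro m
    induction m with
    | zero => simp
    | succ m ih =>
      have hcm : ∀ j : ℕ, c ^ j * b = b * c ^ j := fun j =>
        ((Commute.pow_left (show Commute c b from hcb) j)).eq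
      calc b ^ (m + 1) * a = b * (b ^ m * a) := by rw [pow_succ']; group
        _ = b * (c ^ m * (a * b ^ m)) := by rw [ih]
        _ = c ^ m * (b * a) * b ^ m := by rw [← mul_assoc b, ← hcm m]; group
        _ = c ^ m * (c * (a * b)) * b ^ m := by rw [hc]
        _ = c ^ (m + 1) * (a * b ^ (m + 1)) := by rw [pow_succ c, pow_succ' b]; group
  have hca' : ∀ j : ℕ, c ^ j * a = a * c ^ j := fun j =>
    ((Commute.pow_left (show Commute c a from hca) j)).eq
  have hcb' : ∀ (j i : ℕ), c ^ j * b ^ i = b ^ i * c ^ j := fun j i =>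
    ((Commute.pow_pow (show Commute c b from hcb) j i)).eq
  induction m with
  | zero => simp
  | succ m ih =>
    have e1 : (m + 1).choose 2 = m.choose 2 + m := by
      rw [Nat.choose_succ_succ' m 1, Nat.choose_one_right, add_comm]
    calc (a * b) ^ (m + 1) = (a * b) ^ m * (a * b) := pow_succ _ _
      _ = a ^ m * b ^ m * c ^ (m.choose 2) * (a * b) := by rw [ih]
      _ = a ^ m * (b ^ m * (c ^ (m.choose 2) * a)) * b := by group
      _ = a ^ m * (b ^ m * (a * c ^ (m.choose 2))) * b := by rw [hca']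
      _ = a ^ m * ((b ^ m * a) * c ^ (m.choose 2)) * b := by group
      _ = a ^ m * ((c ^ m * (a * b ^ m)) * c ^ (m.choose 2)) * b := by rw [hbm]
      _ = a ^ m * (c ^ m * a) * (b ^ m * c ^ (m.choose 2)) * b := by group
      _ = a ^ m * (a * c ^ m) * (c ^ (m.choose 2) * b ^ m) * b := by rw [hca', hcb']
      _ = a ^ m * a * (c ^ m * c ^ (m.choose 2)) * b ^ m * b := by group
      _ = a ^ (m + 1) * (c ^ (m.choose 2 + m) * b ^ m) * b := by
          have hcc : c ^ m * c ^ (m.choose 2) = c ^ (m.choose 2 + m) := by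
            rw [← pow_add, add_comm]
          rw [hcc, pow_succ a]; group
      _ = a ^ (m + 1) * (b ^ m * c ^ (m.choose 2 + m)) * b := by rw [hcb']
      _ = a ^ (m + 1) * b ^ m * (c ^ (m.choose 2 + m) * b) := by group
      _ = a ^ (m + 1) * b ^ m * (b * c ^ (m.choose 2 + m)) := by
          have := hcb' (m.choose 2 + m) 1
          rw [pow_one] at this
          rw [this]
      _ = a ^ (m + 1) * b ^ (m + 1) * c ^ ((m + 1).choose 2) := by
          rw [e1, pow_succ b]; group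

/-! ### The subgroup of order `p` of `U` -/

section Omega

variable {p n : ℕ} [hp : Fact p.Prime] {u : G}

theorem orderOf_zz (hord : orderOf u = p ^ n) (hn : 1 ≤ n) : orderOf (u ^ p ^ (n - 1)) = p := by
  rw [orderOf_pow_of_dvd (pow_ne_zero _ hp.out.ne_zero), hord, Nat.pow_div (by omega) hp.out.pos,
    show n - (n - 1) = 1 by omega, pow_one]
  rw [hord]
  exact pow_dvd_pow p (by omega)

theorem zz_pow_p (hord : orderOf u = p ^ n) (hn : 1 ≤ n) : (u ^ p ^ (n - 1)) ^ p = 1 := by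
  have := pow_orderOf_eq_one (u ^ p ^ (n - 1))
  rwa [orderOf_zz hord hn] at this

theorem mem_zpowers_zz_of_pow_eq_one [Finite G] (hord : orderOf u = p ^ n) (hn : 1 ≤ n) {v : G}
    (hv : v ∈ zpowers u) (hvp : v ^ p = 1) : v ∈ zpowers (u ^ p ^ (n - 1)) := by
  obtain ⟨i, rfl⟩ := (mem_zpowers_iff_exists_pow u v).mp hv
  rw [← pow_mul, ← orderOf_dvd_iff_pow_eq_one, hord] at hvp
  obtain ⟨n', rfl⟩ : ∃ n', n = n' + 1 := ⟨n - 1, by omega⟩
  rw [pow_succ, mul_comm i p, mul_comm (p ^ n') p] at hvp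
  have h1 : p ^ n' ∣ i := Nat.dvd_of_mul_dvd_mul_left hp.out.pos hvp
  obtain ⟨t, rfl⟩ := h1
  rw [Nat.add_sub_cancel, pow_mul]
  exact Subgroup.pow_mem _ (mem_zpowers _) t

theorem pow_eq_one_of_mem_zpowers_zz (hord : orderOf u = p ^ n) (hn : 1 ≤ n) {v : G}
    (hv : v ∈ zpowers (u ^ p ^ (n - 1))) : v ^ p = 1 := by
  obtain ⟨i, rfl⟩ := mem_zpowers_iff.mp hv
  rw [← zpow_natCast, ← zpow_mul, mul_comm, zpow_mul, zpow_natCast, zz_pow_p hord hn, one_zpow]

theorem zz_mem : u ^ p ^ (n - 1) ∈ zpowers u := Subgroup.pow_mem _ (mem_zpowers u) _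

theorem zpowers_zz_le : zpowers (u ^ p ^ (n - 1)) ≤ zpowers u := zpowers_le.mpr zz_mem

theorem IsCfg.zpowers_zz_normal [Finite G] (h : IsCfg p n u) :
    (zpowers (u ^ p ^ (n - 1))).Normal := by
  constructor
  intro x hx g
  obtain ⟨i, rfl⟩ := mem_zpowers_iff.mp hx
  obtain ⟨k, hk⟩ := h.exists_acts g
  rw [← conj_zpow, ← conj_pow, hk, ← pow_mul, mul_comm, pow_mul]
  exact Subgroup.zpow_mem _ (Subgroup.pow_mem _ (mem_zpowers _) _) _

theorem IsCfg.zpowers_zz_le_center [Finite G] (h : IsCfg p n u) (hG : IsPGroup p G) (hn : 1 ≤ n) :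
    zpowers (u ^ p ^ (n - 1)) ≤ center G := by
  have := h.zpowers_zz_normal
  apply Cfsg.Agent.Helper19.normal_card_prime_le_center hG
  rw [Nat.card_zpowers, orderOf_zz h.ord hn]

end Omega

/-! ### The centralizer of the `p`-th powers -/

section MM

variable {p n : ℕ} [hp : Fact p.Prime] {u : G}

theorem mem_centralizer_powerClosure_iff (g : G) :
    g ∈ centralizer (Cfsg.powerClosure p 1 (zpowers u) : Set G) ↔ g * u ^ p * g⁻¹ = u ^ p := by
  unfold Cfsg.powerClosure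
  rw [centralizer_closure, mem_centralizer_iff]
  constructor
  · intro hg
    have h1 := hg (u ^ p) ⟨u, mem_zpowers u, by rw [pow_one]⟩
    rw [← h1, mul_inv_cancel_right]
  · rintro hg y ⟨x, hx, rfl⟩
    obtain ⟨i, rfl⟩ := mem_zpowers_iff.mp hx
    rw [pow_one, ← zpow_natCast, ← zpow_mul, mul_comm, zpow_mul, zpow_natCast]
    have h2 : g * (u ^ p) ^ i * g⁻¹ = (u ^ p) ^ i := by
      rw [← conj_zpow, hg]
    calc (u ^ p) ^ i * g = (g * (u ^ p) ^ i * g⁻¹) * g := by rw [h2]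
      _ = g * (u ^ p) ^ i := by group

theorem IsCfg.commutator_mem (h : IsCfg p n u) (g : G) : ⁅g, u⁆ ∈ zpowers u := by
  rw [commutatorElement_def]
  exact Subgroup.mul_mem _ (h.normal.conj_mem u (mem_zpowers u) g)
    (Subgroup.inv_mem _ (mem_zpowers u))

theorem IsCfg.commutator_pow (h : IsCfg p n u) (g : G) (m : ℕ) :
    ⁅g, u⁆ ^ m = (g * u ^ m * g⁻¹) * (u ^ m)⁻¹ := by
  have hv : g * u * g⁻¹ ∈ zpowers u := h.normal.conj_mem u (mem_zpowers u) g
  obtain ⟨i, hi⟩ := mem_zpowers_iff.mp hv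
  have hcomm : Commute (g * u * g⁻¹) u⁻¹ := by
    rw [← hi]
    exact ((Commute.refl u).zpow_left i).inv_right
  rw [commutatorElement_def, hcomm.mul_pow, conj_pow, inv_pow]

theorem IsCfg.inM_iff [Finite G] (h : IsCfg p n u) (hn : 1 ≤ n) (g : G) :
    g * u ^ p * g⁻¹ = u ^ p ↔ ⁅g, u⁆ ∈ zpowers (u ^ p ^ (n - 1)) := by
  constructor
  · intro hg
    apply mem_zpowers_zz_of_pow_eq_one h.ord hn (h.commutator_mem g)
    rw [h.commutator_pow, hg, mul_inv_cancel]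
  · intro hg
    have h1 := pow_eq_one_of_mem_zpowers_zz h.ord hn hg
    rw [h.commutator_pow] at h1
    exact mul_inv_eq_one.mp h1

end MM

/-! ### Commutators with central values -/

section Comm

theorem comm_mul_of_central {g g' u : G} (hc : ⁅g', u⁆ ∈ center G) :
    ⁅g * g', u⁆ = ⁅g, u⁆ * ⁅g', u⁆ := by
  have h1 : ⁅g * g', u⁆ = g * ⁅g', u⁆ * g⁻¹ * ⁅g, u⁆ := by
    simp only [commutatorElement_def]; group
  have h2 : g * ⁅g', u⁆ = ⁅g', u⁆ * g := mem_center_iff.mp hc g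
  have h3 : ⁅g, u⁆ * ⁅g', u⁆ = ⁅g', u⁆ * ⁅g, u⁆ := mem_center_iff.mp hc _
  rw [h1, h2, mul_inv_cancel_right, h3]

theorem comm_one_left (u : G) : ⁅(1 : G), u⁆ = 1 := commutatorElement_one_left u

theorem comm_inv_of_central {g u : G} (hc : ⁅g, u⁆ ∈ center G) : ⁅g⁻¹, u⁆ = ⁅g, u⁆⁻¹ := by
  have h1 : ⁅g⁻¹, u⁆ = g⁻¹ * ⁅g, u⁆⁻¹ * g := by
    simp only [commutatorElement_def]; group
  have h2 : g⁻¹ * ⁅g, u⁆⁻¹ = ⁅g, u⁆⁻¹ * g⁻¹ := mem_center_iff.mp ((center G).inv_mem hc) g⁻¹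
  rw [h1, h2, inv_mul_cancel_right]

theorem comm_pow_of_central {g u : G} (hc : ⁅g, u⁆ ∈ center G) (j : ℕ) :
    ⁅g ^ j, u⁆ = ⁅g, u⁆ ^ j := by
  induction j with
  | zero => simp
  | succ j ih =>
    rw [pow_succ, comm_mul_of_central hc, ih, pow_succ]

theorem conj_pow_of_central {g u : G} (hc : ⁅g, u⁆ ∈ center G) (i : ℕ) :
    g * u ^ i * g⁻¹ = ⁅g, u⁆ ^ i * u ^ i := by
  have h1 : g * u * g⁻¹ = ⁅g, u⁆ * u := by
    rw [commutatorElement_def]; group
  have h2 : Commute ⁅g, u⁆ u := (mem_center_iff.mp hc u).symm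
  rw [← conj_pow, h1, h2.mul_pow]

theorem comm_pow_right_of_central {g u : G} (hc : ⁅g, u⁆ ∈ center G) (i : ℕ) :
    ⁅g, u ^ i⁆ = ⁅g, u⁆ ^ i := by
  have h1 : ⁅g, u ^ i⁆ = g * u ^ i * g⁻¹ * (u ^ i)⁻¹ := commutatorElement_def _ _
  rw [h1, conj_pow_of_central hc, mul_inv_cancel_right]

end Comm

/-! ### Branch B: the structure of `M` -/

section BranchB

variable [Finite G] {p n : ℕ} [hp : Fact p.Prime] {u : G}

/-- The subgroup `M`. -/
abbrev MM (p : ℕ) (u : G) : Subgroup G :=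
  centralizer (Cfsg.powerClosure p 1 (zpowers u) : Set G)

theorem mem_MM_iff (g : G) : g ∈ MM p u ↔ g * u ^ p * g⁻¹ = u ^ p :=
  mem_centralizer_powerClosure_iff g

theorem IsCfg.comm_mem_of_mem_MM (h : IsCfg p n u) (hn : 1 ≤ n) {g : G} (hg : g ∈ MM p u) :
    ⁅g, u⁆ ∈ zpowers (u ^ p ^ (n - 1)) :=
  (h.inM_iff hn g).mp ((mem_MM_iff g).mp hg)

theorem IsCfg.comm_central (h : IsCfg p n u) (hG : IsPGroup p G) (hn : 1 ≤ n) {g : G}
    (hg : g ∈ MM p u) : ⁅g, u⁆ ∈ center G :=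
  h.zpowers_zz_le_center hG hn (h.comm_mem_of_mem_MM hn hg)

theorem IsCfg.zpowers_le_MM (h : IsCfg p n u) : zpowers u ≤ MM p u := by
  rw [zpowers_le, mem_MM_iff]
  have : Commute u (u ^ p) := (Commute.refl u).pow_right p
  rw [this.eq, mul_inv_cancel_right]

theorem IsCfg.comm_ne_one (h : IsCfg p n u) {g : G} (hg : g ∉ zpowers u) : ⁅g, u⁆ ≠ 1 := by
  intro h1
  apply hg
  rw [h.mem_iff_commute]
  rw [commutatorElement_def] at h1
  exact mul_inv_eq_one.mp h1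

theorem IsCfg.mem_of_comm_eq_one (h : IsCfg p n u) {g : G} (hg : ⁅g, u⁆ = 1) :
    g ∈ zpowers u := by
  by_contra hcon
  exact h.comm_ne_one hcon hg

/-- A nonidentity element of `Z` generates it. -/
theorem IsCfg.zpowers_comm_eq (h : IsCfg p n u) (hn : 1 ≤ n) {c : G}
    (hc : c ∈ zpowers (u ^ p ^ (n - 1))) (hc1 : c ≠ 1) :
    zpowers c = zpowers (u ^ p ^ (n - 1)) := by
  apply Subgroup.eq_of_le_of_card_ge (zpowers_le.mpr hc)
  rw [Nat.card_zpowers, Nat.card_zpowers, orderOf_zz h.ord hn]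
  have h1 : orderOf c = p := orderOf_eq_prime (pow_eq_one_of_mem_zpowers_zz h.ord hn hc) hc1
  rw [h1]

theorem IsCfg.exists_pow_mul_mem (h : IsCfg p n u) (hG : IsPGroup p G) (hn : 1 ≤ n) {g₀ x : G}
    (hg₀ : g₀ ∈ MM p u) (hg₀U : g₀ ∉ zpowers u) (hx : x ∈ MM p u) :
    ∃ b : ℕ, x * (g₀ ^ b)⁻¹ ∈ zpowers u := by
  have hc₀ := h.comm_mem_of_mem_MM hn hg₀
  have hc₀c := h.comm_central hG hn hg₀
  have hcx := h.comm_mem_of_mem_MM hn hx
  rw [← h.zpowers_comm_eq hn hc₀ (h.comm_ne_one hg₀U)] at hcx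
  obtain ⟨b, hb⟩ := (mem_zpowers_iff_exists_pow _ _).mp hcx
  refine ⟨b, h.mem_of_comm_eq_one ?_⟩
  have h1 : ⁅g₀ ^ b, u⁆ = ⁅g₀, u⁆ ^ b := comm_pow_of_central hc₀c b
  have h2 : ⁅g₀ ^ b, u⁆ ∈ center G := h1 ▸ (center G).pow_mem hc₀c b
  have h3 : ⁅(g₀ ^ b)⁻¹, u⁆ = (⁅g₀, u⁆ ^ b)⁻¹ := by
    rw [comm_inv_of_central h2, h1]
  have h4 : ⁅(g₀ ^ b)⁻¹, u⁆ ∈ center G := h3 ▸ (center G).inv_mem ((center G).pow_mem hc₀c b)
  rw [comm_mul_of_central h4, h3, hb, mul_inv_cancel]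

theorem IsCfg.pow_p_mem (h : IsCfg p n u) (hG : IsPGroup p G) (hn : 1 ≤ n) {g : G}
    (hg : g ∈ MM p u) : g ^ p ∈ zpowers u := by
  apply h.mem_of_comm_eq_one
  rw [comm_pow_of_central (h.comm_central hG hn hg)]
  exact pow_eq_one_of_mem_zpowers_zz h.ord hn (h.comm_mem_of_mem_MM hn hg)

theorem IsCfg.card_MM (h : IsCfg p n u) (hG : IsPGroup p G) (hn : 1 ≤ n) {g₀ : G}
    (hg₀ : g₀ ∈ MM p u) (hg₀U : g₀ ∉ zpowers u) : Nat.card (MM p u) = p ^ n * p := by
  have hnorm : (zpowers u).Normal := h.normal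
  have hord : orderOf (QuotientGroup.mk g₀ : G ⧸ zpowers u) = p := by
    apply orderOf_eq_prime
    · rw [← QuotientGroup.mk_pow, QuotientGroup.eq_one_iff]
      exact h.pow_p_mem hG hn hg₀
    · rw [Ne, QuotientGroup.eq_one_iff]
      exact hg₀U
  have heq : MM p u = (zpowers (QuotientGroup.mk g₀ : G ⧸ zpowers u)).comap
      (QuotientGroup.mk' (zpowers u)) := by
    apply le_antisymm
    · intro x hx
      obtain ⟨b, hb⟩ := h.exists_pow_mul_mem hG hn hg₀ hg₀U hx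
      rw [mem_comap, QuotientGroup.mk'_apply]
      have h1 : (QuotientGroup.mk x : G ⧸ zpowers u) = (QuotientGroup.mk g₀) ^ b := by
        rw [← QuotientGroup.mk_pow, eq_comm, QuotientGroup.eq]
        have e : (g₀ ^ b)⁻¹ * x = (g₀ ^ b)⁻¹ * (x * (g₀ ^ b)⁻¹) * (g₀ ^ b)⁻¹⁻¹ := by group
        rw [e]
        exact hnorm.conj_mem _ hb _
      rw [h1]
      exact Subgroup.pow_mem _ (mem_zpowers _) _
    · intro x hx
      rw [mem_comap, QuotientGroup.mk'_apply] at hx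
      obtain ⟨j, hj⟩ := mem_zpowers_iff.mp hx
      rw [← QuotientGroup.mk_zpow, QuotientGroup.eq] at hj
      have e : x = g₀ ^ j * ((g₀ ^ j)⁻¹ * x) := by group
      rw [e]
      exact (MM p u).mul_mem ((MM p u).zpow_mem hg₀ j) (h.zpowers_le_MM hj)
  rw [heq, Cfsg.Agent.Helper1.card_comap_mk', Nat.card_zpowers, Nat.card_zpowers, hord, h.ord]

theorem IsCfg.relIndex_MM (h : IsCfg p n u) (hG : IsPGroup p G) (hn : 1 ≤ n) {g₀ : G}
    (hg₀ : g₀ ∈ MM p u) (hg₀U : g₀ ∉ zpowers u) : (zpowers u).relIndex (MM p u) = p := by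
  have h1 := Subgroup.relIndex_mul_relIndex (⊥ : Subgroup G) (zpowers u) (MM p u) bot_le
    h.zpowers_le_MM
  rw [Subgroup.relIndex_bot_left, Subgroup.relIndex_bot_left, h.card_MM hG hn hg₀ hg₀U,
    Nat.card_zpowers, h.ord] at h1
  exact Nat.eq_of_mul_eq_mul_left (pow_pos hp.out.pos n) h1

theorem zz_cases_two {n : ℕ} {u : G} (hord : orderOf u = 2 ^ n) (hn : 1 ≤ n) {c : G}
    (hc : c ∈ zpowers (u ^ 2 ^ (n - 1))) : c = 1 ∨ c = u ^ 2 ^ (n - 1) := by
  have hF : Fact (Nat.Prime 2) := ⟨Nat.prime_two⟩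
  obtain ⟨k, rfl⟩ := mem_zpowers_iff.mp hc
  have hsq : (u ^ 2 ^ (n - 1)) ^ (2 : ℤ) = 1 := by
    rw [zpow_ofNat]
    exact zz_pow_p (p := 2) hord hn
  rcases Int.even_or_odd k with ⟨j, hj⟩ | ⟨j, hj⟩
  · left
    rw [hj, ← two_mul, zpow_mul, hsq, one_zpow]
  · right
    rw [hj, zpow_add, zpow_mul, hsq, one_zpow, one_mul, zpow_one]

theorem IsCfg.exists_order_p (h : IsCfg p n u) (hG : IsPGroup p G) (hn : 1 ≤ n)
    (hp2 : p ≠ 2 ∨ 3 ≤ n) {g₀ : G} (hg₀ : g₀ ∈ MM p u) (hg₀U : g₀ ∉ zpowers u) :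
    ∃ t, t ∈ MM p u ∧ t ∉ zpowers u ∧ t ^ p = 1 := by
  have hc₀Z := h.comm_mem_of_mem_MM hn hg₀
  have hc₀c := h.comm_central hG hn hg₀
  have hc₀1 := h.comm_ne_one hg₀U
  have hc₀p : ⁅g₀, u⁆ ^ p = 1 := pow_eq_one_of_mem_zpowers_zz h.ord hn hc₀Z
  have hc₀ord : orderOf ⁅g₀, u⁆ = p := orderOf_eq_prime hc₀p hc₀1
  obtain ⟨m, hm⟩ := (mem_zpowers_iff_exists_pow u _).mp (h.pow_p_mem hG hn hg₀)
  have h1 : ⁅g₀, u ^ m⁆ = 1 := by
    rw [← hm, commutatorElement_eq_one_iff_mul_comm]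
    exact ((Commute.refl g₀).pow_right p).eq
  rw [comm_pow_right_of_central hc₀c, ← orderOf_dvd_iff_pow_eq_one, hc₀ord] at h1
  obtain ⟨j, rfl⟩ := h1
  -- t = g₀ * (u^j)⁻¹
  have hcj : ⁅g₀, u⁆ ^ j ∈ center G := (center G).pow_mem hc₀c j
  have hconj : g₀ * u ^ j * g₀⁻¹ = ⁅g₀, u⁆ ^ j * u ^ j := conj_pow_of_central hc₀c j
  have hrel : (u ^ j)⁻¹ * g₀ = ⁅g₀, u⁆ ^ j * (g₀ * (u ^ j)⁻¹) := by
    have e1 : g₀ * u ^ j = ⁅g₀, u⁆ ^ j * u ^ j * g₀ := by
      rw [← hconj]; group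
    have e2 : u ^ j * ⁅g₀, u⁆ ^ j = ⁅g₀, u⁆ ^ j * u ^ j := mem_center_iff.mp hcj _
    calc (u ^ j)⁻¹ * g₀ = (u ^ j)⁻¹ * (g₀ * u ^ j) * (u ^ j)⁻¹ := by group
      _ = (u ^ j)⁻¹ * (⁅g₀, u⁆ ^ j * u ^ j * g₀) * (u ^ j)⁻¹ := by rw [e1]
      _ = (u ^ j)⁻¹ * (u ^ j * ⁅g₀, u⁆ ^ j) * g₀ * (u ^ j)⁻¹ := by rw [e2]; group
      _ = ⁅g₀, u⁆ ^ j * (g₀ * (u ^ j)⁻¹) := by group
  have hpow := mul_pow_of_commutator_central hrel ((mem_center_iff.mp hcj g₀).symm)
    ((mem_center_iff.mp hcj _).symm) p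
  have hcancel : g₀ ^ p * ((u ^ j)⁻¹) ^ p = 1 := by
    rw [hm, inv_pow, ← pow_mul, mul_comm j p, mul_inv_cancel]
  rw [hcancel, one_mul] at hpow
  have ht_mem : g₀ * (u ^ j)⁻¹ ∈ MM p u :=
    (MM p u).mul_mem hg₀ (h.zpowers_le_MM ((zpowers u).inv_mem ((zpowers u).pow_mem
      (mem_zpowers u) j)))
  have ht_not : g₀ * (u ^ j)⁻¹ ∉ zpowers u := by
    intro hcon
    apply hg₀U
    have e : g₀ = g₀ * (u ^ j)⁻¹ * u ^ j := by group
    rw [e]
    exact (zpowers u).mul_mem hcon ((zpowers u).pow_mem (mem_zpowers u) j)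
  rcases hp2 with hp2 | hn3
  · refine ⟨g₀ * (u ^ j)⁻¹, ht_mem, ht_not, ?_⟩
    have hp3 : 2 < p := lt_of_le_of_ne hp.out.two_le (Ne.symm hp2)
    obtain ⟨r, hr⟩ := Nat.Prime.dvd_choose_self hp.out (by norm_num : (2 : ℕ) ≠ 0) hp3
    rw [hpow, hr, ← pow_mul, mul_comm j, mul_assoc, pow_mul, hc₀p, one_pow]
  · by_cases hp2' : p = 2
    · subst hp2'
      rw [Nat.choose_self, pow_one] at hpow
      by_cases hs : ⁅g₀, u⁆ ^ j = 1
      · exact ⟨g₀ * (u ^ j)⁻¹, ht_mem, ht_not, by rw [hpow, hs]⟩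
      · -- t^2 = zz, replace t by t * u^(2^(n-2))
        have hsZ : ⁅g₀, u⁆ ^ j ∈ zpowers (u ^ 2 ^ (n - 1)) := Subgroup.pow_mem _ hc₀Z j
        have hs' : ⁅g₀, u⁆ ^ j = u ^ 2 ^ (n - 1) :=
          (zz_cases_two h.ord hn hsZ).resolve_left hs
        have hctc := h.comm_central hG hn ht_mem
        have hctZ := h.comm_mem_of_mem_MM hn ht_mem
        have hct2 : ⁅g₀ * (u ^ j)⁻¹, u⁆ ^ 2 = 1 := pow_eq_one_of_mem_zpowers_zz h.ord hn hctZ
        have hcomm : Commute (g₀ * (u ^ j)⁻¹) (u ^ 2 ^ (n - 2)) := by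
          have h3 := conj_pow_of_central hctc (2 ^ (n - 2))
          have h4 : ⁅g₀ * (u ^ j)⁻¹, u⁆ ^ 2 ^ (n - 2) = 1 := by
            obtain ⟨n', rfl⟩ : ∃ n', n = n' + 3 := ⟨n - 3, by omega⟩
            rw [show n' + 3 - 2 = n' + 1 by omega, pow_succ, mul_comm, pow_mul, hct2, one_pow]
          rw [h4, one_mul] at h3
          show (g₀ * (u ^ j)⁻¹) * u ^ 2 ^ (n - 2) = u ^ 2 ^ (n - 2) * (g₀ * (u ^ j)⁻¹)
          calc (g₀ * (u ^ j)⁻¹) * u ^ 2 ^ (n - 2)
              = ((g₀ * (u ^ j)⁻¹) * u ^ 2 ^ (n - 2) * (g₀ * (u ^ j)⁻¹)⁻¹) * (g₀ * (u ^ j)⁻¹) := by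
                group
            _ = u ^ 2 ^ (n - 2) * (g₀ * (u ^ j)⁻¹) := by rw [h3]
        refine ⟨g₀ * (u ^ j)⁻¹ * u ^ 2 ^ (n - 2), ?_, ?_, ?_⟩
        · exact (MM 2 u).mul_mem ht_mem (h.zpowers_le_MM ((zpowers u).pow_mem (mem_zpowers u) _))
        · intro hcon
          apply ht_not
          have e : g₀ * (u ^ j)⁻¹ = g₀ * (u ^ j)⁻¹ * u ^ 2 ^ (n - 2) * (u ^ 2 ^ (n - 2))⁻¹ := by
            group
          rw [e]
          exact (zpowers u).mul_mem hcon ((zpowers u).inv_mem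
            ((zpowers u).pow_mem (mem_zpowers u) _))
        · rw [hcomm.mul_pow, hpow, hs', ← pow_mul, ← pow_succ,
            show n - 2 + 1 = n - 1 by omega, ← pow_two]
          exact zz_pow_p (p := 2) h.ord hn
    · refine ⟨g₀ * (u ^ j)⁻¹, ht_mem, ht_not, ?_⟩
      have hp3 : 2 < p := lt_of_le_of_ne hp.out.two_le (Ne.symm hp2')
      obtain ⟨r, hr⟩ := Nat.Prime.dvd_choose_self hp.out (by norm_num : (2 : ℕ) ≠ 0) hp3
      rw [hpow, hr, ← pow_mul, mul_comm j, mul_assoc, pow_mul, hc₀p, one_pow]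

theorem IsCfg.mem_pair (h : IsCfg p n u) (hG : IsPGroup p G) (hn : 1 ≤ n)
    (hp2 : p ≠ 2 ∨ 3 ≤ n) {t : G} (ht : t ∈ MM p u) (htU : t ∉ zpowers u) (htp : t ^ p = 1)
    {x : G} (hx : x ∈ MM p u) (hxp : x ^ p = 1) :
    ∃ i j : ℕ, x = (u ^ p ^ (n - 1)) ^ i * t ^ j := by
  obtain ⟨b, hb⟩ := h.exists_pow_mul_mem hG hn ht htU hx
  obtain ⟨i, hi⟩ := (mem_zpowers_iff_exists_pow u _).mp hb
  have hxv : x = u ^ i * t ^ b := by rw [← hi]; group
  have htb : t ^ b ∈ MM p u := (MM p u).pow_mem ht b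
  have hcc := h.comm_central hG hn htb
  have hcZ := h.comm_mem_of_mem_MM hn htb
  have hcp : ⁅t ^ b, u⁆ ^ p = 1 := pow_eq_one_of_mem_zpowers_zz h.ord hn hcZ
  have hci : ⁅t ^ b, u⁆ ^ i ∈ center G := (center G).pow_mem hcc i
  have hrel : t ^ b * u ^ i = ⁅t ^ b, u⁆ ^ i * (u ^ i * t ^ b) := by
    have h3 := conj_pow_of_central hcc i
    calc t ^ b * u ^ i = (t ^ b * u ^ i * (t ^ b)⁻¹) * t ^ b := by group
      _ = ⁅t ^ b, u⁆ ^ i * u ^ i * t ^ b := by rw [h3]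
      _ = ⁅t ^ b, u⁆ ^ i * (u ^ i * t ^ b) := by group
  have hpow := mul_pow_of_commutator_central hrel ((mem_center_iff.mp hci _).symm)
    ((mem_center_iff.mp hci _).symm) p
  rw [← hxv, hxp, ← pow_mul t, mul_comm b p, pow_mul t, htp, one_pow, mul_one] at hpow
  -- hpow : 1 = (u^i)^p * (c^i)^(choose p 2)
  have key : (u ^ i) ^ p = 1 ∨ (p = 2 ∧ 3 ≤ n ∧ (u ^ i) ^ 2 * (u ^ 2 ^ (n - 1)) ^ i = 1) := by
    by_cases hp2' : p = 2
    · subst hp2'
      rw [Nat.choose_self, pow_one] at hpow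
      rcases zz_cases_two h.ord hn hcZ with hc1 | hc1
      · left
        rw [hc1, one_pow, mul_one] at hpow
        exact hpow.symm
      · right
        refine ⟨rfl, ?_, ?_⟩
        · rcases hp2 with hp2 | hp2
          · exact absurd rfl hp2
          · exact hp2
        · rw [hc1] at hpow
          exact hpow.symm
    · left
      have hp3 : 2 < p := lt_of_le_of_ne hp.out.two_le (Ne.symm hp2')
      obtain ⟨r, hr⟩ := Nat.Prime.dvd_choose_self hp.out (by norm_num : (2 : ℕ) ≠ 0) hp3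
      have hone : (⁅t ^ b, u⁆ ^ i) ^ (p.choose 2) = 1 := by
        rw [hr, ← pow_mul, mul_comm i, mul_assoc, pow_mul, hcp, one_pow]
      rw [hone, mul_one] at hpow
      exact hpow.symm
  have hvZ : u ^ i ∈ zpowers (u ^ p ^ (n - 1)) := by
    rcases key with hk | ⟨hp2', hn3, hk⟩
    · exact mem_zpowers_zz_of_pow_eq_one h.ord hn ((zpowers u).pow_mem (mem_zpowers u) i) hk
    · subst hp2'
      rw [← pow_mul, ← pow_mul, ← pow_add, ← orderOf_dvd_iff_pow_eq_one, h.ord] at hk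
      obtain ⟨n', rfl⟩ : ∃ n', n = n' + 3 := ⟨n - 3, by omega⟩
      have e : i * 2 + 2 ^ (n' + 3 - 1) * i = 2 * (i * (1 + 2 * 2 ^ n')) := by
        rw [show n' + 3 - 1 = n' + 2 by omega]
        ring
      rw [e, show n' + 3 = (n' + 2) + 1 by omega, pow_succ, mul_comm (2 ^ (n' + 2)) 2] at hk
      have h4 : 2 ^ (n' + 2) ∣ i * (1 + 2 * 2 ^ n') :=
        Nat.dvd_of_mul_dvd_mul_left (by norm_num) hk
      have hcop : Nat.Coprime (2 ^ (n' + 2)) (1 + 2 * 2 ^ n') := by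
        apply Nat.Coprime.pow_left
        rw [Nat.coprime_two_left]
        exact ⟨2 ^ n', by ring⟩
      obtain ⟨r, rfl⟩ := hcop.dvd_of_dvd_mul_right h4
      rw [show n' + 2 + 1 - 1 = n' + 2 by omega, pow_mul]
      exact Subgroup.pow_mem _ (mem_zpowers _) r
  obtain ⟨k, hk⟩ := (mem_zpowers_iff_exists_pow _ _).mp hvZ
  exact ⟨k, b, by rw [hxv, hk]⟩

end BranchB

/-! ### The subgroup generated by two commuting elements of order `p` -/

section Pair

/-- The subgroup `{a^i b^j}` for commuting `a`, `b` with `a^p = b^p = 1`. -/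
def pairSubgroup (p : ℕ) (a b : G) (hab : a * b = b * a) (ha : a ^ p = 1) (hb : b ^ p = 1)
    (hp : 0 < p) : Subgroup G where
  carrier := {x | ∃ i j : ℕ, x = a ^ i * b ^ j}
  one_mem' := ⟨0, 0, by simp⟩
  mul_mem' := by
    rintro x y ⟨i, j, rfl⟩ ⟨i', j', rfl⟩
    refine ⟨i + i', j + j', ?_⟩
    have hc : Commute (b ^ j) (a ^ i') := Commute.pow_pow (show Commute b a from hab.symm) j i'
    calc a ^ i * b ^ j * (a ^ i' * b ^ j') = a ^ i * (b ^ j * a ^ i') * b ^ j' := by group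
      _ = a ^ i * (a ^ i' * b ^ j) * b ^ j' := by rw [hc.eq]
      _ = a ^ (i + i') * b ^ (j + j') := by rw [pow_add, pow_add]; group
  inv_mem' := by
    rintro x ⟨i, j, rfl⟩
    refine ⟨(p - 1) * i, (p - 1) * j, ?_⟩
    have hsum : ∀ m : ℕ, m + (p - 1) * m = p * m := by
      intro m
      conv_rhs => rw [show p = (p - 1) + 1 by omega]
      ring
    have ha' : (a ^ i)⁻¹ = a ^ ((p - 1) * i) := by
      apply inv_eq_of_mul_eq_one_right
      rw [← pow_add, hsum, pow_mul, ha, one_pow]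
    have hb' : (b ^ j)⁻¹ = b ^ ((p - 1) * j) := by
      apply inv_eq_of_mul_eq_one_right
      rw [← pow_add, hsum, pow_mul, hb, one_pow]
    have hc : Commute (b ^ j)⁻¹ (a ^ i)⁻¹ :=
      (Commute.pow_pow (show Commute b a from hab.symm) j i).inv_inv
    rw [mul_inv_rev, hc.eq, ha', hb']

theorem mem_pairSubgroup {p : ℕ} {a b : G} {hab : a * b = b * a} {ha : a ^ p = 1}
    {hb : b ^ p = 1} {hp : 0 < p} (x : G) :
    x ∈ pairSubgroup p a b hab ha hb hp ↔ ∃ i j : ℕ, x = a ^ i * b ^ j := Iff.rfl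

theorem pairSubgroup_isElementaryAbelian {p : ℕ} {a b : G} (hab : a * b = b * a)
    (ha : a ^ p = 1) (hb : b ^ p = 1) (hp : 0 < p) :
    Cfsg.IsElementaryAbelian p (pairSubgroup p a b hab ha hb hp) := by
  constructor
  · constructor
    constructor
    rintro ⟨x, i, j, rfl⟩ ⟨y, i', j', rfl⟩
    apply Subtype.ext
    show a ^ i * b ^ j * (a ^ i' * b ^ j') = a ^ i' * b ^ j' * (a ^ i * b ^ j)
    have hc : Commute a b := hab
    have h1 : Commute (a ^ i * b ^ j) (a ^ i' * b ^ j') := by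
      apply Commute.mul_left
      · exact Commute.mul_right (Commute.pow_pow (Commute.refl a) i i') (hc.pow_pow i j')
      · exact Commute.mul_right (hc.symm.pow_pow j i') (Commute.pow_pow (Commute.refl b) j j')
    exact h1.eq
  · rintro x ⟨i, j, rfl⟩
    have hc : Commute (a ^ i) (b ^ j) := Commute.pow_pow (show Commute a b from hab) i j
    rw [hc.mul_pow, ← pow_mul, ← pow_mul, mul_comm i, mul_comm j, pow_mul, pow_mul, ha, hb,
      one_pow, one_pow, one_mul]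

theorem card_pairSubgroup [Finite G] {p : ℕ} [hp : Fact p.Prime] (hG : IsPGroup p G) {a b : G}
    (hab : a * b = b * a) (ha : a ^ p = 1) (hb : b ^ p = 1) (ha1 : a ≠ 1)
    (hba : b ∉ zpowers a) : Nat.card (pairSubgroup p a b hab ha hb hp.out.pos) = p ^ 2 := by
  apply le_antisymm
  · -- surjection from Fin p × Fin p
    have hsurj : Function.Surjective (fun ij : Fin p × Fin p =>
        (⟨a ^ (ij.1 : ℕ) * b ^ (ij.2 : ℕ), ij.1, ij.2, rfl⟩ :
          pairSubgroup p a b hab ha hb hp.out.pos)) := by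
      rintro ⟨x, i, j, rfl⟩
      refine ⟨(⟨i % p, Nat.mod_lt _ hp.out.pos⟩, ⟨j % p, Nat.mod_lt _ hp.out.pos⟩), ?_⟩
      apply Subtype.ext
      show a ^ (i % p) * b ^ (j % p) = a ^ i * b ^ j
      have h1 : a ^ (i % p) = a ^ i := by
        conv_rhs => rw [← Nat.mod_add_div i p, pow_add, pow_mul, ha, one_pow, mul_one]
      have h2 : b ^ (j % p) = b ^ j := by
        conv_rhs => rw [← Nat.mod_add_div j p, pow_add, pow_mul, hb, one_pow, mul_one]
      rw [h1, h2]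
    have := Nat.card_le_card_of_surjective _ hsurj
    rwa [Nat.card_prod, Nat.card_fin, ← pow_two] at this
  · have hlt : zpowers a < pairSubgroup p a b hab ha hb hp.out.pos := by
      refine lt_of_le_of_ne ?_ ?_
      · rw [zpowers_le]
        exact ⟨1, 0, by simp⟩
      · intro heq
        apply hba
        rw [heq]
        exact ⟨0, 1, by simp⟩
    have h1 := Cfsg.Agent.Helper19.mul_card_le_of_lt hG hlt
    rw [Nat.card_zpowers, orderOf_eq_prime ha ha1, ← pow_two] at h1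
    exact h1

end Pair

/-! ### Assembling branch B -/

section AssembleB

variable [Finite G] {p n : ℕ} [hp : Fact p.Prime] {u : G}

theorem IsCfg.mem_MM_of_normal (h : IsCfg p n u) (hn : 1 ≤ n) {F : Subgroup G} (hF : F.Normal)
    (hFp : ∀ f ∈ F, f ^ p = 1) {y : G} (hy : y ∈ F) : y ∈ MM p u := by
  rw [mem_MM_iff, h.inM_iff hn]
  apply mem_zpowers_zz_of_pow_eq_one h.ord hn (h.commutator_mem y)
  apply hFp
  have e : ⁅y, u⁆ = y * (u * y⁻¹ * u⁻¹) := by
    rw [commutatorElement_def]; group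
  rw [e]
  exact F.mul_mem hy (hF.conj_mem _ (F.inv_mem hy) u)

theorem IsCfg.MM_normal (h : IsCfg p n u) (hG : IsPGroup p G) (hn : 1 ≤ n) :
    (MM p u).Normal := by
  constructor
  intro x hx g
  rw [mem_MM_iff, h.inM_iff hn]
  have hZn := h.zpowers_zz_normal
  obtain ⟨k, hk⟩ := h.exists_acts g⁻¹
  rw [inv_inv] at hk
  have e : ⁅g * x * g⁻¹, u⁆ = g * ⁅x, g⁻¹ * u * g⁆ * g⁻¹ := by
    simp only [commutatorElement_def]; group
  rw [e, hk, comm_pow_right_of_central (h.comm_central hG hn hx)]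
  exact hZn.conj_mem _ (Subgroup.pow_mem _ (h.comm_mem_of_mem_MM hn hx) k) g

theorem IsCfg.branchB (h : IsCfg p n u) (hG : IsPGroup p G) (hn : 1 ≤ n)
    (hp2 : p ≠ 2 ∨ 3 ≤ n) {g₀ : G} (hg₀ : g₀ ∈ MM p u) (hg₀U : g₀ ∉ zpowers u) :
    (zpowers u).relIndex (MM p u) = p ∧
      Cfsg.IsElementaryAbelian p (Cfsg.omegaOne p (MM p u)) ∧
      Nat.card (Cfsg.omegaOne p (MM p u)) = p ^ 2 ∧
      (Cfsg.omegaOne p (MM p u)).Characteristic := by
  obtain ⟨t, ht, htU, htp⟩ := h.exists_order_p hG hn hp2 hg₀ hg₀U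
  have hzzp : (u ^ p ^ (n - 1)) ^ p = 1 := zz_pow_p h.ord hn
  have hzzc : u ^ p ^ (n - 1) ∈ center G := h.zpowers_zz_le_center hG hn (mem_zpowers _)
  have hzzt : u ^ p ^ (n - 1) * t = t * u ^ p ^ (n - 1) := (mem_center_iff.mp hzzc t).symm
  have hzzM : u ^ p ^ (n - 1) ∈ MM p u := h.zpowers_le_MM zz_mem
  have hEeq : Cfsg.omegaOne p (MM p u) =
      pairSubgroup p (u ^ p ^ (n - 1)) t hzzt hzzp htp hp.out.pos := by
    unfold Cfsg.omegaOne
    apply le_antisymm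
    · rw [closure_le]
      rintro x ⟨hxM, hxp⟩
      exact h.mem_pair hG hn hp2 ht htU htp hxM hxp
    · rintro x ⟨i, j, rfl⟩
      exact Subgroup.mul_mem _
        (Subgroup.pow_mem _ (Subgroup.subset_closure
          (show u ^ p ^ (n - 1) ∈ {x : G | x ∈ MM p u ∧ x ^ p = 1} from ⟨hzzM, hzzp⟩)) i)
        (Subgroup.pow_mem _ (Subgroup.subset_closure
          (show t ∈ {x : G | x ∈ MM p u ∧ x ^ p = 1} from ⟨ht, htp⟩)) j)
  have hmemE : ∀ x, x ∈ MM p u → x ^ p = 1 →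
      x ∈ pairSubgroup p (u ^ p ^ (n - 1)) t hzzt hzzp htp hp.out.pos :=
    fun x hxM hxp => h.mem_pair hG hn hp2 ht htU htp hxM hxp
  have hEA := pairSubgroup_isElementaryAbelian hzzt hzzp htp hp.out.pos
  have hEnormal : (pairSubgroup p (u ^ p ^ (n - 1)) t hzzt hzzp htp hp.out.pos).Normal := by
    constructor
    intro x hx g
    have hMn := h.MM_normal hG hn
    have hxM : x ∈ MM p u := by
      obtain ⟨i, j, rfl⟩ := hx
      exact (MM p u).mul_mem ((MM p u).pow_mem hzzM i) ((MM p u).pow_mem ht j)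
    apply hmemE _ (hMn.conj_mem x hxM g)
    rw [conj_pow, hEA.2 x hx, mul_one, mul_inv_cancel]
  refine ⟨h.relIndex_MM hG hn hg₀ hg₀U, ?_, ?_, ?_⟩
  · rw [hEeq]
    exact hEA
  · rw [hEeq]
    apply card_pairSubgroup hG
    · intro h1
      have h2 := orderOf_zz (p := p) h.ord hn
      rw [h1, orderOf_one] at h2
      exact hp.out.one_lt.ne h2
    · intro hcon
      exact htU (zpowers_zz_le hcon)
  · rw [hEeq, characteristic_iff_map_le]
    intro φ
    have hFn : ((pairSubgroup p (u ^ p ^ (n - 1)) t hzzt hzzp htp hp.out.pos).map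
        φ.toMonoidHom).Normal := Subgroup.Normal.map hEnormal _ φ.surjective
    have hFp : ∀ f ∈ (pairSubgroup p (u ^ p ^ (n - 1)) t hzzt hzzp htp hp.out.pos).map
        φ.toMonoidHom, f ^ p = 1 := by
      rintro f ⟨x, hx, rfl⟩
      rw [← map_pow, hEA.2 x hx, map_one]
    intro y hy
    exact hmemE y (h.mem_MM_of_normal hn hFn hFp hy) (hFp y hy)

end AssembleB

/-! ### Branch A -/

section BranchA

variable [Finite G] {n : ℕ} {u : G}

theorem IsCfg.acts_ne_zero {p : ℕ} [hp : Fact p.Prime] (h : IsCfg p n u) (hn : 1 ≤ n) {g : G}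
    {k : ℕ} (hk : g * u * g⁻¹ = u ^ k) : k ≠ 0 := by
  rintro rfl
  rw [pow_zero] at hk
  have hu1 : u = 1 := by
    have : g⁻¹ * (g * u * g⁻¹) * g = u := by group
    rw [← this, hk]; group
  have := h.ord
  rw [hu1, orderOf_one] at this
  have h2 : 2 ≤ p ^ n := by
    calc 2 ≤ p := hp.out.two_le
      _ = p ^ 1 := (pow_one p).symm
      _ ≤ p ^ n := Nat.pow_le_pow_right hp.out.pos hn
  omega

theorem IsCfg.acts_modEq {p : ℕ} [hp : Fact p.Prime] (h : IsCfg p n u) (hG : IsPGroup p G)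
    (hn : 1 ≤ n) {g : G} {k : ℕ} (hk : g * u * g⁻¹ = u ^ k) : k ≡ 1 [MOD p] := by
  obtain ⟨s, hs⟩ := hG g
  have h1 := acts_pow hk (p ^ s)
  rw [hs, one_mul, inv_one, mul_one] at h1
  have h2 : k ^ p ^ s ≡ 1 [MOD p ^ n] := by
    have h3 : u ^ (k ^ p ^ s) = u ^ 1 := by rw [pow_one]; exact h1.symm
    rw [pow_eq_pow_iff_modEq, h.ord] at h3
    exact h3
  have h4 : k ^ p ^ s ≡ 1 [MOD p] := h2.of_dvd (dvd_pow_self p (by omega))
  rw [← ZMod.natCast_eq_natCast_iff] at h4 ⊢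
  rw [Nat.cast_pow, ZMod.pow_card_pow] at h4
  exact h4

theorem IsCfg.mem_iff_acts_modEq {p : ℕ} (h : IsCfg p n u) {g : G} {k : ℕ}
    (hk : g * u * g⁻¹ = u ^ k) : g ∈ zpowers u ↔ k ≡ 1 [MOD p ^ n] := by
  rw [h.mem_iff_commute, hk]
  have e : u ^ k = u ↔ u ^ k = u ^ 1 := by rw [pow_one]
  rw [e, pow_eq_pow_iff_modEq, h.ord]

theorem IsCfg.branchA (h : IsCfg 2 n u) (hn : 2 ≤ n)
    (hna : ∃ g, g ∉ zpowers u)
    (hall : ∀ g, g ∉ zpowers u → ∀ k : ℕ, g * u * g⁻¹ = u ^ k → k % 4 = 3) :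
    Nat.card G = 2 ^ (n + 1) ∧ ((∃ m : ℕ, Nonempty (G ≃* DihedralGroup m)) ∨
      (∃ m : ℕ, Nonempty (G ≃* QuaternionGroup m)) ∨ Cfsg.IsQuasiDihedral G) := by
  have hF : Fact (Nat.Prime 2) := ⟨Nat.prime_two⟩
  have hn1 : 1 ≤ n := by omega
  obtain ⟨g, hgU⟩ := hna
  obtain ⟨k, hk⟩ := h.exists_acts g
  have hk3 := hall g hgU k hk
  -- index two
  have hidx : (zpowers u).index = 2 := by
    rw [index_eq_two_iff]
    refine ⟨g, fun b => ?_⟩
    by_cases hb : b ∈ zpowers u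
    · right
      refine ⟨hb, fun hbg => hgU ?_⟩
      have e : g = b⁻¹ * (b * g) := by group
      rw [e]
      exact (zpowers u).mul_mem ((zpowers u).inv_mem hb) hbg
    · left
      refine ⟨?_, hb⟩
      by_contra hbg
      obtain ⟨kb, hkb⟩ := h.exists_acts b
      have h1 := hall b hb kb hkb
      have h2 := hall (b * g) hbg (kb * k) (acts_mul hkb hk)
      rw [Nat.mul_mod, h1, hk3] at h2
      norm_num at h2
  have hcard : Nat.card G = 2 ^ (n + 1) := by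
    rw [← card_mul_index (zpowers u), hidx, Nat.card_zpowers, h.ord, pow_succ]
  refine ⟨hcard, ?_⟩
  -- g * g ∈ U
  have hggU : g * g ∈ zpowers u := by
    by_contra hcon
    have h2 := hall (g * g) hcon (k * k) (acts_mul hk hk)
    rw [Nat.mul_mod, hk3] at h2
    norm_num at h2
  have hk2 : 2 ^ n ∣ k ^ 2 - 1 := by
    have h1 := (h.mem_iff_acts_modEq (acts_mul hk hk)).mp hggU
    rw [← pow_two] at h1
    have hle : 1 ≤ k ^ 2 := Nat.one_le_pow _ _ (by omega)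
    exact (Nat.modEq_iff_dvd' hle).mp h1.symm
  obtain ⟨t, ht⟩ := nt_sq hk3 hk2 hn1
  have hzz2 : (u ^ 2 ^ (n - 1)) ^ 2 = 1 := zz_pow_p (p := 2) h.ord hn1
  have hpow2n : u ^ 2 ^ n = 1 := by rw [← h.ord]; exact pow_orderOf_eq_one u
  have hsplit : 2 ^ n = 2 ^ (n - 1) * 2 := by
    rw [← pow_succ, show n - 1 + 1 = n by omega]
  -- the square of g lies in Z once it squares to one
  have hsq_cases : (g * g) ^ 2 = 1 → g * g = 1 ∨ g * g = u ^ 2 ^ (n - 1) := fun hq =>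
    zz_cases_two h.ord hn1 (mem_zpowers_zz_of_pow_eq_one (p := 2) h.ord hn1 hggU hq)
  obtain ⟨i, hi⟩ := (mem_zpowers_iff_exists_pow u _).mp hggU
  have hcommq : g * (g * g) * g⁻¹ = g * g := by group
  rcases Nat.even_or_odd t with ⟨s, hs⟩ | ⟨s, hs⟩
  · -- g inverts u
    have hinv : g * u * g⁻¹ = u⁻¹ := by
      rw [hk]
      apply eq_inv_of_mul_eq_one_left
      rw [← pow_succ, ht, hs, ← two_mul, ← mul_assoc, mul_comm (2 ^ (n - 1)) 2,
        ← pow_succ', show n - 1 + 1 = n by omega, pow_mul, hpow2n, one_pow]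
    have hq2 : (g * g) ^ 2 = 1 := by
      have h1 : g * u ^ i * g⁻¹ = (u ^ i)⁻¹ := by
        rw [← conj_pow, hinv, inv_pow]
      rw [← hi, hcommq] at h1
      rw [pow_two]
      exact mul_eq_one_iff_eq_inv.mpr h1
    rcases hsq_cases hq2 with hq | hq
    · left
      have hne : NeZero (2 ^ n) := ⟨pow_ne_zero _ (by norm_num)⟩
      have hginv : g⁻¹ = g := inv_eq_of_mul_eq_one_left hq
      refine ⟨2 ^ n, Cfsg.Agent.Lead.nonempty_mulEquiv_dihedral (2 ^ n) u g h.ord hq ?_ hgU ?_⟩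
      · rw [← hinv, hginv]
      · rw [hcard, pow_succ, mul_comm]
    · right; left
      refine ⟨2 ^ (n - 1), Cfsg.Agent.Helper2.nonempty_mulEquiv_quaternion (2 ^ (n - 1)) ?_ u g
        ?_ hq hinv ?_⟩
      · calc 2 = 2 ^ 1 := (pow_one 2).symm
          _ ≤ 2 ^ (n - 1) := Nat.pow_le_pow_right (by norm_num) (by omega)
      · rw [h.ord, hsplit, mul_comm]
      · rw [hcard, pow_succ, hsplit]; ring
  · -- the semidihedral action
    have hn3 : 3 ≤ n := by
      by_contra hcon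
      have hn2 : n = 2 := by omega
      subst hn2
      norm_num at ht
      omega
    have hzzc : Commute (u ^ 2 ^ (n - 1)) u := (Commute.refl u).pow_left _
    have hsd : g * u * g⁻¹ = u ^ 2 ^ (n - 1) * u⁻¹ := by
      rw [hk]
      apply eq_mul_inv_of_mul_eq
      rw [← pow_succ, ht, hs, mul_add, mul_one, pow_add, ← mul_assoc, mul_comm (2 ^ (n - 1)) 2,
        ← pow_succ', show n - 1 + 1 = n by omega, pow_mul, hpow2n, one_pow, one_mul]
    have hsd' : g * u * g⁻¹ = u ^ (2 ^ (n - 1) - 1) := by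
      rw [hsd]
      apply mul_inv_eq_of_eq_mul
      rw [← pow_succ, Nat.sub_add_cancel (Nat.one_le_two_pow)]
    have hq2 : (g * g) ^ 2 = 1 := by
      have h1 : g * u ^ i * g⁻¹ = (u ^ 2 ^ (n - 1)) ^ i * (u ^ i)⁻¹ := by
        rw [← conj_pow, hsd, hzzc.inv_right.mul_pow, inv_pow]
      rw [← hi, hcommq] at h1
      -- (g*g)^2 = zz^i
      have h2 : (g * g) ^ 2 = (u ^ 2 ^ (n - 1)) ^ i := by
        rw [pow_two]
        exact (eq_mul_inv_iff_mul_eq.mp h1)
      rcases Nat.even_or_odd i with ⟨j, hj⟩ | ⟨j, hj⟩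
      · rw [h2, hj, ← two_mul, pow_mul, hzz2, one_pow]
      · exfalso
        rw [hi, ← pow_mul, ← pow_mul, pow_eq_pow_iff_modEq, h.ord] at h2
        obtain ⟨n', rfl⟩ : ∃ n', n = n' + 3 := ⟨n - 3, by omega⟩
        have h3 : i * 2 ≡ 2 ^ (n' + 3 - 1) * i [MOD 4] :=
          h2.of_dvd ⟨2 ^ (n' + 1), by rw [pow_succ, pow_succ]; ring⟩
        rw [show n' + 3 - 1 = n' + 2 by omega, pow_succ, pow_succ] at h3
        have h4 : (i * 2) % 4 = (2 ^ n' * 2 * 2 * i) % 4 := h3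
        have h5 : (2 ^ n' * 2 * 2 * i) % 4 = 0 := by
          rw [show 2 ^ n' * 2 * 2 * i = 4 * (2 ^ n' * i) by ring]
          exact Nat.mul_mod_right 4 _
        omega
    have hord_two : ∀ y : G, y * y = 1 → y ≠ 1 → orderOf y = 2 := by
      intro y hy hy1
      exact orderOf_eq_prime (by rw [pow_two]; exact hy) hy1
    right; right
    rcases hsq_cases hq2 with hq | hq
    · refine ⟨n, hn3, hcard, u, g, h.ord, hord_two g hq ?_, hsd'⟩
      rintro rfl
      exact hgU (one_mem _)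
    · refine ⟨n, hn3, hcard, u, g * u, h.ord, hord_two (g * u) ?_ ?_, ?_⟩
      · have e : g * u * (g * u) = (g * u * g⁻¹) * (g * g) * u := by group
        rw [e, hsd, hq]
        have hc2 : u⁻¹ * u ^ 2 ^ (n - 1) = u ^ 2 ^ (n - 1) * u⁻¹ := hzzc.inv_right.symm.eq
        calc u ^ 2 ^ (n - 1) * u⁻¹ * u ^ 2 ^ (n - 1) * u
            = u ^ 2 ^ (n - 1) * (u⁻¹ * u ^ 2 ^ (n - 1)) * u := by group
          _ = u ^ 2 ^ (n - 1) * (u ^ 2 ^ (n - 1) * u⁻¹) * u := by rw [hc2]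
          _ = (u ^ 2 ^ (n - 1)) ^ 2 := by rw [pow_two]; group
          _ = 1 := hzz2
      · intro h1
        apply hgU
        have e : g = (g * u) * u⁻¹ := by group
        rw [e, h1, one_mul]
        exact (zpowers u).inv_mem (mem_zpowers u)
      · rw [← hsd']
        group

end BranchA

/-! ### The main theorem -/

theorem IsCfg.exists_mem_MM [Finite G] {p n : ℕ} [hp : Fact p.Prime] {u : G} (h : IsCfg p n u)
    (hn : 1 ≤ n) {g : G} {k : ℕ} (hk : g * u * g⁻¹ = u ^ k) (hk1 : 1 ≤ k) {s : ℕ}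
    (h1 : p ^ (n - 1) ∣ k ^ p ^ s - 1) (h2 : ¬ p ^ n ∣ k ^ p ^ s - 1) :
    ∃ g₀ ∈ MM p u, g₀ ∉ zpowers u := by
  have hK1 : 1 ≤ k ^ p ^ s := Nat.one_le_pow _ _ hk1
  refine ⟨g ^ p ^ s, ?_, ?_⟩
  · rw [mem_MM_iff, conj_pow_eq (acts_pow hk (p ^ s)), pow_eq_pow_iff_modEq, h.ord]
    obtain ⟨m, hm⟩ := h1
    have e : k ^ p ^ s = 1 + p ^ (n - 1) * m := by omega
    rw [e]
    have e2 : (1 + p ^ (n - 1) * m) * p = p + p ^ n * m := by
      have : p ^ n = p ^ (n - 1) * p := by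
        rw [← pow_succ, show n - 1 + 1 = n by omega]
      rw [this]; ring
    rw [e2]
    exact (Nat.modEq_iff_dvd' (Nat.le_add_right _ _)).mpr
      (by rw [Nat.add_sub_cancel_left]; exact dvd_mul_right _ _) |>.symm
  · rw [h.mem_iff_acts_modEq (acts_pow hk (p ^ s))]
    intro hc
    exact h2 ((Nat.modEq_iff_dvd' hK1).mp hc.symm)

/-- Let G be a finite non-abelian p-group with a cyclic normal subgroup U of order p^n such that C_G(U) = U. Then either p = 2 and G is dihedral, generalized quaternion or semidihedral of order 2^(n+1); or, writing U₁ for the subgroup generated by the p-th powers of elements of U and M = C_G(U₁), the subgroup U has index p in M and the subgroup Ω₁(M) generated by the elements of M of order dividing p is elementary abelian of order p² and characteristic in G. -/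
theorem result {G : Type*} [Group G] [Finite G] {p : ℕ} [Fact p.Prime] (hG : IsPGroup p G) (hna : ¬ IsMulCommutative G) (U : Subgroup G) [U.Normal] (hU : IsCyclic U) (n : ℕ) (hUn : Nat.card U = p ^ n) (hC : Subgroup.centralizer (U : Set G) = U) : (p = 2 ∧ Nat.card G = 2 ^ (n + 1) ∧ ((∃ m : ℕ, Nonempty (G ≃* DihedralGroup m)) ∨ (∃ m : ℕ, Nonempty (G ≃* QuaternionGroup m)) ∨ Cfsg.IsQuasiDihedral G)) ∨ (U.relIndex (Subgroup.centralizer (Cfsg.powerClosure p 1 U : Set G)) = p ∧ Cfsg.IsElementaryAbelian p (Cfsg.omegaOne p (Subgroup.centralizer (Cfsg.powerClosure p 1 U : Set G))) ∧ Nat.card ↥(Cfsg.omegaOne p (Subgroup.centralizer (Cfsg.powerClosure p 1 U : Set G))) = p ^ 2 ∧ (Cfsg.omegaOne p (Subgroup.centralizer (Cfsg.powerClosure p 1 U : Set G))).Characteristic) := by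
  have hp : p.Prime := Fact.out
  obtain ⟨⟨u, huU⟩, hgen⟩ := hU.exists_generator
  have hUu : U = zpowers u := by
    apply le_antisymm
    · intro x hx
      obtain ⟨i, hi⟩ := mem_zpowers_iff.mp (hgen ⟨x, hx⟩)
      have := congrArg Subtype.val hi
      rw [Subgroup.coe_zpow] at this
      have e : u ^ i = x := this
      rw [← e]
      exact Subgroup.zpow_mem _ (mem_zpowers u) i
    · exact zpowers_le.mpr huU
  subst hUu
  have h : IsCfg p n u := ⟨by rw [← Nat.card_zpowers]; exact hUn, inferInstance, hC⟩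
  have hex : ∃ g, g ∉ zpowers u := by
    by_contra hcon
    push Not at hcon
    apply hna
    constructor
    constructor
    intro a b
    obtain ⟨i, rfl⟩ := mem_zpowers_iff.mp (hcon a)
    obtain ⟨j, rfl⟩ := mem_zpowers_iff.mp (hcon b)
    exact ((Commute.refl u).zpow_zpow i j).eq
  obtain ⟨g, hgU⟩ := hex
  obtain ⟨k, hk⟩ := h.exists_acts g
  have hn1 : 1 ≤ n := by
    by_contra hcon
    have hn0 : n = 0 := by omega
    have hu1 : u = 1 := by
      have := h.ord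
      rw [hn0, pow_zero, orderOf_eq_one_iff] at this
      exact this
    apply hgU
    rw [h.mem_iff_commute, hu1]
    group
  have hk0 := h.acts_ne_zero hn1 hk
  have hkmod := h.acts_modEq hG hn1 hk
  have hknot : ¬ k ≡ 1 [MOD p ^ n] := fun hcon => hgU ((h.mem_iff_acts_modEq hk).mpr hcon)
  have hk2 : 2 ≤ k := by
    by_contra hcon
    have : k = 1 := by omega
    rw [this] at hknot
    exact hknot rfl
  have hdvd1 : p ∣ k - 1 := (Nat.modEq_iff_dvd' (by omega)).mp hkmod.symm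
  have hndvd : ¬ p ^ n ∣ k - 1 := fun hd => hknot ((Nat.modEq_iff_dvd' (by omega)).mpr hd).symm
  by_cases hp2 : p = 2
  · subst hp2
    by_cases hB : 3 ≤ n ∧ ∃ g₀ ∈ MM 2 u, g₀ ∉ zpowers u
    · obtain ⟨hn3, g₀, hg₀, hg₀U⟩ := hB
      right
      exact h.branchB hG hn1 (Or.inr hn3) hg₀ hg₀U
    · left
      have hn2 : 2 ≤ n := by
        by_contra hcon
        have : n = 1 := by omega
        apply hknot
        rw [this, pow_one]
        exact hkmod
      refine ⟨rfl, h.branchA hn2 ⟨g, hgU⟩ ?_⟩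
      intro g' hg'U k' hk'
      have hk'mod := h.acts_modEq hG hn1 hk'
      have hk'odd : k' % 2 = 1 := hk'mod
      have hk'not : ¬ k' ≡ 1 [MOD 2 ^ n] :=
        fun hcon => hg'U ((h.mem_iff_acts_modEq hk').mpr hcon)
      by_contra h3
      have hk'1 : k' % 4 = 1 := by omega
      have hk'2 : 2 ≤ k' := by
        by_contra hcon
        have : k' = 1 := by omega
        rw [this] at hk'not
        exact hk'not rfl
      have h4 : 4 ∣ k' - 1 := by omega
      have hnd : ¬ 2 ^ n ∣ k' - 1 :=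
        fun hd => hk'not ((Nat.modEq_iff_dvd' (by omega)).mpr hd).symm
      by_cases hn3 : 3 ≤ n
      · obtain ⟨s, hs1, hs2⟩ := nt_two hk'2 h4 hnd
        exact hB ⟨hn3, h.exists_mem_MM hn1 hk' (by omega) hs1 hs2⟩
      · have hn2' : n = 2 := by omega
        apply hnd
        rw [hn2']
        exact h4
  · right
    have hodd : Odd p := hp.odd_of_ne_two hp2
    obtain ⟨s, hs1, hs2⟩ := nt_odd hodd hk2 hdvd1 hndvd
    obtain ⟨g₀, hg₀, hg₀U⟩ := h.exists_mem_MM hn1 hk (by omega) hs1 hs2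
    exact h.branchB hG hn1 (Or.inl hp2) hg₀ hg₀U

end Cfsg.Agent.S3761
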