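import Mathlib
import Cfsg.Statements.S3762
import Cfsg.Agent.S3761
import Cfsg.Agent.Lib.Helper1.Critical
import Cfsg.Agent.Lib.Helper19.SympType

set_option autoImplicit false
open Cfsg
open scoped commutatorElement
open Cfsg.Agent.Helper19.Symp

namespace Cfsg.Agent.S3762

variable {G : Type*} [Group G]

theorem char_of_forall (H : Subgroup G) (h : ∀ φ : G ≃* G, ∀ x ∈ H, φ x ∈ H) :
    H.Characteristic := by
  rw [Subgroup.characteristic_iff_map_le]
  intro φ
  rintro _ ⟨x, hx, rfl⟩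
  exact h φ x hx

theorem char_map_mem {H : Subgroup G} [hH : H.Characteristic] (φ : G ≃* G) {x : G} (hx : x ∈ H) :
    φ x ∈ H := by
  have := (Subgroup.characteristic_iff_map_le.mp hH) φ
  exact this ⟨x, hx, rfl⟩

theorem exists_gen (Z : Subgroup G) (hcyc : IsCyclic ↥Z) : ∃ c ∈ Z, Z = Subgroup.zpowers c := by
  obtain ⟨g, hg⟩ := hcyc.exists_generator
  refine ⟨g.1, g.2, ?_⟩
  ext x
  constructor
  · intro hx
    obtain ⟨k, hk⟩ := Subgroup.mem_zpowers_iff.mp (hg ⟨x, hx⟩)
    rw [Subgroup.mem_zpowers_iff]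
    refine ⟨k, ?_⟩
    have := congrArg Subtype.val hk
    simpa using this
  · intro hx
    exact (Subgroup.zpowers_le.mpr g.2) hx

section cyclic
variable [Finite G] {p : ℕ} [hp : Fact p.Prime]

/-- In a cyclic `p`-group `⟨c⟩` of order `p ^ m`, an element killed by `p ^ (m - 1)` is a `p`-th
power. -/
theorem exists_pow_p_eq {c : G} {m : ℕ} (hord : orderOf c = p ^ m) (hm : 1 ≤ m) {w : G}
    (hw : w ∈ Subgroup.zpowers c) (hwp : w ^ (p ^ (m - 1)) = 1) :
    ∃ v ∈ Subgroup.zpowers c, w = v ^ p := by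
  obtain ⟨i, rfl⟩ := (mem_zpowers_iff_pow c w).mp hw
  rw [← pow_mul, ← orderOf_dvd_iff_pow_eq_one, hord] at hwp
  obtain ⟨m', rfl⟩ : ∃ m', m = m' + 1 := ⟨m - 1, by omega⟩
  rw [Nat.add_sub_cancel, pow_succ, mul_comm i] at hwp
  have h1 : p ∣ i := Nat.dvd_of_mul_dvd_mul_left (pow_pos hp.out.pos m') hwp
  obtain ⟨t, rfl⟩ := h1
  refine ⟨c ^ t, Subgroup.pow_mem _ (Subgroup.mem_zpowers c) t, ?_⟩
  rw [← pow_mul, mul_comm]

/-- A generator of a proper subgroup of a cyclic `p`-group is a `p`-th power. -/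
theorem exists_pow_p_of_proper (hG : IsPGroup p G) {y₀ c : G} (hc : c ∈ Subgroup.zpowers y₀)
    (hne : Subgroup.zpowers c ≠ Subgroup.zpowers y₀) :
    ∃ t ∈ Subgroup.zpowers y₀, c = t ^ p := by
  obtain ⟨k, hk⟩ := (IsPGroup.iff_orderOf.mp hG) y₀
  obtain ⟨j, rfl⟩ := (mem_zpowers_iff_pow y₀ c).mp hc
  by_cases hj : p ∣ j
  · obtain ⟨t, rfl⟩ := hj
    refine ⟨y₀ ^ t, Subgroup.pow_mem _ (Subgroup.mem_zpowers _) t, ?_⟩
    rw [← pow_mul, mul_comm]
  · exfalso
    apply hne
    apply le_antisymm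
    · exact Subgroup.zpowers_le.mpr (Subgroup.pow_mem _ (Subgroup.mem_zpowers _) j)
    · rw [Subgroup.zpowers_le]
      rcases Nat.eq_zero_or_pos k with rfl | hk0
      · rw [pow_zero, orderOf_eq_one_iff] at hk
        rw [hk, one_pow]
        exact Subgroup.one_mem _
      · apply mem_zpowers_pow_of_coprime
        · rw [hk]
          exact Nat.Coprime.pow_right k ((Nat.Prime.coprime_iff_not_dvd hp.out).mpr hj).symm
        · rw [hk]
          exact Nat.one_lt_pow (by omega) hp.out.one_lt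

/-- In a cyclic `p`-group there is at most one subgroup of order `p`. -/
theorem mem_zpowers_of_pow_p_eq_one (hG : IsPGroup p G) {y₀ u b : G}
    (hu : u ∈ Subgroup.zpowers y₀) (hb : b ∈ Subgroup.zpowers y₀) (hu1 : u ≠ 1)
    (hup : u ^ p = 1) (hbp : b ^ p = 1) : b ∈ Subgroup.zpowers u := by
  obtain ⟨k, hk⟩ := (IsPGroup.iff_orderOf.mp hG) y₀
  have hk1 : 1 ≤ k := by
    rcases Nat.eq_zero_or_pos k with rfl | hk0
    · exfalso
      rw [pow_zero, orderOf_eq_one_iff] at hk
      rw [hk, Subgroup.zpowers_one_eq_bot, Subgroup.mem_bot] at hu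
      exact hu1 hu
    · exact hk0
  have h1 := Cfsg.Agent.S3761.mem_zpowers_zz_of_pow_eq_one hk hk1 hu hup
  have h2 := Cfsg.Agent.S3761.mem_zpowers_zz_of_pow_eq_one hk hk1 hb hbp
  have hcard : Nat.card (Subgroup.zpowers (y₀ ^ p ^ (k - 1))) = p := by
    rw [Nat.card_zpowers, Cfsg.Agent.S3761.orderOf_zz hk hk1]
  have h3 : (⟨b, h2⟩ : Subgroup.zpowers (y₀ ^ p ^ (k - 1))) ∈
      Subgroup.zpowers (⟨u, h1⟩ : Subgroup.zpowers (y₀ ^ p ^ (k - 1))) :=
    mem_zpowers_of_prime_card hcard (by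
      intro hc
      exact hu1 (congrArg Subtype.val hc))
  obtain ⟨i, hi⟩ := Subgroup.mem_zpowers_iff.mp h3
  rw [Subgroup.mem_zpowers_iff]
  refine ⟨i, ?_⟩
  have := congrArg Subtype.val hi
  simpa using this

end cyclic

section lemmaK
variable [Finite G] {p : ℕ} [hp : Fact p.Prime]

/-- Lemma K: if `C` is characteristic of class at most two with cyclic centre `⟨c⟩` of order
`p ^ m ≥ p ^ 2` and `C / Z(C)` elementary abelian, then (in a group of symplectic type) the
exponent of `C` divides `p ^ m`. -/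
theorem lemmaK (hG : IsPGroup p G)
    (hsymp : ∀ A : Subgroup G, A.Characteristic → IsMulCommutative A → IsCyclic A)
    (C : Subgroup G) [hCc : C.Characteristic] (c : G) (m : ℕ) (hm : 2 ≤ m)
    (hord : orderOf c = p ^ m)
    (hZ : Subgroup.centralizer (C : Set G) = Subgroup.zpowers c)
    (hZC : Subgroup.zpowers c ≤ C)
    (hpow : ∀ x ∈ C, x ^ p ∈ Subgroup.zpowers c)
    (hcm : ∀ x ∈ C, ∀ y ∈ C, ⁅x, y⁆ ∈ Subgroup.zpowers c) :
    ∀ x ∈ C, x ^ (p ^ m) = 1 := by
  have hm1 : 1 ≤ m := by omega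
  have hZcen : ∀ w ∈ Subgroup.zpowers c, ∀ x ∈ C, w * x = x * w := by
    intro w hw x hx
    rw [← hZ, Subgroup.mem_centralizer_iff] at hw
    exact (hw x hx).symm
  have c2Z : C2 C (Subgroup.zpowers c) := ⟨hZC, hZcen, hcm⟩
  have hZpow : ∀ w ∈ Subgroup.zpowers c, w ^ (p ^ m) = 1 := by
    intro w hw
    obtain ⟨k, rfl⟩ := Subgroup.mem_zpowers_iff.mp hw
    rw [← zpow_natCast, ← zpow_mul, mul_comm, zpow_mul, zpow_natCast, ← hord, pow_orderOf_eq_one,
      one_zpow]
  -- commutators lie in U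
  have hcmU : ∀ x ∈ C, ∀ y ∈ C, ⁅x, y⁆ ∈ Subgroup.zpowers (c ^ p ^ (m - 1)) := by
    intro x hx y hy
    apply Cfsg.Agent.S3761.mem_zpowers_zz_of_pow_eq_one hord hm1 (hcm x hx y hy)
    rw [← c2Z.comm_pow_left hx hy, commutatorElement_eq_one_iff_mul_comm]
    exact hZcen _ (hpow x hx) y hy
  have hUZ : Subgroup.zpowers (c ^ p ^ (m - 1)) ≤ Subgroup.zpowers c :=
    Cfsg.Agent.S3761.zpowers_zz_le
  have c2U : C2 C (Subgroup.zpowers (c ^ p ^ (m - 1))) :=
    ⟨hUZ.trans hZC, fun u hu x hx => hZcen u (hUZ hu) x hx, hcmU⟩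
  have hcardU : Nat.card (Subgroup.zpowers (c ^ p ^ (m - 1))) = p := by
    rw [Nat.card_zpowers, Cfsg.Agent.S3761.orderOf_zz hord hm1]
  have hUp : ∀ u ∈ Subgroup.zpowers (c ^ p ^ (m - 1)), u ^ p = 1 := fun u hu =>
    Cfsg.Agent.S3761.pow_eq_one_of_mem_zpowers_zz hord hm1 hu
  -- multiplicativity of x ↦ x ^ (p ^ m)
  have hpm : p ^ m = p * p ^ (m - 1) := by
    rw [← pow_succ']; congr 1; omega
  have hmul : ∀ x ∈ C, ∀ y ∈ C, (x * y) ^ (p ^ m) = x ^ (p ^ m) * y ^ (p ^ m) := by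
    intro x hx y hy
    have h1 := c2U.mul_pow hx hy p
    have ha := hpow x hx
    have hb := hpow y hy
    have he : ⁅y, x⁆ ^ (p.choose 2) ∈ Subgroup.zpowers (c ^ p ^ (m - 1)) :=
      Subgroup.pow_mem _ (hcmU y hy x hx) _
    have hab : Commute (x ^ p) (y ^ p) := hZcen _ ha _ (C.pow_mem hy p)
    have hce : Commute (x ^ p * y ^ p) (⁅y, x⁆ ^ (p.choose 2)) :=
      (hZcen _ (hUZ he) _ (C.mul_mem (C.pow_mem hx p) (C.pow_mem hy p))).symm
    have he1 : (⁅y, x⁆ ^ (p.choose 2)) ^ (p ^ (m - 1)) = 1 := by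
      have : p ^ (m - 1) = p * p ^ (m - 2) := by
        rw [← pow_succ']; congr 1; omega
      rw [this, pow_mul, hUp _ he, one_pow]
    rw [hpm, pow_mul, h1, hce.mul_pow, hab.mul_pow, he1, mul_one, ← pow_mul, ← pow_mul]
  have hinvp : ∀ x : G, (x⁻¹) ^ (p ^ m) = (x ^ (p ^ m))⁻¹ := fun x => inv_pow x _
  by_contra hcon
  push Not at hcon
  obtain ⟨x₀, hx₀C, hx₀⟩ := hcon
  -- the kernel
  obtain ⟨C₁, hC₁⟩ : ∃ C₁ : Subgroup G, ∀ x, x ∈ C₁ ↔ x ∈ C ∧ x ^ (p ^ m) = 1 := by
    refine ⟨{ carrier := {x | x ∈ C ∧ x ^ (p ^ m) = 1}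
              mul_mem' := ?_
              one_mem' := ⟨C.one_mem, one_pow _⟩
              inv_mem' := ?_ }, fun x => Iff.rfl⟩
    · rintro a b ⟨ha, ha'⟩ ⟨hb, hb'⟩
      exact ⟨C.mul_mem ha hb, by rw [hmul a ha b hb, ha', hb', one_mul]⟩
    · rintro a ⟨ha, ha'⟩
      exact ⟨C.inv_mem ha, by rw [hinvp, ha', inv_one]⟩
  have hC₁C : C₁ ≤ C := fun x hx => ((hC₁ x).mp hx).1
  have hZC₁ : Subgroup.zpowers c ≤ C₁ := fun w hw => (hC₁ w).mpr ⟨hZC hw, hZpow w hw⟩
  have hC₁char : C₁.Characteristic := by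
    apply char_of_forall
    intro φ x hx
    obtain ⟨h1, h2⟩ := (hC₁ x).mp hx
    refine (hC₁ _).mpr ⟨char_map_mem φ h1, ?_⟩
    rw [← map_pow, h2, map_one]
  -- Lemma T
  obtain ⟨y, hyC, hyC₁, x₁, hx₁C, hyx₁⟩ := lemmaT hp.out c2U hcardU C₁ hC₁C
    ⟨x₀, hx₀C, fun h => hx₀ ((hC₁ x₀).mp h).2⟩ (by
      intro w hw hwc
      apply hZC₁
      rw [← hZ, Subgroup.mem_centralizer_iff]
      intro x hx
      exact (hwc x hx).symm)
  -- y lies in C₁
  have hyin : y ∈ C₁ := by
    by_contra hy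
    have hy1 : y ^ (p ^ m) ≠ 1 := fun h => hy ((hC₁ y).mpr ⟨hyC, h⟩)
    have hfU : ∀ x ∈ C, x ^ (p ^ m) ∈ Subgroup.zpowers (c ^ p ^ (m - 1)) := by
      intro x hx
      obtain ⟨i, hi⟩ := Subgroup.mem_zpowers_iff.mp (hpow x hx)
      have hsw : (c ^ i) ^ (p ^ (m - 1)) = (c ^ (p ^ (m - 1))) ^ i := by
        rw [← zpow_natCast (c ^ i), ← zpow_natCast c, ← zpow_mul, ← zpow_mul, mul_comm]
      rw [hpm, pow_mul, ← hi, hsw]
      exact Subgroup.zpow_mem _ (Subgroup.mem_zpowers _) _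
    apply hyx₁
    -- x₁ = k * y ^ j with k ∈ C₁
    have h1 : (⟨x₁ ^ (p ^ m), hfU x₁ hx₁C⟩ : Subgroup.zpowers (c ^ p ^ (m - 1))) ∈
        Subgroup.zpowers (⟨y ^ (p ^ m), hfU y hyC⟩ : Subgroup.zpowers (c ^ p ^ (m - 1))) :=
      mem_zpowers_of_prime_card hcardU (by
        intro hc
        exact hy1 (congrArg Subtype.val hc))
    obtain ⟨j, hj⟩ := (mem_zpowers_iff_pow _ _).mp h1
    have hj' : x₁ ^ (p ^ m) = (y ^ (p ^ m)) ^ j := by
      have := congrArg Subtype.val hj
      simpa using this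
    have hk : x₁ * (y ^ j)⁻¹ ∈ C₁ := by
      refine (hC₁ _).mpr ⟨C.mul_mem hx₁C (C.inv_mem (C.pow_mem hyC j)), ?_⟩
      rw [hmul _ hx₁C _ (C.inv_mem (C.pow_mem hyC j)), hinvp, hj', ← pow_mul, ← pow_mul,
        mul_comm j, mul_inv_cancel]
    have h2 : Commute y (x₁ * (y ^ j)⁻¹) := hyC₁ _ hk
    have h3 : Commute y (y ^ j) := (Commute.refl y).pow_right j
    have h4 : Commute y (x₁ * (y ^ j)⁻¹ * y ^ j) := h2.mul_right h3
    rw [inv_mul_cancel_right] at h4
    exact h4.eq
  -- the centre of C₁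
  have hYchar : (C₁ ⊓ Subgroup.centralizer (C₁ : Set G)).Characteristic := inferInstance
  have hYcomm : IsMulCommutative (C₁ ⊓ Subgroup.centralizer (C₁ : Set G) : Subgroup G) := by
    rw [isMulCommutative_iff]
    intro a b
    apply Subtype.ext
    have ha := (Subgroup.mem_inf.mp a.2).2
    rw [Subgroup.mem_centralizer_iff] at ha
    exact (ha b (Subgroup.mem_inf.mp b.2).1).symm
  obtain ⟨y₀, hy₀, hY⟩ := exists_gen _ (hsymp _ hYchar hYcomm)
  have hcY : c ∈ Subgroup.zpowers y₀ := by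
    rw [← hY]
    refine Subgroup.mem_inf.mpr ⟨hZC₁ (Subgroup.mem_zpowers c), ?_⟩
    rw [Subgroup.mem_centralizer_iff]
    intro x hx
    exact (hZcen c (Subgroup.mem_zpowers c) x (hC₁C hx)).symm
  have hyY : y ∈ Subgroup.zpowers y₀ := by
    rw [← hY]
    refine Subgroup.mem_inf.mpr ⟨hyin, ?_⟩
    rw [Subgroup.mem_centralizer_iff]
    intro x hx
    exact (hyC₁ x hx).symm
  have hne : Subgroup.zpowers c ≠ Subgroup.zpowers y₀ := by
    intro h
    rw [← h] at hyY
    exact hyx₁ (hZcen y hyY x₁ hx₁C)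
  obtain ⟨t, ht, hct⟩ := exists_pow_p_of_proper hG hcY hne
  have htC₁ : t ∈ C₁ := by
    rw [← hY] at ht
    exact (Subgroup.mem_inf.mp ht).1
  have ht1 := ((hC₁ t).mp htC₁).2
  have : c ^ (p ^ (m - 1)) = 1 := by
    rw [hct, ← pow_mul, ← hpm, ht1]
  have h1 := orderOf_dvd_of_pow_eq_one this
  rw [hord] at h1
  have h2 := Nat.pow_dvd_pow_iff_le_right hp.out.one_lt |>.mp h1
  omega

end lemmaK

section construction
variable [Finite G] {p : ℕ} [hp : Fact p.Prime]

omit [Finite G] in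
theorem le_normalizer_of_comm {C E : Subgroup G} (h : ∀ g ∈ C, ∀ e ∈ E, ⁅g, e⁆ ∈ E) :
    C ≤ Subgroup.normalizer (E : Set G) := by
  intro g hg
  rw [Subgroup.mem_normalizer_iff]
  intro e
  constructor
  · intro he
    have h1 : g * e * g⁻¹ = ⁅g, e⁆ * e := by rw [commutatorElement_def]; group
    rw [h1]
    exact E.mul_mem (h g hg e he) he
  · intro he
    have h1 : e = ⁅g⁻¹, g * e * g⁻¹⁆ * (g * e * g⁻¹) := by rw [commutatorElement_def]; group
    rw [h1]
    exact E.mul_mem (h _ (C.inv_mem hg) _ he) he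

/-- Construction of the extraspecial factor `E` of `C`. -/
theorem exists_E (C : Subgroup G) [hCc : C.Characteristic] (c : G) (m : ℕ) (hm1 : 1 ≤ m)
    (hord : orderOf c = p ^ m)
    (hZ : Subgroup.centralizer (C : Set G) = Subgroup.zpowers c)
    (hZC : Subgroup.zpowers c ≤ C)
    (hpow : ∀ x ∈ C, x ^ p ∈ Subgroup.zpowers c)
    (hcmU : ∀ x ∈ C, ∀ y ∈ C, ⁅x, y⁆ ∈ Subgroup.zpowers (c ^ p ^ (m - 1)))
    (hexp : m = 1 ∨ ∀ x ∈ C, x ^ (p ^ m) = 1) :
    ∃ E : Subgroup G, E ≤ C ∧ Subgroup.zpowers (c ^ p ^ (m - 1)) ≤ E ∧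
      E ⊓ Subgroup.zpowers c ≤ Subgroup.zpowers (c ^ p ^ (m - 1)) ∧
      ∀ x ∈ C, ∃ e ∈ E, ∃ w ∈ Subgroup.zpowers c, x = e * w := by
  have hUZ : Subgroup.zpowers (c ^ p ^ (m - 1)) ≤ Subgroup.zpowers c :=
    Cfsg.Agent.S3761.zpowers_zz_le
  rcases hexp with rfl | hexp
  · refine ⟨C, le_rfl, hUZ.trans hZC, ?_, fun x hx => ⟨x, hx, 1, Subgroup.one_mem _, (mul_one x).symm⟩⟩
    simp only [Nat.sub_self, pow_zero, pow_one]
    exact inf_le_right
  have hZcen : ∀ w ∈ Subgroup.zpowers c, ∀ x ∈ C, w * x = x * w := by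
    intro w hw x hx
    rw [← hZ, Subgroup.mem_centralizer_iff] at hw
    exact (hw x hx).symm
  have hZn : (Subgroup.zpowers c).Normal := by
    rw [← hZ]; infer_instance
  -- maximal member of the family
  have hfin : {E : Subgroup G | Subgroup.zpowers (c ^ p ^ (m - 1)) ≤ E ∧ E ≤ C ∧
      E ⊓ Subgroup.zpowers c ≤ Subgroup.zpowers (c ^ p ^ (m - 1))}.Finite := Set.toFinite _
  obtain ⟨E, ⟨hUE, hEC, hEZ⟩, hEmax⟩ := hfin.exists_maximal
    ⟨Subgroup.zpowers (c ^ p ^ (m - 1)), le_rfl, hUZ.trans hZC, inf_le_left⟩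
  refine ⟨E, hEC, hUE, hEZ, ?_⟩
  have hsup : C ≤ E ⊔ Subgroup.zpowers c := by
    by_contra hcon
    obtain ⟨x, hxC, hx⟩ : ∃ x ∈ C, x ∉ E ⊔ Subgroup.zpowers c := by
      by_contra h
      push Not at h
      exact hcon h
    -- adjust x
    have h1 : (x ^ p) ^ (p ^ (m - 1)) = 1 := by
      rw [← pow_mul, ← pow_succ']
      have : m - 1 + 1 = m := by omega
      rw [this]
      exact hexp x hxC
    obtain ⟨v, hv, hxv⟩ := exists_pow_p_eq hord hm1 (hpow x hxC) h1
    have hvC : v ∈ C := hZC hv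
    have hx'C : x * v⁻¹ ∈ C := C.mul_mem hxC (C.inv_mem hvC)
    have hx'p : (x * v⁻¹) ^ p = 1 := by
      have hc0 : Commute x v := (hZcen v hv x hxC).symm
      have hc : Commute x v⁻¹ := hc0.inv_right
      rw [hc.mul_pow, hxv, inv_pow, mul_inv_cancel]
    have hx' : x * v⁻¹ ∉ E ⊔ Subgroup.zpowers c := by
      intro h
      apply hx
      have := Subgroup.mul_mem _ h (Subgroup.mem_sup_right hv : v ∈ E ⊔ Subgroup.zpowers c)
      rwa [inv_mul_cancel_right] at this
    have hx'1 : x * v⁻¹ ≠ 1 := by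
      intro h
      rw [h] at hx'
      exact hx' (Subgroup.one_mem _)
    have hx'ord : orderOf (x * v⁻¹) = p := orderOf_eq_prime hx'p hx'1
    -- the enlarged subgroup
    have hnorm : Subgroup.zpowers (x * v⁻¹) ≤ Subgroup.normalizer (E : Set G) := by
      rw [Subgroup.zpowers_le]
      exact le_normalizer_of_comm (C := C) (fun g hg e he => hUE (hcmU g hg e (hEC he))) hx'C
    have hE₁ : E ⊔ Subgroup.zpowers (x * v⁻¹) ≤ E := by
      apply hEmax ⟨le_sup_of_le_left hUE, sup_le hEC (Subgroup.zpowers_le.mpr hx'C), ?_⟩ le_sup_left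
      intro g hg
      obtain ⟨hg1, hg2⟩ := Subgroup.mem_inf.mp hg
      have hg1' : g ∈ ((E ⊔ Subgroup.zpowers (x * v⁻¹) : Subgroup G) : Set G) := hg1
      rw [Subgroup.coe_mul_of_right_le_normalizer_left _ _ hnorm, Set.mem_mul] at hg1'
      obtain ⟨e, he, y, hy, rfl⟩ := hg1'
      by_cases hy1 : y = 1
      · rw [hy1, mul_one] at hg2 ⊢
        exact hEZ (Subgroup.mem_inf.mpr ⟨he, hg2⟩)
      · exfalso
        have hcard : Nat.card (Subgroup.zpowers (x * v⁻¹)) = p := by
          rw [Nat.card_zpowers, hx'ord]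
        have h2 : (⟨x * v⁻¹, Subgroup.mem_zpowers _⟩ : Subgroup.zpowers (x * v⁻¹)) ∈
            Subgroup.zpowers (⟨y, hy⟩ : Subgroup.zpowers (x * v⁻¹)) :=
          mem_zpowers_of_prime_card hcard (by
            intro hc
            exact hy1 (congrArg Subtype.val hc))
        obtain ⟨k, hk⟩ := Subgroup.mem_zpowers_iff.mp h2
        have hk' : y ^ k = x * v⁻¹ := by
          have := congrArg Subtype.val hk
          simpa using this
        apply hx'
        rw [← hk']
        apply Subgroup.zpow_mem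
        have h3 : y = e⁻¹ * (e * y) := by group
        rw [h3]
        exact Subgroup.mul_mem _ (Subgroup.inv_mem _ (Subgroup.mem_sup_left he))
          (Subgroup.mem_sup_right hg2)
    exact hx' (Subgroup.mem_sup_left (hE₁ (Subgroup.mem_sup_right (Subgroup.mem_zpowers _))))
  intro x hx
  have h1 : x ∈ ((E ⊔ Subgroup.zpowers c : Subgroup G) : Set G) := hsup hx
  rw [Subgroup.mul_normal, Set.mem_mul] at h1
  obtain ⟨e, he, w, hw, rfl⟩ := h1
  exact ⟨e, he, w, hw, rfl⟩

/-- All commutators `[E, G]` lie in `U`. -/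
theorem comm_mem_U (C E : Subgroup G) (c : G) (m : ℕ) (hm1 : 1 ≤ m)
    (hord : orderOf c = p ^ m)
    (hZcen : ∀ w ∈ Subgroup.zpowers c, ∀ x ∈ C, w * x = x * w)
    (hPC : ∀ x ∈ C, ∀ g : G, ⁅x, g⁆ ∈ Subgroup.zpowers c)
    (hEC : E ≤ C) (hEpow : ∀ e ∈ E, e ^ p ∈ Subgroup.zpowers (c ^ p ^ (m - 1)))
    (hUc : ∀ g : G, c ^ p ^ (m - 1) * g = g * c ^ p ^ (m - 1)) :
    ∀ e ∈ E, ∀ g : G, ⁅e, g⁆ ∈ Subgroup.zpowers (c ^ p ^ (m - 1)) := by
  intro e he g
  have hw := hPC e (hEC he) g
  apply Cfsg.Agent.S3761.mem_zpowers_zz_of_pow_eq_one hord hm1 hw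
  have hUcen : ∀ u ∈ Subgroup.zpowers (c ^ p ^ (m - 1)), ∀ g : G, u * g = g * u := by
    intro u hu g
    obtain ⟨k, rfl⟩ := Subgroup.mem_zpowers_iff.mp hu
    exact ((show Commute (c ^ p ^ (m - 1)) g from hUc g).zpow_left k).eq
  have h1 : g * e⁻¹ * g⁻¹ = e⁻¹ * ⁅e, g⁆ := by rw [commutatorElement_def]; group
  have h2 : (g * e⁻¹ * g⁻¹) ^ p = (e⁻¹) ^ p := by
    rw [conj_pow]
    have h3 : (e⁻¹) ^ p ∈ Subgroup.zpowers (c ^ p ^ (m - 1)) := by
      rw [inv_pow]; exact Subgroup.inv_mem _ (hEpow e he)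
    rw [← hUcen _ h3 g, mul_inv_cancel_right]
  have hc0 : Commute ⁅e, g⁆ e := hZcen _ hw e (hEC he)
  have hc : Commute e⁻¹ ⁅e, g⁆ := hc0.symm.inv_left
  rw [h1, hc.mul_pow] at h2
  exact mul_left_cancel (h2.trans (mul_one _).symm)

end construction

section wrapper

/-- Wrapper around `S3761`: a nonabelian `p`-group with a self-centralizing cyclic normal
subgroup `⟨c⟩` of order `p ^ m`. -/
theorem W {G' : Type*} [Group G'] [Finite G'] {p : ℕ} [hp : Fact p.Prime] (hG : IsPGroup p G')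
    (hna : ∃ a b : G', a * b ≠ b * a) (c : G') (m : ℕ) (hord : orderOf c = p ^ m)
    (hn : (Subgroup.zpowers c).Normal)
    (hself : ∀ r : G', r * c = c * r → r ∈ Subgroup.zpowers c) :
    (p = 2 ∧ Nat.card G' = 2 ^ (m + 1) ∧ ((∃ k : ℕ, Nonempty (G' ≃* DihedralGroup k)) ∨
      (∃ k : ℕ, Nonempty (G' ≃* QuaternionGroup k)) ∨ Cfsg.IsQuasiDihedral G')) ∨
    (∃ b : G', b ∉ Subgroup.zpowers c ∧ b ^ p = 1 ∧ b * c ^ p = c ^ p * b ∧
      Nat.card (Subgroup.centralizer ({c ^ p} : Set G')) = p ^ (m + 1) ∧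
      ∀ n : G', n * c ^ p = c ^ p * n → ∃ w ∈ Subgroup.zpowers c, ∃ i : ℕ, n = w * b ^ i) := by
  have := hn
  have hm1 : 1 ≤ m := by
    rcases Nat.eq_zero_or_pos m with rfl | h
    · exfalso
      rw [pow_zero, orderOf_eq_one_iff] at hord
      obtain ⟨a, b, hab⟩ := hna
      have ha : a ∈ Subgroup.zpowers c := hself a (by rw [hord]; simp)
      have hb : b ∈ Subgroup.zpowers c := hself b (by rw [hord]; simp)
      rw [hord, Subgroup.zpowers_one_eq_bot, Subgroup.mem_bot] at ha hb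
      rw [ha, hb] at hab
      exact hab rfl
    · exact h
  have hcent : Subgroup.centralizer (Subgroup.zpowers c : Set G') = Subgroup.zpowers c := by
    ext r
    constructor
    · intro hr
      rw [Subgroup.mem_centralizer_iff] at hr
      exact hself r (hr c (Subgroup.mem_zpowers c)).symm
    · intro hr
      rw [Subgroup.mem_centralizer_iff]
      intro h hh
      obtain ⟨i, rfl⟩ := Subgroup.mem_zpowers_iff.mp hh
      obtain ⟨j, rfl⟩ := Subgroup.mem_zpowers_iff.mp hr
      rw [← zpow_add, ← zpow_add, add_comm]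
  have hna' : ¬ IsMulCommutative G' := by
    intro h
    obtain ⟨a, b, hab⟩ := hna
    exact hab (isMulCommutative_iff.mp h a b)
  have hcardZ : Nat.card (Subgroup.zpowers c) = p ^ m := by rw [Nat.card_zpowers, hord]
  rcases Cfsg.Agent.S3761.result hG hna' (Subgroup.zpowers c) inferInstance m hcardZ hcent with
    h | ⟨hrel, hEA, hcardB, -⟩
  · exact Or.inl h
  right
  have hmemN : ∀ g : G', g ∈ Subgroup.centralizer
      (Cfsg.powerClosure p 1 (Subgroup.zpowers c) : Set G') ↔ g * c ^ p = c ^ p * g := by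
    intro g
    rw [Cfsg.Agent.S3761.mem_centralizer_powerClosure_iff, mul_inv_eq_iff_eq_mul]
  have hNeq : Subgroup.centralizer (Cfsg.powerClosure p 1 (Subgroup.zpowers c) : Set G') =
      Subgroup.centralizer ({c ^ p} : Set G') := by
    ext g
    rw [hmemN, Subgroup.mem_centralizer_iff]
    constructor
    · intro h x hx
      rw [Set.mem_singleton_iff] at hx
      rw [hx]; exact h.symm
    · intro h
      exact (h _ rfl).symm
  have hZN : Subgroup.zpowers c ≤ Subgroup.centralizer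
      (Cfsg.powerClosure p 1 (Subgroup.zpowers c) : Set G') := by
    rw [Subgroup.zpowers_le, hmemN, ← pow_succ', ← pow_succ]
  have hcardN : Nat.card (Subgroup.centralizer
      (Cfsg.powerClosure p 1 (Subgroup.zpowers c) : Set G')) = p ^ (m + 1) := by
    have := Subgroup.relIndex_mul_relIndex (⊥ : Subgroup G') _ _ bot_le hZN
    rw [Subgroup.relIndex_bot_left, Subgroup.relIndex_bot_left, hrel, hcardZ] at this
    rw [← this, pow_succ]
  -- an element of order p outside ⟨c⟩
  obtain ⟨b, hbN, hbp, hbZ⟩ : ∃ b ∈ Subgroup.centralizer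
      (Cfsg.powerClosure p 1 (Subgroup.zpowers c) : Set G'), b ^ p = 1 ∧
      b ∉ Subgroup.zpowers c := by
    by_contra hcon
    push Not at hcon
    have hle : Cfsg.omegaOne p (Subgroup.centralizer
        (Cfsg.powerClosure p 1 (Subgroup.zpowers c) : Set G')) ≤
        Subgroup.zpowers (c ^ p ^ (m - 1)) := by
      unfold Cfsg.omegaOne
      rw [Subgroup.closure_le]
      rintro x ⟨hx1, hx2⟩
      exact Cfsg.Agent.S3761.mem_zpowers_zz_of_pow_eq_one hord hm1 (hcon x hx1 hx2) hx2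
    have h1 := Subgroup.card_le_of_le hle
    rw [hcardB, Nat.card_zpowers, Cfsg.Agent.S3761.orderOf_zz hord hm1] at h1
    have : p < p ^ 2 := by
      calc p = p ^ 1 := (pow_one p).symm
        _ < p ^ 2 := Nat.pow_lt_pow_right hp.out.one_lt (by norm_num)
    omega
  have hbc : b * c ^ p = c ^ p * b := (hmemN b).mp hbN
  refine ⟨b, hbZ, hbp, hbc, by rw [← hNeq, hcardN], ?_⟩
  -- decomposition
  have hsup_le : Subgroup.zpowers c ⊔ Subgroup.zpowers b ≤ Subgroup.centralizer
      (Cfsg.powerClosure p 1 (Subgroup.zpowers c) : Set G') :=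
    sup_le hZN (Subgroup.zpowers_le.mpr hbN)
  have hlt : Subgroup.zpowers c < Subgroup.zpowers c ⊔ Subgroup.zpowers b := by
    apply lt_of_le_of_ne le_sup_left
    intro h
    apply hbZ
    rw [h]
    exact Subgroup.mem_sup_right (Subgroup.mem_zpowers b)
  have h1 := Cfsg.Agent.Helper19.mul_card_le_of_lt hG hlt
  rw [hcardZ, ← pow_succ'] at h1
  have hsup_eq : Subgroup.zpowers c ⊔ Subgroup.zpowers b = Subgroup.centralizer
      (Cfsg.powerClosure p 1 (Subgroup.zpowers c) : Set G') :=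
    Subgroup.eq_of_le_of_card_ge hsup_le (by rw [hcardN]; exact h1)
  intro n hn
  have h2 : n ∈ ((Subgroup.zpowers c ⊔ Subgroup.zpowers b : Subgroup G') : Set G') := by
    rw [hsup_eq]; exact (hmemN n).mpr hn
  rw [Subgroup.normal_mul, Set.mem_mul] at h2
  obtain ⟨w, hw, y, hy, rfl⟩ := h2
  obtain ⟨i, rfl⟩ := (mem_zpowers_iff_pow b y).mp hy
  exact ⟨w, hw, i, rfl⟩

end wrapper

section Manalysis

theorem closure_comm {H : Type*} [Group H] (T : Set H) (hT : ∀ a ∈ T, ∀ b ∈ T, a * b = b * a) :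
    ∀ a ∈ Subgroup.closure T, ∀ b ∈ Subgroup.closure T, a * b = b * a := by
  have h1 : Subgroup.closure T ≤ Subgroup.centralizer T := by
    rw [Subgroup.closure_le]
    intro u hu
    rw [SetLike.mem_coe, Subgroup.mem_centralizer_iff]
    intro v hv
    exact hT v hv u hu
  have h2 : Subgroup.closure T ≤ Subgroup.centralizer (Subgroup.closure T : Set H) := by
    rw [Subgroup.closure_le]
    intro u hu
    rw [SetLike.mem_coe, Subgroup.mem_centralizer_iff]
    intro v hv
    have := h1 hv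
    rw [Subgroup.mem_centralizer_iff] at this
    exact (this u hu).symm
  intro u hu v hv
  have := h2 hv
  rw [Subgroup.mem_centralizer_iff] at this
  exact this u hu

theorem comm_mem_of_closure (U : Subgroup G) [U.Normal] (S : Set G)
    (hS : ∀ s ∈ S, ∀ t ∈ S, ⁅s, t⁆ ∈ U) :
    ∀ x ∈ Subgroup.closure S, ∀ y ∈ Subgroup.closure S, ⁅x, y⁆ ∈ U := by
  intro x hx y hy
  have hT : ∀ a ∈ (QuotientGroup.mk' U) '' S, ∀ b ∈ (QuotientGroup.mk' U) '' S, a * b = b * a := by
    rintro _ ⟨s, hs, rfl⟩ _ ⟨t, ht, rfl⟩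
    rw [← commutatorElement_eq_one_iff_mul_comm, ← map_commutatorElement]
    exact (QuotientGroup.eq_one_iff _).mpr (hS s hs t ht)
  have hmap : ∀ z ∈ Subgroup.closure S, QuotientGroup.mk' U z ∈
      Subgroup.closure ((QuotientGroup.mk' U) '' S) := by
    intro z hz
    rw [← MonoidHom.map_closure]
    exact Subgroup.mem_map_of_mem _ hz
  have h1 := closure_comm _ hT _ (hmap x hx) _ (hmap y hy)
  rw [← commutatorElement_eq_one_iff_mul_comm, ← map_commutatorElement] at h1
  exact (QuotientGroup.eq_one_iff _).mp h1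

variable [Finite G] {p : ℕ} [hp : Fact p.Prime]

/-- The contradiction in the case `m ≥ 3` with `R` not of maximal class. -/
theorem M_contra (hG : IsPGroup p G)
    (hsymp : ∀ A : Subgroup G, A.Characteristic → IsMulCommutative A → IsCyclic A)
    (E R : Subgroup G) (c : G) (m : ℕ) (hm3 : 3 ≤ m) (hord : orderOf c = p ^ m)
    (hZchar : (Subgroup.zpowers c).Characteristic)
    (hcR : c ∈ R) (hRE : R = Subgroup.centralizer (E : Set G))
    (hdec : ∀ g : G, ∃ e ∈ E, ∃ r ∈ R, g = e * r)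
    (hEpow : ∀ e ∈ E, e ^ p ∈ Subgroup.zpowers (c ^ p ^ (m - 1)))
    (hEcomm : ∀ e ∈ E, ∀ e' ∈ E, ⁅e, e'⁆ ∈ Subgroup.zpowers (c ^ p ^ (m - 1)))
    (hself : ∀ r ∈ R, r * c = c * r → r ∈ Subgroup.zpowers c)
    (hUc : ∀ g : G, c ^ p ^ (m - 1) * g = g * c ^ p ^ (m - 1))
    (b : G) (hbR : b ∈ R) (hbZ : b ∉ Subgroup.zpowers c) (hbp : b ^ p = 1)
    (hbc : b * c ^ p = c ^ p * b)
    (hNdec : ∀ n ∈ R, n * c ^ p = c ^ p * n → ∃ w ∈ Subgroup.zpowers c, ∃ i : ℕ, n = w * b ^ i) :
    False := by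
  have hm1 : 1 ≤ m := by omega
  have hp1 := hp.out.one_lt
  have hUcen : ∀ u ∈ Subgroup.zpowers (c ^ p ^ (m - 1)), ∀ g : G, u * g = g * u := by
    intro u hu g
    obtain ⟨k, rfl⟩ := Subgroup.mem_zpowers_iff.mp hu
    exact ((show Commute (c ^ p ^ (m - 1)) g from hUc g).zpow_left k).eq
  have hUn : (Subgroup.zpowers (c ^ p ^ (m - 1))).Normal := by
    constructor
    intro u hu g
    have : g * u * g⁻¹ = u := by
      rw [mul_assoc, hUcen u hu g⁻¹, ← mul_assoc, mul_inv_cancel, one_mul]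
    rw [this]; exact hu
  have hRcomm : ∀ e ∈ E, ∀ r ∈ R, e * r = r * e := by
    intro e he r hr
    rw [hRE, Subgroup.mem_centralizer_iff] at hr
    exact hr e he
  have hZR : Subgroup.zpowers c ≤ R := Subgroup.zpowers_le.mpr hcR
  have hZn : (Subgroup.zpowers c).Normal := inferInstance
  -- U ≤ Zp
  have hupow : c ^ p ^ (m - 1) = (c ^ p) ^ p ^ (m - 2) := by
    rw [← pow_mul, ← pow_succ']; congr 2; omega
  have hUZp : Subgroup.zpowers (c ^ p ^ (m - 1)) ≤ Subgroup.zpowers (c ^ p) := by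
    rw [Subgroup.zpowers_le, hupow]
    exact Subgroup.pow_mem _ (Subgroup.mem_zpowers _) _
  have hZpZ : Subgroup.zpowers (c ^ p) ≤ Subgroup.zpowers c :=
    Subgroup.zpowers_le.mpr (Subgroup.pow_mem _ (Subgroup.mem_zpowers c) p)
  -- Zp is characteristic
  have hZpchar : (Subgroup.zpowers (c ^ p)).Characteristic := by
    apply char_of_forall
    intro φ x hx
    obtain ⟨j, rfl⟩ := Subgroup.mem_zpowers_iff.mp hx
    have h1 : φ c ∈ Subgroup.zpowers c := char_map_mem φ (Subgroup.mem_zpowers c)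
    obtain ⟨k, hk⟩ := Subgroup.mem_zpowers_iff.mp h1
    rw [map_zpow, map_pow, ← hk]
    apply Subgroup.zpow_mem
    have : (c ^ k) ^ p = (c ^ p) ^ k := by
      rw [← zpow_natCast (c ^ k), ← zpow_natCast c, ← zpow_mul, ← zpow_mul, mul_comm]
    rw [this]
    exact Subgroup.zpow_mem _ (Subgroup.mem_zpowers _) _
  have hMchar : (Subgroup.centralizer (Subgroup.zpowers (c ^ p) : Set G)).Characteristic :=
    inferInstance
  have hmemM : ∀ g : G, g ∈ Subgroup.centralizer (Subgroup.zpowers (c ^ p) : Set G) ↔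
      g * c ^ p = c ^ p * g := by
    intro g
    rw [Subgroup.mem_centralizer_iff]
    constructor
    · intro h
      exact (h _ (Subgroup.mem_zpowers _)).symm
    · intro h x hx
      obtain ⟨j, rfl⟩ := Subgroup.mem_zpowers_iff.mp hx
      exact ((show Commute g (c ^ p) from h).zpow_right j).eq.symm
  have hcZcomm : ∀ w ∈ Subgroup.zpowers c, ∀ w' ∈ Subgroup.zpowers c, w * w' = w' * w := by
    intro w hw w' hw'
    obtain ⟨i, rfl⟩ := Subgroup.mem_zpowers_iff.mp hw
    obtain ⟨j, rfl⟩ := Subgroup.mem_zpowers_iff.mp hw'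
    rw [← zpow_add, ← zpow_add, add_comm]
  have hEM : E ≤ Subgroup.centralizer (Subgroup.zpowers (c ^ p) : Set G) := by
    intro e he
    rw [hmemM]
    exact hRcomm e he _ (R.pow_mem hcR p)
  have hZM : Subgroup.zpowers c ≤ Subgroup.centralizer (Subgroup.zpowers (c ^ p) : Set G) := by
    intro w hw
    rw [hmemM]
    exact hcZcomm w hw _ (hZpZ (Subgroup.mem_zpowers _))
  have hbM : b ∈ Subgroup.centralizer (Subgroup.zpowers (c ^ p) : Set G) := (hmemM b).mpr hbc
  -- b commutes with p-th powers of Z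
  have hbwp : ∀ w ∈ Subgroup.zpowers c, b * w ^ p = w ^ p * b := by
    intro w hw
    obtain ⟨k, rfl⟩ := Subgroup.mem_zpowers_iff.mp hw
    have : (c ^ k) ^ p = (c ^ p) ^ k := by
      rw [← zpow_natCast (c ^ k), ← zpow_natCast c, ← zpow_mul, ← zpow_mul, mul_comm]
    rw [this]
    exact ((show Commute b (c ^ p) from hbc).zpow_right k).eq
  -- [b, w] ∈ U
  have hbw : ∀ w ∈ Subgroup.zpowers c, ⁅b, w⁆ ∈ Subgroup.zpowers (c ^ p ^ (m - 1)) := by
    intro w hw
    have hconj : b * w * b⁻¹ ∈ Subgroup.zpowers c := hZn.conj_mem w hw b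
    have ht : ⁅b, w⁆ ∈ Subgroup.zpowers c := by
      rw [commutatorElement_def]
      exact Subgroup.mul_mem _ hconj (Subgroup.inv_mem _ hw)
    apply Cfsg.Agent.S3761.mem_zpowers_zz_of_pow_eq_one hord hm1 ht
    have hc : Commute (b * w * b⁻¹) w⁻¹ := hcZcomm _ hconj _ (Subgroup.inv_mem _ hw)
    rw [commutatorElement_def, hc.mul_pow, conj_pow, hbwp w hw, mul_inv_cancel_right, inv_pow,
      mul_inv_cancel]
  -- the subgroup N = ⟨Z, b⟩
  have hNcomm : ∀ x ∈ Subgroup.closure ((Subgroup.zpowers c : Set G) ∪ {b}),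
      ∀ y ∈ Subgroup.closure ((Subgroup.zpowers c : Set G) ∪ {b}),
      ⁅x, y⁆ ∈ Subgroup.zpowers (c ^ p ^ (m - 1)) := by
    apply comm_mem_of_closure
    rintro s (hs | hs) t (ht | ht)
    · rw [commutatorElement_eq_one_iff_mul_comm.mpr (hcZcomm s hs t ht)]
      exact Subgroup.one_mem _
    · rw [Set.mem_singleton_iff] at ht
      rw [ht, ← commutatorElement_inv]
      exact Subgroup.inv_mem _ (hbw s hs)
    · rw [Set.mem_singleton_iff] at hs
      rw [hs]
      exact hbw t ht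
    · rw [Set.mem_singleton_iff] at hs ht
      rw [hs, ht, commutatorElement_self]
      exact Subgroup.one_mem _
  have hZN : Subgroup.zpowers c ≤ Subgroup.closure ((Subgroup.zpowers c : Set G) ∪ {b}) :=
    fun w hw => Subgroup.subset_closure (Or.inl hw)
  have hbN : b ∈ Subgroup.closure ((Subgroup.zpowers c : Set G) ∪ {b}) :=
    Subgroup.subset_closure (Or.inr rfl)
  have hUZ : Subgroup.zpowers (c ^ p ^ (m - 1)) ≤ Subgroup.zpowers c := hUZp.trans hZpZ
  have c2N : C2 (Subgroup.closure ((Subgroup.zpowers c : Set G) ∪ {b}))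
      (Subgroup.zpowers (c ^ p ^ (m - 1))) :=
    ⟨hUZ.trans hZN, fun u hu h _ => hUcen u hu h, hNcomm⟩
  have hNR : Subgroup.closure ((Subgroup.zpowers c : Set G) ∪ {b}) ≤ R := by
    rw [Subgroup.closure_le]
    rintro x (hx | hx)
    · exact hZR hx
    · rw [Set.mem_singleton_iff] at hx; rw [hx]; exact hbR
  have hUp : ∀ u ∈ Subgroup.zpowers (c ^ p ^ (m - 1)), u ^ p = 1 := fun u hu =>
    Cfsg.Agent.S3761.pow_eq_one_of_mem_zpowers_zz hord hm1 hu
  -- p-th powers of w * b ^ i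
  have hwbpow : ∀ w ∈ Subgroup.zpowers c, ∀ i : ℕ,
      (w * b ^ i) ^ p ∈ Subgroup.zpowers (c ^ p) := by
    intro w hw i
    rw [c2N.mul_pow (hZN hw) (Subgroup.pow_mem _ hbN i) p]
    have h1 : (b ^ i) ^ p = 1 := by rw [← pow_mul, mul_comm, pow_mul, hbp, one_pow]
    rw [h1, mul_one]
    apply Subgroup.mul_mem
    · obtain ⟨k, rfl⟩ := Subgroup.mem_zpowers_iff.mp hw
      have : (c ^ k) ^ p = (c ^ p) ^ k := by
        rw [← zpow_natCast (c ^ k), ← zpow_natCast c, ← zpow_mul, ← zpow_mul, mul_comm]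
      rw [this]
      exact Subgroup.zpow_mem _ (Subgroup.mem_zpowers _) _
    · exact hUZp (Subgroup.pow_mem _ (hNcomm _ (Subgroup.pow_mem _ hbN i) _ (hZN hw)) _)
  -- decomposition of M
  have hMdec : ∀ g ∈ Subgroup.centralizer (Subgroup.zpowers (c ^ p) : Set G),
      ∃ e ∈ E, ∃ w ∈ Subgroup.zpowers c, ∃ i : ℕ, g = e * (w * b ^ i) := by
    intro g hg
    obtain ⟨e, he, r, hr, rfl⟩ := hdec g
    have hrM : r * c ^ p = c ^ p * r := by
      have h1 := (hmemM _).mp hg
      have h2 := (hmemM _).mp (hEM he)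
      have h3 : e * (r * c ^ p) = e * (c ^ p * r) := by
        rw [← mul_assoc, h1, ← mul_assoc, ← h2, mul_assoc]
      exact mul_left_cancel h3
    obtain ⟨w, hw, i, hi⟩ := hNdec r hr hrM
    exact ⟨e, he, w, hw, i, by rw [hi]⟩
  have hwbN : ∀ w ∈ Subgroup.zpowers c, ∀ i : ℕ,
      w * b ^ i ∈ Subgroup.closure ((Subgroup.zpowers c : Set G) ∪ {b}) :=
    fun w hw i => Subgroup.mul_mem _ (hZN hw) (Subgroup.pow_mem _ hbN i)
  have hMcm : ∀ x ∈ Subgroup.centralizer (Subgroup.zpowers (c ^ p) : Set G),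
      ∀ y ∈ Subgroup.centralizer (Subgroup.zpowers (c ^ p) : Set G),
      ⁅x, y⁆ ∈ Subgroup.zpowers (c ^ p) := by
    intro x hx y hy
    obtain ⟨e, he, w, hw, i, rfl⟩ := hMdec x hx
    obtain ⟨e', he', w', hw', i', rfl⟩ := hMdec y hy
    rw [comm_prod (hRcomm e he _ (hNR (hwbN w' hw' i'))) (hRcomm e' he' _ (hNR (hwbN w hw i)))
      (hRcomm e he _ (hNR (hwbN w hw i))) (hRcomm e' he' _ (hNR (hwbN w' hw' i')))]
    exact hUZp (Subgroup.mul_mem _ (hEcomm e he e' he') (hNcomm _ (hwbN w hw i) _ (hwbN w' hw' i')))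
  have hMpow : ∀ x ∈ Subgroup.centralizer (Subgroup.zpowers (c ^ p) : Set G),
      x ^ p ∈ Subgroup.zpowers (c ^ p) := by
    intro x hx
    obtain ⟨e, he, w, hw, i, rfl⟩ := hMdec x hx
    have hc : Commute e (w * b ^ i) := hRcomm e he _ (hNR (hwbN w hw i))
    rw [hc.mul_pow]
    exact Subgroup.mul_mem _ (hUZp (hEpow e he)) (hwbpow w hw i)
  by_cases hbcc : b * c = c * b
  · -- Case A: b is central in M
    have hbcen : ∀ g ∈ Subgroup.centralizer (Subgroup.zpowers (c ^ p) : Set G), b * g = g * b := by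
      intro g hg
      obtain ⟨e, he, w, hw, i, rfl⟩ := hMdec g hg
      have h1 : Commute b e := (hRcomm e he b hbR).symm
      have h2 : Commute b w := by
        obtain ⟨k, rfl⟩ := Subgroup.mem_zpowers_iff.mp hw
        exact (show Commute b c from hbcc).zpow_right k
      have h3 : Commute b (b ^ i) := (Commute.refl b).pow_right i
      exact (h1.mul_right (h2.mul_right h3)).eq
    have hYchar : (Subgroup.centralizer (Subgroup.zpowers (c ^ p) : Set G) ⊓
        Subgroup.centralizer (Subgroup.centralizer (Subgroup.zpowers (c ^ p) : Set G) : Set G)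
        ).Characteristic := inferInstance
    have hYcomm : IsMulCommutative (Subgroup.centralizer (Subgroup.zpowers (c ^ p) : Set G) ⊓
        Subgroup.centralizer (Subgroup.centralizer (Subgroup.zpowers (c ^ p) : Set G) : Set G)
        : Subgroup G) := by
      rw [isMulCommutative_iff]
      intro x y
      apply Subtype.ext
      have hx := (Subgroup.mem_inf.mp x.2).2
      rw [Subgroup.mem_centralizer_iff] at hx
      exact (hx y (Subgroup.mem_inf.mp y.2).1).symm
    obtain ⟨y₀, -, hY⟩ := exists_gen _ (hsymp _ hYchar hYcomm)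
    have hbY : b ∈ Subgroup.zpowers y₀ := by
      rw [← hY]
      refine Subgroup.mem_inf.mpr ⟨hbM, ?_⟩
      rw [Subgroup.mem_centralizer_iff]
      intro g hg
      exact (hbcen g hg).symm
    have huY : c ^ p ^ (m - 1) ∈ Subgroup.zpowers y₀ := by
      rw [← hY]
      refine Subgroup.mem_inf.mpr ⟨hZM (hUZ (Subgroup.mem_zpowers _)), ?_⟩
      rw [Subgroup.mem_centralizer_iff]
      intro g _
      exact (hUc g).symm
    have hu1 : c ^ p ^ (m - 1) ≠ 1 := by
      intro h
      have h1 := orderOf_dvd_of_pow_eq_one h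
      rw [hord] at h1
      have h2 := (Nat.pow_dvd_pow_iff_le_right hp1).mp h1
      omega
    have := mem_zpowers_of_pow_p_eq_one hG huY hbY hu1
      (hUp _ (Subgroup.mem_zpowers _)) hbp
    exact hbZ (hUZ this)
  · -- Case B
    have hcentM : Subgroup.centralizer
        (Subgroup.centralizer (Subgroup.zpowers (c ^ p) : Set G) : Set G) =
        Subgroup.zpowers (c ^ p) := by
      apply le_antisymm
      · intro x hx
        rw [Subgroup.mem_centralizer_iff] at hx
        have hxR : x ∈ R := by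
          rw [hRE, Subgroup.mem_centralizer_iff]
          intro e he
          exact hx e (hEM he)
        have hxZ : x ∈ Subgroup.zpowers c :=
          hself x hxR (hx c (hZM (Subgroup.mem_zpowers c))).symm
        obtain ⟨i, rfl⟩ := (mem_zpowers_iff_pow c x).mp hxZ
        by_cases hi : p ∣ i
        · obtain ⟨j, rfl⟩ := hi
          rw [pow_mul]
          exact Subgroup.pow_mem _ (Subgroup.mem_zpowers _) _
        · exfalso
          have hcop : Nat.Coprime i (orderOf c) := by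
            rw [hord]
            exact Nat.Coprime.pow_right m ((Nat.Prime.coprime_iff_not_dvd hp.out).mpr hi).symm
          have h2 := mem_zpowers_pow_of_coprime hcop
            (by rw [hord]; exact Nat.one_lt_pow (by omega) hp1)
          obtain ⟨k, hk⟩ := Subgroup.mem_zpowers_iff.mp h2
          apply hbcc
          have h3 : Commute b (c ^ i) := hx b hbM
          rw [← hk]
          exact (h3.zpow_right k).eq
      · intro x hx
        rw [Subgroup.mem_centralizer_iff]
        intro g hg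
        have hg' : g ∈ Subgroup.centralizer (Subgroup.zpowers (c ^ p) : Set G) := hg
        rw [Subgroup.mem_centralizer_iff] at hg'
        exact (hg' x hx).symm
    have hordp : orderOf (c ^ p) = p ^ (m - 1) := by
      rw [orderOf_pow_of_dvd hp.out.ne_zero (by rw [hord]; exact dvd_pow_self p (by omega)), hord]
      have : p ^ m = p ^ (m - 1) * p := by
        rw [← pow_succ]; congr 1; omega
      rw [this, Nat.mul_div_cancel _ hp.out.pos]
    have hK := lemmaK hG hsymp (Subgroup.centralizer (Subgroup.zpowers (c ^ p) : Set G))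
      (c ^ p) (m - 1) (by omega) hordp hcentM
      (by
        intro x hx
        exact hZM (hZpZ hx)) hMpow hMcm c (hZM (Subgroup.mem_zpowers c))
    have h1 := orderOf_dvd_of_pow_eq_one hK
    rw [hord] at h1
    have h2 := (Nat.pow_dvd_pow_iff_le_right hp1).mp h1
    omega

end Manalysis

section final
variable [Finite G] {p : ℕ} [hp : Fact p.Prime]

/-- The conclusion of the theorem. -/
def Concl (p : ℕ) (G : Type*) [Group G] : Prop :=
  ∃ E R : Subgroup G, (∀ e ∈ E, ∀ r ∈ R, e * r = r * e) ∧ E ⊔ R = ⊤ ∧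
    (E = ⊥ ∨ Cfsg.IsExtraspecial p ↥E) ∧
    (IsCyclic R ∨ (p = 2 ∧ 16 ≤ Nat.card R ∧ ((∃ m : ℕ, Nonempty (↥R ≃* DihedralGroup m)) ∨
      (∃ m : ℕ, Nonempty (↥R ≃* QuaternionGroup m)) ∨ Cfsg.IsQuasiDihedral ↥R)))

omit [Finite G] in
theorem mem_zpowers_sub (R : Subgroup G) (c : G) (hcR : c ∈ R) (r : ↥R) :
    r ∈ Subgroup.zpowers (⟨c, hcR⟩ : ↥R) ↔ (r : G) ∈ Subgroup.zpowers c := by
  rw [Subgroup.mem_zpowers_iff, Subgroup.mem_zpowers_iff]
  constructor
  · rintro ⟨k, hk⟩
    refine ⟨k, ?_⟩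
    have := congrArg Subtype.val hk
    simpa using this
  · rintro ⟨k, hk⟩
    refine ⟨k, ?_⟩
    apply Subtype.ext
    simpa using hk

theorem R_analysis (hG : IsPGroup p G)
    (hsymp : ∀ A : Subgroup G, A.Characteristic → IsMulCommutative A → IsCyclic A)
    (E R : Subgroup G) (c : G) (m : ℕ) (hord : orderOf c = p ^ m)
    (hZchar : (Subgroup.zpowers c).Characteristic)
    (hcR : c ∈ R) (hRE : R = Subgroup.centralizer (E : Set G))
    (hdec : ∀ g : G, ∃ e ∈ E, ∃ r ∈ R, g = e * r)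
    (hE : E = ⊥ ∨ XS p E (Subgroup.zpowers (c ^ p ^ (m - 1))))
    (hself : ∀ r ∈ R, r * c = c * r → r ∈ Subgroup.zpowers c)
    (hUc : ∀ g : G, c ^ p ^ (m - 1) * g = g * c ^ p ^ (m - 1)) : Concl p G := by
  have hp1 := hp.out.one_lt
  have hRcomm : ∀ e ∈ E, ∀ r ∈ R, e * r = r * e := by
    intro e he r hr
    rw [hRE, Subgroup.mem_centralizer_iff] at hr
    exact hr e he
  have hsupER : E ⊔ R = ⊤ := by
    rw [eq_top_iff]
    intro g _
    obtain ⟨e, he, r, hr, rfl⟩ := hdec g
    exact Subgroup.mul_mem _ (Subgroup.mem_sup_left he) (Subgroup.mem_sup_right hr)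
  have hEx : E = ⊥ ∨ Cfsg.IsExtraspecial p ↥E := hE.imp id (fun h => h.isExtraspecial hG)
  have hcZcomm : ∀ w ∈ Subgroup.zpowers c, ∀ w' ∈ Subgroup.zpowers c, w * w' = w' * w := by
    intro w hw w' hw'
    obtain ⟨i, rfl⟩ := Subgroup.mem_zpowers_iff.mp hw
    obtain ⟨j, rfl⟩ := Subgroup.mem_zpowers_iff.mp hw'
    rw [← zpow_add, ← zpow_add, add_comm]
  by_cases hab : ∀ r ∈ R, ∀ r' ∈ R, r * r' = r' * r
  · have hRZ : R = Subgroup.zpowers c :=
      le_antisymm (fun r hr => hself r hr (hab r hr c hcR)) (Subgroup.zpowers_le.mpr hcR)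
    refine ⟨E, R, hRcomm, hsupER, hEx, Or.inl ?_⟩
    rw [hRZ]
    infer_instance
  push Not at hab
  obtain ⟨r₁, hr₁, r₂, hr₂, hne⟩ := hab
  -- m ≥ 2
  have hm2 : 2 ≤ m := by
    by_contra h
    have hm0 : m - 1 = 0 := by omega
    rw [hm0, pow_zero, pow_one] at hUc
    have h1 := hself r₁ hr₁ (hUc r₁).symm
    have h2 := hself r₂ hr₂ (hUc r₂).symm
    exact hne (hcZcomm r₁ h1 r₂ h2)
  have hm1 : 1 ≤ m := by omega
  -- the cube case
  have hcube : m = 2 → Nat.card R = p ^ 3 → Concl p G := by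
    intro hm hcardR
    subst hm
    have hUc' : ∀ g : G, c ^ p * g = g * c ^ p := by
      intro g
      have := hUc g
      simpa using this
    have hUeq : Subgroup.zpowers (c ^ p ^ (2 - 1)) = Subgroup.zpowers (c ^ p) := by
      simp
    have hXR : XS p R (Subgroup.zpowers (c ^ p)) :=
      XS_of_card_cube R c hcR hord hcardR hself hUc'
    have hXtop : XS p (⊤ : Subgroup G) (Subgroup.zpowers (c ^ p)) := by
      rcases hE with hE | hE
      · have : R = ⊤ := by
          rw [hRE, hE]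
          ext g
          simp only [Subgroup.mem_top, iff_true]
          rw [Subgroup.mem_centralizer_iff]
          intro h hh
          have : h = 1 := by simpa using hh
          rw [this, one_mul, mul_one]
        rw [← this]
        exact hXR
      · rw [hUeq] at hE
        exact XS.central_prod hE hXR hRcomm hdec
    refine ⟨⊤, ⊥, ?_, by simp, Or.inr (hXtop.isExtraspecial hG), Or.inl inferInstance⟩
    intro e _ r hr
    rw [Subgroup.mem_bot] at hr
    rw [hr, mul_one, one_mul]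
  -- apply W to R
  have hnR : (Subgroup.zpowers (⟨c, hcR⟩ : ↥R)).Normal := by
    constructor
    intro x hx g
    rw [mem_zpowers_sub] at hx ⊢
    have hZn : (Subgroup.zpowers c).Normal := inferInstance
    simpa using hZn.conj_mem (x : G) hx (g : G)
  have hW := W (G' := ↥R) (hG.to_subgroup R)
    ⟨⟨r₁, hr₁⟩, ⟨r₂, hr₂⟩, fun h => hne (congrArg Subtype.val h)⟩ ⟨c, hcR⟩ m
    (by rw [Subgroup.orderOf_mk]; exact hord) hnR (by
      intro r hr
      rw [mem_zpowers_sub]
      exact hself r r.2 (congrArg Subtype.val hr))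
  rcases hW with ⟨hp2, hcardR, htypes⟩ | ⟨b', hb'Z, hb'p, hb'c, hcardN, hdecN⟩
  · by_cases h3 : 3 ≤ m
    · refine ⟨E, R, hRcomm, hsupER, hEx, Or.inr ⟨hp2, ?_, htypes⟩⟩
      rw [hcardR]
      calc 16 = 2 ^ 4 := by norm_num
        _ ≤ 2 ^ (m + 1) := Nat.pow_le_pow_right (by norm_num) (by omega)
    · have hm : m = 2 := by omega
      apply hcube hm
      rw [hcardR, hm, hp2]
  · by_cases h3 : 3 ≤ m
    · exfalso
      have hEpow : ∀ e ∈ E, e ^ p ∈ Subgroup.zpowers (c ^ p ^ (m - 1)) := by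
        rcases hE with hE | hE
        · intro e he
          rw [hE, Subgroup.mem_bot] at he
          rw [he, one_pow]
          exact Subgroup.one_mem _
        · exact hE.pow
      have hEcomm : ∀ e ∈ E, ∀ e' ∈ E, ⁅e, e'⁆ ∈ Subgroup.zpowers (c ^ p ^ (m - 1)) := by
        rcases hE with hE | hE
        · intro e he e' he'
          rw [hE, Subgroup.mem_bot] at he he'
          rw [he, he', commutatorElement_self]
          exact Subgroup.one_mem _
        · exact hE.c2.comm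
      apply M_contra hG hsymp E R c m h3 hord hZchar hcR hRE hdec hEpow hEcomm hself hUc
        (b' : G) b'.2
      · intro h
        exact hb'Z ((mem_zpowers_sub R c hcR b').mpr h)
      · have := congrArg Subtype.val hb'p
        simpa using this
      · have := congrArg Subtype.val hb'c
        simpa using this
      · intro n hn hnc
        obtain ⟨w', hw', i, hi⟩ := hdecN ⟨n, hn⟩ (by
          apply Subtype.ext
          simpa using hnc)
        refine ⟨(w' : G), (mem_zpowers_sub R c hcR w').mp hw', i, ?_⟩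
        have := congrArg Subtype.val hi
        simpa using this
    · have hm : m = 2 := by omega
      apply hcube hm
      have htop : Subgroup.centralizer ({(⟨c, hcR⟩ : ↥R) ^ p} : Set ↥R) = ⊤ := by
        rw [eq_top_iff]
        intro g _
        rw [Subgroup.mem_centralizer_iff]
        intro h hh
        rw [Set.mem_singleton_iff] at hh
        rw [hh]
        apply Subtype.ext
        have := hUc (g : G)
        rw [hm] at this
        simpa using this
      rw [htop, Subgroup.card_top, hm] at hcardN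
      exact hcardN

theorem main (hG : IsPGroup p G)
    (hsymp : ∀ A : Subgroup G, A.Characteristic → IsMulCommutative A → IsCyclic A) :
    Concl p G := by
  have hp1 := hp.out.one_lt
  obtain ⟨C, hCchar, hfrat, hcommCG, hcentC⟩ := Cfsg.Agent.Helper1.exists_critical hG
  have := hCchar
  have hZchar0 : (Subgroup.centralizer (C : Set G)).Characteristic := inferInstance
  have hZab : IsMulCommutative (Subgroup.centralizer (C : Set G)) := by
    rw [isMulCommutative_iff]
    intro x y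
    apply Subtype.ext
    have hx := x.2
    rw [Subgroup.mem_centralizer_iff] at hx
    exact (hx y (hcentC y.2)).symm
  obtain ⟨c, hcZ, hZeq⟩ := exists_gen _ (hsymp _ hZchar0 hZab)
  obtain ⟨m, hord⟩ := IsPGroup.iff_orderOf.mp hG c
  have hZchar : (Subgroup.zpowers c).Characteristic := hZeq ▸ hZchar0
  have hZC : Subgroup.zpowers c ≤ C := hZeq ▸ hcentC
  have hZn : (Subgroup.zpowers c).Normal := inferInstance
  have hZcen : ∀ w ∈ Subgroup.zpowers c, ∀ x ∈ C, w * x = x * w := by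
    intro w hw x hx
    rw [← hZeq, Subgroup.mem_centralizer_iff] at hw
    exact (hw x hx).symm
  have hpow : ∀ x ∈ C, x ^ p ∈ Subgroup.zpowers c := by
    intro x hx
    rw [← hZeq]
    apply hfrat
    refine ⟨⟨x, hx⟩ ^ p, ?_, by simp⟩
    exact Cfsg.Agent.Helper21.pow_mem_frattini_of_isPGroup (hG.to_subgroup C) ⟨x, hx⟩
  have hPC : ∀ x ∈ C, ∀ g : G, ⁅x, g⁆ ∈ Subgroup.zpowers c := by
    intro x hx g
    rw [← hZeq]
    exact (Subgroup.mem_inf.mp
      (hcommCG (Subgroup.commutator_mem_commutator hx (Subgroup.mem_top g)))).2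
  have hcZcomm : ∀ w ∈ Subgroup.zpowers c, ∀ w' ∈ Subgroup.zpowers c, w * w' = w' * w := by
    intro w hw w' hw'
    obtain ⟨i, rfl⟩ := Subgroup.mem_zpowers_iff.mp hw
    obtain ⟨j, rfl⟩ := Subgroup.mem_zpowers_iff.mp hw'
    rw [← zpow_add, ← zpow_add, add_comm]
  -- U is central in G
  have hUc : ∀ g : G, c ^ p ^ (m - 1) * g = g * c ^ p ^ (m - 1) := by
    rcases Nat.eq_zero_or_pos m with rfl | hm
    · rw [pow_zero, orderOf_eq_one_iff] at hord
      intro g
      rw [hord, one_pow, one_mul, mul_one]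
    · have hUn : (Subgroup.zpowers (c ^ p ^ (m - 1))).Normal := by
        constructor
        intro u hu g
        obtain ⟨k, rfl⟩ := Subgroup.mem_zpowers_iff.mp hu
        obtain ⟨j, hj⟩ := Subgroup.mem_zpowers_iff.mp
          (hZn.conj_mem c (Subgroup.mem_zpowers c) g)
        rw [← conj_zpow, ← conj_pow, ← hj]
        apply Subgroup.zpow_mem
        have : (c ^ j) ^ p ^ (m - 1) = (c ^ p ^ (m - 1)) ^ j := by
          rw [← zpow_natCast (c ^ j), ← zpow_natCast c, ← zpow_mul, ← zpow_mul, mul_comm]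
        rw [this]
        exact Subgroup.zpow_mem _ (Subgroup.mem_zpowers _) _
      have hcard : Nat.card (Subgroup.zpowers (c ^ p ^ (m - 1))) = p := by
        rw [Nat.card_zpowers, Cfsg.Agent.S3761.orderOf_zz hord hm]
      have hle := Cfsg.Agent.Helper19.normal_card_prime_le_center hG _ hcard
      intro g
      have := hle (Subgroup.mem_zpowers (c ^ p ^ (m - 1)))
      rw [Subgroup.mem_center_iff] at this
      exact (this g).symm
  have hUcen : ∀ u ∈ Subgroup.zpowers (c ^ p ^ (m - 1)), ∀ g : G, u * g = g * u := by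
    intro u hu g
    obtain ⟨k, rfl⟩ := Subgroup.mem_zpowers_iff.mp hu
    exact ((show Commute (c ^ p ^ (m - 1)) g from hUc g).zpow_left k).eq
  by_cases hCab : C ≤ Subgroup.zpowers c
  · -- Case I: C is cyclic and self-centralizing
    have hCeq : C = Subgroup.zpowers c := le_antisymm hCab hZC
    apply R_analysis hG hsymp ⊥ ⊤ c m hord hZchar (Subgroup.mem_top c) ?_ ?_ (Or.inl rfl) ?_ hUc
    · ext g
      simp only [Subgroup.mem_top, true_iff]
      rw [Subgroup.mem_centralizer_iff]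
      intro h hh
      have : h = 1 := by simpa using hh
      rw [this, one_mul, mul_one]
    · intro g
      exact ⟨1, Subgroup.one_mem _, g, Subgroup.mem_top g, (one_mul g).symm⟩
    · intro r _ hrc
      rw [← hZeq, Subgroup.mem_centralizer_iff]
      intro x hx
      rw [hCeq] at hx
      obtain ⟨k, rfl⟩ := Subgroup.mem_zpowers_iff.mp hx
      exact ((show Commute r c from hrc).zpow_right k).eq.symm
  · -- Case II: C is nonabelian
    obtain ⟨x, hxC, hxZ⟩ : ∃ x ∈ C, x ∉ Subgroup.zpowers c := by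
      by_contra h
      push Not at h
      exact hCab h
    obtain ⟨y, hyC, hxy⟩ : ∃ y ∈ C, x * y ≠ y * x := by
      by_contra h
      push Not at h
      apply hxZ
      rw [← hZeq, Subgroup.mem_centralizer_iff]
      intro y hy
      exact (h y hy).symm
    have hm1 : 1 ≤ m := by
      rcases Nat.eq_zero_or_pos m with rfl | hm
      · exfalso
        rw [pow_zero, orderOf_eq_one_iff] at hord
        have h1 := hPC x hxC y
        rw [hord, Subgroup.zpowers_one_eq_bot, Subgroup.mem_bot,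
          commutatorElement_eq_one_iff_mul_comm] at h1
        exact hxy h1
      · exact hm
    have c2Z : C2 C (Subgroup.zpowers c) := ⟨hZC, hZcen, fun a ha b _ => hPC a ha b⟩
    have hcmU : ∀ a ∈ C, ∀ b ∈ C, ⁅a, b⁆ ∈ Subgroup.zpowers (c ^ p ^ (m - 1)) := by
      intro a ha b hb
      apply Cfsg.Agent.S3761.mem_zpowers_zz_of_pow_eq_one hord hm1 (hPC a ha b)
      rw [← c2Z.comm_pow_left ha hb, commutatorElement_eq_one_iff_mul_comm]
      exact hZcen _ (hpow a ha) b hb
    have hexp : m = 1 ∨ ∀ a ∈ C, a ^ (p ^ m) = 1 := by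
      by_cases hm : m = 1
      · exact Or.inl hm
      · right
        exact lemmaK hG hsymp C c m (by omega) hord hZeq hZC hpow (fun a ha b _ => hPC a ha b)
    obtain ⟨E, hEC, hUE, hEZ, hEdec⟩ := exists_E C c m hm1 hord hZeq hZC hpow hcmU hexp
    have hcardU : Nat.card (Subgroup.zpowers (c ^ p ^ (m - 1))) = p := by
      rw [Nat.card_zpowers, Cfsg.Agent.S3761.orderOf_zz hord hm1]
    have hXS : XS p E (Subgroup.zpowers (c ^ p ^ (m - 1))) := by
      refine ⟨⟨hUE, fun u hu e _ => hUcen u hu e, fun a ha b hb => hcmU a (hEC ha) b (hEC hb)⟩,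
        hcardU, ?_, ?_, ?_⟩
      · intro e he
        exact hEZ (Subgroup.mem_inf.mpr ⟨E.pow_mem he p, hpow e (hEC he)⟩)
      · intro e he hec
        apply hEZ
        refine Subgroup.mem_inf.mpr ⟨he, ?_⟩
        rw [← hZeq, Subgroup.mem_centralizer_iff]
        intro a ha
        obtain ⟨e', he', w, hw, rfl⟩ := hEdec a ha
        have h1 : Commute e e' := hec e' he'
        have h2 : Commute e w := (hZcen w hw e (hEC he)).symm
        exact (h1.mul_right h2).eq.symm
      · obtain ⟨e, he, w, hw, rfl⟩ := hEdec x hxC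
        obtain ⟨e', he', w', hw', rfl⟩ := hEdec y hyC
        refine ⟨e, he, e', he', ?_⟩
        intro hee
        apply hxy
        have h1 : Commute w (e' * w') := hZcen w hw _ (C.mul_mem (hEC he') (hZC hw'))
        have h2 : Commute w' (e * w) := hZcen w' hw' _ (C.mul_mem (hEC he) (hZC hw))
        have h3 : Commute w e' := hZcen w hw e' (hEC he')
        have h4 : Commute w' e := hZcen w' hw' e (hEC he)
        have h5 : Commute w w' := hcZcomm w hw w' hw'
        calc e * w * (e' * w') = e * (w * e') * w' := by group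
          _ = e * (e' * w) * w' := by rw [h3.eq]
          _ = (e * e') * (w * w') := by group
          _ = (e' * e) * (w' * w) := by rw [hee, h5.eq]
          _ = e' * (e * w') * w := by group
          _ = e' * (w' * e) * w := by rw [h4.eq]
          _ = e' * w' * (e * w) := by group
    have hEG := comm_mem_U C E c m hm1 hord hZcen hPC hEC hXS.pow hUc
    have hdec := hXS.sup_centralizer hp.out hUcen hEG
    have hcR : c ∈ Subgroup.centralizer (E : Set G) := by
      rw [Subgroup.mem_centralizer_iff]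
      intro e he
      exact (hZcen c (Subgroup.mem_zpowers c) e (hEC he)).symm
    apply R_analysis hG hsymp E (Subgroup.centralizer (E : Set G)) c m hord hZchar hcR rfl hdec
      (Or.inr hXS) ?_ hUc
    intro r hr hrc
    rw [← hZeq, Subgroup.mem_centralizer_iff]
    intro a ha
    obtain ⟨e, he, w, hw, rfl⟩ := hEdec a ha
    rw [Subgroup.mem_centralizer_iff] at hr
    have h1 : Commute r e := (hr e he).symm
    have h2 : Commute r w := by
      obtain ⟨k, rfl⟩ := Subgroup.mem_zpowers_iff.mp hw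
      exact (show Commute r c from hrc).zpow_right k
    exact (h1.mul_right h2).eq.symm

end final

/-- Let G be a finite p-group of symplectic type: every characteristic abelian subgroup of G is cyclic. Then G = E ∗ R is a central product of subgroups E and R (they commute elementwise and generate G) where E is extraspecial or trivial, and R is cyclic, or p = 2 and R is dihedral, semidihedral or generalized quaternion of order at least 16. -/
theorem result {G : Type*} [Group G] [Finite G] {p : ℕ} [Fact p.Prime] (hG : IsPGroup p G) (hsymp : ∀ A : Subgroup G, A.Characteristic → IsMulCommutative A → IsCyclic A) : ∃ E R : Subgroup G, (∀ e ∈ E, ∀ r ∈ R, e * r = r * e) ∧ E ⊔ R = ⊤ ∧ (E = ⊥ ∨ Cfsg.IsExtraspecial p ↥E) ∧ (IsCyclic R ∨ (p = 2 ∧ 16 ≤ Nat.card R ∧ ((∃ m : ℕ, Nonempty (↥R ≃* DihedralGroup m)) ∨ (∃ m : ℕ, Nonempty (↥R ≃* QuaternionGroup m)) ∨ Cfsg.IsQuasiDihedral ↥R))) :=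
  main hG hsymp

end Cfsg.Agent.S3762
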