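import Mathlib
import Cfsg.Statements.S2671
import Cfsg.Agent.Lib.Helper13.UnitaryPrime

set_option autoImplicit false
open Cfsg

namespace Cfsg.Agent.S2671

open Cfsg.Agent.Helper13.SS Cfsg.Agent.Helper13.SympSS Cfsg.Agent.Helper13.Uni
  Cfsg.Agent.Helper13.HermSS Polynomial

open scoped Classical

section
variable {K : Type*} [Field K] [Fintype K] {p q n r : ℕ} [Fact p.Prime] [CharP K p]

theorem pres_det_ne_zero (hK : Fintype.card K = q ^ 2) {y : Matrix (Fin n) (Fin n) K}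
    (hy : Pres q y) : y.det ≠ 0 := by
  intro h0
  have := hy.det_norm hK
  rw [h0, zero_mul] at this
  exact zero_ne_one this

/-- a matrix preserving the hermitian form as an element of the unitary group -/
noncomputable def mkGU (hK : Fintype.card K = q ^ 2) (y : Matrix (Fin n) (Fin n) K)
    (hy : Pres q y) : ↥(Cfsg.GU n K q) :=
  ⟨Matrix.GeneralLinearGroup.mkOfDetNeZero y (pres_det_ne_zero hK hy), fun u v => hy u v⟩

theorem coe_mkGU (hK : Fintype.card K = q ^ 2) (y : Matrix (Fin n) (Fin n) K) (hy : Pres q y) :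
    ((mkGU hK y hy : Matrix.GeneralLinearGroup (Fin n) K) : Matrix (Fin n) (Fin n) K) = y := rfl

theorem pres_of_mem (g : ↥(Cfsg.GU n K q)) :
    Pres q ((g : Matrix.GeneralLinearGroup (Fin n) K) : Matrix (Fin n) (Fin n) K) :=
  fun u v => g.2 u v

theorem coe_pow_gu (g : ↥(Cfsg.GU n K q)) (m : ℕ) :
    (((g ^ m : ↥(Cfsg.GU n K q)) : Matrix.GeneralLinearGroup (Fin n) K) :
      Matrix (Fin n) (Fin n) K) =
    ((g : Matrix.GeneralLinearGroup (Fin n) K) : Matrix (Fin n) (Fin n) K) ^ m := by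
  rw [SubmonoidClass.coe_pow, Units.val_pow_eq_pow_val]

theorem gu_charpoly_eq_of_isConj {g h : ↥(Cfsg.GU n K q)} (hgh : IsConj g h) :
    ((g : Matrix.GeneralLinearGroup (Fin n) K) : Matrix (Fin n) (Fin n) K).charpoly =
      ((h : Matrix.GeneralLinearGroup (Fin n) K) : Matrix (Fin n) (Fin n) K).charpoly := by
  obtain ⟨y, rfl⟩ := isConj_iff.1 hgh
  have h1 : (((y * g * y⁻¹ : ↥(Cfsg.GU n K q)) : Matrix.GeneralLinearGroup (Fin n) K) :
      Matrix (Fin n) (Fin n) K) =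
      ((y : Matrix.GeneralLinearGroup (Fin n) K) : Matrix (Fin n) (Fin n) K) *
        (((g * y⁻¹ : ↥(Cfsg.GU n K q)) : Matrix.GeneralLinearGroup (Fin n) K) :
          Matrix (Fin n) (Fin n) K) := by
    rw [mul_assoc]
    rfl
  rw [h1, Matrix.charpoly_mul_comm]
  have h2 : (((g * y⁻¹ : ↥(Cfsg.GU n K q)) : Matrix.GeneralLinearGroup (Fin n) K) :
      Matrix (Fin n) (Fin n) K) *
      ((y : Matrix.GeneralLinearGroup (Fin n) K) : Matrix (Fin n) (Fin n) K) =
      (((g * y⁻¹ * y : ↥(Cfsg.GU n K q)) : Matrix.GeneralLinearGroup (Fin n) K) :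
        Matrix (Fin n) (Fin n) K) := rfl
  rw [h2, inv_mul_cancel_right]

/-- semisimple elements of `GU` with the same characteristic polynomial are conjugate -/
theorem gu_isConj_of_charpoly (hK : Fintype.card K = q ^ 2) (hp' : p.Prime)
    (g h : ↥(Cfsg.GU n K q)) (M : ℕ)
    (hM : 1 ≤ M) (hMK : (M : K) ≠ 0) (hgM : g ^ M = 1) (hhM : h ^ M = 1)
    (hc : ((g : Matrix.GeneralLinearGroup (Fin n) K) : Matrix (Fin n) (Fin n) K).charpoly =
      ((h : Matrix.GeneralLinearGroup (Fin n) K) : Matrix (Fin n) (Fin n) K).charpoly) :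
    IsConj g h := by
  have haM : ((g : Matrix.GeneralLinearGroup (Fin n) K) : Matrix (Fin n) (Fin n) K) ^ M = 1 := by
    rw [← coe_pow_gu, hgM]
    rfl
  have hbM : ((h : Matrix.GeneralLinearGroup (Fin n) K) : Matrix (Fin n) (Fin n) K) ^ M = 1 := by
    rw [← coe_pow_gu, hhM]
    rfl
  obtain ⟨y, hy, hya⟩ := exists_unitary_conj_of_charpoly hK p n _ _ (pres_of_mem g)
    (pres_of_mem h) M hM hMK haM hbM hc
  rw [isConj_iff]
  refine ⟨mkGU hK y hy, ?_⟩
  rw [mul_inv_eq_iff_eq_mul]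
  apply Subtype.ext
  apply Units.ext
  exact hya

variable {F : Type} [Field F] [Algebra F K] {σ : K →ₐ[F] K}

theorem exists_rep (hK : Fintype.card K = q ^ 2) (hσ : ∀ x, σ x = x ^ q)
    (hσ2 : ∀ x, σ (σ x) = x) (hσ1 : ∃ c, σ c ≠ c) (hr : r.Prime) (hr2 : r ≠ 2) (hrp : r ≠ p)
    (b : ℕ) (hb : ∀ f ∈ cycFactors K r, f.natDegree = b)
    (hcase : (∀ a, starU (K := K) hσ2 hr hr2 hrp a = a) ∨
      (∀ a, starU (K := K) hσ2 hr hr2 hrp a ≠ a))
    (k : {k : ↥(cycFactors K r) → ℕ // (∀ a, k (starU hσ2 hr hr2 hrp a) = k a) ∧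
      b * ∑ a, k a ≤ n}) :
    ∃ g : ↥(Cfsg.GU n K q), g ^ r = 1 ∧
      ((g : Matrix.GeneralLinearGroup (Fin n) K) : Matrix (Fin n) (Fin n) K).charpoly =
        uprimePoly r n b k.1 := by
  haveI : FiniteDimensional F K := Module.Finite.of_finite
  obtain ⟨G, hG1, hG2, hG3⟩ :=
    (ureal_uprimePoly (n := n) hσ2 hσ1 hr hr2 hrp b k.1 k.2.1 hcase).exists_matrix σ hσ hσ2 hσ1 n
      (natDegree_uprimePoly b hb k.1 k.2.2)
  refine ⟨mkGU hK G hG1, ?_, hG3⟩
  apply Subtype.ext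
  apply Units.ext
  rw [coe_pow_gu]
  exact hG2

/-- the number of classes of elements with `g ^ r = 1` -/
theorem card_classes_pow_eq_one (hK : Fintype.card K = q ^ 2) (hσ : ∀ x, σ x = x ^ q)
    (hσ2 : ∀ x, σ (σ x) = x) (hσ1 : ∃ c, σ c ≠ c) (hr : r.Prime) (hr2 : r ≠ 2) (hrp : r ≠ p)
    (b : ℕ) (hb0 : 0 < b) (hb : ∀ f ∈ cycFactors K r, f.natDegree = b)
    (hcase : (∀ a, starU (K := K) hσ2 hr hr2 hrp a = a) ∨
      (∀ a, starU (K := K) hσ2 hr hr2 hrp a ≠ a)) :
    Nat.card {C : ConjClasses ↥(Cfsg.GU n K q) //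
      ∃ g : ↥(Cfsg.GU n K q), ConjClasses.mk g = C ∧ g ^ r = 1} =
    Nat.card {k : ↥(cycFactors K r) → ℕ // (∀ a, k (starU hσ2 hr hr2 hrp a) = k a) ∧
      b * ∑ a, k a ≤ n} := by
  have hr1 : 1 ≤ r := hr.one_lt.le
  have hrK : (r : K) ≠ 0 := cast_ne_zero_of_prime_ne hr hrp
  symm
  let Θ : {k : ↥(cycFactors K r) → ℕ // (∀ a, k (starU hσ2 hr hr2 hrp a) = k a) ∧
      b * ∑ a, k a ≤ n} →
      {C : ConjClasses ↥(Cfsg.GU n K q) //
        ∃ g : ↥(Cfsg.GU n K q), ConjClasses.mk g = C ∧ g ^ r = 1} :=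
    fun k => ⟨ConjClasses.mk (exists_rep hK hσ hσ2 hσ1 hr hr2 hrp b hb hcase k).choose,
      (exists_rep hK hσ hσ2 hσ1 hr hr2 hrp b hb hcase k).choose, rfl,
      (exists_rep hK hσ hσ2 hσ1 hr hr2 hrp b hb hcase k).choose_spec.1⟩
  apply Nat.card_eq_of_bijective Θ
  constructor
  · intro k k' h
    have h2 : ConjClasses.mk (exists_rep hK hσ hσ2 hσ1 hr hr2 hrp b hb hcase k).choose =
        ConjClasses.mk (exists_rep hK hσ hσ2 hσ1 hr hr2 hrp b hb hcase k').choose :=
      congrArg Subtype.val h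
    rw [ConjClasses.mk_eq_mk_iff_isConj] at h2
    have h3 := gu_charpoly_eq_of_isConj h2
    rw [(exists_rep hK hσ hσ2 hσ1 hr hr2 hrp b hb hcase k).choose_spec.2,
      (exists_rep hK hσ hσ2 hσ1 hr hr2 hrp b hb hcase k').choose_spec.2] at h3
    exact Subtype.ext (uprimePoly_injective hr hrp _ _ _ h3)
  · rintro ⟨C, g, rfl, hg⟩
    have hgm : ((g : Matrix.GeneralLinearGroup (Fin n) K) : Matrix (Fin n) (Fin n) K) ^ r = 1 := by
      rw [← coe_pow_gu, hg]
      rfl
    obtain ⟨k, hk1, hk2, hk3⟩ := charpoly_eq_uprimePoly hσ hσ2 hσ1 hr hr2 hrp b hb0 hb _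
      (pres_of_mem g) hgm
    refine ⟨⟨k, hk1, hk2⟩, ?_⟩
    apply Subtype.ext
    show ConjClasses.mk (exists_rep hK hσ hσ2 hσ1 hr hr2 hrp b hb hcase ⟨k, hk1, hk2⟩).choose =
      ConjClasses.mk g
    rw [ConjClasses.mk_eq_mk_iff_isConj]
    apply gu_isConj_of_charpoly hK (Fact.out : p.Prime) _ g r hr1 hrK
      (exists_rep hK hσ hσ2 hσ1 hr hr2 hrp b hb hcase ⟨k, hk1, hk2⟩).choose_spec.1 hg
    rw [(exists_rep hK hσ hσ2 hσ1 hr hr2 hrp b hb hcase ⟨k, hk1, hk2⟩).choose_spec.2, hk3]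

end

/-- Number of conjugacy classes of elements of odd prime order r in the general unitary group GU_n(q), for r not dividing q(q + 1): let i be the multiplicative order of q modulo r, b = i if i is odd and b = i/2 if i is even, and s = (r − 1)/b. If i ≢ 2 (mod 4) the eigenvalue orbits pair off into dual pairs of totally isotropic blocks and there are C(⌊n/(2b)⌋ + s/2, s/2) − 1 classes; if i ≡ 2 (mod 4) each orbit gives a non-degenerate block of dimension i/2 and there are C(⌊2n/i⌋ + s, s) − 1 classes. -/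
theorem result {K : Type*} [Field K] [Fintype K] {p q n r i b s : ℕ} [Fact p.Prime] [CharP K p] (hK : Fintype.card K = q ^ 2) (hr : r.Prime) (hr2 : r ≠ 2) (hrp : r ≠ p) (hi : i = orderOf (q : ZMod r)) (hi2 : i ≠ 2) (hb : b = if Odd i then i else i / 2) (hs : s * b = r - 1) : Nat.card {C : ConjClasses ↥(Cfsg.GU n K q) // ∃ g : ↥(Cfsg.GU n K q), ConjClasses.mk g = C ∧ orderOf g = r} = if i % 4 = 2 then Nat.choose (2 * n / i + s) s - 1 else Nat.choose (n / (2 * b) + s / 2) (s / 2) - 1 := by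
  have hr2' := hr.two_le
  haveI : Fact r.Prime := ⟨hr⟩
  letI := ZMod.algebra K p
  obtain ⟨σ, hσ, hσ2, hσ1⟩ := exists_frobAlg hK p
  have hσ2' : ∀ x, (σ : K →+* K) ((σ : K →+* K) x) = x := hσ2
  have hb0 : 0 < b := by
    rcases Nat.eq_zero_or_pos b with h | h
    · rw [h, mul_zero] at hs
      omega
    · exact h
  have hi0 : 0 < i := by
    rcases Nat.eq_zero_or_pos i with h | h
    · rw [h] at hb
      simp at hb
      omega
    · exact h
  -- the degree of the cyclotomic factors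
  have hord : orderOf (((q ^ 2 : ℕ) : ZMod r)) = b := by
    rw [Nat.cast_pow, orderOf_pow' _ (two_ne_zero), ← hi, hb]
    split_ifs with hodd
    · have : Nat.gcd i 2 = 1 := Nat.coprime_two_right.2 hodd
      rw [this, Nat.div_one]
    · have hev : Even i := Nat.not_odd_iff_even.1 hodd
      have : Nat.gcd i 2 = 2 := Nat.gcd_eq_right hev.two_dvd
      rw [this]
  have hbdeg : ∀ f ∈ cycFactors K r, f.natDegree = b := by
    intro f hf
    rw [cycFactors_natDegree hK hr hrp hf, hord]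
  have hcard : Fintype.card ↥(cycFactors K r) = s := by
    have h1 := cycFactors_card hK hr hrp
    rw [hord, ← hs] at h1
    rw [Fintype.card_coe]
    exact Nat.eq_of_mul_eq_mul_right hb0 h1
  have hcase : (∀ a, starU (K := K) hσ2 hr hr2 hrp a = a) ∨
      (∀ a, starU (K := K) hσ2 hr hr2 hrp a ≠ a) := by
    by_cases h4 : i % 4 = 2
    · left
      intro a
      apply Subtype.ext
      exact cdual_eq_self_of_mod4 hK hσ hσ2' hr hrp (hi ▸ h4) a.2
    · right
      intro a h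
      exact cdual_ne_self_of_not_mod4 hK hσ hσ2' hr hr2 hrp (hi ▸ h4) a.2
        (congrArg Subtype.val h)
  have hmain := card_classes_pow_eq_one (n := n) hK hσ hσ2 hσ1 hr hr2 hrp b hb0 hbdeg hcase
  have hcount : Nat.card {k : ↥(cycFactors K r) → ℕ //
      (∀ a, k (starU hσ2 hr hr2 hrp a) = k a) ∧ b * ∑ a, k a ≤ n} =
      if i % 4 = 2 then Nat.choose (2 * n / i + s) s
      else Nat.choose (n / (2 * b) + s / 2) (s / 2) := by
    split_ifs with h4
    · have hall : ∀ a, starU (K := K) hσ2 hr hr2 hrp a = a := by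
        intro a
        apply Subtype.ext
        exact cdual_eq_self_of_mod4 hK hσ hσ2' hr hrp (hi ▸ h4) a.2
      rw [card_sym_tuples_trivial _ hall b n hb0, hcard]
      have hnodd : ¬ Odd i := by
        rw [Nat.not_odd_iff_even, Nat.even_iff]
        omega
      rw [if_neg hnodd] at hb
      have hi2b : i = 2 * b := by omega
      rw [hi2b, Nat.mul_div_mul_left n b (by norm_num : 0 < 2)]
    · have hnone : ∀ a, starU (K := K) hσ2 hr hr2 hrp a ≠ a := by
        intro a h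
        exact cdual_ne_self_of_not_mod4 hK hσ hσ2' hr hr2 hrp (hi ▸ h4) a.2
          (congrArg Subtype.val h)
      rw [card_sym_tuples_free _ (starU_involutive hσ2 hr hr2 hrp) hnone b n hb0, hcard]
  have hgoal : (if i % 4 = 2 then Nat.choose (2 * n / i + s) s - 1
      else Nat.choose (n / (2 * b) + s / 2) (s / 2) - 1) =
      (if i % 4 = 2 then Nat.choose (2 * n / i + s) s
        else Nat.choose (n / (2 * b) + s / 2) (s / 2)) - 1 := by
    split_ifs <;> rfl
  rw [hgoal, ← hcount, ← hmain]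
  -- remove the identity class
  have hset : {C : ConjClasses ↥(Cfsg.GU n K q) |
      ∃ g : ↥(Cfsg.GU n K q), ConjClasses.mk g = C ∧ orderOf g = r} =
      {C : ConjClasses ↥(Cfsg.GU n K q) |
        ∃ g : ↥(Cfsg.GU n K q), ConjClasses.mk g = C ∧ g ^ r = 1} \
        {ConjClasses.mk 1} := by
    ext C
    simp only [Set.mem_setOf_eq, Set.mem_diff, Set.mem_singleton_iff]
    constructor
    · rintro ⟨g, rfl, hg⟩
      rw [orderOf_eq_prime_iff] at hg
      refine ⟨⟨g, rfl, hg.1⟩, ?_⟩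
      rw [ConjClasses.mk_eq_mk_iff_isConj, isConj_one_left]
      exact hg.2
    · rintro ⟨⟨g, rfl, hg⟩, hne⟩
      refine ⟨g, rfl, ?_⟩
      rw [orderOf_eq_prime_iff]
      refine ⟨hg, ?_⟩
      rintro rfl
      exact hne rfl
  have hmem : ConjClasses.mk (1 : ↥(Cfsg.GU n K q)) ∈
      {C : ConjClasses ↥(Cfsg.GU n K q) |
        ∃ g : ↥(Cfsg.GU n K q), ConjClasses.mk g = C ∧ g ^ r = 1} :=
    ⟨1, rfl, one_pow r⟩
  have h2 := Set.ncard_diff_singleton_of_mem hmem
  rw [← hset] at h2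
  rw [← Nat.card_coe_set_eq, ← Nat.card_coe_set_eq] at h2
  exact h2

end Cfsg.Agent.S2671
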