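import Mathlib
import Cfsg.Statements.S2587
import Cfsg.Agent.Lib.Helper13.WallUnitary
import Cfsg.Agent.S2671

set_option autoImplicit false
open Cfsg

namespace Cfsg.Agent.S2587

open Cfsg.Agent.Helper13.Uni Cfsg.Agent.Helper13.Wall

/-- Conjugacy in the finite general unitary group is controlled by the general linear group: two elements of GU_n(q) (the invertible matrices over the field with q² elements preserving the Hermitian form Σ u_i v_i^q) are conjugate in GU_n(q) if and only if they are conjugate in GL_n(q²). -/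
theorem result {K : Type*} [Field K] [Fintype K] {q n : ℕ} (hK : Fintype.card K = q ^ 2) (A B : ↥(Cfsg.GU n K q)) : IsConj A B ↔ IsConj (A : GL (Fin n) K) (B : GL (Fin n) K) := by
  classical
  constructor
  · intro h
    exact (Subgroup.subtype (Cfsg.GU n K q)).map_isConj h
  · intro h
    obtain ⟨p, hchar⟩ := CharP.exists K
    haveI := hchar
    haveI : Fact p.Prime := ⟨CharP.char_is_prime K p⟩
    obtain ⟨x, hx⟩ := isConj_iff.1 h
    set a : Matrix (Fin n) (Fin n) K := ((A : GL (Fin n) K) : Matrix (Fin n) (Fin n) K) with ha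
    set b : Matrix (Fin n) (Fin n) K := ((B : GL (Fin n) K) : Matrix (Fin n) (Fin n) K) with hb
    have hxab : (x : Matrix (Fin n) (Fin n) K) * a = b * (x : Matrix (Fin n) (Fin n) K) := by
      have h1 : x * (A : GL (Fin n) K) = (B : GL (Fin n) K) * x := by
        rw [← hx]
        group
      have h2 := congrArg (fun g : GL (Fin n) K => (g : Matrix (Fin n) (Fin n) K)) h1
      simpa using h2
    set M := orderOf A with hMdef
    have hM : 1 ≤ M := orderOf_pos A
    have haM : a ^ M = 1 := by
      rw [ha, ← Cfsg.Agent.S2671.coe_pow_gu, hMdef, pow_orderOf_eq_one]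
      rfl
    -- the intertwiner as a linear equivalence
    let T : (Fin n → K) ≃ₗ[K] (Fin n → K) :=
      Matrix.toLin'OfInv (M' := (x : Matrix (Fin n) (Fin n) K))
        (M := ((x⁻¹ : GL (Fin n) K) : Matrix (Fin n) (Fin n) K))
        (by rw [← Units.val_mul, inv_mul_cancel]; rfl)
        (by rw [← Units.val_mul, mul_inv_cancel]; rfl)
    have hTa : ∀ v, T v = (x : Matrix (Fin n) (Fin n) K).mulVec v := fun v =>
      Matrix.toLin'_apply _ _
    have hT : ∀ v, T (a.mulVec v) = b.mulVec (T v) := by
      intro v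
      rw [hTa, hTa, Matrix.mulVec_mulVec, Matrix.mulVec_mulVec, hxab]
    obtain ⟨y, hy, hya⟩ := exists_unitary_conj_W hK p n a b (Cfsg.Agent.S2671.pres_of_mem A)
      (Cfsg.Agent.S2671.pres_of_mem B) M hM haM T hT
    rw [isConj_iff]
    refine ⟨Cfsg.Agent.S2671.mkGU hK y hy, ?_⟩
    rw [mul_inv_eq_iff_eq_mul]
    apply Subtype.ext
    apply Units.ext
    exact hya

end Cfsg.Agent.S2587
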