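import Mathlib
import Cfsg.Statements.S2588
import Cfsg.Agent.Lib.Helper13.SesqUnitary
import Cfsg.Agent.S2671
import Cfsg.Agent.Lib.Helper11.Unitary2

set_option autoImplicit false
open Cfsg

namespace Cfsg.Agent.S2588

open Cfsg.Agent.Helper13.Uni Cfsg.Agent.Helper13.Sesq Cfsg.Agent.Helper11.Herm Matrix

section
variable {K : Type*} [Field K] {n : ℕ}

/-- the conjugate transpose -/
def cstar (φ : K →+* K) (X : Matrix (Fin n) (Fin n) K) : Matrix (Fin n) (Fin n) K := (X.map φ)ᵀ

theorem cstar_mul (φ : K →+* K) (X Y : Matrix (Fin n) (Fin n) K) :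
    cstar φ (X * Y) = cstar φ Y * cstar φ X := by
  unfold cstar
  rw [Matrix.map_mul, Matrix.transpose_mul]

theorem det_cstar (φ : K →+* K) (X : Matrix (Fin n) (Fin n) K) :
    (cstar φ X).det = φ X.det := by
  unfold cstar
  rw [Matrix.det_transpose, RingHom.map_det]
  rfl

theorem isUnit_det_cstar (φ : K →+* K) (X : Matrix (Fin n) (Fin n) K) (hX : IsUnit X.det) :
    IsUnit (cstar φ X).det := by
  rw [det_cstar]
  exact hX.map φ

/-- similarity to the inverse conjugate transpose in terms of an invariant sesquilinear form -/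
theorem isConj_iff_star (φ : K →+* K) (a : Matrix (Fin n) (Fin n) K) (ha : IsUnit a.det) :
    IsConj a (cstar φ a)⁻¹ ↔
      ∃ c : Matrix (Fin n) (Fin n) K, IsUnit c.det ∧ cstar φ a * c * a = c := by
  have has : IsUnit (cstar φ a).det := isUnit_det_cstar φ a ha
  constructor
  · rintro ⟨c, hc⟩
    refine ⟨(c : Matrix (Fin n) (Fin n) K), ?_, ?_⟩
    · exact (Matrix.isUnit_iff_isUnit_det _).1 c.isUnit
    · have h1 : (c : Matrix (Fin n) (Fin n) K) * a = (cstar φ a)⁻¹ * c := hc
      rw [mul_assoc, h1, ← mul_assoc, Matrix.mul_nonsing_inv _ has, one_mul]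
  · rintro ⟨c, hc, hac⟩
    refine ⟨((Matrix.isUnit_iff_isUnit_det c).2 hc).unit, ?_⟩
    show c * a = (cstar φ a)⁻¹ * c
    conv_rhs => rw [← hac]
    rw [mul_assoc, ← mul_assoc, Matrix.nonsing_inv_mul _ has, one_mul]

end

/-- An invertible matrix A over the field with q² elements is conjugate in GL_n(q²) to an element of the general unitary group GU_n(q) (isometries of the Hermitian form Σ u_i v_i^q) if and only if A is similar to the inverse transpose of its entrywise q-th power (A ~ A^(−qT), the image of A under the map sending a matrix to the inverse transpose of its entrywise q-th power — inverse transpose composed with the field automorphism — whose fixed points form GU_n(q)). -/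
theorem result {K : Type*} [Field K] [Fintype K] {q n : ℕ} (hK : Fintype.card K = q ^ 2) (A : GL (Fin n) K) : (∃ B : ↥(Cfsg.GU n K q), IsConj A (B : GL (Fin n) K)) ↔ IsConj (A : Matrix (Fin n) (Fin n) K) (((A : Matrix (Fin n) (Fin n) K).map (fun x : K => x ^ q)).transpose)⁻¹ := by
  classical
  obtain ⟨p, hchar⟩ := CharP.exists K
  haveI := hchar
  haveI : Fact p.Prime := ⟨CharP.char_is_prime K p⟩
  letI := ZMod.algebra K p
  obtain ⟨σ, hσ, hσ2, hσ1⟩ := exists_frobAlg hK p
  set φ : K →+* K := (σ : K →+* K) with hφdef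
  have hφ : ∀ x, φ x = x ^ q := hσ
  have hφ2 : ∀ x, φ (φ x) = x := hσ2
  set a : Matrix (Fin n) (Fin n) K := (A : Matrix (Fin n) (Fin n) K) with ha
  have hmap : ((a.map (fun x : K => x ^ q)).transpose) = cstar φ a := by
    unfold cstar
    congr 1
    ext i j
    simp [hφ]
  have hadet : IsUnit a.det := (Matrix.isUnit_iff_isUnit_det _).1 A.isUnit
  rw [hmap, isConj_iff_star φ a hadet]
  constructor
  · rintro ⟨B, hAB⟩
    obtain ⟨x, hx⟩ := isConj_iff.1 hAB
    set b : Matrix (Fin n) (Fin n) K := ((B : GL (Fin n) K) : Matrix (Fin n) (Fin n) K) with hb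
    set X : Matrix (Fin n) (Fin n) K := (x : Matrix (Fin n) (Fin n) K) with hX
    have hXa : X * a = b * X := by
      have h1 : x * A = (B : GL (Fin n) K) * x := by
        rw [← hx]
        group
      have h2 := congrArg (fun g : GL (Fin n) K => (g : Matrix (Fin n) (Fin n) K)) h1
      simpa using h2
    have hbU : IsU φ b := (mem_GU_iff_isU φ hφ n (B : GL (Fin n) K)).1 B.2
    have hbb : cstar φ b * b = 1 := by
      unfold cstar
      have h1 := congrArg Matrix.transpose hbU
      rwa [Matrix.transpose_mul, Matrix.transpose_transpose, Matrix.transpose_one] at h1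
    have hXdet : IsUnit X.det := (Matrix.isUnit_iff_isUnit_det _).1 x.isUnit
    refine ⟨cstar φ X * X, ?_, ?_⟩
    · rw [Matrix.det_mul]
      exact (isUnit_det_cstar φ X hXdet).mul hXdet
    · calc cstar φ a * (cstar φ X * X) * a = (cstar φ a * cstar φ X) * (X * a) := by
            simp only [mul_assoc]
        _ = cstar φ (X * a) * (X * a) := by rw [cstar_mul]
        _ = cstar φ (b * X) * (b * X) := by rw [hXa]
        _ = cstar φ X * (cstar φ b * b) * X := by rw [cstar_mul]; simp only [mul_assoc]
        _ = cstar φ X * X := by rw [hbb, mul_one]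
  · rintro ⟨c, hc, hac⟩
    set M := orderOf A with hMdef
    have hM : 1 ≤ M := orderOf_pos A
    have haM : a ^ M = 1 := by
      rw [ha, ← Units.val_pow_eq_pow_val, hMdef, pow_orderOf_eq_one]
      rfl
    obtain ⟨b, T, hb, hT⟩ := exists_unitary_of_star σ hσ hσ2 hσ1 n a c M hM haM hc hac
    refine ⟨Cfsg.Agent.S2671.mkGU hK b hb, ?_⟩
    -- the intertwiner as an element of `GL`
    set y : Matrix (Fin n) (Fin n) K :=
      LinearMap.toMatrix' (T : (Fin n → K) →ₗ[K] (Fin n → K)) with hy
    set yi : Matrix (Fin n) (Fin n) K :=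
      LinearMap.toMatrix' (T.symm : (Fin n → K) →ₗ[K] (Fin n → K)) with hyi
    have hyyi : y * yi = 1 := by
      rw [hy, hyi, ← LinearMap.toMatrix'_comp]
      have : (T : (Fin n → K) →ₗ[K] (Fin n → K)) ∘ₗ (T.symm : (Fin n → K) →ₗ[K] (Fin n → K))
          = LinearMap.id := LinearMap.ext (fun v => T.apply_symm_apply v)
      rw [this, LinearMap.toMatrix'_id]
    have hyiy : yi * y = 1 := by
      rw [hy, hyi, ← LinearMap.toMatrix'_comp]
      have : (T.symm : (Fin n → K) →ₗ[K] (Fin n → K)) ∘ₗ (T : (Fin n → K) →ₗ[K] (Fin n → K))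
          = LinearMap.id := LinearMap.ext (fun v => T.symm_apply_apply v)
      rw [this, LinearMap.toMatrix'_id]
    let g : GL (Fin n) K := ⟨y, yi, hyyi, hyiy⟩
    rw [isConj_iff]
    refine ⟨g, ?_⟩
    rw [mul_inv_eq_iff_eq_mul]
    apply Units.ext
    show y * a = b * y
    apply Matrix.toLin'.injective
    apply LinearMap.ext
    intro v
    have hyv : ∀ w, y *ᵥ w = T w := by
      intro w
      rw [hy, LinearMap.toMatrix'_mulVec]
      rfl
    rw [Matrix.toLin'_mul, Matrix.toLin'_mul, LinearMap.comp_apply, LinearMap.comp_apply,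
      Matrix.toLin'_apply, Matrix.toLin'_apply, Matrix.toLin'_apply, Matrix.toLin'_apply,
      hyv, hyv, hT]

end Cfsg.Agent.S2588
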