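import Mathlib
import Cfsg.Statements.S0783
import Cfsg.Agent.Lib.Helper11.Unitary2

set_option autoImplicit false
open Cfsg

namespace Cfsg.Agent.S0783

open Matrix Cfsg.Agent.Helper11.Herm

section

variable {F : Type*} [Field F] {q : ℕ}

/-- Constructor for elements of `GU`. -/
noncomputable def mkGU (φ : F →+* F) (hφ : ∀ x, φ x = x ^ q) (n : ℕ) (M : Matrix (Fin n) (Fin n) F)
    (hM : IsU φ M) : ↥(Cfsg.GU n F q) :=
  ⟨Matrix.GeneralLinearGroup.mkOfDetNeZero M (hM.det_ne_zero φ), (mem_GU_iff_isU φ hφ n _).2 hM⟩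

theorem mkGU_val (φ : F →+* F) (hφ : ∀ x, φ x = x ^ q) (n : ℕ) (M : Matrix (Fin n) (Fin n) F)
    (hM : IsU φ M) :
    (((mkGU φ hφ n M hM : ↥(Cfsg.GU n F q)) : GL (Fin n) F) : Matrix (Fin n) (Fin n) F) = M := rfl

theorem isU_permMatrix (φ : F →+* F) (n : ℕ) (σ : Equiv.Perm (Fin n)) : IsU φ (σ.permMatrix F) := by
  unfold IsU
  rw [PEquiv.map_toMatrix, Matrix.transpose_permMatrix, ← Matrix.permMatrix_mul, mul_inv_cancel,
    Matrix.permMatrix_one]

theorem GU_mul_val (n : ℕ) (a b : ↥(Cfsg.GU n F q)) :
    (((a * b : ↥(Cfsg.GU n F q)) : GL (Fin n) F) : Matrix (Fin n) (Fin n) F) =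
      ((a : GL (Fin n) F) : Matrix (Fin n) (Fin n) F) * ((b : GL (Fin n) F) : Matrix (Fin n) (Fin n) F) := rfl

/-- A central element of `GU` is a scalar matrix. -/
theorem center_scalar (φ : F →+* F) (hφ : ∀ x, φ x = x ^ q) (n : ℕ) (ζ : F) (hζ : ζ * φ ζ = 1)
    (hζ1 : ζ ≠ 1) (z : ↥(Cfsg.GU n F q)) (hz : z ∈ Subgroup.center ↥(Cfsg.GU n F q)) (i0 : Fin n) :
    ((z : GL (Fin n) F) : Matrix (Fin n) (Fin n) F) =
      Matrix.diagonal (fun _ => ((z : GL (Fin n) F) : Matrix (Fin n) (Fin n) F) i0 i0) := by
  rw [Subgroup.mem_center_iff] at hz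
  set Z : Matrix (Fin n) (Fin n) F := ((z : GL (Fin n) F) : Matrix (Fin n) (Fin n) F) with hZ
  -- off-diagonal entries vanish
  have hoff : ∀ k l : Fin n, k ≠ l → Z k l = 0 := by
    intro k l hkl
    set d : Fin n → F := Function.update (fun _ => (1 : F)) l ζ with hd
    have hdU : IsU φ (Matrix.diagonal d) := by
      apply isU_diagonal
      intro i
      by_cases hi : i = l
      · subst hi
        simp only [hd, Function.update_self]
        exact hζ
      · simp only [hd, Function.update_of_ne hi]
        rw [map_one, mul_one]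
    have hcomm := hz (mkGU φ hφ n _ hdU)
    have h1 := congrArg (fun g : ↥(Cfsg.GU n F q) =>
      ((g : GL (Fin n) F) : Matrix (Fin n) (Fin n) F) k l) hcomm
    simp only [GU_mul_val, mkGU_val] at h1
    rw [Matrix.diagonal_mul, Matrix.mul_diagonal] at h1
    have hdk : d k = 1 := by simp only [hd, Function.update_of_ne hkl]
    have hdl : d l = ζ := by simp only [hd, Function.update_self]
    rw [hdk, hdl, one_mul] at h1
    have h2 : Z k l * (ζ - 1) = 0 := by
      rw [mul_sub, mul_one, ← h1, sub_self]
    rcases mul_eq_zero.mp h2 with h | h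
    · exact h
    · exact absurd (sub_eq_zero.mp h) hζ1
  have hdiag : Z = Matrix.diagonal (fun i => Z i i) := by
    ext k l
    by_cases hkl : k = l
    · subst hkl; simp
    · rw [hoff k l hkl, Matrix.diagonal_apply_ne _ hkl]
  -- diagonal entries agree
  have heq : ∀ i j : Fin n, Z i i = Z j j := by
    intro i j
    have hcomm := hz (mkGU φ hφ n _ (isU_permMatrix φ n (Equiv.swap i j)))
    have h1 := congrArg (fun g : ↥(Cfsg.GU n F q) =>
      ((g : GL (Fin n) F) : Matrix (Fin n) (Fin n) F) i j) hcomm
    simp only [GU_mul_val, mkGU_val] at h1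
    rw [← hZ, hdiag, Matrix.diagonal_mul, Matrix.mul_diagonal] at h1
    have hP : (Equiv.swap i j).permMatrix F i j = 1 := by
      rw [Equiv.Perm.permMatrix, PEquiv.toMatrix_toPEquiv_apply, Equiv.swap_apply_left,
        Pi.single_eq_same]
    rw [hP, one_mul, mul_one] at h1
    exact h1.symm
  have hfun : (fun i => Z i i) = fun _ => Z i0 i0 := funext (fun i => heq i i0)
  conv_lhs => rw [hdiag, hfun]

end

/-- PGU_n(q)/PSU_n(q) is cyclic of order (n, q+1): for n ≥ 2 and |F| = q² there is a surjective homomorphism from GU_n(q) onto the cyclic group of order gcd(n, q + 1) whose kernel is generated by the determinant-one elements together with the centre. -/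
theorem result {F : Type*} [Field F] [Fintype F] {q : ℕ} (hF : Fintype.card F = q ^ 2) (n : ℕ) (hn : 2 ≤ n) : ∃ φ : ↥(Cfsg.GU n F q) →* Multiplicative (ZMod (Nat.gcd n (q + 1))), Function.Surjective φ ∧ φ.ker = (Matrix.GeneralLinearGroup.det : Matrix.GeneralLinearGroup (Fin n) F →* Fˣ).ker.subgroupOf (Cfsg.GU n F q) ⊔ Subgroup.center ↥(Cfsg.GU n F q) := by
  classical
  obtain ⟨fr, hfr⟩ := exists_frob hF
  have hq2 : 2 ≤ q := two_le_q hF
  -- the norm-one group
  set μ : Subgroup Fˣ := (powMonoidHom (q + 1) : Fˣ →* Fˣ).ker with hμ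
  have hrange := range_detGU hF n (by omega : 1 ≤ n)
  have hcardμ : Nat.card ↥μ = q + 1 := by
    rw [hμ, IsCyclic.card_powMonoidHom_ker, Nat.card_units, Nat.card_eq_fintype_card, hF]
    have h1 : q ^ 2 - 1 = (q - 1) * (q + 1) := by
      obtain ⟨k, rfl⟩ : ∃ k, q = k + 1 := ⟨q - 1, by omega⟩
      simp only [Nat.add_sub_cancel]
      have : (k + 1) ^ 2 = k * (k + 1 + 1) + 1 := by ring
      rw [this, Nat.add_sub_cancel]
    rw [h1]
    exact Nat.gcd_mul_left_left (q - 1) (q + 1)
  -- the determinant into μ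
  set detμ : ↥(Cfsg.GU n F q) →* ↥μ := (detGU n F q).codRestrict μ (fun g => by
    rw [hμ, ← hrange]; exact ⟨g, rfl⟩) with hdetμ
  have hdetμ_val : ∀ g, ((detμ g : ↥μ) : Fˣ) = detGU n F q g := fun g => rfl
  have hdetμ_surj : Function.Surjective detμ := by
    intro u
    have : (u : Fˣ) ∈ (detGU n F q).range := by rw [hrange]; exact u.2
    obtain ⟨g, hg⟩ := this
    exact ⟨g, Subtype.ext hg⟩
  -- the quotient by n-th powers
  set R : Subgroup ↥μ := (powMonoidHom n : ↥μ →* ↥μ).range with hR
  have hcycQ : IsCyclic (↥μ ⧸ R) :=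
    isCyclic_of_surjective (QuotientGroup.mk' R) (QuotientGroup.mk'_surjective R)
  have hcardQ : Nat.card (↥μ ⧸ R) = Nat.card (Multiplicative (ZMod (Nat.gcd n (q + 1)))) := by
    rw [Nat.card_congr Multiplicative.toAdd, Nat.card_zmod]
    show R.index = _
    rw [hR, IsCyclic.index_powMonoidHom_range, hcardμ, Nat.gcd_comm]
  set e : (↥μ ⧸ R) ≃* Multiplicative (ZMod (Nat.gcd n (q + 1))) := mulEquivOfCyclicCardEq hcardQ with he
  refine ⟨e.toMonoidHom.comp ((QuotientGroup.mk' R).comp detμ), ?_, ?_⟩
  · exact e.surjective.comp ((QuotientGroup.mk'_surjective R).comp hdetμ_surj)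
  · -- kernel
    have hker : ∀ g : ↥(Cfsg.GU n F q),
        g ∈ (e.toMonoidHom.comp ((QuotientGroup.mk' R).comp detμ)).ker ↔ ∃ l : ↥μ, l ^ n = detμ g := by
      intro g
      rw [MonoidHom.mem_ker, MonoidHom.comp_apply, MonoidHom.comp_apply]
      show e _ = 1 ↔ _
      rw [EmbeddingLike.map_eq_one_iff, QuotientGroup.mk'_apply, QuotientGroup.eq_one_iff, hR,
        MonoidHom.mem_range]
      rfl
    -- an element of μ different from one
    have hexζ : ∃ ζ : ↥μ, ζ ≠ 1 := by
      have hfin : Finite ↥μ := Nat.finite_of_card_ne_zero (by rw [hcardμ]; omega)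
      have : Nontrivial ↥μ := (Finite.one_lt_card_iff_nontrivial).mp (by rw [hcardμ]; omega)
      exact exists_ne 1
    obtain ⟨ζ, hζ1⟩ := hexζ
    have hnorm : ∀ l : ↥μ, ((l : Fˣ) : F) * fr ((l : Fˣ) : F) = 1 := by
      intro l
      have h1 : (l : Fˣ) ^ (q + 1) = 1 := l.2
      have h2 := congrArg Units.val h1
      rw [Units.val_pow_eq_pow_val, Units.val_one, pow_succ, mul_comm] at h2
      rw [hfr]
      exact h2
    ext g
    rw [hker]
    constructor
    · rintro ⟨l, hl⟩
      -- the scalar element
      set s : ↥(Cfsg.GU n F q) := mkGU fr hfr n (Matrix.diagonal (fun _ => ((l : Fˣ) : F)))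
        (isU_diagonal fr _ (fun _ => hnorm l)) with hs
      have hscentral : s ∈ Subgroup.center ↥(Cfsg.GU n F q) := by
        rw [Subgroup.mem_center_iff]
        intro a
        apply Subtype.ext
        apply Units.ext
        rw [GU_mul_val, GU_mul_val, hs, mkGU_val]
        ext i j
        rw [Matrix.diagonal_mul, Matrix.mul_diagonal, mul_comm]
      have hsdet : ((detGU n F q s : Fˣ) : F) = ((l : Fˣ) : F) ^ n := by
        rw [detGU_apply, hs, mkGU_val, Matrix.det_diagonal, Finset.prod_const, Finset.card_univ,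
          Fintype.card_fin]
      have hgs : g * s⁻¹ ∈ (Matrix.GeneralLinearGroup.det : Matrix.GeneralLinearGroup (Fin n) F →* Fˣ).ker.subgroupOf
          (Cfsg.GU n F q) := by
        rw [Subgroup.mem_subgroupOf, MonoidHom.mem_ker]
        have h1 : Matrix.GeneralLinearGroup.det ((g * s⁻¹ : ↥(Cfsg.GU n F q)) : GL (Fin n) F) =
            detGU n F q g * (detGU n F q s)⁻¹ := by
          rw [← map_inv, ← map_mul]
          rfl
        rw [h1, mul_inv_eq_one]
        apply Units.ext
        rw [hsdet, ← hdetμ_val, ← hl]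
        simp
      have : g = g * s⁻¹ * s := by group
      rw [this]
      exact Subgroup.mul_mem_sup hgs hscentral
    · intro hg
      -- the set of elements with determinant an n-th power is a subgroup containing both
      have hsub : (Matrix.GeneralLinearGroup.det : Matrix.GeneralLinearGroup (Fin n) F →* Fˣ).ker.subgroupOf
          (Cfsg.GU n F q) ⊔ Subgroup.center ↥(Cfsg.GU n F q) ≤
          (e.toMonoidHom.comp ((QuotientGroup.mk' R).comp detμ)).ker := by
        apply sup_le
        · intro a ha
          rw [hker]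
          rw [Subgroup.mem_subgroupOf, MonoidHom.mem_ker] at ha
          refine ⟨1, ?_⟩
          rw [one_pow]
          apply Subtype.ext
          rw [hdetμ_val]
          exact ha.symm
        · intro z hz
          rw [hker]
          have hζ' : ((ζ : Fˣ) : F) ≠ 1 := by
            intro h
            apply hζ1
            apply Subtype.ext
            apply Units.ext
            exact h
          have hsc := center_scalar fr hfr n _ (hnorm ζ) hζ' z hz ⟨0, by omega⟩
          set c : F := ((z : GL (Fin n) F) : Matrix (Fin n) (Fin n) F) ⟨0, by omega⟩ ⟨0, by omega⟩ with hc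
          have hzU : IsU fr ((z : GL (Fin n) F) : Matrix (Fin n) (Fin n) F) :=
            (mem_GU_iff_isU fr hfr n _).1 z.2
          have hcnorm : c * fr c = 1 := by
            unfold IsU at hzU
            rw [hsc, Matrix.diagonal_transpose, Matrix.diagonal_map (map_zero fr),
              Matrix.diagonal_mul_diagonal] at hzU
            have := congrFun (congrFun hzU ⟨0, by omega⟩) ⟨0, by omega⟩
            simpa using this
          have hc0 : c ≠ 0 := by
            intro h0
            rw [h0, zero_mul] at hcnorm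
            exact zero_ne_one hcnorm
          have hcμ : Units.mk0 c hc0 ∈ μ := by
            rw [hμ, MonoidHom.mem_ker, powMonoidHom_apply]
            apply Units.ext
            rw [Units.val_pow_eq_pow_val, Units.val_one, Units.val_mk0, pow_succ, mul_comm, ← hfr, mul_comm]
            rw [mul_comm]
            exact hcnorm
          refine ⟨⟨Units.mk0 c hc0, hcμ⟩, ?_⟩
          apply Subtype.ext
          apply Units.ext
          rw [hdetμ_val, detGU_apply, hsc, Matrix.det_diagonal, Finset.prod_const, Finset.card_univ,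
            Fintype.card_fin]
          rfl
      exact (hker g).mp (hsub hg)

end Cfsg.Agent.S0783
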