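import Mathlib
import Cfsg.Statements.S2672
import Cfsg.Agent.Lib.Helper13.ProjUnitary
import Cfsg.Agent.S2671
import Cfsg.Agent.S0783

set_option autoImplicit false
set_option linter.style.haveILetI false
open Cfsg

namespace Cfsg.Agent.S2672

open Polynomial Cfsg.Agent.Helper13.SS Cfsg.Agent.Helper13.ProjP Cfsg.Agent.Helper13.Uni
  Cfsg.Agent.Helper11.Herm

section aux
variable {K : Type*} [Field K] [Fintype K] {q n r : ℕ}

/-- the norm-one units -/
def normOne (K : Type*) [Field K] (q : ℕ) : Subgroup Kˣ := (powMonoidHom (q + 1) : Kˣ →* Kˣ).ker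

theorem mem_normOne (c : Kˣ) : c ∈ normOne K q ↔ c ^ (q + 1) = 1 := by
  unfold normOne
  rw [MonoidHom.mem_ker, powMonoidHom_apply]

theorem mul_frob_of_mem (φ : K →+* K) (hφ : ∀ x, φ x = x ^ q) (c : Kˣ) (hc : c ∈ normOne K q) :
    (c : K) * φ (c : K) = 1 := by
  rw [hφ, ← pow_succ', ← Units.val_pow_eq_pow_val, (mem_normOne c).1 hc, Units.val_one]

theorem card_normOne (hK : Fintype.card K = q ^ 2) : Nat.card (normOne K q) = q + 1 := by
  unfold normOne
  have hq := two_le_q hK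
  rw [IsCyclic.card_powMonoidHom_ker, card_units_eq hK, sq_sub_one q (by omega)]
  exact Nat.gcd_eq_right (Dvd.intro _ rfl)

/-- a norm-one element which is not an `r`-th power of a norm-one element is not an `r`-th power
at all, when `r ∤ q - 1` -/
theorem not_pow_of_not_pow_normOne (hK : Fintype.card K = q ^ 2) (hr : r.Prime)
    (hrq : ¬ r ∣ q - 1) (c : Kˣ) (hcA : c ∈ normOne K q)
    (hc : ∀ b ∈ normOne K q, b ^ r ≠ c) (b : K) : b ^ r ≠ (c : K) := by
  intro hb
  have hq := two_le_q hK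
  have hb0 : b ≠ 0 := by
    rintro rfl
    rw [zero_pow hr.ne_zero] at hb
    exact c.ne_zero hb.symm
  set b' : Kˣ := Units.mk0 b hb0 with hb'
  have hb'r : b' ^ r = c := by
    apply Units.ext
    rw [Units.val_pow_eq_pow_val, Units.val_mk0, hb]
  apply hc b' _ hb'r
  rw [mem_normOne]
  set e := b' ^ (q + 1) with he
  have h1 : e ^ r = 1 := by
    rw [he, ← pow_mul, mul_comm, pow_mul, hb'r, (mem_normOne c).1 hcA]
  have h2 : e ^ (q - 1) = 1 := by
    rw [he, ← pow_mul, ← sq_sub_one q (by omega), ← card_units_eq hK]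
    exact pow_card_eq_one'
  have h3 := pow_gcd_eq_one.2 ⟨h1, h2⟩
  have h4 : Nat.gcd r (q - 1) = 1 := (Nat.Prime.coprime_iff_not_dvd hr).2 hrq
  rw [h4, pow_one] at h3
  exact h3

/-- an element of `GU_n(q)` whose `r`-th power is a given non-power scalar -/
theorem exists_pow_eq_sc (hK : Fintype.card K = q ^ 2) (p : ℕ) [Fact p.Prime] [CharP K p]
    (φ : K →+* K) (hφ : ∀ x, φ x = x ^ q) (hr : r.Prime) (hrn : r ∣ n) (c : Kˣ)
    (hcA : c ∈ normOne K q) (hc : ∀ b : K, b ^ r ≠ (c : K)) :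
    ∃ g : ↥(Cfsg.GU n K q), (g : GL (Fin n) K) ^ r = sc c := by
  classical
  have hp : p.Prime := Fact.out
  set f : K[X] := X ^ r - C (c : K) with hf
  have hirr : Irreducible f := X_pow_sub_C_irreducible_of_prime hr hc
  have hmon : f.Monic := monic_X_pow_sub_C _ hr.ne_zero
  have hdeg : f.natDegree = r := natDegree_X_pow_sub_C
  have hcp : CPal φ (f ^ (n / r)) :=
    cpal_pow (cpal_X_pow_sub_C hr.ne_zero (c : K) (mul_frob_of_mem φ hφ c hcA)) _
  obtain ⟨g, hg, hgc, M, hM1, hMp, hgM⟩ := exists_unitary_of_cpal hK p φ hφ n (f ^ (n / r))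
    (hmon.pow _) (by rw [hmon.natDegree_pow, hdeg, Nat.div_mul_cancel hrn]) hcp
  have hMK : (M : K) ≠ 0 := by
    intro h0
    have h1 := (CharP.cast_eq_zero_iff K p M).1 h0
    have h2 : p ∣ Nat.gcd M p := Nat.dvd_gcd h1 dvd_rfl
    rw [hMp] at h2
    exact hp.one_lt.ne' (Nat.dvd_one.1 h2)
  have h1 := aeval_eq_zero_of_charpoly_pow g M hMK hgM f hirr _ hgc
  have h2 : g ^ r = Matrix.diagonal (fun _ => (c : K)) := by
    rw [hf, map_sub, map_pow, aeval_X, aeval_C, sub_eq_zero,
      Algebra.algebraMap_eq_smul_one, Matrix.smul_one_eq_diagonal] at h1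
    exact h1
  refine ⟨Cfsg.Agent.S2671.mkGU hK g hg, ?_⟩
  apply Units.ext
  rw [Units.val_pow_eq_pow_val, sc_val, Cfsg.Agent.S2671.coe_mkGU]
  exact h2

/-- the hypotheses of the abstract count hold for `GU_n(q)` -/
theorem setup_gu (hK : Fintype.card K = q ^ 2) (p : ℕ) [Fact p.Prime] [CharP K p]
    (φ : K →+* K) (hφ : ∀ x, φ x = x ^ q) (hn : 1 ≤ n) (hr : r.Prime)
    (hrq : ¬ r ∣ q - 1) (ζ₀ : K) (hζ₀ : ζ₀ * φ ζ₀ = 1) (hζ₀1 : ζ₀ ≠ 1) :
    Setup ((Cfsg.GU n K q).subtype) (normOne K q) r where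
  inj := Subtype.val_injective
  center := by
    intro g
    constructor
    · intro hg
      have h1 := Cfsg.Agent.S0783.center_scalar φ hφ n ζ₀ hζ₀ hζ₀1 g hg ⟨0, hn⟩
      set c₀ : K := ((g : GL (Fin n) K) : Matrix (Fin n) (Fin n) K) ⟨0, hn⟩ ⟨0, hn⟩ with hc₀
      have hU : IsU φ ((g : GL (Fin n) K) : Matrix (Fin n) (Fin n) K) :=
        (mem_GU_iff_isU φ hφ n _).1 g.2
      rw [h1] at hU
      unfold IsU at hU
      rw [Matrix.diagonal_transpose, Matrix.diagonal_map (map_zero φ),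
        Matrix.diagonal_mul_diagonal, ← Matrix.diagonal_one] at hU
      have h2 : c₀ * φ c₀ = 1 := congrFun (Matrix.diagonal_injective hU) ⟨0, hn⟩
      have hc0 : c₀ ≠ 0 := by
        intro h0
        rw [h0, zero_mul] at h2
        exact zero_ne_one h2
      refine ⟨Units.mk0 c₀ hc0, ?_, ?_⟩
      · rw [mem_normOne]
        apply Units.ext
        rw [Units.val_pow_eq_pow_val, Units.val_mk0, Units.val_one, pow_succ', ← hφ]
        exact h2
      · apply Units.ext
        rw [sc_val]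
        exact h1
    · rintro ⟨c, -, hc⟩
      rw [Subgroup.mem_center_iff]
      intro h
      apply Subtype.ext
      show (h : GL (Fin n) K) * (g : GL (Fin n) K) = (g : GL (Fin n) K) * (h : GL (Fin n) K)
      have hc' : (g : GL (Fin n) K) = sc c := hc
      rw [hc']
      exact Subgroup.mem_center_iff.1 (Setup.sc_mem_center c) _
  diag := by
    intro d hd
    have hU : IsU φ (Matrix.diagonal (fun i => (d i : K))) :=
      isU_diagonal φ _ (fun i => mul_frob_of_mem φ hφ (d i) (hd i))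
    exact ⟨Cfsg.Agent.S0783.mkGU φ hφ n _ hU, rfl⟩
  conj := by
    intro g h M hM hMK hgM hhM hc
    exact Cfsg.Agent.S2671.gu_isConj_of_charpoly (p := p) hK Fact.out g h M hM hMK hgM hhM hc
  irr := by
    intro c hcA hc b hb
    exact not_pow_of_not_pow_normOne hK hr hrq c hcA hc b hb
  exB := by
    intro hrn c hcA hc
    exact exists_pow_eq_sc hK p φ hφ hr hrn c hcA
      (not_pow_of_not_pow_normOne hK hr hrq c hcA hc)

end aux

/-- Number of conjugacy classes of elements of odd prime order r in PGU_n(q) = GU_n(q)/scalars (n ≥ 3) when r divides q + 1: as in the linear case with q − 1 replaced by q + 1, the classes correspond to the rotation orbits on r-tuples of eigenvalue multiplicities summing to n with every entry < n, plus r − 1 further classes when r divides n; in all (C(n+r−1, r−1) − r − [r ∣ n])/r + r·[r ∣ n]. -/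
theorem result {K : Type*} [Field K] [Fintype K] {q n r : ℕ} (hK : Fintype.card K = q ^ 2) (hn : 3 ≤ n) (hr : r.Prime) (hr2 : r ≠ 2) (hrq : r ∣ q + 1) : Nat.card {C : ConjClasses (↥(Cfsg.GU n K q) ⧸ Subgroup.center ↥(Cfsg.GU n K q)) // ∃ g : ↥(Cfsg.GU n K q) ⧸ Subgroup.center ↥(Cfsg.GU n K q), ConjClasses.mk g = C ∧ orderOf g = r} = (Nat.choose (n + r - 1) (r - 1) - r - (if r ∣ n then 1 else 0)) / r + r * (if r ∣ n then 1 else 0) := by
  classical
  obtain ⟨p, hchar⟩ := CharP.exists K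
  haveI := hchar
  haveI : Fact p.Prime := ⟨CharP.char_is_prime K p⟩
  have hp : p.Prime := Fact.out
  have hq := two_le_q hK
  obtain ⟨φ, hφ⟩ := exists_frob hK
  -- `r ∤ q - 1`
  have hrq' : ¬ r ∣ q - 1 := by
    intro h
    have h1 : r ∣ (q + 1) - (q - 1) := Nat.dvd_sub hrq h
    have h2 : (q + 1) - (q - 1) = 2 := by omega
    rw [h2] at h1
    exact hr2 ((Nat.prime_dvd_prime_iff_eq hr Nat.prime_two).1 h1)
  have hcardA := card_normOne hK
  have hrA : r ∣ Nat.card (normOne K q) := by rw [hcardA]; exact hrq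
  -- a norm-one element different from `1`
  haveI : Finite ↥(normOne K q) :=
    Finite.of_injective (fun a : ↥(normOne K q) => (a : Kˣ)) Subtype.val_injective
  haveI : Fact r.Prime := ⟨hr⟩
  obtain ⟨ζ', hζ'⟩ := exists_prime_orderOf_dvd_card' (G := ↥(normOne K q)) r hrA
  have hζ1 : ((ζ' : Kˣ) : K) ≠ 1 := by
    intro h
    have h1 : ζ' = 1 := by
      apply Subtype.ext
      apply Units.ext
      exact h
    rw [h1, orderOf_one] at hζ'
    exact hr.one_lt.ne hζ'
  have hS := setup_gu (n := n) (r := r) hK p φ hφ (by omega) hr hrq' ((ζ' : Kˣ) : K)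
    (mul_frob_of_mem φ hφ _ ζ'.2) hζ1
  have hrK : (r : K) ≠ 0 := by
    intro h0
    have h1 : p ∣ r := (CharP.cast_eq_zero_iff K p r).1 h0
    have h2 : p = r := (Nat.prime_dvd_prime_iff_eq hp hr).1 h1
    subst h2
    have h3 : p ∣ q ^ 2 := by
      rw [← hK]
      have := FiniteField.cast_card_eq_zero K
      exact (CharP.cast_eq_zero_iff K p _).1 this
    have h4 : p ∣ q := hp.dvd_of_dvd_pow h3
    have h5 : p ∣ (q + 1) - q := Nat.dvd_sub hrq h4
    have h6 : (q + 1) - q = 1 := by omega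
    rw [h6] at h5
    exact hp.one_lt.ne' (Nat.dvd_one.1 h5)
  exact hS.card_classes hr hrA hrK (by omega)

end Cfsg.Agent.S2672
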