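import Mathlib
import Cfsg.Statements.S2802
import Cfsg.Agent.Lib.Helper14.PReduced

set_option autoImplicit false
open Cfsg

namespace Cfsg.Agent.S2802

open Cfsg.Agent.Helper14

/-- Let L be a finite group and p a prime with C_L(O_p(L)) ≤ O_p(L), T a Sylow p-subgroup of L and R a subgroup with T ≤ R. If X is a p-reduced normal subgroup of R (normal in R, elementary abelian, O_p(R/C_R(X)) = 1), then the normal closure of X in L is a p-reduced normal subgroup of L. -/
theorem result {L : Type*} [Group L] [Finite L] {p : ℕ} [Fact p.Prime] (hchar : Subgroup.centralizer (Cfsg.pCore p L : Set L) ≤ Cfsg.pCore p L) (T : Sylow p L) (R : Subgroup L) (hTR : (T : Subgroup L) ≤ R) (X : Subgroup ↥R) (hX : Cfsg.IsPReducedNormal p X) : Cfsg.IsPReducedNormal p (Subgroup.normalClosure ((X.map R.subtype : Subgroup L) : Set L)) := by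
  obtain ⟨hXn, hXe, hXred⟩ := (isPReducedNormal_iff X).mp hX
  set X' := X.map R.subtype with hX'
  set V := Subgroup.normalClosure ((X' : Subgroup L) : Set L) with hV
  set Q := Cfsg.pCore p L with hQ
  have hQn : Q.Normal := Subgroup.sSup_normal _ (fun K hK => hK.1)
  have hQp : IsPGroup p Q := pCore_isPGroup p L
  have hQT : Q ≤ (T : Subgroup L) := pCore_le_sylow T
  have hQR : Q ≤ R := hQT.trans hTR
  -- centralizer of X in R versus centralizer of X' in L
  have hcent : ∀ r : ↥R, r ∈ Subgroup.centralizer (X : Set ↥R) ↔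
      (r : L) ∈ Subgroup.centralizer (X' : Set L) := by
    intro r
    rw [Subgroup.mem_centralizer_iff, Subgroup.mem_centralizer_iff]
    constructor
    · rintro h _ ⟨x, hx, rfl⟩
      exact congrArg Subtype.val (h x hx)
    · intro h x hx
      apply Subtype.ext
      exact h (x : L) ⟨x, hx, rfl⟩
  -- O_p(L) centralizes X'
  have hQX : Q ≤ Subgroup.centralizer (X' : Set L) := by
    have h1 : Q.subgroupOf R ≤ Subgroup.centralizer (X : Set ↥R) := by
      apply hXred _ inferInstance
      exact powCond_of_isPGroup hQp.comap_subtype _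
    intro q hq
    exact (hcent ⟨q, hQR hq⟩).mp (h1 (Subgroup.mem_subgroupOf.mpr hq))
  have hX'Q : X' ≤ omegaCenter' p Q := by
    intro x hx
    have hxc : x ∈ Subgroup.centralizer (Q : Set L) := Subgroup.le_centralizer_iff.mp hQX hx
    refine ⟨hchar hxc, hxc, ?_⟩
    obtain ⟨y, hy, rfl⟩ := hx
    have := hXe.2 y hy
    have h2 := congrArg Subtype.val this
    simpa using h2
  have hOn : (omegaCenter' p Q).Normal := omegaCenter'_normal p hQn
  have hVO : V ≤ omegaCenter' p Q := Subgroup.normalClosure_le_normal hX'Q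
  have hX'V : X' ≤ V := Subgroup.le_normalClosure
  rw [isPReducedNormal_iff]
  refine ⟨Subgroup.normalClosure_normal, isElementaryAbelian_of_le_omegaCenter' hVO, ?_⟩
  intro D hD hDp
  have hNn : (Subgroup.centralizer (V : Set L)).Normal := Subgroup.normal_centralizer
  have hNX : Subgroup.centralizer (V : Set L) ≤ Subgroup.centralizer (X' : Set L) :=
    Subgroup.centralizer_le hX'V
  -- the subgroup E = (D ⊔ C(V)) ∩ R of R centralizes X
  have hE : (D ⊔ Subgroup.centralizer (V : Set L)).subgroupOf R ≤ Subgroup.centralizer (X : Set ↥R) := by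
    have hDNn : (D ⊔ Subgroup.centralizer (V : Set L)).Normal := Subgroup.sup_normal D _
    apply hXred _ inferInstance
    intro e he
    obtain ⟨k, hk⟩ := hDp.sup (e : L) (Subgroup.mem_subgroupOf.mp he)
    refine ⟨k, ?_⟩
    rw [hcent]
    exact hNX hk
  -- D centralizes X'
  have hDX : D ≤ Subgroup.centralizer (X' : Set L) := by
    intro d hd
    obtain ⟨t, ht, n, hn, rfl⟩ := exists_mul_of_powCond T hD hDp d hd
    have htDN : t ∈ D ⊔ Subgroup.centralizer (V : Set L) := by
      have : t = (t * n) * n⁻¹ := by group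
      rw [this]
      exact Subgroup.mul_mem _ (Subgroup.mem_sup_left hd) (Subgroup.mem_sup_right (Subgroup.inv_mem _ hn))
    have htX : t ∈ Subgroup.centralizer (X' : Set L) :=
      (hcent ⟨t, hTR ht⟩).mp (hE (Subgroup.mem_subgroupOf.mpr htDN))
    exact Subgroup.mul_mem _ htX (hNX hn)
  -- hence D centralizes V
  have hCDn : (Subgroup.centralizer (D : Set L)).Normal := Subgroup.normal_centralizer
  have hVD : V ≤ Subgroup.centralizer (D : Set L) :=
    Subgroup.normalClosure_le_normal (Subgroup.le_centralizer_iff.mp hDX)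
  exact Subgroup.le_centralizer_iff.mp hVD

end Cfsg.Agent.S2802
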