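import Mathlib
import Cfsg.Statements.S2803
import Cfsg.Agent.Lib.Helper14.PReduced
import Cfsg.Agent.Lib.Helper14.SylowNormal
import Cfsg.Agent.S2802

set_option autoImplicit false
open Cfsg

namespace Cfsg.Agent.S2803

open Cfsg.Agent.Helper14

/-- Let L be a finite group and p a prime with C_L(O_p(L)) ≤ O_p(L), T a Sylow p-subgroup, and Y the largest p-reduced normal subgroup of L. Put T_L = C_T(Y) and L_T = N_L(T_L). Then L = L_T · C_L(Y) (elementwise), T_L = O_p(L_T), and Y = Ω₁(Z(T_L)). -/
theorem result {L : Type*} [Group L] [Finite L] {p : ℕ} [Fact p.Prime] (hchar : Subgroup.centralizer (Cfsg.pCore p L : Set L) ≤ Cfsg.pCore p L) (T : Sylow p L) (Y : Subgroup L) (hY : (Cfsg.IsPReducedNormal p Y ∧ ∀ V : Subgroup L, Cfsg.IsPReducedNormal p V → V ≤ Y)) (TL : Subgroup L) (hTL : TL = (T : Subgroup L) ⊓ Subgroup.centralizer (Y : Set L)) : (∀ g : L, ∃ a ∈ Subgroup.normalizer (TL : Set L), ∃ c ∈ Subgroup.centralizer (Y : Set L), g = a * c) ∧ (Cfsg.pCore p ↥(Subgroup.normalizer (TL : Set L))).map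 (Subgroup.normalizer (TL : Set L)).subtype = TL ∧ Y = Cfsg.omegaOne p (TL ⊓ Subgroup.centralizer (TL : Set L)) := by
  obtain ⟨hYn, hYe, hYred⟩ := (isPReducedNormal_iff Y).mp hY.1
  set C := Subgroup.centralizer (Y : Set L) with hC
  have hCn : C.Normal := Subgroup.normal_centralizer
  set R := Subgroup.normalizer (TL : Set L) with hR
  have hTLS : IsSylowOf p C TL := hTL ▸ isSylowOf_inf_normal T hCn
  have hTLp : IsPGroup p TL := hTLS.isPGroup
  have hRC : R ⊔ C = ⊤ := frattini_normal hCn hTLS
  have hTLT : TL ≤ (T : Subgroup L) := hTL ▸ inf_le_left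
  have hTLC : TL ≤ C := hTL ▸ inf_le_right
  -- T ≤ R
  have hTR : (T : Subgroup L) ≤ R := by
    rw [hR, hTL]
    apply le_normalizer_inf Subgroup.le_normalizer
    rw [Subgroup.normalizer_eq_top_iff.mpr hCn]
    exact le_top
  have hTLR : TL ≤ R := Subgroup.le_normalizer
  have hTS : IsSylowOf p R (T : Subgroup L) := isSylowOf_of_sylow_le T hTR
  -- a normal-in-L criterion: normalized by R and containing C
  have normal_of : ∀ D : Subgroup L, R ≤ Subgroup.normalizer (D : Set L) → (D ⊔ C).Normal := by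
    intro D hD
    rw [← Subgroup.normalizer_eq_top_iff, eq_top_iff, ← hRC]
    apply sup_le
    · apply le_normalizer_sup hD
      rw [Subgroup.normalizer_eq_top_iff.mpr hCn]
      exact le_top
    · exact le_sup_right.trans Subgroup.le_normalizer
  -- a subgroup normalized by R acting as a p-group modulo C lies in C
  have le_C_of : ∀ D : Subgroup L, R ≤ Subgroup.normalizer (D : Set L) → PowCond p D C → D ≤ C := by
    intro D hD hp
    exact le_sup_left.trans (hYred _ (normal_of D hD) hp.sup)
  -- Y ≤ T_L ∩ C(T_L)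
  have hYT : Y ≤ (T : Subgroup L) := (le_pCore hYn (Cfsg.Agent.Helper14.IsElementaryAbelian.isPGroup hYe)).trans (pCore_le_sylow T)
  have hYC : Y ≤ C := by
    intro y hy
    rw [hC, Subgroup.mem_centralizer_iff]
    intro z hz
    have := hYe.1.is_comm.comm ⟨z, hz⟩ ⟨y, hy⟩
    exact congrArg Subtype.val this
  have hYTL : Y ≤ TL := hTL ▸ le_inf hYT hYC
  have hYZ : Y ≤ TL ⊓ Subgroup.centralizer (TL : Set L) :=
    le_inf hYTL (Subgroup.le_centralizer_iff.mp hTLC)
  set W := Cfsg.omegaOne p (TL ⊓ Subgroup.centralizer (TL : Set L)) with hW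
  have hYW : Y ≤ W := by
    intro y hy
    exact Subgroup.subset_closure ⟨hYZ hy, hYe.2 y hy⟩
  refine ⟨?_, ?_, ?_⟩
  · intro g
    have hg : g ∈ R ⊔ C := hRC ▸ Subgroup.mem_top g
    obtain ⟨a, ha, c, hc, hac⟩ := Subgroup.mem_sup_of_normal_right.mp hg
    exact ⟨a, ha, c, hc, hac.symm⟩
  · show Cfsg.pCoreOf p R = TL
    apply le_antisymm
    · have hOT : Cfsg.pCoreOf p R ≤ (T : Subgroup L) := pCoreOf_le_of_isSylowOf hTS
      have hOC : Cfsg.pCoreOf p R ≤ C :=
        le_C_of _ (le_normalizer_pCoreOf p R) (powCond_of_isPGroup (pCoreOf_isPGroup p R) C)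
      rw [hTL]
      exact le_inf hOT hOC
    · exact le_pCoreOf hTLR (le_refl _) hTLp
  · apply le_antisymm hYW
    -- W is a p-reduced normal subgroup of R
    have hWZ : W ≤ TL ⊓ Subgroup.centralizer (TL : Set L) := omegaOne_le p _
    have hWTL : W ≤ TL := hWZ.trans inf_le_left
    have hWR : W ≤ R := hWTL.trans hTLR
    have hTLW : TL ≤ Subgroup.centralizer (W : Set L) :=
      Subgroup.le_centralizer_iff.mp (hWZ.trans inf_le_right)
    have hRW : R ≤ Subgroup.normalizer (W : Set L) :=
      le_normalizer_omegaOne (le_normalizer_inf (le_refl _)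
        (le_normalizer_centralizer_of_le_normalizer (le_refl _)))
    have hWO : W ≤ omegaCenter' p TL := by
      rw [hW]
      unfold Cfsg.omegaOne
      rw [Subgroup.closure_le]
      rintro a ⟨ha, hap⟩
      exact ⟨(Subgroup.mem_inf.mp ha).1, (Subgroup.mem_inf.mp ha).2, hap⟩
    set W' := W.subgroupOf R with hW'
    have hcent : ∀ r : ↥R, r ∈ Subgroup.centralizer (W' : Set ↥R) ↔
        (r : L) ∈ Subgroup.centralizer (W : Set L) := by
      intro r
      rw [Subgroup.mem_centralizer_iff, Subgroup.mem_centralizer_iff]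
      constructor
      · intro h w hw
        exact congrArg Subtype.val (h ⟨w, hWR hw⟩ (Subgroup.mem_subgroupOf.mpr hw))
      · intro h x hx
        apply Subtype.ext
        exact h (x : L) (Subgroup.mem_subgroupOf.mp hx)
    have hW'n : W'.Normal := (Subgroup.normal_subgroupOf_iff_le_normalizer hWR).mpr hRW
    have hW'red : Cfsg.IsPReducedNormal p W' := by
      rw [isPReducedNormal_iff]
      refine ⟨hW'n, ⟨⟨⟨fun a b => ?_⟩⟩, fun a ha => ?_⟩, ?_⟩
      · apply Subtype.ext
        apply Subtype.ext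
        exact omegaCenter'_comm p TL (hWO (Subgroup.mem_subgroupOf.mp a.2)) (hWO (Subgroup.mem_subgroupOf.mp b.2))
      · apply Subtype.ext
        exact (hWO (Subgroup.mem_subgroupOf.mp ha)).2.2
      · intro D' hD'n hD'p
        set D := D'.map R.subtype with hD
        have hDR : R ≤ Subgroup.normalizer (D : Set L) := by
          apply le_normalizer_of_conj_mem
          rintro r hr _ ⟨d, hd, rfl⟩
          exact ⟨⟨r, hr⟩ * d * ⟨r, hr⟩⁻¹, hD'n.conj_mem d hd ⟨r, hr⟩, rfl⟩
        have hDp : PowCond p D C := by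
          rintro _ ⟨d, hd, rfl⟩
          obtain ⟨k, hk⟩ := hD'p d hd
          refine ⟨k, ?_⟩
          have := (hcent _).mp hk
          exact Subgroup.centralizer_le hYW this
        have hDC : D ≤ C := le_C_of D hDR hDp
        obtain ⟨T', hT'⟩ := hTS
        have hN'n : (Subgroup.centralizer (W' : Set ↥R)).Normal := Subgroup.normal_centralizer
        intro d hd
        obtain ⟨t, ht, n, hn, rfl⟩ := exists_mul_of_powCond T' hD'n hD'p d hd
        have htT : (t : L) ∈ (T : Subgroup L) := hT' ▸ Subgroup.mem_map_of_mem _ ht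
        have hnW : (n : L) ∈ Subgroup.centralizer (W : Set L) := (hcent n).mp hn
        have htC : (t : L) ∈ C := by
          have e : (t : L) = ((t * n : ↥R) : L) * (n : L)⁻¹ := by
            rw [Subgroup.coe_mul]; group
          rw [e]
          exact C.mul_mem (hDC ⟨_, hd, rfl⟩) (C.inv_mem (Subgroup.centralizer_le hYW hnW))
        have htTL : (t : L) ∈ TL := hTL ▸ Subgroup.mem_inf.mpr ⟨htT, htC⟩
        have htW : t ∈ Subgroup.centralizer (W' : Set ↥R) := (hcent t).mpr (hTLW htTL)
        exact Subgroup.mul_mem _ htW hn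
    have hcl := Cfsg.Agent.S2802.result hchar T R hTR W' hW'red
    have hmap : W'.map R.subtype = W := by
      rw [hW', Subgroup.subgroupOf_map_subtype, inf_of_le_left hWR]
    rw [hmap] at hcl
    exact Subgroup.le_normalClosure.trans (hY.2 _ hcl)

end Cfsg.Agent.S2803
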