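import Mathlib
import Cfsg.Statements.S2791
import Cfsg.Agent.Lib.Helper10.TameAlperin
import Cfsg.Agent.Lib.Helper7.Coprime
import Cfsg.Agent.Lib.Helper14.Kieler
import Cfsg.Agent.Lib.Helper14.Frattini

set_option autoImplicit false
open Cfsg

namespace Cfsg.Agent.S2791

open Cfsg.Agent.Helper10 Cfsg.Agent.Helper14

/-- the stability group of the chain `T ≥ D ≥ 1` inside `N_G(T)` -/
def stabU {G : Type*} [Group G] (T D : Subgroup G) : Subgroup G where
  carrier := {n | n ∈ Subgroup.normalizer (T : Set G) ∧ (∀ t ∈ T, t⁻¹ * (n * t * n⁻¹) ∈ D) ∧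
    ∀ d ∈ D, n * d * n⁻¹ = d}
  one_mem' := by
    refine ⟨Subgroup.one_mem _, ?_, ?_⟩
    · intro t _
      have : t⁻¹ * (1 * t * 1⁻¹) = 1 := by group
      rw [this]; exact D.one_mem
    · intro d _; group
  mul_mem' := by
    rintro a b ⟨haN, ha1, ha2⟩ ⟨hbN, hb1, hb2⟩
    refine ⟨Subgroup.mul_mem _ haN hbN, ?_, ?_⟩
    · intro t ht
      have ht' : b * t * b⁻¹ ∈ T := (Subgroup.mem_normalizer_iff.mp hbN t).mp ht
      have h1 := hb1 t ht
      have h2 := ha1 _ ht'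
      have : t⁻¹ * (a * b * t * (a * b)⁻¹) =
          (t⁻¹ * (b * t * b⁻¹)) * ((b * t * b⁻¹)⁻¹ * (a * (b * t * b⁻¹) * a⁻¹)) := by group
      rw [this]
      exact D.mul_mem h1 h2
    · intro d hd
      have : a * b * d * (a * b)⁻¹ = a * (b * d * b⁻¹) * a⁻¹ := by group
      rw [this, hb2 d hd, ha2 d hd]
  inv_mem' := by
    rintro a ⟨haN, ha1, ha2⟩
    refine ⟨Subgroup.inv_mem _ haN, ?_, ?_⟩
    · intro t ht
      have ht' : a⁻¹ * t * a⁻¹⁻¹ ∈ T :=
        (Subgroup.mem_normalizer_iff.mp (Subgroup.inv_mem _ haN) t).mp ht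
      have h2 := ha1 _ ht'
      have : t⁻¹ * (a⁻¹ * t * a⁻¹⁻¹) =
          ((a⁻¹ * t * a⁻¹⁻¹)⁻¹ * (a * (a⁻¹ * t * a⁻¹⁻¹) * a⁻¹))⁻¹ := by group
      rw [this]
      exact D.inv_mem h2
    · intro d hd
      have h := ha2 d hd
      calc a⁻¹ * d * a⁻¹⁻¹ = a⁻¹ * (a * d * a⁻¹) * a := by rw [h]; group
        _ = d := by group

theorem mem_stabU {G : Type*} [Group G] {T D : Subgroup G} {n : G} :
    n ∈ stabU T D ↔ n ∈ Subgroup.normalizer (T : Set G) ∧ (∀ t ∈ T, t⁻¹ * (n * t * n⁻¹) ∈ D) ∧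
      ∀ d ∈ D, n * d * n⁻¹ = d := Iff.rfl

theorem stabU_le {G : Type*} [Group G] (T D : Subgroup G) :
    stabU T D ≤ Subgroup.normalizer (T : Set G) := fun _ h => h.1

theorem centralizer_le_stabU {G : Type*} [Group G] (T D : Subgroup G) (hD : D ≤ T) :
    Subgroup.centralizer (T : Set G) ≤ stabU T D := by
  intro c hc
  rw [Subgroup.mem_centralizer_iff] at hc
  refine ⟨Subgroup.centralizer_le_normalizer _ (Subgroup.mem_centralizer_iff.mpr hc), ?_, ?_⟩
  · intro t ht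
    have h := hc t ht
    have : t⁻¹ * (c * t * c⁻¹) = 1 := by rw [← h]; group
    rw [this]; exact D.one_mem
  · intro d hd
    have h := hc d (hD hd)
    rw [← h]; group

theorem conj_mem_stabU {G : Type*} [Group G] (T D : Subgroup G)
    (hDN : ∀ n ∈ Subgroup.normalizer (T : Set G), ∀ d ∈ D, n * d * n⁻¹ ∈ D)
    {m n : G} (hm : m ∈ Subgroup.normalizer (T : Set G)) (hn : n ∈ stabU T D) :
    m * n * m⁻¹ ∈ stabU T D := by
  obtain ⟨hnN, hn1, hn2⟩ := hn
  have hmi : m⁻¹ ∈ Subgroup.normalizer (T : Set G) := Subgroup.inv_mem _ hm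
  refine ⟨Subgroup.mul_mem _ (Subgroup.mul_mem _ hm hnN) hmi, ?_, ?_⟩
  · intro t ht
    have ht' : m⁻¹ * t * m⁻¹⁻¹ ∈ T := (Subgroup.mem_normalizer_iff.mp hmi t).mp ht
    have h := hDN m hm _ (hn1 _ ht')
    have : t⁻¹ * (m * n * m⁻¹ * t * (m * n * m⁻¹)⁻¹) =
        m * ((m⁻¹ * t * m⁻¹⁻¹)⁻¹ * (n * (m⁻¹ * t * m⁻¹⁻¹) * n⁻¹)) * m⁻¹ := by group
    rw [this]; exact h
  · intro d hd
    have hd' : m⁻¹ * d * m⁻¹⁻¹ ∈ D := hDN _ hmi d hd
    have h := hn2 _ hd'
    calc m * n * m⁻¹ * d * (m * n * m⁻¹)⁻¹ = m * (n * (m⁻¹ * d * m⁻¹⁻¹) * n⁻¹) * m⁻¹ := by group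
      _ = m * (m⁻¹ * d * m⁻¹⁻¹) * m⁻¹ := by rw [h]
      _ = d := by group

/-- elements of order prime to `p` of the stability group centralize `T` -/
theorem mem_centralizer_of_coprime {G : Type*} [Group G] [Finite G] {p : ℕ} [Fact p.Prime]
    {T D : Subgroup G} (hDp : IsPGroup p D) {v : G} (hv : v ∈ stabU T D)
    (hcop : (orderOf v).Coprime p) : v ∈ Subgroup.centralizer (T : Set G) := by
  obtain ⟨-, hv1, hv2⟩ := hv
  rw [Subgroup.mem_centralizer_iff]
  intro t ht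
  have hz := hv1 t ht
  obtain ⟨j, hj⟩ := exists_orderOf_eq_of_mem_pGroup hDp hz
  have h := Cfsg.Agent.Helper7.conj_eq_self_of_coprime v t (isOfFinOrder_of_finite v) (hv2 _ hz)
    (by rw [hj]; exact Nat.Coprime.pow_right j hcop)
  calc t * v = (v * t * v⁻¹) * v := by rw [h]
    _ = v * t := by group

/-- a `p`-power of any element of the stability group centralizes `T` -/
theorem exists_pow_mem_centralizer {G : Type*} [Group G] [Finite G] {p : ℕ} [hp : Fact p.Prime]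
    {T D : Subgroup G} (hDp : IsPGroup p D) {u : G} (hu : u ∈ stabU T D) :
    ∃ k : ℕ, u ^ (p ^ k) ∈ Subgroup.centralizer (T : Set G) := by
  have hne : orderOf u ≠ 0 := (orderOf_pos u).ne'
  obtain ⟨e, n', hn', hen⟩ := Nat.exists_eq_pow_mul_and_not_dvd hne p hp.out.ne_one
  refine ⟨e, mem_centralizer_of_coprime hDp (Subgroup.pow_mem _ hu _) ?_⟩
  have hpe : p ^ e ≠ 0 := pow_ne_zero _ hp.out.ne_zero
  rw [orderOf_pow_of_dvd hpe ⟨n', hen⟩, hen, Nat.mul_div_cancel_left _ (Nat.pos_of_ne_zero hpe)]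
  exact ((Nat.Prime.coprime_iff_not_dvd hp.out).mpr hn').symm


theorem normalizer_le_normalizer_centralizer {G : Type*} [Group G] (T : Subgroup G) :
    Subgroup.normalizer (T : Set G) ≤
      Subgroup.normalizer ((Subgroup.centralizer (T : Set G) : Subgroup G) : Set G) := by
  intro n hn
  apply mem_normalizer_of_conj_mem
  · intro c hc
    rw [Subgroup.mem_centralizer_iff] at hc ⊢
    intro t ht
    have ht' : n⁻¹ * t * n⁻¹⁻¹ ∈ T :=
      (Subgroup.mem_normalizer_iff.mp (Subgroup.inv_mem _ hn) t).mp ht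
    have h := hc _ ht'
    calc t * (n * c * n⁻¹) = n * ((n⁻¹ * t * n⁻¹⁻¹) * c) * n⁻¹ := by group
      _ = n * (c * (n⁻¹ * t * n⁻¹⁻¹)) * n⁻¹ := by rw [h]
      _ = n * c * n⁻¹ * t := by group
  · intro c hc
    rw [Subgroup.mem_centralizer_iff] at hc ⊢
    intro t ht
    have ht' : n * t * n⁻¹ ∈ T := (Subgroup.mem_normalizer_iff.mp hn t).mp ht
    have h := hc _ ht'
    calc t * (n⁻¹ * c * n) = n⁻¹ * ((n * t * n⁻¹) * c) * n := by group
      _ = n⁻¹ * (c * (n * t * n⁻¹)) * n := by rw [h]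
      _ = n⁻¹ * c * n * t := by group

section step

variable {G : Type*} [Group G] [Finite G] {p : ℕ} [Fact p.Prime] (S : Sylow p G) (A : Subgroup G)
  (hA : ∀ a ∈ A, ∀ b ∈ A, a * b = b * a) (hAS : A ≤ (S : Subgroup G))
  (hsc : ∀ x ∈ A, ∀ g : G, g * x * g⁻¹ ∈ (S : Subgroup G) → g * x * g⁻¹ ∈ A)

include hA hAS hsc in
theorem step (T : Subgroup G) (hTS : T ≤ (S : Subgroup G))
    (hrel : ¬ p ∣ ((S : Subgroup G) ⊓ Subgroup.normalizer (T : Set G)).relIndex
      (Subgroup.normalizer (T : Set G)))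
    (IH : ∀ T' : Subgroup G, T' ≤ (S : Subgroup G) → Nat.card T < Nat.card T' → ∀ g : G,
      (∀ t ∈ T', g * t * g⁻¹ ∈ (S : Subgroup G)) →
      ∃ y ∈ Subgroup.normalizer (A : Set G), ∀ t ∈ T', g * t * g⁻¹ = y * t * y⁻¹)
    (x : G) (hx : x ∈ Subgroup.normalizer (T : Set G)) :
    ∃ y ∈ Subgroup.normalizer (A : Set G), ∀ t ∈ T, x * t * x⁻¹ = y * t * y⁻¹ := by
  have hSp : IsPGroup p (S : Subgroup G) := S.isPGroup'
  set N := Subgroup.normalizer (T : Set G) with hN
  set A₁ := A ⊓ N with hA₁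
  -- `S` normalizes `A`
  have hSA : ∀ s ∈ (S : Subgroup G), ∀ a ∈ A, s * a * s⁻¹ ∈ A := by
    intro s hs a ha
    exact hsc a ha s (Subgroup.mul_mem _ (Subgroup.mul_mem _ hs (hAS ha)) (Subgroup.inv_mem _ hs))
  by_cases hcase : A₁ ≤ T
  · -- then `A ≤ T` and `x` normalizes `A`
    have hAT : A ≤ T := by
      have hTA : T ⊔ A ≤ (S : Subgroup G) := sup_le hTS hAS
      have hnil : Group.IsNilpotent ↥(T ⊔ A) := (hSp.to_le hTA).isNilpotent
      by_contra hcon
      have hlt : T < T ⊔ A := by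
        refine lt_of_le_of_ne le_sup_left ?_
        intro h
        apply hcon
        rw [h]; exact le_sup_right
      have h2 := lt_inf_normalizer_of_lt (T ⊔ A) T hlt
      obtain ⟨n, hn, hnT⟩ := SetLike.exists_of_lt h2
      have hnTA : n ∈ ((T ⊔ A : Subgroup G) : Set G) := hn.1
      have hTnA : T ≤ Subgroup.normalizer (A : Set G) := by
        intro t ht
        exact mem_normalizer_of_conj_mem (fun a ha => hSA t (hTS ht) a ha)
          (fun a ha => by
            have := hSA t⁻¹ (Subgroup.inv_mem _ (hTS ht)) a ha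
            simpa using this)
      rw [Subgroup.coe_mul_of_left_le_normalizer_right T A hTnA] at hnTA
      obtain ⟨t, ht, a, ha, rfl⟩ := hnTA
      apply hnT
      have haN : a ∈ N := by
        have : a = t⁻¹ * (t * a) := by group
        rw [this]
        exact Subgroup.mul_mem _ (Subgroup.inv_mem _ (Subgroup.le_normalizer ht)) hn.2
      exact T.mul_mem ht (hcase ⟨ha, haN⟩)
    refine ⟨x, ?_, fun t _ => rfl⟩
    apply mem_normalizer_of_conj_mem
    · intro a ha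
      exact hsc a ha x (hTS ((Subgroup.mem_normalizer_iff.mp hx a).mp (hAT ha)))
    · intro a ha
      have hx' : x⁻¹ ∈ N := Subgroup.inv_mem _ hx
      have := hsc a ha x⁻¹ (hTS ((Subgroup.mem_normalizer_iff.mp hx' a).mp (hAT ha)))
      simpa using this
  · -- the main case
    set C := Subgroup.centralizer (T : Set G) with hC
    set D := A ⊓ T with hD
    have hDp : IsPGroup p D := hSp.to_le (inf_le_right.trans hTS)
    have hDN : ∀ n ∈ N, ∀ d ∈ D, n * d * n⁻¹ ∈ D := by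
      intro n hn d hd
      have h1 : n * d * n⁻¹ ∈ T := (Subgroup.mem_normalizer_iff.mp hn d).mp hd.2
      exact ⟨hsc d hd.1 n (hTS h1), h1⟩
    set U := stabU T D with hU
    have hUN : U ≤ N := stabU_le T D
    have hCU : C ≤ U := centralizer_le_stabU T D inf_le_right
    have hA₁U : A₁ ≤ U := by
      rintro a ⟨haA, haN⟩
      refine ⟨haN, ?_, ?_⟩
      · intro t ht
        refine ⟨?_, ?_⟩
        · have h1 : t⁻¹ * a * t⁻¹⁻¹ ∈ A := hSA t⁻¹ (Subgroup.inv_mem _ (hTS ht)) a haA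
          have : t⁻¹ * (a * t * a⁻¹) = (t⁻¹ * a * t⁻¹⁻¹) * a⁻¹ := by group
          rw [this]
          exact A.mul_mem h1 (A.inv_mem haA)
        · exact T.mul_mem (T.inv_mem ht) ((Subgroup.mem_normalizer_iff.mp haN t).mp ht)
      · intro d hd
        rw [hA a haA d hd.1]; group
    set R₀ := (S : Subgroup G) ⊓ U with hR₀
    have hR₀p : IsPGroup p R₀ := hSp.to_le inf_le_left
    have hR₀syl : IsSylowOf p U R₀ := by
      rw [isSylowOf_iff]
      refine ⟨inf_le_right, hR₀p, ?_⟩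
      intro Q hQ hRQ hQU
      obtain ⟨c, hcN, hc⟩ := conj_into_relSylow N ((S : Subgroup G) ⊓ N) Q inf_le_right
        (hSp.to_le inf_le_left) hrel (hQU.trans hUN) hQ
      have hcQ : rcg c Q ≤ R₀ := by
        intro y hy
        refine ⟨(hc hy).1, ?_⟩
        rw [mem_rcg] at hy
        have h1 := conj_mem_stabU T D hDN (Subgroup.inv_mem _ hcN) (hQU hy)
        have : c⁻¹ * (c * y * c⁻¹) * c⁻¹⁻¹ = y := by group
        rwa [this] at h1
      have hcard : Nat.card Q ≤ Nat.card R₀ := by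
        rw [← card_rcg c Q]
        exact Subgroup.card_le_of_le hcQ
      exact (Subgroup.eq_of_le_of_card_ge hRQ hcard).symm
    have hR₀rel : ¬ p ∣ R₀.relIndex U := hR₀syl.not_dvd_relIndex
    -- `U / C` is a `p`-group
    have hUC : U ≤ Subgroup.normalizer ((C : Subgroup G) : Set G) :=
      hUN.trans (normalizer_le_normalizer_centralizer T)
    have hCrel : ∃ k : ℕ, C.relIndex U = p ^ k := by
      have hCn : (C.subgroupOf U).Normal := Subgroup.normal_subgroupOf_of_le_normalizer hUC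
      have hP : IsPGroup p (↥U ⧸ C.subgroupOf U) := by
        intro q
        induction q using QuotientGroup.induction_on with
        | H u =>
          obtain ⟨k, hk⟩ := exists_pow_mem_centralizer (p := p) hDp u.2
          refine ⟨k, ?_⟩
          rw [← QuotientGroup.mk_pow, QuotientGroup.eq_one_iff, Subgroup.mem_subgroupOf]
          simpa using hk
      obtain ⟨k, hk⟩ := IsPGroup.iff_card.mp hP
      refine ⟨k, ?_⟩
      rw [← hk, Subgroup.relIndex, Subgroup.index_eq_card]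
    have hsup : U ≤ C ⊔ R₀ := by
      rw [← Subgroup.relIndex_eq_one]
      obtain ⟨k, hk⟩ := hCrel
      have h1 : (C ⊔ R₀).relIndex U ∣ p ^ k := by
        rw [← hk]; exact Subgroup.relIndex_dvd_of_le_left U le_sup_left
      have h2 : (C ⊔ R₀).relIndex U ∣ R₀.relIndex U := Subgroup.relIndex_dvd_of_le_left U le_sup_right
      obtain ⟨j, -, hj⟩ := (Nat.dvd_prime_pow (Fact.out : p.Prime)).mp h1
      rcases Nat.eq_zero_or_pos j with h0 | hpos
      · rw [hj, h0, pow_zero]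
      · exfalso
        apply hR₀rel
        refine dvd_trans ?_ h2
        rw [hj]
        exact dvd_pow_self p hpos.ne'
    -- conjugate `x A₁ x⁻¹` into `R₀` by an element of `C`
    have hA₁p : IsPGroup p A₁ := hSp.to_le (inf_le_left.trans hAS)
    set A₂ := rcg x⁻¹ A₁ with hA₂
    have hA₂U : A₂ ≤ U := by
      intro y hy
      rw [mem_rcg] at hy
      have h1 := conj_mem_stabU T D hDN hx (hA₁U hy)
      have : x * (x⁻¹ * y * x⁻¹⁻¹) * x⁻¹ = y := by group
      rwa [this] at h1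
    obtain ⟨u, huU, hu⟩ := conj_into_relSylow U R₀ A₂ inf_le_right hR₀p hR₀rel hA₂U
      (isPGroup_rcg _ hA₁p)
    have huCR : u ∈ ((C ⊔ R₀ : Subgroup G) : Set G) := hsup huU
    rw [Subgroup.coe_mul_of_right_le_normalizer_left C R₀ (inf_le_right.trans hUC)] at huCR
    obtain ⟨c, hc, r, hr, rfl⟩ := huCR
    have hcN : c ∈ N := hUN (hCU hc)
    have hc' : ∀ t ∈ T, c⁻¹ * t * c = t := by
      intro t ht
      have := (Subgroup.mem_centralizer_iff.mp hc) t ht
      calc c⁻¹ * t * c = c⁻¹ * (t * c) := by group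
        _ = c⁻¹ * (c * t) := by rw [this]
        _ = t := by group
    -- `y = c⁻¹ x`
    have hyA₁ : ∀ a ∈ A₁, (c⁻¹ * x) * a * (c⁻¹ * x)⁻¹ ∈ (S : Subgroup G) := by
      intro a ha
      have h1 : (c * r)⁻¹ * (x * a * x⁻¹) * (c * r) ∈ rcg (c * r) A₂ := by
        rw [mem_rcg, hA₂, mem_rcg]
        have : x⁻¹ * (c * r * ((c * r)⁻¹ * (x * a * x⁻¹) * (c * r)) * (c * r)⁻¹) * x⁻¹⁻¹ = a := by group
        rw [this]; exact ha
      have h2 := hu h1
      have h3 : r * ((c * r)⁻¹ * (x * a * x⁻¹) * (c * r)) * r⁻¹ ∈ R₀ :=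
        R₀.mul_mem (R₀.mul_mem hr h2) (R₀.inv_mem hr)
      have : r * ((c * r)⁻¹ * (x * a * x⁻¹) * (c * r)) * r⁻¹ = (c⁻¹ * x) * a * (c⁻¹ * x)⁻¹ := by group
      rw [this] at h3
      exact h3.1
    have hyT : ∀ t ∈ T, (c⁻¹ * x) * t * (c⁻¹ * x)⁻¹ = x * t * x⁻¹ := by
      intro t ht
      have ht' : x * t * x⁻¹ ∈ T := (Subgroup.mem_normalizer_iff.mp hx t).mp ht
      have := hc' _ ht'
      calc (c⁻¹ * x) * t * (c⁻¹ * x)⁻¹ = c⁻¹ * (x * t * x⁻¹) * c := by group
        _ = x * t * x⁻¹ := this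
    set T₁ := T ⊔ A₁ with hT₁
    have hT₁S : T₁ ≤ (S : Subgroup G) := sup_le hTS (inf_le_left.trans hAS)
    have hlt : T < T₁ := by
      refine lt_of_le_of_ne le_sup_left ?_
      intro h
      apply hcase
      rw [h]; exact le_sup_right
    have hyT₁ : ∀ t ∈ T₁, (c⁻¹ * x) * t * (c⁻¹ * x)⁻¹ ∈ (S : Subgroup G) := by
      have : T₁ ≤ (S : Subgroup G).comap (MulAut.conj (c⁻¹ * x)).toMonoidHom := by
        apply sup_le
        · intro t ht
          rw [Subgroup.mem_comap]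
          show (c⁻¹ * x) * t * (c⁻¹ * x)⁻¹ ∈ (S : Subgroup G)
          rw [hyT t ht]
          exact hTS ((Subgroup.mem_normalizer_iff.mp hx t).mp ht)
        · intro a ha
          rw [Subgroup.mem_comap]
          exact hyA₁ a ha
      intro t ht
      exact this ht
    obtain ⟨y', hy'A, hy'⟩ := IH T₁ hT₁S (card_lt_card_of_lt hlt) (c⁻¹ * x) hyT₁
    refine ⟨y', hy'A, ?_⟩
    intro t ht
    rw [← hyT t ht]
    exact hy' t (le_sup_left (a := T) ht)


include hA hAS hsc in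
/-- along a chain of tame steps the conjugation is induced by an element of `N_G(A)` -/
theorem chain_lemma (B : Subgroup G)
    (IH : ∀ T' : Subgroup G, T' ≤ (S : Subgroup G) → Nat.card B < Nat.card T' → ∀ g : G,
      (∀ t ∈ T', g * t * g⁻¹ ∈ (S : Subgroup G)) →
      ∃ y ∈ Subgroup.normalizer (A : Set G), ∀ t ∈ T', g * t * g⁻¹ = y * t * y⁻¹)
    (A' : Set G) (h : G) (hch : XChain (TameStep S) A' h) :
    ∀ B' : Subgroup G, A' = (B' : Set G) → Nat.card B' = Nat.card B →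
      ∃ y ∈ Subgroup.normalizer (A : Set G), ∀ a ∈ A', h⁻¹ * a * h = y * a * y⁻¹ := by
  induction hch with
  | nil A' =>
    intro B' _ _
    exact ⟨1, Subgroup.one_mem _, fun a _ => by group⟩
  | cons A' T x g hSt hxN hA'T _ ih =>
    intro B' hB' hcard
    obtain ⟨Q, hTQ, hrel, -, -⟩ := hSt
    have hTS : T ≤ (S : Subgroup G) := by rw [hTQ]; exact inf_le_left
    have hBT : Nat.card B ≤ Nat.card T := by
      rw [← hcard]
      apply Subgroup.card_le_of_le
      intro b hb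
      have : b ∈ A' := by rw [hB']; exact hb
      exact hA'T this
    obtain ⟨y₁, hy₁A, hy₁⟩ := step S A hA hAS hsc T hTS hrel
      (fun T' hT'S hlt => IH T' hT'S (lt_of_le_of_lt hBT hlt)) x⁻¹ (Subgroup.inv_mem _ hxN)
    obtain ⟨y₂, hy₂A, hy₂⟩ := ih (rcg x B') (by rw [coe_rcg, hB']) (by rw [card_rcg, hcard])
    refine ⟨y₂ * y₁, Subgroup.mul_mem _ hy₂A hy₁A, ?_⟩
    intro a ha
    have h1 : x⁻¹ * a * x ∈ rcs x A' := by
      rw [mem_rcs]
      have : x * (x⁻¹ * a * x) * x⁻¹ = a := by group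
      rw [this]; exact ha
    have h2 := hy₂ _ h1
    have h3 := hy₁ a (hA'T ha)
    rw [inv_inv] at h3
    calc (x * g)⁻¹ * a * (x * g) = g⁻¹ * (x⁻¹ * a * x) * g := by group
      _ = y₂ * (x⁻¹ * a * x) * y₂⁻¹ := h2
      _ = y₂ * (y₁ * a * y₁⁻¹) * y₂⁻¹ := by rw [h3]
      _ = y₂ * y₁ * a * (y₂ * y₁)⁻¹ := by group

include hA hAS hsc in
theorem main : ∀ (n : ℕ) (B : Subgroup G), Nat.card (S : Subgroup G) - Nat.card B = n →
    B ≤ (S : Subgroup G) → ∀ g : G, (∀ b ∈ B, g * b * g⁻¹ ∈ (S : Subgroup G)) →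
    ∃ y ∈ Subgroup.normalizer (A : Set G), ∀ b ∈ B, g * b * g⁻¹ = y * b * y⁻¹ := by
  intro n
  induction n using Nat.strong_induction_on with
  | _ n ih =>
    intro B hn hBS g hg
    have IH : ∀ T' : Subgroup G, T' ≤ (S : Subgroup G) → Nat.card B < Nat.card T' → ∀ g : G,
        (∀ t ∈ T', g * t * g⁻¹ ∈ (S : Subgroup G)) →
        ∃ y ∈ Subgroup.normalizer (A : Set G), ∀ t ∈ T', g * t * g⁻¹ = y * t * y⁻¹ := by
      intro T' hT'S hlt g' hg'
      have hle : Nat.card T' ≤ Nat.card (S : Subgroup G) := Subgroup.card_le_of_le hT'S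
      exact ih (Nat.card (S : Subgroup G) - Nat.card T') (by omega) T' rfl hT'S g' hg'
    have hch : XChain (TameStep S) (B : Set G) g⁻¹ := by
      apply tame_chain S (B : Set G) g⁻¹ (fun b hb => hBS hb)
      intro y hy
      rw [mem_rcs] at hy
      have h1 := hg _ hy
      have : g * (g⁻¹ * y * g⁻¹⁻¹) * g⁻¹ = y := by group
      rw [this] at h1
      exact h1
    obtain ⟨y, hyA, hy⟩ := chain_lemma S A hA hAS hsc B IH (B : Set G) g⁻¹ hch B rfl rfl
    refine ⟨y, hyA, ?_⟩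
    intro b hb
    have := hy b hb
    rw [inv_inv] at this
    exact this

end step

theorem result {G : Type*} [Group G] [Finite G] {p : ℕ} [Fact p.Prime] (S : Sylow p G) (A : Subgroup G) (hA : IsMulCommutative ↥A) (hsc : Cfsg.IsStronglyClosed A (S : Subgroup G)) : Cfsg.ControlsStrongFusion p A := by
  obtain ⟨hAS, hsc'⟩ := hsc
  have hA' : ∀ a ∈ A, ∀ b ∈ A, a * b = b * a := by
    intro a ha b hb
    have := hA.is_comm.comm ⟨a, ha⟩ ⟨b, hb⟩
    exact congrArg Subtype.val this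
  refine ⟨S, hAS, ?_⟩
  intro B hB
  refine ⟨hB, ?_⟩
  intro g hg
  have hcl : Subgroup.closure B ≤ (S : Subgroup G) := (Subgroup.closure_le _).mpr hB
  have hcl' : ∀ b ∈ Subgroup.closure B, g * b * g⁻¹ ∈ (S : Subgroup G) := by
    have : Subgroup.closure B ≤ (S : Subgroup G).comap (MulAut.conj g).toMonoidHom := by
      rw [Subgroup.closure_le]
      intro b hb
      exact hg ⟨b, hb, rfl⟩
    intro b hb
    exact this hb
  obtain ⟨y, hyA, hy⟩ := main S A hA' hAS hsc' _ (Subgroup.closure B) rfl hcl g hcl'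
  exact ⟨y, hyA, fun a ha => hy a (Subgroup.subset_closure ha)⟩

end Cfsg.Agent.S2791
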