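import Mathlib
import Cfsg.Statements.S2821
import Cfsg.Agent.Lib.Helper14.LargestPReduced
import Cfsg.Agent.Lib.Helper14.Kieler
import Cfsg.Agent.S2802
import Cfsg.Agent.S2791

set_option autoImplicit false
open Cfsg

namespace Cfsg.Agent.S2821

open Cfsg.Agent.Helper14

/-- `Ω₁(Z(R))` of a Sylow `p`-subgroup `R` of a group of characteristic `p` lies in the largest `p`-reduced normal subgroup -/
theorem omegaZ_le_largestPReduced {L : Type*} [Group L] [Finite L] {p : ℕ} [Fact p.Prime]
    (hchar : Subgroup.centralizer (Cfsg.pCore p L : Set L) ≤ Cfsg.pCore p L) (T : Sylow p L) :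
    omegaZ p (T : Subgroup L) ≤ largestPReduced p L := by
  set R : Subgroup L := (T : Subgroup L) with hR
  set Z := omegaZ p R with hZ
  have hZR : Z ≤ R := omegaZ_le p R
  have hZc : Z ≤ Subgroup.centralizer (R : Set L) := omegaZ_le_centralizer p R
  set X₀ : Subgroup ↥R := Z.subgroupOf R with hX₀
  have hmap : X₀.map R.subtype = Z := by
    rw [hX₀, Subgroup.subgroupOf_map_subtype, inf_of_le_left hZR]
  have hcen : ∀ x ∈ X₀, ∀ r : ↥R, r * x = x * r := by
    intro x hx r
    apply Subtype.ext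
    have h1 : (x : L) ∈ Subgroup.centralizer (R : Set L) := hZc (Subgroup.mem_subgroupOf.mp hx)
    exact (Subgroup.mem_centralizer_iff.mp h1) (r : L) r.2
  have hX : IsPReducedNormal p X₀ := by
    rw [isPReducedNormal_iff]
    refine ⟨⟨?_⟩, ⟨⟨⟨?_⟩⟩, ?_⟩, ?_⟩
    · intro x hx r
      have : r * x * r⁻¹ = x := by rw [hcen x hx r]; group
      rw [this]; exact hx
    · rintro ⟨a, ha⟩ ⟨b, hb⟩
      apply Subtype.ext
      exact (hcen b hb a)
    · intro a ha
      have h1 : (a : L) ∈ Z := Subgroup.mem_subgroupOf.mp ha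
      have h2 := (mem_omegaOne_center_iff.mp h1).2.2
      apply Subtype.ext
      simpa using h2
    · intro D _ _ d _
      rw [Subgroup.mem_centralizer_iff]
      intro x hx
      exact (hcen x hx d).symm
  have h := Cfsg.Agent.S2802.result hchar T R le_rfl X₀ hX
  rw [hmap] at h
  have h2 := (largestPReduced_spec (p := p) L).2 _ h
  exact Subgroup.le_normalClosure.trans h2

/-- Let H be a finite group, p a prime, T a Sylow p-subgroup and L a subgroup of characteristic p containing T; let Y_L be the largest p-reduced normal subgroup of L (the join of the normal elementary abelian p-subgroups V of L with O_p(L/C_L(V)) = 1). Then T₀ := C_T(Y_L) is a Sylow p-subgroup of C_H(Y_L); moreover O_p(L) ≤ T₀ ≤ C_L(Y_L) and Ω₁(Z(T)) ≤ Z_L ≤ Y_L ≤ Ω₁(Z(O_p(L))), where Z_L is generated by the Ω₁(Z(S)) over the Sylow p-subgroups S of L. -/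
theorem result {H : Type*} [Group H] [Finite H] {p : ℕ} [Fact p.Prime] (T : Sylow p H) (L : Subgroup H) (hTL : (T : Subgroup H) ≤ L) (hL : Subgroup.centralizer (Cfsg.pCore p ↥L : Set ↥L) ≤ Cfsg.pCore p ↥L) (T₀ : Subgroup H) (hT₀ : T₀ = (T : Subgroup H) ⊓ Subgroup.centralizer (((Cfsg.largestPReducedOf p L) : Subgroup H) : Set H)) : (∃ P : Sylow p ↥(Subgroup.centralizer (((Cfsg.largestPReducedOf p L) : Subgroup H) : Set H)), (P : Subgroup ↥(Subgroup.centralizer (((Cfsg.largestPReducedOf p L) : Subgroup H) : Set H))) = T₀.subgroupOf (Subgroup.centralizer (((Cfsg.largestPReducedOf p L) : Subgroup H) : Set H))) ∧ (Cfsg.pCoreOf p L) ≤ T₀ ∧ T₀ ≤ L ⊓ Subgroup.centralizer (((Cfsg.largestPReducedOf p L) : Subgroup H) : Set H) ∧ (Cfsg.omegaOne p ((T : Subgroup H) ⊓ Subgroup.centralizer (((T : Subgroup H) : Subgroup H) : Set H))) ≤ Cfsg.sylowCenterClosure p L ∧ Cfsg.sylowCenterClosure p L ≤ (Cfsg.largestPReducedOf p L) ∧ (Cfsg.largestPReducedOf p L) ≤ (Cfsg.omegaOne p ((Cfsg.pCoreOf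 p L) ⊓ Subgroup.centralizer (((Cfsg.pCoreOf p L) : Subgroup H) : Set H))) := by
  set Y := Cfsg.largestPReducedOf p L with hY
  set C := Subgroup.centralizer ((Y : Subgroup H) : Set H) with hC
  obtain ⟨hLY, hYe, hYred⟩ := largestPReducedOf_spec (p := p) L
  have hYL : Y ≤ L := largestPReducedOf_le p L
  have hTsyl : IsSylowOf p L (T : Subgroup H) := isSylowOf_of_sylow_le T hTL
  -- O_p(L) centralizes Y
  have hQC : Cfsg.pCoreOf p L ≤ C :=
    hYred _ (pCoreOf_le p L) (le_normalizer_pCoreOf p L) (powCond_of_isPGroup (pCoreOf_isPGroup p L) _)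
  have hQT : Cfsg.pCoreOf p L ≤ (T : Subgroup H) := pCoreOf_le_of_isSylowOf hTsyl
  refine ⟨?_, ?_, ?_, ?_, ?_, ?_⟩
  · -- Sylow in the centralizer
    have hTN : IsSylowOf p (Subgroup.normalizer ((Y : Subgroup H) : Set H)) (T : Subgroup H) :=
      isSylowOf_of_sylow_le T (hTL.trans hLY)
    have h1 : IsSylowOf p C ((T : Subgroup H) ⊓ C) :=
      hTN.inf_of_le_normalizer (Subgroup.centralizer_le_normalizer _)
        (Cfsg.Agent.S2791.normalizer_le_normalizer_centralizer Y)
    obtain ⟨P, hP⟩ := h1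
    refine ⟨P, ?_⟩
    rw [hT₀, ← hP]
    unfold Subgroup.subgroupOf
    rw [Subgroup.comap_map_eq_self_of_injective C.subtype_injective]
  · rw [hT₀]; exact le_inf hQT hQC
  · rw [hT₀]; exact inf_le_inf_right _ hTL
  · exact omegaZ_le_sylowCenterClosure hTsyl
  · rw [sylowCenterClosure_le_iff]
    rintro S ⟨S', rfl⟩
    have h1 := omegaZ_le_largestPReduced hL S'
    have h2 := Subgroup.map_mono (f := L.subtype) h1
    have h3 : (omegaZ p (S' : Subgroup ↥L)).map L.subtype = omegaZ p ((S' : Subgroup ↥L).map L.subtype) := by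
      unfold omegaZ
      rw [← omegaOne_map_of_injective p L.subtype L.subtype_injective, map_subtype_inf_centralizer]
    rw [h3] at h2
    exact h2
  · intro y hy
    rw [mem_omegaOne_center_iff]
    refine ⟨?_, ?_, hYe.2 y hy⟩
    · exact le_pCoreOf hYL hLY (IsElementaryAbelian.isPGroup hYe) hy
    · exact Subgroup.le_centralizer_iff.mp hQC hy

end Cfsg.Agent.S2821
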