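import Mathlib
import Cfsg.Statements.S2822
import Cfsg.Agent.Lib.Helper14.LargestPReduced
import Cfsg.Agent.Lib.Helper14.Kieler
import Cfsg.Agent.S2791

set_option autoImplicit false
open Cfsg

namespace Cfsg.Agent.S2822

open Cfsg.Agent.Helper14

/-- Let H be a finite group, p a prime, T a Sylow p-subgroup, and L, M subgroups of characteristic p containing T, with largest p-reduced normal subgroups Y_L, Y_M. If L·C_H(Y_M) = M·C_H(Y_M), then Y_M ≤ Y_L. -/
theorem result {H : Type*} [Group H] [Finite H] {p : ℕ} [Fact p.Prime] (T : Sylow p H) (L M : Subgroup H) (hTL : (T : Subgroup H) ≤ L) (hTM : (T : Subgroup H) ≤ M) (hL : Subgroup.centralizer (Cfsg.pCore p ↥L : Set ↥L) ≤ Cfsg.pCore p ↥L) (hM : Subgroup.centralizer (Cfsg.pCore p ↥M : Set ↥M) ≤ Cfsg.pCore p ↥M) : L ⊔ Subgroup.centralizer (((Cfsg.largestPReducedOf p M) : Subgroup H) : Set H) = M ⊔ Subgroup.centralizer (((Cfsg.largestPReducedOf p M) : Subgroup H) : Set H) → (Cfsg.largestPReducedOf p M) ≤ (Cfsg.largestPReducedOf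 p L) := by
  intro heq
  set Y := Cfsg.largestPReducedOf p M with hY
  set C := Subgroup.centralizer ((Y : Subgroup H) : Set H) with hC
  obtain ⟨hMY, hYe, hYred⟩ := largestPReducedOf_spec (p := p) M
  have hYM : Y ≤ M := largestPReducedOf_le p M
  have hTsyl : IsSylowOf p M (T : Subgroup H) := isSylowOf_of_sylow_le T hTM
  have hYQ : Y ≤ Cfsg.pCoreOf p M := le_pCoreOf hYM hMY (IsElementaryAbelian.isPGroup hYe)
  have hYL : Y ≤ L := (hYQ.trans (pCoreOf_le_of_isSylowOf hTsyl)).trans hTL
  have hNC : Subgroup.normalizer ((Y : Subgroup H) : Set H) ≤ Subgroup.normalizer ((C : Subgroup H) : Set H) :=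
    Cfsg.Agent.S2791.normalizer_le_normalizer_centralizer Y
  have hCN : C ≤ Subgroup.normalizer ((Y : Subgroup H) : Set H) := Subgroup.centralizer_le_normalizer _
  have hLY : L ≤ Subgroup.normalizer ((Y : Subgroup H) : Set H) := by
    calc L ≤ L ⊔ C := le_sup_left
      _ = M ⊔ C := heq
      _ ≤ Subgroup.normalizer ((Y : Subgroup H) : Set H) := sup_le hMY hCN
  apply le_largestPReducedOf hYL
  rw [isPReducedNormal_subgroupOf_iff hYL]
  refine ⟨hLY, hYe, ?_⟩
  intro D hDL hLD hDp
  have hDC : D ≤ Subgroup.normalizer ((C : Subgroup H) : Set H) := (hDL.trans hLY).trans hNC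
  have hsupp : PowCond p (D ⊔ C) C := hDp.sup_of_le_normalizer hDC
  set E := (D ⊔ C) ⊓ M with hE
  have hnormDC : L ⊔ C ≤ Subgroup.normalizer ((D ⊔ C : Subgroup H) : Set H) := by
    apply sup_le
    · intro l hl
      have h1 : l ∈ Subgroup.normalizer (D : Set H) ⊓ Subgroup.normalizer ((C : Subgroup H) : Set H) :=
        ⟨hLD hl, hNC (hLY hl)⟩
      exact Subgroup.normalizer_inf_normalizer_le_normalizer_sup D C h1
    · exact le_sup_right.trans Subgroup.le_normalizer
  have hME : M ≤ Subgroup.normalizer ((E : Subgroup H) : Set H) := by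
    intro m hm
    have h1 : m ∈ Subgroup.normalizer ((D ⊔ C : Subgroup H) : Set H) := by
      apply hnormDC
      rw [heq]
      exact Subgroup.mem_sup_left hm
    have h2 : m ∈ Subgroup.normalizer ((M : Subgroup H) : Set H) := Subgroup.le_normalizer hm
    rw [Subgroup.mem_normalizer_iff] at h1 h2 ⊢
    intro x
    rw [hE, Subgroup.mem_inf, Subgroup.mem_inf, ← h1 x, ← h2 x]
  have hEC : E ≤ C := hYred E inf_le_right hME (hsupp.mono_left inf_le_left)
  intro d hd
  have hdMC : d ∈ M ⊔ C := by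
    rw [← heq]
    exact Subgroup.mem_sup_left (hDL hd)
  obtain ⟨m, hm, c, hc, rfl⟩ := (mem_sup_of_le_normalizer (hMY.trans hNC)).mp hdMC
  have hmE : m ∈ E := by
    refine ⟨?_, hm⟩
    have : m = (m * c) * c⁻¹ := by group
    rw [this]
    exact Subgroup.mul_mem _ (Subgroup.mem_sup_left hd) (Subgroup.mem_sup_right (C.inv_mem hc))
  exact C.mul_mem (hEC hmE) hc

end Cfsg.Agent.S2822
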