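import Mathlib
import Cfsg.Statements.S2824
import Cfsg.Agent.Lib.Helper14.LargestPReduced

set_option autoImplicit false
open Cfsg

namespace Cfsg.Agent.S2824

open Cfsg.Agent.Helper14

/-- Let H be a finite group, p a prime, T a Sylow p-subgroup, L and M subgroups of characteristic p containing T, Y_L the largest p-reduced normal subgroup of L and T₀ = C_T(Y_L). If M·C_H(Y_L) = L·C_H(Y_L), then L* := N_M(T₀) has Y_{L*} = Y_L and L·C_H(Y_L) = L*·C_H(Y_L). -/
theorem result {H : Type*} [Group H] [Finite H] {p : ℕ} [Fact p.Prime] (T : Sylow p H) (L M : Subgroup H) (hTL : (T : Subgroup H) ≤ L) (hTM : (T : Subgroup H) ≤ M) (hL : Subgroup.centralizer (Cfsg.pCore p ↥L : Set ↥L) ≤ Cfsg.pCore p ↥L) (hM : Subgroup.centralizer (Cfsg.pCore p ↥M : Set ↥M) ≤ Cfsg.pCore p ↥M) (T₀ : Subgroup H) (hT₀ : T₀ = (T : Subgroup H) ⊓ Subgroup.centralizer (((Cfsg.largestPReducedOf p L) : Subgroup H) : Set H)) (hfac : M ⊔ Subgroup.centralizer (((Cfsg.largestPReducedOf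 p L) : Subgroup H) : Set H) = L ⊔ Subgroup.centralizer (((Cfsg.largestPReducedOf p L) : Subgroup H) : Set H)) (Ls : Subgroup H) (hLs : Ls = M ⊓ Subgroup.normalizer ((T₀ : Subgroup H) : Set H)) : (Cfsg.largestPReducedOf p Ls) = (Cfsg.largestPReducedOf p L) ∧ L ⊔ Subgroup.centralizer (((Cfsg.largestPReducedOf p L) : Subgroup H) : Set H) = Ls ⊔ Subgroup.centralizer (((Cfsg.largestPReducedOf p L) : Subgroup H) : Set H) := by
  set Y := Cfsg.largestPReducedOf p L with hY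
  set C := Subgroup.centralizer (Y : Set H) with hC
  obtain ⟨hLY, hYe, hYred⟩ := largestPReducedOf_spec (p := p) L
  have hYL : Y ≤ L := largestPReducedOf_le p L
  have hYp : IsPGroup p Y := Cfsg.Agent.Helper14.IsElementaryAbelian.isPGroup hYe
  have hYc : ∀ a ∈ Y, ∀ b ∈ Y, a * b = b * a := by
    intro a ha b hb
    exact congrArg Subtype.val (hYe.1.is_comm.comm ⟨a, ha⟩ ⟨b, hb⟩)
  -- normalizers of Y and C
  have hCY : C ≤ Subgroup.normalizer (Y : Set H) := Subgroup.centralizer_le_normalizer _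
  have hLCY : L ⊔ C ≤ Subgroup.normalizer (Y : Set H) := sup_le hLY hCY
  have hMY : M ≤ Subgroup.normalizer (Y : Set H) := (le_sup_left.trans hfac.le).trans hLCY
  have hMC : M ≤ Subgroup.normalizer (C : Set H) := le_normalizer_centralizer_of_le_normalizer hMY
  have hLC : L ≤ Subgroup.normalizer (C : Set H) := le_normalizer_centralizer_of_le_normalizer hLY
  -- Sylow facts
  have hTSL : IsSylowOf p L (T : Subgroup H) := isSylowOf_of_sylow_le T hTL
  have hTSM : IsSylowOf p M (T : Subgroup H) := isSylowOf_of_sylow_le T hTM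
  have hYT : Y ≤ (T : Subgroup H) :=
    (le_pCoreOf hYL hLY hYp).trans (pCoreOf_le_of_isSylowOf hTSL)
  have hYC : Y ≤ C := by
    intro y hy
    rw [hC, Subgroup.mem_centralizer_iff]
    intro z hz
    exact hYc z hz y hy
  have hYT₀ : Y ≤ T₀ := hT₀ ▸ le_inf hYT hYC
  have hT₀T : T₀ ≤ (T : Subgroup H) := hT₀ ▸ inf_le_left
  have hT₀C : T₀ ≤ C := hT₀ ▸ inf_le_right
  have hT₀p : IsPGroup p T₀ := T.isPGroup'.to_le hT₀T
  have hTN : (T : Subgroup H) ≤ Subgroup.normalizer (T₀ : Set H) := by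
    rw [hT₀]
    exact le_normalizer_inf Subgroup.le_normalizer (hTL.trans hLC)
  have hTLs : (T : Subgroup H) ≤ Ls := hLs ▸ le_inf hTM hTN
  have hLsM : Ls ≤ M := hLs ▸ inf_le_left
  have hLsN : Ls ≤ Subgroup.normalizer (T₀ : Set H) := hLs ▸ inf_le_right
  have hTSLs : IsSylowOf p Ls (T : Subgroup H) := isSylowOf_of_sylow_le T hTLs
  -- second claim
  have hsecond : M ⊔ C = Ls ⊔ C := by
    apply le_antisymm
    · apply sup_le _ le_sup_right
      have hK : IsSylowOf p (M ⊓ C) ((T : Subgroup H) ⊓ (M ⊓ C)) :=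
        hTSM.inf_of_le_normalizer inf_le_left (le_normalizer_inf Subgroup.le_normalizer hMC)
      have hTK : (T : Subgroup H) ⊓ (M ⊓ C) = T₀ := by
        rw [hT₀, ← inf_assoc, inf_of_le_left hTM]
      rw [hTK] at hK
      intro m hm
      obtain ⟨k, hk, n, hn, rfl⟩ := frattini_rel inf_le_left
        (le_normalizer_inf Subgroup.le_normalizer hMC) hK m hm
      refine Subgroup.mul_mem _ (Subgroup.mem_sup_right (Subgroup.mem_inf.mp hk).2)
        (Subgroup.mem_sup_left ?_)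
      rw [hLs]
      exact hn
    · exact sup_le (hLsM.trans le_sup_left) le_sup_right
  have hLsC : L ⊔ C = Ls ⊔ C := hfac.symm.trans hsecond
  refine ⟨?_, hLsC⟩
  -- Y is p-reduced in Ls
  have hYLs : Y ≤ Ls := (hYT₀.trans hT₀T).trans hTLs
  have hLsY : Ls ≤ Subgroup.normalizer (Y : Set H) := hLsM.trans hMY
  have hLsNC : Ls ≤ Subgroup.normalizer (C : Set H) := hLsM.trans hMC
  have hYredLs : Cfsg.IsPReducedNormal p (Y.subgroupOf Ls) := by
    rw [isPReducedNormal_subgroupOf_iff hYLs]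
    refine ⟨hLsY, hYe, ?_⟩
    intro D hDLs hLsD hDp
    have hDNC : D ≤ Subgroup.normalizer (C : Set H) := hDLs.trans hLsNC
    have hDCp : PowCond p (D ⊔ C) C := hDp.sup_of_le_normalizer hDNC
    have hLsDC : Ls ⊔ C ≤ Subgroup.normalizer ((D ⊔ C : Subgroup H) : Set H) :=
      sup_le (le_normalizer_sup hLsD hLsNC) (le_sup_right.trans Subgroup.le_normalizer)
    have hLDC : L ≤ Subgroup.normalizer ((D ⊔ C : Subgroup H) : Set H) :=
      (le_sup_left.trans hLsC.le).trans hLsDC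
    have hD₁ : (D ⊔ C) ⊓ L ≤ C :=
      hYred _ inf_le_right (le_normalizer_inf hLDC Subgroup.le_normalizer) (hDCp.mono_left inf_le_left)
    intro d hd
    have hdLC : d ∈ L ⊔ C := hLsC.symm ▸ Subgroup.mem_sup_left (hDLs hd)
    obtain ⟨l, hl, c, hc, rfl⟩ := (mem_sup_of_le_normalizer hLC).mp hdLC
    have hlD : l ∈ D ⊔ C := by
      have e : l = (l * c) * c⁻¹ := by group
      rw [e]
      exact Subgroup.mul_mem _ (Subgroup.mem_sup_left hd) (Subgroup.mem_sup_right (C.inv_mem hc))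
    exact C.mul_mem (hD₁ (Subgroup.mem_inf.mpr ⟨hlD, hl⟩)) hc
  have hge : Y ≤ Cfsg.largestPReducedOf p Ls := le_largestPReducedOf hYLs hYredLs
  apply le_antisymm _ hge
  -- Y_{Ls} ≤ Y
  set Ys := Cfsg.largestPReducedOf p Ls with hYs
  obtain ⟨hLsYs, hYse, hYsred⟩ := largestPReducedOf_spec (p := p) Ls
  have hYsLs : Ys ≤ Ls := largestPReducedOf_le p Ls
  have hYsp : IsPGroup p Ys := Cfsg.Agent.Helper14.IsElementaryAbelian.isPGroup hYse
  have hYsT : Ys ≤ (T : Subgroup H) :=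
    (le_pCoreOf hYsLs hLsYs hYsp).trans (pCoreOf_le_of_isSylowOf hTSLs)
  have hT₀Ys : T₀ ≤ Subgroup.centralizer (Ys : Set H) :=
    hYsred T₀ (hT₀T.trans hTLs) hLsN (powCond_of_isPGroup hT₀p _)
  have hYsCT₀ : Ys ≤ Subgroup.centralizer (T₀ : Set H) := Subgroup.le_centralizer_iff.mp hT₀Ys
  have hYsC : Ys ≤ C := by
    intro y hy
    rw [hC, Subgroup.mem_centralizer_iff]
    intro z hz
    exact congrArg Subtype.val (hYse.1.is_comm.comm ⟨z, hge hz⟩ ⟨y, hy⟩)
  have hYsT₀ : Ys ≤ T₀ := hT₀ ▸ le_inf hYsT hYsC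
  have hYeq := largestPReducedOf_eq_omegaOne L hL T hTL
  rw [← hY, ← hC, ← hT₀] at hYeq
  rw [hYeq]
  intro y hy
  exact Subgroup.subset_closure ⟨Subgroup.mem_inf.mpr ⟨hYsT₀ hy, hYsCT₀ hy⟩, hYse.2 y hy⟩

end Cfsg.Agent.S2824
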