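import Mathlib
import Cfsg.Statements.S2848
import Cfsg.Agent.Lib.Helper28.PReduced
import Cfsg.Agent.Lib.Helper28.WeaklyClosed

set_option autoImplicit false
open Cfsg

namespace Cfsg.Agent.S2848

open Cfsg.Agent.Helper14 Cfsg.Agent.Helper28

/-- In a `p`-closed finite group, every element of `p`-power order lies in each Sylow `p`-subgroup. -/
theorem mem_sylow_of_isPClosed {X : Type*} [Group X] [Finite X] {p : ℕ} [hp : Fact p.Prime]
    (hcl : IsPClosed p X) (P0 : Sylow p X) {x : X} {k : ℕ} (hx : x ^ (p ^ k) = 1) : x ∈ P0 := by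
  have hdvd : orderOf x ∣ p ^ k := orderOf_dvd_of_pow_eq_one hx
  obtain ⟨j, -, hj⟩ := (Nat.dvd_prime_pow hp.out).mp hdvd
  have hz : IsPGroup p (Subgroup.zpowers x) := IsPGroup.of_card (n := j) (by rw [Nat.card_zpowers, hj])
  obtain ⟨P1, hP1⟩ := hz.exists_le_sylow
  obtain ⟨g, hg⟩ := MulAction.exists_smul_eq X P0 P1
  have hn : (P0 : Subgroup X).Normal := hcl P0
  have : g • P0 = P0 := Sylow.smul_eq_of_normal
  rw [this] at hg
  rw [hg]
  exact hP1 (Subgroup.mem_zpowers x)

/-- Standing hypotheses: G a finite group, S a Sylow p-subgroup, Q a nontrivial large p-subgroup of G contained in S (C_G(Q) ≤ Q and N_G(U) ≤ N_G(Q) for all nontrivial U ≤ C_G(Q)), and M a subgroup containing S with the basic property (M ∈ 𝔐_G(S)); Y_M denotes the largest p-reduced normal subgroup of M and M† = M·C_G(Y_M). Then O_p(M) is a weakly closed subgroup of M† (for p): it is the only M†-conjugate of itself inside some Sylow p-subgroup of M† containing it. -/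
theorem result {G : Type*} [Group G] [Finite G] {p : ℕ} [Fact p.Prime] (S : Sylow p G) (Q : Subgroup G) (hQp : IsPGroup p ↥Q) (hQ1 : Q ≠ ⊥) (hQS : Q ≤ (S : Subgroup G)) (hQ : Cfsg.IsLarge Q) (M : Subgroup G) (hSM : (S : Subgroup G) ≤ M) (hM : Cfsg.IsInFrakM p M) : Cfsg.IsWeaklyClosedSubgroup p (((Cfsg.pCoreOf p M)).subgroupOf (M ⊔ Subgroup.centralizer (((Cfsg.largestPReducedOf p M) : Subgroup G) : Set G))) := by
  set Y := Cfsg.largestPReducedOf p M with hY
  set C := Subgroup.centralizer ((Y : Subgroup G) : Set G) with hC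
  set Md := M ⊔ C with hMd
  set O := Cfsg.pCoreOf p M with hO
  have hMN : M ≤ Subgroup.normalizer (Y : Set G) := le_normalizer_largestPReducedOf p M
  have hMNC : M ≤ Subgroup.normalizer (C : Set G) := le_normalizer_centralizer_of_le_normalizer hMN
  have hOC : O ≤ C := pCoreOf_le_centralizer_largestPReducedOf p M
  have hSMd : (S : Subgroup G) ≤ Md := hSM.trans le_sup_left
  have hOS : O ≤ (S : Subgroup G) := pCoreOf_le_of_isSylowOf (isSylowOf_of_sylow_le S hSM)
  have hMNO : M ≤ Subgroup.normalizer (O : Set G) := le_normalizer_pCoreOf p M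
  -- the Sylow subgroup of C_M(Y)
  have hcl : IsPClosed p ↥(M ⊓ C) := hM.2.2.2.2.1
  obtain ⟨P0⟩ : Nonempty (Sylow p ↥(M ⊓ C)) := Sylow.nonempty
  set P0' := (P0 : Subgroup ↥(M ⊓ C)).map (M ⊓ C).subtype with hP0'
  have claimA : ∀ x : G, x ∈ M ⊓ C → ∀ k : ℕ, x ^ (p ^ k) = 1 → x ∈ P0' := by
    intro x hx k hk
    have hx' : (⟨x, hx⟩ : ↥(M ⊓ C)) ^ (p ^ k) = 1 := by
      apply Subtype.ext
      simpa using hk
    exact ⟨⟨x, hx⟩, mem_sylow_of_isPClosed hcl P0 hx', rfl⟩
  have hP0'le : P0' ≤ M ⊓ C := Subgroup.map_subtype_le _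
  have hP0'p : IsPGroup p P0' := P0.isPGroup'.map _
  have claimB : M ≤ Subgroup.normalizer (P0' : Set G) := by
    apply le_normalizer_of_map_conj_le
    intro m hm z hz
    rw [mem_map_conj_iff] at hz
    obtain ⟨y', hy', hy'z⟩ := hz
    obtain ⟨k, hk⟩ := P0.isPGroup' ⟨y', hy'⟩
    have hk' : ((y' : ↥(M ⊓ C)) : G) ^ (p ^ k) = 1 := by
      have := congrArg (fun t : ↥(P0 : Subgroup ↥(M ⊓ C)) => (((t : ↥(M ⊓ C)) : G))) hk
      simpa using this
    have hyM : ((y' : ↥(M ⊓ C)) : G) ∈ M := (Subgroup.mem_inf.mp y'.2).1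
    have hyC : ((y' : ↥(M ⊓ C)) : G) ∈ C := (Subgroup.mem_inf.mp y'.2).2
    have hzeq : z = m * ((y' : ↥(M ⊓ C)) : G) * m⁻¹ := by
      have : ((y' : ↥(M ⊓ C)) : G) = m⁻¹ * z * m := hy'z
      rw [this]; group
    apply claimA z _ k
    · rw [hzeq, conj_pow, hk']; group
    · rw [hzeq]
      refine Subgroup.mem_inf.mpr ⟨M.mul_mem (M.mul_mem hm hyM) (M.inv_mem hm), ?_⟩
      exact (Subgroup.mem_normalizer_iff.mp (hMNC hm) _).mp hyC
  have hP0'O : P0' ≤ O := le_pCoreOf (hP0'le.trans inf_le_left) claimB hP0'p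
  have hSC : (S : Subgroup G) ⊓ C ≤ O := by
    intro x hx
    apply hP0'O
    obtain ⟨hxS, hxC⟩ := Subgroup.mem_inf.mp hx
    obtain ⟨k, hk⟩ := S.isPGroup' ⟨x, hxS⟩
    have hk' : x ^ (p ^ k) = 1 := by
      have := congrArg Subtype.val hk
      simpa using this
    exact claimA x (Subgroup.mem_inf.mpr ⟨hSM hxS, hxC⟩) k hk'
  refine ⟨S.subtype hSMd, ?_, ?_⟩
  · rw [Sylow.coe_subtype]
    intro x hx
    exact Subgroup.mem_subgroupOf.mpr (hOS (Subgroup.mem_subgroupOf.mp hx))
  · intro g hg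
    rw [Sylow.coe_subtype] at hg
    rw [subgroupOf_map_conj] at hg ⊢
    have hgmem : (g : G) ∈ ((C ⊔ M : Subgroup G) : Set G) := by
      rw [sup_comm]; exact g.2
    rw [Subgroup.coe_mul_of_right_le_normalizer_left C M hMNC] at hgmem
    obtain ⟨c, hc, m, hm, hcm⟩ := Set.mem_mul.mp hgmem
    have h1 : O.map (MulAut.conj (g : G)).toMonoidHom = O.map (MulAut.conj c).toMonoidHom := by
      rw [← hcm, conj_mul_map, map_conj_eq_self_of_le_normalizer hMNO hm]
    have hle1 : O.map (MulAut.conj c).toMonoidHom ≤ C :=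
      (Subgroup.map_mono hOC).trans_eq (map_conj_eq_self_of_mem hc)
    have hOMd : O ≤ Md := hOS.trans hSMd
    have hle2 : O.map (MulAut.conj (g : G)).toMonoidHom ≤ (S : Subgroup G) := by
      intro y hy
      have hyMd : y ∈ Md := by
        have h2 : O.map (MulAut.conj (g : G)).toMonoidHom ≤ Md :=
          (Subgroup.map_mono hOMd).trans_eq (map_conj_eq_self_of_mem g.2)
        exact h2 hy
      have := hg (show (⟨y, hyMd⟩ : Md) ∈ _ from Subgroup.mem_subgroupOf.mpr hy)
      exact Subgroup.mem_subgroupOf.mp this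
    have hle : O.map (MulAut.conj (g : G)).toMonoidHom ≤ O := by
      intro y hy
      apply hSC
      refine Subgroup.mem_inf.mpr ⟨hle2 hy, ?_⟩
      rw [h1] at hy
      exact hle1 hy
    have heq : O.map (MulAut.conj (g : G)).toMonoidHom = O := by
      apply Subgroup.eq_of_le_of_card_ge hle
      rw [Subgroup.card_map_of_injective (MulAut.conj (g : G)).injective]
    rw [heq]

end Cfsg.Agent.S2848
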