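import Mathlib
import Cfsg.Statements.S2840
import Cfsg.Agent.Lib.Helper28.WeaklyClosed

set_option autoImplicit false
open Cfsg

namespace Cfsg.Agent.S2840

open Cfsg.Agent.Helper14 Cfsg.Agent.Helper28

/-- Let Q be a nontrivial p-subgroup of the finite group H that is a weakly closed subgroup and K a subgroup containing Q; let K° be the weak closure of Q in K (generated by the H-conjugates of Q inside K). Then K° is generated by the K-conjugates of Q, and K° is the subnormal closure of Q in K. -/
theorem result {H : Type*} [Group H] [Finite H] {p : ℕ} [Fact p.Prime] (Q : Subgroup H) (hQp : IsPGroup p ↥Q) (hQ1 : Q ≠ ⊥) (hwc : Cfsg.IsWeaklyClosedSubgroup p Q) (K : Subgroup H) (hQK : Q ≤ K) (Kc : Subgroup H) (hKc : Kc = Cfsg.weakClosure Q K) : Kc = ⨆ k : ↥K, ((Q : Subgroup H).map (MulAut.conj ((k : H) : H)).toMonoidHom) ∧ Kc = (Cfsg.subnormalClosure (Q.subgroupOf K)).map K.subtype := by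
  have hconjK : ∀ k : K, Q.map (MulAut.conj (k : H)).toMonoidHom ≤ K := by
    intro k
    calc Q.map (MulAut.conj (k : H)).toMonoidHom ≤ K.map (MulAut.conj (k : H)).toMonoidHom :=
          Subgroup.map_mono hQK
      _ = K := map_conj_eq_self_of_mem k.2
  have h1 : Kc = ⨆ k : ↥K, ((Q : Subgroup H).map (MulAut.conj ((k : H) : H)).toMonoidHom) := by
    rw [hKc]
    unfold weakClosure
    apply le_antisymm
    · apply iSup_le
      rintro ⟨g, hg⟩
      obtain ⟨k, hk, hkeq⟩ := weaklyClosed_conj_in_overgroup hQp hwc hQK hg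
      show Q.map (MulAut.conj g).toMonoidHom ≤ _
      rw [hkeq]
      exact le_iSup (fun k : ↥K => Q.map (MulAut.conj (k : H)).toMonoidHom) ⟨k, hk⟩
    · apply iSup_le
      intro k
      exact le_iSup (fun g : {g : H // Q.map (MulAut.conj g).toMonoidHom ≤ K} =>
        Q.map (MulAut.conj (g : H)).toMonoidHom) ⟨(k : H), hconjK k⟩
  refine ⟨h1, ?_⟩
  have hKcK : Kc ≤ K := by
    rw [h1]
    exact iSup_le hconjK
  have hQKc : Q ≤ Kc := by
    rw [h1]
    have h := le_iSup (fun k : ↥K => Q.map (MulAut.conj (k : H)).toMonoidHom) (1 : K)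
    have h2 : Q.map (MulAut.conj (((1 : K) : K) : H)).toMonoidHom = Q := by
      ext x
      rw [mem_map_conj_iff]
      simp
    exact h2.symm.le.trans h
  have hwcK := weaklyClosed_subgroupOf hQp hwc hQK
  have hApK : IsPGroup p (Q.subgroupOf K) := hQp.comap_subtype
  -- conj (k:H) Q as an image
  have himg : ∀ k : K, ((Q.subgroupOf K).map (MulAut.conj k).toMonoidHom).map K.subtype =
      Q.map (MulAut.conj (k : H)).toMonoidHom := by
    intro k
    rw [subgroupOf_map_conj, Subgroup.map_subgroupOf_eq_of_le (hconjK k)]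
  apply le_antisymm
  · rw [h1]
    apply iSup_le
    intro k
    rw [← himg k]
    apply Subgroup.map_mono
    unfold subnormalClosure
    apply le_sInf
    rintro S ⟨hAS, hS⟩
    exact weaklyClosed_conj_le_subnormal hApK hwcK hS hAS k
  · have hnorm : K ≤ Subgroup.normalizer (Kc : Set H) := by
      apply le_normalizer_of_map_conj_le
      intro g hg
      rw [h1, Subgroup.map_iSup]
      apply iSup_le
      intro k
      rw [← conj_mul_map]
      exact le_iSup (fun k : ↥K => Q.map (MulAut.conj (k : H)).toMonoidHom) (⟨g, hg⟩ * k)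
    have hN : (Kc.subgroupOf K).Normal := (Subgroup.normal_subgroupOf_iff_le_normalizer hKcK).mpr hnorm
    have hmem : Kc.subgroupOf K ∈ {S : Subgroup K | Q.subgroupOf K ≤ S ∧ S.IsSubnormal} :=
      ⟨fun x hx => Subgroup.mem_subgroupOf.mpr (hQKc (Subgroup.mem_subgroupOf.mp hx)), hN.isSubnormal⟩
    calc (subnormalClosure (Q.subgroupOf K)).map K.subtype
        ≤ (Kc.subgroupOf K).map K.subtype := Subgroup.map_mono (sInf_le hmem)
      _ = Kc := Subgroup.map_subgroupOf_eq_of_le hKcK

end Cfsg.Agent.S2840
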