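import Mathlib
import Cfsg.Statements.S1428
import Cfsg.Agent.S1350
import Cfsg.Agent.S1403
import Cfsg.Agent.S1404
import Cfsg.Agent.S1405
import Cfsg.Agent.S1406
import Cfsg.Agent.S1408
import Cfsg.Agent.S1409
import Cfsg.Agent.S1411
import Cfsg.Agent.S1413
import Cfsg.Agent.S1414
import Cfsg.Agent.S1415
import Cfsg.Agent.S1416
import Cfsg.Agent.S1417
import Cfsg.Agent.S1418
import Cfsg.Agent.S1423
import Cfsg.Agent.Lib.Lead.BGNonab
import Cfsg.Agent.Lib.Helper18.BG13Q8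
import Cfsg.Agent.Lib.Helper23.BG13A2

set_option autoImplicit false
open Cfsg

namespace Cfsg.Agent.S1428

/-- the earlier rows used in the proof of BG 13.7 -/
theorem hyps {G : Type*} [Group G] [Finite G] (hG : Cfsg.IsMinSimpleOddOrder G) :
    Cfsg.Agent.Helper18.BG13Q.Hyps G where
  hG := hG
  h1350 := fun M hM => Cfsg.Agent.S1350.result hG M hM
  h1403 := fun K hK hK2 hK3 => Cfsg.Agent.S1403.result hG K hK hK2 hK3
  h1404 := fun M hM p _ hp X hXp hX1 hXM => Cfsg.Agent.S1404.result hG M hM p hp X hXp hX1 hXM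
  h1405 := fun M hM => Cfsg.Agent.S1405.result hG M hM
  h1406 := fun M hM X hXM hXα hr => Cfsg.Agent.S1406.result hG M hM X hXM hXα hr
  h1408 := fun M hM p _ hp hr2 hr1 => Cfsg.Agent.S1408.result hG M hM p hp hr2 hr1
  h1409 := fun M hM p _ hp X hX hNX => Cfsg.Agent.S1409.result hG M hM p hp X hX hNX
  h1411 := fun p _ P V hV => Cfsg.Agent.S1411.result hG p P V hV
  h1413 := fun p _ P => Cfsg.Agent.S1413.result hG p P
  h1414 := fun M hM => Cfsg.Agent.S1414.result hG M hM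
  h1415 := fun M hM E hE => Cfsg.Agent.S1415.result hG M hM E hE
  h1416 := fun M hM p _ A hA => Cfsg.Agent.S1416.result hG M hM p A hA
  h1417 := fun M hM p _ hp A hA => Cfsg.Agent.S1417.result hG M hM p hp A hA
  h1418 := fun M hM E hE p _ hp A hA => Cfsg.Agent.S1418.result hG M hM E hE p hp A hA
  h1422 := fun p _ P hP hPna =>
    Cfsg.Agent.Lead.BGNonab.nonabelian_uniqueness hG
      (fun K hK hK2 hK3 => Cfsg.Agent.S1403.result hG K hK hK2 hK3)
      (fun M hM => (Cfsg.Agent.S1350.result hG M hM).1)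
      (fun M hM p _ hp A hA P => ((Cfsg.Agent.S1417.result hG M hM p hp A hA).2.1 P).1)
      (fun M hM p _ hp X hXM hX hX' =>
        (Cfsg.Agent.S1423.result hG M hM p hp X hXM hX (Classical.arbitrary _) (Or.inr hX')).1)
      p P hP hPna

/-- step (A2) of the descent (helper23) -/
theorem stepA2 {G : Type*} [Group G] [Finite G] (hG : Cfsg.IsMinSimpleOddOrder G) :
    Cfsg.Agent.Helper18.BG13Q.StepA2 G := by
  intro M H P R Q₀ S p r q _ _ hM hH hconj hpM hPM hpH hpβ hP hR hrH hRH hRP hqM hqτ hQ₀ hQ₀1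
    hQ₀M hQ₀H' hRQ₀ hS hPS hSσ hSQ₀ hRS
  exact Cfsg.Agent.Helper23.BG13A2.exists_noncentralizing (hyps hG) hM hH hconj hpM hPM hpH hpβ
    hP hR hrH hRH hRP hqM hqτ hQ₀ hQ₀1 hQ₀M hQ₀H' hRQ₀ hS hPS hSσ hSQ₀ hRS

/-- Let G be a minimal simple group of odd order, M a maximal subgroup, E a complement to M_σ in M, p ∈ τ₁(M), P ≤ E a subgroup of order p, and R a subgroup of prime order of E ∩ C_G(P). Then M_σ ∩ C_G(P) ≤ M_σ ∩ C_G(R). -/
theorem result {G : Type*} [Group G] [Finite G] (hG : Cfsg.IsMinSimpleOddOrder G)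
    (M : Subgroup G) (hM : IsCoatom M) (E : Subgroup G) (hE : Cfsg.IsComplIn E (Cfsg.sigmaCore M) M) (p : ℕ) (hp : p ∈ Cfsg.tau1 M) (P : Subgroup G) (hPE : P ≤ E) (hP : Nat.card P = p)
    (R : Subgroup G) (hRE : R ≤ E ⊓ Subgroup.centralizer (P : Set G)) (hR : (Nat.card R).Prime) :
    Cfsg.sigmaCore M ⊓ Subgroup.centralizer (P : Set G) ≤ Cfsg.sigmaCore M ⊓ Subgroup.centralizer (R : Set G) := by
  exact Cfsg.Agent.Helper18.BG13Q.theorem_13_7 (hyps hG) Cfsg.Agent.Helper18.BG13Q.notTau2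
    (Cfsg.Agent.Helper18.BG13Q.descent_of_stepA2 (stepA2 hG)) Cfsg.Agent.Helper18.BG13Q.swap
    M hM E hE p hp P hPE hP R hRE hR

end Cfsg.Agent.S1428
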