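import Mathlib
import Cfsg.Statements.S1378
import Cfsg.Agent.S1350
import Cfsg.Agent.S1414
import Cfsg.Agent.S1417
import Cfsg.Agent.S1422
import Cfsg.Agent.S1423
import Cfsg.Agent.S1426
import Cfsg.Agent.S1427
import Cfsg.Agent.S1428
import Cfsg.Agent.Lib.Helper4.BGSigI
import Cfsg.Agent.Lib.Helper18.BG107A

set_option autoImplicit false
open Cfsg

namespace Cfsg.Agent.S1378

/-- Let G be a minimal simple group of odd order. Then every prime dividing the order of G belongs to σ(M) for some maximal subgroup M, and if σ(M) and σ(N) have a prime in common for maximal subgroups M, N then N is conjugate to M; so the sets σ(M_i) over representatives of the conjugacy classes of maximal subgroups partition the prime divisors of #G. -/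
theorem result {G : Type*} [Group G] [Finite G] (hG : Cfsg.IsMinSimpleOddOrder G) :
    (∀ p : ℕ, p.Prime → p ∣ Nat.card G → ∃ M : Subgroup G, IsCoatom M ∧ p ∈ Cfsg.sigma M) ∧
      ∀ M N : Subgroup G, IsCoatom M → IsCoatom N → (Cfsg.sigma M ∩ Cfsg.sigma N).Nonempty → ∃ g : G, N = M.map (MulAut.conj g).toMonoidHom := by
  refine ⟨?_, ?_⟩
  · intro p hp hpG
    haveI : Fact p.Prime := ⟨hp⟩
    obtain ⟨P⟩ : Nonempty (Sylow p G) := inferInstance
    have hP1 : (P : Subgroup G) ≠ ⊥ := P.ne_bot_of_dvd_card hpG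
    obtain ⟨M, hM, -, hpM⟩ := Cfsg.Agent.Helper18.BG107.exists_coatom_sigma hG P hP1
    exact ⟨M, hM, hpM⟩
  · exact Cfsg.Agent.Helper4.BGSig.sigma_partition
      ⟨hG,
       fun M hM => Cfsg.Agent.S1350.result hG M hM,
       fun M hM => Cfsg.Agent.S1414.result hG M hM,
       fun M hM p _ hp A hA => Cfsg.Agent.S1417.result hG M hM p hp A hA,
       fun p _ P hP hPna => Cfsg.Agent.S1422.result hG p P hP hPna,
       fun M hM p _ hp X hXM hX P h => Cfsg.Agent.S1423.result hG M hM p hp X hXM hX P h,
       fun M hM E hE => Cfsg.Agent.S1426.result hG M hM E hE,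
       fun M hM E hE p _ S hS1 hSc => Cfsg.Agent.S1427.result hG M hM E hE p S hS1 hSc,
       fun M hM E hE p hp P hPE hP R hRE hR =>
         Cfsg.Agent.S1428.result hG M hM E hE p hp P hPE hP R hRE hR⟩

end Cfsg.Agent.S1378
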