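import Mathlib
import Cfsg.Statements.S1477
import Cfsg.Agent.S1473
import Cfsg.Agent.Lib.Helper8.ElemDecomp

set_option autoImplicit false
open Cfsg

namespace Cfsg.Agent.S1477

universe u

section basics

variable {G : Type u} [Group G] [Finite G]

theorem centralizer_eq (hCN : Cfsg.IsCNGroup G) (H : Subgroup G)
    (hmax : ∀ L : Subgroup G, Group.IsNilpotent L → H ≤ L → L = H) {z : G} (hz1 : z ≠ 1)
    (hzc : ∀ h ∈ H, h * z = z * h) : Subgroup.centralizer ({z} : Set G) = H :=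
  hmax _ (hCN z hz1) (fun h hh => Subgroup.mem_centralizer_singleton_iff.mpr (hzc h hh))

/-- A `p`-element of the nilpotent subgroup `H` commuting with all `p`-elements of `H` is central
in `H`. -/
theorem central_of_p_central (H : Subgroup G) (hH : Group.IsNilpotent H) {p : ℕ} (hp : p.Prime)
    {x : G} (hxH : x ∈ H) (hxp : ∃ k : ℕ, orderOf x ∣ p ^ k)
    (hx : ∀ y ∈ H, (∃ k : ℕ, orderOf y ∣ p ^ k) → y * x = x * y) : ∀ h ∈ H, h * x = x * h := by
  intro h hh
  obtain ⟨a, b, hab, hka, hcb, _⟩ :=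
    Helper8.exists_p_decomp h (isOfFinOrder_of_finite h) p hp
  have h1 : h ^ a * x = x * h ^ a := hx _ (H.zpow_mem hh a) hka
  obtain ⟨k, hk⟩ := hxp
  have h2 : h ^ b * x = x * h ^ b :=
    S1473.commute_of_mem_nilpotent hH (H.zpow_mem hh b) hxH
      (Nat.Coprime.coprime_dvd_right hk (Nat.Coprime.pow_right k hcb))
  calc h * x = h ^ a * (h ^ b * x) := by rw [← mul_assoc, ← hab]
    _ = h ^ a * (x * h ^ b) := by rw [h2]
    _ = (h ^ a * x) * h ^ b := by rw [mul_assoc]
    _ = (x * h ^ a) * h ^ b := by rw [h1]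
    _ = x * h := by rw [mul_assoc, ← hab]

/-- The `p`-part of a nilpotent subgroup. -/
theorem exists_pPart (H : Subgroup G) (hH : Group.IsNilpotent H) (p : ℕ) [Fact p.Prime]
    (hpH : p ∣ Nat.card H) :
    ∃ P : Subgroup G, P ≤ H ∧ IsPGroup p P ∧ P ≠ ⊥ ∧
      (∀ y ∈ H, (∃ k : ℕ, orderOf y ∣ p ^ k) → y ∈ P) ∧
      (¬ p ∣ H.index → ¬ p ∣ P.index) ∧
      ∃ x ∈ P, x ≠ 1 ∧ ∀ y ∈ P, y * x = x * y := by
  have hp : p.Prime := Fact.out
  obtain ⟨P₀⟩ : Nonempty (Sylow p H) := inferInstance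
  have htfae : Group.IsNilpotent H ↔
      ∀ (p : ℕ), Fact (Nat.Prime p) → ∀ (P : Sylow p H), (P : Subgroup H).Normal :=
    (Group.isNilpotent_of_finite_tfae (G := H)).out 0 3
  haveI hnorm : (P₀ : Subgroup H).Normal := htfae.mp hH p inferInstance P₀
  have hP₀ne : (P₀ : Subgroup H) ≠ ⊥ := P₀.ne_bot_of_dvd_card hpH
  refine ⟨(P₀ : Subgroup H).map H.subtype, ?_, P₀.2.map _, ?_, ?_, ?_, ?_⟩
  · rintro _ ⟨y, _, rfl⟩
    exact y.2
  · intro hbot
    apply hP₀ne
    rw [eq_bot_iff]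
    intro y hy
    have : H.subtype y ∈ (P₀ : Subgroup H).map H.subtype := Subgroup.mem_map_of_mem _ hy
    rw [hbot, Subgroup.mem_bot] at this
    rw [Subgroup.mem_bot]
    exact Subtype.ext this
  · intro y hyH ⟨k, hk⟩
    have hyp : IsPGroup p (Subgroup.zpowers (⟨y, hyH⟩ : H)) := by
      apply IsPGroup.of_card (n := (Nat.factorization (orderOf y)) p)
      rw [Nat.card_zpowers, Subgroup.orderOf_mk]
      obtain ⟨j, _, hj⟩ := (Nat.dvd_prime_pow hp).mp hk
      rw [hj, Nat.Prime.factorization_pow hp]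
      simp
    obtain ⟨Q₀, hQ₀⟩ := hyp.exists_le_sylow
    obtain ⟨g, hg⟩ := MulAction.exists_smul_eq H P₀ Q₀
    rw [Sylow.smul_eq_of_normal] at hg
    refine ⟨⟨y, hyH⟩, ?_, rfl⟩
    rw [hg]
    exact hQ₀ (Subgroup.mem_zpowers _)
  · intro hidx
    rw [Subgroup.index_map_subtype]
    intro h
    rcases (Nat.Prime.dvd_mul hp).mp h with h1 | h1
    · exact P₀.not_dvd_index h1
    · exact hidx h1
  · haveI : Nontrivial (P₀ : Subgroup H) := (Subgroup.nontrivial_iff_ne_bot _).mpr hP₀ne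
    haveI := P₀.2.center_nontrivial
    obtain ⟨x₀, hx₀⟩ := exists_ne (1 : Subgroup.center (P₀ : Subgroup H))
    refine ⟨(((x₀ : (P₀ : Subgroup H)) : H) : G), ⟨_, (x₀ : (P₀ : Subgroup H)).2, rfl⟩, ?_, ?_⟩
    · intro h0
      exact hx₀ (Subtype.ext (Subtype.ext (Subtype.ext h0)))
    · rintro _ ⟨y, hy, rfl⟩
      have := (Subgroup.mem_center_iff.mp x₀.2) ⟨y, hy⟩
      have h1 := congrArg Subtype.val this
      exact congrArg Subtype.val h1

end basics

section partA

variable {G : Type u} [Group G] [Finite G]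

theorem partA (hCN : Cfsg.IsCNGroup G) (H : Subgroup G) (hH : Group.IsNilpotent H)
    (hmax : ∀ L : Subgroup G, Group.IsNilpotent L → H ≤ L → L = H) :
    (Nat.card H).Coprime H.index := by
  by_contra hcon
  obtain ⟨p, hp, hp1, hp2⟩ := Nat.Prime.not_coprime_iff_dvd.mp hcon
  haveI : Fact p.Prime := ⟨hp⟩
  obtain ⟨P, hPH, hPp, hPne, hPall, _, x, hxP, hx1, hxc⟩ := exists_pPart H hH p hp1
  obtain ⟨S, hPS⟩ := hPp.exists_le_sylow
  have hSne : (S : Subgroup G) ≠ ⊥ := by
    intro h0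
    rw [h0, le_bot_iff] at hPS
    exact hPne hPS
  haveI : Nontrivial (S : Subgroup G) := (Subgroup.nontrivial_iff_ne_bot _).mpr hSne
  haveI := S.2.center_nontrivial
  obtain ⟨u₀, hu₀⟩ := exists_ne (1 : Subgroup.center (S : Subgroup G))
  have huS : ((u₀ : (S : Subgroup G)) : G) ∈ (S : Subgroup G) := (u₀ : (S : Subgroup G)).2
  have hu1 : ((u₀ : (S : Subgroup G)) : G) ≠ 1 := fun h0 => hu₀ (Subtype.ext (Subtype.ext h0))
  have huc : ∀ s ∈ (S : Subgroup G), s * ((u₀ : (S : Subgroup G)) : G)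
      = ((u₀ : (S : Subgroup G)) : G) * s := by
    intro s hs
    have := (Subgroup.mem_center_iff.mp u₀.2) ⟨s, hs⟩
    exact congrArg Subtype.val this
  set u : G := ((u₀ : (S : Subgroup G)) : G) with hu
  have hxpe : ∃ k : ℕ, orderOf x ∣ p ^ k := S1473.orderOf_dvd_of_isPGroup hPp hxP
  have hxcen : ∀ h ∈ H, h * x = x * h :=
    central_of_p_central H hH hp (hPH hxP) hxpe (fun y hy hyp => hxc y (hPall y hy hyp))
  have hCx := centralizer_eq hCN H hmax hx1 hxcen
  have huH : u ∈ H := by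
    rw [← hCx, Subgroup.mem_centralizer_singleton_iff]
    exact (huc x (hPS hxP)).symm
  have hupe : ∃ k : ℕ, orderOf u ∣ p ^ k := S1473.orderOf_dvd_of_isPGroup S.2 huS
  have hucen : ∀ h ∈ H, h * u = u * h :=
    central_of_p_central H hH hp huH hupe (fun y hy hyp => huc y (hPS (hPall y hy hyp)))
  have hCu := centralizer_eq hCN H hmax hu1 hucen
  have hSH : (S : Subgroup G) ≤ H := by
    intro s hs
    rw [← hCu, Subgroup.mem_centralizer_singleton_iff]
    exact huc s hs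
  exact S.not_dvd_index (dvd_trans hp2 (Subgroup.index_dvd_of_le hSH))

end partA

section partBC

variable {G : Type u} [Group G] [Finite G]

theorem sylow_eq_of_le_nilpotent {q : ℕ} [Fact q.Prime] (R₁ R₂ : Sylow q G) (N : Subgroup G)
    (hN : Group.IsNilpotent N) (h₁ : (R₁ : Subgroup G) ≤ N) (h₂ : (R₂ : Subgroup G) ≤ N) :
    (R₁ : Subgroup G) = R₂ := by
  have htfae : Group.IsNilpotent N ↔
      ∀ (p : ℕ), Fact (Nat.Prime p) → ∀ (P : Sylow p N), (P : Subgroup N).Normal :=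
    (Group.isNilpotent_of_finite_tfae (G := N)).out 0 3
  haveI hnorm : ((R₁.subtype h₁ : Sylow q N) : Subgroup N).Normal :=
    htfae.mp hN q inferInstance (R₁.subtype h₁)
  obtain ⟨n, hn⟩ := MulAction.exists_smul_eq N (R₁.subtype h₁) (R₂.subtype h₂)
  rw [Sylow.smul_eq_of_normal] at hn
  have h3 : (R₁ : Subgroup G).subgroupOf N = (R₂ : Subgroup G).subgroupOf N := by
    have := congrArg (fun S : Sylow q N => (S : Subgroup N)) hn
    simpa only [Sylow.coe_subtype] using this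
  ext x
  constructor
  · intro hx
    have : (⟨x, h₁ hx⟩ : N) ∈ (R₁ : Subgroup G).subgroupOf N := Subgroup.mem_subgroupOf.mpr hx
    rw [h3] at this
    exact Subgroup.mem_subgroupOf.mp this
  · intro hx
    have : (⟨x, h₂ hx⟩ : N) ∈ (R₂ : Subgroup G).subgroupOf N := Subgroup.mem_subgroupOf.mpr hx
    rw [← h3] at this
    exact Subgroup.mem_subgroupOf.mp this

theorem partC (hCN : Cfsg.IsCNGroup G) (H : Subgroup G) (hH : Group.IsNilpotent H)
    (hmax : ∀ L : Subgroup G, Group.IsNilpotent L → H ≤ L → L = H)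
    (hTI : ∀ g : G, H.map (MulAut.conj g).toMonoidHom ≠ H →
      H ⊓ H.map (MulAut.conj g).toMonoidHom = ⊥) :
    ∀ x ∈ H, x ≠ 1 → Subgroup.centralizer ({x} : Set G) ≤ H := by
  intro x hxH hx1 c hc
  have hcop := partA hCN H hH hmax
  haveI : Nontrivial H := ⟨⟨⟨x, hxH⟩, 1, fun h => hx1 (congrArg Subtype.val h)⟩⟩
  obtain ⟨z₀, hz₀⟩ := (Subgroup.ne_bot_iff_exists_ne_one).mp
    (Group.IsNilpotent.center_ne_bot (G := H))
  have hzH : ((z₀ : H) : G) ∈ H := (z₀ : H).2
  have hz1 : ((z₀ : H) : G) ≠ 1 := fun h0 => hz₀ (Subtype.ext (Subtype.ext h0))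
  have hzc : ∀ h ∈ H, h * ((z₀ : H) : G) = ((z₀ : H) : G) * h := by
    intro h hh
    have := (Subgroup.mem_center_iff.mp z₀.2) ⟨h, hh⟩
    exact congrArg Subtype.val this
  set z : G := ((z₀ : H) : G) with hz
  have hCz := centralizer_eq hCN H hmax hz1 hzc
  have hnorm : ∀ d ∈ Subgroup.centralizer ({x} : Set G),
      H.map (MulAut.conj d).toMonoidHom = H := by
    intro d hd
    by_contra hne
    have h1 := hTI d hne
    have h2 : x ∈ H ⊓ H.map (MulAut.conj d).toMonoidHom := by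
      refine Subgroup.mem_inf.mpr ⟨hxH, ⟨x, hxH, ?_⟩⟩
      have h3 : d * x = x * d := Subgroup.mem_centralizer_singleton_iff.mp hd
      change d * x * d⁻¹ = x
      rw [h3]; group
    rw [h1, Subgroup.mem_bot] at h2
    exact hx1 h2
  have hconjH : ∀ d ∈ Subgroup.centralizer ({x} : Set G), ∀ y ∈ H, d * y * d⁻¹ ∈ H := by
    intro d hd y hy
    rw [← hnorm d hd]
    exact ⟨y, hy, rfl⟩
  apply Helper8.mem_of_forall_primePow_pow H (orderOf c) c rfl
  rintro j ⟨q, k, hq, hqk⟩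
  have hdC : c ^ j ∈ Subgroup.centralizer ({x} : Set G) := Subgroup.zpow_mem _ hc j
  haveI : Fact q.Prime := ⟨hq⟩
  by_cases hqH : q ∣ Nat.card H
  · obtain ⟨Q, hQH, hQq, hQne, hQall, hQidx, _⟩ := exists_pPart H hH q hqH
    have hqidx : ¬ q ∣ H.index := by
      intro h
      have := Nat.dvd_gcd hqH h
      rw [hcop] at this
      exact hq.ne_one (Nat.dvd_one.mp this)
    have hQsyl : ¬ q ∣ Q.index := hQidx hqidx
    have hconjQ : ∀ d ∈ Subgroup.centralizer ({x} : Set G), ∀ y ∈ Q, d * y * d⁻¹ ∈ Q := by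
      intro d hd y hy
      apply hQall _ (hconjH d hd y (hQH hy))
      obtain ⟨i, hi⟩ := S1473.orderOf_dvd_of_isPGroup hQq hy
      refine ⟨i, orderOf_dvd_of_pow_eq_one ?_⟩
      rw [conj_pow, orderOf_dvd_iff_pow_eq_one.mp hi]; group
    have hdN : c ^ j ∈ Subgroup.normalizer (Q : Set G) := by
      rw [Subgroup.mem_normalizer_iff]
      intro y
      constructor
      · intro hy; exact hconjQ _ hdC y hy
      · intro hy
        have h1 := hconjQ _ (Subgroup.inv_mem _ hdC) _ hy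
        have h2 : (c ^ j)⁻¹ * (c ^ j * y * (c ^ j)⁻¹) * (c ^ j)⁻¹⁻¹ = y := by group
        rwa [h2] at h1
    have hdq : IsPGroup q (Subgroup.zpowers (c ^ j)) := by
      obtain ⟨i, _, hi⟩ := (Nat.dvd_prime_pow hq).mp hqk
      exact IsPGroup.of_card (n := i) (by rw [Nat.card_zpowers, hi])
    have hsup : IsPGroup q (Subgroup.zpowers (c ^ j) ⊔ Q : Subgroup G) :=
      IsPGroup.to_sup_of_normal_right' hdq hQq (by rw [Subgroup.zpowers_le]; exact hdN)
    have h3 := (hQq.toSylow hQsyl).3 hsup (by rw [IsPGroup.toSylow_coe]; exact le_sup_right)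
    rw [IsPGroup.toSylow_coe] at h3
    apply hQH
    rw [← h3]
    exact Subgroup.mem_sup_left (Subgroup.mem_zpowers _)
  · have hdz : c ^ j * z = z * c ^ j := by
      apply S1473.commute_of_mem_nilpotent (hCN x hx1) hdC
      · exact Subgroup.mem_centralizer_singleton_iff.mpr (hzc x hxH).symm
      · exact Nat.Coprime.coprime_dvd_left hqk (Nat.Coprime.pow_left k
          (Nat.Coprime.coprime_dvd_right (Subgroup.orderOf_dvd_natCard _ hzH)
            ((Nat.Prime.coprime_iff_not_dvd hq).mpr hqH)))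
    have : c ^ j ∈ Subgroup.centralizer ({z} : Set G) :=
      Subgroup.mem_centralizer_singleton_iff.mpr hdz
    rwa [hCz] at this

theorem partB (hCN : Cfsg.IsCNGroup G) (H : Subgroup G) (hH : Group.IsNilpotent H)
    (hmax : ∀ L : Subgroup G, Group.IsNilpotent L → H ≤ L → L = H)
    (hnpp : ¬ IsPrimePow (Nat.card H)) (hne1 : Nat.card H ≠ 1) (g : G)
    (hg : H.map (MulAut.conj g).toMonoidHom ≠ H) :
    H ⊓ H.map (MulAut.conj g).toMonoidHom = ⊥ := by
  by_contra hne
  obtain ⟨⟨x, hx⟩, hx1⟩ := (Subgroup.ne_bot_iff_exists_ne_one).mp hne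
  have hx_ne : x ≠ 1 := fun h0 => hx1 (Subtype.ext h0)
  obtain ⟨hxH, hxH'⟩ := Subgroup.mem_inf.mp hx
  -- a power of prime order
  have hm : orderOf x ≠ 1 := fun h => hx_ne (orderOf_eq_one_iff.mp h)
  have hm0 : orderOf x ≠ 0 := (orderOf_pos x).ne'
  have hp : (orderOf x).minFac.Prime := Nat.minFac_prime hm
  have hpd : (orderOf x).minFac ∣ orderOf x := Nat.minFac_dvd _
  have hx'o : orderOf (x ^ (orderOf x / (orderOf x).minFac)) = (orderOf x).minFac :=
    orderOf_pow_orderOf_div hm0 hpd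
  set p := (orderOf x).minFac with hpdef
  set x' := x ^ (orderOf x / p) with hx'def
  have hx'1 : x' ≠ 1 := by
    intro h0
    rw [h0, orderOf_one] at hx'o
    exact hp.one_lt.ne hx'o
  have hx'H : x' ∈ H := H.pow_mem hxH _
  have hx'H' : x' ∈ H.map (MulAut.conj g).toMonoidHom := Subgroup.pow_mem _ hxH' _
  -- another prime
  obtain ⟨q, hq, hqH, hqp⟩ : ∃ q : ℕ, q.Prime ∧ q ∣ Nat.card H ∧ q ≠ p := by
    by_contra hall
    push Not at hall
    have h1 := Nat.eq_prime_pow_of_unique_prime_dvd (n := Nat.card H) (p := p) Nat.card_pos.ne'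
      (fun {d} hd hdvd => hall d hd hdvd)
    apply hnpp
    rw [h1]
    apply IsPrimePow.pow hp.isPrimePow
    intro h0
    rw [h0, pow_zero] at h1
    exact hne1 h1
  haveI : Fact q.Prime := ⟨hq⟩
  set H' := H.map (MulAut.conj g).toMonoidHom with hH'def
  have hH' : Group.IsNilpotent H' := S1473.isNilpotent_map _ hH
  have hmax' : ∀ L : Subgroup G, Group.IsNilpotent L → H' ≤ L → L = H' := by
    intro L hL hle
    have h1 : H ≤ L.map (MulAut.conj g⁻¹).toMonoidHom := by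
      intro h hh
      refine ⟨g * h * g⁻¹, hle ⟨h, hh, rfl⟩, ?_⟩
      change g⁻¹ * (g * h * g⁻¹) * g⁻¹⁻¹ = h
      group
    have h2 := hmax _ (S1473.isNilpotent_map _ hL) h1
    apply le_antisymm _ hle
    intro y hy
    have h3 : g⁻¹ * y * g ∈ H := by
      rw [← h2]
      refine ⟨y, hy, ?_⟩
      change g⁻¹ * y * g⁻¹⁻¹ = g⁻¹ * y * g
      group
    refine ⟨g⁻¹ * y * g, h3, ?_⟩
    change g * (g⁻¹ * y * g) * g⁻¹ = y
    group
  have hcardH' : Nat.card H' = Nat.card H :=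
    (Nat.card_congr (Subgroup.equivMapOfInjective H (MulAut.conj g).toMonoidHom
      (MulAut.conj g).injective).toEquiv).symm
  have hcop := partA hCN H hH hmax
  have hcop' := partA hCN H' hH' hmax'
  obtain ⟨Q, hQH, hQq, hQne, hQall, hQidx, z, hzQ, hz1, hzc⟩ := exists_pPart H hH q hqH
  obtain ⟨Q', hQ'H, hQ'q, hQ'ne, hQ'all, hQ'idx, _⟩ :=
    exists_pPart H' hH' q (by rw [hcardH']; exact hqH)
  have hqidx : ¬ q ∣ H.index := by
    intro h
    have := Nat.dvd_gcd hqH h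
    rw [hcop] at this
    exact hq.ne_one (Nat.dvd_one.mp this)
  have hqidx' : ¬ q ∣ H'.index := by
    intro h
    have := Nat.dvd_gcd (show q ∣ Nat.card H' by rw [hcardH']; exact hqH) h
    rw [hcop'] at this
    exact hq.ne_one (Nat.dvd_one.mp this)
  have hcop_qp : ∀ i : ℕ, (q ^ i).Coprime p := fun i =>
    Nat.Coprime.pow_left i ((Nat.coprime_primes hq hp).mpr hqp)
  have hQC : Q ≤ Subgroup.centralizer ({x'} : Set G) := by
    intro y hy
    obtain ⟨i, hi⟩ := S1473.orderOf_dvd_of_isPGroup hQq hy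
    rw [Subgroup.mem_centralizer_singleton_iff]
    apply S1473.commute_of_mem_nilpotent hH (hQH hy) hx'H
    rw [hx'o]
    exact Nat.Coprime.coprime_dvd_left hi (hcop_qp i)
  have hQ'C : Q' ≤ Subgroup.centralizer ({x'} : Set G) := by
    intro y hy
    obtain ⟨i, hi⟩ := S1473.orderOf_dvd_of_isPGroup hQ'q hy
    rw [Subgroup.mem_centralizer_singleton_iff]
    apply S1473.commute_of_mem_nilpotent hH' (hQ'H hy) hx'H'
    rw [hx'o]
    exact Nat.Coprime.coprime_dvd_left hi (hcop_qp i)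
  have hQQ' : Q = Q' := by
    have := sylow_eq_of_le_nilpotent (hQq.toSylow (hQidx hqidx)) (hQ'q.toSylow (hQ'idx hqidx'))
      (Subgroup.centralizer ({x'} : Set G)) (hCN x' hx'1)
      (by rw [IsPGroup.toSylow_coe]; exact hQC) (by rw [IsPGroup.toSylow_coe]; exact hQ'C)
    rwa [IsPGroup.toSylow_coe, IsPGroup.toSylow_coe] at this
  have hzpe : ∃ k : ℕ, orderOf z ∣ q ^ k := S1473.orderOf_dvd_of_isPGroup hQq hzQ
  have hzcenH : ∀ h ∈ H, h * z = z * h :=
    central_of_p_central H hH hq (hQH hzQ) hzpe (fun y hy hyp => hzc y (hQall y hy hyp))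
  have hzcenH' : ∀ h ∈ H', h * z = z * h :=
    central_of_p_central H' hH' hq (hQ'H (hQQ' ▸ hzQ)) hzpe
      (fun y hy hyp => hzc y (hQQ'.symm ▸ hQ'all y hy hyp))
  have h1 := centralizer_eq hCN H hmax hz1 hzcenH
  have h2 := centralizer_eq hCN H' hmax' hz1 hzcenH'
  exact hg (h2.symm.trans h1)

end partBC

/-- Let G be a finite group in which every non-identity element has nilpotent centralizer, and H a nilpotent subgroup not properly contained in any nilpotent subgroup. Then the order of H is coprime to its index; if the order of H is not a prime power then H ∩ gHg⁻¹ = 1 whenever gHg⁻¹ ≠ H; and if H ∩ gHg⁻¹ = 1 whenever gHg⁻¹ ≠ H, then C_G(x) ≤ H for every non-identity x ∈ H. -/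
theorem result {G : Type*} [Group G] [Finite G] (hCN : Cfsg.IsCNGroup G) (H : Subgroup G) (hH : Group.IsNilpotent H)
    (hmax : ∀ L : Subgroup G, Group.IsNilpotent L → H ≤ L → L = H) :
    (Nat.card H).Coprime H.index ∧
      (¬ IsPrimePow (Nat.card H) → Nat.card H ≠ 1 → ∀ g : G, H.map (MulAut.conj g).toMonoidHom ≠ H → H ⊓ H.map (MulAut.conj g).toMonoidHom = ⊥) ∧
      ((∀ g : G, H.map (MulAut.conj g).toMonoidHom ≠ H → H ⊓ H.map (MulAut.conj g).toMonoidHom = ⊥) → ∀ x ∈ H, x ≠ 1 → Subgroup.centralizer ({x} : Set G) ≤ H) :=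
  ⟨partA hCN H hH hmax, fun hnpp hne1 g hg => partB hCN H hH hmax hnpp hne1 g hg,
    fun hTI => partC hCN H hH hmax hTI⟩

end Cfsg.Agent.S1477
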