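import Cfsg.Agent.Lib.Helper16.Basic
import Cfsg.Agent.Lib.Helper1.Focal
import Cfsg.Statements.S0077
-- import your own Cfsg.Agent.* helpers here

set_option autoImplicit false
open Cfsg

namespace Cfsg.Agent.S0077

open scoped commutatorElement

/-- Fusion control: with `Z` weakly closed in the Sylow subgroup `P` and centralized by `P`,
two `G`-conjugate elements of `P` are conjugate under the normalizer of `Z`. -/
theorem exists_normalizer_conj {G : Type*} [Group G] [Finite G] {p : ℕ} [Fact p.Prime]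
    (P : Sylow p G) (Z : Subgroup G) (hZ : Z ≤ Subgroup.centralizer ((P : Subgroup G) : Set G))
    (hW : Cfsg.IsWeaklyClosed Z P) (x u : G) (hx : x ∈ (P : Subgroup G))
    (hy : u * x * u⁻¹ ∈ (P : Subgroup G)) :
    ∃ n ∈ Subgroup.normalizer (Z : Set G), n * x * n⁻¹ = u * x * u⁻¹ := by
  obtain ⟨hZP, hwc⟩ := hW
  set y := u * x * u⁻¹ with hydef
  set Cy := Subgroup.centralizer ({y} : Set G) with hCy
  have hZp : IsPGroup p Z := P.2.to_le hZP
  set Z' := Z.map (MulAut.conj u).toMonoidHom with hZ'
  have hZ'p : IsPGroup p Z' := hZp.map _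
  have hZCy : Z ≤ Cy := by
    intro z hz
    rw [hCy, Subgroup.mem_centralizer_iff]
    intro w hw
    rw [Set.mem_singleton_iff] at hw
    subst hw
    have := hZ hz
    rw [Subgroup.mem_centralizer_iff] at this
    exact this y hy
  have hZ'Cy : Z' ≤ Cy := by
    rintro _ ⟨z, hz, rfl⟩
    rw [hCy, Subgroup.mem_centralizer_iff]
    intro w hw
    rw [Set.mem_singleton_iff] at hw
    subst hw
    have h1 := hZ hz
    rw [Subgroup.mem_centralizer_iff] at h1
    have h2 : x * z = z * x := h1 x hx
    change y * (u * z * u⁻¹) = (u * z * u⁻¹) * y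
    rw [hydef]
    calc u * x * u⁻¹ * (u * z * u⁻¹) = u * (x * z) * u⁻¹ := by group
    _ = u * (z * x) * u⁻¹ := by rw [h2]
    _ = u * z * u⁻¹ * (u * x * u⁻¹) := by group
  obtain ⟨c, hc, R, hR, -, hZR, hcR⟩ :=
    Cfsg.Agent.Helper16.exists_conj_mem_common_pGroup Cy Z Z' hZCy hZ'Cy hZp hZ'p
  obtain ⟨k, hk⟩ := Cfsg.Agent.Helper16.exists_conj_le_sylow hR P
  have hkN : k ∈ Subgroup.normalizer (Z : Set G) := by
    apply Cfsg.Agent.Helper16.mem_normalizer_of_map_conj_eq
    apply hwc
    rintro _ ⟨z, hz, rfl⟩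
    exact hk z (hZR hz)
  have hkcuN : k * c * u ∈ Subgroup.normalizer (Z : Set G) := by
    apply Cfsg.Agent.Helper16.mem_normalizer_of_map_conj_eq
    apply hwc
    rintro _ ⟨z, hz, rfl⟩
    have h1 : u * z * u⁻¹ ∈ Z' := ⟨z, hz, rfl⟩
    have h2 := hk _ (hcR _ h1)
    change k * c * u * z * (k * c * u)⁻¹ ∈ (P : Subgroup G)
    have : k * c * u * z * (k * c * u)⁻¹ = k * (c * (u * z * u⁻¹) * c⁻¹) * k⁻¹ := by group
    rw [this]
    exact h2
  refine ⟨c * u, ?_, ?_⟩
  · have : c * u = k⁻¹ * (k * c * u) := by group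
    rw [this]
    exact Subgroup.mul_mem _ (Subgroup.inv_mem _ hkN) hkcuN
  · have hcy : c * y = y * c := by
      rw [hCy, Subgroup.mem_centralizer_iff] at hc
      exact (hc y rfl).symm
    calc c * u * x * (c * u)⁻¹ = c * y * c⁻¹ := by rw [hydef]; group
    _ = y := by rw [hcy]; group

/-- If a subgroup Z of the centre of a Sylow p-subgroup P is weakly closed in P, then P meets the derived subgroup of G exactly where it meets the derived subgroup of the normalizer of Z. -/
theorem result {G : Type*} [Group G] [Finite G] {p : ℕ} [Fact p.Prime] (P : Sylow p G) (Z : Subgroup G) (hZ : Z ≤ Subgroup.centralizer (P : Set G)) (hW : Cfsg.IsWeaklyClosed Z P) : commutator G ⊓ (P : Subgroup G) = ⁅Subgroup.normalizer (Z : Set G), Subgroup.normalizer (Z : Set G)⁆ ⊓ (P : Subgroup G) := by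
  have hZP : Z ≤ (P : Subgroup G) := hW.1
  have hPN : (P : Subgroup G) ≤ Subgroup.normalizer (Z : Set G) := by
    intro t ht
    rw [Subgroup.mem_normalizer_iff]
    intro z
    have key : ∀ w ∈ Z, t * w * t⁻¹ = w := by
      intro w hw
      have := hZ hw
      rw [Subgroup.mem_centralizer_iff] at this
      have h2 : t * w = w * t := this t ht
      rw [h2]; group
    constructor
    · intro hz
      rw [key z hz]; exact hz
    · intro hz
      have h3 := key _ hz
      have h4 : t * z * t⁻¹ = z := by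
        have : t⁻¹ * (t * (t * z * t⁻¹) * t⁻¹) * t = t⁻¹ * (t * z * t⁻¹) * t := by rw [h3]
        have e1 : t⁻¹ * (t * (t * z * t⁻¹) * t⁻¹) * t = t * z * t⁻¹ := by group
        have e2 : t⁻¹ * (t * z * t⁻¹) * t = z := by group
        rw [e1, e2] at this
        exact this
      rw [← h4]; exact hz
  apply le_antisymm
  · rw [Subgroup.commutator_inf_eq_focalSubgroup P]
    apply le_inf _ (Subgroup.focalSubgroup_le _)
    apply Cfsg.Agent.Helper1.focalSubgroup_le_of_forall
    intro x hx u hu
    obtain ⟨n, hn, hnx⟩ := exists_normalizer_conj P Z hZ hW x u hx hu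
    rw [← hnx]
    have : x * (n * x * n⁻¹)⁻¹ = ⁅x, n⁆ := by rw [commutatorElement_def]; group
    rw [this]
    exact Subgroup.commutator_mem_commutator (hPN hx) hn
  · apply inf_le_inf_right
    rw [commutator_def]
    exact Subgroup.commutator_mono le_top le_top

end Cfsg.Agent.S0077
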