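import Mathlib
import Cfsg.Statements.S0078
import Cfsg.Agent.Lib.Helper1.TateGeneral
import Cfsg.Agent.S0077

set_option autoImplicit false
open Cfsg

namespace Cfsg.Agent.S0078

open Subgroup
open scoped Pointwise

/-- Elementwise: if `Q = g⁻¹ P g` then `z` lies in the centre of `Q` iff `g z g⁻¹` lies in the
centre of `P`. -/
theorem mem_center_conj_iff {G : Type*} [Group G] (P Q : Subgroup G) (g : G)
    (hmem : ∀ w : G, w ∈ Q ↔ g * w * g⁻¹ ∈ P) (z : G) :
    z ∈ Q ⊓ centralizer (Q : Set G) ↔ g * z * g⁻¹ ∈ P ⊓ centralizer (P : Set G) := by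
  rw [Subgroup.mem_inf, Subgroup.mem_inf]
  constructor
  · rintro ⟨h1, h2⟩
    refine ⟨(hmem z).mp h1, ?_⟩
    rw [mem_centralizer_iff]
    intro x hx
    have hx' : g⁻¹ * x * g ∈ Q := by
      rw [hmem]
      have : g * (g⁻¹ * x * g) * g⁻¹ = x := by group
      rw [this]; exact hx
    have := (mem_centralizer_iff.mp h2) _ hx'
    calc x * (g * z * g⁻¹) = g * ((g⁻¹ * x * g) * z) * g⁻¹ := by group
      _ = g * (z * (g⁻¹ * x * g)) * g⁻¹ := by rw [this]
      _ = g * z * g⁻¹ * x := by group
  · rintro ⟨h1, h2⟩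
    refine ⟨(hmem z).mpr h1, ?_⟩
    rw [mem_centralizer_iff]
    intro x hx
    have hx' : g * x * g⁻¹ ∈ P := (hmem x).mp hx
    have := (mem_centralizer_iff.mp h2) _ hx'
    calc x * z = g⁻¹ * ((g * x * g⁻¹) * (g * z * g⁻¹)) * g := by group
      _ = g⁻¹ * ((g * z * g⁻¹) * (g * x * g⁻¹)) * g := by rw [this]
      _ = z * x := by group

/-- In a p-normal group, a Sylow p-subgroup P meets O^p(G) exactly where it meets O^p(V), for any subgroup V containing the normalizer of the centre of P. -/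
theorem result {G : Type*} [Group G] [Finite G] {p : ℕ} [Fact p.Prime] (P : Sylow p G) (hn : ∀ Q : Sylow p G, (P : Subgroup G) ⊓ Subgroup.centralizer (P : Set G) ≤ (Q : Subgroup G) → (Q : Subgroup G) ⊓ Subgroup.centralizer (Q : Set G) = (P : Subgroup G) ⊓ Subgroup.centralizer (P : Set G)) (V : Subgroup G) (hV : Subgroup.normalizer (((P : Subgroup G) ⊓ Subgroup.centralizer (P : Set G) : Subgroup G) : Set G) ≤ V) : (P : Subgroup G) ⊓ Cfsg.pResidual p G = (P : Subgroup G) ⊓ (Cfsg.pResidual p V).map V.subtype := by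
  set Z : Subgroup G := (P : Subgroup G) ⊓ Subgroup.centralizer (P : Set G) with hZ
  have hZcent : Z ≤ centralizer (P : Set G) := inf_le_right
  have hW : Cfsg.IsWeaklyClosed Z P := by
    refine ⟨inf_le_left, ?_⟩
    intro g hg
    set Q : Sylow p G := g⁻¹ • P with hQ
    have hQcoe : (Q : Subgroup G) = MulAut.conj g⁻¹ • (P : Subgroup G) := rfl
    have hmemQ : ∀ w : G, w ∈ (Q : Subgroup G) ↔ g * w * g⁻¹ ∈ (P : Subgroup G) := by
      intro w
      rw [hQcoe, Subgroup.mem_pointwise_smul_iff_inv_smul_mem]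
      simp [MulAut.smul_def]
    have hZQ : Z ≤ (Q : Subgroup G) := by
      intro z hz
      rw [hmemQ]
      apply hg
      exact ⟨z, hz, by simp [MulAut.conj_apply]⟩
    have h1 : (Q : Subgroup G) ⊓ centralizer (((Q : Subgroup G)) : Set G) = Z := hn Q hZQ
    have hiff := mem_center_conj_iff (P : Subgroup G) (Q : Subgroup G) g hmemQ
    -- Z.map (conj g) = Z
    apply le_antisymm
    · rintro _ ⟨z, hz, rfl⟩
      have hz' : z ∈ (Q : Subgroup G) ⊓ centralizer ((Q : Subgroup G) : Set G) := by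
        rw [h1]; exact hz
      have := (hiff z).mp hz'
      change g * z * g⁻¹ ∈ Z
      exact this
    · intro z hz
      refine ⟨g⁻¹ * z * g, ?_, by simp [MulAut.conj_apply]; group⟩
      rw [SetLike.mem_coe, ← h1, hiff]
      have : g * (g⁻¹ * z * g) * g⁻¹ = z := by group
      rw [this]
      exact hz
  have hS77 := Cfsg.Agent.S0077.result P Z hZcent hW
  have hPN : (P : Subgroup G) ≤ normalizer (Z : Set G) := by
    intro x hx
    rw [mem_normalizer_iff]
    intro z
    have key : ∀ (y : G), y ∈ (P : Subgroup G) → ∀ w, w ∈ Z → y * w * y⁻¹ ∈ Z := by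
      intro y hy w hw
      have hwc := mem_centralizer_iff.mp hw.2 y hy
      have : y * w * y⁻¹ = w := by rw [hwc]; group
      rw [this]; exact hw
    constructor
    · exact key x hx z
    · intro h
      have := key x⁻¹ (inv_mem hx) _ h
      have e : x⁻¹ * (x * z * x⁻¹) * x⁻¹⁻¹ = z := by group
      rwa [e] at this
  have hPV : (P : Subgroup G) ≤ V := le_trans hPN hV
  have hcomm : (P : Subgroup G) ⊓ Cfsg.pResidual p G ≤ ⁅V, V⁆ := by
    rintro x ⟨hxP, hxM⟩
    have hker : x ∈ (P : Subgroup G).transferFocal.ker := by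
      apply Cfsg.Agent.Helper22.pResidual_le_ker_of_isPGroup _ (P.2.to_quotient _)
      exact hxM
    have h1 : x ∈ (P : Subgroup G).transferFocal.ker ⊓ (P : Subgroup G) := ⟨hker, hxP⟩
    rw [Subgroup.ker_transferFocal_inf_eq_focalSubgroup P] at h1
    have h2 : x ∈ commutator G ⊓ (P : Subgroup G) :=
      ⟨Subgroup.focalSubgroup_le_commutator _ h1, hxP⟩
    rw [hS77] at h2
    exact Subgroup.commutator_mono hV hV h2.1
  have hgen := Cfsg.Agent.Helper1.tate_general P V hPV hcomm
  apply le_antisymm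
  · exact le_inf inf_le_left hgen
  · apply inf_le_inf_left
    exact Cfsg.Agent.Helper25.map_pResidual_le' p V.subtype (Subgroup.subtype_injective V)

end Cfsg.Agent.S0078
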