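import Mathlib
import Cfsg.Statements.S1474
import Cfsg.Agent.S1473
import Cfsg.Agent.S0039
import Cfsg.Agent.S0071
import Cfsg.Agent.Lib.Helper8.FrobAction
import Cfsg.Agent.Lib.Helper7.Fitting
import Cfsg.Agent.Lib.Helper10.Cores
import Cfsg.Agent.Lib.Helper14.AxB
import Cfsg.Agent.Lib.Helper1.Complement

set_option autoImplicit false
open Cfsg

namespace Cfsg.Agent.S1474

universe u

section hall

variable {G : Type u} [Group G]

theorem fittingHall_le_fitting : Cfsg.fittingHall G ≤ Cfsg.fittingSubgroup G :=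
  sSup_le_sSup (fun _ hN => ⟨hN.1, hN.2.1⟩)

theorem fittingHall_isNilpotent [Finite G] : Group.IsNilpotent (Cfsg.fittingHall G) :=
  Helper7.isNilpotent_of_le fittingHall_le_fitting Helper7.fittingSubgroup_isNilpotent

theorem sylow_le_fittingHall [Finite G] {r : ℕ} [Fact r.Prime] (R : Sylow r G)
    (hR : (R : Subgroup G).Normal) : (R : Subgroup G) ≤ Cfsg.fittingHall G :=
  le_sSup ⟨hR, R.2.isNilpotent, R.card_coprime_index⟩

theorem exists_normal_sylow_of_dvd [Finite G] :
    ∀ r : ℕ, r.Prime → r ∣ Nat.card (Cfsg.fittingHall G) →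
      ∃ R : Sylow r G, (R : Subgroup G).Normal := by
  refine (Helper10.card_sSup_normal_of
    (fun n => ∀ r : ℕ, r.Prime → r ∣ n → ∃ R : Sylow r G, (R : Subgroup G).Normal) ?_ ?_ ?_
    {N : Subgroup G | N.Normal ∧ Group.IsNilpotent N ∧ (Nat.card N).Coprime N.index} ?_).2
  · intro r hr h1
    exact absurd (Nat.dvd_one.mp h1) hr.ne_one
  · intro a b ha hb r hr hab
    rcases (Nat.Prime.dvd_mul hr).mp hab with h | h
    · exact ha r hr h
    · exact hb r hr h
  · intro a b hab hb r hr hra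
    exact hb r hr (dvd_trans hra hab)
  · rintro N ⟨hNn, hNnil, hNcop⟩
    refine ⟨hNn, ?_⟩
    intro r hr hrN
    haveI : Fact r.Prime := ⟨hr⟩
    haveI := hNn
    haveI := hNnil
    obtain ⟨R₀⟩ : Nonempty (Sylow r N) := inferInstance
    have htfae : Group.IsNilpotent N ↔
        ∀ (p : ℕ), Fact (Nat.Prime p) → ∀ (P : Sylow p N), (P : Subgroup N).Normal :=
      (Group.isNilpotent_of_finite_tfae (G := N)).out 0 3
    have hnorm : (R₀ : Subgroup N).Normal := htfae.mp hNnil r inferInstance R₀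
    haveI : (R₀ : Subgroup N).Characteristic := Sylow.characteristic_of_normal R₀ hnorm
    have hR₁n : ((R₀ : Subgroup N).map N.subtype).Normal :=
      ConjAct.normal_of_characteristic_of_normal
    have hR₁p : IsPGroup r ((R₀ : Subgroup N).map N.subtype) := R₀.2.map _
    have hidx : ¬ r ∣ ((R₀ : Subgroup N).map N.subtype).index := by
      rw [Subgroup.index_map_subtype]
      intro h
      rcases (Nat.Prime.dvd_mul hr).mp h with h1 | h1
      · exact R₀.not_dvd_index h1
      · have h2 : r ∣ Nat.gcd (Nat.card N) N.index := Nat.dvd_gcd hrN h1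
        rw [hNcop] at h2
        exact hr.ne_one (Nat.dvd_one.mp h2)
    refine ⟨hR₁p.toSylow hidx, ?_⟩
    rw [IsPGroup.toSylow_coe]
    exact hR₁n

theorem fittingHall_coprime [Finite G] :
    (Nat.card (Cfsg.fittingHall G)).Coprime (Cfsg.fittingHall G).index := by
  by_contra hcon
  obtain ⟨r, hr, hr1, hr2⟩ := Nat.Prime.not_coprime_iff_dvd.mp hcon
  haveI : Fact r.Prime := ⟨hr⟩
  obtain ⟨R, hRn⟩ := exists_normal_sylow_of_dvd r hr hr1
  have hle := sylow_le_fittingHall R hRn
  exact R.not_dvd_index (dvd_trans hr2 (Subgroup.index_dvd_of_le hle))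

end hall

section fpf

variable {G : Type u} [Group G] [Finite G]

/-- A subgroup of a nilpotent normal subgroup `C` that is a Sylow subgroup of `G` is normal. -/
theorem sylow_normal_of_le_nilpotent {r : ℕ} [Fact r.Prime] (R : Sylow r G) (C : Subgroup G)
    [C.Normal] (hC : Group.IsNilpotent C) (hRC : (R : Subgroup G) ≤ C) :
    (R : Subgroup G).Normal := by
  have htfae : Group.IsNilpotent C ↔
      ∀ (p : ℕ), Fact (Nat.Prime p) → ∀ (P : Sylow p C), (P : Subgroup C).Normal :=
    (Group.isNilpotent_of_finite_tfae (G := C)).out 0 3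
  have hnorm : ((R.subtype hRC : Sylow r C) : Subgroup C).Normal :=
    htfae.mp hC r inferInstance (R.subtype hRC)
  haveI : ((R.subtype hRC : Sylow r C) : Subgroup C).Characteristic :=
    Sylow.characteristic_of_normal _ hnorm
  have h1 : (((R.subtype hRC : Sylow r C) : Subgroup C).map C.subtype).Normal :=
    ConjAct.normal_of_characteristic_of_normal
  rw [Sylow.coe_subtype, Subgroup.map_subgroupOf_eq_of_le hRC] at h1
  exact h1

theorem fpf_of_prime (hCN : Cfsg.IsCNGroup G) (e : G) {r : ℕ} (hr : r.Prime)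
    (he : orderOf e = r) (hrH : ¬ r ∣ Nat.card (Cfsg.fittingHall G)) :
    Cfsg.fittingHall G ⊓ Subgroup.centralizer ({e} : Set G) = ⊥ := by
  haveI : Fact r.Prime := ⟨hr⟩
  by_contra hne
  obtain ⟨⟨h, hmem⟩, hh1⟩ := (Subgroup.ne_bot_iff_exists_ne_one).mp hne
  have hhH : h ∈ Cfsg.fittingHall G := (Subgroup.mem_inf.mp hmem).1
  have hhe : h * e = e * h :=
    Subgroup.mem_centralizer_singleton_iff.mp (Subgroup.mem_inf.mp hmem).2
  have hh_ne : h ≠ 1 := fun h0 => hh1 (Subtype.ext h0)
  have he1 : e ≠ 1 := by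
    intro h0
    rw [h0, orderOf_one] at he
    exact hr.one_lt.ne he
  haveI hHnil : Group.IsNilpotent (Cfsg.fittingHall G) := fittingHall_isNilpotent
  haveI : Nontrivial (Cfsg.fittingHall G) :=
    (Subgroup.nontrivial_iff_ne_bot _).mpr (fun h0 => by rw [h0, Subgroup.mem_bot] at hhH; exact hh_ne hhH)
  obtain ⟨z₀, hz₀⟩ := (Subgroup.ne_bot_iff_exists_ne_one).mp
    (Group.IsNilpotent.center_ne_bot (G := Cfsg.fittingHall G))
  have hzH : ((z₀ : Cfsg.fittingHall G) : G) ∈ Cfsg.fittingHall G := (z₀ : Cfsg.fittingHall G).2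
  have hz_ne : ((z₀ : Cfsg.fittingHall G) : G) ≠ 1 := fun h0 => hz₀ (Subtype.ext (Subtype.ext h0))
  have hzc : ∀ x ∈ Cfsg.fittingHall G, x * ((z₀ : Cfsg.fittingHall G) : G)
      = ((z₀ : Cfsg.fittingHall G) : G) * x := by
    intro x hx
    have := (Subgroup.mem_center_iff.mp z₀.2) ⟨x, hx⟩
    exact congrArg Subtype.val this
  set z : G := ((z₀ : Cfsg.fittingHall G) : G) with hz
  have hcopH : ∀ x ∈ Cfsg.fittingHall G, (orderOf e).Coprime (orderOf x) := by
    intro x hx
    rw [he]
    exact Nat.Coprime.coprime_dvd_right (Subgroup.orderOf_dvd_natCard _ hx)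
      ((Nat.Prime.coprime_iff_not_dvd hr).mpr hrH)
  -- e commutes with z
  have hez : e * z = z * e := by
    apply S1473.commute_of_mem_nilpotent (hCN h hh_ne)
    · exact Subgroup.mem_centralizer_singleton_iff.mpr hhe.symm
    · exact Subgroup.mem_centralizer_singleton_iff.mpr (hzc _ hhH).symm
    · exact hcopH z hzH
  -- e centralizes H
  have heH : ∀ x ∈ Cfsg.fittingHall G, e * x = x * e := by
    intro x hx
    apply S1473.commute_of_mem_nilpotent (hCN z hz_ne)
    · exact Subgroup.mem_centralizer_singleton_iff.mpr hez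
    · exact Subgroup.mem_centralizer_singleton_iff.mpr (hzc x hx)
    · exact hcopH x hx
  set C : Subgroup G := Subgroup.centralizer (Cfsg.fittingHall G : Set G) with hC
  haveI hCn : C.Normal := Subgroup.normal_centralizer
  have heC : e ∈ C := by
    rw [hC, Subgroup.mem_centralizer_iff]
    intro x hx
    exact (heH x hx).symm
  have hCle : C ≤ Subgroup.centralizer ({z} : Set G) := by
    intro c hc
    rw [Subgroup.mem_centralizer_singleton_iff]
    exact ((Subgroup.mem_centralizer_iff.mp hc) z hzH).symm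
  have hCnil : Group.IsNilpotent C := Helper7.isNilpotent_of_le hCle (hCN z hz_ne)
  -- a Sylow r-subgroup containing e
  have hep : IsPGroup r (Subgroup.zpowers e) := IsPGroup.of_card (n := 1) (by
    rw [Nat.card_zpowers, he, pow_one])
  obtain ⟨R, hR⟩ := hep.exists_le_sylow
  have heR : e ∈ (R : Subgroup G) := hR (Subgroup.mem_zpowers e)
  have hR₀ne : (R : Subgroup G) ⊓ C ≠ ⊥ := by
    intro h0
    have : e ∈ (R : Subgroup G) ⊓ C := Subgroup.mem_inf.mpr ⟨heR, heC⟩
    rw [h0, Subgroup.mem_bot] at this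
    exact he1 this
  have hRnorm : (R : Subgroup G) ≤ Subgroup.normalizer (((R : Subgroup G) ⊓ C : Subgroup G) : Set G) := by
    intro d hd
    rw [Subgroup.mem_normalizer_iff]
    intro x
    constructor
    · intro hx
      obtain ⟨hx1, hx2⟩ := Subgroup.mem_inf.mp hx
      exact Subgroup.mem_inf.mpr ⟨Subgroup.mul_mem _ (Subgroup.mul_mem _ hd hx1)
        (Subgroup.inv_mem _ hd), hCn.conj_mem x hx2 d⟩
    · intro hx
      obtain ⟨hx1, hx2⟩ := Subgroup.mem_inf.mp hx
      have h3 : x = d⁻¹ * (d * x * d⁻¹) * d⁻¹⁻¹ := by group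
      rw [h3]
      exact Subgroup.mem_inf.mpr ⟨Subgroup.mul_mem _ (Subgroup.mul_mem _ (Subgroup.inv_mem _ hd) hx1)
        (Subgroup.inv_mem _ (Subgroup.inv_mem _ hd)), hCn.conj_mem _ hx2 d⁻¹⟩
  have hpc : Helper14.PowCond r (R : Subgroup G)
      (Subgroup.centralizer ((((R : Subgroup G) ⊓ C : Subgroup G)) : Set G)) := by
    intro d hd
    obtain ⟨k, hk⟩ := R.2 ⟨d, hd⟩
    refine ⟨k, ?_⟩
    have h1 : d ^ r ^ k = 1 := by
      have := congrArg Subtype.val hk
      simpa only [SubgroupClass.coe_pow, OneMemClass.coe_one] using this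
    rw [h1]; exact Subgroup.one_mem _
  have hne2 := Helper14.inf_centralizer_ne_bot_of_powCond (R.2.to_le inf_le_left) hR₀ne hRnorm hpc
  obtain ⟨u, hu1⟩ := (Subgroup.ne_bot_iff_exists_ne_one).mp hne2
  have hu_ne : (u : G) ≠ 1 := fun h0 => hu1 (Subtype.ext h0)
  have huC : (u : G) ∈ C := (Subgroup.mem_inf.mp (Subgroup.mem_inf.mp u.2).1).2
  have huR : (u : G) ∈ Subgroup.centralizer ((R : Subgroup G) : Set G) := (Subgroup.mem_inf.mp u.2).2
  -- R centralizes H
  have hRC : (R : Subgroup G) ≤ C := by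
    intro d hd
    rw [hC, Subgroup.mem_centralizer_iff]
    intro x hx
    obtain ⟨k, hk⟩ := S1473.orderOf_dvd_of_isPGroup R.2 hd
    apply S1473.commute_of_mem_nilpotent (hCN (u : G) hu_ne)
    · exact Subgroup.mem_centralizer_singleton_iff.mpr ((Subgroup.mem_centralizer_iff.mp huC) x hx)
    · exact Subgroup.mem_centralizer_singleton_iff.mpr ((Subgroup.mem_centralizer_iff.mp huR) d hd)
    · exact Nat.Coprime.coprime_dvd_right hk (Nat.Coprime.pow_right k
        (Nat.Coprime.coprime_dvd_left (Subgroup.orderOf_dvd_natCard _ hx)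
          ((Nat.Prime.coprime_iff_not_dvd hr).mpr hrH).symm))
  have hRn : (R : Subgroup G).Normal := sylow_normal_of_le_nilpotent R C hCnil hRC
  have hRH := sylow_le_fittingHall R hRn
  apply hrH
  rw [← he]
  exact Subgroup.orderOf_dvd_natCard _ (hRH heR)

theorem fpf_of_ne_one (hCN : Cfsg.IsCNGroup G) (E : Subgroup G)
    (hE : Subgroup.IsComplement' (Cfsg.fittingHall G) E) (e : G) (heE : e ∈ E) (he1 : e ≠ 1) :
    Cfsg.fittingHall G ⊓ Subgroup.centralizer ({e} : Set G) = ⊥ := by
  have hm : orderOf e ≠ 1 := fun h => he1 (orderOf_eq_one_iff.mp h)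
  have hm0 : orderOf e ≠ 0 := (orderOf_pos e).ne'
  have hq : (orderOf e).minFac.Prime := Nat.minFac_prime hm
  have hqd : (orderOf e).minFac ∣ orderOf e := Nat.minFac_dvd _
  have hyq : orderOf (e ^ (orderOf e / (orderOf e).minFac)) = (orderOf e).minFac :=
    orderOf_pow_orderOf_div hm0 hqd
  have hidx : E.index = Nat.card (Cfsg.fittingHall G) := hE.index_eq_card
  have hcardE : Nat.card E = (Cfsg.fittingHall G).index := by
    have h1 := hE.card_mul_card
    have h2 := (Cfsg.fittingHall G).card_mul_index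
    rw [← h2] at h1
    exact Nat.eq_of_mul_eq_mul_left Nat.card_pos h1
  have hrH : ¬ (orderOf e).minFac ∣ Nat.card (Cfsg.fittingHall G) := by
    intro h
    have h1 : (orderOf e).minFac ∣ (Cfsg.fittingHall G).index := by
      rw [← hcardE]
      exact dvd_trans hqd (Subgroup.orderOf_dvd_natCard _ heE)
    have h2 := Nat.dvd_gcd h h1
    rw [fittingHall_coprime] at h2
    exact hq.ne_one (Nat.dvd_one.mp h2)
  have h3 := fpf_of_prime hCN _ hq hyq hrH
  rw [eq_bot_iff, ← h3]
  apply inf_le_inf_left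
  intro g hg
  rw [Subgroup.mem_centralizer_singleton_iff] at hg ⊢
  exact (Commute.pow_right (show Commute g e from hg) _)

end fpf

section npc

variable {X : Type u} [Group X] [Finite X]

/-- A `q`-element lies in every normal subgroup whose index is a power of a different prime. -/
theorem mem_of_coprime_index (N : Subgroup X) [N.Normal] {s : X}
    (hs : (orderOf s).Coprime N.index) : s ∈ N := by
  rw [← QuotientGroup.eq_one_iff]
  have h1 : orderOf ((s : X ⧸ N)) ∣ orderOf s := orderOf_map_dvd (QuotientGroup.mk' N) s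
  have h2 : orderOf ((s : X ⧸ N)) ∣ N.index := by
    rw [Subgroup.index_eq_card]
    exact orderOf_dvd_natCard _
  have h3 : orderOf ((s : X ⧸ N)) ∣ 1 := by
    rw [← Nat.Coprime.gcd_eq_one hs]
    exact Nat.dvd_gcd h1 h2
  exact orderOf_eq_one_iff.mp (Nat.dvd_one.mp h3)

theorem nilpotent_of_npc
    (h : ∀ (p : ℕ) [Fact p.Prime] (P : Sylow p X),
      ∃ N : Subgroup X, N.Normal ∧ N.IsComplement' (P : Subgroup X)) :
    Group.IsNilpotent X := by
  classical
  have htfae : Group.IsNilpotent X ↔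
      ∀ (p : ℕ), Fact (Nat.Prime p) → ∀ (P : Sylow p X), (P : Subgroup X).Normal :=
    (Group.isNilpotent_of_finite_tfae (G := X)).out 0 3
  rw [htfae]
  intro q hq S
  haveI := hq
  have hq' : q.Prime := Fact.out
  -- for each prime p ≠ q a normal p-complement
  have hex : ∀ p : {p : ℕ // p.Prime ∧ p ≠ q}, ∃ N : Subgroup X, N.Normal ∧
      S ≤ N ∧ (Nat.card N).Coprime p.1 := by
    intro p
    haveI : Fact p.1.Prime := ⟨p.2.1⟩
    obtain ⟨P⟩ : Nonempty (Sylow p.1 X) := inferInstance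
    obtain ⟨N, hNn, hNc⟩ := h p.1 P
    haveI := hNn
    have hidx : N.index = Nat.card (P : Subgroup X) := hNc.symm.index_eq_card
    have hPidx : (P : Subgroup X).index = Nat.card N := hNc.index_eq_card
    refine ⟨N, hNn, ?_, ?_⟩
    · intro s hs
      apply mem_of_coprime_index N
      rw [hidx]
      obtain ⟨k, hk⟩ := S1473.orderOf_dvd_of_isPGroup S.2 hs
      obtain ⟨j, hj⟩ := P.2.exists_card_eq
      rw [hj]
      exact Nat.Coprime.coprime_dvd_left hk
        (Nat.Coprime.pow k j ((Nat.coprime_primes hq' p.2.1).mpr (Ne.symm p.2.2)))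
    · rw [← hPidx]
      exact ((Nat.Prime.coprime_iff_not_dvd p.2.1).mpr P.not_dvd_index).symm
  choose N hNn hSN hNcop using hex
  have hIn : (⨅ p, N p).Normal := Subgroup.normal_iInf_normal hNn
  have hSI : (S : Subgroup X) ≤ ⨅ p, N p := le_iInf hSN
  have hcard : ∀ {d : ℕ}, d.Prime → d ∣ Nat.card (⨅ p, N p : Subgroup X) → d = q := by
    intro d hd hdI
    by_contra hne
    have h1 : (⨅ p, N p) ≤ N ⟨d, hd, hne⟩ := iInf_le _ _
    have h2 := dvd_trans hdI (Subgroup.card_dvd_of_le h1)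
    have h3 := Nat.dvd_gcd h2 (dvd_refl d)
    rw [hNcop ⟨d, hd, hne⟩] at h3
    exact hd.ne_one (Nat.dvd_one.mp h3)
  have hIp : IsPGroup q (⨅ p, N p : Subgroup X) :=
    IsPGroup.of_card (Nat.eq_prime_pow_of_unique_prime_dvd Nat.card_pos.ne' hcard)
  have hIS : (⨅ p, N p) = (S : Subgroup X) := S.3 hIp hSI
  rw [← hIS]
  exact hIn

theorem exists_bad_pair (hX : ¬ Group.IsNilpotent X) :
    ∃ (p : ℕ) (_ : p.Prime) (Q : Subgroup X), IsPGroup p Q ∧
      ∃ g ∈ Subgroup.normalizer (Q : Set X), (orderOf g).Coprime p ∧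
        g ∉ Subgroup.centralizer (Q : Set X) := by
  by_contra hcon
  apply hX
  apply nilpotent_of_npc
  intro p _ P
  rw [Cfsg.Agent.S0071.result P]
  intro Q hQP g hg hcop
  by_contra hgc
  exact hcon ⟨p, Fact.out, Q, P.2.to_le hQP, g, hg, hcop, hgc⟩

end npc

section main

variable {G : Type u} [Group G] [Finite G]

theorem complement_nilpotent (hCN : Cfsg.IsCNGroup G) (E : Subgroup G)
    (hH1 : Cfsg.fittingHall G ≠ ⊥)
    (hE : Subgroup.IsComplement' (Cfsg.fittingHall G) E)
    (hfpf : ∀ e ∈ E, e ≠ 1 → Cfsg.fittingHall G ⊓ Subgroup.centralizer ({e} : Set G) = ⊥) :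
    Group.IsNilpotent E := by
  by_contra hnil
  obtain ⟨p₁, hp₁, Q₀, hQ₀p, g₀, hg₀N, hg₀cop, hg₀C⟩ := exists_bad_pair hnil
  haveI : Fact p₁.Prime := ⟨hp₁⟩
  set Q : Subgroup G := Q₀.map E.subtype with hQ
  set g : G := (g₀ : G) with hg
  have hQE : Q ≤ E := by
    rintro _ ⟨x, _, rfl⟩
    exact x.2
  have hQp : IsPGroup p₁ Q := hQ₀p.map _
  have hgE : g ∈ E := g₀.2
  have hgo : orderOf g = orderOf g₀ := Subgroup.orderOf_coe g₀
  have hgcop : (orderOf g).Coprime p₁ := by rw [hgo]; exact hg₀cop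
  -- conjugation by (powers of) g₀ preserves Q
  have hconj : ∀ y : E, y ∈ Subgroup.normalizer (Q₀ : Set E) → ∀ x ∈ Q, (y : G) * x * (y : G)⁻¹ ∈ Q := by
    rintro y hy _ ⟨x, hx, rfl⟩
    exact ⟨y * x * y⁻¹, (Subgroup.mem_normalizer_iff.mp hy x).mp hx, rfl⟩
  -- g does not centralize Q
  have hgC : ¬ ∀ x ∈ Q, g * x = x * g := by
    intro hall
    apply hg₀C
    rw [Subgroup.mem_centralizer_iff]
    intro x hx
    apply Subtype.ext
    exact (hall (x : G) ⟨x, hx, rfl⟩).symm
  have hg1 : g ≠ 1 := by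
    intro h1
    apply hgC
    intro x _
    rw [h1, one_mul, mul_one]
  have hQne : Q ≠ ⊥ := by
    intro h0
    apply hgC
    intro x hx
    rw [h0, Subgroup.mem_bot] at hx
    rw [hx, one_mul, mul_one]
  -- an element z of prime order in ⟨g⟩
  have hm : orderOf g ≠ 1 := fun h => hg1 (orderOf_eq_one_iff.mp h)
  have hm0 : orderOf g ≠ 0 := (orderOf_pos g).ne'
  set r := (orderOf g).minFac with hr
  have hrp : r.Prime := Nat.minFac_prime hm
  have hrd : r ∣ orderOf g := Nat.minFac_dvd _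
  set k := orderOf g / r with hk
  set z : G := g ^ k with hz
  have hzo : orderOf z = r := orderOf_pow_orderOf_div hm0 hrd
  have hz1 : z ≠ 1 := by
    intro h1
    rw [h1, orderOf_one] at hzo
    exact hrp.one_lt.ne hzo
  have hzE : z ∈ E := E.pow_mem hgE k
  have hzg : z * g = g * z := by
    rw [hz]
    exact ((Commute.refl g).pow_left k).eq
  have hrp₁ : r ≠ p₁ := by
    intro h
    have h1 : p₁ ∣ Nat.gcd (orderOf g) p₁ := Nat.dvd_gcd (h ▸ hrd) dvd_rfl
    rw [hgcop] at h1
    exact hp₁.ne_one (Nat.dvd_one.mp h1)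
  have hcop_rp : ∀ j : ℕ, r.Coprime (p₁ ^ j) := fun j =>
    Nat.Coprime.pow_right j ((Nat.coprime_primes hrp hp₁).mpr hrp₁)
  have hz₀N : (g₀ ^ k) ∈ Subgroup.normalizer (Q₀ : Set E) := Subgroup.pow_mem _ hg₀N k
  have hzconj : ∀ z' ∈ Subgroup.zpowers z, ∀ x ∈ Q, z' * x * z'⁻¹ ∈ Q := by
    intro z' hz' x hx
    obtain ⟨j, rfl⟩ := Subgroup.mem_zpowers_iff.mp hz'
    have h1 : ((g₀ ^ k) ^ j) ∈ Subgroup.normalizer (Q₀ : Set E) := Subgroup.zpow_mem _ hz₀N j
    have h2 := hconj _ h1 x hx
    have h3 : (((g₀ ^ k) ^ j : E) : G) = z ^ j := by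
      rw [hz, hg]; simp
    rwa [h3] at h2
  -- the centre of H, inside G
  set H := Cfsg.fittingHall G with hH
  haveI hHnil : Group.IsNilpotent H := fittingHall_isNilpotent
  haveI : Nontrivial H := (Subgroup.nontrivial_iff_ne_bot _).mpr hH1
  set V : Subgroup G := H ⊓ Subgroup.centralizer (H : Set G) with hV
  haveI hVn : V.Normal := by
    haveI : (Subgroup.centralizer (H : Set G)).Normal := Subgroup.normal_centralizer
    infer_instance
  haveI hVc : IsMulCommutative V := ⟨⟨fun a b => Subtype.ext (by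
    have := (Subgroup.mem_centralizer_iff.mp (Subgroup.mem_inf.mp b.2).2) a (Subgroup.mem_inf.mp a.2).1
    exact this)⟩⟩
  have hVne : V ≠ ⊥ := by
    obtain ⟨z₀, hz₀⟩ := (Subgroup.ne_bot_iff_exists_ne_one).mp
      (Group.IsNilpotent.center_ne_bot (G := H))
    intro hbot
    have h1 : ((z₀ : H) : G) ∈ V := by
      refine Subgroup.mem_inf.mpr ⟨(z₀ : H).2, ?_⟩
      rw [Subgroup.mem_centralizer_iff]
      intro x hx
      have := (Subgroup.mem_center_iff.mp z₀.2) ⟨x, hx⟩
      exact congrArg Subtype.val this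
    rw [hbot, Subgroup.mem_bot] at h1
    exact hz₀ (Subtype.ext (Subtype.ext h1))
  by_cases hfix : ∃ x ∈ Q, x ≠ 1 ∧ z * x = x * z
  · -- z centralizes a non-trivial element of Q, hence all of Q
    obtain ⟨x, hxQ, hx1, hzx⟩ := hfix
    haveI : Nontrivial Q := (Subgroup.nontrivial_iff_ne_bot _).mpr hQne
    haveI := hQp.center_nontrivial
    obtain ⟨w₀, hw₀⟩ := exists_ne (1 : Subgroup.center Q)
    have hwQ : ((w₀ : Q) : G) ∈ Q := (w₀ : Q).2
    have hw_ne : ((w₀ : Q) : G) ≠ 1 := fun h0 => hw₀ (Subtype.ext (Subtype.ext h0))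
    have hwc : ∀ y ∈ Q, y * ((w₀ : Q) : G) = ((w₀ : Q) : G) * y := by
      intro y hy
      have := (Subgroup.mem_center_iff.mp w₀.2) ⟨y, hy⟩
      exact congrArg Subtype.val this
    set w : G := ((w₀ : Q) : G) with hw
    have hzw : z * w = w * z := by
      obtain ⟨j, hj⟩ := S1473.orderOf_dvd_of_isPGroup hQp hwQ
      apply S1473.commute_of_mem_nilpotent (hCN x hx1)
      · exact Subgroup.mem_centralizer_singleton_iff.mpr hzx
      · exact Subgroup.mem_centralizer_singleton_iff.mpr (hwc x hxQ).symm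
      · rw [hzo]; exact Nat.Coprime.coprime_dvd_right hj (hcop_rp j)
    have hzQ : ∀ y ∈ Q, z * y = y * z := by
      intro y hy
      obtain ⟨j, hj⟩ := S1473.orderOf_dvd_of_isPGroup hQp hy
      apply S1473.commute_of_mem_nilpotent (hCN w hw_ne)
      · exact Subgroup.mem_centralizer_singleton_iff.mpr hzw
      · exact Subgroup.mem_centralizer_singleton_iff.mpr (hwc y hy)
      · rw [hzo]; exact Nat.Coprime.coprime_dvd_right hj (hcop_rp j)
    apply hgC
    intro y hy
    obtain ⟨j, hj⟩ := S1473.orderOf_dvd_of_isPGroup hQp hy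
    apply S1473.commute_of_mem_nilpotent (hCN z hz1)
    · exact Subgroup.mem_centralizer_singleton_iff.mpr hzg.symm
    · exact Subgroup.mem_centralizer_singleton_iff.mpr (hzQ y hy).symm
    · exact Nat.Coprime.coprime_dvd_right hj (Nat.Coprime.pow_right j hgcop)
  · -- z acts fixed-point-freely on Q
    push Not at hfix
    have hcardE : Nat.card E = H.index := by
      have h1 := hE.card_mul_card
      have h2 := H.card_mul_index
      rw [← h2] at h1
      exact Nat.eq_of_mul_eq_mul_left Nat.card_pos h1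
    have hfpf' : ∀ z' ∈ Subgroup.zpowers z, z' ≠ 1 → ∀ x ∈ Q, z' * x = x * z' → x = 1 := by
      intro z' hz' hz'1 x hx hzx
      by_contra hx1
      apply hfix x hx hx1
      -- z is a power of z'
      have hle : Subgroup.zpowers z' ≤ Subgroup.zpowers z := by
        rw [Subgroup.zpowers_le]; exact hz'
      have hcard : Nat.card (Subgroup.zpowers z) ≤ Nat.card (Subgroup.zpowers z') := by
        rw [Nat.card_zpowers, Nat.card_zpowers, hzo]
        have h1 : orderOf z' ∣ r := by
          rw [← hzo]; exact orderOf_dvd_of_mem_zpowers hz'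
        rcases (Nat.dvd_prime hrp).mp h1 with h2 | h2
        · exact absurd (orderOf_eq_one_iff.mp h2) hz'1
        · rw [h2]
      have heq := Subgroup.eq_of_le_of_card_ge hle hcard
      have hzz' : z ∈ Subgroup.zpowers z' := by rw [heq]; exact Subgroup.mem_zpowers z
      obtain ⟨j, hj⟩ := Subgroup.mem_zpowers_iff.mp hzz'
      rw [← hj]
      exact ((show Commute z' x from hzx).zpow_left j).eq
    have hcop : (Nat.card V).Coprime (Nat.card Q) := by
      have h1 : Nat.card V ∣ Nat.card H := Subgroup.card_dvd_of_le inf_le_left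
      have h2 : Nat.card Q ∣ H.index := by
        rw [← hcardE]; exact Subgroup.card_dvd_of_le hQE
      exact Nat.Coprime.coprime_dvd_left h1 (Nat.Coprime.coprime_dvd_right h2 fittingHall_coprime)
    have hVQ : V ⊓ Subgroup.centralizer (Q : Set G) = ⊥ := by
      rw [eq_bot_iff]
      intro v hv
      obtain ⟨hv1, hv2⟩ := Subgroup.mem_inf.mp hv
      obtain ⟨x, hx1⟩ := (Subgroup.ne_bot_iff_exists_ne_one).mp hQne
      have hx_ne : (x : G) ≠ 1 := fun h0 => hx1 (Subtype.ext h0)
      rw [← hfpf (x : G) (hQE x.2) hx_ne]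
      refine Subgroup.mem_inf.mpr ⟨(Subgroup.mem_inf.mp hv1).1, ?_⟩
      rw [Subgroup.mem_centralizer_singleton_iff]
      exact ((Subgroup.mem_centralizer_iff.mp hv2) x x.2).symm
    have hVR : V ⊓ Subgroup.centralizer (Subgroup.zpowers z : Set G) = ⊥ := by
      rw [eq_bot_iff]
      intro v hv
      obtain ⟨hv1, hv2⟩ := Subgroup.mem_inf.mp hv
      rw [← hfpf z hzE hz1]
      refine Subgroup.mem_inf.mpr ⟨(Subgroup.mem_inf.mp hv1).1, ?_⟩
      rw [Subgroup.mem_centralizer_singleton_iff]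
      exact ((Subgroup.mem_centralizer_iff.mp hv2) z (Subgroup.mem_zpowers z)).symm
    exact hVne (Helper8.frob_action_fixed V Q (Subgroup.zpowers z) hzconj hfpf' hcop hVQ hVR)

end main

section final

variable {G : Type u} [Group G] [Finite G]

theorem main (hCN : Cfsg.IsCNGroup G) (hnn : ¬ Group.IsNilpotent G) (p : ℕ) [Fact p.Prime]
    (P : Sylow p G) (hP1 : (P : Subgroup G) ≠ ⊥) (hPn : (P : Subgroup G).Normal) :
    Cfsg.fittingHall G ≠ ⊥ ∧ Cfsg.fittingHall G ≠ ⊤ ∧
      (∃ E : Subgroup G, Subgroup.IsComplement' (Cfsg.fittingHall G) E ∧ Cfsg.IsFrobeniusComplement E ∧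
        ∀ e ∈ E, e ≠ 1 → Cfsg.fittingHall G ⊓ Subgroup.centralizer ({e} : Set G) = ⊥) ∧
      Group.IsNilpotent (G ⧸ Cfsg.fittingHall G) := by
  have hH1 : Cfsg.fittingHall G ≠ ⊥ := by
    intro h0
    have h1 := sylow_le_fittingHall P hPn
    rw [h0, le_bot_iff] at h1
    exact hP1 h1
  have hH2 : Cfsg.fittingHall G ≠ ⊤ := by
    intro h0
    have h1 : Group.IsNilpotent (Cfsg.fittingHall G) := fittingHall_isNilpotent
    rw [h0] at h1
    exact hnn (Group.nilpotent_of_mulEquiv Subgroup.topEquiv)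
  obtain ⟨E, hE⟩ := Subgroup.exists_right_complement'_of_coprime
    (fittingHall_coprime (G := G))
  have hfpf : ∀ e ∈ E, e ≠ 1 →
      Cfsg.fittingHall G ⊓ Subgroup.centralizer ({e} : Set G) = ⊥ :=
    fun e he he1 => fpf_of_ne_one hCN E hE e he he1
  have hE1 : E ≠ ⊥ := by
    intro h0
    apply hH2
    rw [h0] at hE
    rw [eq_top_iff]
    intro g _
    obtain ⟨a, ha, b, hb, hgab⟩ := Helper1.IsComplement'.exists_mul hE g
    rw [Subgroup.mem_bot] at hb
    rw [hgab, hb, mul_one]
    exact ha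
  have hEnil : Group.IsNilpotent E := complement_nilpotent hCN E hH1 hE hfpf
  refine ⟨hH1, hH2, ⟨E, hE, ?_, hfpf⟩, ?_⟩
  · exact (Cfsg.Agent.S0039.result (Cfsg.fittingHall G) E hE hH1 hE1).mpr hfpf
  · refine Group.nilpotent_of_surjective
      ((QuotientGroup.mk' (Cfsg.fittingHall G)).comp E.subtype) ?_
    intro gbar
    obtain ⟨g, rfl⟩ := QuotientGroup.mk'_surjective _ gbar
    obtain ⟨a, ha, b, hb, hgab⟩ := Helper1.IsComplement'.exists_mul hE g
    refine ⟨⟨b, hb⟩, ?_⟩
    change QuotientGroup.mk' (Cfsg.fittingHall G) b = QuotientGroup.mk' (Cfsg.fittingHall G) g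
    have ha1 : QuotientGroup.mk' (Cfsg.fittingHall G) a = 1 := (QuotientGroup.eq_one_iff a).mpr ha
    rw [hgab, map_mul, ha1, one_mul]

end final

/-- Let G be a finite group in which every non-identity element has nilpotent centralizer, not itself nilpotent, and having a nontrivial normal Sylow p-subgroup for some prime p. Let H be the largest normal nilpotent Hall subgroup of G. Then H is a nontrivial proper normal subgroup with a complement E that is a Frobenius complement in G (no non-identity element of E centralizes a non-identity element of H), and G/H is nilpotent. -/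
theorem result {G : Type*} [Group G] [Finite G] (hCN : Cfsg.IsCNGroup G) (hnn : ¬ Group.IsNilpotent G) (p : ℕ) [Fact p.Prime] (P : Sylow p G)
    (hP1 : (P : Subgroup G) ≠ ⊥) (hPn : (P : Subgroup G).Normal) :
    Cfsg.fittingHall G ≠ ⊥ ∧ Cfsg.fittingHall G ≠ ⊤ ∧
      (∃ E : Subgroup G, Subgroup.IsComplement' (Cfsg.fittingHall G) E ∧ Cfsg.IsFrobeniusComplement E ∧
        ∀ e ∈ E, e ≠ 1 → Cfsg.fittingHall G ⊓ Subgroup.centralizer ({e} : Set G) = ⊥) ∧
      Group.IsNilpotent (G ⧸ Cfsg.fittingHall G) :=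
  main hCN hnn p P hP1 hPn

end Cfsg.Agent.S1474
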