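import Mathlib
import Cfsg.Statements.S1476
import Cfsg.Agent.S1474
import Cfsg.Agent.S0040
import Cfsg.Agent.Lib.Helper8.CNSolvable
import Cfsg.Agent.Lib.Helper14.Basic

set_option autoImplicit false
open Cfsg

namespace Cfsg.Agent.S1476

open Cfsg.Agent.Helper8.CNSolv

universe u

/-- The Frobenius case: some nontrivial Sylow subgroup is normal. -/
theorem frobenius_case {G : Type u} [Group G] [Finite G] (hCN : Cfsg.IsCNGroup G)
    (hnil : ¬ Group.IsNilpotent G) (r : ℕ) [Fact r.Prime] (R : Sylow r G)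
    (hR1 : (R : Subgroup G) ≠ ⊥) (hRn : (R : Subgroup G).Normal) :
    ∃ K E : Subgroup G, K.Normal ∧ Subgroup.IsComplement' K E ∧ Cfsg.IsFrobeniusComplement E ∧
      (IsCyclic E ∨ ∃ C Q : Subgroup G, C ⊔ Q = E ∧ (∀ a ∈ C, ∀ b ∈ Q, a * b = b * a) ∧ IsCyclic C ∧
        Odd (Nat.card C) ∧ ∃ n : ℕ, Nonempty (↥Q ≃* QuaternionGroup (2 ^ n))) := by
  obtain ⟨hH1, -, ⟨E, hc, hfrob, hfpf⟩, hquot⟩ := Cfsg.Agent.S1474.result hCN hnil r R hR1 hRn
  refine ⟨Cfsg.fittingHall G, E, inferInstance, hc, hfrob, ?_⟩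
  have hEnil : Group.IsNilpotent E := by
    haveI := hquot
    exact Group.nilpotent_of_mulEquiv hc.symm.QuotientMulEquiv
  apply cyclic_or_cyclic_quaternion E hEnil
  intro q hq P
  exact Cfsg.Agent.S0040.result (Cfsg.fittingHall G) E hc hH1 hfpf q P

/-- The three-step case: no nontrivial Sylow subgroup is normal. -/
theorem threeStep_case {G : Type u} [Group G] [Finite G] [Group.IsSolvable G]
    (hCN : Cfsg.IsCNGroup G) (hnil : ¬ Group.IsNilpotent G)
    (hns : ∀ (r : ℕ) (_ : Fact r.Prime) (R : Sylow r G), (R : Subgroup G) ≠ ⊥ →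
      ¬ (R : Subgroup G).Normal) :
    ∃ p : ℕ, p.Prime ∧ Cfsg.IsThreeStepGroup p G := by
  classical
  set F := Cfsg.fittingSubgroup G with hF
  haveI hFn : F.Normal := Helper7.fittingSubgroup_normal'
  have hFnil : Group.IsNilpotent F := Helper7.fittingSubgroup_isNilpotent
  haveI : Nontrivial G := by
    by_contra hnt
    rw [not_nontrivial_iff_subsingleton] at hnt
    exact hnil inferInstance
  -- `F ≠ ⊥`
  have hF1 : F ≠ ⊥ := by
    obtain ⟨q, hq, Q, hQn, hQ1, hQq⟩ := Helper1.exists_normal_pSubgroup_of_solvable G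
    haveI : Fact q.Prime := ⟨hq⟩
    haveI := hQn
    have hle : Q ≤ F := Helper7.le_fittingSubgroup Q hQq.isNilpotent
    intro hb
    apply hQ1
    rw [eq_bot_iff, ← hb]; exact hle
  have hFtop : F ≠ ⊤ := by
    intro htop
    apply hnil
    haveI := hFnil
    rw [htop] at hFnil
    haveI := hFnil
    exact Group.nilpotent_of_mulEquiv (Subgroup.topEquiv (G := G))
  -- the prime `p`
  have hcard1 : Nat.card F ≠ 1 := fun h => hF1 (Subgroup.card_eq_one.mp h)
  obtain ⟨p, hp, hpF⟩ := Nat.exists_prime_and_dvd hcard1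
  haveI : Fact p.Prime := ⟨hp⟩
  have hpG : p ∣ Nat.card G := dvd_trans hpF (Subgroup.card_subgroup_dvd_card F)
  have hFp : IsPGroup p F := by
    have hcard := Nat.eq_prime_pow_of_unique_prime_dvd (Nat.card_pos (α := F)).ne'
      (p := p) (fun {q} hq hqd => by
        by_contra hqp
        haveI : Fact q.Prime := ⟨hq⟩
        obtain ⟨P⟩ : Nonempty (Sylow p G) := inferInstance
        have hPn := sylow_normal_of_two_primes hCN (p := p) (q := q) (fun h => hqp h.symm) hpF hqd P
        exact hns p inferInstance P (P.ne_bot_of_dvd_card hpG) hPn)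
    exact IsPGroup.of_card hcard
  have hcent : ∀ x : G, x ≠ 1 → (∃ k : ℕ, orderOf x ∣ p ^ k) →
      IsPGroup p (Subgroup.centralizer ({x} : Set G)) :=
    fun x hx1 hx => centralizer_isPGroup hCN hFp hF1 hx1 hx
  have hFidx : p ∣ F.index := by
    by_contra hnd
    have h1 : ((hFp.toSylow hnd : Sylow p G) : Subgroup G) = F := IsPGroup.toSylow_coe hFp hnd
    apply hns p inferInstance (hFp.toSylow hnd)
    · rw [h1]; exact hF1
    · rw [h1]; exact hFn
  have hFmax : ∀ Q : Subgroup G, Q.Normal → IsPGroup p Q → Q ≤ F := by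
    intro Q hQn hQp
    haveI := hQn
    exact Helper7.le_fittingSubgroup Q hQp.isNilpotent
  obtain ⟨A, hA1, hAcop, hKn, hAnil, hCA⟩ :=
    exists_complement_fitting_quotient F hFp hFtop hFmax
  have hdata : TSData p F A :=
    { hp := hp, Fnormal := hFn, Fp := hFp, F1 := hF1, cent := hcent, A1 := hA1, Acop := hAcop,
      Knormal := hKn, Fidx := hFidx, Anil := hAnil, CA := hCA }
  -- `O_p(G) = F`
  have hcore : Cfsg.pCore p G = F := by
    apply le_antisymm
    · have hn : (Cfsg.pCore p G).Normal := Subgroup.sSup_normal _ (fun _ h => h.1)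
      exact hFmax _ hn (Helper14.pCore_isPGroup p G)
    · exact Helper14.le_pCore hFn hFp
  refine ⟨p, hp, ?_⟩
  unfold Cfsg.IsThreeStepGroup
  rw [hcore]
  exact ⟨hF1, A, hA1, hdata.isCyclic, hdata.odd_card, hAcop, hKn, hdata.ne_top, hdata.index_eq,
    hdata.fpf, hdata.commutator_not_mem⟩

/-- Let G be a finite solvable group in which every non-identity element has nilpotent centralizer. Then either G is nilpotent; or G has a normal subgroup K with a Frobenius complement E (K E = G, K ∩ E = 1, E meets its conjugates by outside elements trivially) such that E is cyclic or E is generated by two elementwise-commuting subgroups, one cyclic of odd order and one isomorphic to a generalized quaternion group; or G is a three-step group with respect to some prime p. -/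
theorem result {G : Type*} [Group G] [Finite G] [Group.IsSolvable G] (hCN : Cfsg.IsCNGroup G) :
    Group.IsNilpotent G ∨
      (∃ K E : Subgroup G, K.Normal ∧ Subgroup.IsComplement' K E ∧ Cfsg.IsFrobeniusComplement E ∧
        (IsCyclic E ∨ ∃ C Q : Subgroup G, C ⊔ Q = E ∧ (∀ a ∈ C, ∀ b ∈ Q, a * b = b * a) ∧ IsCyclic C ∧ Odd (Nat.card C) ∧
          ∃ n : ℕ, Nonempty (↥Q ≃* QuaternionGroup (2 ^ n)))) ∨
      ∃ p : ℕ, p.Prime ∧ Cfsg.IsThreeStepGroup p G := by
  by_cases hnil : Group.IsNilpotent G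
  · exact Or.inl hnil
  right
  by_cases hns : ∃ (r : ℕ) (_ : Fact r.Prime) (R : Sylow r G),
      (R : Subgroup G) ≠ ⊥ ∧ (R : Subgroup G).Normal
  · left
    obtain ⟨r, hr, R, hR1, hRn⟩ := hns
    exact frobenius_case hCN hnil r R hR1 hRn
  · right
    apply threeStep_case hCN hnil
    intro r hr R hR1 hRn
    exact hns ⟨r, hr, R, hR1, hRn⟩

end Cfsg.Agent.S1476
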