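import Mathlib
import Cfsg.Statements.S5126
import Cfsg.Agent.Lib.Helper25.FusionModel2

set_option autoImplicit false
open Cfsg

namespace Cfsg.Agent.S5126

open Cfsg.FusionSystem Cfsg.Agent.Helper25 in
/-- In a saturated fusion system over a finite p-group S, the normalizer system of a fully normalized, centric, radical subgroup R is constrained, and in every model of that normalizer system the largest normal p-subgroup is the image of R. -/
theorem result {Ω : Type*} [Group Ω] {S : Subgroup Ω} [Finite S] (p : ℕ) [Fact p.Prime] (hS : IsPGroup p S) (F : Cfsg.FusionSystem S) (hF : F.IsSaturated p) (R : Subgroup Ω) (hRn : F.IsFullyNormalized R) (hRc : F.IsCentric R) (hRr : F.IsRadical p R) (E : Cfsg.FusionSystem (Cfsg.FusionSystem.normalizerIn S R)) (hE : F.IsNormalizerSystem R E) {G : Type*} [Group G] (ι : ↥(Cfsg.FusionSystem.normalizerIn S R) →* G) : E.IsConstrained p ∧ (E.IsModel p G ι → (Cfsg.pCore p G : Subgroup G) = (R.subgroupOf (Cfsg.FusionSystem.normalizerIn S R)).map ι) := by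
  have hR : R ≤ S := hRc.1
  have hnorm := normalizerSystem_isNormal F hR E hE
  refine ⟨⟨normalizerSystem_isSaturated p hS F hF hRn E hE, R, hnorm,
    normalizerSystem_isCentric F hRc E hE⟩, fun hG => ?_⟩
  haveI : Finite ↥(normalizerIn S R) := finite_of_le_finite normalizerIn_le
  have hG' := hG
  obtain ⟨hfin, hreal, ⟨T, hT⟩, hcen⟩ := hG
  haveI := hfin
  have hUp : IsPGroup p (pCore p G) := isPGroup_pCore p G
  have hUT : pCore p G ≤ ι.range := hT ▸ hUp.le_sylow_of_normal T
  apply le_antisymm
  · exact le_map_of_centric_radical p hS F hRc hRr E hE ι hreal (pCore_normal p G) hUT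
  · apply le_pCore (normal_map_of_isNormal_of_isModel p E ι hG' hnorm)
    exact (isPGroup_subgroupOf (normalizerIn S R) (hS.to_le hR)).map ι

end Cfsg.Agent.S5126
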