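import Mathlib
import Cfsg.Statements.S0560
import Cfsg.Agent.Lib.Helper3.Card

set_option autoImplicit false
open Cfsg
open scoped Pointwise

namespace Cfsg.Agent.S0560

open Cfsg.Agent.Helper3

theorem result {G : Type*} [Group G] [Finite G] (H K : Subgroup G) (hHK : ∀ g : G, ∃ h ∈ H, ∃ k ∈ K, g = h * k) (p : ℕ) [Fact p.Prime] : ∃ (P : Sylow p H) (Q : Sylow p K) (R : Sylow p G), ((R : Subgroup G) : Set G) = (((P : Subgroup H).map H.subtype : Subgroup G) : Set G) * (((Q : Subgroup K).map K.subtype : Subgroup G) : Set G) := by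
  have hp : p.Prime := Fact.out
  obtain ⟨P₁⟩ : Nonempty (Sylow p H) := inferInstance
  obtain ⟨Q₁⟩ : Nonempty (Sylow p K) := inferInstance
  have hP₁ : IsPGroup p ((P₁ : Subgroup H).map H.subtype) := P₁.isPGroup'.map _
  have hQ₁ : IsPGroup p ((Q₁ : Subgroup K).map K.subtype) := Q₁.isPGroup'.map _
  obtain ⟨R, hR⟩ := hP₁.exists_le_sylow
  obtain ⟨R₂, hR₂⟩ := hQ₁.exists_le_sylow
  obtain ⟨g, hg⟩ := MulAction.exists_smul_eq G R R₂
  obtain ⟨h, hh, k, hk, hgk⟩ := hHK g⁻¹
  have hg' : g = k⁻¹ * h⁻¹ := by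
    rw [← inv_inv g, hgk]; group
  -- the new Sylow subgroups
  let P₂ : Sylow p H := (⟨h⁻¹, H.inv_mem hh⟩ : H) • P₁
  let Q₂ : Sylow p K := (⟨k, hk⟩ : K) • Q₁
  let R' : Sylow p G := h⁻¹ • R
  have hP₂ : ((P₂ : Subgroup H).map H.subtype) = MulAut.conj h⁻¹ • ((P₁ : Subgroup H).map H.subtype) := by
    show ((((⟨h⁻¹, H.inv_mem hh⟩ : H) • P₁ : Sylow p H) : Subgroup H).map H.subtype) = _
    rw [Sylow.coe_subgroup_smul, map_subtype_conj_smul]
  have hQ₂ : ((Q₂ : Subgroup K).map K.subtype) = MulAut.conj k • ((Q₁ : Subgroup K).map K.subtype) := by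
    show ((((⟨k, hk⟩ : K) • Q₁ : Sylow p K) : Subgroup K).map K.subtype) = _
    rw [Sylow.coe_subgroup_smul, map_subtype_conj_smul]
  have hR' : (R' : Subgroup G) = MulAut.conj h⁻¹ • (R : Subgroup G) := Sylow.coe_subgroup_smul
  have hPR : ((P₂ : Subgroup H).map H.subtype) ≤ (R' : Subgroup G) := by
    rw [hP₂, hR']
    exact Subgroup.pointwise_smul_le_pointwise_smul_iff.mpr hR
  have hQR : ((Q₂ : Subgroup K).map K.subtype) ≤ (R' : Subgroup G) := by
    rw [hQ₂, hR']
    have h1 : ((Q₁ : Subgroup K).map K.subtype) ≤ MulAut.conj (k⁻¹ * h⁻¹) • (R : Subgroup G) := by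
      have : (R₂ : Subgroup G) = MulAut.conj g • (R : Subgroup G) := by
        rw [← hg]; exact Sylow.coe_subgroup_smul
      rw [← hg', ← this]; exact hR₂
    have h2 := Subgroup.pointwise_smul_le_pointwise_smul_iff (a := MulAut.conj k).mpr h1
    rw [← mul_smul, ← map_mul] at h2
    have e : k * (k⁻¹ * h⁻¹) = h⁻¹ := by group
    rwa [e] at h2
  refine ⟨P₂, Q₂, R', ?_⟩
  set A := (P₂ : Subgroup H).map H.subtype with hA
  set B := (Q₂ : Subgroup K).map K.subtype with hB
  have hsub : (A : Set G) * (B : Set G) ⊆ ((R' : Subgroup G) : Set G) := by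
    rintro _ ⟨a, ha, b, hb, rfl⟩
    exact (R' : Subgroup G).mul_mem (hPR ha) (hQR hb)
  -- cardinalities
  have cA : Nat.card A = p ^ (Nat.card H).factorization p := by
    rw [hA, Subgroup.card_map_of_injective (Subgroup.subtype_injective _), P₂.card_eq_multiplicity]
  have cB : Nat.card B = p ^ (Nat.card K).factorization p := by
    rw [hB, Subgroup.card_map_of_injective (Subgroup.subtype_injective _), Q₂.card_eq_multiplicity]
  have cR : Nat.card (R' : Subgroup G) = p ^ (Nat.card G).factorization p := R'.card_eq_multiplicity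
  have hABp : IsPGroup p (A ⊓ B : Subgroup G) := by
    have : IsPGroup p A := by rw [hA]; exact P₂.isPGroup'.map _
    exact this.to_le inf_le_left
  obtain ⟨j, hj⟩ := IsPGroup.iff_card.mp hABp
  have hABle : A ⊓ B ≤ H ⊓ K := by
    apply inf_le_inf
    · rw [hA]; exact Subgroup.map_subtype_le _
    · rw [hB]; exact Subgroup.map_subtype_le _
  have hdvd : p ^ j ∣ Nat.card (H ⊓ K : Subgroup G) := by
    rw [← hj]; exact Subgroup.card_dvd_of_le hABle
  have hjle : j ≤ (Nat.card (H ⊓ K : Subgroup G)).factorization p :=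
    (hp.pow_dvd_iff_le_factorization Nat.card_pos.ne').mp hdvd
  have hfact : (Nat.card G).factorization p + (Nat.card (H ⊓ K : Subgroup G)).factorization p =
      (Nat.card H).factorization p + (Nat.card K).factorization p := by
    have := card_mul_card_inf_of_mul_eq_univ H K hHK
    have h1 := congrArg (fun n => n.factorization p) this
    beta_reduce at h1
    rw [Nat.factorization_mul Nat.card_pos.ne' Nat.card_pos.ne',
      Nat.factorization_mul Nat.card_pos.ne' Nat.card_pos.ne'] at h1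
    exact h1
  have hprod := card_set_mul_mul_card_inf A B
  rw [cA, cB, hj, ← pow_add, ← hfact] at hprod
  -- |A*B| * p^j = p^(vG + vHK) ≥ p^vG * p^j
  have hge : Nat.card (R' : Subgroup G) ≤ Nat.card ((A : Set G) * (B : Set G) : Set G) := by
    rw [cR]
    have h2 : p ^ (Nat.card G).factorization p * p ^ j ≤ Nat.card ((A : Set G) * (B : Set G) : Set G) * p ^ j := by
      rw [hprod, ← pow_add]
      exact Nat.pow_le_pow_right hp.pos (by omega)
    exact Nat.le_of_mul_le_mul_right h2 (pow_pos hp.pos j)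
  symm
  apply Set.eq_of_subset_of_ncard_le hsub _ (Set.toFinite _)
  rw [← Nat.card_coe_set_eq, ← Nat.card_coe_set_eq]
  exact hge

end Cfsg.Agent.S0560
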