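import Mathlib
import Cfsg.Statements.S0561
import Cfsg.Agent.Lib.Helper1.HallConj
import Cfsg.Agent.Lib.Helper1.CoprimeIndex
import Cfsg.Agent.Lib.Helper3.Basic

set_option autoImplicit false
open Pointwise
open Cfsg

namespace Cfsg.Agent.S0561

open Cfsg.Agent.Helper3

/-- arithmetic of two unitary divisors `a`, `b` of `N`. -/
theorem hall_numbers {N a a' b b' : ℕ} (hN : N ≠ 0) (ha : a * a' = N) (hb : b * b' = N)
    (haa : a.Coprime a') (hbb : b.Coprime b') :
    ∃ c c' a₁ b₁ : ℕ, c * c' = N ∧ c.Coprime c' ∧ c = a * b₁ ∧ c = b * a₁ ∧ a₁.Coprime b₁ ∧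
      a.Coprime c' ∧ b.Coprime a₁ := by
  obtain ⟨a₁, b₁, hcop, ha₁, hb₁⟩ := Nat.exists_coprime a b
  set g := Nat.gcd a b with hg
  have ha0 : a ≠ 0 := by rintro rfl; simp at ha; exact hN ha.symm
  have hgpos : 0 < g := Nat.gcd_pos_of_pos_left b (Nat.pos_of_ne_zero ha0)
  have hbN : b₁ * g ∣ a₁ * g * a' := by rw [← hb₁, ← ha₁, ha]; exact Dvd.intro _ hb
  have h1 : b₁ ∣ a' := by
    have h2 : b₁ * g ∣ (a₁ * a') * g := by convert hbN using 1; ring
    have h3 : b₁ ∣ a₁ * a' := (Nat.mul_dvd_mul_iff_right hgpos).mp h2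
    exact hcop.symm.dvd_of_dvd_mul_left h3
  have haN : a₁ * g ∣ b₁ * g * b' := by rw [← hb₁, ← ha₁, hb]; exact Dvd.intro _ ha
  have h1' : a₁ ∣ b' := by
    have h2 : a₁ * g ∣ (b₁ * b') * g := by convert haN using 1; ring
    have h3 : a₁ ∣ b₁ * b' := (Nat.mul_dvd_mul_iff_right hgpos).mp h2
    exact hcop.dvd_of_dvd_mul_left h3
  obtain ⟨c', hc'⟩ := h1
  obtain ⟨c'', hc''⟩ := h1'
  have hceq : c' = c'' := by
    have h4 : a₁ * g * b₁ * c' = a₁ * g * b₁ * c'' := by
      calc a₁ * g * b₁ * c' = (a₁ * g) * (b₁ * c') := by ring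
        _ = N := by rw [← hc', ← ha₁, ha]
        _ = (b₁ * g) * (a₁ * c'') := by rw [← hc'', ← hb₁, hb]
        _ = a₁ * g * b₁ * c'' := by ring
    have hpos : 0 < a₁ * g * b₁ := by
      apply Nat.pos_of_ne_zero
      intro h0
      rw [h0, zero_mul] at h4
      have : N = 0 := by
        rw [← ha, ha₁, hc']
        calc a₁ * g * (b₁ * c') = a₁ * g * b₁ * c' := by ring
          _ = 0 := by rw [h0, zero_mul]
      exact hN this
    exact Nat.eq_of_mul_eq_mul_left hpos h4
  have hac' : a.Coprime c' := haa.coprime_dvd_right (Dvd.intro_left _ hc'.symm)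
  have hbc' : b.Coprime c' := by
    rw [hceq]; exact hbb.coprime_dvd_right (Dvd.intro_left _ hc''.symm)
  refine ⟨a * b₁, c', a₁, b₁, ?_, ?_, rfl, ?_, hcop, hac', ?_⟩
  · rw [← ha, hc']; ring
  · apply Nat.Coprime.mul_left hac'
    exact hbc'.coprime_dvd_left (Dvd.intro _ hb₁.symm)
  · rw [ha₁, hb₁]; ring
  · exact hbb.coprime_dvd_right (Dvd.intro _ hc''.symm)

variable {G : Type*} [Group G]

theorem coe_conj_smul_eq_mul {C A B : Subgroup G} (h : (C : Set G) = (A : Set G) * (B : Set G))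
    (g : G) : ((MulAut.conj g • C : Subgroup G) : Set G) =
      ((MulAut.conj g • A : Subgroup G) : Set G) * ((MulAut.conj g • B : Subgroup G) : Set G) := by
  ext z
  rw [Set.mem_mul]
  simp only [SetLike.mem_coe, mem_conj_smul_iff]
  constructor
  · intro hz
    have hz' : g⁻¹ * z * g ∈ (C : Set G) := hz
    rw [h, Set.mem_mul] at hz'
    obtain ⟨a, ha, b, hb, hab⟩ := hz'
    refine ⟨g * a * g⁻¹, ?_, g * b * g⁻¹, ?_, ?_⟩
    · have : g⁻¹ * (g * a * g⁻¹) * g = a := by group
      rw [this]; exact ha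
    · have : g⁻¹ * (g * b * g⁻¹) * g = b := by group
      rw [this]; exact hb
    · calc g * a * g⁻¹ * (g * b * g⁻¹) = g * (a * b) * g⁻¹ := by group
        _ = z := by rw [hab]; group
  · rintro ⟨x, hx, y, hy, rfl⟩
    have : g⁻¹ * (x * y) * g ∈ (C : Set G) := by
      rw [h, Set.mem_mul]
      exact ⟨_, hx, _, hy, by group⟩
    exact this

/-- Let the finite solvable group G be the product HK of subgroups, and let A be normal in H and B normal in K, where A and B are Hall subgroups of G (order coprime to index). Then for all x, y the product set of xAx⁻¹ and yBy⁻¹ is a subgroup of G. -/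
theorem result {G : Type*} [Group G] [Finite G] [Group.IsSolvable G] (H K A B : Subgroup G) (hHK : ∀ g : G, ∃ h ∈ H, ∃ k ∈ K, g = h * k) (hA : A ≤ H) (hAn : (A.subgroupOf H).Normal) (hB : B ≤ K) (hBn : (B.subgroupOf K).Normal) (hAh : (Nat.card A).Coprime A.index) (hBh : (Nat.card B).Coprime B.index) (x y : G) : ∃ S : Subgroup G, (S : Set G) = ((MulAut.conj x • A : Subgroup G) : Set G) * ((MulAut.conj y • B : Subgroup G) : Set G) := by
  obtain ⟨c, c', a₁, b₁, hcc', hcop, hca, hcb, hab₁, hac', hba₁⟩ :=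
    hall_numbers (Nat.card_pos (α := G)).ne' (Subgroup.card_mul_index A)
      (Subgroup.card_mul_index B) hAh hBh
  obtain ⟨C, hCcard, hAC⟩ := Cfsg.Agent.Helper1.hall_contain c c' hcc'.symm hcop A hac'
  obtain ⟨B₀, hB₀⟩ := Cfsg.Agent.Helper1.hall_exists (G := C) (Nat.card B) a₁
    (by rw [hCcard, hcb]) hba₁
  set B₁ := B₀.map C.subtype with hB₁
  have hB₁card : Nat.card B₁ = Nat.card B := by
    rw [hB₁, Subgroup.card_map_of_injective C.subtype_injective, hB₀]
  have hB₁C : B₁ ≤ C := Subgroup.map_subtype_le _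
  obtain ⟨w, hw⟩ := Cfsg.Agent.Helper1.hall_conj (Nat.card B) B.index
    (Subgroup.card_mul_index B).symm hBh B B₁ rfl hB₁card
  have hrA : A.relIndex C = b₁ := by
    have := card_mul_relIndex_of_le hAC
    rw [hCcard, hca] at this
    exact Nat.eq_of_mul_eq_mul_left Nat.card_pos this
  have hrB : B₁.relIndex C = a₁ := by
    have := card_mul_relIndex_of_le hB₁C
    rw [hCcard, hcb, hB₁card] at this
    exact Nat.eq_of_mul_eq_mul_left Nat.card_pos this
  have hCset : (C : Set G) = (A : Set G) * (B₁ : Set G) := by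
    ext z
    constructor
    · intro hz
      have hcopidx : ((A.subgroupOf C).index).Coprime ((B₁.subgroupOf C).index) := by
        change (A.relIndex C).Coprime (B₁.relIndex C)
        rw [hrA, hrB]; exact hab₁.symm
      obtain ⟨u, hu, v, hv, huv⟩ :=
        Cfsg.Agent.Helper1.exists_mul_of_coprime_index hcopidx (⟨z, hz⟩ : C)
      rw [Set.mem_mul]
      refine ⟨u, Subgroup.mem_subgroupOf.mp hu, v, Subgroup.mem_subgroupOf.mp hv, ?_⟩
      have := congrArg Subtype.val huv
      simpa using this.symm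
    · rintro ⟨a, ha, b, hb, rfl⟩
      exact C.mul_mem (hAC ha) (hB₁C hb)
  obtain ⟨h₀, hh₀, k₀, hk₀, hw'⟩ := hHK w
  obtain ⟨h₁, hh₁, k₁, hk₁, hxy⟩ := hHK (x⁻¹ * y)
  set g := x * (h₁ * h₀⁻¹) with hg
  have eA : MulAut.conj g • A = MulAut.conj x • A := by
    rw [hg, map_mul, mul_smul,
      conj_smul_eq_of_normal_subgroupOf hA hAn (H.mul_mem hh₁ (H.inv_mem hh₀))]
  have hgw : g * w = y * (k₁⁻¹ * k₀) := by
    have hy : y = x * (h₁ * k₁) := by rw [← hxy]; group
    rw [hg, hw', hy]; group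
  have eB : MulAut.conj g • B₁ = MulAut.conj y • B := by
    rw [← hw, smul_smul, ← map_mul, hgw, map_mul, mul_smul,
      conj_smul_eq_of_normal_subgroupOf hB hBn (K.mul_mem (K.inv_mem hk₁) hk₀)]
  exact ⟨MulAut.conj g • C, by rw [coe_conj_smul_eq_mul hCset g, eA, eB]⟩

end Cfsg.Agent.S0561
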