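import Mathlib
import Cfsg.Statements.S0562
import Cfsg.Agent.Lib.Helper3.Basic

set_option autoImplicit false
open Cfsg
open scoped Pointwise

namespace Cfsg.Agent.S0562

open Cfsg.Agent.Helper3

theorem result {G : Type*} [Group G] [Finite G] (H K A B : Subgroup G) (hHK : ∀ g : G, ∃ h ∈ H, ∃ k ∈ K, g = h * k) (hA : A ≤ H) (hAn : (A.subgroupOf H).Normal) (hB : B ≤ K) (hBn : (B.subgroupOf K).Normal) : ∀ g ∈ Subgroup.normalizer ((A ⊔ B : Subgroup G) : Set G), ∃ h ∈ Subgroup.normalizer ((A ⊔ B : Subgroup G) : Set G) ⊓ H, ∃ k ∈ Subgroup.normalizer ((A ⊔ B : Subgroup G) : Set G) ⊓ K, g = h * k := by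
  intro g hg
  obtain ⟨h, hh, k, hk, rfl⟩ := hHK g
  have hX : MulAut.conj (h * k) • (A ⊔ B) = A ⊔ B := conj_smul_eq_of_mem_normalizer hg
  -- conj k • X = conj h⁻¹ • X
  have hY : MulAut.conj k • (A ⊔ B) = MulAut.conj h⁻¹ • (A ⊔ B) := by
    conv_rhs => rw [← hX]
    rw [← mul_smul, ← map_mul]
    congr 2
    group
  have hkn : k ∈ Subgroup.normalizer ((A ⊔ B : Subgroup G) : Set G) := by
    apply mem_normalizer_of_le_conj_smul
    apply sup_le
    · rw [hY, Subgroup.smul_sup, conj_smul_eq_of_normal_subgroupOf hA hAn (H.inv_mem hh)]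
      exact le_sup_left
    · rw [Subgroup.smul_sup, conj_smul_eq_of_normal_subgroupOf hB hBn hk]
      exact le_sup_right
  have hhn : h ∈ Subgroup.normalizer ((A ⊔ B : Subgroup G) : Set G) := by
    have := Subgroup.mul_mem _ hg (Subgroup.inv_mem _ hkn)
    rwa [mul_inv_cancel_right] at this
  exact ⟨h, ⟨hhn, hh⟩, k, ⟨hkn, hk⟩, rfl⟩

end Cfsg.Agent.S0562
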