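import Mathlib
import Cfsg.Statements.S0558
import Cfsg.Agent.S0071
import Cfsg.Agent.Lib.Helper1.CoprimeIndex
import Cfsg.Agent.Lib.Helper3.NilpotentCoprime

set_option autoImplicit false
open Cfsg

namespace Cfsg.Agent.S0558

open Cfsg.Agent.Helper3

variable {G : Type*} [Group G]

/-- A `p`-subgroup `K` that is maximal among the `p`-subgroups of some `H ⊇ N_G(K)` is maximal
among all `p`-subgroups. -/
theorem maximal_of_normalizer_le [Finite G] {p : ℕ} [Fact p.Prime] (K H : Subgroup G)
    (hmax : ∀ Q : Subgroup G, IsPGroup p Q → K ≤ Q → Q ≤ H → Q = K)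
    (hN : Subgroup.normalizer (K : Set G) ≤ H) (Q : Subgroup G) (hQ : IsPGroup p Q)
    (hKQ : K ≤ Q) : Q = K := by
  by_contra hne
  have hlt : K.subgroupOf Q < ⊤ := by
    rw [lt_top_iff_ne_top, Ne, Subgroup.subgroupOf_eq_top]
    intro h; exact hne (le_antisymm h hKQ)
  have : Group.IsNilpotent Q := hQ.isNilpotent
  have h1 := Group.normalizerCondition_of_isNilpotent (G := Q) _ hlt
  rw [← Subgroup.subgroupOf_normalizer_eq hKQ] at h1
  have h2 : Subgroup.normalizer (K : Set G) ⊓ Q = K :=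
    hmax _ (hQ.to_le inf_le_right) (le_inf Subgroup.le_normalizer hKQ) (inf_le_left.trans hN)
  have h3 : (Subgroup.normalizer (K : Set G)).subgroupOf Q = K.subgroupOf Q := by
    rw [← Subgroup.inf_subgroupOf_right, h2]
  rw [h3] at h1
  exact lt_irrefl _ h1

theorem sylow_aux [Finite G] (H : Subgroup G) {p : ℕ} [Fact p.Prime] (P : Sylow p H)
    (hN : Subgroup.normalizer (((P : Subgroup H).map H.subtype : Subgroup G) : Set G) = H) :
    ∃ S : Sylow p G, (S : Subgroup G) = (P : Subgroup H).map H.subtype := by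
  have hK : IsPGroup p ((P : Subgroup H).map H.subtype) := P.isPGroup'.map _
  refine ⟨⟨_, hK, fun {Q} hQ hle => maximal_of_normalizer_le _ H ?_ hN.le Q hQ hle⟩, rfl⟩
  intro Q hQ hle hQH
  have h1 : (P : Subgroup H) ≤ Q.subgroupOf H := by
    rw [Subgroup.subgroupOf, ← Subgroup.map_le_iff_le_comap]
    exact hle
  have h2 : Q.subgroupOf H = P := P.is_maximal' (hQ.comap_subtype) h1
  rw [← h2, Subgroup.map_subgroupOf_eq_of_le hQH]

theorem frattini_aux [Finite G] {q : ℕ} [Fact q.Prime] (T : Sylow q G) (C : Subgroup G) (g : G)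
    (h1 : (T : Subgroup G) ≤ C) (h2 : ↑(g • T) ≤ C) :
    ∃ c ∈ C, c * g ∈ Subgroup.normalizer ((T : Subgroup G) : Set G) := by
  obtain ⟨h, hh⟩ := MulAction.exists_smul_eq C ((g • T).subtype h2) (T.subtype h1)
  simp_rw [Sylow.smul_subtype, Subgroup.smul_def, smul_smul] at hh
  exact ⟨h, h.2, Sylow.smul_eq_iff_mem_normalizer.mp (Sylow.subtype_injective hh)⟩

/-- conjugation by `g = c⁻¹ h` and by `h` agree on `R` when `c` centralizes `R` and both normalize `R`. -/
theorem conj_pow_eq (R : Subgroup G) (g h c : G) (hc : c ∈ Subgroup.centralizer (R : Set G))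
    (hh : h ∈ Subgroup.normalizer (R : Set G)) (hg : c * g = h) (m : ℕ) :
    ∀ r ∈ R, g ^ m * r * (g ^ m)⁻¹ = h ^ m * r * (h ^ m)⁻¹ := by
  induction m with
  | zero => intro r _; simp
  | succ m ih =>
    intro r hr
    have hr' : h ^ m * r * (h ^ m)⁻¹ ∈ R :=
      (Subgroup.mem_normalizer_iff.mp (pow_mem hh m) r).mp hr
    have hr'' : h * (h ^ m * r * (h ^ m)⁻¹) * h⁻¹ ∈ R :=
      (Subgroup.mem_normalizer_iff.mp hh _).mp hr'
    have h1 : g ^ (m + 1) * r * (g ^ (m + 1))⁻¹ = g * (g ^ m * r * (g ^ m)⁻¹) * g⁻¹ := by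
      rw [pow_succ']; group
    have h2 : h ^ (m + 1) * r * (h ^ (m + 1))⁻¹ = h * (h ^ m * r * (h ^ m)⁻¹) * h⁻¹ := by
      rw [pow_succ']; group
    rw [h1, h2, ih r hr]
    have hgc : g = c⁻¹ * h := by rw [← hg]; group
    have h3 := hc _ hr''
    -- h3 : x * c = c * x
    rw [hgc]
    have : c⁻¹ * h * (h ^ m * r * (h ^ m)⁻¹) * (c⁻¹ * h)⁻¹
        = c⁻¹ * (h * (h ^ m * r * (h ^ m)⁻¹) * h⁻¹) * c := by group
    rw [this, mul_assoc, h3, ← mul_assoc, inv_mul_cancel, one_mul]

theorem frobenius_cond [Finite G] (H : Subgroup G) (hnil : Group.IsNilpotent H) {p q : ℕ}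
    [hp : Fact p.Prime] [hq : Fact q.Prime] (hpq : p ≠ q) (S : Sylow p G) (T : Sylow q G)
    (hS : (S : Subgroup G) ≤ H) (hT : (T : Subgroup G) ≤ H)
    (hNT : Subgroup.normalizer ((T : Subgroup G) : Set G) = H)
    (R : Subgroup G) (hR : R ≤ S) (g : G) (hg : g ∈ Subgroup.normalizer (R : Set G))
    (hcop : Nat.Coprime (orderOf g) p) : g ∈ Subgroup.centralizer (R : Set G) := by
  have hordS : ∀ r ∈ (S : Subgroup G), ∃ k, orderOf r = p ^ k := by
    intro r hr
    obtain ⟨k, hk⟩ := (IsPGroup.iff_orderOf.mp S.isPGroup') ⟨r, hr⟩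
    exact ⟨k, by rw [← hk, Subgroup.orderOf_mk]⟩
  have hordT : ∀ t ∈ (T : Subgroup G), ∃ k, orderOf t = q ^ k := by
    intro r hr
    obtain ⟨k, hk⟩ := (IsPGroup.iff_orderOf.mp T.isPGroup') ⟨r, hr⟩
    exact ⟨k, by rw [← hk, Subgroup.orderOf_mk]⟩
  have hpqc : Nat.Coprime p q := (Nat.coprime_primes hp.out hq.out).mpr hpq
  have hTC : (T : Subgroup G) ≤ Subgroup.centralizer (R : Set G) := by
    intro t ht r hr
    obtain ⟨k, hk⟩ := hordS r (hR hr)
    obtain ⟨l, hl⟩ := hordT t ht
    apply mul_comm_of_mem_isNilpotent_of_coprime hnil (hS (hR hr)) (hT ht)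
    rw [hk, hl]
    exact Nat.Coprime.pow _ _ hpqc
  have hgTC : ↑(g • T) ≤ Subgroup.centralizer (R : Set G) := by
    rintro x ⟨t, ht, rfl⟩ r hr
    have hr' : g⁻¹ * r * g ∈ R := by
      have := (Subgroup.mem_normalizer_iff.mp (inv_mem hg) r).mp hr
      simpa using this
    have h1 := hTC ht _ hr'
    change r * (g * t * g⁻¹) = (g * t * g⁻¹) * r
    calc r * (g * t * g⁻¹) = g * ((g⁻¹ * r * g) * t) * g⁻¹ := by group
      _ = g * (t * (g⁻¹ * r * g)) * g⁻¹ := by rw [h1]
      _ = (g * t * g⁻¹) * r := by group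
  obtain ⟨c, hc, hcg⟩ := frattini_aux T _ g hTC hgTC
  rw [hNT] at hcg
  set h := c * g with hdef
  have hhN : h ∈ Subgroup.normalizer (R : Set G) :=
    mul_mem (Subgroup.centralizer_le_normalizer _ hc) hg
  obtain ⟨e, n', hn', hn⟩ := Nat.exists_eq_pow_mul_and_not_dvd
    (orderOf_pos h).ne' p hp.out.ne_one
  have hord : orderOf (h ^ p ^ e) ∣ n' := by
    apply orderOf_dvd_of_pow_eq_one
    rw [← pow_mul, ← hn, pow_orderOf_eq_one]
  have hcop' : Nat.Coprime p n' := (Nat.Prime.coprime_iff_not_dvd hp.out).mpr hn'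
  have hcent : ∀ r ∈ R, g ^ p ^ e * r * (g ^ p ^ e)⁻¹ = r := by
    intro r hr
    rw [conj_pow_eq R g h c hc hhN hdef.symm (p ^ e) r hr]
    obtain ⟨k, hk⟩ := hordS r (hR hr)
    have h1 : r * h ^ p ^ e = h ^ p ^ e * r := by
      apply mul_comm_of_mem_isNilpotent_of_coprime hnil (hS (hR hr)) (pow_mem hcg _)
      rw [hk]
      exact Nat.Coprime.pow_left _ (hcop'.coprime_dvd_right hord)
    rw [← h1]; group
  have hmem : g ^ p ^ e ∈ Subgroup.centralizer (R : Set G) := by
    intro r hr
    have := hcent r hr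
    calc r * g ^ p ^ e = (g ^ p ^ e * r * (g ^ p ^ e)⁻¹) * g ^ p ^ e := by rw [this]
      _ = g ^ p ^ e * r := by group
  obtain ⟨m, hm⟩ := exists_pow_eq_self_of_coprime (x := g) (n := p ^ e)
    (Nat.Coprime.pow_left _ hcop.symm)
  rw [← hm]
  exact pow_mem hmem m

/-- Let H be a subgroup of a finite group G that is not a Sylow subgroup of G for any prime, and suppose that for every prime p dividing the order of H and every Sylow p-subgroup P of H the normalizer of P in G is exactly H. Then some normal subgroup of G is a complement to H. -/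
theorem result {G : Type*} [Group G] [Finite G] (H : Subgroup G) (hnot : ∀ p : ℕ, p.Prime → ∀ P : Sylow p G, (P : Subgroup G) ≠ H) (hnorm : ∀ p : ℕ, p.Prime → p ∣ Nat.card H → ∀ P : Sylow p H, Subgroup.normalizer (((P : Subgroup H).map H.subtype : Subgroup G) : Set G) = H) : ∃ N : Subgroup G, N.Normal ∧ Subgroup.IsComplement' N H := by
  classical
  have hnormalH : ∀ (p : ℕ) [Fact p.Prime] (P : Sylow p H), (P : Subgroup H).Normal := by
    intro p hp P
    by_cases hdvd : p ∣ Nat.card H
    · have hN := hnorm p hp.out hdvd P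
      constructor
      intro n hn h
      have hh : (h : G) ∈ Subgroup.normalizer
          (((P : Subgroup H).map H.subtype : Subgroup G) : Set G) := by
        rw [hN]; exact h.2
      have h1 := (Subgroup.mem_normalizer_iff.mp hh (n : G)).mp (Subgroup.mem_map_of_mem _ hn)
      obtain ⟨y, hy, hyeq⟩ := h1
      have : y = h * n * h⁻¹ := Subtype.ext (by simpa using hyeq)
      rw [← this]; exact hy
    · have hcard : Nat.card (P : Subgroup H) = 1 := by
        rw [Sylow.card_eq_multiplicity, Nat.factorization_eq_zero_of_not_dvd hdvd, pow_zero]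
      have : (P : Subgroup H) = ⊥ := Subgroup.eq_bot_of_card_eq _ hcard
      rw [this]; infer_instance
  have hnil : Group.IsNilpotent H :=
    ((Group.isNilpotent_of_finite_tfae (G := H)).out 0 3 rfl rfl).mpr
      (fun p hp P => hnormalH p P)
  have key : ∀ p : ℕ, p.Prime → p ∣ Nat.card H → ∃ N : Subgroup G, N.Normal ∧
      N.index = p ^ (Nat.card H).factorization p ∧ ¬ p ∣ Nat.card N := by
    intro p hp hdvd
    haveI : Fact p.Prime := ⟨hp⟩
    let P : Sylow p H := default
    obtain ⟨S, hS⟩ := sylow_aux H P (hnorm p hp hdvd P)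
    have hq : ∃ q, q.Prime ∧ q ∣ Nat.card H ∧ q ≠ p := by
      by_contra hcon
      push Not at hcon
      have hpg : IsPGroup p H := by
        have := Nat.eq_prime_pow_of_unique_prime_dvd (Nat.card_pos (α := H)).ne'
          (fun {d} hd hdd => hcon d hd hdd)
        exact IsPGroup.of_card this
      have hPtop : (⊤ : Subgroup H) = P := P.is_maximal' (hpg.to_subgroup ⊤) le_top
      rw [← hPtop, ← MonoidHom.range_eq_map, Subgroup.range_subtype] at hS
      exact hnot p hp S hS
    obtain ⟨q, hq, hqdvd, hqp⟩ := hq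
    haveI : Fact q.Prime := ⟨hq⟩
    let Q : Sylow q H := default
    obtain ⟨T, hT⟩ := sylow_aux H Q (hnorm q hq hqdvd Q)
    have hNT : Subgroup.normalizer ((T : Subgroup G) : Set G) = H := by
      rw [hT]; exact hnorm q hq hqdvd Q
    have hSH : (S : Subgroup G) ≤ H := by rw [hS]; exact Subgroup.map_subtype_le _
    have hTH : (T : Subgroup G) ≤ H := by rw [hT]; exact Subgroup.map_subtype_le _
    obtain ⟨N, hNn, hNc⟩ := (Cfsg.Agent.S0071.result S).mpr
      (fun R hR g hg hcop => frobenius_cond H hnil (Ne.symm hqp) S T hSH hTH hNT R hR g hg hcop)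
    refine ⟨N, hNn, ?_, ?_⟩
    · rw [hNc.symm.index_eq_card, hS, Subgroup.card_map_of_injective H.subtype_injective,
        Sylow.card_eq_multiplicity]
    · rw [← hNc.index_eq_card]
      exact S.not_dvd_index
  choose! Np hNp using key
  have hidx : ∀ s : Finset ℕ, s ⊆ (Nat.card H).primeFactors →
      (⨅ p ∈ s, Np p).index = ∏ p ∈ s, p ^ (Nat.card H).factorization p := by
    intro s
    induction s using Finset.induction_on with
    | empty => intro _; simp
    | insert a s ha ih =>
      intro hs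
      have has : a ∈ (Nat.card H).primeFactors := hs (Finset.mem_insert_self a s)
      have hss : s ⊆ (Nat.card H).primeFactors := fun x hx => hs (Finset.mem_insert_of_mem hx)
      have ha' := hNp a (Nat.prime_of_mem_primeFactors has) (Nat.dvd_of_mem_primeFactors has)
      rw [Finset.iInf_insert, Finset.prod_insert ha, Cfsg.Agent.Helper1.index_inf_of_coprime,
        ih hss, ha'.2.1]
      rw [ih hss, ha'.2.1]
      apply Nat.Coprime.prod_right
      intro b hb
      apply Nat.Coprime.pow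
      rw [Nat.coprime_primes (Nat.prime_of_mem_primeFactors has)
        (Nat.prime_of_mem_primeFactors (hss hb))]
      rintro rfl
      exact ha hb
  set N := ⨅ p ∈ (Nat.card H).primeFactors, Np p with hNdef
  have hNidx : N.index = Nat.card H := by
    rw [hNdef, hidx _ subset_rfl, ← Nat.prod_factorization_eq_prod_primeFactors,
      Nat.factorization_prod_pow_eq_self (Nat.card_pos (α := H)).ne']
  have hNnormal : N.Normal := by
    rw [hNdef]
    apply Subgroup.normal_iInf_normal
    intro p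
    apply Subgroup.normal_iInf_normal
    intro hp
    exact (hNp p (Nat.prime_of_mem_primeFactors hp) (Nat.dvd_of_mem_primeFactors hp)).1
  refine ⟨N, hNnormal, Subgroup.isComplement'_of_coprime ?_ ?_⟩
  · rw [← hNidx]; exact Subgroup.card_mul_index N
  · by_contra hcon
    obtain ⟨p, hp, hp1, hp2⟩ := Nat.Prime.not_coprime_iff_dvd.mp hcon
    have hmem : p ∈ (Nat.card H).primeFactors :=
      Nat.mem_primeFactors.mpr ⟨hp, hp2, (Nat.card_pos (α := H)).ne'⟩
    have hle : N ≤ Np p := iInf₂_le p hmem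
    exact (hNp p hp hp2).2.2 (hp1.trans (Subgroup.card_dvd_of_le hle))

end Cfsg.Agent.S0558
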