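import Mathlib
import Cfsg.Statements.S0572

set_option autoImplicit false
open Cfsg
open scoped commutatorElement

namespace Cfsg.Agent.S0572

variable {G : Type*} [Group G]

theorem comm_of_mem {A : Subgroup G} [IsMulCommutative A] {x y : G} (hx : x ∈ A) (hy : y ∈ A) :
    x * y = y * x := by
  have h := mul_comm' (⟨x, hx⟩ : A) ⟨y, hy⟩
  exact congrArg Subtype.val h

/-- `[a₃ b₃, b] = [a₃, b]` when `b₃, b` commute. -/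
theorem comm_mul_left {x y z : G} (h : y * z = z * y) : ⁅x * y, z⁆ = ⁅x, z⁆ := by
  simp only [commutatorElement_def, mul_inv_rev]
  calc x * y * z * (y⁻¹ * x⁻¹) * z⁻¹ = x * (y * z) * y⁻¹ * x⁻¹ * z⁻¹ := by group
    _ = x * (z * y) * y⁻¹ * x⁻¹ * z⁻¹ := by rw [h]
    _ = x * z * x⁻¹ * z⁻¹ := by group

/-- `[a, b₂ a₂] = [a, b₂]` when `a, a₂` commute. -/
theorem comm_mul_right {x y z : G} (h : x * z = z * x) : ⁅x, y * z⁆ = ⁅x, y⁆ := by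
  simp only [commutatorElement_def, mul_inv_rev]
  calc x * (y * z) * x⁻¹ * (z⁻¹ * y⁻¹) = x * y * (z * x⁻¹) * z⁻¹ * y⁻¹ := by group
    _ = x * y * (x⁻¹ * z) * z⁻¹ * y⁻¹ := by
        have : z * x⁻¹ = x⁻¹ * z := by
          calc z * x⁻¹ = x⁻¹ * (x * z) * x⁻¹ := by group
            _ = x⁻¹ * (z * x) * x⁻¹ := by rw [h]
            _ = x⁻¹ * z := by group
        rw [this]
    _ = x * y * x⁻¹ * y⁻¹ := by group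

theorem key (A B : Subgroup G) [IsMulCommutative A] [IsMulCommutative B]
    (hAB : ∀ g : G, ∃ a ∈ A, ∃ b ∈ B, g = a * b) {a a₁ b b₁ : G} (ha : a ∈ A) (ha₁ : a₁ ∈ A)
    (hb : b ∈ B) (hb₁ : b₁ ∈ B) :
    (a₁ * b₁) * ⁅a, b⁆ * (a₁ * b₁)⁻¹ = (b₁ * a₁) * ⁅a, b⁆ * (b₁ * a₁)⁻¹ := by
  -- b₁ a b₁⁻¹ = a₃ b₃
  obtain ⟨a₃, ha₃, b₃, hb₃, h3⟩ := hAB (b₁ * a * b₁⁻¹)
  -- a₁ b a₁⁻¹ = b₂ a₂
  obtain ⟨a₂', ha₂', b₂', hb₂', h2'⟩ := hAB ((a₁ * b * a₁⁻¹)⁻¹)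
  have h2 : a₁ * b * a₁⁻¹ = b₂'⁻¹ * a₂'⁻¹ := by
    rw [← inv_inv (a₁ * b * a₁⁻¹), h2', mul_inv_rev]
  have e1 : b₁ * b * b₁⁻¹ = b := by rw [comm_of_mem hb₁ hb, mul_inv_cancel_right]
  have e2 : a₁ * a * a₁⁻¹ = a := by rw [comm_of_mem ha₁ ha, mul_inv_cancel_right]
  have e3 : a₁ * a₃ * a₁⁻¹ = a₃ := by rw [comm_of_mem ha₁ ha₃, mul_inv_cancel_right]
  have e4 : b₁ * b₂'⁻¹ * b₁⁻¹ = b₂'⁻¹ := by
    rw [comm_of_mem hb₁ (B.inv_mem hb₂'), mul_inv_cancel_right]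
  have lhs : (a₁ * b₁) * ⁅a, b⁆ * (a₁ * b₁)⁻¹ = ⁅a₃, b₂'⁻¹⁆ := by
    calc (a₁ * b₁) * ⁅a, b⁆ * (a₁ * b₁)⁻¹ = a₁ * (b₁ * ⁅a, b⁆ * b₁⁻¹) * a₁⁻¹ := by group
      _ = a₁ * ⁅b₁ * a * b₁⁻¹, b₁ * b * b₁⁻¹⁆ * a₁⁻¹ := by rw [conjugate_commutatorElement]
      _ = a₁ * ⁅a₃ * b₃, b⁆ * a₁⁻¹ := by rw [h3, e1]
      _ = a₁ * ⁅a₃, b⁆ * a₁⁻¹ := by rw [comm_mul_left (comm_of_mem hb₃ hb)]
      _ = ⁅a₁ * a₃ * a₁⁻¹, a₁ * b * a₁⁻¹⁆ := by rw [conjugate_commutatorElement]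
      _ = ⁅a₃, b₂'⁻¹ * a₂'⁻¹⁆ := by rw [e3, h2]
      _ = ⁅a₃, b₂'⁻¹⁆ := comm_mul_right (comm_of_mem ha₃ (A.inv_mem ha₂'))
  have rhs : (b₁ * a₁) * ⁅a, b⁆ * (b₁ * a₁)⁻¹ = ⁅a₃, b₂'⁻¹⁆ := by
    calc (b₁ * a₁) * ⁅a, b⁆ * (b₁ * a₁)⁻¹ = b₁ * (a₁ * ⁅a, b⁆ * a₁⁻¹) * b₁⁻¹ := by group
      _ = b₁ * ⁅a₁ * a * a₁⁻¹, a₁ * b * a₁⁻¹⁆ * b₁⁻¹ := by rw [conjugate_commutatorElement]
      _ = b₁ * ⁅a, b₂'⁻¹ * a₂'⁻¹⁆ * b₁⁻¹ := by rw [e2, h2]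
      _ = b₁ * ⁅a, b₂'⁻¹⁆ * b₁⁻¹ := by rw [comm_mul_right (comm_of_mem ha (A.inv_mem ha₂'))]
      _ = ⁅b₁ * a * b₁⁻¹, b₁ * b₂'⁻¹ * b₁⁻¹⁆ := by rw [conjugate_commutatorElement]
      _ = ⁅a₃ * b₃, b₂'⁻¹⁆ := by rw [h3, e4]
      _ = ⁅a₃, b₂'⁻¹⁆ := comm_mul_left (comm_of_mem hb₃ (B.inv_mem hb₂'))
  rw [lhs, rhs]

theorem comm_comm (A B : Subgroup G) [IsMulCommutative A] [IsMulCommutative B]
    (hAB : ∀ g : G, ∃ a ∈ A, ∃ b ∈ B, g = a * b) {a a₁ b b₁ : G} (ha : a ∈ A) (ha₁ : a₁ ∈ A)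
    (hb : b ∈ B) (hb₁ : b₁ ∈ B) : ⁅a₁, b₁⁆ * ⁅a, b⁆ = ⁅a, b⁆ * ⁅a₁, b₁⁆ := by
  have h := key A B hAB ha (A.inv_mem ha₁) hb (B.inv_mem hb₁)
  -- (a₁⁻¹ b₁⁻¹) x (a₁⁻¹ b₁⁻¹)⁻¹ = (b₁⁻¹ a₁⁻¹) x (b₁⁻¹ a₁⁻¹)⁻¹
  have h' : ⁅a₁, b₁⁆ * ⁅a, b⁆ * ⁅a₁, b₁⁆⁻¹ = ⁅a, b⁆ := by
    have e : ⁅a₁, b₁⁆ = (b₁⁻¹ * a₁⁻¹)⁻¹ * (a₁⁻¹ * b₁⁻¹) := by
      rw [commutatorElement_def]; group
    calc ⁅a₁, b₁⁆ * ⁅a, b⁆ * ⁅a₁, b₁⁆⁻¹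
        = (b₁⁻¹ * a₁⁻¹)⁻¹ * ((a₁⁻¹ * b₁⁻¹) * ⁅a, b⁆ * (a₁⁻¹ * b₁⁻¹)⁻¹) * (b₁⁻¹ * a₁⁻¹) := by
          rw [e]; group
      _ = (b₁⁻¹ * a₁⁻¹)⁻¹ * ((b₁⁻¹ * a₁⁻¹) * ⁅a, b⁆ * (b₁⁻¹ * a₁⁻¹)⁻¹) * (b₁⁻¹ * a₁⁻¹) := by rw [h]
      _ = ⁅a, b⁆ := by group
  calc ⁅a₁, b₁⁆ * ⁅a, b⁆ = (⁅a₁, b₁⁆ * ⁅a, b⁆ * ⁅a₁, b₁⁆⁻¹) * ⁅a₁, b₁⁆ := by group
    _ = ⁅a, b⁆ * ⁅a₁, b₁⁆ := by rw [h']

theorem result {G : Type*} [Group G] (A B : Subgroup G) [IsMulCommutative A] [IsMulCommutative B] (hAB : ∀ g : G, ∃ a ∈ A, ∃ b ∈ B, g = a * b) : derivedSeries G 2 = ⊥ := by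
  -- N = [A, B] is commutative
  have hNcomm : IsMulCommutative (⁅A, B⁆ : Subgroup G) := by
    apply Subgroup.isMulCommutative_closure
    rintro x ⟨a, ha, b, hb, rfl⟩ y ⟨a₁, ha₁, b₁, hb₁, rfl⟩
    exact comm_comm A B hAB ha₁ ha hb₁ hb
  -- N is normal
  have hsup : A ⊔ B = ⊤ := by
    rw [eq_top_iff]
    intro g _
    obtain ⟨a, ha, b, hb, rfl⟩ := hAB g
    exact Subgroup.mul_mem _ ((le_sup_left : A ≤ A ⊔ B) ha) ((le_sup_right : B ≤ A ⊔ B) hb)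
  have hNn : (⁅A, B⁆ : Subgroup G).Normal := by
    rw [← Subgroup.normalizer_eq_top_iff, eq_top_iff, ← hsup]
    exact sup_le (Subgroup.normalizer_commutator_ge_left A B)
      (Subgroup.normalizer_commutator_ge_right A B)
  -- G' ≤ N
  have hG' : commutator G ≤ ⁅A, B⁆ := by
    rw [commutator_def, Subgroup.commutator_le]
    intro g _ h _
    let f : G →* G ⧸ (⁅A, B⁆ : Subgroup G) := QuotientGroup.mk' _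
    have hker : ∀ x : G, f x = 1 ↔ x ∈ (⁅A, B⁆ : Subgroup G) := fun x => QuotientGroup.eq_one_iff x
    rw [← hker, map_commutatorElement, commutatorElement_eq_one_iff_commute]
    obtain ⟨a, ha, b, hb, rfl⟩ := hAB g
    obtain ⟨a', ha', b', hb', rfl⟩ := hAB h
    have cAB : ∀ x ∈ A, ∀ y ∈ B, Commute (f x) (f y) := by
      intro x hx y hy
      rw [← commutatorElement_eq_one_iff_commute, ← map_commutatorElement, hker]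
      exact Subgroup.commutator_mem_commutator hx hy
    have cAA : ∀ x ∈ A, ∀ y ∈ A, Commute (f x) (f y) := by
      intro x hx y hy
      show f x * f y = f y * f x
      rw [← map_mul, ← map_mul, comm_of_mem hx hy]
    have cBB : ∀ x ∈ B, ∀ y ∈ B, Commute (f x) (f y) := by
      intro x hx y hy
      show f x * f y = f y * f x
      rw [← map_mul, ← map_mul, comm_of_mem hx hy]
    rw [map_mul, map_mul]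
    apply Commute.mul_left
    · exact Commute.mul_right (cAA a ha a' ha') (cAB a ha b' hb')
    · exact Commute.mul_right (cAB a' ha' b hb).symm (cBB b hb b' hb')
  show ⁅derivedSeries G 1, derivedSeries G 1⁆ = ⊥
  rw [derivedSeries_one, eq_bot_iff]
  calc ⁅commutator G, commutator G⁆ ≤ ⁅(⁅A, B⁆ : Subgroup G), ⁅A, B⁆⁆ := Subgroup.commutator_mono hG' hG'
    _ = ⊥ := by
      rw [Subgroup.commutator_eq_bot_iff_le_centralizer]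
      exact Subgroup.le_centralizer_iff_isMulCommutative.mpr hNcomm

end Cfsg.Agent.S0572
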