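import Mathlib
import Cfsg.Statements.S4456
import Cfsg.Agent.Lib.Helper24.CoprimeExt
import Cfsg.Agent.Lib.Helper24.OrbitSum
import Cfsg.Agent.Lib.Helper24.CharConj
import Cfsg.Agent.Lib.Helper24.CharAbelian
import Cfsg.Agent.Lib.Helper24.CharComplete

set_option autoImplicit false
set_option linter.style.haveILetI false
open Cfsg

namespace Cfsg.Agent.S4456

open Cfsg.Agent.Helper24 MulAction

/-- If the only normal subgroup of `G` inside `N` containing all `p`-th powers of elements of `N`
is `N` itself, then `p` does not divide `|N : N'|`. -/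
theorem not_dvd_index_commutator {G : Type*} [Group G] [Finite G] (p : ℕ) [hp : Fact p.Prime]
    (N : Subgroup G) [hN : N.Normal]
    (hmin : ∀ M : Subgroup G, M.Normal → M ≤ N → (∀ n ∈ N, n ^ p ∈ M) → M = N) :
    ¬ p ∣ (commutator N).index := by
  intro hdvd
  set S : Set G := {x | ∃ n ∈ N, x = n ^ p} with hS
  have hSN : S ⊆ N := by
    rintro x ⟨n, hn, rfl⟩
    exact N.pow_mem hn p
  have hM : Subgroup.normalClosure S = N :=
    hmin _ Subgroup.normalClosure_normal (Subgroup.normalClosure_le_normal hSN)
      (fun n hn => Subgroup.subset_normalClosure ⟨n, hn, rfl⟩)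
  set R : Subgroup (Abelianization N) :=
    (powMonoidHom p : Abelianization N →* Abelianization N).range with hR
  have key : ∀ g ∈ Subgroup.normalClosure S, ∀ h : g ∈ N,
      Abelianization.of (⟨g, h⟩ : N) ∈ R := by
    intro g hg
    unfold Subgroup.normalClosure at hg
    induction hg using Subgroup.closure_induction with
    | mem x hx =>
      intro h
      obtain ⟨b, hb, hconj⟩ := Group.mem_conjugatesOfSet_iff.mp hx
      obtain ⟨n, hn, rfl⟩ := hb
      obtain ⟨c, hc⟩ := isConj_iff.mp hconj
      have hcn : c * n * c⁻¹ ∈ N := hN.conj_mem n hn c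
      have : (⟨x, h⟩ : N) = (⟨c * n * c⁻¹, hcn⟩ : N) ^ p := by
        apply Subtype.ext
        rw [Subgroup.coe_pow, conj_pow]
        exact hc.symm
      rw [this, map_pow]
      exact ⟨_, rfl⟩
    | one =>
      intro h
      have : (⟨1, h⟩ : N) = 1 := rfl
      rw [this, map_one]
      exact one_mem _
    | mul x y hx hy ihx ihy =>
      intro h
      have hxN : x ∈ N := (Subgroup.normalClosure_le_normal hSN) hx
      have hyN : y ∈ N := (Subgroup.normalClosure_le_normal hSN) hy
      have : (⟨x * y, h⟩ : N) = ⟨x, hxN⟩ * ⟨y, hyN⟩ := rfl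
      rw [this, map_mul]
      exact R.mul_mem (ihx hxN) (ihy hyN)
    | inv x hx ihx =>
      intro h
      have hxN : x ∈ N := (Subgroup.normalClosure_le_normal hSN) hx
      have : (⟨x⁻¹, h⟩ : N) = (⟨x, hxN⟩ : N)⁻¹ := rfl
      rw [this, map_inv]
      exact R.inv_mem (ihx hxN)
  have hsurj : Function.Surjective (powMonoidHom p : Abelianization N →* Abelianization N) := by
    intro a
    obtain ⟨n, rfl⟩ := QuotientGroup.mk_surjective a
    have := key n.1 (by rw [hM]; exact n.2) n.2
    exact this
  have hinj : Function.Injective (powMonoidHom p : Abelianization N →* Abelianization N) :=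
    Finite.injective_iff_surjective.mpr hsurj
  have hcard : p ∣ Nat.card (Abelianization N) := by
    have : Nat.card (Abelianization N) = (commutator N).index :=
      (Subgroup.index_eq_card _).symm
    rw [this]
    exact hdvd
  obtain ⟨a, ha⟩ := exists_prime_orderOf_dvd_card' p hcard
  have h1 : (powMonoidHom p : Abelianization N →* Abelianization N) a =
      (powMonoidHom p : Abelianization N →* Abelianization N) 1 := by
    rw [powMonoidHom_apply, powMonoidHom_apply, one_pow, ← ha, pow_orderOf_eq_one]
  have h2 : a = 1 := hinj h1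
  rw [h2, orderOf_one] at ha
  exact hp.out.one_lt.ne ha

/-- The counting step: if `N ⊴ G` has `p`-power index, `p ∤ |N : N'|` and every nonlinear
irreducible character of `G` has degree divisible by `p`, then `p ∤ |N|`. -/
theorem not_dvd_card {G : Type*} [Group G] [Finite G] (p : ℕ) [hp : Fact p.Prime]
    (hdeg : ∀ χ : Cfsg.IrrCharacter G, Cfsg.charDegree (χ : G → ℂ) ≠ 1 →
      p ∣ Cfsg.charDegree (χ : G → ℂ))
    (N : Subgroup G) [hN : N.Normal] (a : ℕ) (hidx : N.index = p ^ a)
    (hab : ¬ p ∣ (commutator N).index) : ¬ p ∣ Nat.card N := by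
  classical
  letI : Fintype G := Fintype.ofFinite G
  letI : Fintype N := Fintype.ofFinite N
  letI : Fintype (IrrCharacter N) := irrFintype
  letI := irrConjAction N
  have hsmul : ∀ (g : G) (θ : IrrCharacter N), ((g • θ : IrrCharacter N) : N → ℂ) =
      conjFun N g θ.1 := fun g θ => rfl
  have hdeginv : ∀ (g : G) (θ : IrrCharacter N),
      charDegree ((g • θ : IrrCharacter N) : N → ℂ) = charDegree (θ : N → ℂ) := by
    intro g θ
    unfold charDegree
    rw [hsmul, conjFun_apply, map_one]
  -- orbit sizes
  have horb : ∀ θ : IrrCharacter N, θ ∉ fixedPoints G (IrrCharacter N) →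
      p ∣ Nat.card (orbit G θ) := by
    intro θ hθ
    rw [Nat.card_coe_set_eq, ← index_stabilizer]
    have hle : N ≤ stabilizer G θ := by
      intro g hg
      rw [mem_stabilizer_iff]
      apply Subtype.ext
      rw [hsmul]
      exact conjFun_of_mem N (isClassFunction_of_isIrrCharacter θ.2) hg
    have hdvd : (stabilizer G θ).index ∣ p ^ a := by
      rw [← hidx]
      exact Subgroup.index_dvd_of_le hle
    obtain ⟨j, -, hj⟩ := (Nat.dvd_prime_pow hp.out).mp hdvd
    rw [hj]
    rcases Nat.eq_zero_or_pos j with rfl | hjpos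
    · exfalso
      apply hθ
      rw [pow_zero, Subgroup.index_eq_one] at hj
      rw [mem_fixedPoints]
      intro g
      have : g ∈ stabilizer G θ := by rw [hj]; trivial
      exact mem_stabilizer_iff.mp this
    · exact dvd_pow_self p hjpos.ne'
  have h1 := sum_modEq_sum_fixedPoints (H := G) p
    (fun θ : IrrCharacter N => charDegree (θ : N → ℂ) ^ 2)
    (fun g θ => by simp only [hdeginv]) horb
  have h2 := sum_modEq_sum_fixedPoints (H := G) p
    (fun θ : IrrCharacter N => if charDegree (θ : N → ℂ) = 1 then 1 else 0)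
    (fun g θ => by simp only [hdeginv]) horb
  -- on fixed points the two weights agree mod p
  have h3 : ∑ θ ∈ Finset.univ.filter (· ∈ fixedPoints G (IrrCharacter N)),
        charDegree (θ : N → ℂ) ^ 2 ≡
      ∑ θ ∈ Finset.univ.filter (· ∈ fixedPoints G (IrrCharacter N)),
        (if charDegree (θ : N → ℂ) = 1 then 1 else 0) [MOD p] := by
    have : ∀ θ ∈ Finset.univ.filter (· ∈ fixedPoints G (IrrCharacter N)),
        charDegree (θ : N → ℂ) ^ 2 ≡ (if charDegree (θ : N → ℂ) = 1 then 1 else 0) [MOD p] := by
      intro θ hθ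
      rw [Finset.mem_filter] at hθ
      have hfix := hθ.2
      by_cases hpd : p ∣ charDegree (θ : N → ℂ)
      · have hne : charDegree (θ : N → ℂ) ≠ 1 := by
          intro h
          rw [h] at hpd
          exact hp.out.one_lt.ne' (Nat.dvd_one.mp hpd)
        rw [if_neg hne]
        exact (Nat.modEq_zero_iff_dvd.mpr (dvd_pow hpd two_ne_zero))
      · have hinv : ∀ (g : G) (n : N), (θ : N → ℂ) (MulAut.conjNormal g n) = (θ : N → ℂ) n := by
          intro g n
          have := mem_fixedPoints.mp hfix g⁻¹
          have h4 := congrArg (fun ψ : IrrCharacter N => (ψ : N → ℂ) n) this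
          simp only [hsmul, conjFun_apply, inv_inv] at h4
          exact h4
        obtain ⟨χ, hχ, hχN⟩ :=
          exists_irr_extension_of_pgroup_quotient p N a hidx θ.1 θ.2 hinv hpd hab
        have hd1 : charDegree χ = charDegree (θ : N → ℂ) := by
          unfold charDegree
          have := hχN 1
          rw [Subgroup.coe_one] at this
          rw [this]
        have hχ1 : charDegree χ = 1 := by
          by_contra hne
          have := hdeg ⟨χ, hχ⟩ hne
          rw [hd1] at this
          exact hpd this
        rw [hd1] at hχ1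
        rw [if_pos hχ1, hχ1, one_pow]
    exact Nat.ModEq.sum this
  have h4 : ∑ θ : IrrCharacter N, charDegree (θ : N → ℂ) ^ 2 = Nat.card N := sum_charDegree_sq
  have h5 : ∑ θ : IrrCharacter N, (if charDegree (θ : N → ℂ) = 1 then 1 else 0) =
      (commutator N).index := by
    rw [← card_linear_characters', Nat.card_eq_fintype_card, Fintype.card_subtype,
      Finset.sum_boole]
    simp
  have h6 : Nat.card N ≡ (commutator N).index [MOD p] := by
    rw [← h4, ← h5]
    exact h1.trans (h3.trans h2.symm)
  intro hdvd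
  apply hab
  exact (Nat.modEq_zero_iff_dvd.mp (h6.symm.trans (Nat.modEq_zero_iff_dvd.mpr hdvd)))

/-- Let p be a prime and G a finite group such that p divides the degree of every irreducible character of G of degree greater than one. Then G has a normal p-complement: a normal subgroup of order prime to p whose index is a power of p. -/
theorem result {G : Type*} [Group G] [Finite G] (p : ℕ) (hp : p.Prime) (hdeg : ∀ χ : Cfsg.IrrCharacter G, Cfsg.charDegree (χ : G → ℂ) ≠ 1 → p ∣ Cfsg.charDegree (χ : G → ℂ)) : ∃ N : Subgroup G, N.Normal ∧ (Nat.card N).Coprime p ∧ ∃ k : ℕ, N.index = p ^ k := by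
  classical
  haveI : Fact p.Prime := ⟨hp⟩
  let C : Set (Subgroup G) := {N | N.Normal ∧ ∀ g : G, ∃ k : ℕ, g ^ p ^ k ∈ N}
  have hCne : C.Nonempty := ⟨⊤, inferInstance, fun g => ⟨0, trivial⟩⟩
  obtain ⟨N, hNC, hNmin⟩ := (wellFounded_lt (α := Subgroup G)).has_min C hCne
  obtain ⟨hNn, hNp⟩ := hNC
  haveI := hNn
  have hmin : ∀ M : Subgroup G, M.Normal → M ≤ N → (∀ n ∈ N, n ^ p ∈ M) → M = N := by
    intro M hMn hMN hpow
    have hMC : M ∈ C := by
      refine ⟨hMn, fun g => ?_⟩
      obtain ⟨k, hk⟩ := hNp g
      refine ⟨k + 1, ?_⟩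
      rw [pow_succ, pow_mul]
      exact hpow _ hk
    exact eq_of_le_of_not_lt hMN (hNmin M hMC)
  have hPG : IsPGroup p (G ⧸ N) := by
    intro q
    obtain ⟨g, rfl⟩ := QuotientGroup.mk_surjective q
    obtain ⟨k, hk⟩ := hNp g
    exact ⟨k, by rw [← QuotientGroup.mk_pow]; exact (QuotientGroup.eq_one_iff _).mpr hk⟩
  obtain ⟨a, ha⟩ := IsPGroup.iff_card.mp hPG
  have hidx : N.index = p ^ a := by rw [Subgroup.index_eq_card]; exact ha
  have hab := not_dvd_index_commutator p N hmin
  have hcard := not_dvd_card p hdeg N a hidx hab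
  exact ⟨N, hNn, ((Nat.Prime.coprime_iff_not_dvd hp).mpr hcard).symm, a, hidx⟩

end Cfsg.Agent.S4456
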