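import Mathlib
import Cfsg.Statements.S4461
import Cfsg.Agent.Lib.Helper24.BGMain

set_option autoImplicit false
set_option linter.style.haveILetI false
open Cfsg

namespace Cfsg.Agent.S4461

open Cfsg.Agent.Helper24 Cfsg.Agent.Helper24.SylIn Cfsg.Agent.Helper24.BGG Cfsg.Agent.Helper24.BG
open scoped Pointwise

/-- If every Sylow subgroup of the normal subgroup `K` is normal in `G`, then `K ≤ F(G)`. -/
theorem le_fitting_of_sylow_normal {G : Type*} [Group G] [Finite G] (K : Subgroup G) [K.Normal]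
    (h : ∀ r : ℕ, r.Prime → ∀ R : Subgroup G, IsSylIn r K R → R.Normal) :
    K ≤ Cfsg.fittingSubgroup G := by
  apply Cfsg.Agent.Helper7.le_fittingSubgroup
  refine (Group.isNilpotent_of_finite_tfae.out 0 3).mpr ?_
  intro p hp P
  have hn : ((P : Subgroup ↥K).map K.subtype).Normal := h p hp.out _ ⟨P, rfl⟩
  constructor
  intro x hx k
  have h1 : ((k * x * k⁻¹ : ↥K) : G) ∈ (P : Subgroup ↥K).map K.subtype := by
    have := hn.conj_mem (x : G) ⟨x, hx, rfl⟩ (k : G)
    simpa using this
  obtain ⟨y, hy, hyx⟩ := h1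
  have : y = k * x * k⁻¹ := Subtype.ext hyx
  rwa [← this]

/-- Let χ be an irreducible character of the finite group G and K its kernel (the elements where χ takes the value χ(1)). Suppose either that K is not contained in the Fitting subgroup F(G), or that K = F(G) with G/K solvable and K ≠ G. Then there is an irreducible character ψ of G with ψ(1) > χ(1) whose kernel is properly contained in K. -/
theorem result {G : Type*} [Group G] [Finite G] (χ : Cfsg.IrrCharacter G) (K : Subgroup G) [K.Normal] (hK : (∀ g : G, g ∈ K ↔ (χ : G → ℂ) g = (χ : G → ℂ) 1)) (h : ¬ K ≤ Cfsg.fittingSubgroup G ∨ (K = Cfsg.fittingSubgroup G ∧ Group.IsSolvable (G ⧸ K) ∧ K ≠ ⊤)) : ∃ ψ : Cfsg.IrrCharacter G, Cfsg.charDegree (χ : G → ℂ) < Cfsg.charDegree (ψ : G → ℂ) ∧ ∃ L : Subgroup G, (∀ g : G, g ∈ L ↔ (ψ : G → ℂ) g = (ψ : G → ℂ) 1) ∧ L < K := by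
  classical
  letI : Fintype G := Fintype.ofFinite G
  obtain ⟨χ, hχ⟩ := χ
  have hK : ∀ g : G, g ∈ K ↔ χ g = χ 1 := hK
  have hχc := isCharacter_of_isIrrCharacter hχ
  have hχ1 : χ 1 ≠ 0 := by
    obtain ⟨d, hd, hd1⟩ := irr_one_eq hχ
    rw [hd1]
    exact_mod_cast hd.ne'
  suffices hmain : ∃ ψ : G → ℂ, IsIrrCharacter G ψ ∧ charDegree χ < charDegree ψ ∧
      ∃ M : Subgroup G, (∀ g, g ∈ M ↔ ψ g = ψ 1) ∧ M < K by
    obtain ⟨ψ, hψ, hdeg, M, hM, hlt⟩ := hmain
    exact ⟨⟨ψ, hψ⟩, hdeg, M, hM, hlt⟩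
  rcases h with h | ⟨hKF, hsolv, hKtop⟩
  · -- `K` is not nilpotent: some Sylow subgroup of `K` is not normal in `G`
    obtain ⟨r, hr, R, hsyl, hnn⟩ : ∃ r : ℕ, r.Prime ∧ ∃ R : Subgroup G, IsSylIn r K R ∧
        ¬ R.Normal := by
      by_contra hcon
      push Not at hcon
      exact h (le_fitting_of_sylow_normal K hcon)
    haveI : Fact r.Prime := ⟨hr⟩
    have d : Data r K K R := ⟨le_rfl, hsyl, ⟨0, by rw [Subgroup.relIndex_self, pow_zero]⟩⟩
    refine main_of_data hχ K K R r d hK ?_
    intro C _ _ hRC hvan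
    apply hnn
    have : R ⊓ C = R := by
      rw [inf_eq_left]
      intro x hx
      refine hvan x (Subgroup.le_normalizer hx) ?_
      rw [(hK x).mp (hsyl.le hx)]
      exact hχ1
    rwa [this] at hRC
  · -- `K = F(G)`, `G/K` solvable and nontrivial
    haveI : Group.IsSolvable (G ⧸ K) := hsolv
    haveI : Nontrivial (G ⧸ K) := by
      obtain ⟨g, hg⟩ : ∃ g : G, g ∉ K := by
        by_contra hcon
        push Not at hcon
        exact hKtop (eq_top_iff.mpr fun g _ => hcon g)
      refine ⟨⟨(QuotientGroup.mk g : G ⧸ K), 1, fun hcon => hg ?_⟩⟩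
      exact (QuotientGroup.eq_one_iff g).mp hcon
    obtain ⟨r, hr, Pbar, hPn, hPne, hPp⟩ :=
      Cfsg.Agent.Helper1.exists_normal_pSubgroup_of_solvable (G ⧸ K)
    haveI : Fact r.Prime := ⟨hr⟩
    set L : Subgroup G := Pbar.comap (QuotientGroup.mk' K) with hL
    haveI : L.Normal := hPn.comap _
    have hKL : K ≤ L := by
      intro x hx
      rw [hL, Subgroup.mem_comap]
      have : (QuotientGroup.mk' K) x = 1 := (QuotientGroup.eq_one_iff x).mpr hx
      rw [this]
      exact Pbar.one_mem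
    have hidx : ∃ a : ℕ, K.relIndex L = r ^ a := by
      obtain ⟨a, ha⟩ := IsPGroup.iff_card.mp hPp
      refine ⟨a, ?_⟩
      have h1 : K.relIndex L = (QuotientGroup.mk' K).ker.relIndex L := by
        rw [QuotientGroup.ker_mk']
      rw [h1, Subgroup.relIndex_ker, hL,
        Subgroup.map_comap_eq_self_of_surjective (QuotientGroup.mk'_surjective K), ha]
    obtain ⟨R, hsyl⟩ := exists_isSylIn r L
    have d : Data r K L R := ⟨hKL, hsyl, hidx⟩
    refine main_of_data hχ K L R r d hK ?_
    intro C hCn hCle hRC hvan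
    haveI := hCn
    -- `R ⊓ C` is a normal `r`-subgroup, hence in `F(G) = K`
    have hRCK : R ⊓ C ≤ K := by
      rw [hKF]
      haveI := hRC
      apply Cfsg.Agent.Helper7.le_fittingSubgroup
      exact (hsyl.isPGroup.to_le inf_le_left).isNilpotent
    have hCL : C ⊓ L ≤ K := by
      haveI : (C ⊓ L).Normal := Subgroup.normal_inf_normal C L
      apply d.le_of_inf_le inf_le_right
      intro x hx
      exact hRCK ⟨hx.1, hx.2.1⟩
    -- `χ` vanishes on `L` off `K`
    have hV : ∀ l ∈ L, l ∉ K → χ l = 0 := by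
      intro l hl hlK
      have hmem : l ∈ (R : Set G) * (K : Set G) := by
        rw [← Subgroup.mul_normal R K, sup_comm]
        exact d.le_sup hl
      obtain ⟨x, hx, k, hk, rfl⟩ := hmem
      have hx : x ∈ R := hx
      have hk : k ∈ K := hk
      have hkk : k ∈ charKer hχc := (mem_charKer hχc k).mpr ((hK k).mp hk)
      rw [char_mul_of_mem_charKer hχc hkk x]
      by_contra hne
      have hxC := hvan x (Subgroup.le_normalizer hx) hne
      have hxK : x ∈ K := hCL ⟨hxC, hsyl.le hx⟩
      exact hlK (K.mul_mem hxK hk)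
    -- hence `L ≤ K`
    have hLK : L ≤ K := by
      by_contra hcon
      obtain ⟨x, hxL, hxK⟩ := SetLike.not_le_iff_exists.mp hcon
      have h0 := sum_char_coset_eq_zero L hχ ⟨x, hxL, fun hx => hxK ((hK x).mpr hx)⟩ 1
      simp only [one_mul] at h0
      have h1 : ∑ m : L, χ (m : G) =
          ∑ m : L, if (m : G) ∈ K then χ 1 else 0 := by
        refine Finset.sum_congr rfl fun m _ => ?_
        by_cases hm : (m : G) ∈ K
        · rw [if_pos hm, (hK m).mp hm]
        · rw [if_neg hm, hV m m.2 hm]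
      rw [h1, Finset.sum_ite, Finset.sum_const_zero, add_zero, Finset.sum_const,
        nsmul_eq_mul] at h0
      rcases mul_eq_zero.mp h0 with h2 | h2
      · have : (1 : L) ∈ Finset.filter (fun m : L => (m : G) ∈ K) Finset.univ := by
          simp [K.one_mem]
        have hpos : 0 < (Finset.filter (fun m : L => (m : G) ∈ K) Finset.univ).card :=
          Finset.card_pos.mpr ⟨1, this⟩
        have : ((Finset.filter (fun m : L => (m : G) ∈ K) Finset.univ).card : ℂ) ≠ 0 := by
          exact_mod_cast hpos.ne'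
        exact this h2
      · exact hχ1 h2
    apply hPne
    rw [eq_bot_iff]
    intro y hy
    obtain ⟨g, rfl⟩ := QuotientGroup.mk'_surjective K y
    have hgL : g ∈ L := by
      rw [hL, Subgroup.mem_comap]
      exact hy
    rw [Subgroup.mem_bot]
    exact (QuotientGroup.eq_one_iff g).mpr (hLK hgL)

end Cfsg.Agent.S4461
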