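import Mathlib
import Cfsg.Statements.S3028
import Cfsg.Agent.Lib.Helper15.SubSyl5
import Cfsg.Agent.Lib.Helper3.Supersolvable2

set_option autoImplicit false
open Cfsg

namespace Cfsg.Agent.S3028

open Cfsg.Agent.Helper15 Cfsg.Agent.Helper15.SubSyl

universe u

theorem wj_aux (p : ℕ) [Fact p.Prime] : ∀ (n : ℕ) (G : Type u) [Group G] [Finite G],
    Nat.card G = n → WJ p G := by
  intro n
  induction n using Nat.strong_induction_on with
  | _ n ih =>
  intro G _ _ hcard S
  have hProper : ProperOK p S := by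
    intro H hH hHtop X Y hX hY hXH hYH
    have hWJ : WJ p ↥H := ih _ (by
      rw [← hcard]; exact Cfsg.Agent.Helper3.card_lt_of_lt_top hHtop.lt_top) ↥H rfl
    exact wj_restrict S H hH hWJ hX hY hXH hYH
  have hQuot : ∀ N : Subgroup G, ∀ _ : N.Normal, N ≠ ⊥ → WJ p (G ⧸ N) := by
    intro N hN hNbot
    refine ih _ ?_ (G ⧸ N) rfl
    rw [← hcard]
    apply Cfsg.Agent.Helper3.card_quotient_lt
    have h0 := Nat.card_pos (α := N)
    have h1 : Nat.card N ≠ 1 := fun h => hNbot (Subgroup.card_eq_one.mp h)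
    omega
  have hlt : ∀ X : Subgroup G, pRes p X ≠ X → Nat.card ↥(pRes p X) < Nat.card ↥X := by
    intro X hX
    by_contra hcon
    push Not at hcon
    exact hX (Subgroup.eq_of_le_of_card_ge (pRes_le p X) hcon)
  have key : ∀ m : ℕ, ∀ A B : Subgroup G, Nat.card A + Nat.card B = m → A.IsSubnormal →
      B.IsSubnormal → A ⊔ B = ⊤ →
      (S : Subgroup G) ≤ (A ⊓ (S : Subgroup G)) ⊔ (B ⊓ (S : Subgroup G)) := by
    intro m
    induction m using Nat.strong_induction_on with
    | _ m ihm =>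
    intro A B hm hA hB hAB
    by_cases hAn : A.Normal
    · have := inf_sylow_le_of_normal S A B (isSylowIn_inf_of_isSubnormal S hB)
      rwa [hAB, top_inf_eq] at this
    by_cases hBn : B.Normal
    · have := inf_sylow_le_of_normal S B A (isSylowIn_inf_of_isSubnormal S hA)
      rw [sup_comm, hAB, top_inf_eq] at this
      rwa [sup_comm]
    by_cases hB0 : pRes p B = B
    · by_cases hA0 : pRes p A = A
      · exact step3 S hProper hQuot A B hA hB hAB hAn hBn hA0 hB0
      · have h := step2 S hProper B A hB hA (by rw [sup_comm]; exact hAB) hBn (fun htop =>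
          ihm _ (by have := hlt A hA0; omega) B (pRes p A) rfl hB (pRes_isSubnormal p hA) htop)
        rwa [sup_comm]
    · exact step2 S hProper A B hA hB hAB hAn (fun htop =>
        ihm _ (by have := hlt B hB0; omega) A (pRes p B) rfl hA (pRes_isSubnormal p hB) htop)
  intro A B hA hB
  by_cases hAB : A ⊔ B = ⊤
  · rw [hAB, top_inf_eq]
    exact key _ A B rfl hA hB hAB
  · exact hProper (A ⊔ B) (Cfsg.Agent.Helper3.isSubnormal_sup hA hB) hAB A B hA hB
      le_sup_left le_sup_right

/-- Let G be a finite group, p a prime, S a Sylow p-subgroup of G and A₁, A₂ subnormal subgroups of G. Then the join of S ∩ A₁ and S ∩ A₂ is a Sylow p-subgroup of the join of A₁ and A₂; equivalently ⟨A₁, A₂⟩ ∩ S = ⟨A₁ ∩ S, A₂ ∩ S⟩. -/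
theorem result {G : Type*} [Group G] [Finite G] {p : ℕ} [Fact p.Prime] (S : Sylow p G) (A₁ A₂ : Subgroup G)
    (h₁ : A₁.IsSubnormal) (h₂ : A₂.IsSubnormal) :
    (A₁ ⊔ A₂) ⊓ (S : Subgroup G) = (A₁ ⊓ (S : Subgroup G)) ⊔ (A₂ ⊓ (S : Subgroup G)) := by
  apply le_antisymm
  · exact wj_aux p _ G rfl S A₁ A₂ h₁ h₂
  · exact sup_le (inf_le_inf_right _ le_sup_left) (inf_le_inf_right _ le_sup_right)

end Cfsg.Agent.S3028
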