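import Mathlib
import Cfsg.Statements.S0877
import Cfsg.Agent.Lib.Helper5.BrauerSuzuki

set_option autoImplicit false
open Cfsg

namespace Cfsg.Agent.S0877

open Cfsg.Agent.Helper18 in
/-- A cyclic subgroup is elementary for any prime exceeding the group order. -/
theorem isElementary_zpowers {G : Type*} [Group G] [Finite G] (u : G) (p : ℕ) (hp : p.Prime)
    (hpG : Nat.card G < p) : Cfsg.IsElementary p (Subgroup.zpowers u) := by
  refine ⟨⟨u, Subgroup.mem_zpowers u⟩, ?_, ?_, 0, ?_⟩
  · rw [Subgroup.mem_center_iff]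
    intro g
    obtain ⟨g, hg⟩ := g
    obtain ⟨k, rfl⟩ := Subgroup.mem_zpowers_iff.1 hg
    apply Subtype.ext
    show u ^ k * u = u * u ^ k
    rw [← zpow_add_one, ← zpow_one_add, add_comm]
  · have h1 : orderOf (⟨u, Subgroup.mem_zpowers u⟩ : Subgroup.zpowers u) = orderOf u :=
      (Subgroup.orderOf_coe (⟨u, Subgroup.mem_zpowers u⟩ : Subgroup.zpowers u)).symm
    rw [h1, Nat.coprime_comm, Nat.Prime.coprime_iff_not_dvd hp]
    intro hdvd
    have h2 : orderOf u ≤ Nat.card G := Nat.le_of_dvd Nat.card_pos (orderOf_dvd_natCard u)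
    have h3 : p ≤ orderOf u := Nat.le_of_dvd (orderOf_pos u) hdvd
    omega
  · have h1 : Subgroup.zpowers (⟨u, Subgroup.mem_zpowers u⟩ : Subgroup.zpowers u) = ⊤ :=
      (zpowers_coe_eq_top_iff (Subgroup.zpowers u) ⟨u, Subgroup.mem_zpowers u⟩).1 rfl
    rw [h1, Subgroup.index_top, pow_zero]

/-- Let H be a subgroup of the finite group G whose order is coprime to its index. Suppose that elements of H conjugate in G are conjugate in H, and that every subgroup E of G that is elementary for some prime (in the sense used for Brauer's characterisation of characters) and whose order divides the order of H is conjugate to a subgroup of H. Then there is a normal subgroup K with K ⊔ H = ⊤ and K ⊓ H trivial. -/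
theorem result {G : Type*} [Group G] [Finite G] (H : Subgroup G) (hHall : Nat.Coprime (Nat.card H) H.index) (hfus : ∀ x ∈ H, ∀ y ∈ H, IsConj x y → ∃ h ∈ H, h * x * h⁻¹ = y) (helem : ∀ (E : Subgroup G) (p : ℕ), p.Prime → Cfsg.IsElementary p E → Nat.card E ∣ Nat.card H → ∃ g : G, E.map (MulAut.conj g).toMonoidHom ≤ H) : ∃ K : Subgroup G, K.Normal ∧ K ⊔ H = ⊤ ∧ K ⊓ H = ⊥ := by
  classical
  letI : Fintype G := Fintype.ofFinite G
  letI : Fintype H := Fintype.ofFinite H
  have hmn : Nat.card H * H.index = Nat.card G := H.card_mul_index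
  let s : ℕ := (Nat.chineseRemainder hHall 1 0 : ℕ)
  have hs1 : s ≡ 1 [MOD Nat.card H] := (Nat.chineseRemainder hHall 1 0).2.1
  have hs0 : s ≡ 0 [MOD H.index] := (Nat.chineseRemainder hHall 1 0).2.2
  obtain ⟨k, hk⟩ : H.index ∣ s := (Nat.modEq_zero_iff_dvd).1 hs0
  have hm : ∀ g : G, (g ^ s) ^ Nat.card H = 1 := by
    intro g
    rw [← pow_mul, hk]
    have : H.index * k * Nat.card H = Nat.card G * k := by
      rw [← hmn]
      ring
    rw [this, pow_mul, pow_card_eq_one', one_pow]
  have hfix : ∀ u : G, u ^ Nat.card H = 1 → u ^ s = u := by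
    intro u hu
    have h1 : orderOf u ∣ Nat.card H := orderOf_dvd_of_pow_eq_one hu
    have h2 : s ≡ 1 [MOD orderOf u] := Nat.ModEq.of_dvd h1 hs1
    have h3 := (pow_eq_pow_iff_modEq (x := u)).2 h2
    rw [h3, pow_one]
  have hker : ∀ g : G, g ^ H.index = 1 → g ^ s = 1 := by
    intro g hg
    rw [hk, pow_mul, hg, one_pow]
  have hconj : ∀ u : G, u ^ Nat.card H = 1 → ∃ c : G, c * u * c⁻¹ ∈ H := by
    intro u hu
    obtain ⟨p, hpG, hp⟩ := Nat.exists_infinite_primes (Nat.card G + 1)
    have hE := isElementary_zpowers u p hp (by omega)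
    have hcard : Nat.card (Subgroup.zpowers u) ∣ Nat.card H := by
      rw [Nat.card_zpowers]
      exact orderOf_dvd_of_pow_eq_one hu
    obtain ⟨c, hc⟩ := helem (Subgroup.zpowers u) p hp hE hcard
    refine ⟨c, hc ?_⟩
    exact ⟨u, Subgroup.mem_zpowers u, rfl⟩
  exact Cfsg.Agent.Helper5.BS.Hyp.exists_complement
    { s := s, hm := hm, hfix := hfix, hker := hker, hconj := hconj, hfus := hfus,
      hcop := hHall, helem := helem }

end Cfsg.Agent.S0877
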