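import Mathlib
import Cfsg.Statements.S4116
import Cfsg.Agent.Lib.Helper20.ConjUnion

set_option autoImplicit false
open Cfsg

namespace Cfsg.Agent.S4116

variable {G : Type*} [Group G]

/-- the conjugate subgroup `g H g⁻¹` -/
abbrev cj (g : G) (H : Subgroup G) : Subgroup G := H.map (MulAut.conj g).toMonoidHom

theorem mem_cj (g : G) (H : Subgroup G) (x : G) : x ∈ cj g H ↔ g⁻¹ * x * g ∈ H := by
  constructor
  · rintro ⟨y, hy, rfl⟩
    simp only [MulEquiv.coe_toMonoidHom, MulAut.conj_apply]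
    have : g⁻¹ * (g * y * g⁻¹) * g = y := by group
    rw [this]; exact hy
  · intro h
    refine ⟨g⁻¹ * x * g, h, ?_⟩
    simp only [MulEquiv.coe_toMonoidHom, MulAut.conj_apply]
    group

section

variable (H : Subgroup G) (hTI : Cfsg.IsTISubset (H : Set G))

include hTI in
/-- the TI property, transported to a conjugate -/
theorem ti_conj (a c x : G) (hx : x ∈ cj a H) (hcx : c * x * c⁻¹ ∈ cj a H) (hx1 : x ≠ 1) :
    a⁻¹ * c * a ∈ Subgroup.normalizer (H : Set G) := by
  by_contra hcon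
  rw [mem_cj] at hx hcx
  have := hTI (a⁻¹ * c * a) hcon (a⁻¹ * x * a) hx (by
    have : a⁻¹ * c * a * (a⁻¹ * x * a) * (a⁻¹ * c * a)⁻¹ = a⁻¹ * (c * x * c⁻¹) * a := by group
    rw [this]; exact hcx)
  apply hx1
  have h2 : x = a * (a⁻¹ * x * a) * a⁻¹ := by group
  rw [h2, this]; group

include hTI in
/-- two conjugates sharing a non-identity element coincide -/
theorem cj_eq_of_mem (u v z : G) (hz1 : z ≠ 1) (hu : z ∈ cj u H) (hv : z ∈ cj v H) :
    ∀ y : G, y ∈ cj v H ↔ y ∈ cj u H := by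
  have hw : (u * v⁻¹) * z * (u * v⁻¹)⁻¹ ∈ cj u H := by
    rw [mem_cj] at hv ⊢
    have : u⁻¹ * (u * v⁻¹ * z * (u * v⁻¹)⁻¹) * u = v⁻¹ * z * v := by group
    rw [this]; exact hv
  have hn := ti_conj H hTI u (u * v⁻¹) z hu hw hz1
  have hn' : v⁻¹ * u ∈ Subgroup.normalizer (H : Set G) := by
    have : u⁻¹ * (u * v⁻¹) * u = v⁻¹ * u := by group
    rwa [this] at hn
  intro y
  rw [mem_cj, mem_cj]
  have := (Subgroup.mem_normalizer_iff.1 hn' (u⁻¹ * y * u))
  have e : v⁻¹ * u * (u⁻¹ * y * u) * (v⁻¹ * u)⁻¹ = v⁻¹ * y * v := by group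
  rw [e] at this
  exact this.symm

end

section finite

variable [Finite G] (H : Subgroup G) (hHall : (Nat.card H).Coprime H.index)

include hHall in
/-- an element normalising `H` whose order involves only primes dividing `#H` lies in `H` -/
theorem mem_of_mem_normalizer (c : G) (hc : c ∈ Subgroup.normalizer (H : Set G))
    (hcπ : ∀ q : ℕ, q.Prime → q ∣ orderOf c → q ∣ Nat.card H) : c ∈ H := by
  set N := Subgroup.normalizer (H : Set G) with hN
  have hle : H ≤ N := Subgroup.le_normalizer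
  haveI : (H.subgroupOf N).Normal := Subgroup.normal_in_normalizer
  set c' : N := ⟨c, hc⟩ with hc'
  set cb : N ⧸ H.subgroupOf N := QuotientGroup.mk c' with hcb
  have h1 : orderOf cb ∣ orderOf c := by
    have h := orderOf_map_dvd (QuotientGroup.mk' (H.subgroupOf N)) c'
    have h2 : orderOf c' = orderOf c := by
      rw [← Subgroup.orderOf_coe c']
    rw [h2] at h
    exact h
  have h2 : orderOf cb ∣ H.index := by
    have : orderOf cb ∣ Nat.card (N ⧸ H.subgroupOf N) := orderOf_dvd_natCard cb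
    rw [← Subgroup.index_eq_card] at this
    exact this.trans (Subgroup.relIndex_dvd_index_of_le hle)
  have h3 : orderOf cb = 1 := by
    by_contra hne
    obtain ⟨q, hq, hqd⟩ := Nat.exists_prime_and_dvd hne
    have hqH : q ∣ Nat.card H := hcπ q hq (hqd.trans h1)
    have hqI : q ∣ H.index := hqd.trans h2
    have := Nat.dvd_gcd hqH hqI
    rw [hHall] at this
    exact hq.one_lt.ne' (Nat.dvd_one.1 this)
  rw [orderOf_eq_one_iff, hcb, QuotientGroup.eq_one_iff] at h3
  exact h3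

include hHall in
/-- a `q`-subgroup, `q` dividing `#H`, lies in a conjugate of `H` -/
theorem exists_le_cj_of_isPGroup (q : ℕ) [Fact q.Prime] (hq : q ∣ Nat.card H)
    (R : Subgroup G) (hR : IsPGroup q R) : ∃ a : G, R ≤ cj a H := by
  have hnd : ¬ q ∣ Nat.card (G ⧸ H) := by
    rw [← Subgroup.index_eq_card]
    intro h
    have := Nat.dvd_gcd hq h
    rw [hHall] at this
    exact (Fact.out : q.Prime).one_lt.ne' (Nat.dvd_one.1 this)
  obtain ⟨x, hx⟩ := hR.nonempty_fixed_point_of_prime_not_dvd_card (G ⧸ H) hnd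
  obtain ⟨a, rfl⟩ := QuotientGroup.mk_surjective x
  refine ⟨a, ?_⟩
  intro r hr
  rw [mem_cj]
  have := hx ⟨r, hr⟩
  have h2 : ((r * a : G) : G ⧸ H) = (a : G ⧸ H) := this
  rw [QuotientGroup.eq] at h2
  have e : (r * a)⁻¹ * a = (a⁻¹ * r * a)⁻¹ := by group
  rw [e] at h2
  exact (Subgroup.inv_mem_iff H).1 h2

include hHall in
/-- a non-identity element whose order involves only primes dividing `#H` lies in a conjugate -/
theorem exists_mem_cj (hTI : Cfsg.IsTISubset (H : Set G)) (x : G) (hx1 : x ≠ 1)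
    (hxπ : ∀ q : ℕ, q.Prime → q ∣ orderOf x → q ∣ Nat.card H) : ∃ a : G, x ∈ cj a H := by
  have ho : orderOf x ≠ 1 := by rwa [Ne, orderOf_eq_one_iff]
  obtain ⟨q, hq, hqd⟩ := Nat.exists_prime_and_dvd ho
  haveI : Fact q.Prime := ⟨hq⟩
  set y := x ^ (orderOf x / q) with hy
  have hyo : orderOf y = q := orderOf_pow_orderOf_div (orderOf_pos x).ne' hqd
  have hy1 : y ≠ 1 := by
    intro h
    rw [h, orderOf_one] at hyo
    exact hq.one_lt.ne hyo
  obtain ⟨a, ha⟩ := exists_le_cj_of_isPGroup H hHall q (hxπ q hq hqd) (Subgroup.zpowers y)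
    (IsPGroup.of_card (n := 1) (by rw [Nat.card_zpowers, hyo, pow_one]))
  have hya : y ∈ cj a H := ha (Subgroup.mem_zpowers y)
  have hxy : x * y * x⁻¹ = y := by
    rw [hy, ← pow_succ', pow_succ, mul_inv_cancel_right]
  have hn := ti_conj H hTI a x y hya (by rw [hxy]; exact hya) hy1
  have hord : orderOf (a⁻¹ * x * a) = orderOf x := by
    have := (MulAut.conj a⁻¹).orderOf_eq x
    simpa [MulAut.conj_apply] using this
  have := mem_of_mem_normalizer H hHall (a⁻¹ * x * a) hn (by rw [hord]; exact hxπ)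
  exact ⟨a, (mem_cj a H x).2 this⟩

/-- the set of `K`-conjugates of the non-identity elements of `K ⊓ cj a H` -/
def conjSet (K : Subgroup G) (a : G) : Set G :=
  {z : G | ∃ k ∈ K, ∃ d ∈ K, d ∈ cj a H ∧ d ≠ 1 ∧ z = k * d * k⁻¹}

theorem conjSet_subset (K : Subgroup G) (a : G) : conjSet H K a ⊆ (K : Set G) \ {1} := by
  rintro z ⟨k, hk, d, hd, -, hd1, rfl⟩
  refine ⟨K.mul_mem (K.mul_mem hk hd) (K.inv_mem hk), ?_⟩
  rw [Set.mem_singleton_iff]
  intro h
  apply hd1
  have : d = k⁻¹ * (k * d * k⁻¹) * k := by group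
  rw [this, h]; group

include hHall in
theorem card_le_two_mul_conjSet (hTI : Cfsg.IsTISubset (H : Set G)) (K : Subgroup G)
    (hKπ : ∀ x ∈ K, ∀ q : ℕ, q.Prime → q ∣ orderOf x → q ∣ Nat.card H)
    (a : G) (x : G) (hxK : x ∈ K) (hxa : x ∈ cj a H) (hx1 : x ≠ 1) :
    Nat.card K ≤ 2 * (conjSet H K a).ncard := by
  classical
  set D : Subgroup G := K ⊓ cj a H with hD
  set A : Set G := (D : Set G) \ {1} with hA
  set S : Set G := conjSet H K a with hS
  -- representatives
  have hrep : ∀ z : S, ∃ kd : G × G, kd.1 ∈ K ∧ kd.2 ∈ K ∧ kd.2 ∈ cj a H ∧ kd.2 ≠ 1 ∧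
      (z : G) = kd.1 * kd.2 * kd.1⁻¹ := by
    rintro ⟨z, k, hk, d, hd, hda, hd1, rfl⟩
    exact ⟨(k, d), hk, hd, hda, hd1, rfl⟩
  choose rep hrep1 hrep2 hrep3 hrep4 hrep5 using hrep
  -- key: same image implies quotient of the conjugators lies in D
  have key : ∀ k ∈ K, ∀ d ∈ K, d ∈ cj a H → d ≠ 1 → ∀ k' ∈ K, ∀ d' ∈ K, d' ∈ cj a H →
      k * d * k⁻¹ = k' * d' * k'⁻¹ → k'⁻¹ * k ∈ D := by
    intro k hk d hd hda hd1 k' hk' d' hd' hda' heq
    have hcK : k'⁻¹ * k ∈ K := K.mul_mem (K.inv_mem hk') hk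
    have hcd : (k'⁻¹ * k) * d * (k'⁻¹ * k)⁻¹ = d' := by
      have : (k'⁻¹ * k) * d * (k'⁻¹ * k)⁻¹ = k'⁻¹ * (k * d * k⁻¹) * k' := by group
      rw [this, heq]; group
    have hn := ti_conj H hTI a (k'⁻¹ * k) d hda (by rw [hcd]; exact hda') hd1
    have hord : orderOf (a⁻¹ * (k'⁻¹ * k) * a) = orderOf (k'⁻¹ * k) := by
      have := (MulAut.conj a⁻¹).orderOf_eq (k'⁻¹ * k)
      simpa [MulAut.conj_apply] using this
    have := mem_of_mem_normalizer H hHall _ hn (by rw [hord]; exact hKπ _ hcK)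
    exact ⟨hcK, (mem_cj a H _).2 this⟩
  -- the injection
  let ψ : K × A → S × D := fun kd =>
    (⟨(kd.1 : G) * (kd.2 : G) * (kd.1 : G)⁻¹, (kd.1 : G), kd.1.2, (kd.2 : G), kd.2.2.1.1,
        kd.2.2.1.2, kd.2.2.2, rfl⟩,
      ⟨(rep ⟨(kd.1 : G) * (kd.2 : G) * (kd.1 : G)⁻¹, (kd.1 : G), kd.1.2, (kd.2 : G), kd.2.2.1.1,
        kd.2.2.1.2, kd.2.2.2, rfl⟩).1⁻¹ * (kd.1 : G), by
        set z : S := ⟨(kd.1 : G) * (kd.2 : G) * (kd.1 : G)⁻¹, (kd.1 : G), kd.1.2, (kd.2 : G),
          kd.2.2.1.1, kd.2.2.1.2, kd.2.2.2, rfl⟩ with hz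
        exact key _ kd.1.2 _ kd.2.2.1.1 kd.2.2.1.2 kd.2.2.2 _ (hrep1 z) _ (hrep2 z) (hrep3 z)
          (hrep5 z)⟩)
  have hψ : Function.Injective ψ := by
    rintro ⟨k, d⟩ ⟨k', d'⟩ h
    have h1 := congrArg (fun t => (t.1 : S)) h
    have h2 := congrArg (fun t => ((t.2 : D) : G)) h
    simp only [ψ] at h1 h2
    have hz : (k : G) * (d : G) * (k : G)⁻¹ = (k' : G) * (d' : G) * (k' : G)⁻¹ :=
      congrArg Subtype.val h1
    rw [h1] at h2
    have hk : (k : G) = (k' : G) := by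
      have := mul_left_cancel h2
      exact this
    have hd : (d : G) = (d' : G) := by
      rw [hk] at hz
      exact mul_left_cancel (mul_right_cancel hz)
    exact Prod.ext (Subtype.ext hk) (Subtype.ext hd)
  have hcard := Nat.card_le_card_of_injective ψ hψ
  rw [Nat.card_prod, Nat.card_prod] at hcard
  have hAcard : Nat.card A = Nat.card D - 1 := by
    rw [Nat.card_coe_set_eq, hA, Set.ncard_diff_singleton_of_mem (by exact D.one_mem),
      ← Nat.card_coe_set_eq]
    rfl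
  have hD2 : 2 ≤ Nat.card D := by
    have : Nontrivial D := ⟨⟨⟨x, hxK, hxa⟩, 1, fun h => hx1 (congrArg Subtype.val h)⟩⟩
    exact Finite.one_lt_card
  rw [hAcard, Nat.card_coe_set_eq S] at hcard
  -- arithmetic
  have h3 : Nat.card K * Nat.card D ≤ 2 * S.ncard * Nat.card D := by
    have : Nat.card D ≤ 2 * (Nat.card D - 1) := by omega
    calc Nat.card K * Nat.card D ≤ Nat.card K * (2 * (Nat.card D - 1)) :=
          Nat.mul_le_mul_left _ this
      _ = 2 * (Nat.card K * (Nat.card D - 1)) := by ring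
      _ ≤ 2 * (S.ncard * Nat.card D) := Nat.mul_le_mul_left _ hcard
      _ = 2 * S.ncard * Nat.card D := by ring
  exact Nat.le_of_mul_le_mul_right h3 (by omega)

end finite

/-- Let G be a finite group with a subgroup H whose order is coprime to its index (a Hall subgroup) and which meets each of its conjugates by elements outside N_G(H) trivially. Then every subgroup of G whose order is divisible only by primes dividing the order of H lies in a conjugate of H. -/
theorem result {G : Type*} [Group G] [Finite G] (H : Subgroup G)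
    (hHall : (Nat.card H).Coprime H.index) (hTI : Cfsg.IsTISubset (H : Set G))
    (K : Subgroup G) (hK : ∀ q : ℕ, q.Prime → q ∣ Nat.card K → q ∣ Nat.card H) :
    ∃ g : G, K ≤ H.map (MulAut.conj g).toMonoidHom := by
  classical
  by_cases hK1 : K = ⊥
  · exact ⟨1, by rw [hK1]; exact bot_le⟩
  have hKπ : ∀ x ∈ K, ∀ q : ℕ, q.Prime → q ∣ orderOf x → q ∣ Nat.card H :=
    fun x hx q hq hqd => hK q hq (hqd.trans (Subgroup.orderOf_dvd_natCard K hx))
  obtain ⟨x, hxK, hx1⟩ := (Subgroup.ne_bot_iff_exists_ne_one).1 hK1 |>.choose_spec |> fun h =>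
    (⟨_, (Subgroup.ne_bot_iff_exists_ne_one.1 hK1).choose.2,
      fun h0 => (Subgroup.ne_bot_iff_exists_ne_one.1 hK1).choose_spec (Subtype.ext h0)⟩ :
      ∃ x : G, x ∈ K ∧ x ≠ 1)
  obtain ⟨a, hxa⟩ := exists_mem_cj H hHall hTI x hx1 (hKπ x hxK)
  by_contra hcon
  push Not at hcon
  -- an element of K not K-conjugate into cj a H
  have hex : ∃ y ∈ K, ∀ k ∈ K, k⁻¹ * y * k ∉ cj a H := by
    by_contra h
    push Not at h
    have htop := Cfsg.Agent.Helper20.eq_top_of_forall_conj_mem ((cj a H).subgroupOf K)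
      (fun y => by
        obtain ⟨k, hk, hky⟩ := h y y.2
        exact ⟨⟨k, hk⟩, by
          rw [Subgroup.mem_subgroupOf]
          simpa using hky⟩)
    exact hcon a (Subgroup.subgroupOf_eq_top.1 htop)
  obtain ⟨y, hyK, hy⟩ := hex
  have hy1 : y ≠ 1 := by
    rintro rfl
    apply hy 1 K.one_mem
    simp only [inv_one, mul_one]
    exact Subgroup.one_mem _
  obtain ⟨b, hyb⟩ := exists_mem_cj H hHall hTI y hy1 (hKπ y hyK)
  have hca := card_le_two_mul_conjSet H hHall hTI K hKπ a x hxK hxa hx1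
  have hcb := card_le_two_mul_conjSet H hHall hTI K hKπ b y hyK hyb hy1
  -- disjointness
  have hdisj : Disjoint (conjSet H K a) (conjSet H K b) := by
    rw [Set.disjoint_left]
    rintro z ⟨k, hk, d, hd, hda, hd1, hz⟩ ⟨k', hk', d', hd', hdb, hd1', hz'⟩
    have hz1 : z ≠ 1 := by
      intro h
      apply hd1
      have : d = k⁻¹ * z * k := by rw [hz]; group
      rw [this, h]; group
    have hzu : z ∈ cj (k * a) H := by
      rw [mem_cj] at hda ⊢
      have : (k * a)⁻¹ * z * (k * a) = a⁻¹ * d * a := by rw [hz]; group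
      rw [this]; exact hda
    have hzv : z ∈ cj (k' * b) H := by
      rw [mem_cj] at hdb ⊢
      have : (k' * b)⁻¹ * z * (k' * b) = b⁻¹ * d' * b := by rw [hz']; group
      rw [this]; exact hdb
    have heq := cj_eq_of_mem H hTI (k * a) (k' * b) z hz1 hzu hzv
    have h1 : k' * y * k'⁻¹ ∈ cj (k' * b) H := by
      rw [mem_cj] at hyb ⊢
      have : (k' * b)⁻¹ * (k' * y * k'⁻¹) * (k' * b) = b⁻¹ * y * b := by group
      rw [this]; exact hyb
    have h2 := (heq _).1 h1
    apply hy (k'⁻¹ * k) (K.mul_mem (K.inv_mem hk') hk)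
    rw [mem_cj] at h2 ⊢
    have : a⁻¹ * ((k'⁻¹ * k)⁻¹ * y * (k'⁻¹ * k)) * a =
        (k * a)⁻¹ * (k' * y * k'⁻¹) * (k * a) := by group
    rw [this]; exact h2
  have hunion : (conjSet H K a ∪ conjSet H K b).ncard ≤ Nat.card K - 1 := by
    have hsub : conjSet H K a ∪ conjSet H K b ⊆ (K : Set G) \ {1} :=
      Set.union_subset (conjSet_subset H K a) (conjSet_subset H K b)
    have := Set.ncard_le_ncard hsub (Set.toFinite _)
    rw [Set.ncard_diff_singleton_of_mem (by exact K.one_mem), ← Nat.card_coe_set_eq] at this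
    exact this
  rw [Set.ncard_union_eq hdisj (Set.toFinite _) (Set.toFinite _)] at hunion
  have hKpos : 0 < Nat.card K := Nat.card_pos
  omega

end Cfsg.Agent.S4116
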