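import Mathlib
import Cfsg.Statements.S4115
import Cfsg.Agent.S0877
import Cfsg.Agent.S4116
import Cfsg.Agent.S0039

set_option autoImplicit false
universe u
open Cfsg
open Pointwise

namespace Cfsg.Agent.S4115

section basics

variable {G : Type u} [Group G] [Finite G] (H : Subgroup G)

/-- an element of the normalizer whose order is coprime to the index of `H` in its normalizer
lies in `H` -/
theorem mem_of_coprime (c : G) (hc : c ∈ Subgroup.normalizer (H : Set G))
    (hco : (orderOf c).Coprime (H.subgroupOf (Subgroup.normalizer (H : Set G))).index) : c ∈ H := by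
  haveI : (H.subgroupOf (Subgroup.normalizer (H : Set G))).Normal := Subgroup.normal_in_normalizer
  have h1 : (⟨c, hc⟩ : Subgroup.normalizer (H : Set G)) ^
      (H.subgroupOf (Subgroup.normalizer (H : Set G))).index ∈
      H.subgroupOf (Subgroup.normalizer (H : Set G)) :=
    Subgroup.pow_index_mem _ _
  have ho : orderOf (⟨c, hc⟩ : Subgroup.normalizer (H : Set G)) = orderOf c :=
    (Subgroup.orderOf_coe (⟨c, hc⟩ : Subgroup.normalizer (H : Set G))).symm
  obtain ⟨m, hm⟩ := exists_pow_eq_self_of_coprime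
    (x := (⟨c, hc⟩ : Subgroup.normalizer (H : Set G)))
    (n := (H.subgroupOf (Subgroup.normalizer (H : Set G))).index) (by rw [ho]; exact hco.symm)
  have h2 : (⟨c, hc⟩ : Subgroup.normalizer (H : Set G)) ∈
      H.subgroupOf (Subgroup.normalizer (H : Set G)) := by
    rw [← hm]; exact Subgroup.pow_mem _ h1 m
  exact h2

variable (hTI : Cfsg.IsTISubset (H : Set G))
  (hHall : (Nat.card H).Coprime (H.subgroupOf (Subgroup.normalizer (H : Set G))).index)

include hTI in
/-- if `g⁻¹ x g ∈ H` for a non-identity `x ∈ H`, then `g` normalizes `H` -/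
theorem mem_normalizer_of_conj (g x : G) (hx : x ∈ H) (hx1 : x ≠ 1) (hg : g⁻¹ * x * g ∈ H) :
    g ∈ Subgroup.normalizer (H : Set G) := by
  by_contra hcon
  have hcon' : g⁻¹ ∉ Subgroup.normalizer (H : Set G) := fun h => hcon (by simpa using inv_mem h)
  have := hTI g⁻¹ hcon' x hx (by simpa using hg)
  exact hx1 this

include hTI hHall in
/-- `H` is a Hall subgroup of `G` -/
theorem hall : (Nat.card H).Coprime H.index := by
  have hle : H ≤ Subgroup.normalizer (H : Set G) := Subgroup.le_normalizer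
  rw [← Subgroup.relIndex_mul_index hle]
  refine Nat.Coprime.mul_right hHall ?_
  apply Nat.coprime_of_dvd
  intro p hp hpH hpN
  haveI : Fact p.Prime := ⟨hp⟩
  obtain ⟨x, hx⟩ := exists_prime_orderOf_dvd_card' (G := H) p hpH
  have hx1 : (x : G) ≠ 1 := by
    intro h
    have : x = 1 := Subtype.ext h
    rw [this, orderOf_one] at hx
    exact hp.one_lt.ne hx
  have hox : orderOf (x : G) = p := by rw [Subgroup.orderOf_coe]; exact hx
  have hP : IsPGroup p (Subgroup.zpowers (x : G)) := by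
    apply IsPGroup.of_card (n := 1)
    rw [Nat.card_zpowers, hox, pow_one]
  have hmod := hP.card_modEq_card_fixedPoints (G ⧸ Subgroup.normalizer (H : Set G))
  have hfix : Nat.card (MulAction.fixedPoints (Subgroup.zpowers (x : G))
      (G ⧸ Subgroup.normalizer (H : Set G))) = 1 := by
    rw [Nat.card_eq_one_iff_unique]
    constructor
    · constructor
      rintro ⟨a, ha⟩ ⟨b, hb⟩
      apply Subtype.ext
      show a = b
      have key : ∀ c : G ⧸ Subgroup.normalizer (H : Set G),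
          c ∈ MulAction.fixedPoints (Subgroup.zpowers (x : G))
            (G ⧸ Subgroup.normalizer (H : Set G)) →
          c = ((1 : G) : G ⧸ Subgroup.normalizer (H : Set G)) := by
        intro c hc
        induction c using QuotientGroup.induction_on with
        | H g =>
          have h1 := hc ⟨(x : G), Subgroup.mem_zpowers _⟩
          have h2 : (((x : G) * g : G) : G ⧸ Subgroup.normalizer (H : Set G)) = (g : G ⧸ _) := h1
          rw [QuotientGroup.eq] at h2
          have h3 : g⁻¹ * (x : G) * g ∈ Subgroup.normalizer (H : Set G) := by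
            have := inv_mem h2
            simpa [mul_assoc] using this
          have ho3 : orderOf (g⁻¹ * (x : G) * g) = p := by
            have e : g⁻¹ * (x : G) * g = MulAut.conj g⁻¹ (x : G) := by simp [MulAut.conj_apply]
            rw [e, MulEquiv.orderOf_eq, hox]
          have h4 : g⁻¹ * (x : G) * g ∈ H := by
            apply mem_of_coprime H _ h3
            rw [ho3]
            exact Nat.Coprime.coprime_dvd_left hpH hHall
          have h5 := mem_normalizer_of_conj H hTI g (x : G) x.2 hx1 h4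
          rw [QuotientGroup.eq]
          simpa using inv_mem h5
      rw [key a ha, key b hb]
    · refine ⟨⟨((1 : G) : G ⧸ Subgroup.normalizer (H : Set G)), ?_⟩⟩
      rintro ⟨y, hy⟩
      show ((y * 1 : G) : G ⧸ Subgroup.normalizer (H : Set G)) = ((1 : G) : G ⧸ _)
      rw [QuotientGroup.eq]
      have hy' : y ∈ H := by
        obtain ⟨k, rfl⟩ := Subgroup.mem_zpowers_iff.1 hy
        exact Subgroup.zpow_mem _ x.2 k
      simpa using inv_mem (hle hy')
  rw [hfix, ← Subgroup.index_eq_card] at hmod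
  have h0 : (Subgroup.normalizer (H : Set G)).index ≡ 0 [MOD p] :=
    (Nat.modEq_zero_iff_dvd).2 hpN
  have := h0.symm.trans hmod
  have h1 : p ∣ 1 := (Nat.modEq_zero_iff_dvd).1 this.symm
  exact hp.one_lt.ne' (Nat.dvd_one.1 h1)

include hTI in
/-- fusion in `H` is controlled by `H` when `H` has a normal complement in its normalizer -/
theorem fusion (K : Subgroup (Subgroup.normalizer (H : Set G))) (hKn : K.Normal)
    (hc : K.IsComplement' (H.subgroupOf (Subgroup.normalizer (H : Set G))))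
    (x : G) (hx : x ∈ H) (y : G) (hy : y ∈ H) (hxy : IsConj x y) :
    ∃ h ∈ H, h * x * h⁻¹ = y := by
  obtain ⟨c, hcxy⟩ := isConj_iff.1 hxy
  by_cases hx1 : x = 1
  · refine ⟨1, one_mem _, ?_⟩
    rw [← hcxy, hx1]; simp
  have hcN : c ∈ Subgroup.normalizer (H : Set G) := by
    by_contra hcon
    exact hx1 (hTI c hcon x hx (by rw [hcxy]; exact hy))
  have hle : H ≤ Subgroup.normalizer (H : Set G) := Subgroup.le_normalizer
  haveI : (H.subgroupOf (Subgroup.normalizer (H : Set G))).Normal := Subgroup.normal_in_normalizer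
  obtain ⟨⟨⟨k, hk⟩, ⟨h', hh'⟩⟩, hkh⟩ := hc.2 (⟨c, hcN⟩ : Subgroup.normalizer (H : Set G))
  have hkh' : k * h' = (⟨c, hcN⟩ : Subgroup.normalizer (H : Set G)) := hkh
  have hh'H : (h' : G) ∈ H := hh'
  refine ⟨(h' : G), hh'H, ?_⟩
  have hx'H : (h' : G) * x * (h' : G)⁻¹ ∈ H := H.mul_mem (H.mul_mem hh'H hx) (H.inv_mem hh'H)
  have hx'' : (⟨(h' : G) * x * (h' : G)⁻¹, hle hx'H⟩ : Subgroup.normalizer (H : Set G)) ∈
      H.subgroupOf (Subgroup.normalizer (H : Set G)) := hx'H
  have hcomm := Subgroup.commute_of_normal_of_disjoint K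
    (H.subgroupOf (Subgroup.normalizer (H : Set G))) hKn inferInstance hc.disjoint k
    (⟨(h' : G) * x * (h' : G)⁻¹, hle hx'H⟩ : Subgroup.normalizer (H : Set G)) hk hx''
  have hcomm' : (k : G) * ((h' : G) * x * (h' : G)⁻¹) = ((h' : G) * x * (h' : G)⁻¹) * (k : G) :=
    congrArg Subtype.val hcomm.eq
  have hc' : c = (k : G) * (h' : G) := (congrArg Subtype.val hkh').symm
  rw [← hcxy, hc']
  have : (k : G) * (h' : G) * x * ((k : G) * (h' : G))⁻¹ =
      (k : G) * ((h' : G) * x * (h' : G)⁻¹) * (k : G)⁻¹ := by group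
  rw [this, hcomm']
  group

include hTI hHall in
/-- a normal complement in the normalizer gives a normal complement in `G` -/
theorem exists_normal_complement (K : Subgroup (Subgroup.normalizer (H : Set G))) (hKn : K.Normal)
    (hc : K.IsComplement' (H.subgroupOf (Subgroup.normalizer (H : Set G)))) :
    ∃ N : Subgroup G, N.Normal ∧ N.IsComplement' H := by
  have hH := hall H hTI hHall
  have hfus := fusion H hTI K hKn hc
  have helem : ∀ (E : Subgroup G) (p : ℕ), p.Prime → Cfsg.IsElementary p E →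
      Nat.card E ∣ Nat.card H → ∃ g : G, E.map (MulAut.conj g).toMonoidHom ≤ H := by
    intro E p _ _ hdvd
    obtain ⟨g, hg⟩ := Cfsg.Agent.S4116.result H hH hTI E (fun q _ hqE => dvd_trans hqE hdvd)
    refine ⟨g⁻¹, ?_⟩
    rintro y ⟨e, he, rfl⟩
    obtain ⟨h, hh, rfl⟩ := hg he
    simp only [MulEquiv.coe_toMonoidHom, MulAut.conj_apply, inv_inv]
    have : g⁻¹ * (g * h * g⁻¹) * g = h := by group
    rw [this]; exact hh
  obtain ⟨N, hNn, hsup, hinf⟩ := Cfsg.Agent.S0877.result H hH hfus helem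
  refine ⟨N, hNn, ?_⟩
  apply Subgroup.isComplement'_of_disjoint_and_mul_eq_univ
  · rw [disjoint_iff]; exact hinf
  · haveI := hNn
    rw [← Subgroup.normal_mul, hsup]; rfl

/-- a normal complement in `G` gives a normal complement in the normalizer -/
theorem exists_complement_in_normalizer (N : Subgroup G) (hNn : N.Normal) (hc : N.IsComplement' H) :
    ∃ K : Subgroup (Subgroup.normalizer (H : Set G)), K.Normal ∧
      K.IsComplement' (H.subgroupOf (Subgroup.normalizer (H : Set G))) := by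
  have hle : H ≤ Subgroup.normalizer (H : Set G) := Subgroup.le_normalizer
  refine ⟨N.subgroupOf (Subgroup.normalizer (H : Set G)), hNn.subgroupOf _, ?_⟩
  apply Subgroup.isComplement'_of_disjoint_and_mul_eq_univ
  · rw [Subgroup.disjoint_def]
    rintro ⟨x, hxN⟩ hx1 hx2
    have h1 : x ∈ N := hx1
    have h2 : x ∈ H := hx2
    have := Subgroup.disjoint_def.1 hc.disjoint h1 h2
    exact Subtype.ext this
  · rw [Set.eq_univ_iff_forall]
    rintro ⟨x, hxN⟩
    obtain ⟨⟨⟨n, hn⟩, ⟨h, hh⟩⟩, hnh⟩ := hc.2 x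
    have hnh' : n * h = x := hnh
    have hnN : n ∈ Subgroup.normalizer (H : Set G) := by
      have : n = x * h⁻¹ := by rw [← hnh']; group
      rw [this]
      exact Subgroup.mul_mem _ hxN (Subgroup.inv_mem _ (hle hh))
    exact ⟨⟨n, hnN⟩, hn, ⟨h, hle hh⟩, hh, Subtype.ext hnh'⟩

end basics

section frob

/-- a group acted on fixed-point-freely (inside an ambient group) gives a Frobenius group -/
theorem frob_of_fpf {T : Type u} [Group T] [Finite T] (X C : Subgroup T)
    (hnorm : ∀ c ∈ C, ∀ x ∈ X, c * x * c⁻¹ ∈ X)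
    (hfpf : ∀ c ∈ C, c ≠ 1 → ∀ x ∈ X, c * x = x * c → x = 1)
    (hX : X ≠ ⊥) (hC : C ≠ ⊥) :
    ∃ (F : Type u) (_ : Group F) (_ : Finite F) (C' : Subgroup F),
      Cfsg.IsFrobeniusComplement C' ∧ Nonempty (C ≃* C') := by
  have hdisj : ∀ y, y ∈ X → y ∈ C → y = 1 := by
    intro y hyX hyC
    by_contra hy1
    exact hy1 (hfpf y hyC hy1 y hyX rfl)
  have hCn : C ≤ Subgroup.normalizer (X : Set T) := by
    rw [Subgroup.le_normalizer_iff]
    exact hnorm
  have hmem : ∀ g ∈ X ⊔ C, ∃ x ∈ X, ∃ c ∈ C, g = x * c := by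
    intro g hg
    have : g ∈ ((X ⊔ C : Subgroup T) : Set T) := hg
    rw [Subgroup.coe_mul_of_right_le_normalizer_left X C hCn] at this
    obtain ⟨x, hx, c, hc, rfl⟩ := this
    exact ⟨x, hx, c, hc, rfl⟩
  have hXle : X ≤ X ⊔ C := le_sup_left
  have hCle : C ≤ X ⊔ C := le_sup_right
  refine ⟨↥(X ⊔ C), inferInstance, inferInstance, C.subgroupOf (X ⊔ C), ?_,
    ⟨(Subgroup.subgroupOfEquivOfLe hCle).symm⟩⟩
  refine ⟨?_, ?_, ?_⟩
  · intro h
    rw [Subgroup.subgroupOf_eq_bot, disjoint_iff, inf_of_le_left hCle] at h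
    exact hC h
  · intro h
    rw [Subgroup.subgroupOf_eq_top] at h
    apply hX
    rw [eq_bot_iff]
    intro x hx
    rw [Subgroup.mem_bot]
    exact hdisj x hx (h (hXle hx))
  · rintro ⟨g, hg⟩ hgC
    rw [eq_bot_iff]
    rintro ⟨y, hy⟩ ⟨hy1, hy2⟩
    rw [Subgroup.mem_bot]
    apply Subtype.ext
    show y = 1
    have hyC : y ∈ C := hy1
    have hy2a : (⟨y, hy⟩ : ↥(X ⊔ C)) ∈ MulAut.conj (⟨g, hg⟩ : ↥(X ⊔ C)) • C.subgroupOf (X ⊔ C) :=
      hy2
    rw [Cfsg.Agent.S0039.mem_conj_smul] at hy2a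
    have hy2' : g⁻¹ * y * g ∈ C := hy2a
    obtain ⟨x, hx, c, hc, rfl⟩ := hmem g hg
    have hy3 : x⁻¹ * y * x ∈ C := by
      have := C.mul_mem (C.mul_mem hc hy2') (C.inv_mem hc)
      have e : c * ((x * c)⁻¹ * y * (x * c)) * c⁻¹ = x⁻¹ * y * x := by group
      rwa [e] at this
    have hy4 : y⁻¹ * (x⁻¹ * y * x) ∈ X := by
      have h1 := hnorm y⁻¹ (C.inv_mem hyC) x⁻¹ (X.inv_mem hx)
      have := X.mul_mem h1 hx
      have e : y⁻¹ * x⁻¹ * y⁻¹⁻¹ * x = y⁻¹ * (x⁻¹ * y * x) := by group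
      rwa [e] at this
    have hy5 := hdisj _ hy4 (C.mul_mem (C.inv_mem hyC) hy3)
    have hy6 : y * x = x * y := by
      have : x⁻¹ * y * x = y := by
        have := congrArg (fun t => y * t) hy5
        simpa using this
      calc y * x = x * (x⁻¹ * y * x) := by group
        _ = x * y := by rw [this]
    by_contra hy1'
    have hx1 := hfpf y hyC hy1' x hx hy6
    apply hgC
    show x * c ∈ C
    rw [hx1, one_mul]
    exact hc

/-- an element of a `q`-group whose order divides a number coprime to `q` is trivial -/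
theorem eq_one_of_isPGroup {G : Type u} [Group G] (q : ℕ) (Q : Subgroup G)
    (hQ : IsPGroup q Q) (z : G) (hz : z ∈ Q) (n : ℕ) (hn : n.Coprime q) (hzn : orderOf z ∣ n) :
    z = 1 := by
  obtain ⟨k, hk⟩ := hQ ⟨z, hz⟩
  have hk' : z ^ (q ^ k) = 1 := by
    have := congrArg Subtype.val hk
    simpa using this
  have h1 : orderOf z ∣ q ^ k := orderOf_dvd_of_pow_eq_one hk'
  have h2 : orderOf z ∣ Nat.gcd n (q ^ k) := Nat.dvd_gcd hzn h1
  have h3 : Nat.gcd n (q ^ k) = 1 := Nat.Coprime.pow_right k hn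
  rw [h3, Nat.dvd_one, orderOf_eq_one_iff] at h2
  exact h2

theorem conj_pow_aux {G : Type u} [Group G] (h x z : G) (hz : h⁻¹ * x * h = x * z)
    (hc : ∀ n : ℕ, h * z ^ n = z ^ n * h) (n : ℕ) : (h⁻¹) ^ n * x * h ^ n = x * z ^ n := by
  induction n with
  | zero => simp
  | succ n ih =>
    calc (h⁻¹) ^ (n + 1) * x * h ^ (n + 1)
        = h⁻¹ * ((h⁻¹) ^ n * x * h ^ n) * h := by rw [pow_succ', pow_succ]; group
      _ = h⁻¹ * (x * z ^ n) * h := by rw [ih]
      _ = h⁻¹ * x * (z ^ n * h) := by simp only [mul_assoc]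
      _ = h⁻¹ * x * (h * z ^ n) := by rw [hc n]
      _ = (h⁻¹ * x * h) * z ^ n := by simp only [mul_assoc]
      _ = x * z ^ (n + 1) := by rw [hz, pow_succ', mul_assoc]

/-- the key construction: a `q`-group `Q` normalized by `H`, such that the centralizer in `Q` of
every non-identity element of `H` is the same proper subgroup `Q₀`, yields a Frobenius group with
complement isomorphic to `H` -/
theorem frob_of_section {G : Type u} [Group G] [Finite G] (H Q Q₀ : Subgroup G) (q : ℕ)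
    [Fact q.Prime] (hQ : IsPGroup q Q) (hle : Q₀ ≤ Q) (hne : Q₀ ≠ Q) (hH : H ≠ ⊥)
    (hco : (Nat.card H).Coprime q)
    (hnorm : ∀ h ∈ H, ∀ x ∈ Q, h * x * h⁻¹ ∈ Q)
    (hcent : ∀ h ∈ H, ∀ z ∈ Q₀, h * z = z * h)
    (hfix : ∀ h ∈ H, h ≠ 1 → ∀ x ∈ Q, h * x = x * h → x ∈ Q₀) :
    ∃ (F : Type u) (_ : Group F) (_ : Finite F) (C : Subgroup F),
      Cfsg.IsFrobeniusComplement C ∧ Nonempty (H ≃* C) := by
  -- the ambient group: N(Q₀)/Q₀
  have hHN : H ≤ Subgroup.normalizer (Q₀ : Set G) := by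
    rw [Subgroup.le_normalizer_iff]
    intro h hh z hz
    have := hcent h hh z hz
    have e : h * z * h⁻¹ = z := by rw [this]; group
    rw [e]; exact hz
  have hQ1N : Q ⊓ Subgroup.normalizer (Q₀ : Set G) ≤ Subgroup.normalizer (Q₀ : Set G) :=
    inf_le_right
  haveI : (Q₀.subgroupOf (Subgroup.normalizer (Q₀ : Set G))).Normal :=
    Subgroup.normal_in_normalizer
  let π := QuotientGroup.mk' (Q₀.subgroupOf (Subgroup.normalizer (Q₀ : Set G)))
  let ψ : H →* (↥(Subgroup.normalizer (Q₀ : Set G)) ⧸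
      Q₀.subgroupOf (Subgroup.normalizer (Q₀ : Set G))) := π.comp (Subgroup.inclusion hHN)
  let φ : ↥(Q ⊓ Subgroup.normalizer (Q₀ : Set G)) →* (↥(Subgroup.normalizer (Q₀ : Set G)) ⧸
      Q₀.subgroupOf (Subgroup.normalizer (Q₀ : Set G))) := π.comp (Subgroup.inclusion hQ1N)
  have hπ1 : ∀ (a : G) (ha : a ∈ Subgroup.normalizer (Q₀ : Set G)),
      π ⟨a, ha⟩ = 1 ↔ a ∈ Q₀ := by
    intro a ha
    show (QuotientGroup.mk (⟨a, ha⟩ : ↥(Subgroup.normalizer (Q₀ : Set G))) :
      ↥(Subgroup.normalizer (Q₀ : Set G)) ⧸ Q₀.subgroupOf (Subgroup.normalizer (Q₀ : Set G))) = 1 ↔ _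
    rw [QuotientGroup.eq_one_iff]
    exact Iff.rfl
  have hHQ : ∀ h ∈ H, h ∈ Q → h = 1 := by
    intro h hh hhQ
    exact eq_one_of_isPGroup q Q hQ h hhQ (Nat.card H) hco (Subgroup.orderOf_dvd_natCard H hh)
  have hψinj : Function.Injective ψ := by
    rw [injective_iff_map_eq_one]
    rintro ⟨h, hh⟩ h1
    have h2 : π ⟨h, hHN hh⟩ = 1 := h1
    rw [hπ1] at h2
    exact Subtype.ext (hHQ h hh (hle h2))
  -- apply the previous lemma
  have key := frob_of_fpf φ.range ψ.range ?_ ?_ ?_ ?_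
  · obtain ⟨F, iG, iF, C', hC', ⟨e⟩⟩ := key
    exact ⟨F, iG, iF, C', hC', ⟨(MonoidHom.ofInjective hψinj).trans e⟩⟩
  · -- normalizes
    rintro _ ⟨⟨h, hh⟩, rfl⟩ _ ⟨⟨x, hx⟩, rfl⟩
    have hxQ : x ∈ Q := hx.1
    have hxN : x ∈ Subgroup.normalizer (Q₀ : Set G) := hx.2
    have hmem : h * x * h⁻¹ ∈ Q ⊓ Subgroup.normalizer (Q₀ : Set G) :=
      ⟨hnorm h hh x hxQ, Subgroup.mul_mem _ (Subgroup.mul_mem _ (hHN hh) hxN)
        (Subgroup.inv_mem _ (hHN hh))⟩
    refine ⟨⟨h * x * h⁻¹, hmem⟩, ?_⟩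
    show π _ = π _ * π _ * (π _)⁻¹
    rw [← map_mul, ← map_inv, ← map_mul]
    rfl
  · -- fixed-point-free
    rintro _ ⟨⟨h, hh⟩, rfl⟩ hc1 _ ⟨⟨x, hx⟩, rfl⟩ hcomm
    have hxQ : x ∈ Q := hx.1
    have hxN : x ∈ Subgroup.normalizer (Q₀ : Set G) := hx.2
    have hh1 : h ≠ 1 := by
      intro h1
      apply hc1
      have : (⟨h, hh⟩ : H) = 1 := Subtype.ext h1
      rw [this, map_one]
    have hcomm' : π (⟨h, hHN hh⟩ * ⟨x, hxN⟩) = π (⟨x, hxN⟩ * ⟨h, hHN hh⟩) := by
      rw [map_mul, map_mul]; exact hcomm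
    have hz : x⁻¹ * h⁻¹ * x * h ∈ Q₀ := by
      have h1 : π ((⟨h, hHN hh⟩ * ⟨x, hxN⟩)⁻¹ * (⟨x, hxN⟩ * ⟨h, hHN hh⟩)) = 1 := by
        rw [map_mul, map_inv, hcomm', inv_mul_cancel]
      have h2 := (hπ1 ((h * x)⁻¹ * (x * h)) (Subgroup.mul_mem _ (Subgroup.inv_mem _
        (Subgroup.mul_mem _ (hHN hh) hxN)) (Subgroup.mul_mem _ hxN (hHN hh)))).1 h1
      have e : (h * x)⁻¹ * (x * h) = x⁻¹ * h⁻¹ * x * h := by group
      rwa [e] at h2
    have hpow : ∀ n : ℕ, (h⁻¹) ^ n * x * h ^ n = x * (x⁻¹ * h⁻¹ * x * h) ^ n :=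
      conj_pow_aux h x _ (by group) (fun n => hcent h hh _ (Subgroup.pow_mem _ hz n))
    have hzo : orderOf (x⁻¹ * h⁻¹ * x * h) ∣ orderOf h := by
      apply orderOf_dvd_of_pow_eq_one
      have := hpow (orderOf h)
      rw [inv_pow, pow_orderOf_eq_one, inv_one, one_mul, mul_one] at this
      have h2 : x * 1 = x * (x⁻¹ * h⁻¹ * x * h) ^ orderOf h := by rw [mul_one]; exact this
      exact (mul_left_cancel h2).symm
    have hz1 : x⁻¹ * h⁻¹ * x * h = 1 :=
      eq_one_of_isPGroup q Q hQ _ (hle hz) (Nat.card H) hco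
        (dvd_trans hzo (Subgroup.orderOf_dvd_natCard H hh))
    have hxh : h * x = x * h := by
      calc h * x = h * x * (x⁻¹ * h⁻¹ * x * h) := by rw [hz1, mul_one]
        _ = x * h := by group
    have hxQ0 := hfix h hh hh1 x hxQ hxh
    show π ⟨x, hxN⟩ = 1
    rw [hπ1]; exact hxQ0
  · -- X ≠ ⊥
    haveI : Group.IsNilpotent ↥Q := hQ.isNilpotent
    have hlt : Q₀.subgroupOf Q < ⊤ := by
      rw [lt_top_iff_ne_top, Ne, Subgroup.subgroupOf_eq_top]
      intro h
      exact hne (le_antisymm hle h)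
    have h2 := normalizerCondition_of_isNilpotent (G := ↥Q) _ hlt
    obtain ⟨⟨x, hxQ⟩, hx1, hx2⟩ := SetLike.exists_of_lt h2
    rw [← Subgroup.subgroupOf_normalizer_eq hle] at hx1
    have hxN : x ∈ Subgroup.normalizer (Q₀ : Set G) := hx1
    have hxQ0 : x ∉ Q₀ := hx2
    intro hbot
    have : φ ⟨x, ⟨hxQ, hxN⟩⟩ ∈ φ.range := ⟨_, rfl⟩
    rw [hbot, Subgroup.mem_bot] at this
    have h3 : π ⟨x, hxN⟩ = 1 := this
    rw [hπ1] at h3
    exact hxQ0 h3
  · -- C ≠ ⊥
    intro hbot
    apply hH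
    rw [eq_bot_iff]
    intro h hh
    rw [Subgroup.mem_bot]
    have : ψ ⟨h, hh⟩ ∈ ψ.range := ⟨_, rfl⟩
    rw [hbot, Subgroup.mem_bot] at this
    have h3 : π ⟨h, hHN hh⟩ = 1 := this
    rw [hπ1] at h3
    exact hHQ h hh (hle h3)

end frob

section main

variable {G : Type u} [Group G] [Finite G] (H : Subgroup G)

/-- the second part, given a normal complement `M` in `G` -/
theorem exists_frob (hTI : Cfsg.IsTISubset (H : Set G)) (hH : (Nat.card H).Coprime H.index)
    (hnn : ¬ H.Normal) (M : Subgroup G) (hMn : M.Normal) (hc : M.IsComplement' H) :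
    ∃ (F : Type u) (_ : Group F) (_ : Finite F) (C : Subgroup F),
      Cfsg.IsFrobeniusComplement C ∧ Nonempty (H ≃* C) := by
  classical
  haveI := hMn
  have hle : H ≤ Subgroup.normalizer (H : Set G) := Subgroup.le_normalizer
  have hH1 : H ≠ ⊥ := by
    intro h
    apply hnn
    rw [h]
    infer_instance
  have hidx : H.index = Nat.card M := hc.index_eq_card
  have hidxM : M.index = Nat.card H := hc.symm.index_eq_card
  have hcop : (Nat.card H).Coprime (Nat.card M) := by rw [← hidx]; exact hH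
  have hMH : ∀ y, y ∈ M → y ∈ H → y = 1 := fun y hyM hyH =>
    Subgroup.disjoint_def.1 hc.disjoint hyM hyH
  -- `K₁ = M ⊓ N(H)` is a proper subgroup of `M`
  have hK1 : ¬ M ≤ M ⊓ Subgroup.normalizer (H : Set G) := by
    intro h
    apply hnn
    rw [← Subgroup.normalizer_eq_top_iff, eq_top_iff, ← hc.sup_eq_top]
    exact sup_le (h.trans inf_le_right) hle
  have hrel : (M ⊓ Subgroup.normalizer (H : Set G)).relIndex M ≠ 1 := by
    rw [Ne, Subgroup.relIndex_eq_one]
    exact hK1
  obtain ⟨q, hq, hqdvd⟩ := Nat.exists_prime_and_dvd hrel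
  haveI : Fact q.Prime := ⟨hq⟩
  have hqM : q ∣ Nat.card M := dvd_trans hqdvd (Subgroup.relIndex_dvd_card _ _)
  have hcoq : (Nat.card H).Coprime q := Nat.Coprime.coprime_dvd_right hqM hcop
  -- a Sylow `q`-subgroup of `M`, and the Frattini argument
  obtain ⟨P⟩ : Nonempty (Sylow q M) := inferInstance
  have hFr := Sylow.normalizer_sup_eq_top P
  have hPcard : Nat.card ((P : Subgroup M).map M.subtype) = q ^ (Nat.card M).factorization q := by
    rw [Subgroup.card_map_of_injective M.subtype_injective]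
    exact P.card_eq_multiplicity
  have hPM : (P : Subgroup M).map M.subtype ≤ M := by
    rintro _ ⟨y, _, rfl⟩
    exact y.2
  have hPq : IsPGroup q ((P : Subgroup M).map M.subtype) := P.2.map _
  generalize hQdef : (P : Subgroup M).map M.subtype = Q at hFr hPcard hPM hPq
  -- Schur--Zassenhaus inside `N(Q)`
  haveI hM'n : (M.subgroupOf (Subgroup.normalizer (Q : Set G))).Normal := hMn.subgroupOf _
  have hM'idx : (M.subgroupOf (Subgroup.normalizer (Q : Set G))).index = Nat.card H := by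
    have h1 : (M.subgroupOf (Subgroup.normalizer (Q : Set G))).index =
        M.relIndex (Subgroup.normalizer (Q : Set G)) := rfl
    rw [h1, ← Subgroup.relIndex_sup_right, hFr, Subgroup.relIndex_top_right, hidxM]
  have hM'card : Nat.card (M.subgroupOf (Subgroup.normalizer (Q : Set G))) ∣ Nat.card M := by
    rw [← Subgroup.inf_subgroupOf_right,
      Nat.card_congr (Subgroup.subgroupOfEquivOfLe (inf_le_right :
        M ⊓ Subgroup.normalizer (Q : Set G) ≤ Subgroup.normalizer (Q : Set G))).toEquiv]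
    exact Subgroup.card_dvd_of_le inf_le_left
  have hM'cop : (Nat.card (M.subgroupOf (Subgroup.normalizer (Q : Set G)))).Coprime
      (M.subgroupOf (Subgroup.normalizer (Q : Set G))).index := by
    rw [hM'idx]
    exact (Nat.Coprime.coprime_dvd_right hM'card hcop).symm
  obtain ⟨H'', hH''⟩ := Subgroup.exists_right_complement'_of_coprime hM'cop
  have hH''card : Nat.card H'' = Nat.card H := by
    rw [← hM'idx]; exact hH''.symm.index_eq_card.symm
  have hH'card : Nat.card (H''.map (Subgroup.normalizer (Q : Set G)).subtype) = Nat.card H := by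
    rw [Subgroup.card_map_of_injective (Subgroup.subtype_injective _), hH''card]
  have hH'N : H''.map (Subgroup.normalizer (Q : Set G)).subtype ≤ Subgroup.normalizer (Q : Set G) := by
    rintro _ ⟨y, _, rfl⟩
    exact y.2
  obtain ⟨g, hg⟩ := Cfsg.Agent.S4116.result H hH hTI
    (H''.map (Subgroup.normalizer (Q : Set G)).subtype)
    (fun r _ hr => by rw [hH'card] at hr; exact hr)
  have hgcard : Nat.card (H.map (MulAut.conj g).toMonoidHom) = Nat.card H :=
    Subgroup.card_map_of_injective (MulAut.conj g).injective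
  have hgeq : H''.map (Subgroup.normalizer (Q : Set G)).subtype = H.map (MulAut.conj g).toMonoidHom :=
    Subgroup.eq_of_le_of_card_ge hg (by rw [hgcard, hH'card])
  have hgN : ∀ h ∈ H, g * h * g⁻¹ ∈ Subgroup.normalizer (Q : Set G) := by
    intro h hh
    apply hH'N
    rw [hgeq]
    exact ⟨h, hh, by simp [MulAut.conj_apply]⟩
  -- the `H`-invariant Sylow subgroup `Q' = g⁻¹ Q g`
  have hQ'mem : ∀ y, y ∈ Q.map (MulAut.conj g⁻¹).toMonoidHom ↔ g * y * g⁻¹ ∈ Q := by
    intro y
    constructor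
    · rintro ⟨x, hx, rfl⟩
      simp only [MulEquiv.coe_toMonoidHom, MulAut.conj_apply, inv_inv]
      have : g * (g⁻¹ * x * g) * g⁻¹ = x := by group
      rw [this]; exact hx
    · intro hy
      refine ⟨g * y * g⁻¹, hy, ?_⟩
      simp only [MulEquiv.coe_toMonoidHom, MulAut.conj_apply, inv_inv]
      group
  have hQ'q : IsPGroup q (Q.map (MulAut.conj g⁻¹).toMonoidHom) := hPq.map _
  have hQ'M : Q.map (MulAut.conj g⁻¹).toMonoidHom ≤ M := by
    intro y hy
    rw [hQ'mem] at hy
    have := hMn.conj_mem _ (hPM hy) g⁻¹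
    have e : g⁻¹ * (g * y * g⁻¹) * g⁻¹⁻¹ = y := by group
    rwa [e] at this
  have hQ'card : Nat.card (Q.map (MulAut.conj g⁻¹).toMonoidHom) =
      q ^ (Nat.card M).factorization q := by
    rw [Subgroup.card_map_of_injective (MulAut.conj g⁻¹).injective, hPcard]
  have hQ'norm : ∀ h ∈ H, ∀ x ∈ Q.map (MulAut.conj g⁻¹).toMonoidHom,
      h * x * h⁻¹ ∈ Q.map (MulAut.conj g⁻¹).toMonoidHom := by
    intro h hh x hx
    rw [hQ'mem] at hx ⊢
    have h1 := (Subgroup.mem_normalizer_iff.1 (hgN h hh) (g * x * g⁻¹)).1 hx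
    have e : g * h * g⁻¹ * (g * x * g⁻¹) * (g * h * g⁻¹)⁻¹ = g * (h * x * h⁻¹) * g⁻¹ := by group
    rwa [e] at h1
  generalize Q.map (MulAut.conj g⁻¹).toMonoidHom = Q' at hQ'q hQ'M hQ'card hQ'norm
  -- `Q₀ = Q' ⊓ N(H)`
  have hne : Q' ⊓ Subgroup.normalizer (H : Set G) ≠ Q' := by
    intro h
    have h1 : Q' ≤ M ⊓ Subgroup.normalizer (H : Set G) := le_inf hQ'M (h ▸ inf_le_right)
    have h2 := Subgroup.card_dvd_of_le h1
    rw [hQ'card] at h2
    have h3 : Nat.card ↥(M ⊓ Subgroup.normalizer (H : Set G)) *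
        (M ⊓ Subgroup.normalizer (H : Set G)).relIndex M = Nat.card M := by
      have h4 := Subgroup.card_mul_index ((M ⊓ Subgroup.normalizer (H : Set G)).subgroupOf M)
      rw [Nat.card_congr (Subgroup.subgroupOfEquivOfLe (inf_le_left :
        M ⊓ Subgroup.normalizer (H : Set G) ≤ M)).toEquiv] at h4
      exact h4
    have h5 : q ^ ((Nat.card M).factorization q + 1) ∣ Nat.card M := by
      rw [pow_succ]
      exact (Nat.mul_dvd_mul h2 hqdvd).trans (dvd_of_eq h3)
    exact Nat.pow_succ_factorization_not_dvd Nat.card_pos.ne' hq h5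
  refine frob_of_section H Q' (Q' ⊓ Subgroup.normalizer (H : Set G)) q hQ'q inf_le_left hne hH1
    hcoq hQ'norm ?_ ?_
  · -- `H` centralizes `Q₀`
    intro h hh z hz
    have hzM : z ∈ M := hQ'M hz.1
    have hzN : z ∈ Subgroup.normalizer (H : Set G) := hz.2
    have h1 : z * h * z⁻¹ * h⁻¹ ∈ M := by
      have := M.mul_mem hzM (hMn.conj_mem _ (M.inv_mem hzM) h)
      have e : z * (h * z⁻¹ * h⁻¹) = z * h * z⁻¹ * h⁻¹ := by group
      rwa [e] at this
    have h2 : z * h * z⁻¹ * h⁻¹ ∈ H :=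
      H.mul_mem ((Subgroup.mem_normalizer_iff.1 hzN h).1 hh) (H.inv_mem hh)
    have h3 := hMH _ h1 h2
    calc h * z = (z * h * z⁻¹ * h⁻¹)⁻¹ * (z * h) := by group
      _ = z * h := by rw [h3]; simp
  · -- centralizers of non-identity elements
    intro h hh hh1 x hx hxh
    refine ⟨hx, ?_⟩
    apply mem_normalizer_of_conj H hTI x h hh hh1
    have : x⁻¹ * h * x = h := by
      calc x⁻¹ * h * x = x⁻¹ * (h * x) := by group
        _ = h := by rw [hxh]; group
    rw [this]; exact hh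

end main

/-- Let G be a finite group and H a subgroup that meets each of its conjugates by elements outside N_G(H) trivially and whose order is coprime to its index in N_G(H). Then H has a normal complement in N_G(H) if and only if H has a normal complement in G. Moreover, if H is not normal in G and has a normal complement in N_G(H), then H is isomorphic to a Frobenius complement of some finite Frobenius group. -/
theorem result {G : Type u} [Group G] [Finite G] (H : Subgroup G)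
    (hTI : Cfsg.IsTISubset (H : Set G)) (hHall : (Nat.card H).Coprime (H.subgroupOf (Subgroup.normalizer (H : Set G))).index) :
    ((∃ K : Subgroup (Subgroup.normalizer (H : Set G)), K.Normal ∧ K.IsComplement' (H.subgroupOf (Subgroup.normalizer (H : Set G)))) ↔
      (∃ N : Subgroup G, N.Normal ∧ N.IsComplement' H)) ∧
    (¬ H.Normal → (∃ K : Subgroup (Subgroup.normalizer (H : Set G)), K.Normal ∧ K.IsComplement' (H.subgroupOf (Subgroup.normalizer (H : Set G)))) →
      ∃ (F : Type u) (_ : Group F) (_ : Finite F) (C : Subgroup F), Cfsg.IsFrobeniusComplement C ∧ Nonempty (H ≃* C)) := by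
  refine ⟨⟨?_, ?_⟩, ?_⟩
  · rintro ⟨K, hKn, hK⟩
    exact exists_normal_complement H hTI hHall K hKn hK
  · rintro ⟨N, hNn, hN⟩
    exact exists_complement_in_normalizer H N hNn hN
  · rintro hnn ⟨K, hKn, hK⟩
    obtain ⟨M, hMn, hM⟩ := exists_normal_complement H hTI hHall K hKn hK
    exact exists_frob H hTI (hall H hTI hHall) hnn M hMn hM

end Cfsg.Agent.S4115
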