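import Mathlib
import Cfsg.Statements.S0034

set_option autoImplicit false
open Pointwise
open Cfsg

namespace Cfsg.Agent.S0034

theorem mem_conj_smul {G : Type*} [Group G] {g x : G} {H : Subgroup G} :
    x ∈ MulAut.conj g • H ↔ g⁻¹ * x * g ∈ H := by
  rw [Subgroup.mem_pointwise_smul_iff_inv_smul_mem, ← map_inv, MulAut.smul_def, MulAut.conj_apply,
    inv_inv]

/-- In a Frobenius complement, a nontrivial element of `H` lying in `g H g⁻¹` forces `g ∈ H`. -/
theorem mem_of_conj_mem {G : Type*} [Group G] (H : Subgroup G) (hH : Cfsg.IsFrobeniusComplement H)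
    {g h : G} (hh : h ∈ H) (hh1 : h ≠ 1) (hc : g⁻¹ * h * g ∈ H) : g ∈ H := by
  by_contra hg
  have h1 := hH.2.2 g hg
  have h2 : h ∈ H ⊓ MulAut.conj g • H := Subgroup.mem_inf.2 ⟨hh, mem_conj_smul.2 hc⟩
  rw [h1, Subgroup.mem_bot] at h2
  exact hh1 h2

/-- The complement of the Frobenius kernel has `[G:H] * (|H| - 1)` elements. -/
theorem card_compl {G : Type*} [Group G] [Finite G] (H : Subgroup G) (hH : Cfsg.IsFrobeniusComplement H) :
    Nat.card ↥((Cfsg.frobeniusKernel H)ᶜ : Set G) = H.index * (Nat.card H - 1) := by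
  classical
  have hcard : Nat.card {h : H // h ≠ 1} = Nat.card H - 1 := by
    have : Nat.card {h : H // h ≠ 1} = ({(1 : H)}ᶜ : Set H).ncard := rfl
    rw [this, Set.ncard_compl, Set.ncard_singleton]
  rw [Subgroup.index_eq_card, ← hcard, ← Nat.card_prod]
  symm
  refine Nat.card_congr (Equiv.ofBijective
    (fun p : (G ⧸ H) × {h : H // h ≠ 1} =>
      (⟨p.1.out * (p.2.1 : G) * p.1.out⁻¹, ?_⟩ : ↥((Cfsg.frobeniusKernel H)ᶜ : Set G))) ⟨?_, ?_⟩)
  · -- membership
    rw [Set.mem_compl_iff]
    intro hmem
    rcases hmem with h1 | h1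
    · have : (p.2.1 : G) = 1 := by
        have := congrArg (fun y => p.1.out⁻¹ * y * p.1.out) h1
        beta_reduce at this
        rw [mul_one, inv_mul_cancel] at this
        rw [← this]
        group
      exact p.2.2 (Subtype.ext this)
    · apply h1 p.1.out
      rw [mem_conj_smul]
      have : p.1.out⁻¹ * (p.1.out * (p.2.1 : G) * p.1.out⁻¹) * p.1.out = (p.2.1 : G) := by group
      rw [this]
      exact p.2.1.2
  · -- injective
    rintro ⟨q, ⟨h, hh1⟩⟩ ⟨q', ⟨h', hh1'⟩⟩ heq
    have heq' : q.out * (h : G) * q.out⁻¹ = q'.out * (h' : G) * q'.out⁻¹ := congrArg Subtype.val heq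
    have hhG1 : (h : G) ≠ 1 := fun h0 => hh1 (Subtype.ext h0)
    have hmem : (q.out⁻¹ * q'.out)⁻¹ * (h : G) * (q.out⁻¹ * q'.out) ∈ H := by
      have : (q.out⁻¹ * q'.out)⁻¹ * (h : G) * (q.out⁻¹ * q'.out)
          = q'.out⁻¹ * (q.out * (h : G) * q.out⁻¹) * q'.out := by group
      rw [this, heq']
      have : q'.out⁻¹ * (q'.out * (h' : G) * q'.out⁻¹) * q'.out = (h' : G) := by group
      rw [this]
      exact h'.2
    have hin : q.out⁻¹ * q'.out ∈ H := mem_of_conj_mem H hH h.2 hhG1 hmem
    have hq : q = q' := by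
      rw [← QuotientGroup.out_eq' q, ← QuotientGroup.out_eq' q']
      exact QuotientGroup.eq.2 hin
    subst hq
    have : (h : G) = (h' : G) := by
      have := congrArg (fun y => q.out⁻¹ * y * q.out) heq'
      beta_reduce at this
      have e1 : q.out⁻¹ * (q.out * (h : G) * q.out⁻¹) * q.out = (h : G) := by group
      have e2 : q.out⁻¹ * (q.out * (h' : G) * q.out⁻¹) * q.out = (h' : G) := by group
      rw [e1, e2] at this
      exact this
    have hh' : h = h' := Subtype.ext this
    subst hh'
    rfl
  · -- surjective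
    rintro ⟨x, hx⟩
    rw [Set.mem_compl_iff] at hx
    unfold Cfsg.frobeniusKernel at hx
    rw [Set.mem_ofPred_eq, not_or] at hx
    obtain ⟨hx1, hx2⟩ := hx
    push Not at hx2
    obtain ⟨g, hg⟩ := hx2
    rw [mem_conj_smul] at hg
    set q : G ⧸ H := (g : G ⧸ H) with hq
    have hk : q.out⁻¹ * g ∈ H := by
      have : ((q.out : G) : G ⧸ H) = (g : G ⧸ H) := QuotientGroup.out_eq' q
      exact QuotientGroup.eq.1 this
    have hh : q.out⁻¹ * x * q.out ∈ H := by
      have : q.out⁻¹ * x * q.out = (q.out⁻¹ * g) * (g⁻¹ * x * g) * (q.out⁻¹ * g)⁻¹ := by group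
      rw [this]
      exact H.mul_mem (H.mul_mem hk hg) (H.inv_mem hk)
    have hh1 : (⟨q.out⁻¹ * x * q.out, hh⟩ : H) ≠ 1 := by
      intro h0
      have := congrArg Subtype.val h0
      simp only [Subgroup.coe_one] at this
      apply hx1
      have e : x = q.out * (q.out⁻¹ * x * q.out) * q.out⁻¹ := by group
      rw [e, this]
      group
    refine ⟨(q, ⟨⟨q.out⁻¹ * x * q.out, hh⟩, hh1⟩), ?_⟩
    apply Subtype.ext
    simp only
    group

/-- Free action of `H` on the nontrivial cosets. -/
theorem index_mod {G : Type*} [Group G] [Finite G] (H : Subgroup G) (hH : Cfsg.IsFrobeniusComplement H) :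
    Nat.card H ∣ H.index - 1 := by
  classical
  let S : SubMulAction H (G ⧸ H) :=
    { carrier := {q | q ≠ ((1 : G) : G ⧸ H)}
      smul_mem' := by
        intro h q hq hcon
        apply hq
        have : q = (h⁻¹ : H) • (((1 : G) : G ⧸ H)) := by
          rw [← hcon, smul_smul, inv_mul_cancel, one_smul]
        rw [this]
        show (((h⁻¹ : H) : G) • ((1 : G) : G ⧸ H)) = _
        rw [MulAction.Quotient.smul_coe, smul_eq_mul, mul_one]
        exact QuotientGroup.eq.2 (by simpa using h.2) }
  have hfree : ∀ b : S, MulAction.stabilizer H b = ⊥ := by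
    rintro ⟨q, hq⟩
    rw [eq_bot_iff]
    intro h hh
    rw [Subgroup.mem_bot]
    rw [MulAction.mem_stabilizer_iff] at hh
    have hh' : (h : G) • q = q := congrArg Subtype.val hh
    induction q using QuotientGroup.induction_on with
    | H g =>
      rw [MulAction.Quotient.smul_coe, smul_eq_mul] at hh'
      have h2 : ((h : G) * g)⁻¹ * g ∈ H := QuotientGroup.eq.1 hh'
      have hg : g ∉ H := by
        intro hg
        apply hq
        exact (QuotientGroup.eq.2 (by simpa using hg)).symm
      by_contra hh1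
      have hhG1 : (h : G) ≠ 1 := fun h0 => hh1 (Subtype.ext h0)
      apply hg
      apply mem_of_conj_mem H hH h.2 hhG1
      have : g⁻¹ * (h : G) * g = (((h : G) * g)⁻¹ * g)⁻¹ := by group
      rw [this]
      exact H.inv_mem h2
  have e := MulAction.selfEquivOrbitsQuotientProd hfree
  have hcardS : Nat.card S = H.index - 1 := by
    have : Nat.card S = ({((1 : G) : G ⧸ H)}ᶜ : Set (G ⧸ H)).ncard := rfl
    rw [this, Set.ncard_compl, Set.ncard_singleton, Subgroup.index_eq_card]
  rw [← hcardS, Nat.card_congr e, Nat.card_prod]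
  exact dvd_mul_left _ _

/-- For a Frobenius complement H, the set of elements lying in no conjugate of H, together with 1, has exactly as many elements as the index of H, and that index is congruent to 1 modulo the order of H. -/
theorem result {G : Type*} [Group G] [Finite G] (H : Subgroup G) (hH : Cfsg.IsFrobeniusComplement H) :
    Nat.card (Cfsg.frobeniusKernel H) = H.index ∧ H.index % Nat.card H = 1 % Nat.card H := by
  constructor
  · have h1 := Set.ncard_add_ncard_compl (Cfsg.frobeniusKernel H)
    have h2 := card_compl H hH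
    rw [Nat.card_coe_set_eq] at h2
    rw [h2, ← Subgroup.index_mul_card H] at h1
    rw [Nat.card_coe_set_eq]
    have hpos : 1 ≤ Nat.card H := Nat.card_pos
    have h3 : H.index * Nat.card H = H.index + H.index * (Nat.card H - 1) := by
      conv_lhs => rw [show Nat.card H = 1 + (Nat.card H - 1) by omega]
      rw [mul_add, mul_one]
    rw [h3] at h1
    exact Nat.add_right_cancel h1
  · obtain ⟨m, hm⟩ := index_mod H hH
    have hpos : 1 ≤ H.index := Nat.pos_of_ne_zero Subgroup.index_ne_zero_of_finite
    have : H.index = 1 + Nat.card H * m := by omega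
    rw [this, Nat.add_mul_mod_self_left]

end Cfsg.Agent.S0034
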