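import Mathlib
import Cfsg.Statements.S3763
import Cfsg.Agent.Lib.Lead.DihedralRecog
import Cfsg.Agent.Lib.Helper2.QuaternionRecog
import Cfsg.Agent.Lib.Helper21.PGroupFrattini

set_option autoImplicit false
open Cfsg
open scoped commutatorElement

namespace Cfsg.Agent.S3763

/-- Working structure: `z` generates the centre (of order 2) and `E / ⟨z⟩` is elementary abelian. -/
structure ES (E : Type*) [Group E] (z : E) : Prop where
  ne1 : z ≠ 1
  cen : ∀ y : E, z * y = y * z
  sq : z * z = 1
  sqs : ∀ u : E, u * u = 1 ∨ u * u = z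
  comm : ∀ u v : E, u * v = v * u ∨ u * v = z * (v * u)
  ctr : ∀ w : E, (∀ y : E, w * y = y * w) → w = 1 ∨ w = z

section basic
variable {E : Type*} [Group E] {z : E}

theorem ES.ncomm (h : ES E z) {u v : E} (huv : u * v ≠ v * u) : u * v = z * (v * u) :=
  (h.comm u v).resolve_left huv

theorem ES.ncomm' (h : ES E z) {u v : E} (huv : u * v ≠ v * u) : v * u = z * (u * v) := by
  rw [h.ncomm huv, ← mul_assoc, h.sq, one_mul]

theorem ES.mul_ne (h : ES E z) (u : E) : z * u ≠ u := by
  intro hc
  exact h.ne1 (by simpa using hc)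

open scoped Classical in
/-- The commutator character `y ↦ [a,y] ∈ {±1}`. -/
noncomputable def chi (h : ES E z) (a : E) : E →* ℤˣ where
  toFun y := if a * y = y * a then 1 else -1
  map_one' := by simp
  map_mul' := by
    intro y y'
    by_cases h1 : a * y = y * a <;> by_cases h2 : a * y' = y' * a
    · have : a * (y * y') = y * y' * a := by
        rw [← mul_assoc, h1, mul_assoc, h2, mul_assoc]
      simp [h1, h2, this]
    · have h2' := h.ncomm h2
      have : a * (y * y') ≠ y * y' * a := by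
        rw [← mul_assoc, h1, mul_assoc, h2', ← mul_assoc y, ← h.cen y, mul_assoc z, mul_assoc y, ← mul_assoc y]
        exact h.mul_ne _
      simp [h1, h2, this]
    · have h1' := h.ncomm h1
      have : a * (y * y') ≠ y * y' * a := by
        rw [← mul_assoc, h1', mul_assoc, mul_assoc, h2, ← mul_assoc y, ]
        exact h.mul_ne _
      simp [h1, h2, this]
    · have h1' := h.ncomm h1
      have h2' := h.ncomm h2
      have : a * (y * y') = y * y' * a := by
        rw [← mul_assoc, h1', mul_assoc, mul_assoc, h2', ← mul_assoc y, ← h.cen y, mul_assoc z y, ← mul_assoc z z, h.sq, one_mul, mul_assoc]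
      simp [h1, h2, this]

theorem chi_eq_one_iff (h : ES E z) (a y : E) : chi h a y = 1 ↔ a * y = y * a := by
  classical
  show (if a * y = y * a then (1 : ℤˣ) else -1) = 1 ↔ _
  by_cases h1 : a * y = y * a
  · simp [h1]
  · simp [h1]

theorem chi_eq_neg_one_iff (h : ES E z) (a y : E) : chi h a y = -1 ↔ a * y ≠ y * a := by
  classical
  show (if a * y = y * a then (1 : ℤˣ) else -1) = -1 ↔ _
  by_cases h1 : a * y = y * a
  · simp [h1]
  · simp [h1]

theorem chi_self (h : ES E z) (a : E) : chi h a a = 1 := (chi_eq_one_iff h a a).2 rfl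

theorem chi_symm (h : ES E z) (a y : E) : chi h a y = chi h y a := by
  rcases Int.units_eq_one_or (chi h y a) with h1 | h1
  · rw [h1, chi_eq_one_iff]
    exact ((chi_eq_one_iff h y a).1 h1).symm
  · rw [h1, chi_eq_neg_one_iff]
    intro hc
    exact ((chi_eq_neg_one_iff h y a).1 h1) hc.symm

/-- The centralizer of `a` and `x`. -/
noncomputable def E1 (h : ES E z) (a x : E) : Subgroup E := ((chi h a).prod (chi h x)).ker

theorem mem_E1 (h : ES E z) (a x y : E) : y ∈ E1 h a x ↔ a * y = y * a ∧ x * y = y * x := by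
  unfold E1
  rw [MonoidHom.mem_ker, MonoidHom.prod_apply, Prod.mk_eq_one, chi_eq_one_iff, chi_eq_one_iff]

theorem z_mem_E1 (h : ES E z) (a x : E) : z ∈ E1 h a x := by
  rw [mem_E1]
  exact ⟨(h.cen a).symm, (h.cen x).symm⟩

theorem chi_prod_surj (h : ES E z) {a x : E} (hax : a * x ≠ x * a) :
    Function.Surjective ((chi h a).prod (chi h x)) := by
  have h1 : chi h a x = -1 := (chi_eq_neg_one_iff h a x).2 hax
  have h2 : chi h x a = -1 := by rw [chi_symm, h1]
  rintro ⟨u, v⟩
  rcases Int.units_eq_one_or u with rfl | rfl <;> rcases Int.units_eq_one_or v with rfl | rfl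
  · exact ⟨1, by simp⟩
  · exact ⟨a, by simp [chi_self, h2]⟩
  · exact ⟨x, by simp [chi_self, h1]⟩
  · exact ⟨x * a, by simp [chi_self, h1, h2]⟩

theorem card_E1 (h : ES E z) {a x : E} (hax : a * x ≠ x * a) :
    Nat.card E = 4 * Nat.card (E1 h a x) := by
  have h1 := Subgroup.card_mul_index (E1 h a x)
  have h2 : (E1 h a x).index = 4 := by
    unfold E1
    rw [Subgroup.index_ker, MonoidHom.range_eq_top.2 (chi_prod_surj h hax)]
    rw [Subgroup.card_top, Nat.card_prod]
    simp
  rw [h2] at h1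
  omega

/-- Every element is congruent mod `E1` to a word in `a`, `x`. -/
theorem decomp (h : ES E z) {a x : E} (hax : a * x ≠ x * a) (y : E) :
    ∃ d : E, d ∈ Subgroup.closure ({a, x} : Set E) ∧
      (∀ w : E, a * w = w * a → x * w = w * x → d * w = w * d) ∧ y * d⁻¹ ∈ E1 h a x := by
  obtain ⟨d, hd, hd'⟩ : ∃ d : E, (d = 1 ∨ d = a ∨ d = x ∨ d = x * a) ∧
      ((chi h a).prod (chi h x)) d = ((chi h a).prod (chi h x)) y := by
    have h1 : chi h a x = -1 := (chi_eq_neg_one_iff h a x).2 hax
    have h2 : chi h x a = -1 := by rw [chi_symm, h1]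
    rcases Int.units_eq_one_or (chi h a y) with hu | hu <;>
      rcases Int.units_eq_one_or (chi h x y) with hv | hv
    · exact ⟨1, Or.inl rfl, by simp [hu, hv]⟩
    · exact ⟨a, Or.inr (Or.inl rfl), by simp [chi_self, h2, hu, hv]⟩
    · exact ⟨x, Or.inr (Or.inr (Or.inl rfl)), by simp [chi_self, h1, hu, hv]⟩
    · exact ⟨x * a, Or.inr (Or.inr (Or.inr rfl)), by simp [chi_self, h1, h2, hu, hv]⟩
  have haD : a ∈ Subgroup.closure ({a, x} : Set E) := Subgroup.subset_closure (Or.inl rfl)
  have hxD : x ∈ Subgroup.closure ({a, x} : Set E) := Subgroup.subset_closure (Or.inr rfl)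
  refine ⟨d, ?_, ?_, ?_⟩
  · rcases hd with rfl | rfl | rfl | rfl
    · exact Subgroup.one_mem _
    · exact haD
    · exact hxD
    · exact Subgroup.mul_mem _ hxD haD
  · intro w hwa hwx
    rcases hd with rfl | rfl | rfl | rfl
    · simp
    · exact hwa
    · exact hwx
    · rw [mul_assoc, hwa, ← mul_assoc, hwx, mul_assoc]
  · unfold E1
    rw [MonoidHom.mem_ker, map_mul, map_inv, hd', mul_inv_cancel]

theorem ES_E1 (h : ES E z) {a x : E} (hax : a * x ≠ x * a) :
    ES (E1 h a x) ⟨z, z_mem_E1 h a x⟩ where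
  ne1 := by
    intro hc
    exact h.ne1 (congrArg Subtype.val hc)
  cen := by
    intro y
    exact Subtype.ext (h.cen y)
  sq := Subtype.ext h.sq
  sqs := by
    intro u
    rcases h.sqs u with h1 | h1
    · exact Or.inl (Subtype.ext h1)
    · exact Or.inr (Subtype.ext h1)
  comm := by
    intro u v
    rcases h.comm u v with h1 | h1
    · exact Or.inl (Subtype.ext h1)
    · exact Or.inr (Subtype.ext h1)
  ctr := by
    intro w hw
    have hwE : ∀ y : E, (w : E) * y = y * w := by
      intro y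
      obtain ⟨d, -, hd, hyd⟩ := decomp h hax y
      have hw1 := (mem_E1 h a x w).1 w.2
      have h1 : d * (w : E) = w * d := hd w hw1.1 hw1.2
      have h2 : (w : E) * (y * d⁻¹) = (y * d⁻¹) * w := by
        have := hw ⟨y * d⁻¹, hyd⟩
        exact congrArg Subtype.val this
      have h3 : d⁻¹ * (w : E) = w * d⁻¹ := by
        rw [eq_mul_inv_iff_mul_eq, mul_assoc, ← h1, ← mul_assoc, inv_mul_cancel, one_mul]
      calc (w : E) * y = w * ((y * d⁻¹) * d) := by rw [inv_mul_cancel_right]
        _ = (y * d⁻¹) * w * d := by rw [← mul_assoc, h2]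
        _ = y * (d⁻¹ * w) * d := by rw [mul_assoc y]
        _ = y * w := by rw [h3, mul_assoc, mul_assoc, inv_mul_cancel, mul_one]
    rcases h.ctr w hwE with h1 | h1
    · exact Or.inl (Subtype.ext h1)
    · exact Or.inr (Subtype.ext h1)

theorem a_not_mem_E1 (h : ES E z) {a x : E} (hax : a * x ≠ x * a) : a ∉ E1 h a x := by
  intro hc
  exact hax ((mem_E1 h a x a).1 hc).2.symm

theorem x_not_mem_E1 (h : ES E z) {a x : E} (hax : a * x ≠ x * a) : x ∉ E1 h a x := by
  intro hc
  exact hax ((mem_E1 h a x x).1 hc).1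

/-- elementary abelian 2-subgroup (elementwise formulation) -/
def EA (A : Subgroup E) : Prop := (∀ u ∈ A, ∀ v ∈ A, u * v = v * u) ∧ (∀ u ∈ A, u * u = 1)

theorem EA_closure (S : Set E) (hc : ∀ u ∈ S, ∀ v ∈ S, u * v = v * u) (hs : ∀ u ∈ S, u * u = 1) :
    EA (Subgroup.closure S) := by
  have h1 : Subgroup.closure S ≤ Subgroup.centralizer S := by
    rw [Subgroup.closure_le]
    intro u hu
    rw [SetLike.mem_coe, Subgroup.mem_centralizer_iff]
    intro v hv
    exact hc v hv u hu
  have h2 : Subgroup.closure S ≤ Subgroup.centralizer (Subgroup.closure S : Set E) := by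
    rw [Subgroup.closure_le]
    intro u hu
    rw [SetLike.mem_coe, Subgroup.mem_centralizer_iff]
    intro v hv
    have := h1 hv
    rw [Subgroup.mem_centralizer_iff] at this
    exact (this u hu).symm
  have hcomm : ∀ u ∈ Subgroup.closure S, ∀ v ∈ Subgroup.closure S, u * v = v * u := by
    intro u hu v hv
    have := h2 hv
    rw [Subgroup.mem_centralizer_iff] at this
    exact this u hu
  refine ⟨hcomm, ?_⟩
  intro u hu
  induction hu using Subgroup.closure_induction with
  | mem u hu => exact hs u hu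
  | one => simp
  | mul u v hu hv hu' hv' =>
    calc u * v * (u * v) = u * (v * u) * v := by simp only [mul_assoc]
      _ = u * (u * v) * v := by rw [hcomm v hv u hu]
      _ = (u * u) * (v * v) := by simp only [mul_assoc]
      _ = 1 := by rw [hu', hv', one_mul]
  | inv u hu hu' =>
    have : u⁻¹ = u := by rw [inv_eq_iff_mul_eq_one]; exact hu'
    rw [this]; exact hu'

theorem card_ge_double [Finite E] {H K : Subgroup E} (hHK : H ≤ K) {g : E} (hgK : g ∈ K) (hgH : g ∉ H) :
    2 * Nat.card H ≤ Nat.card K := by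
  obtain ⟨k, hk⟩ := Subgroup.card_dvd_of_le hHK
  have hK0 : Nat.card K ≠ 0 := Nat.card_pos.ne'
  have hH0 : Nat.card H ≠ 0 := Nat.card_pos.ne'
  have hk1 : k ≠ 1 := by
    rintro rfl
    rw [mul_one] at hk
    have := Subgroup.eq_of_le_of_card_ge hHK hk.le
    exact hgH (this ▸ hgK)
  have hk0 : k ≠ 0 := by
    rintro rfl
    rw [mul_zero] at hk
    exact hK0 hk
  have : 2 ≤ k := by omega
  calc 2 * Nat.card H ≤ k * Nat.card H := Nat.mul_le_mul_right _ this
    _ = Nat.card K := by rw [hk, mul_comm]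

theorem card_le_two_mul [Finite E] (h : ES E z) (a x : E) (A : Subgroup E)
    (hA : ∀ u ∈ A, ∀ v ∈ A, u * v = v * u) (haA : a ∈ A) :
    Nat.card A ≤ 2 * Nat.card (A.subgroupOf (E1 h a x)) := by
  have hK := Subgroup.card_mul_index ((chi h x).comp A.subtype).ker
  have hidx : ((chi h x).comp A.subtype).ker.index ≤ 2 := by
    rw [Subgroup.index_ker]
    calc Nat.card ((chi h x).comp A.subtype).range ≤ Nat.card ℤˣ := Subgroup.card_le_card_group _
      _ = 2 := by simp
  have hinj : Nat.card ((chi h x).comp A.subtype).ker ≤ Nat.card (A.subgroupOf (E1 h a x)) := by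
    have hmem : ∀ k : ((chi h x).comp A.subtype).ker, ((k : A) : E) ∈ E1 h a x := by
      intro k
      rw [mem_E1]
      refine ⟨hA a haA _ (k : A).2, ?_⟩
      have := k.2
      rw [MonoidHom.mem_ker, MonoidHom.comp_apply, chi_eq_one_iff] at this
      exact this
    apply Nat.card_le_card_of_injective
      (fun k : ((chi h x).comp A.subtype).ker =>
        (⟨⟨((k : A) : E), hmem k⟩, (k : A).2⟩ : A.subgroupOf (E1 h a x)))
    intro k k' hkk
    have := congrArg (fun t : A.subgroupOf (E1 h a x) => ((t : E1 h a x) : E)) hkk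
    exact Subtype.ext (Subtype.ext this)
  calc Nat.card A = Nat.card ((chi h x).comp A.subtype).ker *
        ((chi h x).comp A.subtype).ker.index := hK.symm
    _ ≤ Nat.card ((chi h x).comp A.subtype).ker * 2 := Nat.mul_le_mul_left _ hidx
    _ ≤ Nat.card (A.subgroupOf (E1 h a x)) * 2 := Nat.mul_le_mul_right _ hinj
    _ = 2 * Nat.card (A.subgroupOf (E1 h a x)) := mul_comm _ _

theorem upper.{u} : ∀ n : ℕ, ∀ (E : Type u) [Group E] [Finite E] (z : E), ES E z →
    Nat.card E = 2 * 4 ^ n →
    ∀ A : Subgroup E, (∀ u ∈ A, ∀ v ∈ A, u * v = v * u) → Nat.card A ≤ 2 * 2 ^ n := by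
  intro n
  induction n with
  | zero =>
    intro E _ _ z h hcard A hA
    have := Subgroup.card_le_card_group A
    rw [hcard] at this
    simpa using this
  | succ n ih =>
    intro E _ _ z h hcard A hA
    by_cases hc : ∀ a ∈ A, ∀ y : E, a * y = y * a
    · have hsub : (A : Set E) ⊆ {1, z} := by
        intro a ha
        rcases h.ctr a (hc a ha) with h1 | h1
        · left; exact h1
        · right; exact h1
      have h1 : Nat.card A = (A : Set E).ncard := Nat.card_coe_set_eq _
      have h2 : (A : Set E).ncard ≤ ({1, z} : Set E).ncard := Set.ncard_le_ncard hsub (Set.toFinite _)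
      have h3 : ({1, z} : Set E).ncard ≤ 2 := by
        have := Set.ncard_insert_le (1 : E) {z}
        rw [Set.ncard_singleton] at this
        exact this
      have h4 : 1 ≤ 2 ^ (n + 1) := Nat.one_le_two_pow
      omega
    · push Not at hc
      obtain ⟨a, haA, x, hax⟩ := hc
      have hc1 := card_E1 h hax
      have hE1 : Nat.card (E1 h a x) = 2 * 4 ^ n := by
        rw [hcard, pow_succ] at hc1
        omega
      have ih1 := ih (E1 h a x) _ (ES_E1 h hax) hE1 (A.subgroupOf (E1 h a x)) (by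
        intro u hu v hv
        exact Subtype.ext (hA u hu v hv))
      -- restrict chi x to A
      have hK := Subgroup.card_mul_index ((chi h x).comp A.subtype).ker
      have hidx : ((chi h x).comp A.subtype).ker.index ≤ 2 := by
        rw [Subgroup.index_ker]
        calc Nat.card ((chi h x).comp A.subtype).range ≤ Nat.card ℤˣ := Subgroup.card_le_card_group _
          _ = 2 := by simp
      have hinj : Nat.card ((chi h x).comp A.subtype).ker ≤ Nat.card (A.subgroupOf (E1 h a x)) := by
        have hmem : ∀ k : ((chi h x).comp A.subtype).ker, ((k : A) : E) ∈ E1 h a x := by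
          intro k
          rw [mem_E1]
          refine ⟨hA a haA _ (k : A).2, ?_⟩
          have := k.2
          rw [MonoidHom.mem_ker, MonoidHom.comp_apply, chi_eq_one_iff] at this
          exact this
        apply Nat.card_le_card_of_injective
          (fun k : ((chi h x).comp A.subtype).ker =>
            (⟨⟨((k : A) : E), hmem k⟩, (k : A).2⟩ : A.subgroupOf (E1 h a x)))
        intro k k' hkk
        have := congrArg (fun t : A.subgroupOf (E1 h a x) => ((t : E1 h a x) : E)) hkk
        exact Subtype.ext (Subtype.ext this)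
      have hpos : 0 < Nat.card ((chi h x).comp A.subtype).ker := Nat.card_pos
      calc Nat.card A = Nat.card ((chi h x).comp A.subtype).ker *
            ((chi h x).comp A.subtype).ker.index := hK.symm
        _ ≤ Nat.card ((chi h x).comp A.subtype).ker * 2 := Nat.mul_le_mul_left _ hidx
        _ ≤ Nat.card (A.subgroupOf (E1 h a x)) * 2 := Nat.mul_le_mul_right _ hinj
        _ ≤ (2 * 2 ^ n) * 2 := Nat.mul_le_mul_right _ ih1
        _ = 2 * 2 ^ (n + 1) := by rw [pow_succ]; ring

theorem exists_noncomm [Finite E] (h : ES E z) (hcard : 2 < Nat.card E) :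
    ∃ x y : E, x * y ≠ y * x := by
  by_contra hno
  push Not at hno
  have hsub : (Set.univ : Set E) ⊆ {1, z} := by
    intro a _
    rcases h.ctr a (hno a) with h1 | h1
    · left; exact h1
    · right; exact h1
  have h2 : (Set.univ : Set E).ncard ≤ ({1, z} : Set E).ncard := Set.ncard_le_ncard hsub (Set.toFinite _)
  have h3 : ({1, z} : Set E).ncard ≤ 2 := by
    have := Set.ncard_insert_le (1 : E) {z}
    rw [Set.ncard_singleton] at this
    exact this
  rw [Set.ncard_univ] at h2
  omega

theorem exists_nc_inv [Finite E] (h : ES E z) (hcard : 8 < Nat.card E) :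
    ∃ a x : E, a * a = 1 ∧ a * x ≠ x * a := by
  by_contra hno
  push Not at hno
  obtain ⟨x, y₀, hxy₀⟩ := exists_noncomm h (by omega)
  have hxx : x * x = z := by
    rcases h.sqs x with h1 | h1
    · exact absurd (hno x y₀ h1) hxy₀
    · exact h1
  -- the centralizer of x is large
  have hK := Subgroup.card_mul_index (chi h x).ker
  have hidx : (chi h x).ker.index ≤ 2 := by
    rw [Subgroup.index_ker]
    calc Nat.card (chi h x).range ≤ Nat.card ℤˣ := Subgroup.card_le_card_group _
      _ = 2 := by simp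
  have hC : 4 < Nat.card (chi h x).ker := by
    have : Nat.card (chi h x).ker * (chi h x).ker.index ≤ Nat.card (chi h x).ker * 2 :=
      Nat.mul_le_mul_left _ hidx
    omega
  obtain ⟨y, hyC, hy⟩ : ∃ y ∈ (chi h x).ker, y ∉ ({1, x, z, z * x} : Set E) := by
    by_contra hcon
    push Not at hcon
    have hsub : ((chi h x).ker : Set E) ⊆ {1, x, z, z * x} := fun y hy => hcon y hy
    have h1 : Nat.card (chi h x).ker = ((chi h x).ker : Set E).ncard := Nat.card_coe_set_eq _
    have h2 := Set.ncard_le_ncard hsub (Set.toFinite _)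
    have h3 : ({1, x, z, z * x} : Set E).ncard ≤ 4 := by
      have e1 := Set.ncard_insert_le (1 : E) {x, z, z * x}
      have e2 := Set.ncard_insert_le x {z, z * x}
      have e3 := Set.ncard_insert_le z {z * x}
      rw [Set.ncard_singleton] at e3
      omega
    omega
  rw [MonoidHom.mem_ker, chi_eq_one_iff] at hyC
  simp only [Set.mem_insert_iff, Set.mem_singleton_iff, not_or] at hy
  obtain ⟨hy1, hyx, hyz, hyzx⟩ := hy
  have hxinv : x⁻¹ = z * x := by
    rw [inv_eq_iff_mul_eq_one, ← mul_assoc, ← h.cen x, mul_assoc, hxx, h.sq]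
  rcases h.sqs y with h1 | h1
  · rcases h.ctr y (fun w => hno y w h1) with h2 | h2
    · exact hy1 h2
    · exact hyz h2
  · have h2 : (x * y) * (x * y) = 1 := by
      calc (x * y) * (x * y) = x * (y * x) * y := by simp only [mul_assoc]
        _ = x * (x * y) * y := by rw [hyC]
        _ = (x * x) * (y * y) := by simp only [mul_assoc]
        _ = 1 := by rw [hxx, h1, h.sq]
    rcases h.ctr (x * y) (fun w => hno (x * y) w h2) with h3 | h3
    · apply hyzx
      rw [← hxinv, eq_inv_iff_mul_eq_one, ← hyC]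
      exact h3
    · apply hyx
      have : y = x⁻¹ * z := by rw [eq_inv_mul_iff_mul_eq]; exact h3
      rw [this, hxinv, mul_assoc, ← h.cen x, ← mul_assoc, h.sq, one_mul]

theorem EA_extend [Finite E] (H : Subgroup E) (A₁ : Subgroup H) (hA₁ : EA A₁) (a : E)
    (haa : a * a = 1) (hcomm : ∀ w ∈ H, a * w = w * a) (haH : a ∉ H) :
    ∃ A : Subgroup E, EA A ∧ 2 * Nat.card A₁ ≤ Nat.card A := by
  refine ⟨Subgroup.closure ((A₁.map H.subtype : Set E) ∪ {a}), ?_, ?_⟩
  · apply EA_closure
    · rintro u (hu | hu) v (hv | hv)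
      · obtain ⟨u', hu', rfl⟩ := hu
        obtain ⟨v', hv', rfl⟩ := hv
        exact congrArg Subtype.val (hA₁.1 u' hu' v' hv')
      · obtain ⟨u', hu', rfl⟩ := hu
        rw [Set.mem_singleton_iff] at hv
        subst hv
        exact (hcomm _ u'.2).symm
      · obtain ⟨v', hv', rfl⟩ := hv
        rw [Set.mem_singleton_iff] at hu
        subst hu
        exact hcomm _ v'.2
      · rw [Set.mem_singleton_iff] at hu hv
        rw [hu, hv]
    · rintro u (hu | hu)
      · obtain ⟨u', hu', rfl⟩ := hu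
        exact congrArg Subtype.val (hA₁.2 u' hu')
      · rw [Set.mem_singleton_iff] at hu
        rw [hu]; exact haa
  · rw [← Subgroup.card_subtype H A₁]
    apply card_ge_double (g := a)
    · intro u hu
      exact Subgroup.subset_closure (Or.inl hu)
    · exact Subgroup.subset_closure (Or.inr rfl)
    · rintro ⟨u', _, rfl⟩
      exact haH u'.2

theorem lower.{u} : ∀ n : ℕ, ∀ (E : Type u) [Group E] [Finite E] (z : E), ES E z →
    Nat.card E = 2 * 4 ^ n →
    ∃ A : Subgroup E, EA A ∧ 2 ^ n ≤ Nat.card A := by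
  intro n
  induction n with
  | zero =>
    intro E _ _ z h hcard
    refine ⟨⊥, ⟨?_, ?_⟩, ?_⟩
    · intro u hu v hv
      rw [Subgroup.mem_bot] at hu hv
      rw [hu, hv]
    · intro u hu
      rw [Subgroup.mem_bot] at hu
      rw [hu, one_mul]
    · simp
  | succ n ih =>
    intro E _ _ z h hcard
    rcases Nat.eq_zero_or_pos n with rfl | hn
    · -- order 8: take ⟨z⟩
      refine ⟨Subgroup.closure {z}, EA_closure _ ?_ ?_, ?_⟩
      · intro u hu v hv
        rw [Set.mem_singleton_iff] at hu hv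
        rw [hu, hv]
      · intro u hu
        rw [Set.mem_singleton_iff] at hu
        rw [hu]; exact h.sq
      · have := card_ge_double (H := (⊥ : Subgroup E)) (K := Subgroup.closure {z}) bot_le
          (g := z) (Subgroup.subset_closure rfl) (by rw [Subgroup.mem_bot]; exact h.ne1)
        simpa using this
    · have h8 : 8 < Nat.card E := by
        rw [hcard]
        have : 4 ^ 2 ≤ 4 ^ (n + 1) := Nat.pow_le_pow_right (by norm_num) (by omega)
        omega
      obtain ⟨a, x, haa, hax⟩ := exists_nc_inv h h8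
      have hc1 := card_E1 h hax
      have hE1 : Nat.card (E1 h a x) = 2 * 4 ^ n := by
        rw [hcard, pow_succ] at hc1
        omega
      obtain ⟨A₁, hA₁, hcA₁⟩ := ih (E1 h a x) _ (ES_E1 h hax) hE1
      obtain ⟨A, hA, hcA⟩ := EA_extend (E1 h a x) A₁ hA₁ a haa
        (fun w hw => ((mem_E1 h a x w).1 hw).1) (a_not_mem_E1 h hax)
      refine ⟨A, hA, ?_⟩
      rw [pow_succ]
      omega

/-- `D = ⟨a, x⟩` centralizes `E1`. -/
theorem D_comm (h : ES E z) (a x : E) :
    ∀ d ∈ Subgroup.closure ({a, x} : Set E), ∀ e ∈ E1 h a x, d * e = e * d := by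
  intro d hd e he
  have hle : Subgroup.closure ({a, x} : Set E) ≤ Subgroup.centralizer (E1 h a x : Set E) := by
    rw [Subgroup.closure_le]
    rintro u (rfl | rfl)
    · rw [SetLike.mem_coe, Subgroup.mem_centralizer_iff]
      intro w hw
      exact ((mem_E1 h _ _ w).1 hw).1.symm
    · rw [SetLike.mem_coe, Subgroup.mem_centralizer_iff]
      intro w hw
      exact ((mem_E1 h _ _ w).1 hw).2.symm
  have := hle hd
  rw [Subgroup.mem_centralizer_iff] at this
  exact (this e he).symm

theorem D_z_mem (h : ES E z) {a x : E} (hax : a * x ≠ x * a) :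
    z ∈ Subgroup.closure ({a, x} : Set E) := by
  have haD : a ∈ Subgroup.closure ({a, x} : Set E) := Subgroup.subset_closure (Or.inl rfl)
  have hxD : x ∈ Subgroup.closure ({a, x} : Set E) := Subgroup.subset_closure (Or.inr rfl)
  have h1 : z = a * x * (x * a)⁻¹ := by
    rw [eq_mul_inv_iff_mul_eq]
    exact (h.ncomm hax).symm
  rw [h1]
  exact Subgroup.mul_mem _ (Subgroup.mul_mem _ haD hxD) (Subgroup.inv_mem _ (Subgroup.mul_mem _ hxD haD))

theorem D_inter (h : ES E z) {a x : E} (hax : a * x ≠ x * a) (w : E)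
    (hwD : w ∈ Subgroup.closure ({a, x} : Set E)) (hwE : w ∈ E1 h a x) : w = 1 ∨ w = z := by
  have h1 := (ES_E1 h hax).ctr ⟨w, hwE⟩ (by
    intro y
    exact Subtype.ext (D_comm h a x w hwD y y.2))
  rcases h1 with h1 | h1
  · exact Or.inl (congrArg Subtype.val h1)
  · exact Or.inr (congrArg Subtype.val h1)

theorem D_gen (h : ES E z) {a x : E} (hax : a * x ≠ x * a) (y : E) :
    ∃ d ∈ Subgroup.closure ({a, x} : Set E), ∃ e ∈ E1 h a x, y = d * e := by
  obtain ⟨d, hdD, -, hyd⟩ := decomp h hax y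
  refine ⟨d, hdD, y * d⁻¹, hyd, ?_⟩
  rw [D_comm h a x d hdD _ hyd, inv_mul_cancel_right]

theorem D_card [Finite E] (h : ES E z) {a x : E} (hax : a * x ≠ x * a) :
    Nat.card (Subgroup.closure ({a, x} : Set E)) = 8 := by
  have haD : a ∈ Subgroup.closure ({a, x} : Set E) := Subgroup.subset_closure (Or.inl rfl)
  have hxD : x ∈ Subgroup.closure ({a, x} : Set E) := Subgroup.subset_closure (Or.inr rfl)
  have hsurj : Function.Surjective
      (((chi h a).prod (chi h x)).comp (Subgroup.closure ({a, x} : Set E)).subtype) := by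
    have h1 : chi h a x = -1 := (chi_eq_neg_one_iff h a x).2 hax
    have h2 : chi h x a = -1 := by rw [chi_symm, h1]
    rintro ⟨u, v⟩
    rcases Int.units_eq_one_or u with rfl | rfl <;> rcases Int.units_eq_one_or v with rfl | rfl
    · exact ⟨1, by simp⟩
    · exact ⟨⟨a, haD⟩, by simp [chi_self, h2]⟩
    · exact ⟨⟨x, hxD⟩, by simp [chi_self, h1]⟩
    · exact ⟨⟨x * a, Subgroup.mul_mem _ hxD haD⟩, by simp [chi_self, h1, h2]⟩
  have hidx : (((chi h a).prod (chi h x)).comp
      (Subgroup.closure ({a, x} : Set E)).subtype).ker.index = 4 := by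
    rw [Subgroup.index_ker, MonoidHom.range_eq_top.2 hsurj, Subgroup.card_top, Nat.card_prod]
    simp
  have hker : Nat.card (((chi h a).prod (chi h x)).comp
      (Subgroup.closure ({a, x} : Set E)).subtype).ker = 2 := by
    rw [Nat.card_eq_two_iff]
    have hmem : ∀ w : Subgroup.closure ({a, x} : Set E),
        w ∈ (((chi h a).prod (chi h x)).comp (Subgroup.closure ({a, x} : Set E)).subtype).ker ↔
          (w : E) ∈ E1 h a x := by
      intro w
      rw [MonoidHom.mem_ker, MonoidHom.comp_apply]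
      rfl
    refine ⟨1, ⟨⟨z, D_z_mem h hax⟩, (hmem _).2 (z_mem_E1 h a x)⟩, ?_, ?_⟩
    · intro hc
      have := congrArg Subtype.val (congrArg Subtype.val hc)
      exact h.ne1 this.symm
    · rw [Set.eq_univ_iff_forall]
      intro w
      rcases D_inter h hax _ (w : Subgroup.closure ({a, x} : Set E)).2 ((hmem _).1 w.2) with h1 | h1
      · left
        exact Subtype.ext (Subtype.ext h1)
      · right
        exact Subtype.ext (Subtype.ext h1)
  have := Subgroup.card_mul_index (((chi h a).prod (chi h x)).comp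
      (Subgroup.closure ({a, x} : Set E)).subtype).ker
  rw [hidx, hker] at this
  omega

theorem D_dihedral [Finite E] (h : ES E z) {a x : E} (haa : a * a = 1) (hxx : x * x = 1)
    (hax : a * x ≠ x * a) :
    Nonempty (Subgroup.closure ({a, x} : Set E) ≃* DihedralGroup 4) := by
  have haD : a ∈ Subgroup.closure ({a, x} : Set E) := Subgroup.subset_closure (Or.inl rfl)
  have hxD : x ∈ Subgroup.closure ({a, x} : Set E) := Subgroup.subset_closure (Or.inr rfl)
  have hcc : (a * x) * (a * x) = z := by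
    calc (a * x) * (a * x) = a * (x * a) * x := by simp only [mul_assoc]
      _ = a * (z * (a * x)) * x := by rw [h.ncomm' hax]
      _ = z * ((a * a) * (x * x)) := by
        rw [← mul_assoc a z, ← h.cen a]; simp only [mul_assoc]
      _ = z := by rw [haa, hxx, one_mul, mul_one]
  have hainv : a⁻¹ = a := by rw [inv_eq_iff_mul_eq_one]; exact haa
  have hxinv : x⁻¹ = x := by rw [inv_eq_iff_mul_eq_one]; exact hxx
  apply Cfsg.Agent.Lead.nonempty_mulEquiv_dihedral 4
    (⟨a * x, Subgroup.mul_mem _ haD hxD⟩ : Subgroup.closure ({a, x} : Set E)) ⟨a, haD⟩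
  · have : Fact (Nat.Prime 2) := ⟨Nat.prime_two⟩
    have := orderOf_eq_prime_pow (p := 2) (n := 1)
      (x := (⟨a * x, Subgroup.mul_mem _ haD hxD⟩ : Subgroup.closure ({a, x} : Set E))) (by
        intro hc
        have h1 := congrArg Subtype.val hc
        simp only [pow_one, pow_two, Subgroup.coe_mul, Subgroup.coe_one] at h1
        rw [hcc] at h1
        exact h.ne1 h1) (by
        apply Subtype.ext
        show (a * x) ^ 2 ^ (1 + 1) = 1
        have : (a * x) ^ 2 ^ (1 + 1) = ((a * x) * (a * x)) * ((a * x) * (a * x)) := by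
          norm_num [pow_succ, mul_assoc]
        rw [this, hcc, h.sq])
    simpa using this
  · exact Subtype.ext haa
  · apply Subtype.ext
    show a * (a * x) * a = (a * x)⁻¹
    rw [← mul_assoc, haa, one_mul, mul_inv_rev, hainv, hxinv]
  · intro hc
    rw [Subgroup.mem_zpowers_iff] at hc
    obtain ⟨k, hk⟩ := hc
    have h1 : Commute (⟨a * x, Subgroup.mul_mem _ haD hxD⟩ : Subgroup.closure ({a, x} : Set E))
        ⟨a, haD⟩ := by
      rw [← hk]
      exact (Commute.refl _).zpow_right k
    have h2 := congrArg Subtype.val h1.eq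
    simp only [Subgroup.coe_mul] at h2
    apply hax
    calc a * x = a * x * a * a := by rw [mul_assoc (a * x), haa, mul_one]
      _ = a * (a * x) * a := by rw [h2]
      _ = x * a := by rw [← mul_assoc, haa, one_mul]
  · rw [D_card h hax]

end basic

theorem glue {G : Type*} {G' : Type*} [Group G] [Group G'] (A B : Subgroup G) (A' B' : Subgroup G')
    (hAB : ∀ a ∈ A, ∀ b ∈ B, a * b = b * a) (hgen : ∀ y : G, ∃ a ∈ A, ∃ b ∈ B, y = a * b)
    (hAB' : ∀ a ∈ A', ∀ b ∈ B', a * b = b * a) (hgen' : ∀ y : G', ∃ a ∈ A', ∃ b ∈ B', y = a * b)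
    (f : A ≃* A') (g : B ≃* B')
    (hfg : ∀ (a : A) (b : B), (a : G) = (b : G) ↔ ((f a : A') : G') = ((g b : B') : G')) :
    Nonempty (G ≃* G') := by
  have hc : ∀ (m : A) (n : B), Commute (A.subtype m) (B.subtype n) :=
    fun a b => hAB a a.2 b b.2
  have hc' : ∀ (m : A) (n : B), Commute ((A'.subtype.comp f.toMonoidHom) m)
      ((B'.subtype.comp g.toMonoidHom) n) :=
    fun a b => hAB' _ (f a).2 _ (g b).2
  have hμsurj : Function.Surjective (MonoidHom.noncommCoprod A.subtype B.subtype hc) := by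
    intro y
    obtain ⟨a, ha, b, hb, rfl⟩ := hgen y
    exact ⟨(⟨a, ha⟩, ⟨b, hb⟩), by simp [MonoidHom.noncommCoprod_apply]⟩
  have hker : (MonoidHom.noncommCoprod A.subtype B.subtype hc).ker ≤
      (MonoidHom.noncommCoprod (A'.subtype.comp f.toMonoidHom) (B'.subtype.comp g.toMonoidHom)
        hc').ker := by
    rintro ⟨a, b⟩ hab
    rw [MonoidHom.mem_ker, MonoidHom.noncommCoprod_apply] at hab ⊢
    have h1 : (a : G) = ((b⁻¹ : B) : G) := by
      rw [Subgroup.coe_inv]
      exact eq_inv_of_mul_eq_one_left hab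
    have h2 := (hfg a b⁻¹).1 h1
    show ((f a : A') : G') * ((g b : B') : G') = 1
    rw [h2, map_inv, Subgroup.coe_inv, inv_mul_cancel]
  have hΨ : ∀ p : A × B, MonoidHom.liftOfSurjective _ hμsurj
      ⟨MonoidHom.noncommCoprod (A'.subtype.comp f.toMonoidHom) (B'.subtype.comp g.toMonoidHom)
        hc', hker⟩
      (MonoidHom.noncommCoprod A.subtype B.subtype hc p) =
      ((f p.1 : A') : G') * ((g p.2 : B') : G') := by
    intro p
    rw [MonoidHom.liftOfRightInverse_comp_apply]
    rfl
  refine ⟨MulEquiv.ofBijective (MonoidHom.liftOfSurjective _ hμsurj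
      ⟨MonoidHom.noncommCoprod (A'.subtype.comp f.toMonoidHom) (B'.subtype.comp g.toMonoidHom)
        hc', hker⟩) ⟨?_, ?_⟩⟩
  · rw [injective_iff_map_eq_one]
    intro y hy
    obtain ⟨p, rfl⟩ := hμsurj y
    rw [hΨ] at hy
    have h1 : ((f p.1 : A') : G') = ((g (p.2)⁻¹ : B') : G') := by
      rw [map_inv, Subgroup.coe_inv]
      exact eq_inv_of_mul_eq_one_left hy
    have h2 := (hfg p.1 (p.2)⁻¹).2 h1
    rw [MonoidHom.noncommCoprod_apply]
    show (p.1 : G) * (p.2 : G) = 1
    rw [h2, Subgroup.coe_inv, inv_mul_cancel]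
  · intro y'
    obtain ⟨a', ha', b', hb', rfl⟩ := hgen' y'
    refine ⟨MonoidHom.noncommCoprod A.subtype B.subtype hc
      (f.symm ⟨a', ha'⟩, g.symm ⟨b', hb'⟩), ?_⟩
    rw [hΨ]
    simp

section gluing
variable {E : Type*} [Group E] {z : E} {E' : Type*} [Group E'] {z' : E'}

theorem iso_z (h : ES E z) (H : Subgroup E) (H' : Subgroup E')
    (hz : z ∈ H) (hz' : z' ∈ H')
    (hH' : ∀ w ∈ H', (∀ y ∈ H', w * y = y * w) → w = 1 ∨ w = z')
    (φ : H ≃* H') : φ ⟨z, hz⟩ = ⟨z', hz'⟩ := by
  have h1 : ∀ y ∈ H', ((φ ⟨z, hz⟩ : H') : E') * y = y * (φ ⟨z, hz⟩ : H') := by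
    intro y hy
    obtain ⟨y₀, hy₀⟩ := φ.surjective ⟨y, hy⟩
    have h2 : (⟨z, hz⟩ : H) * y₀ = y₀ * ⟨z, hz⟩ := Subtype.ext (h.cen y₀)
    have h3 := congrArg φ h2
    rw [map_mul, map_mul, hy₀] at h3
    exact congrArg Subtype.val h3
  rcases hH' _ (φ ⟨z, hz⟩ : H').2 h1 with h2 | h2
  · exfalso
    have h3 : φ ⟨z, hz⟩ = 1 := Subtype.ext h2
    rw [map_eq_one_iff φ φ.injective] at h3
    exact h.ne1 (congrArg Subtype.val h3)
  · exact Subtype.ext h2

theorem D_center (h : ES E z) {a x : E} (hax : a * x ≠ x * a) :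
    ∀ w ∈ Subgroup.closure ({a, x} : Set E),
      (∀ y ∈ Subgroup.closure ({a, x} : Set E), w * y = y * w) → w = 1 ∨ w = z := by
  intro w hw hwc
  have haD : a ∈ Subgroup.closure ({a, x} : Set E) := Subgroup.subset_closure (Or.inl rfl)
  have hxD : x ∈ Subgroup.closure ({a, x} : Set E) := Subgroup.subset_closure (Or.inr rfl)
  apply D_inter h hax w hw
  rw [mem_E1]
  exact ⟨(hwc a haD).symm, (hwc x hxD).symm⟩

theorem E1_center (h : ES E z) {a x : E} (hax : a * x ≠ x * a) :
    ∀ w ∈ E1 h a x, (∀ y ∈ E1 h a x, w * y = y * w) → w = 1 ∨ w = z := by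
  intro w hw hwc
  have h1 := (ES_E1 h hax).ctr ⟨w, hw⟩ (by
    intro y
    exact Subtype.ext (hwc y y.2))
  rcases h1 with h1 | h1
  · exact Or.inl (congrArg Subtype.val h1)
  · exact Or.inr (congrArg Subtype.val h1)

theorem glue_ES [Finite E] [Finite E'] (h : ES E z) (h' : ES E' z') {a x : E} {a' x' : E'}
    (haa : a * a = 1) (hxx : x * x = 1) (hax : a * x ≠ x * a)
    (haa' : a' * a' = 1) (hxx' : x' * x' = 1) (hax' : a' * x' ≠ x' * a')
    (g : E1 h a x ≃* E1 h' a' x') : Nonempty (E ≃* E') := by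
  obtain ⟨e⟩ := D_dihedral h haa hxx hax
  obtain ⟨e'⟩ := D_dihedral h' haa' hxx' hax'
  have hfz := iso_z h _ _ (D_z_mem h hax) (D_z_mem h' hax') (D_center h' hax') (e.trans e'.symm)
  have hgz := iso_z h _ _ (z_mem_E1 h a x) (z_mem_E1 h' a' x') (E1_center h' hax') g
  apply glue (Subgroup.closure ({a, x} : Set E)) (E1 h a x) (Subgroup.closure ({a', x'} : Set E'))
    (E1 h' a' x') (D_comm h a x) (D_gen h hax) (D_comm h' a' x') (D_gen h' hax')
    (e.trans e'.symm) g
  intro d b
  constructor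
  · intro hdb
    have hbD : (b : E) ∈ Subgroup.closure ({a, x} : Set E) := hdb ▸ d.2
    rcases D_inter h hax _ hbD b.2 with h1 | h1
    · have hb1 : b = 1 := Subtype.ext h1
      have hd1 : d = 1 := Subtype.ext (hdb.trans h1)
      rw [hb1, hd1, map_one, map_one]
      rfl
    · have hb1 : b = ⟨z, z_mem_E1 h a x⟩ := Subtype.ext h1
      have hd1 : d = ⟨z, D_z_mem h hax⟩ := Subtype.ext (hdb.trans h1)
      rw [hb1, hd1, hfz, hgz]
  · intro hdb
    have hbD : ((g b : E1 h' a' x') : E') ∈ Subgroup.closure ({a', x'} : Set E') :=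
      hdb ▸ ((e.trans e'.symm) d).2
    rcases D_inter h' hax' _ hbD (g b).2 with h1 | h1
    · have hb1 : g b = 1 := Subtype.ext h1
      have hd1 : (e.trans e'.symm) d = 1 := Subtype.ext (hdb.trans h1)
      rw [map_eq_one_iff g g.injective] at hb1
      rw [map_eq_one_iff _ (e.trans e'.symm).injective] at hd1
      rw [hb1, hd1]
      rfl
    · have hb1 : g b = ⟨z', z_mem_E1 h' a' x'⟩ := Subtype.ext h1
      have hd1 : (e.trans e'.symm) d = ⟨z', D_z_mem h' hax'⟩ := Subtype.ext (hdb.trans h1)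
      rw [← hgz] at hb1
      rw [← hfz] at hd1
      rw [g.injective hb1, (e.trans e'.symm).injective hd1]

end gluing

section main
variable {E : Type*} [Group E] {z : E}

theorem adjust_x (h : ES E z) {a x₀ : E} (haa : a * a = 1) (hax : a * x₀ ≠ x₀ * a) :
    ∃ x : E, x * x = 1 ∧ a * x ≠ x * a := by
  rcases h.sqs x₀ with h1 | h1
  · exact ⟨x₀, h1, hax⟩
  · refine ⟨a * x₀, ?_, ?_⟩
    · calc (a * x₀) * (a * x₀) = a * (x₀ * a) * x₀ := by simp only [mul_assoc]
        _ = a * (z * (a * x₀)) * x₀ := by rw [h.ncomm' hax]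
        _ = z * ((a * a) * (x₀ * x₀)) := by
          rw [← mul_assoc a z, ← h.cen a]; simp only [mul_assoc]
        _ = 1 := by rw [haa, h1, one_mul, h.sq]
    · intro hc
      apply hax
      have : a * (a * x₀) = a * (x₀ * a) := by rw [hc, mul_assoc]
      exact mul_left_cancel this

theorem split_plus [Finite E] (h : ES E z) (n : ℕ)
    (hP : ∃ A : Subgroup E, EA A ∧ 2 * 2 ^ (n + 1) ≤ Nat.card A) :
    ∃ a x : E, a * a = 1 ∧ x * x = 1 ∧ a * x ≠ x * a ∧
      ∃ A₁ : Subgroup (E1 h a x), EA A₁ ∧ 2 * 2 ^ n ≤ Nat.card A₁ := by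
  obtain ⟨A, hA, hcA⟩ := hP
  have h4 : 2 < Nat.card A := by
    have : 2 ≤ 2 ^ (n + 1) := by
      calc 2 = 2 ^ 1 := by norm_num
        _ ≤ 2 ^ (n + 1) := Nat.pow_le_pow_right (by norm_num) (by omega)
    omega
  obtain ⟨a, haA, ha1, haz⟩ : ∃ a ∈ A, a ≠ 1 ∧ a ≠ z := by
    by_contra hcon
    push Not at hcon
    have hsub : (A : Set E) ⊆ {1, z} := by
      intro a ha
      by_cases h1 : a = 1
      · left; exact h1
      · right; exact hcon a ha h1
    have h1 : Nat.card A = (A : Set E).ncard := Nat.card_coe_set_eq _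
    have h2 : (A : Set E).ncard ≤ ({1, z} : Set E).ncard := Set.ncard_le_ncard hsub (Set.toFinite _)
    have h3 : ({1, z} : Set E).ncard ≤ 2 := by
      have := Set.ncard_insert_le (1 : E) {z}
      rw [Set.ncard_singleton] at this
      exact this
    omega
  have haa : a * a = 1 := hA.2 a haA
  obtain ⟨x₀, hax₀⟩ : ∃ x₀ : E, a * x₀ ≠ x₀ * a := by
    by_contra hcon
    push Not at hcon
    rcases h.ctr a hcon with h1 | h1
    · exact ha1 h1
    · exact haz h1
  obtain ⟨x, hxx, hax⟩ := adjust_x h haa hax₀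
  refine ⟨a, x, haa, hxx, hax, A.subgroupOf (E1 h a x), ⟨?_, ?_⟩, ?_⟩
  · intro u hu v hv
    exact Subtype.ext (hA.1 u hu v hv)
  · intro u hu
    exact Subtype.ext (hA.2 u hu)
  · have := card_le_two_mul h a x A hA.1 haA
    rw [pow_succ] at hcA
    omega

theorem split_minus [Finite E] (h : ES E z) (n : ℕ) (hcard : Nat.card E = 2 * 4 ^ (n + 2))
    (hP : ¬ ∃ A : Subgroup E, EA A ∧ 2 * 2 ^ (n + 2) ≤ Nat.card A) :
    ∃ a x : E, a * a = 1 ∧ x * x = 1 ∧ a * x ≠ x * a ∧
      ¬ ∃ A₁ : Subgroup (E1 h a x), EA A₁ ∧ 2 * 2 ^ (n + 1) ≤ Nat.card A₁ := by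
  have h8 : 8 < Nat.card E := by
    rw [hcard]
    have : 4 ^ 2 ≤ 4 ^ (n + 2) := Nat.pow_le_pow_right (by norm_num) (by omega)
    omega
  obtain ⟨a, x₀, haa, hax₀⟩ := exists_nc_inv h h8
  obtain ⟨x, hxx, hax⟩ := adjust_x h haa hax₀
  refine ⟨a, x, haa, hxx, hax, ?_⟩
  rintro ⟨A₁, hA₁, hcA₁⟩
  obtain ⟨A, hA, hcA⟩ := EA_extend (E1 h a x) A₁ hA₁ a haa
    (fun w hw => ((mem_E1 h a x w).1 hw).1) (a_not_mem_E1 h hax)
  apply hP
  refine ⟨A, hA, ?_⟩
  rw [pow_succ] at hcA₁ ⊢
  omega

theorem q8_case [Finite E] (h : ES E z) (hcard : Nat.card E = 8)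
    (hP : ¬ ∃ A : Subgroup E, EA A ∧ 2 * 2 ^ 1 ≤ Nat.card A) :
    Nonempty (E ≃* QuaternionGroup 2) := by
  have hsq : ∀ u w : E, u * w ≠ w * u → u * u = z := by
    intro u w huw
    rcases h.sqs u with h1 | h1
    · exfalso
      apply hP
      refine ⟨Subgroup.closure {u, z}, EA_closure _ ?_ ?_, ?_⟩
      · rintro s (rfl | rfl) t (rfl | rfl)
        · rfl
        · exact (h.cen _).symm
        · exact h.cen _
        · rfl
      · rintro s (rfl | rfl)
        · exact h1
        · exact h.sq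
      · have e1 := card_ge_double (H := (⊥ : Subgroup E)) (K := Subgroup.closure {z}) bot_le
          (g := z) (Subgroup.subset_closure rfl) (by rw [Subgroup.mem_bot]; exact h.ne1)
        have e2 := card_ge_double (H := Subgroup.closure {z}) (K := Subgroup.closure {u, z})
          (Subgroup.closure_mono (by intro t ht; exact Or.inr ht))
          (g := u) (Subgroup.subset_closure (Or.inl rfl)) (by
            intro hu
            have hle : Subgroup.closure {z} ≤ Subgroup.center E := by
              rw [Subgroup.closure_le]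
              intro t ht
              rw [Set.mem_singleton_iff] at ht
              rw [ht, SetLike.mem_coe, Subgroup.mem_center_iff]
              intro g
              exact (h.cen g).symm
            have := hle hu
            rw [Subgroup.mem_center_iff] at this
            exact huw (this w).symm)
        simp only [Subgroup.card_bot] at e1
        omega
    · exact h1
  obtain ⟨x, y, hxy⟩ := exists_noncomm h (by omega)
  have hxx := hsq x y hxy
  have hyy := hsq y x (fun hc => hxy hc.symm)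
  apply Cfsg.Agent.Helper2.nonempty_mulEquiv_quaternion 2 (by norm_num) x y
  · have : Fact (Nat.Prime 2) := ⟨Nat.prime_two⟩
    have := orderOf_eq_prime_pow (p := 2) (n := 1) (x := x) (by
        rw [pow_one, pow_two, hxx]
        exact h.ne1) (by
        have : x ^ 2 ^ (1 + 1) = (x * x) * (x * x) := by
          norm_num [pow_succ, mul_assoc]
        rw [this, hxx, h.sq])
    simpa using this
  · rw [pow_two, hxx, hyy]
  · rw [h.ncomm' hxy, mul_inv_eq_iff_eq_mul, eq_comm, inv_mul_eq_iff_eq_mul]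
    rw [← mul_assoc x z, ← h.cen x, mul_assoc z x, ← mul_assoc x x, hxx, ← mul_assoc, h.sq, one_mul]
  · rw [hcard]

theorem iso_main.{u, v} : ∀ n : ℕ, ∀ (E : Type u) [Group E] [Finite E] (z : E)
    (E' : Type v) [Group E'] [Finite E'] (z' : E'), ES E z → ES E' z' →
    Nat.card E = 2 * 4 ^ n → Nat.card E' = 2 * 4 ^ n →
    ((∃ A : Subgroup E, EA A ∧ 2 * 2 ^ n ≤ Nat.card A) ↔
      (∃ A : Subgroup E', EA A ∧ 2 * 2 ^ n ≤ Nat.card A)) →
    Nonempty (E ≃* E') := by
  intro n
  induction n with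
  | zero =>
    intro E _ _ z E' _ _ z' h h' hc hc' _
    have : Fact (Nat.Prime 2) := ⟨Nat.prime_two⟩
    exact ⟨mulEquivOfPrimeCardEq (p := 2) (by simpa using hc) (by simpa using hc')⟩
  | succ n ih =>
    intro E _ _ z E' _ _ z' h h' hc hc' hiff
    by_cases hP : ∃ A : Subgroup E, EA A ∧ 2 * 2 ^ (n + 1) ≤ Nat.card A
    · have hP' := hiff.1 hP
      obtain ⟨a, x, haa, hxx, hax, hA₁⟩ := split_plus h n hP
      obtain ⟨a', x', haa', hxx', hax', hA₁'⟩ := split_plus h' n hP'
      have hc1 := card_E1 h hax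
      have hE1 : Nat.card (E1 h a x) = 2 * 4 ^ n := by
        rw [hc, pow_succ] at hc1
        omega
      have hc1' := card_E1 h' hax'
      have hE1' : Nat.card (E1 h' a' x') = 2 * 4 ^ n := by
        rw [hc', pow_succ] at hc1'
        omega
      obtain ⟨g⟩ := ih (E1 h a x) _ (E1 h' a' x') _ (ES_E1 h hax) (ES_E1 h' hax') hE1 hE1'
        ⟨fun _ => hA₁', fun _ => hA₁⟩
      exact glue_ES h h' haa hxx hax haa' hxx' hax' g
    · have hP' : ¬ ∃ A : Subgroup E', EA A ∧ 2 * 2 ^ (n + 1) ≤ Nat.card A := fun hc => hP (hiff.2 hc)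
      rcases Nat.eq_zero_or_pos n with rfl | hn
      · obtain ⟨e⟩ := q8_case h (by simpa using hc) hP
        obtain ⟨e'⟩ := q8_case h' (by simpa using hc') hP'
        exact ⟨e.trans e'.symm⟩
      · obtain ⟨m, rfl⟩ : ∃ m, n = m + 1 := ⟨n - 1, by omega⟩
        obtain ⟨a, x, haa, hxx, hax, hA₁⟩ := split_minus h m hc hP
        obtain ⟨a', x', haa', hxx', hax', hA₁'⟩ := split_minus h' m hc' hP'
        have hc1 := card_E1 h hax
        have hE1 : Nat.card (E1 h a x) = 2 * 4 ^ (m + 1) := by
          rw [hc, pow_succ] at hc1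
          omega
        have hc1' := card_E1 h' hax'
        have hE1' : Nat.card (E1 h' a' x') = 2 * 4 ^ (m + 1) := by
          rw [hc', pow_succ] at hc1'
          omega
        obtain ⟨g⟩ := ih (E1 h a x) _ (E1 h' a' x') _ (ES_E1 h hax) (ES_E1 h' hax') hE1 hE1'
          ⟨fun hc => absurd hc hA₁, fun hc => absurd hc hA₁'⟩
        exact glue_ES h h' haa hxx hax haa' hxx' hax' g

theorem ES_of_extraspecial [Finite E] (hE : Cfsg.IsExtraspecial 2 E) : ∃ z : E, ES E z := by
  obtain ⟨⟨hp, hfr, hcm⟩, hcard2⟩ := hE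
  have : Fact (Nat.Prime 2) := ⟨Nat.prime_two⟩
  obtain ⟨y, hy1, hyu⟩ := (Nat.card_eq_two_iff' (1 : Subgroup.center E)).1 hcard2
  have hctr : ∀ w : E, w ∈ Subgroup.center E → w = 1 ∨ w = (y : E) := by
    intro w hw
    by_cases h1 : w = 1
    · exact Or.inl h1
    · right
      have := hyu ⟨w, hw⟩ (by
        intro hc
        exact h1 (congrArg Subtype.val hc))
      exact congrArg Subtype.val this
  have hyne : (y : E) ≠ 1 := by
    intro hc
    exact hy1 (Subtype.ext hc)
  have hsqs : ∀ u : E, u * u = 1 ∨ u * u = (y : E) := by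
    intro u
    apply hctr
    rw [← hfr, ← pow_two]
    exact Cfsg.Agent.Helper21.pow_mem_frattini_of_isPGroup hp u
  have hycen : ∀ g : E, (y : E) * g = g * y := by
    intro g
    have := y.2
    rw [Subgroup.mem_center_iff] at this
    exact (this g).symm
  refine ⟨(y : E), hyne, hycen, ?_, hsqs, ?_, ?_⟩
  · rcases hsqs (y : E) with h1 | h1
    · exact h1
    · exfalso
      apply hyne
      have : (y : E) * y = y * 1 := by rw [h1, mul_one]
      exact mul_left_cancel this
  · intro u v
    have hmem : ⁅u, v⁆ ∈ Subgroup.center E := by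
      rw [← hcm, commutator_def]
      exact Subgroup.commutator_mem_commutator (Subgroup.mem_top u) (Subgroup.mem_top v)
    rcases hctr _ hmem with h1 | h1
    · left
      rw [commutatorElement_eq_one_iff_mul_comm] at h1
      exact h1
    · right
      rw [commutatorElement_def, mul_inv_eq_iff_eq_mul, mul_inv_eq_iff_eq_mul] at h1
      rw [h1, mul_assoc]
  · intro w hw
    apply hctr
    rw [Subgroup.mem_center_iff]
    intro g
    exact (hw g).symm

theorem EA_of_comm (A : Subgroup E) (h1 : IsMulCommutative A) (h2 : ∀ a ∈ A, a ^ 2 = 1) : EA A := by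
  refine ⟨?_, ?_⟩
  · intro u hu v hv
    have := isMulCommutative_iff.1 h1 ⟨u, hu⟩ ⟨v, hv⟩
    exact congrArg Subtype.val this
  · intro u hu
    rw [← pow_two]
    exact h2 u hu

theorem comm_of_EA (A : Subgroup E) (h : EA A) : IsMulCommutative A ∧ ∀ a ∈ A, a ^ 2 = 1 := by
  refine ⟨isMulCommutative_iff.2 ?_, ?_⟩
  · intro u v
    exact Subtype.ext (h.1 u u.2 v v.2)
  · intro u hu
    rw [pow_two]
    exact h.2 u hu

theorem plus_iff [Finite E] (n : ℕ) (hn : Nat.card E = 2 ^ (2 * n + 1)) :
    (∃ A : Subgroup E, EA A ∧ 2 * 2 ^ n ≤ Nat.card A) ↔ ¬ Cfsg.PRankLE 2 n E := by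
  constructor
  · rintro ⟨A, hA, hcA⟩ hP
    have := hP A (comm_of_EA A hA).1 (comm_of_EA A hA).2
    have : 0 < 2 ^ n := Nat.pos_of_ne_zero (by positivity)
    omega
  · intro hP
    unfold Cfsg.PRankLE at hP
    push Not at hP
    obtain ⟨A, hA1, hA2, hcA⟩ := hP
    refine ⟨A, EA_of_comm A hA1 hA2, ?_⟩
    have hdvd : Nat.card A ∣ 2 ^ (2 * n + 1) := hn ▸ Subgroup.card_subgroup_dvd_card A
    obtain ⟨k, -, hk⟩ := (Nat.dvd_prime_pow Nat.prime_two).1 hdvd
    rw [hk] at hcA ⊢
    have : n < k := (Nat.pow_lt_pow_iff_right (by norm_num)).1 hcA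
    calc 2 * 2 ^ n = 2 ^ (n + 1) := by rw [pow_succ]; ring
      _ ≤ 2 ^ k := Nat.pow_le_pow_right (by norm_num) this

end main

/-- Let E be an extraspecial 2-group of order 2^(2n+1). Then the largest elementary abelian subgroups of E have order 2^n or 2^(n+1); and two extraspecial 2-groups of the same order whose largest elementary abelian subgroups have the same order are isomorphic. -/
theorem result {E : Type*} [Group E] [Finite E] (hE : Cfsg.IsExtraspecial 2 E) (n : ℕ) (hn : Nat.card E = 2 ^ (2 * n + 1)) : ((Cfsg.PRankLE 2 n E ∧ ¬ Cfsg.PRankLE 2 (n - 1) E) ∨ (Cfsg.PRankLE 2 (n + 1) E ∧ ¬ Cfsg.PRankLE 2 n E)) ∧ ∀ (E' : Type*) [Group E'] [Finite E'], Cfsg.IsExtraspecial 2 E' → Nat.card E' = Nat.card E → (∀ k : ℕ, Cfsg.PRankLE 2 k E ↔ Cfsg.PRankLE 2 k E') → Nonempty (E ≃* E') := by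
  obtain ⟨z, h⟩ := ES_of_extraspecial hE
  have hcard : Nat.card E = 2 * 4 ^ n := by
    rw [hn, pow_succ, pow_mul]
    norm_num
    ring
  have hn1 : 1 ≤ n := by
    by_contra hc
    have hn0 : n = 0 := by omega
    subst hn0
    obtain ⟨⟨hp, hfr, hcm⟩, hcard2⟩ := hE
    have h1 : Subgroup.center E = ⊤ := by
      apply Subgroup.eq_top_of_card_eq
      rw [hcard2, hn]
      norm_num
    have h2 : commutator E = ⊥ := by
      rw [commutator_def, Subgroup.commutator_eq_bot_iff_le_centralizer, Subgroup.coe_top,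
        Subgroup.centralizer_univ, h1]
    rw [hcm, h1] at h2
    have h3 : Nat.card (⊤ : Subgroup E) = 1 := by rw [h2, Subgroup.card_bot]
    rw [Subgroup.card_top, hn] at h3
    norm_num at h3
  have hU := upper n E z h hcard
  obtain ⟨A₀, hA₀, hcA₀⟩ := lower n E z h hcard
  refine ⟨?_, ?_⟩
  · by_cases hP : ∃ A : Subgroup E, EA A ∧ 2 * 2 ^ n ≤ Nat.card A
    · right
      refine ⟨?_, (plus_iff n hn).1 hP⟩
      intro A hA1 hA2
      have := hU A (EA_of_comm A hA1 hA2).1
      rw [pow_succ]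
      omega
    · left
      refine ⟨?_, ?_⟩
      · by_contra hc
        exact hP ((plus_iff n hn).2 hc)
      · intro hc
        have := hc A₀ (comm_of_EA A₀ hA₀).1 (comm_of_EA A₀ hA₀).2
        have h2 : 2 ^ (n - 1) < 2 ^ n := Nat.pow_lt_pow_right (by norm_num) (by omega)
        omega
  · intro E' _ _ hE' hcE' hrank
    obtain ⟨z', h'⟩ := ES_of_extraspecial hE'
    have hn' : Nat.card E' = 2 ^ (2 * n + 1) := hcE'.trans hn
    apply iso_main n E z E' z' h h' hcard (hcE'.trans hcard)
    rw [plus_iff n hn, plus_iff n hn', hrank n]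

end Cfsg.Agent.S3763
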