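import Mathlib
import Cfsg.Statements.S1185
import Cfsg.Agent.Lib.Helper6.Dihedral

set_option autoImplicit false
open Cfsg

namespace Cfsg.Agent.S1185

open Cfsg.Agent.Helper6

/-- if `z` inverts `k` and `g⁻¹ k` centralizes `z` then `k * k = (g z g⁻¹) * z`. -/
theorem sq_eq {G : Type*} [Group G] (z : G) (hzz : z * z = 1) (g k : G) (hinv : z * k * z⁻¹ = k⁻¹)
    (hc : g⁻¹ * k ∈ Subgroup.centralizer ({z} : Set G)) : k * k = (g * z * g⁻¹) * z := by
  rw [Subgroup.mem_centralizer_singleton_iff] at hc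
  have hzi : z⁻¹ = z := inv_eq_self_of_mul_self hzz
  -- k z k⁻¹ = g z g⁻¹
  have h1 : k * z * k⁻¹ = g * z * g⁻¹ := by
    have : z = (g⁻¹ * k) * z * (g⁻¹ * k)⁻¹ := by
      rw [hc]; group
    calc k * z * k⁻¹ = g * ((g⁻¹ * k) * z * (g⁻¹ * k)⁻¹) * g⁻¹ := by group
      _ = g * z * g⁻¹ := by rw [← this]
  rw [← h1]
  -- k z k⁻¹ z = k (z k⁻¹ z⁻¹) = k k
  have h2 : z * k⁻¹ * z⁻¹ = k := by
    have := congrArg Inv.inv hinv
    rw [inv_inv] at this
    calc z * k⁻¹ * z⁻¹ = (z * k * z⁻¹)⁻¹ := by group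
      _ = k := this
  calc k * k = k * (z * k⁻¹ * z⁻¹) := by rw [h2]
    _ = k * z * k⁻¹ * z := by rw [hzi]; group

/-- Let z be an isolated involution of the finite group G with centralizer C. Then for every g ∈ G there is exactly one element k in the coset gC that has odd order and is inverted by z. -/
theorem result {G : Type*} [Group G] [Finite G] (z : G) (hz : Cfsg.IsIsolatedInvolution z) (g : G) : ∃! k : G, (Odd (orderOf k) ∧ z * k * z⁻¹ = k⁻¹) ∧ g⁻¹ * k ∈ Subgroup.centralizer ({z} : Set G) := by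
  have hzz : z * z = 1 := isolated_mul_self hz
  have hww : (g * z * g⁻¹) * (g * z * g⁻¹) = 1 := isolated_mul_self (isolated_conj hz g)
  obtain ⟨j, hj⟩ := isolated_odd_order hz g
  have hpow : (z * (g * z * g⁻¹)) ^ (2 * j + 1) = 1 := by rw [← hj]; exact pow_orderOf_eq_one _
  have hoddk : Odd (orderOf ((z * (g * z * g⁻¹)) ^ j)) := by
    have hdvd : orderOf ((z * (g * z * g⁻¹)) ^ j) ∣ orderOf (z * (g * z * g⁻¹)) := orderOf_pow_dvd j
    have : Odd (orderOf (z * (g * z * g⁻¹))) := ⟨j, hj⟩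
    exact Odd.of_dvd_nat this hdvd
  refine ⟨(z * (g * z * g⁻¹)) ^ j, ⟨⟨hoddk, conj_pow_inv z _ hzz hww j⟩, ?_⟩, ?_⟩
  · rw [Subgroup.mem_centralizer_singleton_iff]
    have h1 := conj_of_odd_order z (g * z * g⁻¹) hzz hww j hpow
    set k := (z * (g * z * g⁻¹)) ^ j with hk
    -- k z k⁻¹ = g z g⁻¹
    calc g⁻¹ * k * z = g⁻¹ * (k * z * k⁻¹) * k := by group
      _ = g⁻¹ * (g * z * g⁻¹) * k := by rw [h1]
      _ = z * (g⁻¹ * k) := by group
  · rintro k' ⟨⟨hodd', hinv'⟩, hc'⟩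
    apply eq_of_sq_eq_of_odd hodd' hoddk
    rw [sq_eq z hzz g k' hinv' hc']
    -- ((z w)^j)^2 = w z
    have h3 : (z * (g * z * g⁻¹)) ^ j * (z * (g * z * g⁻¹)) ^ j = (z * (g * z * g⁻¹))⁻¹ := by
      rw [← pow_add, ← two_mul]
      have : (z * (g * z * g⁻¹)) ^ (2 * j) * (z * (g * z * g⁻¹)) = 1 := by rw [← pow_succ]; exact hpow
      exact eq_inv_of_mul_eq_one_left this
    rw [h3, mul_inv_rev, inv_eq_self_of_mul_self hzz, inv_eq_self_of_mul_self hww]

end Cfsg.Agent.S1185
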