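import Mathlib
import Cfsg.Statements.S1186
import Cfsg.Agent.Lib.Helper6.Dihedral
import Cfsg.Agent.Lib.Helper6.Count
import Cfsg.Agent.S1180
import Cfsg.Agent.S1185

set_option autoImplicit false
open Cfsg

namespace Cfsg.Agent.S1186

open Cfsg.Agent.Helper6

section Mid

variable {G : Type*} [Group G]

/-- the involution `(x y)^j x` of the dihedral group generated by `x, y` -/
def mid (j : ℕ) (x y : G) : G := (x * y) ^ j * x

theorem mid_mul_self (x y : G) (hx : x * x = 1) (hy : y * y = 1) (j : ℕ) :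
    mid j x y * mid j x y = 1 := by
  unfold mid
  have h := conj_pow_inv x y hx hy j
  rw [inv_eq_self_of_mul_self hx] at h
  calc (x * y) ^ j * x * ((x * y) ^ j * x) = (x * y) ^ j * (x * (x * y) ^ j * x) := by group
    _ = 1 := by rw [h, mul_inv_cancel]

theorem mid_conj (x y : G) (hx : x * x = 1) (hy : y * y = 1) (j : ℕ) (hj : (x * y) ^ (2 * j + 1) = 1) :
    mid j x y * x * mid j x y = y := by
  have hi : (mid j x y)⁻¹ = mid j x y := inv_eq_self_of_mul_self (mid_mul_self x y hx hy j)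
  have hc := conj_of_odd_order x y hx hy j hj
  calc mid j x y * x * mid j x y = mid j x y * x * (mid j x y)⁻¹ := by rw [hi]
    _ = (x * y) ^ j * x * ((x * y) ^ j)⁻¹ := by unfold mid; group
    _ = y := hc

theorem mid_fixed (x y : G) (hx : x * x = 1) (hy : y * y = 1) (j : ℕ) (hj : (x * y) ^ (2 * j + 1) = 1)
    (u : G) (hux : u * x * u⁻¹ = y) (huy : u * y * u⁻¹ = x) : u * mid j x y * u⁻¹ = mid j x y := by
  unfold mid
  have hxi := inv_eq_self_of_mul_self hx
  have hyi := inv_eq_self_of_mul_self hy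
  have h1 : u * (x * y) * u⁻¹ = (x * y)⁻¹ := by
    calc u * (x * y) * u⁻¹ = (u * x * u⁻¹) * (u * y * u⁻¹) := by group
      _ = y * x := by rw [hux, huy]
      _ = (x * y)⁻¹ := by rw [mul_inv_rev, hxi, hyi]
  have h2 : u * (x * y) ^ j * u⁻¹ = ((x * y) ^ j)⁻¹ := by
    rw [← conj_pow, h1, inv_pow]
  have h3 : (x * y) ^ j * (x * y) ^ j = (x * y)⁻¹ := by
    rw [← pow_add, ← two_mul]
    have : (x * y) ^ (2 * j) * (x * y) = 1 := by rw [← pow_succ]; exact hj
    exact eq_inv_of_mul_eq_one_left this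
  have h4 : y = (x * y)⁻¹ * x := by rw [mul_inv_rev, hxi, hyi, mul_assoc, hx, mul_one]
  calc u * ((x * y) ^ j * x) * u⁻¹ = (u * (x * y) ^ j * u⁻¹) * (u * x * u⁻¹) := by group
    _ = ((x * y) ^ j)⁻¹ * y := by rw [h2, hux]
    _ = ((x * y) ^ j)⁻¹ * ((x * y)⁻¹ * x) := by rw [← h4]
    _ = ((x * y) ^ j)⁻¹ * ((x * y) ^ j * (x * y) ^ j * x) := by rw [h3]
    _ = (x * y) ^ j * x := by group

theorem mid_equivariant (a x y : G) (j : ℕ) :
    a * mid j x y * a⁻¹ = mid j (a * x * a⁻¹) (a * y * a⁻¹) := by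
  unfold mid
  have : a * x * a⁻¹ * (a * y * a⁻¹) = a * (x * y) * a⁻¹ := by group
  rw [this, conj_pow]
  group

theorem mid_isConj (x y : G) (hx : x * x = 1) (hy : y * y = 1) (j : ℕ) (hj : (x * y) ^ (2 * j + 1) = 1) :
    ∃ u : G, mid j x y = u * x * u⁻¹ ∨ mid j x y = u * y * u⁻¹ := by
  have h := conj_pow_inv x y hx hy j
  have hxi := inv_eq_self_of_mul_self hx
  rw [hxi] at h
  have h2 : ((x * y) ^ j)⁻¹ = (x * y) ^ (j + 1) := by
    apply inv_eq_of_mul_eq_one_right
    rw [← pow_add]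
    have : j + (j + 1) = 2 * j + 1 := by ring
    rw [this, hj]
  have h3 : mid j x y = x * (x * y) ^ (j + 1) := by
    unfold mid
    rw [← h2, ← h]
    calc (x * y) ^ j * x = (x * x) * ((x * y) ^ j * x) := by rw [hx, one_mul]
      _ = x * (x * (x * y) ^ j * x) := by group
  obtain ⟨u, -, hu⟩ := dihedral_conj x y hx hy (j + 1)
  exact ⟨u, by rw [h3]; exact hu⟩

/-- the midpoint of `x` and `s x s⁻¹` -/
noncomputable def midS (s x : G) : G := mid (orderOf (x * (s * x * s⁻¹)) / 2) x (s * x * s⁻¹)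

end Mid

section Main

variable {G : Type*} [Group G] [Finite G]

/-- `K ≅ X` via `k ↦ k z`, compatibly with a predicate `T`. -/
theorem card_K_eq (z : G) (hz : Cfsg.IsIsolatedInvolution z) (T : G → Prop) (hT : ∀ k, T k ↔ T (k * z)) :
    Nat.card {k : G // (Odd (orderOf k) ∧ z * k * z⁻¹ = k⁻¹) ∧ T k} =
      Nat.card {x : G // (∃ g : G, x = g * z * g⁻¹) ∧ T x} := by
  have hzz : z * z = 1 := isolated_mul_self hz
  have hzi : z⁻¹ = z := inv_eq_self_of_mul_self hzz
  apply card_eq_of_rel {k : G | (Odd (orderOf k) ∧ z * k * z⁻¹ = k⁻¹) ∧ T k}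
    {x : G | (∃ g : G, x = g * z * g⁻¹) ∧ T x} (fun k x => x = k * z)
  · rintro k ⟨⟨⟨j, hj⟩, hinv⟩, hTk⟩
    refine ⟨k * z, ⟨⟨k ^ (j + 1), ?_⟩, (hT k).mp hTk⟩, rfl⟩
    have hk1 : k ^ (2 * j + 1) = 1 := by rw [← hj]; exact pow_orderOf_eq_one k
    have h1 : z * (k ^ (j + 1))⁻¹ * z⁻¹ = k ^ (j + 1) := by
      have : z * (k ^ (j + 1))⁻¹ * z⁻¹ = ((z * k * z⁻¹) ^ (j + 1))⁻¹ := by
        rw [conj_pow]; group
      rw [this, hinv, inv_pow, inv_inv]
    have h2 : k ^ (j + 1) * k ^ (j + 1) = k := by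
      rw [← pow_add]
      have : j + 1 + (j + 1) = (2 * j + 1) + 1 := by ring
      rw [this, pow_succ, hk1, one_mul]
    calc k * z = k ^ (j + 1) * k ^ (j + 1) * z := by rw [h2]
      _ = k ^ (j + 1) * (z * (k ^ (j + 1))⁻¹ * z⁻¹) * z := by rw [h1]
      _ = k ^ (j + 1) * z * (k ^ (j + 1))⁻¹ := by group
  · rintro x ⟨⟨g, rfl⟩, hTx⟩
    refine ⟨g * z * g⁻¹ * z, ⟨⟨?_, ?_⟩, ?_⟩, ?_⟩
    · have h1 := isolated_odd_order hz g
      have hwi0 := inv_eq_self_of_mul_self (isolated_mul_self (isolated_conj hz g))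
      have h2 : g * z * g⁻¹ * z = (z * (g * z * g⁻¹))⁻¹ := by
        rw [mul_inv_rev, hzi, hwi0]
      rw [h2, orderOf_inv]
      exact h1
    · have hww := isolated_mul_self (isolated_conj hz g)
      have hwi := inv_eq_self_of_mul_self hww
      rw [mul_inv_rev, hzi, hwi]
      calc z * (g * z * g⁻¹ * z) * z = z * (g * z * g⁻¹) * (z * z) := by group
        _ = z * (g * z * g⁻¹) := by rw [hzz, mul_one]
    · rw [hT]
      have : g * z * g⁻¹ * z * z = g * z * g⁻¹ := by rw [mul_assoc, hzz, mul_one]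
      rw [this]
      exact hTx
    · show g * z * g⁻¹ = g * z * g⁻¹ * z * z
      rw [mul_assoc (g * z * g⁻¹), hzz, mul_one]
  · rintro k₁ - k₂ - x - h₁ h₂
    exact mul_right_cancel (h₁.symm.trans h₂)
  · rintro k - x₁ - x₂ - h₁ h₂
    exact h₁.trans h₂.symm

/-- `|G| = |C| |K|`. -/
theorem card_eq_card_C_mul_card_K (z : G) (hz : Cfsg.IsIsolatedInvolution z) :
    Nat.card G = Nat.card (Subgroup.centralizer ({z} : Set G)) *
      Nat.card {k : G // Odd (orderOf k) ∧ z * k * z⁻¹ = k⁻¹} := by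
  rw [← Nat.card_prod]
  symm
  apply Nat.card_congr
  refine Equiv.ofBijective (fun p => (p.2 : G) * (p.1 : G)⁻¹) ⟨?_, ?_⟩
  · rintro ⟨⟨c, hc⟩, ⟨k, hk⟩⟩ ⟨⟨c', hc'⟩, ⟨k', hk'⟩⟩ h
    have h' : k * c⁻¹ = k' * c'⁻¹ := h
    obtain ⟨k₀, -, huniq⟩ := Cfsg.Agent.S1185.result z hz (k * c⁻¹)
    have e1 : k = k₀ := huniq k ⟨hk, by
      have : (k * c⁻¹)⁻¹ * k = c := by group
      rw [this]; exact hc⟩
    have e2 : k' = k₀ := huniq k' ⟨hk', by
      have : (k * c⁻¹)⁻¹ * k' = c' := by rw [h']; group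
      rw [this]; exact hc'⟩
    have ek : k = k' := e1.trans e2.symm
    subst ek
    have ec : c = c' := by
      have := mul_left_cancel h'
      exact inv_injective this
    subst ec
    rfl
  · intro g
    obtain ⟨k, ⟨hk, hc⟩, -⟩ := Cfsg.Agent.S1185.result z hz g
    refine ⟨⟨⟨g⁻¹ * k, hc⟩, ⟨k, hk⟩⟩, ?_⟩
    show k * (g⁻¹ * k)⁻¹ = g
    group

/-- the fibration of the class of `z` over its `s`-fixed points -/
theorem card_X_eq (z : G) (hz : Cfsg.IsIsolatedInvolution z) (s : G) (hss : s * s = 1) (hsz : Commute s z) :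
    Nat.card {x : G // (∃ g : G, x = g * z * g⁻¹) ∧ True} =
      Nat.card {x : G // (∃ g : G, x = g * z * g⁻¹) ∧ Commute x s} *
      Nat.card {x : G // (∃ g : G, x = g * z * g⁻¹) ∧ Commute x (s * z)} := by
  have hzz : z * z = 1 := isolated_mul_self hz
  have hzi : z⁻¹ = z := inv_eq_self_of_mul_self hzz
  have hsi : s⁻¹ = s := inv_eq_self_of_mul_self hss
  -- the midpoint map
  set μ : G → G := midS s with hμ
  -- basic facts for x in the class
  have hbasic : ∀ x : G, (∃ g : G, x = g * z * g⁻¹) →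
      x * x = 1 ∧ (s * x * s⁻¹) * (s * x * s⁻¹) = 1 ∧
      (x * (s * x * s⁻¹)) ^ (2 * (orderOf (x * (s * x * s⁻¹)) / 2) + 1) = 1 := by
    rintro x ⟨g, rfl⟩
    have hx := isolated_conj hz g
    have hxx := isolated_mul_self hx
    refine ⟨hxx, ?_, ?_⟩
    · calc s * (g * z * g⁻¹) * s⁻¹ * (s * (g * z * g⁻¹) * s⁻¹)
          = s * ((g * z * g⁻¹) * (g * z * g⁻¹)) * s⁻¹ := by group
        _ = 1 := by rw [hxx]; group
    · obtain ⟨j, hj⟩ := isolated_odd_order hx s
      have : 2 * (orderOf (g * z * g⁻¹ * (s * (g * z * g⁻¹) * s⁻¹)) / 2) + 1 =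
          orderOf (g * z * g⁻¹ * (s * (g * z * g⁻¹) * s⁻¹)) := by omega
      rw [this]
      exact pow_orderOf_eq_one _
  have hconjmem : ∀ x : G, (∃ g : G, x = g * z * g⁻¹) → ∀ a : G, ∃ g : G, a * x * a⁻¹ = g * z * g⁻¹ := by
    rintro x ⟨g, rfl⟩ a
    exact ⟨a * g, by group⟩
  have hμX : ∀ x : G, (∃ g : G, x = g * z * g⁻¹) → (∃ g : G, μ x = g * z * g⁻¹) ∧ Commute (μ x) s := by
    intro x hx
    obtain ⟨hxx, hyy, hpow⟩ := hbasic x hx
    constructor
    · obtain ⟨u, hu | hu⟩ := mid_isConj x (s * x * s⁻¹) hxx hyy _ hpow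
      · obtain ⟨g, hg⟩ := hconjmem x hx u
        exact ⟨g, hu.trans hg⟩
      · obtain ⟨g, hg⟩ := hconjmem x hx (u * s)
        refine ⟨g, hu.trans ?_⟩
        rw [← hg]; group
    · have hfix := mid_fixed x (s * x * s⁻¹) hxx hyy _ hpow s rfl (by
        calc s * (s * x * s⁻¹) * s⁻¹ = (s * s) * x * (s * s)⁻¹ := by group
          _ = x := by rw [hss]; group)
      have hfix' : s * μ x * s⁻¹ = μ x := hfix
      show μ x * s = s * μ x
      calc μ x * s = (s * μ x * s⁻¹) * s := by rw [hfix']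
        _ = s * μ x := by group
  -- fibre over z
  have hfibz : ∀ x : G, (∃ g : G, x = g * z * g⁻¹) → (μ x = z ↔ Commute x (s * z)) := by
    intro x hx
    obtain ⟨hxx, hyy, hpow⟩ := hbasic x hx
    constructor
    · intro h
      have hc := mid_conj x (s * x * s⁻¹) hxx hyy _ hpow
      change μ x * x * μ x = s * x * s⁻¹ at hc
      rw [h] at hc
      show x * (s * z) = s * z * x
      have h1 : s * (z * x * z) * s = x := by
        rw [hc, hsi]
        calc s * (s * x * s) * s = (s * s) * x * (s * s) := by group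
          _ = x := by rw [hss, one_mul, mul_one]
      calc x * (s * z) = s * (z * x * z) * s * (s * z) := by rw [h1]
        _ = s * z * x * (z * (s * s) * z) := by group
        _ = s * z * x := by rw [hss, mul_one, hzz, mul_one]
    · intro h
      have hsz' : s * z = z * s := hsz
      have h1 : z * x * z⁻¹ = s * x * s⁻¹ := by
        have h' : x * (s * z) = s * z * x := h
        rw [hzi, hsi]
        calc z * x * z = (s * s) * z * x * z := by rw [hss, one_mul]
          _ = s * (s * z * x) * z := by group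
          _ = s * (x * (s * z)) * z := by rw [h']
          _ = s * x * s * (z * z) := by group
          _ = s * x * s := by rw [hzz, mul_one]
      have h2 : z * (s * x * s⁻¹) * z⁻¹ = x := by
        rw [← h1]
        calc z * (z * x * z⁻¹) * z⁻¹ = (z * z) * x * (z * z)⁻¹ := by group
          _ = x := by rw [hzz]; group
      have hfix := mid_fixed x (s * x * s⁻¹) hxx hyy _ hpow z h1 h2
      change z * μ x * z⁻¹ = μ x at hfix
      obtain ⟨⟨g, hg⟩, -⟩ := hμX x hx
      have hcomm : Commute z (g * z * g⁻¹) := by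
        rw [← hg]
        show z * μ x = μ x * z
        calc z * μ x = (z * μ x * z⁻¹) * z := by group
          _ = μ x * z := by rw [hfix]
      rw [hg]
      exact hz.2 g hcomm
  -- now count
  have hcount := card_eq_mul_of_fibres {x : G | (∃ g : G, x = g * z * g⁻¹) ∧ True}
    {x : G | (∃ g : G, x = g * z * g⁻¹) ∧ Commute x s} μ
    (Nat.card {x : G // (∃ g : G, x = g * z * g⁻¹) ∧ Commute x (s * z)})
    (fun x hx => hμX x hx.1) ?_
  · exact hcount
  · rintro m ⟨⟨g, hg⟩, hms⟩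
    -- m is conjugate to z inside C(s)
    have hzH : z ∈ Subgroup.centralizer ({s} : Set G) := by
      rw [Subgroup.mem_centralizer_singleton_iff]; exact hsz.symm.eq
    have hmH : g * z * g⁻¹ ∈ Subgroup.centralizer ({s} : Set G) := by
      rw [Subgroup.mem_centralizer_singleton_iff, ← hg]; exact hms.eq
    obtain ⟨a, ha, haz⟩ := Cfsg.Agent.S1180.result z hz _ hzH g hmH
    rw [Subgroup.mem_centralizer_singleton_iff] at ha
    have has : a * s = s * a := ha
    have hasi : a * s⁻¹ = s⁻¹ * a := by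
      rw [hsi]; exact has
    have hais : a⁻¹ * s = s * a⁻¹ := by
      calc a⁻¹ * s = a⁻¹ * (s * a) * a⁻¹ := by group
        _ = a⁻¹ * (a * s) * a⁻¹ := by rw [has]
        _ = s * a⁻¹ := by group
    -- equivariance of μ
    have hequiv : ∀ y : G, μ (a * y * a⁻¹) = a * μ y * a⁻¹ := by
      intro y
      have e1 : s * (a * y * a⁻¹) * s⁻¹ = a * (s * y * s⁻¹) * a⁻¹ := by
        calc s * (a * y * a⁻¹) * s⁻¹ = (s * a) * y * (a⁻¹ * s⁻¹) := by group
          _ = (a * s) * y * (s⁻¹ * a⁻¹) := by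
              rw [← has]
              congr 1
              rw [hsi, hais]
          _ = a * (s * y * s⁻¹) * a⁻¹ := by group
      have e2 : a * y * a⁻¹ * (a * (s * y * s⁻¹) * a⁻¹) = a * (y * (s * y * s⁻¹)) * a⁻¹ := by group
      have e3 : orderOf (a * (y * (s * y * s⁻¹)) * a⁻¹) = orderOf (y * (s * y * s⁻¹)) := by
        have := (MulAut.conj a).orderOf_eq (y * (s * y * s⁻¹))
        rwa [MulAut.conj_apply] at this
      show mid (orderOf (a * y * a⁻¹ * (s * (a * y * a⁻¹) * s⁻¹)) / 2) (a * y * a⁻¹) (s * (a * y * a⁻¹) * s⁻¹) = _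
      rw [e1, e2, e3, ← mid_equivariant]
      rfl
    -- the bijection between fibres
    show Nat.card {x : G | ((∃ g : G, x = g * z * g⁻¹) ∧ True) ∧ μ x = m} = _
    apply card_eq_of_rel {x : G | ((∃ g : G, x = g * z * g⁻¹) ∧ True) ∧ μ x = m}
      {x : G | (∃ g : G, x = g * z * g⁻¹) ∧ Commute x (s * z)} (fun x y => x = a * y * a⁻¹)
    · rintro x ⟨⟨hx, -⟩, hxm⟩
      obtain ⟨g', hg'⟩ := hconjmem x hx a⁻¹
      rw [inv_inv] at hg'
      have hy : ∃ g : G, a⁻¹ * x * a = g * z * g⁻¹ := ⟨g', hg'⟩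
      refine ⟨a⁻¹ * x * a, ⟨hy, ?_⟩, by group⟩
      rw [← hfibz _ hy]
      have := hequiv (a⁻¹ * x * a)
      have e : a * (a⁻¹ * x * a) * a⁻¹ = x := by group
      rw [e, hxm, hg, ← haz] at this
      have h2 : μ (a⁻¹ * x * a) = a⁻¹ * (a * μ (a⁻¹ * x * a) * a⁻¹) * a := by group
      rw [h2, ← this]
      group
    · rintro y ⟨hy, hyc⟩
      obtain ⟨g', hg'⟩ := hconjmem y hy a
      refine ⟨a * y * a⁻¹, ⟨⟨⟨g', hg'⟩, trivial⟩, ?_⟩, rfl⟩
      rw [hequiv y, (hfibz y hy).mpr hyc, haz, hg]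
    · rintro x₁ - x₂ - y - h₁ h₂
      exact h₁.trans h₂.symm
    · rintro x - y₁ - y₂ - h₁ h₂
      have := h₁.symm.trans h₂
      exact mul_left_cancel (mul_right_cancel this)

end Main

/-- `|G| = |C| · |C_K(sz)| · |C_K(s)|`. -/
theorem result {G : Type*} [Group G] [Finite G] (z : G) (hz : Cfsg.IsIsolatedInvolution z) (s : G) (hs : orderOf s = 2) (hsz : Commute s z) : Nat.card G = Nat.card (Subgroup.centralizer ({z} : Set G)) * Nat.card {k : G // Odd (orderOf k) ∧ z * k * z⁻¹ = k⁻¹ ∧ Commute k (s * z)} * Nat.card {k : G // Odd (orderOf k) ∧ z * k * z⁻¹ = k⁻¹ ∧ Commute k s} := by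
  have hzz : z * z = 1 := isolated_mul_self hz
  have hss : s * s = 1 := by
    have := pow_orderOf_eq_one s
    rwa [hs, pow_two] at this
  have h1 := card_eq_card_C_mul_card_K z hz
  have h2 := card_K_eq z hz (fun _ => True) (fun _ => Iff.rfl)
  have h3 := card_K_eq z hz (fun k => Commute k s) (by
    intro k
    constructor
    · intro h; exact h.mul_left hsz.symm
    · intro h
      have : k = k * z * z := by rw [mul_assoc, hzz, mul_one]
      rw [this]
      exact h.mul_left hsz.symm)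
  have hszz : Commute z (s * z) := by
    show z * (s * z) = s * z * z
    rw [← mul_assoc, hsz.symm.eq]
  have h4 := card_K_eq z hz (fun k => Commute k (s * z)) (by
    intro k
    constructor
    · intro h; exact h.mul_left hszz
    · intro h
      have : k = k * z * z := by rw [mul_assoc, hzz, mul_one]
      rw [this]
      exact h.mul_left hszz)
  have h5 := card_X_eq z hz s hss hsz
  have e1 : Nat.card {k : G // Odd (orderOf k) ∧ z * k * z⁻¹ = k⁻¹} =
      Nat.card {k : G // (Odd (orderOf k) ∧ z * k * z⁻¹ = k⁻¹) ∧ True} :=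
    Nat.card_congr (Equiv.subtypeEquivRight (fun k => by simp))
  have e2 : Nat.card {k : G // Odd (orderOf k) ∧ z * k * z⁻¹ = k⁻¹ ∧ Commute k (s * z)} =
      Nat.card {k : G // (Odd (orderOf k) ∧ z * k * z⁻¹ = k⁻¹) ∧ Commute k (s * z)} :=
    Nat.card_congr (Equiv.subtypeEquivRight (fun k => by rw [and_assoc]))
  have e3 : Nat.card {k : G // Odd (orderOf k) ∧ z * k * z⁻¹ = k⁻¹ ∧ Commute k s} =
      Nat.card {k : G // (Odd (orderOf k) ∧ z * k * z⁻¹ = k⁻¹) ∧ Commute k s} :=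
    Nat.card_congr (Equiv.subtypeEquivRight (fun k => by rw [and_assoc]))
  rw [h1, e1, e2, e3, h2, h3, h4, h5]
  ring

end Cfsg.Agent.S1186
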