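import Mathlib
import Cfsg.Statements.S1224
import Cfsg.Agent.Lib.Helper6.StronglyEmbedded

set_option autoImplicit false
open Cfsg

namespace Cfsg.Agent.S1224

open Cfsg.Agent.Helper6 Cfsg.Agent.Helper6.UniqueFix Cfsg.Agent.Helper6.SE Cfsg.Agent.S1186

variable {G : Type*} [Group G]

theorem orderOf_two_iff (i : G) : orderOf i = 2 ↔ i ≠ 1 ∧ i * i = 1 := by
  constructor
  · intro h
    refine ⟨?_, ?_⟩
    · rintro rfl
      rw [orderOf_one] at h
      omega
    · have := pow_orderOf_eq_one i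
      rwa [h, pow_two] at this
  · rintro ⟨h1, h2⟩
    exact orderOf_eq_prime (by rw [pow_two]; exact h2) h1

theorem orderOf_conj (g i : G) : orderOf (g * i * g⁻¹) = orderOf i := by
  have := (MulAut.conj g).orderOf_eq i
  rwa [MulAut.conj_apply] at this

/-- the number of involutions fixing a coset is the number of involutions of `H` -/
theorem card_fix [Finite G] (H : Subgroup G) (x : G ⧸ H) :
    Nat.card {i : G // orderOf i = 2 ∧ i • x = x} = Nat.card {t : G // orderOf t = 2 ∧ t ∈ H} := by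
  induction x using QuotientGroup.induction_on with
  | H g =>
  apply card_eq_of_rel {i : G | orderOf i = 2 ∧ i • (QuotientGroup.mk g : G ⧸ H) = QuotientGroup.mk g}
    {t : G | orderOf t = 2 ∧ t ∈ H} (fun i t => t = g⁻¹ * i * g)
  · rintro i ⟨hi, hfix⟩
    refine ⟨g⁻¹ * i * g, ⟨?_, (smul_mk_eq_iff H i g).mp hfix⟩, rfl⟩
    have := orderOf_conj g⁻¹ i
    rw [inv_inv] at this
    rw [this, hi]
  · rintro t ⟨ht, htH⟩
    refine ⟨g * t * g⁻¹, ⟨?_, ?_⟩, by group⟩
    · rw [orderOf_conj, ht]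
    · rw [smul_mk_eq_iff]
      have : g⁻¹ * (g * t * g⁻¹) * g = t := by group
      rw [this]; exact htH
  · rintro i₁ - i₂ - t - h₁ h₂
    have := h₁.symm.trans h₂
    exact mul_left_cancel (mul_right_cancel this)
  · rintro i - t₁ - t₂ - h₁ h₂
    exact h₁.trans h₂.symm

/-- the number of involutions interchanging two cosets is at least the number of involutions of `H` -/
theorem le_card_swap [Finite G] (H : Subgroup G) (hH : Cfsg.IsStronglyEmbedded H) (x y : G ⧸ H)
    (hxy : x ≠ y) :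
    Nat.card {t : G // orderOf t = 2 ∧ t ∈ H} ≤ Nat.card {i : G // orderOf i = 2 ∧ i • x = y} := by
  rw [← card_fix H x]
  have hA := atMostOneFix H hH
  obtain ⟨v, hv1, hvv, hvy⟩ := exists_invol_fix H hH y
  have key : ∀ s : {i : G // orderOf i = 2 ∧ i • x = x},
      orderOf (mid (orderOf (s.1 * v) / 2) s.1 v) = 2 ∧ mid (orderOf (s.1 * v) / 2) s.1 v • x = y ∧
      mid (orderOf (s.1 * v) / 2) s.1 v * s.1 * mid (orderOf (s.1 * v) / 2) s.1 v = v ∧
      mid (orderOf (s.1 * v) / 2) s.1 v * mid (orderOf (s.1 * v) / 2) s.1 v = 1 := by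
    rintro ⟨s, hs, hsx⟩
    obtain ⟨hs1, hss⟩ := (orderOf_two_iff s).mp hs
    obtain ⟨hw1, hww, hwsw, hwx, -⟩ := mid_props hA s v hs1 hss hv1 hvv x y hsx hvy hxy
    exact ⟨(orderOf_two_iff _).mpr ⟨hw1, hww⟩, hwx, hwsw, hww⟩
  apply Nat.card_le_card_of_injective
    (fun s : {i : G // orderOf i = 2 ∧ i • x = x} =>
      (⟨mid (orderOf (s.1 * v) / 2) s.1 v, (key s).1, (key s).2.1⟩ : {i : G // orderOf i = 2 ∧ i • x = y}))
  intro s₁ s₂ h
  have h' : mid (orderOf (s₁.1 * v) / 2) s₁.1 v = mid (orderOf (s₂.1 * v) / 2) s₂.1 v :=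
    congrArg Subtype.val h
  obtain ⟨-, -, e₁, w₁⟩ := key s₁
  obtain ⟨-, -, e₂, w₂⟩ := key s₂
  rw [← h'] at e₂ w₂
  apply Subtype.ext
  set w := mid (orderOf (s₁.1 * v) / 2) s₁.1 v with hw
  calc s₁.1 = (w * w) * s₁.1 * (w * w) := by rw [w₁, one_mul, mul_one]
    _ = w * (w * s₁.1 * w) * w := by group
    _ = w * (w * s₂.1 * w) * w := by rw [e₁, e₂]
    _ = (w * w) * s₂.1 * (w * w) := by group
    _ = s₂.1 := by rw [w₁, one_mul, mul_one]

/-- the involutions of `G` number `|G : H|` times the involutions of `H` -/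
theorem card_invol [Finite G] (H : Subgroup G) (hH : Cfsg.IsStronglyEmbedded H) :
    Nat.card {i : G | orderOf i = 2} = Nat.card (G ⧸ H) * Nat.card {t : G // orderOf t = 2 ∧ t ∈ H} := by
  have hA := atMostOneFix H hH
  have hex : ∀ i : G, ∃ c : G ⧸ H, orderOf i = 2 → i • c = c := by
    intro i
    by_cases hi : orderOf i = 2
    · obtain ⟨c, hc⟩ := exists_fix H hH i ((orderOf_two_iff i).mp hi).2
      exact ⟨c, fun _ => hc⟩
    · exact ⟨QuotientGroup.mk 1, fun h => absurd h hi⟩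
  choose fixpt hfixpt using hex
  have h := card_eq_mul_of_fibres {i : G | orderOf i = 2} (Set.univ : Set (G ⧸ H)) fixpt
    (Nat.card {t : G // orderOf t = 2 ∧ t ∈ H}) (fun _ _ => Set.mem_univ _) ?_
  · rw [h]
    congr 1
    exact Nat.card_congr (Equiv.Set.univ _)
  · intro b _
    rw [← card_fix H b]
    apply Nat.card_congr
    apply Equiv.subtypeEquivRight
    intro i
    constructor
    · rintro ⟨hi, rfl⟩
      exact ⟨hi, hfixpt i hi⟩
    · rintro ⟨hi, hib⟩
      refine ⟨hi, ?_⟩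
      obtain ⟨hi1, hii⟩ := (orderOf_two_iff i).mp hi
      exact hA i hi1 hii _ _ (hfixpt i hi) hib

/-- For cosets `x ≠ y` the number of involutions `i` with `i • x = y` is the number of involutions of `H`. -/
theorem result {G : Type*} [Group G] [Finite G] (H : Subgroup G) (hH : Cfsg.IsStronglyEmbedded H) (x y : G ⧸ H) (hxy : x ≠ y) : Nat.card {i : G // orderOf i = 2 ∧ i • x = y} = Nat.card {t : G // orderOf t = 2 ∧ t ∈ H} := by
  have hle : ∀ b : G ⧸ H, Nat.card {t : G // orderOf t = 2 ∧ t ∈ H} ≤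
      Nat.card {a : G // a ∈ {i : G | orderOf i = 2} ∧ (fun i : G => i • x) a = b} := by
    intro b
    by_cases hb : x = b
    · subst hb
      exact (card_fix H x).symm.le
    · exact le_card_swap H hH x b hb
  exact fibres_eq_of_le {i : G | orderOf i = 2} (fun i : G => i • x) _ hle (card_invol H hH) y

end Cfsg.Agent.S1224
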