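import Mathlib
import Cfsg.Statements.S1225
import Cfsg.Agent.Lib.Helper6.StronglyEmbedded
import Cfsg.Agent.S1224

set_option autoImplicit false
open Cfsg

namespace Cfsg.Agent.S1225

open Cfsg.Agent.Helper6 Cfsg.Agent.Helper6.UniqueFix Cfsg.Agent.Helper6.SE Cfsg.Agent.S1186
open Cfsg.Agent.S1224 (orderOf_two_iff)

variable {G : Type*} [Group G]

/-- two involutions with distinct fixed cosets are conjugate -/
theorem conj_of_fix_ne [Finite G] (H : Subgroup G) (hH : Cfsg.IsStronglyEmbedded H) (a b : G)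
    (ha1 : a ≠ 1) (haa : a * a = 1) (hb1 : b ≠ 1) (hbb : b * b = 1) (c d : G ⧸ H)
    (hc : a • c = c) (hd : b • d = d) (hcd : c ≠ d) : IsConj a b := by
  obtain ⟨-, hww, hwaw, -, -⟩ := mid_props (atMostOneFix H hH) a b ha1 haa hb1 hbb c d hc hd hcd
  rw [isConj_iff]
  refine ⟨mid (orderOf (a * b) / 2) a b, ?_⟩
  rw [inv_eq_self_of_mul_self hww]
  exact hwaw

/-- Involutions of `H` are conjugate under `D = H ∩ uHu⁻¹`; all involutions of `G` are conjugate. -/
theorem result {G : Type*} [Group G] [Finite G] (H : Subgroup G) (hH : Cfsg.IsStronglyEmbedded H) (u : G) (hu : orderOf u = 2) (huH : u ∉ H) (s t : G) (hs : orderOf s = 2) (hsH : s ∈ H) (ht : orderOf t = 2) (htH : t ∈ H) : (∃ d ∈ (H ⊓ H.map (MulAut.conj u).toMonoidHom), d * s * d⁻¹ = t) ∧ ∀ a b : G, orderOf a = 2 → orderOf b = 2 → IsConj a b := by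
  have hA := atMostOneFix H hH
  obtain ⟨hu1, huu⟩ := (orderOf_two_iff u).mp hu
  obtain ⟨hs1, hss⟩ := (orderOf_two_iff s).mp hs
  obtain ⟨ht1, htt⟩ := (orderOf_two_iff t).mp ht
  have hui : u⁻¹ = u := inv_eq_self_of_mul_self huu
  constructor
  · -- x = H, y = uH
    have hsx : s • (QuotientGroup.mk 1 : G ⧸ H) = QuotientGroup.mk 1 := by
      rw [smul_mk_eq_iff]; simpa using hsH
    have htx : t • (QuotientGroup.mk 1 : G ⧸ H) = QuotientGroup.mk 1 := by
      rw [smul_mk_eq_iff]; simpa using htH
    have hux : u • (QuotientGroup.mk 1 : G ⧸ H) = QuotientGroup.mk u := by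
      rw [MulAction.Quotient.smul_mk, smul_eq_mul, mul_one]
    have huy : u • (QuotientGroup.mk u : G ⧸ H) = QuotientGroup.mk 1 := by
      rw [MulAction.Quotient.smul_mk, smul_eq_mul, huu]
    have hxy : (QuotientGroup.mk 1 : G ⧸ H) ≠ QuotientGroup.mk u := by
      rw [mk_ne_iff]; simpa using huH
    have hutu1 : u * t * u ≠ 1 := by
      intro e
      apply ht1
      calc t = (u * u) * t * (u * u) := by rw [huu, one_mul, mul_one]
        _ = u * (u * t * u) * u := by group
        _ = 1 := by rw [e, mul_one, huu]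
    have hutu2 : (u * t * u) * (u * t * u) = 1 := by
      calc (u * t * u) * (u * t * u) = u * t * (u * u) * t * u := by group
        _ = u * (t * t) * u := by rw [huu]; group
        _ = 1 := by rw [htt, mul_one, huu]
    have hutuy : (u * t * u) • (QuotientGroup.mk u : G ⧸ H) = QuotientGroup.mk u := by
      rw [mul_smul, mul_smul, huy, htx, hux]
    obtain ⟨-, hww, hwsw, hwx, hwy⟩ := mid_props hA s (u * t * u) hs1 hss hutu1 hutu2 _ _ hsx hutuy hxy
    set w := mid (orderOf (s * (u * t * u)) / 2) s (u * t * u) with hw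
    have hwi : w⁻¹ = w := inv_eq_self_of_mul_self hww
    refine ⟨u * w, Subgroup.mem_inf.mpr ⟨?_, ?_⟩, ?_⟩
    · have : (u * w) • (QuotientGroup.mk 1 : G ⧸ H) = QuotientGroup.mk 1 := by
        rw [mul_smul, hwx, huy]
      rw [smul_mk_eq_iff] at this
      simpa using this
    · have : (u * w) • (QuotientGroup.mk u : G ⧸ H) = QuotientGroup.mk u := by
        rw [mul_smul, hwy, hux]
      rw [smul_mk_eq_iff] at this
      rw [Subgroup.mem_map]
      refine ⟨u⁻¹ * (u * w) * u, this, ?_⟩
      simp only [MulEquiv.coe_toMonoidHom, MulAut.conj_apply]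
      group
    · rw [mul_inv_rev, hwi, hui]
      calc u * w * s * (w * u) = u * (w * s * w) * u := by group
        _ = u * (u * t * u) * u := by rw [hwsw]
        _ = (u * u) * t * (u * u) := by group
        _ = t := by rw [huu, one_mul, mul_one]
  · intro a b ha hb
    obtain ⟨ha1, haa⟩ := (orderOf_two_iff a).mp ha
    obtain ⟨hb1, hbb⟩ := (orderOf_two_iff b).mp hb
    obtain ⟨c, hc⟩ := exists_fix H hH a haa
    obtain ⟨d, hd⟩ := exists_fix H hH b hbb
    by_cases hcd : c = d
    · subst hcd
      -- a third point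
      have hex : ∃ e : G ⧸ H, e ≠ c := by
        by_cases h1 : c = QuotientGroup.mk 1
        · refine ⟨QuotientGroup.mk u, ?_⟩
          rw [h1]
          intro e
          have := (mk_ne_iff H u 1).not.mp (by simpa using e)
          simp only [mul_one, not_not] at this
          exact huH (by simpa using H.inv_mem this)
        · exact ⟨QuotientGroup.mk 1, fun e => h1 e.symm⟩
      obtain ⟨e, hec⟩ := hex
      obtain ⟨v, hv1, hvv, hve⟩ := exists_invol_fix H hH e
      have h1 := conj_of_fix_ne H hH a v ha1 haa hv1 hvv c e hc hve hec.symm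
      have h2 := conj_of_fix_ne H hH v b hv1 hvv hb1 hbb e c hve hd hec
      exact h1.trans h2
    · exact conj_of_fix_ne H hH a b ha1 haa hb1 hbb c d hc hd hcd

end Cfsg.Agent.S1225
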