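import Mathlib
import Cfsg.Statements.S0394
import Cfsg.Agent.Lib.Helper27.LeechShapes2
import Cfsg.Agent.S0360
import Cfsg.Agent.S0358

set_option autoImplicit false
set_option maxRecDepth 8000
open Cfsg

namespace Cfsg.Agent.S0394

open Cfsg.Agent.Helper27

/-! ### The three families -/

theorem mem_octads_iff (b : Finset GolayPt) :
    b ∈ octads ↔ ∃ w ∈ golayCode, support₂ w = b ∧ b.card = 8 := by
  unfold octads wordsOfWeight supports
  constructor
  · rintro ⟨⟨w, hw, rfl⟩, h⟩
    exact ⟨w, hw, rfl, h⟩
  · rintro ⟨w, hw, rfl, h⟩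
    exact ⟨⟨w, hw, rfl⟩, h⟩

/-- Family A: `(±4, ±4, 0, …)`. -/
theorem famA_mem {p N : Finset GolayPt} (hp : p.card = 2) (hN : N ⊆ p) :
    shapeVec 4 p N ∈ leechLattice ∧ sqNorm (shapeVec 4 p N) = 32 := by
  constructor
  · have e : shapeVec 4 p N = fun i => 2 * shapeVec 2 p N i := shapeVec_two_mul 2 p N
    rw [e]
    apply mem_of_even_form
    · have : red2 (shapeVec 2 p N) = 0 := by
        funext i
        rw [Pi.zero_apply, red2_eq_zero_iff]
        unfold shapeVec
        split_ifs <;> norm_num
      rw [this]; exact zero_mem _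
    · rw [sum_shapeVec 2 hN, hp]
      exact ⟨1 - (N.card : ℤ), by push_cast; ring⟩
  · rw [sqNorm_shapeVec, hp]; norm_num

/-- Family B: `(±2)^8` on an octad with an even number of minus signs. -/
theorem famB_mem {w : GolayPt → ZMod 2} (hw : w ∈ golayCode) (h8 : (support₂ w).card = 8)
    {N : Finset GolayPt} (hN : N ⊆ support₂ w) (hev : Even N.card) :
    shapeVec 2 (support₂ w) N ∈ leechLattice ∧ sqNorm (shapeVec 2 (support₂ w) N) = 32 := by
  constructor
  · have e : shapeVec 2 (support₂ w) N = fun i => 2 * shapeVec 1 (support₂ w) N i :=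
      shapeVec_two_mul 1 _ N
    rw [e]
    apply mem_of_even_form
    · rw [red2_shapeVec_one]; exact hw
    · rw [sum_shapeVec 1 hN, h8]
      obtain ⟨r, hr⟩ := hev
      rw [hr]
      exact ⟨2 - r, by push_cast; ring⟩
  · rw [sqNorm_shapeVec, h8]; norm_num

/-- The half-coordinates of the odd minimal vectors. -/
def aJW (j : GolayPt) (w : GolayPt → ZMod 2) : GolayPt → ℤ :=
  fun i => if i = j then (if w i = 0 then -2 else 1) else (if w i = 0 then 0 else -1)

theorem red2_aJW (j : GolayPt) (w : GolayPt → ZMod 2) : red2 (aJW j w) = w := by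
  funext i
  unfold red2 aJW
  have h2 : ((2 : ℤ) : ZMod 2) = 0 := by decide
  rcases eq_or_ne i j with rfl | hi
  · rcases zmod2_cases (w i) with h | h
    · rw [if_pos rfl, if_pos h, h]
      push_cast
      rw [neg_eq_zero]
      exact_mod_cast h2
    · rw [if_pos rfl, if_neg (by rw [h]; decide), h]
      simp
  · rcases zmod2_cases (w i) with h | h
    · rw [if_neg hi, if_pos h, h]; simp
    · rw [if_neg hi, if_neg (by rw [h]; decide), h]
      simp

theorem sum_aJW (j : GolayPt) (w : GolayPt → ZMod 2) :
    ∑ i, aJW j w i = -((support₂ w).card : ℤ) + (if w j = 0 then -2 else 2) := by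
  have h1 : ∀ i, aJW j w i = -(if w i ≠ 0 then (1 : ℤ) else 0) +
      (if i = j then (if w j = 0 then (-2 : ℤ) else 2) else 0) := by
    intro i
    unfold aJW
    by_cases hi : i = j
    · subst hi
      by_cases h : w i = 0 <;> simp [h]
    · by_cases h : w i = 0 <;> simp [h, hi]
  rw [Finset.sum_congr rfl (fun i _ => h1 i), Finset.sum_add_distrib, Finset.sum_neg_distrib,
    ← card_support₂_eq_sum, Finset.sum_ite_eq' Finset.univ j]
  simp

theorem sum_sq_aJW (j : GolayPt) (w : GolayPt → ZMod 2) :
    ∑ i, (aJW j w i ^ 2 + aJW j w i) = 2 := by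
  have h1 : ∀ i, aJW j w i ^ 2 + aJW j w i = if i = j then 2 else 0 := by
    intro i
    unfold aJW
    rcases eq_or_ne i j with rfl | hi
    · by_cases h : w i = 0 <;> simp [h]
    · by_cases h : w i = 0 <;> simp [hi, h]
  rw [Finset.sum_congr rfl (fun i _ => h1 i), Finset.sum_ite_eq' Finset.univ j]
  simp

/-- Family C: `(∓3, ±1^23)` with sign pattern from a code word. -/
def fC (q : GolayPt × golayCode) : GolayPt → ℤ := fun i => 1 + 2 * aJW q.1 q.2.1 i

theorem famC_mem (q : GolayPt × golayCode) : fC q ∈ leechLattice ∧ sqNorm (fC q) = 32 := by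
  constructor
  · apply mem_of_odd_form
    · rw [red2_aJW]; exact q.2.2
    · rw [sum_aJW]
      have h4 : (4 : ℤ) ∣ ((support₂ q.2.1).card : ℤ) := by
        exact_mod_cast golay_weight_dvd q.2.2
      split_ifs <;> omega
  · unfold fC
    rw [sqNorm_one_add_two_mul, sum_sq_aJW]; norm_num

/-! ### Classification -/

theorem ind_le_sq (a : GolayPt → ℤ) (i : GolayPt) :
    (if red2 a i ≠ 0 then (1 : ℤ) else 0) ≤ a i ^ 2 := by
  by_cases h : red2 a i ≠ 0
  · rw [if_pos h]
    rw [red2_ne_zero_iff] at h
    have : a i ≠ 0 := by rintro h0; rw [h0] at h; exact h (dvd_zero _)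
    have : 0 < a i ^ 2 := by positivity
    omega
  · rw [if_neg h]; positivity

theorem sq_le_one_cases {b : ℤ} (h : b ^ 2 ≤ 2) : b = -1 ∨ b = 0 ∨ b = 1 := by
  have h1 : -1 ≤ b := by nlinarith
  have h2 : b ≤ 1 := by nlinarith
  omega

theorem classify_even {a : GolayPt → ℤ} (hc : red2 a ∈ golayCode) (hs : (4 : ℤ) ∣ ∑ i, a i)
    (hn : ∑ i, a i ^ 2 = 8) :
    (∃ p N : Finset GolayPt, p.card = 2 ∧ N ⊆ p ∧ (fun i => 2 * a i) = shapeVec 4 p N) ∨
    (∃ w ∈ golayCode, (support₂ w).card = 8 ∧ ∃ N ⊆ support₂ w, Even N.card ∧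
      (fun i => 2 * a i) = shapeVec 2 (support₂ w) N) := by
  have hle : ((support₂ (red2 a)).card : ℤ) ≤ 8 := by
    rw [card_support₂_red2, ← hn]
    exact Finset.sum_le_sum (fun i _ => ind_le_sq a i)
  have hw := golay_weight hc
  have h08 : (support₂ (red2 a)).card = 0 ∨ (support₂ (red2 a)).card = 8 := by
    rcases hw with h | h | h | h | h
    · left; exact h
    · right; exact h
    all_goals (rw [h] at hle; norm_num at hle)
  rcases h08 with h0 | h8
  · left
    have hzero : red2 a = 0 := by
      rw [← support₂_eq_empty_iff, ← Finset.card_eq_zero]; exact h0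
    have hev : ∀ i, ∃ b : ℤ, a i = 2 * b := by
      intro i
      have := congrFun hzero i
      rw [Pi.zero_apply, red2_eq_zero_iff] at this
      exact this
    choose b hb using hev
    have hb2 : ∑ i, b i ^ 2 = 2 := by
      have : ∑ i, a i ^ 2 = 4 * ∑ i, b i ^ 2 := by
        rw [Finset.mul_sum]
        exact Finset.sum_congr rfl (fun i _ => by rw [hb i]; ring)
      rw [this] at hn
      omega
    have hbi : ∀ i, b i = -1 ∨ b i = 0 ∨ b i = 1 := by
      intro i
      apply sq_le_one_cases
      rw [← hb2]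
      exact Finset.single_le_sum (f := fun i => b i ^ 2) (fun j _ => sq_nonneg (b j))
        (Finset.mem_univ i)
    refine ⟨Finset.univ.filter (fun i => b i ≠ 0), Finset.univ.filter (fun i => b i < 0), ?_, ?_, ?_⟩
    · have : ∑ i, b i ^ 2 = ((Finset.univ.filter (fun i => b i ≠ 0)).card : ℤ) := by
        rw [Finset.card_filter]
        push_cast
        apply Finset.sum_congr rfl
        intro i _
        rcases hbi i with h | h | h <;> rw [h] <;> simp
      rw [hb2] at this
      exact_mod_cast this.symm
    · intro i hi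
      rw [Finset.mem_filter] at hi ⊢
      exact ⟨hi.1, by omega⟩
    · funext i
      unfold shapeVec
      simp only [Finset.mem_filter, Finset.mem_univ, true_and]
      rw [hb i]
      rcases hbi i with h | h | h <;> rw [h] <;> simp
  · right
    have hsum0 : ∑ i, (a i ^ 2 - (if red2 a i ≠ 0 then (1 : ℤ) else 0)) = 0 := by
      rw [Finset.sum_sub_distrib, ← card_support₂_red2, hn, h8]; norm_num
    have heach := (Finset.sum_eq_zero_iff_of_nonneg
      (fun i _ => sub_nonneg.mpr (ind_le_sq a i))).mp hsum0
    have hai : ∀ i, (red2 a i ≠ 0 → a i = 1 ∨ a i = -1) ∧ (¬ red2 a i ≠ 0 → a i = 0) := by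
      intro i
      have h1 := heach i (Finset.mem_univ i)
      constructor
      · intro h
        rw [if_pos h] at h1
        have h2 : a i ^ 2 = 1 := by linarith
        rcases sq_le_one_cases (b := a i) (by omega) with h3 | h3 | h3
        · right; exact h3
        · rw [h3] at h2; norm_num at h2
        · left; exact h3
      · intro h
        rw [if_neg h] at h1
        have h2 : a i ^ 2 = 0 := by linarith
        exact pow_eq_zero_iff (two_ne_zero) |>.mp h2
    have hNsub : Finset.univ.filter (fun i => a i < 0) ⊆ support₂ (red2 a) := by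
      intro i hi
      rw [Finset.mem_filter] at hi
      rw [mem_support₂]
      by_contra hne
      have := (hai i).2 (not_not.mpr hne)
      omega
    have hshape : a = shapeVec 1 (support₂ (red2 a)) (Finset.univ.filter (fun i => a i < 0)) := by
      funext i
      unfold shapeVec
      simp only [Finset.mem_filter, Finset.mem_univ, true_and, mem_support₂]
      by_cases h : red2 a i ≠ 0
      · rw [if_pos h]
        rcases (hai i).1 h with h1 | h1 <;> rw [h1] <;> simp
      · rw [if_neg h]
        exact (hai i).2 h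
    refine ⟨red2 a, hc, h8, _, hNsub, ?_, ?_⟩
    · have h1 := sum_shapeVec 1 hNsub
      rw [← hshape, h8] at h1
      rw [h1] at hs
      rw [← Int.even_coe_nat]
      obtain ⟨r, hr⟩ := hs
      exact ⟨2 - r, by push_cast at hr ⊢; linarith⟩
    · have e : shapeVec 2 (support₂ (red2 a)) (Finset.univ.filter (fun i => a i < 0)) =
          shapeVec (2 * 1) (support₂ (red2 a)) (Finset.univ.filter (fun i => a i < 0)) := by
        norm_num
      rw [e, shapeVec_two_mul 1]
      funext i
      exact congrArg (fun t => 2 * t) (congrFun hshape i)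

theorem prod_succ_nonneg (a : ℤ) : 0 ≤ a ^ 2 + a := by
  rcases le_or_gt 0 a with h | h
  · positivity
  · nlinarith

theorem classify_odd {a : GolayPt → ℤ} (hn : ∑ i, (a i ^ 2 + a i) = 2) :
    ∃ j, a = aJW j (red2 a) := by
  have hrange : ∀ i, a i = -2 ∨ a i = -1 ∨ a i = 0 ∨ a i = 1 := by
    intro i
    have h1 : a i ^ 2 + a i ≤ 2 := by
      rw [← hn]
      exact Finset.single_le_sum (f := fun i => a i ^ 2 + a i) (fun j _ => prod_succ_nonneg (a j))
        (Finset.mem_univ i)
    have h2 : -2 ≤ a i := by nlinarith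
    have h3 : a i ≤ 1 := by nlinarith
    omega
  have hcount : ∑ i, (a i ^ 2 + a i) =
      2 * ((Finset.univ.filter (fun i => a i = -2 ∨ a i = 1)).card : ℤ) := by
    rw [Finset.card_filter]
    push_cast
    rw [Finset.mul_sum]
    apply Finset.sum_congr rfl
    intro i _
    rcases hrange i with h | h | h | h <;> rw [h] <;> simp
  rw [hn] at hcount
  have hone : (Finset.univ.filter (fun i => a i = -2 ∨ a i = 1)).card = 1 := by omega
  obtain ⟨j, hj⟩ := Finset.card_eq_one.mp hone
  refine ⟨j, ?_⟩
  funext i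
  have hi : (a i = -2 ∨ a i = 1) ↔ i = j := by
    have : i ∈ Finset.univ.filter (fun i => a i = -2 ∨ a i = 1) ↔ i ∈ ({j} : Finset GolayPt) := by
      rw [hj]
    simpa using this
  unfold aJW
  have hred : red2 a i = 0 ↔ (2 : ℤ) ∣ a i := red2_eq_zero_iff a i
  rcases hrange i with h | h | h | h
  · have hij : i = j := hi.mp (Or.inl h)
    have : red2 a i = 0 := hred.mpr (by rw [h]; norm_num)
    rw [if_pos hij, if_pos this, h]
  · have hij : i ≠ j := fun e => by
      have := hi.mpr e
      omega
    have : ¬ red2 a i = 0 := fun e => by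
      have := hred.mp e
      omega
    rw [if_neg hij, if_neg this, h]
  · have hij : i ≠ j := fun e => by
      have := hi.mpr e
      omega
    have : red2 a i = 0 := hred.mpr (by rw [h]; norm_num)
    rw [if_neg hij, if_pos this, h]
  · have hij : i = j := hi.mp (Or.inr h)
    have : ¬ red2 a i = 0 := fun e => by
      have := hred.mp e
      omega
    rw [if_pos hij, if_neg this, h]

/-! ### Counting -/

/-- The octads as a finite set. -/
noncomputable def octF : Finset (Finset GolayPt) := (Set.toFinite octads).toFinset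

theorem mem_octF {p : Finset GolayPt} : p ∈ octF ↔ p ∈ octads := Set.Finite.mem_toFinset _

theorem card_octF : octF.card = 759 := by
  rw [← Cfsg.Agent.S0360.result, Set.ncard_eq_toFinset_card octads (Set.toFinite octads)]
  rfl

noncomputable instance instFintypeGolayCode : Fintype golayCode := Fintype.ofFinite _

theorem card_golayCode : Fintype.card golayCode = 4096 := by
  rw [Module.card_eq_pow_finrank (K := ZMod 2), ZMod.card, Cfsg.Agent.S0358.result]
  norm_num

/-- Index set of family A. -/
def idxA : Finset (Σ _ : Finset GolayPt, Finset GolayPt) :=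
  ((Finset.univ : Finset GolayPt).powersetCard 2).sigma (fun p => p.powerset)

/-- Index set of family B. -/
noncomputable def idxB : Finset (Σ _ : Finset GolayPt, Finset GolayPt) :=
  octF.sigma (fun p => p.powerset.filter (fun N => Even N.card))

noncomputable def FA : Finset (GolayPt → ℤ) := idxA.image (fun q => shapeVec 4 q.1 q.2)
noncomputable def FB : Finset (GolayPt → ℤ) := idxB.image (fun q => shapeVec 2 q.1 q.2)
noncomputable def FC : Finset (GolayPt → ℤ) :=
  (Finset.univ : Finset (GolayPt × golayCode)).image fC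

theorem mem_idxA {q : Σ _ : Finset GolayPt, Finset GolayPt} :
    q ∈ idxA ↔ q.1.card = 2 ∧ q.2 ⊆ q.1 := by
  unfold idxA
  rw [Finset.mem_sigma, Finset.mem_powersetCard, Finset.mem_powerset]
  simp

theorem mem_idxB {q : Σ _ : Finset GolayPt, Finset GolayPt} :
    q ∈ idxB ↔ q.1 ∈ octads ∧ q.2 ⊆ q.1 ∧ Even q.2.card := by
  unfold idxB
  rw [Finset.mem_sigma, Finset.mem_filter, Finset.mem_powerset, mem_octF]

theorem card_FA : FA.card = 1104 := by
  unfold FA
  rw [Finset.card_image_of_injOn]
  · unfold idxA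
    rw [Finset.card_sigma]
    rw [Finset.sum_congr rfl (g := fun _ => 4)]
    · rw [Finset.sum_const, Finset.card_powersetCard, Finset.card_univ, card_golayPt]
      decide
    · intro p hp
      rw [Finset.mem_powersetCard] at hp
      rw [Finset.card_powerset, hp.2]
      norm_num
  · intro q hq q' hq' h
    rw [Finset.mem_coe, mem_idxA] at hq hq'
    obtain ⟨h1, h2⟩ := shapeVec_injective (by norm_num : (0 : ℤ) < 4) hq.2 hq'.2 h
    exact Sigma.ext h1 (heq_of_eq h2)

theorem card_FB : FB.card = 97152 := by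
  unfold FB
  rw [Finset.card_image_of_injOn]
  · unfold idxB
    rw [Finset.card_sigma]
    rw [Finset.sum_congr rfl (g := fun _ => 128)]
    · rw [Finset.sum_const, card_octF, smul_eq_mul]
    · intro p hp
      rw [mem_octF, mem_octads_iff] at hp
      obtain ⟨w, -, -, h8⟩ := hp
      have hne : p.Nonempty := by
        rw [← Finset.card_pos, h8]; norm_num
      have := card_even_subsets p hne
      rw [h8] at this
      omega
  · intro q hq q' hq' h
    rw [Finset.mem_coe, mem_idxB] at hq hq'
    obtain ⟨h1, h2⟩ := shapeVec_injective (by norm_num : (0 : ℤ) < 2) hq.2.1 hq'.2.1 h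
    exact Sigma.ext h1 (heq_of_eq h2)

theorem aJW_special (j : GolayPt) (w : GolayPt → ZMod 2) (i : GolayPt) :
    (aJW j w i = -2 ∨ aJW j w i = 1) ↔ i = j := by
  unfold aJW
  rcases eq_or_ne i j with rfl | hi
  · by_cases h : w i = 0 <;> simp [h]
  · by_cases h : w i = 0 <;> simp [hi, h]

theorem fC_injective : Function.Injective fC := by
  rintro ⟨j, w⟩ ⟨j', w'⟩ h
  have ha : aJW j w.1 = aJW j' w'.1 := by
    funext i
    have := congrFun h i
    unfold fC at this
    simp only at this
    omega
  have hw : w.1 = w'.1 := by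
    rw [← red2_aJW j w.1, ← red2_aJW j' w'.1, ha]
  have hj : j = j' := by
    have h1 := (aJW_special j w.1 j).mpr rfl
    rw [ha] at h1
    exact (aJW_special j' w'.1 j).mp h1
  subst hj
  have : w = w' := Subtype.ext hw
  rw [this]

theorem card_FC : FC.card = 98304 := by
  unfold FC
  rw [Finset.card_image_of_injective _ fC_injective, Finset.card_univ, Fintype.card_prod,
    card_golayPt, card_golayCode]

theorem even_shapeVec (k : ℤ) (hk : (2 : ℤ) ∣ k) (p N : Finset GolayPt) (i : GolayPt) :
    (2 : ℤ) ∣ shapeVec k p N i := by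
  unfold shapeVec
  split_ifs
  · exact (dvd_neg).mpr hk
  · exact hk
  · exact dvd_zero _

theorem odd_fC (q : GolayPt × golayCode) (i : GolayPt) : ¬ (2 : ℤ) ∣ fC q i := by
  unfold fC
  omega

theorem disj_AB : Disjoint FA FB := by
  rw [Finset.disjoint_left]
  intro x hA hB
  unfold FA at hA
  unfold FB at hB
  rw [Finset.mem_image] at hA hB
  obtain ⟨q, hq, rfl⟩ := hA
  obtain ⟨q', hq', h⟩ := hB
  rw [mem_idxB] at hq'
  rw [mem_octads_iff] at hq'
  obtain ⟨⟨w, -, -, h8⟩, hN, -⟩ := hq'
  have hne : q'.1.Nonempty := by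
    rw [← Finset.card_pos, h8]; norm_num
  obtain ⟨i, hi⟩ := hne
  have h1 := congrFun h i
  unfold shapeVec at h1
  rw [if_pos hi] at h1
  split_ifs at h1 <;> omega

theorem disj_ABC : Disjoint (FA ∪ FB) FC := by
  rw [Finset.disjoint_left]
  intro x hAB hC
  unfold FC at hC
  rw [Finset.mem_image] at hC
  obtain ⟨q, -, rfl⟩ := hC
  rw [Finset.mem_union] at hAB
  rcases hAB with h | h
  · unfold FA at h
    rw [Finset.mem_image] at h
    obtain ⟨q', -, h⟩ := h
    have := even_shapeVec 4 (by norm_num) q'.1 q'.2 none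
    rw [h] at this
    exact odd_fC q none this
  · unfold FB at h
    rw [Finset.mem_image] at h
    obtain ⟨q', -, h⟩ := h
    have := even_shapeVec 2 (by norm_num) q'.1 q'.2 none
    rw [h] at this
    exact odd_fC q none this

theorem S_eq : {x : GolayPt → ℤ | x ∈ leechLattice ∧ sqNorm x = 32} = ↑(FA ∪ FB ∪ FC) := by
  ext x
  rw [Finset.mem_coe, Finset.mem_union, Finset.mem_union, Set.mem_setOf_eq]
  constructor
  · rintro ⟨hx, hn⟩
    by_cases h2 : (2 : ℤ) ∣ x none
    · obtain ⟨a, ha, hc, hs⟩ := even_form hx h2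
      have hx' : x = fun i => 2 * a i := funext ha
      have hn' : ∑ i, a i ^ 2 = 8 := by
        rw [hx', sqNorm_two_mul] at hn
        omega
      left
      rcases classify_even hc hs hn' with ⟨p, N, hp, hN, h⟩ | ⟨w, hw, h8, N, hN, hev, h⟩
      · left
        unfold FA
        rw [Finset.mem_image]
        exact ⟨⟨p, N⟩, mem_idxA.mpr ⟨hp, hN⟩, by rw [hx', h]⟩
      · right
        unfold FB
        rw [Finset.mem_image]
        refine ⟨⟨support₂ w, N⟩, mem_idxB.mpr ⟨(mem_octads_iff _).mpr ⟨w, hw, rfl, h8⟩, hN, hev⟩, ?_⟩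
        rw [hx', h]
    · obtain ⟨a, ha, hc, hs⟩ := odd_form hx h2
      have hx' : x = fun i => 1 + 2 * a i := funext ha
      have hn' : ∑ i, (a i ^ 2 + a i) = 2 := by
        rw [hx', sqNorm_one_add_two_mul] at hn
        omega
      obtain ⟨j, hj⟩ := classify_odd hn'
      right
      unfold FC
      rw [Finset.mem_image]
      refine ⟨(j, ⟨red2 a, hc⟩), Finset.mem_univ _, ?_⟩
      rw [hx']
      unfold fC
      funext i
      simp only
      rw [← hj]
  · rintro ((h | h) | h)
    · unfold FA at h
      rw [Finset.mem_image] at h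
      obtain ⟨q, hq, rfl⟩ := h
      rw [mem_idxA] at hq
      exact famA_mem hq.1 hq.2
    · unfold FB at h
      rw [Finset.mem_image] at h
      obtain ⟨q, hq, rfl⟩ := h
      rw [mem_idxB, mem_octads_iff] at hq
      obtain ⟨⟨w, hw, hwq, h8⟩, hN, hev⟩ := hq
      rw [← hwq] at hN h8 ⊢
      exact famB_mem hw h8 hN hev
    · unfold FC at h
      rw [Finset.mem_image] at h
      obtain ⟨q, -, rfl⟩ := h
      exact famC_mem q

/-- Exactly 196560 lattice vectors have sum of squares 32. -/
theorem result : {x : Cfsg.GolayPt → ℤ | x ∈ Cfsg.leechLattice ∧ Cfsg.sqNorm x = 32}.ncard = 196560 := by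
  rw [S_eq, Set.ncard_coe_finset, Finset.card_union_of_disjoint disj_ABC,
    Finset.card_union_of_disjoint disj_AB, card_FA, card_FB, card_FC]

end Cfsg.Agent.S0394
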