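import Mathlib
import Cfsg.Statements.S0393
import Cfsg.Agent.Lib.Helper27.LeechChar
import Cfsg.Agent.S0358

set_option autoImplicit false
open Cfsg

namespace Cfsg.Agent.S0393

open Cfsg.Agent.Helper27

/-- The doubling map from integers mod 2 to integers mod 4. -/
def dbl : ZMod 2 →+ ZMod 4 where
  toFun a := 2 * ((a.val : ℕ) : ZMod 4)
  map_zero' := by decide
  map_add' := by decide

theorem dbl_intCast (k : ℤ) : dbl ((k : ℤ) : ZMod 2) = (((2 * k : ℤ)) : ZMod 4) := by
  rcases Int.even_or_odd' k with ⟨j, rfl | rfl⟩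
  · have h1 : (((2 * j : ℤ)) : ZMod 2) = 0 := by
      rw [ZMod.intCast_zmod_eq_zero_iff_dvd]; exact ⟨j, rfl⟩
    have h2 : (((2 * (2 * j) : ℤ)) : ZMod 4) = 0 := by
      rw [ZMod.intCast_zmod_eq_zero_iff_dvd]; exact ⟨j, by ring⟩
    rw [h1, h2, map_zero]
  · have h1 : (((2 * j + 1 : ℤ)) : ZMod 2) = 1 := by
      have : (((2 * j : ℤ)) : ZMod 2) = 0 := by
        rw [ZMod.intCast_zmod_eq_zero_iff_dvd]; exact ⟨j, rfl⟩
      push_cast at this ⊢
      rw [this, zero_add]
    have h2 : (((2 * (2 * j + 1) : ℤ)) : ZMod 4) = 2 := by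
      have : (((4 * j : ℤ)) : ZMod 4) = 0 := by
        rw [ZMod.intCast_zmod_eq_zero_iff_dvd]; exact ⟨j, rfl⟩
      have e : (2 * (2 * j + 1) : ℤ) = 4 * j + 2 := by ring
      rw [e]
      push_cast at this ⊢
      rw [this, zero_add]
    rw [h1, h2]
    decide

/-- Doubling a word and forgetting the coordinate at infinity. -/
def psi : (GolayPt → ZMod 2) →+ (ZMod 23 → ZMod 4) where
  toFun c := fun t => dbl (c (some t))
  map_zero' := by funext t; simp
  map_add' := by intro a b; funext t; simp

/-- Evaluation at infinity. -/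
def ev : (GolayPt → ZMod 2) →+ ZMod 2 where
  toFun c := c none
  map_zero' := rfl
  map_add' := fun _ _ => rfl

/-- Code words vanishing at infinity. -/
def C0 : AddSubgroup (GolayPt → ZMod 2) := golayCode.toAddSubgroup ⊓ ev.ker

theorem mem_C0 {c : GolayPt → ZMod 2} : c ∈ C0 ↔ c ∈ golayCode ∧ c none = 0 := by
  unfold C0
  rw [AddSubgroup.mem_inf, AddMonoidHom.mem_ker]
  rfl

theorem card_C : Nat.card golayCode.toAddSubgroup = 2 ^ 12 := by
  have : Nat.card golayCode = 2 ^ 12 := by
    have := Fintype.ofFinite golayCode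
    rw [Nat.card_eq_fintype_card, Module.card_eq_pow_finrank (K := ZMod 2), ZMod.card,
      Cfsg.Agent.S0358.result]
  exact this

theorem zmod2_cases (a : ZMod 2) : a = 0 ∨ a = 1 := by
  revert a; decide

theorem card_C0 : Nat.card C0 = 2 ^ 11 := by
  have h1 : ev.ker.relIndex golayCode.toAddSubgroup = 2 := by
    rw [AddSubgroup.relIndex_ker]
    have : golayCode.toAddSubgroup.map ev = ⊤ := by
      rw [eq_top_iff]
      intro a _
      rcases zmod2_cases a with rfl | rfl
      · exact zero_mem _
      · exact ⟨1, one_mem_golayCode, rfl⟩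
    rw [this]
    simp [Nat.card_zmod]
  have h2 : C0.relIndex golayCode.toAddSubgroup = 2 := by
    unfold C0
    rw [AddSubgroup.inf_relIndex_left, h1]
  have h3 := AddSubgroup.relIndex_mul_relIndex ⊥ C0 golayCode.toAddSubgroup bot_le inf_le_left
  rw [AddSubgroup.relIndex_bot_left, AddSubgroup.relIndex_bot_left, h2, card_C] at h3
  omega

/-- The doubled code words vanishing at infinity. -/
def D : AddSubgroup (ZMod 23 → ZMod 4) := (psi.comp C0.subtype).range

theorem dbl_eq_zero {a : ZMod 2} (h : dbl a = 0) : a = 0 := by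
  revert a; decide

theorem card_D : Nat.card D = 2 ^ 11 := by
  have hinj : Function.Injective (psi.comp C0.subtype) := by
    rw [injective_iff_map_eq_zero]
    intro c hc
    apply Subtype.ext
    funext i
    cases i with
    | none => exact (mem_C0.mp c.2).2
    | some t =>
      have := congrFun hc t
      exact dbl_eq_zero this
  unfold D
  rw [← Nat.card_congr (AddMonoidHom.ofInjective hinj).toEquiv, card_C0]

theorem index_D : D.index = 2 ^ 35 := by
  have h := AddSubgroup.index_mul_card D
  rw [card_D] at h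
  have h2 : Nat.card (ZMod 23 → ZMod 4) = 2 ^ 35 * 2 ^ 11 := by
    rw [Nat.card_eq_fintype_card, Fintype.card_fun, ZMod.card, ZMod.card]
    norm_num
  rw [h2] at h
  exact Nat.eq_of_mul_eq_mul_right (by norm_num) h

/-- Differences with the coordinate at infinity, modulo 4. -/
def rr : (GolayPt → ℤ) →+ (ZMod 23 → ZMod 4) where
  toFun x := fun t => (((x (some t) - x none : ℤ)) : ZMod 4)
  map_zero' := by funext t; simp
  map_add' := by
    intro a b; funext t
    simp only [Pi.add_apply]
    push_cast
    ring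

theorem rr_surjective : Function.Surjective rr := by
  intro y
  refine ⟨fun i => match i with
    | none => 0
    | some t => ((y t).val : ℤ), ?_⟩
  funext t
  show ((((y t).val : ℤ) - 0 : ℤ) : ZMod 4) = y t
  rw [sub_zero]
  simp

/-- The vectors of the standard shape, without the condition on the coordinate sum. -/
def P2 : AddSubgroup (GolayPt → ℤ) := D.comap rr

theorem index_P2 : P2.index = 2 ^ 35 := by
  unfold P2
  rw [AddSubgroup.index_comap_of_surjective D rr_surjective, index_D]

/-- The condition on the coordinate sum. -/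
def lam : (GolayPt → ℤ) →+ ZMod 8 where
  toFun x := (((∑ i, x i - 28 * x none : ℤ)) : ZMod 8)
  map_zero' := by simp
  map_add' := by
    intro a b
    simp only [Pi.add_apply, Finset.sum_add_distrib]
    push_cast
    ring

theorem mem_P2 {x : GolayPt → ℤ} :
    x ∈ P2 ↔ ∃ c ∈ golayCode, c none = 0 ∧
      ∀ t, dbl (c (some t)) = (((x (some t) - x none : ℤ)) : ZMod 4) := by
  unfold P2 D
  rw [AddSubgroup.mem_comap, AddMonoidHom.mem_range]
  constructor
  · rintro ⟨c, hc⟩
    refine ⟨c.1, (mem_C0.mp c.2).1, (mem_C0.mp c.2).2, fun t => ?_⟩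
    exact congrFun hc t
  · rintro ⟨c, hc, hc0, h⟩
    refine ⟨⟨c, mem_C0.mpr ⟨hc, hc0⟩⟩, ?_⟩
    funext t
    exact h t

/-- Data extracted from membership in `P2`. -/
theorem exists_form_of_mem_P2 {x : GolayPt → ℤ} (hx : x ∈ P2) :
    ∃ a : GolayPt → ℤ, (∀ i, x i = x none + 2 * a i) ∧ red2 a ∈ golayCode ∧
      (2 : ℤ) ∣ ∑ i, a i := by
  obtain ⟨c, hc, hc0, h⟩ := mem_P2.mp hx
  have hdiv : ∀ t, (4 : ℤ) ∣ (x (some t) - x none) - 2 * ((c (some t)).val : ℤ) := by
    intro t
    have h1 := h t
    have h2 : dbl (c (some t)) = (((2 * ((c (some t)).val : ℤ) : ℤ)) : ZMod 4) := by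
      show 2 * (((c (some t)).val : ℕ) : ZMod 4) = _
      push_cast
      rfl
    rw [h2] at h1
    have h3 := (ZMod.intCast_eq_intCast_iff_dvd_sub _ _ 4).mp h1
    exact_mod_cast h3
  let a : GolayPt → ℤ := fun i => (x i - x none) / 2
  have ha : ∀ i, x i = x none + 2 * a i := by
    intro i
    cases i with
    | none => simp [a]
    | some t =>
      have := hdiv t
      show x (some t) = x none + 2 * ((x (some t) - x none) / 2)
      omega
  have hred : red2 a = c := by
    funext i
    cases i with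
    | none =>
      rw [hc0]
      show (((x none - x none) / 2 : ℤ) : ZMod 2) = 0
      simp
    | some t =>
      show (((x (some t) - x none) / 2 : ℤ) : ZMod 2) = c (some t)
      have hd := hdiv t
      have hv : (((c (some t)).val : ℤ) : ZMod 2) = c (some t) := by
        simp
      rw [← hv, ZMod.intCast_eq_intCast_iff_dvd_sub]
      push_cast
      omega
  refine ⟨a, ha, by rw [hred]; exact hc, ?_⟩
  have h4 : (4 : ℤ) ∣ ((support₂ (red2 a)).card : ℤ) := by
    rw [hred]
    exact_mod_cast golay_weight_dvd hc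
  rw [card_support₂_red2] at h4
  have h5 : (2 : ℤ) ∣ ∑ i, (a i - (if red2 a i ≠ 0 then (1 : ℤ) else 0)) := by
    apply Finset.dvd_sum
    intro i _
    by_cases hi : red2 a i ≠ 0
    · rw [if_pos hi]
      rw [red2_ne_zero_iff] at hi
      omega
    · rw [if_neg hi]
      rw [red2_ne_zero_iff, not_not] at hi
      omega
  rw [Finset.sum_sub_distrib] at h5
  omega

theorem lam_apply (x : GolayPt → ℤ) : lam x = (((∑ i, x i - 28 * x none : ℤ)) : ZMod 8) := rfl

theorem leech_eq : leechLattice = P2 ⊓ lam.ker := by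
  ext x
  rw [AddSubgroup.mem_inf, AddMonoidHom.mem_ker, mem_leechLattice_iff]
  constructor
  · rintro ⟨m, a, ha, hc, hs⟩
    constructor
    · rw [mem_P2]
      refine ⟨red2 a + ((a none : ℤ) : ZMod 2) • 1, add_mem hc
        (Submodule.smul_mem _ _ one_mem_golayCode), ?_, ?_⟩
      · simp only [red2, Pi.add_apply, Pi.smul_apply, Pi.one_apply, smul_eq_mul, mul_one]
        exact CharTwo.add_self_eq_zero _
      · intro t
        simp only [red2, Pi.add_apply, Pi.smul_apply, Pi.one_apply, smul_eq_mul, mul_one]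
        rw [← Int.cast_add, dbl_intCast, ZMod.intCast_eq_intCast_iff_dvd_sub, ha (some t), ha none]
        exact ⟨-a none, by ring⟩
    · rw [lam_apply, ZMod.intCast_zmod_eq_zero_iff_dvd, sum_eq_of_form ha, ha none]
      obtain ⟨u, hu⟩ := hs
      push_cast
      exact ⟨u - 7 * a none, by linarith⟩
  · rintro ⟨hP, hl⟩
    obtain ⟨a, ha, hc, -⟩ := exists_form_of_mem_P2 hP
    refine ⟨x none, a, ha, hc, ?_⟩
    rw [lam_apply, ZMod.intCast_zmod_eq_zero_iff_dvd, sum_eq_of_form ha] at hl
    push_cast at hl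
    omega

theorem card_map_lam : Nat.card (P2.map lam) = 2 := by
  have h4 : (4 : ZMod 8) ∈ P2.map lam := by
    refine ⟨fun i => if i = some 0 then 4 else 0, ?_, ?_⟩
    · show (fun i : GolayPt => if i = some 0 then (4 : ℤ) else 0) ∈ P2
      rw [mem_P2]
      refine ⟨0, zero_mem _, rfl, fun t => ?_⟩
      simp only [Pi.zero_apply, map_zero]
      by_cases ht : t = 0
      · subst ht; simp; decide
      · have : (some t : GolayPt) ≠ some 0 := fun h => ht (Option.some_injective _ h)
        simp [this]
    · rw [lam_apply, Finset.sum_ite_eq' Finset.univ (some (0 : ZMod 23))]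
      simp
  have heq : P2.map lam = AddSubgroup.zmultiples (4 : ZMod 8) := by
    apply le_antisymm
    · rintro y ⟨x, hx, rfl⟩
      obtain ⟨a, ha, hc, h2⟩ := exists_form_of_mem_P2 hx
      obtain ⟨u, hu⟩ := h2
      rw [AddSubgroup.mem_zmultiples_iff]
      refine ⟨u - x none, ?_⟩
      rw [lam_apply, sum_eq_of_form ha, hu]
      push_cast
      ring
    · exact AddSubgroup.zmultiples_le_of_mem h4
  rw [heq, Nat.card_zmultiples]
  exact addOrderOf_eq_prime (by decide) (by decide)

/-- The lattice has index 2^36 in ℤ^24 (unimodular at scale 1/8). -/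
theorem result : Cfsg.leechLattice.index = 2 ^ 36 := by
  rw [leech_eq, ← AddSubgroup.relIndex_mul_index (inf_le_left : P2 ⊓ lam.ker ≤ P2),
    AddSubgroup.inf_relIndex_left, AddSubgroup.relIndex_ker, card_map_lam, index_P2]
  norm_num

end Cfsg.Agent.S0393
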