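import Mathlib
import Cfsg.Statements.S0398
import Cfsg.Agent.Lib.Helper27.LeechChar
import Cfsg.Agent.Lib.Helper27.LeechAut
import Cfsg.Agent.S0432
import Cfsg.Agent.S0370
import Cfsg.Agent.S0372

set_option autoImplicit false
open Cfsg

namespace Cfsg.Agent.S0398

open Cfsg.Agent.Helper27

/-- A bijection of the lattice from a pair of mutually inverse maps preserving it. -/
def mkPerm (f f' : (GolayPt → ℤ) → (GolayPt → ℤ))
    (hf : ∀ x ∈ leechLattice, f x ∈ leechLattice)
    (hf' : ∀ x ∈ leechLattice, f' x ∈ leechLattice)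
    (h1 : ∀ x, f' (f x) = x) (h2 : ∀ x, f (f' x) = x) : Equiv.Perm leechLattice where
  toFun v := ⟨f v.1, hf v.1 v.2⟩
  invFun v := ⟨f' v.1, hf' v.1 v.2⟩
  left_inv v := Subtype.ext (h1 v.1)
  right_inv v := Subtype.ext (h2 v.1)

theorem mkPerm_mem (f f' : (GolayPt → ℤ) → (GolayPt → ℤ))
    (hf : ∀ x ∈ leechLattice, f x ∈ leechLattice)
    (hf' : ∀ x ∈ leechLattice, f' x ∈ leechLattice)
    (h1 : ∀ x, f' (f x) = x) (h2 : ∀ x, f (f' x) = x)
    (hadd : ∀ x y, f (x + y) = f x + f y) (hn : ∀ x, sqNorm (f x) = sqNorm x) :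
    mkPerm f f' hf hf' h1 h2 ∈ Co0 := by
  constructor
  · intro v w
    apply Subtype.ext
    exact hadd v.1 w.1
  · intro v
    exact hn v.1

/-- Negation. -/
def negP : Equiv.Perm leechLattice :=
  mkPerm (fun x => -x) (fun x => -x) (fun _ hx => neg_mem hx) (fun _ hx => neg_mem hx)
    (fun x => neg_neg x) (fun x => neg_neg x)

theorem negP_mem : negP ∈ Co0 :=
  mkPerm_mem _ _ _ _ _ _ (fun x y => neg_add x y) (fun x => by
    unfold sqNorm
    apply Finset.sum_congr rfl
    intro i _
    simp)

theorem negP_apply (v : leechLattice) : negP v = -v := rfl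

/-- Sign change on a code word. -/
def epsP (w : GolayPt → ZMod 2) (hw : w ∈ golayCode) : Equiv.Perm leechLattice :=
  mkPerm (signChange (support₂ w)) (signChange (support₂ w))
    (fun _ hx => signChange_mem ⟨w, hw, rfl⟩ hx) (fun _ hx => signChange_mem ⟨w, hw, rfl⟩ hx)
    (signChange_signChange _) (signChange_signChange _)

theorem epsP_mem (w : GolayPt → ZMod 2) (hw : w ∈ golayCode) : epsP w hw ∈ Co0 :=
  mkPerm_mem _ _ _ _ _ _ (signChange_add _) (sqNorm_signChange _)

theorem epsP_apply (w : GolayPt → ZMod 2) (hw : w ∈ golayCode) (v : leechLattice) :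
    ((epsP w hw v : leechLattice) : GolayPt → ℤ) = signChange (support₂ w) v.1 := rfl

/-- Coordinate permutation. -/
def permP (σ : Equiv.Perm GolayPt) (hσ : σ ∈ M24) : Equiv.Perm leechLattice :=
  mkPerm (fun x i => x (σ i)) (fun x i => x (σ⁻¹ i))
    (fun x hx => Cfsg.Agent.S0432.result σ hσ x hx)
    (fun x hx => Cfsg.Agent.S0432.result σ⁻¹ (Subgroup.inv_mem _ hσ) x hx)
    (fun x => by funext i; simp) (fun x => by funext i; simp)

theorem permP_mem (σ : Equiv.Perm GolayPt) (hσ : σ ∈ M24) : permP σ hσ ∈ Co0 :=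
  mkPerm_mem _ _ _ _ _ _ (fun x y => rfl) (fun x => by
    unfold sqNorm
    exact Equiv.sum_comp σ (fun i => x i ^ 2))

theorem permP_apply (σ : Equiv.Perm GolayPt) (hσ : σ ∈ M24) (v : leechLattice) (i : GolayPt) :
    ((permP σ hσ v : leechLattice) : GolayPt → ℤ) i = v.1 (σ i) := rfl

theorem exists_move_to_none (p : GolayPt) : ∃ g ∈ M24, g p = none := by
  cases p with
  | none => exact ⟨1, Subgroup.one_mem _, rfl⟩
  | some x =>
    refine ⟨projInv * Equiv.optionCongr (Equiv.addRight (-x)), Subgroup.mul_mem _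
      Cfsg.Agent.S0372.result (Cfsg.Agent.S0370.shift_mem _), ?_⟩
    show projInv (Equiv.optionCongr (Equiv.addRight (-x)) (some x)) = none
    have : Equiv.optionCongr (Equiv.addRight (-x)) (some x) = some 0 := by
      simp [Equiv.optionCongr]
    rw [this]
    rfl

theorem exists_sep : ∀ i j : GolayPt, i ≠ j → ∃ t : ZMod 23, qrWord t i ≠ qrWord t j := by
  decide

/-- For distinct points there is a code word containing the first and not the second. -/
theorem exists_codeword (i j : GolayPt) (hij : i ≠ j) :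
    ∃ w ∈ golayCode, w i ≠ 0 ∧ w j = 0 := by
  obtain ⟨t, ht⟩ := exists_sep i j hij
  by_cases h : qrWord t j = 0
  · refine ⟨qrWord t, qrWord_mem t, ?_, h⟩
    intro h'; apply ht; rw [h, h']
  · refine ⟨qrWord t + 1, add_mem (qrWord_mem t) one_mem_golayCode, ?_, ?_⟩
    · rw [Pi.add_apply, Pi.one_apply]
      have : ∀ a b : ZMod 2, a ≠ b → b ≠ 0 → a + 1 ≠ 0 := by decide
      exact this _ _ ht h
    · rw [Pi.add_apply, Pi.one_apply]
      have : ∀ b : ZMod 2, b ≠ 0 → b + 1 = 0 := by decide
      exact this _ h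

theorem e8_apply (j i : GolayPt) : (e8 j).1 i = if i = j then 8 else 0 := rfl

theorem eight_cancel {v w : leechLattice} (h : (8 : ℤ) • v = (8 : ℤ) • w) : v = w := by
  apply Subtype.ext
  funext i
  have := congrArg (fun u : leechLattice => u.1 i) h
  simp only [AddSubgroup.coe_zsmul, Pi.smul_apply, smul_eq_mul] at this
  omega

/-- If `g` scales `8 e_∞` by `c` and commutes with sign changes and code permutations, it is the
scalar `c`. -/
theorem eq_smul_of_comm (g : Equiv.Perm leechLattice) (hg : g ∈ Co0)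
    (hperm : ∀ σ hσ v, g (permP σ hσ v) = permP σ hσ (g v)) (c : ℤ)
    (hc : g (e8 none) = c • e8 none) (v : leechLattice) : g v = c • v := by
  have hp : ∀ p, g (e8 p) = c • e8 p := by
    intro p
    obtain ⟨σ, hσ, hσp⟩ := exists_move_to_none p
    have h1 : permP σ hσ (e8 none) = e8 p := by
      apply Subtype.ext
      funext i
      rw [permP_apply, e8_apply, e8_apply]
      by_cases hi : i = p
      · rw [if_pos hi, hi, if_pos hσp]
      · rw [if_neg hi, if_neg]
        intro h
        apply hi
        apply σ.injective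
        rw [h, hσp]
    rw [← h1, hperm, hc, co0_zsmul (permP_mem σ hσ)]
  apply eight_cancel
  rw [← co0_zsmul hg, eight_smul_eq_sum, co0_sum hg]
  have : ∀ j, g (((v : GolayPt → ℤ) j) • e8 j) = c • (((v : GolayPt → ℤ) j) • e8 j) := by
    intro j
    rw [co0_zsmul hg, hp, smul_comm]
  rw [Finset.sum_congr rfl (fun j _ => this j), ← Finset.smul_sum, ← eight_smul_eq_sum, smul_comm]

/-- A lattice automorphism commuting with sign changes and code permutations is `±1`. -/
theorem eq_one_or_neg (g : Equiv.Perm leechLattice) (hg : g ∈ Co0)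
    (heps : ∀ w hw v, g (epsP w hw v) = epsP w hw (g v))
    (hperm : ∀ σ hσ v, g (permP σ hσ v) = permP σ hσ (g v)) : g = 1 ∨ g = negP := by
  have hA : ∀ j i, i ≠ j → (g (e8 j)).1 i = 0 := by
    intro j i hij
    obtain ⟨w, hw, hwi, hwj⟩ := exists_codeword i j hij
    have hfix : epsP w hw (e8 j) = e8 j := by
      apply Subtype.ext
      rw [epsP_apply]
      funext k
      unfold signChange
      by_cases hk : k ∈ support₂ w
      · rw [if_pos hk]
        have hkj : k ≠ j := by rintro rfl; exact (mem_support₂.mp hk) hwj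
        rw [e8_apply, if_neg hkj]; rfl
      · rw [if_neg hk]
    have h1 := heps w hw (e8 j)
    rw [hfix] at h1
    have h2 : (g (e8 j)).1 i = (epsP w hw (g (e8 j))).1 i :=
      congrArg (fun v : leechLattice => v.1 i) h1
    rw [epsP_apply] at h2
    unfold signChange at h2
    rw [if_pos (mem_support₂.mpr hwi)] at h2
    omega
  have hB : (g (e8 none)).1 none = 8 ∨ (g (e8 none)).1 none = -8 := by
    have hn := co0_sqNorm hg (e8 none)
    unfold sqNorm at hn
    rw [Finset.sum_eq_single none, Finset.sum_eq_single none] at hn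
    · rw [e8_apply, if_pos rfl] at hn
      exact sq_eq_sq_iff_eq_or_eq_neg.mp hn
    · intro b _ hb
      rw [e8_apply, if_neg hb]; rfl
    · intro h; exact absurd (Finset.mem_univ _) h
    · intro b _ hb
      rw [hA none b hb]; rfl
    · intro h; exact absurd (Finset.mem_univ _) h
  rcases hB with h8 | h8
  · left
    have hc : g (e8 none) = (1 : ℤ) • e8 none := by
      rw [one_smul]
      apply Subtype.ext
      funext i
      by_cases hi : i = none
      · rw [hi, h8, e8_apply, if_pos rfl]
      · rw [hA none i hi, e8_apply, if_neg hi]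
    ext v : 1
    rw [eq_smul_of_comm g hg hperm 1 hc v, one_smul]; rfl
  · right
    have hc : g (e8 none) = (-1 : ℤ) • e8 none := by
      apply Subtype.ext
      funext i
      rw [AddSubgroup.coe_zsmul, Pi.smul_apply]
      by_cases hi : i = none
      · rw [hi, h8, e8_apply, if_pos rfl]; rfl
      · rw [hA none i hi, e8_apply, if_neg hi]; rfl
    ext v : 1
    rw [eq_smul_of_comm g hg hperm (-1) hc v, negP_apply, neg_one_smul]

/-- The centre of the lattice's automorphism group has order 2. -/
theorem result : Nat.card (Subgroup.center Cfsg.Co0) = 2 := by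
  have hnegc : (⟨negP, negP_mem⟩ : Co0) ∈ Subgroup.center Co0 := by
    rw [Subgroup.mem_center_iff]
    intro h
    apply Subtype.ext
    ext v : 1
    show (h : Equiv.Perm leechLattice) (negP v) = negP ((h : Equiv.Perm leechLattice) v)
    rw [negP_apply, negP_apply]
    have := co0_zsmul h.2 (-1) v
    simpa using this
  have hne : (⟨⟨negP, negP_mem⟩, hnegc⟩ : Subgroup.center Co0) ≠ 1 := by
    intro h
    have h1 : negP = 1 := congrArg (fun x : Subgroup.center Co0 => ((x : Co0) : Equiv.Perm leechLattice)) h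
    have h2 := congrArg (fun f : Equiv.Perm leechLattice => (f (e8 none)).1 none) h1
    simp only [negP_apply, Equiv.Perm.coe_one, id_eq] at h2
    rw [AddSubgroup.coe_neg, Pi.neg_apply, e8_apply, if_pos rfl] at h2
    omega
  rw [Nat.card_eq_two_iff' (1 : Subgroup.center Co0)]
  refine ⟨⟨⟨negP, negP_mem⟩, hnegc⟩, hne, ?_⟩
  rintro ⟨⟨g, hg⟩, hgc⟩ hg1
  have hcomm : ∀ h : Co0, (h : Equiv.Perm leechLattice) * g = g * (h : Equiv.Perm leechLattice) := by
    intro h
    have := Subgroup.mem_center_iff.mp hgc h
    exact congrArg Subtype.val this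
  have key := eq_one_or_neg g hg
    (fun w hw v => by
      have := hcomm ⟨epsP w hw, epsP_mem w hw⟩
      have := congrArg (fun f : Equiv.Perm leechLattice => f v) this
      simpa using this.symm)
    (fun σ hσ v => by
      have := hcomm ⟨permP σ hσ, permP_mem σ hσ⟩
      have := congrArg (fun f : Equiv.Perm leechLattice => f v) this
      simpa using this.symm)
  rcases key with h | h
  · exfalso; apply hg1
    apply Subtype.ext; apply Subtype.ext
    exact h
  · apply Subtype.ext; apply Subtype.ext
    exact h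

end Cfsg.Agent.S0398
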