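import Mathlib
import Cfsg.Statements.S1571
import Cfsg.Agent.Lib.Helper27.LeechChar
import Cfsg.Agent.Lib.Helper27.LeechAut
import Cfsg.Agent.Lib.Helper27.LeechSing
import Cfsg.Agent.S0398
import Cfsg.Agent.S0364
import Cfsg.Agent.S0358

set_option autoImplicit false
open Cfsg

namespace Cfsg.Agent.S1571

open Cfsg.Agent.Helper27
open Cfsg.Agent.S0398 (mkPerm mkPerm_mem epsP epsP_mem epsP_apply permP permP_mem permP_apply e8_apply)

theorem vec8_eq_single (i : GolayPt) : vec8 i = Pi.single i 8 := by
  funext j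
  unfold vec8
  by_cases h : j = i
  · rw [if_pos h, h, Pi.single_eq_same]
  · rw [if_neg h, Pi.single_eq_of_ne h]

theorem e8_mem_stdCross (i : GolayPt) : ((e8 i : leechLattice) : GolayPt → ℤ) ∈ stdCross :=
  ⟨i, 8, Or.inl rfl, vec8_eq_single i⟩

theorem dotInt_single (i j : GolayPt) (a b : ℤ) :
    dotInt (Pi.single i a : GolayPt → ℤ) (Pi.single j b) = if i = j then a * b else 0 := by
  unfold dotInt
  rw [Finset.sum_eq_single i]
  · by_cases h : i = j
    · rw [if_pos h, h, Pi.single_eq_same, Pi.single_eq_same]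
    · rw [if_neg h, Pi.single_eq_same, Pi.single_eq_of_ne h, mul_zero]
  · intro k _ hk
    rw [Pi.single_eq_of_ne hk, zero_mul]
  · intro h; exact absurd (Finset.mem_univ _) h

/-- An automorphism preserving the standard cross acts as a signed permutation. -/
theorem exists_signedPerm (g : Equiv.Perm leechLattice) (hg : g ∈ Co0)
    (hcross : ∀ v : leechLattice, (v : GolayPt → ℤ) ∈ stdCross →
      ((g v : leechLattice) : GolayPt → ℤ) ∈ stdCross) :
    ∃ (σ : Equiv.Perm GolayPt) (c : Finset GolayPt),
      ∀ v : leechLattice, ((g v : leechLattice) : GolayPt → ℤ) = signedPerm σ c v := by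
  choose π t ht hπ using fun i => hcross (e8 i) (e8_mem_stdCross i)
  have hinj : Function.Injective π := by
    intro i i' h
    by_contra hne
    have h1 := co0_dotInt hg (e8 i) (e8 i')
    rw [hπ i, hπ i', dotInt_single, if_pos h] at h1
    have h2 : dotInt ((e8 i : leechLattice) : GolayPt → ℤ) (e8 i' : leechLattice) = 0 := by
      show dotInt (vec8 i) (vec8 i') = 0
      rw [vec8_eq_single, vec8_eq_single, dotInt_single, if_neg hne]
    rw [h2] at h1
    rcases ht i with h3 | h3 <;> rcases ht i' with h4 | h4 <;> rw [h3, h4] at h1 <;> omega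
  let σ : Equiv.Perm GolayPt := Equiv.ofBijective π (Finite.injective_iff_bijective.mp hinj)
  have hσ : ∀ i, σ i = π i := fun i => rfl
  refine ⟨σ, Finset.univ.filter (fun j => t (σ.symm j) = -8), ?_⟩
  intro v
  funext j
  have h8 : (8 : ℤ) • g v = ∑ i, ((v : GolayPt → ℤ) i) • g (e8 i) := by
    rw [← co0_zsmul hg, eight_smul_eq_sum, co0_sum hg]
    exact Finset.sum_congr rfl (fun i _ => co0_zsmul hg _ _)
  have h9 := congrArg (fun u : leechLattice => (u : GolayPt → ℤ) j) h8
  simp only [AddSubgroup.coe_zsmul, Pi.smul_apply, smul_eq_mul, AddSubgroup.val_finsetSum,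
    Finset.sum_apply] at h9
  rw [Finset.sum_eq_single (σ.symm j)] at h9
  · rw [hπ (σ.symm j), ← hσ, Equiv.apply_symm_apply, Pi.single_eq_same] at h9
    unfold signedPerm
    by_cases hj : t (σ.symm j) = -8
    · rw [if_pos (by rw [Finset.mem_filter]; exact ⟨Finset.mem_univ _, hj⟩)]
      rw [hj] at h9
      omega
    · rw [if_neg (by rw [Finset.mem_filter]; exact fun h => hj h.2)]
      have := (ht (σ.symm j)).resolve_right hj
      rw [this] at h9
      omega
  · intro i _ hi
    rw [hπ i, Pi.single_eq_of_ne, mul_zero]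
    intro h
    apply hi
    rw [← hσ] at h
    rw [h, Equiv.symm_apply_apply]
  · intro h; exact absurd (Finset.mem_univ _) h

/-- A coordinate permutation mapping the code into itself lies in the code's group. -/
theorem mem_M24_of_maps (σ : Equiv.Perm GolayPt)
    (h : ∀ w ∈ golayCode, permWord σ w ∈ golayCode) : σ ∈ M24 := by
  apply mem_M24_of_preserves σ h
  let f : golayCode → golayCode := fun w => ⟨permWord σ w.1, h w.1 w.2⟩
  have hinj : Function.Injective f := by
    intro a b hab
    have h1 : permWord σ a.1 = permWord σ b.1 := congrArg Subtype.val hab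
    apply Subtype.ext
    have h2 := congrArg (permWord σ⁻¹) h1
    rwa [permWord_inv_permWord, permWord_inv_permWord] at h2
  have hsurj : Function.Surjective f := Finite.injective_iff_surjective.mp hinj
  intro w hw
  obtain ⟨w', hw'⟩ := hsurj ⟨w, hw⟩
  have h1 : permWord σ w'.1 = w := congrArg Subtype.val hw'
  rw [← h1, permWord_inv_permWord]
  exact w'.2

theorem witVec_mem (e : ℤ) {w : GolayPt → ZMod 2} (hw : w ∈ golayCode) :
    witVec e w ∈ leechLattice :=
  AddSubgroup.subset_closure (witVec_mem_leechSet e hw)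

theorem perm_mem_M24 (σ : Equiv.Perm GolayPt) (c : Finset GolayPt)
    (h : ∀ x ∈ leechLattice, signedPerm σ c x ∈ leechLattice) : σ ∈ M24 := by
  apply mem_M24_of_maps
  intro w hw
  have hy := h _ (witVec_mem 0 hw)
  obtain ⟨m, a, ha, hc, hs⟩ := leechForm_of_mem hy
  have hx : ∀ i, witVec 0 w i = 2 * lift01 w i := by
    intro i; unfold witVec; simp
  have hyj : ∀ j, signedPerm σ c (witVec 0 w) j = 2 * lift01 w (σ.symm j) ∨
      signedPerm σ c (witVec 0 w) j = -(2 * lift01 w (σ.symm j)) := by
    intro j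
    unfold signedPerm
    by_cases hj : j ∈ c
    · rw [if_pos hj, hx]; right; rfl
    · rw [if_neg hj, hx]; left; rfl
  have hm : (2 : ℤ) ∣ m := by
    have h1 := ha none
    rcases hyj none with h2 | h2 <;> rw [h2] at h1 <;> omega
  obtain ⟨k, hk⟩ := hm
  obtain ⟨hb, hbc, -⟩ := LeechForm.shift ha hc hs k
  have : red2 (fun i => a i + k) = permWord σ w := by
    funext j
    have h1 := hb j
    rw [hk, sub_self, zero_add] at h1
    unfold permWord
    rw [← red2_lift01 w]
    unfold red2
    show ((a j + k : ℤ) : ZMod 2) = ((lift01 w (σ.symm j) : ℤ) : ZMod 2)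
    rcases hyj j with h2 | h2
    · rw [h2] at h1
      have : a j + k = lift01 w (σ.symm j) := by omega
      rw [this]
    · rw [h2] at h1
      have : a j + k = -lift01 w (σ.symm j) := by omega
      rw [this]
      push_cast
      exact neg_eq_of_add_eq_zero_left (CharTwo.add_self_eq_zero _)
  rw [← this]
  exact hbc

theorem signs_mem_supports (σ : Equiv.Perm GolayPt) (c : Finset GolayPt)
    (h : ∀ x ∈ leechLattice, signedPerm σ c x ∈ leechLattice) :
    c ∈ supports (golayCode : Set (GolayPt → ZMod 2)) := by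
  have hy := h _ (witVec_mem 1 (zero_mem golayCode))
  obtain ⟨m, a, ha, hc, hs⟩ := leechForm_of_mem hy
  have hx : ∀ i, (4 : ℤ) ∣ witVec 1 0 i - 1 := by
    intro i
    unfold witVec lift01
    by_cases hi : i = none
    · rw [if_pos hi]; simp
    · rw [if_neg hi]; simp
  have hyj : ∀ j, (j ∈ c → (4 : ℤ) ∣ signedPerm σ c (witVec 1 0) j - 3) ∧
      (j ∉ c → (4 : ℤ) ∣ signedPerm σ c (witVec 1 0) j - 1) := by
    intro j
    have := hx (σ.symm j)
    unfold signedPerm
    constructor
    · intro hj
      rw [if_pos hj]; omega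
    · intro hj
      rw [if_neg hj]; omega
  have hmodd : ¬ (2 : ℤ) ∣ m := by
    intro hm
    have h1 := ha none
    by_cases hj : (none : GolayPt) ∈ c
    · have := (hyj none).1 hj; omega
    · have := (hyj none).2 hj; omega
  by_cases hm1 : (4 : ℤ) ∣ m - 1
  · refine ⟨red2 a, hc, ?_⟩
    ext j
    rw [mem_support₂, red2_ne_zero_iff]
    have h1 := ha j
    constructor
    · intro h2
      by_contra hj
      have := (hyj j).2 hj
      omega
    · intro hj
      have := (hyj j).1 hj
      omega
  · refine ⟨red2 a + 1, add_mem hc one_mem_golayCode, ?_⟩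
    ext j
    rw [mem_support₂, Pi.add_apply, Pi.one_apply, zmod2_add_one_ne_zero_iff, red2_eq_zero_iff]
    have h1 := ha j
    constructor
    · intro h2
      by_contra hj
      have := (hyj j).2 hj
      omega
    · intro hj
      have := (hyj j).1 hj
      omega

theorem smul_eq (g : ↥Co0) (v : leechLattice) : g • v = (g : Equiv.Perm leechLattice) v := rfl

/-- The monomial automorphism attached to a permutation of the code's group and a code word. -/
def monoP (σ : M24) (w : golayCode) : Equiv.Perm leechLattice :=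
  epsP w.1 w.2 * permP (σ.1)⁻¹ (Subgroup.inv_mem _ σ.2)

theorem monoP_mem (σ : M24) (w : golayCode) : monoP σ w ∈ Co0 :=
  Subgroup.mul_mem _ (epsP_mem _ _) (permP_mem _ _)

theorem monoP_apply (σ : M24) (w : golayCode) (v : leechLattice) :
    ((monoP σ w v : leechLattice) : GolayPt → ℤ) = signedPerm σ.1 (support₂ w.1) v := by
  funext i
  show ((epsP w.1 w.2 (permP (σ.1)⁻¹ (Subgroup.inv_mem _ σ.2) v) : leechLattice) :
    GolayPt → ℤ) i = _
  rw [epsP_apply]
  unfold signChange signedPerm
  rfl

theorem signedPerm_single (σ : Equiv.Perm GolayPt) (c : Finset GolayPt) (i : GolayPt) (s : ℤ) :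
    signedPerm σ c (Pi.single i s) = Pi.single (σ i) (if σ i ∈ c then -s else s) := by
  funext j
  unfold signedPerm
  by_cases hj : j = σ i
  · subst hj
    rw [Equiv.symm_apply_apply, Pi.single_eq_same, Pi.single_eq_same]
  · have : σ.symm j ≠ i := by
      intro h; apply hj; rw [← h, Equiv.apply_symm_apply]
    rw [Pi.single_eq_of_ne this, Pi.single_eq_of_ne hj]
    simp

theorem monoP_presCross (σ : M24) (w : golayCode) (v : leechLattice)
    (hv : (v : GolayPt → ℤ) ∈ stdCross) :
    ((monoP σ w v : leechLattice) : GolayPt → ℤ) ∈ stdCross := by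
  obtain ⟨i, s, hs, hvs⟩ := hv
  rw [monoP_apply, hvs, signedPerm_single]
  refine ⟨σ.1 i, _, ?_, rfl⟩
  by_cases h : σ.1 i ∈ support₂ w.1
  · rw [if_pos h]
    rcases hs with rfl | rfl
    · right; rfl
    · left; rfl
  · rw [if_neg h]; exact hs

theorem word_eq_of_support₂_eq {w w' : GolayPt → ZMod 2} (h : support₂ w = support₂ w') :
    w = w' := by
  funext p
  have hp : p ∈ support₂ w ↔ p ∈ support₂ w' := by rw [h]
  rw [mem_support₂, mem_support₂] at hp
  have key : ∀ a b : ZMod 2, (a ≠ 0 ↔ b ≠ 0) → a = b := by decide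
  exact key _ _ hp

/-- The automorphisms preserving the standard cross, as a subtype. -/
abbrev Stab : Type :=
  {g : ↥Co0 // ∀ v : ↥leechLattice, (v : GolayPt → ℤ) ∈ stdCross →
    ((g • v : ↥leechLattice) : GolayPt → ℤ) ∈ stdCross}

/-- The parametrisation of the stabiliser of the standard cross. -/
def Psi (p : M24 × golayCode) : Stab :=
  ⟨⟨monoP p.1 p.2, monoP_mem p.1 p.2⟩, fun v hv => monoP_presCross p.1 p.2 v hv⟩

theorem Psi_injective : Function.Injective Psi := by
  rintro ⟨σ, w⟩ ⟨σ', w'⟩ h
  have h1 : monoP σ w = monoP σ' w' :=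
    congrArg (fun x : Stab => (x.1.1 : Equiv.Perm leechLattice)) h
  have h2 : ∀ i, signedPerm σ.1 (support₂ w.1) (Pi.single i 8) =
      signedPerm σ'.1 (support₂ w'.1) (Pi.single i 8) := by
    intro i
    have := congrArg (fun f : Equiv.Perm leechLattice => ((f (e8 i) : leechLattice) :
      GolayPt → ℤ)) h1
    simp only [monoP_apply] at this
    have he : ((e8 i : leechLattice) : GolayPt → ℤ) = Pi.single i 8 := vec8_eq_single i
    rwa [he] at this
  have hσ : ∀ i, σ.1 i = σ'.1 i := by
    intro i
    have := congrFun (h2 i) (σ.1 i)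
    rw [signedPerm_single, signedPerm_single, Pi.single_eq_same] at this
    by_contra hne
    rw [Pi.single_eq_of_ne hne] at this
    split_ifs at this <;> omega
  have hσ' : σ = σ' := Subtype.ext (Equiv.ext hσ)
  subst hσ'
  have hw : support₂ w.1 = support₂ w'.1 := by
    ext j
    have := congrFun (h2 (σ.1.symm j)) j
    rw [signedPerm_single, signedPerm_single, Equiv.apply_symm_apply, Pi.single_eq_same,
      Pi.single_eq_same] at this
    constructor
    · intro hj
      rw [if_pos hj] at this
      by_contra hj'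
      rw [if_neg hj'] at this
      omega
    · intro hj
      rw [if_pos hj] at this
      by_contra hj'
      rw [if_neg hj'] at this
      omega
  have : w = w' := Subtype.ext (word_eq_of_support₂_eq hw)
  rw [this]

theorem Psi_surjective : Function.Surjective Psi := by
  rintro ⟨⟨g, hg⟩, hcross⟩
  obtain ⟨σ, c, hf⟩ := exists_signedPerm g hg hcross
  have hmaps : ∀ x ∈ leechLattice, signedPerm σ c x ∈ leechLattice := by
    intro x hx
    have := hf ⟨x, hx⟩
    rw [← this]
    exact (g ⟨x, hx⟩).2
  have hσ := perm_mem_M24 σ c hmaps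
  obtain ⟨w, hw, hwc⟩ := signs_mem_supports σ c hmaps
  refine ⟨(⟨σ, hσ⟩, ⟨w, hw⟩), ?_⟩
  apply Subtype.ext
  apply Subtype.ext
  ext v : 1
  apply Subtype.ext
  show ((monoP ⟨σ, hσ⟩ ⟨w, hw⟩ v : leechLattice) : GolayPt → ℤ) = _
  rw [monoP_apply, hf v, hwc]

theorem card_code : Nat.card golayCode = 4096 := by
  have := Fintype.ofFinite golayCode
  rw [Nat.card_eq_fintype_card, Module.card_eq_pow_finrank (K := ZMod 2), ZMod.card,
    Cfsg.Agent.S0358.result]
  norm_num

/-- The stabiliser of the standard cross in the automorphism group of the lattice is the monomial group of the code: each of its elements acts as a signed permutation with permutation part in the code's group and sign set a codeword, and it has order 4096 · 244823040. -/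
theorem result : (∀ g : ↥Cfsg.Co0, (∀ v : ↥Cfsg.leechLattice, (v : Cfsg.GolayPt → ℤ) ∈ Cfsg.stdCross → ((g • v : ↥Cfsg.leechLattice) : Cfsg.GolayPt → ℤ) ∈ Cfsg.stdCross) → ∃ f ∈ Cfsg.golayMonomialMaps, ∀ v : ↥Cfsg.leechLattice, ((g • v : ↥Cfsg.leechLattice) : Cfsg.GolayPt → ℤ) = f (v : Cfsg.GolayPt → ℤ)) ∧ Nat.card {g : ↥Cfsg.Co0 // (∀ v : ↥Cfsg.leechLattice, (v : Cfsg.GolayPt → ℤ) ∈ Cfsg.stdCross → ((g • v : ↥Cfsg.leechLattice) : Cfsg.GolayPt → ℤ) ∈ Cfsg.stdCross)} = 4096 * 244823040 := by
  constructor
  · rintro ⟨g, hg⟩ hcross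
    obtain ⟨σ, c, hf⟩ := exists_signedPerm g hg hcross
    have hmaps : ∀ x ∈ leechLattice, signedPerm σ c x ∈ leechLattice := by
      intro x hx
      have := hf ⟨x, hx⟩
      rw [← this]
      exact (g ⟨x, hx⟩).2
    exact ⟨signedPerm σ c, ⟨σ, perm_mem_M24 σ c hmaps, c, signs_mem_supports σ c hmaps, rfl⟩,
      fun v => hf v⟩
  · have h := Nat.card_congr (Equiv.ofBijective Psi ⟨Psi_injective, Psi_surjective⟩)
    rw [Nat.card_prod, Cfsg.Agent.S0364.result, card_code] at h
    show Nat.card Stab = _
    rw [← h, mul_comm]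

end Cfsg.Agent.S1571
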