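import Mathlib
import Cfsg.Statements.S1640
import Cfsg.Agent.Lib.Helper27.LeechDesign

set_option autoImplicit false
set_option maxRecDepth 8000
open Cfsg

namespace Cfsg.Agent.S1640

open Cfsg.Agent.Helper27

theorem result (u : ↥Cfsg.leechLattice) (hu : Cfsg.sqNorm (u : Cfsg.GolayPt → ℤ) = 48) : {x : ↥Cfsg.leechLattice | Cfsg.sqNorm (x : Cfsg.GolayPt → ℤ) = 32 ∧ Cfsg.dotInt (u : Cfsg.GolayPt → ℤ) (x : Cfsg.GolayPt → ℤ) = -16}.ncard = 11178 ∧ ∀ x ∈ {x : ↥Cfsg.leechLattice | Cfsg.sqNorm (x : Cfsg.GolayPt → ℤ) = 32 ∧ Cfsg.dotInt (u : Cfsg.GolayPt → ℤ) (x : Cfsg.GolayPt → ℤ) = -16}, ∀ x' ∈ {x : ↥Cfsg.leechLattice | Cfsg.sqNorm (x : Cfsg.GolayPt → ℤ) = 32 ∧ Cfsg.dotInt (u : Cfsg.GolayPt → ℤ) (x : Cfsg.GolayPt → ℤ) = -16}, ∃ g : ↥Cfsg.Co0, g • u = u ∧ g • x = x' := by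
  have hu' : (u : GolayPt → ℤ) ∈ F48 := mem_F48'.mpr ⟨u.2, hu⟩
  constructor
  · have key := cntDot48_neg_sixteen hu'
    unfold cntDot at key
    rw [← key, ← ncard_subtype_eq]
    · congr 1
      ext x
      simp only [Set.mem_setOf_eq]
      rw [Finset.mem_filter, mem_F32]
      constructor
      · rintro ⟨h1, h2⟩; exact ⟨⟨x.2, h1⟩, h2⟩
      · rintro ⟨⟨-, h1⟩, h2⟩; exact ⟨h1, h2⟩
    · intro x hx
      exact (mem_F32.mp (Finset.mem_filter.mp hx).1).1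
  · intro x hx x' hx'
    have h1 : dotInt (u : GolayPt → ℤ) ((-x : leechLattice) : GolayPt → ℤ) = 16 := by
      show dotInt (u : GolayPt → ℤ) (-(x : GolayPt → ℤ)) = 16
      rw [dotInt_neg_right', hx.2]; norm_num
    have h2 : dotInt (u : GolayPt → ℤ) ((-x' : leechLattice) : GolayPt → ℤ) = 16 := by
      show dotInt (u : GolayPt → ℤ) (-(x' : GolayPt → ℤ)) = 16
      rw [dotInt_neg_right', hx'.2]; norm_num
    have n1 : sqNorm ((-x : leechLattice) : GolayPt → ℤ) = 32 := by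
      show sqNorm (-(x : GolayPt → ℤ)) = 32
      rw [sqNorm_neg']; exact hx.1
    have n2 : sqNorm ((-x' : leechLattice) : GolayPt → ℤ) = 32 := by
      show sqNorm (-(x' : GolayPt → ℤ)) = 32
      rw [sqNorm_neg']; exact hx'.1
    obtain ⟨g, e1, e2⟩ := exists_smul_of_coEq2 (pair_u5 u.2 (-x).2 hu n1 h1)
      (pair_u5 u.2 (-x').2 hu n2 h2)
    refine ⟨g, e1, ?_⟩
    rw [smul_neg'] at e2
    exact neg_injective e2

end Cfsg.Agent.S1640
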