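import Mathlib
import Cfsg.Statements.S1605
import Cfsg.Agent.Lib.Helper29.M24Cfg

set_option autoImplicit false
open scoped Pointwise
open Cfsg

namespace Cfsg.Agent.S1605

open Cfsg.Agent.Helper29.M24 Cfsg.Agent.Helper29 Cfsg.Agent.Helper27
open Cfsg.Agent.S0358 (idx)

def hgensA : List (ℕ × ℕ) := [
  (976478471507197089552514206644188743, 3477753208641041994033),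
  (974262386334051336110428924187515938, 3022108193276689),
  (976300701738880531852354829683475884, 198840492319457874195),
  (971326260337047599556816990454199554, 13029193696273)]

set_option maxRecDepth 100000 in
def treeTabA : List (List ℕ) := [
  [0, 0, 0, 0, 0, 0, 0, 0, 0, 0, 0, 0, 0, 0, 0, 0, 0, 0, 0, 0, 0, 0, 0, 0, 0, 0, 0, 0, 0, 0, 0, 0, 0, 0, 0, 0, 0, 0, 0, 0, 0, 0, 0, 0, 0, 0, 0, 0, 0, 0, 0, 0, 0, 0, 0, 0, 0, 0, 0, 0, 0, 0, 0, 0],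
  [0, 0, 0, 0, 0, 0, 0, 0, 0, 0, 0, 0, 0, 0, 0, 0, 0, 0, 0, 0, 0, 0, 0, 0, 0, 0, 0, 0, 0, 0, 0, 0, 0, 0, 0, 0, 0, 0, 0, 0, 0, 0, 0, 0, 0, 0, 0, 0, 0, 0, 0, 0, 0, 0, 0, 0, 0, 0, 0, 0, 0, 0, 0, 0],
  [0, 0, 0, 0, 0, 0, 0, 0, 0, 0, 0, 0, 0, 0, 0, 0, 0, 0, 0, 0, 0, 0, 0, 0, 0, 0, 0, 0, 0, 0, 0, 0, 0, 0, 0, 0, 0, 0, 0, 0, 0, 0, 0, 0, 0, 0, 0, 0, 0, 0, 0, 0, 0, 0, 0, 0, 0, 0, 0, 0, 0, 0, 0, 0],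
  [0, 0, 0, 0, 0, 0, 0, 0, 0, 0, 0, 0, 0, 0, 0, 0, 0, 0, 0, 0, 0, 0, 0, 0, 0, 0, 0, 0, 0, 0, 0, 0, 0, 0, 0, 0, 0, 0, 0, 0, 0, 0, 0, 0, 0, 0, 0, 0, 0, 0, 0, 0, 0, 0, 0, 0, 0, 0, 0, 0, 0, 0, 0, 0],
  [0, 0, 0, 0, 0, 0, 0, 0, 0, 0, 0, 0, 0, 0, 0, 0, 0, 0, 0, 0, 0, 0, 0, 0, 0, 0, 0, 0, 0, 0, 0, 0, 0, 0, 0, 0, 0, 0, 0, 0, 0, 0, 0, 0, 0, 0, 0, 0, 0, 0, 0, 0, 0, 0, 0, 0, 0, 0, 0, 0, 0, 0, 0, 0],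
  [0, 0, 0, 0, 0, 0, 0, 0, 0, 0, 0, 0, 0, 0, 0, 0, 0, 0, 0, 0, 0, 0, 0, 0, 0, 0, 0, 0, 0, 0, 0, 0, 0, 0, 0, 0, 0, 0, 0, 0, 0, 0, 0, 0, 0, 0, 0, 0, 0, 0, 0, 0, 0, 0, 0, 0, 0, 0, 0, 0, 0, 0, 0, 0],
  [0, 0, 0, 0, 0, 0, 0, 0, 0, 0, 0, 0, 0, 0, 0, 0, 0, 0, 0, 0, 0, 0, 0, 0, 0, 0, 0, 0, 0, 0, 0, 0, 0, 0, 0, 0, 0, 0, 0, 0, 0, 0, 0, 0, 0, 0, 0, 0, 0, 0, 0, 0, 0, 0, 0, 0, 0, 0, 0, 0, 0, 0, 0, 0],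
  [0, 0, 0, 0, 0, 0, 0, 0, 0, 0, 0, 0, 0, 0, 0, 0, 0, 0, 0, 0, 0, 0, 0, 0, 0, 0, 0, 0, 0, 0, 0, 0, 0, 0, 0, 0, 0, 0, 0, 0, 0, 0, 0, 0, 0, 0, 0, 0, 0, 0, 0, 0, 0, 0, 0, 0, 0, 0, 0, 0, 0, 0, 0, 0],
  [0, 0, 0, 0, 0, 0, 0, 0, 0, 0, 0, 0, 0, 0, 0, 0, 0, 0, 0, 0, 0, 0, 0, 0, 0, 0, 0, 0, 0, 0, 0, 0, 0, 0, 0, 0, 0, 0, 0, 0, 0, 0, 0, 0, 0, 0, 0, 0, 0, 0, 0, 0, 0, 0, 0, 0, 0, 0, 0, 0, 0, 0, 0, 0],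
  [0, 0, 0, 0, 0, 0, 0, 0, 0, 0, 0, 0, 0, 0, 0, 0, 0, 0, 0, 0, 0, 0, 0, 0, 0, 0, 0, 0, 0, 0, 0, 0, 0, 0, 0, 0, 0, 0, 0, 0, 0, 0, 0, 0, 0, 0, 0, 0, 0, 0, 0, 0, 0, 0, 0, 0, 0, 0, 0, 0, 0, 0, 0, 0],
  [0, 0, 0, 0, 0, 0, 0, 0, 0, 0, 0, 0, 0, 0, 0, 0, 0, 0, 0, 0, 0, 0, 0, 0, 0, 0, 0, 0, 0, 0, 0, 0, 0, 0, 0, 0, 0, 0, 0, 0, 0, 0, 0, 0, 0, 0, 0, 0, 0, 0, 0, 0, 0, 0, 0, 0, 0, 0, 0, 0, 0, 0, 0, 0],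
  [0, 0, 0, 0, 0, 0, 0, 0, 0, 0, 0, 0, 0, 0, 0, 0, 0, 0, 0, 0, 0, 0, 0, 0, 0, 0, 0, 0, 0, 0, 0, 0, 0, 0, 0, 0, 0, 0, 0, 0, 0, 0, 0, 0, 0, 0, 0, 0, 0, 0, 0, 0, 0, 0, 0, 0, 0, 0, 0, 0, 0, 0, 0, 0],
  [0, 0, 0, 0, 0, 0, 0, 0, 0, 0, 0, 0, 0, 0, 0, 0, 0, 0, 0, 0, 0, 0, 0, 0, 0, 0, 0, 0, 0, 0, 0, 0, 0, 0, 0, 0, 0, 0, 0, 0, 0, 0, 0, 0, 0, 0, 0, 0, 0, 0, 0, 0, 0, 0, 0, 0, 0, 0, 0, 0, 0, 0, 0, 0],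
  [0, 0, 0, 0, 0, 0, 0, 0, 0, 0, 0, 0, 0, 0, 0, 0, 0, 0, 0, 0, 0, 0, 0, 0, 0, 0, 0, 0, 0, 0, 0, 0, 0, 0, 0, 0, 0, 0, 0, 0, 0, 0, 0, 0, 0, 0, 0, 0, 0, 0, 0, 0, 0, 0, 0, 0, 0, 0, 0, 0, 0, 0, 0, 0],
  [0, 0, 0, 0, 0, 0, 0, 0, 0, 0, 0, 0, 0, 0, 0, 0, 0, 0, 0, 0, 0, 0, 0, 0, 0, 0, 0, 0, 0, 0, 0, 0, 0, 0, 0, 0, 0, 0, 0, 0, 0, 0, 0, 0, 0, 0, 0, 0, 0, 0, 0, 0, 0, 0, 0, 0, 0, 0, 0, 0, 0, 0, 0, 0],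
  [0, 0, 0, 0, 0, 0, 0, 0, 0, 0, 0, 0, 0, 0, 0, 0, 0, 0, 0, 0, 0, 0, 0, 0, 0, 0, 0, 0, 0, 0, 0, 0, 0, 0, 0, 0, 0, 0, 0, 0, 0, 0, 0, 0, 0, 0, 0, 0, 0, 0, 0, 0, 0, 0, 0, 0, 0, 0, 0, 0, 0, 0, 0, 0],
  [0, 0, 0, 0, 0, 0, 0, 0, 0, 0, 0, 0, 0, 0, 0, 0, 0, 0, 0, 0, 0, 0, 0, 0, 0, 0, 0, 0, 0, 0, 0, 0, 0, 0, 0, 0, 0, 0, 0, 0, 0, 0, 0, 0, 0, 0, 0, 0, 0, 0, 0, 0, 0, 0, 0, 0, 0, 0, 0, 0, 0, 0, 0, 0],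
  [0, 0, 0, 0, 0, 0, 0, 0, 0, 0, 0, 0, 0, 0, 0, 0, 0, 0, 0, 0, 0, 0, 0, 0, 0, 0, 0, 0, 0, 0, 0, 0, 0, 0, 0, 0, 0, 0, 0, 0, 0, 0, 0, 0, 0, 0, 0, 0, 0, 0, 0, 0, 0, 0, 0, 0, 0, 0, 0, 0, 0, 0, 0, 0],
  [0, 0, 0, 0, 0, 0, 0, 0, 0, 0, 0, 0, 0, 0, 0, 0, 0, 0, 0, 0, 0, 0, 0, 0, 0, 0, 0, 0, 0, 0, 0, 0, 0, 0, 0, 0, 0, 0, 0, 0, 0, 0, 0, 0, 0, 0, 0, 0, 0, 0, 0, 0, 0, 0, 0, 0, 0, 0, 0, 0, 0, 0, 0, 0],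
  [0, 0, 0, 0, 0, 0, 0, 0, 0, 0, 0, 0, 0, 0, 0, 0, 0, 0, 0, 0, 0, 0, 0, 0, 0, 0, 0, 0, 0, 0, 0, 0, 0, 0, 0, 0, 0, 0, 0, 0, 0, 0, 0, 0, 0, 0, 0, 0, 0, 0, 0, 0, 0, 0, 0, 0, 0, 0, 0, 0, 0, 0, 0, 0],
  [0, 0, 0, 0, 0, 0, 0, 0, 0, 0, 0, 0, 0, 0, 0, 0, 0, 0, 0, 0, 0, 0, 0, 0, 0, 0, 0, 0, 0, 0, 0, 0, 0, 0, 0, 0, 0, 0, 0, 0, 0, 0, 0, 0, 0, 0, 0, 0, 0, 0, 0, 0, 0, 0, 0, 0, 0, 0, 0, 0, 0, 0, 0, 0],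
  [0, 0, 0, 0, 0, 0, 0, 0, 0, 0, 0, 0, 0, 0, 0, 0, 0, 0, 0, 0, 0, 0, 0, 0, 0, 0, 0, 0, 0, 0, 0, 0, 0, 0, 0, 0, 0, 0, 0, 0, 0, 0, 0, 0, 0, 0, 0, 0, 0, 0, 0, 0, 0, 0, 0, 0, 0, 0, 0, 0, 0, 0, 0, 0],
  [0, 0, 0, 0, 0, 0, 0, 0, 0, 0, 0, 0, 0, 0, 0, 0, 0, 0, 0, 0, 0, 0, 0, 0, 0, 0, 0, 0, 0, 0, 0, 0, 0, 0, 0, 0, 0, 0, 0, 0, 0, 0, 0, 0, 0, 0, 0, 0, 0, 0, 0, 0, 0, 0, 0, 0, 0, 0, 0, 0, 0, 0, 0, 0],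
  [0, 0, 0, 0, 0, 0, 0, 0, 0, 0, 0, 0, 0, 0, 0, 0, 0, 0, 0, 0, 0, 0, 0, 0, 0, 0, 0, 0, 0, 0, 0, 0, 0, 0, 0, 0, 0, 0, 0, 0, 0, 0, 0, 0, 0, 0, 0, 0, 0, 0, 0, 0, 0, 0, 0, 0, 0, 0, 0, 0, 0, 0, 0, 0],
  [0, 0, 0, 0, 0, 0, 0, 0, 0, 0, 0, 0, 0, 0, 0, 0, 0, 0, 0, 0, 0, 0, 0, 0, 0, 0, 0, 0, 0, 0, 0, 0, 0, 0, 0, 0, 0, 0, 0, 0, 0, 0, 0, 0, 0, 0, 0, 0, 0, 0, 0, 0, 0, 0, 0, 0, 0, 0, 0, 0, 0, 0, 0, 0],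
  [0, 0, 0, 0, 0, 0, 0, 0, 0, 0, 0, 0, 0, 0, 0, 0, 0, 0, 0, 0, 0, 0, 0, 0, 0, 0, 0, 0, 0, 0, 0, 0, 0, 0, 0, 0, 0, 0, 0, 0, 0, 0, 0, 0, 0, 0, 0, 0, 0, 0, 0, 0, 0, 0, 0, 0, 0, 0, 0, 0, 0, 0, 0, 0],
  [0, 0, 0, 0, 0, 0, 0, 0, 0, 0, 0, 0, 0, 0, 0, 0, 0, 0, 0, 0, 0, 0, 0, 0, 0, 0, 0, 0, 0, 0, 0, 0, 0, 0, 0, 0, 0, 0, 0, 0, 0, 0, 0, 0, 0, 0, 0, 0, 0, 0, 0, 0, 0, 0, 0, 0, 0, 0, 0, 0, 0, 0, 0, 0],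
  [0, 0, 0, 0, 0, 0, 0, 0, 0, 0, 0, 0, 0, 0, 0, 0, 0, 0, 0, 0, 0, 0, 0, 0, 0, 0, 0, 0, 0, 0, 0, 0, 0, 0, 0, 0, 0, 0, 0, 0, 0, 0, 0, 0, 0, 0, 0, 0, 0, 0, 0, 0, 0, 0, 0, 0, 0, 0, 0, 0, 0, 0, 0, 0],
  [0, 0, 0, 0, 0, 0, 0, 0, 0, 0, 0, 0, 0, 0, 0, 0, 0, 0, 0, 0, 0, 0, 0, 0, 0, 0, 0, 0, 0, 0, 0, 0, 0, 0, 0, 0, 0, 0, 0, 0, 0, 0, 0, 0, 0, 0, 0, 0, 0, 0, 0, 0, 0, 0, 0, 0, 0, 0, 0, 0, 0, 0, 0, 0],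
  [0, 0, 0, 0, 0, 0, 0, 0, 0, 0, 0, 0, 0, 0, 0, 0, 0, 0, 0, 0, 0, 0, 0, 0, 0, 0, 0, 0, 0, 0, 0, 0, 0, 0, 0, 0, 0, 0, 0, 0, 0, 0, 0, 0, 0, 0, 0, 0, 0, 0, 0, 0, 0, 0, 0, 0, 0, 0, 0, 0, 0, 0, 0, 0],
  [0, 0, 0, 0, 0, 0, 0, 0, 0, 0, 0, 0, 0, 0, 0, 0, 0, 0, 0, 0, 0, 0, 0, 0, 0, 0, 0, 0, 0, 0, 0, 0, 0, 0, 0, 0, 0, 0, 0, 0, 0, 0, 0, 0, 0, 0, 0, 0, 0, 0, 0, 0, 0, 0, 0, 0, 0, 0, 0, 0, 0, 0, 0, 0],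
  [0, 0, 0, 0, 0, 0, 0, 0, 0, 0, 0, 0, 0, 0, 0, 0, 0, 0, 0, 0, 0, 0, 0, 0, 0, 0, 0, 0, 0, 0, 0, 0, 0, 0, 0, 0, 0, 0, 0, 0, 0, 0, 0, 0, 0, 0, 0, 0, 0, 0, 0, 0, 0, 0, 0, 0, 0, 0, 0, 0, 0, 0, 0, 0],
  [0, 0, 0, 0, 0, 0, 0, 0, 0, 0, 0, 0, 0, 0, 0, 0, 0, 0, 0, 0, 0, 0, 0, 0, 0, 0, 0, 0, 0, 0, 0, 0, 0, 0, 0, 0, 0, 0, 0, 1322327, 0, 0, 0, 0, 0, 0, 0, 0, 0, 0, 0, 0, 0, 0, 801201, 0, 0, 793227, 0, 0, 0, 0, 0, 0],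
  [0, 0, 0, 0, 0, 0, 0, 1058914, 0, 0, 0, 0, 0, 0, 1313225, 0, 0, 0, 0, 0, 0, 0, 0, 0, 0, 0, 0, 0, 0, 0, 0, 0, 0, 793195, 0, 0, 1318712, 0, 0, 0, 0, 0, 0, 0, 0, 0, 0, 0, 0, 0, 0, 0, 0, 0, 0, 0, 0, 0, 0, 0, 0, 0, 0, 0],
  [0, 0, 0, 0, 0, 0, 0, 0, 0, 0, 0, 0, 0, 0, 1055591, 0, 0, 0, 0, 0, 0, 0, 0, 0, 0, 0, 0, 0, 1054818, 0, 0, 0, 0, 1063716, 0, 0, 0, 0, 0, 0, 0, 0, 0, 0, 0, 0, 0, 0, 0, 0, 0, 0, 0, 789667, 0, 0, 0, 0, 0, 0, 0, 0, 0, 1318470],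
  [0, 0, 802095, 0, 0, 0, 0, 0, 1059519, 0, 0, 797473, 0, 0, 0, 0, 0, 0, 0, 0, 0, 0, 0, 0, 0, 0, 0, 0, 0, 0, 0, 0, 0, 0, 0, 0, 528149, 0, 0, 0, 0, 0, 0, 1318808, 0, 1050722, 0, 0, 0, 0, 0, 789281, 0, 0, 0, 0, 0, 0, 0, 0, 0, 0, 0, 0],
  [0, 0, 0, 0, 0, 0, 0, 0, 0, 0, 0, 0, 0, 0, 0, 0, 0, 0, 0, 1055423, 0, 0, 0, 0, 0, 0, 0, 0, 1051428, 0, 0, 0, 0, 0, 0, 0, 0, 0, 0, 0, 0, 0, 0, 1051895, 0, 0, 0, 0, 0, 0, 0, 0, 0, 1052600, 0, 0, 0, 0, 1064479, 0, 1050819, 0, 0, 0],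
  [0, 789049, 794162, 0, 0, 0, 0, 0, 0, 0, 0, 0, 0, 0, 0, 0, 0, 0, 0, 0, 0, 0, 0, 0, 0, 0, 0, 0, 0, 0, 0, 531508, 0, 0, 0, 0, 0, 0, 0, 0, 0, 0, 0, 0, 0, 0, 0, 0, 0, 0, 0, 0, 0, 0, 0, 0, 0, 1056587, 0, 0, 0, 0, 0, 0],
  [0, 0, 0, 0, 790515, 0, 0, 0, 0, 0, 0, 0, 0, 0, 0, 0, 1055533, 0, 0, 0, 0, 0, 1059620, 0, 0, 0, 0, 0, 0, 0, 0, 0, 0, 0, 0, 0, 0, 0, 0, 0, 0, 0, 0, 0, 0, 1056574, 0, 0, 531776, 0, 0, 1056009, 0, 0, 0, 0, 0, 0, 0, 0, 0, 0, 0, 789131],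
  [0, 0, 0, 0, 0, 0, 0, 1060105, 1055693, 0, 0, 0, 0, 0, 0, 0, 0, 0, 0, 0, 0, 0, 1317370, 0, 0, 0, 1059765, 0, 0, 0, 0, 0, 0, 793009, 0, 0, 0, 0, 0, 0, 0, 0, 0, 0, 0, 0, 1054902, 0, 0, 0, 0, 0, 0, 0, 0, 0, 0, 1051913, 0, 0, 0, 0, 0, 0],
  [0, 0, 0, 1322408, 0, 0, 0, 0, 0, 0, 0, 0, 0, 0, 0, 0, 0, 0, 1326139, 0, 0, 0, 0, 0, 0, 0, 0, 0, 0, 1050947, 0, 0, 0, 0, 0, 0, 0, 0, 802591, 0, 0, 0, 0, 0, 0, 0, 0, 0, 0, 0, 0, 0, 0, 0, 0, 0, 535872, 0, 0, 0, 0, 0, 0, 0],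
  [0, 0, 0, 0, 0, 1052034, 0, 0, 0, 0, 0, 0, 0, 0, 0, 0, 0, 1051573, 0, 0, 0, 0, 0, 0, 0, 0, 0, 1326904, 0, 0, 0, 0, 0, 0, 0, 0, 0, 0, 0, 0, 0, 0, 528077, 0, 0, 0, 0, 0, 0, 0, 0, 0, 1060265, 0, 0, 0, 1064486, 0, 0, 1060064, 0, 0, 0, 0],
  [0, 0, 0, 0, 0, 802474, 0, 0, 0, 0, 527680, 0, 0, 0, 0, 0, 0, 0, 0, 0, 0, 0, 0, 1325294, 0, 0, 0, 0, 0, 0, 0, 0, 0, 0, 0, 0, 0, 0, 0, 0, 0, 1059011, 0, 0, 0, 0, 0, 0, 0, 1059982, 0, 0, 0, 0, 0, 0, 0, 0, 0, 0, 0, 0, 798203, 0],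
  [0, 0, 0, 0, 0, 0, 0, 0, 0, 1060342, 0, 0, 0, 0, 0, 0, 0, 0, 0, 0, 1052198, 0, 0, 794107, 0, 0, 0, 0, 0, 0, 0, 0, 0, 0, 0, 0, 0, 0, 0, 0, 0, 0, 0, 0, 0, 0, 0, 1318071, 0, 0, 1313310, 0, 0, 0, 0, 0, 0, 0, 0, 0, 0, 1318834, 0, 0],
  [0, 0, 0, 794611, 0, 0, 0, 0, 0, 0, 0, 0, 0, 0, 0, 1313779, 0, 0, 0, 0, 0, 0, 0, 0, 0, 0, 0, 0, 0, 0, 0, 0, 539700, 0, 0, 801955, 0, 0, 0, 0, 0, 0, 0, 0, 792805, 0, 0, 0, 0, 0, 0, 0, 0, 0, 0, 0, 0, 0, 0, 0, 0, 0, 0, 0],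
  [0, 0, 0, 0, 0, 0, 0, 0, 0, 1317910, 0, 0, 0, 0, 0, 0, 0, 0, 0, 0, 0, 0, 0, 0, 0, 0, 0, 0, 0, 1322043, 0, 0, 788709, 0, 0, 0, 0, 0, 797859, 0, 0, 0, 0, 0, 0, 0, 0, 0, 0, 0, 0, 0, 0, 0, 0, 0, 0, 0, 0, 0, 0, 0, 1051558, 0],
  [0, 0, 0, 0, 0, 0, 0, 0, 0, 0, 793145, 0, 0, 0, 0, 1318758, 0, 0, 0, 0, 0, 0, 0, 0, 0, 0, 0, 0, 0, 0, 0, 0, 0, 0, 0, 0, 0, 800997, 0, 0, 0, 0, 0, 0, 1064183, 0, 0, 0, 0, 0, 0, 0, 802354, 0, 0, 0, 0, 0, 0, 1321417, 0, 0, 0, 0],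
  [0, 0, 0, 0, 0, 0, 0, 0, 0, 0, 0, 0, 801387, 0, 0, 0, 0, 1064160, 0, 0, 0, 0, 0, 0, 0, 0, 0, 0, 0, 0, 0, 0, 0, 0, 0, 0, 0, 0, 0, 0, 0, 0, 0, 0, 0, 0, 0, 0, 0, 0, 1050946, 0, 0, 0, 0, 797024, 0, 0, 0, 0, 0, 0, 0, 0],
  [0, 0, 0, 0, 0, 0, 0, 0, 0, 0, 0, 0, 0, 0, 0, 0, 0, 0, 0, 0, 0, 1063640, 0, 0, 0, 0, 1056294, 0, 0, 0, 0, 0, 0, 0, 0, 0, 1064322, 0, 0, 0, 0, 0, 0, 0, 0, 0, 0, 0, 0, 0, 0, 272410, 0, 0, 0, 0, 0, 0, 1063846, 0, 0, 0, 0, 0],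
  [0, 0, 0, 0, 0, 0, 0, 0, 0, 0, 0, 0, 0, 0, 0, 0, 0, 0, 0, 790011, 0, 0, 0, 0, 0, 1064361, 0, 0, 1318129, 0, 0, 0, 0, 0, 0, 0, 0, 0, 0, 0, 0, 0, 0, 0, 0, 0, 0, 0, 1062970, 0, 0, 0, 0, 0, 0, 0, 0, 0, 0, 0, 0, 0, 0, 1313975],
  [0, 0, 0, 0, 0, 0, 0, 0, 0, 0, 0, 0, 0, 790186, 0, 0, 0, 0, 0, 0, 0, 0, 0, 0, 0, 1056696, 0, 0, 0, 0, 0, 0, 0, 0, 532173, 0, 0, 0, 0, 0, 0, 0, 0, 0, 0, 0, 0, 0, 0, 0, 0, 0, 0, 0, 1063777, 0, 0, 0, 0, 0, 0, 0, 0, 0],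
  [0, 0, 0, 0, 0, 0, 0, 0, 0, 0, 0, 1313068, 0, 0, 0, 0, 0, 0, 0, 0, 0, 789099, 0, 0, 0, 0, 0, 0, 0, 0, 0, 790303, 0, 0, 0, 0, 0, 0, 0, 0, 1060383, 0, 0, 0, 0, 0, 0, 0, 1051732, 0, 0, 0, 0, 0, 794399, 0, 0, 0, 0, 0, 0, 0, 0, 0],
  [0, 0, 0, 0, 798378, 0, 0, 1322808, 798273, 0, 0, 0, 0, 0, 0, 0, 0, 0, 0, 0, 0, 0, 0, 0, 0, 0, 0, 0, 0, 0, 0, 0, 0, 1064510, 0, 0, 0, 0, 0, 0, 0, 0, 0, 1063615, 0, 0, 540365, 0, 0, 0, 0, 0, 0, 0, 0, 0, 0, 0, 0, 0, 0, 0, 0, 276506],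
  [0, 1055886, 0, 0, 0, 0, 0, 0, 0, 0, 0, 0, 0, 0, 0, 0, 0, 0, 0, 0, 0, 0, 1055448, 0, 0, 0, 0, 0, 0, 0, 0, 0, 0, 0, 1059060, 0, 0, 0, 0, 0, 0, 0, 0, 0, 0, 1063235, 0, 0, 0, 0, 0, 0, 0, 0, 0, 0, 0, 0, 0, 0, 1322962, 0, 0, 0],
  [0, 798707, 0, 0, 0, 0, 0, 0, 0, 0, 0, 0, 0, 1055654, 0, 0, 0, 0, 0, 801120, 0, 0, 0, 0, 0, 0, 0, 0, 0, 0, 0, 0, 0, 0, 0, 0, 0, 0, 0, 1051489, 801419, 0, 0, 0, 0, 0, 1059789, 0, 0, 0, 0, 0, 0, 0, 0, 0, 0, 0, 0, 0, 0, 0, 0, 0],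
  [0, 0, 0, 0, 0, 0, 0, 0, 0, 0, 0, 0, 0, 1317915, 0, 0, 0, 0, 0, 802369, 0, 0, 0, 0, 0, 0, 0, 0, 0, 0, 0, 0, 0, 0, 0, 0, 1064438, 0, 0, 0, 0, 0, 0, 1059138, 0, 0, 0, 0, 0, 0, 0, 0, 0, 801569, 0, 0, 0, 0, 536341, 0, 0, 0, 0, 0],
  [0, 0, 0, 0, 0, 0, 1326313, 0, 0, 0, 0, 0, 0, 0, 0, 0, 0, 0, 0, 0, 0, 0, 0, 0, 0, 0, 0, 0, 0, 0, 790066, 0, 0, 0, 0, 0, 0, 802299, 0, 0, 0, 0, 0, 0, 0, 0, 0, 1052222, 0, 536269, 0, 0, 0, 0, 0, 0, 0, 0, 0, 0, 0, 793377, 0, 0],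
  [540437, 0, 0, 0, 0, 1056212, 1063928, 0, 0, 0, 0, 0, 0, 0, 0, 0, 0, 0, 0, 0, 0, 0, 0, 0, 1064404, 0, 0, 0, 0, 0, 0, 0, 0, 0, 0, 1318571, 0, 0, 1055736, 0, 0, 1051072, 0, 0, 0, 0, 0, 1321361, 0, 0, 0, 0, 0, 0, 0, 0, 0, 0, 0, 0, 0, 0, 0, 0],
  [0, 0, 0, 0, 0, 0, 0, 0, 0, 0, 0, 0, 0, 0, 0, 0, 0, 0, 1051862, 0, 0, 0, 0, 0, 0, 0, 0, 0, 0, 0, 0, 0, 0, 0, 0, 0, 0, 0, 0, 0, 0, 539968, 1058998, 0, 0, 0, 0, 0, 0, 0, 0, 0, 1063819, 0, 0, 0, 0, 0, 0, 0, 0, 1055366, 0, 0],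
  [1327026, 0, 0, 1314660, 0, 0, 0, 0, 0, 0, 0, 0, 268314, 0, 0, 0, 0, 0, 0, 0, 0, 0, 0, 0, 0, 0, 0, 0, 0, 0, 0, 0, 0, 0, 0, 0, 0, 0, 0, 0, 0, 0, 1055585, 0, 0, 0, 0, 797241, 0, 0, 0, 0, 0, 0, 0, 0, 0, 0, 0, 0, 0, 0, 0, 0],
  [0, 0, 0, 0, 0, 0, 0, 0, 0, 0, 0, 0, 0, 0, 0, 0, 0, 0, 0, 0, 264218, 0, 0, 0, 0, 0, 0, 1050806, 0, 0, 535604, 0, 1322585, 0, 0, 0, 0, 0, 0, 0, 0, 0, 0, 0, 0, 0, 0, 0, 0, 0, 0, 0, 0, 0, 0, 1059681, 0, 0, 0, 0, 0, 796901, 0, 0],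
  [0, 0, 0, 0, 0, 0, 0, 0, 0, 0, 794282, 0, 0, 0, 0, 0, 0, 0, 0, 0, 0, 0, 0, 0, 1318319, 0, 0, 0, 0, 1060308, 0, 0, 0, 0, 0, 1055958, 0, 1060054, 0, 0, 0, 0, 0, 0, 0, 0, 0, 0, 0, 0, 0, 0, 0, 0, 0, 0, 0, 0, 0, 1059832, 0, 0, 0, 0],
  [0, 0, 0, 0, 0, 0, 0, 0, 0, 0, 0, 0, 0, 0, 0, 0, 0, 0, 0, 0, 0, 0, 0, 1060226, 1055669, 0, 0, 0, 0, 0, 0, 0, 0, 0, 0, 0, 0, 0, 0, 0, 0, 0, 0, 0, 0, 0, 0, 0, 0, 1059750, 0, 0, 0, 0, 0, 793763, 1059264, 0, 0, 0, 0, 0, 0, 0],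
  [0, 0, 0, 0, 0, 0, 0, 0, 0, 0, 0, 0, 0, 0, 0, 797105, 0, 1052116, 0, 0, 0, 0, 0, 0, 0, 0, 0, 0, 0, 0, 0, 0, 0, 0, 0, 0, 0, 0, 0, 0, 0, 0, 0, 0, 0, 0, 0, 0, 0, 0, 527412, 0, 0, 0, 0, 0, 0, 0, 0, 0, 0, 0, 0, 0]]
def hgensB : List (ℕ × ℕ) := [
  (970174448249835115125718532468708401, 44723592094635932193587),
  (982902701927266241123292179150672930, 198984926448118481681),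
  (966239315940151272788024596180829294, 13373289995083788595),
  (972915112475520539289720682100934080, 237040343441401537587)]

set_option maxRecDepth 100000 in
def treeTabB : List (List ℕ) := [
  [0, 0, 0, 0, 0, 0, 0, 0, 0, 0, 0, 0, 0, 0, 0, 0, 0, 0, 0, 0, 0, 0, 0, 0, 0, 0, 0, 0, 0, 0, 0, 0, 0, 0, 0, 0, 0, 0, 0, 0, 0, 0, 0, 0, 0, 0, 0, 0, 0, 0, 0, 0, 0, 0, 0, 0, 0, 0, 0, 0, 0, 0, 0, 0],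
  [0, 0, 0, 0, 0, 0, 0, 0, 0, 0, 0, 0, 0, 0, 0, 0, 0, 0, 0, 0, 0, 0, 0, 0, 0, 0, 0, 0, 0, 0, 0, 0, 0, 0, 0, 0, 0, 0, 0, 0, 0, 0, 0, 0, 0, 0, 0, 0, 0, 0, 0, 0, 0, 0, 0, 0, 0, 0, 0, 0, 0, 0, 0, 0],
  [0, 0, 0, 0, 0, 0, 0, 0, 0, 0, 0, 0, 0, 0, 0, 0, 0, 0, 0, 0, 0, 0, 0, 0, 0, 0, 0, 0, 0, 0, 0, 0, 0, 0, 0, 0, 0, 0, 0, 0, 0, 0, 0, 0, 0, 0, 0, 0, 0, 0, 0, 0, 0, 0, 0, 0, 0, 0, 0, 0, 0, 0, 0, 0],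
  [0, 0, 0, 0, 0, 0, 0, 0, 0, 0, 0, 0, 0, 0, 0, 0, 0, 0, 0, 0, 0, 0, 0, 0, 0, 0, 0, 0, 0, 0, 0, 0, 0, 0, 0, 0, 0, 0, 0, 0, 0, 0, 0, 0, 0, 0, 0, 0, 0, 0, 0, 0, 0, 0, 0, 0, 0, 0, 0, 0, 0, 0, 0, 0],
  [0, 0, 0, 0, 0, 0, 0, 0, 0, 0, 0, 0, 0, 0, 0, 0, 0, 0, 0, 0, 0, 0, 0, 0, 0, 0, 0, 0, 0, 0, 0, 0, 0, 0, 0, 0, 0, 0, 0, 0, 0, 0, 0, 0, 0, 0, 0, 0, 0, 0, 0, 0, 0, 0, 0, 0, 0, 0, 0, 0, 0, 0, 0, 0],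
  [0, 0, 0, 0, 0, 0, 0, 0, 0, 0, 0, 0, 0, 0, 0, 0, 0, 0, 0, 0, 0, 0, 0, 0, 0, 0, 0, 0, 0, 0, 0, 0, 0, 0, 0, 0, 0, 0, 0, 0, 0, 0, 0, 0, 0, 0, 0, 0, 0, 0, 0, 0, 0, 0, 0, 0, 0, 0, 0, 0, 0, 0, 0, 0],
  [0, 0, 0, 0, 0, 0, 0, 0, 0, 0, 0, 0, 0, 0, 0, 0, 0, 0, 0, 0, 0, 0, 0, 0, 0, 0, 0, 0, 0, 0, 0, 0, 0, 0, 0, 0, 0, 0, 0, 0, 0, 0, 0, 0, 0, 0, 0, 0, 0, 0, 0, 0, 0, 0, 0, 0, 0, 0, 0, 0, 0, 0, 0, 0],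
  [0, 0, 0, 0, 0, 0, 0, 0, 0, 0, 0, 0, 0, 0, 0, 0, 0, 0, 0, 0, 0, 0, 0, 0, 0, 0, 0, 0, 0, 0, 0, 0, 0, 0, 0, 0, 0, 0, 0, 0, 0, 0, 0, 0, 0, 0, 0, 0, 0, 0, 0, 0, 0, 0, 0, 0, 0, 0, 0, 0, 0, 0, 0, 0],
  [0, 0, 0, 0, 0, 0, 0, 0, 0, 0, 0, 0, 0, 0, 0, 0, 0, 0, 0, 0, 0, 0, 0, 0, 0, 0, 0, 0, 0, 0, 0, 0, 0, 0, 0, 0, 0, 0, 0, 0, 0, 0, 0, 0, 0, 0, 0, 0, 0, 0, 0, 0, 0, 0, 0, 0, 0, 0, 0, 0, 0, 0, 0, 0],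
  [0, 0, 0, 0, 0, 0, 0, 0, 0, 0, 0, 0, 0, 0, 0, 0, 0, 0, 0, 0, 0, 0, 0, 0, 0, 0, 0, 0, 0, 0, 0, 0, 0, 0, 0, 0, 0, 0, 0, 0, 0, 0, 0, 0, 0, 0, 0, 0, 0, 0, 0, 0, 0, 0, 0, 0, 0, 0, 0, 0, 0, 0, 0, 0],
  [0, 0, 0, 0, 0, 0, 0, 0, 0, 0, 0, 0, 0, 0, 0, 0, 0, 0, 0, 0, 0, 0, 0, 0, 0, 0, 0, 0, 0, 0, 0, 0, 0, 0, 0, 0, 0, 0, 0, 0, 0, 0, 0, 0, 0, 0, 0, 0, 0, 0, 0, 0, 0, 0, 0, 0, 0, 0, 0, 0, 0, 0, 0, 0],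
  [0, 0, 0, 0, 0, 0, 0, 0, 0, 0, 0, 0, 0, 0, 0, 0, 0, 0, 0, 0, 0, 0, 0, 0, 0, 0, 0, 0, 0, 0, 0, 0, 0, 0, 0, 0, 0, 0, 0, 0, 0, 0, 0, 0, 0, 0, 0, 0, 0, 0, 0, 0, 0, 0, 0, 0, 0, 0, 0, 0, 0, 0, 0, 0],
  [0, 0, 0, 0, 0, 0, 0, 0, 0, 0, 0, 0, 0, 0, 0, 0, 0, 0, 0, 0, 0, 0, 0, 0, 0, 0, 0, 0, 0, 0, 0, 0, 0, 0, 0, 0, 0, 0, 0, 0, 0, 0, 0, 0, 0, 0, 0, 0, 0, 0, 0, 0, 0, 0, 0, 0, 0, 0, 0, 0, 0, 0, 0, 0],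
  [0, 0, 0, 0, 0, 0, 0, 0, 0, 0, 0, 0, 0, 0, 0, 0, 0, 0, 0, 0, 0, 0, 0, 0, 0, 0, 0, 0, 0, 0, 0, 0, 0, 0, 0, 0, 0, 0, 0, 0, 0, 0, 0, 0, 0, 0, 0, 0, 0, 0, 0, 0, 0, 0, 0, 0, 0, 0, 0, 0, 0, 0, 0, 0],
  [0, 0, 0, 0, 0, 0, 0, 0, 0, 0, 0, 0, 0, 0, 0, 0, 0, 0, 0, 0, 0, 0, 0, 0, 0, 0, 0, 0, 0, 0, 0, 0, 0, 0, 0, 0, 0, 0, 0, 0, 0, 0, 0, 0, 0, 0, 0, 0, 0, 0, 0, 0, 0, 0, 0, 0, 0, 0, 0, 0, 0, 0, 0, 0],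
  [0, 0, 0, 0, 0, 0, 0, 0, 0, 0, 0, 0, 0, 0, 0, 0, 0, 0, 0, 0, 0, 0, 0, 0, 0, 0, 0, 0, 0, 0, 0, 0, 0, 0, 0, 0, 0, 0, 0, 0, 0, 0, 0, 0, 0, 0, 0, 0, 0, 0, 0, 0, 0, 0, 0, 0, 0, 0, 0, 0, 0, 0, 0, 0],
  [0, 0, 0, 0, 0, 0, 0, 0, 0, 0, 0, 0, 0, 0, 0, 0, 0, 0, 0, 0, 0, 0, 0, 0, 0, 0, 0, 0, 0, 0, 0, 0, 0, 0, 0, 0, 0, 0, 0, 0, 0, 0, 0, 0, 0, 0, 0, 0, 0, 0, 0, 0, 0, 0, 0, 0, 0, 0, 0, 0, 0, 0, 0, 0],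
  [0, 0, 0, 0, 0, 0, 0, 0, 0, 0, 0, 0, 0, 0, 0, 0, 0, 0, 0, 0, 0, 0, 0, 0, 0, 0, 0, 0, 0, 0, 0, 0, 0, 0, 0, 0, 0, 0, 0, 0, 0, 0, 0, 0, 0, 0, 0, 0, 0, 0, 0, 0, 0, 0, 0, 0, 0, 0, 0, 0, 0, 0, 0, 0],
  [0, 0, 0, 0, 0, 0, 0, 0, 0, 0, 0, 0, 0, 0, 0, 0, 0, 0, 0, 0, 0, 0, 0, 0, 0, 0, 0, 0, 0, 0, 0, 0, 0, 0, 0, 0, 0, 0, 0, 0, 0, 0, 0, 0, 0, 0, 0, 0, 0, 0, 0, 0, 0, 0, 0, 0, 0, 0, 0, 0, 0, 0, 0, 0],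
  [0, 0, 0, 0, 0, 0, 0, 0, 0, 0, 0, 0, 0, 0, 0, 0, 0, 0, 0, 0, 0, 0, 0, 0, 0, 0, 0, 0, 0, 0, 0, 0, 0, 0, 0, 0, 0, 0, 0, 0, 0, 0, 0, 0, 0, 0, 0, 0, 0, 0, 0, 0, 0, 0, 0, 0, 0, 0, 0, 0, 0, 0, 0, 0],
  [0, 0, 0, 0, 0, 0, 0, 0, 0, 0, 0, 0, 0, 0, 0, 0, 0, 0, 0, 0, 0, 0, 0, 0, 0, 0, 0, 0, 0, 0, 0, 0, 0, 0, 0, 0, 0, 0, 0, 0, 0, 0, 0, 0, 0, 0, 0, 0, 0, 0, 0, 0, 0, 0, 0, 0, 0, 0, 0, 0, 0, 0, 0, 0],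
  [0, 0, 0, 0, 0, 0, 0, 0, 0, 0, 0, 0, 0, 0, 0, 0, 0, 0, 0, 0, 0, 0, 0, 0, 0, 0, 0, 0, 0, 0, 0, 0, 0, 0, 0, 0, 0, 0, 0, 0, 0, 0, 0, 0, 0, 0, 0, 0, 0, 0, 0, 0, 0, 0, 0, 0, 0, 0, 0, 0, 0, 0, 0, 0],
  [0, 0, 0, 0, 0, 0, 0, 0, 0, 0, 0, 0, 0, 0, 0, 0, 0, 0, 0, 0, 0, 0, 0, 0, 0, 0, 0, 0, 0, 0, 0, 0, 0, 0, 0, 0, 0, 0, 0, 0, 0, 0, 0, 0, 0, 0, 0, 0, 0, 0, 0, 0, 0, 0, 0, 0, 0, 0, 0, 0, 0, 0, 0, 0],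
  [0, 0, 0, 0, 0, 0, 0, 0, 0, 0, 0, 0, 0, 0, 0, 0, 0, 0, 0, 0, 0, 0, 0, 0, 0, 0, 0, 0, 0, 0, 0, 0, 0, 0, 0, 0, 0, 0, 0, 0, 0, 0, 0, 0, 0, 0, 0, 0, 0, 0, 0, 0, 0, 0, 0, 0, 0, 0, 0, 0, 0, 0, 0, 0],
  [0, 0, 0, 0, 0, 0, 0, 0, 0, 0, 0, 0, 0, 0, 0, 0, 0, 0, 0, 0, 0, 0, 0, 0, 0, 0, 0, 0, 0, 0, 0, 0, 0, 0, 0, 0, 0, 0, 0, 0, 0, 0, 0, 0, 0, 0, 0, 0, 0, 0, 0, 0, 0, 0, 0, 0, 0, 0, 0, 0, 0, 0, 0, 0],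
  [0, 0, 0, 0, 0, 0, 0, 0, 0, 0, 0, 0, 0, 0, 0, 0, 0, 0, 0, 0, 0, 0, 0, 0, 0, 0, 0, 0, 0, 0, 0, 0, 0, 0, 0, 0, 0, 0, 0, 0, 0, 0, 0, 0, 0, 0, 0, 0, 0, 0, 0, 0, 0, 0, 0, 0, 0, 0, 0, 0, 0, 0, 0, 0],
  [0, 0, 0, 0, 0, 0, 0, 0, 0, 0, 0, 0, 0, 0, 0, 0, 0, 0, 0, 0, 0, 0, 0, 0, 0, 0, 0, 0, 0, 0, 0, 0, 0, 0, 0, 0, 0, 0, 0, 0, 0, 0, 0, 0, 0, 0, 0, 0, 0, 0, 0, 0, 0, 0, 0, 0, 0, 0, 0, 0, 0, 0, 0, 0],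
  [0, 0, 0, 0, 0, 0, 0, 0, 0, 0, 0, 0, 0, 0, 0, 0, 0, 0, 0, 0, 0, 0, 0, 0, 0, 0, 0, 0, 0, 0, 0, 0, 0, 0, 0, 0, 0, 0, 0, 0, 0, 0, 0, 0, 0, 0, 0, 0, 0, 0, 0, 0, 0, 0, 0, 0, 0, 0, 0, 0, 0, 0, 0, 0],
  [0, 0, 0, 0, 0, 0, 0, 0, 0, 0, 0, 0, 0, 0, 0, 0, 0, 0, 0, 0, 0, 0, 0, 0, 0, 0, 0, 0, 0, 0, 0, 0, 0, 0, 0, 0, 0, 0, 0, 0, 0, 0, 0, 0, 0, 0, 0, 0, 0, 0, 0, 0, 0, 0, 0, 0, 0, 0, 0, 0, 0, 0, 0, 0],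
  [0, 0, 0, 0, 0, 0, 0, 0, 0, 0, 0, 0, 0, 0, 0, 0, 0, 0, 0, 0, 0, 0, 0, 0, 0, 0, 0, 0, 0, 0, 0, 0, 0, 0, 0, 0, 0, 0, 0, 0, 0, 0, 0, 0, 0, 0, 0, 0, 0, 0, 0, 0, 0, 0, 0, 0, 0, 0, 0, 0, 0, 0, 0, 0],
  [0, 0, 0, 0, 0, 0, 0, 0, 0, 0, 0, 0, 0, 0, 0, 0, 0, 0, 0, 0, 0, 0, 0, 0, 0, 0, 0, 0, 0, 0, 0, 0, 0, 0, 0, 0, 0, 0, 0, 0, 0, 0, 0, 0, 0, 0, 0, 0, 0, 0, 0, 0, 0, 0, 0, 0, 0, 0, 0, 0, 0, 0, 0, 0],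
  [0, 0, 0, 0, 0, 0, 0, 0, 0, 0, 0, 0, 0, 0, 0, 0, 0, 0, 0, 0, 0, 0, 0, 0, 0, 0, 0, 0, 0, 0, 0, 0, 0, 0, 0, 0, 0, 0, 0, 0, 0, 0, 0, 0, 0, 0, 0, 0, 0, 0, 0, 0, 0, 0, 0, 0, 0, 0, 0, 0, 0, 0, 0, 0],
  [0, 0, 0, 0, 0, 0, 0, 0, 0, 0, 0, 0, 0, 0, 0, 0, 0, 0, 0, 0, 0, 0, 0, 0, 0, 0, 0, 0, 0, 0, 0, 0, 0, 0, 0, 0, 0, 0, 0, 798649, 0, 0, 0, 0, 0, 0, 0, 0, 0, 0, 0, 0, 0, 0, 532161, 0, 0, 1063558, 0, 0, 0, 0, 0, 0],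
  [0, 0, 0, 0, 0, 0, 0, 0, 0, 0, 0, 0, 0, 0, 788832, 0, 0, 0, 0, 0, 0, 0, 0, 0, 0, 0, 0, 0, 0, 0, 0, 0, 0, 1051081, 0, 0, 1051130, 0, 0, 0, 0, 0, 0, 0, 0, 0, 0, 0, 0, 0, 0, 0, 0, 0, 0, 0, 0, 0, 0, 0, 0, 0, 0, 0],
  [0, 0, 0, 0, 0, 0, 0, 0, 0, 0, 0, 0, 0, 0, 793728, 0, 0, 0, 0, 0, 0, 0, 0, 0, 0, 0, 0, 0, 1326400, 0, 0, 0, 0, 801920, 0, 0, 0, 0, 0, 0, 0, 0, 0, 0, 0, 0, 0, 0, 0, 0, 0, 0, 0, 1318808, 0, 0, 0, 0, 0, 0, 0, 0, 0, 793240],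
  [0, 0, 796972, 0, 0, 0, 0, 0, 798246, 0, 0, 531799, 0, 0, 0, 0, 0, 0, 0, 0, 0, 0, 0, 0, 0, 0, 0, 0, 0, 0, 0, 0, 0, 0, 0, 0, 1050900, 0, 0, 0, 0, 0, 0, 1064090, 0, 1055289, 0, 0, 0, 0, 0, 802366, 0, 0, 0, 0, 0, 0, 0, 0, 0, 0, 0, 0],
  [0, 0, 0, 0, 0, 0, 0, 0, 0, 0, 0, 0, 0, 0, 0, 0, 0, 0, 0, 788535, 0, 0, 0, 0, 0, 0, 0, 0, 527347, 0, 0, 0, 0, 0, 0, 0, 0, 0, 0, 0, 0, 0, 0, 531443, 0, 0, 0, 0, 0, 0, 0, 0, 0, 535895, 0, 0, 0, 0, 1064160, 0, 1060302, 0, 0, 0],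
  [0, 793865, 788765, 0, 0, 0, 0, 0, 0, 0, 0, 0, 0, 0, 0, 0, 0, 0, 0, 0, 0, 0, 0, 0, 0, 0, 0, 0, 0, 0, 0, 536257, 0, 0, 0, 0, 0, 0, 0, 0, 0, 0, 0, 0, 0, 0, 0, 0, 0, 0, 0, 0, 0, 0, 0, 0, 0, 1063853, 0, 0, 0, 0, 0, 0],
  [0, 0, 0, 0, 792780, 0, 0, 0, 0, 0, 0, 0, 0, 0, 0, 0, 1063074, 0, 0, 0, 0, 0, 1059994, 0, 0, 0, 0, 0, 0, 0, 0, 0, 0, 0, 0, 0, 0, 0, 0, 0, 0, 0, 0, 0, 0, 801250, 0, 0, 1060702, 0, 0, 1064725, 0, 0, 0, 0, 0, 0, 0, 0, 0, 0, 0, 790006],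
  [0, 0, 0, 0, 0, 0, 0, 0, 792928, 0, 0, 0, 0, 0, 0, 0, 0, 0, 0, 0, 0, 0, 790078, 0, 0, 0, 264264, 0, 0, 0, 0, 0, 0, 539991, 0, 0, 0, 0, 0, 0, 0, 0, 0, 0, 0, 0, 1051872, 0, 0, 0, 0, 0, 0, 0, 0, 0, 0, 802803, 0, 0, 0, 0, 0, 0],
  [0, 0, 0, 1064443, 0, 0, 0, 0, 0, 0, 0, 0, 0, 0, 0, 0, 0, 0, 272410, 0, 0, 0, 0, 0, 0, 0, 0, 0, 0, 794150, 0, 0, 0, 0, 0, 0, 0, 0, 1056206, 0, 0, 0, 0, 0, 0, 0, 0, 0, 0, 0, 0, 0, 0, 0, 0, 0, 789935, 0, 0, 0, 0, 0, 0, 0],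
  [0, 0, 0, 0, 0, 796982, 0, 0, 0, 0, 0, 0, 0, 0, 0, 0, 0, 802745, 0, 0, 0, 0, 0, 0, 0, 0, 0, 1059757, 0, 0, 0, 0, 0, 0, 0, 0, 0, 0, 0, 0, 0, 0, 1313083, 0, 0, 0, 0, 0, 0, 0, 0, 0, 1059060, 0, 0, 0, 268360, 0, 0, 528065, 0, 0, 0, 0],
  [0, 0, 0, 0, 0, 802294, 0, 0, 0, 0, 789588, 0, 0, 0, 0, 0, 0, 0, 0, 0, 0, 0, 0, 535059, 0, 0, 0, 0, 0, 0, 0, 0, 0, 0, 0, 0, 0, 0, 0, 0, 0, 1055168, 0, 0, 0, 0, 0, 0, 0, 801569, 0, 0, 0, 0, 0, 0, 0, 0, 0, 0, 0, 0, 788684, 0],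
  [0, 0, 0, 0, 0, 0, 0, 0, 0, 1063235, 0, 0, 0, 0, 0, 0, 0, 0, 0, 0, 1063107, 0, 0, 1321277, 0, 0, 0, 0, 0, 0, 0, 0, 0, 0, 0, 0, 0, 0, 0, 0, 0, 0, 0, 0, 0, 0, 0, 788962, 0, 0, 801876, 0, 0, 0, 0, 0, 0, 0, 0, 0, 0, 792886, 0, 0],
  [0, 0, 0, 1051852, 0, 0, 0, 0, 0, 0, 0, 0, 0, 0, 0, 1055632, 0, 0, 0, 0, 0, 0, 0, 0, 0, 0, 0, 0, 0, 0, 0, 0, 535874, 0, 0, 793058, 0, 0, 0, 0, 0, 0, 0, 0, 802770, 0, 0, 0, 0, 0, 0, 0, 0, 0, 0, 0, 0, 0, 0, 0, 0, 0, 0, 0],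
  [0, 0, 0, 0, 0, 0, 0, 0, 0, 794396, 0, 0, 0, 0, 0, 0, 0, 0, 0, 0, 0, 0, 0, 0, 0, 0, 0, 0, 0, 790054, 0, 0, 1314039, 0, 0, 0, 0, 0, 1059358, 0, 0, 0, 0, 0, 0, 0, 0, 0, 0, 0, 0, 0, 0, 0, 0, 0, 0, 0, 0, 0, 0, 0, 1050825, 0],
  [0, 0, 0, 0, 0, 0, 0, 0, 0, 0, 1059862, 0, 0, 0, 0, 801851, 0, 0, 0, 0, 0, 0, 0, 0, 0, 0, 0, 0, 0, 0, 0, 0, 0, 0, 0, 0, 0, 1056047, 0, 0, 0, 0, 0, 0, 798674, 0, 0, 0, 0, 0, 0, 0, 801068, 0, 0, 0, 0, 0, 0, 1055766, 0, 0, 0, 0],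
  [0, 0, 0, 0, 0, 0, 0, 0, 0, 0, 0, 0, 788790, 0, 0, 0, 0, 1060422, 0, 0, 0, 0, 0, 0, 0, 0, 0, 0, 0, 0, 0, 0, 0, 0, 0, 0, 0, 0, 0, 0, 0, 0, 0, 0, 0, 0, 0, 0, 0, 0, 268314, 0, 0, 0, 0, 1052266, 0, 0, 0, 0, 0, 0, 0, 0],
  [0, 0, 0, 0, 0, 0, 0, 0, 0, 0, 0, 0, 0, 0, 0, 0, 0, 0, 0, 0, 0, 798198, 0, 0, 0, 0, 796957, 0, 0, 0, 0, 0, 0, 0, 0, 0, 1055177, 0, 0, 0, 0, 0, 0, 0, 0, 0, 0, 0, 0, 0, 0, 1054799, 0, 0, 0, 0, 0, 0, 526969, 0, 0, 0, 0, 0],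
  [0, 0, 0, 0, 0, 0, 0, 0, 0, 0, 0, 0, 0, 0, 0, 0, 0, 0, 0, 539155, 0, 0, 0, 0, 0, 1060264, 0, 0, 1055533, 0, 0, 0, 0, 0, 0, 0, 0, 0, 0, 0, 0, 0, 0, 0, 0, 0, 0, 0, 1052510, 0, 0, 0, 0, 0, 0, 0, 0, 0, 0, 0, 0, 0, 0, 530907],
  [0, 0, 0, 0, 0, 0, 0, 0, 0, 0, 0, 0, 0, 1051573, 0, 0, 0, 0, 0, 0, 0, 0, 0, 0, 0, 789632, 0, 0, 0, 0, 0, 0, 0, 0, 1056008, 0, 0, 0, 0, 0, 0, 0, 0, 0, 0, 0, 0, 0, 0, 0, 0, 0, 0, 0, 802223, 0, 0, 0, 0, 0, 0, 0, 0, 0],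
  [0, 0, 0, 0, 0, 0, 0, 0, 0, 0, 0, 798127, 0, 0, 0, 0, 0, 0, 0, 0, 0, 1063454, 0, 0, 0, 0, 0, 0, 0, 0, 0, 793212, 0, 0, 0, 0, 0, 0, 0, 0, 1055927, 0, 0, 0, 0, 0, 0, 0, 1063418, 0, 0, 0, 0, 0, 1060629, 0, 0, 0, 0, 0, 0, 0, 0, 0],
  [0, 0, 0, 0, 1051437, 0, 0, 798492, 535539, 0, 0, 0, 0, 0, 0, 0, 0, 0, 0, 0, 0, 0, 0, 0, 0, 0, 0, 0, 0, 0, 0, 0, 0, 1060064, 0, 0, 0, 0, 0, 0, 0, 0, 0, 801120, 0, 0, 801404, 0, 0, 0, 0, 0, 0, 0, 0, 0, 0, 0, 0, 0, 0, 0, 0, 1055968],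
  [0, 272456, 0, 0, 0, 0, 0, 0, 0, 0, 0, 0, 0, 0, 0, 0, 0, 0, 0, 0, 0, 0, 276506, 0, 0, 0, 0, 0, 0, 0, 0, 0, 0, 0, 789281, 0, 0, 0, 0, 0, 0, 0, 0, 0, 0, 802057, 0, 0, 0, 0, 0, 0, 0, 0, 0, 0, 0, 0, 0, 0, 1059582, 0, 0, 0],
  [0, 1056326, 0, 0, 0, 0, 0, 0, 0, 0, 0, 0, 0, 1059322, 0, 0, 0, 0, 0, 1313204, 0, 0, 0, 0, 0, 0, 0, 0, 0, 0, 0, 0, 0, 0, 0, 0, 0, 0, 0, 792876, 1052400, 0, 0, 0, 0, 0, 535003, 0, 0, 0, 0, 0, 0, 0, 0, 0, 0, 0, 0, 0, 0, 0, 0, 0],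
  [0, 0, 0, 0, 0, 0, 0, 0, 0, 0, 0, 0, 0, 794578, 0, 0, 0, 0, 0, 1058895, 0, 0, 0, 0, 0, 0, 0, 0, 0, 0, 0, 0, 0, 0, 0, 0, 1060347, 0, 0, 0, 0, 0, 0, 1059092, 0, 0, 0, 0, 0, 0, 0, 0, 0, 539635, 0, 0, 0, 0, 789116, 0, 0, 0, 0, 0],
  [0, 0, 0, 0, 0, 0, 1051565, 0, 0, 0, 0, 0, 0, 0, 0, 0, 0, 0, 0, 0, 0, 0, 0, 0, 0, 0, 0, 0, 0, 0, 1054863, 0, 0, 0, 0, 0, 0, 539099, 0, 0, 0, 0, 0, 0, 0, 0, 0, 1056359, 0, 1056606, 0, 0, 0, 0, 0, 0, 0, 0, 0, 0, 0, 531065, 0, 0],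
  [1063481, 0, 0, 0, 0, 801053, 1059519, 0, 0, 0, 0, 0, 0, 0, 0, 0, 0, 0, 0, 0, 0, 0, 0, 0, 1050947, 0, 0, 0, 0, 0, 0, 0, 0, 0, 0, 794611, 0, 0, 797961, 0, 0, 797154, 0, 0, 0, 0, 0, 1325373, 0, 0, 0, 0, 0, 0, 0, 0, 0, 0, 0, 0, 0, 0, 0, 0],
  [0, 0, 0, 0, 0, 0, 0, 0, 0, 0, 0, 0, 0, 0, 0, 0, 0, 0, 1055042, 0, 0, 0, 0, 0, 0, 0, 0, 0, 0, 0, 0, 0, 0, 0, 0, 0, 0, 0, 0, 0, 0, 801078, 1056533, 0, 0, 0, 0, 0, 0, 0, 0, 0, 1051218, 0, 0, 0, 0, 0, 0, 0, 0, 1064737, 0, 0],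
  [264218, 0, 0, 793684, 0, 0, 0, 0, 0, 0, 0, 0, 1055948, 0, 0, 0, 0, 0, 0, 0, 0, 0, 0, 0, 0, 0, 0, 0, 0, 0, 0, 0, 0, 0, 0, 0, 0, 0, 0, 0, 0, 0, 1060761, 0, 0, 0, 0, 797824, 0, 0, 0, 0, 0, 0, 0, 0, 0, 0, 0, 0, 0, 0, 0, 0],
  [0, 0, 0, 0, 0, 0, 0, 0, 0, 0, 0, 0, 0, 0, 0, 0, 0, 0, 0, 0, 790482, 0, 0, 0, 0, 0, 0, 540353, 0, 0, 1326565, 0, 797024, 0, 0, 0, 0, 0, 0, 0, 0, 0, 0, 0, 0, 0, 0, 0, 0, 0, 0, 0, 0, 0, 0, 1059678, 0, 0, 0, 0, 0, 797780, 0, 0],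
  [0, 0, 0, 0, 0, 0, 0, 0, 0, 0, 1314112, 0, 0, 0, 0, 0, 0, 0, 0, 0, 0, 0, 0, 0, 794031, 0, 0, 0, 0, 792631, 0, 0, 0, 0, 0, 1050664, 0, 1063156, 0, 0, 0, 0, 0, 0, 0, 0, 0, 0, 0, 0, 0, 0, 0, 0, 0, 0, 0, 0, 0, 1056601, 0, 0, 0, 0],
  [0, 0, 0, 0, 0, 0, 0, 0, 0, 0, 0, 0, 0, 0, 0, 0, 0, 0, 0, 0, 0, 0, 0, 1060104, 794102, 0, 0, 0, 0, 0, 0, 0, 0, 0, 0, 0, 0, 0, 0, 0, 0, 0, 0, 0, 0, 0, 0, 0, 0, 1060548, 0, 0, 0, 0, 0, 1064688, 526867, 0, 0, 0, 0, 0, 0, 0],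
  [0, 0, 0, 0, 0, 0, 0, 0, 0, 0, 0, 0, 0, 0, 0, 1054915, 0, 526811, 0, 0, 0, 0, 0, 0, 0, 0, 0, 0, 0, 0, 0, 0, 0, 0, 0, 0, 0, 0, 0, 0, 0, 0, 0, 0, 0, 0, 0, 0, 0, 0, 535161, 0, 0, 0, 0, 0, 0, 0, 0, 0, 0, 0, 0, 0]]

def objP (m : ℕ) : Bool := pop24 m == 8 && m.testBit 23 && !m.testBit 4

def invA (_ : ℕ) : ℕ := 0

def repA (_ : ℕ) : ℕ := 2073

def inv (m : ℕ) : ℕ := pop24 (8536111 &&& m)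

def rep (k : ℕ) : ℕ := if k = 2 then 2119 else if k = 4 then 2073 else 2503

set_option maxRecDepth 1000000 in
theorem treeA_ok : treeOK [23, 4] [] objP invA repA cw hgensA treeTabA 4096 = true := by
  decide +kernel

set_option maxRecDepth 1000000 in
theorem treeB_ok : treeOK [23, 4] [8536111] objP inv rep cw hgensB treeTabB 4096 = true := by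
  decide +kernel

set_option maxRecDepth 1000000 in
theorem counts :
    countS (fun m => pop24 m == 8 && (([23] : List ℕ).all (fun a => m.testBit a) &&
        ([4] : List ℕ).all (fun a => !m.testBit a) && pop24 (0 &&& m) == 0)) 4096 = 176 ∧
    countS (fun m => pop24 m == 8 && (([23] : List ℕ).all (fun a => m.testBit a) &&
        ([4] : List ℕ).all (fun a => !m.testBit a) && pop24 (8536111 &&& m) == 2)) 4096 = 70 ∧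
    countS (fun m => pop24 m == 8 && (([23] : List ℕ).all (fun a => m.testBit a) &&
        ([4] : List ℕ).all (fun a => !m.testBit a) && pop24 (8536111 &&& m) == 4)) 4096 = 105 := by
  decide +kernel

theorem cw2503 : cw 2503 = 8536111 := by decide +kernel

theorem objP_oct0 : objP (cw 2503) = true := by decide +kernel

theorem maskSet_zero : maskSet 0 = ∅ := by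
  ext x
  rw [mem_maskSet]
  simp

/-- membership pattern of a transported octad -/
theorem objP_of (g0 : Equiv.Perm Cfsg.GolayPt) (p q : Cfsg.GolayPt) (hp : g0 (dec 23) = p)
    (hq : g0 (dec 4) = q) (Y : Finset Cfsg.GolayPt) (n : ℕ) (h8 : pop24 (cw n) = 8)
    (e : g0⁻¹ • Y = maskSet (cw n)) (hpY : p ∈ Y) (hqY : q ∉ Y) : objP (cw n) = true := by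
  unfold objP
  have h1 := (mem_iff_testBit g0 23 (by norm_num) Y (cw n) e).1 (by rw [hp]; exact hpY)
  have h2 := (mem_iff_testBit g0 4 (by norm_num) Y (cw n) e).not.1 (by rw [hq]; exact hqY)
  rw [h8, h1]
  simpa using h2

/-- the first transitivity statement, with base points -/
theorem transA (g1 : Equiv.Perm Cfsg.GolayPt) (hg1 : g1 ∈ Cfsg.M24) (p q : Cfsg.GolayPt)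
    (hp : g1 (dec 23) = p) (hq : g1 (dec 4) = q) (o o' : Finset Cfsg.GolayPt)
    (ho : o ∈ Cfsg.octads ∧ p ∈ o ∧ q ∉ o) (ho' : o' ∈ Cfsg.octads ∧ p ∈ o' ∧ q ∉ o') :
    ∃ g, g ∈ Cfsg.M24 ∧ g p = p ∧ g q = q ∧ g • o = o' := by
  have hi : g1⁻¹ ∈ Cfsg.M24 := Subgroup.inv_mem _ hg1
  obtain ⟨n, hn, h8n, en⟩ := (mem_octads_iff' _).1 (smul_mem_octads hi ho.1)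
  obtain ⟨m, hm, h8m, em⟩ := (mem_octads_iff' _).1 (smul_mem_octads hi ho'.1)
  have hPn := objP_of g1 p q hp hq o n h8n en ho.2.1 ho.2.2
  have hPm := objP_of g1 p q hp hq o' m h8m em ho'.2.1 ho'.2.2
  have base := tree_trans [23, 4] [] (by simp) objP invA repA cw hgensA treeTabA 4096 treeA_ok
    n m hn hm hPn hPm (by unfold invA; rfl)
  rw [← en, ← em] at base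
  obtain ⟨g, hg, hpt, -, e⟩ := transport_trans [23, 4] [] g1 hg1 o o' base
  refine ⟨g, hg, ?_, ?_, e⟩
  · have := hpt 23 (by simp)
    rwa [hp] at this
  · have := hpt 4 (by simp)
    rwa [hq] at this

/-- The two-point stabiliser acts on the 176 octads through the first point avoiding the second with rank 3 and subdegrees 1, 70, 105 (intersections 8, 2, 4). -/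
theorem result (p q : Cfsg.GolayPt) (hpq : p ≠ q) : {x : Finset Cfsg.GolayPt | (x ∈ Cfsg.octads ∧ p ∈ x ∧ q ∉ x)}.ncard = 176 ∧ (∀ o o' : Finset Cfsg.GolayPt, (o ∈ Cfsg.octads ∧ p ∈ o ∧ q ∉ o) → (o' ∈ Cfsg.octads ∧ p ∈ o' ∧ q ∉ o') → ∃ g : Equiv.Perm Cfsg.GolayPt, g ∈ Cfsg.M24 ∧ g p = p ∧ g q = q ∧ g • o = o') ∧ ∀ o : Finset Cfsg.GolayPt, (o ∈ Cfsg.octads ∧ p ∈ o ∧ q ∉ o) → {x : Finset Cfsg.GolayPt | (x ∈ Cfsg.octads ∧ p ∈ x ∧ q ∉ x) ∧ (o ∩ x).card = 2}.ncard = 70 ∧ {x : Finset Cfsg.GolayPt | (x ∈ Cfsg.octads ∧ p ∈ x ∧ q ∉ x) ∧ (o ∩ x).card = 4}.ncard = 105 ∧ ∀ o' o'' : Finset Cfsg.GolayPt, (o' ∈ Cfsg.octads ∧ p ∈ o' ∧ q ∉ o') → (o'' ∈ Cfsg.octads ∧ p ∈ o'' ∧ q ∉ o'') → (o ∩ o').card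 = (o ∩ o'').card → ∃ g : Equiv.Perm Cfsg.GolayPt, g ∈ Cfsg.M24 ∧ g p = p ∧ g q = q ∧ g • o = o ∧ g • o' = o'' := by
  obtain ⟨g1, hg1, hg1m⟩ := exists_map_emb₂ (by norm_num : 2 ≤ 5)
    (emb2 (dec 23) (dec 4) (by decide)) (emb2 p q hpq)
  have hp1 : g1 (dec 23) = p := hg1m 0
  have hq1 : g1 (dec 4) = q := hg1m 1
  have hsetA : {x : Finset Cfsg.GolayPt | (x ∈ Cfsg.octads ∧ p ∈ x ∧ q ∉ x)} =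
      {Y | Y ∈ Cfsg.wordsOfWeight (Cfsg.golayCode : Set (Cfsg.GolayPt → ZMod 2)) 8 ∧
        ((∀ a ∈ ([23] : List ℕ), g1 (dec a) ∈ Y) ∧ (∀ a ∈ ([4] : List ℕ), g1 (dec a) ∉ Y) ∧
          (g1 • maskSet 0 ∩ Y).card = 0)} := by
    ext Y
    simp only [Set.mem_ofPred_eq, List.mem_singleton, forall_eq, hp1, hq1, maskSet_zero,
      Finset.smul_finset_empty, Finset.empty_inter, Finset.card_empty, and_true]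
    rfl
  refine ⟨?_, ?_, ?_⟩
  · rw [hsetA, ncard_cfg g1 hg1 8 [23] [4] (by simp) (by simp), counts.1]
  · intro o o' ho ho'
    exact transA g1 hg1 p q hp1 hq1 o o' ho ho'
  · intro o ho
    -- an element mapping the base configuration to (p, q, o)
    have hi1 : g1⁻¹ ∈ Cfsg.M24 := Subgroup.inv_mem _ hg1
    obtain ⟨m0, hm0, h8m0, em0⟩ := (mem_octads_iff' _).1 (smul_mem_octads hi1 ho.1)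
    have hPm0 := objP_of g1 p q hp1 hq1 o m0 h8m0 em0 ho.2.1 ho.2.2
    obtain ⟨h, hh, eh⟩ := tree_trans [23, 4] [] (by simp) objP invA repA cw hgensA treeTabA 4096
      treeA_ok 2503 m0 (by norm_num) hm0 objP_oct0 hPm0 (by unfold invA; rfl)
    rw [cw2503, ← em0] at eh
    have hg0 : g1 * h ∈ Cfsg.M24 := Subgroup.mul_mem _ hg1 hh.1
    have hoe : (g1 * h) • maskSet 8536111 = o := by rw [mul_smul, eh, smul_inv_smul]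
    have hp0 : (g1 * h) (dec 23) = p := by
      rw [Equiv.Perm.mul_apply, hh.2.1 23 (by simp), hp1]
    have hq0 : (g1 * h) (dec 4) = q := by
      rw [Equiv.Perm.mul_apply, hh.2.1 4 (by simp), hq1]
    set g0 := g1 * h with hg0def
    have hi : g0⁻¹ ∈ Cfsg.M24 := Subgroup.inv_mem _ hg0
    have hset : ∀ k, {x : Finset Cfsg.GolayPt | (x ∈ Cfsg.octads ∧ p ∈ x ∧ q ∉ x) ∧ (o ∩ x).card = k} =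
        {Y | Y ∈ Cfsg.wordsOfWeight (Cfsg.golayCode : Set (Cfsg.GolayPt → ZMod 2)) 8 ∧
          ((∀ a ∈ ([23] : List ℕ), g0 (dec a) ∈ Y) ∧ (∀ a ∈ ([4] : List ℕ), g0 (dec a) ∉ Y) ∧
            (g0 • maskSet 8536111 ∩ Y).card = k)} := by
      intro k
      ext Y
      simp only [Set.mem_ofPred_eq, List.mem_singleton, forall_eq, hp0, hq0, hoe, and_assoc]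
      rfl
    refine ⟨?_, ?_, ?_⟩
    · rw [hset, ncard_cfg g0 hg0 8 [23] [4] (by simp) (by simp), counts.2.1]
    · rw [hset, ncard_cfg g0 hg0 8 [23] [4] (by simp) (by simp), counts.2.2]
    · intro o' o'' ho' ho'' hcard
      obtain ⟨n, hn, h8n, en⟩ := (mem_octads_iff' _).1 (smul_mem_octads hi ho'.1)
      obtain ⟨m, hm, h8m, em⟩ := (mem_octads_iff' _).1 (smul_mem_octads hi ho''.1)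
      have hk : inv (cw n) = inv (cw m) := by
        have h1 := inter_card_eq g0 8536111 o' (cw n) en
        have h2 := inter_card_eq g0 8536111 o'' (cw m) em
        rw [hoe] at h1 h2
        unfold inv
        rw [← h1, ← h2, hcard]
      have hPn := objP_of g0 p q hp0 hq0 o' n h8n en ho'.2.1 ho'.2.2
      have hPm := objP_of g0 p q hp0 hq0 o'' m h8m em ho''.2.1 ho''.2.2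
      have base := tree_trans [23, 4] [8536111] (by simp) objP inv rep cw hgensB treeTabB 4096
        treeB_ok n m hn hm hPn hPm hk
      rw [← en, ← em] at base
      obtain ⟨g, hg, hpt, hs, e⟩ := transport_trans [23, 4] [8536111] g0 hg0 o' o'' base
      refine ⟨g, hg, ?_, ?_, ?_, e⟩
      · have := hpt 23 (by simp)
        rwa [hp0] at this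
      · have := hpt 4 (by simp)
        rwa [hq0] at this
      · have := hs 8536111 (by simp)
        rwa [hoe] at this

end Cfsg.Agent.S1605
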