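import Mathlib
import Cfsg.Statements.S2959
import Cfsg.Agent.Lib.Helper15.PCore

set_option autoImplicit false
open Cfsg

namespace Cfsg.Agent.S2959

open Cfsg.Agent.Helper15

/-- Let G be a finite group of characteristic p, that is C_G(O_p(G)) ≤ O_p(G), with p prime, and let L be a subgroup of G normalized by O_p(G). Then L has characteristic p: C_L(O_p(L)) ≤ O_p(L). -/
theorem result {G : Type*} [Group G] [Finite G] {p : ℕ} [Fact p.Prime] (hG : Subgroup.centralizer (Cfsg.pCore p G : Set G) ≤ Cfsg.pCore p G) (L : Subgroup G) (hL : Cfsg.pCore p G ≤ Subgroup.normalizer (L : Set G)) : Subgroup.centralizer (Cfsg.pCore p ↥L : Set ↥L) ≤ Cfsg.pCore p ↥L := by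
  have hQp : IsPGroup p ↥(Cfsg.pCore p G) := isPGroup_pCore p G
  have hQR : (Cfsg.pCore p G).subgroupOf L ≤ Cfsg.pCore p ↥L :=
    subgroupOf_le_pCore hQp (by rw [Subgroup.normalizer_eq_top]; exact le_top)
  -- the centralizer is a normal subgroup of L; it suffices to see that it is a p-group
  have hCn : (Subgroup.centralizer (Cfsg.pCore p ↥L : Set ↥L)).Normal := inferInstance
  apply le_pCore hCn
  apply isPGroup_of_forall_coprime_eq_one
  intro c hc hcop
  -- c is an element of L of order prime to p centralizing O_p(L)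
  have hcop' : (orderOf (c : G)).Coprime p := by rwa [Subgroup.orderOf_coe]
  have hcent : ∀ x ∈ Cfsg.pCore p G, x * (c : G) = (c : G) * x := by
    apply commute_of_coprime_of_commutator_commute hQp hcop'
    intro x hx
    have hxL : x * (c : G) * x⁻¹ ∈ L := (Subgroup.mem_normalizer_iff.1 (hL hx) (c : G)).1 c.2
    have hzL : x * (c : G) * x⁻¹ * (c : G)⁻¹ ∈ L := L.mul_mem hxL (L.inv_mem c.2)
    have hzQ : x * (c : G) * x⁻¹ * (c : G)⁻¹ ∈ Cfsg.pCore p G := by
      have h1 : (c : G) * x⁻¹ * (c : G)⁻¹ ∈ Cfsg.pCore p G :=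
        (Cfsg.pCore_normal p G).conj_mem _ ((Cfsg.pCore p G).inv_mem hx) _
      have := (Cfsg.pCore p G).mul_mem hx h1
      convert this using 1
      group
    refine ⟨hzQ, ?_⟩
    -- the commutator lies in O_p(L), which c centralizes
    have hzR : (⟨x * (c : G) * x⁻¹ * (c : G)⁻¹, hzL⟩ : ↥L) ∈ Cfsg.pCore p ↥L := hQR hzQ
    have := Subgroup.mem_centralizer_iff.1 hc _ hzR
    have := congrArg Subtype.val this
    simpa [Commute, SemiconjBy] using this
  have hcQ : (c : G) ∈ Cfsg.pCore p G := by
    apply hG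
    rw [Subgroup.mem_centralizer_iff]
    intro x hx
    exact hcent x hx
  have := eq_one_of_isPGroup_of_coprime hQp hcQ hcop'
  exact Subtype.ext (by simpa using this)

end Cfsg.Agent.S2959
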