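import Cfsg.Statements.S2946
import Cfsg.Agent.Lib.Helper19.JCBackB

set_option autoImplicit false
open Cfsg

namespace Cfsg.Agent.S2946

/-- Let G be a finite group of characteristic 2 type in which every 2-local subgroup is solvable and the centralizer of Ω₁(Z(S)) lies in N_G(S) for every Sylow 2-subgroup S, and let T be a nontrivial 2-subgroup (below, J is the Thompson subgroup generated by the elementary abelian 2-subgroups of largest order), K a J(T)-component and Z₀ = Ω₁(Z(J(T))). Then Z₀ meets W_K = [Ω₁(Z(O₂(K))), K] in a subgroup of order 2, and Z₀ is the product of Z₀ ∩ Z(⟨K, J(T)⟩) and Z₀ ∩ W_K. -/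
theorem result {G : Type*} [Group G] [Finite G] (hL : Cfsg.IsCharacteristicTwoType G) (hN : ∀ N : Subgroup G, Cfsg.IsTwoLocal N → Group.IsSolvable ↥N)
    (hZ : ∀ S : Sylow 2 G, Subgroup.centralizer (Cfsg.omegaCenterOf (S : Subgroup G) : Set G) ≤ Subgroup.normalizer ((S : Subgroup G) : Set G)) (T : Subgroup G) (hT : IsPGroup 2 ↥T) (hT1 : T ≠ ⊥) (K : Subgroup G) (hK : Cfsg.IsJComponent T K)
    (Z₀ : Subgroup G) (hZ₀ : Z₀ = Cfsg.omegaCenterOf (Cfsg.thompsonSubgroupOf 2 T)) :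
    Nat.card ↥(Z₀ ⊓ Cfsg.wOf K) = 2 ∧
      (Z₀ ⊓ ((K ⊔ Cfsg.thompsonSubgroupOf 2 T) ⊓ Subgroup.centralizer ((K ⊔ Cfsg.thompsonSubgroupOf 2 T) : Set G))) ⊔ (Z₀ ⊓ Cfsg.wOf K) = Z₀ := by
  subst hZ₀
  have c := Cfsg.Agent.Helper19.JC.comp_of_isJComponent hT hK
  have h4 : Cfsg.thompsonSubgroupOf 2
      (Cfsg.Agent.Helper19.JC.SS K (Cfsg.thompsonSubgroupOf 2 T)) = Cfsg.thompsonSubgroupOf 2 T := by
    refine hK.2.2.2.1 _ ⟨c.S_le_X, c.isPGroup_S, ?_⟩ c.J_le_S
    rw [c.relIndex_S]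
    decide
  have hcent : Subgroup.centralizer ((K : Set G) ⊔ (Cfsg.thompsonSubgroupOf 2 T : Set G)) =
      Subgroup.centralizer ((K ⊔ Cfsg.thompsonSubgroupOf 2 T : Subgroup G) : Set G) := by
    have h1 : (K ⊔ Cfsg.thompsonSubgroupOf 2 T : Subgroup G) =
        Subgroup.closure ((K : Set G) ∪ (Cfsg.thompsonSubgroupOf 2 T : Set G)) := by
      rw [Subgroup.closure_union, Subgroup.closure_eq, Subgroup.closure_eq]
    rw [h1, Subgroup.centralizer_closure]
    rfl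
  refine ⟨c.claim_one h4, ?_⟩
  rw [hcent]
  exact c.claim_two h4

end Cfsg.Agent.S2946
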