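import Mathlib
import Cfsg.Statements.S0247
import Cfsg.Agent.Lib.Helper2.SympCard

set_option autoImplicit false
open Cfsg

namespace Cfsg.Agent.S0247

open Equiv Matrix

/-- the pairs of coordinates supporting the four basis vectors of (even-weight words)/(all-ones) -/
def pairOf : Fin 2 ⊕ Fin 2 → Fin 6 × Fin 6 :=
  Sum.elim ![(0, 1), (3, 4)] ![(1, 2), (4, 5)]

/-- the supports of the dual basis -/
def dualOf : Fin 2 ⊕ Fin 2 → Fin 6 × Fin 6 :=
  Sum.elim ![(1, 2), (4, 5)] ![(0, 1), (3, 4)]

/-- the indicator of a pair -/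
def ind (p : Fin 6 × Fin 6) (x : Fin 6) : ZMod 2 := if x = p.1 ∨ x = p.2 then 1 else 0

/-- the matrix of a permutation acting on (even-weight words)/(all-ones) -/
def M (σ : Perm (Fin 6)) : Matrix (Fin 2 ⊕ Fin 2) (Fin 2 ⊕ Fin 2) (ZMod 2) :=
  fun r j => ind (dualOf r) (σ (pairOf j).1) + ind (dualOf r) (σ (pairOf j).2)

set_option maxRecDepth 100000 in
theorem M_one : M 1 = 1 := by decide +kernel

set_option maxRecDepth 100000 in
theorem M_inj : ∀ σ : Perm (Fin 6), M σ = 1 → σ = 1 := by decide +kernel

set_option maxRecDepth 100000 in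
theorem M_mem : ∀ σ : Perm (Fin 6),
    M σ * Matrix.J (Fin 2) (ZMod 2) * (M σ).transpose = Matrix.J (Fin 2) (ZMod 2) := by
  decide +kernel

set_option maxRecDepth 100000 in
theorem M_mul_swap : ∀ σ : Perm (Fin 6), ∀ i : Fin 5,
    M (σ * swap i.castSucc i.succ) = M σ * M (swap i.castSucc i.succ) := by decide +kernel

theorem M_mul (σ τ : Perm (Fin 6)) : M (σ * τ) = M σ * M τ := by
  have hτ : τ ∈ Submonoid.closure (Set.range fun i : Fin 5 => swap i.castSucc i.succ) := by
    rw [Equiv.Perm.mclosure_swap_castSucc_succ 5]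
    trivial
  revert σ
  induction hτ using Submonoid.closure_induction with
  | mem x hx =>
    obtain ⟨i, rfl⟩ := hx
    intro σ
    exact M_mul_swap σ i
  | one =>
    intro σ
    rw [mul_one, M_one, mul_one]
  | mul x y _ _ ihx ihy =>
    intro σ
    rw [← mul_assoc, ihy, ihx, ihy x, mul_assoc]

/-- the homomorphism from the symmetric group to the symplectic group -/
def Mhom : Perm (Fin 6) →* Matrix.symplecticGroup (Fin 2) (ZMod 2) where
  toFun σ := ⟨M σ, SymplecticGroup.mem_iff.2 (M_mem σ)⟩
  map_one' := Subtype.ext M_one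
  map_mul' σ τ := Subtype.ext (M_mul σ τ)

theorem Mhom_injective : Function.Injective Mhom := by
  rw [injective_iff_map_eq_one]
  intro σ hσ
  exact M_inj σ (congrArg Subtype.val hσ)

theorem card_sp4_two : Nat.card (Matrix.symplecticGroup (Fin 2) (ZMod 2)) = 720 := by
  rw [Cfsg.Agent.Helper2.Symp.card_symplecticGroup 2, ZMod.card]
  decide

theorem Mhom_bijective : Function.Bijective Mhom := by
  rw [Nat.bijective_iff_injective_and_card]
  refine ⟨Mhom_injective, ?_⟩
  rw [card_sp4_two, Nat.card_perm, Nat.card_eq_fintype_card, Fintype.card_fin]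
  decide

/-- a ring isomorphism induces an isomorphism of symplectic groups -/
def spMapEquiv {l : Type*} [DecidableEq l] [Fintype l] {R S : Type*} [CommRing R] [CommRing S]
    (e : R ≃+* S) : Matrix.symplecticGroup l R ≃* Matrix.symplecticGroup l S where
  toFun A := ⟨A.1.map e, SymplecticGroup.map_mem A.2 e⟩
  invFun A := ⟨A.1.map e.symm, SymplecticGroup.map_mem A.2 e.symm⟩
  left_inv A := by
    apply Subtype.ext
    ext i j
    simp
  right_inv A := by
    apply Subtype.ext
    ext i j
    simp
  map_mul' A B := by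
    apply Subtype.ext
    show (A.1 * B.1).map e = A.1.map e * B.1.map e
    exact Matrix.map_mul

/-- Sp_4(2) is isomorphic to the symmetric group S_6. -/
theorem result {F : Type*} [Field F] [Fintype F] (hF : Fintype.card F = 2) : Nonempty (Matrix.symplecticGroup (Fin 2) F ≃* Equiv.Perm (Fin 6)) := by
  have : Fact (Nat.Prime 2) := ⟨Nat.prime_two⟩
  have e : ZMod 2 ≃+* F := ZMod.ringEquivOfPrime F Nat.prime_two hF
  exact ⟨(spMapEquiv e.symm).trans (MulEquiv.ofBijective Mhom Mhom_bijective).symm⟩

end Cfsg.Agent.S0247
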