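import Mathlib
import Cfsg.Statements.S4701
import Cfsg.Agent.S0996
import Cfsg.Agent.Lib.Helper17.BRRedCor
import Cfsg.Agent.Lib.Helper23.PSolvable

set_option autoImplicit false
set_option linter.style.haveILetI false
open Cfsg

namespace Cfsg.Agent.S4701

/-- Let G be a finite perfect group and p a prime dividing the order of G with p^3 larger than the order of G. Suppose a Sylow p-subgroup of G is not normal and G has no normal subgroup of order 2. Then p > 3 and G is isomorphic to PSL(2, p), or to SL(2, 2^m) with p = 2^m + 1. -/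
theorem result {G : Type*} [Group G] [Finite G] (hperf : commutator G = ⊤) (p : ℕ) [Fact p.Prime] (hdvd : p ∣ Nat.card G) (hbig : Nat.card G < p ^ 3) (P : Sylow p G) (hP : ¬ (P : Subgroup G).Normal) (h2 : ∀ N : Subgroup G, N.Normal → Nat.card N ≠ 2) : (∃ (F : Type) (_ : Field F) (_ : Fintype F), Fintype.card F = p ∧ 3 < p ∧ Nonempty (G ≃* Matrix.ProjectiveSpecialLinearGroup (Fin 2) F)) ∨ (∃ (m : ℕ) (F : Type) (_ : Field F) (_ : Fintype F), Fintype.card F = 2 ^ m ∧ p = 2 ^ m + 1 ∧ 3 < p ∧ Nonempty (G ≃* Matrix.SpecialLinearGroup (Fin 2) F)) := by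
  have hp : p.Prime := Fact.out
  have hPc : Nat.card P = p := Cfsg.Agent.Helper17.BRRed.card_sylow_eq_prime p hdvd hbig P hP
  haveI hKn : (pPrimeCore p G).Normal := Cfsg.Agent.Helper22.pPrimeCore_normal p
  have hKc : (Nat.card (pPrimeCore p G)).Coprime p := Cfsg.Agent.Helper22.card_pPrimeCore_coprime p
  have hKcore : ∀ N : Subgroup (G ⧸ pPrimeCore p G), N.Normal → (Nat.card N).Coprime p → N = ⊥ := by
    intro N hN hc
    have h1 := Cfsg.Agent.Helper22.le_pPrimeCore p N hN hc
    rw [Cfsg.Agent.Helper23.PSolv.pPrimeCore_quotient_pPrimeCore p] at h1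
    exact le_bot_iff.mp h1
  obtain ⟨hperf', z, hzo, hzC, hn⟩ :=
    Cfsg.Agent.Helper17.BRRed.quotient_data hperf p P hPc hbig (pPrimeCore p G) hKc hKcore
  have key := Cfsg.Agent.S0996.result hperf' p z hzo hzC hn
  have h5 : 3 < p → 5 ≤ p := by
    intro h3
    rcases Nat.lt_or_ge p 5 with h | h
    · exfalso
      have : p = 4 := by omega
      rw [this] at hp
      exact absurd hp (by norm_num)
    · exact h
  rcases key with ⟨F, iF, iFt, hF, hp3, ⟨e⟩⟩ | ⟨m, F, iF, iFt, hF, hpm, hp3, ⟨e⟩⟩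
  · left
    have hodd : Odd p := hp.odd_of_ne_two (by omega)
    have hcard : 2 * Nat.card (G ⧸ pPrimeCore p G) = p * (p - 1) * (p + 1) := by
      rw [Nat.card_congr e.toEquiv]
      have := Cfsg.Agent.Helper12.PSL2Max.card_PSL2_mul' F hF
      rwa [Cfsg.Agent.Helper12.PSL2Max.gcd_two_odd hodd] at this
    have hKbot := Cfsg.Agent.Helper17.BRRed.eq_bot_of_card_odd p (h5 hp3) hbig (pPrimeCore p G)
      (h2 _ hKn) hcard
    refine ⟨F, iF, iFt, hF, hp3, ⟨?_⟩⟩
    exact ((QuotientGroup.quotientMulEquivOfEq hKbot).trans QuotientGroup.quotientBot).symm.trans e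
  · right
    have hq0 : 0 < 2 ^ m := by positivity
    have hm1 : 1 ≤ m := by
      rcases Nat.eq_zero_or_pos m with h | h
      · subst h
        simp at hpm
        omega
      · exact h
    have heven : Even (2 ^ m) := (Nat.even_pow.mpr ⟨even_two, by omega⟩)
    have hcard : Nat.card (G ⧸ pPrimeCore p G) = (p - 1) * (p - 2) * p := by
      rw [Nat.card_congr e.toEquiv]
      have := Cfsg.Agent.Helper12.PSL2Max.card_PSL2_mul' F hF
      rw [Cfsg.Agent.Helper12.PSL2Max.gcd_two_even heven hq0, one_mul] at this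
      rw [this, hpm]
      have h1 : 2 ^ m + 1 - 1 = 2 ^ m := by omega
      have h2' : 2 ^ m + 1 - 2 = 2 ^ m - 1 := by omega
      rw [h1, h2']
    have hKbot := Cfsg.Agent.Helper17.BRRed.eq_bot_of_card_even p (h5 hp3) hbig (pPrimeCore p G)
      (h2 _ hKn) hcard
    obtain ⟨e'⟩ := Cfsg.Agent.Helper17.BRRed.nonempty_psl_equiv_sl F m hF
    refine ⟨m, F, iF, iFt, hF, hpm, hp3, ⟨?_⟩⟩
    exact (((QuotientGroup.quotientMulEquivOfEq hKbot).trans QuotientGroup.quotientBot).symm.trans e).trans e'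

end Cfsg.Agent.S4701
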