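import Mathlib
import Cfsg.Statements.S0848
import Cfsg.Agent.Lib.Helper16.DihedralEightChar

set_option autoImplicit false
open Cfsg

namespace Cfsg.Agent.S0848

open Cfsg.Agent.Helper16 in
/-- The arithmetic at the end of the proof. -/
theorem order_of_equation (n d : ℕ) (s : ℤ) (hn0 : n ≠ 0) (hd0 : 0 < d) (hdn : d ∣ n)
    (hd1n : (d + 1) ∣ n) (hs : s = 1 ∨ s = 2) (h8 : 8 ∣ n) (h16 : ¬ 16 ∣ n)
    (heq : (n : ℤ) * (d * (d + 1) + s ^ 2 * (d + 1) - (s - 3) ^ 2 * d) = 256 * d * (d + 1)) :
    n = 168 ∨ n = 360 := by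
  have hcop : Nat.Coprime d (d + 1) := by simp
  obtain ⟨m, hm⟩ := hcop.mul_dvd_of_dvd_of_dvd hdn hd1n
  have hm0 : 0 < m := by
    rcases Nat.eq_zero_or_pos m with h0 | h0
    · rw [h0, mul_zero] at hm; exact absurd hm hn0
    · exact h0
  have hD : (1 : ℤ) ≤ (d : ℤ) := by exact_mod_cast hd0
  have hM : (1 : ℤ) ≤ (m : ℤ) := by exact_mod_cast hm0
  have hdd : (d : ℤ) * ((d : ℤ) + 1) ≠ 0 := by positivity
  rw [hm] at heq
  push_cast at heq
  rcases hs with rfl | rfl
  · have h1 : (m : ℤ) * ((d : ℤ) - 1) ^ 2 = 256 := by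
      apply mul_left_cancel₀ hdd
      linear_combination heq
    have hd17 : (d : ℤ) ≤ 17 := by
      by_contra hcon
      push Not at hcon
      have h2 : (17 : ℤ) ≤ (d : ℤ) - 1 := by linarith
      have h3 : (289 : ℤ) ≤ ((d : ℤ) - 1) ^ 2 := by nlinarith
      nlinarith
    have hd17' : d ≤ 17 := by exact_mod_cast hd17
    interval_cases d <;> norm_num at h1 <;> omega
  · have h1 : (m : ℤ) * ((d : ℤ) + 2) ^ 2 = 256 := by
      apply mul_left_cancel₀ hdd
      linear_combination heq
    have hd14 : (d : ℤ) ≤ 14 := by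
      by_contra hcon
      push Not at hcon
      have h2 : (17 : ℤ) ≤ (d : ℤ) + 2 := by linarith
      have h3 : (289 : ℤ) ≤ ((d : ℤ) + 2) ^ 2 := by nlinarith
      nlinarith
    have hd14' : d ≤ 14 := by exact_mod_cast hd14
    interval_cases d <;> norm_num at h1 <;> omega

open Cfsg.Agent.Helper16 in
/-- If a finite group equals its own commutator subgroup and contains an involution whose centralizer is isomorphic to the dihedral group of order 8, then the group has order 168 or 360. -/
theorem result {G : Type*} [Group G] [Finite G] (hperf : commutator G = ⊤) (t : G) (ht : orderOf t = 2) (e : Subgroup.centralizer ({t} : Set G) ≃* DihedralGroup 4) : Nat.card G = 168 ∨ Nat.card G = 360 := by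
  classical
  have : Fintype G := Fintype.ofFinite G
  have hF : Fact (Nat.Prime 2) := ⟨Nat.prime_two⟩
  have hcardD : Nat.card (Subgroup.centralizer ({t} : Set G)) = 2 ^ 3 := by
    rw [Nat.card_congr e.toEquiv, DihedralGroup.nat_card]; norm_num
  have hD2 : IsPGroup 2 (Subgroup.centralizer ({t} : Set G)) := IsPGroup.of_card (n := 3) hcardD
  obtain ⟨a, j, h, hj⟩ := exists_isDihedralSub (Subgroup.centralizer ({t} : Set G)) hD2 4 e
  have hj2 : j = 2 := by
    have h4 : (2 : ℕ) ^ 2 = 2 ^ j := by rw [← hj]; norm_num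
    exact (Nat.pow_right_injective (le_refl 2) h4).symm
  subst hj2
  have hconj := DihEight.conj_of_perfect h ht hperf
  obtain ⟨d, s, hd0, hdn, hd1n, hs, heq⟩ := DihEight.exists_degree_equation h ht hconj
  obtain ⟨P, hP⟩ := DihEight.exists_sylow_eq h ht
  have hn0 : Nat.card G ≠ 0 := Nat.card_pos.ne'
  have hfac : (Nat.card G).factorization 2 = 3 := by
    have h1 := P.card_eq_multiplicity
    rw [hP, hcardD] at h1
    exact (Nat.pow_right_injective (le_refl 2) h1).symm
  have h8 : 8 ∣ Nat.card G := by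
    have := Nat.ordProj_dvd (Nat.card G) 2
    rw [hfac] at this
    exact this
  have h16 : ¬ 16 ∣ Nat.card G := by
    have := Nat.pow_succ_factorization_not_dvd hn0 Nat.prime_two
    rw [hfac] at this
    exact this
  exact order_of_equation (Nat.card G) d s hn0 hd0 hdn hd1n hs h8 h16 heq

end Cfsg.Agent.S0848
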