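-- Statement S0690 (Zassenhaus): linearization (helper19) + ring form (helper4/helper11 and many pieces).
import Cfsg.Statements.S0690
import Cfsg.Agent.Lib.Helper19.ZassLin
import Cfsg.Agent.Lib.Helper11.ZasN1

set_option autoImplicit false
open Cfsg

namespace Cfsg.Agent.S0690

/-- Zassenhaus: a perfect non-trivial group of fixed-point-free automorphisms of a finite group is isomorphic to `SL(2,5)`. -/
theorem result {K : Type*} [Group K] [Finite K] (G : Subgroup (MulAut K)) (hfpf : ∀ φ ∈ G, φ ≠ 1 → ∀ k : K, φ k = k → k = 1) (hperf : commutator G = ⊤) (hne : G ≠ ⊥) : Nonempty (G ≃* Matrix.SpecialLinearGroup (Fin 2) (ZMod 5)) := by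
  obtain ⟨r, hr, V, i1, i2, i3, ι, hinj, hunit, -⟩ :=
    Cfsg.Agent.Helper19.ZassLin.linearize G hfpf hne
  haveI : Nontrivial G := (Subgroup.nontrivial_iff_ne_bot G).mpr hne
  haveI : Nontrivial (Module.End (ZMod r) V) := by
    by_contra hnt
    rw [not_nontrivial_iff_subsingleton] at hnt
    obtain ⟨a, b, hab⟩ := exists_pair_ne G
    apply hab
    apply hinj
    apply Units.ext
    exact Subsingleton.elim _ _
  refine Cfsg.Agent.Helper11.ZasN1.zassenhaus_of_fpf_hom ι ?_ hperf
  intro g hg
  have h := hunit g 1 hg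
  rwa [map_one] at h

end Cfsg.Agent.S0690
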