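import Mathlib
import Cfsg.Statements.S3035
import Cfsg.Agent.Lib.Helper16.DihedralEightMain

set_option autoImplicit false
open Cfsg

namespace Cfsg.Agent.S3035

open Cfsg.Agent.Helper16 in
/-- Let G be a finite group with an involution z whose centralizer is dihedral of order 8. Then G = C_G(z) O(G) with O(G) the largest normal subgroup of odd order, or G is isomorphic to the symmetric group of degree 4, the symmetric group of degree 5, the group SL₃(2), or the alternating group of degree 6. -/
theorem result {G : Type*} [Group G] [Finite G] (z : G) (hz : orderOf z = 2)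
    (hC : Nonempty (↥(Subgroup.centralizer ({z} : Set G)) ≃* DihedralGroup 4)) :
    Subgroup.centralizer ({z} : Set G) ⊔ Cfsg.oddCore G = ⊤ ∨ Nonempty (G ≃* Equiv.Perm (Fin 4)) ∨ Nonempty (G ≃* Equiv.Perm (Fin 5)) ∨
      Nonempty (G ≃* Matrix.SpecialLinearGroup (Fin 3) (ZMod 2)) ∨ Nonempty (G ≃* ↥(alternatingGroup (Fin 6))) := by
  obtain ⟨e⟩ := hC
  have hF : Fact (Nat.Prime 2) := ⟨Nat.prime_two⟩
  have hcardD : Nat.card (Subgroup.centralizer ({z} : Set G)) = 2 ^ 3 := by
    rw [Nat.card_congr e.toEquiv, DihedralGroup.nat_card]; norm_num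
  have hD2 : IsPGroup 2 (Subgroup.centralizer ({z} : Set G)) := IsPGroup.of_card (n := 3) hcardD
  obtain ⟨a, j, h, hj⟩ := exists_isDihedralSub (Subgroup.centralizer ({z} : Set G)) hD2 4 e
  have hj2 : j = 2 := by
    have h4 : (2 : ℕ) ^ 2 = 2 ^ j := by rw [← hj]; norm_num
    exact (Nat.pow_right_injective (le_refl 2) h4).symm
  subst hj2
  exact DihEight.classification h hz

end Cfsg.Agent.S3035
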