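import Mathlib
import Cfsg.Statements.S0497
import Cfsg.Agent.Lib.Helper16.Simple360l
import Cfsg.Agent.Lib.Helper2.PermIso
import Cfsg.Agent.Lib.Helper2.Order60
import Cfsg.Agent.S3035
-- import your own Cfsg.Agent.* helpers here

set_option autoImplicit false
open Cfsg

namespace Cfsg.Agent.S0497

/-- A simple group of order 360 is isomorphic to the alternating group of degree 6. -/
theorem result {G : Type*} [Group G] [Finite G] [IsSimpleGroup G]
    (h : Nat.card G = 360) : Nonempty (G ≃* alternatingGroup (Fin 6)) := by
  classical
  by_cases hex : ∃ H : Subgroup G, H.index = 6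
  · obtain ⟨H, hH⟩ := hex
    have hne : H ≠ ⊤ := by
      intro ht; rw [ht, Subgroup.index_top] at hH; omega
    let _ : Fintype (G ⧸ H) := Fintype.ofFinite _
    refine Cfsg.Agent.Helper2.equiv_alternating_of_injective 6 ?_
      (MulAction.toPermHom G (G ⧸ H))
      (Cfsg.Agent.Helper2.simple_toPermHom_injective H hne) (by rw [h]; decide)
    rw [← Nat.card_eq_fintype_card, ← Subgroup.index_eq_card, hH]
  · push Not at hex
    obtain ⟨z, hz, hC⟩ := Cfsg.Agent.Helper16.O360.exists_dihedral_centralizer h hex
    rcases Cfsg.Agent.S3035.result z hz hC with h1 | h1 | h1 | h1 | h1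
    · exfalso
      have hcore : oddCore G = ⊥ := by
        rw [eq_bot_iff]
        apply sSup_le
        rintro N ⟨hNn, hNc⟩
        rcases hNn.eq_bot_or_eq_top with hb | ht
        · rw [hb]
        · exfalso
          rw [ht, Subgroup.card_top, h] at hNc
          revert hNc; decide
      rw [hcore, sup_bot_eq] at h1
      obtain ⟨e⟩ := hC
      have hc8 : Nat.card (Subgroup.centralizer ({z} : Set G)) = 8 := by
        rw [Nat.card_congr e.toEquiv, DihedralGroup.nat_card]
      rw [h1, Subgroup.card_top, h] at hc8
      norm_num at hc8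
    · exfalso
      obtain ⟨e⟩ := h1
      have := Nat.card_congr e.toEquiv
      rw [h, Nat.card_eq_fintype_card, Fintype.card_perm, Fintype.card_fin] at this
      revert this; decide
    · exfalso
      obtain ⟨e⟩ := h1
      have := Nat.card_congr e.toEquiv
      rw [h, Nat.card_eq_fintype_card, Fintype.card_perm, Fintype.card_fin] at this
      revert this; decide
    · exfalso
      obtain ⟨e⟩ := h1
      have h2 := Nat.card_congr e.toEquiv
      have h3 := Subgroup.card_dvd_of_injective
        (Matrix.SpecialLinearGroup.toGL :
          Matrix.SpecialLinearGroup (Fin 3) (ZMod 2) →* Matrix.GeneralLinearGroup (Fin 3) (ZMod 2))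
        Matrix.SpecialLinearGroup.toGL_injective
      rw [← h2, h, Matrix.card_GL_field, Fin.prod_univ_three] at h3
      simp [ZMod.card] at h3
    · exact h1

end Cfsg.Agent.S0497
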