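import Mathlib
import Cfsg.Statements.S2530
import Cfsg.Agent.Lib.Helper13.CoxeterA

set_option autoImplicit false
open Cfsg

namespace Cfsg.Agent.S2530

open Cfsg.Agent.Helper13 Equiv

theorem A_apply (n : ℕ) (i j : Fin n) :
    (CoxeterMatrix.A n) i j =
      if i = j then 1 else (if (j : ℕ) + 1 = i ∨ (i : ℕ) + 1 = j then 3 else 2) := rfl

section grp
variable {G : Type*} [Group G]

theorem comm_of_sq (a b : G) (ha : a * a = 1) (hb : b * b = 1) (h : (a * b) ^ 2 = 1) :
    a * b = b * a := by
  have h1 : a * b * (a * b) = 1 := by rw [← pow_two]; exact h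
  have h2 : a * b = (a * b)⁻¹ := eq_inv_of_mul_eq_one_left h1
  have ha' : a⁻¹ = a := inv_eq_of_mul_eq_one_left ha
  have hb' : b⁻¹ = b := inv_eq_of_mul_eq_one_left hb
  rw [h2, mul_inv_rev, ha', hb']

theorem braid_of_cube (a b : G) (ha : a * a = 1) (hb : b * b = 1) (h : (a * b) ^ 3 = 1) :
    a * b * a = b * a * b := by
  have ha' : a⁻¹ = a := inv_eq_of_mul_eq_one_left ha
  have hb' : b⁻¹ = b := inv_eq_of_mul_eq_one_left hb
  have h1 : (a * b * a) * (b * a * b) = 1 := by
    have : (a * b) ^ 3 = (a * b * a) * (b * a * b) := by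
      rw [pow_succ, pow_two]; simp only [mul_assoc]
    rw [← this]; exact h
  have h2 : a * b * a = (b * a * b)⁻¹ := eq_inv_of_mul_eq_one_left h1
  rw [h2, mul_inv_rev, mul_inv_rev, ha', hb', mul_assoc]

end grp

/-- the generators of the Coxeter group of type `A`, indexed by `ℕ` -/
noncomputable def tgen (n : ℕ) (v : ℕ) : (CoxeterMatrix.A n).Group :=
  if h : v < n then (CoxeterMatrix.A n).simple ⟨v, h⟩ else 1

theorem tgen_of_lt (n v : ℕ) (h : v < n) : tgen n v = (CoxeterMatrix.A n).simple ⟨v, h⟩ := by
  unfold tgen; rw [dif_pos h]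

theorem typeARel_tgen (n : ℕ) : TypeARel (tgen (n + 1)) n := by
  set cs := (CoxeterMatrix.A (n + 1)).toCoxeterSystem with hcs
  have hs : ∀ i, cs.simple i = (CoxeterMatrix.A (n + 1)).simple i := fun i => rfl
  have hsq : ∀ v, v ≤ n → tgen (n + 1) v * tgen (n + 1) v = 1 := by
    intro v hv
    rw [tgen_of_lt _ _ (by omega), ← hs]
    exact cs.simple_mul_simple_self _
  refine ⟨hsq, ?_, ?_⟩
  · intro u v hv huv
    apply comm_of_sq _ _ (hsq u (by omega)) (hsq v hv)
    rw [tgen_of_lt _ _ (by omega : u < n + 1), tgen_of_lt _ _ (by omega : v < n + 1), ← hs, ← hs]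
    have h := cs.simple_mul_simple_pow ⟨u, by omega⟩ ⟨v, by omega⟩
    rw [A_apply] at h
    simp only [Fin.mk.injEq] at h
    rw [if_neg (by omega), if_neg (by omega)] at h
    exact h
  · intro u hu
    apply braid_of_cube _ _ (hsq u (by omega)) (hsq (u + 1) hu)
    rw [tgen_of_lt _ _ (by omega : u < n + 1), tgen_of_lt _ _ (by omega : u + 1 < n + 1),
      ← hs, ← hs]
    have h := cs.simple_mul_simple_pow ⟨u, by omega⟩ ⟨u + 1, by omega⟩
    rw [A_apply] at h
    simp only [Fin.mk.injEq] at h
    rw [if_neg (by omega), if_pos (by simp)] at h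
    exact h

/-- the inclusion of the Coxeter group of type `A n` into that of type `A (n+1)` -/
noncomputable def incl (n : ℕ) : (CoxeterMatrix.A n).Group →* (CoxeterMatrix.A (n + 1)).Group :=
  (CoxeterMatrix.A n).toCoxeterSystem.lift
    ⟨fun i => (CoxeterMatrix.A (n + 1)).simple i.castSucc, by
      intro i i'
      have h := (CoxeterMatrix.A (n + 1)).toCoxeterSystem.simple_mul_simple_pow
        i.castSucc i'.castSucc
      have e : (CoxeterMatrix.A (n + 1)) i.castSucc i'.castSucc = (CoxeterMatrix.A n) i i' := by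
        rw [A_apply, A_apply]
        simp only [Fin.ext_iff, Fin.val_castSucc]
      rw [e] at h
      exact h⟩

theorem incl_simple (n : ℕ) (i : Fin n) :
    incl n ((CoxeterMatrix.A n).simple i) = (CoxeterMatrix.A (n + 1)).simple i.castSucc :=
  (CoxeterMatrix.A n).toCoxeterSystem.lift_apply_simple _ i

theorem finite_card (n : ℕ) :
    Finite (CoxeterMatrix.A n).Group ∧ Nat.card (CoxeterMatrix.A n).Group ≤ (n + 1).factorial := by
  induction n with
  | zero =>
    have hsub : Subsingleton (CoxeterMatrix.A 0).Group := by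
      refine ⟨fun a b => ?_⟩
      have h1 : ∀ w : (CoxeterMatrix.A 0).Group, w = 1 := by
        intro w
        refine (CoxeterMatrix.A 0).toCoxeterSystem.simple_induction_right
          (p := fun w => w = 1) w rfl ?_
        intro w i _
        exact i.elim0
      rw [h1 a, h1 b]
    refine ⟨inferInstance, ?_⟩
    exact (Finite.card_le_one_iff_subsingleton.2 hsub)
  | succ n ih =>
    obtain ⟨hfin, hcard⟩ := ih
    set H := (incl n).range with hH
    have hsurj : Function.Surjective (incl n).rangeRestrict := (incl n).rangeRestrict_surjective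
    have hHfin : Finite H := Finite.of_surjective _ hsurj
    have hHcard : Nat.card H ≤ Nat.card (CoxeterMatrix.A n).Group :=
      Nat.card_le_card_of_surjective _ hsurj
    have hmem : ∀ v, v < n → tgen (n + 1) v ∈ H := by
      intro v hv
      rw [tgen_of_lt _ _ (by omega)]
      exact ⟨(CoxeterMatrix.A n).simple ⟨v, hv⟩, incl_simple n ⟨v, hv⟩⟩
    have hind : ∀ p : (CoxeterMatrix.A (n + 1)).Group → Prop, p 1 →
        (∀ w j, j ≤ n → p w → p (w * tgen (n + 1) j)) → ∀ w, p w := by
      intro p h1 hstep w
      refine (CoxeterMatrix.A (n + 1)).toCoxeterSystem.simple_induction_right (p := p) w h1 ?_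
      intro w i hw
      have := hstep w i.val (by omega) hw
      rw [tgen_of_lt _ _ i.isLt] at this
      exact this
    obtain ⟨hfin', hcard'⟩ := card_le_of_typeA (typeARel_tgen n) H hmem hind
    refine ⟨hfin', hcard'.trans ?_⟩
    rw [Nat.factorial_succ (n + 1)]
    exact Nat.mul_le_mul_left _ (hHcard.trans hcard)

theorem liftable_swap (n : ℕ) :
    (CoxeterMatrix.A n).IsLiftable (fun i : Fin n => (swap i.castSucc i.succ : Perm (Fin (n + 1)))) := by
  intro i i'
  change (swap i.castSucc i.succ * swap i'.castSucc i'.succ) ^ _ = 1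
  rw [A_apply]
  by_cases h1 : i = i'
  · subst h1
    rw [if_pos rfl, pow_one, swap_mul_self]
  · rw [if_neg h1]
    have hv : (i : ℕ) ≠ i' := fun h => h1 (Fin.ext h)
    by_cases h2 : (i' : ℕ) + 1 = i ∨ (i : ℕ) + 1 = i'
    · rw [if_pos h2]
      rcases h2 with h2 | h2
      · have e : i'.succ = i.castSucc := Fin.ext (by simp [h2])
        rw [e, swap_comm i'.castSucc i.castSucc]
        have h3 := Perm.isThreeCycle_swap_mul_swap_same (a := i.castSucc) (b := i.succ)
          (c := i'.castSucc) (by simp [Fin.ext_iff]) (by simp [Fin.ext_iff]; omega)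
          (by simp [Fin.ext_iff]; omega)
        rw [← h3.orderOf]
        exact pow_orderOf_eq_one _
      · have e : i.succ = i'.castSucc := Fin.ext (by simp [h2])
        rw [swap_comm i.castSucc i.succ, e]
        have h3 := Perm.isThreeCycle_swap_mul_swap_same (a := i'.castSucc) (b := i.castSucc)
          (c := i'.succ) (by simp [Fin.ext_iff]; omega) (by simp [Fin.ext_iff])
          (by simp [Fin.ext_iff]; omega)
        rw [← h3.orderOf]
        exact pow_orderOf_eq_one _
    · rw [if_neg h2]
      push Not at h2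
      have hd : Perm.Disjoint (swap i.castSucc i.succ) (swap i'.castSucc i'.succ) := by
        apply Perm.disjoint_swap_swap
        simp only [List.nodup_cons, List.mem_cons, List.not_mem_nil, or_false, not_or,
          List.nodup_nil, and_true, Fin.ext_iff, Fin.val_castSucc, Fin.val_succ, not_false_eq_true]
        omega
      have hc := hd.commute.eq
      rw [pow_two]
      calc swap i.castSucc i.succ * swap i'.castSucc i'.succ *
            (swap i.castSucc i.succ * swap i'.castSucc i'.succ)
          = swap i.castSucc i.succ * (swap i'.castSucc i'.succ * swap i.castSucc i.succ) *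
              swap i'.castSucc i'.succ := by simp only [mul_assoc]
        _ = swap i.castSucc i.succ * (swap i.castSucc i.succ * swap i'.castSucc i'.succ) *
              swap i'.castSucc i'.succ := by rw [hc]
        _ = (swap i.castSucc i.succ * swap i.castSucc i.succ) *
              (swap i'.castSucc i'.succ * swap i'.castSucc i'.succ) := by simp only [mul_assoc]
        _ = 1 := by rw [swap_mul_self, swap_mul_self, one_mul]

theorem result (n : ℕ) :
    ∃ cs : CoxeterSystem (CoxeterMatrix.A n) (Equiv.Perm (Fin (n + 1))), ∀ i : Fin n, cs.simple i = Equiv.swap i.castSucc i.succ := by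
  set φ : (CoxeterMatrix.A n).Group →* Perm (Fin (n + 1)) :=
    (CoxeterMatrix.A n).toCoxeterSystem.lift ⟨_, liftable_swap n⟩ with hφ
  have hφs : ∀ i : Fin n, φ ((CoxeterMatrix.A n).simple i) = swap i.castSucc i.succ :=
    fun i => (CoxeterMatrix.A n).toCoxeterSystem.lift_apply_simple (liftable_swap n) i
  have hsurj : Function.Surjective φ := by
    rw [← MonoidHom.mrange_eq_top, eq_top_iff, ← Perm.mclosure_swap_castSucc_succ n,
      Submonoid.closure_le]
    rintro _ ⟨i, rfl⟩
    exact ⟨_, hφs i⟩
  obtain ⟨hfin, hcard⟩ := finite_card n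
  have hbij : Function.Bijective φ := by
    apply hsurj.bijective_of_nat_card_le
    rw [Nat.card_eq_fintype_card (α := Perm (Fin (n + 1))), Fintype.card_perm, Fintype.card_fin]
    exact hcard
  refine ⟨⟨(MulEquiv.ofBijective φ hbij).symm⟩, ?_⟩
  intro i
  exact hφs i

end Cfsg.Agent.S2530
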