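import Mathlib
import Cfsg.Statements.S4476
import Cfsg.Agent.Lib.Helper24.FrobeniusSchur
import Cfsg.Agent.Lib.Helper24.CharComplete
import Cfsg.Agent.Lib.Helper24.CharLinear

set_option autoImplicit false
set_option linter.style.haveILetI false
open Cfsg

namespace Cfsg.Agent.S4476

open Cfsg.Agent.Helper24
open scoped ComplexConjugate

universe u

/-- `∑ₓ |C_G(x)| = k(G)·|G|`. -/
theorem sum_card_centralizer {G : Type u} [Group G] [Fintype G] :
    ∑ x : G, Nat.card (Subgroup.centralizer ({x} : Set G)) =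
      Nat.card (ConjClasses G) * Nat.card G := by
  classical
  rw [← card_comm_eq_card_conjClasses_mul_card,
    Nat.card_congr (Equiv.subtypeProdEquivSigmaSubtype (Commute (S := G))), Nat.card_sigma]
  apply Finset.sum_congr rfl
  intro a _
  apply Nat.card_congr
  apply Equiv.subtypeEquivRight
  intro b
  rw [Subgroup.mem_centralizer_singleton_iff]
  exact ⟨fun h => h.symm, fun h => h.eq.symm⟩

/-- The integer Frobenius–Schur data. -/
theorem exists_fs_data {G : Type u} [Group G] [Fintype G] [Fintype (IrrCharacter G)] (t : ℕ)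
    (ht : Nat.card {x : G // orderOf x = 2} = t) :
    ∃ ν : IrrCharacter G → ℤ, (∀ χ, ν χ = 1 ∨ ν χ = -1 ∨ ν χ = 0) ∧
      (∀ χ, ν χ ≠ 0 → ∀ g, conj ((χ : G → ℂ) g) = (χ : G → ℂ) g) ∧
      ν (principalChar G) = 1 ∧
      ∑ χ : IrrCharacter G, ν χ * (charDegree (χ : G → ℂ) : ℤ) = 1 + t := by
  classical
  have hex : ∀ χ : IrrCharacter G, ∃ n : ℤ, (n = 1 ∨ n = -1 ∨ n = 0) ∧
      fsInd (χ : G → ℂ) = (n : ℂ) ∧ (n ≠ 0 → ∀ g, conj ((χ : G → ℂ) g) = (χ : G → ℂ) g) := by
    intro χ
    rcases fsInd_cases χ.2 with ⟨h1, h2 | h2⟩ | ⟨h1, h2⟩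
    · exact ⟨1, Or.inl rfl, by rw [h2]; simp, fun _ => h1⟩
    · exact ⟨-1, Or.inr (Or.inl rfl), by rw [h2]; simp, fun _ => h1⟩
    · exact ⟨0, Or.inr (Or.inr rfl), by rw [h2]; simp, fun h => absurd rfl h⟩
  choose ν hν1 hν2 hν3 using hex
  refine ⟨ν, hν1, hν3, ?_, ?_⟩
  · have h1 : fsInd ((principalChar G : IrrCharacter G) : G → ℂ) = 1 := by
      unfold fsInd
      show (Nat.card G : ℂ)⁻¹ * ∑ g : G, (1 : ℂ) = 1
      rw [Finset.sum_const, Finset.card_univ, nsmul_eq_mul, mul_one, ← Nat.card_eq_fintype_card]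
      have : (Nat.card G : ℂ) ≠ 0 := by
        have : Nat.card G ≠ 0 := Nat.card_pos.ne'
        exact_mod_cast this
      exact inv_mul_cancel₀ this
    have h2 := hν2 (principalChar G)
    rw [h1] at h2
    exact_mod_cast h2.symm
  · have h := sum_fsInd_mul (G := G) (1 : G)
    have hsq : sqrtCount (1 : G) = (1 + t : ℕ) := by
      unfold sqrtCount
      rw [Finset.sum_boole]
      congr 1
      rw [← ht, Nat.card_eq_fintype_card, Fintype.card_subtype]
      have : Finset.univ.filter (fun u : G => u * u = 1) =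
          insert 1 (Finset.univ.filter (fun u : G => orderOf u = 2)) := by
        ext u
        simp only [Finset.mem_filter, Finset.mem_univ, true_and, Finset.mem_insert]
        constructor
        · intro hu
          by_cases h1 : u = 1
          · exact Or.inl h1
          · right
            exact orderOf_eq_prime (by rw [pow_two]; exact hu) h1
        · rintro (rfl | hu)
          · simp
          · rw [← pow_two, ← hu]
            exact pow_orderOf_eq_one u
      rw [this, Finset.card_insert_of_notMem, add_comm]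
      simp
    rw [hsq] at h
    have h3 : ∑ χ : IrrCharacter G, ((ν χ * (charDegree (χ : G → ℂ) : ℤ) : ℤ) : ℂ) =
        ((1 + t : ℕ) : ℂ) := by
      rw [← h]
      apply Finset.sum_congr rfl
      intro χ _
      rw [hν2 χ, irr_one_eq_charDegree χ.2]
      push_cast
      rfl
    rw [← Int.cast_sum] at h3
    have h4 : ((∑ χ : IrrCharacter G, ν χ * (charDegree (χ : G → ℂ) : ℤ) : ℤ) : ℂ) =
        (((1 + t : ℕ) : ℤ) : ℂ) := by
      rw [h3]
      push_cast
      rfl
    have h5 := Int.cast_injective h4
    rw [h5]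
    push_cast
    rfl

/-- Let G be a finite group of even order g containing exactly t involutions, and put α = (g − 1)/t. Then some non-identity element x of G has a conjugacy class of size [G : C_G(x)] at most α², and some non-principal real-valued irreducible character of G has degree at most α. -/
theorem result {G : Type*} [Group G] [Fintype G] (heven : Even (Nat.card G)) (t : ℕ) (ht : Nat.card {x : G // orderOf x = 2} = t) : (∃ x : G, x ≠ 1 ∧ ((Subgroup.centralizer ({x} : Set G)).index : ℚ) ≤ (((Nat.card G : ℚ) - 1) / t) ^ 2) ∧ ∃ χ : Cfsg.IrrCharacter G, (χ : G → ℂ) ≠ (fun _ => 1) ∧ (∀ g : G, ((χ : G → ℂ) g).im = 0) ∧ (Cfsg.charDegree (χ : G → ℂ) : ℚ) ≤ ((Nat.card G : ℚ) - 1) / t := by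
  classical
  letI : Fintype (IrrCharacter G) := irrFintype
  obtain ⟨ν, hν1, hνreal, hνone, hsum⟩ := exists_fs_data t ht
  -- `t ≥ 1`
  have ht1 : 1 ≤ t := by
    obtain ⟨x, hx⟩ := exists_prime_orderOf_dvd_card' 2 (even_iff_two_dvd.mp heven)
    rw [← ht]
    haveI : Nonempty {x : G // orderOf x = 2} := ⟨⟨x, hx⟩⟩
    exact Nat.card_pos
  have hg2 : 2 ≤ Nat.card G := by
    obtain ⟨m, hm⟩ := heven
    have : 0 < Nat.card G := Nat.card_pos
    omega
  set gq : ℚ := (Nat.card G : ℚ) with hgq
  set tq : ℚ := (t : ℚ) with htq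
  have htq1 : (1 : ℚ) ≤ tq := by rw [htq]; exact_mod_cast ht1
  have htq0 : (0 : ℚ) < tq := by linarith
  have hgq2 : (2 : ℚ) ≤ gq := by rw [hgq]; exact_mod_cast hg2
  set a : ℚ := gq - 1 with ha
  have ha0 : 0 < a := by linarith
  set α : ℚ := a / tq with hα
  have hα0 : 0 < α := div_pos ha0 htq0
  have hαt : α * tq = a := div_mul_cancel₀ a htq0.ne'
  -- degrees
  set d : IrrCharacter G → ℚ := fun χ => (charDegree (χ : G → ℂ) : ℚ) with hd
  have hdpos : ∀ χ, 1 ≤ d χ := by
    intro χ
    have := charDegree_pos χ.2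
    simp only [hd]
    exact_mod_cast this
  have hd1 : d (principalChar G) = 1 := by
    simp only [hd]
    have : charDegree ((principalChar G : IrrCharacter G) : G → ℂ) = 1 :=
      charDegree_natCast 1 (by simp [principalChar])
    rw [this]
    norm_num
  have hsumsq : ∑ χ : IrrCharacter G, d χ ^ 2 = gq := by
    have := sum_charDegree_sq (G := G)
    simp only [hd, hgq]
    exact_mod_cast this
  set U : Finset (IrrCharacter G) := Finset.univ.erase (principalChar G) with hU
  have hsumsq' : ∑ χ ∈ U, d χ ^ 2 = a := by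
    have := Finset.add_sum_erase Finset.univ (fun χ => d χ ^ 2) (Finset.mem_univ (principalChar G))
    rw [hsumsq, hd1] at this
    simp only [ha]
    linarith
  have hsumν : ∑ χ ∈ U, (ν χ : ℚ) * d χ = tq := by
    have h1 : ∑ χ : IrrCharacter G, (ν χ : ℚ) * d χ = 1 + tq := by
      have := congrArg (fun z : ℤ => (z : ℚ)) hsum
      simp only [hd, htq]
      push_cast at this
      exact this
    have := Finset.add_sum_erase Finset.univ (fun χ => (ν χ : ℚ) * d χ)
      (Finset.mem_univ (principalChar G))
    rw [h1, hd1, hνone] at this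
    push_cast at this
    linarith
  set R : Finset (IrrCharacter G) := U.filter (fun χ => ν χ ≠ 0) with hR
  have hRsum : tq ≤ ∑ χ ∈ R, d χ := by
    rw [← hsumν, hR, Finset.sum_filter]
    apply Finset.sum_le_sum
    intro χ _
    have hdχ := hdpos χ
    rcases hν1 χ with h | h | h
    · rw [if_pos (by rw [h]; norm_num), h]; push_cast; linarith
    · rw [if_pos (by rw [h]; norm_num), h]; push_cast; linarith
    · rw [if_neg (by rw [h]; norm_num), h]; push_cast; linarith
  have hRU : R ⊆ U := Finset.filter_subset _ _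
  have hRUsum : ∑ χ ∈ R, d χ ≤ ∑ χ ∈ U, d χ :=
    Finset.sum_le_sum_of_subset_of_nonneg hRU (fun χ _ _ => by linarith [hdpos χ])
  constructor
  · -- the class size bound
    by_contra hcon
    push Not at hcon
    -- number of irreducible characters
    set k : ℚ := (Nat.card (ConjClasses G) : ℚ) with hk
    have hUcard : (U.card : ℚ) = k - 1 := by
      rw [hU, Finset.card_erase_of_mem (Finset.mem_univ _), Finset.card_univ,
        ← Nat.card_eq_fintype_card, card_irr_eq_card_conjClasses]
      have : 1 ≤ Nat.card (ConjClasses G) := Nat.card_pos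
      rw [Nat.cast_sub this]
      simp [hk]
    -- Cauchy–Schwarz
    have hCS : tq ^ 2 ≤ (k - 1) * a := by
      have h1 : (∑ χ ∈ U, d χ) ^ 2 ≤ (U.card : ℚ) * ∑ χ ∈ U, d χ ^ 2 :=
        sq_sum_le_card_mul_sum_sq
      rw [hUcard, hsumsq'] at h1
      have h2 : tq ≤ ∑ χ ∈ U, d χ := le_trans hRsum hRUsum
      have h3 : tq ^ 2 ≤ (∑ χ ∈ U, d χ) ^ 2 := by
        apply pow_le_pow_left₀ htq0.le h2
      linarith
    -- centralizer sizes
    set c : G → ℚ := fun x => (Nat.card (Subgroup.centralizer ({x} : Set G)) : ℚ) with hc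
    have hcsum : ∑ x : G, c x = k * gq := by
      have := sum_card_centralizer (G := G)
      simp only [hc, hk, hgq]
      exact_mod_cast this
    have hc1 : c 1 = gq := by
      simp only [hc, hgq]
      have : Subgroup.centralizer ({1} : Set G) = ⊤ := by
        rw [eq_top_iff]
        intro x _
        rw [Subgroup.mem_centralizer_singleton_iff]
        simp
      rw [this, Subgroup.card_top]
    have hcsum' : ∑ x ∈ Finset.univ.erase (1 : G), c x = (k - 1) * gq := by
      have := Finset.add_sum_erase Finset.univ c (Finset.mem_univ (1 : G))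
      rw [hcsum, hc1] at this
      linarith
    have hlt : ∀ x ∈ Finset.univ.erase (1 : G), α ^ 2 * c x < gq := by
      intro x hx
      have hx1 : x ≠ 1 := (Finset.mem_erase.mp hx).1
      have h1 := hcon x hx1
      have hcpos : 0 < c x := by
        simp only [hc]
        have : 0 < Nat.card (Subgroup.centralizer ({x} : Set G)) := Nat.card_pos
        exact_mod_cast this
      have h2 : c x * ((Subgroup.centralizer ({x} : Set G)).index : ℚ) = gq := by
        simp only [hc, hgq]
        have := (Subgroup.centralizer ({x} : Set G)).card_mul_index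
        exact_mod_cast this
      calc α ^ 2 * c x = c x * α ^ 2 := mul_comm _ _
        _ < c x * ((Subgroup.centralizer ({x} : Set G)).index : ℚ) :=
            mul_lt_mul_of_pos_left h1 hcpos
        _ = gq := h2
    have hne : (Finset.univ.erase (1 : G)).Nonempty := by
      rw [← Finset.card_pos, Finset.card_erase_of_mem (Finset.mem_univ _), Finset.card_univ,
        ← Nat.card_eq_fintype_card]
      omega
    have hsumlt := Finset.sum_lt_sum_of_nonempty hne hlt
    rw [← Finset.mul_sum, hcsum', Finset.sum_const, nsmul_eq_mul,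
      Finset.card_erase_of_mem (Finset.mem_univ _), Finset.card_univ,
      ← Nat.card_eq_fintype_card] at hsumlt
    have hcardq : ((Nat.card G - 1 : ℕ) : ℚ) = a := by
      rw [Nat.cast_sub (by omega)]
      simp [ha, hgq]
    rw [hcardq] at hsumlt
    -- `α² (k-1) gq < a gq`
    have hgq0 : 0 < gq := by linarith
    have h7 : α ^ 2 * (k - 1) < a := by
      have : α ^ 2 * (k - 1) * gq < a * gq := by
        calc α ^ 2 * (k - 1) * gq = α ^ 2 * ((k - 1) * gq) := by ring
          _ < a * gq := hsumlt
      exact lt_of_mul_lt_mul_right this hgq0.le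
    have h8 : α ^ 2 * (k - 1) * tq ^ 2 < a * tq ^ 2 :=
      mul_lt_mul_of_pos_right h7 (by positivity)
    have h9 : α ^ 2 * (k - 1) * tq ^ 2 = a ^ 2 * (k - 1) := by
      rw [← hαt]; ring
    have h10 : a * tq ^ 2 ≤ a * ((k - 1) * a) := mul_le_mul_of_nonneg_left hCS ha0.le
    have h11 : a * ((k - 1) * a) = a ^ 2 * (k - 1) := by ring
    linarith
  · -- the small real character
    by_contra hcon
    push Not at hcon
    have hRlt : ∀ χ ∈ R, α * d χ < d χ ^ 2 := by
      intro χ hχ
      rw [hR, Finset.mem_filter, hU, Finset.mem_erase] at hχ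
      obtain ⟨⟨hne, -⟩, hνχ⟩ := hχ
      have h1 : (χ : G → ℂ) ≠ fun _ => 1 := by
        intro h
        apply hne
        apply Subtype.ext
        exact h
      have h2 : ∀ g : G, ((χ : G → ℂ) g).im = 0 := fun g =>
        Complex.conj_eq_iff_im.mp (hνreal χ hνχ g)
      have h3 := hcon χ h1 h2
      have h4 : α < d χ := h3
      have h5 : 0 < d χ := by linarith [hdpos χ]
      calc α * d χ < d χ * d χ := mul_lt_mul_of_pos_right h4 h5
        _ = d χ ^ 2 := (sq _).symm
    have hRne : R.Nonempty := by
      by_contra hempty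
      rw [Finset.not_nonempty_iff_eq_empty] at hempty
      rw [hempty, Finset.sum_empty] at hRsum
      linarith
    have h1 := Finset.sum_lt_sum_of_nonempty hRne hRlt
    rw [← Finset.mul_sum] at h1
    have h2 : ∑ χ ∈ R, d χ ^ 2 ≤ ∑ χ ∈ U, d χ ^ 2 :=
      Finset.sum_le_sum_of_subset_of_nonneg hRU (fun χ _ _ => by positivity)
    rw [hsumsq'] at h2
    have h3 : a ≤ α * ∑ χ ∈ R, d χ := by
      calc a = α * tq := hαt.symm
        _ ≤ α * ∑ χ ∈ R, d χ := mul_le_mul_of_nonneg_left hRsum hα0.le
    linarith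

end Cfsg.Agent.S4476
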