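import Mathlib
import Cfsg.Statements.S4477
import Cfsg.Agent.S4476
import Cfsg.Agent.Lib.Helper24.LinearTwist
import Cfsg.Agent.Lib.Helper24.FrobeniusSchur
import Cfsg.Agent.Lib.Helper24.CharIntegral
import Cfsg.Agent.Lib.Helper20.MinNoncyclic

set_option autoImplicit false
set_option linter.style.haveILetI false
open Cfsg

namespace Cfsg.Agent.S4477

open Cfsg.Agent.Helper24
open scoped ComplexConjugate

universe u

/-- The sign homomorphism of a subgroup of index two. -/
noncomputable def signHom {G : Type u} [Group G] (M : Subgroup G) (hM : M.index = 2) :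
    G →* ℂˣ := by
  classical
  exact
    { toFun := fun g => if g ∈ M then 1 else -1
      map_one' := by simp [M.one_mem]
      map_mul' := by
        intro a b
        have h := Subgroup.mul_mem_iff_of_index_two hM (a := a) (b := b)
        by_cases ha : a ∈ M <;> by_cases hb : b ∈ M <;> simp [ha, hb, h] }

theorem signHom_apply {G : Type u} [Group G] (M : Subgroup G) (hM : M.index = 2) (g : G)
    [Decidable (g ∈ M)] : signHom M hM g = if g ∈ M then 1 else -1 := by
  unfold signHom
  simp only [MonoidHom.coe_mk, OneHom.coe_mk]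
  congr

theorem signHom_sq {G : Type u} [Group G] (M : Subgroup G) (hM : M.index = 2) :
    signHom M hM ^ 2 = 1 := by
  classical
  ext g
  rw [MonoidHom.pow_apply, signHom_apply]
  by_cases hg : g ∈ M <;> simp [hg]

theorem signHom_eq_one_iff {G : Type u} [Group G] (M : Subgroup G) (hM : M.index = 2) (g : G) :
    signHom M hM g = 1 ↔ g ∈ M := by
  classical
  rw [signHom_apply]
  by_cases hg : g ∈ M
  · simp [hg]
  · simp only [hg, if_false, iff_false]
    intro h
    have := congrArg Units.val h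
    norm_num at this

/-- A linear real-valued character squares to one. -/
theorem sq_eq_one_of_linear_real {G : Type u} [Group G] [Finite G] {χ : G → ℂ}
    (hχ : IsCharacter G χ) (h1 : χ 1 = 1) (hreal : ∀ g, conj (χ g) = χ g) (g : G) :
    χ g * χ g = 1 := by
  have hinv : χ g⁻¹ = conj (χ g) := irr_inv hχ g
  rw [hreal g] at hinv
  have := char_mul_of_degree_one hχ h1 g g⁻¹
  rw [mul_inv_cancel, h1, hinv] at this
  exact this.symm

/-- The integer Frobenius–Schur data. -/
theorem exists_fs_data' {G : Type u} [Group G] [Fintype G] [Fintype (IrrCharacter G)] (t : ℕ)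
    (ht : Nat.card {x : G // orderOf x = 2} = t) :
    ∃ ν : IrrCharacter G → ℤ, (∀ χ, ν χ = 1 ∨ ν χ = -1 ∨ ν χ = 0) ∧
      (∀ χ, ν χ ≠ 0 ↔ ∀ g, conj ((χ : G → ℂ) g) = (χ : G → ℂ) g) ∧
      (∀ χ : IrrCharacter G, fsInd (χ : G → ℂ) = (ν χ : ℂ)) ∧
      ∑ χ : IrrCharacter G, ν χ * (charDegree (χ : G → ℂ) : ℤ) = 1 + t := by
  classical
  have hex : ∀ χ : IrrCharacter G, ∃ n : ℤ, (n = 1 ∨ n = -1 ∨ n = 0) ∧
      fsInd (χ : G → ℂ) = (n : ℂ) ∧ (n ≠ 0 ↔ ∀ g, conj ((χ : G → ℂ) g) = (χ : G → ℂ) g) := by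
    intro χ
    rcases fsInd_cases χ.2 with ⟨h1, h2 | h2⟩ | ⟨h1, h2⟩
    · exact ⟨1, Or.inl rfl, by rw [h2]; simp, ⟨fun _ => h1, fun _ => one_ne_zero⟩⟩
    · exact ⟨-1, Or.inr (Or.inl rfl), by rw [h2]; simp, ⟨fun _ => h1, fun _ => by norm_num⟩⟩
    · exact ⟨0, Or.inr (Or.inr rfl), by rw [h2]; simp, ⟨fun h => absurd rfl h, fun h => absurd h h1⟩⟩
  choose ν hν1 hν2 hν3 using hex
  refine ⟨ν, hν1, hν3, hν2, ?_⟩
  obtain ⟨ν', -, -, -, hsum'⟩ := Cfsg.Agent.S4476.exists_fs_data t ht
  have h := sum_fsInd_mul (G := G) (1 : G)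
  -- recompute via the same identity
  have hsq : sqrtCount (1 : G) = (1 + t : ℕ) := by
    unfold sqrtCount
    rw [Finset.sum_boole]
    congr 1
    rw [← ht, Nat.card_eq_fintype_card, Fintype.card_subtype]
    have : Finset.univ.filter (fun u : G => u * u = 1) =
        insert 1 (Finset.univ.filter (fun u : G => orderOf u = 2)) := by
      ext u
      simp only [Finset.mem_filter, Finset.mem_univ, true_and, Finset.mem_insert]
      constructor
      · intro hu
        by_cases h1 : u = 1
        · exact Or.inl h1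
        · right
          exact orderOf_eq_prime (by rw [pow_two]; exact hu) h1
      · rintro (rfl | hu)
        · simp
        · rw [← pow_two, ← hu]
          exact pow_orderOf_eq_one u
    rw [this, Finset.card_insert_of_notMem, add_comm]
    simp
  rw [hsq] at h
  have h3 : ∑ χ : IrrCharacter G, ((ν χ * (charDegree (χ : G → ℂ) : ℤ) : ℤ) : ℂ) =
      ((1 + t : ℕ) : ℂ) := by
    rw [← h]
    apply Finset.sum_congr rfl
    intro χ _
    rw [hν2 χ, irr_one_eq_charDegree χ.2]
    push_cast
    rfl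
  rw [← Int.cast_sum] at h3
  have h4 : ((∑ χ : IrrCharacter G, ν χ * (charDegree (χ : G → ℂ) : ℤ) : ℤ) : ℂ) =
      (((1 + t : ℕ) : ℤ) : ℂ) := by
    rw [h3]
    push_cast
    rfl
  have h5 := Int.cast_injective h4
  rw [h5]
  push_cast
  rfl

/-- For a real linear character the Frobenius–Schur indicator is `1`. -/
theorem fsInd_eq_one_of_linear_real {G : Type u} [Group G] [Fintype G] {χ : G → ℂ}
    (hχ : IsCharacter G χ) (h1 : χ 1 = 1) (hreal : ∀ g, conj (χ g) = χ g) : fsInd χ = 1 := by
  unfold fsInd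
  have : ∀ g : G, χ (g * g) = 1 := by
    intro g
    rw [char_mul_of_degree_one hχ h1, sq_eq_one_of_linear_real hχ h1 hreal]
  simp only [this]
  rw [Finset.sum_const, Finset.card_univ, nsmul_eq_mul, mul_one, ← Nat.card_eq_fintype_card]
  have : (Nat.card G : ℂ) ≠ 0 := by
    have : Nat.card G ≠ 0 := Nat.card_pos.ne'
    exact_mod_cast this
  exact inv_mul_cancel₀ this

/-- The count modulo `4`. -/
theorem count_mod_four {G : Type u} [Group G] [Fintype G] [Fintype (IrrCharacter G)]
    (hG : IsPGroup 2 G) (t : ℕ) (ht : Nat.card {x : G // orderOf x = 2} = t) :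
    (1 + t) % 4 =
      (Nat.card {χ : IrrCharacter G // charDegree (χ : G → ℂ) = 1 ∧
          ∀ g, conj ((χ : G → ℂ) g) = (χ : G → ℂ) g} +
        2 * Nat.card {χ : IrrCharacter G // charDegree (χ : G → ℂ) = 2 ∧
          ∀ g, conj ((χ : G → ℂ) g) = (χ : G → ℂ) g}) % 4 := by
  classical
  obtain ⟨ν, hν1, hνreal, hνfs, hsum⟩ := exists_fs_data' t ht
  obtain ⟨n, hn⟩ := IsPGroup.iff_card.mp hG
  -- termwise congruence
  have hterm : ∀ χ : IrrCharacter G, ν χ * (charDegree (χ : G → ℂ) : ℤ) ≡
      ((if charDegree (χ : G → ℂ) = 1 ∧ ∀ g, conj ((χ : G → ℂ) g) = (χ : G → ℂ) g then 1 else 0) +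
        2 * (if charDegree (χ : G → ℂ) = 2 ∧ ∀ g, conj ((χ : G → ℂ) g) = (χ : G → ℂ) g
          then 1 else 0) : ℤ) [ZMOD 4] := by
    intro χ
    have hdvd : charDegree (χ : G → ℂ) ∣ 2 ^ n := by
      rw [← hn]
      exact charDegree_dvd_card χ.2
    obtain ⟨j, -, hj⟩ := (Nat.dvd_prime_pow Nat.prime_two).mp hdvd
    split_ifs with hA hB hB
    · exfalso
      have := hA.1
      have := hB.1
      omega
    · -- degree 1, real
      have h1 : (χ : G → ℂ) 1 = 1 := by rw [irr_one_eq_charDegree χ.2, hA.1]; simp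
      have hfs := fsInd_eq_one_of_linear_real (isCharacter_of_isIrrCharacter χ.2) h1 hA.2
      rw [hνfs χ] at hfs
      have hν : ν χ = 1 := by exact_mod_cast hfs
      rw [hA.1, hν]
      norm_num
    · -- degree 2, real
      have hν0 : ν χ ≠ 0 := (hνreal χ).mpr hB.2
      rw [hB.1]
      rcases hν1 χ with h | h | h
      · rw [h]; norm_num
      · rw [h]; decide
      · exact absurd h hν0
    · by_cases hreal : ∀ g, conj ((χ : G → ℂ) g) = (χ : G → ℂ) g
      · have hne1 : charDegree (χ : G → ℂ) ≠ 1 := fun h => hA ⟨h, hreal⟩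
        have hne2 : charDegree (χ : G → ℂ) ≠ 2 := fun h => hB ⟨h, hreal⟩
        have hj2 : 2 ≤ j := by
          by_contra hlt
          push Not at hlt
          interval_cases j
          · exact hne1 (by rw [hj, pow_zero])
          · exact hne2 (by rw [hj, pow_one])
        have h4 : (4 : ℤ) ∣ (charDegree (χ : G → ℂ) : ℤ) := by
          rw [hj]
          obtain ⟨i, rfl⟩ := Nat.exists_eq_add_of_le hj2
          rw [pow_add]
          push_cast
          exact Dvd.intro _ rfl
        norm_num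
        exact (Int.modEq_zero_iff_dvd.mpr (Dvd.dvd.mul_left h4 _))
      · have hν0 : ν χ = 0 := by
          by_contra h
          exact hreal ((hνreal χ).mp h)
        rw [hν0]
        norm_num
  have hsum2 := Int.ModEq.sum (s := Finset.univ) (fun χ _ => hterm χ)
  rw [hsum] at hsum2
  rw [Finset.sum_add_distrib, ← Finset.mul_sum, Finset.sum_boole, Finset.sum_boole] at hsum2
  rw [Nat.card_eq_fintype_card, Nat.card_eq_fintype_card, Fintype.card_subtype,
    Fintype.card_subtype]
  have h5 : ((1 + t : ℕ) : ℤ) ≡ (((Finset.univ.filter (fun χ : IrrCharacter G =>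
      charDegree (χ : G → ℂ) = 1 ∧ ∀ g, conj ((χ : G → ℂ) g) = (χ : G → ℂ) g)).card +
      2 * (Finset.univ.filter (fun χ : IrrCharacter G => charDegree (χ : G → ℂ) = 2 ∧
        ∀ g, conj ((χ : G → ℂ) g) = (χ : G → ℂ) g)).card : ℕ) : ℤ) [ZMOD (4 : ℕ)] := by
    push_cast
    exact hsum2
  exact (Int.natCast_modEq_iff.mp h5)

/-- A unit of `ℂ` squaring to one is real. -/
theorem conj_eq_of_sq_eq_one (z : ℂˣ) (h : z ^ 2 = 1) : conj (z : ℂ) = (z : ℂ) := by
  have h1 : (z : ℂ) ^ 2 = 1 := by
    rw [← Units.val_pow_eq_pow_val, h, Units.val_one]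
  rcases sq_eq_one_iff.mp h1 with h2 | h2 <;> rw [h2] <;> simp

/-- The subgroup of linear characters of exponent dividing `k`. -/
noncomputable def lam (G : Type u) [Group G] (k : ℕ) : Subgroup (G →* ℂˣ) :=
  (powMonoidHom k : (G →* ℂˣ) →* (G →* ℂˣ)).ker

theorem mem_lam {G : Type u} [Group G] (k : ℕ) (f : G →* ℂˣ) : f ∈ lam G k ↔ f ^ k = 1 := by
  unfold lam
  rw [MonoidHom.mem_ker, powMonoidHom_apply]

theorem apply_sq_eq_one {G : Type u} [Group G] {f : G →* ℂˣ} (hf : f ∈ lam G 2) (g : G) :
    (f g) ^ 2 = 1 := by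
  have := (mem_lam 2 f).mp hf
  rw [← MonoidHom.pow_apply, this, MonoidHom.one_apply]

/-- Real linear characters correspond to homomorphisms of exponent two. -/
theorem card_real_linear {G : Type u} [Group G] [Finite G] :
    Nat.card {χ : IrrCharacter G // charDegree (χ : G → ℂ) = 1 ∧
      ∀ g, conj ((χ : G → ℂ) g) = (χ : G → ℂ) g} = Nat.card (lam G 2) := by
  symm
  have hdeg : ∀ f : G →* ℂˣ, charDegree ((linIrr f : IrrCharacter G) : G → ℂ) = 1 := by
    intro f
    rw [charDegree_eq_one_iff (linIrr f).2, linIrr_apply, map_one, Units.val_one]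
  let φ : lam G 2 → {χ : IrrCharacter G // charDegree (χ : G → ℂ) = 1 ∧
      ∀ g, conj ((χ : G → ℂ) g) = (χ : G → ℂ) g} := fun f =>
    ⟨linIrr f.1, hdeg f.1, fun g => by
      rw [linIrr_apply]
      exact conj_eq_of_sq_eq_one _ (apply_sq_eq_one f.2 g)⟩
  apply Nat.card_eq_of_bijective φ
  constructor
  · intro f₁ f₂ h
    apply Subtype.ext
    apply linIrr_injective
    exact congrArg Subtype.val h
  · rintro ⟨χ, hd, hreal⟩
    have h1 : (χ : G → ℂ) 1 = 1 := (charDegree_eq_one_iff χ.2).mp hd
    have hc := isCharacter_of_isIrrCharacter χ.2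
    refine ⟨⟨linHom hc h1, ?_⟩, ?_⟩
    · rw [mem_lam]
      ext g
      rw [MonoidHom.pow_apply, Units.val_pow_eq_pow_val, linHom_apply, MonoidHom.one_apply,
        Units.val_one, pow_two]
      exact sq_eq_one_of_linear_real hc h1 hreal g
    · apply Subtype.ext
      apply Subtype.ext
      funext g
      rfl

/-- Twisting by a linear character of exponent two preserves real characters of a given degree. -/
theorem real_twist_of_sq {G : Type u} [Group G] {f : G →* ℂˣ} (hf : f ∈ lam G 2)
    (χ : IrrCharacter G) (d : ℕ)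
    (hχ : charDegree (χ : G → ℂ) = d ∧ ∀ g, conj ((χ : G → ℂ) g) = (χ : G → ℂ) g) :
    charDegree (((twistAction (G := G)).toSMul.smul f χ : IrrCharacter G) : G → ℂ) = d ∧
      ∀ g, conj ((((twistAction (G := G)).toSMul.smul f χ : IrrCharacter G) : G → ℂ) g) =
        (((twistAction (G := G)).toSMul.smul f χ : IrrCharacter G) : G → ℂ) g := by
  refine ⟨by rw [charDegree_twist]; exact hχ.1, fun g => ?_⟩
  rw [twist_apply, map_mul, hχ.2 g, conj_eq_of_sq_eq_one _ (apply_sq_eq_one hf g)]

/-- An element of order at least four in a non-elementary abelian `2`-group of linear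
characters. -/
theorem exists_order_four {G : Type u} [Group G] (hΛ : IsPGroup 2 (G →* ℂˣ))
    (hne : lam G 2 ≠ ⊤) : ∃ μ : G →* ℂˣ, μ ^ 4 = 1 ∧ μ ^ 2 ≠ 1 := by
  classical
  obtain ⟨f, hf⟩ : ∃ f : G →* ℂˣ, f ∉ lam G 2 := by
    by_contra hcon
    push Not at hcon
    exact hne (eq_top_iff.mpr fun f _ => hcon f)
  rw [mem_lam] at hf
  have hex : ∃ k : ℕ, f ^ (2 ^ k) = 1 := hΛ f
  set k := Nat.find hex with hk
  have hk1 : f ^ (2 ^ k) = 1 := Nat.find_spec hex
  have hk2 : 2 ≤ k := by
    by_contra hlt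
    push Not at hlt
    interval_cases k
    · apply hf
      rw [pow_zero, pow_one] at hk1
      rw [hk1]
      exact one_pow (M := G →* ℂˣ) 2
    · apply hf
      rw [pow_one] at hk1
      exact hk1
  obtain ⟨j, hj⟩ := Nat.exists_eq_add_of_le hk2
  refine ⟨f ^ (2 ^ j), ?_, ?_⟩
  · rw [← pow_mul]
    have : 2 ^ j * 4 = 2 ^ k := by rw [hj, pow_add, mul_comm]; norm_num
    rw [this, hk1]
  · rw [← pow_mul]
    have : 2 ^ j * 2 = 2 ^ (j + 1) := by rw [pow_succ]
    rw [this]
    have hlt : j + 1 < k := by omega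
    exact Nat.find_min hex hlt

/-- Let G be a finite 2-group whose number of involutions is congruent to 1 modulo 4. Then G is cyclic or its commutator subgroup has index 4. -/
theorem result {G : Type*} [Group G] [Finite G] (hG : IsPGroup 2 G) (ht : Nat.card {x : G // orderOf x = 2} % 4 = 1) : IsCyclic G ∨ (commutator G).index = 4 := by
  classical
  letI : Fintype G := Fintype.ofFinite G
  letI : Fintype (IrrCharacter G) := irrFintype
  haveI := finite_monoidHom_units (G := G)
  haveI : Fact (Nat.Prime 2) := ⟨Nat.prime_two⟩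
  obtain ⟨n, hn⟩ := IsPGroup.iff_card.mp hG
  have hcount := count_mod_four hG _ (rfl : Nat.card {x : G // orderOf x = 2} = _)
  rw [card_real_linear] at hcount
  set S := Nat.card {χ : IrrCharacter G // charDegree (χ : G → ℂ) = 2 ∧
    ∀ g, conj ((χ : G → ℂ) g) = (χ : G → ℂ) g} with hS
  -- `Λ` is a `2`-group
  have hΛ : IsPGroup 2 (G →* ℂˣ) := by
    have hdvd : Nat.card (G →* ℂˣ) ∣ 2 ^ n := by
      rw [card_monoidHom_units, ← hn]
      exact Subgroup.index_dvd_card _
    obtain ⟨m, -, hm⟩ := (Nat.dvd_prime_pow Nat.prime_two).mp hdvd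
    exact IsPGroup.of_card hm
  have hΛ₂ : IsPGroup 2 (lam G 2) := hΛ.to_subgroup _
  obtain ⟨r, hr⟩ := IsPGroup.iff_card.mp hΛ₂
  by_cases hr2 : r ≤ 1
  · left
    rcases Nat.eq_zero_or_pos n with hn0 | hnpos
    · have h1 : Nat.card G = 1 := by rw [hn, hn0, pow_zero]
      haveI : Subsingleton G := (Nat.card_eq_one_iff_unique.mp h1).1
      exact isCyclic_of_subsingleton
    · obtain ⟨k, rfl⟩ := Nat.exists_eq_succ_of_ne_zero hnpos.ne'
      apply Cfsg.Agent.Helper20.isCyclic_of_unique_maximal 2 k hn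
      intro M₁ M₂ h1 h2
      by_contra hne
      have hidx : ∀ M : Subgroup G, Nat.card M = 2 ^ k → M.index = 2 := by
        intro M hM
        have := M.card_mul_index
        rw [hM, hn, pow_succ] at this
        exact Nat.eq_of_mul_eq_mul_left (by positivity) this
      have hi1 := hidx M₁ h1
      have hi2 := hidx M₂ h2
      have hmem : ∀ (M : Subgroup G) (hM : M.index = 2), signHom M hM ∈ lam G 2 := by
        intro M hM
        rw [mem_lam]
        exact signHom_sq M hM
      have hne1 : ∀ (M : Subgroup G) (hM : M.index = 2), signHom M hM ≠ 1 := by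
        intro M hM h
        have htop : M = ⊤ := by
          rw [eq_top_iff]
          intro g _
          rw [← signHom_eq_one_iff M hM, h, MonoidHom.one_apply]
        rw [htop, Subgroup.index_top] at hM
        omega
      have hne12 : signHom M₁ hi1 ≠ signHom M₂ hi2 := by
        intro h
        apply hne
        ext g
        rw [← signHom_eq_one_iff M₁ hi1, ← signHom_eq_one_iff M₂ hi2, h]
      letI : Fintype (lam G 2) := Fintype.ofFinite _
      let a : lam G 2 := ⟨signHom M₁ hi1, hmem M₁ hi1⟩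
      let b : lam G 2 := ⟨signHom M₂ hi2, hmem M₂ hi2⟩
      have hab : a ≠ b := fun h => hne12 (congrArg Subtype.val h)
      have ha1 : a ≠ 1 := fun h => hne1 M₁ hi1 (congrArg Subtype.val h)
      have hb1 : b ≠ 1 := fun h => hne1 M₂ hi2 (congrArg Subtype.val h)
      have hcard3 : ({a, b, 1} : Finset (lam G 2)).card = 3 :=
        Finset.card_eq_three.mpr ⟨a, b, 1, hab, ha1, hb1, rfl⟩
      have hle := Finset.card_le_univ ({a, b, 1} : Finset (lam G 2))
      rw [hcard3, ← Nat.card_eq_fintype_card, hr] at hle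
      interval_cases r <;> omega
  · right
    push Not at hr2
    have h4 : 4 ∣ Nat.card (lam G 2) := by
      rw [hr]
      exact pow_dvd_pow 2 hr2
    have hSodd : Odd S := by
      rw [Nat.odd_iff]
      obtain ⟨c, hc⟩ := h4
      rw [hc] at hcount
      omega
    let P : IrrCharacter G → Prop := fun χ => charDegree (χ : G → ℂ) = 2 ∧
      ∀ g, conj ((χ : G → ℂ) g) = (χ : G → ℂ) g
    have hPcard : (Finset.univ.filter P).card = S := by
      rw [hS, Nat.card_eq_fintype_card, Fintype.card_subtype]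
    have hPodd : Odd (Finset.univ.filter P).card := by rw [hPcard]; exact hSodd
    have hPstab : ∀ f ∈ lam G 2, ∀ χ, P χ → P ((twistAction (G := G)).toSMul.smul f χ) :=
      fun f hf χ hχ => real_twist_of_sq hf χ 2 hχ
    obtain ⟨χ₀, hχ₀P, hχ₀fix⟩ := exists_twist_fixed_of_odd (lam G 2) hΛ₂ P hPstab hPodd
    have hle := card_le_sq_of_forall_twist_eq χ₀ (lam G 2) hχ₀fix
    rw [hχ₀P.1] at hle
    have hcard4 : Nat.card (lam G 2) = 4 :=
      le_antisymm hle (Nat.le_of_dvd Nat.card_pos h4)
    have htop : lam G 2 = ⊤ := by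
      by_contra hne
      obtain ⟨μ, hμ4, hμ2⟩ := exists_order_four hΛ hne
      let P' : IrrCharacter G → Prop := fun χ => P χ ∧
        ∀ f ∈ lam G 2, (twistAction (G := G)).toSMul.smul f χ = χ
      have hP'odd : Odd (Finset.univ.filter P').card :=
        odd_card_filter_twist_fixed (lam G 2) hΛ₂ P hPstab hPodd
      have hP'stab : ∀ f ∈ lam G 4, ∀ χ, P' χ →
          P' ((twistAction (G := G)).toSMul.smul f χ) := by
        intro f hf χ hχ
        have hf2 : f ^ 2 ∈ lam G 2 := by
          rw [mem_lam, ← pow_mul]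
          exact (mem_lam 4 f).mp hf
        refine ⟨⟨by rw [charDegree_twist]; exact hχ.1.1, fun g => ?_⟩, fun f' hf' => ?_⟩
        · rw [twist_apply]
          by_cases h0 : (χ : G → ℂ) g = 0
          · rw [h0, mul_zero, map_zero]
          · have hfg : (f ^ 2) g = 1 := by
              by_contra h
              exact h0 (vanish_of_twist_eq (hχ.2 _ hf2) h)
            rw [MonoidHom.pow_apply] at hfg
            rw [map_mul, hχ.1.2 g, conj_eq_of_sq_eq_one _ hfg]
        · apply Subtype.ext
          funext g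
          rw [twist_apply, twist_apply]
          have := congrFun (congrArg Subtype.val (hχ.2 f' hf')) g
          rw [twist_apply] at this
          rw [mul_left_comm, this]
      obtain ⟨χ₁, hχ₁P, hχ₁fix⟩ :=
        exists_twist_fixed_of_odd (lam G 4) (hΛ.to_subgroup _) P' hP'stab hP'odd
      have hle4 := card_le_sq_of_forall_twist_eq χ₁ (lam G 4) hχ₁fix
      rw [hχ₁P.1.1] at hle4
      have hle24 : lam G 2 ≤ lam G 4 := by
        intro f hf
        rw [mem_lam] at hf ⊢
        have : f ^ 4 = (f ^ 2) ^ 2 := by rw [← pow_mul]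
        rw [this, hf]
        exact one_pow (M := G →* ℂˣ) 2
      have heq : lam G 2 = lam G 4 := by
        apply Subgroup.eq_of_le_of_card_ge hle24
        rw [hcard4]
        exact hle4
      have hμmem : μ ∈ lam G 2 := by
        rw [heq, mem_lam]
        exact hμ4
      exact hμ2 ((mem_lam 2 μ).mp hμmem)
    rw [← card_monoidHom_units, ← Subgroup.card_top (G := G →* ℂˣ), ← htop, hcard4]

end Cfsg.Agent.S4477
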