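import Mathlib
import Cfsg.Statements.S4058
import Cfsg.Agent.S4477
import Cfsg.Agent.S0012
import Cfsg.Agent.Lib.Helper16.OrbitDvd

set_option autoImplicit false
set_option linter.style.haveILetI false
open Cfsg

namespace Cfsg.Agent.S4058

open Cfsg.Agent.Helper24 Cfsg.Agent.S4477
open scoped ComplexConjugate

universe u

/-- The number of solutions of `x ^ 2 = 1` is one more than the number of involutions. -/
theorem card_sq_eq_one {G : Type u} [Group G] [Finite G] :
    Nat.card {x : G // x ^ 2 = 1} = 1 + Nat.card {x : G // orderOf x = 2} := by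
  classical
  letI : Fintype G := Fintype.ofFinite G
  rw [Nat.card_eq_fintype_card, Nat.card_eq_fintype_card, Fintype.card_subtype,
    Fintype.card_subtype]
  have : Finset.univ.filter (fun u : G => u ^ 2 = 1) =
      insert 1 (Finset.univ.filter (fun u : G => orderOf u = 2)) := by
    ext u
    simp only [Finset.mem_filter, Finset.mem_univ, true_and, Finset.mem_insert]
    constructor
    · intro hu
      by_cases h1 : u = 1
      · exact Or.inl h1
      · right
        have : Fact (Nat.Prime 2) := ⟨Nat.prime_two⟩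
        exact orderOf_eq_prime hu h1
    · rintro (rfl | hu)
      · simp
      · rw [← hu]
        exact pow_orderOf_eq_one u
  rw [this, Finset.card_insert_of_notMem, add_comm]
  simp

/-- Lower bound for the number of real linear characters of a `2`-group. -/
theorem card_frattini_quotient_le {G : Type u} [Group G] [Finite G] (hG : IsPGroup 2 G) :
    Nat.card (G ⧸ frattini G) ≤ Nat.card (lam G 2) := by
  classical
  have : Fact (Nat.Prime 2) := ⟨Nat.prime_two⟩
  letI : Fintype G := Fintype.ofFinite G
  letI : Fintype (IrrCharacter G) := irrFintype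
  haveI := finite_monoidHom_units (G := G)
  obtain ⟨hcomm, hsq⟩ := Cfsg.Agent.S0012.result 2 hG
  -- the quotient is abelian
  have hab : commutator (G ⧸ frattini G) = ⊥ := by
    rw [eq_bot_iff, commutator_def]
    have hsurj : Subgroup.map (QuotientGroup.mk' (frattini G)) ⊤ = ⊤ :=
      Subgroup.map_top_of_surjective _ (QuotientGroup.mk'_surjective _)
    rw [← hsurj, ← Subgroup.map_commutator, ← commutator_def]
    calc Subgroup.map (QuotientGroup.mk' (frattini G)) (commutator G)
        ≤ Subgroup.map (QuotientGroup.mk' (frattini G)) (frattini G) := Subgroup.map_mono hcomm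
      _ = ⊥ := by rw [QuotientGroup.map_mk'_self]
  have hcardE : Nat.card ((G ⧸ frattini G) →* ℂˣ) = Nat.card (G ⧸ frattini G) := by
    rw [card_monoidHom_units, hab, Subgroup.index_bot]
  rw [← hcardE]
  let φ : ((G ⧸ frattini G) →* ℂˣ) → lam G 2 := fun f =>
    ⟨f.comp (QuotientGroup.mk' (frattini G)), by
      rw [mem_lam]
      ext g
      rw [MonoidHom.pow_apply, MonoidHom.one_apply, MonoidHom.comp_apply, ← map_pow,
        QuotientGroup.mk'_apply, ← QuotientGroup.mk_pow,
        (QuotientGroup.eq_one_iff _).mpr (hsq g), map_one]⟩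
  apply Nat.card_le_card_of_injective φ
  intro f₁ f₂ h
  have h1 : f₁.comp (QuotientGroup.mk' (frattini G)) = f₂.comp (QuotientGroup.mk' (frattini G)) :=
    congrArg Subtype.val h
  ext x
  have := DFunLike.congr_fun h1 x
  simp only [MonoidHom.comp_apply, QuotientGroup.mk'_apply] at this
  simp only [MonoidHom.comp_apply, QuotientGroup.mk'_apply, this]

/-- Twisting by a real linear character does not change the Frobenius–Schur indicator. -/
theorem fsInd_twist {G : Type u} [Group G] [Fintype G] {f : G →* ℂˣ} (hf : f ∈ lam G 2)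
    (χ : IrrCharacter G) :
    fsInd (((twistAction (G := G)).toSMul.smul f χ : IrrCharacter G) : G → ℂ) =
      fsInd (χ : G → ℂ) := by
  unfold fsInd
  congr 1
  apply Finset.sum_congr rfl
  intro g _
  rw [twist_apply, map_mul, ← pow_two, apply_sq_eq_one hf g, Units.val_one, one_mul]

/-- Let G be a finite 2-group with #(G/Φ(G)) ≥ 2^(2k+1). Then the number of elements x of G with x² = 1 is divisible by 2^(k+1). -/
theorem result {G : Type*} [Group G] [Finite G] (hG : IsPGroup 2 G) (k : ℕ)
    (hgen : 2 ^ (2 * k + 1) ≤ Nat.card (G ⧸ frattini G)) :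
    2 ^ (k + 1) ∣ Nat.card {x : G // x ^ 2 = 1} := by
  classical
  letI : Fintype G := Fintype.ofFinite G
  letI : Fintype (IrrCharacter G) := irrFintype
  haveI := finite_monoidHom_units (G := G)
  haveI : Fact (Nat.Prime 2) := ⟨Nat.prime_two⟩
  obtain ⟨n, hn⟩ := IsPGroup.iff_card.mp hG
  -- `Λ` is a `2`-group
  have hΛ : IsPGroup 2 (G →* ℂˣ) := by
    have hdvd : Nat.card (G →* ℂˣ) ∣ 2 ^ n := by
      rw [card_monoidHom_units, ← hn]
      exact Subgroup.index_dvd_card _
    obtain ⟨m, -, hm⟩ := (Nat.dvd_prime_pow Nat.prime_two).mp hdvd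
    exact IsPGroup.of_card hm
  have hΓ : IsPGroup 2 (lam G 2) := hΛ.to_subgroup _
  obtain ⟨d, hd⟩ := IsPGroup.iff_card.mp hΓ
  have hd1 : 2 * k + 1 ≤ d := by
    have h1 := hgen.trans (card_frattini_quotient_le hG)
    rw [hd] at h1
    exact (Nat.pow_le_pow_iff_right (by norm_num)).mp h1
  rw [card_sq_eq_one]
  obtain ⟨ν, hν1, hνreal, hνfs, hsum⟩ :=
    exists_fs_data' (G := G) _ (rfl : Nat.card {x : G // orderOf x = 2} = _)
  -- the action of the real linear characters
  letI : MulAction (G →* ℂˣ) (IrrCharacter G) := twistAction (G := G)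
  have hsmul : ∀ (f : lam G 2) (χ : IrrCharacter G),
      f • χ = (twistAction (G := G)).toSMul.smul (f : G →* ℂˣ) χ := fun f χ => rfl
  have hνinv : ∀ (f : lam G 2) (χ : IrrCharacter G), ν (f • χ) = ν χ := by
    intro f χ
    have h1 := fsInd_twist f.2 χ
    rw [← hsmul, hνfs, hνfs] at h1
    exact_mod_cast h1
  have hdeginv : ∀ (f : lam G 2) (χ : IrrCharacter G),
      charDegree ((f • χ : IrrCharacter G) : G → ℂ) = charDegree (χ : G → ℂ) := by
    intro f χ
    rw [hsmul, charDegree_twist]
  have key : ((2 : ℤ) ^ (k + 1)) ∣ ∑ χ : IrrCharacter G, ν χ * (charDegree (χ : G → ℂ) : ℤ) := by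
    apply Helper16.dvd_sum_of_orbit (Γ := lam G 2)
    · intro f χ
      rw [hνinv, hdeginv]
    · intro χ
      rcases eq_or_ne (ν χ) 0 with h0 | h0
      · rw [h0, zero_mul, mul_zero]
        exact dvd_zero _
      -- degree
      have hdvd : charDegree (χ : G → ℂ) ∣ 2 ^ n := by
        rw [← hn]
        exact charDegree_dvd_card χ.2
      obtain ⟨a, -, ha⟩ := (Nat.dvd_prime_pow Nat.prime_two).mp hdvd
      -- stabilizer
      set St := MulAction.stabilizer (lam G 2) χ with hSt
      have hSt2 : IsPGroup 2 St := hΓ.to_subgroup _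
      obtain ⟨s, hs⟩ := IsPGroup.iff_card.mp hSt2
      have hle : Nat.card St ≤ charDegree (χ : G → ℂ) ^ 2 := by
        have h1 := card_le_sq_of_forall_twist_eq χ (St.map (lam G 2).subtype) (by
          rintro f ⟨f', hf', rfl⟩
          exact hf')
        rwa [Subgroup.card_map_of_injective (Subgroup.subtype_injective _)] at h1
      rw [hs, ha, ← pow_mul] at hle
      have hs2 : s ≤ a * 2 := (Nat.pow_le_pow_iff_right (by norm_num)).mp hle
      have horb : Nat.card (MulAction.orbit (lam G 2) χ) * Nat.card St = Nat.card (lam G 2) := by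
        rw [hSt, Nat.card_coe_set_eq, ← MulAction.index_stabilizer, mul_comm]
        exact Subgroup.card_mul_index _
      rw [hs, hd] at horb
      have hsd : s ≤ d := by
        have : 2 ^ s ∣ 2 ^ d := Dvd.intro_left _ horb
        exact (Nat.pow_dvd_pow_iff_le_right (by norm_num)).mp this
      have horb2 : Nat.card (MulAction.orbit (lam G 2) χ) = 2 ^ (d - s) := by
        have h2 : 2 ^ (d - s) * 2 ^ s = 2 ^ d := by rw [← pow_add, Nat.sub_add_cancel hsd]
        rw [← h2] at horb
        exact Nat.eq_of_mul_eq_mul_right (by positivity) horb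
      rw [horb2, ha]
      have hexp : k + 1 ≤ (d - s) + a := by omega
      have hdv : ((2 : ℤ) ^ (k + 1)) ∣ (2 : ℤ) ^ ((d - s) + a) := pow_dvd_pow 2 hexp
      have e1 : (((2 ^ (d - s) : ℕ) : ℤ)) * (ν χ * ((2 ^ a : ℕ) : ℤ)) =
          ν χ * (2 : ℤ) ^ ((d - s) + a) := by
        push_cast
        rw [pow_add]
        ring
      rw [e1]
      exact Dvd.dvd.mul_left hdv _
  rw [hsum] at key
  exact_mod_cast key

end Cfsg.Agent.S4058
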