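import Mathlib
import Cfsg.Statements.S0790
import Cfsg.Agent.Lib.Helper17.SpinorHyp
import Cfsg.Agent.Lib.Helper13.MatQuad

set_option autoImplicit false
open Cfsg

namespace Cfsg.Agent.S0790

open Cfsg.Agent.Helper13 Cfsg.Agent.Helper17.Spinor

/-- −1 ∈ Ω⁺_2m(q) iff q^m ≡ 1 (mod 4), for q odd and m ≥ 1 (so that in the other case SO⁺_2m(q) = 2 × Ω⁺_2m(q)). -/
theorem result {F : Type*} [Field F] [Fintype F] {q : ℕ} (hF : Fintype.card F = q) (hodd : Odd q) (m : ℕ) (hm : 1 ≤ m) : (∃ g : ↥(Cfsg.isometryGroup F (Cfsg.quadFormPlus m F)), g ∈ Cfsg.Omega F (Cfsg.quadFormPlus m F) ∧ ((g : Matrix.GeneralLinearGroup (Fin m ⊕ Fin m) F) : Matrix (Fin m ⊕ Fin m) (Fin m ⊕ Fin m) F) = -1) ↔ q ^ m % 4 = 1 := by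
  classical
  have hQeq : Cfsg.quadFormPlus m F = ⇑(matQ (plusMat m F)) := by
    funext v
    rw [matQ_plusMat]; rfl
  rw [hQeq]
  have hnd : (QuadraticMap.polarBilin (matQ (plusMat m F))).Nondegenerate := by
    apply matQ_nondeg
    rw [plusMat_add_transpose, hypBlock_det]
    exact pow_ne_zero _ (neg_ne_zero.2 one_ne_zero)
  have hdiag : (Matrix.diagonal (fun k : Fin m ⊕ Fin m =>
      if (Sum.elim (fun j : Fin m => (j : ℕ)) (fun j : Fin m => (j : ℕ)) k) < m then (-1 : F) else 1))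
      = -1 := by
    ext a b
    rcases a with a | a <;> rcases b with b | b <;>
      simp [Matrix.diagonal_apply, Matrix.one_apply, Matrix.neg_apply] <;> split_ifs <;> simp
  rw [← hdiag]
  refine exists_mem_Omega_diagonal_iff (matQ (plusMat m F)) hF hodd hnd
    (Sum.elim (fun j : Fin m => (j : ℕ)) (fun j : Fin m => (j : ℕ))) m ?_
  intro j hjm
  refine ⟨Sum.inl ⟨j, hjm⟩, Sum.inr ⟨j, hjm⟩, ⟨?_, ?_, ?_, ?_, ?_, ?_⟩, ?_⟩
  · simp
  · rw [matQ_single]; simp [plusMat]
  · rw [matQ_single]; simp [plusMat]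
  · rw [polar_matQ_single]; simp [plusMat]
  · intro k hk1 hk2
    rw [polar_matQ_single]
    rcases k with k | k
    · simp [plusMat]
    · have : (⟨j, hjm⟩ : Fin m) ≠ k := by
        intro h; apply hk2; rw [h]
      simp [plusMat, Matrix.one_apply, this]
  · intro k hk1 hk2
    rw [polar_matQ_single]
    rcases k with k | k
    · have : k ≠ (⟨j, hjm⟩ : Fin m) := by
        intro h; apply hk1; rw [h]
      simp [plusMat, Matrix.one_apply, this]
    · simp [plusMat]
  · intro k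
    rcases k with k | k
    · simp [Fin.ext_iff]
    · simp [Fin.ext_iff]

end Cfsg.Agent.S0790
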