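import Mathlib
import Cfsg.Statements.S2621
import Cfsg.Agent.Lib.Helper13.QuadFinite
import Cfsg.Agent.Lib.Helper13.MatQuad

set_option autoImplicit false
open scoped Pointwise
open Cfsg

namespace Cfsg.Agent.S2621

open Module QuadraticMap Cfsg.Agent.Helper13

theorem result {F : Type*} [Field F] [Fintype F] {q : ℕ} (hF : Fintype.card F = q) (hq : Odd q) {m : ℕ} (hm : 1 ≤ m) (a c : F) (hac : ∀ z₁ z₂ : F, z₁ ^ 2 + a * z₁ * z₂ + c * z₂ ^ 2 = 0 → z₁ = 0 ∧ z₂ = 0) {ι : Type*} [Fintype ι] [DecidableEq ι] (b : Module.Basis ι F ((Fin (m - 1) ⊕ Fin (m - 1)) ⊕ Fin 2 → F)) : IsSquare (Matrix.of (fun i j : ι => QuadraticMap.polar (Cfsg.quadFormMinus (m - 1) F a c) (b i) (b j))).det ↔ ¬ Even (m * (q - 1) / 2) := by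
  classical
  have hQ : Cfsg.quadFormMinus (m - 1) F a c = ⇑(matQ (minusMat (m - 1) a c)) := by
    funext v
    rw [matQ_minusMat]; rfl
  rw [hQ]
  set std := Pi.basisFun F ((Fin (m - 1) ⊕ Fin (m - 1)) ⊕ Fin 2) with hstd
  set e := b.indexEquiv std with he
  rw [← gram_det_reindex (matQ (minusMat (m - 1) a c)) b e,
    gram_det_basis (matQ (minusMat (m - 1) a c)) std (b.reindex e),
    gram_matQ, minusMat_det]
  have hP : (std.toMatrix (b.reindex e)).det ≠ 0 := by
    have := Module.Basis.invertibleToMatrix std (b.reindex e)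
    exact (Matrix.isUnit_det_of_invertible _).ne_zero
  rw [isSquare_mul_sq_iff _ _ hP]
  -- 2 ≠ 0
  obtain ⟨k, hk⟩ := hq
  have h2 : (2 : F) ≠ 0 := by
    intro h2
    have hchar : ringChar F = 2 := CharP.ringChar_of_prime_eq_zero Nat.prime_two (by exact_mod_cast h2)
    have := FiniteField.even_card_of_char_two hchar
    rw [hF, hk] at this
    omega
  -- a² - 4c is a nonsquare
  have hns : ¬ IsSquare (a ^ 2 - 4 * c) := by
    rintro ⟨r, hr⟩
    have := hac ((-a + r) / 2) 1 (by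
      field_simp
      linear_combination (-1 : F) * hr)
    exact one_ne_zero this.2
  have hν0 : a ^ 2 - 4 * c ≠ 0 := by
    intro h; apply hns; rw [h]; exact ⟨0, by ring⟩
  have hrew : (-1 : F) ^ (m - 1) * (4 * c - a ^ 2) = (-1) ^ m * (a ^ 2 - 4 * c) := by
    obtain ⟨j, rfl⟩ : ∃ j, m = j + 1 := ⟨m - 1, by omega⟩
    rw [Nat.add_sub_cancel, pow_succ]; ring
  rw [hrew, isSquare_mul_nonsquare (pow_ne_zero _ (neg_ne_zero.mpr one_ne_zero)) hns, not_iff_not]
  -- IsSquare ((-1)^m) ↔ Even (m * (q-1) / 2)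
  have hdiv : m * (q - 1) / 2 = m * k := by
    rw [hk]
    have : m * (2 * k + 1 - 1) = 2 * (m * k) := by
      rw [Nat.add_sub_cancel]; ring
    rw [this, Nat.mul_div_cancel_left _ (by norm_num : 0 < 2)]
  rw [hdiv, Nat.even_mul]
  rcases Nat.even_or_odd m with hme | hmo
  · have : ((-1 : F)) ^ m = 1 := hme.neg_one_pow
    rw [this]
    exact ⟨fun _ => Or.inl hme, fun _ => ⟨1, by ring⟩⟩
  · have : ((-1 : F)) ^ m = -1 := hmo.neg_one_pow
    rw [this, FiniteField.isSquare_neg_one_iff, hF, hk]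
    constructor
    · intro h
      right
      rcases Nat.even_or_odd k with hke | hko
      · exact hke
      · exfalso
        obtain ⟨j, hj⟩ := hko
        apply h
        rw [hj]; omega
    · rintro (h | h)
      · exact absurd h (Nat.not_even_iff_odd.mpr hmo)
      · obtain ⟨j, hj⟩ := h
        rw [hj]; omega

end Cfsg.Agent.S2621
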