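import Mathlib
import Cfsg.Statements.S0791
import Cfsg.Agent.Lib.Helper17.SpinorDisc2
import Cfsg.Agent.Lib.Helper13.MatQuad
import Cfsg.Agent.S2621

set_option autoImplicit false
open Cfsg

namespace Cfsg.Agent.S0791

open Cfsg.Agent.Helper13 Cfsg.Agent.Helper17.Spinor

/-- −1 ∈ Ω⁻_2m(q) iff q^m ≡ −1 (mod 4), for q odd and m ≥ 1; for the minus-type form quadFormMinus (m−1) with anisotropic binary part. -/
theorem result {F : Type*} [Field F] [Fintype F] {q : ℕ} (hF : Fintype.card F = q) (hodd : Odd q) (m : ℕ) (hm : 1 ≤ m) (a b : F) (hab : ∀ z₁ z₂ : F, z₁ ^ 2 + a * z₁ * z₂ + b * z₂ ^ 2 = 0 → z₁ = 0 ∧ z₂ = 0) : (∃ g : ↥(Cfsg.isometryGroup F (Cfsg.quadFormMinus (m - 1) F a b)), g ∈ Cfsg.Omega F (Cfsg.quadFormMinus (m - 1) F a b) ∧ ((g : Matrix.GeneralLinearGroup ((Fin (m - 1) ⊕ Fin (m - 1)) ⊕ Fin 2) F) : Matrix ((Fin (m - 1) ⊕ Fin (m - 1)) ⊕ Fin 2) ((Fin (m - 1) ⊕ Fin (m - 1)) ⊕ Fin 2) F) = -1) ↔ q ^ m % 4 = 3 :=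 by
  classical
  have h2 : (2 : F) ≠ 0 := by
    have hc : ringChar F ≠ 2 := by
      intro h
      have := FiniteField.even_card_of_char_two h
      rw [hF] at this
      have := Nat.odd_iff.1 hodd
      omega
    exact Ring.two_ne_zero hc
  have hdisc := Cfsg.Agent.S2621.result hF hodd hm a b hab
    (Pi.basisFun F ((Fin (m - 1) ⊕ Fin (m - 1)) ⊕ Fin 2))
  have hQeq : Cfsg.quadFormMinus (m - 1) F a b = ⇑(matQ (minusMat (m - 1) a b)) := by
    funext v
    rw [matQ_minusMat]; rfl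
  rw [hQeq] at hdisc ⊢
  have hnd : (QuadraticMap.polarBilin (matQ (minusMat (m - 1) a b))).Nondegenerate := by
    apply matQ_nondeg
    rw [minusMat_det]
    refine mul_ne_zero (pow_ne_zero _ (neg_ne_zero.2 one_ne_zero)) ?_
    intro h0
    have := hab (-a) 2 (by linear_combination h0)
    exact h2 this.2
  have hcard : Even (Fintype.card ((Fin (m - 1) ⊕ Fin (m - 1)) ⊕ Fin 2)) := by
    simp only [Fintype.card_sum, Fintype.card_fin]
    exact ⟨m - 1 + 1, by ring⟩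
  rw [exists_mem_Omega_neg_one_iff' h2 hcard (matQ (minusMat (m - 1) a b)) hnd]
  have hstd : (Matrix.of fun i j : (Fin (m - 1) ⊕ Fin (m - 1)) ⊕ Fin 2 =>
      QuadraticMap.polar (⇑(matQ (minusMat (m - 1) a b))) (Pi.single i 1) (Pi.single j 1))
      = Matrix.of (fun i j => QuadraticMap.polar (⇑(matQ (minusMat (m - 1) a b)))
        (Pi.basisFun F ((Fin (m - 1) ⊕ Fin (m - 1)) ⊕ Fin 2) i)
        (Pi.basisFun F ((Fin (m - 1) ⊕ Fin (m - 1)) ⊕ Fin 2) j)) := by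
    ext i j
    simp [Pi.basisFun_apply]
  rw [hstd, hdisc]
  -- number theory
  obtain ⟨k, hk⟩ := hodd
  have hdiv : m * (q - 1) / 2 = m * k := by
    rw [hk]
    have : m * (2 * k + 1 - 1) = 2 * (m * k) := by
      rw [Nat.add_sub_cancel]; ring
    rw [this, Nat.mul_div_cancel_left _ (by norm_num : 0 < 2)]
  rw [hdiv, Nat.not_even_iff_odd, Nat.odd_mul]
  have hq4 : q % 4 = 1 ∨ q % 4 = 3 := by omega
  have hsq : q ^ 2 % 4 = 1 := by
    rw [Nat.pow_mod]
    rcases hq4 with h | h <;> rw [h]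
  constructor
  · rintro ⟨⟨j, hj⟩, ⟨l, hl⟩⟩
    have hq3 : q % 4 = 3 := by omega
    rw [hj, pow_succ, pow_mul, Nat.mul_mod, Nat.pow_mod, hsq, one_pow, hq3]; rfl
  · intro h
    rcases Nat.even_or_odd m with hme | hmo
    · exfalso
      obtain ⟨j, hj⟩ := hme
      rw [hj, ← two_mul, pow_mul, Nat.pow_mod, hsq, one_pow] at h
      norm_num at h
    · refine ⟨hmo, ?_⟩
      obtain ⟨j, hj⟩ := hmo
      rw [hj, pow_succ, pow_mul, Nat.mul_mod, Nat.pow_mod, hsq, one_pow] at h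
      have hq3 : q % 4 = 3 := by
        rcases hq4 with h' | h'
        · rw [h'] at h; norm_num at h
        · exact h'
      rw [Nat.odd_iff]
      omega

end Cfsg.Agent.S0791
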