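import Mathlib
import Cfsg.Statements.S0426
import Cfsg.Agent.Lib.Helper17.SteinerAut
import Cfsg.Agent.S0418

set_option autoImplicit false
open Cfsg

namespace Cfsg.Agent.S0426

/-- Aut of an S(4, 5, 11) is simple of order 7920 and sharply 4-transitive on points. -/
theorem result {α : Type*} [Fintype α] [DecidableEq α] (hα : Fintype.card α = 11) {B : Set (Finset α)} (hB : Cfsg.IsSteinerSystem 4 5 B) : Cfsg.IsM11 (Cfsg.setSystemAut B) ∧ MulAction.IsMultiplyPretransitive (Cfsg.setSystemAut B) α 4 ∧ ∀ x : Fin 4 ↪ α, MulAction.stabilizer (Cfsg.setSystemAut B) x = ⊥ := by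
  obtain ⟨htr, hsh⟩ := Cfsg.Agent.Helper17.SteinerCover.aut_sharp (B := B)
    (Cfsg.Agent.Helper27.Witt.famO 11 Cfsg.Agent.Helper17.SteinerCover.DL11)
    (fun i : Fin 4 => (⟨10 - i.val, by omega⟩ : Fin 11))
    (by
      intro x
      obtain ⟨e, he, himg⟩ := Cfsg.Agent.Helper17.SteinerCover.exists_label11 hB hα x
      exact ⟨e, fun i => Fin.ext (he i), himg⟩)
    (by
      intro σ hσ hfix
      apply Cfsg.Agent.Helper17.SteinerCover.rigid11 σ hσ
      intro i hi
      have h10 : i.val ≤ 10 := by omega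
      have := hfix ⟨10 - i.val, by omega⟩
      have hc : (⟨10 - (⟨10 - i.val, by omega⟩ : Fin 4).val, by omega⟩ : Fin 11) = i := by
        apply Fin.ext
        show 10 - (10 - i.val) = i.val
        omega
      rw [hc] at this
      exact this)
  haveI := htr
  exact ⟨Cfsg.Agent.S0418.result hα (Cfsg.setSystemAut B) hsh, htr, hsh⟩

end Cfsg.Agent.S0426
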