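import Mathlib
import Cfsg.Statements.S2617

set_option autoImplicit false
open Cfsg

namespace Cfsg.Agent.S2617

open Finset in
/-- adding a hyperbolic plane: the zero count satisfies `Z' + |V| = q (Z + |V|)` -/
theorem card_zeros_add_hyp {F V : Type*} [Field F] [Fintype F] [DecidableEq F] [Fintype V]
    (Q : V → F) :
    (univ.filter (fun t : V × F × F => Q t.1 + t.2.1 * t.2.2 = 0)).card + Fintype.card V
      = Fintype.card F * ((univ.filter (fun v : V => Q v = 0)).card + Fintype.card V) := by
  classical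
  rw [Finset.card_filter, Finset.card_filter, Fintype.sum_prod_type]
  simp_rw [Fintype.sum_prod_type]
  have key : ∀ v : V, (∑ x : F, ∑ y : F, if Q v + x * y = 0 then 1 else 0) + 1
      = Fintype.card F * ((if Q v = 0 then 1 else 0) + 1) := by
    intro v
    have h0 : (∑ y : F, if Q v + 0 * y = 0 then 1 else 0) = Fintype.card F * (if Q v = 0 then 1 else 0) := by
      simp only [zero_mul, add_zero]
      by_cases h : Q v = 0
      · simp [h]
      · simp [h]
    have h1 : ∀ x ∈ (univ : Finset F).erase 0, (∑ y : F, if Q v + x * y = 0 then 1 else 0) = 1 := by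
      intro x hx
      have hx0 : x ≠ 0 := Finset.ne_of_mem_erase hx
      have : ∀ y : F, (Q v + x * y = 0) ↔ (y = - Q v / x) := by
        intro y
        constructor
        · intro h
          field_simp
          linear_combination h
        · intro h
          rw [h]; field_simp; ring
      simp_rw [this]
      simp
    have h2 := Finset.add_sum_erase (univ : Finset F)
      (fun x => ∑ y : F, if Q v + x * y = 0 then 1 else 0) (Finset.mem_univ 0)
    rw [← h2, h0, Finset.sum_congr rfl h1, Finset.sum_const, Finset.card_erase_of_mem (Finset.mem_univ 0),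
      Finset.card_univ, smul_eq_mul, mul_one]
    have hq : 1 ≤ Fintype.card F := Fintype.card_pos
    by_cases h : Q v = 0
    · simp only [h, if_true]
      zify [hq]; ring
    · simp only [h, if_false]
      zify [hq]; ring
  have hsum : (∑ v : V, ((∑ x : F, ∑ y : F, if Q v + x * y = 0 then 1 else 0) + 1))
      = ∑ v : V, Fintype.card F * ((if Q v = 0 then 1 else 0) + 1) :=
    Finset.sum_congr rfl (fun v _ => key v)
  rw [Finset.sum_add_distrib, ← Finset.mul_sum, Finset.sum_add_distrib] at hsum
  simpa using hsum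

/-- splitting off the first hyperbolic pair (plus type) -/
def splitPlus (F : Type*) (k : ℕ) :
    (Fin (k + 1) ⊕ Fin (k + 1) → F) ≃ (Fin k ⊕ Fin k → F) × F × F where
  toFun v := (fun j => v (Sum.map Fin.succ Fin.succ j), v (Sum.inl 0), v (Sum.inr 0))
  invFun t := Sum.elim (Fin.cons t.2.1 (fun i => t.1 (Sum.inl i)))
    (Fin.cons t.2.2 (fun i => t.1 (Sum.inr i)))
  left_inv v := by
    funext j
    rcases j with i | i
    · refine Fin.cases ?_ (fun i => ?_) i <;> simp
    · refine Fin.cases ?_ (fun i => ?_) i <;> simp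
  right_inv t := by
    obtain ⟨u, x, y⟩ := t
    simp only [Prod.mk.injEq]
    refine ⟨?_, ?_, ?_⟩
    · funext j; rcases j with i | i <;> simp
    · simp
    · simp

/-- splitting off the first hyperbolic pair (minus type) -/
def splitMinus (F : Type*) (k : ℕ) :
    ((Fin (k + 1) ⊕ Fin (k + 1)) ⊕ Fin 2 → F) ≃ ((Fin k ⊕ Fin k) ⊕ Fin 2 → F) × F × F where
  toFun w := (fun j => w (Sum.map (Sum.map Fin.succ Fin.succ) id j), w (Sum.inl (Sum.inl 0)),
    w (Sum.inl (Sum.inr 0)))
  invFun t := Sum.elim (Sum.elim (Fin.cons t.2.1 (fun i => t.1 (Sum.inl (Sum.inl i))))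
    (Fin.cons t.2.2 (fun i => t.1 (Sum.inl (Sum.inr i))))) (fun b => t.1 (Sum.inr b))
  left_inv w := by
    funext j
    rcases j with (i | i) | b
    · refine Fin.cases ?_ (fun i => ?_) i <;> simp
    · refine Fin.cases ?_ (fun i => ?_) i <;> simp
    · simp
  right_inv t := by
    obtain ⟨u, x, y⟩ := t
    simp only [Prod.mk.injEq]
    refine ⟨?_, ?_, ?_⟩
    · funext j; rcases j with (i | i) | b <;> simp
    · simp
    · simp

theorem quadFormPlus_split (F : Type*) [Field F] (k : ℕ) (v : Fin (k + 1) ⊕ Fin (k + 1) → F) :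
    Cfsg.quadFormPlus (k + 1) F v
      = Cfsg.quadFormPlus k F (splitPlus F k v).1 + (splitPlus F k v).2.1 * (splitPlus F k v).2.2 := by
  unfold Cfsg.quadFormPlus
  rw [Fin.sum_univ_succ]
  simp [splitPlus]
  ring

theorem quadFormMinus_split (F : Type*) [Field F] (k : ℕ) (a b : F)
    (w : (Fin (k + 1) ⊕ Fin (k + 1)) ⊕ Fin 2 → F) :
    Cfsg.quadFormMinus (k + 1) F a b w
      = Cfsg.quadFormMinus k F a b (splitMinus F k w).1
        + (splitMinus F k w).2.1 * (splitMinus F k w).2.2 := by
  unfold Cfsg.quadFormMinus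
  rw [Fin.sum_univ_succ]
  simp [splitMinus]
  ring

section counts
variable (F : Type*) [Field F] [Fintype F] [DecidableEq F]

/-- number of singular vectors, plus type -/
def zP (k : ℕ) : ℕ :=
  (Finset.univ.filter (fun v : Fin k ⊕ Fin k → F => Cfsg.quadFormPlus k F v = 0)).card

/-- number of singular vectors, minus type -/
def zM (k : ℕ) (a b : F) : ℕ :=
  (Finset.univ.filter (fun w : (Fin k ⊕ Fin k) ⊕ Fin 2 → F => Cfsg.quadFormMinus k F a b w = 0)).card

theorem zP_succ (k : ℕ) :
    zP F (k + 1) + Fintype.card F ^ (k + k)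
      = Fintype.card F * (zP F k + Fintype.card F ^ (k + k)) := by
  have h := card_zeros_add_hyp (F := F) (fun v : Fin k ⊕ Fin k → F => Cfsg.quadFormPlus k F v)
  have hc : Fintype.card (Fin k ⊕ Fin k → F) = Fintype.card F ^ (k + k) := by
    simp
  rw [hc] at h
  have he : zP F (k + 1) = (Finset.univ.filter (fun t : (Fin k ⊕ Fin k → F) × F × F =>
      Cfsg.quadFormPlus k F t.1 + t.2.1 * t.2.2 = 0)).card := by
    unfold zP
    apply Finset.card_equiv (splitPlus F k)
    intro v
    simp only [Finset.mem_filter, Finset.mem_univ, true_and]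
    rw [quadFormPlus_split]
  rw [he]
  exact h

theorem zM_succ (k : ℕ) (a b : F) :
    zM F (k + 1) a b + Fintype.card F ^ (k + k + 2)
      = Fintype.card F * (zM F k a b + Fintype.card F ^ (k + k + 2)) := by
  have h := card_zeros_add_hyp (F := F)
    (fun w : (Fin k ⊕ Fin k) ⊕ Fin 2 → F => Cfsg.quadFormMinus k F a b w)
  have hc : Fintype.card ((Fin k ⊕ Fin k) ⊕ Fin 2 → F) = Fintype.card F ^ (k + k + 2) := by
    simp
  rw [hc] at h
  have he : zM F (k + 1) a b = (Finset.univ.filter (fun t : ((Fin k ⊕ Fin k) ⊕ Fin 2 → F) × F × F =>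
      Cfsg.quadFormMinus k F a b t.1 + t.2.1 * t.2.2 = 0)).card := by
    unfold zM
    apply Finset.card_equiv (splitMinus F k)
    intro v
    simp only [Finset.mem_filter, Finset.mem_univ, true_and]
    rw [quadFormMinus_split]
  rw [he]
  exact h

theorem zP_zero : zP F 0 = 1 := by
  unfold zP
  rw [Finset.card_eq_one]
  refine ⟨fun _ => 0, ?_⟩
  ext v
  simp only [Finset.mem_filter, Finset.mem_univ, true_and, Finset.mem_singleton]
  constructor
  · intro _
    funext j
    rcases j with i | i <;> exact i.elim0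
  · intro _
    simp [Cfsg.quadFormPlus]

theorem zM_zero (ζ : F) (hζ : ∀ t : F, t ^ 2 + t + ζ ≠ 0) : zM F 0 1 ζ = 1 := by
  unfold zM
  rw [Finset.card_eq_one]
  refine ⟨fun _ => 0, ?_⟩
  ext w
  simp only [Finset.mem_filter, Finset.mem_univ, true_and, Finset.mem_singleton]
  constructor
  · intro h
    simp only [Cfsg.quadFormMinus, Finset.univ_eq_empty, Finset.sum_empty, zero_add, one_mul] at h
    have h1 : w (Sum.inr 1) = 0 := by
      by_contra hne
      apply hζ (w (Sum.inr 0) / w (Sum.inr 1))
      field_simp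
      linear_combination h
    rw [h1] at h
    have h0 : w (Sum.inr 0) = 0 := by
      have : w (Sum.inr 0) ^ 2 = 0 := by linear_combination h
      exact pow_eq_zero_iff (by norm_num) |>.1 this
    funext j
    rcases j with (i | i) | b
    · exact i.elim0
    · exact i.elim0
    · fin_cases b
      · exact h0
      · exact h1
  · intro h
    rw [h]
    simp [Cfsg.quadFormMinus]

theorem zM_lt_zP (ζ : F) (hζ : ∀ t : F, t ^ 2 + t + ζ ≠ 0) (k : ℕ) :
    zM F k 1 ζ < zP F (k + 1) := by
  have hq : 2 ≤ Fintype.card F := Fintype.one_lt_card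
  induction k with
  | zero =>
    have h1 := zP_succ F 0
    rw [zP_zero, zM_zero F ζ hζ] at *
    simp only [add_zero, pow_zero] at h1
    nlinarith
  | succ k ih =>
    have h1 := zP_succ F (k + 1)
    have h2 := zM_succ F k 1 ζ
    have e : k + 1 + (k + 1) = k + k + 2 := by ring
    rw [e] at h1
    nlinarith

end counts

/-- The two standard quadratic forms of even dimension 2m over a finite field are not isometric: there is no linear isomorphism carrying the elliptic form Σ_(i<m−1) x_i y_i + z₁² + z₁z₂ + ζ z₂² (t² + t + ζ without roots) to the hyperbolic form Σ_(i<m) x_i y_i (they have different Witt index). -/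
theorem result {F : Type*} [Field F] [Finite F] {m : ℕ} (hm : 1 ≤ m) (ζ : F) (hζ : ∀ t : F, t ^ 2 + t + ζ ≠ 0) (g : (Fin m ⊕ Fin m → F) ≃ₗ[F] ((Fin (m - 1) ⊕ Fin (m - 1)) ⊕ Fin 2 → F)) : ¬ (∀ v : Fin m ⊕ Fin m → F, Cfsg.quadFormMinus (m - 1) F 1 ζ (g v) = Cfsg.quadFormPlus m F v) := by
  classical
  haveI := Fintype.ofFinite F
  obtain ⟨k, rfl⟩ : ∃ k, m = k + 1 := ⟨m - 1, by omega⟩
  intro hiso
  have hlt := zM_lt_zP F ζ hζ k
  have heq : zP F (k + 1) = zM F k 1 ζ := by
    unfold zP zM
    apply Finset.card_equiv g.toEquiv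
    intro v
    simp only [Finset.mem_filter, Finset.mem_univ, true_and]
    have := hiso v
    constructor
    · intro h
      rw [← h, ← this]
      rfl
    · intro h
      rw [← this]
      exact h
  omega

end Cfsg.Agent.S2617
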