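import Mathlib
import Cfsg.Statements.S0762

set_option autoImplicit false
open Cfsg

namespace Cfsg.Agent.S0762

open QuadraticMap

/-- In characteristic two over a finite field, a quadratic form on a space of dimension at least 3 vanishes on some non-zero vector. -/
theorem result {F V : Type*} [Field F] [Finite F] [CharP F 2] [AddCommGroup V] [Module F V] [FiniteDimensional F V] (Q : QuadraticForm F V) (h3 : 3 ≤ Module.finrank F V) : ∃ v : V, v ≠ 0 ∧ Q v = 0 := by
  have hnt : Nontrivial V := Module.nontrivial_of_finrank_pos (R := F) (by omega)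
  obtain ⟨u, hu⟩ := exists_ne (0 : V)
  by_cases hQu : Q u = 0
  · exact ⟨u, hu, hQu⟩
  set f : V →ₗ[F] F := QuadraticMap.polarBilin Q u with hf
  have hker : 2 ≤ Module.finrank F (LinearMap.ker f) := by
    have h1 := LinearMap.finrank_range_add_finrank_ker f
    have h2 : Module.finrank F (LinearMap.range f) ≤ 1 := by
      have := Submodule.finrank_le (LinearMap.range f)
      rwa [Module.finrank_self] at this
    omega
  have hnle : ¬ LinearMap.ker f ≤ Submodule.span F {u} := by
    intro hle
    have := Submodule.finrank_mono hle
    rw [finrank_span_singleton hu] at this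
    omega
  obtain ⟨x, hxk, hxs⟩ := SetLike.not_le_iff_exists.1 hnle
  have hux : polar ⇑Q u x = 0 := by
    have : f x = 0 := hxk
    exact this
  have hchar : ringChar F = 2 := ringChar.eq F 2
  obtain ⟨a, ha⟩ := FiniteField.isSquare_of_char_two hchar (Q x / Q u)
  refine ⟨a • u + x, ?_, ?_⟩
  · intro h0
    apply hxs
    have : x = (-a) • u := by
      rw [neg_smul]
      exact eq_neg_of_add_eq_zero_right h0
    rw [this]
    exact Submodule.smul_mem _ _ (Submodule.subset_span rfl)
  · have h1 : Q (a • u + x) = Q (a • u) + Q x + polar ⇑Q (a • u) x := by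
      unfold polar; ring
    rw [h1, QuadraticMap.map_smul, polar_smul_left, hux, smul_zero, add_zero, smul_eq_mul, ← ha]
    have h2 : (2 : F) = 0 := CharTwo.two_eq_zero
    field_simp
    linear_combination Q x * h2

end Cfsg.Agent.S0762
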