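import Mathlib
import Cfsg.Statements.S2421
import Cfsg.Agent.Lib.Helper17.UnipotentGL

set_option autoImplicit false
open scoped MatrixGroups
open Cfsg

namespace Cfsg.Agent.S2421

/-- Irreducible characters of `GL_n(q)` indexed by partitions: for `ν` a partition of `n` written with `n` non-decreasing parts `ν_0 ≤ ⋯ ≤ ν_{n−1}` (zeros allowed; positions counted from 0) and `λ_i = ν_i + i`, the alternating sum over permutations `κ` of `{0, …, n−1}` of `sign κ` times the permutation character on partial flags of type `λ − κ` (terms with a negative entry omitted) is an irreducible complex character of `GL_n(q)`. For `ν = (1, …, 1)` this is the Steinberg character. -/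
theorem result {F : Type*} [Field F] [Fintype F] {n : ℕ} (ν : Fin n → ℕ) (hmono : Monotone ν) (hsum : ∑ i, ν i = n) :
    Cfsg.IsIrrCharacter (GL (Fin n) F) (Cfsg.unipotentCharacterGL n F ν) := by
  classical
  haveI : Fintype (GL (Fin n) F) := Fintype.ofFinite _
  have hg := Cfsg.Agent.Helper17.UGL.isGenChar_unipotent (F := F) ν
  have hn : Cfsg.classInner (Cfsg.unipotentCharacterGL n F ν) (Cfsg.unipotentCharacterGL n F ν) = 1 := by
    rw [Cfsg.Agent.Helper17.UGL.classInner_unipotent ν ν hmono hsum hmono hsum, if_pos rfl]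
  rcases Cfsg.Agent.Helper8.genChar_norm_one hg hn with h | h
  · exact h
  · exfalso
    obtain ⟨m, _, hm⟩ := Cfsg.Agent.Helper24.irr_one_eq h
    obtain ⟨r, hr, hr1⟩ := Cfsg.Agent.Helper17.UGL.unipotent_one_pos (F := F) ν hmono hsum
    rw [Pi.neg_apply, hr1] at hm
    have h2 : -r = (m : ℝ) := by exact_mod_cast hm
    have h3 : (0 : ℝ) ≤ (m : ℝ) := Nat.cast_nonneg m
    linarith

end Cfsg.Agent.S2421
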