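import Mathlib
import Cfsg.Statements.S2167
import Cfsg.Agent.Lib.Helper11.AltForm

set_option autoImplicit false
open Cfsg

namespace Cfsg.Agent.S2167

open Matrix Module

variable {F : Type*} [Field F] {m : ℕ}


theorem symp_self (v : Fin m ⊕ Fin m → F) : Cfsg.sympForm m F v v = 0 := by
  unfold Cfsg.sympForm Matrix.J
  rw [Matrix.fromBlocks_mulVec]
  simp only [dotProduct, Fintype.sum_sum_type, Sum.elim_inl, Sum.elim_inr, Matrix.zero_mulVec,
    Matrix.neg_mulVec, Matrix.one_mulVec, Pi.neg_apply,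
    Function.comp_apply, zero_add, add_zero]
  rw [← Finset.sum_add_distrib]
  apply Finset.sum_eq_zero
  intro i _
  ring

theorem symp_add_left (u u' v : Fin m ⊕ Fin m → F) :
    Cfsg.sympForm m F (u + u') v = Cfsg.sympForm m F u v + Cfsg.sympForm m F u' v := by
  unfold Cfsg.sympForm; rw [add_dotProduct]

theorem symp_add_right (u v v' : Fin m ⊕ Fin m → F) :
    Cfsg.sympForm m F u (v + v') = Cfsg.sympForm m F u v + Cfsg.sympForm m F u v' := by
  unfold Cfsg.sympForm; rw [Matrix.mulVec_add, dotProduct_add]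

theorem symp_smul_left (c : F) (u v : Fin m ⊕ Fin m → F) :
    Cfsg.sympForm m F (c • u) v = c * Cfsg.sympForm m F u v := by
  unfold Cfsg.sympForm; rw [smul_dotProduct, smul_eq_mul]

theorem symp_smul_right (c : F) (u v : Fin m ⊕ Fin m → F) :
    Cfsg.sympForm m F u (c • v) = c * Cfsg.sympForm m F u v := by
  unfold Cfsg.sympForm; rw [Matrix.mulVec_smul, dotProduct_smul, smul_eq_mul]

theorem symp_sub_right (u v v' : Fin m ⊕ Fin m → F) :
    Cfsg.sympForm m F u (v - v') = Cfsg.sympForm m F u v - Cfsg.sympForm m F u v' := by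
  unfold Cfsg.sympForm; rw [Matrix.mulVec_sub, dotProduct_sub]

/-- skew-symmetry -/
theorem symp_swap (u v : Fin m ⊕ Fin m → F) :
    Cfsg.sympForm m F u v = - Cfsg.sympForm m F v u := by
  have h := symp_self (F := F) (m := m) (u + v)
  rw [symp_add_left, symp_add_right, symp_add_right, symp_self, symp_self] at h
  linear_combination h

theorem symp_invariant (A : Matrix (Fin m ⊕ Fin m) (Fin m ⊕ Fin m) F)
    (hA : A ∈ Matrix.symplecticGroup (Fin m) F) (u v : Fin m ⊕ Fin m → F) :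
    Cfsg.sympForm m F (A *ᵥ u) (A *ᵥ v) = Cfsg.sympForm m F u v := by
  have hA' : Aᵀ * Matrix.J (Fin m) F * A = Matrix.J (Fin m) F := SymplecticGroup.mem_iff'.mp hA
  unfold Cfsg.sympForm
  rw [← Matrix.vecMul_transpose, ← Matrix.dotProduct_mulVec, Matrix.mulVec_mulVec, Matrix.mulVec_mulVec,
    hA']

/-- the quadratic-looking map `v ↦ f(v, A v)` -/
def phi (A : Matrix (Fin m ⊕ Fin m) (Fin m ⊕ Fin m) F) (v : Fin m ⊕ Fin m → F) : F :=
  Cfsg.sympForm m F v (A *ᵥ v)

theorem phi_add (A : Matrix (Fin m ⊕ Fin m) (Fin m ⊕ Fin m) F)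
    (hA : A ∈ Matrix.symplecticGroup (Fin m) F) (hAA : A * A = 1) (u v : Fin m ⊕ Fin m → F) :
    phi A (u + v) = phi A u + phi A v := by
  unfold phi
  rw [Matrix.mulVec_add, symp_add_left, symp_add_right, symp_add_right]
  have h1 : Cfsg.sympForm m F v (A *ᵥ u) = - Cfsg.sympForm m F u (A *ᵥ v) := by
    rw [← symp_invariant A hA v (A *ᵥ u), Matrix.mulVec_mulVec, hAA, Matrix.one_mulVec, symp_swap]
  rw [h1]; ring

theorem phi_smul (A : Matrix (Fin m ⊕ Fin m) (Fin m ⊕ Fin m) F) (c : F) (v : Fin m ⊕ Fin m → F) :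
    phi A (c • v) = c * c * phi A v := by
  unfold phi
  rw [Matrix.mulVec_smul, symp_smul_left, symp_smul_right]; ring

/-- the additive map -/
def phiHom (A : Matrix (Fin m ⊕ Fin m) (Fin m ⊕ Fin m) F)
    (hA : A ∈ Matrix.symplecticGroup (Fin m) F) (hAA : A * A = 1) : (Fin m ⊕ Fin m → F) →+ F where
  toFun := phi A
  map_zero' := by unfold phi; simp [Cfsg.sympForm]
  map_add' := phi_add A hA hAA

/-- the kernel as a subspace -/
def kerSub (A : Matrix (Fin m ⊕ Fin m) (Fin m ⊕ Fin m) F)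
    (hA : A ∈ Matrix.symplecticGroup (Fin m) F) (hAA : A * A = 1) : Submodule F (Fin m ⊕ Fin m → F) where
  carrier := {v | phi A v = 0}
  add_mem' {u v} hu hv := by
    simp only [Set.mem_ofPred_eq] at hu hv ⊢
    rw [phi_add A hA hAA, hu, hv, add_zero]
  zero_mem' := by
    simp only [Set.mem_ofPred_eq]
    unfold phi; simp [Cfsg.sympForm]
  smul_mem' c v hv := by
    simp only [Set.mem_ofPred_eq] at hv ⊢
    rw [phi_smul, hv, mul_zero]

theorem card_claim [Fintype F] (A : Matrix (Fin m ⊕ Fin m) (Fin m ⊕ Fin m) F)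
    (hA : A ∈ Matrix.symplecticGroup (Fin m) F) (hAA : A * A = 1) (hm : 1 ≤ m) :
    Nat.card {v : Fin m ⊕ Fin m → F // Cfsg.sympForm m F v (A *ᵥ v) = 0} = Fintype.card F ^ (2 * m) ∨
    Nat.card {v : Fin m ⊕ Fin m → F // Cfsg.sympForm m F v (A *ᵥ v) = 0} * Fintype.card F = Fintype.card F ^ (2 * m) := by
  set q := Fintype.card F with hq
  have hq2 : 2 ≤ q := Fintype.one_lt_card
  set K := kerSub A hA hAA with hK
  have hcardK : Nat.card {v : Fin m ⊕ Fin m → F // Cfsg.sympForm m F v (A *ᵥ v) = 0} = Nat.card K := rfl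
  rw [hcardK]
  have hKpow : Nat.card K = q ^ finrank F K := by
    rw [Module.natCard_eq_pow_finrank (K := F) (V := K), Nat.card_eq_fintype_card]
  set k := finrank F K with hk
  have hVcard : Nat.card (Fin m ⊕ Fin m → F) = q ^ (2 * m) := by
    rw [Nat.card_eq_fintype_card, Fintype.card_fun, Fintype.card_sum, Fintype.card_fin, two_mul]
  have hkle : k ≤ 2 * m := by
    have := Submodule.finrank_le K
    rw [Module.finrank_fintype_fun_eq_card, Fintype.card_sum, Fintype.card_fin] at this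
    omega
  -- index of kernel
  set f := phiHom A hA hAA with hf
  have hker : (f.ker : Set (Fin m ⊕ Fin m → F)) = (K : Set (Fin m ⊕ Fin m → F)) := by
    ext v
    simp only [SetLike.mem_coe, AddMonoidHom.mem_ker]
    rfl
  have hcardker : Nat.card f.ker = Nat.card K := by
    apply Nat.card_congr
    exact Equiv.setCongr hker
  have hmul : Nat.card f.ker * f.ker.index = Nat.card (Fin m ⊕ Fin m → F) := AddSubgroup.card_mul_index _
  have hidx : f.ker.index = Nat.card f.range := AddSubgroup.index_ker f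
  have hrange : Nat.card f.range ≤ q := by
    rw [hq, ← Nat.card_eq_fintype_card]
    exact Nat.card_le_card_of_injective _ Subtype.val_injective
  rw [hidx, hcardker, hKpow, hVcard] at hmul
  have hle : q ^ (2 * m) ≤ q ^ (k + 1) := by
    rw [← hmul, pow_succ]
    exact Nat.mul_le_mul_left _ hrange
  have hle' : 2 * m ≤ k + 1 := (Nat.pow_le_pow_iff_right hq2).mp hle
  rw [hKpow]
  rcases Nat.lt_or_ge k (2 * m) with hlt | hge
  · right
    have : k + 1 = 2 * m := by omega
    rw [← this, pow_succ]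
  · left
    have : k = 2 * m := by omega
    rw [this]

theorem even_claim (A : Matrix (Fin m ⊕ Fin m) (Fin m ⊕ Fin m) F)
    (h : ∀ v : Fin m ⊕ Fin m → F, Cfsg.sympForm m F v (A *ᵥ v) = 0) : Even (A - 1).rank := by
  set S := Matrix.J (Fin m) F * (A - 1) with hS
  have hrank : S.rank = (A - 1).rank :=
    Matrix.rank_mul_eq_right_of_isUnit_det _ _ (Matrix.isUnit_det_J (Fin m) F)
  rw [← hrank]
  apply Cfsg.Agent.Helper11.even_rank_of_alternating
  intro v
  have : v ⬝ᵥ S *ᵥ v = Cfsg.sympForm m F v (A *ᵥ v) - Cfsg.sympForm m F v v := by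
    rw [← symp_sub_right]
    unfold Cfsg.sympForm
    rw [hS, ← Matrix.mulVec_mulVec, Matrix.sub_mulVec, Matrix.one_mulVec]
  rw [this, h v, symp_self, sub_zero]

/-- For an involution t of Sp_{2m}(F), m ≥ 2, F finite of characteristic 2: {v : f(v, tv) = 0} is a subspace of codimension ≤ 1, and if it is everything then rank(t − 1) is even. -/
theorem result {F : Type*} [Field F] [Fintype F] [CharP F 2] {m : ℕ} (hm : 2 ≤ m) (a : ↥(Matrix.symplecticGroup (Fin m) F)) (ha : orderOf a = 2) :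
    (Nat.card {v : Fin m ⊕ Fin m → F // Cfsg.sympForm m F v (Matrix.mulVec ((a : ↥(Matrix.symplecticGroup (Fin m) F)) : Matrix (Fin m ⊕ Fin m) (Fin m ⊕ Fin m) F) v) = 0} = Fintype.card F ^ (2 * m) ∨ Nat.card {v : Fin m ⊕ Fin m → F // Cfsg.sympForm m F v (Matrix.mulVec ((a : ↥(Matrix.symplecticGroup (Fin m) F)) : Matrix (Fin m ⊕ Fin m) (Fin m ⊕ Fin m) F) v) = 0} * Fintype.card F = Fintype.card F ^ (2 * m)) ∧
    ((∀ v : Fin m ⊕ Fin m → F, Cfsg.sympForm m F v (Matrix.mulVec ((a : ↥(Matrix.symplecticGroup (Fin m) F)) : Matrix (Fin m ⊕ Fin m) (Fin m ⊕ Fin m) F) v) = 0) → Even (((a : ↥(Matrix.symplecticGroup (Fin m) F)) : Matrix (Fin m ⊕ Fin m) (Fin m ⊕ Fin m) F) - 1).rank) := by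
  have hAA : (a : Matrix (Fin m ⊕ Fin m) (Fin m ⊕ Fin m) F) * (a : Matrix (Fin m ⊕ Fin m) (Fin m ⊕ Fin m) F) = 1 := by
    have h1 : a ^ 2 = 1 := by rw [← ha]; exact pow_orderOf_eq_one a
    rw [pow_two] at h1
    have := congrArg (fun x : ↥(Matrix.symplecticGroup (Fin m) F) => (x : Matrix (Fin m ⊕ Fin m) (Fin m ⊕ Fin m) F)) h1
    simpa using this
  exact ⟨card_claim _ a.2 hAA (by omega), even_claim _⟩

end Cfsg.Agent.S2167
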