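import Mathlib
import Cfsg.Statements.S4646
import Cfsg.Agent.Lib.Helper23.BlockPairs
import Cfsg.Agent.Lib.Helper23.BlockKernel
import Cfsg.Agent.Lib.Helper23.BlockRank
import Cfsg.Agent.Lib.Helper18.BlockCover
import Cfsg.Agent.Lib.Helper10.Frobenius4

set_option autoImplicit false
open Cfsg

namespace Cfsg.Agent.S4646

open Cfsg.Agent.Helper24 Cfsg.Agent.Helper18 Cfsg.Agent.Helper23.Blk Cfsg.Agent.Helper10
open scoped ComplexConjugate

universe u

section ThirdMain

variable {G : Type u} [Group G] [Finite G] {p : ℕ} {M : Ideal AlgInt}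

/-- **Brauer's third main theorem, for Brauer pairs**: for a `p`-subgroup `Q`, the principal
block of `C_G(Q)` gives a Brauer pair of the principal block of `G`. -/
theorem isBrauerPairOf_principal [Fact p.Prime] (hM : IsPModular p M) (Q : Subgroup G)
    (hQ : IsPGroup p Q) :
    IsBrauerPairOf p M (principalBlock M G) Q
      (principalBlock M (Subgroup.centralizer (Q : Set G))) := by
  classical
  haveI : Fintype G := Fintype.ofFinite G
  haveI : Fintype (Subgroup.centralizer (Q : Set G)) := Fintype.ofFinite _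
  letI : Fintype (IrrCharacter G) := irrFintype
  letI : Fintype (IrrCharacter (Subgroup.centralizer (Q : Set G))) := irrFintype
  haveI hMp : M.IsPrime := hM.2.1.isPrime
  obtain ⟨χ, hχ⟩ := exists_irr_brauerPair Q hM hQ
    (principalChar (Subgroup.centralizer (Q : Set G)))
  have hmem : χ ∈ principalBlock M G := by
    by_contra hcon
    have h1 := hχ (pRegInd G p) isClassFunction_pRegInd (fun g => memLocalRing_pRegInd g)
    rw [resC_pRegInd, omega_pRegInd_eq_zero hM χ hcon, sub_zero] at h1
    exact not_memLocalIdeal_omega_principal hM h1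
  exact (isBrauerPairOf_iff Q hM hQ isPBlock_principalBlock
    principalChar_mem_principalBlock hχ isPBlock_principalBlock).2 hmem

end ThirdMain

section Stab

variable {G : Type u} [Group G] {M : Ideal AlgInt}

/-- conjugation by (the inverse of) a normalizing element, as an automorphism of the subgroup -/
def conjAut (K : Subgroup G) (g : G) (hg : g ∈ Subgroup.normalizer (K : Set G)) : K ≃* K where
  toFun k := ⟨g⁻¹ * (k : G) * g, by
    have h := (Subgroup.mem_normalizer_iff.mp (Subgroup.inv_mem _ hg) (k : G)).1 k.2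
    rwa [inv_inv] at h⟩
  invFun k := ⟨g * (k : G) * g⁻¹, (Subgroup.mem_normalizer_iff.mp hg (k : G)).1 k.2⟩
  left_inv k := by
    apply Subtype.ext
    show g * (g⁻¹ * (k : G) * g) * g⁻¹ = k
    group
  right_inv k := by
    apply Subtype.ext
    show g⁻¹ * (g * (k : G) * g⁻¹) * g = k
    group
  map_mul' a b := by
    apply Subtype.ext
    show g⁻¹ * ((a : G) * (b : G)) * g = (g⁻¹ * (a : G) * g) * (g⁻¹ * (b : G) * g)
    group

/-- every element normalizing `K` stabilizes the principal block of `K` -/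
theorem stabilizesBlock_principal [Finite G] (K : Subgroup G) (g : G)
    (hg : g ∈ Subgroup.normalizer (K : Set G)) :
    StabilizesBlock K (principalBlock M K) g := by
  refine ⟨hg, ?_⟩
  intro χ hχ
  refine ⟨⟨(χ : K → ℂ) ∘ conjAut K g hg,
    Cfsg.Agent.Helper5.isIrrCharacter_comp_equiv (conjAut K g hg) χ.2⟩, ?_, ?_⟩
  · show SameBlock M (fun _ : K => (1 : ℂ)) ((χ : K → ℂ) ∘ conjAut K g hg)
    intro k
    have h := hχ (conjAut K g hg k)
    rw [centralChar_comp_equiv]
    have h1 : centralChar (fun _ : K => (1 : ℂ)) k =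
        centralChar (fun _ : K => (1 : ℂ)) (conjAut K g hg k) := by
      have := centralChar_comp_equiv (conjAut K g hg) (fun _ : K => (1 : ℂ)) k
      rw [← this]
      rfl
    rw [h1]
    exact h
  · intro k k' hk
    show (χ : K → ℂ) (conjAut K g hg k') = (χ : K → ℂ) k
    have hkk : conjAut K g hg k' = k := by
      apply Subtype.ext
      show g⁻¹ * (k' : G) * g = k
      rw [hk]
      group
    rw [hkk]

end Stab

section Rank

variable {G : Type u} [Group G] [Finite G] {p : ℕ} {M : Ideal AlgInt}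

theorem not_dvd_orderOf_one (hp : p.Prime) : ¬ p ∣ orderOf (1 : G) := by
  rw [orderOf_one]
  exact hp.one_lt.ne' ∘ Nat.dvd_one.mp

theorem pRegularPart_one_ne_zero (hp : p.Prime) :
    pRegularPart p (fun _ : G => (1 : ℂ)) ≠ 0 := by
  intro h
  have h1 := congrFun h 1
  rw [pRegularPart_of_not_dvd p _ (not_dvd_orderOf_one hp)] at h1
  exact one_ne_zero h1

/-- a normal `p`-complement forces the principal block to have `p`-regular rank one -/
theorem blockRank_principal_eq_one_of_npc [Fact p.Prime] (hM : IsPModular p M) (h : NPC p G) :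
    blockRank p (principalBlock M G) = 1 := by
  classical
  haveI : Fintype G := Fintype.ofFinite G
  haveI hMp : M.IsPrime := hM.2.1.isPrime
  have hp : p.Prime := Fact.out
  obtain ⟨N, hN, hcop, hidx⟩ := h
  haveI := hN
  have hnd : ¬ p ∣ Nat.card N := by
    intro hd
    exact hp.ne_one (Nat.Coprime.eq_one_of_dvd hcop.symm hd)
  obtain ⟨v₀, hv₀⟩ : ∃ v₀ : G → ℂ, v₀ = pRegularPart p (fun _ : G => (1 : ℂ)) := ⟨_, rfl⟩
  have hv₀ne : v₀ ≠ 0 := by
    rw [hv₀]
    exact pRegularPart_one_ne_zero hp
  have key : ∀ χ ∈ principalBlock M G,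
      pRegularPart p (χ : G → ℂ) = ((χ : G → ℂ) 1) • v₀ := by
    intro χ hχ
    have hker := le_ker_of_sameBlock hM (χ := principalChar G) (ψ := χ) hχ N hnd
      (fun n _ => rfl)
    funext x
    by_cases hx : p ∣ orderOf x
    · rw [pRegularPart_of_dvd p _ hx, Pi.smul_apply, hv₀, pRegularPart_of_dvd p _ hx, smul_zero]
    · have hxN : x ∈ N := mem_of_coprime_order_of_index_pow hidx
        ((Nat.Prime.coprime_iff_not_dvd hp).mpr hx).symm
      rw [pRegularPart_of_not_dvd p _ hx, Pi.smul_apply, hv₀, pRegularPart_of_not_dvd p _ hx,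
        smul_eq_mul, mul_one]
      exact hker x hxN
  unfold blockRank
  have hspan : Submodule.span ℂ
      ((fun χ : IrrCharacter G => pRegularPart p (χ : G → ℂ)) '' principalBlock M G) =
      Submodule.span ℂ {v₀} := by
    apply le_antisymm
    · rw [Submodule.span_le]
      rintro _ ⟨χ, hχ, rfl⟩
      show pRegularPart p (χ : G → ℂ) ∈ Submodule.span ℂ {v₀}
      rw [key χ hχ]
      exact Submodule.smul_mem _ _ (Submodule.subset_span rfl)
    · rw [Submodule.span_le, Set.singleton_subset_iff]
      refine Submodule.subset_span ⟨principalChar G, principalChar_mem_principalBlock, ?_⟩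
      rw [hv₀]
      rfl
  rw [hspan]
  exact finrank_span_singleton hv₀ne

/-- the common kernel of a set of irreducible characters -/
def kerSub (B : Set (IrrCharacter G)) : Subgroup G where
  carrier := {g | ∀ χ ∈ B, (χ : G → ℂ) g = (χ : G → ℂ) 1}
  one_mem' := fun _ _ => rfl
  mul_mem' := fun {a b} ha hb χ hχ =>
    (charKer (isCharacter_of_isIrrCharacter χ.2)).mul_mem (ha χ hχ) (hb χ hχ)
  inv_mem' := fun {a} ha χ hχ =>
    (charKer (isCharacter_of_isIrrCharacter χ.2)).inv_mem (ha χ hχ)

theorem kerSub_normal (B : Set (IrrCharacter G)) : (kerSub B).Normal := by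
  constructor
  intro n hn g χ hχ
  rw [isClassFunction_of_isIrrCharacter χ.2 n g]
  exact hn χ hχ

/-- the common kernel of a block has order prime to `p` -/
theorem not_dvd_card_kerSub [Fact p.Prime] (hM : IsPModular p M) {B : Set (IrrCharacter G)}
    (hB : IsPBlock M B) : ¬ p ∣ Nat.card (kerSub B) := by
  classical
  haveI : Fintype G := Fintype.ofFinite G
  letI : Fintype (IrrCharacter G) := irrFintype
  haveI hMp : M.IsPrime := hM.2.1.isPrime
  have hp : p.Prime := Fact.out
  intro hd
  obtain ⟨g, hg⟩ := exists_prime_orderOf_dvd_card' p hd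
  have hgG : orderOf (g : G) = p := by rw [Subgroup.orderOf_coe]; exact hg
  have hsing : p ∣ orderOf (g : G) := by rw [hgG]
  have h0 := weak_block_orthogonality hM hB (not_dvd_orderOf_one (G := G) hp) hsing
  obtain ⟨χ₀, rfl⟩ := hB
  rw [finsum_mem_def, finsum_eq_sum_of_fintype] at h0
  have hterm : ∀ χ : IrrCharacter G,
      (blockOf M (χ₀ : G → ℂ)).indicator
        (fun χ : IrrCharacter G => (χ : G → ℂ) 1 * conj ((χ : G → ℂ) (g : G))) χ =
      (((if χ ∈ blockOf M (χ₀ : G → ℂ) then (charDegree (χ : G → ℂ)) ^ 2 else 0 : ℕ)) : ℂ) := by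
    intro χ
    by_cases hχ : χ ∈ blockOf M (χ₀ : G → ℂ)
    · rw [Set.indicator_of_mem hχ, if_pos hχ, g.2 χ hχ, irr_one_eq_charDegree χ.2,
        Complex.conj_natCast]
      push_cast
      ring
    · rw [Set.indicator_of_notMem hχ, if_neg hχ, Nat.cast_zero]
  rw [Finset.sum_congr rfl (fun χ _ => hterm χ), ← Nat.cast_sum, Nat.cast_eq_zero,
    Finset.sum_eq_zero_iff] at h0
  have h1 := h0 χ₀ (Finset.mem_univ _)
  rw [if_pos (mem_blockOf_self χ₀)] at h1
  have hpos := charDegree_pos χ₀.2
  exact absurd h1 (pow_pos hpos 2).ne'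

end Rank

section Main

variable {G : Type u} [Group G] [Finite G] {p : ℕ} {M : Ideal AlgInt}

/-- if the principal block has `p`-regular rank one, there is a normal `p`-complement -/
theorem npc_of_blockRank_principal_eq_one [Fact p.Prime] (hM : IsPModular p M)
    (h : blockRank p (principalBlock M G) = 1) : NPC p G := by
  classical
  haveI : Fintype G := Fintype.ofFinite G
  haveI hMp : M.IsPrime := hM.2.1.isPrime
  have hp : p.Prime := Fact.out
  obtain ⟨v₀, hv₀⟩ : ∃ v₀ : G → ℂ, v₀ = pRegularPart p (fun _ : G => (1 : ℂ)) := ⟨_, rfl⟩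
  obtain ⟨V, hV⟩ : ∃ V : Submodule ℂ (G → ℂ), V = Submodule.span ℂ
      ((fun χ : IrrCharacter G => pRegularPart p (χ : G → ℂ)) '' principalBlock M G) := ⟨_, rfl⟩
  have hfr : Module.finrank ℂ V = 1 := by
    rw [hV]
    exact h
  have hv₀V : v₀ ∈ V := by
    rw [hV, hv₀]
    exact Submodule.subset_span ⟨principalChar G, principalChar_mem_principalBlock, rfl⟩
  have hv₀ne : (⟨v₀, hv₀V⟩ : V) ≠ 0 := by
    intro h0
    have h1 : v₀ = 0 := congrArg Subtype.val h0
    rw [hv₀] at h1
    exact pRegularPart_one_ne_zero hp h1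
  have hall := (finrank_eq_one_iff_of_nonzero' (⟨v₀, hv₀V⟩ : V) hv₀ne).mp hfr
  have key : ∀ χ ∈ principalBlock M G, ∀ x : G, ¬ p ∣ orderOf x →
      (χ : G → ℂ) x = (χ : G → ℂ) 1 := by
    intro χ hχ x hx
    have hχV : pRegularPart p (χ : G → ℂ) ∈ V := by
      rw [hV]
      exact Submodule.subset_span ⟨χ, hχ, rfl⟩
    obtain ⟨c, hc⟩ := hall ⟨_, hχV⟩
    have hc' : c • v₀ = pRegularPart p (χ : G → ℂ) := congrArg Subtype.val hc
    have e1 := congrFun hc' 1
    have e2 := congrFun hc' x
    rw [Pi.smul_apply, hv₀, pRegularPart_of_not_dvd p _ (not_dvd_orderOf_one hp),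
      pRegularPart_of_not_dvd p _ (not_dvd_orderOf_one hp), smul_eq_mul, mul_one] at e1
    rw [Pi.smul_apply, hv₀, pRegularPart_of_not_dvd p _ hx, pRegularPart_of_not_dvd p _ hx,
      smul_eq_mul, mul_one] at e2
    rw [← e2, e1]
  haveI hnorm := kerSub_normal (principalBlock M G)
  refine ⟨kerSub (principalBlock M G), hnorm, ?_, ?_⟩
  · exact ((Nat.Prime.coprime_iff_not_dvd hp).mpr
      (not_dvd_card_kerSub hM isPBlock_principalBlock)).symm
  · have hpg : IsPGroup p (G ⧸ kerSub (principalBlock M G)) := by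
      intro q
      obtain ⟨g, rfl⟩ := QuotientGroup.mk_surjective q
      obtain ⟨a, m, hm, hgm⟩ := Nat.exists_eq_pow_mul_and_not_dvd (orderOf_pos g).ne' p hp.ne_one
      refine ⟨a, ?_⟩
      rw [← QuotientGroup.mk_pow, QuotientGroup.eq_one_iff]
      intro χ hχ
      apply key χ hχ
      have hdvd : p ^ a ∣ orderOf g := by
        rw [hgm]
        exact dvd_mul_right _ _
      rw [orderOf_pow_of_dvd (pow_ne_zero a hp.ne_zero) hdvd, hgm,
        Nat.mul_div_cancel_left _ (pow_pos hp.pos a)]
      exact hm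
    obtain ⟨n, hn⟩ := IsPGroup.iff_card.mp hpg
    exact ⟨n, by rw [Subgroup.index_eq_card, hn]⟩

end Main

theorem result {G : Type*} [Group G] [Finite G] (p : ℕ) [Fact p.Prime] (M : Ideal Cfsg.AlgInt) (hM : Cfsg.IsPModular p M) : Cfsg.IsNilpotentBlock p M (Cfsg.principalBlock M G) ↔ Cfsg.blockRank p (Cfsg.principalBlock M G) = 1 := by
  classical
  haveI : Fintype G := Fintype.ofFinite G
  have hp : p.Prime := Fact.out
  constructor
  · intro hnil
    apply blockRank_principal_eq_one_of_npc hM
    apply npc_of_frobCond (Nat.card G) G rfl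
    intro Q hQ g hg hcop
    have hgC : g ∈ Subgroup.normalizer
        ((Subgroup.centralizer (Q : Set G) : Subgroup G) : Set G) := by
      rw [Subgroup.mem_normalizer_iff]
      intro h
      exact (centralizer_conj_mem_iff_of_mem_normalizer hg).symm
    refine hnil.2 Q _ (isBrauerPairOf_principal hM Q hQ) g hg
      (stabilizesBlock_principal _ g hgC) ?_
    intro hd
    exact hp.ne_one (Nat.Coprime.eq_one_of_dvd hcop.symm hd)
  · intro h
    have hF := frobCond_of_npc (npc_of_blockRank_principal_eq_one hM h)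
    refine ⟨isPBlock_principalBlock, ?_⟩
    intro Q e hpair x hx _ hreg
    exact hF Q hpair.1.1 x hx ((Nat.Prime.coprime_iff_not_dvd hp).mpr hreg).symm

end Cfsg.Agent.S4646
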