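import Mathlib
import Cfsg.Statements.S0187
import Cfsg.Agent.Lib.Helper24.CharComplete

set_option autoImplicit false
open Cfsg

namespace Cfsg.Agent.S0187

open Cfsg.Agent.Helper24

theorem result {G : Type*} [Group G] [Finite G] : (∀ a b : G, a * b = b * a) ↔ ∀ χ : Cfsg.IrrCharacter G, (χ : G → ℂ) 1 = 1 := by
  letI := Fintype.ofFinite G
  letI := irrFintype (G := G)
  constructor
  · intro hab χ
    obtain ⟨n, ρ, hρ, hχ⟩ := χ.2
    haveI : IsMulCommutative G := ⟨⟨hab⟩⟩
    haveI := hρ
    have h1 := Representation.IsIrreducible.finrank_eq_one_of_isMulCommutative ρ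
    rw [← hχ, Representation.char_one, h1, Nat.cast_one]
  · intro hχ
    have h1 := sum_charDegree_sq (G := G)
    have h2 : ∀ χ : IrrCharacter G, charDegree (χ : G → ℂ) = 1 := by
      intro χ
      have := irr_one_eq_charDegree χ.2
      rw [hχ χ] at this
      exact_mod_cast this.symm
    simp only [h2, one_pow, Finset.sum_const, Finset.card_univ, smul_eq_mul, mul_one] at h1
    rw [← Nat.card_eq_fintype_card, card_irr_eq_card_conjClasses] at h1
    -- ConjClasses.mk is a bijection
    have hsurj : Function.Surjective (ConjClasses.mk : G → ConjClasses G) := ConjClasses.mk_surjective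
    have hinj : Function.Injective (ConjClasses.mk : G → ConjClasses G) := by
      have : Function.Bijective (ConjClasses.mk : G → ConjClasses G) := by
        rw [Nat.bijective_iff_surjective_and_card]
        exact ⟨hsurj, h1.symm⟩
      exact this.1
    intro a b
    have h3 : ConjClasses.mk (b * a * b⁻¹) = ConjClasses.mk a := by
      rw [ConjClasses.mk_eq_mk_iff_isConj]
      exact (isConj_iff.mpr ⟨b, rfl⟩).symm
    have h4 := hinj h3
    calc a * b = (b * a * b⁻¹) * b := by rw [h4]
      _ = b * a := by group

end Cfsg.Agent.S0187
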