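import Mathlib
import Cfsg.Statements.S4437
import Cfsg.Agent.Lib.Helper18.PairBridge
import Cfsg.Agent.Lib.Helper18.CyclicStab

set_option autoImplicit false

open Cfsg

namespace Cfsg.Agent.S4437

open Cfsg.Agent.Helper23.Blk Cfsg.Agent.Helper18.PairRel

theorem mem_normalizer_sup {G : Type*} [Group G] [Fintype G] (P : Subgroup G) {g : G}
    (hg : g ∈ Subgroup.normalizer (P : Set G)) :
    g ∈ Subgroup.normalizer ((P ⊔ Subgroup.centralizer (P : Set G) : Subgroup G) : Set G) := by
  apply mem_normalizer_of_map_conj_eq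
  rw [Subgroup.map_sup, map_conj_eq_of_mem_normalizer hg,
    map_conj_eq_of_mem_normalizer (normalizer_le_normalizer_centralizer P hg)]

theorem result {G : Type*} [Group G] [Fintype G] (p : ℕ) [Fact p.Prime] (M : Ideal Cfsg.AlgInt) (hM : Cfsg.IsPModular p M) (P : Subgroup G) (hP : IsPGroup p P) (H : Subgroup G) [Fintype H] (hH : H = P ⊔ Subgroup.centralizer (P : Set G)) (b : Set (Cfsg.IrrCharacter H)) (hb : Cfsg.IsPBlock M b) (hbP : Cfsg.IsDefectGroup p M b (P.subgroupOf H)) (B : Set (Cfsg.IrrCharacter G)) (hind : Cfsg.IsInducedBlock M H b B) (T : Subgroup G) (hT : ∀ g : G, g ∈ T ↔ (g ∈ Subgroup.normalizer (P : Set G) ∧ ∀ θ ∈ b, ∀ θ' : Cfsg.IrrCharacter H, (∀ h h' : H, (h' : G) = g * h * g⁻¹ → (θ' : H → ℂ) h' = (θ : H → ℂ) h) → θ' ∈ b)) : Cfsg.IsDefectGroup p M B P ↔ ¬ p ∣ H.relIndex T := by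
  classical
  haveI hMp : M.IsPrime := hM.2.1.isPrime
  have hp : p.Prime := hM.1
  obtain ⟨e, he, hbe, hpair⟩ := exists_block_centralizer_of_block_sup hM hP hH hb
  have hBe : IsBrauerPairOf p M B P e := hpair B hind
  have hPH : P ≤ H := hH ▸ le_sup_left
  have hCH : Subgroup.centralizer (P : Set G) ≤ H := hH ▸ le_sup_right
  have hne : e.Nonempty := block_nonempty hM he
  have hgHof : ∀ g, g ∈ Subgroup.normalizer (P : Set G) →
      g ∈ Subgroup.normalizer (H : Set G) := by
    intro g hg
    rw [hH]
    exact mem_normalizer_sup P hg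
  -- the stabilizer of `b` is the stabilizer of `e`
  have hTe : ∀ g : G, g ∈ T ↔ g ∈ Subgroup.normalizer (P : Set G) ∧
      StabilizesBlock (Subgroup.centralizer (P : Set G)) e g := by
    intro g
    rw [hT g]
    constructor
    · rintro ⟨hgP, hcond⟩
      refine ⟨hgP, ?_⟩
      have hgH := hgHof g hgP
      have hgC := normalizer_le_normalizer_centralizer P hgP
      have himg : Cfsg.Agent.Helper24.conjIrr H g hgH '' b = b := by
        obtain ⟨θ, hθ⟩ := block_nonempty hM hb
        apply isPBlock_eq_of_mem (isPBlock_image_conjIrr H hgH hb) hb ⟨θ, hθ, rfl⟩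
        apply hcond θ hθ
        intro h h' hh
        rw [Cfsg.Agent.Helper24.conjIrr_apply]
        apply congrArg (θ : H → ℂ)
        apply Subtype.ext
        rw [Cfsg.Agent.Helper24.normConj_apply, hh]
        group
      have h2 := (image_conjIrr_eq_iff_of_blockCoeff_eq hCH hbe hgH hgC).1 himg
      exact stabilizesBlock_of_image_subset _ hgC (le_of_eq h2)
    · rintro ⟨hgP, hst⟩
      refine ⟨hgP, ?_⟩
      have hgH := hgHof g hgP
      have hgC := normalizer_le_normalizer_centralizer P hgP
      have h2 : Cfsg.Agent.Helper24.conjIrr (Subgroup.centralizer (P : Set G)) g hgC '' e = e :=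
        image_conjIrr_eq_of_stabilizes _ he hne hst
      have himg := (image_conjIrr_eq_iff_of_blockCoeff_eq hCH hbe hgH hgC).2 h2
      intro θ hθ θ' hrel
      have h3 : θ' = Cfsg.Agent.Helper24.conjIrr H g hgH θ := by
        apply Subtype.ext
        funext h'
        rw [Cfsg.Agent.Helper24.conjIrr_apply]
        apply hrel
        rw [Cfsg.Agent.Helper24.normConj_apply]
        group
      rw [h3, ← himg]
      exact ⟨θ, hθ, rfl⟩
  constructor
  · intro hPD
    have hno : ∀ (R : Subgroup G) (g : Set (IrrCharacter (Subgroup.centralizer (R : Set G)))),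
        IsNormalSubpair p M P e R g → R = P := by
      intro R g hsub
      have hBS := isBrauerPairOf_of_isNormalSubpair hM hsub hBe
      have hcard := card_le_of_subConj (subConj_of_isBrauerPairOf hM hBS hPD)
      exact (Subgroup.eq_of_le_of_card_ge hsub.2.2.1 hcard).symm
    have h1 := not_dvd_index_sup_centralizer_stab hM hBe hno T hTe
    rw [← hH] at h1
    exact h1
  · intro hidx
    have hno : ∀ (R : Subgroup G) (g : Set (IrrCharacter (Subgroup.centralizer (R : Set G)))),
        IsNormalSubpair p M P e R g → R = P := by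
      intro R g hsub
      obtain ⟨y, hy, hfy⟩ := exists_centralizer_not_memLocalIdeal hM hsub
      obtain ⟨-, ⟨hRp, hg⟩, hPR, hRN, hst, -⟩ := hsub
      have hRT : R ≤ T := fun r hr => (hTe r).2 ⟨hRN hr, hst r hr⟩
      have hTN : T ≤ Subgroup.normalizer (H : Set G) :=
        fun t ht => hgHof t ((hTe t).1 ht).1
      haveI : (H.subgroupOf T).Normal := Subgroup.normal_subgroupOf_of_le_normalizer hTN
      have hRH : R ≤ H := by
        intro r hr
        obtain ⟨k, hk⟩ := hRp ⟨r, hr⟩
        have hk' : r ^ p ^ k = 1 := by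
          have := congrArg Subtype.val hk
          push_cast at this
          exact this
        have h1 : r ^ (H.subgroupOf T).index ∈ H := by
          have h2 := Subgroup.pow_index_mem (H.subgroupOf T) (⟨r, hRT hr⟩ : T)
          rw [Subgroup.mem_subgroupOf] at h2
          exact h2
        have h3 : r ^ p ^ k ∈ H := by
          rw [hk']
          exact Subgroup.one_mem _
        have hcop : Nat.Coprime (H.subgroupOf T).index (p ^ k) :=
          Nat.Coprime.pow_right k ((Nat.Prime.coprime_iff_not_dvd hp).2 hidx).symm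
        have h4 := Cfsg.Agent.Helper18.pow_gcd_mem H r _ _ h1 h3
        rwa [hcop, pow_one] at h4
      have hext : ext0 H (blockCoeff b) y =
          ext0 (Subgroup.centralizer (P : Set G)) (blockCoeff e) y := by
        by_cases hx : y ∈ H
        · rw [ext0_of_mem _ _ hx, hbe ⟨y, hx⟩, subgroupBlockCoeff_eq_ext0]
        · rw [ext0_of_not_mem _ _ hx, ext0_of_not_mem _ _ (fun h => hx (hCH h))]
      rw [← hext] at hfy
      obtain ⟨D, hD, hRD⟩ := exists_defectGroup_ge hM hb hRp hy hfy
      have hHN : H ≤ Subgroup.normalizer (P : Set G) :=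
        hH ▸ sup_le Subgroup.le_normalizer (Subgroup.centralizer_le_normalizer _)
      haveI hPn : (P.subgroupOf H).Normal := Subgroup.normal_subgroupOf_of_le_normalizer hHN
      obtain ⟨c, hc⟩ := isDefectGroup_conj_of hM hb hD hbP
      have hDP : D = P.subgroupOf H := by
        rw [← hc]
        apply map_conj_eq_of_mem_normalizer
        rw [Subgroup.normalizer_eq_top_iff.mpr hPn]
        exact Subgroup.mem_top c
      apply le_antisymm _ hPR
      intro r hr
      have h5 : (⟨r, hRH hr⟩ : H) ∈ R.subgroupOf H := by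
        rw [Subgroup.mem_subgroupOf]
        exact hr
      have h6 := hRD h5
      rw [hDP, Subgroup.mem_subgroupOf] at h6
      exact h6
    exact isDefectGroup_of_no_proper_superpair hM hBe hno

end Cfsg.Agent.S4437
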