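import Mathlib
import Cfsg.Statements.S4444
import Cfsg.Agent.Lib.Helper24.GlaubTransfer

set_option autoImplicit false
set_option linter.style.haveILetI false
open Cfsg

namespace Cfsg.Agent.S4444

open Cfsg.Agent.Helper24 Cfsg.Agent.Helper24.Glaub

/-- The Glauberman correspondence for a p-group of operators. Inside a finite group Γ let S normalise G with the orders of G and S coprime, S a p-group, and let C = G ⊓ C(S) be the fixed points. Call an irreducible character χ of G S-invariant when χ(s g s⁻¹) = χ(g) for s ∈ S, g ∈ G. Then: (i) for every S-invariant χ there is exactly one irreducible character β of C whose multiplicity [χ_C, β] in the restriction of χ is not divisible by p; (ii) that multiplicity is ≡ 1 or ≡ −1 (mod p); (iii) distinct S-invariant χ give distinct β; (iv) every irreducible character of C arises in this way. So χ ↦ β is a bijection from the S-invariant irreducible characters of G onto the irreducible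 characters of C. -/
theorem result {Γ : Type*} [Group Γ] [Fintype Γ] (G S : Subgroup Γ) [Fintype G] (hnorm : ∀ s ∈ S, ∀ g ∈ G, s * g * s⁻¹ ∈ G) (hcop : (Nat.card G).Coprime (Nat.card S)) (p : ℕ) (hp : p.Prime) (hS : IsPGroup p S) (C : Subgroup Γ) [Fintype C] (hC : C = G ⊓ Subgroup.centralizer (S : Set Γ)) (hCG : C ≤ G) : (∀ χ : Cfsg.IrrCharacter G, (∀ s ∈ S, ∀ g g' : G, (g' : Γ) = s * g * s⁻¹ → (χ : G → ℂ) g' = (χ : G → ℂ) g) → ∃! β : Cfsg.IrrCharacter C, ∃ m : ℕ, Cfsg.classInner (fun c : C => (χ : G → ℂ) ⟨c, hCG c.2⟩) (β : C → ℂ) = (m : ℂ) ∧ ¬ p ∣ m) ∧ (∀ χ : Cfsg.IrrCharacter G, (∀ s ∈ S, ∀ g g' : G, (g' : Γ) = s * g * s⁻¹ → (χ : G → ℂ) g' = (χ : G → ℂ) g) → ∀ β : Cfsg.IrrCharacter C, ∀ m : ℕ, Cfsg.classInner (fun c : C => (χ : G → ℂ) ⟨c, hCG c.2⟩) (β : C → ℂ) = (m : ℂ) → ¬ p ∣ m → ((m : ℤ) ≡ 1 [ZMOD p] ∨ (m : ℤ) ≡ -1 [ZMOD p])) ∧ (∀ χ χ' : Cfsg.IrrCharacter G, (∀ s ∈ S, ∀ g g' : G, (g' : Γ) = s * g * s⁻¹ → (χ : G → ℂ) g'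 = (χ : G → ℂ) g) → (∀ s ∈ S, ∀ g g' : G, (g' : Γ) = s * g * s⁻¹ → (χ' : G → ℂ) g' = (χ' : G → ℂ) g) → ∀ β : Cfsg.IrrCharacter C, ∀ m m' : ℕ, Cfsg.classInner (fun c : C => (χ : G → ℂ) ⟨c, hCG c.2⟩) (β : C → ℂ) = (m : ℂ) → ¬ p ∣ m → Cfsg.classInner (fun c : C => (χ' : G → ℂ) ⟨c, hCG c.2⟩) (β : C → ℂ) = (m' : ℂ) → ¬ p ∣ m' → χ = χ') ∧ (∀ β : Cfsg.IrrCharacter C, ∃ χ : Cfsg.IrrCharacter G, (∀ s ∈ S, ∀ g g' : G, (g' : Γ) = s * g * s⁻¹ → (χ : G → ℂ) g' = (χ : G → ℂ) g) ∧ ∃ m : ℕ, Cfsg.classInner (fun c : C => (χ : G → ℂ) ⟨c, hCG c.2⟩) (β : C → ℂ) = (m : ℂ) ∧ ¬ p ∣ m) := by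
  classical
  rename_i iΓ iG iC
  have hSG : S ≤ Subgroup.normalizer (G : Set Γ) := le_normalizer_of_forall_conj_mem S G hnorm
  haveI : Fact p.Prime := ⟨hp⟩
  by_cases hpG : p ∣ Nat.card G
  · -- `S` is trivial
    clear iG
    have hS1 : Nat.card S = 1 := by
      obtain ⟨k, hk⟩ := hS.exists_card_eq
      rcases Nat.eq_zero_or_pos k with h0 | h0
      · rw [hk, h0, pow_zero]
      · exfalso
        have h1 : p ∣ Nat.card S := hk ▸ dvd_pow_self p h0.ne'
        have h2 := Nat.dvd_gcd hpG h1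
        rw [Nat.Coprime.gcd_eq_one hcop] at h2
        exact hp.one_lt.ne' (Nat.dvd_one.mp h2)
    have hSbot : S = ⊥ := Subgroup.card_eq_one.mp hS1
    have hCeq : C = G := by
      rw [hC, hSbot]
      apply le_antisymm inf_le_left
      intro g hg
      refine ⟨hg, ?_⟩
      show g ∈ Subgroup.centralizer ((⊥ : Subgroup Γ) : Set Γ)
      rw [Subgroup.mem_centralizer_iff]
      intro h hh
      have : h = 1 := hh
      rw [this, one_mul, mul_one]
    subst hCeq
    have key : ∀ χ β : IrrCharacter C,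
        classInner (fun c : C => (χ : C → ℂ) ⟨c, hCG c.2⟩) (β : C → ℂ) =
          if χ = β then 1 else 0 := by
      intro χ β
      convert irr_orthogonality' χ β
    have hinvall : ∀ χ : IrrCharacter C, ∀ s ∈ S, ∀ g g' : C, (g' : Γ) = s * g * s⁻¹ →
        (χ : C → ℂ) g' = (χ : C → ℂ) g := by
      intro χ s hs g g' hgg'
      rw [hSbot] at hs
      have hs1 : s = 1 := hs
      rw [hs1, one_mul, inv_one, mul_one] at hgg'
      rw [Subtype.ext hgg']
    have hp1 : ¬ p ∣ 1 := fun h => hp.one_lt.ne' (Nat.dvd_one.mp h)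
    have hzero : ∀ {χ β : IrrCharacter C} {m : ℕ},
        classInner (fun c : C => (χ : C → ℂ) ⟨c, hCG c.2⟩) (β : C → ℂ) = (m : ℂ) → ¬ p ∣ m →
        χ = β ∧ m = 1 := by
      intro χ β m hm hpm
      rw [key] at hm
      by_cases hχβ : χ = β
      · rw [if_pos hχβ] at hm
        exact ⟨hχβ, by exact_mod_cast hm.symm⟩
      · rw [if_neg hχβ] at hm
        exfalso
        have : m = 0 := by exact_mod_cast hm.symm
        exact hpm (this ▸ dvd_zero p)
    refine ⟨?_, ?_, ?_, ?_⟩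
    · intro χ _
      refine ⟨χ, ⟨1, by rw [key, if_pos rfl]; simp, hp1⟩, ?_⟩
      rintro β ⟨m, hm, hpm⟩
      exact (hzero hm hpm).1.symm
    · intro χ _ β m hm hpm
      left
      rw [(hzero hm hpm).2]
      rfl
    · intro χ χ' _ _ β m m' hm hpm hm' hpm'
      rw [(hzero hm hpm).1, (hzero hm' hpm').1]
    · intro β
      exact ⟨β, hinvall β, 1, by rw [key, if_pos rfl]; simp, hp1⟩
  · -- the main case
    letI : Fintype (fixedSub (conjHom G S hSG)) := Fintype.ofFinite _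
    have hA : IsPGroup p S := hS
    refine ⟨?_, ?_, ?_, ?_⟩
    · intro χ hinv
      have hχ := (isInv_conjHom_iff G S hSG (χ : G → ℂ)).mpr hinv
      obtain ⟨β', hβ', huniq⟩ := glauberman_existsUnique (conjHom G S hSG) hp hA hpG χ hχ
      refine ⟨ofFix G S hSG C hC β', ?_, ?_⟩
      · have h1 : IsGl (conjHom G S hSG) p (χ : G → ℂ)
            (toFix G S hSG C hC (ofFix G S hSG C hC β') :
              fixedSub (conjHom G S hSG) → ℂ) := by
          rw [toFix_ofFix]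
          exact hβ'
        exact (isGl_toFix_iff G S hSG C hC hCG p (χ : G → ℂ) (ofFix G S hSG C hC β')).mp h1
      · intro β hβ
        have := huniq (toFix G S hSG C hC β)
          ((isGl_toFix_iff G S hSG C hC hCG p (χ : G → ℂ) β).mpr hβ)
        rw [← this, ofFix_toFix]
    · intro χ hinv β m hm hpm
      have hχ := (isInv_conjHom_iff G S hSG (χ : G → ℂ)).mpr hinv
      exact glauberman_modEq (conjHom G S hSG) hp hA hpG χ hχ (toFix G S hSG C hC β) m
        (by rw [classInner_toFix G S hSG C hC hCG]; exact hm) hpm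
    · intro χ χ' hinv hinv' β m m' hm hpm hm' hpm'
      have hχ := (isInv_conjHom_iff G S hSG (χ : G → ℂ)).mpr hinv
      have hχ' := (isInv_conjHom_iff G S hSG (χ' : G → ℂ)).mpr hinv'
      exact glauberman_inj (conjHom G S hSG) hp hA hpG χ χ' hχ hχ' (toFix G S hSG C hC β)
        ((isGl_toFix_iff G S hSG C hC hCG p (χ : G → ℂ) β).mpr ⟨m, hm, hpm⟩)
        ((isGl_toFix_iff G S hSG C hC hCG p (χ' : G → ℂ) β).mpr ⟨m', hm', hpm'⟩)
    · intro β
      obtain ⟨χ, hχ, hgl⟩ := glauberman_surj (conjHom G S hSG) hp hA hpG (toFix G S hSG C hC β)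
      exact ⟨χ, (isInv_conjHom_iff G S hSG (χ : G → ℂ)).mp hχ,
        (isGl_toFix_iff G S hSG C hC hCG p (χ : G → ℂ) β).mp hgl⟩

end Cfsg.Agent.S4444
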