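import Mathlib
import Cfsg.Statements.S0966
import Cfsg.Agent.Lib.Helper18.BlockCover2

set_option autoImplicit false
open Cfsg

namespace Cfsg.Agent.S0966

open Cfsg.Agent.Helper24 Cfsg.Agent.Helper18 Cfsg.Agent.Helper23.Blk
open scoped ComplexConjugate

theorem result {G : Type*} [Group G] [Fintype G] (p : ℕ) [Fact p.Prime] (M : Ideal Cfsg.AlgInt) (hM : Cfsg.IsPModular p M) (N : Subgroup G) [N.Normal] [Fintype N] (hidx : ∃ k : ℕ, N.index = p ^ k) (b : Set (Cfsg.IrrCharacter N)) (hb : Cfsg.IsPBlock M b) : ∃! B : Set (Cfsg.IrrCharacter G), Cfsg.IsPBlock M B ∧ ∃ χ ∈ B, ∃ θ ∈ b, Cfsg.classInner (fun n : N => (χ : G → ℂ) n) (θ : N → ℂ) ≠ 0 := by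
  classical
  have hMp : M.IsPrime := isPrime_of_isPModular hM
  haveI := hMp
  obtain ⟨θ₀, hθ₀⟩ := hb
  have hθ₀b : θ₀ ∈ b := by
    rw [hθ₀]
    exact mem_blockOf_self θ₀
  -- a character over `θ₀`
  have hind : IsCharacter G (indFun N (θ₀ : N → ℂ)) :=
    isCharacter_indFun N (isCharacter_of_isIrrCharacter θ₀.2)
  have hind0 : indFun N (θ₀ : N → ℂ) ≠ 0 := by
    intro h0
    have h1 := congrFun h0 1
    rw [indFun_one] at h1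
    have hidx0 : (N.index : ℂ) ≠ 0 := by
      have : N.index ≠ 0 := Subgroup.index_ne_zero_of_finite
      exact_mod_cast this
    exact (mul_ne_zero hidx0 (irr_one_ne_zero θ₀.2)) h1
  obtain ⟨χ₁f, hχ₁irr, hχ₁con⟩ := Cfsg.Agent.Helper5.exists_constituent hind hind0
  obtain ⟨χ₁, hχ₁def⟩ : ∃ χ₁ : IrrCharacter G, (χ₁ : G → ℂ) = χ₁f := ⟨⟨χ₁f, hχ₁irr⟩, rfl⟩
  have hcon₁ : classInner (fun n : N => (χ₁ : G → ℂ) n) (θ₀ : N → ℂ) ≠ 0 := by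
    rw [hχ₁def]
    rw [frobenius_reciprocity N (θ₀ : N → ℂ) (isClassFunction_of_isIrrCharacter hχ₁irr),
      ← classInner_conj_symm] at hχ₁con
    intro h
    apply hχ₁con
    rw [h, map_zero]
  refine ⟨blockOf M (χ₁ : G → ℂ), ⟨⟨χ₁, rfl⟩, χ₁, mem_blockOf_self χ₁, θ₀, hθ₀b, hcon₁⟩, ?_⟩
  rintro B₂ ⟨hB₂, χ₂, hχ₂, θ₂, hθ₂, hcon₂⟩
  have hp1 := passman_of_cover N hMp ⟨χ₁, rfl⟩ ⟨θ₀, hθ₀⟩ (mem_blockOf_self χ₁) hθ₀b hcon₁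
    χ₁ (mem_blockOf_self χ₁) θ₀ hθ₀b
  have hp2 := passman_of_cover N hMp hB₂ ⟨θ₀, hθ₀⟩ hχ₂ hθ₂ hcon₂ χ₂ hχ₂ θ₀ hθ₀b
  have hsame : SameBlock M (χ₁ : G → ℂ) (χ₂ : G → ℂ) := by
    apply sameBlock_of_congr_on_normal N hM hidx
    intro n
    have := memLocalIdeal_sub (hp1 n) (hp2 n)
    rwa [sub_sub_sub_cancel_right] at this
  obtain ⟨χ₀₂, rfl⟩ := hB₂
  have h1 : blockOf M (χ₂ : G → ℂ) = blockOf M (χ₀₂ : G → ℂ) := blockOf_eq_of_mem hχ₂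
  have h2 : blockOf M (χ₂ : G → ℂ) = blockOf M (χ₁ : G → ℂ) := blockOf_eq_of_mem hsame
  rw [← h1, h2]

end Cfsg.Agent.S0966
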