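import Mathlib
import Cfsg.Statements.S4672
import Cfsg.Agent.Lib.Helper18.BlockFong
import Cfsg.Agent.S0966

set_option autoImplicit false
open Cfsg

namespace Cfsg.Agent.S4672

open Cfsg.Agent.Helper24 Cfsg.Agent.Helper18 Cfsg.Agent.Helper23.Blk
open scoped ComplexConjugate

/-- a subgroup of `p'`-index meets a normal subgroup in a subgroup of `p'`-index -/
theorem not_dvd_relIndex_inf_of_normal {H : Type*} [Group H] [Finite H] {p : ℕ}
    (S A : Subgroup H) [A.Normal] (hS : ¬ p ∣ S.index) : ¬ p ∣ (S ⊓ A).relIndex A := by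
  have h1 : (S ⊓ A).relIndex S * S.relIndex (S ⊔ A) = (S ⊓ A).relIndex (S ⊔ A) :=
    Subgroup.relIndex_mul_relIndex _ _ _ inf_le_left le_sup_left
  have h2 : (S ⊓ A).relIndex A * A.relIndex (S ⊔ A) = (S ⊓ A).relIndex (S ⊔ A) :=
    Subgroup.relIndex_mul_relIndex _ _ _ inf_le_right le_sup_right
  have h3 : A.relIndex (S ⊔ A) = (S ⊓ A).relIndex S := by
    rw [Subgroup.relIndex_sup_right, inf_comm, Subgroup.inf_relIndex_right]
  have h4 : S.relIndex (S ⊔ A) = (S ⊓ A).relIndex A := by
    have h0 : (S ⊓ A).relIndex S ≠ 0 := by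
      unfold Subgroup.relIndex
      exact Subgroup.index_ne_zero_of_finite
    rw [h3, ← h1, mul_comm] at h2
    exact (Nat.eq_of_mul_eq_mul_left (Nat.pos_of_ne_zero h0) h2).symm
  rw [← h4]
  intro h
  exact hS (h.trans (Subgroup.relIndex_dvd_index_of_le le_sup_left))

theorem result {G : Type*} [Group G] [Fintype G] (p : ℕ) [Fact p.Prime] (M : Ideal Cfsg.AlgInt) (hM : Cfsg.IsPModular p M) (N : Subgroup G) [N.Normal] (hN : ∃ k : ℕ, N.index = p ^ k) (c : Set (Cfsg.IrrCharacter N)) (hc : Cfsg.IsPBlock M c) (hst : ∀ x : G, Cfsg.StabilizesBlock N c x) : (∃ B : Set (Cfsg.IrrCharacter G), Cfsg.IsPBlock M B ∧ ∀ g : G, Cfsg.blockCoeff B g = Cfsg.subgroupBlockCoeff N c g) ∧ ∀ B : Set (Cfsg.IrrCharacter G), Cfsg.IsPBlock M B → (∀ g : G, Cfsg.blockCoeff B g = Cfsg.subgroupBlockCoeff N c g) → ∀ P : Subgroup G, Cfsg.IsDefectGroup p M B P → N ⊔ P = ⊤ ∧ Cfsg.IsDefectGroup p M c ((P ⊓ N).subgroupOf N) := by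
  classical
  haveI : Fintype N := Fintype.ofFinite N
  haveI hMp : M.IsPrime := hM.2.1.isPrime
  have hp : p.Prime := hM.1
  have hstable : ∀ g : G, ∀ θ ∈ c, conjIrr N g θ ∈ c :=
    fun g θ hθ => conjIrr_mem_of_stabilizes N hst g hθ
  constructor
  · obtain ⟨B, ⟨hB, χ, hχ, θ, hθ, hcon⟩, huniq⟩ := Cfsg.Agent.S0966.result p M hM N hN c hc
    refine ⟨B, hB, ?_⟩
    have hBover : B = overSet N c := by
      ext χ'
      constructor
      · intro hχ'
        have hres : IsCharacter N (fun n : N => (χ' : G → ℂ) n) :=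
          isCharacter_restrict N (isCharacter_of_isIrrCharacter χ'.2)
        have hres0 : (fun n : N => (χ' : G → ℂ) n) ≠ 0 := by
          intro h
          have h1 := congrFun h 1
          exact irr_one_ne_zero χ'.2 h1
        obtain ⟨ψf, hψirr, hψcon⟩ := Cfsg.Agent.Helper5.exists_constituent hres hres0
        have hsame : SameBlock M (χ : G → ℂ) (χ' : G → ℂ) := by
          obtain ⟨χ₀, rfl⟩ := hB
          exact sameBlock_trans (sameBlock_symm hχ) hχ'
        have horb := cover_orbit N hMp hc hsame hθ hcon (ψ := ⟨ψf, hψirr⟩) hψcon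
        obtain ⟨g, θ', hθ', hψeq⟩ := horb
        refine ⟨⟨ψf, hψirr⟩, ?_, hψcon⟩
        rw [hψeq]
        exact hstable g θ' hθ'
      · rintro ⟨θ', hθ', hcon'⟩
        have := huniq (blockOf M (χ' : G → ℂ))
          ⟨⟨χ', rfl⟩, χ', mem_blockOf_self χ', θ', hθ', hcon'⟩
        rw [← this]
        exact mem_blockOf_self χ'
    intro g
    rw [hBover, blockCoeff_overSet N hstable g]
    unfold subgroupBlockCoeff
    congr
  · intro B hB hBc P hP
    obtain ⟨x, hx, P', rfl⟩ := hP
    obtain ⟨hxN, hxc, hnd⟩ := fong_defectClass N hM hc hst hB hBc hx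
    have hstab_top : fongStab N (⟨x, hxN⟩ : N) = ⊤ := by
      have hdvd : (fongStab N (⟨x, hxN⟩ : N)).index ∣ N.index :=
        Subgroup.index_dvd_of_le (le_fongStab N _)
      obtain ⟨k, hk⟩ := hN
      rw [hk] at hdvd
      obtain ⟨j, -, hj⟩ := (Nat.dvd_prime_pow hp).mp hdvd
      have hj0 : j = 0 := by
        by_contra h
        apply hnd
        rw [hj]
        exact dvd_pow_self p h
      rw [hj0, pow_zero] at hj
      exact Subgroup.index_eq_one.mp hj
    have hNC : N ⊔ Subgroup.centralizer ({x} : Set G) = ⊤ := by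
      rw [eq_top_iff]
      intro g _
      have hg : g ∈ fongStab N (⟨x, hxN⟩ : N) := by
        rw [hstab_top]
        trivial
      rw [mem_fongStab_iff, isConj_comm, isConj_iff] at hg
      obtain ⟨n, hn⟩ := hg
      have hn' : (n : G) * x * (n : G)⁻¹ = g * x * g⁻¹ := congrArg Subtype.val hn
      have hmem : (n : G)⁻¹ * g ∈ Subgroup.centralizer ({x} : Set G) := by
        rw [Subgroup.mem_centralizer_singleton_iff]
        have h1 : x = (n : G)⁻¹ * (g * x * g⁻¹) * (n : G) := by
          rw [← hn']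
          group
        calc (n : G)⁻¹ * g * x = (n : G)⁻¹ * (g * x * g⁻¹) * (n : G) * ((n : G)⁻¹ * g) := by
              group
          _ = x * ((n : G)⁻¹ * g) := by rw [← h1]
      have : g = (n : G) * ((n : G)⁻¹ * g) := by group
      rw [this]
      exact Subgroup.mul_mem_sup n.2 hmem
    haveI hAn : (N.subgroupOf (Subgroup.centralizer ({x} : Set G))).Normal :=
      Subgroup.normal_subgroupOf
    have hAidx : ∃ j : ℕ, (N.subgroupOf (Subgroup.centralizer ({x} : Set G))).index = p ^ j := by
      obtain ⟨k, hk⟩ := hN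
      have h1 : N.relIndex (Subgroup.centralizer ({x} : Set G)) ∣ N.index :=
        Subgroup.relIndex_dvd_index_of_normal _ _
      rw [hk] at h1
      obtain ⟨j, -, hj⟩ := (Nat.dvd_prime_pow hp).mp h1
      exact ⟨j, hj⟩
    have hsup : (N.subgroupOf (Subgroup.centralizer ({x} : Set G))) ⊔
        (P' : Subgroup (Subgroup.centralizer ({x} : Set G))) = ⊤ := by
      rw [← Subgroup.index_eq_one]
      have h1 : ((N.subgroupOf (Subgroup.centralizer ({x} : Set G))) ⊔
          (P' : Subgroup (Subgroup.centralizer ({x} : Set G)))).index ∣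
          (N.subgroupOf (Subgroup.centralizer ({x} : Set G))).index :=
        Subgroup.index_dvd_of_le le_sup_left
      have h2 : ((N.subgroupOf (Subgroup.centralizer ({x} : Set G))) ⊔
          (P' : Subgroup (Subgroup.centralizer ({x} : Set G)))).index ∣
          (P' : Subgroup (Subgroup.centralizer ({x} : Set G))).index :=
        Subgroup.index_dvd_of_le le_sup_right
      obtain ⟨j, hj⟩ := hAidx
      rw [hj] at h1
      obtain ⟨i, -, hi⟩ := (Nat.dvd_prime_pow hp).mp h1
      by_contra hne
      have hi0 : i ≠ 0 := by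
        rintro rfl
        exact hne (by rw [hi, pow_zero])
      apply P'.not_dvd_index
      refine dvd_trans ?_ h2
      rw [hi]
      exact dvd_pow_self p hi0
    have hCle : Subgroup.centralizer ({x} : Set G) ≤ N ⊔
        (P' : Subgroup (Subgroup.centralizer ({x} : Set G))).map
          (Subgroup.centralizer ({x} : Set G)).subtype := by
      intro y hy
      have h1 : (⟨y, hy⟩ : Subgroup.centralizer ({x} : Set G)) ∈
          (N.subgroupOf (Subgroup.centralizer ({x} : Set G))) ⊔
          (P' : Subgroup (Subgroup.centralizer ({x} : Set G))) := by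
        rw [hsup]
        trivial
      have h2 := Subgroup.mem_map_of_mem (Subgroup.centralizer ({x} : Set G)).subtype h1
      rw [Subgroup.map_sup] at h2
      have hle : (N.subgroupOf (Subgroup.centralizer ({x} : Set G))).map
          (Subgroup.centralizer ({x} : Set G)).subtype ≤ N := by
        rintro _ ⟨z, hz, rfl⟩
        exact hz
      exact (sup_le_sup hle (le_refl _)) h2
    have hNP : N ⊔ (P' : Subgroup (Subgroup.centralizer ({x} : Set G))).map
        (Subgroup.centralizer ({x} : Set G)).subtype = ⊤ := by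
      rw [eq_top_iff, ← hNC]
      exact sup_le le_sup_left hCle
    refine ⟨hNP, ⟨x, hxN⟩, hxc, ?_⟩
    -- the Sylow subgroup of the centralizer in `N`
    obtain ⟨PG, hPG⟩ : ∃ PG : Subgroup G, PG =
        (P' : Subgroup (Subgroup.centralizer ({x} : Set G))).map
          (Subgroup.centralizer ({x} : Set G)).subtype := ⟨_, rfl⟩
    rw [← hPG]
    have hPGC : PG ≤ Subgroup.centralizer ({x} : Set G) := by
      rw [hPG]
      rintro _ ⟨z, -, rfl⟩
      exact z.2
    have hPGp : IsPGroup p PG := by
      rw [hPG]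
      exact P'.isPGroup'.map _
    have hXle : (PG ⊓ N).subgroupOf N ≤ Subgroup.centralizer ({(⟨x, hxN⟩ : N)} : Set N) := by
      intro n hn
      rw [Subgroup.mem_subgroupOf] at hn
      have h1 := hPGC hn.1
      rw [Subgroup.mem_centralizer_singleton_iff] at h1 ⊢
      exact Subtype.ext h1
    have hQp : IsPGroup p (((PG ⊓ N).subgroupOf N).subgroupOf
        (Subgroup.centralizer ({(⟨x, hxN⟩ : N)} : Set N))) :=
      ((hPGp.to_le inf_le_left).comap_subtype).comap_subtype
    -- cardinalities
    have hc1 : Nat.card (((PG ⊓ N).subgroupOf N).subgroupOf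
        (Subgroup.centralizer ({(⟨x, hxN⟩ : N)} : Set N))) = Nat.card ↥(PG ⊓ N) := by
      rw [Nat.card_congr (Subgroup.subgroupOfEquivOfLe hXle).toEquiv,
        Nat.card_congr (Subgroup.subgroupOfEquivOfLe (inf_le_right : PG ⊓ N ≤ N)).toEquiv]
    have hc2 : Nat.card (Subgroup.centralizer ({(⟨x, hxN⟩ : N)} : Set N)) =
        Nat.card ↥(Subgroup.centralizer ({x} : Set G) ⊓ N) :=
      card_centralizer_subgroup N ⟨x, hxN⟩
    have hc3 : Nat.card (N.subgroupOf (Subgroup.centralizer ({x} : Set G))) =
        Nat.card ↥(Subgroup.centralizer ({x} : Set G) ⊓ N) := by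
      rw [← Subgroup.inf_subgroupOf_left,
        Nat.card_congr (Subgroup.subgroupOfEquivOfLe (inf_le_left :
          Subgroup.centralizer ({x} : Set G) ⊓ N ≤ Subgroup.centralizer ({x} : Set G))).toEquiv]
    have hc4 : Nat.card ↥((P' : Subgroup (Subgroup.centralizer ({x} : Set G))) ⊓
        N.subgroupOf (Subgroup.centralizer ({x} : Set G))) = Nat.card ↥(PG ⊓ N) := by
      have hmap : ((P' : Subgroup (Subgroup.centralizer ({x} : Set G))) ⊓
          N.subgroupOf (Subgroup.centralizer ({x} : Set G))).map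
          (Subgroup.centralizer ({x} : Set G)).subtype = PG ⊓ N := by
        ext y
        constructor
        · rintro ⟨z, ⟨hz1, hz2⟩, rfl⟩
          refine ⟨?_, hz2⟩
          rw [hPG]
          exact ⟨z, hz1, rfl⟩
        · rintro ⟨hy1, hy2⟩
          rw [hPG] at hy1
          obtain ⟨z, hz, rfl⟩ := hy1
          exact ⟨z, ⟨hz, hy2⟩, rfl⟩
      rw [← hmap, Subgroup.card_map_of_injective (Subgroup.subtype_injective _)]
    have hrel := not_dvd_relIndex_inf_of_normal
      (P' : Subgroup (Subgroup.centralizer ({x} : Set G)))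
      (N.subgroupOf (Subgroup.centralizer ({x} : Set G))) P'.not_dvd_index
    have hQidx : ¬ p ∣ (((PG ⊓ N).subgroupOf N).subgroupOf
        (Subgroup.centralizer ({(⟨x, hxN⟩ : N)} : Set N))).index := by
      have h1 := Subgroup.index_mul_card (((PG ⊓ N).subgroupOf N).subgroupOf
        (Subgroup.centralizer ({(⟨x, hxN⟩ : N)} : Set N)))
      rw [hc1, hc2] at h1
      have h2 : ((P' : Subgroup (Subgroup.centralizer ({x} : Set G))) ⊓
          N.subgroupOf (Subgroup.centralizer ({x} : Set G))).relIndex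
          (N.subgroupOf (Subgroup.centralizer ({x} : Set G))) * Nat.card ↥(PG ⊓ N) =
          Nat.card ↥(Subgroup.centralizer ({x} : Set G) ⊓ N) := by
        rw [← hc3, ← hc4]
        unfold Subgroup.relIndex
        rw [← Subgroup.index_mul_card (((P' : Subgroup (Subgroup.centralizer ({x} : Set G))) ⊓
          N.subgroupOf (Subgroup.centralizer ({x} : Set G))).subgroupOf
          (N.subgroupOf (Subgroup.centralizer ({x} : Set G))))]
        congr 1
        exact (Nat.card_congr (Subgroup.subgroupOfEquivOfLe (inf_le_right :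
          (P' : Subgroup (Subgroup.centralizer ({x} : Set G))) ⊓
          N.subgroupOf (Subgroup.centralizer ({x} : Set G)) ≤
          N.subgroupOf (Subgroup.centralizer ({x} : Set G)))).toEquiv).symm
      have h3 : (((PG ⊓ N).subgroupOf N).subgroupOf
          (Subgroup.centralizer ({(⟨x, hxN⟩ : N)} : Set N))).index =
          ((P' : Subgroup (Subgroup.centralizer ({x} : Set G))) ⊓
          N.subgroupOf (Subgroup.centralizer ({x} : Set G))).relIndex
          (N.subgroupOf (Subgroup.centralizer ({x} : Set G))) := by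
        have hpos : 0 < Nat.card ↥(PG ⊓ N) := Nat.card_pos
        exact Nat.eq_of_mul_eq_mul_right hpos (h1.trans h2.symm)
      rw [h3]
      exact hrel
    refine ⟨hQp.toSylow hQidx, ?_⟩
    rw [IsPGroup.toSylow_coe, Subgroup.map_subgroupOf_eq_of_le hXle]

end Cfsg.Agent.S4672
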