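import Mathlib
import Cfsg.Statements.S0065

set_option autoImplicit false
open Cfsg
open scoped commutatorElement

namespace Cfsg.Agent.S0065

theorem result {G : Type*} [Group G] [Finite G] [Group.IsNilpotent G]
    (N : Subgroup G) [N.Normal] (hN : N ≠ ⊥) : N ⊓ Subgroup.center G ≠ ⊥ := by
  classical
  obtain ⟨c, hc⟩ := Group.IsNilpotent.nilpotent G
  have hex : ∃ n, N ⊓ Subgroup.upperCentralSeries G n ≠ ⊥ := ⟨c, by rw [hc, inf_top_eq]; exact hN⟩
  set n := Nat.find hex with hn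
  have hn1 : N ⊓ Subgroup.upperCentralSeries G n ≠ ⊥ := Nat.find_spec hex
  have hn0 : n ≠ 0 := by
    intro h0
    apply hn1
    rw [h0, Subgroup.upperCentralSeries_zero, inf_bot_eq]
  obtain ⟨m, hm⟩ := Nat.exists_eq_succ_of_ne_zero hn0
  have hmin : N ⊓ Subgroup.upperCentralSeries G m = ⊥ := by
    by_contra h
    have : n ≤ m := Nat.find_min' hex h
    omega
  intro hbot
  apply hn1
  rw [eq_bot_iff] 
  intro x hx
  rw [← hbot]
  refine ⟨hx.1, ?_⟩
  change x ∈ Subgroup.center G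
  rw [Subgroup.mem_center_iff]
  intro g
  have hx2 : x ∈ Subgroup.upperCentralSeries G n := hx.2
  rw [hm, Nat.succ_eq_add_one, Subgroup.mem_upperCentralSeries_succ_iff] at hx2
  have h1 : ⁅x, g⁻¹⁆ ∈ N ⊓ Subgroup.upperCentralSeries G m := by
    refine ⟨?_, hx2 g⁻¹⟩
    have : ⁅x, g⁻¹⁆ = x * (g⁻¹ * x⁻¹ * g⁻¹⁻¹) := by rw [commutatorElement_def]; group
    rw [this]
    exact N.mul_mem hx.1 (‹N.Normal›.conj_mem _ (N.inv_mem hx.1) _)
  rw [hmin, Subgroup.mem_bot, commutatorElement_def] at h1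
  have : g * x = g * (x * g⁻¹ * x⁻¹ * g⁻¹⁻¹) * g⁻¹ * (x * g) := by group
  rw [this, h1, mul_one, mul_inv_cancel, one_mul]

end Cfsg.Agent.S0065
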