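import Mathlib
import Cfsg.Statements.S4435
import Cfsg.Agent.Lib.Helper18.FongReynolds

set_option autoImplicit false

open Cfsg

namespace Cfsg.Agent.S4435

open Cfsg.Agent.Helper24 Cfsg.Agent.Helper5 Cfsg.Agent.Helper23.Blk Cfsg.Agent.Helper18
  Cfsg.Agent.Helper18.FR

theorem result {G : Type*} [Group G] [Fintype G] (p : ℕ) [Fact p.Prime] (M : Ideal Cfsg.AlgInt) (hM : Cfsg.IsPModular p M) (N : Subgroup G) [hN : N.Normal] [Fintype N] (b : Set (Cfsg.IrrCharacter N)) (hb : Cfsg.IsPBlock M b) (T : Subgroup G) [Fintype T] (hT : ∀ g : G, g ∈ T ↔ ∀ θ ∈ b, ∀ θ' : Cfsg.IrrCharacter N, (∀ n : N, (θ' : N → ℂ) n = (θ : N → ℂ) ⟨g * n * g⁻¹, hN.conj_mem n n.2 g⟩) → θ' ∈ b) (hNT : N ≤ T) : (∀ B' : Set (Cfsg.IrrCharacter T), Cfsg.IsPBlock M B' → (∃ ψ ∈ B', ∃ θ ∈ b, Cfsg.classInner (fun n : N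 => (ψ : T → ℂ) ⟨(n : G), hNT n.2⟩) (θ : N → ℂ) ≠ 0) → ∃ B : Set (Cfsg.IrrCharacter G), Cfsg.IsInducedBlock M T B' B ∧ (∃ χ ∈ B, ∃ θ ∈ b, Cfsg.classInner (fun n : N => (χ : G → ℂ) n) (θ : N → ℂ) ≠ 0) ∧ (∀ ψ ∈ B', Cfsg.IsIrrCharacter G (Cfsg.indFun T (ψ : T → ℂ))) ∧ ∀ χ : Cfsg.IrrCharacter G, χ ∈ B ↔ ∃ ψ ∈ B', (χ : G → ℂ) = Cfsg.indFun T (ψ : T → ℂ)) ∧ (∀ B'₁ B'₂ : Set (Cfsg.IrrCharacter T), Cfsg.IsPBlock M B'₁ → Cfsg.IsPBlock M B'₂ → (∃ ψ ∈ B'₁, ∃ θ ∈ b, Cfsg.classInner (fun n : N => (ψ : T → ℂ) ⟨(n : G), hNT n.2⟩) (θ : N → ℂ) ≠ 0) → (∃ ψ ∈ B'₂, ∃ θ ∈ b, Cfsg.classInner (fun n : N => (ψ : T → ℂ) ⟨(n : G), hNT n.2⟩) (θ : N → ℂ) ≠ 0) → ∀ B : Set (Cfsg.IrrCharacter G), Cfsg.IsInducedBlock M T B'₁ B → Cfsg.IsInducedBlock M T B'₂ B → B'₁ = B'₂) ∧ (∀ B : Set (Cfsg.IrrCharacter G), Cfsg.IsPBlock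 M B → (∃ χ ∈ B, ∃ θ ∈ b, Cfsg.classInner (fun n : N => (χ : G → ℂ) n) (θ : N → ℂ) ≠ 0) → ∃ B' : Set (Cfsg.IrrCharacter T), Cfsg.IsPBlock M B' ∧ (∃ ψ ∈ B', ∃ θ ∈ b, Cfsg.classInner (fun n : N => (ψ : T → ℂ) ⟨(n : G), hNT n.2⟩) (θ : N → ℂ) ≠ 0) ∧ Cfsg.IsInducedBlock M T B' B) := by
  classical
  haveI hMp : M.IsPrime := hM.2.1.isPrime
  have hstab : ∀ t ∈ T, ∀ θ ∈ b, Cfsg.Agent.Helper18.conjIrr N t θ ∈ b := by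
    intro t ht θ hθ
    exact (hT t).1 ht θ hθ (Cfsg.Agent.Helper18.conjIrr N t θ) (fun n => rfl)
  have hfull : ∀ g : G, (∀ θ ∈ b, Cfsg.Agent.Helper18.conjIrr N g θ ∈ b) → g ∈ T := by
    intro g hg
    rw [hT]
    intro θ hθ θ' hθ'
    have h1 : θ' = Cfsg.Agent.Helper18.conjIrr N g θ := Subtype.ext (funext hθ')
    rw [h1]
    exact hg θ hθ
  refine ⟨?_, ?_, ?_⟩
  · intro B' hB' hcov
    have hcov' : ∃ ψ ∈ B', ∃ θ ∈ b,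
        classInner (resFun hNT (ψ : T → ℂ)) (θ : N → ℂ) ≠ 0 := hcov
    obtain ⟨ψ₀, hψ₀, θ₀, hθ₀, hcon⟩ := hcov
    have hcon' : classInner (resFun hNT (ψ₀ : T → ℂ)) (θ₀ : N → ℂ) ≠ 0 := hcon
    obtain ⟨hset, hind, hirr⟩ := indSet_eq_blockOf N T hNT hM hb hstab hfull hB' hcov' hψ₀
    refine ⟨blockOf M ((indIrr T ψ₀ : IrrCharacter G) : G → ℂ), hind, ?_, hirr, ?_⟩
    · refine ⟨indIrr T ψ₀, mem_blockOf_self _, θ₀, hθ₀, ?_⟩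
      rw [indIrr_coe T (hirr ψ₀ hψ₀)]
      exact (isIrr_indFun N T hNT hMp hb hfull hθ₀ hcon').2
    · intro χ
      rw [← hset]
      rfl
  · intro B'₁ B'₂ hB'₁ hB'₂ hcov₁ hcov₂ B hind₁ hind₂
    have hcov₁' : ∃ ψ ∈ B'₁, ∃ θ ∈ b,
        classInner (resFun hNT (ψ : T → ℂ)) (θ : N → ℂ) ≠ 0 := hcov₁
    have hcov₂' : ∃ ψ ∈ B'₂, ∃ θ ∈ b,
        classInner (resFun hNT (ψ : T → ℂ)) (θ : N → ℂ) ≠ 0 := hcov₂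
    obtain ⟨ψ₁, hψ₁, -⟩ := hcov₁
    obtain ⟨ψ₂, hψ₂, -⟩ := hcov₂
    obtain ⟨hset₁, hI₁, hirr₁⟩ := indSet_eq_blockOf N T hNT hM hb hstab hfull hB'₁ hcov₁' hψ₁
    obtain ⟨hset₂, hI₂, hirr₂⟩ := indSet_eq_blockOf N T hNT hM hb hstab hfull hB'₂ hcov₂' hψ₂
    have e₁ := isInducedBlock_unique T hM hind₁ hI₁
    have e₂ := isInducedBlock_unique T hM hind₂ hI₂
    have hsets : indSet T B'₁ = indSet T B'₂ := by rw [hset₁, hset₂, ← e₁, ← e₂]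
    have hmem : indIrr T ψ₁ ∈ indSet T B'₂ := by
      rw [← hsets]
      exact ⟨ψ₁, hψ₁, indIrr_coe T (hirr₁ ψ₁ hψ₁)⟩
    obtain ⟨ψ, hψ, hψeq⟩ := hmem
    rw [indIrr_coe T (hirr₁ ψ₁ hψ₁)] at hψeq
    obtain ⟨θ₁, hθ₁, hcon₁⟩ := over_of_mem N T hNT hMp hb hstab hB'₁ hcov₁' hψ₁
    obtain ⟨θ₂, hθ₂, hcon₂⟩ := over_of_mem N T hNT hMp hb hstab hB'₂ hcov₂' hψ
    have h12 : ψ₁ = ψ := indFun_inj N T hNT hMp hb hfull hθ₁ hθ₂ hcon₁ hcon₂ hψeq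
    rw [← h12] at hψ
    exact isPBlock_eq_of_mem hB'₁ hB'₂ hψ₁ hψ
  · intro B hB hcov
    obtain ⟨χ, hχ, θ, hθ, hcon⟩ := hcov
    obtain ⟨ψ, hψirr, hψcon, hψind⟩ := clifford_induce_exists N T hNT θ.2
      (inertia_le N T hMp hb hfull hθ) χ.2 hcon
    obtain ⟨ψ', hψ'def⟩ : ∃ ψ' : IrrCharacter T, ψ' = ⟨ψ, hψirr⟩ := ⟨_, rfl⟩
    have hψ'coe : (ψ' : T → ℂ) = ψ := by rw [hψ'def]
    have hB' : IsPBlock M (blockOf M (ψ' : T → ℂ)) := ⟨ψ', rfl⟩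
    have hψ'mem : ψ' ∈ blockOf M (ψ' : T → ℂ) := mem_blockOf_self ψ'
    have hcov' : ∃ ψ'' ∈ blockOf M (ψ' : T → ℂ), ∃ θ ∈ b,
        classInner (resFun hNT (ψ'' : T → ℂ)) (θ : N → ℂ) ≠ 0 :=
      ⟨ψ', hψ'mem, θ, hθ, by rw [hψ'coe]; exact hψcon⟩
    obtain ⟨-, hind, hirr⟩ := indSet_eq_blockOf N T hNT hM hb hstab hfull hB' hcov' hψ'mem
    refine ⟨blockOf M (ψ' : T → ℂ), hB', hcov', ?_⟩
    have h1 : indIrr T ψ' = χ := by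
      apply Subtype.ext
      rw [indIrr_coe T (hirr ψ' hψ'mem), hψ'coe, hψind]
    rw [h1] at hind
    obtain ⟨χ₀, rfl⟩ := hB
    rw [blockOf_eq_of_mem hχ] at hind
    exact hind

end Cfsg.Agent.S4435
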