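import Mathlib
import Cfsg.Statements.S4436
import Cfsg.Agent.Lib.Helper18.FongReynolds
import Cfsg.Agent.S0917

set_option autoImplicit false

open Cfsg

namespace Cfsg.Agent.S4436

open Cfsg.Agent.Helper24 Cfsg.Agent.Helper5 Cfsg.Agent.Helper23.Blk Cfsg.Agent.Helper18
  Cfsg.Agent.Helper18.FR

/-- infimum of a translated set of natural numbers -/
theorem sInf_image_add {S : Set ℕ} (hS : S.Nonempty) (c : ℕ) :
    sInf ((fun x => c + x) '' S) = c + sInf S := by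
  apply le_antisymm
  · apply Nat.sInf_le
    exact ⟨sInf S, Nat.sInf_mem hS, rfl⟩
  · apply le_csInf (hS.image _)
    rintro _ ⟨x, hx, rfl⟩
    exact Nat.add_le_add_left (Nat.sInf_le hx) c

theorem result {G : Type*} [Group G] [Fintype G] (p : ℕ) [Fact p.Prime] (M : Ideal Cfsg.AlgInt) (hM : Cfsg.IsPModular p M) (N : Subgroup G) [hN : N.Normal] [Fintype N] (b : Set (Cfsg.IrrCharacter N)) (hb : Cfsg.IsPBlock M b) (T : Subgroup G) [Fintype T] (hT : ∀ g : G, g ∈ T ↔ ∀ θ ∈ b, ∀ θ' : Cfsg.IrrCharacter N, (∀ n : N, (θ' : N → ℂ) n = (θ : N → ℂ) ⟨g * n * g⁻¹, hN.conj_mem n n.2 g⟩) → θ' ∈ b) (hNT : N ≤ T) (B' : Set (Cfsg.IrrCharacter T)) (hB' : Cfsg.IsPBlock M B') (hcov : (∃ ψ ∈ B', ∃ θ ∈ b, Cfsg.classInner (fun n : N => (ψ : T → ℂ) ⟨(n : G), hNT n.2⟩) (θ : N → ℂ) ≠ 0)) (B : Set (Cfsg.IrrCharacter G)) (hind : Cfsg.IsInducedBlock M T B' B) : (∀ D : Subgroup T, Cfsg.IsDefectGroup p M B' D → Cfsg.IsDefectGroup p M B (D.map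 T.subtype)) ∧ ∀ ψ ∈ B', ∃ χ ∈ B, (χ : G → ℂ) = Cfsg.indFun T (ψ : T → ℂ) ∧ Cfsg.blockHeight p B (χ : G → ℂ) = Cfsg.blockHeight p B' (ψ : T → ℂ) := by
  classical
  haveI hMp : M.IsPrime := hM.2.1.isPrime
  have hp := hM.1
  have hstab : ∀ t ∈ T, ∀ θ ∈ b, Cfsg.Agent.Helper18.conjIrr N t θ ∈ b := by
    intro t ht θ hθ
    exact (hT t).1 ht θ hθ (Cfsg.Agent.Helper18.conjIrr N t θ) (fun n => rfl)
  have hfull : ∀ g : G, (∀ θ ∈ b, Cfsg.Agent.Helper18.conjIrr N g θ ∈ b) → g ∈ T := by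
    intro g hg
    rw [hT]
    intro θ hθ θ' hθ'
    have h1 : θ' = Cfsg.Agent.Helper18.conjIrr N g θ := Subtype.ext (funext hθ')
    rw [h1]
    exact hg θ hθ
  have hcov' : ∃ ψ ∈ B', ∃ θ ∈ b,
      classInner (resFun hNT (ψ : T → ℂ)) (θ : N → ℂ) ≠ 0 := hcov
  obtain ⟨ψ₀, hψ₀, -⟩ := hcov
  obtain ⟨hset, hI, hirr⟩ := indSet_eq_blockOf N T hNT hM hb hstab hfull hB' hcov' hψ₀
  have hBeq : B = indSet T B' := by
    rw [hset]
    exact isInducedBlock_unique T hM hind hI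
  have hB : IsPBlock M B := hind.2.1
  -- degrees
  have hTidx : T.index ≠ 0 := Subgroup.index_ne_zero_of_finite
  have hdeg : ∀ ψ ∈ B', ∀ χ : IrrCharacter G, (χ : G → ℂ) = indFun T (ψ : T → ℂ) →
      (charDegree (χ : G → ℂ)).factorization p =
        T.index.factorization p + (charDegree (ψ : T → ℂ)).factorization p := by
    intro ψ _ χ hχ
    have h1 : (χ : G → ℂ) 1 = ((T.index * charDegree (ψ : T → ℂ) : ℕ) : ℂ) := by
      rw [hχ, indFun_one, irr_one_eq_charDegree ψ.2]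
      push_cast
      rfl
    rw [charDegree_natCast _ h1, Nat.factorization_mul hTidx (charDegree_pos ψ.2).ne',
      Finsupp.add_apply]
  have hS : (fun χ : IrrCharacter G => (charDegree (χ : G → ℂ)).factorization p) '' B =
      (fun x => T.index.factorization p + x) ''
        ((fun ψ : IrrCharacter T => (charDegree (ψ : T → ℂ)).factorization p) '' B') := by
    ext n
    constructor
    · rintro ⟨χ, hχ, rfl⟩
      rw [hBeq] at hχ
      obtain ⟨ψ, hψ, hχψ⟩ := hχ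
      exact ⟨_, ⟨ψ, hψ, rfl⟩, (hdeg ψ hψ χ hχψ).symm⟩
    · rintro ⟨_, ⟨ψ, hψ, rfl⟩, rfl⟩
      refine ⟨indIrr T ψ, ?_, ?_⟩
      · rw [hBeq]
        exact ⟨ψ, hψ, indIrr_coe T (hirr ψ hψ)⟩
      · exact hdeg ψ hψ _ (indIrr_coe T (hirr ψ hψ))
  have hne : ((fun ψ : IrrCharacter T => (charDegree (ψ : T → ℂ)).factorization p) ''
      B').Nonempty := ⟨_, ψ₀, hψ₀, rfl⟩
  have hinf : sInf ((fun χ : IrrCharacter G => (charDegree (χ : G → ℂ)).factorization p) '' B) =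
      T.index.factorization p +
        sInf ((fun ψ : IrrCharacter T => (charDegree (ψ : T → ℂ)).factorization p) '' B') := by
    rw [hS, sInf_image_add hne]
  have hdefect : blockDefect p B = blockDefect p B' := by
    unfold blockDefect
    rw [hinf, ← Subgroup.card_mul_index T,
      Nat.factorization_mul Nat.card_pos.ne' hTidx, Finsupp.add_apply]
    omega
  refine ⟨?_, ?_⟩
  · intro D hD
    obtain ⟨E, hE, hDE⟩ := Cfsg.Agent.S0917.result p M hM T B' hB' B hB hind D hD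
    have hcardE := card_defectGroup hM hB hE
    have hcardD := card_defectGroup hM hB' hD
    have heq : D.map T.subtype = E := by
      apply Subgroup.eq_of_le_of_card_ge hDE
      rw [Subgroup.card_map_of_injective T.subtype_injective, hcardE, hcardD, hdefect]
    rw [heq]
    exact hE
  · intro ψ hψ
    refine ⟨indIrr T ψ, ?_, indIrr_coe T (hirr ψ hψ), ?_⟩
    · rw [hBeq]
      exact ⟨ψ, hψ, indIrr_coe T (hirr ψ hψ)⟩
    · unfold blockHeight
      rw [hinf, hdeg ψ hψ _ (indIrr_coe T (hirr ψ hψ))]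
      omega

end Cfsg.Agent.S4436
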