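import Mathlib
import Cfsg.Statements.S4492
import Cfsg.Agent.Lib.Helper18.FongSylow

set_option autoImplicit false
open Cfsg

namespace Cfsg.Agent.S4492

/-- Let G be a finite p-solvable group, N = O_{p'}(G) its largest normal subgroup of order prime to p, and θ an irreducible character of N invariant under conjugation by G; fix a maximal ideal M of the algebraic integers containing p. Then the irreducible characters of G lying over θ (those whose restriction to N contains θ) form a single p-block of G, and the defect groups of that block are exactly the Sylow p-subgroups of G. -/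
theorem result {G : Type*} [Group G] [Fintype G] (p : ℕ) [Fact p.Prime] (M : Ideal Cfsg.AlgInt) (hM : Cfsg.IsPModular p M) (hsolv : Cfsg.IsPSolvable p G) (N : Subgroup G) [hN : N.Normal] [Fintype N] (hNdef : N = Cfsg.pPrimeCore p G) (θ : Cfsg.IrrCharacter N) (hinv : ∀ (g : G) (n : N), (θ : N → ℂ) ⟨g * n * g⁻¹, hN.conj_mem n n.2 g⟩ = (θ : N → ℂ) n) : ∃ B : Set (Cfsg.IrrCharacter G), Cfsg.IsPBlock M B ∧ (∀ χ : Cfsg.IrrCharacter G, χ ∈ B ↔ Cfsg.classInner (fun n : N => (χ : G → ℂ) n) (θ : N → ℂ) ≠ 0) ∧ (∀ P : Sylow p G, Cfsg.IsDefectGroup p M B (P : Subgroup G)) ∧ ∀ D : Subgroup G, Cfsg.IsDefectGroup p M B D → ∃ P : Sylow p G, D = (P : Subgroup G) := by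
  classical
  subst hNdef
  haveI hMp : M.IsPrime := hM.2.1.isPrime
  have hθinv : ∀ x : G, Cfsg.Agent.Helper5.conjFun (pPrimeCore p G) x (θ : pPrimeCore p G → ℂ) =
      (θ : pPrimeCore p G → ℂ) := by
    intro x
    funext n
    rw [Cfsg.Agent.Helper5.conjFun_apply]
    exact hinv x n
  obtain ⟨B, hB, hmem, -, hone⟩ :=
    Cfsg.Agent.Helper18.FongBlock.exists_block_over_pPrimeCore hM hsolv
      (θ : pPrimeCore p G → ℂ) θ.2 hθinv
  have h1 : ¬ MemLocalIdeal M (blockCoeff B 1) := by
    intro hcon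
    obtain ⟨d, hd0, hd⟩ := Cfsg.Agent.Helper24.irr_one_eq θ.2
    have hdvd : d ∣ Nat.card (pPrimeCore p G) := by
      have := Cfsg.Agent.Helper24.charDegree_dvd_card θ.2
      rwa [Cfsg.Agent.Helper24.charDegree_natCast d hd] at this
    have h2 : MemLocalIdeal M (blockCoeff B 1 * ((Nat.card (pPrimeCore p G) : ℕ) : ℂ)) :=
      Cfsg.Agent.Helper23.Blk.memLocalIdeal_mul_right hcon
        (Cfsg.Agent.Helper23.Blk.memLocalRing_natCast _)
    rw [hone, hd] at h2
    have h3 : ((d : ℂ)) ^ 2 / (Nat.card (pPrimeCore p G) : ℂ) *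
        (Nat.card (pPrimeCore p G) : ℂ) = ((d ^ 2 : ℕ) : ℂ) := by
      have hne : (Nat.card (pPrimeCore p G) : ℂ) ≠ 0 := by
        exact_mod_cast (Nat.card_pos (α := pPrimeCore p G)).ne'
      field_simp
      push_cast
      ring
    rw [h3] at h2
    have h4 := (Cfsg.Agent.Helper23.Blk.memLocalIdeal_natCast_iff hM _).1 h2
    have h5 : p ∣ d := (Fact.out : p.Prime).dvd_of_dvd_pow h4
    exact Cfsg.Agent.Helper22.not_dvd_card_pPrimeCore p Fact.out (h5.trans hdvd)
  have hdc := Cfsg.Agent.Helper18.FongBlock.isDefectClass_one hM hB h1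
  exact ⟨B, hB, hmem,
    fun P => Cfsg.Agent.Helper18.FongBlock.isDefectGroup_sylow_of_isDefectClass_one hM hdc P,
    fun D hD => Cfsg.Agent.Helper18.FongBlock.exists_sylow_eq_of_isDefectClass_one hM hB hdc hD⟩

end Cfsg.Agent.S4492
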