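-- Statement S0801: Dickson's generation theorem.
import Mathlib
import Cfsg.Statements.S0801
import Cfsg.Agent.Lib.Helper4.DGenE

set_option autoImplicit false
open Cfsg

namespace Cfsg.Agent.S0801

open Matrix Matrix.SpecialLinearGroup in
open scoped MatrixGroups in
open Cfsg.Agent.Helper2.SL2S in
open Cfsg.Agent.Helper12 Cfsg.Agent.Helper4.DC Cfsg.Agent.Helper4.DSL in
open Cfsg.Agent.Helper11.Klein Cfsg.Agent.Helper11.Dickson Cfsg.Agent.Helper4.DGen in
theorem aux {F : Type*} [Field F] [Fintype F] (h2 : (2 : F) ≠ 0) (lam : F) (hlam : lam ≠ 0)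
    (hgen : Subfield.closure ({lam} : Set F) = ⊤) :
    (Subgroup.closure ({v 1, u lam} : Set SL(2, F)) = ⊤ ∧
        ¬ (Fintype.card F = 9 ∧ lam ^ 2 = -1)) ∨
      (Fintype.card F = 9 ∧ lam ^ 2 = -1 ∧
        Nat.card ↥(Subgroup.closure ({v 1, u lam} : Set SL(2, F))) = 120) := by
  classical
  obtain ⟨p, hchar⟩ := CharP.exists F
  haveI := hchar
  haveI hp : Fact p.Prime := ⟨CharP.char_is_prime F p⟩
  have hp2 : p ≠ 2 := by
    rintro rfl
    apply h2
    have := CharP.cast_eq_zero F 2
    exact_mod_cast this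
  set H : Subgroup SL(2, F) := Subgroup.closure ({v 1, u lam} : Set SL(2, F)) with hH
  set s : SL(2, F) := (nn (1 : F))⁻¹ with hs
  set c : SL(2, F) →* SL(2, F) := (MulAut.conj s).toMonoidHom with hc
  have hcinj : Function.Injective c := (MulAut.conj s).injective
  have hcv : ∀ t : F, c (v t) = u (-t) := by
    intro t
    change s * v t * s⁻¹ = _
    rw [hs, inv_inv, nn_one_conj_v]
  have hcu : ∀ t : F, c (u t) = v (-t) := by
    intro t
    change s * u t * s⁻¹ = _
    rw [hs, inv_inv, nn_one_conj_u]
  set Hc : Subgroup SL(2, F) := H.map c with hHc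
  have hv1 : v (1 : F) ∈ H := Subgroup.subset_closure (by simp)
  have hul : u lam ∈ H := Subgroup.subset_closure (by simp)
  have hu : u (1 : F) ∈ Hc := by
    have h1 : u (-1 : F) ∈ Hc := by
      rw [← hcv 1]; exact Subgroup.mem_map_of_mem c hv1
    have := Hc.inv_mem h1
    rwa [u_inv, neg_neg] at this
  have hv : v (-lam) ∈ Hc := by
    rw [← hcu lam]; exact Subgroup.mem_map_of_mem c hul
  have hb : -lam ≠ 0 := neg_ne_zero.2 hlam
  have hgen' : Subfield.closure ({-lam} : Set F) = ⊤ := by
    rw [eq_top_iff, ← hgen, Subfield.closure_le]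
    intro x hx
    rw [Set.mem_singleton_iff] at hx
    rw [hx]
    have : -lam ∈ Subfield.closure ({-lam} : Set F) := Subfield.subset_closure (by simp)
    have h2 := neg_mem this
    rwa [neg_neg] at h2
  have hcard : Nat.card Hc = Nat.card H := Subgroup.card_map_of_injective hcinj
  have htop : Hc = ⊤ → H = ⊤ := by
    intro h
    rw [eq_top_iff]
    intro g _
    have : c g ∈ Hc := by rw [h]; trivial
    obtain ⟨x, hx, hxg⟩ := this
    rw [← hcinj hxg]; exact hx
  have hsq : (-lam) ^ 2 = lam ^ 2 := by ring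
  have key := normalized p hp2 Hc (-lam) hb hu hv hgen'
  by_cases hex : Fintype.card F = 9 ∧ lam ^ 2 = -1
  · right
    refine ⟨hex.1, hex.2, ?_⟩
    rcases key with h | ⟨-, -, h⟩
    · exfalso
      -- the upper bound
      have h3 : (3 : F) = 0 := by
        obtain ⟨n, hn, hn'⟩ := FiniteField.card F p
        rw [hex.1] at hn'
        have hp3 : p = 3 := by
          have : p ∣ 9 := by rw [hn']; exact dvd_pow_self p n.ne_zero
          have h39 : (9 : ℕ) = 3 ^ 2 := by norm_num
          rw [h39] at this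
          exact (Nat.prime_dvd_prime_iff_eq hp.out Nat.prime_three).1
            (hp.out.dvd_of_dvd_pow this)
        subst hp3
        have := CharP.cast_eq_zero F 3
        exact_mod_cast this
      have hbsq : (-lam) ^ 2 = -1 := by rw [hsq]; exact hex.2
      have hle : Hc ≤ Subgroup.closure ({u 1, v (-lam)} : Set SL(2, F)) := by
        rw [hHc, hH, MonoidHom.map_closure, Subgroup.closure_le]
        rintro _ ⟨g, hg, rfl⟩
        simp only [Set.mem_insert_iff, Set.mem_singleton_iff] at hg
        rcases hg with rfl | rfl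
        · rw [hcv]
          have h1 : u (1 : F) ∈ Subgroup.closure ({u 1, v (-lam)} : Set SL(2, F)) :=
            Subgroup.subset_closure (by simp)
          have := Subgroup.inv_mem _ h1
          rwa [u_inv] at this
        · rw [hcu]
          exact Subgroup.subset_closure (by simp)
      have hbound := card_closure_le h3 (-lam) hbsq Hc hle
      rw [h, Subgroup.card_top, card_SL2, hex.1] at hbound
      norm_num at hbound
    · rw [← hcard]; exact h
  · left
    refine ⟨?_, hex⟩
    rcases key with h | ⟨h1, h2', -⟩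
    · exact htop h
    · exfalso
      apply hex
      exact ⟨h1, by rw [← hsq]; exact h2'⟩

open Cfsg.Agent.Helper2.SL2S in
/-- Let F be a finite field of odd characteristic and λ ≠ 0 an element generating F as a field. Then the lower and upper unitriangular matrices with off-diagonal entries 1 and λ generate SL_2(F), unless |F| = 9 and λ² = −1, in which case they generate a subgroup of order 120. -/
theorem result {F : Type*} [Field F] [Fintype F] (h2 : (2 : F) ≠ 0) (lam : F) (hlam : lam ≠ 0) (hgen : Subfield.closure ({lam} : Set F) = ⊤) : (Subgroup.closure {g : Matrix.SpecialLinearGroup (Fin 2) F | (g : Matrix (Fin 2) (Fin 2) F) = !![1, 0; 1, 1] ∨ (g : Matrix (Fin 2) (Fin 2) F) = !![1, lam; 0, 1]} = ⊤ ∧ ¬ (Fintype.card F = 9 ∧ lam ^ 2 = -1)) ∨ (Fintype.card F = 9 ∧ lam ^ 2 = -1 ∧ Nat.card ↥(Subgroup.closure {g : Matrix.SpecialLinearGroup (Fin 2) F | (g : Matrix (Fin 2) (Fin 2) F) = !![1, 0; 1, 1] ∨ (g : Matrix (Fin 2) (Fin 2) F) = !![1, lam; 0, 1]}) = 120) := by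
  have hset : {g : Matrix.SpecialLinearGroup (Fin 2) F | (g : Matrix (Fin 2) (Fin 2) F) = !![1, 0; 1, 1] ∨ (g : Matrix (Fin 2) (Fin 2) F) = !![1, lam; 0, 1]} = ({v 1, u lam} : Set (Matrix.SpecialLinearGroup (Fin 2) F)) := by
    ext g
    simp only [Set.mem_setOf_eq, Set.mem_insert_iff, Set.mem_singleton_iff]
    constructor
    · rintro (h | h)
      · left; apply Subtype.ext; rw [h, v_coe]
      · right; apply Subtype.ext; rw [h, u_coe]
    · rintro (h | h)
      · left; rw [h, v_coe]
      · right; rw [h, u_coe]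
  rw [hset]
  exact aux h2 lam hlam hgen

end Cfsg.Agent.S0801
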