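import Mathlib
import Cfsg.Statements.S0769

set_option autoImplicit false
open Cfsg

namespace Cfsg.Agent.S0769

open Matrix

section

variable {F : Type*} [Field F] {n : ℕ}

/-- The index set of strictly lower entries. -/
abbrev LowerIdx (n : ℕ) : Type := {p : Fin n × Fin n // p.2 < p.1}

/-- The lower-triangular matrix with prescribed diagonal and strictly lower entries. -/
def lowerMat (d : Fin n → Fˣ) (l : LowerIdx n → F) : Matrix (Fin n) (Fin n) F :=
  fun i j => if i = j then (d i : F) else if h : j < i then l ⟨(i, j), h⟩ else 0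

theorem lowerMat_upper (d : Fin n → Fˣ) (l : LowerIdx n → F) (i j : Fin n) (hij : i < j) :
    lowerMat d l i j = 0 := by
  unfold lowerMat
  rw [if_neg (ne_of_lt hij), dif_neg (not_lt.mpr hij.le)]

theorem lowerMat_diag (d : Fin n → Fˣ) (l : LowerIdx n → F) (i : Fin n) :
    lowerMat d l i i = (d i : F) := by
  unfold lowerMat
  rw [if_pos rfl]

theorem lowerMat_lower (d : Fin n → Fˣ) (l : LowerIdx n → F) (i j : Fin n) (hij : j < i) :
    lowerMat d l i j = l ⟨(i, j), hij⟩ := by
  unfold lowerMat
  rw [if_neg (ne_of_gt hij), dif_pos hij]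

theorem det_lower (M : Matrix (Fin n) (Fin n) F) (h : ∀ i j : Fin n, i < j → M i j = 0) :
    M.det = ∏ i, M i i := by
  apply Matrix.det_of_isLowerTriangular
  intro i j hij
  exact h i j hij

theorem lowerMat_det_ne (d : Fin n → Fˣ) (l : LowerIdx n → F) : (lowerMat d l).det ≠ 0 := by
  rw [det_lower _ (lowerMat_upper d l)]
  apply Finset.prod_ne_zero_iff.mpr
  intro i _
  rw [lowerMat_diag]
  exact (d i).ne_zero

theorem diag_ne_zero (g : GL (Fin n) F) (h : ∀ i j : Fin n, i < j → (g : Matrix (Fin n) (Fin n) F) i j = 0)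
    (i : Fin n) : (g : Matrix (Fin n) (Fin n) F) i i ≠ 0 := by
  have hdet : (g : Matrix (Fin n) (Fin n) F).det ≠ 0 := by
    have := (Matrix.isUnit_iff_isUnit_det _).mp g.isUnit
    exact this.ne_zero
  rw [det_lower _ h] at hdet
  exact (Finset.prod_ne_zero_iff.mp hdet) i (Finset.mem_univ i)

/-- The parametrisation of the lower triangular group. -/
noncomputable def borelEquiv :
    {g : GL (Fin n) F // ∀ i j : Fin n, i < j → (g : Matrix (Fin n) (Fin n) F) i j = 0} ≃
      (Fin n → Fˣ) × (LowerIdx n → F) where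
  toFun g := (fun i => Units.mk0 _ (diag_ne_zero g.1 g.2 i),
    fun p => (g.1 : Matrix (Fin n) (Fin n) F) p.1.1 p.1.2)
  invFun dl := ⟨Matrix.GeneralLinearGroup.mkOfDetNeZero (lowerMat dl.1 dl.2) (lowerMat_det_ne dl.1 dl.2),
    fun i j hij => lowerMat_upper dl.1 dl.2 i j hij⟩
  left_inv g := by
    apply Subtype.ext
    apply Units.ext
    ext i j
    show lowerMat _ _ i j = (g.1 : Matrix (Fin n) (Fin n) F) i j
    rcases lt_trichotomy i j with h | h | h
    · rw [lowerMat_upper _ _ _ _ h, g.2 i j h]
    · subst h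
      rw [lowerMat_diag]
      rfl
    · rw [lowerMat_lower _ _ _ _ h]
  right_inv dl := by
    obtain ⟨d, l⟩ := dl
    apply Prod.ext
    · funext i
      apply Units.ext
      show lowerMat d l i i = _
      rw [lowerMat_diag]
    · funext p
      show lowerMat d l p.1.1 p.1.2 = _
      rw [lowerMat_lower _ _ _ _ p.2]

theorem card_lowerIdx (n : ℕ) : Nat.card (LowerIdx n) = n * (n - 1) / 2 := by
  rw [Nat.card_eq_fintype_card, Fintype.card_subtype, Finset.card_filter, Fintype.sum_prod_type]
  have : ∀ i : Fin n, (∑ j : Fin n, if ((i, j) : Fin n × Fin n).2 < ((i, j) : Fin n × Fin n).1 then 1 else 0) = (i : ℕ) := by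
    intro i
    rw [← Finset.card_filter]
    have : (Finset.univ.filter fun j : Fin n => j < i) = Finset.Iio i := by
      ext j; simp
    rw [this, Fin.card_Iio]
  rw [Finset.sum_congr rfl (fun i _ => this i), Fin.sum_univ_eq_sum_range (fun i => i) n,
    Finset.sum_range_id]

end

/-- Over a field with q elements the Borel subgroup of GL_n (invertible lower-triangular matrices) has order q^(n(n-1)/2) (q-1)^n. -/
theorem result {F : Type*} [Field F] [Fintype F] {q : ℕ} (hF : Fintype.card F = q) (n : ℕ) : Nat.card {g : Matrix.GeneralLinearGroup (Fin n) F // ∀ i j : Fin n, i < j → (g : Matrix (Fin n) (Fin n) F) i j = 0} = q ^ (n * (n - 1) / 2) * (q - 1) ^ n := by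
  rw [Nat.card_congr borelEquiv, Nat.card_prod, Nat.card_fun, Nat.card_fun, Nat.card_units,
    card_lowerIdx, Nat.card_fin, Nat.card_eq_fintype_card, hF, mul_comm]

end Cfsg.Agent.S0769
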