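import Mathlib
import Cfsg.Statements.S4670
import Cfsg.Agent.Lib.Helper23.BlockCorr

set_option autoImplicit false
open Cfsg Cfsg.Agent.Helper23.Blk Cfsg.Agent.Helper24 Cfsg.Agent.Helper18
open scoped ComplexConjugate

namespace Cfsg.Agent.S4670

/-- Fix a prime p and a maximal ideal M of the algebraic integers containing p. Let P be a p-subgroup of the finite group G and H a subgroup containing N_G(P). For every p-block B of G with defect group P there is exactly one p-block c of H with defect group P whose idempotent agrees with that of B, modulo the local ideal at M, at every element of C_G(P) (their Brauer-map images at P coincide); and every p-block c of H with defect group P arises in this way from exactly one such B. This is the Brauer correspondence over H. -/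
theorem result {G : Type*} [Group G] [Fintype G] (p : ℕ) [Fact p.Prime] (M : Ideal Cfsg.AlgInt) (hM : Cfsg.IsPModular p M) (P H : Subgroup G) (hP : IsPGroup p P) (hH : Subgroup.normalizer (P : Set G) ≤ H) : (∀ B : Set (Cfsg.IrrCharacter G), Cfsg.IsPBlock M B → Cfsg.IsDefectGroup p M B P → ∃! c : Set (Cfsg.IrrCharacter H), Cfsg.IsPBlock M c ∧ Cfsg.IsDefectGroup p M c (P.subgroupOf H) ∧ ∀ x : G, x ∈ Subgroup.centralizer (P : Set G) → Cfsg.MemLocalIdeal M (Cfsg.blockCoeff B x - Cfsg.subgroupBlockCoeff H c x)) ∧ (∀ c : Set (Cfsg.IrrCharacter H), Cfsg.IsPBlock M c → Cfsg.IsDefectGroup p M c (P.subgroupOf H) → ∃! B : Set (Cfsg.IrrCharacter G), Cfsg.IsPBlock M B ∧ Cfsg.IsDefectGroup p M B P ∧ ∀ x : G, x ∈ Subgroup.centralizer (P : Set G) → Cfsg.MemLocalIdeal M (Cfsg.blockCoeff B x - Cfsg.subgroupBlockCoeff H c x)) := by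
  classical
  haveI hMp : M.IsPrime := hM.2.1.isPrime
  have hsub : ∀ (c : Set (Cfsg.IrrCharacter H)) (x : G)
      (hx : x ∈ Subgroup.centralizer (P : Set G)),
      Cfsg.subgroupBlockCoeff H c x =
        Cfsg.blockCoeff c ⟨x, hH (Subgroup.centralizer_le_normalizer (P : Set G) hx)⟩ := by
    intro c x hx
    rw [subgroupBlockCoeff_eq_ext0, ext0_of_mem]
  constructor
  · intro B hB hDB
    obtain ⟨b, hb, hDb, -, hbr⟩ := corr_exists_down P hM hP hB hDB
    obtain ⟨c, hc, hDc, hrel⟩ := rel_exists_up P H hM hP hH hb hDb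
    refine ⟨c, ⟨hc, hDc, ?_⟩, ?_⟩
    · intro x hx
      rw [hsub c x hx]
      exact cong_trans (hbr x hx) (cong_symm (hrel x hx))
    · rintro c' ⟨hc', hDc', hc'x⟩
      apply rel_unique_up P H hM hP hH hc' hc hDc' hDc
      intro x hx
      have h1 := hc'x x hx
      rw [hsub c' x hx] at h1
      exact cong_trans (cong_symm h1) (cong_trans (hbr x hx) (cong_symm (hrel x hx)))
  · intro c hc hDc
    obtain ⟨b, hb, hDb, hrel⟩ := rel_exists_down P H hM hP hH hc hDc
    obtain ⟨B, hB, hDB, -, hbr⟩ := corr_exists_up P hM hP hb hDb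
    refine ⟨B, ⟨hB, hDB, ?_⟩, ?_⟩
    · intro x hx
      rw [hsub c x hx]
      exact cong_trans (hbr x hx) (cong_symm (hrel x hx))
    · rintro B' ⟨hB', hDB', hB'x⟩
      apply corr_unique_up P hM hP hB' hB hDB' hDB
      intro x hx
      have h1 := hB'x x hx
      rw [hsub c x hx] at h1
      exact cong_trans h1 (cong_trans (hrel x hx) (cong_symm (hbr x hx)))

end Cfsg.Agent.S4670
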