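import Mathlib
import Cfsg.Statements.S0044

set_option autoImplicit false
open Pointwise
open Cfsg

namespace Cfsg.Agent.S0044

/-- iterated derived subgroups of a subgroup, computed in the ambient group -/
def dser {G : Type*} [Group G] (C : Subgroup G) : ℕ → Subgroup G
  | 0 => C
  | n + 1 => ⁅dser C n, dser C n⁆

theorem dser_normal {G : Type*} [Group G] (C : Subgroup G) [hC : C.Normal] (n : ℕ) :
    (dser C n).Normal := by
  induction n with
  | zero => exact hC
  | succ n ih =>
    haveI := ih
    exact Subgroup.commutator_normal _ _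

theorem dser_le {G : Type*} [Group G] (C : Subgroup G) (n : ℕ) : dser C n ≤ C := by
  induction n with
  | zero => exact le_rfl
  | succ n ih =>
    refine le_trans ?_ ih
    show ⁅dser C n, dser C n⁆ ≤ dser C n
    rw [Subgroup.commutator_le]
    intro g₁ h₁ g₂ h₂
    rw [commutatorElement_def]
    exact Subgroup.mul_mem _ (Subgroup.mul_mem _ (Subgroup.mul_mem _ h₁ h₂) (Subgroup.inv_mem _ h₁))
      (Subgroup.inv_mem _ h₂)

theorem dser_le_derivedSeries {G : Type*} [Group G] (C : Subgroup G) (n : ℕ) :
    dser C n ≤ derivedSeries G n := by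
  induction n with
  | zero => simp [dser]
  | succ n ih =>
    rw [derivedSeries_succ]
    exact Subgroup.commutator_mono ih ih

/-- In a finite solvable group, the centraliser of the Fitting subgroup is contained in the Fitting subgroup. -/
theorem result {G : Type*} [Group G] [Finite G] [Group.IsSolvable G] :
    Subgroup.centralizer (Cfsg.fittingSubgroup G : Set G) ≤ Cfsg.fittingSubgroup G := by
  classical
  set F := Cfsg.fittingSubgroup G with hF
  haveI hFn : F.Normal := Subgroup.sSup_normal _ (fun _ h => h.1)
  set C := Subgroup.centralizer (F : Set G) with hC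
  haveI hCn : C.Normal := Subgroup.normal_centralizer
  have hex : ∃ n, dser C n ≤ F := by
    obtain ⟨n, hn⟩ := (Group.isSolvable_def G).1 inferInstance
    refine ⟨n, ?_⟩
    have := dser_le_derivedSeries C n
    rw [hn] at this
    exact this.trans bot_le
  have hspec := Nat.find_spec hex
  rcases Nat.eq_zero_or_pos (Nat.find hex) with h0 | hpos
  · rw [h0] at hspec
    exact hspec
  · exfalso
    obtain ⟨i, hi⟩ := Nat.exists_eq_succ_of_ne_zero hpos.ne'
    have hnot : ¬ dser C i ≤ F := Nat.find_min hex (by omega)
    rw [hi] at hspec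
    set B := dser C i with hB
    have hBB : ⁅B, B⁆ ≤ F := hspec
    have hBC : B ≤ C := dser_le C i
    have hFB : F ≤ Subgroup.centralizer (B : Set G) := Subgroup.le_centralizer_iff.1 hBC
    have h3 : ⁅⁅B, B⁆, B⁆ = ⊥ :=
      Subgroup.commutator_eq_bot_iff_le_centralizer.2 (hBB.trans hFB)
    have hBnil : Group.IsNilpotent B := by
      rw [Subgroup.isNilpotent_iff_lowerCentralSeries]
      exact ⟨2, h3⟩
    have hBn : B.Normal := dser_normal C i
    apply hnot
    exact le_sSup ⟨hBn, hBnil⟩

end Cfsg.Agent.S0044
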