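import Mathlib
import Cfsg.Statements.S0857
import Cfsg.Agent.Lib.Helper5.GoingDown

set_option autoImplicit false
open Cfsg

namespace Cfsg.Agent.S0857

open Cfsg.Agent.Helper5 Cfsg.Agent.Helper24 in
/-- Let L < K be normal subgroups of the finite group G with no normal subgroup of G strictly between them and with K / L abelian (the commutator subgroup of K lies in L). Let ϑ be an irreducible character of K invariant under conjugation by G. Then the restriction of ϑ to L is irreducible; or it equals e times an irreducible character of L with e ^ 2 equal to the index of L in K; or it is the sum of a family of pairwise distinct irreducible characters of L indexed by a set whose size is the index of L in K. -/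
theorem result {G : Type*} [Group G] [Fintype G] (K L : Subgroup G) [hK : K.Normal] [L.Normal] (hLK : L < K) (hchief : ∀ M : Subgroup G, M.Normal → L ≤ M → M ≤ K → M = L ∨ M = K) (hab : ⁅K, K⁆ ≤ L) (ϑ : K → ℂ) (hϑ : Cfsg.IsIrrCharacter K ϑ) (hinv : ∀ (g : G) (n : K), ϑ ⟨g * n * g⁻¹, hK.conj_mem (n : G) n.2 g⟩ = ϑ n) : Cfsg.IsIrrCharacter L (fun x : L => ϑ ⟨(x : G), hLK.le x.2⟩) ∨ (∃ (φ : L → ℂ) (e : ℕ), Cfsg.IsIrrCharacter L φ ∧ (fun x : L => ϑ ⟨(x : G), hLK.le x.2⟩) = (e : ℂ) • φ ∧ e ^ 2 = L.relIndex K) ∨ (∃ F : Finset (L → ℂ), (∀ φ ∈ F, Cfsg.IsIrrCharacter L φ) ∧ F.card = L.relIndex K ∧ (fun x : L => ϑ ⟨(x : G), hLK.le x.2⟩) = ∑ φ ∈ F, φ) := by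
  classical
  have hLn : L.Normal := inferInstance
  let Lk : Subgroup ↥K := L.subgroupOf K
  haveI : Lk.Normal := Subgroup.Normal.subgroupOf hLn K
  letI : Fintype ↥K := Fintype.ofFinite _
  letI : Fintype Lk := Fintype.ofFinite _
  have hab' : commutator ↥K ≤ Lk := by
    intro x hx
    rw [Subgroup.mem_subgroupOf]
    apply hab
    rw [← Subgroup.map_subtype_commutator]
    exact ⟨x, hx, rfl⟩
  let α : G → MulAut ↥K := fun g => MulAut.conjNormal g
  have hαval : ∀ (g : G) (x : ↥K), ((α g x : ↥K) : G) = g * x * g⁻¹ := fun g x =>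
    MulAut.conjNormal_apply g x
  have hαL : ∀ (g : G) (x : ↥K), x ∈ Lk ↔ α g x ∈ Lk := by
    intro g x
    rw [Subgroup.mem_subgroupOf, Subgroup.mem_subgroupOf, hαval]
    constructor
    · intro h
      exact hLn.conj_mem _ h g
    · intro h
      have := hLn.conj_mem _ h g⁻¹
      simpa [mul_assoc] using this
  have hchief' : ∀ M : Subgroup ↥K, M.Normal → (∀ (g : G) (x : ↥K), x ∈ M → α g x ∈ M) →
      Lk ≤ M → M = Lk ∨ M = ⊤ := by
    intro M hMn hMα hLM
    have hM'n : (M.map K.subtype).Normal := by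
      refine ⟨fun y hy g => ?_⟩
      obtain ⟨x, hx, rfl⟩ := hy
      exact ⟨α g x, hMα g x hx, hαval g x⟩
    have hLM' : L ≤ M.map K.subtype := by
      intro l hl
      exact ⟨⟨l, hLK.le hl⟩, hLM (Subgroup.mem_subgroupOf.mpr hl), rfl⟩
    have hM'K : M.map K.subtype ≤ K := Subgroup.map_subtype_le M
    rcases hchief _ hM'n hLM' hM'K with h | h
    · left
      ext x
      constructor
      · intro hx
        rw [Subgroup.mem_subgroupOf, ← h]
        exact ⟨x, hx, rfl⟩
      · intro hx
        exact hLM hx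
    · right
      rw [eq_top_iff]
      intro x _
      have h1 : (x : G) ∈ M.map K.subtype := by
        rw [h]
        exact x.2
      obtain ⟨y, hy, hyx⟩ := h1
      have h2 : y = x := Subtype.ext hyx
      rwa [← h2]
  have hinv' : ∀ (g : G) (k : ↥K), ϑ (α g k) = ϑ k := by
    intro g k
    have h1 := hinv g k
    have h2 : α g k = ⟨g * k * g⁻¹, hK.conj_mem (k : G) k.2 g⟩ := Subtype.ext (hαval g k)
    rw [h2]
    exact h1
  have key := going_down Lk hab' α hαL hchief' hϑ hinv'
  let e : ↥Lk ≃* ↥L := Subgroup.subgroupOfEquivOfLe hLK.le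
  have hfun : (fun x : L => ϑ ⟨(x : G), hLK.le x.2⟩) = (fun l : Lk => ϑ l) ∘ e.symm := by
    funext x
    rfl
  have hidx : Lk.index = L.relIndex K := rfl
  rcases key with h | ⟨φ, n, hφ, hres, hn⟩ | ⟨F, hF, hFcard, hFsum⟩
  · left
    rw [hfun]
    exact isIrrCharacter_comp_equiv e.symm h
  · right
    left
    refine ⟨φ ∘ e.symm, n, isIrrCharacter_comp_equiv e.symm hφ, ?_, by rw [hn, hidx]⟩
    rw [hfun, hres]
    rfl
  · right
    right
    have hinj : Function.Injective (fun φ : Lk → ℂ => φ ∘ e.symm) := by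
      intro a b hab
      funext x
      have := congrFun hab (e x)
      simpa using this
    refine ⟨F.map ⟨_, hinj⟩, ?_, ?_, ?_⟩
    · intro φ hφ
      rw [Finset.mem_map] at hφ
      obtain ⟨ψ, hψ, rfl⟩ := hφ
      exact isIrrCharacter_comp_equiv e.symm (hF ψ hψ)
    · rw [Finset.card_map, hFcard, hidx]
    · rw [hfun, hFsum, Finset.sum_map]
      funext x
      simp [Finset.sum_apply]

end Cfsg.Agent.S0857
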