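import Mathlib
import Cfsg.Statements.S0539
import Cfsg.Agent.Lib.Helper3.Subnormal

set_option autoImplicit false
open Cfsg
open scoped Pointwise

namespace Cfsg.Agent.S0539

open Cfsg.Agent.Helper3

theorem result {G : Type*} [Group G] [Finite G] (S S₀ : Set (Subgroup G)) (hS : ∀ U ∈ S, U.IsSubnormal) (hconj : ∀ U ∈ S, ∀ g : G, MulAut.conj g • U ∈ S) (h₀ : S₀ ⊂ S) : ∃ X ∈ S, X ∉ S₀ ∧ X ≤ Subgroup.normalizer ((sSup S₀ : Subgroup G) : Set G) := by
  set A : Subgroup G := sSup S₀ with hAdef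
  have hA : A.IsSubnormal := isSubnormal_sSup S₀ (fun U hU => hS U (h₀.subset hU))
  by_cases hAn : A.Normal
  · obtain ⟨X, hXS, hXS₀⟩ := Set.exists_of_ssubset h₀
    refine ⟨X, hXS, hXS₀, ?_⟩
    rw [Subgroup.normalizer_eq_top_iff.mpr hAn]; exact le_top
  -- minimal C with A subnormal but not normal in C
  have htop : A ≤ ⊤ ∧ (A.subgroupOf ⊤).IsSubnormal ∧ ¬ (A.subgroupOf ⊤).Normal := by
    refine ⟨le_top, hA.subgroupOf, ?_⟩
    intro h
    rw [Subgroup.normal_subgroupOf_iff_le_normalizer le_top, top_le_iff,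
      Subgroup.normalizer_eq_top_iff] at h
    exact hAn h
  obtain ⟨C, -, hC⟩ := Finite.exists_le_minimal
    (p := fun C : Subgroup G => A ≤ C ∧ (A.subgroupOf C).IsSubnormal ∧ ¬ (A.subgroupOf C).Normal)
    htop
  obtain ⟨hAC, hACsub, hACn⟩ := hC.prop
  set B : Subgroup G := ⨆ x ∈ C, MulAut.conj x • A with hB
  have hAB : A ≤ B := by
    have h1 : MulAut.conj (1 : G) • A ≤ B :=
      le_iSup₂_of_le (f := fun (x : G) (_ : x ∈ C) => MulAut.conj x • A) 1 C.one_mem le_rfl
    rwa [map_one, one_smul] at h1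
  have hconjC : ∀ x ∈ C, MulAut.conj x • A ≤ C := by
    intro x hx y hy
    rw [mem_conj_smul_iff] at hy
    have := C.mul_mem (C.mul_mem hx (hAC hy)) (C.inv_mem hx)
    have e : x * (x⁻¹ * y * x) * x⁻¹ = y := by group
    rwa [e] at this
  have hBC : B ≤ C := iSup₂_le hconjC
  have hCB : C ≤ Subgroup.normalizer (B : Set G) := by
    apply le_normalizer_of_forall_conj_smul_le
    intro c hc
    have h1 : B ≤ MulAut.conj c⁻¹ • B := by
      apply iSup₂_le
      intro x hx
      rw [← Subgroup.pointwise_smul_le_pointwise_smul_iff (a := MulAut.conj c), smul_smul,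
        smul_smul, ← map_mul, ← map_mul, mul_inv_cancel, map_one, one_smul]
      exact le_iSup₂_of_le (f := fun (x : G) (_ : x ∈ C) => MulAut.conj x • A) (c * x)
        (C.mul_mem hc hx) le_rfl
    have h2 := Subgroup.pointwise_smul_le_pointwise_smul_iff (a := MulAut.conj c).mpr h1
    rwa [smul_smul, ← map_mul, mul_inv_cancel, map_one, one_smul] at h2
  -- B is a proper subgroup of C
  have hBneC : B ≠ C := by
    intro hBCeq
    have hne : A.subgroupOf C ≠ ⊤ := by
      intro h; apply hACn; rw [h]; infer_instance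
    obtain ⟨N', hN'n, hAN', hN'lt⟩ := hACsub.exists_normal_and_le_and_lt_top_of_ne hne
    have hle : B ≤ N'.map C.subtype := by
      apply iSup₂_le
      intro x hx y hy
      rw [mem_conj_smul_iff] at hy
      have h1 : (⟨x⁻¹ * y * x, hAC hy⟩ : C) ∈ N' := hAN' (Subgroup.mem_subgroupOf.mpr hy)
      have h2 := hN'n.conj_mem _ h1 ⟨x, hx⟩
      refine ⟨_, h2, ?_⟩
      simp only [Subgroup.coe_subtype, Subgroup.coe_mul, Subgroup.coe_inv]
      group
    apply hN'lt.ne
    rw [eq_top_iff]
    intro c _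
    have hcB : (c : G) ∈ B := by rw [hBCeq]; exact c.2
    obtain ⟨c', hc', hcc'⟩ := hle hcB
    have : c' = c := Subtype.ext hcc'
    rwa [← this]
  -- A is normal in B
  have hABn : (A.subgroupOf B).Normal := by
    by_contra hcon
    have := hC.le_of_le ⟨hAB, subgroupOf_isSubnormal_of_le hBC hACsub, hcon⟩ hBC
    exact hBneC (le_antisymm hBC this)
  have hBNA : B ≤ Subgroup.normalizer (A : Set G) :=
    (Subgroup.normal_subgroupOf_iff_le_normalizer hAB).mp hABn
  have hBneA : B ≠ A := by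
    intro h
    apply hACn
    rw [Subgroup.normal_subgroupOf_iff_le_normalizer hAC, ← h]
    exact hCB
  -- some C-conjugate of A is not in A
  have hex : ∃ x ∈ C, ¬ MulAut.conj x • A ≤ A := by
    by_contra hcon
    push Not at hcon
    exact hBneA (le_antisymm (iSup₂_le hcon) hAB)
  obtain ⟨x, hxC, hxA⟩ := hex
  have hex2 : ∃ U ∈ S₀, ¬ MulAut.conj x • U ≤ A := by
    by_contra hcon
    push Not at hcon
    apply hxA
    have h1 : A ≤ MulAut.conj x⁻¹ • A := by
      rw [hAdef]
      apply sSup_le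
      intro U hU
      have := hcon U hU
      rw [← Subgroup.pointwise_smul_le_pointwise_smul_iff (a := MulAut.conj x), smul_smul,
        ← map_mul, mul_inv_cancel, map_one, one_smul]
      exact this
    have h2 := Subgroup.pointwise_smul_le_pointwise_smul_iff (a := MulAut.conj x).mpr h1
    rwa [smul_smul, ← map_mul, mul_inv_cancel, map_one, one_smul] at h2
  obtain ⟨U, hUS₀, hUA⟩ := hex2
  refine ⟨MulAut.conj x • U, hconj U (h₀.subset hUS₀) x, ?_, ?_⟩
  · intro h
    exact hUA (le_sSup h)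
  · have h1 : MulAut.conj x • U ≤ MulAut.conj x • A :=
      Subgroup.pointwise_smul_le_pointwise_smul_iff.mpr (le_sSup hUS₀)
    have h2 : MulAut.conj x • A ≤ B :=
      le_iSup₂_of_le (f := fun (x : G) (_ : x ∈ C) => MulAut.conj x • A) x hxC le_rfl
    exact h1.trans (h2.trans hBNA)

end Cfsg.Agent.S0539
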