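import Mathlib
import Cfsg.Statements.S3947
import Cfsg.Agent.Lib.Helper19.FZMain

set_option autoImplicit false
open Cfsg

namespace Cfsg.Agent.S3947

open Subgroup
open scoped Pointwise
open Cfsg.Agent.Helper1 Cfsg.Agent.Helper3 Cfsg.Agent.Helper19.FZ

/-- uniqueness of the coatom above `A`, by induction on the index-like measure `|G| - |A|`. -/
theorem main_aux {G : Type*} [Group G] [Finite G] : ∀ (n : ℕ) (A : Subgroup G),
    Nat.card G - Nat.card A = n → A ≠ ⊤ → Subgroup.normalClosure (A : Set G) = ⊤ →
    sSup (hset A) ≠ ⊤ →
    ∀ K L : Subgroup G, IsCoatom K → IsCoatom L → A ≤ K → A ≤ L → K = L := by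
  intro n
  induction n using Nat.strong_induction_on with
  | _ n ih =>
    intro A hn hAtop hA hY K L hK hL hAK hAL
    have IH : IHyp G (Nat.card A) := by
      intro T hT hTtop hTn hTY K' L' hK' hL' hTK' hTL'
      have hle : Nat.card T ≤ Nat.card G := Subgroup.card_le_card_group T
      exact ih (Nat.card G - Nat.card T) (by omega) T rfl hTtop hTn hTY K' L' hK' hL' hTK' hTL'
    by_cases hall : ∀ L' : Subgroup G, IsCoatom L' → A ≤ L' → (A.subgroupOf L').IsSubnormal
    · -- Wielandt's zipper lemma
      have hyp : ∀ X : Subgroup G, A ≤ X → X < ⊤ → (A.subgroupOf X).IsSubnormal := by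
        intro X hAX hX
        obtain ⟨L', hL', hXL'⟩ := exists_coatom_ge hX.ne
        exact sn_mono hXL' (hall L' hL' (hAX.trans hXL'))
      have hnot : ¬ (A.subgroupOf ⊤).IsSubnormal := by
        intro h
        exact hAtop (eq_of_sn_of_cn le_top h (cn_top_of_normalClosure hA))
      obtain ⟨M, -, -, huniq⟩ := zipper ⊤ _ A le_top rfl hyp hnot
      exact (huniq K hAK (isMaxIn_top_iff.mpr hK)).trans
        (huniq L hAL (isMaxIn_top_iff.mpr hL)).symm
    · push Not at hall
      obtain ⟨M, hM, hAM, hbad⟩ := hall
      -- a bad coatom contains a member of `hset A` bigger than `A`, which lies in a unique coatom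
      have key : ∀ L' : Subgroup G, IsCoatom L' → A ≤ L' → ¬ (A.subgroupOf L').IsSubnormal →
          ∀ M' : Subgroup G, IsCoatom M' → sSup (hset A) ≤ M' → L' = M' := by
        intro L' hL' hAL' hbad' M' hM' hYM'
        obtain ⟨T, hAT, hTL', hsn, hcn⟩ := exists_sn_closure hAL'
        have hTtop : T ≠ ⊤ := by
          intro e
          apply hL'.1
          rw [eq_top_iff, ← e]
          exact hTL'
        have hTmem : T ∈ hset A := ⟨hAT, hTtop, hcn⟩
        have hAT' : A < T := by
          refine lt_of_le_of_ne hAT ?_
          intro e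
          apply hbad'
          rw [e]
          exact hsn
        have hTY : sSup (hset T) ≠ ⊤ := by
          intro e
          apply hY
          rw [eq_top_iff, ← e]
          exact sSup_le_sSup (hset_subset hAT hcn)
        exact IH T (card_lt_of_lt hAT') hTtop (normalClosure_mono_top hAT hA) hTY L' M' hL' hM'
          hTL' ((le_sSup hTmem).trans hYM')
      obtain ⟨M', hM', hYM'⟩ := exists_coatom_ge hY
      have hMM' : M = M' := key M hM hAM hbad M' hM' hYM'
      have hgood : ∀ L' : Subgroup G, IsCoatom L' → A ≤ L' → L' ≠ M →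
          (A.subgroupOf L').IsSubnormal := by
        intro L' hL' hAL' hne
        by_contra hbad'
        exact hne ((key L' hL' hAL' hbad' M' hM' hYM').trans hMM'.symm)
      have hMn : normalizer (M : Set G) = M :=
        coatom_normalizer hM (coatom_not_normal hA hM hAM)
      have hN : normalizer (A : Set G) ≤ M := by
        intro x hx
        have hxA : MulAut.conj x • A = A := conj_smul_eq_of_mem_normalizer hx
        have hAxM : A ≤ MulAut.conj x • M := by
          rw [← hxA]
          exact Subgroup.pointwise_smul_le_pointwise_smul_iff.mpr hAM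
        by_cases e : MulAut.conj x • M = M
        · rw [← hMn]
          exact mem_normalizer_of_conj_smul_eq e
        · exfalso
          apply hbad
          have h1 := sn_conj x⁻¹ (hgood _ (coatom_conj hM x) hAxM e)
          rw [smul_smul, ← map_mul, inv_mul_cancel, map_one, one_smul] at h1
          have h2 : MulAut.conj x⁻¹ • A = A := by
            conv_lhs => rw [← hxA]
            rw [smul_smul, ← map_mul, inv_mul_cancel, map_one, one_smul]
          rwa [h2] at h1
      have hbd : Bd (Nat.card A) A M := ⟨hA, rfl, hM, hAM, hgood, hN⟩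
      exact (core IH hbd hK hAK).trans (core IH hbd hL hAL).symm

/-- Let G be a finite group and A a proper subgroup of G whose normal closure is G. Let Y be the join of all proper subgroups H of G that contain A and are generated by their own conjugates of A (the normal closure of A in H is H). Then either Y = G, or A is contained in exactly one maximal subgroup of G. -/
theorem result {G : Type*} [Group G] [Finite G] (A : Subgroup G) (hA : Subgroup.normalClosure (A : Set G) = ⊤) (hAG : A ≠ ⊤) :
    sSup {H : Subgroup G | A ≤ H ∧ H ≠ ⊤ ∧ Subgroup.normalClosure ((A.subgroupOf H : Subgroup ↥H) : Set ↥H) = ⊤} = ⊤ ∨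
      ∃! M : Subgroup G, IsCoatom M ∧ A ≤ M := by
  rw [hset_eq]
  by_cases hY : sSup (hset A) = ⊤
  · left; exact hY
  · right
    obtain ⟨M, hM, hAM⟩ := exists_coatom_ge hAG
    refine ⟨M, ⟨hM, hAM⟩, ?_⟩
    rintro K ⟨hK, hAK⟩
    exact main_aux _ A rfl hAG hA hY K M hK hM hAK hAM

end Cfsg.Agent.S3947
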