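import Mathlib
import Cfsg.Agent.Lib.Helper14.CNOdd2
import Cfsg.Statements.S0183
-- import your own Cfsg.Agent.* helpers here

set_option autoImplicit false
open Cfsg

namespace Cfsg.Agent.S0183

universe u

theorem aux (n : ℕ) : ∀ (G : Type u) [Group G] [Finite G], Nat.card G = n → Odd (Nat.card G) →
    Cfsg.IsCNGroup G → Group.IsSolvable G := by
  induction n using Nat.strong_induction_on with
  | _ n ih =>
    intro G _ _ hn hodd hCN
    by_contra hns
    have hsub : ∀ K : Subgroup G, K ≠ ⊤ → Group.IsSolvable K := by
      intro K hK
      have hle : Nat.card K ≤ Nat.card G := Subgroup.card_le_card_group K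
      have hne : Nat.card K ≠ Nat.card G := fun h => hK (Subgroup.card_eq_iff_eq_top K |>.mp h)
      have hlt : Nat.card K < n := by rw [← hn]; exact lt_of_le_of_ne hle hne
      exact ih (Nat.card K) hlt K rfl (Odd.of_dvd_nat hodd (Subgroup.card_subgroup_dvd_card K))
        (Cfsg.Agent.Helper14.CNOdd.cn_subgroup hCN K)
    have hnontriv : Nontrivial G := by
      by_contra h
      rw [not_nontrivial_iff_subsingleton] at h
      exact hns inferInstance
    have hsimple : IsSimpleGroup G := by
      refine ⟨fun N hN => ?_⟩
      by_contra hN'
      push Not at hN'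
      haveI := hN
      haveI h1 : Group.IsSolvable N := hsub N hN'.2
      haveI h2 : Group.IsSolvable (G ⧸ N) := by
        have hidx : N.index * Nat.card N = Nat.card G := Subgroup.index_mul_card N
        have hN1 : 1 < Nat.card N := (Subgroup.one_lt_card_iff_ne_bot (H := N)).mpr hN'.1
        have hcq : Nat.card (G ⧸ N) = N.index := rfl
        have hpos : 0 < N.index := Nat.pos_of_ne_zero Subgroup.index_ne_zero_of_finite
        have hlt : Nat.card (G ⧸ N) < n := by
          rw [← hn, hcq, ← hidx]
          nlinarith
        have hdvd : Nat.card (G ⧸ N) ∣ Nat.card G := by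
          rw [hcq, ← hidx]; exact dvd_mul_right _ _
        exact ih _ hlt (G ⧸ N) rfl (Odd.of_dvd_nat hodd hdvd)
          (Cfsg.Agent.S1473.result hCN N h1)
      exact hns (solvable_of_ker_le_range N.subtype (QuotientGroup.mk' N) (by simp))
    have hnab : ¬ IsMulCommutative G := fun h => hns (isSolvable_of_comm (fun a b => mul_comm' a b))
    exact Cfsg.Agent.Helper14.CNOdd.no_minsimple ⟨hodd, hsimple, hnab, hsub⟩ hCN

/-- The CN-Theorem for odd order: a finite group of odd order in which every non-identity element has a nilpotent centralizer (a CN-group) is solvable. -/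
theorem result {G : Type*} [Group G] [Finite G] (hodd : Odd (Nat.card G)) (hCN : Cfsg.IsCNGroup G) : Group.IsSolvable G := by
  exact aux (Nat.card G) G rfl hodd hCN

end Cfsg.Agent.S0183
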