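import Mathlib
import Cfsg.Statements.S0132
import Cfsg.Agent.Lib.Helper10.Frobenius5
import Cfsg.Agent.Lib.Helper7.Fitting

set_option autoImplicit false
open Cfsg
open Cfsg.Agent.Helper10
open scoped commutatorElement

namespace Cfsg.Agent.S0132

/-- nilpotent finite groups satisfy Frobenius' condition -/
theorem frobCond_of_isNilpotent {G : Type*} [Group G] [Finite G] (p : ℕ) [hp : Fact p.Prime]
    (hG : Group.IsNilpotent G) : FrobCond p G := by
  have hsyl : ∀ (ℓ : ℕ) (_ : Fact ℓ.Prime) (L : Sylow ℓ G), (L : Subgroup G).Normal :=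
    ((isNilpotent_of_finite_tfae (G := G)).out 0 3).mp hG
  intro Q hQ g _ hcop
  obtain ⟨P, hQP⟩ := hQ.exists_le_sylow
  have hPn : (P : Subgroup G).Normal := hsyl p hp P
  set C := Subgroup.centralizer ((P : Subgroup G) : Set G) with hC
  have hCn : C.Normal := Subgroup.normal_centralizer
  have hidx : ∃ k : ℕ, C.index = p ^ k := by
    refine ⟨_, Nat.eq_prime_pow_of_unique_prime_dvd (Subgroup.index_ne_zero_of_finite) ?_⟩
    intro ℓ hℓ hdvd
    by_contra hne
    haveI : Fact ℓ.Prime := ⟨hℓ⟩
    let L : Sylow ℓ G := default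
    have hLn : (L : Subgroup G).Normal := hsyl ℓ ⟨hℓ⟩ L
    have hdisj : Disjoint (L : Subgroup G) (P : Subgroup G) :=
      IsPGroup.disjoint_of_ne ℓ p hne _ _ L.2 P.2
    have hLC : (L : Subgroup G) ≤ C := by
      intro x hx
      rw [hC, Subgroup.mem_centralizer_iff]
      intro y hy
      exact ((Subgroup.commute_of_normal_of_disjoint _ _ hLn hPn hdisj x y hx hy).eq).symm
    have h1 : C.index ∣ (L : Subgroup G).index := Subgroup.index_dvd_of_le hLC
    exact L.not_dvd_index (hdvd.trans h1)
  have hgC : g ∈ C := mem_of_coprime_order_of_index_pow hidx hcop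
  exact Subgroup.centralizer_le (by exact_mod_cast hQP) hgC

theorem hasNormalPComplement_of_isNilpotent {G : Type*} [Group G] [Finite G] (p : ℕ)
    [hp : Fact p.Prime] (hG : Group.IsNilpotent G) : Cfsg.HasNormalPComplement p G :=
  (npc_of_frobCond _ G rfl (frobCond_of_isNilpotent p hG)).hasNormalPComplement

/-- A minimal non-p-nilpotent finite group is a minimal non-nilpotent group with a normal Sylow p-subgroup. -/
theorem result {G : Type*} [Group G] [Finite G] {p : ℕ} [Fact p.Prime] (h1 : ¬ Cfsg.HasNormalPComplement p G) (h2 : ∀ H : Subgroup G, H ≠ ⊤ → Cfsg.HasNormalPComplement p H) : (∀ H : Subgroup G, H ≠ ⊤ → Group.IsNilpotent H) ∧ ¬ Group.IsNilpotent G ∧ ∀ P : Sylow p G, (P : Subgroup G).Normal := by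
  classical
  have hp : Fact p.Prime := inferInstance
  -- failure of Frobenius' condition
  have hnF : ¬ FrobCond p G := fun hF => h1 (npc_of_frobCond _ G rfl hF).hasNormalPComplement
  unfold FrobCond at hnF
  push_neg at hnF
  obtain ⟨Q, hQ, g, hgN, hcop, hgC⟩ := hnF
  -- any subgroup containing `Q` and `g` is everything
  have hA : ∀ H : Subgroup G, Q ≤ H → g ∈ H → H = ⊤ := by
    intro H hQH hgH
    by_contra hne
    have hF : FrobCond p H := frobCond_of_npc (npc_of_hasNormalPComplement (h2 H hne))
    have hQ' : IsPGroup p (Q.subgroupOf H) := hQ.comap_subtype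
    have hgN' : (⟨g, hgH⟩ : H) ∈ Subgroup.normalizer ((Q.subgroupOf H : Subgroup H) : Set H) := by
      rw [Subgroup.mem_normalizer_iff]
      intro y
      rw [Subgroup.mem_subgroupOf, Subgroup.mem_subgroupOf]
      have := Subgroup.mem_normalizer_iff.mp hgN (y : G)
      simpa using this
    have hord : orderOf (⟨g, hgH⟩ : H) = orderOf g := Subgroup.orderOf_mk g hgH
    have h3 := hF _ hQ' ⟨g, hgH⟩ hgN' (by rw [hord]; exact hcop)
    apply hgC
    rw [Subgroup.mem_centralizer_iff] at h3 ⊢
    intro q hq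
    have := h3 ⟨q, hQH hq⟩ (by rw [SetLike.mem_coe, Subgroup.mem_subgroupOf]; exact hq)
    exact congrArg Subtype.val this
  have hQtop : Subgroup.normalizer (Q : Set G) = ⊤ := hA _ Subgroup.le_normalizer hgN
  have hQn : Q.Normal := Subgroup.normalizer_eq_top_iff.mp hQtop
  have hsup : Subgroup.zpowers g ⊔ Q = ⊤ := hA _ le_sup_right (le_sup_left (a := Subgroup.zpowers g) (Subgroup.mem_zpowers g))
  -- index of `Q` is prime to `p`
  have hidx : Q.index ∣ orderOf g := by
    have h3 : Q.relIndex (Subgroup.zpowers g ⊔ Q) = Q.relIndex (Subgroup.zpowers g) :=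
      Subgroup.relIndex_sup_right _ _
    rw [hsup, Subgroup.relIndex_top_right] at h3
    rw [h3, ← Nat.card_zpowers]
    exact Subgroup.relIndex_dvd_card _ _
  have hidxcop : (Q.index).Coprime p := Nat.Coprime.coprime_dvd_left hidx hcop
  have hnd : ¬ p ∣ Q.index := by
    intro hd
    exact hp.out.ne_one (Nat.Coprime.eq_one_of_dvd hidxcop.symm hd)
  -- `Q` is the unique Sylow `p`-subgroup
  have hsyl : ∀ P : Sylow p G, (P : Subgroup G) = Q := by
    intro P
    let Q' : Sylow p G := hQ.toSylow hnd
    have hQ'n : (Q' : Subgroup G).Normal := hQn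
    have _ := Sylow.unique_of_normal Q' hQ'n
    have : P = Q' := Subsingleton.elim _ _
    rw [this]; rfl
  have hcommQ : _root_.commutator G ≤ Q := by
    haveI := hQn
    refine Subgroup.Normal.commutator_le_of_self_sup_commutative_eq_top (H := Subgroup.zpowers g)
      (by rw [sup_comm]; exact hsup) inferInstance
  refine ⟨?_, ?_, ?_⟩
  · intro H hH
    obtain ⟨N, hNn, hNc, hNk⟩ := npc_of_hasNormalPComplement (h2 H hH)
    have hQH : IsPGroup p (Q.subgroupOf H) := hQ.comap_subtype
    haveI hQHn : (Q.subgroupOf H).Normal := hQn.subgroupOf H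
    have hndH : ¬ p ∣ (Q.subgroupOf H).index := by
      intro hd
      haveI := hQn
      exact hnd (hd.trans (Subgroup.relIndex_dvd_index_of_normal Q H))
    have hcompl : N.IsComplement' (Q.subgroupOf H) :=
      isComplement'_of_npc hNc hNk (hQH.toSylow hndH)
    have hNcomm : ∀ a b : N, a * b = b * a := by
      intro a b
      rw [← commutatorElement_eq_one_iff_mul_comm]
      have h3 : ((⁅a, b⁆ : N) : H) ∈ N ⊓ Q.subgroupOf H := by
        refine ⟨(⁅a, b⁆ : N).2, ?_⟩
        show ((⁅a, b⁆ : N) : H) ∈ Q.subgroupOf H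
        rw [Subgroup.mem_subgroupOf]
        apply hcommQ
        have : (((⁅a, b⁆ : N) : H) : G) = ⁅((a : H) : G), ((b : H) : G)⁆ := by
          simp [commutatorElement_def]
        rw [this]
        exact Subgroup.commutator_mem_commutator (Subgroup.mem_top _) (Subgroup.mem_top _)
      rw [hcompl.disjoint.eq_bot, Subgroup.mem_bot] at h3
      exact Subtype.ext h3
    have hNnil : Group.IsNilpotent N := by
      letI : CommGroup N := { (inferInstance : Group N) with mul_comm := hNcomm }
      exact CommGroup.isNilpotent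
    have hQnil : Group.IsNilpotent (Q.subgroupOf H) := hQH.isNilpotent
    haveI := hNn
    have h4 := Cfsg.Agent.Helper7.isNilpotent_sup_of_normal N (Q.subgroupOf H) hNnil hQnil
    rw [hcompl.sup_eq_top] at h4
    exact Group.nilpotent_of_mulEquiv (Subgroup.topEquiv (G := H))
  · intro hnil
    exact h1 (hasNormalPComplement_of_isNilpotent p hnil)
  · intro P
    rw [hsyl P]; exact hQn

end Cfsg.Agent.S0132
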