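import Mathlib
import Cfsg.Statements.S5911

set_option autoImplicit false
open Cfsg

namespace Cfsg.Agent.S5911

open Nat Equiv

open Nat

theorem two_pow_lt (k : ℕ) (hk : 3 ≤ k) : 2 ^ k * (k + 1)! < (2 * k)! := by
  induction k, hk using Nat.le_induction with
  | base => decide
  | succ m hm ih =>
    have e1 : (2 * (m + 1))! = (2 * m + 2) * ((2 * m + 1) * (2 * m)!) := by
      rw [show 2 * (m + 1) = (2 * m + 1) + 1 by ring, Nat.factorial_succ, Nat.factorial_succ]
    have e2 : (m + 1 + 1)! = (m + 2) * (m + 1)! := by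
      rw [Nat.factorial_succ]
    rw [e1, e2, pow_succ]
    have h3 : 2 * (m + 2) ≤ (2 * m + 2) * (2 * m + 1) := by nlinarith
    calc 2 ^ m * 2 * ((m + 2) * (m + 1)!) = (2 * (m + 2)) * (2 ^ m * (m + 1)!) := by ring
      _ ≤ ((2 * m + 2) * (2 * m + 1)) * (2 ^ m * (m + 1)!) := Nat.mul_le_mul_right _ h3
      _ < ((2 * m + 2) * (2 * m + 1)) * (2 * m)! := Nat.mul_lt_mul_of_pos_left ih (by positivity)
      _ = (2 * m + 2) * ((2 * m + 1) * (2 * m)!) := by ring

theorem arith (j k : ℕ) (h : (j + 2 * k)! * 2 = j ! * 2 ^ (k + 1) * (k + 1)!) :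
    k = 0 ∨ (j = 0 ∧ k = 2) := by
  have hj : 0 < j ! := Nat.factorial_pos _
  rcases Nat.lt_or_ge k 3 with hk | hk
  · interval_cases k
    · left; rfl
    · exfalso
      have e : (j + 2 * 1)! = (j + 2) * ((j + 1) * j !) := by
        rw [show j + 2 * 1 = (j + 1) + 1 by ring, Nat.factorial_succ, Nat.factorial_succ]
      rw [e] at h
      norm_num [Nat.factorial] at h
      have : (j + 2) * (j + 1) = 4 := by nlinarith
      have hj2 : j ≤ 1 := by nlinarith
      interval_cases j <;> omega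
    · right
      refine ⟨?_, rfl⟩
      have e : (j + 2 * 2)! = (j + 4) * ((j + 3) * ((j + 2) * ((j + 1) * j !))) := by
        rw [show j + 2 * 2 = (j + 1 + 1 + 1) + 1 by ring, Nat.factorial_succ, Nat.factorial_succ,
          Nat.factorial_succ, Nat.factorial_succ]
      rw [e] at h
      norm_num [Nat.factorial] at h
      by_contra hj0
      have hj1 : 1 ≤ j := Nat.one_le_iff_ne_zero.mpr hj0
      have h5 : 5 ≤ j + 4 := by omega
      have h4 : 4 ≤ j + 3 := by omega
      have h3 : 3 ≤ j + 2 := by omega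
      have h2 : 2 ≤ j + 1 := by omega
      have : (j + 4) * ((j + 3) * ((j + 2) * (j + 1))) = 24 := by nlinarith
      have h54 : 5 * 4 ≤ (j + 4) * (j + 3) := Nat.mul_le_mul h5 h4
      have h32 : 3 * 2 ≤ (j + 2) * (j + 1) := Nat.mul_le_mul h3 h2
      have : 5 * 4 * (3 * 2) ≤ (j + 4) * (j + 3) * ((j + 2) * (j + 1)) := Nat.mul_le_mul h54 h32
      nlinarith
  · exfalso
    have h1 := two_pow_lt k hk
    have h2 : j ! * (2 * k)! ≤ (j + 2 * k)! :=
      Nat.le_of_dvd (Nat.factorial_pos _) (Nat.factorial_mul_factorial_dvd_factorial_add _ _)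
    have h3 : j ! * (2 ^ k * (k + 1)!) < j ! * (2 * k)! := Nat.mul_lt_mul_of_pos_left h1 hj
    have h4 : j ! * 2 ^ (k + 1) * (k + 1)! = (j ! * (2 ^ k * (k + 1)!)) * 2 := by
      rw [pow_succ]; ring
    rw [h4] at h
    omega


theorem card_replicate_two {A : Type*} [Fintype A] [DecidableEq A] (k : ℕ)
    (hk : 2 * (k + 1) ≤ Fintype.card A) :
    (Finset.univ.filter fun g : Perm A => g.cycleType = Multiset.replicate (k + 1) 2).card *
      ((Fintype.card A - 2 * (k + 1))! * 2 ^ (k + 1) * (k + 1)!) = (Fintype.card A)! := by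
  have h := Equiv.Perm.card_of_cycleType_mul_eq A (Multiset.replicate (k + 1) 2)
  have hsum : (Multiset.replicate (k + 1) 2).sum = 2 * (k + 1) := by
    rw [Multiset.sum_replicate, smul_eq_mul, mul_comm]
  have hprod : (Multiset.replicate (k + 1) 2).prod = 2 ^ (k + 1) := by
    rw [Multiset.prod_replicate]
  have hfin : (Multiset.replicate (k + 1) 2).toFinset = {2} := by
    ext x
    rw [Multiset.mem_toFinset, Multiset.mem_replicate, Finset.mem_singleton]
    constructor
    · intro h; exact h.2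
    · intro h; exact ⟨by omega, h⟩
  rw [if_pos, hsum, hprod, hfin] at h
  · simpa using h
  · rw [hsum]
    refine ⟨hk, fun a ha => ?_⟩
    rw [Multiset.mem_replicate] at ha
    omega

theorem map_isSwap {A B : Type*} [Fintype A] [DecidableEq A] [Fintype B] [DecidableEq B]
    (e : Perm A ≃* Perm B) (hAB : Fintype.card A = Fintype.card B) (h6 : Fintype.card A ≠ 6)
    (g : Perm A) (hg : g.IsSwap) : (e g).IsSwap := by
  have hord : orderOf (e g) = 2 := by
    rw [MulEquiv.orderOf_eq]; exact hg.orderOf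
  have hprime : (orderOf (e g)).Prime := by rw [hord]; exact Nat.prime_two
  obtain ⟨k, hk⟩ := Equiv.Perm.cycleType_prime_order hprime
  rw [hord] at hk
  have hgc : g.cycleType = Multiset.replicate (0 + 1) 2 := by
    rw [Equiv.Perm.isSwap_iff_cycleType] at hg
    rw [hg]; rfl
  -- the two classes have the same cardinality
  have hcard : (Finset.univ.filter fun σ : Perm A => σ.cycleType = Multiset.replicate (0 + 1) 2).card =
      (Finset.univ.filter fun τ : Perm B => τ.cycleType = Multiset.replicate (k + 1) 2).card := by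
    apply Finset.card_bij (fun σ _ => e σ)
    · intro σ hσ
      simp only [Finset.mem_filter, Finset.mem_univ, true_and] at hσ ⊢
      rw [← hk, ← Equiv.Perm.isConj_iff_cycleType_eq]
      have : IsConj σ g := by
        rw [Equiv.Perm.isConj_iff_cycleType_eq, hσ, hgc]
      exact e.toMonoidHom.map_isConj this
    · intro a _ b _ hab
      exact e.injective hab
    · intro τ hτ
      simp only [Finset.mem_filter, Finset.mem_univ, true_and] at hτ
      refine ⟨e.symm τ, ?_, by simp⟩
      simp only [Finset.mem_filter, Finset.mem_univ, true_and]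
      rw [← hgc, ← Equiv.Perm.isConj_iff_cycleType_eq]
      have : IsConj τ (e g) := by
        rw [Equiv.Perm.isConj_iff_cycleType_eq, hτ, hk]
      have h2 := e.symm.toMonoidHom.map_isConj this
      simpa using h2
  have hA2 : 2 * (0 + 1) ≤ Fintype.card A := by
    have := Equiv.Perm.sum_cycleType_le g
    rw [hgc] at this
    simpa using this
  have hB2 : 2 * (k + 1) ≤ Fintype.card B := by
    have := Equiv.Perm.sum_cycleType_le (e g)
    rw [hk, Multiset.sum_replicate, smul_eq_mul, mul_comm] at this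
    exact this
  have h1 := card_replicate_two (A := A) 0 hA2
  have h2 := card_replicate_two (A := B) k hB2
  rw [hcard] at h1
  rw [← hAB] at h2 hB2
  set n := Fintype.card A with hn
  set c := (Finset.univ.filter fun τ : Perm B => τ.cycleType = Multiset.replicate (k + 1) 2).card
  have hc : c ≠ 0 := by
    intro h0
    rw [h0, zero_mul] at h2
    exact (Nat.factorial_ne_zero n) h2.symm
  have h3 : (n - 2 * (0 + 1))! * 2 ^ (0 + 1) * (0 + 1)! =
      (n - 2 * (k + 1))! * 2 ^ (k + 1) * (k + 1)! := by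
    apply Nat.eq_of_mul_eq_mul_left (Nat.pos_of_ne_zero hc)
    rw [h1, h2]
  obtain ⟨j, hj⟩ : ∃ j, n = j + 2 * (k + 1) := ⟨n - 2 * (k + 1), by omega⟩
  have h4 : (j + 2 * k)! * 2 = j ! * 2 ^ (k + 1) * (k + 1)! := by
    have e1 : n - 2 * (0 + 1) = j + 2 * k := by omega
    have e2 : n - 2 * (k + 1) = j := by omega
    rw [e1, e2] at h3
    simpa using h3
  rcases arith j k h4 with h0 | ⟨hj0, hk2⟩
  · rw [Equiv.Perm.isSwap_iff_cycleType, hk, h0]; rfl
  · exfalso
    apply h6
    rw [hj, hj0, hk2]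


theorem eq_pair {Ω : Type*} [DecidableEq Ω] {T : Finset Ω} (hT : T.card = 2) {u v : Ω}
    (hu : u ∈ T) (hv : v ∈ T) (huv : u ≠ v) : T = {u, v} := by
  symm
  apply Finset.eq_of_subset_of_card_le
  · intro x hx
    rw [Finset.mem_insert, Finset.mem_singleton] at hx
    rcases hx with rfl | rfl <;> assumption
  · rw [hT, Finset.card_pair huv]

theorem star {I Ω : Type*} [DecidableEq Ω] (S : I → Finset Ω) (hcard : ∀ a, (S a).card = 2)
    (hinj : Function.Injective S) (hmeet : ∀ a b, a ≠ b → ¬ Disjoint (S a) (S b))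
    (h4 : ∀ a b c : I, ∃ d, d ≠ a ∧ d ≠ b ∧ d ≠ c) (a₀ : I) : ∃ p, ∀ a, p ∈ S a := by
  obtain ⟨a₁, ha₁, -, -⟩ := h4 a₀ a₀ a₀
  -- a₁ ≠ a₀
  obtain ⟨p, hp⟩ := Finset.not_disjoint_iff.mp (hmeet a₀ a₁ ha₁.symm)
  refine ⟨p, fun a => ?_⟩
  by_contra hpa
  have ha0 : a ≠ a₀ := fun h => hpa (h ▸ hp.1)
  have ha1 : a ≠ a₁ := fun h => hpa (h ▸ hp.2)
  -- S a₀ = {p, q}, S a₁ = {p, r}
  obtain ⟨q, hq⟩ := Finset.not_disjoint_iff.mp (hmeet a a₀ ha0)
  obtain ⟨r, hr⟩ := Finset.not_disjoint_iff.mp (hmeet a a₁ ha1)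
  have hqp : q ≠ p := fun h => hpa (h ▸ hq.1)
  have hrp : r ≠ p := fun h => hpa (h ▸ hr.1)
  have hS0 : S a₀ = {p, q} := eq_pair (hcard a₀) hp.1 hq.2 hqp.symm
  have hS1 : S a₁ = {p, r} := eq_pair (hcard a₁) hp.2 hr.2 hrp.symm
  have hqr : q ≠ r := by
    intro h
    apply ha₁
    apply hinj
    rw [hS0, hS1, h]
  have hSa : S a = {q, r} := eq_pair (hcard a) hq.1 hr.1 hqr
  obtain ⟨b, hb0, hb1, hba⟩ := h4 a₀ a₁ a
  by_cases hpb : p ∈ S b
  · obtain ⟨z, hz⟩ := Finset.not_disjoint_iff.mp (hmeet b a hba)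
    rw [hSa, Finset.mem_insert, Finset.mem_singleton] at hz
    rcases hz.2 with rfl | rfl
    · apply hb0
      apply hinj
      rw [hS0]
      exact eq_pair (hcard b) hpb hz.1 hqp.symm
    · apply hb1
      apply hinj
      rw [hS1]
      exact eq_pair (hcard b) hpb hz.1 hrp.symm
  · obtain ⟨q', hq'⟩ := Finset.not_disjoint_iff.mp (hmeet b a₀ hb0)
    obtain ⟨r', hr'⟩ := Finset.not_disjoint_iff.mp (hmeet b a₁ hb1)
    rw [hS0, Finset.mem_insert, Finset.mem_singleton] at hq'
    rw [hS1, Finset.mem_insert, Finset.mem_singleton] at hr'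
    have hq'' : q ∈ S b := by
      rcases hq'.2 with rfl | rfl
      · exact absurd hq'.1 hpb
      · exact hq'.1
    have hr'' : r ∈ S b := by
      rcases hr'.2 with rfl | rfl
      · exact absurd hr'.1 hpb
      · exact hr'.1
    apply hba
    apply hinj
    rw [hSa]
    exact eq_pair (hcard b) hq'' hr'' hqr


/-- a swap is determined by its support -/
theorem swap_eq_of_support_eq {Ω : Type*} [Fintype Ω] [DecidableEq Ω] {s t : Perm Ω}
    (hs : s.IsSwap) (ht : t.IsSwap) (h : s.support = t.support) : s = t := by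
  obtain ⟨u, v, huv, rfl⟩ := hs
  obtain ⟨u', v', huv', rfl⟩ := ht
  rw [Equiv.Perm.support_swap huv, Equiv.Perm.support_swap huv'] at h
  have hu : u ∈ ({u', v'} : Finset Ω) := h ▸ (by simp)
  have hv : v ∈ ({u', v'} : Finset Ω) := h ▸ (by simp)
  rw [Finset.mem_insert, Finset.mem_singleton] at hu hv
  rcases hu with rfl | rfl <;> rcases hv with rfl | rfl
  · exact absurd rfl huv
  · rfl
  · exact Equiv.swap_comm _ _
  · exact absurd rfl huv

theorem fixed_point {X Ω : Type*} [Fintype X] [DecidableEq X] [Fintype Ω] [DecidableEq Ω]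
    (ψ : Perm X ≃* Perm Ω) (hψ : ∀ s : Perm X, s.IsSwap → (ψ s).IsSwap)
    (hX : 5 ≤ Fintype.card X) (x₀ : X) :
    ∃ p : Ω, ∀ g : Perm X, g x₀ = x₀ → ψ g p = p := by
  classical
  let I := {a : X // a ≠ x₀}
  let S : I → Finset Ω := fun a => (ψ (swap x₀ a.1)).support
  have hsw : ∀ a : I, (ψ (swap x₀ a.1)).IsSwap := fun a => hψ _ ⟨x₀, a.1, a.2.symm, rfl⟩
  have hcard : ∀ a, (S a).card = 2 := fun a => Equiv.Perm.card_support_eq_two.mpr (hsw a)
  have hinj : Function.Injective S := by
    intro a b hab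
    have h1 := swap_eq_of_support_eq (hsw a) (hsw b) hab
    have h2 := ψ.injective h1
    have h3 : swap x₀ a.1 x₀ = swap x₀ b.1 x₀ := by rw [h2]
    rw [Equiv.swap_apply_left, Equiv.swap_apply_left] at h3
    exact Subtype.ext h3
  have hmeet : ∀ a b, a ≠ b → ¬ Disjoint (S a) (S b) := by
    intro a b hab hdis
    have hd : Equiv.Perm.Disjoint (ψ (swap x₀ a.1)) (ψ (swap x₀ b.1)) :=
      Equiv.Perm.disjoint_iff_disjoint_support.mpr hdis
    have hc := hd.commute
    have hc' : swap x₀ a.1 * swap x₀ b.1 = swap x₀ b.1 * swap x₀ a.1 := by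
      apply ψ.injective
      rw [map_mul, map_mul]
      exact hc
    have h3 := congrArg (fun f : Perm X => f b.1) hc'
    simp only [Equiv.Perm.mul_apply, Equiv.swap_apply_right] at h3
    rw [Equiv.swap_apply_left] at h3
    have hba : b.1 ≠ a.1 := fun h => hab (Subtype.ext h.symm)
    rw [Equiv.swap_apply_of_ne_of_ne b.2 hba, Equiv.swap_apply_right] at h3
    exact a.2 h3
  have hcardI : 4 ≤ Fintype.card I := by
    have : Fintype.card I = Fintype.card X - 1 := by
      simp only [I]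
      rw [Fintype.card_subtype_compl, Fintype.card_subtype_eq]
    omega
  have h4 : ∀ a b c : I, ∃ d, d ≠ a ∧ d ≠ b ∧ d ≠ c := by
    intro a b c
    have hlt : ({a, b, c} : Finset I).card < (Finset.univ : Finset I).card := by
      calc ({a, b, c} : Finset I).card ≤ 3 := Finset.card_le_three
        _ < Fintype.card I := by omega
    obtain ⟨d, -, hd⟩ := Finset.exists_mem_notMem_of_card_lt_card hlt
    simp only [Finset.mem_insert, Finset.mem_singleton, not_or] at hd
    exact ⟨d, hd.1, hd.2.1, hd.2.2⟩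
  obtain ⟨a₀, -, -, -⟩ : ∃ d : I, d = d ∧ True ∧ True := by
    have : 0 < Fintype.card I := by omega
    obtain ⟨d⟩ := Fintype.card_pos_iff.mp this
    exact ⟨d, rfl, trivial, trivial⟩
  obtain ⟨p, hp⟩ := star S hcard hinj hmeet h4 a₀
  -- uniqueness
  have huniq : ∀ p', (∀ a, p' ∈ S a) → p' = p := by
    intro p' hp'
    by_contra hne
    obtain ⟨a₁, ha₁, -, -⟩ := h4 a₀ a₀ a₀
    apply ha₁
    apply hinj
    rw [eq_pair (hcard a₁) (hp' a₁) (hp a₁) hne, eq_pair (hcard a₀) (hp' a₀) (hp a₀) hne]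
  refine ⟨p, fun g hg => ?_⟩
  have key : ∀ x, g (g⁻¹ x) = x := fun x => by
    rw [Equiv.Perm.inv_def]; exact g.apply_symm_apply x
  apply huniq
  intro b
  -- b = g • a with a = g⁻¹ b
  have ha : g⁻¹ b.1 ≠ x₀ := by
    intro h
    apply b.2
    have := congrArg g h
    rw [key, hg] at this
    exact this
  have hconj : ψ g * ψ (swap x₀ (g⁻¹ b.1)) * (ψ g)⁻¹ = ψ (swap x₀ b.1) := by
    rw [← map_inv, ← map_mul, ← map_mul, ← Equiv.swap_apply_apply, hg, key]
  have hmem : p ∈ (ψ (swap x₀ (g⁻¹ b.1))).support := hp ⟨g⁻¹ b.1, ha⟩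
  show ψ g p ∈ (ψ (swap x₀ b.1)).support
  rw [← hconj, Equiv.Perm.support_conj, Finset.mem_map]
  exact ⟨p, hmem, rfl⟩


/-- stabilizer index -/
theorem index_stab {Ω : Type*} [Fintype Ω] [DecidableEq Ω] (x : Ω) :
    (MulAction.stabilizer (Perm Ω) x).index = Fintype.card Ω := by
  rw [MulAction.index_stabilizer_of_transitive, Nat.card_eq_fintype_card]

theorem eq_stab_of_le {Ω : Type*} [Fintype Ω] [DecidableEq Ω]
    (H : Subgroup (Perm Ω)) (hH : H.index = Fintype.card Ω) (x : Ω)
    (hle : H ≤ MulAction.stabilizer (Perm Ω) x) : H = MulAction.stabilizer (Perm Ω) x := by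
  have h1 := index_stab x
  have h2 := Subgroup.card_mul_index H
  have h3 := Subgroup.card_mul_index (MulAction.stabilizer (Perm Ω) x)
  rw [hH] at h2
  rw [h1] at h3
  have hpos : 0 < Fintype.card Ω := Fintype.card_pos_iff.mpr ⟨x⟩
  have h4 : Nat.card H = Nat.card (MulAction.stabilizer (Perm Ω) x) := by
    apply Nat.eq_of_mul_eq_mul_right hpos
    rw [h2, h3]
  exact Subgroup.eq_of_le_of_card_ge hle h4.ge

theorem main_case {Ω : Type*} [Fintype Ω] [DecidableEq Ω] (h5 : 5 ≤ Fintype.card Ω)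
    (h6 : Fintype.card Ω ≠ 6)
    (H : Subgroup (Equiv.Perm Ω)) (hH : H.index = Fintype.card Ω) :
    ∃ x : Ω, H = MulAction.stabilizer (Equiv.Perm Ω) x := by
  classical
  have hfi : H.FiniteIndex := ⟨by rw [hH]; omega⟩
  let _ : Fintype (Perm Ω ⧸ H) := Fintype.ofFinite _
  have hcardX : Fintype.card (Perm Ω ⧸ H) = Fintype.card Ω := by
    rw [← Nat.card_eq_fintype_card, ← hH]; rfl
  set ff := MulAction.toPermHom (Perm Ω) (Perm Ω ⧸ H) with hffdef
  have hker : ff.ker = ⊥ := by
    by_contra hne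
    have hnt : Nontrivial ff.ker := (Subgroup.nontrivial_iff_ne_bot _).mpr hne
    have hle : alternatingGroup Ω ≤ ff.ker :=
      Equiv.Perm.alternatingGroup_le_of_normal (by rw [Nat.card_eq_fintype_card]; exact h5) hnt
    have hle2 : ff.ker ≤ H := by
      rw [hffdef, ← Subgroup.normalCore_eq_ker]; exact Subgroup.normalCore_le H
    have hdvd := Subgroup.index_dvd_of_le (hle.trans hle2)
    have hnt' : Nontrivial Ω := Fintype.one_lt_card_iff_nontrivial.mp (by omega)
    rw [alternatingGroup.index_eq_two, hH] at hdvd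
    have := Nat.le_of_dvd (by norm_num) hdvd
    omega
  have hinj : Function.Injective ff := (MonoidHom.ker_eq_bot_iff ff).mp hker
  have hbij : Function.Bijective ff := by
    rw [Fintype.bijective_iff_injective_and_card]
    refine ⟨hinj, ?_⟩
    rw [Fintype.card_perm, Fintype.card_perm, hcardX]
  let e : Perm Ω ≃* Perm (Perm Ω ⧸ H) := MulEquiv.ofBijective ff hbij
  have hψ : ∀ s : Perm (Perm Ω ⧸ H), s.IsSwap → (e.symm s).IsSwap := by
    intro s hs
    exact map_isSwap e.symm hcardX (by rw [hcardX]; exact h6) s hs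
  obtain ⟨p, hp⟩ := fixed_point e.symm hψ (by rw [hcardX]; exact h5) ((1 : Perm Ω) : Perm Ω ⧸ H)
  refine ⟨p, eq_stab_of_le H hH p ?_⟩
  intro h hh
  rw [MulAction.mem_stabilizer_iff]
  have h1 : e h ((1 : Perm Ω) : Perm Ω ⧸ H) = ((1 : Perm Ω) : Perm Ω ⧸ H) := by
    show h • ((1 : Perm Ω) : Perm Ω ⧸ H) = _
    have : h ∈ MulAction.stabilizer (Perm Ω) ((1 : Perm Ω) : Perm Ω ⧸ H) := by
      rw [MulAction.stabilizer_quotient]; exact hh
    exact this
  have h2 := hp (e h) h1
  rw [MulEquiv.symm_apply_apply] at h2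
  exact h2


theorem card_of_index {Ω : Type*} [Fintype Ω] [DecidableEq Ω] {n : ℕ}
    (hn : Fintype.card Ω = n + 1)
    (H : Subgroup (Perm Ω)) (hH : H.index = Fintype.card Ω) : Nat.card H = n ! := by
  have h2 := Subgroup.card_mul_index H
  rw [hH, Nat.card_eq_fintype_card (α := Perm Ω), Fintype.card_perm, hn, Nat.factorial_succ,
    mul_comm] at h2
  exact Nat.eq_of_mul_eq_mul_left (by omega) h2

theorem small_case {Ω : Type*} [Fintype Ω] [DecidableEq Ω] {q : ℕ} (hq : q.Prime) (hq3 : q ≤ 3)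
    (hn : Fintype.card Ω = q + 1)
    (H : Subgroup (Equiv.Perm Ω)) (hH : H.index = Fintype.card Ω) :
    ∃ x : Ω, H = MulAction.stabilizer (Equiv.Perm Ω) x := by
  classical
  have hq2 : 2 ≤ q := hq.two_le
  have hcardH : Nat.card H = q ! := card_of_index hn H hH
  have : Fact q.Prime := ⟨hq⟩
  have hdvd : q ∣ Nat.card H := by
    rw [hcardH]; exact Nat.dvd_factorial (by omega) le_rfl
  obtain ⟨c, hc⟩ := exists_prime_orderOf_dvd_card' q hdvd
  have hc' : orderOf (c : Perm Ω) = q := by rw [Subgroup.orderOf_coe]; exact hc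
  -- the cycle type of c
  obtain ⟨k, hk⟩ := Equiv.Perm.cycleType_prime_order (σ := (c : Perm Ω)) (by rw [hc']; exact hq)
  rw [hc'] at hk
  have hsum := Equiv.Perm.sum_cycleType_le (c : Perm Ω)
  rw [hk, Multiset.sum_replicate, smul_eq_mul, hn] at hsum
  have hk0 : k = 0 := by
    by_contra hne
    have : 2 ≤ k + 1 := by omega
    have : 2 * q ≤ (k + 1) * q := Nat.mul_le_mul_right q this
    omega
  have hsupp : (c : Perm Ω).support.card = q := by
    rw [← Equiv.Perm.sum_cycleType, hk, hk0]; simp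
  have hcompl : ((c : Perm Ω).support)ᶜ.card = 1 := by
    rw [Finset.card_compl, hsupp, hn]; omega
  obtain ⟨p, hp⟩ := Finset.card_eq_one.mp hcompl
  have hfix : ∀ x, (c : Perm Ω) x = x ↔ x = p := by
    intro x
    rw [← Equiv.Perm.notMem_support, ← Finset.mem_compl, hp, Finset.mem_singleton]
  -- the subgroup generated by c is normal in H
  set C : Subgroup H := Subgroup.zpowers c with hC
  have hcardC : Nat.card C = q := by rw [hC, Nat.card_zpowers, hc]
  have hidx : C.index = (q - 1)! := by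
    have h1 := Subgroup.card_mul_index C
    rw [hcardC, hcardH] at h1
    have h2 : q ! = q * (q - 1)! := by
      rw [← Nat.mul_factorial_pred (by omega)]
    rw [h2] at h1
    exact Nat.eq_of_mul_eq_mul_left (by omega) h1
  have hnormal : C.Normal := by
    have : q = 2 ∨ q = 3 := by
      rcases Nat.lt_or_ge q 3 with h | h
      · left; omega
      · right; omega
    rcases this with h | h
    · have h1 : C.index = 1 := by rw [hidx, h]; rfl
      rw [Subgroup.index_eq_one] at h1
      rw [h1]; infer_instance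
    · have h1 : C.index = 2 := by rw [hidx, h]; rfl
      exact Subgroup.normal_of_index_eq_two h1
  refine ⟨p, eq_stab_of_le H hH p ?_⟩
  intro h hh
  rw [MulAction.mem_stabilizer_iff]
  have hmem : (⟨h, hh⟩ : H) * c * (⟨h, hh⟩ : H)⁻¹ ∈ C :=
    hnormal.conj_mem c (Subgroup.mem_zpowers c) _
  rw [hC, ← mem_powers_iff_mem_zpowers, Submonoid.mem_powers_iff] at hmem
  obtain ⟨m, hm⟩ := hmem
  have hm' : (c : Perm Ω) ^ m = h * (c : Perm Ω) * h⁻¹ := by
    have := congrArg (Subtype.val) hm
    simpa using this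
  have hcne : (c : Perm Ω) ≠ 1 := by
    intro h1
    rw [h1, orderOf_one] at hc'
    omega
  have hndvd : ¬ q ∣ m := by
    intro hd
    obtain ⟨r, rfl⟩ := hd
    rw [pow_mul, ← hc', pow_orderOf_eq_one, one_pow] at hm'
    apply hcne
    have : (c : Perm Ω) = h⁻¹ * (h * (c : Perm Ω) * h⁻¹) * h := by group
    rw [this, ← hm']; group
  have hcop : Nat.Coprime m (orderOf (c : Perm Ω)) := by
    rw [hc']
    exact ((Nat.Prime.coprime_iff_not_dvd hq).mpr hndvd).symm
  have hsupp2 := Equiv.Perm.support_pow_coprime hcop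
  have h3 : ((c : Perm Ω) ^ m) (h p) = h p := by
    rw [hm']
    simp only [Equiv.Perm.mul_apply]
    rw [Equiv.Perm.inv_def, Equiv.symm_apply_apply, (hfix p).mpr rfl]
  have h4 : h p ∉ ((c : Perm Ω) ^ m).support := by
    rw [Equiv.Perm.notMem_support]; exact h3
  rw [hsupp2, Equiv.Perm.notMem_support, hfix] at h4
  exact h4


theorem tiny_case {Ω : Type*} [Fintype Ω] [DecidableEq Ω] {n : ℕ} (hn1 : n ≤ 1)
    (hn : Fintype.card Ω = n + 1)
    (H : Subgroup (Equiv.Perm Ω)) (hH : H.index = Fintype.card Ω) :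
    ∃ x : Ω, H = MulAction.stabilizer (Equiv.Perm Ω) x := by
  have hpos : 0 < Fintype.card Ω := by omega
  obtain ⟨x⟩ := Fintype.card_pos_iff.mp hpos
  refine ⟨x, ?_⟩
  have hfac : n ! = 1 := by interval_cases n <;> rfl
  have h1 : Nat.card H = 1 := by rw [card_of_index hn H hH, hfac]
  have h2 : Nat.card (MulAction.stabilizer (Perm Ω) x) = 1 := by
    rw [card_of_index hn _ (index_stab x), hfac]
  rw [Subgroup.card_eq_one.mp h1, Subgroup.card_eq_one.mp h2]

/-- Let Ω be a finite set whose size n is not 6. Then every subgroup of the symmetric group on Ω of index n is the stabilizer of a point. -/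
theorem result {Ω : Type*} [Fintype Ω] [DecidableEq Ω] (h6 : Fintype.card Ω ≠ 6)
    (H : Subgroup (Equiv.Perm Ω)) (hH : H.index = Fintype.card Ω) :
    ∃ x : Ω, H = MulAction.stabilizer (Equiv.Perm Ω) x := by
  rcases Nat.lt_or_ge (Fintype.card Ω) 5 with hlt | hge
  · rcases Nat.eq_zero_or_pos (Fintype.card Ω) with h0 | hpos
    · exfalso
      rw [h0] at hH
      exact Subgroup.index_ne_zero_of_finite hH
    · obtain ⟨n, hn⟩ : ∃ n, Fintype.card Ω = n + 1 := ⟨Fintype.card Ω - 1, by omega⟩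
      have hn4 : n ≤ 3 := by omega
      rcases Nat.lt_or_ge n 2 with h2 | h2
      · exact tiny_case (by omega) hn H hH
      · have hp : n.Prime := by
          interval_cases n
          · exact Nat.prime_two
          · exact Nat.prime_three
        exact small_case hp hn4 hn H hH
  · exact main_case hge h6 H hH

end Cfsg.Agent.S5911
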