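import Mathlib
import Cfsg.Agent.S0721
import Cfsg.Agent.S3680
import Cfsg.Agent.S0035
import Cfsg.Statements.S0700
-- import your own Cfsg.Agent.* helpers here

set_option autoImplicit false
open Cfsg

namespace Cfsg.Agent.S0700

open MulAction
open scoped Pointwise

theorem semireg' {G Ω : Type*} [Group G] [MulAction G Ω] [FaithfulSMul G Ω]
    (A B : Subgroup G) (hc : ∀ a ∈ A, ∀ b ∈ B, a * b = b * a)
    (hA : ∀ x y : Ω, ∃ a ∈ A, a • x = y)
    (ω : Ω) (b : G) (hb : b ∈ B) (hfix : b • ω = ω) : b = 1 := by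
  apply FaithfulSMul.eq_of_smul_eq_smul (α := Ω)
  intro ω'
  obtain ⟨a, ha, ha'⟩ := hA ω ω'
  rw [← ha', one_smul, smul_smul, ← hc a ha b hb, ← smul_smul, hfix]

theorem trans_of_normal_in {G Ω : Type*} [Group G] [MulAction G Ω] [FaithfulSMul G Ω]
    (N : Subgroup G) [IsPreprimitive N Ω] (T : Subgroup G) (hTN : T ≤ N)
    (hnorm : ∀ n ∈ N, ∀ t ∈ T, n * t * n⁻¹ ∈ T) (hT : T ≠ ⊥) :
    ∀ a b : Ω, ∃ t ∈ T, t • a = b := by
  haveI hn : (T.subgroupOf N).Normal := by
    constructor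
    intro t ht n
    rw [Subgroup.mem_subgroupOf] at ht ⊢
    exact hnorm n n.2 t ht
  have hne : fixedPoints (T.subgroupOf N) Ω ≠ Set.univ := by
    intro h
    apply hT
    rw [Subgroup.eq_bot_iff_forall]
    intro t ht
    apply FaithfulSMul.eq_of_smul_eq_smul (α := Ω)
    intro ω
    have h1 : ω ∈ fixedPoints (T.subgroupOf N) Ω := by rw [h]; trivial
    have h2 := h1 ⟨⟨t, hTN ht⟩, by rw [Subgroup.mem_subgroupOf]; exact ht⟩
    rw [one_smul]
    exact h2
  have hpt : IsPretransitive (T.subgroupOf N) Ω :=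
    IsQuasiPreprimitive.isPretransitive_of_normal hne
  intro a b
  obtain ⟨t, ht⟩ := hpt.exists_smul_eq a b
  exact ⟨((t : N) : G), Subgroup.mem_subgroupOf.mp t.2, ht⟩

theorem exists_prime_exponent' {G : Type*} [Group G] [Finite G] (T : Subgroup G) (hT : T ≠ ⊥)
    (h : ∀ x ∈ T, ∀ y ∈ T, x ≠ 1 → y ≠ 1 → orderOf x = orderOf y) :
    ∃ p : ℕ, p.Prime ∧ ∀ t ∈ T, t ^ p = 1 := by
  have hcard : Nat.card T ≠ 1 := fun hc => hT (Subgroup.card_eq_one.mp hc)
  obtain ⟨p, hp, hpd⟩ := Nat.exists_prime_and_dvd hcard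
  haveI := Fact.mk hp
  obtain ⟨x, hx⟩ := exists_prime_orderOf_dvd_card' p hpd
  have hx' : orderOf (x : G) = p := by rw [Subgroup.orderOf_coe]; exact hx
  have hx1 : (x : G) ≠ 1 := by
    intro h1
    rw [h1, orderOf_one] at hx'
    exact hp.one_lt.ne hx'
  refine ⟨p, hp, fun t ht => ?_⟩
  by_cases ht1 : t = 1
  · rw [ht1, one_pow]
  · rw [← hx', h x x.2 t ht hx1 ht1]
    exact pow_orderOf_eq_one t

theorem exists_central {G : Type*} [Group G] [Finite G] (T : Subgroup G) (hT : T ≠ ⊥) (p : ℕ)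
    (hp : p.Prime) (hexp : ∀ t ∈ T, t ^ p = 1) :
    ∃ z ∈ T, z ≠ 1 ∧ ∀ t ∈ T, z * t = t * z := by
  haveI := Fact.mk hp
  have hpg : IsPGroup p T := fun t => ⟨1, by
    rw [pow_one]; exact Subtype.ext (by simpa using hexp t t.2)⟩
  haveI : Nontrivial T := (Subgroup.nontrivial_iff_ne_bot T).mpr hT
  haveI := hpg.center_nontrivial
  obtain ⟨z, hz⟩ := exists_ne (1 : Subgroup.center T)
  refine ⟨((z : T) : G), (z : T).2, ?_, ?_⟩
  · intro h1
    apply hz
    apply Subtype.ext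
    apply Subtype.ext
    exact h1
  · intro t ht
    have := Subgroup.mem_center_iff.mp z.2 ⟨t, ht⟩
    exact (congrArg Subtype.val this).symm

theorem regular_case {G Ω : Type*} [Group G] [Finite G] [MulAction G Ω] [FaithfulSMul G Ω]
    (h2 : ∀ a b c d : Ω, a ≠ b → c ≠ d → ∃ g : G, g • a = c ∧ g • b = d)
    (N : Subgroup G) [hNn : N.Normal] (hN : N ≠ ⊥) (α : Ω)
    (hreg : ∀ n ∈ N, n • α = α → n = 1) :
    (∀ a ∈ N, ∀ b ∈ N, a * b = b * a) ∧ ∃ p : ℕ, p.Prime ∧ ∀ n ∈ N, n ^ p = 1 := by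
  have hconj : ∀ x ∈ N, ∀ y ∈ N, x ≠ 1 → y ≠ 1 → ∃ g : G, y = g * x * g⁻¹ := by
    intro x hx y hy hx1 hy1
    have hxα : x • α ≠ α := fun h => hx1 (hreg x hx h)
    have hyα : y • α ≠ α := fun h => hy1 (hreg y hy h)
    obtain ⟨g, hg1, hg2⟩ := h2 α (x • α) α (y • α) hxα.symm hyα.symm
    refine ⟨g, ?_⟩
    have hmem : y⁻¹ * (g * x * g⁻¹) ∈ N := N.mul_mem (N.inv_mem hy) (hNn.conj_mem x hx g)
    have hfix : (y⁻¹ * (g * x * g⁻¹)) • α = α := by
      have hg3 : g⁻¹ • α = α := by rw [inv_smul_eq_iff, hg1]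
      rw [mul_smul, mul_smul, mul_smul, hg3, hg2, inv_smul_smul]
    exact inv_mul_eq_one.mp (hreg _ hmem hfix)
  have hord : ∀ x ∈ N, ∀ y ∈ N, x ≠ 1 → y ≠ 1 → orderOf x = orderOf y := by
    intro x hx y hy hx1 hy1
    obtain ⟨g, hg⟩ := hconj x hx y hy hx1 hy1
    rw [hg]
    exact ((MulAut.conj g).orderOf_eq x).symm
  obtain ⟨p, hp, hexp⟩ := exists_prime_exponent' N hN hord
  obtain ⟨z, hzN, hz1, hzc⟩ := exists_central N hN p hp hexp
  refine ⟨?_, p, hp, hexp⟩
  have hcen : ∀ y ∈ N, ∀ n ∈ N, y * n = n * y := by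
    intro y hy n hn
    by_cases hy1 : y = 1
    · rw [hy1, one_mul, mul_one]
    · obtain ⟨g, hg⟩ := hconj z hzN y hy hz1 hy1
      have hn' : g⁻¹ * n * g ∈ N := by
        have := hNn.conj_mem n hn g⁻¹
        simpa using this
      have h1 := hzc _ hn'
      rw [hg]
      calc g * z * g⁻¹ * n = g * (z * (g⁻¹ * n * g)) * g⁻¹ := by group
        _ = g * ((g⁻¹ * n * g) * z) * g⁻¹ := by rw [h1]
        _ = n * (g * z * g⁻¹) := by group
  exact hcen

theorem two_point_stab_trivial {G Ω : Type*} [Group G] [MulAction G Ω] [FaithfulSMul G Ω]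
    [Finite Ω]
    (h2 : ∀ a b c d : Ω, a ≠ b → c ≠ d → ∃ g : G, g • a = c ∧ g • b = d)
    (N : Subgroup G) [hNn : N.Normal] [hNt : IsPretransitive N Ω] (hnp : ¬ IsPreprimitive N Ω)
    (h : G) (hh : h ∈ N) (a b : Ω) (hab : a ≠ b) (ha : h • a = a) (hb : h • b = b) : h = 1 := by
  classical
  have hex0 : ∃ B : Set Ω, IsBlock N B ∧ ¬ IsTrivialBlock B := by
    by_contra hcon
    apply hnp
    refine ⟨fun {B} hB => ?_⟩
    by_contra hnt
    exact hcon ⟨B, hB, hnt⟩
  obtain ⟨B₀, hB₀, hB₀nt⟩ := hex0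
  have hex : ∃ k, ∃ B : Set Ω, IsBlock N B ∧ ¬ IsTrivialBlock B ∧ B.ncard = k :=
    ⟨_, B₀, hB₀, hB₀nt, rfl⟩
  obtain ⟨B, hB, hBnt, hBk⟩ := Nat.find_spec hex
  have hmin : ∀ C : Set Ω, IsBlock N C → ¬ IsTrivialBlock C → Nat.find hex ≤ C.ncard :=
    fun C h1 h2 => Nat.find_min' hex ⟨C, h1, h2, rfl⟩
  have hline_block : ∀ g : G, IsBlock N (g • B) := by
    intro g
    have h1 := IsBlock.of_subgroup_of_conjugate hB g
    have h2 : N.map (MulAut.conj g).toMonoidHom = N := by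
      have := S0721.cj_normal g N
      exact this
    rwa [h2] at h1
  have hline_card : ∀ g : G, (g • B).ncard = Nat.find hex := by
    intro g; rw [Set.ncard_smul_set, hBk]
  have hline_ne : ∀ g : G, g • B ≠ Set.univ := by
    intro g hg
    apply hBnt
    right
    have : B = g⁻¹ • (g • B) := by rw [inv_smul_smul]
    rw [this, hg, Set.smul_set_univ]
  have hP2 : ∀ g g' : G, ∀ x y : Ω, x ≠ y → x ∈ g • B → y ∈ g • B → x ∈ g' • B → y ∈ g' • B →
      g • B = g' • B := by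
    intro g g' x y hxy hx hy hx' hy'
    have hC : IsBlock N (g • B ∩ g' • B) := (hline_block g).inter (hline_block g')
    have hCnt : ¬ IsTrivialBlock (g • B ∩ g' • B) := by
      rintro (hs | hu)
      · exact hxy (hs ⟨hx, hx'⟩ ⟨hy, hy'⟩)
      · apply hline_ne g
        apply Set.eq_univ_of_univ_subset
        rw [← hu]
        exact Set.inter_subset_left
    have hk := hmin _ hC hCnt
    have e1 : g • B ∩ g' • B = g • B :=
      Set.eq_of_subset_of_ncard_le Set.inter_subset_left (by rw [hline_card]; exact hk)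
        (Set.toFinite _)
    have e2 : g • B ∩ g' • B = g' • B :=
      Set.eq_of_subset_of_ncard_le Set.inter_subset_right (by rw [hline_card]; exact hk)
        (Set.toFinite _)
    rw [← e1, e2]
  have hP3 : ∀ x y : Ω, x ≠ y → ∃ g : G, x ∈ g • B ∧ y ∈ g • B := by
    intro x y hxy
    have hns : ¬ B.Subsingleton := fun hs => hBnt (Or.inl hs)
    obtain ⟨b₁, hb₁, b₂, hb₂, hne⟩ := Set.not_subsingleton_iff.mp hns
    obtain ⟨g, hg1, hg2⟩ := h2 b₁ b₂ x y hne hxy
    exact ⟨g, hg1 ▸ Set.smul_mem_smul_set hb₁, hg2 ▸ Set.smul_mem_smul_set hb₂⟩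
  have hF : ∀ n ∈ N, ∀ g : G, ∀ d ∈ g • B, n • d = d → ∀ x ∈ g • B, n • x ∈ g • B := by
    intro n hn g d hd hfix x hx
    have h1 : (⟨n, hn⟩ : N) • (g • B) = g • B := by
      apply (isBlock_iff_smul_eq_of_mem.mp (hline_block g)) hd
      show n • d ∈ g • B
      rw [hfix]; exact hd
    have h3 : (⟨n, hn⟩ : N) • x ∈ (⟨n, hn⟩ : N) • (g • B) := Set.smul_mem_smul_set hx
    rw [h1] at h3
    exact h3
  have hG : ∀ n ∈ N, ∀ d₁ d₂ : Ω, d₁ ≠ d₂ → n • d₁ = d₁ → n • d₂ = d₂ → ∀ g : G, d₁ ∈ g • B →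
      d₂ ∈ g • B → ∀ c, c ∉ g • B → n • c = c := by
    intro n hn d₁ d₂ hd hf1 hf2 g hd1 hd2 c hc
    have hd1c : d₁ ≠ c := fun e => hc (e ▸ hd1)
    have hd2c : d₂ ≠ c := fun e => hc (e ▸ hd2)
    obtain ⟨g₁, h11, h12⟩ := hP3 d₁ c hd1c
    obtain ⟨g₂, h21, h22⟩ := hP3 d₂ c hd2c
    have hc1 : n • c ∈ g₁ • B := hF n hn g₁ d₁ h11 hf1 c h12
    have hc2 : n • c ∈ g₂ • B := hF n hn g₂ d₂ h21 hf2 c h22
    by_contra hne
    have e1 : g₁ • B = g₂ • B := hP2 g₁ g₂ c (n • c) (Ne.symm hne) h12 hc1 h22 hc2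
    have h21' : d₂ ∈ g₁ • B := by rw [e1]; exact h21
    have e2 : g₁ • B = g • B := hP2 g₁ g d₁ d₂ hd h11 h21' hd1 hd2
    rw [e2] at h12
    exact hc h12
  obtain ⟨g, hag, hbg⟩ := hP3 a b hab
  obtain ⟨c, hc⟩ : ∃ c, c ∉ g • B := by
    by_contra hcon
    apply hline_ne g
    apply Set.eq_univ_of_forall
    intro x
    by_contra hx
    exact hcon ⟨x, hx⟩
  have hfc : h • c = c := hG h hh a b hab ha hb g hag hbg c hc
  have hac : a ≠ c := fun e => hc (e ▸ hag)
  obtain ⟨g', hag', hcg'⟩ := hP3 a c hac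
  apply FaithfulSMul.eq_of_smul_eq_smul (α := Ω)
  intro d
  rw [one_smul]
  by_cases hd : d ∈ g • B
  · by_cases hda : d = a
    · rw [hda]; exact ha
    · have hdg' : d ∉ g' • B := by
        intro hdg'
        have e := hP2 g g' a d (Ne.symm hda) hag hd hag' hdg'
        rw [e] at hc
        exact hc hcg'
      exact hG h hh a c hac ha hfc g' hag' hcg' d hdg'
  · exact hG h hh a b hab ha hb g hag hbg d hd

theorem not_imprimitive {G Ω : Type*} [Group G] [Finite G] [MulAction G Ω] [FaithfulSMul G Ω]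
    [Finite Ω]
    (h2 : ∀ a b c d : Ω, a ≠ b → c ≠ d → ∃ g : G, g • a = c ∧ g • b = d)
    (N : Subgroup G) [hNn : N.Normal] (hN : N ≠ ⊥)
    (hmin : ∀ M : Subgroup G, M.Normal → M ≤ N → M = ⊥ ∨ M = N)
    [hNt : IsPretransitive N Ω] (α : Ω) (hnr : ∃ n ∈ N, n • α = α ∧ n ≠ 1) :
    IsPreprimitive N Ω := by
  by_contra hnp
  have h2pt := two_point_stab_trivial h2 N hnp
  have hH : Cfsg.IsFrobeniusComplement (stabilizer N α) := by
    refine ⟨?_, ?_, ?_⟩
    · obtain ⟨n, hn, hfix, hn1⟩ := hnr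
      intro hbot
      have h1 : (⟨n, hn⟩ : N) ∈ stabilizer N α := hfix
      rw [hbot, Subgroup.mem_bot] at h1
      exact hn1 (congrArg Subtype.val h1)
    · intro htop
      apply hN
      rw [Subgroup.eq_bot_iff_forall]
      intro n hn
      apply FaithfulSMul.eq_of_smul_eq_smul (α := Ω)
      intro ω
      obtain ⟨m, hm⟩ := exists_smul_eq N α ω
      have hmH : m ∈ stabilizer N α := by rw [htop]; trivial
      have hnH : (⟨n, hn⟩ : N) ∈ stabilizer N α := by rw [htop]; trivial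
      have h1 : m • α = α := hmH
      rw [one_smul, ← hm, h1]
      exact hnH
    · intro g hg
      rw [Subgroup.eq_bot_iff_forall]
      intro x hx
      obtain ⟨hx1, hx2⟩ := Subgroup.mem_inf.mp hx
      have hxa : (x : G) • α = α := hx1
      have hxg : (x : G) • ((g : G) • α) = (g : G) • α := by
        rw [Subgroup.mem_pointwise_smul_iff_inv_smul_mem] at hx2
        have h3 : ((g : G)⁻¹ * (x : G) * (g : G)) • α = α := by
          have h4 := mem_stabilizer_iff.mp hx2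
          rw [MulAut.smul_def, MulAut.conj_inv_apply] at h4
          exact h4
        rw [mul_smul, mul_smul, inv_smul_eq_iff] at h3
        exact h3
      have hne : α ≠ (g : G) • α := fun e => hg e.symm
      exact Subtype.ext (h2pt x x.2 α _ hne hxa hxg)
  obtain ⟨K, hKset, hKn, hKc⟩ := S0035.result (stabilizer N α) hH
  have hKG : (K.map N.subtype).Normal := by
    constructor
    intro y hy g
    obtain ⟨k, hk, rfl⟩ := hy
    have hmem : g * (k : G) * g⁻¹ ∈ N := hNn.conj_mem k k.2 g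
    refine ⟨⟨g * k * g⁻¹, hmem⟩, ?_, rfl⟩
    have hk' : k ∈ Cfsg.frobeniusKernel (stabilizer N α) := by rw [← hKset]; exact hk
    have hgoal : (⟨g * k * g⁻¹, hmem⟩ : N) ∈ Cfsg.frobeniusKernel (stabilizer N α) := by
      rcases hk' with h1 | h1
      · left
        apply Subtype.ext
        show g * (k : G) * g⁻¹ = 1
        rw [h1]; simp
      · right
        intro n hcon
        rw [Subgroup.mem_pointwise_smul_iff_inv_smul_mem] at hcon
        have h4 := mem_stabilizer_iff.mp hcon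
        rw [MulAut.smul_def, MulAut.conj_inv_apply] at h4
        have h5 : ((n : G)⁻¹ * (g * (k : G) * g⁻¹) * (n : G)) • α = α := h4
        obtain ⟨m, hm⟩ := exists_smul_eq N α (g⁻¹ • (n : G) • α)
        have hm' : (m : G) • α = g⁻¹ • (n : G) • α := hm
        apply h1 m
        rw [Subgroup.mem_pointwise_smul_iff_inv_smul_mem]
        apply mem_stabilizer_iff.mpr
        rw [MulAut.smul_def, MulAut.conj_inv_apply]
        show ((m : G)⁻¹ * (k : G) * (m : G)) • α = α
        rw [mul_smul, mul_smul, hm', inv_smul_eq_iff, hm']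
        rw [mul_smul, mul_smul, mul_smul, mul_smul, inv_smul_eq_iff] at h5
        have h6 := congrArg (fun w => g⁻¹ • w) h5
        simp only [inv_smul_smul] at h6
        exact h6
    rw [← hKset] at hgoal
    exact hgoal
  have hKle : K.map N.subtype ≤ N := by
    rintro _ ⟨k, _, rfl⟩
    exact k.2
  rcases hmin _ hKG hKle with h | h
  · have hKbot : K = ⊥ := by
      rwa [Subgroup.map_eq_bot_iff_of_injective _ N.subtype_injective] at h
    have h1 := hKc.sup_eq_top
    rw [hKbot, bot_sup_eq] at h1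
    exact hH.2.1 h1
  · have hKtop : K = ⊤ := by
      rw [eq_top_iff]
      intro x _
      have h1 : (x : G) ∈ K.map N.subtype := by rw [h]; exact x.2
      obtain ⟨k, hk, hkx⟩ := h1
      have h3 : k = x := Subtype.ext hkx
      rwa [← h3]
    have h1 := hKc.disjoint
    rw [hKtop, top_disjoint] at h1
    exact hH.1 h1

theorem simple_case {G Ω : Type*} [Group G] [Finite G] [MulAction G Ω] [FaithfulSMul G Ω]
    (h2 : ∀ a b c d : Ω, a ≠ b → c ≠ d → ∃ g : G, g • a = c ∧ g • b = d)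
    (N : Subgroup G) [hNn : N.Normal] (hN : N ≠ ⊥)
    (hmin : ∀ M : Subgroup G, M.Normal → M ≤ N → M = ⊥ ∨ M = N)
    [hNp : IsPreprimitive N Ω] (α : Ω) : IsSimpleGroup N := by
  obtain ⟨T, hT⟩ := S0721.exists_isMinIn N hN
  have hsimple := S0721.isSimpleGroup_of_isMinIn N hmin hT
  by_cases hTN : T = N
  · rw [hTN] at hsimple
    exact hsimple
  · exfalso
    have hex : ∃ h : G, S0721.cj h T ≠ T := by
      by_contra hall
      apply hTN
      have h1 := S0721.iSup_cj_eq N hmin hT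
      rw [← h1]
      apply le_antisymm
      · have h3 := le_iSup (fun h : G => S0721.cj h T) 1
        rwa [S0721.cj_one] at h3
      · apply iSup_le
        intro h
        by_contra hle
        apply hall
        exact ⟨h, fun e => hle e.le⟩
    obtain ⟨h, hh⟩ := hex
    have htrans : ∀ T' : Subgroup G, S0721.IsMinIn N T' → ∀ a b : Ω, ∃ t ∈ T', t • a = b :=
      fun T' hT' => trans_of_normal_in N T' hT'.2.1 hT'.2.2.1 hT'.1
    have hdisj : ∀ T₁ T₂ : Subgroup G, S0721.IsMinIn N T₁ → S0721.IsMinIn N T₂ → T₁ ≠ T₂ →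
        T₁ ⊓ T₂ = ⊥ := by
      intro T₁ T₂ h1 h2' hne
      have hnle : ¬ T₁ ≤ T₂ := by
        intro hle
        rcases h2'.2.2.2 T₁ hle h1.2.2.1 with h | h
        · exact h1.1 h
        · exact hne h
      exact S0721.isMinIn_inf_eq_bot h1 h2'.2.2.1 hnle
    have hcomm2 : ∀ T₁ T₂ : Subgroup G, S0721.IsMinIn N T₁ → S0721.IsMinIn N T₂ → T₁ ≠ T₂ →
        ∀ a ∈ T₁, ∀ b ∈ T₂, a * b = b * a := by
      intro T₁ T₂ h1 h2' hne
      exact S0721.commute_of_disjoint h1.2.1 h2'.2.1 h1.2.2.1 h2'.2.2.1 (hdisj T₁ T₂ h1 h2' hne)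
    have hT' := S0721.isMinIn_cj hT h
    have hsrT : ∀ t ∈ T, ∀ ω : Ω, t • ω = ω → t = 1 := fun t ht ω hfix =>
      semireg' (S0721.cj h T) T (hcomm2 _ _ hT' hT hh) (htrans _ hT') ω t ht hfix
    have hord : ∀ x ∈ T, ∀ y ∈ T, x ≠ 1 → y ≠ 1 → orderOf x = orderOf y := by
      intro x hx y hy hx1 hy1
      have hxα : x • α ≠ α := fun e => hx1 (hsrT x hx α e)
      have hyα : y • α ≠ α := fun e => hy1 (hsrT y hy α e)
      obtain ⟨g, hg1, hg2⟩ := h2 α (x • α) α (y • α) hxα.symm hyα.symm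
      have hgT := S0721.isMinIn_cj hT g
      have hu : g * x * g⁻¹ ∈ S0721.cj g T := by
        rw [S0721.mem_cj]
        have e : g⁻¹ * (g * x * g⁻¹) * g = x := by group
        rw [e]; exact hx
      have huα : (g * x * g⁻¹) • α = y • α := by
        have hg3 : g⁻¹ • α = α := by rw [inv_smul_eq_iff, hg1]
        rw [mul_smul, mul_smul, hg3, hg2]
      have hordu : orderOf (g * x * g⁻¹) = orderOf x := (MulAut.conj g).orderOf_eq x
      rw [← hordu]
      by_cases hcase : S0721.cj g T = T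
      · rw [hcase] at hu
        have h1 : y⁻¹ * (g * x * g⁻¹) = 1 :=
          hsrT _ (T.mul_mem (T.inv_mem hy) hu) α (by rw [mul_smul, huα, inv_smul_smul])
        rw [← inv_mul_eq_one.mp h1]
      · have hcu : ∀ a ∈ S0721.cj g T, ∀ b ∈ T, a * b = b * a := hcomm2 _ _ hgT hT hcase
        have hsrU : ∀ t ∈ S0721.cj g T, ∀ ω : Ω, t • ω = ω → t = 1 := fun t ht ω hfix =>
          semireg' T (S0721.cj g T) (fun a ha b hb => (hcu b hb a ha).symm) (htrans _ hT) ω t ht
            hfix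
        rw [orderOf_eq_orderOf_iff]
        intro j
        have hcomm_uy : Commute y⁻¹ (g * x * g⁻¹) := (hcu _ hu y⁻¹ (T.inv_mem hy)).symm
        have hfix1 : (y⁻¹ * (g * x * g⁻¹)) • α = α := by rw [mul_smul, huα, inv_smul_smul]
        have hfixj : ((y⁻¹) ^ j * (g * x * g⁻¹) ^ j) • α = α := by
          rw [← hcomm_uy.mul_pow]
          exact mem_stabilizer_iff.mp ((stabilizer G α).pow_mem (mem_stabilizer_iff.mpr hfix1) j)
        constructor
        · intro huj
          rw [huj, mul_one] at hfixj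
          have h3 := hsrT _ (T.pow_mem (T.inv_mem hy) j) α hfixj
          rwa [inv_pow, inv_eq_one] at h3
        · intro hyj
          rw [inv_pow, hyj, inv_one, one_mul] at hfixj
          exact hsrU _ ((S0721.cj g T).pow_mem hu j) α hfixj
    obtain ⟨p, hp, hexp⟩ := exists_prime_exponent' T hT.1 hord
    obtain ⟨z, hzT, hz1, hzc⟩ := exists_central T hT.1 p hp hexp
    obtain ⟨t', ht', ht'α⟩ := htrans _ hT' α (z • α)
    have hcomm' := hcomm2 _ _ hT' hT hh
    have h1 : t'⁻¹ * z = 1 := by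
      apply semireg' T (Subgroup.centralizer (T : Set G)) ?_ (htrans _ hT) α _ ?_ ?_
      · intro a ha b hb
        exact (Subgroup.mem_centralizer_iff.mp hb a ha)
      · apply Subgroup.mul_mem
        · apply Subgroup.inv_mem
          rw [Subgroup.mem_centralizer_iff]
          intro b hb
          exact (hcomm' t' ht' b hb).symm
        · rw [Subgroup.mem_centralizer_iff]
          intro b hb
          exact (hzc b hb).symm
      · rw [mul_smul, ← ht'α, inv_smul_smul]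
    have hz' : t' = z := inv_mul_eq_one.mp h1
    have hd := hdisj _ _ hT hT' (Ne.symm hh)
    have hmem : z ∈ T ⊓ S0721.cj h T := Subgroup.mem_inf.mpr ⟨hzT, hz' ▸ ht'⟩
    rw [hd, Subgroup.mem_bot] at hmem
    exact hz1 hmem

theorem burnside {G Ω : Type*} [Group G] [Finite G] [MulAction G Ω] [FaithfulSMul G Ω]
    [Finite Ω] (h2 : IsMultiplyPretransitive G Ω 2) (N : Subgroup G) [hNn : N.Normal]
    (hN : N ≠ ⊥) (hmin : ∀ M : Subgroup G, M.Normal → M ≤ N → M = ⊥ ∨ M = N) :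
    (IsMulCommutative N ∧ (∃ p : ℕ, p.Prime ∧ ∀ n ∈ N, n ^ p = 1) ∧
      ∀ a : Ω, stabilizer N a = ⊥) ∨ (IsSimpleGroup N ∧ IsPreprimitive N Ω) := by
  classical
  haveI hprim : IsPreprimitive G Ω := isPreprimitive_of_is_two_pretransitive h2
  have h2' : ∀ a b c d : Ω, a ≠ b → c ≠ d → ∃ g : G, g • a = c ∧ g • b = d :=
    fun a b c d hab hcd => is_two_pretransitive_iff.mp h2 hab hcd
  haveI hNt : IsPretransitive N Ω := S3680.trans_of_normal N hN
  obtain ⟨α⟩ : Nonempty Ω := by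
    by_contra hemp
    rw [not_nonempty_iff] at hemp
    apply hN
    rw [Subgroup.eq_bot_iff_forall]
    intro n _
    apply FaithfulSMul.eq_of_smul_eq_smul (α := Ω)
    intro ω; exact hemp.elim ω
  by_cases hreg : ∀ n ∈ N, n • α = α → n = 1
  · left
    obtain ⟨hcomm, p, hp, hexp⟩ := regular_case h2' N hN α hreg
    refine ⟨⟨⟨fun a b => Subtype.ext (hcomm a a.2 b b.2)⟩⟩, ⟨p, hp, hexp⟩, ?_⟩
    intro a
    rw [Subgroup.eq_bot_iff_forall]
    intro x hx
    apply Subtype.ext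
    have htr : ∀ u v : Ω, ∃ n ∈ N, n • u = v := by
      intro u v
      obtain ⟨n, hn⟩ := exists_smul_eq N u v
      exact ⟨n, n.2, hn⟩
    exact semireg' N N hcomm htr a x x.2 (mem_stabilizer_iff.mp hx)
  · right
    have hnr : ∃ n ∈ N, n • α = α ∧ n ≠ 1 := by
      by_contra hcon
      apply hreg
      intro n hn hfix
      by_contra hn1
      exact hcon ⟨n, hn, hfix, hn1⟩
    haveI hNprim : IsPreprimitive N Ω := not_imprimitive h2' N hN hmin α hnr
    exact ⟨simple_case h2' N hN hmin α, hNprim⟩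

/-- Burnside's Theorem on doubly transitive groups: a minimal normal subgroup of a finite doubly transitive permutation group is elementary abelian and regular, or simple and primitive. -/
theorem result {α : Type*} [Fintype α] [DecidableEq α] (G : Subgroup (Equiv.Perm α)) (hG : MulAction.IsMultiplyPretransitive G α 2) (N : Subgroup G) [N.Normal] (hN : N ≠ ⊥) (hmin : ∀ M : Subgroup G, M.Normal → M ≤ N → M = ⊥ ∨ M = N) : (IsMulCommutative N ∧ (∃ p : ℕ, p.Prime ∧ ∀ n ∈ N, n ^ p = 1) ∧ ∀ a : α, MulAction.stabilizer N a = ⊥) ∨ (IsSimpleGroup N ∧ MulAction.IsPreprimitive N α) := by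
  haveI : FaithfulSMul G α := ⟨fun {g h} hgh => Subtype.ext (Equiv.ext hgh)⟩
  exact burnside hG N hN hmin

end Cfsg.Agent.S0700
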