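import Mathlib
import Cfsg.Statements.S0236
import Cfsg.Agent.Lib.Helper2.Dihedral

set_option autoImplicit false
open Cfsg

namespace Cfsg.Agent.S0236

open Cfsg.Agent.Helper2

/-- If x is an involution, the number of ordered pairs (u, v) of involutions with uv = x, plus one, equals the number of involutions in the centralizer of x. -/
theorem result {G : Type*} [Group G] [Finite G] (x : G) (hx : orderOf x = 2) : Nat.card {p : G × G // orderOf p.1 = 2 ∧ orderOf p.2 = 2 ∧ p.1 * p.2 = x} + 1 = Nat.card {t : G // orderOf t = 2 ∧ Commute t x} := by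
  have hx' := mul_self_of_orderOf_two hx
  set T : Set G := {t : G | orderOf t = 2 ∧ Commute t x} with hT
  have hxT : x ∈ T := ⟨hx, Commute.refl x⟩
  have h1 : Nat.card {t : G // orderOf t = 2 ∧ Commute t x} = T.ncard := Nat.card_coe_set_eq T
  rw [h1, ← Set.ncard_sdiff_singleton_add_one hxT (Set.toFinite T), ← Nat.card_coe_set_eq]
  congr 1
  apply Nat.card_congr
  refine
    { toFun := fun p => ⟨p.1.1, ⟨p.2.1, ?_⟩, ?_⟩
      invFun := fun t => ⟨(t.1, t.1 * x), t.2.1.1, ?_, ?_⟩
      left_inv := ?_
      right_inv := ?_ }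
  · obtain ⟨⟨u, v⟩, hu, hv, huv⟩ := p
    simp only at hu hv huv ⊢
    have hu' := mul_self_of_orderOf_two hu
    have hv' := mul_self_of_orderOf_two hv
    show u * x = x * u
    rw [← huv] at hx' ⊢
    -- u v u v = 1 → u v u = v
    have h2 : u * v * u = v := by
      have : u * v * u * v = 1 := by rw [mul_assoc (u * v)]; exact hx'
      have h3 := eq_inv_of_mul_eq_one_left this
      rw [inv_eq_self_of_mul_self hv'] at h3
      exact h3
    rw [h2, ← mul_assoc, hu', one_mul]
  · obtain ⟨⟨u, v⟩, hu, hv, huv⟩ := p
    simp only at hu hv huv ⊢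
    intro h
    rw [Set.mem_singleton_iff] at h
    rw [h] at huv
    have : v = 1 := by
      have := congrArg (x * ·) huv
      simp only [← mul_assoc, hx', one_mul] at this
      exact this
    exact ne_one_of_orderOf_two hv this
  · obtain ⟨t, ⟨ht, htx⟩, hne⟩ := t
    simp only
    have ht' := mul_self_of_orderOf_two ht
    have hc : t * x = x * t := htx
    apply orderOf_two_of_mul_self
    · calc t * x * (t * x) = t * (x * t) * x := by group
        _ = t * (t * x) * x := by rw [hc]
        _ = (t * t) * (x * x) := by group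
        _ = 1 := by rw [ht', hx', one_mul]
    · intro h
      apply hne
      rw [Set.mem_singleton_iff]
      have h2 := eq_inv_of_mul_eq_one_left h
      rw [inv_eq_self_of_mul_self hx'] at h2
      exact h2
  · obtain ⟨t, ⟨ht, htx⟩, hne⟩ := t
    simp only
    have ht' := mul_self_of_orderOf_two ht
    rw [← mul_assoc, ht', one_mul]
  · rintro ⟨⟨u, v⟩, hu, hv, huv⟩
    simp only at hu hv huv ⊢
    have hu' := mul_self_of_orderOf_two hu
    ext
    · rfl
    · simp only
      rw [← huv, ← mul_assoc, hu', one_mul]
  · rintro ⟨t, ⟨ht, htx⟩, hne⟩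
    rfl

end Cfsg.Agent.S0236
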