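import Mathlib
import Cfsg.Statements.S0238
import Cfsg.Agent.Lib.Helper2.Dihedral
import Cfsg.Agent.S0235
import Cfsg.Agent.S0236
import Cfsg.Agent.S0237

set_option autoImplicit false
open Cfsg

namespace Cfsg.Agent.S0238

open Cfsg.Agent.Helper2

theorem pairs_empty_of_not_real {G : Type*} [Group G] (x : G) (h : ¬ IsConj x x⁻¹) :
    IsEmpty {p : G × G // orderOf p.1 = 2 ∧ orderOf p.2 = 2 ∧ p.1 * p.2 = x} := by
  constructor
  rintro ⟨⟨u, v⟩, hu, hv, huv⟩
  simp only at hu hv huv
  apply h
  rw [isConj_iff]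
  refine ⟨u, ?_⟩
  have hu' := mul_self_of_orderOf_two hu
  have hv' := mul_self_of_orderOf_two hv
  rw [← huv, dih_conj_left hu' hv']

theorem part_c {G : Type*} [Group G] [Finite G] (x : G) (hx : orderOf x = 2) :
    Nat.card {p : G × G // orderOf p.1 = 2 ∧ orderOf p.2 = 2 ∧ p.1 * p.2 = x} + 2 ≤ Nat.card (Subgroup.centralizer ({x} : Set G)) := by
  have h := Cfsg.Agent.S0236.result x hx
  have h1 : Nat.card {t : G // orderOf t = 2 ∧ Commute t x} = {t : G | orderOf t = 2 ∧ Commute t x}.ncard :=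
    Nat.card_coe_set_eq _
  have h2 : Nat.card (Subgroup.centralizer ({x} : Set G)) = ((Subgroup.centralizer ({x} : Set G) : Subgroup G) : Set G).ncard :=
    Nat.card_coe_set_eq _
  have h1mem : (1 : G) ∈ ((Subgroup.centralizer ({x} : Set G) : Subgroup G) : Set G) := Subgroup.one_mem _
  have h3 := Set.ncard_sdiff_singleton_add_one h1mem (Set.toFinite _)
  have hsub : {t : G | orderOf t = 2 ∧ Commute t x} ⊆ ((Subgroup.centralizer ({x} : Set G) : Subgroup G) : Set G) \ {1} := by
    rintro t ⟨ht, htx⟩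
    refine ⟨?_, ?_⟩
    · rw [SetLike.mem_coe, Subgroup.mem_centralizer_singleton_iff]
      exact htx.eq
    · rw [Set.mem_singleton_iff]; exact ne_one_of_orderOf_two ht
  have h4 := Set.ncard_le_ncard hsub (Set.toFinite _)
  omega

/-- For every x in a finite group G, the number c of ordered pairs (u, v) of involutions with uv = x is at most |C_G(x)|; c = 0 when x is not conjugate to x⁻¹; and c + 2 ≤ |C_G(x)| when x is an involution. -/
theorem result {G : Type*} [Group G] [Finite G] (x : G) : Nat.card {p : G × G // orderOf p.1 = 2 ∧ orderOf p.2 = 2 ∧ p.1 * p.2 = x} ≤ Nat.card (Subgroup.centralizer ({x} : Set G)) ∧ (¬ IsConj x x⁻¹ → Nat.card {p : G × G // orderOf p.1 = 2 ∧ orderOf p.2 = 2 ∧ p.1 * p.2 = x} = 0) ∧ (orderOf x = 2 → Nat.card {p : G × G // orderOf p.1 = 2 ∧ orderOf p.2 = 2 ∧ p.1 * p.2 = x} + 2 ≤ Nat.card (Subgroup.centralizer ({x} : Set G))) := by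
  have hb : ¬ IsConj x x⁻¹ → Nat.card {p : G × G // orderOf p.1 = 2 ∧ orderOf p.2 = 2 ∧ p.1 * p.2 = x} = 0 := by
    intro h
    haveI := pairs_empty_of_not_real x h
    exact Nat.card_of_isEmpty
  refine ⟨?_, hb, part_c x⟩
  by_cases hx2 : x ^ 2 = 1
  · by_cases hx1 : x = 1
    · -- centralizer of 1 is everything
      subst hx1
      have : Subgroup.centralizer ({1} : Set G) = ⊤ := by
        ext g; simp [Subgroup.mem_centralizer_singleton_iff]
      rw [this, Subgroup.card_top]
      apply Nat.card_le_card_of_injective (fun p => p.1.1)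
      rintro ⟨⟨u, v⟩, hu, hv, huv⟩ ⟨⟨u', v'⟩, hu', hv', huv'⟩ h
      simp only at h huv huv'
      subst h
      have : v = v' := by
        have := huv.trans huv'.symm
        exact mul_left_cancel this
      subst this
      rfl
    · have : orderOf x = 2 := orderOf_eq_prime hx2 hx1
      have := part_c x this
      omega
  · rw [Cfsg.Agent.S0235.result x hx2]
    by_cases hreal : IsConj x x⁻¹
    · rw [← Cfsg.Agent.S0237.result x hreal]
      apply Nat.card_le_card_of_injective (fun t => (⟨t.1, t.2.2⟩ : {g : G // g * x * g⁻¹ = x⁻¹}))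
      rintro ⟨t, ht⟩ ⟨t', ht'⟩ h
      simp only [Subtype.mk.injEq] at h
      subst h
      rfl
    · have : IsEmpty {t : G // orderOf t = 2 ∧ t * x * t⁻¹ = x⁻¹} := by
        constructor
        rintro ⟨t, ht, htx⟩
        exact hreal (isConj_iff.mpr ⟨t, htx⟩)
      rw [Nat.card_of_isEmpty]
      exact Nat.zero_le _

end Cfsg.Agent.S0238
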