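import Mathlib
import Cfsg.Statements.S4345
import Cfsg.Agent.Lib.Helper21.SylowCount
import Cfsg.Agent.Lib.Helper21.FittingSubgroup
import Cfsg.Agent.Lib.Helper1.SolvableBasic

set_option autoImplicit false
open Cfsg

namespace Cfsg.Agent.S4345

open Subgroup Cfsg.Agent.Helper21

universe u

theorem aux (p ℓ : ℕ) [Fact p.Prime] (hℓ : ℓ.Prime) :
    ∀ (n : ℕ) (G : Type u) [Group G] [Finite G], Group.IsSolvable G → Nat.card G = n →
      ℓ ^ (Nat.card (Sylow p G)).factorization ℓ ≡ 1 [MOD p] := by
  intro n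
  induction n using Nat.strong_induction_on with
  | _ n ih =>
  intro G _ _ hG hn
  by_cases hG1 : Subsingleton G
  · have h1 : Nat.card (Sylow p G) = 1 := by
      have hdvd := Sylow.card_dvd_index (Classical.arbitrary (Sylow p G))
      have : Nat.card G = 1 := Nat.card_eq_one_iff_unique.mpr ⟨hG1, ⟨1⟩⟩
      have h2 : (Classical.arbitrary (Sylow p G) : Subgroup G).index ∣ Nat.card G :=
        Subgroup.index_dvd_card _
      rw [this] at h2
      exact Nat.dvd_one.mp (hdvd.trans h2)
    rw [h1]
    simp [Nat.ModEq]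
  · rw [not_subsingleton_iff_nontrivial] at hG1
    obtain ⟨q, hq, K, hKn, hK1, hKq⟩ := Helper1.exists_normal_pSubgroup_of_solvable G
    haveI := hKn
    haveI : Fact q.Prime := ⟨hq⟩
    obtain ⟨P⟩ : Nonempty (Sylow p G) := inferInstance
    set A := normalizer ((P : Subgroup G) : Set G) with hA
    have h0 : Nat.card (Sylow p G) = A.index := Sylow.card_eq_index_normalizer P
    have h1 : Nat.card (Sylow p (G ⧸ K)) = (K ⊔ A).index := card_sylow_quotient P K
    have h2 : A.relIndex (A ⊔ K) * (A ⊔ K).index = A.index := relIndex_mul_index le_sup_left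
    have h3 : A.relIndex (A ⊔ K) = A.relIndex K := relIndex_sup_eq_of_normal A K
    obtain ⟨t, ht⟩ : ∃ t, A.relIndex K = q ^ t := by
      obtain ⟨k, hk⟩ := hKq.exists_card_eq
      have hd : A.relIndex K ∣ Nat.card K := by
        rw [Subgroup.relIndex]
        exact Subgroup.index_dvd_card _
      rw [hk] at hd
      exact (Nat.dvd_prime_pow hq).mp hd |>.imp fun t ht => ht.2
    set a := Nat.card (Sylow p (G ⧸ K)) with ha
    have hfac : Nat.card (Sylow p G) = q ^ t * a := by
      rw [h0, ← h2, h3, ht, h1, sup_comm]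
    -- induction hypothesis on the quotient
    have hlt : Nat.card (G ⧸ K) < n := by
      rw [← hn, ← Subgroup.index_eq_card, ← Subgroup.card_mul_index K]
      have hK2 : 1 < Nat.card K := by
        rw [Subgroup.one_lt_card_iff_ne_bot]
        exact hK1
      have : 0 < K.index := Nat.pos_of_ne_zero Subgroup.index_ne_zero_of_finite
      nlinarith
    have hsolv : Group.IsSolvable (G ⧸ K) := inferInstance
    have hih : ℓ ^ a.factorization ℓ ≡ 1 [MOD p] := ih _ hlt (G ⧸ K) hsolv rfl
    have ha1 : a ≡ 1 [MOD p] := card_sylow_modEq_one p (G ⧸ K)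
    have hn1 : Nat.card (Sylow p G) ≡ 1 [MOD p] := card_sylow_modEq_one p G
    have hqt : q ^ t ≡ 1 [MOD p] := by
      have : q ^ t * a ≡ q ^ t * 1 [MOD p] := Nat.ModEq.mul_left _ ha1
      rw [mul_one] at this
      rw [hfac] at hn1
      exact this.symm.trans hn1
    have ha0 : a ≠ 0 := Nat.card_pos.ne'
    have hq0 : q ^ t ≠ 0 := pow_ne_zero _ hq.ne_zero
    rw [hfac, Nat.factorization_mul hq0 ha0, Finsupp.add_apply, pow_add]
    have hl : ℓ ^ (q ^ t).factorization ℓ ≡ 1 [MOD p] := by
      rw [Nat.Prime.factorization_pow hq]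
      by_cases hlq : ℓ = q
      · subst hlq
        simpa using hqt
      · have : (Finsupp.single q t : ℕ →₀ ℕ) ℓ = 0 := by
          simp [Finsupp.single_apply, Ne.symm hlq]
        rw [this, pow_zero]
    calc ℓ ^ (q ^ t).factorization ℓ * ℓ ^ a.factorization ℓ ≡ 1 * 1 [MOD p] :=
        Nat.ModEq.mul hl hih
      _ = 1 := rfl

/-- Let G be a finite solvable group and p, ℓ primes. Then the largest power of ℓ dividing the number of Sylow p-subgroups of G is congruent to 1 modulo p. -/
theorem result {G : Type*} [Group G] [Finite G]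
    (hG : Group.IsSolvable G) (p ℓ : ℕ) [Fact p.Prime] (hℓ : ℓ.Prime) :
    ℓ ^ (Nat.card (Sylow p G)).factorization ℓ ≡ 1 [MOD p] :=
  aux p ℓ hℓ _ G hG rfl

end Cfsg.Agent.S4345
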