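import Mathlib
import Cfsg.Statements.S2618
import Cfsg.Agent.Lib.Helper13.QuadFinite
import Cfsg.Agent.Lib.Helper13.MatQuad

set_option autoImplicit false
open scoped Pointwise
open Cfsg

namespace Cfsg.Agent.S2618

open Module QuadraticMap Matrix Cfsg.Agent.Helper13

section
variable {F : Type*} [Field F] {m : ℕ}

/-- upper-triangular matrix of the standard parabolic form `d x₀² + Σ x_i y_i` -/
def Mstd (m : ℕ) (d : F) : Matrix (Unit ⊕ (Fin m ⊕ Fin m)) (Unit ⊕ (Fin m ⊕ Fin m)) F :=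
  fromBlocks (Matrix.of fun _ _ => d) 0 0 (fromBlocks 0 1 0 0)

/-- the hyperbolic block -/
def Hblk (m : ℕ) (F : Type*) [Field F] : Matrix (Fin m ⊕ Fin m) (Fin m ⊕ Fin m) F := fromBlocks 0 1 1 0

theorem Hblk_det_ne_zero : (Hblk m F).det ≠ 0 := by
  have h : Hblk m F * Hblk m F = 1 := by
    unfold Hblk
    rw [fromBlocks_multiply]
    simp [fromBlocks_one]
  intro h0
  have := congrArg Matrix.det h
  rw [det_mul, h0, mul_zero, det_one] at this
  exact zero_ne_one this

theorem Mstd_add_transpose (d : F) :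
    Mstd m d + (Mstd m d)ᵀ = fromBlocks (Matrix.of fun _ _ => 2 * d) 0 0 (Hblk m F) := by
  unfold Mstd Hblk
  rw [fromBlocks_transpose, fromBlocks_transpose, fromBlocks_add, fromBlocks_add]
  congr 1
  · ext i j; simp [two_mul]
  · simp
  · simp
  · simp

theorem Mstd_det (d : F) : (Mstd m d + (Mstd m d)ᵀ).det = 2 * d * (Hblk m F).det := by
  rw [Mstd_add_transpose, det_fromBlocks_zero₂₁]
  congr 1
  simp [Matrix.det_unique]

end

theorem result {F V : Type*} [Field F] [Finite F] [AddCommGroup V] [Module F V] [FiniteDimensional F V] {m : ℕ} (hV : Module.finrank F V = 2 * m + 1) (Q : QuadraticForm F V) (hQ : (QuadraticMap.polarBilin Q).Nondegenerate) : ∃ b : Module.Basis (Unit ⊕ (Fin m ⊕ Fin m)) F V, Q (b (Sum.inl ())) ≠ 0 ∧ (∀ i, QuadraticMap.polar ⇑Q (b (Sum.inl ())) (b (Sum.inr (Sum.inl i))) = 0 ∧ QuadraticMap.polar ⇑Q (b (Sum.inl ())) (b (Sum.inr (Sum.inr i))) = 0) ∧ (∀ i, Q (b (Sum.inr (Sum.inl i))) = 0 ∧ Q (b (Sum.inr (Sum.inr i))) = 0) ∧ (∀ i j, QuadraticMap.polar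 ⇑Q (b (Sum.inr (Sum.inl i))) (b (Sum.inr (Sum.inr j))) = if i = j then 1 else 0) ∧ (∀ i j, QuadraticMap.polar ⇑Q (b (Sum.inr (Sum.inl i))) (b (Sum.inr (Sum.inl j))) = 0 ∧ QuadraticMap.polar ⇑Q (b (Sum.inr (Sum.inr i))) (b (Sum.inr (Sum.inr j))) = 0) := by
  haveI := Fintype.ofFinite F
  set s : Module.Basis (Fin (2 * m + 1)) F V := Module.finBasisOfFinrankEq F V hV with hs
  set G := (Matrix.of fun i j => polar Q (s i) (s j)) with hG
  have hGne : G.det ≠ 0 := gram_det_ne_zero Q s hQ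
  -- characteristic is not two
  have h2 : (2 : F) ≠ 0 := by
    intro h2
    haveI : CharP F 2 := by
      have := CharP.ringChar_of_prime_eq_zero (R := F) Nat.prime_two (by exact_mod_cast h2)
      exact ringChar.of_eq this
    apply hGne
    apply det_symm_zero_diag_odd G
    · intro i j; exact polar_comm Q _ _
    · intro i
      show polar Q (s i) (s i) = 0
      rw [polar_self, two_smul]
      have : Q (s i) + Q (s i) = 2 * Q (s i) := by ring
      rw [this, h2, zero_mul]
    · rw [Fintype.card_fin]; exact ⟨m, rfl⟩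
  -- the standard form with matching discriminant
  set δ := (Hblk m F).det with hδ
  have hδne : δ ≠ 0 := Hblk_det_ne_zero
  set d := G.det * δ / 2 with hd
  have hdne : d ≠ 0 := by
    rw [hd]; exact div_ne_zero (mul_ne_zero hGne hδne) h2
  have hdet : (Mstd m d + (Mstd m d)ᵀ).det = G.det * δ ^ 2 := by
    rw [Mstd_det, ← hδ, hd]; field_simp
  have hnd : (polarBilin (matQ (Mstd m d))).Nondegenerate := by
    apply matQ_nondeg
    rw [hdet]
    exact mul_ne_zero hGne (pow_ne_zero 2 hδne)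
  obtain ⟨g, hg⟩ := equiv_of_disc_idx h2 Q (matQ (Mstd m d)) hQ hnd s (Pi.basisFun F _)
    (by simp [Fintype.card_sum]; ring)
    (by
      rw [gram_matQ, hdet]
      exact ⟨G.det * δ, by ring⟩)
  set b := (Pi.basisFun F (Unit ⊕ (Fin m ⊕ Fin m))).map g.symm with hb
  have hQb : ∀ k, Q (b k) = Mstd m d k k := by
    intro k
    rw [hb, Module.Basis.map_apply, ← hg, LinearEquiv.apply_symm_apply, Pi.basisFun_apply, matQ_single]
  have hPb : ∀ k l, polar Q (b k) (b l) = Mstd m d k l + Mstd m d l k := by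
    intro k l
    have : polar Q (b k) (b l) = polar (matQ (Mstd m d)) (Pi.single k 1) (Pi.single l 1) := by
      simp only [polar, hb, Module.Basis.map_apply, Pi.basisFun_apply, ← hg, map_add,
        LinearEquiv.apply_symm_apply]
    rw [this, polar_matQ_single]
  refine ⟨b, ?_, ?_, ?_, ?_, ?_⟩
  · rw [hQb]; simpa [Mstd] using hdne
  · intro i
    rw [hPb, hPb]
    simp [Mstd]
  · intro i
    rw [hQb, hQb]
    simp [Mstd]
  · intro i j
    rw [hPb]
    simp [Mstd, Matrix.one_apply]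
  · intro i j
    rw [hPb, hPb]
    simp [Mstd]

end Cfsg.Agent.S2618
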