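import Mathlib
import Cfsg.Statements.S2622

set_option autoImplicit false
open scoped Pointwise
open Cfsg

namespace Cfsg.Agent.S2622

open Module LinearMap.BilinForm

section
universe u_1 u_2
variable {F : Type u_1} [Field F] [Finite F] [CharP F 2]

theorem two_eq_zero' : (2 : F) = 0 := CharTwo.two_eq_zero

theorem exists_sq (a : F) : ∃ c : F, c * c = a := by
  haveI := Fintype.ofFinite F
  obtain ⟨c, hc⟩ := FiniteField.isSquare_of_char_two (ringChar.eq F 2) a
  exact ⟨c, hc.symm⟩

variable {V : Type u_2} [AddCommGroup V] [Module F V] [FiniteDimensional F V]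

/-- Step 1: a good first vector. -/
theorem exists_good_vector (B : LinearMap.BilinForm F V) (hS : B.IsSymm) (hB : B.Nondegenerate)
    (hna : ∃ v : V, B v v ≠ 0) (d : ℕ) (hV : finrank F V = d + 1) :
    ∃ x : V, B x x = 1 ∧ (d = 0 ∨ ∃ u ∈ B.orthogonal (F ∙ x), B u u ≠ 0) := by
  obtain ⟨v, hv⟩ := hna
  obtain ⟨c, hc⟩ := exists_sq (B v v)⁻¹
  set x₀ := c • v with hx₀
  have hx₀1 : B x₀ x₀ = 1 := by
    simp only [hx₀, map_smul, LinearMap.smul_apply, smul_eq_mul]
    rw [← mul_assoc, hc, inv_mul_cancel₀ hv]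
  by_cases hd : d = 0
  · exact ⟨x₀, hx₀1, Or.inl hd⟩
  by_cases halt : ∃ u ∈ B.orthogonal (F ∙ x₀), B u u ≠ 0
  · exact ⟨x₀, hx₀1, Or.inr halt⟩
  push_neg at halt
  -- W = x₀^⊥ is alternating, of dimension d ≥ 1
  have hx₀ne : B x₀ x₀ ≠ 0 := by rw [hx₀1]; exact one_ne_zero
  have hcompl := LinearMap.BilinForm.isCompl_span_singleton_orthogonal hx₀ne
  have hdimW : finrank F (B.orthogonal (F ∙ x₀)) = d := by
    have h1 := Submodule.finrank_add_eq_of_isCompl hcompl
    rw [finrank_span_singleton (ne_zero_of_map hx₀ne), hV] at h1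
    omega
  set W := B.orthogonal (F ∙ x₀) with hW
  have hWnd : (B.restrict W).Nondegenerate :=
    restrict_nondegenerate_orthogonal_spanSingleton B hB hS.isRefl hx₀ne
  -- pick e ≠ 0 in W
  have : Nontrivial W := by
    apply Module.nontrivial_of_finrank_pos (R := F)
    omega
  obtain ⟨e, he⟩ := exists_ne (0 : W)
  -- f with B e f ≠ 0
  have : ∃ f : W, B.restrict W e f ≠ 0 := by
    by_contra hcon
    push_neg at hcon
    exact he (hWnd.1 e hcon)
  obtain ⟨f₀, hf₀⟩ := this
  set f := (B.restrict W e f₀)⁻¹ • f₀ with hf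
  have hef : B (e : V) (f : V) = 1 := by
    have : B.restrict W e f = 1 := by
      rw [hf, map_smul, smul_eq_mul, inv_mul_cancel₀ hf₀]
    simpa using this
  have hee : B (e : V) (e : V) = 0 := halt e e.2
  have hff : B (f : V) (f : V) = 0 := halt f f.2
  have hxe : B x₀ (e : V) = 0 := e.2 x₀ (Submodule.mem_span_singleton_self x₀)
  have hxf : B x₀ (f : V) = 0 := f.2 x₀ (Submodule.mem_span_singleton_self x₀)
  have hex : B (e : V) x₀ = 0 := by rw [hS.eq]; exact hxe
  have hfx : B (f : V) x₀ = 0 := by rw [hS.eq]; exact hxf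
  have hfe : B (f : V) (e : V) = 1 := by rw [hS.eq]; exact hef
  refine ⟨x₀ + e, ?_, Or.inr ⟨x₀ + e + f, ?_, ?_⟩⟩
  · simp only [map_add, LinearMap.add_apply, hx₀1, hxe, hex, hee]; ring
  · rw [mem_orthogonal_iff]
    intro y hy
    obtain ⟨a, rfl⟩ := Submodule.mem_span_singleton.mp hy
    simp only [map_add, LinearMap.add_apply, map_smul, LinearMap.smul_apply, smul_eq_mul,
      hx₀1, hxe, hex, hee, hxf, hef]
    have h2 : (2 : F) = 0 := two_eq_zero'
    linear_combination a * h2
  · simp only [map_add, LinearMap.add_apply, hx₀1, hxe, hex, hee, hxf, hef, hfx, hfe, hff]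
    have h2 : (2 : F) = 0 := two_eq_zero'
    intro h
    have : (1 : F) = 0 := by linear_combination h - h2
    exact one_ne_zero this

theorem orthonormal_aux (n : ℕ) : ∀ (V : Type u_2) [AddCommGroup V] [Module F V] [FiniteDimensional F V]
    (B : LinearMap.BilinForm F V), B.IsSymm → B.Nondegenerate → (∃ v : V, B v v ≠ 0) →
    finrank F V = n → ∃ b : Module.Basis (Fin n) F V, ∀ i j, B (b i) (b j) = if i = j then 1 else 0 := by
  induction n with
  | zero =>
    intro V _ _ _ B hS hB hna hV
    exfalso
    obtain ⟨v, hv⟩ := hna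
    have : Subsingleton V := Module.finrank_zero_iff.mp hV
    have : v = 0 := Subsingleton.elim _ _
    rw [this] at hv
    simp at hv
  | succ d ih =>
    intro V _ _ _ B hS hB hna hV
    obtain ⟨x, hx1, hgood⟩ := exists_good_vector B hS hB hna d hV
    have hxne : B x x ≠ 0 := by rw [hx1]; exact one_ne_zero
    have hcompl := LinearMap.BilinForm.isCompl_span_singleton_orthogonal hxne
    have hdimW : finrank F (B.orthogonal (F ∙ x)) = d := by
      have h1 := Submodule.finrank_add_eq_of_isCompl hcompl
      rw [finrank_span_singleton (ne_zero_of_map hxne), hV] at h1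
      omega
    have hWnd : (B.restrict (B.orthogonal (F ∙ x))).Nondegenerate :=
      restrict_nondegenerate_orthogonal_spanSingleton B hB hS.isRefl hxne
    -- orthonormal basis of W
    have hW : ∃ v' : Module.Basis (Fin d) F (B.orthogonal (F ∙ x)),
        ∀ i j, B (v' i : V) (v' j : V) = if i = j then 1 else 0 := by
      rcases hgood with hd | ⟨u, hu, huu⟩
      · subst hd
        exact ⟨_root_.basisOfFinrankZero hdimW, fun i => i.elim0⟩
      · obtain ⟨v', hv'⟩ := ih (B.orthogonal (F ∙ x)) (B.restrict (B.orthogonal (F ∙ x)))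
          (hS.restrict _) hWnd ⟨⟨u, hu⟩, by simpa using huu⟩ hdimW
        exact ⟨v', fun i j => by simpa using hv' i j⟩
    obtain ⟨v', hv'⟩ := hW
    let b := Module.Basis.mkFinCons x v'
      (by
        rintro c y hy hc
        rw [add_eq_zero_iff_neg_eq] at hc
        rw [← hc, Submodule.neg_mem_iff] at hy
        have := hcompl.disjoint
        rw [Submodule.disjoint_def] at this
        have := this (c • x) (Submodule.smul_mem _ _ <| Submodule.mem_span_singleton_self _) hy
        exact (smul_eq_zero.1 this).resolve_right fun h => hxne <| h.symm ▸ map_zero _)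
      (by
        intro y
        refine ⟨-B x y / B x x, fun z hz => ?_⟩
        obtain ⟨c, rfl⟩ := Submodule.mem_span_singleton.1 hz
        show B (c • x) (y + (-B x y / B x x) • x) = 0
        rw [map_smul, LinearMap.smul_apply, map_add, map_smul, smul_eq_mul, smul_eq_mul,
          div_mul_cancel₀ _ hxne, add_neg_cancel, mul_zero])
    refine ⟨b, ?_⟩
    intro i j
    have hb : (b : Fin (d + 1) → V) = Fin.cons x (fun i => (v' i : V)) := by
      rw [Module.Basis.coe_mkFinCons]; rfl
    rw [hb]
    refine Fin.cases ?_ (fun i => ?_) i <;> refine Fin.cases ?_ (fun j => ?_) j <;>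
      simp only [Fin.cons_zero, Fin.cons_succ]
    · simpa using hx1
    · have : B x (v' j : V) = 0 := (v' j).prop x (Submodule.mem_span_singleton_self x)
      rw [this]
      simp [Fin.succ_ne_zero j |>.symm]
    · have : B x (v' i : V) = 0 := (v' i).prop x (Submodule.mem_span_singleton_self x)
      rw [hS.eq, this]
      simp [Fin.succ_ne_zero i]
    · rw [hv' i j]
      simp [Fin.succ_inj]

end

theorem result {F V : Type*} [Field F] [Finite F] [CharP F 2] [AddCommGroup V] [Module F V] [FiniteDimensional F V] {n : ℕ} (hV : Module.finrank F V = n) (B : LinearMap.BilinForm F V) (hS : B.IsSymm) (hB : B.Nondegenerate) (hna : ∃ v : V, B v v ≠ 0) : ∃ b : Module.Basis (Fin n) F V, ∀ i j, B (b i) (b j) = if i = j then 1 else 0 :=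
  orthonormal_aux n V B hS hB hna hV

end Cfsg.Agent.S2622
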