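import Mathlib
import Cfsg.Statements.S2624
import Cfsg.Agent.Lib.Helper13.QuadFinite

set_option autoImplicit false
open scoped Pointwise
open Cfsg

namespace Cfsg.Agent.S2624

open QuadraticMap

theorem result {F : Type*} [Field F] [Fintype F] {n : ℕ} (hn : 2 ≤ n) (he : Even n) (Q : QuadraticForm F (Fin n → F)) (hQ : (QuadraticMap.polarBilin Q).Nondegenerate) (c : F) (hc : c ≠ 0) : ∃ g : (Fin n → F) ≃ₗ[F] (Fin n → F), ∀ v, Q (g v) = c * Q v := by
  by_cases h2 : (2 : F) = 0
  · -- characteristic two: c is a square
    have hchar : ringChar F = 2 := CharP.ringChar_of_prime_eq_zero Nat.prime_two (by exact_mod_cast h2)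
    obtain ⟨r, hr⟩ := FiniteField.isSquare_of_char_two hchar c
    have hrne : r ≠ 0 := by
      intro h0; rw [h0, mul_zero] at hr; exact hc hr
    refine ⟨LinearEquiv.smulOfNeZero F _ r hrne, ?_⟩
    intro v
    rw [LinearEquiv.smulOfNeZero_apply, QuadraticMap.map_smul, smul_eq_mul, hr]
  · -- odd characteristic: compare discriminants
    have h₁ : (polarBilin (c • Q)).Nondegenerate := by
      have : polarBilin (c • Q) = c • polarBilin Q := by
        ext u v
        simp [polar, mul_sub]
      rw [this]
      constructor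
      · intro x hx
        apply hQ.1 x
        intro y
        have := hx y
        simpa [hc] using this
      · intro y hy
        apply hQ.2 y
        intro x
        have := hy x
        simpa [hc] using this
    have hG : Cfsg.Agent.Helper13.stdGram (c • Q) = c • Cfsg.Agent.Helper13.stdGram Q := by
      ext i j
      simp [Cfsg.Agent.Helper13.stdGram, polar, mul_sub]
    obtain ⟨k, hk⟩ := he
    have hsq : IsSquare ((Cfsg.Agent.Helper13.stdGram (c • Q)).det * (Cfsg.Agent.Helper13.stdGram Q).det) := by
      rw [hG, Matrix.det_smul, Fintype.card_fin]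
      have hck : c ^ n = c ^ k * c ^ k := by rw [hk, pow_add]
      rw [hck]
      exact ⟨c ^ k * (Cfsg.Agent.Helper13.stdGram Q).det, by ring⟩
    obtain ⟨g, hg⟩ := Cfsg.Agent.Helper13.equiv_of_disc h2 (c • Q) Q h₁ hQ hsq
    exact ⟨g, fun v => by rw [hg v]; rfl⟩

end Cfsg.Agent.S2624
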