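import Mathlib
import Cfsg.Statements.S4117
import Cfsg.Agent.Lib.Helper20.CyclicBasic

set_option autoImplicit false
open Cfsg
open Pointwise

namespace Cfsg.Agent.S4117

section basic

variable {G A : Type*} [Group G] [Group A] [MulDistribMulAction A G]

/-- the generating set of `[G, A]` -/
def comSet (A G : Type*) [Group G] [Group A] [MulDistribMulAction A G] : Set G :=
  {y : G | ∃ (a : A) (g : G), y = g⁻¹ * a • g}

theorem conj_mem_closure (h y : G) (hy : y ∈ Subgroup.closure (comSet A G)) :
    h⁻¹ * y * h ∈ Subgroup.closure (comSet A G) := by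
  induction hy using Subgroup.closure_induction with
  | mem y hy =>
    obtain ⟨a, g, rfl⟩ := hy
    have e : h⁻¹ * (g⁻¹ * a • g) * h = ((g * h)⁻¹ * a • (g * h)) * (h⁻¹ * a • h)⁻¹ := by
      rw [smul_mul']; group
    rw [e]
    exact Subgroup.mul_mem _ (Subgroup.subset_closure ⟨a, g * h, rfl⟩)
      (Subgroup.inv_mem _ (Subgroup.subset_closure ⟨a, h, rfl⟩))
  | one => simp
  | mul x y _ _ hx hy =>
    have e : h⁻¹ * (x * y) * h = (h⁻¹ * x * h) * (h⁻¹ * y * h) := by group
    rw [e]; exact Subgroup.mul_mem _ hx hy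
  | inv x _ hx =>
    have e : h⁻¹ * x⁻¹ * h = (h⁻¹ * x * h)⁻¹ := by group
    rw [e]; exact Subgroup.inv_mem _ hx

theorem closure_comSet_normal : (Subgroup.closure (comSet A G)).Normal := by
  refine ⟨fun n hn g => ?_⟩
  have := conj_mem_closure (A := A) g⁻¹ n hn
  rwa [inv_inv] at this

theorem smul_mem_closure (b : A) (y : G) (hy : y ∈ Subgroup.closure (comSet A G)) :
    b • y ∈ Subgroup.closure (comSet A G) := by
  induction hy using Subgroup.closure_induction with
  | mem y hy =>
    obtain ⟨a, g, rfl⟩ := hy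
    apply Subgroup.subset_closure
    refine ⟨b * a * b⁻¹, b • g, ?_⟩
    rw [smul_mul', smul_inv', smul_smul, smul_smul, inv_mul_cancel_right]
  | one => rw [smul_one]; exact Subgroup.one_mem _
  | mul x y _ _ hx hy => rw [smul_mul']; exact Subgroup.mul_mem _ hx hy
  | inv x _ hx => rw [smul_inv']; exact Subgroup.inv_mem _ hx

/-- fixed points in invariant cosets of an abelian invariant subgroup of coprime order -/
theorem exists_fixed_in_coset [Finite A] [Finite G] (K : Subgroup G)
    (hKc : ∀ x ∈ K, ∀ y ∈ K, x * y = y * x) (hKinv : ∀ (a : A), ∀ x ∈ K, a • x ∈ K)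
    (hcop : (Nat.card K).Coprime (Nat.card A)) (g : G) (hg : ∀ a : A, g⁻¹ * a • g ∈ K) :
    ∃ k ∈ K, ∀ a : A, a • (g * k) = g * k := by
  classical
  letI : Fintype A := Fintype.ofFinite A
  letI : CommGroup K :=
    { (inferInstance : Group K) with
      mul_comm := fun x y => Subtype.ext (hKc x x.2 y y.2) }
  let κ : A → K := fun a => ⟨g⁻¹ * a • g, hg a⟩
  let act : A → K →* K := fun a =>
    { toFun := fun x => ⟨a • (x : G), hKinv a x x.2⟩
      map_one' := Subtype.ext (smul_one a)
      map_mul' := fun x y => Subtype.ext (smul_mul' a (x : G) (y : G)) }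
  have hcoc : ∀ a b : A, κ (a * b) = κ a * act a (κ b) := by
    intro a b
    apply Subtype.ext
    change g⁻¹ * (a * b) • g = g⁻¹ * a • g * a • (g⁻¹ * b • g)
    rw [smul_mul', smul_inv', mul_smul]
    group
  set z : K := ∏ b : A, κ b with hz
  have hact : ∀ a : A, act a z = (κ a)⁻¹ ^ Nat.card A * z := by
    intro a
    rw [hz, map_prod]
    have h1 : ∀ b : A, act a (κ b) = (κ a)⁻¹ * κ (a * b) := by
      intro b
      rw [hcoc a b, inv_mul_cancel_left]
    rw [Finset.prod_congr rfl (fun b _ => h1 b), Finset.prod_mul_distrib, Finset.prod_const,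
      Finset.card_univ, Nat.card_eq_fintype_card]
    congr 1
    exact Fintype.prod_equiv (Equiv.mulLeft a) _ _ (fun b => rfl)
  obtain ⟨k, hk⟩ := (powCoprime hcop).surjective z
  rw [powCoprime_apply] at hk
  refine ⟨(k : G), k.2, ?_⟩
  intro a
  have h2 : κ a * act a k = k := by
    apply (powCoprime hcop).injective
    rw [powCoprime_apply, powCoprime_apply, mul_pow, ← map_pow, hk, hact, ← mul_assoc, ← mul_pow,
      mul_inv_cancel, one_pow, one_mul]
  have h3 := congrArg Subtype.val h2
  change g⁻¹ * a • g * a • (k : G) = (k : G) at h3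
  calc a • (g * (k : G)) = a • g * a • (k : G) := smul_mul' a g (k : G)
    _ = g * (g⁻¹ * a • g * a • (k : G)) := by group
    _ = g * (k : G) := by rw [h3]

/-- endomorphisms of a cyclic group commute -/
theorem endo_comm {D : Type*} [Group D] [IsCyclic D] (φ ψ : D →* D) (x : D) :
    φ (ψ x) = ψ (φ x) := by
  obtain ⟨d, hd⟩ := IsCyclic.exists_generator (α := D)
  obtain ⟨i, hi⟩ := Subgroup.mem_zpowers_iff.1 (hd (φ d))
  obtain ⟨j, hj⟩ := Subgroup.mem_zpowers_iff.1 (hd (ψ d))
  obtain ⟨k, rfl⟩ := Subgroup.mem_zpowers_iff.1 (hd x)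
  have e1 : φ (ψ (d ^ k)) = d ^ (i * j * k) := by
    rw [map_zpow ψ, ← hj, map_zpow φ, map_zpow φ, ← hi, ← zpow_mul, ← zpow_mul, mul_assoc]
  have e2 : ψ (φ (d ^ k)) = d ^ (j * i * k) := by
    rw [map_zpow φ, ← hi, map_zpow ψ, map_zpow ψ, ← hj, ← zpow_mul, ← zpow_mul, mul_assoc]
  rw [e1, e2, mul_comm i j]

theorem smul_mem_commutator (a : A) (x : G) (hx : x ∈ commutator G) : a • x ∈ commutator G := by
  have h := (inferInstance : (commutator G).Characteristic).fixed
    (MulDistribMulAction.toMulEquiv G a)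
  have : x ∈ (commutator G).comap (MulDistribMulAction.toMulEquiv G a).toMonoidHom := by
    rw [h]; exact hx
  exact this

theorem closure_comSet_le_centralizer [IsCyclic (commutator G)] :
    Subgroup.closure (comSet A G) ≤
      Subgroup.centralizer ((commutator G : Subgroup G) : Set G) := by
  rw [Subgroup.closure_le]
  rintro _ ⟨a, g, rfl⟩
  rw [SetLike.mem_coe, Subgroup.mem_centralizer_iff]
  intro y hy
  let α : commutator G →* commutator G :=
    { toFun := fun x => ⟨a • (x : G), smul_mem_commutator a (x : G) x.2⟩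
      map_one' := Subtype.ext (smul_one a)
      map_mul' := fun x y => Subtype.ext (smul_mul' a (x : G) (y : G)) }
  let γ : commutator G →* commutator G :=
    { toFun := fun x => ⟨g * (x : G) * g⁻¹,
        (inferInstance : (commutator G).Normal).conj_mem _ x.2 g⟩
      map_one' := Subtype.ext (by simp)
      map_mul' := fun x y => Subtype.ext (by
        change g * ((x : G) * (y : G)) * g⁻¹ = g * (x : G) * g⁻¹ * (g * (y : G) * g⁻¹)
        group) }
  have hx : a⁻¹ • y ∈ commutator G := smul_mem_commutator a⁻¹ y hy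
  have h := congrArg Subtype.val (endo_comm α γ ⟨a⁻¹ • y, hx⟩)
  change a • (g * (a⁻¹ • y) * g⁻¹) = g * (a • (a⁻¹ • y)) * g⁻¹ at h
  rw [smul_mul', smul_mul', smul_inv', smul_inv_smul] at h
  calc y * (g⁻¹ * a • g) = g⁻¹ * (g * y * g⁻¹) * a • g := by group
    _ = g⁻¹ * (a • g * y * (a • g)⁻¹) * a • g := by rw [h]
    _ = g⁻¹ * a • g * y := by group

theorem isCyclic_centralizer_commutator [Finite G] [IsZGroup G] :
    IsCyclic (Subgroup.centralizer ((commutator G : Subgroup G) : Set G)) := by
  haveI hnil : Group.IsNilpotent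
      (Subgroup.centralizer ((commutator G : Subgroup G) : Set G)) := by
    apply Subgroup.isNilpotent_of_ker_le_center
      ((Abelianization.of : G →* Abelianization G).comp
        (Subgroup.centralizer ((commutator G : Subgroup G) : Set G)).subtype)
    intro e he
    rw [MonoidHom.mem_ker, MonoidHom.comp_apply, ← MonoidHom.mem_ker, Abelianization.ker_of] at he
    rw [Subgroup.mem_center_iff]
    intro e'
    apply Subtype.ext
    have h := e'.2
    rw [Subgroup.mem_centralizer_iff] at h
    exact (h (e : G) he).symm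
  infer_instance

end basic

section main

variable {G A : Type*} [Group G] [Finite G] [Group A] [Finite A] [MulDistribMulAction A G]

/-- the norm map kills `[G, A]` when `G = C_G(A) [G, A]` and `[G, A]` is abelian -/
theorem fixed_inter_eq_one (hKc : ∀ x ∈ Subgroup.closure (comSet A G),
      ∀ y ∈ Subgroup.closure (comSet A G), x * y = y * x)
    (hcop : (Nat.card (Subgroup.closure (comSet A G))).Coprime (Nat.card A))
    (hsup : ∀ g : G, ∃ k ∈ Subgroup.closure (comSet A G), ∀ a : A, a • (g * k) = g * k)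
    (z : G) (hzK : z ∈ Subgroup.closure (comSet A G)) (hzC : ∀ a : A, a • z = z) : z = 1 := by
  classical
  letI : Fintype A := Fintype.ofFinite A
  set K := Subgroup.closure (comSet A G) with hK
  letI : CommGroup K :=
    { (inferInstance : Group K) with
      mul_comm := fun x y => Subtype.ext (hKc x x.2 y y.2) }
  let act : A → K →* K := fun a =>
    { toFun := fun x => ⟨a • (x : G), smul_mem_closure a (x : G) x.2⟩
      map_one' := Subtype.ext (smul_one a)
      map_mul' := fun x y => Subtype.ext (smul_mul' a (x : G) (y : G)) }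
  let N : K →* K := ∏ a : A, act a
  have hN : ∀ x : K, N x = ∏ a : A, act a x := fun x => by
    simp only [N, MonoidHom.finsetProd_apply]
  have hNact : ∀ (b : A) (x : K), N (act b x) = N x := by
    intro b x
    rw [hN, hN]
    refine Fintype.prod_equiv (Equiv.mulRight b) _ _ (fun a => ?_)
    apply Subtype.ext
    change a • (b • (x : G)) = (a * b) • (x : G)
    rw [mul_smul]
  -- N kills K
  have hNK : ∀ (y : G) (hy : y ∈ K), N ⟨y, hy⟩ = 1 := by
    intro y hy
    induction hy using Subgroup.closure_induction with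
    | mem y hy =>
      obtain ⟨a, g, rfl⟩ := hy
      obtain ⟨k, hk, hfix⟩ := hsup g
      -- g = c * k⁻¹ with c fixed
      have e : g⁻¹ * a • g = (k⁻¹)⁻¹ * a • k⁻¹ := by
        have h1 := hfix a
        rw [smul_mul'] at h1
        have h2 : a • g = g * k * (a • k)⁻¹ := by rw [← h1]; group
        rw [h2, smul_inv']
        group
      have hk' : k⁻¹ ∈ K := K.inv_mem hk
      have e2 : (⟨g⁻¹ * a • g, Subgroup.subset_closure ⟨a, g, rfl⟩⟩ : K) =
          (⟨k⁻¹, hk'⟩ : K)⁻¹ * act a ⟨k⁻¹, hk'⟩ := Subtype.ext e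
      rw [e2, map_mul, map_inv, hNact, inv_mul_cancel]
    | one => exact map_one N
    | mul x y hx hy hx1 hy1 =>
      have : (⟨x * y, K.mul_mem hx hy⟩ : K) = ⟨x, hx⟩ * ⟨y, hy⟩ := rfl
      rw [this, map_mul, hx1, hy1, one_mul]
    | inv x hx hx1 =>
      have : (⟨x⁻¹, K.inv_mem hx⟩ : K) = (⟨x, hx⟩ : K)⁻¹ := rfl
      rw [this, map_inv, hx1, inv_one]
  have h1 := hNK z hzK
  rw [hN] at h1
  have h2 : ∀ a : A, act a ⟨z, hzK⟩ = ⟨z, hzK⟩ := fun a => Subtype.ext (hzC a)
  rw [Finset.prod_congr rfl (fun a _ => h2 a), Finset.prod_const, Finset.card_univ,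
    ← Nat.card_eq_fintype_card] at h1
  have h3 : (⟨z, hzK⟩ : K) = 1 := by
    apply (powCoprime hcop).injective
    rw [powCoprime_apply, powCoprime_apply, h1, one_pow]
  exact congrArg Subtype.val h3

theorem key (hcop : (Nat.card A).Coprime (Nat.card G))
    (hcyc : ∀ (p : ℕ) [Fact p.Prime] (P : Sylow p G), IsCyclic (P : Subgroup G)) :
    (Nat.card (MulAction.fixedPoints A G : Set G)).Coprime
      (Nat.card G / Nat.card (MulAction.fixedPoints A G : Set G)) ∧
    IsCyclic (Subgroup.closure (comSet A G)) ∧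
    (Subgroup.closure (comSet A G)).Normal ∧
    (Subgroup.closure (comSet A G) : Set G) ∩ MulAction.fixedPoints A G = {1} ∧
    Subgroup.closure (comSet A G) ⊔ Subgroup.closure (MulAction.fixedPoints A G) = ⊤ := by
  classical
  haveI : IsZGroup G := ⟨fun p hp P => @hcyc p ⟨hp⟩ P⟩
  haveI : IsCyclic (commutator G) := IsZGroup.isCyclic_commutator G
  set K := Subgroup.closure (comSet A G) with hK
  set C := FixedPoints.subgroup A G with hC
  have hKE : K ≤ Subgroup.centralizer ((commutator G : Subgroup G) : Set G) :=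
    closure_comSet_le_centralizer
  haveI := isCyclic_centralizer_commutator (G := G)
  haveI hKcyc : IsCyclic K :=
    isCyclic_of_injective (Subgroup.inclusion hKE) (Subgroup.inclusion_injective hKE)
  haveI hKn : K.Normal := closure_comSet_normal
  have hKcomm : ∀ x ∈ K, ∀ y ∈ K, x * y = y * x := by
    intro x hx y hy
    letI : CommGroup K := IsCyclic.commGroup
    exact congrArg Subtype.val (mul_comm (⟨x, hx⟩ : K) ⟨y, hy⟩)
  have hcopK : (Nat.card K).Coprime (Nat.card A) :=
    (Nat.Coprime.coprime_dvd_right (Subgroup.card_subgroup_dvd_card K) hcop).symm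
  have hsup : ∀ g : G, ∃ k ∈ K, ∀ a : A, a • (g * k) = g * k := by
    intro g
    exact exists_fixed_in_coset K hKcomm (fun a x hx => smul_mem_closure a x hx) hcopK g
      (fun a => Subgroup.subset_closure ⟨a, g, rfl⟩)
  have hKC : ∀ z ∈ K, z ∈ C → z = 1 := by
    intro z hzK hzC
    exact fixed_inter_eq_one hKcomm hcopK hsup z hzK hzC
  have hCset : (MulAction.fixedPoints A G : Set G) = (C : Set G) := rfl
  -- complement
  have hdisj : Disjoint C K := by
    rw [disjoint_iff, eq_bot_iff]
    intro z hz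
    exact Subgroup.mem_bot.2 (hKC z hz.2 hz.1)
  have hmul : (C : Set G) * (K : Set G) = Set.univ := by
    rw [Set.eq_univ_iff_forall]
    intro g
    obtain ⟨k, hk, hfix⟩ := hsup g
    exact ⟨g * k, hfix, k⁻¹, K.inv_mem hk, by simp⟩
  have hcompl : Subgroup.IsComplement' C K :=
    Subgroup.isComplement'_of_disjoint_and_mul_eq_univ hdisj hmul
  have hcard : Nat.card C * Nat.card K = Nat.card G := hcompl.card_mul
  refine ⟨?_, hKcyc, hKn, ?_, ?_⟩
  · -- Hall property
    have hCcard : Nat.card (MulAction.fixedPoints A G : Set G) = Nat.card C := rfl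
    rw [hCcard, ← hcard, Nat.mul_div_cancel_left _ Nat.card_pos]
    by_contra hnc
    obtain ⟨p, hp, hpC, hpK⟩ := Nat.Prime.not_coprime_iff_dvd.1 hnc
    haveI : Fact p.Prime := ⟨hp⟩
    obtain ⟨c, hc⟩ := exists_prime_orderOf_dvd_card' (G := C) p hpC
    obtain ⟨y, hy⟩ := exists_prime_orderOf_dvd_card' (G := K) p hpK
    have hzc : IsPGroup p (Subgroup.zpowers (c : G)) := by
      apply IsPGroup.of_card (n := 1)
      rw [Nat.card_zpowers, Subgroup.orderOf_coe, hc, pow_one]
    have hzy : IsPGroup p (Subgroup.zpowers (y : G)) := by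
      apply IsPGroup.of_card (n := 1)
      rw [Nat.card_zpowers, Subgroup.orderOf_coe, hy, pow_one]
    obtain ⟨P, hP⟩ := hzc.exists_le_sylow
    obtain ⟨Q, hQ⟩ := hzy.exists_le_sylow
    obtain ⟨g, hg⟩ := MulAction.exists_smul_eq G Q P
    have hcP : (c : G) ∈ (P : Subgroup G) := hP (Subgroup.mem_zpowers _)
    have hy'P : g * (y : G) * g⁻¹ ∈ (P : Subgroup G) := by
      rw [← hg, Sylow.coe_subgroup_smul, Subgroup.mem_pointwise_smul_iff_inv_smul_mem]
      simp only [MulAut.smul_def, ← map_inv, MulAut.conj_apply, inv_inv]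
      have : g⁻¹ * (g * (y : G) * g⁻¹) * g = (y : G) := by group
      rw [this]
      exact hQ (Subgroup.mem_zpowers _)
    have hy'K : g * (y : G) * g⁻¹ ∈ K := hKn.conj_mem _ y.2 g
    haveI : IsCyclic (P : Subgroup G) := hcyc p P
    have hord : orderOf (⟨g * (y : G) * g⁻¹, hy'P⟩ : (P : Subgroup G)) ∣
        orderOf (⟨(c : G), hcP⟩ : (P : Subgroup G)) := by
      rw [← Subgroup.orderOf_coe, ← Subgroup.orderOf_coe]
      change orderOf (g * (y : G) * g⁻¹) ∣ orderOf (c : G)
      have h1 : orderOf (g * (y : G) * g⁻¹) = orderOf (y : G) := by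
        have := (MulAut.conj g).orderOf_eq (y : G)
        rwa [MulAut.conj_apply] at this
      rw [h1, Subgroup.orderOf_coe, Subgroup.orderOf_coe, hc, hy]
    have hmem := Cfsg.Agent.Helper20.mem_zpowers_of_orderOf_dvd _ _ hord
    obtain ⟨j, hj⟩ := Subgroup.mem_zpowers_iff.1 hmem
    have hj' : (c : G) ^ j = g * (y : G) * g⁻¹ := by
      have := congrArg Subtype.val hj
      simpa using this
    have hy'C : g * (y : G) * g⁻¹ ∈ C := by
      rw [← hj']
      exact C.zpow_mem c.2 j
    have h1 := hKC _ hy'K hy'C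
    have h2 : (y : G) = 1 := by
      have : (y : G) = g⁻¹ * (g * (y : G) * g⁻¹) * g := by group
      rw [this, h1]; group
    have h3 : orderOf (y : G) = 1 := by rw [h2, orderOf_one]
    rw [Subgroup.orderOf_coe, hy] at h3
    exact hp.one_lt.ne' h3
  · ext z
    constructor
    · rintro ⟨hzK, hzC⟩
      exact hKC z hzK hzC
    · intro hz
      rw [Set.mem_singleton_iff] at hz
      rw [hz]
      exact ⟨K.one_mem, C.one_mem⟩
  · rw [hCset, Subgroup.closure_eq, eq_top_iff]
    intro g _
    obtain ⟨k, hk, hfix⟩ := hsup g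
    have hgk : g * k ∈ C := hfix
    have e : g = (g * k) * k⁻¹ := by group
    rw [e]
    exact Subgroup.mul_mem _ (Subgroup.mem_sup_right hgk) (Subgroup.mem_sup_left (K.inv_mem hk))

end main

/-- Let A be a finite group acting on the finite group G by automorphisms with the orders of A and G coprime, and suppose every Sylow subgroup of G is cyclic. Then the fixed-point subgroup C_G(A) is a Hall subgroup of G (its order is coprime to its index), the subgroup [G, A] generated by the elements g⁻¹·a(g) is cyclic and normal with [G, A] ∩ C_G(A) = 1 and [G, A]·C_G(A) = G. -/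
theorem result {G A : Type*} [Group G] [Finite G] [Group A] [Finite A]
    [MulDistribMulAction A G] (hcop : (Nat.card A).Coprime (Nat.card G))
    (hcyc : ∀ (p : ℕ) [Fact p.Prime] (P : Sylow p G), IsCyclic (P : Subgroup G)) :
    (Nat.card (MulAction.fixedPoints A G : Set G)).Coprime (Nat.card G / Nat.card (MulAction.fixedPoints A G : Set G)) ∧
    IsCyclic (Subgroup.closure {y : G | ∃ (a : A) (g : G), y = g⁻¹ * a • g}) ∧
    (Subgroup.closure {y : G | ∃ (a : A) (g : G), y = g⁻¹ * a • g}).Normal ∧
    (Subgroup.closure {y : G | ∃ (a : A) (g : G), y = g⁻¹ * a • g} : Set G) ∩ MulAction.fixedPoints A G = {1} ∧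
    Subgroup.closure {y : G | ∃ (a : A) (g : G), y = g⁻¹ * a • g} ⊔ Subgroup.closure (MulAction.fixedPoints A G) = ⊤ :=
  key hcop hcyc

end Cfsg.Agent.S4117
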