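import Cfsg.Statements.S2202
import Cfsg.Agent.Lib.Helper2.AICPartE
import Cfsg.Agent.Lib.Helper10.AICSplit

set_option autoImplicit false
open Cfsg

namespace Cfsg.Agent.S2202

open Cfsg.Agent.Helper2.AIC Cfsg.Agent.Helper10.AIC

/-- the standing configuration from the negation of the first two alternatives -/
theorem cfg_of_not {G : Type*} [Group G] [Finite G]
    (h : ∀ t : G, orderOf t = 2 → IsMulCommutative ↥(Subgroup.centralizer ({t} : Set G)))
    (h1 : ¬ ∀ P : Sylow 2 G, IsCyclic ↥P) (h2 : ¬ ∀ P : Sylow 2 G, (P : Subgroup G).Normal) :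
    Cfg G := by
  classical
  haveI : Fact (Nat.Prime 2) := ⟨Nat.prime_two⟩
  refine ⟨?_, ?_, ?_⟩
  · intro t ht x hx y hy
    have := (h t ht).is_comm.comm ⟨x, hx⟩ ⟨y, hy⟩
    exact congrArg Subtype.val this
  · intro P hP
    apply h1
    intro Q
    exact isCyclic_of_surjective (Sylow.equiv P Q) (Sylow.equiv P Q).surjective
  · intro P
    by_contra hcon
    push_neg at hcon
    apply h2
    haveI : Subsingleton (Sylow 2 G) := ⟨fun A B => (hcon A).trans (hcon B).symm⟩
    intro Q
    exact Sylow.normal_of_subsingleton Q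

/-- Finite groups in which the centralizer of every involution is abelian. Let G be a finite group of even order in which the centralizer of every element of order 2 is abelian. Then the Sylow 2-subgroups of G are cyclic, or a Sylow 2-subgroup of G is normal, or G is isomorphic to the direct product of SL₂(F) for a finite field F of characteristic two and an abelian group of odd order. -/
theorem result {G : Type*} [Group G] [Finite G] (heven : Even (Nat.card G)) (h : ∀ t : G, orderOf t = 2 → IsMulCommutative ↥(Subgroup.centralizer ({t} : Set G))) :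
    (∀ P : Sylow 2 G, IsCyclic ↥P) ∨ (∀ P : Sylow 2 G, (P : Subgroup G).Normal) ∨
    (∃ (F : Type) (_ : Field F) (_ : Fintype F) (A : Type) (_ : CommGroup A) (_ : Finite A), CharP F 2 ∧ Odd (Nat.card A) ∧ Nonempty (G ≃* Matrix.SpecialLinearGroup (Fin 2) F × A)) := by
  classical
  by_cases h1 : ∀ P : Sylow 2 G, IsCyclic ↥P
  · exact Or.inl h1
  by_cases h2 : ∀ P : Sylow 2 G, (P : Subgroup G).Normal
  · exact Or.inr (Or.inl h2)
  right; right
  have c : Cfg G := cfg_of_not h h1 h2
  obtain ⟨N, _, hodd, hcen, hK, hel⟩ := partE c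
  obtain ⟨F, iF, iFt, hF4, hchar, φ, hφ, hker⟩ := partF1 c hodd hcen hK hel
  haveI := hchar
  obtain ⟨A, iA, iAf, hA, ⟨e⟩⟩ := split_hom hF4 φ hφ (by rw [hker]; exact hcen)
    (by rw [hker]; exact hodd)
  exact ⟨F, iF, iFt, A, iA, iAf, hchar, hA, ⟨e⟩⟩

end Cfsg.Agent.S2202
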