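import Mathlib
import Cfsg.Statements.S0989
import Cfsg.Agent.Lib.Helper5.OrderPCount

set_option autoImplicit false
open Cfsg

namespace Cfsg.Agent.S0989

open Cfsg.Agent.Helper5 Nat

theorem not_sq_dvd_factorial (p : ℕ) (hp : p.Prime) (n : ℕ) (hn : n = p ∨ n = p + 1) :
    ¬ p ^ 2 ∣ n ! := by
  obtain ⟨q, rfl⟩ : ∃ q, p = q + 1 := ⟨p - 1, by have := hp.pos; omega⟩
  have hq : ¬ (q + 1) ∣ q ! := by
    intro h
    have := (hp.dvd_factorial).mp h
    omega
  rcases hn with rfl | rfl
  · rw [Nat.factorial_succ, pow_two]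
    intro h
    exact hq (Nat.dvd_of_mul_dvd_mul_left hp.pos h)
  · rw [Nat.factorial_succ, Nat.factorial_succ, pow_two]
    intro h
    have h' : (q + 1) * (q + 1) ∣ (q + 1) * ((q + 1 + 1) * q !) := by
      have e : (q + 1 + 1) * ((q + 1) * q !) = (q + 1) * ((q + 1 + 1) * q !) := by ring
      rw [← e]; exact h
    have h2 := Nat.dvd_of_mul_dvd_mul_left hp.pos h'
    rcases (hp.dvd_mul).mp h2 with h3 | h3
    · have : (q + 1) ∣ 1 := by
        have h4 : (q + 1) ∣ (q + 1) + 1 := h3
        exact (Nat.dvd_add_right (dvd_refl _)).mp h4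
      have := Nat.le_of_dvd one_pos this
      have := hp.one_lt
      omega
    · exact hq h3

theorem orderOf_eq_iff_cycleType {α : Type*} [Fintype α] [DecidableEq α] (p : ℕ) (hp : p.Prime)
    (hα : Fintype.card α = p ∨ Fintype.card α = p + 1) (σ : Equiv.Perm α) :
    orderOf σ = p ↔ σ.cycleType = {p} := by
  constructor
  · intro h
    obtain ⟨k, hk⟩ := Equiv.Perm.cycleType_prime_order (σ := σ) (by rw [h]; exact hp)
    have h1 : σ.cycleType.sum = (k + 1) * p := by
      rw [hk, h, Multiset.sum_replicate, smul_eq_mul]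
    have h2 : σ.cycleType.sum ≤ Fintype.card α := by
      rw [Equiv.Perm.sum_cycleType]; exact Finset.card_le_univ _
    have h3 : k = 0 := by
      by_contra hk0
      have : 2 * p ≤ (k + 1) * p := Nat.mul_le_mul_right p (by omega)
      have := hp.two_le
      rcases hα with h | h <;> omega
    rw [hk, h, h3]
    rfl
  · intro h
    rw [← Equiv.Perm.lcm_cycleType, h, Multiset.lcm_singleton]
    simp

/-- In the symmetric group on p or p + 1 letters, p a prime, the normalizer of a Sylow p-subgroup has order p * (p - 1). -/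
theorem result {α : Type*} [Fintype α] [DecidableEq α] (p : ℕ) [Fact p.Prime] (hα : Fintype.card α = p ∨ Fintype.card α = p + 1) (P : Sylow p (Equiv.Perm α)) : Nat.card ↥(Subgroup.normalizer ((P : Subgroup (Equiv.Perm α)) : Set (Equiv.Perm α))) = p * (p - 1) := by
  classical
  have hp : p.Prime := Fact.out
  set n := Fintype.card α with hn
  have hG : Nat.card (Equiv.Perm α) = n ! := by
    rw [Nat.card_eq_fintype_card, Fintype.card_perm]
  have hpn : p ∣ n ! := by
    rw [hp.dvd_factorial]
    rcases hα with h | h <;> omega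
  have hnsq := not_sq_dvd_factorial p hp n hα
  have hcard : ∀ Q : Sylow p (Equiv.Perm α), Nat.card (Q : Subgroup (Equiv.Perm α)) = p := by
    intro Q
    obtain ⟨k, hk⟩ := IsPGroup.iff_card.mp Q.isPGroup'
    have h1 : p ^ 1 ∣ Nat.card (Q : Subgroup (Equiv.Perm α)) :=
      Q.pow_dvd_card_of_pow_dvd_card (by rw [hG, pow_one]; exact hpn)
    have h2 : Nat.card (Q : Subgroup (Equiv.Perm α)) ∣ n ! := by
      rw [← hG]; exact Subgroup.card_subgroup_dvd_card _
    rw [hk] at h1 h2 ⊢
    have hk1 : 1 ≤ k := by
      by_contra hk0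
      have : k = 0 := by omega
      rw [this, pow_zero, pow_one] at h1
      have := Nat.le_of_dvd one_pos h1
      have := hp.one_lt
      omega
    have hk2 : k < 2 := by
      by_contra hk2
      exact hnsq ((pow_dvd_pow p (by omega : 2 ≤ k)).trans h2)
    have : k = 1 := by omega
    rw [this, pow_one]
  -- count elements of order p
  have hcount : Nat.card {σ : Equiv.Perm α // orderOf σ = p} * p = n ! := by
    have h1 : Nat.card {σ : Equiv.Perm α // orderOf σ = p} =
        (Finset.univ.filter (fun σ : Equiv.Perm α => σ.cycleType = {p})).card := by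
      rw [Nat.card_eq_fintype_card, Fintype.card_subtype]
      congr 1
      ext σ
      simp only [Finset.mem_filter, Finset.mem_univ, true_and]
      exact orderOf_eq_iff_cycleType p hp hα σ
    rw [h1]
    have h2 := Equiv.Perm.card_of_cycleType_mul_eq α ({p} : Multiset ℕ)
    have hcond : ((({p} : Multiset ℕ)).sum ≤ Fintype.card α ∧ ∀ a ∈ ({p} : Multiset ℕ), 2 ≤ a) := by
      refine ⟨?_, ?_⟩
      · rw [Multiset.sum_singleton]
        rcases hα with h | h <;> omega
      · intro a ha
        rw [Multiset.mem_singleton] at ha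
        rw [ha]; exact hp.two_le
    rw [if_pos hcond] at h2
    rw [← hn] at h2
    rw [← h2]
    congr 1
    have h3 : (n - ({p} : Multiset ℕ).sum)! = 1 := by
      rw [Multiset.sum_singleton]
      rcases hα with h | h
      · rw [h, Nat.sub_self, Nat.factorial_zero]
      · rw [h, Nat.add_sub_cancel_left, Nat.factorial_one]
    rw [h3]
    simp
  have h5 := card_orderOf_eq_prime (G := Equiv.Perm α) (p := p) hcard
  have h6 : Nat.card (Sylow p (Equiv.Perm α)) *
      Nat.card ↥(Subgroup.normalizer ((P : Subgroup (Equiv.Perm α)) : Set (Equiv.Perm α))) = n ! := by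
    have e : Nat.card (Sylow p (Equiv.Perm α)) = (Subgroup.normalizer
        ((P : Subgroup (Equiv.Perm α)) : Set (Equiv.Perm α))).index := P.card_eq_index_normalizer
    rw [e, Subgroup.index_mul_card, hG]
  have hnp : 0 < Nat.card (Sylow p (Equiv.Perm α)) := Nat.card_pos
  apply Nat.eq_of_mul_eq_mul_left hnp
  rw [h6, ← hcount, h5]
  ring

end Cfsg.Agent.S0989
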