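import Mathlib
import Cfsg.Statements.S0990

set_option autoImplicit false
open Pointwise
open Cfsg

namespace Cfsg.Agent.S0990

/-- Let p be an odd prime and P a Sylow p-subgroup of the symmetric group on a finite set with at least two elements. Then P is contained in the alternating group, and twice the order of the normalizer of P inside the alternating group equals the order of the normalizer of P in the symmetric group. -/
theorem result {α : Type*} [Fintype α] [DecidableEq α] (hα : 2 ≤ Fintype.card α) (p : ℕ) [Fact p.Prime] (hp : p ≠ 2) (P : Sylow p (Equiv.Perm α)) : (P : Subgroup (Equiv.Perm α)) ≤ alternatingGroup α ∧ 2 * Nat.card ↥(Subgroup.normalizer ((((P : Subgroup (Equiv.Perm α)).subgroupOf (alternatingGroup α) : Subgroup ↥(alternatingGroup α)) : Set ↥(alternatingGroup α)))) = Nat.card ↥(Subgroup.normalizer ((P : Subgroup (Equiv.Perm α)) : Set (Equiv.Perm α))) := by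
  have hpp : p.Prime := Fact.out
  haveI : Nontrivial α := Fintype.one_lt_card_iff_nontrivial.1 (by omega)
  set A := alternatingGroup α with hA
  have hPA : (P : Subgroup (Equiv.Perm α)) ≤ A := by
    intro σ hσ
    rw [hA, Equiv.Perm.mem_alternatingGroup]
    obtain ⟨k, hk⟩ := (P.2 ⟨σ, hσ⟩)
    have hk' : σ ^ p ^ k = 1 := by
      have := congrArg Subtype.val hk
      simpa using this
    have h1 : (Equiv.Perm.sign σ) ^ (p ^ k) = 1 := by
      rw [← map_pow, hk', map_one]
    rcases Int.units_eq_one_or (Equiv.Perm.sign σ) with h | h
    · exact h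
    · exfalso
      rw [h] at h1
      have hodd : Odd (p ^ k) := (hpp.odd_of_ne_two hp).pow
      rw [hodd.neg_one_pow] at h1
      exact absurd h1 (by decide)
  refine ⟨hPA, ?_⟩
  set N := Subgroup.normalizer ((P : Subgroup (Equiv.Perm α)) : Set (Equiv.Perm α)) with hN
  rw [← Subgroup.subgroupOf_normalizer_eq hPA]
  -- Frattini
  have hfr : N ⊔ A = ⊤ := by
    have := Sylow.normalizer_sup_eq_top (P.subtype hPA)
    rw [Sylow.coe_subtype, Subgroup.subgroupOf_map_subtype, inf_of_le_left hPA] at this
    exact this
  have hrel : A.relIndex N = 2 := by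
    rw [← Subgroup.relIndex_sup_right N A, hfr, Subgroup.relIndex_top_right, hA,
      alternatingGroup.index_eq_two]
  have h1 : Nat.card (A.subgroupOf N) * A.relIndex N = Nat.card N :=
    Subgroup.card_mul_index (A.subgroupOf N)
  have h2 : Nat.card (A.subgroupOf N) = Nat.card (N.subgroupOf A) := by
    have e1 : Nat.card (A.subgroupOf N) = Nat.card ((A.subgroupOf N).map N.subtype) :=
      (Subgroup.card_map_of_injective N.subtype_injective).symm
    have e2 : Nat.card (N.subgroupOf A) = Nat.card ((N.subgroupOf A).map A.subtype) :=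
      (Subgroup.card_map_of_injective A.subtype_injective).symm
    rw [e1, e2, Subgroup.subgroupOf_map_subtype, Subgroup.subgroupOf_map_subtype, inf_comm]
  rw [← h1, h2, hrel, mul_comm]

end Cfsg.Agent.S0990
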