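import Mathlib
import Cfsg.Statements.S0115
import Cfsg.Agent.Lib.Helper16.Taussky
import Cfsg.Agent.Lib.Helper16.DSQAb

set_option autoImplicit false
open Cfsg

namespace Cfsg.Agent.S0115

open Cfsg.Agent.Helper16 in
/-- A 2-group of order 2^n, n ≥ 3, is of maximal class exactly when its commutator quotient is a Klein four-group. -/
theorem result {X : Type*} [Group X] [Finite X] (n : ℕ) (hn : 3 ≤ n) (hX : Nat.card X = 2 ^ n) : Group.nilpotencyClass X = n - 1 ↔ IsKleinFour (X ⧸ commutator X) := by
  constructor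
  · intro hc
    obtain ⟨a, x, h⟩ := exists_isDSQ_of_maximal_class n hn X hX hc
    exact h.isKleinFour
  · intro hK
    have hidx : (commutator X).index = 4 := by
      rw [Subgroup.index_eq_card]
      exact hK.card_four
    obtain ⟨a, ha⟩ := exists_orderOf_of_index_commutator n hn X hX hidx
    have hcard : Nat.card X = 2 ^ (n - 1 + 1) := by rw [hX]; congr 1; omega
    have h8 : 2 ^ 3 ≤ 2 ^ n := Nat.pow_le_pow_right (by norm_num) hn
    rcases isDSQ_or (k := n - 1) (by omega) hcard ha with h1 | ⟨h3, hzc, hcomm⟩ | ⟨x, hx⟩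
    · exfalso
      rw [commutator_eq_bot, Subgroup.index_bot, hX] at hidx
      omega
    · exfalso
      have hz2 : (a ^ 2 ^ (n - 1 - 1)) ^ 2 = 1 := pow_half_sq (by omega) ha
      have h1 : Nat.card (commutator X) ≤ 2 := by
        calc Nat.card (commutator X) ≤ Nat.card (Subgroup.zpowers (a ^ 2 ^ (n - 1 - 1))) :=
              Subgroup.card_le_of_le hcomm
          _ = orderOf (a ^ 2 ^ (n - 1 - 1)) := Nat.card_zpowers _
          _ ≤ 2 := Nat.le_of_dvd two_pos (orderOf_dvd_of_pow_eq_one hz2)
      have h2 := Subgroup.card_mul_index (commutator X)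
      rw [hidx, hX] at h2
      have h16 : 2 ^ 4 ≤ 2 ^ n := Nat.pow_le_pow_right (by norm_num) (by omega)
      omega
    · exact IsDSQ.nilpotencyClass_eq (n - 1) (by omega) X a x hx

end Cfsg.Agent.S0115
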