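import Mathlib
import Cfsg.Agent.Lib.Helper22.RankThree
import Cfsg.Agent.Lib.Helper22.MaxClass
import Cfsg.Agent.Lib.Helper22.CyclicChain
import Cfsg.Agent.Lib.Helper16.UniqueInvolution
import Cfsg.Agent.S0100
import Cfsg.Agent.S0126
import Cfsg.Agent.S1337
import Cfsg.Agent.S0115
import Cfsg.Agent.S4399
import Cfsg.Statements.S0519
-- import your own Cfsg.Agent.* helpers here

set_option autoImplicit false
open Cfsg

namespace Cfsg.Agent.S0519

open Subgroup
open scoped commutatorElement
open Cfsg.Agent.Helper22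

/-- the 2-group case -/
theorem two_case {P : Type*} [Group P] [Finite P]
    (hP : IsPGroup 2 P) (hn : ∀ A : Subgroup P, A.Normal → IsMulCommutative A → IsCyclic A)
    (B : Subgroup P) (hBc : IsMulCommutative B) (hBnc : ¬ IsCyclic B) :
    (∃ n : ℕ, Nonempty (P ≃* QuaternionGroup n)) ∨ (∃ n : ℕ, 8 ≤ n ∧ Nonempty (P ≃* DihedralGroup n)) ∨
      Cfsg.IsQuasiDihedral P := by
  classical
  haveI : Fact (Nat.Prime 2) := ⟨Nat.prime_two⟩
  -- P is not cyclic
  have hPnc : ¬ IsCyclic P := by
    intro h
    exact hBnc (Subgroup.isCyclic B)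
  -- card B ≥ 4
  have hB4 : 4 ≤ Nat.card B := by
    obtain ⟨k, hk⟩ := (hP.to_subgroup B).exists_card_eq
    rw [hk]
    have hk2 : 2 ≤ k := by
      by_contra h
      have hk1 : k ≤ 1 := by omega
      apply hBnc
      rcases Nat.le_one_iff_eq_zero_or_eq_one.1 hk1 with h0 | h1
      · rw [h0, pow_zero] at hk
        haveI : Subsingleton B := (Nat.card_eq_one_iff_unique.1 hk).1
        exact isCyclic_of_subsingleton
      · rw [h1, pow_one] at hk
        exact isCyclic_of_prime_card hk
    calc 4 = 2 ^ 2 := by norm_num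
    _ ≤ 2 ^ k := Nat.pow_le_pow_right (by norm_num) hk2
  have hP4 : 2 ^ 2 ≤ Nat.card P := by
    have := Subgroup.card_le_card_group B
    omega
  -- a normal subgroup U of order 4; it is cyclic
  obtain ⟨U, hUn, hUcard⟩ := Cfsg.Agent.S1337.exists_normal_card_sq hP hP4
  haveI := hUn
  have hUcomm : IsMulCommutative U := IsPGroup.isMulCommutative_of_card_eq_prime_sq hUcard
  have hUcm : ∀ u ∈ U, ∀ v ∈ U, u * v = v * u := fun a ha b hb =>
    congrArg Subtype.val (hUcomm.is_comm.comm ⟨a, ha⟩ ⟨b, hb⟩)
  haveI hUcyc : IsCyclic U := hn U hUn hUcomm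
  have hU4 : ∀ u ∈ U, u ^ 2 ^ 2 = 1 := by
    intro u hu
    have : (⟨u, hu⟩ : U) ^ Nat.card U = 1 := pow_card_eq_one'
    rw [hUcard] at this
    exact congrArg Subtype.val this
  set C : Subgroup P := centralizer (U : Set P) with hC
  have hUC : U ≤ C := by
    intro u hu
    rw [hC, Subgroup.mem_centralizer_iff]
    intro v hv
    exact hUcm v hv u hu
  -- Alperin: elements of order dividing 4 in C lie in U
  have hOmega : ∀ x ∈ C, x ^ 2 ^ 2 = 1 → x ∈ U := by
    intro x hx hx4
    by_contra hxU
    obtain ⟨B', hB'n, hB'⟩ := exists_normal_isStepOver hP 2 (by norm_num) U hUcm hU4 x hx hx4 hxU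
    have hB'c : IsMulCommutative B' := ⟨⟨fun a b => Subtype.ext (hB'.comm a a.2 b b.2)⟩⟩
    haveI hB'cyc : IsCyclic B' := hn B' hB'n hB'c
    -- B' cyclic of exponent 4 has at most 4 elements
    obtain ⟨g, hg⟩ := IsCyclic.exists_generator (α := B')
    have hord : orderOf g = Nat.card B' := orderOf_eq_card_of_forall_mem_zpowers hg
    have hg4 : g ^ 2 ^ 2 = 1 := Subtype.ext (by simpa using hB'.exp g g.2)
    have := orderOf_dvd_of_pow_eq_one hg4
    rw [hord, hB'.card, hUcard] at this
    norm_num at this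
  -- C has a unique involution
  have hCP : IsPGroup 2 C := hP.to_subgroup C
  have huniq : Cfsg.Agent.Helper16.UniqueOrderP 2 C := by
    intro x y hx hy
    have hxU : (x : P) ∈ U := by
      apply hOmega x x.2
      have : x ^ 2 = 1 := by rw [← hx]; exact pow_orderOf_eq_one x
      have h2 : (x : P) ^ 2 = 1 := by simpa using congrArg Subtype.val this
      rw [pow_two, pow_mul, h2, one_pow]
    have hyU : (y : P) ∈ U := by
      apply hOmega y y.2
      have : y ^ 2 = 1 := by rw [← hy]; exact pow_orderOf_eq_one y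
      have h2 : (y : P) ^ 2 = 1 := by simpa using congrArg Subtype.val this
      rw [pow_two, pow_mul, h2, one_pow]
    have hox : orderOf (⟨(x : P), hxU⟩ : U) = 2 := by
      rw [← hx, ← Subgroup.orderOf_coe, ← Subgroup.orderOf_coe]
    have hoy : orderOf (⟨(y : P), hyU⟩ : U) = 2 := by
      rw [← hy, ← Subgroup.orderOf_coe, ← Subgroup.orderOf_coe]
    have hle : zpowers (⟨(y : P), hyU⟩ : U) ≤ zpowers (⟨(x : P), hxU⟩ : U) := by
      apply le_of_card_dvd_of_isCyclic
      rw [Nat.card_zpowers, Nat.card_zpowers, hox, hoy]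
    obtain ⟨k, hk⟩ := Subgroup.mem_zpowers_iff.1 (hle (Subgroup.mem_zpowers _))
    rw [Subgroup.mem_zpowers_iff]
    refine ⟨k, ?_⟩
    apply Subtype.ext
    have := congrArg Subtype.val hk
    simpa using this
  -- hence C is cyclic
  have hCcyc : IsCyclic C := by
    rcases Cfsg.Agent.Helper16.cyclic_or_quaternion_of_uniqueOrderP_two hCP huniq with h | ⟨m, ⟨φ⟩⟩
    · exact h
    · -- the two elements xa 0, xa 1 both lie in U, so they commute
      set N : ℕ := 2 ^ m with hN
      have hmem : ∀ i : ZMod (2 * N), ((φ.symm (QuaternionGroup.xa i) : C) : P) ∈ U := by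
        intro i
        apply hOmega _ (φ.symm (QuaternionGroup.xa i)).2
        have h4 : (φ.symm (QuaternionGroup.xa i)) ^ 4 = 1 := by
          rw [← map_pow, QuaternionGroup.xa_pow_four, map_one]
        have := congrArg Subtype.val h4
        simpa using this
      have hcomm : (QuaternionGroup.xa (0 : ZMod (2 * N)) : QuaternionGroup N) *
          QuaternionGroup.xa 1 = QuaternionGroup.xa 1 * QuaternionGroup.xa 0 := by
        have h1 := hUcm _ (hmem 0) _ (hmem 1)
        have h2 : φ.symm (QuaternionGroup.xa 0) * φ.symm (QuaternionGroup.xa 1) =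
            φ.symm (QuaternionGroup.xa 1) * φ.symm (QuaternionGroup.xa 0) := Subtype.ext h1
        rw [← map_mul, ← map_mul] at h2
        exact φ.symm.injective h2
      rw [QuaternionGroup.xa_mul_xa, QuaternionGroup.xa_mul_xa] at hcomm
      have h3 : ((N : ZMod (2 * N)) + 1 - 0) = (N : ZMod (2 * N)) + 0 - 1 := by
        injection hcomm
      have h4 : (2 : ZMod (2 * N)) = 0 := by
        have : ((N : ZMod (2 * N)) + 1 - 0) - ((N : ZMod (2 * N)) + 0 - 1) = 0 := by
          rw [h3, sub_self]
        ring_nf at this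
        exact this
      have hN1 : N = 1 := by
        have h5 : ((2 : ℕ) : ZMod (2 * N)) = 0 := by exact_mod_cast h4
        rw [ZMod.natCast_eq_zero_iff] at h5
        have hNpos : 0 < N := pow_pos (by norm_num) m
        have : 2 * N ≤ 2 := Nat.le_of_dvd (by norm_num) h5
        omega
      -- so C has 4 elements and equals U
      have hCcard : Nat.card C = 4 := by
        rw [Nat.card_congr φ.toEquiv, hN1]
        haveI : NeZero (1 : ℕ) := ⟨one_ne_zero⟩
        rw [Nat.card_eq_fintype_card, QuaternionGroup.card]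
      have hCU : U = C := Subgroup.eq_of_le_of_card_ge hUC (by rw [hCcard, hUcard]; norm_num)
      rw [← hCU]
      exact hUcyc
  -- C has index 2
  have hidx : C.index ≤ 2 := Cfsg.Agent.S0100.index_centralizer_le hP U hUcard
  have hCne : C ≠ ⊤ := by
    intro h
    apply hPnc
    rw [h] at hCcyc
    exact isCyclic_of_surjective (Subgroup.topEquiv (G := P)).toMonoidHom
      (Subgroup.topEquiv (G := P)).surjective
  obtain ⟨b, hbC⟩ : ∃ b : P, b ∉ C := by
    by_contra hno
    apply hCne
    rw [eq_top_iff]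
    intro x _
    by_contra hx
    exact hno ⟨x, hx⟩
  -- centraliser of b has at most 4 elements
  have hD : Nat.card (centralizer {b} ⊓ C : Subgroup P) ≤ 2 := by
    set D : Subgroup P := centralizer {b} ⊓ C with hDdef
    by_contra hlt
    rw [not_le] at hlt
    have hDC : D ≤ C := inf_le_right
    -- U ≤ D
    have hUD : U ≤ D := by
      rcases le_or_le_of_le_isCyclic_of_isPGroup C hCP U D hUC hDC with h | h
      · exact h
      · obtain ⟨k, hk⟩ := (hP.to_subgroup D).exists_card_eq
        have hk2 : 2 ≤ k := by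
          by_contra hk2
          have : k ≤ 1 := by omega
          have : 2 ^ k ≤ 2 ^ 1 := Nat.pow_le_pow_right (by norm_num) this
          omega
        have : 2 ^ 2 ≤ 2 ^ k := Nat.pow_le_pow_right (by norm_num) hk2
        have hDU : D = U := Subgroup.eq_of_le_of_card_ge h (by rw [hUcard, hk]; exact this)
        rw [hDU]
    apply hbC
    rw [hC, Subgroup.mem_centralizer_iff]
    intro u hu
    have := (hUD hu).1
    exact (Subgroup.mem_centralizer_singleton_iff.1 this)
  have hCb : Nat.card (centralizer {b} : Subgroup P) ≤ 2 ^ 2 := by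
    have hrel := card_eq_relIndex_mul_card (centralizer {b} ⊓ C) (centralizer {b}) inf_le_left
    rw [inf_comm, Subgroup.inf_relIndex_right, inf_comm] at hrel
    have hr : C.relIndex (centralizer {b}) ≤ 2 := by
      haveI : C.Normal := by rw [hC]; infer_instance
      have h1 : C.relIndex (centralizer {b}) ∣ C.index := Subgroup.relIndex_dvd_index_of_normal C _
      have hpos : 0 < C.index := Nat.pos_of_ne_zero Subgroup.index_ne_zero_of_finite
      exact (Nat.le_of_dvd hpos h1).trans hidx
    rw [hrel]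
    calc C.relIndex (centralizer {b}) * Nat.card (centralizer {b} ⊓ C : Subgroup P) ≤ 2 * 2 :=
        Nat.mul_le_mul hr hD
    _ = 2 ^ 2 := by norm_num
  -- order of P
  obtain ⟨n, hcardP⟩ := hP.exists_card_eq
  have hn3 : 3 ≤ n := by
    by_contra h
    have hn2 : n ≤ 2 := by omega
    have h1 : Nat.card P ≤ 2 ^ 2 := by
      rw [hcardP]; exact Nat.pow_le_pow_right (by norm_num) hn2
    -- then U = ⊤ = C
    have hUtop : U = ⊤ := Subgroup.eq_top_of_card_eq U (le_antisymm (Subgroup.card_le_card_group U)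
      (by rw [hUcard]; exact h1))
    apply hCne
    rw [eq_top_iff, ← hUtop]
    exact hUC
  obtain ⟨hclass, -⟩ := maxClass_of_card_centralizer_le (p := 2) n (by omega) P hcardP b hCb
  have hK : IsKleinFour (P ⧸ commutator P) := (Cfsg.Agent.S0115.result n hn3 hcardP).1 hclass
  have hab : Nat.card (Abelianization P) = 4 := hK.card_four
  have hexp : ∀ x : Abelianization P, x ^ 2 = 1 := by
    intro x
    have h2 : Monoid.exponent (P ⧸ commutator P) = 2 := hK.exponent_two
    have := Monoid.pow_exponent_eq_one (G := P ⧸ commutator P) x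
    rwa [h2] at this
  -- P does not have order 8
  have hn4 : 4 ≤ n := by
    by_contra h
    have hn3' : n = 3 := by omega
    rw [hn3'] at hcardP
    have hdvd : Nat.card B ∣ 8 := by
      have := Subgroup.card_subgroup_dvd_card B
      rwa [hcardP] at this
    have hBle : Nat.card B ≤ 8 := Nat.le_of_dvd (by norm_num) hdvd
    have hB48 : Nat.card B = 4 ∨ Nat.card B = 8 := by
      interval_cases h : Nat.card B <;> simp_all
    rcases hB48 with h4 | h8
    · have hidxB : B.index = 2 := by
        have := Subgroup.card_mul_index B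
        rw [hcardP, h4] at this
        omega
      have hBn : B.Normal := Subgroup.normal_of_index_eq_two hidxB
      exact hBnc (hn B hBn hBc)
    · have hBtop : B = ⊤ := Subgroup.eq_top_of_card_eq B (by rw [h8, hcardP]; norm_num)
      have hBn : B.Normal := by rw [hBtop]; infer_instance
      exact hBnc (hn B hBn hBc)
  rcases Cfsg.Agent.S4399.result hP hab hexp with h4 | ⟨k, ⟨φ⟩⟩ | ⟨k, hcard, a, y, ha, hy, hya⟩ | ⟨k, ⟨φ⟩⟩
  · exfalso
    rw [hcardP] at h4
    have : 2 ^ 4 ≤ 2 ^ n := Nat.pow_le_pow_right (by norm_num) hn4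
    omega
  · right; left
    refine ⟨2 ^ (k + 2), ?_, ⟨φ⟩⟩
    have h1 : Nat.card P = 2 * 2 ^ (k + 2) := by
      rw [Nat.card_congr φ.toEquiv, DihedralGroup.nat_card]
    rw [hcardP] at h1
    have h16 : 2 ^ 4 ≤ 2 ^ n := Nat.pow_le_pow_right (by norm_num) hn4
    omega
  · right; right
    refine ⟨k + 3, by omega, ?_, a, y, ha, hy, ?_⟩
    · rw [hcard]
    · rw [hya]
      rfl
  · left
    exact ⟨2 ^ (k + 1), ⟨φ⟩⟩

/-- Let P be a finite p-group in which every abelian normal subgroup is cyclic, but which has a non-cyclic abelian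
subgroup. Then p = 2 and P is generalized quaternion, dihedral of order at least 16, or quasi-dihedral. -/
theorem result {P : Type*} [Group P] [Finite P] (p : ℕ) [Fact p.Prime]
    (hP : IsPGroup p P) (hn : ∀ A : Subgroup P, A.Normal → IsMulCommutative A → IsCyclic A)
    (hm : ∃ B : Subgroup P, IsMulCommutative B ∧ ¬ IsCyclic B) :
    p = 2 ∧ ((∃ n : ℕ, Nonempty (P ≃* QuaternionGroup n)) ∨ (∃ n : ℕ, 8 ≤ n ∧ Nonempty (P ≃* DihedralGroup n)) ∨
      Cfsg.IsQuasiDihedral P) := by
  classical
  have hpp : p.Prime := Fact.out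
  obtain ⟨B, hBc, hBnc⟩ := hm
  have hp2 : p = 2 := by
    by_contra hp2
    have hPnc : ¬ IsCyclic P := by
      intro h
      exact hBnc (Subgroup.isCyclic B)
    obtain ⟨A, hAn, ⟨hAc, hAe⟩, hAcard⟩ := Cfsg.Agent.S0126.result hp2 hP hPnc
    haveI := hn A hAn hAc
    have h1 : Nat.card (⊤ : Subgroup A) ≤ p :=
      Cfsg.Agent.S0100.card_le_of_isCyclic (P := A) p ⊤ (by
        intro e _
        apply Subtype.ext
        simpa using hAe e.1 e.2)
    rw [Subgroup.card_top, hAcard] at h1
    nlinarith [hpp.two_le]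
  subst hp2
  exact ⟨rfl, two_case hP hn B hBc hBnc⟩

end Cfsg.Agent.S0519
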