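import Mathlib
import Cfsg.Statements.S0058
import Cfsg.Agent.Lib.Helper15.CoprimeGen2
import Cfsg.Agent.Lib.Helper1.CyclicCriterion
import Cfsg.Agent.Lib.Helper1.ElemAbelianPair

set_option autoImplicit false
open Cfsg
open Cfsg.Agent.Helper1

namespace Cfsg.Agent.S0058

/-- Generation by centralisers: when a noncyclic abelian group A normalises K with coprime orders, K is generated by the fixed-point subgroups of the nonidentity elements of A. -/
theorem result {G : Type*} [Group G] [Finite G] (A K : Subgroup G)
    [IsMulCommutative A] (hA : ¬ IsCyclic A) (hAK : A ≤ Subgroup.normalizer (K : Set G)) (hcop : (Nat.card A).Coprime (Nat.card K)) :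
    (⨆ a ∈ {a : G | a ∈ A ∧ a ≠ 1}, K ⊓ Subgroup.centralizer {a}) = K := by
  apply le_antisymm
  · exact iSup₂_le (fun a _ => inf_le_left)
  · have hc : ∀ a b : A, a * b = b * a := fun a b => (inferInstance : IsMulCommutative A).is_comm.comm a b
    -- two independent elements of prime order
    have hex : ∃ r : ℕ, r.Prime ∧ ∃ x y : A, orderOf x = r ∧ orderOf y = r ∧
        y ∉ Subgroup.zpowers x := by
      by_contra hno
      push Not at hno
      exact hA (isCyclic_of_comm_of_unique hc (fun r hr x y hx hy => hno r hr x y hx hy))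
    obtain ⟨r, hr, x, y, hx, hy, hxy⟩ := hex
    haveI : Fact r.Prime := ⟨hr⟩
    have hx' : orderOf (x : G) = r := by rw [Subgroup.orderOf_coe, hx]
    have hy' : orderOf (y : G) = r := by rw [Subgroup.orderOf_coe, hy]
    have hxy' : (y : G) ∉ Subgroup.zpowers (x : G) := by
      intro h
      apply hxy
      obtain ⟨k, hk⟩ := Subgroup.mem_zpowers_iff.mp h
      rw [Subgroup.mem_zpowers_iff]
      exact ⟨k, Subtype.ext (by simpa using hk)⟩
    obtain ⟨hU, hU2⟩ := elemAbelian_closure_pair hx' hy' (congrArg Subtype.val (hc x y)) hxy'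
    set U : Subgroup G := Subgroup.closure {(x : G), (y : G)} with hUdef
    have hUA : U ≤ A := by
      rw [hUdef, Subgroup.closure_le]
      intro a ha
      rcases ha with rfl | ha
      · exact x.2
      · rw [Set.mem_singleton_iff] at ha; subst ha; exact y.2
    have hrA : r ∣ Nat.card A := by rw [← hx]; exact orderOf_dvd_natCard x
    have hKr : (Nat.card K).Coprime r := (Nat.Coprime.coprime_dvd_left hrA hcop).symm
    apply Cfsg.Agent.Helper15.le_of_forall_ne_one_inf_centralizer_le hU hU2 hKr (hUA.trans hAK)
    intro u hu hu1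
    exact le_iSup₂ (f := fun a (_ : a ∈ {a : G | a ∈ A ∧ a ≠ 1}) => K ⊓ Subgroup.centralizer {a})
      u ⟨hUA hu, hu1⟩

end Cfsg.Agent.S0058
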