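import Mathlib
import Cfsg.Statements.S3103
import Cfsg.Agent.Lib.Helper12.FrattiniAct
import Cfsg.Agent.Lib.Helper12.ElemAbGL4
open scoped commutatorElement

set_option autoImplicit false
open Cfsg

namespace Cfsg.Agent.S3103

/-- Let X be a finite 2-constrained group with no nontrivial normal subgroup of odd order such that O₂(X) has sectional 2-rank at most 4. Then X/O₂(X) is isomorphic to a subgroup of the alternating group of degree 8. -/
theorem result {X : Type*} [Group X] [Finite X] (hc : Cfsg.IsPConstrained 2 X) (hO : Cfsg.oddCore X = ⊥)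
    (h4 : Cfsg.SectionalPRankLE 2 4 ↥(Cfsg.pCore 2 X)) :
    ∃ f : X ⧸ Cfsg.pCore 2 X →* ↥(alternatingGroup (Fin 8)), Function.Injective f := by
  classical
  have hCQ : Subgroup.centralizer (Cfsg.pCore 2 X : Set X) ≤ Cfsg.pCore 2 X :=
    Cfsg.Agent.Helper12.FA.centralizer_pCore_le hc hO
  have hker1 := Cfsg.Agent.Helper12.FA.ker_rho_le (X := X) (p := 2) hCQ
  have hker2 := Cfsg.Agent.Helper12.FA.le_ker_rho (X := X) (p := 2)
  have hQp : IsPGroup 2 ↥(Cfsg.pCore 2 X) := Cfsg.Agent.Helper14.pCore_isPGroup 2 X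
  have h12 := Cfsg.Agent.S0012.result (G := ↥(Cfsg.pCore 2 X)) 2 hQp
  -- the Frattini quotient is elementary abelian of order at most 16
  have hcomm : ∀ a b : ↥(Cfsg.pCore 2 X) ⧸ frattini ↥(Cfsg.pCore 2 X), a * b = b * a := by
    intro a b
    induction a using QuotientGroup.induction_on with
    | H a =>
      induction b using QuotientGroup.induction_on with
      | H b =>
        rw [← QuotientGroup.mk_mul, ← QuotientGroup.mk_mul, QuotientGroup.eq]
        apply h12.1
        have : (a * b)⁻¹ * (b * a) = ⁅b⁻¹, a⁻¹⁆ := by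
          rw [commutatorElement_def]
          group
        rw [this, commutator_def]
        exact Subgroup.commutator_mem_commutator (Subgroup.mem_top _) (Subgroup.mem_top _)
  have hexp : ∀ a : ↥(Cfsg.pCore 2 X) ⧸ frattini ↥(Cfsg.pCore 2 X), a ^ 2 = 1 := by
    intro a
    induction a using QuotientGroup.induction_on with
    | H a =>
      rw [← QuotientGroup.mk_pow, QuotientGroup.eq_one_iff]
      exact h12.2 a
  have hcard : Nat.card (↥(Cfsg.pCore 2 X) ⧸ frattini ↥(Cfsg.pCore 2 X)) ≤ 16 := by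
    have h := h4 (⊤ : Subgroup ↥(Cfsg.pCore 2 X))
      ((frattini ↥(Cfsg.pCore 2 X)).subgroupOf ⊤)
    have hmap : Subgroup.map ((Subgroup.topEquiv : ↥(⊤ : Subgroup ↥(Cfsg.pCore 2 X)) ≃* _) :
        ↥(⊤ : Subgroup ↥(Cfsg.pCore 2 X)) →* ↥(Cfsg.pCore 2 X))
        ((frattini ↥(Cfsg.pCore 2 X)).subgroupOf ⊤) = frattini ↥(Cfsg.pCore 2 X) := by
      ext y
      constructor
      · rintro ⟨z, hz, rfl⟩
        exact hz
      · intro hy
        exact ⟨⟨y, Subgroup.mem_top y⟩, hy, rfl⟩
    let ι := QuotientGroup.congr ((frattini ↥(Cfsg.pCore 2 X)).subgroupOf ⊤)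
      (frattini ↥(Cfsg.pCore 2 X)) Subgroup.topEquiv hmap
    have hA := h ⊤ ⟨⟨fun a b => by
        apply Subtype.ext
        apply ι.injective
        show ι (a.1 * b.1) = ι (b.1 * a.1)
        rw [map_mul, map_mul]
        exact hcomm _ _⟩⟩ (by
      intro a _
      apply ι.injective
      rw [map_pow, map_one]
      exact hexp _)
    rw [Subgroup.card_top, Nat.card_congr ι.toEquiv] at hA
    exact hA
  obtain ⟨f1, hf1⟩ := Cfsg.Agent.Helper12.EA.exists_embedding_GL4 hcomm hexp hcard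
  obtain ⟨f2, hf2⟩ := Cfsg.Agent.Helper12.EA.exists_embedding_A8
  let f0 : X ⧸ Cfsg.pCore 2 X →* MulAut (↥(Cfsg.pCore 2 X) ⧸ frattini ↥(Cfsg.pCore 2 X)) :=
    QuotientGroup.lift (Cfsg.pCore 2 X) (Cfsg.Agent.Helper12.FA.rho (Cfsg.pCore 2 X)) hker2
  have hf0 : Function.Injective f0 := by
    rw [injective_iff_map_eq_one]
    intro a ha
    induction a using QuotientGroup.induction_on with
    | H x =>
      have hx : x ∈ (Cfsg.Agent.Helper12.FA.rho (Cfsg.pCore 2 X)).ker := MonoidHom.mem_ker.2 ha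
      exact (QuotientGroup.eq_one_iff x).2 (hker1 hx)
  exact ⟨(f2.comp f1).comp f0, fun a b h => hf0 (hf1 (hf2 h))⟩

end Cfsg.Agent.S3103
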