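import Mathlib
import Cfsg.Statements.S5085
import Cfsg.Agent.Lib.Helper25.FusionNormal

set_option autoImplicit false
open Cfsg

namespace Cfsg.Agent.S5085

open Cfsg.Agent.Helper25 Cfsg.FusionSystem

/-- In any fusion system, a characteristic subgroup of a subgroup that is normal in the system is itself normal in the system. -/
theorem result {Ω : Type*} [Group Ω] {S : Subgroup Ω} (F : Cfsg.FusionSystem S) (Q U : Subgroup Ω) (hQ : F.IsNormal Q) (hUQ : U ≤ Q) (hU : (U.subgroupOf Q).Characteristic) : F.IsNormal U := by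
  refine ⟨hUQ.trans hQ.1, fun P φ hφ => ?_⟩
  obtain ⟨ψ, hψ, hext, himg⟩ := hQ.2 P φ hφ
  have hle : P ⊔ U ≤ P ⊔ Q := sup_le_sup_left hUQ P
  have hinj := F.injective_of_mem hψ
  -- the automorphism of Q induced by ψ
  have hQK : Q ≤ P ⊔ Q := le_sup_right
  have hψQ : ∀ x : Q, ψ ⟨x, hQK x.2⟩ ∈ Q := by
    intro x
    have : ψ ⟨x, hQK x.2⟩ ∈ (Q.subgroupOf (P ⊔ Q)).map ψ :=
      (mem_map_subgroupOf ψ).mpr ⟨x, hQK x.2, x.2, rfl⟩
    rwa [himg] at this
  let β₀ : Q →* Q := (ψ.comp (Subgroup.inclusion hQK)).codRestrict Q hψQ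
  have hβinj : Function.Injective β₀ := by
    intro a b hab
    have h1 : ψ ⟨a, hQK a.2⟩ = ψ ⟨b, hQK b.2⟩ := congrArg Subtype.val hab
    have h2 := hinj h1
    have h3 : ((⟨a, hQK a.2⟩ : ↥(P ⊔ Q)) : Ω) = ((⟨b, hQK b.2⟩ : ↥(P ⊔ Q)) : Ω) := congrArg Subtype.val h2
    exact Subtype.ext h3
  have hβsurj : Function.Surjective β₀ := by
    intro y
    have hy : (y : Ω) ∈ (Q.subgroupOf (P ⊔ Q)).map ψ := by rw [himg]; exact y.2
    obtain ⟨x, hK, hxQ, hxy⟩ := (mem_map_subgroupOf ψ).mp hy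
    exact ⟨⟨x, hxQ⟩, Subtype.ext hxy⟩
  let β : Q ≃* Q := MulEquiv.ofBijective β₀ ⟨hβinj, hβsurj⟩
  have hβ : ∀ x : Q, ((β x : Q) : Ω) = ψ ⟨x, hQK x.2⟩ := fun x => rfl
  have hchar := (Subgroup.characteristic_iff_map_eq.mp hU) β
  refine ⟨ψ.comp (Subgroup.inclusion hle), restrict_mem F hle hψ, fun x => ?_, ?_⟩
  · rw [← hext x]; rfl
  · ext y
    rw [mem_map_subgroupOf]
    constructor
    · rintro ⟨x, hK, hxU, rfl⟩
      have h1 : β ⟨x, hUQ hxU⟩ ∈ (U.subgroupOf Q).map β.toMonoidHom :=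
        ⟨⟨x, hUQ hxU⟩, Subgroup.mem_subgroupOf.mpr hxU, rfl⟩
      rw [hchar] at h1
      exact Subgroup.mem_subgroupOf.mp h1
    · intro hy
      have h1 : (⟨y, hUQ hy⟩ : Q) ∈ (U.subgroupOf Q).map β.toMonoidHom := by
        rw [hchar]; exact Subgroup.mem_subgroupOf.mpr hy
      obtain ⟨x, hxU, hxy⟩ := h1
      have hxU' : (x : Ω) ∈ U := Subgroup.mem_subgroupOf.mp hxU
      refine ⟨x, le_sup_right (a := P) hxU', hxU', ?_⟩
      have := congrArg Subtype.val hxy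
      exact this

end Cfsg.Agent.S5085
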