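import Mathlib
import Cfsg.Statements.S5089
import Cfsg.Agent.Lib.Helper25.FusionNormal3
import Cfsg.Agent.S5085

set_option autoImplicit false

namespace Cfsg.Agent.S5089

open Cfsg Cfsg.FusionSystem Cfsg.Agent.Helper25

theorem result {Ω : Type*} [Group Ω] {S : Subgroup Ω} [Finite S] (p : ℕ) [Fact p.Prime] (hS : IsPGroup p S) (F : Cfsg.FusionSystem S) (hF : F.IsSaturated p) : F.core ≠ ⊥ ↔ ∃ Q : Subgroup Ω, Q ≠ ⊥ ∧ IsMulCommutative Q ∧ F.StronglyClosed Q := by
  constructor
  · intro hne
    have hR : F.IsNormal F.core := isNormal_core F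
    have hRS : F.core ≤ S := hR.1
    haveI : Finite ↥F.core := finite_of_le_finite hRS
    haveI : Nontrivial ↥F.core := (Subgroup.nontrivial_iff_ne_bot _).mpr hne
    have hRp : IsPGroup p ↥F.core := hS.to_le hRS
    have hZnt : Nontrivial (Subgroup.center ↥F.core) := hRp.center_nontrivial
    refine ⟨(Subgroup.center ↥F.core).map F.core.subtype, ?_, ?_, ?_⟩
    · intro h
      rw [(Subgroup.map_eq_bot_iff_of_injective _ F.core.subtype_injective)] at h
      exact (Subgroup.nontrivial_iff_ne_bot _).mp hZnt h
    · refine ⟨⟨?_⟩⟩
      rintro ⟨_, a, ha, rfl⟩ ⟨_, b, hb, rfl⟩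
      apply Subtype.ext
      show (a : Ω) * (b : Ω) = (b : Ω) * (a : Ω)
      have := Subgroup.mem_center_iff.mp ha b
      have h2 : ((b * a : ↥F.core) : Ω) = ((a * b : ↥F.core) : Ω) := congrArg Subtype.val this
      exact h2.symm
    · apply stronglyClosed_of_isNormal
      apply Cfsg.Agent.S5085.result F F.core _ hR
      · rintro _ ⟨a, -, rfl⟩; exact a.2
      · have : ((Subgroup.center ↥F.core).map F.core.subtype).subgroupOf F.core =
            Subgroup.center ↥F.core :=
          Subgroup.comap_map_eq_self_of_injective F.core.subtype_injective _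
        rw [this]; infer_instance
  · rintro ⟨Q, hne, hcomm, hsc⟩
    have hQ : F.IsNormal Q := by
      apply isNormal_of_chain p hS F hF hsc (fun i => if i = 0 then ⊥ else Q) 1
      · simp
      · intro i hi
        have : i = 0 := by omega
        subst this
        simp
      · intro i hi
        by_cases h0 : i = 0
        · subst h0; simpa using stronglyClosed_bot F
        · simpa [h0] using hsc
      · intro i hi
        have : i = 0 := by omega
        subst this
        simp only [zero_add, one_ne_zero, if_false, if_true]
        rw [le_bot_iff, Subgroup.commutator_eq_bot_iff_le_centralizer]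
        intro a ha
        apply Subgroup.mem_centralizer_iff.mpr
        intro b hb
        have := hcomm.is_comm.comm (⟨b, hb⟩ : Q) ⟨a, ha⟩
        exact congrArg Subtype.val this
      · intro P _ _ α _
        refine ⟨0, fun y hy => ?_⟩
        simp only [if_true] at hy
        have : y = 1 := Subtype.ext (Subgroup.mem_bot.mp hy)
        rw [this, map_one]
    intro hbot
    apply hne
    rw [eq_bot_iff, ← hbot]
    exact le_sSup hQ

end Cfsg.Agent.S5089
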