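import Mathlib
import Cfsg.Statements.S5088
import Cfsg.Agent.Lib.Helper25.FusionNormal3
import Cfsg.Agent.S5085

set_option autoImplicit false

namespace Cfsg.Agent.S5088

open Cfsg Cfsg.FusionSystem Cfsg.Agent.Helper25

theorem result {Ω : Type*} [Group Ω] {S : Subgroup Ω} [Finite S] (p : ℕ) [Fact p.Prime] (hS : IsPGroup p S) (F : Cfsg.FusionSystem S) (hF : F.IsSaturated p) (Q : Subgroup Ω) : F.IsNormal Q ↔ ∃ (n : ℕ) (Qs : Fin (n + 1) → Subgroup Ω), Qs 0 = ⊥ ∧ Qs (Fin.last n) = Q ∧ Monotone Qs ∧ ∀ i : Fin n, F.StronglyClosed (Qs i.succ) ∧ ⁅Q, Qs i.succ⁆ ≤ Qs (Fin.castSucc i) := by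
  constructor
  · intro hQ
    have hQS : Q ≤ S := hQ.1
    haveI : Finite Q := finite_of_le_finite hQS
    have hQp : IsPGroup p Q := hS.to_le hQS
    haveI : Group.IsNilpotent Q := hQp.isNilpotent
    obtain ⟨n, hn⟩ := Group.IsNilpotent.nilpotent' (G := Q)
    refine ⟨n, fun i => (Subgroup.upperCentralSeries Q i).map Q.subtype, ?_, ?_, ?_, ?_⟩
    · simp
    · show (Subgroup.upperCentralSeries Q n).map Q.subtype = Q
      rw [hn, ← MonoidHom.range_eq_map, Subgroup.range_subtype]
    · intro i j hij
      exact Subgroup.map_mono (Subgroup.upperCentralSeries_mono Q hij)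
    · intro i
      constructor
      · apply stronglyClosed_of_isNormal
        apply Cfsg.Agent.S5085.result F Q _ hQ
        · rintro _ ⟨a, -, rfl⟩; exact a.2
        · have : ((Subgroup.upperCentralSeries Q (i.succ : Fin (n + 1))).map Q.subtype).subgroupOf Q =
              Subgroup.upperCentralSeries Q (i.succ : Fin (n + 1)) :=
            Subgroup.comap_map_eq_self_of_injective Q.subtype_injective _
          rw [this]; infer_instance
      · have h2 : ⁅(⊤ : Subgroup Q).map Q.subtype,
            (Subgroup.upperCentralSeries Q ((i : ℕ) + 1)).map Q.subtype⁆ ≤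
            (Subgroup.upperCentralSeries Q (i : ℕ)).map Q.subtype := by
          rw [← Subgroup.map_commutator]
          apply Subgroup.map_mono
          rw [Subgroup.commutator_comm]
          exact Subgroup.commutator_upperCentralSeries_top_le (G := Q) (i : ℕ)
        have h1 : (⊤ : Subgroup Q).map Q.subtype = Q := by
          rw [← MonoidHom.range_eq_map, Subgroup.range_subtype]
        rw [h1] at h2
        simpa using h2
  · rintro ⟨n, Qs, h0, hlast, hmono, hstep⟩
    have hQsc : F.StronglyClosed Q := by
      rcases Nat.eq_zero_or_pos n with rfl | hn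
      · have : Q = ⊥ := by rw [← hlast, ← h0]; rfl
        rw [this]; exact stronglyClosed_bot F
      · have h1 := (hstep ⟨n - 1, by omega⟩).1
        have h2 : (⟨n - 1, by omega⟩ : Fin n).succ = Fin.last n := by
          apply Fin.ext
          simp only [Fin.val_succ, Fin.val_last]
          omega
        rw [h2, hlast] at h1
        exact h1
    apply isNormal_of_chain p hS F hF hQsc
      (fun i => if h : i ≤ n then Qs ⟨i, by omega⟩ else Q) n
    · simp only [le_refl, dite_true]
      exact hlast
    · intro i hi
      have h1 : i ≤ n := by omega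
      have h2 : i + 1 ≤ n := by omega
      simp only [h1, h2, dite_true]
      apply hmono
      simp [Fin.le_def]
    · intro i hi
      simp only [hi, dite_true]
      rcases Nat.eq_zero_or_pos i with rfl | hpos
      · have : (⟨0, by omega⟩ : Fin (n + 1)) = 0 := rfl
        rw [this, h0]; exact stronglyClosed_bot F
      · have h1 := (hstep ⟨i - 1, by omega⟩).1
        have h2 : (⟨i - 1, by omega⟩ : Fin n).succ = ⟨i, by omega⟩ := by
          apply Fin.ext
          simp only [Fin.val_succ]
          omega
        rw [h2] at h1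
        exact h1
    · intro i hi
      have h1 : i ≤ n := by omega
      have h2 : i + 1 ≤ n := by omega
      simp only [h1, h2, dite_true]
      have := (hstep ⟨i, hi⟩).2
      exact this
    · intro P _ _ α _
      refine ⟨0, fun y hy => ?_⟩
      simp only [Nat.zero_le, dite_true] at hy
      have h00 : (⟨0, by omega⟩ : Fin (n + 1)) = 0 := rfl
      rw [h00, h0] at hy
      have : y = 1 := Subtype.ext (Subgroup.mem_bot.mp hy)
      rw [this, map_one]

end Cfsg.Agent.S5088
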