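import Mathlib
import Cfsg.Statements.S5097
import Cfsg.Agent.Lib.Helper25.FusionNormal

set_option autoImplicit false
open Cfsg

namespace Cfsg.Agent.S5097

open Cfsg.Agent.Helper25 Cfsg.FusionSystem

variable {Ω : Type*} [Group Ω] {S : Subgroup Ω}

theorem conj_mem_aux (F : FusionSystem S) (Q : Subgroup Ω) (hQ : Q ≤ S) {P : Subgroup Ω} {g : Ω}
    (hP : P ≤ centralizerIn S Q) (hg : g ∈ centralizerIn S Q) : conjHom P g ∈ F.centralizerHom Q P := by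
  have hPS : P ≤ S := hP.trans centralizerIn_le
  refine ⟨F.conj_mem hPS hg.1, hP, fun x => ?_, conjHom (P ⊔ Q) g, F.conj_mem (sup_le hPS hQ) hg.1,
    fun x => rfl, ?_⟩
  · exact Subgroup.mul_mem _ (Subgroup.mul_mem _ hg (hP x.2)) (Subgroup.inv_mem _ hg)
  · intro x
    show g * (x : Ω) * g⁻¹ = x
    have := (mem_centralizerIn.mp hg).2 x x.2
    rw [← this, mul_inv_cancel_right]

theorem comp_mem_aux (F : FusionSystem S) (Q : Subgroup Ω) {P R : Subgroup Ω} {φ : P →* Ω} {ψ : R →* Ω}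
    (hφ : φ ∈ F.centralizerHom Q P) (hψ : ψ ∈ F.centralizerHom Q R) (h : ∀ x : P, φ x ∈ R) :
    ψ.comp (φ.codRestrict R h) ∈ F.centralizerHom Q P := by
  obtain ⟨hφF, hPN, hφN, φ', hφ', hφext, hφfix⟩ := hφ
  obtain ⟨hψF, hRN, hψN, ψ', hψ', hψext, hψfix⟩ := hψ
  have hφQ : ∀ x (hx : x ∈ Q), φ' ⟨x, le_sup_right (a := P) hx⟩ = x := fun x hx => hφfix ⟨x, hx⟩
  have hψQ : ∀ x (hx : x ∈ Q), ψ' ⟨x, le_sup_right (a := R) hx⟩ = x := fun x hx => hψfix ⟨x, hx⟩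
  have hmaps : ∀ z (hz : z ∈ P ⊔ Q), φ' ⟨z, hz⟩ ∈ R ⊔ Q := by
    intro z hz
    refine sup_induction (C := fun z => ∀ hz : z ∈ P ⊔ Q, φ' ⟨z, hz⟩ ∈ R ⊔ Q) ?_ ?_ ?_ hz hz
    · intro x hx hz
      have := hφext ⟨x, hx⟩
      have e : Subgroup.inclusion (le_sup_left : P ≤ P ⊔ Q) ⟨x, hx⟩ = ⟨x, hz⟩ := rfl
      rw [e] at this; rw [this]
      exact le_sup_left (a := R) (h ⟨x, hx⟩)
    · intro x hx hz
      rw [hφQ x hx]
      exact le_sup_right (a := R) hx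
    · intro a b ha hb iha ihb hz
      have : (⟨a * b, hz⟩ : ↥(P ⊔ Q)) = ⟨a, ha⟩ * ⟨b, hb⟩ := rfl
      rw [this, map_mul]
      exact Subgroup.mul_mem _ (iha ha) (ihb hb)
  have hmaps' : ∀ z : ↥(P ⊔ Q), φ' z ∈ R ⊔ Q := fun z => hmaps z z.2
  refine ⟨F.comp_mem hφF hψF h, hPN, fun x => hψN _, ψ'.comp (φ'.codRestrict (R ⊔ Q) hmaps'),
    F.comp_mem hφ' hψ' hmaps', fun x => ?_, ?_⟩
  · show ψ' ⟨φ' (Subgroup.inclusion le_sup_left x), _⟩ = ψ ⟨φ x, h x⟩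
    have e1 := hφext x
    have e2 := hψext ⟨φ x, h x⟩
    rw [← e2]
    congr 1
    exact Subtype.ext e1
  · intro x
    show ψ' ⟨φ' ⟨x, _⟩, _⟩ = x
    refine Eq.trans ?_ (hψQ x x.2)
    congr 1
    exact Subtype.ext (hφQ x x.2)

theorem inv_mem_aux (F : FusionSystem S) (Q : Subgroup Ω) {P : Subgroup Ω} {φ : P →* Ω}
    (hφ : φ ∈ F.centralizerHom Q P) :
    ∃ ψ ∈ F.centralizerHom Q φ.range, ∀ x : P, ψ ⟨φ x, ⟨x, rfl⟩⟩ = (x : Ω) := by
  obtain ⟨hφF, hPN, hφN, φ', hφ', hφext, hφfix⟩ := hφ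
  have hφQ : ∀ x (hx : x ∈ Q), φ' ⟨x, le_sup_right (a := P) hx⟩ = x := fun x hx => hφfix ⟨x, hx⟩
  obtain ⟨θ, hθ, hθinv, -⟩ := exists_inv F hφ' rfl
  have hle1 : φ.range ≤ φ'.range := by
    rintro _ ⟨x, rfl⟩
    exact ⟨Subgroup.inclusion le_sup_left x, hφext x⟩
  have hle2 : Q ≤ φ'.range := by
    intro y hy
    exact ⟨_, hφQ y hy⟩
  have hle : φ.range ⊔ Q ≤ φ'.range := sup_le hle1 hle2
  have hθφ : ∀ x : P, θ ⟨φ x, hle1 ⟨x, rfl⟩⟩ = (x : Ω) := by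
    intro x
    have := hθinv (Subgroup.inclusion le_sup_left x) ⟨_, rfl⟩
    have e : (⟨φ' (Subgroup.inclusion le_sup_left x), ⟨_, rfl⟩⟩ : φ'.range) =
        ⟨φ x, hle1 ⟨x, rfl⟩⟩ := Subtype.ext (hφext x)
    rw [e] at this
    exact this
  refine ⟨θ.comp (Subgroup.inclusion hle1), ⟨restrict_mem F hle1 hθ, ?_, ?_,
    θ.comp (Subgroup.inclusion hle), restrict_mem F hle hθ, fun x => rfl, ?_⟩, fun x => hθφ x⟩
  · rintro _ ⟨x, rfl⟩; exact hφN x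
  · rintro ⟨_, x, rfl⟩
    show θ ⟨φ x, _⟩ ∈ _
    rw [hθφ x]; exact hPN x.2
  · intro x
    have := hθinv ⟨x, le_sup_right (a := P) x.2⟩ ⟨_, rfl⟩
    show θ ⟨x, _⟩ = x
    have e : (⟨(x : Ω), hle (le_sup_right (a := φ.range) x.2)⟩ : φ'.range) =
        ⟨φ' ⟨x, le_sup_right (a := P) x.2⟩, ⟨_, rfl⟩⟩ := Subtype.ext (hφQ x x.2).symm
    rw [e, this]

/-- For any fusion system over a subgroup S and any Q ≤ S, the maps of the centralizer system C_F(Q) — those maps between subgroups of C_S(Q) that extend to the subgroup generated with Q fixing Q elementwise — form a fusion system over C_S(Q). -/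
theorem result {Ω : Type*} [Group Ω] {S : Subgroup Ω} (F : Cfsg.FusionSystem S) (Q : Subgroup Ω) (hQ : Q ≤ S) : ∃ E : Cfsg.FusionSystem (Cfsg.FusionSystem.centralizerIn S Q), F.IsCentralizerSystem Q E := by
  refine ⟨{ Hom := fun P => F.centralizerHom Q P
            le_of_mem := fun h => ⟨h.2.1, h.2.2.1⟩
            injective_of_mem := fun h => F.injective_of_mem h.1
            conj_mem := fun hP hg => conj_mem_aux F Q hQ hP hg
            comp_mem := fun hφ hψ h => comp_mem_aux F Q hφ hψ h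
            inv_mem := fun hφ => inv_mem_aux F Q hφ }, fun P => rfl⟩

end Cfsg.Agent.S5097
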