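import Mathlib
import Cfsg.Statements.S5343
import Cfsg.Agent.Lib.Helper26.RealizedNormal2

set_option autoImplicit false
universe u
open Cfsg

namespace Cfsg.Agent.S5343

open Cfsg.FusionSystem Cfsg.Agent.Helper25 Cfsg.Agent.Helper26

/-- Passing to the quotient by a normal subgroup meeting the image of `S` trivially. -/
theorem isRealizedBy_quotient {Ω : Type*} [Group Ω] {S : Subgroup Ω} {G : Type*} [Group G] [Finite G]
    {p : ℕ} [Fact p.Prime] (F : FusionSystem S) (ι : S →* G) (hreal : F.IsRealizedBy ι)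
    (R : Sylow p G) (hR : (R : Subgroup G) = ι.range) (N : Subgroup G) [hN : N.Normal]
    (hbot : pbSub ι N = ⊥) :
    F.IsRealizedBy ((QuotientGroup.mk' N).comp ι) ∧
      ∃ T : Sylow p (G ⧸ N), (T : Subgroup (G ⧸ N)) = ((QuotientGroup.mk' N).comp ι).range := by
  have hι := hreal.1
  have htriv : ∀ s : S, ι s ∈ N → s = 1 := by
    intro s hs
    have h1 : (s : Ω) ∈ pbSub ι N := mem_pbSub.mpr ⟨s.2, by rw [Subtype.coe_eta]; exact hs⟩
    rw [hbot, Subgroup.mem_bot] at h1
    exact Subtype.ext h1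
  refine ⟨⟨?_, ?_⟩, ?_⟩
  · rw [injective_iff_map_eq_one]
    intro s hs
    apply htriv
    have : (QuotientGroup.mk' N) (ι s) = 1 := hs
    rwa [QuotientGroup.mk'_apply, QuotientGroup.eq_one_iff] at this
  · intro P hP φ hφ
    rw [hreal.2 P hP φ hφ]
    constructor
    · rintro ⟨g, hg⟩
      refine ⟨QuotientGroup.mk' N g, fun x => ?_⟩
      show QuotientGroup.mk' N (ι ⟨φ x, hφ x⟩) = _
      rw [hg, map_mul, map_mul, map_inv]
      rfl
    · rintro ⟨gbar, hgbar⟩
      obtain ⟨g, rfl⟩ := QuotientGroup.mk'_surjective N gbar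
      have hgbar' : ∀ x : P, QuotientGroup.mk' N (ι ⟨φ x, hφ x⟩) =
          QuotientGroup.mk' N (g * ι ⟨x, hP x.2⟩ * g⁻¹) := by
        intro x
        rw [map_mul, map_mul, map_inv]
        exact hgbar x
      -- the conjugate of the image of `P`
      obtain ⟨X, hXdef⟩ : ∃ X : Subgroup G, X = (imgSub ι P).map (MulAut.conj g).toMonoidHom :=
        ⟨_, rfl⟩
      have hXp : IsPGroup p X := by
        rw [hXdef]
        apply IsPGroup.map
        have hle : imgSub ι P ≤ (R : Subgroup G) := hR ▸ imgSub_le_range ι P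
        exact R.isPGroup'.to_le hle
      have hXT : X.map (QuotientGroup.mk' N) ≤ (R : Subgroup G).map (QuotientGroup.mk' N) := by
        rintro _ ⟨y, hy, rfl⟩
        rw [hXdef] at hy
        obtain ⟨z, hz, rfl⟩ := hy
        obtain ⟨s, hs, rfl⟩ := mem_imgSub.mp hz
        have h1 := hgbar' ⟨s, hs⟩
        have e : (⟨((⟨(s : Ω), hs⟩ : P) : Ω), hP hs⟩ : S) = s := Subtype.ext rfl
        rw [e] at h1
        refine ⟨ι ⟨φ ⟨s, hs⟩, hφ _⟩, hR ▸ ⟨_, rfl⟩, ?_⟩
        rw [h1]
        rfl
      obtain ⟨χ, hχ, hχX⟩ := exists_ker_conj_le (QuotientGroup.mk' N) R X hXp hXT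
      refine ⟨χ * g, fun x => ?_⟩
      have hxX : g * ι ⟨x, hP x.2⟩ * g⁻¹ ∈ X := by
        rw [hXdef]
        exact ⟨ι ⟨x, hP x.2⟩, mem_imgSub.mpr ⟨⟨x, hP x.2⟩, x.2, rfl⟩, rfl⟩
      have h1 := hχX _ hxX
      rw [hR] at h1
      obtain ⟨s, hs⟩ := h1
      -- `s` and `φ x` have the same image modulo `N`
      have h2 : QuotientGroup.mk' N (ι s) = QuotientGroup.mk' N (ι ⟨φ x, hφ x⟩) := by
        rw [hs, hgbar' x, map_mul, map_mul, map_inv, MonoidHom.mem_ker.mp hχ]
        simp
      have h3 : ι (s⁻¹ * ⟨φ x, hφ x⟩) ∈ N := by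
        rw [map_mul, map_inv]
        have := QuotientGroup.eq.mp h2
        exact this
      have h4 := htriv _ h3
      have h5 : s = ⟨φ x, hφ x⟩ := by
        have := congrArg (fun t => s * t) h4
        simpa using this.symm
      rw [← h5, hs]
      group
  · refine ⟨R.mapSurjective (QuotientGroup.mk'_surjective N), ?_⟩
    rw [Sylow.coe_mapSurjective, hR, MonoidHom.range_comp]

/-- Restricting the codomain to a normal subgroup that induces the whole system. -/
theorem isRealizedBy_codRestrict {Ω : Type*} [Group Ω] {S : Subgroup Ω} {G : Type*} [Group G] [Finite G]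
    {p : ℕ} [Fact p.Prime] (F : FusionSystem S) (ι : S →* G) (hreal : F.IsRealizedBy ι)
    (R : Sylow p G) (hR : (R : Subgroup G) = ι.range) (N : Subgroup G)
    (hTS : pbSub ι N = S) (hH : ∀ P : Subgroup Ω, (pbSys ι hreal.1 N).Hom P = F.Hom P) :
    ∃ hmem : ∀ s, ι s ∈ N, F.IsRealizedBy (ι.codRestrict N hmem) ∧
      ∃ T : Sylow p N, (T : Subgroup N) = (ι.codRestrict N hmem).range := by
  have hι := hreal.1
  have hmem : ∀ s : S, ι s ∈ N := by
    intro s
    have h1 : (s : Ω) ∈ pbSub ι N := by rw [hTS]; exact s.2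
    have := map_mem_of_mem_pbSub h1 s.2
    rwa [Subtype.coe_eta] at this
  refine ⟨hmem, ⟨?_, ?_⟩, ?_⟩
  · intro a b hab
    exact hι (congrArg Subtype.val hab)
  · intro P hP φ hφ
    rw [← hH P, mem_pbSys]
    constructor
    · rintro ⟨-, -, n, hn, hnx⟩
      exact ⟨⟨n, hn⟩, fun x => Subtype.ext (hnx x _ _)⟩
    · rintro ⟨n, hn⟩
      refine ⟨hTS.ge.trans' hP, fun x => hTS.ge (hφ x), n, n.2, fun x h1 h2 => ?_⟩
      exact congrArg Subtype.val (hn x)
  · have hRN : (R : Subgroup G) ≤ N := by
      rw [hR]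
      rintro _ ⟨s, rfl⟩
      exact hmem s
    refine ⟨R.subtype hRN, ?_⟩
    rw [Sylow.coe_subtype, hR]
    ext y
    rw [Subgroup.mem_subgroupOf]
    constructor
    · rintro ⟨s, hs⟩
      exact ⟨s, Subtype.ext hs⟩
    · rintro ⟨s, rfl⟩
      exact ⟨s, rfl⟩

/-- The induction: a realizing group of least order is simple. -/
theorem main {Ω : Type u} [Group Ω] {S : Subgroup Ω} [Finite S] (p : ℕ) [Fact p.Prime]
    (F : Cfsg.FusionSystem S) (hsimple : F.IsSimple p) :
    ∀ n : ℕ, ∀ (G : Type u) (_ : Group G) (_ : Finite G) (ι : ↥S →* G), Nat.card G = n →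
      F.IsRealizedBy ι → (∃ T : Sylow p G, (T : Subgroup G) = ι.range) →
      ∃ (G' : Type u) (_ : Group G') (_ : Finite G') (_ : IsSimpleGroup G') (ι' : ↥S →* G'),
        F.IsRealizedBy ι' ∧ ∃ T : Sylow p G', (T : Subgroup G') = ι'.range := by
  intro n
  induction n using Nat.strong_induction_on with
  | _ n ih =>
    intro G _ _ ι hcard hreal hsyl
    obtain ⟨R, hR⟩ := hsyl
    obtain ⟨hF, hSne, hall⟩ := hsimple
    by_cases hG : IsSimpleGroup G
    · exact ⟨G, inferInstance, inferInstance, hG, ι, hreal, R, hR⟩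
    · -- `G` is nontrivial
      have hnt : Nontrivial G := by
        by_contra hc
        rw [not_nontrivial_iff_subsingleton] at hc
        apply hSne
        rw [Subgroup.eq_bot_iff_forall]
        intro x hx
        have h1 : ι ⟨x, hx⟩ = ι 1 := Subsingleton.elim _ _
        exact congrArg Subtype.val (hreal.1 h1)
      have hex : ∃ N : Subgroup G, N.Normal ∧ N ≠ ⊥ ∧ N ≠ ⊤ := by
        by_contra hc
        apply hG
        refine { exists_pair_ne := hnt.exists_pair_ne, eq_bot_or_eq_top_of_normal := ?_ }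
        intro N hN
        by_contra hc2
        rw [not_or] at hc2
        exact hc ⟨N, hN, hc2.1, hc2.2⟩
      obtain ⟨N, hN, hNbot, hNtop⟩ := hex
      haveI := hN
      rcases hall _ _ (pbSys_isNormalIn F hF ι hreal R hR N) with h | ⟨h, hH⟩
      · -- quotient
        obtain ⟨hq, hqs⟩ := isRealizedBy_quotient F ι hreal R hR N h
        have hlt : Nat.card (G ⧸ N) < n := by
          rw [← hcard, ← Subgroup.index_eq_card, ← Subgroup.index_mul_card N]
          have h1 : 1 < Nat.card N := by
            rw [Subgroup.one_lt_card_iff_ne_bot]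
            exact hNbot
          have h2 : 0 < N.index := Nat.pos_of_ne_zero Subgroup.index_ne_zero_of_finite
          nlinarith
        exact ih _ hlt (G ⧸ N) inferInstance inferInstance _ rfl hq hqs
      · -- normal subgroup
        obtain ⟨hmem, hq, hqs⟩ := isRealizedBy_codRestrict F ι hreal R hR N h hH
        have hlt : Nat.card N < n := by
          rw [← hcard]
          apply lt_of_le_of_ne (Subgroup.card_le_card_group N)
          intro hc
          exact hNtop ((Subgroup.card_eq_iff_eq_top N).mp hc)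
        exact ih _ hlt N inferInstance inferInstance _ rfl hq hqs

/-- Let F be a simple saturated fusion system over a finite p-group S that is realized by some finite group on a Sylow p-subgroup. Then F is realized by a finite simple group on a Sylow p-subgroup. -/
theorem result {Ω : Type u} [Group Ω] {S : Subgroup Ω} [Finite S] (p : ℕ) [Fact p.Prime] (hS : IsPGroup p S) (F : Cfsg.FusionSystem S) (hsimple : F.IsSimple p) (hreal : F.IsRealizable p) : ∃ (G : Type u) (_ : Group G) (_ : Finite G) (_ : IsSimpleGroup G) (ι : ↥S →* G), F.IsRealizedBy ι ∧ ∃ T : Sylow p G, (T : Subgroup G) = ι.range := by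
  obtain ⟨G, hGrp, hFin, ι, hr, hs⟩ := hreal
  exact main p F hsimple _ G hGrp hFin ι rfl hr hs

end Cfsg.Agent.S5343
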