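import Mathlib
import Cfsg.Statements.S2800
import Cfsg.Agent.Lib.Helper14.ThompsonA4

set_option autoImplicit false
open Cfsg

namespace Cfsg.Agent.S2800

open Cfsg.Agent.Helper10 Cfsg.Agent.Helper4.NPCB Cfsg.Agent.Helper14.TNA

/-- the class of groups: `p` odd, or `S₄`-free -/
def Cls (p : ℕ) (X : Type*) [Group X] : Prop :=
  p ≠ 2 ∨ ¬ Cfsg.Involves (Equiv.Perm (Fin 4)) X

theorem thompson_abelian_J.{u} {p : ℕ} [Fact p.Prime] {G : Type u} [Group G] [Finite G]
    (hG : Cls p G) (S : Sylow p G) (h : HypA p G (S : Subgroup G)) : NPC p G := by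
  refine thompsonA (p := p) (fun (X : Type u) [Group X] => Cls p X) ?_ ?_ ?_ hG S h
  · intro X _ L hX
    rcases hX with hX | hX
    · exact Or.inl hX
    · exact Or.inr (fun hL => hX (Cfsg.Agent.Helper14.S4Sec.involves_of_subgroup L hL))
  · intro X _ N _ hX
    rcases hX with hX | hX
    · exact Or.inl hX
    · exact Or.inr (fun hL => hX (Cfsg.Agent.Helper14.S4Sec.involves_of_quotient N hL))
  · intro X _ _ hX P hP hnot ms
    obtain ⟨M, st⟩ := ms.hstruc
    by_cases hp : p = 2
    · subst hp
      rcases hX with hX | hX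
      · exact hX rfl
      · exact hX (final_two P hnot hP ms.hmax ms.hcent M st)
    · exact final_odd hp P hnot hP ms.hmax ms.hcent M st

/-- Let S be a Sylow p-subgroup of the finite group G and J(S) the subgroup generated by the abelian subgroups of S of largest order. Suppose p is odd, or the symmetric group of degree 4 is not involved in G. If both C_G(Z(S)) and N_G(J(S)) have normal p-complements, then G has a normal p-complement. -/
theorem result {G : Type*} [Group G] [Finite G] {p : ℕ} [Fact p.Prime] (S : Sylow p G) (h : p ≠ 2 ∨ ¬ Cfsg.Involves (Equiv.Perm (Fin 4)) G) (hC : Cfsg.HasNormalPComplement p ↥(Subgroup.centralizer (((S : Subgroup G) ⊓ Subgroup.centralizer ((S : Subgroup G) : Set G) : Subgroup G) : Set G))) (hN : Cfsg.HasNormalPComplement p ↥(Subgroup.normalizer ((Cfsg.thompsonSubgroupAOf (S : Subgroup G)) : Set G))) : Cfsg.HasNormalPComplement p G := by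
  exact (thompson_abelian_J h S
    ⟨npc_of_hasNormalPComplement hN, npc_of_hasNormalPComplement hC⟩).hasNormalPComplement

end Cfsg.Agent.S2800
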