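import Mathlib
import Cfsg.Statements.S5194
import Cfsg.Agent.Lib.Helper3.KLThompson
import Cfsg.Agent.Lib.Helper3.KLQuotSys5
import Cfsg.Agent.Lib.Helper3.KLInvolves2
import Cfsg.Agent.S2800

set_option autoImplicit false
set_option linter.style.haveILetI false
set_option linter.unusedSectionVars false
open Cfsg

namespace Cfsg.Agent.S5194

open Cfsg.FusionSystem Cfsg.Agent.Helper25 Cfsg.Agent.Helper3.KL Cfsg.Agent.Helper3.Model

universe u

/-- `p` odd or `S₄`-free -/
def FreeS4 (p : ℕ) : ∀ (Ω : Type u) [Group Ω] (S : Subgroup Ω), FusionSystem S → Prop :=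
  fun _ _ _ F => p ≠ 2 ∨ F.IsSectionFree p (Equiv.Perm (Fin 4))

/-- the local hypotheses: `C_F(Z(S))` and `N_F(J(S))` are inner -/
def LocT : ∀ (Ω : Type u) [Group Ω] (S : Subgroup Ω), FusionSystem S → Prop :=
  fun Ω _ S F =>
    (∀ (P : Subgroup Ω) (φ : P →* Ω), φ ∈ F.centralizerHom (zOf S) P →
      ∃ s ∈ S, ∀ x : P, φ x = s * (x : Ω) * s⁻¹) ∧
    ∀ N : FusionSystem (normalizerIn S (thompsonSubgroupAOf S)),
      F.IsNormalizerSystem (thompsonSubgroupAOf S) N → IsInner N

theorem free_sub {L L' : Type u} [Group L] [Group L'] (f : L' →* L) (hf : Function.Injective f)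
    (h : ¬ Involves (Equiv.Perm (Fin 4)) L) : ¬ Involves (Equiv.Perm (Fin 4)) L' :=
  fun h2 => h (involves_of_injective f hf h2)

theorem free_quot' {L L' : Type u} [Group L] [Group L'] (f : L →* L')
    (hf : Function.Surjective f)
    (h : ¬ Involves (Equiv.Perm (Fin 4)) L) : ¬ Involves (Equiv.Perm (Fin 4)) L' :=
  fun h2 => h (involves_of_surjective_hom f hf h2)

theorem scheme (p : ℕ) [Fact p.Prime] : Scheme.{u} p (FreeS4 p) LocT where
  free_norm := by
    intro Ω _ S _ hS F hF hfree Q hQfn N hN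
    rcases hfree with h | h
    · exact Or.inl h
    · right
      rw [isSectionFree_iff] at h ⊢
      exact localProp_normalizer p hS F hF _ (fun f hf h1 => free_sub f hf h1) h hQfn N hN
  free_quot := by
    intro Ω _ S _ hS F hF hfree Q hQ Ω' _ S' θ E hE
    rcases hfree with h | h
    · exact Or.inl h
    · right
      rw [isSectionFree_iff] at h ⊢
      exact localProp_factor p hS F hF hQ θ E hE _ _ (fun f hf h1 => free_quot' f hf h1) h
  loc_of_char := by
    intro Ω _ S _ hS hS1 F hF h
    constructor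
    · intro P φ hφ
      obtain ⟨NZ, hNZ⟩ := Cfsg.Agent.S5096.result F (zOf S) (zOf_le S)
      have hin := h _ (zOf_le S) (zOf_ne_bot p hS hS1) (zOf_char S) NZ hNZ
      have h1 := centralizerHom_subset_normalizerHom F _ _ hφ
      rw [← hNZ P] at h1
      obtain ⟨g, hg, hgφ⟩ := hin P φ h1
      exact ⟨g, normalizerIn_le hg, hgφ⟩
    · intro N hN
      exact h _ (jOf_le S) (jOf_ne_bot hS1) (jOf_char S) N hN
  loc_sub := by
    intro Ω _ S _ hS F hloc T N hTS hNF
    subst hTS
    constructor
    · intro P φ hφ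
      exact hloc.1 P φ (centralizerHom_mono hNF _ _ hφ)
    · intro M hM
      exact isInner_normalizer_of_subsystem hNF _ (jOf_le T) hloc.2 M hM
  final := by
    intro Ω _ S _ hS N hNsat Q hQn hQc hfree hloc
    obtain ⟨G, _, ι, hm⟩ := exists_model p hS N ⟨hNsat, Q, hQn, hQc⟩
    apply isInner_of_isModel_of_npc p N ι hm
    have hG4 : p ≠ 2 ∨ ¬ Involves (Equiv.Perm (Fin 4)) G := by
      rcases hfree with h | h
      · exact Or.inl h
      · right
        rw [isSectionFree_iff] at h
        exact localProp_self p N hQn hQc _ h ι hm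
    obtain ⟨hfin, hreal, ⟨T, hT⟩, hcen⟩ := hm
    haveI := hfin
    apply Cfsg.Agent.S2800.result T hG4
    · have e : ((T : Subgroup G) ⊓ Subgroup.centralizer ((T : Subgroup G) : Set G)) =
          ((zOf S).subgroupOf S).map ι := by
        rw [hT]
        exact zOf_range ι hreal.1
      rw [e]
      exact npc_centralizer_of_inner p hS N ι hreal T hT _ (zOf_le S) (le_centralizer_zOf S)
        hloc.1
    · rw [hT, jOf_range ι hreal.1]
      obtain ⟨M, hM⟩ := Cfsg.Agent.S5096.result N (thompsonSubgroupAOf S) (jOf_le S)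
      exact npc_normalizer_of_inner p hS N ι hreal T hT _ (jOf_le S)
        (le_normalizer_of_char (jOf_le S) (jOf_char S)) M hM (hloc.2 M hM)

/-- Thompson's theorem in the form used by other statements: hom-based local hypotheses. -/
theorem main {Ω : Type u} [Group Ω] {S : Subgroup Ω} [Finite S] (p : ℕ) [Fact p.Prime]
    (hS : IsPGroup p S) (F : FusionSystem S) (hF : F.IsSaturated p)
    (hp : p ≠ 2 ∨ F.IsSectionFree p (Equiv.Perm (Fin 4)))
    (hC : ∀ (P : Subgroup Ω) (φ : P →* Ω), φ ∈ F.centralizerHom (zOf S) P →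
      ∃ s ∈ S, ∀ x : P, φ x = s * (x : Ω) * s⁻¹)
    (hN : ∀ N : FusionSystem (normalizerIn S (thompsonSubgroupAOf S)),
      F.IsNormalizerSystem (thompsonSubgroupAOf S) N → IsInner N) : IsInner F :=
  skeleton (scheme p) _ rfl hS F hF hp ⟨hC, hN⟩

/-- Thompson's normal p-complement Theorem for fusion systems. Let F be a saturated fusion system over a finite p-group S such that p is odd or F is S₄-free (the symmetric group of degree 4 is not involved in any model of the normalizer system of a fully normalized F-centric subgroup), and let J(S) be the subgroup generated by the abelian subgroups of S of largest order. If the centralizer fusion system of Z(S) in F is the inner fusion system of C_S(Z(S)) = S and the normalizer fusion system of J(S) in F is the inner fusion system of N_S(J(S)) = S, then F is the inner fusion system of S. -/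
theorem result {Ω : Type*} [Group Ω] {S : Subgroup Ω} [Finite S] (p : ℕ) [Fact p.Prime] (hS : IsPGroup p S) (F : Cfsg.FusionSystem S) (hF : F.IsSaturated p) (hp : p ≠ 2 ∨ F.IsSectionFree p (Equiv.Perm (Fin 4))) (hC : ∀ C : Cfsg.FusionSystem (Cfsg.FusionSystem.centralizerIn S (S ⊓ Subgroup.centralizer (S : Set Ω))), F.IsCentralizerSystem (S ⊓ Subgroup.centralizer (S : Set Ω)) C → ∀ P : Subgroup Ω, C.Hom P = (Cfsg.innerFusionSystem (Cfsg.FusionSystem.centralizerIn S (S ⊓ Subgroup.centralizer (S : Set Ω)))).Hom P) (hN : ∀ N : Cfsg.FusionSystem (Cfsg.FusionSystem.normalizerIn S (Cfsg.thompsonSubgroupAOf S)), F.IsNormalizerSystem (Cfsg.thompsonSubgroupAOf S) N → ∀ P : Subgroup Ω, N.Hom P = (Cfsg.innerFusionSystem (Cfsg.FusionSystem.normalizerIn S (Cfsg.thompsonSubgroupAOf S))).Hom P) : ∀ P : Subgroup Ω, F.Hom P = (Cfsg.innerFusionSystem S).Hom P := by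
  rw [← isInner_iff]
  apply main p hS F hF hp
  · intro P φ hφ
    obtain ⟨C, hCs⟩ := Cfsg.Agent.S5097.result F (zOf S) (zOf_le S)
    have hCi : IsInner C := (isInner_iff C).mpr (hC C hCs)
    rw [← hCs P] at hφ
    obtain ⟨g, hg, hgφ⟩ := hCi P φ hφ
    exact ⟨g, hg.1, hgφ⟩
  · intro N hN'
    exact (isInner_iff N).mpr (hN N hN')

end Cfsg.Agent.S5194
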