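import Mathlib
import Cfsg.Statements.S5195
import Cfsg.Agent.S5194
import Cfsg.Agent.Lib.Helper3.KLFrobenius

set_option autoImplicit false
set_option linter.style.haveILetI false
set_option linter.unusedSectionVars false
open Cfsg

namespace Cfsg.Agent.S5195

open Cfsg.FusionSystem Cfsg.Agent.Helper25 Cfsg.Agent.Helper3.KL Cfsg.Agent.Helper3.Model
open Cfsg.Agent.S5194

universe u

/-- the hypothesis on automizers of characteristic subgroups -/
def Hyp (p : ℕ) {Ω : Type u} [Group Ω] {S : Subgroup Ω} (F : FusionSystem S) : Prop :=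
  ∀ Q : Subgroup Ω, Q ≤ S → Q ≠ ⊥ → (Q.subgroupOf S).Characteristic → IsPGroup p (F.autGroup Q)

/-- the lifting step: a system with a nontrivial characteristic normal subgroup. -/
theorem step (p : ℕ) [Fact p.Prime] {Ω : Type u} [Group Ω] {T : Subgroup Ω} [Finite T]
    (hT : IsPGroup p T)
    (ih : ∀ m < Nat.card T, ∀ {Ω' : Type u} [Group Ω'] {S' : Subgroup Ω'} [Finite S'],
      Nat.card S' = m → IsPGroup p S' → ∀ E : FusionSystem S', E.IsSaturated p →
      FreeS4 p Ω' S' E → Hyp p E → IsInner E)
    (N : FusionSystem T) (hN : N.IsSaturated p) (hfree : FreeS4 p Ω T N) (hhyp : Hyp p N)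
    (X : Subgroup Ω) (hX : N.IsNormal X) (hX1 : X ≠ ⊥)
    (hXc : (X.subgroupOf T).Characteristic) : IsInner N := by
  have hXT : X ≤ T := hX.1
  haveI := hXc
  haveI : (X.subgroupOf T).Normal := inferInstance
  have hsc := stronglyClosed_of_isNormal N hX
  obtain ⟨E, hE⟩ := Cfsg.Agent.S5132.result p hT N X hsc
  have hα := Cfsg.Agent.S5134.result p hT N hN X hsc _ E hE
  have hEsat : E.IsSaturated p := isSaturated_of_surj hT hN hα
  have hEfree := (scheme p).free_quot hT N hN hfree X hX _ E hE
  have hT' : IsPGroup p (⊤ : Subgroup (T ⧸ X.subgroupOf T)) :=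
    (hT.to_quotient _).to_subgroup _
  haveI : Finite X := finite_of_le_finite hXT
  have hcardX : 1 < Nat.card X := by
    rw [Finite.one_lt_card_iff_nontrivial]
    exact (Subgroup.nontrivial_iff_ne_bot X).mpr hX1
  have hcard : Nat.card (⊤ : Subgroup (T ⧸ X.subgroupOf T)) < Nat.card T := by
    rw [Subgroup.card_top, Subgroup.card_eq_card_quotient_mul_card_subgroup (X.subgroupOf T)]
    have h1 : Nat.card (X.subgroupOf T) = Nat.card X :=
      Nat.card_congr (Subgroup.subgroupOfEquivOfLe hXT).toEquiv
    rw [h1]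
    have h2 : 0 < Nat.card (T ⧸ X.subgroupOf T) := Nat.card_pos
    nlinarith
  have hEi : IsInner E := by
    apply ih _ hcard rfl hT' E hEsat hEfree
    intro Rb hRb hRb1 hRbc
    apply isPGroup_autGroup_of_surj p hα hRb
    apply hhyp _ (preimageAlong_le _ Rb) ?_ (characteristic_preimageAlong Rb hRbc)
    intro h
    apply hX1
    rw [eq_bot_iff, ← h]
    intro x hx
    refine mem_preimageAlong.mpr ⟨hXT hx, ?_⟩
    rw [(hE.2.1 ⟨x, hXT hx⟩).mpr hx]
    exact Rb.one_mem
  apply isInner_of_factor p hT N hN X hX _ E hE hEi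
  intro α hα'
  have hmem : α ∈ N.autGroup X := (mem_autGroup_iff N hXT α).mpr hα'
  obtain ⟨k, hk⟩ := hhyp X hXT hX1 hXc ⟨α, hmem⟩
  exact ⟨k, congrArg Subtype.val hk⟩

/-- the strengthened Frobenius criterion, by induction on the order of `S`. -/
theorem main (p : ℕ) [Fact p.Prime] : ∀ (n : ℕ) {Ω : Type u} [Group Ω] {S : Subgroup Ω}
    [Finite S], Nat.card S = n → IsPGroup p S → ∀ F : FusionSystem S, F.IsSaturated p →
    FreeS4 p Ω S F → Hyp p F → IsInner F := by
  intro n
  induction n using Nat.strong_induction_on with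
  | _ n ih =>
  intro Ω _ S _ hcard hS F hF hfree hhyp
  subst hcard
  by_cases hS1 : S = ⊥
  · exact isInner_of_bot F hS1
  have key : ∀ X : Subgroup Ω, X ≤ S → X ≠ ⊥ → (X.subgroupOf S).Characteristic →
      ∀ N : FusionSystem (normalizerIn S X), F.IsNormalizerSystem X N → IsInner N := by
    intro X hXS hX1 hXc N hN
    have hXn : S ≤ Subgroup.normalizer (X : Set Ω) := le_normalizer_of_char hXS hXc
    have hTeq : normalizerIn S X = S := normalizerIn_eq_of_le hXn
    have hXfn := isFullyNormalized_of_normal F hXS hXn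
    have hTp : IsPGroup p (normalizerIn S X) := hS.to_le normalizerIn_le
    haveI : Finite (normalizerIn S X) := finite_of_le_finite normalizerIn_le
    have hNsat := normalizerSystem_isSaturated p hS F hF hXfn N hN
    have hNfree := (scheme p).free_norm hS F hF hfree X hXfn N hN
    have hXnormal := normalizerSystem_isNormal F hXS N hN
    have hNF : ∀ P : Subgroup Ω, N.Hom P ⊆ F.Hom P := by
      intro P φ hφ
      rw [hN P] at hφ
      exact hφ.1
    have hcardT : Nat.card (normalizerIn S X) = Nat.card S := by rw [hTeq]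
    have hchar : ∀ R : Subgroup Ω, (R.subgroupOf (normalizerIn S X)).Characteristic →
        (R.subgroupOf S).Characteristic := by
      intro R h
      rw [hTeq] at h
      exact h
    have hNhyp : Hyp p N := by
      intro R hRT hR1 hRc
      have hRS : R ≤ S := hRT.trans normalizerIn_le
      have h1 := hhyp R hRS hR1 (hchar R hRc)
      apply h1.to_le
      intro α hα
      rw [mem_autGroup_iff N hRT] at hα
      rw [mem_autGroup_iff F hRS]
      exact hNF _ hα
    have hXcT : (X.subgroupOf (normalizerIn S X)).Characteristic := by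
      rw [hTeq]
      exact hXc
    exact step p hTp (fun m hm => ih m (hcardT ▸ hm)) N hNsat hNfree hNhyp X hXnormal hX1 hXcT
  apply Cfsg.Agent.S5194.main p hS F hF hfree
  · intro P φ hφ
    obtain ⟨NZ, hNZ⟩ := Cfsg.Agent.S5096.result F (zOf S) (zOf_le S)
    have hin := key _ (zOf_le S) (zOf_ne_bot p hS hS1) (zOf_char S) NZ hNZ
    have h1 := centralizerHom_subset_normalizerHom F _ _ hφ
    rw [← hNZ P] at h1
    obtain ⟨g, hg, hgφ⟩ := hin P φ h1
    exact ⟨g, normalizerIn_le hg, hgφ⟩
  · intro N hN
    exact key _ (jOf_le S) (jOf_ne_bot hS1) (jOf_char S) N hN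

/-- A strengthened Frobenius normal p-complement criterion for fusion systems. Let F be a saturated fusion system over a finite p-group S such that p is odd or F is S₄-free (the symmetric group of degree 4 is not involved in any model of the normalizer system of a fully normalized F-centric subgroup). If Aut_F(Q) is a p-group for every nontrivial characteristic subgroup Q of S, then F is the inner fusion system of S. -/
theorem result {Ω : Type*} [Group Ω] {S : Subgroup Ω} [Finite S] (p : ℕ) [Fact p.Prime] (hS : IsPGroup p S) (F : Cfsg.FusionSystem S) (hF : F.IsSaturated p) (hp : p ≠ 2 ∨ F.IsSectionFree p (Equiv.Perm (Fin 4))) (h : ∀ Q : Subgroup Ω, Q ≤ S → Q ≠ ⊥ → (Q.subgroupOf S).Characteristic → IsPGroup p (F.autGroup Q)) : ∀ P : Subgroup Ω, F.Hom P = (Cfsg.innerFusionSystem S).Hom P := by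
  rw [← isInner_iff]
  exact main p _ rfl hS F hF hp h

end Cfsg.Agent.S5195
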