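import Mathlib
import Cfsg.Statements.S4299
import Cfsg.Agent.S4253

set_option autoImplicit false
open Cfsg

namespace Cfsg.Agent.S4299

open SemidirectProduct
open scoped Pointwise

/-- A fixed-point-free action gives a Frobenius complement in the semidirect product. -/
theorem frob {N G : Type*} [Group N] [Group G] (φ : G →* MulAut N)
    (hfpf : ∀ g : G, g ≠ 1 → ∀ n : N, φ g n = n → n = 1) (x : N ⋊[φ] G)
    (hx : x ∉ (SemidirectProduct.inr : G →* N ⋊[φ] G).range) :
    (SemidirectProduct.inr : G →* N ⋊[φ] G).range ⊓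
      (MulAut.conj x • (SemidirectProduct.inr : G →* N ⋊[φ] G).range) = ⊥ := by
  rw [eq_bot_iff]
  rintro h ⟨⟨v, rfl⟩, h2⟩
  have h2' : inr v ∈ MulAut.conj x • (SemidirectProduct.inr : G →* N ⋊[φ] G).range := h2
  rw [Cfsg.Agent.S4253.mem_conj_smul] at h2'
  replace h2 := h2'
  obtain ⟨w, hw⟩ := h2
  have e : x * inr w = inr v * x := by
    rw [hw]; group
  have hl := congrArg SemidirectProduct.left e
  rw [mul_left, mul_left, left_inr, left_inr, map_one, mul_one, one_mul, right_inr] at hl
  rw [Subgroup.mem_bot]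
  by_cases hv : v = 1
  · rw [hv, map_one]
  · exfalso
    have h1 := hfpf v hv x.left hl.symm
    apply hx
    refine ⟨x.right, ?_⟩
    ext
    · rw [left_inr, h1]
    · rw [right_inr]

/-- multiplication action of a group of units on the additive group of the field. -/
noncomputable def phi (F : Type) [Field F] (U : Subgroup Fˣ) : U →* MulAut (Multiplicative F) where
  toFun u :=
    { toFun := fun x => Multiplicative.ofAdd (((u : Fˣ) : F) * Multiplicative.toAdd x)
      invFun := fun x => Multiplicative.ofAdd ((((u : Fˣ)⁻¹ : Fˣ) : F) * Multiplicative.toAdd x)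
      left_inv := fun x => by simp
      right_inv := fun x => by simp
      map_mul' := fun x y => by simp [mul_add] }
  map_one' := by ext x; simp
  map_mul' := fun u v => by ext x; simp [mul_assoc]

theorem phi_apply (F : Type) [Field F] (U : Subgroup Fˣ) (u : U) (x : Multiplicative F) :
    phi F U u x = Multiplicative.ofAdd (((u : Fˣ) : F) * Multiplicative.toAdd x) := rfl

theorem phi_fpf (F : Type) [Field F] (U : Subgroup Fˣ) (u : U) (hu : u ≠ 1)
    (x : Multiplicative F) (hx : phi F U u x = x) : x = 1 := by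
  rw [phi_apply] at hx
  have h1 : ((u : Fˣ) : F) * Multiplicative.toAdd x = Multiplicative.toAdd x := by
    have := congrArg Multiplicative.toAdd hx
    simpa using this
  have h2 : (((u : Fˣ) : F) - 1) * Multiplicative.toAdd x = 0 := by
    rw [sub_mul, h1, one_mul, sub_self]
  rcases mul_eq_zero.mp h2 with h3 | h3
  · exfalso
    apply hu
    have : ((u : Fˣ) : F) = 1 := sub_eq_zero.mp h3
    apply Subtype.ext
    apply Units.ext
    simpa using this
  · have : x = Multiplicative.ofAdd (Multiplicative.toAdd x) := rfl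
    rw [this, h3]
    rfl

/-- Every nontrivial finite cyclic group occurs as a Frobenius complement of some finite Frobenius group. -/
theorem result {C : Type*} [Group C] [Finite C] [IsCyclic C] [Nontrivial C] :
    ∃ (L : Type) (_ : Group L) (_ : Finite L) (H : Subgroup L), Cfsg.IsFrobeniusComplement H ∧ Nonempty (C ≃* H) := by
  classical
  set n := Nat.card C with hn
  have hn2 : 1 < n := Finite.one_lt_card
  have hn0 : n ≠ 0 := by omega
  obtain ⟨p, hp, -, hpmod⟩ := Nat.exists_prime_gt_modEq_one (k := n) 0 hn0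
  haveI : Fact p.Prime := ⟨hp⟩
  have hdvd : n ∣ p - 1 := (Nat.modEq_iff_dvd' hp.one_lt.le).mp hpmod.symm
  -- generator of the unit group
  obtain ⟨ζ, hζ⟩ := IsCyclic.exists_generator (α := (ZMod p)ˣ)
  have hordζ : orderOf ζ = p - 1 := by
    rw [orderOf_eq_card_of_forall_mem_zpowers hζ, Nat.card_eq_fintype_card, ZMod.card_units]
  obtain ⟨m, hm⟩ := hdvd
  have hp1 : 0 < p - 1 := by have := hp.one_lt; omega
  have hm0 : m ≠ 0 := by
    rintro rfl
    rw [mul_zero] at hm
    omega
  have hord : orderOf (ζ ^ m) = n := by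
    rw [orderOf_pow_of_dvd hm0 (by rw [hordζ, hm]; exact dvd_mul_left m n), hordζ, hm]
    exact Nat.mul_div_cancel _ (Nat.pos_of_ne_zero hm0)
  set U : Subgroup (ZMod p)ˣ := Subgroup.zpowers (ζ ^ m) with hU
  have hUcard : Nat.card U = n := by rw [hU, Nat.card_zpowers, hord]
  have e1 : C ≃* U := mulEquivOfCyclicCardEq (by rw [hUcard])
  let φ := phi (ZMod p) U
  let L := Multiplicative (ZMod p) ⋊[φ] U
  have hfinL : Finite L := Finite.of_equiv _ (SemidirectProduct.equivProd (φ := φ)).symm
  let H : Subgroup L := (SemidirectProduct.inr : U →* L).range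
  have e2 : U ≃* H := MonoidHom.ofInjective SemidirectProduct.inr_injective
  refine ⟨L, inferInstance, hfinL, H, ⟨?_, ?_, ?_⟩, ⟨e1.trans e2⟩⟩
  · -- H ≠ ⊥
    intro hbot
    have : Nat.card H = 1 := by rw [hbot]; exact Subgroup.card_bot
    rw [← Nat.card_congr e2.toEquiv, hUcard] at this
    omega
  · -- H ≠ ⊤
    intro htop
    have hmem : (SemidirectProduct.inl (Multiplicative.ofAdd (1 : ZMod p)) : L) ∈ H := by
      rw [htop]; trivial
    obtain ⟨u, hu⟩ := hmem
    have := congrArg SemidirectProduct.left hu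
    rw [left_inr, left_inl] at this
    have h1 : (0 : ZMod p) = 1 := congrArg Multiplicative.toAdd this
    exact zero_ne_one h1
  · intro g hg
    exact frob φ (phi_fpf (ZMod p) U) g hg

end Cfsg.Agent.S4299
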