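import Mathlib
import Cfsg.Statements.S4293
import Cfsg.Agent.S4299

set_option autoImplicit false
open Cfsg

namespace Cfsg.Agent.S4293

open SemidirectProduct
open scoped Pointwise

universe u v

/-- transport of Frobenius complements along isomorphisms -/
theorem isFrobeniusComplement_map_equiv {L₀ : Type u} {L : Type v} [Group L₀] [Group L]
    (e : L₀ ≃* L) (C : Subgroup L₀) (hC : Cfsg.IsFrobeniusComplement C) :
    Cfsg.IsFrobeniusComplement (C.map e.toMonoidHom) := by
  obtain ⟨h1, h2, h3⟩ := hC
  refine ⟨?_, ?_, ?_⟩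
  · intro h
    rw [Subgroup.map_eq_bot_iff_of_injective _ e.injective] at h
    exact h1 h
  · intro h
    apply h2
    have := congrArg (Subgroup.comap e.toMonoidHom) h
    rwa [Subgroup.comap_map_eq_self_of_injective e.injective, Subgroup.comap_top] at this
  · intro g hg
    have hg₀ : e.symm g ∉ C := by
      intro h
      apply hg
      exact ⟨e.symm g, h, by simp⟩
    have h4 := h3 _ hg₀
    rw [eq_bot_iff]
    rintro x ⟨⟨c, hc, rfl⟩, hx2⟩
    have hx2' : e.toMonoidHom c ∈ MulAut.conj g • C.map e.toMonoidHom := hx2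
    rw [Cfsg.Agent.S4253.mem_conj_smul] at hx2'
    obtain ⟨c', hc', hcc'⟩ := hx2'
    have h5 : c ∈ C ⊓ MulAut.conj (e.symm g) • C := by
      refine ⟨hc, ?_⟩
      show c ∈ MulAut.conj (e.symm g) • C
      rw [Cfsg.Agent.S4253.mem_conj_smul]
      have : (e.symm g)⁻¹ * c * e.symm g = c' := by
        apply e.injective
        have h6 : e c' = g⁻¹ * e c * g := hcc'
        rw [h6]
        simp
      rw [this]
      exact hc'
    rw [h4, Subgroup.mem_bot] at h5
    rw [h5, map_one, Subgroup.mem_bot]

/-- a type synonym for `Fin n` carrying no algebraic instances -/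
def Carrier (n : ℕ) : Type := Fin n

/-- the action homomorphism on the multiplicative version of a module -/
noncomputable def phiOf (H : Type u) (M : Type v) [Group H] [AddCommGroup M] [DistribMulAction H M] :
    H →* MulAut (Multiplicative M) :=
  (MulAutMultiplicative M).symm.toMonoidHom.comp (DistribMulAction.toAddAut H M)

theorem phiOf_apply (H : Type u) (M : Type v) [Group H] [AddCommGroup M] [DistribMulAction H M]
    (h : H) (x : Multiplicative M) :
    phiOf H M h x = Multiplicative.ofAdd (h • Multiplicative.toAdd x) := rfl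

/-- a fixed-point-free action on a finite abelian group gives a Frobenius complement
(in the lowest universe) -/
theorem exists_frobenius_of_fpf (H : Type u) (M : Type v) [Group H] [Finite H] [Nontrivial H]
    [AddCommGroup M] [Finite M] [Nontrivial M] [DistribMulAction H M]
    (hfpf : ∀ h : H, h ≠ 1 → ∀ m : M, h • m = m → m = 0) :
    ∃ (L : Type) (_ : Group L) (_ : Finite L) (C : Subgroup L),
      Cfsg.IsFrobeniusComplement C ∧ Nonempty (H ≃* C) := by
  classical
  let φ := phiOf H M
  have hφ : ∀ g : H, g ≠ 1 → ∀ n : Multiplicative M, φ g n = n → n = 1 := by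
    intro g hg n hn
    have h1 : g • Multiplicative.toAdd n = Multiplicative.toAdd n :=
      congrArg Multiplicative.toAdd hn
    have h2 := hfpf g hg _ h1
    exact congrArg Multiplicative.ofAdd h2
  let L₀ := Multiplicative M ⋊[φ] H
  have hfinL : Finite L₀ := Finite.of_equiv _ (SemidirectProduct.equivProd (φ := φ)).symm
  let C₀ : Subgroup L₀ := (SemidirectProduct.inr : H →* L₀).range
  have e2 : H ≃* C₀ := MonoidHom.ofInjective SemidirectProduct.inr_injective
  have hC₀ : Cfsg.IsFrobeniusComplement C₀ := by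
    refine ⟨?_, ?_, ?_⟩
    · intro hbot
      have h1 : Nat.card C₀ = 1 := by rw [hbot]; exact Subgroup.card_bot
      rw [← Nat.card_congr e2.toEquiv] at h1
      have := Finite.one_lt_card (α := H)
      omega
    · intro htop
      obtain ⟨m, hm⟩ := exists_ne (0 : M)
      have hmem : (SemidirectProduct.inl (Multiplicative.ofAdd m) : L₀) ∈ C₀ := by
        rw [htop]; trivial
      obtain ⟨u, hu⟩ := hmem
      have := congrArg SemidirectProduct.left hu
      rw [left_inr, left_inl] at this
      exact hm (congrArg Multiplicative.toAdd this).symm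
    · intro g hg
      exact Cfsg.Agent.S4299.frob φ hφ g hg
  -- transport to the lowest universe
  let n := Nat.card L₀
  let e₀ : Carrier n ≃ L₀ := (Finite.equivFin L₀).symm
  letI : Group (Carrier n) := e₀.group
  have hfin : Finite (Carrier n) := Finite.of_equiv _ e₀.symm
  let e : Carrier n ≃* L₀ :=
    { e₀ with
      map_mul' := fun a b => by
        show e₀ (e₀.symm (e₀ a * e₀ b)) = e₀ a * e₀ b
        exact e₀.apply_symm_apply _ }
  refine ⟨Carrier n, inferInstance, hfin, C₀.map e.symm.toMonoidHom,
    isFrobeniusComplement_map_equiv e.symm C₀ hC₀, ⟨e2.trans ?_⟩⟩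
  exact (e.symm.subgroupMap C₀)

/-- a finite group of units of a ring that is a finitely generated abelian group, such that the
geometric sums of nontrivial elements vanish, is a Frobenius complement -/
theorem exists_frobenius_of_ring {S : Type u} {H : Type v} [Ring S] [Group H] [Finite H]
    [Nontrivial H] [Module.Finite ℤ S] (g : H →* Sˣ) (p : ℕ) [hp : Fact p.Prime]
    (hpH : (Nat.card H).Coprime p)
    (hsum : ∀ h : H, h ≠ 1 → ∑ i ∈ Finset.range (orderOf h), ((g h : Sˣ) : S) ^ i = 0)
    (hp1 : ∀ r : S, r * (p : S) ≠ 1) :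
    ∃ (L : Type) (_ : Group L) (_ : Finite L) (C : Subgroup L),
      Cfsg.IsFrobeniusComplement C ∧ Nonempty (H ≃* C) := by
  let I : Submodule S S := Submodule.span S {(p : S)}
  let M := S ⧸ I
  letI : DistribMulAction H M := DistribMulAction.compHom M g
  have hpM : ∀ m : M, p • m = 0 := by
    intro m
    obtain ⟨r, rfl⟩ := Submodule.Quotient.mk_surjective I m
    rw [← Nat.cast_smul_eq_nsmul S p, ← Submodule.Quotient.mk_smul, Submodule.Quotient.mk_eq_zero,
      smul_eq_mul, Nat.cast_comm]
    exact Submodule.smul_mem _ r (Submodule.subset_span rfl)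
  have hI : I ≠ ⊤ := by
    intro h
    have h1 : (1 : S) ∈ I := by rw [h]; trivial
    obtain ⟨r, hr⟩ := Submodule.mem_span_singleton.mp h1
    exact hp1 r hr
  have : Nontrivial M := Submodule.Quotient.nontrivial_iff.mpr hI
  have : Module.Finite ℤ M := Module.Finite.of_surjective ((I.mkQ).restrictScalars ℤ)
    (fun m => Submodule.Quotient.mk_surjective I m)
  have : Finite M := Module.finite_of_fg_torsion M (by
    intro m
    refine ⟨⟨(p : ℤ), mem_nonZeroDivisors_of_ne_zero (by exact_mod_cast hp.out.ne_zero)⟩, ?_⟩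
    show (p : ℤ) • m = 0
    rw [natCast_zsmul]
    exact hpM m)
  have hfpf : ∀ h : H, h ≠ 1 → ∀ m : M, h • m = m → m = 0 := by
    intro h hh m hm
    have hsm : ((g h : Sˣ) : S) • m = m := hm
    have hpow : ∀ i : ℕ, ((g h : Sˣ) : S) ^ i • m = m := by
      intro i
      induction i with
      | zero => simp
      | succ i ih => rw [pow_succ, mul_smul, hsm, ih]
    have h1 : (∑ i ∈ Finset.range (orderOf h), ((g h : Sˣ) : S) ^ i) • m = orderOf h • m := by
      rw [Finset.sum_smul]
      simp [hpow]
    rw [hsum h hh, zero_smul] at h1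
    have h2 : addOrderOf m ∣ orderOf h := addOrderOf_dvd_of_nsmul_eq_zero h1.symm
    have h3 : addOrderOf m ∣ p := addOrderOf_dvd_of_nsmul_eq_zero (hpM m)
    have h4 : (orderOf h).Coprime p := Nat.Coprime.coprime_dvd_left (orderOf_dvd_natCard h) hpH
    have h5 : addOrderOf m = 1 := Nat.eq_one_of_dvd_coprimes h4 h2 h3
    exact AddMonoid.addOrderOf_eq_one_iff.mp h5
  exact exists_frobenius_of_fpf H M hfpf

theorem geom_sum_eq_zero {D : Type*} [DivisionRing D] (x : D) (n : ℕ) (hx : x ≠ 1)
    (hxn : x ^ n = 1) : ∑ i ∈ Finset.range n, x ^ i = 0 := by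
  have h := geom_sum_mul x n
  rw [hxn, sub_self] at h
  rcases mul_eq_zero.mp h with h | h
  · exact h
  · exact absurd (sub_eq_zero.mp h) hx

/-- A nontrivial finite subgroup of the multiplicative group of a division ring occurs as a Frobenius complement of some finite Frobenius group. -/
theorem result {D : Type*} [DivisionRing D] (H : Subgroup Dˣ) [Finite H] (hH : H ≠ ⊥) :
    ∃ (L : Type) (_ : Group L) (_ : Finite L) (C : Subgroup L), Cfsg.IsFrobeniusComplement C ∧ Nonempty (H ≃* C) := by
  classical
  haveI : Nontrivial H := (Subgroup.nontrivial_iff_ne_bot H).mpr hH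
  let f : H →* D := (Units.coeHom D).comp H.subtype
  let Φ : MonoidAlgebra ℤ H →ₐ[ℤ] D := MonoidAlgebra.lift ℤ D H f
  let S : Subalgebra ℤ D := Φ.range
  have : Module.Finite ℤ S :=
    Module.Finite.of_surjective Φ.rangeRestrict.toLinearMap Φ.rangeRestrict_surjective
  let g₀ : H →* S := (Φ.rangeRestrict : MonoidAlgebra ℤ H →* S).comp (MonoidAlgebra.of ℤ H)
  let g : H →* Sˣ := g₀.toHomUnits
  have hg : ∀ h : H, (((g h : Sˣ) : S) : D) = ((h : Dˣ) : D) := by
    intro h
    show Φ (MonoidAlgebra.of ℤ H h) = _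
    simp [Φ, f]
  have hsum : ∀ h : H, h ≠ 1 → ∑ i ∈ Finset.range (orderOf h), ((g h : Sˣ) : S) ^ i = 0 := by
    intro h hh
    apply Subtype.ext
    push_cast
    rw [hg]
    apply geom_sum_eq_zero
    · intro h1
      apply hh
      exact Subtype.ext (Units.ext h1)
    · have h2 : (((h ^ orderOf h : H) : Dˣ) : D) = 1 := by
        rw [pow_orderOf_eq_one]; simp
      rwa [Subgroup.coe_pow, Units.val_pow_eq_pow_val] at h2
  obtain ⟨ℓ, hℓ⟩ := CharP.exists D
  rcases CharP.char_is_prime_or_zero D ℓ with hprime | rfl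
  · -- positive characteristic
    haveI : Fact ℓ.Prime := ⟨hprime⟩
    refine exists_frobenius_of_ring g ℓ ?_ hsum ?_
    · rw [Nat.coprime_comm, Nat.Prime.coprime_iff_not_dvd hprime]
      intro hdvd
      obtain ⟨h, hh⟩ := exists_prime_orderOf_dvd_card' ℓ hdvd
      have h1 : ((h : Dˣ) : D) ^ ℓ = 1 := by
        have h2 : (((h ^ orderOf h : H) : Dˣ) : D) = 1 := by
          rw [pow_orderOf_eq_one]; simp
        rwa [Subgroup.coe_pow, Units.val_pow_eq_pow_val, hh] at h2
      have h2 : (((h : Dˣ) : D) - 1) ^ ℓ = 0 := by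
        rw [sub_pow_char_of_commute ℓ (Commute.one_right _), h1, one_pow, sub_self]
      have h3 : ((h : Dˣ) : D) = 1 := sub_eq_zero.mp ((pow_eq_zero_iff hprime.ne_zero).mp h2)
      have h4 : h = 1 := Subtype.ext (Units.ext h3)
      rw [h4, orderOf_one] at hh
      exact hprime.one_lt.ne' hh.symm
    · intro r hr
      have h1 : ((ℓ : S) : D) = 0 := by
        push_cast
        exact CharP.cast_eq_zero D ℓ
      have h0 : (ℓ : S) = 0 := Subtype.ext h1
      rw [h0, mul_zero] at hr
      exact zero_ne_one hr
  · -- characteristic zero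
    have : CharZero D := CharP.charP_to_charZero D
    obtain ⟨p, hpge, hp⟩ := Nat.exists_infinite_primes (Nat.card H + 1)
    haveI : Fact p.Prime := ⟨hp⟩
    refine exists_frobenius_of_ring g p ?_ hsum ?_
    · rw [Nat.coprime_comm, Nat.Prime.coprime_iff_not_dvd hp]
      intro hdvd
      have := Nat.le_of_dvd Nat.card_pos hdvd
      omega
    · intro r hr
      have hint : IsIntegral ℤ r := IsIntegral.of_finite ℤ r
      have hint' : IsIntegral ℤ (r : D) := hint.map S.val
      have hrD : (r : D) * (p : D) = 1 := by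
        have := congrArg (fun z : S => (z : D)) hr
        simpa using this
      have hr' : (r : D) = algebraMap ℚ D ((p : ℚ)⁻¹) := by
        rw [map_inv₀, map_natCast]
        exact eq_inv_of_mul_eq_one_left hrD
      rw [hr'] at hint'
      have h3 : IsIntegral ℤ ((p : ℚ)⁻¹) :=
        (isIntegral_algebraMap_iff (algebraMap ℚ D).injective).mp hint'
      obtain ⟨y, hy⟩ := IsIntegrallyClosed.isIntegral_iff.mp h3
      have h4 : (y : ℚ) * p = 1 := by
        have : (y : ℚ) = (p : ℚ)⁻¹ := hy
        rw [this]
        exact inv_mul_cancel₀ (by exact_mod_cast hp.ne_zero)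
      have h5 : y * (p : ℤ) = 1 := by exact_mod_cast h4
      have h6 : (p : ℤ) ∣ 1 := Dvd.intro_left y h5
      have h7 : p ∣ 1 := by exact_mod_cast h6
      exact hp.one_lt.ne' (Nat.dvd_one.mp h7)

end Cfsg.Agent.S4293
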