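import Mathlib
import Cfsg.Statements.S5157
import Cfsg.Agent.Lib.Helper25.FusionSolv

set_option autoImplicit false
open Cfsg Cfsg.FusionSystem Cfsg.Agent.Helper25
open scoped commutatorElement

namespace Cfsg.Agent.S5157

/-- A saturated fusion system F over a finite p-group S is solvable (for every subgroup R other than S that is strongly closed in F, the factor system of F modulo R has a nontrivial subgroup normal in it) if and only if there is a chain 1 = S₀ ≤ S₁ ≤ ⋯ ≤ Sₘ = S of subgroups strongly closed in F with every quotient Sᵢ₊₁/Sᵢ abelian. -/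
theorem result {Ω : Type*} [Group Ω] {S : Subgroup Ω} [Finite S] (p : ℕ) [Fact p.Prime] (hS : IsPGroup p S) (F : Cfsg.FusionSystem S) (hF : F.IsSaturated p) : F.IsSolvableSystem ↔ ∃ (n : ℕ) (T : Fin (n + 1) → Subgroup Ω), T 0 = ⊥ ∧ T (Fin.last n) = S ∧ Monotone T ∧ (∀ i, F.StronglyClosed (T i)) ∧ ∀ i : Fin n, ⁅T i.succ, T i.succ⁆ ≤ T (Fin.castSucc i) := by
  constructor
  · intro hsolv
    have hbot : F.StronglyClosed ⊥ := stronglyClosed_bot F
    obtain ⟨n, T, hT0, hTn, hTmono, hTsc, hTcomm⟩ :=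
      Solv.exists_chain_above p hS hF hsolv _ ⊥ hbot rfl
    have hmono : Monotone T := monotone_nat_of_le_succ hTmono
    refine ⟨n, fun i => T i.val, ?_, ?_, ?_, fun i => hTsc _, fun i => ?_⟩
    · exact hT0
    · show T (Fin.last n).val = S
      rw [Fin.val_last]; exact hTn
    · intro a b hab
      exact hmono (Fin.le_def.mp hab)
    · show ⁅T (i.succ).val, T i.succ.val⁆ ≤ T (Fin.castSucc i).val
      rw [Fin.val_succ, Fin.val_castSucc]; exact hTcomm i.val
  · rintro ⟨n, T, hT0, hTn, hTmono, hTsc, hTcomm⟩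
    intro R hR hRS _ E hE
    have hsurj := Cfsg.Agent.S5134.result p hS F hF R hR _ E hE
    have hEsat : E.IsSaturated p := isSaturated_of_surj hS hF hsurj
    have hS'p : IsPGroup p ↥(⊤ : Subgroup (↥S ⧸ R.subgroupOf S)) :=
      IsPGroup.of_injective (hS.to_quotient (R.subgroupOf S)) (Subgroup.subtype _)
        (Subgroup.subtype_injective _)
    rw [Cfsg.Agent.S5089.result p hS'p E hEsat]
    have hex : ∃ k, ∃ h : k < n + 1, ¬ T ⟨k, h⟩ ≤ R := by
      refine ⟨n, Nat.lt_succ_self n, fun hle => hRS (le_antisymm hR.1 ?_)⟩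
      have : T ⟨n, Nat.lt_succ_self n⟩ = S := hTn
      rw [← this]; exact hle
    classical
    obtain ⟨hkn, hkR⟩ := Nat.find_spec hex
    have hk0 : Nat.find hex ≠ 0 := by
      intro h0
      apply hkR
      have : T ⟨Nat.find hex, hkn⟩ = T 0 := by
        congr 1; exact Fin.ext h0
      rw [this, hT0]; exact bot_le
    obtain ⟨j, hj⟩ := Nat.exists_eq_succ_of_ne_zero hk0
    have hjn : j < n := by omega
    have hjR : T (Fin.castSucc ⟨j, hjn⟩) ≤ R := by
      by_contra hcon
      have := Nat.find_min hex (m := j) (by omega)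
      exact this ⟨by omega, hcon⟩
    have hsucc : T (Fin.succ ⟨j, hjn⟩) = T ⟨Nat.find hex, hkn⟩ := by
      congr 1; exact Fin.ext (by rw [Fin.val_succ]; exact hj.symm)
    have hQR : ¬ T (Fin.succ ⟨j, hjn⟩) ≤ R := by rw [hsucc]; exact hkR
    have hQsc : F.StronglyClosed (T (Fin.succ ⟨j, hjn⟩)) := hTsc _
    have hQcomm : ⁅T (Fin.succ ⟨j, hjn⟩), T (Fin.succ ⟨j, hjn⟩)⁆ ≤ R :=
      (hTcomm ⟨j, hjn⟩).trans hjR
    refine ⟨imageAlong (QuotientGroup.mk' (R.subgroupOf S)) (T (Fin.succ ⟨j, hjn⟩)), ?_, ?_,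
      Solv.stronglyClosed_imageAlong hE hQsc⟩
    · intro hbot
      apply hQR
      intro t ht
      have htS : t ∈ S := hQsc.1 ht
      have h1 : QuotientGroup.mk' (R.subgroupOf S) ⟨t, htS⟩ ∈
          imageAlong (QuotientGroup.mk' (R.subgroupOf S)) (T (Fin.succ ⟨j, hjn⟩)) :=
        mem_imageAlong.mpr ⟨⟨t, htS⟩, ht, rfl⟩
      rw [hbot, Subgroup.mem_bot] at h1
      exact (hE.2.1 ⟨t, htS⟩).1 h1
    · refine ⟨⟨?_⟩⟩
      rintro ⟨a, ha⟩ ⟨b, hb⟩
      apply Subtype.ext
      obtain ⟨s, hs, rfl⟩ := mem_imageAlong.mp ha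
      obtain ⟨t, ht, rfl⟩ := mem_imageAlong.mp hb
      show QuotientGroup.mk' (R.subgroupOf S) s * QuotientGroup.mk' (R.subgroupOf S) t =
        QuotientGroup.mk' (R.subgroupOf S) t * QuotientGroup.mk' (R.subgroupOf S) s
      rw [← commutatorElement_eq_one_iff_mul_comm, ← map_commutatorElement, hE.2.1]
      apply hQcomm
      have : ((⁅s, t⁆ : S) : Ω) = ⁅(s : Ω), (t : Ω)⁆ := by simp [commutatorElement_def]
      rw [this]
      exact Subgroup.commutator_mem_commutator hs ht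

end Cfsg.Agent.S5157
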