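import Mathlib
import Cfsg.Statements.S5084
import Cfsg.Agent.Lib.Helper25.FusionNormal2

set_option autoImplicit false

namespace Cfsg.Agent.S5084

open Cfsg Cfsg.FusionSystem Cfsg.Agent.Helper25

theorem result {Ω : Type*} [Group Ω] {S : Subgroup Ω} [Finite S] (p : ℕ) [Fact p.Prime] (hS : IsPGroup p S) (F : Cfsg.FusionSystem S) (hF : F.IsSaturated p) (Q : Subgroup Ω) : F.IsCentral Q ↔ (Q ≤ S ∧ ∀ x ∈ Q, ∀ y : Ω, F.IsConjElt x y → y = x) := by
  constructor
  · intro hQ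
    refine ⟨hQ.1, ?_⟩
    rintro x hx y ⟨φ, hφ, rfl⟩
    obtain ⟨ψ, -, hψP, hψQ⟩ := hQ.2 _ φ hφ
    have h1 := hψP ⟨x, Subgroup.mem_zpowers x⟩
    have h2 := hψQ ⟨x, hx⟩
    rw [← h1]
    exact h2
  · rintro ⟨hQS, hsing⟩
    have hzS : ∀ x ∈ Q, Subgroup.zpowers x ≤ S := fun x hx =>
      (Subgroup.zpowers_le.mpr hx).trans hQS
    have hcentral : ∀ g ∈ S, ∀ x ∈ Q, g * x * g⁻¹ = x := by
      intro g hg x hx
      exact hsing x hx _ ⟨conjHom _ g, F.conj_mem (hzS x hx) hg, rfl⟩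
    have hK : ∀ g ∈ S, ∃ κ ∈ (⊥ : Subgroup (MulAut Q)), ∀ x : Q,
        ((κ x : Q) : Ω) = g * (x : Ω) * g⁻¹ :=
      fun g hg => ⟨1, Subgroup.mem_bot.mpr rfl, fun x => (hcentral g hg x x.2).symm⟩
    apply isCentral_of_le_normSub_bot F Q hQS hK
    apply Cfsg.Agent.S5082.result p hS F hF
    intro P hP α hα
    have hPS : P ≤ S := by
      rcases hP with rfl | hP
      · exact le_rfl
      · exact le_of_isEssential F hP
    have hQP : Q ≤ P := by
      rcases hP with rfl | hP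
      · exact hQS
      · refine le_trans ?_ (hP.1.2 P (isConj_refl F hPS))
        intro x hx
        rw [mem_centralizerIn]
        refine ⟨hQS hx, fun y hy => ?_⟩
        have := hcentral y (hPS hy) x hx
        calc y * x = y * x * y⁻¹ * y := by group
          _ = x * y := by rw [this]
    refine mem_autGroup_normSub F Q ⊥ hQS hK hPS hQP hα (κ := 1) (Subgroup.mem_bot.mpr rfl) ?_
    intro x
    have hαF := (mem_autGroup_iff F hPS α).mp hα
    have hzP : Subgroup.zpowers (x : Ω) ≤ P := (Subgroup.zpowers_le.mpr x.2).trans hQP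
    have h1 := restrict_mem F hzP hαF
    have h2 := hsing x x.2 _ ⟨_, h1, rfl⟩
    apply Subtype.ext
    exact h2

end Cfsg.Agent.S5084
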