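import Mathlib
import Cfsg.Statements.S5196
import Cfsg.Agent.Lib.Helper3.WClos3

set_option autoImplicit false
set_option linter.style.haveILetI false
set_option linter.unusedSectionVars false
set_option linter.deprecated false
universe u
open Cfsg

namespace Cfsg.Agent.S5196

open Cfsg.FusionSystem Cfsg.Agent.Helper25 Cfsg.Agent.Helper3.KL Cfsg.Agent.Helper3.WC
open Cfsg.Agent.Helper3.Model Cfsg.Agent.Helper25.Grun

/-- the group-theoretic hypothesis, in elementwise form -/
theorem group_step {p : ℕ} [Fact p.Prime] {W : ∀ (Q : Type u) [Group Q], Subgroup Q}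
    (hW2 : ∀ (Q R : Type u) [Group Q] [Group R] [Finite Q], IsPGroup p Q → ∀ φ : Q ≃* R,
      (W Q).map φ.toMonoidHom = W R)
    (hC : ∀ (G : Type u) [Group G] [Finite G] (P : Sylow p G), Cfsg.pCore p G ⊓ Subgroup.center G = Cfsg.pCore p G ⊓ (Subgroup.center ↥(Subgroup.normalizer (((W ↥(P : Subgroup G)).map (P : Subgroup G).subtype : Subgroup G) : Set G))).map (Subgroup.normalizer (((W ↥(P : Subgroup G)).map (P : Subgroup G).subtype : Subgroup G) : Set G)).subtype)
    {G : Type u} [Group G] [Finite G] (P : Sylow p G) {x : G} (hxP : x ∈ (P : Subgroup G))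
    (hx : x ∈ Cfsg.pCore p G)
    (hfix : ∀ g ∈ Subgroup.normalizer ((wOf W (P : Subgroup G) : Subgroup G) : Set G),
      g * x * g⁻¹ = x) : ∀ g : G, g * x * g⁻¹ = x := by
  have hPp : IsPGroup p ↥(P : Subgroup G) := P.isPGroup'
  have hxN : x ∈ Subgroup.normalizer (((W ↥(P : Subgroup G)).map (P : Subgroup G).subtype :
      Subgroup G) : Set G) :=
    normalizer_le_normalizer_wOf hW2 hPp (Subgroup.le_normalizer hxP)
  have h1 : x ∈ Cfsg.pCore p G ⊓ Subgroup.center G := by
    rw [hC G P]
    refine ⟨hx, ⟨x, hxN⟩, ?_, rfl⟩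
    rw [SetLike.mem_coe, Subgroup.mem_center_iff]
    intro g
    apply Subtype.ext
    show (g : G) * x = x * g
    have := hfix g g.2
    calc (g : G) * x = (g * x * (g : G)⁻¹) * g := by group
      _ = x * g := by rw [this]
  intro g
  have := Subgroup.mem_center_iff.mp h1.2 g
  rw [this, mul_inv_cancel_right]

/-- Let p be an odd prime and W a positive characteristic p-functor: W assigns to every finite p-group Q (in a fixed universe) a subgroup W(Q), nontrivial when Q is, carried to W(R) by every isomorphism Q ≅ R; assume also Z(Q) ≤ W(Q) for every finite p-group Q. Suppose W satisfies the local condition: for every finite group G with Sylow p-subgroup P, O_p(G) ∩ Z(G) = O_p(G) ∩ Z(N_G(W(P))). Then W controls weak closure of elements in every saturated fusion system F over a finite p-group S: the centre of the normalizer fusion system of W(S) in F equals the centre of F. (For p = 2 no functor satisfies the local condition, so p is taken odd.) -/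
theorem result {p : ℕ} [Fact p.Prime] (hp : p ≠ 2) (W : ∀ (Q : Type u) [Group Q], Subgroup Q) (hW1 : ∀ (Q : Type u) [Group Q] [Finite Q], IsPGroup p Q → Nontrivial Q → W Q ≠ ⊥) (hW2 : ∀ (Q R : Type u) [Group Q] [Group R] [Finite Q], IsPGroup p Q → ∀ φ : Q ≃* R, (W Q).map φ.toMonoidHom = W R) (hWZ : ∀ (Q : Type u) [Group Q] [Finite Q], IsPGroup p Q → Subgroup.center Q ≤ W Q) (hC : ∀ (G : Type u) [Group G] [Finite G] (P : Sylow p G), Cfsg.pCore p G ⊓ Subgroup.center G = Cfsg.pCore p G ⊓ (Subgroup.center ↥(Subgroup.normalizer (((W ↥(P : Subgroup G)).map (P : Subgroup G).subtype : Subgroup G) : Set G))).map (Subgroup.normalizer (((W ↥(P : Subgroup G)).map (P : Subgroup G).subtype : Subgroup G) : Set G)).subtype) {Ω : Type u} [Group Ω] {S : Subgroup Ω} [Finite S] (hS : IsPGroup p S) (F : Cfsg.FusionSystem S) (hF : F.IsSaturated p) (N : Cfsg.FusionSystem (Cfsg.FusionSystem.normalizerIn S ((W ↥S).map S.subtype))) (hN : F.IsNormalizerSystem ((W ↥S).map S.subtype) N) : N.center = F.center := by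
  obtain ⟨w, hw⟩ : ∃ w : Subgroup Ω → Subgroup Ω, w = fun T => wOf W T := ⟨_, rfl⟩
  have hwS : w S = (W ↥S).map S.subtype := by rw [hw]; rfl
  have hw1 : ∀ T : Subgroup Ω, T ≤ S → w T ≤ T := fun T _ => by rw [hw]; exact wOf_le T
  have hw3 : ∀ T : Subgroup Ω, T ≤ S → normalizerIn S T ≤ normalizerIn S (w T) := by
    intro T hT
    haveI := finite_of_le_finite hT
    rw [hw]
    exact normalizerIn_le_normalizerIn_wOf hW2 (hS.to_le hT)
  have hXS : (W ↥S).map S.subtype ≤ S := wOf_le S
  have hXn : S ≤ Subgroup.normalizer (((W ↥S).map S.subtype : Subgroup Ω) : Set Ω) := by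
    intro s hs
    have h1 : s ∈ normalizerIn S S := ⟨hs, Subgroup.le_normalizer hs⟩
    have h2 := hw3 S le_rfl h1
    rw [hwS] at h2
    exact h2.2
  have hTS : normalizerIn S ((W ↥S).map S.subtype) ≤ S := normalizerIn_le
  haveI : Finite ↥(normalizerIn S ((W ↥S).map S.subtype)) := finite_of_le_finite hTS
  apply le_antisymm
  · -- the main inclusion
    have hNc : N.IsCentral N.center := isCentral_center N
    apply le_center_of_fix hS hF (hNc.1.trans hTS)
    intro z hz φ hφ
    have hzS : z ∈ S := hTS (hNc.1 hz)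
    have hzZ : z ∈ centralizerIn S S := by
      rw [mem_centralizerIn]
      refine ⟨hzS, fun g hg => ?_⟩
      have hgT : g ∈ normalizerIn S ((W ↥S).map S.subtype) := ⟨hg, hXn hg⟩
      have := central_comm N hNc hgT hz
      calc g * z = (g * z * g⁻¹) * g := by group
        _ = z * g := by rw [this]
    have hzW : ∀ T : Subgroup Ω, T ≤ S → z ∈ T → z ∈ w T := by
      intro T hT hzT
      haveI := finite_of_le_finite hT
      rw [hw]
      apply mem_wOf.mpr
      refine ⟨hzT, hWZ ↥T (hS.to_le hT) ?_⟩
      rw [Subgroup.mem_center_iff]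
      intro t
      apply Subtype.ext
      exact (mem_centralizerIn.mp hzZ).2 t (hT t.2)
    have htop : AutFix F z (w S) := by
      rw [hwS, autFix_iff_autGroup F hXS]
      intro α hα hzX
      have h1 := normalizerSystem_aut_mem F hXS N hN hα
      exact central_fix N hNc h1 ⟨z, hzX⟩ hz
    have hloc : ∀ Q, F.IsFullyNormalized Q → F.IsCentric Q →
        AutFix F z (w (normalizerIn S Q)) → AutFix F z Q := by
      intro Q hQfn hQc hU
      have hQS : Q ≤ S := hQfn.1
      have hTQS : normalizerIn S Q ≤ S := normalizerIn_le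
      haveI : Finite ↥(normalizerIn S Q) := finite_of_le_finite hTQS
      have hTp : IsPGroup p ↥(normalizerIn S Q) := hS.to_le hTQS
      have hzQ : z ∈ Q := by
        apply hQc.2 Q (isConj_refl F hQS)
        rw [mem_centralizerIn]
        exact ⟨hzS, fun x hx => (mem_centralizerIn.mp hzZ).2 x (hQS hx)⟩
      have hzT : z ∈ normalizerIn S Q := le_normalizerIn hQS hzQ
      obtain ⟨NQ, hNQ⟩ := Cfsg.Agent.S5096.result F Q hQS
      have hNQsat := normalizerSystem_isSaturated p hS F hF hQfn NQ hNQ
      obtain ⟨L, _, ι, hm⟩ := exists_model p hTp NQ ⟨hNQsat, Q,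
        normalizerSystem_isNormal F hQS NQ hNQ, normalizerSystem_isCentric F hQc NQ hNQ⟩
      have hUT : w (normalizerIn S Q) ≤ normalizerIn S Q := hw1 _ hTQS
      refine autFix_of_model hS hQfn hzQ hUT (hzW _ hTQS hzT) NQ hNQ ι hm ?_ hU
      intro hzT' hcore hstep
      obtain ⟨hfin, hreal, ⟨PT, hPT⟩, -⟩ := hm
      haveI := hfin
      have hι := hreal.1
      have hmap : (w (normalizerIn S Q)).subgroupOf (normalizerIn S Q) = W ↥(normalizerIn S Q) := by
        rw [hw]
        show ((W ↥(normalizerIn S Q)).map (normalizerIn S Q).subtype).comap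
          (normalizerIn S Q).subtype = _
        exact Subgroup.comap_map_eq_self_of_injective (Subgroup.subtype_injective _) _
      rw [hmap, wOf_range hW2 hTp ι hι, ← hPT] at hstep
      have hxP : ι ⟨z, hzT'⟩ ∈ (PT : Subgroup L) := by
        rw [hPT]
        exact ⟨_, rfl⟩
      exact group_step hW2 hC PT hxP hcore hstep
    have := chain hS hF hzZ w hw1 hw3 htop hloc hφ
    exact this.apply (Subgroup.mem_zpowers z)
  · exact center_le_center_normalizer hS hF hXS hXn N hN

end Cfsg.Agent.S5196
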