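import Mathlib
import Cfsg.Statements.S0369
import Cfsg.Agent.Lib.Helper27.GolayRigid
import Cfsg.Agent.Lib.Helper29.GolayCount

set_option autoImplicit false
open Cfsg

namespace Cfsg.Agent.S0369

section Aux
open scoped Pointwise
open Cfsg.Agent.Helper27 Cfsg.Agent.Helper29

/-- first octad of a splitting of the generating word `qrWord t` -/
def octA (t : ZMod 23) : ℕ :=
  [118, 41, 43, 35, 43, 15, 30, 35, 35, 35, 19, 19, 38, 41, 19, 38, 15, 15, 19, 15, 15, 30,
    59].getD t.val 0

/-- second octad of a splitting of the generating word `qrWord t` -/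
def octB (t : ZMod 23) : ℕ :=
  [119, 43, 47, 43, 59, 47, 94, 163, 291, 547, 1043, 752, 1504, 326, 717, 1434, 404, 825, 1663,
    1588, 1690, 2007, 1354].getD t.val 0

theorem oct_split : ∀ t : ZMod 23, pop24 (cw (octA t)) = 8 ∧ pop24 (cw (octB t)) = 8 ∧
    octA t ^^^ octB t = Cfsg.Agent.S0358.coefMask t := by decide +kernel

theorem preserves (σ : Equiv.Perm GolayPt) (hσ : σ • octads = octads) :
    ∀ w ∈ golayCode, permWord σ w ∈ golayCode := by
  apply permWord_mem_of_gens σ ?_ (by rw [permWord_one_word]; exact one_mem_golayCode)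
  intro t
  obtain ⟨hA, hB, hAB⟩ := oct_split t
  rw [qrWord_eq_ofMask t, ← hAB, cw_xor, ofMask_xor]
  have hoct : ∀ n, pop24 (cw n) = 8 → permWord σ (ofMask (cw n)) ∈ golayCode := by
    intro n hn
    have h1 : support₂ (ofMask (cw n)) ∈ octads :=
      ⟨⟨_, cw_mem n, rfl⟩, by rw [card_support₂_ofMask, hn]⟩
    have h2 : σ • support₂ (ofMask (cw n)) ∈ octads := by
      rw [← hσ]; exact Set.smul_mem_smul_set h1
    rw [← support₂_permWord] at h2
    obtain ⟨⟨v, hv, hvs⟩, -⟩ := h2
    have : v = permWord σ (ofMask (cw n)) := support₂_injective hvs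
    rw [← this]; exact hv
  have hadd : permWord σ (ofMask (cw (octA t)) + ofMask (cw (octB t))) =
      permWord σ (ofMask (cw (octA t))) + permWord σ (ofMask (cw (octB t))) := rfl
  rw [hadd]
  exact golayCode.add_mem (hoct _ hA) (hoct _ hB)

theorem main : Cfsg.M24 = Cfsg.setSystemAut Cfsg.octads := by
  ext σ
  constructor
  · intro h
    show σ ∈ MulAction.stabilizer _ octads
    rw [MulAction.mem_stabilizer_iff]
    ext s
    constructor
    · rintro ⟨o, ho, rfl⟩
      exact smul_mem_octads h ho
    · intro hs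
      exact ⟨σ⁻¹ • s, smul_mem_octads (inv_mem h) hs, smul_inv_smul σ s⟩
  · intro h
    have h1 : σ • octads = octads := MulAction.mem_stabilizer_iff.1 h
    have h2 : σ⁻¹ • octads = octads := MulAction.mem_stabilizer_iff.1 (inv_mem h)
    exact mem_M24_of_preserves σ (preserves σ h1) (preserves σ⁻¹ h2)

end Aux

/-- The group of the length-24 code coincides with the automorphism group of its octad system. -/
theorem result : Cfsg.M24 = Cfsg.setSystemAut Cfsg.octads := by
  exact main

end Cfsg.Agent.S0369
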