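import Mathlib
import Cfsg.Statements.S0414
import Cfsg.Agent.Lib.Helper27.WittIndex
import Cfsg.Agent.S0410
import Cfsg.Agent.S0363
import Cfsg.Agent.S0366
import Cfsg.Agent.S0369
import Cfsg.Agent.S0378
import Cfsg.Agent.S0379

set_option autoImplicit false
open Cfsg

namespace Cfsg.Agent.S0414

open Cfsg.Agent.Helper27.Witt

theorem stab2_simple_transfer (K K' : Subgroup (Equiv.Perm Cfsg.GolayPt)) (h : K = K')
    (p q : Cfsg.GolayPt)
    (hs : IsSimpleGroup ↥(MulAction.stabilizer K p ⊓ MulAction.stabilizer K q)) :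
    IsSimpleGroup ↥(MulAction.stabilizer K' p ⊓ MulAction.stabilizer K' q) := by
  subst h; exact hs

theorem stab2_card_transfer (K K' : Subgroup (Equiv.Perm Cfsg.GolayPt)) (h : K = K')
    (p q : Cfsg.GolayPt) :
    Nat.card ↥(MulAction.stabilizer K p ⊓ MulAction.stabilizer K q)
      = Nat.card ↥(MulAction.stabilizer K' p ⊓ MulAction.stabilizer K' q) := by
  subst h; rfl

/-- Aut of an S(3, 6, 22) has order 887040, is 3-transitive, and contains a simple subgroup of index 2. -/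
theorem result {α : Type*} [Fintype α] [DecidableEq α] (hα : Fintype.card α = 22) {B : Set (Finset α)} (hB : Cfsg.IsSteinerSystem 3 6 B) : Nat.card (Cfsg.setSystemAut B) = 887040 ∧ MulAction.IsMultiplyPretransitive (Cfsg.setSystemAut B) α 3 ∧ ∃ H : Subgroup (Cfsg.setSystemAut B), H.index = 2 ∧ Cfsg.IsM22 H := by
  classical
  have hoct : Cfsg.IsSteinerSystem 5 8 Cfsg.octads := Cfsg.Agent.S0363.result
  have hcardG : Fintype.card Cfsg.GolayPt = 24 := by
    simp [Cfsg.GolayPt, ZMod.card]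
  set p0 : Cfsg.GolayPt := none with hp0
  have h23 : Cfsg.IsSteinerSystem 4 7 (der Cfsg.octads p0) :=
    Cfsg.Agent.S0351.result (t := 4) (k := 7) hoct p0
  have hcard23 : Fintype.card {a : Cfsg.GolayPt // a ≠ p0} = 23 := by
    rw [Fintype.card_subtype_compl, Fintype.card_subtype_eq, hcardG]
  obtain ⟨q0⟩ : Nonempty {a : Cfsg.GolayPt // a ≠ p0} := by
    rw [← Fintype.card_pos_iff, hcard23]; norm_num
  have h22 : Cfsg.IsSteinerSystem 3 6 (der (der Cfsg.octads p0) q0) :=
    Cfsg.Agent.S0351.result (t := 3) (k := 6) h23 q0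
  have hcard22 : Fintype.card {a : {a : Cfsg.GolayPt // a ≠ p0} // a ≠ q0} = 22 := by
    rw [Fintype.card_subtype_compl, Fintype.card_subtype_eq, hcard23]
  obtain ⟨e, he⟩ := Cfsg.Agent.S0410.result hα hcard22 hB h22
  have hM : Cfsg.M24 = Cfsg.setSystemAut Cfsg.octads := Cfsg.Agent.S0369.result
  have hpq : p0 ≠ q0.val := fun h => q0.2 h.symm
  have hsimple : IsSimpleGroup ↥(MulAction.stabilizer (↥(Cfsg.setSystemAut Cfsg.octads)) p0
      ⊓ MulAction.stabilizer (↥(Cfsg.setSystemAut Cfsg.octads)) q0.val) :=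
    stab2_simple_transfer _ _ hM p0 q0.val (Cfsg.Agent.S0379.result p0 q0.val hpq)
  have hcard : Nat.card ↥(MulAction.stabilizer (↥(Cfsg.setSystemAut Cfsg.octads)) p0
      ⊓ MulAction.stabilizer (↥(Cfsg.setSystemAut Cfsg.octads)) q0.val) = 443520 := by
    rw [← stab2_card_transfer _ _ hM p0 q0.val]
    exact Cfsg.Agent.S0378.result p0 q0.val hpq
  have htrans : MulAction.IsMultiplyPretransitive (Cfsg.setSystemAut Cfsg.octads) Cfsg.GolayPt 5 := by
    rw [← hM]; exact Cfsg.Agent.S0366.result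
  -- the subgroup of extendable automorphisms
  let H'' : Subgroup (Cfsg.setSystemAut (der (der Cfsg.octads p0) q0)) :=
    (Cfsg.setSystemAut (der Cfsg.octads p0)).comap
      ((Equiv.Perm.ofSubtype).comp (Subgroup.subtype _))
  have hH'' : ∀ τ : Cfsg.setSystemAut (der (der Cfsg.octads p0) q0),
      τ ∈ H'' ↔ Equiv.Perm.ofSubtype τ.1 ∈ Cfsg.setSystemAut (der Cfsg.octads p0) :=
    fun τ => Iff.rfl
  have hidx : H''.index = 2 := index_two23 h23 hcard23 q0 H'' hH''
  obtain ⟨φ1⟩ := stabIso (der Cfsg.octads p0) q0 H'' (fun τ hτ => (hH'' τ).mp hτ) (by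
    intro g hg hp hm
    rw [hH'']
    have : Equiv.Perm.ofSubtype
        (g.subtypePerm (ne_iff_of_fix hp) : Equiv.Perm {a : {a : Cfsg.GolayPt // a ≠ p0} // a ≠ q0})
        = g := by
      apply Equiv.Perm.ofSubtype_subtypePerm
      intro x hx e
      exact hx (e ▸ hp)
    show Equiv.Perm.ofSubtype
        (g.subtypePerm (ne_iff_of_fix hp) : Equiv.Perm {a : {a : Cfsg.GolayPt // a ≠ p0} // a ≠ q0})
        ∈ _
    rw [this]; exact hg)
  obtain ⟨φ2⟩ := stabIso2 Cfsg.octads p0 q0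
    (fun τ hτ => ofSubtype_mem_aut24 hoct hcardG p0 τ hτ)
  let φ := autCongr e he
  let H : Subgroup (Cfsg.setSystemAut B) := H''.map (φ.symm : _ →* _)
  let Φ : ↥H ≃* ↥(MulAction.stabilizer (↥(Cfsg.setSystemAut Cfsg.octads)) p0
      ⊓ MulAction.stabilizer (↥(Cfsg.setSystemAut Cfsg.octads)) q0.val) :=
    ((φ.symm.subgroupMap H'').symm.trans φ1).trans φ2
  have hHidx : H.index = 2 := by
    rw [Subgroup.index_map_equiv]; exact hidx
  have hHcard : Nat.card ↥H = 443520 := by
    rw [Nat.card_congr Φ.toEquiv, hcard]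
  refine ⟨?_, ?_, H, hHidx, ⟨Φ.isSimpleGroup, hHcard⟩⟩
  · rw [← Subgroup.index_mul_card H, hHidx, hHcard]
  · exact multiplyPretransitive_congr e he 3
      (multiplyPretransitive_der (der Cfsg.octads p0) q0 3
        (multiplyPretransitive_der Cfsg.octads p0 4 htrans))

end Cfsg.Agent.S0414
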