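import Mathlib
import Cfsg.Statements.S0428
import Cfsg.Agent.Lib.Helper3.Steiner22

set_option autoImplicit false
open Cfsg

namespace Cfsg.Agent.S0428

open Finset Cfsg.Agent.Helper27 Cfsg.Agent.Helper3.Steiner22

section adj

variable {α : Type*} (B : Set (Finset α))

theorem adj_none_none : ¬ (Cfsg.pointBlockGraph B).Adj none none := by
  intro h
  exact h.ne rfl

theorem adj_none_inl (a : α) : (Cfsg.pointBlockGraph B).Adj none (some (Sum.inl a)) := by
  unfold Cfsg.pointBlockGraph
  rw [SimpleGraph.fromRel_adj]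
  exact ⟨by simp, Or.inl trivial⟩

theorem adj_none_inr (b : B) : ¬ (Cfsg.pointBlockGraph B).Adj none (some (Sum.inr b)) := by
  unfold Cfsg.pointBlockGraph
  rw [SimpleGraph.fromRel_adj]
  rintro ⟨_, h | h⟩ <;> exact h

theorem adj_inl_inl (a a' : α) :
    ¬ (Cfsg.pointBlockGraph B).Adj (some (Sum.inl a)) (some (Sum.inl a')) := by
  unfold Cfsg.pointBlockGraph
  rw [SimpleGraph.fromRel_adj]
  rintro ⟨_, h | h⟩ <;> exact h

theorem adj_inl_inr (a : α) (b : B) :
    (Cfsg.pointBlockGraph B).Adj (some (Sum.inl a)) (some (Sum.inr b)) ↔ a ∈ (b : Finset α) := by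
  unfold Cfsg.pointBlockGraph
  rw [SimpleGraph.fromRel_adj]
  constructor
  · rintro ⟨_, h | h⟩
    · exact h
    · exact absurd h (by simp [Cfsg.pointBlockRel])
  · intro h
    exact ⟨by simp, Or.inl h⟩

theorem adj_inr_inr (b c : B) :
    (Cfsg.pointBlockGraph B).Adj (some (Sum.inr b)) (some (Sum.inr c)) ↔
      b ≠ c ∧ Disjoint (b : Finset α) (c : Finset α) := by
  unfold Cfsg.pointBlockGraph
  rw [SimpleGraph.fromRel_adj]
  constructor
  · rintro ⟨hne, h | h⟩
    · exact ⟨fun h' => hne (by rw [h']), h⟩
    · exact ⟨fun h' => hne (by rw [h']), h.symm⟩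
  · rintro ⟨hne, h⟩
    refine ⟨?_, Or.inl h⟩
    intro h'
    apply hne
    simpa using h'

end adj


section count

variable {α β : Type*} [Fintype α] [DecidableEq α] [DecidableEq β]

theorem ncard_set_subtype (Bf : Finset β) (S : Set ↥((Bf : Set β))) (P : β → Prop)
    [DecidablePred P]
    (h : ∀ c (hc : c ∈ (Bf : Set β)), (⟨c, hc⟩ : ↥((Bf : Set β))) ∈ S ↔ P c) :
    S.ncard = (Bf.filter P).card := by
  rw [← Set.ncard_image_of_injective S Subtype.val_injective]
  have : Subtype.val '' S = ((Bf.filter P : Finset β) : Set β) := by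
    ext c
    simp only [Set.mem_image, Subtype.exists, exists_and_right, exists_eq_right, coe_filter,
      Set.mem_setOf_eq]
    constructor
    · rintro ⟨hc, hS⟩
      exact ⟨hc, (h c hc).mp hS⟩
    · rintro ⟨hc, hP⟩
      exact ⟨hc, (h c hc).mpr hP⟩
  rw [this, Set.ncard_coe_finset]

theorem card_set_option_sum (Bf : Finset β) (S : Set (Option (α ⊕ ↥((Bf : Set β)))))
    [Fintype ↥S] (n0 : ℕ) (P : α → Prop) [DecidablePred P] (Q : β → Prop) [DecidablePred Q]
    (h0 : (none ∈ S ∧ n0 = 1) ∨ (none ∉ S ∧ n0 = 0))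
    (h1 : ∀ a, some (Sum.inl a) ∈ S ↔ P a)
    (h2 : ∀ c (hc : c ∈ (Bf : Set β)), some (Sum.inr ⟨c, hc⟩) ∈ S ↔ Q c) :
    Fintype.card ↥S = n0 + (univ.filter P).card + (Bf.filter Q).card := by
  rw [← Nat.card_eq_fintype_card, Nat.card_coe_set_eq]
  set S₁ : Set (Option (α ⊕ ↥((Bf : Set β)))) := {x | x ∈ S ∧ x = none} with hS₁
  set S₂ : Set (Option (α ⊕ ↥((Bf : Set β)))) :=
    (fun a => some (Sum.inl a)) '' {a : α | P a} with hS₂
  set S₃ : Set (Option (α ⊕ ↥((Bf : Set β)))) :=
    (fun b => some (Sum.inr b)) '' {b : ↥((Bf : Set β)) | Q b.1} with hS₃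
  have hS : S = S₁ ∪ S₂ ∪ S₃ := by
    ext x
    simp only [Set.mem_union, hS₁, hS₂, hS₃, Set.mem_setOf_eq, Set.mem_image]
    rcases x with _ | a | b
    · simp
    · simp [h1 a]
    · have := h2 b.1 b.2
      simp only [Subtype.coe_eta] at this
      simp [this]
  have hfin : ∀ T : Set (Option (α ⊕ ↥((Bf : Set β)))), T.Finite := fun T => Set.toFinite T
  have hd12 : Disjoint S₁ S₂ := by
    rw [Set.disjoint_left]
    rintro x ⟨_, rfl⟩ ⟨a, _, h⟩
    simp at h
  have hd3 : Disjoint (S₁ ∪ S₂) S₃ := by
    rw [Set.disjoint_left]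
    rintro x (⟨_, rfl⟩ | ⟨a, _, rfl⟩) ⟨b, _, h⟩
    · simp at h
    · simp at h
  rw [hS, Set.ncard_union_eq hd3 (hfin _) (hfin _), Set.ncard_union_eq hd12 (hfin _) (hfin _)]
  have e1 : S₁.ncard = n0 := by
    rcases h0 with ⟨hn, rfl⟩ | ⟨hn, rfl⟩
    · have : S₁ = {none} := by
        ext x
        simp only [hS₁, Set.mem_setOf_eq, Set.mem_singleton_iff]
        constructor
        · exact fun h => h.2
        · rintro rfl
          exact ⟨hn, rfl⟩
      rw [this, Set.ncard_singleton]
    · have : S₁ = ∅ := by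
        ext x
        simp only [hS₁, Set.mem_setOf_eq, Set.mem_empty_iff_false, iff_false]
        rintro ⟨h, rfl⟩
        exact hn h
      rw [this, Set.ncard_empty]
  have e2 : S₂.ncard = (univ.filter P).card := by
    rw [hS₂, Set.ncard_image_of_injective]
    · have : {a : α | P a} = ((univ.filter P : Finset α) : Set α) := by
        ext a; simp
      rw [this, Set.ncard_coe_finset]
    · intro a a' h
      simpa using h
  have e3 : S₃.ncard = (Bf.filter Q).card := by
    rw [hS₃, Set.ncard_image_of_injective]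
    · exact ncard_set_subtype Bf _ Q (fun c hc => Iff.rfl)
    · intro b b' h
      simpa using h
  rw [e1, e2, e3]

end count

/-- The point-block graph of an S(3, 6, 22) is strongly regular with parameters (100, 22, 0, 6). -/
theorem result {α : Type*} [Fintype α] (hα : Fintype.card α = 22) {B : Set (Finset α)} (hB : Cfsg.IsSteinerSystem 3 6 B) [Fintype B] [DecidableRel (Cfsg.pointBlockGraph B).Adj] : (Cfsg.pointBlockGraph B).IsSRGWith 100 22 0 6 := by
  classical
  obtain ⟨Bf, rfl⟩ := exists_finset_blocks B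
  have hcard6 : ∀ c ∈ Bf, c.card = 6 := fun c hc => hB.1 c (by exact_mod_cast hc)
  -- adjacency facts
  have Ann : ¬ (Cfsg.pointBlockGraph (Bf : Set (Finset α))).Adj none none := adj_none_none _
  have Anp : ∀ a : α, (Cfsg.pointBlockGraph (Bf : Set (Finset α))).Adj none (some (Sum.inl a)) := adj_none_inl _
  have Apn : ∀ a : α, (Cfsg.pointBlockGraph (Bf : Set (Finset α))).Adj (some (Sum.inl a)) none := fun a => (adj_none_inl _ a).symm
  have Anb : ∀ b, ¬ (Cfsg.pointBlockGraph (Bf : Set (Finset α))).Adj none (some (Sum.inr b)) := adj_none_inr _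
  have Abn : ∀ b, ¬ (Cfsg.pointBlockGraph (Bf : Set (Finset α))).Adj (some (Sum.inr b)) none := fun b h => adj_none_inr _ b h.symm
  have App : ∀ a a' : α, ¬ (Cfsg.pointBlockGraph (Bf : Set (Finset α))).Adj (some (Sum.inl a)) (some (Sum.inl a')) := adj_inl_inl _
  have Apb : ∀ (a : α) b, (Cfsg.pointBlockGraph (Bf : Set (Finset α))).Adj (some (Sum.inl a)) (some (Sum.inr b)) ↔ a ∈ (b : Finset α) :=
    adj_inl_inr _
  have Abp : ∀ b (a : α), (Cfsg.pointBlockGraph (Bf : Set (Finset α))).Adj (some (Sum.inr b)) (some (Sum.inl a)) ↔ a ∈ (b : Finset α) :=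
    fun b a => by rw [SimpleGraph.adj_comm]; exact adj_inl_inr _ a b
  have Abb : ∀ b c : ↥((Bf : Set (Finset α))), (Cfsg.pointBlockGraph (Bf : Set (Finset α))).Adj (some (Sum.inr b)) (some (Sum.inr c)) ↔
      ((c : Finset α) ∩ (b : Finset α)).card = 0 := by
    intro b c
    rw [adj_inr_inr, card_eq_zero, ← disjoint_iff_inter_eq_empty]
    constructor
    · rintro ⟨_, h⟩
      exact h.symm
    · intro h
      refine ⟨?_, h.symm⟩
      intro hbc
      rw [hbc, disjoint_self_iff_empty] at h
      have := hcard6 c.1 (by exact_mod_cast c.2)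
      rw [h] at this
      simp at this
  have hfiltmem : ∀ b : Finset α, (univ.filter (fun a => a ∈ b)).card = b.card := by
    intro b
    congr 1
    ext a
    simp
  refine ⟨?_, ?_, ?_, ?_⟩
  · rw [Fintype.card_option, Fintype.card_sum, hα,
      Fintype.card_of_subtype Bf (fun x => Finset.mem_coe.symm), card_blocks hα Bf hB]
  · intro v
    rw [← SimpleGraph.card_neighborSet_eq_degree]
    rcases v with _ | a | b
    · rw [card_set_option_sum Bf _ 0 (fun _ => True) (fun _ => False)
        (Or.inr ⟨by rw [SimpleGraph.mem_neighborSet]; exact Ann, rfl⟩)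
        (fun a => by rw [SimpleGraph.mem_neighborSet]; exact iff_of_true (Anp a) trivial)
        (fun c hc => by rw [SimpleGraph.mem_neighborSet]; exact iff_of_false (Anb _) id)]
      simp [hα]
    · rw [card_set_option_sum Bf _ 1 (fun _ => False) (fun c => a ∈ c)
        (Or.inl ⟨by rw [SimpleGraph.mem_neighborSet]; exact Apn a, rfl⟩)
        (fun a' => by rw [SimpleGraph.mem_neighborSet]; exact iff_of_false (App a a') id)
        (fun c hc => by rw [SimpleGraph.mem_neighborSet, Apb])]
      rw [card_through_one hα Bf hB a]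
      simp
    · rw [card_set_option_sum Bf _ 0 (fun a => a ∈ (b : Finset α))
        (fun c => (c ∩ (b : Finset α)).card = 0)
        (Or.inr ⟨by rw [SimpleGraph.mem_neighborSet]; exact Abn b, rfl⟩)
        (fun a => by rw [SimpleGraph.mem_neighborSet, Abp])
        (fun c hc => by rw [SimpleGraph.mem_neighborSet, Abb])]
      rw [hfiltmem, hcard6 b.1 (by exact_mod_cast b.2),
        (inter_numbers hα Bf hB b.1 (by exact_mod_cast b.2)).1]
  · intro v w hvw
    rcases v with _ | a | b <;> rcases w with _ | a' | c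
    · exact absurd hvw Ann
    · rw [card_set_option_sum Bf _ 0 (fun _ => False) (fun _ => False)
        (Or.inr ⟨by rw [SimpleGraph.mem_commonNeighbors]; exact fun h => Ann h.1, rfl⟩)
        (fun x => by rw [SimpleGraph.mem_commonNeighbors]; exact iff_of_false (fun h => App _ _ h.2) id)
        (fun d hd => by rw [SimpleGraph.mem_commonNeighbors]; exact iff_of_false (fun h => Anb _ h.1) id)]
      simp
    · exact absurd hvw (Anb c)
    · rw [card_set_option_sum Bf _ 0 (fun _ => False) (fun _ => False)
        (Or.inr ⟨by rw [SimpleGraph.mem_commonNeighbors]; exact fun h => Ann h.2, rfl⟩)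
        (fun x => by rw [SimpleGraph.mem_commonNeighbors]; exact iff_of_false (fun h => App _ _ h.1) id)
        (fun d hd => by rw [SimpleGraph.mem_commonNeighbors]; exact iff_of_false (fun h => Anb _ h.2) id)]
      simp
    · exact absurd hvw (App a a')
    · have hac : a ∈ (c : Finset α) := (Apb a c).mp hvw
      rw [card_set_option_sum Bf _ 0 (fun _ => False)
        (fun d => (d ∩ (c : Finset α)).card = 0 ∧ a ∈ d)
        (Or.inr ⟨by rw [SimpleGraph.mem_commonNeighbors]; exact fun h => Abn _ h.2, rfl⟩)
        (fun x => by rw [SimpleGraph.mem_commonNeighbors]; exact iff_of_false (fun h => App _ _ h.1) id)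
        (fun d hd => by rw [SimpleGraph.mem_commonNeighbors, Apb, Abb]; exact and_comm)]
      have h0 := card_disjoint_through hα Bf hB c.1 (by exact_mod_cast c.2) a
      rw [if_pos hac, filter_filter] at h0
      rw [h0]
      simp
    · exact absurd hvw (Abn b)
    · have hac : a' ∈ (b : Finset α) := (Abp b a').mp hvw
      rw [card_set_option_sum Bf _ 0 (fun _ => False)
        (fun d => (d ∩ (b : Finset α)).card = 0 ∧ a' ∈ d)
        (Or.inr ⟨by rw [SimpleGraph.mem_commonNeighbors]; exact fun h => Abn _ h.1, rfl⟩)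
        (fun x => by rw [SimpleGraph.mem_commonNeighbors]; exact iff_of_false (fun h => App _ _ h.2) id)
        (fun d hd => by rw [SimpleGraph.mem_commonNeighbors, Apb, Abb])]
      have h0 := card_disjoint_through hα Bf hB b.1 (by exact_mod_cast b.2) a'
      rw [if_pos hac, filter_filter] at h0
      rw [h0]
      simp
    · have hbc := (Abb b c).mp hvw
      rw [card_set_option_sum Bf _ 0 (fun x => x ∈ (b : Finset α) ∧ x ∈ (c : Finset α))
        (fun d => (d ∩ (b : Finset α)).card = 0 ∧ (d ∩ (c : Finset α)).card = 0)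
        (Or.inr ⟨by rw [SimpleGraph.mem_commonNeighbors]; exact fun h => Abn _ h.1, rfl⟩)
        (fun x => by rw [SimpleGraph.mem_commonNeighbors, Abp, Abp])
        (fun d hd => by rw [SimpleGraph.mem_commonNeighbors, Abb, Abb])]
      have h1 : (univ.filter (fun x => x ∈ (b : Finset α) ∧ x ∈ (c : Finset α))).card = 0 := by
        rw [card_eq_zero, filter_eq_empty_iff]
        rintro x _ ⟨hxb, hxc⟩
        rw [card_eq_zero] at hbc
        have : x ∈ (c : Finset α) ∩ (b : Finset α) := mem_inter.mpr ⟨hxc, hxb⟩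
        rw [hbc] at this
        exact notMem_empty x this
      have h0 := card_disjoint_both_of_disjoint hα Bf hB b.1 c.1 (by exact_mod_cast b.2)
        (by exact_mod_cast c.2) hbc
      have h2 : (Bf.filter (fun d => (d ∩ (b : Finset α)).card = 0 ∧
          (d ∩ (c : Finset α)).card = 0)).card = 0 := by
        refine Eq.trans ?_ h0
        congr 1
        ext d
        simp only [mem_filter, mem_erase]
        constructor
        · rintro ⟨hd, h1, h2⟩
          refine ⟨⟨?_, hd, h1⟩, h2⟩
          intro hdw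
          rw [hdw, inter_self, hcard6 _ (by exact_mod_cast c.2)] at h2
          omega
        · rintro ⟨⟨_, hd, h1⟩, h2⟩
          exact ⟨hd, h1, h2⟩
      rw [h1, h2]
  · intro v w hne hnadj
    rcases v with _ | a | b <;> rcases w with _ | a' | c
    · exact absurd rfl hne
    · exact absurd (Anp a') hnadj
    · rw [card_set_option_sum Bf _ 0 (fun x => x ∈ (c : Finset α)) (fun _ => False)
        (Or.inr ⟨by rw [SimpleGraph.mem_commonNeighbors]; exact fun h => Ann h.1, rfl⟩)
        (fun x => by rw [SimpleGraph.mem_commonNeighbors, Abp]; exact and_iff_right (Anp x))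
        (fun d hd => by rw [SimpleGraph.mem_commonNeighbors]; exact iff_of_false (fun h => Anb _ h.1) id)]
      rw [hfiltmem, hcard6 c.1 (by exact_mod_cast c.2)]
      simp
    · exact absurd (Apn a) hnadj
    · have haa : a ≠ a' := fun h => hne (by rw [h])
      rw [card_set_option_sum Bf _ 1 (fun _ => False) (fun d => a ∈ d ∧ a' ∈ d)
        (Or.inl ⟨by rw [SimpleGraph.mem_commonNeighbors]; exact ⟨Apn a, Apn a'⟩, rfl⟩)
        (fun x => by rw [SimpleGraph.mem_commonNeighbors]; exact iff_of_false (fun h => App _ _ h.1) id)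
        (fun d hd => by rw [SimpleGraph.mem_commonNeighbors, Apb, Apb])]
      rw [card_through_two hα Bf hB a a' haa]
      simp
    · have hac : a ∉ (c : Finset α) := fun h => hnadj ((Apb a c).mpr h)
      rw [card_set_option_sum Bf _ 0 (fun _ => False)
        (fun d => (d ∩ (c : Finset α)).card = 0 ∧ a ∈ d)
        (Or.inr ⟨by rw [SimpleGraph.mem_commonNeighbors]; exact fun h => Abn _ h.2, rfl⟩)
        (fun x => by rw [SimpleGraph.mem_commonNeighbors]; exact iff_of_false (fun h => App _ _ h.1) id)
        (fun d hd => by rw [SimpleGraph.mem_commonNeighbors, Apb, Abb]; exact and_comm)]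
      have h0 := card_disjoint_through hα Bf hB c.1 (by exact_mod_cast c.2) a
      rw [if_neg hac, filter_filter] at h0
      rw [h0]
      simp
    · rw [card_set_option_sum Bf _ 0 (fun x => x ∈ (b : Finset α)) (fun _ => False)
        (Or.inr ⟨by rw [SimpleGraph.mem_commonNeighbors]; exact fun h => Ann h.2, rfl⟩)
        (fun x => by rw [SimpleGraph.mem_commonNeighbors, Abp]; exact and_iff_left (Anp x))
        (fun d hd => by rw [SimpleGraph.mem_commonNeighbors]; exact iff_of_false (fun h => Anb _ h.2) id)]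
      rw [hfiltmem, hcard6 b.1 (by exact_mod_cast b.2)]
      simp
    · have hac : a' ∉ (b : Finset α) := fun h => hnadj ((Abp b a').mpr h)
      rw [card_set_option_sum Bf _ 0 (fun _ => False)
        (fun d => (d ∩ (b : Finset α)).card = 0 ∧ a' ∈ d)
        (Or.inr ⟨by rw [SimpleGraph.mem_commonNeighbors]; exact fun h => Abn _ h.1, rfl⟩)
        (fun x => by rw [SimpleGraph.mem_commonNeighbors]; exact iff_of_false (fun h => App _ _ h.2) id)
        (fun d hd => by rw [SimpleGraph.mem_commonNeighbors, Apb, Abb])]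
      have h0 := card_disjoint_through hα Bf hB b.1 (by exact_mod_cast b.2) a'
      rw [if_neg hac, filter_filter] at h0
      rw [h0]
      simp
    · have hne' : (c : Finset α) ≠ (b : Finset α) := by
        intro h
        apply hne
        have : b = c := Subtype.ext h.symm
        rw [this]
      have h02 := inter_zero_or_two hα Bf hB b.1 c.1 (by exact_mod_cast b.2)
        (by exact_mod_cast c.2) hne'
      have h2 : ((c : Finset α) ∩ (b : Finset α)).card = 2 := by
        rcases h02 with h | h
        · exact absurd ((Abb b c).mpr h) hnadj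
        · exact h
      rw [card_set_option_sum Bf _ 0 (fun x => x ∈ (b : Finset α) ∧ x ∈ (c : Finset α))
        (fun d => (d ∩ (b : Finset α)).card = 0 ∧ (d ∩ (c : Finset α)).card = 0)
        (Or.inr ⟨by rw [SimpleGraph.mem_commonNeighbors]; exact fun h => Abn _ h.1, rfl⟩)
        (fun x => by rw [SimpleGraph.mem_commonNeighbors, Abp, Abp])
        (fun d hd => by rw [SimpleGraph.mem_commonNeighbors, Abb, Abb])]
      have h1 : (univ.filter (fun x => x ∈ (b : Finset α) ∧ x ∈ (c : Finset α))).card = 2 := by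
        rw [← h2]
        congr 1
        ext x
        simp only [mem_filter, mem_univ, true_and, mem_inter]
        exact and_comm
      have h4 := card_disjoint_both_of_meet hα Bf hB b.1 c.1 (by exact_mod_cast b.2)
        (by exact_mod_cast c.2) h2
      rw [filter_filter] at h4
      rw [h1, h4]

end Cfsg.Agent.S0428

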