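import Mathlib
import Cfsg.Statements.S0430
import Cfsg.Agent.Lib.Helper27.HSGraph
import Cfsg.Agent.S0410

set_option autoImplicit false
open Cfsg

namespace Cfsg.Agent.S0430

open Cfsg.Agent.Helper27.HSGraph

/-- Uniqueness of the strongly regular graph with parameters (100, 22, 0, 6). -/
theorem result {V W : Type*} [Fintype V] [Fintype W] {G : SimpleGraph V} {H : SimpleGraph W} [DecidableRel G.Adj] [DecidableRel H.Adj] (hG : G.IsSRGWith 100 22 0 6) (hH : H.IsSRGWith 100 22 0 6) : Nonempty (G ≃g H) := by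
  classical
  obtain ⟨v₀⟩ : Nonempty V := by
    rw [← Fintype.card_pos_iff, hG.card]; norm_num
  obtain ⟨w₀⟩ : Nonempty W := by
    rw [← Fintype.card_pos_iff, hH.card]; norm_num
  obtain ⟨e, he⟩ := Cfsg.Agent.S0410.result (card_Pt hG v₀) (card_Pt hH w₀)
    (steiner_blocks hG v₀) (steiner_blocks hH w₀)
  exact ⟨(isoPB hG v₀).trans ((pbgCongr e he).trans (isoPB hH w₀).symm)⟩

end Cfsg.Agent.S0430
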