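import Mathlib
import Cfsg.Statements.S4255
import Cfsg.Agent.Lib.Helper21.ClassSize

set_option autoImplicit false
open Cfsg

namespace Cfsg.Agent.S4255

open Subgroup Cfsg.Agent.Helper21.ClassSize
open scoped Pointwise

variable {G : Type*} [Group G]

def tA (S : Set ℕ) (x : G) : Prop := ∃ p ∈ S, p.Prime ∧ p ∣ idx x
def tB (S : Set ℕ) (x : G) : Prop := ∃ q ∉ S, q.Prime ∧ q ∣ idx x

theorem cop {S : Set ℕ}
    (hd : ∀ p q : ℕ, p.Prime → q.Prime → p ∈ S → q ∉ S → ∀ g : G, ¬ p * q ∣ idx g)
    {x y : G} (hx : tA S x) (hy : tB S y) : Nat.Coprime (idx x) (idx y) := by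
  apply Nat.coprime_of_dvd
  intro r hr hrx hry
  obtain ⟨p, hpS, hp, hpx⟩ := hx
  obtain ⟨q, hqS, hq, hqy⟩ := hy
  by_cases hrS : r ∈ S
  · have hne : r ≠ q := fun h => hqS (h ▸ hrS)
    exact hd r q hr hq hrS hqS y
      (Nat.Coprime.mul_dvd_of_dvd_of_dvd ((Nat.coprime_primes hr hq).2 hne) hry hqy)
  · have hne : p ≠ r := fun h => hrS (h ▸ hpS)
    exact hd p r hp hr hpS hrS x
      (Nat.Coprime.mul_dvd_of_dvd_of_dvd ((Nat.coprime_primes hp hr).2 hne) hpx hrx)

theorem tA_or_tB (S : Set ℕ) {x : G} (h : idx x ≠ 1) : tA S x ∨ tB S x := by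
  obtain ⟨r, hr, hrx⟩ := Nat.exists_prime_and_dvd h
  by_cases hrS : r ∈ S
  · exact Or.inl ⟨r, hrS, hr, hrx⟩
  · exact Or.inr ⟨r, hrS, hr, hrx⟩

theorem tB_conj {S : Set ℕ} {x : G} (h : tB S x) (a : G) : tB S (a * x * a⁻¹) := by
  obtain ⟨q, hqS, hq, hqx⟩ := h
  exact ⟨q, hqS, hq, by rwa [idx_conj]⟩

theorem conj_mem_cls_iff (c a x : G) : a * x * a⁻¹ ∈ cls c ↔ x ∈ cls c := by
  constructor
  · rintro ⟨b, hb⟩
    refine ⟨a⁻¹ * b, ?_⟩
    have : a⁻¹ * b * c * (a⁻¹ * b)⁻¹ = a⁻¹ * (b * c * b⁻¹) * a := by group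
    rw [this, hb]; group
  · rintro ⟨b, rfl⟩
    exact ⟨a * b, by group⟩

/-- the right stabilizer of a class of maximal size -/
theorem exists_M1 [Finite G] (c : G) (hmax : ∀ g : G, idx g ≤ idx c) :
    ∃ M : Subgroup G, M.Normal ∧ Nat.card M ∣ idx c ∧
      ∀ d : G, Nat.Coprime (idx c) (idx d) → ∀ b : G, b * d * b⁻¹ * d⁻¹ ∈ M := by
  classical
  let M : Subgroup G :=
    { carrier := {m | ∀ x, x ∈ cls c ↔ x * m ∈ cls c}
      mul_mem' := by
        intro a b ha hb x
        rw [ha x, hb (x * a), mul_assoc]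
      one_mem' := by intro x; simp
      inv_mem' := by
        intro a ha x
        have := ha (x * a⁻¹)
        simpa using this.symm }
  have hMmem : ∀ m, m ∈ M ↔ ∀ x, x ∈ cls c ↔ x * m ∈ cls c := fun m => Iff.rfl
  have hfin : (cls c).Finite := Set.toFinite _
  -- membership from one direction
  have hmemof : ∀ μ : G, (∀ x ∈ cls c, x * μ ∈ cls c) → μ ∈ M := by
    intro μ h
    rw [hMmem]
    intro x
    refine ⟨h x, fun hx => ?_⟩
    have : Finite (cls c) := hfin
    let f : cls c → cls c := fun y => ⟨y.1 * μ, h y.1 y.2⟩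
    have hinj : Function.Injective f := by
      intro y z hyz
      have := congrArg Subtype.val hyz
      exact Subtype.ext (mul_right_cancel this)
    obtain ⟨y, hy⟩ := Finite.surjective_of_injective hinj ⟨x * μ, hx⟩
    have := congrArg Subtype.val hy
    have hxy : y.1 = x := mul_right_cancel this
    rw [← hxy]; exact y.2
  refine ⟨M, ⟨?_⟩, ?_, ?_⟩
  · intro n hn g
    rw [hMmem] at hn ⊢
    intro x
    rw [← conj_mem_cls_iff c g⁻¹ x, hn, ← conj_mem_cls_iff c g]
    have : g * (g⁻¹ * x * g⁻¹⁻¹ * n) * g⁻¹ = x * (g * n * g⁻¹) := by group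
    rw [this]
  · have h1 := Subgroup.card_mul_eq_card_subgroup_mul_card_quotient M (cls c)
    have h2 : (cls c * (M : Set G)) = cls c := by
      ext x
      constructor
      · rintro ⟨y, hy, m, hm, rfl⟩
        exact ((hMmem m).1 hm y).1 hy
      · intro hx
        exact ⟨x, hx, 1, M.one_mem, by simp⟩
    rw [h2, Nat.card_coe_set_eq, ncard_cls] at h1
    exact ⟨_, h1⟩
  · intro d hcd b
    apply hmemof
    intro x hx
    have himg : (fun y => y * d) '' cls c = cls (c * d) := by
      apply Set.eq_of_subset_of_ncard_le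
      · rintro _ ⟨y, hy, rfl⟩
        exact mul_mem_cls_of_coprime hcd hy (mem_cls_self d)
      · rw [Set.ncard_image_of_injective _ (mul_left_injective d), ncard_cls, ncard_cls]
        exact hmax _
      · exact Set.toFinite _
    have h1 : x * (b * d * b⁻¹) ∈ cls (c * d) :=
      mul_mem_cls_of_coprime hcd hx (conj_mem_cls d b)
    rw [← himg] at h1
    obtain ⟨y, hy, hyx⟩ := h1
    have : x * (b * d * b⁻¹ * d⁻¹) = y := by
      have : y = x * (b * d * b⁻¹) * d⁻¹ := by rw [← hyx]; group
      rw [this]; group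
    rw [this]; exact hy

theorem M_le_centralizer [Finite G] (M : Subgroup G) [M.Normal] {m : ℕ} (hM : Nat.card M ∣ m)
    {d : G} (hd : Nat.Coprime m (idx d)) : M ≤ centralizer ({d} : Set G) := by
  rw [← relIndex_eq_one]
  have h1 : (centralizer ({d} : Set G)).relIndex M ∣ idx d :=
    relIndex_dvd_index_of_normal_right _ _
  have h2 : (centralizer ({d} : Set G)).relIndex M ∣ m :=
    (relIndex_dvd_card _ _).trans hM
  exact Nat.Coprime.eq_one_of_dvd (Nat.Coprime.coprime_dvd_left h2 hd) h1

theorem comm_of_pow_central [Finite G] (M : Subgroup G) (m : ℕ)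
    (d : G) (hcop : Nat.Coprime m (idx d))
    (hS2 : ∀ b : G, ∃ μ ∈ M, b * d * b⁻¹ = μ * d) :
    ∀ n : ℕ, n ≠ 0 → ∀ x : G, x ^ n = 1 → (∀ μ ∈ M, μ * x = x * μ) → x ^ m ∈ center G →
      x * d = d * x := by
  intro n
  induction n using Nat.recOnPosPrimePosCoprime with
  | prime_pow r k hr hk =>
    intro _ x hx hxM hxm
    haveI : Fact r.Prime := ⟨hr⟩
    by_cases hrm : r ∣ m
    · have hP : IsPGroup r (zpowers x) := by
        apply IsPGroup.of_card_dvd_pow (n := k)
        rw [Nat.card_zpowers]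
        exact orderOf_dvd_of_pow_eq_one hx
      have hrd : ¬ r ∣ idx d := by
        intro h
        have := Nat.dvd_gcd hrm h
        rw [hcop] at this
        exact hr.one_lt.ne' (Nat.dvd_one.mp this)
      obtain ⟨g, hg⟩ := exists_conj_mem_of_not_dvd_index (zpowers x) hP (centralizer ({d} : Set G)) hrd
      have h1 := hg x (mem_zpowers x)
      rw [mem_centralizer_singleton] at h1
      obtain ⟨μ, hμ, hb⟩ := hS2 g
      have h2 : (g * d * g⁻¹) * x = x * (g * d * g⁻¹) := by
        have e1 : (g * d * g⁻¹) * x = g * (d * (g⁻¹ * x * g)) * g⁻¹ := by group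
        have e2 : x * (g * d * g⁻¹) = g * ((g⁻¹ * x * g) * d) * g⁻¹ := by group
        rw [e1, e2, h1]
      rw [hb] at h2
      have h3 := hxM μ hμ
      have h4 : μ * (d * x) = μ * (x * d) := by
        calc μ * (d * x) = μ * d * x := by group
          _ = x * (μ * d) := h2
          _ = (x * μ) * d := by group
          _ = (μ * x) * d := by rw [h3]
          _ = μ * (x * d) := by group
      exact (mul_left_cancel h4).symm
    · have hc : Nat.Coprime m (orderOf x) := by
        have h1 : orderOf x ∣ r ^ k := orderOf_dvd_of_pow_eq_one hx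
        have h2 : Nat.Coprime m (r ^ k) :=
          Nat.Coprime.pow_right _ ((Nat.Prime.coprime_iff_not_dvd hr).2 hrm).symm
        exact Nat.Coprime.coprime_dvd_right h1 h2
      obtain ⟨u, hu⟩ := exists_pow_eq_self_of_coprime hc
      have hxc : x ∈ center G := by
        rw [← hu]; exact pow_mem hxm u
      exact ((Subgroup.mem_center_iff.mp hxc) d).symm
  | zero => intro h; exact absurd rfl h
  | one =>
    intro _ x hx _ _
    rw [pow_one] at hx
    rw [hx]; simp
  | coprime a b ha hb hab iha ihb =>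
    intro _ x hx hxM hxm
    have ha0 : a ≠ 0 := by omega
    have hb0 : b ≠ 0 := by omega
    have h1 : (x ^ b) * d = d * (x ^ b) := by
      apply iha ha0 (x ^ b)
      · rw [← pow_mul, mul_comm, hx]
      · intro μ hμ
        exact ((Commute.pow_right (show Commute μ x from hxM μ hμ) b)).eq
      · rw [← pow_mul, mul_comm, pow_mul]; exact pow_mem hxm b
    have h2 : (x ^ a) * d = d * (x ^ a) := by
      apply ihb hb0 (x ^ a)
      · rw [← pow_mul, hx]
      · intro μ hμ
        exact ((Commute.pow_right (show Commute μ x from hxM μ hμ) a)).eq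
      · rw [← pow_mul, mul_comm, pow_mul]; exact pow_mem hxm a
    have hbez : (a : ℤ) * Nat.gcdA a b + (b : ℤ) * Nat.gcdB a b = 1 := by
      have := Nat.gcd_eq_gcd_ab a b
      rw [hab] at this
      simpa using this.symm
    have hx1 : x = (x ^ a) ^ (Nat.gcdA a b) * (x ^ b) ^ (Nat.gcdB a b) := by
      rw [← zpow_natCast x a, ← zpow_natCast x b, ← zpow_mul, ← zpow_mul, ← zpow_add, hbez, zpow_one]
    have hc : Commute x d := by
      rw [hx1]
      exact Commute.mul_left (Commute.zpow_left (show Commute (x ^ a) d from h2) _)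
        (Commute.zpow_left (show Commute (x ^ b) d from h1) _)
    exact hc.eq

theorem pow_card_of_mem [Finite G] (K : Subgroup G) {x : G} (hx : x ∈ K) :
    x ^ Nat.card K = 1 := by
  have h1 : (⟨x, hx⟩ : K) ^ (Nat.card K) = 1 := pow_card_eq_one'
  have := congrArg Subtype.val h1
  rwa [SubgroupClass.coe_pow, OneMemClass.coe_one] at this

theorem core [Finite G] (S : Set ℕ)
    (hd : ∀ p q : ℕ, p.Prime → q.Prime → p ∈ S → q ∉ S → ∀ g : G, ¬ p * q ∣ idx g)
    (c : G) (hmax : ∀ g : G, idx g ≤ idx c) (hcA : tA S c)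
    (d₀ : G) (t : ℕ) (ht : t.Prime) (htS : t ∉ S) (htd : t ∣ idx d₀) :
    ∃ H : Subgroup (G ⧸ center G), Cfsg.IsFrobeniusComplement H ∧ IsMulCommutative H ∧
      ∀ x ∈ Cfsg.frobeniusKernel H, ∀ y ∈ Cfsg.frobeniusKernel H, x * y = y * x := by
  classical
  haveI : Fact t.Prime := ⟨ht⟩
  obtain ⟨M, hMn, hMcard, hM⟩ := exists_M1 c hmax
  haveI := hMn
  set m := idx c with hm
  have hcopB : ∀ d, tB S d → Nat.Coprime m (idx d) := fun d hd' => cop hd hcA hd'
  have hS2 : ∀ d, tB S d → ∀ b : G, ∃ μ ∈ M, b * d * b⁻¹ = μ * d :=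
    fun d hd' b => ⟨_, hM d (hcopB d hd') b, by group⟩
  have hS3 : ∀ d, tB S d → ∀ μ ∈ M, μ * d = d * μ := by
    intro d hd' μ hμ
    have := M_le_centralizer M hMcard (hcopB d hd') hμ
    rw [mem_centralizer_singleton] at this
    exact this.symm
  have hMexp : ∀ μ ∈ M, μ ^ m = 1 := by
    intro μ hμ
    obtain ⟨k, hk⟩ := hMcard
    have h2 : μ ^ (Nat.card M) = 1 := pow_card_of_mem M hμ
    rw [hk, pow_mul, h2, one_pow]
  have hS4 : ∀ d, tB S d → d ^ m ∈ center G := by
    intro d hd'
    rw [Subgroup.mem_center_iff]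
    intro b
    obtain ⟨μ, hμ, hb⟩ := hS2 d hd' b
    have hcomm : Commute μ d := hS3 d hd' μ hμ
    have h1 : b * d ^ m * b⁻¹ = d ^ m := by
      have : b * d ^ m * b⁻¹ = (b * d * b⁻¹) ^ m := by rw [conj_pow]
      rw [this, hb, hcomm.mul_pow, hMexp μ hμ, one_mul]
    calc b * d ^ m = (b * d ^ m * b⁻¹) * b := by group
      _ = d ^ m * b := by rw [h1]
  have hS5 : ∀ x : G, (∀ μ ∈ M, μ * x = x * μ) → x ^ m ∈ center G → ∀ d, tB S d →
      x * d = d * x := by
    intro x hxM hxm d hd'
    exact comm_of_pow_central M m d (hcopB d hd') (hS2 d hd') (orderOf x) (orderOf_pos x).ne' x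
      (pow_orderOf_eq_one x) hxM hxm
  -- the abelian normal subgroup N
  set X : Set G := {x | x ∈ center G ∨ tB S x} with hX
  have hXcomm : ∀ x ∈ X, ∀ y ∈ X, x * y = y * x := by
    intro x hx y hy
    rcases hx with hx | hx
    · exact ((Subgroup.mem_center_iff.mp hx) y).symm
    · rcases hy with hy | hy
      · exact (Subgroup.mem_center_iff.mp hy) x
      · exact hS5 x (fun μ hμ => hS3 x hx μ hμ) (hS4 x hx) y hy
  set N : Subgroup G := Subgroup.closure X with hN
  have hNX : ∀ a ∈ N, ∀ y ∈ X, a * y = y * a := by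
    intro a ha
    induction ha using Subgroup.closure_induction with
    | mem x hx => exact hXcomm x hx
    | one => intro y _; simp
    | mul a b _ _ iha ihb =>
      intro y hy
      rw [mul_assoc, ihb y hy, ← mul_assoc, iha y hy, mul_assoc]
    | inv a _ iha =>
      intro y hy
      have := iha y hy
      calc a⁻¹ * y = a⁻¹ * (y * a) * a⁻¹ := by group
        _ = a⁻¹ * (a * y) * a⁻¹ := by rw [this]
        _ = y * a⁻¹ := by group
  have hNcomm : ∀ a ∈ N, ∀ b ∈ N, a * b = b * a := by
    intro a ha b hb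
    induction hb using Subgroup.closure_induction with
    | mem y hy => exact hNX a ha y hy
    | one => simp
    | mul x y _ _ ihx ihy =>
      rw [← mul_assoc, ihx, mul_assoc, ihy, ← mul_assoc]
    | inv x _ ihx =>
      calc a * x⁻¹ = x⁻¹ * (x * a) * x⁻¹ := by group
        _ = x⁻¹ * (a * x) * x⁻¹ := by rw [ihx]
        _ = x⁻¹ * a := by group
  have hNnormal : N.Normal := by
    constructor
    intro a ha g
    induction ha using Subgroup.closure_induction with
    | mem x hx =>
      apply Subgroup.subset_closure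
      rcases hx with hx | hx
      · left
        exact (inferInstance : (center G).Normal).conj_mem x hx g
      · right
        exact tB_conj hx g
    | one => simp
    | mul x y _ _ ihx ihy =>
      have : g * (x * y) * g⁻¹ = (g * x * g⁻¹) * (g * y * g⁻¹) := by group
      rw [this]; exact N.mul_mem ihx ihy
    | inv x _ ihx =>
      have : g * x⁻¹ * g⁻¹ = (g * x * g⁻¹)⁻¹ := by group
      rw [this]; exact N.inv_mem ihx
  have hNn' : N.Normal := hNnormal
  have hNexp : ∀ a ∈ N, a ^ m ∈ center G := by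
    intro a ha
    induction ha using Subgroup.closure_induction with
    | mem x hx =>
      rcases hx with hx | hx
      · exact pow_mem hx m
      · exact hS4 x hx
    | one => simp
    | mul x y hx hy ihx ihy =>
      have hc : Commute x y := hNcomm x hx y hy
      rw [hc.mul_pow]; exact mul_mem ihx ihy
    | inv x _ ihx =>
      rw [inv_pow]; exact inv_mem ihx
  have hZN : center G ≤ N := fun z hz => Subgroup.subset_closure (Or.inl hz)
  have hBN : ∀ d, tB S d → d ∈ N := fun d hd' => Subgroup.subset_closure (Or.inr hd')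
  have hd₀B : tB S d₀ := ⟨t, htS, ht, htd⟩
  have hd₀N : d₀ ∈ N := hBN d₀ hd₀B
  -- Sylow subgroup and its centralizer
  obtain ⟨T⟩ := (inferInstance : Nonempty (Sylow t G))
  set W : Subgroup G := centralizer (T : Set G) with hW
  have hWmem : ∀ x, x ∈ W ↔ ∀ y ∈ T, y * x = x * y := by
    intro x
    rw [hW, Subgroup.mem_centralizer_iff]
    rfl
  have hZW : center G ≤ W := by
    intro z hz
    rw [hWmem]
    intro y _
    exact (Subgroup.mem_center_iff.mp hz) y
  have hcov : ∀ x, x ∉ N → ∃ g : G, g⁻¹ * x * g ∈ W := by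
    intro x hx
    have htx : ¬ t ∣ idx x := fun h => hx (hBN x ⟨t, htS, ht, h⟩)
    obtain ⟨g, hg⟩ := exists_conj_mem_of_not_dvd_index (T : Subgroup G) T.isPGroup'
      (centralizer ({x} : Set G)) htx
    refine ⟨g⁻¹, ?_⟩
    rw [hWmem]
    intro y hy
    have h1 := hg y hy
    rw [mem_centralizer_singleton] at h1
    have e1 : y * (g⁻¹⁻¹ * x * g⁻¹) = g * ((g⁻¹ * y * g) * x) * g⁻¹ := by group
    have e2 : (g⁻¹⁻¹ * x * g⁻¹) * y = g * (x * (g⁻¹ * y * g)) * g⁻¹ := by group
    rw [e1, e2, h1]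
  have hd₀W : ∀ g : G, g⁻¹ * d₀ * g ∉ W := by
    intro g hg
    have hle : (T : Subgroup G) ≤ centralizer ({g⁻¹ * d₀ * g} : Set G) := by
      intro y hy
      rw [mem_centralizer_singleton]
      exact (((hWmem _).1 hg) y hy).symm
    have h1 : idx (g⁻¹ * d₀ * g) = idx d₀ := by
      have := idx_conj d₀ g⁻¹
      simpa using this
    have h2 : idx d₀ ∣ (T : Subgroup G).index := by
      rw [← h1]; exact index_dvd_of_le hle
    exact T.not_dvd_index (htd.trans h2)
  obtain ⟨hsup, hfrob⟩ := cover N W hcov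
  have hNtop : N ≠ ⊤ := by
    intro h
    have : idx d₀ = 1 := by
      rw [idx_eq_one_iff, Subgroup.mem_center_iff]
      intro g
      exact hNcomm g (h ▸ Subgroup.mem_top g) d₀ hd₀N
    rw [this] at htd
    exact ht.one_lt.ne' (Nat.dvd_one.mp htd)
  have hWN : ¬ W ≤ N := by
    intro h
    exact hNtop (by rwa [sup_eq_left.mpr h] at hsup)
  have hCd₀ : centralizer ({d₀} : Set G) = N := by
    apply le_antisymm
    · intro g hg
      by_contra hgN
      obtain ⟨a, ha⟩ := hcov g hgN
      rw [mem_centralizer_singleton] at hg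
      have hd'W : a⁻¹ * d₀ * a ∉ W := hd₀W a
      have hcomm : (a⁻¹ * d₀ * a)⁻¹ * (a⁻¹ * g * a) * (a⁻¹ * d₀ * a) = a⁻¹ * g * a := by
        have : (a⁻¹ * d₀ * a)⁻¹ * (a⁻¹ * g * a) * (a⁻¹ * d₀ * a) = a⁻¹ * (d₀⁻¹ * (g * d₀)) * a := by
          group
        rw [this, ← hg]; group
      have h1 := hfrob (a⁻¹ * d₀ * a) hd'W (a⁻¹ * g * a) ha (by rw [hcomm]; exact ha)
      have h2 := hNnormal.conj_mem _ h1 a
      apply hgN
      have : a * (a⁻¹ * g * a) * a⁻¹ = g := by group
      rwa [this] at h2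
    · intro x hx
      rw [mem_centralizer_singleton]
      exact hNcomm d₀ hd₀N x hx
  have hNidx : N.index = idx d₀ := by rw [← hCd₀]; rfl
  have hTW : (T : Subgroup G) ≤ W := by
    intro y hy
    by_contra hyW
    apply hWN
    intro x hx
    apply hfrob y hyW x hx
    rw [hWmem]
    intro z hz
    have hz' : y * z * y⁻¹ ∈ (T : Subgroup G) :=
      (T : Subgroup G).mul_mem ((T : Subgroup G).mul_mem hy hz) ((T : Subgroup G).inv_mem hy)
    have h1 := (hWmem x).1 hx _ hz'
    have e1 : z * (y⁻¹ * x * y) = y⁻¹ * ((y * z * y⁻¹) * x) * y := by group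
    have e2 : (y⁻¹ * x * y) * z = y⁻¹ * (x * (y * z * y⁻¹)) * y := by group
    rw [e1, e2, h1]
  have hcop0 : Nat.Coprime m (idx d₀) := hcopB d₀ hd₀B
  have htm : ¬ t ∣ m := by
    intro h
    have := Nat.dvd_gcd h htd
    rw [hcop0] at this
    exact ht.one_lt.ne' (Nat.dvd_one.mp this)
  obtain ⟨k, hk⟩ := IsPGroup.iff_card.mp T.isPGroup'
  have hcoptk : Nat.Coprime (t ^ k) m :=
    Nat.Coprime.pow_left _ ((Nat.Prime.coprime_iff_not_dvd ht).2 htm)
  have hTN : ∀ y ∈ (T : Subgroup G), y ∈ N → y ∈ center G := by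
    intro y hy hyN
    have h1 : y ^ (t ^ k) = 1 := by
      rw [← hk]; exact pow_card_of_mem (T : Subgroup G) hy
    have hc : Nat.Coprime m (orderOf y) :=
      Nat.Coprime.coprime_dvd_right (orderOf_dvd_of_pow_eq_one h1) hcoptk.symm
    obtain ⟨u, hu⟩ := exists_pow_eq_self_of_coprime hc
    rw [← hu]; exact pow_mem (hNexp y hyN) u
  obtain ⟨w, hwT, hwN⟩ : ∃ w ∈ (T : Subgroup G), w ∉ N := by
    by_contra hcon
    push_neg at hcon
    apply hd₀W 1
    rw [hWmem]
    intro y hy
    have := hTN y hy (hcon y hy)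
    simpa using ((Subgroup.mem_center_iff.mp this) d₀).symm
  have htA_of_notN : ∀ x, x ∉ N → tA S x := by
    intro x hx
    have h1 : idx x ≠ 1 := fun h => hx (hZN (idx_eq_one_iff.mp h))
    rcases tA_or_tB S h1 with h | h
    · exact h
    · exact absurd (hBN x h) hx
  have hwA : tA S w := htA_of_notN w hwN
  have hwpow : w ^ (t ^ k) = 1 := by
    rw [← hk]; exact pow_card_of_mem (T : Subgroup G) hwT
  have hNW : ∀ a, a ∈ N → a ∈ W → a ∈ center G := by
    intro a haN haW
    by_contra hac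
    have h1 : idx a ≠ 1 := fun h => hac (idx_eq_one_iff.mp h)
    have hNCa : N ≤ centralizer ({a} : Set G) := by
      intro x hx
      rw [mem_centralizer_singleton]
      exact hNcomm a haN x hx
    rcases tA_or_tB S h1 with h | h
    · have h2 : idx a ∣ idx d₀ := by rw [← hNidx]; exact index_dvd_of_le hNCa
      exact h1 (Nat.Coprime.eq_one_of_dvd (cop hd h hd₀B) h2)
    · have haw : Commute a w := ((hWmem a).1 haW w hwT).symm
      have hC : centralizer ({a * w} : Set G) ≤ centralizer ({a} : Set G) ⊓ centralizer ({w} : Set G) := by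
        intro g hg
        rw [mem_centralizer_singleton] at hg
        have hg' : Commute g (a * w) := hg.symm
        have h2 : Commute g (a ^ (t ^ k)) := by
          have := hg'.pow_right (t ^ k)
          rwa [haw.mul_pow, hwpow, mul_one] at this
        have h3 : Commute g (a ^ m) := ((Subgroup.mem_center_iff.mp (hNexp a haN)) g)
        have hbez : ((t ^ k : ℕ) : ℤ) * Nat.gcdA (t ^ k) m + (m : ℤ) * Nat.gcdB (t ^ k) m = 1 := by
          have := Nat.gcd_eq_gcd_ab (t ^ k) m
          rw [hcoptk] at this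
          simpa using this.symm
        have ha1 : a = (a ^ (t ^ k)) ^ (Nat.gcdA (t ^ k) m) * (a ^ m) ^ (Nat.gcdB (t ^ k) m) := by
          rw [← zpow_natCast a (t ^ k), ← zpow_natCast a m, ← zpow_mul, ← zpow_mul, ← zpow_add,
            hbez, zpow_one]
        have h4 : Commute g a := by
          rw [ha1]
          exact Commute.mul_right (h2.zpow_right _) (h3.zpow_right _)
        have h5 : Commute g w := by
          have : w = a⁻¹ * (a * w) := by group
          rw [this]
          exact Commute.mul_right h4.inv_right hg'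
        rw [Subgroup.mem_inf, mem_centralizer_singleton, mem_centralizer_singleton]
        exact ⟨h4.eq.symm, h5.eq.symm⟩
      have h6 : idx a ∣ idx (a * w) := index_dvd_of_le (hC.trans inf_le_left)
      have h7 : idx w ∣ idx (a * w) := index_dvd_of_le (hC.trans inf_le_right)
      obtain ⟨p, hpS, hp, hpw⟩ := hwA
      obtain ⟨q, hqS, hq, hqa⟩ := h
      have hne : p ≠ q := fun h => hqS (h ▸ hpS)
      exact hd p q hp hq hpS hqS (a * w)
        (Nat.Coprime.mul_dvd_of_dvd_of_dvd ((Nat.coprime_primes hp hq).2 hne)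
          (hpw.trans h7) (hqa.trans h6))
  have hWcomm : ∀ x ∈ W, ∀ y ∈ W, x * y = y * x := by
    intro x hx y hy
    by_cases hxc : x ∈ center G
    · exact ((Subgroup.mem_center_iff.mp hxc) y).symm
    · have hxN : x ∉ N := fun h => hxc (hNW x h hx)
      have hCW : centralizer ({x} : Set G) ≤ W := by
        intro g hg
        by_contra hgW
        rw [mem_centralizer_singleton] at hg
        apply hxN
        apply hfrob g hgW x hx
        have : g⁻¹ * x * g = x := by
          calc g⁻¹ * x * g = g⁻¹ * (x * g) := by group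
            _ = g⁻¹ * (g * x) := by rw [hg]
            _ = x := by group
        rw [this]; exact hx
      have hxA : tA S x := htA_of_notN x hxN
      have hcopx : Nat.Coprime (idx x) (idx d₀) := cop hd hxA hd₀B
      have hr1 : (centralizer ({x} : Set G)).relIndex W ∣ idx x := relIndex_dvd_index_of_le hCW
      have hZC : center G ≤ centralizer ({x} : Set G) := by
        intro z hz
        rw [mem_centralizer_singleton]
        exact ((Subgroup.mem_center_iff.mp hz) x)
      have hr2 : (centralizer ({x} : Set G)).relIndex W ∣ (center G).relIndex W :=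
        relIndex_dvd_of_le_left W hZC
      have hinf : N ⊓ W = center G ⊓ W := by
        apply le_antisymm
        · intro a ha
          exact ⟨hNW a ha.1 ha.2, ha.2⟩
        · intro a ha
          exact ⟨hZN ha.1, ha.2⟩
      have hr3 : (center G).relIndex W = N.relIndex W := by
        rw [← inf_relIndex_right N W, ← inf_relIndex_right (center G) W, hinf]
      have hr4 : N.relIndex W ∣ idx d₀ := by
        rw [← hNidx]; exact relIndex_dvd_index_of_normal N W
      have hr5 : (centralizer ({x} : Set G)).relIndex W = 1 :=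
        Nat.Coprime.eq_one_of_dvd (Nat.Coprime.coprime_dvd_left hr1 hcopx)
          (hr2.trans (hr3 ▸ hr4))
      have := relIndex_eq_one.mp hr5 hy
      rw [mem_centralizer_singleton] at this
      exact this
  -- final assembly
  set π : G →* G ⧸ center G := QuotientGroup.mk' (center G) with hπ
  have hπsurj : Function.Surjective π := QuotientGroup.mk'_surjective _
  have hπone : ∀ x : G, π x = 1 ↔ x ∈ center G := fun x => QuotientGroup.eq_one_iff x
  have hmemH : ∀ x : G, π x ∈ W.map π ↔ x ∈ W := by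
    intro x
    constructor
    · rintro ⟨y, hy, hyx⟩
      have h1 : π (y⁻¹ * x) = 1 := by rw [map_mul, map_inv, hyx]; group
      have h2 : y⁻¹ * x ∈ W := hZW ((hπone _).1 h1)
      have : x = y * (y⁻¹ * x) := by group
      rw [this]; exact W.mul_mem hy h2
    · intro hx
      exact Subgroup.mem_map_of_mem π hx
  have hconj : ∀ g x : G, π x ∈ MulAut.conj (π g) • W.map π ↔ g⁻¹ * x * g ∈ W := by
    intro g x
    rw [Subgroup.mem_pointwise_smul_iff_inv_smul_mem, MulAut.smul_def, MulAut.conj_inv_apply,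
      ← hmemH]
    simp [map_mul, map_inv]
  refine ⟨W.map π, ⟨?_, ?_, ?_⟩, ?_, ?_⟩
  · intro hbot
    have h1 : π w ∈ W.map π := (hmemH w).2 (hTW hwT)
    rw [hbot, Subgroup.mem_bot, hπone] at h1
    exact hwN (hZN h1)
  · intro htop
    have h1 : π d₀ ∈ W.map π := by rw [htop]; trivial
    rw [hmemH] at h1
    apply hd₀W 1
    simpa using h1
  · intro gb hgb
    obtain ⟨g, rfl⟩ := hπsurj gb
    have hgW : g ∉ W := fun h => hgb ((hmemH g).2 h)
    rw [eq_bot_iff]
    rintro xb ⟨hx1, hx2⟩
    obtain ⟨x, rfl⟩ := hπsurj xb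
    have hxW : x ∈ W := (hmemH x).1 hx1
    have hx2' : g⁻¹ * x * g ∈ W := (hconj g x).1 hx2
    have hxN : x ∈ N := hfrob g hgW x hxW hx2'
    rw [Subgroup.mem_bot, hπone]
    exact hNW x hxN hxW
  · refine ⟨⟨fun a b => ?_⟩⟩
    obtain ⟨ab, ha⟩ := a
    obtain ⟨bb, hb⟩ := b
    obtain ⟨x, hx, rfl⟩ := ha
    obtain ⟨y, hy, rfl⟩ := hb
    apply Subtype.ext
    change π x * π y = π y * π x
    rw [← map_mul, ← map_mul, hWcomm x hx y hy]
  · have hker : ∀ zb ∈ Cfsg.frobeniusKernel (W.map π), ∃ z ∈ N, π z = zb := by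
      intro zb hzb
      rcases hzb with h | h
      · exact ⟨1, N.one_mem, by rw [h, map_one]⟩
      · obtain ⟨z, rfl⟩ := hπsurj zb
        by_cases hzN : z ∈ N
        · exact ⟨z, hzN, rfl⟩
        · obtain ⟨g, hg⟩ := hcov z hzN
          exact absurd ((hconj g z).2 hg) (h (π g))
    intro xb hxb yb hyb
    obtain ⟨x, hx, rfl⟩ := hker xb hxb
    obtain ⟨y, hy, rfl⟩ := hker yb hyb
    rw [← map_mul, ← map_mul, hNcomm x hx y hy]

/-- Let G be a finite group. Call a prime a vertex if it divides some conjugacy class size of G, and two distinct vertices adjacent if their product divides some class size. Suppose this graph is disconnected: the vertices split into two nonempty parts with no vertex of one part adjacent to a vertex of the other. Then G/Z(G) is a Frobenius group with abelian Frobenius complement and with a Frobenius kernel all of whose elements commute. -/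
theorem result {G : Type*} [Group G] [Finite G] (S : Set ℕ) (hS : ∃ p ∈ S, (p.Prime ∧ ∃ g : G, p ∣ (Subgroup.centralizer ({g} : Set G)).index)) (hS' : ∃ q ∉ S, (q.Prime ∧ ∃ g : G, q ∣ (Subgroup.centralizer ({g} : Set G)).index))
    (hdisc : ∀ p q : ℕ, (p.Prime ∧ ∃ g : G, p ∣ (Subgroup.centralizer ({g} : Set G)).index) → (q.Prime ∧ ∃ g : G, q ∣ (Subgroup.centralizer ({g} : Set G)).index) → p ∈ S → q ∉ S → ¬ (∃ g : G, p * q ∣ (Subgroup.centralizer ({g} : Set G)).index)) :
    ∃ H : Subgroup (G ⧸ Subgroup.center G), Cfsg.IsFrobeniusComplement H ∧ IsMulCommutative H ∧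
      ∀ x ∈ Cfsg.frobeniusKernel H, ∀ y ∈ Cfsg.frobeniusKernel H, x * y = y * x := by
  classical
  have hd : ∀ p q : ℕ, p.Prime → q.Prime → p ∈ S → q ∉ S → ∀ g : G, ¬ p * q ∣ idx g := by
    intro p q hp hq hpS hqS g hpq
    exact hdisc p q ⟨hp, g, (dvd_mul_right p q).trans hpq⟩ ⟨hq, g, (dvd_mul_left q p).trans hpq⟩
      hpS hqS ⟨g, hpq⟩
  obtain ⟨c, hc⟩ : ∃ c : G, ∀ g : G, idx g ≤ idx c := Finite.exists_max (fun g : G => idx g)
  obtain ⟨p, hpS, hp, gp, hgp⟩ := hS
  obtain ⟨q, hqS, hq, gq, hgq⟩ := hS'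
  have hc1 : idx c ≠ 1 := by
    intro h
    have h1 := hc gp
    rw [h] at h1
    have h2 : idx gp = 1 := le_antisymm h1 (idx_pos gp)
    have h3 : p ∣ idx gp := hgp
    rw [h2] at h3
    exact hp.one_lt.ne' (Nat.dvd_one.mp h3)
  rcases tA_or_tB S hc1 with hA | hB
  · exact core S hd c hc hA gq q hq hqS hgq
  · have hd' : ∀ p q : ℕ, p.Prime → q.Prime → p ∈ Sᶜ → q ∉ Sᶜ → ∀ g : G, ¬ p * q ∣ idx g := by
      intro p q hp hq hpS hqS g hpq
      rw [mul_comm] at hpq
      exact hd q p hq hp (by simpa using hqS) hpS g hpq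
    have hA' : tA Sᶜ c := by
      obtain ⟨r, hrS, hr, hrc⟩ := hB
      exact ⟨r, hrS, hr, hrc⟩
    exact core Sᶜ hd' c hc hA' gp p hp (by simpa using hpS) hgp

end Cfsg.Agent.S4255
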