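import Mathlib
import Cfsg.Statements.S1443
import Cfsg.Agent.Lib.Helper7.OddOmega
import Cfsg.Agent.Lib.Helper7.CoprimeGen2

set_option autoImplicit false
open Cfsg

namespace Cfsg.Agent.S1443

open Cfsg.Agent.Helper7

/-- Let G be a finite group, p an odd prime, H a p-subgroup, E an elementary abelian subgroup of H, and A a subgroup of order coprime to p normalizing H. If A centralizes every element of order p in H ∩ C_G(E), then A centralizes H. -/
theorem result {G : Type*} [Group G] [Finite G] (p : ℕ) [Fact p.Prime] (hp : p ≠ 2) (H E A : Subgroup G) (hH : IsPGroup p H) (hE : E ≤ H) (hEe : Cfsg.IsElementaryAbelian p E)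
    (hA : (A ≤ Subgroup.normalizer (H : Set G))) (hcop : (Nat.card A).Coprime p)
    (hfix : ∀ x ∈ (H ⊓ Subgroup.centralizer (E : Set G)), orderOf x = p → A ≤ Subgroup.centralizer ({x} : Set G)) :
    A ≤ Subgroup.centralizer (H : Set G) := by
  have hpp := (Fact.out : p.Prime)
  -- A centralizes E
  have hAE : A ≤ Subgroup.centralizer (E : Set G) := by
    intro a ha
    rw [Subgroup.mem_centralizer_iff]
    intro e he
    by_cases he1 : e = 1
    · rw [he1, one_mul, mul_one]
    · have heo : orderOf e = p := orderOf_eq_prime (hEe.2 e he) he1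
      have heC : e ∈ H ⊓ Subgroup.centralizer (E : Set G) := by
        refine Subgroup.mem_inf.mpr ⟨hE he, ?_⟩
        rw [Subgroup.mem_centralizer_iff]
        intro e' he'
        exact isElementaryAbelian_comm hEe he' he
      have := hfix e heC heo ha
      rw [Subgroup.mem_centralizer_singleton_iff] at this
      exact this.symm
  set Q₀ := H ⊓ Subgroup.centralizer (E : Set G) with hQ₀
  have hAQ₀ : A ≤ Subgroup.normalizer (Q₀ : Set G) :=
    (le_inf hA (hAE.trans Subgroup.le_normalizer)).trans Subgroup.inf_normalizer_le_normalizer_inf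
  have h3 : A ≤ Subgroup.centralizer (Q₀ : Set G) :=
    le_centralizer_of_forall_orderOf_eq_prime_aux p hp A hcop _ Q₀ rfl (hH.to_le inf_le_left) hAQ₀
      (fun x hx hxo => hfix x hx hxo)
  have hHE : H ⊔ E = H := sup_eq_left.mpr hE
  have hcopH : (Nat.card ↥A).Coprime (Nat.card ↥H) := by
    obtain ⟨k, hk⟩ := hH.exists_card_eq
    rw [hk]
    exact Nat.Coprime.pow_right k hcop
  have h4 := thompson_AxB H A E hA (hE.trans Subgroup.le_normalizer)
    (by rw [Subgroup.commutator_eq_bot_iff_le_centralizer]; exact hAE) hcopH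
    (by rw [hHE]; exact hH.isNilpotent)
    (by rw [← Subgroup.le_centralizer_iff]; exact h3)
  rw [← Subgroup.le_centralizer_iff] at h4
  exact h4

end Cfsg.Agent.S1443
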