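import Mathlib
import Cfsg.Statements.S1013
import Cfsg.Agent.Lib.Helper5.PComplement

set_option autoImplicit false
open Cfsg

namespace Cfsg.Agent.S1013

/-- A nontrivial normal subgroup of a transitive permutation group of prime degree `p` has order
divisible by `p`. -/
theorem dvd_card_of_normal {α : Type*} [Fintype α] {p : ℕ} [Fact p.Prime]
    (hα : Fintype.card α = p) (G : Subgroup (Equiv.Perm α)) [MulAction.IsPretransitive ↥G α]
    (N : Subgroup ↥G) [N.Normal] (hN : N ≠ ⊥) : p ∣ Nat.card N := by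
  have hp : (Nat.card α).Prime := by
    rw [Nat.card_eq_fintype_card, hα]
    exact Fact.out
  haveI : MulAction.IsPreprimitive ↥G α := MulAction.IsPreprimitive.of_prime_card hp
  have hfix : MulAction.fixedPoints ↥N α ≠ Set.univ := by
    intro h
    apply hN
    rw [eq_bot_iff]
    intro n hn
    rw [Subgroup.mem_bot]
    apply Subtype.ext
    apply Equiv.ext
    intro a
    have ha : a ∈ MulAction.fixedPoints ↥N α := by rw [h]; trivial
    exact ha ⟨n, hn⟩
  haveI : MulAction.IsPretransitive ↥N α :=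
    MulAction.IsQuasiPreprimitive.isPretransitive_of_normal hfix
  haveI : Nonempty α := by
    rw [← Fintype.card_pos_iff, hα]
    exact (Fact.out : p.Prime).pos
  obtain ⟨a⟩ := (inferInstance : Nonempty α)
  have h1 : (MulAction.stabilizer ↥N a).index = Nat.card α :=
    MulAction.index_stabilizer_of_transitive ↥N a
  rw [Nat.card_eq_fintype_card, hα] at h1
  rw [← h1]
  exact Subgroup.index_dvd_card _

/-- Let G be a transitive permutation group of prime degree p having more than one Sylow p-subgroup, and suppose a Sylow p-subgroup P has prime index in its normalizer. Then G is simple. -/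
theorem result {α : Type*} [Fintype α] [DecidableEq α] {p : ℕ} [Fact p.Prime] (hα : Fintype.card α = p) (G : Subgroup (Equiv.Perm α)) [MulAction.IsPretransitive ↥G α] (P : Sylow p ↥G) (hn : 1 < Nat.card (Sylow p ↥G)) (ht : (((P : Subgroup ↥G).subgroupOf (Subgroup.normalizer ((P : Subgroup ↥G) : Set ↥G))).index).Prime) : IsSimpleGroup ↥G := by
  classical
  have hp : p.Prime := Fact.out
  -- two distinct Sylow subgroups
  have hnontriv : Nontrivial (Sylow p ↥G) := by
    rw [← Finite.one_lt_card_iff_nontrivial]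
    exact hn
  haveI : Nontrivial ↥G := by
    obtain ⟨Q₁, Q₂, hQ⟩ := hnontriv
    by_contra hnt
    rw [not_nontrivial_iff_subsingleton] at hnt
    apply hQ
    apply Sylow.ext
    exact Subsingleton.elim _ _
  -- the order of `G`
  have hGdvd : Nat.card ↥G ∣ p.factorial := by
    have h1 : Nat.card ↥G ∣ Nat.card (Equiv.Perm α) := Subgroup.card_subgroup_dvd_card G
    have h2 : Nat.card (Equiv.Perm α) = p.factorial := by
      rw [Nat.card_eq_fintype_card, Fintype.card_perm, hα]
    rwa [h2] at h1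
  have hp2 : ¬ p ^ 2 ∣ p.factorial := by
    intro h
    obtain ⟨k, hk⟩ : ∃ k, p = k + 1 := ⟨p - 1, by have := hp.pos; omega⟩
    rw [hk, Nat.factorial_succ, sq] at h
    have h1 : k + 1 ∣ k.factorial := Nat.dvd_of_mul_dvd_mul_left (Nat.succ_pos k) h
    rw [← hk] at h1
    have h2 : p ≤ k := (hp.dvd_factorial).1 h1
    omega
  have hpG : p ∣ Nat.card ↥G := by
    have h1 := dvd_card_of_normal hα G (⊤ : Subgroup ↥G) top_ne_bot
    rwa [Subgroup.card_top] at h1
  have hcardSyl : ∀ Q : Sylow p ↥G, Nat.card (Q : Subgroup ↥G) = p := by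
    intro Q
    obtain ⟨k, hk⟩ := Q.isPGroup'.exists_card_eq
    have h1 : p ∣ Nat.card (Q : Subgroup ↥G) := Q.dvd_card_of_dvd_card hpG
    have h2 : p ^ k ∣ p.factorial := by
      rw [← hk]
      exact (Subgroup.card_subgroup_dvd_card _).trans hGdvd
    have hk1 : k ≤ 1 := by
      by_contra hcon
      push_neg at hcon
      exact hp2 ((pow_dvd_pow p hcon).trans h2)
    have hk0 : k ≠ 0 := by
      rintro rfl
      rw [hk, pow_zero] at h1
      exact hp.one_lt.ne' (Nat.dvd_one.1 h1)
    have : k = 1 := by omega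
    rw [hk, this, pow_one]
  have hPcomm : ∀ a ∈ (P : Subgroup ↥G), ∀ b ∈ (P : Subgroup ↥G), a * b = b * a := by
    haveI : Fact (Nat.card (P : Subgroup ↥G)).Prime := ⟨by rw [hcardSyl P]; exact hp⟩
    haveI : IsCyclic (P : Subgroup ↥G) := isCyclic_of_prime_card rfl
    intro a ha b hb
    have := (IsCyclic.commGroup (α := (P : Subgroup ↥G))).mul_comm ⟨a, ha⟩ ⟨b, hb⟩
    exact congrArg Subtype.val this
  refine ⟨fun N hNn => ?_⟩
  haveI := hNn
  by_cases hNbot : N = ⊥
  · left; exact hNbot
  right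
  have hpN : p ∣ Nat.card N := dvd_card_of_normal hα G N hNbot
  -- `P ≤ N`
  have hPN : (P : Subgroup ↥G) ≤ N := by
    obtain ⟨x, hx⟩ := exists_prime_orderOf_dvd_card' (G := ↥N) p hpN
    have hx' : orderOf (x : ↥G) = p := by rw [Subgroup.orderOf_coe, hx]
    have hpg : IsPGroup p (Subgroup.zpowers (x : ↥G)) := by
      apply IsPGroup.of_card (n := 1)
      rw [Nat.card_zpowers, hx', pow_one]
    obtain ⟨S, hS⟩ := hpg.exists_le_sylow
    have hSeq : Subgroup.zpowers (x : ↥G) = (S : Subgroup ↥G) := by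
      apply Subgroup.eq_of_le_of_card_ge hS
      rw [hcardSyl S, Nat.card_zpowers, hx']
    have hSN : (S : Subgroup ↥G) ≤ N := by
      rw [← hSeq, Subgroup.zpowers_le]
      exact x.2
    obtain ⟨g, hg⟩ := MulAction.exists_smul_eq ↥G S P
    intro y hy
    have hy' : y ∈ ((g • S : Sylow p ↥G) : Subgroup ↥G) := by rw [hg]; exact hy
    rw [Sylow.coe_subgroup_smul, Subgroup.mem_pointwise_smul_iff_inv_smul_mem] at hy'
    have h1 : (MulAut.conj g)⁻¹ • y ∈ N := hSN hy'
    have h2 : y = g * ((MulAut.conj g)⁻¹ • y) * g⁻¹ := by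
      rw [MulAut.smul_def, ← map_inv, MulAut.conj_apply]
      group
    rw [h2]
    exact hNn.conj_mem _ h1 g
  -- Frattini
  have hfrat : Subgroup.normalizer ((P : Subgroup ↥G) : Set ↥G) ⊔ N = ⊤ :=
    Sylow.normalizer_sup_eq_top' P hPN
  set NP := Subgroup.normalizer ((P : Subgroup ↥G) : Set ↥G) with hNP
  have hPNP : (P : Subgroup ↥G) ≤ NP := Subgroup.le_normalizer
  have hPA : (P : Subgroup ↥G) ≤ N ⊓ NP := le_inf hPN hPNP
  have hmul := Subgroup.relIndex_mul_relIndex (P : Subgroup ↥G) (N ⊓ NP) NP hPA inf_le_right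
  have ht' : ((P : Subgroup ↥G).relIndex NP).Prime := ht
  rw [← hmul] at ht'
  rcases (Nat.prime_mul_iff.1 ht') with ⟨-, h1⟩ | ⟨-, h1⟩
  · -- `NP ≤ N`
    have h2 : NP ≤ N ⊓ NP := Subgroup.relIndex_eq_one.1 h1
    have h3 : NP ≤ N := h2.trans inf_le_left
    rw [← hfrat]
    exact (sup_eq_right.2 h3).symm
  · -- `N ∩ NP = P`
    exfalso
    have h2 : N ⊓ NP ≤ (P : Subgroup ↥G) := Subgroup.relIndex_eq_one.1 h1
    obtain ⟨M, hMn, hMN, hMp, hMcard⟩ :=
      Cfsg.Agent.Helper5.exists_normal_pcomplement_of_self_normalizing P N hPN hPcomm h2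
    haveI := hMn
    have hMbot : M = ⊥ := by
      by_contra hM
      exact hMp (dvd_card_of_normal hα G M hM)
    rw [hMbot, Subgroup.card_bot, mul_one] at hMcard
    have hNP' : (P : Subgroup ↥G) = N := Subgroup.eq_of_le_of_card_ge hPN hMcard.le
    haveI : (P : Subgroup ↥G).Normal := by rw [hNP']; exact hNn
    haveI := Sylow.unique_of_normal P inferInstance
    have : Nat.card (Sylow p ↥G) = 1 := Nat.card_unique
    omega

end Cfsg.Agent.S1013
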