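import Mathlib
import Cfsg.Statements.S1190
import Cfsg.Agent.Lib.Helper6.QD
import Cfsg.Agent.Lib.Helper6.QDFour

set_option autoImplicit false
open Cfsg

namespace Cfsg.Agent.S1190

open Cfsg.Agent.Helper6.QD

theorem map_conj_le {S : Type*} [Group S] (d : Data S) (T₁ T₂ : Subgroup S)
    (j k : ZMod (2 ^ d.n)) (h1 : ∀ s, s ∈ T₁ ↔ F d j s) (h2 : ∀ s, s ∈ T₂ ↔ F d k s) (s : S)
    (h : s * inv2 d j * s⁻¹ = inv2 d k ∨ s * inv2 d j * s⁻¹ = z d * inv2 d k) :
    T₁.map (MulAut.conj s).toMonoidHom = T₂ := by
  ext t
  rw [Subgroup.mem_map]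
  constructor
  · rintro ⟨a, ha, rfl⟩
    rw [h2]
    exact F_conj_of d j k s h a ((h1 a).mp ha)
  · intro ht
    refine ⟨s⁻¹ * t * s⁻¹⁻¹, ?_, ?_⟩
    · rw [h1]
      exact F_conj_of d k j s⁻¹ (inv_conj_of d j k s h) t ((h2 t).mp ht)
    · simp only [MulEquiv.coe_toMonoidHom, MulAut.conj_apply]
      group

/-- In a quasi-dihedral 2-group S, any two Klein four-subgroups are conjugate, and every Klein four-subgroup T satisfies C_S(T) = T and |N_S(T) : T| = 2. -/
theorem result {S : Type*} [Group S] [Finite S] (hS : Cfsg.IsQuasiDihedral S) : (∀ T₁ T₂ : Subgroup S, IsKleinFour T₁ → IsKleinFour T₂ → ∃ s : S, T₁.map (MulAut.conj s).toMonoidHom = T₂) ∧ (∀ T : Subgroup S, IsKleinFour T → Subgroup.centralizer (T : Set S) = T ∧ T.relIndex (Subgroup.normalizer (T : Set S)) = 2) := by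
  obtain ⟨d⟩ := exists_data hS
  constructor
  · intro T₁ T₂ h1 h2
    obtain ⟨j, hj⟩ := kleinFour_mem d T₁ h1
    obtain ⟨k, hk⟩ := kleinFour_mem d T₂ h2
    refine ⟨xp d (uinv d * (k - j)), ?_⟩
    apply map_conj_le d T₁ T₂ j k hj hk
    left
    rw [conj_inv2]
    congr 1
    ring
  · intro T hT
    obtain ⟨j, hj⟩ := kleinFour_mem d T hT
    have haT : inv2 d j ∈ T := by
      rw [hj]; right; right; left; rfl
    have hcomm : ∀ s, s ∈ T ↔ s * inv2 d j = inv2 d j * s := by
      intro s
      rw [hj, commute_inv2_iff]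
    have hconj : ∀ s, s ∈ T ↔ s * inv2 d j * s⁻¹ = inv2 d j := by
      intro s
      rw [hcomm]
      constructor
      · intro h; rw [h]; group
      · intro h
        have := congrArg (· * s) h
        simpa using this
    have hnorm : ∀ s, s ∈ Subgroup.normalizer (T : Set S) ↔
        (s * inv2 d j * s⁻¹ = inv2 d j ∨ s * inv2 d j * s⁻¹ = z d * inv2 d j) := by
      intro s
      constructor
      · intro hs
        have h1 : s * inv2 d j * s⁻¹ ∈ T := (hs (inv2 d j)).mp haT
        rw [hj] at h1
        rcases h1 with h1 | h1 | h1 | h1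
        · exfalso
          apply inv2_ne_one d j
          have := congrArg (fun w => s⁻¹ * w * s) h1
          simpa [mul_assoc] using this
        · exfalso
          apply inv2_ne_z d j
          have h2 : inv2 d j = s⁻¹ * z d * s⁻¹⁻¹ := by
            rw [← h1]; group
          rw [h2, conj_z]
        · left; exact h1
        · right; exact h1
      · intro h
        have hmap := map_conj_le d T T j j hj hj s h
        rw [Subgroup.mem_normalizer_iff_map_conj_eq]
        exact hmap
    constructor
    · apply le_antisymm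
      · intro s hs
        rw [Subgroup.mem_centralizer_iff] at hs
        rw [hcomm]
        exact (hs _ haT).symm
      · intro s hs
        rw [Subgroup.mem_centralizer_iff]
        intro t ht
        have ht' : t ∈ T := ht
        have := hT
        have hc : IsMulCommutative T := IsKleinFour.isMulCommutative
        have := hc.is_comm.comm (⟨t, ht'⟩ : T) ⟨s, hs⟩
        exact congrArg Subtype.val this
    · rw [Subgroup.relIndex_eq_two_iff]
      refine ⟨xp d (quarter d), ?_, ?_⟩
      · rw [hnorm]
        right
        exact conj_quarter_inv2 d j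
      · intro b hb
        rw [hnorm] at hb
        have hbq : b * xp d (quarter d) * inv2 d j * (b * xp d (quarter d))⁻¹ =
            z d * (b * inv2 d j * b⁻¹) := by
          rw [← conj_z_mul, ← conj_quarter_inv2]
          group
        rcases hb with hb | hb
        · right
          refine ⟨(hconj b).mpr hb, ?_⟩
          rw [hconj, hbq, hb]
          exact z_mul_inv2_ne d j
        · left
          refine ⟨?_, ?_⟩
          · rw [hconj, hbq, hb, ← mul_assoc, z_mul_z, one_mul]
          · rw [hconj, hb]
            exact z_mul_inv2_ne d j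

end Cfsg.Agent.S1190
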