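import Mathlib
import Cfsg.Statements.S1191
import Cfsg.Agent.Lib.Helper6.QD
import Cfsg.Agent.Lib.Helper6.QDFour
import Cfsg.Agent.Lib.Helper6.QDQ8

set_option autoImplicit false
open Cfsg

namespace Cfsg.Agent.S1191

open Cfsg.Agent.Helper6.QD

theorem map_conj_eq {S : Type*} [Group S] (d : Data S) (Q₁ Q₂ : Subgroup S)
    (i₁ i₂ : ZMod (2 ^ d.n)) (h1 : ∀ s, s ∈ Q₁ ↔ G8 d i₁ s) (h2 : ∀ s, s ∈ Q₂ ↔ G8 d i₂ s) (g : S)
    (hg : ∀ t, G8 d i₁ t → G8 d i₂ (g * t * g⁻¹))
    (hg' : ∀ t, G8 d i₂ t → G8 d i₁ (g⁻¹ * t * g⁻¹⁻¹)) :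
    Q₁.map (MulAut.conj g).toMonoidHom = Q₂ := by
  ext t
  rw [Subgroup.mem_map]
  constructor
  · rintro ⟨a, ha, rfl⟩
    rw [h2]
    exact hg a ((h1 a).mp ha)
  · intro ht
    refine ⟨g⁻¹ * t * g⁻¹⁻¹, ?_, ?_⟩
    · rw [h1]
      exact hg' t ((h2 t).mp ht)
    · simp only [MulEquiv.coe_toMonoidHom, MulAut.conj_apply]
      group

theorem conj_xp_G8 {S : Type*} [Group S] (d : Data S) (i₁ i₂ m : ZMod (2 ^ d.n))
    (h : 4 * (i₁ + 2 * u d * m - i₂) = 0) (t : S) (ht : G8 d i₁ t) :
    G8 d i₂ (xp d m * t * (xp d m)⁻¹) := by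
  have h1 := G8_conj_xp d i₁ m t ht
  have h2 : i₁ + 2 * u d * m = i₂ + (i₁ + 2 * u d * m - i₂) := by ring
  rw [h2] at h1
  exact G8_shift d i₂ _ h _ h1

theorem map_conj_xp {S : Type*} [Group S] (d : Data S) (Q₁ Q₂ : Subgroup S)
    (i₁ i₂ m : ZMod (2 ^ d.n)) (h1 : ∀ s, s ∈ Q₁ ↔ G8 d i₁ s) (h2 : ∀ s, s ∈ Q₂ ↔ G8 d i₂ s)
    (h : 4 * (i₁ + 2 * u d * m - i₂) = 0) :
    Q₁.map (MulAut.conj (xp d m)).toMonoidHom = Q₂ := by
  apply map_conj_eq d Q₁ Q₂ i₁ i₂ h1 h2
  · exact conj_xp_G8 d i₁ i₂ m h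
  · rw [xp_inv]
    apply conj_xp_G8 d i₂ i₁ (-m)
    linear_combination (-1 : ZMod (2 ^ d.n)) * h

theorem eight_mul_eighth {S : Type*} [Group S] (d : Data S) : 8 * eighth d = 0 := by
  have : 8 * eighth d = 2 * (4 * eighth d) := by ring
  rw [this, four_mul_eighth, two_mul_half]

/-- In a quasi-dihedral 2-group S, any two subgroups isomorphic to the quaternion group of order 8 are conjugate, and each such subgroup Q satisfies C_S(Q) = Z(Q) and |N_S(Q) : Q| = 2. -/
theorem result {S : Type*} [Group S] [Finite S] (hS : Cfsg.IsQuasiDihedral S) : (∀ Q₁ Q₂ : Subgroup S, Nonempty (Q₁ ≃* QuaternionGroup 2) → Nonempty (Q₂ ≃* QuaternionGroup 2) → ∃ s : S, Q₁.map (MulAut.conj s).toMonoidHom = Q₂) ∧ (∀ Q : Subgroup S, Nonempty (Q ≃* QuaternionGroup 2) → Subgroup.centralizer (Q : Set S) = (Subgroup.center Q).map Q.subtype ∧ Q.relIndex (Subgroup.normalizer (Q : Set S)) = 2) := by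
  obtain ⟨d⟩ := exists_data hS
  constructor
  · rintro Q₁ Q₂ ⟨φ₁⟩ ⟨φ₂⟩
    obtain ⟨c₁, hc₁⟩ := q8Like_of_equiv Q₁ φ₁
    obtain ⟨c₂, hc₂⟩ := q8Like_of_equiv Q₂ φ₂
    obtain ⟨-, i₁, hi₁, hQ₁⟩ := q8_mem d Q₁ c₁ hc₁
    obtain ⟨-, i₂, hi₂, hQ₂⟩ := q8_mem d Q₂ c₂ hc₂
    have hpar : half d * (i₂ - i₁) = 0 := by rw [mul_sub, hi₁, hi₂, sub_self]
    obtain ⟨j, hj⟩ := (half_mul_eq_zero_iff d _).mp hpar
    refine ⟨xp d (uinv d * j), ?_⟩
    apply map_conj_xp d Q₁ Q₂ i₁ i₂ _ hQ₁ hQ₂
    have : i₁ + 2 * u d * (uinv d * j) - i₂ = 0 := by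
      linear_combination (2 * j) * u_mul_uinv d - hj
    rw [this, mul_zero]
  · rintro Q ⟨φ⟩
    obtain ⟨c, hc⟩ := q8Like_of_equiv Q φ
    obtain ⟨hcz, i, hi, hQ⟩ := q8_mem d Q c hc
    have hzQ : z d ∈ Q := hcz ▸ hc.mem
    have hbQ : xp d i * d.y ∈ Q := by
      rw [hQ]; right; exact ⟨0, by ring, by rw [add_zero]⟩
    have haQ : xp d (quarter d) ∈ Q := by
      rw [hQ]; left; exact ⟨quarter d, four_mul_quarter d, rfl⟩
    have hxpQ : ∀ m, xp d m ∈ Q ↔ 4 * m = 0 := by
      intro m
      rw [hQ]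
      constructor
      · rintro (⟨k, hk, h⟩ | ⟨k, hk, h⟩)
        · rw [xp_injective d h]; exact hk
        · exact absurd h (xp_ne_xp_mul_y d _ _)
      · intro h; left; exact ⟨m, h, rfl⟩
    have hxpyQ : ∀ m, xp d m * d.y ∈ Q ↔ 4 * (m - i) = 0 := by
      intro m
      rw [hQ]
      constructor
      · rintro (⟨k, hk, h⟩ | ⟨k, hk, h⟩)
        · exact absurd h.symm (xp_ne_xp_mul_y d _ _)
        · have := xp_mul_y_injective d _ _ h
          rw [this]
          linear_combination hk
      · intro h; right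
        exact ⟨m - i, h, by congr 2; ring⟩
    constructor
    · -- the centralizer
      have hcent : ∀ s, s ∈ Subgroup.centralizer (Q : Set S) → s = 1 ∨ s = z d := by
        intro s hs
        rw [Subgroup.mem_centralizer_iff] at hs
        have h1 := hs _ haQ
        have h2 := hs _ hbQ
        rcases cases d s with ⟨k, rfl⟩ | ⟨k, rfl⟩
        · rw [xpy_mul_xp, xp_mul_xpy] at h2
          have h3 := xp_mul_y_injective d _ _ h2
          have h4 : (1 - e d) * k = 0 := by linear_combination -h3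
          rw [one_sub_e_mul_eq_zero_iff, two_mul_eq_zero_iff] at h4
          rcases h4 with rfl | rfl
          · left; exact xp_zero d
          · right; rfl
        · exfalso
          rw [xp_mul_xpy, xpy_mul_xp] at h1
          have h3 := xp_mul_y_injective d _ _ h1
          have h4 : (1 - e d) * quarter d = 0 := by linear_combination h3
          rw [one_sub_e_mul_eq_zero_iff, two_mul_quarter] at h4
          exact half_ne_zero d h4
      apply le_antisymm
      · intro s hs
        rw [Subgroup.mem_map]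
        rcases hcent s hs with rfl | rfl
        · exact ⟨1, Subgroup.one_mem _, rfl⟩
        · refine ⟨⟨z d, hzQ⟩, ?_, rfl⟩
          rw [Subgroup.mem_center_iff]
          intro g
          apply Subtype.ext
          exact z_central d g
      · intro s hs
        rw [Subgroup.mem_map] at hs
        obtain ⟨q, hq, rfl⟩ := hs
        rw [Subgroup.mem_center_iff] at hq
        rw [Subgroup.mem_centralizer_iff]
        intro t ht
        exact congrArg Subtype.val (hq ⟨t, ht⟩)
    · -- the normalizer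
      rw [Subgroup.relIndex_eq_two_iff]
      refine ⟨xp d (eighth d), ?_, ?_⟩
      · rw [Subgroup.mem_normalizer_iff_map_conj_eq]
        apply map_conj_xp d Q Q i i _ hQ hQ
        have : 4 * (i + 2 * u d * eighth d - i) = u d * (8 * eighth d) := by ring
        rw [this, eight_mul_eighth, mul_zero]
      · intro g hg
        have hgb : g * (xp d i * d.y) * g⁻¹ ∈ Q := (hg _).mp hbQ
        have hhalf : half d + half d = 0 := half_add_half d
        rcases cases d g with ⟨m, rfl⟩ | ⟨m, rfl⟩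
        · rw [conj_xp_xpy, hxpyQ, one_sub_e] at hgb
          have h8 : 2 * (4 * m) = 0 := by
            have h1 : 2 * (4 * m) = uinv d * (4 * (i + 2 * u d * m - i)) := by
              linear_combination (-8 * m) * u_mul_uinv d
            rw [h1, hgb, mul_zero]
          rw [xp_mul_xp, hxpQ, hxpQ, mul_add, four_mul_eighth]
          rcases (two_mul_eq_zero_iff d _).mp h8 with h | h
          · right
            refine ⟨h, ?_⟩
            rw [h, zero_add]
            exact half_ne_zero d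
          · left
            refine ⟨?_, ?_⟩
            · rw [h]; exact hhalf
            · rw [h]; exact half_ne_zero d
        · rw [conj_xpy_xpy, hxpyQ, one_sub_e] at hgb
          have h8 : 2 * (4 * (m - i)) = 0 := by
            have h1 : 2 * (4 * (m - i)) = uinv d * (4 * (e d * i + 2 * u d * m - i)) := by
              have h2 := one_sub_e d
              linear_combination (-8 * (m - i)) * u_mul_uinv d + (4 * uinv d * i) * h2
            rw [h1, hgb, mul_zero]
          rw [xpy_mul_xp, hxpyQ, hxpyQ]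
          have h3 : 4 * (m + e d * eighth d - i) = 4 * (m - i) + half d := by
            have := e_mul_half d
            linear_combination (e d) * four_mul_eighth d + this
          rw [h3]
          rcases (two_mul_eq_zero_iff d _).mp h8 with h | h
          · right
            refine ⟨h, ?_⟩
            rw [h, zero_add]
            exact half_ne_zero d
          · left
            refine ⟨?_, ?_⟩
            · rw [h]; exact hhalf
            · rw [h]; exact half_ne_zero d

end Cfsg.Agent.S1191
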