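import Mathlib
import Cfsg.Statements.S1203
import Cfsg.Agent.Lib.Helper6.NC
import Cfsg.Agent.S1190
import Cfsg.Agent.S1191

set_option autoImplicit false
open Cfsg

namespace Cfsg.Agent.S1203

open Subgroup Cfsg.Agent.Helper6.NC

theorem two_or_six (m : ℕ) (h6 : m ∣ 6) (h2 : 2 ∣ m) : m = 2 ∨ m = 6 := by
  have hle : m ≤ 6 := Nat.le_of_dvd (by norm_num) h6
  interval_cases m <;> omega

theorem exists_two_pow {G : Type*} [Group G] [Finite G] (S : Sylow 2 G) (s : G)
    (hs : s ∈ (S : Subgroup G)) : ∃ k : ℕ, s ^ (2 ^ k) = 1 := by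
  obtain ⟨k, hk⟩ := S.2 ⟨s, hs⟩
  refine ⟨k, ?_⟩
  have := congrArg Subtype.val hk
  simpa using this

/-- Let G be a finite group with quasi-dihedral Sylow 2-subgroup S, T a Klein four-subgroup of S and Q a quaternion subgroup of order 8 of S. Then |N_G(T) : C_G(T)| ∈ {2, 6} and |N_G(Q) : Q C_G(Q)| ∈ {2, 6}. -/
theorem result {G : Type*} [Group G] [Finite G] (S : Sylow 2 G) (hS : Cfsg.IsQuasiDihedral (S : Subgroup G)) (T : Subgroup G) (hT : IsKleinFour T) (hTS : T ≤ S) (Q : Subgroup G) (hQS : Q ≤ S) (eQ : Q ≃* QuaternionGroup 2) : ((Subgroup.centralizer (T : Set G)).relIndex (Subgroup.normalizer (T : Set G)) = 2 ∨ (Subgroup.centralizer (T : Set G)).relIndex (Subgroup.normalizer (T : Set G)) = 6) ∧ ((Q ⊔ Subgroup.centralizer (Q : Set G)).relIndex (Subgroup.normalizer (Q : Set G)) = 2 ∨ (Q ⊔ Subgroup.centralizer (Q : Set G)).relIndex (Subgroup.normalizer (Q : Set G)) = 6) := by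
  constructor
  · -- the four-group
    apply two_or_six
    · exact dvd_trans (relIndex_centralizer_dvd T) card_mulAut_kleinFour_dvd
    · -- an element of `N_S(T)` outside `C_S(T)`
      have e : T.subgroupOf (S : Subgroup G) ≃* T := Subgroup.subgroupOfEquivOfLe hTS
      have hT' : IsKleinFour (T.subgroupOf (S : Subgroup G)) := by
        constructor
        · rw [Nat.card_congr e.toEquiv]; exact hT.card_four
        · rw [Monoid.exponent_eq_of_mulEquiv e]; exact hT.exponent_two
      obtain ⟨hcent, hidx⟩ := (Cfsg.Agent.S1190.result hS).2 _ hT'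
      rw [Subgroup.relIndex_eq_two_iff] at hidx
      obtain ⟨s, hsN, hs⟩ := hidx
      have hsT : s ∉ T.subgroupOf (S : Subgroup G) := by
        have h1 := hs 1 (Subgroup.one_mem _)
        rw [one_mul] at h1
        rcases h1 with ⟨-, h2⟩ | ⟨-, h2⟩
        · exact absurd (Subgroup.one_mem _) h2
        · exact h2
      obtain ⟨k, hk⟩ := exists_two_pow S (s : G) s.2
      apply two_dvd_relIndex _ _ (centralizer_subgroupOf_normal T) (s : G)
        (coe_mem_normalizer _ T hTS s hsN) ?_ k hk
      intro hc
      apply hsT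
      rw [← hcent]
      exact mem_centralizer_subgroupOf _ T s hc
  · -- the quaternion group
    set C := Subgroup.centralizer (Q : Set G) with hC
    set N := Subgroup.normalizer (Q : Set G) with hN
    have hQN : Q ≤ N := Subgroup.le_normalizer
    have hCN : C ≤ N := by
      intro c hc t
      constructor
      · intro ht
        have h2 : t * c = c * t := (Subgroup.mem_centralizer_iff.mp hc) t ht
        have h3 : c * t * c⁻¹ = t := by rw [← h2]; group
        rw [h3]; exact ht
      · intro ht
        have hc' : c⁻¹ ∈ C := C.inv_mem hc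
        have h2 := (Subgroup.mem_centralizer_iff.mp hc') _ ht
        have h3 : t = c * t * c⁻¹ := by
          have : c * t * c⁻¹ * c⁻¹ = c⁻¹ * (c * t * c⁻¹) := h2
          have h4 : c * t * c⁻¹ * c⁻¹ = t * c⁻¹ := by rw [this]; group
          exact (mul_right_cancel h4).symm
        rw [h3]; exact ht
    have hKN : Q ⊔ C ≤ N := sup_le hQN hCN
    have hCK : C ≤ Q ⊔ C := le_sup_right
    have hCnorm : (C.subgroupOf N).Normal := centralizer_subgroupOf_normal Q
    have hQnorm : (Q.subgroupOf N).Normal := Subgroup.normal_in_normalizer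
    -- `|N : C|` divides `24`
    have h24 : C.relIndex N ∣ 24 := by
      have h1 := relIndex_centralizer_dvd Q
      have h2 : Nat.card (MulAut Q) = Nat.card (MulAut (QuaternionGroup 2)) :=
        Nat.card_congr (MulAut.congr eQ).toEquiv
      rw [h2] at h1
      exact dvd_trans h1 card_mulAut_Q8_dvd
    -- `|QC : C| = 4`
    have h4 : C.relIndex (Q ⊔ C) = 4 := by
      have h1 : C.relIndex (Q ⊔ C) = (C.subgroupOf N).relIndex ((Q ⊔ C).subgroupOf N) :=
        (Subgroup.relIndex_subgroupOf hKN).symm
      rw [h1, Subgroup.subgroupOf_sup hQN hCN, Subgroup.relIndex_sup_right,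
        Subgroup.relIndex_subgroupOf hQN]
      -- `C ∩ Q` is the centre of `Q`
      have h2 : C.subgroupOf Q = Subgroup.center Q := by
        ext q
        rw [Subgroup.mem_subgroupOf, Subgroup.mem_centralizer_iff, Subgroup.mem_center_iff]
        constructor
        · intro h t
          apply Subtype.ext
          exact h _ t.2
        · intro h t ht
          exact congrArg Subtype.val (h ⟨t, ht⟩)
      show (C.subgroupOf Q).index = 4
      rw [h2]
      have h3 : Nat.card (Subgroup.center Q) = 2 := by
        have e1 : Subgroup.center Q ≃ {w : QuaternionGroup 2 // ∀ v, v * w = w * v} :=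
          { toFun := fun q => ⟨eQ q.1, fun v => by
              have := (Subgroup.mem_center_iff.mp q.2) (eQ.symm v)
              have h := congrArg eQ this
              rwa [map_mul, map_mul, MulEquiv.apply_symm_apply] at h⟩
            invFun := fun w => ⟨eQ.symm w.1, by
              rw [Subgroup.mem_center_iff]
              intro g
              have := w.2 (eQ g)
              have h := congrArg eQ.symm this
              rwa [map_mul, map_mul, MulEquiv.symm_apply_apply] at h⟩
            left_inv := fun q => by simp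
            right_inv := fun w => by simp }
        rw [Nat.card_congr e1, Nat.card_eq_fintype_card]
        decide
      have h5 : Nat.card Q = 8 := by
        rw [Nat.card_congr eQ.toEquiv, Nat.card_eq_fintype_card, QuaternionGroup.card]
      have h6 := Subgroup.card_mul_index (Subgroup.center Q)
      rw [h3, h5] at h6
      omega
    have hmul := Subgroup.relIndex_mul_relIndex (H := C) (K := Q ⊔ C) (L := N) hCK hKN
    rw [h4] at hmul
    apply two_or_six
    · rw [← hmul] at h24
      have : 4 * (Q ⊔ C).relIndex N ∣ 4 * 6 := h24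
      exact Nat.dvd_of_mul_dvd_mul_left (by norm_num) this
    · -- an element of `N_S(Q)` outside `Q`
      have e : Q.subgroupOf (S : Subgroup G) ≃* Q := Subgroup.subgroupOfEquivOfLe hQS
      obtain ⟨hcent, hidx⟩ := (Cfsg.Agent.S1191.result hS).2 _ ⟨e.trans eQ⟩
      rw [Subgroup.relIndex_eq_two_iff] at hidx
      obtain ⟨s, hsN, hs⟩ := hidx
      have hsQ : s ∉ Q.subgroupOf (S : Subgroup G) := by
        have h1 := hs 1 (Subgroup.one_mem _)
        rw [one_mul] at h1
        rcases h1 with ⟨-, h2⟩ | ⟨-, h2⟩
        · exact absurd (Subgroup.one_mem _) h2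
        · exact h2
      obtain ⟨k, hk⟩ := exists_two_pow S (s : G) s.2
      have hKnorm : ((Q ⊔ C).subgroupOf N).Normal := by
        rw [Subgroup.subgroupOf_sup hQN hCN]
        infer_instance
      apply two_dvd_relIndex _ _ hKnorm (s : G) (coe_mem_normalizer _ Q hQS s hsN) ?_ k hk
      intro hsK
      apply hsQ
      -- decompose `s = q c`
      have hQC : Q ≤ Subgroup.normalizer ((C : Subgroup G) : Set G) :=
        le_trans hQN (normalizer_le_normalizer_centralizer Q)
      have hmem : (s : G) ∈ ((Q ⊔ C : Subgroup G) : Set G) := hsK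
      rw [Subgroup.coe_mul_of_left_le_normalizer_right Q C hQC, Set.mem_mul] at hmem
      obtain ⟨q, hq, c, hc, hqc⟩ := hmem
      have hcS : c ∈ (S : Subgroup G) := by
        have : c = q⁻¹ * (s : G) := by rw [← hqc]; group
        rw [this]
        exact Subgroup.mul_mem _ (Subgroup.inv_mem _ (hQS hq)) s.2
      have hc' : (⟨c, hcS⟩ : ↥(S : Subgroup G)) ∈
          Subgroup.centralizer ((Q.subgroupOf (S : Subgroup G) : Subgroup _) : Set _) :=
        mem_centralizer_subgroupOf _ Q ⟨c, hcS⟩ hc
      rw [hcent, Subgroup.mem_map] at hc'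
      obtain ⟨w, -, hw⟩ := hc'
      have hcQ : c ∈ Q := by
        have h1 : (w : ↥(S : Subgroup G)) ∈ Q.subgroupOf (S : Subgroup G) := w.2
        have h2 : ((w : ↥(S : Subgroup G)) : G) = c := congrArg Subtype.val hw
        rw [← h2]
        exact h1
      show (s : G) ∈ Q
      rw [← hqc]
      exact Q.mul_mem hq hcQ

end Cfsg.Agent.S1203
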