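import Mathlib
import Cfsg.Statements.S1204
import Cfsg.Agent.Lib.Helper6.QDFusion

set_option autoImplicit false
open Cfsg

namespace Cfsg.Agent.S1204

open Cfsg.Agent.Helper6 Cfsg.Agent.Helper6.QD

/-- Let G be a finite group with quasi-dihedral Sylow 2-subgroup S, T a Klein four-subgroup and Q a quaternion subgroup of order 8 of S, with |N_G(T) : C_G(T)| = 6 and |N_G(Q) : Q C_G(Q)| = 6. Then G has no subgroup of index 2, exactly one conjugacy class of involutions and exactly one conjugacy class of elements of order 4. -/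
theorem result {G : Type*} [Group G] [Finite G] (S : Sylow 2 G) (hS : Cfsg.IsQuasiDihedral (S : Subgroup G)) (T : Subgroup G) (hT : IsKleinFour T) (hTS : T ≤ S) (Q : Subgroup G) (hQS : Q ≤ S) (eQ : Q ≃* QuaternionGroup 2) (h₁ : (Subgroup.centralizer (T : Set G)).relIndex (Subgroup.normalizer (T : Set G)) = 6) (h₂ : (Q ⊔ Subgroup.centralizer (Q : Set G)).relIndex (Subgroup.normalizer (Q : Set G)) = 6) : (∀ H : Subgroup G, H.index ≠ 2) ∧ Nat.card {C : ConjClasses G // ∃ t : G, orderOf t = 2 ∧ ConjClasses.mk t = C} = 1 ∧ Nat.card {C : ConjClasses G // ∃ t : G, orderOf t = 4 ∧ ConjClasses.mk t = C} = 1 := by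
  obtain ⟨d⟩ := exists_data hS
  obtain ⟨g₁, -, j₁, hg₁⟩ := exists_fusion_z S d T hT hTS (by rw [h₁]; norm_num)
    (by rw [h₁]; norm_num)
  obtain ⟨g₂, -, j₂, hg₂⟩ := exists_fusion_a S d Q hQS eQ (by rw [h₂]; norm_num)
    (by rw [h₂]; norm_num)
  refine ⟨?_, ?_, ?_⟩
  · exact Fus.no_index_two S (sylow_le_commutator S d ⟨g₁, j₁, hg₁⟩ ⟨g₂, j₂, hg₂⟩)
  · exact Fus.card_classes_eq_one 2 _ (orderOf_coe_z S d) (invol_conj_z S d ⟨g₁, j₁, hg₁⟩)
  · exact Fus.card_classes_eq_one 4 _ (orderOf_coe_quarter S d)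
      (order_four_conj_a S d ⟨g₂, j₂, hg₂⟩)

end Cfsg.Agent.S1204
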