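import Mathlib
import Cfsg.Statements.S1205
import Cfsg.Agent.Lib.Helper6.QDFrobenius
import Cfsg.Agent.Lib.Helper6.QDIndexTwo
import Cfsg.Agent.S0111

set_option autoImplicit false
open Cfsg

namespace Cfsg.Agent.S1205

open Cfsg.Agent.Helper6 Cfsg.Agent.Helper6.QD
open scoped commutatorElement

/-- Let G be a finite group with quasi-dihedral Sylow 2-subgroup S, T a Klein four-subgroup and Q a quaternion subgroup of order 8 of S, with |N_G(T) : C_G(T)| = 2 and |N_G(Q) : Q C_G(Q)| = 6. Then G has a normal subgroup K of index 2 whose Sylow 2-subgroups are generalized quaternion and which has no subgroup of index 2; the centre of S is weakly closed in S; and G has exactly two classes of involutions and one class of elements of order 4. -/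
theorem result {G : Type*} [Group G] [Finite G] (S : Sylow 2 G) (hS : Cfsg.IsQuasiDihedral (S : Subgroup G)) (T : Subgroup G) (hT : IsKleinFour T) (hTS : T ≤ S) (Q : Subgroup G) (hQS : Q ≤ S) (eQ : Q ≃* QuaternionGroup 2) (h₁ : (Subgroup.centralizer (T : Set G)).relIndex (Subgroup.normalizer (T : Set G)) = 2) (h₂ : (Q ⊔ Subgroup.centralizer (Q : Set G)).relIndex (Subgroup.normalizer (Q : Set G)) = 6) : (∃ K : Subgroup G, K.Normal ∧ K.index = 2 ∧ (∀ P : Sylow 2 ↥K, ∃ m : ℕ, 1 ≤ m ∧ Nonempty ((P : Subgroup ↥K) ≃* QuaternionGroup (2 ^ m))) ∧ (∀ H : Subgroup ↥K, H.index ≠ 2)) ∧ Cfsg.IsWeaklyClosed ((Subgroup.center (S : Subgroup G)).map (S : Subgroup G).subtype) (S : Subgroup G) ∧ Nat.card {C : ConjClasses G // ∃ t : G, orderOf t = 2 ∧ ConjClasses.mk t = C} = 2 ∧ Nat.card {C : ConjClasses G // ∃ t : G, orderOf t = 4 ∧ ConjClasses.mk t = C} = 1 := by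
  have : Fact (Nat.Prime 2) := ⟨Nat.prime_two⟩
  obtain ⟨d⟩ := exists_data hS
  have hz : ¬ ∃ g : G, ∃ j, g * ((z d : ↥(S : Subgroup G)) : G) * g⁻¹ =
      ((inv2 d j : ↥(S : Subgroup G)) : G) := fun h =>
    fusion_z_relIndex_ne_two S d T hT hTS h h₁
  obtain ⟨g₂, -, j₂, hg₂⟩ := exists_fusion_a S d Q hQS eQ (by rw [h₂]; norm_num)
    (by rw [h₂]; norm_num)
  set a : G := ((xp d (quarter d) : ↥(S : Subgroup G)) : G) with ha_def
  set yG : G := ((inv2 d 0 : ↥(S : Subgroup G)) : G) with hyG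
  have hyP : yG ∈ (S : Subgroup G) := (inv2 d 0).2
  have hyord : orderOf yG = 2 := orderOf_coe_inv2 S d 0
  have hyQ : yG ∉ quatG S d := by
    intro h
    obtain ⟨j, h | h⟩ := (mem_quatG_iff S d _).mp h
    · have h1 : inv2 d 0 = xp d (2 * j) := Subtype.ext h
      unfold inv2 at h1
      exact xp_ne_xp_mul_y d _ _ h1.symm
    · have h1 : inv2 d 0 = xp d (2 * j + 1) * d.y := Subtype.ext h
      unfold inv2 at h1
      have h2 := xp_mul_y_injective d _ _ h1
      have h3 : half d * (2 * 0) = half d * (2 * j + 1) := by rw [h2]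
      apply half_ne_zero d
      linear_combination (-1 : ZMod (2 ^ d.n)) * h3 - j * two_mul_half d
  -- Thompson transfer
  obtain ⟨M, hMn, hMi, hyM⟩ : ∃ M : Subgroup G, M.Normal ∧ M.index = 2 ∧ yG ∉ M := by
    rcases Cfsg.Agent.S0111.result S (quatG S d) (quatG_le S d) (relIndex_quatG S d) yG hyord
      hyP hyQ with h | ⟨g, hg⟩
    · exact h
    · exfalso
      have hord : orderOf (g * yG * g⁻¹) = 2 := by rw [Fus.orderOf_conj', hyord]
      obtain ⟨j, h | h⟩ := (mem_quatG_iff S d _).mp hg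
      · rw [h, Subgroup.orderOf_coe, orderOf_xp_eq_two_iff] at hord
        apply hz
        refine ⟨g⁻¹, 0, ?_⟩
        have h1 : ((z d : ↥(S : Subgroup G)) : G) = g * yG * g⁻¹ := by
          rw [h, hord]; rfl
        rw [h1]
        have h5 : g⁻¹ * (g * yG * g⁻¹) * g⁻¹⁻¹ = yG := by group
        rw [h5]
      · rw [h, Subgroup.orderOf_coe] at hord
        have h4 : orderOf (xp d (2 * j + 1) * d.y) = 4 := by
          rw [orderOf_xpy_eq_four_iff]
          linear_combination j * two_mul_half d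
        rw [h4] at hord
        norm_num at hord
  -- `quatG ≤ M`
  have haM : a ∈ M := by
    have h1 : xp d (quarter d) = xp d (2 * eighth d) := by rw [two_mul_eighth]
    rw [ha_def, h1]
    exact coe_xp_even_mem S d M hMi _
  have hb₂M : ((xp d (2 * j₂ + 1) * d.y : ↥(S : Subgroup G)) : G) ∈ M := by
    rw [← hg₂]
    exact hMn.conj_mem _ haM g₂
  have hoddM : ∀ j, ((xp d (2 * j + 1) * d.y : ↥(S : Subgroup G)) : G) ∈ M := by
    intro j
    have h1 : xp d (2 * j + 1) * d.y = xp d (2 * (j - j₂)) * (xp d (2 * j₂ + 1) * d.y) := by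
      rw [xp_mul_xpy]; congr 2; ring
    rw [h1, Subgroup.coe_mul]
    exact M.mul_mem (coe_xp_even_mem S d M hMi _) hb₂M
  have hQM : quatG S d ≤ M := by
    intro w hw
    obtain ⟨j, rfl | rfl⟩ := (mem_quatG_iff S d _).mp hw
    · exact coe_xp_even_mem S d M hMi j
    · exact hoddM j
  have hxM : ((xp d 1 : ↥(S : Subgroup G)) : G) ∉ M := by
    intro hx
    apply hyM
    have h1 : inv2 d 0 = (xp d 1)⁻¹ * (xp d (2 * 0 + 1) * d.y) := by
      unfold inv2
      rw [xp_inv, xp_mul_xpy]; congr 2; ring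
    rw [hyG, h1, Subgroup.coe_mul, Subgroup.coe_inv]
    exact M.mul_mem (M.inv_mem hx) (hoddM 0)
  -- conjugation inside `M`
  have hconjM : ∀ j, ∃ m ∈ M, m * a * m⁻¹ = ((xp d (2 * j + 1) * d.y : ↥(S : Subgroup G)) : G) := by
    intro j
    obtain ⟨p, hp⟩ := exists_conj_odd' d j₂ j
    have h1 : ((p : G) * g₂) * a * ((p : G) * g₂)⁻¹ =
        ((xp d (2 * j + 1) * d.y : ↥(S : Subgroup G)) : G) := by
      have h2 : ((p : G) * g₂) * a * ((p : G) * g₂)⁻¹ = (p : G) * (g₂ * a * g₂⁻¹) * (p : G)⁻¹ := by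
        group
      rw [h2, hg₂, coe_conj, hp]
    by_cases hm : (p : G) * g₂ ∈ M
    · exact ⟨_, hm, h1⟩
    · refine ⟨(p : G) * g₂ * ((xp d 1 : ↥(S : Subgroup G)) : G),
        Fus.mul_mem_of_index_two M hMi _ _ hm hxM, ?_⟩
      have h3 : ((xp d 1 : ↥(S : Subgroup G)) : G) * a * ((xp d 1 : ↥(S : Subgroup G)) : G)⁻¹ = a := by
        rw [ha_def, coe_conj, conj_xp_xp]
      calc (p : G) * g₂ * ((xp d 1 : ↥(S : Subgroup G)) : G) * a *
            ((p : G) * g₂ * ((xp d 1 : ↥(S : Subgroup G)) : G))⁻¹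
          = ((p : G) * g₂) * (((xp d 1 : ↥(S : Subgroup G)) : G) * a *
            ((xp d 1 : ↥(S : Subgroup G)) : G)⁻¹) * ((p : G) * g₂)⁻¹ := by group
        _ = _ := by rw [h3, h1]
  -- the commutator subgroup of `M`
  have hba : ∀ j, ((xp d (2 * j + 1) * d.y : ↥(S : Subgroup G)) : G) * a⁻¹ ∈ ⁅M, M⁆ := by
    intro j
    obtain ⟨m, hm, hma⟩ := hconjM j
    rw [← hma]
    have h1 : m * a * m⁻¹ * a⁻¹ = ⁅m, a⁆ := by rw [commutatorElement_def]
    rw [h1]
    exact Subgroup.commutator_mem_commutator hm haM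
  have hx2 : ((xp d 2 : ↥(S : Subgroup G)) : G) ∈ ⁅M, M⁆ := by
    have h1 := Subgroup.mul_mem _ (hba 1) (Subgroup.inv_mem _ (hba 0))
    have h2 : ((xp d (2 * 1 + 1) * d.y : ↥(S : Subgroup G)) : G) * a⁻¹ *
        (((xp d (2 * 0 + 1) * d.y : ↥(S : Subgroup G)) : G) * a⁻¹)⁻¹ =
        ((xp d 2 : ↥(S : Subgroup G)) : G) := by
      have h3 : ((xp d (2 * 1 + 1) * d.y : ↥(S : Subgroup G)) : G) * a⁻¹ *
          (((xp d (2 * 0 + 1) * d.y : ↥(S : Subgroup G)) : G) * a⁻¹)⁻¹ =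
          ((xp d (2 * 1 + 1) * d.y : ↥(S : Subgroup G)) : G) *
          ((xp d (2 * 0 + 1) * d.y : ↥(S : Subgroup G)) : G)⁻¹ := by group
      rw [h3, ← Subgroup.coe_inv, ← Subgroup.coe_mul]
      congr 1
      rw [mul_inv_rev, mul_assoc, ← mul_assoc d.y, mul_inv_cancel, one_mul, xp_inv, xp_mul_xp]
      congr 1
      ring
    rwa [h2] at h1
  have haC : a ∈ ⁅M, M⁆ := by
    have h1 : xp d (quarter d) = xp d (2 * eighth d) := by rw [two_mul_eighth]
    rw [ha_def, h1]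
    exact coe_xp_even_mem_of S d _ hx2 _
  have hcom : quatG S d ≤ ⁅M, M⁆ := by
    intro w hw
    obtain ⟨j, rfl | rfl⟩ := (mem_quatG_iff S d _).mp hw
    · exact coe_xp_even_mem_of S d _ hx2 j
    · have h1 := Subgroup.mul_mem _ (hba j) haC
      rwa [inv_mul_cancel_right] at h1
  refine ⟨⟨M, hMn, hMi, ?_, ?_⟩, ?_, ?_, ?_⟩
  · intro R
    obtain ⟨e⟩ := Fus.sylow_equiv_of_index_two S M hMi (quatG S d) hQM (quatG_le S d)
      (relIndex_quatG S d) R
    obtain ⟨e'⟩ := quatG_equiv S d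
    exact ⟨d.n - 2, by have := d.hn; omega, ⟨e.trans e'⟩⟩
  · exact Fus.no_index_two_of_le_commutator S M hMi (quatG S d) hQM (quatG_le S d)
      (relIndex_quatG S d) hcom
  · exact center_weaklyClosed S d hz
  · apply Fus.card_classes_eq_two 2 ((z d : ↥(S : Subgroup G)) : G) yG (orderOf_coe_z S d) hyord
    · rintro ⟨g, hg⟩
      exact hz ⟨g, 0, hg⟩
    · exact invol_conj_cases S d
  · exact Fus.card_classes_eq_one 4 _ (orderOf_coe_quarter S d)
      (order_four_conj_a S d ⟨g₂, j₂, hg₂⟩)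

end Cfsg.Agent.S1205
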