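import Mathlib
import Cfsg.Statements.S3225

set_option autoImplicit false
open Cfsg

namespace Cfsg.Agent.S3225

open scoped Classical in
/-- the sign homomorphism of a subgroup of relative index two -/
noncomputable def signHom {G : Type*} [Group G] (S M : Subgroup G) (hM : M.relIndex S = 2) : ↥S →* ℤˣ where
  toFun s := if (s : G) ∈ M then 1 else -1
  map_one' := by simp [M.one_mem]
  map_mul' a b := by
    have h := Subgroup.mul_mem_iff_of_index_two (H := M.subgroupOf S) hM (a := a) (b := b)
    simp only [Subgroup.mem_subgroupOf, Subgroup.coe_mul] at h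
    by_cases ha : (a : G) ∈ M <;> by_cases hb : (b : G) ∈ M <;> simp_all

lemma signHom_apply_of_mem {G : Type*} [Group G] (S M : Subgroup G) (hM : M.relIndex S = 2) (s : ↥S)
    (hs : (s : G) ∈ M) : signHom S M hM s = 1 := by
  simp [signHom, hs]

lemma signHom_apply_of_not_mem {G : Type*} [Group G] (S M : Subgroup G) (hM : M.relIndex S = 2) (s : ↥S)
    (hs : (s : G) ∉ M) : signHom S M hM s = -1 := by
  simp [signHom, hs]

/-- Let G be a finite group of even order with no subgroup of index 2, S a Sylow 2-subgroup of G and M a subgroup of index 2 in S such that, for some n ≥ 1, every element of S outside M has order greater than 2^(n−1). Then every element of S of order 2ⁿ is conjugate in G to an element of M. -/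
theorem result {G : Type*} [Group G] [Finite G] (hev : Even (Nat.card G))
    (hG : ∀ H : Subgroup G, H.index ≠ 2) (S : Sylow 2 G) (M : Subgroup G) (hMS : M ≤ (S : Subgroup G)) (hM : M.relIndex (S : Subgroup G) = 2)
    (n : ℕ) (hn : 1 ≤ n) (hord : ∀ y ∈ (S : Subgroup G), y ∉ M → 2 ^ (n - 1) < orderOf y)
    (x : G) (hx : x ∈ (S : Subgroup G)) (hxn : orderOf x = 2 ^ n) :
    ∃ g : G, g * x * g⁻¹ ∈ M := by
  classical
  have : Fact (Nat.Prime 2) := ⟨Nat.prime_two⟩
  by_contra hcon
  push Not at hcon
  set ε := signHom (S : Subgroup G) M hM with hε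
  set V : G →* ℤˣ := MonoidHom.transfer ε with hV
  -- V is trivial since G has no subgroup of index 2
  have hker : V.ker = ⊤ := by
    have h1 : V.ker.index = Nat.card V.range := Subgroup.index_ker V
    have h2 : Nat.card V.range ∣ Nat.card ℤˣ := Subgroup.card_subgroup_dvd_card _
    have h3 : Nat.card ℤˣ = 2 := by
      rw [Nat.card_eq_fintype_card]; rfl
    rw [h3, ← h1] at h2
    have h4 : V.ker.index = 1 ∨ V.ker.index = 2 := by
      have := Nat.le_of_dvd (by norm_num) h2
      have hpos : V.ker.index ≠ 0 := Subgroup.index_ne_zero_of_finite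
      interval_cases V.ker.index
      · exact absurd rfl hpos
      · exact Or.inl rfl
      · exact Or.inr rfl
    rcases h4 with h4 | h4
    · exact Subgroup.index_eq_one.mp h4
    · exact absurd h4 (hG _)
  have hVx : V x = 1 := by
    have : x ∈ V.ker := by rw [hker]; trivial
    exact this
  -- compute V x
  let _ : Fintype (Quotient (MulAction.orbitRel (Subgroup.zpowers x) (G ⧸ (S : Subgroup G)))) := Fintype.ofFinite _
  have hformula := MonoidHom.transfer_eq_prod_quotient_orbitRel_zpowers_quot ε x
  have hsum := Subgroup.index_eq_sum_minimalPeriod (S : Subgroup G) x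
  have key : ∀ (r : ℕ) (g : G) (hmem : g⁻¹ * x ^ r * g ∈ (S : Subgroup G)), r ∣ 2 ^ n →
      ε ⟨g⁻¹ * x ^ r * g, hmem⟩ = (-1 : ℤˣ) ^ r := by
    intro r g hmemS hrdvd
    obtain ⟨k, hk, hrk⟩ := (Nat.dvd_prime_pow Nat.prime_two).mp hrdvd
    by_cases hk0 : k = 0
    · -- r = 1
      have hr1 : r = 1 := by rw [hrk, hk0, pow_zero]
      subst hr1
      conv_rhs => rw [pow_one]
      apply signHom_apply_of_not_mem
      have := hcon g⁻¹
      simpa using this
    · -- r even
      have hreven : Even r := by
        rw [hrk]; exact (Nat.even_pow' hk0).mpr even_two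
      rw [hreven.neg_one_pow]
      apply signHom_apply_of_mem
      by_contra hnotmem
      have hlt := hord _ hmemS hnotmem
      -- but the order is at most 2^(n-1)
      have hpow : (g⁻¹ * x ^ r * g) ^ (2 ^ (n - k)) = 1 := by
        have h1 : (g⁻¹ * x ^ r * g) ^ (2 ^ (n - k)) = g⁻¹ * (x ^ r) ^ (2 ^ (n - k)) * g := by
          have := conj_pow (a := g⁻¹) (b := x ^ r) (i := 2 ^ (n - k))
          simpa using this
        rw [h1, ← pow_mul, hrk, ← pow_add, Nat.add_sub_cancel' hk, ← hxn, pow_orderOf_eq_one]
        simp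
      have hle : orderOf (g⁻¹ * x ^ r * g) ≤ 2 ^ (n - k) :=
        Nat.le_of_dvd (by positivity) (orderOf_dvd_of_pow_eq_one hpow)
      have hle2 : 2 ^ (n - k) ≤ 2 ^ (n - 1) := Nat.pow_le_pow_right (by norm_num) (by omega)
      omega
  have hterm : ∀ q : Quotient (MulAction.orbitRel (Subgroup.zpowers x) (G ⧸ (S : Subgroup G))),
      ε ⟨q.out.out⁻¹ * x ^ Function.minimalPeriod (x • ·) q.out * q.out.out,
            QuotientGroup.out_conj_pow_minimalPeriod_mem (S : Subgroup G) x q.out⟩ =
        (-1 : ℤˣ) ^ Function.minimalPeriod (x • ·) q.out := by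
    intro q
    apply key
    apply Function.IsPeriodicPt.minimalPeriod_dvd
    rw [← hxn]
    show (x • ·)^[orderOf x] q.out = q.out
    rw [smul_iterate, pow_orderOf_eq_one]
    exact one_smul _ _
  have hodd : Odd (S : Subgroup G).index := by
    rw [← Nat.not_even_iff_odd, even_iff_two_dvd]
    exact S.not_dvd_index
  rw [hformula] at hVx
  rw [Finset.prod_congr rfl (fun q _ => hterm q), Finset.prod_pow_eq_pow_sum, ← hsum,
    hodd.neg_one_pow] at hVx
  exact absurd hVx (by decide)

end Cfsg.Agent.S3225
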