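import Mathlib
import Cfsg.Statements.S1206
import Cfsg.Agent.Lib.Helper6.QDFrobenius
import Cfsg.Agent.Lib.Helper6.QDIndexTwo
import Cfsg.Agent.S3225
import Cfsg.Agent.Lib.Helper6.ZModTwoPow

set_option autoImplicit false
open Cfsg

namespace Cfsg.Agent.S1206

open Cfsg.Agent.Helper6 Cfsg.Agent.Helper6.QD
open scoped commutatorElement

/-- Let G be a finite group with quasi-dihedral Sylow 2-subgroup S, T a Klein four-subgroup and Q a quaternion subgroup of order 8 of S, with |N_G(T) : C_G(T)| = 6 and |N_G(Q) : Q C_G(Q)| = 2. Then G has a normal subgroup K of index 2 whose Sylow 2-subgroups are dihedral and which has no subgroup of index 2, and G has exactly one class of involutions and two classes of elements of order 4. -/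
theorem result {G : Type*} [Group G] [Finite G] (S : Sylow 2 G) (hS : Cfsg.IsQuasiDihedral (S : Subgroup G)) (T : Subgroup G) (hT : IsKleinFour T) (hTS : T ≤ S) (Q : Subgroup G) (hQS : Q ≤ S) (eQ : Q ≃* QuaternionGroup 2) (h₁ : (Subgroup.centralizer (T : Set G)).relIndex (Subgroup.normalizer (T : Set G)) = 6) (h₂ : (Q ⊔ Subgroup.centralizer (Q : Set G)).relIndex (Subgroup.normalizer (Q : Set G)) = 2) : (∃ K : Subgroup G, K.Normal ∧ K.index = 2 ∧ (∀ P : Sylow 2 ↥K, ∃ m : ℕ, Nonempty ((P : Subgroup ↥K) ≃* DihedralGroup m)) ∧ (∀ H : Subgroup ↥K, H.index ≠ 2)) ∧ Nat.card {C : ConjClasses G // ∃ t : G, orderOf t = 2 ∧ ConjClasses.mk t = C} = 1 ∧ Nat.card {C : ConjClasses G // ∃ t : G, orderOf t = 4 ∧ ConjClasses.mk t = C} = 2 := by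
  have : Fact (Nat.Prime 2) := ⟨Nat.prime_two⟩
  obtain ⟨d⟩ := exists_data hS
  have ha : ¬ ∃ g : G, ∃ j, g * ((xp d (quarter d) : ↥(S : Subgroup G)) : G) * g⁻¹ =
      ((xp d (2 * j + 1) * d.y : ↥(S : Subgroup G)) : G) := fun h =>
    fusion_a_relIndex_ne_two S d Q hQS eQ h h₂
  obtain ⟨g₁, -, j₁, hg₁⟩ := exists_fusion_z S d T hT hTS (by rw [h₁]; norm_num)
    (by rw [h₁]; norm_num)
  set zG : G := ((z d : ↥(S : Subgroup G)) : G) with hzG
  set a : G := ((xp d (quarter d) : ↥(S : Subgroup G)) : G) with ha_def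
  set b : G := ((xp d (2 * 0 + 1) * d.y : ↥(S : Subgroup G)) : G) with hb_def
  -- a subgroup of index two
  obtain ⟨K, hKi⟩ : ∃ K : Subgroup G, K.index = 2 := by
    by_contra hcon
    push Not at hcon
    have hev : Even (Nat.card G) := by
      have h1 : Nat.card (S : Subgroup G) ∣ Nat.card G := Subgroup.card_subgroup_dvd_card _
      rw [d.card] at h1
      have h2 : 2 ∣ Nat.card G := dvd_trans (dvd_pow_self 2 (by omega)) h1
      exact even_iff_two_dvd.mpr h2
    have hord : ∀ y ∈ (S : Subgroup G), y ∉ dihG S d → 2 ^ (2 - 1) < orderOf y := by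
      intro y hy hyD
      have hpos : 0 < orderOf y := orderOf_pos y
      rcases cases d ⟨y, hy⟩ with ⟨i, hi⟩ | ⟨i, hi⟩
      · have h1 : y = ((xp d i : ↥(S : Subgroup G)) : G) := congrArg Subtype.val hi
        rcases Z2.parity d.n i with ⟨j, rfl⟩ | ⟨j, rfl⟩
        · exact absurd ((mem_dihG_iff S d y).mpr ⟨j, Or.inl h1⟩) hyD
        · have h2 : orderOf y ≠ 1 := by
            rw [h1, Subgroup.orderOf_coe, Ne, orderOf_eq_one_iff, xp_eq_one_iff]
            intro h3
            apply half_ne_zero d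
            have h4 : half d * (2 * j + 1) = 0 := by rw [h3, mul_zero]
            linear_combination h4 - j * two_mul_half d
          have h3 : orderOf y ≠ 2 := by
            rw [h1, Subgroup.orderOf_coe, Ne, orderOf_xp_eq_two_iff]
            intro h3
            apply half_ne_zero d
            have h4 : half d * (2 * j + 1) = half d * half d := by rw [h3]
            linear_combination h4 - j * two_mul_half d + half_mul_half d
          norm_num
          omega
      · have h1 : y = ((xp d i * d.y : ↥(S : Subgroup G)) : G) := congrArg Subtype.val hi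
        rcases Z2.parity d.n i with ⟨j, rfl⟩ | ⟨j, rfl⟩
        · exact absurd ((mem_dihG_iff S d y).mpr ⟨j, Or.inr h1⟩) hyD
        · have h2 : orderOf y = 4 := by
            rw [h1, Subgroup.orderOf_coe, orderOf_xpy_eq_four_iff]
            linear_combination j * two_mul_half d
          rw [h2]; norm_num
    have hbord : orderOf b = 2 ^ 2 := by rw [hb_def, orderOf_coe_xy]; norm_num
    obtain ⟨g, hg⟩ := Cfsg.Agent.S3225.result hev hcon S (dihG S d) (dihG_le S d)
      (relIndex_dihG S d) 2 (by norm_num) hord b (xp d (2 * 0 + 1) * d.y).2 hbord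
    have hgord : orderOf (g * b * g⁻¹) = 4 := by rw [Fus.orderOf_conj', hbord]; norm_num
    obtain ⟨j, h | h⟩ := (mem_dihG_iff S d _).mp hg
    · rw [h, Subgroup.orderOf_coe, orderOf_xp_eq_four_iff] at hgord
      apply ha
      rcases hgord with h3 | h3
      · refine ⟨g⁻¹, 0, ?_⟩
        have h4 : a = g * b * g⁻¹ := by
          rw [ha_def, h, h3]
        rw [h4]
        have h5 : g⁻¹ * (g * b * g⁻¹) * g⁻¹⁻¹ = b := by group
        rw [h5]
      · refine ⟨g⁻¹ * (d.y : G), 0, ?_⟩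
        have h4 : (d.y : G) * a * (d.y : G)⁻¹ = g * b * g⁻¹ := by
          rw [ha_def, h, h3, coe_conj, y_conj_quarter]
        have h5 : g⁻¹ * (d.y : G) * a * (g⁻¹ * (d.y : G))⁻¹ =
            g⁻¹ * ((d.y : G) * a * (d.y : G)⁻¹) * g := by group
        rw [h5, h4]
        have h6 : g⁻¹ * (g * b * g⁻¹) * g = b := by group
        rw [h6]
    · rw [h, Subgroup.orderOf_coe] at hgord
      have h4 : orderOf (xp d (2 * j) * d.y) = 2 := by
        rw [orderOf_xpy_eq_two_iff]
        linear_combination j * two_mul_half d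
      rw [h4] at hgord
      norm_num at hgord
  have hKn : K.Normal := Subgroup.normal_of_index_eq_two hKi
  -- `dihG ≤ K`
  have hzK : zG ∈ K := by
    have h1 : z d = xp d (2 * quarter d) := by unfold z; rw [two_mul_quarter]
    rw [hzG, h1]
    exact coe_xp_even_mem S d K hKi _
  have hy₁K : ((inv2 d j₁ : ↥(S : Subgroup G)) : G) ∈ K := by
    rw [← hg₁]
    exact hKn.conj_mem _ hzK g₁
  have hinvK : ∀ j, ((inv2 d j : ↥(S : Subgroup G)) : G) ∈ K := by
    intro j
    have h1 : inv2 d j = xp d (2 * (j - j₁)) * inv2 d j₁ := by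
      unfold inv2
      rw [xp_mul_xpy]; congr 2; ring
    rw [h1, Subgroup.coe_mul]
    exact K.mul_mem (coe_xp_even_mem S d K hKi _) hy₁K
  have hDK : dihG S d ≤ K := by
    intro w hw
    obtain ⟨j, rfl | rfl⟩ := (mem_dihG_iff S d _).mp hw
    · exact coe_xp_even_mem S d K hKi j
    · exact hinvK j
  have hxK : ((xp d 1 : ↥(S : Subgroup G)) : G) ∉ K := by
    intro hx
    have hPK : (S : Subgroup G) ≤ K := by
      intro p hp
      have hxp : ∀ i, ((xp d i : ↥(S : Subgroup G)) : G) ∈ K := by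
        intro i
        have h1 : xp d i = (xp d 1) ^ i.val := by
          rw [xp_pow, mul_one, ZMod.natCast_zmod_val]
        rw [h1, Subgroup.coe_pow]
        exact K.pow_mem hx _
      have hyK : (d.y : G) ∈ K := by
        have := hinvK 0
        rwa [inv2_zero] at this
      rcases cases d ⟨p, hp⟩ with ⟨i, hi⟩ | ⟨i, hi⟩
      · have : p = ((xp d i : ↥(S : Subgroup G)) : G) := congrArg Subtype.val hi
        rw [this]; exact hxp i
      · have : p = ((xp d i * d.y : ↥(S : Subgroup G)) : G) := congrArg Subtype.val hi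
        rw [this, Subgroup.coe_mul]
        exact K.mul_mem (hxp i) hyK
    have h2 : K.index ∣ (S : Subgroup G).index := Subgroup.index_dvd_of_le hPK
    rw [hKi] at h2
    exact S.not_dvd_index h2
  -- conjugation inside `K`
  have hconjK : ∀ j, ∃ k ∈ K, k * zG * k⁻¹ = ((inv2 d j : ↥(S : Subgroup G)) : G) := by
    intro j
    obtain ⟨p, hp⟩ := exists_conj_inv2 d j₁ j
    have h1 : ((p : G) * g₁) * zG * ((p : G) * g₁)⁻¹ =
        ((inv2 d j : ↥(S : Subgroup G)) : G) := by
      have h2 : ((p : G) * g₁) * zG * ((p : G) * g₁)⁻¹ = (p : G) * (g₁ * zG * g₁⁻¹) * (p : G)⁻¹ := by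
        group
      rw [h2, hg₁, coe_conj, hp]
    by_cases hm : (p : G) * g₁ ∈ K
    · exact ⟨_, hm, h1⟩
    · refine ⟨(p : G) * g₁ * ((xp d 1 : ↥(S : Subgroup G)) : G),
        Fus.mul_mem_of_index_two K hKi _ _ hm hxK, ?_⟩
      have h3 : ((xp d 1 : ↥(S : Subgroup G)) : G) * zG *
          ((xp d 1 : ↥(S : Subgroup G)) : G)⁻¹ = zG := by
        rw [hzG, coe_conj, conj_z]
      calc (p : G) * g₁ * ((xp d 1 : ↥(S : Subgroup G)) : G) * zG *
            ((p : G) * g₁ * ((xp d 1 : ↥(S : Subgroup G)) : G))⁻¹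
          = ((p : G) * g₁) * (((xp d 1 : ↥(S : Subgroup G)) : G) * zG *
            ((xp d 1 : ↥(S : Subgroup G)) : G)⁻¹) * ((p : G) * g₁)⁻¹ := by group
        _ = _ := by rw [h3, h1]
  -- the commutator subgroup of `K`
  have hyz : ∀ j, ((inv2 d j : ↥(S : Subgroup G)) : G) * zG⁻¹ ∈ ⁅K, K⁆ := by
    intro j
    obtain ⟨k, hk, hkz⟩ := hconjK j
    rw [← hkz]
    have h1 : k * zG * k⁻¹ * zG⁻¹ = ⁅k, zG⁆ := by rw [commutatorElement_def]
    rw [h1]
    exact Subgroup.commutator_mem_commutator hk hzK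
  have hx2 : ((xp d 2 : ↥(S : Subgroup G)) : G) ∈ ⁅K, K⁆ := by
    have h1 := Subgroup.mul_mem _ (hyz 1) (Subgroup.inv_mem _ (hyz 0))
    have h2 : ((inv2 d 1 : ↥(S : Subgroup G)) : G) * zG⁻¹ *
        (((inv2 d 0 : ↥(S : Subgroup G)) : G) * zG⁻¹)⁻¹ =
        ((xp d 2 : ↥(S : Subgroup G)) : G) := by
      have h3 : ((inv2 d 1 : ↥(S : Subgroup G)) : G) * zG⁻¹ *
          (((inv2 d 0 : ↥(S : Subgroup G)) : G) * zG⁻¹)⁻¹ =
          ((inv2 d 1 : ↥(S : Subgroup G)) : G) * ((inv2 d 0 : ↥(S : Subgroup G)) : G)⁻¹ := by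
        group
      rw [h3, ← Subgroup.coe_inv, ← Subgroup.coe_mul]
      congr 1
      unfold inv2
      rw [mul_zero, xp_zero, one_mul, mul_one, mul_assoc, mul_inv_cancel, mul_one]
    rwa [h2] at h1
  have hzC : zG ∈ ⁅K, K⁆ := by
    have h1 : z d = xp d (2 * quarter d) := by unfold z; rw [two_mul_quarter]
    rw [hzG, h1]
    exact coe_xp_even_mem_of S d _ hx2 _
  have hcom : dihG S d ≤ ⁅K, K⁆ := by
    intro w hw
    obtain ⟨j, rfl | rfl⟩ := (mem_dihG_iff S d _).mp hw
    · exact coe_xp_even_mem_of S d _ hx2 j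
    · have h1 := Subgroup.mul_mem _ (hyz j) hzC
      rwa [inv_mul_cancel_right] at h1
  refine ⟨⟨K, hKn, hKi, ?_, ?_⟩, ?_, ?_⟩
  · intro R
    obtain ⟨e⟩ := Fus.sylow_equiv_of_index_two S K hKi (dihG S d) hDK (dihG_le S d)
      (relIndex_dihG S d) R
    obtain ⟨e'⟩ := dihG_equiv S d
    exact ⟨2 ^ (d.n - 1), ⟨e.trans e'⟩⟩
  · exact Fus.no_index_two_of_le_commutator S K hKi (dihG S d) hDK (dihG_le S d)
      (relIndex_dihG S d) hcom
  · exact Fus.card_classes_eq_one 2 _ (orderOf_coe_z S d) (invol_conj_z S d ⟨g₁, j₁, hg₁⟩)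
  · apply Fus.card_classes_eq_two 4 a b (orderOf_coe_quarter S d) (orderOf_coe_xy S d)
    · rintro ⟨g, hg⟩
      exact ha ⟨g, 0, hg⟩
    · exact order_four_conj_cases S d

end Cfsg.Agent.S1206
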