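import Mathlib
import Cfsg.Statements.S1207
import Cfsg.Agent.Lib.Helper6.QDFrobenius
import Cfsg.Agent.S0071

set_option autoImplicit false
open Cfsg

namespace Cfsg.Agent.S1207

open Cfsg.Agent.Helper6 Cfsg.Agent.Helper6.QD

/-- Let G be a finite group with quasi-dihedral Sylow 2-subgroup S, T a Klein four-subgroup and Q a quaternion subgroup of order 8 of S, with |N_G(T) : C_G(T)| = 2 and |N_G(Q) : Q C_G(Q)| = 2. Then G has a normal 2-complement, exactly two classes of involutions and exactly two classes of elements of order 4. -/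
theorem result {G : Type*} [Group G] [Finite G] (S : Sylow 2 G) (hS : Cfsg.IsQuasiDihedral (S : Subgroup G)) (T : Subgroup G) (hT : IsKleinFour T) (hTS : T ≤ S) (Q : Subgroup G) (hQS : Q ≤ S) (eQ : Q ≃* QuaternionGroup 2) (h₁ : (Subgroup.centralizer (T : Set G)).relIndex (Subgroup.normalizer (T : Set G)) = 2) (h₂ : (Q ⊔ Subgroup.centralizer (Q : Set G)).relIndex (Subgroup.normalizer (Q : Set G)) = 2) : Cfsg.HasNormalPComplement 2 G ∧ Nat.card {C : ConjClasses G // ∃ t : G, orderOf t = 2 ∧ ConjClasses.mk t = C} = 2 ∧ Nat.card {C : ConjClasses G // ∃ t : G, orderOf t = 4 ∧ ConjClasses.mk t = C} = 2 := by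
  have : Fact (Nat.Prime 2) := ⟨Nat.prime_two⟩
  obtain ⟨d⟩ := exists_data hS
  have hz : ¬ ∃ g : G, ∃ j, g * ((z d : ↥(S : Subgroup G)) : G) * g⁻¹ =
      ((inv2 d j : ↥(S : Subgroup G)) : G) := fun h =>
    fusion_z_relIndex_ne_two S d T hT hTS h h₁
  have ha : ¬ ∃ g : G, ∃ j, g * ((xp d (quarter d) : ↥(S : Subgroup G)) : G) * g⁻¹ =
      ((xp d (2 * j + 1) * d.y : ↥(S : Subgroup G)) : G) := fun h =>
    fusion_a_relIndex_ne_two S d Q hQS eQ h h₂
  refine ⟨?_, ?_, ?_⟩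
  · obtain ⟨N, hN, hc⟩ := (Cfsg.Agent.S0071.result S).mpr
      (fun H hH g hg hodd => odd_normalizer_le_centralizer S d hz ha H hH g hg hodd)
    exact ⟨S, N, hN, hc⟩
  · -- involutions
    have hy0 : inv2 d 0 = d.y := by
      unfold inv2; rw [mul_zero, xp_zero, one_mul]
    apply Fus.card_classes_eq_two 2 ((z d : ↥(S : Subgroup G)) : G)
      ((inv2 d 0 : ↥(S : Subgroup G)) : G) (orderOf_coe_z S d)
      (by rw [Subgroup.orderOf_coe, orderOf_inv2])
    · rintro ⟨g, hg⟩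
      exact hz ⟨g, 0, hg⟩
    · intro t ht
      obtain ⟨g₁, hg₁⟩ := Fus.exists_conj_mem_sylow S t 1 (by rw [ht, pow_one])
      have hs : orderOf (⟨g₁ * t * g₁⁻¹, hg₁⟩ : ↥(S : Subgroup G)) = 2 := by
        rw [Subgroup.orderOf_mk, Fus.orderOf_conj', ht]
      rcases invol_cases' d _ hs with h | ⟨j', h⟩
      · left; exact ⟨g₁, congrArg Subtype.val h⟩
      · right
        obtain ⟨s₂, hs₂⟩ := exists_conj_inv2 d j' 0
        refine ⟨(s₂ : G) * g₁, ?_⟩
        have h3 : g₁ * t * g₁⁻¹ = ((inv2 d j' : ↥(S : Subgroup G)) : G) := congrArg Subtype.val h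
        have h4 : (s₂ : G) * g₁ * t * ((s₂ : G) * g₁)⁻¹ =
            (s₂ : G) * (g₁ * t * g₁⁻¹) * (s₂ : G)⁻¹ := by group
        rw [h4, h3, coe_conj, hs₂]
  · -- elements of order four
    apply Fus.card_classes_eq_two 4 ((xp d (quarter d) : ↥(S : Subgroup G)) : G)
      ((xp d (2 * 0 + 1) * d.y : ↥(S : Subgroup G)) : G) (orderOf_coe_quarter S d)
      (by
        rw [Subgroup.orderOf_coe, orderOf_xpy_eq_four_iff]
        have : half d * (2 * 0 + 1) = half d := by ring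
        exact this)
    · rintro ⟨g, hg⟩
      exact ha ⟨g, 0, hg⟩
    · intro t ht
      obtain ⟨g₁, hg₁⟩ := Fus.exists_conj_mem_sylow S t 2 (by rw [ht]; norm_num)
      have hs : orderOf (⟨g₁ * t * g₁⁻¹, hg₁⟩ : ↥(S : Subgroup G)) = 4 := by
        rw [Subgroup.orderOf_mk, Fus.orderOf_conj', ht]
      rcases orderOf_four_cases d _ hs with h | h | ⟨j', h⟩
      · left; exact ⟨g₁, congrArg Subtype.val h⟩
      · left
        have h3 : g₁ * t * g₁⁻¹ = (d.y : G) * ((xp d (quarter d) : ↥(S : Subgroup G)) : G) *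
            (d.y : G)⁻¹ := by
          have := congrArg Subtype.val h
          simpa using this
        refine ⟨(d.y : G)⁻¹ * g₁, ?_⟩
        calc (d.y : G)⁻¹ * g₁ * t * ((d.y : G)⁻¹ * g₁)⁻¹
            = (d.y : G)⁻¹ * (g₁ * t * g₁⁻¹) * (d.y : G) := by group
          _ = ((xp d (quarter d) : ↥(S : Subgroup G)) : G) := by rw [h3]; group
      · right
        obtain ⟨s₂, hs₂⟩ := exists_conj_odd' d j' 0
        refine ⟨(s₂ : G) * g₁, ?_⟩
        have h3 : g₁ * t * g₁⁻¹ = ((xp d (2 * j' + 1) * d.y : ↥(S : Subgroup G)) : G) :=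
          congrArg Subtype.val h
        have h4 : (s₂ : G) * g₁ * t * ((s₂ : G) * g₁)⁻¹ =
            (s₂ : G) * (g₁ * t * g₁⁻¹) * (s₂ : G)⁻¹ := by group
        rw [h4, h3, coe_conj, hs₂]

end Cfsg.Agent.S1207
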