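import Mathlib
import Cfsg.Statements.S1208
import Cfsg.Agent.Lib.Helper6.NC
import Cfsg.Agent.Lib.Helper6.NC2
import Cfsg.Agent.Lib.Helper6.Wreathed
import Cfsg.Agent.Lib.Helper6.WreathedSub
import Cfsg.Agent.Lib.Helper6.WreathedQ8
import Cfsg.Agent.Lib.Helper6.WreathedAut

set_option autoImplicit false
open Cfsg

namespace Cfsg.Agent.S1208

open Subgroup Cfsg.Agent.Helper6.NC Cfsg.Agent.Helper6.Wr Cfsg.Agent.Helper6.Z2

/-- the `U`-part: `|N_G(U) : C_G(U)| ∈ {2, 6}` -/
theorem U_part {G : Type*} [Group G] [Finite G] (S : Sylow 2 G)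
    (d : Data ↥(S : Subgroup G)) (U : Subgroup G) (hUS : U ≤ S)
    (hUab : ∀ u ∈ U, ∀ v ∈ U, u * v = v * u) (hUcard : Nat.card U = 2 ^ (2 * d.n)) :
    (centralizer (U : Set G)).relIndex (normalizer (U : Set G)) = 2 ∨
      (centralizer (U : Set G)).relIndex (normalizer (U : Set G)) = 6 := by
  have : Fact (Nat.Prime 2) := ⟨Nat.prime_two⟩
  let P : Subgroup G := (S : Subgroup G)
  have e : U.subgroupOf P ≃* U := Subgroup.subgroupOfEquivOfLe hUS
  -- `U` is the abelian maximal subgroup
  have hUA : U.subgroupOf P = A d := by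
    apply eq_A_of_comm d
    · intro u hu v hv
      apply Subtype.ext
      exact hUab _ hu _ hv
    · rw [Nat.card_congr e.toEquiv, hUcard]
  have hAnormal : (A d).Normal := Subgroup.normal_of_index_eq_two (index_A d)
  -- `P ≤ N_G(U)`
  have hPN : P ≤ normalizer (U : Set G) := by
    intro s hs
    apply coe_mem_normalizer P U hUS ⟨s, hs⟩
    rw [hUA, Subgroup.normalizer_eq_top]
    exact Subgroup.mem_top _
  have hCN : centralizer (U : Set G) ≤ normalizer (U : Set G) := by
    intro c hc
    rw [mem_normalizer_iff]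
    intro t
    have key : ∀ c : G, c ∈ centralizer (U : Set G) → ∀ t ∈ U, c * t * c⁻¹ ∈ U := by
      intro c hc t ht
      have h2 : t * c = c * t := (mem_centralizer_iff.mp hc) t ht
      have h3 : c * t * c⁻¹ = t := by rw [← h2]; group
      rw [h3]; exact ht
    constructor
    · exact key c hc t
    · intro ht
      have := key c⁻¹ (inv_mem hc) _ ht
      simpa [mul_assoc] using this
  obtain ⟨m, hm, hrel⟩ := relIndex_eq_mul_of_sylow S (centralizer (U : Set G))
    (normalizer (U : Set G)) hPN hCN (centralizer_subgroupOf_normal U)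
  -- `|P : P ∩ C| = 2`
  have h2 : (centralizer (U : Set G)).relIndex P = 2 := by
    have h3 : (centralizer (U : Set G)).subgroupOf P = A d := by
      rw [← hUA]
      ext s
      rw [Subgroup.mem_subgroupOf, Subgroup.mem_subgroupOf]
      constructor
      · intro hs
        have h4 : s ∈ A d := by
          apply mem_A_of_centralizes d
          have h5 : el d 1 0 ∈ U.subgroupOf P := hUA ▸ el_mem_A d 1 0
          have h6 := (mem_centralizer_iff.mp hs) _ h5
          apply Subtype.ext
          exact h6.symm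
        rw [← hUA] at h4
        exact h4
      · intro hs
        rw [mem_centralizer_iff]
        intro t ht
        exact hUab _ ht _ hs
    show ((centralizer (U : Set G)).subgroupOf P).index = 2
    rw [h3]; exact index_A d
  rw [h2] at hrel
  -- `|N : C|` divides `|Aut U|`
  have hdvd : (centralizer (U : Set G)).relIndex (normalizer (U : Set G)) ∣
      2 ^ (2 * (2 * d.n - 2)) * 6 := by
    have h1 := relIndex_centralizer_dvd U
    have e' : U ≃* A d := e.symm.trans (MulEquiv.subgroupCongr hUA)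
    have h3 : Nat.card (MulAut U) = Nat.card (MulAut (A d)) :=
      Nat.card_congr (MulAut.congr e').toEquiv
    rw [h3] at h1
    exact dvd_trans h1 (card_mulAut_A_dvd d)
  exact two_or_six_of_dvd _ m _ hrel hm hdvd


theorem two_or_six (m : ℕ) (h6 : m ∣ 6) (h2 : 2 ∣ m) : m = 2 ∨ m = 6 := by
  have hle : m ≤ 6 := Nat.le_of_dvd (by norm_num) h6
  interval_cases m <;> omega

theorem exists_two_pow {G : Type*} [Group G] [Finite G] (S : Sylow 2 G) (s : G)
    (hs : s ∈ (S : Subgroup G)) : ∃ k : ℕ, s ^ (2 ^ k) = 1 := by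
  obtain ⟨k, hk⟩ := S.2 ⟨s, hs⟩
  refine ⟨k, ?_⟩
  have := congrArg Subtype.val hk
  simpa using this

/-- the `V`-part: `|N_G(V) : V C_G(V)| ∈ {2, 6}` -/
theorem V_part {G : Type*} [Group G] [Finite G] (S : Sylow 2 G)
    (d : Data ↥(S : Subgroup G)) (Q : Subgroup G) (hQS : Q ≤ S) (eQ : Q ≃* QuaternionGroup 2)
    (V : Subgroup G)
    (hV : V = Q ⊔ (Subgroup.center ↥(S : Subgroup G)).map (S : Subgroup G).subtype) :
    (V ⊔ centralizer (V : Set G)).relIndex (normalizer (V : Set G)) = 2 ∨
      (V ⊔ centralizer (V : Set G)).relIndex (normalizer (V : Set G)) = 6 := by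
  have : Fact (Nat.Prime 2) := ⟨Nat.prime_two⟩
  let P : Subgroup G := (S : Subgroup G)
  set ZG : Subgroup G := (Subgroup.center ↥P).map P.subtype with hZG
  have e : Q.subgroupOf P ≃* Q := Subgroup.subgroupOfEquivOfLe hQS
  obtain ⟨k, hQ'⟩ := q8_mem d (Q.subgroupOf P) (e.trans eQ)
  have hsup : Q.subgroupOf P ⊔ Subgroup.center ↥P = VV d k := sup_center_eq d _ k hQ'
  have hVmap : V = (VV d k).map P.subtype := by
    rw [hV, ← hsup, Subgroup.map_sup, Subgroup.map_subgroupOf_eq_of_le hQS]
  have hVP : V ≤ P := by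
    rw [hVmap]; exact Subgroup.map_subtype_le _
  have hVsub : V.subgroupOf P = VV d k := by
    rw [hVmap]
    exact Subgroup.comap_map_eq_self_of_injective (Subgroup.subtype_injective _) _
  have hmemV : ∀ v : ↥P, (v : G) ∈ V ↔ v ∈ VV d k := by
    intro v; rw [← hVsub]; rfl
  have hmemQ : ∀ q : ↥P, (q : G) ∈ Q ↔ P8 d k q := fun q => hQ' q
  have hmemZ : ∀ v : ↥P, (v : G) ∈ ZG ↔ v ∈ Subgroup.center ↥P := by
    intro v
    rw [hZG, Subgroup.mem_map]
    constructor
    · rintro ⟨w, hw, hwv⟩
      have : w = v := Subtype.ext hwv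
      rw [← this]; exact hw
    · intro hv; exact ⟨v, hv, rfl⟩
  have hQV : Q ≤ V := hV ▸ le_sup_left
  have hZV : ZG ≤ V := hV ▸ le_sup_right
  have hZP : ZG ≤ P := le_trans hZV hVP
  -- `V ∩ C_G(V) = Z`
  have hVC : V ⊓ centralizer (V : Set G) = ZG := by
    apply le_antisymm
    · intro x hx
      obtain ⟨hxV, hxC⟩ := Subgroup.mem_inf.mp hx
      have h1 := mem_centralizer_subgroupOf P V ⟨x, hVP hxV⟩ hxC
      rw [hVsub, centralizer_VV] at h1
      exact (hmemZ ⟨x, hVP hxV⟩).mpr h1
    · intro x hx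
      refine Subgroup.mem_inf.mpr ⟨hZV hx, ?_⟩
      have hx' := (hmemZ ⟨x, hZP hx⟩).mp hx
      rw [mem_centralizer_iff]
      intro t ht
      have := (Subgroup.mem_center_iff.mp hx') ⟨t, hVP ht⟩
      exact congrArg Subtype.val this
  have hPcentZ : P ≤ centralizer (ZG : Set G) := by
    intro s hs
    rw [mem_centralizer_iff]
    intro t ht
    have ht' := (hmemZ ⟨t, hZP ht⟩).mp ht
    have := (Subgroup.mem_center_iff.mp ht') ⟨s, hs⟩
    exact (congrArg Subtype.val this).symm
  -- `N_G(V)` centralizes `Z`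
  have hNZ : normalizer (V : Set G) ≤ centralizer (ZG : Set G) := by
    have h1 : normalizer (V : Set G) ≤ normalizer (ZG : Set G) := by
      intro g hg
      rw [← hVC]
      exact mem_normalizer_inf _ _ g hg (normalizer_le_normalizer_centralizer V hg)
    refine le_trans h1 (normalizer_le_centralizer_of_cyclic S ZG ?_ ?_ hPcentZ)
    · have e1 : Subgroup.center ↥P ≃* ZG :=
        (Subgroup.center ↥P).equivMapOfInjective _ (Subgroup.subtype_injective _)
      have h2 : IsCyclic (Subgroup.center ↥P) := by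
        rw [center_eq d]; infer_instance
      exact e1.isCyclic.mp h2
    · exact S.2.to_le hZP
  have hconjZ : ∀ g ∈ normalizer (V : Set G), ∀ t ∈ ZG, g * t * g⁻¹ = t := by
    intro g hg t ht
    have h1 := (mem_centralizer_iff.mp (hNZ hg)) t ht
    rw [← h1]; group
  -- the central involution
  have hcZ : ((el d (half d.n) (half d.n) : ↥P) : G) ∈ ZG :=
    (hmemZ _).mpr ((mem_center_iff d _).mpr ⟨_, rfl⟩)
  -- `N_G(V) ≤ N_G(Q)`
  have hkey : ∀ g ∈ normalizer (V : Set G), ∀ q ∈ Q, g * q * g⁻¹ ∈ Q := by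
    intro g hg q hq
    have hq' : P8 d k ⟨q, hQS hq⟩ := (hmemQ ⟨q, hQS hq⟩).mp hq
    rcases P8_center_or d k _ hq' with hc | ⟨hnc, hsq⟩
    · have hqZ : q ∈ ZG := (hmemZ ⟨q, hQS hq⟩).mpr hc
      rw [hconjZ g hg q hqZ]; exact hq
    · have hvV : g * q * g⁻¹ ∈ V := (mem_normalizer_iff.mp hg q).mp (hQV hq)
      have hv' : (⟨g * q * g⁻¹, hVP hvV⟩ : ↥P) ∈ VV d k := (hmemV _).mp hvV
      have hvnc : (⟨g * q * g⁻¹, hVP hvV⟩ : ↥P) ∉ Subgroup.center ↥P := by
        intro hcon
        have hvZ : g * q * g⁻¹ ∈ ZG := (hmemZ ⟨_, hVP hvV⟩).mpr hcon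
        have h1 := hconjZ g⁻¹ (inv_mem hg) _ hvZ
        have h2 : g⁻¹ * (g * q * g⁻¹) * g⁻¹⁻¹ = q := by group
        rw [h2] at h1
        apply hnc
        have : q ∈ ZG := h1 ▸ hvZ
        exact (hmemZ ⟨q, hQS hq⟩).mp this
      have hvsq : (⟨g * q * g⁻¹, hVP hvV⟩ : ↥P) * ⟨g * q * g⁻¹, hVP hvV⟩ =
          el d (half d.n) (half d.n) := by
        apply Subtype.ext
        show g * q * g⁻¹ * (g * q * g⁻¹) = ((el d (half d.n) (half d.n) : ↥P) : G)
        have h1 : q * q = ((el d (half d.n) (half d.n) : ↥P) : G) := congrArg Subtype.val hsq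
        have h2 : g * q * g⁻¹ * (g * q * g⁻¹) = g * (q * q) * g⁻¹ := by group
        rw [h2, h1]
        exact hconjZ g hg _ hcZ
      have := P8_of_mem_VV d k _ hv' hvnc hvsq
      exact (hmemQ ⟨_, hVP hvV⟩).mpr this
  have hNQ : normalizer (V : Set G) ≤ normalizer (Q : Set G) := by
    intro g hg
    rw [mem_normalizer_iff]
    intro q
    constructor
    · exact hkey g hg q
    · intro h
      have h1 := hkey g⁻¹ (inv_mem hg) _ h
      have h2 : g⁻¹ * (g * q * g⁻¹) * g⁻¹⁻¹ = q := by group
      rwa [h2] at h1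
  set C := centralizer (V : Set G) with hCdef
  set N := normalizer (V : Set G) with hNdef
  have hVN : V ≤ N := Subgroup.le_normalizer
  have hCN : C ≤ N := by
    intro c hc
    rw [mem_normalizer_iff]
    intro t
    have key : ∀ c : G, c ∈ C → ∀ t ∈ V, c * t * c⁻¹ ∈ V := by
      intro c hc t ht
      have h2 : t * c = c * t := (mem_centralizer_iff.mp hc) t ht
      have h3 : c * t * c⁻¹ = t := by rw [← h2]; group
      rw [h3]; exact ht
    constructor
    · exact key c hc t
    · intro ht
      have := key c⁻¹ (inv_mem hc) _ ht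
      simpa [mul_assoc] using this
  have hKN : V ⊔ C ≤ N := sup_le hVN hCN
  have hCnorm : (C.subgroupOf N).Normal := centralizer_subgroupOf_normal V
  have hVnorm : (V.subgroupOf N).Normal := Subgroup.normal_in_normalizer
  -- `|N : C|` divides `24`
  have h24 : C.relIndex N ∣ 24 := by
    let f : ↥N →* MulAut Q := Q.normalizerMonoidHom.comp (Subgroup.inclusion hNQ)
    have hker : f.ker = C.subgroupOf N := by
      ext g
      rw [MonoidHom.mem_ker, Subgroup.mem_subgroupOf]
      have h1 : f g = 1 ↔ Subgroup.inclusion hNQ g ∈ Q.normalizerMonoidHom.ker := by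
        rw [MonoidHom.mem_ker]; rfl
      rw [h1, Subgroup.normalizerMonoidHom_ker, Subgroup.mem_subgroupOf]
      show (g : G) ∈ centralizer (Q : Set G) ↔ (g : G) ∈ C
      constructor
      · intro hgQ
        have hgZ := hNZ g.2
        have hle : V ≤ centralizer ({(g : G)} : Set G) := by
          rw [hV]
          apply sup_le
          · intro t ht
            rw [mem_centralizer_iff]
            intro h hh
            rw [Set.mem_singleton_iff.mp hh]
            exact ((mem_centralizer_iff.mp hgQ) t ht).symm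
          · intro t ht
            rw [mem_centralizer_iff]
            intro h hh
            rw [Set.mem_singleton_iff.mp hh]
            exact ((mem_centralizer_iff.mp hgZ) t ht).symm
        rw [hCdef, mem_centralizer_iff]
        intro t ht
        have := (mem_centralizer_iff.mp (hle ht)) (g : G) rfl
        exact this.symm
      · intro hgC
        exact Subgroup.centralizer_le (by exact_mod_cast hQV) hgC
    have h1 : C.relIndex N = Nat.card f.range := by
      show (C.subgroupOf N).index = _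
      rw [← hker]; exact Subgroup.index_ker f
    have h2 : Nat.card f.range ∣ Nat.card (MulAut Q) := Subgroup.card_subgroup_dvd_card _
    have h3 : Nat.card (MulAut Q) = Nat.card (MulAut (QuaternionGroup 2)) :=
      Nat.card_congr (MulAut.congr eQ).toEquiv
    rw [h1]
    rw [h3] at h2
    exact dvd_trans h2 card_mulAut_Q8_dvd
  -- `|VC : C| = 4`
  have h4 : C.relIndex (V ⊔ C) = 4 := by
    have h1 : C.relIndex (V ⊔ C) = (C.subgroupOf N).relIndex ((V ⊔ C).subgroupOf N) :=
      (Subgroup.relIndex_subgroupOf hKN).symm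
    rw [h1, Subgroup.subgroupOf_sup hVN hCN, Subgroup.relIndex_sup_right,
      Subgroup.relIndex_subgroupOf hVN]
    show (C.subgroupOf V).index = 4
    have h2 : Nat.card (C.subgroupOf V) = 2 ^ d.n := by
      rw [← Subgroup.inf_subgroupOf_right,
        Nat.card_congr (Subgroup.subgroupOfEquivOfLe (inf_le_right : C ⊓ V ≤ V)).toEquiv,
        inf_comm, hVC]
      have e1 : Subgroup.center ↥P ≃* ZG :=
        (Subgroup.center ↥P).equivMapOfInjective _ (Subgroup.subtype_injective _)
      rw [← Nat.card_congr e1.toEquiv, card_center d]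
    have h3 : Nat.card V = 2 ^ (d.n + 2) := by
      have e1 : VV d k ≃* (VV d k).map P.subtype :=
        (VV d k).equivMapOfInjective _ (Subgroup.subtype_injective _)
      rw [hVmap, ← Nat.card_congr e1.toEquiv, card_VV d k]
    have h5 := Subgroup.card_mul_index (C.subgroupOf V)
    rw [h2, h3, pow_add] at h5
    have hpos : 0 < 2 ^ d.n := by positivity
    have := Nat.eq_of_mul_eq_mul_left hpos h5
    omega
  have hmul := Subgroup.relIndex_mul_relIndex (H := C) (K := V ⊔ C) (L := N) le_sup_right hKN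
  rw [h4] at hmul
  apply two_or_six
  · rw [← hmul] at h24
    have : 4 * (V ⊔ C).relIndex N ∣ 4 * 6 := h24
    exact Nat.dvd_of_mul_dvd_mul_left (by norm_num) this
  · obtain ⟨s, hsN, hsV⟩ := exists_normalizer_not_mem_VV d k
    obtain ⟨j, hj⟩ := exists_two_pow S (s : G) s.2
    have hKnorm : ((V ⊔ C).subgroupOf N).Normal := by
      rw [Subgroup.subgroupOf_sup hVN hCN]
      infer_instance
    have hsN' : (s : G) ∈ N := coe_mem_normalizer P V hVP s (hVsub ▸ hsN)
    apply two_dvd_relIndex _ _ hKnorm (s : G) hsN' ?_ j hj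
    intro hsK
    apply hsV
    have hVC' : V ≤ normalizer ((C : Subgroup G) : Set G) :=
      le_trans hVN (normalizer_le_normalizer_centralizer V)
    have hmem : (s : G) ∈ ((V ⊔ C : Subgroup G) : Set G) := hsK
    rw [Subgroup.coe_mul_of_left_le_normalizer_right V C hVC', Set.mem_mul] at hmem
    obtain ⟨v, hv, c, hc, hvc⟩ := hmem
    have hcP : c ∈ P := by
      have : c = v⁻¹ * (s : G) := by rw [← hvc]; group
      rw [this]
      exact Subgroup.mul_mem _ (Subgroup.inv_mem _ (hVP hv)) s.2
    have hc' := mem_centralizer_subgroupOf P V ⟨c, hcP⟩ hc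
    rw [hVsub, centralizer_VV] at hc'
    have hcV : c ∈ V := hZV ((hmemZ ⟨c, hcP⟩).mpr hc')
    have hsV' : (s : G) ∈ V := by
      rw [← hvc]; exact V.mul_mem hv hcV
    exact (hmemV s).mp hsV'

/-- Let G be a finite group whose Sylow 2-subgroup S is wreathed of order 2^(2n+1), U the commutative subgroup of index 2 in S, Q a quaternion subgroup of order 8 of S and V = Q Z(S). Then |N_G(U) : C_G(U)| ∈ {2, 6} and |N_G(V) : V C_G(V)| ∈ {2, 6}. -/
theorem result {G : Type*} [Group G] [Finite G] (S : Sylow 2 G) (hS : Cfsg.IsWreathed (S : Subgroup G)) (n : ℕ) (hn : Nat.card S = 2 ^ (2 * n + 1)) (U : Subgroup G) (hUS : U ≤ S) (hUab : IsMulCommutative U) (hUcard : Nat.card U = 2 ^ (2 * n)) (Q : Subgroup G) (hQS : Q ≤ S) (eQ : Q ≃* QuaternionGroup 2) : ((Subgroup.centralizer (U : Set G)).relIndex (Subgroup.normalizer (U : Set G)) = 2 ∨ (Subgroup.centralizer (U : Set G)).relIndex (Subgroup.normalizer (U : Set G)) = 6) ∧ (((Q ⊔ ((Subgroup.center (S : Subgroup G)).map (S : Subgroup G).subtype)) ⊔ Subgroup.centralizer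 ((Q ⊔ ((Subgroup.center (S : Subgroup G)).map (S : Subgroup G).subtype) : Subgroup G) : Set G)).relIndex (Subgroup.normalizer ((Q ⊔ ((Subgroup.center (S : Subgroup G)).map (S : Subgroup G).subtype) : Subgroup G) : Set G)) = 2 ∨ ((Q ⊔ ((Subgroup.center (S : Subgroup G)).map (S : Subgroup G).subtype)) ⊔ Subgroup.centralizer ((Q ⊔ ((Subgroup.center (S : Subgroup G)).map (S : Subgroup G).subtype) : Subgroup G) : Set G)).relIndex (Subgroup.normalizer ((Q ⊔ ((Subgroup.center (S : Subgroup G)).map (S : Subgroup G).subtype) : Subgroup G) : Set G)) = 6) := by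
  obtain ⟨d⟩ := exists_data hS
  have hnd : n = d.n := by
    have h : Nat.card ↥(S : Subgroup G) = 2 ^ (2 * n + 1) := hn
    rw [d.card] at h
    have := Nat.pow_right_injective (le_refl 2) h
    omega
  subst hnd
  refine ⟨U_part S d U hUS ?_ hUcard, V_part S d Q hQS eQ _ rfl⟩
  intro u hu v hv
  have := hUab.is_comm.comm (⟨u, hu⟩ : U) ⟨v, hv⟩
  exact congrArg Subtype.val this

end Cfsg.Agent.S1208
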