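import Mathlib
import Cfsg.Statements.S1209
import Cfsg.Agent.Lib.Helper6.WreathedFusion
import Cfsg.Agent.Lib.Helper6.QDFusion

set_option autoImplicit false
open Cfsg

namespace Cfsg.Agent.S1209

open Cfsg.Agent.Helper6 Cfsg.Agent.Helper6.Wr

/-- Let G be a finite group whose Sylow 2-subgroup S is wreathed of order 2^(2n+1), U the commutative subgroup of index 2 in S, Q a quaternion subgroup of order 8 of S and V = Q Z(S). If |N_G(U) : C_G(U)| = 6 and |N_G(V) : V C_G(V)| = 6, then G has no subgroup of index 2 and exactly one conjugacy class of involutions. -/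
theorem result {G : Type*} [Group G] [Finite G] (S : Sylow 2 G) (hS : Cfsg.IsWreathed (S : Subgroup G)) (n : ℕ) (hn : Nat.card S = 2 ^ (2 * n + 1)) (U : Subgroup G) (hUS : U ≤ S) (hUab : IsMulCommutative U) (hUcard : Nat.card U = 2 ^ (2 * n)) (Q : Subgroup G) (hQS : Q ≤ S) (eQ : Q ≃* QuaternionGroup 2) (h₁ : (Subgroup.centralizer (U : Set G)).relIndex (Subgroup.normalizer (U : Set G)) = 6) (h₂ : ((Q ⊔ ((Subgroup.center (S : Subgroup G)).map (S : Subgroup G).subtype)) ⊔ Subgroup.centralizer ((Q ⊔ ((Subgroup.center (S : Subgroup G)).map (S : Subgroup G).subtype) : Subgroup G) : Set G)).relIndex (Subgroup.normalizer ((Q ⊔ ((Subgroup.center (S : Subgroup G)).map (S : Subgroup G).subtype) : Subgroup G) : Set G)) = 6) : (∀ H : Subgroup G, H.index ≠ 2) ∧ Nat.card {C : ConjClasses G // ∃ t : G, orderOf t = 2 ∧ ConjClasses.mk t = C} = 1 := by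
  obtain ⟨d⟩ := exists_data hS
  have hnd : n = d.n := by
    have h : Nat.card ↥(S : Subgroup G) = 2 ^ (2 * n + 1) := hn
    rw [d.card] at h
    have := Nat.pow_right_injective (le_refl 2) h
    omega
  subst hnd
  have hUab' : ∀ u ∈ U, ∀ v ∈ U, u * v = v * u := by
    intro u hu v hv
    have := hUab.is_comm.comm (⟨u, hu⟩ : U) ⟨v, hv⟩
    exact congrArg Subtype.val this
  have hUA := setup_U S d U hUS hUab' hUcard
  obtain ⟨k, hVP, hVV⟩ := setup_V S d Q hQS eQ
  have h3U : 3 ∣ (Subgroup.centralizer (U : Set G)).relIndex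
      (Subgroup.normalizer (U : Set G)) := by
    rw [h₁]; norm_num
  have h3V := three_dvd_relIndex_centralizer
    (Q ⊔ ((Subgroup.center (S : Subgroup G)).map (S : Subgroup G).subtype))
    (by rw [h₂]; norm_num)
  obtain ⟨g₁, hg₁N, hg₁⟩ := exists_fusion_U S d U hUS hUA h3U
  obtain ⟨g₂, -, i, hg₂⟩ := exists_fusion_V S d _ k hVP hVV h3V
  refine ⟨?_, ?_⟩
  · exact Fus.no_index_two S
      (sylow_le_commutator S d U hUS hUA g₁ hg₁N hg₁ ⟨g₂, i, hg₂⟩)
  · exact Fus.card_classes_eq_one 2 _ (orderOf_coe_cc S d)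
      (invol_conj_cc S d ⟨g₁, conj_cc_cases S d U hUS hUA g₁ hg₁N hg₁⟩ ⟨g₂, i, hg₂⟩)

end Cfsg.Agent.S1209
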