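import Mathlib
import Cfsg.Agent.Lib.Helper22.WrFocal
import Cfsg.Agent.Lib.Helper6.IndexTwo
import Cfsg.Statements.S1210
-- import your own Cfsg.Agent.* helpers here

set_option autoImplicit false
open Cfsg

namespace Cfsg.Agent.S1210

open Cfsg.Agent.Helper6 Cfsg.Agent.Helper6.Wr Cfsg.Agent.Helper6.Z2 Cfsg.Agent.Helper22.WrFus
  Cfsg.Agent.Helper22.WrSC
open scoped commutatorElement


/-- Let G be a finite group whose Sylow 2-subgroup S is wreathed of order 2^(2n+1), U the commutative subgroup of index 2 in S, Q a quaternion subgroup of order 8 of S and V = Q Z(S). If |N_G(U) : C_G(U)| = 2 and |N_G(V) : V C_G(V)| = 6, then G has a normal subgroup K of index 2^n whose Sylow 2-subgroups are generalized quaternion and which has no subgroup of index 2; every subgroup of Z(S) is weakly closed in S; and G has exactly two classes of involutions. -/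
theorem result {G : Type*} [Group G] [Finite G] (S : Sylow 2 G) (hS : Cfsg.IsWreathed (S : Subgroup G)) (n : ℕ) (hn : Nat.card S = 2 ^ (2 * n + 1)) (U : Subgroup G) (hUS : U ≤ S) (hUab : IsMulCommutative U) (hUcard : Nat.card U = 2 ^ (2 * n)) (Q : Subgroup G) (hQS : Q ≤ S) (eQ : Q ≃* QuaternionGroup 2) (h₁ : (Subgroup.centralizer (U : Set G)).relIndex (Subgroup.normalizer (U : Set G)) = 2) (h₂ : ((Q ⊔ ((Subgroup.center (S : Subgroup G)).map (S : Subgroup G).subtype)) ⊔ Subgroup.centralizer ((Q ⊔ ((Subgroup.center (S : Subgroup G)).map (S : Subgroup G).subtype) : Subgroup G) : Set G)).relIndex (Subgroup.normalizer ((Q ⊔ ((Subgroup.center (S : Subgroup G)).map (S : Subgroup G).subtype) : Subgroup G) : Set G)) = 6) : (∃ K : Subgroup G, K.Normal ∧ K.index = 2 ^ n ∧ (∀ P : Sylow 2 ↥K, ∃ m : ℕ, 1 ≤ m ∧ Nonempty ((P : Subgroup ↥K) ≃* QuaternionGroup (2 ^ m))) ∧ (∀ H : Subgroup ↥K, H.index ≠ 2)) ∧ (∀ Z₀ : Subgroup G, Z₀ ≤ ((Subgroup.center (S : Subgroup G)).map (S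 : Subgroup G).subtype) → Cfsg.IsWeaklyClosed Z₀ (S : Subgroup G)) ∧ Nat.card {C : ConjClasses G // ∃ t : G, orderOf t = 2 ∧ ConjClasses.mk t = C} = 2 := by
  obtain ⟨d⟩ := exists_data hS
  have hnd : n = d.n := by
    have h : Nat.card ↥(S : Subgroup G) = 2 ^ (2 * n + 1) := hn
    rw [d.card] at h
    have := Nat.pow_right_injective (le_refl 2) h
    omega
  subst hnd
  have hn1 := hn1 d
  have hh := two_mul_half d.n hn1
  have hq := two_mul_quarter d.n d.hn
  have hUab' : ∀ u ∈ U, ∀ v ∈ U, u * v = v * u := by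
    intro u hu v hv
    have := hUab.is_comm.comm (⟨u, hu⟩ : U) ⟨v, hv⟩
    exact congrArg Subtype.val this
  have hUA := setup_U S d U hUS hUab' hUcard
  obtain ⟨k, hVP, hVV⟩ := setup_V S d Q hQS eQ
  have hU : U = up S (A d) := eq_up_of_subgroupOf S hUS hUA
  have hV : Q ⊔ (Subgroup.center ↥(S : Subgroup G)).map (S : Subgroup G).subtype = up S (VV d k) :=
    eq_up_of_subgroupOf S hVP hVV
  rw [hU] at h₁
  rw [hV] at h₂
  have hUc := ctrl_U S d h₁
  -- the fusion element from `N(V)`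
  have h3 : 3 ∣ (Subgroup.centralizer (up S (VV d k) : Set G)).relIndex
      (Subgroup.normalizer (up S (VV d k) : Set G)) :=
    three_dvd_relIndex_centralizer _ (by rw [h₂]; norm_num)
  obtain ⟨g₀, hg₀N, i₀, hg₀⟩ := exists_fusion_V S d (up S (VV d k)) k (up_le S _)
    (subgroupOf_up S _) h3
  -- `R ≤ G'`
  have hy₁ : ((el d i₀ (half d.n - i₀) * d.z : ↥(S : Subgroup G)) : G) ∈ commutator G := by
    have e : el d i₀ (half d.n - i₀) * d.z = (el d i₀ (-i₀) * d.z) * (tt d)⁻¹ := by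
      unfold tt
      rw [el_inv, elz_mul_el]
      congr 2
      · ring
      · linear_combination hh
    have e2 : ((el d i₀ (half d.n - i₀) * d.z : ↥(S : Subgroup G)) : G) =
        ⁅g₀, ((tt d : ↥(S : Subgroup G)) : G)⁆ := by
      rw [commutatorElement_def, hg₀, e, Subgroup.coe_mul, Subgroup.coe_inv]
    rw [e2]
    exact Subgroup.commutator_mem_commutator (Subgroup.mem_top _) (Subgroup.mem_top _)
  have hy₁R : el d i₀ (half d.n - i₀) * d.z ∈ RR d := by
    rw [elz_mem_RR_iff]; ring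
  have hy₁A : el d i₀ (half d.n - i₀) * d.z ∉ A d := by
    rintro ⟨a, b, h⟩
    exact el_ne_elz d _ _ _ _ h.symm
  have hRcomm : up S (RR d) ≤ commutator G :=
    up_RR_le_of_normal S d (commutator G) _ hy₁R hy₁A hy₁
  have hfoc : Subgroup.focalSubgroup (S : Subgroup G) = up S (RR d) := by
    apply le_antisymm (focalSubgroup_le_RR S d hUc)
    rw [← Subgroup.commutator_inf_eq_focalSubgroup S]
    exact le_inf hRcomm (up_le S _)
  -- the subgroup `K`
  have hKn : (S : Subgroup G).transferFocal.ker.Normal := MonoidHom.normal_ker _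
  have hKS : (S : Subgroup G).transferFocal.ker ⊓ (S : Subgroup G) = up S (RR d) := by
    rw [Subgroup.ker_transferFocal_inf_eq_focalSubgroup, hfoc]
  have hKi : (S : Subgroup G).transferFocal.ker.index = 2 ^ d.n := by
    rw [index_ker_transferFocal, hfoc]; exact relIndex_up_RR S d
  have hRK : up S (RR d) ≤ (S : Subgroup G).transferFocal.ker := by
    rw [← hKS]; exact inf_le_left
  have hKmul := exists_mul_ker_transferFocal S
  generalize (S : Subgroup G).transferFocal.ker = K at hKn hKS hKi hRK hKmul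
  -- `R ≤ K'`
  have hcq : el d (quarter d.n) (quarter d.n) ∈ Subgroup.center ↥(S : Subgroup G) :=
    (mem_center_iff d _).mpr ⟨_, rfl⟩
  have hg₀cen := normalizer_VV_le_centralizer_center S d k hg₀N
  have hg₀c : g₀ * ((el d (quarter d.n) (quarter d.n) : ↥(S : Subgroup G)) : G) * g₀⁻¹ =
      ((el d (quarter d.n) (quarter d.n) : ↥(S : Subgroup G)) : G) := by
    have h2 := (Subgroup.mem_centralizer_iff.mp hg₀cen) _ ((coe_mem_up S _).mpr hcq)
    rw [← h2]; group
  have hwtt : el d (quarter d.n) (-quarter d.n) =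
      tt d * (el d (quarter d.n) (quarter d.n))⁻¹ := by
    unfold tt
    rw [el_inv, el_mul_el]
    congr 1
    · linear_combination hq
    · ring
  have hg₀w : g₀ * ((el d (quarter d.n) (-quarter d.n) : ↥(S : Subgroup G)) : G) * g₀⁻¹ =
      ((el d i₀ (-i₀) * d.z * (el d (quarter d.n) (quarter d.n))⁻¹ : ↥(S : Subgroup G)) : G) := by
    rw [hwtt, Subgroup.coe_mul, Subgroup.coe_inv, Subgroup.coe_mul, Subgroup.coe_inv, ← hg₀]
    calc g₀ * (((tt d : ↥(S : Subgroup G)) : G) *
          ((el d (quarter d.n) (quarter d.n) : ↥(S : Subgroup G)) : G)⁻¹) * g₀⁻¹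
        = (g₀ * ((tt d : ↥(S : Subgroup G)) : G) * g₀⁻¹) *
          (g₀ * ((el d (quarter d.n) (quarter d.n) : ↥(S : Subgroup G)) : G) * g₀⁻¹)⁻¹ := by group
      _ = _ := by rw [hg₀c]
  obtain ⟨κ, hκ, s, hs, hgκ⟩ := hKmul g₀
  set w' : ↥(S : Subgroup G) := ⟨s, hs⟩ * el d (quarter d.n) (-quarter d.n) *
    (⟨s, hs⟩ : ↥(S : Subgroup G))⁻¹ with hw'
  have hwR : el d (quarter d.n) (-quarter d.n) ∈ RR d := by
    rw [el_mem_RR_iff]; ring
  have hw'R : w' ∈ RR d := (RR_normal d).conj_mem _ hwR _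
  have hAnormal : (A d).Normal := Subgroup.normal_of_index_eq_two (index_A d)
  have hw'A : w' ∈ A d := hAnormal.conj_mem _ (el_mem_A d _ _) _
  have hκw : κ * (w' : G) * κ⁻¹ =
      ((el d i₀ (-i₀) * d.z * (el d (quarter d.n) (quarter d.n))⁻¹ : ↥(S : Subgroup G)) : G) := by
    rw [← hg₀w, hgκ, hw']
    simp only [Subgroup.coe_mul, Subgroup.coe_inv]
    group
  have hy₀R : el d i₀ (-i₀) * d.z * (el d (quarter d.n) (quarter d.n))⁻¹ ∈ RR d := by
    rw [el_inv, elz_mul_el, elz_mem_RR_iff]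
    linear_combination -hq - hh
  have hy₀A : el d i₀ (-i₀) * d.z * (el d (quarter d.n) (quarter d.n))⁻¹ ∉ A d := by
    rw [el_inv, elz_mul_el]
    rintro ⟨a, b, h⟩
    exact el_ne_elz d _ _ _ _ h.symm
  haveI : (⁅K, K⁆ : Subgroup G).Normal := Subgroup.commutator_normal K K
  have hRKK : up S (RR d) ≤ ⁅K, K⁆ := by
    apply up_RR_le_of_normal S d ⁅K, K⁆
      (el d i₀ (-i₀) * d.z * (el d (quarter d.n) (quarter d.n))⁻¹ * w'⁻¹)
      ((RR d).mul_mem hy₀R ((RR d).inv_mem hw'R))
    · intro h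
      apply hy₀A
      have := (A d).mul_mem h hw'A
      simpa using this
    · have h4 : ⁅κ, (w' : G)⁆ ∈ ⁅K, K⁆ :=
        Subgroup.commutator_mem_commutator hκ (hRK ((coe_mem_up S _).mpr hw'R))
      rw [commutatorElement_def, hκw] at h4
      rw [Subgroup.coe_mul, Subgroup.coe_inv]
      exact h4
  obtain ⟨R₀, hR₀⟩ := exists_sylow_of_index_pow S K d.n hKi (up S (RR d)) hRK (up_le S _)
    (relIndex_up_RR S d)
  refine ⟨⟨K, hKn, hKi, ?_, ?_⟩, ?_, ?_⟩
  · intro P
    obtain ⟨e⟩ := sylow_equiv_of_index_pow S K d.n hKi (up S (RR d)) hRK (up_le S _)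
      (relIndex_up_RR S d) P
    obtain ⟨e'⟩ := RR_equiv d
    have e'' : ↥(RR d) ≃* ↥(up S (RR d)) :=
      Subgroup.equivMapOfInjective _ _ (Subgroup.subtype_injective _)
    refine ⟨d.n - 1, ?_, ⟨(e.trans e''.symm).trans e'⟩⟩
    have := d.hn
    omega
  · apply Fus.no_index_two R₀
    intro r hr
    rw [hR₀] at hr
    have h1 : (r : G) ∈ ⁅K, K⁆ := hRKK (Subgroup.mem_subgroupOf.mp hr)
    rw [← Subgroup.map_subtype_commutator, Subgroup.mem_map] at h1
    obtain ⟨c, hc, hcr⟩ := h1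
    have : c = r := Subtype.ext hcr
    rw [← this]; exact hc
  · exact isWeaklyClosed_of_le_center S d hUc
  · -- the classes of involutions
    have ho3 : orderOf ((d.z : ↥(S : Subgroup G)) : G) = 2 := by
      rw [Subgroup.orderOf_coe]; exact d.hz
    have hzconj : ∀ i, IsConj ((el d i (-i) * d.z : ↥(S : Subgroup G)) : G)
        ((d.z : ↥(S : Subgroup G)) : G) := by
      intro i
      obtain ⟨r, hr⟩ := exists_conj_elz d i
      have h6 : (r : G) * ((d.z : ↥(S : Subgroup G)) : G) * (r : G)⁻¹ =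
          ((el d i (-i) * d.z : ↥(S : Subgroup G)) : G) := by
        have := congrArg Subtype.val hr
        simpa using this
      exact (isConj_of_eq _ h6).symm
    have httz : IsConj ((tt d : ↥(S : Subgroup G)) : G) ((d.z : ↥(S : Subgroup G)) : G) :=
      (isConj_of_eq g₀ hg₀).trans (hzconj i₀)
    apply card_classes_eq_two 2 ((cc d : ↥(S : Subgroup G)) : G)
      ((d.z : ↥(S : Subgroup G)) : G) (orderOf_coe_cc S d) ho3
    · intro hc
      obtain ⟨g', hg'⟩ := isConj_iff.mp hc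
      have h5 := center_isolated S d hUc ((cc d : ↥(S : Subgroup G)) : G)
        ((coe_mem_up S _).mpr (mem_center_cc d)) g'⁻¹ (by rw [inv_inv, hg']; exact d.z.2)
      rw [inv_inv, hg'] at h5
      have h6 : d.z = cc d := Subtype.ext h5
      exact z_not_mem_A d (h6 ▸ el_mem_A d _ _)
    · intro t ht
      obtain ⟨g₁, hg₁⟩ := Fus.exists_conj_mem_sylow S t 1 (by rw [ht, pow_one])
      have hs' : orderOf (⟨g₁ * t * g₁⁻¹, hg₁⟩ : ↥(S : Subgroup G)) = 2 := by
        rw [Subgroup.orderOf_mk, Fus.orderOf_conj_eq, ht]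
      obtain ⟨hs1', hs2'⟩ := (orderOf_two_iff _).mp hs'
      have h0 : IsConj t (g₁ * t * g₁⁻¹) := isConj_of_eq g₁ rfl
      rcases invol_cases d _ hs1' hs2' with h4 | h4 | h4 | ⟨i, h4⟩
      · left
        have h' : g₁ * t * g₁⁻¹ = ((cc d : ↥(S : Subgroup G)) : G) := congrArg Subtype.val h4
        rw [h'] at h0; exact h0
      · right
        have h' : g₁ * t * g₁⁻¹ = ((tt d : ↥(S : Subgroup G)) : G) := congrArg Subtype.val h4
        rw [h'] at h0; exact h0.trans httz
      · right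
        have h' : g₁ * t * g₁⁻¹ = ((cc d : ↥(S : Subgroup G)) : G) *
            ((tt d : ↥(S : Subgroup G)) : G) := congrArg Subtype.val h4
        rw [h'] at h0
        exact (h0.trans (isConj_of_eq _ (coe_z_conj_tt S d)).symm).trans httz
      · right
        have h' : g₁ * t * g₁⁻¹ = ((el d i (-i) * d.z : ↥(S : Subgroup G)) : G) :=
          congrArg Subtype.val h4
        rw [h'] at h0
        exact h0.trans (hzconj i)

end Cfsg.Agent.S1210
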