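import Mathlib
import Cfsg.Agent.Lib.Helper22.WrFusion2
import Cfsg.Agent.Lib.Helper6.IndexTwo
import Cfsg.Agent.Lib.Helper6.OddAction
import Cfsg.Statements.S1211
-- import your own Cfsg.Agent.* helpers here

set_option autoImplicit false
open Cfsg

namespace Cfsg.Agent.S1211

open Cfsg.Agent.Helper6 Cfsg.Agent.Helper6.Wr Cfsg.Agent.Helper22.WrFus


/-- Let G be a finite group whose Sylow 2-subgroup S is wreathed of order 2^(2n+1), U the commutative subgroup of index 2 in S, Q a quaternion subgroup of order 8 of S and V = Q Z(S). If |N_G(U) : C_G(U)| = 6 and |N_G(V) : V C_G(V)| = 2, then G has a normal subgroup K of index 2 containing U (so U is a Sylow 2-subgroup of K) which has no subgroup of index 2, and G has exactly two classes of involutions. -/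
theorem result {G : Type*} [Group G] [Finite G] (S : Sylow 2 G) (hS : Cfsg.IsWreathed (S : Subgroup G)) (n : ℕ) (hn : Nat.card S = 2 ^ (2 * n + 1)) (U : Subgroup G) (hUS : U ≤ S) (hUab : IsMulCommutative U) (hUcard : Nat.card U = 2 ^ (2 * n)) (Q : Subgroup G) (hQS : Q ≤ S) (eQ : Q ≃* QuaternionGroup 2) (h₁ : (Subgroup.centralizer (U : Set G)).relIndex (Subgroup.normalizer (U : Set G)) = 6) (h₂ : ((Q ⊔ ((Subgroup.center (S : Subgroup G)).map (S : Subgroup G).subtype)) ⊔ Subgroup.centralizer ((Q ⊔ ((Subgroup.center (S : Subgroup G)).map (S : Subgroup G).subtype) : Subgroup G) : Set G)).relIndex (Subgroup.normalizer ((Q ⊔ ((Subgroup.center (S : Subgroup G)).map (S : Subgroup G).subtype) : Subgroup G) : Set G)) = 2) : (∃ K : Subgroup G, K.Normal ∧ K.index = 2 ∧ U ≤ K ∧ (∀ H : Subgroup ↥K, H.index ≠ 2)) ∧ Nat.card {C : ConjClasses G // ∃ t : G, orderOf t = 2 ∧ ConjClasses.mk t = C} = 2 := by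
  obtain ⟨d⟩ := exists_data hS
  have hnd : n = d.n := by
    have h : Nat.card ↥(S : Subgroup G) = 2 ^ (2 * n + 1) := hn
    rw [d.card] at h
    have := Nat.pow_right_injective (le_refl 2) h
    omega
  subst hnd
  have hUab' : ∀ u ∈ U, ∀ v ∈ U, u * v = v * u := by
    intro u hu v hv
    have := hUab.is_comm.comm (⟨u, hu⟩ : U) ⟨v, hv⟩
    exact congrArg Subtype.val this
  have hUA := setup_U S d U hUS hUab' hUcard
  obtain ⟨k, hVP, hVV⟩ := setup_V S d Q hQS eQ
  have hU : U = up S (A d) := eq_up_of_subgroupOf S hUS hUA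
  have hV : Q ⊔ (Subgroup.center ↥(S : Subgroup G)).map (S : Subgroup G).subtype = up S (VV d k) :=
    eq_up_of_subgroupOf S hVP hVV
  rw [hV] at h₂
  have hVall := ctrl_V_all S d k h₂
  have hinv := mem_A_iff_conj S d hVall
  -- the fusion element
  have h3 : 3 ∣ (Subgroup.centralizer (U : Set G)).relIndex (Subgroup.normalizer (U : Set G)) := by
    rw [h₁]; norm_num
  obtain ⟨g, hgN, hgc⟩ := exists_fusion_U S d U hUS hUA h3
  have hUcomm : U ≤ commutator G := U_le_commutator S d U hUS hUA g hgN hgc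
  -- the focal subgroup
  have hrel : U.relIndex (S : Subgroup G) = 2 := by rw [hU]; exact relIndex_up_A S d
  have hfoc : Subgroup.focalSubgroup (S : Subgroup G) = U := by
    apply le_antisymm
    · rw [hU]; exact focalSubgroup_le_of_relIndex_two S _ (relIndex_up_A S d) hinv
    · rw [← Subgroup.commutator_inf_eq_focalSubgroup S]; exact le_inf hUcomm hUS
  have hKS : (S : Subgroup G).transferFocal.ker ⊓ (S : Subgroup G) = U := by
    rw [Subgroup.ker_transferFocal_inf_eq_focalSubgroup, hfoc]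
  have hKi : (S : Subgroup G).transferFocal.ker.index = 2 := by
    rw [index_ker_transferFocal, hfoc]; exact hrel
  have hUK : U ≤ (S : Subgroup G).transferFocal.ker := by
    rw [← hKS]; exact inf_le_left
  generalize (S : Subgroup G).transferFocal.ker = K at hKS hKi hUK
  -- a fixed point free element
  have hmem := mem_U_iff S d U hUS hUA
  have hzN : ((d.z : ↥(S : Subgroup G)) : G) ∈ Subgroup.normalizer (U : Set G) :=
    sylow_le_normalizer_U S d U hUS hUA d.z.2
  have hct : ((cc d : ↥(S : Subgroup G)) : G) * ((tt d : ↥(S : Subgroup G)) : G) =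
      ((tt d : ↥(S : Subgroup G)) : G) * ((cc d : ↥(S : Subgroup G)) : G) := by
    rw [← Subgroup.coe_mul, ← Subgroup.coe_mul, cc_tt_comm]
  obtain ⟨h, hh, h1, h2, h3'⟩ := Fus.exists_fpf ((cc d : ↥(S : Subgroup G)) : G)
    ((tt d : ↥(S : Subgroup G)) : G) g ((d.z : ↥(S : Subgroup G)) : G) (coe_cc_sq S d)
    (coe_tt_sq S d) hct (coe_cc_ne_one S d) (coe_tt_ne_one S d) (coe_cc_ne_tt S d)
    (coe_z_conj_cc S d) (coe_z_conj_tt S d) (conj_cc_cases S d U hUS hUA g hgN hgc)
    (conj_tt_cases S d U hUS hUA g hgN)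
  have hhN : h ∈ Subgroup.normalizer (U : Set G) := by
    rcases hh with rfl | rfl
    · exact hgN
    · exact Subgroup.mul_mem _ hzN hgN
  have hc1 := conj_cc_cases S d U hUS hUA h hhN h1
  have hc2 : h * ((tt d : ↥(S : Subgroup G)) : G) * h⁻¹ = ((cc d : ↥(S : Subgroup G)) : G) ∨
      h * ((tt d : ↥(S : Subgroup G)) : G) * h⁻¹ =
        ((cc d : ↥(S : Subgroup G)) : G) * ((tt d : ↥(S : Subgroup G)) : G) := by
    rcases conj_tt_cases S d U hUS hUA h hhN with h4 | h4 | h4
    · left; exact h4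
    · exact absurd h4 h2
    · right; exact h4
  obtain ⟨hs1, hs2, hs3⟩ := fpf_sq _ _ h (coe_cc_sq S d) (coe_tt_sq S d) hct (coe_cc_ne_one S d)
    (coe_tt_ne_one S d) (coe_cc_ne_tt S d) hc1 hc2 h3'
  have hhhN : h * h ∈ Subgroup.normalizer (U : Set G) := Subgroup.mul_mem _ hhN hhN
  have hhK : h * h ∈ K := by
    by_cases hK : h ∈ K
    · exact K.mul_mem hK hK
    · exact Fus.mul_mem_of_index_two K hKi h h hK hK
  have hcomK : U.subgroupOf K ≤ commutator ↥K := by
    apply Fus.le_commutator_of_fixedPointFree (U.subgroupOf K) ?_ ⟨h * h, hhK⟩ ?_ ?_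
    · intro w hw
      obtain ⟨m, hm⟩ := two_pow_of_mem S (w : G) (hUS (Subgroup.mem_subgroupOf.mp hw))
      exact ⟨m, Subtype.ext (by simpa using hm)⟩
    · intro w hw
      rw [Subgroup.mem_subgroupOf] at hw ⊢
      have := (Subgroup.mem_normalizer_iff.mp hhhN (w : G)).mp hw
      simpa using this
    · intro w hw hw1 hww hfix
      have hwU : (w : G) ∈ U := Subgroup.mem_subgroupOf.mp hw
      obtain ⟨i, j, hij⟩ := (hmem w).mp hwU
      have hww' : (w : G) * (w : G) = 1 := by
        have := congrArg Subtype.val hww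
        simpa using this
      have hfix' : (h * h) * (w : G) * (h * h)⁻¹ = (w : G) := by
        have := congrArg Subtype.val hfix
        simpa using this
      have hw1' : (w : G) ≠ 1 := by
        intro h0; apply hw1; exact Subtype.ext h0
      rw [hij] at hww' hfix' hw1'
      rcases coe_el_invol S d i j hww' with h4 | h4 | h4 | h4
      · exact hw1' h4
      · rw [h4] at hfix'; exact hs1 hfix'
      · rw [h4] at hfix'; exact hs2 hfix'
      · rw [h4] at hfix'; exact hs3 hfix'
  have hcom : U ≤ ⁅K, K⁆ := by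
    rw [← Subgroup.map_subtype_commutator]
    intro u hu
    exact ⟨⟨u, hUK hu⟩, hcomK (Subgroup.mem_subgroupOf.mpr hu), rfl⟩
  have hKn : K.Normal := Subgroup.normal_of_index_eq_two hKi
  refine ⟨⟨K, hKn, hKi, hUK, Fus.no_index_two_of_le_commutator S K hKi U hUK hUS hrel hcom⟩, ?_⟩
  -- the classes of involutions
  have ho3 : orderOf ((d.z : ↥(S : Subgroup G)) : G) = 2 := by
    rw [Subgroup.orderOf_coe]; exact d.hz
  have hcz : IsConj ((tt d : ↥(S : Subgroup G)) : G)
      (((cc d : ↥(S : Subgroup G)) : G) * ((tt d : ↥(S : Subgroup G)) : G)) :=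
    isConj_of_eq _ (coe_z_conj_tt S d)
  have hct1 : IsConj ((tt d : ↥(S : Subgroup G)) : G) ((cc d : ↥(S : Subgroup G)) : G) := by
    rcases hc1 with h4 | h4
    · exact (isConj_of_eq h h4).symm
    · exact hcz.trans (isConj_of_eq h h4).symm
  apply card_classes_eq_two 2 ((cc d : ↥(S : Subgroup G)) : G)
    ((d.z : ↥(S : Subgroup G)) : G) (orderOf_coe_cc S d) ho3
  · intro hc
    obtain ⟨g', hg'⟩ := isConj_iff.mp hc
    have h5 := hinv ((cc d : ↥(S : Subgroup G)) : G) (cc d).2 g'⁻¹ (by
      rw [inv_inv, hg']; exact d.z.2)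
    rw [inv_inv, hg', coe_mem_up, coe_mem_up] at h5
    exact z_not_mem_A d (h5.mp (el_mem_A d _ _))
  · intro t ht
    obtain ⟨g₁, hg₁⟩ := Fus.exists_conj_mem_sylow S t 1 (by rw [ht, pow_one])
    have hs : orderOf (⟨g₁ * t * g₁⁻¹, hg₁⟩ : ↥(S : Subgroup G)) = 2 := by
      rw [Subgroup.orderOf_mk, Fus.orderOf_conj_eq, ht]
    obtain ⟨hs1', hs2'⟩ := (orderOf_two_iff _).mp hs
    have h0 : IsConj t (g₁ * t * g₁⁻¹) := isConj_of_eq g₁ rfl
    rcases invol_cases d _ hs1' hs2' with h4 | h4 | h4 | ⟨i, h4⟩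
    · left
      have h' : g₁ * t * g₁⁻¹ = ((cc d : ↥(S : Subgroup G)) : G) := congrArg Subtype.val h4
      rw [h'] at h0; exact h0
    · left
      have h' : g₁ * t * g₁⁻¹ = ((tt d : ↥(S : Subgroup G)) : G) := congrArg Subtype.val h4
      rw [h'] at h0; exact h0.trans hct1
    · left
      have h' : g₁ * t * g₁⁻¹ = ((cc d : ↥(S : Subgroup G)) : G) *
          ((tt d : ↥(S : Subgroup G)) : G) := congrArg Subtype.val h4
      rw [h'] at h0
      exact (h0.trans hcz.symm).trans hct1
    · right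
      have h' : g₁ * t * g₁⁻¹ = ((el d i (-i) * d.z : ↥(S : Subgroup G)) : G) :=
        congrArg Subtype.val h4
      rw [h'] at h0
      obtain ⟨r, hr⟩ := exists_conj_elz d i
      have h6 : (r : G) * ((d.z : ↥(S : Subgroup G)) : G) * (r : G)⁻¹ =
          ((el d i (-i) * d.z : ↥(S : Subgroup G)) : G) := by
        have := congrArg Subtype.val hr
        simpa using this
      exact h0.trans (isConj_of_eq _ h6).symm

end Cfsg.Agent.S1211
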