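import Mathlib
import Cfsg.Agent.Lib.Helper22.WrFusion
import Cfsg.Agent.S0079
import Cfsg.Statements.S1212
-- import your own Cfsg.Agent.* helpers here

set_option autoImplicit false
open Cfsg

namespace Cfsg.Agent.S1212

open Cfsg.Agent.Helper6 Cfsg.Agent.Helper6.Wr Cfsg.Agent.Helper22.WrFus


/-- Let G be a finite group whose Sylow 2-subgroup S is wreathed of order 2^(2n+1), U the commutative subgroup of index 2 in S, Q a quaternion subgroup of order 8 of S and V = Q Z(S). If |N_G(U) : C_G(U)| = 2 and |N_G(V) : V C_G(V)| = 2, then G has a normal 2-complement and exactly three conjugacy classes of involutions. -/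
theorem result {G : Type*} [Group G] [Finite G] (S : Sylow 2 G) (hS : Cfsg.IsWreathed (S : Subgroup G)) (n : ℕ) (hn : Nat.card S = 2 ^ (2 * n + 1)) (U : Subgroup G) (hUS : U ≤ S) (hUab : IsMulCommutative U) (hUcard : Nat.card U = 2 ^ (2 * n)) (Q : Subgroup G) (hQS : Q ≤ S) (eQ : Q ≃* QuaternionGroup 2) (h₁ : (Subgroup.centralizer (U : Set G)).relIndex (Subgroup.normalizer (U : Set G)) = 2) (h₂ : ((Q ⊔ ((Subgroup.center (S : Subgroup G)).map (S : Subgroup G).subtype)) ⊔ Subgroup.centralizer ((Q ⊔ ((Subgroup.center (S : Subgroup G)).map (S : Subgroup G).subtype) : Subgroup G) : Set G)).relIndex (Subgroup.normalizer ((Q ⊔ ((Subgroup.center (S : Subgroup G)).map (S : Subgroup G).subtype) : Subgroup G) : Set G)) = 2) : Cfsg.HasNormalPComplement 2 G ∧ Nat.card {C : ConjClasses G // ∃ t : G, orderOf t = 2 ∧ ConjClasses.mk t = C} = 3 := by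
  obtain ⟨d⟩ := exists_data hS
  have hnd : n = d.n := by
    have h : Nat.card ↥(S : Subgroup G) = 2 ^ (2 * n + 1) := hn
    rw [d.card] at h
    have := Nat.pow_right_injective (le_refl 2) h
    omega
  subst hnd
  have hUab' : ∀ u ∈ U, ∀ v ∈ U, u * v = v * u := by
    intro u hu v hv
    have := hUab.is_comm.comm (⟨u, hu⟩ : U) ⟨v, hv⟩
    exact congrArg Subtype.val this
  have hUA := setup_U S d U hUS hUab' hUcard
  obtain ⟨k, hVP, hVV⟩ := setup_V S d Q hQS eQ
  have hU : U = up S (A d) := eq_up_of_subgroupOf S hUS hUA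
  have hV : Q ⊔ (Subgroup.center ↥(S : Subgroup G)).map (S : Subgroup G).subtype = up S (VV d k) :=
    eq_up_of_subgroupOf S hVP hVV
  rw [hU] at h₁
  rw [hV] at h₂
  have hall := all_ctrl_of_two_two S d k h₁ h₂
  have hAnormal : (A d).Normal := Subgroup.normal_of_index_eq_two (index_A d)
  -- `S` controls fusion
  have hctl : ∀ x ∈ (S : Subgroup G), ∀ g : G, g * x * g⁻¹ ∈ (S : Subgroup G) →
      ∃ s ∈ (S : Subgroup G), s * x * s⁻¹ = g * x * g⁻¹ := by
    intro x hx g hg
    obtain ⟨s, hs, h⟩ := control S hall {x} g⁻¹ (by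
        intro a ha
        rw [Set.mem_singleton_iff] at ha
        rw [ha]; exact hx) (by
        rintro _ ⟨a, ha, rfl⟩
        rw [Set.mem_singleton_iff] at ha
        rw [ha, inv_inv]; exact hg)
    refine ⟨s⁻¹, Subgroup.inv_mem _ hs, ?_⟩
    have h1 := h x (Set.mem_singleton x)
    rw [inv_inv] at h1
    rw [h1, inv_inv]
  -- transfer to `S`
  have hctl' : ∀ x y : ↥(S : Subgroup G), IsConj (x : G) (y : G) → ∃ s : ↥(S : Subgroup G),
      s * x * s⁻¹ = y := by
    intro x y hxy
    obtain ⟨g, hg⟩ := isConj_iff.mp hxy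
    obtain ⟨s, hs, h⟩ := hctl x x.2 g (by rw [hg]; exact y.2)
    refine ⟨⟨s, hs⟩, ?_⟩
    apply Subtype.ext
    show s * (x : G) * s⁻¹ = (y : G)
    rw [h, hg]
  refine ⟨?_, ?_⟩
  · have h79 := (Cfsg.Agent.S0079.result (S : Subgroup G) S.2.isNilpotent
      (S.card_coprime_index)).mpr (by
        intro x hx y hy hg
        obtain ⟨g, hg⟩ := hg
        obtain ⟨s, hs, h⟩ := hctl x hx g (by rw [hg]; exact hy)
        exact ⟨s, hs, h.trans hg⟩)
    obtain ⟨N, hN, hc⟩ := h79
    exact ⟨S, N, hN, hc⟩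
  · have ho2 : orderOf ((tt d : ↥(S : Subgroup G)) : G) = 2 := by
      rw [Subgroup.orderOf_coe]
      exact (orderOf_two_iff _).mpr ⟨tt_ne_one d, tt_sq d⟩
    have ho3 : orderOf ((d.z : ↥(S : Subgroup G)) : G) = 2 := by
      rw [Subgroup.orderOf_coe]; exact d.hz
    have hccA : cc d ∈ A d := el_mem_A d _ _
    have httA : tt d ∈ A d := el_mem_A d _ _
    have hcen : ∀ s : ↥(S : Subgroup G), s * cc d * s⁻¹ = cc d := by
      intro s
      have := (Subgroup.mem_center_iff.mp (mem_center_cc d)) s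
      rw [this]; group
    apply card_classes_eq_three 2 ((cc d : ↥(S : Subgroup G)) : G) ((tt d : ↥(S : Subgroup G)) : G)
      ((d.z : ↥(S : Subgroup G)) : G) (orderOf_coe_cc S d) ho2 ho3
    · intro h
      obtain ⟨s, hs⟩ := hctl' _ _ h
      rw [hcen] at hs
      exact cc_ne_tt d hs
    · intro h
      obtain ⟨s, hs⟩ := hctl' _ _ h
      rw [hcen] at hs
      exact z_not_mem_A d (hs ▸ hccA)
    · intro h
      obtain ⟨s, hs⟩ := hctl' _ _ h
      exact z_not_mem_A d (hs ▸ hAnormal.conj_mem _ httA s)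
    · intro t ht
      obtain ⟨g₁, hg₁⟩ := Fus.exists_conj_mem_sylow S t 1 (by rw [ht, pow_one])
      have hs : orderOf (⟨g₁ * t * g₁⁻¹, hg₁⟩ : ↥(S : Subgroup G)) = 2 := by
        rw [Subgroup.orderOf_mk, Fus.orderOf_conj_eq, ht]
      obtain ⟨hs1, hs2⟩ := (orderOf_two_iff _).mp hs
      have h0 : IsConj t (g₁ * t * g₁⁻¹) := isConj_of_eq g₁ rfl
      rcases invol_cases d _ hs1 hs2 with h | h | h | ⟨i, h⟩
      · left
        have h' : g₁ * t * g₁⁻¹ = ((cc d : ↥(S : Subgroup G)) : G) := congrArg Subtype.val h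
        rw [h'] at h0; exact h0
      · right; left
        have h' : g₁ * t * g₁⁻¹ = ((tt d : ↥(S : Subgroup G)) : G) := congrArg Subtype.val h
        rw [h'] at h0; exact h0
      · right; left
        have h' : g₁ * t * g₁⁻¹ = ((cc d : ↥(S : Subgroup G)) : G) *
            ((tt d : ↥(S : Subgroup G)) : G) := congrArg Subtype.val h
        rw [h'] at h0
        exact h0.trans (isConj_of_eq _ (coe_z_conj_tt S d)).symm
      · right; right
        have h' : g₁ * t * g₁⁻¹ = ((el d i (-i) * d.z : ↥(S : Subgroup G)) : G) :=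
          congrArg Subtype.val h
        rw [h'] at h0
        obtain ⟨r, hr⟩ := exists_conj_elz d i
        have h4 : (r : G) * ((d.z : ↥(S : Subgroup G)) : G) * (r : G)⁻¹ =
            ((el d i (-i) * d.z : ↥(S : Subgroup G)) : G) := by
          have := congrArg Subtype.val hr
          simpa using this
        exact h0.trans (isConj_of_eq _ h4).symm

end Cfsg.Agent.S1212
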