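import Mathlib
import Cfsg.Statements.S2117
import Cfsg.Agent.Lib.Helper20.SchurSLD
import Cfsg.Agent.Lib.Helper20.SchurSLF
import Cfsg.Agent.Lib.Helper20.SchurSLG

set_option autoImplicit false
open Cfsg

namespace Cfsg.Agent.S2117

open Cfsg.Agent.Helper20.SchurSL Cfsg.Agent.Helper29.StemSylow Cfsg.Agent.Helper12

/-- For a finite field with q elements, q ≠ 4 and q ≠ 9, the special linear group SL₂ has trivial Schur multiplier (here the Schur multiplier is described through stem extensions, as in the definitions). -/
theorem result {F : Type*} [Field F] [Fintype F] (h4 : Fintype.card F ≠ 4) (h9 : Fintype.card F ≠ 9) : Cfsg.HasCyclicSchurMultiplier (Matrix.SpecialLinearGroup (Fin 2) F) 1 := by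
  classical
  constructor
  · refine ⟨Matrix.SpecialLinearGroup (Fin 2) F, inferInstance, inferInstance, MonoidHom.id _,
      ⟨Function.surjective_id, ?_, ?_⟩, ⟨?_⟩⟩
    · rw [MonoidHom.ker_id]
      exact bot_le
    · rw [MonoidHom.ker_id]
      exact bot_le
    · haveI : Unique (MonoidHom.id (Matrix.SpecialLinearGroup (Fin 2) F)).ker := by
        rw [MonoidHom.ker_id]
        infer_instance
      haveI : Unique (Multiplicative (ZMod 1)) :=
        ⟨⟨1⟩, fun a => Subsingleton.elim (α := ZMod 1) _ _⟩
      exact MulEquiv.ofUnique
  · intro Γ _ _ σ hσ
    obtain ⟨hs, hK, hK'⟩ := hσ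
    have hker : σ.ker = ⊥ := by
      apply ker_eq_bot_of_local σ hs hK hK'
      intro r hr
      obtain ⟨p, hp⟩ : ∃ p, p = ringChar F := ⟨_, rfl⟩
      haveI hcp : CharP F p := by rw [hp]; exact ringChar.charP F
      haveI hpf : Fact p.Prime := ⟨CharP.char_is_prime F p⟩
      have hpp : p.Prime := hpf.out
      by_cases hsq : r ^ 2 ∣ Nat.card (Matrix.SpecialLinearGroup (Fin 2) F)
      · by_cases hrp : r = p
        · subst hrp
          obtain ⟨n, -, hq⟩ := FiniteField.card F r
          have hfac := factorization_card_SL2 r (n : ℕ) hq
          have hn2 : 2 ≤ (n : ℕ) := by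
            rw [← hfac]
            exact (Nat.Prime.pow_dvd_iff_le_factorization hpp Nat.card_pos.ne').1 hsq
          have hex : ∃ s₁ s₂ : Fˣ, (s₁ : F) ^ 2 + (s₂ : F) ^ 2 = 1 ∧
              (s₁ : F) ^ 2 * (s₂ : F) ^ 2 ≠ 1 := by
            by_cases hr2 : r = 2
            · subst hr2
              have h20 : (2 : F) = 0 := by
                have := CharP.cast_eq_zero F 2
                exact_mod_cast this
              apply exists_squares_even h20
              rw [hq]
              have hn3 : 3 ≤ (n : ℕ) := by
                by_contra hlt
                have : (n : ℕ) = 2 := by omega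
                rw [this] at hq
                exact h4 (by rw [hq]; norm_num)
              calc 4 < 2 ^ 3 := by norm_num
                _ ≤ 2 ^ (n : ℕ) := Nat.pow_le_pow_right (by norm_num) hn3
            · have h20 : (2 : F) ≠ 0 := by
                apply Ring.two_ne_zero
                rw [← hp]
                exact hr2
              apply exists_squares_odd h20
              rw [hq]
              have hr3 : 3 ≤ r := by
                have := hpp.two_le
                omega
              by_cases hr3' : r = 3
              · subst hr3'
                have hn3 : 3 ≤ (n : ℕ) := by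
                  by_contra hlt
                  have : (n : ℕ) = 2 := by omega
                  rw [this] at hq
                  exact h9 (by rw [hq]; norm_num)
                calc 13 < 3 ^ 3 := by norm_num
                  _ ≤ 3 ^ (n : ℕ) := Nat.pow_le_pow_right (by norm_num) hn3
              · have hr5 : 5 ≤ r := by
                  by_contra hlt
                  have : r = 4 := by omega
                  rw [this] at hpp
                  exact absurd hpp (by norm_num)
                calc 13 < 5 ^ 2 := by norm_num
                  _ ≤ r ^ 2 := Nat.pow_le_pow_left hr5 2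
                  _ ≤ r ^ (n : ℕ) := Nat.pow_le_pow_right (by omega) hn2
          obtain ⟨s₁, s₂, hsum, hprod⟩ := hex
          exact local_borel r σ hs hK s₁ s₂ hsum hprod
        · by_cases hr2 : r = 2
          · subst hr2
            have hF : ringChar F ≠ 2 := by
              rw [← hp]
              exact fun h => hrp h.symm
            have hodd : Odd (Fintype.card F) := by
              rw [Nat.odd_iff]
              exact FiniteField.odd_card_of_char_ne_two hF
            exact local_two hodd σ hs hK
          · exact local_cyclic p σ hs hK r hr hr2 hrp (dvd_trans (dvd_pow_self r two_ne_zero) hsq)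
      · exact local_of_not_sq_dvd σ hs hK r hr hsq
    refine ⟨1, ?_⟩
    intro x
    refine ⟨1, ?_⟩
    apply Subtype.ext
    have hx : (x : Γ) ∈ (⊥ : Subgroup Γ) := by
      rw [← hker]
      exact x.2
    rw [Subgroup.mem_bot] at hx
    rw [hx]
    rfl

end Cfsg.Agent.S2117
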