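import Mathlib
import Cfsg.Statements.S4669
import Cfsg.Agent.Lib.Helper18.BlockRankQuot
import Cfsg.Agent.Lib.Helper18.NormalDefect
import Cfsg.Agent.Lib.Helper23.BlockDefectZero
import Cfsg.Agent.S0941

set_option autoImplicit false
open Cfsg

namespace Cfsg.Agent.S4669

open Cfsg.Agent.Helper24 Cfsg.Agent.Helper18 Cfsg.Agent.Helper23.Blk
open scoped ComplexConjugate

/-- the rank of a singleton is one -/
theorem blockRank_singleton {G : Type*} [Group G] [Finite G] {p : ℕ} (hp : p.Prime)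
    (χ : IrrCharacter G) : blockRank p ({χ} : Set (IrrCharacter G)) = 1 := by
  unfold blockRank
  rw [Set.image_singleton]
  exact finrank_span_singleton (pRegularPart_ne_zero p hp χ)

theorem result {G : Type*} [Group G] [Fintype G] (p : ℕ) [Fact p.Prime] (M : Ideal Cfsg.AlgInt) (hM : Cfsg.IsPModular p M) (B : Set (Cfsg.IrrCharacter G)) (hB : Cfsg.IsPBlock M B) (P : Subgroup G) (hD : Cfsg.IsDefectGroup p M B P) (hPZ : P ≤ Subgroup.center G) : Cfsg.blockRank p B = 1 := by
  classical
  have hp : p.Prime := hM.1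
  haveI hMp : M.IsPrime := hM.2.1.isPrime
  haveI hPn : P.Normal := by
    constructor
    intro n hn g
    have := hPZ hn
    rw [Subgroup.mem_center_iff] at this
    rw [this g, mul_inv_cancel_right]
    exact hn
  haveI : Fintype (G ⧸ P) := Fintype.ofFinite _
  have hP : IsPGroup p P := isPGroup_of_isDefectGroup hM hD
  have hC : ∃ k : ℕ, (Subgroup.centralizer (P : Set G)).index = p ^ k := by
    refine ⟨0, ?_⟩
    have : Subgroup.centralizer (P : Set G) = ⊤ := by
      rw [Subgroup.centralizer_eq_top_iff_subset]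
      exact hPZ
    rw [this, Subgroup.index_top, pow_zero]
  obtain ⟨h0941a, h0941b⟩ := Cfsg.Agent.S0941.result p M hM P hP hC
  obtain ⟨χ', θ, hθB, hθχ'⟩ := h0941b B hB
  obtain ⟨B', hB'⟩ : ∃ B' : Set (IrrCharacter (G ⧸ P)), B' = {η : IrrCharacter (G ⧸ P) | ∃ ψ ∈ B,
      (ψ : G → ℂ) = (η : G ⧸ P → ℂ) ∘ (QuotientGroup.mk : G → G ⧸ P)} := ⟨_, rfl⟩
  have hrank := blockRank_quotient_eq P hM hP hC hB B' (by
    intro η
    rw [hB']
    rfl)
  rw [hrank]
  -- `χ'` has defect zero
  have hdeg : charDegree (θ : G → ℂ) = charDegree (χ' : G ⧸ P → ℂ) := by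
    unfold charDegree
    rw [hθχ', Function.comp_apply, QuotientGroup.mk_one]
  have hle := le_factorization_charDegree_of_defectGroup hM hB hD hθB
  have hcard : Nat.card G = Nat.card (G ⧸ P) * Nat.card P :=
    Subgroup.card_eq_card_quotient_mul_card_subgroup P
  have hfac : (Nat.card G).factorization p =
      (Nat.card (G ⧸ P)).factorization p + (Nat.card P).factorization p := by
    rw [hcard, Nat.factorization_mul Nat.card_pos.ne' Nat.card_pos.ne']
    rfl
  have hdz : ¬ p ∣ Nat.card (G ⧸ P) / charDegree (χ' : G ⧸ P → ℂ) := by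
    rw [not_dvd_card_div_iff p hp χ', ← hdeg]
    omega
  have hsing : blockOf M (χ' : G ⧸ P → ℂ) = {χ'} :=
    (not_dvd_iff_blockOf_eq_singleton hM χ').1 hdz
  have hB'eq : B' = {χ'} := by
    ext η
    rw [hB', Set.mem_setOf_eq, Set.mem_singleton_iff]
    constructor
    · rintro ⟨ψ, hψ, hψη⟩
      have h1 : SameBlock M (θ : G → ℂ) (ψ : G → ℂ) := by
        obtain ⟨χ₁, rfl⟩ := hB
        exact sameBlock_trans (sameBlock_symm hθB) hψ
      rw [hθχ', hψη] at h1
      have h2 : η ∈ blockOf M (χ' : G ⧸ P → ℂ) := (h0941a χ' η).2 h1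
      rw [hsing] at h2
      exact h2
    · rintro rfl
      exact ⟨θ, hθB, hθχ'⟩
  rw [hB'eq]
  exact blockRank_singleton hp χ'

end Cfsg.Agent.S4669
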