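import Mathlib
import Cfsg.Statements.S4733
import Cfsg.Agent.Lib.Helper23.BlockRank
import Cfsg.Agent.Lib.Helper23.BlockDefectZero

set_option autoImplicit false
open Cfsg Cfsg.Agent.Helper23.Blk

namespace Cfsg.Agent.S4733

/-- Let p be a prime, M a maximal ideal of the algebraic integers containing p, and B a p-block of the finite group G with k irreducible characters and p-regular rank l (the number of irreducible Brauer characters). Then l ≤ k, and the following are equivalent: B has defect 0; k = l = 1; k = l. -/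
theorem result {G : Type*} [Group G] [Finite G] (p : ℕ) [Fact p.Prime] (M : Ideal Cfsg.AlgInt) (hM : Cfsg.IsPModular p M) (B : Set (Cfsg.IrrCharacter G)) (hB : Cfsg.IsPBlock M B) : Cfsg.blockRank p B ≤ Nat.card B ∧ (Cfsg.blockDefect p B = 0 ↔ (Nat.card B = 1 ∧ Cfsg.blockRank p B = 1)) ∧ (Cfsg.blockDefect p B = 0 ↔ Nat.card B = Cfsg.blockRank p B) := by
  classical
  have hp : p.Prime := Fact.out
  haveI : Fintype G := Fintype.ofFinite G
  haveI hMp : M.IsPrime := hM.2.1.isPrime
  haveI : Finite (IrrCharacter G) := Cfsg.Agent.Helper24.irr_finite'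
  haveI : Fintype B := Fintype.ofFinite B
  obtain ⟨χ₀, hχ₀⟩ := hB
  have hB' : IsPBlock M B := ⟨χ₀, hχ₀⟩
  have hne : B.Nonempty := ⟨χ₀, by rw [hχ₀]; exact mem_blockOf_self χ₀⟩
  have key1 : blockDefect p B = 0 → ∃ χ, B = {χ} := by
    intro h
    rw [blockDefect_eq_zero_iff p hp hne] at h
    obtain ⟨χ, hχ⟩ := hne
    have h1 := (not_dvd_iff_blockOf_eq_singleton hM χ).1 (h χ hχ)
    refine ⟨χ, ?_⟩
    rw [← h1, hχ₀]
    rw [hχ₀] at hχ
    exact (blockOf_eq_of_mem hχ).symm
  have key2 : ∀ χ, B = {χ} → Nat.card B = 1 ∧ blockRank p B = 1 := by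
    intro χ h
    subst h
    refine ⟨by simp, ?_⟩
    unfold blockRank
    rw [Set.image_singleton]
    exact finrank_span_singleton (pRegularPart_ne_zero p hp χ)
  have key3 : Nat.card B = blockRank p B → blockDefect p B = 0 := by
    intro h
    rw [blockRank_eq_finrank_range, Nat.card_eq_fintype_card,
      ← linearIndependent_iff_card_eq_finrank_span] at h
    rw [blockDefect_eq_zero_iff p hp hne]
    intro χ hχ
    exact not_dvd_card_div_degree_of_vanish χ.2
      (fun y hy => vanish_of_linearIndependent p hM hB' h hχ hy)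
  refine ⟨blockRank_le_card p B, ⟨?_, ?_⟩, ⟨?_, ?_⟩⟩
  · intro h
    obtain ⟨χ, hχ⟩ := key1 h
    exact key2 χ hχ
  · intro h
    exact key3 (by rw [h.1, h.2])
  · intro h
    obtain ⟨χ, hχ⟩ := key1 h
    obtain ⟨h1, h2⟩ := key2 χ hχ
    rw [h1, h2]
  · exact key3

end Cfsg.Agent.S4733
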