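import Mathlib
import Cfsg.Statements.S4491
import Cfsg.Agent.Lib.Helper23.BlockDim

set_option autoImplicit false
open Cfsg Cfsg.Agent.Helper23.Blk Cfsg.Agent.Helper24 Cfsg.Agent.Helper18
open scoped ComplexConjugate

namespace Cfsg.Agent.S4491


/-- the final arithmetic: from `D² p^a - n N = p^(a+2e+1) z` -/
theorem final_val {p : ℕ} [Fact p.Prime] {a e D N : ℕ} {n z : ℤ} (hD0 : D ≠ 0)
    (hDe : D.factorization p = e) (hn0 : n ≠ 0) (hne : padicValInt p n = e)
    (hE : (D : ℤ) ^ 2 * ((p ^ a : ℕ) : ℤ) - n * (N : ℤ) = ((p ^ (a + 2 * e + 1) : ℕ) : ℤ) * z) :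
    N.factorization p = a + e := by
  have hp : p.Prime := Fact.out
  obtain ⟨w, hw⟩ : p ^ e ∣ D := hDe ▸ Nat.ordProj_dvd D p
  have hpw : ¬ p ∣ w := by
    intro hc
    obtain ⟨w', hw'⟩ := hc
    have h1 : p ^ (e + 1) ∣ D := ⟨w', by rw [hw, hw', pow_succ]; ring⟩
    have := (hp.pow_dvd_iff_le_factorization hD0).1 h1
    omega
  have hpz : (p : ℤ) ≠ 0 := by exact_mod_cast hp.ne_zero
  -- `n N = p^(a+2e) (w² - p z)`
  have h1 : n * (N : ℤ) = (p : ℤ) ^ (a + 2 * e) * ((w : ℤ) ^ 2 - p * z) := by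
    have : n * (N : ℤ) = (D : ℤ) ^ 2 * ((p ^ a : ℕ) : ℤ) - ((p ^ (a + 2 * e + 1) : ℕ) : ℤ) * z := by
      rw [← hE]
      ring
    rw [this, hw]
    push_cast
    ring
  have hu : ¬ (p : ℤ) ∣ ((w : ℤ) ^ 2 - p * z) := by
    intro hc
    have h2 : (p : ℤ) ∣ (w : ℤ) ^ 2 := by
      have := dvd_add hc (dvd_mul_right (p : ℤ) z)
      rwa [sub_add_cancel] at this
    have h3 : (p : ℤ) ∣ (w : ℤ) := (Nat.prime_iff_prime_int.1 hp).dvd_of_dvd_pow h2
    exact hpw (by exact_mod_cast h3)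
  have hu0 : (w : ℤ) ^ 2 - p * z ≠ 0 := by
    intro h0
    apply hu
    rw [h0]
    exact dvd_zero _
  have hN0 : (N : ℤ) ≠ 0 := by
    intro h0
    rw [h0, mul_zero] at h1
    rcases mul_eq_zero.1 h1.symm with h | h
    · exact pow_ne_zero _ hpz h
    · exact hu0 h
  have h2 := congrArg (padicValInt p) h1
  rw [padicValInt.mul hn0 hN0, padicValInt.mul (pow_ne_zero _ hpz) hu0, hne,
    padicValInt.eq_zero_of_not_dvd hu, add_zero] at h2
  have h3 : padicValInt p ((p : ℤ) ^ (a + 2 * e)) = a + 2 * e := by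
    have : ((p : ℤ) ^ (a + 2 * e)) = ((p ^ (a + 2 * e) : ℕ) : ℤ) := by push_cast; rfl
    rw [this, padicValInt.of_nat, padicValNat.prime_pow]
  rw [h3, padicValInt.of_nat] at h2
  rw [Nat.factorization_def N hp]
  omega

/-- Let B be a p-block of defect d of the finite group G (relative to a maximal ideal M of the algebraic integers containing p), and let p^a be the p-part of the order of G. Then the exact power of p dividing the sum of the squares of the degrees of the irreducible characters in B is p^(2a − d). -/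
theorem result {G : Type*} [Group G] [Finite G] (p : ℕ) [Fact p.Prime] (M : Ideal Cfsg.AlgInt) (hM : Cfsg.IsPModular p M) (B : Set (Cfsg.IrrCharacter G)) (hB : Cfsg.IsPBlock M B) : (∑ᶠ χ ∈ B, Cfsg.charDegree (χ : G → ℂ) ^ 2).factorization p = 2 * (Nat.card G).factorization p - Cfsg.blockDefect p B := by
  classical
  haveI hMp : M.IsPrime := hM.2.1.isPrime
  letI : Fintype G := Fintype.ofFinite G
  letI : Fintype (IrrCharacter G) := irrFintype
  have hp : p.Prime := hM.1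
  have hne : B.Nonempty := by
    obtain ⟨χ₀, rfl⟩ := hB
    exact ⟨χ₀, sameBlock_refl _⟩
  obtain ⟨ψ, hψ, hmin⟩ := exists_min_degree (p := p) hne
  set a := (Nat.card G).factorization p with ha
  set e := (charDegree (ψ : G → ℂ)).factorization p with he
  have hdeg0 : ∀ μ : IrrCharacter G, charDegree (μ : G → ℂ) ≠ 0 := by
    intro μ h0'
    have := irr_one_ne_zero μ.2
    rw [irr_one_eq_charDegree μ.2, h0'] at this
    exact this (by simp)
  have hea : e ≤ a := by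
    have hdvd := charDegree_dvd_card ψ.2
    have hG0 : Nat.card G ≠ 0 := (Nat.card_pos (α := G)).ne'
    exact (Nat.factorization_le_iff_dvd (hdeg0 ψ) hG0).2 hdvd p
  have hd : blockDefect p B = a - e := by
    unfold blockDefect
    congr 1
    apply le_antisymm
    · exact Nat.sInf_le ⟨ψ, hψ, rfl⟩
    · have hne' : ((fun ψ : IrrCharacter G => (charDegree (ψ : G → ℂ)).factorization p) '' B).Nonempty :=
        ⟨_, ψ, hψ, rfl⟩
      obtain ⟨ψ', hψ', hψe⟩ := Nat.sInf_mem hne'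
      rw [← hψe]
      exact hmin ψ' hψ'
  have h0 : blockHeight p B (ψ : G → ℂ) = 0 := (blockHeight_eq_zero_iff hψ).2 hmin
  rw [hd]
  suffices hmain : (∑ᶠ χ ∈ B, charDegree (χ : G → ℂ) ^ 2).factorization p = a + e by
    rw [hmain]
    omega
  obtain ⟨N, hNdef⟩ : ∃ N : ℕ, (∑ᶠ χ ∈ B, charDegree (χ : G → ℂ) ^ 2) = N := ⟨_, rfl⟩
  rw [hNdef]
  choose n hn hdχ hdμ hform using fun μ => exists_int_tilde (p := p) ψ μ
  -- the diagonal entry
  obtain ⟨hnψ0, hnψv⟩ : n ψ ≠ 0 ∧ padicValInt p (n ψ) = e := by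
    have hu := ((height_zero_criterion hM hB hψ).2.1 h0) ψ hψ
    have hJ : ¬ MemLocalIdeal M ((n ψ : ℂ) / (ψ : G → ℂ) 1) :=
      fun h => hu ((heightUnit_iff hM ψ ψ (hform ψ)).1 h)
    rw [irr_one_eq_charDegree ψ.2] at hJ
    exact (not_memLocalIdeal_intCast_div_iff hM (hdeg0 ψ) (hdμ ψ)).1 hJ
  -- vanishing off the block
  have hnz : ∀ μ, μ ∉ B → n μ = 0 := by
    intro μ hμ
    have h1 : classInner (pRegularPart p (ψ : G → ℂ)) (μ : G → ℂ) = 0 :=
      classInner_pRegularPart_eq_zero p hM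
        (fun g => memLocalRing_blockCoeff hMp hB g) hψ hμ
    have h2 := hn μ
    rw [classInner_smul_left, h1, mul_zero] at h2
    exact_mod_cast h2.symm
  -- the key divisibility
  have hcf := isClassFunction_conjReg (p := p) (isClassFunction_of_isIrrCharacter ψ.2)
  have hR : ∀ g, MemLocalRing M (conjReg p (ψ : G → ℂ) g) :=
    memLocalRing_conjReg (isCharacter_of_isIrrCharacter ψ.2)
  obtain ⟨hu1, -⟩ := unit_card_part (G := G) hM
  have hkey : ∀ ξ ∈ B, ((p ^ (2 * e + 1) : ℕ) : ℤ) ∣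
      (charDegree (ψ : G → ℂ) : ℤ) * n ξ - n ψ * (charDegree (ξ : G → ℂ) : ℤ) := by
    intro ξ hξ
    set I : ℤ := (charDegree (ψ : G → ℂ) : ℤ) * n ξ - n ψ * (charDegree (ξ : G → ℂ) : ℤ) with hI
    set f := (charDegree (ξ : G → ℂ)).factorization p with hf
    have hef : e ≤ f := hmin ξ hξ
    have hd0' : charDegree (ξ : G → ℂ) * charDegree (ψ : G → ℂ) ≠ 0 :=
      mul_ne_zero (hdeg0 ξ) (hdeg0 ψ)
    have hfac : (charDegree (ξ : G → ℂ) * charDegree (ψ : G → ℂ)).factorization p = f + e := by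
      rw [Nat.factorization_mul (hdeg0 ξ) (hdeg0 ψ)]
      rfl
    have hJ : MemLocalIdeal M ((I : ℂ) /
        ((charDegree (ξ : G → ℂ) * charDegree (ψ : G → ℂ) : ℕ) : ℂ)) := by
      have hξ1 : ((charDegree (ξ : G → ℂ) : ℕ) : ℂ) ≠ 0 := by exact_mod_cast hdeg0 ξ
      have hψ1 : ((charDegree (ψ : G → ℂ) : ℕ) : ℂ) ≠ 0 := by exact_mod_cast hdeg0 ψ
      have h1 : (I : ℂ) / ((charDegree (ξ : G → ℂ) * charDegree (ψ : G → ℂ) : ℕ) : ℂ) =
          (n ξ : ℂ) / (ξ : G → ℂ) 1 - (n ψ : ℂ) / (ψ : G → ℂ) 1 := by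
        rw [irr_one_eq_charDegree ξ.2, irr_one_eq_charDegree ψ.2, hI]
        push_cast
        field_simp
      rw [h1, hform ξ, hform ψ, ← mul_sub]
      exact memLocalIdeal_mul_left hu1
        (memLocalIdeal_omega_sub (sameBlock_of_mem hB hξ hψ) hcf hR)
    have hdvd : ((p ^ (charDegree (ξ : G → ℂ) * charDegree (ψ : G → ℂ)).factorization p : ℕ) : ℤ)
        ∣ I := by
      rw [hfac, hI]
      have hpe : ((p ^ e : ℕ) : ℤ) ∣ (charDegree (ψ : G → ℂ) : ℤ) := by
        exact_mod_cast Nat.ordProj_dvd (charDegree (ψ : G → ℂ)) p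
      have hpf : ((p ^ f : ℕ) : ℤ) ∣ (charDegree (ξ : G → ℂ) : ℤ) := by
        exact_mod_cast Nat.ordProj_dvd (charDegree (ξ : G → ℂ)) p
      have hsplit : ((p ^ (f + e) : ℕ) : ℤ) = ((p ^ f : ℕ) : ℤ) * ((p ^ e : ℕ) : ℤ) := by
        push_cast
        ring
      rw [hsplit]
      apply dvd_sub
      · rw [mul_comm ((p ^ f : ℕ) : ℤ)]
        exact mul_dvd_mul hpe (hdμ ξ)
      · rw [mul_comm ((p ^ f : ℕ) : ℤ)]
        exact mul_dvd_mul (hdχ ψ) hpf
    have h1 := (not_memLocalIdeal_intCast_div_iff hM hd0' hdvd).not.1 (not_not.2 hJ)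
    push Not at h1
    by_cases hI0 : I = 0
    · rw [hI0]
      exact dvd_zero _
    · have h2 := h1 hI0
      rw [hfac] at h2 hdvd
      have h3 : f + e ≤ padicValInt p I := by
        have := (padicValInt_dvd_iff (p := p) _ I).1 (by
          have := hdvd
          push_cast at this ⊢
          exact this)
        rcases this with h | h
        · exact absurd h hI0
        · exact h
      have h5 : 2 * e + 1 ≤ padicValInt p I := by omega
      have := (padicValInt_dvd_iff (p := p) (2 * e + 1) I).2 (Or.inr h5)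
      push_cast
      exact this
  -- the generalized character
  set ψt : G → ℂ := ((p ^ a : ℕ) : ℂ) • pRegularPart p (ψ : G → ℂ) with hψt
  set F : G → ℂ := (((p ^ (2 * e + 1) : ℕ) : ℂ)⁻¹) •
    (((charDegree (ψ : G → ℂ) : ℕ) : ℂ) • ψt + (-(n ψ : ℂ)) • blockReg B) with hF
  have hpc0 : ((p ^ (2 * e + 1) : ℕ) : ℂ) ≠ 0 := by
    have : p ^ (2 * e + 1) ≠ 0 := pow_ne_zero _ hp.ne_zero
    exact_mod_cast this
  have hψtcf : IsClassFunction G ψt := by
    intro g h
    rw [hψt, Pi.smul_apply, Pi.smul_apply,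
      isClassFunction_pRegularPart p (isClassFunction_of_isIrrCharacter ψ.2) g h]
  have hFcf : IsClassFunction G F := by
    intro g h
    simp only [hF, Pi.smul_apply, Pi.add_apply]
    rw [hψtcf g h, isClassFunction_blockReg B g h]
  have hFint : ∀ μ : IrrCharacter G, ∃ z : ℤ, classInner F (μ : G → ℂ) = z := by
    intro μ
    have h1 : classInner F (μ : G → ℂ) = (((p ^ (2 * e + 1) : ℕ) : ℂ)⁻¹) *
        (((charDegree (ψ : G → ℂ) : ℕ) : ℂ) * (n μ : ℂ) + (-(n ψ : ℂ)) *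
          (if μ ∈ B then (μ : G → ℂ) 1 else 0)) := by
      rw [hF, classInner_smul_left, classInner_add_left,
        classInner_smul_left ((charDegree (ψ : G → ℂ) : ℕ) : ℂ),
        classInner_smul_left (-(n ψ : ℂ)), classInner_blockReg, hψt, hn μ]
    by_cases hμ : μ ∈ B
    · obtain ⟨z, hz⟩ := hkey μ hμ
      refine ⟨z, ?_⟩
      rw [h1, if_pos hμ, irr_one_eq_charDegree μ.2]
      have h2 : ((charDegree (ψ : G → ℂ) : ℕ) : ℂ) * (n μ : ℂ) + (-(n ψ : ℂ)) *
          ((charDegree (μ : G → ℂ) : ℕ) : ℂ) = (((p ^ (2 * e + 1) : ℕ) : ℤ) * z : ℤ) := by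
        rw [← hz]
        push_cast
        ring
      rw [h2]
      push_cast
      push_cast at hpc0
      field_simp
    · refine ⟨0, ?_⟩
      rw [h1, if_neg hμ, hnz μ hμ]
      simp
  have hFgc : IsGeneralizedCharacter G F := isGenChar_of_int_inner hFcf hFint
  have hFv : ∀ y : G, p ∣ orderOf y → F y = 0 := by
    intro y hy
    simp only [hF, hψt, Pi.smul_apply, Pi.add_apply, smul_eq_mul]
    rw [pRegularPart_of_dvd p _ hy, blockReg_eq_zero hM hB hy]
    ring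
  obtain ⟨z, hz⟩ := genChar_vanish_dvd hp hFgc hFv
  -- evaluate at the identity
  have h1 : ¬ p ∣ orderOf (1 : G) := by
    rw [orderOf_one]
    intro h2
    exact hp.one_lt.ne' (Nat.dvd_one.1 h2)
  have hF1 : F 1 = (((p ^ (2 * e + 1) : ℕ) : ℂ)⁻¹) *
      (((charDegree (ψ : G → ℂ) : ℕ) : ℂ) * (((p ^ a : ℕ) : ℂ) *
        ((charDegree (ψ : G → ℂ) : ℕ) : ℂ)) + (-(n ψ : ℂ)) *
        (N : ℂ)) := by
    simp only [hF, hψt, Pi.smul_apply, Pi.add_apply, smul_eq_mul]
    rw [pRegularPart_of_not_dvd p _ h1, blockReg_one, hNdef, irr_one_eq_charDegree ψ.2]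
  rw [hF1] at hz
  have hE : ((charDegree (ψ : G → ℂ) : ℕ) : ℤ) ^ 2 * ((p ^ a : ℕ) : ℤ) -
      n ψ * (N : ℤ) =
      ((p ^ (a + 2 * e + 1) : ℕ) : ℤ) * z := by
    have h2 : ((((charDegree (ψ : G → ℂ) : ℕ) : ℤ) ^ 2 * ((p ^ a : ℕ) : ℤ) -
      n ψ * (N : ℤ) : ℤ) : ℂ) =
      ((((p ^ (a + 2 * e + 1) : ℕ) : ℤ) * z : ℤ) : ℂ) := by
      have h3 : ((charDegree (ψ : G → ℂ) : ℕ) : ℂ) * (((p ^ a : ℕ) : ℂ) *
        ((charDegree (ψ : G → ℂ) : ℕ) : ℂ)) + (-(n ψ : ℂ)) *
        (N : ℂ) =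
          ((p ^ (2 * e + 1) : ℕ) : ℂ) * (((p ^ a : ℕ) : ℂ) * z) := by
        rw [← hz, mul_inv_cancel_left₀ hpc0]
      push_cast
      push_cast at h3
      rw [show ((p : ℂ) ^ (a + 2 * e + 1)) = (p : ℂ) ^ (2 * e + 1) * (p : ℂ) ^ a by
        rw [← pow_add]; congr 1; ring]
      rw [mul_assoc, ← h3]
      ring
    exact_mod_cast h2
  exact final_val (hdeg0 ψ) he.symm hnψ0 hnψv hE

end Cfsg.Agent.S4491
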