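import Mathlib
import Cfsg.Statements.S0855
import Cfsg.Agent.S4456
import Cfsg.Agent.S0169
import Cfsg.Agent.Lib.Helper24.CharIntegral
import Cfsg.Agent.Lib.Helper24.CharInduced
import Cfsg.Agent.Lib.Helper24.CharAbelian
import Cfsg.Agent.Lib.Helper5.Clifford
import Cfsg.Agent.Lib.Helper18.CliffordCorr

set_option autoImplicit false
set_option linter.style.haveILetI false
open Cfsg

namespace Cfsg.Agent.S0855

open Cfsg.Agent.Helper24

/-- Every irreducible character of a normal subgroup lies under an irreducible character of the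
group, and its degree divides the degree of that character. -/
theorem exists_over_dvd {G : Type*} [Group G] [Finite G] (N : Subgroup G) [hN : N.Normal]
    (θ : IrrCharacter N) : ∃ χ : IrrCharacter G,
      charDegree (θ : N → ℂ) ∣ charDegree (χ : G → ℂ) := by
  classical
  letI : Fintype G := Fintype.ofFinite G
  letI : Fintype N := Fintype.ofFinite N
  letI : Fintype (IrrCharacter N) := irrFintype
  have hθc := isCharacter_of_isIrrCharacter θ.2
  have hind : IsCharacter G (indFun N (θ : N → ℂ)) := isCharacter_indFun N hθc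
  have hne : indFun N (θ : N → ℂ) ≠ 0 := by
    intro h
    have h1 := congrFun h 1
    rw [indFun_one, Pi.zero_apply] at h1
    rcases mul_eq_zero.mp h1 with h2 | h2
    · have : N.index ≠ 0 := Subgroup.index_ne_zero_of_finite
      exact this (by exact_mod_cast h2)
    · obtain ⟨n, hn, hn1⟩ := irr_one_eq θ.2
      rw [hn1] at h2
      exact hn.ne' (by exact_mod_cast h2)
  obtain ⟨χ, hχ, hχne⟩ := Cfsg.Agent.Helper5.exists_constituent hind hne
  have hcf := isClassFunction_of_isIrrCharacter hχ
  rw [frobenius_reciprocity N (θ : N → ℂ) hcf] at hχne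
  have hcon : classInner (fun n : N => χ n) (θ : N → ℂ) ≠ 0 := by
    intro h
    apply hχne
    rw [← classInner_conj_symm, h, map_zero]
  have hdeg := Cfsg.Agent.Helper18.degree_eq_of_constituent N hχ θ.2 hcon
  obtain ⟨m, hm⟩ := (isCharacter_decomp
    (isCharacter_restrict N (isCharacter_of_isIrrCharacter hχ))).1 θ
  refine ⟨⟨χ, hχ⟩, ?_⟩
  rw [hm, irr_one_eq_charDegree hχ, irr_one_eq_charDegree θ.2] at hdeg
  have : charDegree χ = m * (Cfsg.Agent.Helper18.inertia N (θ : N → ℂ)).index *
      charDegree (θ : N → ℂ) := by exact_mod_cast hdeg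
  exact Dvd.intro_left _ this.symm

/-- A finite group has all its irreducible complex character degrees powers of a prime p if and only if it has an abelian normal p-complement. -/
theorem result {G : Type*} [Group G] [Finite G] (p : ℕ) (hp : p.Prime) : (∀ χ : Cfsg.IrrCharacter G, ∃ k : ℕ, (χ : G → ℂ) 1 = (p : ℂ) ^ k) ↔ ∃ A : Subgroup G, A.Normal ∧ (∀ a ∈ A, ∀ b ∈ A, a * b = b * a) ∧ Nat.Coprime (Nat.card A) p ∧ ∃ k : ℕ, A.index = p ^ k := by
  classical
  constructor
  · intro h
    have hdegpow : ∀ χ : IrrCharacter G, ∃ k : ℕ, charDegree (χ : G → ℂ) = p ^ k := by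
      intro χ
      obtain ⟨k, hk⟩ := h χ
      exact ⟨k, charDegree_natCast (p ^ k) (by rw [hk]; push_cast; rfl)⟩
    have hdeg : ∀ χ : IrrCharacter G, charDegree (χ : G → ℂ) ≠ 1 →
        p ∣ charDegree (χ : G → ℂ) := by
      intro χ hne
      obtain ⟨k, hk⟩ := hdegpow χ
      rw [hk] at hne ⊢
      have : k ≠ 0 := by
        rintro rfl
        exact hne (pow_zero p)
      exact dvd_pow_self p this
    obtain ⟨N, hNn, hcop, k, hk⟩ := Cfsg.Agent.S4456.result p hp hdeg
    haveI := hNn
    refine ⟨N, hNn, ?_, hcop, k, hk⟩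
    letI : Fintype N := Fintype.ofFinite N
    letI : Fintype (IrrCharacter N) := irrFintype
    have hlin : ∀ θ : IrrCharacter N, charDegree (θ : N → ℂ) = 1 := by
      intro θ
      obtain ⟨χ, hχ⟩ := exists_over_dvd N θ
      obtain ⟨j, hj⟩ := hdegpow χ
      rw [hj] at hχ
      have h1 : charDegree (θ : N → ℂ) ∣ Nat.card N := charDegree_dvd_card θ.2
      have h2 : (charDegree (θ : N → ℂ)).Coprime (p ^ j) :=
        Nat.Coprime.pow_right j (Nat.Coprime.coprime_dvd_left h1 hcop)
      exact Nat.eq_one_of_dvd_coprimes h2 dvd_rfl hχ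
    intro a ha b hb
    have := comm_of_forall_charDegree_eq_one hlin ⟨a, ha⟩ ⟨b, hb⟩
    exact congrArg Subtype.val this
  · rintro ⟨A, hAn, hAc, -, k, hk⟩ χ
    haveI := hAn
    obtain ⟨n, ρ, hρ, hχ⟩ := χ.2
    haveI := hρ
    have hdvd := Cfsg.Agent.S0169.result ρ A hAc
    rw [hk] at hdvd
    obtain ⟨j, -, hj⟩ := (Nat.dvd_prime_pow hp).mp hdvd
    refine ⟨j, ?_⟩
    rw [← hχ, Representation.char_one, hj]
    push_cast
    rfl

end Cfsg.Agent.S0855
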