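import Mathlib
import Cfsg.Statements.S4493
import Cfsg.Agent.S0169
import Cfsg.Agent.S0855
import Cfsg.Agent.Lib.Helper24.CharQuotient
import Cfsg.Agent.Lib.Helper24.CharAbelian
import Cfsg.Agent.Lib.Helper1.SolvableBasic

set_option autoImplicit false
set_option linter.style.haveILetI false
open Cfsg

namespace Cfsg.Agent.S4493

open Cfsg.Agent.Helper24

universe u

/-- Converse of Itô's theorem for solvable groups, by induction on the group order. -/
theorem converse_aux (p : ℕ) (hp : p.Prime) (k : ℕ) : ∀ (G : Type u) [Group G] [Finite G],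
    Nat.card G = k → Group.IsSolvable G →
    (∀ χ : IrrCharacter G, ¬ p ∣ charDegree (χ : G → ℂ)) →
    ∃ P : Subgroup G, P.Normal ∧ (∀ x ∈ P, ∀ y ∈ P, x * y = y * x) ∧ IsPGroup p P ∧
      ¬ p ∣ P.index := by
  induction k using Nat.strong_induction_on with
  | _ k ih =>
  intro G _ _ hk hsolv hdeg
  classical
  haveI : Fact p.Prime := ⟨hp⟩
  rcases subsingleton_or_nontrivial G with hsub | hnt
  · refine ⟨⊥, inferInstance, ?_, IsPGroup.of_bot, ?_⟩
    · intro x _ y _
      exact Subsingleton.elim _ _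
    · rw [Subgroup.index_bot, Nat.card_unique]
      exact hp.one_lt.ne' ∘ Nat.dvd_one.mp
  obtain ⟨A, hAchar, hAne, hAcomm⟩ := Cfsg.Agent.Helper1.exists_normal_abelian_of_solvable G
  haveI : A.Normal := Subgroup.normal_of_characteristic A
  have hAcomm' : ∀ a ∈ A, ∀ b ∈ A, a * b = b * a := by
    intro a ha b hb
    have := hAcomm.is_comm.comm ⟨a, ha⟩ ⟨b, hb⟩
    exact congrArg Subtype.val this
  -- the quotient
  have hcardA : 1 < Nat.card A := by
    rw [Subgroup.one_lt_card_iff_ne_bot]
    exact hAne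
  have hcardq : Nat.card (G ⧸ A) < k := by
    rw [← hk, ← Subgroup.index_eq_card, ← A.card_mul_index]
    have : 0 < A.index := Nat.pos_of_ne_zero Subgroup.index_ne_zero_of_finite
    nlinarith
  have hdegq : ∀ ψ : IrrCharacter (G ⧸ A), ¬ p ∣ charDegree (ψ : G ⧸ A → ℂ) := by
    intro ψ
    have := hdeg ⟨(ψ : G ⧸ A → ℂ) ∘ (QuotientGroup.mk : G → G ⧸ A), isIrrCharacter_inflate A ψ.2⟩
    rw [charDegree_inflate] at this
    exact this
  obtain ⟨Qb, hQbn, hQbcomm, hQbp, hQbidx⟩ :=
    ih _ hcardq (G ⧸ A) rfl inferInstance hdegq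
  set Q : Subgroup G := Qb.comap (QuotientGroup.mk' A) with hQ
  haveI hQn : Q.Normal := hQbn.comap _
  have hQidx : Q.index = Qb.index :=
    Subgroup.index_comap_of_surjective Qb (QuotientGroup.mk'_surjective A)
  by_cases hQtop : Q = ⊤
  · -- `G / A` is a `p`-group: all degrees are one, so `G` is abelian
    have hQbtop : Qb = ⊤ := by
      rw [eq_top_iff]
      intro x _
      obtain ⟨g, rfl⟩ := QuotientGroup.mk_surjective x
      have : g ∈ Q := by rw [hQtop]; exact Subgroup.mem_top g
      exact this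
    have hpq : IsPGroup p (G ⧸ A) := by
      intro x
      obtain ⟨j, hj⟩ := hQbp ⟨x, by rw [hQbtop]; exact Subgroup.mem_top x⟩
      exact ⟨j, congrArg Subtype.val hj⟩
    obtain ⟨m, hm⟩ := IsPGroup.iff_card.mp hpq
    letI : Fintype G := Fintype.ofFinite G
    letI : Fintype (IrrCharacter G) := irrFintype
    have hone : ∀ χ : IrrCharacter G, charDegree (χ : G → ℂ) = 1 := by
      intro χ
      have h1 := Cfsg.Agent.S0169.ito_aux (Nat.card G) G rfl A hAcomm' (χ : G → ℂ) χ.2
      rw [Subgroup.index_eq_card, hm] at h1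
      obtain ⟨j, -, hj⟩ := (Nat.dvd_prime_pow hp).mp h1
      rcases Nat.eq_zero_or_pos j with rfl | hjpos
      · rw [hj, pow_zero]
      · exfalso
        apply hdeg χ
        rw [hj]
        exact dvd_pow_self p hjpos.ne'
    have hcomm := comm_of_forall_charDegree_eq_one hone
    obtain ⟨P⟩ : Nonempty (Sylow p G) := inferInstance
    refine ⟨P, ⟨fun n hn g => ?_⟩, fun x _ y _ => hcomm x y, P.2, P.not_dvd_index⟩
    rw [hcomm g n, mul_inv_cancel_right]
    exact hn
  · -- `Q` is a proper normal subgroup containing a Sylow `p`-subgroup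
    have hcardQ : Nat.card Q < k := by
      rw [← hk]
      apply lt_of_le_of_ne (Subgroup.card_le_card_group Q)
      intro h
      exact hQtop (Subgroup.eq_top_of_card_eq Q h)
    have hdegQ : ∀ θ : IrrCharacter Q, ¬ p ∣ charDegree (θ : Q → ℂ) := by
      intro θ hθ
      obtain ⟨χ, hχ⟩ := Cfsg.Agent.S0855.exists_over_dvd Q θ
      exact hdeg χ (hθ.trans hχ)
    obtain ⟨P₀, hP₀n, hP₀comm, hP₀p, hP₀idx⟩ := ih _ hcardQ Q rfl inferInstance hdegQ
    haveI : (hP₀p.toSylow hP₀idx : Subgroup Q).Normal := by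
      rw [IsPGroup.toSylow_coe]
      exact hP₀n
    have hchar : (hP₀p.toSylow hP₀idx : Subgroup Q).Characteristic :=
      Sylow.characteristic_of_normal _ inferInstance
    rw [IsPGroup.toSylow_coe] at hchar
    haveI := hchar
    refine ⟨P₀.map Q.subtype, inferInstance, ?_, hP₀p.map _, ?_⟩
    · rintro x ⟨x', hx', rfl⟩ y ⟨y', hy', rfl⟩
      have := hP₀comm x' hx' y' hy'
      rw [← map_mul, ← map_mul, this]
    · rw [Subgroup.index_map_subtype, hQidx]
      intro h
      rcases hp.dvd_mul.mp h with h | h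
      · exact hP₀idx h
      · exact hQbidx h

/-- Let G be a finite solvable group and p a prime. Then G has a normal abelian Sylow p-subgroup if and only if no irreducible character degree of G is divisible by p. -/
theorem result {G : Type*} [Group G] [Finite G] (hsolv : Group.IsSolvable G) (p : ℕ) (hp : p.Prime) : (∃ P : Subgroup G, P.Normal ∧ (∀ x ∈ P, ∀ y ∈ P, x * y = y * x) ∧ IsPGroup p P ∧ ¬ p ∣ P.index) ↔ ∀ χ : Cfsg.IrrCharacter G, ¬ p ∣ Cfsg.charDegree (χ : G → ℂ) := by
  constructor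
  · rintro ⟨P, hPn, hPcomm, -, hPidx⟩ χ hχ
    classical
    letI : Fintype G := Fintype.ofFinite G
    haveI := hPn
    have h1 := Cfsg.Agent.S0169.ito_aux (Nat.card G) G rfl P hPcomm (χ : G → ℂ) χ.2
    exact hPidx (hχ.trans h1)
  · intro h
    exact converse_aux p hp (Nat.card G) G rfl hsolv h

end Cfsg.Agent.S4493
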