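import Mathlib
import Cfsg.Statements.S0179
import Cfsg.Agent.Lib.Helper18.ScalarSubgroup
import Cfsg.Agent.Lib.Helper24.CharComplete

set_option autoImplicit false
open Cfsg

namespace Cfsg.Agent.S0179

open Cfsg.Agent.Helper24 Cfsg.Agent.Helper18

/-- The degree of an irreducible complex representation of a finite group divides the index of the centre. -/
theorem result {G : Type*} [Group G] [Finite G] {V : Type*} [AddCommGroup V] [Module ℂ V] [FiniteDimensional ℂ V] (ρ : Representation ℂ G V) [ρ.IsIrreducible] : Module.finrank ℂ V ∣ (Subgroup.center G).index := by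
  classical
  letI : Fintype G := Fintype.ofFinite G
  have hρ : ρ.IsIrreducible := inferInstance
  apply finrank_dvd_index_of_scalar ρ hρ
  intro z hz
  apply exists_scalar_of_comm ρ hρ
  intro h
  have hzh := Subgroup.mem_center_iff.mp hz h
  rw [← Module.End.mul_eq_comp, ← Module.End.mul_eq_comp, ← map_mul, ← map_mul, hzh]

end Cfsg.Agent.S0179
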