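import Mathlib
import Cfsg.Statements.S0896
import Cfsg.Agent.Lib.Helper5.Dade

set_option autoImplicit false
open scoped ComplexConjugate
open Cfsg

namespace Cfsg.Agent.S0896

open Cfsg.Agent.Helper5 Cfsg.Agent.Helper24 in
/-- Let N be a normal subgroup of the finite group G with the index of N a power of the prime p, and ϑ an irreducible character of N invariant under conjugation by G. Then there are a p-elementary subgroup E of G with E ⊔ N = ⊤ and an irreducible character φ of the subgroup E ⊓ N, invariant under conjugation by E, such that the inner product of the restriction of ϑ to E ⊓ N with φ is an integer not divisible by p. -/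
theorem result {G : Type*} [Group G] [Fintype G] (p : ℕ) (hp : p.Prime) (N : Subgroup G) [hN : N.Normal] (hind : ∃ k : ℕ, N.index = p ^ k) (ϑ : N → ℂ) (hϑ : Cfsg.IsIrrCharacter N ϑ) (hinv : ∀ (g : G) (n : N), ϑ ⟨g * n * g⁻¹, hN.conj_mem (n : G) n.2 g⟩ = ϑ n) : ∃ (E : Subgroup G) (φ : ↥(E ⊓ N) → ℂ), Cfsg.IsElementary p E ∧ E ⊔ N = ⊤ ∧ Cfsg.IsIrrCharacter ↥(E ⊓ N) φ ∧ (∀ (g : G) (hg : g ∈ E) (x : ↥(E ⊓ N)), φ ⟨g * x * g⁻¹, ⟨(E.mul_mem (E.mul_mem hg x.2.1) (E.inv_mem hg)), hN.conj_mem (x : G) x.2.2 g⟩⟩ = φ x) ∧ ∃ m : ℕ, ¬ p ∣ m ∧ (Nat.card ↥(E ⊓ N) : ℂ)⁻¹ * ∑ᶠ x : ↥(E ⊓ N), ϑ ⟨(x : G), x.2.2⟩ * conj (φ x) = (m : ℂ) := by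
  classical
  obtain ⟨E, ψ, hE, hψ, htop, hJ⟩ := dade_exists p hp N hind hϑ hinv
  letI : Fintype ↥(E ⊓ N) := Fintype.ofFinite _
  letI := irrFintype (G := ↥(E ⊓ N))
  have hψD : IsCharacter ↥(E ⊓ N) (fun d : ↥(E ⊓ N) => ψ ⟨d, d.2.1⟩) :=
    isCharacter_comp (Subgroup.inclusion (inf_le_left : E ⊓ N ≤ E)) hψ
  have hϑD : IsCharacter ↥(E ⊓ N) (fun d : ↥(E ⊓ N) => ϑ ⟨d, d.2.2⟩) :=
    isCharacter_comp (Subgroup.inclusion (inf_le_right : E ⊓ N ≤ N))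
      (isCharacter_of_isIrrCharacter hϑ)
  obtain ⟨J, hJeq⟩ := classInner_char_nat (isCharacter_mul hψD hϑD) hϑD
  have hpJ : ¬ p ∣ J := hJ J hJeq
  have hrel : ∃ k, N.relIndex E = p ^ k := by
    obtain ⟨k, hk⟩ := hind
    have hdvd : N.relIndex E ∣ p ^ k := by
      rw [← hk]
      exact Subgroup.relIndex_dvd_index_of_normal N E
    obtain ⟨j, -, hj⟩ := (Nat.dvd_prime_pow hp).mp hdvd
    exact ⟨j, hj⟩
  have hΘinv : ∀ g : E, (fun d : ↥(E ⊓ N) => ϑ ⟨d, d.2.2⟩) ∘ (conjInf E N g) =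
      (fun d : ↥(E ⊓ N) => ϑ ⟨d, d.2.2⟩) := by
    intro g
    funext d
    exact hinv (g : G) ⟨d, d.2.2⟩
  have hΨinv : ∀ g : E, (fun d : ↥(E ⊓ N) => ψ ⟨d, d.2.1⟩) ∘ (conjInf E N g) =
      (fun d : ↥(E ⊓ N) => ψ ⟨d, d.2.1⟩) := by
    intro g
    funext d
    exact isClassFunction_of_isCharacter hψ ⟨d, d.2.1⟩ g
  obtain ⟨φ, hφ, hφinv, m, hpm, hm⟩ :=
    exists_invariant_constituent p hp E N hrel hϑD hψD hΘinv hΨinv J hJeq hpJ
  refine ⟨E, φ, hE, htop, hφ, ?_, m, hpm, ?_⟩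
  · intro g hg x
    exact congrFun (hφinv ⟨g, hg⟩) x
  · rw [finsum_eq_sum_of_fintype]
    exact hm

end Cfsg.Agent.S0896
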