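import Mathlib
import Cfsg.Statements.S0897
import Cfsg.Agent.S0896
import Cfsg.Agent.Lib.Helper5.DadeExt

set_option autoImplicit false
open Cfsg

namespace Cfsg.Agent.S0897

open scoped ComplexConjugate in
open Cfsg.Agent.Helper5 Cfsg.Agent.Helper24 in
/-- Let N be a normal subgroup of the finite group G with the index of N a power of the prime p, and P a Sylow p-subgroup of G such that P ⊓ N lies in the centre of P and every character of degree 1 of P ⊓ N is the restriction of a character of degree 1 of P. Then every irreducible character of N invariant under conjugation by G is the restriction of an irreducible character of G. -/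
theorem result {G : Type*} [Group G] [Fintype G] (p : ℕ) [Fact p.Prime] (N : Subgroup G) [hN : N.Normal] (hind : ∃ k : ℕ, N.index = p ^ k) (P : Sylow p G) (hcent : ∀ x ∈ (P : Subgroup G) ⊓ N, ∀ y ∈ (P : Subgroup G), x * y = y * x) (hlin : ∀ lam : ↥((P : Subgroup G) ⊓ N) → ℂ, Cfsg.IsCharacter ↥((P : Subgroup G) ⊓ N) lam → lam 1 = 1 → ∃ μ : ↥(P : Subgroup G) → ℂ, Cfsg.IsCharacter ↥(P : Subgroup G) μ ∧ μ 1 = 1 ∧ ∀ x : ↥((P : Subgroup G) ⊓ N), μ ⟨(x : G), x.2.1⟩ = lam x) (ϑ : N → ℂ) (hϑ : Cfsg.IsIrrCharacter N ϑ) (hinv : ∀ (g : G) (n : N), ϑ ⟨g * n * g⁻¹, hN.conj_mem (n : G) n.2 g⟩ = ϑ n) : ∃ χ : G → ℂ, Cfsg.IsIrrCharacter G χ ∧ ∀ n : N, χ n = ϑ n := by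
  classical
  have hp : p.Prime := Fact.out
  obtain ⟨E, φ, hE, htop, hφ, hφinv, m, hpm, hm⟩ :=
    Cfsg.Agent.S0896.result p hp N hind ϑ hϑ hinv
  letI : Fintype ↥(E ⊓ N) := Fintype.ofFinite _
  letI := irrFintype (G := ↥(E ⊓ N))
  have hlin' := hom_form_of_char_form (P : Subgroup G) N hlin
  obtain ⟨hDcomm, hext⟩ := exists_linear_extension_elementary p N hind P hcent hlin' E hE
  have hφ1 : φ 1 = 1 := (charDegree_eq_one_iff hφ).mp (charDegree_eq_one_of_comm hDcomm hφ)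
  have hφc := isCharacter_of_isIrrCharacter hφ
  obtain ⟨Φ, hΦ⟩ := hext (linHom hφc hφ1)
  let Ξ : ↥E → ℂ := fun e => ((Φ e : ℂˣ) : ℂ)
  have hΞ : IsCharacter ↥E Ξ := isCharacter_of_isIrrCharacter (isIrrCharacter_of_monoidHom Φ)
  have hΞD : (fun d : ↥(E ⊓ N) => Ξ ⟨d, d.2.1⟩) = φ := by
    funext d
    show ((Φ ⟨d, d.2.1⟩ : ℂˣ) : ℂ) = φ d
    rw [hΦ d, linHom_apply]
  have hm' : classInner (fun d : ↥(E ⊓ N) => Ξ ⟨d, d.2.1⟩)
      (fun d : ↥(E ⊓ N) => ϑ ⟨d, d.2.2⟩) = m := by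
    rw [hΞD, ← classInner_conj_symm]
    have h1 : classInner (fun d : ↥(E ⊓ N) => ϑ ⟨d, d.2.2⟩) φ = m := by
      unfold classInner
      rw [finsum_eq_sum_of_fintype] at hm
      exact hm
    rw [h1]
    simp
  exact exists_extension_of_pairing p hp N hind hϑ hinv E htop hΞ m hm' hpm

end Cfsg.Agent.S0897
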