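import Mathlib
import Cfsg.Statements.S4637
import Cfsg.Agent.Lib.Helper18.PairBridge
import Cfsg.Agent.Lib.Helper23.BlockSubsectionFusion
import Cfsg.Agent.Lib.Helper23.BlockKleinLocal
import Cfsg.Agent.Lib.Helper23.BlockKleinCount
import Cfsg.Agent.Lib.Helper23.BlockCountClasses
import Cfsg.Agent.Lib.Helper23.KleinFourAct
import Cfsg.Agent.Lib.Helper23.BlockTopTransport

set_option autoImplicit false
open Cfsg Cfsg.Agent.Helper23 Cfsg.Agent.Helper23.Blk Cfsg.Agent.Helper24 Cfsg.Agent.Helper18 Cfsg.Agent.Helper18.PairRel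
set_option linter.style.haveILetI false

namespace Cfsg.Agent.S4637

theorem eq_one_or_three_of_dvd_six {n : ℕ} (h6 : n ∣ 6) (h2 : ¬ 2 ∣ n) : n = 1 ∨ n = 3 := by
  have hle : n ≤ 6 := Nat.le_of_dvd (by norm_num) h6
  interval_cases n <;> omega

/-- Let B be a block of the finite group G relative to a maximal ideal M of the algebraic integers containing 2, with a Klein four defect group P. Let c be a block of C_G(P) inducing B, T the stabilizer of c in N_G(P) and e the index of C_G(P) in T (the inertial index). Then e is 1 or 3, B contains exactly four irreducible characters, and the 2-regular rank of B (its number of irreducible Brauer characters) equals e. -/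
theorem result {G : Type*} [Group G] [Finite G] (M : Ideal Cfsg.AlgInt) (hM : Cfsg.IsPModular 2 M) (B : Set (Cfsg.IrrCharacter G)) (hB : Cfsg.IsPBlock M B) (P : Subgroup G) (hPD : Cfsg.IsDefectGroup 2 M B P) (hV : IsKleinFour P) (c : Set (Cfsg.IrrCharacter (Subgroup.centralizer (P : Set G)))) (hc : Cfsg.IsInducedBlock M (Subgroup.centralizer (P : Set G)) c B) (T : Subgroup G) (hT : ∀ g : G, g ∈ T ↔ (g ∈ Subgroup.normalizer (P : Set G) ∧ Cfsg.StabilizesBlock (Subgroup.centralizer (P : Set G)) c g)) (e : ℕ) (he : (Subgroup.centralizer (P : Set G)).relIndex T = e) : (e = 1 ∨ e = 3) ∧ Nat.card B = 4 ∧ Cfsg.blockRank 2 B = e := by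
  classical
  haveI : Fintype G := Fintype.ofFinite G
  haveI : Fact (Nat.Prime 2) := ⟨Nat.prime_two⟩
  haveI hMp : M.IsPrime := hM.2.1.isPrime
  have hP2 : IsPGroup 2 P := isPGroup_of_isDefectGroup hM hPD
  have hBe : IsBrauerPairOf 2 M B P c := isBrauerPairOf_of_isInducedBlock hM hP2 hc
  have hPe : IsBrauerPair 2 M P c := hBe.1
  have hcB : IsPBlock M c := hc.1
  have hab : ∀ x ∈ P, ∀ y ∈ P, x * y = y * x := fun x hx y hy => kleinFour_comm P hV hx hy
  have hPC : P ≤ Subgroup.centralizer (P : Set G) := by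
    intro x hx
    rw [Subgroup.mem_centralizer_iff]
    intro y hy
    exact hab y hy x hx
  have hsup : P ⊔ Subgroup.centralizer (P : Set G) = Subgroup.centralizer (P : Set G) :=
    sup_eq_right.2 hPC
  have hTN : T ≤ Subgroup.normalizer (P : Set G) := fun t ht => ((hT t).1 ht).1
  have hno : ∀ (R : Subgroup G) (g : Set (IrrCharacter (Subgroup.centralizer (R : Set G)))),
      IsNormalSubpair 2 M P c R g → R = P := by
    intro R g hsub
    have hBS := isBrauerPairOf_of_isNormalSubpair hM hsub hBe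
    have hcard := card_le_of_subConj (subConj_of_isBrauerPairOf hM hBS hPD)
    exact (Subgroup.eq_of_le_of_card_ge hsub.2.2.1 hcard).symm
  have hodd := not_dvd_index_sup_centralizer_stab hM hBe hno T hT
  rw [hsup] at hodd
  have hodd' : ¬ 2 ∣ e := by
    rw [← he]
    exact hodd
  have h6 : e ∣ 6 := by
    rw [← he]
    exact relIndex_centralizer_dvd_six P T hV hTN
  have he13 : e = 1 ∨ e = 3 := eq_one_or_three_of_dvd_six h6 hodd'
  have hcardP : Nat.card P = 4 := hV.card_four
  have hd : blockDefect 2 B = 2 := by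
    have h1 := card_defectGroup hM hB hPD
    rw [hcardP] at h1
    have h2 : (2 : ℕ) ^ 2 = 2 ^ blockDefect 2 B := by rw [← h1]; norm_num
    exact (Nat.pow_right_injective (le_refl 2) h2).symm
  -- the local blocks
  have hloc : ∀ u ∈ P, u ≠ 1 → ∀ f : Set (IrrCharacter
      (Subgroup.centralizer ((Subgroup.zpowers u : Subgroup G) : Set G))),
      SubpairLE 2 M (Subgroup.zpowers u) f P c →
      IsInducedBlock M (Subgroup.centralizer ((Subgroup.zpowers u : Subgroup G) : Set G)) f B ∧
        blockDefect 2 f = blockDefect 2 B ∧ blockRank 2 f = 1 ∧ orderOf u = 2 := by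
    intro u hu hu1 f hle
    have huc : ∀ w ∈ P, u * w = w * u := fun w hw => hab u hu w hw
    obtain ⟨hind, hdef⟩ := major_of_subpairLE_center hM hBe hPD hu huc hle
    have hord : orderOf u = 2 :=
      orderOf_eq_prime (by rw [pow_two]; exact kleinFour_mul_self P hV hu) hu1
    refine ⟨hind, hdef, ?_, hord⟩
    haveI : Fintype (Subgroup.centralizer ((Subgroup.zpowers u : Subgroup G) : Set G)) :=
      Fintype.ofFinite _
    have hPH : P ≤ Subgroup.centralizer ((Subgroup.zpowers u : Subgroup G) : Set G) := by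
      intro w hw
      rw [Subgroup.mem_centralizer_iff]
      intro q hq
      exact zpowers_commute huc q hq w hw
    have hD₁ := isDefectGroup_rel hM hBe hPD hle hPH
    have hZK : Subgroup.zpowers u ≤
        Subgroup.centralizer ((Subgroup.zpowers u : Subgroup G) : Set G) :=
      (Subgroup.zpowers_le.2 hu).trans hPH
    apply blockRank_eq_one_of_quot_order_two hM hind.1 hD₁
      ((Subgroup.zpowers u).subgroupOf
        (Subgroup.centralizer ((Subgroup.zpowers u : Subgroup G) : Set G)))
    · intro w hw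
      rw [Subgroup.mem_subgroupOf] at hw
      rw [Subgroup.mem_center_iff]
      intro k
      apply Subtype.ext
      rw [Subgroup.coe_mul, Subgroup.coe_mul]
      exact (Subgroup.mem_centralizer_iff.1 k.2 (w : G) hw).symm
    · intro w hw
      rw [Subgroup.mem_subgroupOf] at hw ⊢
      exact (Subgroup.zpowers_le.2 hu) hw
    · have h1 : Nat.card (P.subgroupOf
          (Subgroup.centralizer ((Subgroup.zpowers u : Subgroup G) : Set G))) = Nat.card P :=
        Nat.card_congr (Subgroup.subgroupOfEquivOfLe hPH).toEquiv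
      have h2 : Nat.card ((Subgroup.zpowers u).subgroupOf
          (Subgroup.centralizer ((Subgroup.zpowers u : Subgroup G) : Set G))) =
          Nat.card (Subgroup.zpowers u) :=
        Nat.card_congr (Subgroup.subgroupOfEquivOfLe hZK).toEquiv
      rw [h1, h2, hcardP, Nat.card_zpowers, hord]
  obtain ⟨a, ha⟩ := exists_pair_family hM hPe
  obtain ⟨u₀, hu₀P, hu₀1⟩ : ∃ u₀ ∈ P, u₀ ≠ 1 := by
    haveI : Nontrivial P := by
      rw [← Finite.one_lt_card_iff_nontrivial, hcardP]
      norm_num
    obtain ⟨q, hq⟩ := exists_ne (1 : P)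
    exact ⟨q, q.2, fun h => hq (Subtype.ext h)⟩
  obtain ⟨f₀, haf₀, hf₀, hle₀⟩ := ha u₀ hu₀P
  obtain ⟨hind₀, hdef₀, hl₀, hord₀⟩ := hloc u₀ hu₀P hu₀1 f₀ hle₀
  haveI : Fintype (Subgroup.centralizer ((Subgroup.zpowers u₀ : Subgroup G) : Set G)) :=
    Fintype.ofFinite _
  have hk : Nat.card B = 4 :=
    card_eq_four_of_major_involution hM hord₀ _ (centralizer_zpowers u₀) hind₀ hdef₀ hd hl₀
  refine ⟨he13, hk, ?_⟩
  rcases he13 with he1 | he3
  · -- inertial index one: Bessel's inequality
    have hS : ∀ u ∈ (Finset.univ.filter (· ∈ P) : Finset G),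
        u ∈ P ∧ ∀ w ∈ P, u * w = w * u := by
      intro u hu
      have huP : u ∈ P := (Finset.mem_filter.1 hu).2
      exact ⟨huP, fun w hw => hab u huP w hw⟩
    have hb := sum_blockRank_le hM hBe hPD T hT (Subgroup.centralizer (P : Set G)) hsup.symm
      a ha (Finset.univ.filter (· ∈ P)) hS
    rw [he, he1, one_mul, hk] at hb
    have h1mem : (1 : G) ∈ (Finset.univ.filter (· ∈ P) : Finset G) :=
      Finset.mem_filter.2 ⟨Finset.mem_univ _, P.one_mem⟩
    rw [← Finset.add_sum_erase _ _ h1mem] at hb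
    have hterm1 : blockRank 2 (pairBlock (Subgroup.zpowers (1 : G)) (a 1)) = blockRank 2 B := by
      obtain ⟨f₁, haf₁, hf₁, hle₁⟩ := ha 1 P.one_mem
      rw [haf₁, pairBlock_mk]
      obtain ⟨hind₁, -⟩ := major_of_subpairLE_center hM hBe hPD P.one_mem
        (by intro w _; rw [one_mul, mul_one]) hle₁
      exact blockRank_eq_of_isInducedBlock_top hM _
        (by rw [Subgroup.zpowers_one_eq_bot]; exact centralizer_bot_eq_top) hind₁
    have hterms : ∀ u ∈ (Finset.univ.filter (· ∈ P) : Finset G).erase 1,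
        blockRank 2 (pairBlock (Subgroup.zpowers u) (a u)) = 1 := by
      intro u hu
      obtain ⟨hu1, hu'⟩ := Finset.mem_erase.1 hu
      have huP : u ∈ P := (Finset.mem_filter.1 hu').2
      obtain ⟨f, haf, hf, hle⟩ := ha u huP
      rw [haf, pairBlock_mk]
      exact (hloc u huP hu1 f hle).2.2.1
    rw [Finset.sum_congr rfl hterms, Finset.sum_const, smul_eq_mul, mul_one, hterm1] at hb
    have hcardS : ((Finset.univ.filter (· ∈ P) : Finset G).erase 1).card = 3 := by
      rw [Finset.card_erase_of_mem h1mem]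
      have : (Finset.univ.filter (· ∈ P) : Finset G).card = 4 := by
        rw [← hcardP, Nat.card_eq_fintype_card, Fintype.card_subtype]
      rw [this]
    rw [hcardS] at hb
    have hpos := blockRank_pos_of_nonempty Nat.prime_two (block_nonempty hM hB)
    rw [he1]
    omega
  · -- inertial index three: exact count
    have hu₀p : ∃ k : ℕ, orderOf u₀ = 2 ^ k := ⟨1, by rw [hord₀, pow_one]⟩
    have h3 : (Subgroup.centralizer (P : Set G)).relIndex T = 3 := by rw [he, he3]
    have htr := kleinFour_transitive P T hV hTN h3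
    have hfixT : ∀ t ∈ T, conjPair t ⟨P, c⟩ = (⟨P, c⟩ : BrauerPairIdx G) := fun t ht =>
      conjPair_eq_self_of_stabilizes hM hcB ((hT t).1 ht).1 ((hT t).1 ht).2
    have hconj1 : ∀ x z : G, z ≠ 1 → x * z * x⁻¹ ≠ 1 := by
      intro x z hz1 h
      apply hz1
      have : z = x⁻¹ * (x * z * x⁻¹) * x := by group
      rw [this, h]
      group
    have ha' : ∀ z : G, (∃ k : ℕ, orderOf z = 2 ^ k) → z ≠ 1 →
        (∃ b : Set (IrrCharacter (Subgroup.centralizer ({z} : Set G))),
          IsInducedBlock M (Subgroup.centralizer ({z} : Set G)) b B) → IsConj u₀ z := by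
      rintro z hz hz1 ⟨b, hb⟩
      obtain ⟨x, hx⟩ := exists_conj_mem_of_isInducedBlock hM hBe hPD hz _
        (centralizer_zpowers z).symm hb
      obtain ⟨t, ht, htv⟩ := htr _ hx (hconj1 x z hz1) u₀ hu₀P hu₀1
      apply IsConj.symm
      rw [isConj_iff]
      refine ⟨t * x, ?_⟩
      rw [← htv]
      group
    have hb' := finsum_blockRank_eq_of_fused hM hBe hPD hu₀P (fun w hw => hab u₀ hu₀P w hw) hle₀
      (by
        rintro v hv ⟨x, rfl⟩
        obtain ⟨t, ht, htv⟩ := htr _ hv (hconj1 x u₀ hu₀1) u₀ hu₀P hu₀1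
        exact ⟨t, hfixT t ht, htv⟩)
      (Subgroup.centralizer ({u₀} : Set G)) (centralizer_zpowers u₀).symm
    rw [hl₀] at hb'
    have hcount := card_eq_blockRank_add_of_single_class hM hB u₀ hu₀p hu₀1 ha' 1 hb'
    rw [hk] at hcount
    rw [he3]
    omega

end Cfsg.Agent.S4637
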