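import Mathlib
import Cfsg.Statements.S0175
import Cfsg.Agent.Lib.Helper24.CharInduced
import Cfsg.Agent.Lib.Helper24.CharLinear
import Cfsg.Agent.Lib.Helper23.ClassSep

set_option autoImplicit false
set_option linter.style.haveILetI false
open Cfsg

namespace Cfsg.Agent.S0175

open Cfsg.Agent.Helper24 Cfsg.Agent.Helper23
open scoped ComplexConjugate

section
variable {G : Type*} [Group G] [Fintype G]

/-- The kernel of the permutation character `(1_H)^G` lies in `H`. -/
theorem mem_of_indFun_one_eq (H : Subgroup G) {x : G}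
    (hx : indFun H (fun _ => (1 : ℂ)) x = indFun H (fun _ => (1 : ℂ)) 1) : x ∈ H := by
  classical
  rw [indFun_apply, indFun_apply] at hx
  have hH0 : (Nat.card H : ℂ) ≠ 0 := by exact_mod_cast (Nat.card_pos (α := H)).ne'
  have hx' := mul_left_cancel₀ (inv_ne_zero hH0) hx
  have h1 : ∀ z : G, extendByZero H (fun _ => (1 : ℂ)) z = if z ∈ H then 1 else 0 := by
    intro z
    split_ifs with hz
    · rw [extendByZero_of_mem H _ hz]
    · rw [extendByZero_of_not_mem H _ hz]
  simp only [h1] at hx'
  rw [Finset.sum_boole, Finset.sum_boole] at hx'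
  have h2 : (Finset.univ.filter (fun y : G => y⁻¹ * 1 * y ∈ H)) = Finset.univ := by
    apply Finset.filter_true_of_mem
    intro y _
    simp [H.one_mem]
  rw [h2] at hx'
  have h3 : (Finset.univ.filter (fun y : G => y⁻¹ * x * y ∈ H)).card =
      (Finset.univ : Finset G).card := by exact_mod_cast hx'
  rw [Finset.card_univ, Finset.card_eq_iff_eq_univ] at h3
  have h4 : (1 : G) ∈ Finset.univ.filter (fun y : G => y⁻¹ * x * y ∈ H) := by
    rw [h3]; exact Finset.mem_univ _
  simpa using h4

/-- A normal subgroup inside the kernel of a linear character `λ` of `H` lies in the kernel of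
the induced character. -/
theorem indFun_eq_of_normal_le_ker (H : Subgroup G) (lam : H →* ℂˣ) (N : Subgroup G) [N.Normal]
    (hNH : N ≤ H) (hN : ∀ n (hn : n ∈ N), lam ⟨n, hNH hn⟩ = 1) {x : G} (hx : x ∈ N) :
    indFun H (fun h => (lam h : ℂ)) x = indFun H (fun h => (lam h : ℂ)) 1 := by
  classical
  rw [indFun_apply, indFun_apply]
  congr 1
  refine Finset.sum_congr rfl fun y _ => ?_
  have hy : y⁻¹ * x * y ∈ N := by
    have := ‹N.Normal›.conj_mem x hx y⁻¹
    simpa using this
  rw [extendByZero_of_mem H _ (hNH hy)]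
  have h1 : y⁻¹ * 1 * y ∈ H := by simp [H.one_mem]
  rw [extendByZero_of_mem H _ h1, hN _ hy]
  have : (⟨y⁻¹ * 1 * y, h1⟩ : H) = 1 := by
    apply Subtype.ext
    simp
  rw [this, map_one]

end

/-- Key step of Taketa's theorem: the `f`-th derived subgroup lies in the kernel of every
irreducible character of degree `f`. -/
theorem derived_le_ker {G : Type*} [Group G] [Fintype G] (hM : ∀ χ : G → ℂ, Cfsg.IsIrrCharacter G χ → ∃ (H : Subgroup G) (lam : H →* ℂˣ), χ = Cfsg.indFun H (fun h => (lam h : ℂ)))
    (f : ℕ) : ∀ χ : G → ℂ, IsIrrCharacter G χ → charDegree χ = f →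
      ∀ x ∈ derivedSeries G f, χ x = χ 1 := by
  classical
  letI : Fintype (IrrCharacter G) := irrFintype
  induction f using Nat.strong_induction_on with
  | _ f ih =>
  intro χ hχ hdeg x hx
  obtain ⟨H, lam, hχeq⟩ := hM χ hχ
  have hfpos : 0 < f := hdeg ▸ charDegree_pos hχ
  have hidx : H.index = f := by
    have h1 := congrFun hχeq 1
    rw [indFun_one, irr_one_eq_charDegree hχ, hdeg, map_one] at h1
    simp only [Units.val_one, mul_one] at h1
    exact_mod_cast h1.symm
  -- the permutation character
  set Φ : G → ℂ := indFun H (fun _ => (1 : ℂ)) with hΦ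
  letI : Fintype H := Fintype.ofFinite H
  have h1H : IsCharacter H (fun _ => (1 : ℂ)) := isCharacter_of_isIrrCharacter isIrrCharacter_one
  have hΦc : IsCharacter G Φ := isCharacter_indFun H h1H
  obtain ⟨hm, hdec⟩ := isCharacter_decomp hΦc
  choose m hm using hm
  have hΦ1 : Φ 1 = f := by
    rw [hΦ, indFun_one, hidx, mul_one]
  -- multiplicity of the principal character
  have hmprinc : m (principalChar G) = 1 := by
    have h1 := hm (principalChar G)
    have h2 : classInner Φ ((principalChar G : IrrCharacter G) : G → ℂ) = 1 := by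
      rw [hΦ, frobenius_reciprocity H _ (isClassFunction_of_isIrrCharacter (principalChar G).2)]
      have := irr_orthogonality (G := H) isIrrCharacter_one isIrrCharacter_one
      rw [if_pos rfl] at this
      exact this
    rw [h2] at h1
    exact_mod_cast h1.symm
  -- degree sum
  have hdegsum : f = ∑ ψ : IrrCharacter G, m ψ * charDegree (ψ : G → ℂ) := by
    have h1 := congrFun hdec 1
    rw [Finset.sum_apply, hΦ1] at h1
    have h2 : ((f : ℕ) : ℂ) = ((∑ ψ : IrrCharacter G, m ψ * charDegree (ψ : G → ℂ) : ℕ) : ℂ) := by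
      rw [h1]
      push_cast
      refine Finset.sum_congr rfl fun ψ _ => ?_
      rw [Pi.smul_apply, hm ψ, irr_one_eq_charDegree ψ.2, smul_eq_mul]
    exact_mod_cast h2
  by_cases hf1 : f = 1
  · -- linear character: kills commutators
    subst hf1
    have hχ1 : χ 1 = 1 := by rw [irr_one_eq_charDegree hχ, hdeg]; simp
    have hmul := char_mul_of_degree_one (isCharacter_of_isIrrCharacter hχ) hχ1
    let lam0 := linHom (isCharacter_of_isIrrCharacter hχ) hχ1
    have hker : derivedSeries G 1 ≤ lam0.ker := by
      rw [derivedSeries_succ, derivedSeries_zero]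
      rw [Subgroup.commutator_le]
      intro a _ b _
      rw [MonoidHom.mem_ker, map_commutatorElement]
      exact commutatorElement_eq_one_iff_commute.mpr (Commute.all _ _)
    have := hker hx
    rw [MonoidHom.mem_ker] at this
    have h2 : ((lam0 x : ℂˣ) : ℂ) = 1 := by rw [this]; rfl
    rw [hχ1, ← h2]
    rfl
  · -- constituents of Φ have smaller degree
    have hfgt : 1 < f := by omega
    have hsmall : ∀ ψ : IrrCharacter G, m ψ ≠ 0 → charDegree (ψ : G → ℂ) < f := by
      intro ψ hψ
      by_cases hψp : ψ = principalChar G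
      · rw [hψp]
        have : charDegree ((principalChar G : IrrCharacter G) : G → ℂ) = 1 := by
          simp [principalChar, charDegree]
        rw [this]; exact hfgt
      · have h1 : m ψ * charDegree (ψ : G → ℂ) +
            m (principalChar G) * charDegree ((principalChar G : IrrCharacter G) : G → ℂ) ≤ f := by
          rw [hdegsum]
          have := Finset.add_sum_erase Finset.univ
            (fun ψ : IrrCharacter G => m ψ * charDegree (ψ : G → ℂ)) (Finset.mem_univ ψ)
          rw [← this]
          apply Nat.add_le_add_left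
          exact Finset.single_le_sum (f := fun ψ : IrrCharacter G => m ψ * charDegree (ψ : G → ℂ))
            (fun _ _ => Nat.zero_le _)
            (Finset.mem_erase.mpr ⟨Ne.symm hψp, Finset.mem_univ _⟩)
        have h2 : charDegree ((principalChar G : IrrCharacter G) : G → ℂ) = 1 := by
          simp [principalChar, charDegree]
        rw [hmprinc, h2] at h1
        have h3 : charDegree (ψ : G → ℂ) ≤ m ψ * charDegree (ψ : G → ℂ) :=
          Nat.le_mul_of_pos_left _ (Nat.pos_of_ne_zero hψ)
        omega
    -- D(f-1) ≤ H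
    have hDH : derivedSeries G (f - 1) ≤ H := by
      intro y hy
      apply mem_of_indFun_one_eq H
      show Φ y = Φ 1
      have hy1 := congrFun hdec y
      have h11 := congrFun hdec 1
      rw [Finset.sum_apply] at hy1 h11
      rw [hy1, h11]
      refine Finset.sum_congr rfl fun ψ _ => ?_
      rw [Pi.smul_apply, Pi.smul_apply]
      by_cases hψ : m ψ = 0
      · rw [hm ψ, hψ]; simp
      · have hlt := hsmall ψ hψ
        have hyψ : y ∈ derivedSeries G (charDegree (ψ : G → ℂ)) :=
          derivedSeries_antitone G (by omega) hy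
        rw [ih _ hlt ψ ψ.2 rfl y hyψ]
    -- D(f) ≤ ker λ
    have hfsucc : f = (f - 1) + 1 := by omega
    have hDf : ∀ n (hn : n ∈ derivedSeries G f),
        ∃ hnH : n ∈ H, lam ⟨n, hnH⟩ = 1 := by
      intro n hn
      have hle : derivedSeries G f ≤ (lam.ker).map H.subtype := by
        rw [hfsucc, derivedSeries_succ, Subgroup.commutator_le]
        intro a ha b hb
        refine ⟨(⟨a, hDH ha⟩ : H) * (⟨b, hDH hb⟩ : H) * (⟨a, hDH ha⟩ : H)⁻¹ * (⟨b, hDH hb⟩ : H)⁻¹, ?_, rfl⟩
        rw [SetLike.mem_coe, MonoidHom.mem_ker, map_mul, map_mul, map_mul, map_inv, map_inv]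
        rw [mul_comm (lam _) (lam _), mul_inv_cancel_right, mul_inv_cancel]
      obtain ⟨h, hh, rfl⟩ := hle hn
      exact ⟨h.2, hh⟩
    have hDfH : derivedSeries G f ≤ H := fun n hn => (hDf n hn).1
    rw [hχeq]
    exact indFun_eq_of_normal_le_ker H lam (derivedSeries G f) hDfH
      (fun n hn => (hDf n hn).2) hx

/-- Taketa's Theorem on M-groups: if every irreducible complex character of a finite group is induced from a linear character (a homomorphism to ℂˣ) of some subgroup, the group is solvable. -/
theorem result {G : Type*} [Group G] [Fintype G] (hM : ∀ χ : G → ℂ, Cfsg.IsIrrCharacter G χ → ∃ (H : Subgroup G) (lam : H →* ℂˣ), χ = Cfsg.indFun H (fun h => (lam h : ℂ))) : Group.IsSolvable G := by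
  classical
  letI : Fintype (IrrCharacter G) := irrFintype
  rw [Group.isSolvable_def]
  refine ⟨Nat.card G, ?_⟩
  rw [Subgroup.eq_bot_iff_forall]
  intro x hx
  have h1 : ∀ χ : IrrCharacter G, (χ : G → ℂ) 1 = (χ : G → ℂ) x := by
    intro χ
    have hle : charDegree (χ : G → ℂ) ≤ Nat.card G :=
      Nat.le_of_dvd Nat.card_pos (charDegree_dvd_card χ.2)
    have hx' : x ∈ derivedSeries G (charDegree (χ : G → ℂ)) := derivedSeries_antitone G hle hx
    exact (derived_le_ker hM _ χ χ.2 rfl x hx').symm
  have := isConj_of_forall_irr_eq 1 x h1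
  exact isConj_one_left.mp this

end Cfsg.Agent.S0175
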