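import Mathlib
import Cfsg.Statements.S5114
import Cfsg.Agent.Lib.Helper25.FusionPrimeIndex3

set_option autoImplicit false
open Cfsg

namespace Cfsg.Agent.S5114

open Cfsg.FusionSystem Cfsg.Agent.Helper25 in
/-- Let F be a saturated fusion system over a finite p-group S and E a fusion system over S contained in F. If Aut_E(P) contains the subgroup of Aut_F(P) generated by its elements of p-power order for every subgroup P that is centric in F, then the same holds for every subgroup of S (E has index prime to p in F), every map of F with source a subgroup P of S is an element of Aut_F(S) composed with a map of E, and a subgroup is centric in E exactly when it is centric in F. -/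
theorem result {Ω : Type*} [Group Ω] {S : Subgroup Ω} [Finite S] (p : ℕ) [Fact p.Prime] (hS : IsPGroup p S) (F : Cfsg.FusionSystem S) (hF : F.IsSaturated p) (E : Cfsg.FusionSystem S) (hEF : E.IsSubsystemOf F) (h : ∀ P : Subgroup Ω, F.IsCentric P → (Subgroup.closure {α : ↥(F.autGroup P) | ∃ k : ℕ, orderOf α = p ^ k}).map (F.autGroup P).subtype ≤ E.autGroup P) : E.HasPrimeToPIndexIn F p ∧ (∀ (P : Subgroup Ω) (φ : P →* Ω), φ ∈ F.Hom P → ∃ α ∈ F.autGroup S, ∃ φ₀ ∈ E.Hom P, ∀ (x : P) (hx : φ₀ x ∈ S), φ x = ((α ⟨φ₀ x, hx⟩ : S) : Ω)) ∧ ∀ P : Subgroup Ω, E.IsCentric P ↔ F.IsCentric P := by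
  have h' : ∀ P : Subgroup Ω, F.IsCentric P → OpPrime F p P ≤ E.autGroup P := h
  have hfrat : ∀ (P : Subgroup Ω) (φ : P →* Ω), φ ∈ F.Hom P → ∃ α ∈ F.autGroup S, ∃ φ₀ ∈ E.Hom P,
      ∀ (x : P) (hx : φ₀ x ∈ S), φ x = ((α ⟨φ₀ x, hx⟩ : S) : Ω) := by
    intro P φ hφ
    obtain ⟨α, hα, φ₀, hφ₀, hv⟩ := exists_aut_comp_of_primeIndex p hS F hF E h' hφ
    exact ⟨α, hα, φ₀, invCore_le F E hφ₀, fun x _ => hv x⟩
  refine ⟨⟨hEF, fun P hP => ?_⟩, hfrat, fun P => ⟨fun hPc => ?_, fun hPc => ?_⟩⟩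
  · show OpPrime F p P ≤ E.autGroup P
    rw [OpPrime_eq_closure]
    apply (Subgroup.closure_le _).mpr
    rintro γ ⟨hγA, k, hk⟩
    exact mem_autGroup_of_orderOf p hS F hF E h' hP hγA hk
  · refine ⟨hPc.1, ?_⟩
    rintro Q ⟨φ, hφ, rfl⟩
    obtain ⟨α, hα, φ₀, hφ₀, hv⟩ := hfrat P φ hφ
    have hφ₀S := (E.le_of_mem hφ₀).2
    have hcen := hPc.2 φ₀.range ⟨φ₀, hφ₀, rfl⟩
    intro c hc
    obtain ⟨hcS, hcC⟩ := mem_centralizerIn.mp hc
    have hc₀ : ((α⁻¹ ⟨c, hcS⟩ : S) : Ω) ∈ centralizerIn S φ₀.range := by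
      rw [mem_centralizerIn]
      refine ⟨(α⁻¹ ⟨c, hcS⟩).2, ?_⟩
      rintro _ ⟨x, rfl⟩
      have h1 : α (⟨φ₀ x, hφ₀S x⟩ * α⁻¹ ⟨c, hcS⟩) = α (α⁻¹ ⟨c, hcS⟩ * ⟨φ₀ x, hφ₀S x⟩) := by
        rw [map_mul, map_mul, MulAut.apply_inv_self]
        apply Subtype.ext
        show ((α ⟨φ₀ x, hφ₀S x⟩ : S) : Ω) * c = c * ((α ⟨φ₀ x, hφ₀S x⟩ : S) : Ω)
        rw [← hv x (hφ₀S x)]
        exact hcC _ ⟨x, rfl⟩
      exact congrArg Subtype.val (α.injective h1)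
    obtain ⟨x₀, hx₀⟩ := hcen hc₀
    refine ⟨x₀, ?_⟩
    rw [hv x₀ (hφ₀S x₀)]
    have e : (⟨φ₀ x₀, hφ₀S x₀⟩ : S) = α⁻¹ ⟨c, hcS⟩ := Subtype.ext hx₀
    rw [e, MulAut.apply_inv_self]
  · refine ⟨hPc.1, ?_⟩
    rintro Q ⟨φ, hφ, hr⟩
    exact hPc.2 Q ⟨φ, hEF _ hφ, hr⟩

end Cfsg.Agent.S5114
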