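import Mathlib
import Cfsg.Statements.S0642

set_option autoImplicit false
open Cfsg

namespace Cfsg.Agent.S0642

open scoped commutatorElement

/-- In a finite group that is a `p`-group, every non-trivial group has a normal subgroup of index `p`. -/
theorem exists_normal_index_eq {K : Type*} [Group K] [Finite K] [Nontrivial K] {p : ℕ} [Fact p.Prime]
    (hK : IsPGroup p K) : ∃ M : Subgroup K, M.Normal ∧ M.index = p := by
  have hp : p.Prime := Fact.out
  obtain ⟨n, hn⟩ := IsPGroup.iff_card.mp hK
  have hn0 : n ≠ 0 := by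
    rintro rfl
    rw [pow_zero] at hn
    have := Finite.one_lt_card (α := K)
    omega
  obtain ⟨m, rfl⟩ := Nat.exists_eq_succ_of_ne_zero hn0
  obtain ⟨M, hM⟩ := Sylow.exists_subgroup_card_pow_prime p (n := m) (G := K)
    (by rw [hn]; exact pow_dvd_pow p (Nat.le_succ m))
  have hidx : M.index = p := by
    have h1 := M.card_mul_index
    rw [hM, hn, pow_succ] at h1
    exact Nat.eq_of_mul_eq_mul_left (pow_pos hp.pos m) h1
  refine ⟨M, ?_, hidx⟩
  apply Subgroup.normal_of_index_eq_minFac_card
  rw [hidx, hn, Nat.pow_minFac (Nat.succ_ne_zero m), hp.minFac_eq]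

/-- A subgroup of a finite `p`-group which is generated by the `p`-th powers of its elements is trivial. -/
theorem eq_bot_of_le_powerClosure {G : Type*} [Group G] [Finite G] {p : ℕ} [Fact p.Prime]
    (hG : IsPGroup p G) (K : Subgroup G) (h : K ≤ Cfsg.powerClosure p 1 K) : K = ⊥ := by
  by_contra hne
  have hnt : Nontrivial K := (Subgroup.nontrivial_iff_ne_bot K).mpr hne
  obtain ⟨M, hMn, hMi⟩ := exists_normal_index_eq (hG.to_subgroup K)
  have hle : Cfsg.powerClosure p 1 K ≤ M.map K.subtype := by
    unfold Cfsg.powerClosure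
    rw [Subgroup.closure_le]
    rintro _ ⟨x, hx, rfl⟩
    have h1 : (⟨x, hx⟩ : K) ^ M.index ∈ M := M.pow_index_mem ⟨x, hx⟩
    rw [hMi] at h1
    rw [pow_one]
    exact ⟨_, h1, rfl⟩
  have hMtop : M = ⊤ := by
    rw [eq_top_iff]
    intro k _
    obtain ⟨y, hy, hyk⟩ := hle (h k.2)
    have : y = k := Subtype.ext hyk
    rw [← this]; exact hy
  rw [hMtop, Subgroup.index_top] at hMi
  have hp : p.Prime := Fact.out
  exact hp.one_lt.ne hMi

/-- Among finite 2-groups the regular ones are exactly the abelian ones. -/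
theorem result {G : Type*} [Group G] [Finite G] (hG : IsPGroup 2 G) : Cfsg.IsRegularPGroup 2 G ↔ ∀ a b : G, a * b = b * a := by
  constructor
  · rintro ⟨_, hreg⟩ a b
    set H := Subgroup.closure ({a, b} : Set G) with hH
    set D := ⁅H, H⁆ with hD
    set P := Cfsg.powerClosure 2 1 D with hP
    have hDH : D ≤ H := by
      rw [hD, Subgroup.commutator_le]
      intro g₁ h₁ g₂ h₂
      rw [commutatorElement_def]
      exact H.mul_mem (H.mul_mem (H.mul_mem h₁ h₂) (H.inv_mem h₁)) (H.inv_mem h₂)
    have hDconj : ∀ h ∈ H, ∀ d ∈ D, h * d * h⁻¹ ∈ D := by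
      intro h hh d hd
      have h1 : ⁅h, d⁆ ∈ D := Subgroup.commutator_mem_commutator hh (hDH hd)
      have h2 : h * d * h⁻¹ = ⁅h, d⁆ * d := by rw [commutatorElement_def]; group
      rw [h2]
      exact D.mul_mem h1 hd
    have hPconj : ∀ h ∈ H, ∀ x ∈ P, h * x * h⁻¹ ∈ P := by
      intro h hh x hx
      rw [hP] at hx
      unfold Cfsg.powerClosure at hx
      induction hx using Subgroup.closure_induction with
      | mem y hy =>
        obtain ⟨d, hd, rfl⟩ := hy
        apply Subgroup.subset_closure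
        refine ⟨h * d * h⁻¹, hDconj h hh d hd, ?_⟩
        rw [conj_pow]
      | one => simp only [mul_one, mul_inv_cancel]; exact P.one_mem
      | mul y z _ _ hy hz =>
        have : h * (y * z) * h⁻¹ = (h * y * h⁻¹) * (h * z * h⁻¹) := by group
        rw [this]; exact P.mul_mem hy hz
      | inv y _ hy =>
        have : h * y⁻¹ * h⁻¹ = (h * y * h⁻¹)⁻¹ := by group
        rw [this]; exact P.inv_mem hy
    have hcomm : ∀ x ∈ H, ∀ y ∈ H, ⁅x, y⁆ ∈ P := by
      intro x hx y hy
      obtain ⟨c, hc, hxy⟩ := hreg x⁻¹ y 1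
      have hsub : Subgroup.closure ({x⁻¹, y} : Set G) ≤ H := by
        rw [Subgroup.closure_le]
        rintro z (rfl | rfl)
        · exact H.inv_mem hx
        · exact hy
      have hcP : c ∈ P := by
        have hmono : Cfsg.powerClosure 2 1 ⁅Subgroup.closure ({x⁻¹, y} : Set G),
            Subgroup.closure ({x⁻¹, y} : Set G)⁆ ≤ P := by
          unfold Cfsg.powerClosure
          apply Subgroup.closure_mono
          rintro _ ⟨d, hd, rfl⟩
          exact ⟨d, Subgroup.commutator_mono hsub hsub hd, rfl⟩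
        exact hmono hc
      have h1 : ⁅x, y⁆ = y ^ 2 * c * (y ^ 2)⁻¹ := by
        have h2 : c = (y ^ 2)⁻¹ * ((x⁻¹) ^ 2)⁻¹ * (x⁻¹ * y) ^ 2 := by
          rw [pow_one] at hxy
          rw [hxy]; group
        rw [h2, commutatorElement_def]
        simp only [pow_two]
        group
      rw [h1]
      exact hPconj _ (H.pow_mem hy 2) c hcP
    have hDP : D ≤ P := by
      rw [hD, Subgroup.commutator_le]
      exact hcomm
    have hDbot : D = ⊥ := eq_bot_of_le_powerClosure hG D hDP
    have ha : a ∈ H := Subgroup.subset_closure (by simp)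
    have hb : b ∈ H := Subgroup.subset_closure (by simp)
    have h3 : ⁅a, b⁆ ∈ D := Subgroup.commutator_mem_commutator ha hb
    rw [hDbot, Subgroup.mem_bot, commutatorElement_eq_one_iff_mul_comm] at h3
    exact h3
  · intro hcomm
    refine ⟨hG, ?_⟩
    intro a b n
    refine ⟨1, Subgroup.one_mem _, ?_⟩
    rw [mul_one]
    exact (Commute.mul_pow (hcomm a b) _)

end Cfsg.Agent.S0642
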