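import Mathlib
import Cfsg.Statements.S2911
import Cfsg.Agent.S0642
import Cfsg.Agent.Lib.Helper15.ExtremalConj
import Cfsg.Agent.Lib.Helper15.SylowIn

set_option autoImplicit false
open Cfsg

namespace Cfsg.Agent.S2911

open Cfsg.Agent.Helper15
open scoped commutatorElement

theorem ofAdd_one_ne : Multiplicative.ofAdd (1 : ZMod 2) ≠ 1 := by decide

theorem ofAdd_one_mul_self :
    Multiplicative.ofAdd (1 : ZMod 2) * Multiplicative.ofAdd (1 : ZMod 2) = 1 := by decide

theorem center_dihedral_four : ∀ d : DihedralGroup 4, (∀ x : DihedralGroup 4, d * x = x * d) →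
    d = 1 ∨ d = DihedralGroup.r 2 := by
  decide

theorem r_two_eq_commutator :
    (DihedralGroup.r 2 : DihedralGroup 4)
      = DihedralGroup.r 1 * DihedralGroup.sr 0 * (DihedralGroup.r 1)⁻¹ * (DihedralGroup.sr 0)⁻¹ := by
  decide

/-- A finite group whose Sylow 2-subgroups are isomorphic to the direct product of a group of order 2 and a dihedral group of order 8 has a subgroup of index two. -/
theorem result {G : Type*} [Group G] [Finite G] (S : Sylow 2 G) (hS : Nonempty (↥(S : Subgroup G) ≃* Multiplicative (ZMod 2) × DihedralGroup 4)) : ∃ H : Subgroup G, H.index = 2 := by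
  classical
  haveI : Fact (Nat.Prime 2) := ⟨Nat.prime_two⟩
  obtain ⟨e⟩ := hS
  by_contra hno
  push Not at hno
  -- every homomorphism to an abelian 2-group is trivial
  have hV : ∀ (y : G) (A : Type _) [CommGroup A] (f : G →* A), IsPGroup 2 A → f y = 1 := by
    intro y A _ f hA
    by_contra hfy
    haveI : Finite ↥f.range := Finite.of_surjective f.rangeRestrict f.rangeRestrict_surjective
    haveI : Nontrivial ↥f.range := by
      refine ⟨⟨⟨f y, ⟨y, rfl⟩⟩, 1, ?_⟩⟩
      intro h
      exact hfy (congrArg Subtype.val h)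
    have hR : IsPGroup 2 ↥f.range := hA.to_subgroup _
    obtain ⟨M, -, hMi⟩ := Cfsg.Agent.S0642.exists_normal_index_eq hR
    apply hno (M.comap f.rangeRestrict)
    rw [Subgroup.index_comap_of_surjective _ f.rangeRestrict_surjective]
    exact hMi
  -- the subgroup `T` of index two and the central involution `y`
  set ψ : ↥(S : Subgroup G) →* Multiplicative (ZMod 2) :=
    (MonoidHom.fst _ _).comp e.toMonoidHom with hψ
  have hψsurj : Function.Surjective ψ := by
    intro a
    refine ⟨e.symm (a, 1), ?_⟩
    simp [hψ]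
  set T₀ : Subgroup ↥(S : Subgroup G) := ψ.ker with hT₀
  set T : Subgroup G := T₀.map (S : Subgroup G).subtype with hT
  have hTS : T ≤ (S : Subgroup G) := Subgroup.map_subtype_le _
  have hTsub : T.subgroupOf (S : Subgroup G) = T₀ :=
    Subgroup.comap_map_eq_self_of_injective (Subgroup.subtype_injective _) _
  have hTn : (T.subgroupOf (S : Subgroup G)).Normal := by
    rw [hTsub]; infer_instance
  have hcyc : IsCyclic (↥(S : Subgroup G) ⧸ T.subgroupOf (S : Subgroup G)) := by
    have e2 := QuotientGroup.quotientKerEquivOfSurjective ψ hψsurj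
    have e3 : (↥(S : Subgroup G) ⧸ T.subgroupOf (S : Subgroup G)) ≃* (↥(S : Subgroup G) ⧸ ψ.ker) :=
      QuotientGroup.quotientMulEquivOfEq hTsub
    exact isCyclic_of_surjective (e3.trans e2).symm.toMonoidHom (e3.trans e2).symm.surjective
  set y' : ↥(S : Subgroup G) := e.symm (Multiplicative.ofAdd (1 : ZMod 2), 1) with hy'
  set y : G := (y' : G) with hy
  have hey : e y' = (Multiplicative.ofAdd (1 : ZMod 2), 1) := by simp [hy']
  have hψy : ψ y' = Multiplicative.ofAdd (1 : ZMod 2) := by
    simp [hψ, hey]
  have hone : (Multiplicative.ofAdd (1 : ZMod 2)) ≠ 1 := ofAdd_one_ne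
  have hy'1 : y' ≠ 1 := by
    intro h
    rw [h, map_one] at hψy
    exact hone hψy.symm
  have hy'2 : y' * y' = 1 := by
    apply e.injective
    rw [map_mul, hey, MulEquiv.map_one]
    apply Prod.ext
    · show Multiplicative.ofAdd (1 : ZMod 2) * Multiplicative.ofAdd (1 : ZMod 2) = 1
      exact ofAdd_one_mul_self
    · show (1 : DihedralGroup 4) * 1 = 1
      exact mul_one 1
  have hyo : orderOf y = 2 := by
    rw [hy, Subgroup.orderOf_coe]
    apply orderOf_eq_prime
    · rw [pow_two]; exact hy'2
    · exact hy'1
  have hyS : y ∈ (S : Subgroup G) := y'.2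
  have hyT : y ∉ T := by
    intro h
    have : y' ∈ T₀ := by
      rw [← hTsub, Subgroup.mem_subgroupOf]
      exact h
    rw [hT₀, MonoidHom.mem_ker, hψy] at this
    exact hone this
  -- `y` is central in `S`
  have hycent : ∀ s : ↥(S : Subgroup G), s * y' = y' * s := by
    intro s
    apply e.injective
    rw [map_mul, map_mul, hey]
    ext
    · simp [mul_comm]
    · simp
  obtain ⟨g, hgT, -, hgS⟩ := exists_extremal_conj' S T hTS hTn hcyc y hyo hyS hyT (hV y)
  have hSle : (S : Subgroup G) ≤ (S : Subgroup G) ⊓ Subgroup.centralizer ({y} : Set G) := by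
    intro s hs
    rw [Subgroup.mem_inf]
    refine ⟨hs, ?_⟩
    rw [Subgroup.mem_centralizer_singleton_iff]
    have := hycent ⟨s, hs⟩
    exact congrArg Subtype.val this
  have hSg : (S : Subgroup G).map (MulAut.conj g).toMonoidHom
      ≤ (S : Subgroup G) ⊓ Subgroup.centralizer ({g * y * g⁻¹} : Set G) :=
    (Subgroup.map_mono hSle).trans hgS
  have hgN : g ∈ Subgroup.normalizer ((S : Subgroup G) : Set G) := by
    apply mem_normalizer_of_map_conj_eq
    apply Subgroup.eq_of_le_of_card_ge (hSg.trans inf_le_left)
    rw [card_map_conj]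
  have hSgeq : (S : Subgroup G).map (MulAut.conj g).toMonoidHom = S :=
    map_conj_eq_of_mem_normalizer hgN
  rw [hSgeq] at hSg
  -- `t = g y g⁻¹`
  set t : G := g * y * g⁻¹ with ht
  have htS : t ∈ (S : Subgroup G) := hTS hgT
  set t' : ↥(S : Subgroup G) := ⟨t, htS⟩ with ht'
  have htT₀ : t' ∈ T₀ := by
    rw [← hTsub, Subgroup.mem_subgroupOf]
    exact hgT
  have htcent : ∀ s : ↥(S : Subgroup G), t' * s = s * t' := by
    intro s
    have h1 : (s : G) ∈ Subgroup.centralizer ({t} : Set G) := (hSg s.2).2
    rw [Subgroup.mem_centralizer_singleton_iff] at h1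
    exact Subtype.ext h1.symm
  have ht1 : t' ≠ 1 := by
    intro h
    have h1 : t = 1 := congrArg Subtype.val h
    have h2 : y = 1 := by
      have : y = g⁻¹ * t * g := by rw [ht]; group
      rw [this, h1]; group
    exact hy'1 (Subtype.ext h2)
  -- `e t' = (1, r 2)`
  have het1 : (e t').1 = 1 := by
    have : ψ t' = 1 := htT₀
    simpa [hψ] using this
  have het2 : (e t').2 = DihedralGroup.r 2 := by
    have hc : ∀ x : DihedralGroup 4, (e t').2 * x = x * (e t').2 := by
      intro x
      have h1 := htcent (e.symm (1, x))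
      have h2 := congrArg (fun s => (e s).2) h1
      simpa using h2
    rcases center_dihedral_four _ hc with h | h
    · exfalso
      apply ht1
      apply e.injective
      rw [map_one]
      ext
      · exact het1
      · exact h
    · exact h
  -- `t'` is a commutator
  have htcomm : t' ∈ commutator ↥(S : Subgroup G) := by
    have h1 : t' = ⁅e.symm (1, DihedralGroup.r 1), e.symm (1, DihedralGroup.sr 0)⁆ := by
      apply e.injective
      rw [commutatorElement_def, map_mul, map_mul, map_mul, map_inv, map_inv,
        MulEquiv.apply_symm_apply, MulEquiv.apply_symm_apply]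
      ext
      · rw [het1]; simp
      · rw [het2, r_two_eq_commutator]; rfl
    rw [h1, commutator_def]
    exact Subgroup.commutator_mem_commutator (Subgroup.mem_top _) (Subgroup.mem_top _)
  -- transport back to `y'`
  set α : MulAut ↥(S : Subgroup G) := (S : Subgroup G).normalizerMonoidHom ⟨g, hgN⟩ with hα
  have hαy : α y' = t' := by
    apply Subtype.ext
    rfl
  have hchar : (commutator ↥(S : Subgroup G)).comap α.toMonoidHom = commutator ↥(S : Subgroup G) :=
    (inferInstance : (commutator ↥(S : Subgroup G)).Characteristic).fixed α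
  have hycomm : y' ∈ commutator ↥(S : Subgroup G) := by
    rw [← hchar, Subgroup.mem_comap]
    show α y' ∈ _
    rw [hαy]
    exact htcomm
  have hker : commutator ↥(S : Subgroup G) ≤ ψ.ker := Abelianization.commutator_subset_ker ψ
  have := hker hycomm
  rw [MonoidHom.mem_ker, hψy] at this
  exact hone this

end Cfsg.Agent.S2911
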