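import Mathlib
import Cfsg.Statements.S0445

set_option autoImplicit false
open Cfsg

namespace Cfsg.Agent.S0445

open Matrix

/-- The shape of the matrices commuting with the transvection `1 + E₀₁`. -/
def Pat (g : Matrix (Fin 5) (Fin 5) (ZMod 2)) : Prop :=
  (∀ i : Fin 4, g i.succ 0 = 0) ∧ (∀ j : Fin 3, g 1 j.succ.succ = 0) ∧ g 0 0 = g 1 1

theorem commute_iff_pat (g : Matrix (Fin 5) (Fin 5) (ZMod 2)) :
    g * transvection 0 1 1 = transvection 0 1 1 * g ↔ Pat g := by
  unfold transvection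
  rw [mul_add, add_mul, mul_one, one_mul, add_right_inj]
  constructor
  · intro h
    refine ⟨fun i => ?_, fun j => ?_, ?_⟩
    · have h1 := congrFun (congrFun h i.succ) 1
      rw [mul_single_apply_same, single_mul_apply_of_ne _ _ _ _ _ (Fin.succ_ne_zero i), mul_one] at h1
      exact h1
    · have h1 := congrFun (congrFun h 0) j.succ.succ
      have hne : (j.succ.succ : Fin 5) ≠ 1 := by
        intro h2
        have := congrArg Fin.val h2
        simp at this
      rw [mul_single_apply_of_ne _ _ _ _ _ hne, single_mul_apply_same, one_mul] at h1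
      exact h1.symm
    · have h1 := congrFun (congrFun h 0) 1
      rw [mul_single_apply_same, single_mul_apply_same, one_mul, mul_one] at h1
      exact h1
  · rintro ⟨h1, h2, h3⟩
    ext i j
    by_cases hj : j = 1
    · subst hj
      rw [mul_single_apply_same, mul_one]
      refine Fin.cases ?_ (fun i' => ?_) i
      · rw [single_mul_apply_same, one_mul]; exact h3
      · rw [single_mul_apply_of_ne _ _ _ _ _ (Fin.succ_ne_zero i'), h1 i']
    · rw [mul_single_apply_of_ne _ _ _ _ _ hj]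
      refine Fin.cases ?_ (fun i' => ?_) i
      · rw [single_mul_apply_same, one_mul]
        -- `g 1 j = 0` for `j ≠ 1`
        revert hj
        refine Fin.cases ?_ (fun j' => ?_) j
        · intro _; exact (h1 0).symm
        · refine Fin.cases ?_ (fun j'' => ?_) j'
          · intro hj; exact absurd rfl hj
          · intro _; exact (h2 j'').symm
      · rw [single_mul_apply_of_ne _ _ _ _ _ (Fin.succ_ne_zero i')]

/-- The lower right `3 × 3` block. -/
def blk (g : Matrix (Fin 5) (Fin 5) (ZMod 2)) : Matrix (Fin 3) (Fin 3) (ZMod 2) :=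
  g.submatrix (fun k => k.succ.succ) (fun k => k.succ.succ)

theorem det4 (g' : Matrix (Fin 4) (Fin 4) (ZMod 2)) (h2 : ∀ j : Fin 3, g' 0 j.succ = 0) :
    g'.det = g' 0 0 * (g'.submatrix Fin.succ Fin.succ).det := by
  rw [det_succ_row_zero, Fin.sum_univ_succ]
  have hz' : ∀ j : Fin 3, (-1 : ZMod 2) ^ ((j.succ : Fin 4) : ℕ) *
      g' 0 j.succ * (g'.submatrix Fin.succ j.succ.succAbove).det = 0 := by
    intro j
    rw [h2 j, mul_zero, zero_mul]
  rw [Finset.sum_eq_zero (fun j _ => hz' j), add_zero]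
  simp only [Fin.val_zero, pow_zero, one_mul, Fin.succAbove_zero]

theorem det_of_pat (g : Matrix (Fin 5) (Fin 5) (ZMod 2)) (h : Pat g) :
    g.det = g 0 0 * (g 1 1 * (blk g).det) := by
  obtain ⟨h1, h2, -⟩ := h
  rw [det_succ_column_zero, Fin.sum_univ_succ]
  have hz : ∀ i : Fin 4, (-1 : ZMod 2) ^ ((i.succ : Fin 5) : ℕ) * g i.succ 0 *
      (g.submatrix i.succ.succAbove Fin.succ).det = 0 := by
    intro i
    rw [h1 i, mul_zero, zero_mul]
  rw [Finset.sum_eq_zero (fun i _ => hz i), add_zero]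
  simp only [Fin.val_zero, pow_zero, one_mul, Fin.succAbove_zero]
  rw [det4 (g.submatrix Fin.succ Fin.succ) (fun j => h2 j)]
  rfl

/-- The matrix with prescribed free entries. -/
def mk (a : ZMod 2) (b c : Fin 3 → ZMod 2) (M : Matrix (Fin 3) (Fin 3) (ZMod 2)) :
    Matrix (Fin 5) (Fin 5) (ZMod 2) :=
  Matrix.of (Fin.cons (Fin.cons 1 (Fin.cons a b))
    (Fin.cons (Fin.cons 0 (Fin.cons 1 (fun _ => 0)))
      (fun k => Fin.cons 0 (Fin.cons (c k) (M k)))))

section mk

variable (a : ZMod 2) (b c : Fin 3 → ZMod 2) (M : Matrix (Fin 3) (Fin 3) (ZMod 2))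

theorem mk_00 : mk a b c M 0 0 = 1 := rfl
theorem mk_01 : mk a b c M 0 1 = a := rfl
theorem mk_0s (k : Fin 3) : mk a b c M 0 k.succ.succ = b k := rfl
theorem mk_10 : mk a b c M 1 0 = 0 := rfl
theorem mk_11 : mk a b c M 1 1 = 1 := rfl
theorem mk_1s (k : Fin 3) : mk a b c M 1 k.succ.succ = 0 := rfl
theorem mk_s0 (k : Fin 3) : mk a b c M k.succ.succ 0 = 0 := rfl
theorem mk_s1 (k : Fin 3) : mk a b c M k.succ.succ 1 = c k := rfl
theorem mk_ss (k l : Fin 3) : mk a b c M k.succ.succ l.succ.succ = M k l := rfl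

theorem pat_mk : Pat (mk a b c M) := by
  refine ⟨fun i => ?_, fun j => rfl, rfl⟩
  refine Fin.cases rfl (fun k => ?_) i
  exact mk_s0 a b c M k

theorem blk_mk : blk (mk a b c M) = M := by
  ext k l
  rfl

theorem det_mk : (mk a b c M).det = M.det := by
  rw [det_of_pat _ (pat_mk a b c M), mk_00, mk_11, one_mul, one_mul, blk_mk]

end mk

theorem eq_one_of_mul_eq_one : ∀ x y : ZMod 2, x * y = 1 → x = 1 ∧ y = 1 := by decide

/-- A matrix of the right shape and determinant one is determined by its free entries. -/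
theorem eq_mk (g : Matrix (Fin 5) (Fin 5) (ZMod 2)) (h : Pat g) (hd : g.det = 1) :
    g = mk (g 0 1) (fun k => g 0 k.succ.succ) (fun k => g k.succ.succ 1) (blk g) ∧
      (blk g).det = 1 := by
  have hdet := det_of_pat g h
  rw [hd] at hdet
  obtain ⟨h00, h3⟩ := eq_one_of_mul_eq_one _ _ hdet.symm
  obtain ⟨h11, hb⟩ := eq_one_of_mul_eq_one _ _ h3
  refine ⟨?_, hb⟩
  obtain ⟨h1, h2, -⟩ := h
  ext i j
  refine Fin.cases ?_ (fun i' => ?_) i
  · refine Fin.cases ?_ (fun j' => ?_) j
    · exact h00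
    · refine Fin.cases rfl (fun j'' => rfl) j'
  · refine Fin.cases ?_ (fun i'' => ?_) i'
    · refine Fin.cases ?_ (fun j' => ?_) j
      · exact h1 0
      · refine Fin.cases ?_ (fun j'' => ?_) j'
        · exact h11
        · exact h2 j''
    · refine Fin.cases ?_ (fun j' => ?_) j
      · exact h1 i''.succ
      · refine Fin.cases rfl (fun j'' => rfl) j'

theorem eq_one_of_isUnit : ∀ x : ZMod 2, IsUnit x → x = 1 := by decide

/-- Over the field with two elements the general and special linear groups coincide. -/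
noncomputable def glEquivSl : GL (Fin 3) (ZMod 2) ≃ Matrix.SpecialLinearGroup (Fin 3) (ZMod 2) where
  toFun M := ⟨(M : Matrix (Fin 3) (Fin 3) (ZMod 2)),
    eq_one_of_isUnit _ ((Matrix.isUnit_iff_isUnit_det _).mp M.isUnit)⟩
  invFun M := Matrix.SpecialLinearGroup.toGL M
  left_inv M := by
    apply Units.ext
    rfl
  right_inv M := by
    apply Subtype.ext
    rfl

theorem card_sl3 : Nat.card (Matrix.SpecialLinearGroup (Fin 3) (ZMod 2)) = 168 := by
  rw [← Nat.card_congr glEquivSl, Matrix.card_GL_field, Fin.prod_univ_three]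
  simp [ZMod.card]

theorem mem_centralizer_iff_pat (s : Matrix.SpecialLinearGroup (Fin 5) (ZMod 2))
    (hs : (s : Matrix (Fin 5) (Fin 5) (ZMod 2)) = Matrix.transvection 0 1 1)
    (g : Matrix.SpecialLinearGroup (Fin 5) (ZMod 2)) :
    g ∈ Subgroup.centralizer ({s} : Set (Matrix.SpecialLinearGroup (Fin 5) (ZMod 2))) ↔
      Pat (g : Matrix (Fin 5) (Fin 5) (ZMod 2)) := by
  rw [Subgroup.mem_centralizer_singleton_iff, ← commute_iff_pat, ← hs,
    ← Matrix.SpecialLinearGroup.coe_mul, ← Matrix.SpecialLinearGroup.coe_mul]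
  constructor
  · intro h; rw [h]
  · intro h; exact Subtype.ext h

/-- The element of `SL(5, 2)` with prescribed free entries. -/
def mkSL (x : ZMod 2 × (Fin 3 → ZMod 2) × (Fin 3 → ZMod 2) ×
    Matrix.SpecialLinearGroup (Fin 3) (ZMod 2)) : Matrix.SpecialLinearGroup (Fin 5) (ZMod 2) :=
  ⟨mk x.1 x.2.1 x.2.2.1 (x.2.2.2 : Matrix (Fin 3) (Fin 3) (ZMod 2)),
    (det_mk _ _ _ _).trans (Matrix.SpecialLinearGroup.det_coe x.2.2.2)⟩

theorem coe_mkSL (x : ZMod 2 × (Fin 3 → ZMod 2) × (Fin 3 → ZMod 2) ×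
    Matrix.SpecialLinearGroup (Fin 3) (ZMod 2)) :
    ((mkSL x : Matrix.SpecialLinearGroup (Fin 5) (ZMod 2)) : Matrix (Fin 5) (Fin 5) (ZMod 2)) =
      mk x.1 x.2.1 x.2.2.1 (x.2.2.2 : Matrix (Fin 3) (Fin 3) (ZMod 2)) := rfl

/-- The parametrization of the centralizer. -/
noncomputable def centEquiv (s : Matrix.SpecialLinearGroup (Fin 5) (ZMod 2))
    (hs : (s : Matrix (Fin 5) (Fin 5) (ZMod 2)) = Matrix.transvection 0 1 1) :
    Subgroup.centralizer ({s} : Set (Matrix.SpecialLinearGroup (Fin 5) (ZMod 2))) ≃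
      ZMod 2 × (Fin 3 → ZMod 2) × (Fin 3 → ZMod 2) ×
        Matrix.SpecialLinearGroup (Fin 3) (ZMod 2) where
  toFun g :=
    ((g.1 : Matrix (Fin 5) (Fin 5) (ZMod 2)) 0 1,
      fun k => (g.1 : Matrix (Fin 5) (Fin 5) (ZMod 2)) 0 k.succ.succ,
      fun k => (g.1 : Matrix (Fin 5) (Fin 5) (ZMod 2)) k.succ.succ 1,
      ⟨blk (g.1 : Matrix (Fin 5) (Fin 5) (ZMod 2)),
        (eq_mk _ ((mem_centralizer_iff_pat s hs g.1).mp g.2)
          (Matrix.SpecialLinearGroup.det_coe g.1)).2⟩)
  invFun x :=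
    ⟨mkSL x, (mem_centralizer_iff_pat s hs _).mpr (by rw [coe_mkSL]; exact pat_mk _ _ _ _)⟩
  left_inv g := by
    apply Subtype.ext
    apply Subtype.ext
    exact (eq_mk _ ((mem_centralizer_iff_pat s hs g.1).mp g.2)
      (Matrix.SpecialLinearGroup.det_coe g.1)).1.symm
  right_inv x := by
    obtain ⟨a, b, c, M⟩ := x
    refine Prod.ext rfl (Prod.ext rfl (Prod.ext rfl ?_))
    apply Subtype.ext
    exact blk_mk a b c (M : Matrix (Fin 3) (Fin 3) (ZMod 2))

/-- In the special linear group of dimension 5 over the field with two elements, the centraliser of a transvection has order 21504 = 2 ^ 7 · 168 (it is an extension of an extraspecial group of order 2 ^ 7 by the simple group of order 168). -/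
theorem result (s : Matrix.SpecialLinearGroup (Fin 5) (ZMod 2)) (hs : (s : Matrix (Fin 5) (Fin 5) (ZMod 2)) = Matrix.transvection 0 1 1) : Nat.card (Subgroup.centralizer ({s} : Set (Matrix.SpecialLinearGroup (Fin 5) (ZMod 2)))) = 21504 := by
  rw [Nat.card_congr (centEquiv s hs), Nat.card_prod, Nat.card_prod, Nat.card_prod, card_sl3,
    Nat.card_eq_fintype_card, Nat.card_eq_fintype_card, Fintype.card_fun, ZMod.card,
    Fintype.card_fin]
  norm_num

end Cfsg.Agent.S0445
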