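import Mathlib
import Cfsg.Statements.S0865
import Cfsg.Agent.Lib.Helper5.TransferInv
import Cfsg.Agent.Lib.Helper24.CharLinear
import Cfsg.Agent.Lib.Helper24.CharAlgebra

set_option autoImplicit false
open Cfsg

namespace Cfsg.Agent.S0865

open Cfsg.Agent.Helper5 Cfsg.Agent.Helper24

/-- Let N be a normal subgroup of the finite group G and λ a character of N of degree 1, invariant under conjugation by G, whose order (under pointwise multiplication) is coprime to the index of N. Then there is a character μ of G of degree 1 restricting to λ with the same order as λ, and μ is the only degree-1 character of G restricting to λ whose order is coprime to the index of N. -/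
theorem result {G : Type*} [Group G] [Finite G] (N : Subgroup G) [hN : N.Normal] (lam : N → ℂ) (hlam : Cfsg.IsCharacter N lam ∧ lam 1 = 1) (hinv : ∀ (g : G) (n : N), lam ⟨g * n * g⁻¹, hN.conj_mem (n : G) n.2 g⟩ = lam n) (hcop : Nat.Coprime N.index (orderOf lam)) : ∃ μ : G → ℂ, (Cfsg.IsCharacter G μ ∧ μ 1 = 1 ∧ (∀ n : N, μ n = lam n) ∧ orderOf μ = orderOf lam) ∧ ∀ μ' : G → ℂ, Cfsg.IsCharacter G μ' ∧ μ' 1 = 1 → (∀ n : N, μ' n = lam n) → Nat.Coprime N.index (orderOf μ') → μ' = μ := by
  classical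
  set m := N.index with hm
  set a := orderOf lam with ha
  let L : N →* ℂˣ := linHom hlam.1 hlam.2
  have hL : ∀ n : N, ((L n : ℂˣ) : ℂ) = lam n := fun n => rfl
  have hLa : ∀ n : N, L n ^ a = 1 := by
    intro n
    apply Units.ext
    rw [Units.val_pow_eq_pow_val, hL, Units.val_one]
    have := congrFun (pow_orderOf_eq_one lam) n
    rwa [Pi.pow_apply, Pi.one_apply] at this
  have hLinv : ∀ (g : G) (n : N), L ⟨g⁻¹ * n * g, by
      have := hN.conj_mem (n : G) n.2 g⁻¹
      rwa [inv_inv] at this⟩ = L n := by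
    intro g n
    apply Units.ext
    rw [hL, hL]
    have := hinv g⁻¹ n
    simp only [inv_inv] at this
    exact this
  let T : G →* ℂˣ := MonoidHom.transfer L
  have hT : ∀ n : N, T (n : G) = L n ^ m := transfer_invariant_apply N L hLinv
  -- Bezout
  have hcop2 : IsCoprime ((m ^ 2 : ℕ) : ℤ) (a : ℤ) :=
    Nat.isCoprime_iff_coprime.mpr (Nat.Coprime.pow_left 2 hcop)
  obtain ⟨u, v, huv⟩ := hcop2
  let μh : G →* ℂˣ := T ^ ((m : ℤ) * u)
  have hμh : ∀ g : G, μh g = T g ^ ((m : ℤ) * u) := fun g => rfl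
  have hpowmem : ∀ g : G, g ^ m ∈ N := fun g => N.pow_index_mem g
  have hTam : ∀ g : G, T g ^ (a * m) = 1 := by
    intro g
    rw [mul_comm, pow_mul, ← map_pow]
    have := hT ⟨g ^ m, hpowmem g⟩
    simp only at this
    rw [this, ← pow_mul, mul_comm, pow_mul, hLa, one_pow]
  have hμN : ∀ n : N, μh (n : G) = L n := by
    intro n
    rw [hμh, hT, ← zpow_natCast, ← zpow_mul]
    have e : (m : ℤ) * ((m : ℤ) * u) = 1 - v * a := by
      have : ((m ^ 2 : ℕ) : ℤ) = (m : ℤ) * m := by push_cast; ring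
      rw [this] at huv
      linear_combination huv
    rw [e, zpow_sub, zpow_one, zpow_mul', zpow_natCast, hLa, one_zpow]
    simp
  have hμa : ∀ g : G, μh g ^ a = 1 := by
    intro g
    rw [hμh, ← zpow_natCast, ← zpow_mul]
    have e : (m : ℤ) * u * (a : ℤ) = ((a * m : ℕ) : ℤ) * u := by push_cast; ring
    rw [e, zpow_mul, zpow_natCast, hTam, one_zpow]
  let μ : G → ℂ := fun g => ((μh g : ℂˣ) : ℂ)
  have hμirr : IsIrrCharacter G μ := isIrrCharacter_of_monoidHom μh
  have hμ1 : μ 1 = 1 := by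
    show ((μh 1 : ℂˣ) : ℂ) = 1
    rw [map_one, Units.val_one]
  have hμres : ∀ n : N, μ n = lam n := by
    intro n
    show ((μh (n : G) : ℂˣ) : ℂ) = lam n
    rw [hμN, hL]
  have hμord : orderOf μ = a := by
    apply Nat.dvd_antisymm
    · apply orderOf_dvd_of_pow_eq_one
      funext g
      rw [Pi.pow_apply, Pi.one_apply]
      show ((μh g : ℂˣ) : ℂ) ^ a = 1
      rw [← Units.val_pow_eq_pow_val, hμa, Units.val_one]
    · apply orderOf_dvd_of_pow_eq_one
      funext n
      rw [Pi.pow_apply, Pi.one_apply, ← hμres]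
      have := congrFun (pow_orderOf_eq_one μ) (n : G)
      rwa [Pi.pow_apply, Pi.one_apply] at this
  refine ⟨μ, ⟨isCharacter_of_isIrrCharacter hμirr, hμ1, hμres, hμord⟩, ?_⟩
  intro μ' hμ' hres' hcop'
  let M' : G →* ℂˣ := linHom hμ'.1 hμ'.2
  have hM' : ∀ g : G, ((M' g : ℂˣ) : ℂ) = μ' g := fun g => rfl
  set a' := orderOf μ' with ha'
  have hM'a : ∀ g : G, M' g ^ a' = 1 := by
    intro g
    apply Units.ext
    rw [Units.val_pow_eq_pow_val, hM', Units.val_one]
    have := congrFun (pow_orderOf_eq_one μ') g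
    rwa [Pi.pow_apply, Pi.one_apply] at this
  let D : G →* ℂˣ := M' / μh
  have hD : ∀ g : G, D g = M' g / μh g := fun g => rfl
  have hDN : ∀ n : N, D (n : G) = 1 := by
    intro n
    rw [hD, hμN, div_eq_one]
    apply Units.ext
    rw [hM', hL, hres']
  have hDm : ∀ g : G, D g ^ m = 1 := by
    intro g
    rw [← map_pow]
    exact hDN ⟨g ^ m, hpowmem g⟩
  have hDaa : ∀ g : G, D g ^ (a * a') = 1 := by
    intro g
    rw [hD, div_pow, pow_mul', hM'a, one_pow, pow_mul, hμa, one_pow, div_one]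
  have hD1 : ∀ g : G, D g = 1 := by
    intro g
    have h1 : D g ^ Nat.gcd m (a * a') = 1 := pow_gcd_eq_one.mpr ⟨hDm g, hDaa g⟩
    have h2 : Nat.gcd m (a * a') = 1 := Nat.Coprime.mul_right hcop hcop'
    rwa [h2, pow_one] at h1
  funext g
  have := hD1 g
  rw [hD, div_eq_one] at this
  show μ' g = ((μh g : ℂˣ) : ℂ)
  rw [← hM', this]

end Cfsg.Agent.S0865
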