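import Mathlib
import Cfsg.Statements.S5344

set_option autoImplicit false
universe u
open Cfsg

namespace Cfsg.Agent.S5344

open Equiv

section NormalForm

variable {Γ : Type*} [Group Γ]

/-- Coxeter relations of type A₃ for three elements. -/
structure Rel (a b c : Γ) : Prop where
  aa : a * a = 1
  bb : b * b = 1
  cc : c * c = 1
  aba : a * b * a = b * a * b
  bcb : b * c * b = c * b * c
  ac : a * c = c * a

def uf (a b : Γ) : Fin 6 → Γ := ![1, a, b, a * b, b * a, a * b * a]

def vf (a b c : Γ) : Fin 4 → Γ := ![1, c, c * b, c * b * a]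

variable {a b c : Γ}

lemma uf_mul_a (h : Rel a b c) (i : Fin 6) : ∃ i', uf a b i * a = uf a b i' := by
  fin_cases i
  · exact ⟨1, by simp [uf]⟩
  · exact ⟨0, by simp [uf, h.aa]⟩
  · exact ⟨4, by simp [uf]⟩
  · exact ⟨5, by simp [uf]⟩
  · exact ⟨2, by simp [uf, mul_assoc, h.aa]⟩
  · exact ⟨3, by simp [uf, mul_assoc, h.aa]⟩

lemma uf_mul_b (h : Rel a b c) (i : Fin 6) : ∃ i', uf a b i * b = uf a b i' := by
  fin_cases i
  · exact ⟨2, by simp [uf]⟩
  · exact ⟨3, by simp [uf]⟩
  · exact ⟨0, by simp [uf, h.bb]⟩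
  · exact ⟨1, by simp [uf, mul_assoc, h.bb]⟩
  · exact ⟨5, by simp [uf, h.aba]⟩
  · refine ⟨4, ?_⟩
    simp only [uf]
    show a * b * a * b = b * a
    rw [h.aba, mul_assoc, h.bb, mul_one]

lemma vf_mul_a (h : Rel a b c) (j : Fin 4) :
    ∃ (i' : Fin 6) (j' : Fin 4), vf a b c j * a = uf a b i' * vf a b c j' := by
  fin_cases j
  · exact ⟨1, 0, by simp [uf, vf]⟩
  · exact ⟨1, 1, by simp [uf, vf, h.ac]⟩
  · exact ⟨0, 3, by simp [uf, vf]⟩
  · exact ⟨0, 2, by simp [uf, vf, mul_assoc, h.aa]⟩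

lemma vf_mul_b (h : Rel a b c) (j : Fin 4) :
    ∃ (i' : Fin 6) (j' : Fin 4), vf a b c j * b = uf a b i' * vf a b c j' := by
  fin_cases j
  · exact ⟨2, 0, by simp [uf, vf]⟩
  · exact ⟨0, 2, by simp [uf, vf]⟩
  · exact ⟨0, 1, by simp [uf, vf, mul_assoc, h.bb]⟩
  · refine ⟨1, 3, ?_⟩
    simp only [uf, vf]
    show c * b * a * b = a * (c * b * a)
    calc c * b * a * b = c * (b * a * b) := by simp only [mul_assoc]
      _ = c * (a * b * a) := by rw [h.aba]
      _ = (c * a) * b * a := by simp only [mul_assoc]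
      _ = (a * c) * b * a := by rw [h.ac]
      _ = a * (c * b * a) := by simp only [mul_assoc]

lemma vf_mul_c (h : Rel a b c) (j : Fin 4) :
    ∃ (i' : Fin 6) (j' : Fin 4), vf a b c j * c = uf a b i' * vf a b c j' := by
  fin_cases j
  · exact ⟨0, 1, by simp [uf, vf]⟩
  · exact ⟨0, 0, by simp [uf, vf, h.cc]⟩
  · refine ⟨2, 2, ?_⟩
    simp only [uf, vf]
    show c * b * c = b * (c * b)
    rw [← h.bcb, mul_assoc]
  · refine ⟨2, 3, ?_⟩
    simp only [uf, vf]
    show c * b * a * c = b * (c * b * a)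
    calc c * b * a * c = c * b * (a * c) := by simp only [mul_assoc]
      _ = c * b * (c * a) := by rw [h.ac]
      _ = (c * b * c) * a := by simp only [mul_assoc]
      _ = (b * c * b) * a := by rw [h.bcb]
      _ = b * (c * b * a) := by simp only [mul_assoc]

lemma uf_mul_uf_gen (h : Rel a b c) (i : Fin 6) (s : Γ) (hs : s = a ∨ s = b) :
    ∃ i', uf a b i * s = uf a b i' := by
  rcases hs with rfl | rfl
  · exact uf_mul_a h i
  · exact uf_mul_b h i

/-- closure of `uf` under multiplication by `uf` -/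
lemma uf_mul_uf (h : Rel a b c) (i k : Fin 6) : ∃ i', uf a b i * uf a b k = uf a b i' := by
  fin_cases k
  · exact ⟨i, by simp [uf]⟩
  · exact uf_mul_a h i
  · exact uf_mul_b h i
  · obtain ⟨i1, h1⟩ := uf_mul_a h i
    obtain ⟨i2, h2⟩ := uf_mul_b h i1
    refine ⟨i2, ?_⟩
    simp only [uf] at h1 h2 ⊢
    show _ * (a * b) = _
    rw [← mul_assoc, h1, h2]
  · obtain ⟨i1, h1⟩ := uf_mul_b h i
    obtain ⟨i2, h2⟩ := uf_mul_a h i1
    refine ⟨i2, ?_⟩
    simp only [uf] at h1 h2 ⊢
    show _ * (b * a) = _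
    rw [← mul_assoc, h1, h2]
  · obtain ⟨i1, h1⟩ := uf_mul_a h i
    obtain ⟨i2, h2⟩ := uf_mul_b h i1
    obtain ⟨i3, h3⟩ := uf_mul_a h i2
    refine ⟨i3, ?_⟩
    simp only [uf] at h1 h2 h3 ⊢
    show _ * (a * b * a) = _
    rw [← mul_assoc, ← mul_assoc, h1, h2, h3]

lemma nf_mul (h : Rel a b c) (s : Γ)
    (hs : ∀ j, ∃ (i' : Fin 6) (j' : Fin 4), vf a b c j * s = uf a b i' * vf a b c j')
    (i : Fin 6) (j : Fin 4) :
    ∃ (i' : Fin 6) (j' : Fin 4), uf a b i * vf a b c j * s = uf a b i' * vf a b c j' := by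
  obtain ⟨i1, j1, h1⟩ := hs j
  obtain ⟨i2, h2⟩ := uf_mul_uf h i i1
  exact ⟨i2, j1, by rw [mul_assoc, h1, ← mul_assoc, h2]⟩

lemma nf (h : Rel a b c) (x : Γ) (hx : x ∈ Subgroup.closure ({a, b, c} : Set Γ)) :
    ∃ (i : Fin 6) (j : Fin 4), x = uf a b i * vf a b c j := by
  have key : ∀ y ∈ ({a, b, c} : Set Γ), ∀ i j,
      ∃ (i' : Fin 6) (j' : Fin 4), uf a b i * vf a b c j * y = uf a b i' * vf a b c j' := by
    intro y hy i j
    rcases hy with rfl | rfl | rfl
    · exact nf_mul h _ (vf_mul_a h) i j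
    · exact nf_mul h _ (vf_mul_b h) i j
    · exact nf_mul h _ (vf_mul_c h) i j
  have hinv : ∀ y ∈ ({a, b, c} : Set Γ), y⁻¹ = y := by
    intro y hy
    rcases hy with rfl | rfl | rfl
    · exact inv_eq_of_mul_eq_one_left h.aa
    · exact inv_eq_of_mul_eq_one_left h.bb
    · exact inv_eq_of_mul_eq_one_left h.cc
  induction hx using Subgroup.closure_induction_right with
  | one => exact ⟨0, 0, by simp [uf, vf]⟩
  | mul_right x hx y hy ih =>
    obtain ⟨i, j, rfl⟩ := ih
    obtain ⟨i', j', e⟩ := key y hy i j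
    exact ⟨i', j', e⟩
  | mul_inv_cancel x hx y hy ih =>
    obtain ⟨i, j, rfl⟩ := ih
    rw [hinv y hy]
    obtain ⟨i', j', e⟩ := key y hy i j
    exact ⟨i', j', e⟩

end NormalForm


section Presentation

/-- relators of the Coxeter presentation of type A₃ -/
def rels : Set (FreeGroup (Fin 3)) :=
  {FreeGroup.of 0 * FreeGroup.of 0, FreeGroup.of 1 * FreeGroup.of 1, FreeGroup.of 2 * FreeGroup.of 2,
   (FreeGroup.of 0 * FreeGroup.of 1 * FreeGroup.of 0) * (FreeGroup.of 1 * FreeGroup.of 0 * FreeGroup.of 1)⁻¹,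
   (FreeGroup.of 1 * FreeGroup.of 2 * FreeGroup.of 1) * (FreeGroup.of 2 * FreeGroup.of 1 * FreeGroup.of 2)⁻¹,
   (FreeGroup.of 0 * FreeGroup.of 2) * (FreeGroup.of 2 * FreeGroup.of 0)⁻¹}

abbrev W : Type := PresentedGroup rels

def sg (i : Fin 3) : W := PresentedGroup.of i

lemma relW : Rel (sg 0) (sg 1) (sg 2) where
  aa := PresentedGroup.one_of_mem (rels := rels) (by simp [rels])
  bb := PresentedGroup.one_of_mem (rels := rels) (by simp [rels])
  cc := PresentedGroup.one_of_mem (rels := rels) (by simp [rels])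
  aba := PresentedGroup.mk_eq_mk_of_mul_inv_mem (rels := rels) (by simp [rels])
  bcb := PresentedGroup.mk_eq_mk_of_mul_inv_mem (rels := rels) (by simp [rels])
  ac := PresentedGroup.mk_eq_mk_of_mul_inv_mem (rels := rels) (by simp [rels])

lemma lift_rels {Γ : Type*} [Group Γ] {a b c : Γ} (h : Rel a b c) :
    ∀ r ∈ rels, FreeGroup.lift (![a, b, c] : Fin 3 → Γ) r = 1 := by
  intro r hr
  simp only [rels, Set.mem_insert_iff, Set.mem_singleton_iff] at hr
  rcases hr with rfl | rfl | rfl | rfl | rfl | rfl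
  · simpa using h.aa
  · simpa using h.bb
  · simpa using h.cc
  · simp only [map_mul, map_inv, FreeGroup.lift_apply_of]
    rw [mul_inv_eq_one]; simpa using h.aba
  · simp only [map_mul, map_inv, FreeGroup.lift_apply_of]
    rw [mul_inv_eq_one]; simpa using h.bcb
  · simp only [map_mul, map_inv, FreeGroup.lift_apply_of]
    rw [mul_inv_eq_one]; simpa using h.ac

lemma relPerm : Rel (swap (0 : Fin 4) 1) (swap (1 : Fin 4) 2) (swap (2 : Fin 4) 3) where
  aa := by decide
  bb := by decide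
  cc := by decide
  aba := by decide
  bcb := by decide
  ac := by decide

/-- the canonical map to the symmetric group -/
def piHom : W →* Perm (Fin 4) := PresentedGroup.toGroup (lift_rels relPerm)

lemma piHom_sg (i : Fin 3) :
    piHom (sg i) = (![swap (0 : Fin 4) 1, swap (1 : Fin 4) 2, swap (2 : Fin 4) 3] : Fin 3 → Perm (Fin 4)) i :=
  PresentedGroup.toGroup.of _

/-- the normal-form map -/
def Tmap {Γ : Type*} [Group Γ] (a b c : Γ) (x : Fin 6 × Fin 4) : Γ := uf a b x.1 * vf a b c x.2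

lemma map_Tmap {Γ Γ' : Type*} [Group Γ] [Group Γ'] (f : Γ →* Γ') (a b c : Γ) (x : Fin 6 × Fin 4) :
    f (Tmap a b c x) = Tmap (f a) (f b) (f c) x := by
  obtain ⟨i, j⟩ := x
  simp only [Tmap, map_mul]
  congr 1
  · fin_cases i <;> simp [uf]
  · fin_cases j <;> simp [vf]

lemma Tmap_surj : Function.Surjective (Tmap (sg 0) (sg 1) (sg 2)) := by
  intro w
  have hw : w ∈ Subgroup.closure ({sg 0, sg 1, sg 2} : Set W) := by
    have h := PresentedGroup.closure_range_of rels
    have hr : Set.range (PresentedGroup.of : Fin 3 → PresentedGroup rels) = {sg 0, sg 1, sg 2} := by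
      ext y
      constructor
      · rintro ⟨i, rfl⟩
        fin_cases i <;> simp [sg]
      · rintro (rfl | rfl | rfl) <;> exact ⟨_, rfl⟩
    rw [hr] at h
    rw [h]; trivial
  obtain ⟨i, j, e⟩ := nf relW w hw
  exact ⟨(i, j), e.symm⟩

set_option maxRecDepth 100000 in
lemma Tmap_perm_inj :
    Function.Injective (Tmap (swap (0 : Fin 4) 1) (swap (1 : Fin 4) 2) (swap (2 : Fin 4) 3)) := by
  decide

lemma piHom_inj : Function.Injective piHom := by
  intro w w' h
  obtain ⟨x, rfl⟩ := Tmap_surj w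
  obtain ⟨x', rfl⟩ := Tmap_surj w'
  rw [map_Tmap, map_Tmap] at h
  simp only [piHom_sg] at h
  have := Tmap_perm_inj h
  rw [this]

lemma piHom_surj : Function.Surjective piHom := by
  have hinj : Function.Injective (Tmap (swap (0 : Fin 4) 1) (swap (1 : Fin 4) 2) (swap (2 : Fin 4) 3)) :=
    Tmap_perm_inj
  have hcard : Fintype.card (Fin 6 × Fin 4) = Fintype.card (Perm (Fin 4)) := by
    simp [Fintype.card_perm]
    rfl
  have hbij := (Fintype.bijective_iff_injective_and_card _).mpr ⟨hinj, hcard⟩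
  intro σ
  obtain ⟨x, rfl⟩ := hbij.2 σ
  refine ⟨Tmap (sg 0) (sg 1) (sg 2) x, ?_⟩
  rw [map_Tmap]
  simp only [piHom_sg]
  rfl

noncomputable def piEquiv : W ≃* Perm (Fin 4) :=
  MulEquiv.ofBijective piHom ⟨piHom_inj, piHom_surj⟩

end Presentation


set_option maxRecDepth 100000 in
lemma perm_normal_gen : ∀ σ : Perm (Fin 4), σ = 1 ∨ ∃ τ ρ : Perm (Fin 4),
    ρ * (τ * σ * τ⁻¹ * σ⁻¹) * ρ⁻¹ = swap 0 1 * swap 2 3 := by
  decide

lemma sq_of_order_two {G : Type*} [Group G] {x : G} (hx : orderOf x = 2) : x * x = 1 := by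
  have h2 : x ^ 2 = 1 := by rw [← hx]; exact pow_orderOf_eq_one x
  simpa [pow_two] using h2

lemma braid_of {G : Type*} [Group G] {a b : G} (ha : a * a = 1) (hb : b * b = 1)
    (h : (a * b) ^ 2 = 1 ∨ (a * b) ^ 3 = 1) (hnc : ¬ Commute a b) : a * b * a = b * a * b := by
  rcases h with h | h
  · exfalso
    apply hnc
    show a * b = b * a
    have h1 : a * b * (a * b) = 1 := by simpa [pow_two] using h
    have h2 : a * b * (b * a) = 1 := by
      calc a * b * (b * a) = a * (b * b) * a := by simp only [mul_assoc]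
        _ = 1 := by rw [hb, mul_one, ha]
    exact mul_left_cancel (h1.trans h2.symm)
  · have h1 : a * b * a * (b * a * b) = 1 := by
      have : (a * b) ^ 3 = a * b * a * (b * a * b) := by
        simp only [pow_succ, pow_zero, one_mul, mul_assoc]
      rw [← this]; exact h
    have h2 : b * a * b * (b * a * b) = 1 := by
      calc b * a * b * (b * a * b) = b * a * (b * b) * a * b := by simp only [mul_assoc]
        _ = b * (a * a) * b := by rw [hb, mul_one]; simp only [mul_assoc]
        _ = 1 := by rw [ha, mul_one, hb]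
    exact mul_right_cancel (h1.trans h2.symm)

/-- In a set of 3-transpositions, let a, b, c be members with a and c different and commuting, while neither a nor c commutes with b (a 3-string). Then there is an injective homomorphism from the symmetric group of degree 4 into the ambient group sending the transpositions (0 1), (1 2), (2 3) to a, b, c; so a, b, c generate a copy of the symmetric group of degree 4 in which they are transpositions. -/
theorem result {G : Type*} [Group G] {D : Set G} (hD : Cfsg.IsThreeTranspositionSet D) {a b c : G} (ha : a ∈ D) (hb : b ∈ D) (hc : c ∈ D) (hac : a ≠ c) (hac' : Commute a c) (hab : ¬ Commute a b) (hbc : ¬ Commute b c) : ∃ φ : Equiv.Perm (Fin 4) →* G, Function.Injective φ ∧ φ (Equiv.swap 0 1) = a ∧ φ (Equiv.swap 1 2) = b ∧ φ (Equiv.swap 2 3) = c := by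
  obtain ⟨hord, hprod⟩ := hD
  have haa := sq_of_order_two (hord a ha)
  have hbb := sq_of_order_two (hord b hb)
  have hcc := sq_of_order_two (hord c hc)
  have hR : Rel a b c :=
    { aa := haa, bb := hbb, cc := hcc
      aba := braid_of haa hbb (hprod a ha b hb) hab
      bcb := braid_of hbb hcc (hprod b hb c hc) hbc
      ac := hac' }
  let ψ : W →* G := PresentedGroup.toGroup (lift_rels hR)
  have hψ : ∀ i : Fin 3, ψ (sg i) = (![a, b, c] : Fin 3 → G) i := fun i => PresentedGroup.toGroup.of _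
  let φ : Perm (Fin 4) →* G := ψ.comp piEquiv.symm.toMonoidHom
  have hsymm : ∀ i : Fin 3, piEquiv.symm
      ((![swap (0 : Fin 4) 1, swap (1 : Fin 4) 2, swap (2 : Fin 4) 3] : Fin 3 → Perm (Fin 4)) i) = sg i := by
    intro i
    rw [MulEquiv.symm_apply_eq]
    exact (piHom_sg i).symm
  have h0 : φ (swap 0 1) = a := by
    have := hsymm 0
    simp only [Matrix.cons_val_zero] at this
    show ψ (piEquiv.symm (swap 0 1)) = a
    rw [this, hψ]; rfl
  have h1 : φ (swap 1 2) = b := by
    have := hsymm 1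
    simp only [Matrix.cons_val_one, Matrix.cons_val_zero] at this
    show ψ (piEquiv.symm (swap 1 2)) = b
    rw [this, hψ]; rfl
  have h2 : φ (swap 2 3) = c := by
    have := hsymm 2
    simp only [Matrix.cons_val_two, Matrix.tail_cons, Matrix.head_cons] at this
    show ψ (piEquiv.symm (swap 2 3)) = c
    rw [this, hψ]; rfl
  refine ⟨φ, ?_, h0, h1, h2⟩
  rw [injective_iff_map_eq_one]
  intro σ hσ
  rcases perm_normal_gen σ with h | ⟨τ, ρ, h⟩
  · exact h
  · exfalso
    have : φ (swap 0 1 * swap 2 3) = 1 := by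
      rw [← h]
      simp only [map_mul, map_inv, hσ, mul_one, inv_one, mul_inv_cancel]
    rw [map_mul, h0, h2] at this
    apply hac
    have hcinv : c⁻¹ = c := inv_eq_of_mul_eq_one_left hcc
    rw [← hcinv]
    exact eq_inv_of_mul_eq_one_left this

end Cfsg.Agent.S5344
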