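import Mathlib
import Cfsg.Statements.S5016
import Cfsg.Agent.Lib.Helper25.SL2RankOne

set_option autoImplicit false
open Cfsg

namespace Cfsg.Agent.S5016

open Cfsg.Agent.Helper25 Cfsg.Agent.Helper25.SL2 Matrix

theorem comm_lower (k : Type*) [Field k] : IsMulCommutative (lowerUnipotentSL2 k) := by
  refine ⟨⟨?_⟩⟩
  rintro ⟨a, ha⟩ ⟨b, hb⟩
  obtain ⟨t, rfl⟩ := mem_lower_iff.mp ha
  obtain ⟨u, rfl⟩ := mem_lower_iff.mp hb
  apply Subtype.ext
  change L t * L u = L u * L t
  rw [SL2.L_mul, SL2.L_mul, add_comm]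

theorem comm_upper (k : Type*) [Field k] : IsMulCommutative (upperUnipotentSL2 k) := by
  refine ⟨⟨?_⟩⟩
  rintro ⟨a, ha⟩ ⟨b, hb⟩
  obtain ⟨t, rfl⟩ := mem_upper_iff.mp ha
  obtain ⟨u, rfl⟩ := mem_upper_iff.mp hb
  apply Subtype.ext
  change U t * U u = U u * U t
  rw [U_mul, U_mul, add_comm]

theorem nilpotent_of_comm {G : Type*} [Group G] (H : Subgroup G) (h : IsMulCommutative H) :
    Group.IsNilpotent H :=
  @CommGroup.isNilpotent H { (inferInstance : Group H) with mul_comm := h.is_comm.comm }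

theorem pair (k : Type*) [Field k] :
    IsRankOnePair (lowerUnipotentSL2 k) (upperUnipotentSL2 k) where
  ne := by
    intro h
    have h1 : L (1 : k) ∈ upperUnipotentSL2 k := h ▸ L_mem 1
    obtain ⟨s, hs⟩ := mem_upper_iff.mp h1
    have := congrArg (fun M : SpecialLinearGroup (Fin 2) k => (M : Matrix (Fin 2) (Fin 2) k) 1 0) hs
    simp [L_val, U_val] at this
  nilpotent_left := nilpotent_of_comm _ (comm_lower k)
  nilpotent_right := nilpotent_of_comm _ (comm_upper k)
  cond_left := by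
    intro a ha ha1
    obtain ⟨t, rfl⟩ := mem_lower_iff.mp ha
    have ht : t ≠ 0 := fun h => ha1 ((L_eq_one_iff t).mpr h)
    refine ⟨U t⁻¹, U_mem _, ?_, conjBy_eq t⁻¹ t (inv_mul_cancel₀ ht)⟩
    rw [Ne, U_eq_one_iff]
    exact inv_ne_zero ht
  cond_right := by
    intro b hb hb1
    obtain ⟨s, rfl⟩ := mem_upper_iff.mp hb
    have hs : s ≠ 0 := fun h => hb1 ((U_eq_one_iff s).mpr h)
    refine ⟨L s⁻¹, L_mem _, ?_, (conjBy_eq s s⁻¹ (mul_inv_cancel₀ hs)).symm⟩
    rw [Ne, L_eq_one_iff]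
    exact inv_ne_zero hs

/-- For any field k, the special linear group SL₂(k) is a special rank one group with abelian unipotent subgroups, the unipotent subgroups being the group of lower unitriangular matrices and the group of upper unitriangular matrices. -/
theorem result (k : Type*) [Field k] :
    Cfsg.IsRankOneGroup (Matrix.SpecialLinearGroup (Fin 2) k) (Cfsg.lowerUnipotentSL2 k) (Cfsg.upperUnipotentSL2 k) ∧
    Cfsg.IsSpecialRankOnePair (Cfsg.lowerUnipotentSL2 k) (Cfsg.upperUnipotentSL2 k) ∧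
    Cfsg.HasAbelianUnipotents (Cfsg.lowerUnipotentSL2 k) (Cfsg.upperUnipotentSL2 k) := by
  refine ⟨⟨sup_eq_top, pair k⟩, ⟨pair k, ?_⟩, ⟨comm_lower k, comm_upper k⟩⟩
  intro a ha ha1 b hb hb1 heq
  obtain ⟨t, rfl⟩ := mem_lower_iff.mp ha
  obtain ⟨s, rfl⟩ := mem_upper_iff.mp hb
  have ht : t ≠ 0 := fun h => ha1 ((L_eq_one_iff t).mpr h)
  have hs : s ≠ 0 := fun h => hb1 ((U_eq_one_iff s).mpr h)
  -- extract `s t = 1`
  have hmem : (U s)⁻¹ * L 1 * U s ∈ conjBy (upperUnipotentSL2 k) (L t)⁻¹ := by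
    rw [← heq, mem_conjBy_inv]
    exact ⟨L 1, L_mem 1, rfl⟩
  rw [mem_conjBy_inv] at hmem
  obtain ⟨c, hc, hceq⟩ := hmem
  obtain ⟨v, rfl⟩ := mem_upper_iff.mp hc
  rw [U_inv, L_inv] at hceq
  have hval := congrArg (fun M : SpecialLinearGroup (Fin 2) k => (M : Matrix (Fin 2) (Fin 2) k)) hceq
  simp only [ULU_val, LUL_val] at hval
  have h01 := congrFun (congrFun hval 0) 1
  have h00 := congrFun (congrFun hval 0) 0
  simp at h01 h00
  have hst : s * t = 1 := by
    have h1 : s * (s * t - 1) = 0 := by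
      rw [← h01] at h00
      linear_combination h00
    rcases mul_eq_zero.mp h1 with h | h
    · exact absurd h hs
    · linear_combination h
  rw [U_inv, L_inv]
  apply Subtype.ext
  rw [ULU_val, LUL_val]
  ext i j
  fin_cases i <;> fin_cases j <;> simp
  · ring
  · linear_combination (-s) * hst
  · right
    linear_combination (-1 : k) * hst
  · ring

end Cfsg.Agent.S5016
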