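import Mathlib
import Cfsg.Statements.S5025
import Cfsg.Agent.Lib.Helper25.RankOne2

set_option autoImplicit false
open Cfsg

namespace Cfsg.Agent.S5025

open Cfsg.Agent.Helper25 in
/-- Let S be a set of abstract root subgroups of G, A ∈ S and B a rank one partner of A in S. If z ≠ 1 centralizes ⟨A, B⟩, then no product z a with a a non-identity element of A is a non-identity element of a member of S. -/
theorem result {G : Type*} [Group G] {S : Set (Subgroup G)} (hS : Cfsg.IsRootSubgroupSet S)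
    {A B : Subgroup G} (hA : A ∈ S) (hB : B ∈ Cfsg.rankOnePartners S A) {z : G}
    (hz : z ∈ Subgroup.centralizer ((A ⊔ B : Subgroup G) : Set G)) (hz1 : z ≠ 1) :
    ∀ a ∈ A, a ≠ 1 → z * a ∉ Cfsg.rootElements S := by
  intro a ha ha1 hmem
  obtain ⟨hBS, hp⟩ := hB
  obtain ⟨_, C, hC, hzaC⟩ := hmem
  rw [Subgroup.mem_centralizer_iff] at hz
  have hzX : ∀ x ∈ A ⊔ B, z * x = x * z := fun x hx => (hz x hx).symm
  have hza : z * a = a * z := hzX a (le_sup_left (a := A) ha)
  have hzB : ∀ b ∈ B, z * b = b * z := fun b hb => hzX b (le_sup_right (a := A) hb)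
  obtain ⟨b, hb, hCb⟩ := RankOne.exists_eq_conjBy_of_mul_mem hS hBS hC hp ha ha1 hza hzB hzaC
  have hCΩ : C ∈ Cfsg.unipotentSubgroups A B := ⟨b, le_sup_right (a := A) hb, hCb⟩
  have hzC : Cfsg.conjBy C z = C :=
    RankOne.conjBy_eq_of_commute (fun c hc => hzX c (RankOne.le_sup_of_mem hCΩ hc))
  have hzC' : Cfsg.conjBy C z⁻¹ = C := by
    have := (conjBy_eq_iff (A := C) (B := C) (g := z)).1 hzC
    exact this.symm
  have haC : Cfsg.conjBy C a = C := by
    have e : a = z⁻¹ * (z * a) := by group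
    rw [e, ← conjBy_conjBy, conjBy_of_mem hzaC, hzC']
  by_cases hCA : C = A
  · -- z ∈ A centralizes B
    apply hz1
    have hzA : z ∈ A := by
      have : z = (z * a) * a⁻¹ := by group
      rw [this]
      exact A.mul_mem (hCA ▸ hzaC) (A.inv_mem ha)
    exact RankOne.eq_one_of_normalizes hp hzA (RankOne.conjBy_eq_of_commute hzB)
  · exact ha1 (RankOne.eq_one_of_normalizes' hp (RankOne.left_mem A B) hCΩ (Ne.symm hCA) ha haC)

end Cfsg.Agent.S5025
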