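import Mathlib
import Cfsg.Statements.S5028
import Cfsg.Agent.Lib.Helper25.RankOne2

set_option autoImplicit false
open Cfsg

namespace Cfsg.Agent.S5028

open Cfsg.Agent.Helper25

theorem exists_partner_of_not_isolated {G : Type*} [Group G] {S : Set (Subgroup G)} {A : Subgroup G}
    (hA : ¬ Cfsg.IsIsolatedIn (Cfsg.FAdj S) S A) (hAS : A ∈ S) :
    ∃ B ∈ S, Cfsg.IsRankOnePair A B := by
  unfold Cfsg.IsIsolatedIn at hA
  push Not at hA
  obtain ⟨B, hB⟩ := hA hAS
  by_cases h1 : Cfsg.FAdj S A B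
  · exact ⟨B, h1.2.1, h1.2.2⟩
  · have h2 := hB h1
    exact ⟨B, h2.1, Cfsg.RankOnePair_symm h2.2.2⟩

/-- Let S be a set of abstract root subgroups of G and A a member of S having a rank one partner in S. Then A meets every other member of S trivially. -/
theorem result {G : Type*} [Group G] {S : Set (Subgroup G)} (hS : Cfsg.IsRootSubgroupSet S)
    {A : Subgroup G} (hA : ¬ Cfsg.IsIsolatedIn (Cfsg.FAdj S) S A) (hAS : A ∈ S) : ∀ B ∈ S, A ⊓ B = ⊥ ∨ A = B := by
  intro C hC
  obtain ⟨B, hBS, hp⟩ := exists_partner_of_not_isolated hA hAS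
  by_cases hAC : A = C
  · exact Or.inr hAC
  · left
    rw [Subgroup.eq_bot_iff_forall]
    intro x hx
    by_contra hx1
    obtain ⟨b, hb, hCb⟩ := RankOne.exists_eq_conjBy_of_mul_mem hS hBS hC hp (a := x) (z := 1)
      hx.1 hx1 (by simp) (by simp) (by simpa using hx.2)
    have hCΩ : C ∈ Cfsg.unipotentSubgroups A B := ⟨b, le_sup_right (a := A) hb, hCb⟩
    have := RankOne.inf_eq_bot hp (RankOne.left_mem A B) hCΩ hAC
    rw [Subgroup.eq_bot_iff_forall] at this
    exact hx1 (this x hx)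

end Cfsg.Agent.S5028
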