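import Mathlib
import Cfsg.Statements.S5029
import Cfsg.Agent.Lib.Helper25.RootComm2
import Cfsg.Agent.S5028

set_option autoImplicit false
open Cfsg

namespace Cfsg.Agent.S5029

open Cfsg.Agent.Helper25
open scoped commutatorElement

variable {G : Type*} [Group G] {S : Set (Subgroup G)} {A B D : Subgroup G}

/-- description of the members of `S` inside `A ⊔ ⁅A,B⁆` -/
theorem membersIn_eq (hS : Cfsg.IsRootSubgroupSet S) (hAS : A ∈ S) (hDS : D ∈ S)
    (hAD : Cfsg.IsRankOnePair A D) (hcc : Cfsg.RootCommutatorCase S A B) :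
    Cfsg.membersIn S (A ⊔ ⁅A, B⁆) = (fun b : G => Cfsg.conjBy A b) '' (B : Set G) ∪ {⁅A, B⁆} := by
  have hinf := RootComm.left_inf_comm hS hAS hDS hAD hcc
  ext E
  constructor
  · rintro ⟨hE, hle⟩
    by_cases hex : ∃ e ∈ E, ∃ a ∈ A, a ≠ 1 ∧ ∃ c ∈ ⁅A, B⁆, e = a * c
    · obtain ⟨e, he, a, ha, ha1, c, hc, rfl⟩ := hex
      obtain ⟨b, hb, hmem⟩ := RootComm.exists_mem_conjBy hcc ha ha1 hc
      left
      refine ⟨b, hb, ?_⟩
      rcases RankOne.inf_eq_bot_or_eq hS (hS.conj_mem D hDS b) (RankOne.conj_pair hAD b) hE with h1 | h1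
      · exfalso
        rw [Subgroup.eq_bot_iff_forall] at h1
        have h2 := h1 (a * c) ⟨hmem, he⟩
        -- a = c⁻¹ ∈ A ∩ C
        apply ha1
        rw [Subgroup.eq_bot_iff_forall] at hinf
        apply hinf a
        refine ⟨ha, ?_⟩
        have : a = c⁻¹ := eq_inv_of_mul_eq_one_left h2
        rw [this]; exact Subgroup.inv_mem _ hc
      · exact h1
    · right
      push Not at hex
      rw [Set.mem_singleton_iff]
      apply RootComm.eq_of_le_comm hS hAS hDS hAD hcc hE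
      intro e he
      obtain ⟨a, ha, c, hc, rfl⟩ := RootComm.exists_mul_of_mem_sup_comm hcc (hle he)
      by_cases ha1 : a = 1
      · rw [ha1, one_mul]; exact hc
      · exact absurd rfl (hex _ he a ha ha1 c hc)
  · rintro (⟨b, hb, rfl⟩ | hE)
    · exact ⟨hS.conj_mem A hAS b, RootComm.conjBy_le_sup hcc hb⟩
    · rw [Set.mem_singleton_iff] at hE
      rw [hE]
      exact ⟨hcc.1, le_sup_right⟩

theorem partition (hS : Cfsg.IsRootSubgroupSet S) (hAS : A ∈ S) (hDS : D ∈ S)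
    (hAD : Cfsg.IsRankOnePair A D) (hcc : Cfsg.RootCommutatorCase S A B) :
    Cfsg.IsSubgroupPartition (A ⊔ ⁅A, B⁆) (Cfsg.membersIn S (A ⊔ ⁅A, B⁆)) := by
  refine ⟨fun E hE => hE.2, ?_, ?_⟩
  · intro x hx hx1
    obtain ⟨a, ha, c, hc, rfl⟩ := RootComm.exists_mul_of_mem_sup_comm hcc hx
    by_cases ha1 : a = 1
    · refine ⟨⁅A, B⁆, ⟨hcc.1, le_sup_right⟩, ?_⟩
      rw [ha1, one_mul]; exact hc
    · obtain ⟨b, hb, hmem⟩ := RootComm.exists_mem_conjBy hcc ha ha1 hc
      exact ⟨Cfsg.conjBy A b, ⟨hS.conj_mem A hAS b, RootComm.conjBy_le_sup hcc hb⟩, hmem⟩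
  · intro E hE E' hE' hne
    have hE1 := hE
    have hE1' := hE'
    rw [membersIn_eq hS hAS hDS hAD hcc] at hE1 hE1'
    rcases hE1 with ⟨b, hb, rfl⟩ | hEC
    · rcases RankOne.inf_eq_bot_or_eq hS (hS.conj_mem D hDS b) (RankOne.conj_pair hAD b) hE'.1 with h1 | h1
      · exact h1
      · exact absurd h1 hne
    · rcases hE1' with ⟨b, hb, rfl⟩ | hEC'
      · rcases RankOne.inf_eq_bot_or_eq hS (hS.conj_mem D hDS b) (RankOne.conj_pair hAD b) hE.1 with h1 | h1
        · rw [inf_comm]; exact h1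
        · exact absurd h1.symm hne
      · rw [Set.mem_singleton_iff] at hEC hEC'
        exact absurd (hEC.trans hEC'.symm) hne

/-- Let S be a set of abstract root subgroups of G, A ∈ S having a rank one partner in S, and B ∈ S with C = ⁅A, B⁆ ∈ S. Then the members of S contained in AC are the conjugates of A by elements of B together with C, they partition AC, the members of S inside AC partition AC so that A is a line partner of C, and for every non-identity a ∈ A the map b ↦ a⁻¹ b⁻¹ a b is an isomorphism from B onto C. -/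
theorem result {G : Type*} [Group G] {S : Set (Subgroup G)} (hS : Cfsg.IsRootSubgroupSet S)
    {A B : Subgroup G} (hA : ¬ Cfsg.IsIsolatedIn (Cfsg.FAdj S) S A) (hAS : A ∈ S) (hB : B ∈ S) (hC : ⁅A, B⁆ ∈ S) :
    Cfsg.membersIn S (A ⊔ ⁅A, B⁆) = (fun b : G => Cfsg.conjBy A b) '' (B : Set G) ∪ {⁅A, B⁆} ∧
    Cfsg.IsSubgroupPartition (A ⊔ ⁅A, B⁆) (Cfsg.membersIn S (A ⊔ ⁅A, B⁆)) ∧
    A ∈ Cfsg.linePartners S ⁅A, B⁆ ∧
    ∀ a ∈ A, a ≠ 1 → ∃ φ : ↥B ≃* ↥⁅A, B⁆, ∀ b : ↥B, (φ b : G) = a⁻¹ * (b : G)⁻¹ * a * b := by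
  obtain ⟨D, hDS, hAD⟩ := Cfsg.Agent.S5028.exists_partner_of_not_isolated hA hAS
  have hcc := RootComm.commCase_of_comm_mem hS hAS hB hC
  refine ⟨membersIn_eq hS hAS hDS hAD hcc, partition hS hAS hDS hAD hcc, ?_, ?_⟩
  · refine ⟨⟨hAS, RootComm.left_ne_comm hS hAS hcc, ?_⟩, ?_⟩
    · rw [eq_bot_iff, Subgroup.commutator_le]
      intro c hc a ha
      rw [Subgroup.mem_bot, commutatorElement_eq_one_iff_mul_comm]
      exact RootComm.central hcc hc (le_sup_left (a := A) ha)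
    · rw [sup_comm]
      exact partition hS hAS hDS hAD hcc
  · intro a ha ha1
    have hainv : a⁻¹ ∈ A := A.inv_mem ha
    have hainv1 : a⁻¹ ≠ 1 := by simpa using ha1
    have hval : ∀ b : B, a⁻¹ * (b : G)⁻¹ * a * b = ⁅a⁻¹, ((b : G))⁻¹⁆ := by
      intro b
      rw [commutatorElement_def]; group
    have hmemC : ∀ b : B, a⁻¹ * (b : G)⁻¹ * a * b ∈ ⁅A, B⁆ := by
      intro b
      rw [hval]
      exact Subgroup.commutator_mem_commutator hainv (B.inv_mem b.2)
    let f : B →* ↥(⁅A, B⁆ : Subgroup G) :=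
      { toFun := fun b => ⟨a⁻¹ * (b : G)⁻¹ * a * b, hmemC b⟩
        map_one' := by
          apply Subtype.ext
          simp
        map_mul' := by
          intro b b'
          apply Subtype.ext
          show a⁻¹ * ((b * b' : B) : G)⁻¹ * a * ((b * b' : B) : G) =
            (a⁻¹ * (b : G)⁻¹ * a * b) * (a⁻¹ * (b' : G)⁻¹ * a * b')
          have hx := hmemC b
          have h1 : (a⁻¹ * (b : G)⁻¹ * a * b) * (b' : G) = (b' : G) * (a⁻¹ * (b : G)⁻¹ * a * b) :=
            RootComm.central hcc hx (le_sup_right (a := A) b'.2)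
          have h2 : (a⁻¹ * (b : G)⁻¹ * a * b) * (a⁻¹ * (b' : G)⁻¹ * a * b') =
              (a⁻¹ * (b' : G)⁻¹ * a * b') * (a⁻¹ * (b : G)⁻¹ * a * b) :=
            RootComm.central hcc hx (Subgroup.commutator_le_sup A B (hmemC b'))
          rw [h2, Subgroup.coe_mul]
          calc a⁻¹ * ((b : G) * (b' : G))⁻¹ * a * ((b : G) * (b' : G))
              = a⁻¹ * (b' : G)⁻¹ * a * ((a⁻¹ * (b : G)⁻¹ * a * b) * (b' : G)) := by group
            _ = a⁻¹ * (b' : G)⁻¹ * a * ((b' : G) * (a⁻¹ * (b : G)⁻¹ * a * b)) := by rw [h1]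
            _ = (a⁻¹ * (b' : G)⁻¹ * a * b') * (a⁻¹ * (b : G)⁻¹ * a * b) := by group }
    have hinj : Function.Injective f := by
      rw [injective_iff_map_eq_one]
      intro b hb
      have h1 : a⁻¹ * (b : G)⁻¹ * a * b = 1 := congrArg Subtype.val hb
      have h2 : a * (b : G) = (b : G) * a := by
        calc a * (b : G) = (b : G) * a * (a⁻¹ * (b : G)⁻¹ * a * b) := by group
          _ = (b : G) * a := by rw [h1, mul_one]
      apply Subtype.ext
      exact RootComm.eq_one_of_commute hS hAS hDS hAD hcc ha ha1 b.2 h2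
    have hsurj : Function.Surjective f := by
      rintro ⟨c, hc⟩
      obtain ⟨b₁, hb₁, hE⟩ := RootComm.exists_comm_eq hcc hainv hainv1 hc
      refine ⟨⟨b₁⁻¹, B.inv_mem hb₁⟩, ?_⟩
      apply Subtype.ext
      show a⁻¹ * (b₁⁻¹)⁻¹ * a * b₁⁻¹ = c
      rw [← hE, commutatorElement_def]; group
    exact ⟨MulEquiv.ofBijective f ⟨hinj, hsurj⟩, fun b => rfl⟩

end Cfsg.Agent.S5029
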