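import Mathlib
import Cfsg.Statements.S5031
import Cfsg.Agent.Lib.Helper25.RankOne4

set_option autoImplicit false
open Cfsg

namespace Cfsg.Agent.S5031

open Cfsg.Agent.Helper25
open scoped commutatorElement

variable {G : Type*} [Group G] {S : Set (Subgroup G)}

theorem fadj_symm {X Y : Subgroup G} (h : Cfsg.FAdj S X Y) : Cfsg.FAdj S Y X :=
  ⟨h.2.1, h.1, Cfsg.RankOnePair_symm h.2.2⟩

theorem reach_symm {X Y : Subgroup G} (h : Relation.ReflTransGen (Cfsg.FAdj S) X Y) :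
    Relation.ReflTransGen (Cfsg.FAdj S) Y X := by
  induction h with
  | refl => exact Relation.ReflTransGen.refl
  | tail _ hbc ih => exact Relation.ReflTransGen.head (fadj_symm hbc) ih

/-- Key lemma: `A`, `C` a rank one pair, `B` commuting with `A` but not a rank one partner of `C`,
and `a * b` (`a ∈ A#`, `b ∈ B#`) lying in a member `E` of `S`. Then `(E, C)` is a rank one pair. -/
theorem rankOne_of_mul_mem (hS : Cfsg.IsRootSubgroupSet S) {A B C E : Subgroup G}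
    (hAS : A ∈ S) (hBS : B ∈ S) (hCS : C ∈ S) (hES : E ∈ S)
    (hAC : Cfsg.IsRankOnePair A C) (hcomm : ⁅A, B⁆ = ⊥) (hnot : ¬ Cfsg.IsRankOnePair B C)
    {a b : G} (ha : a ∈ A) (ha1 : a ≠ 1) (hb : b ∈ B) (hb1 : b ≠ 1) (hE : a * b ∈ E) :
    Cfsg.IsRankOnePair E C := by
  have hab : a * b = b * a := RankOne.commute_of_commutator_eq_bot hcomm ha hb
  have hCa : Cfsg.conjBy C a ≠ C := fun h => ha1 (RankOne.eq_one_of_normalizes hAC ha h)
  have hCΩ := RankOne.right_mem hAC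
  have hCaΩ : Cfsg.conjBy C a ∈ Cfsg.unipotentSubgroups A C :=
    RankOne.conjBy_mem hCΩ (le_sup_left (a := A) ha)
  -- (B, C) is in the commutator case
  have hBC : Cfsg.RootCommutatorCase S B C := by
    rcases hS.pair B hBS C hCS with h | h | h
    · exfalso
      -- b centralizes A ⊔ C, so b * a is in no member of S
      have hz : ∀ x ∈ A ⊔ C, b * x = x * b := by
        intro x hx
        refine sup_induction (Q := A) (R := C) (C := fun x => b * x = x * b) ?_ ?_ ?_ hx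
        · intro a' ha'
          exact (RankOne.commute_of_commutator_eq_bot hcomm ha' hb).symm
        · intro c hc
          exact RankOne.commute_of_commutator_eq_bot h hb hc
        · intro x y _ _ hx hy
          rw [← mul_assoc, hx, mul_assoc, hy, mul_assoc]
      apply RankOne.mul_not_mem_of_centralizes hS hAS hCS hAC hz hb1 ha ha1 hES
      rw [← hab]; exact hE
    · exact absurd h hnot
    · exact h
  have hCB := RootComm.symm hBC
  rcases hS.pair E hES C hCS with h | h | h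
  · -- commuting case
    exfalso
    apply RankOne.ne_bot_right hAC
    refine RankOne.eq_bot_of_commutators_commute hAC hCΩ (g := a) hCaΩ hCa ?_
    intro c hc c' hc'
    -- a c a⁻¹ = b⁻¹ c b since a*b centralizes C
    have h1 : (a * b) * c = c * (a * b) := RankOne.commute_of_commutator_eq_bot h hE hc
    have h2 : a * c * a⁻¹ * c⁻¹ = ⁅b⁻¹, c⁆ := by
      rw [commutatorElement_def]
      have : a * c * a⁻¹ = b⁻¹ * c * b := by
        calc a * c * a⁻¹ = b⁻¹ * ((b * a) * c) * a⁻¹ := by group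
          _ = b⁻¹ * ((a * b) * c) * a⁻¹ := by rw [hab]
          _ = b⁻¹ * (c * (a * b)) * a⁻¹ := by rw [h1]
          _ = b⁻¹ * (c * (b * a)) * a⁻¹ := by rw [hab]
          _ = b⁻¹ * c * b := by group
      rw [this]; group
    rw [h2]
    exact RootComm.central hBC (Subgroup.commutator_mem_commutator (B.inv_mem hb) hc)
      (le_sup_right (a := B) hc')
  · exact h
  · -- commutator case
    exfalso
    have hCE := RootComm.symm h
    obtain ⟨c, hc, hc1⟩ := RankOne.exists_ne_one_right hAC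
    have hfE : ⁅c, a * b⁆ ∈ ⁅C, E⁆ := Subgroup.commutator_mem_commutator hc hE
    have hf : ⁅c, b⁆ ∈ ⁅C, B⁆ := Subgroup.commutator_mem_commutator hc hb
    -- y = f_E⁻¹ c = a (f⁻¹ c) a⁻¹
    have hy : (⁅c, a * b⁆)⁻¹ * c = a * ((⁅c, b⁆)⁻¹ * c) * a⁻¹ := by
      rw [commutatorElement_mul_right_eq_mul_conj]
      simp only [commutatorElement_def]
      group
    -- y commutes with C
    have hyC : ∀ x ∈ C, ((⁅c, a * b⁆)⁻¹ * c) * x = x * ((⁅c, a * b⁆)⁻¹ * c) := by
      intro x hx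
      have h1 : (⁅c, a * b⁆)⁻¹ * x = x * (⁅c, a * b⁆)⁻¹ :=
        RootComm.central hCE (Subgroup.inv_mem _ hfE) (le_sup_left (a := C) hx)
      have h2 : c * x = x * c := (isMulCommutative_iff.1 (hS.commutative C hCS) ⟨c, hc⟩ ⟨x, hx⟩ ▸ rfl :
        (⟨c, hc⟩ * ⟨x, hx⟩ : C).1 = (⟨x, hx⟩ * ⟨c, hc⟩ : C).1)
      rw [mul_assoc, h2, ← mul_assoc, h1, mul_assoc]
    -- y commutes with conjBy C a
    have hyCa : ∀ x ∈ Cfsg.conjBy C a, ((⁅c, a * b⁆)⁻¹ * c) * x = x * ((⁅c, a * b⁆)⁻¹ * c) := by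
      intro x hx
      rw [mem_conjBy] at hx
      have h1 : (⁅c, b⁆)⁻¹ * (a⁻¹ * x * a) = (a⁻¹ * x * a) * (⁅c, b⁆)⁻¹ :=
        RootComm.central hCB (Subgroup.inv_mem _ hf) (le_sup_left (a := C) hx)
      have h2 : c * (a⁻¹ * x * a) = (a⁻¹ * x * a) * c :=
        (isMulCommutative_iff.1 (hS.commutative C hCS) ⟨c, hc⟩ ⟨_, hx⟩ ▸ rfl :
        (⟨c, hc⟩ * ⟨_, hx⟩ : C).1 = (⟨_, hx⟩ * ⟨c, hc⟩ : C).1)
      rw [hy]
      calc a * ((⁅c, b⁆)⁻¹ * c) * a⁻¹ * x = a * ((⁅c, b⁆)⁻¹ * (c * (a⁻¹ * x * a))) * a⁻¹ := by group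
        _ = a * ((⁅c, b⁆)⁻¹ * ((a⁻¹ * x * a) * c)) * a⁻¹ := by rw [h2]
        _ = a * (((⁅c, b⁆)⁻¹ * (a⁻¹ * x * a)) * c) * a⁻¹ := by group
        _ = a * (((a⁻¹ * x * a) * (⁅c, b⁆)⁻¹) * c) * a⁻¹ := by rw [h1]
        _ = x * (a * ((⁅c, b⁆)⁻¹ * c) * a⁻¹) := by group
    have hsup : C ⊔ Cfsg.conjBy C a = A ⊔ C := RankOne.sup_eq_of_mem hAC hCΩ hCaΩ (Ne.symm hCa)
    have hz : ∀ x ∈ C ⊔ A, ((⁅c, a * b⁆)⁻¹ * c) * x = x * ((⁅c, a * b⁆)⁻¹ * c) := by
      intro x hx
      rw [sup_comm, ← hsup] at hx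
      refine sup_induction (Q := C) (R := Cfsg.conjBy C a)
        (C := fun x => ((⁅c, a * b⁆)⁻¹ * c) * x = x * ((⁅c, a * b⁆)⁻¹ * c)) hyC hyCa ?_ hx
      intro x y _ _ hx hy
      rw [← mul_assoc, hx, mul_assoc, hy, mul_assoc]
    have hy1 : (⁅c, a * b⁆)⁻¹ * c ≠ 1 := by
      intro h1
      apply hc1
      have hinf := RootComm.left_inf_comm hS hCS hAS (Cfsg.RankOnePair_symm hAC) hCE
      rw [Subgroup.eq_bot_iff_forall] at hinf
      apply hinf c
      refine ⟨hc, ?_⟩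
      have : c = ⁅c, a * b⁆ := by
        calc c = ⁅c, a * b⁆ * ((⁅c, a * b⁆)⁻¹ * c) := by group
          _ = ⁅c, a * b⁆ := by rw [h1, mul_one]
      rw [this]; exact hfE
    have hcinv1 : c⁻¹ ≠ 1 := by simpa using hc1
    apply RankOne.mul_not_mem_of_centralizes hS hCS hAS (Cfsg.RankOnePair_symm hAC) hz hy1
      (C.inv_mem hc) hcinv1 hCE.1
    have : (⁅c, a * b⁆)⁻¹ * c * c⁻¹ = (⁅c, a * b⁆)⁻¹ := by group
    rw [this]
    exact Subgroup.inv_mem _ hfE

/-- Line partners with rank one partners lie in the same connected component. -/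
theorem reach_of_linePartner (hS : Cfsg.IsRootSubgroupSet S) {A B C C' : Subgroup G}
    (hAS : A ∈ S) (hCS : C ∈ S) (hC'S : C' ∈ S)
    (hAC : Cfsg.IsRankOnePair A C) (hBC' : Cfsg.IsRankOnePair B C')
    (hB : B ∈ Cfsg.linePartners S A) : Relation.ReflTransGen (Cfsg.FAdj S) A B := by
  obtain ⟨⟨hBS, hBA, hcomm⟩, hpart⟩ := hB
  by_cases h1 : Cfsg.IsRankOnePair B C
  · exact Relation.ReflTransGen.head ⟨hAS, hCS, hAC⟩
      (Relation.ReflTransGen.single ⟨hCS, hBS, Cfsg.RankOnePair_symm h1⟩)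
  by_cases h2 : Cfsg.IsRankOnePair A C'
  · exact Relation.ReflTransGen.head ⟨hAS, hC'S, h2⟩
      (Relation.ReflTransGen.single ⟨hC'S, hBS, Cfsg.RankOnePair_symm hBC'⟩)
  obtain ⟨a, ha, ha1⟩ := RankOne.exists_ne_one_left hAC
  obtain ⟨b, hb, hb1⟩ := RankOne.exists_ne_one_left hBC'
  have hab : a * b = b * a := RankOne.commute_of_commutator_eq_bot hcomm ha hb
  have hab1 : a * b ≠ 1 := by
    intro h
    rcases RankOne.inf_eq_bot_or_eq hS hCS hAC hBS with h3 | h3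
    · rw [Subgroup.eq_bot_iff_forall] at h3
      apply ha1
      apply h3 a
      refine ⟨ha, ?_⟩
      have : a = b⁻¹ := eq_inv_of_mul_eq_one_left h
      rw [this]; exact B.inv_mem hb
    · exact hBA h3.symm
  obtain ⟨E, ⟨hES, _⟩, habE⟩ := hpart.2.1 (a * b)
    (Subgroup.mul_mem _ (le_sup_left (a := A) ha) (le_sup_right (a := A) hb)) hab1
  have hEC := rankOne_of_mul_mem hS hAS hBS hCS hES hAC hcomm h1 ha ha1 hb hb1 habE
  have hcomm' : ⁅B, A⁆ = ⊥ := by rw [Subgroup.commutator_comm]; exact hcomm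
  have hEC' := rankOne_of_mul_mem hS hBS hAS hC'S hES hBC' hcomm' h2 hb hb1 ha ha1 (hab ▸ habE)
  exact Relation.ReflTransGen.head ⟨hAS, hCS, hAC⟩
    (Relation.ReflTransGen.head ⟨hCS, hES, Cfsg.RankOnePair_symm hEC⟩
      (Relation.ReflTransGen.head ⟨hES, hC'S, hEC'⟩
        (Relation.ReflTransGen.single ⟨hC'S, hBS, Cfsg.RankOnePair_symm hBC'⟩)))

theorem exists_partner_of_component {A : Subgroup G}
    (hA2 : ∃ A' ∈ Cfsg.componentOf (Cfsg.FAdj S) S A, A' ≠ A) :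
    ∃ C ∈ S, Cfsg.IsRankOnePair A C := by
  obtain ⟨A', ⟨_, hreach⟩, hne⟩ := hA2
  rcases Relation.ReflTransGen.cases_head hreach with h | ⟨C, hC, _⟩
  · exact absurd h.symm hne
  · exact ⟨C, hC.2.1, hC.2.2⟩

theorem component_eq_of_reach {A B : Subgroup G}
    (h : Relation.ReflTransGen (Cfsg.FAdj S) A B) :
    Cfsg.componentOf (Cfsg.FAdj S) S A = Cfsg.componentOf (Cfsg.FAdj S) S B := by
  ext X
  constructor
  · rintro ⟨hX, hAX⟩
    exact ⟨hX, (reach_symm h).trans hAX⟩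
  · rintro ⟨hX, hBX⟩
    exact ⟨hX, h.trans hBX⟩

/-- Let S be a set of abstract root subgroups of G and let A, B ∈ S lie in different connected components of the graph of rank one pairs on S, each component having more than one member. Then B is not a line partner of A. -/
theorem result {G : Type*} [Group G] {S : Set (Subgroup G)} (hS : Cfsg.IsRootSubgroupSet S)
    {A B : Subgroup G} (hA : A ∈ S) (hB : B ∈ S)
    (hne : Cfsg.componentOf (Cfsg.FAdj S) S A ≠ Cfsg.componentOf (Cfsg.FAdj S) S B)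
    (hA2 : ∃ A' ∈ Cfsg.componentOf (Cfsg.FAdj S) S A, A' ≠ A) (hB2 : ∃ B' ∈ Cfsg.componentOf (Cfsg.FAdj S) S B, B' ≠ B) :
    B ∉ Cfsg.linePartners S A := by
  intro hBL
  obtain ⟨C, hCS, hAC⟩ := exists_partner_of_component hA2
  obtain ⟨C', hC'S, hBC'⟩ := exists_partner_of_component hB2
  exact hne (component_eq_of_reach (reach_of_linePartner hS hA hCS hC'S hAC hBC' hBL))

end Cfsg.Agent.S5031
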