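import Mathlib
import Cfsg.Statements.S5032
import Cfsg.Agent.Lib.Helper25.RankOne4
import Cfsg.Agent.S5028
import Cfsg.Agent.S5029
import Cfsg.Agent.S5031

set_option autoImplicit false
open Cfsg

namespace Cfsg.Agent.S5032

open Cfsg.Agent.Helper25
open scoped commutatorElement

variable {G : Type*} [Group G] {S : Set (Subgroup G)}

theorem not_isolated_of_partner {A D : Subgroup G} (hAS : A ∈ S) (hDS : D ∈ S)
    (hp : Cfsg.IsRankOnePair A D) : ¬ Cfsg.IsIsolatedIn (Cfsg.FAdj S) S A :=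
  fun h => (h.2 D).1 ⟨hAS, hDS, hp⟩

theorem exists_conj_of_reach {A B : Subgroup G} (h : Relation.ReflTransGen (Cfsg.FAdj S) A B) :
    ∃ g : G, B = Cfsg.conjBy A g := by
  induction h with
  | refl => exact ⟨1, (conjBy_one A).symm⟩
  | tail _ hXY ih =>
    obtain ⟨g, rfl⟩ := ih
    obtain ⟨x, _, hx⟩ := RankOne.right_mem hXY.2.2
    exact ⟨x * g, by rw [hx, conjBy_conjBy]⟩

/-- In the commutator case, `A` is joined to `⁅A, B⁆` in the graph of rank one pairs, provided both
have rank one partners. -/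
theorem reach_comm (hS : Cfsg.IsRootSubgroupSet S) {A B D D' : Subgroup G}
    (hAS : A ∈ S) (hBS : B ∈ S) (hDS : D ∈ S) (hD'S : D' ∈ S) (hAD : Cfsg.IsRankOnePair A D)
    (hC : ⁅A, B⁆ ∈ S) (hCD' : Cfsg.IsRankOnePair ⁅A, B⁆ D') :
    Relation.ReflTransGen (Cfsg.FAdj S) ⁅A, B⁆ A := by
  have h := (Cfsg.Agent.S5029.result hS (not_isolated_of_partner hAS hDS hAD) hAS hBS hC).2.2.1
  exact Cfsg.Agent.S5031.reach_of_linePartner hS hC hD'S hDS hCD' hAD h

/-- one step: conjugating a member by an element of a member stays in the component -/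
theorem reach_conj (hS : Cfsg.IsRootSubgroupSet S)
    (hpartner : ∀ X ∈ S, ∃ D ∈ S, Cfsg.IsRankOnePair X D) {X E : Subgroup G} (hXS : X ∈ S)
    (hES : E ∈ S) {e : G} (he : e ∈ E) :
    Relation.ReflTransGen (Cfsg.FAdj S) X (Cfsg.conjBy X e) := by
  rcases hS.pair X hXS E hES with h | h | h
  · have : Cfsg.conjBy X e = X := by
      apply RankOne.conjBy_eq_of_commute
      intro x hx
      exact (RankOne.commute_of_commutator_eq_bot h hx he).symm
    rw [this]
  · by_cases hEq : Cfsg.conjBy X e = X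
    · rw [hEq]
    · have hXΩ := RankOne.left_mem X E
      have hYΩ : Cfsg.conjBy X e ∈ Cfsg.unipotentSubgroups X E :=
        RankOne.conjBy_mem hXΩ (le_sup_right (a := X) he)
      exact Relation.ReflTransGen.single
        ⟨hXS, hS.conj_mem X hXS e, RankOne.pair_of_mem h hXΩ hYΩ (Ne.symm hEq)⟩
  · -- commutator case
    have hC : ⁅X, E⁆ ∈ S := h.1
    obtain ⟨D, hDS, hXD⟩ := hpartner X hXS
    obtain ⟨D', hD'S, hCD'⟩ := hpartner _ hC
    have hYS : Cfsg.conjBy X e ∈ S := hS.conj_mem X hXS e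
    obtain ⟨DY, hDYS, hYDY⟩ := hpartner _ hYS
    have h1 := reach_comm hS hXS hES hDS hD'S hXD hC hCD'
    -- ⁅conjBy X e, E⁆ = ⁅X, E⁆
    have hEq : ⁅Cfsg.conjBy X e, E⁆ = ⁅X, E⁆ := by
      have e1 : Cfsg.conjBy E e = E := conjBy_of_mem he
      have e2 : Cfsg.conjBy ⁅X, E⁆ e = ⁅X, E⁆ := by
        apply RankOne.conjBy_eq_of_commute
        intro c hc
        exact (RootComm.central h hc (le_sup_right (a := X) he)).symm
      conv_lhs => rw [← e1]
      unfold Cfsg.conjBy at e2 ⊢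
      rw [← Subgroup.map_commutator, e2]
    have hC' : ⁅Cfsg.conjBy X e, E⁆ ∈ S := by rw [hEq]; exact hC
    have hCD'' : Cfsg.IsRankOnePair ⁅Cfsg.conjBy X e, E⁆ D' := by rw [hEq]; exact hCD'
    have h2 := reach_comm hS hYS hES hDYS hD'S hYDY hC' hCD''
    rw [hEq] at h2
    exact (Cfsg.Agent.S5031.reach_symm h1).trans h2

/-- Let S be a set of abstract root subgroups of G with more than one member. Then the graph of rank one pairs on S is connected if and only if S is a single conjugacy class of G and some member of S has a rank one partner in S. -/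
theorem result {G : Type*} [Group G] {S : Set (Subgroup G)} (hS : Cfsg.IsRootSubgroupSet S) (h2 : ∃ A ∈ S, ∃ B ∈ S, A ≠ B) :
    Cfsg.IsConnectedFamily (Cfsg.FAdj S) S ↔
      (Cfsg.IsConjClassOfSubgroups S ∧ ∃ A ∈ S, ¬ Cfsg.IsIsolatedIn (Cfsg.FAdj S) S A) := by
  constructor
  · intro hconn
    obtain ⟨A, hA, B, hB, hAB⟩ := h2
    refine ⟨⟨⟨A, hA⟩, fun X hX Y hY => exists_conj_of_reach (hconn X hX Y hY)⟩, A, hA, ?_⟩
    rcases Relation.ReflTransGen.cases_head (hconn A hA B hB) with h | ⟨C, hC, _⟩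
    · exact absurd h hAB
    · exact fun h => (h.2 C).1 hC
  · rintro ⟨⟨_, hconj⟩, A₀, hA₀, hniso⟩
    obtain ⟨D₀, hD₀S, hA₀D₀⟩ := Cfsg.Agent.S5028.exists_partner_of_not_isolated hniso hA₀
    have hpartner : ∀ X ∈ S, ∃ D ∈ S, Cfsg.IsRankOnePair X D := by
      intro X hX
      obtain ⟨g, rfl⟩ := hconj A₀ hA₀ X hX
      exact ⟨Cfsg.conjBy D₀ g, hS.conj_mem D₀ hD₀S g, RankOne.conj_pair hA₀D₀ g⟩
    have key : ∀ g : G, ∀ X ∈ S, Relation.ReflTransGen (Cfsg.FAdj S) X (Cfsg.conjBy X g) := by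
      intro g
      have hg : g ∈ ⨆ A : S, (A : Subgroup G) := by
        rw [iSup_subtype'' S (fun A => A), hS.generates]
        exact Subgroup.mem_top g
      refine Subgroup.iSup_induction (fun A : S => (A : Subgroup G))
        (C := fun g => ∀ X ∈ S, Relation.ReflTransGen (Cfsg.FAdj S) X (Cfsg.conjBy X g)) hg ?_ ?_ ?_
      · rintro ⟨E, hE⟩ e he X hX
        exact reach_conj hS hpartner hX hE he
      · intro X _
        rw [conjBy_one]
      · intro x y hx hy X hX
        rw [← conjBy_conjBy]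
        exact (hy X hX).trans (hx _ (hS.conj_mem X hX y))
    intro A hA B hB
    obtain ⟨g, rfl⟩ := hconj A hA B hB
    exact key g A hA

end Cfsg.Agent.S5032
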