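import Mathlib
import Cfsg.Statements.S5035
import Cfsg.Agent.Lib.Helper25.RankOne4
import Cfsg.Agent.S5032

set_option autoImplicit false
open Cfsg

namespace Cfsg.Agent.S5035

open Cfsg.Agent.Helper25
open scoped commutatorElement

variable {G H : Type*} [Group G] [Group H]

theorem conjBy_map (f : G →* H) (A : Subgroup G) (g : G) :
    (Cfsg.conjBy A g).map f = Cfsg.conjBy (A.map f) (f g) := by
  unfold Cfsg.conjBy
  rw [Subgroup.map_map, Subgroup.map_map]
  congr 1
  ext x
  simp [MulAut.conj_apply]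

/-- the image of a rank one pair is a rank one pair, or the two images coincide -/
theorem map_rankOne (f : G →* H) {A B : Subgroup G} (hp : Cfsg.IsRankOnePair A B) :
    A.map f = B.map f ∨ Cfsg.IsRankOnePair (A.map f) (B.map f) := by
  by_cases hall : ∀ n ∈ f.ker ⊓ (A ⊔ B), Cfsg.conjBy A n = A
  · right
    -- elements of ker ⊓ X normalize all unipotent subgroups, hence are central in X
    have hcen : ∀ n ∈ f.ker ⊓ (A ⊔ B), ∀ x ∈ A ⊔ B, x * n = n * x := by
      intro n hn
      apply RankOne.commute_of_normalizes_all hp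
      rintro C ⟨x, hx, rfl⟩
      rw [conjBy_conjBy]
      have e : n * x = x * (x⁻¹ * n * x) := by group
      rw [e, ← conjBy_conjBy]
      have hm : x⁻¹ * n * x ∈ f.ker ⊓ (A ⊔ B) := by
        refine ⟨?_, Subgroup.mul_mem _ (Subgroup.mul_mem _ (Subgroup.inv_mem _ hx) hn.2) hx⟩
        have := (MonoidHom.normal_ker f).conj_mem n hn.1 x⁻¹
        simpa using this
      rw [hall _ hm]
    have hker_left : ∀ a ∈ A, f a = 1 → a = 1 := by
      intro a ha hfa
      apply RankOne.eq_one_of_normalizes hp ha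
      apply RankOne.conjBy_eq_of_commute
      intro b hb
      exact (hcen a ⟨hfa, le_sup_left (a := A) ha⟩ b (le_sup_right (a := A) hb)).symm
    have hker_right : ∀ b ∈ B, f b = 1 → b = 1 := by
      intro b hb hfb
      apply RankOne.eq_one_of_normalizes (Cfsg.RankOnePair_symm hp) hb
      apply RankOne.conjBy_eq_of_commute
      intro a ha
      exact (hcen b ⟨hfb, le_sup_right (a := A) hb⟩ a (le_sup_left (a := A) ha)).symm
    have hcond : ∀ {A B : Subgroup G}, Cfsg.RankOneCondition A B → (∀ b ∈ B, f b = 1 → b = 1) →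
        Cfsg.RankOneCondition (A.map f) (B.map f) := by
      intro A B hc hk x hx hx1
      obtain ⟨a, ha, rfl⟩ := hx
      have ha1 : a ≠ 1 := by
        intro h; apply hx1; rw [h, map_one]
      obtain ⟨b, hb, hb1, hE⟩ := hc a ha ha1
      refine ⟨f b, Subgroup.mem_map_of_mem f hb, fun h => hb1 (hk b hb h), ?_⟩
      rw [← map_inv, ← map_inv, ← conjBy_map, ← conjBy_map, hE]
    refine ⟨?_, ?_, ?_, hcond hp.cond_left hker_right, hcond hp.cond_right hker_left⟩
    · intro hE
      obtain ⟨a, ha, ha1⟩ := RankOne.exists_ne_one_left hp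
      have hfa : f a ∈ B.map f := hE ▸ Subgroup.mem_map_of_mem f ha
      obtain ⟨b, hb, hfb⟩ := hfa
      -- a b⁻¹ ∈ ker ⊓ X is central, so a normalizes B
      have hm : a * b⁻¹ ∈ f.ker ⊓ (A ⊔ B) := by
        refine Subgroup.mem_inf.2 ⟨MonoidHom.mem_ker.2 ?_, Subgroup.mul_mem _ (le_sup_left (a := A) ha)
          (Subgroup.inv_mem _ (le_sup_right (a := A) hb))⟩
        rw [map_mul, map_inv, hfb, mul_inv_cancel]
      apply ha1
      apply RankOne.eq_one_of_normalizes hp ha
      have e : a = (a * b⁻¹) * b := by group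
      rw [e, ← conjBy_conjBy, conjBy_of_mem hb]
      apply RankOne.conjBy_eq_of_commute
      intro b' hb'
      exact (hcen _ hm b' (le_sup_right (a := A) hb')).symm
    · haveI := hp.nilpotent_left
      exact nilpotent_of_surjective (f.subgroupMap A) (f.subgroupMap_surjective A)
    · haveI := hp.nilpotent_right
      exact nilpotent_of_surjective (f.subgroupMap B) (f.subgroupMap_surjective B)
  · left
    push Not at hall
    obtain ⟨n₀, hn₀, hne⟩ := hall
    have hΩ : Cfsg.conjBy A n₀ ∈ Cfsg.unipotentSubgroups A B :=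
      RankOne.conjBy_mem (RankOne.left_mem A B) hn₀.2
    obtain ⟨a, ha, hE⟩ := RankOne.exists_conj_of_ne_left hp hΩ (RankOne.right_mem hp) hne hp.ne.symm
    rw [← hE, conjBy_conjBy, conjBy_map, map_mul]
    have : f n₀ = 1 := hn₀.1
    rw [this, mul_one, ← conjBy_map, conjBy_of_mem ha]

theorem map_commCase (f : G →* H) {S : Set (Subgroup G)} {A B : Subgroup G}
    (hcc : Cfsg.RootCommutatorCase S A B) :
    Cfsg.RootCommutatorCase ((fun A : Subgroup G => A.map f) '' S) (A.map f) (B.map f) := by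
  obtain ⟨h1, h2, h3, h4⟩ := hcc
  have hgen : ∀ (a : G) (T : Subgroup G),
      Subgroup.closure ((fun y : H => f a * y * (f a)⁻¹ * y⁻¹) '' ((T.map f : Subgroup H) : Set H)) =
        (Subgroup.closure ((fun b : G => a * b * a⁻¹ * b⁻¹) '' (T : Set G))).map f := by
    intro a T
    rw [MonoidHom.map_closure]
    congr 1
    ext y
    constructor
    · rintro ⟨_, ⟨b, hb, rfl⟩, rfl⟩
      exact ⟨a * b * a⁻¹ * b⁻¹, ⟨b, hb, rfl⟩, by simp⟩
    · rintro ⟨_, ⟨b, hb, rfl⟩, rfl⟩
      exact ⟨f b, ⟨b, hb, rfl⟩, by simp⟩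
  have hgen' : ∀ (b : G) (T : Subgroup G),
      Subgroup.closure ((fun y : H => y * f b * y⁻¹ * (f b)⁻¹) '' ((T.map f : Subgroup H) : Set H)) =
        (Subgroup.closure ((fun a : G => a * b * a⁻¹ * b⁻¹) '' (T : Set G))).map f := by
    intro b T
    rw [MonoidHom.map_closure]
    congr 1
    ext y
    constructor
    · rintro ⟨_, ⟨a, ha, rfl⟩, rfl⟩
      exact ⟨a * b * a⁻¹ * b⁻¹, ⟨a, ha, rfl⟩, by simp⟩
    · rintro ⟨_, ⟨a, ha, rfl⟩, rfl⟩
      exact ⟨f a, ⟨a, ha, rfl⟩, by simp⟩
  refine ⟨?_, ?_, ?_, ?_⟩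
  · rw [← Subgroup.map_commutator]
    exact ⟨_, h1, rfl⟩
  · intro c hc x hx
    rw [← Subgroup.map_commutator] at hc
    rw [← Subgroup.map_sup] at hx
    obtain ⟨c, hc, rfl⟩ := hc
    obtain ⟨x, hx, rfl⟩ := hx
    rw [← map_mul, ← map_mul, h2 c hc x hx]
  · rintro _ ⟨a, ha, rfl⟩ ha1
    have ha1' : a ≠ 1 := by
      intro h; apply ha1; rw [h, map_one]
    rw [hgen a B, h3 a ha ha1', Subgroup.map_commutator]
  · rintro _ ⟨b, hb, rfl⟩ hb1
    have hb1' : b ≠ 1 := by
      intro h; apply hb1; rw [h, map_one]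
    rw [hgen' b A, h4 b hb hb1', Subgroup.map_commutator]

/-- Let S be a set of abstract root subgroups of G whose graph of rank one pairs is connected, and f a homomorphism from G onto a group H. Then either the images of the members of S form a set of abstract root subgroups of H whose graph of rank one pairs is again connected, or H equals the image of a member of S. -/
theorem result {G H : Type*} [Group G] [Group H] {S : Set (Subgroup G)} (hS : Cfsg.IsRootSubgroupSet S)
    (hc : Cfsg.IsConnectedFamily (Cfsg.FAdj S) S) (f : G →* H) (hf : Function.Surjective f) :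
    (Cfsg.IsRootSubgroupSet ((fun A : Subgroup G => A.map f) '' S) ∧
      Cfsg.IsConnectedFamily (Cfsg.FAdj ((fun A : Subgroup G => A.map f) '' S)) ((fun A : Subgroup G => A.map f) '' S)) ∨
    ∃ A ∈ S, A.map f = ⊤ := by
  have hgenH : (⨆ A ∈ S, A.map f) = ⊤ := by
    have h1 : (⨆ A ∈ S, A).map f = ⊤ := by
      rw [hS.generates]; exact Subgroup.map_top_of_surjective f hf
    rw [Subgroup.map_iSup] at h1
    rw [← h1]
    congr 1
    ext A
    rw [Subgroup.map_iSup]
  by_cases hbot : ∃ A ∈ S, A.map f = ⊥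
  · right
    obtain ⟨A, hA, hAbot⟩ := hbot
    refine ⟨A, hA, ?_⟩
    have hall : ∀ B ∈ S, B.map f = ⊥ := by
      intro B hB
      obtain ⟨g, rfl⟩ := Cfsg.Agent.S5032.exists_conj_of_reach (hc A hA B hB)
      rw [conjBy_map, hAbot]
      unfold Cfsg.conjBy
      rw [Subgroup.map_bot]
    rw [hAbot, ← hgenH]
    symm
    rw [eq_bot_iff]
    exact iSup₂_le fun B hB => (hall B hB).le
  · left
    push Not at hbot
    refine ⟨⟨?_, ?_, ?_, ?_, ?_⟩, ?_⟩
    · rintro _ ⟨A, hA, rfl⟩
      haveI := hS.commutative A hA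
      exact Subgroup.map_isMulCommutative A f
    · rintro _ ⟨A, hA, rfl⟩
      exact hbot A hA
    · rw [iSup_image]
      exact hgenH
    · rintro _ ⟨A, hA, rfl⟩ h
      obtain ⟨g, rfl⟩ := hf h
      exact ⟨Cfsg.conjBy A g, hS.conj_mem A hA g, conjBy_map f A g⟩
    · rintro _ ⟨A, hA, rfl⟩ _ ⟨B, hB, rfl⟩
      rcases hS.pair A hA B hB with h | h | h
      · left
        show ⁅A.map f, B.map f⁆ = ⊥
        rw [← Subgroup.map_commutator, h, Subgroup.map_bot]
      · rcases map_rankOne f h with h1 | h1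
        · left
          show ⁅A.map f, B.map f⁆ = ⊥
          rw [h1, Subgroup.commutator_self_eq_bot_iff]
          haveI := hS.commutative B hB
          exact Subgroup.map_isMulCommutative B f
        · right; left; exact h1
      · right; right; exact map_commCase f h
    · have hmapreach : ∀ X Y : Subgroup G, Relation.ReflTransGen (Cfsg.FAdj S) X Y →
          Relation.ReflTransGen (Cfsg.FAdj ((fun A : Subgroup G => A.map f) '' S)) (X.map f) (Y.map f) := by
        intro X Y hreach
        induction hreach with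
        | refl => exact Relation.ReflTransGen.refl
        | tail _ hXY ih =>
          rcases map_rankOne f hXY.2.2 with h1 | h1
          · rw [← h1]; exact ih
          · exact ih.tail ⟨⟨_, hXY.1, rfl⟩, ⟨_, hXY.2.1, rfl⟩, h1⟩
      rintro _ ⟨A, hA, rfl⟩ _ ⟨B, hB, rfl⟩
      exact hmapreach A B (hc A hA B hB)

end Cfsg.Agent.S5035
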