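import Mathlib
import Cfsg.Statements.S5013
import Cfsg.Agent.Lib.Helper25.ConjBy

set_option autoImplicit false
open Cfsg

namespace Cfsg.Agent.S5013

open Cfsg.Agent.Helper25

theorem inf_normalizer_eq_bot {G : Type*} [Group G] {A B : Subgroup G} (hne : A ≠ B)
    (hc : Cfsg.RankOneCondition A B) : A ⊓ Subgroup.normalizer (B : Set G) = ⊥ := by
  rw [eq_bot_iff]
  intro a ha
  rw [Subgroup.mem_bot]
  by_contra ha1
  obtain ⟨haA, haN⟩ := ha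
  obtain ⟨b, hb, hb1, hbe⟩ := hc a haA ha1
  have h1 : Cfsg.conjBy B a⁻¹ = B :=
    mem_normalizer_iff_conjBy.mp (Subgroup.inv_mem _ haN)
  rw [h1] at hbe
  -- conjBy A b⁻¹ = B, so A = conjBy B b = B
  have h2 : A = Cfsg.conjBy B b⁻¹⁻¹ := conjBy_eq_iff.mp hbe
  rw [inv_inv, conjBy_of_mem hb] at h2
  exact hne h2

/-- In a rank one group, for every non-identity a in A the b is unique, etc. -/
theorem result {G : Type*} [Group G] {A B : Subgroup G} (h : Cfsg.IsRankOnePair A B) :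
    (∀ a ∈ A, a ≠ 1 → ∃! b : G, b ∈ B ∧ b ≠ 1 ∧ Cfsg.conjBy A b⁻¹ = Cfsg.conjBy B a⁻¹) ∧
    (∀ b ∈ B, b ≠ 1 → ∃! a : G, a ∈ A ∧ a ≠ 1 ∧ Cfsg.conjBy A b⁻¹ = Cfsg.conjBy B a⁻¹) ∧
    A ⊓ Subgroup.normalizer (B : Set G) = ⊥ ∧ B ⊓ Subgroup.normalizer (A : Set G) = ⊥ := by
  have hAB : A ⊓ Subgroup.normalizer (B : Set G) = ⊥ := inf_normalizer_eq_bot h.ne h.cond_left
  have hBA : B ⊓ Subgroup.normalizer (A : Set G) = ⊥ := inf_normalizer_eq_bot h.ne.symm h.cond_right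
  refine ⟨?_, ?_, hAB, hBA⟩
  · intro a ha ha1
    obtain ⟨b, hb, hb1, hbe⟩ := h.cond_left a ha ha1
    refine ⟨b, ⟨hb, hb1, hbe⟩, ?_⟩
    rintro b' ⟨hb', hb'1, hb'e⟩
    -- conjBy A b'⁻¹ = conjBy A b⁻¹, so b' * b⁻¹ normalizes A
    have h1 : Cfsg.conjBy A b'⁻¹ = Cfsg.conjBy A b⁻¹ := hb'e.trans hbe.symm
    have h2 : Cfsg.conjBy A (b' * b⁻¹) = A := by
      have := congrArg (fun C => Cfsg.conjBy C b') h1
      simpa [conjBy_conjBy, conjBy_one] using this.symm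
    have h3 : b' * b⁻¹ ∈ B ⊓ Subgroup.normalizer (A : Set G) :=
      ⟨B.mul_mem hb' (B.inv_mem hb), mem_normalizer_iff_conjBy.mpr h2⟩
    rw [hBA, Subgroup.mem_bot] at h3
    exact mul_inv_eq_one.mp h3
  · intro b hb hb1
    obtain ⟨a, ha, ha1, hae⟩ := h.cond_right b hb hb1
    refine ⟨a, ⟨ha, ha1, hae.symm⟩, ?_⟩
    rintro a' ⟨ha', ha'1, ha'e⟩
    have h1 : Cfsg.conjBy B a'⁻¹ = Cfsg.conjBy B a⁻¹ := ha'e.symm.trans hae.symm
    have h2 : Cfsg.conjBy B (a' * a⁻¹) = B := by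
      have := congrArg (fun C => Cfsg.conjBy C a') h1
      simpa [conjBy_conjBy, conjBy_one] using this.symm
    have h3 : a' * a⁻¹ ∈ A ⊓ Subgroup.normalizer (B : Set G) :=
      ⟨A.mul_mem ha' (A.inv_mem ha), mem_normalizer_iff_conjBy.mpr h2⟩
    rw [hAB, Subgroup.mem_bot] at h3
    exact mul_inv_eq_one.mp h3

end Cfsg.Agent.S5013
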