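import Mathlib
import Cfsg.Statements.S5017
import Cfsg.Agent.Lib.Helper25.RankOne

set_option autoImplicit false
open Cfsg

namespace Cfsg.Agent.S5017

open Cfsg.Agent.Helper25

theorem normal_sup_or_le_center {X : Type*} [Group X] {A B : Subgroup X}
    (h : Cfsg.IsRankOneGroup X A B) (N : Subgroup X) (hN : N.Normal) :
    N ⊔ A = ⊤ ∨ N ≤ Subgroup.center X := by
  obtain ⟨htop, hp⟩ := h
  by_cases hall : ∀ n ∈ N, Cfsg.conjBy A n = A
  · exact Or.inr (RankOne.normal_le_center hp htop hN hall)
  · left
    push Not at hall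
    obtain ⟨n₀, hn₀, hne⟩ := hall
    have hBm := RankOne.right_mem hp
    have hD₀ : Cfsg.conjBy A n₀ ∈ Cfsg.unipotentSubgroups A B :=
      ⟨n₀, by rw [htop]; exact Subgroup.mem_top _, rfl⟩
    obtain ⟨a, ha, hE⟩ := RankOne.exists_conj_of_ne_left hp hD₀ hBm hne hp.ne.symm
    -- B = conjBy A (a n₀) = conjBy A (a n₀ a⁻¹)
    have hB : B = Cfsg.conjBy A (a * n₀ * a⁻¹) := by
      rw [← hE, conjBy_conjBy]
      have e : a * n₀ = (a * n₀ * a⁻¹) * a := by group
      rw [e, ← conjBy_conjBy, conjBy_of_mem ha]
      congr 1; group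
    have hm : a * n₀ * a⁻¹ ∈ N := hN.conj_mem n₀ hn₀ a
    rw [eq_top_iff, ← htop]
    refine sup_le le_sup_right ?_
    intro b hb
    rw [hB, mem_conjBy] at hb
    have e : b = (a * n₀ * a⁻¹) * ((a * n₀ * a⁻¹)⁻¹ * b * (a * n₀ * a⁻¹)) * (a * n₀ * a⁻¹)⁻¹ := by
      group
    rw [e]
    exact Subgroup.mul_mem _ (Subgroup.mul_mem _ (le_sup_left (a := N) hm) (le_sup_right (a := N) hb))
      (Subgroup.inv_mem _ (le_sup_left (a := N) hm))

/-- Let X be a rank one group with unipotent subgroups A and B and N a normal subgroup of X. Then either X = N A or N lies in the centre of X. Consequently a perfect rank one group is quasisimple. -/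
theorem result {X : Type*} [Group X] {A B : Subgroup X} (h : Cfsg.IsRankOneGroup X A B) :
    (∀ N : Subgroup X, N.Normal → N ⊔ A = ⊤ ∨ N ≤ Subgroup.center X) ∧
    (Group.IsPerfect X → Cfsg.IsQuasisimple X) := by
  refine ⟨fun N hN => normal_sup_or_le_center h N hN, fun hperf => ⟨hperf, ?_⟩⟩
  have hp := h.2
  haveI : Group.IsNilpotent A := hp.nilpotent_left
  -- nontriviality of the quotient
  have hnt : Nontrivial (X ⧸ Subgroup.center X) := by
    by_contra hnt
    rw [not_nontrivial_iff_subsingleton] at hnt
    have hc : Subgroup.center X = ⊤ := QuotientGroup.subgroup_eq_top_of_subsingleton _ hnt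
    obtain ⟨a, ha, ha1⟩ := RankOne.exists_ne_one_left hp
    apply ha1
    apply RankOne.eq_one_of_normalizes hp ha
    have hac : a ∈ Subgroup.center X := by rw [hc]; exact Subgroup.mem_top a
    ext x
    rw [mem_conjBy]
    have : a⁻¹ * x * a = x := by
      rw [Subgroup.mem_center_iff] at hac
      rw [mul_assoc, hac x, ← mul_assoc, inv_mul_cancel, one_mul]
    rw [this]
  refine { toNontrivial := hnt, eq_bot_or_eq_top_of_normal := ?_ }
  intro M hM
  set π := QuotientGroup.mk' (Subgroup.center X) with hπ
  have hsurj : Function.Surjective π := QuotientGroup.mk'_surjective _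
  have hMeq : M = (M.comap π).map π := (Subgroup.map_comap_eq_self_of_surjective hsurj M).symm
  have hNn : (M.comap π).Normal := hM.comap π
  rcases normal_sup_or_le_center h (M.comap π) hNn with htop | hle
  · right
    -- X / N is nilpotent and perfect so trivial
    set N := M.comap π with hNdef
    have hs : Function.Surjective ((QuotientGroup.mk' N).comp A.subtype) := by
      rw [← MonoidHom.range_eq_top, MonoidHom.range_comp, Subgroup.range_subtype]
      have h1 : (N ⊔ A).map (QuotientGroup.mk' N) = ⊤ := by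
        rw [htop, ← MonoidHom.range_eq_map]
        exact MonoidHom.range_eq_top.2 (QuotientGroup.mk'_surjective N)
      rw [Subgroup.map_sup] at h1
      have h2 : N.map (QuotientGroup.mk' N) = ⊥ := by
        rw [← le_bot_iff, Subgroup.map_le_iff_le_comap]
        intro n hn
        rw [Subgroup.mem_comap, Subgroup.mem_bot]
        exact (QuotientGroup.eq_one_iff n).2 hn
      rw [h2, bot_sup_eq] at h1
      exact h1
    haveI : Group.IsNilpotent (X ⧸ N) := nilpotent_of_surjective _ hs
    have hsub : Subsingleton (X ⧸ N) := by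
      by_contra hns
      rw [not_subsingleton_iff_nontrivial] at hns
      exact Group.IsPerfect.not_isNilpotent (X ⧸ N) inferInstance
    have hN : N = ⊤ := QuotientGroup.subgroup_eq_top_of_subsingleton _ hsub
    rw [hMeq, hN, ← MonoidHom.range_eq_map]
    exact MonoidHom.range_eq_top.2 hsurj
  · left
    rw [hMeq, ← le_bot_iff, Subgroup.map_le_iff_le_comap]
    intro n hn
    rw [Subgroup.mem_comap, Subgroup.mem_bot]
    exact (QuotientGroup.eq_one_iff n).2 (hle hn)

end Cfsg.Agent.S5017
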