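import Mathlib
import Cfsg.Statements.S5019
import Cfsg.Agent.S5017
import Cfsg.Agent.Lib.Helper25.RankOne
import Cfsg.Agent.Lib.Helper25.RankOneQuad3

set_option autoImplicit false
open Cfsg

namespace Cfsg.Agent.S5019

open Cfsg.Agent.Helper25 Cfsg.Agent.Helper25.RankOneQuad in
/-- Let X be a rank one group with abelian unipotent subgroups A and B, and suppose X acts on an abelian group N (written additively) in such a way that A acts quadratically, meaning a' • (a • n − n) = a • n − n for all a, a' in A and n in N, while X as a whole does not: y • (x • n − n) ≠ x • n − n for some x, y in X and n in N. Then X is a special rank one group. -/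
theorem result {X : Type*} [Group X] {A B : Subgroup X} (h : Cfsg.IsRankOneGroup X A B)
    (hab : Cfsg.HasAbelianUnipotents A B) {N : Type*} [AddCommGroup N] [DistribMulAction X N]
    (hq : ∀ a ∈ A, ∀ a' ∈ A, ∀ n : N, a' • (a • n - n) = a • n - n)
    (hX : ∃ x y : X, ∃ n : N, y • (x • n - n) ≠ x • n - n) : Cfsg.IsSpecialRankOnePair A B := by
  obtain ⟨htop, hpair⟩ := h
  refine ⟨hpair, fun a ha ha1 b hb hb1 hrel => ?_⟩
  -- the kernel of the action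
  let K : Subgroup X :=
    { carrier := {x | ∀ n : N, x • n = n}
      mul_mem' := fun {x y} hx hy n => by rw [mul_smul, hy n, hx n]
      one_mem' := fun n => one_smul _ n
      inv_mem' := fun {x} hx n => by rw [inv_smul_eq_iff, hx n] }
  have hKmem : ∀ x : X, x ∈ K ↔ ∀ n : N, x • n = n := fun x => Iff.rfl
  have hKn : K.Normal := by
    refine ⟨fun k hk g => ?_⟩
    rw [hKmem] at hk ⊢
    intro n
    rw [mul_smul, mul_smul, hk, smul_inv_smul]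
  have hKc : K ≤ Subgroup.center X := by
    rcases (Cfsg.Agent.S5017.result ⟨htop, hpair⟩).1 K hKn with h1 | h1
    · exfalso
      obtain ⟨x, y, n, hxy⟩ := hX
      have hdec : ∀ z : X, ∃ k ∈ K, ∃ a' ∈ A, k * a' = z := by
        intro z
        have hz : z ∈ (↑(K ⊔ A) : Set X) := by rw [h1]; trivial
        rw [Subgroup.normal_mul] at hz
        exact Set.mem_mul.mp hz
      obtain ⟨k, hk, a', ha', rfl⟩ := hdec x
      obtain ⟨k', hk', a'', ha'', rfl⟩ := hdec y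
      apply hxy
      rw [mul_smul k' a'', (hKmem k').mp hk', mul_smul k a', (hKmem k).mp hk]
      exact hq a' ha' a'' ha'' n
    · exact h1
  obtain ⟨E, hEl, hEr, hE⟩ := exists_defect htop hq ha hb hrel
  -- the element c₀
  obtain ⟨c, hc⟩ : ∃ c, c = b⁻¹ * a * b := ⟨_, rfl⟩
  obtain ⟨c', hc'⟩ : ∃ c', c' = a⁻¹ * b⁻¹ * a := ⟨_, rfl⟩
  rw [← hc, ← hc'] at hE ⊢
  obtain ⟨c₀, hc₀⟩ : ∃ c₀, c₀ = c'⁻¹ * c := ⟨_, rfl⟩
  have hrep0 : rep N c₀ = 1 + E := by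
    rw [hc₀, rep_mul, hE, mul_add, rep_inv_mul, hEl]
  have hcA : c ∈ conjBy A b⁻¹ := by
    rw [mem_conjBy, hc]
    have : b⁻¹⁻¹ * (b⁻¹ * a * b) * b⁻¹ = a := by group
    rw [this]
    exact ha
  have hc'B : c' ∈ conjBy B a⁻¹ := by
    rw [mem_conjBy, hc']
    have : a⁻¹⁻¹ * (a⁻¹ * b⁻¹ * a) * a⁻¹ = b⁻¹ := by group
    rw [this]
    exact B.inv_mem hb
  have hc₀A : c₀ ∈ conjBy A b⁻¹ := by
    rw [hc₀]
    refine Subgroup.mul_mem _ (Subgroup.inv_mem _ ?_) hcA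
    rw [hrel]
    exact hc'B
  have hc₀B : c₀ ∈ conjBy B a⁻¹ := by rw [← hrel]; exact hc₀A
  rw [mem_conjBy] at hc₀A hc₀B
  obtain ⟨a₀, ha₀⟩ : ∃ a₀, a₀ = b⁻¹⁻¹ * c₀ * b⁻¹ := ⟨_, rfl⟩
  obtain ⟨b₀, hb₀⟩ : ∃ b₀, b₀ = a⁻¹⁻¹ * c₀ * a⁻¹ := ⟨_, rfl⟩
  rw [← ha₀] at hc₀A
  rw [← hb₀] at hc₀B
  have hrepa : rep N a₀ = 1 + E := by
    rw [ha₀, rep_mul, rep_mul, hrep0, mul_add, add_mul, mul_one, hEl, hEr, ← rep_mul,
      inv_mul_cancel, rep_one]
  have hrepb : rep N b₀ = 1 + E := by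
    rw [hb₀, rep_mul, rep_mul, hrep0, mul_add, add_mul, mul_one, hEl, hEr, ← rep_mul,
      inv_mul_cancel, rep_one]
  have hk : a₀⁻¹ * b₀ ∈ K := by
    rw [hKmem]
    intro n
    have : rep N (a₀⁻¹ * b₀) = 1 := by
      rw [rep_mul, hrepb, ← hrepa, rep_inv_mul]
    calc (a₀⁻¹ * b₀) • n = rep N (a₀⁻¹ * b₀) n := rfl
      _ = n := by rw [this]; rfl
  have hkc := hKc hk
  rw [Subgroup.mem_center_iff] at hkc
  -- b₀ normalizes A
  have hb₀1 : b₀ = 1 := by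
    apply RankOne.eq_one_of_normalizes (RankOnePair_symm hpair) hc₀B
    ext g
    rw [mem_conjBy]
    have hb₀eq : b₀ = a₀ * (a₀⁻¹ * b₀) := by group
    have e : b₀⁻¹ * g * b₀ = a₀⁻¹ * g * a₀ := by
      have h1 := hkc (a₀⁻¹ * g * a₀)
      calc b₀⁻¹ * g * b₀ = (a₀⁻¹ * b₀)⁻¹ * ((a₀⁻¹ * g * a₀) * (a₀⁻¹ * b₀)) := by group
        _ = (a₀⁻¹ * b₀)⁻¹ * ((a₀⁻¹ * b₀) * (a₀⁻¹ * g * a₀)) := by rw [h1]
        _ = a₀⁻¹ * g * a₀ := by group
    rw [e]
    constructor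
    · intro hg
      have : g = a₀ * (a₀⁻¹ * g * a₀) * a₀⁻¹ := by group
      rw [this]
      exact A.mul_mem (A.mul_mem hc₀A hg) (A.inv_mem hc₀A)
    · intro hg
      exact A.mul_mem (A.mul_mem (A.inv_mem hc₀A) hg) hc₀A
  have hc₀1 : c₀ = 1 := by
    have : c₀ = a⁻¹ * b₀ * a⁻¹⁻¹ := by rw [hb₀]; group
    rw [this, hb₀1]
    group
  have : c = c' * c₀ := by rw [hc₀]; group
  rw [this, hc₀1, mul_one]

end Cfsg.Agent.S5019
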