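import Mathlib
import Cfsg.Statements.S5034
import Cfsg.Agent.Lib.Helper25.RootSpecial2
import Cfsg.Agent.Lib.Helper25.RankOneSub2

set_option autoImplicit false
open Cfsg

namespace Cfsg.Agent.S5034

open Cfsg.Agent.Helper25
open scoped commutatorElement

/-- The rank one pair `(A, B)` is special, given `C ∈ Λ_A ∩ Ψ_B` with `⁅⁅B, C⁆, A⁆ = C`. -/
theorem special_of_config {G : Type*} [Group G] {S : Set (Subgroup G)} (hS : Cfsg.IsRootSubgroupSet S)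
    {A B C : Subgroup G} (hA : A ∈ S) (hB : B ∈ S) (hp : Cfsg.IsRankOnePair A B) (hC : C ∈ S)
    (hF : ⁅B, C⁆ ∈ S) (hT : ⁅⁅B, C⁆, A⁆ = C) : Cfsg.IsSpecialRankOnePair A B := by
  have hC₀ : ⁅⁅B, C⁆, A⁆ ∈ S := by rw [hT]; exact hC
  have hDC₀ : ⁅B, ⁅⁅B, C⁆, A⁆⁆ = ⁅B, C⁆ := by rw [hT]
  have hFA := RootQuad.caseAB hS hF hA hC₀ hB hDC₀
  refine RankOneSub.special_of_quadratic_subgroup (N := ⁅B, C⁆ ⊔ ⁅⁅B, C⁆, A⁆) hp
    (hS.commutative A hA) (hS.commutative B hB) ?_ ?_ ?_ ?_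
  · intro x hx n hn
    exact RootQuad.conj_mem_N hS hF hA hC₀ hB hDC₀ hx hn
  · intro n hn n' hn'
    exact RootSpecial.line_comm hFA (hS.commutative _ hF) (hS.commutative _ hC₀) hn hn'
  · intro a ha a' ha' n hn
    obtain ⟨f, hf, c', hc', rfl⟩ := RootQuad.exists_mul hS hF hA hC₀ hB hDC₀ hn
    have h1 : c' * a = a * c' := RootQuad.comm_CB hS hF hA hC₀ hB hDC₀ hc' ha
    have h2 : c' * f = f * c' := RootQuad.comm_CA hS hF hA hC₀ hB hDC₀ hc' hf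
    have h1' := RootSpecial.comm_inv_of_comm h1.symm
    have e : a * (f * c') * a⁻¹ * (f * c')⁻¹ = ⁅a, f⁆ := by
      rw [commutatorElement_def]
      calc a * (f * c') * a⁻¹ * (f * c')⁻¹ = a * f * (c' * a⁻¹) * c'⁻¹ * f⁻¹ := by group
        _ = a * f * (a⁻¹ * c') * c'⁻¹ * f⁻¹ := by rw [← h1']
        _ = a * f * a⁻¹ * f⁻¹ := by group
    rw [e]
    have hm : ⁅a, f⁆ ∈ ⁅⁅B, C⁆, A⁆ := by
      rw [Subgroup.commutator_comm]
      exact Subgroup.commutator_mem_commutator ha hf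
    have h3 : ⁅a, f⁆ * a' = a' * ⁅a, f⁆ := RootQuad.comm_CB hS hF hA hC₀ hB hDC₀ hm ha'
    rw [← h3]; group
  · obtain ⟨b, hb, hb1⟩ := RankOne.exists_ne_one_right hp
    obtain ⟨a, ha, ha1⟩ := RankOne.exists_ne_one_left hp
    obtain ⟨c, hc, hc1⟩ := ((⁅⁅B, C⁆, A⁆).bot_or_exists_ne_one).resolve_left (hS.ne_bot _ hC₀)
    refine ⟨b, le_sup_right (a := A) hb, a, le_sup_left (a := A) ha, c,
      le_sup_right (a := ⁅B, C⁆) hc, ?_⟩
    have hfm : b * c * b⁻¹ * c⁻¹ ∈ ⁅B, C⁆ := by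
      have : ⁅b, c⁆ ∈ ⁅B, ⁅⁅B, C⁆, A⁆⁆ := Subgroup.commutator_mem_commutator hb hc
      rw [hDC₀, commutatorElement_def] at this
      exact this
    have hf1 : b * c * b⁻¹ * c⁻¹ ≠ 1 := by
      intro h
      apply hc1
      apply RootQuad.eq_one_of_comm_DC hS hF hA hC₀ hB hDC₀ hb hb1 hc
      calc b * c = (b * c * b⁻¹ * c⁻¹) * c * b := by group
        _ = c * b := by rw [h, one_mul]
    intro h
    apply hf1
    apply RootQuad.eq_one_of_comm_BA hS hF hA hC₀ hB hDC₀ ha ha1 hfm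
    calc a * (b * c * b⁻¹ * c⁻¹) = (a * (b * c * b⁻¹ * c⁻¹) * a⁻¹) * a := by group
      _ = (b * c * b⁻¹ * c⁻¹) * a := by rw [h]

/-- Let S be a non-degenerate class of abstract root subgroups of G, A ∈ S and B a rank one partner of A. Then some line partner C of A has ⁅B, C⁆ ∈ S, and the rank one pair A, B is special. -/
theorem result {G : Type*} [Group G] {S : Set (Subgroup G)} (hS : Cfsg.IsRootSubgroupClass S) (hnd : Cfsg.IsNondegenerateRootSet S)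
    {A B : Subgroup G} (hA : A ∈ S) (hB : B ∈ Cfsg.rankOnePartners S A) :
    (∃ C ∈ Cfsg.linePartners S A, C ∈ Cfsg.commutatorPartners S B) ∧ Cfsg.IsSpecialRankOnePair A B := by
  obtain ⟨hSet, hClass⟩ := hS
  obtain ⟨hBS, hp⟩ := hB
  -- a commutator partner of A
  obtain ⟨A', hA', B', hB', hcc'⟩ := hnd.2.2
  obtain ⟨g, hg⟩ := hClass.2 A' hA' A hA
  have hB₁ : Cfsg.conjBy B' g ∈ S := hSet.conj_mem B' hB' g
  have hC₁ : ⁅A, Cfsg.conjBy B' g⁆ ∈ S := by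
    rw [hg]
    have : ⁅Cfsg.conjBy A' g, Cfsg.conjBy B' g⁆ = Cfsg.conjBy ⁅A', B'⁆ g := by
      unfold Cfsg.conjBy
      rw [Subgroup.map_commutator]
    rw [this]
    exact hSet.conj_mem _ hcc'.1 g
  have hcc := RootComm.commCase_of_comm_mem hSet hA hB₁ hC₁
  obtain ⟨C, hC, hF⟩ := RootSpecial.exists_linePartner_comm hSet hA hBS hp hcc
  refine ⟨⟨C, hC, hC.1.1, hF⟩, ?_⟩
  have hCp : ∃ D' ∈ S, Cfsg.IsRankOnePair C D' := by
    obtain ⟨g', hg'⟩ := hClass.2 A hA C hC.1.1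
    refine ⟨Cfsg.conjBy B g', hSet.conj_mem B hBS g', ?_⟩
    rw [hg']
    exact RankOne.conj_pair hp g'
  have hT := RootSpecial.comm_comm_eq hSet hA hBS hp hC hF hCp
  exact special_of_config hSet hA hBS hp hC.1.1 hF hT

end Cfsg.Agent.S5034
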