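import Mathlib
import Cfsg.Statements.S5038
import Cfsg.Agent.Lib.Helper25.RootLine3

set_option autoImplicit false
open Cfsg

namespace Cfsg.Agent.S5038

open Cfsg.Agent.Helper25 Cfsg.Agent.Helper25.RootLine

theorem exists_partner {G : Type*} [Group G] {S : Set (Subgroup G)}
    (hF : ∀ A ∈ S, ¬ Cfsg.IsIsolatedIn (Cfsg.FAdj S) S A) :
    ∀ A ∈ S, ∃ D ∈ S, Cfsg.IsRankOnePair A D := by
  intro A hA
  have h := hF A hA
  unfold Cfsg.IsIsolatedIn at h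
  push Not at h
  obtain ⟨D, hD⟩ := h hA
  by_cases h1 : Cfsg.FAdj S A D
  · exact ⟨D, h1.2.1, h1.2.2⟩
  · have h2 := hD h1
    exact ⟨D, h2.1, Cfsg.RankOnePair_symm h2.2.2⟩

/-- Let S be a set of abstract root subgroups of G in which every member has a rank one partner, A ∈ S and B a line partner of A. Then the subgroup generated by the members of S normalizing AB permutes the members of S inside AB doubly transitively by conjugation. -/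
theorem result {G : Type*} [Group G] {S : Set (Subgroup G)} (hS : Cfsg.IsRootSubgroupSet S)
    (hF : ∀ A ∈ S, ¬ Cfsg.IsIsolatedIn (Cfsg.FAdj S) S A) {A B : Subgroup G} (hA : A ∈ S) (hB : B ∈ Cfsg.linePartners S A) :
    ∀ C₁ ∈ Cfsg.membersIn S (A ⊔ B), ∀ C₂ ∈ Cfsg.membersIn S (A ⊔ B), ∀ D₁ ∈ Cfsg.membersIn S (A ⊔ B),
      ∀ D₂ ∈ Cfsg.membersIn S (A ⊔ B), C₁ ≠ C₂ → D₁ ≠ D₂ →
        ∃ x ∈ ⨆ E ∈ Cfsg.normalizingMembers S (A ⊔ B), E, Cfsg.conjBy C₁ x = D₁ ∧ Cfsg.conjBy C₂ x = D₂ := by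
  have hpart := exists_partner hF
  have hL : Line S (A ⊔ B) := line_of_linePartner hS hA hB
  have hA' : A ∈ Cfsg.membersIn S (A ⊔ B) := ⟨hA, le_sup_left⟩
  have hB' : B ∈ Cfsg.membersIn S (A ⊔ B) := ⟨hB.1.1, le_sup_right⟩
  have hne : B ≠ A := hB.1.2.1
  have pd := hL.point_data hS hpart hA' hB' rfl hne
  obtain ⟨H, hHdef⟩ : ∃ H, H = ⨆ E ∈ Cfsg.normalizingMembers S (A ⊔ B), E := ⟨_, rfl⟩
  rw [← hHdef]
  -- elements of H normalize N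
  have hHN : ∀ x ∈ H, Cfsg.conjBy (A ⊔ B) x = A ⊔ B := by
    intro x hx
    have hle : H ≤ Subgroup.normalizer ((A ⊔ B : Subgroup G) : Set G) := by
      rw [hHdef]
      exact iSup₂_le fun E hE => hE.2
    exact mem_normalizer_iff_conjBy.1 (hle hx)
  have hHL : ∀ x ∈ H, ∀ M ∈ Cfsg.membersIn S (A ⊔ B), Cfsg.conjBy M x ∈ Cfsg.membersIn S (A ⊔ B) := by
    intro x hx M hM
    refine ⟨hS.conj_mem M hM.1 x, ?_⟩
    have : Cfsg.conjBy M x ≤ Cfsg.conjBy (A ⊔ B) x := Subgroup.map_mono hM.2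
    rw [hHN x hx] at this
    exact this
  have hFH : ∀ F ∈ S, (∀ f ∈ F, Cfsg.conjBy (A ⊔ B) f = A ⊔ B) → F ≤ H := by
    intro F hFS hFN
    rw [hHdef]
    have hmem : F ∈ Cfsg.normalizingMembers S (A ⊔ B) :=
      ⟨hFS, fun f hf => mem_normalizer_iff_conjBy.2 (hFN f hf)⟩
    exact le_biSup (fun E => E) hmem
  -- the two special points
  obtain ⟨D₁, hD₁, hD₁A, F₁, hF₁S, hF₁N, hF₁D, htr₁⟩ := pd A hA'
  obtain ⟨D₂, hD₂, hD₂D₁, F₂, hF₂S, hF₂N, hF₂D, htr₂⟩ := pd D₁ hD₁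
  have hF₁H := hFH F₁ hF₁S hF₁N
  have hF₂H := hFH F₂ hF₂S hF₂N
  have trans₁ : ∀ M ∈ Cfsg.membersIn S (A ⊔ B), ∀ M' ∈ Cfsg.membersIn S (A ⊔ B), M ≠ D₁ → M' ≠ D₁ →
      ∃ x ∈ F₁, Cfsg.conjBy M x = M' := by
    intro M hM M' hM' h1 h2
    obtain ⟨f, hf, rfl⟩ := htr₁ M hM h1
    obtain ⟨f', hf', rfl⟩ := htr₁ M' hM' h2
    refine ⟨f' * f⁻¹, F₁.mul_mem hf' (F₁.inv_mem hf), ?_⟩
    rw [conjBy_conjBy]
    congr 1
    group
  have trans₂ : ∀ M ∈ Cfsg.membersIn S (A ⊔ B), ∀ M' ∈ Cfsg.membersIn S (A ⊔ B), M ≠ D₂ → M' ≠ D₂ →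
      ∃ x ∈ F₂, Cfsg.conjBy M x = M' := by
    intro M hM M' hM' h1 h2
    obtain ⟨f, hf, rfl⟩ := htr₂ M hM h1
    obtain ⟨f', hf', rfl⟩ := htr₂ M' hM' h2
    refine ⟨f' * f⁻¹, F₂.mul_mem hf' (F₂.inv_mem hf), ?_⟩
    rw [conjBy_conjBy]
    congr 1
    group
  -- a third point
  have hthird : ∃ T ∈ Cfsg.membersIn S (A ⊔ B), T ≠ D₁ ∧ T ≠ D₂ := by
    obtain ⟨a, ha, ha1⟩ := (A.bot_or_exists_ne_one).resolve_left (hS.ne_bot A hA)
    obtain ⟨b, hb, hb1⟩ := (B.bot_or_exists_ne_one).resolve_left (hS.ne_bot B hB.1.1)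
    have hinf := hL.part.2.2 A hA' B hB' hne.symm
    rw [Subgroup.eq_bot_iff_forall] at hinf
    have hab1 : a * b ≠ 1 := by
      intro h
      apply ha1
      apply hinf a
      refine ⟨ha, ?_⟩
      have : a = b⁻¹ := by
        calc a = (a * b) * b⁻¹ := by group
          _ = b⁻¹ := by rw [h, one_mul]
      rw [this]; exact B.inv_mem hb
    obtain ⟨M, hM, habM⟩ := hL.cover (Subgroup.mul_mem _ (le_sup_left (a := A) ha)
      (le_sup_right (a := A) hb)) hab1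
    have hMA : M ≠ A := by
      intro h
      rw [h] at habM
      apply hb1
      apply hinf b
      refine ⟨?_, hb⟩
      have : b = a⁻¹ * (a * b) := by group
      rw [this]; exact A.mul_mem (A.inv_mem ha) habM
    have hMB : M ≠ B := by
      intro h
      rw [h] at habM
      apply ha1
      apply hinf a
      refine ⟨ha, ?_⟩
      have : a = (a * b) * b⁻¹ := by group
      rw [this]; exact B.mul_mem habM (B.inv_mem hb)
    -- one of A, B, M avoids both D₁, D₂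
    by_cases h1 : A = D₁ ∨ A = D₂
    · by_cases h2 : B = D₁ ∨ B = D₂
      · refine ⟨M, hM, ?_, ?_⟩
        · intro h
          rcases h1 with h1 | h1
          · exact hMA (h.trans h1.symm)
          · rcases h2 with h2 | h2
            · exact hMB (h.trans h2.symm)
            · exact hne (h2.trans h1.symm)
        · intro h
          rcases h1 with h1 | h1
          · rcases h2 with h2 | h2
            · exact hne (h2.trans h1.symm)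
            · exact hMB (h.trans h2.symm)
          · exact hMA (h.trans h1.symm)
      · push Not at h2
        exact ⟨B, hB', h2.1, h2.2⟩
    · push Not at h1
      exact ⟨A, hA', h1.1, h1.2⟩
  obtain ⟨T, hT, hTD₁, hTD₂⟩ := hthird
  -- transitivity
  have htrans : ∀ C ∈ Cfsg.membersIn S (A ⊔ B), ∃ x ∈ H, Cfsg.conjBy C x = D₁ := by
    intro C hC
    by_cases hCD₁ : C = D₁
    · exact ⟨1, H.one_mem, by rw [hCD₁, conjBy_one]⟩
    by_cases hCD₂ : C = D₂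
    · obtain ⟨f₁, hf₁, h1⟩ := trans₁ C hC T hT hCD₁ hTD₁
      obtain ⟨f₂, hf₂, h2⟩ := trans₂ T hT D₁ hD₁ hTD₂ hD₂D₁.symm
      refine ⟨f₂ * f₁, H.mul_mem (hF₂H hf₂) (hF₁H hf₁), ?_⟩
      rw [← conjBy_conjBy, h1, h2]
    · obtain ⟨f₂, hf₂, h2⟩ := trans₂ C hC D₁ hD₁ hCD₂ hD₂D₁.symm
      exact ⟨f₂, hF₂H hf₂, h2⟩
  -- normal form
  have hnf : ∀ C₁ ∈ Cfsg.membersIn S (A ⊔ B), ∀ C₂ ∈ Cfsg.membersIn S (A ⊔ B), C₁ ≠ C₂ →
      ∃ x ∈ H, Cfsg.conjBy C₁ x = D₁ ∧ Cfsg.conjBy C₂ x = D₂ := by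
    intro C₁ hC₁ C₂ hC₂ hC
    obtain ⟨x₁, hx₁, h1⟩ := htrans C₁ hC₁
    have hC₂' := hHL x₁ hx₁ C₂ hC₂
    have hne' : Cfsg.conjBy C₂ x₁ ≠ D₁ := by
      intro h
      rw [← h1] at h
      exact hC (conjBy_injective x₁ h).symm
    obtain ⟨f₁, hf₁, h2⟩ := trans₁ _ hC₂' D₂ hD₂ hne' hD₂D₁
    refine ⟨f₁ * x₁, H.mul_mem (hF₁H hf₁) hx₁, ?_, ?_⟩
    · rw [← conjBy_conjBy, h1, hF₁D f₁ hf₁]
    · rw [← conjBy_conjBy, h2]
  intro C₁ hC₁ C₂ hC₂ E₁ hE₁ E₂ hE₂ hC hE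
  obtain ⟨x, hx, hx1, hx2⟩ := hnf C₁ hC₁ C₂ hC₂ hC
  obtain ⟨y, hy, hy1, hy2⟩ := hnf E₁ hE₁ E₂ hE₂ hE
  refine ⟨y⁻¹ * x, H.mul_mem (H.inv_mem hy) hx, ?_, ?_⟩
  · rw [← conjBy_conjBy, hx1]
    exact (conjBy_eq_iff.1 hy1).symm
  · rw [← conjBy_conjBy, hx2]
    exact (conjBy_eq_iff.1 hy2).symm

end Cfsg.Agent.S5038
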