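import Mathlib
import Cfsg.Statements.S5347

set_option autoImplicit false
universe u
open Cfsg

namespace Cfsg.Agent.S5347

/-- Let D be a conjugation-invariant generating set of 3-transpositions of a finite group G, p a prime bigger than 3, and P a p-subgroup of G. If a member d of D normalizes P then d centralizes P. -/
theorem result {G : Type*} [Group G] [Finite G] {D : Set G} (hD : Cfsg.IsThreeTranspositionGroup D) {p : ℕ} (hp : p.Prime) (hp3 : 3 < p) (P : Subgroup G) (hP : IsPGroup p P) {d : G} (hd : d ∈ D) (hnorm : d ∈ Subgroup.normalizer (P : Set G)) : ∀ x ∈ P, Commute d x := by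
  intro x hx
  obtain ⟨⟨hord, hprod⟩, hconj, -⟩ := hD
  have hd2 : d * d = 1 := by
    have := hord d hd
    have h2 : d ^ 2 = 1 := by rw [← this]; exact pow_orderOf_eq_one d
    simpa [pow_two] using h2
  have hdinv : d⁻¹ = d := inv_eq_of_mul_eq_one_left hd2
  -- e = x d x⁻¹ ∈ D
  have he : x * d * x⁻¹ ∈ D := hconj x d hd
  -- y = d * (x d x⁻¹) = (d x d⁻¹) x⁻¹ ∈ P
  have hdx : d * x * d⁻¹ ∈ P := (Subgroup.mem_normalizer_iff.mp hnorm x).mp hx
  set y : G := d * (x * d * x⁻¹) with hy
  have hyP : y ∈ P := by
    have : y = (d * x * d⁻¹) * x⁻¹ := by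
      rw [hy, hdinv]; group
    rw [this]
    exact P.mul_mem hdx (P.inv_mem hx)
  -- order of y is a power of p
  obtain ⟨k, hk⟩ := hP ⟨y, hyP⟩
  have hyk : y ^ (p ^ k) = 1 := by
    have := congrArg Subtype.val hk
    simpa using this
  have hy1 : y = 1 := by
    rcases hprod d hd _ he with h | h
    · -- y^2 = 1 and y^(p^k) = 1, gcd = 1
      have hcop : Nat.Coprime (p ^ k) 2 := by
        apply Nat.Coprime.pow_left
        rw [Nat.coprime_primes hp Nat.prime_two]; omega
      have := pow_gcd_eq_one.mpr ⟨hyk, h⟩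
      rw [Nat.Coprime.gcd_eq_one hcop] at this
      simpa using this
    · have hcop : Nat.Coprime (p ^ k) 3 := by
        apply Nat.Coprime.pow_left
        rw [Nat.coprime_primes hp Nat.prime_three]; omega
      have := pow_gcd_eq_one.mpr ⟨hyk, h⟩
      rw [Nat.Coprime.gcd_eq_one hcop] at this
      simpa using this
  -- d * x * d * x⁻¹ = 1
  show d * x = x * d
  have h1 : d * (x * d * x⁻¹) = 1 := hy1
  have h2 : x * d * x⁻¹ = d := by
    have := congrArg (fun z => d * z) h1
    simp only [← mul_assoc, hd2, one_mul, mul_one] at this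
    simpa [mul_assoc] using this
  calc d * x = (x * d * x⁻¹) * x := by rw [h2]
    _ = x * d := by group

end Cfsg.Agent.S5347
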