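import Mathlib
import Cfsg.Statements.S5349
import Cfsg.Agent.Lib.Helper25.ThreeTransp2

set_option autoImplicit false
open Cfsg Cfsg.Agent.Helper25 Equiv

namespace Cfsg.Agent.S5349

/-- Let D be a conjugacy class of 3-transpositions generating the finite group G, with at least two members, and d a member of D. Then the set of members of D commuting with exactly the same members of D as d coincides with the set of members of D lying in the coset of d modulo the largest normal 2-subgroup of G, and also with the orbit of d under conjugation by that normal 2-subgroup. -/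
theorem result {G : Type*} [Group G] [Finite G] {D : Set G} (hD : Cfsg.IsThreeTranspositionClass D) (hD2 : ∃ a ∈ D, ∃ b ∈ D, a ≠ b) {d : G} (hd : d ∈ D) : {v : G | v ∈ D ∧ ∀ e ∈ D, Commute v e ↔ Commute d e} = {v : G | v ∈ D ∧ d⁻¹ * v ∈ Cfsg.pCore 2 G} ∧ {v : G | v ∈ D ∧ ∀ e ∈ D, Commute v e ↔ Commute d e} = {v : G | ∃ g ∈ Cfsg.pCore 2 G, v = g * d * g⁻¹} := by
  classical
  have hS := hD.1
  have hconj : ∀ g : G, ∀ x ∈ D, g * x * g⁻¹ ∈ D := fun g x hx => TT.conj_mem hD g hx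
  have hnorm : (Cfsg.pCore 2 G).Normal := Subgroup.sSup_normal _ (fun _ hH => hH.1)
  have : Fact (Nat.Prime 2) := ⟨Nat.prime_two⟩
  have hQ : IsPGroup 2 (Cfsg.pCore 2 G) := isPGroup_pCore' 2 G
  -- (c)
  have hc : ∀ x ∈ D, ∀ y ∈ D, x⁻¹ * y ∈ Cfsg.pCore 2 G → ∀ e ∈ D, Commute x e → Commute y e := by
    intro x hx y hy hq e he hxe
    by_contra hye
    have h3 : (y * e) ^ 3 = 1 := TT.cube_of_not_commute hS hy he hye
    have h2 : (y * e) ^ 2 ∈ Cfsg.pCore 2 G := by
      rw [← QuotientGroup.eq_one_iff]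
      have hxy : ((y : G) : G ⧸ Cfsg.pCore 2 G) = ((x : G) : G ⧸ Cfsg.pCore 2 G) := by
        rw [eq_comm, QuotientGroup.eq]; exact hq
      rw [QuotientGroup.mk_pow, QuotientGroup.mk_mul, hxy, ← QuotientGroup.mk_mul,
        ← QuotientGroup.mk_pow, TT.sq_of_commute hS hx he hxe]
      rfl
    have h1 : y * e ∈ Cfsg.pCore 2 G := by
      have : y * e = ((y * e) ^ 2)⁻¹ := by
        rw [eq_inv_iff_mul_eq_one, ← pow_succ']; exact h3
      rw [this]; exact Subgroup.inv_mem _ h2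
    obtain ⟨k, hk⟩ := hQ ⟨y * e, h1⟩
    have hk' : (y * e) ^ (2 ^ k) = 1 := by
      have := congrArg Subtype.val hk
      simpa using this
    have h4 : orderOf (y * e) ∣ Nat.gcd 3 (2 ^ k) :=
      Nat.dvd_gcd (orderOf_dvd_of_pow_eq_one h3) (orderOf_dvd_of_pow_eq_one hk')
    have h5 : Nat.gcd 3 (2 ^ k) = 1 := by
      apply Nat.Coprime.pow_right; decide
    rw [h5, Nat.dvd_one, orderOf_eq_one_iff] at h4
    have : y = e := by
      have := eq_inv_of_mul_eq_one_left h4
      rw [this, TT.inv_eq hS he]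
    exact hye (this ▸ Commute.refl _)
  -- (a)
  have ha : ∀ v, v ∈ D → TT.Sim D v d → ∃ g ∈ Cfsg.pCore 2 G, v = g * d * g⁻¹ := by
    intro v hv hs
    by_cases hvd : v = d
    · exact ⟨1, Subgroup.one_mem _, by simp [hvd]⟩
    · obtain ⟨e, he, hde⟩ := TT.exists_not_commute hD hD2 hd
      have hve : ¬ Commute v e := fun h => hde ((hs e he).mp h)
      have hev : ¬ Commute e v := fun h => hve h.symm
      have hcdv : Commute d v := (hs.commute hd).symm
      obtain ⟨φ, -, h0, h1, h2⟩ := TT.exists_S4 hS hd he hv (Ne.symm hvd) hcdv hde hev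
      have hz : d * v ∈ Cfsg.pCore 2 G := TT.mul_mem_pCore hS hconj hd hv hs hvd
      refine ⟨e * (d * v) * e⁻¹, hnorm.conj_mem _ hz e, ?_⟩
      rw [← h0, ← h1, ← h2]
      simp only [← map_mul, ← map_inv]
      congr 1
      decide
  -- (b)
  have hb : ∀ v, (∃ g ∈ Cfsg.pCore 2 G, v = g * d * g⁻¹) → v ∈ D ∧ d⁻¹ * v ∈ Cfsg.pCore 2 G := by
    rintro v ⟨g, hg, rfl⟩
    refine ⟨hconj g d hd, ?_⟩
    have h1 : d⁻¹ * g * d⁻¹⁻¹ ∈ Cfsg.pCore 2 G := hnorm.conj_mem _ hg d⁻¹
    have h2 := Subgroup.mul_mem _ h1 (Subgroup.inv_mem _ hg)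
    have : d⁻¹ * (g * d * g⁻¹) = d⁻¹ * g * d⁻¹⁻¹ * g⁻¹ := by simp [mul_assoc]
    rw [this]; exact h2
  -- (c')
  have hc' : ∀ v, v ∈ D → d⁻¹ * v ∈ Cfsg.pCore 2 G → TT.Sim D v d := by
    intro v hv hq e he
    constructor
    · apply hc v hv d hd _ e he
      have := Subgroup.inv_mem _ hq
      simpa [mul_inv_rev] using this
    · exact hc d hd v hv hq e he
  constructor
  · ext v
    constructor
    · rintro ⟨hv, hs⟩
      exact hb v (ha v hv hs)
    · rintro ⟨hv, hq⟩
      exact ⟨hv, hc' v hv hq⟩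
  · ext v
    constructor
    · rintro ⟨hv, hs⟩
      exact ha v hv hs
    · intro h
      obtain ⟨hv, hq⟩ := hb v h
      exact ⟨hv, hc' v hv hq⟩

end Cfsg.Agent.S5349
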