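import Mathlib
import Cfsg.Statements.S5124
import Cfsg.Agent.Lib.Helper25.FusionHyp

set_option autoImplicit false

namespace Cfsg.Agent.S5124

open Cfsg Cfsg.FusionSystem Cfsg.Agent.Helper25

theorem result {Ω : Type*} [Group Ω] {S : Subgroup Ω} [Finite S] (p : ℕ) [Fact p.Prime] (hS : IsPGroup p S) (F : Cfsg.FusionSystem S) (hF : F.IsSaturated p) : F.StronglyClosed (F.hyperfocalSubgroup p) := by
  set T := F.hyperfocalSubgroup p with hT
  have hnorm : ∀ s ∈ S, ∀ y : Ω, y ∈ T ↔ s * y * s⁻¹ ∈ T := by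
    intro s hs y
    constructor
    · exact fun hy => conj_mem_hyperfocalSubgroup F p hs hy
    · intro hy
      have := conj_mem_hyperfocalSubgroup F p (S.inv_mem hs) hy
      have e : s⁻¹ * (s * y * s⁻¹) * s⁻¹⁻¹ = y := by group
      rwa [e] at this
  refine ⟨hyperfocalSubgroup_le F p, fun R hR φ hφ x => ?_⟩
  refine (alperin_induction p hS F hF (fun P φ => ∀ x : P, (x : Ω) ∈ T ↔ φ x ∈ T) ?_ ?_ ?_ ?_ hφ x).mp
    (hR x.2)
  · intro P g _ hg x
    rw [conjHom_apply]
    exact hnorm g hg x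
  · intro P Q φ ψ _ _ hφ hψ h x
    exact (hφ x).trans (hψ ⟨φ x, h x⟩)
  · rintro P φ _ hφ ψ _ hinv ⟨_, x, rfl⟩
    rw [hinv x]
    exact (hφ x).symm
  · intro P hP α hα x
    have hPS : P ≤ S := by
      rcases hP with rfl | hP
      · exact le_rfl
      · exact hP.1.1
    have hFA := isFullyAutomized_of_eq_or_essential p hS F hF hP
    obtain ⟨σ, hσ, ν, hν, rfl⟩ := exists_mul_autInducedBy_pResidual p F hFA hα
    obtain ⟨s, hs, hσs⟩ := (mem_autInducedBy_iff σ).mp hσ
    show (x : Ω) ∈ T ↔ (((σ * (ν : MulAut P)) x : P) : Ω) ∈ T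
    rw [MulAut.mul_apply, hσs, ← hnorm s hs]
    have h1 : (x : Ω)⁻¹ * (((ν : MulAut P) x : P) : Ω) ∈ T := hyperfocal_gen_mem F p hPS ν hν x
    constructor
    · intro hx
      have := T.mul_mem hx h1
      simpa using this
    · intro hy
      have := T.mul_mem hy (T.inv_mem h1)
      simpa using this

end Cfsg.Agent.S5124
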