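import Mathlib
import Cfsg.Statements.S5092
import Cfsg.Agent.Lib.Helper25.FusionHyp

set_option autoImplicit false

namespace Cfsg.Agent.S5092

open Cfsg Cfsg.FusionSystem Cfsg.Agent.Helper25
open scoped commutatorElement

theorem result {Ω : Type*} [Group Ω] {S : Subgroup Ω} [Finite S] (p : ℕ) [Fact p.Prime] (hS : IsPGroup p S) (F : Cfsg.FusionSystem S) (hF : F.IsSaturated p) : F.focalSubgroup = F.hyperfocalSubgroup p ⊔ ⁅(S : Subgroup Ω), (S : Subgroup Ω)⁆ := by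
  set T := F.hyperfocalSubgroup p ⊔ ⁅(S : Subgroup Ω), (S : Subgroup Ω)⁆ with hT
  have hhypT : F.hyperfocalSubgroup p ≤ T := le_sup_left
  have hcommT : ⁅(S : Subgroup Ω), (S : Subgroup Ω)⁆ ≤ T := le_sup_right
  apply le_antisymm
  · -- foc ≤ T by Alperin induction
    unfold FusionSystem.focalSubgroup
    rw [Subgroup.closure_le]
    rintro _ ⟨P, φ, x, hφ, rfl⟩
    refine alperin_induction p hS F hF (fun P φ => ∀ x : P, (x : Ω)⁻¹ * φ x ∈ T) ?_ ?_ ?_ ?_ hφ x
    · intro P g hP hg x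
      rw [conjHom_apply]
      have := commutator_mem_of_mem (hP x.2) hg
      apply hcommT
      simpa [mul_assoc] using this
    · intro P Q φ ψ _ _ hφ hψ h x
      show (x : Ω)⁻¹ * ψ ⟨φ x, h x⟩ ∈ T
      have h1 := hφ x
      have h2 := hψ ⟨φ x, h x⟩
      have : (x : Ω)⁻¹ * ψ ⟨φ x, h x⟩ = ((x : Ω)⁻¹ * φ x) * ((φ x)⁻¹ * ψ ⟨φ x, h x⟩) := by group
      rw [this]
      exact T.mul_mem h1 h2
    · rintro P φ _ hφ ψ _ hinv ⟨_, x, rfl⟩
      show (φ x)⁻¹ * ψ ⟨φ x, _⟩ ∈ T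
      rw [hinv x]
      have := T.inv_mem (hφ x)
      simpa using this
    · intro P hP α hα x
      have hPS : P ≤ S := by
        rcases hP with rfl | hP
        · exact le_rfl
        · exact hP.1.1
      have hFA := isFullyAutomized_of_eq_or_essential p hS F hF hP
      obtain ⟨σ, hσ, ν, hν, rfl⟩ := exists_mul_autInducedBy_pResidual p F hFA hα
      obtain ⟨s, hs, hσs⟩ := (mem_autInducedBy_iff σ).mp hσ
      show (x : Ω)⁻¹ * (((σ * (ν : MulAut P)) x : P) : Ω) ∈ T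
      rw [MulAut.mul_apply, hσs]
      set y := (ν : MulAut P) x with hy
      have h1 : (x : Ω)⁻¹ * (y : Ω) ∈ T := hhypT (hyperfocal_gen_mem F p hPS ν hν x)
      have h2 : (y : Ω)⁻¹ * s * (y : Ω) * s⁻¹ ∈ T := hcommT (commutator_mem_of_mem (hPS y.2) hs)
      have : (x : Ω)⁻¹ * (s * (y : Ω) * s⁻¹) =
          ((x : Ω)⁻¹ * (y : Ω)) * ((y : Ω)⁻¹ * s * (y : Ω) * s⁻¹) := by group
      rw [this]
      exact T.mul_mem h1 h2
  · apply sup_le
    · unfold FusionSystem.hyperfocalSubgroup FusionSystem.focalSubgroup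
      apply Subgroup.closure_mono
      rintro _ ⟨P, α, x, hPS, -, rfl⟩
      exact ⟨P, P.subtype.comp (α : MulAut P).toMonoidHom, x,
        (mem_autGroup_iff F hPS _).mp α.2, rfl⟩
    · rw [Subgroup.commutator_le]
      intro g₁ hg₁ g₂ hg₂
      apply Subgroup.subset_closure
      refine ⟨S, conjHom S g₂, ⟨g₁⁻¹, S.inv_mem hg₁⟩, F.conj_mem le_rfl hg₂, ?_⟩
      rw [conjHom_apply, commutatorElement_def]
      simp [mul_assoc]

end Cfsg.Agent.S5092
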