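import Mathlib
import Cfsg.Statements.S5522
import Cfsg.Agent.Lib.Helper29.M24Classes

set_option autoImplicit false
open Cfsg

namespace Cfsg.Agent.S5522

open scoped Pointwise

open Cfsg.Agent.Helper29.M24 Cfsg.Agent.Helper29 Cfsg.Agent.Helper27 in
theorem squareDodecad_mem : Cfsg.Spor.squareDodecad ∈ Cfsg.dodecads := by
  refine ⟨⟨Cfsg.qrWord 0, qrWord_mem 0, rfl⟩, ?_⟩
  unfold Cfsg.Spor.squareDodecad
  rw [qrWord_eq_ofMask 0, ← maskSet_eq_support₂, card_maskSet]
  decide +kernel

theorem card_golayPt : Fintype.card Cfsg.GolayPt = 24 := by decide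

/-- The Mathieu group M₁₁, realised as the stabiliser of one point of the dodecad of squares inside the stabiliser M₁₂ of that dodecad in M₂₄, acts on the twelve coordinate positions outside the dodecad of squares (its 3-transitive action of degree 12); in this action every element of prime order fixes a point, i.e. the action is elusive. -/
theorem result (g : Equiv.Perm Cfsg.GolayPt) (hg : g ∈ Cfsg.Spor.M11) (hord : (orderOf g).Prime) :
    ∃ x : Cfsg.GolayPt, x ∉ Cfsg.Spor.squareDodecad ∧ g x = x := by
  open Cfsg.Agent.Helper29.M24 Cfsg.Agent.Helper29 Cfsg.Agent.Helper27 in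
  have hD := squareDodecad_mem
  rw [Cfsg.Spor.M11, Cfsg.Spor.M12, Subgroup.mem_inf, Subgroup.mem_inf,
    MulAction.mem_stabilizer_iff, MulAction.mem_stabilizer_iff] at hg
  obtain ⟨⟨hgM, hgD⟩, hg0⟩ := hg
  have hg0' : g (some 0) = some 0 := hg0
  have hne : g ≠ 1 := by
    rintro rfl
    rw [orderOf_one] at hord
    exact Nat.not_prime_one hord
  have hA := card_fixed_dodecad_le _ hD g hgM hgD hne
  by_cases h12 : orderOf g ∣ 12
  · have hp23 : orderOf g = 2 ∨ orderOf g = 3 := by
      have hle : orderOf g ≤ 12 := Nat.le_of_dvd (by norm_num) h12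
      revert hord h12
      generalize orderOf g = p at hle
      intro hord h12
      interval_cases p <;> first | (left; rfl) | (right; rfl) | (exfalso; revert hord; decide) | (exfalso; revert h12; decide)
    have h6 : 6 ≤ (Finset.univ.filter fun p => g p = p).card := by
      rcases hp23 with h2 | h3
      · rcases invol_fixed g hgM h2 with ⟨ho, -⟩ | ⟨hf, -⟩
        · rw [ho.2]; norm_num
        · exact absurd hg0' (hf _)
      · rcases ord3_fixed g hgM h3 with ⟨hc, -⟩ | ⟨hf, -⟩
        · rw [hc]
        · exact absurd hg0' (hf _)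
    have hsplit := Finset.card_inter_add_card_sdiff (Finset.univ.filter fun p => g p = p)
      Cfsg.Spor.squareDodecad
    have hinter : (Finset.univ.filter fun p => g p = p) ∩ Cfsg.Spor.squareDodecad
        = Cfsg.Spor.squareDodecad.filter fun p => g p = p := by
      ext p
      simp only [Finset.mem_inter, Finset.mem_filter, Finset.mem_univ, true_and]
      exact and_comm
    rw [hinter] at hsplit
    have hpos : 0 < ((Finset.univ.filter fun p => g p = p) \ Cfsg.Spor.squareDodecad).card := by
      omega
    obtain ⟨x, hx⟩ := Finset.card_pos.1 hpos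
    rw [Finset.mem_sdiff, Finset.mem_filter] at hx
    exact ⟨x, hx.2, hx.1.2⟩
  · have hS : ∀ x, g x ∈ Cfsg.Spor.squareDodecadᶜ ↔ x ∈ Cfsg.Spor.squareDodecadᶜ := by
      intro x
      rw [Finset.mem_compl, Finset.mem_compl, not_iff_not]
      conv_lhs => rw [← hgD]
      exact Finset.smul_mem_smul_finset_iff g
    have hcard : (Cfsg.Spor.squareDodecadᶜ).card = 12 := by
      rw [Finset.card_compl, card_golayPt, hD.2]
    obtain ⟨x, hx, hgx⟩ := exists_fixed_of_not_dvd g (orderOf g) hord (pow_orderOf_eq_one g)
      _ hS (by rw [hcard]; exact h12)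
    exact ⟨x, Finset.mem_compl.1 hx, hgx⟩

end Cfsg.Agent.S5522
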