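import Cfsg.Agent.Lib.Helper15.CoprimeGen2
import Cfsg.Agent.Lib.Helper22.PPrimeCore
import Cfsg.Statements.S1120
-- import your own Cfsg.Agent.* helpers here

set_option autoImplicit false
open Cfsg

namespace Cfsg.Agent.S1120

open MulAction in
/-- two-transitivity, elementwise -/
theorem two_trans {G Ω : Type*} [Group G] [MulAction G Ω] {a : Ω} {t : G} {Q : Subgroup G}
    (hS : Cfsg.IsRankOneSetup G Ω a t Q) {c d c' d' : Ω} (h : c ≠ d) (h' : c' ≠ d') :
    ∃ g : G, g • c = c' ∧ g • d = d' :=
  (MulAction.is_two_pretransitive_iff.mp hS.two_transitive) h h'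

theorem ta_ne {G Ω : Type*} [Group G] [MulAction G Ω] {a : Ω} {t : G} {Q : Subgroup G}
    (hS : Cfsg.IsRankOneSetup G Ω a t Q) : t • a ≠ a := by
  intro h
  exact hS.not_mem (MulAction.mem_stabilizer_iff.mpr h)

/-- an involution fixes at most one point -/
theorem invol_fix_unique {G Ω : Type*} [Group G] [Finite G] [MulAction G Ω] {a : Ω} {t : G}
    {Q : Subgroup G} (hS : Cfsg.IsRankOneSetup G Ω a t Q) {v : G} (hv1 : v ≠ 1) (hv : v * v = 1)
    {c d : Ω} (hc : v • c = c) (hd : v • d = d) : c = d := by
  by_contra hcd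
  obtain ⟨g, hga, hgb⟩ := two_trans hS (ta_ne hS).symm hcd
  have hmem : g⁻¹ * v * g ∈ MulAction.stabilizer G a ⊓ MulAction.stabilizer G (t • a) := by
    refine Subgroup.mem_inf.mpr ⟨?_, ?_⟩
    · rw [MulAction.mem_stabilizer_iff, mul_smul, mul_smul, hga, hc, ← hga, inv_smul_smul]
    · rw [MulAction.mem_stabilizer_iff, mul_smul, mul_smul, hgb, hd, ← hgb, inv_smul_smul]
  set D := MulAction.stabilizer G a ⊓ MulAction.stabilizer G (t • a) with hD
  have hord : orderOf (g⁻¹ * v * g) = 2 := by
    apply orderOf_eq_prime
    · rw [sq]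
      have : g⁻¹ * v * g * (g⁻¹ * v * g) = g⁻¹ * (v * v) * g := by group
      rw [this, hv]; group
    · intro h
      apply hv1
      have : v = g * (g⁻¹ * v * g) * g⁻¹ := by group
      rw [this, h]; group
  have hdvd : 2 ∣ Nat.card D := by
    have h1 := Subgroup.orderOf_dvd_natCard D hmem
    rwa [hord] at h1
  have hodd := hS.odd_card
  rw [← hD] at hodd
  rcases hodd with ⟨m, hm⟩
  omega

/-- the set is finite -/
theorem finite_omega {G Ω : Type*} [Group G] [Finite G] [MulAction G Ω] {a : Ω} {t : G}
    {Q : Subgroup G} (hS : Cfsg.IsRankOneSetup G Ω a t Q) : Finite Ω := by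
  haveI := hS.two_transitive
  haveI : MulAction.IsPretransitive G Ω := MulAction.isPretransitive_of_is_two_pretransitive
  exact Finite.of_surjective (fun g : G => g • a) (MulAction.surjective_smul G a)

/-- parity of fixed points of an involution -/
theorem card_mod_fix {G Ω : Type*} [Group G] [MulAction G Ω] [Fintype Ω] [DecidableEq Ω]
    {v : G} (hv : v * v = 1) :
    Fintype.card Ω % 2 = (Finset.univ.filter (fun x : Ω => v • x = x)).card % 2 := by
  let f : Function.End Ω := fun x => v • x
  have hf : f ^ 2 ^ 1 = 1 := by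
    rw [pow_one, sq]
    funext x
    show v • v • x = x
    rw [← mul_smul, hv, one_smul]
  have : Fact (Nat.Prime 2) := ⟨Nat.prime_two⟩
  have hmod := Equiv.Perm.card_fixedPoints_modEq (α := Ω) hf
  have hcard : Fintype.card (Function.fixedPoints f) =
      (Finset.univ.filter (fun x : Ω => v • x = x)).card := by
    rw [← Fintype.card_subtype]
    rfl
  rw [← hcard]
  exact hmod

/-- the degree is odd -/
theorem odd_card_omega {G Ω : Type*} [Group G] [Finite G] [MulAction G Ω] [Fintype Ω]
    [DecidableEq Ω] {a : Ω} {t : G}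
    {Q : Subgroup G} (hS : Cfsg.IsRankOneSetup G Ω a t Q) : Fintype.card Ω % 2 = 1 := by
  have : Fact (Nat.Prime 2) := ⟨Nat.prime_two⟩
  have h2 : 2 ∣ Nat.card Q := hS.even_card.two_dvd
  obtain ⟨z, hz⟩ := exists_prime_orderOf_dvd_card' (G := Q) 2 h2
  have hz1 : (z : G) ≠ 1 := by
    intro h
    have : z = 1 := Subtype.ext h
    rw [this, orderOf_one] at hz
    omega
  have hzz : (z : G) * z = 1 := by
    have := pow_orderOf_eq_one z
    rw [hz, sq] at this
    exact congrArg Subtype.val this
  have hza : (z : G) • a = a := MulAction.mem_stabilizer_iff.mp (hS.le z.2)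
  rw [card_mod_fix hzz]
  have : Finset.univ.filter (fun x : Ω => (z : G) • x = x) = {a} := by
    ext x
    rw [Finset.mem_filter, Finset.mem_singleton]
    constructor
    · rintro ⟨-, hx⟩
      exact invol_fix_unique hS hz1 hzz hx hza
    · rintro rfl
      exact ⟨Finset.mem_univ _, hza⟩
  rw [this, Finset.card_singleton]

/-- an involution has a fixed point -/
theorem invol_fix_exists {G Ω : Type*} [Group G] [Finite G] [MulAction G Ω] {a : Ω} {t : G}
    {Q : Subgroup G} (hS : Cfsg.IsRankOneSetup G Ω a t Q) {v : G} (hv : v * v = 1) :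
    ∃ c : Ω, v • c = c := by
  classical
  haveI := finite_omega hS
  haveI : Fintype Ω := Fintype.ofFinite Ω
  have h1 := odd_card_omega hS
  rw [card_mod_fix hv] at h1
  have : (Finset.univ.filter (fun x : Ω => v • x = x)).Nonempty := by
    rw [Finset.nonempty_iff_ne_empty]
    intro h
    rw [h, Finset.card_empty] at h1
    omega
  obtain ⟨c, hc⟩ := this
  exact ⟨c, (Finset.mem_filter.mp hc).2⟩

/-- the subgroup generated by two commuting involutions -/
theorem four_group {G : Type*} [Group G] {x y : G} (hx1 : x ≠ 1) (hy1 : y ≠ 1) (hxy : x ≠ y)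
    (hx : x * x = 1) (hy : y * y = 1) (hc : x * y = y * x) :
    Cfsg.IsElementaryAbelian 2 (Subgroup.closure ({x, y} : Set G)) ∧
      2 ^ 2 ≤ Nat.card ↥(Subgroup.closure ({x, y} : Set G)) := by
  set U := Subgroup.closure ({x, y} : Set G) with hU
  have hxU : x ∈ U := Subgroup.subset_closure (by simp)
  have hyU : y ∈ U := Subgroup.subset_closure (by simp)
  -- every element of `U` commutes with `x` and `y`
  have hcent : U ≤ Subgroup.centralizer ({x, y} : Set G) := by
    rw [hU, Subgroup.closure_le]
    intro g hg
    rw [SetLike.mem_coe, Subgroup.mem_centralizer_iff]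
    intro h hh
    rcases hg with rfl | rfl <;> rcases hh with rfl | rfl
    · rfl
    · exact hc.symm
    · exact hc
    · rfl
  have hcomm : ∀ u ∈ U, ∀ w ∈ U, u * w = w * u := by
    intro u hu w hw
    have h1 : U ≤ Subgroup.centralizer ({u} : Set G) := by
      rw [hU, Subgroup.closure_le]
      intro g hg
      rw [SetLike.mem_coe, Subgroup.mem_centralizer_iff]
      intro h hh
      rw [Set.mem_singleton_iff] at hh
      subst hh
      have := (Subgroup.mem_centralizer_iff.mp (hcent hu)) g hg
      exact this.symm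
    have := (Subgroup.mem_centralizer_iff.mp (h1 hw)) u rfl
    exact this
  have hsq : ∀ u ∈ U, u ^ 2 = 1 := by
    intro u hu
    induction hu using Subgroup.closure_induction with
    | mem g hg =>
      rcases hg with hg' | hg'
      · rw [hg', sq, hx]
      · rw [Set.mem_singleton_iff] at hg'; rw [hg', sq]; exact hy
    | one => exact one_pow 2
    | mul g h hg hh ihg ihh =>
      have := hcomm g hg h hh
      rw [sq] at ihg ihh ⊢
      calc g * h * (g * h) = g * (h * g) * h := by group
        _ = g * (g * h) * h := by rw [this]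
        _ = (g * g) * (h * h) := by group
        _ = 1 := by rw [ihg, ihh, one_mul]
    | inv g hg ihg =>
      rw [inv_pow, ihg, inv_one]
  have hEA : Cfsg.IsElementaryAbelian 2 U := by
    refine ⟨⟨⟨fun u w => Subtype.ext (hcomm u u.2 w w.2)⟩⟩, hsq⟩
  refine ⟨hEA, ?_⟩
  have hp : IsPGroup 2 ↥U := by
    intro u
    refine ⟨1, ?_⟩
    rw [pow_one]
    exact Subtype.ext (hsq u u.2)
  by_cases hfin : Finite ↥U
  · obtain ⟨k, hk⟩ := IsPGroup.iff_card.mp hp
    rw [hk]
    apply Nat.pow_le_pow_right (by norm_num)
    by_contra hk2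
    have hk1 : k ≤ 1 := by omega
    have hle : Nat.card ↥U ≤ 2 := by
      rw [hk]
      calc 2 ^ k ≤ 2 ^ 1 := Nat.pow_le_pow_right (by norm_num) hk1
        _ = 2 := by norm_num
    haveI : Fintype ↥U := Fintype.ofFinite _
    rw [Nat.card_eq_fintype_card] at hle
    have h3 : 2 < Fintype.card ↥U := by
      rw [Fintype.two_lt_card_iff]
      refine ⟨1, ⟨x, hxU⟩, ⟨y, hyU⟩, ?_, ?_, ?_⟩
      · intro h; exact hx1 (congrArg Subtype.val h).symm
      · intro h; exact hy1 (congrArg Subtype.val h).symm
      · intro h; exact hxy (congrArg Subtype.val h)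
    omega
  · exfalso
    apply hfin
    -- `U = {1, x, y, x*y}` is finite
    have hsub : (U : Set G) ⊆ {1, x, y, x * y} := by
      intro u hu
      induction hu using Subgroup.closure_induction with
      | mem g hg =>
        rcases hg with hg' | hg'
        · rw [hg']; simp
        · rw [Set.mem_singleton_iff] at hg'; rw [hg']; simp
      | one => simp
      | mul g h _ _ ihg ihh =>
        simp only [Set.mem_insert_iff, Set.mem_singleton_iff] at ihg ihh ⊢
        rcases ihg with hg' | hg' | hg' | hg' <;> rcases ihh with hh' | hh' | hh' | hh' <;>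
          rw [hg', hh']
        · simp
        · simp
        · simp
        · simp
        · simp
        · left; rw [hx]
        · simp
        · right; right; left; rw [← mul_assoc, hx, one_mul]
        · simp
        · right; right; right; exact hc.symm
        · left; exact hy
        · right; left
          calc y * (x * y) = (y * x) * y := by group
            _ = (x * y) * y := by rw [hc]
            _ = x * (y * y) := by group
            _ = x := by rw [hy, mul_one]
        · simp
        · right; right; left
          calc x * y * x = x * (y * x) := by group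
            _ = x * (x * y) := by rw [hc]
            _ = (x * x) * y := by group
            _ = y := by rw [hx, one_mul]
        · right; left
          calc x * y * y = x * (y * y) := by group
            _ = x := by rw [hy, mul_one]
        · left
          calc x * y * (x * y) = x * (y * x) * y := by group
            _ = x * (x * y) * y := by rw [hc]
            _ = (x * x) * (y * y) := by group
            _ = 1 := by rw [hx, hy, one_mul]
      | inv g _ ihg =>
        simp only [Set.mem_insert_iff, Set.mem_singleton_iff] at ihg ⊢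
        have hxi : x⁻¹ = x := inv_eq_of_mul_eq_one_right hx
        have hyi : y⁻¹ = y := inv_eq_of_mul_eq_one_right hy
        rcases ihg with hg' | hg' | hg' | hg' <;> rw [hg']
        · simp
        · right; left; exact hxi
        · right; right; left; exact hyi
        · right; right; right
          rw [mul_inv_rev, hxi, hyi, hc]
    exact Set.Finite.subset (by simp) hsub

/-- the odd core fixes the common fixed point of a four-group -/
theorem core_le_stab {G Ω : Type*} [Group G] [Finite G] [MulAction G Ω] {a : Ω} {t : G}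
    {Q : Subgroup G} (hS : Cfsg.IsRankOneSetup G Ω a t Q)
    (h2 : ∃ x y : G, x ≠ 1 ∧ y ≠ 1 ∧ x ≠ y ∧ x * x = 1 ∧ y * y = 1 ∧ x * y = y * x) :
    ∃ c : Ω, Cfsg.pPrimeCore 2 G ≤ MulAction.stabilizer G c := by
  obtain ⟨x, y, hx1, hy1, hxy, hx, hy, hc⟩ := h2
  obtain ⟨c, hxc⟩ := invol_fix_exists hS hx
  have hyc : y • c = c := by
    apply invol_fix_unique hS hx1 hx _ hxc
    rw [← mul_smul, hc, mul_smul, hxc]
  refine ⟨c, ?_⟩
  obtain ⟨hEA, hcard⟩ := four_group hx1 hy1 hxy hx hy hc
  haveI : Fact (Nat.Prime 2) := ⟨Nat.prime_two⟩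
  set U := Subgroup.closure ({x, y} : Set G) with hU
  have hUc : U ≤ MulAction.stabilizer G c := by
    rw [hU, Subgroup.closure_le]
    intro g hg
    rcases hg with rfl | rfl
    · exact MulAction.mem_stabilizer_iff.mpr hxc
    · exact MulAction.mem_stabilizer_iff.mpr hyc
  haveI hN := Cfsg.Agent.Helper22.pPrimeCore_normal (G := G) 2
  apply Cfsg.Agent.Helper15.le_of_forall_ne_one_inf_centralizer_le (p := 2) hEA hcard
    (Cfsg.Agent.Helper22.card_pPrimeCore_coprime 2)
  · rw [Subgroup.normalizer_eq_top_iff.mpr hN]
    exact le_top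
  · intro u hu hu1 n hn
    obtain ⟨-, hn2⟩ := hn
    have huc : u • c = c := MulAction.mem_stabilizer_iff.mp (hUc hu)
    have huu : u * u = 1 := by
      have := hEA.2 u hu
      rwa [sq] at this
    rw [MulAction.mem_stabilizer_iff]
    apply invol_fix_unique hS hu1 huu _ huc
    have hcomm : u * n = n * u := (Subgroup.mem_centralizer_iff.mp hn2) u rfl
    rw [← mul_smul, hcomm, mul_smul, huc]

/-- In the rank-one set-up (`G` finite and doubly transitive on `Ω`, `t` an involution moving `a`, `Q` normal in `G_a` with `G_a = Q D`, `Q ⊓ D = 1` for the two-point stabiliser `D = G_a ⊓ G_{t • a}`, `|Q|` even, `|D|` odd), if `G` has 2-rank at least 2 then `O_{2'}(G)` equals the normal core of `G_a`. -/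
theorem result {G Ω : Type*} [Group G] [Finite G] [MulAction G Ω] {a : Ω} {t : G} {Q : Subgroup G}
    (hS : Cfsg.IsRankOneSetup G Ω a t Q)
    (h2 : ∃ x y : G, x ≠ 1 ∧ y ≠ 1 ∧ x ≠ y ∧ x * x = 1 ∧ y * y = 1 ∧ x * y = y * x) :
    Cfsg.pPrimeCore 2 G = (MulAction.stabilizer G a).normalCore := by
  haveI hN := Cfsg.Agent.Helper22.pPrimeCore_normal (G := G) 2
  apply le_antisymm
  · rw [Subgroup.normal_le_normalCore]
    obtain ⟨c, hc⟩ := core_le_stab hS h2
    haveI := hS.two_transitive
    haveI : MulAction.IsPretransitive G Ω := MulAction.isPretransitive_of_is_two_pretransitive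
    obtain ⟨g, hg⟩ := MulAction.exists_smul_eq G c a
    intro n hn
    rw [MulAction.mem_stabilizer_iff]
    have h1 : g⁻¹ * n * g ∈ Cfsg.pPrimeCore 2 G := by
      have := hN.conj_mem n hn g⁻¹
      rwa [inv_inv] at this
    have h2' := MulAction.mem_stabilizer_iff.mp (hc h1)
    rw [mul_smul, mul_smul, hg] at h2'
    calc n • a = g • (g⁻¹ • (n • a)) := by rw [smul_inv_smul]
      _ = g • c := by rw [h2']
      _ = a := hg
  · apply Cfsg.Agent.Helper22.le_pPrimeCore 2 _ (Subgroup.normalCore_normal _)
    set K := (MulAction.stabilizer G a).normalCore with hK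
    have hKn : K.Normal := Subgroup.normalCore_normal _
    have hKD : K ≤ MulAction.stabilizer G a ⊓ MulAction.stabilizer G (t • a) := by
      intro k hk
      refine Subgroup.mem_inf.mpr ⟨Subgroup.normalCore_le _ hk, ?_⟩
      have h1 : t⁻¹ * k * t ∈ K := by
        have := hKn.conj_mem k hk t⁻¹
        rwa [inv_inv] at this
      have h2' := MulAction.mem_stabilizer_iff.mp (Subgroup.normalCore_le _ h1)
      rw [MulAction.mem_stabilizer_iff]
      rw [mul_smul, mul_smul] at h2'
      calc k • t • a = t • (t⁻¹ • (k • t • a)) := by rw [smul_inv_smul]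
        _ = t • a := by rw [h2']
    have hdvd := Subgroup.card_dvd_of_le hKD
    have hodd := hS.odd_card
    rw [Nat.coprime_two_right]
    exact Odd.of_dvd_nat hodd hdvd

end Cfsg.Agent.S1120
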