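import Mathlib
import Cfsg.Statements.S1118
import Cfsg.Agent.Lib.Helper6.RankOne

set_option autoImplicit false
open Cfsg

namespace Cfsg.Agent.S1118

open Cfsg.Agent.Helper6.RankOne MulAction

variable {G Ω : Type*} [Group G] [MulAction G Ω] {a : Ω} {t : G} {Q : Subgroup G}

theorem fix_unique (hS : Cfsg.IsRankOneSetup G Ω a t Q) (q : G) (hq : q ∈ Q) (hq1 : q ≠ 1) (b : Ω)
    (h : q • b = b) : b = a := by
  by_contra hb
  exact hq1 (eq_one_of_smul_eq hS q hq b hb h)

theorem exists_ne_one [Finite G] (hS : Cfsg.IsRankOneSetup G Ω a t Q) : ∃ q ∈ Q, q ≠ 1 := by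
  have h1 : 1 < Nat.card Q := by
    have hpos : 0 < Nat.card Q := Nat.card_pos
    obtain ⟨k, hk⟩ := hS.even_card
    omega
  have : Nontrivial Q := Finite.one_lt_card_iff_nontrivial.mp h1
  obtain ⟨q, hq⟩ := exists_ne (1 : Q)
  refine ⟨q.1, q.2, ?_⟩
  intro h
  apply hq
  exact Subtype.ext h

theorem part1 (hS : Cfsg.IsRankOneSetup G Ω a t Q) (X : Set G) (hX : X ⊆ (Q : Set G)) (hne : ∃ x ∈ X, x ≠ 1) :
    Subgroup.normalizer X ≤ stabilizer G a := by
  intro g hg
  obtain ⟨x, hxX, hx1⟩ := hne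
  rw [Subgroup.mem_set_normalizer_iff] at hg
  have h1 : g * x * g⁻¹ ∈ X := (hg x).mp hxX
  have h2 : g * x * g⁻¹ ≠ 1 := by
    intro h
    apply hx1
    calc x = g⁻¹ * (g * x * g⁻¹) * g := by group
      _ = 1 := by rw [h]; group
  rw [mem_stabilizer_iff]
  apply fix_unique hS (g * x * g⁻¹) (hX h1) h2
  rw [mul_smul, mul_smul, inv_smul_smul, mem_stabilizer_iff.mp (hS.le (hX hxX))]

/-- `N_G(X) ≤ G_a` for `X ⊆ Q` with a non-identity element; `N_G(Q) = N_G(G_a) = G_a`. -/
theorem result {G Ω : Type*} [Group G] [Finite G] [MulAction G Ω] {a : Ω} {t : G} {Q : Subgroup G}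
    (hS : Cfsg.IsRankOneSetup G Ω a t Q) :
    (∀ X : Set G, X ⊆ (Q : Set G) → (∃ x ∈ X, x ≠ 1) → Subgroup.normalizer X ≤ MulAction.stabilizer G a) ∧
      Subgroup.normalizer (Q : Set G) = MulAction.stabilizer G a ∧
      Subgroup.normalizer (MulAction.stabilizer G a : Set G) = MulAction.stabilizer G a := by
  refine ⟨fun X hX hne => part1 hS X hX hne, ?_, ?_⟩
  · apply le_antisymm
    · apply part1 hS _ (le_refl _)
      obtain ⟨q, hq, hq1⟩ := exists_ne_one hS
      exact ⟨q, hq, hq1⟩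
    · intro h hh
      rw [Subgroup.mem_normalizer_iff]
      intro x
      constructor
      · intro hx
        exact hS.conj_mem h hh x hx
      · intro hx
        have := hS.conj_mem h⁻¹ (Subgroup.inv_mem _ hh) _ hx
        have e : h⁻¹ * (h * x * h⁻¹) * h⁻¹⁻¹ = x := by group
        rwa [e] at this
  · apply le_antisymm
    · intro g hg
      obtain ⟨q, hq, hq1⟩ := exists_ne_one hS
      have hg' := Subgroup.mem_normalizer_iff''.mp hg q
      have h1 : g⁻¹ * q * g ∈ stabilizer G a := hg'.mp (hS.le hq)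
      rw [mem_stabilizer_iff]
      apply fix_unique hS q hq hq1
      have := mem_stabilizer_iff.mp h1
      rw [mul_smul, mul_smul] at this
      calc q • g • a = g • (g⁻¹ • q • g • a) := by rw [smul_inv_smul]
        _ = g • a := by rw [this]
    · exact Subgroup.le_normalizer

end Cfsg.Agent.S1118
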