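import Mathlib
import Cfsg.Statements.S1119
import Cfsg.Agent.Lib.Helper6.RankOne

set_option autoImplicit false
open Cfsg

namespace Cfsg.Agent.S1119

open Cfsg.Agent.Helper6.RankOne MulAction

variable {G Ω : Type*} [Group G] [MulAction G Ω] {a : Ω} {t : G} {Q : Subgroup G}

/-- the points are `a` together with the `Q`-orbit of `t • a`. -/
theorem card_points [Finite G] (hS : Cfsg.IsRankOneSetup G Ω a t Q) : Nat.card Ω = Nat.card Q + 1 := by
  let f : Option Q → Ω := fun o => match o with
    | none => a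
    | some q => (q : G) • t • a
  have hf : Function.Bijective f := by
    constructor
    · intro o o' h
      rcases o with _ | q <;> rcases o' with _ | q'
      · rfl
      · exfalso
        have h' : a = (q' : G) • t • a := h
        have : t • a = a := by
          calc t • a = (q' : G)⁻¹ • (q' : G) • t • a := by rw [inv_smul_smul]
            _ = (q' : G)⁻¹ • a := by rw [← h']
            _ = a := mem_stabilizer_iff.mp (Subgroup.inv_mem _ (hS.le q'.2))
        exact ta_ne hS this
      · exfalso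
        have h' : (q : G) • t • a = a := h
        have : t • a = a := by
          calc t • a = (q : G)⁻¹ • (q : G) • t • a := by rw [inv_smul_smul]
            _ = (q : G)⁻¹ • a := by rw [h']
            _ = a := mem_stabilizer_iff.mp (Subgroup.inv_mem _ (hS.le q.2))
        exact ta_ne hS this
      · have h' : (q : G) • t • a = (q' : G) • t • a := h
        have h1 : ((q' : G)⁻¹ * (q : G)) = 1 := by
          apply eq_one_of_smul_eq hS _ (Q.mul_mem (Q.inv_mem q'.2) q.2) (t • a) (ta_ne hS)
          rw [mul_smul, h', inv_smul_smul]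
        congr 1
        apply Subtype.ext
        calc (q : G) = (q' : G) * ((q' : G)⁻¹ * (q : G)) := by group
          _ = q' := by rw [h1, mul_one]
    · intro b
      by_cases hb : b = a
      · exact ⟨none, hb.symm⟩
      · obtain ⟨q, hq, hqb⟩ := exists_q_smul hS b hb
        exact ⟨some ⟨q, hq⟩, hqb⟩
  rw [← Nat.card_congr (Equiv.ofBijective f hf), Finite.card_option]

theorem card_stabilizer [Finite G] (hS : Cfsg.IsRankOneSetup G Ω a t Q) :
    Nat.card (stabilizer G a) = Nat.card Q * Nat.card ↥(stabilizer G a ⊓ stabilizer G (t • a)) := by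
  let f : ↥Q × ↥(stabilizer G a ⊓ stabilizer G (t • a)) → ↥(stabilizer G a) :=
    fun p => ⟨(p.1 : G) * (p.2 : G), Subgroup.mul_mem _ (hS.le p.1.2) p.2.2.1⟩
  have hf : Function.Bijective f := by
    constructor
    · rintro ⟨q, d⟩ ⟨q', d'⟩ h
      have h' : (q : G) * (d : G) = (q' : G) * (d' : G) := congrArg Subtype.val h
      obtain ⟨e1, e2⟩ := qd_unique hS q.2 q'.2 d.2 d'.2 h'
      exact Prod.ext (Subtype.ext e1) (Subtype.ext e2)
    · rintro ⟨h, hh⟩
      obtain ⟨q, hq, d, hd, rfl⟩ := exists_qd hS h hh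
      exact ⟨(⟨q, hq⟩, ⟨d, hd⟩), rfl⟩
  rw [← Nat.card_prod]
  exact (Nat.card_congr (Equiv.ofBijective f hf)).symm

theorem card_group [Finite G] (hS : Cfsg.IsRankOneSetup G Ω a t Q) :
    Nat.card G = Nat.card Q * Nat.card ↥(stabilizer G a ⊓ stabilizer G (t • a)) * (Nat.card Q + 1) := by
  have : IsPretransitive G Ω := by
    have := hS.two_transitive
    exact isPretransitive_of_is_two_pretransitive
  have h1 : (stabilizer G a).index = Nat.card Ω := index_stabilizer_of_transitive (G := G) (x := a)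
  rw [← card_points hS, ← card_stabilizer hS, ← h1]
  exact (Subgroup.card_mul_index _).symm

theorem exists_sylow [Finite G] (hS : Cfsg.IsRankOneSetup G Ω a t Q) : ∃ P : Sylow 2 G, (P : Subgroup G) ≤ Q := by
  have : Fact (Nat.Prime 2) := ⟨Nat.prime_two⟩
  obtain ⟨S₀⟩ : Nonempty (Sylow 2 Q) := inferInstance
  have hc : Nat.card ((S₀ : Subgroup Q).map Q.subtype) = 2 ^ (Nat.card G).factorization 2 := by
    rw [Subgroup.card_map_of_injective Q.subtype_injective, S₀.card_eq_multiplicity, card_group hS]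
    congr 1
    have hQ0 : Nat.card Q ≠ 0 := Nat.card_pos.ne'
    have hD0 : Nat.card ↥(stabilizer G a ⊓ stabilizer G (t • a)) ≠ 0 := Nat.card_pos.ne'
    rw [Nat.factorization_mul (Nat.mul_ne_zero hQ0 hD0) (Nat.succ_ne_zero _),
      Nat.factorization_mul hQ0 hD0]
    have h1 : (Nat.card ↥(stabilizer G a ⊓ stabilizer G (t • a))).factorization 2 = 0 := by
      apply Nat.factorization_eq_zero_of_not_dvd
      intro h
      have := hS.odd_card
      rw [← Nat.not_even_iff_odd] at this
      exact this (even_iff_two_dvd.mpr h)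
    have h2 : (Nat.card Q + 1).factorization 2 = 0 := by
      apply Nat.factorization_eq_zero_of_not_dvd
      intro h
      have h3 := hS.even_card
      have : Odd (Nat.card Q + 1) := h3.add_one
      rw [← Nat.not_even_iff_odd] at this
      exact this (even_iff_two_dvd.mpr h)
    rw [Finsupp.add_apply, Finsupp.add_apply, h1, h2, add_zero, add_zero]
  refine ⟨Sylow.ofCard _ hc, ?_⟩
  rw [Sylow.coe_ofCard]
  exact Subgroup.map_subtype_le _

/-- Regularity of `Q`, the counting formulas, a Sylow 2-subgroup inside `Q`, and the canonical form. -/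
theorem result {G Ω : Type*} [Group G] [Finite G] [MulAction G Ω] {a : Ω} {t : G} {Q : Subgroup G}
    (hS : Cfsg.IsRankOneSetup G Ω a t Q) :
    (∀ b c : Ω, b ≠ a → c ≠ a → ∃! x : Q, (x : G) • b = c) ∧
      Nat.card Ω = Nat.card Q + 1 ∧
      Nat.card G = Nat.card Q * Nat.card ↥(MulAction.stabilizer G a ⊓ MulAction.stabilizer G (t • a)) * (Nat.card Q + 1) ∧
      (∃ P : Sylow 2 G, (P : Subgroup G) ≤ Q) ∧
      ∀ g : G, g ∉ MulAction.stabilizer G a → ∃! p : G × G, p.1 ∈ MulAction.stabilizer G a ∧ p.2 ∈ Q ∧ g = p.1 * t * p.2 := by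
  refine ⟨fun b c hb hc => existsUnique_smul hS b c hb hc, card_points hS, card_group hS, exists_sylow hS, ?_⟩
  intro g hg
  have hti : t⁻¹ = t := t_inv hS
  have hc : g⁻¹ • a ≠ a := by
    intro h
    apply hg
    have : g⁻¹ ∈ stabilizer G a := mem_stabilizer_iff.mpr h
    have := Subgroup.inv_mem _ this
    rwa [inv_inv] at this
  obtain ⟨⟨y, hy⟩, hy1, -⟩ := existsUnique_smul hS (g⁻¹ • a) (t • a) hc (ta_ne hS)
  have hy1' : y • g⁻¹ • a = t • a := hy1
  have hx : g * y⁻¹ * t ∈ stabilizer G a := by
    rw [mem_stabilizer_iff, mul_smul, mul_smul, ← hy1', inv_smul_smul, smul_inv_smul]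
  refine ⟨(g * y⁻¹ * t, y), ⟨hx, hy, ?_⟩, ?_⟩
  · show g = g * y⁻¹ * t * t * y
    calc g = g * y⁻¹ * (t * t) * y := by rw [hS.mul_self]; group
      _ = g * y⁻¹ * t * t * y := by group
  · rintro ⟨x', y'⟩ ⟨hx', hy', hg'⟩
    simp only at hx' hy' hg'
    have e : x' * t * y' = (g * y⁻¹ * t) * t * y := by
      rw [← hg']
      calc g = g * y⁻¹ * (t * t) * y := by rw [hS.mul_self]; group
        _ = g * y⁻¹ * t * t * y := by group
    obtain ⟨e1, e2⟩ := canonical_unique hS hx' hx hy' hy e
    rw [e1, e2]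

end Cfsg.Agent.S1119
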