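import Mathlib
import Cfsg.Statements.S1121
import Cfsg.Agent.Lib.Helper6.RankOne
import Cfsg.Agent.Lib.Helper6.Dihedral
import Cfsg.Agent.S1118
import Cfsg.Agent.S1119

set_option autoImplicit false
open Cfsg

namespace Cfsg.Agent.S1121

open Cfsg.Agent.Helper6.RankOne Cfsg.Agent.Helper6 MulAction

variable {G Ω : Type*} [Group G] [MulAction G Ω] {a : Ω} {t : G} {Q : Subgroup G}

/-- an involution of `G_a` lies in `Q`. -/
theorem invol_mem_Q [Finite G] (hS : Cfsg.IsRankOneSetup G Ω a t Q) (s : G) (hs : s ∈ stabilizer G a)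
    (hss : s * s = 1) : s ∈ Q := by
  obtain ⟨q, hq, d, hd, rfl⟩ := exists_qd hS s hs
  -- d * d ∈ Q ⊓ D
  have h1 : d * d = (d * q * d⁻¹)⁻¹ * q⁻¹ := by
    calc d * d = (d * q * d⁻¹)⁻¹ * q⁻¹ * (q * d * (q * d)) := by group
      _ = (d * q * d⁻¹)⁻¹ * q⁻¹ := by rw [hss, mul_one]
  have h2 : d * d ∈ Q ⊓ (stabilizer G a ⊓ stabilizer G (t • a)) := by
    refine Subgroup.mem_inf.mpr ⟨?_, Subgroup.mul_mem _ hd hd⟩
    rw [h1]
    exact Q.mul_mem (Q.inv_mem (hS.conj_mem d hd.1 q hq)) (Q.inv_mem hq)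
  rw [Q_inf_D hS, Subgroup.mem_bot] at h2
  -- d has odd order dividing 2
  have h3 : orderOf (⟨d, hd⟩ : ↥(stabilizer G a ⊓ stabilizer G (t • a))) ∣ Nat.card ↥(stabilizer G a ⊓ stabilizer G (t • a)) :=
    orderOf_dvd_natCard _
  rw [Subgroup.orderOf_mk] at h3
  have h4 : Odd (orderOf d) := Odd.of_dvd_nat hS.odd_card h3
  obtain ⟨m, hm⟩ := h4
  have h5 : d = 1 := by
    apply eq_one_of_sq_of_odd_pow h2 m
    rw [← hm]; exact pow_orderOf_eq_one d
  rw [h5, mul_one]; exact hq

/-- an involution has at most one fixed point. -/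
theorem invol_fix_unique [Finite G] (hS : Cfsg.IsRankOneSetup G Ω a t Q) (u : G) (hu1 : u ≠ 1) (huu : u * u = 1)
    (c c' : Ω) (hc : u • c = c) (hc' : u • c' = c') : c = c' := by
  have : IsPretransitive G Ω := by
    have := hS.two_transitive
    exact isPretransitive_of_is_two_pretransitive
  obtain ⟨g, hg⟩ := exists_smul_eq G a c
  have hw : g⁻¹ * u * g ∈ stabilizer G a := by
    rw [mem_stabilizer_iff, mul_smul, mul_smul, hg, hc, ← hg, inv_smul_smul]
  have hww : (g⁻¹ * u * g) * (g⁻¹ * u * g) = 1 := by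
    calc (g⁻¹ * u * g) * (g⁻¹ * u * g) = g⁻¹ * (u * u) * g := by group
      _ = 1 := by rw [huu]; group
  have hw1 : g⁻¹ * u * g ≠ 1 := by
    intro h
    apply hu1
    calc u = g * (g⁻¹ * u * g) * g⁻¹ := by group
      _ = 1 := by rw [h]; group
  have hwQ := invol_mem_Q hS _ hw hww
  have h1 : g⁻¹ • c' = a := by
    apply Cfsg.Agent.S1118.fix_unique hS _ hwQ hw1
    rw [mul_smul, mul_smul, smul_inv_smul, hc']
  rw [← hg, ← h1, smul_inv_smul]

/-- an involution has a fixed point. -/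
theorem invol_fix_exists [Finite G] (hS : Cfsg.IsRankOneSetup G Ω a t Q) (u : G) (huu : u * u = 1) :
    ∃ c : Ω, u • c = c := by
  have : Fact (Nat.Prime 2) := ⟨Nat.prime_two⟩
  have hp : IsPGroup 2 (Subgroup.zpowers u) := by
    intro x
    refine ⟨1, ?_⟩
    obtain ⟨x, ⟨k, rfl⟩⟩ := x
    apply Subtype.ext
    show (u ^ k) ^ 2 ^ 1 = 1
    rw [pow_one, ← zpow_natCast, ← zpow_mul, mul_comm, zpow_mul, zpow_natCast, pow_two, huu, one_zpow]
  have hodd : ¬ 2 ∣ Nat.card Ω := by
    rw [Cfsg.Agent.S1119.card_points hS]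
    obtain ⟨k, hk⟩ := hS.even_card
    omega
  obtain ⟨c, hc⟩ := hp.nonempty_fixed_point_of_prime_not_dvd_card Ω hodd
  refine ⟨c, ?_⟩
  have := hc ⟨u, Subgroup.mem_zpowers u⟩
  exact this

/-- two involutions with distinct fixed points have a product of odd order. -/
theorem odd_of_fix_ne [Finite G] (hS : Cfsg.IsRankOneSetup G Ω a t Q) (u v : G) (hu1 : u ≠ 1) (huu : u * u = 1)
    (hv1 : v ≠ 1) (hvv : v * v = 1) (c d : Ω) (hc : u • c = c) (hd : v • d = d) (hcd : c ≠ d) :
    Odd (orderOf (u * v)) := by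
  rcases Nat.even_or_odd (orderOf (u * v)) with he | ho
  · exfalso
    obtain ⟨k, hk⟩ := he
    have hpos : 0 < orderOf (u * v) := orderOf_pos _
    set z := (u * v) ^ k with hz
    have hz1 : z ≠ 1 := pow_ne_one_of_lt_orderOf (by omega) (by omega)
    have hzz : z * z = 1 := by rw [hz, ← pow_add, ← hk, pow_orderOf_eq_one]
    have hzi : z⁻¹ = z := inv_eq_self_of_mul_self hzz
    have huz : u * z = z * u := by
      have := mul_pow_eq u v huu hvv k
      rw [← hz, hzi] at this
      exact this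
    have hrz : (u * v) * z = z * (u * v) := by
      rw [hz, ← pow_succ', ← pow_succ]
    have hvz : v * z = z * v := by
      have hv' : v = u * (u * v) := by rw [← mul_assoc, huu, one_mul]
      calc v * z = u * ((u * v) * z) := by rw [← mul_assoc, ← hv']
        _ = u * (z * (u * v)) := by rw [hrz]
        _ = (u * z) * (u * v) := by group
        _ = (z * u) * (u * v) := by rw [huz]
        _ = z * (u * (u * v)) := by group
        _ = z * v := by rw [← hv']
    -- z fixes c and d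
    have hzc : z • c = c := by
      apply invol_fix_unique hS u hu1 huu _ _ _ hc
      rw [← mul_smul, huz, mul_smul, hc]
    have hzd : z • d = d := by
      apply invol_fix_unique hS v hv1 hvv _ _ _ hd
      rw [← mul_smul, hvz, mul_smul, hd]
    exact hcd (invol_fix_unique hS z hz1 hzz c d hzc hzd)
  · exact ho

theorem conj_of_fix_ne [Finite G] (hS : Cfsg.IsRankOneSetup G Ω a t Q) (u v : G) (hu1 : u ≠ 1) (huu : u * u = 1)
    (hv1 : v ≠ 1) (hvv : v * v = 1) (c d : Ω) (hc : u • c = c) (hd : v • d = d) (hcd : c ≠ d) :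
    ∃ g : G, g * u * g⁻¹ = v := by
  obtain ⟨k, hk⟩ := odd_of_fix_ne hS u v hu1 huu hv1 hvv c d hc hd hcd
  refine ⟨(u * v) ^ k, conj_of_odd_order u v huu hvv k ?_⟩
  rw [← hk]; exact pow_orderOf_eq_one _

/-- products of an involution in `G_a` and one outside have odd order; all involutions are conjugate. -/
theorem result {G Ω : Type*} [Group G] [Finite G] [MulAction G Ω] {a : Ω} {t : G} {Q : Subgroup G}
    (hS : Cfsg.IsRankOneSetup G Ω a t Q) :
    (∀ s u : G, s ∈ MulAction.stabilizer G a → s ≠ 1 → s * s = 1 → u ∉ MulAction.stabilizer G a → u ≠ 1 → u * u = 1 → Odd (orderOf (s * u))) ∧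
      ∀ u v : G, u ≠ 1 → u * u = 1 → v ≠ 1 → v * v = 1 → ∃ g : G, g * u * g⁻¹ = v := by
  constructor
  · intro s u hs hs1 hss hu hu1 huu
    obtain ⟨c, hc⟩ := invol_fix_exists hS u huu
    have hca : a ≠ c := by
      rintro rfl
      exact hu (mem_stabilizer_iff.mpr hc)
    exact odd_of_fix_ne hS s u hs1 hss hu1 huu a c (mem_stabilizer_iff.mp hs) hc hca
  · intro u v hu1 huu hv1 hvv
    obtain ⟨c, hc⟩ := invol_fix_exists hS u huu
    obtain ⟨d, hd⟩ := invol_fix_exists hS v hvv
    by_cases hcd : c = d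
    · -- move c to another point
      have : IsPretransitive G Ω := by
        have := hS.two_transitive
        exact isPretransitive_of_is_two_pretransitive
      obtain ⟨e, hec⟩ : ∃ e : Ω, e ≠ c := by
        by_cases h : c = a
        · exact ⟨t • a, by rw [h]; exact ta_ne hS⟩
        · exact ⟨a, fun h' => h h'.symm⟩
      obtain ⟨h, hh⟩ := exists_smul_eq G c e
      have hw1 : h * u * h⁻¹ ≠ 1 := by
        intro h'
        apply hu1
        calc u = h⁻¹ * (h * u * h⁻¹) * h := by group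
          _ = 1 := by rw [h']; group
      have hww : (h * u * h⁻¹) * (h * u * h⁻¹) = 1 := by
        calc (h * u * h⁻¹) * (h * u * h⁻¹) = h * (u * u) * h⁻¹ := by group
          _ = 1 := by rw [huu]; group
      have hwe : (h * u * h⁻¹) • e = e := by
        rw [mul_smul, mul_smul, ← hh, inv_smul_smul, hc]
      obtain ⟨g, hg⟩ := conj_of_fix_ne hS _ v hw1 hww hv1 hvv e d hwe hd (by rw [← hcd]; exact hec)
      refine ⟨g * h, ?_⟩
      rw [← hg]; group
    · exact conj_of_fix_ne hS u v hu1 huu hv1 hvv c d hc hd hcd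

end Cfsg.Agent.S1121
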