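import Mathlib
import Cfsg.Statements.S1123
import Cfsg.Agent.Lib.Helper6.RankOne
import Cfsg.Agent.S1121

set_option autoImplicit false
open Cfsg

namespace Cfsg.Agent.S1123

open Cfsg.Agent.Helper6.RankOne MulAction

theorem tt_cancel {G : Type*} [Group G] {t : G} (htt : t * t = 1) (x : G) :
    t * (t * x * t) * t = x := by
  calc t * (t * x * t) * t = (t * t) * x * (t * t) := by group
    _ = x := by rw [htt, one_mul, mul_one]

theorem tconj_eq_one {G : Type*} [Group G] {t x : G} (htt : t * t = 1) (h : t * x * t = 1) :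
    x = 1 := by
  calc x = t * (t * x * t) * t := (tt_cancel htt x).symm
    _ = 1 := by rw [h, mul_one, htt]

theorem tconj_sq {G : Type*} [Group G] {t x : G} (htt : t * t = 1) (h : x * x = 1) :
    (t * x * t) * (t * x * t) = 1 := by
  calc (t * x * t) * (t * x * t) = t * x * (t * t) * x * t := by group
    _ = t * (x * x) * t := by rw [htt]; group
    _ = 1 := by rw [h, mul_one, htt]

/-- There is a unique pair `(s, r)` with `s` an involution of `G_a`, `r ∈ Q` and `t s t = r⁻¹ t r`. -/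
theorem result {G Ω : Type*} [Group G] [Finite G] [MulAction G Ω] {a : Ω} {t : G} {Q : Subgroup G}
    (hS : Cfsg.IsRankOneSetup G Ω a t Q) :
    ∃! p : G × G, p.1 ∈ Cfsg.involutionsIn (MulAction.stabilizer G a : Set G) ∧ p.2 ∈ Q ∧
      t * p.1 * t = p.2⁻¹ * t * p.2 := by
  have htt : t * t = 1 := hS.mul_self
  have hti : t⁻¹ = t := t_inv hS
  obtain ⟨c, hc⟩ := Cfsg.Agent.S1121.invol_fix_exists hS t htt
  have hca : c ≠ a := by
    rintro rfl
    exact hS.not_mem (mem_stabilizer_iff.mpr hc)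
  obtain ⟨⟨r, hr⟩, hr1, hr2⟩ := existsUnique_smul hS (t • a) c (ta_ne hS) hca
  have hr1' : r • t • a = c := hr1
  have hrinv : r⁻¹ • c = t • a := by rw [← hr1', inv_smul_smul]
  refine ⟨(t * (r⁻¹ * t * r) * t, r), ⟨⟨?_, ?_, ?_⟩, hr, ?_⟩, ?_⟩
  · show t * (r⁻¹ * t * r) * t ∈ stabilizer G a
    rw [mem_stabilizer_iff]
    simp only [mul_smul]
    rw [hr1', hc, hrinv, tta hS]
  · intro h
    have h' : t * (r⁻¹ * t * r) * t = 1 := h
    apply hS.ne_one
    have h1 : r⁻¹ * t * r = 1 := tconj_eq_one htt h'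
    calc t = r * (r⁻¹ * t * r) * r⁻¹ := by group
      _ = 1 := by rw [h1]; group
  · show t * (r⁻¹ * t * r) * t * (t * (r⁻¹ * t * r) * t) = 1
    apply tconj_sq htt
    calc r⁻¹ * t * r * (r⁻¹ * t * r) = r⁻¹ * (t * t) * r := by group
      _ = 1 := by rw [htt]; group
  · show t * (t * (r⁻¹ * t * r) * t) * t = r⁻¹ * t * r
    exact tt_cancel htt _
  · rintro ⟨s', r'⟩ ⟨⟨hs'a, hs'1, hs'2⟩, hr', he⟩
    simp only at hs'a hs'1 hs'2 hr' he
    -- the involution t s' t = r'⁻¹ t r' fixes t • a and r'⁻¹ • c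
    have hw1 : (t * s' * t) ≠ 1 := fun h => hs'1 (tconj_eq_one htt h)
    have hw2 : (t * s' * t) * (t * s' * t) = 1 := tconj_sq htt hs'2
    have hf1 : (t * s' * t) • (t • a) = t • a := by
      simp only [mul_smul]
      rw [tta hS, mem_stabilizer_iff.mp hs'a]
    have hf2 : (t * s' * t) • (r'⁻¹ • c) = r'⁻¹ • c := by
      rw [he]
      simp only [mul_smul]
      rw [smul_inv_smul, hc]
    have h1 := Cfsg.Agent.S1121.invol_fix_unique hS _ hw1 hw2 _ _ hf1 hf2
    have h2 : r' • t • a = c := by rw [h1, smul_inv_smul]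
    have h3 : (⟨r', hr'⟩ : Q) = ⟨r, hr⟩ := hr2 ⟨r', hr'⟩ h2
    have h4 : r' = r := congrArg Subtype.val h3
    subst h4
    have h5 : s' = t * (r'⁻¹ * t * r') * t := by
      calc s' = t * (t * s' * t) * t := (tt_cancel htt s').symm
        _ = t * (r'⁻¹ * t * r') * t := by rw [he]
    rw [h5]

end Cfsg.Agent.S1123
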