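import Mathlib
import Cfsg.Statements.S1122
import Cfsg.Agent.Lib.Helper6.RankOne
import Cfsg.Agent.Lib.Helper6.Dihedral
import Cfsg.Agent.Lib.Helper6.Count
import Cfsg.Agent.S1121
import Cfsg.Agent.S1123

set_option autoImplicit false
open Cfsg

namespace Cfsg.Agent.S1122

open Cfsg.Agent.Helper6.RankOne Cfsg.Agent.Helper6 MulAction Cfsg.Agent.S1123

variable {G Ω : Type*} [Group G] [Finite G] [MulAction G Ω] {a : Ω} {t : G} {Q : Subgroup G}

/-- membership in `K` of `t * u` (and of `u * t`) for an involution `u` interchanging `a` and `t • a` -/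
theorem tu_mem_K (hS : Cfsg.IsRankOneSetup G Ω a t Q) (u : G) (huu : u * u = 1) (hua : u • a = t • a) :
    t * u ∈ Cfsg.invertedBy (MulAction.stabilizer G a ⊓ MulAction.stabilizer G (t • a)) t := by
  have htt : t * t = 1 := hS.mul_self
  have hti : t⁻¹ = t := t_inv hS
  have hui : u⁻¹ = u := inv_eq_self_of_mul_self huu
  have hub : u • t • a = a := by rw [← hua, ← mul_smul, huu, one_smul]
  refine ⟨Subgroup.mem_inf.mpr ⟨?_, ?_⟩, ?_⟩
  · rw [mem_stabilizer_iff, mul_smul, hua, tta hS]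
  · rw [mem_stabilizer_iff, mul_smul, hub]
  · rw [mul_inv_rev, hui, hti]
    calc t * (t * u) * t = (t * t) * u * t := by group
      _ = u * t := by rw [htt, one_mul]

theorem ut_mem_K (hS : Cfsg.IsRankOneSetup G Ω a t Q) (u : G) (huu : u * u = 1) (hua : u • a = t • a) :
    u * t ∈ Cfsg.invertedBy (MulAction.stabilizer G a ⊓ MulAction.stabilizer G (t • a)) t := by
  have htt : t * t = 1 := hS.mul_self
  have hti : t⁻¹ = t := t_inv hS
  have hui : u⁻¹ = u := inv_eq_self_of_mul_self huu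
  have hub : u • t • a = a := by rw [← hua, ← mul_smul, huu, one_smul]
  refine ⟨Subgroup.mem_inf.mpr ⟨?_, ?_⟩, ?_⟩
  · rw [mem_stabilizer_iff, mul_smul, hub]
  · rw [mem_stabilizer_iff, mul_smul, tta hS, hua]
  · rw [mul_inv_rev, hui, hti]
    calc t * (u * t) * t = t * u * (t * t) := by group
      _ = t * u := by rw [htt, mul_one]

/-- for `k ∈ K`, `t * k` is an involution interchanging `a` and `t • a` -/
theorem tk_invol (hS : Cfsg.IsRankOneSetup G Ω a t Q) (k : G)
    (hk : k ∈ Cfsg.invertedBy (MulAction.stabilizer G a ⊓ MulAction.stabilizer G (t • a)) t) :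
    (t * k) * (t * k) = 1 ∧ t * k ≠ 1 ∧ (t * k) • a = t • a := by
  have htt : t * t = 1 := hS.mul_self
  have hti : t⁻¹ = t := t_inv hS
  obtain ⟨hkD, hkt⟩ := hk
  have hka : (t * k) • a = t • a := by rw [mul_smul, mem_stabilizer_iff.mp hkD.1]
  refine ⟨?_, ?_, hka⟩
  · rw [hti] at hkt
    calc (t * k) * (t * k) = (t * k * t) * k := by group
      _ = 1 := by rw [hkt, inv_mul_cancel]
  · intro h
    rw [h, one_smul] at hka
    exact ta_ne hS hka.symm

/-- the conjugate `t s t` of an involution `s` of `G_a` -/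
theorem tst_props (hS : Cfsg.IsRankOneSetup G Ω a t Q) (s : G)
    (hs : s ∈ Cfsg.involutionsIn (MulAction.stabilizer G a : Set G)) :
    (t * s * t) ≠ 1 ∧ (t * s * t) * (t * s * t) = 1 ∧ (t * s * t) • t • a = t • a ∧ (t * s * t) • a ≠ a := by
  have htt : t * t = 1 := hS.mul_self
  obtain ⟨hsa, hs1, hss⟩ := hs
  have h1 : (t * s * t) ≠ 1 := fun h => hs1 (tconj_eq_one htt h)
  have h2 : (t * s * t) * (t * s * t) = 1 := tconj_sq htt hss
  have h3 : (t * s * t) • t • a = t • a := by
    rw [mul_smul, mul_smul, tta hS, mem_stabilizer_iff.mp hsa]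
  refine ⟨h1, h2, h3, ?_⟩
  intro h
  exact ta_ne hS (Cfsg.Agent.S1121.invol_fix_unique hS _ h1 h2 _ _ h3 h)

/-- `|K| = |I_a|`, and `K` is transitive on the involutions of `G_a`. -/
theorem result {G Ω : Type*} [Group G] [Finite G] [MulAction G Ω] {a : Ω} {t : G} {Q : Subgroup G}
    (hS : Cfsg.IsRankOneSetup G Ω a t Q) :
    Nat.card (Cfsg.invertedBy (MulAction.stabilizer G a ⊓ MulAction.stabilizer G (t • a)) t) = Nat.card (Cfsg.involutionsIn (MulAction.stabilizer G a : Set G)) ∧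
      ∀ s ∈ Cfsg.involutionsIn (MulAction.stabilizer G a : Set G), ∀ s' ∈ Cfsg.involutionsIn (MulAction.stabilizer G a : Set G),
        ∃ k ∈ Cfsg.invertedBy (MulAction.stabilizer G a ⊓ MulAction.stabilizer G (t • a)) t, k⁻¹ * s * k = s' := by
  have htt : t * t = 1 := hS.mul_self
  have hti : t⁻¹ = t := t_inv hS
  constructor
  · apply card_eq_of_rel _ _ (fun k s => ∃ q ∈ Q, t * s * t = q⁻¹ * (t * k) * q)
    · -- every k is related to some s
      intro k hk
      obtain ⟨huu, hu1, hua⟩ := tk_invol hS k hk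
      obtain ⟨c, hc⟩ := Cfsg.Agent.S1121.invol_fix_exists hS (t * k) huu
      have hca : c ≠ a := by
        rintro rfl
        rw [hc] at hua
        exact ta_ne hS hua.symm
      obtain ⟨⟨q, hq⟩, hq1, -⟩ := existsUnique_smul hS (t • a) c (ta_ne hS) hca
      have hq1' : q • t • a = c := hq1
      have hqi : q⁻¹ • c = t • a := by rw [← hq1', inv_smul_smul]
      refine ⟨t * (q⁻¹ * (t * k) * q) * t, ⟨?_, ?_, ?_⟩, q, hq, tt_cancel htt _⟩
      · show t * (q⁻¹ * (t * k) * q) * t ∈ stabilizer G a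
        rw [mem_stabilizer_iff, mul_smul, mul_smul, mul_smul, mul_smul, hq1', hc, hqi, tta hS]
      · intro h
        apply hu1
        have := tconj_eq_one htt h
        calc t * k = q * (q⁻¹ * (t * k) * q) * q⁻¹ := by group
          _ = 1 := by rw [this]; group
      · apply tconj_sq htt
        calc q⁻¹ * (t * k) * q * (q⁻¹ * (t * k) * q) = q⁻¹ * ((t * k) * (t * k)) * q := by group
          _ = 1 := by rw [huu]; group
    · -- every s is related to some k
      intro s hs
      obtain ⟨h1, h2, h3, h4⟩ := tst_props hS s hs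
      obtain ⟨⟨q, hq⟩, hq1, -⟩ := existsUnique_smul hS ((t * s * t) • a) (t • a) h4 (ta_ne hS)
      have hq1' : q • (t * s * t) • a = t • a := hq1
      have hqa : q⁻¹ • a = a := by
        rw [inv_smul_eq_iff, mem_stabilizer_iff.mp (hS.le hq)]
      have huu : (q * (t * s * t) * q⁻¹) * (q * (t * s * t) * q⁻¹) = 1 := by
        calc (q * (t * s * t) * q⁻¹) * (q * (t * s * t) * q⁻¹)
            = q * ((t * s * t) * (t * s * t)) * q⁻¹ := by group
          _ = 1 := by rw [h2]; group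
      have hua : (q * (t * s * t) * q⁻¹) • a = t • a := by
        rw [mul_smul, mul_smul, hqa, hq1']
      refine ⟨t * (q * (t * s * t) * q⁻¹), tu_mem_K hS _ huu hua, q, hq, ?_⟩
      calc t * s * t = q⁻¹ * ((t * t) * (q * (t * s * t) * q⁻¹)) * q := by rw [htt]; group
        _ = q⁻¹ * (t * (t * (q * (t * s * t) * q⁻¹))) * q := by group
    · -- injectivity in k
      rintro k₁ hk₁ k₂ hk₂ s hs ⟨q₁, hq₁, e₁⟩ ⟨q₂, hq₂, e₂⟩
      obtain ⟨h1, h2, h3, h4⟩ := tst_props hS s hs
      obtain ⟨-, -, hua₁⟩ := tk_invol hS k₁ hk₁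
      obtain ⟨-, -, hua₂⟩ := tk_invol hS k₂ hk₂
      have hqa₁ : q₁ • a = a := mem_stabilizer_iff.mp (hS.le hq₁)
      have hqa₂ : q₂ • a = a := mem_stabilizer_iff.mp (hS.le hq₂)
      have f₁ : q₁ • (t * s * t) • a = t • a := by
        rw [e₁, ← mul_smul]
        have : q₁ * (q₁⁻¹ * (t * k₁) * q₁) = (t * k₁) * q₁ := by group
        rw [this, mul_smul, hqa₁, hua₁]
      have f₂ : q₂ • (t * s * t) • a = t • a := by
        rw [e₂, ← mul_smul]
        have : q₂ * (q₂⁻¹ * (t * k₂) * q₂) = (t * k₂) * q₂ := by group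
        rw [this, mul_smul, hqa₂, hua₂]
      obtain ⟨q, -, hq'⟩ := existsUnique_smul hS ((t * s * t) • a) (t • a) h4 (ta_ne hS)
      have g₁ := hq' ⟨q₁, hq₁⟩ f₁
      have g₂ := hq' ⟨q₂, hq₂⟩ f₂
      have hqq : q₁ = q₂ := congrArg Subtype.val (g₁.trans g₂.symm)
      subst hqq
      have : t * k₁ = t * k₂ := by
        calc t * k₁ = q₁ * (q₁⁻¹ * (t * k₁) * q₁) * q₁⁻¹ := by group
          _ = q₁ * (q₁⁻¹ * (t * k₂) * q₁) * q₁⁻¹ := by rw [← e₁, e₂]
          _ = t * k₂ := by group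
      exact mul_left_cancel this
    · -- injectivity in s
      rintro k hk s₁ hs₁ s₂ hs₂ ⟨q₁, hq₁, e₁⟩ ⟨q₂, hq₂, e₂⟩
      obtain ⟨huu, hu1, hua⟩ := tk_invol hS k hk
      obtain ⟨-, -, hb₁, -⟩ := tst_props hS s₁ hs₁
      obtain ⟨-, -, hb₂, -⟩ := tst_props hS s₂ hs₂
      have f₁ : (t * k) • q₁ • t • a = q₁ • t • a := by
        have : (t * k) * q₁ = q₁ * (q₁⁻¹ * (t * k) * q₁) := by group
        rw [← mul_smul, this, ← e₁, mul_smul, hb₁]
      have f₂ : (t * k) • q₂ • t • a = q₂ • t • a := by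
        have : (t * k) * q₂ = q₂ * (q₂⁻¹ * (t * k) * q₂) := by group
        rw [← mul_smul, this, ← e₂, mul_smul, hb₂]
      have hfix := Cfsg.Agent.S1121.invol_fix_unique hS (t * k) hu1 huu _ _ f₁ f₂
      have hne : q₁ • t • a ≠ a := by
        intro h
        have h' : q₁ • t • a = q₁ • a := h.trans (mem_stabilizer_iff.mp (hS.le hq₁)).symm
        exact ta_ne hS (smul_left_cancel q₁ h')
      obtain ⟨q, -, hq'⟩ := existsUnique_smul hS (t • a) (q₁ • t • a) (ta_ne hS) hne
      have g₁ := hq' ⟨q₁, hq₁⟩ rfl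
      have g₂ := hq' ⟨q₂, hq₂⟩ hfix.symm
      have hqq : q₁ = q₂ := congrArg Subtype.val (g₁.trans g₂.symm)
      subst hqq
      have : t * s₁ * t = t * s₂ * t := e₁.trans e₂.symm
      exact mul_left_cancel (mul_right_cancel this)
  · intro s hs s' hs'
    obtain ⟨hsa, hs1, hss⟩ := hs
    obtain ⟨h1, h2, h3, h4⟩ := tst_props hS s' hs'
    have hsa' : s • a = a := mem_stabilizer_iff.mp hsa
    obtain ⟨m, hm⟩ := Cfsg.Agent.S1121.odd_of_fix_ne hS s (t * s' * t) hs1 hss h1 h2 a (t • a) hsa' h3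
      (ta_ne hS).symm
    have hpow : (s * (t * s' * t)) ^ (2 * m + 1) = 1 := by rw [← hm]; exact pow_orderOf_eq_one _
    have hconj := conj_of_odd_order s (t * s' * t) hss h2 m hpow
    set g := (s * (t * s' * t)) ^ m with hg
    have hsi : s⁻¹ = s := inv_eq_self_of_mul_self hss
    have hsg : s * g * s⁻¹ = g⁻¹ := conj_pow_inv s (t * s' * t) hss h2 m
    have hsg' : s * g * s = g⁻¹ := by rw [hsi] at hsg; exact hsg
    -- w = g * s is an involution with w s w = t s' t
    have hww : (g * s) * (g * s) = 1 := by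
      calc (g * s) * (g * s) = g * (s * g * s) := by group
        _ = 1 := by rw [hsg', mul_inv_cancel]
    have hwi : (g * s)⁻¹ = g * s := inv_eq_self_of_mul_self hww
    have hwsw : (g * s) * s * (g * s) = t * s' * t := by
      calc (g * s) * s * (g * s) = (g * s) * s * (g * s)⁻¹ := by rw [hwi]
        _ = g * s * g⁻¹ := by group
        _ = t * s' * t := hconj
    -- w maps a to t • a
    have hwa : (g * s) • a = t • a := by
      have : (t * s' * t) • (g * s) • a = (g * s) • a := by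
        rw [← hwsw, ← mul_smul]
        have : (g * s) * s * (g * s) * (g * s) = (g * s) * s * ((g * s) * (g * s)) := by group
        rw [this, hww, mul_one, mul_smul, hsa']
      exact Cfsg.Agent.S1121.invol_fix_unique hS _ h1 h2 _ _ this h3
    refine ⟨(g * s) * t, ut_mem_K hS _ hww hwa, ?_⟩
    rw [mul_inv_rev, hti, hwi]
    calc t * (g * s) * s * ((g * s) * t) = t * ((g * s) * s * (g * s)) * t := by group
      _ = t * (t * s' * t) * t := by rw [hwsw]
      _ = s' := tt_cancel htt s'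

end Cfsg.Agent.S1122
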