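import Cfsg.Agent.S1129
import Cfsg.Agent.S1121
import Cfsg.Agent.Lib.Helper3.ZGroupInv
import Cfsg.Agent.Lib.Helper22.PPrimeCore
import Cfsg.Statements.S1130
-- import your own Cfsg.Agent.* helpers here

set_option autoImplicit false
open Cfsg

namespace Cfsg.Agent.S1130

open MulAction

/-- a finite nilpotent group of even order has a central involution -/
theorem exists_central_invol {Q : Type*} [Group Q] [Finite Q] (hn : Group.IsNilpotent Q)
    (he : Even (Nat.card Q)) : ∃ z ∈ Subgroup.center Q, z ≠ 1 ∧ z * z = 1 := by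
  haveI : Fact (Nat.Prime 2) := ⟨Nat.prime_two⟩
  have hsyl : ∀ (p : ℕ) (_hp : Fact p.Prime) (P : Sylow p Q), (↑P : Subgroup Q).Normal :=
    (Group.isNilpotent_of_finite_tfae.out 0 3 rfl rfl).mp hn
  obtain ⟨S⟩ : Nonempty (Sylow 2 Q) := inferInstance
  haveI hSn : (S : Subgroup Q).Normal := hsyl 2 inferInstance S
  -- `S` is nontrivial
  have hScard : Nat.card S = 2 ^ (Nat.card Q).factorization 2 := S.card_eq_multiplicity
  have hfac : 1 ≤ (Nat.card Q).factorization 2 := by
    have h2 : 2 ∣ Nat.card Q := he.two_dvd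
    exact (Nat.Prime.dvd_iff_one_le_factorization Nat.prime_two Nat.card_pos.ne').mp h2
  have hS1 : 1 < Nat.card S := by
    rw [hScard]
    exact Nat.one_lt_two_pow (by omega)
  haveI : Nontrivial ↥(S : Subgroup Q) := Finite.one_lt_card_iff_nontrivial.mp hS1
  haveI := IsPGroup.center_nontrivial S.isPGroup'
  -- an involution in the centre of `S`
  have hZp : IsPGroup 2 ↥(Subgroup.center ↥(S : Subgroup Q)) := S.isPGroup'.to_subgroup _
  have hZ2 : 2 ∣ Nat.card ↥(Subgroup.center ↥(S : Subgroup Q)) := by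
    obtain ⟨k, hk⟩ := IsPGroup.iff_card.mp hZp
    have h1 : 1 < Nat.card ↥(Subgroup.center ↥(S : Subgroup Q)) :=
      Finite.one_lt_card_iff_nontrivial.mpr inferInstance
    rw [hk] at h1 ⊢
    have : k ≠ 0 := by
      rintro rfl
      simp at h1
    exact dvd_pow_self 2 this
  obtain ⟨z', hz'⟩ := exists_prime_orderOf_dvd_card' (G := ↥(Subgroup.center ↥(S : Subgroup Q))) 2 hZ2
  set z : Q := ((z' : ↥(S : Subgroup Q)) : Q) with hz
  have hz1 : z ≠ 1 := by
    intro h
    have : z' = 1 := by
      apply Subtype.ext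
      apply Subtype.ext
      exact h
    rw [this, orderOf_one] at hz'
    omega
  have hzz : z * z = 1 := by
    have := pow_orderOf_eq_one z'
    rw [hz', sq] at this
    have h1 := congrArg (fun w : ↥(Subgroup.center ↥(S : Subgroup Q)) => ((w : ↥(S : Subgroup Q)) : Q)) this
    exact h1
  have hzS : z ∈ (S : Subgroup Q) := (z' : ↥(S : Subgroup Q)).2
  have hzc : ∀ s ∈ (S : Subgroup Q), s * z = z * s := by
    intro s hs
    have := (Subgroup.mem_center_iff.mp z'.2) ⟨s, hs⟩
    exact congrArg Subtype.val this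
  -- the odd core
  set N := Cfsg.pPrimeCore 2 Q with hN
  haveI hNn : N.Normal := Cfsg.Agent.Helper22.pPrimeCore_normal 2
  have hNc : (Nat.card N).Coprime 2 := Cfsg.Agent.Helper22.card_pPrimeCore_coprime 2
  have htop : (S : Subgroup Q) ⊔ N = ⊤ := by
    apply Cfsg.Agent.Helper3.ZGroupInv.eq_top_of_sylow_le
    intro q hq R
    by_cases hq2 : q = 2
    · subst hq2
      have : R = S := by
        obtain ⟨g, hg⟩ := MulAction.exists_smul_eq Q S R
        rw [← hg]
        exact Sylow.smul_eq_of_normal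
      rw [this]
      exact le_sup_left
    · refine le_trans ?_ le_sup_right
      apply Cfsg.Agent.Helper22.le_pPrimeCore 2 _ (hsyl q hq R)
      obtain ⟨k, hk⟩ := IsPGroup.iff_card.mp R.isPGroup'
      rw [hk]
      apply Nat.Coprime.pow_left
      rw [Nat.coprime_primes hq.out Nat.prime_two]
      exact hq2
  have hdisj : Disjoint (S : Subgroup Q) N := by
    apply Subgroup.disjoint_of_coprime_natCard
    rw [hScard]
    exact Nat.Coprime.pow_left _ hNc.symm
  refine ⟨z, ?_, hz1, hzz⟩
  rw [Subgroup.mem_center_iff]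
  intro g
  have hg : g ∈ ((S : Subgroup Q) ⊔ N : Subgroup Q) := by rw [htop]; trivial
  obtain ⟨s, hs, n, hn', rfl⟩ := Subgroup.mem_sup_of_normal_right.mp hg
  have h1 : n * z = z * n := (Subgroup.commute_of_normal_of_disjoint (S : Subgroup Q) N hSn hNn hdisj z n hzS hn').eq.symm
  calc s * n * z = s * (n * z) := by group
    _ = s * (z * n) := by rw [h1]
    _ = (s * z) * n := by group
    _ = (z * s) * n := by rw [hzc s hs]
    _ = z * (s * n) := by group

/-- In the rank-one set-up (`G` finite and doubly transitive on `Ω`, `t` an involution moving `a`, `Q` normal in `G_a` with `G_a = Q D`, `Q ⊓ D = 1` for the two-point stabiliser `D = G_a ⊓ G_{t • a}`, `|Q|` even, `|D|` odd), with the action faithful and `G` containing two distinct commuting involutions: the involutions of `G_a` lie in `Z(Q)`, and together with `1` they are closed under multiplication (so form an elementary abelian 2-subgroup). -/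
theorem result {G Ω : Type*} [Group G] [Finite G] [MulAction G Ω] [FaithfulSMul G Ω] {a : Ω} {t : G} {Q : Subgroup G}
    (hS : Cfsg.IsRankOneSetup G Ω a t Q)
    (h2 : ∃ x y : G, x ≠ 1 ∧ y ≠ 1 ∧ x ≠ y ∧ x * x = 1 ∧ y * y = 1 ∧ x * y = y * x) :
    (∀ s ∈ Cfsg.involutionsIn (MulAction.stabilizer G a : Set G), s ∈ Q ∧ ∀ x ∈ Q, s * x = x * s) ∧
      ∀ s ∈ Cfsg.involutionsIn (MulAction.stabilizer G a : Set G), ∀ s' ∈ Cfsg.involutionsIn (MulAction.stabilizer G a : Set G),
        s * s' = 1 ∨ s * s' ∈ Cfsg.involutionsIn (MulAction.stabilizer G a : Set G) := by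
  have hnil := Cfsg.Agent.S1129.result hS h2
  obtain ⟨z, hzc, hz1, hzz⟩ := exists_central_invol hnil hS.even_card
  have hz0 : (z : G) ∈ Cfsg.involutionsIn (MulAction.stabilizer G a : Set G) := by
    refine ⟨hS.le z.2, ?_, ?_⟩
    · intro h; exact hz1 (Subtype.ext h)
    · exact congrArg Subtype.val hzz
  have hzcomm : ∀ x ∈ Q, (z : G) * x = x * z := by
    intro x hx
    have := (Subgroup.mem_center_iff.mp hzc) ⟨x, hx⟩
    exact (congrArg Subtype.val this).symm
  have hcent : ∀ s ∈ Cfsg.involutionsIn (MulAction.stabilizer G a : Set G), s ∈ Q ∧ ∀ x ∈ Q, s * x = x * s := by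
    intro s hs
    obtain ⟨k, hk, hks⟩ := (Cfsg.Agent.S1122.result hS).2 (z : G) hz0 s hs
    have hka : k ∈ MulAction.stabilizer G a := hk.1.1
    have hkia : k⁻¹ ∈ MulAction.stabilizer G a := Subgroup.inv_mem _ hka
    constructor
    · rw [← hks]
      have := hS.conj_mem k⁻¹ hkia (z : G) z.2
      rwa [inv_inv] at this
    · intro x hx
      have hx' : k * x * k⁻¹ ∈ Q := hS.conj_mem k hka x hx
      have h1 := hzcomm _ hx'
      rw [← hks]
      calc k⁻¹ * (z : G) * k * x = k⁻¹ * ((z : G) * (k * x * k⁻¹)) * k := by group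
        _ = k⁻¹ * ((k * x * k⁻¹) * (z : G)) * k := by rw [h1]
        _ = x * (k⁻¹ * (z : G) * k) := by group
  refine ⟨hcent, ?_⟩
  intro s hs s' hs'
  by_cases h1 : s * s' = 1
  · left; exact h1
  · right
    obtain ⟨hsQ, hsc⟩ := hcent s hs
    obtain ⟨hsQ', -⟩ := hcent s' hs'
    refine ⟨Subgroup.mul_mem _ hs.1 hs'.1, h1, ?_⟩
    have hcomm := hsc s' hsQ'
    calc s * s' * (s * s') = s * (s' * s) * s' := by group
      _ = s * (s * s') * s' := by rw [hcomm]
      _ = (s * s) * (s' * s') := by group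
      _ = 1 := by rw [hs.2.2, hs'.2.2, one_mul]

end Cfsg.Agent.S1130
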