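import Cfsg.Agent.S1134
import Cfsg.Agent.S1130
import Cfsg.Agent.S1122
import Cfsg.Agent.S1120
import Cfsg.Agent.Lib.Helper6.RankOne
import Cfsg.Statements.S1135
-- import your own Cfsg.Agent.* helpers here

set_option autoImplicit false
open Cfsg

namespace Cfsg.Agent.S1135

open MulAction Cfsg.Agent.Helper6.RankOne

/-- parity of the number of fixed points of an involutive map -/
theorem natCard_mod_fix {α : Type*} [Finite α] (f : α → α) (hf : ∀ x, f (f x) = x) :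
    Nat.card α % 2 = Nat.card {x : α // f x = x} % 2 := by
  classical
  haveI : Fintype α := Fintype.ofFinite α
  have : Fact (Nat.Prime 2) := ⟨Nat.prime_two⟩
  let f' : Function.End α := f
  have hf' : f' ^ 2 ^ 1 = 1 := by
    rw [pow_one, sq]
    funext x
    exact hf x
  have hmod := Equiv.Perm.card_fixedPoints_modEq (α := α) hf'
  rw [Fintype.card_eq_nat_card, Fintype.card_eq_nat_card] at hmod
  exact hmod

/-- an involution normalising a subgroup of even order centralises an involution of it -/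
theorem exists_invol_comm {G : Type*} [Group G] [Finite G] (C : Subgroup G) (v : G) (hv : v * v = 1)
    (hn : ∀ c ∈ C, v * c * v⁻¹ ∈ C) (he : Even (Nat.card C)) :
    ∃ w ∈ C, w ≠ 1 ∧ w * w = 1 ∧ v * w = w * v := by
  have hvi : v⁻¹ = v := inv_eq_of_mul_eq_one_right hv
  have h1 := natCard_mod_fix (fun g : C => g⁻¹) (fun g => inv_inv g)
  have hβ : ∀ g : {g : C // g⁻¹ = g},
      (⟨v * (g.1 : G) * v⁻¹, hn _ g.1.2⟩ : C)⁻¹ = ⟨v * (g.1 : G) * v⁻¹, hn _ g.1.2⟩ := by
    intro g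
    apply Subtype.ext
    show (v * (g.1 : G) * v⁻¹)⁻¹ = v * (g.1 : G) * v⁻¹
    have hg : ((g.1 : C) : G)⁻¹ = (g.1 : G) := congrArg Subtype.val g.2
    rw [mul_inv_rev, mul_inv_rev, inv_inv, hg, mul_assoc]
  have h2 := natCard_mod_fix
    (fun g : {g : C // g⁻¹ = g} => (⟨⟨v * (g.1 : G) * v⁻¹, hn _ g.1.2⟩, hβ g⟩ : {g : C // g⁻¹ = g}))
    (by
      intro g
      apply Subtype.ext
      apply Subtype.ext
      show v * (v * (g.1 : G) * v⁻¹) * v⁻¹ = (g.1 : G)
      rw [hvi]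
      calc v * (v * (g.1 : G) * v) * v = (v * v) * (g.1 : G) * (v * v) := by group
        _ = (g.1 : G) := by rw [hv, one_mul, mul_one])
  set F := {x : {g : C // g⁻¹ = g} //
    (⟨⟨v * (x.1 : G) * v⁻¹, hn _ x.1.2⟩, hβ x⟩ : {g : C // g⁻¹ = g}) = x} with hF
  have hone : (1 : C)⁻¹ = 1 := inv_one
  have hone2 : (⟨⟨v * (1 : G) * v⁻¹, hn _ (1 : C).2⟩, hβ ⟨1, hone⟩⟩ : {g : C // g⁻¹ = g}) = ⟨1, hone⟩ := by
    apply Subtype.ext
    apply Subtype.ext
    show v * (1 : G) * v⁻¹ = 1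
    rw [mul_one, mul_inv_cancel]
  let e : F := ⟨⟨1, hone⟩, hone2⟩
  have hFeven : Nat.card F % 2 = 0 := by
    rw [← h2, ← h1]
    exact Nat.even_iff.mp he
  have hFpos : 0 < Nat.card F := Nat.card_pos_iff.mpr ⟨⟨e⟩, inferInstance⟩
  have hFlt : 1 < Nat.card F := by omega
  haveI : Nontrivial F := Finite.one_lt_card_iff_nontrivial.mp hFlt
  obtain ⟨x, hx⟩ := exists_ne e
  refine ⟨(x.1.1 : G), x.1.1.2, ?_, ?_, ?_⟩
  · intro h
    apply hx
    apply Subtype.ext
    apply Subtype.ext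
    apply Subtype.ext
    exact h
  · have hg : ((x.1.1 : C) : G)⁻¹ = (x.1.1 : G) := congrArg Subtype.val x.1.2
    calc (x.1.1 : G) * (x.1.1 : G) = (x.1.1 : G)⁻¹ * (x.1.1 : G) := by rw [hg]
      _ = 1 := inv_mul_cancel _
  · have hfix : v * (x.1.1 : G) * v⁻¹ = (x.1.1 : G) :=
      congrArg (fun y : {g : C // g⁻¹ = g} => ((y.1 : C) : G)) x.2
    calc v * (x.1.1 : G) = (v * (x.1.1 : G) * v⁻¹) * v := by group
      _ = (x.1.1 : G) * v := by rw [hfix]

/-- an involution not fixing `a` is conjugate to `t` under the stabiliser of `a` -/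
theorem conj_to_t {G Ω : Type*} [Group G] [Finite G] [MulAction G Ω] {a : Ω} {t : G}
    {Q : Subgroup G} (hS : Cfsg.IsRankOneSetup G Ω a t Q) (w : G) (hww : w * w = 1)
    (hwa : w • a ≠ a) : ∃ d ∈ stabilizer G a, d * w * d⁻¹ = t := by
  have htt : t * t = 1 := hS.mul_self
  have hti : t⁻¹ = t := t_inv hS
  obtain ⟨q, hq, hqb⟩ := exists_q_smul hS (w • a) hwa
  have hqa : q • a = a := mem_stabilizer_iff.mp (hS.le hq)
  set w' := q⁻¹ * w * q with hw'
  have hw'a : w' • a = t • a := by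
    rw [hw', mul_smul, mul_smul, hqa, ← hqb, inv_smul_smul]
  have hw'w' : w' * w' = 1 := by
    calc w' * w' = q⁻¹ * (w * w) * q := by rw [hw']; group
      _ = 1 := by rw [hww]; group
  obtain ⟨hk'D, hk'inv⟩ := Cfsg.Agent.S1122.tu_mem_K hS w' hw'w' hw'a
  set D := stabilizer G a ⊓ stabilizer G (t • a) with hD
  set k' := t * w' with hk'
  have hoddk : Odd (orderOf k') := by
    have h1 : orderOf k' ∣ Nat.card D := Subgroup.orderOf_dvd_natCard D hk'D
    exact Odd.of_dvd_nat hS.odd_card h1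
  obtain ⟨j, hj⟩ := Cfsg.Agent.S1134.exists_sqrt k' hoddk
  set k := k' ^ j with hk
  have hkD : k ∈ D := Subgroup.pow_mem _ hk'D j
  have hkinv : t * k * t = k⁻¹ := by
    have h1 : t * k' ^ j * t⁻¹ = (t * k' * t⁻¹) ^ j := by rw [conj_pow]
    rw [hk'inv, hti] at h1
    rw [hk, h1, inv_pow]
  have hconj : k⁻¹ * t * k = w' := by
    have h1 : k⁻¹ * t = t * k := by
      calc k⁻¹ * t = (t * k * t) * t := by rw [hkinv]
        _ = t * k * (t * t) := by group
        _ = t * k := by rw [htt, mul_one]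
    calc k⁻¹ * t * k = (t * k) * k := by rw [h1]
      _ = t * (k * k) := by group
      _ = t * k' := by rw [hj]
      _ = (t * t) * w' := by rw [hk']; group
      _ = w' := by rw [htt, one_mul]
  refine ⟨k * q⁻¹, Subgroup.mul_mem _ (Subgroup.mem_inf.mp hkD).1 (Subgroup.inv_mem _ (hS.le hq)), ?_⟩
  calc k * q⁻¹ * w * (k * q⁻¹)⁻¹ = k * (q⁻¹ * w * q) * k⁻¹ := by group
    _ = k * (k⁻¹ * t * k) * k⁻¹ := by rw [← hw', hconj]
    _ = t := by group

/-- In the rank-one set-up (`G` finite and doubly transitive on `Ω`, `t` an involution moving `a`, `Q` normal in `G_a` with `G_a = Q D`, `Q ⊓ D = 1` for the two-point stabiliser `D = G_a ⊓ G_{t • a}`, `|Q|` even, `|D|` odd), with the action faithful and `G` containing two distinct commuting involutions: if `x = u v` with `u, v` involutions and `x² ≠ 1`, then `x` is conjugate to `u' t` for some involution `u'` of `G_a`, and `|C_G(x)|` is odd. -/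
theorem result {G Ω : Type*} [Group G] [Finite G] [MulAction G Ω] [FaithfulSMul G Ω] {a : Ω} {t : G} {Q : Subgroup G}
    (hS : Cfsg.IsRankOneSetup G Ω a t Q)
    (h2 : ∃ x y : G, x ≠ 1 ∧ y ≠ 1 ∧ x ≠ y ∧ x * x = 1 ∧ y * y = 1 ∧ x * y = y * x)
    (u v : G) (hu1 : u ≠ 1) (hu2 : u * u = 1) (hv1 : v ≠ 1) (hv2 : v * v = 1) (hx : (u * v) * (u * v) ≠ 1) :
    (∃ g : G, ∃ u' ∈ Cfsg.involutionsIn (MulAction.stabilizer G a : Set G), g * (u * v) * g⁻¹ = u' * t) ∧
      Odd (Nat.card ↥(Subgroup.centralizer {u * v})) := by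
  have hui : u⁻¹ = u := inv_eq_of_mul_eq_one_right hu2
  have hvi : v⁻¹ = v := inv_eq_of_mul_eq_one_right hv2
  obtain ⟨α, hα⟩ := Cfsg.Agent.S1120.invol_fix_exists hS hu2
  obtain ⟨β, hβ⟩ := Cfsg.Agent.S1120.invol_fix_exists hS hv2
  haveI := hS.two_transitive
  haveI : MulAction.IsPretransitive G Ω := MulAction.isPretransitive_of_is_two_pretransitive
  obtain ⟨g₁, hg₁⟩ := MulAction.exists_smul_eq G α a
  have hg₁i : g₁⁻¹ • a = α := by rw [inv_smul_eq_iff, hg₁]
  set u₁ := g₁ * u * g₁⁻¹ with hu₁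
  set v₁ := g₁ * v * g₁⁻¹ with hv₁
  have hu₁a : u₁ • a = a := by
    rw [hu₁, mul_smul, mul_smul, hg₁i, hα, hg₁]
  have hu₁1 : u₁ ≠ 1 := by
    intro h
    apply hu1
    calc u = g₁⁻¹ * u₁ * g₁ := by rw [hu₁]; group
      _ = 1 := by rw [h]; group
  have hu₁2 : u₁ * u₁ = 1 := by
    calc u₁ * u₁ = g₁ * (u * u) * g₁⁻¹ := by rw [hu₁]; group
      _ = 1 := by rw [hu2]; group
  have hv₁1 : v₁ ≠ 1 := by
    intro h
    apply hv1
    calc v = g₁⁻¹ * v₁ * g₁ := by rw [hv₁]; group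
      _ = 1 := by rw [h]; group
  have hv₁2 : v₁ * v₁ = 1 := by
    calc v₁ * v₁ = g₁ * (v * v) * g₁⁻¹ := by rw [hv₁]; group
      _ = 1 := by rw [hv2]; group
  have hu₁inv : u₁ ∈ Cfsg.involutionsIn (MulAction.stabilizer G a : Set G) :=
    ⟨mem_stabilizer_iff.mpr hu₁a, hu₁1, hu₁2⟩
  have hne : α ≠ β := by
    intro hαβ
    have hv₁a : v₁ • a = a := by
      rw [hv₁, mul_smul, mul_smul, hg₁i, hαβ, hβ, ← hαβ, hg₁]
    have hv₁inv : v₁ ∈ Cfsg.involutionsIn (MulAction.stabilizer G a : Set G) :=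
      ⟨mem_stabilizer_iff.mpr hv₁a, hv₁1, hv₁2⟩
    have h3 := (Cfsg.Agent.S1130.result hS h2).2 u₁ hu₁inv v₁ hv₁inv
    have h4 : (u₁ * v₁) * (u₁ * v₁) = 1 := by
      rcases h3 with h3 | h3
      · rw [h3, one_mul]
      · exact h3.2.2
    apply hx
    calc (u * v) * (u * v) = g₁⁻¹ * ((u₁ * v₁) * (u₁ * v₁)) * g₁ := by rw [hu₁, hv₁]; group
      _ = 1 := by rw [h4]; group
  have hv₁a : v₁ • a ≠ a := by
    intro h
    apply hne
    have h1 : v • α = α := by
      have : v = g₁⁻¹ * v₁ * g₁ := by rw [hv₁]; group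
      rw [this, mul_smul, mul_smul, hg₁, h, hg₁i]
    exact Cfsg.Agent.S1120.invol_fix_unique hS hv1 hv2 h1 hβ
  constructor
  · obtain ⟨d, hd, hdt⟩ := conj_to_t hS v₁ hv₁2 hv₁a
    have hda : d • a = a := mem_stabilizer_iff.mp hd
    have hdia : d⁻¹ • a = a := by rw [inv_smul_eq_iff, hda]
    refine ⟨d * g₁, d * u₁ * d⁻¹, ⟨?_, ?_, ?_⟩, ?_⟩
    · show d * u₁ * d⁻¹ ∈ stabilizer G a
      rw [mem_stabilizer_iff, mul_smul, mul_smul, hdia, hu₁a, hda]
    · intro h
      apply hu₁1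
      calc u₁ = d⁻¹ * (d * u₁ * d⁻¹) * d := by group
        _ = 1 := by rw [h]; group
    · calc d * u₁ * d⁻¹ * (d * u₁ * d⁻¹) = d * (u₁ * u₁) * d⁻¹ := by group
        _ = 1 := by rw [hu₁2]; group
    · rw [← hdt, hu₁, hv₁]
      group
  · by_contra hodd
    have heven : Even (Nat.card ↥(Subgroup.centralizer {u * v})) := Nat.not_odd_iff_even.mp hodd
    have hxinv : v * (u * v) * v⁻¹ = (u * v)⁻¹ := by
      rw [mul_inv_rev, hui, hvi]
      calc v * (u * v) * v = v * u * (v * v) := by group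
        _ = v * u := by rw [hv2, mul_one]
    have hn : ∀ c ∈ Subgroup.centralizer {u * v}, v * c * v⁻¹ ∈ Subgroup.centralizer {u * v} := by
      intro c hc
      rw [Subgroup.mem_centralizer_iff] at hc ⊢
      intro y hy
      rw [Set.mem_singleton_iff] at hy
      subst hy
      have hc' := hc (u * v) rfl
      have h1 : (u * v)⁻¹ * (v * c * v⁻¹) = (v * c * v⁻¹) * (u * v)⁻¹ := by
        rw [← hxinv]
        calc v * (u * v) * v⁻¹ * (v * c * v⁻¹) = v * ((u * v) * c) * v⁻¹ := by group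
          _ = v * (c * (u * v)) * v⁻¹ := by rw [hc']
          _ = v * c * v⁻¹ * (v * (u * v) * v⁻¹) := by group
      have h2' : Commute (u * v)⁻¹ (v * c * v⁻¹) := h1
      exact (Commute.inv_left_iff.mp h2').eq
    obtain ⟨w, hwC, hw1, hww, hvw⟩ := exists_invol_comm (Subgroup.centralizer {u * v}) v hv2 hn heven
    have hwx : (u * v) * w = w * (u * v) := Subgroup.mem_centralizer_iff.mp hwC (u * v) rfl
    have hwβ : w • β = β := by
      apply Cfsg.Agent.S1120.invol_fix_unique hS hv1 hv2 _ hβ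
      rw [← mul_smul, hvw, mul_smul, hβ]
    have hxβ : (u * v) • β = β := by
      apply Cfsg.Agent.S1120.invol_fix_unique hS hw1 hww _ hwβ
      rw [← mul_smul, ← hwx, mul_smul, hwβ]
    have huβ : u • β = β := by
      rw [mul_smul, hβ] at hxβ
      exact hxβ
    exact hne (Cfsg.Agent.S1120.invol_fix_unique hS hu1 hu2 hα huβ)

end Cfsg.Agent.S1135
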