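import Mathlib
import Cfsg.Statements.S0346
import Cfsg.Agent.Lib.Helper5.ZassKernel
import Cfsg.Agent.S0885
import Cfsg.Agent.S0738
import Cfsg.Agent.S0741

set_option autoImplicit false
open Cfsg

namespace Cfsg.Agent.S0346

/-- The number of points of a finite simple Zassenhaus group is `p^k + 1` for some prime power `p^k` (the regular normal
subgroup of a point stabiliser is a `p`-group). -/
theorem result {G Ω : Type*} [Group G] [Finite G] [MulAction G Ω] [Fintype Ω]
    (hZ : Cfsg.IsZassenhausGroup G Ω) [IsSimpleGroup G] :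
    IsPrimePow (Fintype.card Ω - 1) := by
  classical
  have h3 := Cfsg.Agent.Helper5.ZassOdd.three_le_card hZ
  obtain ⟨a, b, hab⟩ := Fintype.exists_pair_of_one_lt_card (α := Ω) (by omega)
  obtain ⟨H, hHa, hHcard, hHfix, hHn⟩ := Cfsg.Agent.Helper5.ZassKernel.exists_kernel hZ hab
  have hsmall : Fintype.card Ω - 2 ≤
      2 * Nat.card ↥(MulAction.stabilizer G a ⊓ MulAction.stabilizer G b : Subgroup G) →
      IsPrimePow (Fintype.card Ω - 1) := by
    intro hd
    obtain ⟨-, p, f, hp, -, hcard⟩ := Cfsg.Agent.S0738.result hZ hab hd H hHa hHn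
      (Cfsg.Agent.Helper5.ZassKernel.kernel_regular H hHa hHcard hHfix)
    rw [hcard, Nat.add_sub_cancel]
    have hf : f ≠ 0 := by
      intro h
      rw [h, pow_zero] at hcard
      omega
    exact hp.isPrimePow.pow hf
  rcases Nat.even_or_odd
    (Nat.card ↥(MulAction.stabilizer G a ⊓ MulAction.stabilizer G b : Subgroup G)) with
    heven | hodd
  · exact hsmall (Cfsg.Agent.S0741.result hZ hab heven)
  · rcases Cfsg.Agent.S0885.result hZ hab (Fintype.card Ω - 1) _ (by omega) rfl hodd H hHa hHcard
      hHfix with h | ⟨hp, -, -⟩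
    · exact hsmall (by omega)
    · obtain ⟨m, hm⟩ := IsPGroup.iff_card.mp hp
      have h1 : Fintype.card Ω - 1 = 2 ^ m := by omega
      rw [h1]
      have hm0 : m ≠ 0 := by
        intro h
        rw [h, pow_zero] at h1
        omega
      exact Nat.prime_two.isPrimePow.pow hm0

end Cfsg.Agent.S0346
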