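import Mathlib
import Cfsg.Statements.S0672

set_option autoImplicit false
set_option linter.style.haveILetI false
set_option linter.unusedSectionVars false

open Cfsg
open scoped Pointwise

namespace Cfsg.Agent.S0672

section maps

variable {G : Type*} [Group G] {K : Type*} [Field K] {Ω : Type*} [Fintype Ω] [DecidableEq Ω]
  [MulAction G Ω]

/-- The linear map on sum-zero functions attached to a weight function on flags. -/
noncomputable def wMap (w : Ω → Set.powersetCard Ω 2 → K) :
    (permSumZero K G Ω).toSubmodule →ₗ[K] (Set.powersetCard Ω 2 → K) where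
  toFun v := fun s => ∑ x, w x s * (v : Ω → K) x
  map_add' u v := by
    funext s
    simp [mul_add, Finset.sum_add_distrib]
  map_smul' c v := by
    funext s
    simp [Finset.mul_sum, mul_left_comm]

theorem wMap_apply (w : Ω → Set.powersetCard Ω 2 → K) (v : (permSumZero K G Ω).toSubmodule)
    (s : Set.powersetCard Ω 2) :
    wMap (G := G) w v s = ∑ x, w x s * (v : Ω → K) x := rfl

/-- The intertwining map attached to an invariant weight function. -/
noncomputable def wInter (w : Ω → Set.powersetCard Ω 2 → K)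
    (hw : ∀ (g : G) (x : Ω) (s : Set.powersetCard Ω 2), w (g • x) (g • s) = w x s) :
    Representation.IntertwiningMap (permSumZero K G Ω).toRepresentation
      (permRep K G (Set.powersetCard Ω 2)) :=
  (wMap (G := G) w).intertwiningMap_of_isIntertwiningMap _ _ (by
    intro g v
    funext s
    change ∑ x, w x s * (v : Ω → K) (g⁻¹ • x) = ∑ x, w x (g⁻¹ • s) * (v : Ω → K) x
    refine Fintype.sum_equiv (MulAction.toPerm g⁻¹) _ _ (fun x => ?_)
    have := hw g⁻¹ x s
    simp only [MulAction.toPerm_apply]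
    rw [this])

theorem wInter_apply (w : Ω → Set.powersetCard Ω 2 → K)
    (hw : ∀ (g : G) (x : Ω) (s : Set.powersetCard Ω 2), w (g • x) (g • s) = w x s)
    (v : (permSumZero K G Ω).toSubmodule) (s : Set.powersetCard Ω 2) :
    wInter w hw v s = ∑ x, w x s * (v : Ω → K) x := rfl

/-- An invariant weight with zero row sums which is not constant on some row contradicts the
hypothesis on intertwining maps. -/
theorem false_of_weight
    (h : ∀ f : Representation.IntertwiningMap (permSumZero K G Ω).toRepresentation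
      (permRep K G (Set.powersetCard Ω 2)),
      (∀ v : (permSumZero K G Ω).toSubmodule,
        (v : Ω → K) ∈ (permConstants K G Ω).toSubmodule → f v = 0) → f = 0)
    (w : Ω → Set.powersetCard Ω 2 → K)
    (hw : ∀ (g : G) (x : Ω) (s : Set.powersetCard Ω 2), w (g • x) (g • s) = w x s)
    (hsum : ∀ s, ∑ x, w x s = 0)
    (hne : ∃ s x y, w x s ≠ w y s) : False := by
  obtain ⟨s, x, y, hxy⟩ := hne
  have h0 : wInter w hw = 0 := by
    apply h
    intro v hv
    funext t
    rw [wInter_apply]
    change (v : Ω → K) ∈ Submodule.span K {fun _ => (1 : K)} at hv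
    rw [Submodule.mem_span_singleton] at hv
    obtain ⟨c, hc⟩ := hv
    have : ∀ z, (v : Ω → K) z = c := fun z => by rw [← hc]; simp
    simp only [this, ← Finset.sum_mul, hsum, zero_mul]
    rfl
  have hxy' : x ≠ y := fun e => hxy (by rw [e])
  let v0 : Ω → K := Pi.single x 1 - Pi.single y 1
  have hv0 : v0 ∈ (permSumZero K G Ω).toSubmodule := by
    change ∑ z, v0 z = 0
    simp [v0, Finset.sum_sub_distrib]
  have h1 := wInter_apply w hw ⟨v0, hv0⟩ s
  rw [h0] at h1
  have h2 : ∑ z, w z s * v0 z = w x s - w y s := by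
    simp [v0, mul_sub, Finset.sum_sub_distrib, Pi.single_apply]
  rw [h2] at h1
  exact hxy (sub_eq_zero.mp h1.symm)

end maps

section pairs

variable {G : Type*} [Group G] {Ω : Type*} [DecidableEq Ω] [MulAction G Ω]

/-- The unordered pair of two distinct points. -/
def pr (b c : Ω) (h : b ≠ c) : Set.powersetCard Ω 2 := ⟨{b, c}, Finset.card_pair h⟩

theorem mem_pr {b c : Ω} (h : b ≠ c) (x : Ω) : x ∈ pr b c h ↔ x = b ∨ x = c := by
  change x ∈ ({b, c} : Finset Ω) ↔ _
  simp

theorem smul_pr (g : G) {b c : Ω} (h : b ≠ c) :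
    g • pr b c h = pr (g • b) (g • c) (fun e => h (smul_left_cancel g e)) := by
  apply Subtype.ext
  rw [Set.powersetCard.coe_smul]
  change g • ({b, c} : Finset Ω) = {g • b, g • c}
  rw [Finset.smul_finset_insert, Finset.smul_finset_singleton]

theorem smul_mem_smul_iff' (g : G) (s : Set.powersetCard Ω 2) (x : Ω) :
    g • x ∈ g • s ↔ x ∈ s := by
  rw [← Set.powersetCard.mem_coe_iff, Set.powersetCard.coe_smul,
    Finset.smul_mem_smul_finset_iff, Set.powersetCard.mem_coe_iff]

theorem exists_pr (s : Set.powersetCard Ω 2) : ∃ b c, ∃ h : b ≠ c, s = pr b c h := by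
  obtain ⟨b, c, hbc, hs⟩ := Finset.card_eq_two.mp s.2
  exact ⟨b, c, hbc, Subtype.ext hs⟩

end pairs

section main

variable {G : Type*} [Group G] [Finite G] {Ω : Type*} [Fintype Ω] [DecidableEq Ω]
  [MulAction G Ω] [FaithfulSMul G Ω]

theorem exists_swap (heven : ∀ a : Ω, Even (Nat.card (MulAction.stabilizer G a)))
    (hflag : ∀ (x y : Ω) (s t : Set.powersetCard Ω 2), x ∉ s → y ∉ t →
      ∃ g : G, g • x = y ∧ g • s = t)
    (y0 y1 y2 : Ω) (h01 : y0 ≠ y1) (h02 : y0 ≠ y2) (h12 : y1 ≠ y2) :
    ∃ h : G, h • y0 = y0 ∧ h • y1 = y2 ∧ h • y2 = y1 := by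
  haveI : Fact (Nat.Prime 2) := ⟨Nat.prime_two⟩
  obtain ⟨t, ht⟩ := exists_prime_orderOf_dvd_card' (G := MulAction.stabilizer G y0) 2
    (heven y0).two_dvd
  have ht1 : (t : G) ≠ 1 := by
    intro e
    have : t = 1 := Subtype.ext e
    rw [this, orderOf_one] at ht
    omega
  have ht2 : (t : G) * (t : G) = 1 := by
    have := pow_orderOf_eq_one t
    rw [ht, pow_two] at this
    exact congrArg Subtype.val this
  have hty0 : (t : G) • y0 = y0 := t.2
  obtain ⟨b, hb⟩ : ∃ b : Ω, (t : G) • b ≠ b := by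
    by_contra hcon
    push Not at hcon
    exact ht1 (FaithfulSMul.eq_of_smul_eq_smul (α := Ω) (fun a => by rw [hcon a, one_smul]))
  obtain ⟨c, hc⟩ : ∃ c : Ω, c = (t : G) • b := ⟨_, rfl⟩
  have htc : (t : G) • c = b := by
    rw [hc, ← mul_smul, ht2, one_smul]
  have hbc : b ≠ c := fun e => hb (by rw [← hc]; exact e.symm)
  have hby0 : y0 ≠ b := by
    intro e
    apply hb
    rw [← e]
    exact hty0
  have hcy0 : y0 ≠ c := by
    intro e
    apply hby0
    have : (t : G) • y0 = (t : G) • b := by rw [hty0, ← hc]; exact e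
    exact smul_left_cancel _ this
  have hf1 : y0 ∉ pr b c hbc := by
    rw [mem_pr]
    rintro (e | e)
    · exact hby0 e
    · exact hcy0 e
  have hf2 : y0 ∉ pr y1 y2 h12 := by
    rw [mem_pr]
    rintro (e | e)
    · exact h01 e
    · exact h02 e
  obtain ⟨k, hk0, hk⟩ := hflag y0 y0 _ _ hf1 hf2
  rw [smul_pr] at hk
  have hkb : k • b ∈ pr y1 y2 h12 := by
    rw [← hk, mem_pr]; exact Or.inl rfl
  have hkc : k • c ∈ pr y1 y2 h12 := by
    rw [← hk, mem_pr]; exact Or.inr rfl
  rw [mem_pr] at hkb hkc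
  have hkne : k • b ≠ k • c := fun e => hbc (smul_left_cancel k e)
  have hk0' : k⁻¹ • y0 = y0 := by
    rw [inv_smul_eq_iff, hk0]
  refine ⟨k * (t : G) * k⁻¹, ?_, ?_, ?_⟩
  · rw [mul_smul, mul_smul, hk0', hty0, hk0]
  · rcases hkb with e1 | e1 <;> rcases hkc with e2 | e2
    · exact absurd (e1.trans e2.symm) hkne
    · have : k⁻¹ • y1 = b := by rw [inv_smul_eq_iff, e1]
      rw [mul_smul, mul_smul, this, ← hc, e2]
    · have : k⁻¹ • y1 = c := by rw [inv_smul_eq_iff, e2]
      rw [mul_smul, mul_smul, this, htc, e1]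
    · exact absurd (e1.trans e2.symm) hkne
  · rcases hkb with e1 | e1 <;> rcases hkc with e2 | e2
    · exact absurd (e1.trans e2.symm) hkne
    · have : k⁻¹ • y2 = c := by rw [inv_smul_eq_iff, e2]
      rw [mul_smul, mul_smul, this, htc, e1]
    · have : k⁻¹ • y2 = b := by rw [inv_smul_eq_iff, e1]
      rw [mul_smul, mul_smul, this, ← hc, e2]
    · exact absurd (e1.trans e2.symm) hkne

theorem three_of_flag (heven : ∀ a : Ω, Even (Nat.card (MulAction.stabilizer G a)))
    (hflag : ∀ (x y : Ω) (s t : Set.powersetCard Ω 2), x ∉ s → y ∉ t →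
      ∃ g : G, g • x = y ∧ g • s = t) :
    MulAction.IsMultiplyPretransitive G Ω 3 := by
  rw [MulAction.isMultiplyPretransitive_iff]
  intro x y
  have hx01 : x 0 ≠ x 1 := x.injective.ne (by decide)
  have hx02 : x 0 ≠ x 2 := x.injective.ne (by decide)
  have hx12 : x 1 ≠ x 2 := x.injective.ne (by decide)
  have hy01 : y 0 ≠ y 1 := y.injective.ne (by decide)
  have hy02 : y 0 ≠ y 2 := y.injective.ne (by decide)
  have hy12 : y 1 ≠ y 2 := y.injective.ne (by decide)
  have hf1 : x 0 ∉ pr (x 1) (x 2) hx12 := by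
    rw [mem_pr]
    rintro (e | e)
    · exact hx01 e
    · exact hx02 e
  have hf2 : y 0 ∉ pr (y 1) (y 2) hy12 := by
    rw [mem_pr]
    rintro (e | e)
    · exact hy01 e
    · exact hy02 e
  obtain ⟨g, hg0, hg⟩ := hflag _ _ _ _ hf1 hf2
  rw [smul_pr] at hg
  have hg1 : g • x 1 ∈ pr (y 1) (y 2) hy12 := by
    rw [← hg, mem_pr]; exact Or.inl rfl
  have hg2 : g • x 2 ∈ pr (y 1) (y 2) hy12 := by
    rw [← hg, mem_pr]; exact Or.inr rfl
  rw [mem_pr] at hg1 hg2
  have hgne : g • x 1 ≠ g • x 2 := fun e => hx12 (smul_left_cancel g e)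
  have key : ∃ g' : G, g' • x 0 = y 0 ∧ g' • x 1 = y 1 ∧ g' • x 2 = y 2 := by
    rcases hg1 with e1 | e1 <;> rcases hg2 with e2 | e2
    · exact absurd (e1.trans e2.symm) hgne
    · exact ⟨g, hg0, e1, e2⟩
    · obtain ⟨h, h0, h1, h2⟩ := exists_swap heven hflag (y 0) (y 1) (y 2) hy01 hy02 hy12
      refine ⟨h * g, ?_, ?_, ?_⟩
      · rw [mul_smul, hg0, h0]
      · rw [mul_smul, e1, h2]
      · rw [mul_smul, e2, h1]
    · exact absurd (e1.trans e2.symm) hgne
  obtain ⟨g', h0, h1, h2⟩ := key
  refine ⟨g', ?_⟩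
  ext i
  rw [Function.Embedding.smul_apply]
  fin_cases i
  · exact h0
  · exact h1
  · exact h2

end main

section final

variable {G : Type*} [Group G] [Finite G] {K : Type*} [Field K] {Ω : Type*} [Fintype Ω]
  [DecidableEq Ω] [MulAction G Ω] [FaithfulSMul G Ω]

open Classical in
/-- The weight function attached to a flag relation. -/
noncomputable def wt (R : Ω → Set.powersetCard Ω 2 → Prop) (A : Set.powersetCard Ω 2 → K)
    (B : K) : Ω → Set.powersetCard Ω 2 → K :=
  fun x s => if x ∈ s then A s else if R x s then B else 0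

open Classical in
/-- The number of points off a pair related to it. -/
noncomputable def cnt (R : Ω → Set.powersetCard Ω 2 → Prop) (s : Set.powersetCard Ω 2) : ℕ :=
  (Finset.univ.filter (fun x => x ∉ s ∧ R x s)).card

theorem wt_sum (R : Ω → Set.powersetCard Ω 2 → Prop) (A : Set.powersetCard Ω 2 → K)
    (B : K) (s : Set.powersetCard Ω 2) :
    ∑ x, wt R A B x s = 2 * A s + (cnt R s : K) * B := by
  classical
  have h1 : ∀ x, wt R A B x s =
      (if x ∈ (s : Finset Ω) then A s else 0) + (if x ∉ s ∧ R x s then B else 0) := by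
    intro x
    unfold wt
    by_cases hx : x ∈ s
    · have hx' : x ∈ (s : Finset Ω) := hx
      simp [hx, hx']
    · have hx' : x ∉ (s : Finset Ω) := hx
      simp [hx, hx']
  simp only [h1, Finset.sum_add_distrib]
  congr 1
  · rw [Finset.sum_ite_mem, Finset.univ_inter, Finset.sum_const, s.2, nsmul_eq_mul]
    norm_num
  · rw [Finset.sum_ite, Finset.sum_const, Finset.sum_const_zero, add_zero, nsmul_eq_mul]
    rfl

theorem cnt_smul (R : Ω → Set.powersetCard Ω 2 → Prop)
    (hR : ∀ (g : G) y s, R (g • y) (g • s) ↔ R y s) (g : G) (s : Set.powersetCard Ω 2) :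
    cnt R (g • s) = cnt R s := by
  classical
  unfold cnt
  symm
  refine Finset.card_equiv (MulAction.toPerm g) (fun x => ?_)
  simp only [Finset.mem_filter, Finset.mem_univ, true_and, MulAction.toPerm_apply,
    smul_mem_smul_iff', hR]

theorem main (h2 : MulAction.IsMultiplyPretransitive G Ω 2)
    (heven : ∀ a : Ω, Even (Nat.card (MulAction.stabilizer G a)))
    (h : ∀ f : Representation.IntertwiningMap (permSumZero K G Ω).toRepresentation
      (permRep K G (Set.powersetCard Ω 2)),
      (∀ v : (permSumZero K G Ω).toSubmodule,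
        (v : Ω → K) ∈ (permConstants K G Ω).toSubmodule → f v = 0) → f = 0) :
    MulAction.IsMultiplyPretransitive G Ω 3 := by
  classical
  by_contra h3
  have hx : ∃ x : Fin 3 ↪ Ω, True := by
    by_contra hno
    apply h3
    rw [MulAction.isMultiplyPretransitive_iff]
    intro x
    exact absurd ⟨x, trivial⟩ hno
  obtain ⟨x, -⟩ := hx
  have hx01 : x 0 ≠ x 1 := x.injective.ne (by decide)
  have hx02 : x 0 ≠ x 2 := x.injective.ne (by decide)
  have hx12 : x 1 ≠ x 2 := x.injective.ne (by decide)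
  obtain ⟨a, haa⟩ : ∃ a : Ω, a = x 0 := ⟨_, rfl⟩
  obtain ⟨s₁, hs₁⟩ : ∃ s₁ : Set.powersetCard Ω 2, s₁ = pr (x 1) (x 2) hx12 := ⟨_, rfl⟩
  have ha : a ∉ s₁ := by
    rw [hs₁, haa, mem_pr]
    rintro (e | e)
    · exact hx01 e
    · exact hx02 e
  let R : Ω → Set.powersetCard Ω 2 → Prop := fun y s => ∃ g : G, g • a = y ∧ g • s₁ = s
  have hR : ∀ (g : G) y s, R (g • y) (g • s) ↔ R y s := by
    intro g y s
    constructor
    · rintro ⟨k, hk1, hk2⟩
      refine ⟨g⁻¹ * k, ?_, ?_⟩
      · rw [mul_smul, hk1, inv_smul_smul]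
      · rw [mul_smul, hk2, inv_smul_smul]
    · rintro ⟨k, hk1, hk2⟩
      exact ⟨g * k, by rw [mul_smul, hk1], by rw [mul_smul, hk2]⟩
  have hnf : ∃ b s, b ∉ s ∧ ¬ R b s := by
    by_contra hcon
    push Not at hcon
    apply h3
    apply three_of_flag heven
    intro y z s t hy hz
    obtain ⟨g1, h11, h12⟩ := hcon y s hy
    obtain ⟨g2, h21, h22⟩ := hcon z t hz
    refine ⟨g2 * g1⁻¹, ?_, ?_⟩
    · rw [mul_smul, ← h11, inv_smul_smul, h21]
    · rw [mul_smul, ← h12, inv_smul_smul, h22]
  obtain ⟨b, s, hbs, hRbs⟩ := hnf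
  haveI : MulAction.IsPretransitive G (Set.powersetCard Ω 2) :=
    Set.powersetCard.isPretransitive_of_isMultiplyPretransitive G h2
  obtain ⟨g0, hg0⟩ := MulAction.exists_smul_eq G s₁ s
  have hy : R (g0 • a) s := ⟨g0, rfl, hg0⟩
  have hys : g0 • a ∉ s := by
    rw [← hg0, smul_mem_smul_iff']
    exact ha
  obtain ⟨c, d, hcd, hs⟩ := exists_pr s
  have hcs : c ∈ s := by
    rw [hs, mem_pr]
    exact Or.inl rfl
  by_cases h2K : (2 : K) = 0
  · refine false_of_weight h (wt R (fun _ => 1) 0) ?_ ?_ ⟨s, c, b, ?_⟩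
    · intro g y t
      unfold wt
      simp only [smul_mem_smul_iff', hR]
    · intro t
      rw [wt_sum]
      simp [h2K]
    · unfold wt
      simp [hcs, hbs]
  · refine false_of_weight h (wt R (fun t => (cnt R t : K)) (-2)) ?_ ?_ ⟨s, g0 • a, b, ?_⟩
    · intro g y t
      unfold wt
      simp only [smul_mem_smul_iff', hR, cnt_smul R hR]
    · intro t
      rw [wt_sum]
      ring
    · unfold wt
      simp [hys, hy, hbs, hRbs, h2K]

end final

/-- Let a finite group act faithfully and doubly transitively with point stabilisers of even order, and let `K` have characteristic `p` dividing the degree. If the heart of the permutation module admits no non-zero equivariant map to the permutation module on unordered pairs (phrased: every intertwining map from the sum-zero functions vanishing on the constants is zero), the action is triply transitive. -/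
theorem result {G : Type*} [Group G] [Finite G] {K : Type*} [Field K] {p : ℕ} [Fact p.Prime] [CharP K p] {Ω : Type*} [Fintype Ω] [DecidableEq Ω] [MulAction G Ω] [FaithfulSMul G Ω] (h2 : MulAction.IsMultiplyPretransitive G Ω 2) (hp : p ∣ Fintype.card Ω) (heven : ∀ a : Ω, Even (Nat.card (MulAction.stabilizer G a))) (h : ∀ f : Representation.IntertwiningMap (Cfsg.permSumZero K G Ω).toRepresentation (Cfsg.permRep K G (Set.powersetCard Ω 2)), (∀ v : (Cfsg.permSumZero K G Ω).toSubmodule, (v : Ω → K) ∈ (Cfsg.permConstants K G Ω).toSubmodule → f v = 0) → f = 0) : MulAction.IsMultiplyPretransitive G Ω 3 := by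
  exact main h2 heven h

end Cfsg.Agent.S0672
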