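import Mathlib
import Cfsg.Statements.S0676
import Cfsg.Agent.S0672
import Cfsg.Agent.S0674
import Cfsg.Agent.S0675
import Cfsg.Agent.Lib.Helper4.PrimeDihedral
import Cfsg.Agent.Lib.Helper4.SmallPermSolvable
-- import your own Cfsg.Agent.* helpers here

set_option autoImplicit false
open Cfsg
open scoped Pointwise

namespace Cfsg.Agent.S0676


theorem sum_zmod_eq_zero {p : ℕ} [Fact p.Prime] (hp2 : p ≠ 2) : ∑ j : ZMod p, j = 0 := by
  have h2ne : (2 : ZMod p) ≠ 0 := by
    intro h
    have h3 : ((2 : ℕ) : ZMod p) = 0 := by exact_mod_cast h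
    rw [ZMod.natCast_eq_zero_iff] at h3
    have := Nat.le_of_dvd (by norm_num) h3
    have := (Fact.out : p.Prime).two_le
    omega
  have h1 : ∑ j : ZMod p, j = ∑ j : ZMod p, -j :=
    (Fintype.sum_equiv (Equiv.neg (ZMod p)) _ _ (fun j => rfl)).symm
  rw [Finset.sum_neg_distrib] at h1
  have h3 : (2 : ZMod p) * ∑ j : ZMod p, j = 0 := by
    rw [two_mul]
    nth_rewrite 1 [h1]
    exact neg_add_cancel _
  rcases mul_eq_zero.mp h3 with h | h
  · exact absurd h h2ne
  · exact h

/-- the key vanishing statement -/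
theorem key {α : Type*} [Fintype α] [DecidableEq α] {p : ℕ} [Fact p.Prime]
    (hα : Fintype.card α = p) (hp2 : p ≠ 2) (G : Subgroup (Equiv.Perm α))
    [MulAction.IsPretransitive G α] (hG : ¬ Group.IsSolvable G)
    (e : ZMod p ≃ α) (g t : ↥G) (hg : ∀ j, (g : Equiv.Perm α) (e j) = e (j + 1))
    (ht : ∀ j, (t : Equiv.Perm α) (e j) = e (-j))
    (f : Representation.IntertwiningMap (Cfsg.permSumZero (ZMod p) G α).toRepresentation
      (Cfsg.permRep (ZMod p) G (Set.powersetCard α 2)))
    (hf : ∀ v : (Cfsg.permSumZero (ZMod p) G α).toSubmodule,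
      (v : α → ZMod p) ∈ (Cfsg.permConstants (ZMod p) G α).toSubmodule → f v = 0) : f = 0 := by
  have hp : p.Prime := Fact.out
  have h2ne : (2 : ZMod p) ≠ 0 := by
    intro h
    have h3 : ((2 : ℕ) : ZMod p) = 0 := by exact_mod_cast h
    rw [ZMod.natCast_eq_zero_iff] at h3
    have := Nat.le_of_dvd (by norm_num) h3
    have := hp.two_le
    omega
  have hginv : ∀ j, (g⁻¹ : ↥G) • (e j) = e (j - 1) := by
    intro j
    rw [inv_smul_eq_iff]
    show e j = (g : Equiv.Perm α) (e (j - 1))
    rw [hg]; congr 1; ring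
  have htinv : ∀ j, (t⁻¹ : ↥G) • (e j) = e (-j) := by
    intro j
    rw [inv_smul_eq_iff]
    show e j = (t : Equiv.Perm α) (e (-j))
    rw [ht, neg_neg]
  -- the linear function
  obtain ⟨v, hv⟩ : ∃ v : α → ZMod p, v = fun ω => e.symm ω := ⟨_, rfl⟩
  have hvS : v ∈ (Cfsg.permSumZero (ZMod p) G α).toSubmodule := by
    show ∑ ω, v ω = 0
    rw [hv]
    rw [Fintype.sum_equiv e.symm (fun ω => e.symm ω) (fun j => j) (fun ω => rfl)]
    exact sum_zmod_eq_zero hp2
  have hone : (fun _ => 1 : α → ZMod p) ∈ (Cfsg.permSumZero (ZMod p) G α).toSubmodule := by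
    show ∑ ω : α, (1 : ZMod p) = 0
    rw [Finset.sum_const, Finset.card_univ, hα]
    simp
  have hconstS : (Cfsg.permConstants (ZMod p) G α).toSubmodule ≤
      (Cfsg.permSumZero (ZMod p) G α).toSubmodule := by
    intro w hw
    change w ∈ Submodule.span (ZMod p) {fun _ => (1 : ZMod p)} at hw
    rw [Submodule.mem_span_singleton] at hw
    obtain ⟨c, rfl⟩ := hw
    exact Submodule.smul_mem _ c hone
  have hfone : f ⟨fun _ => 1, hone⟩ = 0 := by
    apply hf
    exact Submodule.subset_span rfl
  -- the action on `v`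
  have hgv : (Cfsg.permSumZero (ZMod p) G α).toRepresentation g ⟨v, hvS⟩ =
      ⟨v, hvS⟩ - ⟨fun _ => 1, hone⟩ := by
    apply Subtype.ext
    funext ω
    obtain ⟨j, rfl⟩ := e.surjective ω
    show v (g⁻¹ • e j) = v (e j) - 1
    rw [hginv, hv]
    simp
  have htv : (Cfsg.permSumZero (ZMod p) G α).toRepresentation t ⟨v, hvS⟩ = -⟨v, hvS⟩ := by
    apply Subtype.ext
    funext ω
    obtain ⟨j, rfl⟩ := e.surjective ω
    show v (t⁻¹ • e j) = -v (e j)
    rw [htinv, hv]
    simp
  obtain ⟨F, hF⟩ : ∃ F : Set.powersetCard α 2 → ZMod p, F = f ⟨v, hvS⟩ := ⟨_, rfl⟩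
  have hF1 : Cfsg.permRep (ZMod p) G (Set.powersetCard α 2) g F = F := by
    rw [hF, ← f.isIntertwining, hgv, map_sub, hfone, sub_zero]
  have hF2 : Cfsg.permRep (ZMod p) G (Set.powersetCard α 2) t F = -F := by
    rw [hF, ← f.isIntertwining, htv, map_neg]
  have hF1n : ∀ n : ℕ, Cfsg.permRep (ZMod p) G (Set.powersetCard α 2) (g ^ n) F = F := by
    intro n
    induction n with
    | zero => simp
    | succ n ih => rw [pow_succ, map_mul, Module.End.mul_apply, hF1, ih]
  have hgn : ∀ (n : ℕ) (j : ZMod p), (g ^ n : ↥G) • (e j) = e (j + (n : ZMod p)) := by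
    intro n
    induction n with
    | zero => intro j; simp
    | succ n ih =>
      intro j
      rw [pow_succ', mul_smul, ih]
      show (g : Equiv.Perm α) (e (j + (n : ZMod p))) = _
      rw [hg]
      congr 1
      push_cast; ring
  have hF3 : Cfsg.permRep (ZMod p) G (Set.powersetCard α 2) t F = F := by
    funext s
    show F (t⁻¹ • s) = F s
    obtain ⟨x, y, hxy, hs⟩ := Finset.card_eq_two.mp (s.2 : (s : Finset α).card = 2)
    obtain ⟨i, rfl⟩ := e.surjective x
    obtain ⟨j, rfl⟩ := e.surjective y
    have hts : t⁻¹ • s = (g ^ (i + j).val)⁻¹ • s := by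
      apply Subtype.ext
      show (t⁻¹ : ↥G) • (s : Finset α) = ((g ^ (i + j).val)⁻¹ : ↥G) • (s : Finset α)
      ext ω
      obtain ⟨k, rfl⟩ := e.surjective ω
      rw [Finset.mem_inv_smul_finset_iff, Finset.mem_inv_smul_finset_iff, hs]
      have h1 : (t : ↥G) • e k = e (-k) := ht k
      rw [h1, hgn]
      simp only [Finset.mem_insert, Finset.mem_singleton, EmbeddingLike.apply_eq_iff_eq,
        ZMod.natCast_val, ZMod.cast_id', id_eq]
      constructor
      · rintro (h | h)
        · right; rw [← h]; ring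
        · left; rw [← h]; ring
      · rintro (h | h)
        · right
          have : k = -j := by
            have h' : k + (i + j) - (i + j) = i - (i + j) := by rw [h]
            rw [add_sub_cancel_right] at h'
            rw [h']; ring
          rw [this, neg_neg]
        · left
          have : k = -i := by
            have h' : k + (i + j) - (i + j) = j - (i + j) := by rw [h]
            rw [add_sub_cancel_right] at h'
            rw [h']; ring
          rw [this, neg_neg]
    rw [hts]
    exact congrFun (hF1n (i + j).val) s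
  have hF0 : F = 0 := by
    have h1 : F = -F := by rw [← hF2, hF3]
    funext s
    have h2 : F s = -F s := congrFun h1 s
    have h3 : (2 : ZMod p) * F s = 0 := by
      rw [two_mul]
      nth_rewrite 1 [h2]
      exact neg_add_cancel _
    rcases mul_eq_zero.mp h3 with h | h
    · exact absurd h h2ne
    · exact h
  -- the kernel as a subrepresentation
  obtain ⟨W, hW⟩ : ∃ W : Subrepresentation (Cfsg.permRep (ZMod p) G α),
      W.toSubmodule = (LinearMap.ker f.toLinearMap).map
        (Cfsg.permSumZero (ZMod p) G α).toSubmodule.subtype := by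
    refine ⟨⟨(LinearMap.ker f.toLinearMap).map
        (Cfsg.permSumZero (ZMod p) G α).toSubmodule.subtype, ?_⟩, rfl⟩
    rintro x _ ⟨w, hw, rfl⟩
    refine ⟨(Cfsg.permSumZero (ZMod p) G α).toRepresentation x w, ?_, rfl⟩
    have hw' : f w = 0 := hw
    show f ((Cfsg.permSumZero (ZMod p) G α).toRepresentation x w) = 0
    rw [f.isIntertwining, hw', map_zero]
  have hCW : (Cfsg.permConstants (ZMod p) G α).toSubmodule ≤ W.toSubmodule := by
    intro w hw
    rw [hW]
    refine ⟨⟨w, hconstS hw⟩, ?_, rfl⟩
    show f ⟨w, hconstS hw⟩ = 0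
    exact hf _ hw
  have hWS : W.toSubmodule ≤ (Cfsg.permSumZero (ZMod p) G α).toSubmodule := by
    rw [hW]
    rintro _ ⟨w, -, rfl⟩
    exact w.2
  have hvW : v ∈ W.toSubmodule := by
    rw [hW]
    refine ⟨⟨v, hvS⟩, ?_, rfl⟩
    show f ⟨v, hvS⟩ = 0
    rw [← hF, hF0]
  have hWcases := Cfsg.Agent.S0674.result (K := ZMod p) hα G hG W hCW hWS
  have hWS' : W = Cfsg.permSumZero (ZMod p) G α := by
    rcases hWcases with h | h
    · exfalso
      rw [h] at hvW
      change v ∈ Submodule.span (ZMod p) {fun _ => (1 : ZMod p)} at hvW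
      rw [Submodule.mem_span_singleton] at hvW
      obtain ⟨c, hc⟩ := hvW
      have h0 := congrFun hc (e 0)
      have h1 := congrFun hc (e 1)
      rw [hv] at h0 h1
      simp only [Pi.smul_apply, smul_eq_mul, mul_one, Equiv.symm_apply_apply] at h0 h1
      rw [h0] at h1
      haveI : Fact (1 < p) := ⟨hp.one_lt⟩
      exact zero_ne_one h1
    · exact h
  apply Representation.IntertwiningMap.ext
  apply LinearMap.ext
  intro w
  have hw : (w : α → ZMod p) ∈ W.toSubmodule := by rw [hWS']; exact w.2
  rw [hW] at hw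
  obtain ⟨w', hw', hww⟩ := hw
  have : w' = w := Subtype.ext hww
  have hw'' : f w' = 0 := hw'
  rw [this] at hw''
  exact hw''

/-- A non-solvable transitive permutation group of prime degree `p` whose Sylow `p`-normaliser has even order is triply transitive. -/
theorem result {α : Type*} [Fintype α] [DecidableEq α] {p : ℕ} [Fact p.Prime] (hα : Fintype.card α = p) (G : Subgroup (Equiv.Perm α)) [MulAction.IsPretransitive G α] (hG : ¬ Group.IsSolvable G) (P : Sylow p G) (heven : Even (Nat.card (Subgroup.normalizer ((P : Subgroup G) : Set G)))) : MulAction.IsMultiplyPretransitive G α 3 := by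
  classical
  have hp : p.Prime := Fact.out
  have hp2 : p ≠ 2 := by
    intro h2
    apply hG
    have := Cfsg.Agent.Helper4.perm_isSolvable_of_card_two (α := α) (hα.trans h2)
    infer_instance
  obtain ⟨e, g, t, hg, ht, hto⟩ :=
    Cfsg.Agent.Helper4.PrimeDihedral.exists_dihedral hα hp2 G P heven
  have h2t : MulAction.IsMultiplyPretransitive G α 2 := by
    rcases Cfsg.Agent.S0675.result (by rw [hα]; exact hp) G with h | h
    · exact absurd h hG
    · exact h
  have hst : ∀ a : α, Even (Nat.card (MulAction.stabilizer G a)) := by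
    have hcard : ∀ a : α, Nat.card (MulAction.stabilizer G a) * p = Nat.card G := by
      intro a
      have h1 := MulAction.index_stabilizer_of_transitive (G := ↥G) (X := α) (x := a)
      rw [Nat.card_eq_fintype_card, hα] at h1
      rw [← h1]
      exact Subgroup.card_mul_index _
    have h0 : Even (Nat.card (MulAction.stabilizer G (e 0))) := by
      rw [even_iff_two_dvd, ← hto]
      apply Subgroup.orderOf_dvd_natCard
      rw [MulAction.mem_stabilizer_iff]
      show (t : Equiv.Perm α) (e 0) = e 0
      rw [ht, neg_zero]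
    intro a
    have h1 := (hcard a).trans (hcard (e 0)).symm
    rw [Nat.eq_of_mul_eq_mul_right hp.pos h1]
    exact h0
  exact Cfsg.Agent.S0672.result (K := ZMod p) (p := p) h2t (by rw [hα]) hst
    (fun f hf => key hα hp2 G hG e g t hg ht f hf)

end Cfsg.Agent.S0676
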