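import Mathlib
import Cfsg.Statements.S0265
import Cfsg.Agent.Lib.Helper2.CardSL

set_option autoImplicit false
open Cfsg

namespace Cfsg.Agent.S0265

open Matrix

/-- |PGL_n(q)| = |SL_n(q)|: GL_n modulo its centre (the q-1 non-zero scalars) has the same order as the kernel of det. -/
theorem result {F : Type*} [Field F] [Fintype F] (n : ℕ) : Nat.card (Matrix.ProjGenLinGroup (Fin n) F) = Nat.card (Matrix.SpecialLinearGroup (Fin n) F) := by
  classical
  rcases Nat.eq_zero_or_pos n with rfl | hn
  · -- everything is trivial
    have h1 : Subsingleton (GL (Fin 0) F) := ⟨fun a b => by ext i; exact i.elim0⟩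
    have h2 : Subsingleton (Matrix.SpecialLinearGroup (Fin 0) F) :=
      ⟨fun a b => by ext i; exact i.elim0⟩
    have h3 : Subsingleton (Matrix.ProjGenLinGroup (Fin 0) F) := by
      constructor
      intro a b
      induction a using ProjGenLinGroup.induction_on with
      | mk a =>
        induction b using ProjGenLinGroup.induction_on with
        | mk b => rw [Subsingleton.elim a b]
    rw [Nat.card_unique, Nat.card_unique]
  · haveI : NeZero n := ⟨hn.ne'⟩
    have h1 : Nat.card (GL (Fin n) F) =
        Nat.card (Matrix.ProjGenLinGroup (Fin n) F) * Nat.card (Subgroup.center (GL (Fin n) F)) :=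
      Subgroup.card_eq_card_quotient_mul_card_subgroup _
    have h2 : Nat.card (Subgroup.center (GL (Fin n) F)) = Nat.card Fˣ := by
      rw [GeneralLinearGroup.center_eq_range_scalar]
      apply Nat.card_congr
      symm
      refine Equiv.ofBijective (fun u => ⟨GeneralLinearGroup.scalar (Fin n) u, ⟨u, rfl⟩⟩) ⟨?_, ?_⟩
      · intro a b h
        have h' := congrArg Subtype.val h
        have := congrArg (fun g : GL (Fin n) F => (g : Matrix (Fin n) (Fin n) F) 0 0) h'
        simp at this
        exact Units.ext this
      · rintro ⟨_, ⟨u, rfl⟩⟩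
        exact ⟨u, rfl⟩
    have h3 := Cfsg.Agent.Helper2.card_GL_eq_card_SL_mul (n := Fin n) (F := F)
    rw [h1, h2] at h3
    have hpos : 0 < Nat.card Fˣ := Nat.card_pos
    exact Nat.eq_of_mul_eq_mul_right hpos h3

end Cfsg.Agent.S0265
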