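import Mathlib
import Cfsg.Agent.Lib.Helper22.Sharp3Final
import Cfsg.Agent.S0265
import Cfsg.Statements.S0727
-- import your own Cfsg.Agent.* helpers here

set_option autoImplicit false
open Cfsg

namespace Cfsg.Agent.S0727

open Cfsg.Agent.Helper22.Sharp3 Matrix

/-- in characteristic two, `SL₂` of a finite field is `PGL₂` -/
theorem sl_equiv_pgl {F : Type*} [Field F] [Fintype F] (h2 : ∀ x : F, x + x = 0) :
    Nonempty (SpecialLinearGroup (Fin 2) F ≃* ProjGenLinGroup (Fin 2) F) := by
  classical
  let φ : SpecialLinearGroup (Fin 2) F →* ProjGenLinGroup (Fin 2) F :=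
    (ProjGenLinGroup.mk).comp SpecialLinearGroup.toGL
  have hinj : Function.Injective φ := by
    rw [injective_iff_map_eq_one]
    intro A hA
    have h1 : SpecialLinearGroup.toGL A ∈ Subgroup.center (GL (Fin 2) F) :=
      ProjGenLinGroup.mk_eq_one.mp hA
    rw [GeneralLinearGroup.center_eq_range_scalar] at h1
    obtain ⟨u, hu⟩ := h1
    have h3 : (A : Matrix (Fin 2) (Fin 2) F) = Matrix.scalar (Fin 2) (u : F) := by
      have := congrArg (fun g : GL (Fin 2) F => (g : Matrix (Fin 2) (Fin 2) F)) hu
      simp only [GeneralLinearGroup.coe_scalar] at this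
      exact this.symm
    have hdet : (u : F) * u = 1 := by
      have h4 := A.2
      rw [h3] at h4
      simpa [Matrix.det_fin_two, sq] using h4
    have hu1 : (u : F) = 1 := by
      have h5 : ((u : F) + 1) * ((u : F) + 1) = 0 := by
        have : ((u : F) + 1) * ((u : F) + 1) = (u : F) * u + 1 + ((u : F) + u) := by ring
        rw [this, hdet, h2, h2, add_zero]
      have h6 : (u : F) + 1 = 0 := by
        rcases mul_eq_zero.mp h5 with h | h <;> exact h
      have h7 : (u : F) = -1 := eq_neg_of_add_eq_zero_left h6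
      have h8 : (-1 : F) = 1 := by
        have := h2 1
        exact neg_eq_of_add_eq_zero_left this
      rw [h7, h8]
    apply Subtype.ext
    rw [h3, hu1]
    simp
  haveI : Finite (ProjGenLinGroup (Fin 2) F) :=
    Finite.of_surjective _ (ProjGenLinGroup.mk_surjective (n := Fin 2) (R := F))
  have hbij : Function.Bijective φ := by
    apply hinj.bijective_of_nat_card_le
    rw [Cfsg.Agent.S0265.result (F := F) 2]
  exact ⟨MulEquiv.ofBijective φ hbij⟩

/-- A sharply triply transitive permutation group of degree `2^f + 1` is isomorphic to the projective general linear group of degree 2 over the field with `2^f` elements. -/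
theorem result {α : Type*} [Fintype α] [DecidableEq α] {f : ℕ} (hf : 1 ≤ f) (hα : Fintype.card α = 2 ^ f + 1) (G : Subgroup (Equiv.Perm α)) (h3 : MulAction.IsMultiplyPretransitive G α 3) (hsharp : ∀ x : Fin 3 ↪ α, MulAction.stabilizer G x = ⊥) : ∃ (F : Type) (_ : Field F) (_ : Fintype F), Fintype.card F = 2 ^ f ∧ Nonempty (G ≃* Matrix.ProjGenLinGroup (Fin 2) F) := by
  classical
  have hT : Tr3 G α := tr3_of_pretransitive h3
  have hU : Uq3 G α := by
    intro g a b c hab hac hbc ha hb hc
    have h1 : g ∈ MulAction.stabilizer G (embOfThree a b c hab hac hbc) :=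
      MulAction.mem_stabilizer_iff.mpr (smul_embOfThree hab hac hbc ha hb hc)
    rw [hsharp] at h1
    exact Subgroup.mem_bot.mp h1
  have hodd : Odd (Fintype.card α) := by
    rw [hα]
    have : Even (2 ^ f) := (Nat.even_pow' (by omega)).mpr even_two
    exact this.add_one
  have hm : 3 ≤ Fintype.card α := by
    rw [hα]
    have : 2 ^ 1 ≤ 2 ^ f := Nat.pow_le_pow_right (by norm_num) hf
    omega
  obtain ⟨C⟩ := nonempty_cfg hT hU hodd hm
  obtain ⟨a, ha, hcard, ⟨e⟩⟩ := exists_galois C
  have haf : a = f := by
    rw [hα] at hcard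
    have : 2 ^ f = 2 ^ a := by omega
    exact (Nat.pow_right_injective (le_refl 2) this).symm
  subst haf
  letI : Fintype (GaloisField 2 a) := Fintype.ofFinite _
  obtain ⟨e'⟩ := sl_equiv_pgl (F := GaloisField 2 a) (fun x => CharTwo.add_self_eq_zero x)
  refine ⟨GaloisField 2 a, inferInstance, inferInstance, ?_, ⟨e.trans e'⟩⟩
  rw [← Nat.card_eq_fintype_card, GaloisField.card 2 a (by omega)]

end Cfsg.Agent.S0727
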