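import Mathlib
import Cfsg.Statements.S4706
import Cfsg.Agent.S0676
import Cfsg.Agent.S1013
import Cfsg.Agent.S0346
import Cfsg.Agent.S0727
import Cfsg.Agent.Lib.Helper4.PrimeCycle
import Cfsg.Agent.Lib.Helper4.PrimeDihedral
import Cfsg.Agent.Lib.Helper4.SmallPermSolvable
import Cfsg.Agent.Lib.Helper5.OrderPCount
import Cfsg.Agent.Lib.Helper17.ItoCount
import Cfsg.Agent.Lib.Helper17.ItoSolv
import Cfsg.Agent.Lib.Helper17.ItoSL

set_option autoImplicit false
set_option linter.style.haveILetI false
open Cfsg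

namespace Cfsg.Agent.S4706

open Cfsg.Agent.Helper17.Ito

/-- three distinct fixed points give `3 ≤ fixN` -/
theorem three_le_fixN {G α : Type*} [Group G] [Fintype α] [DecidableEq α] [MulAction G α]
    (g : G) (a b c : α) (hab : a ≠ b) (hbc : b ≠ c) (hac : a ≠ c)
    (ha : g • a = a) (hb : g • b = b) (hc : g • c = c) : 3 ≤ fixN (Ω := α) g := by
  have : 2 < Fintype.card (MulAction.fixedBy α g) := by
    rw [Fintype.two_lt_card_iff]
    refine ⟨⟨a, ha⟩, ⟨b, hb⟩, ⟨c, hc⟩, ?_, ?_, ?_⟩
    · exact fun h => hab (congrArg Subtype.val h)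
    · exact fun h => hac (congrArg Subtype.val h)
    · exact fun h => hbc (congrArg Subtype.val h)
  exact this

/-- Let p > 2 be a prime and G a permutation group on p letters whose Sylow p-subgroup P has normalizer of order 2p. Then either P is normal in G, or p − 1 = 2^a for some a and G is isomorphic to SL(2, 2^a). -/
theorem result {α : Type*} [Fintype α] [DecidableEq α] {p : ℕ} [Fact p.Prime] (hp : 2 < p) (hα : Fintype.card α = p) (G : Subgroup (Equiv.Perm α)) (P : Sylow p G) (hN : Nat.card (Subgroup.normalizer ((P : Subgroup G) : Set G)) = 2 * p) : (P : Subgroup G).Normal ∨ ∃ (a : ℕ) (F : Type) (_ : Field F) (_ : Fintype F), p = 2 ^ a + 1 ∧ Fintype.card F = 2 ^ a ∧ Nonempty (G ≃* Matrix.SpecialLinearGroup (Fin 2) F) := by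
  classical
  have hpp : p.Prime := Fact.out
  by_cases hPn : (P : Subgroup G).Normal
  · exact Or.inl hPn
  right
  letI : Fintype G := Fintype.ofFinite G
  set N := Subgroup.normalizer ((P : Subgroup G) : Set G) with hNdef
  have hNG : Nat.card N ∣ Nat.card G := Subgroup.card_subgroup_dvd_card N
  have hpG : p ∣ Nat.card G := by
    refine Dvd.dvd.trans ?_ hNG
    rw [hN]; exact Dvd.intro_left 2 rfl
  have hPN : (P : Subgroup G) ≤ N := Subgroup.le_normalizer
  -- the Sylow subgroup has order `p`
  have hPcard : Nat.card (P : Subgroup G) = p := by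
    have h1 : Nat.card (P : Subgroup G) ∣ 2 * p := by
      rw [← hN]; exact Subgroup.card_dvd_of_le hPN
    rw [P.card_eq_multiplicity] at h1 ⊢
    have hk1 : 1 ≤ (Nat.card G).factorization p :=
      hpp.factorization_pos_of_dvd Nat.card_pos.ne' hpG
    have hk2 : (Nat.card G).factorization p ≤ 1 := by
      by_contra h
      have h2 : p ^ 2 ∣ 2 * p := (pow_dvd_pow p (by omega)).trans h1
      rw [sq] at h2
      have h3 : p ∣ 2 := Nat.dvd_of_mul_dvd_mul_right hpp.pos h2
      have := Nat.le_of_dvd (by norm_num) h3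
      omega
    have : (Nat.card G).factorization p = 1 := by omega
    rw [this, pow_one]
  have hPall : ∀ Q : Sylow p G, Nat.card (Q : Subgroup G) = p := by
    intro Q
    rw [Sylow.card_eq_multiplicity, ← P.card_eq_multiplicity, hPcard]
  -- elements of order `p` have no fixed point
  have hfpf : ∀ g : G, orderOf g = p → ∀ a : α, g • a ≠ a := by
    intro g hg a h
    have hσ : orderOf ((g : G) : Equiv.Perm α) = p := by rw [Subgroup.orderOf_coe]; exact hg
    obtain ⟨e, he⟩ := Cfsg.Agent.Helper4.exists_equiv_zmod hα _ hσ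
    obtain ⟨j, rfl⟩ := e.surjective a
    have h1 : e (j + 1) = e j := by rw [he]; exact h
    have h2 := e.injective h1
    have h3 : (1 : ZMod p) = 0 := by
      have := congrArg (fun t => t - j) h2
      simpa using this
    exact one_ne_zero h3
  -- transitivity
  obtain ⟨x, hx⟩ := exists_prime_orderOf_dvd_card' (G := G) p hpG
  haveI htrans : MulAction.IsPretransitive G α := by
    have hσ : orderOf ((x : G) : Equiv.Perm α) = p := by rw [Subgroup.orderOf_coe]; exact hx
    obtain ⟨e, he⟩ := Cfsg.Agent.Helper4.exists_equiv_zmod hα _ hσ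
    refine ⟨fun a b => ?_⟩
    obtain ⟨i, rfl⟩ := e.surjective a
    obtain ⟨j, rfl⟩ := e.surjective b
    refine ⟨x ^ (((j - i : ZMod p).val : ℕ) : ℤ), ?_⟩
    show ((x ^ (((j - i : ZMod p).val : ℕ) : ℤ) : G) : Equiv.Perm α) (e i) = e j
    rw [Subgroup.coe_zpow, Cfsg.Agent.Helper4.PrimeDihedral.zpow_apply _ e he]
    congr 1
    rw [Int.cast_natCast, ZMod.natCast_zmod_val]
    ring
  -- the set of elements of order `p`
  set S : Finset G := Finset.univ.filter (fun g => orderOf g = p) with hSdef
  have hSfix : ∀ g ∈ S, fixN (Ω := α) g = 0 := by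
    intro g hg
    have hgo : orderOf g = p := (Finset.mem_filter.mp hg).2
    simp only [fixN]
    rw [Fintype.card_eq_zero_iff]
    exact ⟨fun y => hfpf g hgo y.1 y.2⟩
  have hScard : S.card = Nat.card (Sylow p G) * (p - 1) := by
    rw [← Cfsg.Agent.Helper5.card_orderOf_eq_prime hPall, Nat.card_eq_fintype_card,
      Fintype.card_subtype]
  have hnp : Nat.card (Sylow p G) = N.index := Sylow.card_eq_index_normalizer P
  have hGcard : 2 * p * N.index = Nat.card G := by
    rw [← hN]; exact Subgroup.card_mul_index N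
  have hcount : (Fintype.card α - 1) * Fintype.card G ≤ 2 * Fintype.card α * S.card := by
    rw [hα, hScard, hnp, ← Nat.card_eq_fintype_card (α := G), ← hGcard]
    apply le_of_eq
    ring
  -- `G` is not solvable
  have hsol : ¬ Group.IsSolvable G := fun h => hPn (normal_of_solvable hα G h P hPcard)
  have heven : Even (Nat.card N) := by rw [hN]; exact even_two_mul p
  have h3 : MulAction.IsMultiplyPretransitive G α 3 :=
    Cfsg.Agent.S0676.result hα G hsol P heven
  have hp3 : 3 ≤ Fintype.card α := by rw [hα]; omega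
  have hsharp0 : ∀ g : G, 3 ≤ fixN (Ω := α) g → g = 1 := fun g hg =>
    eq_one_of_three_le_fixN h3 hp3 S hSfix hcount g hg
  have hsharp1 : ∀ g : G, ∀ a b c : α, a ≠ b → b ≠ c → a ≠ c → g • a = a → g • b = b →
      g • c = c → g = 1 := fun g a b c hab hbc hac ha hb hc =>
    hsharp0 g (three_le_fixN g a b c hab hbc hac ha hb hc)
  -- `p ≥ 5`
  have hp5 : 5 ≤ p := by
    have h3' : p ≠ 3 := by
      intro h
      apply hsol
      have := Cfsg.Agent.Helper4.perm_isSolvable_of_card_three (α := α) (hα.trans h)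
      infer_instance
    have h4' : p ≠ 4 := by
      intro h
      rw [h] at hpp
      exact absurd hpp (by norm_num)
    omega
  -- simplicity
  have hnSyl : 1 < Nat.card (Sylow p G) := by
    by_contra hle
    have hpos : 0 < Nat.card (Sylow p G) := Nat.card_pos
    have h1 : N.index = 1 := by rw [← hnp]; omega
    have h2 : N = ⊤ := Subgroup.index_eq_one.mp h1
    exact hPn (Subgroup.normalizer_eq_top_iff.mp h2)
  have hidx : ((P : Subgroup G).subgroupOf N).index = 2 := by
    have h3' := Subgroup.card_mul_index ((P : Subgroup G).subgroupOf N)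
    have h4 : Nat.card ((P : Subgroup G).subgroupOf N) = p :=
      (Nat.card_congr (Subgroup.subgroupOfEquivOfLe hPN).toEquiv).trans hPcard
    rw [h4, hN, mul_comm 2 p] at h3'
    exact Nat.eq_of_mul_eq_mul_left hpp.pos h3'
  haveI hsimple : IsSimpleGroup G :=
    Cfsg.Agent.S1013.result hα G P hnSyl (by rw [hidx]; exact Nat.prime_two)
  -- four distinct points and an element fixing two of them
  obtain ⟨f⟩ : Nonempty (Fin 4 ↪ α) := by
    rw [Function.Embedding.nonempty_iff_card_le, Fintype.card_fin, hα]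
    omega
  have h2t : MulAction.IsMultiplyPretransitive G α 2 := by
    haveI := h3
    exact MulAction.isMultiplyPretransitive_of_le (n := 3) (by norm_num)
      (by rw [Nat.card_eq_fintype_card]; exact hp3)
  obtain ⟨g₀, hg₀⟩ := h3.exists_smul_eq ((Fin.succAboveEmb (3 : Fin 4)).trans f)
    ((Fin.succAboveEmb (2 : Fin 4)).trans f)
  have hg0 : g₀ • f 0 = f 0 := by
    have := DFunLike.congr_fun hg₀ (0 : Fin 3)
    simpa [Function.Embedding.smul_apply, Fin.succAbove] using this
  have hg1 : g₀ • f 1 = f 1 := by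
    have := DFunLike.congr_fun hg₀ (1 : Fin 3)
    simpa [Function.Embedding.smul_apply, Fin.succAbove] using this
  have hg2 : g₀ • f 2 = f 3 := by
    have := DFunLike.congr_fun hg₀ (2 : Fin 3)
    simpa [Function.Embedding.smul_apply, Fin.succAbove] using this
  have hf01 : f 0 ≠ f 1 := fun h => absurd (f.injective h) (by decide)
  have hf23 : f 2 ≠ f 3 := fun h => absurd (f.injective h) (by decide)
  have hg₀1 : g₀ ≠ 1 := by
    intro h
    rw [h, one_smul] at hg2
    exact hf23 hg2
  have hZ : Cfsg.IsZassenhausGroup G α := by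
    refine ⟨inferInstance, h2t, hsharp1, ⟨g₀, hg₀1, f 0, f 1, hf01, hg0, hg1⟩, ?_⟩
    intro M hM hMt
    rcases hM.eq_bot_or_eq_top with h | h
    · exfalso
      obtain ⟨⟨m, hmM⟩, hm⟩ := hMt.exists_smul_eq (f 0) (f 1)
      have hm1 : m = 1 := Subgroup.mem_bot.mp (by rw [← h]; exact hmM)
      have hm' : m • f 0 = f 1 := hm
      rw [hm1, one_smul] at hm'
      exact hf01 hm'
    · refine ⟨f 0, fun hbot => ?_⟩
      have hmem : (⟨g₀, h ▸ Subgroup.mem_top g₀⟩ : M) ∈ MulAction.stabilizer M (f 0) := by
        rw [MulAction.mem_stabilizer_iff]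
        exact hg0
      rw [hbot, Subgroup.mem_bot] at hmem
      exact hg₀1 (congrArg Subtype.val hmem)
  have hpow : IsPrimePow (Fintype.card α - 1) := Cfsg.Agent.S0346.result hZ
  rw [hα, isPrimePow_nat_iff] at hpow
  obtain ⟨q, k, hq, hk, hqk⟩ := hpow
  have hodd : Odd p := hpp.odd_of_ne_two (by omega)
  have hq2 : q = 2 := by
    have h2 : 2 ∣ q ^ k := by
      rw [hqk]
      obtain ⟨m, hm⟩ := hodd
      exact ⟨m, by omega⟩
    have h3' : 2 ∣ q := Nat.Prime.dvd_of_dvd_pow Nat.prime_two h2
    exact ((Nat.prime_dvd_prime_iff_eq Nat.prime_two hq).mp h3').symm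
  subst hq2
  have hp_eq : p = 2 ^ k + 1 := by
    have := hpp.one_lt
    omega
  obtain ⟨F, instF, instFt, hFcard, ⟨e⟩⟩ :=
    Cfsg.Agent.S0727.result (f := k) hk (hα.trans hp_eq) G h3 (by
      intro y
      rw [Subgroup.eq_bot_iff_forall]
      intro g hg
      rw [MulAction.mem_stabilizer_iff] at hg
      have hy : ∀ i, g • y i = y i := fun i => by
        have := DFunLike.congr_fun hg i
        exact this
      exact hsharp1 g (y 0) (y 1) (y 2) (fun h => absurd (y.injective h) (by decide))
        (fun h => absurd (y.injective h) (by decide))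
        (fun h => absurd (y.injective h) (by decide)) (hy 0) (hy 1) (hy 2))
  have hevenF : Fintype.card F % 2 = 0 := by
    rw [hFcard]
    obtain ⟨k', rfl⟩ : ∃ k', k = k' + 1 := ⟨k - 1, by omega⟩
    rw [pow_succ]
    omega
  exact ⟨k, F, instF, instFt, hp_eq, hFcard, ⟨e.trans (slEquivPGL hevenF).symm⟩⟩

end Cfsg.Agent.S4706
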