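import Mathlib
import Cfsg.Statements.S0731
import Cfsg.Agent.Lib.Helper27.Zq1G

set_option autoImplicit false
open Cfsg

namespace Cfsg.Agent.S0731

open Cfsg.Agent.Helper27.ZQ

/-- A finite Zassenhaus group whose point stabiliser has an abelian regular normal subgroup on the remaining points is sharply triply transitive or isomorphic to `PSL(2, F)` for a finite field `F` of odd characteristic. -/
theorem result {G Ω : Type*} [Group G] [Finite G] [MulAction G Ω] [Finite Ω] (hZ : Cfsg.IsZassenhausGroup G Ω) (x : Ω) (F : Subgroup G) (hFle : F ≤ MulAction.stabilizer G x) (hFn : (F.subgroupOf (MulAction.stabilizer G x)).Normal) (hFab : IsMulCommutative F) (hreg : ∀ y z : Ω, y ≠ x → z ≠ x → ∃! u : F, (u : G) • y = z) : (MulAction.IsMultiplyPretransitive G Ω 3 ∧ ∀ t : Fin 3 ↪ Ω, MulAction.stabilizer G t = ⊥) ∨ ∃ (K : Type) (_ : Field K) (_ : Fintype K), ringChar K ≠ 2 ∧ Nonempty (G ≃* Matrix.ProjectiveSpecialLinearGroup (Fin 2) K) := by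
  obtain ⟨y, hyx, -⟩ := exists_third hZ x x
  have hab : ∀ a ∈ F, ∀ b ∈ F, a * b = b * a := by
    intro a ha b hb
    have := hFab.is_comm.comm (⟨a, ha⟩ : F) ⟨b, hb⟩
    exact congrArg Subtype.val this
  have D := zd_of_zassenhaus hZ (Ne.symm hyx) F hFle hFn hab hreg
  rcases D.main_of_zd hZ with h | ⟨p, f, hp, hp2, hf0, hnpf, h2d, he⟩
  · exact Or.inl (D.sharply_three h)
  · right
    letI : Fintype (GaloisField p f) := Fintype.ofFinite _
    refine ⟨GaloisField p f, inferInstance, inferInstance, ?_, he⟩
    intro hchar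
    have h1 := FiniteField.even_card_iff_char_two.1 hchar
    have h2 : Fintype.card (GaloisField p f) = Nat.card F := by
      rw [← Nat.card_eq_fintype_card, GaloisField.card p f hf0, hnpf]
    have hn2 := D.two_le_card_F
    omega

end Cfsg.Agent.S0731
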