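import Mathlib
import Cfsg.Statements.S2947
import Cfsg.Agent.Lib.Helper15.StronglyEmbedded
import Cfsg.Agent.Lib.Helper15.PCore
import Cfsg.Agent.Lib.Helper3.Thompson

set_option autoImplicit false
open Cfsg

namespace Cfsg.Agent.S2947

open Cfsg.Agent.Helper15

variable {G : Type*} [Group G]

theorem two_dvd_card_of_le [Finite G] {U H : Subgroup G} (hU : IsPGroup 2 ↥U) (hU1 : U ≠ ⊥)
    (hUH : U ≤ H) : 2 ∣ Nat.card ↥H := by
  haveI : Fact (Nat.Prime 2) := ⟨Nat.prime_two⟩
  obtain ⟨z, hzU, hz⟩ := exists_orderOf_eq_prime_of_ne_bot hU hU1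
  have := orderOf_dvd_natCard (⟨z, hUH hzU⟩ : H)
  rwa [Subgroup.orderOf_mk, hz] at this

theorem centralizer_singleton_le_normalizer_zpowers (z : G) :
    Subgroup.centralizer ({z} : Set G) ≤ Subgroup.normalizer ((Subgroup.zpowers z : Subgroup G) : Set G) := by
  have : Subgroup.centralizer ({z} : Set G)
      = Subgroup.centralizer ((Subgroup.zpowers z : Subgroup G) : Set G) := by
    rw [Subgroup.zpowers_eq_closure, Subgroup.centralizer_closure]
  rw [this]
  exact Subgroup.centralizer_le_normalizer _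

theorem isPGroup_zpowers_two {z : G} (hz : orderOf z = 2) : IsPGroup 2 ↥(Subgroup.zpowers z) := by
  haveI : Fact (Nat.Prime 2) := ⟨Nat.prime_two⟩
  apply IsPGroup.of_card (n := 1)
  rw [Nat.card_zpowers, hz, pow_one]

theorem zpowers_ne_bot_two {z : G} (hz : orderOf z = 2) : Subgroup.zpowers z ≠ ⊥ := by
  intro h
  have := Subgroup.zpowers_eq_bot.mp h
  rw [this, orderOf_one] at hz
  omega

theorem normalizer_le_of_stronglyEmbedded [Finite G] {M U : Subgroup G}
    (hSE : Cfsg.IsStronglyEmbedded M) (hU : IsPGroup 2 ↥U) (hU1 : U ≠ ⊥) (hUM : U ≤ M) :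
    Subgroup.normalizer (U : Set G) ≤ M := by
  intro g hg
  by_contra hgM
  have hodd := hSE.2.2 g hgM
  have hle : U ≤ M ⊓ M.map (MulAut.conj g).toMonoidHom := by
    apply le_inf hUM
    intro u hu
    rw [mem_map_conj_iff]
    exact hUM ((Subgroup.mem_normalizer_iff''.mp hg u).mp hu)
  have h2 := two_dvd_card_of_le hU hU1 hle
  rw [← even_iff_two_dvd] at h2
  exact (Nat.not_even_iff_odd.mpr hodd) h2

/-- statement -/
theorem result {G : Type*} [Group G] [Finite G] (hL : Cfsg.IsCharacteristicTwoType G) (hN : ∀ N : Subgroup G, Cfsg.IsTwoLocal N → Group.IsSolvable ↥N)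
    (hZ : ∀ S : Sylow 2 G, Subgroup.centralizer (Cfsg.omegaCenterOf (S : Subgroup G) : Set G) ≤ Subgroup.normalizer ((S : Subgroup G) : Set G)) (hO : Cfsg.pCore 2 G = ⊥) (S : Sylow 2 G) (M : Subgroup G) (hM : Cfsg.IsTwoLocal M)
    (hMJ : Subgroup.normalizer (Cfsg.thompsonSubgroupOf 2 (S : Subgroup G) : Set G) ≤ M) :
    Cfsg.IsStronglyEmbedded M ↔ Cfsg.straddlingTwoSubgroups M = ∅ := by
  haveI : Fact (Nat.Prime 2) := ⟨Nat.prime_two⟩
  constructor
  · intro hSE
    rw [Set.eq_empty_iff_forall_notMem]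
    rintro T ⟨hT2, hT1, hTM, L, ⟨Q, hQ2, hQ1, rfl⟩, hTL, hLM⟩
    apply hLM
    have hTQ : IsPGroup 2 ↥(T ⊔ Q) := hT2.to_sup_of_normal_right' hQ2 hTL
    obtain ⟨R, hR⟩ := hTQ.exists_le_sylow
    have hTR : T ≤ (R : Subgroup G) := le_sup_left.trans hR
    have hQR : Q ≤ (R : Subgroup G) := le_sup_right.trans hR
    have hR1 : (R : Subgroup G) ≠ ⊥ := by
      intro hb
      apply hT1
      rw [eq_bot_iff, ← hb]
      exact hTR
    obtain ⟨z, hzR, hz, hRz⟩ := exists_orderOf_eq_prime_centralized R.isPGroup' le_rfl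
      Subgroup.le_normalizer hR1
    have hzM : z ∈ M := by
      apply normalizer_le_of_stronglyEmbedded hSE hT2 hT1 hTM
      apply Subgroup.centralizer_le_normalizer
      rw [Subgroup.mem_centralizer_iff]
      intro t ht
      have := hRz (hTR ht)
      rw [mem_centralizer_singleton_iff] at this
      exact this
    have hRM : (R : Subgroup G) ≤ M := by
      refine hRz.trans ((centralizer_singleton_le_normalizer_zpowers z).trans ?_)
      apply normalizer_le_of_stronglyEmbedded hSE (isPGroup_zpowers_two hz) (zpowers_ne_bot_two hz)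
      rw [Subgroup.zpowers_le]
      exact hzM
    exact normalizer_le_of_stronglyEmbedded hSE hQ2 hQ1 (hQR.trans hRM)
  · intro hemp
    have h2' : ∀ U : Subgroup G, IsPGroup 2 ↥U → U ≠ ⊥ → U ≤ M →
        Subgroup.normalizer (U : Set G) ≤ M := by
      intro U hU hU1 hUM
      by_contra hn
      have : U ∈ Cfsg.straddlingTwoSubgroups M :=
        ⟨hU, hU1, hUM, Subgroup.normalizer (U : Set G), ⟨U, hU, hU1, rfl⟩,
          Subgroup.le_normalizer, hn⟩
      rw [hemp] at this
      exact this
    obtain ⟨Q, hQ2, hQ1, hMQ⟩ := hM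
    have hQM : Q ≤ M := hMQ ▸ Subgroup.le_normalizer
    refine ⟨?_, ?_, ?_⟩
    · intro htop
      have hQn : Q.Normal := by
        rw [← Subgroup.normalizer_eq_top_iff, ← hMQ]
        exact htop
      have := le_pCore hQn hQ2
      rw [hO] at this
      exact hQ1 (eq_bot_iff.mpr this)
    · exact even_iff_two_dvd.mpr (two_dvd_card_of_le hQ2 hQ1 hQM)
    · intro g hgM
      by_contra hnotodd
      rw [Nat.not_odd_iff_even, even_iff_two_dvd] at hnotodd
      obtain ⟨x, hx⟩ := exists_prime_orderOf_dvd_card' 2 hnotodd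
      have hSM : (S : Subgroup G) ≤ M := by
        refine le_trans ?_ hMJ
        intro s hs
        unfold Cfsg.thompsonSubgroupOf
        have hchar := Cfsg.Agent.Helper3.thompsonSubgroup_characteristic
          (G := ↥(S : Subgroup G)) 2
        have hn : (Cfsg.thompsonSubgroup 2 ↥(S : Subgroup G)).Normal := inferInstance
        have h1 := Subgroup.le_normalizer_map (S : Subgroup G).subtype
          (H := Cfsg.thompsonSubgroup 2 ↥(S : Subgroup G))
        apply h1
        rw [Subgroup.normalizer_eq_top]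
        exact ⟨⟨s, hs⟩, Subgroup.mem_top _, rfl⟩
      have h2G : 2 ∣ Nat.card G := (two_dvd_card_of_le hQ2 hQ1 hQM).trans
        (Subgroup.card_subgroup_dvd_card M)
      have hS1 : (S : Subgroup G) ≠ ⊥ := S.ne_bot_of_dvd_card h2G
      have ha : ∀ y ∈ (S : Subgroup G), orderOf y = 2 →
          Subgroup.centralizer ({y} : Set G) ≤ M := by
        intro y hy hy2
        refine (centralizer_singleton_le_normalizer_zpowers y).trans ?_
        apply h2' _ (isPGroup_zpowers_two hy2) (zpowers_ne_bot_two hy2)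
        rw [Subgroup.zpowers_le]
        exact hSM hy
      have hb : Subgroup.normalizer ((S : Subgroup G) : Set G) ≤ M :=
        h2' _ S.isPGroup' hS1 hSM
      apply hgM
      have hxmem := Subgroup.mem_inf.mp x.2
      exact mem_of_inf_conj_orderOf_eq_prime (isSylowIn_of_sylow_le S hSM) ha hb g (x : G)
        hxmem.1 hxmem.2 (by rw [Subgroup.orderOf_coe]; exact hx)

end Cfsg.Agent.S2947
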