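import Mathlib
import Cfsg.Statements.S2949
import Cfsg.Agent.Lib.Helper7.JC48B
import Cfsg.Agent.Lib.Helper25.JCConj
import Cfsg.Agent.Lib.Helper14.Ambient
import Cfsg.Agent.Lib.Helper13.JCASM2

set_option autoImplicit false
open Cfsg

namespace Cfsg.Agent.S2949

/-- Let G be a finite group of characteristic 2 type in which every 2-local subgroup is solvable and the centralizer of Ω₁(Z(S)) lies in N_G(S) for every Sylow 2-subgroup S; suppose O₂(G) = 1, fix a Sylow 2-subgroup S and a 2-local subgroup M containing N_G(J(S)) (J the Thompson subgroup generated by the elementary abelian 2-subgroups of largest order). For every T maximal (for the order of a largest elementary abelian subgroup, then the order of J(T), then the order of T) among the nontrivial 2-subgroups of M lying in a 2-local subgroup not inside M, there is a J(T)-component K not contained in M with J(T) the Thompson subgroup of every Sylow 2-subgroup of N_G(W_K) containing J(T), and O₂(⟨K, T⟩) ≠ 1. -/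
theorem result {G : Type*} [Group G] [Finite G] (hL : Cfsg.IsCharacteristicTwoType G) (hN : ∀ N : Subgroup G, Cfsg.IsTwoLocal N → Group.IsSolvable ↥N)
    (hZ : ∀ S : Sylow 2 G, Subgroup.centralizer (Cfsg.omegaCenterOf (S : Subgroup G) : Set G) ≤ Subgroup.normalizer ((S : Subgroup G) : Set G)) (hO : Cfsg.pCore 2 G = ⊥) (S : Sylow 2 G) (M : Subgroup G) (hM : Cfsg.IsTwoLocal M)
    (hMJ : Subgroup.normalizer (Cfsg.thompsonSubgroupOf 2 (S : Subgroup G) : Set G) ≤ M) (T : Subgroup G) (hT : T ∈ Cfsg.maxStraddlingTwoSubgroups M) :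
    (Cfsg.jComponentsOutside M T).Nonempty := by
  have hTs := hT.1
  obtain ⟨hT2, hT1, hTM, L', hL'2, hTL', hL'M⟩ := hTs
  -- `L' ∈ ℒ(T)`
  have hLT : L' ∈ jOvergroups T :=
    Cfsg.Agent.Helper7.JC48.mem_jOvergroups_self_of_max hL S hMJ hT hL'2 hL'M hTL'
  have hNJ : Subgroup.normalizer (thompsonSubgroupOf 2 T : Set G) ≤ M :=
    Cfsg.Agent.Helper7.JC48.normalizer_J_le_of_max S hMJ hT
  -- some component of `L'` is not inside `M`
  have hex : ∃ K : Subgroup G, IsJComponent T K ∧ K ≤ L' ∧ ¬ K ≤ M := by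
    by_contra hcon
    push Not at hcon
    exact hL'M (Cfsg.Agent.Helper13.JCFF.le_of_comps_le hN hZ T hT1 L' hLT M hTM
      (inf_le_right.trans hNJ) (fun K hK hKL => hcon K hK hKL))
  obtain ⟨K, hK, hKL', hKM⟩ := hex
  refine ⟨K, ⟨hK, ?_⟩, hKM, ?_⟩
  · -- `K ∈ 𝒦₀(T)`
    intro S' hJS' hS'
    have hW4 : Nat.card (wOf K) = 4 := hK.2.2.2.2.1
    have hWp : IsPGroup 2 (wOf K) := by
      apply IsPGroup.of_card (n := 2)
      rw [hW4]; norm_num
    have hW1 : wOf K ≠ ⊥ := by
      intro h
      rw [h, Subgroup.card_bot] at hW4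
      omega
    have hloc : IsTwoLocal (Subgroup.normalizer (wOf K : Set G)) := ⟨wOf K, hWp, hW1, rfl⟩
    have hKN : K ≤ Subgroup.normalizer (wOf K : Set G) :=
      Subgroup.le_normalizer.trans (Cfsg.Agent.Helper25.JC.normalizer_le_normalizer_wOf K)
    have hNM : ¬ Subgroup.normalizer (wOf K : Set G) ≤ M := fun h => hKM (hKN.trans h)
    exact (Cfsg.Agent.Helper7.JC48.J_eq_and_le_of_max S hMJ hT hloc hNM hS' hJS').1.symm
  · -- `O₂(⟨K, T⟩) ≠ 1`
    have hTsyl : IsSylowTwoIn T L' := hLT.1
    have hQT : pCoreOf 2 L' ≤ T :=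
      Cfsg.Agent.Helper7.Glaub.pCoreOf_le_of_isSylowIn
        (Cfsg.Agent.Helper7.JC48.isSylowIn_of_two hTsyl)
    have hQne : pCoreOf 2 L' ≠ ⊥ := by
      intro h
      have hc := hLT.2.2
      rw [h] at hc
      have htop : Subgroup.centralizer ((⊥ : Subgroup G) : Set G) = ⊤ := by
        rw [Subgroup.coe_bot]
        exact Subgroup.centralizer_eq_top_iff_subset.2 (by
          intro x hx
          rw [Set.mem_singleton_iff] at hx
          subst hx
          exact (Subgroup.center G).one_mem)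
      rw [htop] at hc
      apply hT1
      exact le_bot_iff.1 (le_top.trans hc)
    have hYL : K ⊔ T ≤ L' := sup_le hKL' hTL'
    have hle : pCoreOf 2 L' ≤ pCoreOf 2 (K ⊔ T) := by
      apply Cfsg.Agent.Helper14.le_pCoreOf (hQT.trans le_sup_right)
      · exact hYL.trans (Cfsg.Agent.Helper14.le_normalizer_pCoreOf 2 L')
      · exact Cfsg.Agent.Helper14.pCoreOf_isPGroup 2 L'
    intro h
    rw [h] at hle
    exact hQne (le_bot_iff.1 hle)

end Cfsg.Agent.S2949
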