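import Mathlib
import Cfsg.Statements.S0375
import Cfsg.Agent.S0358
import Cfsg.Agent.S0363
import Cfsg.Agent.S0407
import Cfsg.Agent.S5622
import Cfsg.Agent.S5624

set_option autoImplicit false
open Cfsg

namespace Cfsg.Agent.S0375

theorem zmod2_eq_of_ne_zero_iff : ∀ x y : ZMod 2, (x ≠ 0 ↔ y ≠ 0) → x = y := by decide

/-- A doubly even self-dual binary code of length 24 with no words of weight 4 is equivalent to the length-24 code built from the squares modulo 23. -/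
theorem result (C : Submodule (ZMod 2) (Fin 24 → ZMod 2)) (hdim : Module.finrank (ZMod 2) C = 12) (horth : ∀ v ∈ C, ∀ w ∈ C, ∑ i, v i * w i = 0) (h4 : ∀ w ∈ C, 4 ∣ hammingNorm w) (hno4 : ∀ w ∈ C, hammingNorm w ≠ 4) : ∃ e : Fin 24 ≃ Cfsg.GolayPt, ∀ w : Cfsg.GolayPt → ZMod 2, w ∈ Cfsg.golayCode ↔ (fun i => w (e i)) ∈ C := by
  classical
  have hmin : ∀ w ∈ C, w ≠ 0 → 8 ≤ hammingNorm w := by
    intro w hw hw0
    have h0 : hammingNorm w ≠ 0 := by
      rw [Ne, hammingNorm_eq_zero]; exact hw0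
    obtain ⟨k, hk⟩ := h4 w hw
    have := hno4 w hw
    omega
  obtain ⟨_, hS⟩ := Cfsg.Agent.S5622.result C hdim horth hmin
  have hspan := Cfsg.Agent.S5624.result C hdim horth hmin
  have hoct : Cfsg.IsSteinerSystem 5 8 Cfsg.octads := Cfsg.Agent.S0363.result
  have hcardG : Fintype.card Cfsg.GolayPt = 24 := by
    simp [Cfsg.GolayPt, ZMod.card]
  obtain ⟨e, he⟩ := Cfsg.Agent.S0407.result (by simp) hcardG hS hoct
  refine ⟨e, ?_⟩
  let L : (Cfsg.GolayPt → ZMod 2) ≃ₗ[ZMod 2] (Fin 24 → ZMod 2) :=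
    LinearEquiv.funCongrLeft (ZMod 2) (ZMod 2) e
  have hL : ∀ (w : Cfsg.GolayPt → ZMod 2), L w = fun i => w (e i) := by
    intro w; rfl
  have hfin : Module.finrank (ZMod 2) (Cfsg.golayCode.map (L : (Cfsg.GolayPt → ZMod 2) →ₗ[ZMod 2] (Fin 24 → ZMod 2))) = 12 := by
    rw [LinearEquiv.finrank_map_eq L Cfsg.golayCode]
    exact Cfsg.Agent.S0358.result
  have hle : C ≤ Cfsg.golayCode.map (L : (Cfsg.GolayPt → ZMod 2) →ₗ[ZMod 2] (Fin 24 → ZMod 2)) := by
    rw [← hspan, Submodule.span_le]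
    rintro w ⟨hw, hw8⟩
    have hwS : Cfsg.support₂ w ∈ Cfsg.wordsOfWeight (C : Set (Fin 24 → ZMod 2)) 8 :=
      ⟨⟨w, hw, rfl⟩, hw8⟩
    have : (Cfsg.support₂ w).image e ∈ Cfsg.octads := by
      rw [← he]; exact ⟨_, hwS, rfl⟩
    obtain ⟨⟨u, hu, hsu⟩, _⟩ := this
    refine ⟨u, hu, ?_⟩
    show L u = w
    rw [hL]
    funext i
    apply zmod2_eq_of_ne_zero_iff
    have h1 : u (e i) ≠ 0 ↔ e i ∈ Cfsg.support₂ u := by
      simp [Cfsg.support₂]
    have h2 : w i ≠ 0 ↔ i ∈ Cfsg.support₂ w := by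
      simp [Cfsg.support₂]
    rw [h1, h2, hsu, Finset.mem_image]
    constructor
    · rintro ⟨a, ha, hae⟩
      exact e.injective hae ▸ ha
    · intro hi
      exact ⟨i, hi, rfl⟩
  have heq : C = Cfsg.golayCode.map (L : (Cfsg.GolayPt → ZMod 2) →ₗ[ZMod 2] (Fin 24 → ZMod 2)) :=
    Submodule.eq_of_le_of_finrank_eq hle (by rw [hdim, hfin])
  intro w
  rw [← hL, heq]
  constructor
  · intro hw
    exact ⟨w, hw, rfl⟩
  · rintro ⟨u, hu, huw⟩
    have : u = w := L.injective huw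
    exact this ▸ hu

end Cfsg.Agent.S0375
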