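import Mathlib
import Cfsg.Statements.S0824
import Cfsg.Agent.Lib.Helper13.PermMod
import Cfsg.Agent.Lib.Helper13.IsomTransfer
import Cfsg.Agent.Lib.Helper13.F2Type
import Cfsg.Agent.Lib.Helper13.O4Minus
import Cfsg.Agent.Lib.Helper13.IsomFieldMap

set_option autoImplicit false
open Cfsg

namespace Cfsg.Agent.S0824

open Cfsg.Agent.Helper13 Cfsg.Agent.Helper13.PermMod Cfsg.Agent.Helper13.O4Minus Matrix Module Equiv

/-- a permutation fixing the normalising point preserves the quadratic form -/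
theorem qV_rho_of_fix {ι : Type*} [Fintype ι] [DecidableEq ι] (hι : Even (Fintype.card ι))
    (σ : Perm (Pt ι)) (hσ : σ (Sum.inr 1) = Sum.inr 1) (y : V ι) :
    qV ι (rho σ y) = qV ι y := by
  have h1 : emb (rho σ y) = perm σ (emb y) + const ((perm σ (emb y)) (Sum.inr 1)) :=
    emb_proj hι _ (by
      change tot (perm σ (emb y)) = 0
      rw [tot_perm, tot_emb])
  have h2 : (perm σ (emb y)) (Sum.inr 1) = 0 := by
    rw [perm_apply]
    have : σ.symm (Sum.inr 1) = Sum.inr 1 := by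
      rw [Equiv.symm_apply_eq, hσ]
    rw [this, emb_inr_one]
  have h3 : (const 0 : W ι) = 0 := rfl
  rw [qV_apply, qV_apply, h1, h2, h3, add_zero, qW_perm]

set_option maxRecDepth 1000000 in
theorem charSum_four : charSum (⇑(qV (Fin 4))) = -4 := by decide

/-- the five points other than the normalising one -/
def pts : Fin 5 ↪ Pt (Fin 4) :=
  (finSumFinEquiv (m := 4) (n := 1)).symm.toEmbedding.trans
    ⟨Sum.map id (fun _ => (0 : Fin 2)), by
      rintro (a | a) (b | b) h
      · simpa using h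
      · simp at h
      · simp at h
      · congr 1
        exact Subsingleton.elim a b⟩

theorem pts_ne (i : Fin 5) : pts i ≠ Sum.inr 1 := by
  unfold pts
  simp only [Function.Embedding.trans_apply, Equiv.coe_toEmbedding, Function.Embedding.coeFn_mk]
  rcases (finSumFinEquiv (m := 4) (n := 1)).symm i with a | a
  · intro h
    exact Sum.inl_ne_inr h
  · intro h
    have h' : (Sum.inr 0 : Pt (Fin 4)) = Sum.inr 1 := h
    have := Sum.inr_injective h'
    exact absurd this (by decide)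

/-- `S₅` embeds in `O⁻₄(2)` -/
theorem exists_hom : ∃ φ : Perm (Fin 5) →* O4, Function.Injective φ := by
  have hev : Even (Fintype.card (Fin 4)) := ⟨2, rfl⟩
  have hfr : finrank (ZMod 2) (V (Fin 4)) = 2 * 2 := by
    rw [Module.finrank_fintype_fun_eq_card, Fintype.card_fin]
  have hneg : charSum (⇑(qV (Fin 4))) < 0 := by rw [charSum_four]; norm_num
  obtain ⟨g, hg⟩ := (type_of_charSum 2 (by norm_num) hfr (qV (Fin 4)) (qV_nondeg hev)).2 hneg
  have hfix : ∀ τ : Perm (Fin 5), (Perm.viaEmbeddingHom pts τ) (Sum.inr 1) = Sum.inr 1 := by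
    intro τ
    rw [Perm.viaEmbeddingHom_apply]
    apply Perm.viaEmbedding_apply_of_notMem
    rintro ⟨i, hi⟩
    exact pts_ne i hi
  set ρ : Perm (Fin 5) → V (Fin 4) →ₗ[ZMod 2] V (Fin 4) :=
    fun τ => rho (Perm.viaEmbeddingHom pts τ) with hρ
  have h1 : ∀ v, ρ 1 v = v := by
    intro v
    simp only [hρ, map_one]
    exact rho_one v
  have hmul : ∀ σ τ v, ρ (σ * τ) v = ρ σ (ρ τ v) := by
    intro σ τ v
    simp only [hρ, map_mul]
    exact rho_mul hev _ _ v
  obtain ⟨φ, hφ⟩ := exists_hom_isometry ρ h1 hmul g (Cfsg.quadFormMinus (2 - 1) (ZMod 2) 1 1)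
    (fun τ y => by rw [← hg, ← hg]; exact qV_rho_of_fix hev _ (hfix τ) y)
  refine ⟨φ, ?_⟩
  apply injective_of_faithful ρ g (Subgroup.subtype _) φ hφ
  intro τ hτ
  have : Perm.viaEmbeddingHom pts τ = 1 :=
    rho_faithful hev (by rw [card_Pt, Fintype.card_fin]; norm_num) _ hτ
  exact Perm.viaEmbeddingHom_injective pts (by rw [this, map_one])

/-- `O⁻₄(2) ≅ S₅` over `ZMod 2` -/
theorem O4_iso : Nonempty (Perm (Fin 5) ≃* O4) := by
  obtain ⟨φ, hφ⟩ := exists_hom
  have hc : Nat.card O4 ≤ Nat.card (Perm (Fin 5)) := by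
    rw [Nat.card_perm, Nat.card_fin]
    exact card_O4_le
  exact ⟨MulEquiv.ofBijective φ (hφ.bijective_of_nat_card_le hc)⟩

/-- O⁻_4(2) is isomorphic to the symmetric group S_5. -/
theorem result {F : Type*} [Field F] [Fintype F] (hF : Fintype.card F = 2) : Nonempty (↥(Cfsg.isometryGroup F (Cfsg.quadFormMinus 1 F 1 1)) ≃* Equiv.Perm (Fin 5)) := by
  have e2 : ZMod 2 ≃+* F := ZMod.ringEquivOfPrime F Nat.prime_two hF
  obtain ⟨e⟩ := O4_iso
  have hq : ∀ u : (Fin 1 ⊕ Fin 1) ⊕ Fin 2 → F,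
      Cfsg.quadFormMinus 1 (ZMod 2) 1 1 (fun i => e2.symm (u i)) =
        e2.symm (Cfsg.quadFormMinus 1 F 1 1 u) := by
    intro u
    have := quadFormMinus_map e2.symm 1 1 1 u
    rw [map_one] at this
    exact this
  exact ⟨(isomMapEquiv e2.symm (Cfsg.quadFormMinus 1 F 1 1) (Cfsg.quadFormMinus 1 (ZMod 2) 1 1)
    hq).trans e.symm⟩

end Cfsg.Agent.S0824
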