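import Mathlib
import Cfsg.Statements.S0767
import Cfsg.Agent.S0764

set_option autoImplicit false
open Cfsg

namespace Cfsg.Agent.S0767

open Matrix Cfsg.Agent.S0764

theorem Jv_dot_self {F : Type*} [CommRing F] (m : ℕ) (v : Fin m ⊕ Fin m → F) :
    (Matrix.J (Fin m) F *ᵥ v) ⬝ᵥ v = 0 := by
  rw [dotProduct_comm, dot_J_self]

theorem vecMul_J {F : Type*} [CommRing F] (m : ℕ) (v : Fin m ⊕ Fin m → F) :
    v ᵥ* Matrix.J (Fin m) F = -(Matrix.J (Fin m) F *ᵥ v) := by
  rw [← Matrix.mulVec_transpose, Matrix.J_transpose, Matrix.neg_mulVec]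

/-- The root group of a point: T_v(c) T_v(d) = T_v(c + d), and for A in the symplectic group with A v = a v, the conjugate A T_v(c) A⁻¹ is again some T_v(d). -/
theorem result {F : Type*} [Field F] (m : ℕ) (v : Fin m ⊕ Fin m → F) : (∀ c d : F, Cfsg.sympTransvection m v c * Cfsg.sympTransvection m v d = Cfsg.sympTransvection m v (c + d)) ∧ ∀ (A : Matrix (Fin m ⊕ Fin m) (Fin m ⊕ Fin m) F) (a : F), A ∈ Matrix.symplecticGroup (Fin m) F → A.mulVec v = a • v → ∀ c : F, ∃ d : F, A * Cfsg.sympTransvection m v c * A⁻¹ = Cfsg.sympTransvection m v d := by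
  constructor
  · intro c d
    unfold Cfsg.sympTransvection
    rw [Matrix.add_mul, Matrix.mul_add, Matrix.mul_add, Matrix.one_mul, Matrix.mul_one, Matrix.one_mul,
      Matrix.smul_mul, Matrix.mul_smul, Matrix.vecMulVec_mul_vecMulVec, Jv_dot_self, zero_smul,
      Matrix.vecMulVec_zero, smul_zero, smul_zero, add_zero, add_smul, add_assoc,
      add_comm (d • _)]
  · intro A a hA hAv c
    refine ⟨c * a * a, ?_⟩
    have hdet : IsUnit A.det := SymplecticGroup.symplectic_det hA
    unfold Cfsg.sympTransvection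
    set w := Matrix.J (Fin m) F *ᵥ v with hw
    have h1 : w ᵥ* A⁻¹ = a • w := by
      have ha : w ᵥ* (-Matrix.J (Fin m) F) = -v := by
        rw [Matrix.vecMul_neg, hw, Jv_vecMul_J]
      have hb : (-v) ᵥ* Aᵀ = -(a • v) := by
        rw [Matrix.neg_vecMul, Matrix.vecMul_transpose, hAv]
      have hc : (-(a • v)) ᵥ* Matrix.J (Fin m) F = a • w := by
        rw [Matrix.neg_vecMul, Matrix.smul_vecMul, vecMul_J, smul_neg, neg_neg]
      rw [SymplecticGroup.inv_eq_symplectic_inv A hA, ← Matrix.vecMul_vecMul, ← Matrix.vecMul_vecMul,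
        ha, hb, hc]
    rw [Matrix.mul_add, Matrix.mul_one, Matrix.add_mul, Matrix.mul_nonsing_inv A hdet, Matrix.mul_smul,
      Matrix.smul_mul, Matrix.mul_vecMulVec, hAv, Matrix.vecMulVec_mul, h1, Matrix.smul_vecMulVec,
      Matrix.vecMulVec_smul, smul_smul, smul_smul]

end Cfsg.Agent.S0767
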