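import Mathlib
import Cfsg.Statements.S0754

set_option autoImplicit false
open Cfsg

namespace Cfsg.Agent.S0754

/-- In a field F with q^2 elements, every non-zero μ with μ^q = μ (that is, μ in the subfield of order q) has exactly q + 1 solutions λ of λ^(q+1) = μ. -/
theorem result {F : Type*} [Field F] [Fintype F] {q : ℕ} (hF : Fintype.card F = q ^ 2) (μ : F) (hμ : μ ≠ 0) (hμq : μ ^ q = μ) : Nat.card {x : F // x ^ (q + 1) = μ} = q + 1 := by
  classical
  have hq : 2 ≤ q := by
    have h1 : 1 < Fintype.card F := Fintype.one_lt_card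
    rw [hF] at h1
    by_contra hcon
    have : q ≤ 1 := by omega
    have : q ^ 2 ≤ 1 ^ 2 := Nat.pow_le_pow_left this 2
    omega
  obtain ⟨k, rfl⟩ : ∃ k, q = k + 2 := ⟨q - 2, by omega⟩
  have hfac : (k + 2) ^ 2 - 1 = (k + 1) * (k + 3) := by
    have : (k + 2) ^ 2 = (k + 1) * (k + 3) + 1 := by ring
    omega
  have hcard : Nat.card Fˣ = (k + 1) * (k + 3) := by
    rw [Nat.card_units, Nat.card_eq_fintype_card, hF, hfac]
  set μu : Fˣ := Units.mk0 μ hμ with hμu
  have hμ1 : μu ^ (k + 1) = 1 := by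
    apply Units.ext
    rw [Units.val_pow_eq_pow_val, Units.val_one, hμu, Units.val_mk0]
    have h1 : μ * μ ^ (k + 1) = μ * 1 := by
      rw [mul_one, ← pow_succ']
      exact hμq
    exact mul_left_cancel₀ hμ h1
  have hrange : (powMonoidHom (k + 3) : Fˣ →* Fˣ).range = (powMonoidHom (k + 1) : Fˣ →* Fˣ).ker := by
    apply Subgroup.eq_of_le_of_card_ge
    · rintro _ ⟨x, rfl⟩
      rw [MonoidHom.mem_ker, powMonoidHom_apply, powMonoidHom_apply, ← pow_mul, mul_comm, ← hcard]
      exact pow_card_eq_one'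
    · rw [IsCyclic.card_powMonoidHom_range, IsCyclic.card_powMonoidHom_ker, hcard,
        Nat.gcd_eq_right (Dvd.intro _ rfl), Nat.gcd_eq_right (Dvd.intro_left _ rfl),
        Nat.mul_div_cancel _ (by omega)]
  obtain ⟨y, hy⟩ : ∃ y : Fˣ, y ^ (k + 3) = μu := by
    have h1 : μu ∈ (powMonoidHom (k + 1) : Fˣ →* Fˣ).ker := hμ1
    rw [← hrange] at h1
    exact h1
  have hne : ∀ x : {x : F // x ^ (k + 2 + 1) = μ}, x.1 ≠ 0 := by
    rintro ⟨x, hx⟩ h0
    simp only at h0
    rw [h0, zero_pow (by omega)] at hx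
    exact hμ hx.symm
  let e : {x : F // x ^ (k + 2 + 1) = μ} ≃ (powMonoidHom (k + 3) : Fˣ →* Fˣ).ker :=
    { toFun := fun x => ⟨Units.mk0 x.1 (hne x) * y⁻¹, by
        rw [MonoidHom.mem_ker, powMonoidHom_apply, mul_pow, inv_pow, hy]
        apply Units.ext
        rw [Units.val_mul, Units.val_pow_eq_pow_val, Units.val_mk0, x.2, hμu]
        simp [mul_inv_cancel₀ hμ]⟩
      invFun := fun z => ⟨((z.1 * y : Fˣ) : F), by
        have hz : z.1 ^ (k + 3) = 1 := z.2
        rw [← Units.val_pow_eq_pow_val, mul_pow, hz, one_mul, hy, hμu, Units.val_mk0]⟩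
      left_inv := fun x => by
        apply Subtype.ext
        simp
      right_inv := fun z => by
        apply Subtype.ext
        apply Units.ext
        simp }
  rw [Nat.card_congr e, IsCyclic.card_powMonoidHom_ker, hcard, Nat.gcd_eq_right (Dvd.intro_left _ rfl)]

end Cfsg.Agent.S0754
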