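import Mathlib
import Cfsg.Statements.S3380
import Cfsg.Agent.Lib.Helper20.IrrP1
import Cfsg.Agent.Lib.Helper20.IrrP2
import Cfsg.Agent.Lib.Helper20.IrrP4

set_option autoImplicit false
open Cfsg

namespace Cfsg.Agent.S3380

open Cfsg.Agent.Helper20.IrrP

/-- Let a finite p-group G act faithfully and irreducibly on a non-trivial finite vector space V over the field with q elements (q prime), and suppose G is not cyclic, generalized quaternion, dihedral or semidihedral. Then G has a subgroup H of index p and V is the direct sum of p subspaces, each invariant under H, on none of which H acts faithfully, and which every element of G outside H permutes in a single p-cycle. -/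
theorem result
    (q : ℕ) [Fact q.Prime] {V : Type*} [AddCommGroup V] [Module (ZMod q) V] [Finite V] [Nontrivial V]
    {G : Type*} [Group G] [Finite G] (p : ℕ) [Fact p.Prime] (hG : IsPGroup p G)
    (ρ : G →* (V ≃ₗ[ZMod q] V)) (hρ : Function.Injective ρ)
    (hirr : ∀ W : Submodule (ZMod q) V, (∀ g : G, ∀ w ∈ W, ρ g w ∈ W) → W = ⊥ ∨ W = ⊤)
    (hnc : ¬ IsCyclic G) (hnq : ∀ n : ℕ, ¬ Nonempty (G ≃* QuaternionGroup n))
    (hnd : ∀ n : ℕ, ¬ Nonempty (G ≃* DihedralGroup n)) (hnsd : ¬ Cfsg.IsQuasiDihedral G) :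
    ∃ (H : Subgroup G) (W : Fin p → Submodule (ZMod q) V), H.index = p ∧
      iSup W = ⊤ ∧ iSupIndep W ∧
      (∀ h ∈ H, ∀ i, ∀ w ∈ W i, ρ h w ∈ W i) ∧
      (∀ i, ∃ h ∈ H, h ≠ 1 ∧ ∀ w ∈ W i, ρ h w = w) ∧
      ∀ g : G, g ∉ H → ∃ σ : Equiv.Perm (Fin p), orderOf σ = p ∧ ∀ i, (W i).map (ρ g : V →ₗ[ZMod q] V) = W (σ i) := by
  classical
  have hp : p.Prime := Fact.out
  have hpq : q ≠ p := char_ne ρ p hG hρ hirr hnc
  obtain ⟨E, hEn, hEcard, hEexp⟩ := exists_normal_sq p hG hnc hnq hnd hnsd
  haveI := hEn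
  have hEc := not_le_center ρ p hρ hirr hpq E hEcard hEexp
  obtain ⟨z, x, hzc, hz1, hzp, hxp, hxc, hconj⟩ := exists_pair p hG E hEcard hEexp hEc
  have hzo : orderOf z = p := orderOf_eq_prime hzp hz1
  obtain ⟨hsup, hind⟩ := decomposition ρ hρ hirr p hp hpq x z hzc hzo hxp
  have hzcomm : ∀ (k : ℕ) (g : G), g * z ^ k = z ^ k * g :=
    fun k g => Subgroup.mem_center_iff.1 (Subgroup.pow_mem _ hzc k) g
  refine ⟨Subgroup.centralizer ({x} : Set G), fun k : Fin p => fixedSub ρ (x * z ^ (k : ℕ)),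
    index_centralizer p hG z x hxc hconj, hsup, hind, ?_, ?_, ?_⟩
  · intro h hh i w hw
    rw [mem_fixedSub] at hw ⊢
    have hcx : x * h = h * x := Subgroup.mem_centralizer_iff.1 hh x rfl
    have hc : x * z ^ (i : ℕ) * h = h * (x * z ^ (i : ℕ)) := by
      rw [mul_assoc, ← hzcomm, ← mul_assoc, hcx, mul_assoc]
    rw [← rho_mul_apply, hc, rho_mul_apply, hw]
  · intro i
    refine ⟨x * z ^ (i : ℕ), ?_, ?_, fun w hw => hw⟩
    · rw [Subgroup.mem_centralizer_iff]
      intro y hy
      rw [Set.mem_singleton_iff] at hy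
      subst hy
      calc y * (y * z ^ (i : ℕ)) = y * (z ^ (i : ℕ) * y) := by rw [hzcomm]
        _ = y * z ^ (i : ℕ) * y := by rw [mul_assoc]
    · intro h
      apply hxc
      have : x = (z ^ (i : ℕ))⁻¹ := eq_inv_of_mul_eq_one_left h
      rw [this]
      exact Subgroup.inv_mem _ (Subgroup.pow_mem _ hzc _)
  · intro g hg
    obtain ⟨b, hb, hgx⟩ := hconj g
    have hb0 : b ≠ 0 := by
      rintro rfl
      apply hg
      rw [Subgroup.mem_centralizer_iff]
      intro y hy
      rw [Set.mem_singleton_iff] at hy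
      subst hy
      rw [pow_zero, mul_one] at hgx
      have : g * y = y * g := by
        calc g * y = g * y * g⁻¹ * g := by group
          _ = y * g := by rw [hgx]
      exact this.symm
    haveI : NeZero p := ⟨hp.ne_zero⟩
    let β : Fin p := ⟨b, hb⟩
    have hconjk : ∀ i : Fin p, g * (x * z ^ (i : ℕ)) * g⁻¹ =
        x * z ^ (((Equiv.addRight β) i : Fin p) : ℕ) := by
      intro i
      have h1 : ((Equiv.addRight β) i : Fin p) = i + β := rfl
      rw [h1, Fin.val_add]
      have h2 : z ^ (((i : ℕ) + (β : ℕ)) % p) = z ^ ((i : ℕ) + b) := by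
        have h3 := pow_mod_orderOf z ((i : ℕ) + b)
        rw [hzo] at h3
        exact h3
      rw [h2, pow_add]
      calc g * (x * z ^ (i : ℕ)) * g⁻¹ = g * x * g⁻¹ * (g * z ^ (i : ℕ) * g⁻¹) := by group
        _ = x * z ^ b * z ^ (i : ℕ) := by rw [hgx, hzcomm (i : ℕ) g, mul_inv_cancel_right]
        _ = x * (z ^ (i : ℕ) * z ^ b) := by rw [mul_assoc, ← pow_add, ← pow_add, add_comm]
    refine ⟨Equiv.addRight β, ?_, ?_⟩
    · apply orderOf_eq_prime
      · rw [Equiv.nsmul_addRight]
        ext k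
        have hpβ : p • β = 0 := by
          have := card_nsmul_eq_zero (G := Fin p) (x := β)
          rwa [Fintype.card_fin] at this
        rw [hpβ]
        simp
      · intro h
        have h1 := congrArg (fun e : Equiv.Perm (Fin p) => e 0) h
        simp only [Equiv.coe_addRight, zero_add, Equiv.Perm.coe_one, id_eq] at h1
        apply hb0
        have := congrArg Fin.val h1
        simpa [β] using this
    · intro i
      ext u
      rw [Submodule.mem_map]
      constructor
      · rintro ⟨w, hw, rfl⟩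
        rw [mem_fixedSub] at hw
        change ρ g w ∈ fixedSub ρ _
        rw [mem_fixedSub, ← hconjk i, ← rho_mul_apply, inv_mul_cancel_right, rho_mul_apply, hw]
      · intro hu
        rw [mem_fixedSub, ← hconjk i] at hu
        refine ⟨ρ g⁻¹ u, ?_, ?_⟩
        · rw [mem_fixedSub, ← rho_mul_apply]
          have h3 : x * z ^ (i : ℕ) * g⁻¹ = g⁻¹ * (g * (x * z ^ (i : ℕ)) * g⁻¹) := by group
          rw [h3, rho_mul_apply, hu]
        · change ρ g (ρ g⁻¹ u) = u
          rw [← rho_mul_apply, mul_inv_cancel, map_one]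
          rfl

end Cfsg.Agent.S3380
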