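import Mathlib
import Cfsg.Statements.S0295
import Cfsg.Agent.Lib.Helper2.OrthFrames3

set_option autoImplicit false
open Cfsg

namespace Cfsg.Agent.S0295

open Cfsg.Agent.Helper2.Orth Cfsg.Agent.Helper13 in
/-- Over a finite field of odd order and m at least 3, POmega_{2m+1}(q) is simple. -/
theorem result {F : Type*} [Field F] [Fintype F] (hodd : Odd (Fintype.card F)) (m : ℕ) (hm : 3 ≤ m) : IsSimpleGroup (Cfsg.POmega F (Cfsg.quadFormOdd m F)) := by
  classical
  have h2 : (2 : F) ≠ 0 := by
    have hc : ringChar F ≠ 2 := by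
      intro h
      have := FiniteField.even_card_of_char_two h
      have := Nat.odd_iff.1 hodd
      omega
    exact Ring.two_ne_zero hc
  obtain ⟨k, rfl⟩ : ∃ k, m = k + 3 := ⟨m - 3, by omega⟩
  rw [quadFormOdd_eq]
  have hex : Fintype.card F ≠ 2 ∨ Fintype.card (Unit ⊕ (Fin (k + 3) ⊕ Fin (k + 3))) ≠ 4 := by
    right
    simp only [Fintype.card_sum, Fintype.card_fin, Fintype.card_unit]
    omega
  exact isSimpleGroup_POmega (nondeg_odd (F := F) (k + 3) h2) hex (hypFrame_odd k)

end Cfsg.Agent.S0295
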