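import Mathlib
import Cfsg.Statements.S0755
import Cfsg.Agent.S0753
import Cfsg.Agent.Lib.Helper28.FieldInvolution

set_option autoImplicit false
open Cfsg

namespace Cfsg.Agent.S0755

open Module Cfsg.Agent.Helper28

section

variable {F : Type*} [Field F] [Finite F]

/-- A vector of norm one. -/
theorem exists_norm_one {V : Type*} [AddCommGroup V] [Module F V] [Nontrivial V]
    (σ : F →+* F) (hσ : σ ≠ RingHom.id F) (hσ2 : ∀ a : F, σ (σ a) = a)
    (B : V →ₛₗ[σ] V →ₗ[F] F) (hS : B.IsSymm) (hB : B.Nondegenerate) : ∃ v : V, B v v = 1 := by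
  have hne : ∃ v0 : V, B v0 v0 ≠ 0 := by
    by_contra hcon
    push Not at hcon
    have hB0 := Cfsg.Agent.S0753.result σ hσ B hS hcon
    obtain ⟨u, hu⟩ := exists_ne (0 : V)
    apply hu
    apply hB.1 u
    intro y
    rw [hB0]
    rfl
  obtain ⟨v0, hv0⟩ := hne
  set μ := B v0 v0 with hμ
  have hfix : σ μ = μ := hS.eq v0 v0
  have hfix' : σ μ⁻¹ = μ⁻¹ := by rw [map_inv₀, hfix]
  obtain ⟨x, hx⟩ := exists_norm_eq σ hσ hσ2 (inv_ne_zero hv0) hfix'
  refine ⟨x • v0, ?_⟩
  have h1 : B (x • v0) (x • v0) = σ x * (x * μ) := by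
    simp only [map_smul, LinearMap.map_smulₛₗ, LinearMap.smul_apply, smul_eq_mul, hμ]
    ring
  rw [h1]
  calc σ x * (x * μ) = (x * σ x) * μ := by ring
    _ = 1 := by rw [hx]; exact inv_mul_cancel₀ hv0

/-- The main induction. -/
theorem main (σ : F →+* F) (hσ : σ ≠ RingHom.id F) (hσ2 : ∀ a : F, σ (σ a) = a) :
    ∀ (n : ℕ) {V : Type*} [AddCommGroup V] [Module F V] [FiniteDimensional F V]
      (B : V →ₛₗ[σ] V →ₗ[F] F) (_ : B.IsSymm) (_ : B.Nondegenerate) (_ : finrank F V = n),
      ∃ b : Module.Basis (Fin n) F V, ∀ i j, B (b i) (b j) = if i = j then 1 else 0 := by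
  intro n
  induction n with
  | zero =>
    intro V _ _ _ B hS hB hn
    exact ⟨basisOfFinrankZero hn, fun i => i.elim0⟩
  | succ n ih =>
    intro V _ _ _ B hS hB hn
    have : Nontrivial V := Module.nontrivial_of_finrank_pos (R := F) (by omega)
    obtain ⟨v, hv⟩ := exists_norm_one σ hσ hσ2 B hS hB
    set W : Submodule F V := LinearMap.ker (B v) with hW
    have hmemW : ∀ w : V, w ∈ W ↔ B v w = 0 := fun w => LinearMap.mem_ker
    have hsymm0 : ∀ w : V, w ∈ W → B w v = 0 := by
      intro w hw
      rw [← hS.eq v w, (hmemW w).mp hw, map_zero]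
    have hdecomp : ∀ y : V, y - (B v y) • v ∈ W := by
      intro y
      rw [hmemW, map_sub, map_smul, hv, smul_eq_mul, mul_one, sub_self]
    have hdimW : finrank F W = n := by
      have h1 : finrank F (LinearMap.range (B v)) + finrank F W = finrank F V :=
        LinearMap.finrank_range_add_finrank_ker (B v)
      have h2 : LinearMap.range (B v) = ⊤ := by
        rw [LinearMap.range_eq_top]
        intro c
        exact ⟨c • v, by rw [map_smul, hv, smul_eq_mul, mul_one]⟩
      rw [h2, finrank_top, Module.finrank_self, hn] at h1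
      omega
    set B' : W →ₛₗ[σ] W →ₗ[F] F := B.domRestrict₁₂ W W with hB'
    have hB'app : ∀ x y : W, B' x y = B (x : V) (y : V) := fun x y => rfl
    have hS' : B'.IsSymm := ⟨fun x y => hS.eq x y⟩
    have hN' : B'.Nondegenerate := by
      constructor
      · intro w hw
        apply Subtype.ext
        apply hB.1 (w : V)
        intro y
        have h1 : y = (B v y) • v + (y - (B v y) • v) := by abel
        rw [h1, map_add, map_smul, hsymm0 _ w.2, smul_zero, zero_add]
        exact hw ⟨_, hdecomp y⟩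
      · intro w hw
        apply Subtype.ext
        apply hB.2 (w : V)
        intro y
        have h1 : y = (B v y) • v + (y - (B v y) • v) := by abel
        rw [h1, map_add, LinearMap.add_apply, LinearMap.map_smulₛₗ, LinearMap.smul_apply,
          (hmemW _).mp w.2, smul_zero, zero_add]
        exact hw ⟨_, hdecomp y⟩
    obtain ⟨b', hb'⟩ := ih B' hS' hN' hdimW
    let b : Module.Basis (Fin (n + 1)) F V :=
      Module.Basis.mkFinCons v b'
        (by
          intro c x hx hc
          have h1 := congrArg (B v) hc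
          rw [map_add, map_smul, hv, (hmemW x).mp hx, map_zero, smul_eq_mul, mul_one, add_zero] at h1
          exact h1)
        (by
          intro z
          refine ⟨-(B v z), ?_⟩
          have := hdecomp z
          rwa [sub_eq_add_neg, ← neg_smul] at this)
    have hbcoe : ⇑b = Fin.cons v (fun i => ((b' i : W) : V)) := Module.Basis.coe_mkFinCons _ _ _ _
    refine ⟨b, ?_⟩
    intro i j
    rw [hbcoe]
    refine Fin.cases ?_ (fun i => ?_) i <;> refine Fin.cases ?_ (fun j => ?_) j
    · rw [Fin.cons_zero, hv, if_pos rfl]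
    · rw [Fin.cons_zero, Fin.cons_succ, (hmemW _).mp (b' j).2, if_neg (Fin.succ_ne_zero j).symm]
    · rw [Fin.cons_zero, Fin.cons_succ, hsymm0 _ (b' i).2, if_neg (Fin.succ_ne_zero i)]
    · have := hb' i j
      rw [hB'app] at this
      rw [Fin.cons_succ, Fin.cons_succ, this]
      simp only [Fin.succ_inj]

end

/-- A non-degenerate conjugate-symmetric sesquilinear form over a finite field (automorphism of order two) has an orthonormal basis. -/
theorem result {F V : Type*} [Field F] [Finite F] [AddCommGroup V] [Module F V] [FiniteDimensional F V] (σ : F →+* F) (hσ : σ ≠ RingHom.id F) (hσ2 : ∀ a : F, σ (σ a) = a) (B : V →ₛₗ[σ] V →ₗ[F] F) (hS : B.IsSymm) (hB : B.Nondegenerate) : ∃ b : Module.Basis (Fin (Module.finrank F V)) F V, ∀ i j, B (b i) (b j) = if i = j then 1 else 0 :=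
  main σ hσ hσ2 (Module.finrank F V) B hS hB rfl

end Cfsg.Agent.S0755
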