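import Mathlib
import Cfsg.Statements.S1697
import Cfsg.Agent.Lib.Helper9.TC2Spor
import Cfsg.Agent.Lib.Helper9.TCData.Fi23C0.Cert
import Cfsg.Agent.Lib.Helper9.TCData.Fi23C1.Cert
import Cfsg.Agent.Lib.Helper9.TCData.Fi23C2.Cert
import Cfsg.Agent.Lib.Helper9.TCData.Fi23C3.Cert
import Cfsg.Agent.Lib.Helper9.TCData.Fi23C4.Cert
import Cfsg.Agent.Lib.Helper9.TCData.Fi23CX.Cert

set_option autoImplicit false
set_option maxRecDepth 1000000
open Cfsg

namespace Cfsg.Agent.S1697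

open Cfsg.Agent.Helper9.TC2 Cfsg.Agent.Helper9.TCData

theorem sub1 : SubPres Fi23C0.edges Fi23C0.extra Fi23C1.edges Fi23C1.extra Fi23C0.iota :=
  ⟨by decide +kernel, by decide +kernel⟩

theorem sub2 : SubPres Fi23C1.edges Fi23C1.extra Fi23C2.edges Fi23C2.extra Fi23C1.iota :=
  ⟨by decide +kernel, by decide +kernel⟩

theorem sub3 : SubPres Fi23C2.edges Fi23C2.extra Fi23C3.edges Fi23C3.extra Fi23C2.iota :=
  ⟨by decide +kernel, by decide +kernel⟩

theorem sub4 : SubPres Fi23C3.edges Fi23C3.extra Fi23C4.edges Fi23C4.extra Fi23C3.iota :=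
  ⟨by decide +kernel, by decide +kernel⟩

theorem hub : Finite (PresentedGroup (relSet Fi23C0.edges Fi23C0.extra)) ∧
    Nat.card (PresentedGroup (relSet Fi23C0.edges Fi23C0.extra)) ≤ 4089470473293004800 := by
  have h4 := Fi23C4.cert.card_eq_of_empty
  have hH3 := card_coxH_le sub4 rfl h4.1 (le_of_eq h4.2)
  have h3 := Fi23C3.cert.card_le hH3.1 hH3.2
  have hH2 := card_coxH_le sub3 rfl h3.1 h3.2
  have h2 := Fi23C2.cert.card_le hH2.1 hH2.2
  have hH1 := card_coxH_le sub2 rfl h2.1 h2.2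
  have h1 := Fi23C1.cert.card_le hH1.1 hH1.2
  have hH0 := card_coxH_le sub1 rfl h1.1 h1.2
  have h0 := Fi23C0.cert.card_le hH0.1 hH0.2
  refine ⟨h0.1, h0.2.trans ?_⟩
  rw [Fi23C0.cert_n, Fi23C1.cert_n, Fi23C2.cert_n, Fi23C3.cert_n, Fi23C4.cert_n]

theorem hslp : ∀ j < Fi23C0.slp.length, ∀ c ∈ (Fi23C0.slp.getD j (0, [])).2, c < Fi23C0.tab.k + j := by
  decide +kernel

theorem hok : Fi23C0.cert.LevsOK (Fi23C0.tab.k + Fi23C0.slp.length) Fi23C0.lidx Fi23C0.lpar Fi23C0.lgi 0 []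
    Fi23C0.levs := by
  unfold Fi23C0.levs
  refine ⟨by decide, by decide +kernel, Fi23C0.hT0, by decide +kernel, ?_⟩
  refine ⟨by decide, by decide +kernel, Fi23C0.hT1, by decide +kernel, ?_⟩
  refine ⟨by decide, by decide +kernel, Fi23C0.hT2, by decide +kernel, ?_⟩
  refine ⟨by decide, by decide +kernel, Fi23C0.hT3, by decide +kernel, ?_⟩
  refine ⟨by decide, by decide +kernel, Fi23C0.hT4, by decide +kernel, ?_⟩
  refine ⟨by decide, by decide +kernel, Fi23C0.hT5, by decide +kernel, ?_⟩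
  refine ⟨by decide, by decide +kernel, Fi23C0.hT6, by decide +kernel, ?_⟩
  refine ⟨by decide, by decide +kernel, Fi23C0.hT7, by decide +kernel, ?_⟩
  refine ⟨by decide, by decide +kernel, Fi23C0.hT8, by decide +kernel, ?_⟩
  trivial

theorem hprod : CoxCert.levProd Fi23C0.levs = 4089470473293004800 := by decide +kernel

theorem hlab : ∀ i < Fi23C0.cert.D.n, Fi23C0.orb.lab i < 3 := by
  intro i hi
  have := Fi23C0.hOL i hi
  rwa [Nat.blt_eq] at this

theorem hroot : ∀ l < 3, Fi23C0.orb.root l < Fi23C0.cert.D.n ∧ Fi23C0.orb.lab (Fi23C0.orb.root l) = l := by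
  decide +kernel

theorem hsz : ∀ l < 3, cnt (fun i => Nat.beq (Fi23C0.orb.lab i) l) Fi23C0.cert.D.n = ([1, 28160, 3510] : List ℕ).getD l 0 := by
  decide +kernel

theorem hsub : ∀ T ∈ (Finset.range 3).powerset, 0 ∈ T →
    (∑ l ∈ T, ([1, 28160, 3510] : List ℕ).getD l 0) ∣ Fi23C0.cert.D.n → T = {0} ∨ T = Finset.range 3 := by
  decide +kernel

theorem hxw : colWord Fi23C0.cert.cols Fi23CX.xelt = Fi23C0.xw := by decide +kernel

theorem hx : ∀ i < Fi23C0.cert.D.n, (runT Fi23C0.cert.D (colWord Fi23C0.cert.cols Fi23CX.xelt))^[17 ^ 1] i = i := by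
  intro i hi
  rw [hxw]
  exact Nat.eq_of_beq_eq_true (Fi23C0.hX i hi)

/-- The presented Fischer group Fi23 is simple of the expected order (that is, it is a simple group of the order of the Fischer group Fi₂₃). -/
theorem result : Cfsg.IsFi23 Cfsg.Spor.Fi23 := by
  have : Fact (Nat.Prime 17) := ⟨by norm_num⟩
  exact Fi23C0.cert.isSimple_card 4089470473293004800 hub Fi23C0.slp hslp Fi23C0.hSlp Fi23C0.lidx Fi23C0.lpar Fi23C0.lgi
    Fi23C0.levs hok hprod Fi23C0.orb Fi23C0.hO1 Fi23C0.hO2 3 0 [1, 28160, 3510] hlab hroot hsz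
    (by decide +kernel) (by decide) (by decide) hsub 17 1 (by decide) (by norm_num) (by norm_num)
    Fi23CX.xelt 1 hx (by rw [Fi23CX.cert.card_eq_of_empty.2]; rfl)

end Cfsg.Agent.S1697
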