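import Mathlib
import Cfsg.Statements.S1695
import Cfsg.Agent.Lib.Helper9.TC2Spor
import Cfsg.Agent.Lib.Helper9.TCData.HeB0.Cert
import Cfsg.Agent.Lib.Helper9.TCData.HeA0.Cert
import Cfsg.Agent.Lib.Helper9.TCData.HeA1.Cert
import Cfsg.Agent.Lib.Helper9.TCData.HeCX.Cert

set_option autoImplicit false
set_option maxRecDepth 1000000
open Cfsg

namespace Cfsg.Agent.S1695

open Cfsg.Agent.Helper9.TC2 Cfsg.Agent.Helper9.TCData

theorem sub1 : SubPres HeA0.edges HeA0.extra HeA1.edges HeA1.extra HeA0.iota :=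
  ⟨by decide +kernel, by decide +kernel⟩

theorem hub : Finite (PresentedGroup (relSet HeB0.edges HeB0.extra)) ∧
    Nat.card (PresentedGroup (relSet HeB0.edges HeB0.extra)) ≤ 4030387200 := by
  have h1 := HeA1.cert.card_eq_of_empty
  have hH0 := card_coxH_le sub1 rfl h1.1 (le_of_eq h1.2)
  have h0 := HeA0.cert.card_le hH0.1 hH0.2
  refine ⟨h0.1, h0.2.trans ?_⟩
  rw [HeA0.cert_n, HeA1.cert_n]

theorem hslp : ∀ j < HeB0.slp.length, ∀ c ∈ (HeB0.slp.getD j (0, [])).2, c < HeB0.tab.k + j := by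
  decide +kernel

theorem hok : HeB0.cert.LevsOK (HeB0.tab.k + HeB0.slp.length) HeB0.lidx HeB0.lpar HeB0.lgi 0 []
    HeB0.levs := by
  unfold HeB0.levs
  refine ⟨by decide, by decide +kernel, HeB0.hT0, by decide +kernel, ?_⟩
  refine ⟨by decide, by decide +kernel, HeB0.hT1, by decide +kernel, ?_⟩
  refine ⟨by decide, by decide +kernel, HeB0.hT2, by decide +kernel, ?_⟩
  refine ⟨by decide, by decide +kernel, HeB0.hT3, by decide +kernel, ?_⟩
  refine ⟨by decide, by decide +kernel, HeB0.hT4, by decide +kernel, ?_⟩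
  refine ⟨by decide, by decide +kernel, HeB0.hT5, by decide +kernel, ?_⟩
  refine ⟨by decide, by decide +kernel, HeB0.hT6, by decide +kernel, ?_⟩
  trivial

theorem hprod : CoxCert.levProd HeB0.levs = 4030387200 := by decide +kernel

theorem hlab : ∀ i < HeB0.cert.D.n, HeB0.orb.lab i < 5 := by
  intro i hi
  have := HeB0.hOL i hi
  rwa [Nat.blt_eq] at this

theorem hroot : ∀ l < 5, HeB0.orb.root l < HeB0.cert.D.n ∧ HeB0.orb.lab (HeB0.orb.root l) = l := by
  decide +kernel

theorem hsz : ∀ l < 5, cnt (fun i => Nat.beq (HeB0.orb.lab i) l) HeB0.cert.D.n = ([1, 1360, 425, 136, 136] : List ℕ).getD l 0 := by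
  decide +kernel

theorem hsub : ∀ T ∈ (Finset.range 5).powerset, 0 ∈ T →
    (∑ l ∈ T, ([1, 1360, 425, 136, 136] : List ℕ).getD l 0) ∣ HeB0.cert.D.n → T = {0} ∨ T = Finset.range 5 := by
  decide +kernel

theorem hxw : colWord HeB0.cert.cols HeCX.xelt = HeB0.xw := by decide +kernel

theorem hx : ∀ i < HeB0.cert.D.n, (runT HeB0.cert.D (colWord HeB0.cert.cols HeCX.xelt))^[7 ^ 1] i = i := by
  intro i hi
  rw [hxw]
  exact Nat.eq_of_beq_eq_true (HeB0.hX i hi)

/-- The presented Held group is simple of the expected order (that is, it is a simple group of the order of the Held group). -/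
theorem result : Cfsg.IsHe Cfsg.Spor.He := by
  have : Fact (Nat.Prime 7) := ⟨by norm_num⟩
  exact HeB0.cert.isSimple_card 4030387200 hub HeB0.slp hslp HeB0.hSlp HeB0.lidx HeB0.lpar HeB0.lgi
    HeB0.levs hok hprod HeB0.orb HeB0.hO1 HeB0.hO2 5 0 [1, 1360, 425, 136, 136] hlab hroot hsz
    (by decide +kernel) (by decide) (by decide) hsub 7 3 (by decide) (by norm_num) (by norm_num)
    HeCX.xelt 1 hx (by rw [HeCX.cert.card_eq_of_empty.2]; rfl)

end Cfsg.Agent.S1695
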