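import Mathlib
import Cfsg.Statements.S1694
import Cfsg.Agent.Lib.Helper9.TC2Spor
import Cfsg.Agent.Lib.Helper9.TCData.SuzC0.Cert
import Cfsg.Agent.Lib.Helper9.TCData.SuzC1.Cert
import Cfsg.Agent.Lib.Helper9.TCData.SuzC2.Cert
import Cfsg.Agent.Lib.Helper9.TCData.SuzC3.Cert
import Cfsg.Agent.Lib.Helper9.TCData.SuzCX.Cert

set_option autoImplicit false
set_option maxRecDepth 1000000
open Cfsg

namespace Cfsg.Agent.S1694

open Cfsg.Agent.Helper9.TC2 Cfsg.Agent.Helper9.TCData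

theorem sub1 : SubPres SuzC0.edges SuzC0.extra SuzC1.edges SuzC1.extra SuzC0.iota :=
  ⟨by decide +kernel, by decide +kernel⟩

theorem sub2 : SubPres SuzC1.edges SuzC1.extra SuzC2.edges SuzC2.extra SuzC1.iota :=
  ⟨by decide +kernel, by decide +kernel⟩

theorem sub3 : SubPres SuzC2.edges SuzC2.extra SuzC3.edges SuzC3.extra SuzC2.iota :=
  ⟨by decide +kernel, by decide +kernel⟩

theorem hub : Finite (PresentedGroup (relSet SuzC0.edges SuzC0.extra)) ∧
    Nat.card (PresentedGroup (relSet SuzC0.edges SuzC0.extra)) ≤ 448345497600 := by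
  have h3 := SuzC3.cert.card_eq_of_empty
  have hH2 := card_coxH_le sub3 rfl h3.1 (le_of_eq h3.2)
  have h2 := SuzC2.cert.card_le hH2.1 hH2.2
  have hH1 := card_coxH_le sub2 rfl h2.1 h2.2
  have h1 := SuzC1.cert.card_le hH1.1 hH1.2
  have hH0 := card_coxH_le sub1 rfl h1.1 h1.2
  have h0 := SuzC0.cert.card_le hH0.1 hH0.2
  refine ⟨h0.1, h0.2.trans ?_⟩
  rw [SuzC0.cert_n, SuzC1.cert_n, SuzC2.cert_n, SuzC3.cert_n]

theorem hslp : ∀ j < SuzC0.slp.length, ∀ c ∈ (SuzC0.slp.getD j (0, [])).2, c < SuzC0.tab.k + j := by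
  decide +kernel

theorem hok : SuzC0.cert.LevsOK (SuzC0.tab.k + SuzC0.slp.length) SuzC0.lidx SuzC0.lpar SuzC0.lgi 0 []
    SuzC0.levs := by
  unfold SuzC0.levs
  refine ⟨by decide, by decide +kernel, SuzC0.hT0, by decide +kernel, ?_⟩
  refine ⟨by decide, by decide +kernel, SuzC0.hT1, by decide +kernel, ?_⟩
  refine ⟨by decide, by decide +kernel, SuzC0.hT2, by decide +kernel, ?_⟩
  refine ⟨by decide, by decide +kernel, SuzC0.hT3, by decide +kernel, ?_⟩
  refine ⟨by decide, by decide +kernel, SuzC0.hT4, by decide +kernel, ?_⟩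
  refine ⟨by decide, by decide +kernel, SuzC0.hT5, by decide +kernel, ?_⟩
  trivial

theorem hprod : CoxCert.levProd SuzC0.levs = 448345497600 := by decide +kernel

theorem hlab : ∀ i < SuzC0.cert.D.n, SuzC0.orb.lab i < 3 := by
  intro i hi
  have := SuzC0.hOL i hi
  rwa [Nat.blt_eq] at this

theorem hroot : ∀ l < 3, SuzC0.orb.root l < SuzC0.cert.D.n ∧ SuzC0.orb.lab (SuzC0.orb.root l) = l := by
  decide +kernel

theorem hsz : ∀ l < 3, cnt (fun i => Nat.beq (SuzC0.orb.lab i) l) SuzC0.cert.D.n = ([1, 1365, 416] : List ℕ).getD l 0 := by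
  decide +kernel

theorem hsub : ∀ T ∈ (Finset.range 3).powerset, 0 ∈ T →
    (∑ l ∈ T, ([1, 1365, 416] : List ℕ).getD l 0) ∣ SuzC0.cert.D.n → T = {0} ∨ T = Finset.range 3 := by
  decide +kernel

theorem hxw : colWord SuzC0.cert.cols SuzCX.xelt = SuzC0.xw := by decide +kernel

theorem hx : ∀ i < SuzC0.cert.D.n, (runT SuzC0.cert.D (colWord SuzC0.cert.cols SuzCX.xelt))^[11 ^ 1] i = i := by
  intro i hi
  rw [hxw]
  exact Nat.eq_of_beq_eq_true (SuzC0.hX i hi)

/-- The presented sporadic Suzuki group is simple of the expected order (that is, it is a simple group of the order of the sporadic Suzuki group). -/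
theorem result : Cfsg.IsSuz Cfsg.Spor.Suz := by
  have : Fact (Nat.Prime 11) := ⟨by norm_num⟩
  exact SuzC0.cert.isSimple_card 448345497600 hub SuzC0.slp hslp SuzC0.hSlp SuzC0.lidx SuzC0.lpar SuzC0.lgi
    SuzC0.levs hok hprod SuzC0.orb SuzC0.hO1 SuzC0.hO2 3 0 [1, 1365, 416] hlab hroot hsz
    (by decide +kernel) (by decide) (by decide) hsub 11 1 (by decide) (by norm_num) (by norm_num)
    SuzCX.xelt 1 hx (by rw [SuzCX.cert.card_eq_of_empty.2]; rfl)

end Cfsg.Agent.S1694
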