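import Mathlib
import Cfsg.Statements.S5128
import Cfsg.Agent.Lib.Helper26.FusionInduction2

set_option autoImplicit false
open Cfsg

namespace Cfsg.Agent.S5128

open Cfsg.FusionSystem Cfsg.Agent.Helper25 Cfsg.Agent.Helper26

/-- In a saturated fusion system over a finite p-group S, the product of two strongly closed subgroups is strongly closed. -/
theorem result {Ω : Type*} [Group Ω] {S : Subgroup Ω} [Finite S] (p : ℕ) [Fact p.Prime] (hS : IsPGroup p S) (F : Cfsg.FusionSystem S) (hF : F.IsSaturated p) (T₁ T₂ : Subgroup Ω) (h₁ : F.StronglyClosed T₁) (h₂ : F.StronglyClosed T₂) : F.StronglyClosed (T₁ ⊔ T₂) := by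
  set X := T₁ ⊔ T₂ with hX
  have hT₁S : T₁ ≤ S := h₁.1
  have hT₂S : T₂ ≤ S := h₂.1
  have hXS : X ≤ S := sup_le hT₁S hT₂S
  have hXn : ∀ g ∈ S, ∀ v ∈ X, g * v * g⁻¹ ∈ X := by
    intro g hg
    have hle : X ≤ X.comap (MulAut.conj g).toMonoidHom := by
      apply sup_le
      · intro v hv
        exact Subgroup.mem_sup_left (conj_mem_of_stronglyClosed F h₁ hg hv)
      · intro v hv
        exact Subgroup.mem_sup_right (conj_mem_of_stronglyClosed F h₂ hg hv)
    intro v hv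
    exact hle hv
  have hnorm : ∀ u ∈ T₁, ∀ v ∈ T₂, u⁻¹ * v * u ∈ T₂ :=
    fun u hu v hv => conj_mem_of_stronglyClosed' F h₂ (hT₁S hu) hv
  have key : ∀ {R : Subgroup Ω} {φ : R →* Ω}, φ ∈ F.Hom R →
      ∀ x : R, (x : Ω) ∈ X ↔ φ x ∈ X := by
    intro R φ hφ
    refine stronglyClosed_induction p hS F hF h₁ (fun R φ => ∀ x : R, (x : Ω) ∈ X ↔ φ x ∈ X)
      ?_ ?_ ?_ ?_ ?_ hφ
    · intro P g hP hg x
      rw [conjHom_apply]
      constructor
      · intro hx; exact hXn g hg _ hx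
      · intro hx
        have := hXn g⁻¹ (S.inv_mem hg) _ hx
        have e : g⁻¹ * (g * (x : Ω) * g⁻¹) * g⁻¹⁻¹ = x := by group
        rwa [e] at this
    · intro P Q φ ψ _ _ h1 h2 h x
      rw [h1 x]
      exact h2 ⟨φ x, h x⟩
    · intro P φ _ h1 ψ _ hinv
      rintro ⟨y, x, rfl⟩
      rw [hinv x]
      exact (h1 x).symm
    · intro P hPS hTP α hα
      have fwd : ∀ β ∈ F.autGroup P, ∀ x : P, (x : Ω) ∈ X → ((β x : P) : Ω) ∈ X := by
        intro β hβ x hx
        obtain ⟨t₁, ht₁, t₂, ht₂, hxt⟩ := exists_mul_of_mem_sup hnorm hx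
        have ht₁P : t₁ ∈ P := hTP ht₁
        have ht₂P : t₂ ∈ P := by
          have : t₂ = t₁⁻¹ * (x : Ω) := by rw [hxt]; group
          rw [this]
          exact P.mul_mem (P.inv_mem ht₁P) x.2
        have hx' : x = ⟨t₁, ht₁P⟩ * ⟨t₂, ht₂P⟩ := Subtype.ext hxt
        rw [hx', map_mul]
        exact Subgroup.mul_mem _
          (Subgroup.mem_sup_left (aut_mem_of_stronglyClosed F h₁ hPS hβ (y := ⟨t₁, ht₁P⟩) ht₁))
          (Subgroup.mem_sup_right (aut_mem_of_stronglyClosed F h₂ hPS hβ (y := ⟨t₂, ht₂P⟩) ht₂))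
      intro x
      constructor
      · exact fwd α hα x
      · intro hx
        have := fwd α⁻¹ (Subgroup.inv_mem _ hα) (α x) hx
        simpa using this
    · intro P hPS γ hγ x
      have h1 : (x : Ω)⁻¹ * ((γ x : P) : Ω) ∈ X := Subgroup.mem_sup_left (hγ.2 x)
      show (x : Ω) ∈ X ↔ ((γ x : P) : Ω) ∈ X
      have e : ((γ x : P) : Ω) = (x : Ω) * ((x : Ω)⁻¹ * ((γ x : P) : Ω)) := by group
      rw [e]
      exact (Subgroup.mul_mem_cancel_right X h1).symm
  exact ⟨hXS, fun R hR φ hφ x => (key hφ x).mp (hR x.2)⟩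

end Cfsg.Agent.S5128
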