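import Mathlib
import Cfsg.Statements.S1550
import Cfsg.Agent.Lib.Helper29.M24SextetTab

set_option autoImplicit false
open scoped Pointwise
open Cfsg

namespace Cfsg.Agent.S1550

open Cfsg.Agent.Helper27 Cfsg.Agent.Helper29 Cfsg.Agent.Helper29.M24

set_option maxRecDepth 100000 in
theorem count_all : countN (fun i => (sextetAt i != 0) && true) 2024 = 1771 := by decide +kernel

/-- Every 4-element set of the 24 points is a tetrad of exactly one sextet, and the sextets number 1771. -/
theorem result : (∀ t : Finset Cfsg.GolayPt, t.card = 4 → ∃! S : Finset (Finset Cfsg.GolayPt), S ∈ Cfsg.sextets ∧ t ∈ S) ∧ Cfsg.sextets.ncard = 1771 := by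
  constructor
  · intro t ht
    refine ⟨sextetOf t, ⟨sextetOf_mem_sextets t ht, self_mem_sextetOf t ht⟩, ?_⟩
    rintro S ⟨hS, htS⟩
    exact eq_sextetOf_of_mem S hS t htS
  · have := ncard_family Cfsg.sextets (fun i => semS (sextetAt i)) 2024 (fun i => sextetAt i != 0)
      (fun z => mem_sextets_iff_at z)
      (fun i hi j hj hvi hvj h => sextetAt_inj i j hi hj (by simpa using hvi) (by simpa using hvj) h)
      (fun _ => True) (fun _ => true) (fun i _ _ => by simp)
    simp only [and_true] at this
    rw [show {z | z ∈ Cfsg.sextets} = Cfsg.sextets from rfl] at this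
    rw [this]
    exact count_all

end Cfsg.Agent.S1550
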