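import Mathlib
import Cfsg.Statements.S1551
import Mathlib
import Cfsg.Agent.Lib.Helper29.M24SextetKer
import Cfsg.Agent.S1550

set_option autoImplicit false
open scoped Pointwise
open Cfsg

namespace Cfsg.Agent.S1551

open Cfsg.Agent.Helper27 Cfsg.Agent.Helper29 Cfsg.Agent.Helper29.M24
open Cfsg.Agent.Helper29.SextetKer
open scoped Pointwise

theorem card_stab (S : Finset (Finset GolayPt)) (hS : S ∈ Cfsg.sextets) :
    Nat.card ↥(MulAction.stabilizer Cfsg.M24 S) = 138240 := by
  have horb : MulAction.orbit Cfsg.M24 S = Cfsg.sextets := by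
    ext S'
    constructor
    · rintro ⟨g, rfl⟩
      exact smul_mem_sextets g.2 hS
    · intro hS'
      obtain ⟨g1, hg1, h1⟩ := exists_map_sextet S hS
      obtain ⟨g2, hg2, h2⟩ := exists_map_sextet S' hS'
      refine ⟨⟨g2 * g1⁻¹, Subgroup.mul_mem _ hg2 (Subgroup.inv_mem _ hg1)⟩, ?_⟩
      show (g2 * g1⁻¹) • S = S'
      rw [h1, h2, mul_smul, inv_smul_smul]
  have h1 := Nat.card_congr (MulAction.orbitProdStabilizerEquivGroup Cfsg.M24 S)
  rw [Nat.card_prod, horb, Nat.card_coe_set_eq, Cfsg.Agent.S1550.result.2, card_M24] at h1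
  omega

theorem smul_mem_iff (S : Finset (Finset GolayPt)) (g : ↥(MulAction.stabilizer Cfsg.M24 S))
    (t : Finset GolayPt) : ((g : Cfsg.M24) : Equiv.Perm GolayPt) • t ∈ S ↔ t ∈ S := by
  have hg : ((g : Cfsg.M24) : Equiv.Perm GolayPt) • S = S := by
    have := g.2
    rw [MulAction.mem_stabilizer_iff] at this
    exact this
  have h := Finset.smul_mem_smul_finset_iff (s := S) (b := t) ((g : Cfsg.M24) : Equiv.Perm GolayPt)
  rwa [hg] at h

/-- the action of a sextet stabiliser on the six tetrads -/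
def tetHom (S : Finset (Finset GolayPt)) :
    ↥(MulAction.stabilizer Cfsg.M24 S) →* Equiv.Perm ↥S where
  toFun g := (MulAction.toPerm ((g : Cfsg.M24) : Equiv.Perm GolayPt) :
    Equiv.Perm (Finset GolayPt)).subtypePerm (fun t => smul_mem_iff S g t)
  map_one' := Equiv.ext fun t => Subtype.ext (one_smul (Equiv.Perm GolayPt) (t : Finset GolayPt))
  map_mul' a b := Equiv.ext fun t => Subtype.ext
    (mul_smul ((a : Cfsg.M24) : Equiv.Perm GolayPt) ((b : Cfsg.M24) : Equiv.Perm GolayPt)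
      (t : Finset GolayPt))

theorem tetHom_apply (S : Finset (Finset GolayPt)) (g : ↥(MulAction.stabilizer Cfsg.M24 S))
    (t : ↥S) : ((tetHom S g t : ↥S) : Finset GolayPt) =
      ((g : Cfsg.M24) : Equiv.Perm GolayPt) • (t : Finset GolayPt) := rfl

theorem mem_ker_tetHom (S : Finset (Finset GolayPt)) (g : ↥(MulAction.stabilizer Cfsg.M24 S)) :
    g ∈ (tetHom S).ker ↔ ∀ t ∈ S, ((g : Cfsg.M24) : Equiv.Perm GolayPt) • t = t := by
  rw [MonoidHom.mem_ker]
  constructor
  · intro h t ht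
    have := congrArg (fun e : Equiv.Perm ↥S => ((e ⟨t, ht⟩ : ↥S) : Finset GolayPt)) h
    exact this
  · intro h
    exact Equiv.ext fun t => Subtype.ext (h t.1 t.2)

theorem main (S : Finset (Finset GolayPt)) (hS : S ∈ Cfsg.sextets) (hK : (KP S).ncard ≤ 192)
    (hN64 : (NP S).ncard = 64) (hNmul : ∀ x ∈ NP S, ∀ y ∈ NP S, x * y ∈ NP S) :
    (∀ e : Equiv.Perm ↥S, ∃ g ∈ MulAction.stabilizer Cfsg.M24 S, ∀ t : ↥S, (g : Equiv.Perm Cfsg.GolayPt) • (t : Finset Cfsg.GolayPt) = ((e t : ↥S) : Finset Cfsg.GolayPt)) ∧ Nat.card {g : ↥(MulAction.stabilizer Cfsg.M24 S) // ∀ t ∈ S, ((g : Cfsg.M24) : Equiv.Perm Cfsg.GolayPt) • t = t} = 192 ∧ ∃ N : Subgroup ↥(MulAction.stabilizer Cfsg.M24 S), N.Normal ∧ Nat.card N = 64 ∧ ∀ x ∈ N, x * x = 1 := by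
  classical
  have hcard := card_stab S hS
  set φ := tetHom S with hφ
  -- the kernel
  have hkercard : Nat.card ↥φ.ker = Nat.card {g : ↥(MulAction.stabilizer Cfsg.M24 S) //
      ∀ t ∈ S, ((g : Cfsg.M24) : Equiv.Perm Cfsg.GolayPt) • t = t} :=
    Nat.card_congr (Equiv.subtypeEquivRight (fun g => mem_ker_tetHom S g))
  have hkerle : Nat.card {g : ↥(MulAction.stabilizer Cfsg.M24 S) //
      ∀ t ∈ S, ((g : Cfsg.M24) : Equiv.Perm Cfsg.GolayPt) • t = t} ≤ 192 := by
    refine le_trans ?_ hK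
    rw [← Nat.card_coe_set_eq]
    apply Nat.card_le_card_of_injective
      (fun g => (⟨((g.1 : Cfsg.M24) : Equiv.Perm GolayPt), ⟨(g.1 : Cfsg.M24).2, g.2⟩⟩ : ↥(KP S)))
    intro a b hab
    have := congrArg Subtype.val hab
    exact Subtype.ext (Subtype.ext (Subtype.ext this))
  have hrange : Nat.card ↥φ.range ≤ 720 := by
    refine le_trans (Subgroup.card_le_card_group _) ?_
    rw [Nat.card_eq_fintype_card, Fintype.card_perm, Fintype.card_coe, hS.1]
    decide
  have hquot : Nat.card (↥(MulAction.stabilizer Cfsg.M24 S) ⧸ φ.ker) = Nat.card ↥φ.range :=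
    Nat.card_congr (QuotientGroup.quotientKerEquivRange φ).toEquiv
  have hmul := Subgroup.card_eq_card_quotient_mul_card_subgroup φ.ker
  rw [hquot, hcard, hkercard] at hmul
  set k := Nat.card {g : ↥(MulAction.stabilizer Cfsg.M24 S) //
      ∀ t ∈ S, ((g : Cfsg.M24) : Equiv.Perm Cfsg.GolayPt) • t = t} with hk
  set q := Nat.card ↥φ.range with hq
  have h1 : q * k ≤ 720 * k := Nat.mul_le_mul_right k hrange
  have hk192 : k = 192 := by omega
  have hq720 : q = 720 := by
    rw [hk192] at hmul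
    omega
  have hsurj : Function.Surjective φ := by
    rw [← MonoidHom.range_eq_top]
    apply Subgroup.eq_top_of_card_eq
    rw [← hq, hq720, Nat.card_eq_fintype_card, Fintype.card_perm, Fintype.card_coe, hS.1]
    rfl
  refine ⟨?_, hk192, ?_⟩
  · intro e
    obtain ⟨g, rfl⟩ := hsurj e
    exact ⟨g.1, g.2, fun t => rfl⟩
  · -- the normal subgroup
    let N : Subgroup ↥(MulAction.stabilizer Cfsg.M24 S) :=
      { carrier := {g | ((g : Cfsg.M24) : Equiv.Perm GolayPt) ∈ NP S}
        one_mem' := ⟨⟨Subgroup.one_mem _, fun t _ => one_smul _ t⟩, one_mul 1⟩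
        mul_mem' := fun {a b} ha hb => hNmul _ ha _ hb
        inv_mem' := fun {a} ha => by
          have h1 : ((a : Cfsg.M24) : Equiv.Perm GolayPt) * ((a : Cfsg.M24) : Equiv.Perm GolayPt) = 1 :=
            ha.2
          have h2 : (((a : Cfsg.M24) : Equiv.Perm GolayPt))⁻¹ = ((a : Cfsg.M24) : Equiv.Perm GolayPt) :=
            inv_eq_of_mul_eq_one_left h1
          show (((a : Cfsg.M24) : Equiv.Perm GolayPt))⁻¹ ∈ NP S
          rw [h2]
          exact ha }
    have hmemN : ∀ g : ↥(MulAction.stabilizer Cfsg.M24 S),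
        g ∈ N ↔ ((g : Cfsg.M24) : Equiv.Perm GolayPt) ∈ NP S := fun g => Iff.rfl
    refine ⟨N, ⟨?_⟩, ?_, ?_⟩
    · intro n hn g
      rw [hmemN] at hn ⊢
      obtain ⟨⟨hnM, hnfix⟩, hnsq⟩ := hn
      set x : Equiv.Perm GolayPt := ((g : Cfsg.M24) : Equiv.Perm GolayPt) with hx
      set y : Equiv.Perm GolayPt := ((n : Cfsg.M24) : Equiv.Perm GolayPt) with hy
      have hval : (((g * n * g⁻¹ : ↥(MulAction.stabilizer Cfsg.M24 S)) : Cfsg.M24) :
          Equiv.Perm GolayPt) = x * y * x⁻¹ := rfl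
      rw [hval]
      refine ⟨⟨?_, ?_⟩, ?_⟩
      · rw [← hval]
        exact ((g * n * g⁻¹ : ↥(MulAction.stabilizer Cfsg.M24 S)) : Cfsg.M24).2
      · intro t ht
        have h1 : x⁻¹ • t ∈ S := (smul_mem_iff S g⁻¹ t).2 ht
        rw [mul_smul, mul_smul, hnfix _ h1, smul_inv_smul]
      · have : x * y * x⁻¹ * (x * y * x⁻¹) = x * (y * y) * x⁻¹ := by group
        rw [this, hnsq]
        group
    · have e : ↥N ≃ ↥(NP S) :=
        Equiv.ofBijective (fun g => ⟨((g.1 : Cfsg.M24) : Equiv.Perm GolayPt), g.2⟩) ⟨by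
          intro a b hab
          have := congrArg Subtype.val hab
          exact Subtype.ext (Subtype.ext (Subtype.ext this)), by
          rintro ⟨x, hx⟩
          have hxS : x • S = S := by
            ext t
            constructor
            · intro ht
              obtain ⟨t0, ht0, rfl⟩ := Finset.mem_smul_finset.1 ht
              rw [hx.1.2 t0 ht0]
              exact ht0
            · intro ht
              have := Finset.smul_mem_smul_finset (a := x) ht
              rwa [hx.1.2 t ht] at this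
          refine ⟨⟨⟨⟨x, hx.1.1⟩, ?_⟩, hx⟩, rfl⟩
          rw [MulAction.mem_stabilizer_iff]
          exact hxS⟩
      rw [Nat.card_congr e, Nat.card_coe_set_eq, hN64]
    · intro x hx
      rw [hmemN] at hx
      exact Subtype.ext (Subtype.ext hx.2)

/-- Structure of a sextet stabiliser: it induces every permutation of the six tetrads, the subgroup fixing each tetrad setwise has order 192, and there is a normal subgroup of order 64 consisting of elements squaring to the identity. -/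
theorem result (S : Finset (Finset Cfsg.GolayPt)) (hS : S ∈ Cfsg.sextets) : (∀ e : Equiv.Perm ↥S, ∃ g ∈ MulAction.stabilizer Cfsg.M24 S, ∀ t : ↥S, (g : Equiv.Perm Cfsg.GolayPt) • (t : Finset Cfsg.GolayPt) = ((e t : ↥S) : Finset Cfsg.GolayPt)) ∧ Nat.card {g : ↥(MulAction.stabilizer Cfsg.M24 S) // ∀ t ∈ S, ((g : Cfsg.M24) : Equiv.Perm Cfsg.GolayPt) • t = t} = 192 ∧ ∃ N : Subgroup ↥(MulAction.stabilizer Cfsg.M24 S), N.Normal ∧ Nat.card N = 64 ∧ ∀ x ∈ N, x * x = 1 := by
  obtain ⟨g0, hg0, rfl⟩ := exists_map_sextet S hS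
  have hB : famSet sext0 = B := rfl
  rw [hB] at hS ⊢
  apply main (g0 • B) hS
  · rw [KP_smul_eq g0 hg0 B, Set.ncard_image_of_injective _ (MulAut.conj g0).injective]
    exact ncard_KP_B_le
  · rw [NP_smul_eq g0 hg0 B, Set.ncard_image_of_injective _ (MulAut.conj g0).injective]
    exact ncard_NP_B
  · intro x hx y hy
    rw [mem_NP_smul g0 hg0 B] at hx hy ⊢
    have := NP_B_mul _ _ hx hy
    have e : g0⁻¹ * x * g0 * (g0⁻¹ * y * g0) = g0⁻¹ * (x * y) * g0 := by group
    rwa [e] at this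

end Cfsg.Agent.S1551
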