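import Mathlib
import Cfsg.Statements.S0544

set_option autoImplicit false
open Cfsg

namespace Cfsg.Agent.S0544

variable {G : Type*} [Group G]

theorem relIndex_dvd_index_of_le_normalizer {H K : Subgroup G}
    (h : H ≤ Subgroup.normalizer (K : Set G)) : K.relIndex H ∣ K.index := by
  set N := Subgroup.normalizer (K : Set G) with hN
  have hKN : K ≤ N := Subgroup.le_normalizer
  have hn : (K.subgroupOf N).Normal := Subgroup.normal_in_normalizer
  have h1 : (K.subgroupOf N).relIndex (H.subgroupOf N ⊔ K.subgroupOf N) =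
      (K.subgroupOf N).relIndex (H.subgroupOf N) := Subgroup.relIndex_sup_right _ _
  rw [← Subgroup.subgroupOf_sup h hKN, Subgroup.relIndex_subgroupOf (sup_le h hKN),
    Subgroup.relIndex_subgroupOf h] at h1
  rw [← h1]
  exact Subgroup.relIndex_dvd_index_of_le le_sup_right

theorem not_dvd_card_of_index [Finite G] (K : Subgroup G) (p : ℕ) (hp : p.Prime)
    (hK : K.index = p ^ (Nat.card G).factorization p) : ¬ p ∣ Nat.card K := by
  intro hdvd
  have h1 := Subgroup.card_mul_index K
  rw [hK] at h1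
  apply Nat.pow_succ_factorization_not_dvd (Nat.card_pos (α := G)).ne' hp
  have h2 : p ^ ((Nat.card G).factorization p + 1) ∣
      Nat.card K * p ^ (Nat.card G).factorization p := by
    rw [pow_succ, mul_comm]
    exact Nat.mul_dvd_mul_right hdvd _
  rwa [h1] at h2

theorem result {G : Type*} [Group G] [Finite G] [Group.IsSolvable G] (K : Nat.Primes → Subgroup G) (hK : Cfsg.IsComplementSystem K) : Group.IsNilpotent (Cfsg.systemNormalizer K) := by
  set D := Cfsg.systemNormalizer K with hD
  have hDle : ∀ p, D ≤ Subgroup.normalizer (K p : Set G) := fun p => iInf_le _ p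
  apply ((Group.isNilpotent_of_finite_tfae (G := D)).out 0 3).mpr
  intro q hq Q
  have hqp : q.Prime := hq.out
  -- the intersection of the complements for the other primes
  set R : Subgroup G := (⨅ p : {p : Nat.Primes // (p : ℕ) ≠ q}, K p.1) ⊓ D with hR
  have hRD : R ≤ D := inf_le_right
  have hRK : ∀ p : Nat.Primes, (p : ℕ) ≠ q → R ≤ K p := fun p hp =>
    inf_le_left.trans (iInf_le (fun p : {p : Nat.Primes // (p : ℕ) ≠ q} => K p.1) ⟨p, hp⟩)
  -- R is a q-group
  have hRq : IsPGroup q R := by
    have hcard : Nat.card R = q ^ (Nat.card R).primeFactorsList.length := by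
      apply Nat.eq_prime_pow_of_unique_prime_dvd Nat.card_pos.ne'
      intro p hp hpd
      by_contra hne
      have := not_dvd_card_of_index (K ⟨p, hp⟩) p hp (hK ⟨p, hp⟩)
      exact this (hpd.trans (Subgroup.card_dvd_of_le (hRK ⟨p, hp⟩ hne)))
    exact IsPGroup.of_card hcard
  have hRq' : IsPGroup q (R.subgroupOf D) := hRq.comap_subtype
  -- Q lies in R
  have hQR : (Q : Subgroup D) ≤ R.subgroupOf D := by
    intro x hx
    rw [Subgroup.mem_subgroupOf]
    refine Subgroup.mem_inf.mpr ⟨Subgroup.mem_iInf.mpr ?_, x.2⟩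
    rintro ⟨p, hp⟩
    show (x : G) ∈ K p
    set Q' := (Q : Subgroup D).map D.subtype with hQ'
    have hQ'D : Q' ≤ D := Subgroup.map_subtype_le _
    have hxQ' : (x : G) ∈ Q' := ⟨x, hx, rfl⟩
    have hle : Q' ≤ K p := by
      rw [← Subgroup.relIndex_eq_one]
      have h1 : (K p).relIndex Q' ∣ (K p).index :=
        relIndex_dvd_index_of_le_normalizer (hQ'D.trans (hDle p))
      rw [hK p] at h1
      have h2 : (K p).relIndex Q' ∣ Nat.card Q' := Subgroup.relIndex_dvd_card _ _
      have hQ'q : IsPGroup q Q' := Q.isPGroup'.map _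
      obtain ⟨k, hk⟩ := IsPGroup.iff_card.mp hQ'q
      rw [hk] at h2
      have hcop : Nat.Coprime ((p : ℕ) ^ (Nat.card G).factorization p) (q ^ k) := by
        apply Nat.Coprime.pow
        exact (Nat.coprime_primes p.2 hqp).mpr hp
      exact Nat.eq_one_of_dvd_coprimes hcop h1 h2
    exact hle hxQ'
  have hEq : R.subgroupOf D = (Q : Subgroup D) := Q.is_maximal' hRq' hQR
  rw [← hEq]
  -- R is normalized by D
  constructor
  intro r hr d
  rw [Subgroup.mem_subgroupOf] at hr ⊢
  refine Subgroup.mem_inf.mpr ⟨Subgroup.mem_iInf.mpr ?_,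
    D.mul_mem (D.mul_mem d.2 r.2) (D.inv_mem d.2)⟩
  rintro ⟨p, hp⟩
  have hrK : (r : G) ∈ K p := hRK p hp hr
  have hdN := hDle p d.2
  exact (Subgroup.mem_normalizer_iff.mp hdN (r : G)).mp hrK

end Cfsg.Agent.S0544
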