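import Mathlib
import Cfsg.Statements.S0545
import Cfsg.Agent.Lib.Helper3.HallSystem2
import Cfsg.Agent.S0544

set_option autoImplicit false
open Pointwise
open Cfsg

namespace Cfsg.Agent.S0545

open Cfsg.Agent.Helper3

universe u

variable {G : Type u} [Group G]

/-- The images of a complement system in a quotient form a complement system. -/
theorem isComplementSystem_map [Finite G] (K : Nat.Primes → Subgroup G)
    (hK : Cfsg.IsComplementSystem K) (N : Subgroup G) [N.Normal] :
    Cfsg.IsComplementSystem (fun p => (K p).map (QuotientGroup.mk' N)) := by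
  intro p
  have hp : (p : ℕ).Prime := p.2
  have hsurj : Function.Surjective (QuotientGroup.mk' N) := QuotientGroup.mk'_surjective N
  have hdvd : ((K p).map (QuotientGroup.mk' N)).index ∣ (p : ℕ) ^ (Nat.card G).factorization p := by
    rw [← hK p]; exact Subgroup.index_map_dvd _ hsurj
  obtain ⟨b, hb, hidx⟩ := (Nat.dvd_prime_pow hp).mp hdvd
  have hnd : ¬ (p : ℕ) ∣ Nat.card ((K p).map (QuotientGroup.mk' N)) := fun h =>
    Cfsg.Agent.S0544.not_dvd_card_of_index (K p) p hp (hK p)
      (h.trans (Subgroup.card_map_dvd _ (QuotientGroup.mk' N)))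
  change ((K p).map (QuotientGroup.mk' N)).index = _
  rw [hidx]
  congr 1
  have hcard := Subgroup.card_mul_index ((K p).map (QuotientGroup.mk' N))
  rw [hidx] at hcard
  rw [← hcard, Nat.factorization_mul (Nat.card_pos).ne' (pow_ne_zero _ hp.ne_zero)]
  rw [Finsupp.add_apply, Nat.factorization_eq_zero_of_not_dvd hnd, hp.factorization_pow]
  simp

theorem systemNormalizer_map [Finite G] [Group.IsSolvable G] (K : Nat.Primes → Subgroup G)
    (hK : Cfsg.IsComplementSystem K) (N : Subgroup G) [N.Normal] :
    Cfsg.systemNormalizer (fun p => (K p).map (QuotientGroup.mk' N)) =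
      (Cfsg.systemNormalizer K).map (QuotientGroup.mk' N) := by
  have hsurj : Function.Surjective (QuotientGroup.mk' N) := QuotientGroup.mk'_surjective N
  apply le_antisymm
  · intro y hy
    obtain ⟨x, rfl⟩ := hsurj y
    have hxn : ∀ p : Nat.Primes, x ∈ Subgroup.normalizer ((K p ⊔ N : Subgroup G) : Set G) := by
      intro p
      have h1 : QuotientGroup.mk' N x ∈
          Subgroup.normalizer (((K p).map (QuotientGroup.mk' N) : Subgroup (G ⧸ N)) : Set (G ⧸ N)) := by
        unfold Cfsg.systemNormalizer at hy
        exact (Subgroup.mem_iInf.mp hy) p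
      have h2 : x ∈ (Subgroup.normalizer
          (((K p).map (QuotientGroup.mk' N) : Subgroup (G ⧸ N)) : Set (G ⧸ N))).comap
          (QuotientGroup.mk' N) := h1
      rw [Subgroup.comap_normalizer_eq_of_surjective _ hsurj, Subgroup.comap_map_eq,
        QuotientGroup.ker_mk'] at h2
      exact h2
    have hK' : IsNatComplementSystem (natSystem K) := isNatComplementSystem_natSystem hK
    have hL' := hK'.conj_smul x
    have hi : ∀ p, ∃ m ∈ N, MulAut.conj m • natSystem K p = MulAut.conj x • natSystem K p := by
      intro p
      by_cases hpp : p.Prime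
      · have e : natSystem K p = K ⟨p, hpp⟩ := natSystem_prime K ⟨p, hpp⟩
        rw [e]
        set P : Nat.Primes := ⟨p, hpp⟩ with hP
        set R := K P ⊔ N with hR
        have hKR : K P ≤ R := le_sup_left
        have hLR : MulAut.conj x • K P ≤ R := by
          calc MulAut.conj x • K P ≤ MulAut.conj x • R := by
                intro z hz
                rw [mem_conj_smul_iff] at hz ⊢
                exact hKR hz
            _ = R := conj_smul_eq_of_mem_normalizer (hxn P)
        have hcardL : Nat.card (MulAut.conj x • K P : Subgroup G) = Nat.card (K P) :=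
          Nat.card_congr (Subgroup.equivSMul (MulAut.conj x) (K P)).symm.toEquiv
        have hcardR : Nat.card R = Nat.card (K P) * (K P).relIndex R :=
          (card_mul_relIndex_of_le hKR).symm
        have hcop : (Nat.card (K P)).Coprime ((K P).relIndex R) := by
          have h1 : (K P).relIndex R ∣ p ^ (Nat.card G).factorization p := by
            have := hK P
            rw [← this]
            exact Subgroup.relIndex_dvd_index_of_le hKR
          have h2 : (Nat.card (K P)).Coprime (p ^ (Nat.card G).factorization p) := by
            apply Nat.Coprime.pow_right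
            apply Nat.Coprime.symm
            rw [Nat.Prime.coprime_iff_not_dvd hpp]
            exact Cfsg.Agent.S0544.not_dvd_card_of_index (K P) p hpp (hK P)
          exact Nat.Coprime.of_dvd_right h1 h2
        obtain ⟨y, hy⟩ := Cfsg.Agent.Helper1.hall_conj (G := R) (Nat.card (K P))
          ((K P).relIndex R) hcardR hcop ((K P).subgroupOf R)
          ((MulAut.conj x • K P).subgroupOf R)
          (Nat.card_congr (Subgroup.subgroupOfEquivOfLe hKR).toEquiv)
          ((Nat.card_congr (Subgroup.subgroupOfEquivOfLe hLR).toEquiv).trans hcardL)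
        have hconj := Cfsg.Agent.Helper1.conj_of_conj_subgroupOf hKR hLR y hy
        have hyR : (y : G) ∈ ((N ⊔ K P : Subgroup G) : Set G) := by
          rw [sup_comm]; exact y.2
        rw [Subgroup.normal_mul] at hyR
        obtain ⟨n, hn, k, hk, hnk⟩ := Set.mem_mul.mp hyR
        refine ⟨n, hn, ?_⟩
        rw [← hconj, ← hnk, map_mul, mul_smul,
          conj_smul_eq_of_mem_normalizer (Subgroup.le_normalizer hk)]
      · refine ⟨1, N.one_mem, ?_⟩
        rw [hK'.eq_top_of_not_prime hpp, conj_smul_top, conj_smul_top]
    obtain ⟨g, hgN, hg⟩ := hK'.exists_conj_mem hL' N hi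
    refine ⟨g⁻¹ * x, ?_, ?_⟩
    · unfold Cfsg.systemNormalizer
      rw [SetLike.mem_coe, Subgroup.mem_iInf]
      intro p
      apply mem_normalizer_of_conj_smul_eq
      have := hg (p : ℕ)
      rw [natSystem_prime] at this
      rw [map_mul, mul_smul, ← this, ← mul_smul, ← map_mul, inv_mul_cancel, map_one, one_smul]
    · rw [map_mul, map_inv]
      have : QuotientGroup.mk' N g = 1 := (QuotientGroup.eq_one_iff g).mpr hgN
      rw [this, inv_one, one_mul]
  · rintro _ ⟨x, hx, rfl⟩
    unfold Cfsg.systemNormalizer at hx ⊢
    rw [SetLike.mem_coe, Subgroup.mem_iInf] at hx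
    rw [Subgroup.mem_iInf]
    intro p
    exact Subgroup.le_normalizer_map (QuotientGroup.mk' N) ⟨x, hx p, rfl⟩

/-- Let K be a Hall complement system of a finite solvable group G and N a normal subgroup. Then the images of the K p in G modulo N form a Hall complement system of the quotient, and its system normalizer is the image of the system normalizer of K. -/
theorem result {G : Type*} [Group G] [Finite G] [Group.IsSolvable G] (K : Nat.Primes → Subgroup G) (hK : Cfsg.IsComplementSystem K) (N : Subgroup G) [N.Normal] : Cfsg.IsComplementSystem (fun p => (K p).map (QuotientGroup.mk' N)) ∧ Cfsg.systemNormalizer (fun p => (K p).map (QuotientGroup.mk' N)) = (Cfsg.systemNormalizer K).map (QuotientGroup.mk' N) :=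
  ⟨isComplementSystem_map K hK N, systemNormalizer_map K hK N⟩

end Cfsg.Agent.S0545
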