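import Mathlib
import Cfsg.Statements.S1243

set_option autoImplicit false
open Cfsg

namespace Cfsg.Agent.S1243

open scoped Pointwise

/-- key lemma: weakly closed in a Sylow `T`, contained in a Sylow `Q`; any conjugate in `Q` equals `W`. -/
theorem mem_normalizer_of_weaklyClosed {G : Type*} [Group G] [Finite G] {p : ℕ} [Fact p.Prime]
    (T Q : Sylow p G) (W : Subgroup G) (hW : Cfsg.IsWeaklyClosed W (T : Subgroup G))
    (hWQ : W ≤ (Q : Subgroup G)) (y : G) (hy : MulAut.conj y • W ≤ (Q : Subgroup G)) :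
    y ∈ Subgroup.normalizer (W : Set G) := by
  obtain ⟨hWT, hwc⟩ := hW
  obtain ⟨x, hx⟩ := MulAction.exists_smul_eq G T Q
  have hQeq : (Q : Subgroup G) = MulAut.conj x • (T : Subgroup G) := by
    rw [← hx, Sylow.coe_subgroup_smul]
  have key : ∀ z : G, MulAut.conj z • W ≤ (Q : Subgroup G) → MulAut.conj (x⁻¹ * z) • W = W := by
    intro z hz
    apply hwc (x⁻¹ * z)
    show MulAut.conj (x⁻¹ * z) • W ≤ (T : Subgroup G)
    rw [map_mul, mul_smul, map_inv, Subgroup.pointwise_smul_subset_iff, inv_inv, ← hQeq]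
    exact hz
  have k1 : MulAut.conj x⁻¹ • W = W := by
    have := key 1 (by simpa using hWQ)
    simpa using this
  have k2 := key y hy
  rw [map_mul, mul_smul] at k2
  -- conj x⁻¹ • (conj y • W) = W = conj x⁻¹ • W
  have k3 : MulAut.conj y • W = W := by
    have : MulAut.conj x⁻¹ • (MulAut.conj y • W) = MulAut.conj x⁻¹ • W := by rw [k2, k1]
    exact smul_left_cancel _ this
  exact Subgroup.mem_normalizer_iff_map_conj_eq.mpr k3

/-- Let T be a Sylow p-subgroup of the finite group G and W ≤ T a subgroup weakly closed in T. If d and g d g⁻¹ both centralize W, then g d g⁻¹ = h d h⁻¹ for some h ∈ N_G(W). -/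
theorem result {G : Type*} [Group G] [Finite G] {p : ℕ} [Fact p.Prime] (T : Sylow p G) (W : Subgroup G) (hW : Cfsg.IsWeaklyClosed W (T : Subgroup G)) (d g : G) (hd : d ∈ Subgroup.centralizer (W : Set G)) (hgd : g * d * g⁻¹ ∈ Subgroup.centralizer (W : Set G)) : ∃ h ∈ Subgroup.normalizer (W : Set G), h * d * h⁻¹ = g * d * g⁻¹ := by
  have hWT := hW.1
  -- W is a p-group
  have hWp : IsPGroup p W := T.isPGroup'.to_le hWT
  -- C = C_G(d)
  set C : Subgroup G := Subgroup.centralizer ({d} : Set G) with hC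
  -- W ≤ C
  have hWC : W ≤ C := by
    intro w hw
    rw [hC, Subgroup.mem_centralizer_singleton_iff]
    exact (Subgroup.mem_centralizer_iff.mp hd w hw)
  -- W' = g⁻¹ W g ≤ C
  set W' : Subgroup G := MulAut.conj g⁻¹ • W with hW'
  have hW'C : W' ≤ C := by
    rintro _ ⟨w, hw, rfl⟩
    rw [hC, Subgroup.mem_centralizer_singleton_iff]
    have := Subgroup.mem_centralizer_iff.mp hgd w hw
    show (MulAut.conj g⁻¹) w * d = d * (MulAut.conj g⁻¹) w
    simp only [MulAut.conj_apply, inv_inv]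
    calc g⁻¹ * w * g * d = g⁻¹ * (w * (g * d * g⁻¹)) * g := by group
      _ = g⁻¹ * (g * d * g⁻¹ * w) * g := by rw [this]
      _ = d * (g⁻¹ * w * g) := by group
  have hW'p : IsPGroup p W' := hWp.map _
  -- Sylow subgroups of C containing them
  obtain ⟨P1, hP1⟩ := (hWp.comap_subtype (K := C)).exists_le_sylow
  obtain ⟨P2, hP2⟩ := (hW'p.comap_subtype (K := C)).exists_le_sylow
  -- conjugate P2 to P1 inside C
  obtain ⟨c, hc⟩ := MulAction.exists_smul_eq C P2 P1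
  -- P1 (in G) lies in a Sylow of G
  have hP1G : IsPGroup p ((P1 : Subgroup C).map C.subtype) := P1.isPGroup'.map _
  obtain ⟨Q, hQ⟩ := hP1G.exists_le_sylow
  -- W ≤ Q
  have hWQ : W ≤ (Q : Subgroup G) := by
    intro w hw
    apply hQ
    exact ⟨⟨w, hWC hw⟩, hP1 (show (⟨w, hWC hw⟩ : C) ∈ Subgroup.comap C.subtype W from hw), rfl⟩
  -- (c g⁻¹) W (c g⁻¹)⁻¹ ≤ Q
  have hcW'Q : MulAut.conj ((c : G) * g⁻¹) • W ≤ (Q : Subgroup G) := by
    rintro _ ⟨w, hw, rfl⟩
    apply hQ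
    have hw' : g⁻¹ * w * g ∈ W' := ⟨w, hw, by simp [MulAut.conj_apply]⟩
    have h2 : (⟨g⁻¹ * w * g, hW'C hw'⟩ : C) ∈ (P2 : Subgroup C) := by
      exact hP2 (show (⟨g⁻¹ * w * g, hW'C hw'⟩ : C) ∈ Subgroup.comap C.subtype W' from hw')
    have h3 : c * ⟨g⁻¹ * w * g, hW'C hw'⟩ * c⁻¹ ∈ (P1 : Subgroup C) := by
      rw [← hc, Sylow.coe_subgroup_smul]
      exact ⟨_, h2, by simp [MulAut.conj_apply]⟩
    refine ⟨_, h3, ?_⟩
    show (C.subtype (c * ⟨g⁻¹ * w * g, hW'C hw'⟩ * c⁻¹)) = (MulAut.conj ((c : G) * g⁻¹)) w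
    simp [MulAut.conj_apply, mul_assoc]
  have hN := mem_normalizer_of_weaklyClosed T Q W hW hWQ _ hcW'Q
  refine ⟨((c : G) * g⁻¹)⁻¹, Subgroup.inv_mem _ hN, ?_⟩
  have hcd : (c : G) * d = d * c := by
    have h1 : (c : G) ∈ Subgroup.centralizer ({d} : Set G) := c.2
    exact Subgroup.mem_centralizer_singleton_iff.mp h1
  have hcd' : (c : G)⁻¹ * d * c = d := by
    rw [mul_assoc, ← hcd]; group
  calc ((c : G) * g⁻¹)⁻¹ * d * ((c : G) * g⁻¹)⁻¹⁻¹ = g * ((c : G)⁻¹ * d * c) * g⁻¹ := by group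
    _ = g * d * g⁻¹ := by rw [hcd']

end Cfsg.Agent.S1243
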