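import Mathlib
import Cfsg.Statements.S3897

set_option autoImplicit false
open Cfsg

namespace Cfsg.Agent.S3897

/-- the type of classes of `p`-elements -/
abbrev KP (G : Type*) [Group G] (p : ℕ) : Type _ :=
  {c : ConjClasses G // ∀ x ∈ c.carrier, ∃ k : ℕ, orderOf x = p ^ k}

/-- every class of `p`-elements meets a given Sylow `p`-subgroup -/
theorem exists_rep {G : Type*} [Group G] [Finite G] {p : ℕ} [Fact p.Prime] (P : Sylow p G)
    (c : KP G p) : ∃ x : ↥(P : Subgroup G), ConjClasses.mk (x : G) = c.1 := by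
  obtain ⟨c, hc⟩ := c
  obtain ⟨g, rfl⟩ := ConjClasses.exists_rep c
  obtain ⟨k, hk⟩ := hc g ConjClasses.mem_carrier_mk
  have hpg : IsPGroup p ↥(Subgroup.zpowers g) := by
    apply IsPGroup.of_card (n := k)
    rw [Nat.card_zpowers, hk]
  obtain ⟨Q, hQ⟩ := hpg.exists_le_sylow
  obtain ⟨h, hh⟩ := MulAction.exists_smul_eq G Q P
  have hgQ : g ∈ (Q : Subgroup G) := hQ (Subgroup.mem_zpowers g)
  have hmem : h * g * h⁻¹ ∈ (P : Subgroup G) := by
    rw [← hh, Sylow.smul_def, Sylow.pointwise_smul_def]
    exact Subgroup.smul_mem_pointwise_smul g (MulAut.conj h) _ hgQ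
  refine ⟨⟨h * g * h⁻¹, hmem⟩, ?_⟩
  simp only
  rw [ConjClasses.mk_eq_mk_iff_isConj, isConj_comm, isConj_iff]
  exact ⟨h, rfl⟩

theorem card_le_of_not_central {G : Type*} [Group G] [Finite G] {p : ℕ} [Fact p.Prime]
    (P : Sylow p G) (n : G) (hn : n ∈ Subgroup.normalizer ((P : Subgroup G) : Set G))
    (hnc : n ∉ Subgroup.centralizer ((P : Subgroup G) : Set G)) :
    2 * p * Nat.card (KP G p) ≤ (p + 1) * Nat.card ↥(P : Subgroup G) := by
  classical
  set F : Subgroup G := (P : Subgroup G) ⊓ Subgroup.centralizer ({n} : Set G) with hF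
  have hFP : F ≤ (P : Subgroup G) := inf_le_left
  have hFne : F ≠ (P : Subgroup G) := by
    intro h
    apply hnc
    rw [Subgroup.mem_centralizer_iff]
    intro x hx
    have hxF : x ∈ F := by rw [h]; exact hx
    have := (Subgroup.mem_inf.mp hxF).2
    rw [Subgroup.mem_centralizer_iff] at this
    exact (this n (Set.mem_singleton n)).symm
  -- p * |F| ≤ |P|
  have hcardF : p * Nat.card F ≤ Nat.card ↥(P : Subgroup G) := by
    obtain ⟨k, hk⟩ := IsPGroup.iff_card.mp P.isPGroup'
    have hdvd : Nat.card F ∣ Nat.card ↥(P : Subgroup G) := Subgroup.card_dvd_of_le hFP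
    rw [hk] at hdvd ⊢
    obtain ⟨j, hj, hjc⟩ := (Nat.dvd_prime_pow (Fact.out : p.Prime)).mp hdvd
    have hjk : j ≠ k := by
      intro hjk
      apply hFne
      apply Subgroup.eq_of_le_of_card_ge hFP
      rw [hk, hjc, hjk]
    have hlt : j + 1 ≤ k := by omega
    rw [hjc, ← pow_succ']
    exact Nat.pow_le_pow_right (Fact.out : p.Prime).pos hlt
  -- section
  choose s hs using exists_rep (G := G) (p := p) P
  have hsinj : Function.Injective s := by
    intro c d hcd
    apply Subtype.ext
    rw [← hs c, ← hs d, hcd]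
  -- conjugation by n on P
  have hconj : ∀ x : ↥(P : Subgroup G), n * (x : G) * n⁻¹ ∈ (P : Subgroup G) := by
    intro x
    exact (Subgroup.mem_normalizer_iff.mp hn x).mp x.2
  let Ψ : KP G p ⊕ KP G p → ↥(P : Subgroup G) ⊕ ↥F := fun z =>
    match z with
    | Sum.inl c => Sum.inl (s c)
    | Sum.inr c => if h : ((s c : ↥(P : Subgroup G)) : G) ∈ F then Sum.inr ⟨_, h⟩
        else Sum.inl ⟨n * (s c : G) * n⁻¹, hconj (s c)⟩
  have hΨ : Function.Injective Ψ := by
    rintro (c | c) (d | d) hcd
    · simp only [Ψ, Sum.inl.injEq] at hcd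
      rw [hsinj hcd]
    · simp only [Ψ] at hcd
      split_ifs at hcd with h
      -- s c = n (s d) n⁻¹, so classes equal, so s c = s d, so s d commutes with n
      simp only [Sum.inl.injEq] at hcd
      have h1 : ((s c : ↥(P : Subgroup G)) : G) = n * (s d : G) * n⁻¹ := by
        rw [hcd]
      have h2 : c = d := by
        apply Subtype.ext
        rw [← hs c, ← hs d, h1, ConjClasses.mk_eq_mk_iff_isConj, isConj_comm, isConj_iff]
        exact ⟨n, rfl⟩
      exfalso
      apply h
      rw [h2] at h1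
      refine Subgroup.mem_inf.mpr ⟨(s d).2, ?_⟩
      rw [Subgroup.mem_centralizer_iff]
      intro y hy
      rw [Set.mem_singleton_iff] at hy
      subst hy
      calc y * (s d : G) = (y * (s d : G) * y⁻¹) * y := by group
        _ = (s d : G) * y := by rw [← h1]
    · simp only [Ψ] at hcd
      split_ifs at hcd with h
      simp only [Sum.inl.injEq] at hcd
      have h1 : ((s d : ↥(P : Subgroup G)) : G) = n * (s c : G) * n⁻¹ := by
        rw [← hcd]
      have h2 : d = c := by
        apply Subtype.ext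
        rw [← hs c, ← hs d, h1, ConjClasses.mk_eq_mk_iff_isConj, isConj_comm, isConj_iff]
        exact ⟨n, rfl⟩
      exfalso
      apply h
      rw [h2] at h1
      refine Subgroup.mem_inf.mpr ⟨(s c).2, ?_⟩
      rw [Subgroup.mem_centralizer_iff]
      intro y hy
      rw [Set.mem_singleton_iff] at hy
      subst hy
      calc y * (s c : G) = (y * (s c : G) * y⁻¹) * y := by group
        _ = (s c : G) * y := by rw [← h1]
    · simp only [Ψ] at hcd
      split_ifs at hcd with h1 h2 h2
      · have hcd' := Subtype.mk.inj (Sum.inr.inj hcd)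
        rw [hsinj (Subtype.ext hcd')]
      · simp only [Sum.inl.injEq, Subtype.mk.injEq] at hcd
        have : (s c : G) = (s d : G) := by
          have := congrArg (fun z => n⁻¹ * z * n) hcd
          calc (s c : G) = n⁻¹ * (n * (s c : G) * n⁻¹) * n := by group
            _ = n⁻¹ * (n * (s d : G) * n⁻¹) * n := this
            _ = (s d : G) := by group
        rw [hsinj (Subtype.ext this)]
  have hcard := Nat.card_le_card_of_injective Ψ hΨ
  rw [Nat.card_sum, Nat.card_sum] at hcard
  -- 2 kp ≤ |P| + |F|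
  have : p * (2 * Nat.card (KP G p)) ≤ p * (Nat.card ↥(P : Subgroup G) + Nat.card F) :=
    Nat.mul_le_mul_left p (by omega)
  nlinarith

/-- If the number of classes of p-elements exceeds (p+1)|P|/(2p) then `N(P) ≤ C(P)`. -/
theorem normalizer_le_centralizer {G : Type*} [Group G] [Finite G] {p : ℕ} [Fact p.Prime]
    (P : Sylow p G)
    (h : (p + 1) * Nat.card ↥(P : Subgroup G) < 2 * p * Nat.card (KP G p)) :
    Subgroup.normalizer ((P : Subgroup G) : Set G) ≤
      Subgroup.centralizer ((P : Subgroup G) : Set G) := by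
  intro n hn
  by_contra hnc
  have := card_le_of_not_central P n hn hnc
  omega

theorem conj_eq_of_complement {G : Type*} [Group G] [Finite G] {p : ℕ} [Fact p.Prime]
    (P : Sylow p G) (hcomm : IsMulCommutative ↥(P : Subgroup G))
    (hcomp : Cfsg.HasNormalPComplement p G) (x : G) (hx : x ∈ (P : Subgroup G)) (g : G)
    (hy : g * x * g⁻¹ ∈ (P : Subgroup G)) : g * x * g⁻¹ = x := by
  obtain ⟨P0, N, hN, hNP0⟩ := hcomp
  have hcardP : Nat.card ↥(P : Subgroup G) = Nat.card ↥(P0 : Subgroup G) := by
    rw [Sylow.card_eq_multiplicity, Sylow.card_eq_multiplicity]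
  have hmul : Nat.card N * Nat.card ↥(P : Subgroup G) = Nat.card G := by
    rw [hcardP]; exact hNP0.card_mul_card
  have hcop : (Nat.card N).Coprime (Nat.card ↥(P : Subgroup G)) := by
    have hPe : Nat.card ↥(P : Subgroup G) = p ^ (Nat.card G).factorization p :=
      Sylow.card_eq_multiplicity P
    rw [hPe]
    apply Nat.Coprime.pow_right
    rw [Nat.coprime_comm, Nat.Prime.coprime_iff_not_dvd (Fact.out : p.Prime)]
    intro hdvd
    obtain ⟨m, hm⟩ := hdvd
    have h1 : p ^ ((Nat.card G).factorization p + 1) ∣ Nat.card G := by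
      refine ⟨m, ?_⟩
      calc Nat.card G = Nat.card N * Nat.card ↥(P : Subgroup G) := hmul.symm
        _ = (p * m) * p ^ (Nat.card G).factorization p := by rw [hm, hPe]
        _ = p ^ ((Nat.card G).factorization p + 1) * m := by rw [pow_succ]; ring
    exact Nat.pow_succ_factorization_not_dvd Nat.card_pos.ne' (Fact.out : p.Prime) h1
  have hNP : Subgroup.IsComplement' N (P : Subgroup G) :=
    Subgroup.isComplement'_of_coprime hmul hcop
  obtain ⟨⟨⟨a, ha⟩, ⟨u, hu⟩⟩, hau, -⟩ := (Subgroup.isComplement_iff_existsUnique.mp hNP) g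
  simp only at hau
  -- g = a u
  have hux : u * x * u⁻¹ = x := by
    have := hcomm.is_comm.comm ⟨u, hu⟩ ⟨x, hx⟩
    have h2 : u * x = x * u := congrArg Subtype.val this
    rw [h2]; group
  have hg : g * x * g⁻¹ = a * x * a⁻¹ := by
    rw [← hau]
    calc a * u * x * (a * u)⁻¹ = a * (u * x * u⁻¹) * a⁻¹ := by group
      _ = a * x * a⁻¹ := by rw [hux]
  -- (a x a⁻¹) x⁻¹ ∈ N ∩ P
  have h1 : a * x * a⁻¹ * x⁻¹ ∈ N := by
    have : x * a⁻¹ * x⁻¹ ∈ N := hN.conj_mem _ (N.inv_mem ha) x
    have h2 := N.mul_mem ha this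
    convert h2 using 1
    group
  have h2 : a * x * a⁻¹ * x⁻¹ ∈ (P : Subgroup G) := by
    rw [← hg]
    exact (P : Subgroup G).mul_mem hy ((P : Subgroup G).inv_mem hx)
  have h3 : a * x * a⁻¹ * x⁻¹ = 1 := by
    have hd := hNP.disjoint
    rw [Subgroup.disjoint_def] at hd
    exact hd h1 h2
  rw [hg]
  calc a * x * a⁻¹ = (a * x * a⁻¹ * x⁻¹) * x := by group
    _ = x := by rw [h3, one_mul]

/-- Let p be an odd prime and G a finite group with Sylow p-subgroup P, and write k_p(G) for the number of conjugacy classes of G consisting of p-elements (elements of p-power order, the identity included). Then k_p(G) > (p + 1)|P|/(2p) if and only if G has a normal p-complement and P is abelian. -/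
theorem result {G : Type*} [Group G] [Finite G] {p : ℕ} [Fact p.Prime] (hp : p ≠ 2) (P : Sylow p G) :
    (p + 1) * Nat.card ↥(P : Subgroup G) < 2 * p * Nat.card {c : ConjClasses G // ∀ x ∈ c.carrier, ∃ k : ℕ, orderOf x = p ^ k} ↔
      Cfsg.HasNormalPComplement p G ∧ IsMulCommutative ↥(P : Subgroup G) := by
  constructor
  · intro h
    have hNC := normalizer_le_centralizer P h
    refine ⟨⟨P, (MonoidHom.transferSylow P hNC).ker, inferInstance,
      MonoidHom.ker_transferSylow_isComplement' P hNC⟩, ?_⟩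
    refine ⟨⟨fun a b => ?_⟩⟩
    apply Subtype.ext
    have hb : (b : G) ∈ Subgroup.centralizer ((P : Subgroup G) : Set G) :=
      hNC (Subgroup.le_normalizer b.2)
    rw [Subgroup.mem_centralizer_iff] at hb
    exact hb a a.2
  · rintro ⟨hcomp, hcomm⟩
    -- injection P → KP
    have hPG : ∀ x : ↥(P : Subgroup G), ∀ y ∈ (ConjClasses.mk (x : G)).carrier,
        ∃ k : ℕ, orderOf y = p ^ k := by
      intro x y hy
      rw [ConjClasses.mem_carrier_iff_mk_eq, ConjClasses.mk_eq_mk_iff_isConj, isConj_iff] at hy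
      obtain ⟨c, hc⟩ := hy
      obtain ⟨k, hk⟩ := (IsPGroup.iff_orderOf.mp P.isPGroup') x
      refine ⟨k, ?_⟩
      have h1 : (x : G) = (MulAut.conj c) y := by
        rw [MulAut.conj_apply, hc]
      rw [← hk, ← Subgroup.orderOf_coe x, h1, MulEquiv.orderOf_eq]
    let φ : ↥(P : Subgroup G) → KP G p := fun x => ⟨ConjClasses.mk (x : G), hPG x⟩
    have hφ : Function.Injective φ := by
      intro x y hxy
      have h1 : ConjClasses.mk (x : G) = ConjClasses.mk (y : G) := congrArg Subtype.val hxy
      rw [ConjClasses.mk_eq_mk_iff_isConj, isConj_iff] at h1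
      obtain ⟨c, hc⟩ := h1
      have h2 := conj_eq_of_complement P hcomm hcomp (x : G) x.2 c (by rw [hc]; exact y.2)
      apply Subtype.ext
      rw [← hc, h2]
    have hcard := Nat.card_le_card_of_injective φ hφ
    have hp2 : 2 ≤ p := (Fact.out : p.Prime).two_le
    have hpos : 0 < Nat.card ↥(P : Subgroup G) := Nat.card_pos
    have h1 : 2 * p * Nat.card ↥(P : Subgroup G) ≤ 2 * p * Nat.card (KP G p) :=
      Nat.mul_le_mul_left _ hcard
    have h2 : (p + 1) * Nat.card ↥(P : Subgroup G) < 2 * p * Nat.card ↥(P : Subgroup G) := by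
      apply Nat.mul_lt_mul_of_pos_right _ hpos
      omega
    exact lt_of_lt_of_le h2 h1

end Cfsg.Agent.S3897
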