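import Mathlib
import Cfsg.Statements.S3899
import Cfsg.Agent.S3897

set_option autoImplicit false
open Cfsg

namespace Cfsg.Agent.S3899

universe u

/-- classes of `σ`-elements -/
abbrev KS (G : Type*) [Group G] (σ : Finset ℕ) : Type _ :=
  {c : ConjClasses G // ∀ x ∈ c.carrier, ∀ r : ℕ, r.Prime → r ∣ orderOf x → r ∈ σ}

/-- the `σ`-part of a natural number -/
def piPart (σ : Finset ℕ) (n : ℕ) : ℕ := σ.prod (fun r => r ^ n.factorization r)

theorem piPart_le_of_dvd (σ : Finset ℕ) (hσ : ∀ r ∈ σ, r.Prime) {a b : ℕ} (hb : b ≠ 0)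
    (hab : a ∣ b) : piPart σ a ≤ piPart σ b := by
  unfold piPart
  apply Finset.prod_le_prod'
  intro r hr
  apply Nat.pow_le_pow_right (hσ r hr).pos
  have ha : a ≠ 0 := fun h => hb (by rw [h] at hab; exact Nat.eq_zero_of_zero_dvd hab)
  exact (Nat.factorization_le_iff_dvd ha hb).mpr hab r

theorem orderOf_conj_eq {G : Type*} [Group G] (c y : G) : orderOf (c * y * c⁻¹) = orderOf y := by
  have h1 : c * y * c⁻¹ = (MulAut.conj c) y := by rw [MulAut.conj_apply]
  rw [h1, MulEquiv.orderOf_eq]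

/-- decomposition of an element into its `r`-part and `r'`-part -/
theorem exists_parts {G : Type*} [Group G] [Finite G] (r : ℕ) (hr : r.Prime) (g : G) :
    ∃ x y : G, g = x * y ∧ Commute x y ∧ (∃ k : ℕ, orderOf x = r ^ k) ∧
      orderOf y ∣ orderOf g ∧ ¬ r ∣ orderOf y := by
  have hn : orderOf g ≠ 0 := (orderOf_pos g).ne'
  obtain ⟨a, m, hm, hnm⟩ := Nat.exists_eq_pow_mul_and_not_dvd hn r hr.ne_one
  have hcop : Nat.Coprime (r ^ a) m :=
    Nat.Coprime.pow_left a ((Nat.Prime.coprime_iff_not_dvd hr).mpr hm)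
  have hbez := Nat.gcd_eq_gcd_ab (r ^ a) m
  rw [hcop.gcd_eq_one] at hbez
  set A := Nat.gcdA (r ^ a) m
  set B := Nat.gcdB (r ^ a) m
  refine ⟨g ^ ((m : ℤ) * B), g ^ (((r ^ a : ℕ) : ℤ) * A), ?_, ?_, ?_, ?_, ?_⟩
  · rw [← zpow_add]
    have : (m : ℤ) * B + ((r ^ a : ℕ) : ℤ) * A = 1 := by
      have h1 : ((1 : ℕ) : ℤ) = 1 := Nat.cast_one
      rw [h1] at hbez
      rw [hbez]; ring
    rw [this, zpow_one]
  · exact (Commute.refl g).zpow_zpow _ _
  · have h1 : (g ^ ((m : ℤ) * B)) ^ (r ^ a) = 1 := by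
      rw [← zpow_natCast, ← zpow_mul]
      have : (m : ℤ) * B * ((r ^ a : ℕ) : ℤ) = ((orderOf g : ℕ) : ℤ) * B := by
        rw [hnm]; push_cast; ring
      rw [this, zpow_mul, zpow_natCast, pow_orderOf_eq_one, one_zpow]
    obtain ⟨k, -, hk⟩ := (Nat.dvd_prime_pow hr).mp (orderOf_dvd_of_pow_eq_one h1)
    exact ⟨k, hk⟩
  · apply orderOf_dvd_of_pow_eq_one
    rw [← zpow_natCast, ← zpow_mul, mul_comm, zpow_mul, zpow_natCast, pow_orderOf_eq_one,
      one_zpow]
  · have h1 : (g ^ (((r ^ a : ℕ) : ℤ) * A)) ^ m = 1 := by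
      rw [← zpow_natCast, ← zpow_mul]
      have : ((r ^ a : ℕ) : ℤ) * A * (m : ℤ) = ((orderOf g : ℕ) : ℤ) * A := by
        rw [hnm]; push_cast; ring
      rw [this, zpow_mul, zpow_natCast, pow_orderOf_eq_one, one_zpow]
    intro h
    exact hm (h.trans (orderOf_dvd_of_pow_eq_one h1))

/-- a chosen representative of a conjugacy class -/
noncomputable def rep {G : Type*} [Group G] (c : ConjClasses G) : G :=
  Classical.choose (ConjClasses.exists_rep c)

theorem mk_rep {G : Type*} [Group G] (c : ConjClasses G) : ConjClasses.mk (rep c) = c :=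
  Classical.choose_spec (ConjClasses.exists_rep c)

theorem rep_mem {G : Type*} [Group G] (c : ConjClasses G) : rep c ∈ c.carrier := by
  rw [ConjClasses.mem_carrier_iff_mk_eq]; exact mk_rep c

/-- The fibre inequality: classes of `σ`-elements are parametrised by a class of `r`-elements
and a class of `σ'`-elements in the centraliser of its representative. -/
theorem card_KS_insert_le {G : Type u} [Group G] [Finite G] (r : ℕ) [Fact r.Prime]
    (σ' : Finset ℕ) [Fintype (S3897.KP G r)] :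
    Nat.card (KS G (insert r σ')) ≤
      ∑ c : S3897.KP G r, Nat.card (KS ↥(Subgroup.centralizer ({rep c.1} : Set G)) σ') := by
  classical
  have hr : r.Prime := Fact.out
  rw [← Nat.card_sigma]
  -- the map
  have key : ∀ (c : S3897.KP G r) (d : KS ↥(Subgroup.centralizer ({rep c.1} : Set G)) σ'),
      ∀ x ∈ (ConjClasses.mk (rep c.1 * ((rep d.1 : ↥(Subgroup.centralizer ({rep c.1} : Set G))) : G))).carrier,
        ∀ q : ℕ, q.Prime → q ∣ orderOf x → q ∈ insert r σ' := by
    intro c d x hx q hq hqx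
    rw [ConjClasses.mem_carrier_iff_mk_eq, ConjClasses.mk_eq_mk_iff_isConj, isConj_iff] at hx
    obtain ⟨t, ht⟩ := hx
    have hox : orderOf x = orderOf (rep c.1 * ((rep d.1 : ↥(Subgroup.centralizer ({rep c.1} : Set G))) : G)) := by
      rw [← ht, orderOf_conj_eq t x]
    rw [hox] at hqx
    have hcomm : Commute (rep c.1) ((rep d.1 : ↥(Subgroup.centralizer ({rep c.1} : Set G))) : G) := by
      have := (rep d.1).2
      rw [Subgroup.mem_centralizer_iff] at this
      exact this _ (Set.mem_singleton _)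
    have h1 := hqx.trans hcomm.orderOf_mul_dvd_mul_orderOf
    rcases (Nat.Prime.dvd_mul hq).mp h1 with h2 | h2
    · obtain ⟨k, hk⟩ := c.2 (rep c.1) (rep_mem c.1)
      rw [hk] at h2
      have := (Nat.prime_dvd_prime_iff_eq hq hr).mp (hq.dvd_of_dvd_pow h2)
      rw [this]; exact Finset.mem_insert_self _ _
    · apply Finset.mem_insert_of_mem
      have := d.2 (rep d.1) (rep_mem d.1) q hq
      rw [Subgroup.orderOf_coe] at h2
      exact this h2
  let Ψ : (Σ c : S3897.KP G r, KS ↥(Subgroup.centralizer ({rep c.1} : Set G)) σ') →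
      KS G (insert r σ') := fun z =>
    ⟨ConjClasses.mk (rep z.1.1 * ((rep z.2.1 : ↥(Subgroup.centralizer ({rep z.1.1} : Set G))) : G)),
      key z.1 z.2⟩
  apply Nat.card_le_card_of_surjective Ψ
  rintro ⟨c0, hc0⟩
  obtain ⟨g, rfl⟩ := ConjClasses.exists_rep c0
  have hg := hc0 g ConjClasses.mem_carrier_mk
  obtain ⟨x, y, hgxy, hxy, ⟨k, hk⟩, hyg, hry⟩ := exists_parts r hr g
  -- the class of x
  have hcx : ∀ z ∈ (ConjClasses.mk x).carrier, ∃ k : ℕ, orderOf z = r ^ k := by
    intro z hz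
    rw [ConjClasses.mem_carrier_iff_mk_eq, ConjClasses.mk_eq_mk_iff_isConj, isConj_iff] at hz
    obtain ⟨t, ht⟩ := hz
    refine ⟨k, ?_⟩
    rw [← hk, ← orderOf_conj_eq t z, ht]
  set c : S3897.KP G r := ⟨ConjClasses.mk x, hcx⟩ with hc
  have h1 : ConjClasses.mk (rep c.1) = ConjClasses.mk x := mk_rep c.1
  rw [ConjClasses.mk_eq_mk_iff_isConj, isConj_comm, isConj_iff] at h1
  obtain ⟨h, hh⟩ := h1
  -- y' = h y h⁻¹ centralizes rep c
  have hy' : h * y * h⁻¹ ∈ Subgroup.centralizer ({rep c.1} : Set G) := by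
    rw [Subgroup.mem_centralizer_iff]
    intro z hz
    rw [Set.mem_singleton_iff] at hz
    rw [hz, ← hh]
    have := hxy.eq
    calc h * x * h⁻¹ * (h * y * h⁻¹) = h * (x * y) * h⁻¹ := by group
      _ = h * (y * x) * h⁻¹ := by rw [this]
      _ = h * y * h⁻¹ * (h * x * h⁻¹) := by group
  -- its class
  have hdy : ∀ z ∈ (ConjClasses.mk (⟨h * y * h⁻¹, hy'⟩ : ↥(Subgroup.centralizer ({rep c.1} : Set G)))).carrier,
      ∀ q : ℕ, q.Prime → q ∣ orderOf z → q ∈ σ' := by
    intro z hz q hq hqz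
    rw [ConjClasses.mem_carrier_iff_mk_eq, ConjClasses.mk_eq_mk_iff_isConj, isConj_iff] at hz
    obtain ⟨t, ht⟩ := hz
    have h2 : orderOf z = orderOf y := by
      rw [← orderOf_conj_eq t z, ht, ← Subgroup.orderOf_coe]
      exact orderOf_conj_eq h y
    rw [h2] at hqz
    have h3 := hg q hq (hqz.trans hyg)
    rcases Finset.mem_insert.mp h3 with h4 | h4
    · exfalso; apply hry; rw [← h4]; exact hqz
    · exact h4
  set d : KS ↥(Subgroup.centralizer ({rep c.1} : Set G)) σ' :=
    ⟨ConjClasses.mk (⟨h * y * h⁻¹, hy'⟩ : ↥(Subgroup.centralizer ({rep c.1} : Set G))), hdy⟩ with hd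
  have h5 : ConjClasses.mk (rep d.1) = ConjClasses.mk (⟨h * y * h⁻¹, hy'⟩ : ↥(Subgroup.centralizer ({rep c.1} : Set G))) := mk_rep d.1
  rw [ConjClasses.mk_eq_mk_iff_isConj, isConj_comm, isConj_iff] at h5
  obtain ⟨t, ht⟩ := h5
  refine ⟨⟨c, d⟩, ?_⟩
  apply Subtype.ext
  simp only [Ψ]
  rw [ConjClasses.mk_eq_mk_iff_isConj, isConj_comm, isConj_iff]
  refine ⟨(t : G) * h, ?_⟩
  have ht' : (t : G) * (h * y * h⁻¹) * (t : G)⁻¹ = ((rep d.1 : ↥(Subgroup.centralizer ({rep c.1} : Set G))) : G) := by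
    have := congrArg Subtype.val ht
    simpa using this
  have htc : (t : G) * rep c.1 * (t : G)⁻¹ = rep c.1 := by
    have := t.2
    rw [Subgroup.mem_centralizer_iff] at this
    have h6 := this _ (Set.mem_singleton _)
    rw [← h6]; group
  rw [← ht', hgxy]
  calc (t : G) * h * (x * y) * ((t : G) * h)⁻¹
      = ((t : G) * (h * x * h⁻¹) * (t : G)⁻¹) * ((t : G) * (h * y * h⁻¹) * (t : G)⁻¹) := by group
    _ = rep c.1 * ((t : G) * (h * y * h⁻¹) * (t : G)⁻¹) := by rw [hh, htc]

/-- the number of classes of `r`-elements is at most the order of a Sylow `r`-subgroup -/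
theorem card_KP_le {G : Type u} [Group G] [Finite G] (r : ℕ) [Fact r.Prime] :
    Nat.card (S3897.KP G r) ≤ r ^ (Nat.card G).factorization r := by
  have P : Sylow r G := default
  rw [← Sylow.card_eq_multiplicity P]
  choose s hs using S3897.exists_rep (G := G) (p := r) P
  apply Nat.card_le_card_of_injective s
  intro c d hcd
  apply Subtype.ext
  rw [← hs c, ← hs d, hcd]

theorem card_KS_le (σ : Finset ℕ) (hσ : ∀ r ∈ σ, r.Prime) :
    ∀ (G : Type u) [Group G] [Finite G], Nat.card (KS G σ) ≤ piPart σ (Nat.card G) := by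
  classical
  induction σ using Finset.induction_on with
  | empty =>
    intro G _ _
    have : Subsingleton (KS G ∅) := by
      constructor
      rintro ⟨c, hc⟩ ⟨d, hd⟩
      apply Subtype.ext
      obtain ⟨g, rfl⟩ := ConjClasses.exists_rep c
      obtain ⟨g', rfl⟩ := ConjClasses.exists_rep d
      have h1 : orderOf g = 1 := by
        by_contra hne
        obtain ⟨q, hq, hqd⟩ := Nat.exists_prime_and_dvd hne
        exact absurd (hc g ConjClasses.mem_carrier_mk q hq hqd) (Finset.notMem_empty q)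
      have h2 : orderOf g' = 1 := by
        by_contra hne
        obtain ⟨q, hq, hqd⟩ := Nat.exists_prime_and_dvd hne
        exact absurd (hd g' ConjClasses.mem_carrier_mk q hq hqd) (Finset.notMem_empty q)
      rw [orderOf_eq_one_iff] at h1 h2
      subst h1
      subst h2
      rfl
    have h1 : Nat.card (KS G ∅) ≤ 1 := Finite.card_le_one_iff_subsingleton.mpr this
    simpa [piPart] using h1
  | insert r σ' hr ih =>
    intro G _ _
    have hrp : r.Prime := hσ r (Finset.mem_insert_self _ _)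
    haveI : Fact r.Prime := ⟨hrp⟩
    have hσ' : ∀ q ∈ σ', q.Prime := fun q hq => hσ q (Finset.mem_insert_of_mem hq)
    letI : Fintype (S3897.KP G r) := Fintype.ofFinite _
    have h1 := card_KS_insert_le (G := G) r σ'
    have h2 : ∑ c : S3897.KP G r, Nat.card (KS ↥(Subgroup.centralizer ({rep c.1} : Set G)) σ') ≤
        ∑ _c : S3897.KP G r, piPart σ' (Nat.card G) := by
      apply Finset.sum_le_sum
      intro c _
      refine (ih hσ' _).trans ?_
      exact piPart_le_of_dvd σ' hσ' Nat.card_pos.ne' (Subgroup.card_subgroup_dvd_card _)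
    rw [Finset.sum_const, Finset.card_univ, smul_eq_mul, ← Nat.card_eq_fintype_card] at h2
    have h3 := card_KP_le (G := G) r
    have h4 : piPart (insert r σ') (Nat.card G) =
        r ^ (Nat.card G).factorization r * piPart σ' (Nat.card G) := by
      unfold piPart
      rw [Finset.prod_insert hr]
    rw [h4]
    exact h1.trans (h2.trans (Nat.mul_le_mul_right _ h3))

/-- `k_π(G) ≤ k_r(G) · |G|_{π - r}` -/
theorem card_KS_le_mul {G : Type u} [Group G] [Finite G] (π : Finset ℕ) (hπ : ∀ r ∈ π, r.Prime)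
    (r : ℕ) (hr : r ∈ π) [Fact r.Prime] :
    Nat.card (KS G π) ≤ Nat.card (S3897.KP G r) * piPart (π.erase r) (Nat.card G) := by
  classical
  letI : Fintype (S3897.KP G r) := Fintype.ofFinite _
  have hσ' : ∀ q ∈ π.erase r, q.Prime := fun q hq => hπ q (Finset.mem_of_mem_erase hq)
  have h1 := card_KS_insert_le (G := G) r (π.erase r)
  rw [Finset.insert_erase hr] at h1
  have h2 : ∑ c : S3897.KP G r, Nat.card (KS ↥(Subgroup.centralizer ({rep c.1} : Set G)) (π.erase r)) ≤
      ∑ _c : S3897.KP G r, piPart (π.erase r) (Nat.card G) := by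
    apply Finset.sum_le_sum
    intro c _
    refine (card_KS_le (π.erase r) hσ' _).trans ?_
    exact piPart_le_of_dvd _ hσ' Nat.card_pos.ne' (Subgroup.card_subgroup_dvd_card _)
  rw [Finset.sum_const, Finset.card_univ, smul_eq_mul, ← Nat.card_eq_fintype_card] at h2
  exact h1.trans h2

/-- existence of a normal `r`-complement with the properties we need -/
theorem exists_complement {G : Type u} [Group G] [Finite G] (r : ℕ) [Fact r.Prime]
    (hNC : ∀ R : Sylow r G, Subgroup.normalizer ((R : Subgroup G) : Set G) ≤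
      Subgroup.centralizer ((R : Subgroup G) : Set G)) :
    ∃ K : Subgroup G, K.Normal ∧ (∀ a b : G, a * b * a⁻¹ * b⁻¹ ∈ K) ∧ ¬ r ∣ Nat.card K ∧
      ∀ g : G, (orderOf g).Coprime r → g ∈ K := by
  have R : Sylow r G := default
  have hR := hNC R
  refine ⟨(MonoidHom.transferSylow R hR).ker, inferInstance, ?_, ?_, ?_⟩
  · intro a b
    rw [MonoidHom.mem_ker, map_mul, map_mul, map_mul, map_inv, map_inv]
    have hc : ∀ x y : ↥(R : Subgroup G), x * y = y * x := by
      intro x y
      apply Subtype.ext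
      have hy : (y : G) ∈ Subgroup.centralizer ((R : Subgroup G) : Set G) :=
        hR (Subgroup.le_normalizer y.2)
      rw [Subgroup.mem_centralizer_iff] at hy
      exact hy x x.2
    rw [hc ((MonoidHom.transferSylow R hR) a) ((MonoidHom.transferSylow R hR) b)]
    group
  · exact MonoidHom.not_dvd_card_ker_transferSylow R hR
  · intro g hg
    rw [MonoidHom.mem_ker]
    set y := (MonoidHom.transferSylow R hR) g with hy
    have h1 : y ^ orderOf g = 1 := by
      rw [hy, ← map_pow, pow_orderOf_eq_one, map_one]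
    obtain ⟨k, hk⟩ := (IsPGroup.iff_orderOf.mp R.isPGroup') y
    have h2 : orderOf y ∣ orderOf g := orderOf_dvd_of_pow_eq_one h1
    have h3 : (orderOf y).Coprime (orderOf y) := by
      apply Nat.Coprime.coprime_dvd_left h2
      rw [hk]
      exact Nat.Coprime.pow_right k hg
    rw [Nat.coprime_self] at h3
    exact orderOf_eq_one_iff.mp h3

theorem result {G : Type*} [Group G] [Finite G] (π : Finset ℕ) (hπ : ∀ r ∈ π, r.Prime) (h2 : 2 ∉ π) (p : ℕ) (hp : p ∈ π)
    (hmin : ∀ r ∈ π, p ≤ r) (hk : (p + 1) * π.prod (fun r => r ^ (Nat.card G).factorization r) < 2 * p * Nat.card {c : ConjClasses G // ∀ x ∈ c.carrier, ∀ r : ℕ, r.Prime → r ∣ orderOf x → r ∈ π}) :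
    (∃ N : Subgroup G, N.Normal ∧ (∀ r : ℕ, r.Prime → r ∣ Nat.card ↥N → r ∉ π) ∧ ∀ r : ℕ, r.Prime → r ∣ N.index → r ∈ π) ∧ ∃ H : Subgroup G, Cfsg.IsPiHall (↑π : Set ℕ) H ∧ IsMulCommutative ↥H := by
  classical
  set T := π.prod (fun r => r ^ (Nat.card G).factorization r) with hT
  have hTpos : 0 < T := by
    rw [hT]
    apply Finset.prod_pos
    intro r hr
    exact pow_pos (hπ r hr).pos _
  have hpp : p.Prime := hπ p hp
  -- Step 1: Sylow normalizers centralize
  have hNC : ∀ r ∈ π, ∀ (_ : Fact r.Prime) (R : Sylow r G),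
      Subgroup.normalizer ((R : Subgroup G) : Set G) ≤
        Subgroup.centralizer ((R : Subgroup G) : Set G) := by
    intro r hr _ R n hn
    by_contra hnc
    have h1 := S3897.card_le_of_not_central R n hn hnc
    have h2 := card_KS_le_mul (G := G) π hπ r hr
    have h3 : T = r ^ (Nat.card G).factorization r * piPart (π.erase r) (Nat.card G) := by
      rw [hT, piPart, Finset.mul_prod_erase π (fun r => r ^ (Nat.card G).factorization r) hr]
    rw [Sylow.card_eq_multiplicity] at h1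
    set M := piPart (π.erase r) (Nat.card G)
    set kr := Nat.card (S3897.KP G r)
    set kπ := Nat.card (KS G π)
    have hk' : (p + 1) * T < 2 * p * kπ := hk
    have h4 : 2 * r * kπ ≤ (r + 1) * T := by
      calc 2 * r * kπ ≤ 2 * r * (kr * M) := Nat.mul_le_mul_left _ h2
        _ = (2 * r * kr) * M := by ring
        _ ≤ ((r + 1) * r ^ (Nat.card G).factorization r) * M := Nat.mul_le_mul_right _ h1
        _ = (r + 1) * T := by rw [h3]; ring
    have h5 : (p + 1) * r * T < p * (r + 1) * T := by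
      calc (p + 1) * r * T = r * ((p + 1) * T) := by ring
        _ < r * (2 * p * kπ) := Nat.mul_lt_mul_of_pos_left hk' (hπ r hr).pos
        _ = p * (2 * r * kπ) := by ring
        _ ≤ p * ((r + 1) * T) := Nat.mul_le_mul_left _ h4
        _ = p * (r + 1) * T := by ring
    have h6 : (p + 1) * r < p * (r + 1) := Nat.lt_of_mul_lt_mul_right h5
    have h7 := hmin r hr
    nlinarith
  -- Step 2: the normal complements
  have hex : ∀ r : {r // r ∈ π}, ∃ K : Subgroup G, K.Normal ∧ (∀ a b : G, a * b * a⁻¹ * b⁻¹ ∈ K) ∧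
      ¬ r.1 ∣ Nat.card K ∧ ∀ g : G, (orderOf g).Coprime r.1 → g ∈ K := by
    intro r
    haveI : Fact r.1.Prime := ⟨hπ r.1 r.2⟩
    exact exists_complement r.1 (fun R => hNC r.1 r.2 inferInstance R)
  choose Kr hKn hKc hKd hKm using hex
  set K : Subgroup G := ⨅ r : {r // r ∈ π}, Kr r with hK
  have hKnormal : K.Normal := Subgroup.normal_iInf_normal hKn
  have hKcard : ∀ q : ℕ, q.Prime → q ∣ Nat.card ↥K → q ∉ π := by
    intro q hq hqd hqπ
    have h1 : K ≤ Kr ⟨q, hqπ⟩ := iInf_le _ _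
    exact hKd ⟨q, hqπ⟩ (hqd.trans (Subgroup.card_dvd_of_le h1))
  have hKindex : ∀ q : ℕ, q.Prime → q ∣ K.index → q ∈ π := by
    intro q hq hqd
    by_contra hqπ
    haveI : Fact q.Prime := ⟨hq⟩
    have Q : Sylow q G := default
    have hQK : (Q : Subgroup G) ≤ K := by
      intro g hg
      rw [hK, Subgroup.mem_iInf]
      intro r
      apply hKm r
      obtain ⟨k, hk⟩ := (IsPGroup.iff_orderOf.mp Q.isPGroup') ⟨g, hg⟩
      rw [Subgroup.orderOf_mk] at hk
      rw [hk]
      apply Nat.Coprime.pow_left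
      rw [Nat.coprime_primes hq (hπ r.1 r.2)]
      intro h
      apply hqπ
      rw [h]; exact r.2
    have h1 : K.index ∣ (Q : Subgroup G).index := Subgroup.index_dvd_of_le hQK
    exact Q.not_dvd_index (hqd.trans h1)
  refine ⟨⟨K, hKnormal, hKcard, hKindex⟩, ?_⟩
  -- Step 3: the complement
  have hcop : Nat.Coprime (Nat.card ↥K) K.index := by
    by_contra hnc
    obtain ⟨q, hq, h1, h2⟩ := Nat.Prime.not_coprime_iff_dvd.mp hnc
    exact hKcard q hq h1 (hKindex q hq h2)
  obtain ⟨H, hH⟩ := Subgroup.exists_right_complement'_of_coprime hcop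
  refine ⟨H, ⟨?_, ?_⟩, ?_⟩
  · intro q hq hqd
    apply hKindex q hq
    rw [hH.symm.index_eq_card]
    exact hqd
  · intro q hq hqπ hqd
    apply hKcard q hq _ hqπ
    rw [← hH.index_eq_card]
    exact hqd
  · refine ⟨⟨fun a b => ?_⟩⟩
    apply Subtype.ext
    have h1 : (a : G) * b * (a : G)⁻¹ * (b : G)⁻¹ ∈ K := by
      rw [hK, Subgroup.mem_iInf]
      intro r
      exact hKc r _ _
    have h2 : (a : G) * b * (a : G)⁻¹ * (b : G)⁻¹ ∈ H :=
      H.mul_mem (H.mul_mem (H.mul_mem a.2 b.2) (H.inv_mem a.2)) (H.inv_mem b.2)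
    have hd := hH.disjoint
    rw [Subgroup.disjoint_def] at hd
    have h3 := hd h1 h2
    show (a : G) * b = b * a
    calc (a : G) * b = ((a : G) * b * (a : G)⁻¹ * (b : G)⁻¹) * (b * a) := by group
      _ = b * a := by rw [h3, one_mul]

end Cfsg.Agent.S3899
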