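import Mathlib
import Cfsg.Statements.S3895
import Cfsg.Agent.S3897
import Cfsg.Agent.S3899
import Cfsg.Agent.Lib.Helper7.ZStar3

set_option autoImplicit false
open Cfsg

namespace Cfsg.Agent.S3895

universe u

open Cfsg.Agent.S3899 (rep mk_rep rep_mem orderOf_conj_eq)

/-- `x` is the only `G`-conjugate of `x` in `P` -/
def WCl {G : Type*} [Group G] (P : Subgroup G) (x : G) : Prop :=
  x ∈ P ∧ ∀ g : G, g * x * g⁻¹ ∈ P → g * x * g⁻¹ = x

theorem WCl.central {G : Type*} [Group G] {P : Subgroup G} {x : G} (hx : WCl P x) {u : G}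
    (hu : u ∈ P) : u * x * u⁻¹ = x :=
  hx.2 u (P.mul_mem (P.mul_mem hu hx.1) (P.inv_mem hu))

/-- a `2`-subgroup is contained in a conjugate of the Sylow subgroup `P` -/
theorem exists_conj_le {G : Type*} [Group G] [Finite G] (P : Sylow 2 G) (R : Subgroup G)
    (hR : IsPGroup 2 R) : ∃ h : G, ∀ u ∈ R, h⁻¹ * u * h ∈ (P : Subgroup G) := by
  haveI : Fact (Nat.Prime 2) := ⟨Nat.prime_two⟩
  obtain ⟨Q, hQ⟩ := hR.exists_le_sylow
  obtain ⟨h, hh⟩ := MulAction.exists_smul_eq G P Q
  refine ⟨h, fun u hu => ?_⟩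
  have h1 : u ∈ ((h • P : Sylow 2 G) : Subgroup G) := by rw [hh]; exact hQ hu
  rw [Sylow.smul_def, Sylow.pointwise_smul_def, Subgroup.mem_pointwise_smul_iff_inv_smul_mem] at h1
  simpa [MulAut.smul_def, MulAut.conj_inv_apply] using h1

/-- in a subgroup `C`, a `2`-element is `C`-conjugate into a given Sylow `2`-subgroup of `C` -/
theorem exists_conj_mem_sylow {G : Type*} [Group G] [Finite G] (C : Subgroup G) (R : Sylow 2 ↥C)
    (y : G) (hyC : y ∈ C) (hy : ∃ k : ℕ, orderOf y = 2 ^ k) :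
    ∃ c ∈ C, ∃ hc : c * y * c⁻¹ ∈ C, (⟨c * y * c⁻¹, hc⟩ : ↥C) ∈ (R : Subgroup ↥C) := by
  haveI : Fact (Nat.Prime 2) := ⟨Nat.prime_two⟩
  obtain ⟨k, hk⟩ := hy
  have hpg : IsPGroup 2 ↥(Subgroup.zpowers (⟨y, hyC⟩ : ↥C)) := by
    apply IsPGroup.of_card (n := k)
    rw [Nat.card_zpowers, Subgroup.orderOf_mk, hk]
  obtain ⟨R', hR'⟩ := hpg.exists_le_sylow
  obtain ⟨c, hc⟩ := MulAction.exists_smul_eq ↥C R' R
  have h1 : (⟨y, hyC⟩ : ↥C) ∈ (R' : Subgroup ↥C) := hR' (Subgroup.mem_zpowers _)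
  have h2 : c * ⟨y, hyC⟩ * c⁻¹ ∈ ((c • R' : Sylow 2 ↥C) : Subgroup ↥C) := by
    rw [Sylow.smul_def, Sylow.pointwise_smul_def]
    exact Subgroup.smul_mem_pointwise_smul _ (MulAut.conj c) _ h1
  rw [hc] at h2
  refine ⟨c.1, c.2, C.mul_mem (C.mul_mem c.2 hyC) (C.inv_mem c.2), ?_⟩
  exact h2

/-- powers of a weakly closed element are weakly closed -/
theorem WCl.pow {G : Type*} [Group G] [Finite G] (P : Sylow 2 G) {x : G}
    (hx : WCl (P : Subgroup G) x) (j : ℕ) : WCl (P : Subgroup G) (x ^ j) := by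
  haveI : Fact (Nat.Prime 2) := ⟨Nat.prime_two⟩
  refine ⟨(P : Subgroup G).pow_mem hx.1 j, fun g hg => ?_⟩
  set w := g * x ^ j * g⁻¹ with hw
  set y := g * x * g⁻¹ with hy
  set C := Subgroup.centralizer ({w} : Set G) with hC
  have hyC : y ∈ C := by
    rw [hC, Subgroup.mem_centralizer_iff]
    intro u hu
    rw [Set.mem_singleton_iff] at hu
    subst hu
    have h1 : x ^ j * x = x * x ^ j := (pow_mul_comm' x j).symm ▸ rfl
    calc w * y = g * (x ^ j * x) * g⁻¹ := by rw [hw, hy]; group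
      _ = g * (x * x ^ j) * g⁻¹ := by rw [pow_mul_comm']
      _ = y * w := by rw [hw, hy]; group
  have hxC : x ∈ C := by
    rw [hC, Subgroup.mem_centralizer_iff]
    intro u hu
    rw [Set.mem_singleton_iff] at hu
    subst hu
    have h1 := hx.central hg
    calc w * x = (w * x * w⁻¹) * w := by group
      _ = x * w := by rw [h1]
  -- a Sylow 2-subgroup of C containing P ⊓ C
  have hD : IsPGroup 2 ↥(((P : Subgroup G) ⊓ C).subgroupOf C) := by
    have h1 : IsPGroup 2 ↥((P : Subgroup G) ⊓ C) := P.isPGroup'.to_le inf_le_left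
    exact h1.comap_subtype
  obtain ⟨R, hR⟩ := hD.exists_le_sylow
  have hyord : ∃ k : ℕ, orderOf y = 2 ^ k := by
    obtain ⟨k, hk⟩ := (IsPGroup.iff_orderOf.mp P.isPGroup') ⟨x, hx.1⟩
    refine ⟨k, ?_⟩
    rw [hy, orderOf_conj_eq, ← hk, Subgroup.orderOf_mk]
  obtain ⟨c, hcC, hc1, hc2⟩ := exists_conj_mem_sylow C R y hyC hyord
  -- R inside a conjugate of P
  have hRG : IsPGroup 2 ↥((R : Subgroup ↥C).map C.subtype) := R.isPGroup'.map _
  obtain ⟨h, hh⟩ := exists_conj_le P _ hRG
  have h1 : h⁻¹ * (c * y * c⁻¹) * h = x := by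
    have h2 : h⁻¹ * (c * y * c⁻¹) * h ∈ (P : Subgroup G) :=
      hh _ ⟨⟨c * y * c⁻¹, hc1⟩, hc2, rfl⟩
    have h3 : h⁻¹ * (c * y * c⁻¹) * h = (h⁻¹ * c * g) * x * (h⁻¹ * c * g)⁻¹ := by
      rw [hy]; group
    rw [h3] at h2 ⊢
    exact hx.2 _ h2
  have h2 : h⁻¹ * x * h = x := by
    have h3 : x ∈ (R : Subgroup ↥C).map C.subtype := by
      refine ⟨⟨x, hxC⟩, hR ?_, rfl⟩
      rw [Subgroup.mem_subgroupOf]
      exact ⟨hx.1, hxC⟩
    have h4 := hh x h3
    have h5 : h⁻¹ * x * h = h⁻¹ * x * (h⁻¹)⁻¹ := by rw [inv_inv]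
    rw [h5] at h4 ⊢
    exact hx.2 _ h4
  have h3 : c * y * c⁻¹ = x := by
    calc c * y * c⁻¹ = h * (h⁻¹ * (c * y * c⁻¹) * h) * h⁻¹ := by group
      _ = h * x * h⁻¹ := by rw [h1]
      _ = h * (h⁻¹ * x * h) * h⁻¹ := by rw [h2]
      _ = x := by group
  have h4 : (c * g) * x * (c * g)⁻¹ = x := by
    calc (c * g) * x * (c * g)⁻¹ = c * y * c⁻¹ := by rw [hy]; group
      _ = x := h3
  have h5 : (c * g) * x ^ j * (c * g)⁻¹ = x ^ j := by
    rw [← conj_pow, h4]
  have h6 : c * w * c⁻¹ = w := by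
    rw [hC, Subgroup.mem_centralizer_iff] at hcC
    have := hcC w (Set.mem_singleton w)
    calc c * w * c⁻¹ = (w * c) * c⁻¹ := by rw [this]
      _ = w := by group
  calc w = c * w * c⁻¹ := h6.symm
    _ = (c * g) * x ^ j * (c * g)⁻¹ := by rw [hw]; group
    _ = x ^ j := h5

/-- a weakly closed involution is isolated -/
theorem WCl.isIsolated {G : Type*} [Group G] [Finite G] (P : Sylow 2 G) {z : G}
    (hz : WCl (P : Subgroup G) z) (hz2 : orderOf z = 2) : Cfsg.IsIsolated z := by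
  haveI : Fact (Nat.Prime 2) := ⟨Nat.prime_two⟩
  intro g hcomm
  set w := g * z * g⁻¹ with hw
  set C := Subgroup.centralizer ({z} : Set G) with hC
  have hPC : (P : Subgroup G) ≤ C := by
    intro u hu
    rw [hC, Subgroup.mem_centralizer_iff]
    intro v hv
    rw [Set.mem_singleton_iff] at hv
    subst hv
    have h1 := hz.central hu
    calc v * u = (u * v * u⁻¹) * u := by rw [h1]
      _ = u * v := by group
  have hwC : w ∈ C := by
    rw [hC, Subgroup.mem_centralizer_iff]
    intro v hv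
    rw [Set.mem_singleton_iff] at hv
    subst hv
    exact hcomm.eq
  have hword : ∃ k : ℕ, orderOf w = 2 ^ k := ⟨1, by rw [hw, orderOf_conj_eq, hz2, pow_one]⟩
  obtain ⟨c, hcC, hc1, hc2⟩ := exists_conj_mem_sylow C (P.subtype hPC) w hwC hword
  have h1 : c * w * c⁻¹ ∈ (P : Subgroup G) := by
    have := hc2
    rw [Sylow.coe_subtype, Subgroup.mem_subgroupOf] at this
    exact this
  have h2 : c * w * c⁻¹ = z := by
    have h3 : c * w * c⁻¹ = (c * g) * z * (c * g)⁻¹ := by rw [hw]; group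
    rw [h3] at h1 ⊢
    exact hz.2 _ h1
  rw [hC, Subgroup.mem_centralizer_iff] at hcC
  have h3 := hcC z (Set.mem_singleton z)
  calc w = c⁻¹ * (c * w * c⁻¹) * c := by group
    _ = c⁻¹ * z * c := by rw [h2]
    _ = c⁻¹ * (z * c) := by group
    _ = c⁻¹ * (c * z) := by rw [h3]
    _ = z := by group

open Cfsg.Agent.S3897 (KP)

theorem two_pow_of_dvd {a k : ℕ} (h : a ∣ 2 ^ k) : ∃ j : ℕ, a = 2 ^ j := by
  obtain ⟨j, -, hj⟩ := (Nat.dvd_prime_pow Nat.prime_two).mp h
  exact ⟨j, hj⟩

/-- a Sylow 2-subgroup of the preimage of `⟨xN⟩` through `x` -/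
theorem exists_Q {G : Type*} [Group G] [Finite G] (N : Subgroup G) [N.Normal] (x : G)
    (hx : ∃ k : ℕ, orderOf x = 2 ^ k) :
    ∃ Q : Subgroup G, x ∈ Q ∧ IsPGroup 2 Q ∧ ∀ g : G, (∃ k : ℕ, orderOf g = 2 ^ k) →
      (g : G ⧸ N) = (x : G ⧸ N) →
      ∃ m : G, m * g * m⁻¹ ∈ Q ∧ ((m * g * m⁻¹ : G) : G ⧸ N) = (x : G ⧸ N) := by
  haveI : Fact (Nat.Prime 2) := ⟨Nat.prime_two⟩
  set M : Subgroup G := N ⊔ Subgroup.zpowers x with hM
  have hxM : x ∈ M := (le_sup_right : Subgroup.zpowers x ≤ M) (Subgroup.mem_zpowers x)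
  obtain ⟨k, hk⟩ := hx
  have hpg : IsPGroup 2 ↥(Subgroup.zpowers (⟨x, hxM⟩ : ↥M)) := by
    apply IsPGroup.of_card (n := k)
    rw [Nat.card_zpowers, Subgroup.orderOf_mk, hk]
  obtain ⟨R, hR⟩ := hpg.exists_le_sylow
  refine ⟨(R : Subgroup ↥M).map M.subtype, ⟨⟨x, hxM⟩, hR (Subgroup.mem_zpowers _), rfl⟩,
    R.isPGroup'.map _, ?_⟩
  intro g hg hgx
  have hgN : x⁻¹ * g ∈ N := by
    rw [← QuotientGroup.eq]; exact hgx.symm
  have hgM : g ∈ M := by
    have : g = x * (x⁻¹ * g) := by group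
    rw [this]
    exact M.mul_mem hxM ((le_sup_left : N ≤ M) hgN)
  obtain ⟨m, hmM, hm1, hm2⟩ := exists_conj_mem_sylow M R g hgM hg
  refine ⟨m, ⟨⟨m * g * m⁻¹, hm1⟩, hm2, rfl⟩, ?_⟩
  have hmM' : m ∈ ((N ⊔ Subgroup.zpowers x : Subgroup G) : Set G) := hmM
  rw [Subgroup.normal_mul] at hmM'
  obtain ⟨a, ha, b, hb, hab⟩ := Set.mem_mul.mp hmM'
  obtain ⟨i, hi⟩ := Subgroup.mem_zpowers_iff.mp hb
  have h1 : ((m : G) : G ⧸ N) = (x : G ⧸ N) ^ i := by
    rw [← hab, QuotientGroup.mk_mul, (QuotientGroup.eq_one_iff a).mpr ha, one_mul, ← hi,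
      QuotientGroup.mk_zpow]
  rw [QuotientGroup.mk_mul, QuotientGroup.mk_mul, QuotientGroup.mk_inv, h1, hgx]
  have h2 : Commute ((x : G ⧸ N) ^ i) (x : G ⧸ N) := (Commute.refl _).zpow_left i
  rw [h2.eq, mul_assoc, mul_inv_cancel, mul_one]

/-- passing to a quotient: `k_2(G) ≤ k_2(G/N) · |N|_2` -/
theorem card_KP_le_quot {G : Type u} [Group G] [Finite G] (N : Subgroup G) [N.Normal] :
    Nat.card (KP G 2) ≤ Nat.card (KP (G ⧸ N) 2) * 2 ^ (Nat.card N).factorization 2 := by
  classical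
  haveI : Fact (Nat.Prime 2) := ⟨Nat.prime_two⟩
  -- base points
  have hxd : ∀ d : KP (G ⧸ N) 2, ∃ x : G, (∃ k : ℕ, orderOf x = 2 ^ k) ∧
      ((∃ y : G, (∃ k : ℕ, orderOf y = 2 ^ k) ∧ ConjClasses.mk (y : G ⧸ N) = d.1) →
        ConjClasses.mk (x : G ⧸ N) = d.1) := by
    intro d
    by_cases h : ∃ y : G, (∃ k : ℕ, orderOf y = 2 ^ k) ∧ ConjClasses.mk (y : G ⧸ N) = d.1
    · obtain ⟨y, hy1, hy2⟩ := h
      exact ⟨y, hy1, fun _ => hy2⟩
    · exact ⟨1, ⟨0, by simp⟩, fun h' => absurd h' h⟩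
  choose xd hxd1 hxd2 using hxd
  choose Qd hQ1 hQ2 hQ3 using fun d => exists_Q N (xd d) (hxd1 d)
  -- the injection
  have hΦ : ∀ c : KP G 2, ∃ (d : KP (G ⧸ N) 2) (n : ↥(Qd d ⊓ N)),
      ConjClasses.mk (xd d * (n : G)) = c.1 := by
    intro c
    set g := rep c.1 with hg
    obtain ⟨k, hk⟩ := c.2 g (rep_mem c.1)
    have hd : ∀ y ∈ (ConjClasses.mk (g : G ⧸ N)).carrier, ∃ k : ℕ, orderOf y = 2 ^ k := by
      intro y hy
      rw [ConjClasses.mem_carrier_iff_mk_eq, ConjClasses.mk_eq_mk_iff_isConj, isConj_iff] at hy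
      obtain ⟨t, ht⟩ := hy
      have h1 : orderOf y = orderOf (g : G ⧸ N) := by
        rw [← orderOf_conj_eq t y, ht]
      have h2 : orderOf (g : G ⧸ N) ∣ orderOf g := orderOf_map_dvd (QuotientGroup.mk' N) g
      rw [hk] at h2
      rw [h1]
      exact two_pow_of_dvd h2
    set d : KP (G ⧸ N) 2 := ⟨ConjClasses.mk (g : G ⧸ N), hd⟩ with hdd
    have hx := hxd2 d ⟨g, ⟨k, hk⟩, rfl⟩
    have hconj : ConjClasses.mk (xd d : G ⧸ N) = ConjClasses.mk (g : G ⧸ N) := hx
    rw [ConjClasses.mk_eq_mk_iff_isConj, isConj_comm, isConj_iff] at hconj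
    obtain ⟨hbar, hh⟩ := hconj
    obtain ⟨h, rfl⟩ := QuotientGroup.mk_surjective hbar
    have hg1 : ((h * g * h⁻¹ : G) : G ⧸ N) = (xd d : G ⧸ N) := by
      rw [QuotientGroup.mk_mul, QuotientGroup.mk_mul, QuotientGroup.mk_inv]; exact hh
    have hg1ord : ∃ k : ℕ, orderOf (h * g * h⁻¹) = 2 ^ k := ⟨k, by rw [orderOf_conj_eq, hk]⟩
    obtain ⟨m, hm1, hm2⟩ := hQ3 d (h * g * h⁻¹) hg1ord hg1
    have hn : (xd d)⁻¹ * (m * (h * g * h⁻¹) * m⁻¹) ∈ Qd d ⊓ N := by
      refine Subgroup.mem_inf.mpr ⟨(Qd d).mul_mem ((Qd d).inv_mem (hQ1 d)) hm1, ?_⟩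
      rw [← QuotientGroup.eq]; exact hm2.symm
    refine ⟨d, ⟨_, hn⟩, ?_⟩
    simp only
    rw [← mk_rep c.1, ← hg, ConjClasses.mk_eq_mk_iff_isConj, isConj_comm, isConj_iff]
    refine ⟨m * h, ?_⟩
    group
  choose Φd Φn hΦ1 using hΦ
  let Φ : KP G 2 → (Σ d : KP (G ⧸ N) 2, ↥(Qd d ⊓ N)) := fun c => ⟨Φd c, Φn c⟩
  have hinj : Function.Injective Φ := by
    intro c c' hcc
    have h1 := congrArg (fun s : (Σ d : KP (G ⧸ N) 2, ↥(Qd d ⊓ N)) =>
      ConjClasses.mk (xd s.1 * ((s.2 : ↥(Qd s.1 ⊓ N)) : G))) hcc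
    simp only [Φ] at h1
    rw [hΦ1 c, hΦ1 c'] at h1
    exact Subtype.ext h1
  have hcard := Nat.card_le_card_of_injective Φ hinj
  letI : Fintype (KP (G ⧸ N) 2) := Fintype.ofFinite _
  rw [Nat.card_sigma] at hcard
  have hbound : ∀ d : KP (G ⧸ N) 2, Nat.card ↥(Qd d ⊓ N) ≤ 2 ^ (Nat.card N).factorization 2 := by
    intro d
    have h1 : IsPGroup 2 ↥(Qd d ⊓ N) := (hQ2 d).to_le inf_le_left
    obtain ⟨j, hj⟩ := IsPGroup.iff_card.mp h1
    have h2 : Nat.card ↥(Qd d ⊓ N) ∣ Nat.card N := Subgroup.card_dvd_of_le inf_le_right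
    rw [hj] at h2 ⊢
    have h3 := (Nat.Prime.pow_dvd_iff_le_factorization Nat.prime_two Nat.card_pos.ne').mp h2
    exact Nat.pow_le_pow_right (by norm_num) h3
  calc Nat.card (KP G 2) ≤ ∑ d : KP (G ⧸ N) 2, Nat.card ↥(Qd d ⊓ N) := hcard
    _ ≤ ∑ _d : KP (G ⧸ N) 2, 2 ^ (Nat.card N).factorization 2 :=
        Finset.sum_le_sum (fun d _ => hbound d)
    _ = Nat.card (KP (G ⧸ N) 2) * 2 ^ (Nat.card N).factorization 2 := by
        rw [Finset.sum_const, Finset.card_univ, smul_eq_mul, ← Nat.card_eq_fintype_card]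

/-- if only the identity is weakly closed then `2 k_2(G) ≤ |P| + 1` -/
theorem two_mul_card_le {G : Type u} [Group G] [Finite G] (P : Sylow 2 G)
    (h : ∀ x : G, WCl (P : Subgroup G) x → x = 1) :
    2 * Nat.card (KP G 2) ≤ Nat.card ↥(P : Subgroup G) + 1 := by
  classical
  haveI : Fact (Nat.Prime 2) := ⟨Nat.prime_two⟩
  choose s hs using Cfsg.Agent.S3897.exists_rep (G := G) (p := 2) P
  have hsinj : Function.Injective s := by
    intro c d hcd
    apply Subtype.ext
    rw [← hs c, ← hs d, hcd]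
  have ht : ∀ c : KP G 2, ∃ y : ↥(P : Subgroup G), ((s c : ↥(P : Subgroup G)) : G) ≠ 1 →
      (ConjClasses.mk (y : G) = c.1 ∧ (y : G) ≠ (s c : G)) := by
    intro c
    by_cases hc : ((s c : ↥(P : Subgroup G)) : G) = 1
    · exact ⟨1, fun h' => absurd hc h'⟩
    · have h1 : ¬ WCl (P : Subgroup G) (s c : G) := fun hw => hc (h _ hw)
      unfold WCl at h1
      push Not at h1
      obtain ⟨g, hg1, hg2⟩ := h1 (s c).2
      refine ⟨⟨g * (s c : G) * g⁻¹, hg1⟩, fun _ => ⟨?_, hg2⟩⟩
      rw [← hs c, ConjClasses.mk_eq_mk_iff_isConj, isConj_comm, isConj_iff]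
      exact ⟨g, rfl⟩
  choose t ht using ht
  let Ψ : KP G 2 ⊕ KP G 2 → ↥(P : Subgroup G) ⊕ Unit := fun z =>
    match z with
    | Sum.inl c => Sum.inl (s c)
    | Sum.inr c => if ((s c : ↥(P : Subgroup G)) : G) = 1 then Sum.inr () else Sum.inl (t c)
  have hΨ : Function.Injective Ψ := by
    rintro (c | c) (d | d) hcd
    · simp only [Ψ, Sum.inl.injEq] at hcd
      rw [hsinj hcd]
    · simp only [Ψ] at hcd
      split_ifs at hcd with h1
      simp only [Sum.inl.injEq] at hcd
      exfalso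
      have h2 := ht d h1
      have h3 : c = d := by
        apply Subtype.ext
        rw [← hs c, hcd]; exact h2.1
      apply h2.2
      rw [← hcd, h3]
    · simp only [Ψ] at hcd
      split_ifs at hcd with h1
      simp only [Sum.inl.injEq] at hcd
      exfalso
      have h2 := ht c h1
      have h3 : d = c := by
        apply Subtype.ext
        rw [← hs d, ← hcd]; exact h2.1
      apply h2.2
      rw [hcd, h3]
    · simp only [Ψ] at hcd
      split_ifs at hcd with h1 h2 h2
      · have : s c = s d := Subtype.ext (h1.trans h2.symm)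
        rw [hsinj this]
      · simp only [Sum.inl.injEq] at hcd
        have h3 := (ht c h1).1
        have h4 := (ht d h2).1
        rw [hcd] at h3
        have : c = d := Subtype.ext (h3.symm.trans h4)
        rw [this]
  have hcard := Nat.card_le_card_of_injective Ψ hΨ
  have hunit : Nat.card Unit = 1 := Nat.card_unique
  rw [Nat.card_sum, Nat.card_sum, hunit] at hcard
  omega

/-- Sylow orders in a quotient -/
theorem sylow_card_quot {G : Type u} [Group G] [Finite G] (N : Subgroup G) [N.Normal]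
    (P : Sylow 2 G) (Pbar : Sylow 2 (G ⧸ N)) :
    Nat.card ↥(P : Subgroup G) =
      Nat.card ↥(Pbar : Subgroup (G ⧸ N)) * 2 ^ (Nat.card N).factorization 2 := by
  haveI : Fact (Nat.Prime 2) := ⟨Nat.prime_two⟩
  rw [Sylow.card_eq_multiplicity, Sylow.card_eq_multiplicity, ← pow_add]
  congr 1
  rw [Subgroup.card_eq_card_quotient_mul_card_subgroup N,
    Nat.factorization_mul Nat.card_pos.ne' Nat.card_pos.ne']
  rfl

/-- a normal subgroup `M` of order `2m` (`m` odd) containing a central involution has a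
complement of order `m` which is normal in `G` -/
theorem exists_odd_normal {G : Type u} [Group G] [Finite G] (z : G) (hz2 : orderOf z = 2)
    (hzc : ∀ g : G, g * z = z * g) (M : Subgroup G) [hMn : M.Normal] (hzM : z ∈ M) (m : ℕ)
    (hm : Odd m) (hM : Nat.card M = 2 * m) :
    ∃ M0 : Subgroup G, M0.Normal ∧ Nat.card M0 = m := by
  haveI : Fact (Nat.Prime 2) := ⟨Nat.prime_two⟩
  set N : Subgroup G := Subgroup.zpowers z with hN
  have hNM : N ≤ M := by rw [hN, Subgroup.zpowers_le]; exact hzM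
  have hNcard : Nat.card N = 2 := by rw [hN, Nat.card_zpowers, hz2]
  have hfac : (Nat.card M).factorization 2 = 1 := by
    rw [hM, Nat.factorization_mul (by norm_num) (Nat.pos_of_ne_zero (fun h => by simp [h] at hm)).ne',
      Finsupp.add_apply, Nat.Prime.factorization_self Nat.prime_two,
      Nat.factorization_eq_zero_of_not_dvd (by rcases hm with ⟨k, rfl⟩; omega)]
  have hScard : Nat.card ↥(N.subgroupOf M) = 2 ^ (Nat.card M).factorization 2 := by
    rw [hfac, pow_one, Nat.card_congr (Subgroup.subgroupOfEquivOfLe hNM).toEquiv, hNcard]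
  set S : Sylow 2 ↥M := Sylow.ofCard (N.subgroupOf M) hScard with hS
  have hNC : Subgroup.normalizer ((S : Subgroup ↥M) : Set ↥M) ≤
      Subgroup.centralizer ((S : Subgroup ↥M) : Set ↥M) := by
    intro g _
    rw [Subgroup.mem_centralizer_iff]
    intro u hu
    have hu' : (u : G) ∈ N := by
      have : u ∈ N.subgroupOf M := hu
      exact Subgroup.mem_subgroupOf.mp this
    rw [hN] at hu'
    obtain ⟨i, hi⟩ := Subgroup.mem_zpowers_iff.mp hu'
    apply Subtype.ext
    show (u : G) * g = g * u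
    rw [← hi]
    have hc : Commute z (g : G) := (hzc g).symm
    exact (hc.zpow_left i).eq
  set M0' := (MonoidHom.transferSylow S hNC).ker with hM0'
  have hcomp : Subgroup.IsComplement' M0' (S : Subgroup ↥M) :=
    MonoidHom.ker_transferSylow_isComplement' S hNC
  have hSc : Nat.card ↥(S : Subgroup ↥M) = 2 := by
    rw [Sylow.card_eq_multiplicity, hfac, pow_one]
  have hM0card : Nat.card M0' = m := by
    have h1 := hcomp.card_mul_card
    rw [hSc, hM] at h1
    omega
  have hM0idx : M0'.index = 2 := by rw [hcomp.symm.index_eq_card, hSc]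
  -- characterisation by odd order
  have hchar : ∀ y : ↥M, y ∈ M0' ↔ y ^ m = 1 := by
    intro y
    constructor
    · intro hy
      have h1 : (⟨y, hy⟩ : M0') ^ Nat.card M0' = 1 := pow_card_eq_one'
      rw [hM0card] at h1
      have := congrArg Subtype.val h1
      simpa using this
    · intro hy
      rw [← QuotientGroup.eq_one_iff (N := M0')]
      have h1 : ((y : ↥M) : ↥M ⧸ M0') ^ m = 1 := by
        rw [← QuotientGroup.mk_pow, hy]; rfl
      have h2 : ((y : ↥M) : ↥M ⧸ M0') ^ 2 = 1 := by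
        have hq : Nat.card (↥M ⧸ M0') = 2 := by rw [← Subgroup.index_eq_card, hM0idx]
        have h5 : ((y : ↥M) : ↥M ⧸ M0') ^ Nat.card (↥M ⧸ M0') = 1 := pow_card_eq_one'
        rwa [hq] at h5
      have h3 := pow_gcd_eq_one.mpr ⟨h1, h2⟩
      have h4 : Nat.gcd m 2 = 1 := by
        rw [Nat.gcd_comm]; exact (Nat.coprime_two_left.mpr hm)
      rw [h4, pow_one] at h3
      exact h3
  refine ⟨M0'.map M.subtype, ⟨fun y hy g => ?_⟩, ?_⟩
  · obtain ⟨y', hy', rfl⟩ := hy
    have hgM : g * (y' : G) * g⁻¹ ∈ M := hMn.conj_mem _ y'.2 g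
    refine ⟨⟨g * (y' : G) * g⁻¹, hgM⟩, ?_, rfl⟩
    have hy'' : y' ∈ M0' := hy'
    show (⟨g * (y' : G) * g⁻¹, hgM⟩ : ↥M) ∈ M0'
    rw [hchar] at hy'' ⊢
    apply Subtype.ext
    have h1 : ((y' : ↥M) : G) ^ m = 1 := by
      have := congrArg Subtype.val hy''
      simpa using this
    show (g * (y' : G) * g⁻¹) ^ m = 1
    rw [conj_pow, h1]; group
  · rw [Subgroup.card_map_of_injective M.subtype_injective, hM0card]

theorem main_aux : ∀ n : ℕ, ∀ (G : Type u) [Group G] [Finite G], Nat.card G = n →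
    ∀ P : Sylow 2 G, Nat.card ↥(P : Subgroup G) < 2 * Nat.card (KP G 2) →
    ∃ K : Subgroup G, K.Normal ∧ K.index = Nat.card ↥(P : Subgroup G) := by
  intro n
  induction n using Nat.strong_induction_on with
  | _ n ih =>
    intro G _ _ hn P hk
    haveI : Fact (Nat.Prime 2) := ⟨Nat.prime_two⟩
    by_cases hW : ∀ x : G, WCl (P : Subgroup G) x → x = 1
    · -- only the identity is weakly closed
      have h1 := two_mul_card_le P hW
      obtain ⟨j, hj⟩ := IsPGroup.iff_card.mp P.isPGroup'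
      have h2 : Nat.card ↥(P : Subgroup G) = 1 := by
        rcases Nat.eq_zero_or_pos j with h0 | hpos
        · rw [hj, h0, pow_zero]
        · exfalso
          have : 2 ∣ Nat.card ↥(P : Subgroup G) := by
            rw [hj]; exact dvd_pow_self 2 hpos.ne'
          omega
      exact ⟨⊤, inferInstance, by rw [Subgroup.index_top, h2]⟩
    · push Not at hW
      obtain ⟨x, hxW, hx1⟩ := hW
      -- the involution
      obtain ⟨k, hk'⟩ := (IsPGroup.iff_orderOf.mp P.isPGroup') ⟨x, hxW.1⟩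
      rw [Subgroup.orderOf_mk] at hk'
      have hkpos : 0 < k := by
        rcases Nat.eq_zero_or_pos k with h0 | hpos
        · exfalso; apply hx1
          rw [h0, pow_zero, orderOf_eq_one_iff] at hk'
          exact hk'
        · exact hpos
      set z := x ^ 2 ^ (k - 1) with hz
      have hzW : WCl (P : Subgroup G) z := hxW.pow P _
      have hz2 : orderOf z = 2 := by
        apply orderOf_eq_prime
        · rw [hz, ← pow_mul, ← pow_succ, Nat.sub_add_cancel hkpos, ← hk', pow_orderOf_eq_one]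
        · rw [hz]
          apply pow_ne_one_of_lt_orderOf (by positivity)
          rw [hk']
          exact Nat.pow_lt_pow_right (by norm_num) (by omega)
      have hiso := hzW.isIsolated P hz2
      obtain ⟨N0, hN0n, hN0odd, hN0⟩ := Cfsg.Agent.Helper7.ZStar.zstar_exists z hz2 hiso
      by_cases hN0bot : N0 = ⊥
      · -- z is central
        have hzc : ∀ g : G, g * z = z * g := by
          intro g
          have h1 := hN0 g
          rw [hN0bot, Subgroup.mem_bot] at h1
          calc g * z = (z * g * z⁻¹ * g⁻¹)⁻¹ * (z * g) := by group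
            _ = z * g := by rw [h1, inv_one, one_mul]
        set N : Subgroup G := Subgroup.zpowers z with hN
        haveI hNn : N.Normal := by
          refine ⟨fun y hy g => ?_⟩
          rw [hN] at hy ⊢
          obtain ⟨i, rfl⟩ := Subgroup.mem_zpowers_iff.mp hy
          have hc : Commute g z := hzc g
          have : g * z ^ i * g⁻¹ = z ^ i := by
            rw [(hc.zpow_right i).eq]; group
          rw [this]
          exact Subgroup.zpow_mem_zpowers z i
        have hNcard : Nat.card N = 2 := by rw [hN, Nat.card_zpowers, hz2]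
        have hfacN : (Nat.card N).factorization 2 = 1 := by
          rw [hNcard]; exact Nat.Prime.factorization_self Nat.prime_two
        have hquot : Nat.card (G ⧸ N) * 2 = n := by
          rw [← hn, ← hNcard]; exact (Subgroup.card_eq_card_quotient_mul_card_subgroup N).symm
        have hlt : Nat.card (G ⧸ N) < n := by
          have : 0 < Nat.card (G ⧸ N) := Nat.card_pos
          omega
        have Pbar : Sylow 2 (G ⧸ N) := default
        have hPP := sylow_card_quot N P Pbar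
        rw [hfacN, pow_one] at hPP
        have hkq := card_KP_le_quot (G := G) N
        rw [hfacN, pow_one] at hkq
        have hkbar : Nat.card ↥(Pbar : Subgroup (G ⧸ N)) < 2 * Nat.card (KP (G ⧸ N) 2) := by
          omega
        obtain ⟨Kbar, hKbn, hKbi⟩ := ih _ hlt (G ⧸ N) rfl Pbar hkbar
        -- the preimage
        set M : Subgroup G := Kbar.comap (QuotientGroup.mk' N) with hM
        haveI hMn : M.Normal := hKbn.comap _
        have hMi : M.index = Nat.card ↥(Pbar : Subgroup (G ⧸ N)) := by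
          rw [hM, Subgroup.index_comap_of_surjective _ (QuotientGroup.mk'_surjective N), hKbi]
        have hzM : z ∈ M := by
          rw [hM, Subgroup.mem_comap]
          have : (QuotientGroup.mk' N) z = 1 := by
            rw [QuotientGroup.mk'_apply, QuotientGroup.eq_one_iff]
            exact Subgroup.mem_zpowers z
          rw [this]; exact Kbar.one_mem
        -- |M| = 2 m with m = n / |P| odd
        have hMcard : Nat.card M * M.index = n := by rw [← hn]; exact Subgroup.card_mul_index M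
        have hPv : Nat.card ↥(P : Subgroup G) = 2 ^ (Nat.card G).factorization 2 :=
          Sylow.card_eq_multiplicity P
        have hPdvd : Nat.card ↥(P : Subgroup G) ∣ n := by
          rw [← hn]; exact Subgroup.card_subgroup_dvd_card _
        obtain ⟨m, hm⟩ := hPdvd
        have hmodd : Odd m := by
          rw [← Nat.not_even_iff_odd]
          intro heven
          obtain ⟨m', hm'⟩ := heven
          have : 2 ^ ((Nat.card G).factorization 2 + 1) ∣ Nat.card G := by
            refine ⟨m', ?_⟩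
            calc Nat.card G = n := hn
              _ = Nat.card ↥(P : Subgroup G) * m := hm
              _ = 2 ^ (Nat.card G).factorization 2 * (m' + m') := by rw [hPv, hm']
              _ = 2 ^ ((Nat.card G).factorization 2 + 1) * m' := by rw [pow_succ]; ring
          exact Nat.pow_succ_factorization_not_dvd Nat.card_pos.ne' Nat.prime_two this
        have hMcard2 : Nat.card M = 2 * m := by
          have hPpos : 0 < Nat.card ↥(Pbar : Subgroup (G ⧸ N)) := Nat.card_pos
          rw [hMi] at hMcard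
          have : Nat.card M * Nat.card ↥(Pbar : Subgroup (G ⧸ N)) =
              (2 * m) * Nat.card ↥(Pbar : Subgroup (G ⧸ N)) := by
            rw [hMcard, hm, hPP]; ring
          exact Nat.eq_of_mul_eq_mul_right hPpos this
        obtain ⟨M0, hM0n, hM0c⟩ := exists_odd_normal z hz2 hzc M hzM m hmodd hMcard2
        refine ⟨M0, hM0n, ?_⟩
        have h1 := Subgroup.card_mul_index M0
        rw [hM0c, hn, hm] at h1
        have hmpos : 0 < m := Nat.pos_of_ne_zero (fun h => by simp [h] at hmodd)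
        rw [mul_comm] at h1
        exact Nat.eq_of_mul_eq_mul_right hmpos h1
      · -- quotient by the odd normal subgroup N0
        haveI := hN0n
        have hfacN : (Nat.card N0).factorization 2 = 0 := by
          apply Nat.factorization_eq_zero_of_not_dvd
          rcases hN0odd with ⟨j, hj⟩
          omega
        have hquot : Nat.card (G ⧸ N0) * Nat.card N0 = n := by
          rw [← hn]; exact (Subgroup.card_eq_card_quotient_mul_card_subgroup N0).symm
        have hN0card : 1 < Nat.card N0 := by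
          rw [Subgroup.one_lt_card_iff_ne_bot]; exact hN0bot
        have hlt : Nat.card (G ⧸ N0) < n := by
          have : 0 < Nat.card (G ⧸ N0) := Nat.card_pos
          nlinarith
        have Pbar : Sylow 2 (G ⧸ N0) := default
        have hPP := sylow_card_quot N0 P Pbar
        rw [hfacN, pow_zero, mul_one] at hPP
        have hkq := card_KP_le_quot (G := G) N0
        rw [hfacN, pow_zero, mul_one] at hkq
        have hkbar : Nat.card ↥(Pbar : Subgroup (G ⧸ N0)) < 2 * Nat.card (KP (G ⧸ N0) 2) := by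
          omega
        obtain ⟨Kbar, hKbn, hKbi⟩ := ih _ hlt (G ⧸ N0) rfl Pbar hkbar
        refine ⟨Kbar.comap (QuotientGroup.mk' N0), hKbn.comap _, ?_⟩
        rw [Subgroup.index_comap_of_surjective _ (QuotientGroup.mk'_surjective N0), hKbi, hPP]

/-- conjugate elements of `P` are `P`-conjugate when there is a normal complement -/
theorem conj_in_P {G : Type u} [Group G] [Finite G] (P : Sylow 2 G) (K : Subgroup G)
    [hKn : K.Normal] (hK : Subgroup.IsComplement' K (P : Subgroup G)) (x : G)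
    (hx : x ∈ (P : Subgroup G)) (g : G) (hy : g * x * g⁻¹ ∈ (P : Subgroup G)) :
    ∃ u ∈ (P : Subgroup G), g * x * g⁻¹ = u * x * u⁻¹ := by
  obtain ⟨⟨⟨a, ha⟩, ⟨u, hu⟩⟩, hau, -⟩ := (Subgroup.isComplement_iff_existsUnique.mp hK) g
  simp only at hau
  refine ⟨u, hu, ?_⟩
  have hx' : u * x * u⁻¹ ∈ (P : Subgroup G) :=
    (P : Subgroup G).mul_mem ((P : Subgroup G).mul_mem hu hx) ((P : Subgroup G).inv_mem hu)
  have hg : g * x * g⁻¹ = a * (u * x * u⁻¹) * a⁻¹ := by
    rw [← hau]; group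
  have h1 : a * (u * x * u⁻¹) * a⁻¹ * (u * x * u⁻¹)⁻¹ ∈ K := by
    have : (u * x * u⁻¹) * a⁻¹ * (u * x * u⁻¹)⁻¹ ∈ K := hKn.conj_mem _ (K.inv_mem ha) _
    have h2 := K.mul_mem ha this
    convert h2 using 1
    group
  have h2 : a * (u * x * u⁻¹) * a⁻¹ * (u * x * u⁻¹)⁻¹ ∈ (P : Subgroup G) := by
    rw [← hg]
    exact (P : Subgroup G).mul_mem hy ((P : Subgroup G).inv_mem hx')
  have h3 : a * (u * x * u⁻¹) * a⁻¹ * (u * x * u⁻¹)⁻¹ = 1 := by
    have hd := hK.disjoint
    rw [Subgroup.disjoint_def] at hd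
    exact hd h1 h2
  rw [hg]
  calc a * (u * x * u⁻¹) * a⁻¹ = (a * (u * x * u⁻¹) * a⁻¹ * (u * x * u⁻¹)⁻¹) * (u * x * u⁻¹) := by
        group
    _ = u * x * u⁻¹ := by rw [h3, one_mul]

theorem result {G : Type*} [Group G] [Finite G] (P : Sylow 2 G) :
    Nat.card ↥(P : Subgroup G) < 2 * Nat.card {c : ConjClasses G // ∀ x ∈ c.carrier, ∃ k : ℕ, orderOf x = 2 ^ k} ↔
      Cfsg.HasNormalPComplement 2 G ∧ Nat.card ↥(P : Subgroup G) < 2 * Nat.card (ConjClasses ↥(P : Subgroup G)) := by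
  haveI : Fact (Nat.Prime 2) := ⟨Nat.prime_two⟩
  have hPv : Nat.card ↥(P : Subgroup G) = 2 ^ (Nat.card G).factorization 2 :=
    Sylow.card_eq_multiplicity P
  constructor
  · intro hk
    obtain ⟨K, hKn, hKi⟩ := main_aux _ G rfl P hk
    have hmul : Nat.card K * Nat.card ↥(P : Subgroup G) = Nat.card G := by
      rw [← hKi]; exact Subgroup.card_mul_index K
    have hcop : (Nat.card K).Coprime (Nat.card ↥(P : Subgroup G)) := by
      rw [hPv]
      apply Nat.Coprime.pow_right
      rw [Nat.coprime_comm, Nat.Prime.coprime_iff_not_dvd Nat.prime_two]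
      rintro ⟨m, hm⟩
      have h1 : 2 ^ ((Nat.card G).factorization 2 + 1) ∣ Nat.card G := by
        refine ⟨m, ?_⟩
        calc Nat.card G = Nat.card K * Nat.card ↥(P : Subgroup G) := hmul.symm
          _ = (2 * m) * 2 ^ (Nat.card G).factorization 2 := by rw [hm, hPv]
          _ = 2 ^ ((Nat.card G).factorization 2 + 1) * m := by rw [pow_succ]; ring
      exact Nat.pow_succ_factorization_not_dvd Nat.card_pos.ne' Nat.prime_two h1
    refine ⟨⟨P, K, hKn, Subgroup.isComplement'_of_coprime hmul hcop⟩, ?_⟩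
    -- k_2(G) ≤ k(P)
    choose s hs using Cfsg.Agent.S3897.exists_rep (G := G) (p := 2) P
    have hinj : Function.Injective (fun c : KP G 2 => ConjClasses.mk (s c)) := by
      intro c d hcd
      simp only at hcd
      rw [ConjClasses.mk_eq_mk_iff_isConj, isConj_iff] at hcd
      obtain ⟨u, hu⟩ := hcd
      apply Subtype.ext
      rw [← hs c, ← hs d, ConjClasses.mk_eq_mk_iff_isConj, isConj_iff]
      refine ⟨(u : G), ?_⟩
      have := congrArg Subtype.val hu
      simpa using this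
    have hcard := Nat.card_le_card_of_injective _ hinj
    have hk' : Nat.card ↥(P : Subgroup G) < 2 * Nat.card (KP G 2) := hk
    omega
  · rintro ⟨⟨P0, K, hKn, hKP0⟩, hkP⟩
    -- K is a complement of P as well
    have hcardP : Nat.card ↥(P : Subgroup G) = Nat.card ↥(P0 : Subgroup G) := by
      rw [Sylow.card_eq_multiplicity, Sylow.card_eq_multiplicity]
    have hmul : Nat.card K * Nat.card ↥(P : Subgroup G) = Nat.card G := by
      rw [hcardP]; exact hKP0.card_mul_card
    have hcop : (Nat.card K).Coprime (Nat.card ↥(P : Subgroup G)) := by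
      rw [hPv]
      apply Nat.Coprime.pow_right
      rw [Nat.coprime_comm, Nat.Prime.coprime_iff_not_dvd Nat.prime_two]
      rintro ⟨m, hm⟩
      have h1 : 2 ^ ((Nat.card G).factorization 2 + 1) ∣ Nat.card G := by
        refine ⟨m, ?_⟩
        calc Nat.card G = Nat.card K * Nat.card ↥(P : Subgroup G) := hmul.symm
          _ = (2 * m) * 2 ^ (Nat.card G).factorization 2 := by rw [hm, hPv]
          _ = 2 ^ ((Nat.card G).factorization 2 + 1) * m := by rw [pow_succ]; ring
      exact Nat.pow_succ_factorization_not_dvd Nat.card_pos.ne' Nat.prime_two h1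
    have hKP : Subgroup.IsComplement' K (P : Subgroup G) :=
      Subgroup.isComplement'_of_coprime hmul hcop
    -- injection ConjClasses P → KP G 2
    have hord : ∀ c : ConjClasses ↥(P : Subgroup G),
        ∀ y ∈ (ConjClasses.mk ((rep c : ↥(P : Subgroup G)) : G)).carrier,
          ∃ k : ℕ, orderOf y = 2 ^ k := by
      intro c y hy
      rw [ConjClasses.mem_carrier_iff_mk_eq, ConjClasses.mk_eq_mk_iff_isConj, isConj_iff] at hy
      obtain ⟨t, ht⟩ := hy
      obtain ⟨k, hk⟩ := (IsPGroup.iff_orderOf.mp P.isPGroup') (rep c)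
      refine ⟨k, ?_⟩
      rw [← hk, ← Subgroup.orderOf_coe, ← ht, orderOf_conj_eq]
    let φ : ConjClasses ↥(P : Subgroup G) → KP G 2 := fun c =>
      ⟨ConjClasses.mk ((rep c : ↥(P : Subgroup G)) : G), hord c⟩
    have hφ : Function.Injective φ := by
      intro c d hcd
      have h1 : ConjClasses.mk ((rep c : ↥(P : Subgroup G)) : G) =
          ConjClasses.mk ((rep d : ↥(P : Subgroup G)) : G) := congrArg Subtype.val hcd
      rw [ConjClasses.mk_eq_mk_iff_isConj, isConj_iff] at h1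
      obtain ⟨g, hg⟩ := h1
      haveI := hKn
      have hrc : ((rep c : ↥(P : Subgroup G)) : G) ∈ (P : Subgroup G) := (rep c).2
      have hrd : ((rep d : ↥(P : Subgroup G)) : G) ∈ (P : Subgroup G) := (rep d).2
      obtain ⟨u, hu, hu2⟩ := conj_in_P P K hKP ((rep c : ↥(P : Subgroup G)) : G) hrc g
        (by rw [hg]; exact hrd)
      rw [← mk_rep c, ← mk_rep d, ConjClasses.mk_eq_mk_iff_isConj, isConj_iff]
      refine ⟨⟨u, hu⟩, ?_⟩
      apply Subtype.ext
      show u * ((rep c : ↥(P : Subgroup G)) : G) * u⁻¹ = ((rep d : ↥(P : Subgroup G)) : G)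
      rw [← hu2, hg]
    have hcard := Nat.card_le_card_of_injective φ hφ
    show Nat.card ↥(P : Subgroup G) < 2 * Nat.card (KP G 2)
    omega

end Cfsg.Agent.S3895
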