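import Mathlib
import Cfsg.Statements.S0608
import Cfsg.Agent.Lib.Helper3.Thompson
import Cfsg.Agent.Lib.Helper16.SylowNormal
import Cfsg.Agent.S0601

set_option autoImplicit false
open Cfsg
open scoped Pointwise

namespace Cfsg.Agent.S0608

open Cfsg.Agent.S0601 (zOmega zOmega_le conj_zOmega_le)

variable {G : Type*} [Group G]

/-- `J(U)` as a join of maximal elementary abelian subgroups of `G` lying in `U`. -/
theorem thompsonSubgroupOf_eq_sSup {p : ℕ} {U A₀ : Subgroup G}
    (hA₀ : A₀ ∈ maxElementaryAbelianSubgroups p G) (hA₀U : A₀ ≤ U) :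
    thompsonSubgroupOf p U = sSup {A | A ∈ maxElementaryAbelianSubgroups p G ∧ A ≤ U} := by
  apply le_antisymm
  · unfold thompsonSubgroupOf thompsonSubgroup
    rw [Subgroup.map_le_iff_le_comap]
    apply sSup_le
    intro B hB
    rw [← Subgroup.map_le_iff_le_comap]
    exact le_sSup ⟨Helper3.map_subtype_mem_max hA₀ hA₀U hB, Subgroup.map_subtype_le _⟩
  · apply sSup_le
    rintro A ⟨hA, hAU⟩
    have h1 : A.subgroupOf U ≤ thompsonSubgroup p U := le_sSup (Helper3.subgroupOf_mem_max hA hAU)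
    have h2 := Subgroup.map_mono (f := U.subtype) h1
    rwa [Subgroup.map_subgroupOf_eq_of_le hAU] at h2

theorem thompsonSubgroupOf_le {p : ℕ} (U : Subgroup G) : thompsonSubgroupOf p U ≤ U :=
  Subgroup.map_subtype_le _

/-- The normalizer of `S ∩ J(G)` normalizes `J(S)`. -/
theorem normalizer_inf_le [Finite G] {p : ℕ} [Fact p.Prime] (S : Sylow p G) :
    Subgroup.normalizer (((S : Subgroup G) ⊓ thompsonSubgroup p G : Subgroup G) : Set G)
      ≤ Subgroup.normalizer (thompsonSubgroupOf p (S : Subgroup G) : Set G) := by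
  obtain ⟨A₀, hA₀, hA₀S⟩ := Helper3.exists_max_le_sylow S
  rw [Subgroup.le_normalizer_iff]
  intro n hn x hx
  rw [thompsonSubgroupOf_eq_sSup hA₀ hA₀S] at hx ⊢
  have hle : (sSup {A | A ∈ maxElementaryAbelianSubgroups p G ∧ A ≤ (S : Subgroup G)}).map
      (MulAut.conj n).toMonoidHom
      ≤ sSup {A | A ∈ maxElementaryAbelianSubgroups p G ∧ A ≤ (S : Subgroup G)} := by
    rw [Subgroup.map_le_iff_le_comap]
    apply sSup_le
    rintro A ⟨hA, hAS⟩
    rw [← Subgroup.map_le_iff_le_comap]
    apply le_sSup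
    refine ⟨Helper3.map_mem_maxElementaryAbelianSubgroups (MulAut.conj n) hA, ?_⟩
    rintro _ ⟨a, ha, rfl⟩
    have haT : a ∈ (S : Subgroup G) ⊓ thompsonSubgroup p G :=
      ⟨hAS ha, Helper3.le_thompsonSubgroup hA ha⟩
    have := (Subgroup.le_normalizer_iff.mp (le_refl _)) n hn a haT
    exact this.1
  exact hle ⟨x, hx, rfl⟩

/-- With trivial p'-core, Thompson factorizability is equivalent to J(G) centralizing the subgroup generated by all Ω₁(Z(S)), S Sylow. -/
theorem result {G : Type*} [Group G] [Finite G] {p : ℕ} [Fact p.Prime] (hO : Cfsg.pPrimeCore p G = ⊥) : Cfsg.IsThompsonFactorizable p G ↔ Cfsg.thompsonSubgroup p G ≤ Subgroup.centralizer ((⨆ S : Sylow p G, Cfsg.omegaOne p (((S : Subgroup G)) ⊓ Subgroup.centralizer ((S : Subgroup G) : Set G)) : Subgroup G) : Set G) := by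
  classical
  have hZle : ∀ S : Sylow p G, zOmega p (S : Subgroup G) ≤
      ⨆ S : Sylow p G, zOmega p (S : Subgroup G) :=
    fun S => le_iSup (fun S : Sylow p G => zOmega p (S : Subgroup G)) S
  constructor
  · intro hTF
    rw [Helper3.thompsonSubgroup_eq_iSup_sylow]
    apply iSup_le
    intro S
    rw [Subgroup.le_centralizer_iff]
    apply iSup_le
    intro S'
    obtain ⟨g, hg⟩ := MulAction.exists_smul_eq G S S'
    obtain ⟨x, hx, c, hc, n, hn, hgcn⟩ := hTF S g⁻¹
    rw [hO, Subgroup.mem_bot] at hx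
    have hg' : g = n⁻¹ * c⁻¹ := by
      have : g⁻¹ = c * n := by rw [hgcn, hx, one_mul]
      calc g = (g⁻¹)⁻¹ := (inv_inv g).symm
        _ = n⁻¹ * c⁻¹ := by rw [this, mul_inv_rev]
    -- elements of Z_{S'} are conjugates of elements of Z_S
    have hconj : zOmega p (S' : Subgroup G) ≤
        (zOmega p (S : Subgroup G)).map (MulAut.conj g).toMonoidHom := by
      have h1 := conj_zOmega_le S' g⁻¹
      have h2 : g⁻¹ • S' = S := by rw [← hg, inv_smul_smul]
      rw [h2] at h1
      intro z hz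
      have h3 := h1 ⟨z, hz, rfl⟩
      refine ⟨g⁻¹ * z * g, ?_, ?_⟩
      · simpa using h3
      · simp [mul_assoc]
    intro z' hz' j hj
    obtain ⟨z, hz, rfl⟩ := hconj hz'
    have hzS := zOmega_le p (S : Subgroup G) hz
    show j * (g * z * g⁻¹) = g * z * g⁻¹ * j
    have hcz : c * z = z * c := by
      have := hc z hz
      exact this.symm
    have hnj : n * j * n⁻¹ ∈ thompsonSubgroupOf p (S : Subgroup G) :=
      (Subgroup.le_normalizer_iff.mp (le_refl _)) n hn j hj
    have hjz : (n * j * n⁻¹) * z = z * (n * j * n⁻¹) :=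
      (hzS.2 _ (thompsonSubgroupOf_le _ hnj))
    have hcz' : c⁻¹ * z * c = z := by rw [mul_assoc, ← hcz]; group
    calc j * (g * z * g⁻¹) = n⁻¹ * ((n * j * n⁻¹) * (c⁻¹ * z * c)) * n := by rw [hg']; group
      _ = n⁻¹ * ((c⁻¹ * z * c) * (n * j * n⁻¹)) * n := by rw [hcz', hjz]
      _ = g * z * g⁻¹ * j := by rw [hg']; group
  · intro hJ S g
    have hJchar : (thompsonSubgroup p G).Characteristic := Helper3.thompsonSubgroup_characteristic p
    haveI : (thompsonSubgroup p G).Normal := inferInstance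
    have hF := Helper16.normalizer_inf_sup_eq_top S (thompsonSubgroup p G)
    have hgmem : g ∈ Subgroup.normalizer
        (((S : Subgroup G) ⊓ thompsonSubgroup p G : Subgroup G) : Set G) ⊔ thompsonSubgroup p G := by
      rw [hF]; trivial
    rw [sup_comm] at hgmem
    have hgmem' : g ∈ ((thompsonSubgroup p G ⊔ Subgroup.normalizer
        (((S : Subgroup G) ⊓ thompsonSubgroup p G : Subgroup G) : Set G) : Subgroup G) : Set G) :=
      hgmem
    rw [Subgroup.normal_mul] at hgmem'
    obtain ⟨j, hj, n, hn, rfl⟩ := hgmem'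
    refine ⟨1, Subgroup.one_mem _, j, ?_, n, normalizer_inf_le S hn, by simp⟩
    have h1 := hJ hj
    exact Subgroup.centralizer_le (hZle S) h1

end Cfsg.Agent.S0608
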