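import Mathlib
import Cfsg.Statements.S0663

set_option autoImplicit false
open Cfsg
open scoped commutatorElement Pointwise

namespace Cfsg.Agent.S0663

open Subgroup

variable {L : Type*} [Group L]

/-- A proper subgroup of a finite `p`-group has at most a `p`-th of the elements. -/
theorem mul_card_le_of_lt [Finite L] {p : ℕ} [hp : Fact p.Prime] {K H : Subgroup L}
    (hH : IsPGroup p H) (hlt : K < H) : p * Nat.card K ≤ Nat.card H := by
  obtain ⟨a, ha⟩ := hH.exists_card_eq
  have hdvd : Nat.card K ∣ Nat.card H := Subgroup.card_dvd_of_le hlt.le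
  rw [ha] at hdvd
  obtain ⟨b, hb, hKb⟩ := (Nat.dvd_prime_pow hp.out).1 hdvd
  have hne : Nat.card K ≠ Nat.card H := by
    intro h
    exact hlt.ne (Subgroup.eq_of_le_of_card_ge hlt.le h.symm.le)
  have hba : b < a := by
    rcases hb.lt_or_eq with h | h
    · exact h
    · exfalso; apply hne; rw [hKb, ha, h]
  rw [ha, hKb, ← pow_succ']
  exact Nat.pow_le_pow_right hp.out.pos hba

/-- The commutator of an invariant subgroup with the acting group is again invariant. -/
theorem inv_commutator (H G : Subgroup L) : G ≤ normalizer ((⁅H, G⁆ : Subgroup L) : Set L) :=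
  normalizer_commutator_ge_right H G

theorem commutator_le_of_inv {H G : Subgroup L} (h : G ≤ normalizer (H : Set L)) :
    ⁅H, G⁆ ≤ H :=
  le_normalizer_iff_commutator_le_left.1 h

/-- A `p`-group acting on a nontrivial `p`-group: the commutator is a proper subgroup. -/
theorem commutator_lt_of_inv [Finite L] {p : ℕ} [Fact p.Prime] {H G : Subgroup L}
    (hH : IsPGroup p H) (hG : IsPGroup p G) (h : G ≤ normalizer (H : Set L)) (hne : H ≠ ⊥) :
    ⁅H, G⁆ < H := by
  refine lt_of_le_of_ne (commutator_le_of_inv h) ?_
  intro heq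
  apply hne
  have hM : IsPGroup p (H ⊔ G : Subgroup L) := IsPGroup.to_sup_of_normal_left' hH hG h
  have hnil : Group.IsNilpotent (H ⊔ G : Subgroup L) := hM.isNilpotent
  obtain ⟨k, hk⟩ := (Subgroup.isNilpotent_iff_lowerCentralSeries (S := H ⊔ G)).1 hnil
  have key : ∀ j : ℕ, H ≤ (H ⊔ G).lowerCentralSeries j := by
    intro j
    induction j with
    | zero => exact le_sup_left
    | succ j ih =>
      rw [Subgroup.lowerCentralSeries_succ]
      calc H = ⁅H, G⁆ := heq.symm
        _ ≤ ⁅(H ⊔ G).lowerCentralSeries j, H ⊔ G⁆ := commutator_mono ih le_sup_right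
  have := key k
  rw [hk] at this
  exact le_bot_iff.1 this

section chain

variable (N G : Subgroup L)

theorem iter_inv (hGN : G ≤ normalizer (N : Set L)) :
    ∀ i, G ≤ normalizer ((iterCommutator N G i : Subgroup L) : Set L)
  | 0 => hGN
  | i + 1 => by
    show G ≤ normalizer ((⁅iterCommutator N G i, G⁆ : Subgroup L) : Set L)
    exact inv_commutator _ _

theorem iter_succ_le (hGN : G ≤ normalizer (N : Set L)) (i : ℕ) :
    iterCommutator N G (i + 1) ≤ iterCommutator N G i :=
  commutator_le_of_inv (iter_inv N G hGN i)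

theorem iter_antitone (hGN : G ≤ normalizer (N : Set L)) : Antitone (iterCommutator N G) :=
  antitone_nat_of_succ_le (iter_succ_le N G hGN)

theorem iter_le (hGN : G ≤ normalizer (N : Set L)) (i : ℕ) : iterCommutator N G i ≤ N :=
  iter_antitone N G hGN (Nat.zero_le i)

end chain

/-- The "chain condition": all terms have the expected order. -/
def CC (p : ℕ) (N G : Subgroup L) (n : ℕ) : Prop :=
  ∀ i ≤ n, Nat.card (iterCommutator N G i) = p ^ (n - i)

section main

variable [Finite L] {p : ℕ} [hp : Fact p.Prime] (N G : Subgroup L)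
  (hN : IsPGroup p N) (hG : IsPGroup p G) (hGN : G ≤ normalizer (N : Set L))
  (n : ℕ)

include hN hG hGN

/-- Under the chain condition, `N ⊔ G` normalizes every term. -/
theorem cc_normal (hcc : CC p N G n) :
    ∀ i ≤ n, N ⊔ G ≤ normalizer ((iterCommutator N G i : Subgroup L) : Set L) := by
  have hM : IsPGroup p (N ⊔ G : Subgroup L) := IsPGroup.to_sup_of_normal_left' hN hG hGN
  intro i
  induction i with
  | zero =>
    intro _
    exact sup_le le_normalizer hGN
  | succ i ih =>
    intro hi
    have hi' : i ≤ n := Nat.le_of_succ_le hi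
    have hnorm := ih hi'
    set Ni := iterCommutator N G i with hNi
    have hNip : IsPGroup p Ni := hN.to_le (iter_le N G hGN i)
    have hne : Ni ≠ ⊥ := by
      intro h
      have h1 := hcc i hi'
      rw [← hNi, h, Subgroup.card_bot] at h1
      have : 1 < p ^ (n - i) := Nat.one_lt_pow (by omega) hp.out.one_lt
      omega
    have hlt := commutator_lt_of_inv hNip hM hnorm hne
    have hle : iterCommutator N G (i + 1) ≤ ⁅Ni, N ⊔ G⁆ := by
      show ⁅Ni, G⁆ ≤ ⁅Ni, N ⊔ G⁆
      exact commutator_mono le_rfl le_sup_right
    have hcard := mul_card_le_of_lt hNip hlt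
    have h1 := hcc i hi'
    have h2 := hcc (i + 1) hi
    rw [← hNi] at h1
    have hpow : p ^ (n - i) = p * p ^ (n - (i + 1)) := by
      rw [← pow_succ']; congr 1; omega
    have h3 : Nat.card (⁅Ni, N ⊔ G⁆ : Subgroup L) ≤ Nat.card (iterCommutator N G (i + 1)) := by
      rw [h2]
      rw [h1, hpow] at hcard
      exact Nat.le_of_mul_le_mul_left hcard hp.out.pos
    have heq : iterCommutator N G (i + 1) = ⁅Ni, N ⊔ G⁆ :=
      Subgroup.eq_of_le_of_card_ge hle h3
    rw [heq]
    exact inv_commutator _ _

/-- Key lemma: under the chain condition every invariant subgroup is a term of the chain. -/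
theorem cc_classify (hcc : CC p N G n) (H : Subgroup L) (hHN : H ≤ N)
    (hGH : G ≤ normalizer (H : Set L)) : ∃ i ≤ n, H = iterCommutator N G i := by
  classical
  have hbot : iterCommutator N G n = ⊥ := by
    have := hcc n le_rfl
    rw [Nat.sub_self, pow_zero] at this
    exact (Subgroup.card_eq_one).1 this
  -- the largest index with H ≤ N_i
  have hex : ∃ i, i ≤ n ∧ H ≤ iterCommutator N G i := ⟨0, Nat.zero_le n, hHN⟩
  set i := Nat.findGreatest (fun i => H ≤ iterCommutator N G i) n with hi
  have hi_le : i ≤ n := Nat.findGreatest_le n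
  have hHi : H ≤ iterCommutator N G i :=
    Nat.findGreatest_spec (P := fun i => H ≤ iterCommutator N G i) (Nat.zero_le n) hHN
  refine ⟨i, hi_le, ?_⟩
  rcases hi_le.lt_or_eq with hlt | heq
  · -- H ≰ N_{i+1}
    have hnot : ¬ H ≤ iterCommutator N G (i + 1) := by
      intro h
      have := Nat.le_findGreatest (P := fun i => H ≤ iterCommutator N G i) (Nat.succ_le_of_lt hlt) h
      omega
    have hnorm := cc_normal N G hN hG hGN n hcc
    -- claim
    have claim : ∀ k, i + 1 ≤ k → k ≤ n → iterCommutator N G i ≤ H ⊔ iterCommutator N G k := by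
      intro k hk1
      induction k, hk1 using Nat.le_induction with
      | base =>
        intro hk
        set X := H ⊔ iterCommutator N G (i + 1) with hX
        have hXle : X ≤ iterCommutator N G i := sup_le hHi (iter_succ_le N G hGN i)
        have hXp : IsPGroup p X := hN.to_le (hXle.trans (iter_le N G hGN i))
        have hlt' : iterCommutator N G (i + 1) < X := by
          refine lt_of_le_of_ne le_sup_right ?_
          intro h
          apply hnot
          rw [h]; exact le_sup_left
        have h1 := mul_card_le_of_lt hXp hlt'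
        have h2 := hcc (i + 1) hk
        have h3 := hcc i hi_le
        have hpow : p ^ (n - i) = p * p ^ (n - (i + 1)) := by
          rw [← pow_succ']; congr 1; omega
        have : iterCommutator N G i = X := by
          symm
          apply Subgroup.eq_of_le_of_card_ge hXle
          rw [h3, hpow, ← h2]; exact h1
        rw [this]
      | succ k hk1 ih =>
        intro hk
        have hk' : k ≤ n := Nat.le_of_succ_le hk
        have ih' := ih hk'
        refine ih'.trans (sup_le le_sup_left ?_)
        -- N_k ≤ H ⊔ N_{k+1}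
        obtain ⟨j, rfl⟩ : ∃ j, k = j + 1 := ⟨k - 1, by omega⟩
        have hji : i ≤ j := by omega
        show ⁅iterCommutator N G j, G⁆ ≤ H ⊔ iterCommutator N G (j + 1 + 1)
        rw [commutator_le]
        intro x hx g hg
        have hx1 : x ∈ H ⊔ iterCommutator N G (j + 1) :=
          ih' (iter_antitone N G hGN hji hx)
        have hHnorm : H ≤ normalizer ((iterCommutator N G (j + 1) : Subgroup L) : Set L) :=
          (hHN.trans le_sup_left).trans (hnorm (j + 1) hk')
        have hx2 : x ∈ ((H ⊔ iterCommutator N G (j + 1) : Subgroup L) : Set L) := hx1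
        rw [coe_mul_of_left_le_normalizer_right H _ hHnorm] at hx2
        obtain ⟨h, hh, z, hz, rfl⟩ := hx2
        have e : ⁅h * z, g⁆ = h * ⁅z, g⁆ * h⁻¹ * ⁅h, g⁆ := by
          simp only [commutatorElement_def]; group
        rw [e]
        have hzg : ⁅z, g⁆ ∈ iterCommutator N G (j + 1 + 1) := commutator_mem_commutator hz hg
        have hHnorm2 : H ≤ normalizer ((iterCommutator N G (j + 1 + 1) : Subgroup L) : Set L) :=
          (hHN.trans le_sup_left).trans (hnorm (j + 1 + 1) hk)
        have hconj : h * ⁅z, g⁆ * h⁻¹ ∈ iterCommutator N G (j + 1 + 1) := by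
          have := hHnorm2 hh
          rw [mem_normalizer_iff] at this
          exact (this _).1 hzg
        have hhg : ⁅h, g⁆ ∈ H := commutator_le_of_inv hGH (commutator_mem_commutator hh hg)
        exact mul_mem (le_sup_right (a := H) hconj) (le_sup_left (b := iterCommutator N G (j + 1 + 1)) hhg)
    have := claim n (Nat.succ_le_of_lt hlt) le_rfl
    rw [hbot, sup_bot_eq] at this
    exact le_antisymm hHi this
  · rw [heq, hbot] at hHi
    rw [heq, hbot]
    exact le_bot_iff.1 hHi

/-- The chain condition implies uniseriality. -/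
theorem cc_uniserial (hcc : CC p N G n) (H : Subgroup L) (hHN : H ≤ N)
    (hGH : G ≤ normalizer (H : Set L)) (hne : H ≠ ⊥) : (⁅H, G⁆).relIndex H = p := by
  obtain ⟨i, hi, rfl⟩ := cc_classify N G hN hG hGN n hcc H hHN hGH
  have hbot : iterCommutator N G n = ⊥ := by
    have := hcc n le_rfl
    rw [Nat.sub_self, pow_zero] at this
    exact (Subgroup.card_eq_one).1 this
  have hin : i < n := by
    rcases hi.lt_or_eq with h | h
    · exact h
    · exfalso; apply hne; rw [h]; exact hbot
  have h1 := hcc i hi
  have h2 := hcc (i + 1) hin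
  have hle : iterCommutator N G (i + 1) ≤ iterCommutator N G i := iter_succ_le N G hGN i
  have h3 := relIndex_mul_relIndex _ _ _ (bot_le : (⊥ : Subgroup L) ≤ iterCommutator N G (i + 1)) hle
  rw [relIndex_bot_left, relIndex_bot_left, h1, h2] at h3
  have hpow : p ^ (n - i) = p ^ (n - (i + 1)) * p := by
    rw [← pow_succ]; congr 1; omega
  rw [hpow] at h3
  have hpos : 0 < p ^ (n - (i + 1)) := pow_pos hp.out.pos _
  exact Nat.eq_of_mul_eq_mul_left hpos h3

omit [Finite L] hN hG in
/-- Uniseriality implies the chain condition. -/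
theorem uniserial_cc (hn : Nat.card N = p ^ n)
    (hU : ∀ H : Subgroup L, H ≤ N → G ≤ normalizer (H : Set L) → H ≠ ⊥ →
      (⁅H, G⁆).relIndex H = p) : CC p N G n := by
  intro i
  induction i with
  | zero => intro _; exact hn
  | succ i ih =>
    intro hi
    have hi' : i ≤ n := Nat.le_of_succ_le hi
    have h1 := ih hi'
    have hne : iterCommutator N G i ≠ ⊥ := by
      intro h
      rw [h, Subgroup.card_bot] at h1
      have : 1 < p ^ (n - i) := Nat.one_lt_pow (by omega) hp.out.one_lt
      omega
    have h2 := hU _ (iter_le N G hGN i) (iter_inv N G hGN i) hne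
    have hle : iterCommutator N G (i + 1) ≤ iterCommutator N G i := iter_succ_le N G hGN i
    have h3 := relIndex_mul_relIndex _ _ _ (bot_le : (⊥ : Subgroup L) ≤ iterCommutator N G (i + 1)) hle
    rw [relIndex_bot_left, relIndex_bot_left, h1] at h3
    have h2' : (iterCommutator N G (i + 1)).relIndex (iterCommutator N G i) = p := h2
    rw [h2'] at h3
    have hpow : p ^ (n - i) = p ^ (n - (i + 1)) * p := by
      rw [← pow_succ]; congr 1; omega
    rw [hpow] at h3
    exact Nat.eq_of_mul_eq_mul_right hp.out.pos h3

/-- A long chain implies the chain condition. -/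
theorem long_cc (hn : Nat.card N = p ^ n) (hn1 : 1 ≤ n)
    (hlong : iterCommutator N G (n - 1) ≠ ⊥) : CC p N G n := by
  -- p^i * card N_i ≥ p^n for i ≤ n-1, by downward induction; ≤ by upward induction
  have hne : ∀ i, i ≤ n - 1 → iterCommutator N G i ≠ ⊥ := by
    intro i hi h
    apply hlong
    have := iter_antitone N G hGN hi
    rw [h] at this
    exact le_bot_iff.1 this
  have hstep : ∀ i, i ≤ n - 1 →
      p * Nat.card (iterCommutator N G (i + 1)) ≤ Nat.card (iterCommutator N G i) := by
    intro i hi
    exact mul_card_le_of_lt (hN.to_le (iter_le N G hGN i))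
      (commutator_lt_of_inv (hN.to_le (iter_le N G hGN i)) hG (iter_inv N G hGN i) (hne i hi))
  -- upper bound
  have hup : ∀ i, i ≤ n → p ^ i * Nat.card (iterCommutator N G i) ≤ p ^ n := by
    intro i
    induction i with
    | zero => intro _; rw [pow_zero, one_mul]; exact hn.le
    | succ i ih =>
      intro hi
      have := ih (Nat.le_of_succ_le hi)
      have h2 := hstep i (by omega)
      calc p ^ (i + 1) * Nat.card (iterCommutator N G (i + 1))
          = p ^ i * (p * Nat.card (iterCommutator N G (i + 1))) := by ring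
        _ ≤ p ^ i * Nat.card (iterCommutator N G i) := Nat.mul_le_mul_left _ h2
        _ ≤ p ^ n := this
  -- lower bound: card N_i ≥ p^(n-i) for i ≤ n - 1
  have hlow : ∀ k, k ≤ n - 1 →
      p ^ (k + 1) ≤ Nat.card (iterCommutator N G (n - 1 - k)) := by
    intro k
    induction k with
    | zero =>
      intro _
      rw [Nat.sub_zero, zero_add, pow_one]
      have hp' : IsPGroup p (iterCommutator N G (n - 1)) := hN.to_le (iter_le N G hGN _)
      obtain ⟨a, ha⟩ := hp'.exists_card_eq
      rw [ha]
      have : a ≠ 0 := by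
        intro h0
        rw [h0, pow_zero] at ha
        exact hlong ((Subgroup.card_eq_one).1 ha)
      calc p = p ^ 1 := (pow_one p).symm
        _ ≤ p ^ a := Nat.pow_le_pow_right hp.out.pos (by omega)
    | succ k ih =>
      intro hk
      have h1 := ih (by omega)
      have h2 := hstep (n - 1 - (k + 1)) (by omega)
      have e : n - 1 - (k + 1) + 1 = n - 1 - k := by omega
      rw [e] at h2
      calc p ^ (k + 1 + 1) = p * p ^ (k + 1) := by ring
        _ ≤ p * Nat.card (iterCommutator N G (n - 1 - k)) := Nat.mul_le_mul_left _ h1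
        _ ≤ _ := h2
  intro i hi
  rcases hi.lt_or_eq with hlt | heq
  · have h1 := hup i hi
    have h2 := hlow (n - 1 - i) (by omega)
    have e1 : n - 1 - (n - 1 - i) = i := by omega
    have e2 : n - 1 - i + 1 = n - i := by omega
    rw [e1, e2] at h2
    have hpow : p ^ n = p ^ i * p ^ (n - i) := by
      rw [← pow_add]; congr 1; omega
    rw [hpow] at h1
    have h3 := Nat.le_of_mul_le_mul_left h1 (pow_pos hp.out.pos i)
    exact le_antisymm h3 h2
  · rw [heq, Nat.sub_self, pow_zero]
    have h1 := hup n le_rfl
    have hpos : 0 < p ^ n := pow_pos hp.out.pos n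
    have h2 : Nat.card (iterCommutator N G n) ≤ 1 := by
      by_contra hcon
      push Not at hcon
      have : p ^ n * 2 ≤ p ^ n * Nat.card (iterCommutator N G n) := Nat.mul_le_mul_left _ hcon
      omega
    have h3 : 0 < Nat.card (iterCommutator N G n) := Nat.card_pos
    omega

end main

/-- A p-group acts uniserially on a p-group N of order p^n exactly when the iterated commutator chain from N has length n; in that case the chain terms are all the invariant subgroups of N and they are normal in N. -/
theorem result {L : Type*} [Group L] [Finite L] {p : ℕ} [Fact p.Prime] (N G : Subgroup L) (hN : IsPGroup p N) (hG : IsPGroup p G) (hGN : G ≤ Subgroup.normalizer (N : Set L)) (n : ℕ) (hn : Nat.card N = p ^ n) : ((∀ H : Subgroup L, H ≤ N → G ≤ Subgroup.normalizer (H : Set L) → H ≠ ⊥ → (⁅H, G⁆).relIndex H = p) ↔ Cfsg.iterCommutator N G (n - 1) ≠ ⊥ ∨ n = 0) ∧ ((∀ H : Subgroup L, H ≤ N → G ≤ Subgroup.normalizer (H : Set L) → H ≠ ⊥ → (⁅H, G⁆).relIndex H = p) → ∀ H : Subgroup L, H ≤ N → G ≤ Subgroup.normalizer (H : Set L) → (∃ i ≤ n, H = Cfsg.iterCommutator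 N G i) ∧ N ≤ Subgroup.normalizer (H : Set L)) := by
  have hp : Fact p.Prime := inferInstance
  refine ⟨⟨?_, ?_⟩, ?_⟩
  · intro hU
    by_cases h0 : n = 0
    · exact Or.inr h0
    · left
      have hcc := uniserial_cc N G hGN n hn hU
      have h1 := hcc (n - 1) (Nat.sub_le n 1)
      intro h
      rw [h, Subgroup.card_bot] at h1
      have : 1 < p ^ (n - (n - 1)) := Nat.one_lt_pow (by omega) hp.out.one_lt
      omega
  · rintro (hlong | h0)
    · by_cases h0 : n = 0
      · intro H hHN _ hne
        exfalso; apply hne
        rw [h0, pow_zero] at hn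
        have : N = ⊥ := (Subgroup.card_eq_one).1 hn
        rw [this] at hHN
        exact le_bot_iff.1 hHN
      · have hcc := long_cc N G hN hG hGN n hn (by omega) hlong
        intro H hHN hGH hne
        exact cc_uniserial N G hN hG hGN n hcc H hHN hGH hne
    · intro H hHN _ hne
      exfalso; apply hne
      rw [h0, pow_zero] at hn
      have : N = ⊥ := (Subgroup.card_eq_one).1 hn
      rw [this] at hHN
      exact le_bot_iff.1 hHN
  · intro hU H hHN hGH
    have hcc := uniserial_cc N G hGN n hn hU
    obtain ⟨i, hi, rfl⟩ := cc_classify N G hN hG hGN n hcc H hHN hGH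
    refine ⟨⟨i, hi, rfl⟩, ?_⟩
    exact le_sup_left.trans (cc_normal N G hN hG hGN n hcc i hi)

end Cfsg.Agent.S0663
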