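import Mathlib
import Cfsg.Statements.S0250
import Cfsg.Agent.Lib.Helper2.PermIso

set_option autoImplicit false
open Cfsg

namespace Cfsg.Agent.S0250

open Cfsg.Agent.Helper2
open scoped LinearAlgebra.Projectivization

/-- SL_2(2) is isomorphic to S_3. -/
theorem result {F : Type*} [Field F] [Fintype F] (hF : Fintype.card F = 2) : Nonempty (Matrix.SpecialLinearGroup (Fin 2) F ≃* Equiv.Perm (Fin 3)) := by
  haveI : Fintype (ℙ F (Fin 2 → F)) := Fintype.ofFinite _
  have hα : Fintype.card (ℙ F (Fin 2 → F)) = 3 := by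
    rw [← Nat.card_eq_fintype_card, card_projectiveLine, hF]
  have hcard := card_SL_mul (F := F) 2 (by norm_num)
  rw [hF] at hcard
  simp only [Fin.prod_univ_two, Fin.val_zero, Fin.val_one] at hcard
  norm_num at hcard
  have hcenter := card_center_SL (F := F) 2 (by norm_num)
  rw [hF] at hcenter
  norm_num at hcenter
  have hbot : Subgroup.center (Matrix.SpecialLinearGroup (Fin 2) F) = ⊥ := hcenter
  have hinj : Function.Injective (MulAction.toPermHom (Matrix.SpecialLinearGroup (Fin 2) F) (ℙ F (Fin 2 → F))) := by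
    rw [← MonoidHom.ker_eq_bot_iff, Projectivization.SL_mulAction_ker, hbot]
  refine equiv_perm_of_injective 3 hα _ hinj ?_
  have : Nat.factorial 3 = 6 := rfl
  rw [this]
  omega

end Cfsg.Agent.S0250
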