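import Mathlib
import Cfsg.Statements.S0296
import Cfsg.Agent.Lib.Helper2.OrthFrames3

set_option autoImplicit false
open Cfsg

namespace Cfsg.Agent.S0296

open Cfsg.Agent.Helper2.Orth Cfsg.Agent.Helper13 in
/-- Over any finite field and m at least 4, POmega^+_{2m}(q) is simple. -/
theorem result {F : Type*} [Field F] [Fintype F] (m : ℕ) (hm : 4 ≤ m) : IsSimpleGroup (Cfsg.POmega F (Cfsg.quadFormPlus m F)) := by
  classical
  obtain ⟨k, rfl⟩ : ∃ k, m = k + 3 := ⟨m - 3, by omega⟩
  rw [quadFormPlus_eq]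
  have hex : Fintype.card F ≠ 2 ∨ Fintype.card (Fin (k + 3) ⊕ Fin (k + 3)) ≠ 4 := by
    right
    simp only [Fintype.card_sum, Fintype.card_fin]
    omega
  exact isSimpleGroup_POmega (nondeg_plus (F := F) (k + 3)) hex (hypFrame_plus k)

end Cfsg.Agent.S0296
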