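import Mathlib
import Cfsg.Statements.S3058
import Cfsg.Agent.Lib.Helper15.SylowGraph
import Cfsg.Agent.Lib.Helper15.StronglyEmbedded
import Cfsg.Agent.Lib.Helper16.SylowNormal
import Cfsg.Agent.Lib.Helper7.Frattini
import Cfsg.Agent.Lib.Helper7.CoprimeGen2
import Cfsg.Agent.Lib.Helper1.SylowBasic
import Cfsg.Agent.Lib.Helper3.Thompson

set_option autoImplicit false

namespace Cfsg.Agent.S3058

open Cfsg.Agent.Helper15

/-- A Sylow subgroup meets a normal subgroup of order divisible by `p` in an element of order `p`. -/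
theorem exists_order_p {G : Type*} [Group G] [Finite G] {p : ℕ} [Fact p.Prime] (S : Sylow p G)
    (N : Subgroup G) [hNn : N.Normal] (hN : p ∣ Nat.card N) :
    ∃ x ∈ (S : Subgroup G), x ∈ N ∧ orderOf x = p := by
  obtain ⟨x, hx⟩ := exists_prime_orderOf_dvd_card' p hN
  have hxo : orderOf (x : G) = p := by rw [Subgroup.orderOf_coe, hx]
  have hQp : IsPGroup p (Subgroup.zpowers (x : G)) :=
    IsPGroup.of_card (n := 1) (by rw [Nat.card_zpowers, hxo, pow_one])
  obtain ⟨S', hS'⟩ := hQp.exists_le_sylow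
  obtain ⟨g, hg⟩ := MulAction.exists_smul_eq G S' S
  refine ⟨g * x * g⁻¹, ?_, hNn.conj_mem _ x.2 g, ?_⟩
  · have : g * x * g⁻¹ ∈ g • S' := by
      rw [Helper1.mem_smul_sylow_iff]
      have : g⁻¹ * (g * (x : G) * g⁻¹) * g = x := by group
      rw [this]
      exact hS' (Subgroup.mem_zpowers _)
    rw [hg] at this
    exact this
  · rw [orderOf_conj', hxo]

/-- Let p be a prime and G a finite group whose Sylow p-subgroups are not chain-connected through nontrivial intersections (so G has a strongly p-embedded subgroup). If N and M are normal subgroups of G whose orders are both divisible by p, then the order of N ∩ M is divisible by p. Consequently, among the normal subgroups of G whose order is divisible by p there is a smallest one (the intersection of all of them). -/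
theorem result {G : Type*} [Group G] [Finite G]
    (p : ℕ) [Fact p.Prime] (hG : ¬ Cfsg.IsSylowChainConnected p G)
    (N M : Subgroup G) [N.Normal] [M.Normal] (hN : p ∣ Nat.card N) (hM : p ∣ Nat.card M) :
    p ∣ Nat.card ↥(N ⊓ M) := by
  classical
  by_contra hnd
  have hp : p.Prime := Fact.out
  have hNn : N.Normal := inferInstance
  have hMn : M.Normal := inferInstance
  rw [isSylowChainConnected_iff] at hG
  push Not at hG
  obtain ⟨S, T, hST⟩ := hG
  set H := componentStabilizer p S with hH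
  set D := N ⊓ M with hD
  have hDcop : (Nat.card D).Coprime p := ((Nat.Prime.coprime_iff_not_dvd hp).mpr hnd).symm
  haveI hDn : D.Normal := Subgroup.normal_inf_normal N M
  have hSD : (S : Subgroup G) ⊓ D = ⊥ := Helper7.inf_eq_bot_of_isPGroup_of_coprime S.2 hDcop
  -- key criterion for membership in H
  have hL : ∀ (Q : Subgroup G) (g : G), Q ≠ ⊥ → Q ≤ (S : Subgroup G) →
      (∀ q ∈ Q, g⁻¹ * q * g ∈ (S : Subgroup G)) → g ∈ H := by
    intro Q g hQ hQS hQgS
    rw [hH, mem_componentStabilizer]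
    by_cases heq : S = g • S
    · rw [← heq]
    · apply Relation.ReflTransGen.single
      refine ⟨heq, ?_⟩
      intro hbot
      apply hQ
      rw [eq_bot_iff, ← hbot]
      intro q hq
      refine ⟨hQS hq, ?_⟩
      show q ∈ g • S
      rw [Helper1.mem_smul_sylow_iff]
      exact hQgS q hq
  have hLnorm : ∀ (Q : Subgroup G) (g : G), Q ≠ ⊥ → Q ≤ (S : Subgroup G) →
      g ∈ Subgroup.normalizer (Q : Set G) → g ∈ H := by
    intro Q g hQ hQS hg
    apply hL Q g hQ hQS
    intro q hq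
    have hg' : g⁻¹ ∈ Subgroup.normalizer (Q : Set G) := Subgroup.inv_mem _ hg
    have := (Subgroup.mem_normalizer_iff.mp hg' q).mp hq
    rw [inv_inv] at this
    exact hQS this
  obtain ⟨x₁, hx₁S, hx₁N, hx₁o⟩ := exists_order_p S N hN
  obtain ⟨x₂, hx₂S, hx₂M, hx₂o⟩ := exists_order_p S M hM
  have hx₁ne : x₁ ≠ 1 := by
    intro h; rw [h, orderOf_one] at hx₁o; exact hp.one_lt.ne hx₁o
  have hx₂ne : x₂ ≠ 1 := by
    intro h; rw [h, orderOf_one] at hx₂o; exact hp.one_lt.ne hx₂o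
  set Q₁ := (S : Subgroup G) ⊓ N with hQ₁
  set Q₂ := (S : Subgroup G) ⊓ M with hQ₂
  have hQ₁ne : Q₁ ≠ ⊥ := by
    intro h
    have : x₁ ∈ Q₁ := ⟨hx₁S, hx₁N⟩
    rw [h, Subgroup.mem_bot] at this
    exact hx₁ne this
  have hQ₂ne : Q₂ ≠ ⊥ := by
    intro h
    have : x₂ ∈ Q₂ := ⟨hx₂S, hx₂M⟩
    rw [h, Subgroup.mem_bot] at this
    exact hx₂ne this
  -- Frattini: G = N_G(S ∩ N) N ≤ H ⊔ N
  have hF := Helper16.normalizer_inf_sup_eq_top S N
  have hNH : (⊤ : Subgroup G) ≤ H ⊔ N := by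
    rw [← hF]
    apply sup_le
    · intro g hg
      exact (le_sup_left : H ≤ H ⊔ N) (hLnorm Q₁ g hQ₁ne inf_le_left hg)
    · exact le_sup_right
  -- N ≤ D ⊔ H
  have hQ₂p : IsPGroup p Q₂ := S.2.to_le inf_le_left
  have hND : N ≤ D ⊔ H := by
    intro n hn
    have hnorm : n ∈ Subgroup.normalizer ((Q₂ ⊔ D : Subgroup G) : Set G) := by
      apply mem_normalizer_of_map_conj_eq
      rw [map_conj_eq_iff_le, Subgroup.map_sup]
      apply sup_le
      · rintro _ ⟨y, hy, rfl⟩
        show n * y * n⁻¹ ∈ Q₂ ⊔ D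
        have h1 : n * y * n⁻¹ * y⁻¹ ∈ D := by
          refine ⟨?_, ?_⟩
          · have : y * n⁻¹ * y⁻¹ ∈ N := hNn.conj_mem _ (N.inv_mem hn) y
            have h2 := N.mul_mem hn this
            have e : n * y * n⁻¹ * y⁻¹ = n * (y * n⁻¹ * y⁻¹) := by group
            rw [e]; exact h2
          · have : n * y * n⁻¹ ∈ M := hMn.conj_mem _ hy.2 n
            exact M.mul_mem this (M.inv_mem hy.2)
        have e : n * y * n⁻¹ = (n * y * n⁻¹ * y⁻¹) * y := by group
        rw [e]
        exact Subgroup.mul_mem _ ((le_sup_right : D ≤ Q₂ ⊔ D) h1) ((le_sup_left : Q₂ ≤ Q₂ ⊔ D) hy)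
      · rintro _ ⟨y, hy, rfl⟩
        exact (le_sup_right : D ≤ Q₂ ⊔ D) (hDn.conj_mem y hy n)
    obtain ⟨r, hr, hrn⟩ := Helper7.exists_mul_mem_normalizer hQ₂p hDcop hnorm
    have hrnH : r * n ∈ H := hLnorm Q₂ _ hQ₂ne inf_le_left hrn
    have e : n = r⁻¹ * (r * n) := by group
    rw [e]
    exact Subgroup.mul_mem _ ((le_sup_left : D ≤ D ⊔ H) (D.inv_mem hr))
      ((le_sup_right : H ≤ D ⊔ H) hrnH)
  -- D ≤ H by coprime generation
  have hcomm : x₁ * x₂ = x₂ * x₁ := by
    have h1 : x₁ * x₂ * x₁⁻¹ * x₂⁻¹ ∈ (S : Subgroup G) ⊓ D := by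
      refine ⟨?_, ?_, ?_⟩
      · exact Subgroup.mul_mem _ (Subgroup.mul_mem _ (Subgroup.mul_mem _ hx₁S hx₂S)
          (Subgroup.inv_mem _ hx₁S)) (Subgroup.inv_mem _ hx₂S)
      · have : x₂ * x₁⁻¹ * x₂⁻¹ ∈ N := hNn.conj_mem _ (N.inv_mem hx₁N) x₂
        have e : x₁ * x₂ * x₁⁻¹ * x₂⁻¹ = x₁ * (x₂ * x₁⁻¹ * x₂⁻¹) := by group
        rw [e]; exact N.mul_mem hx₁N this
      · have : x₁ * x₂ * x₁⁻¹ ∈ M := hMn.conj_mem _ hx₂M x₁
        exact M.mul_mem this (M.inv_mem hx₂M)
    rw [hSD, Subgroup.mem_bot] at h1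
    calc x₁ * x₂ = (x₁ * x₂ * x₁⁻¹ * x₂⁻¹) * (x₂ * x₁) := by group
      _ = x₂ * x₁ := by rw [h1, one_mul]
  set E := Subgroup.zpowers x₁ ⊔ Subgroup.zpowers x₂ with hE
  have hx₁p : x₁ ^ p = 1 := by rw [← hx₁o]; exact pow_orderOf_eq_one x₁
  have hx₂p : x₂ ^ p = 1 := by rw [← hx₂o]; exact pow_orderOf_eq_one x₂
  have hEel : Cfsg.IsElementaryAbelian p E := by
    apply Helper3.isElementaryAbelian_sup (Helper3.isElementaryAbelian_zpowers hx₁p)
      (Helper3.isElementaryAbelian_zpowers hx₂p)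
    rw [Subgroup.zpowers_le]
    rw [Subgroup.mem_centralizer_iff]
    intro y hy
    obtain ⟨k, rfl⟩ := Subgroup.mem_zpowers_iff.mp hy
    exact ((Commute.zpow_left (show Commute x₁ x₂ from hcomm) k)).eq
  have hES : E ≤ (S : Subgroup G) :=
    sup_le ((Subgroup.zpowers_le).mpr hx₁S) ((Subgroup.zpowers_le).mpr hx₂S)
  have hED : E ≤ Subgroup.normalizer (D : Set G) := by
    rw [Subgroup.normalizer_eq_top]; exact le_top
  have hgen := Helper7.le_hyperGen p E D hEel hnd hED
  have hx₂notin : x₂ ∉ Subgroup.zpowers x₁ := by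
    intro h
    have hx₂N : x₂ ∈ N := ((Subgroup.zpowers_le).mpr hx₁N) h
    have : x₂ ∈ (S : Subgroup G) ⊓ D := ⟨hx₂S, hx₂N, hx₂M⟩
    rw [hSD, Subgroup.mem_bot] at this
    exact hx₂ne this
  have hEcard : p < Nat.card E := by
    by_contra hle
    push Not at hle
    have h1 : Nat.card (Subgroup.zpowers x₁) = p := by rw [Nat.card_zpowers, hx₁o]
    have h2 : Subgroup.zpowers x₁ = E :=
      Subgroup.eq_of_le_of_card_ge le_sup_left (by rw [h1]; exact hle)
    apply hx₂notin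
    rw [h2]
    exact (le_sup_right : Subgroup.zpowers x₂ ≤ E) (Subgroup.mem_zpowers x₂)
  have hDH : D ≤ H := by
    refine hgen.trans ?_
    unfold Helper7.hyperGen
    apply iSup_le
    rintro ⟨B, hBE, hBidx⟩
    have hBne : B ≠ ⊥ := by
      intro hB
      rw [hB, Subgroup.relIndex_bot_left] at hBidx
      exact absurd hBidx (not_le.mpr hEcard)
    obtain ⟨y, hy1⟩ := (Subgroup.ne_bot_iff_exists_ne_one).mp hBne
    intro d hd
    have hdy : (y : G) * d = d * y := (hd.2 y y.2)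
    apply hL (Subgroup.zpowers (y : G)) d
    · intro h
      rw [Subgroup.zpowers_eq_bot] at h
      exact hy1 (Subtype.ext h)
    · exact (Subgroup.zpowers_le).mpr (hES (hBE y.2))
    · intro q hq
      obtain ⟨k, rfl⟩ := Subgroup.mem_zpowers_iff.mp hq
      have hc : Commute (y : G) d := hdy
      have : d⁻¹ * (y : G) ^ k * d = (y : G) ^ k := by
        have := (hc.zpow_left k).eq
        rw [mul_assoc, this]; group
      rw [this]
      exact Subgroup.zpow_mem _ (hES (hBE y.2)) k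
  -- conclusion
  have htop : (⊤ : Subgroup G) ≤ H := by
    refine hNH.trans (sup_le le_rfl (hND.trans (sup_le hDH le_rfl)))
  obtain ⟨g₀, hg₀⟩ := MulAction.exists_smul_eq G S T
  have hg₀H : g₀ ∈ H := htop (Subgroup.mem_top _)
  rw [hH, mem_componentStabilizer, hg₀] at hg₀H
  exact hST hg₀H

end Cfsg.Agent.S3058
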