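import Mathlib
import Cfsg.Statements.S0622
import Cfsg.Agent.Lib.Helper4.ThompsonTransport

set_option autoImplicit false
open Cfsg

namespace Cfsg.Agent.S0622

open Cfsg.Agent.Helper4

universe u

/-- `Ω₁(Z(S)) ≤ Ω₁(Z(J(S)))` in a finite group. -/
theorem omegaOne_center_le {S : Type u} [Group S] [Finite S] (p : ℕ) :
    Cfsg.omegaOne p (Subgroup.center S) ≤ Cfsg.omegaCenterThompson p S := by
  unfold Cfsg.omegaCenterThompson Cfsg.omegaOne
  apply Subgroup.closure_mono
  rintro x ⟨hxZ, hxp⟩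
  obtain ⟨A0, hA0⟩ := maxElementaryAbelianSubgroups_nonempty (S := S) p
  have hxA0 : x ∈ A0 :=
    mem_of_mem_maxElementaryAbelian hA0 (fun a _ => (Subgroup.mem_center_iff.1 hxZ) a) hxp
  refine ⟨Subgroup.mem_inf.2 ⟨?_, ?_⟩, hxp⟩
  · exact (le_sSup hA0 : A0 ≤ Cfsg.thompsonSubgroup p S) hxA0
  · rw [Subgroup.mem_centralizer_iff]
    intro h _
    exact (Subgroup.mem_center_iff.1 hxZ) h

/-- The image of `Ω₁(Z(J(S)))` under an injective homomorphism mapping `J(S)` onto a normal subgroup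
is normal. -/
theorem omegaCenterThompson_map_normal {S H : Type u} [Group S] [Group H] (p : ℕ) (τ : S →* H)
    (hinj : Function.Injective τ) (hJn : ((Cfsg.thompsonSubgroup p S).map τ).Normal) :
    ((Cfsg.omegaCenterThompson p S).map τ).Normal := by
  set J := Cfsg.thompsonSubgroup p S with hJ
  set X : Set S := {x : S | x ∈ J ⊓ Subgroup.centralizer (J : Set S) ∧ x ^ p = 1} with hX
  have hT : (Cfsg.omegaCenterThompson p S).map τ = Subgroup.closure (τ '' X) := by
    unfold Cfsg.omegaCenterThompson Cfsg.omegaOne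
    rw [MonoidHom.map_closure]
  have hgen : ∀ h : H, ∀ y ∈ τ '' X, h * y * h⁻¹ ∈ τ '' X := by
    rintro h _ ⟨x, ⟨hxJC, hxp⟩, rfl⟩
    obtain ⟨hxJ, hxC⟩ := Subgroup.mem_inf.1 hxJC
    have h1 : h * τ x * h⁻¹ ∈ J.map τ := hJn.conj_mem _ ⟨x, hxJ, rfl⟩ h
    obtain ⟨y, hyJ, hy⟩ := h1
    refine ⟨y, ⟨Subgroup.mem_inf.2 ⟨hyJ, ?_⟩, ?_⟩, hy⟩
    · rw [Subgroup.mem_centralizer_iff]
      intro j hj
      apply hinj
      rw [map_mul, map_mul, hy]
      have h2 : h⁻¹ * τ j * h⁻¹⁻¹ ∈ J.map τ := hJn.conj_mem _ ⟨j, hj, rfl⟩ h⁻¹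
      obtain ⟨j', hj'J, hj'⟩ := h2
      have h3 : j' * x = x * j' := (Subgroup.mem_centralizer_iff.1 hxC) j' hj'J
      have h4 : τ j' * τ x = τ x * τ j' := by rw [← map_mul, h3, map_mul]
      rw [hj'] at h4
      have h5 : τ j * (h * τ x * h⁻¹) = h * ((h⁻¹ * τ j * h⁻¹⁻¹) * τ x) * h⁻¹ := by group
      have h6 : h * τ x * h⁻¹ * τ j = h * (τ x * (h⁻¹ * τ j * h⁻¹⁻¹)) * h⁻¹ := by group
      rw [h5, h6, h4]
    · apply hinj
      rw [map_pow, hy, conj_pow, ← map_pow, hxp, map_one, mul_one, mul_inv_cancel]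
  rw [hT]
  constructor
  intro n hn h
  induction hn using Subgroup.closure_induction with
  | mem y hy => exact Subgroup.subset_closure (hgen h y hy)
  | one => simp only [mul_one, mul_inv_cancel]; exact Subgroup.one_mem _
  | mul y z _ _ hy hz =>
    have : h * (y * z) * h⁻¹ = (h * y * h⁻¹) * (h * z * h⁻¹) := by group
    rw [this]; exact Subgroup.mul_mem _ hy hz
  | inv y _ hy =>
    have : h * y⁻¹ * h⁻¹ = (h * y * h⁻¹)⁻¹ := by group
    rw [this]; exact Subgroup.inv_mem _ hy

theorem stableNormalClosure_map_le {S S' : Type u} [Group S] [Group S'] (p : ℕ) (e : S ≃* S') :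
    (Cfsg.stableNormalClosure p S).map e.toMonoidHom ≤ Cfsg.stableNormalClosure p S' := by
  unfold Cfsg.stableNormalClosure
  apply le_sInf
  rintro W' ⟨hW'1, hW'2⟩
  rw [Subgroup.map_le_iff_le_comap]
  apply sInf_le
  refine ⟨?_, ?_⟩
  · rw [← Subgroup.map_le_iff_le_comap]
    exact (omegaOne_center_map_le e).trans hW'1
  · intro H _ τ hτ
    have h1 := hW'2 H (τ.comp e.symm.toMonoidHom) (isStableEmbedding_comp e.symm hτ)
    rw [← Subgroup.map_map] at h1
    have h2 : W'.map e.symm.toMonoidHom = W'.comap e.toMonoidHom :=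
      (Subgroup.comap_equiv_eq_map_symm e W').symm
    rw [h2] at h1
    exact h1

/-- Basic properties of the stable normal closure W(S) of Ω₁(Z(S)) in a finite p-group: characteristic, squeezed between Ω₁(Z(S)) and Ω₁(Z(J(S))), nontrivial for S ≠ 1, and transported by group isomorphisms. -/
theorem result {S : Type u} [Group S] [Finite S] {p : ℕ} [Fact p.Prime] (hS : IsPGroup p S) : (Cfsg.stableNormalClosure p S).Characteristic ∧ Cfsg.omegaOne p (Subgroup.center S) ≤ Cfsg.stableNormalClosure p S ∧ Cfsg.stableNormalClosure p S ≤ Cfsg.omegaCenterThompson p S ∧ (Nontrivial S → Cfsg.stableNormalClosure p S ≠ ⊥) ∧ ∀ (S' : Type u) [Group S'] (η : S ≃* S'), (Cfsg.stableNormalClosure p S).map η.toMonoidHom = Cfsg.stableNormalClosure p S' := by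
  have h5 : ∀ (S' : Type u) [Group S'] (η : S ≃* S'),
      (Cfsg.stableNormalClosure p S).map η.toMonoidHom = Cfsg.stableNormalClosure p S' := by
    intro S' _ η
    exact map_eq_of_le_of_symm_le η (stableNormalClosure_map_le p η)
      (stableNormalClosure_map_le p η.symm)
  have h2 : Cfsg.omegaOne p (Subgroup.center S) ≤ Cfsg.stableNormalClosure p S := by
    unfold Cfsg.stableNormalClosure
    exact le_sInf (fun W hW => hW.1)
  refine ⟨?_, h2, ?_, ?_, h5⟩
  · rw [Subgroup.characteristic_iff_map_eq]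
    intro ϕ
    exact h5 S ϕ
  · unfold Cfsg.stableNormalClosure
    apply sInf_le
    refine ⟨omegaOne_center_le p, ?_⟩
    intro H _ τ hτ
    exact omegaCenterThompson_map_normal p τ hτ.1 hτ.2.2.2.2.1
  · intro hnt hbot
    have hcn := IsPGroup.center_nontrivial hS
    have hZp : IsPGroup p (Subgroup.center S) := hS.to_subgroup _
    obtain ⟨n, hn0, hn⟩ := hZp.nontrivial_iff_card.mp hcn
    have hdvd : p ∣ Nat.card (Subgroup.center S) := by
      rw [hn]; exact dvd_pow_self p (ne_of_gt hn0)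
    obtain ⟨x, hx⟩ := exists_prime_orderOf_dvd_card' p hdvd
    have hxp : (x : S) ^ p = 1 := by
      have := pow_orderOf_eq_one x
      rw [hx] at this
      have h := congrArg Subtype.val this
      simpa using h
    have hx1 : (x : S) ≠ 1 := by
      intro h
      have : x = 1 := Subtype.ext h
      rw [this, orderOf_one] at hx
      have hp : p.Prime := Fact.out
      exact hp.one_lt.ne hx
    have hmem : (x : S) ∈ Cfsg.omegaOne p (Subgroup.center S) := by
      unfold Cfsg.omegaOne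
      exact Subgroup.subset_closure ⟨x.2, hxp⟩
    have := h2 hmem
    rw [hbot, Subgroup.mem_bot] at this
    exact hx1 this

end Cfsg.Agent.S0622
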