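import Mathlib
import Cfsg.Statements.S0607
import Cfsg.Agent.Lib.Helper27.Timmesfeld
import Cfsg.Agent.Lib.Helper3.Thompson
import Cfsg.Agent.S0599
import Cfsg.Agent.S0606

set_option autoImplicit false
open Cfsg
open scoped commutatorElement

namespace Cfsg.Agent.S0607

open Cfsg.Agent.Helper27

/-- Elements of the join of two commuting subgroups are products. -/
theorem exists_mul_of_mem_sup {G : Type*} [Group G] {H K : Subgroup G}
    (hHK : K ≤ Subgroup.centralizer (H : Set G)) {x : G} (hx : x ∈ H ⊔ K) :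
    ∃ h ∈ H, ∃ k ∈ K, x = h * k := by
  let D : Subgroup G :=
    { carrier := {x | ∃ h ∈ H, ∃ k ∈ K, x = h * k}
      mul_mem' := by
        rintro _ _ ⟨h, hh, k, hk, rfl⟩ ⟨h', hh', k', hk', rfl⟩
        refine ⟨h * h', H.mul_mem hh hh', k * k', K.mul_mem hk hk', ?_⟩
        have := hHK hk h' hh'
        calc h * k * (h' * k') = h * (k * h') * k' := by group
          _ = h * (h' * k) * k' := by rw [this]
          _ = h * h' * (k * k') := by group
      one_mem' := ⟨1, H.one_mem, 1, K.one_mem, by simp⟩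
      inv_mem' := by
        rintro _ ⟨h, hh, k, hk, rfl⟩
        refine ⟨h⁻¹, H.inv_mem hh, k⁻¹, K.inv_mem hk, ?_⟩
        have := hHK (K.inv_mem hk) h⁻¹ (H.inv_mem hh)
        rw [mul_inv_rev, this] }
  have hle : H ⊔ K ≤ D := by
    apply sup_le
    · intro h hh
      exact ⟨h, hh, 1, K.one_mem, by simp⟩
    · intro k hk
      exact ⟨1, H.one_mem, k, hk, by simp⟩
  exact hle hx

/-- The replacement Theorem for the Thompson subgroup: from A of maximal order among elementary abelian p-subgroups one obtains A₀ = [V, A] C_A([V, A]) of the same kind, quadratic on V and nontrivial on V when A is. -/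
theorem result {G : Type*} [Group G] [Finite G] {p : ℕ} [Fact p.Prime] (V : Subgroup G) [V.Normal] (hV : Cfsg.IsElementaryAbelian p V) (A : Subgroup G) (hA : A ∈ Cfsg.maxElementaryAbelianSubgroups p G) : (⁅V, A⁆ ⊔ (A ⊓ Subgroup.centralizer ((⁅V, A⁆ : Subgroup G) : Set G))) ∈ Cfsg.maxElementaryAbelianSubgroups p G ∧ ⁅⁅V, ⁅V, A⁆ ⊔ (A ⊓ Subgroup.centralizer ((⁅V, A⁆ : Subgroup G) : Set G))⁆, ⁅V, A⁆ ⊔ (A ⊓ Subgroup.centralizer ((⁅V, A⁆ : Subgroup G) : Set G))⁆ = ⊥ ∧ (⁅V, A⁆ ≠ ⊥ → ⁅V, ⁅V, A⁆ ⊔ (A ⊓ Subgroup.centralizer ((⁅V, A⁆ : Subgroup G) : Set G))⁆ ≠ ⊥) := by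
  classical
  have hbo := Cfsg.Agent.S0606.result V hV A hA
  have hAV : A ≤ Subgroup.normalizer (V : Set G) := by
    rw [Subgroup.normalizer_eq_top]; exact le_top
  obtain ⟨-, hcv, hnt⟩ := Cfsg.Agent.S0599.result V A hV hAV hbo V le_rfl
  obtain ⟨hbest, hab, -⟩ := hbo
  have hcomm : ∀ x ∈ V, ∀ y ∈ V, x * y = y * x := fun x hx y hy =>
    Helper3.IsElementaryAbelian.commute hV hx hy
  have hAcomm : ∀ x ∈ A, ∀ y ∈ A, x * y = y * x := fun x hx y hy =>
    Helper3.IsElementaryAbelian.commute hA.1 hx hy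
  have h : TimHyp V A := ⟨hcomm, hAV, hab, hbest⟩
  set X := ⁅V, A⁆ with hX
  set A₀ := A ⊓ Subgroup.centralizer (X : Set G) with hA₀
  set C := V ⊓ Subgroup.centralizer (A : Set G) with hC
  have hgood : Nat.card A * Nat.card C ≤ Nat.card A₀ * Nat.card (X ⊔ C : Subgroup G) :=
    h.good_commutator le_rfl
  have hXV : X ≤ V := Subgroup.le_normalizer_iff_commutator_le_left.mp hAV
  have hCA : C ≤ A := by
    intro x hx
    exact Helper3.mem_of_mem_centralizer_of_max hA (hV.2 x hx.1) hx.2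
  have hCA₀ : C ≤ A₀ := by
    intro x hx
    refine ⟨hCA hx, ?_⟩
    intro y hy
    exact hcomm y (hXV hy) x hx.1
  have hEA : IsElementaryAbelian p (X ⊔ A₀) :=
    Helper3.isElementaryAbelian_sup (Helper3.isElementaryAbelian_mono hXV hV)
      (Helper3.isElementaryAbelian_mono inf_le_left hA.1) inf_le_right
  -- the order of the new subgroup
  have hstar : X ⊔ A₀ = (V ⊓ Subgroup.centralizer (A₀ : Set G)) ⊔ A₀ := by
    rw [hcv, sup_assoc, sup_of_le_right hCA₀]
  have hinf : (V ⊓ Subgroup.centralizer (A₀ : Set G)) ⊓ A₀ = C := by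
    apply le_antisymm
    · rintro x ⟨⟨hxV, -⟩, hxA₀⟩
      refine ⟨hxV, ?_⟩
      intro y hy
      exact hAcomm y hy x hxA₀.1
    · intro x hx
      refine ⟨⟨hx.1, ?_⟩, hCA₀ hx⟩
      exact Subgroup.centralizer_le (SetLike.coe_subset_coe.mpr inf_le_left) hx.2
  have hnorm : (V ⊓ Subgroup.centralizer (A₀ : Set G)) ≤ Subgroup.normalizer (A₀ : Set G) :=
    inf_le_right.trans (Subgroup.centralizer_le_normalizer _)
  have hprod := card_sup_mul_card_inf _ _ hnorm
  rw [hinf, ← hstar, hcv] at hprod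
  -- hprod : card (X ⊔ A₀) * card C = card (X ⊔ C) * card A₀
  have hCpos : 0 < Nat.card C := Nat.card_pos
  have hcardle : Nat.card A ≤ Nat.card (X ⊔ A₀ : Subgroup G) := by
    apply Nat.le_of_mul_le_mul_right _ hCpos
    rw [hprod, mul_comm (Nat.card (X ⊔ C : Subgroup G))]
    exact hgood
  refine ⟨⟨hEA, fun B hB => (hA.2 B hB).trans hcardle⟩, ?_, ?_⟩
  · -- quadratic action
    have h1 : ⁅V, X ⊔ A₀⁆ ≤ X := by
      rw [Subgroup.commutator_le]
      intro v hv y hy
      obtain ⟨x, hx, a, ha, rfl⟩ := exists_mul_of_mem_sup (inf_le_right : A₀ ≤ _) hy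
      have hva : ⁅v, a⁆ ∈ X := Subgroup.commutator_mem_commutator hv ha.1
      have hxV := hXV hx
      have e1 : ⁅v, x * a⁆ = x * (x⁻¹ * v * x * a * v⁻¹ * a⁻¹) * x⁻¹ := by
        rw [commutatorElement_def]; group
      have e2 : x⁻¹ * v * x = v := by
        rw [mul_assoc, hcomm v hv x hxV]; group
      have e3 : x * ⁅v, a⁆ * x⁻¹ = ⁅v, a⁆ := by
        rw [hcomm x hxV _ (hXV hva)]; group
      rw [e1, e2]
      have : x * (v * a * v⁻¹ * a⁻¹) * x⁻¹ = x * ⁅v, a⁆ * x⁻¹ := by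
        rw [commutatorElement_def]
      rw [this, e3]
      exact hva
    have h2 : X ≤ Subgroup.centralizer ((X ⊔ A₀ : Subgroup G) : Set G) := by
      rw [centralizer_sup]
      apply le_inf
      · intro x hx y hy
        exact hcomm y (hXV hy) x (hXV hx)
      · rw [Subgroup.le_centralizer_iff]
        exact inf_le_right
    rw [Subgroup.commutator_eq_bot_iff_le_centralizer]
    exact h1.trans h2
  · intro hne hbot
    apply hnt hne
    rw [eq_bot_iff, ← hbot]
    exact Subgroup.commutator_mono le_rfl le_sup_right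

end Cfsg.Agent.S0607
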