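import Mathlib
import Cfsg.Statements.S0068

set_option autoImplicit false
open Cfsg

namespace Cfsg.Agent.S0068

/-- An involution acting without fixed points on a finite normal subgroup inverts it. -/
theorem inverts {G : Type*} [Group G] [Finite G] (K : Subgroup G) [hKn : K.Normal] (t : G)
    (ht : orderOf t = 2) (hfix : K ⊓ Subgroup.centralizer {t} = ⊥) :
    ∀ k ∈ K, t * k * t⁻¹ = k⁻¹ := by
  have ht2 : t * t = 1 := by
    have := pow_orderOf_eq_one t
    rw [ht, pow_two] at this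
    exact this
  have htinv : t⁻¹ = t := inv_eq_of_mul_eq_one_left ht2
  let f : K → K := fun k => ⟨(k : G)⁻¹ * (t * k * t⁻¹), K.mul_mem (K.inv_mem k.2) (hKn.conj_mem k k.2 t)⟩
  have hinj : Function.Injective f := by
    intro k k' h
    have h1 : (k : G)⁻¹ * (t * k * t⁻¹) = (k' : G)⁻¹ * (t * k' * t⁻¹) := congrArg Subtype.val h
    have h2 : ((k' : G) * (k : G)⁻¹) * t = t * ((k' : G) * (k : G)⁻¹) := by
      calc ((k' : G) * (k : G)⁻¹) * t = (k' : G) * ((k : G)⁻¹ * (t * k * t⁻¹)) * t * (k : G)⁻¹ := by group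
        _ = (k' : G) * ((k' : G)⁻¹ * (t * k' * t⁻¹)) * t * (k : G)⁻¹ := by rw [h1]
        _ = t * ((k' : G) * (k : G)⁻¹) := by group
    have h3 : (k' : G) * (k : G)⁻¹ ∈ K ⊓ Subgroup.centralizer {t} := by
      refine Subgroup.mem_inf.mpr ⟨K.mul_mem k'.2 (K.inv_mem k.2), ?_⟩
      rw [Subgroup.mem_centralizer_iff]
      intro x hx
      rw [Set.mem_singleton_iff] at hx
      subst hx
      exact h2.symm
    rw [hfix, Subgroup.mem_bot] at h3
    apply Subtype.ext
    have : (k' : G) = k := by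
      calc (k' : G) = ((k' : G) * (k : G)⁻¹) * k := by group
        _ = k := by rw [h3, one_mul]
    exact this.symm
  have hsurj : Function.Surjective f := Finite.surjective_of_injective hinj
  intro x hx
  obtain ⟨k, hk⟩ := hsurj ⟨x, hx⟩
  have hx' : x = (k : G)⁻¹ * (t * k * t⁻¹) := (congrArg Subtype.val hk).symm
  rw [hx', htinv]
  calc t * ((k : G)⁻¹ * (t * k * t)) * t = t * (k : G)⁻¹ * t * k * (t * t) := by group
    _ = t * (k : G)⁻¹ * t * k := by rw [ht2, mul_one]
    _ = t⁻¹ * (k : G)⁻¹ * t⁻¹ * k := by rw [htinv]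
    _ = ((k : G)⁻¹ * (t * k * t))⁻¹ := by group

/-- Frobenius complements of even order: if H complements a nontrivial normal subgroup K, each nonidentity element of H has trivial centraliser in K, and H has even order, then H contains a unique involution s, K is abelian, and s inverts every element of K. -/
theorem result {G : Type*} [Group G] [Finite G] (K H : Subgroup G) [K.Normal]
    (hc : Subgroup.IsComplement' K H) (hK : K ≠ ⊥) (hfpf : ∀ h ∈ H, h ≠ 1 → K ⊓ Subgroup.centralizer {h} = ⊥)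
    (heven : 2 ∣ Nat.card H) :
    (∃ s ∈ H, orderOf s = 2 ∧ (∀ t ∈ H, orderOf t = 2 → t = s) ∧ ∀ k ∈ K, s * k * s⁻¹ = k⁻¹) ∧ IsMulCommutative K := by
  haveI : Fact (Nat.Prime 2) := ⟨Nat.prime_two⟩
  obtain ⟨s', hs'⟩ := exists_prime_orderOf_dvd_card' (G := H) 2 heven
  set s : G := (s' : G) with hs
  have hsH : s ∈ H := s'.2
  have hso : orderOf s = 2 := by rw [hs, Subgroup.orderOf_coe]; exact hs'
  have hne1 : ∀ t : G, orderOf t = 2 → t ≠ 1 := by
    intro t ht h1
    rw [h1, orderOf_one] at ht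
    omega
  have hinv : ∀ t ∈ H, orderOf t = 2 → ∀ k ∈ K, t * k * t⁻¹ = k⁻¹ := fun t htH ht =>
    inverts K t ht (hfpf t htH (hne1 t ht))
  have hsinv := hinv s hsH hso
  have hs2 : s * s = 1 := by
    have := pow_orderOf_eq_one s
    rw [hso, pow_two] at this
    exact this
  refine ⟨⟨s, hsH, hso, ?_, hsinv⟩, ?_⟩
  · intro t htH ht
    have htinv := hinv t htH ht
    by_contra hts
    have hu : s * t ≠ 1 := by
      intro h
      apply hts
      have h1 : t = s⁻¹ := (inv_eq_of_mul_eq_one_right h).symm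
      rw [h1]
      exact inv_eq_of_mul_eq_one_left hs2
    have h1 := hfpf (s * t) (H.mul_mem hsH htH) hu
    apply hK
    rw [eq_bot_iff, ← h1]
    intro k hk
    refine Subgroup.mem_inf.mpr ⟨hk, ?_⟩
    rw [Subgroup.mem_centralizer_iff]
    intro x hx
    rw [Set.mem_singleton_iff] at hx
    subst hx
    have h2 : t * k * t⁻¹ = k⁻¹ := htinv k hk
    have h3 : s * k⁻¹ * s⁻¹ = k := by
      have := hsinv k⁻¹ (K.inv_mem hk)
      rwa [inv_inv] at this
    calc s * t * k = s * (t * k * t⁻¹) * s⁻¹ * (s * t) := by group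
      _ = k * (s * t) := by rw [h2, h3]
  · refine ⟨⟨fun a b => ?_⟩⟩
    apply Subtype.ext
    have ha := hsinv a a.2
    have hb := hsinv b b.2
    have hab := hsinv (a * b) (K.mul_mem a.2 b.2)
    have h1 : s * ((a : G) * b) * s⁻¹ = (s * a * s⁻¹) * (s * b * s⁻¹) := by group
    rw [h1, ha, hb] at hab
    change (a : G) * b = b * a
    have h2 : ((a : G) * b)⁻¹ = (b : G)⁻¹ * (a : G)⁻¹ := by group
    rw [h2] at hab
    calc (a : G) * b = ((b : G)⁻¹ * (a : G)⁻¹)⁻¹ := by group
      _ = ((a : G)⁻¹ * (b : G)⁻¹)⁻¹ := by rw [hab]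
      _ = b * a := by group

end Cfsg.Agent.S0068
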