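import Mathlib
import Cfsg.Statements.S4726
import Cfsg.Agent.Lib.Helper23.BlockInducedDefect

set_option autoImplicit false
open Cfsg Cfsg.Agent.Helper23.Blk Cfsg.Agent.Helper24 Cfsg.Agent.Helper18
open scoped ComplexConjugate
set_option linter.style.haveILetI false

namespace Cfsg.Agent.S4726

/-- Let p be a prime, M a maximal ideal of the algebraic integers containing p, H a subgroup of the finite group G and b a p-block of H with defect group D₀ such that C_G(D₀) ≤ H. Then b induces a block of G, and for every block B of G induced by b there is a defect group D of B with Z(D) ≤ Z(D₀) ≤ D₀ ≤ D (as subgroups of G). In particular, if the defect groups of B are abelian then D₀ is a defect group of B. -/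
theorem result {G : Type*} [Group G] [Finite G] (p : ℕ) [Fact p.Prime] (M : Ideal Cfsg.AlgInt) (hM : Cfsg.IsPModular p M) (H : Subgroup G) (b : Set (Cfsg.IrrCharacter ↥H)) (hb : Cfsg.IsPBlock M b) (D₀ : Subgroup ↥H) (hD₀ : Cfsg.IsDefectGroup p M b D₀) (hC : Subgroup.centralizer ((D₀.map H.subtype : Subgroup G) : Set G) ≤ H) : Cfsg.InducedBlockDefined M H b ∧ ∀ B : Set (Cfsg.IrrCharacter G), Cfsg.IsInducedBlock M H b B → (∃ D : Subgroup G, Cfsg.IsDefectGroup p M B D ∧ (Subgroup.center ↥D).map D.subtype ≤ ((Subgroup.center ↥D₀).map D₀.subtype).map H.subtype ∧ ((Subgroup.center ↥D₀).map D₀.subtype).map H.subtype ≤ D₀.map H.subtype ∧ D₀.map H.subtype ≤ D) ∧ (∀ D : Subgroup G, Cfsg.IsDefectGroup p M B D → IsMulCommutative ↥D → Cfsg.IsDefectGroup p M B (D₀.map H.subtype)) := by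
  classical
  haveI : Fintype G := Fintype.ofFinite G
  haveI hMp : M.IsPrime := hM.2.1.isPrime
  haveI : Fintype (Subgroup.centralizer ((D₀.map H.subtype : Subgroup G) : Set G)) :=
    Fintype.ofFinite _
  obtain ⟨ξ, χ, hξ, hind, hpair⟩ := exists_induced_of_defect hM hb hD₀ hC
  refine ⟨⟨_, hind⟩, ?_⟩
  intro B hB
  have hBeq : B = blockOf M (χ : G → ℂ) := isInducedBlock_unique' hM hB hind
  subst hBeq
  obtain ⟨D, e, hle, hno⟩ := exists_maximal_above (p := p) (M := M) _ (D₀.map H.subtype)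
    (blockOf M (ξ : Subgroup.centralizer ((D₀.map H.subtype : Subgroup G) : Set G) → ℂ)) rfl
  have hDe : IsBrauerPairOf p M (blockOf M (χ : G → ℂ)) D e :=
    isBrauerPairOf_of_subpairLE hM hle hpair
  have hDdef : IsDefectGroup p M (blockOf M (χ : G → ℂ)) D :=
    isDefectGroup_of_no_proper_superpair hM hDe hno
  have hPD : D₀.map H.subtype ≤ D := chain_le hle
  obtain ⟨R, hR, hRle⟩ := centralizer_le_defectGroup_of_subpairLE hM hDe.1 hle
  have hRP := defectGroup_le_of_brauer hM hb hD₀ rfl hC ξ hξ hR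
  have hDC : D ⊓ Subgroup.centralizer ((D₀.map H.subtype : Subgroup G) : Set G) ≤
      D₀.map H.subtype := by
    intro z hz
    have h1 : (⟨z, hz.2⟩ : Subgroup.centralizer ((D₀.map H.subtype : Subgroup G) : Set G)) ∈
        R := hRle (by rw [Subgroup.mem_subgroupOf]; exact hz)
    exact hRP ⟨_, h1, rfl⟩
  have hZ : (Subgroup.center ↥D).map D.subtype ≤ D₀.map H.subtype := by
    rintro _ ⟨z, hz, rfl⟩
    apply hDC
    refine ⟨z.2, ?_⟩
    show D.subtype z ∈ Subgroup.centralizer ((D₀.map H.subtype : Subgroup G) : Set G)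
    rw [Subgroup.mem_centralizer_iff]
    intro y hy
    have h1 := Subgroup.mem_center_iff.1 hz ⟨y, hPD hy⟩
    exact congrArg (fun t : D => (t : G)) h1
  constructor
  · refine ⟨D, hDdef, ?_, Subgroup.map_mono (Subgroup.map_subtype_le _), hPD⟩
    rintro _ ⟨z, hz, rfl⟩
    have hzP : D.subtype z ∈ D₀.map H.subtype := hZ ⟨z, hz, rfl⟩
    obtain ⟨d, hd, hdz⟩ := hzP
    refine ⟨d, ⟨⟨d, hd⟩, ?_, rfl⟩, hdz⟩
    rw [SetLike.mem_coe, Subgroup.mem_center_iff]
    intro d'
    apply Subtype.ext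
    apply Subtype.ext
    have hd'D : (((d' : ↥D₀) : ↥H) : G) ∈ D := hPD ⟨(d' : ↥H), d'.2, rfl⟩
    have h1 := Subgroup.mem_center_iff.1 hz ⟨_, hd'D⟩
    have h2 := congrArg (fun t : D => (t : G)) h1
    simp only [Subgroup.coe_mul] at h2
    have hdz' : ((d : ↥H) : G) = (z : G) := hdz
    show (((d' : ↥D₀) : ↥H) : G) * ((d : ↥H) : G) = ((d : ↥H) : G) * (((d' : ↥D₀) : ↥H) : G)
    rw [hdz']
    exact h2
  · intro D' hD' hcomm
    obtain ⟨c, hc⟩ := isDefectGroup_conj_of hM ⟨χ, rfl⟩ hDdef hD'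
    have hDcomm : ∀ x ∈ D, ∀ y ∈ D, x * y = y * x := by
      intro x hx y hy
      rw [← hc] at hx hy
      obtain ⟨x', hx', rfl⟩ := hx
      obtain ⟨y', hy', rfl⟩ := hy
      have h1 := hcomm.is_comm.comm (⟨x', hx'⟩ : D') ⟨y', hy'⟩
      have h2 : x' * y' = y' * x' := congrArg (fun t : D' => (t : G)) h1
      simp only [MulEquiv.coe_toMonoidHom, MulAut.conj_apply]
      calc c * x' * c⁻¹ * (c * y' * c⁻¹) = c * (x' * y') * c⁻¹ := by group
        _ = c * (y' * x') * c⁻¹ := by rw [h2]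
        _ = c * y' * c⁻¹ * (c * x' * c⁻¹) := by group
    have hDP : D ≤ D₀.map H.subtype := by
      intro x hx
      apply hZ
      refine ⟨⟨x, hx⟩, ?_, rfl⟩
      rw [SetLike.mem_coe, Subgroup.mem_center_iff]
      intro y
      apply Subtype.ext
      exact hDcomm y y.2 x hx
    have heq : D₀.map H.subtype = D := le_antisymm hPD hDP
    rw [heq]
    exact hDdef

end Cfsg.Agent.S4726
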