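import Mathlib
import Cfsg.Statements.S4438
import Cfsg.Agent.Lib.Helper5.KGBlock
import Cfsg.Agent.Lib.Helper23.BlockFR2

set_option autoImplicit false
open Cfsg

namespace Cfsg.Agent.S4438

open Cfsg.Agent.Helper23.Blk Cfsg.Agent.Helper24 Cfsg.Agent.Helper18 Cfsg.Agent.Helper5.KG

universe u

section Closed

variable {H : Type u} [Group H] [Finite H] {M : Ideal AlgInt}

/-- if the idempotent of a union of blocks has a coefficient outside the local ideal, so does
one of the blocks -/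
theorem exists_blockOf_not_mem (hMp : M.IsPrime) {U : Set (IrrCharacter H)}
    (hU : ∀ θ ∈ U, blockOf M (θ : H → ℂ) ⊆ U) (h : H)
    (hne : ¬ MemLocalIdeal M (blockCoeff U h)) :
    ∃ θ ∈ U, ¬ MemLocalIdeal M (blockCoeff (blockOf M (θ : H → ℂ)) h) := by
  classical
  haveI := hMp
  haveI : Fintype H := Fintype.ofFinite H
  letI : Fintype (IrrCharacter H) := irrFintype
  obtain ⟨n, hn⟩ : ∃ n, U.ncard = n := ⟨_, rfl⟩
  induction n using Nat.strong_induction_on generalizing U with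
  | _ n ih =>
    by_cases hemp : U = ∅
    · exfalso
      apply hne
      rw [hemp, blockCoeff_empty]
      exact memLocalIdeal_zero ne_top
    · obtain ⟨θ, hθ⟩ := Set.nonempty_iff_ne_empty.mpr hemp
      by_cases h1 : MemLocalIdeal M (blockCoeff (blockOf M (θ : H → ℂ)) h)
      · have hBU := hU θ hθ
        have hθB : θ ∈ blockOf M (θ : H → ℂ) := mem_blockOf_self θ
        have hU' : ∀ θ' ∈ U \ blockOf M (θ : H → ℂ),
            blockOf M (θ' : H → ℂ) ⊆ U \ blockOf M (θ : H → ℂ) := by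
          intro θ' hθ' θ'' hθ''
          refine ⟨hU θ' hθ'.1 hθ'', fun hB => hθ'.2 ?_⟩
          exact sameBlock_trans hB (sameBlock_symm hθ'')
        have hlt : (U \ blockOf M (θ : H → ℂ)).ncard < n := by
          rw [← hn]
          apply Set.ncard_lt_ncard _ (Set.toFinite _)
          exact ⟨Set.diff_subset, fun hsub => (hsub hθ).2 hθB⟩
        have hsplit : U = blockOf M (θ : H → ℂ) ∪ (U \ blockOf M (θ : H → ℂ)) := by
          rw [Set.union_diff_cancel hBU]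
        have hne' : ¬ MemLocalIdeal M (blockCoeff (U \ blockOf M (θ : H → ℂ)) h) := by
          intro h2
          apply hne
          rw [hsplit, blockCoeff_union Set.disjoint_sdiff_right]
          exact memLocalIdeal_add h1 h2
        obtain ⟨θ', hθ', h3⟩ := ih _ hlt hU' hne' rfl
        exact ⟨θ', hθ'.1, h3⟩
      · exact ⟨θ, hθ, h1⟩

end Closed

section Main

variable {G : Type u} [Group G] [Fintype G] {p : ℕ} [Fact p.Prime] {M : Ideal AlgInt}
  (hM : IsPModular p M) (N : Subgroup G) [hN : N.Normal] [Fintype N]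

theorem conjIrr_eq_irrComp (g : G) (θ : IrrCharacter N) :
    conjIrr N g θ = irrComp (MulAut.conjNormal g : MulAut N) θ :=
  Subtype.ext (Cfsg.Agent.Helper5.conjFun_eq_comp N g θ)

include hM in
/-- the defect groups of a covered block are conjugate into the defect groups of the covering
block -/
theorem lower {b : Set (IrrCharacter N)} (hb : IsPBlock M b) {Q : Subgroup G} (hQN : Q ≤ N)
    (hQ : IsDefectGroup p M b (Q.subgroupOf N)) {B : Set (IrrCharacter G)} (hB : IsPBlock M B)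
    (hcov : ∃ χ ∈ B, ∃ θ ∈ b, classInner (fun n : N => (χ : G → ℂ) n) (θ : N → ℂ) ≠ 0)
    {P₀ : Subgroup G} (hP₀ : IsDefectGroup p M B P₀) : SubConj Q P₀ := by
  classical
  haveI hMax : M.IsMaximal := hM.2.1
  haveI hMp : M.IsPrime := hM.2.1.isPrime
  have hloc : ∀ g : G, MemLocalRing M (blockCoeff B g) :=
    fun g => memLocalRing_blockCoeff hMp hB g
  have hBcl : IsClassFunction G (blockCoeff B) := fun g x => blockCoeff_conj B g x
  have hQp : IsPGroup p Q :=
    (isPGroup_of_isDefectGroup hM hQ).of_equiv (Subgroup.subgroupOfEquivOfLe hQN)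
  obtain ⟨y, hyinv, hyR, φ, hφ⟩ := exists_omega_not_mem N hM hB
  -- `φ` lies under `B`
  have hover : ∃ χ ∈ B, classInner (fun n : N => (χ : G → ℂ) n) (φ : N → ℂ) ≠ 0 := by
    by_contra hno
    push Not at hno
    apply hφ
    rw [omega_res_conv_eq_zero N φ hno hyinv]
    exact memLocalIdeal_zero ne_top
  obtain ⟨χ', hχ'B, hχ'φ⟩ := hover
  obtain ⟨χ₀, hχ₀B, θ', hθ'b, hχ₀θ'⟩ := hcov
  have hsame : SameBlock M (χ₀ : G → ℂ) (χ' : G → ℂ) := by
    obtain ⟨χ₁, rfl⟩ := hB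
    exact sameBlock_trans (sameBlock_symm hχ₀B) hχ'B
  obtain ⟨g, ψ, hψb, hφeq⟩ := cover_orbit N hMp hb hsame hθ'b hχ₀θ' hχ'φ
  -- transport along conjugation by `g`
  obtain ⟨σ, hσ⟩ : ∃ σ : N ≃* N, σ = (MulAut.conjNormal g : MulAut N) := ⟨_, rfl⟩
  have hσapp : ∀ n : N, ((σ n : N) : G) = g * (n : G) * g⁻¹ := by
    intro n
    rw [hσ]
    exact MulAut.conjNormal_apply g n
  have hσsymm : ∀ n : N, ((σ.symm n : N) : G) = g⁻¹ * (n : G) * g := by
    intro n
    have h1 := hσapp (σ.symm n)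
    rw [σ.apply_symm_apply] at h1
    rw [h1]
    group
  obtain ⟨y', hy'⟩ : ∃ y' : G → ℂ, y' = fun x => y (g⁻¹ * x * g) := ⟨_, rfl⟩
  have hy'R : ∀ x, MemLocalRing M (y' x) := by
    intro x
    rw [hy']
    exact hyR _
  have hy'inv : ∀ n ∈ N, ∀ x : G, y' (n * x * n⁻¹) = y' x := by
    intro n hn x
    rw [hy']
    show y (g⁻¹ * (n * x * n⁻¹) * g) = y (g⁻¹ * x * g)
    have h1 : g⁻¹ * (n * x * n⁻¹) * g = (g⁻¹ * n * g) * (g⁻¹ * x * g) * (g⁻¹ * n * g)⁻¹ := by
      group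
    have h2 : g⁻¹ * n * g ∈ N := by
      have := hN.conj_mem n hn g⁻¹
      rwa [inv_inv] at this
    rw [h1, hyinv _ h2]
  have hconv' : ∀ x : G, conv (blockCoeff B) y (g⁻¹ * x * g) = conv (blockCoeff B) y' x := by
    intro x
    rw [conv_apply, conv_apply]
    apply Fintype.sum_equiv (MulAut.conj g).toEquiv
    intro h
    simp only [MulEquiv.toEquiv_eq_coe, MulEquiv.coe_toEquiv, MulAut.conj_apply]
    rw [hBcl h g, hy']
    show blockCoeff B h * y (h⁻¹ * (g⁻¹ * x * g)) =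
      blockCoeff B h * y (g⁻¹ * ((g * h * g⁻¹)⁻¹ * x) * g)
    congr 2
    group
  have hzcl' : IsClassFunction N (fun n : N => conv (blockCoeff B) y' (n : G)) :=
    isClassFunction_res_conv N hBcl hy'inv
  have hz'R : ∀ n : N, MemLocalRing M (conv (blockCoeff B) y' (n : G)) := by
    intro n
    rw [conv_apply]
    exact memLocalRing_sum _ _ fun h _ => memLocalRing_mul (hloc h) (hy'R _)
  have hω : omega (φ : N → ℂ) (fun n : N => conv (blockCoeff B) y (n : G)) =
      omega (ψ : N → ℂ) (fun n : N => conv (blockCoeff B) y' (n : G)) := by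
    have h1 : (φ : N → ℂ) = (ψ : N → ℂ) ∘ σ := by
      rw [hφeq, conjIrr_coe, Cfsg.Agent.Helper5.conjFun_eq_comp, hσ]
    have h2 : (fun n : N => conv (blockCoeff B) y (n : G)) =
        (fun n : N => conv (blockCoeff B) y' (n : G)) ∘ σ := by
      funext n
      rw [Function.comp_apply, ← hconv', hσapp]
      congr 1
      group
    rw [h1, h2, omega_comp_equiv]
  rw [hω] at hφ
  -- a class where both the coefficient and the central character are units
  haveI : Fintype (ConjClasses N) := Fintype.ofFinite _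
  letI : Fintype (IrrCharacter N) := irrFintype
  rw [omega_eq_sum_classes (isClassFunction_of_isIrrCharacter ψ.2) hzcl'] at hφ
  obtain ⟨n, hn1, hn2⟩ : ∃ n : N, ¬ MemLocalIdeal M (conv (blockCoeff B) y' (n : G)) ∧
      ¬ MemLocalIdeal M (centralChar (ψ : N → ℂ) n) := by
    by_contra hno
    push Not at hno
    apply hφ
    apply memLocalIdeal_sum
    intro K _
    by_cases h1 : MemLocalIdeal M (conv (blockCoeff B) y' ((Quotient.out K : N) : G))
    · exact memLocalIdeal_mul_right h1 (memLocalRing_centralChar ψ _)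
    · exact memLocalIdeal_mul_left (hz'R _) (hno _ h1)
  -- the defect group of `b` centralizes a conjugate of `n`
  obtain ⟨S⟩ : Nonempty (Sylow p (Subgroup.centralizer ({n} : Set N))) := inferInstance
  obtain ⟨c, hc⟩ := subConj_of_centralChar hM hb hQ ⟨ψ, hψb, hn2⟩ S
  obtain ⟨n', hn'⟩ : ∃ n' : N, n' = c⁻¹ * n * c := ⟨_, rfl⟩
  have hn'1 : ¬ MemLocalIdeal M (conv (blockCoeff B) y' (n' : G)) := by
    have h1 := hzcl' n c⁻¹
    simp only [inv_inv] at h1
    rw [hn', h1]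
    exact hn1
  have hQn' : ∀ q ∈ Q, q * (n' : G) * q⁻¹ = (n' : G) := by
    intro q hq
    have hqN : q ∈ N := hQN hq
    have h1 := hc ⟨q, hqN⟩ (Subgroup.mem_subgroupOf.2 hq)
    obtain ⟨s, -, hs⟩ := h1
    have h2 := s.2
    rw [Subgroup.mem_centralizer_iff] at h2
    have h3 : n * (s : N) = (s : N) * n := h2 n rfl
    have h4 : ((s : N) : N) = c * ⟨q, hqN⟩ * c⁻¹ := hs
    rw [h4] at h3
    -- n commutes with c q c⁻¹, so n' = c⁻¹ n c commutes with q
    have h5 : (n' : N) * ⟨q, hqN⟩ = ⟨q, hqN⟩ * n' := by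
      rw [hn']
      have e1 : c⁻¹ * n * c * ⟨q, hqN⟩ = c⁻¹ * (n * (c * ⟨q, hqN⟩ * c⁻¹)) * c := by group
      have e2 : (⟨q, hqN⟩ : N) * (c⁻¹ * n * c) = c⁻¹ * ((c * ⟨q, hqN⟩ * c⁻¹) * n) * c := by group
      rw [e1, e2, h3]
    have h6 : (n' : G) * q = q * (n' : G) := congrArg Subtype.val h5
    rw [← h6, mul_inv_cancel_right]
  -- fixed points
  have hsum : ¬ MemLocalIdeal M (∑ h : G, blockCoeff B h * y' (h⁻¹ * (n' : G))) := by
    rw [← conv_apply]
    exact hn'1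
  obtain ⟨x, hxfix, hx⟩ := exists_fixed_of_not_memLocalIdeal_sum hM Q hQp
    (fun h => blockCoeff B h * y' (h⁻¹ * (n' : G)))
    (by
      intro q hq h
      show blockCoeff B (q * h * q⁻¹) * y' ((q * h * q⁻¹)⁻¹ * (n' : G)) =
        blockCoeff B h * y' (h⁻¹ * (n' : G))
      rw [hBcl h q]
      have h1 : (q * h * q⁻¹)⁻¹ * (n' : G) = q * (h⁻¹ * (n' : G)) * q⁻¹ := by
        nth_rewrite 1 [← hQn' q hq]
        group
      rw [h1, hy'inv q (hQN hq)])
    (fun h => memLocalRing_mul (hloc h) (hy'R _)) hsum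
  have hx' : ¬ MemLocalIdeal M (blockCoeff B x) := by
    intro h
    exact hx (memLocalIdeal_mul_right h (hy'R _))
  have hQx : Q ≤ Subgroup.centralizer ({x} : Set G) := by
    intro q hq
    rw [Subgroup.mem_centralizer_iff]
    intro z hz
    rw [Set.mem_singleton_iff] at hz
    subst hz
    have h2 := hxfix q hq
    calc z * q = (q * z * q⁻¹) * q := by rw [h2]
      _ = q * z := by group
  exact subConj_of_blockCoeff hM hB hP₀ hx' hQp hQx

include hM in
/-- the intersection of a defect group of a covering block with `N` is conjugate into the defect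
groups of the covered block -/
theorem upper {b : Set (IrrCharacter N)} (hb : IsPBlock M b) {Q : Subgroup G}
    (hQ : IsDefectGroup p M b (Q.subgroupOf N)) {B : Set (IrrCharacter G)} (hB : IsPBlock M B)
    (hcov : ∃ χ ∈ B, ∃ θ ∈ b, classInner (fun n : N => (χ : G → ℂ) n) (θ : N → ℂ) ≠ 0)
    {P₀ : Subgroup G} (hP₀ : IsDefectGroup p M B P₀) :
    ∃ g' : G, ∀ x ∈ P₀ ⊓ N, g' * x * g'⁻¹ ∈ Q := by
  classical
  haveI hMax : M.IsMaximal := hM.2.1
  haveI hMp : M.IsPrime := hM.2.1.isPrime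
  letI : Fintype (IrrCharacter G) := irrFintype
  have hloc : ∀ g : G, MemLocalRing M (blockCoeff B g) :=
    fun g => memLocalRing_blockCoeff hMp hB g
  have hBcl : IsClassFunction G (blockCoeff B) := fun g x => blockCoeff_conj B g x
  obtain ⟨g₀, hg₀, hPg₀, -⟩ := (isDefectGroup_iff hM hB).1 hP₀
  -- the orbit idempotent
  obtain ⟨A, hA⟩ : ∃ A : Set (IrrCharacter G), A = overSet N (orbitSet N b) := ⟨_, rfl⟩
  have hAR : ∀ g : G, MemLocalRing M (blockCoeff A g) := by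
    intro g
    rw [hA]
    exact memLocalRing_blockCoeff_overSet_orbit N hMp hb g
  have hAcl : IsClassFunction G (blockCoeff A) := fun g x => blockCoeff_conj A g x
  have hBA : B ⊆ A := by
    obtain ⟨χ₀, hχ₀B, θ', hθ'b, hχ₀θ'⟩ := hcov
    have hχ₀A : χ₀ ∈ A := by
      rw [hA]
      exact ⟨θ', subset_orbitSet N b hθ'b, hχ₀θ'⟩
    have h1 := blockOf_subset_of_memLocalRing hMp hAR hχ₀A
    obtain ⟨χ₁, rfl⟩ := hB
    rw [blockOf_eq_of_mem hχ₀B] at h1
    exact h1
  have hprod : conv (blockCoeff B) (blockCoeff A) = blockCoeff B := by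
    funext g
    rw [conv_apply]
    have h1 : ∀ h : G, blockCoeff B h * blockCoeff A (h⁻¹ * g) =
        synth (fun χ => if χ ∈ B then (1 : ℂ) else 0) h *
          synth (fun χ => if χ ∈ A then (1 : ℂ) else 0) (h⁻¹ * g) := by
      intro h
      rw [blockCoeff_eq_synth, blockCoeff_eq_synth]
    rw [Finset.sum_congr rfl (fun h _ => h1 h), synth_conv, blockCoeff_eq_synth]
    congr 1
    funext χ
    rw [Pi.mul_apply]
    by_cases hχ : χ ∈ B
    · rw [if_pos hχ, if_pos (hBA hχ), mul_one]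
    · rw [if_neg hχ, zero_mul]
  -- fixed points of `R = P₀ ⊓ N`
  have hRp : IsPGroup p (P₀ ⊓ N : Subgroup G) :=
    (isPGroup_of_isDefectGroup hM hP₀).to_le inf_le_left
  have hRg₀ : ∀ r ∈ P₀ ⊓ N, r * g₀ * r⁻¹ = g₀ := by
    intro r hr
    have h1 := hPg₀ hr.1
    rw [Subgroup.mem_centralizer_iff] at h1
    have h2 : g₀ * r = r * g₀ := h1 g₀ rfl
    rw [← h2, mul_inv_cancel_right]
  have hsum : ¬ MemLocalIdeal M (∑ h : G, blockCoeff B h * blockCoeff A (h⁻¹ * g₀)) := by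
    rw [← conv_apply, hprod]
    exact hg₀.2.1
  obtain ⟨h₀, hh₀fix, hh₀⟩ := exists_fixed_of_not_memLocalIdeal_sum hM (P₀ ⊓ N) hRp
    (fun h => blockCoeff B h * blockCoeff A (h⁻¹ * g₀))
    (by
      intro r hr h
      show blockCoeff B (r * h * r⁻¹) * blockCoeff A ((r * h * r⁻¹)⁻¹ * g₀) =
        blockCoeff B h * blockCoeff A (h⁻¹ * g₀)
      rw [hBcl h r]
      have h1 : (r * h * r⁻¹)⁻¹ * g₀ = r * (h⁻¹ * g₀) * r⁻¹ := by
        nth_rewrite 1 [← hRg₀ r hr]
        group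
      rw [h1, hAcl])
    (fun h => memLocalRing_mul (hloc h) (hAR _)) hsum
  obtain ⟨a, ha⟩ : ∃ a : G, a = h₀⁻¹ * g₀ := ⟨_, rfl⟩
  have haA : ¬ MemLocalIdeal M (blockCoeff A a) := by
    intro h
    apply hh₀
    rw [← ha]
    exact memLocalIdeal_mul_left (hloc h₀) h
  have hRa : ∀ r ∈ P₀ ⊓ N, r * a * r⁻¹ = a := by
    intro r hr
    rw [ha]
    have h1 : r * (h₀⁻¹ * g₀) * r⁻¹ = (r * h₀ * r⁻¹)⁻¹ * (r * g₀ * r⁻¹) := by group
    rw [h1, hh₀fix r hr, hRg₀ r hr]
  -- `a` lies in `N`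
  have hUst : ∀ g : G, ∀ θ ∈ orbitSet N b, conjIrr N g θ ∈ orbitSet N b :=
    fun g θ hθ => conjIrr_mem_orbitSet N g hθ
  have haN : a ∈ N := by
    by_contra hnot
    apply haA
    rw [hA, blockCoeff_overSet N hUst a, dif_neg hnot]
    exact memLocalIdeal_zero ne_top
  have haU : ¬ MemLocalIdeal M (blockCoeff (orbitSet N b) (⟨a, haN⟩ : N)) := by
    intro h
    apply haA
    rw [hA, blockCoeff_overSet N hUst a, dif_pos haN]
    exact h
  obtain ⟨θ, hθorb, hθa⟩ := exists_blockOf_not_mem hMp (orbitSet_closed N hMp hb) _ haU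
  obtain ⟨g, ψ, hψb, hθeq⟩ := hθorb
  -- transport to `b`
  obtain ⟨σ, hσ⟩ : ∃ σ : N ≃* N, σ = (MulAut.conjNormal g : MulAut N) := ⟨_, rfl⟩
  have hσapp : ∀ n : N, ((σ n : N) : G) = g * (n : G) * g⁻¹ := by
    intro n
    rw [hσ]
    exact MulAut.conjNormal_apply g n
  have hbψ : blockOf M (ψ : N → ℂ) = b := by
    obtain ⟨θ₁, rfl⟩ := hb
    exact blockOf_eq_of_mem hψb
  have hblock : blockOf M (θ : N → ℂ) = irrComp σ '' b := by
    rw [hθeq, conjIrr_eq_irrComp, ← hσ, ← image_irrComp_blockOf, hbψ]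
  rw [hblock, blockCoeff_image_irrComp] at hθa
  obtain ⟨a', ha'⟩ : ∃ a' : N, a' = σ ⟨a, haN⟩ := ⟨_, rfl⟩
  rw [← ha'] at hθa
  have ha'G : (a' : G) = g * a * g⁻¹ := by
    rw [ha', hσapp]
  -- the conjugate of `R`
  obtain ⟨R', hR'⟩ : ∃ R' : Subgroup G,
      R' = (P₀ ⊓ N : Subgroup G).map (MulAut.conj g).toMonoidHom := ⟨_, rfl⟩
  have hR'p : IsPGroup p (R'.subgroupOf N) := by
    rw [hR']
    exact (hRp.map _).comap_subtype
  have hR'a : R'.subgroupOf N ≤ Subgroup.centralizer ({a'} : Set N) := by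
    intro r hr
    rw [Subgroup.mem_subgroupOf, hR'] at hr
    obtain ⟨x, hx, hxr⟩ := hr
    simp only [MulEquiv.coe_toMonoidHom, MulAut.conj_apply] at hxr
    rw [Subgroup.mem_centralizer_iff]
    intro z hz
    rw [Set.mem_singleton_iff] at hz
    subst hz
    apply Subtype.ext
    rw [Subgroup.coe_mul, Subgroup.coe_mul, ha'G, ← hxr]
    have h1 := hRa x hx
    calc g * a * g⁻¹ * (g * x * g⁻¹) = g * (a * x) * g⁻¹ := by group
      _ = g * ((x * a * x⁻¹) * x) * g⁻¹ := by rw [h1]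
      _ = g * x * g⁻¹ * (g * a * g⁻¹) := by group
  obtain ⟨c, hc⟩ := subConj_of_blockCoeff hM hb hQ hθa hR'p hR'a
  refine ⟨(c : G) * g, ?_⟩
  intro x hx
  have hxN : g * x * g⁻¹ ∈ N := hN.conj_mem x hx.2 g
  have h1 : (⟨g * x * g⁻¹, hxN⟩ : N) ∈ R'.subgroupOf N := by
    rw [Subgroup.mem_subgroupOf, hR']
    exact ⟨x, hx, by simp⟩
  have h2 := hc _ h1
  rw [Subgroup.mem_subgroupOf] at h2
  have h3 : ((c * ⟨g * x * g⁻¹, hxN⟩ * c⁻¹ : N) : G) = (c : G) * g * x * ((c : G) * g)⁻¹ := by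
    rw [Subgroup.coe_mul, Subgroup.coe_mul, Subgroup.coe_inv]
    show (c : G) * (g * x * g⁻¹) * (c : G)⁻¹ = _
    group
  rw [h3] at h2
  exact h2

end Main

/-- Knörr: if the block B of G covers the block b of N ⊴ G and Q is a defect group of b, then some defect group P of B has P ∩ N = Q. -/
theorem result {G : Type*} [Group G] [Fintype G] (p : ℕ) [Fact p.Prime] (M : Ideal Cfsg.AlgInt) (hM : Cfsg.IsPModular p M) (N : Subgroup G) [hN : N.Normal] [Fintype N] (b : Set (Cfsg.IrrCharacter N)) (hb : Cfsg.IsPBlock M b) (Q : Subgroup G) (hQN : Q ≤ N) (hQ : Cfsg.IsDefectGroup p M b (Q.subgroupOf N)) (B : Set (Cfsg.IrrCharacter G)) (hB : Cfsg.IsPBlock M B) (hcov : (∃ χ ∈ B, ∃ θ ∈ b, Cfsg.classInner (fun n : N => (χ : G → ℂ) n) (θ : N → ℂ) ≠ 0)) : ∃ P : Subgroup G, Cfsg.IsDefectGroup p M B P ∧ P ⊓ N = Q := by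
  classical
  obtain ⟨P₀, hP₀⟩ := exists_isDefectGroup hM hB
  obtain ⟨c₁, hc₁⟩ := lower hM N hb hQN hQ hB hcov hP₀
  obtain ⟨g', hg'⟩ := upper hM N hb hQ hB hcov hP₀
  -- cardinalities
  have hcard1 : Nat.card Q ≤ Nat.card (P₀ ⊓ N : Subgroup G) := by
    apply Nat.card_le_card_of_injective
      (fun q : Q => (⟨c₁ * q * c₁⁻¹, ⟨hc₁ q q.2, hN.conj_mem q (hQN q.2) c₁⟩⟩ :
        (P₀ ⊓ N : Subgroup G)))
    intro q₁ q₂ h
    have h' := congrArg Subtype.val h
    exact Subtype.ext (mul_left_cancel (mul_right_cancel h'))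
  refine ⟨P₀.map (MulAut.conj g').toMonoidHom, isDefectGroup_conj hM hB hP₀ g', ?_⟩
  have hle : (P₀ ⊓ N : Subgroup G).map (MulAut.conj g').toMonoidHom ≤ Q := by
    rintro _ ⟨x, hx, rfl⟩
    simp only [MulEquiv.coe_toMonoidHom, MulAut.conj_apply]
    exact hg' x hx
  have heq : (P₀ ⊓ N : Subgroup G).map (MulAut.conj g').toMonoidHom = Q := by
    apply Subgroup.eq_of_le_of_card_ge hle
    rw [Subgroup.card_map_of_injective (MulAut.conj g').injective]
    exact hcard1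
  rw [← heq]
  ext z
  constructor
  · rintro ⟨⟨x, hx, rfl⟩, hzN⟩
    simp only [MulEquiv.coe_toMonoidHom, MulAut.conj_apply] at hzN ⊢
    refine ⟨x, ⟨hx, ?_⟩, by simp⟩
    have := hN.conj_mem _ hzN g'⁻¹
    have e : g'⁻¹ * (g' * x * g'⁻¹) * g'⁻¹⁻¹ = x := by group
    rwa [e] at this
  · rintro ⟨x, ⟨hx1, hx2⟩, rfl⟩
    simp only [MulEquiv.coe_toMonoidHom, MulAut.conj_apply]
    exact ⟨⟨x, hx1, by simp⟩, hN.conj_mem x hx2 g'⟩

end Cfsg.Agent.S4438
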