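import Mathlib
import Cfsg.Statements.S4671
import Cfsg.Agent.S4438

set_option autoImplicit false
open Cfsg

namespace Cfsg.Agent.S4671

open Cfsg.Agent.Helper23.Blk Cfsg.Agent.Helper18 Cfsg.Agent.Helper5.KG

universe u

section Action

variable {G : Type u} [Group G] (N : Subgroup G) [hN : N.Normal]

/-- the action of `G` on sets of irreducible characters of the normal subgroup `N` -/
@[reducible] noncomputable def blockAction : MulAction G (Set (IrrCharacter N)) where
  smul g c := conjIrr N g⁻¹ '' c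
  one_smul c := by
    show conjIrr N (1 : G)⁻¹ '' c = c
    rw [inv_one]
    have h : conjIrr N (1 : G) = id := funext (conjIrr_one N)
    rw [h, Set.image_id]
  mul_smul g h c := by
    show conjIrr N (g * h)⁻¹ '' c = conjIrr N g⁻¹ '' (conjIrr N h⁻¹ '' c)
    rw [Set.image_image, mul_inv_rev]
    apply Set.image_congr
    intro θ _
    exact conjIrr_mul N h⁻¹ g⁻¹ θ

theorem smul_eq (g : G) (c : Set (IrrCharacter N)) :
    (blockAction N).smul g c = conjIrr N g⁻¹ '' c := rfl

theorem smul_eq_irrComp (g : G) (c : Set (IrrCharacter N)) :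
    (blockAction N).smul g c = irrComp (MulAut.conjNormal g⁻¹ : MulAut N) '' c := by
  rw [smul_eq]
  apply Set.image_congr
  intro θ _
  exact Subtype.ext (Cfsg.Agent.Helper5.conjFun_eq_comp N g⁻¹ θ)

variable {M : Ideal AlgInt}

theorem isPBlock_smul {c : Set (IrrCharacter N)} (hc : IsPBlock M c) (g : G) :
    IsPBlock M ((blockAction N).smul g c) := by
  rw [smul_eq_irrComp]
  exact isPBlock_image_irrComp _ hc

theorem blockCoeff_smul [Finite G] (g : G) (c : Set (IrrCharacter N)) (n : N) :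
    blockCoeff ((blockAction N).smul g c) n =
      blockCoeff c ⟨g⁻¹ * (n : G) * g, by
        have := hN.conj_mem (n : G) n.2 g⁻¹
        rwa [inv_inv] at this⟩ := by
  rw [smul_eq_irrComp, blockCoeff_image_irrComp]
  congr 1
  apply Subtype.ext
  rw [MulAut.conjNormal_apply]
  simp

/-- the orbit set is the union of the orbit -/
theorem mem_orbitSet_iff (b : Set (IrrCharacter N)) (θ : IrrCharacter N) :
    θ ∈ orbitSet N b ↔ ∃ g : G, θ ∈ (blockAction N).smul g b := by
  constructor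
  · rintro ⟨g, θ', hθ', rfl⟩
    refine ⟨g⁻¹, ?_⟩
    rw [smul_eq, inv_inv]
    exact ⟨θ', hθ', rfl⟩
  · rintro ⟨g, hg⟩
    rw [smul_eq] at hg
    obtain ⟨θ', hθ', rfl⟩ := hg
    exact ⟨g⁻¹, θ', hθ', rfl⟩

end Action

section Union

variable {H : Type u} [Group H] [Finite H]

theorem blockCoeff_iUnion {ι : Type*} [Fintype ι] (t : ι → Set (IrrCharacter H))
    (hd : Pairwise (Function.onFun Disjoint t)) (h : H) :
    blockCoeff (⋃ i, t i) h = ∑ i, blockCoeff (t i) h := by
  classical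
  haveI : Fintype H := Fintype.ofFinite H
  letI : Fintype (IrrCharacter H) := Cfsg.Agent.Helper24.irrFintype
  unfold blockCoeff
  rw [finsum_mem_iUnion hd (fun i => Set.toFinite _), finsum_eq_sum_of_fintype, Finset.mul_sum]

end Union

section Main

variable {G : Type u} [Group G] [Fintype G] {p : ℕ} [Fact p.Prime] {M : Ideal AlgInt}
  (hM : IsPModular p M) (N : Subgroup G) [hN : N.Normal] [Fintype N]

open Cfsg.Agent.Helper24 in
include hM in
theorem main {B : Set (IrrCharacter G)} (hB : IsPBlock M B) {P : Subgroup G}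
    (hP : IsDefectGroup p M B P) :
    ∃ c : Set (IrrCharacter N), IsPBlock M c ∧ (∀ x ∈ P, (blockAction N).smul x c = c) ∧
      (∃ χ ∈ B, ∃ θ ∈ c, classInner (fun n : N => (χ : G → ℂ) n) (θ : N → ℂ) ≠ 0) ∧
      IsDefectGroup p M c ((P ⊓ N).subgroupOf N) := by
  classical
  haveI hMax : M.IsMaximal := hM.2.1
  haveI hMp : M.IsPrime := hM.2.1.isPrime
  letI : Fintype (IrrCharacter G) := irrFintype
  letI : Fintype (IrrCharacter N) := irrFintype
  letI : MulAction G (Set (IrrCharacter N)) := blockAction N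
  have hloc : ∀ g : G, MemLocalRing M (blockCoeff B g) :=
    fun g => memLocalRing_blockCoeff hMp hB g
  have hBcl : IsClassFunction G (blockCoeff B) := fun g x => blockCoeff_conj B g x
  obtain ⟨g₀, hg₀, hPg₀, hPcard⟩ := (isDefectGroup_iff hM hB).1 hP
  -- a covered block
  obtain ⟨χ, hχB⟩ := block_nonempty hM hB
  have hχN : IsCharacter N (fun n : N => (χ : G → ℂ) n) :=
    isCharacter_restrict N (isCharacter_of_isIrrCharacter χ.2)
  have hχN0 : (fun n : N => (χ : G → ℂ) n) ≠ 0 := by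
    intro h0
    have := congrFun h0 1
    exact irr_one_ne_zero χ.2 this
  obtain ⟨θf, hθf, hcon⟩ := Cfsg.Agent.Helper5.exists_constituent hχN hχN0
  obtain ⟨θ, hθ⟩ : ∃ θ : IrrCharacter N, θ = ⟨θf, hθf⟩ := ⟨_, rfl⟩
  have hcon' : classInner (fun n : N => (χ : G → ℂ) n) (θ : N → ℂ) ≠ 0 := by
    rw [hθ]; exact hcon
  obtain ⟨b, hbdef⟩ : ∃ b, b = blockOf M (θ : N → ℂ) := ⟨_, rfl⟩
  have hb : IsPBlock M b := ⟨θ, hbdef⟩
  have hθb : θ ∈ b := by rw [hbdef]; exact mem_blockOf_self θ
  have hcov : ∃ χ ∈ B, ∃ θ ∈ b, classInner (fun n : N => (χ : G → ℂ) n) (θ : N → ℂ) ≠ 0 :=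
    ⟨χ, hχB, θ, hθb, hcon'⟩
  -- the orbit idempotent
  obtain ⟨A, hA⟩ : ∃ A : Set (IrrCharacter G), A = overSet N (orbitSet N b) := ⟨_, rfl⟩
  have hAR : ∀ g : G, MemLocalRing M (blockCoeff A g) := by
    intro g
    rw [hA]
    exact memLocalRing_blockCoeff_overSet_orbit N hMp hb g
  have hBA : B ⊆ A := by
    have hχ₀A : χ ∈ A := by
      rw [hA]
      exact ⟨θ, subset_orbitSet N b hθb, hcon'⟩
    have h1 := blockOf_subset_of_memLocalRing hMp hAR hχ₀A
    obtain ⟨χ₁, rfl⟩ := hB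
    rw [blockOf_eq_of_mem hχB] at h1
    exact h1
  have hprod : conv (blockCoeff B) (blockCoeff A) = blockCoeff B := by
    funext g
    rw [conv_apply]
    have h1 : ∀ h : G, blockCoeff B h * blockCoeff A (h⁻¹ * g) =
        synth (fun χ => if χ ∈ B then (1 : ℂ) else 0) h *
          synth (fun χ => if χ ∈ A then (1 : ℂ) else 0) (h⁻¹ * g) := by
      intro h
      rw [blockCoeff_eq_synth, blockCoeff_eq_synth]
    rw [Finset.sum_congr rfl (fun h _ => h1 h), synth_conv, blockCoeff_eq_synth]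
    congr 1
    funext χ
    rw [Pi.mul_apply]
    by_cases hχ : χ ∈ B
    · rw [if_pos hχ, if_pos (hBA hχ), mul_one]
    · rw [if_neg hχ, zero_mul]
  -- the orbit of blocks
  have hUst : ∀ g : G, ∀ θ ∈ orbitSet N b, conjIrr N g θ ∈ orbitSet N b :=
    fun g θ hθ => conjIrr_mem_orbitSet N g hθ
  have hsm : ∀ (g : G) (c : Set (IrrCharacter N)), g • c = (blockAction N).smul g c :=
    fun _ _ => rfl
  haveI : Fintype (MulAction.orbit G b) := Fintype.ofFinite _
  have hXblock : ∀ c : MulAction.orbit G b, IsPBlock M c.1 := by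
    rintro ⟨c, g, rfl⟩
    exact isPBlock_smul N hb g
  have hXdisj : Pairwise (Function.onFun Disjoint (fun c : MulAction.orbit G b => c.1)) := by
    intro c₁ c₂ hne
    show Disjoint c₁.1 c₂.1
    rw [Set.disjoint_left]
    intro θ h1 h2
    exact hne (Subtype.ext (isPBlock_eq_of_mem (hXblock c₁) (hXblock c₂) h1 h2))
  have hUnion : orbitSet N b = ⋃ c : MulAction.orbit G b, c.1 := by
    ext θ'
    rw [mem_orbitSet_iff, Set.mem_iUnion]
    constructor
    · rintro ⟨g, hg⟩
      exact ⟨⟨g • b, MulAction.mem_orbit b g⟩, hg⟩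
    · rintro ⟨⟨c, g, rfl⟩, hg⟩
      exact ⟨g, hg⟩
  have hAsum : ∀ x : G,
      blockCoeff A x = ∑ c : MulAction.orbit G b, ext0 N (blockCoeff c.1) x := by
    intro x
    rw [hA, blockCoeff_overSet N hUst x]
    by_cases hx : x ∈ N
    · rw [dif_pos hx, hUnion, blockCoeff_iUnion _ hXdisj]
      apply Finset.sum_congr rfl
      intro c _
      rw [ext0_of_mem N _ hx]
    · rw [dif_neg hx]
      symm
      apply Finset.sum_eq_zero
      intro c _
      exact ext0_of_not_mem N _ hx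
  obtain ⟨F, hF⟩ : ∃ F : MulAction.orbit G b → ℂ,
      ∀ c, F c = conv (blockCoeff B) (ext0 N (blockCoeff c.1)) g₀ := ⟨_, fun _ => rfl⟩
  have hFsum : blockCoeff B g₀ = ∑ c, F c := by
    have h1 := congrFun hprod g₀
    rw [← h1, conv_apply]
    simp_rw [hAsum, Finset.mul_sum]
    rw [Finset.sum_comm]
    apply Finset.sum_congr rfl
    intro c _
    rw [hF, conv_apply]
  have hcR : ∀ (c : MulAction.orbit G b) (x : G),
      MemLocalRing M (ext0 N (blockCoeff c.1) x) := by
    intro c x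
    by_cases hx : x ∈ N
    · rw [ext0_of_mem N _ hx]
      exact memLocalRing_blockCoeff hMp (hXblock c) _
    · rw [ext0_of_not_mem N _ hx]
      exact memLocalRing_zero ne_top
  have hFR : ∀ c, MemLocalRing M (F c) := by
    intro c
    rw [hF, conv_apply]
    exact memLocalRing_sum _ _ fun h _ => memLocalRing_mul (hloc h) (hcR c _)
  -- conjugation of ext0
  have hext : ∀ (g : G) (c : Set (IrrCharacter N)) (x : G),
      ext0 N (blockCoeff (g • c)) x = ext0 N (blockCoeff c) (g⁻¹ * x * g) := by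
    intro g c x
    by_cases hx : x ∈ N
    · have hx' : g⁻¹ * x * g ∈ N := by
        have := hN.conj_mem x hx g⁻¹
        rwa [inv_inv] at this
      rw [ext0_of_mem N _ hx, ext0_of_mem N _ hx', hsm, blockCoeff_smul]
    · have hx' : g⁻¹ * x * g ∉ N := by
        intro h
        apply hx
        have := hN.conj_mem _ h g
        have e : g * (g⁻¹ * x * g) * g⁻¹ = x := by group
        rwa [e] at this
      rw [ext0_of_not_mem N _ hx, ext0_of_not_mem N _ hx']
  have hPp : IsPGroup p P := isPGroup_of_isDefectGroup hM hP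
  have hPg₀' : ∀ x ∈ P, x⁻¹ * g₀ * x = g₀ := by
    intro x hx
    have h1 := hPg₀ hx
    rw [Subgroup.mem_centralizer_iff] at h1
    have h2 : g₀ * x = x * g₀ := h1 g₀ rfl
    rw [mul_assoc, h2, inv_mul_cancel_left]
  have hFinv : ∀ (q : P) (c : MulAction.orbit G b), F (q • c) = F c := by
    intro q c
    rw [hF, hF, conv_apply, conv_apply]
    apply Fintype.sum_equiv (MulAut.conj (q : G)⁻¹).toEquiv
    intro h
    show blockCoeff B h * ext0 N (blockCoeff ((q : G) • c.1)) (h⁻¹ * g₀) =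
      blockCoeff B ((q : G)⁻¹ * h * (q : G)⁻¹⁻¹) *
        ext0 N (blockCoeff c.1) (((q : G)⁻¹ * h * (q : G)⁻¹⁻¹)⁻¹ * g₀)
    rw [hBcl h (q : G)⁻¹, hext]
    congr 2
    conv_rhs => rw [← hPg₀' q q.2]
    group
  obtain ⟨c, hcfix, hFc⟩ : ∃ c : MulAction.orbit G b,
      (∀ q : P, q • c = c) ∧ ¬ MemLocalIdeal M (F c) := by
    by_contra hno
    push Not at hno
    apply hg₀.2.1
    rw [hFsum]
    exact memLocalIdeal_sum_of_invariant hM hPp F hFinv hFR hno
  have hcb : IsPBlock M c.1 := hXblock c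
  have hcfix' : ∀ x ∈ P, x • c.1 = c.1 := fun x hx => congrArg Subtype.val (hcfix ⟨x, hx⟩)
  have hRp : IsPGroup p (P ⊓ N : Subgroup G) := hPp.to_le inf_le_left
  have hRg₀ : ∀ r ∈ P ⊓ N, r * g₀ * r⁻¹ = g₀ := by
    intro r hr
    have h1 := hPg₀ hr.1
    rw [Subgroup.mem_centralizer_iff] at h1
    have h2 : g₀ * r = r * g₀ := h1 g₀ rfl
    rw [← h2, mul_inv_cancel_right]
  have hcinv : ∀ r ∈ N, ∀ y : G,
      ext0 N (blockCoeff c.1) (r * y * r⁻¹) = ext0 N (blockCoeff c.1) y := by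
    intro r hr y
    by_cases hy : y ∈ N
    · have hy' : r * y * r⁻¹ ∈ N := hN.conj_mem y hy r
      rw [ext0_of_mem N _ hy, ext0_of_mem N _ hy']
      exact blockCoeff_conj c.1 ⟨y, hy⟩ ⟨r, hr⟩
    · have hy' : r * y * r⁻¹ ∉ N := by
        intro h
        apply hy
        have := hN.conj_mem _ h r⁻¹
        have e : r⁻¹ * (r * y * r⁻¹) * r⁻¹⁻¹ = y := by group
        rwa [e] at this
      rw [ext0_of_not_mem N _ hy, ext0_of_not_mem N _ hy']
  have hsum : ¬ MemLocalIdeal M
      (∑ h : G, blockCoeff B h * ext0 N (blockCoeff c.1) (h⁻¹ * g₀)) := by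
    rw [← conv_apply, ← hF]
    exact hFc
  obtain ⟨h₀, hh₀fix, hh₀⟩ := exists_fixed_of_not_memLocalIdeal_sum hM (P ⊓ N) hRp
    (fun h => blockCoeff B h * ext0 N (blockCoeff c.1) (h⁻¹ * g₀))
    (by
      intro r hr h
      show blockCoeff B (r * h * r⁻¹) * ext0 N (blockCoeff c.1) ((r * h * r⁻¹)⁻¹ * g₀) =
        blockCoeff B h * ext0 N (blockCoeff c.1) (h⁻¹ * g₀)
      rw [hBcl h r]
      have h1 : (r * h * r⁻¹)⁻¹ * g₀ = r * (h⁻¹ * g₀) * r⁻¹ := by
        nth_rewrite 1 [← hRg₀ r hr]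
        group
      rw [h1, hcinv r hr.2])
    (fun h => memLocalRing_mul (hloc h) (hcR c _)) hsum
  obtain ⟨a, ha⟩ : ∃ a : G, a = h₀⁻¹ * g₀ := ⟨_, rfl⟩
  have hac : ¬ MemLocalIdeal M (ext0 N (blockCoeff c.1) a) := by
    intro h
    apply hh₀
    rw [← ha]
    exact memLocalIdeal_mul_left (hloc h₀) h
  have hRa : ∀ r ∈ P ⊓ N, r * a * r⁻¹ = a := by
    intro r hr
    rw [ha]
    have h1 : r * (h₀⁻¹ * g₀) * r⁻¹ = (r * h₀ * r⁻¹)⁻¹ * (r * g₀ * r⁻¹) := by group
    rw [h1, hh₀fix r hr, hRg₀ r hr]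
  have haN : a ∈ N := by
    by_contra hnot
    apply hac
    rw [ext0_of_not_mem N _ hnot]
    exact memLocalIdeal_zero ne_top
  rw [ext0_of_mem N _ haN] at hac
  -- the defect group of `c`
  obtain ⟨Qc, hQc⟩ := exists_isDefectGroup hM hcb
  have hR'p : IsPGroup p ((P ⊓ N : Subgroup G).subgroupOf N) := hRp.comap_subtype
  have hR'a : (P ⊓ N : Subgroup G).subgroupOf N ≤
      Subgroup.centralizer ({⟨a, haN⟩} : Set N) := by
    intro r hr
    rw [Subgroup.mem_subgroupOf] at hr
    rw [Subgroup.mem_centralizer_iff]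
    intro z hz
    rw [Set.mem_singleton_iff] at hz
    subst hz
    apply Subtype.ext
    rw [Subgroup.coe_mul, Subgroup.coe_mul]
    show a * (r : G) = (r : G) * a
    have h1 := hRa r hr
    calc a * (r : G) = ((r : G) * a * (r : G)⁻¹) * r := by rw [h1]
      _ = r * a := by group
  have hsub := subConj_of_blockCoeff hM hcb hQc hac hR'p hR'a
  -- `c` is covered by `B`
  have hcovc : ∃ χ ∈ B, ∃ θ ∈ c.1,
      classInner (fun n : N => (χ : G → ℂ) n) (θ : N → ℂ) ≠ 0 := by
    obtain ⟨g, hg⟩ := c.2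
    refine ⟨χ, hχB, conjIrr N g⁻¹ θ, ?_, ?_⟩
    · rw [← hg]
      exact ⟨θ, hθb, rfl⟩
    · rw [conjIrr_coe, Cfsg.Agent.Helper5.classInner_restrict_conjFun N g⁻¹
        (isClassFunction_of_isIrrCharacter χ.2)]
      exact hcon'
  have hQmap : (Qc.map N.subtype).subgroupOf N = Qc :=
    Subgroup.comap_map_eq_self_of_injective (Subgroup.subtype_injective N) Qc
  have hQN : Qc.map N.subtype ≤ N := by
    rintro _ ⟨q, -, rfl⟩
    exact q.2
  have hlow : SubConj (Qc.map N.subtype) P := by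
    apply Cfsg.Agent.S4438.lower hM N hcb hQN _ hB hcovc hP
    rw [hQmap]
    exact hQc
  obtain ⟨c₁, hc₁⟩ := hlow
  have hcard1 : Nat.card Qc ≤ Nat.card (P ⊓ N : Subgroup G) := by
    rw [← Subgroup.card_map_of_injective (K := Qc) (Subgroup.subtype_injective N)]
    apply Nat.card_le_card_of_injective
      (fun q : Qc.map N.subtype => (⟨c₁ * q * c₁⁻¹,
        ⟨hc₁ q q.2, hN.conj_mem q (hQN q.2) c₁⟩⟩ : (P ⊓ N : Subgroup G)))
    intro q₁ q₂ h
    have h' := congrArg Subtype.val h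
    exact Subtype.ext (mul_left_cancel (mul_right_cancel h'))
  have hcard2 : Nat.card ((P ⊓ N : Subgroup G).subgroupOf N) = Nat.card (P ⊓ N : Subgroup G) :=
    Nat.card_congr (Subgroup.subgroupOfEquivOfLe inf_le_right).toEquiv
  obtain ⟨m, hm⟩ := map_conj_eq_of_subConj hsub (by rw [hcard2]; exact hcard1)
  have hdef : IsDefectGroup p M c.1 ((P ⊓ N : Subgroup G).subgroupOf N) := by
    have h1 := isDefectGroup_conj hM hcb hQc m⁻¹
    rw [← hm, Subgroup.map_map] at h1
    have h2 : (MulAut.conj m⁻¹).toMonoidHom.comp (MulAut.conj m).toMonoidHom =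
        MonoidHom.id N := by
      ext x
      simp only [MonoidHom.coe_comp, MulEquiv.coe_toMonoidHom, Function.comp_apply,
        MulAut.conj_apply, MonoidHom.id_apply, Subgroup.coe_mul, Subgroup.coe_inv, inv_inv]
      group
    rw [h2, Subgroup.map_id] at h1
    exact h1
  exact ⟨c.1, hcb, hcfix', hcovc, hdef⟩

end Main

/-- a stable block is stabilized in the sense of `StabilizesBlock` -/
theorem stabilizes_of_smul_eq {G : Type u} [Group G] (N : Subgroup G) [hN : N.Normal]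
    {c : Set (IrrCharacter N)} {x : G} (h : (blockAction N).smul x c = c) :
    StabilizesBlock N c x := by
  refine ⟨?_, ?_⟩
  · rw [Subgroup.normalizer_eq_top]
    exact Subgroup.mem_top x
  · intro χ hχ
    refine ⟨conjIrr N x⁻¹ χ, ?_, ?_⟩
    · rw [← h, smul_eq]
      exact ⟨χ, hχ, rfl⟩
    · intro k k' hk
      rw [conjIrr_coe, Cfsg.Agent.Helper5.conjFun_apply]
      have e : (⟨x⁻¹ * (k' : G) * x⁻¹⁻¹, hN.conj_mem (k' : G) k'.2 x⁻¹⟩ : N) = k := by
        apply Subtype.ext
        show x⁻¹ * (k' : G) * x⁻¹⁻¹ = (k : G)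
        rw [hk]
        group
      rw [e]

/-- Fix a prime p and a maximal ideal M of the algebraic integers containing p. Let N be a normal subgroup of the finite group G, B a p-block of G and P a defect group of B. Then there is a p-block c of N, stable under conjugation by P and covered by B (some member of B has a constituent in c on restriction to N), such that P ∩ N is a defect group of c. -/
theorem result {G : Type*} [Group G] [Fintype G] (p : ℕ) [Fact p.Prime] (M : Ideal Cfsg.AlgInt) (hM : Cfsg.IsPModular p M) (N : Subgroup G) [N.Normal] [Fintype N] (B : Set (Cfsg.IrrCharacter G)) (hB : Cfsg.IsPBlock M B) (P : Subgroup G) (hP : Cfsg.IsDefectGroup p M B P) : ∃ c : Set (Cfsg.IrrCharacter N), Cfsg.IsPBlock M c ∧ (∀ x ∈ P, Cfsg.StabilizesBlock N c x) ∧ (∃ χ ∈ B, ∃ θ ∈ c, Cfsg.classInner (fun n : N => (χ : G → ℂ) n) (θ : N → ℂ) ≠ 0) ∧ Cfsg.IsDefectGroup p M c ((P ⊓ N).subgroupOf N) := by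
  obtain ⟨c, hc, hfix, hcov, hdef⟩ := main hM N hB hP
  exact ⟨c, hc, fun x hx => stabilizes_of_smul_eq N (hfix x hx), hcov, hdef⟩

end Cfsg.Agent.S4671
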