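import Mathlib
import Cfsg.Statements.S1470

set_option autoImplicit false
open Cfsg

namespace Cfsg.Agent.S1470

open Polynomial

section aux

variable (p q : ℕ) [Fact p.Prime] [Fact q.Prime]

/-- The set `E`. -/
def E : Set (GaloisField p q) :=
  {a : GaloisField p q | Algebra.norm (ZMod p) a = 1 ∧ Algebra.norm (ZMod p) (2 - a) = 1}

variable {p q}

theorem ne_zero_of_norm_one {x : GaloisField p q} (h : Algebra.norm (ZMod p) x = 1) : x ≠ 0 := by
  intro h0
  rw [h0, Algebra.norm_zero] at h
  exact zero_ne_one h

/-- The norm of `t - b`, `t` in the prime field, is the value at `t` of a monic polynomial of degree `q`. -/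
theorem exists_poly (b : GaloisField p q) :
    ∃ g : (ZMod p)[X], g.Monic ∧ g.natDegree = q ∧
      ∀ t : ZMod p, g.eval t = Algebra.norm (ZMod p) (algebraMap (ZMod p) (GaloisField p q) t - b) := by
  classical
  have hq0 : q ≠ 0 := (Fact.out : q.Prime).ne_zero
  set B := Module.finBasis (ZMod p) (GaloisField p q) with hB
  refine ⟨(Algebra.leftMulMatrix B b).charpoly, Matrix.charpoly_monic _, ?_, ?_⟩
  · rw [Matrix.charpoly_natDegree_eq_dim, Fintype.card_fin, GaloisField.finrank p hq0]
  · intro t
    rw [Matrix.eval_charpoly, Algebra.norm_eq_matrix_det B, map_sub, AlgHom.commutes]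
    rfl

theorem main (hinv : ∀ a ∈ E p q, a⁻¹ ∈ E p q) (h2 : 2 ≤ Set.ncard (E p q)) : p ≤ q := by
  by_contra hlt
  push Not at hlt
  have hq0 : q ≠ 0 := (Fact.out : q.Prime).ne_zero
  obtain ⟨a, haE, ha1⟩ := Set.exists_ne_of_one_lt_ncard (by omega : 1 < Set.ncard (E p q)) 1
  -- E is closed under τ : a ↦ (2 - a)⁻¹
  have hτ : ∀ x ∈ E p q, (2 - x)⁻¹ ∈ E p q := by
    intro x hx
    apply hinv
    refine ⟨hx.2, ?_⟩
    have : (2 : GaloisField p q) - (2 - x) = x := by ring
    rw [this]; exact hx.1
  set b : GaloisField p q := (a - 1)⁻¹ with hb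
  have ha1' : a - 1 ≠ 0 := sub_ne_zero.mpr ha1
  have hb0 : b ≠ 0 := inv_ne_zero ha1'
  -- the orbit
  have key : ∀ k : ℕ, b - (k : GaloisField p q) ≠ 0 ∧ 1 + (b - (k : GaloisField p q))⁻¹ ∈ E p q := by
    intro k
    induction k with
    | zero =>
      simp only [Nat.cast_zero, sub_zero]
      refine ⟨hb0, ?_⟩
      have : 1 + b⁻¹ = a := by rw [hb, inv_inv]; ring
      rw [this]; exact haE
    | succ k ih =>
      obtain ⟨hk0, hkE⟩ := ih
      have h2ne : (2 : GaloisField p q) - (1 + (b - (k : GaloisField p q))⁻¹) ≠ 0 :=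
        ne_zero_of_norm_one hkE.2
      have hk1 : b - (k : GaloisField p q) - 1 ≠ 0 := by
        intro h0
        apply h2ne
        have : b - (k : GaloisField p q) = 1 := by linear_combination h0
        rw [this]; norm_num
      have hcast : b - ((k + 1 : ℕ) : GaloisField p q) = b - (k : GaloisField p q) - 1 := by
        push_cast; ring
      rw [hcast]
      refine ⟨hk1, ?_⟩
      have := hτ _ hkE
      have heq : (2 - (1 + (b - (k : GaloisField p q))⁻¹))⁻¹
          = 1 + (b - (k : GaloisField p q) - 1)⁻¹ := by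
        generalize b - (k : GaloisField p q) = d at hk0 hk1 h2ne
        have e1 : (2 : GaloisField p q) - (1 + d⁻¹) = (d - 1) / d := by
          field_simp
          ring
        have e2 : (1 : GaloisField p q) + (d - 1)⁻¹ = d / (d - 1) := by
          field_simp
          ring
        rw [e1, e2, inv_div]
      rwa [heq] at this
  -- norms of b - k are constant
  have hnorm : ∀ k : ℕ, Algebra.norm (ZMod p) (b - (k : GaloisField p q))
      = Algebra.norm (ZMod p) b := by
    intro k
    induction k with
    | zero => simp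
    | succ k ih =>
      obtain ⟨hk0, _⟩ := key k
      obtain ⟨hk1, hk1E⟩ := key (k + 1)
      have h1 : (1 + (b - ((k + 1 : ℕ) : GaloisField p q))⁻¹) * (b - ((k + 1 : ℕ) : GaloisField p q))
          = b - (k : GaloisField p q) := by
        field_simp
        push_cast; ring
      have h3 := congrArg (Algebra.norm (ZMod p)) h1
      rw [map_mul, hk1E.1, one_mul] at h3
      rw [h3, ih]
  obtain ⟨g, hgm, hgd, hge⟩ := exists_poly b
  -- g - C c vanishes on all of ZMod p
  set c : ZMod p := Algebra.norm (ZMod p) (-1 : GaloisField p q) * Algebra.norm (ZMod p) b with hc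
  have heval : ∀ t : ZMod p, (g - C c).eval t = 0 := by
    intro t
    rw [eval_sub, eval_C, hge t, sub_eq_zero]
    have ht : algebraMap (ZMod p) (GaloisField p q) t - b
        = (-1) * (b - ((t.val : ℕ) : GaloisField p q)) := by
      have : algebraMap (ZMod p) (GaloisField p q) t = ((t.val : ℕ) : GaloisField p q) := by
        conv_lhs => rw [← ZMod.natCast_zmod_val t]
        rw [map_natCast]
      rw [this]; ring
    rw [ht, map_mul, hnorm]
  have hdeg : (g - C c).natDegree < (Finset.univ : Finset (ZMod p)).card := by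
    rw [Finset.card_univ, ZMod.card]
    calc (g - C c).natDegree ≤ max g.natDegree (C c).natDegree := natDegree_sub_le _ _
      _ = q := by rw [hgd, natDegree_C]; simp
      _ < p := hlt
  have hzero := Polynomial.eq_zero_of_natDegree_lt_card_of_eval_eq_zero' (g - C c) Finset.univ
    (fun t _ => heval t) hdeg
  have hcoeff : (g - C c).coeff q = 1 := by
    rw [coeff_sub, coeff_C, if_neg hq0, sub_zero]
    have := hgm.coeff_natDegree
    rwa [hgd] at this
  rw [hzero, coeff_zero] at hcoeff
  exact zero_ne_one hcoeff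

end aux

/-- Let p and q be odd primes with (p^q − 1)/(p − 1) coprime to p − 1, and let E be the set of elements a of the field with p ^ q elements whose norm to the prime field is 1 and for which 2 − a also has norm 1. If a⁻¹ ∈ E for every a ∈ E and E has at least two elements, then p ≤ q. -/
theorem result (p q : ℕ) [Fact p.Prime] [Fact q.Prime] (hp : p ≠ 2) (hq : q ≠ 2) (hA : Nat.Coprime ((p ^ q - 1) / (p - 1)) (p - 1))
    (hinv : ∀ a ∈ {a : GaloisField p q | Algebra.norm (ZMod p) a = 1 ∧ Algebra.norm (ZMod p) (2 - a) = 1}, a⁻¹ ∈ {a : GaloisField p q | Algebra.norm (ZMod p) a = 1 ∧ Algebra.norm (ZMod p) (2 - a) = 1})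
    (h2 : 2 ≤ Set.ncard {a : GaloisField p q | Algebra.norm (ZMod p) a = 1 ∧ Algebra.norm (ZMod p) (2 - a) = 1}) :
    p ≤ q :=
  main hinv h2

end Cfsg.Agent.S1470
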