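import Mathlib
import Cfsg.Statements.S1471
import Cfsg.Agent.Lib.Helper8.NormSum

set_option autoImplicit false
open Cfsg

namespace Cfsg.Agent.S1471

open Polynomial


section part1

variable (p : ℕ) [Fact p.Prime]

theorem exists_d : ∃ d : ZMod p, ∀ y : ZMod p, y ^ 3 + d * (y ^ 2 - 1) ≠ 0 := by
  by_contra hcon
  push Not at hcon
  choose g hg using hcon
  have hy : ∀ d, g d ^ 2 - 1 ≠ 0 := by
    intro d h0
    have h1 := hg d
    rw [h0, mul_zero, add_zero] at h1
    have h2 : g d = 0 := by simpa using h1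
    rw [h2] at h0
    simp at h0
  have hinj : Function.Injective g := by
    intro d d' h
    have h1 := hg d
    have h2 := hg d'
    rw [h] at h1
    have h3 : (d - d') * (g d' ^ 2 - 1) = 0 := by linear_combination h1 - h2
    rcases mul_eq_zero.mp h3 with h4 | h4
    · exact sub_eq_zero.mp h4
    · exact absurd h4 (hy d')
  obtain ⟨d, hd⟩ := Finite.injective_iff_surjective.mp hinj 1
  apply hy d
  rw [hd]; ring

theorem norm_sub_root {K : Type*} [Field K] (h : K[X]) (hm : h.Monic) (hne : h ≠ 0) (c : K) :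
    Algebra.norm K (algebraMap K (AdjoinRoot h) c - AdjoinRoot.root h) = h.eval c := by
  classical
  set pb := AdjoinRoot.powerBasis hne with hpb
  have hgen : pb.gen = AdjoinRoot.root h := AdjoinRoot.powerBasis_gen hne
  have hmin : minpoly K (AdjoinRoot.root h) = h := by
    rw [AdjoinRoot.minpoly_root hne, hm.leadingCoeff, inv_one, map_one, mul_one]
  have hchar : (Algebra.leftMulMatrix pb.basis (AdjoinRoot.root h)).charpoly = h := by
    rw [← hgen, charpoly_leftMulMatrix, hgen, hmin]
  have hev : h.eval c = (Algebra.leftMulMatrix pb.basis (AdjoinRoot.root h)).charpoly.eval c := by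
    rw [hchar]
  rw [hev, Matrix.eval_charpoly, Algebra.norm_eq_matrix_det pb.basis, map_sub, AlgHom.commutes]
  rfl


end part1

section part2

variable (p : ℕ) [Fact p.Prime]

/-- The cubic `X³ + d X² - d`. -/
noncomputable def cubic (d : ZMod p) : (ZMod p)[X] := C 1 * X ^ 3 + C d * X ^ 2 + C 0 * X + C (-d)

theorem cubic_natDegree (d : ZMod p) : (cubic p d).natDegree = 3 :=
  Polynomial.natDegree_cubic one_ne_zero

theorem cubic_monic (d : ZMod p) : (cubic p d).Monic := by
  unfold Polynomial.Monic cubic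
  rw [Polynomial.leadingCoeff_cubic one_ne_zero]

theorem cubic_eval (d y : ZMod p) : (cubic p d).eval y = y ^ 3 + d * (y ^ 2 - 1) := by
  unfold cubic
  simp
  ring

theorem exists_q_three (hp : p ≠ 2) :
    ∃ a : GaloisField p 3, a ≠ 1 ∧ Algebra.norm (ZMod p) a = 1 ∧ Algebra.norm (ZMod p) (2 - a) = 1 := by
  classical
  obtain ⟨d, hd⟩ := exists_d p
  set h := cubic p d with hh
  have hdeg : h.natDegree = 3 := cubic_natDegree p d
  have hm : h.Monic := cubic_monic p d
  have hne : h ≠ 0 := hm.ne_zero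
  have hirr : Irreducible h := by
    apply Polynomial.irreducible_of_degree_le_three_of_not_isRoot
    · rw [hdeg]; simp
    · intro x hx
      rw [Polynomial.IsRoot.def, cubic_eval] at hx
      exact hd x hx
  have : Fact (Irreducible h) := ⟨hirr⟩
  set pb := AdjoinRoot.powerBasis hne with hpb
  have hfr : Module.finrank (ZMod p) (AdjoinRoot h) = 3 := by
    rw [pb.finrank, AdjoinRoot.powerBasis_dim, hdeg]
  have : Module.Finite (ZMod p) (AdjoinRoot h) := pb.finite
  have hcard : Nat.card (AdjoinRoot h) = p ^ 3 := by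
    rw [Module.natCard_eq_pow_finrank (K := ZMod p), hfr, Nat.card_eq_fintype_card, ZMod.card]
  let e := GaloisField.algEquivGaloisField p 3 hcard
  have hN : ∀ c : ZMod p, Algebra.norm (ZMod p) (algebraMap (ZMod p) (GaloisField p 3) c - e (AdjoinRoot.root h))
      = h.eval c := by
    intro c
    have h1 : algebraMap (ZMod p) (GaloisField p 3) c - e (AdjoinRoot.root h)
        = e (algebraMap (ZMod p) (AdjoinRoot h) c - AdjoinRoot.root h) := by
      rw [map_sub, AlgEquiv.commutes]
    rw [h1, Algebra.norm_eq_of_algEquiv, norm_sub_root h hm hne c]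
  refine ⟨1 + e (AdjoinRoot.root h), ?_, ?_, ?_⟩
  · intro h1
    have h2 : e (AdjoinRoot.root h) = 0 := by simpa using h1
    have h3 := hN 0
    rw [h2, map_zero, sub_zero, Algebra.norm_zero, cubic_eval] at h3
    exact hd 0 h3.symm
  · have h1 : (1 : GaloisField p 3) + e (AdjoinRoot.root h)
        = algebraMap (ZMod p) (GaloisField p 3) (-1) *
          (algebraMap (ZMod p) (GaloisField p 3) (-1) - e (AdjoinRoot.root h)) := by
      rw [map_neg, map_one]; ring
    rw [h1, map_mul, hN, Algebra.norm_algebraMap, GaloisField.finrank p (by norm_num), cubic_eval]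
    ring
  · have h1 : (2 : GaloisField p 3) - (1 + e (AdjoinRoot.root h))
        = algebraMap (ZMod p) (GaloisField p 3) 1 - e (AdjoinRoot.root h) := by
      rw [map_one]; ring
    rw [h1, hN, cubic_eval]
    ring



end part2

section part3

variable (p q : ℕ) [Fact p.Prime] [Fact q.Prime]

theorem card_norm_one [Fintype (GaloisField p q)] [DecidableEq (GaloisField p q)] :
    (Finset.univ.filter (fun a : GaloisField p q => Algebra.norm (ZMod p) a = 1)).card * (p - 1)
      = p ^ q - 1 := by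
  have hq0 : q ≠ 0 := (Fact.out : q.Prime).ne_zero
  set f := Units.map (Algebra.norm (ZMod p) (S := GaloisField p q) : GaloisField p q →* ZMod p) with hf
  have hsurj : Function.Surjective f := FiniteField.unitsMap_norm_surjective (ZMod p) (GaloisField p q)
  have h1 := Subgroup.card_mul_index f.ker
  rw [Subgroup.index_ker, MonoidHom.range_eq_top.mpr hsurj, Subgroup.card_top, Nat.card_units,
    Nat.card_units, GaloisField.card p q hq0, Nat.card_eq_fintype_card (α := ZMod p), ZMod.card] at h1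
  rw [← h1]
  congr 1
  rw [← Fintype.card_coe, ← Nat.card_eq_fintype_card]
  refine Nat.card_congr (Equiv.symm ?_)
  refine
    { toFun := fun x => ⟨(x.1 : GaloisField p q), ?_⟩
      invFun := fun a => ⟨Units.mk0 a.1 ?_, ?_⟩
      left_inv := ?_
      right_inv := ?_ }
  · have := x.2
    rw [MonoidHom.mem_ker, Units.ext_iff] at this
    simpa [hf] using this
  · intro h0
    have := a.2
    rw [Finset.mem_filter, h0, Algebra.norm_zero] at this
    exact zero_ne_one this.2
  · rw [MonoidHom.mem_ker, Units.ext_iff]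
    have := a.2
    rw [Finset.mem_filter] at this
    simpa [hf] using this.2
  · intro x
    ext
    simp
  · intro a
    ext
    simp



theorem arith (n N P s : ℝ) (hP : 3 ≤ P) (hn : P ^ 4 ≤ n) (hN : n * (P - 1) = N - 1)
    (hs0 : 0 ≤ s) (hs : s ^ 2 = N - n) (h : n ^ 2 - N ≤ s * (N - n)) : False := by
  have hP4 : (81 : ℝ) ≤ P ^ 4 := by nlinarith [mul_nonneg (sub_nonneg.mpr hP) (sub_nonneg.mpr hP)]
  have hn1 : 1 ≤ n := by linarith
  have hnP : P ≤ n := by nlinarith [mul_nonneg (sub_nonneg.mpr hP) (sub_nonneg.mpr hP)]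
  have hNeq : N = n * (P - 1) + 1 := by linarith
  set D := N - n with hD
  have hD0 : 0 ≤ D := by rw [← hs]; positivity
  have hD1 : D ≤ n * (P - 1) := by rw [hD, hNeq]; nlinarith
  have hA : n * (n - P) ≤ n ^ 2 - N := by rw [hNeq]; nlinarith
  have hA0 : 0 ≤ n * (n - P) := mul_nonneg (by linarith) (by linarith)
  -- step 3
  have h3 : n * (P - 1) ^ 3 < (n - P) ^ 2 := by
    have e : P ^ 4 - 2 * P - (P - 1) ^ 3 > 0 := by nlinarith [mul_nonneg (sub_nonneg.mpr hP) (sub_nonneg.mpr hP), sq_nonneg (P^2), sq_nonneg P]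
    nlinarith [mul_nonneg (by linarith : (0:ℝ) ≤ n) (sub_nonneg.mpr hn), sq_nonneg P]
  have hP1 : 0 ≤ P - 1 := by linarith
  have h4 : D ^ 3 ≤ (n * (P - 1)) ^ 3 := pow_le_pow_left₀ hD0 hD1 3
  have h5 : (n * (P - 1)) ^ 3 < (n * (n - P)) ^ 2 := by
    have : (n * (P - 1)) ^ 3 = n ^ 2 * (n * (P - 1) ^ 3) := by ring
    rw [this, mul_pow]
    exact mul_lt_mul_of_pos_left h3 (by positivity)
  have h6 : (n * (n - P)) ^ 2 ≤ (n ^ 2 - N) ^ 2 := pow_le_pow_left₀ hA0 hA 2
  have h7 : D ^ 3 < (n ^ 2 - N) ^ 2 := by linarith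
  have h8 : (s * D) ^ 2 = D ^ 3 := by rw [mul_pow, hs]; ring
  have h9 : (n ^ 2 - N) ^ 2 ≤ (s * D) ^ 2 := pow_le_pow_left₀ (by linarith) h 2
  linarith

end part3

section assembly

variable (p q : ℕ) [Fact p.Prime] [Fact q.Prime]

theorem two_le_of_exists {E : Set (GaloisField p q)} (h1 : (1 : GaloisField p q) ∈ E)
    (a : GaloisField p q) (ha : a ∈ E) (hne : a ≠ 1) : 2 ≤ Set.ncard E := by
  have hsub : ({a, 1} : Set (GaloisField p q)) ⊆ E := by
    intro x hx
    rcases hx with rfl | rfl
    · exact ha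
    · exact h1
  calc 2 = Set.ncard ({a, 1} : Set (GaloisField p q)) := (Set.ncard_pair hne).symm
    _ ≤ Set.ncard E := Set.ncard_le_ncard hsub (Set.toFinite E)

theorem exists_of_five_le (hp : p ≠ 2) (hq5 : 5 ≤ q) :
    ∃ a : GaloisField p q, a ≠ 1 ∧ Algebra.norm (ZMod p) a = 1 ∧ Algebra.norm (ZMod p) (2 - a) = 1 := by
  classical
  letI : Fintype (GaloisField p q) := Fintype.ofFinite _
  have hq0 : q ≠ 0 := (Fact.out : q.Prime).ne_zero
  have hpp : p.Prime := Fact.out
  have hp3 : 3 ≤ p := by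
    have := hpp.two_le
    omega
  set U : Finset (GaloisField p q) :=
    Finset.univ.filter (fun a : GaloisField p q => Algebra.norm (ZMod p) a = 1) with hU
  have hmemU : ∀ a, a ∈ U ↔ Algebra.norm (ZMod p) a = 1 := by
    intro a; rw [hU, Finset.mem_filter]; simp
  have h0U : (0 : GaloisField p q) ∉ U := by
    rw [hmemU, Algebra.norm_zero]; exact zero_ne_one
  have hmul : ∀ u ∈ U, ∀ v ∈ U, u * v ∈ U := by
    intro u hu v hv
    rw [hmemU] at hu hv ⊢
    rw [map_mul, hu, hv, one_mul]
  have hinv : ∀ u ∈ U, u⁻¹ ∈ U := by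
    intro u hu
    have hu0 : u ≠ 0 := fun h => h0U (h ▸ hu)
    rw [hmemU] at hu ⊢
    have h1 : Algebra.norm (ZMod p) (u⁻¹ * u) = 1 := by rw [inv_mul_cancel₀ hu0, map_one]
    rwa [map_mul, hu, mul_one] at h1
  have h1U : (1 : GaloisField p q) ∈ U := by rw [hmemU, map_one]
  have hne : U.Nonempty := ⟨1, h1U⟩
  have h2 : (2 : GaloisField p q) ≠ 0 := by
    intro h
    have h' : ((2 : ℕ) : GaloisField p q) = 0 := by exact_mod_cast h
    rw [CharP.cast_eq_zero_iff (GaloisField p q) p] at h'
    have := (Nat.prime_dvd_prime_iff_eq hpp Nat.prime_two).mp h'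
    exact hp this
  -- a nontrivial additive character
  obtain ⟨ψ, hψ1⟩ := (AddChar.exists_apply_ne_zero (α := GaloisField p q) (a := 1)).mpr one_ne_zero
  have hψ : ψ ≠ 0 := by
    intro h; apply hψ1; rw [h]; simp
  have key := Helper8.NormSum.key_estimate ψ hψ U h0U hmul hinv hne h2
  have hcardU := card_norm_one p q
  rw [← hU] at hcardU
  have hcardF : Fintype.card (GaloisField p q) = p ^ q := by
    rw [← Nat.card_eq_fintype_card, GaloisField.card p q hq0]
  set R := (U ×ˢ U).filter (fun t : GaloisField p q × GaloisField p q => t.1 + t.2 = 2) with hR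
  -- it suffices to show 2 ≤ R.card
  have hR2 : 1 < R.card := by
    by_contra hle
    push Not at hle
    -- real arithmetic
    have hPle : (3 : ℝ) ≤ (p : ℝ) := by exact_mod_cast hp3
    have hNreal : (U.card : ℝ) * ((p : ℝ) - 1) = ((Fintype.card (GaloisField p q) : ℕ) : ℝ) - 1 := by
      rw [hcardF]
      have h1 : 1 ≤ p := by omega
      have h2 : 1 ≤ p ^ q := Nat.one_le_pow _ _ (by omega)
      have := congrArg (Nat.cast : ℕ → ℝ) hcardU
      rw [Nat.cast_mul, Nat.cast_sub h1, Nat.cast_sub h2] at this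
      simpa using this
    have hn4 : (p : ℝ) ^ 4 ≤ (U.card : ℝ) := by
      have h5 : (p : ℝ) ^ 5 ≤ (p : ℝ) ^ q := pow_le_pow_right₀ (by linarith) hq5
      rw [hcardF] at hNreal
      push_cast at hNreal
      have hp1 : (0 : ℝ) < (p : ℝ) - 1 := by linarith
      have : (p : ℝ) ^ 4 * ((p : ℝ) - 1) ≤ (U.card : ℝ) * ((p : ℝ) - 1) := by
        rw [hNreal]
        have : (1 : ℝ) ≤ (p : ℝ) ^ 4 := one_le_pow₀ (by linarith)
        nlinarith
      exact le_of_mul_le_mul_right this hp1
    have hDnonneg : (0 : ℝ) ≤ (Fintype.card (GaloisField p q) : ℝ) - U.card := by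
      have : U.card ≤ Fintype.card (GaloisField p q) := Finset.card_le_univ _
      have : (U.card : ℝ) ≤ (Fintype.card (GaloisField p q) : ℝ) := by exact_mod_cast this
      linarith
    have hRle : (R.card : ℝ) ≤ 1 := by exact_mod_cast hle
    have hNpos : (0 : ℝ) ≤ (Fintype.card (GaloisField p q) : ℝ) := by positivity
    refine arith (U.card : ℝ) (Fintype.card (GaloisField p q) : ℝ) (p : ℝ)
      (Real.sqrt ((Fintype.card (GaloisField p q) : ℝ) - U.card)) hPle hn4 hNreal
      (Real.sqrt_nonneg _) (Real.sq_sqrt hDnonneg) ?_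
    calc (U.card : ℝ) ^ 2 - (Fintype.card (GaloisField p q) : ℝ)
        ≤ (U.card : ℝ) ^ 2 - (Fintype.card (GaloisField p q) : ℝ) * R.card := by nlinarith
      _ ≤ _ := key
  obtain ⟨s, hs, t, ht, hst⟩ := Finset.one_lt_card.mp hR2
  rw [hR, Finset.mem_filter, Finset.mem_product] at hs ht
  -- one of s.1, t.1 differs from 1
  have hdiff : s.1 ≠ t.1 := by
    intro h
    apply hst
    have : s.2 = t.2 := by
      have h1 := hs.2
      have h2 := ht.2
      rw [h] at h1
      exact add_left_cancel (h1.trans h2.symm)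
    exact Prod.ext h this
  have hmemE : ∀ r : GaloisField p q × GaloisField p q, (r.1 ∈ U ∧ r.2 ∈ U) ∧ r.1 + r.2 = 2 →
      Algebra.norm (ZMod p) r.1 = 1 ∧ Algebra.norm (ZMod p) (2 - r.1) = 1 := by
    intro r hr
    refine ⟨(hmemU _).mp hr.1.1, ?_⟩
    have : 2 - r.1 = r.2 := by rw [← hr.2]; ring
    rw [this]
    exact (hmemU _).mp hr.1.2
  by_cases h1 : s.1 = 1
  · refine ⟨t.1, ?_, hmemE t ht⟩
    intro h; exact hdiff (h1.trans h.symm)
  · exact ⟨s.1, h1, hmemE s hs⟩

end assembly

/-- Let p and q be odd primes with (p^q − 1)/(p − 1) coprime to p − 1. Then there are at least two elements a of the field with p ^ q elements such that both a and 2 − a have norm 1 to the prime field. -/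
theorem result (p q : ℕ) [Fact p.Prime] [Fact q.Prime] (hp : p ≠ 2) (hq : q ≠ 2) (hA : Nat.Coprime ((p ^ q - 1) / (p - 1)) (p - 1)) :
    2 ≤ Set.ncard {a : GaloisField p q | Algebra.norm (ZMod p) a = 1 ∧ Algebra.norm (ZMod p) (2 - a) = 1} := by
  have hqp : q.Prime := Fact.out
  have h1E : (1 : GaloisField p q) ∈ {a : GaloisField p q | Algebra.norm (ZMod p) a = 1 ∧ Algebra.norm (ZMod p) (2 - a) = 1} := by
    refine ⟨map_one _, ?_⟩
    have : (2 : GaloisField p q) - 1 = 1 := by ring
    rw [this, map_one]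
  by_cases hq3 : q = 3
  · subst hq3
    obtain ⟨a, ha1, haN, haN2⟩ := exists_q_three p hp
    exact two_le_of_exists p 3 h1E a ⟨haN, haN2⟩ ha1
  · have hq5 : 5 ≤ q := by
      have h2 := hqp.two_le
      by_contra hlt
      push Not at hlt
      interval_cases q
      · exact hq rfl
      · exact hq3 rfl
      · exact absurd hqp (by norm_num)
    obtain ⟨a, ha1, haN, haN2⟩ := exists_of_five_le p q hp hq5
    exact two_le_of_exists p q h1E a ⟨haN, haN2⟩ ha1

end Cfsg.Agent.S1471
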