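import Cfsg.Statements.S1077
import Cfsg.Agent.Lib.Helper6.StPres
-- import your own Cfsg.Agent.* helpers here

set_option autoImplicit false
open Cfsg

namespace Cfsg.Agent.S1077

/-- Steinberg's Theorem: there is a homomorphism `x̄_r(t) ↦ x_r(t)` from the presented group onto the Chevalley group whose kernel is precisely the centre; hence `L(K) ≅ Ḡ/Z(Ḡ)`. -/
theorem result {K : Type*} [Field K] (D : Cfsg.Lie.ChevalleyDatum) (hD : D ∈ [Cfsg.Lie.chevG2, Cfsg.Lie.chevB2, Cfsg.Lie.chevD4, Cfsg.Lie.chevF4, Cfsg.Lie.chevE6, Cfsg.Lie.chevE7, Cfsg.Lie.chevE8]) :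
    ∃ θ : D.SteinbergGroup K →* ↥(D.group K), Function.Surjective θ ∧ θ.ker = Subgroup.center (D.SteinbergGroup K) ∧
      ∀ (r : ℕ) (t : K), r < D.nroots → ((θ (D.stGen K r t) : GL D.Idx K) : Matrix D.Idx D.Idx K) = D.x K r t := by
  have hF := Cfsg.Agent.Lead.Chev.chevFacts_of_mem (F := K) D hD
  have hlift := Cfsg.Agent.Helper6.StC.lift_rel hF (Cfsg.Agent.Helper6.ChevL.diag2_of_mem D hD)
  have hsub : D.steinbergRelsAB K ⊆ D.steinbergRels K := by
    rintro g (hg | hg)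
    · exact Or.inl (Or.inl hg)
    · exact Or.inl (Or.inr hg)
  refine ⟨Cfsg.Agent.Helper6.StC.thetaG hD (D.steinbergRels K) hlift,
    Cfsg.Agent.Helper6.StC.thetaG_surjective hD _ hlift,
    le_antisymm (Cfsg.Agent.Helper6.StC.thetaG_ker_le hD _ hsub hlift)
      (Cfsg.Agent.Helper6.StC.center_le_ker hD _ hlift), ?_⟩
  intro r t hr
  unfold Cfsg.Lie.ChevalleyDatum.stGen
  rw [Cfsg.Agent.Helper6.StC.thetaG_val, Cfsg.Agent.Helper6.StC.thetaGL_mk]
  rfl

end Cfsg.Agent.S1077
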