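import Cfsg.Statements.S2397
import Cfsg.Agent.Lib.Helper6.StR3
-- import your own Cfsg.Agent.* helpers here

set_option autoImplicit false
open Cfsg

namespace Cfsg.Agent.S2397

/-- Over a finite field the relators (R3) h̄_r(t₁) h̄_r(t₂) = h̄_r(t₁ t₂) are consequences of (R1) and (R2): for each of the types G₂, B₂, D₄, F₄, E₆, E₇, E₈ (for types B₂ and G₂ the field must have more than two elements — the cases where the Chevalley group is not simple are set aside) the group presented by (R1), (R2) is canonically isomorphic to the one presented by (R1)–(R3), by an isomorphism matching the generators x̄_r(t). -/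
theorem result {K : Type*} [Field K] [Finite K] (D : Cfsg.Lie.ChevalleyDatum) (hD : D ∈ [Cfsg.Lie.chevG2, Cfsg.Lie.chevB2, Cfsg.Lie.chevD4, Cfsg.Lie.chevF4, Cfsg.Lie.chevE6, Cfsg.Lie.chevE7, Cfsg.Lie.chevE8]) (hK : D ∈ [Cfsg.Lie.chevB2, Cfsg.Lie.chevG2] → ∃ x : K, x ≠ 0 ∧ x ≠ 1) :
    ∃ e : D.SteinbergCover K ≃* D.SteinbergGroup K, ∀ (r : ℕ) (t : K), e (D.scGen K r t) = D.stGen K r t := by
  have hF := Cfsg.Agent.Lead.Chev.chevFacts_of_mem (F := K) D hD
  have hliftAB := Cfsg.Agent.Helper6.StC.lift_relAB hF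
  have S := Cfsg.Agent.Helper6.StC.setup hD (D.steinbergRelsAB K) (fun _ h => h) hliftAB
  have hd := Cfsg.Agent.Helper6.StC.stData_of_mem D hD
  have hker := S.ker_le_center hd (Cfsg.Agent.Helper6.StC.gen_eq_top (D.steinbergRelsAB K))
  -- the relators (R1)-(R3) vanish in the cover
  have hR3 : ∀ g ∈ D.steinbergRels K, PresentedGroup.mk (D.steinbergRelsAB K) g = 1 := by
    rintro g ((hg | hg) | ⟨r, t₁, t₂, hr, ht₁, ht₂, rfl⟩)
    · exact PresentedGroup.one_of_mem (Or.inl hg)
    · exact PresentedGroup.one_of_mem (Or.inr hg)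
    · rw [map_mul, map_mul, map_inv, Cfsg.Agent.Helper6.StC.mk_stH, Cfsg.Agent.Helper6.StC.mk_stH,
        Cfsg.Agent.Helper6.StC.mk_stH, mul_inv_eq_one]
      exact S.hG_mul hd (Cfsg.Agent.Helper6.StC.eta_simple_of_mem D hD) hker r hr t₁ t₂ ht₁ ht₂
  have hAB : ∀ g ∈ D.steinbergRelsAB K, PresentedGroup.mk (D.steinbergRels K) g = 1 := by
    rintro g (hg | hg)
    · exact PresentedGroup.one_of_mem (Or.inl (Or.inl hg))
    · exact PresentedGroup.one_of_mem (Or.inl (Or.inr hg))
  have e1 : ∀ (rels : Set (FreeGroup (Fin D.nroots × K))) (g : FreeGroup (Fin D.nroots × K)),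
      FreeGroup.lift (fun q => PresentedGroup.mk rels (FreeGroup.of q)) g = PresentedGroup.mk rels g := by
    intro rels g
    have : FreeGroup.lift (fun q => PresentedGroup.mk rels (FreeGroup.of q)) = PresentedGroup.mk rels :=
      FreeGroup.ext_hom _ _ (fun q => by rw [FreeGroup.lift_apply_of])
    rw [this]
  let f : D.SteinbergCover K →* D.SteinbergGroup K :=
    PresentedGroup.toGroup (f := fun q => PresentedGroup.mk (D.steinbergRels K) (FreeGroup.of q))
      (fun g hg => by rw [e1]; exact hAB g hg)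
  let g : D.SteinbergGroup K →* D.SteinbergCover K :=
    PresentedGroup.toGroup (f := fun q => PresentedGroup.mk (D.steinbergRelsAB K) (FreeGroup.of q))
      (fun g hg => by rw [e1]; exact hR3 g hg)
  have hf : ∀ w : FreeGroup (Fin D.nroots × K),
      f (PresentedGroup.mk (D.steinbergRelsAB K) w) = PresentedGroup.mk (D.steinbergRels K) w := by
    intro w
    exact e1 _ w
  have hg : ∀ w : FreeGroup (Fin D.nroots × K),
      g (PresentedGroup.mk (D.steinbergRels K) w) = PresentedGroup.mk (D.steinbergRelsAB K) w := by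
    intro w
    exact e1 _ w
  have hgf : ∀ x, g (f x) = x := by
    intro x
    obtain ⟨w, rfl⟩ := PresentedGroup.mk_surjective _ x
    rw [hf, hg]
  have hfg : ∀ x, f (g x) = x := by
    intro x
    obtain ⟨w, rfl⟩ := PresentedGroup.mk_surjective _ x
    rw [hg, hf]
  refine ⟨{ toFun := f, invFun := g, left_inv := hgf, right_inv := hfg, map_mul' := f.map_mul }, ?_⟩
  intro r t
  exact hf _

end Cfsg.Agent.S2397
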