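import Mathlib
import Cfsg.Statements.S1226

set_option autoImplicit false
open Cfsg

namespace Cfsg.Agent.S1226

open Subgroup

/-- Under the CIT-type hypothesis, the centralizer of an involution normalizing a Sylow 2-subgroup `T`
is `T` itself. -/
theorem centralizer_eq_sylow {G : Type*} [Group G] [Finite G] (T : Sylow 2 G)
    (hC : ∀ t : G, orderOf t = 2 → IsMulCommutative (Subgroup.centralizer ({t} : Set G)) ∧
      ∀ c ∈ Subgroup.centralizer ({t} : Set G), c ^ 2 = 1)
    (t : G) (ht : orderOf t = 2) (htN : t ∈ Subgroup.normalizer ((T : Subgroup G) : Set G)) :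
    Subgroup.centralizer ({t} : Set G) = (T : Subgroup G) := by
  -- t ∈ T
  have htp : IsPGroup 2 (Subgroup.zpowers t) := by
    apply IsPGroup.of_card (n := 1)
    rw [Nat.card_zpowers, ht, pow_one]
  have htT : t ∈ (T : Subgroup G) := by
    have h1 : t ∈ Subgroup.zpowers t ⊓ Subgroup.normalizer ((T : Subgroup G) : Set G) :=
      ⟨Subgroup.mem_zpowers t, htN⟩
    have e := htp.inf_normalizer_sylow T
    have h1' : t ∈ Subgroup.zpowers t ⊓ (T : Subgroup G) := by
      rw [← e]; exact h1
    exact h1'.2
  -- T nontrivial, pick central involution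
  haveI : Nontrivial (T : Subgroup G) := by
    refine ⟨⟨⟨t, htT⟩, 1, ?_⟩⟩
    intro h
    have : t = 1 := congrArg Subtype.val h
    rw [this, orderOf_one] at ht
    omega
  have hz : Nontrivial (Subgroup.center (T : Subgroup G)) := T.2.center_nontrivial
  have h2 : 2 ∣ Nat.card (Subgroup.center (T : Subgroup G)) := by
    have hpg : IsPGroup 2 (Subgroup.center (T : Subgroup G)) := T.2.to_subgroup _
    obtain ⟨k, hk⟩ := hpg.exists_card_eq
    rcases Nat.eq_zero_or_pos k with h0 | h0
    · rw [h0, pow_zero] at hk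
      have := Finite.one_lt_card (α := Subgroup.center (T : Subgroup G))
      omega
    · rw [hk]; exact dvd_pow_self 2 h0.ne'
  obtain ⟨z, hz2⟩ := exists_prime_orderOf_dvd_card' (G := Subgroup.center (T : Subgroup G)) 2 h2
  -- z as an element of G
  have hzG : orderOf ((z : (T : Subgroup G)) : G) = 2 := by
    rw [Subgroup.orderOf_coe, Subgroup.orderOf_coe, hz2]
  obtain ⟨hcomm, _⟩ := hC _ hzG
  have hTle : (T : Subgroup G) ≤ Subgroup.centralizer ({((z : (T : Subgroup G)) : G)} : Set G) := by
    intro x hx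
    rw [Subgroup.mem_centralizer_singleton_iff]
    have := (Subgroup.mem_center_iff.1 z.2) ⟨x, hx⟩
    exact congrArg Subtype.val this
  -- T is commutative
  have hTcomm : ∀ a ∈ (T : Subgroup G), ∀ b ∈ (T : Subgroup G), a * b = b * a := by
    intro a ha b hb
    have := (isMulCommutative_iff.1 hcomm) ⟨a, hTle ha⟩ ⟨b, hTle hb⟩
    exact congrArg Subtype.val this
  -- C(t) is a 2-group containing T
  obtain ⟨_, hexp⟩ := hC t ht
  have hCp : IsPGroup 2 (Subgroup.centralizer ({t} : Set G)) := by
    intro c
    refine ⟨1, ?_⟩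
    rw [pow_one]
    exact Subtype.ext (hexp c c.2)
  have hle : (T : Subgroup G) ≤ Subgroup.centralizer ({t} : Set G) := by
    intro x hx
    rw [Subgroup.mem_centralizer_singleton_iff]
    exact hTcomm x hx t htT
  exact T.is_maximal' hCp hle

/-- Let G be a finite group with a Sylow 2-subgroup T that is neither cyclic nor normal, such that the centralizer of every involution is an elementary abelian 2-group. Then N_G(T) is a strongly embedded subgroup of G. -/
theorem result {G : Type*} [Group G] [Finite G] (T : Sylow 2 G) (hnc : ¬ IsCyclic (T : Subgroup G)) (hnn : ¬ (T : Subgroup G).Normal) (hC : ∀ t : G, orderOf t = 2 → IsMulCommutative (Subgroup.centralizer ({t} : Set G)) ∧ ∀ c ∈ Subgroup.centralizer ({t} : Set G), c ^ 2 = 1) : Cfsg.IsStronglyEmbedded (Subgroup.normalizer ((T : Subgroup G) : Set G)) := by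
  have hTne : (T : Subgroup G) ≠ ⊥ := by
    intro h
    apply hnc
    rw [h]
    infer_instance
  refine ⟨?_, ?_, ?_⟩
  · intro htop
    exact hnn (Subgroup.normalizer_eq_top_iff.1 htop)
  · have h2T : 2 ∣ Nat.card (T : Subgroup G) := by
      obtain ⟨k, hk⟩ := T.2.exists_card_eq
      rcases Nat.eq_zero_or_pos k with h0 | h0
      · rw [h0, pow_zero] at hk
        exact absurd (Subgroup.card_eq_one.1 hk) hTne
      · rw [hk]; exact dvd_pow_self 2 h0.ne'
    exact (even_iff_two_dvd).2 (h2T.trans (Subgroup.card_dvd_of_le Subgroup.le_normalizer))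
  · intro g hg
    rw [← Nat.not_even_iff_odd]
    intro heven
    have h2 : 2 ∣ Nat.card ↥(Subgroup.normalizer ((T : Subgroup G) : Set G) ⊓
        (Subgroup.normalizer ((T : Subgroup G) : Set G)).map (MulAut.conj g).toMonoidHom) :=
      even_iff_two_dvd.1 heven
    obtain ⟨t, ht⟩ := exists_prime_orderOf_dvd_card' 2 h2
    have htG : orderOf (t : G) = 2 := by rw [Subgroup.orderOf_coe, ht]
    obtain ⟨htN, htNg⟩ := t.2
    obtain ⟨s, hsN, hst⟩ := htNg
    have hst' : g * s * g⁻¹ = (t : G) := hst
    have hsG : orderOf s = 2 := by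
      have := MulEquiv.orderOf_eq (MulAut.conj g) s
      rw [MulAut.conj_apply, hst', htG] at this
      exact this.symm
    have h1 := centralizer_eq_sylow T hC (t : G) htG htN
    have h3 := centralizer_eq_sylow T hC s hsG hsN
    apply hg
    rw [Subgroup.mem_normalizer_iff]
    intro x
    have hx1 : x ∈ (T : Subgroup G) ↔ x * s = s * x := by
      rw [← h3, Subgroup.mem_centralizer_singleton_iff]
    have hx2 : g * x * g⁻¹ ∈ (T : Subgroup G) ↔ g * x * g⁻¹ * (g * s * g⁻¹) = g * s * g⁻¹ * (g * x * g⁻¹) := by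
      rw [← h1, Subgroup.mem_centralizer_singleton_iff, ← hst']
    rw [hx1, hx2]
    constructor
    · intro h
      calc g * x * g⁻¹ * (g * s * g⁻¹) = g * (x * s) * g⁻¹ := by group
        _ = g * (s * x) * g⁻¹ := by rw [h]
        _ = g * s * g⁻¹ * (g * x * g⁻¹) := by group
    · intro h
      have : g * (x * s) * g⁻¹ = g * (s * x) * g⁻¹ := by
        calc g * (x * s) * g⁻¹ = g * x * g⁻¹ * (g * s * g⁻¹) := by group
          _ = g * s * g⁻¹ * (g * x * g⁻¹) := h
          _ = g * (s * x) * g⁻¹ := by group
      exact mul_left_cancel (mul_right_cancel this)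

end Cfsg.Agent.S1226
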