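import Mathlib
import Cfsg.Statements.S0320
import Cfsg.Agent.Lib.Helper2.BNPair
import Cfsg.Agent.Lib.Helper2.Matsumoto

set_option autoImplicit false
open Cfsg

namespace Cfsg.Agent.S0320

open Cfsg.Agent.Helper2.BN Cfsg.Agent.Helper2.WordLen

theorem exchange' {G : Type*} [Group G] (P : Cfsg.BNPair G) (l : List P.S) (i : P.S)
    (h : len (σ P) (σ P i * wp (σ P) l) ≤ len (σ P) (wp (σ P) l)) :
    ∃ j < l.length, σ P i * wp (σ P) l = wp (σ P) (l.eraseIdx j) := by
  apply exchange P i l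
  rw [not_Up_iff_lt]
  have := ℓ_gen_mul_ne P i (wp (σ P) l)
  have h' : ℓ P (σ P i * wp (σ P) l) ≤ ℓ P (wp (σ P) l) := h
  omega

/-- The Weyl group `W = N / (B ⊓ N)` of a (B,N)-pair, with its distinguished involutions, is a Coxeter system. -/
theorem result {G : Type*} [Group G] (P : Cfsg.BNPair G)
    [hN : ((P.B ⊓ P.N).subgroupOf P.N).Normal] :
    ∃ (M : CoxeterMatrix P.S) (cs : CoxeterSystem M (P.N ⧸ (P.B ⊓ P.N).subgroupOf P.N)),
      ∀ s : P.S, cs.simple s = QuotientGroup.mk (⟨(s : G), P.subset s.2⟩ : P.N) := by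
  obtain ⟨cs, hcs⟩ := exists_coxeterSystem (σ P) (σ_mul_self P) (wp_surj P) (exchange' P)
    (σ_injective P)
  exact ⟨coxMat (σ P) (σ_mul_self P) (σ_injective P), cs, hcs⟩

end Cfsg.Agent.S0320
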