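import Cfsg.Statements.S1078
import Cfsg.Agent.Lib.Helper6.StPres
import Cfsg.Agent.Lib.Helper6.StCenter
-- import your own Cfsg.Agent.* helpers here

set_option autoImplicit false
open Cfsg

namespace Cfsg.Agent.S1078

/-- For G₂, F₄, E₈ the presented group has trivial centre (the universal and adjoint groups coincide). -/
theorem result {K : Type*} [Field K] (D : Cfsg.Lie.ChevalleyDatum) (hD : D ∈ [Cfsg.Lie.chevG2, Cfsg.Lie.chevF4, Cfsg.Lie.chevE8]) :
    Subgroup.center (D.SteinbergGroup K) = ⊥ := by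
  have hD7 : D ∈ [Cfsg.Lie.chevG2, Cfsg.Lie.chevB2, Cfsg.Lie.chevD4, Cfsg.Lie.chevF4, Cfsg.Lie.chevE6,
      Cfsg.Lie.chevE7, Cfsg.Lie.chevE8] := by
    simp only [List.mem_cons, List.mem_nil_iff, or_false] at hD ⊢
    rcases hD with rfl | rfl | rfl <;> simp
  have hF := Cfsg.Agent.Lead.Chev.chevFacts_of_mem (F := K) D hD7
  have hlift := Cfsg.Agent.Helper6.StC.lift_rel hF (Cfsg.Agent.Helper6.ChevL.diag2_of_mem D hD7)
  have hsub : D.steinbergRelsAB K ⊆ D.steinbergRels K := by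
    rintro g (hg | hg)
    · exact Or.inl (Or.inl hg)
    · exact Or.inl (Or.inr hg)
  have hd := Cfsg.Agent.Helper6.StC.stData_of_mem D hD7
  have hS := Cfsg.Agent.Helper6.StC.setup hD7 (D.steinbergRels K) hsub hlift
  have h3 : Cfsg.Agent.Helper6.StC.R3 D
      (fun r t => PresentedGroup.mk (D.steinbergRels K) (D.stX r t)) := by
    intro i hi t₁ t₂ ht₁ ht₂
    have hmem : D.stH (D.simple i) t₁ * D.stH (D.simple i) t₂ * (D.stH (D.simple i) (t₁ * t₂))⁻¹ ∈
        D.steinbergRels K := Or.inr ⟨D.simple i, t₁, t₂, hF.simple_lt i hi, ht₁, ht₂, rfl⟩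
    have h1 := PresentedGroup.one_of_mem hmem
    rw [map_mul, map_mul, map_inv, mul_inv_eq_one, Cfsg.Agent.Helper6.StC.mk_stH,
      Cfsg.Agent.Helper6.StC.mk_stH, Cfsg.Agent.Helper6.StC.mk_stH] at h1
    exact h1
  rw [eq_bot_iff]
  intro z hz
  rw [Subgroup.mem_bot]
  have hz1 := Cfsg.Agent.Helper6.StC.center_le_ker hD7 (D.steinbergRels K) hlift hz
  have hz2 : Cfsg.Agent.Helper6.StC.thetaGL hD7 (D.steinbergRels K) hlift z = 1 := by
    rw [MonoidHom.mem_ker] at hz1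
    have := congrArg (fun y : D.group K => (y : GL D.Idx K)) hz1
    exact this
  have hz3 := hS.ker_le_subH hd (Cfsg.Agent.Helper6.StC.gen_eq_top (D.steinbergRels K))
    (show z ∈ (Cfsg.Agent.Helper6.StC.thetaGL hD7 (D.steinbergRels K) hlift).ker from hz2)
  exact hS.eq_one_of_mem_subH hd h3 (Cfsg.Agent.Helper6.StC.torusHom_injective_of_mem D hD) z hz3 hz2

end Cfsg.Agent.S1078
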