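import Mathlib
import Cfsg.Statements.S1081
import Cfsg.Agent.Lib.Helper6.ChevGraph_E6
import Cfsg.Agent.Lib.Helper6.ChevGraph_D4a
import Cfsg.Agent.Lib.Helper6.ChevGraph_D4b

set_option autoImplicit false
open Cfsg

namespace Cfsg.Agent.S1081

open Cfsg.Lie Cfsg.Agent.Helper6.ChevC Cfsg.Agent.Helper6.ChevT

/-- the generic argument -/
theorem aux {F : Type*} [Field F] (D : ChevalleyDatum) (d e : GP) (rho : List ℕ)
    (h : GraphData D d e)
    (h1 : ∀ i < D.rank, D.simple i < D.nroots)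
    (h2 : ∀ i < D.rank, D.neg (D.simple i) < D.nroots)
    (h3 : ∀ i < D.rank, d.π (D.simple i) = D.simple (rho.getD i 0))
    (h4 : ∀ i < D.rank, d.ε (D.simple i) = 1)
    (h5 : ∀ i < D.rank, d.π (D.neg (D.simple i)) = D.neg (D.simple (rho.getD i 0)))
    (h6 : ∀ i < D.rank, d.ε (D.neg (D.simple i)) = 1) :
    ∃ α : ↥(D.group F) ≃* ↥(D.group F), ∀ (g : ↥(D.group F)) (i : ℕ) (t : F), i < D.rank →
      (((g : GL D.Idx F) : Matrix D.Idx D.Idx F) = D.x F (D.simple i) t →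
        ((α g : GL D.Idx F) : Matrix D.Idx D.Idx F) = D.x F (D.simple (rho.getD i 0)) t) ∧
      (((g : GL D.Idx F) : Matrix D.Idx D.Idx F) = D.x F (D.neg (D.simple i)) t →
        ((α g : GL D.Idx F) : Matrix D.Idx D.Idx F) = D.x F (D.neg (D.simple (rho.getD i 0))) t) := by
  refine ⟨graphAut D d e h, ?_⟩
  intro g i t hi
  constructor
  · intro hg
    rw [graphAut_apply D d e h g _ (h1 i hi) t hg, h3 i hi, h4 i hi, Int.cast_one, one_mul]
  · intro hg
    rw [graphAut_apply D d e h g _ (h2 i hi) t hg, h5 i hi, h6 i hi, Int.cast_one, one_mul]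

/-- Graph automorphisms: for E₆ with ρ = (p₁ p₆)(p₃ p₅) and for D₄ with ρ the 3-cycle on the outer nodes there is a group automorphism sending `x_p(t) ↦ x_{ρ(p)}(t)` and `x_{-p}(t) ↦ x_{-ρ(p)}(t)` for every fundamental root `p`. -/
theorem result {F : Type*} [Field F] (p : Cfsg.Lie.ChevalleyDatum × List ℕ)
    (hp : p ∈ [(Cfsg.Lie.chevE6, [5, 1, 4, 3, 2, 0]), (Cfsg.Lie.chevD4, [2, 1, 3, 0]), (Cfsg.Lie.chevD4, [3, 1, 0, 2])]) :
    ∃ α : ↥(p.1.group F) ≃* ↥(p.1.group F), ∀ (g : ↥(p.1.group F)) (i : ℕ) (t : F), i < p.1.rank →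
      (((g : GL p.1.Idx F) : Matrix p.1.Idx p.1.Idx F) = p.1.x F (p.1.simple i) t →
        ((α g : GL p.1.Idx F) : Matrix p.1.Idx p.1.Idx F) = p.1.x F (p.1.simple (p.2.getD i 0)) t) ∧
      (((g : GL p.1.Idx F) : Matrix p.1.Idx p.1.Idx F) = p.1.x F (p.1.neg (p.1.simple i)) t →
        ((α g : GL p.1.Idx F) : Matrix p.1.Idx p.1.Idx F) = p.1.x F (p.1.neg (p.1.simple (p.2.getD i 0))) t) := by
  simp only [List.mem_cons, List.not_mem_nil, or_false] at hp
  rcases hp with rfl | rfl | rfl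
  · exact aux chevE6 GE6.gp GE6.gpInv _ GE6.data GE6.simple_lt GE6.neg_simple_lt GE6.pi_simple
      GE6.eps_simple GE6.pi_neg_simple GE6.eps_neg_simple
  · exact aux chevD4 GD4a.gp GD4a.gpInv _ GD4a.data GD4a.simple_lt GD4a.neg_simple_lt GD4a.pi_simple
      GD4a.eps_simple GD4a.pi_neg_simple GD4a.eps_neg_simple
  · exact aux chevD4 GD4b.gp GD4b.gpInv _ GD4b.data GD4b.simple_lt GD4b.neg_simple_lt GD4b.pi_simple
      GD4b.eps_simple GD4b.pi_neg_simple GD4b.eps_neg_simple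

end Cfsg.Agent.S1081
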