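import Cfsg.Statements.S2400
import Cfsg.Agent.Lib.Helper6.CExtMult2
import Cfsg.Agent.Lib.Helper6.CExtB2F3
import Cfsg.Agent.Lib.Helper6.CExtB2C
import Cfsg.Agent.Lib.Helper6.CExtD4S
import Cfsg.Agent.Lib.Helper6.CExtSteinChev
import Cfsg.Agent.Lib.Helper6.CExtE6
import Cfsg.Agent.Lib.Helper6.CExtE7
open Cfsg.Lie Cfsg.Agent.Lead.Chev Cfsg.Agent.Helper6.StC Cfsg.Agent.Helper6.CExt
-- import your own Cfsg.Agent.* helpers here

set_option autoImplicit false
open Cfsg

namespace Cfsg.Agent.S2400

/-- Over a finite field `K`, the group presented by Steinberg's relators (R1)–(R3) (the universal Chevalley group) of type E₆ or E₇, or of type B₂ or D₄ with `K` of more than two elements, has trivial Schur multiplier: every finite stem extension of it is an isomorphism (Schur multiplier described through stem extensions as in the definitions). Types G₂, F₄ and E₈ are not covered here. -/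
theorem result {K : Type*} [Field K] [Fintype K] (e : Cfsg.Lie.ChevalleyDatum × ℕ)
    (he : e ∈ [(Cfsg.Lie.chevE6, 0), (Cfsg.Lie.chevE7, 0), (Cfsg.Lie.chevB2, 2), (Cfsg.Lie.chevD4, 2)]) (hK : Fintype.card K ≠ e.2) :
    Cfsg.HasCyclicSchurMultiplier (e.1.SteinbergGroup K) 1 := by
  classical
  have h1 : 1 < Fintype.card K := Fintype.one_lt_card
  -- elements of a field with more than two elements
  have hx : 2 < Fintype.card K → ∃ x : K, x ≠ 0 ∧ x ≠ 1 := by
    intro h
    have hne : ((Finset.univ.erase (0 : K)).erase 1).Nonempty := by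
      rw [← Finset.card_pos, Finset.card_erase_of_mem, Finset.card_erase_of_mem (Finset.mem_univ _),
        Finset.card_univ]
      · omega
      · rw [Finset.mem_erase]
        exact ⟨one_ne_zero, Finset.mem_univ _⟩
    obtain ⟨x, hx⟩ := hne
    rw [Finset.mem_erase, Finset.mem_erase] at hx
    exact ⟨x, hx.2.1, hx.1⟩
  have hcard0 : ((Fintype.card K : ℕ) : K) = 0 := by
    have := card_nsmul_eq_zero (G := K) (x := (1 : K))
    rwa [nsmul_one] at this
  simp only [List.mem_cons, List.not_mem_nil, or_false] at he
  rcases he with rfl | rfl | rfl | rfl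
  · have hD : chevE6 ∈ [chevG2, chevB2, chevD4, chevF4, chevE6, chevE7, chevE8] := by simp
    refine hasCyclicSchurMultiplier_one_steinbergGroup chevE6 hD ?_
      (fun E _ σ hs hc => exists_cover_hom_stein hD steinTab_E6 σ hs hc)
    intro h
    exfalso
    simp only [List.mem_cons, List.not_mem_nil, or_false] at h
    rcases h with h | h
    · have := congrArg ChevalleyDatum.rank h
      revert this
      decide
    · have := congrArg ChevalleyDatum.rank h
      revert this
      decide
  · have hD : chevE7 ∈ [chevG2, chevB2, chevD4, chevF4, chevE6, chevE7, chevE8] := by simp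
    refine hasCyclicSchurMultiplier_one_steinbergGroup chevE7 hD ?_
      (fun E _ σ hs hc => exists_cover_hom_stein hD steinTab_E7 σ hs hc)
    intro h
    exfalso
    simp only [List.mem_cons, List.not_mem_nil, or_false] at h
    rcases h with h | h
    · have := congrArg ChevalleyDatum.rank h
      revert this
      decide
    · have := congrArg ChevalleyDatum.rank h
      revert this
      decide
  · have hK' : Fintype.card K ≠ 2 := hK
    have hK3 : ∃ x : K, x ≠ 0 ∧ x ≠ 1 := hx (by omega)
    refine hasCyclicSchurMultiplier_one_steinbergGroup chevB2 hB2 (fun _ => hK3) ?_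
    intro E _ σ hs hc
    by_cases h3 : Fintype.card K = 3
    · -- the field with three elements
      rw [h3] at hcard0
      have h2 : (2 : K) ≠ 0 := by
        intro h
        have : (1 : K) = 0 := by
          have e : (1 : K) = ((3 : ℕ) : K) - 2 := by push_cast; ring
          rw [e, hcard0, h, sub_zero]
        exact one_ne_zero this
      have hne1 : (-1 : K) ≠ 1 := by
        intro h
        apply h2
        have : (2 : K) = 1 - (-1) := by ring
        rw [this, h, sub_self]
      have hS : ({0, 1, -1} : Finset K) = Finset.univ := by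
        apply Finset.eq_univ_of_card
        rw [h3, Finset.card_insert_of_notMem, Finset.card_insert_of_notMem, Finset.card_singleton]
        · rw [Finset.mem_singleton]
          exact fun h => hne1 h.symm
        · rw [Finset.mem_insert, Finset.mem_singleton, not_or]
          exact ⟨zero_ne_one, fun h => one_ne_zero (neg_eq_zero.1 h.symm)⟩
      have hK0 : ∀ x : K, x = 0 ∨ x = 1 ∨ x = -1 := by
        intro x
        have hxm : x ∈ ({0, 1, -1} : Finset K) := by rw [hS]; exact Finset.mem_univ x
        simpa using hxm
      exact exists_cover_hom_B2F3 hK0 h2 σ hs hc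
    · by_cases h4 : Fintype.card K = 4
      · rw [h4] at hcard0
        have h2 : (2 : K) = 0 := by
          have e : ((4 : ℕ) : K) = 2 * 2 := by push_cast; ring
          rw [e] at hcard0
          rcases mul_eq_zero.1 hcard0 with h | h <;> exact h
        exact exists_cover_hom_c2 hB2 char2Tab_B2 h2 hK3 σ hs hc
      · have hK5 : ∃ s : Finset K, 4 < s.card := ⟨Finset.univ, by rw [Finset.card_univ]; omega⟩
        exact exists_cover_hom_tor2 hB2 torusTab2_B2 hK5 σ hs hc
  · have hK' : Fintype.card K ≠ 2 := hK
    have hK3 : ∃ x : K, x ≠ 0 ∧ x ≠ 1 := hx (by omega)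
    have hD : chevD4 ∈ [chevG2, chevB2, chevD4, chevF4, chevE6, chevE7, chevE8] := by simp
    refine hasCyclicSchurMultiplier_one_steinbergGroup chevD4 hD (fun _ => hK3)
      (fun E _ σ hs hc => exists_cover_hom_hybS hD hybTabS_D4 hK3 σ hs hc)

end Cfsg.Agent.S2400
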