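import Mathlib
import Cfsg.Statements.S4475
import Cfsg.Agent.Lib.Helper24.FrobeniusSchur
import Cfsg.Agent.Lib.Helper24.CharComplete
import Cfsg.Agent.Lib.Helper24.CharLinear
import Cfsg.Agent.Lib.Helper5.RepExtend
import Cfsg.Agent.Lib.Helper5.IrrOfChar

set_option autoImplicit false
set_option linter.style.haveILetI false
open Cfsg

namespace Cfsg.Agent.S4475

open Cfsg.Agent.Helper24 Matrix
open scoped ComplexConjugate

universe u

variable {G : Type u} [Group G] [Fintype G] {n : ℕ}

theorem toLin'_repMat (ρ : Representation ℂ G (Fin n → ℂ)) (g : G) :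
    Matrix.toLin' (repMat ρ g) = ρ g := by
  rw [repMat_apply, Matrix.toLin'_toMatrix']

/-- Schur's lemma in matrix form. -/
theorem exists_scalar_matrix (ρ : Representation ℂ G (Fin n → ℂ)) (hirr : ρ.IsIrreducible)
    (T : Matrix (Fin n) (Fin n) ℂ) (hT : ∀ g, T * repMat ρ g = repMat ρ g * T) :
    ∃ c : ℂ, T = c • (1 : Matrix (Fin n) (Fin n) ℂ) := by
  obtain ⟨c, hc⟩ := exists_scalar_of_comm ρ hirr (Matrix.toLin' T) (fun h => by
    rw [← toLin'_repMat ρ h, ← Matrix.toLin'_mul, ← Matrix.toLin'_mul, hT h])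
  refine ⟨c, ?_⟩
  have := congrArg LinearMap.toMatrix' hc
  rw [LinearMap.toMatrix'_toLin', map_smul] at this
  rw [this]
  congr 1
  exact LinearMap.toMatrix'_one

theorem natCast_ne_zero_of_irr (ρ : Representation ℂ G (Fin n → ℂ)) (hirr : ρ.IsIrreducible) :
    (n : ℂ) ≠ 0 := by
  have hnt : Nontrivial (Fin n → ℂ) := ((isIrreducible_iff ρ).mp hirr).1
  intro h
  have hn : n = 0 := by exact_mod_cast h
  subst hn
  exact not_subsingleton (Fin 0 → ℂ) inferInstance

/-- Schur orthogonality for matrix coefficients. -/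
theorem sum_coeff (ρ : Representation ℂ G (Fin n → ℂ)) (hirr : ρ.IsIrreducible)
    (i j l k : Fin n) :
    ∑ g : G, repMat ρ g i j * repMat ρ g⁻¹ l k =
      if j = l ∧ i = k then (Nat.card G : ℂ) / n else 0 := by
  classical
  have hn := natCast_ne_zero_of_irr ρ hirr
  set A : Matrix (Fin n) (Fin n) ℂ := Matrix.single j l 1 with hA
  set S : Matrix (Fin n) (Fin n) ℂ := ∑ g : G, repMat ρ g * A * repMat ρ g⁻¹ with hS
  have hcomm : ∀ h : G, S * repMat ρ h = repMat ρ h * S := by
    intro h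
    rw [hS, Finset.sum_mul, Finset.mul_sum]
    apply Fintype.sum_equiv (Equiv.mulLeft h⁻¹)
    intro g
    simp only [Equiv.coe_mulLeft]
    have e1 : repMat ρ h * repMat ρ (h⁻¹ * g) = repMat ρ g := by
      rw [← map_mul, mul_inv_cancel_left]
    have e2 : repMat ρ (h⁻¹ * g)⁻¹ = repMat ρ g⁻¹ * repMat ρ h := by
      rw [← map_mul, _root_.mul_inv_rev, inv_inv]
    rw [e2]
    simp only [Matrix.mul_assoc]
    rw [← Matrix.mul_assoc (repMat ρ h) (repMat ρ (h⁻¹ * g)), e1]
  obtain ⟨c, hc⟩ := exists_scalar_matrix ρ hirr S hcomm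
  have htr : S.trace = (Nat.card G : ℂ) * (if j = l then 1 else 0) := by
    rw [hS, Matrix.trace_sum]
    have : ∀ g : G, (repMat ρ g * A * repMat ρ g⁻¹).trace = if j = l then 1 else 0 := by
      intro g
      rw [Matrix.trace_mul_comm, ← Matrix.mul_assoc, ← map_mul, inv_mul_cancel, map_one,
        Matrix.one_mul, hA]
      by_cases hjl : j = l
      · rw [hjl, Matrix.trace_single_eq_same, if_pos rfl]
      · rw [Matrix.trace_single_eq_of_ne _ _ _ hjl, if_neg hjl]
    simp only [this]
    rw [Finset.sum_const, Finset.card_univ, nsmul_eq_mul, Nat.card_eq_fintype_card]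
  rw [hc, Matrix.trace_smul, Matrix.trace_one, Fintype.card_fin, smul_eq_mul] at htr
  have hc' : c = (Nat.card G : ℂ) * (if j = l then 1 else 0) / n := by
    field_simp
    exact htr
  have hentry : S i k = ∑ g : G, repMat ρ g i j * repMat ρ g⁻¹ l k := by
    rw [hS, Matrix.sum_apply]
    apply Finset.sum_congr rfl
    intro g _
    rw [Matrix.mul_apply]
    rw [Finset.sum_eq_single l]
    · rw [hA, Matrix.mul_single_apply_same, mul_one]
    · intro b _ hb
      rw [hA, Matrix.mul_single_apply_of_ne (c := (1 : ℂ)) j l i b hb, zero_mul]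
    · intro h
      exact absurd (Finset.mem_univ l) h
  rw [← hentry, hc, Matrix.smul_apply, Matrix.one_apply, smul_eq_mul, hc']
  by_cases hjl : j = l <;> by_cases hik : i = k <;> simp [hjl, hik]

/-- The dual (contragredient) representation in matrix form. -/
noncomputable def dualRep (ρ : Representation ℂ G (Fin n → ℂ)) :
    Representation ℂ G (Fin n → ℂ) where
  toFun g := Matrix.toLin' ((repMat ρ g⁻¹)ᵀ)
  map_one' := by
    rw [inv_one, map_one, Matrix.transpose_one, Matrix.toLin'_one]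
    rfl
  map_mul' g h := by
    rw [_root_.mul_inv_rev, map_mul, Matrix.transpose_mul, Matrix.toLin'_mul]
    rfl

theorem repMat_dualRep (ρ : Representation ℂ G (Fin n → ℂ)) (g : G) :
    repMat (dualRep ρ) g = (repMat ρ g⁻¹)ᵀ := by
  rw [repMat_apply]
  show LinearMap.toMatrix' (Matrix.toLin' ((repMat ρ g⁻¹)ᵀ)) = _
  rw [LinearMap.toMatrix'_toLin']

theorem character_dualRep (ρ : Representation ℂ G (Fin n → ℂ))
    (hreal : ∀ g : G, (ρ.character g).im = 0) : (dualRep ρ).character = ρ.character := by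
  funext g
  rw [← trace_repMat, repMat_dualRep, Matrix.trace_transpose, trace_repMat]
  have hc : IsCharacter G ρ.character := ⟨n, ρ, rfl⟩
  rw [irr_inv hc g]
  exact Complex.conj_eq_iff_im.mpr (hreal g)

/-- Moving the sum over the group inside four coordinate sums. -/
theorem sum_comm4 (F : G → Fin n → Fin n → Fin n → Fin n → ℂ) :
    ∑ s : G, ∑ i, ∑ j, ∑ k, ∑ l, F s i j k l = ∑ i, ∑ j, ∑ k, ∑ l, ∑ s : G, F s i j k l := by
  rw [Finset.sum_comm]
  refine Finset.sum_congr rfl fun i _ => ?_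
  rw [Finset.sum_comm]
  refine Finset.sum_congr rfl fun j _ => ?_
  rw [Finset.sum_comm]
  refine Finset.sum_congr rfl fun k _ => ?_
  rw [Finset.sum_comm]

/-- The key computation: the sum of `tr (X(s)²)` in terms of an invariant form. -/
theorem sum_trace_sq (ρ : Representation ℂ G (Fin n → ℂ)) (hirr : ρ.IsIrreducible)
    (P P' : Matrix (Fin n) (Fin n) ℂ)
    (hX : ∀ s : G, repMat ρ s = P' * ((repMat ρ s⁻¹)ᵀ * P)) :
    ∑ s : G, (repMat ρ s * repMat ρ s).trace = (Nat.card G : ℂ) / n * (P' * Pᵀ).trace := by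
  classical
  have hentry : ∀ (s : G) (j i : Fin n), repMat ρ s j i =
      ∑ k, ∑ l, P' j k * (repMat ρ s⁻¹ l k * P l i) := by
    intro s j i
    have h := congrFun (congrFun (hX s) j) i
    rw [h, Matrix.mul_apply]
    refine Finset.sum_congr rfl fun k _ => ?_
    rw [Matrix.mul_apply, Finset.mul_sum]
    refine Finset.sum_congr rfl fun l _ => ?_
    rw [Matrix.transpose_apply]
  have h1 : ∀ s : G, (repMat ρ s * repMat ρ s).trace =
      ∑ i, ∑ j, ∑ k, ∑ l, repMat ρ s i j * (P' j k * (repMat ρ s⁻¹ l k * P l i)) := by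
    intro s
    simp only [Matrix.trace, Matrix.diag_apply, Matrix.mul_apply]
    refine Finset.sum_congr rfl fun i _ => ?_
    refine Finset.sum_congr rfl fun j _ => ?_
    rw [hentry s j i, Finset.mul_sum]
    refine Finset.sum_congr rfl fun k _ => ?_
    rw [Finset.mul_sum]
  simp only [h1]
  rw [sum_comm4]
  have h2 : ∀ i j k l : Fin n,
      ∑ s : G, repMat ρ s i j * (P' j k * (repMat ρ s⁻¹ l k * P l i)) =
        P' j k * P l i * (if j = l ∧ i = k then (Nat.card G : ℂ) / n else 0) := by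
    intro i j k l
    rw [← sum_coeff ρ hirr i j l k, Finset.mul_sum]
    refine Finset.sum_congr rfl fun s _ => ?_
    ring
  simp only [h2]
  have h3 : ∀ i j : Fin n, ∑ k, ∑ l, P' j k * P l i *
      (if j = l ∧ i = k then (Nat.card G : ℂ) / n else 0) =
      P' j i * P j i * ((Nat.card G : ℂ) / n) := by
    intro i j
    rw [Finset.sum_eq_single i]
    · rw [Finset.sum_eq_single j]
      · rw [if_pos ⟨rfl, rfl⟩]
      · intro l _ hl
        rw [if_neg (fun h => hl h.1.symm), mul_zero]
      · intro h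
        exact absurd (Finset.mem_univ j) h
    · intro k _ hk
      apply Finset.sum_eq_zero
      intro l _
      rw [if_neg (fun h => hk h.2.symm), mul_zero]
    · intro h
      exact absurd (Finset.mem_univ i) h
  simp only [h3]
  simp only [Matrix.trace, Matrix.diag_apply, Matrix.mul_apply, Matrix.transpose_apply]
  rw [Finset.sum_comm, Finset.mul_sum]
  refine Finset.sum_congr rfl fun j _ => ?_
  rw [Finset.mul_sum]
  refine Finset.sum_congr rfl fun i _ => ?_
  ring

/-- Let ρ be an irreducible representation of the finite group G on the coordinate space Fin n → ℂ whose character χ is real-valued, and let ν be the Frobenius–Schur indicator of χ (the average of χ(s²)). Writing X(g) for the matrix of ρ(g), there is a nonzero matrix M with X(g)ᵀ M X(g) = M for all g ∈ G; and every such M (zero or not) satisfies Mᵀ = ν·M. -/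
theorem result {G : Type*} [Group G] [Fintype G] (n : ℕ) (ρ : Representation ℂ G (Fin n → ℂ)) (hirr : ρ.IsIrreducible) (hreal : ∀ g : G, (ρ.character g).im = 0) : (∃ M : Matrix (Fin n) (Fin n) ℂ, M ≠ 0 ∧ ∀ g : G, (LinearMap.toMatrix' (ρ g)).transpose * M * LinearMap.toMatrix' (ρ g) = M) ∧ ∀ M : Matrix (Fin n) (Fin n) ℂ, (∀ g : G, (LinearMap.toMatrix' (ρ g)).transpose * M * LinearMap.toMatrix' (ρ g) = M) → M.transpose = ((Nat.card G : ℂ)⁻¹ * ∑ s : G, ρ.character (s * s)) • M := by
  classical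
  have hn := natCast_ne_zero_of_irr ρ hirr
  have hN : (Nat.card G : ℂ) ≠ 0 := by
    have : Nat.card G ≠ 0 := Nat.card_pos.ne'
    exact_mod_cast this
  have hχirr : IsIrrCharacter G ρ.character := ⟨n, ρ, hirr, rfl⟩
  have hdual_irr : (dualRep ρ).IsIrreducible := by
    apply Cfsg.Agent.Helper5.isIrreducible_of_isIrrCharacter
    rw [character_dualRep ρ hreal]
    exact hχirr
  obtain ⟨φ⟩ := Cfsg.Agent.Helper5.nonempty_equiv_of_char_eq ρ (dualRep ρ) hirr hdual_irr
    (character_dualRep ρ hreal).symm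
  set P : Matrix (Fin n) (Fin n) ℂ := LinearMap.toMatrix' φ.toLinearEquiv.toLinearMap with hP
  set P' : Matrix (Fin n) (Fin n) ℂ :=
    LinearMap.toMatrix' φ.toLinearEquiv.symm.toLinearMap with hP'
  have hPP' : P * P' = 1 := by
    rw [hP, hP', ← LinearMap.toMatrix'_comp, LinearEquiv.comp_symm, LinearMap.toMatrix'_id]
  have hP'P : P' * P = 1 := by
    rw [hP, hP', ← LinearMap.toMatrix'_comp, LinearEquiv.symm_comp, LinearMap.toMatrix'_id]
  -- `P X(g) = X(g⁻¹)ᵀ P`
  have hinter : ∀ g : G, P * repMat ρ g = (repMat ρ g⁻¹)ᵀ * P := by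
    intro g
    have h1 := φ.toIntertwiningMap.isIntertwining' g
    have h2 := congrArg LinearMap.toMatrix' h1
    rw [LinearMap.toMatrix'_comp, LinearMap.toMatrix'_comp] at h2
    rw [← repMat_dualRep]
    exact h2
  -- `X(g) P' = P' X(g⁻¹)ᵀ`
  have hinter' : ∀ g : G, repMat ρ g * P' = P' * (repMat ρ g⁻¹)ᵀ := by
    intro g
    have h1 : P' * (P * repMat ρ g) * P' = P' * ((repMat ρ g⁻¹)ᵀ * P) * P' := by
      rw [hinter g]
    rw [← Matrix.mul_assoc, hP'P, Matrix.one_mul, Matrix.mul_assoc, Matrix.mul_assoc, hPP',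
      Matrix.mul_one] at h1
    exact h1
  have hXX : ∀ g : G, (repMat ρ g⁻¹)ᵀ * (repMat ρ g)ᵀ = 1 := by
    intro g
    rw [← Matrix.transpose_mul, ← map_mul, mul_inv_cancel, map_one, Matrix.transpose_one]
  have hXX' : ∀ g : G, (repMat ρ g)ᵀ * (repMat ρ g⁻¹)ᵀ = 1 := by
    intro g
    rw [← Matrix.transpose_mul, ← map_mul, inv_mul_cancel, map_one, Matrix.transpose_one]
  -- invariance of `P`
  have hPinv : ∀ g : G, (repMat ρ g)ᵀ * P * repMat ρ g = P := by
    intro g
    rw [Matrix.mul_assoc, hinter g, ← Matrix.mul_assoc, hXX', Matrix.one_mul]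
  -- every invariant form is a multiple of `P`
  have hmult : ∀ M : Matrix (Fin n) (Fin n) ℂ,
      (∀ g : G, (repMat ρ g)ᵀ * M * repMat ρ g = M) → ∃ c : ℂ, M = c • P := by
    intro M hM
    have hM' : ∀ g : G, M * repMat ρ g = (repMat ρ g⁻¹)ᵀ * M := by
      intro g
      have h1 : (repMat ρ g⁻¹)ᵀ * ((repMat ρ g)ᵀ * M * repMat ρ g) = (repMat ρ g⁻¹)ᵀ * M := by
        rw [hM g]
      rw [Matrix.mul_assoc, ← Matrix.mul_assoc, hXX, Matrix.one_mul] at h1
      exact h1
    obtain ⟨c, hc⟩ := exists_scalar_matrix ρ hirr (P' * M) (fun g => by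
      rw [Matrix.mul_assoc, hM' g, ← Matrix.mul_assoc, ← hinter' g, Matrix.mul_assoc])
    refine ⟨c, ?_⟩
    have h2 : P * (P' * M) = P * (c • (1 : Matrix (Fin n) (Fin n) ℂ)) := by rw [hc]
    rw [← Matrix.mul_assoc, hPP', Matrix.one_mul, Matrix.mul_smul, Matrix.mul_one] at h2
    exact h2
  -- the sign of `P`
  have hPtinv : ∀ g : G, (repMat ρ g)ᵀ * Pᵀ * repMat ρ g = Pᵀ := by
    intro g
    have := congrArg Matrix.transpose (hPinv g)
    rw [Matrix.transpose_mul, Matrix.transpose_mul, Matrix.transpose_transpose,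
      ← Matrix.mul_assoc] at this
    exact this
  obtain ⟨ε, hε⟩ := hmult Pᵀ hPtinv
  -- `ε` is the Frobenius–Schur indicator
  have hX : ∀ s : G, repMat ρ s = P' * ((repMat ρ s⁻¹)ᵀ * P) := by
    intro s
    rw [← hinter s, ← Matrix.mul_assoc, hP'P, Matrix.one_mul]
  have hsum := sum_trace_sq ρ hirr P P' hX
  have hν : ((Nat.card G : ℂ)⁻¹ * ∑ s : G, ρ.character (s * s)) = ε := by
    have h1 : ∑ s : G, ρ.character (s * s) = ∑ s : G, (repMat ρ s * repMat ρ s).trace := by
      refine Finset.sum_congr rfl fun s _ => ?_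
      rw [← map_mul, trace_repMat]
    rw [h1, hsum, hε, Matrix.mul_smul, Matrix.trace_smul, hP'P, Matrix.trace_one,
      Fintype.card_fin, smul_eq_mul]
    field_simp
  refine ⟨⟨P, ?_, fun g => hPinv g⟩, ?_⟩
  · intro h0
    rw [h0, Matrix.zero_mul] at hPP'
    have h00 := congrFun (congrFun hPP' ⟨0, by
      rcases Nat.eq_zero_or_pos n with h | h
      · exact absurd (by rw [h]; simp) hn
      · exact h⟩) ⟨0, by
      rcases Nat.eq_zero_or_pos n with h | h
      · exact absurd (by rw [h]; simp) hn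
      · exact h⟩
    simp at h00
  · intro M hM
    obtain ⟨c, hc⟩ := hmult M hM
    rw [hν, hc, Matrix.transpose_smul, hε, smul_comm]

end Cfsg.Agent.S4475
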