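import Mathlib
import Cfsg.Statements.S3056
import Cfsg.Agent.Lib.Helper15.SylowGraph

namespace Cfsg.Agent.S3056

open Cfsg.Agent.Helper15

/-- Let G be a finite group and p a prime. Join two Sylow p-subgroups when they are distinct and meet nontrivially. This graph on the Sylow p-subgroups is disconnected (the Sylow p-subgroups are not chain-connected through nontrivial intersections) if and only if G has a strongly p-embedded subgroup in the classical sense: a proper subgroup H of order divisible by p such that H ∩ gHg⁻¹ has order prime to p for every g outside H. -/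
theorem result {G : Type*} [Group G] [Finite G]
    (p : ℕ) [Fact p.Prime] :
    ¬ Cfsg.IsSylowChainConnected p G ↔
      ∃ H : Subgroup G, H ≠ ⊤ ∧ p ∣ Nat.card H ∧
        ∀ g : G, g ∉ H → ¬ p ∣ Nat.card ↥(H ⊓ H.map (MulAut.conj g).toMonoidHom) := by
  have hp : p.Prime := Fact.out
  rw [isSylowChainConnected_iff]
  constructor
  · intro hcon
    push Not at hcon
    obtain ⟨S, T, hST⟩ := hcon
    set H := componentStabilizer p S with hHdef
    have hSH : (S : Subgroup G) ≤ H := by
      intro s hs
      rw [mem_componentStabilizer]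
      have : s • S = S := Sylow.smul_eq_iff_mem_normalizer.2 (Subgroup.le_normalizer hs)
      rw [this]
    obtain ⟨g₀, hg₀⟩ := MulAction.exists_smul_eq G S T
    have hS1 : (S : Subgroup G) ≠ ⊥ := by
      intro hb
      apply hST
      have : T = S := by
        apply Sylow.ext
        rw [← hg₀, sylow_coe_smul_eq_map, hb, Subgroup.map_bot]
      rw [this]
    have hSp : p ∣ Nat.card ↥(S : Subgroup G) := by
      have : Nontrivial ↥(S : Subgroup G) := (Subgroup.nontrivial_iff_ne_bot _).2 hS1
      obtain ⟨n, hn0, hn⟩ := S.isPGroup'.nontrivial_iff_card.1 this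
      rw [hn]; exact dvd_pow_self _ hn0.ne'
    refine ⟨H, ?_, hSp.trans (Subgroup.card_dvd_of_le hSH), ?_⟩
    · intro htop
      apply hST
      have : g₀ ∈ H := by rw [htop]; exact Subgroup.mem_top _
      rw [mem_componentStabilizer, hg₀] at this
      exact this
    · intro g hg hdvd
      apply hg
      obtain ⟨x, hx⟩ := exists_prime_orderOf_dvd_card' p hdvd
      have hxK : (x : G) ∈ H ⊓ H.map (MulAut.conj g).toMonoidHom := x.2
      have hxo : orderOf (x : G) = p := by rw [Subgroup.orderOf_coe, hx]
      set Q := Subgroup.zpowers (x : G) with hQ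
      have hQp : IsPGroup p ↥Q := isPGroup_zpowers_of_orderOf ⟨1, by rw [hxo, pow_one]⟩
      have hQ1 : Q ≠ ⊥ := by
        intro hb
        rw [hQ, Subgroup.zpowers_eq_bot] at hb
        rw [hb, orderOf_one] at hxo
        exact hp.one_lt.ne hxo
      have hQH : Q ≤ H := (Subgroup.zpowers_le).2 hxK.1
      have hQH' : Q ≤ H.map (MulAut.conj g).toMonoidHom := (Subgroup.zpowers_le).2 hxK.2
      have hSsyl : IsSylowIn p (S : Subgroup G) H := isSylowIn_of_sylow_le S hSH
      obtain ⟨S₁, hQS₁, hS₁⟩ := exists_isSylowIn_ge hQp hQH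
      obtain ⟨h, hh, hhS⟩ := hSsyl.exists_conj hS₁
      have hQ'H : Q.map (MulAut.conj g⁻¹).toMonoidHom ≤ H := by
        have := map_conj_mono hQH' g⁻¹
        rwa [map_conj_inv_map_conj] at this
      obtain ⟨S₂, hQS₂, hS₂⟩ := exists_isSylowIn_ge (isPGroup_map_conj hQp g⁻¹) hQ'H
      obtain ⟨h', hh', hh'S⟩ := hSsyl.exists_conj hS₂
      have hQU : Q ≤ ((h • S : Sylow p G) : Subgroup G) := by
        rw [sylow_coe_smul_eq_map, hhS]; exact hQS₁
      have hQV : Q ≤ (((g * h') • S : Sylow p G) : Subgroup G) := by
        rw [sylow_coe_smul_eq_map, ← map_conj_map_conj, hh'S]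
        have := map_conj_mono hQS₂ g
        rwa [map_conj_map_conj_inv] at this
      have hUV : Relation.ReflTransGen (sylowAdj p) (h • S) ((g * h') • S) := by
        by_cases he : h • S = (g * h') • S
        · rw [he]
        · apply Relation.ReflTransGen.single
          refine ⟨he, ?_⟩
          intro hb
          apply hQ1
          rw [eq_bot_iff, ← hb]
          exact le_inf hQU hQV
      have hSU : Relation.ReflTransGen (sylowAdj p) S (h • S) := mem_componentStabilizer.1 hh
      have hgh' : g * h' ∈ H := mem_componentStabilizer.2 (hSU.trans hUV)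
      have : g = (g * h') * h'⁻¹ := by group
      rw [this]
      exact H.mul_mem hgh' (H.inv_mem hh')
  · rintro ⟨H, hH, hpH, hse⟩ hcon
    obtain ⟨SH, hSH⟩ := exists_isSylowIn (p := p) H
    have hSHtop := isSylowIn_top_of_classicalSE hpH hse hSH
    set S₀ : Sylow p G := hSHtop.sylowOfTop with hS₀
    have hS₀coe : (S₀ : Subgroup G) = SH := rfl
    have hSH1 : SH ≠ ⊥ := by
      intro hb
      have := hSH.card_eq
      rw [hb, Subgroup.card_bot] at this
      have hpos : 0 < (Nat.card ↥H).factorization p :=
        Nat.Prime.factorization_pos_of_dvd hp Nat.card_pos.ne' hpH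
      have : 1 < p ^ (Nat.card ↥H).factorization p := Nat.one_lt_pow hpos.ne' hp.one_lt
      omega
    obtain ⟨g, _, hg⟩ := SetLike.exists_of_lt (lt_top_iff_ne_top.2 hH)
    have key : ∀ U V : Sylow p G, Relation.ReflTransGen (sylowAdj p) U V →
        (U : Subgroup G) ≤ H → (V : Subgroup G) ≤ H := by
      intro U V hUV
      induction hUV with
      | refl => exact id
      | @tail V V' _ hadj ih =>
        intro hU
        have hV := ih hU
        obtain ⟨k, hk⟩ := MulAction.exists_smul_eq G V V'
        have hV'coe : (V' : Subgroup G) = (V : Subgroup G).map (MulAut.conj k).toMonoidHom := by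
          rw [← hk, sylow_coe_smul_eq_map]
        have hkH : k ∈ H := by
          apply mem_of_classicalSE hse (V.isPGroup'.to_le inf_le_left) hadj.2 (inf_le_left.trans hV)
          rw [hV'coe]
          exact inf_le_right.trans (map_conj_mono hV k)
        rw [hV'coe]
        exact (map_conj_mono hV k).trans (map_conj_eq_self_of_mem hkH).le
    have hT₀ := key S₀ (g • S₀) (hcon S₀ (g • S₀)) (by rw [hS₀coe]; exact hSH.le)
    rw [sylow_coe_smul_eq_map, hS₀coe] at hT₀
    apply hg
    apply mem_of_classicalSE hse (isPGroup_map_conj hSH.isPGroup g) _ hT₀ (map_conj_mono hSH.le g)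
    intro hb
    apply hSH1
    have := congrArg (fun K : Subgroup G => K.map (MulAut.conj g⁻¹).toMonoidHom) hb
    rw [map_conj_inv_map_conj, Subgroup.map_bot] at this
    exact this

end Cfsg.Agent.S3056
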