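import Mathlib
import Cfsg.Statements.S1506
import Cfsg.Agent.Lib.Helper8.IndFun

set_option autoImplicit false
open Cfsg

namespace Cfsg.Agent.S1506

open Cfsg.Agent.Helper8
open scoped ComplexConjugate

theorem classInner_combo {G : Type*} [Group G] [Fintype G] (θ A B C : G → ℂ) :
    Cfsg.classInner θ (fun g => 1 - A g - B g + C g)
      = Cfsg.classInner θ (fun _ => 1) - Cfsg.classInner θ A - Cfsg.classInner θ B
        + Cfsg.classInner θ C := by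
  simp only [classInner_def, map_sub, map_add, map_one, mul_sub, mul_add, Finset.sum_sub_distrib,
    Finset.sum_add_distrib]

/-- the basic relation `a(φψ) = a(φ) + a(ψ) - a(1)` -/
theorem basic {G : Type*} [Group G] [Fintype G] (W₁ W₂ : Subgroup G)
    (χ : (↥(W₁ ⊔ W₂) →* ℂˣ) → (G → ℂ)) (hχ : Cfsg.IsCyclicTIFamily W₁ W₂ χ) (θ : G → ℂ)
    (hθ : Cfsg.IsClassFunction G θ)
    (hθV : ∀ w : ↥(W₁ ⊔ W₂), (w : G) ∉ W₁ → (w : G) ∉ W₂ → θ w = 0)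
    (φ ψ : ↥(W₁ ⊔ W₂) →* ℂˣ) (hφ₂ : ∀ w : ↥(W₁ ⊔ W₂), (w : G) ∈ W₂ → φ w = 1)
    (hψ₁ : ∀ w : ↥(W₁ ⊔ W₂), (w : G) ∈ W₁ → ψ w = 1) :
    Cfsg.classInner θ (χ (φ * ψ)) = Cfsg.classInner θ (χ φ) + Cfsg.classInner θ (χ ψ)
      - Cfsg.classInner θ (χ 1) := by
  by_cases hφ1 : φ = 1
  · have e : φ * ψ = ψ := by rw [hφ1]; exact one_mul ψ
    rw [e, hφ1]; ring
  by_cases hψ1 : ψ = 1
  · have e : φ * ψ = φ := by rw [hψ1]; exact mul_one φ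
    rw [e, hψ1]; ring
  have hind := hχ.induced_eq φ ψ hφ1 hψ1 hφ₂ hψ₁
  have := Fintype.ofFinite ↥(W₁ ⊔ W₂)
  have h1 := classInner_indFun_right (W₁ ⊔ W₂)
    (fun w => 1 - (φ w : ℂ) - (ψ w : ℂ) + (φ w : ℂ) * (ψ w : ℂ)) θ hθ
  have h2 : Cfsg.classInner (fun h : ↥(W₁ ⊔ W₂) => θ h)
      (fun w => 1 - (φ w : ℂ) - (ψ w : ℂ) + (φ w : ℂ) * (ψ w : ℂ)) = 0 := by
    rw [classInner_def]
    apply mul_eq_zero_of_right
    apply Finset.sum_eq_zero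
    intro w _
    by_cases hw1 : (w : G) ∈ W₁
    · rw [hψ₁ w hw1]; simp
    · by_cases hw2 : (w : G) ∈ W₂
      · rw [hφ₂ w hw2]; simp
      · rw [hθV w hw1 hw2, zero_mul]
  rw [h2, hind, classInner_combo] at h1
  rw [hχ.map_one]
  linear_combination h1

/-- Let W₁, W₂ ≤ G form a self-normalising cyclic subgroup W = W₁ ⊔ W₂ and χ an orthonormal family of irreducible characters of G up to sign, indexed by the linear characters ω of W, with χ_1 = 1, χ_ω = ω on W outside W₁ ∪ W₂, and the induction identity for (1 − φ)(1 − ψ). Let θ be a class function of G vanishing at every element of W outside W₁ ∪ W₂. For linear characters φ, φ' of W trivial on W₂ and ψ, ψ' trivial on W₁, the inner products a(ω) = ⟨θ, χ ω⟩ satisfy a(φψ) + a(φ'ψ') = a(φψ') + a(φ'ψ). -/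
theorem result {G : Type*} [Group G] [Fintype G] (W₁ W₂ : Subgroup G) (hW : Cfsg.IsSelfNormalizingCyclic W₁ W₂) (χ : (↥(W₁ ⊔ W₂) →* ℂˣ) → (G → ℂ)) (hχ : Cfsg.IsCyclicTIFamily W₁ W₂ χ) (θ : G → ℂ) (hθ : Cfsg.IsClassFunction G θ) (hθV : ∀ w : ↥(W₁ ⊔ W₂), (w : G) ∉ W₁ → (w : G) ∉ W₂ → θ w = 0) (φ φ' ψ ψ' : ↥(W₁ ⊔ W₂) →* ℂˣ) (hφ₂ : ∀ w : ↥(W₁ ⊔ W₂), (w : G) ∈ W₂ → φ w = 1 ∧ φ' w = 1) (hψ₁ : ∀ w : ↥(W₁ ⊔ W₂), (w : G) ∈ W₁ → ψ w = 1 ∧ ψ' w = 1) : Cfsg.classInner θ (χ (φ * ψ)) + Cfsg.classInner θ (χ (φ' * ψ')) = Cfsg.classInner θ (χ (φ * ψ')) + Cfsg.classInner θ (χ (φ' * ψ)) := by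
  have b1 := basic W₁ W₂ χ hχ θ hθ hθV φ ψ (fun w hw => (hφ₂ w hw).1) (fun w hw => (hψ₁ w hw).1)
  have b2 := basic W₁ W₂ χ hχ θ hθ hθV φ' ψ' (fun w hw => (hφ₂ w hw).2) (fun w hw => (hψ₁ w hw).2)
  have b3 := basic W₁ W₂ χ hχ θ hθ hθV φ ψ' (fun w hw => (hφ₂ w hw).1) (fun w hw => (hψ₁ w hw).2)
  have b4 := basic W₁ W₂ χ hχ θ hθ hθV φ' ψ (fun w hw => (hφ₂ w hw).2) (fun w hw => (hψ₁ w hw).1)
  rw [b1, b2, b3, b4]
  ring

end Cfsg.Agent.S1506
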