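import Mathlib
import Cfsg.Statements.S1509
import Cfsg.Agent.Lib.Helper24.CharComplete

set_option autoImplicit false
open Cfsg

namespace Cfsg.Agent.S1509

open Cfsg.Agent.Helper24

variable {X : Type*} [Group X]

/-- a signed irreducible character is `ε • a` with `ε = ±1` real and `a` irreducible. -/
lemma signed_irr (α : X → ℂ) (hα : Cfsg.IsIrrCharacter X α ∨ Cfsg.IsIrrCharacter X (-α)) :
    ∃ (ε : ℝ) (a : X → ℂ), (ε = 1 ∨ ε = -1) ∧ Cfsg.IsIrrCharacter X a ∧ α = (ε : ℂ) • a := by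
  rcases hα with h | h
  · exact ⟨1, α, Or.inl rfl, h, by simp⟩
  · exact ⟨-1, -α, Or.inr rfl, h, by simp⟩

lemma inner_signed [Fintype X] (ε ε' : ℝ) (a b : X → ℂ) (ha : Cfsg.IsIrrCharacter X a)
    (hb : Cfsg.IsIrrCharacter X b) :
    Cfsg.classInner ((ε : ℂ) • a) ((ε' : ℂ) • b) = ((ε * ε' * (if a = b then 1 else 0) : ℝ) : ℂ) := by
  rw [classInner_smul_left, classInner_smul_right, irr_orthogonality ha hb, Complex.conj_ofReal]
  split_ifs <;> simp

/-- Let α, β, γ, δ be functions on a finite group X each of which is an irreducible character or the negative of one, and u, v nonzero real numbers. Suppose ⟨α, β⟩ = ⟨γ, δ⟩ = 0, ⟨α − β, uγ − vδ⟩ = 0, α 1 = β 1 and u γ 1 = v δ 1. Then also ⟨α, γ⟩ = ⟨α, δ⟩ = ⟨β, γ⟩ = ⟨β, δ⟩ = 0. -/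
theorem result {X : Type*} [Group X] [Fintype X] (α β γ δ : X → ℂ) (hα : Cfsg.IsIrrCharacter X α ∨ Cfsg.IsIrrCharacter X (-α)) (hβ : Cfsg.IsIrrCharacter X β ∨ Cfsg.IsIrrCharacter X (-β)) (hγ : Cfsg.IsIrrCharacter X γ ∨ Cfsg.IsIrrCharacter X (-γ)) (hδ : Cfsg.IsIrrCharacter X δ ∨ Cfsg.IsIrrCharacter X (-δ)) (u v : ℝ) (hu : u ≠ 0) (hv : v ≠ 0) (hab : Cfsg.classInner α β = 0) (hcd : Cfsg.classInner γ δ = 0) (hmix : Cfsg.classInner (α - β) ((u : ℂ) • γ - (v : ℂ) • δ) = 0) (h1 : α 1 = β 1) (h2 : (u : ℂ) * γ 1 = (v : ℂ) * δ 1) : Cfsg.classInner α γ = 0 ∧ Cfsg.classInner α δ = 0 ∧ Cfsg.classInner β γ = 0 ∧ Cfsg.classInner β δ = 0 := by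
  classical
  obtain ⟨ea, a, hea, ha, rfl⟩ := signed_irr α hα
  obtain ⟨eb, b, heb, hb, rfl⟩ := signed_irr β hβ
  obtain ⟨ec, c, hec, hc, rfl⟩ := signed_irr γ hγ
  obtain ⟨ed, d, hed, hd, rfl⟩ := signed_irr δ hδ
  obtain ⟨na, hna, ha1⟩ := irr_one_eq ha
  obtain ⟨nb, hnb, hb1⟩ := irr_one_eq hb
  obtain ⟨nc, hnc, hc1⟩ := irr_one_eq hc
  obtain ⟨nd, hnd, hd1⟩ := irr_one_eq hd
  -- expand the mixed inner product
  have hmix' : (u : ℂ) * Cfsg.classInner ((ea : ℂ) • a) ((ec : ℂ) • c)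
      - (v : ℂ) * Cfsg.classInner ((ea : ℂ) • a) ((ed : ℂ) • d)
      - (u : ℂ) * Cfsg.classInner ((eb : ℂ) • b) ((ec : ℂ) • c)
      + (v : ℂ) * Cfsg.classInner ((eb : ℂ) • b) ((ed : ℂ) • d) = 0 := by
    rw [← hmix]
    rw [sub_eq_add_neg ((ea : ℂ) • a), sub_eq_add_neg ((u : ℂ) • (ec : ℂ) • c),
      ← neg_one_smul ℂ ((eb : ℂ) • b), ← neg_one_smul ℂ ((v : ℂ) • (ed : ℂ) • d)]
    simp only [classInner_add_left, classInner_add_right, classInner_smul_left,
      classInner_smul_right, Complex.conj_ofReal, map_neg, map_one]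
    ring
  rw [inner_signed _ _ _ _ ha hb] at hab
  rw [inner_signed _ _ _ _ hc hd] at hcd
  rw [inner_signed _ _ _ _ ha hc, inner_signed _ _ _ _ ha hd, inner_signed _ _ _ _ hb hc,
    inner_signed _ _ _ _ hb hd] at hmix'
  rw [inner_signed _ _ _ _ ha hc, inner_signed _ _ _ _ ha hd, inner_signed _ _ _ _ hb hc,
    inner_signed _ _ _ _ hb hd]
  simp only [Pi.smul_apply, smul_eq_mul, ha1, hb1, hc1, hd1] at h1 h2
  have hab' : ea * eb * (if a = b then 1 else 0) = 0 := by exact_mod_cast hab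
  have hcd' : ec * ed * (if c = d then 1 else 0) = 0 := by exact_mod_cast hcd
  have h1' : ea * na = eb * nb := by exact_mod_cast h1
  have h2' : u * (ec * nc) = v * (ed * nd) := by exact_mod_cast h2
  have hmix'' : u * (ea * ec * (if a = c then 1 else 0)) - v * (ea * ed * (if a = d then 1 else 0))
      - u * (eb * ec * (if b = c then 1 else 0)) + v * (eb * ed * (if b = d then 1 else 0)) = 0 := by
    exact_mod_cast hmix'
  have hna' : (0 : ℝ) < na := by exact_mod_cast hna
  have hnb' : (0 : ℝ) < nb := by exact_mod_cast hnb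
  have hnc' : (0 : ℝ) < nc := by exact_mod_cast hnc
  have hnd' : (0 : ℝ) < nd := by exact_mod_cast hnd
  have hea0 : ea ≠ 0 := by rcases hea with h | h <;> rw [h] <;> norm_num
  have heb0 : eb ≠ 0 := by rcases heb with h | h <;> rw [h] <;> norm_num
  have hec0 : ec ≠ 0 := by rcases hec with h | h <;> rw [h] <;> norm_num
  have hed0 : ed ≠ 0 := by rcases hed with h | h <;> rw [h] <;> norm_num
  have hnab : a ≠ b := by
    intro h
    rw [if_pos h, mul_one] at hab'
    exact mul_ne_zero hea0 heb0 hab'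
  have hncd : c ≠ d := by
    intro h
    rw [if_pos h, mul_one] at hcd'
    exact mul_ne_zero hec0 hed0 hcd'
  -- ea = eb
  have heab : ea = eb := by
    rcases hea with h | h <;> rcases heb with h' | h' <;> rw [h, h'] at h1' ⊢ <;> nlinarith
  subst heab
  -- sign of u*ec = sign of v*ed
  have hpq : 0 < (u * ec) * (v * ed) := by
    have : (u * ec) * nc = (v * ed) * nd := by linarith
    have hq : v * ed ≠ 0 := mul_ne_zero hv hed0
    have hp : u * ec ≠ 0 := mul_ne_zero hu hec0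
    have : (u * ec) * (v * ed) * nc = (v * ed) ^ 2 * nd := by
      rw [mul_right_comm, this]; ring
    have h3 : 0 < (v * ed) ^ 2 * nd := mul_pos (by positivity) hnd'
    rw [← this] at h3
    exact (pos_iff_pos_of_mul_pos h3).mpr hnc'
  have hee : ea * ea = 1 := by rcases hea with h | h <;> rw [h] <;> norm_num
  -- p([a=c] − [b=c]) = q([a=d] − [b=d])
  have hkey : (u * ec) * ((if a = c then (1 : ℝ) else 0) - (if b = c then 1 else 0))
      = (v * ed) * ((if a = d then (1 : ℝ) else 0) - (if b = d then 1 else 0)) := by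
    have : ea * ((u * ec) * ((if a = c then (1 : ℝ) else 0) - (if b = c then 1 else 0))
      - (v * ed) * ((if a = d then (1 : ℝ) else 0) - (if b = d then 1 else 0))) = 0 := by
      linarith
    rcases mul_eq_zero.mp this with h | h
    · exact absurd h hea0
    · linarith
  have hp2 : 0 < (u * ec) ^ 2 := by
    have hp : u * ec ≠ 0 := mul_ne_zero hu hec0
    positivity
  have hq2 : 0 < (v * ed) ^ 2 := by
    have hq : v * ed ≠ 0 := mul_ne_zero hv hed0
    positivity
  have nac : a ≠ c := by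
    intro h
    have hbc : b ≠ c := fun h' => hnab (h.trans h'.symm)
    have had : a ≠ d := fun h' => hncd (h.symm.trans h')
    rw [if_pos h, if_neg hbc, if_neg had] at hkey
    by_cases hbd : b = d
    · rw [if_pos hbd] at hkey
      nlinarith
    · rw [if_neg hbd] at hkey
      nlinarith
  have nad : a ≠ d := by
    intro h
    have hbd : b ≠ d := fun h' => hnab (h.trans h'.symm)
    have hac : a ≠ c := nac
    rw [if_pos h, if_neg hbd, if_neg hac] at hkey
    by_cases hbc : b = c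
    · rw [if_pos hbc] at hkey
      nlinarith
    · rw [if_neg hbc] at hkey
      nlinarith
  have nbc : b ≠ c := by
    intro h
    have hbd : b ≠ d := fun h' => hncd (h.symm.trans h')
    rw [if_pos h, if_neg hbd, if_neg nac, if_neg nad] at hkey
    nlinarith
  have nbd : b ≠ d := by
    intro h
    rw [if_pos h, if_neg nbc, if_neg nac, if_neg nad] at hkey
    nlinarith
  rw [if_neg nac, if_neg nad, if_neg nbc, if_neg nbd]
  simp

end Cfsg.Agent.S1509
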