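import Mathlib
import Cfsg.Statements.S1498
import Cfsg.Agent.Lib.Helper8.Basic

set_option autoImplicit false
open Cfsg

namespace Cfsg.Agent.S1498

theorem one_sided {G : Type*} [Group G] [Finite G] (A : Set G) (L : Subgroup G) (H : G → Subgroup G)
    (hD : Cfsg.DadeHypothesis A L H) (a : G) (ha : a ∈ A) (x : G) (hx : x ∈ L) :
    (H a).map (MulAut.conj x).toMonoidHom ≤ H (x * a * x⁻¹) := by
  have ha' : x * a * x⁻¹ ∈ A := hD.conj_mem x hx a ha
  apply Cfsg.Agent.Helper8.le_of_coprime_of_normal_rel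
    (Subgroup.centralizer ({x * a * x⁻¹} : Set G)) (H (x * a * x⁻¹))
    (L ⊓ Subgroup.centralizer ({x * a * x⁻¹} : Set G)) _
    (hD.le_centralizer _ ha') inf_le_right
  · rintro k ⟨u, hu, rfl⟩
    have huc : u ∈ Subgroup.centralizer ({a} : Set G) := hD.le_centralizer a ha hu
    rw [Subgroup.mem_centralizer_iff] at huc ⊢
    intro y hy
    rw [Set.mem_singleton_iff] at hy
    subst hy
    have := huc a (Set.mem_singleton a)
    simp only [MulEquiv.coe_toMonoidHom, MulAut.conj_apply]
    calc x * a * x⁻¹ * (x * u * x⁻¹) = x * (a * u) * x⁻¹ := by group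
      _ = x * (u * a) * x⁻¹ := by rw [this]
      _ = x * u * x⁻¹ * (x * a * x⁻¹) := by group
  · exact hD.conj_mem_H _ ha'
  · exact hD.inf_eq_bot _ ha'
  · exact hD.sup_eq _ ha'
  · have hc : Nat.card ((H a).map (MulAut.conj x).toMonoidHom) = Nat.card (H a) :=
      Subgroup.card_map_of_injective (MulAut.conj x).injective
    rw [hc]
    exact hD.coprime a ha _ ha'

/-- Under the Dade hypothesis for (A, L, H): for a ∈ A and x ∈ L, the subgroup attached to x * a * x⁻¹ is the conjugate of H a by x. -/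
theorem result {G : Type*} [Group G] [Finite G] (A : Set G) (L : Subgroup G) (H : G → Subgroup G) (hD : Cfsg.DadeHypothesis A L H) (a : G) (ha : a ∈ A) (x : G) (hx : x ∈ L) : H (x * a * x⁻¹) = (H a).map (MulAut.conj x).toMonoidHom := by
  apply le_antisymm
  · have ha' : x * a * x⁻¹ ∈ A := hD.conj_mem x hx a ha
    have h := one_sided A L H hD (x * a * x⁻¹) ha' x⁻¹ (L.inv_mem hx)
    have e : x⁻¹ * (x * a * x⁻¹) * x⁻¹⁻¹ = a := by group
    rw [e] at h
    intro k hk
    refine ⟨x⁻¹ * k * x, h ⟨k, hk, ?_⟩, ?_⟩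
    · simp [MulAut.conj_apply]
    · simp only [MulEquiv.coe_toMonoidHom, MulAut.conj_apply]
      group
  · exact one_sided A L H hD a ha x hx

end Cfsg.Agent.S1498
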