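import Mathlib
import Cfsg.Statements.S1499

set_option autoImplicit false
open Cfsg

namespace Cfsg.Agent.S1499

variable {G : Type*} [Group G] [Finite G]

theorem orderOf_dvd_card_inf (A : Set G) (L : Subgroup G) (H : G → Subgroup G)
    (hD : Cfsg.DadeHypothesis A L H) (a : G) (ha : a ∈ A) :
    orderOf a ∣ Nat.card ↥(L ⊓ Subgroup.centralizer ({a} : Set G)) := by
  have hmem : a ∈ L ⊓ Subgroup.centralizer ({a} : Set G) := by
    refine Subgroup.mem_inf.mpr ⟨hD.subset ha, ?_⟩
    rw [Subgroup.mem_centralizer_iff]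
    intro y hy
    rw [Set.mem_singleton_iff] at hy
    rw [hy]
  have := orderOf_dvd_natCard (⟨a, hmem⟩ : ↥(L ⊓ Subgroup.centralizer ({a} : Set G)))
  rwa [Subgroup.orderOf_mk] at this

theorem pow_card_of_mem (K : Subgroup G) (u : G) (hu : u ∈ K) : u ^ Nat.card K = 1 := by
  have h : (⟨u, hu⟩ : K) ^ Nat.card K = 1 := pow_card_eq_one'
  have h2 := congrArg Subtype.val h
  rw [Subgroup.coe_pow, Subgroup.coe_one] at h2
  exact h2

theorem conj_eq (A : Set G) (L : Subgroup G) (H : G → Subgroup G)
    (hD : Cfsg.DadeHypothesis A L H) (a b : G) (ha : a ∈ A) (hb : b ∈ A) (u v g : G)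
    (hu : u ∈ H a) (hv : v ∈ H b) (hg : g * (a * u) * g⁻¹ = b * v) : g * a * g⁻¹ = b := by
  set N := Nat.card (H a) * Nat.card (H b) with hN
  have hcopa : Nat.Coprime N (orderOf a) := by
    apply Nat.Coprime.coprime_dvd_right (orderOf_dvd_card_inf A L H hD a ha)
    exact Nat.Coprime.mul_left (hD.coprime a ha a ha) (hD.coprime b hb a ha)
  have hcopb : Nat.Coprime N (orderOf b) := by
    apply Nat.Coprime.coprime_dvd_right (orderOf_dvd_card_inf A L H hD b hb)
    exact Nat.Coprime.mul_left (hD.coprime a ha b hb) (hD.coprime b hb b hb)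
  have hau : Commute a u := by
    have := hD.le_centralizer a ha hu
    rw [Subgroup.mem_centralizer_iff] at this
    exact this a (Set.mem_singleton a)
  have hbv : Commute b v := by
    have := hD.le_centralizer b hb hv
    rw [Subgroup.mem_centralizer_iff] at this
    exact this b (Set.mem_singleton b)
  have huN : u ^ N = 1 := by
    rw [hN, pow_mul, pow_card_of_mem (H a) u hu, one_pow]
  have hvN : v ^ N = 1 := by
    rw [hN, mul_comm, pow_mul, pow_card_of_mem (H b) v hv, one_pow]
  have h1 : g * a ^ N * g⁻¹ = b ^ N := by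
    have : (g * (a * u) * g⁻¹) ^ N = (b * v) ^ N := by rw [hg]
    rw [conj_pow, hau.mul_pow, hbv.mul_pow, huN, hvN, mul_one, mul_one] at this
    exact this
  have hord : orderOf a = orderOf b := by
    have e1 : orderOf (a ^ N) = orderOf a := Nat.Coprime.orderOf_pow hcopa.symm
    have e2 : orderOf (b ^ N) = orderOf b := Nat.Coprime.orderOf_pow hcopb.symm
    have e3 : orderOf (g * a ^ N * g⁻¹) = orderOf (a ^ N) := by
      have := orderOf_injective (MulAut.conj g).toMonoidHom (MulAut.conj g).injective (a ^ N)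
      simpa using this
    rw [← e1, ← e3, h1, e2]
  obtain ⟨m, hm⟩ := exists_pow_eq_self_of_coprime hcopa
  have hmod : N * m ≡ 1 [MOD orderOf a] := by
    rw [← pow_mul] at hm
    have : a ^ (N * m) = a ^ 1 := by rw [hm, pow_one]
    exact pow_eq_pow_iff_modEq.mp this
  have hbm : (b ^ N) ^ m = b := by
    rw [← pow_mul]
    rw [hord] at hmod
    have := pow_eq_pow_iff_modEq.mpr hmod
    rw [this, pow_one]
  calc g * a * g⁻¹ = g * (a ^ N) ^ m * g⁻¹ := by rw [hm]
    _ = (g * a ^ N * g⁻¹) ^ m := by rw [conj_pow]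
    _ = b := by rw [h1, hbm]

/-- Under the Dade hypothesis for (A, L, H), let a, b ∈ A. If an element of the coset a·H(a) is conjugate in G to an element of b·H(b), then a and b are conjugate by an element of L. Moreover the set normaliser of the coset a·H(a) is the centraliser of a. -/
theorem result {G : Type*} [Group G] [Finite G] (A : Set G) (L : Subgroup G) (H : G → Subgroup G) (hD : Cfsg.DadeHypothesis A L H) (a b : G) (ha : a ∈ A) (hb : b ∈ A) : ((∃ u ∈ H a, ∃ v ∈ H b, ∃ g : G, g * (a * u) * g⁻¹ = b * v) → ∃ x ∈ L, x * a * x⁻¹ = b) ∧ Subgroup.normalizer ((fun u : G => a * u) '' (H a : Set G)) = Subgroup.centralizer ({a} : Set G) := by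
  constructor
  · rintro ⟨u, hu, v, hv, g, hg⟩
    have h := conj_eq A L H hD a b ha hb u v g hu hv hg
    obtain ⟨x, hx, hxe⟩ := hD.fusion a ha g (by rw [h]; exact hb)
    exact ⟨x, hx, by rw [hxe, h]⟩
  · apply le_antisymm
    · intro g hg
      rw [Subgroup.mem_set_normalizer_iff] at hg
      have h1 : a ∈ (fun u : G => a * u) '' (H a : Set G) := ⟨1, (H a).one_mem, by simp⟩
      obtain ⟨v, hv, hve⟩ := (hg a).mp h1
      have hv' : v ∈ H a := hv
      have h := conj_eq A L H hD a a ha ha 1 v g (H a).one_mem hv' (by simpa using hve.symm)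
      rw [Subgroup.mem_centralizer_iff]
      intro y hy
      rw [Set.mem_singleton_iff] at hy
      subst hy
      calc y * g = g * y * g⁻¹ * g := by rw [h]
        _ = g * y := by group
    · intro c hc
      have key : ∀ c ∈ Subgroup.centralizer ({a} : Set G), ∀ n ∈ (fun u : G => a * u) '' (H a : Set G),
          c * n * c⁻¹ ∈ (fun u : G => a * u) '' (H a : Set G) := by
        rintro c hc _ ⟨u, hu, rfl⟩
        refine ⟨c * u * c⁻¹, hD.conj_mem_H a ha c hc u hu, ?_⟩
        rw [Subgroup.mem_centralizer_iff] at hc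
        have := hc a (Set.mem_singleton a)
        simp only
        calc a * (c * u * c⁻¹) = (a * c) * u * c⁻¹ := by group
          _ = (c * a) * u * c⁻¹ := by rw [this]
          _ = c * (a * u) * c⁻¹ := by group
      rw [Subgroup.mem_set_normalizer_iff]
      intro n
      constructor
      · exact key c hc n
      · intro hn
        have := key c⁻¹ (Subgroup.inv_mem _ hc) _ hn
        simpa [mul_assoc] using this

end Cfsg.Agent.S1499
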