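import Mathlib
import Cfsg.Statements.S1500
import Cfsg.Agent.Lib.Helper8.Dade
import Cfsg.Agent.Lib.Helper8.IndFun

set_option autoImplicit false
open Cfsg

namespace Cfsg.Agent.S1500

open Cfsg.Agent.Helper8
open scoped ComplexConjugate

theorem part_two {G : Type*} [Group G] [Fintype G] (A : Set G) (L : Subgroup G) [Fintype L]
    (H : G → Subgroup G) (hD : Cfsg.DadeHypothesis A L H) (α : L → ℂ)
    (hα : Cfsg.IsClassFunction L α) (hαA : ∀ x : L, (x : G) ∉ A → α x = 0)
    (χ : G → ℂ) (ψ : L → ℂ) (hχ : Cfsg.IsClassFunction G χ)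
    (hψ : ∀ a : L, (a : G) ∈ A →
      ψ a = (Nat.card (H a) : ℂ)⁻¹ * ∑ᶠ u ∈ (H a : Set G), χ (a * u)) :
    Cfsg.classInner (Cfsg.dadeIsometry A L H α) χ = Cfsg.classInner α ψ := by
  classical
  have hF : Cfsg.IsClassFunction G (fun g => conj (χ g)) := by
    intro g h
    simp only
    rw [hχ g h]
  have key := dade_sum A L H hD α hα hαA (fun g => conj (χ g)) hF
  rw [classInner_def, classInner_def]
  have hL : (Nat.card L : ℂ) ≠ 0 := by exact_mod_cast (Nat.card_pos (α := ↥L)).ne'
  have hG : (Nat.card G : ℂ) ≠ 0 := by exact_mod_cast (Nat.card_pos (α := G)).ne'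
  have hsum : ∑ a : L, α a * conj (ψ a)
      = ∑ a : L, α a * ((Nat.card (H a) : ℂ)⁻¹ *
          ∑ u : G, if u ∈ H a then conj (χ ((a : G) * u)) else 0) := by
    refine Finset.sum_congr rfl fun a _ => ?_
    by_cases ha : (a : G) ∈ A
    · rw [hψ a ha, finsum_mem_eq_sum_ite (H (a : G) : Set G) (fun u => χ ((a : G) * u))]
      rw [map_mul, map_inv₀, Complex.conj_natCast, map_sum]
      congr 2
      refine Finset.sum_congr rfl fun u _ => ?_
      simp only [SetLike.mem_coe]
      split_ifs
      · rfl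
      · exact map_zero _
    · rw [hαA a ha, zero_mul, zero_mul]
  rw [hsum]
  have e1 : (Nat.card G : ℂ)⁻¹ * ∑ g : G, Cfsg.dadeIsometry A L H α g * conj (χ g)
      = (Nat.card G : ℂ)⁻¹ * (Nat.card L : ℂ)⁻¹ *
        ((Nat.card L : ℂ) * ∑ g : G, Cfsg.dadeIsometry A L H α g * conj (χ g)) := by
    field_simp
  rw [e1, key]
  field_simp

/-- Under the Dade hypothesis for (A, L, H), let α be a class function of L vanishing outside A. Then (i) for every class function β of L vanishing outside A, the inner product over G of the Dade images of α and β equals the inner product of α and β over L; and (ii) for every class function χ of G and every function ψ on L whose value at each a ∈ A is the average of χ over the coset a·H(a), the inner product over G of the Dade image of α with χ equals the inner product over L of α with ψ. -/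
theorem result {G : Type*} [Group G] [Fintype G] (A : Set G) (L : Subgroup G) [Fintype L] (H : G → Subgroup G) (hD : Cfsg.DadeHypothesis A L H) (α : L → ℂ) (hα : Cfsg.IsClassFunction L α) (hαA : ∀ x : L, (x : G) ∉ A → α x = 0) : (∀ β : L → ℂ, Cfsg.IsClassFunction L β → (∀ x : L, (x : G) ∉ A → β x = 0) → Cfsg.classInner (Cfsg.dadeIsometry A L H α) (Cfsg.dadeIsometry A L H β) = Cfsg.classInner α β) ∧ (∀ (χ : G → ℂ) (ψ : L → ℂ), Cfsg.IsClassFunction G χ → (∀ a : L, (a : G) ∈ A → ψ a = (Nat.card (H a) : ℂ)⁻¹ * ∑ᶠ u ∈ (H a : Set G), χ (a * u)) → Cfsg.classInner (Cfsg.dadeIsometry A L H α) χ = Cfsg.classInner α ψ) := by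
  classical
  refine ⟨?_, fun χ ψ hχ hψ => part_two A L H hD α hα hαA χ ψ hχ hψ⟩
  intro β hβ hβA
  apply part_two A L H hD α hα hαA _ β (dade_isClassFunction A L H hD β hβ)
  intro a ha
  rw [finsum_mem_eq_sum_ite (H (a : G) : Set G)
    (fun u => Cfsg.dadeIsometry A L H β ((a : G) * u))]
  have h1 : ∀ u : G, (if u ∈ (H (a : G) : Set G) then
      Cfsg.dadeIsometry A L H β ((a : G) * u) else 0)
      = if u ∈ (H (a : G) : Set G) then β a else 0 := by
    intro u
    split_ifs with hu
    · exact dade_apply A L H hD β hβ a ha u hu 1 _ (by simp)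
    · rfl
  rw [Finset.sum_congr rfl (fun u _ => h1 u), Finset.sum_ite, Finset.sum_const_zero, add_zero,
    Finset.sum_const, nsmul_eq_mul]
  have hcard : (Finset.univ.filter (fun u : G => u ∈ (H (a : G) : Set G))).card
      = Nat.card (H (a : G)) := by
    rw [Nat.card_eq_fintype_card, Fintype.card_subtype]
    rfl
  rw [hcard]
  have hH : (Nat.card (H (a : G)) : ℂ) ≠ 0 := by
    exact_mod_cast (Nat.card_pos (α := ↥(H (a : G)))).ne'
  field_simp

end Cfsg.Agent.S1500
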