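import Mathlib
import Cfsg.Agent.Lib.Helper8.FrobCoh5
import Cfsg.Statements.S1524
-- import your own Cfsg.Agent.* helpers here

set_option autoImplicit false
open Cfsg

namespace Cfsg.Agent.S1524

/-- Let G be a finite group and H ≤ L subgroups with L of odd order, H ≠ ⊥ nilpotent and normal in L with a nontrivial complement W₁ in L (H ⊓ W₁ = ⊥, H ⊔ W₁ = L) acting on H without non-identity fixed points (L is a Frobenius group with kernel H), and suppose the underlying set of H is a TI-subset of G whose normaliser is L. Let S be the set of functions on L induced from the non-principal irreducible characters of H. Then (S, L minus 1, induction to G) is coherent. -/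
theorem result {G : Type*} [Group G] [Fintype G] (H L W₁ : Subgroup G) [Fintype L] (hodd : Odd (Nat.card L)) (hHL : H ≤ L) (hW₁L : W₁ ≤ L) (hH1 : H ≠ ⊥) (hW1 : W₁ ≠ ⊥) (hnil : Group.IsNilpotent H) (hHn : ∀ x ∈ L, ∀ h ∈ H, x * h * x⁻¹ ∈ H) (hinf : H ⊓ W₁ = ⊥) (hsup : H ⊔ W₁ = L) (hfpf : ∀ w ∈ W₁, w ≠ 1 → ∀ h ∈ H, w * h = h * w → h = 1) (hTI : Cfsg.IsTISubset (H : Set G)) (hN : Subgroup.normalizer (H : Set G) = L) : Cfsg.IsCoherent (Cfsg.inducedIrrAbove (H.subgroupOf L) ⊥) {1}ᶜ (fun α : L → ℂ => Cfsg.indFun L α) := by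
  classical
  subst hN
  have hlt : H < Subgroup.normalizer (H : Set G) := by
    refine lt_of_le_of_ne hHL ?_
    intro heq
    apply hW1
    have h1 : W₁ ≤ H := by rw [heq]; exact hW₁L
    rw [← hinf]
    exact (inf_eq_right.2 h1).symm
  haveI hHn' : (H.subgroupOf (Subgroup.normalizer (H : Set G))).Normal :=
    Subgroup.normal_in_normalizer
  -- the Frobenius condition inside the normaliser
  have hsup' : H.subgroupOf (Subgroup.normalizer (H : Set G)) ⊔
      W₁.subgroupOf (Subgroup.normalizer (H : Set G)) = ⊤ := by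
    rw [← Subgroup.subgroupOf_sup hHL hW₁L, hsup, Subgroup.subgroupOf_self]
  have hfpf' : ∀ w ∈ W₁.subgroupOf (Subgroup.normalizer (H : Set G)), w ≠ 1 →
      ∀ h ∈ H.subgroupOf (Subgroup.normalizer (H : Set G)), w * h = h * w → h = 1 := by
    intro w hw hw1 h hh hcomm
    rw [Subgroup.mem_subgroupOf] at hw hh
    have := hfpf (w : G) hw (fun e => hw1 (Subtype.ext e)) (h : G) hh
      (congrArg Subtype.val hcomm)
    exact Subtype.ext this
  have hF := Cfsg.Agent.Helper8.FrobCoh.frob_of_complement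
    (H.subgroupOf (Subgroup.normalizer (H : Set G)))
    (W₁.subgroupOf (Subgroup.normalizer (H : Set G))) hsup' hfpf'
  have hC : ∀ k ∈ H, k ≠ 1 → Subgroup.centralizer ({k} : Set G) ≤ H := by
    intro k hk hk1 g hg
    rw [Subgroup.mem_centralizer_singleton_iff] at hg
    have hgN : g ∈ Subgroup.normalizer (H : Set G) := by
      by_contra hgn
      apply hk1
      apply hTI g hgn k hk
      have : g * k * g⁻¹ = k := by rw [hg]; group
      rw [this]; exact hk
    have := hF ⟨k, hHL hk⟩ (Subgroup.mem_subgroupOf.2 hk) (fun e => hk1 (congrArg Subtype.val e))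
      ⟨g, hgN⟩ (Subtype.ext hg)
    exact Subgroup.mem_subgroupOf.1 this
  exact Cfsg.Agent.Helper8.FrobCoh.coherent_nilpotent H hTI hlt hC hH1 hnil hodd

end Cfsg.Agent.S1524
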