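import Mathlib
import Cfsg.Statements.S1504

set_option autoImplicit false
open Cfsg

namespace Cfsg.Agent.S1504

variable {G : Type*} [Group G]

/-- two homs on `W₁ ⊔ W₂` that agree on `W₁` and `W₂` are equal -/
lemma hom_ext_sup {W₁ W₂ : Subgroup G} (η η' : ↥(W₁ ⊔ W₂) →* ℂˣ)
    (h1 : ∀ w : ↥(W₁ ⊔ W₂), (w : G) ∈ W₁ → η w = η' w)
    (h2 : ∀ w : ↥(W₁ ⊔ W₂), (w : G) ∈ W₂ → η w = η' w) : η = η' := by
  have hle : (W₁ ⊔ W₂) ≤ (MonoidHom.eqLocus η η').map (Subgroup.subtype _) := by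
    rw [sup_le_iff]
    constructor
    · intro a ha
      exact ⟨⟨a, Subgroup.mem_sup_left ha⟩, h1 _ ha, rfl⟩
    · intro a ha
      exact ⟨⟨a, Subgroup.mem_sup_right ha⟩, h2 _ ha, rfl⟩
  ext w
  obtain ⟨w', hw', hw''⟩ := hle w.2
  have : w' = w := Subtype.ext hw''
  subst this
  have : η w' = η' w' := hw'
  rw [this]

lemma key {W₁ W₂ : Subgroup G} (φ ψ φ' ψ' : ↥(W₁ ⊔ W₂) →* ℂˣ)
    (hφ : ∀ w : ↥(W₁ ⊔ W₂), (w : G) ∈ W₂ → φ w = 1)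
    (hφ' : ∀ w : ↥(W₁ ⊔ W₂), (w : G) ∈ W₂ → φ' w = 1)
    (hψ : ∀ w : ↥(W₁ ⊔ W₂), (w : G) ∈ W₁ → ψ w = 1)
    (hψ' : ∀ w : ↥(W₁ ⊔ W₂), (w : G) ∈ W₁ → ψ' w = 1)
    (h : φ * ψ = φ' * ψ') : φ = φ' ∧ ψ = ψ' := by
  have hw : ∀ w, φ w * ψ w = φ' w * ψ' w := fun w => by
    have := DFunLike.congr_fun h w
    simpa only [MonoidHom.mul_apply] using this
  constructor
  · apply hom_ext_sup
    · intro w hw1
      have := hw w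
      rwa [hψ w hw1, hψ' w hw1, mul_one, mul_one] at this
    · intro w hw2
      rw [hφ w hw2, hφ' w hw2]
  · apply hom_ext_sup
    · intro w hw1
      rw [hψ w hw1, hψ' w hw1]
    · intro w hw2
      have := hw w
      rwa [hφ w hw2, hφ' w hw2, one_mul, one_mul] at this

lemma sum_hom {W : Type*} [Group W] [Fintype W] (η : W →* ℂˣ) (hη : η ≠ 1) :
    ∑ w : W, ((η w : ℂˣ) : ℂ) = 0 := by
  have h := sum_hom_units_eq_zero ((Units.coeHom ℂ).comp η) (by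
    intro h
    apply hη
    ext w
    have := DFunLike.congr_fun h w
    simpa using this)
  simpa using h

lemma sum_mul_inv {W : Type*} [Group W] [Fintype W] (ω ω₀ : W →* ℂˣ) [Decidable (ω = ω₀)] :
    ∑ w : W, ((ω w : ℂˣ) : ℂ) * (((ω₀ w)⁻¹ : ℂˣ) : ℂ)
      = if ω = ω₀ then (Fintype.card W : ℂ) else 0 := by
  split_ifs with h
  · subst h
    simp
  · have hne : ω * ω₀⁻¹ ≠ 1 := by
      intro h1
      apply h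
      ext w
      have := DFunLike.congr_fun h1 w
      simp only [MonoidHom.mul_apply, MonoidHom.inv_apply, MonoidHom.one_apply] at this
      rw [mul_inv_eq_one] at this
      rw [this]
    have := sum_hom _ hne
    simpa only [MonoidHom.mul_apply, MonoidHom.inv_apply, Units.val_mul] using this

/-- Let W₁, W₂ be subgroups of a finite group with W₁ ⊓ W₂ = ⊥ whose elements commute, and W = W₁ ⊔ W₂. For linear characters φ, ψ of W with φ trivial on W₂ and ψ trivial on W₁, the function (1 − φ)(1 − ψ) vanishes on W₁ ∪ W₂; and the family of these functions, indexed by pairs (φ, ψ) with φ ≠ 1 ≠ ψ, is linearly independent over ℂ. -/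
theorem result {G : Type*} [Group G] [Finite G] (W₁ W₂ : Subgroup G) (hdisj : W₁ ⊓ W₂ = ⊥) (hcomm : ∀ a ∈ W₁, ∀ b ∈ W₂, a * b = b * a) : (∀ φ ψ : ↥(W₁ ⊔ W₂) →* ℂˣ, (∀ w : ↥(W₁ ⊔ W₂), (w : G) ∈ W₂ → φ w = 1) → (∀ w : ↥(W₁ ⊔ W₂), (w : G) ∈ W₁ → ψ w = 1) → ∀ w : ↥(W₁ ⊔ W₂), ((w : G) ∈ W₁ ∨ (w : G) ∈ W₂) → (1 - (φ w : ℂ) - (ψ w : ℂ) + (φ w : ℂ) * (ψ w : ℂ)) = 0) ∧ LinearIndependent ℂ (fun p : {p : (↥(W₁ ⊔ W₂) →* ℂˣ) × (↥(W₁ ⊔ W₂) →* ℂˣ) // p.1 ≠ 1 ∧ p.2 ≠ 1 ∧ (∀ w : ↥(W₁ ⊔ W₂), (w : G) ∈ W₂ → p.1 w = 1) ∧ (∀ w : ↥(W₁ ⊔ W₂), (w : G) ∈ W₁ → p.2 w = 1)} => fun w : ↥(W₁ ⊔ W₂) => 1 - (p.1.1 w : ℂ) - (p.1.2 w : ℂ) + (p.1.1 w : ℂ) * (p.1.2 w : ℂ)) := by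
  classical
  refine ⟨?_, ?_⟩
  · intro φ ψ hφ hψ w hw
    rcases hw with hw | hw
    · rw [hψ w hw]; simp
    · rw [hφ w hw]; simp
  · haveI : Fintype ↥(W₁ ⊔ W₂) := Fintype.ofFinite _
    rw [linearIndependent_iff']
    intro s c hc p₀ hp₀
    have hw : ∀ w : ↥(W₁ ⊔ W₂), ∑ p ∈ s, c p * (1 - (p.1.1 w : ℂ) - (p.1.2 w : ℂ)
        + (p.1.1 w : ℂ) * (p.1.2 w : ℂ)) = 0 := by
      intro w
      have := congrFun hc w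
      simpa [Finset.sum_apply] using this
    obtain ⟨⟨φ₀, ψ₀⟩, hφ₀1, hψ₀1, hφ₀, hψ₀⟩ := p₀
    simp only at hφ₀1 hψ₀1 hφ₀ hψ₀
    have hF : ∀ p ∈ s, ∑ w : ↥(W₁ ⊔ W₂), (1 - (p.1.1 w : ℂ) - (p.1.2 w : ℂ)
        + (p.1.1 w : ℂ) * (p.1.2 w : ℂ)) * ((((φ₀ * ψ₀) w)⁻¹ : ℂˣ) : ℂ)
        = if p = ⟨⟨φ₀, ψ₀⟩, hφ₀1, hψ₀1, hφ₀, hψ₀⟩ then (Fintype.card ↥(W₁ ⊔ W₂) : ℂ) else 0 := by
      intro p _
      obtain ⟨⟨φ, ψ⟩, hφ1, hψ1, hφ, hψ⟩ := p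
      simp only at hφ1 hψ1 hφ hψ
      have e : ∀ w : ↥(W₁ ⊔ W₂), (1 - (φ w : ℂ) - (ψ w : ℂ) + (φ w : ℂ) * (ψ w : ℂ))
          * ((((φ₀ * ψ₀) w)⁻¹ : ℂˣ) : ℂ)
          = (((1 : ↥(W₁ ⊔ W₂) →* ℂˣ) w : ℂˣ) : ℂ) * ((((φ₀ * ψ₀) w)⁻¹ : ℂˣ) : ℂ)
            - ((φ w : ℂˣ) : ℂ) * ((((φ₀ * ψ₀) w)⁻¹ : ℂˣ) : ℂ)
            - ((ψ w : ℂˣ) : ℂ) * ((((φ₀ * ψ₀) w)⁻¹ : ℂˣ) : ℂ)
            + (((φ * ψ) w : ℂˣ) : ℂ) * ((((φ₀ * ψ₀) w)⁻¹ : ℂˣ) : ℂ) := by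
        intro w
        simp only [MonoidHom.mul_apply, Units.val_mul, MonoidHom.one_apply, Units.val_one]
        ring
      simp only [e, Finset.sum_add_distrib, Finset.sum_sub_distrib]
      rw [sum_mul_inv, sum_mul_inv, sum_mul_inv, sum_mul_inv]
      have n1 : (1 : ↥(W₁ ⊔ W₂) →* ℂˣ) ≠ φ₀ * ψ₀ := by
        intro h
        have := key 1 1 φ₀ ψ₀ (fun w _ => rfl) hφ₀ (fun w _ => rfl) hψ₀ (by rw [← h]; ext w; simp)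
        exact hφ₀1 this.1.symm
      have n2 : φ ≠ φ₀ * ψ₀ := by
        intro h
        have := key φ 1 φ₀ ψ₀ hφ hφ₀ (fun w _ => rfl) hψ₀ (by rw [← h]; ext w; simp)
        exact hψ₀1 this.2.symm
      have n3 : ψ ≠ φ₀ * ψ₀ := by
        intro h
        have := key 1 ψ φ₀ ψ₀ (fun w _ => rfl) hφ₀ hψ hψ₀ (by rw [← h]; ext w; simp)
        exact hφ₀1 this.1.symm
      rw [if_neg n1, if_neg n2, if_neg n3]
      by_cases hp : (⟨⟨φ, ψ⟩, hφ1, hψ1, hφ, hψ⟩ : {p : (↥(W₁ ⊔ W₂) →* ℂˣ) × (↥(W₁ ⊔ W₂) →* ℂˣ) // p.1 ≠ 1 ∧ p.2 ≠ 1 ∧ (∀ w : ↥(W₁ ⊔ W₂), (w : G) ∈ W₂ → p.1 w = 1) ∧ (∀ w : ↥(W₁ ⊔ W₂), (w : G) ∈ W₁ → p.2 w = 1)}) = ⟨⟨φ₀, ψ₀⟩, hφ₀1, hψ₀1, hφ₀, hψ₀⟩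
      · rw [if_pos hp]
        have hp' := congrArg Subtype.val hp
        simp only [Prod.mk.injEq] at hp'
        obtain ⟨rfl, rfl⟩ := hp'
        simp
      · rw [if_neg hp]
        have n4 : φ * ψ ≠ φ₀ * ψ₀ := by
          intro h
          have := key φ ψ φ₀ ψ₀ hφ hφ₀ hψ hψ₀ h
          apply hp
          apply Subtype.ext
          simp only [Prod.mk.injEq]
          exact this
        rw [if_neg n4]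
        simp
    have h2 : ∑ w : ↥(W₁ ⊔ W₂), (∑ p ∈ s, c p * (1 - (p.1.1 w : ℂ) - (p.1.2 w : ℂ)
        + (p.1.1 w : ℂ) * (p.1.2 w : ℂ))) * ((((φ₀ * ψ₀) w)⁻¹ : ℂˣ) : ℂ) = 0 := by
      simp only [hw, zero_mul, Finset.sum_const_zero]
    simp only [Finset.sum_mul] at h2
    rw [Finset.sum_comm] at h2
    have h3 : ∀ p ∈ s, ∑ w : ↥(W₁ ⊔ W₂), c p * (1 - (p.1.1 w : ℂ) - (p.1.2 w : ℂ)
        + (p.1.1 w : ℂ) * (p.1.2 w : ℂ)) * ((((φ₀ * ψ₀) w)⁻¹ : ℂˣ) : ℂ)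
        = c p * (if p = ⟨⟨φ₀, ψ₀⟩, hφ₀1, hψ₀1, hφ₀, hψ₀⟩ then (Fintype.card ↥(W₁ ⊔ W₂) : ℂ) else 0) := by
      intro p hp
      rw [← hF p hp, Finset.mul_sum]
      refine Finset.sum_congr rfl fun w _ => ?_
      ring
    rw [Finset.sum_congr rfl h3] at h2
    simp only [mul_ite, mul_zero, Finset.sum_ite_eq', hp₀, if_true] at h2
    have hcard : (Fintype.card ↥(W₁ ⊔ W₂) : ℂ) ≠ 0 := by
      exact_mod_cast Fintype.card_ne_zero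
    exact (mul_eq_zero.mp h2).resolve_right hcard

end Cfsg.Agent.S1504
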