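import Mathlib
import Cfsg.Statements.S1505
import Cfsg.Agent.Lib.Helper8.IndFun
import Cfsg.Agent.Lib.Helper8.Basic
import Cfsg.Agent.S1504

set_option autoImplicit false
open Cfsg

namespace Cfsg.Agent.S1505

open Cfsg.Agent.Helper8
open scoped ComplexConjugate

/-- in a finite cyclic group a subgroup `K` consists of the solutions of `w ^ |K| = 1` -/
lemma mem_of_pow_card {W : Type*} [Group W] [Finite W] [IsCyclic W] (K : Subgroup W) (w : W)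
    (h : w ^ Nat.card K = 1) : w ∈ K := by
  classical
  haveI : Fintype W := Fintype.ofFinite W
  have hpos : 0 < Nat.card K := Nat.card_pos
  have hle := IsCyclic.card_pow_eq_one_le (α := W) hpos
  have hsub : Finset.univ.filter (fun a : W => a ∈ K)
      ⊆ Finset.univ.filter (fun a : W => a ^ Nat.card K = 1) := by
    intro a ha
    rw [Finset.mem_filter] at ha ⊢
    refine ⟨Finset.mem_univ _, ?_⟩
    exact pow_card_of_mem K a ha.2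
  have hcard : (Finset.univ.filter (fun a : W => a ∈ K)).card = Nat.card K := by
    rw [Nat.card_eq_fintype_card, Fintype.card_subtype]
  have heq := Finset.eq_of_subset_of_card_le hsub (by rw [hcard]; exact hle)
  have : w ∈ Finset.univ.filter (fun a : W => a ^ Nat.card K = 1) :=
    Finset.mem_filter.mpr ⟨Finset.mem_univ _, h⟩
  rw [← heq] at this
  exact (Finset.mem_filter.mp this).2

variable {G : Type*} [Group G]

/-- the TI property of `W \\ (W₁ ∪ W₂)` -/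
lemma mem_of_conj_mem [Finite G] (W₁ W₂ : Subgroup G) (hW : Cfsg.IsSelfNormalizingCyclic W₁ W₂)
    (w : G) (hwW : w ∈ W₁ ⊔ W₂) (hw1 : w ∉ W₁) (hw2 : w ∉ W₂) (x : G)
    (hx : x⁻¹ * w * x ∈ W₁ ⊔ W₂) : x ∈ W₁ ⊔ W₂ := by
  obtain ⟨hW1, hW2, hdisj, hcomm, hcyc, hnorm⟩ := hW
  haveI := hcyc
  have hA : ∀ a b : ↥(W₁ ⊔ W₂), a * b = b * a := by
    intro a b
    letI := IsCyclic.commGroup (α := ↥(W₁ ⊔ W₂))
    exact mul_comm a b
  have hA' : ∀ a ∈ W₁ ⊔ W₂, ∀ b ∈ W₁ ⊔ W₂, a * b = b * a := by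
    intro a ha b hb
    exact congrArg Subtype.val (hA ⟨a, ha⟩ ⟨b, hb⟩)
  -- the centralizer of `w` is `W`
  have hnw : Subgroup.normalizer ({w} : Set G) = W₁ ⊔ W₂ := by
    apply hnorm
    · intro y hy
      rw [Set.mem_singleton_iff] at hy
      subst hy
      refine ⟨hwW, ?_⟩
      rintro (h | h)
      · exact hw1 h
      · exact hw2 h
    · exact ⟨w, rfl⟩
  -- step A
  have stepA : ∀ y ∈ W₁ ⊔ W₂, x * y * x⁻¹ ∈ W₁ ⊔ W₂ := by
    intro y hy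
    rw [← hnw, Subgroup.mem_set_normalizer_iff]
    intro h
    simp only [Set.mem_singleton_iff]
    have hc : y * (x⁻¹ * w * x) = (x⁻¹ * w * x) * y := hA' y hy _ hx
    have key : x * y * x⁻¹ * w * (x * y * x⁻¹)⁻¹ = w := by
      calc x * y * x⁻¹ * w * (x * y * x⁻¹)⁻¹ = x * (y * (x⁻¹ * w * x)) * y⁻¹ * x⁻¹ := by group
        _ = x * ((x⁻¹ * w * x) * y) * y⁻¹ * x⁻¹ := by rw [hc]
        _ = w := by group
    constructor
    · intro hh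
      rw [hh]; exact key
    · intro hh
      have : h = (x * y * x⁻¹)⁻¹ * w * (x * y * x⁻¹) := by
        rw [← hh]; group
      rw [this]
      calc (x * y * x⁻¹)⁻¹ * w * (x * y * x⁻¹)
          = (x * y * x⁻¹)⁻¹ * (x * y * x⁻¹ * w * (x * y * x⁻¹)⁻¹) * (x * y * x⁻¹) := by rw [key]
        _ = w := by group
  -- step A'
  have stepA' : ∀ y ∈ W₁ ⊔ W₂, x⁻¹ * y * x ∈ W₁ ⊔ W₂ := by
    intro y hy
    let f : ↥(W₁ ⊔ W₂) → ↥(W₁ ⊔ W₂) := fun t => ⟨x * t * x⁻¹, stepA t t.2⟩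
    have hinj : Function.Injective f := by
      intro s t hst
      have := congrArg Subtype.val hst
      simp only [f] at this
      apply Subtype.ext
      have h2 := congrArg (fun u => x⁻¹ * u * x) this
      simpa [mul_assoc] using h2
    obtain ⟨t, ht⟩ := (Finite.injective_iff_surjective.mp hinj) ⟨y, hy⟩
    have := congrArg Subtype.val ht
    simp only [f] at this
    rw [← this]
    have : x⁻¹ * (x * (t : G) * x⁻¹) * x = t := by group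
    rw [this]
    exact t.2
  -- membership characterizations
  have hmem1 : ∀ h ∈ W₁ ⊔ W₂, h ^ Nat.card W₁ = 1 → h ∈ W₁ := by
    intro h hh hp
    have hc : Nat.card ↥(W₁.subgroupOf (W₁ ⊔ W₂)) = Nat.card W₁ :=
      Nat.card_congr (Subgroup.subgroupOfEquivOfLe le_sup_left).toEquiv
    have := mem_of_pow_card (W₁.subgroupOf (W₁ ⊔ W₂)) ⟨h, hh⟩ (by
      rw [hc]
      apply Subtype.ext
      simpa using hp)
    exact this
  have hmem2 : ∀ h ∈ W₁ ⊔ W₂, h ^ Nat.card W₂ = 1 → h ∈ W₂ := by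
    intro h hh hp
    have hc : Nat.card ↥(W₂.subgroupOf (W₁ ⊔ W₂)) = Nat.card W₂ :=
      Nat.card_congr (Subgroup.subgroupOfEquivOfLe le_sup_right).toEquiv
    have := mem_of_pow_card (W₂.subgroupOf (W₁ ⊔ W₂)) ⟨h, hh⟩ (by
      rw [hc]
      apply Subtype.ext
      simpa using hp)
    exact this
  have hpow : ∀ (K : Subgroup G) (h : G), h ∈ K → h ^ Nat.card K = 1 := by
    intro K h hh
    exact pow_card_of_mem K h hh
  -- `x` normalizes `V`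
  have hV : Subgroup.normalizer ((↑(W₁ ⊔ W₂) : Set G) \ (↑W₁ ∪ ↑W₂)) = W₁ ⊔ W₂ := by
    apply hnorm _ (le_refl _)
    exact ⟨w, hwW, fun h => h.elim hw1 hw2⟩
  rw [← hV, Subgroup.mem_set_normalizer_iff]
  intro h
  constructor
  · rintro ⟨hhW, hhn⟩
    refine ⟨stepA h hhW, ?_⟩
    rintro (h1 | h2)
    · apply hhn
      left
      apply hmem1 h hhW
      have := hpow W₁ _ h1
      rw [conj_pow] at this
      have h3 := congrArg (fun u => x⁻¹ * u * x) this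
      simpa [mul_assoc] using h3
    · apply hhn
      right
      apply hmem2 h hhW
      have := hpow W₂ _ h2
      rw [conj_pow] at this
      have h3 := congrArg (fun u => x⁻¹ * u * x) this
      simpa [mul_assoc] using h3
  · rintro ⟨hhW, hhn⟩
    have hhW' : h ∈ W₁ ⊔ W₂ := by
      have := stepA' _ hhW
      have e : x⁻¹ * (x * h * x⁻¹) * x = h := by group
      rwa [e] at this
    refine ⟨hhW', ?_⟩
    rintro (h1 | h2)
    · apply hhn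
      left
      apply hmem1 _ hhW
      rw [conj_pow, hpow W₁ h h1]
      group
    · apply hhn
      right
      apply hmem2 _ hhW
      rw [conj_pow, hpow W₂ h h2]
      group


/-- induced functions from `W` agree with the original off `W₁ ∪ W₂` -/
lemma indFun_eq_on_V [Fintype G] (W₁ W₂ : Subgroup G) (hW : Cfsg.IsSelfNormalizingCyclic W₁ W₂)
    (f : ↥(W₁ ⊔ W₂) → ℂ) (w : ↥(W₁ ⊔ W₂)) (hw1 : (w : G) ∉ W₁) (hw2 : (w : G) ∉ W₂) :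
    Cfsg.indFun (W₁ ⊔ W₂) f (w : G) = f w := by
  classical
  have hcomm : ∀ a ∈ W₁ ⊔ W₂, ∀ b ∈ W₁ ⊔ W₂, a * b = b * a := by
    intro a ha b hb
    haveI := hW.2.2.2.2.1
    letI := IsCyclic.commGroup (α := ↥(W₁ ⊔ W₂))
    exact congrArg Subtype.val (mul_comm (⟨a, ha⟩ : ↥(W₁ ⊔ W₂)) ⟨b, hb⟩)
  rw [indFun_apply]
  have h1 : ∀ x : G, Cfsg.extendByZero (W₁ ⊔ W₂) f (x⁻¹ * (w : G) * x)
      = if x ∈ W₁ ⊔ W₂ then f w else 0 := by
    intro x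
    split_ifs with hx
    · have : x⁻¹ * (w : G) * x = w := by
        rw [mul_assoc, hcomm _ w.2 _ hx, ← mul_assoc, inv_mul_cancel, one_mul]
      rw [this, extendByZero_coe]
    · apply extendByZero_of_not_mem
      intro hmem
      exact hx (mem_of_conj_mem W₁ W₂ hW w w.2 hw1 hw2 x hmem)
  rw [Finset.sum_congr rfl (fun x _ => h1 x), Finset.sum_ite, Finset.sum_const_zero, add_zero,
    Finset.sum_const, nsmul_eq_mul]
  have hcard : (Finset.univ.filter (fun x : G => x ∈ W₁ ⊔ W₂)).card = Nat.card ↥(W₁ ⊔ W₂) := by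
    rw [Nat.card_eq_fintype_card, Fintype.card_subtype]
  rw [hcard]
  have hne : (Nat.card ↥(W₁ ⊔ W₂) : ℂ) ≠ 0 := by
    exact_mod_cast (Nat.card_pos (α := ↥(W₁ ⊔ W₂))).ne'
  field_simp

/-- the conjugate of a value of a linear character is the value of the inverse -/
lemma conj_hom {W : Type*} [Group W] [Finite W] (ω : W →* ℂˣ) (w : W) :
    conj ((ω w : ℂˣ) : ℂ) = (((ω w)⁻¹ : ℂˣ) : ℂ) := by
  have h1 : ((ω w : ℂˣ) : ℂ) ^ Nat.card W = 1 := by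
    rw [← Units.val_pow_eq_pow_val, ← map_pow, pow_card_eq_one', map_one, Units.val_one]
  have h2 := Complex.norm_eq_one_of_pow_eq_one h1 (Nat.card_pos (α := W)).ne'
  rw [Units.val_inv_eq_inv_val, Complex.inv_eq_conj h2]


open Classical in
/-- Let W₁, W₂ ≤ G form a self-normalising cyclic subgroup W = W₁ ⊔ W₂. For nontrivial linear characters φ, φ' of W trivial on W₂ and ψ, ψ' trivial on W₁, put α = (1 − φ)(1 − ψ) and α' = (1 − φ')(1 − ψ'). Then the function induced from α to G has inner product 1 with the principal character, and the inner product of the functions induced from α and α' is 1 + a + b + ab where a = 1 if φ = φ' (else 0) and b = 1 if ψ = ψ' (else 0). -/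
theorem result {G : Type*} [Group G] [Fintype G] (W₁ W₂ : Subgroup G) (hW : Cfsg.IsSelfNormalizingCyclic W₁ W₂) (φ φ' ψ ψ' : ↥(W₁ ⊔ W₂) →* ℂˣ) (hφ : φ ≠ 1) (hφ' : φ' ≠ 1) (hψ : ψ ≠ 1) (hψ' : ψ' ≠ 1) (hφ₂ : ∀ w : ↥(W₁ ⊔ W₂), (w : G) ∈ W₂ → φ w = 1 ∧ φ' w = 1) (hψ₁ : ∀ w : ↥(W₁ ⊔ W₂), (w : G) ∈ W₁ → ψ w = 1 ∧ ψ' w = 1) : Cfsg.classInner (Cfsg.indFun (W₁ ⊔ W₂) (fun w => 1 - (φ w : ℂ) - (ψ w : ℂ) + (φ w : ℂ) * (ψ w : ℂ))) (fun _ => 1) = 1 ∧ Cfsg.classInner (Cfsg.indFun (W₁ ⊔ W₂) (fun w => 1 - (φ w : ℂ) - (ψ w : ℂ) + (φ w : ℂ) * (ψ w : ℂ))) (Cfsg.indFun (W₁ ⊔ W₂) (fun w => 1 - (φ' w : ℂ) - (ψ' w : ℂ) + (φ' w : ℂ) * (ψ' w : ℂ))) = 1 + (if φ = φ' then 1 else 0) + (if ψ = ψ' then 1 else 0) + (if φ = φ' then 1 else 0) * (if ψ = ψ' then 1 else 0) := by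
  haveI : Fintype ↥(W₁ ⊔ W₂) := Fintype.ofFinite _
  have hcardne : (Nat.card ↥(W₁ ⊔ W₂) : ℂ) ≠ 0 := by
    exact_mod_cast (Nat.card_pos (α := ↥(W₁ ⊔ W₂))).ne'
  have hcardeq : (Fintype.card ↥(W₁ ⊔ W₂) : ℂ) = (Nat.card ↥(W₁ ⊔ W₂) : ℂ) := by
    rw [Nat.card_eq_fintype_card]
  -- triviality hypotheses, split
  have tφ : ∀ w : ↥(W₁ ⊔ W₂), (w : G) ∈ W₂ → φ w = 1 := fun w hw => (hφ₂ w hw).1
  have tφ' : ∀ w : ↥(W₁ ⊔ W₂), (w : G) ∈ W₂ → φ' w = 1 := fun w hw => (hφ₂ w hw).2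
  have tψ : ∀ w : ↥(W₁ ⊔ W₂), (w : G) ∈ W₁ → ψ w = 1 := fun w hw => (hψ₁ w hw).1
  have tψ' : ∀ w : ↥(W₁ ⊔ W₂), (w : G) ∈ W₁ → ψ' w = 1 := fun w hw => (hψ₁ w hw).2
  have t1₂ : ∀ w : ↥(W₁ ⊔ W₂), (w : G) ∈ W₂ → (1 : ↥(W₁ ⊔ W₂) →* ℂˣ) w = 1 := fun w _ => rfl
  have t1₁ : ∀ w : ↥(W₁ ⊔ W₂), (w : G) ∈ W₁ → (1 : ↥(W₁ ⊔ W₂) →* ℂˣ) w = 1 := fun w _ => rfl
  -- the (in)equalities between the characters involved
  have n1 : (1 : ↥(W₁ ⊔ W₂) →* ℂˣ) ≠ φ' := fun h => hφ' h.symm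
  have n2 : (1 : ↥(W₁ ⊔ W₂) →* ℂˣ) ≠ ψ' := fun h => hψ' h.symm
  have n3 : (1 : ↥(W₁ ⊔ W₂) →* ℂˣ) ≠ φ' * ψ' := by
    intro h
    have := S1504.key 1 1 φ' ψ' t1₂ tφ' t1₁ tψ' ((one_mul _).trans h)
    exact hφ' this.1.symm
  have n4 : φ ≠ ψ' := by
    intro h
    have := S1504.key φ 1 1 ψ' tφ t1₂ t1₁ tψ' ((mul_one φ).trans (h.trans (one_mul ψ').symm))
    exact hφ this.1
  have n5 : φ ≠ φ' * ψ' := by
    intro h
    have := S1504.key φ 1 φ' ψ' tφ tφ' t1₁ tψ' ((mul_one φ).trans h)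
    exact hψ' this.2.symm
  have n6 : ψ ≠ φ' := by
    intro h
    have := S1504.key 1 ψ φ' 1 t1₂ tφ' tψ t1₁ ((one_mul ψ).trans (h.trans (mul_one φ').symm))
    exact hφ' this.1.symm
  have n7 : ψ ≠ φ' * ψ' := by
    intro h
    have := S1504.key 1 ψ φ' ψ' t1₂ tφ' tψ tψ' ((one_mul ψ).trans h)
    exact hφ' this.1.symm
  have n8 : φ * ψ ≠ 1 := by
    intro h
    have := S1504.key φ ψ 1 1 tφ t1₂ tψ t1₁ (h.trans (one_mul (1 : ↥(W₁ ⊔ W₂) →* ℂˣ)).symm)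
    exact hφ this.1
  have n9 : φ * ψ ≠ φ' := by
    intro h
    have := S1504.key φ ψ φ' 1 tφ tφ' tψ t1₁ (h.trans (mul_one φ').symm)
    exact hψ this.2
  have n10 : φ * ψ ≠ ψ' := by
    intro h
    have := S1504.key φ ψ 1 ψ' tφ t1₂ tψ tψ' (h.trans (one_mul ψ').symm)
    exact hφ this.1
  have e11 : (φ * ψ = φ' * ψ') ↔ (φ = φ' ∧ ψ = ψ') := by
    constructor
    · intro h
      exact S1504.key φ ψ φ' ψ' tφ tφ' tψ tψ' h
    · rintro ⟨rfl, rfl⟩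
      rfl
  constructor
  · -- inner product with the principal character
    rw [classInner_indFun_left (W₁ ⊔ W₂) _ (fun _ => 1) (fun _ _ => rfl), classInner_def]
    have hsum : ∑ w : ↥(W₁ ⊔ W₂), (1 - (φ w : ℂ) - (ψ w : ℂ) + (φ w : ℂ) * (ψ w : ℂ)) * conj (1 : ℂ)
        = (Nat.card ↥(W₁ ⊔ W₂) : ℂ) := by
      have e : ∀ w : ↥(W₁ ⊔ W₂), (1 - (φ w : ℂ) - (ψ w : ℂ) + (φ w : ℂ) * (ψ w : ℂ)) * conj (1 : ℂ)
          = 1 - ((φ w : ℂˣ) : ℂ) - ((ψ w : ℂˣ) : ℂ) + (((φ * ψ) w : ℂˣ) : ℂ) := by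
        intro w
        rw [map_one, mul_one, MonoidHom.mul_apply, Units.val_mul]
      rw [Finset.sum_congr rfl (fun w _ => e w), Finset.sum_add_distrib, Finset.sum_sub_distrib,
        Finset.sum_sub_distrib, S1504.sum_hom φ hφ, S1504.sum_hom ψ hψ, S1504.sum_hom _ n8,
        Finset.sum_const, Finset.card_univ, nsmul_eq_mul, mul_one, hcardeq]
      ring
    rw [hsum]
    field_simp
  · rw [classInner_indFun_left (W₁ ⊔ W₂) _ _ (indFun_isClassFunction _ _), classInner_def]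
    -- replace the induced function by `α'` on the support of `α`
    have h1 : ∀ w : ↥(W₁ ⊔ W₂),
        (1 - (φ w : ℂ) - (ψ w : ℂ) + (φ w : ℂ) * (ψ w : ℂ)) *
          conj (Cfsg.indFun (W₁ ⊔ W₂)
            (fun w => 1 - (φ' w : ℂ) - (ψ' w : ℂ) + (φ' w : ℂ) * (ψ' w : ℂ)) (w : G))
        = (1 - (φ w : ℂ) - (ψ w : ℂ) + (φ w : ℂ) * (ψ w : ℂ)) *
          conj (1 - (φ' w : ℂ) - (ψ' w : ℂ) + (φ' w : ℂ) * (ψ' w : ℂ)) := by
      intro w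
      by_cases hw1 : (w : G) ∈ W₁
      · rw [tψ w hw1]; simp
      by_cases hw2 : (w : G) ∈ W₂
      · rw [tφ w hw2]; simp
      rw [indFun_eq_on_V W₁ W₂ hW _ w hw1 hw2]
    rw [Finset.sum_congr rfl (fun w _ => h1 w)]
    -- expand
    have e : ∀ w : ↥(W₁ ⊔ W₂),
        (1 - (φ w : ℂ) - (ψ w : ℂ) + (φ w : ℂ) * (ψ w : ℂ)) *
          conj (1 - (φ' w : ℂ) - (ψ' w : ℂ) + (φ' w : ℂ) * (ψ' w : ℂ))
        = (((1 : ↥(W₁ ⊔ W₂) →* ℂˣ) w : ℂˣ) : ℂ) * ((((1 : ↥(W₁ ⊔ W₂) →* ℂˣ) w)⁻¹ : ℂˣ) : ℂ)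
          - (((1 : ↥(W₁ ⊔ W₂) →* ℂˣ) w : ℂˣ) : ℂ) * (((φ' w)⁻¹ : ℂˣ) : ℂ)
          - (((1 : ↥(W₁ ⊔ W₂) →* ℂˣ) w : ℂˣ) : ℂ) * (((ψ' w)⁻¹ : ℂˣ) : ℂ)
          + (((1 : ↥(W₁ ⊔ W₂) →* ℂˣ) w : ℂˣ) : ℂ) * ((((φ' * ψ') w)⁻¹ : ℂˣ) : ℂ)
          - ((φ w : ℂˣ) : ℂ) * ((((1 : ↥(W₁ ⊔ W₂) →* ℂˣ) w)⁻¹ : ℂˣ) : ℂ)
          + ((φ w : ℂˣ) : ℂ) * (((φ' w)⁻¹ : ℂˣ) : ℂ)
          + ((φ w : ℂˣ) : ℂ) * (((ψ' w)⁻¹ : ℂˣ) : ℂ)
          - ((φ w : ℂˣ) : ℂ) * ((((φ' * ψ') w)⁻¹ : ℂˣ) : ℂ)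
          - ((ψ w : ℂˣ) : ℂ) * ((((1 : ↥(W₁ ⊔ W₂) →* ℂˣ) w)⁻¹ : ℂˣ) : ℂ)
          + ((ψ w : ℂˣ) : ℂ) * (((φ' w)⁻¹ : ℂˣ) : ℂ)
          + ((ψ w : ℂˣ) : ℂ) * (((ψ' w)⁻¹ : ℂˣ) : ℂ)
          - ((ψ w : ℂˣ) : ℂ) * ((((φ' * ψ') w)⁻¹ : ℂˣ) : ℂ)
          + (((φ * ψ) w : ℂˣ) : ℂ) * ((((1 : ↥(W₁ ⊔ W₂) →* ℂˣ) w)⁻¹ : ℂˣ) : ℂ)
          - (((φ * ψ) w : ℂˣ) : ℂ) * (((φ' w)⁻¹ : ℂˣ) : ℂ)
          - (((φ * ψ) w : ℂˣ) : ℂ) * (((ψ' w)⁻¹ : ℂˣ) : ℂ)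
          + (((φ * ψ) w : ℂˣ) : ℂ) * ((((φ' * ψ') w)⁻¹ : ℂˣ) : ℂ) := by
      intro w
      rw [map_add, map_sub, map_sub, map_mul, map_one, conj_hom φ' w, conj_hom ψ' w]
      simp only [MonoidHom.one_apply, MonoidHom.mul_apply, mul_inv, inv_one, Units.val_mul,
        Units.val_one]
      ring
    rw [Finset.sum_congr rfl (fun w _ => e w)]
    simp only [Finset.sum_add_distrib, Finset.sum_sub_distrib]
    simp only [S1504.sum_mul_inv]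
    rw [if_true, if_neg n1, if_neg n2, if_neg n3, if_neg hφ, if_neg n4, if_neg n5, if_neg hψ,
      if_neg n6, if_neg n7, if_neg n8, if_neg n9, if_neg n10, hcardeq]
    by_cases ha : φ = φ'
    · by_cases hb : ψ = ψ'
      · simp only [if_pos ha, if_pos hb, if_pos (e11.mpr ⟨ha, hb⟩)]
        field_simp
        ring
      · simp only [if_pos ha, if_neg hb, if_neg (fun h => hb (e11.mp h).2)]
        field_simp
        ring
    · by_cases hb : ψ = ψ'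
      · simp only [if_neg ha, if_pos hb, if_neg (fun h => ha (e11.mp h).1)]
        field_simp
        ring
      · simp only [if_neg ha, if_neg hb, if_neg (fun h => ha (e11.mp h).1)]
        field_simp
        ring

end Cfsg.Agent.S1505
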