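import Mathlib
import Cfsg.Statements.S1757
import Cfsg.Agent.Lib.Helper9.Basic

set_option autoImplicit false
open Cfsg

namespace Cfsg.Agent.S1757

open Cfsg.Agent.Helper9

/-- Let p be a prime and A, B p-subgroups of the finite group G, each of which meets every conjugate of itself other than itself trivially. Suppose the order of A is at most that of B, A and B intersect trivially, and B normalizes A. Then A and B commute elementwise. -/
theorem result {G : Type*} [Group G] [Finite G] (p : ℕ) [Fact p.Prime] (A B : Subgroup G)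
    (hA : IsPGroup p ↥A) (hB : IsPGroup p ↥B)
    (hAti : ∀ g : G, A.map (MulAut.conj g).toMonoidHom = A ∨ A.map (MulAut.conj g).toMonoidHom ⊓ A = ⊥)
    (hBti : ∀ g : G, B.map (MulAut.conj g).toMonoidHom = B ∨ B.map (MulAut.conj g).toMonoidHom ⊓ B = ⊥)
    (hle : Nat.card ↥A ≤ Nat.card ↥B) (hAB : A ⊓ B = ⊥) (hN : B ≤ Subgroup.normalizer (A : Set G)) : ⁅A, B⁆ = ⊥ := by
  rw [Subgroup.commutator_eq_bot_iff_le_centralizer]
  intro a ha
  by_contra hcon
  -- the map b ↦ b a b⁻¹ from B to A
  have hmem : ∀ b ∈ B, b * a * b⁻¹ ∈ A := fun b hb =>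
    ((Subgroup.mem_normalizer_iff.mp (hN hb)) a).mp ha
  let f : B → A := fun b => ⟨(b : G) * a * (b : G)⁻¹, hmem b b.2⟩
  -- key: centralizer of a in B is trivial
  have hcent : ∀ c ∈ B, c * a = a * c → c = 1 := by
    intro c hc hca
    by_contra hc1
    -- c ∈ B^a ∩ B
    have hcBa : c ∈ B.map (MulAut.conj a).toMonoidHom := by
      rw [mem_map_conj]
      have : a⁻¹ * c * a = c := by rw [mul_assoc, hca, inv_mul_cancel_left]
      rw [this]; exact hc
    have hBa : B.map (MulAut.conj a).toMonoidHom = B := by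
      rcases hBti a with h | h
      · exact h
      · exfalso
        have : c ∈ B.map (MulAut.conj a).toMonoidHom ⊓ B := ⟨hcBa, hc⟩
        rw [h, Subgroup.mem_bot] at this
        exact hc1 this
    -- so a normalizes B, hence a commutes with all of B
    apply hcon
    rw [Subgroup.mem_centralizer_iff]
    intro b hb
    have h1 : a * b * a⁻¹ ∈ B := by
      rw [← hBa]; exact conj_mem_map_conj hb
    have h2 : a * b * a⁻¹ * b⁻¹ ∈ B := B.mul_mem h1 (B.inv_mem hb)
    have h3 : a * b * a⁻¹ * b⁻¹ ∈ A := by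
      have : b * a⁻¹ * b⁻¹ ∈ A := by
        have := hmem b hb
        have h' := A.inv_mem this
        simpa [mul_assoc] using h'
      have h4 := A.mul_mem ha this
      simpa [mul_assoc] using h4
    have h5 : a * b * a⁻¹ * b⁻¹ ∈ A ⊓ B := ⟨h3, h2⟩
    rw [hAB, Subgroup.mem_bot] at h5
    -- a b a⁻¹ b⁻¹ = 1 → b a = a b
    have : a * b = b * a := by
      have h6 := congrArg (fun x => x * b * a) h5
      simpa [mul_assoc] using h6
    exact this.symm
  have hinj : Function.Injective f := by
    intro b₁ b₂ h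
    have h' : (b₁ : G) * a * (b₁ : G)⁻¹ = (b₂ : G) * a * (b₂ : G)⁻¹ := congrArg (fun x : A => (x : G)) h
    have hc : ((b₂ : G)⁻¹ * b₁) * a = a * ((b₂ : G)⁻¹ * b₁) := by
      have h6 := congrArg (fun x => (b₂ : G)⁻¹ * x * b₁) h'
      simpa [mul_assoc] using h6
    have := hcent _ (B.mul_mem (B.inv_mem b₂.2) b₁.2) hc
    apply Subtype.ext
    have h7 : (b₁ : G) = b₂ := by
      have h6 := congrArg (fun x => (b₂ : G) * x) this
      simpa [mul_assoc] using h6
    exact h7
  have hne : a ≠ 1 := by
    rintro rfl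
    exact hcon (Subgroup.one_mem _)
  have hnot : (1 : A) ∉ Set.range f := by
    rintro ⟨b, hb⟩
    have h' : (b : G) * a * (b : G)⁻¹ = 1 := congrArg (fun x : A => (x : G)) hb
    apply hne
    have h6 := congrArg (fun x => (b : G)⁻¹ * x * b) h'
    simpa [mul_assoc] using h6
  haveI : Fintype A := Fintype.ofFinite A
  haveI : Fintype B := Fintype.ofFinite B
  have hlt := Fintype.card_lt_of_injective_of_notMem f hinj hnot
  rw [Nat.card_eq_fintype_card, Nat.card_eq_fintype_card] at hle
  omega

end Cfsg.Agent.S1757
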