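import Mathlib
import Cfsg.Statements.S1782
import Cfsg.Agent.Lib.Helper9.TIFamily
import Cfsg.Agent.S1757
-- import your own Cfsg.Agent.* helpers here

set_option autoImplicit false
open Cfsg

namespace Cfsg.Agent.S1782

open Subgroup Cfsg.Agent.Helper9

/-- Let S be a finite 2-group and Δ a set of subgroups of S closed under conjugation by S, all of the same order, each with nontrivial Frattini subgroup, and such that two distinct members of Δ meet trivially. Then any two distinct members of Δ commute elementwise. -/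
theorem result {S : Type*} [Group S] [Finite S] (hS : IsPGroup 2 S)
    (Δ : Set (Subgroup S)) (hinv : ∀ s : S, ∀ R ∈ Δ, R.map (MulAut.conj s).toMonoidHom ∈ Δ)
    (hΦ : ∀ R ∈ Δ, frattini ↥R ≠ ⊥) (hord : ∀ R ∈ Δ, ∀ T ∈ Δ, Nat.card ↥R = Nat.card ↥T)
    (hti : ∀ R ∈ Δ, ∀ T ∈ Δ, R = T ∨ R ⊓ T = ⊥) :
    ∀ R ∈ Δ, ∀ T ∈ Δ, R ≠ T → ⁅R, T⁆ = ⊥ := by
  haveI : Fact (Nat.Prime 2) := ⟨Nat.prime_two⟩
  -- TI property in conjugate form
  have hTIc : ∀ R ∈ Δ, ∀ g : S, R.map (MulAut.conj g).toMonoidHom = R ∨
      R.map (MulAut.conj g).toMonoidHom ⊓ R = ⊥ := fun R hR g => hti _ (hinv g R hR) R hR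
  have hFact2 : ∀ T ∈ Δ, ∀ e ∈ T, e ≠ 1 → ∀ r : S, r * e * r⁻¹ = e →
      r ∈ normalizer (T : Set S) := by
    intro T hT e he he1 r hre
    apply mem_normalizer_of_map_conj_eq_self
    rcases hTIc T hT r with h | h
    · exact h
    · exfalso
      apply he1
      have : e ∈ T.map (MulAut.conj r).toMonoidHom ⊓ T := by
        refine ⟨?_, he⟩
        rw [← hre]
        exact conj_mem_map_conj he
      rw [h] at this
      exact this
  -- conversion of the induction hypothesis
  have hconv : ∀ R ∈ Δ, ∀ t : S,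
      (R.map (MulAut.conj t).toMonoidHom = R ∨ ⁅R, R.map (MulAut.conj t).toMonoidHom⁆ = ⊥) →
      t ∈ normalizer (R : Set S) ∨
        ((∀ x ∈ R, ∀ x' ∈ R, x * (t * x' * t⁻¹) = (t * x' * t⁻¹) * x) ∧
          ∀ x ∈ R, t * x * t⁻¹ ∈ R → x = 1) := by
    intro R hR t h
    by_cases heq : R.map (MulAut.conj t).toMonoidHom = R
    · exact Or.inl (mem_normalizer_of_map_conj_eq_self heq)
    · right
      have hcomm := h.resolve_left heq
      have hinf := (hTIc R hR t).resolve_left heq
      constructor
      · intro x hx x' hx'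
        rw [Subgroup.commutator_eq_bot_iff_le_centralizer] at hcomm
        have := mem_centralizer_iff.mp (hcomm hx) _ (conj_mem_map_conj (g := t) hx')
        exact this.symm
      · intro x hx hx'
        have h1 : t * x * t⁻¹ ∈ R.map (MulAut.conj t).toMonoidHom ⊓ R :=
          ⟨conj_mem_map_conj hx, hx'⟩
        rw [hinf, mem_bot] at h1
        have : x = t⁻¹ * (t * x * t⁻¹) * t := by group
        rw [this, h1]
        group
  have main : ∀ n : ℕ, ∀ R ∈ Δ, ∀ T ∈ Δ, R ≠ T → Nat.card ↥(R ⊔ T) ≤ n → ⁅R, T⁆ = ⊥ := by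
    intro n
    induction n with
    | zero =>
      intro R _ T _ _ hcard
      have : 0 < Nat.card ↥(R ⊔ T) := Nat.card_pos
      omega
    | succ n ih =>
      intro R hR T hT hne hcard
      have hTR : ¬ T ≤ R := fun h =>
        hne (Subgroup.eq_of_le_of_card_ge h (hord R hR T hT).le).symm
      have hRT : ¬ R ≤ T := fun h =>
        hne (Subgroup.eq_of_le_of_card_ge h (hord T hT R hR).le)
      have hRt : ∀ t ∈ T, R.map (MulAut.conj t).toMonoidHom = R ∨
          ⁅R, R.map (MulAut.conj t).toMonoidHom⁆ = ⊥ := by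
        intro t ht
        by_cases heq : R.map (MulAut.conj t).toMonoidHom = R
        · exact Or.inl heq
        · right
          apply ih R hR _ (hinv t R hR) (fun h => heq h.symm)
          have := card_sup_conj_lt hS R T hTR t ht
          omega
      have hTr : ∀ r ∈ R, T.map (MulAut.conj r).toMonoidHom = T ∨
          ⁅T, T.map (MulAut.conj r).toMonoidHom⁆ = ⊥ := by
        intro r hr
        by_cases heq : T.map (MulAut.conj r).toMonoidHom = T
        · exact Or.inl heq
        · right
          apply ih T hT _ (hinv r T hT) (fun h => heq h.symm)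
          have := card_sup_conj_lt hS T R hRT r hr
          rw [sup_comm T R] at this
          omega
      have hsqR : ∃ y ∈ R, y * y ≠ 1 := exists_sq_ne_one_of_frattini_ne_bot R (hΦ R hR)
      have hcore := core_normalizes hS R T (fun t ht => hconv R hR t (hRt t ht))
        (fun r hr => hconv T hT r (hTr r hr))
        (fun e he he1 r _ hre => hFact2 T hT e he he1 r hre) hsqR
      have hinfRT : R ⊓ T = ⊥ := (hti R hR T hT).resolve_left hne
      rcases hcore with h | h
      · have := Cfsg.Agent.S1757.result 2 T R (hS.to_subgroup T) (hS.to_subgroup R) (hTIc T hT)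
          (hTIc R hR) (hord T hT R hR).le (by rw [inf_comm]; exact hinfRT) h
        rw [Subgroup.commutator_comm]
        exact this
      · exact Cfsg.Agent.S1757.result 2 R T (hS.to_subgroup R) (hS.to_subgroup T) (hTIc R hR)
          (hTIc T hT) (hord R hR T hT).le hinfRT h
  intro R hR T hT hne
  exact main _ R hR T hT hne le_rfl

end Cfsg.Agent.S1782
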