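import Mathlib
import Cfsg.Statements.S0292
import Cfsg.Agent.Lib.Helper2.OrthPOmega

set_option autoImplicit false
open Cfsg

namespace Cfsg.Agent.S0292

open Cfsg.Agent.Helper2.Orth Cfsg.Agent.Helper13 in
/-- 2 |PΩ_{2m+1}(q)| = q^(m^2) prod_{i=1}^{m} (q^(2i) - 1), for q odd and m at least 3 (type B_m). -/
theorem result {F : Type*} [Field F] [Fintype F] {q : ℕ} (hF : Fintype.card F = q) (hodd : Odd q) (m : ℕ) (hm : 3 ≤ m) : 2 * Nat.card (Cfsg.POmega F (Cfsg.quadFormOdd m F)) = q ^ (m ^ 2) * ∏ i ∈ Finset.range m, (q ^ (2 * (i + 1)) - 1) := by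
  classical
  subst hF
  have h2 : (2 : F) ≠ 0 := by
    have hc : ringChar F ≠ 2 := by
      intro h
      have := FiniteField.even_card_of_char_two h
      have := Nat.odd_iff.1 hodd
      omega
    exact Ring.two_ne_zero hc
  obtain ⟨k, rfl⟩ : ∃ k, m = k + 2 := ⟨m - 2, by omega⟩
  have hcard := card_odd h2 (k + 2)
  rw [quadFormOdd_eq] at hcard ⊢
  have hn : 2 ≤ Fintype.card (Unit ⊕ (Fin (k + 2) ⊕ Fin (k + 2))) := by
    simp only [Fintype.card_sum, Fintype.card_fin, Fintype.card_unit]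
    omega
  have hno : (∃ g : Cfsg.isometryGroup F (⇑(matQ (oddMat (k + 2) F))),
      g ∈ Cfsg.Omega F (⇑(matQ (oddMat (k + 2) F))) ∧ g.1.1 = -1) ↔ False := by
    rw [iff_false]
    rintro ⟨g, hg, hg1⟩
    have hs := Cfsg.Agent.Helper17.Spinor.Omega_le_special _ hg
    have hdet : Matrix.GeneralLinearGroup.det g.1 = 1 := hs
    have hdet' : (g.1.1).det = 1 := by
      have := congrArg Units.val hdet
      simpa using this
    rw [hg1, Matrix.det_neg, Matrix.det_one, mul_one] at hdet'
    simp only [Fintype.card_sum, Fintype.card_fin, Fintype.card_unit] at hdet'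
    have : (-1 : F) ^ (1 + (k + 2 + (k + 2))) = -1 := by
      rw [pow_add, pow_one, ← two_mul, pow_mul]
      simp
    rw [this] at hdet'
    apply h2
    linear_combination -hdet'
  have key := card_POmega_of_odd (nondeg_odd (F := F) (k + 2) h2) (twoHyp_odd k) h2 hn False hno
  rw [if_neg not_false, hcard] at key
  linarith

end Cfsg.Agent.S0292
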