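import Mathlib
import Cfsg.Statements.S0294
import Cfsg.Agent.Lib.Helper2.OrthPOmega
import Cfsg.Agent.S0791

set_option autoImplicit false
open Cfsg

namespace Cfsg.Agent.S0294

theorem gcd_four_of_mod_zero (n : ℕ) (h : n % 4 = 0) : Nat.gcd 4 n = 4 := by
  rw [Nat.gcd_rec, h]; rfl

theorem gcd_four_of_mod_two (n : ℕ) (h : n % 4 = 2) : Nat.gcd 4 n = 2 := by
  rw [Nat.gcd_rec, h]; rfl

theorem gcd_four_of_odd (n : ℕ) (h : n % 2 = 1) : Nat.gcd 4 n = 1 := by
  have h1 : n % 4 = 1 ∨ n % 4 = 3 := by omega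
  rcases h1 with h1 | h1 <;> rw [Nat.gcd_rec, h1] <;> rfl

theorem odd_card_of_two_ne_zero {F : Type*} [Field F] [Fintype F] (h2 : (2 : F) ≠ 0) :
    Odd (Fintype.card F) := by
  rcases Nat.even_or_odd (Fintype.card F) with he | ho
  · exfalso
    apply h2
    have h0 : ((Fintype.card F : ℕ) : F) = 0 := Nat.cast_card_eq_zero F
    obtain ⟨p, hp⟩ := CharP.exists F
    have hpp : p.Prime := by
      rcases CharP.char_is_prime_or_zero F p with h | h
      · exact h
      · exfalso
        subst h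
        have := CharP.charP_to_charZero F
        exact absurd h0 (Nat.cast_ne_zero.2 Fintype.card_ne_zero)
    obtain ⟨n, hn⟩ := FiniteField.card F p
    have h2p : 2 ∣ p := by
      have : 2 ∣ Fintype.card F := he.two_dvd
      rw [hn.2] at this
      exact (Nat.prime_two.dvd_of_dvd_pow this)
    have : p = 2 := ((Nat.prime_dvd_prime_iff_eq Nat.prime_two hpp).1 h2p).symm
    subst this
    exact_mod_cast (CharP.cast_eq_zero F 2)
  · exact ho

open Cfsg.Agent.Helper2.Orth Cfsg.Agent.Helper13 in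
/-- gcd(4, q^m + 1) |PΩ^-_{2m}(q)| = q^(m(m-1)) (q^m + 1) prod_{i=1}^{m-1} (q^(2i) - 1), m at least 4 (type ²D_m). -/
theorem result {F : Type*} [Field F] [Fintype F] {q : ℕ} (hF : Fintype.card F = q) (m : ℕ) (hm : 4 ≤ m) (a b : F) (hab : ∀ z₁ z₂ : F, z₁ ^ 2 + a * z₁ * z₂ + b * z₂ ^ 2 = 0 → z₁ = 0 ∧ z₂ = 0) : Nat.gcd 4 (q ^ m + 1) * Nat.card (Cfsg.POmega F (Cfsg.quadFormMinus (m - 1) F a b)) = q ^ (m * (m - 1)) * (q ^ m + 1) * ∏ i ∈ Finset.range (m - 1), (q ^ (2 * (i + 1)) - 1) := by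
  classical
  subst hF
  obtain ⟨k, rfl⟩ : ∃ k, m = k + 3 := ⟨m - 3, by omega⟩
  have h791 := fun hodd => Cfsg.Agent.S0791.result (F := F) rfl hodd (k + 3) (by omega) a b hab
  have e : k + 3 - 1 = k + 2 := rfl
  rw [e] at h791 ⊢
  have hcard := card_minus (F := F) a b hab (k + 2)
  have e2 : k + 2 + 1 = k + 3 := rfl
  rw [e2] at hcard
  rw [quadFormMinus_eq] at hcard h791 ⊢
  have hnd := nondeg_minus (F := F) (k + 2) a b hab
  by_cases h2 : (2 : F) = 0
  · -- characteristic two
    have hex : Fintype.card F ≠ 2 ∨ Fintype.card ((Fin (k + 2) ⊕ Fin (k + 2)) ⊕ Fin 2) ≠ 4 := by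
      right
      simp only [Fintype.card_sum, Fintype.card_fin]
      omega
    have key := card_POmega_of_two hnd (twoHyp_minus k a b) h2 hex
    have : CharP F 2 := CharTwo.of_one_ne_zero_of_two_eq_zero one_ne_zero h2
    have heven : Even (Fintype.card F) :=
      Nat.even_iff.2 (FiniteField.even_card_of_char_two (ringChar.eq F 2))
    have hpe : Even (Fintype.card F ^ (k + 3)) := heven.pow_of_ne_zero (by omega)
    have hg : Nat.gcd 4 (Fintype.card F ^ (k + 3) + 1) = 1 := by
      apply gcd_four_of_odd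
      have := Nat.even_iff.1 hpe
      omega
    rw [hg, one_mul]
    rw [hcard] at key
    linarith
  · -- odd characteristic
    have hodd : Odd (Fintype.card F) := odd_card_of_two_ne_zero h2
    have hn : 2 ≤ Fintype.card ((Fin (k + 2) ⊕ Fin (k + 2)) ⊕ Fin 2) := by
      simp only [Fintype.card_sum, Fintype.card_fin]
      omega
    have : Nonempty ((Fin (k + 2) ⊕ Fin (k + 2)) ⊕ Fin 2) := ⟨Sum.inr 0⟩
    have key := card_POmega_of_odd hnd (twoHyp_minus k a b) h2 hn
      (Fintype.card F ^ (k + 3) % 4 = 3) (h791 hodd)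
    have hpo : Odd (Fintype.card F ^ (k + 3)) := hodd.pow
    have hpo' := Nat.odd_iff.1 hpo
    rw [hcard] at key
    split_ifs at key with h4
    · have hg : Nat.gcd 4 (Fintype.card F ^ (k + 3) + 1) = 4 := by
        apply gcd_four_of_mod_zero
        omega
      rw [hg]
      linarith
    · have hg : Nat.gcd 4 (Fintype.card F ^ (k + 3) + 1) = 2 := by
        apply gcd_four_of_mod_two
        omega
      rw [hg]
      linarith

end Cfsg.Agent.S0294
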