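import Mathlib
import Cfsg.Statements.S3116
import Cfsg.Agent.Lib.Helper16.AutTwoGroup

set_option autoImplicit false
open Cfsg

namespace Cfsg.Agent.S3116

open Cfsg.Agent.Helper16

theorem dihedral_case {X : Type*} [Group X] [Finite X] (h2 : IsPGroup 2 X) (m : ℕ) (hm : 4 ≤ m)
    (e : X ≃* DihedralGroup m) : IsPGroup 2 (MulAut X) := by
  have hF : Fact (Nat.Prime 2) := ⟨Nat.prime_two⟩
  obtain ⟨k, hk⟩ := IsPGroup.iff_card.1 h2
  have hcard : Nat.card X = 2 * m := by
    rw [Nat.card_congr e.toEquiv, DihedralGroup.nat_card]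
  have hk1 : 1 ≤ k := by
    rcases Nat.eq_zero_or_pos k with h | h
    · rw [h, pow_zero] at hk; omega
    · exact h
  obtain ⟨n, rfl⟩ : ∃ n, k = n + 1 := ⟨k - 1, by omega⟩
  have hmn : m = 2 ^ n := by
    rw [hcard, pow_succ, mul_comm] at hk
    exact Nat.eq_of_mul_eq_mul_right (by norm_num) hk
  have hn : 2 ≤ n := by
    by_contra hcon
    push Not at hcon
    interval_cases n <;> omega
  have hm0 : NeZero m := ⟨by omega⟩
  apply aut_isPGroup_of_cyclic_index_two n (by omega) hk (e.symm (DihedralGroup.r 1))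
  · rw [MulEquiv.orderOf_eq, DihedralGroup.orderOf_r_one, hmn]
  · intro g hg
    have hcases : ∀ d : DihedralGroup m, e g = d → orderOf g < 2 ^ n := by
      intro d hd
      cases d with
      | r i =>
        exfalso
        apply hg
        have h1 : (DihedralGroup.r 1 : DihedralGroup m) ^ (i.val) = DihedralGroup.r i := by
          rw [DihedralGroup.r_one_pow, ZMod.natCast_zmod_val]
        have h2 : g = (e.symm (DihedralGroup.r 1)) ^ (i.val) := by
          rw [← map_pow, h1, ← hd, MulEquiv.symm_apply_apply]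
        rw [h2]
        exact Subgroup.pow_mem _ (Subgroup.mem_zpowers _) _
      | sr i =>
        have h1 : orderOf g = 2 := by
          rw [← MulEquiv.orderOf_eq e, hd, DihedralGroup.orderOf_sr]
        rw [h1]
        calc 2 < 4 := by norm_num
          _ = 2 ^ 2 := by norm_num
          _ ≤ 2 ^ n := Nat.pow_le_pow_right (by norm_num) hn
    exact hcases _ rfl

theorem quasidihedral_case {X : Type*} [Group X] [Finite X] (h : Cfsg.IsQuasiDihedral X) :
    IsPGroup 2 (MulAut X) := by
  obtain ⟨n, hn, hcard, x, y, hx, hy, hyx⟩ := h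
  have hy2 : y * y = 1 := by rw [← pow_two, ← hy, pow_orderOf_eq_one]
  have h4 : 4 ≤ 2 ^ (n - 1) := by
    calc 4 = 2 ^ 2 := by norm_num
      _ ≤ 2 ^ (n - 1) := Nat.pow_le_pow_right (by norm_num) (by omega)
  have h2n : 2 ^ n = 2 * 2 ^ (n - 1) := by
    rw [← pow_succ']; congr 1; omega
  have hCcard : Nat.card (Subgroup.zpowers x) = 2 ^ n := by rw [Nat.card_zpowers, hx]
  have hidx : (Subgroup.zpowers x).index = 2 := by
    have h1 := Subgroup.card_mul_index (Subgroup.zpowers x)
    rw [hCcard, hcard, pow_succ] at h1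
    exact Nat.eq_of_mul_eq_mul_left (by positivity) h1
  have hyC : y ∉ Subgroup.zpowers x := by
    intro hyC
    rw [Subgroup.mem_zpowers_iff] at hyC
    obtain ⟨k, hk⟩ := hyC
    have hcomm : y * x * y⁻¹ = x := by
      rw [← hk]
      have : x ^ k * x = x * x ^ k := (Commute.zpow_self x k).symm.eq ▸ rfl
      rw [this]; group
    rw [hcomm] at hyx
    have h1 : x ^ 1 = x ^ (2 ^ (n - 1) - 1) := by rw [pow_one]; exact hyx
    rw [pow_eq_pow_iff_modEq, hx] at h1
    have := h1.eq_of_lt_of_lt (by omega) (by omega)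
    omega
  have hyinv : y⁻¹ ∉ Subgroup.zpowers x := fun h => hyC (by simpa using Subgroup.inv_mem _ h)
  apply aut_isPGroup_of_cyclic_index_two n (by omega) hcard x hx
  intro g hg
  have hgy : g * y⁻¹ ∈ Subgroup.zpowers x := by
    rw [Subgroup.mul_mem_iff_of_index_two hidx]
    exact ⟨fun h => absurd h hg, fun h => absurd h hyinv⟩
  rw [← mem_powers_iff_mem_zpowers] at hgy
  obtain ⟨a, ha⟩ := hgy
  have ha : x ^ a = g * y⁻¹ := ha
  have hg' : g = x ^ a * y := by rw [ha]; group
  have hconj : y * x ^ a * y⁻¹ = (x ^ (2 ^ (n - 1) - 1)) ^ a := by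
    rw [← hyx]
    have := map_pow (MulAut.conj y) x a
    simp only [MulAut.conj_apply] at this
    exact this
  have hyinv' : y⁻¹ = y := inv_eq_of_mul_eq_one_left hy2
  have hg2 : g * g = x ^ (a * 2 ^ (n - 1)) := by
    have : g * g = x ^ a * (y * x ^ a * y⁻¹) * (y * y) := by rw [hg']; group
    rw [this, hconj, hy2, mul_one, ← pow_mul, ← pow_add]
    congr 1
    have : 1 ≤ 2 ^ (n - 1) := by omega
    zify [this]
    ring
  have hg4 : g ^ 4 = 1 := by
    have : g ^ 4 = (g * g) * (g * g) := by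
      rw [show (4 : ℕ) = 2 + 2 from rfl, pow_add, pow_two]
    rw [this, hg2, ← pow_add, ← two_mul, ← mul_assoc, mul_comm 2 a, mul_assoc, ← h2n, pow_mul',
      ← hx, pow_orderOf_eq_one, one_pow]
  have h5 : orderOf g ≤ 4 := Nat.le_of_dvd (by norm_num) (orderOf_dvd_of_pow_eq_one hg4)
  omega

/-- The automorphism group of a dihedral 2-group of order at least 8, or of a quasi-dihedral (semidihedral) 2-group of order at least 16, is a 2-group. -/
theorem result {X : Type*} [Group X] [Finite X] (h2 : IsPGroup 2 X)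
    (h : (∃ n : ℕ, 4 ≤ n ∧ Nonempty (X ≃* DihedralGroup n)) ∨ Cfsg.IsQuasiDihedral X) : IsPGroup 2 (MulAut X) := by
  rcases h with ⟨m, hm, ⟨e⟩⟩ | h
  · exact dihedral_case h2 m hm e
  · exact quasidihedral_case h

end Cfsg.Agent.S3116
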