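import Mathlib
import Cfsg.Agent.S4399
import Cfsg.Agent.Lib.Helper22.MaxClass
import Cfsg.Agent.Lib.Helper23.PGroup
import Cfsg.Statements.S4398
-- import your own Cfsg.Agent.* helpers here

set_option autoImplicit false
open Cfsg

namespace Cfsg.Agent.S4398

open Subgroup Cfsg.Agent.Helper22
open scoped commutatorElement Pointwise

/-- an element of `C` outside `H` whose square lies in `H` -/
theorem exists_sq_mem {S : Type*} [Group S] (h2 : IsPGroup 2 S) (C H : Subgroup S)
    (hCH : ¬ C ≤ H) : ∃ c ∈ C, c ∉ H ∧ c ^ 2 ∈ H := by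
  classical
  obtain ⟨c, hcC, hcH⟩ := SetLike.not_le_iff_exists.mp hCH
  obtain ⟨k, hk⟩ := h2 c
  have hex : ∃ k, c ^ 2 ^ k ∈ H := ⟨k, by rw [hk]; exact one_mem _⟩
  have hspec := Nat.find_spec hex
  rcases Nat.eq_zero_or_pos (Nat.find hex) with h0 | h0
  · rw [h0, pow_zero, pow_one] at hspec
    exact absurd hspec hcH
  · obtain ⟨m, hm⟩ : ∃ m, Nat.find hex = m + 1 := ⟨Nat.find hex - 1, by omega⟩
    refine ⟨c ^ 2 ^ m, pow_mem hcC _, Nat.find_min hex (m := m) (by omega), ?_⟩
    rw [← pow_mul, ← pow_succ, ← hm]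
    exact hspec

/-- the sectional rank bound applied to a section of exponent two -/
theorem sectional_card_le {S : Type*} [Group S] (hr : Cfsg.SectionalPRankLE 2 2 S)
    (K : Subgroup S) (N : Subgroup K) [N.Normal] (hsq : ∀ k : K, k ^ 2 ∈ N) :
    Nat.card (K ⧸ N) ≤ 4 := by
  have hq : ∀ q : K ⧸ N, q ^ 2 = 1 := by
    intro q
    obtain ⟨k, rfl⟩ := QuotientGroup.mk_surjective q
    rw [← QuotientGroup.mk_pow]
    exact (QuotientGroup.eq_one_iff _).mpr (hsq k)
  have h1 := hr K N ⊤ ⟨⟨fun a b => Subtype.ext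
    (Cfsg.Agent.S4399.comm_of_sq_eq_one hq (a : K ⧸ N) (b : K ⧸ N))⟩⟩ (fun a _ => hq a)
  rw [card_top] at h1
  exact h1

/-- a nonabelian subgroup of order 8 of a 2-group of sectional rank at most two contains its centralizer -/
theorem centralizer_le_of_sectional {S : Type*} [Group S] [Finite S] (h2 : IsPGroup 2 S)
    (hr : Cfsg.SectionalPRankLE 2 2 S) (H : Subgroup S) (hH : Nat.card H = 2 ^ 3)
    (hna : ¬ IsMulCommutative H) : centralizer (H : Set S) ≤ H := by
  haveI : Fact (Nat.Prime 2) := ⟨Nat.prime_two⟩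
  by_contra hCH
  obtain ⟨c, hcC, hcH, hc2⟩ := exists_sq_mem h2 _ H hCH
  set Z : Subgroup S := centralizer (H : Set S) ⊓ H with hZ
  -- squares of `H` lie in `Z`
  have hHsq : ∀ h ∈ H, h ^ 2 ∈ Z := by
    intro h hh
    have h1 := pow_prime_mem_center_of_card_cube 2 hH hna ⟨h, hh⟩
    refine ⟨?_, pow_mem hh 2⟩
    show h ^ 2 ∈ centralizer (H : Set S)
    rw [mem_centralizer_iff]
    intro g hg
    have h3 := mem_center_iff.mp h1 ⟨g, hg⟩
    exact congrArg Subtype.val h3
  have hZcard : Nat.card Z ≤ 2 := by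
    rw [← card_center_of_card_cube 2 hH hna]
    have hmem : ∀ x : Z, (⟨(x : S), x.2.2⟩ : H) ∈ center H := by
      intro x
      rw [mem_center_iff]
      intro g
      ext
      exact (mem_centralizer_iff.mp x.2.1) g g.2
    apply Nat.card_le_card_of_injective (fun x => (⟨_, hmem x⟩ : center H))
    intro x y hxy
    ext
    have := congrArg (fun z : center H => ((z : H) : S)) hxy
    exact this
  have hc2Z : c ^ 2 ∈ Z := ⟨pow_mem hcC 2, hc2⟩
  set K : Subgroup S := H ⊔ zpowers c with hK
  have hHK : H ≤ K := le_sup_left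
  have hcK : c ∈ K := (le_sup_right : zpowers c ≤ K) (mem_zpowers c)
  have hZK : Z ≤ K := inf_le_right.trans hHK
  -- structure of `K`
  have hKmem : ∀ k ∈ K, ∃ h ∈ H, ∃ i : ℤ, k = h * c ^ i := by
    intro k hk
    have hle : zpowers c ≤ normalizer (H : Set S) :=
      (zpowers_le.mpr hcC).trans (centralizer_le_normalizer _)
    have h1 : (↑(H ⊔ zpowers c) : Set S) = (H : Set S) * (zpowers c : Set S) :=
      coe_mul_of_right_le_normalizer_left H (zpowers c) hle
    have h3 : k ∈ (H : Set S) * (zpowers c : Set S) := by rw [← h1]; exact hk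
    obtain ⟨h, hh, y, hy, rfl⟩ := Set.mem_mul.mp h3
    obtain ⟨i, rfl⟩ := mem_zpowers_iff.mp hy
    exact ⟨h, hh, i, rfl⟩
  have hcomm : ∀ h ∈ H, h * c = c * h := fun h hh => mem_centralizer_iff.mp hcC h hh
  have hKsq : ∀ k ∈ K, k ^ 2 ∈ Z := by
    intro k hk
    obtain ⟨h, hh, i, rfl⟩ := hKmem k hk
    have hci : Commute h (c ^ i) := (show Commute h c from hcomm h hh).zpow_right i
    rw [hci.mul_pow]
    refine mul_mem (hHsq h hh) ?_
    rw [← zpow_natCast, ← zpow_mul, mul_comm, zpow_mul, zpow_natCast]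
    exact zpow_mem hc2Z i
  -- `Z` is central in `K`
  have hZcentral : ∀ z ∈ Z, ∀ k ∈ K, k * z = z * k := by
    intro z hz k hk
    obtain ⟨h, hh, i, rfl⟩ := hKmem k hk
    have h1 : h * z = z * h := mem_centralizer_iff.mp hz.1 h hh
    have h2 : Commute c z := hcomm z hz.2 |>.symm
    have h3 : c ^ i * z = z * c ^ i := (h2.zpow_left i).eq
    calc h * c ^ i * z = h * (c ^ i * z) := by group
      _ = h * (z * c ^ i) := by rw [h3]
      _ = (h * z) * c ^ i := by group
      _ = z * h * c ^ i := by rw [h1]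
      _ = z * (h * c ^ i) := by group
  set N : Subgroup K := Z.subgroupOf K with hN
  haveI hNn : N.Normal := by
    refine ⟨fun n hn k => ?_⟩
    have hn' : (n : S) ∈ Z := hn
    have h1 : (k : S) * (n : S) = (n : S) * (k : S) := hZcentral _ hn' _ k.2
    have h2 : k * n * k⁻¹ = n := by
      ext
      show (k : S) * (n : S) * (k : S)⁻¹ = (n : S)
      rw [h1]; group
    rw [h2]; exact hn
  have hbound := sectional_card_le hr K N (fun k => by
    show ((k ^ 2 : K) : S) ∈ Z
    exact hKsq _ k.2)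
  -- cardinalities
  have hNcard : Nat.card N ≤ 2 := by
    rw [hN, Nat.card_congr (subgroupOfEquivOfLe hZK).toEquiv]
    exact hZcard
  have hKcard : 16 ≤ Nat.card K := by
    obtain ⟨j, hj⟩ := (h2.to_subgroup K).exists_card_eq
    have hlt : Nat.card H < Nat.card K := by
      by_contra hcon
      push Not at hcon
      have := eq_of_le_of_card_ge hHK hcon
      exact hcH (this ▸ hcK)
    rw [hH, hj] at hlt
    have h3 : 3 < j := (Nat.pow_lt_pow_iff_right (by norm_num)).mp hlt
    rw [hj]
    calc 16 = 2 ^ 4 := by norm_num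
      _ ≤ 2 ^ j := Nat.pow_le_pow_right (by norm_num) h3
  have hmul := N.card_eq_card_quotient_mul_card_subgroup
  nlinarith

/-- squares lie in the derived subgroup when it has index four in a nonabelian 2-group -/
theorem sq_mem_commutator {P : Type*} [Group P] [Finite P] (hP : IsPGroup 2 P)
    (h4 : (commutator P).index = 4) (hxy : ∃ x y : P, x * y ≠ y * x) (s : P) :
    s ^ 2 ∈ commutator P := by
  haveI : Fact (Nat.Prime 2) := ⟨Nat.prime_two⟩
  by_contra hs
  obtain ⟨x, y, hxy⟩ := hxy
  apply hxy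
  have hQcard : Nat.card (P ⧸ commutator P) = 4 := by
    rw [← h4]; rfl
  set sb : P ⧸ commutator P := QuotientGroup.mk s with hsb
  have hsb2 : sb ^ 2 ≠ 1 := by
    intro h
    apply hs
    rw [hsb, ← QuotientGroup.mk_pow] at h
    exact (QuotientGroup.eq_one_iff _).mp h
  have hord : orderOf sb = 4 := by
    have h1 : orderOf sb ∣ 4 := by rw [← hQcard]; exact orderOf_dvd_natCard sb
    have h2 : orderOf sb ≤ 4 := Nat.le_of_dvd (by norm_num) h1
    have h3 : ¬ orderOf sb ∣ 2 := fun h => hsb2 (orderOf_dvd_iff_pow_eq_one.mp h)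
    have h0 : 0 < orderOf sb := Nat.pos_of_dvd_of_pos h1 (by norm_num)
    interval_cases (orderOf sb) <;> simp_all
  have htop : zpowers sb = ⊤ := by
    rw [← card_eq_iff_eq_top, Nat.card_zpowers, hord, hQcard]
  have hsup : zpowers s ⊔ frattini P = ⊤ := by
    rw [eq_top_iff]
    intro g _
    have h1 : (QuotientGroup.mk g : P ⧸ commutator P) ∈ zpowers sb := by rw [htop]; trivial
    rw [mem_zpowers_iff] at h1
    obtain ⟨i, hi⟩ := h1
    rw [hsb, ← QuotientGroup.mk_zpow] at hi
    have h2 : (s ^ i)⁻¹ * g ∈ commutator P := QuotientGroup.eq.mp hi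
    have h3 : g = s ^ i * ((s ^ i)⁻¹ * g) := by group
    rw [h3]
    exact mul_mem (mem_sup_left (zpow_mem (mem_zpowers s) i))
      (mem_sup_right (Cfsg.Agent.Helper23.commutator_le_frattini_pgroup 2 hP h2))
  have hz : zpowers s = ⊤ := frattini_nongenerating hsup
  have hx : x ∈ zpowers s := by rw [hz]; trivial
  have hy : y ∈ zpowers s := by rw [hz]; trivial
  rw [mem_zpowers_iff] at hx hy
  obtain ⟨i, rfl⟩ := hx
  obtain ⟨j, rfl⟩ := hy
  rw [← zpow_add, ← zpow_add, add_comm]

theorem dihedral_four_not_comm : ¬ IsMulCommutative (DihedralGroup 4) := by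
  intro h
  have := h.is_comm.comm (DihedralGroup.r 1) (DihedralGroup.sr 0)
  revert this
  decide

theorem quaternion_two_not_comm : ¬ IsMulCommutative (QuaternionGroup 2) := by
  intro h
  have := h.is_comm.comm (QuaternionGroup.a 1) (QuaternionGroup.xa 0)
  revert this
  decide

/-- Let S be a finite 2-group of sectional 2-rank at most 2 that contains a subgroup isomorphic to the dihedral group of order 8 or to the quaternion group of order 8. Then S is dihedral of order at least 8, semidihedral of order at least 16 (order 2^(k+4) with an element a of order 2^(k+3) and an involution b with b a b⁻¹ = a^(2^(k+2)−1)), or generalized quaternion of order at least 8. -/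
theorem result {S : Type*} [Group S] [Finite S] (h2 : IsPGroup 2 S) (hr : Cfsg.SectionalPRankLE 2 2 S)
    (hsub : ∃ H : Subgroup S, Nonempty (↥H ≃* DihedralGroup 4) ∨ Nonempty (↥H ≃* QuaternionGroup 2)) :
    ((∃ k : ℕ, Nonempty (S ≃* DihedralGroup (2 ^ (k + 2)))) ∨
      (∃ k : ℕ, Nat.card S = 2 ^ (k + 4) ∧ ∃ a b : S, orderOf a = 2 ^ (k + 3) ∧ orderOf b = 2 ∧ b * a * b⁻¹ = a ^ (2 ^ (k + 2) - 1)) ∨
      (∃ k : ℕ, Nonempty (S ≃* QuaternionGroup (2 ^ (k + 1))))) := by
  classical
  haveI : Fact (Nat.Prime 2) := ⟨Nat.prime_two⟩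
  obtain ⟨H, hH⟩ := hsub
  -- `H` is nonabelian of order 8
  have hHfacts : Nat.card H = 2 ^ 3 ∧ ¬ IsMulCommutative H := by
    rcases hH with ⟨⟨e⟩⟩ | ⟨⟨e⟩⟩
    · refine ⟨by rw [Nat.card_congr e.toEquiv, DihedralGroup.nat_card]; norm_num, ?_⟩
      intro h
      apply dihedral_four_not_comm
      refine ⟨⟨fun a b => ?_⟩⟩
      have := h.is_comm.comm (e.symm a) (e.symm b)
      rw [← map_mul, ← map_mul] at this
      exact e.symm.injective this
    · refine ⟨by rw [Nat.card_congr e.toEquiv, Nat.card_eq_fintype_card, QuaternionGroup.card]; norm_num, ?_⟩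
      intro h
      apply quaternion_two_not_comm
      refine ⟨⟨fun a b => ?_⟩⟩
      have := h.is_comm.comm (e.symm a) (e.symm b)
      rw [← map_mul, ← map_mul] at this
      exact e.symm.injective this
  obtain ⟨hHcard, hHna⟩ := hHfacts
  have hC := centralizer_le_of_sectional h2 hr H hHcard hHna
  obtain ⟨n, hn⟩ := h2.exists_card_eq
  obtain ⟨-, hidx⟩ := maxClass_of_self_centralizing_cube 2 n S hn H hHcard hHna hC
  have hidx4 : (commutator S).index = 4 := by rw [hidx]; norm_num
  have hxy : ∃ x y : S, x * y ≠ y * x := by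
    by_contra hcon
    push Not at hcon
    exact hHna ⟨⟨fun a b => Subtype.ext (hcon a b)⟩⟩
  have hab : Nat.card (Abelianization S) = 4 := by
    rw [← hidx4]; rfl
  have hexp : ∀ x : Abelianization S, x ^ 2 = 1 := by
    intro x
    obtain ⟨s, rfl⟩ := QuotientGroup.mk_surjective x
    change Abelianization.of s ^ 2 = 1
    rw [← map_pow]
    exact (QuotientGroup.eq_one_iff _).mpr (sq_mem_commutator h2 hidx4 hxy s)
  rcases Cfsg.Agent.S4399.result h2 hab hexp with h | h
  · exfalso
    have h1 := card_le_card_group H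
    rw [hHcard, h] at h1
    omega
  · exact h

end Cfsg.Agent.S4398
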