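import Mathlib
import Cfsg.Agent.S4398
import Cfsg.Agent.Lib.Helper16.UniqueInvolution
import Cfsg.Agent.Lib.Helper22.PPrimeCore
import Cfsg.Agent.Lib.Helper22.CyclicChain
import Cfsg.Agent.Lib.Helper22.MaxClass
import Cfsg.Statements.S3919
-- import your own Cfsg.Agent.* helpers here

set_option autoImplicit false
open Cfsg

namespace Cfsg.Agent.S3919

open Subgroup Cfsg.Agent.Helper22

universe u

theorem zmod_add_self_eq_zero {m : ℕ} [NeZero m] (i : ZMod (2 * m)) (h : i + i = 0) :
    i = 0 ∨ i = (m : ZMod (2 * m)) := by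
  have h1 : ((i.val + i.val : ℕ) : ZMod (2 * m)) = 0 := by
    push_cast
    rw [ZMod.natCast_zmod_val]
    exact h
  rw [ZMod.natCast_eq_zero_iff] at h1
  have hlt : i.val < 2 * m := ZMod.val_lt i
  obtain ⟨c, hc⟩ := h1
  have hc01 : c = 0 ∨ c = 1 := by
    rcases Nat.lt_or_ge c 2 with h2 | h2
    · omega
    · exfalso
      have : 2 * m * 2 ≤ 2 * m * c := Nat.mul_le_mul_left _ h2
      omega
  rcases hc01 with rfl | rfl
  · left
    have : i.val = 0 := by omega
    exact (ZMod.val_eq_zero i).mp this
  · right
    have h5 : i.val = m := by omega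
    have h6 : ((i.val : ℕ) : ZMod (2 * m)) = i := ZMod.natCast_zmod_val i
    rw [← h6, h5]

open QuaternionGroup in
theorem quaternion_centralizer (m : ℕ) [NeZero m] (q : QuaternionGroup m)
    (h : q * xa 0 = xa 0 * q) : q = a 0 ∨ q = a m ∨ q = xa 0 ∨ q = xa m := by
  cases q with
  | a i =>
    rw [a_mul_xa, xa_mul_a] at h
    have h1 : (0 : ZMod (2 * m)) - i = 0 + i := by simpa using h
    have h2 : i + i = 0 := by
      have : i + i = i + (0 + i) := by ring
      rw [this, ← h1]; ring
    rcases zmod_add_self_eq_zero i h2 with h3 | h3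
    · left; rw [h3]
    · right; left; rw [h3]
  | xa i =>
    rw [xa_mul_xa, xa_mul_xa] at h
    have h1 : (m : ZMod (2 * m)) + 0 - i = m + i - 0 := by simpa using h
    have h2 : i + i = 0 := by
      have : i + i = (m + i - 0) - (m + 0 - i) := by ring
      rw [this, ← h1]; ring
    rcases zmod_add_self_eq_zero i h2 with h3 | h3
    · right; right; left; rw [h3]
    · right; right; right; rw [h3]

open QuaternionGroup in
theorem card_centralizer_xa_le (m : ℕ) [NeZero m] :
    Nat.card (centralizer {(xa 0 : QuaternionGroup m)}) ≤ 4 := by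
  classical
  have hsub : ((centralizer {(xa 0 : QuaternionGroup m)} : Subgroup (QuaternionGroup m)) :
      Set (QuaternionGroup m)) ⊆
      (({a 0, a m, xa 0, xa m} : Finset (QuaternionGroup m)) : Set (QuaternionGroup m)) := by
    intro q hq
    have h1 : q * xa 0 = xa 0 * q := mem_centralizer_singleton_iff.mp hq
    have := quaternion_centralizer m q h1
    simp only [Finset.coe_insert, Finset.coe_singleton, Set.mem_insert_iff, Set.mem_singleton_iff]
    exact this
  calc Nat.card (centralizer {(xa 0 : QuaternionGroup m)})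
      ≤ Nat.card ↥(({a 0, a m, xa 0, xa m} : Finset (QuaternionGroup m)) :
          Set (QuaternionGroup m)) := Nat.card_mono (Finset.finite_toSet _) hsub
    _ = Finset.card ({a 0, a m, xa 0, xa m} : Finset (QuaternionGroup m)) := by
        rw [Nat.card_eq_fintype_card]; simp
    _ ≤ 4 := Finset.card_le_four

/-- quaternion groups have maximal class -/
theorem class_of_quaternion {G : Type u} [Group G] [Finite G] (n k : ℕ) (hG : Nat.card G = 2 ^ n)
    (e : G ≃* QuaternionGroup (2 ^ k)) : Group.nilpotencyClass G = n - 1 := by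
  haveI : Fact (Nat.Prime 2) := ⟨Nat.prime_two⟩
  have hn : 2 ≤ n := by
    have h1 : Nat.card G = 4 * 2 ^ k := by
      rw [Nat.card_congr e.toEquiv, Nat.card_eq_fintype_card, QuaternionGroup.card]
    rw [hG] at h1
    have h2 : 2 ^ n = 2 ^ (k + 2) := by rw [h1]; ring
    have := Nat.pow_right_injective (le_refl 2) h2
    omega
  set g0 : G := e.symm (QuaternionGroup.xa 0) with hg0
  have hcent : Nat.card (centralizer {g0}) ≤ 2 ^ 2 := by
    refine le_trans ?_ (card_centralizer_xa_le (2 ^ k))
    have hmem : ∀ h : centralizer {g0},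
        e (h : G) ∈ centralizer {(QuaternionGroup.xa 0 : QuaternionGroup (2 ^ k))} := by
      intro h
      rw [mem_centralizer_singleton_iff]
      have h1 : (h : G) * g0 = g0 * (h : G) := mem_centralizer_singleton_iff.mp h.2
      have h2 := congrArg e h1
      have h3 : e g0 = QuaternionGroup.xa 0 := by rw [hg0, MulEquiv.apply_symm_apply]
      rw [map_mul, map_mul, h3] at h2
      exact h2
    apply Nat.card_le_card_of_injective (fun h =>
      (⟨_, hmem h⟩ : centralizer {(QuaternionGroup.xa 0 : QuaternionGroup (2 ^ k))}))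
    intro x y hxy
    have := congrArg Subtype.val hxy
    exact Subtype.ext (e.injective this)
  exact (maxClass_of_card_centralizer_le 2 n hn G hG g0 hcent).1

theorem two_le_of_not_comm {G : Type u} [Group G] [Finite G] (hna : ¬ IsMulCommutative G) (n : ℕ)
    (hG : Nat.card G = 2 ^ n) : 3 ≤ n := by
  haveI : Fact (Nat.Prime 2) := ⟨Nat.prime_two⟩
  by_contra h
  push Not at h
  apply hna
  rcases (by omega : n = 0 ∨ n = 1 ∨ n = 2) with h0 | h0 | h0
  · rw [h0, pow_zero] at hG
    haveI : Subsingleton G := (Nat.card_eq_one_iff_unique.mp hG).1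
    exact ⟨⟨fun a b => Subsingleton.elim _ _⟩⟩
  · rw [h0, pow_one] at hG
    haveI : IsCyclic G := isCyclic_of_prime_card hG
    exact IsCyclic.isMulCommutative
  · rw [h0] at hG
    exact IsPGroup.isMulCommutative_of_card_eq_prime_sq hG

theorem normal_zpowers_of_mem_center {G : Type*} [Group G] (z : G) (hz : z ∈ center G) :
    (zpowers z).Normal := by
  refine ⟨fun m hm g => ?_⟩
  rw [mem_zpowers_iff] at hm
  obtain ⟨j, rfl⟩ := hm
  have hc : Commute g z := mem_center_iff.mp hz g
  have : g * z ^ j * g⁻¹ = z ^ j := by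
    rw [(hc.zpow_right j).eq]
    group
  rw [this]
  exact zpow_mem (mem_zpowers _) j

theorem forward {G : Type u} [Group G] [Finite G] (hna : ¬ IsMulCommutative G) (n : ℕ)
    (hG : Nat.card G = 2 ^ n)
    (hyp : ∀ H : Subgroup G, ¬ IsCyclic ↥H → centralizer (H : Set G) ≤ H) :
    Group.nilpotencyClass G = n - 1 := by
  classical
  haveI : Fact (Nat.Prime 2) := ⟨Nat.prime_two⟩
  have hP : IsPGroup 2 G := IsPGroup.of_card hG
  have hn3 : 3 ≤ n := two_le_of_not_comm hna n hG
  obtain ⟨z, hz⟩ : ∃ z : center G, orderOf z = 2 := by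
    apply exists_prime_orderOf_dvd_card' 2
    obtain ⟨k, hk0, hk⟩ := IsPGroup.card_center_eq_prime_pow hG (by omega)
    rw [hk]; exact dvd_pow_self 2 (by omega)
  have hzc : (z : G) ∈ center G := z.2
  have hzo : orderOf (z : G) = 2 := by rw [Subgroup.orderOf_coe]; exact hz
  by_cases hinv : ∃ t : G, orderOf t = 2 ∧ t ≠ (z : G)
  · obtain ⟨t, hto, htz⟩ := hinv
    haveI hNn : (zpowers (z : G)).Normal := normal_zpowers_of_mem_center _ hzc
    set A := zpowers t ⊔ zpowers (z : G) with hA
    have hAcard : Nat.card A ≤ 2 ^ 2 := by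
      have h1 := card_sup_dvd_mul (zpowers t) (zpowers (z : G))
      rw [Nat.card_zpowers, Nat.card_zpowers, hto, hzo] at h1
      exact Nat.le_of_dvd (by norm_num) h1
    have hAnc : ¬ IsCyclic A := by
      intro hc
      haveI := hc
      haveI : Fintype A := Fintype.ofFinite A
      have h1 := IsCyclic.card_pow_eq_one_le (α := A) (n := 2) (by norm_num)
      have htA : t ∈ A := mem_sup_left (mem_zpowers t)
      have hzA : (z : G) ∈ A := mem_sup_right (mem_zpowers _)
      have ht2 : t ^ 2 = 1 := by rw [← hto]; exact pow_orderOf_eq_one t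
      have hz2 : (z : G) ^ 2 = 1 := by rw [← hzo]; exact pow_orderOf_eq_one _
      have ht1 : t ≠ 1 := by
        intro h; rw [h, orderOf_one] at hto; omega
      have hz1 : (z : G) ≠ 1 := by
        intro h; rw [h, orderOf_one] at hzo; omega
      have h2 : ({1, ⟨t, htA⟩, ⟨(z : G), hzA⟩} : Finset A) ⊆
          Finset.univ.filter (fun a : A => a ^ 2 = 1) := by
        intro a ha
        simp only [Finset.mem_insert, Finset.mem_singleton] at ha
        simp only [Finset.mem_filter, Finset.mem_univ, true_and]
        rcases ha with rfl | rfl | rfl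
        · simp
        · ext; simpa using ht2
        · ext; simpa using hz2
      have h3 : ({1, ⟨t, htA⟩, ⟨(z : G), hzA⟩} : Finset A).card = 3 := by
        rw [Finset.card_eq_three]
        refine ⟨1, ⟨t, htA⟩, ⟨z, hzA⟩, ?_, ?_, ?_, rfl⟩
        · intro h; exact ht1 (congrArg Subtype.val h).symm
        · intro h; exact hz1 (congrArg Subtype.val h).symm
        · intro h; exact htz (congrArg Subtype.val h)
      have := Finset.card_le_card h2
      omega
    exact (maxClass_of_self_centralizing 2 n (by omega) G hG A hAcard (hyp A hAnc)).1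
  · push Not at hinv
    have huniq : Cfsg.Agent.Helper16.UniqueOrderP 2 G := by
      intro x y hx hy
      rw [hinv y hy, ← hinv x hx]; exact mem_zpowers x
    rcases Cfsg.Agent.Helper16.cyclic_or_quaternion_of_uniqueOrderP_two hP huniq with
      hc | ⟨k, ⟨e⟩⟩
    · haveI := hc
      exact absurd IsCyclic.isMulCommutative hna
    · exact class_of_quaternion n k hG e

theorem backward {G : Type u} [Group G] [Finite G] (hna : ¬ IsMulCommutative G) (n : ℕ)
    (hG : Nat.card G = 2 ^ n) (hclass : Group.nilpotencyClass G = n - 1) (H : Subgroup G)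
    (hH : ¬ IsCyclic H) : centralizer (H : Set G) ≤ H := by
  classical
  haveI : Fact (Nat.Prime 2) := ⟨Nat.prime_two⟩
  have hP : IsPGroup 2 G := IsPGroup.of_card hG
  have hn3 : 3 ≤ n := two_le_of_not_comm hna n hG
  obtain ⟨hidx, hZ⟩ := maxClass_facts 2 n (by omega) G hG hclass
  have hZcard : Nat.card (center G) = 2 := hZ hn3
  have hidx4 : (commutator G).index = 4 := by rw [hidx]; norm_num
  have hxy : ∃ x y : G, x * y ≠ y * x := by
    by_contra hcon
    push Not at hcon
    exact hna ⟨⟨hcon⟩⟩
  have hsq : ∀ s : G, s ^ 2 ∈ commutator G := Cfsg.Agent.S4398.sq_mem_commutator hP hidx4 hxy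
  obtain ⟨A, hA, hAi⟩ := Cfsg.Agent.S4399.exists_cyclic_index_two n hn3 G hG hidx4 hsq
  haveI hAn : A.Normal := normal_of_index_eq_two hAi
  -- the central involution
  obtain ⟨z, hz⟩ : ∃ z : center G, orderOf z = 2 := by
    apply exists_prime_orderOf_dvd_card' 2
    rw [hZcard]
  have hzc : (z : G) ∈ center G := z.2
  have hzo : orderOf (z : G) = 2 := by rw [Subgroup.orderOf_coe]; exact hz
  have hz1 : (z : G) ≠ 1 := by
    intro h; rw [h, orderOf_one] at hzo; omega
  have hZmem : ∀ y ∈ center G, y = 1 ∨ y = (z : G) := by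
    intro y hy
    have h1 : zpowers (z : G) = center G := by
      apply eq_of_le_of_card_ge (zpowers_le.mpr hzc)
      rw [hZcard, Nat.card_zpowers, hzo]
    rw [← h1, mem_zpowers_iff] at hy
    obtain ⟨i, rfl⟩ := hy
    rcases Int.emod_two_eq_zero_or_one i with h | h
    · left
      have : i = 2 * (i / 2) := by omega
      rw [this, zpow_mul, zpow_ofNat, ← hzo, pow_orderOf_eq_one, one_zpow]
    · right
      have : i = 2 * (i / 2) + 1 := by omega
      rw [this, zpow_add, zpow_mul, zpow_ofNat, ← hzo, pow_orderOf_eq_one, one_zpow, one_mul,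
        zpow_one]
  -- `A` is nontrivial, so it meets the centre
  have hAcard : Nat.card A * 2 = 2 ^ n := by
    have := A.card_mul_index
    rw [hAi, hG] at this
    exact this
  have hAne : A ≠ ⊥ := by
    intro h
    rw [h, card_bot] at hAcard
    have : 2 ^ 3 ≤ 2 ^ n := Nat.pow_le_pow_right (by norm_num) hn3
    omega
  have hzA : (z : G) ∈ A := by
    have h1 := Cfsg.Agent.Helper19.normal_inf_center_ne_bot hP A hAne
    obtain ⟨y, hy1⟩ := (Subgroup.ne_bot_iff_exists_ne_one).mp h1
    have hy' : (y : G) ∈ A ⊓ center G := y.2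
    rcases hZmem _ hy'.2 with h | h
    · exfalso; apply hy1; ext; exact h
    · rw [← h]; exact hy'.1
  have hAcomm : ∀ u ∈ A, ∀ v ∈ A, u * v = v * u := by
    intro u hu v hv
    haveI := hA
    have := (IsCyclic.isMulCommutative (α := A)).is_comm.comm ⟨u, hu⟩ ⟨v, hv⟩
    exact congrArg Subtype.val this
  -- an element of `H` outside `A`
  obtain ⟨g, hgH, hgA⟩ : ∃ g ∈ H, g ∉ A := by
    by_contra hcon
    push Not at hcon
    haveI := hA
    exact hH (Subgroup.isCyclic_of_le (show H ≤ A from hcon))
  -- elements of `A` commuting with `g` are central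
  have hCA : ∀ y ∈ A, y * g = g * y → y ∈ center G := by
    intro y hy hyg
    rw [mem_center_iff]
    intro w
    by_cases hw : w ∈ A
    · exact hAcomm w hw y hy
    · have h1 : w * g⁻¹ ∈ A := by
        rw [mul_mem_iff_of_index_two hAi, inv_mem_iff]
        exact ⟨fun h => absurd h hw, fun h => absurd h hgA⟩
      have h2 : (w * g⁻¹) * y = y * (w * g⁻¹) := hAcomm _ h1 y hy
      calc w * y = (w * g⁻¹) * (g * y) := by group
        _ = (w * g⁻¹) * (y * g) := by rw [hyg]
        _ = ((w * g⁻¹) * y) * g := by group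
        _ = (y * (w * g⁻¹)) * g := by rw [h2]
        _ = y * w := by group
  -- `z ∈ H`
  have hzH : (z : G) ∈ H := by
    obtain ⟨w, hwH, hwA, hw1⟩ : ∃ w ∈ H, w ∈ A ∧ w ≠ 1 := by
      by_cases hg2 : g ^ 2 = 1
      · obtain ⟨h, hhH, hhg⟩ : ∃ h ∈ H, h ∉ zpowers g := by
          by_contra hcon
          push Not at hcon
          apply hH
          have h1 : H = zpowers g := le_antisymm hcon (zpowers_le.mpr hgH)
          rw [h1]
          infer_instance
        by_cases hhA : h ∈ A
        · refine ⟨h, hhH, hhA, ?_⟩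
          rintro rfl
          exact hhg (one_mem _)
        · refine ⟨h * g⁻¹, mul_mem hhH (inv_mem hgH), ?_, ?_⟩
          · rw [mul_mem_iff_of_index_two hAi, inv_mem_iff]
            exact ⟨fun h' => absurd h' hhA, fun h' => absurd h' hgA⟩
          · intro h1
            apply hhg
            have : h = g := by
              calc h = (h * g⁻¹) * g := by group
                _ = g := by rw [h1, one_mul]
            rw [this]; exact mem_zpowers g
      · exact ⟨g ^ 2, pow_mem hgH 2, sq_mem_of_index_two hAi g, hg2⟩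
    rcases le_or_le_of_le_isCyclic_of_isPGroup A (hP.to_subgroup _) (zpowers w)
      (zpowers (z : G)) (zpowers_le.mpr hwA) (zpowers_le.mpr hzA) with h | h
    · have h1 : w ∈ zpowers (z : G) := h (mem_zpowers w)
      have h2 : w ∈ center G := (zpowers_le.mpr hzc) h1
      rcases hZmem w h2 with h3 | h3
      · exact absurd h3 hw1
      · rw [← h3]; exact hwH
    · exact (zpowers_le.mpr hwH) (h (mem_zpowers _))
  -- conclusion
  intro x hx
  have hxg : g * x = x * g := mem_centralizer_iff.mp hx g hgH
  by_cases hxA : x ∈ A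
  · rcases hZmem x (hCA x hxA hxg.symm) with h | h
    · rw [h]; exact one_mem _
    · rw [h]; exact hzH
  · have h1 : x * g⁻¹ ∈ A := by
      rw [mul_mem_iff_of_index_two hAi, inv_mem_iff]
      exact ⟨fun h => absurd h hxA, fun h => absurd h hgA⟩
    have h2 : (x * g⁻¹) * g = g * (x * g⁻¹) := by
      calc (x * g⁻¹) * g = x := by group
        _ = (g * x) * g⁻¹ := by rw [hxg]; group
        _ = g * (x * g⁻¹) := by group
    rcases hZmem _ (hCA _ h1 h2) with h | h
    · have : x = g := by
        calc x = (x * g⁻¹) * g := by group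
          _ = g := by rw [h, one_mul]
      rw [this]; exact hgH
    · have : x = (z : G) * g := by
        calc x = (x * g⁻¹) * g := by group
          _ = (z : G) * g := by rw [h]
      rw [this]; exact mul_mem hzH hgH

/-- Say that a group has self-centralizing non-cyclic subgroups when every non-cyclic subgroup H satisfies C_G(H) ≤ H. A finite non-abelian 2-group G of order 2^n has self-centralizing non-cyclic subgroups if and only if G has nilpotency class n − 1 (that is, G is dihedral, semidihedral or generalized quaternion). -/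
theorem result {G : Type*} [Group G] [Finite G] (hna : ¬ IsMulCommutative G) (n : ℕ) (hG : Nat.card G = 2 ^ n) :
    (∀ H : Subgroup G, ¬ IsCyclic ↥H → Subgroup.centralizer (H : Set G) ≤ H) ↔ (⊤ : Subgroup G).lowerCentralSeries (n - 2) ≠ ⊥ := by
  have hn3 : 3 ≤ n := two_le_of_not_comm hna n hG
  haveI : Fact (Nat.Prime 2) := ⟨Nat.prime_two⟩
  have hP : IsPGroup 2 G := IsPGroup.of_card hG
  haveI : Group.IsNilpotent G := hP.isNilpotent
  constructor
  · intro hyp
    have hc := forward hna n hG hyp
    rw [Ne, Subgroup.lowerCentralSeries_eq_bot_iff_nilpotencyClass_le, hc]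
    omega
  · intro hne H hH
    have h1 : ¬ Group.nilpotencyClass G ≤ n - 2 := by
      rw [← Subgroup.lowerCentralSeries_eq_bot_iff_nilpotencyClass_le]
      exact hne
    have h2 := Cfsg.Agent.S0063.result (G := G) 2 n hG (by omega)
    exact backward hna n hG (by omega) H hH

end Cfsg.Agent.S3919
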