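import Mathlib
import Cfsg.Statements.S0662
import Cfsg.Agent.S0663
import Cfsg.Agent.Lib.Helper23.PGroup
import Cfsg.Agent.Lib.Helper19.PGroupBasic

set_option autoImplicit false
open Cfsg
open scoped commutatorElement Pointwise

namespace Cfsg.Agent.S0662

open Subgroup Cfsg.Agent.S0663

variable {G : Type*} [Group G]

/-- the chain from the derived subgroup is the shifted lower central series -/
theorem iter_eq_lcs (i : ℕ) :
    iterCommutator ((⊤ : Subgroup G).lowerCentralSeries 1) ⊤ i =
      (⊤ : Subgroup G).lowerCentralSeries (i + 1) := by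
  induction i with
  | zero => rfl
  | succ i ih =>
    show ⁅iterCommutator ((⊤ : Subgroup G).lowerCentralSeries 1) ⊤ i, (⊤ : Subgroup G)⁆ = _
    rw [ih]; rfl

/-- lower bound for the order of the start of a long chain -/
theorem pow_le_card_iter [Finite G] {p : ℕ} [hp : Fact p.Prime] (N A : Subgroup G)
    (hN : IsPGroup p N) (hA : IsPGroup p A) (hAN : A ≤ normalizer (N : Set G)) :
    ∀ k j : ℕ, iterCommutator N A (j + k) ≠ ⊥ → p ^ (k + 1) ≤ Nat.card (iterCommutator N A j) := by
  intro k
  induction k with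
  | zero =>
    intro j hne
    rw [zero_add, pow_one]
    have hp' : IsPGroup p (iterCommutator N A j) := hN.to_le (iter_le N A hAN _)
    obtain ⟨a, ha⟩ := hp'.exists_card_eq
    rw [ha]
    have : a ≠ 0 := by
      intro h0
      rw [h0, pow_zero] at ha
      exact hne ((Subgroup.card_eq_one).1 ha)
    calc p = p ^ 1 := (pow_one p).symm
      _ ≤ p ^ a := Nat.pow_le_pow_right hp.out.pos (by omega)
  | succ k ih =>
    intro j hne
    have e : j + (k + 1) = (j + 1) + k := by omega
    rw [e] at hne
    have h1 := ih (j + 1) hne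
    have hj : iterCommutator N A j ≠ ⊥ := by
      intro h
      apply hne
      have := iter_antitone N A hAN (show j ≤ j + 1 + k by omega)
      rw [h] at this
      exact le_bot_iff.1 this
    have h2 := mul_card_le_of_lt (hN.to_le (iter_le N A hAN j))
      (commutator_lt_of_inv (hN.to_le (iter_le N A hAN j)) hA (iter_inv N A hAN j) hj)
    calc p ^ (k + 1 + 1) = p * p ^ (k + 1) := by ring
      _ ≤ p * Nat.card (iterCommutator N A (j + 1)) := Nat.mul_le_mul_left _ h1
      _ ≤ _ := h2

/-- In a finite `p`-group, a proper normal subgroup lies in a normal subgroup in which it has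
index `p`. -/
theorem exists_normal_above [Finite G] {p : ℕ} [hp : Fact p.Prime] (hG : IsPGroup p G)
    (N : Subgroup G) [N.Normal] (hN : N ≠ ⊤) :
    ∃ M : Subgroup G, M.Normal ∧ N ≤ M ∧ M.index * p = N.index := by
  have hQ : IsPGroup p (G ⧸ N) := hG.to_quotient N
  have hnt : Nontrivial (G ⧸ N) := by
    by_contra h
    rw [not_nontrivial_iff_subsingleton] at h
    apply hN
    rw [← Subgroup.index_eq_one, Subgroup.index_eq_card]
    exact Nat.card_eq_one_iff_unique.2 ⟨h, ⟨1⟩⟩
  have hC : Nontrivial (Subgroup.center (G ⧸ N)) := hQ.center_nontrivial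
  have hCp : IsPGroup p (Subgroup.center (G ⧸ N)) := hQ.to_subgroup _
  have hdvd : p ∣ Nat.card (Subgroup.center (G ⧸ N)) := by
    obtain ⟨k, hk0, hk⟩ := hCp.nontrivial_iff_card.1 hC
    rw [hk]; exact dvd_pow_self p (by omega)
  obtain ⟨z, hz⟩ := exists_prime_orderOf_dvd_card' p hdvd
  set Z₀ : Subgroup (G ⧸ N) := Subgroup.zpowers (z : G ⧸ N) with hZ₀
  have hZ₀c : Z₀ ≤ Subgroup.center (G ⧸ N) := by
    rw [hZ₀, Subgroup.zpowers_le]; exact z.2
  have hZ₀n : Z₀.Normal := by
    refine ⟨fun x hx g => ?_⟩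
    have h1 := Subgroup.mem_center_iff.1 (hZ₀c hx) g
    have h2 : g * x * g⁻¹ = x := by rw [h1]; group
    rw [h2]; exact hx
  have hZ₀card : Nat.card Z₀ = p := by
    rw [hZ₀, Nat.card_zpowers, Subgroup.orderOf_coe, hz]
  refine ⟨Z₀.comap (QuotientGroup.mk' N), inferInstance, ?_, ?_⟩
  · intro x hx
    rw [Subgroup.mem_comap, QuotientGroup.mk'_apply, (QuotientGroup.eq_one_iff x).2 hx]
    exact Subgroup.one_mem _
  · rw [Subgroup.index_comap_of_surjective _ (QuotientGroup.mk'_surjective N)]
    have := Subgroup.card_mul_index Z₀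
    rw [hZ₀card] at this
    rw [Subgroup.index_eq_card N, ← this, mul_comm]

section main

variable [Finite G] {p : ℕ} [hp : Fact p.Prime] (n : ℕ) (hG : Nat.card G = p ^ n)
  (hcl : Group.nilpotencyClass G = n - 1) (hn : 3 ≤ n)

include hG hcl hn

theorem lcs_ne_bot : (⊤ : Subgroup G).lowerCentralSeries (n - 2) ≠ ⊥ := by
  have hP : IsPGroup p G := IsPGroup.of_card hG
  have : Group.IsNilpotent G := hP.isNilpotent
  intro h
  rw [Subgroup.lowerCentralSeries_eq_bot_iff_nilpotencyClass_le] at h
  omega

omit hn in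
theorem lcs_eq_bot : (⊤ : Subgroup G).lowerCentralSeries (n - 1) = ⊥ := by
  have hP : IsPGroup p G := IsPGroup.of_card hG
  have : Group.IsNilpotent G := hP.isNilpotent
  rw [Subgroup.lowerCentralSeries_eq_bot_iff_nilpotencyClass_le]
  omega

/-- `G` is not generated by the derived subgroup and one element. -/
theorem sup_zpowers_ne_top (g : G) :
    (⊤ : Subgroup G).lowerCentralSeries 1 ⊔ Subgroup.zpowers g ≠ ⊤ := by
  have hP : IsPGroup p G := IsPGroup.of_card hG
  intro h
  have h1 : (⊤ : Subgroup G).lowerCentralSeries 1 ≤ frattini G := by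
    rw [Subgroup.top_lowerCentralSeries_one]
    exact Cfsg.Agent.Helper23.commutator_le_frattini_pgroup p hP
  have h2 : Subgroup.zpowers g ⊔ frattini G = ⊤ := by
    rw [eq_top_iff, ← h, sup_comm]
    exact sup_le_sup_left h1 _
  have h3 : Subgroup.zpowers g = ⊤ := frattini_nongenerating h2
  -- G is commutative
  have hcomm : ∀ a b : G, a * b = b * a := by
    intro a b
    have ha : a ∈ Subgroup.zpowers g := h3 ▸ Subgroup.mem_top a
    have hb : b ∈ Subgroup.zpowers g := h3 ▸ Subgroup.mem_top b
    obtain ⟨i, rfl⟩ := ha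
    obtain ⟨j, rfl⟩ := hb
    exact (Commute.zpow_zpow_self g i j).eq
  have h4 : (⊤ : Subgroup G).lowerCentralSeries 1 = ⊥ := by
    rw [Subgroup.top_lowerCentralSeries_one, commutator_eq_bot_iff]
    exact ⟨⟨hcomm⟩⟩
  have h5 := lcs_ne_bot n hG hcl hn
  apply h5
  have := Subgroup.lowerCentralSeries_antitone (S := (⊤ : Subgroup G)) (show 1 ≤ n - 2 by omega)
  rw [h4] at this
  exact le_bot_iff.1 this

/-- The derived subgroup has index `p²`. -/
theorem card_lcs_one : Nat.card ((⊤ : Subgroup G).lowerCentralSeries 1) = p ^ (n - 2) := by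
  have hP : IsPGroup p G := IsPGroup.of_card hG
  set D := (⊤ : Subgroup G).lowerCentralSeries 1 with hD
  have hDp : IsPGroup p D := hP.to_subgroup D
  have htop : (⊤ : Subgroup G) ≤ normalizer (D : Set G) := by
    have : D.Normal := by rw [hD]; infer_instance
    rw [Subgroup.normalizer_eq_top D]
  have hPt : IsPGroup p (⊤ : Subgroup G) := hP.to_subgroup _
  -- lower bound
  have hlow : p ^ (n - 2) ≤ Nat.card D := by
    have := pow_le_card_iter D ⊤ hDp hPt htop (n - 3) 0 (by
      rw [zero_add, iter_eq_lcs]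
      have e : n - 3 + 1 = n - 2 := by omega
      rw [e]
      exact lcs_ne_bot n hG hcl hn)
    have e : n - 3 + 1 = n - 2 := by omega
    rw [e] at this
    exact this
  -- upper bound: index at least p²
  obtain ⟨a, ha⟩ := hDp.exists_card_eq
  have hdvd : Nat.card D ∣ Nat.card G := Subgroup.card_subgroup_dvd_card D
  rw [ha] at hlow ⊢
  have han : a ≤ n := by
    rw [ha, hG] at hdvd
    exact (Nat.pow_dvd_pow_iff_le_right hp.out.one_lt).1 hdvd
  have h2 : n - 2 ≤ a := (Nat.pow_le_pow_iff_right hp.out.one_lt).1 hlow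
  have hidx : D.index = p ^ (n - a) := by
    have := Subgroup.card_mul_index D
    rw [ha, hG] at this
    have hpow : p ^ n = p ^ a * p ^ (n - a) := by rw [← pow_add]; congr 1; omega
    rw [hpow] at this
    exact Nat.eq_of_mul_eq_mul_left (pow_pos hp.out.pos a) this
  -- a ≠ n, a ≠ n - 1
  have hne_n : a ≠ n := by
    intro h
    have h1 : D.index = 1 := by rw [hidx, h, Nat.sub_self, pow_zero]
    have h2 : D = ⊤ := Subgroup.index_eq_one.1 h1
    apply sup_zpowers_ne_top n hG hcl hn (1 : G)
    rw [← hD, h2]; exact top_sup_eq _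
  have hne_n1 : a ≠ n - 1 := by
    intro h
    have h1 : D.index = p := by
      rw [hidx, h]
      have : n - (n - 1) = 1 := by omega
      rw [this, pow_one]
    obtain ⟨g, hg⟩ : ∃ g, g ∉ D := by
      by_contra hcon
      push Not at hcon
      have : D = ⊤ := eq_top_iff.2 (fun x _ => hcon x)
      rw [this, Subgroup.index_top] at h1
      exact hp.out.one_lt.ne h1
    apply sup_zpowers_ne_top n hG hcl hn g
    apply Cfsg.Agent.Helper19.eq_top_of_index_prime hp.out D _ h1 le_sup_left
    intro hle
    exact hg (hle ((le_sup_right : Subgroup.zpowers g ≤ _) (Subgroup.mem_zpowers g)))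
  have : a = n - 2 := by omega
  rw [this]

theorem cc_lcs : CC p ((⊤ : Subgroup G).lowerCentralSeries 1) ⊤ (n - 2) := by
  have hP : IsPGroup p G := IsPGroup.of_card hG
  set D := (⊤ : Subgroup G).lowerCentralSeries 1 with hD
  have hDp : IsPGroup p D := hP.to_subgroup D
  have htop : (⊤ : Subgroup G) ≤ normalizer (D : Set G) := by
    have : D.Normal := by rw [hD]; infer_instance
    rw [Subgroup.normalizer_eq_top D]
  have hPt : IsPGroup p (⊤ : Subgroup G) := hP.to_subgroup _
  apply long_cc D ⊤ hDp hPt htop (n - 2) (card_lcs_one n hG hcl hn) (by omega)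
  rw [iter_eq_lcs]
  have e : n - 2 - 1 + 1 = n - 2 := by omega
  rw [e]
  exact lcs_ne_bot n hG hcl hn

theorem card_lcs (i : ℕ) (hi : i ≤ n - 2) :
    Nat.card ((⊤ : Subgroup G).lowerCentralSeries (i + 1)) = p ^ (n - 2 - i) := by
  have := cc_lcs n hG hcl hn i hi
  rwa [iter_eq_lcs] at this

/-- normal subgroups inside the derived subgroup -/
theorem classify_le (N : Subgroup G) [N.Normal]
    (hND : N ≤ (⊤ : Subgroup G).lowerCentralSeries 1) :
    ∃ i ≤ n - 2, N = (⊤ : Subgroup G).lowerCentralSeries (i + 1) := by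
  have hP : IsPGroup p G := IsPGroup.of_card hG
  set D := (⊤ : Subgroup G).lowerCentralSeries 1 with hD
  have hDp : IsPGroup p D := hP.to_subgroup D
  have htop : (⊤ : Subgroup G) ≤ normalizer (D : Set G) := by
    have : D.Normal := by rw [hD]; infer_instance
    rw [Subgroup.normalizer_eq_top D]
  have hPt : IsPGroup p (⊤ : Subgroup G) := hP.to_subgroup _
  have hNt : (⊤ : Subgroup G) ≤ normalizer (N : Set G) := by
    rw [Subgroup.normalizer_eq_top N]
  obtain ⟨i, hi, h⟩ := cc_classify D ⊤ hDp hPt htop (n - 2) (cc_lcs n hG hcl hn) N hND hNt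
  refine ⟨i, hi, ?_⟩
  rw [h, iter_eq_lcs]

theorem part_a : ∀ (r : ℕ), 2 ≤ r → ∀ (N : Subgroup G) [N.Normal], N.index = p ^ r →
    N = (⊤ : Subgroup G).lowerCentralSeries (r - 1) := by
  have hP : IsPGroup p G := IsPGroup.of_card hG
  intro r hr
  induction r, hr using Nat.le_induction with
  | base =>
    intro N hNn hidx
    -- the quotient is commutative
    have hQ : Nat.card (G ⧸ N) = p ^ 2 := by rw [← Subgroup.index_eq_card]; exact hidx
    have hcomm : IsMulCommutative (G ⧸ N) :=
      IsPGroup.isMulCommutative_of_card_eq_prime_sq hQ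
    have hle : commutator G ≤ N :=
      (Subgroup.Normal.quotient_commutative_iff_commutator_le).1 hcomm
    rw [← Subgroup.top_lowerCentralSeries_one] at hle
    symm
    apply Subgroup.eq_of_le_of_card_ge hle
    have h1 := Subgroup.card_mul_index N
    rw [hidx, hG] at h1
    have hpow : p ^ n = p ^ (n - 2) * p ^ 2 := by rw [← pow_add]; congr 1; omega
    rw [hpow] at h1
    have := Nat.eq_of_mul_eq_mul_right (pow_pos hp.out.pos 2) h1
    rw [this, card_lcs_one n hG hcl hn]
  | succ r hr ih =>
    intro N hNn hidx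
    have hNtop : N ≠ ⊤ := by
      intro h
      rw [h, Subgroup.index_top] at hidx
      have : 1 < p ^ (r + 1) := Nat.one_lt_pow (by omega) hp.out.one_lt
      omega
    obtain ⟨M, hMn, hNM, hMidx⟩ := exists_normal_above hP N hNtop
    have hMidx' : M.index = p ^ r := by
      rw [hidx, pow_succ] at hMidx
      exact Nat.eq_of_mul_eq_mul_right hp.out.pos hMidx
    have hM := ih M hMidx'
    have hND : N ≤ (⊤ : Subgroup G).lowerCentralSeries 1 := by
      refine hNM.trans ?_
      rw [hM]
      exact Subgroup.lowerCentralSeries_antitone (S := (⊤ : Subgroup G)) (by omega)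
    obtain ⟨i, hi, hNi⟩ := classify_le n hG hcl hn N hND
    -- compare orders
    have h1 := Subgroup.card_mul_index N
    rw [hidx, hG, hNi, card_lcs n hG hcl hn i hi] at h1
    have h2 : n - 2 - i + (r + 1) = n :=
      Nat.pow_right_injective hp.out.two_le (by simpa [pow_add] using h1)
    have : i + 1 = r + 1 - 1 := by omega
    rw [hNi, this]

theorem part_b : Nat.card {N : Subgroup G // N.Normal ∧ N.index = p} = p + 1 := by
  classical
  have hP : IsPGroup p G := IsPGroup.of_card hG
  set D := (⊤ : Subgroup G).lowerCentralSeries 1 with hD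
  have hDcard : Nat.card D = p ^ (n - 2) := card_lcs_one n hG hcl hn
  have hDcomm : D = commutator G := Subgroup.top_lowerCentralSeries_one
  -- members contain D and have order p^(n-1)
  have hDle : ∀ M : {N : Subgroup G // N.Normal ∧ N.index = p}, D ≤ M.1 := by
    intro M
    have hMn : M.1.Normal := M.2.1
    rw [hDcomm, ← Subgroup.Normal.quotient_commutative_iff_commutator_le]
    have hQ : Nat.card (G ⧸ M.1) ∣ p ^ 2 := by
      rw [← Subgroup.index_eq_card, M.2.2]; exact dvd_pow_self p (by norm_num)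
    exact ⟨⟨Cfsg.Agent.Helper19.commutative_of_card_dvd_prime_sq hQ⟩⟩
  have hpow1 : p ^ n = p ^ (n - 1) * p := by rw [← pow_succ]; congr 1; omega
  have hpow2 : p ^ (n - 1) = p * p ^ (n - 2) := by rw [← pow_succ']; congr 1; omega
  have hMcard : ∀ M : {N : Subgroup G // N.Normal ∧ N.index = p}, Nat.card M.1 = p ^ (n - 1) := by
    intro M
    have := Subgroup.card_mul_index M.1
    rw [M.2.2, hG, hpow1] at this
    exact Nat.eq_of_mul_eq_mul_right hp.out.pos this
  -- generated subgroups
  have hgencard : ∀ g : G, g ∉ D → Nat.card (D ⊔ Subgroup.zpowers g : Subgroup G) = p ^ (n - 1) := by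
    intro g hg
    set X := D ⊔ Subgroup.zpowers g with hX
    have hXp : IsPGroup p X := hP.to_subgroup X
    have hlt1 : D < X := by
      refine lt_of_le_of_ne le_sup_left ?_
      intro h
      apply hg
      rw [h]
      exact (le_sup_right : Subgroup.zpowers g ≤ _) (Subgroup.mem_zpowers g)
    have hlt2 : X < ⊤ := lt_top_iff_ne_top.2 (sup_zpowers_ne_top n hG hcl hn g)
    have h1 := mul_card_le_of_lt hXp hlt1
    have h2 := mul_card_le_of_lt (hP.to_subgroup ⊤) hlt2
    rw [Subgroup.card_top, hG, hpow1] at h2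
    rw [hDcard, ← hpow2] at h1
    have h3 : Nat.card X ≤ p ^ (n - 1) := by
      rw [mul_comm] at h2
      exact Nat.le_of_mul_le_mul_right h2 hp.out.pos
    exact le_antisymm h3 h1
  have hgen : ∀ g : G, g ∉ D → (D ⊔ Subgroup.zpowers g : Subgroup G).Normal ∧
      (D ⊔ Subgroup.zpowers g : Subgroup G).index = p := by
    intro g hg
    have hcl' : commutator G ≤ D ⊔ Subgroup.zpowers g := by
      rw [← hDcomm]; exact le_sup_left
    refine ⟨Subgroup.Normal.of_commutator_le G hcl', ?_⟩
    have := Subgroup.card_mul_index (D ⊔ Subgroup.zpowers g : Subgroup G)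
    rw [hgencard g hg, hG, hpow1] at this
    exact Nat.eq_of_mul_eq_mul_left (pow_pos hp.out.pos _) this
  have hBeq : ∀ (M : {N : Subgroup G // N.Normal ∧ N.index = p}) (g : G),
      g ∈ M.1 → g ∉ D → M.1 = D ⊔ Subgroup.zpowers g := by
    intro M g hgM hgD
    symm
    apply Subgroup.eq_of_le_of_card_ge (sup_le (hDle M) ((Subgroup.zpowers_le).2 hgM))
    rw [hMcard M, hgencard g hgD]
  let F : (Σ M : {N : Subgroup G // N.Normal ∧ N.index = p},
      ↥((M.1 : Set G) \ (D : Set G))) → ↥((D : Set G)ᶜ) := fun y => ⟨y.2.1, y.2.2.2⟩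
  have hFbij : Function.Bijective F := by
    constructor
    · rintro ⟨M, g, hg1, hg2⟩ ⟨M', g', hg1', hg2'⟩ h
      have hgg : g = g' := congrArg Subtype.val h
      subst hgg
      have hMM : M = M' := by
        apply Subtype.ext
        rw [hBeq M g hg1 hg2, hBeq M' g hg1' hg2']
      subst hMM
      rfl
    · rintro ⟨g, hg⟩
      have hg' : g ∉ D := hg
      refine ⟨⟨⟨D ⊔ Subgroup.zpowers g, hgen g hg'⟩, ⟨g, ?_, hg'⟩⟩, rfl⟩
      exact (le_sup_right : Subgroup.zpowers g ≤ _) (Subgroup.mem_zpowers g)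
  have hcardeq := Nat.card_congr (Equiv.ofBijective F hFbij)
  have : Fintype {N : Subgroup G // N.Normal ∧ N.index = p} := Fintype.ofFinite _
  rw [Nat.card_sigma] at hcardeq
  obtain ⟨s, rfl⟩ : ∃ s, p = s + 1 := ⟨p - 1, by have := hp.out.two_le; omega⟩
  have hs : 1 ≤ s := by have := hp.out.two_le; omega
  set q := (s + 1) ^ (n - 2) with hq
  have hqpos : 0 < q := pow_pos (by omega) _
  have hfib : ∀ M : {N : Subgroup G // N.Normal ∧ N.index = s + 1},
      Nat.card ↥((M.1 : Set G) \ (D : Set G)) = s * q := by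
    intro M
    have h1 := Set.ncard_sdiff_add_ncard_of_subset (s := (D : Set G)) (t := (M.1 : Set G)) (hDle M)
    rw [Nat.card_coe_set_eq]
    have h3 : (M.1 : Set G).ncard = Nat.card M.1 := (Nat.card_coe_set_eq _).symm
    have h4 : (D : Set G).ncard = q := by rw [← hDcard]; exact (Nat.card_coe_set_eq _).symm
    rw [h3, h4, hMcard M, hpow2] at h1
    nlinarith
  have hcompl : Nat.card ↥((D : Set G)ᶜ) + q = (s + 1) * ((s + 1) * q) := by
    have h1 := Set.ncard_add_ncard_compl (D : Set G)
    have h4 : (D : Set G).ncard = q := by rw [← hDcard]; exact (Nat.card_coe_set_eq _).symm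
    rw [Nat.card_coe_set_eq]
    rw [h4, hG, hpow1, hpow2] at h1
    nlinarith
  rw [Finset.sum_congr rfl (fun M _ => hfib M), Finset.sum_const, Finset.card_univ,
    smul_eq_mul, ← Nat.card_eq_fintype_card] at hcardeq
  rw [← hcardeq] at hcompl
  have h5 : Nat.card {N : Subgroup G // N.Normal ∧ N.index = s + 1} * (s * q) =
      (s + 2) * (s * q) := by nlinarith
  have h6 := Nat.eq_of_mul_eq_mul_right (Nat.mul_pos hs hqpos) h5
  rw [h6]

end main

/-- In a p-group of maximal class of order at least p³ the normal subgroups of index at least p² are exactly the terms of the lower central series, and there are exactly p + 1 normal subgroups of index p. -/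
theorem result {G : Type*} [Group G] [Finite G] {p : ℕ} [Fact p.Prime] (n : ℕ) (hG : Nat.card G = p ^ n) (hcl : Group.nilpotencyClass G = n - 1) (hn : 3 ≤ n) : (∀ (N : Subgroup G) [N.Normal] (r : ℕ), 2 ≤ r → N.index = p ^ r → N = (⊤ : Subgroup G).lowerCentralSeries (r - 1)) ∧ Nat.card {N : Subgroup G // N.Normal ∧ N.index = p} = p + 1 := by
  refine ⟨?_, part_b n hG hcl hn⟩
  intro N hN r hr hidx
  exact part_a n hG hcl hn r hr N hidx

end Cfsg.Agent.S0662
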