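import Mathlib
import Cfsg.Statements.S0643
import Cfsg.Agent.Lib.Helper4.RegularP

set_option autoImplicit false
open Cfsg

namespace Cfsg.Agent.S0643

open Cfsg.Agent.Helper4.RegP

/-- Kemhadze's criterion: a finite p-group is regular exactly when (ab)^p = a^p b^p c^p always holds for some c in the derived subgroup of the subgroup generated by a and b. -/
theorem result {G : Type*} [Group G] [Finite G] {p : ℕ} [Fact p.Prime] (hG : IsPGroup p G) : Cfsg.IsRegularPGroup p G ↔ ∀ a b : G, ∃ c ∈ ⁅Subgroup.closure ({a, b} : Set G), Subgroup.closure ({a, b} : Set G)⁆, (a * b) ^ p = a ^ p * b ^ p * c ^ p := by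
  constructor
  · rintro ⟨_, hreg⟩ a b
    have hP : Pn p 1 G := fun a b => hreg a b 1
    obtain ⟨c, hc, hab⟩ := hreg a b 1
    obtain ⟨d, hd, rfl⟩ := exists_pow_eq_of_mem hG 1 hP _ hc
    refine ⟨d, hd, ?_⟩
    simpa using hab
  · intro h
    refine ⟨hG, ?_⟩
    have h1 : Pn p 1 G := by
      intro a b
      obtain ⟨c, hc, hab⟩ := h a b
      refine ⟨c ^ p, ?_, ?_⟩
      · have := pow_mem_powerClosure p 1 hc
        rwa [pow_one] at this
      · rw [pow_one]; exact hab
    intro a b n
    exact Pn_all hG h1 n a b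

end Cfsg.Agent.S0643
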