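import Mathlib
import Cfsg.Statements.S4209
import Cfsg.Agent.Lib.Helper4.RegularP
import Cfsg.Agent.Lib.Helper21.PolySeq

set_option autoImplicit false
open Cfsg
namespace Cfsg.Agent.S4209

open scoped commutatorElement

/-- A finite `p`-group of nilpotency class less than `p` (the term of index `p - 1` of the lower central series of the whole group, indexed from `0`, is trivial) is a regular `p`-group. -/
theorem result {G : Type*} [Group G] [Finite G] {p : ℕ} [Fact p.Prime] (hG : IsPGroup p G) (hcl : (⊤ : Subgroup G).lowerCentralSeries (p - 1) = ⊥) : Cfsg.IsRegularPGroup p G := by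
  have hp : p.Prime := Fact.out
  refine ⟨hG, ?_⟩
  have h1 : Cfsg.Agent.Helper4.RegP.Pn p 1 G := by
    intro a b
    set H := Subgroup.closure ({a, b} : Set G) with hH
    have haH : a ∈ H := Subgroup.subset_closure (Set.mem_insert _ _)
    have hbH : b ∈ H := Subgroup.subset_closure (Set.mem_insert_of_mem _ rfl)
    -- the class of `H` is less than `p`
    have hclH : (⊤ : Subgroup H).lowerCentralSeries (p - 1) = ⊥ := by
      have h2 := Subgroup.lowerCentralSeries_map_subtype_le H (p - 1)
      rw [hcl, le_bot_iff, Subgroup.map_eq_bot_iff_of_injective _ H.subtype_injective] at h2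
      exact h2
    have h3 := Cfsg.Agent.Helper21.PolySeq.weak_hall_petrescu hp hclH
      (⟨a, haH⟩ : H) (⟨b, hbH⟩ : H)
    -- transport to `G`
    have h4 : (Subgroup.closure {y : H | ∃ x ∈ commutator H, y = x ^ p}).map H.subtype ≤
        Cfsg.powerClosure p 1 ⁅H, H⁆ := by
      rw [Subgroup.map_le_iff_le_comap, Subgroup.closure_le]
      rintro y ⟨x, hx, rfl⟩
      rw [SetLike.mem_coe, Subgroup.mem_comap]
      refine Subgroup.subset_closure ⟨(x : G), ?_, ?_⟩
      · rw [← Subgroup.map_subtype_commutator]
        exact Subgroup.mem_map_of_mem _ hx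
      · simp
    have h5 := h4 (Subgroup.mem_map_of_mem _ h3)
    refine ⟨(b⁻¹) ^ p * (a⁻¹) ^ p * (a * b) ^ p, ?_, ?_⟩
    · simpa using h5
    · rw [pow_one]
      simp only [inv_pow]
      group
  intro a b n
  exact Cfsg.Agent.Helper4.RegP.Pn_all hG h1 n a b

end Cfsg.Agent.S4209
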