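import Mathlib
import Cfsg.Statements.S5093
import Cfsg.Agent.S5092
import Cfsg.Agent.Lib.Helper25.FusionSubSys
import Cfsg.Agent.Lib.Helper23.PGroup

set_option autoImplicit false
open Cfsg

namespace Cfsg.Agent.S5093

open Cfsg.FusionSystem Cfsg.Agent.Helper25
open scoped commutatorElement

/-- `O^p(K) = K` for `K = O^p(G)`. -/
theorem pResidual_pResidual (p : ℕ) (G : Type*) [Group G] : pResidual p ↥(pResidual p G) = ⊤ := by
  have h := Subgroup.closure_closure_coe_preimage (k := {g : G | Nat.Coprime (orderOf g) p})
  unfold pResidual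
  rw [eq_top_iff, ← h]
  apply Subgroup.closure_mono
  intro g hg
  show Nat.Coprime (orderOf g) p
  rw [← Subgroup.orderOf_coe]
  exact hg

/-- In a group generated by `p'`-elements, the Sylow `p`-subgroups lie in the derived subgroup. -/
theorem sylow_le_commutator_of_pResidual_eq_top {K : Type*} [Group K] {p : ℕ} [Fact p.Prime]
    (hK : pResidual p K = ⊤) (R : Subgroup K) (hR : IsPGroup p R) : R ≤ commutator K := by
  have hp : p.Prime := Fact.out
  have hall : ∀ a : Abelianization K, Nat.Coprime (orderOf a) p := by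
    intro a
    obtain ⟨g, hga⟩ : ∃ g, Abelianization.of g = a := QuotientGroup.mk_surjective a
    subst hga
    have hg : g ∈ pResidual p K := hK ▸ Subgroup.mem_top g
    unfold pResidual at hg
    induction hg using Subgroup.closure_induction with
    | mem x hx =>
      exact Nat.Coprime.coprime_dvd_left (orderOf_map_dvd Abelianization.of x) hx
    | one => rw [map_one, orderOf_one]; exact Nat.coprime_one_left p
    | mul a b _ _ ha hb =>
      rw [map_mul]
      have h1 := (Commute.all (Abelianization.of a) (Abelianization.of b)).orderOf_mul_dvd_lcm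
      have h2 : Nat.lcm (orderOf (Abelianization.of a)) (orderOf (Abelianization.of b)) ∣
          orderOf (Abelianization.of a) * orderOf (Abelianization.of b) := Nat.lcm_dvd_mul _ _
      exact Nat.Coprime.coprime_dvd_left (h1.trans h2) (Nat.Coprime.mul_left ha hb)
    | inv a _ ha =>
      rw [map_inv, orderOf_inv]; exact ha
  intro r hr
  obtain ⟨k, hk⟩ := hR ⟨r, hr⟩
  have hrk : r ^ p ^ k = 1 := by
    have := congrArg Subtype.val hk
    simpa using this
  have h1 : orderOf (Abelianization.of r) ∣ p ^ k := by
    apply orderOf_dvd_of_pow_eq_one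
    rw [← map_pow, hrk, map_one]
  have h2 : orderOf (Abelianization.of r) = 1 :=
    Nat.Coprime.eq_one_of_dvd (Nat.Coprime.pow_right k (hall _)) h1
  rw [orderOf_eq_one_iff] at h2
  rw [← Abelianization.ker_of]
  exact h2

/-- Hyperfocal subgroup Theorem: for a finite group G with Sylow p-subgroup S, the hyperfocal subgroup of the fusion system of G on S equals S ∩ O^p(G), where O^p(G) is the subgroup generated by the elements of order prime to p. -/
theorem result {G : Type*} [Group G] [Finite G] (p : ℕ) [Fact p.Prime] (S : Sylow p G) : (Cfsg.groupFusionSystem (S : Subgroup G)).hyperfocalSubgroup p = (S : Subgroup G) ⊓ Cfsg.pResidual p G := by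
  have hp : p.Prime := Fact.out
  have hKn : (pResidual p G).Normal := pResidual_normal' p G
  apply le_antisymm
  · apply le_inf (hyperfocalSubgroup_le _ p)
    unfold FusionSystem.hyperfocalSubgroup
    rw [Subgroup.closure_le]
    rintro _ ⟨P, ν, x, hPS, hν, rfl⟩
    revert x
    unfold pResidual at hν
    induction hν using Subgroup.closure_induction with
    | mem ν hν =>
      intro x
      have hν : Nat.Coprime (orderOf ν) p := hν
      obtain ⟨-, -, g, hg⟩ := (mem_autGroup_iff _ hPS ν.1).mp ν.2
      have hg' : ∀ x : P, ((ν.1 x : P) : G) = g * x * g⁻¹ := fun x => hg x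
      have hpow : ∀ n : ℕ, ∀ x : P, (((ν.1 ^ n) x : P) : G) = g ^ n * (x : G) * (g ^ n)⁻¹ := by
        intro n
        induction n with
        | zero => intro x; simp
        | succ n ih =>
          intro x
          rw [pow_succ', MulAut.mul_apply, hg', ih, pow_succ']
          simp [mul_assoc]
      obtain ⟨k, hk⟩ := exists_pow_mem_pResidual' p g
      have hord : orderOf ν.1 = orderOf ν := Subgroup.orderOf_coe ν
      have hcop : Nat.Coprime (p ^ k) (orderOf ν.1) := by
        rw [hord]; exact (Nat.Coprime.pow_right k hν).symm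
      -- ν = c_h with h ∈ K
      obtain ⟨h, hhK, hh⟩ : ∃ h ∈ pResidual p G, ∀ x : P, ((ν.1 x : P) : G) = h * x * h⁻¹ := by
        by_cases h1 : orderOf ν.1 = 1
        · rw [orderOf_eq_one_iff] at h1
          exact ⟨1, Subgroup.one_mem _, fun x => by rw [h1]; simp⟩
        · have hpos : 0 < orderOf ν.1 := by
            rw [hord]
            exact Nat.pos_of_ne_zero (fun h0 => by
              rw [h0] at hν
              exact hp.ne_one ((Nat.coprime_zero_left p).mp hν))
          have hlt : 1 < orderOf ν.1 := by omega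
          obtain ⟨j, -, hj⟩ := Nat.exists_mul_mod_eq_one_of_coprime hcop hlt
          refine ⟨(g ^ p ^ k) ^ j, Subgroup.pow_mem _ hk j, fun x => ?_⟩
          have h2 : ν.1 ^ (p ^ k * j) = ν.1 := by
            rw [← pow_mod_orderOf, hj, pow_one]
          rw [← pow_mul, ← hpow, h2]
      rw [hh x]
      have h3 : (x : G)⁻¹ * h * (x : G)⁻¹⁻¹ ∈ pResidual p G := hKn.conj_mem h hhK (x : G)⁻¹
      rw [inv_inv] at h3
      have : (x : G)⁻¹ * (h * (x : G) * h⁻¹) = ((x : G)⁻¹ * h * (x : G)) * h⁻¹ := by group
      rw [this]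
      exact Subgroup.mul_mem _ h3 (Subgroup.inv_mem _ hhK)
    | one => intro x; simp
    | mul a b _ _ ha hb =>
      intro x
      have h1 := hb x
      have h2 := ha ((b : MulAut P) x)
      have : (x : G)⁻¹ * ((((a * b : ↥((groupFusionSystem (S : Subgroup G)).autGroup P)) : MulAut P) x : P) : G) =
          ((x : G)⁻¹ * (((b : MulAut P) x : P) : G)) *
            ((((b : MulAut P) x : P) : G)⁻¹ * (((a : MulAut P) ((b : MulAut P) x) : P) : G)) := by
        rw [Subgroup.coe_mul, MulAut.mul_apply]; group
      rw [this]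
      exact Subgroup.mul_mem _ h1 h2
    | inv a _ ha =>
      intro x
      have h1 := ha ((a : MulAut P)⁻¹ x)
      rw [MulAut.apply_inv_self] at h1
      have : (x : G)⁻¹ * ((((a⁻¹ : ↥((groupFusionSystem (S : Subgroup G)).autGroup P)) : MulAut P) x : P) : G) =
          ((((a : MulAut P)⁻¹ x : P) : G)⁻¹ * (x : G))⁻¹ := by
        rw [Subgroup.coe_inv]; group
      rw [this]
      exact Subgroup.inv_mem _ h1
  · -- the hard direction
    have hsyl : IsSylowIn p ((S : Subgroup G) ⊓ pResidual p G) (pResidual p G) :=
      (isSylowIn_top_of_sylow S).inf_of_normal le_top (fun n _ => by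
        apply le_antisymm
        · intro y hy
          rw [mem_conjBy] at hy
          have := hKn.conj_mem _ hy n
          simpa [mul_assoc] using this
        · intro y hy
          rw [mem_conjBy]
          have := hKn.conj_mem _ hy n⁻¹
          simpa [mul_assoc] using this)
    have hT'p : IsPGroup p ↥((S : Subgroup G) ⊓ pResidual p G) := S.isPGroup'.to_le inf_le_left
    have hF'sat := fusionSystemOfSubgroup_isSaturated hsyl
    obtain ⟨F', hF'def⟩ : ∃ F' : FusionSystem ((S : Subgroup G) ⊓ pResidual p G),
        F' = fusionSystemOfSubgroup (pResidual p G) ((S : Subgroup G) ⊓ pResidual p G) hsyl.le :=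
      ⟨_, rfl⟩
    rw [← hF'def] at hF'sat
    have hF'mem : ∀ {P : Subgroup G} {φ : P →* G}, φ ∈ F'.Hom P ↔
        P ≤ (S : Subgroup G) ⊓ pResidual p G ∧ (∀ x : P, φ x ∈ (S : Subgroup G) ⊓ pResidual p G) ∧
          ∃ g ∈ pResidual p G, ∀ x : P, φ x = g * (x : G) * g⁻¹ := by
      intro P φ; rw [hF'def]; exact Iff.rfl
    -- focal subgroup theorem in K
    obtain ⟨R, hR⟩ := (isSylowIn_iff_exists_sylow hsyl.le).mp hsyl
    have hRcomm : (R : Subgroup ↥(pResidual p G)) ≤ commutator ↥(pResidual p G) :=
      sylow_le_commutator_of_pResidual_eq_top (pResidual_pResidual p G) _ R.isPGroup'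
    have hfst := Subgroup.commutator_inf_eq_focalSubgroup R
    rw [inf_eq_right.mpr hRcomm] at hfst
    have hfoc : (S : Subgroup G) ⊓ pResidual p G ≤ F'.focalSubgroup := by
      intro t ht
      have htR : (⟨t, ht.2⟩ : ↥(pResidual p G)) ∈ (R : Subgroup ↥(pResidual p G)) := by
        rw [hR, Subgroup.mem_subgroupOf]; exact ht
      rw [hfst, Subgroup.focalSubgroup_def] at htR
      have key : ∀ y : ↥(pResidual p G), y ∈ Subgroup.closure {g : ↥(pResidual p G) |
          g ∈ (R : Subgroup ↥(pResidual p G)) ∧ ∃ x ∈ (R : Subgroup ↥(pResidual p G)),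
            ∃ u : ↥(pResidual p G), g = ⁅x, u⁆} → (y : G) ∈ F'.focalSubgroup := by
        intro y hy
        induction hy using Subgroup.closure_induction with
        | mem g hg =>
          obtain ⟨hgR, x, hxR, u, rfl⟩ := hg
          have hxT : (x : G) ∈ (S : Subgroup G) ⊓ pResidual p G := by
            rw [hR, Subgroup.mem_subgroupOf] at hxR; exact hxR
          have hgT : ((⁅x, u⁆ : ↥(pResidual p G)) : G) ∈ (S : Subgroup G) ⊓ pResidual p G := by
            rw [hR, Subgroup.mem_subgroupOf] at hgR; exact hgR
          have hcoe : ((⁅x, u⁆ : ↥(pResidual p G)) : G) = (x : G) * u * (x : G)⁻¹ * (u : G)⁻¹ := by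
            rw [commutatorElement_def]; simp
          -- u x⁻¹ u⁻¹ ∈ T'
          have hux : (u : G) * (x : G)⁻¹ * (u : G)⁻¹ ∈ (S : Subgroup G) ⊓ pResidual p G := by
            have := Subgroup.mul_mem _ (Subgroup.inv_mem _ hxT) hgT
            rw [hcoe] at this
            have e : (x : G)⁻¹ * ((x : G) * u * (x : G)⁻¹ * (u : G)⁻¹) = (u : G) * (x : G)⁻¹ * (u : G)⁻¹ := by
              group
            rwa [e] at this
          have hPle : Subgroup.zpowers ((x : G)⁻¹) ≤ (S : Subgroup G) ⊓ pResidual p G := by
            rw [Subgroup.zpowers_le]; exact Subgroup.inv_mem _ hxT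
          have hval : ∀ z : Subgroup.zpowers ((x : G)⁻¹),
              conjHom (Subgroup.zpowers ((x : G)⁻¹)) (u : G) z ∈ (S : Subgroup G) ⊓ pResidual p G := by
            have hle : Subgroup.zpowers ((x : G)⁻¹) ≤
                ((S : Subgroup G) ⊓ pResidual p G).comap (MulAut.conj (u : G)).toMonoidHom := by
              rw [Subgroup.zpowers_le, Subgroup.mem_comap]
              exact hux
            intro z
            exact hle z.2
          have hφ : conjHom (Subgroup.zpowers ((x : G)⁻¹)) (u : G) ∈
              F'.Hom (Subgroup.zpowers ((x : G)⁻¹)) :=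
            hF'mem.mpr ⟨hPle, hval, u, u.2, fun z => rfl⟩
          unfold FusionSystem.focalSubgroup
          apply Subgroup.subset_closure
          refine ⟨_, _, ⟨(x : G)⁻¹, Subgroup.mem_zpowers _⟩, hφ, ?_⟩
          rw [hcoe, conjHom_apply]
          group
        | one => exact Subgroup.one_mem _
        | mul a b _ _ ha hb => rw [Subgroup.coe_mul]; exact Subgroup.mul_mem _ ha hb
        | inv a _ ha => rw [Subgroup.coe_inv]; exact Subgroup.inv_mem _ ha
      exact key ⟨t, ht.2⟩ htR
    have h5092 := Cfsg.Agent.S5092.result p hT'p F' hF'sat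
    have hH'le : F'.hyperfocalSubgroup p ≤ (S : Subgroup G) ⊓ pResidual p G :=
      hyperfocalSubgroup_le F' p
    -- Frattini argument
    have h1 : (F'.hyperfocalSubgroup p).subgroupOf ((S : Subgroup G) ⊓ pResidual p G) ⊔
        commutator ↥((S : Subgroup G) ⊓ pResidual p G) = ⊤ := by
      apply Subgroup.map_injective (Subgroup.subtype_injective ((S : Subgroup G) ⊓ pResidual p G))
      rw [Subgroup.map_sup, Subgroup.map_subgroupOf_eq_of_le hH'le, Subgroup.map_subtype_commutator,
        ← h5092, ← MonoidHom.range_eq_map, Subgroup.range_subtype]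
      apply le_antisymm _ hfoc
      rw [h5092]
      exact sup_le hH'le (Subgroup.commutator_le_self _)
    have h2 := Cfsg.Agent.Helper23.commutator_le_frattini_pgroup p hT'p
    haveI : Finite ↥((S : Subgroup G) ⊓ pResidual p G) := inferInstance
    have h3 : (F'.hyperfocalSubgroup p).subgroupOf ((S : Subgroup G) ⊓ pResidual p G) ⊔
        frattini ↥((S : Subgroup G) ⊓ pResidual p G) = ⊤ := by
      rw [eq_top_iff, ← h1]
      exact sup_le_sup_left h2 _
    have h4 := frattini_nongenerating h3
    have hT'H' : (S : Subgroup G) ⊓ pResidual p G ≤ F'.hyperfocalSubgroup p := by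
      intro t ht
      have : (⟨t, ht⟩ : ↥((S : Subgroup G) ⊓ pResidual p G)) ∈
          (F'.hyperfocalSubgroup p).subgroupOf ((S : Subgroup G) ⊓ pResidual p G) := by
        rw [h4]; trivial
      exact Subgroup.mem_subgroupOf.mp this
    refine hT'H'.trans (hyperfocalSubgroup_mono _ F' inf_le_left ?_ p)
    intro P φ hφ
    obtain ⟨hPT', hφT', g, -, hg⟩ := hF'mem.mp hφ
    exact ⟨hPT'.trans inf_le_left, fun x => (hφT' x).1, g, hg⟩

end Cfsg.Agent.S5093
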