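import Mathlib
import Cfsg.Statements.S1894
import Cfsg.Agent.Lib.Helper10.KSeq2
-- import your own Cfsg.Agent.* helpers here

set_option autoImplicit false
open Cfsg

namespace Cfsg.Agent.S1894

/-- Let P be a finite p-group, A a normal subgroup of P and B an abelian subgroup of A that is normal in P. Then some subgroup C of A containing B is normal in P and is self-centralizing and normal in A (C ∈ SCN(A)). -/
theorem result {P : Type*} [Group P] [Finite P] {p : ℕ} [Fact p.Prime] (hP : IsPGroup p P)
    (A : Subgroup P) [A.Normal] (B : Subgroup P) [B.Normal] (hBA : B ≤ A) (hB : IsMulCommutative B) :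
    ∃ C : Subgroup P, C.Normal ∧ B ≤ C ∧ Cfsg.IsSCN A C := by
  haveI : Group.IsNilpotent P := hP.isNilpotent
  -- a maximal member among normal abelian subgroups of A containing B
  have hBab : B ≤ Subgroup.centralizer (B : Set P) := Cfsg.Agent.Helper10.abelian_le_centralizer B hB
  obtain ⟨C, hBC, hCmax⟩ := Finite.exists_le_maximal
    (p := fun C : Subgroup P => C.Normal ∧ C ≤ A ∧ B ≤ C ∧ C ≤ Subgroup.centralizer (C : Set P))
    (a := B) ⟨inferInstance, hBA, le_rfl, hBab⟩
  obtain ⟨hCn, hCA, hBC', hCab⟩ := hCmax.prop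
  refine ⟨C, hCn, hBC', hCA, ?_, ?_⟩
  · rw [Subgroup.normalizer_eq_top]; exact le_top
  · apply le_antisymm
    · -- C_A(C) ≤ C
      by_contra hcon
      haveI := hCn
      -- C_A(C) is normalized by everything
      have hMn : (⊤ : Subgroup P) ≤ Subgroup.normalizer ((A ⊓ Subgroup.centralizer (C : Set P) : Subgroup P) : Set P) := by
        have h1 : (A ⊓ Subgroup.centralizer (C : Set P)).Normal := inferInstance
        rw [Subgroup.normalizer_eq_top]
      obtain ⟨x, hx, hxC, hxr⟩ := Cfsg.Agent.Helper10.exists_mem_not_mem_commutator_mem ⊤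
        (A ⊓ Subgroup.centralizer (C : Set P)) C hMn hcon
      have hCnorm : Subgroup.normalizer (C : Set P) = ⊤ := Subgroup.normalizer_eq_top C
      have hxm : x ∈ Cfsg.Agent.Helper10.commNormSubgroup C ⊤ :=
        ⟨by rw [hCnorm]; trivial, fun q hq => hxr q hq⟩
      have hZ : Subgroup.zpowers x ≤ Cfsg.Agent.Helper10.commNormSubgroup C ⊤ := Subgroup.zpowers_le.mpr hxm
      have hZtop : ⁅Subgroup.zpowers x, (⊤ : Subgroup P)⁆ ≤ C := (Cfsg.Agent.Helper10.le_commNormSubgroup_iff.mp hZ).2
      have hZC : Subgroup.zpowers x ≤ Subgroup.centralizer (C : Set P) := Subgroup.zpowers_le.mpr hx.2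
      have hZZ := Cfsg.Agent.Helper10.zpowers_le_centralizer_zpowers x
      -- the bigger subgroup
      have hC'n : (C ⊔ Subgroup.zpowers x).Normal := by
        rw [← Subgroup.commutator_top_right_le_iff]
        have : ⁅C ⊔ Subgroup.zpowers x, (⊤ : Subgroup P)⁆ ≤ C :=
          Cfsg.Agent.Helper10.sup_commutator_le (Subgroup.commutator_le_left C ⊤) hZtop
            (by rw [hCnorm]; exact le_top) (by rw [hCnorm]; exact le_top)
        exact le_trans this le_sup_left
      have hC'A : C ⊔ Subgroup.zpowers x ≤ A := sup_le hCA (Subgroup.zpowers_le.mpr hx.1)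
      have hC'ab : C ⊔ Subgroup.zpowers x ≤ Subgroup.centralizer ((C ⊔ Subgroup.zpowers x : Subgroup P) : Set P) := by
        apply sup_le
        · exact Cfsg.Agent.Helper10.le_centralizer_sup hCab (Subgroup.le_centralizer_iff.mp hZC)
        · exact Cfsg.Agent.Helper10.le_centralizer_sup hZC hZZ
      have hle : C ⊔ Subgroup.zpowers x ≤ C :=
        hCmax.le_of_ge ⟨hC'n, hC'A, le_trans hBC' le_sup_left, hC'ab⟩ le_sup_left
      exact hxC (hle ((le_sup_right : Subgroup.zpowers x ≤ C ⊔ Subgroup.zpowers x) (Subgroup.mem_zpowers x)))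
    · exact le_inf hCA hCab

end Cfsg.Agent.S1894
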