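import Cfsg.Statements.S5293
import Cfsg.Agent.Lib.CSE.CSEMain

set_option autoImplicit false
open Cfsg

namespace Cfsg.Agent.S5293

/-- Let F be a saturated fusion system over a finite p-group S, E a normal subsystem of F over T ≤ S, and C the join of the subgroups X ≤ C_S(T) such that E is contained in the centralizer system C_F(X). Then for the centralizer fusion system C_F(T) over C_S(T), the focal subgroup of C_F(T) is contained in C. -/
theorem result {Ω : Type*} [Group Ω] {S : Subgroup Ω} [Finite S] (p : ℕ) [Fact p.Prime] (hS : IsPGroup p S)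
    (F : Cfsg.FusionSystem S) (hF : F.IsSaturated p)
    {T : Subgroup Ω} (E : Cfsg.FusionSystem T) (hE : E.IsNormalIn F p)
    (C : Subgroup Ω)
    (hC : C = sSup {X : Subgroup Ω | X ≤ Cfsg.FusionSystem.centralizerIn S T ∧ ∀ P : Subgroup Ω, E.Hom P ⊆ F.centralizerHom X P})
    (D : Cfsg.FusionSystem (Cfsg.FusionSystem.centralizerIn S T)) (hD : F.IsCentralizerSystem T D) :
    D.focalSubgroup ≤ C := by
  rw [Cfsg.Agent.Helper3.CSE.focalSubgroup_eq_focC F T D hD, hC]
  apply le_sSup
  have hinv := hE.1.2.2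
  have hTS : T ≤ S := hinv.2.1.1
  have hXC : Cfsg.Agent.Helper3.CSE.focC F T ≤ Cfsg.FusionSystem.centralizerIn S T :=
    Cfsg.Agent.Helper3.CSE.focC_le F T
  have hTX : T ≤ Cfsg.FusionSystem.centralizerIn S (Cfsg.Agent.Helper3.CSE.focC F T) := by
    intro t ht
    refine Cfsg.Agent.Helper25.mem_centralizerIn.mpr ⟨hTS ht, fun x hx => ?_⟩
    have := (Cfsg.Agent.Helper25.mem_centralizerIn.mp (hXC hx)).2 t ht
    exact this.symm
  refine ⟨hXC, fun P φ hφ => ?_⟩
  have hPT : P ≤ T := (E.le_of_mem hφ).1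
  exact ⟨hinv.1 P hφ, hPT.trans hTX, fun x => hTX ((E.le_of_mem hφ).2 x),
    Cfsg.Agent.Helper3.CSE.main p hS F hF E hE P φ hφ⟩

end Cfsg.Agent.S5293
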