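import Mathlib
import Cfsg.Statements.S5256
import Cfsg.Agent.S5134
import Cfsg.Agent.Lib.Helper25.FusionMorph
import Cfsg.Agent.Lib.Helper25.FusionHyp
import Cfsg.Agent.Lib.Helper16.QuotPGroup

set_option autoImplicit false
open Cfsg

namespace Cfsg.Agent.S5256

open Cfsg.FusionSystem Cfsg.Agent.Helper25

/-- Let F be a saturated fusion system over a finite p-group S, T a subgroup of S strongly closed in F, and E a factor system F/T realised along a homomorphism θ of S with kernel T. Then the hyperfocal subgroup of E is the image under θ of the hyperfocal subgroup of F (hyp(F/T) = T·hyp(F)/T). -/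
theorem result {Ω : Type*} [Group Ω] {S : Subgroup Ω} [Finite S] (p : ℕ) [Fact p.Prime] (hS : IsPGroup p S) (F : Cfsg.FusionSystem S) (hF : F.IsSaturated p) (T : Subgroup Ω) (hT : F.StronglyClosed T) {Ω' : Type*} [Group Ω'] {S' : Subgroup Ω'} (θ : ↥S →* Ω') (E : Cfsg.FusionSystem S') (hE : F.IsFactorSystem T θ E) : E.hyperfocalSubgroup p = ((F.hyperfocalSubgroup p).subgroupOf S).map θ := by
  classical
  have hp : p.Prime := Fact.out
  have hsurj : F.IsSurjectiveMorphism E θ := Cfsg.Agent.S5134.result p hS F hF T hT θ E hE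
  have hrange : θ.range = S' := hsurj.2.1
  have hθS' : ∀ s : S, θ s ∈ S' := hsurj.1.1
  apply le_antisymm
  · -- generators of the hyperfocal subgroup of the factor system
    unfold FusionSystem.hyperfocalSubgroup
    rw [Subgroup.closure_le]
    rintro y' ⟨P', α', x', hP', hα', rfl⟩
    have hQS : preimageAlong θ P' ≤ S := preimageAlong_le θ P'
    haveI : Finite (preimageAlong θ P') := finite_of_le_finite hQS
    haveI : Finite (MulAut (preimageAlong θ P')) :=
      Finite.of_injective (fun α : MulAut (preimageAlong θ P') => (α : _ → _)) DFunLike.coe_injective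
    let D' : F.autGroup (preimageAlong θ P') →* E.autGroup P' :=
      (autDesc hsurj hP' rfl).codRestrict _ (autDesc_mem hsurj hP' rfl)
    have hD' : Function.Surjective D' := by
      intro β'
      obtain ⟨β, hβ⟩ := autDesc_surj hsurj hP' rfl β'.1 β'.2
      exact ⟨β, Subtype.ext hβ⟩
    have hmap := Cfsg.Agent.Helper16.map_pResidual_eq_of_surjective (p := p) D' hD'
    rw [← hmap] at hα'
    obtain ⟨α, hα, rfl⟩ := hα'
    obtain ⟨x, rfl⟩ := piMap_surjective hrange hP' (rfl : preimageAlong θ P' = preimageAlong θ P') x'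
    have h1 : ((D' α : E.autGroup P') : MulAut P') (piMap rfl x) = piMap rfl ((α : MulAut _) x) :=
      autDesc_apply hsurj hP' rfl α x
    rw [h1, piMap_coe, piMap_coe]
    have hgen := hyperfocal_gen_mem F p hQS α hα x
    refine ⟨⟨x, hQS x.2⟩⁻¹ * ⟨((α : MulAut _) x : preimageAlong θ P'), hQS ((α : MulAut _) x).2⟩,
      ?_, ?_⟩
    · show _ ∈ (Subgroup.closure _).subgroupOf S
      rw [Subgroup.mem_subgroupOf]
      exact hgen
    · rw [map_mul, map_inv]
  · -- images of the generators of the hyperfocal subgroup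
    rw [Subgroup.map_le_iff_le_comap]
    have key : F.hyperfocalSubgroup p ≤ ((E.hyperfocalSubgroup p).comap θ).map S.subtype := by
      unfold FusionSystem.hyperfocalSubgroup
      rw [Subgroup.closure_le]
      rintro y ⟨P, α, x, hPS, hα, rfl⟩
      haveI : Finite P := finite_of_le_finite hPS
      have hP'S' : imageAlong θ P ≤ S' := by
        intro z hz
        obtain ⟨s, -, rfl⟩ := mem_imageAlong.mp hz
        exact hθS' s
      -- the subgroup of automorphisms of `P` whose commutators with `P` map into the hyperfocal subgroup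
      let B : Subgroup (F.autGroup P) :=
        { carrier := {β | ∀ x : P, θ (⟨x, hPS x.2⟩⁻¹ * ⟨(((β : MulAut P) x : P) : Ω),
            hPS ((β : MulAut P) x).2⟩) ∈ Subgroup.closure {y : Ω' | ∃ (P : Subgroup Ω') (α : E.autGroup P) (x : P), P ≤ S' ∧
              α ∈ pResidual p (E.autGroup P) ∧ y = (x : Ω')⁻¹ * ((α : MulAut P) x : P)}}
          one_mem' := by
            intro x
            have : (⟨x, hPS x.2⟩ : S)⁻¹ * ⟨((((1 : F.autGroup P) : MulAut P) x : P) : Ω),
              hPS (((1 : F.autGroup P) : MulAut P) x).2⟩ = 1 := by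
              apply Subtype.ext
              simp
            rw [this, map_one]
            exact Subgroup.one_mem _
          mul_mem' := by
            intro β γ hβ hγ x
            have h1 := hγ x
            have h2 := hβ ((γ : MulAut P) x)
            have e : (⟨x, hPS x.2⟩ : S)⁻¹ * ⟨(((((β * γ : F.autGroup P)) : MulAut P) x : P) : Ω),
                hPS (((β * γ : F.autGroup P) : MulAut P) x).2⟩
                = ((⟨x, hPS x.2⟩ : S)⁻¹ * ⟨(((γ : MulAut P) x : P) : Ω), hPS ((γ : MulAut P) x).2⟩)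
                  * ((⟨(((γ : MulAut P) x : P) : Ω), hPS ((γ : MulAut P) x).2⟩ : S)⁻¹
                    * ⟨(((β : MulAut P) ((γ : MulAut P) x) : P) : Ω),
                      hPS ((β : MulAut P) ((γ : MulAut P) x)).2⟩) := by
              apply Subtype.ext
              simp [MulAut.mul_apply]
            rw [e, map_mul]
            exact Subgroup.mul_mem _ h1 h2
          inv_mem' := by
            intro β hβ x
            have h1 := hβ ((β : MulAut P)⁻¹ x)
            have e : (⟨x, hPS x.2⟩ : S)⁻¹ * ⟨(((((β⁻¹ : F.autGroup P)) : MulAut P) x : P) : Ω),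
                hPS (((β⁻¹ : F.autGroup P) : MulAut P) x).2⟩
                = ((⟨((((β : MulAut P)⁻¹ x) : P) : Ω), hPS ((β : MulAut P)⁻¹ x).2⟩ : S)⁻¹
                  * ⟨(((β : MulAut P) ((β : MulAut P)⁻¹ x) : P) : Ω),
                    hPS ((β : MulAut P) ((β : MulAut P)⁻¹ x)).2⟩)⁻¹ := by
              apply Subtype.ext
              simp
            rw [e, map_inv]
            exact Subgroup.inv_mem _ h1 }
      have hle : pResidual p (F.autGroup P) ≤ B := by
        unfold pResidual
        rw [Subgroup.closure_le]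
        intro β hβ x
        have hβ' : Nat.Coprime (orderOf (β : MulAut P)) p := by
          rw [Subgroup.orderOf_coe]; exact hβ
        have hβF : P.subtype.comp (β : MulAut P).toMonoidHom ∈ F.Hom P :=
          (mem_autGroup_iff F hPS _).mp β.2
        obtain ⟨φ', hφ', hP, hφS, hP'', hind⟩ := hsurj.1.2 P _ hβF
        -- `φ'` is an automorphism of the image of `P`
        have hr : φ'.range = imageAlong θ P := by
          ext z
          constructor
          · rintro ⟨w, rfl⟩
            obtain ⟨s, hs, hsw⟩ := mem_imageAlong.mp w.2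
            have e : w = ⟨θ ⟨((⟨s, hs⟩ : P) : Ω), hP hs⟩, hP'' ⟨s, hs⟩⟩ := Subtype.ext hsw.symm
            rw [e, hind]
            exact mem_imageAlong.mpr ⟨⟨_, hφS ⟨s, hs⟩⟩, ((β : MulAut P) ⟨s, hs⟩).2, rfl⟩
          · intro hz
            obtain ⟨s, hs, rfl⟩ := mem_imageAlong.mp hz
            refine ⟨⟨θ ⟨(((β : MulAut P)⁻¹ ⟨s, hs⟩ : P) : Ω), hP ((β : MulAut P)⁻¹ ⟨s, hs⟩).2⟩,
              hP'' _⟩, ?_⟩
            rw [hind]
            congr 1
            apply Subtype.ext
            show (((β : MulAut P) ((β : MulAut P)⁻¹ ⟨s, hs⟩) : P) : Ω) = s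
            rw [MulAut.apply_inv_self]
        obtain ⟨β', hβ'E, hβ'φ⟩ := aut_of_range_eq E hφ' hr
        have hpow : ∀ (n : ℕ) (x : P), (((β' ^ n) ⟨θ ⟨x, hP x.2⟩, hP'' x⟩ : imageAlong θ P) : Ω')
            = θ ⟨((((β : MulAut P) ^ n) x : P) : Ω), hP (((β : MulAut P) ^ n) x).2⟩ := by
          intro n
          induction n with
          | zero => intro x; rfl
          | succ n ih =>
            intro x
            rw [pow_succ', MulAut.mul_apply, pow_succ', MulAut.mul_apply]
            have h1 := ih x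
            have h2 : (β' ^ n) ⟨θ ⟨x, hP x.2⟩, hP'' x⟩
                = ⟨θ ⟨((((β : MulAut P) ^ n) x : P) : Ω), hP (((β : MulAut P) ^ n) x).2⟩, hP'' _⟩ :=
              Subtype.ext h1
            rw [h2, hβ'φ, hind]
            rfl
        have hord : orderOf β' ∣ orderOf (β : MulAut P) := by
          apply orderOf_dvd_of_pow_eq_one
          ext w
          obtain ⟨s, hs, hsw⟩ := mem_imageAlong.mp w.2
          have e : w = ⟨θ ⟨((⟨s, hs⟩ : P) : Ω), hP hs⟩, hP'' ⟨s, hs⟩⟩ := Subtype.ext hsw.symm
          rw [e, hpow, pow_orderOf_eq_one]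
          rfl
        have hβ'cop : Nat.Coprime (orderOf (⟨β', hβ'E⟩ : E.autGroup (imageAlong θ P))) p := by
          rw [← Subgroup.orderOf_coe]
          exact Nat.Coprime.coprime_dvd_left hord hβ'
        have hgen := hyperfocal_gen_mem E p hP'S' ⟨β', hβ'E⟩ (Subgroup.subset_closure hβ'cop)
          ⟨θ ⟨x, hP x.2⟩, hP'' x⟩
        have e2 : θ (⟨x, hPS x.2⟩⁻¹ * ⟨(((β : MulAut P) x : P) : Ω), hPS ((β : MulAut P) x).2⟩)
            = ((⟨θ ⟨x, hP x.2⟩, hP'' x⟩ : imageAlong θ P) : Ω')⁻¹ *
              ((((⟨β', hβ'E⟩ : E.autGroup (imageAlong θ P)) : MulAut (imageAlong θ P))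
                ⟨θ ⟨x, hP x.2⟩, hP'' x⟩ : imageAlong θ P) : Ω') := by
          rw [map_mul, map_inv]
          show _ = (θ ⟨x, hP x.2⟩)⁻¹ * ((β' ⟨θ ⟨x, hP x.2⟩, hP'' x⟩ : imageAlong θ P) : Ω')
          rw [hβ'φ, hind]
          rfl
        show θ (⟨x, hPS x.2⟩⁻¹ * ⟨(((β : MulAut P) x : P) : Ω), hPS ((β : MulAut P) x).2⟩) ∈ _
        rw [e2]
        exact hgen
      have hαB := hle hα x
      exact ⟨⟨x, hPS x.2⟩⁻¹ * ⟨(((α : MulAut P) x : P) : Ω), hPS ((α : MulAut P) x).2⟩, hαB, rfl⟩
    intro s hs
    rw [Subgroup.mem_subgroupOf] at hs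
    obtain ⟨s', hs', hss'⟩ := key hs
    have : s' = s := Subtype.ext hss'
    rw [← this]
    exact hs'

end Cfsg.Agent.S5256
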