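import Cfsg.Statements.S5120
import Cfsg.Agent.Lib.Helper16.PPowNormal1
import Cfsg.Agent.Lib.Helper16.PPowNormal2
import Cfsg.Agent.Lib.Helper16.PPowNormal3

set_option autoImplicit false
open Cfsg

namespace Cfsg.Agent.S5120

/-- Let F be a saturated fusion system over a finite p-group S and T a subgroup of S containing the hyperfocal subgroup of F and normal in S. Then every saturated subsystem of F over T of p-power index is a normal subsystem of F. -/
theorem result {Ω : Type*} [Group Ω] {S : Subgroup Ω} [Finite S] (p : ℕ) [Fact p.Prime] (hS : IsPGroup p S) (F : Cfsg.FusionSystem S) (hF : F.IsSaturated p) (T : Subgroup Ω) (hTS : T ≤ S) (hTn : (T.subgroupOf S).Normal) (hT : F.hyperfocalSubgroup p ≤ T) (E : Cfsg.FusionSystem T) (hEs : E.IsSaturated p) (hEi : E.HasPPowerIndexIn F p) : E.IsNormalIn F p := by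
  have hTsc := Cfsg.Agent.Helper16.PPowNormal.stronglyClosed_of_hyp_le p hS F hF hTS hTn hT
  have hAI : Cfsg.Agent.Helper25.AutInv F E :=
    Cfsg.Agent.Helper16.PPowNormal.autInv_of_pPowerIndex p hS F hTS E hEs hEi
  refine ⟨⟨hEs, hF, hEi.1, hTsc, ?_, ?_⟩, ?_⟩
  · intro P hPT φ hφ α hα
    obtain ⟨χ, hχ, hχv⟩ := hAI hα hPT hφ
    exact ⟨χ, hχ, fun x _ _ => hχv x⟩
  · intro P hPT φ hφ
    exact Cfsg.Agent.Helper16.PPowNormal.frattini_of_pPowerIndex p hS F hF E hTsc hAI hEi hPT hφ
  · exact Cfsg.Agent.Helper16.PPowNormal.extension_of_pPowerIndex p hS F hF E hTsc hEs hEi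

end Cfsg.Agent.S5120
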