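import Mathlib
import Cfsg.Statements.S5199
import Cfsg.Agent.Lib.Helper26.FusionRestrict

set_option autoImplicit false
open Cfsg

namespace Cfsg.Agent.S5199

open Cfsg.FusionSystem Cfsg.Agent.Helper25 Cfsg.Agent.Helper26

/-- Let F be a saturated fusion system over a finite p-group S, E a normal subsystem of F over T, and F₀ a normal subsystem of F over a subgroup U containing both T and the hyperfocal subgroup of F, such that F₀ has p-power index in F. Then E is a subsystem of F₀. -/
theorem result {Ω : Type*} [Group Ω] {S : Subgroup Ω} [Finite S] (p : ℕ) [Fact p.Prime] (hS : IsPGroup p S) (F : Cfsg.FusionSystem S) (hF : F.IsSaturated p) {T U : Subgroup Ω} (E : Cfsg.FusionSystem T) (hE : E.IsNormalIn F p) (F₀ : Cfsg.FusionSystem U) (hF₀ : F₀.IsNormalIn F p) (hU : T ⊔ F.hyperfocalSubgroup p ≤ U) (hidx : F₀.HasPPowerIndexIn F p) : E.IsSubsystemOf F₀ := by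
  have hEsat : E.IsSaturated p := hE.1.1
  have hEF : E.IsSubsystemOf F := hE.1.2.2.1
  have hTS : T ≤ S := hE.1.2.2.2.1.1
  have hTU : T ≤ U := le_sup_left.trans hU
  haveI : Finite T := finite_of_le_finite hTS
  have hTp : IsPGroup p T := hS.to_le hTS
  apply le_resSys_of_pResidual p hTp E hEsat F₀ hTU
  intro P hPT ν hν
  have hPS : P ≤ S := hPT.trans hTS
  have hle : ∀ a ∈ E.autGroup P, (MonoidHom.id (MulAut P)) a ∈ F.autGroup P := by
    intro a ha
    rw [mem_autGroup_iff F hPS]
    exact hEF P ((mem_autGroup_iff E hPT a).mp ha)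
  have h1 := pResidual_transport p (MonoidHom.id (MulAut P)) (fun a b hab => hab) hle hν
  exact hidx.2.2 P (hPT.trans hTU) ⟨_, h1, rfl⟩

end Cfsg.Agent.S5199
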