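import Mathlib
import Cfsg.Statements.S5255
import Cfsg.Agent.Lib.Helper25.FusionAlperin2
import Cfsg.Agent.Lib.Helper25.FusionNormal3
import Cfsg.Agent.Lib.Helper26.FusionInduction

set_option autoImplicit false
open Cfsg

namespace Cfsg.Agent.S5255

open Cfsg.FusionSystem Cfsg.Agent.Helper25 Cfsg.Agent.Helper26

variable {Ω : Type*} [Group Ω] {S : Subgroup Ω}

/-- `x` acts on `T` as an inner automorphism of `T` -/
def ActsInner (S T : Subgroup Ω) (x : Ω) : Prop :=
  x ∈ S ∧ ∃ t ∈ T, ∀ u ∈ T, x * u * x⁻¹ = t * u * t⁻¹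

lemma mem_sup_iff_actsInner {T : Subgroup Ω} (hTS : T ≤ S)
    (hTn : ∀ g ∈ S, ∀ v ∈ T, g⁻¹ * v * g ∈ T) (x : Ω) :
    x ∈ T ⊔ centralizerIn S T ↔ ActsInner S T x := by
  constructor
  · intro hx
    have hn : ∀ u ∈ T, ∀ v ∈ centralizerIn S T, u⁻¹ * v * u ∈ centralizerIn S T := by
      intro u hu v hv
      have hv' := mem_centralizerIn.mp hv
      have : u⁻¹ * v * u = v := by
        rw [mul_assoc, ← hv'.2 u hu, ← mul_assoc, inv_mul_cancel, one_mul]
      rw [this]; exact hv
    obtain ⟨t, ht, c, hc, rfl⟩ := exists_mul_of_mem_sup hn hx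
    have hc' := mem_centralizerIn.mp hc
    refine ⟨S.mul_mem (hTS ht) hc'.1, t, ht, fun u hu => ?_⟩
    have : c * u = u * c := (hc'.2 u hu).symm
    calc t * c * u * (t * c)⁻¹ = t * (c * u) * c⁻¹ * t⁻¹ := by group
      _ = t * (u * c) * c⁻¹ * t⁻¹ := by rw [this]
      _ = t * u * t⁻¹ := by group
  · rintro ⟨hxS, t, ht, h⟩
    have hc : t⁻¹ * x ∈ centralizerIn S T := by
      rw [mem_centralizerIn]
      refine ⟨S.mul_mem (S.inv_mem (hTS ht)) hxS, fun u hu => ?_⟩
      have := h u hu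
      calc u * (t⁻¹ * x) = t⁻¹ * (t * u * t⁻¹) * x := by group
        _ = t⁻¹ * (x * u * x⁻¹) * x := by rw [this]
        _ = t⁻¹ * x * u := by group
    have : x = t * (t⁻¹ * x) := by group
    rw [this]
    exact Subgroup.mul_mem _ (Subgroup.mem_sup_left ht) (Subgroup.mem_sup_right hc)

lemma actsInner_conj {T : Subgroup Ω} (hTn : ∀ g ∈ S, ∀ v ∈ T, g⁻¹ * v * g ∈ T) {g x : Ω}
    (hg : g ∈ S) (hx : ActsInner S T x) : ActsInner S T (g * x * g⁻¹) := by
  obtain ⟨hxS, t, ht, h⟩ := hx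
  have hTn' : ∀ v ∈ T, g * v * g⁻¹ ∈ T := by
    intro v hv
    have := hTn g⁻¹ (S.inv_mem hg) v hv
    rwa [inv_inv] at this
  refine ⟨S.mul_mem (S.mul_mem hg hxS) (S.inv_mem hg), g * t * g⁻¹, hTn' t ht, fun u hu => ?_⟩
  have h1 := h (g⁻¹ * u * g) (hTn g hg u hu)
  calc g * x * g⁻¹ * u * (g * x * g⁻¹)⁻¹ = g * (x * (g⁻¹ * u * g) * x⁻¹) * g⁻¹ := by group
    _ = g * (t * (g⁻¹ * u * g) * t⁻¹) * g⁻¹ := by rw [h1]
    _ = g * t * g⁻¹ * u * (g * t * g⁻¹)⁻¹ := by group

lemma actsInner_mul_right {T : Subgroup Ω} (hTS : T ≤ S) {x s : Ω} (hs : s ∈ T)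
    (hx : ActsInner S T x) : ActsInner S T (x * s) := by
  obtain ⟨hxS, t, ht, h⟩ := hx
  refine ⟨S.mul_mem hxS (hTS hs), t * s, T.mul_mem ht hs, fun u hu => ?_⟩
  have h1 := h (s * u * s⁻¹) (T.mul_mem (T.mul_mem hs hu) (T.inv_mem hs))
  calc x * s * u * (x * s)⁻¹ = x * (s * u * s⁻¹) * x⁻¹ := by group
    _ = t * (s * u * s⁻¹) * t⁻¹ := h1
    _ = t * s * u * (t * s)⁻¹ := by group

lemma actsInner_mul_right_iff {T : Subgroup Ω} (hTS : T ≤ S) {x s : Ω} (hs : s ∈ T) :
    ActsInner S T (x * s) ↔ ActsInner S T x := by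
  constructor
  · intro h
    have := actsInner_mul_right hTS (T.inv_mem hs) h
    rwa [mul_inv_cancel_right] at this
  · exact actsInner_mul_right hTS hs

/-- maps defined on a subgroup containing the strongly closed `T` preserve `ActsInner` -/
lemma actsInner_map [Finite S] (F : FusionSystem S) {T : Subgroup Ω} (hT : F.StronglyClosed T)
    {R : Subgroup Ω} (hTR : T ≤ R) {ψ : R →* Ω} (hψ : ψ ∈ F.Hom R) {x : R}
    (hx : ActsInner S T (x : Ω)) : ActsInner S T (ψ x) := by
  obtain ⟨hxS, t, ht, h⟩ := hx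
  have hTS : T ≤ S := hT.1
  haveI : Finite T := finite_of_le_finite hTS
  have hψT : ∀ u : T, ψ ⟨u, hTR u.2⟩ ∈ T := fun u =>
    hT.2 T le_rfl _ (restrict_mem F hTR hψ) u
  have hinj : Function.Injective (fun u : T => (⟨ψ ⟨u, hTR u.2⟩, hψT u⟩ : T)) := by
    intro a b hab
    have h1 := F.injective_of_mem hψ (congrArg Subtype.val hab)
    exact Subtype.ext (congrArg (fun z : R => (z : Ω)) h1)
  have hsurj := Finite.injective_iff_surjective.mp hinj
  refine ⟨(F.le_of_mem hψ).2 x, ψ ⟨t, hTR ht⟩, hψT ⟨t, ht⟩, fun u' hu' => ?_⟩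
  obtain ⟨u, hu⟩ := hsurj ⟨u', hu'⟩
  have hu'' : ψ ⟨u, hTR u.2⟩ = u' := congrArg Subtype.val hu
  rw [← hu'', ← map_inv, ← map_inv, ← map_mul, ← map_mul, ← map_mul, ← map_mul]
  congr 1
  apply Subtype.ext
  exact h u u.2


/-- automorphisms of a subgroup containing `T` preserve `ActsInner` in both directions -/
lemma actsInner_aut_iff [Finite S] (F : FusionSystem S) {T : Subgroup Ω} (hT : F.StronglyClosed T)
    {P : Subgroup Ω} (hPS : P ≤ S) (hTP : T ≤ P) {α : MulAut P} (hα : α ∈ F.autGroup P) (x : P) :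
    ActsInner S T (x : Ω) ↔ ActsInner S T ((α x : P) : Ω) := by
  have h1 := (mem_autGroup_iff F hPS α).mp hα
  have h2 := (mem_autGroup_iff F hPS α⁻¹).mp (Subgroup.inv_mem _ hα)
  constructor
  · intro hx
    exact actsInner_map F hT hTP h1 hx
  · intro hx
    have := actsInner_map F hT hTP h2 (x := α x) hx
    simpa using this

/-- the predicate cutting out the subsystem -/
def Pr (S T : Subgroup Ω) (R : Subgroup Ω) (φ : R →* Ω) : Prop :=
  ∀ x : R, ActsInner S T (x : Ω) ↔ ActsInner S T (φ x)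

/-- the subgroup of automorphisms of `P` moving every element inside its coset of `T` -/
def cosetAut (F : FusionSystem S) (T P : Subgroup Ω) : Subgroup (MulAut P) where
  carrier := {γ | γ ∈ F.autGroup P ∧ ∀ x : P, (x : Ω)⁻¹ * ((γ x : P) : Ω) ∈ T}
  one_mem' := ⟨Subgroup.one_mem _, fun x => by simp⟩
  mul_mem' := by
    rintro γ δ ⟨hγ, hγ'⟩ ⟨hδ, hδ'⟩
    refine ⟨Subgroup.mul_mem _ hγ hδ, fun x => ?_⟩
    have h1 := hδ' x
    have h2 := hγ' (δ x)
    have := T.mul_mem h1 h2
    rw [MulAut.mul_apply]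
    have e : (x : Ω)⁻¹ * ((γ (δ x) : P) : Ω)
        = (x : Ω)⁻¹ * ((δ x : P) : Ω) * (((δ x : P) : Ω)⁻¹ * ((γ (δ x) : P) : Ω)) := by group
    rw [e]; exact this
  inv_mem' := by
    rintro γ ⟨hγ, hγ'⟩
    refine ⟨Subgroup.inv_mem _ hγ, fun x => ?_⟩
    have h1 := hγ' (γ⁻¹ x)
    rw [MulAut.apply_inv_self] at h1
    have := T.inv_mem h1
    have e : (x : Ω)⁻¹ * ((γ⁻¹ x : P) : Ω) = (((γ⁻¹ x : P) : Ω)⁻¹ * (x : Ω))⁻¹ := by group
    rw [e]; exact this

theorem main [Finite S] (p : ℕ) [Fact p.Prime] (hS : IsPGroup p S) (F : FusionSystem S)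
    (hF : F.IsSaturated p) (T : Subgroup Ω) (hT : F.StronglyClosed T) :
    F.StronglyClosed (T ⊔ centralizerIn S T) := by
  have hTS : T ≤ S := hT.1
  have hTn : ∀ g ∈ S, ∀ v ∈ T, g⁻¹ * v * g ∈ T :=
    fun g hg v hv => conj_mem_of_stronglyClosed' F hT hg hv
  have hTn2 : ∀ g ∈ S, ∀ v ∈ T, g * v * g⁻¹ ∈ T :=
    fun g hg v hv => conj_mem_of_stronglyClosed F hT hg hv
  -- the subsystem
  let E : FusionSystem S := predSub F (Pr S T)
    (by
      intro P g hP hg x
      rw [conjHom_apply]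
      constructor
      · intro hx; exact actsInner_conj hTn hg hx
      · intro hx
        have := actsInner_conj hTn (S.inv_mem hg) hx
        have e : g⁻¹ * (g * (x : Ω) * g⁻¹) * g⁻¹⁻¹ = x := by group
        rwa [e] at this)
    (by
      intro P Q φ ψ hφ hψ h1 h2 h x
      rw [h1 x]
      exact h2 ⟨φ x, h x⟩)
    (by
      intro P φ hφ h1 ψ hψ hinv
      rintro ⟨y, x, rfl⟩
      rw [hinv x]
      exact (h1 x).symm)
  have hEmem : ∀ {P : Subgroup Ω} {φ : P →* Ω}, φ ∈ E.Hom P ↔ φ ∈ F.Hom P ∧ Pr S T P φ :=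
    fun {P φ} => Iff.rfl
  have hle : F ≤ E := by
    apply le_of_essential_induction p hS F hF E
    · intro α hα
      rw [mem_autGroup_iff E le_rfl]
      exact ⟨(mem_autGroup_iff F le_rfl α).mp hα,
        fun x => actsInner_aut_iff F hT le_rfl hTS hα x⟩
    · intro P hess hPne IH α hα
      have hPS : P ≤ S := hess.1.1
      haveI : Finite P := finite_of_le_finite hPS
      rw [mem_autGroup_iff E hPS]
      refine ⟨(mem_autGroup_iff F hPS α).mp hα, ?_⟩
      by_cases hTP : T ≤ P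
      · exact fun x => actsInner_aut_iff F hT hPS hTP hα x
      · -- Frattini factorization
        have hfn : F.IsFullyNormalized P := hess.2.1
        obtain ⟨κ, hκ, ν, hν, hακν, hext⟩ := exists_frattini_factor p hS F hF hfn
          (cosetAut F T P) (fun γ hγ => hγ.1)
          (by
            intro β hβ γ hγ
            refine ⟨Subgroup.mul_mem _ (Subgroup.mul_mem _ hβ hγ.1) (Subgroup.inv_mem _ hβ),
              fun x => ?_⟩
            have h1 := hγ.2 (β⁻¹ x)
            have hmem : (((β⁻¹ x)⁻¹ * γ (β⁻¹ x) : P) : Ω) ∈ T := by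
              simpa using h1
            have h2 := aut_mem_of_stronglyClosed F hT hPS hβ hmem
            rw [map_mul, map_inv, MulAut.apply_inv_self] at h2
            simpa [MulAut.mul_apply] using h2) hα
        -- an element of `T` normalizing `P` outside `P`
        obtain ⟨g, hgT, hgN, hgP⟩ := exists_mem_normalizer_not_mem_of_not_le hS hPS hTS hTn hTP
        have hgNS : g ∈ normalizerIn S P := ⟨hTS hgT, hgN⟩
        have hgK : P.normalizerMonoidHom ⟨g, hgNS.2⟩ ∈ cosetAut F T P := by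
          refine ⟨autInducedBy_le_autGroup F hPS
            ((mem_autInducedBy_iff _).2 ⟨g, hTS hgT, fun x => rfl⟩), fun x => ?_⟩
          show (x : Ω)⁻¹ * (g * (x : Ω) * g⁻¹) ∈ T
          have h1 := hTn (x : Ω) (hPS x.2) g hgT
          have e : (x : Ω)⁻¹ * (g * (x : Ω) * g⁻¹) = (x : Ω)⁻¹ * g * (x : Ω) * g⁻¹ := by group
          rw [e]
          exact T.mul_mem h1 (T.inv_mem hgT)
        have hgext := hext g hgNS hgK
        set ν' : P →* Ω := P.subtype.comp ν.toMonoidHom with hν'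
        have hν'F : ν' ∈ F.Hom P := (mem_autGroup_iff F hPS ν).mp hν
        have hrange : ν'.range = P := by
          ext y
          constructor
          · rintro ⟨x, rfl⟩; exact (ν x).2
          · intro hy
            refine ⟨ν⁻¹ ⟨y, hy⟩, ?_⟩
            show ((ν (ν⁻¹ ⟨y, hy⟩) : P) : Ω) = y
            rw [MulAut.apply_inv_self]
        obtain ⟨-, -, hrec⟩ := of_fullyNormalized p hS F hF hfn
        obtain ⟨ψ, hψ, hψP⟩ := hrec.2 P ν' hν'F hrange
        have hPext : P ≤ extender S P ν' := le_extender F hν'F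
        haveI : Finite (extender S P ν') := finite_of_le_finite (extender_le S ν')
        have hlt : Nat.card P < Nat.card (extender S P ν') := by
          have hfin : (extender S P ν' : Set Ω).Finite := Set.toFinite _
          have h1 := Set.ncard_lt_ncard (s := (P : Set Ω)) (t := (extender S P ν' : Set Ω))
            ⟨hPext, fun h => hgP (h hgext)⟩ hfin
          have e1 : Nat.card P = (P : Set Ω).ncard := _root_.Nat.card_coe_set_eq (P : Set Ω)
          have e2 : Nat.card (extender S P ν') = (extender S P ν' : Set Ω).ncard :=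
            _root_.Nat.card_coe_set_eq (extender S P ν' : Set Ω)
          rw [e1, e2]; exact h1
        have hψE := IH _ ψ hψ hlt
        have hPrψ : Pr S T _ ψ := (hEmem.mp hψE).2
        have hPrν : ∀ x : P, ActsInner S T (x : Ω) ↔ ActsInner S T ((ν x : P) : Ω) := by
          intro x
          have := hPrψ ⟨x, hPext x.2⟩
          rw [hψP x x.2 (hPext x.2)] at this
          exact this
        intro x
        show ActsInner S T (x : Ω) ↔ ActsInner S T ((α x : P) : Ω)
        rw [hακν, MulAut.mul_apply, hPrν x]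
        have h1 := hκ.2 (ν x)
        have e : ((κ (ν x) : P) : Ω) = ((ν x : P) : Ω) * (((ν x : P) : Ω)⁻¹ * ((κ (ν x) : P) : Ω)) := by
          group
        rw [e, actsInner_mul_right_iff hTS h1]
  refine ⟨sup_le hTS centralizerIn_le, fun R hR φ hφ x => ?_⟩
  rw [mem_sup_iff_actsInner hTS hTn]
  have hPr : Pr S T R φ := (hEmem.mp (hle R hφ)).2
  rw [← hPr x, ← mem_sup_iff_actsInner hTS hTn]
  exact hR x.2

/-- Let F be a saturated fusion system over a finite p-group S and T a subgroup of S strongly closed in F. Then T·C_S(T) is strongly closed in F. -/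
theorem result {Ω : Type*} [Group Ω] {S : Subgroup Ω} [Finite S] (p : ℕ) [Fact p.Prime] (hS : IsPGroup p S) (F : Cfsg.FusionSystem S) (hF : F.IsSaturated p) (T : Subgroup Ω) (hT : F.StronglyClosed T) : F.StronglyClosed (T ⊔ Cfsg.FusionSystem.centralizerIn S T) := by
  exact main p hS F hF T hT

end Cfsg.Agent.S5255
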