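import Mathlib
import Cfsg.Statements.S5198
import Cfsg.Agent.Lib.Helper26.HyperfocalKernel
import Cfsg.Agent.Lib.Helper22.PResidual
import Cfsg.Agent.Lib.Helper25.FusionAlperin
import Cfsg.Agent.Lib.Helper25.FusionNormal2

set_option autoImplicit false
open Cfsg

namespace Cfsg.Agent.S5198

open Cfsg.FusionSystem Cfsg.Agent.Helper25 Cfsg.Agent.Helper26

/-- Let F be a saturated fusion system over a finite p-group S and T a subgroup of S strongly closed in F (so T is normal in S). Then every element x of the hyperfocal subgroup of F acts on T by conjugation as an element of O^p(Aut_F(T))·Inn(T): there is an automorphism of T in the subgroup generated by the elements of Aut_F(T) of order prime to p together with the inner automorphisms of T that agrees with conjugation by x. -/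
theorem result {Ω : Type*} [Group Ω] {S : Subgroup Ω} [Finite S] (p : ℕ) [Fact p.Prime] (hS : IsPGroup p S) (F : Cfsg.FusionSystem S) (hF : F.IsSaturated p) (T : Subgroup Ω) (hT : F.StronglyClosed T) : ∀ x ∈ F.hyperfocalSubgroup p, ∃ α ∈ ((Cfsg.pResidual p ↥(F.autGroup T)).map (F.autGroup T).subtype ⊔ Cfsg.Inn ↥T : Subgroup (MulAut ↥T)), ∀ t : ↥T, ((α t : ↥T) : Ω) = x * (t : Ω) * x⁻¹ := by
  classical
  have hp : p.Prime := Fact.out
  have hTS : T ≤ S := hT.1
  haveI : Finite T := finite_of_le_finite hTS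
  haveI : Finite (MulAut T) :=
    Finite.of_injective (fun α : MulAut T => (α : T → T)) DFunLike.coe_injective
  have hSN : S ≤ Subgroup.normalizer (T : Set Ω) := by
    intro s hs
    rw [Subgroup.mem_set_normalizer_iff]
    intro h
    constructor
    · intro hh; exact conj_mem_of_stronglyClosed F hT hs hh
    · intro hh
      have := conj_mem_of_stronglyClosed' F hT hs hh
      have e : s⁻¹ * (s * h * s⁻¹) * s = h := by group
      rwa [e] at this
  have hcA : ∀ s : S, T.normalizerMonoidHom (Subgroup.inclusion hSN s) ∈ F.autGroup T := fun s =>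
    autInducedBy_le_autGroup F hTS ((mem_autInducedBy_iff _).2 ⟨s, s.2, fun x => rfl⟩)
  let cT : S →* F.autGroup T :=
    (T.normalizerMonoidHom.comp (Subgroup.inclusion hSN)).codRestrict (F.autGroup T) hcA
  have hcT_apply : ∀ (s : S) (t : T), ((((cT s : F.autGroup T) : MulAut T) t : T) : Ω)
      = (s : Ω) * (t : Ω) * (s : Ω)⁻¹ := fun s t => rfl
  haveI hRn : (pResidual p (F.autGroup T)).Normal := Cfsg.Agent.Helper22.pResidual_normal
  haveI hInn : ((Inn T).subgroupOf (F.autGroup T)).Normal := inn_subgroupOf_normal T _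
  let K' : Subgroup (F.autGroup T) := pResidual p (F.autGroup T) ⊔ (Inn T).subgroupOf (F.autGroup T)
  haveI hK'n : K'.Normal := Subgroup.sup_normal _ _
  have hInnA : Inn T ≤ F.autGroup T := (inn_le_autInducedBy hTS).trans (autInducedBy_le_autGroup F hTS)
  have hK : K'.map (F.autGroup T).subtype
      = (pResidual p (F.autGroup T)).map (F.autGroup T).subtype ⊔ Inn T := by
    rw [Subgroup.map_sup, Subgroup.subgroupOf_map_subtype, inf_eq_left.mpr hInnA]
  let c : S →* (F.autGroup T) ⧸ K' := (QuotientGroup.mk' K').comp cT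
  have hG : ∀ g : (F.autGroup T) ⧸ K', ∃ m : ℕ, g ^ (p ^ m) = 1 := by
    intro g
    obtain ⟨a, rfl⟩ := QuotientGroup.mk_surjective g
    obtain ⟨m, hm⟩ := Cfsg.Agent.Helper22.exists_pow_mem_pResidual (p := p) a
    refine ⟨m, ?_⟩
    rw [← QuotientGroup.mk_pow, QuotientGroup.eq_one_iff]
    exact (le_sup_left : pResidual p (F.autGroup T) ≤ K') hm
  have hcT : ∀ (t : Ω) (ht : t ∈ T), c ⟨t, hT.1 ht⟩ = 1 := by
    intro t ht
    show ((cT ⟨t, hT.1 ht⟩ : F.autGroup T) : (F.autGroup T) ⧸ K') = 1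
    rw [QuotientGroup.eq_one_iff]
    apply (le_sup_right : (Inn T).subgroupOf (F.autGroup T) ≤ K')
    rw [Subgroup.mem_subgroupOf]
    refine ⟨⟨t, ht⟩, ?_⟩
    ext u
    rfl
  have hbig : ∀ (P : Subgroup Ω) (hPS : P ≤ S), T ≤ P → ∀ α ∈ F.autGroup P,
      ∃ a : (F.autGroup T) ⧸ K', ∀ x : P,
        c ⟨((α x : P) : Ω), hPS (α x).2⟩ = a * c ⟨x, hPS x.2⟩ * a⁻¹ := by
    intro P hPS hTP α hα
    obtain ⟨κ, hκ⟩ := exists_restrict_aut hTP α (map_aut_eq_of_stronglyClosed F hT hPS hTP hα)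
    have hαF : P.subtype.comp α.toMonoidHom ∈ F.Hom P := (mem_autGroup_iff F hPS α).mp hα
    have hκA : κ ∈ F.autGroup T := by
      rw [mem_autGroup_iff F hTS]
      have h1 := restrict_mem F hTP hαF
      have e : (P.subtype.comp α.toMonoidHom).comp (Subgroup.inclusion hTP)
          = T.subtype.comp κ.toMonoidHom := by
        ext t
        show ((α (Subgroup.inclusion hTP t) : P) : Ω) = ((κ t : T) : Ω)
        rw [hκ t]; rfl
      rwa [e] at h1
    refine ⟨((⟨κ, hκA⟩ : F.autGroup T) : (F.autGroup T) ⧸ K'), fun x => ?_⟩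
    have hcomm : cT ⟨((α x : P) : Ω), hPS (α x).2⟩ * ⟨κ, hκA⟩ = ⟨κ, hκA⟩ * cT ⟨x, hPS x.2⟩ := by
      apply Subtype.ext
      ext u
      show ((α x : P) : Ω) * ((κ u : T) : Ω) * ((α x : P) : Ω)⁻¹
        = ((κ (((cT ⟨x, hPS x.2⟩ : F.autGroup T) : MulAut T) u) : T) : Ω)
      have h1 := hκ (((cT ⟨x, hPS x.2⟩ : F.autGroup T) : MulAut T) u)
      have h2 := hκ u
      have h3 : Subgroup.inclusion hTP (((cT ⟨x, hPS x.2⟩ : F.autGroup T) : MulAut T) u)
          = x * Subgroup.inclusion hTP u * x⁻¹ := Subtype.ext rfl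
      rw [h3, map_mul, map_mul, map_inv, h2] at h1
      have h4 := congrArg (fun z : P => (z : Ω)) h1
      simp only [Subgroup.coe_mul, Subgroup.coe_inv, Subgroup.coe_inclusion] at h4
      exact h4
    have hconj : cT ⟨((α x : P) : Ω), hPS (α x).2⟩
        = ⟨κ, hκA⟩ * cT ⟨x, hPS x.2⟩ * (⟨κ, hκA⟩ : F.autGroup T)⁻¹ := eq_mul_inv_of_mul_eq hcomm
    show ((cT ⟨((α x : P) : Ω), hPS (α x).2⟩ : F.autGroup T) : (F.autGroup T) ⧸ K') = _
    rw [hconj]
    rfl
  have hker := hyperfocal_le_ker p hS F hF hT hG c hcT hbig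
  intro x hx
  obtain ⟨s, hs, rfl⟩ := hker hx
  have hs' : c s = 1 := MonoidHom.mem_ker.mp hs
  have hsK : cT s ∈ K' := (QuotientGroup.eq_one_iff _).mp hs'
  refine ⟨((cT s : F.autGroup T) : MulAut T), ?_, fun t => rfl⟩
  rw [← hK]
  exact ⟨cT s, hsK, rfl⟩

end Cfsg.Agent.S5198
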