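import Mathlib
import Cfsg.Statements.S5185
import Cfsg.Agent.Lib.Helper26.RankTwoAut
import Cfsg.Agent.Lib.Helper25.StronglyEmbedded
import Cfsg.Agent.Lib.Helper25.FusionRecept
import Cfsg.Agent.Lib.Helper16.CyclicCrit

set_option autoImplicit false
universe u
open Cfsg

namespace Cfsg.Agent.S5185

open Cfsg.FusionSystem Cfsg.Agent.Helper25 Cfsg.Agent.Helper26

/-- Let F be a saturated fusion system over a finite p-group S and H an essential subgroup of order p². Then H is elementary abelian (isomorphic to C_p × C_p) and its F-automorphism group contains a subgroup isomorphic to SL(2,p). -/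
theorem result {Ω : Type u} [Group Ω] {S : Subgroup Ω} [Finite S] (p : ℕ) [Fact p.Prime] (hS : IsPGroup p S)
    (F : Cfsg.FusionSystem S) (hF : F.IsSaturated p) (H : Subgroup Ω) (hH : F.IsEssential p H) (hcard : Nat.card H = p ^ 2) :
    Cfsg.IsElementaryAbelian p H ∧
      ∃ K : Subgroup ↥(F.autGroup H), Nonempty (↥K ≃* Matrix.SpecialLinearGroup (Fin 2) (ZMod p)) := by
  classical
  have hp : p.Prime := Fact.out
  obtain ⟨hcen, hfn, hnormal, E, hE⟩ := hH
  have hHS : H ≤ S := hfn.1
  haveI : Finite H := finite_of_le_finite hHS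
  haveI : Finite (MulAut H) :=
    Finite.of_injective (fun α : MulAut H => (α : H → H)) DFunLike.coe_injective
  have hmc : IsMulCommutative H := IsPGroup.isMulCommutative_of_card_eq_prime_sq hcard
  have hcomm : ∀ a b : H, a * b = b * a := fun a b => hmc.is_comm.comm a b
  -- inner automorphisms are trivial
  have hInn : Inn H = ⊥ := by
    rw [eq_bot_iff]
    rintro _ ⟨g, rfl⟩
    rw [Subgroup.mem_bot]
    ext x
    show ((g * x * g⁻¹ : H) : Ω) = x
    rw [hcomm g x, mul_inv_cancel_right]
  -- no nontrivial normal `p`-subgroups in the automorphism group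
  haveI := hnormal
  have hnoN : ∀ N : Subgroup (F.autGroup H), N.Normal → IsPGroup p N → N = ⊥ := by
    intro N hN hNp
    have hmapN : (N.map (QuotientGroup.mk' ((Inn H).subgroupOf (F.autGroup H)))).Normal :=
      Subgroup.Normal.map hN _ (QuotientGroup.mk'_surjective _)
    have hmapP : IsPGroup p (N.map (QuotientGroup.mk' ((Inn H).subgroupOf (F.autGroup H)))) :=
      hNp.map _
    have hbot := eq_bot_of_normal_of_isStronglyPEmbedded p hE hmapP
    rw [eq_bot_iff]
    intro c hc
    have h1 : QuotientGroup.mk' ((Inn H).subgroupOf (F.autGroup H)) c ∈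
        N.map (QuotientGroup.mk' ((Inn H).subgroupOf (F.autGroup H))) := ⟨c, hc, rfl⟩
    rw [hbot, Subgroup.mem_bot, QuotientGroup.mk'_apply, QuotientGroup.eq_one_iff] at h1
    have h2 : (c : MulAut H) ∈ Inn H := Subgroup.mem_subgroupOf.mp h1
    rw [hInn, Subgroup.mem_bot] at h2
    rw [Subgroup.mem_bot]
    exact Subtype.ext h2
  have hpdvd : p ∣ Nat.card (F.autGroup H) :=
    dvd_trans hE.1 (Subgroup.card_quotient_dvd_card _)
  have hsyl : ∀ R : Sylow p (F.autGroup H), ¬ (R : Subgroup (F.autGroup H)).Normal := by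
    intro R hR
    exact R.ne_bot_of_dvd_card hpdvd (hnoN _ hR R.isPGroup')
  -- exponent `p`
  have hexp : ∀ x : H, x ^ p = 1 := by
    intro x
    by_contra hx
    have hdvd : orderOf x ∣ p ^ 2 := by rw [← hcard]; exact orderOf_dvd_natCard x
    obtain ⟨k, hk, hxk⟩ := (Nat.dvd_prime_pow hp).mp hdvd
    have hk2 : k = 2 := by
      by_contra hk2
      have hk1 : k ≤ 1 := by omega
      apply hx
      have : orderOf x ∣ p := by
        rw [hxk]
        calc p ^ k ∣ p ^ 1 := pow_dvd_pow p hk1
          _ = p := pow_one p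
      exact orderOf_dvd_iff_pow_eq_one.mp this
    haveI : IsCyclic H := isCyclic_of_orderOf_eq_card x (by rw [hxk, hk2, hcard])
    let R : Sylow p (F.autGroup H) := default
    apply hsyl R
    constructor
    intro n hn g
    have h1 : (g : MulAut H) * (n : MulAut H) = (n : MulAut H) * (g : MulAut H) :=
      Cfsg.Agent.Helper16.mulAut_comm_of_isCyclic _ _
    have h2 : g * n = n * g := Subtype.ext h1
    rw [h2, mul_inv_cancel_right]
    exact hn
  refine ⟨⟨hmc, fun a ha => ?_⟩, ?_⟩
  · have := hexp ⟨a, ha⟩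
    have h2 := congrArg Subtype.val this
    simpa using h2
  · -- two distinct Sylow subgroups
    obtain ⟨R₁, R₂, hne⟩ : ∃ R₁ R₂ : Sylow p (F.autGroup H), R₁ ≠ R₂ := by
      by_contra hcon
      push_neg at hcon
      haveI : Subsingleton (Sylow p (F.autGroup H)) := ⟨hcon⟩
      let R : Sylow p (F.autGroup H) := default
      exact hsyl R R.normal_of_subsingleton
    obtain ⟨ρ, hρ⟩ := exists_injective_GL2 (V := H) p hcomm hexp hcard
    have hf : Function.Injective (ρ.comp (F.autGroup H).subtype) :=
      hρ.comp (F.autGroup H).subtype_injective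
    exact ⟨_, exists_SL2_of_two_sylow p (ρ.comp (F.autGroup H).subtype) hf R₁ R₂ hne⟩

end Cfsg.Agent.S5185
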