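import Mathlib
import Cfsg.Statements.S5226
import Cfsg.Agent.S5086
import Cfsg.Agent.Lib.Helper25.FusionNormal3
import Cfsg.Agent.Lib.Helper25.StabChain

set_option autoImplicit false
open Cfsg

namespace Cfsg.Agent.S5226

open Cfsg.FusionSystem Cfsg.Agent.Helper25
open scoped commutatorElement

variable {Ω : Type*} [Group Ω] {S : Subgroup Ω}

/-- a weakly closed subgroup is normalized by `S` -/
lemma conj_mem_of_weaklyClosed (F : FusionSystem S) {R : Subgroup Ω} (hR : F.WeaklyClosed R)
    {g : Ω} (hg : g ∈ S) {v : Ω} (hv : v ∈ R) : g⁻¹ * v * g ∈ R := by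
  have h1 := hR.2 _ (F.conj_mem hR.1 (S.inv_mem hg))
  have h2 : conjHom R g⁻¹ ⟨v, hv⟩ ∈ (conjHom R g⁻¹).range := ⟨_, rfl⟩
  rw [h1, conjHom_apply, inv_inv] at h2
  exact h2

/-- automorphisms in the system preserve weakly closed subgroups of their domain -/
lemma aut_mem_of_weaklyClosed (F : FusionSystem S) {R P : Subgroup Ω} (hR : F.WeaklyClosed R)
    (hPS : P ≤ S) (hRP : R ≤ P) {α : MulAut P} (hα : α ∈ F.autGroup P) {y : P} (hy : (y : Ω) ∈ R) :
    ((α y : P) : Ω) ∈ R := by
  have hαF := (mem_autGroup_iff F hPS α).mp hα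
  have h1 := restrict_mem F hRP hαF
  have h2 := hR.2 _ h1
  have h3 : ((P.subtype.comp α.toMonoidHom).comp (Subgroup.inclusion hRP)) ⟨y, hy⟩
      ∈ ((P.subtype.comp α.toMonoidHom).comp (Subgroup.inclusion hRP)).range := ⟨_, rfl⟩
  rw [h2] at h3
  have h4 : Subgroup.inclusion hRP ⟨(y : Ω), hy⟩ = y := Subtype.ext rfl
  simpa [h4] using h3

/-- the chain criterion with weakly closed terms, indexed by natural numbers -/
theorem isNormal_of_series_nat [Finite S] (p : ℕ) [Fact p.Prime] (hS : IsPGroup p S)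
    (F : FusionSystem S) (hF : F.IsSaturated p) {Q : Subgroup Ω} (hQ : F.StronglyClosed Q)
    (n : ℕ) (D : ℕ → Subgroup Ω) (h0 : D 0 = ⊥) (hn : D n = Q) (hmono : ∀ k, k < n → D k ≤ D (k + 1))
    (hcomm : ∀ k, k < n → ⁅D (k + 1), Q⁆ ≤ D k) (hwc : ∀ k, k < n → F.WeaklyClosed (D k)) :
    F.IsNormal Q := by
  have hQS : Q ≤ S := hQ.1
  have hQn : ∀ g ∈ S, ∀ v ∈ Q, g⁻¹ * v * g ∈ Q :=
    fun g hg v hv => conj_mem_of_stronglyClosed' F hQ hg hv
  -- basic properties of the terms
  have hDmono : ∀ j k, j ≤ k → k ≤ n → D j ≤ D k := by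
    intro j k hjk
    induction k, hjk using Nat.le_induction with
    | base => intro _; exact le_rfl
    | succ k hjk ih => intro hk; exact (ih (by omega)).trans (hmono k (by omega))
  have hDQ : ∀ k, k ≤ n → D k ≤ Q := fun k hk => hn ▸ hDmono k n hk le_rfl
  have hDS : ∀ k, k ≤ n → D k ≤ S := fun k hk => (hDQ k hk).trans hQS
  have hDn : ∀ k, k ≤ n → ∀ g ∈ S, ∀ v ∈ D k, g⁻¹ * v * g ∈ D k := by
    intro k hk g hg v hv
    rcases Nat.lt_or_ge k n with h | h
    · exact conj_mem_of_weaklyClosed F (hwc k h) hg hv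
    · have : k = n := by omega
      subst this
      rw [hn] at hv ⊢
      exact hQn g hg v hv
  apply (Cfsg.Agent.S5086.result p hS F hF Q).mpr
  refine ⟨hQ, fun P hc hr => ?_⟩
  have hPS : P ≤ S := hc.1
  haveI : Finite P := finite_of_le_finite hPS
  have hPp : IsPGroup p P := hS.to_le hPS
  have key : ∀ i, i ≤ n → D i ≤ P := by
    intro i
    induction i with
    | zero => intro _; rw [h0]; exact bot_le
    | succ i ih =>
      intro hi
      have hiP : D i ≤ P := ih (by omega)
      by_contra hnot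
      obtain ⟨x, hxD, hxN, hxP⟩ := exists_mem_normalizer_not_mem_of_not_le hS hPS (hDS _ hi)
        (hDn _ hi) hnot
      have hxQ : x ∈ Q := hDQ _ hi hxD
      set c : ℕ → Subgroup P := fun k =>
        if k ≤ i then (D k).subgroupOf P else if k = i + 1 then Q.subgroupOf P else ⊤ with hc_def
      have hc_le : ∀ k, k ≤ i → c k = (D k).subgroupOf P := fun k hk => by simp [hc_def, hk]
      have hc_eq : c (i + 1) = Q.subgroupOf P := by simp [hc_def]
      have hc_gt : ∀ k, i + 1 < k → c k = ⊤ := fun k hk => by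
        have h1 : ¬ k ≤ i := by omega
        have h2 : ¬ k = i + 1 := by omega
        simp [hc_def, h1, h2]
      have hcmono : ∀ k, c k ≤ c (k + 1) := by
        intro k
        rcases Nat.lt_trichotomy k i with h | h | h
        · rw [hc_le k (by omega), hc_le (k + 1) (by omega)]
          exact Subgroup.subgroupOf_mono P (hmono k (by omega))
        · subst h
          rw [hc_le k le_rfl, hc_eq]
          exact Subgroup.subgroupOf_mono P (hDQ k (by omega))
        · rw [hc_gt (k + 1) (by omega)]; exact le_top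
      have hcm : c (i + 2) = ⊤ := hc_gt (i + 2) (by omega)
      have hcinv : ∀ k, ∀ α ∈ F.autGroup P, ∀ y ∈ c k, α y ∈ c k := by
        intro k α hα y hy
        rcases Nat.lt_trichotomy k (i + 1) with h | h | h
        · have hk : k ≤ i := by omega
          rw [hc_le k hk] at hy ⊢
          exact Subgroup.mem_subgroupOf.mpr (aut_mem_of_weaklyClosed F (hwc k (by omega)) hPS
            ((hDmono k i hk (by omega)).trans hiP) hα (Subgroup.mem_subgroupOf.mp hy))
        · subst h
          rw [hc_eq] at hy ⊢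
          exact Subgroup.mem_subgroupOf.mpr
            (aut_mem_of_stronglyClosed F hQ hPS hα (Subgroup.mem_subgroupOf.mp hy))
        · rw [hc_gt k h]; trivial
      set β : MulAut P := P.normalizerMonoidHom ⟨x, hxN⟩ with hβ
      have hβA : β ∈ F.autGroup P := by
        apply autInducedBy_le_autGroup F hPS
        exact (mem_autInducedBy_iff β).mpr ⟨x, hQS hxQ, fun y => rfl⟩
      have hβapply : ∀ y : P, ((y⁻¹ * β y : P) : Ω) = (y : Ω)⁻¹ * x * (y : Ω) * x⁻¹ := by
        intro y
        show (y : Ω)⁻¹ * (x * (y : Ω) * x⁻¹) = _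
        group
      have hcommelt : ∀ (y : Ω), ⁅y⁻¹, x⁆ = y⁻¹ * x * y * x⁻¹ := by
        intro y
        rw [commutatorElement_def, inv_inv]
      have hstab : StabilizesChain (F.autGroup P) c β := by
        refine ⟨hβA, fun k y hy => ?_⟩
        rcases Nat.lt_trichotomy k i with h | h | h
        · rw [hc_le (k + 1) (by omega)] at hy
          rw [hc_le k (by omega)]
          apply Subgroup.mem_subgroupOf.mpr
          rw [hβapply, ← hcommelt]
          apply hcomm k (by omega)
          exact Subgroup.commutator_mem_commutator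
            (Subgroup.inv_mem _ (Subgroup.mem_subgroupOf.mp hy)) hxQ
        · subst h
          rw [hc_eq] at hy
          rw [hc_le k le_rfl]
          apply Subgroup.mem_subgroupOf.mpr
          rw [hβapply, ← hcommelt]
          apply hcomm k (by omega)
          rw [Subgroup.commutator_comm]
          exact Subgroup.commutator_mem_commutator
            (Subgroup.inv_mem _ (Subgroup.mem_subgroupOf.mp hy)) hxD
        · rcases Nat.lt_or_ge (i + 1) k with h' | h'
          · rw [hc_gt k h']; trivial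
          · have hk : k = i + 1 := by omega
            subst hk
            rw [hc_eq]
            apply Subgroup.mem_subgroupOf.mpr
            rw [hβapply]
            exact Q.mul_mem (hQn _ (hPS y.2) x hxQ) (Q.inv_mem hxQ)
      have h1 : β ∈ (pCore p (F.autGroup P)).map (F.autGroup P).subtype := by
        refine mem_pCore_of_stabilizesChain p hPp (F.autGroup P) c (i + 2) hcmono hcm hcinv ?_ hstab
        intro α _
        refine ⟨0, fun y hy => ?_⟩
        rw [hc_le 0 (by omega), h0] at hy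
        have : (y : Ω) = 1 := Subgroup.mem_bot.mp (Subgroup.mem_subgroupOf.mp hy)
        have hy1 : y = 1 := Subtype.ext this
        rw [hy1, map_one]
      rw [hr.2] at h1
      exact hxP (mem_of_induces_inner hPS (hc.2 P (isConj_refl F hPS)) h1 (hQS hxQ) (fun y => rfl))
  rw [← hn]
  exact key n le_rfl

/-- the image in `Ω` of a characteristic subgroup of a subgroup normal in the system is weakly closed -/
theorem weaklyClosed_of_characteristic (F : FusionSystem S) {Q : Subgroup Ω} (hQ : F.IsNormal Q)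
    (Z : Subgroup Q) [hZ : Z.Characteristic] : F.WeaklyClosed (Z.map Q.subtype) := by
  have hQS : Q ≤ S := hQ.1
  have hCQ : Z.map Q.subtype ≤ Q := by
    rintro _ ⟨z, -, rfl⟩; exact z.2
  refine ⟨hCQ.trans hQS, fun φ hφ => ?_⟩
  obtain ⟨ψ, hψ, hψφ, himg⟩ := hQ.2 _ φ hφ
  set ψ' : Q →* Ω := ψ.comp (Subgroup.inclusion (le_sup_right : Q ≤ Z.map Q.subtype ⊔ Q)) with hψ'
  have hψ'F : ψ' ∈ F.Hom Q := restrict_mem F le_sup_right hψ
  have hψ'Q : ∀ x : Q, ψ' x ∈ Q := by
    intro x
    have : ψ' x ∈ (Q.subgroupOf (Z.map Q.subtype ⊔ Q)).map ψ := by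
      rw [mem_map_subgroupOf]
      exact ⟨x, le_sup_right (a := Z.map Q.subtype) x.2, x.2, rfl⟩
    rwa [himg] at this
  have hbij : Function.Bijective (ψ'.codRestrict Q hψ'Q) := by
    constructor
    · intro x y hxy
      exact F.injective_of_mem hψ'F (congrArg Subtype.val hxy)
    · intro y
      have : (y : Ω) ∈ (Q.subgroupOf (Z.map Q.subtype ⊔ Q)).map ψ := by rw [himg]; exact y.2
      rw [mem_map_subgroupOf] at this
      obtain ⟨x, hxK, hxQ, hxy⟩ := this
      refine ⟨⟨x, hxQ⟩, Subtype.ext ?_⟩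
      exact hxy
  set α : Q ≃* Q := MulEquiv.ofBijective (ψ'.codRestrict Q hψ'Q) hbij with hα
  have hαφ : ∀ (z : Q) (hz : (z : Ω) ∈ Z.map Q.subtype), ((α z : Q) : Ω) = φ ⟨z, hz⟩ := by
    intro z hz
    rw [← hψφ]
    rfl
  have hchar : Z.map α.toMonoidHom = Z := Subgroup.characteristic_iff_map_eq.mp hZ α
  ext y
  constructor
  · rintro ⟨x, rfl⟩
    obtain ⟨z, hz, hzx⟩ := x.2
    have hmem : ((z : Q) : Ω) ∈ Z.map Q.subtype := ⟨z, hz, rfl⟩
    have hx' : x = ⟨((z : Q) : Ω), hmem⟩ := Subtype.ext hzx.symm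
    have h1 := hαφ z hmem
    rw [hx']
    have : α z ∈ Z.map α.toMonoidHom := ⟨z, hz, rfl⟩
    rw [hchar] at this
    have h2 : ((α z : Q) : Ω) ∈ Z.map Q.subtype := ⟨α z, this, rfl⟩
    rw [h1] at h2
    exact h2
  · rintro ⟨z, hz, rfl⟩
    have : z ∈ Z.map α.toMonoidHom := by rw [hchar]; exact hz
    obtain ⟨z', hz', hzz'⟩ := this
    have hmem : ((z' : Q) : Ω) ∈ Z.map Q.subtype := ⟨z', hz', rfl⟩
    refine ⟨⟨z', hmem⟩, ?_⟩
    rw [← hαφ z' hmem]
    exact congrArg Subtype.val hzz'

/-- Let F be a saturated fusion system over a finite p-group S and Q a subgroup of S. Then Q is normal in F (F equals the normalizer system of Q) if and only if Q is strongly closed in F and admits a central series 1 = Q₀ ≤ Q₁ ≤ ⋯ ≤ Qₙ = Q ([Qᵢ₊₁, Q] ≤ Qᵢ) all of whose proper terms are weakly closed in F. -/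
theorem result {Ω : Type*} [Group Ω] {S : Subgroup Ω} [Finite S] (p : ℕ) [Fact p.Prime] (hS : IsPGroup p S) (F : Cfsg.FusionSystem S) (hF : F.IsSaturated p) (Q : Subgroup Ω) : F.IsNormal Q ↔ F.StronglyClosed Q ∧ ∃ (n : ℕ) (C : Fin (n + 1) → Subgroup Ω), C 0 = ⊥ ∧ C (Fin.last n) = Q ∧ Monotone C ∧ (∀ i : Fin n, ⁅C i.succ, Q⁆ ≤ C i.castSucc) ∧ ∀ i : Fin n, F.WeaklyClosed (C i.castSucc) := by
  constructor
  · intro hQ
    refine ⟨stronglyClosed_of_isNormal F hQ, ?_⟩
    have hQS : Q ≤ S := hQ.1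
    haveI : Finite Q := finite_of_le_finite hQS
    have hQp : IsPGroup p Q := hS.to_le hQS
    haveI : Group.IsNilpotent Q := hQp.isNilpotent
    obtain ⟨n, hn⟩ := Group.IsNilpotent.nilpotent Q
    refine ⟨n, fun i => (Subgroup.upperCentralSeries Q i.val).map Q.subtype, ?_, ?_, ?_, ?_, ?_⟩
    · show (Subgroup.upperCentralSeries Q 0).map Q.subtype = ⊥
      rw [Subgroup.upperCentralSeries_zero, Subgroup.map_bot]
    · show (Subgroup.upperCentralSeries Q n).map Q.subtype = Q
      rw [hn, ← MonoidHom.range_eq_map, Subgroup.range_subtype]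
    · intro i j hij
      exact Subgroup.map_mono (Subgroup.upperCentralSeries_mono Q hij)
    · intro i
      show ⁅(Subgroup.upperCentralSeries Q (i.val + 1)).map Q.subtype, Q⁆
        ≤ (Subgroup.upperCentralSeries Q i.val).map Q.subtype
      have hQtop : ⁅(Subgroup.upperCentralSeries Q (i.val + 1)).map Q.subtype, Q⁆
          = (⁅Subgroup.upperCentralSeries Q (i.val + 1), (⊤ : Subgroup Q)⁆).map Q.subtype := by
        rw [Subgroup.map_commutator, ← MonoidHom.range_eq_map, Subgroup.range_subtype]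
      rw [hQtop]
      apply Subgroup.map_mono
      rw [Subgroup.commutator_le]
      intro g₁ h₁ g₂ _
      exact (Subgroup.mem_upperCentralSeries_succ_iff.mp h₁) g₂
    · intro i
      exact weaklyClosed_of_characteristic F hQ _
  · rintro ⟨hQ, n, C, h0, hn, hmono, hcomm, hwc⟩
    have hlt : ∀ k, min k n < n + 1 := fun k => Nat.lt_succ_of_le (Nat.min_le_right k n)
    refine isNormal_of_series_nat p hS F hF hQ n (fun k => C ⟨min k n, hlt k⟩) ?_ ?_ ?_ ?_ ?_
    · have h1 : (⟨min 0 n, hlt 0⟩ : Fin (n + 1)) = 0 := Fin.ext (by simp)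
      show C ⟨min 0 n, _⟩ = ⊥
      rw [h1, h0]
    · have h1 : (⟨min n n, hlt n⟩ : Fin (n + 1)) = Fin.last n := Fin.ext (by simp)
      show C ⟨min n n, _⟩ = Q
      rw [h1, hn]
    · intro k hk
      apply hmono
      show min k n ≤ min (k + 1) n
      omega
    · intro k hk
      have h1 : (⟨min (k + 1) n, hlt (k + 1)⟩ : Fin (n + 1)) = (⟨k, hk⟩ : Fin n).succ := by
        apply Fin.ext
        show min (k + 1) n = k + 1
        omega
      have h2 : (⟨min k n, hlt k⟩ : Fin (n + 1)) = (⟨k, hk⟩ : Fin n).castSucc := by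
        apply Fin.ext
        show min k n = k
        omega
      show ⁅C ⟨min (k + 1) n, _⟩, Q⁆ ≤ C ⟨min k n, _⟩
      rw [h1, h2]
      exact hcomm ⟨k, hk⟩
    · intro k hk
      have h2 : (⟨min k n, hlt k⟩ : Fin (n + 1)) = (⟨k, hk⟩ : Fin n).castSucc := by
        apply Fin.ext
        show min k n = k
        omega
      show F.WeaklyClosed (C ⟨min k n, _⟩)
      rw [h2]
      exact hwc ⟨k, hk⟩

end Cfsg.Agent.S5226
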