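import Mathlib
import Cfsg.Statements.S5290
import Cfsg.Agent.S5226

set_option autoImplicit false
open Cfsg

namespace Cfsg.Agent.S5290

open Cfsg.FusionSystem Cfsg.Agent.Helper25

variable {Ω : Type*} [Group Ω] {S : Subgroup Ω}

/-- the inner system of a `p`-group is saturated -/
theorem inner_isSaturated (p : ℕ) [Fact p.Prime] {Q : Subgroup Ω} (hQp : IsPGroup p Q) :
    (innerFusionSystem Q).IsSaturated p := by
  set E := innerFusionSystem Q with hE
  intro P hP
  refine ⟨P, isConj_refl _ hP, ?_, hP, ?_⟩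
  · rw [isFullyAutomized_iff E p hP]
    have hle : E.autGroup P ≤ autInducedBy Q P := by
      unfold FusionSystem.autGroup
      rw [Subgroup.closure_le]
      rintro α ⟨-, g, hg, h⟩
      exact (mem_autInducedBy_iff α).2 ⟨g, hg, fun x => h x⟩
    refine ⟨autInducedBy_le_autGroup E hP, isPGroup_autInducedBy hQp P, fun L hL _ hHL => ?_⟩
    exact le_antisymm (hL.trans hle) hHL
  · intro P' φ hφ _
    obtain ⟨hP', g, hg, h⟩ := hφ
    refine ⟨conjHom (extender Q P' φ) g, E.conj_mem (extender_le Q φ) hg, fun x hxP hxN => ?_⟩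
    rw [conjHom_apply, h]

/-- every map of `F` on a subgroup of `Q` is the restriction of an `F`-automorphism of `Q` -/
def ExtendsToAut (F : FusionSystem S) (Q : Subgroup Ω) : Prop :=
  ∀ (P : Subgroup Ω), P ≤ Q → ∀ φ ∈ F.Hom P, ∃ α ∈ F.autGroup Q,
    ∀ (x : P) (hx : (x : Ω) ∈ Q), ((α ⟨x, hx⟩ : Q) : Ω) = φ x

theorem extendsToAut_of_isNormal (F : FusionSystem S) {Q : Subgroup Ω} (hQ : F.IsNormal Q) :
    ExtendsToAut F Q := by
  intro P hPQ φ hφ
  have hQS : Q ≤ S := hQ.1
  obtain ⟨ψ, hψ, hψφ, himg⟩ := hQ.2 _ φ hφ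
  set ψ' : Q →* Ω := ψ.comp (Subgroup.inclusion (le_sup_right : Q ≤ P ⊔ Q)) with hψ'
  have hψ'F : ψ' ∈ F.Hom Q := restrict_mem F le_sup_right hψ
  have hψ'Q : ∀ x : Q, ψ' x ∈ Q := by
    intro x
    have : ψ' x ∈ (Q.subgroupOf (P ⊔ Q)).map ψ := by
      rw [mem_map_subgroupOf]
      exact ⟨x, le_sup_right (a := P) x.2, x.2, rfl⟩
    rwa [himg] at this
  have hbij : Function.Bijective (ψ'.codRestrict Q hψ'Q) := by
    constructor
    · intro x y hxy
      exact F.injective_of_mem hψ'F (congrArg Subtype.val hxy)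
    · intro y
      have : (y : Ω) ∈ (Q.subgroupOf (P ⊔ Q)).map ψ := by rw [himg]; exact y.2
      rw [mem_map_subgroupOf] at this
      obtain ⟨x, hxK, hxQ, hxy⟩ := this
      refine ⟨⟨x, hxQ⟩, Subtype.ext ?_⟩
      exact hxy
  set α : MulAut Q := MulEquiv.ofBijective (ψ'.codRestrict Q hψ'Q) hbij with hα
  refine ⟨α, ?_, fun x hx => ?_⟩
  · rw [mem_autGroup_iff F hQS]
    have : Q.subtype.comp α.toMonoidHom = ψ' := by
      ext x; rfl
    rw [this]; exact hψ'F
  · rw [← hψφ]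
    rfl

/-- characteristic subgroups of `Q` are weakly closed when maps extend to automorphisms of `Q` -/
theorem weaklyClosed_of_extendsToAut (F : FusionSystem S) {Q : Subgroup Ω} (hQS : Q ≤ S)
    (hext : ExtendsToAut F Q) (Z : Subgroup Q) [hZ : Z.Characteristic] :
    F.WeaklyClosed (Z.map Q.subtype) := by
  have hCQ : Z.map Q.subtype ≤ Q := by
    rintro _ ⟨z, -, rfl⟩; exact z.2
  refine ⟨hCQ.trans hQS, fun φ hφ => ?_⟩
  obtain ⟨α, -, hαφ⟩ := hext _ hCQ φ hφ
  have hchar : Z.map α.toMonoidHom = Z := Subgroup.characteristic_iff_map_eq.mp hZ α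
  ext y
  constructor
  · rintro ⟨x, rfl⟩
    obtain ⟨z, hz, hzx⟩ := x.2
    have hmem : ((z : Q) : Ω) ∈ Z.map Q.subtype := ⟨z, hz, rfl⟩
    have hx' : x = ⟨((z : Q) : Ω), hmem⟩ := Subtype.ext hzx.symm
    have h1 := hαφ ⟨((z : Q) : Ω), hmem⟩ z.2
    rw [hx']
    have : α z ∈ Z.map α.toMonoidHom := ⟨z, hz, rfl⟩
    rw [hchar] at this
    have h2 : ((α z : Q) : Ω) ∈ Z.map Q.subtype := ⟨α z, this, rfl⟩
    rw [← h1]
    exact h2
  · rintro ⟨z, hz, rfl⟩
    have : z ∈ Z.map α.toMonoidHom := by rw [hchar]; exact hz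
    obtain ⟨z', hz', hzz'⟩ := this
    have hmem : ((z' : Q) : Ω) ∈ Z.map Q.subtype := ⟨z', hz', rfl⟩
    refine ⟨⟨z', hmem⟩, ?_⟩
    rw [← hαφ ⟨((z' : Q) : Ω), hmem⟩ z'.2]
    exact congrArg Subtype.val hzz'

/-- a strongly closed subgroup all of whose maps extend to automorphisms is normal in the system -/
theorem isNormal_of_extendsToAut [Finite S] (p : ℕ) [Fact p.Prime] (hS : IsPGroup p S)
    (F : FusionSystem S) (hF : F.IsSaturated p) {Q : Subgroup Ω} (hQ : F.StronglyClosed Q)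
    (hext : ExtendsToAut F Q) : F.IsNormal Q := by
  have hQS : Q ≤ S := hQ.1
  haveI : Finite Q := finite_of_le_finite hQS
  have hQp : IsPGroup p Q := hS.to_le hQS
  haveI : Group.IsNilpotent Q := hQp.isNilpotent
  obtain ⟨n, hn⟩ := Group.IsNilpotent.nilpotent Q
  refine Cfsg.Agent.S5226.isNormal_of_series_nat p hS F hF hQ n
    (fun k => (Subgroup.upperCentralSeries Q k).map Q.subtype) ?_ ?_ ?_ ?_ ?_
  · show (Subgroup.upperCentralSeries Q 0).map Q.subtype = ⊥
    rw [Subgroup.upperCentralSeries_zero, Subgroup.map_bot]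
  · show (Subgroup.upperCentralSeries Q n).map Q.subtype = Q
    rw [hn, ← MonoidHom.range_eq_map, Subgroup.range_subtype]
  · intro k _
    exact Subgroup.map_mono (Subgroup.upperCentralSeries_mono Q (Nat.le_succ k))
  · intro k _
    show ⁅(Subgroup.upperCentralSeries Q (k + 1)).map Q.subtype, Q⁆
      ≤ (Subgroup.upperCentralSeries Q k).map Q.subtype
    have hQtop : ⁅(Subgroup.upperCentralSeries Q (k + 1)).map Q.subtype, Q⁆
        = (⁅Subgroup.upperCentralSeries Q (k + 1), (⊤ : Subgroup Q)⁆).map Q.subtype := by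
      rw [Subgroup.map_commutator, ← MonoidHom.range_eq_map, Subgroup.range_subtype]
    rw [hQtop]
    apply Subgroup.map_mono
    rw [Subgroup.commutator_le]
    intro g₁ h₁ g₂ _
    exact (Subgroup.mem_upperCentralSeries_succ_iff.mp h₁) g₂
  · intro k _
    exact weaklyClosed_of_extendsToAut F hQS hext _

/-- Let F be a saturated fusion system over a finite p-group S and Q a subgroup of S. Then Q is normal in F (F = N_F(Q)) if and only if the inner fusion system of Q, consisting of the conjugations by elements of Q on subgroups of Q, is a weakly normal subsystem of F (both saturated, Q strongly closed, invariant under F-conjugation, with the Frattini property). -/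
theorem result {Ω : Type*} [Group Ω] {S : Subgroup Ω} [Finite S] (p : ℕ) [Fact p.Prime] (hS : IsPGroup p S)
    (F : Cfsg.FusionSystem S) (hF : F.IsSaturated p)
    (Q : Subgroup Ω) (hQ : Q ≤ S) :
    F.IsNormal Q ↔ (Cfsg.innerFusionSystem Q).IsWeaklyNormalIn F p := by
  have hQp : IsPGroup p Q := hS.to_le hQ
  constructor
  · intro hN
    have hext := extendsToAut_of_isNormal F hN
    refine ⟨inner_isSaturated p hQp, hF, ?_, stronglyClosed_of_isNormal F hN, ?_, ?_⟩
    · -- subsystem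
      rintro P φ ⟨hP, g, hg, h⟩
      have : φ = conjHom P g := by
        ext x; rw [h x, conjHom_apply]
      rw [this]
      exact F.conj_mem (hP.trans hQ) (hQ hg)
    · -- invariance
      rintro P hPT φ ⟨-, g, hg, h⟩ α _
      have hP'Q : (P.subgroupOf Q).map (Q.subtype.comp α.toMonoidHom) ≤ Q := by
        rintro _ ⟨y, -, rfl⟩
        exact (α y).2
      refine ⟨conjHom _ ((α ⟨g, hg⟩ : Q) : Ω),
        (innerFusionSystem Q).conj_mem hP'Q (α ⟨g, hg⟩).2, fun x hφx hαx => ?_⟩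
      rw [conjHom_apply]
      have h1 : (⟨φ x, hφx⟩ : Q) = ⟨g, hg⟩ * ⟨x, hPT x.2⟩ * (⟨g, hg⟩ : Q)⁻¹ := Subtype.ext (h x)
      rw [h1, map_mul, map_mul, map_inv]
      rfl
    · -- Frattini
      intro P hPT φ hφ
      obtain ⟨α, hα, hαφ⟩ := hext P hPT φ hφ
      refine ⟨α, hα, P.subtype, ⟨hPT, 1, Q.one_mem, fun x => by simp⟩, fun x hx => ?_⟩
      exact (hαφ x hx).symm
  · rintro ⟨-, -, -, hsc, -, hfr⟩
    apply isNormal_of_extendsToAut p hS F hF hsc
    intro P hPQ φ hφ
    obtain ⟨α, hα, φ₀, ⟨-, g, hg, h⟩, hφα⟩ := hfr P hPQ φ hφ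
    have hconj : MulAut.conj (⟨g, hg⟩ : Q) ∈ F.autGroup Q := by
      rw [mem_autGroup_iff F hQ]
      have : Q.subtype.comp (MulAut.conj (⟨g, hg⟩ : Q)).toMonoidHom = conjHom Q g := by
        ext x; rfl
      rw [this]
      exact F.conj_mem hQ (hQ hg)
    refine ⟨α * MulAut.conj (⟨g, hg⟩ : Q), Subgroup.mul_mem _ hα hconj, fun x hx => ?_⟩
    have hφ₀x : φ₀ x ∈ Q := by
      rw [h x]
      exact Q.mul_mem (Q.mul_mem hg hx) (Q.inv_mem hg)
    rw [hφα x hφ₀x, MulAut.mul_apply]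
    congr 2
    apply Subtype.ext
    show g * (x : Ω) * g⁻¹ = φ₀ x
    exact (h x).symm

end Cfsg.Agent.S5290
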