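import Mathlib
import Cfsg.Statements.S5291
import Cfsg.Agent.Lib.Helper26.FusionInvariant
import Cfsg.Agent.Lib.Helper25.FusionNormal3
import Cfsg.Agent.Lib.Helper25.FusionRecept
import Cfsg.Agent.Lib.Helper25.StabChain

set_option autoImplicit false
open Cfsg

namespace Cfsg.Agent.S5291

open Cfsg.FusionSystem Cfsg.Agent.Helper25 Cfsg.Agent.Helper26

variable {Ω : Type*} [Group Ω] {S : Subgroup Ω}

/-- the subgroup generated by the images of `R` under the maps of `F` -/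
abbrev star (F : FusionSystem S) (R : Subgroup Ω) : Subgroup Ω :=
  Subgroup.closure {x : Ω | ∃ φ ∈ F.Hom R, ∃ r : R, x = φ r}

section

variable [Finite S] (p : ℕ) [Fact p.Prime] (F : FusionSystem S) {T : Subgroup Ω}
  (E : FusionSystem T) (hE : E.IsWeaklyNormalIn F p) {R : Subgroup Ω} (hR : E.IsNormal R)

include hE hR

/-- `R*` is the join of the images of `R` under `Aut_F(T)` -/
lemma star_eq_sSup : star F R = sSup {Q : Subgroup Ω | ∃ α ∈ F.autGroup T, Q = autImage α R} := by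
  obtain ⟨-, -, hEF, hT, -, hfrat⟩ := hE
  have hTS : T ≤ S := hT.1
  have hRT : R ≤ T := hR.1
  apply le_antisymm
  · rw [Subgroup.closure_le]
    rintro x ⟨φ, hφ, r, rfl⟩
    obtain ⟨α, hα, φ₀, hφ₀, hspec⟩ := hfrat R hRT φ hφ
    have hr : φ₀ r ∈ R := (stronglyClosed_of_isNormal E hR).2 R le_rfl φ₀ hφ₀ r
    have hmem : φ r ∈ autImage α R := by
      rw [hspec r (hRT hr)]
      exact mem_autImage.mpr ⟨⟨φ₀ r, hRT hr⟩, hr, rfl⟩
    have hin : autImage α R ∈ {Q : Subgroup Ω | ∃ α ∈ F.autGroup T, Q = autImage α R} :=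
      ⟨α, hα, rfl⟩
    exact (le_sSup hin) hmem
  · apply sSup_le
    rintro Q ⟨α, hα, rfl⟩
    intro y hy
    obtain ⟨x, hx, rfl⟩ := mem_autImage.mp hy
    apply Subgroup.subset_closure
    have hαF := (mem_autGroup_iff F hTS α).mp hα
    exact ⟨_, restrict_mem F hRT hαF, ⟨x, hx⟩, rfl⟩

lemma star_le : star F R ≤ T := by
  rw [star_eq_sSup p F E hE hR]
  apply sSup_le
  rintro Q ⟨α, -, rfl⟩
  exact autImage_le α R

/-- `R*` is normal in `E` -/
lemma star_isNormal : E.IsNormal (star F R) := by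
  have hTS : T ≤ S := hE.2.2.2.1.1
  haveI : Finite T := finite_of_le_finite hTS
  rw [star_eq_sSup p F E hE hR]
  apply sSup_induction_of_finite T _ _ E.IsNormal (isNormal_bot E) (fun Q Q' h h' => isNormal_sup E h h')
  · rintro Q ⟨α, hα, rfl⟩
    exact isNormal_autImage F E hE.2.2 hR hα
  · rintro Q ⟨α, -, rfl⟩
    exact autImage_le α R

/-- `R*` is invariant under `Aut_F(T)` -/
lemma star_invariant {α : MulAut T} (hα : α ∈ F.autGroup T) (y : T) (hy : (y : Ω) ∈ star F R) :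
    ((α y : T) : Ω) ∈ star F R := by
  have hT : F.StronglyClosed T := hE.2.2.2.1
  have hTS : T ≤ S := hT.1
  have hRT : R ≤ T := hR.1
  have hle := star_le p F E hE hR
  have key : ∀ z ∈ star F R, ∀ hz : z ∈ T, ((α ⟨z, hz⟩ : T) : Ω) ∈ star F R := by
    intro z hz
    induction hz using Subgroup.closure_induction with
    | mem z hz =>
      intro hzT
      obtain ⟨φ, hφ, r, rfl⟩ := hz
      apply Subgroup.subset_closure
      have hφT : ∀ x : R, φ x ∈ T := fun x => hT.2 R hRT φ hφ x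
      have hαF := (mem_autGroup_iff F hTS α).mp hα
      exact ⟨_, F.comp_mem hφ hαF hφT, r, rfl⟩
    | one =>
      intro h1
      have : (⟨1, h1⟩ : T) = 1 := rfl
      rw [this, map_one]
      exact Subgroup.one_mem _
    | mul a b ha hb iha ihb =>
      intro hab
      have haT : a ∈ T := hle ha
      have hbT : b ∈ T := hle hb
      have : (⟨a * b, hab⟩ : T) = ⟨a, haT⟩ * ⟨b, hbT⟩ := rfl
      rw [this, map_mul]
      exact Subgroup.mul_mem _ (iha haT) (ihb hbT)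
    | inv a ha iha =>
      intro hai
      have haT : a ∈ T := hle ha
      have : (⟨a⁻¹, hai⟩ : T) = ⟨a, haT⟩⁻¹ := rfl
      rw [this, map_inv]
      exact Subgroup.inv_mem _ (iha haT)
  exact key y hy y.2

/-- `R*` is strongly closed in `F` -/
lemma star_stronglyClosed : F.StronglyClosed (star F R) := by
  have hT : F.StronglyClosed T := hE.2.2.2.1
  have hTS : T ≤ S := hT.1
  have hle := star_le p F E hE hR
  refine ⟨hle.trans hTS, fun X hX φ hφ x => ?_⟩
  obtain ⟨α, hα, φ₀, hφ₀, hspec⟩ := hE.2.2.2.2.2 X (hX.trans hle) φ hφ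
  have hx : φ₀ x ∈ star F R :=
    (stronglyClosed_of_isNormal E (star_isNormal p F E hE hR)).2 X hX φ₀ hφ₀ x
  rw [hspec x (hle hx)]
  exact star_invariant p F E hE hR hα ⟨φ₀ x, hle hx⟩ hx

/-- conjugation by an element of `R*` transported by a map of `F` is conjugation by an element of `R*` -/
lemma conj_formula {P₀ : Subgroup Ω} (hP₀ : P₀ ≤ T) {χ : P₀ →* Ω} (hχ : χ ∈ F.Hom P₀) {x : Ω}
    (hx : x ∈ star F R) (hxN : ∀ z ∈ P₀, x * z * x⁻¹ ∈ P₀) :
    ∃ x' ∈ star F R, ∀ z : P₀, χ ⟨x * z * x⁻¹, hxN z z.2⟩ = x' * χ z * x'⁻¹ := by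
  have hle := star_le p F E hE hR
  obtain ⟨α, hα, φ₀, hφ₀, hspec⟩ := hE.2.2.2.2.2 P₀ hP₀ χ hχ
  obtain ⟨ψ, hψ, hψext, hψimg⟩ := (star_isNormal p F E hE hR).2 P₀ φ₀ hφ₀
  have hψT : ∀ y, ψ y ∈ T := (E.le_of_mem hψ).2
  have hφ₀T : ∀ y, φ₀ y ∈ T := (E.le_of_mem hφ₀).2
  have hxK : x ∈ P₀ ⊔ star F R := le_sup_right (a := P₀) hx
  have hψx : ψ ⟨x, hxK⟩ ∈ star F R :=
    hψimg.le ((mem_map_subgroupOf ψ).mpr ⟨x, hxK, hx, rfl⟩)
  refine ⟨((α ⟨ψ ⟨x, hxK⟩, hψT _⟩ : T) : Ω),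
    star_invariant p F E hE hR hα ⟨ψ ⟨x, hxK⟩, hψT _⟩ hψx, fun z => ?_⟩
  rw [hspec _ (hφ₀T _), hspec z (hφ₀T z)]
  have h1 : φ₀ ⟨x * z * x⁻¹, hxN z z.2⟩ = ψ ⟨x, hxK⟩ * φ₀ z * (ψ ⟨x, hxK⟩)⁻¹ := by
    rw [← hψext, ← hψext z, ← map_inv, ← map_mul, ← map_mul]
    congr 1
  have h2 : (⟨φ₀ ⟨x * z * x⁻¹, hxN z z.2⟩, hφ₀T _⟩ : T)
      = ⟨ψ ⟨x, hxK⟩, hψT _⟩ * ⟨φ₀ z, hφ₀T z⟩ * ⟨ψ ⟨x, hxK⟩, hψT _⟩⁻¹ := Subtype.ext h1
  rw [h2, map_mul, map_mul, map_inv]
  rfl

/-- conjugation by an element of `R*` normalizing `P` lies in `O_p(Aut_F(P))` -/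
lemma conj_mem_pCore (hS : IsPGroup p S) {P : Subgroup Ω} (hPS : P ≤ S) {x : Ω} (hx : x ∈ star F R)
    (hxN : x ∈ Subgroup.normalizer (P : Set Ω)) :
    P.normalizerMonoidHom ⟨x, hxN⟩ ∈ (pCore p (F.autGroup P)).map (F.autGroup P).subtype := by
  classical
  have hT : F.StronglyClosed T := hE.2.2.2.1
  have hTS : T ≤ S := hT.1
  have hle := star_le p F E hE hR
  haveI : Finite P := finite_of_le_finite hPS
  haveI : Finite (MulAut P) :=
    Finite.of_injective (fun α : MulAut P => (α : P → P)) DFunLike.coe_injective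
  have hPp : IsPGroup p P := hS.to_le hPS
  obtain ⟨n, hn⟩ := hPp.exists_card_eq
  let Cond : MulAut P → Prop := fun β => β ∈ F.autGroup P ∧ (∀ y : P, ((y⁻¹ * β y : P) : Ω) ∈ T) ∧
    ∃ x ∈ star F R, ∀ z : P, (z : Ω) ∈ T → ((β z : P) : Ω) = x * (z : Ω) * x⁻¹
  have hC1 : Cond 1 := ⟨Subgroup.one_mem _, fun y => by simp, 1, Subgroup.one_mem _, fun z _ => by simp⟩
  have hCmul : ∀ a b, Cond a → Cond b → Cond (a * b) := by
    rintro a b ⟨haA, ha1, xa, hxa, ha2⟩ ⟨hbA, hb1, xb, hxb, hb2⟩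
    refine ⟨Subgroup.mul_mem _ haA hbA, fun y => ?_, xa * xb, Subgroup.mul_mem _ hxa hxb, fun z hz => ?_⟩
    · have h1 := hb1 y
      have h2 := ha1 (b y)
      have e : ((y⁻¹ * (a * b) y : P) : Ω)
          = ((y⁻¹ * b y : P) : Ω) * (((b y)⁻¹ * a (b y) : P) : Ω) := by
        simp [MulAut.mul_apply]
      rw [e]
      exact T.mul_mem h1 h2
    · have hbz : ((b z : P) : Ω) ∈ T := by
        rw [hb2 z hz]
        exact T.mul_mem (T.mul_mem (hle hxb) hz) (T.inv_mem (hle hxb))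
      rw [MulAut.mul_apply, ha2 (b z) hbz, hb2 z hz]
      group
  have hCpow : ∀ a (k : ℕ), Cond a → Cond (a ^ k) := by
    intro a k ha
    induction k with
    | zero => simpa using hC1
    | succ k ih => rw [pow_succ]; exact hCmul _ _ ih ha
  have hCinv : ∀ a, Cond a → Cond a⁻¹ := by
    intro a ha
    have h1 : a ^ (orderOf a - 1) * a = 1 := by
      rw [← pow_succ, Nat.sub_add_cancel (orderOf_pos a), pow_orderOf_eq_one]
    have h2 : a⁻¹ = a ^ (orderOf a - 1) := (eq_inv_of_mul_eq_one_left h1).symm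
    rw [h2]; exact hCpow a _ ha
  let C : Subgroup (MulAut P) :=
    { carrier := {a | Cond a}
      one_mem' := hC1
      mul_mem' := fun ha hb => hCmul _ _ ha hb
      inv_mem' := fun ha => hCinv _ ha }
  have hCnormal : (C.subgroupOf (F.autGroup P)).Normal := by
    constructor
    rintro ⟨c, hcA⟩ hc ⟨g, hgA⟩
    obtain ⟨-, hc1, xc, hxc, hc2⟩ : Cond c := Subgroup.mem_subgroupOf.mp hc
    apply Subgroup.mem_subgroupOf.mpr
    show Cond (g * c * g⁻¹)
    have hginvA : g⁻¹ ∈ F.autGroup P := Subgroup.inv_mem _ hgA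
    refine ⟨Subgroup.mul_mem _ (Subgroup.mul_mem _ hgA hcA) hginvA, fun y => ?_, ?_⟩
    · have h1 := hc1 (g⁻¹ y)
      have h2 := aut_mem_of_stronglyClosed F hT hPS hgA h1
      have e : g ((g⁻¹ y)⁻¹ * c (g⁻¹ y)) = y⁻¹ * (g * c * g⁻¹) y := by
        rw [map_mul, map_inv, MulAut.apply_inv_self, MulAut.mul_apply, MulAut.mul_apply]
      rw [e] at h2
      exact h2
    · -- the transported conjugating element
      have hgF : (P.subtype.comp g.toMonoidHom).comp (Subgroup.inclusion (inf_le_left : P ⊓ T ≤ P))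
          ∈ F.Hom (P ⊓ T) := restrict_mem F inf_le_left ((mem_autGroup_iff F hPS g).mp hgA)
      have hxcN : ∀ z ∈ P ⊓ T, xc * z * xc⁻¹ ∈ P ⊓ T := by
        intro z hz
        have h1 := hc2 ⟨z, hz.1⟩ hz.2
        refine ⟨?_, T.mul_mem (T.mul_mem (hle hxc) hz.2) (T.inv_mem (hle hxc))⟩
        rw [← h1]; exact (c ⟨z, hz.1⟩).2
      obtain ⟨x', hx', hx'spec⟩ := conj_formula p F E hE hR (inf_le_right : P ⊓ T ≤ T) hgF hxc hxcN
      refine ⟨x', hx', fun w hw => ?_⟩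
      have hz : ((g⁻¹ w : P) : Ω) ∈ T := aut_mem_of_stronglyClosed F hT hPS hginvA hw
      have h1 := hx'spec ⟨((g⁻¹ w : P) : Ω), ⟨(g⁻¹ w).2, hz⟩⟩
      have h2 := hc2 (g⁻¹ w) hz
      have e1 : ((P.subtype.comp g.toMonoidHom).comp (Subgroup.inclusion (inf_le_left : P ⊓ T ≤ P)))
          ⟨((g⁻¹ w : P) : Ω), ⟨(g⁻¹ w).2, hz⟩⟩ = (w : Ω) := by
        show ((g (Subgroup.inclusion (inf_le_left : P ⊓ T ≤ P) ⟨((g⁻¹ w : P) : Ω), _⟩) : P) : Ω) = w
        have : Subgroup.inclusion (inf_le_left : P ⊓ T ≤ P) ⟨((g⁻¹ w : P) : Ω), ⟨(g⁻¹ w).2, hz⟩⟩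
            = g⁻¹ w := Subtype.ext rfl
        rw [this, MulAut.apply_inv_self]
      rw [e1] at h1
      rw [← h1]
      show ((g (c (g⁻¹ w)) : P) : Ω) = ((g (Subgroup.inclusion (inf_le_left : P ⊓ T ≤ P) _) : P) : Ω)
      congr 2
      exact Subtype.ext h2
  have hCp : IsPGroup p C := by
    rintro ⟨c, hc⟩
    have hcC : Cond c := hc
    obtain ⟨hcA, hc1, xc, hxc, hc2⟩ := hcC
    obtain ⟨k, hk⟩ := hS ⟨xc, hTS (hle hxc)⟩
    have hk' : xc ^ p ^ k = 1 := by
      have := congrArg Subtype.val hk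
      simpa using this
    have hpow : ∀ (j : ℕ) (z : P), (z : Ω) ∈ T → (((c ^ j) z : P) : Ω) = xc ^ j * (z : Ω) * (xc ^ j)⁻¹ := by
      intro j
      induction j with
      | zero => intro z _; simp
      | succ j ih =>
        intro z hz
        have hcz : ((c z : P) : Ω) ∈ T := by
          rw [hc2 z hz]
          exact T.mul_mem (T.mul_mem (hle hxc) hz) (T.inv_mem (hle hxc))
        rw [pow_succ, MulAut.mul_apply, ih (c z) hcz, hc2 z hz, pow_succ]
        group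
    have hfixT : ∀ u ∈ T.subgroupOf P, (c ^ p ^ k) u = u := by
      intro u hu
      apply Subtype.ext
      rw [hpow (p ^ k) u (Subgroup.mem_subgroupOf.mp hu), hk']
      simp
    have hγ : Cond (c ^ p ^ k) := hCpow c _ hc
    have hfix := pow_fixes_of_stabilizes (U := T.subgroupOf P) (V := ⊤) (β := c ^ p ^ k) hfixT
      (fun y _ => Subgroup.mem_subgroupOf.mpr (hγ.2.1 y)) (N := p ^ n)
      (fun u _ => by rw [← hn]; exact pow_card_eq_one')
    refine ⟨k + n, Subtype.ext ?_⟩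
    show c ^ p ^ (k + n) = 1
    ext y
    rw [pow_add, pow_mul]
    exact congrArg Subtype.val (hfix y trivial)
  have hC' : IsPGroup p (C.subgroupOf (F.autGroup P)) :=
    hCp.comap_of_injective (F.autGroup P).subtype (F.autGroup P).subtype_injective
  have hleC : C.subgroupOf (F.autGroup P) ≤ pCore p (F.autGroup P) := le_pCore' hCnormal hC'
  have hcxA : P.normalizerMonoidHom ⟨x, hxN⟩ ∈ F.autGroup P :=
    autInducedBy_le_autGroup F hPS
      ((mem_autInducedBy_iff _).2 ⟨x, hTS (hle hx), fun y => rfl⟩)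
  have hcxC : Cond (P.normalizerMonoidHom ⟨x, hxN⟩) := by
    refine ⟨hcxA, fun y => ?_, x, hx, fun z _ => rfl⟩
    show (y : Ω)⁻¹ * (x * (y : Ω) * x⁻¹) ∈ T
    have h1 : (y : Ω)⁻¹ * x * (y : Ω) ∈ T := conj_mem_of_stronglyClosed' F hT (hPS y.2) (hle hx)
    have e : (y : Ω)⁻¹ * (x * (y : Ω) * x⁻¹) = ((y : Ω)⁻¹ * x * (y : Ω)) * x⁻¹ := by group
    rw [e]
    exact T.mul_mem h1 (T.inv_mem (hle hx))
  exact ⟨⟨_, hcxA⟩, hleC (Subgroup.mem_subgroupOf.mpr hcxC), rfl⟩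

end

/-- Let F be a saturated fusion system over a finite p-group S and E a weakly normal subsystem of F over a subgroup T. Suppose a subgroup R of T is normal in E (E = N_E(R)), and let R* be the subgroup of T generated by the images of R under all maps of F with source R. Then R* is normal in F (F = N_F(R*)). -/
theorem result {Ω : Type*} [Group Ω] {S : Subgroup Ω} [Finite S] (p : ℕ) [Fact p.Prime] (hS : IsPGroup p S)
    (F : Cfsg.FusionSystem S) (hF : F.IsSaturated p)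
    {T : Subgroup Ω} (E : Cfsg.FusionSystem T) (hE : E.IsWeaklyNormalIn F p)
    (R : Subgroup Ω) (hR : E.IsNormal R) :
    F.IsNormal (Subgroup.closure {x : Ω | ∃ φ ∈ F.Hom R, ∃ r : R, x = φ r}) := by
  apply isNormal_of_stronglyClosed_of_forall p hS F hF (star_stronglyClosed p F E hE hR)
  intro P hc _ x hxQ hxN
  exact conj_mem_pCore p F E hE hR hS hc.1 hxQ hxN

end Cfsg.Agent.S5291
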