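import Mathlib
import Cfsg.Statements.S3794
import Cfsg.Agent.Lib.Helper1.GH4C
import Cfsg.Agent.Lib.Helper1.FpfAut

set_option autoImplicit false
open Cfsg

namespace Cfsg.Agent.S3794

open Cfsg.Agent.Helper1 Cfsg.Agent.Helper1.Fpf Cfsg.Agent.Helper1.GH4 MonoidHom
open scoped commutatorElement

universe u

theorem aux : ∀ (n : ℕ) (G : Type u) [Group G] [Finite G], Nat.card G = n → Group.IsSolvable G →
    ∀ σ : G ≃* G, σ ^ 4 = 1 → FixedPointFree σ → Group.IsNilpotent (commutator G) := by
  intro n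
  induction n using Nat.strong_induction_on with
  | _ n ih =>
  intro G _ _ hcard hsol σ hσ4 hσ
  by_cases htriv : Subsingleton G
  · haveI := htriv
    infer_instance
  haveI : Nontrivial G := not_subsingleton_iff_nontrivial.mp htriv
  -- a minimal invariant normal subgroup
  obtain ⟨V, hVmin⟩ := exists_minimal_of_wellFoundedLT
    (fun N : Subgroup G => N.Normal ∧ Inv σ N ∧ N ≠ ⊥)
    ⟨⊤, inferInstance, fun x _ => Subgroup.mem_top _, top_ne_bot⟩
  obtain ⟨hVn, hVinv, hV1⟩ := hVmin.prop
  haveI := hVn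
  have hmin : ∀ N : Subgroup G, N.Normal → Inv σ N → N ≤ V → N = ⊥ ∨ N = V := by
    intro N hNn hNinv hNV
    by_cases hN1 : N = ⊥
    · exact Or.inl hN1
    · exact Or.inr (le_antisymm hNV (hVmin.le_of_le ⟨hNn, hNinv, hN1⟩ hNV))
  -- `V` is abelian
  have hVab : ∀ a ∈ V, ∀ b ∈ V, a * b = b * a := by
    have hD : ⁅V, V⁆ = ⊥ := by
      have hlt : ⁅V, V⁆ < V := Group.IsSolvable.commutator_lt_of_ne_bot hV1
      have hDinv : Inv σ ⁅V, V⁆ := by
        intro x hx
        have h1 : (⁅V, V⁆).map σ.toMonoidHom = ⁅V, V⁆ := by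
          rw [Subgroup.map_commutator, hVinv.map_eq]
        rw [← h1]
        exact Subgroup.mem_map_of_mem _ hx
      rcases hmin ⁅V, V⁆ inferInstance hDinv hlt.le with h | h
      · exact h
      · exact absurd h hlt.ne
    rw [Subgroup.commutator_eq_bot_iff_le_centralizer] at hD
    intro a ha b hb
    exact (Subgroup.mem_centralizer_iff.mp (hD ha) b hb).symm
  -- `V` has prime exponent
  have hVcard : Nat.card V ≠ 1 := fun h => hV1 (Subgroup.card_eq_one.mp h)
  obtain ⟨p, hp, hpdvd⟩ := Nat.exists_prime_and_dvd hVcard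
  haveI : Fact p.Prime := ⟨hp⟩
  have hVexp : ∀ a ∈ V, a ^ p = 1 := by
    let W : Subgroup G :=
      { carrier := {a | a ∈ V ∧ a ^ p = 1}
        one_mem' := ⟨V.one_mem, one_pow p⟩
        mul_mem' := fun {a b} ha hb =>
          ⟨V.mul_mem ha.1 hb.1, by
            rw [(show Commute a b from hVab a ha.1 b hb.1).mul_pow, ha.2, hb.2, one_mul]⟩
        inv_mem' := fun {a} ha => ⟨V.inv_mem ha.1, by rw [inv_pow, ha.2, inv_one]⟩ }
    have hWn : W.Normal := ⟨fun a ha x => ⟨hVn.conj_mem a ha.1 x, by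
      rw [conj_pow, ha.2, mul_one, mul_inv_cancel]⟩⟩
    have hWinv : Inv σ W := fun a ha => ⟨hVinv a ha.1, by rw [← map_pow, ha.2, map_one]⟩
    have hWV : W ≤ V := fun a ha => ha.1
    have hW1 : W ≠ ⊥ := by
      obtain ⟨x, hx⟩ := exists_prime_orderOf_dvd_card' (G := V) p hpdvd
      intro hbot
      have hxW : (x : G) ∈ W := by
        refine ⟨x.2, ?_⟩
        have : x ^ p = 1 := by rw [← hx]; exact pow_orderOf_eq_one x
        have h2 := congrArg Subtype.val this
        simpa using h2
      rw [hbot, Subgroup.mem_bot] at hxW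
      have : x = 1 := Subtype.ext hxW
      rw [this, orderOf_one] at hx
      exact hp.one_lt.ne hx
    have hWeq : W = V := (hmin W hWn hWinv hWV).resolve_left hW1
    intro a ha
    have : a ∈ W := hWeq ▸ ha
    exact this.2
  have hVp : IsPGroup p V := by
    intro a
    refine ⟨1, ?_⟩
    rw [pow_one]
    apply Subtype.ext
    have := hVexp a a.2
    simpa using this
  haveI : Nontrivial V := (Subgroup.nontrivial_iff_ne_bot V).mpr hV1
  -- the linear setup
  letI : CommGroup V :=
    { (inferInstance : Group V) with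
      mul_comm := fun a b => Subtype.ext (hVab a a.2 b b.2) }
  let s : MulAut V := restrict σ V hVinv
  have hs4 : s ^ 4 = 1 := restrict_pow_eq_one σ V hVinv hσ4
  have hsf : ∀ v : V, s v = v → v = 1 := restrict_fpf hσ V hVinv
  let ρ : G →* MulAut V := MulAut.conjNormal
  have key : ∀ g : G, MulAut.conj s (ρ g) = ρ (σ g) := by
    intro g
    rw [MulAut.conj_apply, mul_inv_eq_iff_eq_mul]
    apply MulEquiv.ext
    intro v
    apply Subtype.ext
    simp only [MulAut.mul_apply]
    show σ ((ρ g v : V) : G) = ((ρ (σ g) (s v) : V) : G)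
    rw [MulAut.conjNormal_apply, MulAut.conjNormal_apply, map_mul, map_mul, map_inv]
    rfl
  have hHs : ∀ x ∈ ρ.range, MulAut.conj s x ∈ ρ.range := by
    rintro _ ⟨g, rfl⟩
    exact ⟨σ g, (key g).symm⟩
  have hkerinv : ∀ x ∈ ρ.ker, σ x ∈ ρ.ker := by
    intro x hx
    rw [MonoidHom.mem_ker] at hx ⊢
    rw [← key, hx, map_one]
  have hHf : ∀ x ∈ ρ.range, MulAut.conj s x = x → x = 1 := by
    rintro _ ⟨g, rfl⟩ h
    rw [key] at h
    have hmem : g⁻¹ * σ g ∈ ρ.ker := by
      rw [MonoidHom.mem_ker, map_mul, map_inv, h, inv_mul_cancel]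
    obtain ⟨a, ha, hga⟩ := exists_comm ρ.ker σ hkerinv (fun x _ hx => hσ x hx) _ hmem
    have h1 : σ (g * a⁻¹) = g * a⁻¹ := by
      rw [map_mul, map_inv]
      have e : σ g = g * (a⁻¹ * σ a) := by rw [← hga]; group
      rw [e]; group
    have h2 : g = a := mul_inv_eq_one.mp (hσ _ h1)
    rw [h2]
    exact ha
  have hirr : ∀ W : Subgroup V, (∀ a ∈ ρ.range, ∀ w ∈ W, a w ∈ W) → (∀ w ∈ W, s w ∈ W) →
      W = ⊥ ∨ W = ⊤ := by
    intro W hWH hWs
    have hNn : (W.map V.subtype).Normal := by
      refine ⟨?_⟩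
      rintro _ ⟨w, hw, rfl⟩ x
      refine ⟨ρ x w, hWH _ ⟨x, rfl⟩ w hw, ?_⟩
      exact MulAut.conjNormal_apply x w
    have hNinv : Inv σ (W.map V.subtype) := by
      rintro _ ⟨w, hw, rfl⟩
      exact ⟨s w, hWs w hw, rfl⟩
    rcases hmin _ hNn hNinv (Subgroup.map_subtype_le W) with h | h
    · left
      rwa [Subgroup.map_eq_bot_iff_of_injective _ V.subtype_injective] at h
    · right
      rw [eq_top_iff]
      intro v _
      have hv : (v : G) ∈ W.map V.subtype := by rw [h]; exact v.2
      obtain ⟨w, hw, hwv⟩ := hv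
      have : w = v := Subtype.ext hwv
      exact this ▸ hw
  have hcomm := thmA_comm p hVp s hs4 hsf ρ.range hHs hHf hirr
  -- the derived subgroup centralises `V`
  have hGV : ∀ x ∈ commutator G, ∀ v ∈ V, x * v = v * x := by
    have hle : commutator G ≤ ρ.ker := by
      rw [commutator_def, Subgroup.commutator_le]
      intro a _ b _
      rw [MonoidHom.mem_ker, map_commutatorElement, commutatorElement_eq_one_iff_mul_comm]
      exact hcomm _ ⟨a, rfl⟩ _ ⟨b, rfl⟩
    intro x hx v hv
    have h1 : ρ x = 1 := hle hx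
    have h2 : ((ρ x ⟨v, hv⟩ : V) : G) = x * v * x⁻¹ := MulAut.conjNormal_apply x ⟨v, hv⟩
    rw [h1] at h2
    have h3 : v = x * v * x⁻¹ := h2
    calc x * v = (x * v * x⁻¹) * x := by group
      _ = v * x := by rw [← h3]
  -- induction
  have hlt : Nat.card (G ⧸ V) < n := by
    rw [← hcard, Subgroup.card_eq_card_quotient_mul_card_subgroup V]
    apply lt_mul_of_one_lt_right Nat.card_pos
    exact lt_of_le_of_ne Nat.card_pos (Ne.symm hVcard)
  have hQnil : Group.IsNilpotent (commutator (G ⧸ V)) :=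
    ih _ hlt (G ⧸ V) rfl inferInstance (quot σ V hVinv) (quot_pow_eq_one σ V hVinv hσ4)
      (quot_fpf hσ V hVinv)
  have hmap : ∀ x : commutator G, QuotientGroup.mk' V (x : G) ∈ commutator (G ⧸ V) := by
    intro x
    have h1 : (commutator G).map (QuotientGroup.mk' V) ≤ commutator (G ⧸ V) := by
      rw [commutator_def, Subgroup.map_commutator, commutator_def]
      exact Subgroup.commutator_mono le_top le_top
    exact h1 (Subgroup.mem_map_of_mem _ x.2)
  let f : commutator G →* commutator (G ⧸ V) :=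
    ((QuotientGroup.mk' V).comp (commutator G).subtype).codRestrict (commutator (G ⧸ V)) hmap
  apply Subgroup.isNilpotent_of_ker_le_center f
  intro x hx
  rw [MonoidHom.mem_ker] at hx
  have h1 : QuotientGroup.mk' V (x : G) = 1 := congrArg Subtype.val hx
  have h2 : (x : G) ∈ V := by
    rwa [QuotientGroup.mk'_apply, QuotientGroup.eq_one_iff] at h1
  rw [Subgroup.mem_center_iff]
  intro y
  apply Subtype.ext
  exact hGV y y.2 x h2

/-- Let G be a finite solvable group with an automorphism σ satisfying σ⁴ = 1 and fixing only the identity. Then the derived subgroup G' is nilpotent. -/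
theorem result {G : Type*} [Group G] [Finite G] (hG : Group.IsSolvable G) (σ : MulAut G) (hσ : σ ^ 4 = 1) (hfpf : ∀ g : G, σ g = g → g = 1) : Group.IsNilpotent (commutator G) := by
  exact aux _ G rfl hG σ hσ hfpf

end Cfsg.Agent.S3794
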