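import Mathlib
import Cfsg.Statements.S0032

set_option autoImplicit false
open Cfsg

namespace Cfsg.Agent.S0032

theorem result {G : Type*} [Group G] [Finite G] (φ : G ≃* G)
    (hφ : MonoidHom.FixedPointFree (φ : G →* G)) (N : Subgroup G) [N.Normal] (hN : ∀ n ∈ N, φ n ∈ N)
    (x : G) (hx : (φ x)⁻¹ * x ∈ N) : x ∈ N := by
  -- the map n ↦ (φ n)⁻¹ * n on N is injective, hence surjective
  let f : N → N := fun n => ⟨(φ n)⁻¹ * n, N.mul_mem (N.inv_mem (hN n n.2)) n.2⟩
  have key : ∀ a b : G, (φ a)⁻¹ * a = (φ b)⁻¹ * b → a = b := by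
    intro a b hab
    have h1 : φ (b * a⁻¹) = b * a⁻¹ := by
      rw [map_mul, map_inv]
      have : φ b = b * a⁻¹ * φ a := by
        have h2 : φ b * ((φ a)⁻¹ * a) = b := by rw [hab]; group
        calc φ b = φ b * ((φ a)⁻¹ * a) * (a⁻¹ * φ a) := by group
          _ = b * (a⁻¹ * φ a) := by rw [h2]
          _ = b * a⁻¹ * φ a := by group
      rw [this]; group
    have h3 : b * a⁻¹ = 1 := hφ _ h1
    have : b = a := by
      calc b = b * a⁻¹ * a := by group
        _ = a := by rw [h3, one_mul]
    exact this.symm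
  have hinj : Function.Injective f := by
    intro a b hab
    have := congrArg Subtype.val hab
    exact Subtype.ext (key a b this)
  have hsurj : Function.Surjective f := Finite.surjective_of_injective hinj
  obtain ⟨n, hn⟩ := hsurj ⟨(φ x)⁻¹ * x, hx⟩
  have := congrArg Subtype.val hn
  have hxn := key n x this
  rw [← hxn]; exact n.2

end Cfsg.Agent.S0032
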