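import Mathlib
import Cfsg.Statements.S5342
import Cfsg.Agent.Lib.Helper3.SubConstrained

set_option autoImplicit false
open Cfsg

namespace Cfsg.Agent.S5342

theorem aux {Ω : Type*} [Group Ω] {S T : Subgroup Ω} {p : ℕ} {E : Cfsg.FusionSystem T}
    {F : Cfsg.FusionSystem S} (hE : E.IsSubnormalIn F p) :
    ∀ [Finite S] [Fact p.Prime], IsPGroup p S → F.IsConstrained p → E.IsConstrained p := by
  induction hE with
  | refl F p => intro _ _ _ hF; exact hF
  | step hED hDF ih =>
    intro _ _ hS hF
    have hDsat := hDF.1.1
    have hinv := hDF.1.2.2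
    have hDcon := Cfsg.Agent.Helper3.SubConstrained.isConstrained_of_sub _ hS _ hF _ hDsat
      hinv.1 hinv.2.1
    have hUS := hinv.2.1.1
    haveI := Cfsg.Agent.Helper25.finite_of_le_finite hUS
    exact ih (hS.to_le hUS) hDcon

/-- Let F be a constrained saturated fusion system over a finite p-group S. Then every subsystem of F that is subnormal in F (reached from F by a finite chain of successive normal subsystems) is constrained. -/
theorem result {Ω : Type*} [Group Ω] {S : Subgroup Ω} [Finite S] (p : ℕ) [Fact p.Prime] (hS : IsPGroup p S) (F : Cfsg.FusionSystem S) (hF : F.IsConstrained p) {T : Subgroup Ω} (E : Cfsg.FusionSystem T) (hE : E.IsSubnormalIn F p) : E.IsConstrained p := by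
  exact aux hE hS hF

end Cfsg.Agent.S5342
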