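import Cfsg.Statements.S5141
import Cfsg.Agent.Lib.WNR.WNRAdm
import Cfsg.Agent.Lib.WNR.WNRTop
import Cfsg.Agent.Lib.WNR.WNRWn
import Cfsg.Agent.Lib.Helper3.WClos1

set_option autoImplicit false
open Cfsg

namespace Cfsg.Agent.S5141

/-- Let F be a saturated fusion system over a finite p-group S and E a weakly normal subsystem of F over T. Then the p'-residual subsystem of E (the least saturated subsystem of E over T of index prime to p) is normal in F. -/
theorem result {Ω : Type*} [Group Ω] {S : Subgroup Ω} [Finite S] (p : ℕ) [Fact p.Prime] (hS : IsPGroup p S) (F : Cfsg.FusionSystem S) (hF : F.IsSaturated p) {T : Subgroup Ω} (E : Cfsg.FusionSystem T) (hE : E.IsWeaklyNormalIn F p) (D : Cfsg.FusionSystem T) (hD : E.IsPPrimeResidual p D) : D.IsNormalIn F p := by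
  obtain ⟨hEsat, -, hEinv⟩ := hE
  have hTS : T ≤ S := hEinv.2.1.1
  haveI : Finite T := Cfsg.Agent.Helper25.finite_of_le_finite hTS
  have hTp : IsPGroup p T := hS.to_le hTS
  have h1 : D.IsSubsystemOf (Cfsg.Agent.Helper3.PPrimeRes.minSys E p) :=
    hD.2.2 _ (Cfsg.Agent.Helper3.PPrimeRes.minSys_isSaturated p hTp E hEsat)
      (Cfsg.Agent.Helper3.PPrimeRes.minSys_facts p hTp E hEsat).1
  have h2 := Cfsg.Agent.Helper3.PPrimeRes.minSys_le_of_adm
    (Cfsg.Agent.Helper25.WNR.adm_DW p hS F hF hTS E hEsat hEinv)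
  refine ⟨⟨hD.1, hF, Cfsg.Agent.Helper25.WNR.residual_isInvariantIn p hS F E hEsat hEinv D hD⟩, ?_⟩
  intro α hα
  have hαDW : α ∈ (Cfsg.Agent.Helper25.WNR.DW F hTS E).autGroup T := by
    rw [Cfsg.Agent.Helper25.mem_autGroup_iff _ le_rfl]
    exact h2 T (h1 T ((Cfsg.Agent.Helper25.mem_autGroup_iff D le_rfl α).mp hα))
  exact Cfsg.Agent.Helper25.WNR.exists_ext_of_mem_DW F hTS E (Cfsg.Agent.Helper3.WC.isCentric_self E) hαDW

end Cfsg.Agent.S5141
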