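import Mathlib
import Cfsg.Statements.S0283
import Cfsg.Agent.Lib.Helper11.UnitarySimple

set_option autoImplicit false
open Cfsg

namespace Cfsg.Agent.S0283

open Cfsg.Agent.Helper11 Cfsg.Agent.Helper11.Herm

/-- PSU_n(q) is simple for n at least 3 and (n, q) other than (3, 2). -/
theorem result {F : Type*} [Field F] [Fintype F] {q : ℕ} (hF : Fintype.card F = q ^ 2) (n : ℕ) (hn : 3 ≤ n) (h : ¬ (n = 3 ∧ q = 2)) : IsSimpleGroup (Cfsg.PSU n F q) := by
  obtain ⟨φ, hφ⟩ := exists_frob hF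
  have hφφ := frob_frob hF φ hφ
  have hN1 := frob_norm_surj hF φ hφ
  have hN2 := frob_trace_ne_zero hF φ hφ
  have hφid := frob_ne_id hF φ hφ
  have hq2 := two_le_q hF
  have hcase : 4 ≤ Fintype.card (Fin n) ∨ ∃ w : F, φ w = w ∧ w ≠ 0 ∧ w ≠ 1 := by
    rw [Fintype.card_fin]
    by_cases h4 : 4 ≤ n
    · exact Or.inl h4
    · right
      have hn3 : n = 3 := by omega
      have hq3 : 3 ≤ q := by
        by_contra hq
        apply h
        exact ⟨hn3, by omega⟩
      have hc := card_fixed_ne_zero hF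
      have : Nontrivial {c : F // c ≠ 0 ∧ c ^ q = c} := by
        rw [← Finite.one_lt_card_iff_nontrivial, hc]
        omega
      obtain ⟨w, hw⟩ := exists_ne (⟨1, one_ne_zero, one_pow q⟩ : {c : F // c ≠ 0 ∧ c ^ q = c})
      exact ⟨w.1, by rw [hφ]; exact w.2.2, w.2.1, fun h => hw (Subtype.ext h)⟩
  have hSU : Cfsg.SU n F q = SUg (Fin n) φ := by
    ext g
    rw [mem_SU_iff_isU φ hφ, mem_SUg_iff]
  have hgen : ∀ M : Matrix (Fin n) (Fin n) F, IsU φ M → M.det = 1 → M ∈ TM φ :=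
    fun M hM hd => mem_TM_of_isU_of_det φ hφid hφφ hN1 hcase ⟨0, by omega⟩ M hM hd
  have hsimple := isSimpleGroup_SUg_quotient_center φ hφid hφφ hN1 hN2
    (by rw [Fintype.card_fin]; exact hn) hgen
  unfold Cfsg.PSU
  rw [hSU]
  exact hsimple

end Cfsg.Agent.S0283
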