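import Mathlib
import Cfsg.Statements.S0019
import Cfsg.Agent.S0001
import Cfsg.Agent.Lib.Helper1.SolvableBasic

set_option autoImplicit false
open Cfsg

namespace Cfsg.Agent.S0019

open Cfsg.Agent.Helper1

universe u

/-- A `p`-subgroup is conjugate into any subgroup of index prime to `p`. -/
theorem exists_conj_le_of_not_dvd_index {G : Type u} [Group G] [Finite G] {p : ℕ} [Fact p.Prime]
    (N H : Subgroup G) (hN : IsPGroup p N) (hH : ¬ p ∣ H.index) :
    ∃ g : G, ∀ n ∈ N, g⁻¹ * n * g ∈ H := by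
  obtain ⟨q, hq⟩ := hN.nonempty_fixed_point_of_prime_not_dvd_card (G ⧸ H) hH
  induction q using QuotientGroup.induction_on with
  | H g =>
    refine ⟨g, fun n hn => ?_⟩
    have := hq ⟨n, hn⟩
    have h2 : ((n * g : G) : G ⧸ H) = (g : G ⧸ H) := this
    rw [QuotientGroup.eq] at h2
    have h3 := H.inv_mem h2
    have : ((n * g)⁻¹ * g)⁻¹ = g⁻¹ * n * g := by group
    rwa [this] at h3

theorem aux : ∀ (n : ℕ) (G : Type u) [Group G] [Finite G], Nat.card G = n →
    ∀ (H₁ H₂ H₃ : Subgroup G), Group.IsSolvable H₁ → Group.IsSolvable H₂ → Group.IsSolvable H₃ →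
    (∀ g : G, ∃ x ∈ H₁, ∃ y ∈ H₂, g = x * y) → (∀ g : G, ∃ x ∈ H₁, ∃ y ∈ H₃, g = x * y) →
    H₂.index.Coprime H₃.index → Group.IsSolvable G := by
  intro n
  induction n using Nat.strong_induction_on with
  | _ n ih =>
  intro G _ _ hn H₁ H₂ H₃ h₁ h₂ h₃ h12 h13 hcop
  by_cases hbot : H₁ = ⊥
  · -- `G = H₂`
    have htop : H₂ = ⊤ := by
      rw [eq_top_iff]
      intro g _
      obtain ⟨x, hx, y, hy, rfl⟩ := h12 g
      rw [hbot, Subgroup.mem_bot] at hx
      rw [hx, one_mul]; exact hy
    rw [htop] at h₂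
    exact Group.isSolvable_of_isSolvable_injective (f := (Subgroup.topEquiv (G := G)).symm.toMonoidHom)
      (Subgroup.topEquiv (G := G)).symm.injective
  · haveI : Nontrivial H₁ := (Subgroup.nontrivial_iff_ne_bot _).mpr hbot
    obtain ⟨p, hp, N₁, hN₁n, hN₁ne, hN₁p⟩ := exists_normal_pSubgroup_of_solvable H₁
    haveI : Fact p.Prime := ⟨hp⟩
    set N : Subgroup G := N₁.map H₁.subtype with hN
    have hNp : IsPGroup p N := hN₁p.map _
    have hNne : N ≠ ⊥ := by
      intro h
      apply hN₁ne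
      exact (Subgroup.map_eq_bot_iff_of_injective _ (Subgroup.subtype_injective _)).mp h
    have hNH₁ : ∀ x ∈ H₁, ∀ n ∈ N, x⁻¹ * n * x ∈ N := by
      intro x hx n hn
      obtain ⟨m, hm, rfl⟩ := Subgroup.mem_map.mp hn
      refine Subgroup.mem_map.mpr ⟨(⟨x, hx⟩ : H₁)⁻¹ * m * ⟨x, hx⟩, ?_, by simp⟩
      have := hN₁n.conj_mem m hm (⟨x, hx⟩ : H₁)⁻¹
      simpa using this
    -- the common step: a factor `H'` of index prime to `p` contains a normal solvable subgroup
    have key : ∀ H' : Subgroup G, Group.IsSolvable H' → (∀ g : G, ∃ x ∈ H₁, ∃ y ∈ H', g = x * y) →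
        ¬ p ∣ H'.index → ∃ M : Subgroup G, M.Normal ∧ M ≠ ⊥ ∧ Group.IsSolvable M := by
      intro H' hs' hfac hidx
      obtain ⟨g, hg⟩ := exists_conj_le_of_not_dvd_index N H' hNp hidx
      obtain ⟨x, hx, y, hy, rfl⟩ := hfac g
      have hNH' : N ≤ H' := by
        intro n hn
        have h1 : x * n * x⁻¹ ∈ N := by
          have := hNH₁ x⁻¹ (H₁.inv_mem hx) n hn
          simpa using this
        have h2 := hg _ h1
        have h3 : (x * y)⁻¹ * (x * n * x⁻¹) * (x * y) = y⁻¹ * n * y := by group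
        rw [h3] at h2
        have : n = y * (y⁻¹ * n * y) * y⁻¹ := by group
        rw [this]
        exact H'.mul_mem (H'.mul_mem hy h2) (H'.inv_mem hy)
      refine ⟨Subgroup.normalClosure (N : Set G), Subgroup.normalClosure_normal, ?_, ?_⟩
      · intro h
        apply hNne
        rw [eq_bot_iff, ← h]
        exact Subgroup.le_normalClosure
      · have hle : Subgroup.normalClosure (N : Set G) ≤ H' := by
          unfold Subgroup.normalClosure
          rw [Subgroup.closure_le]
          intro z hz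
          rw [Group.mem_conjugatesOfSet_iff] at hz
          obtain ⟨n, hn, hconj⟩ := hz
          rw [isConj_iff] at hconj
          obtain ⟨c, rfl⟩ := hconj
          -- write `c⁻¹ = x y`, so `c = y⁻¹ x⁻¹`
          obtain ⟨x', hx', y', hy', hc⟩ := hfac c⁻¹
          have hc' : c = y'⁻¹ * x'⁻¹ := by
            rw [← inv_inv c, hc]; group
          have h1 : x'⁻¹ * n * x' ∈ N := hNH₁ x' hx' n hn
          have : c * n * c⁻¹ = y'⁻¹ * (x'⁻¹ * n * x') * y' := by rw [hc']; group
          rw [SetLike.mem_coe, this]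
          exact H'.mul_mem (H'.mul_mem (H'.inv_mem hy') (hNH' h1)) hy'
        exact Group.isSolvable_of_isSolvable_injective (f := Subgroup.inclusion hle)
          (Subgroup.inclusion_injective hle)
    have hex : ∃ M : Subgroup G, M.Normal ∧ M ≠ ⊥ ∧ Group.IsSolvable M := by
      by_cases hp2 : p ∣ H₂.index
      · have hp3 : ¬ p ∣ H₃.index := by
          intro hp3
          have := Nat.dvd_gcd hp2 hp3
          rw [hcop] at this
          exact hp.one_lt.ne' (Nat.dvd_one.mp this)
        exact key H₃ h₃ h13 hp3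
      · exact key H₂ h₂ h12 hp2
    obtain ⟨M, hMn, hMne, hMs⟩ := hex
    haveI := hMn
    have hsurj : Function.Surjective (QuotientGroup.mk' M) := QuotientGroup.mk'_surjective M
    have hquot : Group.IsSolvable (G ⧸ M) := by
      refine ih (Nat.card (G ⧸ M)) ?_ (G ⧸ M) rfl (H₁.map (QuotientGroup.mk' M))
        (H₂.map (QuotientGroup.mk' M)) (H₃.map (QuotientGroup.mk' M)) ?_ ?_ ?_ ?_ ?_ ?_
      · rw [← hn]; exact Cfsg.Agent.S0001.card_quotient_lt_of_ne_bot hMne
      · exact Group.isSolvable_of_surjective ((QuotientGroup.mk' M).subgroupMap_surjective H₁)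
      · exact Group.isSolvable_of_surjective ((QuotientGroup.mk' M).subgroupMap_surjective H₂)
      · exact Group.isSolvable_of_surjective ((QuotientGroup.mk' M).subgroupMap_surjective H₃)
      · intro q
        obtain ⟨g, rfl⟩ := hsurj q
        obtain ⟨x, hx, y, hy, rfl⟩ := h12 g
        exact ⟨_, Subgroup.mem_map_of_mem _ hx, _, Subgroup.mem_map_of_mem _ hy, map_mul _ _ _⟩
      · intro q
        obtain ⟨g, rfl⟩ := hsurj q
        obtain ⟨x, hx, y, hy, rfl⟩ := h13 g
        exact ⟨_, Subgroup.mem_map_of_mem _ hx, _, Subgroup.mem_map_of_mem _ hy, map_mul _ _ _⟩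
      · exact Nat.Coprime.coprime_dvd_left (Subgroup.index_map_dvd H₂ hsurj)
          (Nat.Coprime.coprime_dvd_right (Subgroup.index_map_dvd H₃ hsurj) hcop)
    refine Group.isSolvable_of_ker_le_range M.subtype (QuotientGroup.mk' M) ?_
    rw [QuotientGroup.ker_mk', Subgroup.range_subtype]

/-- A finite group that factorises as H₁H₂ and as H₁H₃ with all three subgroups solvable and the indices of H₂ and H₃ coprime is solvable. -/
theorem result {G : Type*} [Group G] [Finite G] (H₁ H₂ H₃ : Subgroup G)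
    (h₁ : Group.IsSolvable H₁) (h₂ : Group.IsSolvable H₂) (h₃ : Group.IsSolvable H₃)
    (h12 : ∀ g : G, ∃ x ∈ H₁, ∃ y ∈ H₂, g = x * y) (h13 : ∀ g : G, ∃ x ∈ H₁, ∃ y ∈ H₃, g = x * y)
    (hcop : H₂.index.Coprime H₃.index) : Group.IsSolvable G := by
  exact aux _ G rfl H₁ H₂ H₃ h₁ h₂ h₃ h12 h13 hcop

end Cfsg.Agent.S0019
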