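import Mathlib
import Cfsg.Statements.S0006
import Cfsg.Agent.S0019
import Cfsg.Agent.S0144
import Cfsg.Agent.Lib.Helper1.CoprimeIndex

set_option autoImplicit false
open Cfsg

namespace Cfsg.Agent.S0006

open Cfsg.Agent.Helper1

universe u

/-- A number with at most two prime factors is `p ^ a * q ^ b`. -/
theorem exists_two_prime_pow {n : ℕ} (hn : n ≠ 0) (h : n.primeFactors.card ≤ 2) :
    ∃ p q a b : ℕ, p.Prime ∧ q.Prime ∧ n = p ^ a * q ^ b := by
  have hprod : ∏ p ∈ n.primeFactors, p ^ n.factorization p = n := by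
    conv_rhs => rw [← Nat.prod_factorization_pow_eq_self hn]
    rfl
  have hc : n.primeFactors.card = 0 ∨ n.primeFactors.card = 1 ∨ n.primeFactors.card = 2 := by omega
  rcases hc with h0 | h1 | h2
  · rw [Finset.card_eq_zero] at h0
    rw [h0, Finset.prod_empty] at hprod
    exact ⟨2, 2, 0, 0, Nat.prime_two, Nat.prime_two, by rw [← hprod]; simp⟩
  · rw [Finset.card_eq_one] at h1
    obtain ⟨p, hp⟩ := h1
    have hpp : p.Prime := Nat.prime_of_mem_primeFactors (by rw [hp]; simp)
    rw [hp, Finset.prod_singleton] at hprod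
    exact ⟨p, p, n.factorization p, 0, hpp, hpp, by rw [pow_zero, mul_one]; exact hprod.symm⟩
  · rw [Finset.card_eq_two] at h2
    obtain ⟨p, q, hpq, hs⟩ := h2
    have hpp : p.Prime := Nat.prime_of_mem_primeFactors (by rw [hs]; simp)
    have hqp : q.Prime := Nat.prime_of_mem_primeFactors (by rw [hs]; simp)
    rw [hs, Finset.prod_pair hpq] at hprod
    exact ⟨p, q, _, _, hpp, hqp, hprod.symm⟩

/-- A Hall `p`-complement inherits Hall complements for all primes. -/
theorem hall_sub {G : Type u} [Group G] [Finite G]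
    (h : ∀ p : ℕ, p.Prime → ∃ H : Subgroup G, H.index = p ^ (Nat.card G).factorization p)
    (p : ℕ) (hp : p.Prime) (H : Subgroup G) (hH : H.index = p ^ (Nat.card G).factorization p) :
    ∀ q : ℕ, q.Prime → ∃ L : Subgroup H, L.index = q ^ (Nat.card H).factorization q := by
  intro q hq
  have hmul : Nat.card H * p ^ (Nat.card G).factorization p = Nat.card G := by
    rw [← hH]; exact H.card_mul_index
  have hfac : (Nat.card G).factorization =
      (Nat.card H).factorization + (p ^ (Nat.card G).factorization p).factorization := by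
    rw [← Nat.factorization_mul Nat.card_pos.ne' (pow_pos hp.pos _).ne', hmul]
  rw [hp.factorization_pow] at hfac
  by_cases hqp : q = p
  · subst hqp
    refine ⟨⊤, ?_⟩
    have := congrArg (fun f => f q) hfac
    simp only [Finsupp.coe_add, Pi.add_apply, Finsupp.single_eq_same] at this
    have h0 : (Nat.card H).factorization q = 0 := by omega
    rw [h0, pow_zero, Subgroup.index_top]
  · have hq' : (Nat.card H).factorization q = (Nat.card G).factorization q := by
      have := congrArg (fun f => f q) hfac
      simp only [Finsupp.coe_add, Pi.add_apply] at this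
      rw [Finsupp.single_eq_of_ne (by exact hqp)] at this
      omega
    obtain ⟨L₀, hL₀⟩ := h q hq
    have hcop : H.index.Coprime L₀.index := by
      rw [hH, hL₀]
      exact Nat.Coprime.pow _ _ ((Nat.coprime_primes hp hq).mpr (Ne.symm hqp))
    refine ⟨L₀.subgroupOf H, ?_⟩
    rw [hq', ← hL₀]
    exact relIndex_eq_index_of_coprime hcop

theorem aux : ∀ (n : ℕ) (G : Type u) [Group G] [Finite G], Nat.card G = n →
    (∀ p : ℕ, p.Prime → ∃ H : Subgroup G, H.index = p ^ (Nat.card G).factorization p) →
    Group.IsSolvable G := by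
  intro n
  induction n using Nat.strong_induction_on with
  | _ n ih =>
  intro G _ _ hn h
  by_cases hthree : 2 < (Nat.card G).primeFactors.card
  · rw [Finset.two_lt_card] at hthree
    obtain ⟨p₁, hp₁, p₂, hp₂, p₃, hp₃, h12, h13, h23⟩ := hthree
    have hsolv : ∀ p ∈ (Nat.card G).primeFactors, ∀ H : Subgroup G,
        H.index = p ^ (Nat.card G).factorization p → Group.IsSolvable H := by
      intro p hpm H hH
      have hp : p.Prime := Nat.prime_of_mem_primeFactors hpm
      have hpos : 0 < (Nat.card G).factorization p :=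
        hp.factorization_pos_of_dvd Nat.card_pos.ne' (Nat.dvd_of_mem_primeFactors hpm)
      have hne : H ≠ ⊤ := by
        intro htop
        rw [htop, Subgroup.index_top] at hH
        have : 1 < p ^ (Nat.card G).factorization p := Nat.one_lt_pow hpos.ne' hp.one_lt
        omega
      exact ih (Nat.card H) (hn ▸ Cfsg.Agent.S0001.card_lt_of_ne_top hne) H rfl
        (hall_sub h p hp H hH)
    have hP₁ := Nat.prime_of_mem_primeFactors hp₁
    have hP₂ := Nat.prime_of_mem_primeFactors hp₂
    have hP₃ := Nat.prime_of_mem_primeFactors hp₃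
    obtain ⟨H₁, hH₁⟩ := h p₁ hP₁
    obtain ⟨H₂, hH₂⟩ := h p₂ hP₂
    obtain ⟨H₃, hH₃⟩ := h p₃ hP₃
    have c12 : H₁.index.Coprime H₂.index := by
      rw [hH₁, hH₂]; exact Nat.Coprime.pow _ _ ((Nat.coprime_primes hP₁ hP₂).mpr h12)
    have c13 : H₁.index.Coprime H₃.index := by
      rw [hH₁, hH₃]; exact Nat.Coprime.pow _ _ ((Nat.coprime_primes hP₁ hP₃).mpr h13)
    have c23 : H₂.index.Coprime H₃.index := by
      rw [hH₂, hH₃]; exact Nat.Coprime.pow _ _ ((Nat.coprime_primes hP₂ hP₃).mpr h23)
    exact Cfsg.Agent.S0019.result H₁ H₂ H₃ (hsolv p₁ hp₁ H₁ hH₁) (hsolv p₂ hp₂ H₂ hH₂)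
      (hsolv p₃ hp₃ H₃ hH₃) (exists_mul_of_coprime_index c12) (exists_mul_of_coprime_index c13) c23
  · push_neg at hthree
    obtain ⟨p, q, a, b, hp, hq, hcard⟩ := exists_two_prime_pow (Nat.card_pos (α := G)).ne' hthree
    exact Cfsg.Agent.S0144.result p q a b hp hq hcard

/-- Converse of Hall's Theorem: if for every prime p a finite group has a subgroup of index equal to the p-part of the group order (a Hall p-complement), then the group is solvable. -/
theorem result {G : Type*} [Group G] [Finite G]
    (h : ∀ p : ℕ, p.Prime → ∃ H : Subgroup G, H.index = p ^ (Nat.card G).factorization p) :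
    Group.IsSolvable G := by
  exact aux _ G rfl h

end Cfsg.Agent.S0006
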