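import Mathlib
import Cfsg.Statements.S0007

set_option autoImplicit false
open Cfsg

namespace Cfsg.Agent.S0007

theorem index_inf_of_coprime {G : Type*} [Group G] [Finite G] (H K : Subgroup G)
    (h : H.index.Coprime K.index) : (H ⊓ K).index = H.index * K.index := by
  apply le_antisymm (Subgroup.index_inf_le)
  apply Nat.le_of_dvd (Nat.pos_of_ne_zero (Subgroup.index_ne_zero_of_finite))
  exact Nat.Coprime.mul_dvd_of_dvd_of_dvd h (Subgroup.index_dvd_of_le inf_le_left)
    (Subgroup.index_dvd_of_le inf_le_right)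

theorem result {G : Type*} [Group G] [Finite G] (H K : Subgroup G)
    (h : H.index.Coprime K.index) :
    (H ⊓ K).index = H.index * K.index ∧ ∀ g : G, ∃ x ∈ H, ∃ y ∈ K, g = x * y := by
  refine ⟨index_inf_of_coprime H K h, ?_⟩
  have hidx := index_inf_of_coprime H K h
  -- H acts on G ⧸ K; the orbit of the trivial coset is everything
  have hstab : MulAction.stabilizer H ((1 : G) : G ⧸ K) = K.subgroupOf H := by
    ext x
    rw [MulAction.mem_stabilizer_iff, Subgroup.mem_subgroupOf]
    change (((x : G) * 1 : G) : G ⧸ K) = ((1 : G) : G ⧸ K) ↔ _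
    rw [mul_one, QuotientGroup.eq]
    simp
  have hcard : (MulAction.orbit H ((1 : G) : G ⧸ K)).ncard = Nat.card (G ⧸ K) := by
    rw [← MulAction.index_stabilizer, hstab]
    change K.relIndex H = K.index
    rw [← Subgroup.inf_relIndex_left]
    have h1 := Subgroup.relIndex_mul_index (inf_le_left : H ⊓ K ≤ H)
    rw [hidx, mul_comm] at h1
    exact Nat.eq_of_mul_eq_mul_left (Nat.pos_of_ne_zero (Subgroup.index_ne_zero_of_finite)) h1
  have horb : MulAction.orbit H ((1 : G) : G ⧸ K) = Set.univ := by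
    apply Set.eq_univ_of_forall
    intro q
    by_contra hq
    have : (MulAction.orbit H ((1 : G) : G ⧸ K)).ncard < Nat.card (G ⧸ K) := by
      rw [← Set.ncard_univ] 
      exact Set.ncard_lt_ncard (Set.ssubset_univ_iff.mpr (fun hh => hq (hh ▸ Set.mem_univ q))) 
    omega
  intro g
  have hg : ((g : G) : G ⧸ K) ∈ MulAction.orbit H ((1 : G) : G ⧸ K) := horb ▸ Set.mem_univ _
  obtain ⟨x, hx⟩ := hg
  change (((x : G) * 1 : G) : G ⧸ K) = _ at hx
  rw [mul_one, QuotientGroup.eq] at hx
  exact ⟨x, x.2, _, hx, by group⟩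

end Cfsg.Agent.S0007
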