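import Mathlib
import Cfsg.Statements.S0009
import Cfsg.Agent.Lib.Helper21.FittingSubgroup

set_option autoImplicit false
set_option linter.style.haveILetI false
open Cfsg

namespace Cfsg.Agent.S0009

open Subgroup

theorem pCore_normal {G : Type*} [Group G] (p : ℕ) : (Cfsg.pCore p G).Normal :=
  Subgroup.sSup_normal _ (fun _ h => h.1)

theorem pCore_isPGroup {G : Type*} [Group G] [Finite G] (p : ℕ) [Fact p.Prime] :
    IsPGroup p (Cfsg.pCore p G) :=
  Sylow.sSup_of_normal _ (fun _ h => h.2) (fun _ h => h.1)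

/-- A finite group is generated by its Sylow subgroups. -/
theorem iSup_sylow_eq_top {F : Type*} [Group F] [Finite F] :
    (⨆ p : Nat.Primes, ⨆ Q : Sylow (p : ℕ) F, (Q : Subgroup F)) = ⊤ := by
  set J := (⨆ p : Nat.Primes, ⨆ Q : Sylow (p : ℕ) F, (Q : Subgroup F)) with hJ
  rw [← Subgroup.index_eq_one]
  by_contra h
  obtain ⟨p, hp, hpJ⟩ := Nat.exists_prime_and_dvd h
  haveI : Fact p.Prime := ⟨hp⟩
  obtain ⟨Q⟩ : Nonempty (Sylow p F) := inferInstance
  have hQJ : (Q : Subgroup F) ≤ J := by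
    rw [hJ]
    exact le_trans (le_iSup (fun Q : Sylow p F => (Q : Subgroup F)) Q)
      (le_iSup (fun p : Nat.Primes => ⨆ Q : Sylow (p : ℕ) F, (Q : Subgroup F)) ⟨p, hp⟩)
  exact Q.not_dvd_index (hpJ.trans (Subgroup.index_dvd_of_le hQJ))

theorem result {G : Type*} [Group G] [Finite G] :
    Cfsg.fittingSubgroup G = ⨆ p : Nat.Primes, Cfsg.pCore (p : ℕ) G := by
  apply le_antisymm
  · set F := Cfsg.fittingSubgroup G with hF
    haveI hFn : F.Normal := Cfsg.Agent.Helper21.fittingSubgroup_normal G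
    haveI hFnil : Group.IsNilpotent F := Cfsg.Agent.Helper21.fittingSubgroup_isNilpotent G
    have h1 : F = (⊤ : Subgroup F).map F.subtype := by
      rw [← MonoidHom.range_eq_map, Subgroup.range_subtype]
    rw [h1, ← iSup_sylow_eq_top, Subgroup.map_iSup]
    apply iSup_le
    intro p
    rw [Subgroup.map_iSup]
    apply iSup_le
    intro Q
    haveI : Fact (p : ℕ).Prime := ⟨p.2⟩
    apply le_trans _ (le_iSup (fun p : Nat.Primes => Cfsg.pCore (p : ℕ) G) p)
    apply le_sSup
    haveI : (Q : Subgroup F).Normal := inferInstance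
    haveI : (Q : Subgroup F).Characteristic := Sylow.characteristic_of_normal Q inferInstance
    exact ⟨inferInstance, Q.2.map _⟩
  · apply iSup_le
    intro p
    haveI : Fact (p : ℕ).Prime := ⟨p.2⟩
    apply le_sSup
    exact ⟨pCore_normal _, (pCore_isPGroup (p : ℕ)).isNilpotent⟩

end Cfsg.Agent.S0009
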