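import Mathlib
import Cfsg.Statements.S0011

set_option autoImplicit false
open Cfsg

namespace Cfsg.Agent.S0011

open Subgroup

theorem result {G : Type*} [Group G] [Finite G]
    (h : Group.IsNilpotent (G ⧸ frattini G)) : Group.IsNilpotent G := by
  have q := (Group.isNilpotent_of_finite_tfae (G := G)).out 0 3
  rw [q]; clear q
  intro p hp P
  let Pbar := P.mapSurjective (QuotientGroup.mk'_surjective (frattini G))
  have hnorm : (Pbar : Subgroup (G ⧸ frattini G)).Normal := inferInstance
  let N := (Pbar : Subgroup _).comap (QuotientGroup.mk' (frattini G))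
  have hNn : N.Normal := hnorm.comap _
  have hPN : (P : Subgroup G) ≤ N := Subgroup.le_comap_map _ _
  have h1 := Sylow.normalizer_sup_eq_top' P hPN
  have hN : N = (P : Subgroup G) ⊔ frattini G := by
    change ((P : Subgroup G).map (QuotientGroup.mk' (frattini G))).comap (QuotientGroup.mk' (frattini G)) = _
    rw [QuotientGroup.comap_map_mk', sup_comm]
  have h2 : normalizer ((P : Subgroup G) : Set G) ⊔ (P : Subgroup G) = normalizer ((P : Subgroup G) : Set G) :=
    sup_eq_left.mpr le_normalizer
  rw [hN, ← sup_assoc] at h1
  have h3 : normalizer ((P : Subgroup G) : Set G) ⊔ frattini G = ⊤ := by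
    rw [← h1]
    congr 1
    exact h2.symm
  exact normalizer_eq_top_iff.mp (frattini_nongenerating h3)

end Cfsg.Agent.S0011
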