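import Mathlib
import Cfsg.Statements.S0014
import Cfsg.Agent.Lib.Helper21.PGroupFrattini
import Cfsg.Agent.Lib.Helper1.QuotientCard

set_option autoImplicit false
open Cfsg
open Cfsg.Agent.Helper1

namespace Cfsg.Agent.S0014

variable {G : Type*} [Group G] [Finite G]

/-- a subgroup containing all commutators is normal -/
theorem normal_of_comm_mem {M : Subgroup G} (h : ∀ x y : G, x * y * x⁻¹ * y⁻¹ ∈ M) : M.Normal := by
  constructor
  intro m hm g
  have : g * m * g⁻¹ = (g * m * g⁻¹ * m⁻¹) * m := by group
  rw [this]
  exact M.mul_mem (h g m) hm

/-- adjoining an element whose `p`-th power lies in the normal subgroup `M` -/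
theorem card_sup_zpowers {p : ℕ} (hp : p.Prime) (M : Subgroup G) [M.Normal] (g : G)
    (hg : g ^ p ∈ M) :
    Nat.card (M ⊔ Subgroup.zpowers g : Subgroup G) = Nat.card M ∨
      (g ∉ M ∧ Nat.card (M ⊔ Subgroup.zpowers g : Subgroup G) = Nat.card M * p) := by
  have h1 := card_map_mk'_of_le M (X := M ⊔ Subgroup.zpowers g) le_sup_left
  have h2 : (M ⊔ Subgroup.zpowers g).map (QuotientGroup.mk' M)
      = Subgroup.zpowers ((g : G ⧸ M)) := by
    rw [Subgroup.map_sup, QuotientGroup.map_mk'_self, bot_sup_eq, MonoidHom.map_zpowers]
    rfl
  rw [h2, Nat.card_zpowers] at h1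
  have h3 : orderOf (g : G ⧸ M) ∣ p := by
    apply orderOf_dvd_of_pow_eq_one
    rw [← QuotientGroup.mk_pow]
    exact (QuotientGroup.eq_one_iff _).mpr hg
  rcases (Nat.dvd_prime hp).mp h3 with h | h
  · left
    rw [h, mul_one] at h1
    exact h1.symm
  · right
    refine ⟨?_, ?_⟩
    · intro hgM
      have : (g : G ⧸ M) = 1 := (QuotientGroup.eq_one_iff g).mpr hgM
      rw [this, orderOf_one] at h
      exact hp.one_lt.ne h
    · rw [h] at h1
      exact h1.symm

theorem card_sup_closure_le {p : ℕ} [hp : Fact p.Prime] (hG : IsPGroup p G) (T : Finset G) :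
    Nat.card (frattini G ⊔ Subgroup.closure (T : Set G) : Subgroup G)
      ≤ Nat.card (frattini G) * p ^ T.card := by
  classical
  induction T using Finset.induction_on with
  | empty => simp
  | insert g T hgT ih =>
    set M := frattini G ⊔ Subgroup.closure (T : Set G) with hM
    haveI hMn : M.Normal := normal_of_comm_mem (fun x y =>
      le_sup_left (a := frattini G)
        (Cfsg.Agent.Helper21.commutator_mem_frattini_of_isPGroup hG x y))
    have hpow : g ^ p ∈ M :=
      le_sup_left (a := frattini G) (Cfsg.Agent.Helper21.pow_mem_frattini_of_isPGroup hG g)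
    have heq : frattini G ⊔ Subgroup.closure ((insert g T : Finset G) : Set G)
        = M ⊔ Subgroup.zpowers g := by
      rw [Finset.coe_insert, Set.insert_eq, Subgroup.closure_union, ← Subgroup.zpowers_eq_closure,
        hM, sup_assoc, sup_comm (Subgroup.zpowers g)]
    rw [heq, Finset.card_insert_of_notMem hgT, pow_succ, ← mul_assoc]
    rcases card_sup_zpowers hp.out M g hpow with h | ⟨-, h⟩
    · rw [h]
      calc Nat.card M ≤ Nat.card (frattini G) * p ^ T.card := ih
        _ ≤ Nat.card (frattini G) * p ^ T.card * p := Nat.le_mul_of_pos_right _ hp.out.pos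
    · rw [h]
      exact Nat.mul_le_mul_right p ih

/-- Burnside's basis Theorem: in a finite p-group whose Frattini quotient has order p ^ n, every generating set contains n elements that already generate, and no set with fewer than n elements generates. -/
theorem result {G : Type*} [Group G] [Finite G] (p n : ℕ) [Fact p.Prime]
    (hG : IsPGroup p G) (hn : (frattini G).index = p ^ n) :
    (∀ S : Finset G, Subgroup.closure (S : Set G) = ⊤ → ∃ T : Finset G, T ⊆ S ∧ T.card = n ∧ Subgroup.closure (T : Set G) = ⊤) ∧
    (∀ T : Finset G, Subgroup.closure (T : Set G) = ⊤ → n ≤ T.card) := by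
  classical
  have hp : p.Prime := Fact.out
  have hcardG : Nat.card G = Nat.card (frattini G) * p ^ n := by
    rw [← hn]; exact (frattini G).card_mul_index.symm
  have hΦpos : 0 < Nat.card (frattini G) := Nat.card_pos
  constructor
  · intro S hS
    -- extend independent subsets
    have key : ∀ d : ℕ, ∀ T : Finset G, T ⊆ S → S.card - T.card = d →
        Nat.card (frattini G ⊔ Subgroup.closure (T : Set G) : Subgroup G)
          = Nat.card (frattini G) * p ^ T.card →
        ∃ T' : Finset G, T' ⊆ S ∧
          Nat.card (frattini G ⊔ Subgroup.closure (T' : Set G) : Subgroup G)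
            = Nat.card (frattini G) * p ^ T'.card ∧
          frattini G ⊔ Subgroup.closure (T' : Set G) = ⊤ := by
      intro d
      induction d using Nat.strong_induction_on with
      | _ d ih =>
        intro T hTS hd hind
        set M := frattini G ⊔ Subgroup.closure (T : Set G) with hM
        by_cases htop : M = ⊤
        · exact ⟨T, hTS, hind, htop⟩
        · -- some element of `S` is outside `M`
          have hex : ∃ g ∈ S, g ∉ M := by
            by_contra hall
            push Not at hall
            apply htop
            rw [eq_top_iff, ← hS, Subgroup.closure_le]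
            intro g hg
            exact hall g hg
          obtain ⟨g, hgS, hgM⟩ := hex
          have hgT : g ∉ T := fun h => hgM (le_sup_right (a := frattini G)
            (Subgroup.subset_closure h))
          haveI hMn : M.Normal := normal_of_comm_mem (fun x y =>
            le_sup_left (a := frattini G)
              (Cfsg.Agent.Helper21.commutator_mem_frattini_of_isPGroup hG x y))
          have hpow : g ^ p ∈ M :=
            le_sup_left (a := frattini G) (Cfsg.Agent.Helper21.pow_mem_frattini_of_isPGroup hG g)
          have heq : frattini G ⊔ Subgroup.closure ((insert g T : Finset G) : Set G)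
              = M ⊔ Subgroup.zpowers g := by
            rw [Finset.coe_insert, Set.insert_eq, Subgroup.closure_union,
              ← Subgroup.zpowers_eq_closure, hM, sup_assoc, sup_comm (Subgroup.zpowers g)]
          have hTS' : insert g T ⊆ S := Finset.insert_subset hgS hTS
          have hcardlt : T.card < S.card := by
            have := Finset.card_le_card hTS'
            rw [Finset.card_insert_of_notMem hgT] at this
            omega
          refine ih (S.card - (insert g T).card) ?_ (insert g T) hTS' rfl ?_
          · rw [Finset.card_insert_of_notMem hgT]; omega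
          · rw [heq, Finset.card_insert_of_notMem hgT, pow_succ, ← mul_assoc]
            rcases card_sup_zpowers hp M g hpow with h | ⟨-, h⟩
            · exfalso
              apply hgM
              have : M ⊔ Subgroup.zpowers g = M :=
                (Subgroup.eq_of_le_of_card_ge le_sup_left h.le).symm
              rw [← this]
              exact le_sup_right (a := M) (Subgroup.mem_zpowers g)
            · rw [h, hind]
    obtain ⟨T, hTS, hind, htop⟩ := key (S.card - (∅ : Finset G).card) ∅ (Finset.empty_subset S) rfl
      (by simp)
    refine ⟨T, hTS, ?_, ?_⟩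
    · rw [htop, Subgroup.card_top, hcardG] at hind
      have := Nat.eq_of_mul_eq_mul_left hΦpos hind
      exact (Nat.pow_right_injective hp.two_le this).symm
    · apply frattini_nongenerating
      rw [sup_comm]; exact htop
  · intro T hT
    have h1 := card_sup_closure_le hG T
    rw [hT, sup_top_eq, Subgroup.card_top, hcardG] at h1
    have h2 : p ^ n ≤ p ^ T.card := Nat.le_of_mul_le_mul_left h1 hΦpos
    exact (Nat.pow_le_pow_iff_right hp.one_lt).mp h2

end Cfsg.Agent.S0014
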