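import Mathlib
import Cfsg.Statements.S0015
import Cfsg.Agent.S0065

set_option autoImplicit false
open Cfsg

namespace Cfsg.Agent.S0015

open Subgroup

theorem result {G : Type*} [Group G] [Finite G] [Group.IsNilpotent G]
    (N : Subgroup G) [N.Normal] [IsMulCommutative N]
    (hmax : ∀ M : Subgroup G, M.Normal → IsMulCommutative M → N ≤ M → M = N) :
    Subgroup.centralizer (N : Set G) = N := by
  have hNC : N ≤ centralizer (N : Set G) := by
    intro x hx
    rw [mem_centralizer_iff]
    intro y hy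
    exact Subgroup.mul_comm_of_mem_isMulCommutative N hy hx
  by_contra hne
  set C := centralizer (N : Set G) with hC
  have hCn : C.Normal := Subgroup.normal_centralizer
  -- image of C in G ⧸ N is nontrivial and normal
  set Cbar := C.map (QuotientGroup.mk' N) with hCbar
  haveI hCbarn : Cbar.Normal := hCn.map _ (QuotientGroup.mk'_surjective N)
  have hCbar_ne : Cbar ≠ ⊥ := by
    intro hbot
    apply hne
    apply le_antisymm _ hNC
    intro x hx
    have : (QuotientGroup.mk' N) x ∈ Cbar := Subgroup.mem_map_of_mem _ hx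
    rw [hbot, Subgroup.mem_bot] at this
    exact (QuotientGroup.eq_one_iff x).mp this
  have h65 := Cfsg.Agent.S0065.result Cbar hCbar_ne
  obtain ⟨xbar, hxbar, hxbar1⟩ := (Subgroup.ne_bot_iff_exists_ne_one).mp h65 |>.imp (fun a h => h)
    |> fun ⟨a, ha⟩ => (⟨a.1, a.2, fun h => ha (Subtype.ext h)⟩ : ∃ xbar : G ⧸ N, xbar ∈ Cbar ⊓ center (G ⧸ N) ∧ xbar ≠ 1)
  obtain ⟨hxC, hxZ⟩ := Subgroup.mem_inf.mp hxbar
  obtain ⟨x, hxCC, rfl⟩ := hxC
  have hxN : x ∉ N := fun h => hxbar1 ((QuotientGroup.eq_one_iff x).mpr h)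
  -- M = N ⊔ zpowers x
  set M := N ⊔ zpowers x with hM
  have hNM : N ≤ M := le_sup_left
  have hxM : x ∈ M := Subgroup.mem_sup_right (mem_zpowers x)
  have hMn : M.Normal := by
    constructor
    intro m hm g
    rw [hM, Subgroup.mem_sup_of_normal_left] at hm
    obtain ⟨n, hn, z, hz, rfl⟩ := hm
    have h1 : g * (n * z) * g⁻¹ = (g * n * g⁻¹) * (g * z * g⁻¹) := by group
    rw [h1]
    apply M.mul_mem (hNM (‹N.Normal›.conj_mem n hn g))
    obtain ⟨i, rfl⟩ := mem_zpowers_iff.mp hz
    have h2 : g * x ^ i * g⁻¹ = (g * x * g⁻¹) ^ i := by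
      rw [conj_zpow]
    rw [h2]
    apply M.zpow_mem
    -- g x g⁻¹ ∈ x N
    have h3 : (QuotientGroup.mk' N) (g * x * g⁻¹) = (QuotientGroup.mk' N) x := by
      rw [map_mul, map_mul, map_inv]
      rw [Subgroup.mem_center_iff] at hxZ
      rw [hxZ ((QuotientGroup.mk' N) g)]
      group
    have h4 : x⁻¹ * (g * x * g⁻¹) ∈ N := by
      rw [← QuotientGroup.eq_one_iff]
      change (QuotientGroup.mk' N) (x⁻¹ * (g * x * g⁻¹)) = 1
      rw [map_mul, h3, map_inv, inv_mul_cancel]
    have : g * x * g⁻¹ = x * (x⁻¹ * (g * x * g⁻¹)) := by group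
    rw [this]
    exact M.mul_mem hxM (hNM h4)
  have hMc : IsMulCommutative M := by
    rw [hM, Subgroup.sup_eq_closure]
    apply Subgroup.isMulCommutative_closure
    intro a ha b hb
    rcases ha with ha | ha <;> rcases hb with hb | hb
    · exact Subgroup.mul_comm_of_mem_isMulCommutative N ha hb
    · obtain ⟨i, rfl⟩ := mem_zpowers_iff.mp hb
      have := (Subgroup.zpow_mem C hxCC i)
      rw [mem_centralizer_iff] at this
      exact this a ha
    · obtain ⟨i, rfl⟩ := mem_zpowers_iff.mp ha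
      have := (Subgroup.zpow_mem C hxCC i)
      rw [mem_centralizer_iff] at this
      exact (this b hb).symm
    · obtain ⟨i, rfl⟩ := mem_zpowers_iff.mp ha
      obtain ⟨j, rfl⟩ := mem_zpowers_iff.mp hb
      exact (Commute.refl x).zpow_zpow i j |>.eq
  have := hmax M hMn hMc hNM
  rw [this] at hxM
  exact hxN hxM

end Cfsg.Agent.S0015
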