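import Mathlib
import Cfsg.Statements.S0018
import Cfsg.Agent.S0017
import Cfsg.Agent.Lib.Helper9.PPrimeCoreSub
import Cfsg.Agent.Lib.Helper22.PPrimeCore
import Cfsg.Agent.Lib.Helper14.Basic

set_option autoImplicit false
open Cfsg

namespace Cfsg.Agent.S0018

universe u

theorem aux {G : Type u} [Group G] [Finite G] [Group.IsSolvable G]
    (p : ℕ) [Fact p.Prime] (P : Sylow p G) (hP : IsMulCommutative P) :
    ((P : Subgroup G) ⊔ Cfsg.pPrimeCore p G).Normal := by
  haveI hN : (Cfsg.pPrimeCore p G).Normal := Cfsg.Agent.Helper22.pPrimeCore_normal p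
  set N := Cfsg.pPrimeCore p G with hNdef
  have hsurj : Function.Surjective (QuotientGroup.mk' N) := QuotientGroup.mk'_surjective N
  haveI : Group.IsSolvable (G ⧸ N) := Group.isSolvable_of_surjective hsurj
  have hbot : Cfsg.pPrimeCore p (G ⧸ N) = ⊥ := Cfsg.Agent.Helper9.pPrimeCore_quotient_eq_bot p
  have h17 := Cfsg.Agent.S0017.result (G := G ⧸ N) p hbot
  set Pbar : Sylow p (G ⧸ N) := P.mapSurjective hsurj with hPbar
  have hPbar_coe : (Pbar : Subgroup (G ⧸ N)) = (P : Subgroup G).map (QuotientGroup.mk' N) :=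
    Sylow.coe_mapSurjective hsurj P
  haveI : IsMulCommutative ((P : Subgroup G).map (QuotientGroup.mk' N)) :=
    Subgroup.map_isMulCommutative _ _
  have hle : Cfsg.pCore p (G ⧸ N) ≤ (Pbar : Subgroup (G ⧸ N)) :=
    Cfsg.Agent.Helper14.pCore_le_sylow Pbar
  have hcent : (Pbar : Subgroup (G ⧸ N)) ≤ Subgroup.centralizer (Cfsg.pCore p (G ⧸ N) : Set (G ⧸ N)) := by
    intro x hx
    rw [Subgroup.mem_centralizer_iff]
    intro y hy
    have hy' : y ∈ (P : Subgroup G).map (QuotientGroup.mk' N) := hPbar_coe ▸ hle hy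
    have hx' : x ∈ (P : Subgroup G).map (QuotientGroup.mk' N) := hPbar_coe ▸ hx
    exact Subgroup.mul_comm_of_mem_isMulCommutative _ hy' hx'
  have heq : (Pbar : Subgroup (G ⧸ N)) = Cfsg.pCore p (G ⧸ N) :=
    le_antisymm (hcent.trans h17) hle
  have hnorm : (Cfsg.pCore p (G ⧸ N)).Normal := by
    unfold Cfsg.pCore
    exact Subgroup.sSup_normal _ (fun _ h => h.1)
  have h2 : ((Pbar : Subgroup (G ⧸ N)).comap (QuotientGroup.mk' N)).Normal := by
    rw [heq]; exact hnorm.comap _
  rw [hPbar_coe, Subgroup.comap_map_eq, QuotientGroup.ker_mk'] at h2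
  exact h2

/-- A finite solvable group whose Sylow p-subgroups are abelian has p-length one: a Sylow p-subgroup together with the largest normal subgroup of order prime to p generates a normal subgroup. -/
theorem result {G : Type*} [Group G] [Finite G] [Group.IsSolvable G]
    (p : ℕ) [Fact p.Prime] (P : Sylow p G) (hP : IsMulCommutative P) :
    ((P : Subgroup G) ⊔ Cfsg.pPrimeCore p G).Normal := by
  exact aux p P hP

end Cfsg.Agent.S0018
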