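import Mathlib
import Cfsg.Statements.S0020
import Cfsg.Agent.Lib.Helper1.Hall
import Cfsg.Agent.Lib.Helper1.CoprimeIndex

set_option autoImplicit false
open Cfsg

namespace Cfsg.Agent.S0020

open Cfsg.Agent.Helper1
open scoped Pointwise

/-- Index of an intersection of subgroups of pairwise coprime prime-power indices. -/
theorem index_inf_eq_prod {G : Type*} [Group G] [Finite G] (N : ℕ) (H : ℕ → Subgroup G)
    (hH : ∀ q : ℕ, q.Prime → (H q).index = q ^ N.factorization q) :
    ∀ T : Finset ℕ, (∀ q ∈ T, q.Prime) → (T.inf H).index = ∏ q ∈ T, q ^ N.factorization q := by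
  classical
  intro T
  induction T using Finset.induction_on with
  | empty => intro _; simp
  | insert r₀ T hr₀ ih =>
    intro hT
    have hT' : ∀ q ∈ T, q.Prime := fun q hq => hT q (Finset.mem_insert_of_mem hq)
    have hr₀p : r₀.Prime := hT r₀ (Finset.mem_insert_self _ _)
    rw [Finset.inf_insert, Finset.prod_insert hr₀]
    have hcop : (H r₀).index.Coprime (T.inf H).index := by
      rw [hH r₀ hr₀p, ih hT']
      apply Nat.Coprime.prod_right
      intro q hq
      apply Nat.Coprime.pow
      rw [Nat.coprime_primes hr₀p (hT' q hq)]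
      rintro rfl
      exact hr₀ hq
    rw [index_inf_of_coprime hcop, hH r₀ hr₀p, ih hT']

/-- A finite solvable group admits a Sylow system: Sylow subgroups, one for each prime, that pairwise permute as sets. -/
theorem result {G : Type*} [Group G] [Finite G] [Group.IsSolvable G] :
    ∃ S : (p : Nat.Primes) → Sylow (p : ℕ) G,
      ∀ p q : Nat.Primes, (S p : Set G) * (S q : Set G) = (S q : Set G) * (S p : Set G) := by
  classical
  set N := Nat.card G with hN
  have hN0 : N ≠ 0 := Nat.card_pos.ne'
  -- Hall complements
  have hex : ∀ q : ℕ, ∃ H : Subgroup G, q.Prime → H.index = q ^ N.factorization q := by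
    intro q
    by_cases hq : q.Prime
    · have hmul : N = (N / q ^ N.factorization q) * q ^ N.factorization q :=
        (Nat.div_mul_cancel (Nat.ordProj_dvd N q)).symm
      have hcop : (N / q ^ N.factorization q).Coprime (q ^ N.factorization q) :=
        (Nat.Coprime.pow_left _ (Nat.coprime_ordCompl hq hN0)).symm
      obtain ⟨H, hHc⟩ := hall_exists (G := G) _ _ hmul hcop
      refine ⟨H, fun _ => ?_⟩
      have h1 := H.card_mul_index
      rw [hHc, ← hN] at h1
      have hpos : 0 < N / q ^ N.factorization q :=
        Nat.div_pos (Nat.le_of_dvd (Nat.pos_of_ne_zero hN0) (Nat.ordProj_dvd N q))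
          (pow_pos hq.pos _)
      apply Nat.eq_of_mul_eq_mul_left hpos
      rw [h1]; exact hmul
    · exact ⟨⊤, fun h => absurd h hq⟩
  choose H hH using hex
  have hidx := index_inf_eq_prod N H hH
  set PF := N.primeFactors with hPF
  have hPFp : ∀ q ∈ PF, q.Prime := fun q hq => Nat.prime_of_mem_primeFactors hq
  have hprod : ∏ q ∈ PF, q ^ N.factorization q = N := by
    conv_rhs => rw [← Nat.prod_factorization_pow_eq_self hN0]
    rfl
  -- the product over `T.erase r`
  have herase : ∀ (T : Finset ℕ) (r : ℕ), T ⊆ PF →
      ∏ q ∈ T, q ^ N.factorization q = r ^ (if r ∈ T then N.factorization r else 0) *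
        ∏ q ∈ T.erase r, q ^ N.factorization q := by
    intro T r _
    by_cases hr : r ∈ T
    · rw [if_pos hr, Finset.mul_prod_erase _ (fun q => q ^ N.factorization q) hr]
    · rw [if_neg hr, pow_zero, one_mul, Finset.erase_eq_of_notMem hr]
  have hfac0 : ∀ r : ℕ, r ∉ PF → N.factorization r = 0 := by
    intro r hr
    rw [hPF, ← Nat.support_factorization] at hr
    exact Finsupp.notMem_support_iff.mp hr
  -- the candidate Sylow subgroups
  let Sp : ℕ → Subgroup G := fun p => (PF.erase p).inf H
  have hSpidx : ∀ p, (Sp p).index = ∏ q ∈ PF.erase p, q ^ N.factorization q := fun p =>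
    hidx _ (fun q hq => hPFp q (Finset.mem_of_mem_erase hq))
  have hSpcard : ∀ p : ℕ, p.Prime → Nat.card (Sp p) = p ^ N.factorization p := by
    intro p hp
    have h1 := (Sp p).card_mul_index
    rw [hSpidx p, ← hN] at h1
    have h2 := herase PF p subset_rfl
    rw [hprod] at h2
    have h3 : (if p ∈ PF then N.factorization p else 0) = N.factorization p := by
      split_ifs with h
      · rfl
      · exact (hfac0 p h).symm
    rw [h3] at h2
    have hpos : 0 < ∏ q ∈ PF.erase p, q ^ N.factorization q :=
      Finset.prod_pos fun q hq => pow_pos (hPFp q (Finset.mem_of_mem_erase hq)).pos _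
    apply Nat.eq_of_mul_eq_mul_right hpos
    rw [h1]; exact h2
  refine ⟨fun p => @Sylow.ofCard G _ _ (p : ℕ) ⟨p.2⟩ (Sp p) (hSpcard p p.2), ?_⟩
  intro p r
  change ((Sp p : Subgroup G) : Set G) * ((Sp r : Subgroup G) : Set G) =
    ((Sp r : Subgroup G) : Set G) * ((Sp p : Subgroup G) : Set G)
  by_cases hpr : (p : ℕ) = r
  · rw [hpr]
  -- the Hall `{p, r}`-subgroup
  have main : ∀ p r : ℕ, p.Prime → r.Prime → p ≠ r →
      ((Sp p : Subgroup G) : Set G) * ((Sp r : Subgroup G) : Set G) =
        ((((PF.erase p).erase r).inf H : Subgroup G) : Set G) := by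
    intro p r hp hr hpr
    set D : Subgroup G := ((PF.erase p).erase r).inf H with hD
    have hpD : Sp p ≤ D := Finset.inf_mono (Finset.erase_subset _ _)
    have hrD : Sp r ≤ D := by
      rw [hD, Finset.erase_right_comm]
      exact Finset.inf_mono (Finset.erase_subset _ _)
    have hDidx : D.index = ∏ q ∈ (PF.erase p).erase r, q ^ N.factorization q :=
      hidx _ (fun q hq => hPFp q (Finset.mem_of_mem_erase (Finset.mem_of_mem_erase hq)))
    have hDidx' : D.index = ∏ q ∈ (PF.erase r).erase p, q ^ N.factorization q := by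
      rw [hDidx, Finset.erase_right_comm]
    have hposD : 0 < D.index := Nat.pos_of_ne_zero Subgroup.index_ne_zero_of_finite
    -- relative indices
    have hrel1 : (Sp p).relIndex D = r ^ N.factorization r := by
      have h1 := Subgroup.relIndex_mul_index hpD
      rw [hSpidx p, herase (PF.erase p) r (Finset.erase_subset _ _), ← hDidx] at h1
      have h3 : (if r ∈ PF.erase p then N.factorization r else 0) = N.factorization r := by
        split_ifs with h
        · rfl
        · have : r ∉ PF := fun hmem => h (Finset.mem_erase.mpr ⟨Ne.symm hpr, hmem⟩)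
          exact (hfac0 r this).symm
      rw [h3] at h1
      exact Nat.eq_of_mul_eq_mul_right hposD h1
    have hrel2 : (Sp r).relIndex D = p ^ N.factorization p := by
      have h1 := Subgroup.relIndex_mul_index hrD
      rw [hSpidx r, herase (PF.erase r) p (Finset.erase_subset _ _), ← hDidx'] at h1
      have h3 : (if p ∈ PF.erase r then N.factorization p else 0) = N.factorization p := by
        split_ifs with h
        · rfl
        · have : p ∉ PF := fun hmem => h (Finset.mem_erase.mpr ⟨hpr, hmem⟩)
          exact (hfac0 p this).symm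
      rw [h3] at h1
      exact Nat.eq_of_mul_eq_mul_right hposD h1
    have hcop : ((Sp p).subgroupOf D).index.Coprime ((Sp r).subgroupOf D).index := by
      change ((Sp p).relIndex D).Coprime ((Sp r).relIndex D)
      rw [hrel1, hrel2]
      exact Nat.Coprime.pow _ _ ((Nat.coprime_primes hr hp).mpr (Ne.symm hpr))
    apply Set.Subset.antisymm
    · rintro x ⟨a, ha, b, hb, rfl⟩
      exact D.mul_mem (hpD ha) (hrD hb)
    · intro d hd
      obtain ⟨a, ha, b, hb, hab⟩ := exists_mul_of_coprime_index hcop (⟨d, hd⟩ : D)
      refine ⟨a, Subgroup.mem_subgroupOf.mp ha, b, Subgroup.mem_subgroupOf.mp hb, ?_⟩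
      have := congrArg Subtype.val hab
      simpa using this.symm
  rw [main p r p.2 r.2 hpr, main r p r.2 p.2 (Ne.symm hpr), Finset.erase_right_comm]

end Cfsg.Agent.S0020
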