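import Mathlib
import Cfsg.Statements.S0021
import Cfsg.Agent.S0006
import Cfsg.Agent.Lib.Helper1.Permutable

set_option autoImplicit false
open Cfsg

namespace Cfsg.Agent.S0021

open Cfsg.Agent.Helper1
open scoped Pointwise

/-- A finite group with a family of pairwise permuting Sylow subgroups, one for each prime, is solvable (this direction rests on Burnside's two-prime Theorem). -/
theorem result {G : Type*} [Group G] [Finite G]
    (S : (p : Nat.Primes) → Sylow (p : ℕ) G)
    (hS : ∀ p q : Nat.Primes, (S p : Set G) * (S q : Set G) = (S q : Set G) * (S p : Set G)) :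
    Group.IsSolvable G := by
  classical
  apply Cfsg.Agent.S0006.result
  intro p hp
  set N := Nat.card G with hN
  have hN0 : N ≠ 0 := Nat.card_pos.ne'
  let S' : ℕ → Subgroup G := fun q => if h : q.Prime then (S ⟨q, h⟩ : Subgroup G) else ⊥
  have hperm : ∀ q r : ℕ, ((S' q : Subgroup G) : Set G) * ((S' r : Subgroup G) : Set G) =
      ((S' r : Subgroup G) : Set G) * ((S' q : Subgroup G) : Set G) := by
    intro q r
    by_cases hq : q.Prime
    · by_cases hr : r.Prime
      · simp only [S', dif_pos hq, dif_pos hr]
        exact hS ⟨q, hq⟩ ⟨r, hr⟩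
      · simp only [S', dif_neg hr, Subgroup.coe_bot, Set.mul_singleton, Set.singleton_mul]
        simp
    · simp only [S', dif_neg hq, Subgroup.coe_bot, Set.mul_singleton, Set.singleton_mul]
      simp
  have hcard : ∀ q : ℕ, q.Prime → Nat.card (S' q) = q ^ N.factorization q := by
    intro q hq
    simp only [S', dif_pos hq]
    haveI : Fact q.Prime := ⟨hq⟩
    exact (S ⟨q, hq⟩).card_eq_multiplicity
  have key : ∀ T : Finset ℕ, (∀ q ∈ T, q.Prime) →
      (∀ r : ℕ, ((S' r : Subgroup G) : Set G) * ((T.sup S' : Subgroup G) : Set G) =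
        ((T.sup S' : Subgroup G) : Set G) * ((S' r : Subgroup G) : Set G)) ∧
      Nat.card (T.sup S' : Subgroup G) = ∏ q ∈ T, q ^ N.factorization q := by
    intro T
    induction T using Finset.induction_on with
    | empty =>
      intro _
      refine ⟨fun r => ?_, ?_⟩
      · simp
      · simp
    | insert r₀ T hr₀ ih =>
      intro hT
      have hT' : ∀ q ∈ T, q.Prime := fun q hq => hT q (Finset.mem_insert_of_mem hq)
      have hr₀p : r₀.Prime := hT r₀ (Finset.mem_insert_self _ _)
      obtain ⟨ih1, ih2⟩ := ih hT'
      rw [Finset.sup_insert]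
      refine ⟨fun r => mul_comm_sup (hperm r r₀) (ih1 r) (ih1 r₀), ?_⟩
      rw [Finset.prod_insert hr₀]
      have hcop : (Nat.card (S' r₀)).Coprime (Nat.card (T.sup S' : Subgroup G)) := by
        rw [hcard r₀ hr₀p, ih2]
        apply Nat.Coprime.prod_right
        intro q hq
        apply Nat.Coprime.pow
        rw [Nat.coprime_primes hr₀p (hT' q hq)]
        rintro rfl
        exact hr₀ hq
      rw [card_sup_of_mul_comm (ih1 r₀) (Subgroup.disjoint_of_coprime_natCard hcop).eq_bot,
        hcard r₀ hr₀p, ih2]
  set T := N.primeFactors.erase p with hT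
  obtain ⟨-, hK⟩ := key T (fun q hq => Nat.prime_of_mem_primeFactors (Finset.mem_of_mem_erase hq))
  refine ⟨T.sup S', ?_⟩
  have hprod : ∏ q ∈ N.primeFactors, q ^ N.factorization q = N := by
    conv_rhs => rw [← Nat.prod_factorization_pow_eq_self hN0]
    rfl
  have hmul : Nat.card (T.sup S' : Subgroup G) * p ^ N.factorization p = N := by
    rw [hK]
    by_cases hpm : p ∈ N.primeFactors
    · rw [mul_comm, hT, Finset.mul_prod_erase _ (fun q => q ^ N.factorization q) hpm, hprod]
    · rw [hT, Finset.erase_eq_of_notMem hpm, hprod]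
      have : N.factorization p = 0 := by
        rw [← Nat.support_factorization] at hpm
        exact Finsupp.notMem_support_iff.mp hpm
      rw [this, pow_zero, mul_one]
  have h2 := (T.sup S' : Subgroup G).card_mul_index
  rw [← hN, ← hmul] at h2
  exact Nat.eq_of_mul_eq_mul_left Nat.card_pos h2

end Cfsg.Agent.S0021
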