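import Mathlib
import Cfsg.Statements.S0031
import Cfsg.Agent.Lib.Helper1.SylowBasic

set_option autoImplicit false
open Cfsg

namespace Cfsg.Agent.S0031

open Subgroup Cfsg.Agent.Helper1
open scoped Pointwise

theorem result {G : Type*} [Group G] [Finite G] (φ : G ≃* G)
    (hφ : MonoidHom.FixedPointFree (φ : G →* G)) (p : ℕ) [Fact p.Prime] :
    ∃ P : Sylow p G, (P : Subgroup G).map (φ : G →* G) = P := by
  obtain ⟨P⟩ : Nonempty (Sylow p G) := inferInstance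
  -- the image of P under φ is a Sylow subgroup
  let φ' : MulAut G := φ
  obtain ⟨g, hg⟩ := MulAction.exists_smul_eq G P (φ' • P)
  have hmem : ∀ z : G, z ∈ φ' • P ↔ φ.symm z ∈ P := by
    intro z
    change z ∈ (φ' • (P : Subgroup G)) ↔ _
    rw [Subgroup.mem_pointwise_smul_iff_inv_smul_mem]
    rfl
  obtain ⟨y, hy⟩ := MonoidHom.FixedPointFree.commutatorMap_surjective hφ g⁻¹
  simp only [MonoidHom.commutatorMap_apply, MonoidHom.coe_coe] at hy
  -- x = y⁻¹ satisfies x = φ x * g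
  have hx : y⁻¹ = φ y⁻¹ * g := by
    have : g = (y / φ y)⁻¹ := by rw [hy, inv_inv]
    rw [this, map_inv, div_eq_mul_inv]; group
  refine ⟨y⁻¹ • P, ?_⟩
  ext z
  rw [Subgroup.mem_map]
  constructor
  · rintro ⟨w, hw, rfl⟩
    change w ∈ y⁻¹ • P at hw
    change φ w ∈ y⁻¹ • P
    rw [mem_smul_sylow_iff] at hw ⊢
    -- φ (x⁻¹ w x) ∈ φ • P = g • P
    have h1 : φ (y⁻¹⁻¹ * w * y⁻¹) ∈ φ' • P := by
      rw [hmem]; simpa using hw
    rw [← hg, mem_smul_sylow_iff] at h1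
    have h2 : y⁻¹⁻¹ * φ w * y⁻¹ = g⁻¹ * φ (y⁻¹⁻¹ * w * y⁻¹) * g := by
      conv_lhs => rw [hx]
      simp only [map_mul, map_inv]
      group
    rw [h2]; exact h1
  · intro hz
    change z ∈ y⁻¹ • P at hz
    refine ⟨φ.symm z, ?_, by simp⟩
    change φ.symm z ∈ y⁻¹ • P
    rw [mem_smul_sylow_iff] at hz ⊢
    have h2 : g⁻¹ * φ (y⁻¹⁻¹ * φ.symm z * y⁻¹) * g = y⁻¹⁻¹ * z * y⁻¹ := by
      conv_rhs => rw [hx]
      simp only [map_mul, map_inv, MulEquiv.apply_symm_apply]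
      group
    have h1 : φ (y⁻¹⁻¹ * φ.symm z * y⁻¹) ∈ g • P := by
      rw [mem_smul_sylow_iff, h2]; exact hz
    rw [hg, hmem] at h1
    simpa using h1

end Cfsg.Agent.S0031
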