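import Mathlib
import Cfsg.Statements.S0036
import Cfsg.Agent.S0034

set_option autoImplicit false
open Pointwise
open Cfsg

namespace Cfsg.Agent.S0036

open Cfsg.Agent.S0034 (mem_conj_smul mem_of_conj_mem)

variable {G : Type*} [Group G]

/-- Lemma F: a nontrivial element lies in at most one conjugate of a Frobenius complement. -/
theorem lemF (H : Subgroup G) (hH : Cfsg.IsFrobeniusComplement H) {x a b : G} (hx1 : x ≠ 1)
    (ha : x ∈ MulAut.conj a • H) (hb : x ∈ MulAut.conj b • H) : a⁻¹ * b ∈ H := by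
  rw [mem_conj_smul] at ha hb
  have h1 : a⁻¹ * x * a ≠ 1 := by
    intro h
    apply hx1
    have : x = a * (a⁻¹ * x * a) * a⁻¹ := by group
    rw [this, h]; group
  apply mem_of_conj_mem H hH ha h1
  have : (a⁻¹ * b)⁻¹ * (a⁻¹ * x * a) * (a⁻¹ * b) = b⁻¹ * x * b := by group
  rw [this]; exact hb

/-- Lemma N: the conjugates of a Frobenius complement are self-normalizing in a strong sense. -/
theorem lemN (H : Subgroup G) (hH : Cfsg.IsFrobeniusComplement H) {x y a : G} (hx1 : x ≠ 1)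
    (ha : x ∈ MulAut.conj a • H) (hy : y * x * y⁻¹ ∈ MulAut.conj a • H) : y ∈ MulAut.conj a • H := by
  have h2 : x ∈ MulAut.conj (y⁻¹ * a) • H := by
    rw [mem_conj_smul] at hy ⊢
    have : (y⁻¹ * a)⁻¹ * x * (y⁻¹ * a) = a⁻¹ * (y * x * y⁻¹) * a := by group
    rw [this]; exact hy
  have h3 := lemF H hH hx1 ha h2
  rw [mem_conj_smul]
  have : a⁻¹ * y * a = (a⁻¹ * (y⁻¹ * a))⁻¹ := by group
  rw [this]
  exact H.inv_mem h3

theorem kernel_conj (H : Subgroup G) {k : G} (hk : k ∈ Cfsg.frobeniusKernel H) (g : G) :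
    g * k * g⁻¹ ∈ Cfsg.frobeniusKernel H := by
  rcases hk with hk | hk
  · left; rw [hk]; group
  · right
    intro x hx
    apply hk (g⁻¹ * x)
    rw [mem_conj_smul] at hx ⊢
    have : (g⁻¹ * x)⁻¹ * k * (g⁻¹ * x) = x⁻¹ * (g * k * g⁻¹) * x := by group
    rw [this]; exact hx

/-- Lemma 2: the product of two involutions from different conjugates lies in the kernel. -/
theorem lem2 (H : Subgroup G) (hH : Cfsg.IsFrobeniusComplement H) {u v a b : G}
    (hu1 : u ≠ 1) (hu2 : u * u = 1) (hv1 : v ≠ 1) (hv2 : v * v = 1)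
    (hua : u ∈ MulAut.conj a • H) (hvb : v ∈ MulAut.conj b • H) (hab : a⁻¹ * b ∉ H) :
    u * v ∈ Cfsg.frobeniusKernel H := by
  by_contra hK
  unfold Cfsg.frobeniusKernel at hK
  rw [Set.mem_ofPred_eq, not_or] at hK
  obtain ⟨hw1, hw2⟩ := hK
  push Not at hw2
  obtain ⟨x, hx⟩ := hw2
  have huinv : u⁻¹ = u := inv_eq_of_mul_eq_one_right hu2
  have hvinv : v⁻¹ = v := inv_eq_of_mul_eq_one_right hv2
  have hwinv : (u * v)⁻¹ ∈ MulAut.conj x • H := Subgroup.inv_mem _ hx
  have h1 : u * (u * v) * u⁻¹ = (u * v)⁻¹ := by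
    rw [mul_inv_rev, huinv, hvinv, ← mul_assoc, hu2, one_mul]
  have h2 : v * (u * v) * v⁻¹ = (u * v)⁻¹ := by
    rw [mul_inv_rev, huinv, hvinv, mul_assoc, mul_assoc, hv2, mul_one]
  have hux : u ∈ MulAut.conj x • H := lemN H hH hw1 hx (h1 ▸ hwinv)
  have hvx : v ∈ MulAut.conj x • H := lemN H hH hw1 hx (h2 ▸ hwinv)
  have e1 := lemF H hH hu1 hua hux
  have e2 := lemF H hH hv1 hvb hvx
  apply hab
  have : a⁻¹ * b = (a⁻¹ * x) * (b⁻¹ * x)⁻¹ := by group
  rw [this]
  exact H.mul_mem e1 (H.inv_mem e2)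

/-- Lemma 3: every element of the kernel is `t` times a conjugate of `t`. -/
theorem lem3 [Finite G] (H : Subgroup G) (hH : Cfsg.IsFrobeniusComplement H)
    (t : G) (ht : t ∈ H) (ht1 : t ≠ 1) (ht2 : t * t = 1) :
    ∀ k ∈ Cfsg.frobeniusKernel H, ∃ g : G, k = t * (g * t * g⁻¹) := by
  classical
  have htH : t ∈ MulAut.conj (1 : G) • H := by rw [map_one, one_smul]; exact ht
  let r : G ⧸ H → G := fun q => if q = ((1 : G) : G ⧸ H) then 1 else q.out
  have hr : ∀ q : G ⧸ H, ((r q : G) : G ⧸ H) = q := by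
    intro q
    by_cases hq : q = ((1 : G) : G ⧸ H)
    · simp only [r, if_pos hq]; exact hq.symm
    · simp only [r, if_neg hq]; exact QuotientGroup.out_eq' q
  have hconj1 : ∀ g : G, g * t * g⁻¹ ≠ 1 := by
    intro g h
    apply ht1
    have : t = g⁻¹ * (g * t * g⁻¹) * g := by group
    rw [this, h]; group
  have hconj2 : ∀ g : G, (g * t * g⁻¹) * (g * t * g⁻¹) = 1 := by
    intro g
    have : (g * t * g⁻¹) * (g * t * g⁻¹) = g * (t * t) * g⁻¹ := by group
    rw [this, ht2]; group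
  have hconjmem : ∀ g : G, g * t * g⁻¹ ∈ MulAut.conj g • H := by
    intro g
    rw [mem_conj_smul]
    have : g⁻¹ * (g * t * g⁻¹) * g = t := by group
    rw [this]; exact ht
  have hmem : ∀ q : G ⧸ H, t * (r q * t * (r q)⁻¹) ∈ Cfsg.frobeniusKernel H := by
    intro q
    by_cases hq : q = ((1 : G) : G ⧸ H)
    · left
      simp only [r, if_pos hq]
      rw [one_mul, inv_one, mul_one, ht2]
    · apply lem2 H hH ht1 ht2 (hconj1 _) (hconj2 _) htH (hconjmem _)
      intro hcon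
      apply hq
      rw [← hr q]
      have : r q ∈ H := by simpa using hcon
      exact (QuotientGroup.eq.2 (by simpa using this)).symm
  let f : G ⧸ H → Cfsg.frobeniusKernel H := fun q => ⟨t * (r q * t * (r q)⁻¹), hmem q⟩
  have hinj : Function.Injective f := by
    intro q q' h
    have h1 : t * (r q * t * (r q)⁻¹) = t * (r q' * t * (r q')⁻¹) := congrArg Subtype.val h
    have h2 : r q * t * (r q)⁻¹ = r q' * t * (r q')⁻¹ := mul_left_cancel h1
    have h3 := lemF H hH (hconj1 (r q)) (hconjmem (r q)) (h2 ▸ hconjmem (r q'))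
    rw [← hr q, ← hr q']
    exact QuotientGroup.eq.2 h3
  have hcard : Nat.card (Cfsg.frobeniusKernel H) ≤ Nat.card (G ⧸ H) := by
    rw [(Cfsg.Agent.S0034.result H hH).1, Subgroup.index_eq_card]
  have hbij := hinj.bijective_of_nat_card_le hcard
  intro k hk
  obtain ⟨q, hq⟩ := hbij.2 ⟨k, hk⟩
  exact ⟨r q, (congrArg Subtype.val hq).symm⟩

/-- When a Frobenius complement contains an involution, an elementary argument shows the Frobenius kernel is closed under multiplication (hence a subgroup). -/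
theorem result {G : Type*} [Group G] [Finite G] (H : Subgroup G) (hH : Cfsg.IsFrobeniusComplement H)
    (t : G) (ht : t ∈ H) (ht1 : t ≠ 1) (ht2 : t * t = 1) :
    ∀ x ∈ Cfsg.frobeniusKernel H, ∀ y ∈ Cfsg.frobeniusKernel H, x * y ∈ Cfsg.frobeniusKernel H := by
  have htinv : t⁻¹ = t := inv_eq_of_mul_eq_one_right ht2
  have htH : t ∈ MulAut.conj (1 : G) • H := by rw [map_one, one_smul]; exact ht
  have hrep := lem3 H hH t ht ht1 ht2
  -- (I) t inverts the kernel
  have hI : ∀ k ∈ Cfsg.frobeniusKernel H, t * k * t⁻¹ = k⁻¹ := by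
    intro k hk
    obtain ⟨g, rfl⟩ := hrep k hk
    have hv2 : (g * t * g⁻¹) * (g * t * g⁻¹) = 1 := by
      have : (g * t * g⁻¹) * (g * t * g⁻¹) = g * (t * t) * g⁻¹ := by group
      rw [this, ht2]; group
    have hvinv : (g * t * g⁻¹)⁻¹ = g * t * g⁻¹ := inv_eq_of_mul_eq_one_right hv2
    rw [mul_inv_rev, hvinv, htinv, ← mul_assoc, ← mul_assoc, ht2, one_mul]
  -- (III) every conjugate of t inverts the kernel
  have hIII : ∀ g : G, ∀ k ∈ Cfsg.frobeniusKernel H, (g * t * g⁻¹) * k * (g * t * g⁻¹)⁻¹ = k⁻¹ := by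
    intro g k hk
    have h1 := hI _ (kernel_conj H hk g⁻¹)
    rw [inv_inv] at h1
    calc (g * t * g⁻¹) * k * (g * t * g⁻¹)⁻¹ = g * (t * (g⁻¹ * k * g) * t⁻¹) * g⁻¹ := by group
      _ = g * (g⁻¹ * k * g)⁻¹ * g⁻¹ := by rw [h1]
      _ = k⁻¹ := by group
  -- (IV) the kernel is commutative
  have hIV : ∀ a ∈ Cfsg.frobeniusKernel H, ∀ k ∈ Cfsg.frobeniusKernel H, a * k * a⁻¹ = k := by
    intro a ha k hk
    obtain ⟨g, rfl⟩ := hrep a ha
    have hkinv : k⁻¹ ∈ Cfsg.frobeniusKernel H := by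
      rcases hk with hk | hk
      · left; rw [hk, inv_one]
      · right; intro x hx; exact hk x (by have := Subgroup.inv_mem _ hx; rwa [inv_inv] at this)
    calc t * (g * t * g⁻¹) * k * (t * (g * t * g⁻¹))⁻¹
        = t * ((g * t * g⁻¹) * k * (g * t * g⁻¹)⁻¹) * t⁻¹ := by group
      _ = t * k⁻¹ * t⁻¹ := by rw [hIII g k hk]
      _ = k := by rw [hI _ hkinv, inv_inv]
  intro a ha b hb
  by_contra hK
  unfold Cfsg.frobeniusKernel at hK
  rw [Set.mem_ofPred_eq, not_or] at hK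
  obtain ⟨hw1, hw2⟩ := hK
  push Not at hw2
  obtain ⟨x, hx⟩ := hw2
  have hwinv : (a * b)⁻¹ ∈ MulAut.conj x • H := Subgroup.inv_mem _ hx
  have hcomm : a * b = b * a := by
    have := hIV a ha b hb
    calc a * b = (a * b * a⁻¹) * a := by group
      _ = b * a := by rw [this]
  -- any conjugate s of t inverts a * b
  have hinv : ∀ g : G, (g * t * g⁻¹) * (a * b) * (g * t * g⁻¹)⁻¹ = (a * b)⁻¹ := by
    intro g
    calc (g * t * g⁻¹) * (a * b) * (g * t * g⁻¹)⁻¹
        = ((g * t * g⁻¹) * a * (g * t * g⁻¹)⁻¹) * ((g * t * g⁻¹) * b * (g * t * g⁻¹)⁻¹) := by group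
      _ = a⁻¹ * b⁻¹ := by rw [hIII g a ha, hIII g b hb]
      _ = (a * b)⁻¹ := by rw [hcomm, mul_inv_rev]
  have hsx : ∀ g : G, g * t * g⁻¹ ∈ MulAut.conj x • H := by
    intro g
    exact lemN H hH hw1 hx (by rw [hinv g]; exact hwinv)
  have hconj1 : ∀ g : G, g * t * g⁻¹ ≠ 1 := by
    intro g h
    apply ht1
    have : t = g⁻¹ * (g * t * g⁻¹) * g := by group
    rw [this, h]; group
  have hconjmem : ∀ g : G, g * t * g⁻¹ ∈ MulAut.conj g • H := by
    intro g
    rw [mem_conj_smul]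
    have : g⁻¹ * (g * t * g⁻¹) * g = t := by group
    rw [this]; exact ht
  -- x ∈ H
  have hxH : ∀ g : G, g⁻¹ * x ∈ H := fun g => lemF H hH (hconj1 g) (hconjmem g) (hsx g)
  -- pick g ∉ H
  obtain ⟨g, hg⟩ : ∃ g : G, g ∉ H := by
    by_contra hall
    push Not at hall
    exact hH.2.1 (eq_top_iff.2 (fun g _ => hall g))
  apply hg
  have h1 := hxH 1
  rw [inv_one, one_mul] at h1
  have h2 := hxH g
  have : g = x * (g⁻¹ * x)⁻¹ := by group
  rw [this]
  exact H.mul_mem h1 (H.inv_mem h2)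

end Cfsg.Agent.S0036
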