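import Mathlib
import Cfsg.Statements.S0037
import Cfsg.Agent.S0035
import Cfsg.Agent.Lib.Helper1.FrobeniusBasic

set_option autoImplicit false
open Cfsg
open Cfsg.Agent.Helper1
open scoped Pointwise

namespace Cfsg.Agent.S0037

/-- elements outside the kernel lie in conjugates of the complement -/
theorem cover_of_kernel {G : Type*} [Group G] {H N : Subgroup G}
    (hN : (N : Set G) = Cfsg.frobeniusKernel H) (x : G) (hx : x ∉ N) :
    ∃ g : G, x ∈ MulAut.conj g • H := by
  by_contra hno
  push Not at hno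
  apply hx
  rw [← SetLike.mem_coe, hN]
  exact Or.inr hno

/-- Of two Frobenius complements in one finite group, the one of smaller (or equal) order is conjugate to a subgroup of the other. -/
theorem result {G : Type*} [Group G] [Finite G] (H H₀ : Subgroup G)
    (hH : Cfsg.IsFrobeniusComplement H) (hH₀ : Cfsg.IsFrobeniusComplement H₀) (hle : Nat.card H₀ ≤ Nat.card H) :
    ∃ g : G, MulAut.conj g • H₀ ≤ H := by
  obtain ⟨N, hNset, hNn, hNc⟩ := Cfsg.Agent.S0035.result H hH
  obtain ⟨N₀, hN₀set, hN₀n, hN₀c⟩ := Cfsg.Agent.S0035.result H₀ hH₀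
  have hcardle : Nat.card N ≤ Nat.card N₀ := by
    have h1 := hNc.card_mul
    have h2 := hN₀c.card_mul
    have hpos : 0 < Nat.card H₀ := Nat.card_pos
    by_contra hlt
    push Not at hlt
    have : Nat.card N₀ * Nat.card H₀ < Nat.card N * Nat.card H :=
      calc Nat.card N₀ * Nat.card H₀ < Nat.card N * Nat.card H₀ :=
            Nat.mul_lt_mul_of_pos_right hlt hpos
        _ ≤ Nat.card N * Nat.card H := Nat.mul_le_mul_left _ hle
    omega
  have hNN₀ : N ≤ N₀ := by
    rcases frobenius_normal_le_or_le hH hNn hNc.disjoint.eq_bot (cover_of_kernel hNset) N₀ hN₀n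
      with h | h
    · exact (Subgroup.eq_of_le_of_card_ge h hcardle).ge
    · exact h
  have hdisj : H₀ ⊓ N = ⊥ := by
    rw [eq_bot_iff, ← hN₀c.disjoint.eq_bot, inf_comm]
    exact inf_le_inf_right _ hNN₀
  have key : ∀ x : H₀, x ≠ 1 → ∃! ω : G ⧸ H, x • ω = ω := by
    intro x hx
    have hxN : (x : G) ∉ N := by
      intro hxN
      apply hx
      have : (x : G) ∈ H₀ ⊓ N := Subgroup.mem_inf.mpr ⟨x.2, hxN⟩
      rw [hdisj, Subgroup.mem_bot] at this
      exact Subtype.ext this
    have hx1 : (x : G) ≠ 1 := fun h => hx (Subtype.ext h)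
    exact frobenius_existsUnique_fixed hH hx1 (cover_of_kernel hNset x hxN)
  have hnt : Nontrivial H₀ := (Subgroup.nontrivial_iff_ne_bot H₀).mpr hH₀.1
  obtain ⟨ω, hω⟩ := exists_fixed_point_of_unique_fixed hnt key
  induction ω using QuotientGroup.induction_on with
  | H g =>
    refine ⟨g⁻¹, ?_⟩
    intro y hy
    rw [mem_conj_smul_iff, inv_inv] at hy
    have h1 : (((g * y * g⁻¹) * g : G) : G ⧸ H) = g := hω ⟨g * y * g⁻¹, hy⟩
    rw [QuotientGroup.eq] at h1
    have : y = ((g * y * g⁻¹ * g)⁻¹ * g)⁻¹ := by group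
    rw [this]
    exact H.inv_mem h1

end Cfsg.Agent.S0037
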