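import Mathlib
import Cfsg.Statements.S0038
import Cfsg.Agent.S0035
import Cfsg.Agent.S0037
import Cfsg.Agent.Lib.Helper1.FrobeniusBasic
import Cfsg.Agent.Lib.Helper1.FrobeniusNoFrob

set_option autoImplicit false
open Cfsg
open Cfsg.Agent.Helper1
open scoped Pointwise

namespace Cfsg.Agent.S0038

variable {G : Type*} [Group G]

/-- conjugates of Frobenius complements are Frobenius complements -/
theorem isFrobeniusComplement_conj {H : Subgroup G} (hH : Cfsg.IsFrobeniusComplement H) (g : G) :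
    Cfsg.IsFrobeniusComplement (MulAut.conj g • H) := by
  refine ⟨?_, ?_, ?_⟩
  · intro h
    apply hH.1
    rw [eq_bot_iff]
    intro a ha
    have h1 : g * a * g⁻¹ ∈ MulAut.conj g • H := by
      rw [mem_conj_smul_iff]
      have : g⁻¹ * (g * a * g⁻¹) * g = a := by group
      rw [this]; exact ha
    rw [h, Subgroup.mem_bot] at h1
    rw [Subgroup.mem_bot]
    calc a = g⁻¹ * (g * a * g⁻¹) * g := by group
      _ = 1 := by rw [h1]; group
  · intro h
    apply hH.2.1
    rw [eq_top_iff]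
    intro a _
    have h1 : g * a * g⁻¹ ∈ MulAut.conj g • H := by rw [h]; exact Subgroup.mem_top _
    rw [mem_conj_smul_iff] at h1
    have : g⁻¹ * (g * a * g⁻¹) * g = a := by group
    rwa [this] at h1
  · intro y hy
    rw [eq_bot_iff]
    intro a ha
    obtain ⟨ha1, ha2⟩ := Subgroup.mem_inf.mp ha
    rw [mem_conj_smul_iff] at ha1 ha2
    rw [mem_conj_smul_iff] at ha2
    rw [Subgroup.mem_bot]
    by_contra ha0
    have hh1 : g⁻¹ * a * g ≠ 1 := by
      intro h
      apply ha0
      calc a = g * (g⁻¹ * a * g) * g⁻¹ := by group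
        _ = 1 := by rw [h]; group
    have hc : (g⁻¹ * y * g)⁻¹ * (g⁻¹ * a * g) * (g⁻¹ * y * g) ∈ H := by
      have : (g⁻¹ * y * g)⁻¹ * (g⁻¹ * a * g) * (g⁻¹ * y * g) = g⁻¹ * (y⁻¹ * a * y) * g := by group
      rw [this]; exact ha2
    have := frobenius_mem_of_conj_mem' hH ha1 hh1 hc
    apply hy
    rw [mem_conj_smul_iff]
    exact this

/-- a Frobenius complement acts fixed-point-freely on any subgroup meeting it trivially -/
theorem frobenius_fpf {H N : Subgroup G} (hH : Cfsg.IsFrobeniusComplement H) (hNH : N ⊓ H = ⊥) :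
    ∀ h ∈ H, h ≠ 1 → N ⊓ Subgroup.centralizer {h} = ⊥ := by
  intro h hh hh1
  rw [eq_bot_iff]
  intro n hn
  obtain ⟨hnN, hnC⟩ := Subgroup.mem_inf.mp hn
  rw [Subgroup.mem_centralizer_iff] at hnC
  have h1 : h * n = n * h := hnC h rfl
  have h2 : n⁻¹ * h * n ∈ H := by
    have : n⁻¹ * h * n = h := by
      calc n⁻¹ * h * n = n⁻¹ * (h * n) := by group
        _ = n⁻¹ * (n * h) := by rw [h1]
        _ = h := by group
    rw [this]; exact hh
  have h3 := frobenius_mem_of_conj_mem' hH hh hh1 h2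
  have : n ∈ N ⊓ H := Subgroup.mem_inf.mpr ⟨hnN, h3⟩
  rwa [hNH] at this

theorem aux [Finite G] (H H₀ : Subgroup G)
    (hH : Cfsg.IsFrobeniusComplement H) (hH₀ : Cfsg.IsFrobeniusComplement H₀)
    (hle : Nat.card H₀ ≤ Nat.card H) : ∃ g : G, MulAut.conj g • H₀ = H := by
  obtain ⟨g, hg⟩ := Cfsg.Agent.S0037.result H H₀ hH hH₀ hle
  refine ⟨g, ?_⟩
  set H₁ := MulAut.conj g • H₀ with hH₁def
  have hH₁ : Cfsg.IsFrobeniusComplement H₁ := isFrobeniusComplement_conj hH₀ g
  by_contra hne
  have hlt : H₁ < H := lt_of_le_of_ne hg hne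
  obtain ⟨N, hNset, hNn, hNc⟩ := Cfsg.Agent.S0035.result H hH
  obtain ⟨N₁, hN₁set, hN₁n, hN₁c⟩ := Cfsg.Agent.S0035.result H₁ hH₁
  have hcardlt : Nat.card H₁ < Nat.card H := by
    rcases Nat.lt_or_ge (Nat.card H₁) (Nat.card H) with h | h
    · exact h
    · exact absurd (Subgroup.eq_of_le_of_card_ge hg h) hne
  have hc1 := hNc.card_mul
  have hc2 := hN₁c.card_mul
  have hidx : H.index = Nat.card N := by
    have h1 := H.card_mul_index
    have hpos : 0 < Nat.card H := Nat.card_pos
    apply Nat.eq_of_mul_eq_mul_left hpos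
    rw [h1, ← hc1, mul_comm]
  have hN : N ≠ ⊥ := by
    intro h
    rw [h, Subgroup.card_bot, one_mul] at hc1
    exact hH.2.1 ((Subgroup.card_eq_iff_eq_top H).mp hc1)
  -- the kernel of the smaller complement is larger
  have hNlt : Nat.card N < Nat.card N₁ := by
    by_contra hge
    push Not at hge
    have hpos : 0 < Nat.card N₁ := Nat.card_pos
    have : Nat.card N₁ * Nat.card H₁ < Nat.card N * Nat.card H :=
      calc Nat.card N₁ * Nat.card H₁ < Nat.card N₁ * Nat.card H :=
            Nat.mul_lt_mul_of_pos_left hcardlt hpos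
        _ ≤ Nat.card N * Nat.card H := Nat.mul_le_mul_right _ hge
    omega
  set K := N₁ ⊓ H with hKdef
  have hK : K ≠ ⊥ := by
    intro hdisj
    have h1 : Nat.card N₁ = H.relIndex N₁ := by
      rw [← Subgroup.relIndex_bot_left, ← hdisj, hKdef, inf_comm, Subgroup.inf_relIndex_right]
    have h2 : H.relIndex N₁ ≤ H.index := by
      rw [← Subgroup.relIndex_top_right]
      apply Subgroup.relIndex_le_of_le_right le_top
      rw [Subgroup.relIndex_top_right]
      exact Subgroup.index_ne_zero_of_finite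
    omega
  -- an element of prime order in `H₁`
  have hH₁card : Nat.card H₁ ≠ 1 := fun h => hH₁.1 ((Subgroup.card_eq_one).mp h)
  obtain ⟨q, hq, hqd⟩ := Nat.exists_prime_and_dvd hH₁card
  haveI : Fact q.Prime := ⟨hq⟩
  obtain ⟨x', hx'⟩ := exists_prime_orderOf_dvd_card' (G := H₁) q hqd
  have hx : orderOf (x' : G) = q := by rw [Subgroup.orderOf_coe, hx']
  have hx1 : (x' : G) ≠ 1 := by
    intro h
    rw [h, orderOf_one] at hx
    exact hq.one_lt.ne hx
  have hxH : (x' : G) ∈ H := hg x'.2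
  have hxK : (x' : G) ∈ Subgroup.normalizer (K : Set G) := by
    apply Subgroup.inf_normalizer_le_normalizer_inf
    refine Subgroup.mem_inf.mpr ⟨?_, Subgroup.le_normalizer hxH⟩
    haveI := hN₁n
    rw [Subgroup.normalizer_eq_top]
    exact Subgroup.mem_top _
  have hxfpf : K ⊓ Subgroup.centralizer {(x' : G)} = ⊥ := by
    rw [eq_bot_iff, ← frobenius_fpf hH₁ hN₁c.disjoint.eq_bot (x' : G) x'.2 hx1]
    exact inf_le_inf_right _ inf_le_left
  haveI := hNn
  exact false_of_fpf_on_fpf (N := N) (H := H) (K := K) hN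
    (frobenius_fpf hH hNc.disjoint.eq_bot) inf_le_right hK hxH hx hxK hxfpf

/-- All Frobenius complements of a finite group are conjugate to one another. -/
theorem result {G : Type*} [Group G] [Finite G] (H H₀ : Subgroup G)
    (hH : Cfsg.IsFrobeniusComplement H) (hH₀ : Cfsg.IsFrobeniusComplement H₀) :
    ∃ g : G, MulAut.conj g • H₀ = H := by
  rcases Nat.le_total (Nat.card H₀) (Nat.card H) with hle | hle
  · exact aux H H₀ hH hH₀ hle
  · obtain ⟨g, hg⟩ := aux H₀ H hH₀ hH hle
    refine ⟨g⁻¹, ?_⟩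
    rw [← hg, map_inv, inv_smul_smul]

end Cfsg.Agent.S0038
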