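import Mathlib
import Cfsg.Statements.S0043

set_option autoImplicit false
open Pointwise
open Cfsg

namespace Cfsg.Agent.S0043

/-- A minimal normal subgroup of a finite solvable group is abelian, and for some prime p all of its elements have order dividing p. -/
theorem result {G : Type*} [Group G] [Finite G] [Group.IsSolvable G]
    (N : Subgroup G) [N.Normal] (hN : N ≠ ⊥) (hmin : ∀ M : Subgroup G, M.Normal → M ≤ N → M = ⊥ ∨ M = N) :
    IsMulCommutative N ∧ ∃ p : ℕ, p.Prime ∧ ∀ x ∈ N, x ^ p = 1 := by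
  -- Step 1: ⁅N, N⁆ = ⊥
  have hcomm_le : ⁅N, N⁆ ≤ N := Subgroup.commutator_le_left N N
  have hcomm : ⁅N, N⁆ = ⊥ := by
    rcases hmin ⁅N, N⁆ inferInstance hcomm_le with h | h
    · exact h
    · exfalso
      have hall : ∀ n : ℕ, N ≤ derivedSeries G n := by
        intro n
        induction n with
        | zero => simp
        | succ n ih =>
          rw [derivedSeries_succ]
          calc N = ⁅N, N⁆ := h.symm
            _ ≤ ⁅derivedSeries G n, derivedSeries G n⁆ := Subgroup.commutator_mono ih ih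
      obtain ⟨n, hn⟩ := (isSolvable_def G).1 inferInstance
      have := hall n
      rw [hn] at this
      exact hN (le_bot_iff.1 this)
  have hcent : N ≤ Subgroup.centralizer (N : Set G) :=
    Subgroup.commutator_eq_bot_iff_le_centralizer.1 hcomm
  have hcommute : ∀ x ∈ N, ∀ y ∈ N, x * y = y * x := by
    intro x hx y hy
    have := (Subgroup.mem_centralizer_iff.1 (hcent hx)) y hy
    exact this.symm
  refine ⟨⟨⟨fun a b => Subtype.ext (hcommute a.1 a.2 b.1 b.2)⟩⟩, ?_⟩
  -- Step 2: choose a prime p dividing |N|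
  have hNcard : Nat.card N ≠ 1 := by
    intro h1
    exact hN (Subgroup.card_eq_one.1 h1)
  obtain ⟨p, hp, hpdvd⟩ := Nat.exists_prime_and_dvd hNcard
  haveI : Fact p.Prime := ⟨hp⟩
  obtain ⟨x, hx⟩ := exists_prime_orderOf_dvd_card' p hpdvd
  refine ⟨p, hp, ?_⟩
  let M : Subgroup G :=
    { carrier := {y | y ∈ N ∧ y ^ p = 1}
      one_mem' := ⟨N.one_mem, one_pow _⟩
      mul_mem' := by
        rintro a b ⟨ha, hap⟩ ⟨hb, hbp⟩
        refine ⟨N.mul_mem ha hb, ?_⟩
        have hc : Commute a b := hcommute a ha b hb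
        rw [hc.mul_pow, hap, hbp, one_mul]
      inv_mem' := by
        rintro a ⟨ha, hap⟩
        exact ⟨N.inv_mem ha, by rw [inv_pow, hap, inv_one]⟩ }
  have hMnormal : M.Normal := by
    constructor
    rintro a ⟨ha, hap⟩ g
    refine ⟨‹N.Normal›.conj_mem a ha g, ?_⟩
    rw [conj_pow, hap, mul_one, mul_inv_cancel]
  have hMle : M ≤ N := fun y hy => hy.1
  have hMne : M ≠ ⊥ := by
    intro hbot
    have hxM : (x : G) ∈ M := by
      refine ⟨x.2, ?_⟩
      have : x ^ p = 1 := by rw [← hx]; exact pow_orderOf_eq_one x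
      have := congrArg Subtype.val this
      simpa using this
    rw [hbot, Subgroup.mem_bot] at hxM
    have hx1 : x = 1 := Subtype.ext hxM
    rw [hx1, orderOf_one] at hx
    exact hp.one_lt.ne hx
  rcases hmin M hMnormal hMle with h | h
  · exact absurd h hMne
  · intro y hy
    have : y ∈ M := h ▸ hy
    exact this.2

end Cfsg.Agent.S0043
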