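import Mathlib
import Cfsg.Statements.S0046
import Cfsg.Agent.S0001
import Cfsg.Agent.S0132
import Cfsg.Agent.Lib.Helper7.Coprime

set_option autoImplicit false
open Cfsg
open Cfsg.Agent.Helper10

universe u

namespace Cfsg.Agent.S0046

theorem schmidt_aux : ∀ (n : ℕ) (G : Type u) [Group G] [Finite G], Nat.card G = n →
    (∀ M : Subgroup G, IsCoatom M → Group.IsNilpotent M) → Group.IsSolvable G := by
  intro n
  induction n using Nat.strong_induction_on with
  | _ n ih =>
  intro G _ _ hn h
  by_cases hsimple : ∃ N : Subgroup G, N.Normal ∧ N ≠ ⊥ ∧ N ≠ ⊤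
  · obtain ⟨N, hNn, hNbot, hNtop⟩ := hsimple
    haveI := hNn
    obtain ⟨M, hM, hNM⟩ := (eq_top_or_exists_le_coatom N).resolve_left hNtop
    have h1 : Group.IsSolvable N := by
      have : Group.IsNilpotent N := Cfsg.Agent.Helper7.isNilpotent_of_le hNM (h M hM)
      infer_instance
    have h2 : Group.IsSolvable (G ⧸ N) := by
      refine ih (Nat.card (G ⧸ N)) ?_ (G ⧸ N) rfl ?_
      · rw [← hn]; exact Cfsg.Agent.S0001.card_quotient_lt_of_ne_bot hNbot
      · intro M' hM'
        have hc := Subgroup.isCoatom_comap_of_surjective (QuotientGroup.mk'_surjective N) hM'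
        haveI := h _ hc
        exact Group.nilpotent_of_surjective ((QuotientGroup.mk' N).subgroupComap M')
          (MonoidHom.subgroupComap_surjective_of_surjective _ _ (QuotientGroup.mk'_surjective N))
    refine Group.isSolvable_of_ker_le_range N.subtype (QuotientGroup.mk' N) ?_
    rw [QuotientGroup.ker_mk', Subgroup.range_subtype]
  · push_neg at hsimple
    by_cases htriv : Subsingleton G
    · infer_instance
    · rw [not_subsingleton_iff_nontrivial] at htriv
      have hcard1 : Nat.card G ≠ 1 := by
        intro h1
        have := (Nat.card_eq_one_iff_unique.mp h1).1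
        exact not_subsingleton G this
      obtain ⟨p, hp, hpd⟩ := Nat.exists_prime_and_dvd hcard1
      haveI : Fact p.Prime := ⟨hp⟩
      by_cases hpg : IsPGroup p G
      · haveI := hpg.isNilpotent
        infer_instance
      · exfalso
        have hF : FrobCond p G := by
          apply frobCond_of_local
          intro Q hQ hQb
          have hne : Subgroup.normalizer (Q : Set G) ≠ ⊤ := by
            intro htop
            have hQn : Q.Normal := Subgroup.normalizer_eq_top_iff.mp htop
            have hQt : Q = ⊤ := hsimple Q hQn hQb
            apply hpg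
            rw [hQt] at hQ
            exact hQ.of_equiv Subgroup.topEquiv
          obtain ⟨M, hM, hNM⟩ := (eq_top_or_exists_le_coatom _).resolve_left hne
          have hnil : Group.IsNilpotent (Subgroup.normalizer (Q : Set G)) :=
            Cfsg.Agent.Helper7.isNilpotent_of_le hNM (h M hM)
          exact npc_of_hasNormalPComplement
            (Cfsg.Agent.S0132.hasNormalPComplement_of_isNilpotent p hnil)
        obtain ⟨N, hNn, hNc, k, hk⟩ := npc_of_frobCond _ G rfl hF
        by_cases hb : N = ⊥
        · apply hpg
          apply IsPGroup.of_card (n := k)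
          rw [← hk, hb, Subgroup.index_bot]
        · have ht : N = ⊤ := hsimple N hNn hb
          rw [ht, Subgroup.card_top] at hNc
          exact hp.ne_one (Nat.Coprime.eq_one_of_dvd hNc.symm hpd)

/-- Schmidt's Theorem on minimal non-nilpotent groups: a finite group in which every maximal subgroup is nilpotent is solvable. -/
theorem result {G : Type*} [Group G] [Finite G]
    (h : ∀ M : Subgroup G, IsCoatom M → Group.IsNilpotent M) : Group.IsSolvable G := by
  exact schmidt_aux _ G rfl h

end Cfsg.Agent.S0046
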