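import Mathlib
import Cfsg.Statements.S0047

set_option autoImplicit false
open Pointwise
open Cfsg
open scoped commutatorElement

namespace Cfsg.Agent.S0047

variable {G : Type*} [Group G]

theorem comm_mul_left (x y z : G) (h : Commute y z) : ⁅x * y, z⁆ = ⁅x, z⁆ := by
  rw [commutatorElement_def, commutatorElement_def]
  calc x * y * z * (x * y)⁻¹ * z⁻¹ = x * (y * z) * y⁻¹ * x⁻¹ * z⁻¹ := by group
    _ = x * (z * y) * y⁻¹ * x⁻¹ * z⁻¹ := by rw [h.eq]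
    _ = x * z * x⁻¹ * z⁻¹ := by group

theorem comm_mul_right (x y z : G) (h : Commute x z) : ⁅x, y * z⁆ = ⁅x, y⁆ := by
  rw [commutatorElement_def, commutatorElement_def]
  have h' : z * x⁻¹ = x⁻¹ * z := (h.symm.inv_right).eq
  calc x * (y * z) * x⁻¹ * (y * z)⁻¹ = x * y * (z * x⁻¹) * z⁻¹ * y⁻¹ := by group
    _ = x * y * (x⁻¹ * z) * z⁻¹ * y⁻¹ := by rw [h']
    _ = x * y * x⁻¹ * y⁻¹ := by group

theorem conj_comm (g x y : G) : g * ⁅x, y⁆ * g⁻¹ = ⁅g * x * g⁻¹, g * y * g⁻¹⁆ := by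
  simp only [commutatorElement_def]
  group

theorem conj_of_commute (g x : G) (h : Commute g x) : g * x * g⁻¹ = x := by
  rw [h.eq, mul_assoc, mul_inv_cancel, mul_one]

/-- A finite group which is the product AB of two abelian subgroups A and B is solvable. -/
theorem result {G : Type*} [Group G] [Finite G] (A B : Subgroup G)
    [IsMulCommutative A] [IsMulCommutative B] (hAB : ∀ g : G, ∃ a ∈ A, ∃ b ∈ B, g = a * b) :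
    Group.IsSolvable G := by
  have hA : ∀ x ∈ A, ∀ y ∈ A, Commute x y := by
    intro x hx y hy
    have := (isMulCommutative_iff.1 ‹IsMulCommutative A›) (⟨x, hx⟩ : A) ⟨y, hy⟩
    exact congrArg Subtype.val this
  have hB : ∀ x ∈ B, ∀ y ∈ B, Commute x y := by
    intro x hx y hy
    have := (isMulCommutative_iff.1 ‹IsMulCommutative B›) (⟨x, hx⟩ : B) ⟨y, hy⟩
    exact congrArg Subtype.val this
  have hBA : ∀ g : G, ∃ b ∈ B, ∃ a ∈ A, g = b * a := by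
    intro g
    obtain ⟨a, ha, b, hb, h⟩ := hAB g⁻¹
    refine ⟨b⁻¹, B.inv_mem hb, a⁻¹, A.inv_mem ha, ?_⟩
    rw [← mul_inv_rev, ← h, inv_inv]
  set N : Subgroup G := ⁅A, B⁆ with hN
  have hgen : ∀ a ∈ A, ∀ b ∈ B, ⁅a, b⁆ ∈ N := fun a ha b hb =>
    Subgroup.commutator_mem_commutator ha hb
  -- conjugating a generator by an element of A
  have hconjA : ∀ a₁ ∈ A, ∀ a ∈ A, ∀ b ∈ B, ∃ b₄ ∈ B, a₁ * ⁅a, b⁆ * a₁⁻¹ = ⁅a, b₄⁆ := by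
    intro a₁ ha₁ a ha b hb
    obtain ⟨b₄, hb₄, a₄, ha₄, h⟩ := hBA (a₁ * b * a₁⁻¹)
    refine ⟨b₄, hb₄, ?_⟩
    rw [conj_comm, conj_of_commute a₁ a (hA a₁ ha₁ a ha), h, comm_mul_right _ _ _ (hA a ha a₄ ha₄)]
  have hconjB : ∀ b₁ ∈ B, ∀ a ∈ A, ∀ b ∈ B, ∃ a₃ ∈ A, b₁ * ⁅a, b⁆ * b₁⁻¹ = ⁅a₃, b⁆ := by
    intro b₁ hb₁ a ha b hb
    obtain ⟨a₃, ha₃, b₃, hb₃, h⟩ := hAB (b₁ * a * b₁⁻¹)
    refine ⟨a₃, ha₃, ?_⟩
    rw [conj_comm, conj_of_commute b₁ b (hB b₁ hb₁ b hb), h, comm_mul_left _ _ _ (hB b₃ hb₃ b hb)]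
  -- key identity
  have hkey : ∀ a ∈ A, ∀ b ∈ B, ∀ a₁ ∈ A, ∀ b₁ ∈ B,
      (a₁ * b₁) * ⁅a, b⁆ * (a₁ * b₁)⁻¹ = (b₁ * a₁) * ⁅a, b⁆ * (b₁ * a₁)⁻¹ := by
    intro a ha b hb a₁ ha₁ b₁ hb₁
    obtain ⟨a₃, ha₃, b₃, hb₃, h3⟩ := hAB (b₁ * a * b₁⁻¹)
    obtain ⟨b₄, hb₄, a₄, ha₄, h4⟩ := hBA (a₁ * b * a₁⁻¹)
    have e1 : b₁ * ⁅a, b⁆ * b₁⁻¹ = ⁅a₃, b⁆ := by
      rw [conj_comm, conj_of_commute b₁ b (hB b₁ hb₁ b hb), h3, comm_mul_left _ _ _ (hB b₃ hb₃ b hb)]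
    have e2 : a₁ * ⁅a₃, b⁆ * a₁⁻¹ = ⁅a₃, b₄⁆ := by
      rw [conj_comm, conj_of_commute a₁ a₃ (hA a₁ ha₁ a₃ ha₃), h4,
        comm_mul_right _ _ _ (hA a₃ ha₃ a₄ ha₄)]
    have e3 : a₁ * ⁅a, b⁆ * a₁⁻¹ = ⁅a, b₄⁆ := by
      rw [conj_comm, conj_of_commute a₁ a (hA a₁ ha₁ a ha), h4, comm_mul_right _ _ _ (hA a ha a₄ ha₄)]
    have e4 : b₁ * ⁅a, b₄⁆ * b₁⁻¹ = ⁅a₃, b₄⁆ := by
      rw [conj_comm, conj_of_commute b₁ b₄ (hB b₁ hb₁ b₄ hb₄), h3,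
        comm_mul_left _ _ _ (hB b₃ hb₃ b₄ hb₄)]
    calc (a₁ * b₁) * ⁅a, b⁆ * (a₁ * b₁)⁻¹ = a₁ * (b₁ * ⁅a, b⁆ * b₁⁻¹) * a₁⁻¹ := by group
      _ = ⁅a₃, b₄⁆ := by rw [e1, e2]
      _ = b₁ * (a₁ * ⁅a, b⁆ * a₁⁻¹) * b₁⁻¹ := by rw [e3, e4]
      _ = (b₁ * a₁) * ⁅a, b⁆ * (b₁ * a₁)⁻¹ := by group
  -- generators commute
  have hcommgen : ∀ a ∈ A, ∀ b ∈ B, ∀ a₁ ∈ A, ∀ b₁ ∈ B, ⁅a₁, b₁⁆ * ⁅a, b⁆ = ⁅a, b⁆ * ⁅a₁, b₁⁆ := by
    intro a ha b hb a₁ ha₁ b₁ hb₁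
    have h := hkey a ha b hb a₁⁻¹ (A.inv_mem ha₁) b₁⁻¹ (B.inv_mem hb₁)
    set x := ⁅a, b⁆ with hx
    have h2 : ⁅a₁, b₁⁆ * x * ⁅a₁, b₁⁆⁻¹ = x := by
      rw [commutatorElement_def]
      calc a₁ * b₁ * a₁⁻¹ * b₁⁻¹ * x * (a₁ * b₁ * a₁⁻¹ * b₁⁻¹)⁻¹
          = a₁ * b₁ * ((a₁⁻¹ * b₁⁻¹) * x * (a₁⁻¹ * b₁⁻¹)⁻¹) * b₁⁻¹ * a₁⁻¹ := by group
        _ = a₁ * b₁ * ((b₁⁻¹ * a₁⁻¹) * x * (b₁⁻¹ * a₁⁻¹)⁻¹) * b₁⁻¹ * a₁⁻¹ := by rw [h]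
        _ = x := by group
    calc ⁅a₁, b₁⁆ * x = (⁅a₁, b₁⁆ * x * ⁅a₁, b₁⁆⁻¹) * ⁅a₁, b₁⁆ := by group
      _ = x * ⁅a₁, b₁⁆ := by rw [h2]
  -- N is commutative
  have hNdef : N = Subgroup.closure {g | ∃ g₁ ∈ A, ∃ g₂ ∈ B, ⁅g₁, g₂⁆ = g} := by
    rw [hN, Subgroup.commutator_def]
  have hNcomm : ∀ x ∈ N, ∀ y ∈ N, Commute x y := by
    intro x hx y hy
    rw [hNdef] at hx hy
    induction hx, hy using Subgroup.closure_induction₂ with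
    | mem x y hx hy =>
      obtain ⟨a₁, ha₁, b₁, hb₁, rfl⟩ := hx
      obtain ⟨a, ha, b, hb, rfl⟩ := hy
      exact hcommgen a ha b hb a₁ ha₁ b₁ hb₁
    | one_left x hx => exact Commute.one_left x
    | one_right x hx => exact Commute.one_right x
    | mul_left x y z hx hy hz h1 h2 => exact h1.mul_left h2
    | mul_right y z x hy hz hx h1 h2 => exact h1.mul_right h2
    | inv_left x y hx hy h => exact h.inv_left
    | inv_right x y hx hy h => exact h.inv_right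
  -- N is normalized by A and by B
  have hnormA : ∀ a₁ ∈ A, ∀ n ∈ N, a₁ * n * a₁⁻¹ ∈ N := by
    intro a₁ ha₁ n hn
    rw [hNdef] at hn
    induction hn using Subgroup.closure_induction with
    | mem x hx =>
      obtain ⟨a, ha, b, hb, rfl⟩ := hx
      obtain ⟨b₄, hb₄, h⟩ := hconjA a₁ ha₁ a ha b hb
      rw [h]
      exact hgen a ha b₄ hb₄
    | one => simp
    | mul x y hx hy h1 h2 =>
      have : a₁ * (x * y) * a₁⁻¹ = (a₁ * x * a₁⁻¹) * (a₁ * y * a₁⁻¹) := by group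
      rw [this]
      exact N.mul_mem h1 h2
    | inv x hx h =>
      have : a₁ * x⁻¹ * a₁⁻¹ = (a₁ * x * a₁⁻¹)⁻¹ := by group
      rw [this]
      exact N.inv_mem h
  have hnormB : ∀ b₁ ∈ B, ∀ n ∈ N, b₁ * n * b₁⁻¹ ∈ N := by
    intro b₁ hb₁ n hn
    rw [hNdef] at hn
    induction hn using Subgroup.closure_induction with
    | mem x hx =>
      obtain ⟨a, ha, b, hb, rfl⟩ := hx
      obtain ⟨a₃, ha₃, h⟩ := hconjB b₁ hb₁ a ha b hb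
      rw [h]
      exact hgen a₃ ha₃ b hb
    | one => simp
    | mul x y hx hy h1 h2 =>
      have : b₁ * (x * y) * b₁⁻¹ = (b₁ * x * b₁⁻¹) * (b₁ * y * b₁⁻¹) := by group
      rw [this]
      exact N.mul_mem h1 h2
    | inv x hx h =>
      have : b₁ * x⁻¹ * b₁⁻¹ = (b₁ * x * b₁⁻¹)⁻¹ := by group
      rw [this]
      exact N.inv_mem h
  haveI hNn : N.Normal := by
    constructor
    intro n hn g
    obtain ⟨a₁, ha₁, b₁, hb₁, rfl⟩ := hAB g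
    have : a₁ * b₁ * n * (a₁ * b₁)⁻¹ = a₁ * (b₁ * n * b₁⁻¹) * a₁⁻¹ := by group
    rw [this]
    exact hnormA a₁ ha₁ _ (hnormB b₁ hb₁ n hn)
  -- the quotient is commutative
  have hquot : ∀ x y : G ⧸ N, x * y = y * x := by
    have hAq : ∀ a ∈ A, ∀ a' ∈ A, Commute (a : G ⧸ N) (a' : G ⧸ N) := fun a ha a' ha' =>
      (hA a ha a' ha').map (QuotientGroup.mk' N)
    have hBq : ∀ b ∈ B, ∀ b' ∈ B, Commute (b : G ⧸ N) (b' : G ⧸ N) := fun b hb b' hb' =>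
      (hB b hb b' hb').map (QuotientGroup.mk' N)
    have hABq : ∀ a ∈ A, ∀ b ∈ B, Commute (a : G ⧸ N) (b : G ⧸ N) := by
      intro a ha b hb
      rw [← commutatorElement_eq_one_iff_commute]
      have h1 : ((⁅a, b⁆ : G) : G ⧸ N) = 1 := (QuotientGroup.eq_one_iff _).2 (hgen a ha b hb)
      have h2 : ((⁅a, b⁆ : G) : G ⧸ N) = ⁅(a : G ⧸ N), (b : G ⧸ N)⁆ :=
        map_commutatorElement (QuotientGroup.mk' N) a b
      rw [← h2, h1]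
    intro x y
    induction x using QuotientGroup.induction_on with
    | H g₁ =>
      induction y using QuotientGroup.induction_on with
      | H g₂ =>
        obtain ⟨a₁, ha₁, b₁, hb₁, rfl⟩ := hAB g₁
        obtain ⟨a₂, ha₂, b₂, hb₂, rfl⟩ := hAB g₂
        have : Commute ((a₁ : G ⧸ N) * (b₁ : G ⧸ N)) ((a₂ : G ⧸ N) * (b₂ : G ⧸ N)) := by
          apply Commute.mul_left
          · exact (hAq a₁ ha₁ a₂ ha₂).mul_right (hABq a₁ ha₁ b₂ hb₂)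
          · exact ((hABq a₂ ha₂ b₁ hb₁).symm).mul_right (hBq b₁ hb₁ b₂ hb₂)
        simpa only [QuotientGroup.mk_mul] using this.eq
  haveI : Group.IsSolvable (G ⧸ N) := Group.isSolvable_of_comm hquot
  haveI : Group.IsSolvable N := Group.isSolvable_of_comm (fun a b => Subtype.ext (hNcomm a a.2 b b.2).eq)
  exact solvable_of_ker_le_range N.subtype (QuotientGroup.mk' N) (by
    rw [QuotientGroup.ker_mk', Subgroup.range_subtype])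

end Cfsg.Agent.S0047
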