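import Mathlib
import Cfsg.Statements.S0048

set_option autoImplicit false
open Pointwise
open Cfsg

namespace Cfsg.Agent.S0048

/-- A nontrivial finite solvable group has a nontrivial normal `p`-subgroup for some prime `p`. -/
theorem exists_normal_pgroup {G : Type*} [Group G] [Finite G] [Group.IsSolvable G] [Nontrivial G] :
    ∃ (p : ℕ) (N : Subgroup G), p.Prime ∧ N.Normal ∧ N ≠ ⊥ ∧ IsPGroup p N := by
  classical
  -- last nontrivial term of the derived series
  have hex : ∃ n, derivedSeries G n = ⊥ := (Group.isSolvable_def G).1 inferInstance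
  set n0 := Nat.find hex with hn0
  have hn0spec : derivedSeries G n0 = ⊥ := Nat.find_spec hex
  have hn0pos : n0 ≠ 0 := by
    intro h0
    rw [h0, derivedSeries_zero] at hn0spec
    exact top_ne_bot hn0spec
  obtain ⟨k, hk⟩ := Nat.exists_eq_succ_of_ne_zero hn0pos
  set A := derivedSeries G k with hA
  have hAne : A ≠ ⊥ := by
    intro h
    have := Nat.find_min' hex h
    omega
  have hAn : A.Normal := derivedSeries_normal G k
  have hcomm : ⁅A, A⁆ = ⊥ := by
    rw [hA, ← derivedSeries_succ, ← Nat.succ_eq_add_one, ← hk]
    exact hn0spec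
  have hcent : A ≤ Subgroup.centralizer (A : Set G) :=
    Subgroup.commutator_eq_bot_iff_le_centralizer.1 hcomm
  have hcommute : ∀ x ∈ A, ∀ y ∈ A, x * y = y * x := by
    intro x hx y hy
    have := (Subgroup.mem_centralizer_iff.1 (hcent hx)) y hy
    exact this.symm
  have hAcard : Nat.card A ≠ 1 := by
    intro h1
    exact hAne (Subgroup.card_eq_one.1 h1)
  obtain ⟨p, hp, hpdvd⟩ := Nat.exists_prime_and_dvd hAcard
  haveI : Fact p.Prime := ⟨hp⟩
  obtain ⟨x, hx⟩ := exists_prime_orderOf_dvd_card' p hpdvd
  let M : Subgroup G :=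
    { carrier := {y | y ∈ A ∧ y ^ p = 1}
      one_mem' := ⟨A.one_mem, one_pow _⟩
      mul_mem' := by
        rintro a b ⟨ha, hap⟩ ⟨hb, hbp⟩
        refine ⟨A.mul_mem ha hb, ?_⟩
        have hc : Commute a b := hcommute a ha b hb
        rw [hc.mul_pow, hap, hbp, one_mul]
      inv_mem' := by
        rintro a ⟨ha, hap⟩
        exact ⟨A.inv_mem ha, by rw [inv_pow, hap, inv_one]⟩ }
  have hMnormal : M.Normal := by
    constructor
    rintro a ⟨ha, hap⟩ g
    refine ⟨hAn.conj_mem a ha g, ?_⟩
    rw [conj_pow, hap, mul_one, mul_inv_cancel]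
  have hMne : M ≠ ⊥ := by
    intro hbot
    have hxM : (x : G) ∈ M := by
      refine ⟨x.2, ?_⟩
      have : x ^ p = 1 := by rw [← hx]; exact pow_orderOf_eq_one x
      have := congrArg Subtype.val this
      simpa using this
    rw [hbot, Subgroup.mem_bot] at hxM
    have hx1 : x = 1 := Subtype.ext hxM
    rw [hx1, orderOf_one] at hx
    exact hp.one_lt.ne hx
  refine ⟨p, M, hp, hMnormal, hMne, ?_⟩
  intro y
  refine ⟨1, ?_⟩
  apply Subtype.ext
  have := y.2.2
  simpa using this

theorem isCoatom_map_of_ker_le {G H : Type*} [Group G] [Group H] (f : G →* H)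
    (hf : Function.Surjective f) (M : Subgroup G) (hM : IsCoatom M) (hker : f.ker ≤ M) :
    IsCoatom (M.map f) := by
  constructor
  · intro htop
    have : (M.map f).comap f = ⊤ := by rw [htop, Subgroup.comap_top]
    rw [Subgroup.comap_map_eq_self hker] at this
    exact hM.1 this
  · intro K hK
    have h1 : M ≤ K.comap f := by
      rw [← Subgroup.comap_map_eq_self hker]
      exact Subgroup.comap_mono hK.le
    have h2 : M ≠ K.comap f := by
      intro h
      have : M.map f = K := by rw [h, Subgroup.map_comap_eq_self_of_surjective hf]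
      exact hK.ne this
    have h3 : K.comap f = ⊤ := hM.2 _ (lt_of_le_of_ne h1 h2)
    rw [← Subgroup.map_comap_eq_self_of_surjective hf K, h3]
    rw [← MonoidHom.range_eq_map, MonoidHom.range_eq_top]
    exact hf

theorem aux : ∀ (n : ℕ) (G : Type*) [Group G] [Finite G] [Group.IsSolvable G],
    Nat.card G = n → ∀ M : Subgroup G, IsCoatom M → IsPrimePow M.index := by
  intro n
  induction n using Nat.strong_induction_on with
  | _ n ih =>
    intro G _ _ _ hG M hM
    haveI : Nontrivial G := by
      by_contra hnt
      rw [not_nontrivial_iff_subsingleton] at hnt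
      exact hM.1 (Subsingleton.elim _ _)
    obtain ⟨p, N, hp, hNn, hNne, hNp⟩ := exists_normal_pgroup (G := G)
    by_cases hNM : N ≤ M
    · -- pass to the quotient
      have hcard : Nat.card (G ⧸ N) < n := by
        rw [← hG, ← Subgroup.index_eq_card, ← Subgroup.card_mul_index N]
        have h1 : 1 < Nat.card N := by
          rw [Finite.one_lt_card_iff_nontrivial]
          exact (Subgroup.nontrivial_iff_ne_bot N).2 hNne
        have h2 : 0 < N.index := Nat.pos_of_ne_zero Subgroup.index_ne_zero_of_finite
        nlinarith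
      have hker : (QuotientGroup.mk' N).ker ≤ M := by rw [QuotientGroup.ker_mk']; exact hNM
      have hco := isCoatom_map_of_ker_le (QuotientGroup.mk' N) (QuotientGroup.mk'_surjective N) M hM hker
      have := ih _ hcard (G ⧸ N) rfl _ hco
      rwa [Subgroup.index_map_eq _ (QuotientGroup.mk'_surjective N) hker] at this
    · have hsup : M ⊔ N = ⊤ := by
        apply hM.2
        exact lt_of_le_of_ne le_sup_left (fun h => hNM (h ▸ le_sup_right))
      have h1 : (M ⊓ N).relIndex M * M.index = (M ⊓ N).index := Subgroup.relIndex_mul_index inf_le_left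
      have h2 : (M ⊓ N).relIndex N * N.index = (M ⊓ N).index := Subgroup.relIndex_mul_index inf_le_right
      have h3 : (M ⊓ N).relIndex M = N.index := by
        rw [inf_comm, Subgroup.inf_relIndex_right, ← Subgroup.relIndex_sup_right M N, hsup,
          Subgroup.relIndex_top_right]
      have hNidx : 0 < N.index := Nat.pos_of_ne_zero Subgroup.index_ne_zero_of_finite
      have h4 : M.index = (M ⊓ N).relIndex N := by
        rw [h3] at h1
        have : N.index * M.index = N.index * (M ⊓ N).relIndex N := by
          rw [h1, ← h2, mul_comm]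
        exact Nat.eq_of_mul_eq_mul_left hNidx this
      have h5 : M.index ∣ Nat.card N := h4 ▸ Subgroup.relIndex_dvd_card _ _
      haveI : Fact p.Prime := ⟨hp⟩
      obtain ⟨k, hk⟩ := IsPGroup.iff_card.1 hNp
      rw [hk] at h5
      obtain ⟨j, _, hj⟩ := (Nat.dvd_prime_pow hp).1 h5
      rw [hj]
      have hj0 : j ≠ 0 := by
        intro h0
        rw [h0, pow_zero, Subgroup.index_eq_one] at hj
        exact hM.1 hj
      exact hp.isPrimePow.pow hj0

/-- In a finite solvable group every maximal subgroup has index a prime power. -/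
theorem result {G : Type*} [Group G] [Finite G] [Group.IsSolvable G]
    (M : Subgroup G) (hM : IsCoatom M) : IsPrimePow M.index :=
  aux _ G rfl M hM

end Cfsg.Agent.S0048
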