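import Mathlib
import Cfsg.Statements.S0049

set_option autoImplicit false
open Pointwise
open Cfsg

namespace Cfsg.Agent.S0049

/-- A prime divisor of the order of a finite group also divides the index of the Frattini subgroup. -/
theorem result {G : Type*} [Group G] [Finite G] (p : ℕ) (hp : p.Prime) (hdvd : p ∣ Nat.card G) :
    p ∣ (frattini G).index := by
  by_contra hnd
  haveI : Fact p.Prime := ⟨hp⟩
  obtain ⟨P⟩ : Nonempty (Sylow p (frattini G)) := inferInstance
  set Q : Subgroup G := Subgroup.map (frattini G).subtype P with hQ
  have frattini_argument := Sylow.normalizer_sup_eq_top P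
  have normalizer_P := frattini_nongenerating frattini_argument
  have hQn : Q.Normal := Subgroup.normalizer_eq_top_iff.mp normalizer_P
  have hQidx : Q.index = (P : Subgroup (frattini G)).index * (frattini G).index :=
    Subgroup.index_map_subtype _
  have hPidx : ¬ p ∣ (P : Subgroup (frattini G)).index := P.not_dvd_index
  have hQnd : ¬ p ∣ Q.index := by
    rw [hQidx]
    intro h
    rcases (Nat.Prime.dvd_mul hp).1 h with h | h
    · exact hPidx h
    · exact hnd h
  have hQp : IsPGroup p Q := P.isPGroup'.map _
  obtain ⟨k, hk⟩ := IsPGroup.iff_card.1 hQp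
  have hcop : Nat.Coprime (Nat.card Q) Q.index := by
    rw [hk]
    exact Nat.Coprime.pow_left _ ((Nat.Prime.coprime_iff_not_dvd hp).2 hQnd)
  obtain ⟨K, hK⟩ := Subgroup.exists_right_complement'_of_coprime hcop
  have hQle : Q ≤ frattini G := by
    rw [hQ]
    exact Subgroup.map_subtype_le _
  have hKtop : K = ⊤ := by
    apply frattini_nongenerating
    rw [eq_top_iff, ← hK.sup_eq_top, sup_comm]
    exact sup_le_sup_left hQle K
  have hQbot : Q = ⊥ := by
    have := hK.disjoint
    rw [hKtop, disjoint_top] at this
    exact this
  have : ¬ p ∣ Nat.card G := by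
    rw [← Subgroup.card_mul_index Q, hQbot]
    simp only [Subgroup.card_bot, one_mul]
    rw [← hQbot]
    exact hQnd
  exact this hdvd

end Cfsg.Agent.S0049
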