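import Mathlib
import Cfsg.Statements.S0050
import Cfsg.Agent.S0004

set_option autoImplicit false
open Pointwise
open Cfsg

namespace Cfsg.Agent.S0050

variable {G : Type*} [Group G]

theorem mem_conj_smul {g x : G} {H : Subgroup G} :
    x ∈ MulAut.conj g • H ↔ g⁻¹ * x * g ∈ H := by
  rw [Subgroup.mem_pointwise_smul_iff_inv_smul_mem, ← map_inv, MulAut.smul_def, MulAut.conj_apply,
    inv_inv]

/-- transfer conjugacy from a subgroup `L` to `G` -/
theorem conj_of_subgroupOf {A B L : Subgroup G} (hA : A ≤ L) (hB : B ≤ L) (l : L)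
    (h : MulAut.conj l • (A.subgroupOf L) = B.subgroupOf L) : MulAut.conj (l : G) • A = B := by
  ext x
  rw [mem_conj_smul]
  constructor
  · intro hx
    have hxL : x ∈ L := by
      have := L.mul_mem (L.mul_mem l.2 (hA hx)) (L.inv_mem l.2)
      have e : (l : G) * ((l : G)⁻¹ * x * l) * (l : G)⁻¹ = x := by group
      rwa [e] at this
    have : (⟨x, hxL⟩ : L) ∈ MulAut.conj l • (A.subgroupOf L) := by
      rw [mem_conj_smul, Subgroup.mem_subgroupOf]
      exact hx
    rw [h, Subgroup.mem_subgroupOf] at this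
    exact this
  · intro hx
    have : (⟨x, hB hx⟩ : L) ∈ MulAut.conj l • (A.subgroupOf L) := by
      rw [h, Subgroup.mem_subgroupOf]; exact hx
    rw [mem_conj_smul, Subgroup.mem_subgroupOf] at this
    exact this

/-- Frattini argument for Hall subgroups: if L is a solvable normal subgroup and H a subgroup of L of order coprime to its index in L, then L together with the normaliser of H generates the whole group. -/
theorem result {G : Type*} [Group G] [Finite G] (L : Subgroup G) [L.Normal] (hL : Group.IsSolvable L)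
    (H : Subgroup G) (hHL : H ≤ L) (hHall : (Nat.card H).Coprime (H.relIndex L)) :
    L ⊔ Subgroup.normalizer (H : Set G) = ⊤ := by
  rw [eq_top_iff]
  intro g _
  have hH₁L : MulAut.conj g • H ≤ L := by
    intro x hx
    rw [mem_conj_smul] at hx
    have := ‹L.Normal›.conj_mem _ (hHL hx) g
    have e : g * (g⁻¹ * x * g) * g⁻¹ = x := by group
    rwa [e] at this
  have hcard1 : Nat.card (H.subgroupOf L) = Nat.card H :=
    Nat.card_congr (Subgroup.subgroupOfEquivOfLe hHL).toEquiv
  have hcard2 : Nat.card ((MulAut.conj g • H).subgroupOf L) = Nat.card H := by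
    rw [Nat.card_congr (Subgroup.subgroupOfEquivOfLe hH₁L).toEquiv]
    exact (Nat.card_congr (Subgroup.equivSMul (MulAut.conj g) H).toEquiv).symm
  have hLcard : Nat.card L = Nat.card H * H.relIndex L := by
    rw [← hcard1]
    exact (Subgroup.card_mul_index (H.subgroupOf L)).symm
  obtain ⟨l, hl⟩ := Cfsg.Agent.S0004.result (G := L) (Nat.card H) (H.relIndex L) hLcard hHall
    (H.subgroupOf L) ((MulAut.conj g • H).subgroupOf L) hcard1 hcard2
  have h1 : MulAut.conj (l : G) • H = MulAut.conj g • H := conj_of_subgroupOf hHL hH₁L l hl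
  have hn : (l : G)⁻¹ * g ∈ Subgroup.normalizer (H : Set G) := by
    rw [Subgroup.mem_normalizer_iff]
    intro h
    constructor
    · intro hh
      -- g h g⁻¹ ∈ conj g • H = conj l • H
      have h2 : g * h * g⁻¹ ∈ MulAut.conj (l : G) • H := by
        rw [h1, mem_conj_smul]
        have e : g⁻¹ * (g * h * g⁻¹) * g = h := by group
        rw [e]; exact hh
      rw [mem_conj_smul] at h2
      have e : (l : G)⁻¹ * g * h * ((l : G)⁻¹ * g)⁻¹ = (l : G)⁻¹ * (g * h * g⁻¹) * l := by group
      rw [e]; exact h2
    · intro hh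
      have e : (l : G)⁻¹ * g * h * ((l : G)⁻¹ * g)⁻¹ = (l : G)⁻¹ * (g * h * g⁻¹) * l := by group
      rw [e, ← mem_conj_smul, h1, mem_conj_smul] at hh
      have e2 : g⁻¹ * (g * h * g⁻¹) * g = h := by group
      rwa [e2] at hh
  have : g = (l : G) * ((l : G)⁻¹ * g) := by group
  rw [this]
  exact Subgroup.mul_mem_sup l.2 hn

end Cfsg.Agent.S0050
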