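import Mathlib
import Cfsg.Statements.S0053

set_option autoImplicit false
open Pointwise
open Cfsg

namespace Cfsg.Agent.S0053

/-- An abelian minimal normal subgroup N of a finite group is complemented exactly when N is not inside the Frattini subgroup. -/
theorem result {G : Type*} [Group G] [Finite G]
    (N : Subgroup G) [N.Normal] [IsMulCommutative N] (hN : N ≠ ⊥)
    (hmin : ∀ M : Subgroup G, M.Normal → M ≤ N → M = ⊥ ∨ M = N) :
    (∃ H : Subgroup G, Subgroup.IsComplement' N H) ↔ ¬ N ≤ frattini G := by
  constructor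
  · rintro ⟨H, hH⟩ hle
    have hHtop : H = ⊤ := by
      apply frattini_nongenerating
      rw [eq_top_iff, ← hH.sup_eq_top, sup_comm]
      exact sup_le_sup_left hle H
    have := hH.disjoint
    rw [hHtop, disjoint_top] at this
    exact hN this
  · intro hle
    have : ∃ M : Subgroup G, IsCoatom M ∧ ¬ N ≤ M := by
      by_contra hcon
      push Not at hcon
      apply hle
      unfold frattini Order.radical
      exact le_iInf₂ (fun M hM => hcon M hM)
    obtain ⟨M, hM, hNM⟩ := this
    have hsup : N ⊔ M = ⊤ := by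
      apply hM.2
      exact lt_of_le_of_ne le_sup_right (fun h => hNM (h ▸ le_sup_left))
    -- N ⊓ M is normal in G
    have hcommN : ∀ a ∈ N, ∀ b ∈ N, a * b = b * a := by
      intro a ha b hb
      have := (isMulCommutative_iff.1 ‹IsMulCommutative N›) (⟨a, ha⟩ : N) ⟨b, hb⟩
      exact congrArg Subtype.val this
    have hInormal : (N ⊓ M).Normal := by
      constructor
      intro x hx g
      have hg : g ∈ N ⊔ M := by rw [hsup]; trivial
      rw [← SetLike.mem_coe, Subgroup.normal_mul] at hg
      obtain ⟨a, ha, b, hb, rfl⟩ := hg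
      have h1 : b * x * b⁻¹ ∈ N ⊓ M :=
        ⟨‹N.Normal›.conj_mem x hx.1 b, M.mul_mem (M.mul_mem hb hx.2) (M.inv_mem hb)⟩
      have h2 : a * b * x * (a * b)⁻¹ = a * (b * x * b⁻¹) * a⁻¹ := by group
      rw [h2]
      have h3 : a * (b * x * b⁻¹) * a⁻¹ = b * x * b⁻¹ := by
        rw [hcommN a ha _ h1.1, mul_assoc, mul_inv_cancel, mul_one]
      rw [h3]
      exact h1
    have hI : N ⊓ M = ⊥ := by
      rcases hmin _ hInormal inf_le_left with h | h
      · exact h
      · exact absurd (h ▸ inf_le_right) hNM
    refine ⟨M, Subgroup.isComplement'_of_disjoint_and_mul_eq_univ (disjoint_iff.2 hI) ?_⟩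
    rw [← Subgroup.normal_mul, hsup, Subgroup.coe_top]

end Cfsg.Agent.S0053
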