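import Mathlib
import Cfsg.Statements.S0054

set_option autoImplicit false
open Pointwise
open Cfsg

namespace Cfsg.Agent.S0054

/-- A regular normal subgroup of a finite 2-transitive group is elementary abelian: it is commutative and all its elements have order dividing one prime. -/
theorem result {G : Type*} [Group G] [Finite G]
    {X : Type*} [Nonempty X] [MulAction G X] (h2 : MulAction.IsMultiplyPretransitive G X 2)
    (N : Subgroup G) [N.Normal] (htrans : MulAction.IsPretransitive N X) (hreg : ∀ x : X, MulAction.stabilizer N x = ⊥) :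
    IsMulCommutative N ∧ ∃ p : ℕ, p.Prime ∧ ∀ n ∈ N, n ^ p = 1 := by
  classical
  obtain ⟨x₀⟩ := ‹Nonempty X›
  have hfix : ∀ n ∈ N, n • x₀ = x₀ → n = 1 := by
    intro n hn hnx
    have : (⟨n, hn⟩ : N) ∈ MulAction.stabilizer N x₀ := by
      rw [MulAction.mem_stabilizer_iff]
      exact hnx
    rw [hreg x₀, Subgroup.mem_bot] at this
    exact congrArg Subtype.val this
  rw [MulAction.is_two_pretransitive_iff] at h2
  have hconj : ∀ m ∈ N, ∀ n ∈ N, m ≠ 1 → n ≠ 1 → ∃ g : G, g * m * g⁻¹ = n := by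
    intro m hm n hn hm1 hn1
    have h1 : x₀ ≠ m • x₀ := fun h => hm1 (hfix m hm h.symm)
    have h1' : x₀ ≠ n • x₀ := fun h => hn1 (hfix n hn h.symm)
    obtain ⟨g, hg0, hg1⟩ := h2 h1 h1'
    refine ⟨g, ?_⟩
    have hginv : g⁻¹ • x₀ = x₀ := by
      rw [inv_smul_eq_iff, hg0]
    have h3 : (n⁻¹ * (g * m * g⁻¹)) • x₀ = x₀ := by
      rw [mul_smul, mul_smul, mul_smul, hginv, hg1, ← mul_smul, inv_mul_cancel, one_smul]
    have h4 : n⁻¹ * (g * m * g⁻¹) ∈ N :=
      N.mul_mem (N.inv_mem hn) (‹N.Normal›.conj_mem m hm g)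
    have h5 := hfix _ h4 h3
    rw [inv_mul_eq_one] at h5
    exact h5.symm
  by_cases hN : N = ⊥
  · refine ⟨⟨⟨fun a b => ?_⟩⟩, 2, Nat.prime_two, ?_⟩
    · have hall : ∀ c : G, c ∈ N → c = 1 := by
        intro c hc
        rw [hN, Subgroup.mem_bot] at hc
        exact hc
      have ha : (a : G) = 1 := hall _ a.2
      have hb : (b : G) = 1 := hall _ b.2
      apply Subtype.ext
      simp [ha, hb]
    · intro n hn
      rw [hN, Subgroup.mem_bot] at hn
      rw [hn, one_pow]
  · have hNcard : Nat.card N ≠ 1 := fun h1 => hN (Subgroup.card_eq_one.1 h1)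
    obtain ⟨p, hp, hpdvd⟩ := Nat.exists_prime_and_dvd hNcard
    haveI : Fact p.Prime := ⟨hp⟩
    obtain ⟨x, hx⟩ := exists_prime_orderOf_dvd_card' p hpdvd
    have hx1 : (x : G) ≠ 1 := by
      intro h
      have : x = 1 := Subtype.ext h
      rw [this, orderOf_one] at hx
      exact hp.one_lt.ne hx
    have hxp : (x : G) ^ p = 1 := by
      have : x ^ p = 1 := by rw [← hx]; exact pow_orderOf_eq_one x
      have := congrArg Subtype.val this
      simpa using this
    have hpow : ∀ n ∈ N, n ^ p = 1 := by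
      intro n hn
      by_cases hn1 : n = 1
      · rw [hn1, one_pow]
      · obtain ⟨g, hg⟩ := hconj x x.2 n hn hx1 hn1
        rw [← hg, conj_pow, hxp, mul_one, mul_inv_cancel]
    refine ⟨?_, p, hp, hpow⟩
    have hPG : IsPGroup p N := by
      intro n
      refine ⟨1, ?_⟩
      apply Subtype.ext
      have := hpow n n.2
      simpa using this
    haveI : Nontrivial N := (Subgroup.nontrivial_iff_ne_bot N).2 hN
    have hZ : Nontrivial (Subgroup.center N) := hPG.center_nontrivial
    obtain ⟨⟨z, hz⟩, hz1⟩ := exists_ne (1 : Subgroup.center N)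
    have hz1' : (z : G) ≠ 1 := by
      intro h
      apply hz1
      apply Subtype.ext
      apply Subtype.ext
      exact h
    have hzcomm : ∀ m ∈ N, (z : G) * m = m * z := by
      intro m hm
      have := (Subgroup.mem_center_iff.1 hz) ⟨m, hm⟩
      have := congrArg Subtype.val this
      simpa using this.symm
    refine ⟨⟨fun a b => ?_⟩⟩
    apply Subtype.ext
    simp only [Subgroup.coe_mul]
    by_cases ha1 : (a : G) = 1
    · rw [ha1, one_mul, mul_one]
    · obtain ⟨g, hg⟩ := hconj z z.2 a a.2 hz1' ha1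
      have hb' : g⁻¹ * b * g ∈ N := by
        have := ‹N.Normal›.conj_mem b b.2 g⁻¹
        simpa using this
      have := hzcomm _ hb'
      rw [← hg]
      calc g * ↑z * g⁻¹ * ↑b = g * (↑z * (g⁻¹ * ↑b * g)) * g⁻¹ := by group
        _ = g * ((g⁻¹ * ↑b * g) * ↑z) * g⁻¹ := by rw [this]
        _ = ↑b * (g * ↑z * g⁻¹) := by group

end Cfsg.Agent.S0054
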