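import Mathlib
import Cfsg.Statements.S0057
import Cfsg.Agent.Lib.Helper1.CoprimeIndexP
import Cfsg.Agent.Lib.Helper1.CoprimeSylow

set_option autoImplicit false
open Cfsg

namespace Cfsg.Agent.S0057

open Subgroup
open scoped commutatorElement

/-- Under coprime action, if the centraliser of A in K has prime index p in K then the commutator subgroup [K, A] has order exactly p. -/
theorem result {G : Type*} [Group G] [Finite G] (A K : Subgroup G) (hAK : A ≤ Subgroup.normalizer (K : Set G))
    (hcop : (Nat.card A).Coprime (Nat.card K)) (hsolv : Group.IsSolvable A ∨ Group.IsSolvable K)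
    (p : ℕ) (hp : p.Prime) (hidx : (K ⊓ Subgroup.centralizer (A : Set G)).relIndex K = p) :
    Nat.card (⁅K, A⁆ : Subgroup G) = p := by
  haveI : Fact p.Prime := ⟨hp⟩
  obtain ⟨P, hPA⟩ := Cfsg.Agent.Helper1.exists_invariant_sylow (p := p) A hAK hcop hsolv
  set P' : Subgroup G := (P : Subgroup K).map K.subtype with hP'
  set C : Subgroup G := K ⊓ Subgroup.centralizer (A : Set G) with hC
  have hP'K : P' ≤ K := Subgroup.map_subtype_le _
  have hP'p : IsPGroup p P' := P.isPGroup'.map _
  have hsub : P'.subgroupOf K = (P : Subgroup K) := by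
    rw [hP']
    ext x
    rw [Subgroup.mem_subgroupOf, Subgroup.mem_map]
    constructor
    · rintro ⟨y, hy, hxy⟩
      have : y = x := Subtype.ext hxy
      rw [← this]; exact hy
    · intro hx
      exact ⟨x, hx, rfl⟩
  -- P' is not contained in C
  have hnot : ¬ P' ≤ C := by
    intro hle
    have h1 : C.relIndex K ∣ P'.relIndex K := Subgroup.relIndex_dvd_of_le_left K hle
    have h2 : P'.relIndex K = (P : Subgroup K).index := by
      rw [Subgroup.relIndex, hsub]
    rw [hidx, h2] at h1
    exact P.not_dvd_index h1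
  -- relative index of C in P' is p
  have hidxP : C.relIndex P' = p := by
    have hle : C.relIndex P' ≤ C.relIndex K := by
      apply Subgroup.relIndex_le_of_le_right hP'K
      rw [hidx]; exact hp.ne_zero
    have hdvd : C.relIndex P' ∣ Nat.card P' := Subgroup.relIndex_dvd_card C P'
    obtain ⟨n, hn⟩ := IsPGroup.iff_card.mp hP'p
    rw [hn] at hdvd
    obtain ⟨k, hk, hk'⟩ := (Nat.dvd_prime_pow hp).mp hdvd
    rw [hidx, hk'] at hle
    rcases Nat.eq_zero_or_pos k with h0 | hpos
    · exfalso
      rw [h0, pow_zero] at hk'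
      exact hnot (Subgroup.relIndex_eq_one.mp hk')
    · have : k ≤ 1 := by
        by_contra hlt
        push Not at hlt
        have : p ^ 2 ≤ p ^ k := Nat.pow_le_pow_right hp.pos hlt
        have h2 : p * p ≤ p := by rw [← sq]; exact this.trans hle
        have := hp.two_le
        nlinarith
      have hk1 : k = 1 := by omega
      rw [hk', hk1, pow_one]
  -- K = P' C
  have hfact : ∀ g ∈ K, ∃ x ∈ P', x⁻¹ * g ∈ C := fun g hg =>
    Cfsg.Agent.Helper1.exists_mul_of_relIndex_eq_relIndex hP'K (hidxP.trans hidx.symm) g hg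
  -- the p-group lemma
  have hcopP : (Nat.card A).Coprime (Nat.card P') :=
    Nat.Coprime.coprime_dvd_right (Subgroup.card_dvd_of_le hP'K) hcop
  have hidxP' : (P' ⊓ centralizer (A : Set G)).relIndex P' = p := by
    have h2 : P' ⊓ centralizer (A : Set G) = C ⊓ P' := by
      rw [hC]
      apply le_antisymm
      · exact le_inf (le_inf (inf_le_left.trans hP'K) inf_le_right) inf_le_left
      · exact le_inf inf_le_right (inf_le_left.trans inf_le_right)
    rw [h2, Subgroup.inf_relIndex_right, hidxP]
  have hmain := Cfsg.Agent.Helper1.card_commutator_of_relIndex_prime_pgroup A P' hP'p hPA hcopP hidxP'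
  have heq : (⁅K, A⁆ : Subgroup G) = ⁅P', A⁆ := by
    apply le_antisymm
    · rw [Subgroup.commutator_le]
      intro g hg a ha
      obtain ⟨x, hx, hc⟩ := hfact g hg
      have hca : (x⁻¹ * g) * a = a * (x⁻¹ * g) :=
        (mem_centralizer_iff.mp (Subgroup.mem_inf.mp hc).2 a ha).symm
      have : ⁅g, a⁆ = ⁅x, a⁆ := by
        rw [commutatorElement_def, commutatorElement_def]
        calc g * a * g⁻¹ * a⁻¹ = x * ((x⁻¹ * g) * a) * (x⁻¹ * g)⁻¹ * x⁻¹ * a⁻¹ := by group
          _ = x * (a * (x⁻¹ * g)) * (x⁻¹ * g)⁻¹ * x⁻¹ * a⁻¹ := by rw [hca]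
          _ = x * a * x⁻¹ * a⁻¹ := by group
      rw [this]
      exact Subgroup.commutator_mem_commutator hx ha
    · exact Subgroup.commutator_mono hP'K le_rfl
  rw [heq]
  exact hmain

end Cfsg.Agent.S0057
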