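import Mathlib
import Cfsg.Statements.S0059
import Cfsg.Agent.S0001

set_option autoImplicit false
open Pointwise
open Cfsg

namespace Cfsg.Agent.S0059

open Cfsg.Agent.Helper1

/-- the canonical injective hom `A.subgroupOf L →* A` -/
def subgroupOfHom {G : Type*} [Group G] (A L : Subgroup G) : A.subgroupOf L →* A where
  toFun x := ⟨(x : L), Subgroup.mem_subgroupOf.1 x.2⟩
  map_one' := rfl
  map_mul' _ _ := rfl

theorem subgroupOfHom_injective {G : Type*} [Group G] (A L : Subgroup G) :
    Function.Injective (subgroupOfHom A L) := by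
  intro x y h
  apply Subtype.ext
  apply Subtype.ext
  exact congrArg (fun z : A => (z : G)) h

/-- Let a finite group act on a set on which a normal subgroup K of coprime order and index is transitive, with K or the quotient solvable. Then any complement H of K has a fixed point, and any two H-fixed points are interchanged by an element of K centralising H. -/
theorem result {G : Type*} [Group G] [Finite G] {X : Type*} [Nonempty X] [MulAction G X]
    (K H : Subgroup G) [K.Normal] (hc : Subgroup.IsComplement' K H) (hcop : (Nat.card K).Coprime K.index)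
    (hsolv : Group.IsSolvable K ∨ Group.IsSolvable (G ⧸ K)) (htrans : MulAction.IsPretransitive K X) :
    (∃ x : X, ∀ h ∈ H, h • x = x) ∧
    ∀ x y : X, (∀ h ∈ H, h • x = x) → (∀ h ∈ H, h • y = y) → ∃ k ∈ K ⊓ Subgroup.centralizer (H : Set G), k • x = y := by
  classical
  have hKH : K ⊓ H = ⊥ := hc.disjoint.eq_bot
  have hsolv' : Group.IsSolvable K ∨ Group.IsSolvable H := by
    rcases hsolv with h | h
    · exact Or.inl h
    · right
      exact solvable_of_surjective (f := (hc.symm.QuotientMulEquiv).toMonoidHom)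
        (hc.symm.QuotientMulEquiv).surjective
  have htr : ∀ x y : X, ∃ k ∈ K, k • x = y := by
    intro x y
    obtain ⟨k, hk⟩ := htrans.exists_smul_eq x y
    exact ⟨k, k.2, hk⟩
  -- generic facts about a stabilizer
  have hcopS : ∀ x : X, (Nat.card (K.subgroupOf (MulAction.stabilizer G x))).Coprime
      (K.subgroupOf (MulAction.stabilizer G x)).index := by
    intro x
    refine Nat.Coprime.coprime_dvd_left ?_ (Nat.Coprime.coprime_dvd_right ?_ hcop)
    · exact Subgroup.card_dvd_of_injective _ (subgroupOfHom_injective K _)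
    · exact Subgroup.relIndex_dvd_index_of_normal K _
  constructor
  · obtain ⟨x₀⟩ := ‹Nonempty X›
    set S := MulAction.stabilizer G x₀ with hS
    haveI : (K.subgroupOf S).Normal := Subgroup.normal_subgroupOf
    obtain ⟨H₁', hH₁'⟩ := Subgroup.exists_right_complement'_of_coprime (hcopS x₀)
    set H₁ := H₁'.map S.subtype with hH₁
    have hH₁S : H₁ ≤ S := Subgroup.map_subtype_le H₁'
    have hcH₁ : Subgroup.IsComplement' K H₁ := by
      apply isComplement'_of_forall
      · rw [eq_bot_iff]
        rintro x ⟨hxK, y, hy, rfl⟩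
        have : y ∈ K.subgroupOf S ⊓ H₁' := Subgroup.mem_inf.2 ⟨Subgroup.mem_subgroupOf.2 hxK, hy⟩
        rw [hH₁'.disjoint.eq_bot, Subgroup.mem_bot] at this
        rw [Subgroup.mem_bot, this]; rfl
      · intro g
        obtain ⟨k, hk, hkx⟩ := htr x₀ (g • x₀)
        have hs : k⁻¹ * g ∈ S := by
          rw [hS, MulAction.mem_stabilizer_iff, mul_smul, ← hkx, ← mul_smul, inv_mul_cancel, one_smul]
        obtain ⟨k', hk', h', hh', e⟩ := IsComplement'.exists_mul hH₁' ⟨k⁻¹ * g, hs⟩
        refine ⟨k * (k' : G), K.mul_mem hk (Subgroup.mem_subgroupOf.1 hk'), (h' : G),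
          Subgroup.mem_map_of_mem _ hh', ?_⟩
        have e' : k⁻¹ * g = (k' : G) * (h' : G) := congrArg Subtype.val e
        calc g = k * (k⁻¹ * g) := by group
          _ = k * (k' : G) * (h' : G) := by rw [e', mul_assoc]
    obtain ⟨g, hg⟩ := Cfsg.Agent.S0001.sz_conj_aux _ G rfl K hcop H H₁ hc hcH₁ hsolv'
    refine ⟨g⁻¹ • x₀, fun h hh => ?_⟩
    have h1 : g * h * g⁻¹ ∈ H₁ := by
      rw [← hg, mem_conj_smul_iff]
      have e : g⁻¹ * (g * h * g⁻¹) * g = h := by group
      rw [e]; exact hh
    have h2 : (g * h * g⁻¹) • x₀ = x₀ := MulAction.mem_stabilizer_iff.1 (hH₁S h1)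
    calc h • g⁻¹ • x₀ = g⁻¹ • ((g * h * g⁻¹) • x₀) := by
          simp only [← mul_smul]; congr 1; group
      _ = g⁻¹ • x₀ := by rw [h2]
  · intro x y hx hy
    obtain ⟨k, hk, hkx⟩ := htr x y
    set S := MulAction.stabilizer G x with hS
    haveI : (K.subgroupOf S).Normal := Subgroup.normal_subgroupOf
    have hHS : H ≤ S := fun h hh => MulAction.mem_stabilizer_iff.2 (hx h hh)
    have hcH₂ : Subgroup.IsComplement' K (MulAut.conj k⁻¹ • H) := isComplement'_conj hc k⁻¹
    have hH₂S : MulAut.conj k⁻¹ • H ≤ S := by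
      intro z hz
      rw [mem_conj_smul_iff, inv_inv] at hz
      rw [hS, MulAction.mem_stabilizer_iff]
      have h1 := hy _ hz
      rw [← hkx] at h1
      -- (k z k⁻¹) • k • x = k • x
      have : z • x = k⁻¹ • ((k * z * k⁻¹) • k • x) := by
        simp only [← mul_smul]; congr 1; group
      rw [this, h1, ← mul_smul, inv_mul_cancel, one_smul]
    have hmulS : ∀ (H' : Subgroup G), Subgroup.IsComplement' K H' → H' ≤ S →
        Subgroup.IsComplement' (K.subgroupOf S) (H'.subgroupOf S) := by
      intro H' hc' hH'S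
      exact isComplement'_subgroupOf hc'.disjoint.eq_bot hH'S
        (fun l _ => IsComplement'.exists_mul hc' l)
    have hsolvS : Group.IsSolvable (K.subgroupOf S) ∨ Group.IsSolvable (H.subgroupOf S) := by
      rcases hsolv' with h | h
      · left; exact solvable_of_solvable_injective (subgroupOfHom_injective K S)
      · right; exact solvable_of_solvable_injective (subgroupOfHom_injective H S)
    obtain ⟨s, hs⟩ := Cfsg.Agent.S0001.sz_conj_aux _ S rfl (K.subgroupOf S) (hcopS x)
      (H.subgroupOf S) ((MulAut.conj k⁻¹ • H).subgroupOf S) (hmulS H hc hHS) (hmulS _ hcH₂ hH₂S) hsolvS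
    have hs' : MulAut.conj (s : G) • H = MulAut.conj k⁻¹ • H := conj_of_conj_subgroupOf hHS hH₂S s hs
    -- decompose s = c * h₀
    obtain ⟨c, hcK, h₀, hh₀, e⟩ := IsComplement'.exists_mul hc (s : G)
    have hcS : c ∈ S := by
      have : c = (s : G) * h₀⁻¹ := by rw [e]; group
      rw [this]; exact S.mul_mem s.2 (S.inv_mem (hHS hh₀))
    have hh₀H : MulAut.conj h₀ • H = H := by
      ext z
      rw [mem_conj_smul_iff]
      constructor
      · intro hz
        have := H.mul_mem (H.mul_mem hh₀ hz) (H.inv_mem hh₀)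
        have e2 : h₀ * (h₀⁻¹ * z * h₀) * h₀⁻¹ = z := by group
        rwa [e2] at this
      · intro hz
        exact H.mul_mem (H.mul_mem (H.inv_mem hh₀) hz) hh₀
    have hcH : MulAut.conj c • H = MulAut.conj k⁻¹ • H := by
      rw [← hs', e, ← conj_smul_conj_smul, hh₀H]
    have hzH : MulAut.conj (k * c) • H = H := by
      rw [← conj_smul_conj_smul, hcH, conj_smul_conj_smul, mul_inv_cancel, map_one, one_smul]
    refine ⟨k * c, Subgroup.mem_inf.2 ⟨K.mul_mem hk hcK, ?_⟩, ?_⟩
    · rw [Subgroup.mem_centralizer_iff]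
      intro h hh
      -- z h z⁻¹ ∈ H and z h z⁻¹ h⁻¹ ∈ K
      set z := k * c with hz
      have hzK : z ∈ K := K.mul_mem hk hcK
      have h1 : z * h * z⁻¹ ∈ H := by
        rw [← hzH, mem_conj_smul_iff]
        have e2 : z⁻¹ * (z * h * z⁻¹) * z = h := by group
        rw [e2]; exact hh
      have h2 : z * h * z⁻¹ * h⁻¹ ∈ K ⊓ H := by
        refine Subgroup.mem_inf.2 ⟨?_, H.mul_mem h1 (H.inv_mem hh)⟩
        have e2 : z * h * z⁻¹ * h⁻¹ = z * (h * z⁻¹ * h⁻¹) := by group
        rw [e2]
        exact K.mul_mem hzK (‹K.Normal›.conj_mem _ (K.inv_mem hzK) h)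
      rw [hKH, Subgroup.mem_bot] at h2
      -- z h z⁻¹ h⁻¹ = 1 → h z = z h
      have h3 : z * h * z⁻¹ = h := by
        have := mul_inv_eq_one.1 h2
        exact this
      calc h * z = (z * h * z⁻¹) * z := by rw [h3]
        _ = z * h := by group
    · rw [mul_smul, MulAction.mem_stabilizer_iff.1 hcS, hkx]

end Cfsg.Agent.S0059
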