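import Mathlib
import Cfsg.Statements.S0060
import Cfsg.Agent.S0010

set_option autoImplicit false
open Pointwise
open Cfsg

namespace Cfsg.Agent.S0060

theorem mem_conj_smul {G : Type*} [Group G] {g x : G} {H : Subgroup G} :
    x ∈ MulAut.conj g • H ↔ g⁻¹ * x * g ∈ H := by
  rw [Subgroup.mem_pointwise_smul_iff_inv_smul_mem, ← map_inv, MulAut.smul_def, MulAut.conj_apply,
    inv_inv]

/-- Sylow's theorem inside a subgroup `H`: a `p`-subgroup `U ≤ H` is conjugate by an element of `H`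
into a Sylow `p`-subgroup `P` of `G` that lies in `H`. -/
theorem exists_conj_le {G : Type*} [Group G] [Finite G] {p : ℕ} [Fact p.Prime] (H : Subgroup G)
    (P : Sylow p G) (hPH : (P : Subgroup G) ≤ H) (U : Subgroup G) (hU : IsPGroup p U) (hUH : U ≤ H) :
    ∃ n ∈ H, ∀ u ∈ U, n * u * n⁻¹ ∈ (P : Subgroup G) := by
  have hU' : IsPGroup p (U.subgroupOf H) := hU.comap_subtype
  obtain ⟨T, hT⟩ := hU'.exists_le_sylow
  obtain ⟨n, hn⟩ := MulAction.exists_smul_eq H T (P.subtype hPH)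
  refine ⟨n, n.2, fun u hu => ?_⟩
  have h1 : (⟨u, hUH hu⟩ : H) ∈ (T : Subgroup H) := hT (Subgroup.mem_subgroupOf.2 hu)
  have h2 : n * (⟨u, hUH hu⟩ : H) * n⁻¹ ∈ ((n • T : Sylow p H) : Subgroup H) := by
    rw [Sylow.smul_def, Sylow.pointwise_smul_def, mem_conj_smul]
    have : n⁻¹ * (n * (⟨u, hUH hu⟩ : H) * n⁻¹) * n = ⟨u, hUH hu⟩ := by group
    rw [this]
    exact h1
  rw [hn, Sylow.coe_subtype, Subgroup.mem_subgroupOf] at h2
  exact h2

/-- Brodkey's Theorem: in a finite group with abelian Sylow p-subgroups and no nontrivial normal p-subgroup, some conjugate of a Sylow p-subgroup meets it trivially. -/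
theorem result {G : Type*} [Group G] [Finite G] (p : ℕ) [Fact p.Prime]
    (S : Sylow p G) (hS : IsMulCommutative S) (hOp : Cfsg.pCore p G = ⊥) :
    ∃ g : G, (S : Subgroup G) ⊓ MulAut.conj g • (S : Subgroup G) = ⊥ := by
  classical
  -- all Sylow subgroups are abelian
  have hScomm : ∀ x ∈ (S : Subgroup G), ∀ y ∈ (S : Subgroup G), x * y = y * x := by
    intro x hx y hy
    have := (isMulCommutative_iff.1 hS) ⟨x, hx⟩ ⟨y, hy⟩
    exact congrArg Subtype.val this
  have hcomm : ∀ P : Sylow p G, ∀ x ∈ (P : Subgroup G), ∀ y ∈ (P : Subgroup G), x * y = y * x := by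
    intro P x hx y hy
    obtain ⟨g, hg⟩ := MulAction.exists_smul_eq G S P
    rw [← hg, Sylow.smul_def, Sylow.pointwise_smul_def, mem_conj_smul] at hx hy
    have := hScomm _ hx _ hy
    calc x * y = g * ((g⁻¹ * x * g) * (g⁻¹ * y * g)) * g⁻¹ := by group
      _ = g * ((g⁻¹ * y * g) * (g⁻¹ * x * g)) * g⁻¹ := by rw [this]
      _ = y * x := by group
  -- minimal intersection
  obtain ⟨⟨P, Q⟩, hmin⟩ := Finite.exists_min
    (fun PQ : Sylow p G × Sylow p G => Nat.card ((PQ.1 : Subgroup G) ⊓ (PQ.2 : Subgroup G) : Subgroup G))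
  simp only at hmin
  set D : Subgroup G := (P : Subgroup G) ⊓ (Q : Subgroup G) with hD
  set N := Subgroup.normalizer (D : Set G) with hN
  have hle_norm : ∀ R : Sylow p G, D ≤ (R : Subgroup G) → (R : Subgroup G) ≤ N := by
    intro R hDR x hx
    rw [hN, Subgroup.mem_normalizer_iff]
    intro d
    constructor
    · intro hd
      have : x * d * x⁻¹ = d := by
        rw [hcomm R x hx d (hDR hd), mul_assoc, mul_inv_cancel, mul_one]
      rw [this]; exact hd
    · intro hd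
      have h1 := hcomm R x⁻¹ (Subgroup.inv_mem _ hx) _ (hDR hd)
      have : d = x⁻¹ * (x * d * x⁻¹) * x := by group
      rw [this, h1]
      have : x * d * x⁻¹ * x⁻¹ * x = x * d * x⁻¹ := by group
      rw [this]; exact hd
  have hPN : (P : Subgroup G) ≤ N := hle_norm P inf_le_left
  have hQN : (Q : Subgroup G) ≤ N := hle_norm Q inf_le_right
  -- D is contained in every Sylow subgroup
  have hDall : ∀ R : Sylow p G, D ≤ (R : Subgroup G) := by
    intro R
    obtain ⟨n, hnN, hn⟩ := exists_conj_le N P hPN ((R : Subgroup G) ⊓ N)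
      (R.isPGroup'.to_le inf_le_left) inf_le_right
    -- R' := n • R
    have hRQ : ((n • R : Sylow p G) : Subgroup G) ⊓ (Q : Subgroup G) ≤ D := by
      intro x hx
      obtain ⟨hx1, hx2⟩ := Subgroup.mem_inf.1 hx
      refine Subgroup.mem_inf.2 ⟨?_, hx2⟩
      rw [Sylow.smul_def, Sylow.pointwise_smul_def, mem_conj_smul] at hx1
      have hxN : n⁻¹ * x * n ∈ N := N.mul_mem (N.mul_mem (N.inv_mem hnN) (hQN hx2)) hnN
      have := hn _ (Subgroup.mem_inf.2 ⟨hx1, hxN⟩)
      have e : n * (n⁻¹ * x * n) * n⁻¹ = x := by group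
      rwa [e] at this
    have hcard : Nat.card D ≤ Nat.card (((n • R : Sylow p G) : Subgroup G) ⊓ (Q : Subgroup G) : Subgroup G) :=
      hmin (n • R, Q)
    have heq : ((n • R : Sylow p G) : Subgroup G) ⊓ (Q : Subgroup G) = D := by
      apply Subgroup.eq_of_le_of_card_ge hRQ hcard
    intro d hd
    have hd' : d ∈ ((n • R : Sylow p G) : Subgroup G) := by
      have : d ∈ ((n • R : Sylow p G) : Subgroup G) ⊓ (Q : Subgroup G) := heq ▸ hd
      exact (Subgroup.mem_inf.1 this).1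
    -- n⁻¹ d n ∈ D since n normalizes D; apply to element n d' n⁻¹
    have hnorm := (Subgroup.mem_normalizer_iff.1 hnN)
    -- d ∈ D → n * d * n⁻¹ ∈ D
    have h1 : n * d * n⁻¹ ∈ D := (hnorm d).1 hd
    have h2 : n * d * n⁻¹ ∈ ((n • R : Sylow p G) : Subgroup G) := by
      have : n * d * n⁻¹ ∈ ((n • R : Sylow p G) : Subgroup G) ⊓ (Q : Subgroup G) := heq ▸ h1
      exact (Subgroup.mem_inf.1 this).1
    rw [Sylow.smul_def, Sylow.pointwise_smul_def, mem_conj_smul] at h2
    have e : n⁻¹ * (n * d * n⁻¹) * n = d := by group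
    rwa [e] at h2
  have hDbot : D = ⊥ := by
    rw [eq_bot_iff, ← hOp, Cfsg.Agent.S0010.result p]
    exact le_iInf hDall
  -- transport to S
  obtain ⟨a, ha⟩ := MulAction.exists_smul_eq G S P
  obtain ⟨b, hb⟩ := MulAction.exists_smul_eq G S Q
  refine ⟨a⁻¹ * b, ?_⟩
  rw [eq_bot_iff]
  intro x hx
  obtain ⟨hx1, hx2⟩ := Subgroup.mem_inf.1 hx
  rw [mem_conj_smul] at hx2
  have h1 : a * x * a⁻¹ ∈ (P : Subgroup G) := by
    rw [← ha, Sylow.smul_def, Sylow.pointwise_smul_def, mem_conj_smul]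
    have : a⁻¹ * (a * x * a⁻¹) * a = x := by group
    rw [this]; exact hx1
  have h2 : a * x * a⁻¹ ∈ (Q : Subgroup G) := by
    rw [← hb, Sylow.smul_def, Sylow.pointwise_smul_def, mem_conj_smul]
    have : b⁻¹ * (a * x * a⁻¹) * b = (a⁻¹ * b)⁻¹ * x * (a⁻¹ * b) := by group
    rw [this]; exact hx2
  have h3 : a * x * a⁻¹ ∈ D := Subgroup.mem_inf.2 ⟨h1, h2⟩
  rw [hDbot, Subgroup.mem_bot] at h3
  rw [Subgroup.mem_bot]
  have : x = a⁻¹ * (a * x * a⁻¹) * a := by group
  rw [this, h3]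
  group

end Cfsg.Agent.S0060
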