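import Mathlib
import Cfsg.Statements.S0069
import Cfsg.Agent.S0040
import Cfsg.Agent.S0056
import Cfsg.Agent.S0068
import Cfsg.Agent.Lib.Helper1.FrobeniusNoFrob
import Cfsg.Agent.Lib.Helper1.Coprime

set_option autoImplicit false
open Cfsg
open Cfsg.Agent.Helper1
open scoped commutatorElement

namespace Cfsg.Agent.S0069

/-- A Frobenius complement has nontrivial centre: if H ≠ 1 complements a nontrivial normal subgroup K and every nonidentity element of H has trivial centraliser in K, then the centre of H is nontrivial. -/
theorem result {G : Type*} [Group G] [Finite G] (K H : Subgroup G) [K.Normal]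
    (hc : Subgroup.IsComplement' K H) (hK : K ≠ ⊥) (hH : H ≠ ⊥) (hfpf : ∀ h ∈ H, h ≠ 1 → K ⊓ Subgroup.centralizer {h} = ⊥) :
    Subgroup.center H ≠ ⊥ := by
  by_cases heven : 2 ∣ Nat.card H
  · obtain ⟨⟨s, hsH, hs2, huniq, -⟩, -⟩ := Cfsg.Agent.S0068.result K H hc hK hfpf heven
    intro hbot
    have hmem : (⟨s, hsH⟩ : H) ∈ Subgroup.center H := by
      rw [Subgroup.mem_center_iff]
      intro h
      have h1 : orderOf ((h : G) * s * (h : G)⁻¹) = 2 := by
        have e := orderOf_injective (MulAut.conj (h : G)).toMonoidHom (MulAut.conj (h : G)).injective s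
        simp only [MulEquiv.coe_toMonoidHom, MulAut.conj_apply] at e
        rw [e, hs2]
      have h2 := huniq _ (H.mul_mem (H.mul_mem h.2 hsH) (H.inv_mem h.2)) h1
      apply Subtype.ext
      show (h : G) * s = s * h
      calc (h : G) * s = ((h : G) * s * (h : G)⁻¹) * h := by group
        _ = s * h := by rw [h2]
    rw [hbot, Subgroup.mem_bot] at hmem
    have : s = 1 := congrArg Subtype.val hmem
    rw [this, orderOf_one] at hs2
    norm_num at hs2
  · -- odd order: `H` is a Z-group
    haveI : Nontrivial H := (Subgroup.nontrivial_iff_ne_bot H).mpr hH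
    haveI hZ : IsZGroup H := by
      refine ⟨fun p hp P => ?_⟩
      haveI := Fact.mk hp
      rcases Cfsg.Agent.S0040.result K H hc hK hfpf p P with h | ⟨n, ⟨e⟩⟩
      · exact h
      · exfalso
        apply heven
        have h1 : Nat.card P = 4 * 2 ^ n := by
          rw [Nat.card_congr e.toEquiv, Nat.card_eq_fintype_card, QuaternionGroup.card]
        have h2 : Nat.card P ∣ Nat.card H := Subgroup.card_subgroup_dvd_card _
        exact dvd_trans ⟨2 * 2 ^ n, by rw [h1]; ring⟩ h2
    set D : Subgroup H := commutator H with hD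
    have hDlt : D < ⊤ := IsZGroup.commutator_lt H
    have hcop : (Nat.card D).Coprime D.index := IsZGroup.coprime_commutator_index H
    obtain ⟨C, hC⟩ := Subgroup.exists_right_complement'_of_coprime hcop
    have hCcard : Nat.card C = D.index := hC.symm.index_eq_card.symm
    have hC1 : Nat.card C ≠ 1 := by
      rw [hCcard]
      intro h
      exact hDlt.ne (Subgroup.index_eq_one.mp h)
    obtain ⟨q, hq, hqC⟩ := Nat.exists_prime_and_dvd hC1
    haveI := Fact.mk hq
    obtain ⟨c', hc'⟩ := exists_prime_orderOf_dvd_card' (G := C) q hqC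
    set c : H := (c' : H) with hcdef
    have hcord : orderOf c = q := by rw [hcdef, Subgroup.orderOf_coe, hc']
    have hc1 : c ≠ 1 := by
      intro h
      rw [h, orderOf_one] at hcord
      exact hq.one_lt.ne hcord
    have hcC : ∀ a ∈ C, a * c = c * a := by
      intro a ha
      have h1 : ⁅a, c⁆ ∈ D :=
        Subgroup.commutator_mem_commutator (Subgroup.mem_top _) (Subgroup.mem_top _)
      have h2 : ⁅a, c⁆ ∈ C := by
        rw [commutatorElement_def]
        exact C.mul_mem (C.mul_mem (C.mul_mem ha c'.2) (C.inv_mem ha)) (C.inv_mem c'.2)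
      have h3 : ⁅a, c⁆ ∈ D ⊓ C := Subgroup.mem_inf.mpr ⟨h1, h2⟩
      rw [hC.disjoint.eq_bot, Subgroup.mem_bot] at h3
      exact commutatorElement_eq_one_iff_mul_comm.mp h3
    have hqD : (Nat.card D).Coprime q :=
      Nat.Coprime.coprime_dvd_right (hCcard ▸ hqC) hcop
    have hcD : ∀ d ∈ D, d * c = c * d := by
      haveI : IsCyclic D := IsZGroup.isCyclic_commutator H
      haveI : IsMulCommutative D := by
        letI := IsCyclic.commGroup (α := D)
        exact ⟨⟨fun a b => mul_comm a b⟩⟩
      have hDn : D.Normal := inferInstance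
      have hΩ : ∀ v ∈ D, (orderOf v).Prime → ∀ a ∈ Subgroup.zpowers c, a * v = v * a := by
        intro v hv hvp a ha
        have hpD : orderOf v ∣ Nat.card D := Subgroup.orderOf_dvd_natCard D hv
        have hpq : orderOf v ≠ q := by
          intro h
          rw [h] at hpD
          exact hq.one_lt.ne' (Nat.eq_one_of_dvd_coprimes hqD hpD dvd_rfl)
        haveI : Fact (orderOf v).Prime := ⟨hvp⟩
        -- the conjugate lies in the group generated by `v`
        have hw : c * v * c⁻¹ ∈ D := hDn.conj_mem v hv c
        have hvw : v * (c * v * c⁻¹) = (c * v * c⁻¹) * v := by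
          have := (inferInstance : IsMulCommutative D).is_comm.comm ⟨v, hv⟩ ⟨c * v * c⁻¹, hw⟩
          exact congrArg Subtype.val this
        have hword : orderOf ((c : G) * (v : G) * (c : G)⁻¹) = orderOf v := by
          have e := orderOf_injective (MulAut.conj (c : G)).toMonoidHom
            (MulAut.conj (c : G)).injective (v : G)
          simp only [MulEquiv.coe_toMonoidHom, MulAut.conj_apply] at e
          rw [e, Subgroup.orderOf_coe]
        have hHK : H ≤ Subgroup.normalizer (K : Set G) := by
          rw [Subgroup.normalizer_eq_top]; exact le_top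
        have hmem : (c : G) * (v : G) * (c : G)⁻¹ ∈ Subgroup.zpowers (v : G) :=
          mem_zpowers_of_fpf_of_commute hHK hK hfpf v.2
            (H.mul_mem (H.mul_mem c.2 v.2) (H.inv_mem c.2)) (Subgroup.orderOf_coe v) hword
            (congrArg Subtype.val hvw)
        have hcv : (c : G) * (v : G) = (v : G) * (c : G) :=
          commute_of_fpf_of_conj_mem_zpowers hK hfpf hvp hq hpq v.2 c.2 (Subgroup.orderOf_coe v)
            (by rw [Subgroup.orderOf_coe, hcord]) hmem
        have hcv' : Commute c v := Subtype.ext hcv
        obtain ⟨k, rfl⟩ := Subgroup.mem_zpowers_iff.mp ha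
        exact (hcv'.zpow_left k).eq
      have hle := Cfsg.Agent.S0056.result (G := H) (Subgroup.zpowers c) D
        (by rw [Subgroup.normalizer_eq_top]; exact le_top)
        (by rw [Nat.card_zpowers, hcord]; exact hqD.symm) hΩ
      intro d hd
      exact Subgroup.mem_centralizer_iff.mp (hle (Subgroup.mem_zpowers c)) d hd
    intro hbot
    have hmem : c ∈ Subgroup.center H := by
      rw [Subgroup.mem_center_iff]
      intro h
      have hh : h ∈ D ⊔ C := by rw [hC.sup_eq_top]; exact Subgroup.mem_top h
      obtain ⟨d, hd, a, ha, rfl⟩ := exists_mul_of_mem_sup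
        (by rw [Subgroup.normalizer_eq_top]; exact le_top) hh
      calc d * a * c = d * (a * c) := by group
        _ = d * (c * a) := by rw [hcC a ha]
        _ = (d * c) * a := by group
        _ = (c * d) * a := by rw [hcD d hd]
        _ = c * (d * a) := by group
    rw [hbot, Subgroup.mem_bot] at hmem
    exact hc1 hmem

end Cfsg.Agent.S0069
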