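import Mathlib
import Cfsg.Statements.S0070
import Cfsg.Agent.Lib.Helper7.Fitting

set_option autoImplicit false
open Cfsg

namespace Cfsg.Agent.S0070

open Subgroup

/-- Gaschütz: a normal subgroup whose image modulo the Frattini subgroup is nilpotent is nilpotent -/
theorem isNilpotent_comap_of_isNilpotent {G : Type*} [Group G] [Finite G]
    (Fb : Subgroup (G ⧸ frattini G)) [hFn : Fb.Normal] (hF : Group.IsNilpotent Fb) :
    Group.IsNilpotent (Fb.comap (QuotientGroup.mk' (frattini G))) := by
  set π := QuotientGroup.mk' (frattini G) with hπ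
  set M := Fb.comap π with hM
  have hMn : M.Normal := hFn.comap _
  have q := (Group.isNilpotent_of_finite_tfae (G := M)).out 0 3
  rw [q]; clear q
  intro p hp P
  have hπs : Function.Surjective π := QuotientGroup.mk'_surjective _
  have hπMs : Function.Surjective (π.subgroupComap Fb) :=
    MonoidHom.subgroupComap_surjective_of_surjective _ _ hπs
  let Pbar : Sylow p Fb := P.mapSurjective hπMs
  have hPbn : (Pbar : Subgroup Fb).Normal := inferInstance
  haveI hPbc : (Pbar : Subgroup Fb).Characteristic := Pbar.characteristic_of_normal hPbn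
  have hPbG : ((Pbar : Subgroup Fb).map Fb.subtype).Normal :=
    ConjAct.normal_of_characteristic_of_normal
  set P' : Subgroup G := (P : Subgroup M).map M.subtype with hP'
  have hmapeq : (Pbar : Subgroup Fb).map Fb.subtype = P'.map π := by
    show ((P : Subgroup M).map (π.subgroupComap Fb)).map Fb.subtype = _
    rw [hP', Subgroup.map_map, Subgroup.map_map]
    rfl
  set T : Subgroup G := (P'.map π).comap π with hT
  have hTn : T.Normal := by
    rw [hT, ← hmapeq]; exact hPbG.comap _
  have hTeq : T = frattini G ⊔ P' := by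
    rw [hT, hπ, QuotientGroup.comap_map_mk']
  have hP'M : P' ≤ M := by
    rintro _ ⟨x, -, rfl⟩; exact x.2
  have hP'T : P' ≤ T := by rw [hTeq]; exact le_sup_right
  have hTM : T ≤ M := by
    rw [hT, hM]
    apply Subgroup.comap_mono
    rw [← hmapeq]
    rintro _ ⟨x, -, rfl⟩; exact x.2
  -- a Sylow subgroup of `T`
  have hinj : Function.Injective (Subgroup.inclusion hTM) := Subgroup.inclusion_injective hTM
  have hrange : (P : Subgroup M) ≤ (Subgroup.inclusion hTM).range := by
    intro x hx
    have : (x : G) ∈ T := hP'T ⟨x, hx, rfl⟩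
    exact ⟨⟨x, this⟩, rfl⟩
  let PT : Sylow p T := P.comapOfInjective (Subgroup.inclusion hTM) hinj hrange
  have hPTmap : (PT : Subgroup T).map T.subtype = P' := by
    ext y
    constructor
    · rintro ⟨t, ht, rfl⟩
      have ht' : Subgroup.inclusion hTM t ∈ (P : Subgroup M) := ht
      exact ⟨_, ht', rfl⟩
    · rintro ⟨m, hm, rfl⟩
      have hmT : (m : G) ∈ T := hP'T ⟨m, hm, rfl⟩
      refine ⟨⟨m, hmT⟩, ?_, rfl⟩
      show Subgroup.inclusion hTM ⟨m, hmT⟩ ∈ (P : Subgroup M)
      exact hm
  have frat := Sylow.normalizer_sup_eq_top PT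
  rw [hPTmap, hTeq] at frat
  have h3 : normalizer (P' : Set G) ⊔ frattini G = ⊤ := by
    rw [← frat]
    have h2 : normalizer (P' : Set G) ⊔ P' = normalizer (P' : Set G) :=
      sup_eq_left.mpr le_normalizer
    rw [sup_comm (frattini G) P', ← sup_assoc, h2]
  have hP'n : P'.Normal := normalizer_eq_top_iff.mp (frattini_nongenerating h3)
  exact hP'n.of_map_subtype

/-- The Fitting subgroup commutes with passing to the Frattini quotient: the Fitting subgroup of G modulo its Frattini subgroup is the image of the Fitting subgroup of G. -/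
theorem result {G : Type*} [Group G] [Finite G] :
    Cfsg.fittingSubgroup (G ⧸ frattini G) = (Cfsg.fittingSubgroup G).map (QuotientGroup.mk' (frattini G)) := by
  set π := QuotientGroup.mk' (frattini G) with hπ
  have hπs : Function.Surjective π := QuotientGroup.mk'_surjective _
  apply le_antisymm
  · haveI : (Cfsg.fittingSubgroup (G ⧸ frattini G)).Normal :=
      Cfsg.Agent.Helper7.fittingSubgroup_normal'
    have hnil := isNilpotent_comap_of_isNilpotent (Cfsg.fittingSubgroup (G ⧸ frattini G))
      Cfsg.Agent.Helper7.fittingSubgroup_isNilpotent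
    haveI : ((Cfsg.fittingSubgroup (G ⧸ frattini G)).comap π).Normal :=
      Subgroup.Normal.comap inferInstance _
    have hle := Cfsg.Agent.Helper7.le_fittingSubgroup _ hnil
    calc Cfsg.fittingSubgroup (G ⧸ frattini G)
        = ((Cfsg.fittingSubgroup (G ⧸ frattini G)).comap π).map π :=
          (Subgroup.map_comap_eq_self_of_surjective hπs _).symm
      _ ≤ (Cfsg.fittingSubgroup G).map π := Subgroup.map_mono hle
  · haveI : (Cfsg.fittingSubgroup G).Normal := Cfsg.Agent.Helper7.fittingSubgroup_normal'
    haveI : ((Cfsg.fittingSubgroup G).map π).Normal := Subgroup.Normal.map inferInstance _ hπs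
    apply Cfsg.Agent.Helper7.le_fittingSubgroup
    haveI : Group.IsNilpotent (Cfsg.fittingSubgroup G) :=
      Cfsg.Agent.Helper7.fittingSubgroup_isNilpotent
    exact Group.nilpotent_of_surjective (π.subgroupMap (Cfsg.fittingSubgroup G))
      (MonoidHom.subgroupMap_surjective _ _)

end Cfsg.Agent.S0070
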