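import Cfsg.Agent.Lib.Helper22.PResidual
import Cfsg.Agent.Lib.Helper1.Focal
import Cfsg.Statements.S0075
-- import your own Cfsg.Agent.* helpers here

set_option autoImplicit false
open Cfsg

namespace Cfsg.Agent.S0075

open scoped commutatorElement

/-- For an abelian Sylow p-subgroup T, its intersection with the subgroup generated by the elements of order prime to p is the commutator of T with its normalizer. -/
theorem result {G : Type*} [Group G] [Finite G] {p : ℕ} [Fact p.Prime] (T : Sylow p G) (hT : IsMulCommutative T) : (T : Subgroup G) ⊓ Cfsg.pResidual p G = ⁅(T : Subgroup G), Subgroup.normalizer (T : Set G)⁆ := by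
  have hfoc : (T : Subgroup G).focalSubgroup ≤
      ⁅(T : Subgroup G), Subgroup.normalizer ((T : Subgroup G) : Set G)⁆ := by
    apply Cfsg.Agent.Helper1.focalSubgroup_le_of_forall
    intro x hx u hu
    have hu' : u⁻¹⁻¹ * x * u⁻¹ ∈ T := by rw [inv_inv]; exact hu
    obtain ⟨n, hn, hnx⟩ := T.conj_eq_normalizer_conj_of_mem x u⁻¹ hx hu'
    rw [inv_inv] at hnx
    rw [hnx]
    have : x * (n⁻¹ * x * n)⁻¹ = ⁅x, n⁻¹⁆ := by rw [commutatorElement_def]; group
    rw [this]
    exact Subgroup.commutator_mem_commutator hx (Subgroup.inv_mem _ hn)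
  have hker : Cfsg.pResidual p G ≤ (T : Subgroup G).transferFocal.ker :=
    Cfsg.Agent.Helper22.pResidual_le_ker_of_isPGroup _
      (T.2.to_quotient (T : Subgroup G).focalSubgroupOf)
  apply le_antisymm
  · calc (T : Subgroup G) ⊓ Cfsg.pResidual p G
        ≤ (T : Subgroup G).transferFocal.ker ⊓ (T : Subgroup G) := by
          rw [inf_comm]; exact inf_le_inf_right _ hker
      _ = (T : Subgroup G).focalSubgroup := Subgroup.ker_transferFocal_inf_eq_focalSubgroup T
      _ ≤ _ := hfoc
  · apply le_inf
    · rw [Subgroup.commutator_le]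
      intro t ht n hn
      have hn' : n ∈ Subgroup.normalizer ((T : Subgroup G) : Set G) := hn
      rw [Subgroup.mem_normalizer_iff] at hn'
      have : ⁅t, n⁆ = t * (n * t⁻¹ * n⁻¹) := by rw [commutatorElement_def]; group
      rw [this]
      exact Subgroup.mul_mem _ ht ((hn' t⁻¹).1 (Subgroup.inv_mem _ ht))
    · refine le_trans ?_ (Cfsg.Agent.Helper22.commutator_le_pResidual_of_abelian_sylow T)
      rw [commutator_def]
      exact Subgroup.commutator_mono le_top le_top

end Cfsg.Agent.S0075
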