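import Mathlib
import Cfsg.Statements.S0076

set_option autoImplicit false
open Cfsg

namespace Cfsg.Agent.S0076

open Subgroup MulAction Sylow

theorem result {G : Type*} [Group G] [Finite G] {p : ℕ} [Fact p.Prime] (P : Sylow p G) (X Y : Set G) (hXP : X ⊆ P) (hYP : Y ⊆ P) (hX : ∀ x ∈ P, (fun y => x * y * x⁻¹) '' X = X) (hY : ∀ x ∈ P, (fun y => x * y * x⁻¹) '' Y = Y) (g : G) (hg : (fun y => g * y * g⁻¹) '' X = Y) : ∃ n ∈ Subgroup.normalizer (P : Set G), (fun y => n * y * n⁻¹) '' X = Y := by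
  have key : ∀ (Z : Set G) (a : G), (fun y => a * y * a⁻¹) '' Z = MulAut.conj a '' Z := by
    intro Z a; rfl
  have h1 : (P : Subgroup G) ≤ normalizer Y := by
    intro x hx
    rw [mem_normalizer_iff_conj_image_eq, ← key]
    exact hY x hx
  have h2 : ↑(g • P) ≤ normalizer Y := by
    rintro - ⟨z, hz, rfl⟩
    rw [mem_normalizer_iff_conj_image_eq, ← key]
    change (fun y => (g * z * g⁻¹) * y * (g * z * g⁻¹)⁻¹) '' Y = Y
    rw [← hg, Set.image_image]
    conv_rhs => rw [← hX z hz, Set.image_image]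
    apply Set.image_congr
    intro a _
    group
  obtain ⟨h, hh⟩ := exists_smul_eq (normalizer Y) ((g • P).subtype h2) (P.subtype h1)
  simp_rw [smul_subtype, Subgroup.smul_def, smul_smul] at hh
  refine ⟨h * g, smul_eq_iff_mem_normalizer.mp (subtype_injective hh), ?_⟩
  obtain ⟨h, h3⟩ := h
  rw [mem_normalizer_iff_conj_image_eq, ← key] at h3
  change (fun y => (h * g) * y * (h * g)⁻¹) '' X = Y
  have : (fun y => (h * g) * y * (h * g)⁻¹) '' X = (fun y => h * y * h⁻¹) '' ((fun y => g * y * g⁻¹) '' X) := by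
    rw [Set.image_image]
    apply Set.image_congr
    intro a _
    group
  rw [this, hg, h3]

end Cfsg.Agent.S0076
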