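import Cfsg.Agent.Lib.Helper22.PResidual
import Cfsg.Agent.Lib.Helper22.Burnside
import Cfsg.Agent.Lib.Helper22.CyclicChain
import Cfsg.Agent.S0055
import Cfsg.Statements.S0082
-- import your own Cfsg.Agent.* helpers here

set_option autoImplicit false
open Cfsg

namespace Cfsg.Agent.S0082

open scoped commutatorElement

/-- With a cyclic Sylow p-subgroup, either there is a normal p-complement or the elements of order prime to p generate the whole group. -/
theorem result {G : Type*} [Group G] [Finite G] {p : ℕ} [Fact p.Prime] (P : Sylow p G) (hP : IsCyclic P) : Cfsg.HasNormalPComplement p G ∨ Cfsg.pResidual p G = ⊤ := by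
  have hpp : p.Prime := Fact.out
  have hcomm : IsMulCommutative P := IsCyclic.isMulCommutative
  by_cases hNC : Subgroup.normalizer ((P : Subgroup G) : Set G) ≤
      Subgroup.centralizer ((P : Subgroup G) : Set G)
  · left
    exact Cfsg.Agent.Helper22.hasNormalPComplement_of_normalizer_le_centralizer P hNC
  · right
    obtain ⟨g₀, hg₀N, hg₀C⟩ := SetLike.not_le_iff_exists.1 hNC
    obtain ⟨a, m, hm, ham⟩ :=
      Nat.exists_eq_pow_mul_and_not_dvd (orderOf_pos g₀).ne' p hpp.ne_one
    have hmcop : Nat.Coprime m p := ((Nat.Prime.coprime_iff_not_dvd hpp).mpr hm).symm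
    set g₁ := g₀ ^ (p ^ a) with hg₁
    have hg₁N : g₁ ∈ Subgroup.normalizer ((P : Subgroup G) : Set G) :=
      Subgroup.pow_mem _ hg₀N _
    have hg₁ord : orderOf g₁ ∣ m := by
      apply orderOf_dvd_of_pow_eq_one
      rw [hg₁, ← pow_mul, ← ham]
      exact pow_orderOf_eq_one g₀
    have hg₁C : g₁ ∉ Subgroup.centralizer ((P : Subgroup G) : Set G) := by
      intro hC
      apply hg₀C
      set φ := (P : Subgroup G).normalizerMonoidHom with hφ
      have hker : (⟨g₀, hg₀N⟩ : Subgroup.normalizer ((P : Subgroup G) : Set G)) ^ (p ^ a) ∈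
          φ.ker := by
        rw [hφ, Subgroup.normalizerMonoidHom_ker, Subgroup.mem_subgroupOf]
        exact hC
      have h1 : φ ⟨g₀, hg₀N⟩ ^ (p ^ a) = 1 := by
        rw [← map_pow]; exact hker
      have h2 : orderOf (φ ⟨g₀, hg₀N⟩) ∣ Nat.card φ.range :=
        Subgroup.orderOf_dvd_natCard _ ⟨_, rfl⟩
      obtain ⟨j, -, hj⟩ := (Nat.dvd_prime_pow hpp).1 (orderOf_dvd_of_pow_eq_one h1)
      have hj0 : j = 0 := by
        by_contra hne
        apply Cfsg.Agent.Helper22.not_dvd_card_range_normalizerMonoidHom P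
        rw [hj] at h2
        exact dvd_trans (dvd_pow_self p hne) h2
      rw [hj0, pow_zero, orderOf_eq_one_iff] at hj
      have hk0 : (⟨g₀, hg₀N⟩ : Subgroup.normalizer ((P : Subgroup G) : Set G)) ∈ φ.ker := hj
      rw [hφ, Subgroup.normalizerMonoidHom_ker, Subgroup.mem_subgroupOf] at hk0
      exact hk0
    -- the cyclic p'-group generated by g₁
    set K := Subgroup.zpowers g₁ with hK
    have hKN : K ≤ Subgroup.normalizer ((P : Subgroup G) : Set G) := by
      rw [hK, Subgroup.zpowers_le]; exact hg₁N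
    have hKcop : ∀ k ∈ K, Nat.Coprime (orderOf k) p := by
      intro k hk
      have : orderOf k ∣ orderOf g₁ := orderOf_dvd_of_mem_zpowers hk
      exact Nat.Coprime.coprime_dvd_left (this.trans hg₁ord) hmcop
    have hcop : (Nat.card K).Coprime (Nat.card (P : Subgroup G)) := by
      obtain ⟨n, hn⟩ := P.2.exists_card_eq
      rw [hn, hK, Nat.card_zpowers]
      exact Nat.Coprime.pow_right _ (Nat.Coprime.coprime_dvd_left hg₁ord hmcop)
    obtain ⟨hbot, hsup⟩ := Cfsg.Agent.S0055.result K (P : Subgroup G) hKN hcop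
    have hcomP : ⁅(P : Subgroup G), K⁆ ≤ (P : Subgroup G) := by
      conv_rhs => rw [← hsup]
      exact le_sup_right
    have hR : ⁅(P : Subgroup G), K⁆ ≤ Cfsg.pResidual p G := by
      rw [Subgroup.commutator_le]
      intro t _ k hk
      have hkR : k ∈ Cfsg.pResidual p G :=
        Cfsg.Agent.Helper22.mem_pResidual_of_coprime k (hKcop k hk)
      have hn : (Cfsg.pResidual p G).Normal := Cfsg.Agent.Helper22.pResidual_normal
      have : ⁅t, k⁆ = (t * k * t⁻¹) * k⁻¹ := by rw [commutatorElement_def]
      rw [this]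
      exact Subgroup.mul_mem _ (hn.conj_mem k hkR t) (Subgroup.inv_mem _ hkR)
    rcases Cfsg.Agent.Helper22.le_or_le_of_le_isCyclic_of_isPGroup (P : Subgroup G) P.2
        ((P : Subgroup G) ⊓ Subgroup.centralizer (K : Set G)) ⁅(P : Subgroup G), K⁆
        inf_le_left hcomP with hle | hle
    · -- ⁅P, K⁆ = P
      have hPeq : ⁅(P : Subgroup G), K⁆ = (P : Subgroup G) := by
        conv_rhs => rw [← hsup]
        exact (sup_eq_right.2 hle).symm
      apply Cfsg.Agent.Helper22.pResidual_eq_top_of_sylow_le P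
      rw [← hPeq]
      exact hR
    · -- ⁅P, K⁆ = ⊥, contradiction
      exfalso
      have hbot' : ⁅(P : Subgroup G), K⁆ = ⊥ := by
        rw [eq_bot_iff, ← hbot]
        exact le_inf hle le_rfl
      rw [Subgroup.commutator_eq_bot_iff_le_centralizer] at hbot'
      apply hg₁C
      rw [Subgroup.mem_centralizer_iff]
      intro t ht
      have h3 := hbot' ht
      rw [Subgroup.mem_centralizer_iff] at h3
      exact (h3 g₁ (Subgroup.mem_zpowers g₁)).symm

end Cfsg.Agent.S0082
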