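import Cfsg.Agent.Lib.Helper22.Burnside
import Cfsg.Statements.S0083
-- import your own Cfsg.Agent.* helpers here

set_option autoImplicit false
open Cfsg

namespace Cfsg.Agent.S0083


/-- For an abelian Sylow p-subgroup P, a normal p-complement exists exactly when the normalizer of P is an internal direct product of P with some subgroup. -/
theorem result {G : Type*} [Group G] [Finite G] {p : ℕ} [Fact p.Prime] (P : Sylow p G) (hP : IsMulCommutative P) : Cfsg.HasNormalPComplement p G ↔ ∃ Q : Subgroup G, Q ≤ Subgroup.centralizer (P : Set G) ∧ Q ⊓ (P : Subgroup G) = ⊥ ∧ Q ⊔ (P : Subgroup G) = Subgroup.normalizer (P : Set G) := by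
  rw [Cfsg.Agent.Helper22.hasNormalPComplement_iff P]
  constructor
  · rintro ⟨K, hK, hc⟩
    have hdisj : K ⊓ (P : Subgroup G) = ⊥ := hc.disjoint.eq_bot
    refine ⟨K ⊓ Subgroup.normalizer (P : Set G), ?_, ?_, ?_⟩
    · intro g hg
      rw [Subgroup.mem_centralizer_iff]
      intro t ht
      have h1 : g * t * g⁻¹ * t⁻¹ ∈ K := by
        have : g * t * g⁻¹ * t⁻¹ = g * (t * g⁻¹ * t⁻¹) := by group
        rw [this]
        exact K.mul_mem hg.1 (hK.conj_mem _ (K.inv_mem hg.1) t)
      have h2 : g * t * g⁻¹ * t⁻¹ ∈ (P : Subgroup G) := by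
        have hn : g ∈ Subgroup.normalizer ((P : Subgroup G) : Set G) := hg.2
        rw [Subgroup.mem_normalizer_iff] at hn
        exact (P : Subgroup G).mul_mem ((hn t).1 ht) ((P : Subgroup G).inv_mem ht)
      have h3 : g * t * g⁻¹ * t⁻¹ ∈ K ⊓ (P : Subgroup G) := ⟨h1, h2⟩
      rw [hdisj, Subgroup.mem_bot] at h3
      have : g * t = (g * t * g⁻¹ * t⁻¹) * (t * g) := by group
      rw [this, h3, one_mul]
    · rw [eq_bot_iff, ← hdisj]
      exact inf_le_inf_right _ inf_le_left
    · apply le_antisymm
      · exact sup_le inf_le_right (P : Subgroup G).le_normalizer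
      · intro g hg
        obtain ⟨⟨⟨k, hk⟩, ⟨t, ht⟩⟩, hkt, -⟩ := (Subgroup.isComplement'_def.1 hc).existsUnique g
        simp only at hkt
        have hkN : k ∈ Subgroup.normalizer ((P : Subgroup G) : Set G) := by
          have : k = g * t⁻¹ := by rw [← hkt]; group
          rw [this]
          exact Subgroup.mul_mem _ hg
            ((P : Subgroup G).le_normalizer ((P : Subgroup G).inv_mem ht))
        rw [← hkt]
        exact Subgroup.mul_mem_sup ⟨hk, hkN⟩ ht
  · rintro ⟨Q, hQC, hQP, hQN⟩
    have hNC : Subgroup.normalizer ((P : Subgroup G) : Set G) ≤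
        Subgroup.centralizer ((P : Subgroup G) : Set G) := by
      have hQN' : Q ⊔ (P : Subgroup G) = Subgroup.normalizer ((P : Subgroup G) : Set G) := hQN
      rw [← hQN']
      exact sup_le hQC (P : Subgroup G).le_centralizer
    exact (Cfsg.Agent.Helper22.hasNormalPComplement_iff P).1
      (Cfsg.Agent.Helper22.hasNormalPComplement_of_normalizer_le_centralizer P hNC)

end Cfsg.Agent.S0083
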