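import Cfsg.Agent.Lib.Helper22.Burnside
import Cfsg.Statements.S0084
-- import your own Cfsg.Agent.* helpers here

set_option autoImplicit false
open Cfsg

namespace Cfsg.Agent.S0084


/-- A group whose Sylow 2-subgroups are Klein four-groups and whose order is prime to 3 has a normal 2-complement. -/
theorem result {G : Type*} [Group G] [Finite G] (T : Sylow 2 G) (hT : IsKleinFour T) (h3 : ¬ 3 ∣ Nat.card G) : Cfsg.HasNormalPComplement 2 G := by
  have : IsMulCommutative T := IsKleinFour.isMulCommutative
  apply Cfsg.Agent.Helper22.hasNormalPComplement_of_normalizer_le_centralizer T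
  apply Cfsg.Agent.Helper22.normalizer_le_centralizer_of_abelian_sylow T 2
    (by rw [hT.card_four]; norm_num)
  intro q hq hqG k hk1 hk2 hd
  have hk : k = 1 ∨ k = 2 := by omega
  rcases hk with rfl | rfl
  · norm_num at hd
    exact hq.one_lt.ne' hd
  · norm_num at hd
    have : q = 3 := (Nat.prime_dvd_prime_iff_eq hq (by norm_num)).1 hd
    exact h3 (this ▸ hqG)

end Cfsg.Agent.S0084
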