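import Cfsg.Agent.Lib.Helper22.Burnside
import Cfsg.Statements.S0085
-- import your own Cfsg.Agent.* helpers here

set_option autoImplicit false
open Cfsg

namespace Cfsg.Agent.S0085


/-- A group whose Sylow 2-subgroups are elementary abelian of order 8 and whose order is prime to 3 and to 7 has a normal 2-complement. -/
theorem result {G : Type*} [Group G] [Finite G] (T : Sylow 2 G) (h8 : Nat.card T = 8) (he : ∀ x : T, x * x = 1) (h3 : ¬ 3 ∣ Nat.card G) (h7 : ¬ 7 ∣ Nat.card G) : Cfsg.HasNormalPComplement 2 G := by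
  have : IsMulCommutative T := by
    refine ⟨⟨fun a b => ?_⟩⟩
    have h1 : (a * b) * (a * b) = 1 := he (a * b)
    have ha : a⁻¹ = a := inv_eq_of_mul_eq_one_left (he a)
    have hb : b⁻¹ = b := inv_eq_of_mul_eq_one_left (he b)
    have h2 : a * b = (a * b)⁻¹ := (inv_eq_of_mul_eq_one_left h1).symm
    rw [h2, mul_inv_rev, ha, hb]
  apply Cfsg.Agent.Helper22.hasNormalPComplement_of_normalizer_le_centralizer T
  apply Cfsg.Agent.Helper22.normalizer_le_centralizer_of_abelian_sylow T 3
    (by rw [h8]; norm_num)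
  intro q hq hqG k hk1 hk2 hd
  have hk : k = 1 ∨ k = 2 ∨ k = 3 := by omega
  rcases hk with rfl | rfl | rfl
  · norm_num at hd
    exact hq.one_lt.ne' hd
  · norm_num at hd
    have : q = 3 := (Nat.prime_dvd_prime_iff_eq hq (by norm_num)).1 hd
    exact h3 (this ▸ hqG)
  · norm_num at hd
    have : q = 7 := (Nat.prime_dvd_prime_iff_eq hq (by norm_num)).1 hd
    exact h7 (this ▸ hqG)

end Cfsg.Agent.S0085
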