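import Mathlib
import Cfsg.Statements.S0089
import Cfsg.Agent.S0088

set_option autoImplicit false
open Cfsg

namespace Cfsg.Agent.S0089

open Subgroup

theorem result {G : Type*} [Group G] [Finite G] (h : ∀ p : ℕ, p.Prime → ∀ P : Sylow p G, IsMulCommutative P) : commutator G ⊓ Subgroup.center G = ⊥ := by
  rw [eq_bot_iff]
  rintro x ⟨hxG', hxZ⟩
  rw [Subgroup.mem_bot]
  by_contra hx1
  have hord : orderOf x ≠ 1 := fun h1 => hx1 (orderOf_eq_one_iff.mp h1)
  obtain ⟨p, hp, hpx⟩ := Nat.exists_prime_and_dvd hord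
  haveI : Fact p.Prime := ⟨hp⟩
  set y := x ^ (orderOf x / p) with hy
  have hyord : orderOf y = p := orderOf_pow_orderOf_div (orderOf_pos x).ne' hpx
  have hyG' : y ∈ commutator G := Subgroup.pow_mem _ hxG' _
  have hyZ : y ∈ Subgroup.center G := Subgroup.pow_mem _ hxZ _
  have hpg : IsPGroup p (Subgroup.zpowers y) := by
    apply IsPGroup.of_card (n := 1)
    rw [Nat.card_zpowers, hyord, pow_one]
  obtain ⟨P, hP⟩ := hpg.exists_le_sylow
  have hyP : y ∈ (P : Subgroup G) := hP (Subgroup.mem_zpowers y)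
  have := Cfsg.Agent.S0088.result (P : Subgroup G) (h p hp P) P.card_coprime_index
  have hy1 : y ∈ (P : Subgroup G) ⊓ commutator G ⊓ Subgroup.center G := ⟨⟨hyP, hyG'⟩, hyZ⟩
  rw [this, Subgroup.mem_bot] at hy1
  rw [hy1, orderOf_one] at hyord
  exact hp.one_lt.ne hyord

end Cfsg.Agent.S0089
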