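import Mathlib
import Cfsg.Statements.S0090
import Cfsg.Agent.S0055
import Cfsg.Agent.S0088

set_option autoImplicit false
open Cfsg

namespace Cfsg.Agent.S0090

open Subgroup
open scoped commutatorElement

theorem result {G : Type*} [Group G] [Finite G] (A : Subgroup G) [A.Normal] (hc : IsMulCommutative A) (hHall : Nat.Coprime (Nat.card A) A.index) : ⁅A, (⊤ : Subgroup G)⁆ = commutator G ⊓ A ∧ (commutator G ⊓ A) ⊓ (Subgroup.center G ⊓ A) = ⊥ ∧ (commutator G ⊓ A) ⊔ (Subgroup.center G ⊓ A) = A := by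
  -- (b)
  have hb : (commutator G ⊓ A) ⊓ (Subgroup.center G ⊓ A) = ⊥ := by
    have := Cfsg.Agent.S0088.result A hc hHall
    rw [eq_bot_iff] at this ⊢
    intro x hx
    exact this ⟨⟨hx.1.2, hx.1.1⟩, hx.2.1⟩
  -- a complement
  obtain ⟨K, hK⟩ := Subgroup.exists_right_complement'_of_coprime hHall
  have hKcard : Nat.card K = A.index := by
    have h1 := hK.card_mul_card
    have h2 := A.card_mul_index
    exact Nat.eq_of_mul_eq_mul_left Nat.card_pos (h1.trans h2.symm)
  have hKA : K ≤ normalizer (A : Set G) := by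
    rw [normalizer_eq_top]; exact le_top
  have hcop : (Nat.card K).Coprime (Nat.card A) := by rw [hKcard]; exact hHall.symm
  obtain ⟨h1, h2⟩ := Cfsg.Agent.S0055.result K A hKA hcop
  have hAtop : ⁅A, (⊤ : Subgroup G)⁆ ≤ commutator G ⊓ A := by
    apply le_inf
    · rw [commutator_def]; exact Subgroup.commutator_mono le_top le_rfl
    · exact Subgroup.commutator_le_left A ⊤
  have hAK : ⁅A, K⁆ ≤ ⁅A, (⊤ : Subgroup G)⁆ := Subgroup.commutator_mono le_rfl le_top
  have hfix : A ⊓ centralizer (K : Set G) ≤ Subgroup.center G ⊓ A := by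
    intro x hx
    refine ⟨?_, hx.1⟩
    change x ∈ Subgroup.center G
    rw [Subgroup.mem_center_iff]
    intro g
    obtain ⟨⟨⟨a, ha⟩, ⟨k, hk⟩⟩, hak⟩ := hK.existsUnique g |>.exists
    simp only at hak
    rw [← hak]
    have hxa : a * x = x * a := Subgroup.mul_comm_of_mem_isMulCommutative A ha hx.1
    have hxk : k * x = x * k := (Subgroup.mem_centralizer_iff.mp hx.2 k hk)
    calc a * k * x = a * (k * x) := by group
      _ = a * (x * k) := by rw [hxk]
      _ = (a * x) * k := by group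
      _ = x * a * k := by rw [hxa]
      _ = x * (a * k) := by group
  have hcsup : (commutator G ⊓ A) ⊔ (Subgroup.center G ⊓ A) = A := by
    apply le_antisymm (sup_le inf_le_right inf_le_right)
    calc A = (A ⊓ centralizer (K : Set G)) ⊔ ⁅A, K⁆ := h2.symm
      _ ≤ (Subgroup.center G ⊓ A) ⊔ (commutator G ⊓ A) := sup_le_sup hfix (hAK.trans hAtop)
      _ = _ := sup_comm _ _
  refine ⟨?_, hb, hcsup⟩
  apply le_antisymm hAtop
  intro x hx
  have hxA : x ∈ (Subgroup.center G ⊓ A) ⊔ ⁅A, K⁆ := by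
    have : x ∈ (A ⊓ centralizer (K : Set G)) ⊔ ⁅A, K⁆ := by rw [h2]; exact hx.2
    exact (sup_le_sup_right hfix _) this
  rw [Subgroup.mem_sup_of_normal_left] at hxA
  obtain ⟨z, hz, c, hcK, hzc⟩ := hxA
  have hz1 : z ∈ (commutator G ⊓ A) ⊓ (Subgroup.center G ⊓ A) := by
    have hcA := hAtop (hAK hcK)
    have : z = x * c⁻¹ := by rw [← hzc]; group
    refine ⟨?_, hz⟩
    rw [this]
    exact Subgroup.mul_mem _ hx (Subgroup.inv_mem _ hcA)
  rw [hb, Subgroup.mem_bot] at hz1
  rw [← hzc, hz1, one_mul]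
  exact hAK hcK

end Cfsg.Agent.S0090
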