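import Mathlib
import Cfsg.Statements.S0091
import Cfsg.Agent.Lib.Helper1.Focal

set_option autoImplicit false
open Cfsg

namespace Cfsg.Agent.S0091

open Cfsg.Agent.Helper1 Subgroup
open scoped commutatorElement

theorem result {G : Type*} [Group G] [Finite G] {p : ℕ} [Fact p.Prime] (P : Sylow p G) (hp : p ∣ Nat.card G) (h : ∀ x ∈ P, ∀ y ∈ P, (∃ g : G, g * x * g⁻¹ = y) → ∃ z ∈ P, z * x * z⁻¹ = y) : ¬ (P : Subgroup G) ≤ commutator G := by
  intro hle
  have h1 : commutator G ⊓ (P : Subgroup G) = (P : Subgroup G).focalSubgroup :=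
    Subgroup.commutator_inf_eq_focalSubgroup P
  rw [inf_eq_right.mpr hle] at h1
  have h2 : (P : Subgroup G).focalSubgroup ≤ ⁅(P : Subgroup G), (P : Subgroup G)⁆ := by
    apply focalSubgroup_le_of_forall
    intro x hx u hu
    obtain ⟨z, hz, hzx⟩ := h x hx _ hu ⟨u, rfl⟩
    rw [← hzx]
    have : x * (z * x * z⁻¹)⁻¹ = ⁅x, z⁆ := by rw [commutatorElement_def]; group
    rw [this]
    exact Subgroup.commutator_mem_commutator hx hz
  rw [← h1, ← Subgroup.map_subtype_commutator] at h2
  -- so commutator P = ⊤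
  have h3 : commutator (P : Subgroup G) = ⊤ := by
    rw [eq_top_iff]
    intro x _
    obtain ⟨y, hy, hyx⟩ := h2 x.2
    have : y = x := Subtype.ext hyx
    rw [← this]; exact hy
  have hnil : Group.IsNilpotent (P : Subgroup G) := P.2.isNilpotent
  have hnt : Nontrivial (P : Subgroup G) := by
    exact (Subgroup.nontrivial_iff_ne_bot _).mpr (P.ne_bot_of_dvd_card hp)
  have := Group.IsSolvable.commutator_lt_top_of_nontrivial (P : Subgroup G)
  rw [h3] at this
  exact lt_irrefl _ this

end Cfsg.Agent.S0091
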