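import Cfsg.Agent.Lib.Helper22.ClassTwo
import Cfsg.Statements.S0094
-- import your own Cfsg.Agent.* helpers here

set_option autoImplicit false
open Cfsg

namespace Cfsg.Agent.S0094

open scoped commutatorElement

/-- In a special p-group every central element has order dividing p. -/
theorem result {P : Type*} [Group P] [Finite P] {p : ℕ} [Fact p.Prime] (h : Cfsg.IsSpecial p P) (z : P) (hz : z ∈ Subgroup.center P) : z ^ p = 1 := by
  obtain ⟨hP, hfr, hcm⟩ := h
  have hc : ∀ a b : P, ⁅a, b⁆ ∈ Subgroup.center P := by
    intro a b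
    rw [← hcm]
    exact Subgroup.commutator_mem_commutator (Subgroup.mem_top a) (Subgroup.mem_top b)
  -- the subgroup of central elements of order dividing p
  let K : Subgroup P :=
    { carrier := {w | w ∈ Subgroup.center P ∧ w ^ p = 1}
      one_mem' := ⟨Subgroup.one_mem _, one_pow p⟩
      mul_mem' := by
        rintro a b ⟨ha, ha'⟩ ⟨hb, hb'⟩
        refine ⟨Subgroup.mul_mem _ ha hb, ?_⟩
        have hcomm : Commute a b := (Subgroup.mem_center_iff.1 ha b).symm
        rw [hcomm.mul_pow, ha', hb', one_mul]
      inv_mem' := by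
        rintro a ⟨ha, ha'⟩
        exact ⟨Subgroup.inv_mem _ ha, by rw [inv_pow, ha', inv_one]⟩ }
  have hle : commutator P ≤ K := by
    rw [commutator_eq_closure, Subgroup.closure_le]
    rintro _ ⟨a, b, rfl⟩
    refine ⟨hc a b, ?_⟩
    rw [← Cfsg.Agent.Helper22.commutator_pow_left_of_central b a (hc a b) p]
    have hap : a ^ p ∈ Subgroup.center P := by
      rw [← hfr]
      exact Cfsg.Agent.Helper22.pow_prime_mem_frattini hP a
    rw [commutatorElement_def, ← Subgroup.mem_center_iff.1 hap b]
    group
  have hzK : z ∈ K := hle (by rw [hcm]; exact hz)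
  exact hzK.2

end Cfsg.Agent.S0094
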