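import Mathlib
import Cfsg.Statements.S0095
import Cfsg.Agent.Lib.Helper24.CharAbelian
import Cfsg.Agent.Lib.Helper5.CharCenter
import Cfsg.Agent.Lib.Helper23.Schur

set_option autoImplicit false
open Cfsg

namespace Cfsg.Agent.S0095

open Cfsg.Agent.Helper24
open scoped ComplexConjugate commutatorElement

universe u

section

variable {P : Type u} [Group P] [Fintype P]

/-- An irreducible character whose kernel contains the derived subgroup is linear. -/
theorem charDegree_eq_one_of_commutator_le {χ : P → ℂ} (hχ : IsIrrCharacter P χ)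
    (hker : ∀ x ∈ commutator P, χ x = χ 1) : charDegree χ = 1 := by
  classical
  obtain ⟨ψ, hψ, hχψ⟩ := exists_deflate (commutator P) hχ hker
  haveI : Fintype (P ⧸ commutator P) := Fintype.ofFinite _
  letI : Fintype (IrrCharacter (P ⧸ commutator P)) := irrFintype
  have hcomm : ∀ a b : P ⧸ commutator P, a * b = b * a := by
    intro a b
    have := @mul_comm (Abelianization P) _ a b
    exact this
  have h1 := charDegree_eq_one_of_comm hcomm hψ
  apply charDegree_natCast
  rw [hχψ, Function.comp_apply, QuotientGroup.mk_one, irr_one_eq_charDegree hψ, h1]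

/-- In a group whose centre has prime order and equals the derived subgroup, a nonlinear
irreducible character vanishes off the centre. -/
theorem vanish_off_center {p : ℕ} [Fact p.Prime] (hZ : Nat.card (Subgroup.center P) = p)
    (hcomm : commutator P = Subgroup.center P) {χ : P → ℂ} (hχ : IsIrrCharacter P χ)
    (hnl : charDegree χ ≠ 1) (g : P) (hg : g ∉ Subgroup.center P) : χ g = 0 := by
  have hp : p.Prime := Fact.out
  by_contra hne
  apply hnl
  apply charDegree_eq_one_of_commutator_le hχ
  rw [Subgroup.mem_center_iff] at hg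
  push Not at hg
  obtain ⟨h, hh⟩ := hg
  set z := h * g * h⁻¹ * g⁻¹ with hz
  have hzc : z ∈ commutator P := by
    have : z = ⁅h, g⁆ := by rw [hz, commutatorElement_def]
    rw [this]
    exact Subgroup.commutator_mem_commutator (Subgroup.mem_top _) (Subgroup.mem_top _)
  have hzZ : z ∈ Subgroup.center P := hcomm ▸ hzc
  have hz1 : z ≠ 1 := by
    intro h1
    apply hh
    have : h * g = z * (g * h) := by rw [hz]; group
    rw [this, h1, one_mul]
  -- χ z = χ 1
  have hχz : χ z = χ 1 := by
    have h1 : χ (z * g) = χ g := by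
      have : z * g = h * g * h⁻¹ := by rw [hz]; group
      rw [this]
      exact Cfsg.Agent.Helper23.irr_conj χ hχ g h
    rw [Cfsg.Agent.Helper23.irr_central_mul χ hχ z hzZ g] at h1
    have h2 : χ z / χ 1 = 1 := by
      have := mul_right_cancel₀ hne (h1.trans (one_mul _).symm)
      exact this
    have h3 := Cfsg.Agent.Helper23.irr_one_ne_zero χ hχ
    field_simp at h2
    exact h2
  -- the centre lies in the kernel
  have hχc := isCharacter_of_isIrrCharacter hχ
  have hK : Subgroup.center P ⊓ charKer hχc = Subgroup.center P := by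
    apply Subgroup.eq_of_le_of_card_ge inf_le_left
    have hdvd : Nat.card ↥(Subgroup.center P ⊓ charKer hχc) ∣ p := by
      rw [← hZ]; exact Subgroup.card_dvd_of_le inf_le_left
    rcases (Nat.dvd_prime hp).mp hdvd with h1 | h1
    · exfalso
      have hbot := Subgroup.card_eq_one.mp h1
      have hzK : z ∈ Subgroup.center P ⊓ charKer hχc :=
        Subgroup.mem_inf.mpr ⟨hzZ, (mem_charKer hχc z).mpr hχz⟩
      rw [hbot, Subgroup.mem_bot] at hzK
      exact hz1 hzK
    · rw [h1, hZ]
  intro x hx
  have hxZ : x ∈ Subgroup.center P := hcomm ▸ hx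
  have : x ∈ Subgroup.center P ⊓ charKer hχc := by rw [hK]; exact hxZ
  exact (mem_charKer hχc x).mp (Subgroup.mem_inf.mp this).2

end

/-- The order of an extraspecial p-group is an odd power p^(2n+1) of p with n ≥ 1. -/
theorem result {P : Type*} [Group P] [Finite P] {p : ℕ} [Fact p.Prime] (h : Cfsg.IsExtraspecial p P) : ∃ n : ℕ, 1 ≤ n ∧ Nat.card P = p ^ (2 * n + 1) := by
  classical
  have hp : p.Prime := Fact.out
  haveI : Fintype P := Fintype.ofFinite P
  letI : Fintype (IrrCharacter P) := irrFintype
  obtain ⟨⟨hP, -, hcomm⟩, hZ⟩ := h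
  -- a nonlinear irreducible character
  have hex : ∃ χ : IrrCharacter P, charDegree (χ : P → ℂ) ≠ 1 := by
    by_contra hcon
    push Not at hcon
    have hab := comm_of_forall_charDegree_eq_one (G := P) hcon
    have hbot : commutator P = ⊥ := by
      rw [commutator_def, Subgroup.commutator_eq_bot_iff_le_centralizer]
      intro x _
      rw [Subgroup.mem_centralizer_iff]
      intro y _
      exact hab y x
    rw [hcomm] at hbot
    rw [hbot, Subgroup.card_bot] at hZ
    exact hp.one_lt.ne' hZ.symm
  obtain ⟨χ, hχ⟩ := hex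
  haveI : Fintype (Subgroup.center P) := Fintype.ofFinite _
  have hsq := Cfsg.Agent.Helper5.sq_degree_of_vanish_off_central (Subgroup.center P) le_rfl χ.2
    (fun g hg => vanish_off_center hZ hcomm χ.2 hχ g hg)
  have hmul := Subgroup.card_mul_index (Subgroup.center P)
  rw [hZ, ← hsq] at hmul
  obtain ⟨n, hn⟩ := IsPGroup.iff_card.mp hP
  have hd : charDegree (χ : P → ℂ) ∣ p ^ n := by rw [← hn]; exact charDegree_dvd_card χ.2
  obtain ⟨b, -, hb⟩ := (Nat.dvd_prime_pow hp).mp hd
  refine ⟨b, ?_, ?_⟩
  · by_contra hb0
    have : b = 0 := by omega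
    rw [this, pow_zero] at hb
    exact hχ hb
  · rw [← hmul, hb, ← pow_mul, pow_succ]
    ring

end Cfsg.Agent.S0095
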