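import Cfsg.Agent.Lib.Helper22.ClassTwo
import Cfsg.Statements.S0097
-- import your own Cfsg.Agent.* helpers here

set_option autoImplicit false
open Cfsg

namespace Cfsg.Agent.S0097

open scoped commutatorElement

/-- For odd p and E extraspecial, the subgroup generated by the elements of order dividing p has exponent dividing p and index at most p. -/
theorem result {E : Type*} [Group E] [Finite E] {p : ℕ} [Fact p.Prime] (hp : p ≠ 2) (h : Cfsg.IsExtraspecial p E) : (Subgroup.closure {x : E | x ^ p = 1}).index ≤ p ∧ ∀ g ∈ Subgroup.closure {x : E | x ^ p = 1}, g ^ p = 1 := by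
  obtain ⟨⟨hP, hfr, hcm⟩, hcard⟩ := h
  have hpp : p.Prime := Fact.out
  have hc : ∀ a b : E, ⁅a, b⁆ ∈ Subgroup.center E := by
    intro a b
    rw [← hcm]
    exact Subgroup.commutator_mem_commutator (Subgroup.mem_top a) (Subgroup.mem_top b)
  have hzp : ∀ c ∈ Subgroup.center E, c ^ p = 1 := by
    intro c hcc
    have h1 : (⟨c, hcc⟩ : Subgroup.center E) ^ Nat.card (Subgroup.center E) = 1 := pow_card_eq_one'
    rw [hcard] at h1
    have := congrArg Subtype.val h1
    simpa using this
  have hmul : ∀ x y : E, (x * y) ^ p = x ^ p * y ^ p := by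
    intro x y
    have hc' : ∀ g : E, g * ⁅y, x⁆ = ⁅y, x⁆ * g := fun g => Subgroup.mem_center_iff.1 (hc y x) g
    have h := Cfsg.Agent.Helper22.mul_pow_eq_of_central x y ⁅y, x⁆ hc'
      (Cfsg.Agent.Helper22.mul_eq_commutator_mul x y) p
    have hdvd : p ∣ p.choose 2 := by
      apply hpp.dvd_choose_self (by norm_num)
      have := hpp.two_le
      omega
    obtain ⟨k, hk⟩ := hdvd
    rw [h, hk, pow_mul, hzp _ (hc y x), one_pow, one_mul]
  let φ : E →* E :=
    { toFun := fun x => x ^ p
      map_one' := one_pow p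
      map_mul' := hmul }
  have hφ : ∀ x, φ x = x ^ p := fun _ => rfl
  have hrange : φ.range ≤ Subgroup.center E := by
    rintro _ ⟨x, rfl⟩
    rw [hφ, ← hfr]
    exact Cfsg.Agent.Helper22.pow_prime_mem_frattini hP x
  have hker : φ.ker ≤ Subgroup.closure {x : E | x ^ p = 1} := by
    intro x hx
    apply Subgroup.subset_closure
    rw [MonoidHom.mem_ker, hφ] at hx
    exact hx
  refine ⟨?_, fun g hg => Cfsg.Agent.Helper22.pow_prime_eq_one_of_mem_closure hp hc g hg⟩
  have h1 : (Subgroup.closure {x : E | x ^ p = 1}).index ∣ φ.ker.index :=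
    Subgroup.index_dvd_of_le hker
  have h2 : φ.ker.index = Nat.card φ.range := Subgroup.index_ker φ
  have h3 : Nat.card φ.range ≤ p := by
    rw [← hcard]
    exact Subgroup.card_le_of_le hrange
  have h4 : φ.ker.index ≠ 0 := Subgroup.index_ne_zero_of_finite
  exact le_trans (Nat.le_of_dvd (Nat.pos_of_ne_zero h4) h1) (h2 ▸ h3)

end Cfsg.Agent.S0097
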