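import Mathlib
import Cfsg.Statements.S0101
import Cfsg.Agent.Lib.Helper23.PGroup

set_option autoImplicit false
open Cfsg

namespace Cfsg.Agent.S0101

/-- Transfer argument: a central `p`-element of a perfect finite group lying in a Sylow
`p`-subgroup `P` lies in the derived subgroup of `P`. -/
theorem central_mem_commutator_sylow {H : Type*} [Group H] [Finite H] (hH : commutator H = ⊤)
    {p : ℕ} [Fact p.Prime] (P : Sylow p H) (z : H) (hzc : z ∈ Subgroup.center H)
    (hzP : z ∈ (P : Subgroup H)) : (⟨z, hzP⟩ : (P : Subgroup H)) ∈ commutator (P : Subgroup H) := by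
  classical
  let ϕ : (P : Subgroup H) →* Abelianization (P : Subgroup H) := Abelianization.of
  have key : ∀ (k : ℕ) (g₀ : H), g₀⁻¹ * z ^ k * g₀ ∈ (P : Subgroup H) → g₀⁻¹ * z ^ k * g₀ = z ^ k := by
    intro k g₀ _
    have hzk : z ^ k ∈ Subgroup.center H := Subgroup.pow_mem _ hzc k
    have := Subgroup.mem_center_iff.1 hzk g₀
    rw [mul_assoc, ← this, inv_mul_cancel_left]
  have h1 := MonoidHom.transfer_eq_pow ϕ z key
  have h2 : MonoidHom.transfer ϕ z = 1 := by
    have hker : commutator H ≤ (MonoidHom.transfer ϕ).ker := Abelianization.commutator_subset_ker _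
    rw [hH] at hker
    exact hker (Subgroup.mem_top z)
  rw [h2] at h1
  have h3 : (⟨z ^ (P : Subgroup H).index, MonoidHom.transfer_eq_pow_aux z key⟩ : (P : Subgroup H)) ∈
      commutator (P : Subgroup H) := by
    rw [← Abelianization.ker_of, MonoidHom.mem_ker]
    exact h1.symm
  set zP : (P : Subgroup H) := ⟨z, hzP⟩ with hzPdef
  have h4 : zP ^ (P : Subgroup H).index ∈ commutator (P : Subgroup H) := by
    have : zP ^ (P : Subgroup H).index = ⟨z ^ (P : Subgroup H).index, MonoidHom.transfer_eq_pow_aux z key⟩ := by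
      ext; simp [hzPdef]
    rw [this]; exact h3
  obtain ⟨j, hj⟩ := (IsPGroup.iff_orderOf.1 P.2) zP
  have hcop : Nat.Coprime (P : Subgroup H).index (orderOf zP) := by
    rw [hj]
    exact Nat.Coprime.pow_right j ((Nat.Prime.coprime_iff_not_dvd Fact.out).2 P.not_dvd_index).symm
  obtain ⟨u, hu⟩ := exists_pow_eq_self_of_coprime hcop
  rw [← hu]
  exact Subgroup.pow_mem _ h4 u

/-- In a perfect central extension, the kernel meets each Sylow p-subgroup P inside the Frattini subgroup of P. -/
theorem result {H : Type*} {G : Type*} [Group H] [Group G] [Finite H] (σ : H →* G) (hσ : Function.Surjective σ) (hc : σ.ker ≤ Subgroup.center H) (hH : commutator H = ⊤) {p : ℕ} [Fact p.Prime] (P : Sylow p H) : σ.ker ⊓ (P : Subgroup H) ≤ (frattini P).map (P : Subgroup H).subtype := by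
  rintro z ⟨hzk, hzP⟩
  have hzc : z ∈ Subgroup.center H := hc hzk
  have h1 := central_mem_commutator_sylow hH P z hzc hzP
  have h2 := Cfsg.Agent.Helper23.commutator_le_frattini_pgroup p P.2 h1
  exact Subgroup.mem_map.2 ⟨⟨z, hzP⟩, h2, rfl⟩

end Cfsg.Agent.S0101
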