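import Mathlib
import Cfsg.Statements.S0102
import Cfsg.Agent.S0101

set_option autoImplicit false
open Cfsg

namespace Cfsg.Agent.S0102

/-- A finite perfect group with cyclic Sylow p-subgroups has no perfect central extension whose kernel has order divisible by p. -/
theorem result {G : Type*} {H : Type*} [Group G] [Group H] [Finite G] [Finite H] (hG : commutator G = ⊤) {p : ℕ} [Fact p.Prime] (hcyc : ∀ P : Sylow p G, IsCyclic P) (σ : H →* G) (hσ : Function.Surjective σ) (hz : σ.ker ≤ Subgroup.center H) (hH : commutator H = ⊤) : ¬ p ∣ Nat.card σ.ker := by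
  classical
  -- claim: every Sylow p-subgroup of H meets the kernel trivially
  have claim : ∀ Q : Sylow p H, ∀ z : H, z ∈ σ.ker → z ∈ (Q : Subgroup H) → z = 1 := by
    intro Q z hzk hzQ
    -- the image of Q is a Sylow p-subgroup of G, hence cyclic
    have hcycQ : IsCyclic (Q.mapSurjective hσ) := hcyc (Q.mapSurjective hσ)
    -- f : Q →* image
    let f : (Q : Subgroup H) →* ((Q.mapSurjective hσ : Sylow p G) : Subgroup G) :=
      (σ.comp (Q : Subgroup H).subtype).codRestrict
        ((Q.mapSurjective hσ : Sylow p G) : Subgroup G) (by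
          intro q
          rw [Sylow.coe_mapSurjective]
          exact Subgroup.mem_map.2 ⟨q, q.2, rfl⟩)
    have hfker : f.ker ≤ Subgroup.center (Q : Subgroup H) := by
      intro q hq
      rw [MonoidHom.mem_ker] at hq
      have hq' : σ q = 1 := congrArg Subtype.val hq
      have hqc : (q : H) ∈ Subgroup.center H := hz (MonoidHom.mem_ker.2 hq')
      rw [Subgroup.mem_center_iff]
      intro b
      ext
      simp only [Subgroup.coe_mul]
      exact Subgroup.mem_center_iff.1 hqc b
    have hcomm : IsMulCommutative (Q : Subgroup H) :=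
      f.isMulCommutative_of_isCyclic_of_ker_le_center hfker
    have h1 := Cfsg.Agent.S0101.central_mem_commutator_sylow hH Q z (hz hzk) hzQ
    have hbot : commutator (Q : Subgroup H) = ⊥ := by
      rw [eq_bot_iff]
      have := Subgroup.Normal.quotient_commutative_iff_commutator_le
        (N := (⊥ : Subgroup (Q : Subgroup H)))
      rw [← this]
      refine ⟨⟨fun a b => ?_⟩⟩
      obtain ⟨a, rfl⟩ := QuotientGroup.mk_surjective a
      obtain ⟨b, rfl⟩ := QuotientGroup.mk_surjective b
      rw [← QuotientGroup.mk_mul, ← QuotientGroup.mk_mul, mul_comm' a b]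
    rw [hbot, Subgroup.mem_bot] at h1
    exact congrArg Subtype.val h1
  intro hdvd
  obtain ⟨z, hz1⟩ := exists_prime_orderOf_dvd_card' p hdvd
  -- ⟨z⟩ is a p-subgroup of H
  have hzord : orderOf (z : H) = p := by rw [Subgroup.orderOf_coe]; exact hz1
  have hpg : IsPGroup p (Subgroup.zpowers (z : H)) := by
    apply IsPGroup.of_card (n := 1)
    rw [Nat.card_zpowers, hzord, pow_one]
  obtain ⟨Q, hQ⟩ := hpg.exists_le_sylow
  have hzQ : (z : H) ∈ (Q : Subgroup H) := hQ (Subgroup.mem_zpowers _)
  have := claim Q z z.2 hzQ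
  rw [this, orderOf_one] at hzord
  exact (Fact.out : p.Prime).one_lt.ne hzord

end Cfsg.Agent.S0102
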