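import Mathlib
import Cfsg.Statements.S0103

set_option autoImplicit false
open Cfsg

namespace Cfsg.Agent.S0103

/-- If a Sylow p-subgroup P intersects every distinct conjugate trivially, then its normalizer controls fusion in P. -/
theorem result {G : Type*} [Group G] [Finite G] {p : ℕ} [Fact p.Prime] (P : Sylow p G) (hTI : ∀ g : G, (P : Subgroup G).map (MulAut.conj g).toMonoidHom ≠ (P : Subgroup G) → (P : Subgroup G) ⊓ (P : Subgroup G).map (MulAut.conj g).toMonoidHom = ⊥) (x y : G) (hx : x ∈ P) (hy : y ∈ P) (hc : ∃ g : G, g * x * g⁻¹ = y) : ∃ n ∈ Subgroup.normalizer (P : Set G), n * x * n⁻¹ = y := by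
  obtain ⟨g, hg⟩ := hc
  by_cases hgP : (P : Subgroup G).map (MulAut.conj g).toMonoidHom = (P : Subgroup G)
  · refine ⟨g, ?_, hg⟩
    change g ∈ Subgroup.normalizer ((P : Subgroup G) : Set G)
    rw [Subgroup.mem_normalizer_iff]
    intro h
    constructor
    · intro hh
      have : g * h * g⁻¹ ∈ (P : Subgroup G).map (MulAut.conj g).toMonoidHom :=
        Subgroup.mem_map.2 ⟨h, hh, by simp⟩
      rwa [hgP] at this
    · intro hh
      rw [← hgP] at hh
      obtain ⟨k, hk, hk2⟩ := Subgroup.mem_map.1 hh
      have : k = h := by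
        have h3 : g * k * g⁻¹ = g * h * g⁻¹ := by simpa using hk2
        have := mul_left_cancel (mul_right_cancel h3)
        exact this
      rw [← this]; exact hk
  · have hbot := hTI g hgP
    have hy1 : y ∈ (P : Subgroup G) ⊓ (P : Subgroup G).map (MulAut.conj g).toMonoidHom := by
      refine ⟨hy, ?_⟩
      exact Subgroup.mem_map.2 ⟨x, hx, by simpa using hg⟩
    rw [hbot, Subgroup.mem_bot] at hy1
    have hx1 : x = 1 := by
      rw [hy1] at hg
      have : g * x = g := by
        have := congrArg (· * g) hg
        simpa using this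
      simpa using this
    refine ⟨1, Subgroup.one_mem _, ?_⟩
    rw [hx1, hy1]; simp

end Cfsg.Agent.S0103
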