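import Mathlib
import Cfsg.Statements.S0104

set_option autoImplicit false
open Cfsg

namespace Cfsg.Agent.S0104

theorem mem_map_conj {G : Type*} [Group G] (H : Subgroup G) (g x : G) :
    x ∈ H.map (MulAut.conj g).toMonoidHom ↔ g⁻¹ * x * g ∈ H := by
  rw [Subgroup.mem_map]
  constructor
  · rintro ⟨y, hy, rfl⟩
    simpa [mul_assoc] using hy
  · intro h
    exact ⟨g⁻¹ * x * g, h, by simp [mul_assoc]⟩

/-- In a finite group, if `g Z g⁻¹ ≤ Z`-type equality: membership in the normalizer from
conjugate equality. -/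
theorem mem_normalizer_of_map_conj_eq {G : Type*} [Group G] (Z : Subgroup G) (g : G)
    (h : Z.map (MulAut.conj g).toMonoidHom = Z) : g ∈ Subgroup.normalizer (Z : Set G) := by
  rw [Subgroup.mem_normalizer_iff]
  intro x
  constructor
  · intro hx
    rw [← h, mem_map_conj]
    have : g⁻¹ * (g * x * g⁻¹) * g = x := by group
    rw [this]; exact hx
  · intro hx
    rw [← h, mem_map_conj] at hx
    have : g⁻¹ * (g * x * g⁻¹) * g = x := by group
    rw [this] at hx; exact hx

theorem map_conj_eq_of_mem_normalizer {G : Type*} [Group G] (Z : Subgroup G) (g : G)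
    (h : g ∈ Subgroup.normalizer (Z : Set G)) : Z.map (MulAut.conj g).toMonoidHom = Z := by
  ext x
  rw [mem_map_conj]
  have hg' : g⁻¹ ∈ Subgroup.normalizer (Z : Set G) := inv_mem h
  rw [Subgroup.mem_normalizer_iff] at hg'
  rw [hg' x, inv_inv]

/-- A subgroup Z of a Sylow p-subgroup P that is normalized by N_G(P) is weakly closed in P exactly when it is normal in every Sylow p-subgroup containing it. -/
theorem result {G : Type*} [Group G] [Finite G] {p : ℕ} [Fact p.Prime] (P : Sylow p G) (Z : Subgroup G) (hZP : Z ≤ (P : Subgroup G)) (hZN : Subgroup.normalizer (P : Set G) ≤ Subgroup.normalizer (Z : Set G)) : Cfsg.IsWeaklyClosed Z P ↔ ∀ R : Sylow p G, Z ≤ (R : Subgroup G) → (R : Subgroup G) ≤ Subgroup.normalizer (Z : Set G) := by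
  constructor
  · rintro ⟨_, hwc⟩ R hZR
    obtain ⟨g, hg⟩ := MulAction.exists_smul_eq G P R
    -- R = g P g⁻¹
    have hR : (R : Subgroup G) = (P : Subgroup G).map (MulAut.conj g).toMonoidHom := by
      rw [← hg]; rfl
    -- g⁻¹ Z g ≤ P
    have h1 : Z.map (MulAut.conj g⁻¹).toMonoidHom ≤ (P : Subgroup G) := by
      intro x hx
      rw [mem_map_conj, inv_inv] at hx
      have := hZR hx
      rw [hR, mem_map_conj] at this
      have e : g⁻¹ * (g * x * g⁻¹) * g = x := by group
      rwa [e] at this
    have h2 := hwc g⁻¹ h1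
    have hgZ : g⁻¹ ∈ Subgroup.normalizer (Z : Set G) := mem_normalizer_of_map_conj_eq Z g⁻¹ h2
    have hgZ' : g ∈ Subgroup.normalizer (Z : Set G) := by simpa using inv_mem hgZ
    intro r hr
    rw [hR, mem_map_conj] at hr
    have hx : g⁻¹ * r * g ∈ Subgroup.normalizer (Z : Set G) :=
      hZN (Subgroup.le_normalizer hr)
    have : r = g * (g⁻¹ * r * g) * g⁻¹ := by group
    rw [this]
    exact mul_mem (mul_mem hgZ' hx) (inv_mem hgZ')
  · intro h
    refine ⟨hZP, ?_⟩
    intro g hg
    -- R = g⁻¹ P g contains Z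
    set R : Sylow p G := g⁻¹ • P with hRdef
    have hR : (R : Subgroup G) = (P : Subgroup G).map (MulAut.conj g⁻¹).toMonoidHom := rfl
    have hZR : Z ≤ (R : Subgroup G) := by
      intro z hz
      rw [hR, mem_map_conj, inv_inv]
      apply hg
      rw [mem_map_conj]
      have e : g⁻¹ * (g * z * g⁻¹) * g = z := by group
      rwa [e]
    have hPN : (P : Subgroup G) ≤ Subgroup.normalizer (Z : Set G) := h P hZP
    have hRN : (R : Subgroup G) ≤ Subgroup.normalizer (Z : Set G) := h R hZR
    -- conjugate in the normalizer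
    obtain ⟨n, hn⟩ := MulAction.exists_smul_eq (Subgroup.normalizer (Z : Set G))
      (R.subtype hRN) (P.subtype hPN)
    rw [Sylow.smul_subtype] at hn
    have hn' : (n : G) • R = P := by
      have := congrArg (fun S : Sylow p (Subgroup.normalizer (Z : Set G)) =>
        (S : Subgroup (Subgroup.normalizer (Z : Set G))).map (Subgroup.normalizer (Z : Set G)).subtype) hn
      simp only [Sylow.coe_subtype, Subgroup.subgroupOf_map_subtype] at this
      apply Sylow.ext
      have e1 : ((n • R : Sylow p G) : Subgroup G) ⊓ Subgroup.normalizer (Z : Set G) = ((n • R : Sylow p G) : Subgroup G) :=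
        inf_eq_left.2 (Sylow.smul_le hRN n)
      have e2 : (P : Subgroup G) ⊓ Subgroup.normalizer (Z : Set G) = (P : Subgroup G) := inf_eq_left.2 hPN
      rw [e1, e2] at this
      exact this
    rw [hRdef, ← mul_smul] at hn'
    have hng : (n : G) * g⁻¹ ∈ Subgroup.normalizer ((P : Subgroup G) : Set G) :=
      Sylow.smul_eq_iff_mem_normalizer.1 hn'
    have hng' : (n : G) * g⁻¹ ∈ Subgroup.normalizer (Z : Set G) := hZN hng
    have hg' : g ∈ Subgroup.normalizer (Z : Set G) := by
      have h3 : ((n : G) * g⁻¹)⁻¹ * (n : G) ∈ Subgroup.normalizer (Z : Set G) :=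
        mul_mem (inv_mem hng') n.2
      have e : ((n : G) * g⁻¹)⁻¹ * (n : G) = g := by group
      rwa [e] at h3
    exact map_conj_eq_of_mem_normalizer Z g hg'

end Cfsg.Agent.S0104
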