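import Mathlib
import Cfsg.Statements.S0107
import Cfsg.Agent.Lib.Helper16.CyclicMaxTransfer

set_option autoImplicit false
open Cfsg

namespace Cfsg.Agent.S0107

open Cfsg.Agent.Helper16 in
/-- A finite group with no nontrivial 2-group quotient and dihedral Sylow 2-subgroups of order at least 8 has a single class of involutions. -/
theorem result {G : Type*} [Group G] [Finite G] (T : Sylow 2 G) (n : ℕ) (hn : 2 ≤ n) (hT : Nonempty ((T : Subgroup G) ≃* DihedralGroup (2 ^ n))) (hO : Cfsg.pResidual 2 G = ⊤) (x y : G) (hx : orderOf x = 2) (hy : orderOf y = 2) : ∃ g : G, g * x * g⁻¹ = y := by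
  obtain ⟨e⟩ := hT
  have hcard : Nat.card (T : Subgroup G) = 2 ^ (n + 1) := by
    rw [Nat.card_congr e.toEquiv, DihedralGroup.nat_card, pow_succ, mul_comm]
  set a : G := ((e.symm (DihedralGroup.r 1) : (T : Subgroup G)) : G) with ha
  have haT : a ∈ (T : Subgroup G) := (e.symm (DihedralGroup.r 1)).2
  have hao : orderOf a = 2 ^ n := by
    rw [ha, Subgroup.orderOf_coe, MulEquiv.orderOf_eq, DihedralGroup.orderOf_r_one]
  have hno := index_ne_two_of_pResidual_eq_top hO
  obtain ⟨g₁, hg₁⟩ := involution_conj_of_cyclic_index_two T (by omega) haT hao hcard hno x hx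
  obtain ⟨g₂, hg₂⟩ := involution_conj_of_cyclic_index_two T (by omega) haT hao hcard hno y hy
  refine ⟨g₂⁻¹ * g₁, ?_⟩
  have : y = g₂⁻¹ * (a ^ 2 ^ (n - 1)) * g₂ := by rw [← hg₂]; group
  rw [this, ← hg₁]
  group

end Cfsg.Agent.S0107
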