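import Mathlib
import Cfsg.Statements.S0109
import Cfsg.Agent.Lib.Helper1.QuadraticSolvable
import Cfsg.Agent.Lib.Helper1.ThompsonNPCFinal
import Cfsg.Agent.Lib.Helper16.Solvable2
import Cfsg.Agent.Lib.Helper16.SylowNormal
import Cfsg.Agent.S0600
import Cfsg.Agent.S0601

set_option autoImplicit false
open Cfsg

namespace Cfsg.Agent.S0109

open Cfsg.Agent.Helper1 Cfsg.Agent.Helper1.TNPC
open scoped commutatorElement

/-- The Thompson factorization Theorem for solvable groups states that, with p odd (and abelian Sylow 2-subgroups when p = 3) and no nontrivial normal subgroup of order prime to p, every element of G is a product of an element normalizing J(P) and an element centralizing the elements of order dividing p in the centre of P. -/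
theorem result {G : Type*} [Group G] [Finite G] {p : ℕ} [Fact p.Prime] (hp : p ≠ 2) (hs : Group.IsSolvable G) (h3 : p = 3 → ∀ T : Sylow 2 G, IsMulCommutative T) (hF : ∀ N : Subgroup G, N.Normal → Nat.Coprime (Nat.card N) p → N = ⊥) (P : Sylow p G) (g : G) : ∃ a ∈ Subgroup.normalizer (Cfsg.thompsonSubgroupOf p (P : Subgroup G) : Set G), ∃ c ∈ Subgroup.centralizer {x : G | x ∈ (P : Subgroup G) ∧ (∀ y ∈ (P : Subgroup G), x * y = y * x) ∧ x ^ p = 1}, g = a * c := by
  have hK : pPrimeCore p G = ⊥ := by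
    unfold pPrimeCore
    rw [sSup_eq_bot]
    rintro N ⟨hN1, hN2⟩
    exact hF N hN1 hN2
  have hcent := Cfsg.Agent.Helper16.centralizer_pCore_le_of_isSolvable p hs hK
  obtain ⟨hVn, hVe, -⟩ := Cfsg.Agent.S0601.result (p := p) hcent
  set V : Subgroup G := ⨆ S : Sylow p G, Cfsg.omegaOne p
    ((S : Subgroup G) ⊓ Subgroup.centralizer ((S : Subgroup G) : Set G)) with hV
  have hle : ∀ S : Sylow p G, Cfsg.omegaOne p
      ((S : Subgroup G) ⊓ Subgroup.centralizer ((S : Subgroup G) : Set G)) ≤
      V ⊓ Subgroup.centralizer ((S : Subgroup G) : Set G) := by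
    intro S
    refine le_inf (le_iSup (fun S : Sylow p G => Cfsg.omegaOne p
      ((S : Subgroup G) ⊓ Subgroup.centralizer ((S : Subgroup G) : Set G))) S) ?_
    unfold Cfsg.omegaOne
    rw [Subgroup.closure_le]
    intro x hx
    exact (Subgroup.mem_inf.mp hx.1).2
  have hgen : V = ⨆ S : Sylow p G, V ⊓ Subgroup.centralizer ((S : Subgroup G) : Set G) := by
    apply le_antisymm
    · apply iSup_le
      intro S
      exact (hle S).trans (le_iSup (fun S : Sylow p G =>
        V ⊓ Subgroup.centralizer ((S : Subgroup G) : Set G)) S)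
    · exact iSup_le fun S => inf_le_left
  have hO := Cfsg.Agent.S0600.result V hVe hgen
  set C := Subgroup.centralizer (V : Set G) with hC
  have hCn : C.Normal := inferInstance
  have hAS : p = 3 → AS2 G := fun h => AS2.of_sylow (h3 h)
  -- `J(P) ≤ C`
  have hJC : Cfsg.thompsonSubgroupOf p (P : Subgroup G) ≤ C := by
    apply Cfsg.Agent.Helper4.ZJ.thompsonSubgroupOf_le
    intro A hA
    by_contra hAC
    have hAmax := mem_max_of_mem_famE P hA
    have hbest : Cfsg.IsBestOffenderOn p V A := Cfsg.Agent.S0606.result V hVe A hAmax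
    have hAV : A ≤ Subgroup.normalizer (V : Set G) := by
      rw [Subgroup.normalizer_eq_top_iff.mpr hVn]; exact le_top
    obtain ⟨-, -, hb3⟩ := Cfsg.Agent.S0599.result V A hVe hAV hbest V le_rfl
    have hVA : ⁅V, A⁆ ≠ ⊥ := by
      intro h
      rw [Subgroup.commutator_comm, Subgroup.commutator_eq_bot_iff_le_centralizer] at h
      exact hAC h
    apply hb3 hVA
    rw [Subgroup.commutator_comm, Subgroup.commutator_eq_bot_iff_le_centralizer]
    intro a ha
    apply quadratic_mem_centralizer hp hs hAS V hVe hO a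
    rw [eq_bot_iff]
    have hz : Subgroup.zpowers a ≤ A ⊓ Subgroup.centralizer ((⁅V, A⁆ : Subgroup G) : Set G) :=
      Subgroup.zpowers_le.mpr ha
    have h1 : ⁅⁅V, Subgroup.zpowers a⁆, Subgroup.zpowers a⁆ ≤
        ⁅⁅V, A⁆, A ⊓ Subgroup.centralizer ((⁅V, A⁆ : Subgroup G) : Set G)⁆ :=
      Subgroup.commutator_mono (Subgroup.commutator_mono le_rfl (hz.trans inf_le_left)) hz
    refine h1.trans ?_
    rw [le_bot_iff, Subgroup.commutator_comm, Subgroup.commutator_eq_bot_iff_le_centralizer]
    exact inf_le_right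
  -- Frattini
  have hfr := Cfsg.Agent.Helper16.normalizer_inf_sup_eq_top P C
  have hg : g ∈ ((Subgroup.normalizer ((((P : Subgroup G) ⊓ C : Subgroup G)) : Set G) ⊔ C :
      Subgroup G) : Set G) := by
    rw [hfr]; exact Set.mem_univ g
  rw [Subgroup.mul_normal] at hg
  obtain ⟨n, hn, c, hc, rfl⟩ := Set.mem_mul.mp hg
  refine ⟨n, ?_, c, ?_, rfl⟩
  · have hJeq := jOf_eq_of_le (p := p) (inf_le_left : (P : Subgroup G) ⊓ C ≤ P)
      (le_inf (jOf_le p _) hJC)
    rw [← hJeq]
    exact normalizer_le_jOf p _ hn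
  · have hsub : {x : G | x ∈ (P : Subgroup G) ∧ (∀ y ∈ (P : Subgroup G), x * y = y * x) ∧
        x ^ p = 1} ⊆ (V : Set G) := by
      rintro x ⟨hx1, hx2, hx3⟩
      apply (hle P).trans inf_le_left
      apply Subgroup.subset_closure
      refine ⟨Subgroup.mem_inf.mpr ⟨hx1, ?_⟩, hx3⟩
      rw [Subgroup.mem_centralizer_iff]
      intro y hy
      exact (hx2 y hy).symm
    exact Subgroup.centralizer_le hsub hc

end Cfsg.Agent.S0109
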