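import Mathlib
import Cfsg.Statements.S0110
import Cfsg.Agent.Lib.Helper24.CharAbelian

set_option autoImplicit false
open Cfsg
open scoped commutatorElement
open scoped IsMulCommutative

namespace Cfsg.Agent.S0110

/-- An injective homomorphism from a group of prime order to the units of the complex numbers. -/
theorem exists_injective_hom_of_card_prime {T : Type*} [CommGroup T] {p : ℕ} [hp : Fact p.Prime]
    (hT : Nat.card T = p) : ∃ j : T →* ℂˣ, Function.Injective j := by
  haveI : Finite T := Nat.finite_of_card_ne_zero (by rw [hT]; exact hp.out.ne_zero)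
  have hne : NeZero (Monoid.exponent T) := ⟨Monoid.exponent_ne_zero_of_finite⟩
  have hnt : Nontrivial T := by
    rw [← Finite.one_lt_card_iff_nontrivial, hT]; exact hp.out.one_lt
  obtain ⟨a, ha⟩ := exists_ne (1 : T)
  obtain ⟨φ, hφ⟩ := CommGroup.exists_apply_ne_one_of_hasEnoughRootsOfUnity T ℂ ha
  refine ⟨φ, ?_⟩
  rw [← MonoidHom.ker_eq_bot_iff]
  haveI : Fact (Nat.card T).Prime := ⟨by rw [hT]; exact hp.out⟩
  rcases Subgroup.eq_bot_or_eq_top_of_prime_card (φ.ker) with h | h
  · exact h
  · exfalso
    apply hφ
    have : a ∈ φ.ker := by rw [h]; exact Subgroup.mem_top a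
    exact this

/-- There are at most `|E : E'|` homomorphisms from `E` to a commutative group of prime order. -/
theorem card_hom_le {E : Type*} [Group E] [Finite E] {T : Type*} [CommGroup T] {p : ℕ}
    [hp : Fact p.Prime] (hT : Nat.card T = p) :
    Nat.card (E →* T) ≤ (commutator E).index := by
  obtain ⟨j, hj⟩ := exists_injective_hom_of_card_prime hT
  rw [← Cfsg.Agent.Helper24.card_monoidHom_units]
  have hfin : Finite (E →* ℂˣ) := by
    apply Nat.finite_of_card_ne_zero
    rw [Cfsg.Agent.Helper24.card_monoidHom_units]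
    exact Subgroup.index_ne_zero_of_finite
  apply Nat.card_le_card_of_injective (fun f : E →* T => j.comp f)
  intro f₁ f₂ h
  ext x
  exact hj (DFunLike.congr_fun h x)

variable {G : Type*} [Group G]

/-- The commutator map `e ↦ [g, e]` from `E` into its centre. -/
def commHom (E : Subgroup G)
    (h : ⁅(⊤ : Subgroup G), E⁆ ≤ E ⊓ Subgroup.centralizer (E : Set G)) (g : G) :
    E →* Subgroup.center E where
  toFun e := ⟨⟨g * e * g⁻¹ * (e : G)⁻¹,
      (h (Subgroup.commutator_mem_commutator (Subgroup.mem_top g) e.2)).1⟩, by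
    rw [Subgroup.mem_center_iff]
    intro x
    apply Subtype.ext
    have := Subgroup.mem_centralizer_iff.mp
      (h (Subgroup.commutator_mem_commutator (Subgroup.mem_top g) e.2)).2 x x.2
    simpa [commutatorElement_def] using this⟩
  map_one' := by
    apply Subtype.ext
    apply Subtype.ext
    show g * ((1 : E) : G) * g⁻¹ * ((1 : E) : G)⁻¹ = 1
    simp
  map_mul' := by
    intro x y
    apply Subtype.ext
    apply Subtype.ext
    show g * ((x * y : E) : G) * g⁻¹ * ((x * y : E) : G)⁻¹
      = (g * x * g⁻¹ * (x : G)⁻¹) * (g * y * g⁻¹ * (y : G)⁻¹)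
    have hy := Subgroup.mem_centralizer_iff.mp
      (h (Subgroup.commutator_mem_commutator (Subgroup.mem_top g) y.2)).2 (x : G)⁻¹
      (E.inv_mem x.2)
    rw [commutatorElement_def] at hy
    rw [Subgroup.coe_mul]
    calc g * ((x : G) * y) * g⁻¹ * ((x : G) * y)⁻¹
        = g * x * g⁻¹ * ((g * y * g⁻¹ * (y : G)⁻¹) * (x : G)⁻¹) := by group
      _ = g * x * g⁻¹ * ((x : G)⁻¹ * (g * y * g⁻¹ * (y : G)⁻¹)) := by rw [hy]
      _ = (g * x * g⁻¹ * (x : G)⁻¹) * (g * y * g⁻¹ * (y : G)⁻¹) := by group

theorem commHom_apply (E : Subgroup G)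
    (h : ⁅(⊤ : Subgroup G), E⁆ ≤ E ⊓ Subgroup.centralizer (E : Set G)) (g : G) (e : E) :
    (((commHom E h g e : Subgroup.center E) : E) : G) = g * e * g⁻¹ * (e : G)⁻¹ := rfl

/-- In a p-group G, an extraspecial subgroup E with [G, E] ≤ Z(E) satisfies G = E C_G(E). -/
theorem result {G : Type*} [Group G] [Finite G] {p : ℕ} [Fact p.Prime] (hG : IsPGroup p G) (E : Subgroup G) (hE : Cfsg.IsExtraspecial p E) (h : ⁅(⊤ : Subgroup G), E⁆ ≤ E ⊓ Subgroup.centralizer (E : Set G)) : E ⊔ Subgroup.centralizer (E : Set G) = ⊤ := by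
  have hcomm : commutator E = Subgroup.center E := hE.1.2.2
  have hcard : Nat.card (Subgroup.center E) = p := hE.2
  set C := Subgroup.centralizer (E : Set G) with hC
  -- `E` is normal
  have hEn : E.Normal := by
    constructor
    intro e he g
    have h1 : g * e * g⁻¹ * e⁻¹ ∈ E :=
      (h (Subgroup.commutator_mem_commutator (Subgroup.mem_top g) he)).1
    have : g * e * g⁻¹ = (g * e * g⁻¹ * e⁻¹) * e := by group
    rw [this]
    exact E.mul_mem h1 he
  haveI hCn : C.Normal := Subgroup.normal_centralizer
  have hle : Nat.card (E →* Subgroup.center E) ≤ (Subgroup.center E).index := by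
    have := card_hom_le (E := E) (T := Subgroup.center E) hcard
    rwa [hcomm] at this
  -- the induced injective map from `G ⧸ C`
  let Λ : G ⧸ C → (E →* Subgroup.center E) :=
    Quotient.lift (fun g => commHom E h g) (by
      intro a b hab
      have hab' : a⁻¹ * b ∈ C := QuotientGroup.leftRel_apply.mp hab
      ext x
      rw [commHom_apply, commHom_apply]
      have hc := Subgroup.mem_centralizer_iff.mp hab' x x.2
      have : a * x * a⁻¹ = b * x * b⁻¹ := by
        calc a * x * a⁻¹ = a * (x * (a⁻¹ * b)) * b⁻¹ := by group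
          _ = a * ((a⁻¹ * b) * x) * b⁻¹ := by rw [hc]
          _ = b * x * b⁻¹ := by group
      rw [this])
  have hΛ : ∀ g : G, Λ (QuotientGroup.mk g) = commHom E h g := fun g => rfl
  have hinj : Function.Injective Λ := by
    intro a b
    induction a using QuotientGroup.induction_on with
    | H a =>
    induction b using QuotientGroup.induction_on with
    | H b =>
    intro hab
    rw [hΛ, hΛ] at hab
    rw [QuotientGroup.eq]
    show a⁻¹ * b ∈ C
    rw [hC, Subgroup.mem_centralizer_iff]
    intro x hx
    have h1 := congrArg (fun f : E →* Subgroup.center E => (((f ⟨x, hx⟩ : Subgroup.center E) : E) : G)) hab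
    simp only [commHom_apply] at h1
    have h2 : a * x * a⁻¹ = b * x * b⁻¹ := by
      have := congrArg (· * x) h1
      simpa using this
    calc x * (a⁻¹ * b) = a⁻¹ * (a * x * a⁻¹) * b := by group
      _ = a⁻¹ * (b * x * b⁻¹) * b := by rw [h2]
      _ = a⁻¹ * b * x := by group
  have hfin : Finite (E →* Subgroup.center E) := by
    have : Finite (E → Subgroup.center E) := inferInstance
    exact Finite.of_injective (fun f : E →* Subgroup.center E => (f : E → Subgroup.center E))
      DFunLike.coe_injective
  have h1 : C.index ≤ (Subgroup.center E).index :=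
    (Nat.card_le_card_of_injective Λ hinj).trans hle
  -- index computation
  have h2 : C.subgroupOf E = Subgroup.center E := by
    ext x
    rw [Subgroup.mem_subgroupOf, hC, Subgroup.mem_centralizer_iff, Subgroup.mem_center_iff]
    constructor
    · intro hx y
      apply Subtype.ext
      exact hx y y.2
    · intro hx y hy
      exact congrArg Subtype.val (hx ⟨y, hy⟩)
  have h3 : C.relIndex (E ⊔ C) = (Subgroup.center E).index := by
    rw [Subgroup.relIndex_sup_right, Subgroup.relIndex, h2]
  have h4 : C.relIndex (E ⊔ C) * (E ⊔ C).index = C.index :=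
    Subgroup.relIndex_mul_index le_sup_right
  rw [h3] at h4
  have hpos : 0 < (Subgroup.center E).index := Nat.pos_of_ne_zero Subgroup.index_ne_zero_of_finite
  have h5 : (E ⊔ C).index ≤ 1 := by
    by_contra hlt
    push Not at hlt
    have : (Subgroup.center E).index * 2 ≤ (Subgroup.center E).index * (E ⊔ C).index :=
      Nat.mul_le_mul_left _ hlt
    omega
  have h6 : (E ⊔ C).index = 1 := by
    have : (E ⊔ C).index ≠ 0 := Subgroup.index_ne_zero_of_finite
    omega
  exact Subgroup.index_eq_one.mp h6

end Cfsg.Agent.S0110
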