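import Mathlib
import Cfsg.Statements.S0119
import Cfsg.Agent.Lib.Helper1.Critical
import Cfsg.Agent.Lib.Helper19.PGroupBasic
import Cfsg.Agent.Lib.Helper21.PGroupFrattini
import Cfsg.Agent.Lib.Helper23.PGroup
import Cfsg.Agent.Lib.Helper9.FrattiniElem

set_option autoImplicit false
open Cfsg

namespace Cfsg.Agent.S0119

open Subgroup
open scoped commutatorElement

/-- If `G = [G, A]`, every normal subgroup fixed pointwise by `A` is central. -/
theorem le_center_of_fixed {G : Type*} [Group G] (A : Subgroup (MulAut G))
    (hGA : Subgroup.closure {x : G | ∃ g : G, ∃ a ∈ A, x = g⁻¹ * a g} = ⊤)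
    (N : Subgroup G) (hN : N.Normal) (hfix : ∀ a ∈ A, ∀ n ∈ N, a n = n) : N ≤ center G := by
  intro n hn
  have hle : Subgroup.closure {x : G | ∃ g : G, ∃ a ∈ A, x = g⁻¹ * a g} ≤
      centralizer ({n} : Set G) := by
    rw [closure_le]
    rintro x ⟨g, a, ha, rfl⟩
    rw [SetLike.mem_coe, mem_centralizer_iff]
    intro m hm
    rw [Set.mem_singleton_iff] at hm
    rw [hm]
    have h1 : a (g * n * g⁻¹) = g * n * g⁻¹ := hfix a ha _ (hN.conj_mem n hn g)
    rw [map_mul, map_mul, hfix a ha n hn, map_inv] at h1
    calc n * (g⁻¹ * a g) = g⁻¹ * (g * n * g⁻¹) * a g := by group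
      _ = g⁻¹ * (a g * n * (a g)⁻¹) * a g := by rw [h1]
      _ = g⁻¹ * a g * n := by group
  rw [hGA] at hle
  rw [mem_center_iff]
  intro g
  have := mem_centralizer_iff.mp (hle (mem_top g)) n rfl
  exact this.symm

/-- Averaging: if `G = [G, A]` with `A` a finite group of automorphisms of order prime to `p` and `G`
a `p`-group, then the fixed points of `A` lie in the derived subgroup. -/
theorem mem_commutator_of_fixed {G : Type*} [Group G] [Finite G] {p : ℕ} [Fact p.Prime]
    (hG : IsPGroup p G) (A : Subgroup (MulAut G)) (hA : Nat.Coprime (Nat.card A) p)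
    (hGA : Subgroup.closure {x : G | ∃ g : G, ∃ a ∈ A, x = g⁻¹ * a g} = ⊤)
    (x : G) (hx : ∀ a ∈ A, a x = x) : x ∈ commutator G := by
  classical
  haveI : Finite (MulAut G) := Finite.of_injective (fun e : MulAut G => (e : G → G))
    (fun e f h => MulEquiv.ext (congrFun h))
  letI := Fintype.ofFinite A
  let ν : G →* Abelianization G :=
    { toFun := fun g => ∏ a : A, Abelianization.of ((a : MulAut G) g)
      map_one' := by simp
      map_mul' := by
        intro g h
        simp only [map_mul]
        exact Finset.prod_mul_distrib }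
  have hν : ∀ g, ν g = ∏ a : A, Abelianization.of ((a : MulAut G) g) := fun g => rfl
  have hinv : ∀ (b : A) (g : G), ν ((b : MulAut G) g) = ν g := by
    intro b g
    rw [hν, hν]
    refine Fintype.prod_equiv (Equiv.mulRight b) _ _ ?_
    intro a
    rfl
  have hker : ν.ker = ⊤ := by
    rw [eq_top_iff, ← hGA, closure_le]
    rintro y ⟨g, a, ha, rfl⟩
    rw [SetLike.mem_coe, MonoidHom.mem_ker, map_mul, map_inv]
    have := hinv ⟨a, ha⟩ g
    rw [this, inv_mul_cancel]
  have h1 : ν x = 1 := by
    have : x ∈ ν.ker := by rw [hker]; exact mem_top x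
    exact this
  have h2 : ν x = (Abelianization.of x) ^ Nat.card A := by
    rw [hν]
    have : ∀ a : A, Abelianization.of ((a : MulAut G) x) = Abelianization.of x := by
      intro a
      rw [hx a a.2]
    simp only [this, Finset.prod_const, Finset.card_univ, Nat.card_eq_fintype_card]
  rw [h2] at h1
  have d1 : orderOf (Abelianization.of x) ∣ Nat.card A := orderOf_dvd_of_pow_eq_one h1
  obtain ⟨k, hk⟩ := hG x
  have d2 : orderOf (Abelianization.of x) ∣ p ^ k := by
    apply orderOf_dvd_of_pow_eq_one
    rw [← map_pow, hk, map_one]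
  have d3 : orderOf (Abelianization.of x) = 1 :=
    Nat.eq_one_of_dvd_coprimes (Nat.Coprime.pow_right k hA) d1 d2
  have h3 : Abelianization.of x = 1 := orderOf_eq_one_iff.mp d3
  have h4 : x ∈ (Abelianization.of (G := G)).ker := h3
  rwa [Abelianization.ker_of] at h4

/-- If a p'-group A of automorphisms of a p-group G satisfies G = [G, A] and acts trivially on every characteristic abelian subgroup, then G is special with centre equal to the fixed points of A. -/
theorem result {G : Type*} [Group G] [Finite G] {p : ℕ} [Fact p.Prime] (hG : IsPGroup p G) (A : Subgroup (MulAut G)) (hA : Nat.Coprime (Nat.card A) p) (hGA : Subgroup.closure {x : G | ∃ g : G, ∃ a ∈ A, x = g⁻¹ * a g} = ⊤) (hchar : ∀ H : Subgroup G, H.Characteristic → IsMulCommutative H → ∀ a ∈ A, ∀ h ∈ H, a h = h) : Cfsg.IsSpecial p G ∧ (∀ g : G, (g ∈ Subgroup.center G ↔ ∀ a ∈ A, a g = g)) := by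
  obtain ⟨H, hHchar, hΦ, hcomm, hcent⟩ := Cfsg.Agent.Helper1.exists_critical hG
  haveI := hHchar
  set ZH : Subgroup G := H ⊓ centralizer (H : Set G) with hZH
  haveI hZHchar : ZH.Characteristic := inferInstance
  haveI hZHcomm : IsMulCommutative ZH :=
    ⟨⟨fun a b => Subtype.ext (mem_centralizer_iff.mp b.2.2 a a.2.1)⟩⟩
  have hZHfix : ∀ a ∈ A, ∀ z ∈ ZH, a z = z := hchar ZH hZHchar hZHcomm
  have hZHcen : ZH ≤ center G := le_center_of_fixed A hGA ZH inferInstance hZHfix
  -- commutators lie in the centre
  have hHG : ∀ h ∈ H, ∀ g : G, ⁅h, g⁆ ∈ center G := fun h hh g =>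
    hZHcen (hcomm (commutator_mem_commutator hh (mem_top g)))
  have hG'cent : commutator G ≤ centralizer (H : Set G) := by
    intro c hc
    rw [mem_centralizer_iff]
    intro h hh
    have h' : ∀ g : G, g * h * g⁻¹ * h⁻¹ ∈ center G := by
      intro g
      have := (center G).inv_mem (hHG h hh g)
      rw [commutatorElement_inv] at this
      exact this
    have hker : commutator G ≤ (Cfsg.Agent.Helper19.commHom h (center G) le_rfl h').ker := by
      rw [_root_.commutator_def, Subgroup.commutator_le]
      intro g₁ _ g₂ _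
      rw [MonoidHom.mem_ker, map_commutatorElement, commutatorElement_eq_one_iff_mul_comm]
      apply Subtype.ext
      rw [Subgroup.coe_mul, Subgroup.coe_mul]
      exact (mem_center_iff.mp (Subtype.property _) _).symm
    have := (Cfsg.Agent.Helper19.mem_commHom_ker h (center G) le_rfl h' c).mp (hker hc)
    exact this.symm
  have hG'ZH : commutator G ≤ ZH := fun c hc => ⟨hcent (hG'cent hc), hG'cent hc⟩
  have hG'center : commutator G ≤ center G := le_trans hG'ZH hZHcen
  have hcenfix : ∀ a ∈ A, ∀ z ∈ center G, a z = z :=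
    hchar (center G) inferInstance inferInstance
  have hcenG' : center G ≤ commutator G := fun z hz =>
    mem_commutator_of_fixed hG A hA hGA z (fun a ha => hcenfix a ha z hz)
  have hZeq : commutator G = center G := le_antisymm hG'center hcenG'
  -- p-th powers are central
  have hpowH : ∀ h ∈ H, h ^ p ∈ center G := by
    intro h hh
    have h1 := Cfsg.Agent.Helper21.pow_mem_frattini_of_isPGroup (hG.to_subgroup H) (⟨h, hh⟩ : H)
    have h2 : h ^ p ∈ (frattini H).map H.subtype := ⟨_, h1, by simp⟩
    exact hZHcen ⟨H.pow_mem hh p, hΦ h2⟩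
  have hpow : ∀ g : G, g ^ p ∈ center G := by
    intro g
    have hgc : g ^ p ∈ centralizer (H : Set G) := by
      rw [mem_centralizer_iff]
      intro h hh
      have h' : ∀ t : G, t * g * t⁻¹ * g⁻¹ ∈ center G := by
        intro t
        apply hG'center
        have : t * g * t⁻¹ * g⁻¹ = ⁅t, g⁆ := by rw [commutatorElement_def]
        rw [this]
        exact commutator_mem_commutator (mem_top t) (mem_top g)
      set ψ := Cfsg.Agent.Helper19.commHom g (center G) le_rfl h' with hψ
      have e1 : ψ h ^ p = 1 := by
        rw [← map_pow]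
        have : h ^ p ∈ ψ.ker := by
          rw [hψ, Cfsg.Agent.Helper19.mem_commHom_ker]
          exact (mem_center_iff.mp (hpowH h hh) g).symm
        exact this
      have e2 : (h * g * h⁻¹ * g⁻¹) ^ p = 1 := by
        have := congrArg Subtype.val e1
        simpa [hψ, Cfsg.Agent.Helper19.commHom_apply] using this
      set z := h * g * h⁻¹ * g⁻¹ with hz
      have hzc : z ∈ center G := h' h
      have e3 : h * g * h⁻¹ = z * g := by rw [hz]; group
      have e4 : h * g ^ p * h⁻¹ = (z * g) ^ p := by
        rw [← e3]
        exact (conj_pow (a := h) (b := g) (i := p)).symm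
      have hcomm' : Commute z g := (mem_center_iff.mp hzc g).symm
      rw [hcomm'.mul_pow, e2, one_mul] at e4
      calc h * g ^ p = h * g ^ p * h⁻¹ * h := by group
        _ = g ^ p * h := by rw [e4]
    exact hZHcen ⟨hcent hgc, hgc⟩
  have hfrat : frattini G = center G := by
    apply le_antisymm
    · have hexp : ∀ a : Abelianization G, a ^ p = 1 := by
        intro a
        obtain ⟨g, rfl⟩ := QuotientGroup.mk_surjective a
        change (Abelianization.of g) ^ p = 1
        rw [← map_pow]
        have : g ^ p ∈ (Abelianization.of (G := G)).ker := by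
          rw [Abelianization.ker_of, hZeq]; exact hpow g
        exact this
      have := Cfsg.Agent.Helper9.frattini_le_ker_of_elementary (p := p)
        (Abelianization.of (G := G)) (fun a b => mul_comm a b) hexp
      rw [Abelianization.ker_of, hZeq] at this
      exact this
    · rw [← hZeq]
      exact Cfsg.Agent.Helper23.commutator_le_frattini_pgroup p hG
  refine ⟨⟨hG, hfrat, hZeq⟩, ?_⟩
  intro g
  constructor
  · intro hg a ha
    exact hcenfix a ha g hg
  · intro hg
    exact hG'center (mem_commutator_of_fixed hG A hA hGA g hg)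

end Cfsg.Agent.S0119
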