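import Mathlib
import Cfsg.Agent.Lib.Helper22.RankFour
import Cfsg.Agent.S0126
import Cfsg.Agent.S0100
import Cfsg.Statements.S0122
-- import your own Cfsg.Agent.* helpers here

set_option autoImplicit false
open Cfsg

namespace Cfsg.Agent.S0122

open Subgroup
open scoped commutatorElement
open Cfsg.Agent.Helper22

universe u

/-- An elementary abelian subgroup of order `p ^ 4` containing `B`. -/
structure IsE4 {G : Type u} [Group G] (p : ℕ) (B E : Subgroup G) : Prop where
  le : B ≤ E
  comm : ∀ u ∈ E, ∀ v ∈ E, u * v = v * u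
  exp : ∀ u ∈ E, u ^ p = 1
  card : Nat.card E = p ^ 4

theorem IsE4.conj {G : Type u} [Group G] {p : ℕ} {B E : Subgroup G} [hB : B.Normal]
    (h : IsE4 p B E) (g : G) : IsE4 p B (cj g E) := by
  refine ⟨?_, ?_, ?_, ?_⟩
  · intro b hb
    rw [mem_cj]
    have := hB.conj_mem b hb g⁻¹
    rw [inv_inv] at this
    exact h.le this
  · intro u hu v hv
    rw [mem_cj] at hu hv
    have h1 := h.comm _ hu _ hv
    have h2 : g⁻¹ * (u * v) * g = g⁻¹ * (v * u) * g := by
      have e1 : g⁻¹ * (u * v) * g = (g⁻¹ * u * g) * (g⁻¹ * v * g) := by group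
      have e2 : g⁻¹ * (v * u) * g = (g⁻¹ * v * g) * (g⁻¹ * u * g) := by group
      rw [e1, e2, h1]
    have h3 : g⁻¹ * (u * v) = g⁻¹ * (v * u) := mul_right_cancel h2
    exact mul_left_cancel h3
  · intro x hx
    rw [mem_cj] at hx
    have h1 := h.exp _ hx
    have : (g⁻¹ * x * g) ^ p = g⁻¹ * x ^ p * g := by
      have := conj_pow (a := g⁻¹) (b := x) (i := p)
      rwa [inv_inv] at this
    rw [this] at h1
    have h3 : x ^ p = g * (g⁻¹ * x ^ p * g) * g⁻¹ := by group
    rw [h3, h1]
    group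
  · unfold cj
    rw [Subgroup.card_map_of_injective (MulAut.conj g).injective]
    exact h.card

section Main

variable {G : Type u} [Group G] [Finite G] {p : ℕ} [hp : Fact p.Prime]

/-- the key configuration -/
structure Config (p : ℕ) (B A : Subgroup G) : Prop where
  stepA : IsStepOver p 1 B A
  cardB : Nat.card B = p ^ 2
  star : ∀ y ∈ centralizer (A : Set G), y ^ p = 1 → y ∈ A

theorem Config.cardA {B A : Subgroup G} (hc : Config p B A) : Nat.card A = p ^ 3 := by
  rw [hc.stepA.card, hc.cardB]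
  ring

theorem Config.inf_eq {B A E : Subgroup G} (hc : Config p B A) (hE : IsE4 p B E) : E ⊓ A = B := by
  have hpp : p.Prime := hp.out
  by_contra hne
  have hlt : B < E ⊓ A := lt_of_le_of_ne (le_inf hE.le hc.stepA.le) (Ne.symm hne)
  have h1 : E ⊓ A = A := eq_of_lt_of_le_of_card_eq_prime_mul B _ A hlt inf_le_right hc.stepA.card
  have hAE : A ≤ E := by rw [← h1]; exact inf_le_left
  have hEA : E ≤ A := by
    intro e he
    apply hc.star e _ (hE.exp e he)
    rw [Subgroup.mem_centralizer_iff]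
    intro a ha
    exact hE.comm a (hAE ha) e he
  have := Subgroup.card_le_of_le hEA
  rw [hE.card, hc.cardA] at this
  have h2 : p ^ 3 < p ^ 4 := Nat.pow_lt_pow_right hpp.one_lt (by norm_num)
  omega

theorem Config.inf_centralizer_eq {B A E : Subgroup G} (hc : Config p B A) (hE : IsE4 p B E) :
    E ⊓ centralizer (A : Set G) = B := by
  apply le_antisymm
  · intro e he
    have h1 : e ∈ A := hc.star e he.2 (hE.exp e he.1)
    rw [← hc.inf_eq hE]
    exact ⟨he.1, h1⟩
  · intro b hb
    refine ⟨hE.le hb, ?_⟩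
    change b ∈ centralizer (A : Set G)
    rw [Subgroup.mem_centralizer_iff]
    intro a ha
    exact hc.stepA.comm a ha b (hc.stepA.le hb)

/-- `A = B ⊔ ⟨d⟩` for `d ∈ A ∖ B`, in the form: centralising `B` and `d` means centralising `A` -/
theorem Config.mem_centralizer {B A : Subgroup G} (hc : Config p B A) (d : G) (hdA : d ∈ A)
    (hdB : d ∉ B) (x : G) (hxB : x ∈ centralizer (B : Set G)) (hxd : x * d = d * x) :
    x ∈ centralizer (A : Set G) := by
  have hlt : B < B ⊔ zpowers d := by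
    refine lt_of_le_of_ne le_sup_left ?_
    intro h
    apply hdB
    rw [h]
    exact (le_sup_right : zpowers d ≤ B ⊔ zpowers d) (Subgroup.mem_zpowers d)
  have hle : B ⊔ zpowers d ≤ A := sup_le hc.stepA.le (by rw [Subgroup.zpowers_le]; exact hdA)
  have heq : B ⊔ zpowers d = A :=
    eq_of_lt_of_le_of_card_eq_prime_mul B _ A hlt hle hc.stepA.card
  have hsub : B ⊔ zpowers d ≤ centralizer {x} := by
    apply sup_le
    · intro b hb
      rw [Subgroup.mem_centralizer_singleton_iff]
      exact (Subgroup.mem_centralizer_iff.1 hxB b hb)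
    · rw [Subgroup.zpowers_le, Subgroup.mem_centralizer_singleton_iff]
      exact hxd.symm
  rw [Subgroup.mem_centralizer_iff]
  intro a ha
  have := hsub (heq ▸ ha)
  exact (Subgroup.mem_centralizer_singleton_iff.1 this)

theorem IsE4.le_centralizer {B E : Subgroup G} (hE : IsE4 p B E) : E ≤ centralizer (B : Set G) := by
  intro e he
  rw [Subgroup.mem_centralizer_iff]
  intro b hb
  exact hE.comm b (hE.le hb) e he

/-- In the key configuration every `E4` over `B` is normal. -/
theorem Config.normal (hp2 : p ≠ 2) (hG : IsPGroup p G) {B A E : Subgroup G} [hBn : B.Normal]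
    [hAn : A.Normal] (hc : Config p B A) (hE : IsE4 p B E) : E.Normal := by
  classical
  have hpp : p.Prime := hp.out
  haveI : Group.IsNilpotent G := hG.isNilpotent
  rw [← Subgroup.normalizer_eq_top_iff]
  by_contra hN
  set N : Subgroup G := normalizer (E : Set G) with hNdef
  have hNlt : N < normalizer (N : Set G) :=
    Group.normalizerCondition_of_isNilpotent N (lt_top_iff_ne_top.2 hN)
  obtain ⟨g, hgN₁, hgN⟩ := SetLike.exists_of_lt hNlt
  apply hgN
  apply mem_normalizer_of_cj_eq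
  by_contra hne
  set E₂ : Subgroup G := cj g E with hE₂def
  have hE₂ : IsE4 p B E₂ := hE.conj g
  have hE₂N : E₂ ≤ N := cj_le_normalizer E g hgN₁
  have hNE₂ : N ≤ normalizer (E₂ : Set G) := normalizer_le_normalizer_cj E g hgN₁
  have hEN : E ≤ N := Subgroup.le_normalizer
  -- exponent of the join
  have hDexp : ∀ d ∈ E ⊔ E₂, d ^ p = 1 :=
    pow_eq_one_of_mem_sup hpp hp2 E E₂ (hEN.trans hNE₂) hE₂N hE.comm hE₂.comm hE.exp hE₂.exp
  -- choose a in A outside B
  obtain ⟨a, haA, haB⟩ := SetLike.exists_of_lt hc.stepA.lt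
  have hcomm : ∀ g : G, ⁅a, g⁆ ∈ B := fun g =>
    commutator_mem_of_card_eq_prime_mul hG B A hc.stepA.le hc.stepA.card a haA g
  have hEcent : E ⊓ centralizer {a} = B := by
    rw [← hc.inf_centralizer_eq hE]
    ext x
    rw [Subgroup.mem_inf, Subgroup.mem_inf]
    constructor
    · rintro ⟨h1, h2⟩
      refine ⟨h1, hc.mem_centralizer a haA haB x (hE.le_centralizer h1) ?_⟩
      exact (Subgroup.mem_centralizer_singleton_iff.1 h2)
    · rintro ⟨h1, h2⟩
      refine ⟨h1, ?_⟩
      rw [Subgroup.mem_centralizer_singleton_iff]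
      exact (Subgroup.mem_centralizer_iff.1 h2 a haA).symm
  have hsurj : ∀ b ∈ B, ∃ e ∈ E, ⁅a, e⁆ = b := by
    apply exists_commutator_eq a E B (fun e _ => hcomm e)
    · intro e he b hb
      exact (hE.comm b (hE.le hb) e he).symm
    · rw [hEcent, hE.card, hc.cardB]
      ring
  -- every element of E₂ is e * d with d in A
  have hkey : ∀ e₂ ∈ E₂, ∃ e ∈ E, e⁻¹ * e₂ ∈ A := by
    intro e₂ he₂
    obtain ⟨e, he, hee⟩ := hsurj _ (hcomm e₂)
    refine ⟨e, he, ?_⟩
    have hdD : e⁻¹ * e₂ ∈ E ⊔ E₂ :=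
      Subgroup.mul_mem _ (Subgroup.inv_mem _ ((le_sup_left : E ≤ E ⊔ E₂) he))
        ((le_sup_right : E₂ ≤ E ⊔ E₂) he₂)
    apply hc.star _ _ (hDexp _ hdD)
    apply hc.mem_centralizer a haA haB
    · exact Subgroup.mul_mem _ (Subgroup.inv_mem _ (hE.le_centralizer he)) (hE₂.le_centralizer he₂)
    · -- commutes with a
      rw [commutatorElement_def, commutatorElement_def] at hee
      have h1 : e * a⁻¹ * e⁻¹ = e₂ * a⁻¹ * e₂⁻¹ := by
        have : a * (e * a⁻¹ * e⁻¹) = a * (e₂ * a⁻¹ * e₂⁻¹) := by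
          simpa [mul_assoc] using hee
        exact mul_left_cancel this
      have h2 : (e⁻¹ * e₂) * a⁻¹ = a⁻¹ * (e⁻¹ * e₂) := by
        have : e⁻¹ * e₂ * a⁻¹ = e⁻¹ * (e₂ * a⁻¹ * e₂⁻¹) * e₂ := by group
        rw [this, ← h1]
        group
      have h3 : Commute (e⁻¹ * e₂) a⁻¹ := h2
      have h4 := h3.inv_right
      rw [inv_inv] at h4
      exact h4.eq
  -- an element of E₂ outside E
  have hnotle : ¬ E₂ ≤ E := by
    intro hle
    apply hne
    apply Subgroup.eq_of_le_of_card_ge hle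
    rw [hE.card, hE₂.card]
  obtain ⟨e₂, he₂, he₂E⟩ := SetLike.not_le_iff_exists.1 hnotle
  obtain ⟨e, he, hd⟩ := hkey e₂ he₂
  set d := e⁻¹ * e₂ with hddef
  have hdB : d ∉ B := by
    intro hdB
    apply he₂E
    have : e₂ = e * d := by rw [hddef]; group
    rw [this]
    exact E.mul_mem he (hE.le hdB)
  -- the intersection is B
  have hZ : E ⊓ E₂ ≤ B := by
    intro z hz
    rw [← hc.inf_centralizer_eq hE]
    refine ⟨hz.1, hc.mem_centralizer d hd hdB z (hE.le_centralizer hz.1) ?_⟩
    have h1 : z * e = e * z := hE.comm z hz.1 e he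
    have h2 : z * e₂ = e₂ * z := hE₂.comm z hz.2 e₂ he₂
    have h3 : z * e⁻¹ = e⁻¹ * z := by
      have : Commute z e := h1
      exact this.inv_right.eq
    rw [hddef, ← mul_assoc, h3, mul_assoc, h2, mul_assoc]
  -- E₂ ≤ E ⊔ A
  have hE₂H : E₂ ≤ E ⊔ A := by
    intro x hx
    obtain ⟨e', he', hd'⟩ := hkey x hx
    have : x = e' * (e'⁻¹ * x) := by group
    rw [this]
    exact Subgroup.mul_mem _ ((le_sup_left : E ≤ E ⊔ A) he') ((le_sup_right : A ≤ E ⊔ A) hd')
  -- cardinality of H = E ⊔ A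
  set H : Subgroup G := E ⊔ A with hH
  have hcardH : Nat.card H = p ^ 5 := by
    rw [card_eq_relIndex_mul_card A H le_sup_right, hH, Subgroup.relIndex_sup_right,
      ← Subgroup.inf_relIndex_right, hc.cardA]
    have h1 := card_eq_relIndex_mul_card (A ⊓ E) E inf_le_right
    rw [inf_comm, hc.inf_eq hE, hE.card, hc.cardB] at h1
    have h2 : (B.relIndex E) = p ^ 2 := by
      have hpos : 0 < p ^ 2 := pow_pos hpp.pos 2
      have : p ^ 2 * p ^ 2 = B.relIndex E * p ^ 2 := by rw [← h1]; ring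
      exact (Nat.eq_of_mul_eq_mul_right hpos this).symm
    rw [inf_comm, hc.inf_eq hE, h2]
    ring
  have hrel : ∀ E' : Subgroup G, E' ≤ H → Nat.card E' = p ^ 4 → E'.relIndex H = p := by
    intro E' hle hcard
    have h1 := card_eq_relIndex_mul_card E' H hle
    rw [hcardH, hcard] at h1
    have hpos : 0 < p ^ 4 := pow_pos hpp.pos 4
    have : p * p ^ 4 = E'.relIndex H * p ^ 4 := by rw [← h1]; ring
    exact (Nat.eq_of_mul_eq_mul_right hpos this).symm
  have h1 := Subgroup.relIndex_inf_le (H := E) (K := E₂) (L := H)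
  rw [hrel E le_sup_left hE.card, hrel E₂ hE₂H hE₂.card] at h1
  have h2 := card_eq_relIndex_mul_card (E ⊓ E₂) H (inf_le_left.trans le_sup_left)
  have h3 : Nat.card (E ⊓ E₂ : Subgroup G) ≤ p ^ 2 := by
    rw [← hc.cardB]
    exact Subgroup.card_le_of_le hZ
  have h4 : Nat.card H ≤ p * p * p ^ 2 := by
    rw [h2]
    exact Nat.mul_le_mul h1 h3
  rw [hcardH] at h4
  have h5 : p * p * p ^ 2 = p ^ 4 := by ring
  rw [h5] at h4
  have h6 : p ^ 4 < p ^ 5 := Nat.pow_lt_pow_right hpp.one_lt (by norm_num)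
  omega

end Main

/-- For odd p, a p-group containing an elementary abelian subgroup of order p^4 has a normal elementary abelian subgroup of order p^4. -/
theorem result {G : Type*} [Group G] [Finite G] {p : ℕ} [Fact p.Prime] (hp : p ≠ 2) (hG : IsPGroup p G) (E : Subgroup G) (hE : Cfsg.IsElementaryAbelian p E) (hE4 : Nat.card E = p ^ 4) : ∃ A : Subgroup G, A.Normal ∧ Cfsg.IsElementaryAbelian p A ∧ Nat.card A = p ^ 4 := by
  classical
  have hpp : p.Prime := Fact.out
  obtain ⟨hEc, hEe⟩ := hE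
  have hEcm : ∀ u ∈ E, ∀ v ∈ E, u * v = v * u := fun a ha b hb =>
    congrArg Subtype.val (hEc.is_comm.comm ⟨a, ha⟩ ⟨b, hb⟩)
  have hnc : ¬ IsCyclic G := by
    intro hc
    have h1 := Cfsg.Agent.S0100.card_le_of_isCyclic p E hEe
    rw [hE4] at h1
    have : p < p ^ 4 := by
      calc p = p ^ 1 := (pow_one p).symm
      _ < p ^ 4 := Nat.pow_lt_pow_right hpp.one_lt (by norm_num)
    omega
  obtain ⟨B, hBn, ⟨hBc, hBe⟩, hBcard⟩ := Cfsg.Agent.S0126.result hp hG hnc
  haveI := hBn
  have hBcm : ∀ u ∈ B, ∀ v ∈ B, u * v = v * u := fun a ha b hb =>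
    congrArg Subtype.val (hBc.is_comm.comm ⟨a, ha⟩ ⟨b, hb⟩)
  set C : Subgroup G := centralizer (B : Set G) with hC
  have hidx : C.index ≤ p := Cfsg.Agent.S0100.index_centralizer_le hG B hBcard
  -- Step 2: an E4 containing B
  have hE' : ∃ E' : Subgroup G, IsE4 p B E' := by
    set E₁ : Subgroup G := E ⊓ C with hE₁
    have hr : C.relIndex E ≤ p := by
      have h1 : C.relIndex E ∣ C.index := Subgroup.relIndex_dvd_index_of_normal C E
      have hpos : 0 < C.index := Nat.pos_of_ne_zero Subgroup.index_ne_zero_of_finite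
      exact (Nat.le_of_dvd hpos h1).trans hidx
    have hE₁card : p ^ 3 ≤ Nat.card E₁ := by
      have h1 := card_eq_relIndex_mul_card E₁ E inf_le_left
      rw [hE₁, inf_comm, Subgroup.inf_relIndex_right, hE4] at h1
      rw [inf_comm] at h1
      by_contra hlt
      rw [not_le] at hlt
      have : C.relIndex E * Nat.card (E ⊓ C : Subgroup G) < p * p ^ 3 := by
        calc C.relIndex E * Nat.card (E ⊓ C : Subgroup G) ≤ p * Nat.card (E ⊓ C : Subgroup G) :=
              Nat.mul_le_mul_right _ hr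
        _ < p * p ^ 3 := Nat.mul_lt_mul_of_pos_left hlt hpp.pos
      rw [← h1] at this
      have h5 : p * p ^ 3 = p ^ 4 := by ring
      omega
    set X : Subgroup G := E₁ ⊔ B with hX
    have hXmem : ∀ x ∈ X, ∃ e ∈ E₁, ∃ b ∈ B, x = e * b := by
      intro x hx
      have hx' : x ∈ ((E₁ ⊔ B : Subgroup G) : Set G) := hx
      rw [Subgroup.mul_normal] at hx'
      obtain ⟨e, he, b, hb, rfl⟩ := Set.mem_mul.1 hx'
      exact ⟨e, he, b, hb, rfl⟩
    have heb : ∀ e ∈ E₁, ∀ b ∈ B, e * b = b * e := by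
      intro e he b hb
      exact (Subgroup.mem_centralizer_iff.1 he.2 b hb).symm
    have hXc : ∀ u ∈ X, ∀ v ∈ X, u * v = v * u := by
      intro u hu v hv
      obtain ⟨e, he, b, hb, rfl⟩ := hXmem u hu
      obtain ⟨e', he', b', hb', rfl⟩ := hXmem v hv
      have c1 : Commute e e' := hEcm e he.1 e' he'.1
      have c2 : Commute e b' := heb e he b' hb'
      have c3 : Commute b e' := (heb e' he' b hb).symm
      have c4 : Commute b b' := hBcm b hb b' hb'
      exact ((c1.mul_right c2).mul_left (c3.mul_right c4)).eq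
    have hXe : ∀ u ∈ X, u ^ p = 1 := by
      intro u hu
      obtain ⟨e, he, b, hb, rfl⟩ := hXmem u hu
      have c : Commute e b := heb e he b hb
      rw [c.mul_pow, hEe e he.1, hBe b hb, one_mul]
    have hXcard : p ^ 4 ∣ Nat.card X := by
      obtain ⟨k, hk⟩ := (hG.to_subgroup X).exists_card_eq
      rw [hk]
      apply pow_dvd_pow
      by_contra hk4
      have hk3 : k ≤ 3 := by omega
      have hXle : Nat.card X ≤ p ^ 3 := by
        rw [hk]
        exact Nat.pow_le_pow_right hpp.pos hk3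
      have hE₁X : E₁ = X :=
        Subgroup.eq_of_le_of_card_ge le_sup_left (hXle.trans hE₁card)
      have hBE : B ≤ E := by
        have : B ≤ E₁ := by rw [hE₁X]; exact le_sup_right
        exact this.trans inf_le_left
      have hEC : E ≤ C := by
        intro e he
        rw [hC, Subgroup.mem_centralizer_iff]
        intro b hb
        exact hEcm b (hBE hb) e he
      have hE₁E : E₁ = E := inf_eq_left.2 hEC
      have : Nat.card E ≤ p ^ 3 := by
        rw [← hE₁E, hE₁X]
        exact hXle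
      rw [hE4] at this
      have h6 : p ^ 3 < p ^ 4 := Nat.pow_lt_pow_right hpp.one_lt (by norm_num)
      omega
    -- subgroup of order p^4 between B and X
    have hBX : B ≤ X := le_sup_right
    have hcardBX : Nat.card (B.subgroupOf X) = p ^ 2 := by
      rw [← hBcard]
      exact Nat.card_congr (Subgroup.subgroupOfEquivOfLe hBX).toEquiv
    obtain ⟨K, hKcard, hBK⟩ := Sylow.exists_subgroup_card_pow_prime_le p
      (G := X) hXcard (B.subgroupOf X) hcardBX (by norm_num : 2 ≤ 4)
    refine ⟨K.map X.subtype, ?_, ?_, ?_, ?_⟩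
    · rw [← Subgroup.map_subgroupOf_eq_of_le hBX]
      exact Subgroup.map_mono hBK
    · intro u hu v hv
      exact hXc u (Subgroup.map_subtype_le K hu) v (Subgroup.map_subtype_le K hv)
    · intro u hu
      exact hXe u (Subgroup.map_subtype_le K hu)
    · rw [Subgroup.card_map_of_injective X.subtype_injective, hKcard]
  obtain ⟨E', hE'⟩ := hE'
  -- Step 3: Alperin step on B
  have hp1 : p ^ 1 ≠ 2 := by rwa [pow_one]
  have hBe' : ∀ a ∈ B, a ^ p ^ 1 = 1 := by
    intro a ha
    rw [pow_one]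
    exact hBe a ha
  have hBlt : B < E' := by
    refine lt_of_le_of_ne hE'.le ?_
    intro h
    have h1 := hE'.card
    rw [← h, hBcard] at h1
    have h6 : p ^ 2 < p ^ 4 := Nat.pow_lt_pow_right hpp.one_lt (by norm_num)
    omega
  obtain ⟨x, hxE, hxB⟩ := SetLike.exists_of_lt hBlt
  have hxp : x ^ p ^ 1 = 1 := by
    rw [pow_one]
    exact hE'.exp x hxE
  obtain ⟨A, hAn, hA⟩ := exists_normal_isStepOver hG 1 hp1 B hBcm hBe' x
    (hE'.le_centralizer hxE) hxp hxB
  haveI := hAn
  have hAcard : Nat.card A = p ^ 3 := by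
    rw [hA.card, hBcard]
    ring
  have hAe : ∀ a ∈ A, a ^ p = 1 := by
    intro a ha
    have := hA.exp a ha
    rwa [pow_one] at this
  by_cases hstar : ∀ y ∈ centralizer (A : Set G), y ^ p = 1 → y ∈ A
  · -- E' is normal
    have hcfg : Config p B A := ⟨hA, hBcard, hstar⟩
    have hEn : E'.Normal := hcfg.normal hp hG hE'
    exact ⟨E', hEn, ⟨⟨⟨fun a b => Subtype.ext (hE'.comm a a.2 b b.2)⟩⟩, hE'.exp⟩, hE'.card⟩
  · -- second Alperin step
    obtain ⟨y, hyC, hyp, hyA⟩ : ∃ y ∈ centralizer (A : Set G), y ^ p = 1 ∧ y ∉ A := by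
      by_contra hno
      apply hstar
      intro y hy hyp
      by_contra hyA
      exact hno ⟨y, hy, hyp, hyA⟩
    have hyp' : y ^ p ^ 1 = 1 := by rwa [pow_one]
    obtain ⟨A', hA'n, hA'⟩ := exists_normal_isStepOver hG 1 hp1 A hA.comm hA.exp y hyC hyp' hyA
    refine ⟨A', hA'n, ⟨⟨⟨fun a b => Subtype.ext (hA'.comm a a.2 b b.2)⟩⟩, ?_⟩, ?_⟩
    · intro a ha
      have := hA'.exp a ha
      rwa [pow_one] at this
    · rw [hA'.card, hAcard]
      ring

end Cfsg.Agent.S0122
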