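import Mathlib
import Cfsg.Statements.S0123
import Cfsg.Agent.Lib.Helper1.ClassThree
import Cfsg.Agent.Lib.Helper22.ClassTwo

set_option autoImplicit false
open Cfsg

namespace Cfsg.Agent.S0123

open scoped commutatorElement

/-- For a p-group of small class relative to p (class ≤ 2 with p odd, or class ≤ 3 with p > 3) whose derived subgroup is generated by elements of order dividing p, the p-th power map is multiplicative. -/
theorem result {R : Type*} [Group R] [Finite R] {p : ℕ} [Fact p.Prime] (hR : IsPGroup p R) (hcl : (p ≠ 2 ∧ ⁅commutator R, (⊤ : Subgroup R)⁆ = ⊥) ∨ (3 < p ∧ ⁅⁅commutator R, (⊤ : Subgroup R)⁆, (⊤ : Subgroup R)⁆ = ⊥)) (hder : commutator R ≤ Subgroup.closure {x : R | x ^ p = 1}) (x y : R) : (x * y) ^ p = x ^ p * y ^ p := by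
  have hpp : p.Prime := Fact.out
  have hcomm : ∀ a b : R, ⁅a, b⁆ ∈ commutator R := fun a b =>
    Subgroup.commutator_mem_commutator (Subgroup.mem_top a) (Subgroup.mem_top b)
  rcases hcl with ⟨hp2, h2⟩ | ⟨hp3, h3⟩
  · have hc := Cfsg.Agent.Helper22.commutator_mem_center_of_class_two h2
    have hexp : ∀ g ∈ commutator R, g ^ p = 1 := fun g hg =>
      Cfsg.Agent.Helper22.pow_prime_eq_one_of_mem_closure hp2 hc g (hder hg)
    have hc' : ∀ g : R, g * ⁅y, x⁆ = ⁅y, x⁆ * g := fun g => Subgroup.mem_center_iff.1 (hc y x) g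
    have h := Cfsg.Agent.Helper22.mul_pow_eq_of_central x y ⁅y, x⁆ hc'
      (Cfsg.Agent.Helper22.mul_eq_commutator_mul x y) p
    obtain ⟨k, hk⟩ := Cfsg.Agent.Helper1.ClassThree.prime_dvd_choose_two hpp hp2
    rw [h, hk, pow_mul, hexp _ (hcomm y x), one_pow, one_mul]
  · have hexp : ∀ g ∈ commutator R, g ^ p = 1 := fun g hg =>
      Cfsg.Agent.Helper1.ClassThree.pow_prime_eq_one_of_mem_closure hpp hp3 h3 g (hder hg)
    exact Cfsg.Agent.Helper1.ClassThree.mul_pow_prime hpp hp3 h3 x y (hexp _ (hcomm _ _))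
      (hexp _ (hcomm _ _)) (hexp _ (hcomm _ _))

end Cfsg.Agent.S0123
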