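import Mathlib
import Cfsg.Statements.S0125

set_option autoImplicit false
open Cfsg

namespace Cfsg.Agent.S0125

/-- The centralizer of a self-centralizing normal subgroup A of a Sylow p-subgroup is the direct product of A with a normal p'-subgroup. -/
theorem result {G : Type*} [Group G] [Finite G] {p : ℕ} [Fact p.Prime] (R : Sylow p G) (A : Subgroup G) (hAR : A ≤ (R : Subgroup G)) (hAn : (R : Subgroup G) ≤ Subgroup.normalizer (A : Set G)) (hC : (R : Subgroup G) ⊓ Subgroup.centralizer (A : Set G) = A) : ∃ H : Subgroup G, H ≤ Subgroup.centralizer (A : Set G) ∧ Nat.Coprime (Nat.card H) p ∧ Subgroup.centralizer (A : Set G) ≤ Subgroup.normalizer (H : Set G) ∧ H ⊓ A = ⊥ ∧ H ⊔ A = Subgroup.centralizer (A : Set G) := by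
  classical
  set C : Subgroup G := Subgroup.centralizer (A : Set G) with hCdef
  set N : Subgroup G := Subgroup.normalizer (A : Set G) with hNdef
  have hCN : C ≤ N := Subgroup.centralizer_le_normalizer _
  have hAC : A ≤ C := by rw [← hC]; exact inf_le_right
  -- Step 2: a Sylow p-subgroup S of C containing A
  have hAp : IsPGroup p A := R.2.to_le hAR
  have hACp : IsPGroup p (A.subgroupOf C) := hAp.comap_subtype
  obtain ⟨S, hS⟩ := hACp.exists_le_sylow
  set S' : Subgroup G := (S : Subgroup C).map C.subtype with hS'def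
  have hS'C : S' ≤ C := Subgroup.map_subtype_le _
  have hAS' : A ≤ S' := by
    intro a ha
    exact Subgroup.mem_map.2 ⟨⟨a, hAC ha⟩, hS (Subgroup.mem_subgroupOf.2 ha), rfl⟩
  have hS'p : IsPGroup p S' := S.2.map _
  -- Step 3: conjugate S' into R inside N
  have hRN : (R : Subgroup G) ≤ N := hAn
  have hS'Np : IsPGroup p (S'.subgroupOf N) := hS'p.comap_subtype
  obtain ⟨R₁, hR₁⟩ := hS'Np.exists_le_sylow
  obtain ⟨n, hn⟩ := MulAction.exists_smul_eq N R₁ (R.subtype hRN)
  have hconj : ∀ s ∈ S', (n : G) * s * (n : G)⁻¹ ∈ A := by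
    intro s hs
    have hsN : s ∈ N := hCN (hS'C hs)
    rw [← hC]
    refine ⟨?_, ?_⟩
    · have h1 : (⟨s, hsN⟩ : N) ∈ (R₁ : Subgroup N) := hR₁ (Subgroup.mem_subgroupOf.2 hs)
      have h2 : n * ⟨s, hsN⟩ * n⁻¹ ∈ ((n • R₁ : Sylow p N) : Subgroup N) := by
        rw [Sylow.smul_def, Sylow.pointwise_smul_def]
        rw [Subgroup.mem_pointwise_smul_iff_inv_smul_mem]
        simp only [MulAut.smul_def, MulAut.inv_apply, MulAut.conj_symm_apply]
        have e : n⁻¹ * (n * ⟨s, hsN⟩ * n⁻¹) * n = ⟨s, hsN⟩ := by group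
        rw [e]; exact h1
      rw [hn, Sylow.coe_subtype, Subgroup.mem_subgroupOf] at h2
      simp only [Subgroup.coe_mul, Subgroup.coe_inv] at h2
      exact h2
    · -- n s n⁻¹ centralizes A
      change (n : G) * s * (n : G)⁻¹ ∈ Subgroup.centralizer (A : Set G)
      rw [Subgroup.mem_centralizer_iff]
      intro a ha
      have hn' : (n : G)⁻¹ ∈ N := inv_mem n.2
      have ha' : (n : G)⁻¹ * a * (n : G)⁻¹⁻¹ ∈ A := (Subgroup.mem_normalizer_iff.1 hn' a).1 ha
      have hsc := (Subgroup.mem_centralizer_iff.1 (hS'C hs)) _ ha'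
      -- hsc : (n⁻¹ a n) * s = s * (n⁻¹ a n)
      have : a * ((n : G) * s * (n : G)⁻¹) = (n : G) * (((n : G)⁻¹ * a * (n : G)⁻¹⁻¹) * s) * (n : G)⁻¹ := by group
      rw [this, hsc]; group
  have hcard : Nat.card S' ≤ Nat.card A := by
    let f : S' → A := fun s => ⟨(n : G) * s * (n : G)⁻¹, hconj s s.2⟩
    have hf : Function.Injective f := by
      intro s t hst
      have h1 : (n : G) * s * (n : G)⁻¹ = (n : G) * t * (n : G)⁻¹ := congrArg Subtype.val hst
      have h2 := mul_left_cancel (mul_right_cancel h1)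
      exact Subtype.ext h2
    exact Nat.card_le_card_of_injective f hf
  have hS'A : S' = A := (Subgroup.eq_of_le_of_card_ge hAS' hcard).symm
  -- Step 4: Burnside
  have hScent : Subgroup.normalizer ((S : Subgroup C) : Set C) ≤ Subgroup.centralizer ((S : Subgroup C) : Set C) := by
    intro c _
    rw [Subgroup.mem_centralizer_iff]
    intro x hx
    have hxA : (x : G) ∈ A := by
      rw [← hS'A]; exact Subgroup.mem_map.2 ⟨x, hx, rfl⟩
    have := (Subgroup.mem_centralizer_iff.1 c.2) (x : G) hxA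
    ext
    simpa using this
  obtain ⟨K, hKn, hcompl, hKp⟩ : ∃ K : Subgroup C, K.Normal ∧
      Subgroup.IsComplement' K (S : Subgroup C) ∧ ¬ p ∣ Nat.card K :=
    ⟨_, MonoidHom.normal_ker _, MonoidHom.ker_transferSylow_isComplement' S hScent,
      MonoidHom.not_dvd_card_ker_transferSylow S hScent⟩
  refine ⟨K.map C.subtype, Subgroup.map_subtype_le _, ?_, ?_, ?_, ?_⟩
  · rw [Subgroup.card_map_of_injective (Subgroup.subtype_injective C)]
    exact ((Nat.Prime.coprime_iff_not_dvd Fact.out).2 hKp).symm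
  · intro c hc
    rw [Subgroup.mem_normalizer_iff]
    intro h
    constructor
    · rintro ⟨k, hk, rfl⟩
      refine ⟨⟨c, hc⟩ * k * ⟨c, hc⟩⁻¹, hKn.conj_mem k hk ⟨c, hc⟩, by simp⟩
    · rintro ⟨k, hk, hk2⟩
      have hhC : h ∈ C := by
        have : h = c⁻¹ * (c * h * c⁻¹) * c := by group
        rw [this, ← hk2]
        exact mul_mem (mul_mem (inv_mem hc) k.2) hc
      refine ⟨⟨h, hhC⟩, ?_, rfl⟩
      have : (⟨h, hhC⟩ : C) = ⟨c, hc⟩⁻¹ * k * ⟨c, hc⟩⁻¹⁻¹ := by
        ext
        simp only [Subgroup.coe_mul, Subgroup.coe_inv, inv_inv]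
        have : ((k : C) : G) = c * h * c⁻¹ := hk2
        rw [this]; group
      rw [this]
      exact hKn.conj_mem k hk _
  · rw [eq_bot_iff]
    rintro x ⟨⟨k, hk, rfl⟩, hxA⟩
    have hkS : k ∈ (S : Subgroup C) := by
      have : (k : G) ∈ S' := by rw [hS'A]; exact hxA
      obtain ⟨s, hs, hs2⟩ := Subgroup.mem_map.1 this
      have : s = k := Subtype.ext hs2
      rw [← this]; exact hs
    have hbot := hcompl.disjoint
    have : k ∈ K ⊓ (S : Subgroup C) := ⟨hk, hkS⟩
    rw [disjoint_iff.1 hbot, Subgroup.mem_bot] at this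
    rw [this]; simp
  · have h1 := hcompl.sup_eq_top
    have h2 := congrArg (Subgroup.map C.subtype) h1
    rw [Subgroup.map_sup] at h2
    have h3 : (⊤ : Subgroup C).map C.subtype = C := by
      rw [← MonoidHom.range_eq_map, Subgroup.range_subtype]
    rw [h3] at h2
    rw [← hS'A]
    exact h2

end Cfsg.Agent.S0125
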