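import Mathlib
import Cfsg.Statements.S0131

set_option autoImplicit false
open Cfsg
open scoped commutatorElement

namespace Cfsg.Agent.S0131

/-- P/P' has a normal complement in G exactly when the focal subgroup G' ∩ P is as small as possible, namely P'. -/
theorem result {G : Type*} [Group G] [Finite G] {p : ℕ} [Fact p.Prime] (P : Sylow p G) : (∃ N : Subgroup G, N.Normal ∧ N ⊓ (P : Subgroup G) = ⁅(P : Subgroup G), (P : Subgroup G)⁆ ∧ N ⊔ (P : Subgroup G) = ⊤) ↔ commutator G ⊓ (P : Subgroup G) = ⁅(P : Subgroup G), (P : Subgroup G)⁆ := by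
  classical
  have hPP : ⁅(P : Subgroup G), (P : Subgroup G)⁆ ≤ (P : Subgroup G) := by
    rw [Subgroup.commutator_le]
    intro a ha b hb
    exact (P : Subgroup G).mul_mem ((P : Subgroup G).mul_mem ((P : Subgroup G).mul_mem ha hb)
      ((P : Subgroup G).inv_mem ha)) ((P : Subgroup G).inv_mem hb)
  have hPG : ⁅(P : Subgroup G), (P : Subgroup G)⁆ ≤ commutator G := by
    rw [commutator_def]
    exact Subgroup.commutator_mono le_top le_top
  constructor
  · rintro ⟨N, hN, hNP, hsup⟩
    apply le_antisymm
    · rw [← hNP]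
      refine inf_le_inf_right _ ?_
      -- commutator G ≤ N
      rw [commutator_def, Subgroup.commutator_le]
      intro a _ b _
      have ha : a ∈ N ⊔ (P : Subgroup G) := by rw [hsup]; trivial
      have hb : b ∈ N ⊔ (P : Subgroup G) := by rw [hsup]; trivial
      rw [← SetLike.mem_coe, Subgroup.normal_mul] at ha hb
      obtain ⟨n₁, hn₁, p₁, hp₁, rfl⟩ := Set.mem_mul.1 ha
      obtain ⟨n₂, hn₂, p₂, hp₂, rfl⟩ := Set.mem_mul.1 hb
      rw [← QuotientGroup.eq_one_iff]
      have e1 : ((n₁ : G) : G ⧸ N) = 1 := (QuotientGroup.eq_one_iff n₁).2 hn₁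
      have e2 : ((n₂ : G) : G ⧸ N) = 1 := (QuotientGroup.eq_one_iff n₂).2 hn₂
      have e3 : ((⁅n₁ * p₁, n₂ * p₂⁆ : G) : G ⧸ N) = ((⁅p₁, p₂⁆ : G) : G ⧸ N) := by
        simp only [commutatorElement_def, QuotientGroup.mk_mul, QuotientGroup.mk_inv, e1, e2,
          one_mul]
      rw [e3, QuotientGroup.eq_one_iff]
      have : ⁅p₁, p₂⁆ ∈ N ⊓ (P : Subgroup G) := by
        rw [hNP]
        exact Subgroup.commutator_mem_commutator hp₁ hp₂
      exact this.1
    · exact le_inf hPG hPP
  · intro hfoc
    set m := (P : Subgroup G).index with hm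
    have hmp : ¬ p ∣ m := P.not_dvd_index
    -- N = {g | g ^ m ∈ G'}
    let π := QuotientGroup.mk' (commutator G)
    have hcomm : IsMulCommutative (G ⧸ commutator G) :=
      Subgroup.Normal.quotient_commutative_iff_commutator_le.2 le_rfl
    let _ : CommGroup (G ⧸ commutator G) := { (inferInstance : Group (G ⧸ commutator G)) with
      mul_comm := fun a b => mul_comm' a b }
    let K : Subgroup (G ⧸ commutator G) := (powMonoidHom m : (G ⧸ commutator G) →* _).ker
    let N : Subgroup G := K.comap π
    have hNmem : ∀ g : G, g ∈ N ↔ g ^ m ∈ commutator G := by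
      intro g
      change π g ∈ K ↔ _
      rw [MonoidHom.mem_ker, powMonoidHom_apply, ← map_pow, QuotientGroup.mk'_apply,
        QuotientGroup.eq_one_iff]
    have hNn : N.Normal := by
      have hK : K.Normal := Subgroup.normal_of_isMulCommutative K
      exact Subgroup.Normal.comap hK π
    have hGN : commutator G ≤ N := by
      intro g hg
      rw [hNmem]
      exact Subgroup.pow_mem _ hg m
    refine ⟨N, hNn, ?_, ?_⟩
    · apply le_antisymm
      · rintro g ⟨hgN, hgP⟩
        rw [← hfoc]
        refine ⟨?_, hgP⟩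
        have hgN' := (hNmem g).1 hgN
        obtain ⟨j, hj⟩ := (IsPGroup.iff_orderOf.1 P.2) ⟨g, hgP⟩
        have hj' : orderOf g = p ^ j := by
          rw [← hj]; exact (Subgroup.orderOf_mk g hgP).symm
        have hcop : Nat.Coprime m (orderOf g) := by
          rw [hj']
          exact Nat.Coprime.pow_right j ((Nat.Prime.coprime_iff_not_dvd Fact.out).2 hmp).symm
        -- g is a power of g^m
        obtain ⟨u, hu⟩ := exists_pow_eq_self_of_coprime hcop
        rw [← hu]
        exact Subgroup.pow_mem _ hgN' u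
      · exact le_inf (hPG.trans hGN) hPP
    · -- index argument
      have hdvd1 : (N ⊔ (P : Subgroup G)).index ∣ N.index := Subgroup.index_dvd_of_le le_sup_left
      have hdvd2 : (N ⊔ (P : Subgroup G)).index ∣ m := Subgroup.index_dvd_of_le le_sup_right
      have hNp : IsPGroup p (G ⧸ N) := by
        intro x
        obtain ⟨g, rfl⟩ := QuotientGroup.mk_surjective x
        obtain ⟨a, ha⟩ := (IsPGroup.iff_card.1 P.2)
        refine ⟨a, ?_⟩
        rw [← QuotientGroup.mk_pow, QuotientGroup.eq_one_iff, hNmem, ← pow_mul]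
        have hcard : p ^ a * m = Nat.card G := by
          rw [← ha, hm]
          exact Subgroup.card_mul_index (P : Subgroup G)
        rw [hcard, pow_card_eq_one']
        exact Subgroup.one_mem _
      obtain ⟨b, hb⟩ := IsPGroup.iff_card.1 hNp
      have hNidx : N.index = p ^ b := by
        rw [Subgroup.index_eq_card]; exact hb
      rw [hNidx] at hdvd1
      obtain ⟨c, _, hc⟩ := (Nat.dvd_prime_pow Fact.out).1 hdvd1
      have hc0 : c = 0 := by
        by_contra hne
        apply hmp
        have : p ∣ (N ⊔ (P : Subgroup G)).index := by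
          rw [hc]; exact dvd_pow_self p hne
        exact this.trans hdvd2
      rw [hc0, pow_zero] at hc
      exact Subgroup.index_eq_one.1 hc

end Cfsg.Agent.S0131
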