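import Mathlib
import Cfsg.Statements.S0134
import Cfsg.Agent.Lib.Helper24.CharComplete

set_option autoImplicit false
open Cfsg

namespace Cfsg.Agent.S0134

open Cfsg.Agent.Helper24

theorem result {G : Type*} [Group G] [Finite G] : ∑ᶠ χ : Cfsg.IrrCharacter G, (χ : G → ℂ) 1 ^ 2 = (Nat.card G : ℂ) := by
  letI := Fintype.ofFinite G
  letI := irrFintype (G := G)
  rw [finsum_eq_sum_of_fintype]
  have h := sum_charDegree_sq (G := G)
  have h2 : ∀ χ : IrrCharacter G, (χ : G → ℂ) 1 ^ 2 = ((charDegree (χ : G → ℂ) ^ 2 : ℕ) : ℂ) := by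
    intro χ
    rw [irr_one_eq_charDegree χ.2]
    push_cast
    rfl
  simp only [h2]
  rw [← Nat.cast_sum, h]

end Cfsg.Agent.S0134
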