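import Mathlib
import Cfsg.Statements.S0145
import Cfsg.Agent.Lib.Helper24.CharComplete

set_option autoImplicit false
open scoped ComplexConjugate
open Cfsg

namespace Cfsg.Agent.S0145

open Cfsg.Agent.Helper24

theorem card_conj_symm {G : Type*} [Group G] (g h : G) :
    Nat.card {y : G // y * h * y⁻¹ = g} = Nat.card {y : G // y * g * y⁻¹ = h} := by
  apply Nat.card_congr
  refine ⟨fun y => ⟨y.1⁻¹, ?_⟩, fun y => ⟨y.1⁻¹, ?_⟩, fun y => by simp, fun y => by simp⟩
  · obtain ⟨y, hy⟩ := y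
    simp only
    rw [← hy]; group
  · obtain ⟨y, hy⟩ := y
    simp only
    rw [← hy]; group

theorem result {G : Type*} [Group G] [Finite G] (g h : G) : (IsConj g h → ∑ᶠ χ : Cfsg.IrrCharacter G, (χ : G → ℂ) g * conj ((χ : G → ℂ) h) = (Nat.card (Subgroup.centralizer ({g} : Set G)) : ℂ)) ∧ (¬ IsConj g h → ∑ᶠ χ : Cfsg.IrrCharacter G, (χ : G → ℂ) g * conj ((χ : G → ℂ) h) = 0) := by
  letI := Fintype.ofFinite G
  letI := irrFintype (G := G)
  rw [finsum_eq_sum_of_fintype, second_orthogonality, card_conj_symm]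
  constructor
  · intro hc
    rw [card_conj_eq_of_isConj hc]
  · intro hc
    rw [card_conj_eq_zero_of_not_isConj hc, Nat.cast_zero]

end Cfsg.Agent.S0145
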