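import Mathlib
import Cfsg.Statements.S0136
import Cfsg.Agent.S0145

set_option autoImplicit false
open scoped ComplexConjugate
open Cfsg

namespace Cfsg.Agent.S0136

open Cfsg.Agent.Helper24

theorem result {G : Type*} [Group G] [Finite G] (g h : G) : IsConj g h ↔ ∀ χ : Cfsg.IrrCharacter G, (χ : G → ℂ) g = (χ : G → ℂ) h := by
  constructor
  · intro hc χ
    obtain ⟨c, hc⟩ := isConj_iff.mp hc
    rw [← hc]
    obtain ⟨n, ρ, -, hρ⟩ := χ.2
    rw [← hρ]
    exact (Representation.char_conj ρ g c).symm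
  · intro hχ
    by_contra hc
    have h1 := (Cfsg.Agent.S0145.result g h).2 hc
    have h2 := (Cfsg.Agent.S0145.result h h).1 (IsConj.refl h)
    have h3 : ∑ᶠ χ : Cfsg.IrrCharacter G, (χ : G → ℂ) g * conj ((χ : G → ℂ) h) =
        ∑ᶠ χ : Cfsg.IrrCharacter G, (χ : G → ℂ) h * conj ((χ : G → ℂ) h) := by
      congr 1
      ext χ
      rw [hχ χ]
    rw [h3, h2] at h1
    have hpos : 0 < Nat.card (Subgroup.centralizer ({h} : Set G)) := Nat.card_pos
    have : (Nat.card (Subgroup.centralizer ({h} : Set G)) : ℂ) ≠ 0 := by exact_mod_cast hpos.ne'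
    exact this h1

end Cfsg.Agent.S0136
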