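import Mathlib
import Cfsg.Statements.S0137
import Cfsg.Agent.Lib.Helper23.CharValues

set_option autoImplicit false
open Cfsg

namespace Cfsg.Agent.S0137

/-- A character value of a finite group has absolute value at most the degree of the representation. -/
theorem result {G : Type*} [Group G] [Finite G] {V : Type*} [AddCommGroup V] [Module ℂ V] [FiniteDimensional ℂ V] (ρ : Representation ℂ G V) (g : G) : ‖ρ.character g‖ ≤ (Module.finrank ℂ V : ℝ) := by
  obtain ⟨s, hcard, hs, hsum⟩ := Cfsg.Agent.Helper23.exists_multiset_roots_of_unity ρ g (orderOf g)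
    (pow_orderOf_eq_one g)
  have hpos : 0 < orderOf g := orderOf_pos g
  have hnorm : ∀ μ ∈ s, ‖μ‖ = 1 := fun μ hμ =>
    Complex.norm_eq_one_of_pow_eq_one (hs μ hμ) hpos.ne'
  rw [hsum, ← hcard]
  calc ‖s.sum‖ ≤ (s.map (fun μ => ‖μ‖)).sum := norm_multiset_sum_le s
    _ = (s.map (fun _ => (1 : ℝ))).sum := by
        congr 1
        exact Multiset.map_congr rfl hnorm
    _ = (Multiset.card s : ℝ) := by
        rw [Multiset.map_const', Multiset.sum_replicate]; simp

end Cfsg.Agent.S0137
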