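import Mathlib
import Cfsg.Statements.S0138
import Cfsg.Agent.Lib.Helper23.CharValues

set_option autoImplicit false
open Cfsg

namespace Cfsg.Agent.S0138

/-- A character value has absolute value equal to the degree exactly when the group element acts by a scalar. -/
theorem result {G : Type*} [Group G] [Finite G] {V : Type*} [AddCommGroup V] [Module ℂ V] [FiniteDimensional ℂ V] (ρ : Representation ℂ G V) (g : G) : ‖ρ.character g‖ = (Module.finrank ℂ V : ℝ) ↔ ∃ ω : ℂ, ρ g = ω • (LinearMap.id : V →ₗ[ℂ] V) := by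
  have hpos : 0 < orderOf g := orderOf_pos g
  constructor
  · intro h
    obtain ⟨hcard, hs, hsum⟩ := Cfsg.Agent.Helper23.roots_charpoly_spec ρ g (orderOf g)
      (pow_orderOf_eq_one g)
    set s := (ρ g).charpoly.roots with hsdef
    have hnorm : ∀ μ ∈ s, ‖μ‖ = 1 := fun μ hμ =>
      Complex.norm_eq_one_of_pow_eq_one (hs μ hμ) hpos.ne'
    have hn : ‖s.sum‖ = (Multiset.card s : ℝ) := by
      rw [← hsum, h, hcard]
    obtain ⟨ω, hω⟩ := Cfsg.Agent.Helper23.multiset_const_of_norm_sum_eq_card s hnorm hn
    exact ⟨ω, Cfsg.Agent.Helper23.eq_smul_id_of_roots_eq ρ g (orderOf g) hpos (pow_orderOf_eq_one g) ω hω⟩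
  · rintro ⟨ω, hω⟩
    have hchar : ρ.character g = ω * (Module.finrank ℂ V : ℂ) := by
      unfold Representation.character
      rw [hω, map_smul, LinearMap.trace_id, smul_eq_mul]
    rw [hchar, norm_mul, Complex.norm_natCast]
    by_cases hV : Module.finrank ℂ V = 0
    · rw [hV]; simp
    · have hnt : Nontrivial V := Module.nontrivial_of_finrank_pos (Nat.pos_of_ne_zero hV)
      obtain ⟨v, hv⟩ := exists_ne (0 : V)
      have h2 : (ρ g) ^ orderOf g = 1 := by rw [← map_pow, pow_orderOf_eq_one, map_one]
      have h3 : ((ρ g) ^ orderOf g) v = ω ^ orderOf g • v := by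
        rw [hω]
        rw [smul_pow]
        simp
      rw [h2] at h3
      have h4 : (ω ^ orderOf g - 1) • v = 0 := by
        rw [sub_smul, one_smul, ← h3]; simp
      have h5 : ω ^ orderOf g = 1 := by
        rcases smul_eq_zero.1 h4 with h | h
        · exact sub_eq_zero.1 h
        · exact absurd h hv
      rw [Complex.norm_eq_one_of_pow_eq_one h5 hpos.ne', one_mul]

end Cfsg.Agent.S0138
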