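import Mathlib
import Cfsg.Statements.S0139
import Cfsg.Agent.Lib.Helper23.CharValues

set_option autoImplicit false
open Cfsg

namespace Cfsg.Agent.S0139

/-- The kernel of a complex representation of a finite group is the set of elements where the character equals the degree. -/
theorem result {G : Type*} [Group G] [Finite G] {V : Type*} [AddCommGroup V] [Module ℂ V] [FiniteDimensional ℂ V] (ρ : Representation ℂ G V) (g : G) : ρ.character g = (Module.finrank ℂ V : ℂ) ↔ ρ g = LinearMap.id := by
  constructor
  · intro h
    have hpos : 0 < orderOf g := orderOf_pos g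
    obtain ⟨hcard, hs, hsum⟩ := Cfsg.Agent.Helper23.roots_charpoly_spec ρ g (orderOf g)
      (pow_orderOf_eq_one g)
    set s := (ρ g).charpoly.roots with hsdef
    have hnorm : ∀ μ ∈ s, ‖μ‖ = 1 := fun μ hμ =>
      Complex.norm_eq_one_of_pow_eq_one (hs μ hμ) hpos.ne'
    have hn : ‖s.sum‖ = (Multiset.card s : ℝ) := by
      rw [← hsum, h, hcard]; simp
    obtain ⟨ω, hω⟩ := Cfsg.Agent.Helper23.multiset_const_of_norm_sum_eq_card s hnorm hn
    have hall : ∀ μ ∈ s, μ = 1 := by
      by_cases hs0 : s = 0
      · intro μ hμ; rw [hs0] at hμ; simp at hμ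
      · have hrep : s = Multiset.replicate (Multiset.card s) ω := Multiset.eq_replicate.2 ⟨rfl, hω⟩
        have hsum2 : s.sum = (Multiset.card s : ℂ) * ω := by
          conv_lhs => rw [hrep]
          rw [Multiset.sum_replicate, nsmul_eq_mul]
        have hcne : (Multiset.card s : ℂ) ≠ 0 := by
          exact_mod_cast (Multiset.card_pos.2 hs0).ne'
        have hω1 : ω = 1 := by
          have : (Multiset.card s : ℂ) * ω = (Multiset.card s : ℂ) * 1 := by
            rw [← hsum2, ← hsum, h, hcard, mul_one]
          exact mul_left_cancel₀ hcne this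
        intro μ hμ
        rw [hω μ hμ, hω1]
    have := Cfsg.Agent.Helper23.eq_smul_id_of_roots_eq ρ g (orderOf g) hpos (pow_orderOf_eq_one g) 1 hall
    rw [this, one_smul]
  · intro h
    unfold Representation.character
    rw [h]
    exact LinearMap.trace_id ℂ V

end Cfsg.Agent.S0139
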