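import Mathlib
import Cfsg.Statements.S0140
import Cfsg.Agent.Lib.Helper23.CharValues

set_option autoImplicit false
open Cfsg

namespace Cfsg.Agent.S0140

/-- Every value of the character of a complex representation of a finite group is an algebraic integer. -/
theorem result {G : Type*} [Group G] [Finite G] {V : Type*} [AddCommGroup V] [Module ℂ V] [FiniteDimensional ℂ V] (ρ : Representation ℂ G V) (g : G) : IsIntegral ℤ (ρ.character g) := by
  obtain ⟨s, hcard, hs, hsum⟩ := Cfsg.Agent.Helper23.exists_multiset_roots_of_unity ρ g (orderOf g)
    (pow_orderOf_eq_one g)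
  have hpos : 0 < orderOf g := orderOf_pos g
  rw [hsum]
  apply IsIntegral.multiset_sum
  intro μ hμ
  exact IsIntegral.of_pow hpos (by rw [hs μ hμ]; exact isIntegral_one)

end Cfsg.Agent.S0140
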