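import Mathlib
import Cfsg.Statements.S0146

set_option autoImplicit false
open Cfsg

namespace Cfsg.Agent.S0146

/-- Frobenius reciprocity for the induction map on functions: pairing the induced function with a class function of the big group equals pairing the original function with the restriction. -/
theorem result {G : Type*} [Group G] [Fintype G] (H : Subgroup G) [Fintype H] (θ : H → ℂ) (χ : G → ℂ) (hχ : Cfsg.IsClassFunction G χ) : Cfsg.classInner (Cfsg.indFun H θ) χ = Cfsg.classInner θ (fun h : H => χ h) := by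
  classical
  unfold Cfsg.classInner Cfsg.indFun
  have hG : (Nat.card G : ℂ) ≠ 0 := by
    exact_mod_cast (Nat.card_pos (α := G)).ne'
  -- key: for each x, sum over g of ext θ (x⁻¹ g x) * conj χ g = sum over h of θ h * conj χ h
  have hext : ∀ y : G, Cfsg.extendByZero H θ y = if hy : y ∈ H then θ ⟨y, hy⟩ else 0 := by
    intro y
    unfold Cfsg.extendByZero
    by_cases hy : y ∈ H
    · rw [dif_pos hy]
      have : y = ((⟨y, hy⟩ : H) : G) := rfl
      conv_lhs => rw [this]
      exact Subtype.val_injective.extend_apply θ 0 ⟨y, hy⟩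
    · rw [dif_neg hy]
      apply Function.extend_apply'
      rintro ⟨a, ha⟩
      exact hy (ha ▸ a.2)
  have hsumH : ∀ c : G → ℂ, ∑ y : G, Cfsg.extendByZero H θ y * c y =
      ∑ h : H, θ h * c h := by
    intro c
    have h1 : ∑ y : G, Cfsg.extendByZero H θ y * c y =
        ∑ y ∈ Finset.univ.filter (fun y : G => y ∈ H), Cfsg.extendByZero H θ y * c y := by
      rw [Finset.sum_filter]
      apply Finset.sum_congr rfl
      intro y _
      by_cases hy : y ∈ H
      · rw [if_pos hy]
      · rw [if_neg hy, hext y, dif_neg hy, zero_mul]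
    rw [h1, Finset.sum_subtype (Finset.univ.filter (fun y : G => y ∈ H)) (p := fun y => y ∈ H)
      (by intro x; simp) (fun y => Cfsg.extendByZero H θ y * c y)]
    apply Finset.sum_congr rfl
    intro h _
    rw [hext h, dif_pos h.2]
  -- swap sums and reindex
  have hH : (Nat.card H : ℂ) ≠ 0 := by
    exact_mod_cast (Nat.card_pos (α := H)).ne'
  have key : ∑ g : G, (∑ x : G, Cfsg.extendByZero H θ (x⁻¹ * g * x)) * (starRingEnd ℂ) (χ g) =
      (Nat.card G : ℂ) * ∑ h : H, θ h * (starRingEnd ℂ) (χ h) := by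
    simp_rw [Finset.sum_mul]
    rw [Finset.sum_comm]
    have : ∀ x : G, ∑ g : G, Cfsg.extendByZero H θ (x⁻¹ * g * x) * (starRingEnd ℂ) (χ g) =
        ∑ h : H, θ h * (starRingEnd ℂ) (χ h) := by
      intro x
      rw [← hsumH (fun y => (starRingEnd ℂ) (χ y))]
      -- reindex g = x * y * x⁻¹
      rw [← Equiv.sum_comp (MulAut.conj x).toEquiv
        (fun g => Cfsg.extendByZero H θ (x⁻¹ * g * x) * (starRingEnd ℂ) (χ g))]
      apply Finset.sum_congr rfl
      intro y _
      simp only [MulEquiv.toEquiv_eq_coe, EquivLike.coe_coe, MulAut.conj_apply]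
      rw [hχ y x]
      congr 2
      group
    rw [Finset.sum_congr rfl (fun x _ => this x)]
    rw [Finset.sum_const, Finset.card_univ, nsmul_eq_mul, Nat.card_eq_fintype_card]
  calc (Nat.card G : ℂ)⁻¹ * ∑ g : G, ((Nat.card H : ℂ)⁻¹ * ∑ x : G, Cfsg.extendByZero H θ (x⁻¹ * g * x)) * (starRingEnd ℂ) (χ g)
      = (Nat.card G : ℂ)⁻¹ * ((Nat.card H : ℂ)⁻¹ * ∑ g : G, (∑ x : G, Cfsg.extendByZero H θ (x⁻¹ * g * x)) * (starRingEnd ℂ) (χ g)) := by
        congr 1
        rw [Finset.mul_sum]
        apply Finset.sum_congr rfl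
        intro g _
        ring
    _ = (Nat.card H : ℂ)⁻¹ * ∑ h : H, θ h * (starRingEnd ℂ) (χ h) := by
        rw [key]
        field_simp

end Cfsg.Agent.S0146
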