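import Mathlib
import Cfsg.Statements.S0151

set_option autoImplicit false
open Cfsg

namespace Cfsg.Agent.S0151

open Representation

/-- the bilinear pairing `|G|⁻¹ Σ φ(g) ψ(g⁻¹)` -/
noncomputable def pair {G : Type*} [Group G] [Fintype G] (φ ψ : G → ℂ) : ℂ :=
  (Nat.card G : ℂ)⁻¹ * ∑ g : G, φ g * ψ g⁻¹

theorem pair_irr {G : Type*} [Group G] [Fintype G] (χ ψ : Cfsg.IrrCharacter G) :
    pair (χ : G → ℂ) (ψ : G → ℂ) = if χ = ψ then 1 else 0 := by
  classical
  obtain ⟨n, ρ, hρ, hρχ⟩ := χ.2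
  obtain ⟨m, σ, hσ, hσψ⟩ := ψ.2
  haveI : Invertible (Nat.card G : ℂ) := by
    apply invertibleOfNonzero
    have : Nat.card G ≠ 0 := Nat.card_pos.ne'
    exact_mod_cast this
  have h := char_orthonormal ρ σ
  unfold pair
  rw [← hρχ, ← hσψ, h]
  by_cases hne : Nonempty (Equiv σ ρ)
  · obtain ⟨φ⟩ := hne
    have heq : χ = ψ := by
      apply Subtype.ext
      rw [← hρχ, ← hσψ]
      exact (char_iso φ).symm
    rw [if_pos ⟨φ⟩, if_pos heq]
  · rw [if_neg hne]
    by_cases heq : χ = ψ
    · exfalso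
      -- equal characters: then pairing with itself gives 1 but h says 0
      have h1 := char_orthonormal ρ ρ
      rw [if_pos ⟨Representation.Equiv.refl ρ⟩] at h1
      have h2 : σ.character = ρ.character := by
        rw [hρχ, hσψ, heq]
      rw [h2, h1, if_neg hne] at h
      simp at h
    · rw [if_neg heq]

theorem pair_sum_left {G : Type*} [Group G] [Fintype G] {ι : Type*} (s : Finset ι) (c : ι → ℂ)
    (v : ι → G → ℂ) (ψ : G → ℂ) :
    pair (∑ i ∈ s, c i • v i) ψ = ∑ i ∈ s, c i * pair (v i) ψ := by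
  unfold pair
  simp only [Finset.sum_apply, Pi.smul_apply, smul_eq_mul, Finset.sum_mul, Finset.mul_sum]
  rw [Finset.sum_comm]
  apply Finset.sum_congr rfl
  intro i _
  apply Finset.sum_congr rfl
  intro g _
  ring

theorem result {G : Type*} [Group G] [Finite G] : LinearIndependent ℂ (fun χ : Cfsg.IrrCharacter G => (χ : G → ℂ)) := by
  classical
  letI : Fintype G := Fintype.ofFinite G
  rw [linearIndependent_iff']
  intro s c hc j hj
  have h : pair (∑ i ∈ s, c i • (i : G → ℂ)) (j : G → ℂ) = pair (0 : G → ℂ) (j : G → ℂ) := by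
    rw [hc]
  rw [pair_sum_left] at h
  have hz : pair (0 : G → ℂ) (j : G → ℂ) = 0 := by
    unfold pair; simp
  rw [hz] at h
  simp only [pair_irr] at h
  rw [Finset.sum_eq_single j] at h
  · simpa using h
  · intro i _ hij
    rw [if_neg hij, mul_zero]
  · intro hj'
    exact absurd hj hj'

end Cfsg.Agent.S0151
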