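import Mathlib
import Cfsg.Statements.S0153
import Cfsg.Agent.Lib.Helper24.CharOrtho

set_option autoImplicit false
open Cfsg

namespace Cfsg.Agent.S0153

open Cfsg.Agent.Helper24 Module

universe u v w

section

variable {G : Type u} [Group G]

/-- The product of two equivalences of representations. -/
noncomputable def prodEquiv {V₁ : Type*} {V₂ : Type*} {W₁ : Type*} {W₂ : Type*}
    [AddCommGroup V₁] [Module ℂ V₁] [AddCommGroup V₂] [Module ℂ V₂]
    [AddCommGroup W₁] [Module ℂ W₁] [AddCommGroup W₂] [Module ℂ W₂]
    {ρ₁ : Representation ℂ G V₁} {ρ₂ : Representation ℂ G V₂}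
    {σ₁ : Representation ℂ G W₁} {σ₂ : Representation ℂ G W₂}
    (φ : ρ₁.Equiv σ₁) (ψ : ρ₂.Equiv σ₂) : (ρ₁.prod ρ₂).Equiv (σ₁.prod σ₂) :=
  Representation.Equiv.mk (φ.toLinearEquiv.prodCongr ψ.toLinearEquiv) (by
    intro g
    apply LinearMap.ext
    rintro ⟨v, w⟩
    simp only [LinearMap.coe_comp, LinearEquiv.coe_coe, Function.comp_apply,
      Representation.prod_apply_apply, LinearEquiv.prodCongr_apply, Prod.mk.injEq]
    exact ⟨Representation.IntertwiningMap.isIntertwining _ _ φ.toIntertwiningMap g v,
      Representation.IntertwiningMap.isIntertwining _ _ ψ.toIntertwiningMap g w⟩)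

/-- A representation is equivalent to the product of two complementary subrepresentations. -/
noncomputable def complEquiv {V : Type v} [AddCommGroup V] [Module ℂ V]
    {ρ : Representation ℂ G V} (A B : Subrepresentation ρ)
    (hc : IsCompl A.toSubmodule B.toSubmodule) :
    (A.toRepresentation.prod B.toRepresentation).Equiv ρ :=
  Representation.Equiv.mk (Submodule.prodEquivOfIsCompl _ _ hc) (by
    intro g
    ext ⟨v, hv⟩ <;> simp [Representation.prod, Subrepresentation.toRepresentation])

/-- A nontrivial finite-dimensional representation has an irreducible subrepresentation. -/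
theorem exists_irreducible_sub {V : Type v} [AddCommGroup V] [Module ℂ V]
    [FiniteDimensional ℂ V] [Nontrivial V] (ρ : Representation ℂ G V) :
    ∃ US : Subrepresentation ρ, US.toRepresentation.IsIrreducible := by
  classical
  have hP : ∃ k : ℕ, ∃ U : Subrepresentation ρ,
      U.toSubmodule ≠ ⊥ ∧ finrank ℂ U.toSubmodule = k :=
    ⟨_, ⊤, by
      show (⊤ : Submodule ℂ V) ≠ ⊥
      exact top_ne_bot, rfl⟩
  obtain ⟨U, hU0, hUk⟩ := Nat.find_spec hP
  have hmin : ∀ U' : Subrepresentation ρ, U'.toSubmodule ≠ ⊥ →
      Nat.find hP ≤ finrank ℂ U'.toSubmodule := fun U' h => Nat.find_min' hP ⟨U', h, rfl⟩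
  refine ⟨U, ?_⟩
  rw [isIrreducible_iff]
  refine ⟨Submodule.nontrivial_iff_ne_bot.mpr hU0, ?_⟩
  intro U₁ hU₁
  by_cases h0 : U₁ = ⊥
  · exact Or.inl h0
  · right
    let U₂ : Subrepresentation ρ :=
      ⟨U₁.map U.toSubmodule.subtype, by
        rintro g v ⟨x, hx, rfl⟩
        refine ⟨U.toRepresentation g x, hU₁ g x hx, rfl⟩⟩
    have hinj : Function.Injective U.toSubmodule.subtype := Subtype.val_injective
    have hfr : finrank ℂ U₂.toSubmodule = finrank ℂ U₁ :=
      (Submodule.equivMapOfInjective _ hinj U₁).symm.finrank_eq
    have hne : U₂.toSubmodule ≠ ⊥ := by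
      intro h
      apply h0
      have h2 : U₁.map U.toSubmodule.subtype = ⊥ := h
      rw [eq_bot_iff]
      intro x hx
      have h3 : U.toSubmodule.subtype x ∈ U₁.map U.toSubmodule.subtype :=
        Submodule.mem_map_of_mem hx
      rw [h2, Submodule.mem_bot] at h3
      rw [Submodule.mem_bot]
      exact hinj (h3.trans (map_zero _).symm)
    have h1 := hmin U₂ hne
    rw [hfr, ← hUk] at h1
    exact Submodule.eq_top_of_finrank_eq (le_antisymm (Submodule.finrank_le _) h1)

end

section

variable {G : Type u} [Group G] [Fintype G]

theorem equiv_aux (n : ℕ) :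
    ∀ (V : Type v) [AddCommGroup V] [Module ℂ V] [FiniteDimensional ℂ V]
      (W : Type w) [AddCommGroup W] [Module ℂ W] [FiniteDimensional ℂ W]
      (ρ : Representation ℂ G V) (σ : Representation ℂ G W),
      finrank ℂ V = n → ρ.character = σ.character → Nonempty (ρ.Equiv σ) := by
  classical
  induction n using Nat.strong_induction_on with
  | _ n ih =>
    intro V _ _ _ W _ _ _ ρ σ hn hchar
    haveI := neZero_card_complex (G := G)
    have hcard : (Nat.card G : ℂ) ≠ 0 := by exact_mod_cast (Nat.card_pos (α := G)).ne'
    haveI : Invertible (Nat.card G : ℂ) := invertibleOfNonzero hcard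
    have hdim : finrank ℂ W = finrank ℂ V := by
      have h1 := congrFun hchar 1
      rw [Representation.char_one, Representation.char_one] at h1
      exact_mod_cast h1.symm
    by_cases hV : Nontrivial V
    · -- split off an irreducible subrepresentation
      obtain ⟨US, hirr⟩ := exists_irreducible_sub ρ
      haveI : US.toRepresentation.IsIrreducible := hirr
      have hUnt : Nontrivial US.toSubmodule := ((isIrreducible_iff _).mp hirr).1
      obtain ⟨US', hcompl⟩ := exists_isCompl US
      have hc : IsCompl US.toSubmodule US'.toSubmodule := by
        constructor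
        · rw [disjoint_iff]
          exact congrArg Subrepresentation.toSubmodule hcompl.inf_eq_bot
        · rw [codisjoint_iff]
          exact congrArg Subrepresentation.toSubmodule hcompl.sup_eq_top
      have φV := complEquiv US US' hc
      have hcharV : ρ.character =
          US.toRepresentation.character + US'.toRepresentation.character := by
        rw [← char_prod]
        exact (Representation.char_iso φV).symm
      -- a nonzero intertwiner from the irreducible piece to `σ`
      have hfin1 := Representation.card_inv_mul_sum_char_mul_char_eq_finrank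
        US.toRepresentation σ
      have hfin2 := Representation.card_inv_mul_sum_char_mul_char_eq_finrank
        US.toRepresentation ρ
      rw [← hchar, hfin2] at hfin1
      have hfr : finrank ℂ (Representation.IntertwiningMap US.toRepresentation σ) =
          finrank ℂ (Representation.IntertwiningMap US.toRepresentation ρ) := by
        exact_mod_cast hfin1.symm
      let incl : Representation.IntertwiningMap US.toRepresentation ρ :=
        ⟨US.toSubmodule.subtype, by intro g; ext v; rfl⟩
      have hincl : incl ≠ 0 := by
        intro h
        obtain ⟨x, hx⟩ := exists_ne (0 : US.toSubmodule)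
        apply hx
        have h2 : incl x = (0 : Representation.IntertwiningMap US.toRepresentation ρ) x := by
          rw [h]
        exact Subtype.ext h2
      have hpos : 0 < finrank ℂ (Representation.IntertwiningMap US.toRepresentation ρ) :=
        finrank_pos_iff.mpr ⟨⟨incl, 0, hincl⟩⟩
      rw [← hfr] at hpos
      haveI := finrank_pos_iff.mp hpos
      obtain ⟨f, hf⟩ := exists_ne (0 : Representation.IntertwiningMap US.toRepresentation σ)
      have hfinj : Function.Injective f :=
        (Representation.IsIrreducible.injective_or_eq_zero f).resolve_right hf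
      -- the image
      let WS : Subrepresentation σ := f.range
      obtain ⟨WS', hcomplW⟩ := exists_isCompl WS
      have hcW : IsCompl WS.toSubmodule WS'.toSubmodule := by
        constructor
        · rw [disjoint_iff]
          exact congrArg Subrepresentation.toSubmodule hcomplW.inf_eq_bot
        · rw [codisjoint_iff]
          exact congrArg Subrepresentation.toSubmodule hcomplW.sup_eq_top
      have φW := complEquiv WS WS' hcW
      have hcharW : σ.character =
          WS.toRepresentation.character + WS'.toRepresentation.character := by
        rw [← char_prod]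
        exact (Representation.char_iso φW).symm
      have e1 : US.toRepresentation.Equiv WS.toRepresentation :=
        Representation.Equiv.mk (LinearEquiv.ofInjective f.toLinearMap hfinj) (by
          intro g
          ext v
          exact Representation.IntertwiningMap.isIntertwining _ _ f g v)
      have hchar1 := Representation.char_iso e1
      have hchar2 : US'.toRepresentation.character = WS'.toRepresentation.character := by
        have h3 := hchar
        rw [hcharV, hcharW, hchar1] at h3
        exact add_left_cancel h3
      have hlt : finrank ℂ US'.toSubmodule < n := by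
        have h4 := Submodule.finrank_add_eq_of_isCompl hc
        have h5 : 0 < finrank ℂ US.toSubmodule := finrank_pos
        omega
      obtain ⟨e2⟩ := ih _ hlt US'.toSubmodule WS'.toSubmodule US'.toRepresentation
        WS'.toRepresentation rfl hchar2
      exact ⟨(φV.symm.trans (prodEquiv e1 e2)).trans φW⟩
    · rw [not_nontrivial_iff_subsingleton] at hV
      have h0 : finrank ℂ V = 0 := finrank_zero_of_subsingleton
      have hW : Subsingleton W := by
        rw [h0] at hdim
        exact finrank_zero_iff.mp hdim
      refine ⟨Representation.Equiv.mk (LinearEquiv.ofSubsingleton V W) ?_⟩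
      intro g
      ext v
      exact Subsingleton.elim _ _

end

theorem result {G : Type*} [Group G] [Finite G] {V W : Type*} [AddCommGroup V] [Module ℂ V] [FiniteDimensional ℂ V] [AddCommGroup W] [Module ℂ W] [FiniteDimensional ℂ W] (ρ : Representation ℂ G V) (σ : Representation ℂ G W) (h : ρ.character = σ.character) : Nonempty (ρ.Equiv σ) := by
  haveI := Fintype.ofFinite G
  exact equiv_aux _ V W ρ σ rfl h

end Cfsg.Agent.S0153
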