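import Mathlib
import Cfsg.Statements.S0156
import Cfsg.Agent.Lib.Helper24.CharComplete
import Cfsg.Agent.S0155

set_option autoImplicit false
open Cfsg

namespace Cfsg.Agent.S0156

open Cfsg.Agent.Helper24
open scoped ComplexConjugate

theorem result {G : Type*} [Group G] [Fintype G] : (Representation.leftRegular ℂ G).character = ∑ᶠ χ : Cfsg.IrrCharacter G, (χ : G → ℂ) 1 • (χ : G → ℂ) := by
  classical
  letI := irrFintype (G := G)
  rw [finsum_eq_sum_of_fintype]
  ext g
  rw [Cfsg.Agent.S0155.result g]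
  simp only [Finset.sum_apply, Pi.smul_apply, smul_eq_mul]
  have h := second_orthogonality g (1 : G)
  have h2 : ∀ χ : IrrCharacter G, (χ : G → ℂ) g * conj ((χ : G → ℂ) 1) = (χ : G → ℂ) 1 * (χ : G → ℂ) g := by
    intro χ
    rw [irr_one_eq_charDegree χ.2, Complex.conj_natCast, mul_comm]
  simp only [h2] at h
  rw [h]
  split_ifs with hg
  · subst hg
    congr 1
    apply Nat.card_congr
    exact ⟨fun y => ⟨y, by simp⟩, fun y => y.1, fun y => rfl, fun y => rfl⟩
  · have : IsEmpty {y : G // y * 1 * y⁻¹ = g} := by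
      constructor
      rintro ⟨y, hy⟩
      apply hg
      rw [← hy]; simp
    rw [Nat.card_of_isEmpty, Nat.cast_zero]

end Cfsg.Agent.S0156
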