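import Mathlib
import Cfsg.Statements.S0158
import Cfsg.Agent.Lib.Helper24.CharAlgebra

set_option autoImplicit false
set_option linter.style.haveILetI false
open Cfsg

namespace Cfsg.Agent.S0158

open Cfsg.Agent.Helper24
open scoped ComplexConjugate
open Matrix

section Mat

variable {n : ℕ}

theorem trace_matrixEnd (f : Matrix (Fin n) (Fin n) ℂ →ₗ[ℂ] Matrix (Fin n) (Fin n) ℂ) :
    LinearMap.trace ℂ _ f = ∑ i, ∑ j, f (Matrix.single i j 1) i j := by
  rw [LinearMap.trace_eq_matrix_trace ℂ (Matrix.stdBasis ℂ (Fin n) (Fin n)), Matrix.trace,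
    Fintype.sum_prod_type]
  refine Finset.sum_congr rfl fun i _ => Finset.sum_congr rfl fun j _ => ?_
  rw [Matrix.diag_apply, LinearMap.toMatrix_apply, Matrix.stdBasis_eq_single]
  simp [Matrix.stdBasis]

theorem entry_aux (A : Matrix (Fin n) (Fin n) ℂ) (i j a b : Fin n) :
    (A * Matrix.single i j (1 : ℂ) * Aᵀ) a b = A a i * A b j := by
  rw [Matrix.mul_apply]
  rw [Finset.sum_eq_single j]
  · rw [Matrix.mul_single_apply_same, Matrix.transpose_apply, mul_one]
  · intro k _ hk
    rw [Matrix.mul_single_apply_of_ne (hbj := hk), zero_mul]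
  · intro h; exact absurd (Finset.mem_univ _) h

/-- The tensor square of a matrix acting on matrices: `X ↦ A X Aᵀ`. -/
def Lmap (A : Matrix (Fin n) (Fin n) ℂ) : Module.End ℂ (Matrix (Fin n) (Fin n) ℂ) where
  toFun X := A * X * Aᵀ
  map_add' X Y := by rw [mul_add, add_mul]
  map_smul' c X := by simp

theorem Lmap_apply (A X : Matrix (Fin n) (Fin n) ℂ) : Lmap A X = A * X * Aᵀ := rfl

/-- The swap: transposition. -/
def tau : Module.End ℂ (Matrix (Fin n) (Fin n) ℂ) where
  toFun X := Xᵀ
  map_add' X Y := Matrix.transpose_add X Y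
  map_smul' c X := Matrix.transpose_smul c X

theorem tau_apply (X : Matrix (Fin n) (Fin n) ℂ) : tau X = Xᵀ := rfl

theorem trace_Lmap (A : Matrix (Fin n) (Fin n) ℂ) :
    LinearMap.trace ℂ _ (Lmap A) = A.trace * A.trace := by
  rw [trace_matrixEnd]
  simp only [Lmap_apply, entry_aux]
  rw [Matrix.trace, Finset.sum_mul_sum]
  rfl

theorem trace_tau_Lmap (A : Matrix (Fin n) (Fin n) ℂ) :
    LinearMap.trace ℂ _ (tau * Lmap A) = (A * A).trace := by
  rw [trace_matrixEnd]
  simp only [Module.End.mul_apply, tau_apply, Lmap_apply, Matrix.transpose_apply, entry_aux]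
  rw [Matrix.trace, Finset.sum_comm]
  refine Finset.sum_congr rfl fun i _ => ?_
  rw [Matrix.diag_apply, Matrix.mul_apply]

theorem Lmap_mul (A B : Matrix (Fin n) (Fin n) ℂ) : Lmap (A * B) = Lmap A * Lmap B := by
  apply LinearMap.ext
  intro X
  simp only [Module.End.mul_apply, Lmap_apply, Matrix.transpose_mul]
  simp only [mul_assoc]

theorem tau_mul_Lmap (A : Matrix (Fin n) (Fin n) ℂ) : tau * Lmap A = Lmap A * tau := by
  apply LinearMap.ext
  intro X
  simp only [Module.End.mul_apply, Lmap_apply, tau_apply, Matrix.transpose_mul,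
    Matrix.transpose_transpose]
  simp only [mul_assoc]

theorem tau_mul_tau : (tau : Module.End ℂ (Matrix (Fin n) (Fin n) ℂ)) * tau = 1 := by
  apply LinearMap.ext
  intro X
  simp [tau_apply]

end Mat

section Alg
variable {R : Type*} [Ring R] [Algebra ℂ R] (t e : R)

theorem plus_idem (ht : t * t = 1) :
    ((1 / 2 : ℂ) • (1 + t)) * ((1 / 2 : ℂ) • (1 + t)) = (1 / 2 : ℂ) • (1 + t) := by
  have e1 : (1 + t) * (1 + t) = 1 + t + t + t * t := by noncomm_ring
  rw [smul_mul_smul_comm, e1, ht]
  module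

theorem minus_idem (ht : t * t = 1) :
    ((1 / 2 : ℂ) • (1 - t)) * ((1 / 2 : ℂ) • (1 - t)) = (1 / 2 : ℂ) • (1 - t) := by
  have e1 : (1 - t) * (1 - t) = 1 - t - t + t * t := by noncomm_ring
  rw [smul_mul_smul_comm, e1, ht]
  module

theorem plus_add_minus : ((1 / 2 : ℂ) • (1 + t)) + ((1 / 2 : ℂ) • (1 - t)) = 1 := by
  module

theorem plus_sub_minus : ((1 / 2 : ℂ) • (1 + t)) - ((1 / 2 : ℂ) • (1 - t)) = t := by
  module

theorem comm_plus (h : t * e = e * t) :
    e * ((1 / 2 : ℂ) • (1 + t)) = ((1 / 2 : ℂ) • (1 + t)) * e := by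
  rw [mul_smul_comm, smul_mul_assoc, mul_add, add_mul, mul_one, one_mul, h]

theorem comm_minus (h : t * e = e * t) :
    e * ((1 / 2 : ℂ) • (1 - t)) = ((1 / 2 : ℂ) • (1 - t)) * e := by
  rw [mul_smul_comm, smul_mul_assoc, mul_sub, sub_mul, mul_one, one_mul, h]

omit [Algebra ℂ R] in
theorem idem_mul {p : R} (hp : p * p = p) (he : e * e = e) (hc : e * p = p * e) :
    IsIdempotentElem (p * e) := by
  show p * e * (p * e) = p * e
  rw [mul_assoc, ← mul_assoc e p e, hc, mul_assoc p e e, he, ← mul_assoc, hp]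

end Alg

/-- An idempotent endomorphism of a finite-dimensional space has natural-number trace. -/
theorem exists_nat_trace {W : Type*} [AddCommGroup W] [Module ℂ W] [FiniteDimensional ℂ W]
    (f : Module.End ℂ W) (hf : IsIdempotentElem f) : ∃ a : ℕ, LinearMap.trace ℂ W f = a :=
  ⟨_, (LinearMap.IsIdempotentElem.isProj_range f hf).trace⟩

/-- The Frobenius–Schur indicator of an irreducible complex representation of a finite group — the average over s of the character at s * s — is 0, 1 or −1, and it vanishes exactly when some character value is not real. -/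
theorem result {G : Type*} [Group G] [Fintype G] {V : Type*} [AddCommGroup V] [Module ℂ V] [FiniteDimensional ℂ V] (ρ : Representation ℂ G V) [ρ.IsIrreducible] : ((Nat.card G : ℂ)⁻¹ * ∑ s : G, ρ.character (s * s) = 0 ∨ (Nat.card G : ℂ)⁻¹ * ∑ s : G, ρ.character (s * s) = 1 ∨ (Nat.card G : ℂ)⁻¹ * ∑ s : G, ρ.character (s * s) = -1) ∧ ((Nat.card G : ℂ)⁻¹ * ∑ s : G, ρ.character (s * s) = 0 ↔ ∃ s : G, (ρ.character s).im ≠ 0) := by
  classical
  have hirr : IsIrrCharacter G ρ.character := isIrrCharacter_of_rep ρ inferInstance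
  set χ := ρ.character with hχdef
  obtain ⟨n, ρ', hρ', hχ'⟩ := hirr
  have hcard : (Nat.card G : ℂ) ≠ 0 := by
    exact_mod_cast (Nat.card_pos (α := G)).ne'
  obtain ⟨c, hc⟩ : ∃ c : ℂ, c = (Nat.card G : ℂ)⁻¹ := ⟨_, rfl⟩
  rw [← hc]
  -- matrices
  let A : G → Matrix (Fin n) (Fin n) ℂ := fun g => LinearMap.toMatrix' (ρ' g)
  have hA_mul : ∀ g h : G, A (g * h) = A g * A h := by
    intro g h
    simp only [A, map_mul, LinearMap.toMatrix'_mul]
  have hA_tr : ∀ g : G, (A g).trace = χ g := by
    intro g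
    rw [← hχ', Representation.character,
      LinearMap.trace_eq_matrix_trace ℂ (Pi.basisFun ℂ (Fin n)), LinearMap.toMatrix_eq_toMatrix']
  -- the averaging operator
  obtain ⟨E, hE⟩ : ∃ E : Module.End ℂ (Matrix (Fin n) (Fin n) ℂ),
      E = c • ∑ g : G, Lmap (A g) := ⟨_, rfl⟩
  have hLE : ∀ h : G, Lmap (A h) * E = E := by
    intro h
    rw [hE, mul_smul_comm, Finset.mul_sum]
    congr 1
    simp only [← Lmap_mul, ← hA_mul]
    exact Fintype.sum_equiv (Equiv.mulLeft h) _ _ (fun g => rfl)
  have hEE : E * E = E := by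
    nth_rewrite 1 [hE]
    rw [smul_mul_assoc, Finset.sum_mul]
    simp only [hLE]
    rw [Finset.sum_const, Finset.card_univ, ← Nat.card_eq_fintype_card, ← Nat.cast_smul_eq_nsmul ℂ,
      smul_smul, hc, inv_mul_cancel₀ hcard, one_smul]
  have hτE : tau * E = E * tau := by
    rw [hE, mul_smul_comm, smul_mul_assoc, Finset.mul_sum, Finset.sum_mul]
    simp only [tau_mul_Lmap]
  -- projections
  set P : Module.End ℂ (Matrix (Fin n) (Fin n) ℂ) := (1 / 2 : ℂ) • (1 + tau) with hP
  set Q : Module.End ℂ (Matrix (Fin n) (Fin n) ℂ) := (1 / 2 : ℂ) • (1 - tau) with hQ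
  have hPP : P * P = P := plus_idem tau tau_mul_tau
  have hQQ : Q * Q = Q := minus_idem tau tau_mul_tau
  have hEP : E * P = P * E := comm_plus tau E hτE
  have hEQ : E * Q = Q * E := comm_minus tau E hτE
  have hPE : IsIdempotentElem (P * E) := idem_mul E hPP hEE hEP
  have hQE : IsIdempotentElem (Q * E) := idem_mul E hQQ hEE hEQ
  obtain ⟨a, ha⟩ := exists_nat_trace _ hPE
  obtain ⟨b, hb⟩ := exists_nat_trace _ hQE
  have hsum : P + Q = 1 := plus_add_minus tau
  have hdiff : P - Q = tau := plus_sub_minus tau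
  -- traces
  have htrE : LinearMap.trace ℂ _ E = c * ∑ g : G, χ g * χ g := by
    rw [hE, map_smul, map_sum, smul_eq_mul]
    simp only [trace_Lmap, hA_tr]
  have htrτE : LinearMap.trace ℂ _ (tau * E) = c * ∑ g : G, χ (g * g) := by
    rw [hE, mul_smul_comm, Finset.mul_sum, map_smul, map_sum, smul_eq_mul]
    simp only [trace_tau_Lmap, ← hA_mul, hA_tr]
  have hab1 : (a : ℂ) + b = c * ∑ g : G, χ g * χ g := by
    rw [← ha, ← hb, ← map_add, ← add_mul, hsum, one_mul, htrE]
  have hab2 : (a : ℂ) - b = c * ∑ g : G, χ (g * g) := by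
    rw [← ha, ← hb, ← map_sub, ← sub_mul, hdiff, htrτE]
  -- orthogonality
  letI : Fintype (IrrCharacter G) := irrFintype
  have hirr' : IsIrrCharacter G χ := ⟨n, ρ', hρ', hχ'⟩
  have horth := irr_orthogonality hirr' (isIrrCharacter_conj hirr')
  have hinner : classInner χ (fun g => conj (χ g)) = c * ∑ g : G, χ g * χ g := by
    rw [classInner, ← hc]
    simp only [Complex.conj_conj]
  rw [hinner, ← hab1] at horth
  rw [← hab2]
  by_cases hreal : χ = fun g => conj (χ g)
  · rw [if_pos hreal] at horth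
    have hab : a + b = 1 := by exact_mod_cast horth
    have hnoim : ¬ ∃ s : G, (χ s).im ≠ 0 := by
      rintro ⟨s, hs⟩
      apply hs
      have := congrFun hreal s
      exact Complex.conj_eq_iff_im.mp this.symm
    have hcases : (a = 1 ∧ b = 0) ∨ (a = 0 ∧ b = 1) := by omega
    rcases hcases with ⟨h1, h2⟩ | ⟨h1, h2⟩
    · subst h1 h2
      refine ⟨Or.inr (Or.inl (by simp)), ?_⟩
      constructor
      · intro h; simp at h
      · intro h; exact absurd h hnoim
    · subst h1 h2
      refine ⟨Or.inr (Or.inr (by simp)), ?_⟩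
      constructor
      · intro h; simp at h
      · intro h; exact absurd h hnoim
  · rw [if_neg hreal] at horth
    have hab : a + b = 0 := by exact_mod_cast horth
    have ha0 : a = 0 := by omega
    have hb0 : b = 0 := by omega
    subst ha0 hb0
    refine ⟨Or.inl (by simp), ?_⟩
    constructor
    · intro _
      by_contra hcon
      push Not at hcon
      apply hreal
      funext s
      exact (Complex.conj_eq_iff_im.mpr (hcon s)).symm
    · intro _; simp

end Cfsg.Agent.S0158
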