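import Mathlib
import Cfsg.Statements.S0159
import Cfsg.Agent.Lib.Helper24.CharComplete

set_option autoImplicit false
open Cfsg

namespace Cfsg.Agent.S0159

open Cfsg.Agent.Helper24
open scoped ComplexConjugate

/-- The number of solutions of s * s = 1 in a finite group equals the sum, over the irreducible characters χ, of (the average over s of χ (s * s)) times χ 1. -/
theorem result {G : Type*} [Group G] [Fintype G] : (Nat.card {s : G // s * s = 1} : ℂ) = ∑ᶠ χ : Cfsg.IrrCharacter G, ((Nat.card G : ℂ)⁻¹ * ∑ s : G, (χ : G → ℂ) (s * s)) * (χ : G → ℂ) 1 := by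
  classical
  letI : Fintype (IrrCharacter G) := irrFintype
  rw [finsum_eq_sum_of_fintype]
  have hcard : (Nat.card G : ℂ) ≠ 0 := by
    exact_mod_cast (Nat.card_pos (α := G)).ne'
  have h1 : ∀ g : G, ∑ χ : IrrCharacter G, (χ : G → ℂ) g * (χ : G → ℂ) 1 =
      if g = 1 then (Nat.card G : ℂ) else 0 := by
    intro g
    have h := second_orthogonality g (1 : G)
    have h2 : ∀ χ : IrrCharacter G, conj ((χ : G → ℂ) 1) = (χ : G → ℂ) 1 := by
      intro χ
      rw [irr_one_eq_charDegree χ.2]
      simp
    simp only [h2] at h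
    rw [h]
    split_ifs with hg
    · subst hg
      congr 1
      apply Nat.card_congr
      exact Equiv.subtypeUnivEquiv (fun y => by simp)
    · have : IsEmpty {y : G // y * 1 * y⁻¹ = g} := by
        constructor
        rintro ⟨y, hy⟩
        apply hg
        rw [← hy]
        simp
      rw [Nat.card_of_isEmpty]
      simp
  have h2 : ∑ χ : IrrCharacter G, ((Nat.card G : ℂ)⁻¹ * ∑ s : G, (χ : G → ℂ) (s * s)) *
      (χ : G → ℂ) 1 = (Nat.card G : ℂ)⁻¹ * ∑ s : G, ∑ χ : IrrCharacter G,
        (χ : G → ℂ) (s * s) * (χ : G → ℂ) 1 := by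
    rw [Finset.sum_comm, Finset.mul_sum]
    refine Finset.sum_congr rfl fun χ _ => ?_
    rw [mul_assoc, Finset.sum_mul]
  rw [h2]
  simp only [h1]
  rw [← Finset.sum_filter, Finset.sum_const, nsmul_eq_mul, mul_comm, mul_assoc,
    mul_inv_cancel₀ hcard, mul_one]
  congr 1
  rw [Nat.card_eq_fintype_card, Fintype.card_subtype]

end Cfsg.Agent.S0159
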