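import Mathlib
import Cfsg.Statements.S0162
import Cfsg.Agent.S0161
import Cfsg.Agent.Lib.Helper24.CharIntegral

set_option autoImplicit false
open Cfsg

namespace Cfsg.Agent.S0162

open Cfsg.Agent.Helper24
open scoped ComplexConjugate

theorem zmod16_aux : ∀ x : ZMod 16, x.val % 2 = 1 → (x ^ 2 - 1) + (x ^ 2 - 1) = 0 := by decide

/-- If a finite group has odd order, its order is congruent to its number of conjugacy classes modulo 16. -/
theorem result {G : Type*} [Group G] [Finite G] (hodd : Odd (Nat.card G)) : Nat.card G ≡ Nat.card (ConjClasses G) [MOD 16] := by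
  classical
  letI : Fintype G := Fintype.ofFinite G
  letI : Fintype (IrrCharacter G) := irrFintype
  rw [← card_irr_eq_card_conjClasses, ← sum_charDegree_sq]
  rw [← ZMod.natCast_eq_natCast_iff]
  push_cast
  rw [Nat.card_eq_fintype_card, ← sub_eq_zero]
  have hone : (Fintype.card (IrrCharacter G) : ZMod 16) = ∑ _χ : IrrCharacter G, (1 : ZMod 16) := by
    simp
  rw [hone, ← Finset.sum_sub_distrib]
  let σ : IrrCharacter G → IrrCharacter G := fun χ =>
    ⟨fun g => conj ((χ : G → ℂ) g), isIrrCharacter_conj χ.2⟩
  have hdeg : ∀ χ : IrrCharacter G, charDegree ((σ χ : IrrCharacter G) : G → ℂ) =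
      charDegree (χ : G → ℂ) := by
    intro χ
    simp [σ, charDegree]
  have hoddDeg : ∀ χ : IrrCharacter G, charDegree (χ : G → ℂ) % 2 = 1 := by
    intro χ
    have h1 := charDegree_dvd_card χ.2
    exact Nat.odd_iff.mp (Odd.of_dvd_nat hodd h1)
  apply Finset.sum_involution (fun χ _ => σ χ)
  · intro χ _
    rw [hdeg χ]
    apply zmod16_aux
    rw [ZMod.val_natCast]
    have := hoddDeg χ
    omega
  · intro χ _ hne hfix
    apply hne
    have hreal : ∀ g : G, ((χ : G → ℂ) g).im = 0 := by
      intro g
      have h2 : (σ χ : G → ℂ) = (χ : G → ℂ) := congrArg Subtype.val hfix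
      have := congrFun h2 g
      simp only [σ] at this
      exact Complex.conj_eq_iff_im.mp this
    have h3 := Cfsg.Agent.S0161.result hodd χ hreal
    have h4 : charDegree (χ : G → ℂ) = 1 := by
      rw [h3]
      simp [charDegree]
    rw [h4]
    simp
  · intro χ _
    exact Finset.mem_univ _
  · intro χ _
    apply Subtype.ext
    funext g
    simp [σ]

end Cfsg.Agent.S0162
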