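import Mathlib
import Cfsg.Statements.S0166
import Cfsg.Agent.Lib.Helper23.KCharInd
import Cfsg.Agent.S0153
import Cfsg.Agent.S0163

set_option autoImplicit false
set_option linter.style.haveILetI false
open Cfsg

namespace Cfsg.Agent.S0166

open Cfsg.Agent.Helper24 Cfsg.Agent.Helper18 Cfsg.Agent.Helper23.KChar

universe u w

/-- Every element of the Brauer span is a difference of two `K`-characters, if `K` contains the
values of all linear characters of subgroups. -/
theorem exists_kchar_of_mem_brauerSpan {K : Type w} [Field K] [Algebra K ℂ]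
    {G : Type u} [Group G] [Fintype G]
    (hK : ∀ (E : Subgroup G) (lam : E →* ℂˣ) (e : E),
      ((lam e : ℂˣ) : ℂ) ∈ Set.range (algebraMap K ℂ))
    {f : G → ℂ} (hf : f ∈ brauerSpan G) :
    ∃ a b : G → ℂ, IsKChar K a ∧ IsKChar K b ∧ a = f + b := by
  unfold brauerSpan at hf
  induction hf using AddSubgroup.closure_induction with
  | mem f hf =>
    obtain ⟨E, lam, -, rfl⟩ := hf
    exact ⟨_, 0, isKChar_indFun_of_range E lam (hK E lam), isKChar_zero, (add_zero _).symm⟩
  | zero => exact ⟨0, 0, isKChar_zero, isKChar_zero, (add_zero _).symm⟩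
  | add x y _ _ hx hy =>
    obtain ⟨a₁, b₁, ha₁, hb₁, h₁⟩ := hx
    obtain ⟨a₂, b₂, ha₂, hb₂, h₂⟩ := hy
    refine ⟨a₁ + a₂, b₁ + b₂, ha₁.add ha₂, hb₁.add hb₂, ?_⟩
    rw [h₁, h₂]
    abel
  | neg x _ hx =>
    obtain ⟨a, b, ha, hb, h⟩ := hx
    refine ⟨b, a, hb, ha, ?_⟩
    rw [h]
    abel

/-- Every complex character is afforded by a `K`-representation, if `K` contains the values of
all linear characters of subgroups. -/
theorem isKChar_of_isCharacter {K : Type w} [Field K] [Algebra K ℂ]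
    {G : Type u} [Group G] [Fintype G]
    (hK : ∀ (E : Subgroup G) (lam : E →* ℂˣ) (e : E),
      ((lam e : ℂˣ) : ℂ) ∈ Set.range (algebraMap K ℂ))
    {χ : G → ℂ} (hχ : IsCharacter G χ) : IsKChar K χ := by
  have hgen : IsGeneralizedCharacter G χ := ⟨χ, 0, hχ, isCharacter_zero, (sub_zero _).symm⟩
  obtain ⟨a, b, ha, hb, h⟩ :=
    exists_kchar_of_mem_brauerSpan hK (Cfsg.Agent.S0163.genChar_mem_brauerSpan_top hgen)
  exact isKChar_of_add_eq hχ ha hb h

/-- Brauer's splitting field Theorem: a complex representation of a finite group of exponent m is equivalent to a representation by matrices with entries in ℚ adjoined exp(2πi/m). -/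
theorem result {G : Type*} [Group G] [Finite G] (n : ℕ) (ρ : Representation ℂ G (Fin n → ℂ)) : ∃ σ : Representation ℂ G (Fin n → ℂ), Nonempty (ρ.Equiv σ) ∧ ∀ g : G, ∀ i j : Fin n, LinearMap.toMatrix' (σ g) i j ∈ Algebra.adjoin ℚ ({Complex.exp (2 * Real.pi * Complex.I / (Monoid.exponent G : ℂ))} : Set ℂ) := by
  classical
  haveI : Fintype G := Fintype.ofFinite G
  have hm : Monoid.exponent G ≠ 0 := Monoid.exponent_ne_zero_of_finite
  obtain ⟨ζ, hζdef⟩ : ∃ ζ : ℂ, ζ = Complex.exp (2 * Real.pi * Complex.I /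
    (Monoid.exponent G : ℂ)) := ⟨_, rfl⟩
  rw [← hζdef]
  have hζ : IsPrimitiveRoot ζ (Monoid.exponent G) := by
    rw [hζdef]
    exact Complex.isPrimitiveRoot_exp _ hm
  have hint : IsIntegral ℚ ζ := by
    refine ⟨Polynomial.X ^ Monoid.exponent G - 1, ?_, ?_⟩
    · exact Polynomial.monic_X_pow_sub_C 1 hm
    · simp [hζ.pow_eq_one]
  have hK : ∀ (E : Subgroup G) (lam : E →* ℂˣ) (e : E),
      ((lam e : ℂˣ) : ℂ) ∈ Set.range (algebraMap (IntermediateField.adjoin ℚ {ζ}) ℂ) := by
    intro E lam e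
    have h1 : ((lam e : ℂˣ) : ℂ) ^ Monoid.exponent G = 1 := by
      rw [← Units.val_pow_eq_pow_val, ← map_pow]
      have : e ^ Monoid.exponent G = 1 := by
        apply Subtype.ext
        rw [Subgroup.coe_pow]
        exact Monoid.pow_exponent_eq_one _
      rw [this, map_one, Units.val_one]
    obtain ⟨k, -, hk⟩ := hζ.eq_pow_of_pow_eq_one h1
    refine ⟨⟨ζ, IntermediateField.mem_adjoin_simple_self ℚ ζ⟩ ^ k, ?_⟩
    rw [map_pow, ← hk]
    rfl
  obtain ⟨n', M, hM⟩ := isKChar_of_isCharacter hK ⟨n, ρ, rfl⟩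
  have hn : n' = n := by
    have h1 := congrFun hM 1
    rw [Representation.char_one, Representation.char_one] at h1
    simpa using h1
  subst hn
  refine ⟨matRepC M, Cfsg.Agent.S0153.result ρ (matRepC M) hM.symm, ?_⟩
  intro g i j
  rw [toMatrix'_matRepC]
  have h2 : ((M g i j : IntermediateField.adjoin ℚ {ζ}) : ℂ) ∈
      (IntermediateField.adjoin ℚ {ζ}).toSubalgebra := (M g i j).2
  rw [IntermediateField.adjoin_simple_toSubalgebra_of_isAlgebraic hint.isAlgebraic] at h2
  exact h2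

end Cfsg.Agent.S0166
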