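import Mathlib
import Cfsg.Statements.S0167
import Cfsg.Agent.Lib.Helper24.CharCentral
import Cfsg.Agent.Lib.Helper24.CharLinear

set_option autoImplicit false
open Cfsg

namespace Cfsg.Agent.S0167

open Cfsg.Agent.Helper24
open scoped ComplexConjugate

section
variable {G : Type*} [Group G] [Fintype G] [Fintype (IrrCharacter G)]

theorem delta_eq (x : G) [Decidable (x = 1)] :
    (if x = 1 then (1 : ℂ) else 0) =
      (Nat.card G : ℂ)⁻¹ * ∑ χ : IrrCharacter G, (χ : G → ℂ) x * (χ : G → ℂ) 1 := by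
  classical
  have hcard : (Nat.card G : ℂ) ≠ 0 := by
    exact_mod_cast (Nat.card_pos (α := G)).ne'
  have h := second_orthogonality x (1 : G)
  have h2 : ∀ χ : IrrCharacter G, conj ((χ : G → ℂ) 1) = (χ : G → ℂ) 1 := by
    intro χ
    rw [irr_one_eq_charDegree χ.2]
    simp
  simp only [h2] at h
  rw [h]
  split_ifs with hg
  · subst hg
    have : Nat.card {y : G // y * 1 * y⁻¹ = 1} = Nat.card G := by
      apply Nat.card_congr
      exact Equiv.subtypeUnivEquiv (fun y => by simp)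
    rw [this, inv_mul_cancel₀ hcard]
  · have : IsEmpty {y : G // y * 1 * y⁻¹ = x} := by
      constructor
      rintro ⟨y, hy⟩
      apply hg
      rw [← hy]
      simp
    have h0 : Nat.card {y : G // y * 1 * y⁻¹ = x} = 0 := Nat.card_of_isEmpty
    rw [h0]
    simp

theorem count_eq (g : G) [DecidableEq G] :
    ∑ a : G, ∑ b : G, (if g⁻¹ * a * (b * a⁻¹ * b⁻¹) = 1 then (1 : ℂ) else 0) =
      (Nat.card G : ℂ) * ∑ χ : IrrCharacter G, (χ : G → ℂ) g⁻¹ / (χ : G → ℂ) 1 := by
  have hcard : (Nat.card G : ℂ) ≠ 0 := by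
    exact_mod_cast (Nat.card_pos (α := G)).ne'
  simp only [delta_eq]
  have hχ1 : ∀ χ : IrrCharacter G, (χ : G → ℂ) 1 ≠ 0 := by
    intro χ
    rw [irr_one_eq_charDegree χ.2]
    exact_mod_cast (charDegree_pos χ.2).ne'
  -- inner sum over b
  have h1 : ∀ a : G, ∑ b : G, (Nat.card G : ℂ)⁻¹ * ∑ χ : IrrCharacter G,
      (χ : G → ℂ) (g⁻¹ * a * (b * a⁻¹ * b⁻¹)) * (χ : G → ℂ) 1 =
      ∑ χ : IrrCharacter G, (χ : G → ℂ) (g⁻¹ * a) * (χ : G → ℂ) a⁻¹ := by
    intro a
    rw [← Finset.mul_sum, Finset.sum_comm]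
    simp only [← Finset.sum_mul, sum_char_mul_conj (Subtype.property _)]
    rw [Finset.mul_sum]
    refine Finset.sum_congr rfl fun χ _ => ?_
    have := hχ1 χ
    field_simp
  simp only [h1]
  rw [Finset.sum_comm, Finset.mul_sum]
  refine Finset.sum_congr rfl fun χ _ => ?_
  have hcf := isClassFunction_of_isIrrCharacter χ.2
  have h2 : ∑ a : G, (χ : G → ℂ) (g⁻¹ * a) * (χ : G → ℂ) a⁻¹ =
      ∑ c : G, (χ : G → ℂ) c * (χ : G → ℂ) (c⁻¹ * g⁻¹) := by
    refine Fintype.sum_equiv (Equiv.inv G) _ _ (fun a => ?_)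
    simp only [Equiv.inv_apply, inv_inv]
    rw [mul_comm]
    congr 1
    have := hcf (g⁻¹ * a) a
    rw [← this]
    congr 1
    group
  rw [h2, generalized_orthogonality χ.2 χ.2, if_pos rfl]
  ring
end

/-- An element g of a finite group is a commutator if and only if the sum over the irreducible characters χ of χ g / χ 1 is nonzero. -/
theorem result {G : Type*} [Group G] [Finite G] (g : G) : (∃ a b : G, g = a * b * a⁻¹ * b⁻¹) ↔ ∑ᶠ χ : Cfsg.IrrCharacter G, (χ : G → ℂ) g / (χ : G → ℂ) 1 ≠ 0 := by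
  classical
  letI : Fintype G := Fintype.ofFinite G
  letI : Fintype (IrrCharacter G) := irrFintype
  rw [finsum_eq_sum_of_fintype]
  have hcard : (Nat.card G : ℂ) ≠ 0 := by
    exact_mod_cast (Nat.card_pos (α := G)).ne'
  have hcount := count_eq g
  -- the right-hand sum is the conjugate of the sum in the statement
  have hconj : ∑ χ : IrrCharacter G, (χ : G → ℂ) g⁻¹ / (χ : G → ℂ) 1 =
      conj (∑ χ : IrrCharacter G, (χ : G → ℂ) g / (χ : G → ℂ) 1) := by
    rw [map_sum]
    refine Finset.sum_congr rfl fun χ _ => ?_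
    rw [map_div₀, irr_inv (isCharacter_of_isIrrCharacter χ.2) g, irr_one_eq_charDegree χ.2]
    simp
  -- the left-hand side counts pairs
  have hpairs : ∑ a : G, ∑ b : G, (if g⁻¹ * a * (b * a⁻¹ * b⁻¹) = 1 then (1 : ℂ) else 0) =
      ((Finset.univ.filter (fun x : G × G => g⁻¹ * x.1 * (x.2 * x.1⁻¹ * x.2⁻¹) = 1)).card : ℂ) := by
    rw [← Fintype.sum_prod_type', Finset.sum_boole]
  rw [hpairs, hconj] at hcount
  constructor
  · rintro ⟨a, b, hab⟩ h0
    rw [h0, map_zero, mul_zero] at hcount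
    have h1 : (Finset.univ.filter
        (fun x : G × G => g⁻¹ * x.1 * (x.2 * x.1⁻¹ * x.2⁻¹) = 1)).card = 0 := by
      exact_mod_cast hcount
    rw [Finset.card_eq_zero] at h1
    have h2 : (a, b) ∈ Finset.univ.filter
        (fun x : G × G => g⁻¹ * x.1 * (x.2 * x.1⁻¹ * x.2⁻¹) = 1) := by
      simp only [Finset.mem_filter, Finset.mem_univ, true_and]
      rw [hab]
      group
    rw [h1] at h2
    exact absurd h2 (Finset.notMem_empty _)
  · intro hne
    have h1 : (Finset.univ.filter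
        (fun x : G × G => g⁻¹ * x.1 * (x.2 * x.1⁻¹ * x.2⁻¹) = 1)).card ≠ 0 := by
      intro h0
      rw [h0, Nat.cast_zero] at hcount
      have := mul_eq_zero.mp hcount.symm
      rcases this with h | h
      · exact hcard h
      · apply hne
        have := congrArg conj h
        simpa using this
    obtain ⟨⟨a, b⟩, hab⟩ := Finset.card_ne_zero.mp h1
    simp only [Finset.mem_filter, Finset.mem_univ, true_and] at hab
    refine ⟨a, b, ?_⟩
    have : g = g * (g⁻¹ * a * (b * a⁻¹ * b⁻¹)) := by rw [hab, mul_one]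
    rw [this]
    group

end Cfsg.Agent.S0167
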