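import Mathlib
import Cfsg.Statements.S0168
import Cfsg.Agent.Lib.Helper24.CharComplete

set_option autoImplicit false
open Cfsg

namespace Cfsg.Agent.S0168

open Cfsg.Agent.Helper24
open scoped ComplexConjugate
open Polynomial

/-- The Burnside–Brauer Theorem. Let χ be the character of a faithful complex representation of a finite group, taking m distinct values. Then every irreducible character has nonzero inner product with χ ^ i for some i < m. -/
theorem result {G : Type*} [Group G] [Fintype G] {V : Type*} [AddCommGroup V] [Module ℂ V] [FiniteDimensional ℂ V] (ρ : Representation ℂ G V) (hfaithful : Function.Injective ρ) (ψ : G → ℂ) (hψ : Cfsg.IsIrrCharacter G ψ) : ∃ i : ℕ, i < Nat.card (Set.range ρ.character) ∧ Cfsg.classInner (fun g => ρ.character g ^ i) ψ ≠ 0 := by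
  classical
  set χ := ρ.character with hχ
  set R : Finset ℂ := Finset.univ.image χ with hR
  have hm : Nat.card (Set.range χ) = R.card := by
    rw [Nat.card_eq_fintype_card, ← Set.toFinset_card, Set.toFinset_range]
  rw [hm]
  set d : ℂ := χ 1 with hd
  have hdR : d ∈ R := Finset.mem_image_of_mem χ (Finset.mem_univ 1)
  have hmpos : 0 < R.card := Finset.card_pos.mpr ⟨d, hdR⟩
  by_contra hcon
  push Not at hcon
  set P : ℂ[X] := Lagrange.basis R id d with hP
  have hinj : Set.InjOn (id : ℂ → ℂ) R := Function.injective_id.injOn
  have hP1 : P.eval d = 1 := Lagrange.eval_basis_self hinj hdR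
  have hP0 : ∀ z ∈ R, z ≠ d → P.eval z = 0 := by
    intro z hz hzd
    exact Lagrange.eval_basis_of_ne (v := id) (Ne.symm hzd) hz
  have hdeg : P.natDegree < R.card := by
    have h1 : P.degree = ↑(R.card - 1) := Lagrange.degree_basis hinj hdR
    have h2 : P.natDegree = R.card - 1 := natDegree_eq_of_degree_eq_some h1
    omega
  have hPsum : ∀ z : ℂ, P.eval z = ∑ i ∈ Finset.range R.card, P.coeff i * z ^ i := by
    intro z
    rw [Polynomial.eval_eq_sum_range' hdeg]
  have hcard : (Nat.card G : ℂ) ≠ 0 := by
    exact_mod_cast (Nat.card_pos (α := G)).ne'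
  -- the sum vanishes by assumption
  have hzero : ∑ g : G, P.eval (χ g) * conj (ψ g) = 0 := by
    simp only [hPsum, Finset.sum_mul]
    rw [Finset.sum_comm]
    apply Finset.sum_eq_zero
    intro i hi
    have h1 := hcon i (Finset.mem_range.mp hi)
    rw [classInner] at h1
    have h2 : ∑ g : G, χ g ^ i * conj (ψ g) = 0 := by
      rcases mul_eq_zero.mp h1 with h | h
      · exact absurd (inv_eq_zero.mp h) hcard
      · exact h
    have h3 : ∑ g : G, P.coeff i * χ g ^ i * conj (ψ g) =
        P.coeff i * ∑ g : G, χ g ^ i * conj (ψ g) := by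
      rw [Finset.mul_sum]
      refine Finset.sum_congr rfl fun g _ => ?_
      ring
    rw [h3, h2, mul_zero]
  -- but it equals conj ψ(1)
  have hone : ∑ g : G, P.eval (χ g) * conj (ψ g) = conj (ψ 1) := by
    rw [Finset.sum_eq_single (1 : G)]
    · rw [← hd, hP1, one_mul]
    · intro g _ hg
      have hgd : χ g ≠ d := by
        intro h
        apply hg
        have h1 : ρ.character g = Module.finrank ℂ V := by
          rw [← hχ, h, hd, hχ, Representation.char_one]
        have h2 := (char_eq_finrank_iff ρ g).mp h1
        exact hfaithful (by rw [h2, map_one])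
      rw [hP0 (χ g) (Finset.mem_image_of_mem χ (Finset.mem_univ g)) hgd, zero_mul]
    · intro h
      exact absurd (Finset.mem_univ _) h
  rw [hone] at hzero
  have h1 : ψ 1 = 0 := by
    have := congrArg conj hzero
    simpa using this
  rw [irr_one_eq_charDegree hψ] at h1
  have h2 := charDegree_pos hψ
  have h3 : charDegree ψ = 0 := by exact_mod_cast h1
  omega

end Cfsg.Agent.S0168
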