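import Mathlib
import Cfsg.Statements.S0173
import Cfsg.Agent.Lib.Helper24.CharBrauerPerm
import Cfsg.Agent.Lib.Helper24.CharHom

set_option autoImplicit false
open Cfsg

namespace Cfsg.Agent.S0173

open Cfsg.Agent.Helper24

/-- Brauer's permutation lemma for a single automorphism: the number of conjugacy classes mapped to themselves equals the number of irreducible complex characters χ with χ ∘ α = χ. -/
theorem result {G : Type*} [Group G] [Finite G] (α : G ≃* G) : Nat.card {C : ConjClasses G // ConjClasses.map α.toMonoidHom C = C} = Nat.card {χ : Cfsg.IrrCharacter G // (χ : G → ℂ) ∘ α = (χ : G → ℂ)} := by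
  classical
  letI : Fintype G := Fintype.ofFinite G
  letI : Fintype (IrrCharacter G) := irrFintype
  let σ : IrrCharacter G → IrrCharacter G := fun χ =>
    ⟨(χ : G → ℂ) ∘ α.symm.toMonoidHom,
      isIrrCharacter_comp_of_surjective α.symm.toMonoidHom α.symm.surjective χ.2⟩
  have hτ : ∀ a b : G, IsConj a b → IsConj (α.toEquiv a) (α.toEquiv b) := by
    intro a b hab
    exact α.toMonoidHom.map_isConj hab
  have h : ∀ (χ : IrrCharacter G) (g : G), (σ χ : G → ℂ) (α.toEquiv g) = (χ : G → ℂ) g := by
    intro χ g
    simp [σ]
  have key := brauer_permutation σ α.toEquiv hτ h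
  rw [eq_comm]
  have e1 : Nat.card {χ : Cfsg.IrrCharacter G // (χ : G → ℂ) ∘ α = (χ : G → ℂ)} =
      Nat.card {χ : IrrCharacter G // σ χ = χ} := by
    apply Nat.card_congr
    apply Equiv.subtypeEquivRight
    intro χ
    constructor
    · intro hχ
      apply Subtype.ext
      funext g
      have := congrFun hχ (α.symm g)
      simp only [Function.comp_apply, MulEquiv.apply_symm_apply] at this
      simp [σ, this]
    · intro hχ
      have h2 : (σ χ : G → ℂ) = (χ : G → ℂ) := congrArg Subtype.val hχ
      funext g
      have := congrFun h2 (α g)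
      simp only [σ, Function.comp_apply] at this
      simpa using this.symm
  rw [e1, key]
  apply Nat.card_congr
  apply Equiv.subtypeEquivRight
  intro c
  constructor
  · intro hc
    obtain ⟨a, rfl⟩ := ConjClasses.exists_rep c
    exact hc a rfl
  · intro hc g hg
    subst hg
    exact hc

end Cfsg.Agent.S0173
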