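import Mathlib
import Cfsg.Statements.S0171
import Cfsg.Agent.S0173
import Cfsg.Agent.Lib.Helper18.CliffordCorr

set_option autoImplicit false
set_option linter.style.haveILetI false
open Cfsg

namespace Cfsg.Agent.S0171

open Cfsg.Agent.Helper24 Cfsg.Agent.Helper5 Cfsg.Agent.Helper18
open scoped ComplexConjugate Pointwise

section
variable {G : Type*} [Group G] [Finite G] (K H : Subgroup G) [hK : K.Normal]

/-- In a Frobenius-type configuration, every element of the coset `K h` is a `K`-conjugate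
of `h`. -/
theorem exists_conj_eq (hfpf : ∀ h ∈ H, h ≠ 1 → ∀ k ∈ K, h * k = k * h → k = 1) {h : G}
    (hh : h ∈ H) (hh1 : h ≠ 1) (y : K) : ∃ k' : K, (k' : G) * h * (k' : G)⁻¹ = (y : G) * h := by
  let f : K → K := fun k' => ⟨(k' : G) * (h * (k' : G)⁻¹ * h⁻¹),
    K.mul_mem k'.2 (hK.conj_mem _ (K.inv_mem k'.2) h)⟩
  have hinj : Function.Injective f := by
    intro a b hab
    have h1 : (a : G) * (h * (a : G)⁻¹ * h⁻¹) = (b : G) * (h * (b : G)⁻¹ * h⁻¹) :=
      congrArg Subtype.val hab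
    have h2 : h * ((b : G)⁻¹ * (a : G)) = ((b : G)⁻¹ * (a : G)) * h := by
      have e1 : (a : G) * h * (a : G)⁻¹ = (b : G) * h * (b : G)⁻¹ := by
        have : (a : G) * h * (a : G)⁻¹ = (a : G) * (h * (a : G)⁻¹ * h⁻¹) * h := by group
        rw [this, h1]; group
      have e2 : (b : G)⁻¹ * ((a : G) * h * (a : G)⁻¹) * (a : G) =
          (b : G)⁻¹ * ((b : G) * h * (b : G)⁻¹) * (a : G) := by rw [e1]
      have e3 : (b : G)⁻¹ * ((a : G) * h * (a : G)⁻¹) * (a : G) = ((b : G)⁻¹ * (a : G)) * h := by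
        group
      have e4 : (b : G)⁻¹ * ((b : G) * h * (b : G)⁻¹) * (a : G) = h * ((b : G)⁻¹ * (a : G)) := by
        group
      rw [← e4, ← e2, e3]
    have h3 := hfpf h hh hh1 ((b : G)⁻¹ * (a : G)) (K.mul_mem (K.inv_mem b.2) a.2) h2
    apply Subtype.ext
    have : (a : G) = (b : G) * ((b : G)⁻¹ * (a : G)) := by group
    rw [this, h3, mul_one]
  have hsurj : Function.Surjective f := Finite.surjective_of_injective hinj
  obtain ⟨k', hk'⟩ := hsurj y
  refine ⟨k', ?_⟩
  have h1 : (k' : G) * (h * (k' : G)⁻¹ * h⁻¹) = (y : G) := congrArg Subtype.val hk'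
  rw [← h1]
  group

/-- A nontrivial element of `H` fixes no nontrivial class of `K`. -/
theorem fixed_class_trivial (hfpf : ∀ h ∈ H, h ≠ 1 → ∀ k ∈ K, h * k = k * h → k = 1) {h : G}
    (hh : h ∈ H) (hh1 : h ≠ 1) (k : K)
    (hfix : IsConj ((MulAut.conjNormal h : MulAut K) k) k) : k = 1 := by
  obtain ⟨y, hy⟩ := isConj_iff.mp hfix
  have hy' : (y : G) * (h * (k : G) * h⁻¹) * (y : G)⁻¹ = (k : G) := by
    have := congrArg Subtype.val hy
    simpa [MulAut.conjNormal_apply] using this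
  obtain ⟨k', hk'⟩ := exists_conj_eq K H hfpf hh hh1 y
  -- (k' h k'⁻¹) k (k' h k'⁻¹)⁻¹ = k
  have h1 : ((k' : G) * h * (k' : G)⁻¹) * (k : G) * ((k' : G) * h * (k' : G)⁻¹)⁻¹ = (k : G) := by
    rw [hk']
    have e : ((y : G) * h) * (k : G) * ((y : G) * h)⁻¹ =
        (y : G) * (h * (k : G) * h⁻¹) * (y : G)⁻¹ := by group
    rw [e, hy']
  have h2 : h * ((k' : G)⁻¹ * (k : G) * (k' : G)) = ((k' : G)⁻¹ * (k : G) * (k' : G)) * h := by
    have e1 : (k' : G)⁻¹ * (((k' : G) * h * (k' : G)⁻¹) * (k : G) *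
        ((k' : G) * h * (k' : G)⁻¹)⁻¹) * (k' : G) = (k' : G)⁻¹ * (k : G) * (k' : G) := by rw [h1]
    have e2 : (k' : G)⁻¹ * (((k' : G) * h * (k' : G)⁻¹) * (k : G) *
        ((k' : G) * h * (k' : G)⁻¹)⁻¹) * (k' : G) =
        h * ((k' : G)⁻¹ * (k : G) * (k' : G)) * h⁻¹ := by group
    rw [e2] at e1
    have : h * ((k' : G)⁻¹ * (k : G) * (k' : G)) =
        h * ((k' : G)⁻¹ * (k : G) * (k' : G)) * h⁻¹ * h := by group
    rw [this, e1]
  have hmem : (k' : G)⁻¹ * (k : G) * (k' : G) ∈ K := by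
    have := hK.conj_mem (k : G) k.2 (k' : G)⁻¹
    simpa using this
  have h3 := hfpf h hh hh1 _ hmem h2
  apply Subtype.ext
  have : (k : G) = (k' : G) * ((k' : G)⁻¹ * (k : G) * (k' : G)) * (k' : G)⁻¹ := by group
  rw [this, h3]
  simp

/-- The inertia group of a non-principal irreducible character of the kernel is the kernel. -/
theorem mem_of_conjFun_eq (hKH' : K ⊔ H = ⊤)
    (hfpf : ∀ h ∈ H, h ≠ 1 → ∀ k ∈ K, h * k = k * h → k = 1) {τ : K → ℂ}
    (hτ : IsIrrCharacter K τ) (hτ1 : τ ≠ fun _ => 1) {x : G} (hx : conjFun K x τ = τ) :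
    x ∈ K := by
  classical
  have hxtop : x ∈ ((K ⊔ H : Subgroup G) : Set G) := by rw [hKH']; trivial
  rw [Subgroup.normal_mul] at hxtop
  obtain ⟨k, hk, h, hh, rfl⟩ := Set.mem_mul.mp hxtop
  have hkI : conjFun K k τ = τ :=
    (mem_inertia K τ k).mp (le_inertia K (isClassFunction_of_isIrrCharacter hτ) hk)
  rw [conjFun_mul, hkI] at hx
  by_cases hh1 : h = 1
  · rw [hh1, mul_one]; exact hk
  · exfalso
    let α : K ≃* K := (MulAut.conjNormal h : MulAut K)
    have hτα : τ ∘ α = τ := by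
      rw [← conjFun_eq_comp]
      exact hx
    have hB := Cfsg.Agent.S0173.result α
    have hL : Nat.card {C : ConjClasses K // ConjClasses.map α.toMonoidHom C = C} = 1 := by
      rw [Nat.card_eq_one_iff_unique]
      refine ⟨⟨?_⟩, ⟨⟨ConjClasses.mk 1, ?_⟩⟩⟩
      · rintro ⟨a, ha⟩ ⟨b, hb⟩
        apply Subtype.ext
        obtain ⟨a, rfl⟩ := ConjClasses.exists_rep a
        obtain ⟨b, rfl⟩ := ConjClasses.exists_rep b
        have ha' : IsConj (α a) a := ConjClasses.mk_eq_mk_iff_isConj.mp ha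
        have hb' : IsConj (α b) b := ConjClasses.mk_eq_mk_iff_isConj.mp hb
        show ConjClasses.mk a = ConjClasses.mk b
        rw [fixed_class_trivial K H hfpf hh hh1 a ha', fixed_class_trivial K H hfpf hh hh1 b hb']
      · show ConjClasses.mk (α 1) = ConjClasses.mk 1
        rw [map_one]
    rw [hL] at hB
    have hsub := (Nat.card_eq_one_iff_unique.mp hB.symm).1
    have := @Subsingleton.elim _ hsub
      (⟨⟨τ, hτ⟩, hτα⟩ : {χ : IrrCharacter K // (χ : K → ℂ) ∘ α = (χ : K → ℂ)})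
      ⟨principalChar K, by funext k; simp [principalChar]⟩
    apply hτ1
    have h2 : (⟨τ, hτ⟩ : IrrCharacter K) = principalChar K := congrArg Subtype.val this
    exact congrArg Subtype.val h2

end

/-- Let G = K H with K normal, K ⊓ H trivial, and no non-identity element of H commuting with a non-identity element of K (a Frobenius group with kernel K and complement H). Then every non-principal irreducible character of K induces to an irreducible character of G. -/
theorem result {G : Type*} [Group G] [Fintype G] (K H : Subgroup G) [K.Normal] (hKH : K ⊓ H = ⊥) (hKH' : K ⊔ H = ⊤) (hfpf : ∀ h ∈ H, h ≠ 1 → ∀ k ∈ K, h * k = k * h → k = 1) (τ : K → ℂ) (hτ : Cfsg.IsIrrCharacter K τ) (hτ1 : τ ≠ fun _ => 1) : Cfsg.IsIrrCharacter G (Cfsg.indFun K τ) := by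
  classical
  letI : Fintype K := Fintype.ofFinite K
  letI : Fintype (IrrCharacter G) := irrFintype
  have hτc := isCharacter_of_isIrrCharacter hτ
  have hind : IsCharacter G (indFun K τ) := isCharacter_indFun K hτc
  apply isIrrCharacter_of_classInner_self_eq_one hind
  rw [frobenius_reciprocity K τ (isClassFunction_indFun K τ), indFun_normal_restrict K τ,
    classInner_smul_right, classInner_sum_right]
  have h1 : ∀ x : G, classInner τ (conjFun K x τ) = if x ∈ K then 1 else 0 := by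
    intro x
    rw [irr_orthogonality hτ (isIrrCharacter_conjFun K x hτ)]
    by_cases hx : x ∈ K
    · rw [if_pos hx, if_pos]
      exact ((mem_inertia K τ x).mp
        (le_inertia K (isClassFunction_of_isIrrCharacter hτ) hx)).symm
    · rw [if_neg hx, if_neg]
      intro h
      exact hx (mem_of_conjFun_eq K H hKH' hfpf hτ hτ1 h.symm)
  simp only [h1]
  rw [Finset.sum_boole]
  have h2 : (Finset.univ.filter (fun x : G => x ∈ K)).card = Nat.card K := by
    rw [Nat.card_eq_fintype_card, Fintype.card_subtype]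
  rw [h2]
  have hK0 : (Nat.card K : ℂ) ≠ 0 := by
    exact_mod_cast (Nat.card_pos (α := K)).ne'
  rw [map_inv₀, Complex.conj_natCast, inv_mul_cancel₀ hK0]

end Cfsg.Agent.S0171
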