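import Mathlib
import Cfsg.Statements.S0172

set_option autoImplicit false
open Cfsg

namespace Cfsg.Agent.S0172

/-- The number of elements commuting with `x`. -/
noncomputable def cz {G : Type*} [Group G] (x : G) : ℕ := Nat.card {y : G // Commute x y}

theorem cz_one {G : Type*} [Group G] : cz (1 : G) = Nat.card G := by
  unfold cz
  exact Nat.card_congr (Equiv.subtypeUnivEquiv (fun y => Commute.one_left y))

theorem cz_conj {G : Type*} [Group G] (g x : G) : cz (g * x * g⁻¹) = cz x := by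
  unfold cz
  refine Nat.card_congr ⟨fun y => ⟨g⁻¹ * y.1 * g, ?_⟩, fun y => ⟨g * y.1 * g⁻¹, ?_⟩, ?_, ?_⟩
  · have := y.2
    unfold Commute SemiconjBy at this ⊢
    have h2 : g⁻¹ * (g * x * g⁻¹ * y.1) * g = g⁻¹ * (y.1 * (g * x * g⁻¹)) * g := by rw [this]
    simpa [mul_assoc] using h2
  · have := y.2
    unfold Commute SemiconjBy at this ⊢
    have h2 : g * (x * y.1) * g⁻¹ = g * (y.1 * x) * g⁻¹ := by rw [this]
    simpa [mul_assoc] using h2
  · intro y
    apply Subtype.ext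
    simp [mul_assoc]
  · intro y
    apply Subtype.ext
    simp [mul_assoc]

theorem cz_subgroup {G : Type*} [Group G] (L : Subgroup G) (x : L)
    (h : ∀ y : G, Commute (x : G) y → y ∈ L) : cz (x : G) = cz x := by
  unfold cz
  refine Nat.card_congr ⟨fun y => ⟨⟨y.1, h y.1 y.2⟩, ?_⟩, fun y => ⟨y.1.1, ?_⟩, ?_, ?_⟩
  · have := y.2
    unfold Commute SemiconjBy at this ⊢
    exact Subtype.ext this
  · have := y.2
    unfold Commute SemiconjBy at this ⊢
    exact congrArg Subtype.val this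
  · intro y; rfl
  · intro y; rfl

theorem sum_cz {G : Type*} [Group G] [Fintype G] :
    ∑ x : G, cz x = Nat.card (ConjClasses G) * Nat.card G := by
  classical
  rw [← card_comm_eq_card_conjClasses_mul_card]
  rw [Nat.card_congr (Equiv.subtypeProdEquivSigmaSubtype (Commute (S := G)))]
  rw [Nat.card_sigma]
  rfl

/-- Class number of a Frobenius group: if G = K H with K normal, K ⊓ H trivial and no non-identity element of H commuting with a non-identity element of K, then |H| * k(G) + 1 = |H| * k(H) + k(K), where k denotes the number of conjugacy classes. -/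
theorem result {G : Type*} [Group G] [Finite G] (K H : Subgroup G) [K.Normal] (hKH : K ⊓ H = ⊥) (hKH' : K ⊔ H = ⊤) (hfpf : ∀ h ∈ H, h ≠ 1 → ∀ k ∈ K, h * k = k * h → k = 1) : Nat.card H * Nat.card (ConjClasses G) + 1 = Nat.card H * Nat.card (ConjClasses H) + Nat.card (ConjClasses K) := by
  classical
  haveI : Fintype G := Fintype.ofFinite G
  have hKn : K.Normal := inferInstance
  -- basic facts
  have hdisj : ∀ g, g ∈ K → g ∈ H → g = 1 := by
    intro g h1 h2
    have : g ∈ K ⊓ H := ⟨h1, h2⟩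
    rw [hKH] at this
    exact Subgroup.mem_bot.mp this
  have hprod : ∀ g : G, ∃ k ∈ K, ∃ h ∈ H, g = k * h := by
    intro g
    have : g ∈ ((K ⊔ H : Subgroup G) : Set G) := by rw [hKH']; trivial
    rw [Subgroup.normal_mul] at this
    obtain ⟨k, hk, h, hh, rfl⟩ := Set.mem_mul.mp this
    exact ⟨k, hk, h, hh, rfl⟩
  have hcard : Nat.card K * Nat.card H = Nat.card G := by
    apply Subgroup.IsComplement'.card_mul_card
    apply Subgroup.isComplement'_of_disjoint_and_mul_eq_univ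
    · rw [disjoint_iff]; exact hKH
    · rw [← Subgroup.normal_mul, hKH']; rfl
  -- centralizers of nonidentity elements of H lie in H
  have F2 : ∀ h ∈ H, h ≠ 1 → ∀ g : G, Commute h g → g ∈ H := by
    intro h hh hne g hc
    obtain ⟨k, hk, h2, hh2, rfl⟩ := hprod g
    have hh₁H : h2 * h * h2⁻¹ ∈ H := H.mul_mem (H.mul_mem hh2 hh) (H.inv_mem hh2)
    have hh₁ne : h2 * h * h2⁻¹ ≠ 1 := by
      intro h0
      apply hne
      have : h = h2⁻¹ * (h2 * h * h2⁻¹) * h2 := by group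
      rw [this, h0]; group
    have e1 : k * (h2 * h * h2⁻¹) * k⁻¹ = h := by
      have : h * (k * h2) = (k * h2) * h := hc
      calc k * (h2 * h * h2⁻¹) * k⁻¹ = ((k * h2) * h) * h2⁻¹ * k⁻¹ := by group
        _ = (h * (k * h2)) * h2⁻¹ * k⁻¹ := by rw [this]
        _ = h := by group
    have e2 : h * (h2 * h * h2⁻¹)⁻¹ = 1 := by
      apply hdisj
      · have : h * (h2 * h * h2⁻¹)⁻¹ =
            k * ((h2 * h * h2⁻¹) * k⁻¹ * (h2 * h * h2⁻¹)⁻¹) := by
          nth_rewrite 1 [← e1]; group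
        rw [this]
        exact K.mul_mem hk (hKn.conj_mem _ (K.inv_mem hk) _)
      · exact H.mul_mem hh (H.inv_mem hh₁H)
    have e3 : h = h2 * h * h2⁻¹ := by rwa [mul_inv_eq_one] at e2
    have e4 : k = 1 := by
      apply hfpf (h2 * h * h2⁻¹) hh₁H hh₁ne k hk
      have : k * (h2 * h * h2⁻¹) * k⁻¹ = h2 * h * h2⁻¹ := e1.trans e3
      exact (mul_inv_eq_iff_eq_mul.mp this).symm
    rw [e4, one_mul]; exact hh2
  -- every element outside K is conjugate under K to a nonidentity element of H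
  have Fsurj : ∀ g : G, g ∉ K → ∃ k ∈ K, ∃ h ∈ H, h ≠ 1 ∧ k * h * k⁻¹ = g := by
    intro g hg
    obtain ⟨k₀, hk₀, h₀, hh₀, rfl⟩ := hprod g
    have hne : h₀ ≠ 1 := by
      rintro rfl
      apply hg
      simpa using hk₀
    let ψ : K → K := fun k => ⟨k.1 * (h₀ * k.1⁻¹ * h₀⁻¹), K.mul_mem k.2 (hKn.conj_mem _ (K.inv_mem k.2) _)⟩
    have hψ : Function.Injective ψ := by
      intro k k' hkk
      have h1 : k.1 * (h₀ * k.1⁻¹ * h₀⁻¹) = k'.1 * (h₀ * k'.1⁻¹ * h₀⁻¹) := congrArg Subtype.val hkk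
      have h2 : h₀ * (k'.1⁻¹ * k.1) = (k'.1⁻¹ * k.1) * h₀ := by
        have : k'.1⁻¹ * (k.1 * (h₀ * k.1⁻¹ * h₀⁻¹)) * h₀ * k.1 =
            k'.1⁻¹ * (k'.1 * (h₀ * k'.1⁻¹ * h₀⁻¹)) * h₀ * k.1 := by rw [h1]
        have l1 : k'.1⁻¹ * (k.1 * (h₀ * k.1⁻¹ * h₀⁻¹)) * h₀ * k.1 = (k'.1⁻¹ * k.1) * h₀ := by group
        have l2 : k'.1⁻¹ * (k'.1 * (h₀ * k'.1⁻¹ * h₀⁻¹)) * h₀ * k.1 = h₀ * (k'.1⁻¹ * k.1) := by group
        rw [l1, l2] at this
        exact this.symm
      have h3 := hfpf h₀ hh₀ hne (k'.1⁻¹ * k.1) (K.mul_mem (K.inv_mem k'.2) k.2) h2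
      apply Subtype.ext
      have : k.1 = k'.1 * (k'.1⁻¹ * k.1) := by group
      rw [this, h3, mul_one]
    obtain ⟨k, hk⟩ := (Finite.injective_iff_surjective.mp hψ) ⟨k₀, hk₀⟩
    have hk' : k.1 * (h₀ * k.1⁻¹ * h₀⁻¹) = k₀ := congrArg Subtype.val hk
    refine ⟨k.1, k.2, h₀, hh₀, hne, ?_⟩
    rw [← hk']; group
  -- centralizers of nonidentity elements of K lie in K
  have F1 : ∀ x ∈ K, x ≠ 1 → ∀ g : G, Commute x g → g ∈ K := by
    intro x hx hxne g hc
    by_contra hg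
    obtain ⟨k, hk, h, hh, hne, rfl⟩ := Fsurj g hg
    apply hxne
    have hx' : k⁻¹ * x * k ∈ K := by
      have := hKn.conj_mem x hx k⁻¹
      simpa using this
    have hcomm : h * (k⁻¹ * x * k) = (k⁻¹ * x * k) * h := by
      have : x * (k * h * k⁻¹) = (k * h * k⁻¹) * x := hc
      calc h * (k⁻¹ * x * k) = k⁻¹ * ((k * h * k⁻¹) * x) * k := by group
        _ = k⁻¹ * (x * (k * h * k⁻¹)) * k := by rw [this]
        _ = (k⁻¹ * x * k) * h := by group
    have := hfpf h hh hne _ hx' hcomm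
    have h2 : x = k * (k⁻¹ * x * k) * k⁻¹ := by group
    rw [h2, this]; group
  -- injectivity of the conjugation map
  have Finj : ∀ k₁ ∈ K, ∀ h₁ ∈ H, h₁ ≠ 1 → ∀ k₂ ∈ K, ∀ h₂ ∈ H, h₂ ≠ 1 →
      k₁ * h₁ * k₁⁻¹ = k₂ * h₂ * k₂⁻¹ → k₁ = k₂ ∧ h₁ = h₂ := by
    intro k₁ hk₁ h₁ hh₁ hne₁ k₂ hk₂ h₂ hh₂ hne₂ heq
    have hc : k₁⁻¹ * k₂ ∈ K := K.mul_mem (K.inv_mem hk₁) hk₂
    have e1 : h₁ = (k₁⁻¹ * k₂) * h₂ * (k₁⁻¹ * k₂)⁻¹ := by
      have : h₁ = k₁⁻¹ * (k₁ * h₁ * k₁⁻¹) * k₁ := by group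
      rw [this, heq]; group
    have e2 : h₁ * h₂⁻¹ = 1 := by
      apply hdisj
      · have : h₁ * h₂⁻¹ = (k₁⁻¹ * k₂) * (h₂ * (k₁⁻¹ * k₂)⁻¹ * h₂⁻¹) := by
          nth_rewrite 1 [e1]; group
        rw [this]
        exact K.mul_mem hc (hKn.conj_mem _ (K.inv_mem hc) _)
      · exact H.mul_mem hh₁ (H.inv_mem hh₂)
    have e3 : h₁ = h₂ := by rwa [mul_inv_eq_one] at e2
    refine ⟨?_, e3⟩
    have e4 : h₂ * (k₁⁻¹ * k₂) = (k₁⁻¹ * k₂) * h₂ := by
      rw [e3] at e1
      exact (mul_inv_eq_iff_eq_mul.mp e1.symm).symm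
    have := hfpf h₂ hh₂ hne₂ _ hc e4
    have h5 : k₂ = k₁ * (k₁⁻¹ * k₂) := by group
    rw [h5, this, mul_one]
  -- the sum over G
  have hT : ∑ x : G, cz x = Nat.card (ConjClasses G) * Nat.card G := sum_cz
  have hTK : ∑ x : K, cz x = Nat.card (ConjClasses K) * Nat.card K := sum_cz
  have hTH : ∑ x : H, cz x = Nat.card (ConjClasses H) * Nat.card H := sum_cz
  have hsplit : ∑ x : G, cz x = ∑ x ∈ Finset.univ.filter (fun x : G => x ∈ K), cz x +
      ∑ x ∈ Finset.univ.filter (fun x : G => ¬ x ∈ K), cz x :=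
    (Finset.sum_filter_add_sum_filter_not Finset.univ (fun x : G => x ∈ K) cz).symm
  -- the part inside K
  have hA1 : ∑ x ∈ Finset.univ.filter (fun x : G => x ∈ K), cz x = ∑ x : K, cz (x : G) :=
    Finset.sum_subtype _ (by simp) _
  have hA2 : ∑ x : K, cz (x : G) = Nat.card G + ∑ x ∈ (Finset.univ : Finset K).erase 1, cz (x : G) := by
    rw [← Finset.add_sum_erase Finset.univ (fun x : K => cz (x : G)) (Finset.mem_univ (1 : K))]
    simp [cz_one]
  have hA3 : ∑ x : K, cz x = Nat.card K + ∑ x ∈ (Finset.univ : Finset K).erase 1, cz (x : G) := by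
    rw [← Finset.add_sum_erase Finset.univ (fun x : K => cz x) (Finset.mem_univ (1 : K)), cz_one]
    congr 1
    apply Finset.sum_congr rfl
    intro x hx
    have hx1 : x ≠ 1 := (Finset.mem_erase.mp hx).1
    symm
    apply cz_subgroup K x
    apply F1 x.1 x.2
    intro h0
    apply hx1
    exact Subtype.ext h0
  -- the part over H
  have hH3 : ∑ x : H, cz x = Nat.card H + ∑ x ∈ (Finset.univ : Finset H).erase 1, cz x := by
    rw [← Finset.add_sum_erase Finset.univ (fun x : H => cz x) (Finset.mem_univ (1 : H)), cz_one]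
  -- the part outside K
  have hB : ∑ x ∈ Finset.univ.filter (fun x : G => ¬ x ∈ K), cz x =
      Nat.card K * ∑ x ∈ (Finset.univ : Finset H).erase 1, cz x := by
    have h1 : ∑ a ∈ (Finset.univ : Finset K) ×ˢ ((Finset.univ : Finset H).erase 1), cz a.2 =
        ∑ x ∈ Finset.univ.filter (fun x : G => ¬ x ∈ K), cz x := by
      apply Finset.sum_bij (fun a _ => a.1.1 * a.2.1 * a.1.1⁻¹)
      · intro a ha
        have hne : a.2 ≠ 1 := (Finset.mem_erase.mp (Finset.mem_product.mp ha).2).1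
        simp only [Finset.mem_filter, Finset.mem_univ, true_and]
        intro hmem
        apply hne
        apply Subtype.ext
        apply hdisj _ _ a.2.2
        have := hKn.conj_mem _ hmem a.1.1⁻¹
        have e : a.1.1⁻¹ * (a.1.1 * a.2.1 * a.1.1⁻¹) * a.1.1⁻¹⁻¹ = a.2.1 := by group
        rwa [e] at this
      · intro a ha b hb hab
        have hnea : a.2 ≠ 1 := (Finset.mem_erase.mp (Finset.mem_product.mp ha).2).1
        have hneb : b.2 ≠ 1 := (Finset.mem_erase.mp (Finset.mem_product.mp hb).2).1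
        have := Finj a.1.1 a.1.2 a.2.1 a.2.2 (fun h0 => hnea (Subtype.ext h0))
          b.1.1 b.1.2 b.2.1 b.2.2 (fun h0 => hneb (Subtype.ext h0)) hab
        exact Prod.ext (Subtype.ext this.1) (Subtype.ext this.2)
      · intro g hg
        have hg' : g ∉ K := (Finset.mem_filter.mp hg).2
        obtain ⟨k, hk, h, hh, hne, rfl⟩ := Fsurj g hg'
        refine ⟨(⟨k, hk⟩, ⟨h, hh⟩), ?_, rfl⟩
        simp only [Finset.mem_product, Finset.mem_univ, Finset.mem_erase, true_and, and_true]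
        intro h0
        exact hne (congrArg Subtype.val h0)
      · intro a ha
        have hnea : a.2 ≠ 1 := (Finset.mem_erase.mp (Finset.mem_product.mp ha).2).1
        rw [cz_conj]
        symm
        apply cz_subgroup H a.2
        exact F2 a.2.1 a.2.2 (fun h0 => hnea (Subtype.ext h0))
    rw [← h1, Finset.sum_product]
    simp only [Finset.sum_const, Finset.card_univ, smul_eq_mul, Nat.card_eq_fintype_card]
  -- arithmetic
  have hKpos : 0 < Nat.card K := Nat.card_pos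
  apply Nat.eq_of_mul_eq_mul_left hKpos
  rw [hsplit, hA1, hA2, hB, ← hcard] at hT
  rw [hA3] at hTK
  rw [hH3] at hTH
  generalize (∑ x ∈ (Finset.univ : Finset K).erase 1, cz (x : G)) = SK at hT hTK
  generalize (∑ x ∈ (Finset.univ : Finset H).erase 1, cz x) = SH at hT hTH
  generalize Nat.card (ConjClasses G) = kG at hT ⊢
  generalize Nat.card (ConjClasses K) = kK at hTK ⊢
  generalize Nat.card (ConjClasses H) = kH at hTH ⊢
  generalize Nat.card K = nK at hT hTK ⊢
  generalize Nat.card H = nH at hT hTH ⊢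
  have e1 : nK * (nH * kG + 1) = kG * (nK * nH) + nK := by ring
  rw [e1, ← hT]
  have e2 : nK * nH + SK + nK * SH + nK = nK * (nH + SH) + (nK + SK) := by ring
  rw [e2, hTK, hTH]
  ring

end Cfsg.Agent.S0172
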