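import Mathlib
import Cfsg.Statements.S0174
import Cfsg.Agent.Lib.Helper5.Clifford

set_option autoImplicit false
open Cfsg

namespace Cfsg.Agent.S0174

open Cfsg.Agent.Helper24 Cfsg.Agent.Helper5
open scoped ComplexConjugate

/-- The Clifford Theorem for characters: if θ is an irreducible character of a finite group G, N is a normal subgroup and χ is an irreducible character of N occurring in the restriction of θ, then θ restricted to N equals e times the sum of the distinct G-conjugates of χ, where e is the inner product of the restriction with χ. -/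
theorem result {G : Type*} [Group G] [Fintype G] (N : Subgroup G) [Fintype N] (hN : N.Normal) (θ : G → ℂ) (hθ : Cfsg.IsIrrCharacter G θ) (χ : N → ℂ) (hχ : Cfsg.IsIrrCharacter N χ) (hconst : Cfsg.classInner (fun n : N => θ n) χ ≠ 0) : (fun n : N => θ n) = Cfsg.classInner (fun n : N => θ n) χ • ∑ᶠ ψ ∈ {ψ : N → ℂ | ∃ g : G, ψ = fun n : N => χ ⟨g * n * g⁻¹, hN.conj_mem n n.2 g⟩}, ψ := by
  classical
  haveI := hN
  letI : Fintype (IrrCharacter N) := irrFintype
  set S : Set (N → ℂ) := {ψ : N → ℂ | ∃ g : G, ψ = fun n : N => χ ⟨g * n * g⁻¹, hN.conj_mem n n.2 g⟩}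
    with hS
  set e := classInner (fun n : N => θ n) χ with he
  have hSconj : ∀ ψ : N → ℂ, ψ ∈ S ↔ ∃ g : G, ψ = conjFun N g χ := by
    intro ψ
    rfl
  have hθN : IsCharacter N (fun n : N => θ n) :=
    isCharacter_restrict N (isCharacter_of_isIrrCharacter hθ)
  have hcf := isClassFunction_of_isIrrCharacter hθ
  obtain ⟨-, hdec⟩ := isCharacter_decomp hθN
  have hcoef : ∀ ψ : IrrCharacter N, classInner (fun n : N => θ n) (ψ : N → ℂ) =
      if (ψ : N → ℂ) ∈ S then e else 0 := by
    intro ψ
    split_ifs with hψ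
    · obtain ⟨g, hg⟩ := (hSconj _).mp hψ
      rw [hg, classInner_restrict_conjFun N g hcf χ]
    · by_contra hne
      obtain ⟨x, hx⟩ := clifford_conj N hθ hχ ψ.2 hconst hne
      exact hψ ((hSconj _).mpr ⟨x, hx.symm⟩)
  have hsum : ∑ᶠ ψ ∈ S, ψ = ∑ ψ : IrrCharacter N, if (ψ : N → ℂ) ∈ S then (ψ : N → ℂ) else 0 := by
    have hSimg : S = Subtype.val '' {ψ : IrrCharacter N | (ψ : N → ℂ) ∈ S} := by
      ext ψ
      constructor
      · intro hψ
        obtain ⟨g, hg⟩ := (hSconj _).mp hψ
        have hirr : IsIrrCharacter N ψ := by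
          rw [hg]; exact isIrrCharacter_conjFun N g hχ
        exact ⟨⟨ψ, hirr⟩, hψ, rfl⟩
      · rintro ⟨ψ', hψ', rfl⟩
        exact hψ'
    conv_lhs => rw [hSimg]
    rw [finsum_mem_image Subtype.val_injective.injOn, finsum_mem_def, finsum_eq_sum_of_fintype]
    refine Finset.sum_congr rfl fun ψ _ => ?_
    rw [Set.indicator_apply]
    rfl
  rw [hsum, hdec]
  conv_lhs => rw [Finset.sum_congr rfl (fun ψ _ => by rw [hcoef ψ])]
  rw [Finset.smul_sum]
  refine Finset.sum_congr rfl fun ψ _ => ?_
  split_ifs with hψ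
  · rfl
  · simp

end Cfsg.Agent.S0174
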