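import Mathlib
import Cfsg.Statements.S0177
import Cfsg.Agent.Lib.Helper18.GenChar

set_option autoImplicit false
open Cfsg

namespace Cfsg.Agent.S0177

open Cfsg.Agent.Helper24 Cfsg.Agent.Helper18

universe u

section

variable {G : Type u} [Group G] [Fintype G]

/-- The function on a subgroup `A` supported on its generators, weighted by a class function. -/
noncomputable def genFun (χ : G → ℂ) (A : Subgroup G) : A → ℂ := by
  classical
  exact fun a => if Subgroup.zpowers (a : G) = A then (Nat.card A : ℂ) * χ a else 0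

theorem extendByZero_genFun (χ : G → ℂ) (A : Subgroup G) (y : G) :
    extendByZero A (genFun χ A) y =
      by classical exact if Subgroup.zpowers y = A then (Nat.card A : ℂ) * χ y else 0 := by
  classical
  by_cases hy : y ∈ A
  · rw [extendByZero_of_mem A _ hy]
    rfl
  · rw [extendByZero_of_not_mem A _ hy, if_neg]
    intro h
    apply hy
    rw [← h]
    exact Subgroup.mem_zpowers y

theorem indFun_genFun (χ : G → ℂ) (hχ : IsClassFunction G χ) (A : Subgroup G) (g : G) :
    indFun A (genFun χ A) g =
      by classical exact ∑ x : G, if Subgroup.zpowers (x⁻¹ * g * x) = A then χ g else 0 := by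
  classical
  rw [indFun_apply, Finset.mul_sum]
  refine Finset.sum_congr rfl fun x _ => ?_
  rw [extendByZero_genFun]
  have hA : (Nat.card A : ℂ) ≠ 0 := by
    have : Nat.card A ≠ 0 := Nat.card_pos.ne'
    exact_mod_cast this
  have hx : χ (x⁻¹ * g * x) = χ g := by
    have := hχ g x⁻¹
    rwa [inv_inv] at this
  by_cases h : Subgroup.zpowers (x⁻¹ * g * x) = A
  · rw [if_pos h, if_pos h, hx, inv_mul_cancel_left₀ hA]
  · rw [if_neg h, if_neg h, mul_zero]

/-- The finset of cyclic subgroups. -/
noncomputable def cycSubgroups (G : Type u) [Group G] [Fintype G] : Finset (Subgroup G) := by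
  classical
  exact Finset.univ.image (fun g : G => Subgroup.zpowers g)

theorem mem_cycSubgroups (g : G) : Subgroup.zpowers g ∈ cycSubgroups G := by
  classical
  unfold cycSubgroups
  exact Finset.mem_image_of_mem _ (Finset.mem_univ g)

theorem isCyclic_of_mem_cycSubgroups {A : Subgroup G} (hA : A ∈ cycSubgroups G) :
    IsCyclic A := by
  classical
  unfold cycSubgroups at hA
  obtain ⟨g, -, rfl⟩ := Finset.mem_image.mp hA
  infer_instance

theorem sum_indFun_genFun (χ : G → ℂ) (hχ : IsClassFunction G χ) :
    ∑ A ∈ cycSubgroups G, indFun A (genFun χ A) = (Nat.card G : ℂ) • χ := by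
  classical
  funext g
  rw [Finset.sum_apply]
  simp only [indFun_genFun χ hχ]
  rw [Finset.sum_comm]
  have h1 : ∀ x : G, (∑ A ∈ cycSubgroups G,
      if Subgroup.zpowers (x⁻¹ * g * x) = A then χ g else 0) = χ g := by
    intro x
    rw [Finset.sum_ite_eq, if_pos (mem_cycSubgroups _)]
  rw [Finset.sum_congr rfl fun x _ => h1 x, Finset.sum_const, Finset.card_univ,
    Nat.card_eq_fintype_card, Pi.smul_apply, nsmul_eq_mul, smul_eq_mul]

end

theorem zpowers_coe_eq_iff {A : Type u} [Group A] (B : Subgroup A) (b : B) :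
    Subgroup.zpowers (b : A) = B ↔ Subgroup.zpowers b = ⊤ := by
  have h1 : (Subgroup.zpowers b).map B.subtype = Subgroup.zpowers (b : A) := by
    rw [MonoidHom.map_zpowers]
    rfl
  have h2 : (⊤ : Subgroup B).map B.subtype = B := by
    rw [← MonoidHom.range_eq_map, Subgroup.range_subtype]
  constructor
  · intro h
    apply Subgroup.map_injective B.subtype_injective
    rw [h1, h2, h]
  · intro h
    rw [← h1, h, h2]

/-- The function supported on the generators of a cyclic group is a generalized character. -/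
theorem isGenChar_gen (n : ℕ) :
    ∀ (A : Type u) [Group A] [Fintype A] [IsCyclic A], Nat.card A = n →
      IsGeneralizedCharacter A (genFun (fun _ : A => (1 : ℂ)) ⊤ ∘ fun a : A =>
        (⟨a, Subgroup.mem_top a⟩ : (⊤ : Subgroup A))) := by
  classical
  induction n using Nat.strong_induction_on with
  | _ n ih =>
    intro A _ _ _ hn
    have hcf : IsClassFunction A (fun _ : A => (1 : ℂ)) := fun _ _ => rfl
    have hsum := sum_indFun_genFun (fun _ : A => (1 : ℂ)) hcf
    have htop : (⊤ : Subgroup A) ∈ cycSubgroups A := by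
      obtain ⟨g, hg⟩ := isCyclic_iff_exists_zpowers_eq_top.mp (inferInstance : IsCyclic A)
      rw [← hg]
      exact mem_cycSubgroups g
    rw [← Finset.add_sum_erase _ _ htop] at hsum
    have hcomm : ∀ a b : A, a * b = b * a := fun a b => mul_comm' a b
    -- the top term
    have h1 : indFun (⊤ : Subgroup A) (genFun (fun _ : A => (1 : ℂ)) ⊤) =
        (genFun (fun _ : A => (1 : ℂ)) ⊤ ∘ fun a : A =>
          (⟨a, Subgroup.mem_top a⟩ : (⊤ : Subgroup A))) := by
      funext a
      rw [indFun_genFun _ hcf]
      have : ∀ x : A, x⁻¹ * a * x = a := by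
        intro x
        rw [hcomm x⁻¹ a, inv_mul_cancel_right]
      simp only [this, Finset.sum_const, Finset.card_univ, Function.comp_apply]
      unfold genFun
      simp only [Subgroup.card_top, Nat.card_eq_fintype_card]
      split_ifs <;> simp
    rw [h1] at hsum
    have h2 : (genFun (fun _ : A => (1 : ℂ)) ⊤ ∘ fun a : A =>
          (⟨a, Subgroup.mem_top a⟩ : (⊤ : Subgroup A))) =
        (Nat.card A : ℂ) • (fun _ : A => (1 : ℂ)) -
          ∑ B ∈ (cycSubgroups A).erase ⊤, indFun B (genFun (fun _ : A => (1 : ℂ)) B) := by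
      rw [← hsum]
      abel
    rw [h2]
    apply isGenChar_sub (isGenChar_natCast_smul _ isGenChar_one)
    apply isGenChar_sum
    intro B hB
    obtain ⟨hBne, hBmem⟩ := Finset.mem_erase.mp hB
    apply isGenChar_indFun
    haveI : IsCyclic B := isCyclic_of_mem_cycSubgroups hBmem
    have hlt : Nat.card B < n := by
      rw [← hn]
      have h3 := Subgroup.card_le_card_group B
      have h4 : Nat.card B ≠ Nat.card A := fun h => hBne (Subgroup.eq_top_of_card_eq B h)
      omega
    have h5 := ih _ hlt B rfl
    have h6 : genFun (fun _ : A => (1 : ℂ)) B =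
        (genFun (fun _ : B => (1 : ℂ)) ⊤ ∘ fun a : B =>
          (⟨a, Subgroup.mem_top a⟩ : (⊤ : Subgroup B))) := by
      funext b
      unfold genFun
      simp only [Function.comp_apply, Subgroup.card_top, mul_one]
      by_cases h : Subgroup.zpowers (b : A) = B
      · rw [if_pos h, if_pos ((zpowers_coe_eq_iff B b).mp h)]
      · rw [if_neg h, if_neg (fun h' => h ((zpowers_coe_eq_iff B b).mpr h'))]
    rw [h6]
    exact h5

/-- Integer combinations of functions induced from homomorphisms of cyclic subgroups. -/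
def ArtinComb {G : Type u} [Group G] [Fintype G] (f : G → ℂ) : Prop :=
  ∃ l : List ((A : Subgroup G) × ((A →* ℂˣ) × ℤ)), (∀ t ∈ l, IsCyclic t.1) ∧
    f = (l.map fun t => (t.2.2 : ℂ) • Cfsg.indFun t.1 (fun a => (t.2.1 a : ℂ))).sum

section

variable {G : Type u} [Group G] [Fintype G]

theorem artinComb_zero : ArtinComb (0 : G → ℂ) := ⟨[], by simp, by simp⟩

theorem artinComb_add {f g : G → ℂ} (hf : ArtinComb f) (hg : ArtinComb g) :
    ArtinComb (f + g) := by
  obtain ⟨l₁, h₁, rfl⟩ := hf
  obtain ⟨l₂, h₂, rfl⟩ := hg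
  refine ⟨l₁ ++ l₂, ?_, ?_⟩
  · intro t ht
    rcases List.mem_append.mp ht with h | h
    · exact h₁ t h
    · exact h₂ t h
  · rw [List.map_append, List.sum_append]

theorem artinComb_sum {ι : Type*} (s : Finset ι) (f : ι → G → ℂ)
    (h : ∀ i ∈ s, ArtinComb (f i)) : ArtinComb (∑ i ∈ s, f i) := by
  classical
  induction s using Finset.induction_on with
  | empty => simpa using artinComb_zero
  | insert a s ha ih =>
    rw [Finset.sum_insert ha]
    exact artinComb_add (h a (Finset.mem_insert_self a s))
      (ih fun i hi => h i (Finset.mem_insert_of_mem hi))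

theorem artinComb_indFun (A : Subgroup G) [IsCyclic A] {θ : A → ℂ}
    (hθ : IsGeneralizedCharacter A θ) : ArtinComb (indFun A θ) := by
  classical
  have hcomm : ∀ a b : A, a * b = b * a := fun a b => mul_comm' a b
  obtain ⟨l, hl⟩ := genChar_comm_exists_list hcomm hθ
  refine ⟨l.map (fun t => ⟨A, t.1, t.2⟩), ?_, ?_⟩
  · intro t ht
    obtain ⟨s, -, rfl⟩ := List.mem_map.mp ht
    infer_instance
  · rw [List.map_map, hl]
    clear hl
    induction l with
    | nil => simpa using indFun_zero' A
    | cons t l ih =>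
      rw [List.map_cons, List.sum_cons, indFun_add, ih, indFun_smul, List.map_cons, List.sum_cons]
      rfl

end

theorem result {G : Type*} [Group G] [Fintype G] (χ : G → ℂ) (hχ : Cfsg.IsCharacter G χ) : ∃ l : List ((A : Subgroup G) × ((A →* ℂˣ) × ℤ)), (∀ t ∈ l, IsCyclic t.1) ∧ (Nat.card G : ℂ) • χ = (l.map fun t => (t.2.2 : ℂ) • Cfsg.indFun t.1 (fun a => (t.2.1 a : ℂ))).sum := by
  classical
  show ArtinComb ((Nat.card G : ℂ) • χ)
  rw [← sum_indFun_genFun χ (isClassFunction_of_isCharacter hχ)]
  apply artinComb_sum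
  intro A hA
  haveI : IsCyclic A := isCyclic_of_mem_cycSubgroups hA
  haveI : Fintype A := Fintype.ofFinite A
  apply artinComb_indFun
  have h1 : genFun χ A = (genFun (fun _ : A => (1 : ℂ)) ⊤ ∘ fun a : A =>
      (⟨a, Subgroup.mem_top a⟩ : (⊤ : Subgroup A))) * (fun a : A => χ a) := by
    funext a
    unfold genFun
    simp only [Function.comp_apply, Subgroup.card_top, mul_one, Pi.mul_apply]
    by_cases h : Subgroup.zpowers (a : G) = A
    · rw [if_pos h, if_pos ((zpowers_coe_eq_iff A a).mp h)]
    · rw [if_neg h, if_neg (fun h' => h ((zpowers_coe_eq_iff A a).mpr h')), zero_mul]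
  rw [h1]
  exact isGenChar_mul (isGenChar_gen _ A rfl)
    (isGenChar_restrict A (isGenChar_of_isCharacter hχ))

end Cfsg.Agent.S0177
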