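import Mathlib
import Cfsg.Statements.S0178
import Cfsg.Agent.Lib.Helper11.CommonEigen

set_option autoImplicit false
open Cfsg

namespace Cfsg.Agent.S0178

open Representation Module

theorem result {G : Type*} [Group G] [Finite G] {V : Type*} [AddCommGroup V] [Module ℂ V] [FiniteDimensional ℂ V] (ρ : Representation ℂ G V) [ρ.IsIrreducible] (A : Subgroup G) (hA : ∀ a ∈ A, ∀ b ∈ A, a * b = b * a) : Module.finrank ℂ V ≤ A.index := by
  classical
  -- V is nontrivial
  have hnt : (⊥ : Subrepresentation ρ) ≠ ⊤ := bot_ne_top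
  haveI : Nontrivial V := by
    by_contra hcon
    rw [not_nontrivial_iff_subsingleton] at hcon
    apply hnt
    apply Subrepresentation.toSubmodule_injective
    exact Subsingleton.elim _ _
  -- common eigenvector for A
  obtain ⟨v, hv, hev⟩ := Cfsg.Agent.Helper11.exists_common_eigenvector
    (K := ℂ) (V := V) {f | ∃ a ∈ A, f = ρ a} (by
      rintro f ⟨a, ha, rfl⟩ g ⟨b, hb, rfl⟩
      show ρ a * ρ b = ρ b * ρ a
      rw [← map_mul, ← map_mul, hA a ha b hb])
  have hev' : ∀ a ∈ A, ∃ c : ℂ, ρ a v = c • v := fun a ha => hev (ρ a) ⟨a, ha, rfl⟩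
  letI : Fintype (G ⧸ A) := Fintype.ofFinite _
  let b : G ⧸ A → V := fun q => ρ q.out v
  set W : Submodule ℂ V := Submodule.span ℂ (Set.range b) with hW
  have hinv : ∀ g : G, ∀ w ∈ W, ρ g w ∈ W := by
    intro g w hw
    rw [hW] at hw
    induction hw using Submodule.span_induction with
    | mem x hx =>
      obtain ⟨q, rfl⟩ := hx
      obtain ⟨h, hh⟩ := QuotientGroup.mk_out_eq_mul A (g * q.out)
      obtain ⟨c, hc⟩ := hev' (h : G)⁻¹ (A.inv_mem h.2)
      have h1 : g * q.out = (QuotientGroup.mk (g * q.out) : G ⧸ A).out * (h : G)⁻¹ := by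
        rw [hh]; group
      have h2 : ρ g (b q) = c • b (QuotientGroup.mk (g * q.out) : G ⧸ A) := by
        show ρ g (ρ q.out v) = c • ρ (QuotientGroup.mk (g * q.out) : G ⧸ A).out v
        generalize (QuotientGroup.mk (g * q.out) : G ⧸ A) = q' at h1
        rw [← Module.End.mul_apply, ← map_mul, h1, map_mul, Module.End.mul_apply, hc, map_smul]
      rw [h2]
      exact W.smul_mem c (Submodule.subset_span ⟨_, rfl⟩)
    | zero => simp
    | add x y _ _ hx hy => rw [map_add]; exact W.add_mem hx hy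
    | smul c x _ hx => rw [map_smul]; exact W.smul_mem c hx
  let Wr : Subrepresentation ρ := ⟨W, fun g w hw => hinv g w hw⟩
  have hWr : Wr = ⊥ ∨ Wr = ⊤ := IsSimpleOrder.eq_bot_or_eq_top Wr
  have hWtop : W = ⊤ := by
    rcases hWr with h | h
    · exfalso
      have hbot : W = ⊥ := congrArg Subrepresentation.toSubmodule h
      have hmem : b (QuotientGroup.mk 1 : G ⧸ A) ∈ W := Submodule.subset_span ⟨_, rfl⟩
      rw [hbot, Submodule.mem_bot] at hmem
      -- ρ out v = 0 → v = 0
      have : ρ ((QuotientGroup.mk 1 : G ⧸ A).out)⁻¹ (ρ (QuotientGroup.mk 1 : G ⧸ A).out v) = v := by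
        rw [← Module.End.mul_apply, ← map_mul, inv_mul_cancel, map_one, Module.End.one_apply]
      have hb : b (QuotientGroup.mk 1 : G ⧸ A) = ρ (QuotientGroup.mk 1 : G ⧸ A).out v := rfl
      rw [hb] at hmem
      rw [hmem, map_zero] at this
      exact hv this.symm
    · exact congrArg Subrepresentation.toSubmodule h
  have h1 : finrank ℂ V = finrank ℂ W := by
    rw [hWtop, finrank_top]
  have h2 : finrank ℂ W ≤ Fintype.card (G ⧸ A) := finrank_range_le_card b
  rw [h1]
  calc finrank ℂ W ≤ Fintype.card (G ⧸ A) := h2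
    _ = A.index := by rw [Subgroup.index, Nat.card_eq_fintype_card]

end Cfsg.Agent.S0178
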