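import Mathlib
import Cfsg.Statements.S0180
import Cfsg.Agent.Lib.Helper18.GaloisRat
import Cfsg.Agent.Lib.Helper23.ClassSep

set_option autoImplicit false
open Cfsg

namespace Cfsg.Agent.S0180

open Cfsg.Agent.Helper24 Cfsg.Agent.Helper23 Cfsg.Agent.Helper18
open scoped ComplexConjugate

/-- Every irreducible complex character of a finite group takes only rational values if and only if g is conjugate to g ^ m for every element g and every m coprime to the group order. -/
theorem result {G : Type*} [Group G] [Finite G] : (∀ χ : Cfsg.IrrCharacter G, ∀ g : G, ∃ q : ℚ, (χ : G → ℂ) g = (q : ℂ)) ↔ ∀ m : ℕ, m.Coprime (Nat.card G) → ∀ g : G, IsConj g (g ^ m) := by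
  classical
  have hn : 0 < Nat.card G := Nat.card_pos
  constructor
  · intro hrat m hm g
    apply isConj_of_forall_irr_eq
    intro χ
    obtain ⟨q, hq⟩ := hrat χ g
    obtain ⟨n, ρ, hρ, hρχ⟩ := χ.2
    obtain ⟨μ, hμ, hpow, -⟩ := exists_roots_of_unity ρ g
    have h1 : ∑ i, μ i = (q : ℂ) := by
      have := hpow 1
      simp only [pow_one] at this
      rw [← this, hρχ, hq]
    have h2 := sum_pow_eq_of_rat hn μ hμ q h1 m hm
    rw [← hρχ, hpow m, h2, ← h1]
    have := hpow 1
    simp only [pow_one] at this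
    exact this.symm
  · intro hconj χ g
    obtain ⟨n, ρ, hρ, hρχ⟩ := χ.2
    obtain ⟨μ, hμ, hpow, -⟩ := exists_roots_of_unity ρ g
    have hcf := isClassFunction_of_isIrrCharacter χ.2
    have h1 : ∀ k : ℕ, Nat.Coprime k (Nat.card G) → ∑ i, μ i ^ k = ∑ i, μ i := by
      intro k hk
      have h2 := hpow k
      have h3 := hpow 1
      simp only [pow_one] at h3
      rw [← h2, ← h3, hρχ]
      obtain ⟨c, hc⟩ := isConj_iff.mp (hconj k hk g)
      rw [← hc]
      exact hcf g c
    obtain ⟨q, hq⟩ := exists_rat_of_forall_coprime_eq hn μ hμ h1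
    refine ⟨q, ?_⟩
    rw [← hq, ← hρχ]
    have h3 := hpow 1
    simp only [pow_one] at h3
    exact h3

end Cfsg.Agent.S0180
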