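import Mathlib
import Cfsg.Statements.S0181
import Cfsg.Agent.Lib.Helper24.CharComplete
import Cfsg.Agent.Lib.Helper24.CharHom

set_option autoImplicit false
open Cfsg

namespace Cfsg.Agent.S0181

open Cfsg.Agent.Helper24
open scoped ComplexConjugate

theorem sum_normSq_eq {G : Type*} [Group G] [Fintype G] [Fintype (IrrCharacter G)] (g : G) :
    ∑ χ : IrrCharacter G, Complex.normSq ((χ : G → ℂ) g) =
      (Nat.card {y : G // y * g * y⁻¹ = g} : ℝ) := by
  have h := second_orthogonality g g
  have h2 : ∀ χ : IrrCharacter G, (χ : G → ℂ) g * conj ((χ : G → ℂ) g) =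
      ((Complex.normSq ((χ : G → ℂ) g) : ℝ) : ℂ) := fun χ => Complex.mul_conj _
  simp only [h2] at h
  rw [← Complex.ofReal_sum] at h
  have h3 : ((∑ χ : IrrCharacter G, Complex.normSq ((χ : G → ℂ) g) : ℝ) : ℂ) =
      (((Nat.card {y : G // y * g * y⁻¹ = g} : ℕ) : ℝ) : ℂ) := by
    rw [h]; simp
  exact_mod_cast h3

/-- Let H be a normal subgroup of a finite group G and ρ an irreducible complex representation whose kernel does not contain H. If g commutes with no non-identity element of H, then the character of ρ vanishes at g. -/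
theorem result {G : Type*} [Group G] [Finite G] {V : Type*} [AddCommGroup V] [Module ℂ V] [FiniteDimensional ℂ V] (ρ : Representation ℂ G V) [ρ.IsIrreducible] (H : Subgroup G) [H.Normal] (hker : ∃ h ∈ H, ρ h ≠ LinearMap.id) (g : G) (hg : ∀ h ∈ H, h * g = g * h → h = 1) : ρ.character g = 0 := by
  classical
  letI : Fintype G := Fintype.ofFinite G
  letI : Fintype (G ⧸ H) := Fintype.ofFinite _
  letI : Fintype (IrrCharacter G) := irrFintype
  letI : Fintype (IrrCharacter (G ⧸ H)) := irrFintype
  have hirr : IsIrrCharacter G ρ.character := isIrrCharacter_of_rep ρ inferInstance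
  let ι : IrrCharacter (G ⧸ H) → IrrCharacter G := fun χ =>
    ⟨(χ : G ⧸ H → ℂ) ∘ (QuotientGroup.mk : G → G ⧸ H), isIrrCharacter_inflate H χ.2⟩
  have hι : Function.Injective ι := by
    intro χ χ' h
    apply Subtype.ext
    funext x
    obtain ⟨x, rfl⟩ := QuotientGroup.mk_surjective x
    have := congrFun (congrArg Subtype.val h) x
    exact this
  have h1 := sum_normSq_eq (G := G) g
  have h2 := sum_normSq_eq (G := G ⧸ H) (g : G ⧸ H)
  have h3 : Nat.card {y : G // y * g * y⁻¹ = g} ≤
      Nat.card {y : G ⧸ H // y * (g : G ⧸ H) * y⁻¹ = (g : G ⧸ H)} := by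
    apply Nat.card_le_card_of_injective
      (fun y => ⟨(y.1 : G ⧸ H), by
        have := y.2
        rw [← QuotientGroup.mk_inv, ← QuotientGroup.mk_mul, ← QuotientGroup.mk_mul, this]⟩)
    rintro ⟨y, hy⟩ ⟨y', hy'⟩ hyy
    apply Subtype.ext
    simp only [Subtype.mk.injEq] at hyy
    have hmem : y⁻¹ * y' ∈ H := QuotientGroup.eq.mp hyy
    have hcomm : y⁻¹ * y' * g = g * (y⁻¹ * y') := by
      have e1 : y' * g = g * y' := by
        have : y' * g = y' * g * y'⁻¹ * y' := by group
        rw [this, hy']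
      have e2 : y⁻¹ * g = g * y⁻¹ := by
        have : g * y⁻¹ = y⁻¹ * (y * g * y⁻¹) := by group
        rw [this, hy]
      rw [mul_assoc, e1, ← mul_assoc, e2, mul_assoc]
    have := hg _ hmem hcomm
    show y = y'
    exact inv_mul_eq_one.mp this
  have h4 : ∑ χ : IrrCharacter (G ⧸ H), Complex.normSq ((χ : G ⧸ H → ℂ) (g : G ⧸ H)) =
      ∑ χ ∈ Finset.univ.image ι, Complex.normSq ((χ : G → ℂ) g) := by
    rw [Finset.sum_image (fun x _ y _ h => hι h)]
    rfl
  by_contra hne
  have hnot : (⟨ρ.character, hirr⟩ : IrrCharacter G) ∉ Finset.univ.image ι := by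
    intro hmem
    obtain ⟨χ, -, hχ⟩ := Finset.mem_image.mp hmem
    have hχ' : ∀ x : G, (χ : G ⧸ H → ℂ) (x : G ⧸ H) = ρ.character x := by
      intro x
      exact congrFun (congrArg Subtype.val hχ) x
    obtain ⟨h, hh, hρh⟩ := hker
    apply hρh
    have e1 : ρ.character h = Module.finrank ℂ V := by
      rw [← hχ' h, (QuotientGroup.eq_one_iff h).mpr hh, ← QuotientGroup.mk_one, hχ' 1,
        Representation.char_one]
    exact (char_eq_finrank_iff ρ h).mp e1
  have hlt := Finset.sum_lt_sum_of_subset (f := fun χ : IrrCharacter G =>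
      Complex.normSq ((χ : G → ℂ) g)) (Finset.subset_univ (Finset.univ.image ι))
      (Finset.mem_univ _) hnot (Complex.normSq_pos.mpr hne)
      (fun _ _ _ => Complex.normSq_nonneg _)
  rw [← h4, h1, h2] at hlt
  have : (Nat.card {y : G // y * g * y⁻¹ = g} : ℝ) ≤
      (Nat.card {y : G ⧸ H // y * (g : G ⧸ H) * y⁻¹ = (g : G ⧸ H)} : ℝ) := by
    exact_mod_cast h3
  linarith

end Cfsg.Agent.S0181
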