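import Mathlib
import Cfsg.Statements.S0184
import Cfsg.Agent.Lib.Helper24.CharComplete
import Cfsg.Agent.Lib.Helper24.CharLinear
import Cfsg.Agent.Lib.Helper8.PGroup

set_option autoImplicit false
open Cfsg

namespace Cfsg.Agent.S0184

open Cfsg.Agent.Helper24
open scoped ComplexConjugate

/-- In a finite cyclic group, two elements of the same prime order generate the same subgroup. -/
theorem mem_zpowers_of_orderOf_eq_prime {A : Type*} [Group A] [Finite A] [IsCyclic A] {p : ℕ}
    (hp : p.Prime) {z w : A} (hz : orderOf z = p) (hw : orderOf w = p) :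
    z ∈ Subgroup.zpowers w := by
  classical
  letI : Fintype A := Fintype.ofFinite A
  set S : Finset A := Finset.univ.filter (fun a => a ^ p = 1) with hS
  set T : Finset A := Finset.univ.filter (fun a => a ∈ Subgroup.zpowers w) with hT
  have hScard : S.card ≤ p := IsCyclic.card_pow_eq_one_le hp.pos
  have hTcard : T.card = p := by
    rw [hT, ← Fintype.card_subtype, ← Nat.card_eq_fintype_card]
    rw [Nat.card_zpowers, hw]
  have hTS : T ⊆ S := by
    intro a ha
    simp only [hT, hS, Finset.mem_filter, Finset.mem_univ, true_and] at ha ⊢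
    obtain ⟨k, rfl⟩ := Subgroup.mem_zpowers_iff.mp ha
    rw [← zpow_natCast, ← zpow_mul, mul_comm, zpow_mul, zpow_natCast, ← hw, pow_orderOf_eq_one,
      one_zpow]
  have hEq : T = S := Finset.eq_of_subset_of_card_le hTS (by rw [hTcard]; exact hScard)
  have hzS : z ∈ S := by
    simp only [hS, Finset.mem_filter, Finset.mem_univ, true_and]
    rw [← hz, pow_orderOf_eq_one]
  rw [← hEq] at hzS
  simpa [hT] using hzS

/-- A finite p-group admits a faithful irreducible complex representation if and only if its centre is cyclic. -/
theorem result {G : Type*} [Group G] [Finite G] (p : ℕ) [Fact p.Prime] (hG : IsPGroup p G) : (∃ (n : ℕ) (ρ : Representation ℂ G (Fin n → ℂ)), ρ.IsIrreducible ∧ Function.Injective ρ) ↔ IsCyclic (Subgroup.center G) := by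
  classical
  have hpp : p.Prime := Fact.out
  constructor
  · rintro ⟨n, ρ, hρ, hinj⟩
    letI : Fintype G := Fintype.ofFinite G
    have hnt : Nontrivial (Fin n → ℂ) := ((isIrreducible_iff ρ).mp hρ).1
    have hone : (1 : Module.End ℂ (Fin n → ℂ)) ≠ 0 := one_ne_zero
    have hsc : ∀ z : Subgroup.center G, ∃ c : ℂ, ρ (z : G) = c • (1 : Module.End ℂ (Fin n → ℂ)) := by
      intro z
      apply exists_scalar_of_comm ρ hρ
      intro h
      have hz := Subgroup.mem_center_iff.mp z.2 h
      rw [← Module.End.mul_eq_comp, ← Module.End.mul_eq_comp, ← map_mul, ← map_mul, hz]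
    choose c hc using hsc
    have hcinj : ∀ a b : ℂ, a • (1 : Module.End ℂ (Fin n → ℂ)) = b • 1 → a = b := by
      intro a b hab
      have : (a - b) • (1 : Module.End ℂ (Fin n → ℂ)) = 0 := by
        have e := sub_smul a b (1 : Module.End ℂ (Fin n → ℂ))
        rw [e, hab, sub_self]
      rcases smul_eq_zero.mp this with h | h
      · exact sub_eq_zero.mp h
      · exact absurd h hone
    let f : Subgroup.center G →* ℂ :=
      { toFun := c
        map_one' := by
          apply hcinj
          rw [← hc 1, one_smul]
          simp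
        map_mul' := by
          intro z w
          apply hcinj
          rw [← hc (z * w), Subgroup.coe_mul, map_mul, hc z, hc w, smul_mul_smul_comm, mul_one] }
    have hf : Function.Injective f := by
      intro z w hzw
      have h1 : c z = c w := hzw
      have h2 : ρ (z : G) = ρ (w : G) := by rw [hc z, hc w, h1]
      exact Subtype.ext (hinj h2)
    exact isCyclic_of_subgroup_isDomain f hf
  · intro hcyc
    letI : Fintype G := Fintype.ofFinite G
    letI : Fintype (IrrCharacter G) := irrFintype
    rcases subsingleton_or_nontrivial G with hsub | hnt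
    · obtain ⟨n, ρ, hρ, -⟩ := isIrrCharacter_one (G := G)
      exact ⟨n, ρ, hρ, fun a b _ => Subsingleton.elim a b⟩
    · -- an element of order p in the centre
      have hZ : ⊥ < Subgroup.center G := hG.bot_lt_center
      have hZcard : p ∣ Nat.card (Subgroup.center G) := by
        rcases (hG.to_subgroup (Subgroup.center G)).card_eq_or_dvd with h | h
        · exact absurd (Subgroup.card_eq_one.mp h) hZ.ne'
        · exact h
      obtain ⟨z₀, hz₀⟩ := exists_prime_orderOf_dvd_card' p hZcard
      have hz₀ne : (z₀ : G) ≠ 1 := by
        intro h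
        have : z₀ = 1 := Subtype.ext h
        rw [this, orderOf_one] at hz₀
        exact hpp.one_lt.ne hz₀
      -- every nontrivial normal subgroup contains z₀
      have hclaim : ∀ N : Subgroup G, N.Normal → N ≠ ⊥ → (z₀ : G) ∈ N := by
        intro N hN hNne
        haveI := hN
        obtain ⟨w₀, hw₀N, hw₀Z, hw₀ne⟩ :=
          Cfsg.Agent.Helper8.exists_mem_center_of_normal_ne_bot hG N hNne
        have hK : N ⊓ Subgroup.center G ≠ ⊥ := by
          intro h
          have : w₀ ∈ N ⊓ Subgroup.center G := ⟨hw₀N, hw₀Z⟩
          rw [h, Subgroup.mem_bot] at this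
          exact hw₀ne this
        have hKcard : p ∣ Nat.card (N ⊓ Subgroup.center G : Subgroup G) := by
          rcases (hG.to_subgroup (N ⊓ Subgroup.center G)).card_eq_or_dvd with h | h
          · exact absurd (Subgroup.card_eq_one.mp h) hK
          · exact h
        obtain ⟨x, hx⟩ := exists_prime_orderOf_dvd_card' p hKcard
        have hxN : (x : G) ∈ N := x.2.1
        have hxZ : (x : G) ∈ Subgroup.center G := x.2.2
        have hx' : orderOf (⟨(x : G), hxZ⟩ : Subgroup.center G) = p := by
          rw [Subgroup.orderOf_mk, Subgroup.orderOf_coe, hx]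
        have hmem := mem_zpowers_of_orderOf_eq_prime hpp hz₀ hx'
        obtain ⟨k, hk⟩ := Subgroup.mem_zpowers_iff.mp hmem
        have : (z₀ : G) = (x : G) ^ k := by
          rw [← hk]
          simp
        rw [this]
        exact N.zpow_mem hxN k
      -- a character not trivial on z₀
      have hex : ∃ χ : IrrCharacter G, (χ : G → ℂ) (z₀ : G) ≠ (χ : G → ℂ) 1 := by
        by_contra hcon
        push Not at hcon
        have h := second_orthogonality (z₀ : G) (1 : G)
        have hempty : IsEmpty {y : G // y * 1 * y⁻¹ = (z₀ : G)} := by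
          constructor
          rintro ⟨y, hy⟩
          apply hz₀ne
          rw [← hy]
          simp
        have h0 : Nat.card {y : G // y * 1 * y⁻¹ = (z₀ : G)} = 0 := Nat.card_of_isEmpty
        rw [h0] at h
        simp only [hcon] at h
        have h2 : ∀ χ : IrrCharacter G, (χ : G → ℂ) 1 * conj ((χ : G → ℂ) 1) =
            ((charDegree (χ : G → ℂ) ^ 2 : ℕ) : ℂ) := by
          intro χ
          rw [irr_one_eq_charDegree χ.2]
          simp [pow_two]
        simp only [h2] at h
        rw [← Nat.cast_sum, sum_charDegree_sq] at h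
        have : Nat.card G = 0 := by exact_mod_cast h
        exact Nat.card_pos.ne' this
      obtain ⟨χ, hχ⟩ := hex
      obtain ⟨n, ρ, hρ, hρχ⟩ := χ.2
      refine ⟨n, ρ, hρ, ?_⟩
      have hker : ρ.ker = ⊥ := by
        by_contra hne
        have hz := hclaim ρ.ker (MonoidHom.normal_ker ρ) hne
        rw [MonoidHom.mem_ker] at hz
        apply hχ
        rw [← hρχ]
        show LinearMap.trace ℂ _ (ρ (z₀ : G)) = LinearMap.trace ℂ _ (ρ 1)
        rw [hz, map_one ρ]
      exact (MonoidHom.ker_eq_bot_iff ρ).mp hker

end Cfsg.Agent.S0184
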