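import Mathlib
import Cfsg.Statements.S0185
import Cfsg.Agent.Lib.Helper24.CharIntegral
import Cfsg.Agent.Lib.Helper24.CharAlgebra

set_option autoImplicit false
open Cfsg

namespace Cfsg.Agent.S0185

open Cfsg.Agent.Helper24
open scoped ComplexConjugate

/-- If a finite group has a faithful complex representation of degree less than the smallest prime dividing its order, the group is abelian. -/
theorem result {G : Type*} [Group G] [Finite G] {V : Type*} [AddCommGroup V] [Module ℂ V] [FiniteDimensional ℂ V] (ρ : Representation ℂ G V) (hfaithful : Function.Injective ρ) (hdeg : ∀ p : ℕ, p.Prime → p ∣ Nat.card G → Module.finrank ℂ V < p) (a b : G) : a * b = b * a := by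
  classical
  letI : Fintype G := Fintype.ofFinite G
  letI : Fintype (IrrCharacter G) := irrFintype
  set d := Module.finrank ℂ V with hd
  have hχ : IsCharacter G ρ.character := isCharacter_of_rep ρ
  obtain ⟨hm, hsum⟩ := isCharacter_decomp hχ
  choose m hm using hm
  have hsum' : ∀ g : G, ρ.character g = ∑ ψ : IrrCharacter G, (m ψ : ℂ) * (ψ : G → ℂ) g := by
    intro g
    have := congrFun hsum g
    rw [Finset.sum_apply] at this
    rw [this]
    refine Finset.sum_congr rfl fun ψ _ => ?_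
    rw [Pi.smul_apply, hm ψ, smul_eq_mul]
  -- degree equation in ℕ
  have hdegsum : d = ∑ ψ : IrrCharacter G, m ψ * charDegree (ψ : G → ℂ) := by
    have h1 := hsum' 1
    rw [Representation.char_one] at h1
    have h2 : ((d : ℕ) : ℂ) = ((∑ ψ : IrrCharacter G, m ψ * charDegree (ψ : G → ℂ) : ℕ) : ℂ) := by
      rw [h1]
      push_cast
      refine Finset.sum_congr rfl fun ψ _ => ?_
      rw [irr_one_eq_charDegree ψ.2]
    exact_mod_cast h2
  -- constituents are linear
  have hlin : ∀ ψ : IrrCharacter G, m ψ ≠ 0 → charDegree (ψ : G → ℂ) = 1 := by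
    intro ψ hψ
    by_contra hne
    obtain ⟨p, hp, hpd⟩ := Nat.exists_prime_and_dvd hne
    have h1 : p ∣ Nat.card G := hpd.trans (charDegree_dvd_card ψ.2)
    have h2 := hdeg p hp h1
    have h3 : p ≤ charDegree (ψ : G → ℂ) := Nat.le_of_dvd (charDegree_pos ψ.2) hpd
    have h4 : m ψ * charDegree (ψ : G → ℂ) ≤ d := by
      rw [hdegsum]
      exact Finset.single_le_sum (f := fun ψ : IrrCharacter G => m ψ * charDegree (ψ : G → ℂ))
        (fun _ _ => Nat.zero_le _) (Finset.mem_univ ψ)
    have h5 : charDegree (ψ : G → ℂ) ≤ m ψ * charDegree (ψ : G → ℂ) :=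
      Nat.le_mul_of_pos_left _ (Nat.pos_of_ne_zero hψ)
    omega
  -- value at the commutator
  have hcomm : ρ.character (a * b * a⁻¹ * b⁻¹) = (d : ℂ) := by
    rw [hsum', ← Representation.char_one ρ, hsum' 1]
    refine Finset.sum_congr rfl fun ψ _ => ?_
    by_cases hψ : m ψ = 0
    · simp [hψ]
    · have h1 : (ψ : G → ℂ) 1 = 1 := by
        rw [irr_one_eq_charDegree ψ.2, hlin ψ hψ]; simp
      have hψc := isCharacter_of_isIrrCharacter ψ.2
      have hmul := char_mul_of_degree_one hψc h1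
      have h2 : (ψ : G → ℂ) (a * b * a⁻¹ * b⁻¹) = 1 := by
        rw [hmul, hmul, hmul]
        have e1 : (ψ : G → ℂ) a * (ψ : G → ℂ) b * (ψ : G → ℂ) a⁻¹ * (ψ : G → ℂ) b⁻¹ =
            ((ψ : G → ℂ) a * (ψ : G → ℂ) a⁻¹) * ((ψ : G → ℂ) b * (ψ : G → ℂ) b⁻¹) := by ring
        rw [e1, ← hmul, ← hmul, mul_inv_cancel, mul_inv_cancel, h1, one_mul]
      rw [h2, h1]
  have hone : ρ (a * b * a⁻¹ * b⁻¹) = 1 := (char_eq_finrank_iff ρ _).mp hcomm
  have h1 : a * b * a⁻¹ * b⁻¹ = 1 := hfaithful (by rw [hone, map_one])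
  have h2 : a * b = a * b * a⁻¹ * b⁻¹ * (b * a) := by group
  rw [h2, h1, one_mul]

end Cfsg.Agent.S0185
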