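import Mathlib
import Cfsg.Statements.S0186
import Cfsg.Agent.S0185

set_option autoImplicit false
open Cfsg

namespace Cfsg.Agent.S0186

open Cfsg.Agent.Helper24
open scoped ComplexConjugate

/-- Let G be a finite simple group of order n and p a prime dividing n. If G has more than n / p^2 conjugacy classes, then every Sylow p-subgroup of G is abelian. -/
theorem result {G : Type*} [Group G] [Finite G] [IsSimpleGroup G] (p : ℕ) [Fact p.Prime] (hp : p ∣ Nat.card G) (hmany : Nat.card G < p ^ 2 * Nat.card (ConjClasses G)) (P : Sylow p G) (a b : G) (ha : a ∈ P) (hb : b ∈ P) : a * b = b * a := by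
  classical
  letI : Fintype G := Fintype.ofFinite G
  letI : Fintype (IrrCharacter G) := irrFintype
  have hpp : p.Prime := Fact.out
  set n := Nat.card G with hn
  set k := Nat.card (ConjClasses G) with hk
  have hnpos : 0 < n := Nat.card_pos
  have hPcard : Nat.card P = p ^ n.factorization p := P.card_eq_multiplicity
  by_cases hsq : p ^ 2 ∣ n
  · -- find a nonprincipal character of small degree
    have hex : ∃ χ : IrrCharacter G, χ ≠ principalChar G ∧ charDegree (χ : G → ℂ) < p := by
      by_contra hcon
      push Not at hcon
      have h1 : ∑ χ : IrrCharacter G, charDegree (χ : G → ℂ) ^ 2 = n := sum_charDegree_sq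
      have h2 : Nat.card (IrrCharacter G) = k := card_irr_eq_card_conjClasses
      rw [Nat.card_eq_fintype_card] at h2
      have h3 : ∑ χ : IrrCharacter G, charDegree (χ : G → ℂ) ^ 2 =
          charDegree ((principalChar G : IrrCharacter G) : G → ℂ) ^ 2 +
            ∑ χ ∈ (Finset.univ : Finset (IrrCharacter G)).erase (principalChar G),
              charDegree (χ : G → ℂ) ^ 2 :=
        (Finset.add_sum_erase Finset.univ (fun χ : IrrCharacter G => charDegree (χ : G → ℂ) ^ 2)
          (Finset.mem_univ _)).symm
      have h4 : charDegree ((principalChar G : IrrCharacter G) : G → ℂ) = 1 := by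
        simp [principalChar, charDegree]
      have h5 : ∑ _χ ∈ (Finset.univ : Finset (IrrCharacter G)).erase (principalChar G), p ^ 2 ≤
          ∑ χ ∈ (Finset.univ : Finset (IrrCharacter G)).erase (principalChar G),
              charDegree (χ : G → ℂ) ^ 2 := by
        apply Finset.sum_le_sum
        intro χ hχ
        have := hcon χ (Finset.ne_of_mem_erase hχ)
        exact Nat.pow_le_pow_left this 2
      rw [Finset.sum_const, Finset.card_erase_of_mem (Finset.mem_univ _), Finset.card_univ, h2,
        smul_eq_mul] at h5
      obtain ⟨t, ht⟩ := hsq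
      have hkpos : 0 < k := by
        rcases Nat.eq_zero_or_pos k with h | h
        · rw [h] at hmany; omega
        · exact h
      have h6 : t < k := by
        rw [ht] at hmany
        exact lt_of_mul_lt_mul_left hmany (Nat.zero_le _)
      have h7 : p ^ 2 * t ≤ p ^ 2 * (k - 1) := Nat.mul_le_mul_left _ (by omega)
      rw [h3, h4] at h1
      have h8 : (k - 1) * p ^ 2 = p ^ 2 * (k - 1) := Nat.mul_comm _ _
      omega
    obtain ⟨χ, hχne, hχdeg⟩ := hex
    obtain ⟨m, ρ, hρ, hρχ⟩ := χ.2
    have hm : charDegree (χ : G → ℂ) = m := by
      apply charDegree_natCast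
      rw [← hρχ, Representation.char_one]
      simp
    -- ρ is faithful
    have hker : ρ.ker = ⊥ := by
      rcases (MonoidHom.normal_ker ρ).eq_bot_or_eq_top with h | h
      · exact h
      · exfalso
        apply hχne
        have h1 : ∀ g : G, (χ : G → ℂ) g = (m : ℂ) := by
          intro g
          have hg : g ∈ ρ.ker := by rw [h]; trivial
          rw [MonoidHom.mem_ker] at hg
          rw [← hρχ, Representation.character, hg]
          simp
        have h2 := irr_orthogonality χ.2 (principalChar G).2
        have h3 : classInner (χ : G → ℂ) ((principalChar G : IrrCharacter G) : G → ℂ) = (m : ℂ) := by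
          rw [classInner]
          simp only [h1, principalChar, map_one, mul_one, Finset.sum_const, Finset.card_univ,
            nsmul_eq_mul]
          rw [← Nat.card_eq_fintype_card]
          have hcard : (Nat.card G : ℂ) ≠ 0 := by exact_mod_cast hnpos.ne'
          field_simp
        rw [h3] at h2
        by_cases h4 : (χ : G → ℂ) = ((principalChar G : IrrCharacter G) : G → ℂ)
        · exact Subtype.ext h4
        · rw [if_neg h4] at h2
          have h5 : m = 0 := by exact_mod_cast h2
          have := charDegree_pos χ.2
          omega
    have hinj : Function.Injective ρ := (MonoidHom.ker_eq_bot_iff ρ).mp hker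
    -- restrict to P
    let ρP : Representation ℂ P (Fin m → ℂ) := ρ.comp (P : Subgroup G).subtype
    have hinjP : Function.Injective ρP := by
      intro x y hxy
      apply Subtype.ext
      exact hinj hxy
    have hdegP : ∀ q : ℕ, q.Prime → q ∣ Nat.card P → Module.finrank ℂ (Fin m → ℂ) < q := by
      intro q hq hqd
      rw [hPcard] at hqd
      have := (Nat.prime_dvd_prime_iff_eq hq hpp).mp (hq.dvd_of_dvd_pow hqd)
      rw [this]
      simp only [Module.finrank_fin_fun]
      omega
    have := Cfsg.Agent.S0185.result ρP hinjP hdegP ⟨a, ha⟩ ⟨b, hb⟩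
    exact congrArg Subtype.val this
  · -- Sylow subgroup of order p or 1: cyclic
    have hfac : n.factorization p ≤ 1 := by
      by_contra hcon
      push Not at hcon
      apply hsq
      exact (Nat.pow_dvd_pow p hcon).trans (Nat.ordProj_dvd n p)
    have hcyc : IsCyclic P := by
      rcases Nat.le_one_iff_eq_zero_or_eq_one.mp hfac with h | h
      · rw [h, pow_zero] at hPcard
        haveI : Subsingleton P := (Nat.card_eq_one_iff_unique.mp hPcard).1
        infer_instance
      · rw [h, pow_one] at hPcard
        exact isCyclic_of_prime_card hPcard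
    have := isMulCommutative_iff.mp hcyc.commutative ⟨a, ha⟩ ⟨b, hb⟩
    exact congrArg Subtype.val this

end Cfsg.Agent.S0186
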