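import Mathlib
import Cfsg.Statements.S0188
import Cfsg.Agent.Lib.Helper24.CharIntegral
import Cfsg.Agent.Lib.Helper24.CharAlgebra

set_option autoImplicit false
open Cfsg

namespace Cfsg.Agent.S0188

open Cfsg.Agent.Helper24
open scoped ComplexConjugate

/-- The inner product of two product functions factors. -/
theorem classInner_prod {G : Type*} [Group G] [Fintype G] {H : Type*} [Group H] [Fintype H]
    (φ φ' : G → ℂ) (ψ ψ' : H → ℂ) :
    classInner (fun x : G × H => φ x.1 * ψ x.2) (fun x : G × H => φ' x.1 * ψ' x.2) =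
      classInner φ φ' * classInner ψ ψ' := by
  unfold classInner
  rw [Fintype.sum_prod_type, Nat.card_prod]
  have : ∑ x : G, ∑ y : H, φ (x, y).1 * ψ (x, y).2 * conj (φ' (x, y).1 * ψ' (x, y).2) =
      (∑ x : G, φ x * conj (φ' x)) * ∑ y : H, ψ y * conj (ψ' y) := by
    rw [Finset.sum_mul_sum]
    refine Finset.sum_congr rfl fun x _ => Finset.sum_congr rfl fun y _ => ?_
    simp only [map_mul]
    ring
  rw [this]
  push_cast
  rw [mul_inv]
  ring

theorem isIrrCharacter_prod {G : Type*} [Group G] [Finite G] {H : Type*} [Group H] [Finite H]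
    {φ : G → ℂ} {ψ : H → ℂ} (hφ : IsIrrCharacter G φ) (hψ : IsIrrCharacter H ψ) :
    IsIrrCharacter (G × H) (fun x => φ x.1 * ψ x.2) := by
  classical
  letI : Fintype G := Fintype.ofFinite G
  letI : Fintype H := Fintype.ofFinite H
  letI : Fintype (IrrCharacter (G × H)) := irrFintype
  have h1 : IsCharacter (G × H) (φ ∘ (MonoidHom.fst G H)) :=
    isCharacter_comp (MonoidHom.fst G H) (isCharacter_of_isIrrCharacter hφ)
  have h2 : IsCharacter (G × H) (ψ ∘ (MonoidHom.snd G H)) :=
    isCharacter_comp (MonoidHom.snd G H) (isCharacter_of_isIrrCharacter hψ)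
  have h3 := isCharacter_mul h1 h2
  have h4 : (φ ∘ (MonoidHom.fst G H)) * (ψ ∘ (MonoidHom.snd G H)) =
      fun x : G × H => φ x.1 * ψ x.2 := by
    funext x
    simp
  rw [h4] at h3
  apply isIrrCharacter_of_classInner_self_eq_one h3
  rw [classInner_prod, irr_orthogonality hφ hφ, irr_orthogonality hψ hψ, if_pos rfl, if_pos rfl,
    one_mul]

/-- The irreducible complex characters of G × H are precisely the functions (g, h) ↦ φ g * ψ h with φ, ψ irreducible characters of G and H. -/
theorem result {G : Type*} [Group G] [Finite G] {H : Type*} [Group H] [Finite H] (θ : G × H → ℂ) : Cfsg.IsIrrCharacter (G × H) θ ↔ ∃ (φ : G → ℂ) (ψ : H → ℂ), Cfsg.IsIrrCharacter G φ ∧ Cfsg.IsIrrCharacter H ψ ∧ θ = fun x => φ x.1 * ψ x.2 := by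
  classical
  letI : Fintype G := Fintype.ofFinite G
  letI : Fintype H := Fintype.ofFinite H
  letI : Fintype (IrrCharacter G) := irrFintype
  letI : Fintype (IrrCharacter H) := irrFintype
  letI : Fintype (IrrCharacter (G × H)) := irrFintype
  constructor
  · intro hθ
    let Φ : IrrCharacter G × IrrCharacter H → IrrCharacter (G × H) := fun x =>
      ⟨fun y => (x.1 : G → ℂ) y.1 * (x.2 : H → ℂ) y.2, isIrrCharacter_prod x.1.2 x.2.2⟩
    have hΦinj : Function.Injective Φ := by
      rintro ⟨φ, ψ⟩ ⟨φ', ψ'⟩ hxy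
      have h1 : ((Φ (φ, ψ) : IrrCharacter (G × H)) : G × H → ℂ) = (Φ (φ', ψ') : IrrCharacter (G × H)) :=
        congrArg Subtype.val hxy
      have h2 := irr_orthogonality (Φ (φ, ψ)).2 (Φ (φ', ψ')).2
      rw [if_pos h1] at h2
      simp only [Φ] at h2
      rw [classInner_prod, irr_orthogonality' φ φ', irr_orthogonality' ψ ψ'] at h2
      by_cases hφ : φ = φ'
      · by_cases hψ : ψ = ψ'
        · rw [hφ, hψ]
        · rw [if_neg hψ] at h2; simp at h2
      · rw [if_neg hφ] at h2; simp at h2
    have hdeg : ∀ x : IrrCharacter G × IrrCharacter H,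
        charDegree ((Φ x : IrrCharacter (G × H)) : G × H → ℂ) =
          charDegree (x.1 : G → ℂ) * charDegree (x.2 : H → ℂ) := by
      intro x
      apply charDegree_natCast
      simp only [Φ, Prod.fst_one, Prod.snd_one]
      rw [irr_one_eq_charDegree x.1.2, irr_one_eq_charDegree x.2.2]
      push_cast
      rfl
    by_contra hcon
    have hθS : (⟨θ, hθ⟩ : IrrCharacter (G × H)) ∉ Finset.univ.image Φ := by
      intro hmem
      obtain ⟨x, -, hx⟩ := Finset.mem_image.mp hmem
      apply hcon
      refine ⟨x.1, x.2, x.1.2, x.2.2, ?_⟩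
      have := congrArg Subtype.val hx
      exact this.symm
    have hlt := Finset.sum_lt_sum_of_subset (f := fun θ : IrrCharacter (G × H) =>
      charDegree (θ : G × H → ℂ) ^ 2) (Finset.subset_univ (Finset.univ.image Φ))
      (Finset.mem_univ _) hθS (by
        have := charDegree_pos hθ
        positivity) (fun _ _ _ => Nat.zero_le _)
    rw [Finset.sum_image (fun x _ y _ h => hΦinj h), sum_charDegree_sq, Nat.card_prod,
      ← sum_charDegree_sq (G := G), ← sum_charDegree_sq (G := H), Finset.sum_mul_sum,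
      ← Finset.sum_product'] at hlt
    simp only [Finset.univ_product_univ] at hlt
    have : ∑ x : IrrCharacter G × IrrCharacter H,
        charDegree ((Φ x : IrrCharacter (G × H)) : G × H → ℂ) ^ 2 =
        ∑ x : IrrCharacter G × IrrCharacter H,
          charDegree (x.1 : G → ℂ) ^ 2 * charDegree (x.2 : H → ℂ) ^ 2 := by
      refine Finset.sum_congr rfl fun x _ => ?_
      rw [hdeg x, mul_pow]
    rw [this] at hlt
    exact lt_irrefl _ hlt
  · rintro ⟨φ, ψ, hφ, hψ, rfl⟩
    exact isIrrCharacter_prod hφ hψ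

end Cfsg.Agent.S0188
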