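import Mathlib
import Cfsg.Statements.S0191
import Cfsg.Agent.Lib.Helper23.GaloisChar
import Cfsg.Agent.Lib.Helper24.CharOrtho

set_option autoImplicit false
open Cfsg

namespace Cfsg.Agent.S0191

open Cfsg.Agent.Helper24 Cfsg.Agent.Helper23
open scoped ComplexConjugate

/-- An irreducible complex representation of a finite group of degree greater than 1 has a character that vanishes somewhere. -/
theorem result {G : Type*} [Group G] [Finite G] {V : Type*} [AddCommGroup V] [Module ℂ V] [FiniteDimensional ℂ V] (ρ : Representation ℂ G V) [ρ.IsIrreducible] (hdeg : 1 < Module.finrank ℂ V) : ∃ g : G, ρ.character g = 0 := by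
  classical
  by_contra hcon
  push Not at hcon
  letI : Fintype G := Fintype.ofFinite G
  set n := Nat.card G with hn
  have hnpos : 0 < n := Nat.card_pos
  set K := (Finset.range n).filter (fun k => Nat.Coprime k n) with hK
  have hKne : K.Nonempty := by
    by_cases h1 : n = 1
    · refine ⟨0, ?_⟩
      simp [hK, h1]
    · refine ⟨1, ?_⟩
      simp only [hK, Finset.mem_filter, Finset.mem_range, Nat.coprime_one_left_eq_true, and_true]
      omega
  have hcpos : (0 : ℝ) < K.card := by exact_mod_cast hKne.card_pos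
  have hirr : IsIrrCharacter G ρ.character := isIrrCharacter_of_rep ρ inferInstance
  -- first orthogonality: sum of |χ|² is |G|
  have horth : ∑ g : G, ‖ρ.character g‖ ^ 2 = (n : ℝ) := by
    have h1 := irr_orthogonality hirr hirr
    rw [if_pos rfl, classInner] at h1
    have hcard : (Nat.card G : ℂ) ≠ 0 := by exact_mod_cast hnpos.ne'
    have h2 : ∑ g : G, ρ.character g * conj (ρ.character g) = (Nat.card G : ℂ) := by
      field_simp at h1
      exact h1
    have h3 : ∀ g : G, ρ.character g * conj (ρ.character g) = ((‖ρ.character g‖ ^ 2 : ℝ) : ℂ) := by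
      intro g
      rw [Complex.mul_conj, Complex.normSq_eq_norm_sq]
    simp only [h3] at h2
    rw [← Complex.ofReal_sum] at h2
    have h4 : ((∑ g : G, ‖ρ.character g‖ ^ 2 : ℝ) : ℂ) = ((n : ℝ) : ℂ) := by
      rw [h2]; simp [hn]
    exact_mod_cast h4
  -- the double sum
  have hdouble : ∑ g : G, ∑ k ∈ K, ‖ρ.character (g ^ k)‖ ^ 2 = (K.card : ℝ) * n := by
    rw [Finset.sum_comm]
    have : ∀ k ∈ K, ∑ g : G, ‖ρ.character (g ^ k)‖ ^ 2 = (n : ℝ) := by
      intro k hk
      have hkc : Nat.Coprime (Nat.card G) k := by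
        simp only [hK, Finset.mem_filter] at hk
        exact hk.2.symm
      rw [← horth]
      exact Fintype.sum_equiv (powCoprime hkc) _ _ (fun g => by simp [powCoprime])
    rw [Finset.sum_congr rfl this]
    simp
  have hlow : ∀ g : G, (K.card : ℝ) ≤ ∑ k ∈ K, ‖ρ.character (g ^ k)‖ ^ 2 := by
    intro g
    exact card_le_sum_normSq_char_pow ρ g (hcon g)
  have hone : ∑ k ∈ K, ‖ρ.character ((1 : G) ^ k)‖ ^ 2 = (K.card : ℝ) * (Module.finrank ℂ V : ℝ) ^ 2 := by
    simp [Representation.char_one]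
  have hsplit : ∑ g : G, ∑ k ∈ K, ‖ρ.character (g ^ k)‖ ^ 2 =
      ∑ k ∈ K, ‖ρ.character ((1 : G) ^ k)‖ ^ 2 +
        ∑ g ∈ (Finset.univ : Finset G).erase 1, ∑ k ∈ K, ‖ρ.character (g ^ k)‖ ^ 2 := by
    exact (Finset.add_sum_erase Finset.univ (fun g : G => ∑ k ∈ K, ‖ρ.character (g ^ k)‖ ^ 2)
      (Finset.mem_univ (1 : G))).symm
  have hrest : ((n : ℝ) - 1) * K.card ≤
      ∑ g ∈ (Finset.univ : Finset G).erase 1, ∑ k ∈ K, ‖ρ.character (g ^ k)‖ ^ 2 := by
    have h1 : ∑ _g ∈ (Finset.univ : Finset G).erase 1, (K.card : ℝ) ≤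
        ∑ g ∈ (Finset.univ : Finset G).erase 1, ∑ k ∈ K, ‖ρ.character (g ^ k)‖ ^ 2 :=
      Finset.sum_le_sum (fun g _ => hlow g)
    have h2 : ((Finset.univ : Finset G).erase 1).card = n - 1 := by
      rw [Finset.card_erase_of_mem (Finset.mem_univ _), Finset.card_univ, hn,
        Nat.card_eq_fintype_card]
    rw [Finset.sum_const, h2, nsmul_eq_mul] at h1
    have h3 : ((n - 1 : ℕ) : ℝ) = (n : ℝ) - 1 := by
      rw [Nat.cast_sub hnpos]; simp
    rw [h3] at h1
    exact h1
  have hd : (2 : ℝ) ≤ (Module.finrank ℂ V : ℝ) := by exact_mod_cast hdeg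
  have hd2 : (4 : ℝ) ≤ (Module.finrank ℂ V : ℝ) ^ 2 := by nlinarith
  rw [hsplit, hone] at hdouble
  nlinarith

end Cfsg.Agent.S0191
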