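import Mathlib
import Cfsg.Statements.S0192

set_option autoImplicit false
open Cfsg

namespace Cfsg.Agent.S0192

open Representation Module

variable {G : Type*} [Group G] {n : ℕ}

/-- invariants of the restriction to a subgroup -/
noncomputable def inv (ρ : Representation ℂ G (Fin n → ℂ)) (H : Subgroup G) : Submodule ℂ (Fin n → ℂ) :=
  invariants (ρ.comp H.subtype)

theorem mem_inv (ρ : Representation ℂ G (Fin n → ℂ)) (H : Subgroup G) (v : Fin n → ℂ) :
    v ∈ inv ρ H ↔ ∀ h ∈ H, ρ h v = v := by
  unfold inv
  rw [mem_invariants]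
  constructor
  · intro h g hg
    exact h ⟨g, hg⟩
  · intro h g
    exact h g g.2

theorem inner_one_eq_finrank (ρ : Representation ℂ G (Fin n → ℂ)) (H : Subgroup G) [Fintype H] :
    Cfsg.classInner (fun x : H => ρ.character x) (fun _ => 1) = (finrank ℂ (inv ρ H) : ℂ) := by
  have hne : (Nat.card H : ℂ) ≠ 0 := by
    have : Nat.card H ≠ 0 := Nat.card_pos.ne'
    exact_mod_cast this
  haveI : Invertible (Nat.card H : ℂ) := invertibleOfNonzero hne
  have h := card_inv_mul_sum_char_eq_finrank (ρ.comp H.subtype)
  unfold Cfsg.classInner inv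
  rw [← h]
  congr 1
  apply Finset.sum_congr rfl
  intro g _
  simp only [map_one, mul_one]
  rfl

theorem result {G : Type*} [Group G] [Fintype G] [IsSimpleGroup G] (H₁ H₂ : Subgroup G) [Fintype H₁] [Fintype H₂] [Fintype ↥(H₁ ⊓ H₂)] (χ : G → ℂ) (hχ : Cfsg.IsIrrCharacter G χ) (hχ1 : χ ≠ fun _ => 1) (hlt : (Cfsg.classInner (fun x : ↥(H₁ ⊓ H₂) => χ x) (fun _ => 1)).re < (Cfsg.classInner (fun x : H₁ => χ x) (fun _ => 1)).re + (Cfsg.classInner (fun x : H₂ => χ x) (fun _ => 1)).re) : H₁ ⊔ H₂ ≠ ⊤ := by
  obtain ⟨n, ρ, hirr, rfl⟩ := hχ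
  intro htop
  rw [inner_one_eq_finrank ρ (H₁ ⊓ H₂), inner_one_eq_finrank ρ H₁, inner_one_eq_finrank ρ H₂] at hlt
  simp only [Complex.natCast_re] at hlt
  -- invariants of G
  have hinf : inv ρ H₁ ⊓ inv ρ H₂ = invariants ρ := by
    ext v
    rw [Submodule.mem_inf, mem_inv, mem_inv, mem_invariants]
    constructor
    · rintro ⟨h1, h2⟩ g
      have hg : g ∈ H₁ ⊔ H₂ := by rw [htop]; trivial
      -- stabilizer subgroup
      let S : Subgroup G :=
        { carrier := {g | ρ g v = v}
          mul_mem' := by
            intro a b ha hb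
            simp only [Set.mem_ofPred_eq] at ha hb ⊢
            rw [map_mul, Module.End.mul_apply, hb, ha]
          one_mem' := by simp
          inv_mem' := by
            intro a ha
            simp only [Set.mem_ofPred_eq] at ha ⊢
            have : ρ a⁻¹ (ρ a v) = v := by
              rw [← Module.End.mul_apply, ← map_mul, inv_mul_cancel, map_one, Module.End.one_apply]
            rw [ha] at this
            exact this }
      have hle : H₁ ⊔ H₂ ≤ S := sup_le (fun x hx => h1 x hx) (fun x hx => h2 x hx)
      exact hle hg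
    · intro h
      exact ⟨fun g _ => h g, fun g _ => h g⟩
  -- invariants is a subrepresentation
  let I : Subrepresentation ρ :=
    { toSubmodule := invariants ρ
      apply_mem_toSubmodule := by
        intro g v hv
        rw [mem_invariants] at hv
        rw [hv g]
        exact (mem_invariants ρ v).mpr hv }
  have hI : I = ⊥ ∨ I = ⊤ := IsSimpleOrder.eq_bot_or_eq_top I
  have hIbot : invariants ρ = ⊥ := by
    rcases hI with h | h
    · have := congrArg Subrepresentation.toSubmodule h
      exact this
    · exfalso
      have htopI : invariants ρ = ⊤ := congrArg Subrepresentation.toSubmodule h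
      have hfix : ∀ g : G, ∀ v, ρ g v = v := by
        intro g v
        have : v ∈ invariants ρ := by rw [htopI]; trivial
        exact (mem_invariants ρ v).mp this g
      -- V nontrivial
      have hnt : (⊥ : Subrepresentation ρ) ≠ ⊤ := bot_ne_top
      have hV : ∃ v : Fin n → ℂ, v ≠ 0 := by
        by_contra hcon
        push Not at hcon
        apply hnt
        apply Subrepresentation.toSubmodule_injective
        show (⊥ : Submodule ℂ (Fin n → ℂ)) = ⊤
        ext v
        simp [hcon v]
      obtain ⟨v, hv⟩ := hV
      let L : Subrepresentation ρ :=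
        { toSubmodule := Submodule.span ℂ {v}
          apply_mem_toSubmodule := by
            intro g w hw
            rw [hfix g w]
            exact hw }
      have hL : L = ⊥ ∨ L = ⊤ := IsSimpleOrder.eq_bot_or_eq_top L
      have hLtop : Submodule.span ℂ {v} = ⊤ := by
        rcases hL with h | h
        · exfalso
          have : Submodule.span ℂ {v} = ⊥ := congrArg Subrepresentation.toSubmodule h
          rw [Submodule.span_singleton_eq_bot] at this
          exact hv this
        · exact congrArg Subrepresentation.toSubmodule h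
      have hdim : finrank ℂ (Fin n → ℂ) = 1 := by
        rw [← finrank_top ℂ (Fin n → ℂ), ← hLtop]
        exact finrank_span_singleton hv
      apply hχ1
      funext g
      unfold Representation.character
      have : ρ g = LinearMap.id := by
        apply LinearMap.ext
        intro w
        exact hfix g w
      rw [this, LinearMap.trace_id, hdim]
      simp
  rw [hIbot] at hinf
  have hle : inv ρ H₁ ⊔ inv ρ H₂ ≤ inv ρ (H₁ ⊓ H₂) := by
    apply sup_le
    · intro v hv
      rw [mem_inv] at hv ⊢
      exact fun g hg => hv g hg.1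
    · intro v hv
      rw [mem_inv] at hv ⊢
      exact fun g hg => hv g hg.2
  have h1 := Submodule.finrank_sup_add_finrank_inf_eq (inv ρ H₁) (inv ρ H₂)
  rw [hinf, finrank_bot, add_zero] at h1
  have h2 := Submodule.finrank_mono hle
  have : (finrank ℂ (inv ρ H₁) : ℝ) + finrank ℂ (inv ρ H₂) ≤ finrank ℂ (inv ρ (H₁ ⊓ H₂)) := by
    rw [h1] at h2
    exact_mod_cast h2
  linarith

end Cfsg.Agent.S0192
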