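import Mathlib
import Cfsg.Statements.S0193
import Cfsg.Agent.Lib.Helper5.Clifford

set_option autoImplicit false
open Cfsg

namespace Cfsg.Agent.S0193

open Cfsg.Agent.Helper24 Cfsg.Agent.Helper5
open scoped ComplexConjugate

/-- Let H be a normal subgroup of a finite group G and θ an irreducible character of H. Then |H| times the inner product of the induced function of θ with itself equals the number of g in G with θ(g h g⁻¹) = θ(h) for all h in H; in particular the induced character is irreducible when only elements of H stabilise θ. -/
theorem result {G : Type*} [Group G] [Fintype G] (H : Subgroup G) [hN : H.Normal] (θ : H → ℂ) (hθ : Cfsg.IsIrrCharacter H θ) : (Nat.card H : ℂ) * Cfsg.classInner (Cfsg.indFun H θ) (Cfsg.indFun H θ) = (Nat.card {g : G // ∀ h : H, θ ⟨g * h * g⁻¹, hN.conj_mem h h.2 g⟩ = θ h} : ℂ) := by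
  classical
  haveI : Fintype H := Fintype.ofFinite H
  have h1 : classInner (indFun H θ) (indFun H θ) = classInner θ (fun h : H => indFun H θ h) :=
    frobenius_reciprocity H θ (isClassFunction_indFun H θ)
  rw [h1, indFun_normal_restrict, classInner_smul_right, classInner_sum_right]
  have h2 : ∀ x : G, classInner θ (conjFun H x θ) = if conjFun H x θ = θ then 1 else 0 := by
    intro x
    rw [irr_orthogonality hθ (isIrrCharacter_conjFun H x hθ)]
    by_cases h : conjFun H x θ = θ
    · rw [if_pos h, if_pos h.symm]
    · rw [if_neg h, if_neg (fun h' => h h'.symm)]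
  simp only [h2]
  rw [Finset.sum_boole]
  have hH0 : (Nat.card H : ℂ) ≠ 0 := by
    rw [Nat.cast_ne_zero]; exact Nat.card_pos.ne'
  rw [map_inv₀, Complex.conj_natCast, ← mul_assoc, mul_inv_cancel₀ hH0, one_mul]
  congr 1
  rw [← Fintype.card_subtype, ← Nat.card_eq_fintype_card]
  apply Nat.card_congr
  refine Equiv.subtypeEquivRight ?_
  intro g
  constructor
  · intro h k
    have := congrFun h k
    rw [conjFun_apply] at this
    exact this
  · intro h
    funext k
    rw [conjFun_apply]
    exact h k

end Cfsg.Agent.S0193
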