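import Mathlib
import Cfsg.Statements.S0194
import Cfsg.Agent.Lib.Helper5.Clifford
import Cfsg.Agent.S0161

set_option autoImplicit false
open Cfsg

namespace Cfsg.Agent.S0194

open Cfsg.Agent.Helper24 Cfsg.Agent.Helper5
open scoped ComplexConjugate

theorem conj_extendByZero {G : Type*} [Group G] (H : Subgroup G) (θ : H → ℂ) (u : G) :
    conj (extendByZero H θ u) = extendByZero H (fun h => conj (θ h)) u := by
  by_cases hu : u ∈ H
  · rw [Cfsg.Agent.Helper24.extendByZero_of_mem H θ hu,
      Cfsg.Agent.Helper24.extendByZero_of_mem H _ hu]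
  · rw [Cfsg.Agent.Helper24.extendByZero_of_not_mem H θ hu,
      Cfsg.Agent.Helper24.extendByZero_of_not_mem H _ hu, map_zero]

theorem conj_indFun {G : Type*} [Group G] [Fintype G] (H : Subgroup G) (θ : H → ℂ) (g : G) :
    conj (indFun H θ g) = indFun H (fun h => conj (θ h)) g := by
  rw [indFun_apply, indFun_apply, map_mul, map_inv₀, Complex.conj_natCast, map_sum]
  congr 1
  apply Finset.sum_congr rfl
  intro x _
  exact conj_extendByZero H θ _

theorem conjFun_pow_of_fixed {G : Type*} [Group G] (H : Subgroup G) [H.Normal] (θ : H → ℂ) (y : G)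
    (hy : conjFun H y θ = θ) (k : ℕ) : conjFun H (y ^ k) θ = θ := by
  induction k with
  | zero => rw [pow_zero, conjFun_one]
  | succ k ih => rw [pow_succ, conjFun_mul, ih, hy]

/-- Let G have odd order, H be a normal subgroup and θ a non-principal irreducible character of H. Then the function induced from θ is orthogonal to its complex conjugate. -/
theorem result {G : Type*} [Group G] [Fintype G] (hodd : Odd (Nat.card G)) (H : Subgroup G) [H.Normal] (θ : H → ℂ) (hθ : Cfsg.IsIrrCharacter H θ) (hθ1 : θ ≠ fun _ => 1) : Cfsg.classInner (fun g => conj (Cfsg.indFun H θ g)) (Cfsg.indFun H θ) = 0 := by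
  classical
  haveI : Fintype H := Fintype.ofFinite H
  letI : Fintype (IrrCharacter H) := irrFintype
  set θb : H → ℂ := fun h => conj (θ h) with hθb
  have hθbirr : IsIrrCharacter H θb := isIrrCharacter_conj hθ
  have h0 : (fun g => conj (indFun H θ g)) = indFun H θb := by
    funext g
    exact conj_indFun H θ g
  rw [h0]
  have h1 : classInner (indFun H θb) (indFun H θ) = classInner θb (fun h : H => indFun H θ h) :=
    frobenius_reciprocity H θb (isClassFunction_indFun H θ)
  rw [h1, indFun_normal_restrict, classInner_smul_right, classInner_sum_right]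
  have hoddH : Odd (Nat.card H) := by
    have hdvd : Nat.card H ∣ Nat.card G := Subgroup.card_subgroup_dvd_card H
    exact Odd.of_dvd_nat hodd hdvd
  have key : ∀ x : G, θb ≠ conjFun H x θ := by
    intro x hx
    -- conjFun x θb = θ
    have h2 : conjFun H x θb = θ := by
      have : conjFun H x θb = fun h => conj (conjFun H x θ h) := rfl
      rw [this, ← hx]
      funext h
      simp [hθb]
    have h3 : conjFun H (x * x) θ = θ := by
      rw [conjFun_mul, ← hx, h2]
    -- x is a power of x * x
    have hordodd : Odd (orderOf x) := Odd.of_dvd_nat hodd (orderOf_dvd_natCard x)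
    obtain ⟨m, hm⟩ := hordodd
    have hxpow : (x * x) ^ (m + 1) = x := by
      rw [← pow_two, ← pow_mul]
      have : 2 * (m + 1) = orderOf x + 1 := by omega
      rw [this, pow_succ, pow_orderOf_eq_one, one_mul]
    have h4 : conjFun H x θ = θ := by
      have := conjFun_pow_of_fixed H θ (x * x) h3 (m + 1)
      rwa [hxpow] at this
    -- θ is real valued
    have hreal : ∀ h : H, (θ h).im = 0 := by
      intro h
      have : conj (θ h) = θ h := by
        have := congrFun (hx.trans h4) h
        exact this
      exact Complex.conj_eq_iff_im.mp this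
    exact hθ1 (Cfsg.Agent.S0161.result hoddH ⟨θ, hθ⟩ hreal)
  have h2 : ∀ x : G, classInner θb (conjFun H x θ) = 0 := by
    intro x
    rw [irr_orthogonality hθbirr (isIrrCharacter_conjFun H x hθ), if_neg (key x)]
  simp only [h2, Finset.sum_const_zero, mul_zero]

end Cfsg.Agent.S0194
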