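import Mathlib
import Cfsg.Statements.S0196
import Cfsg.Agent.Lib.Helper1.Action

set_option autoImplicit false
open Cfsg

namespace Cfsg.Agent.S0196

open Cfsg.Agent.Helper1

/-- The non-identity elements of `A`. -/
abbrev X {G : Type*} [Group G] (A : Subgroup G) : Type _ := {a : G // a ∈ A ∧ a ≠ 1}

/-- The normalizer of `A` acts on the non-identity elements of `A` by conjugation. -/
instance actX {G : Type*} [Group G] (A : Subgroup G) :
    MulAction (Subgroup.normalizer (A : Set G)) (X A) where
  smul n a := ⟨(n : G) * a.1 * (n : G)⁻¹, by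
    refine ⟨(Subgroup.mem_normalizer_iff.mp n.2 a.1).mp a.2.1, ?_⟩
    intro h
    apply a.2.2
    have : a.1 = (n : G)⁻¹ * ((n : G) * a.1 * (n : G)⁻¹) * (n : G) := by group
    rw [this, h]; group⟩
  one_smul a := by
    apply Subtype.ext
    change ((1 : Subgroup.normalizer (A : Set G)) : G) * a.1 * ((1 : Subgroup.normalizer (A : Set G)) : G)⁻¹ = a.1
    simp
  mul_smul m n a := by
    apply Subtype.ext
    change ((m * n : Subgroup.normalizer (A : Set G)) : G) * a.1 * ((m * n : Subgroup.normalizer (A : Set G)) : G)⁻¹ = (m : G) * ((n : G) * a.1 * (n : G)⁻¹) * (m : G)⁻¹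
    simp only [Subgroup.coe_mul]
    group

theorem result {G : Type*} [Group G] [Finite G] (A : Subgroup G) (hA : ∀ x ∈ A, x ≠ 1 → Subgroup.centralizer ({x} : Set G) = A) : (A.subgroupOf (Subgroup.normalizer (A : Set G))).index ∣ Nat.card A - 1 := by
  classical
  have hcard : Nat.card (X A) = Nat.card A - 1 := by
    have h1 : Nat.card (X A) = Nat.card {a : A // a ≠ 1} := by
      apply Nat.card_congr
      refine ⟨fun a => ⟨⟨a.1, a.2.1⟩, fun h => a.2.2 (congrArg Subtype.val h)⟩,
        fun a => ⟨a.1.1, a.1.2, fun h => a.2 (Subtype.ext h)⟩, fun a => rfl, fun a => rfl⟩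
    rw [h1]
    have : Fintype A := Fintype.ofFinite _
    rw [Nat.card_eq_fintype_card, Fintype.card_subtype_compl, Fintype.card_subtype_eq,
      Nat.card_eq_fintype_card]
  rw [← hcard]
  apply dvd_card_of_forall_index_stabilizer_eq (G := Subgroup.normalizer (A : Set G))
  intro a
  congr 1
  ext n
  rw [MulAction.mem_stabilizer_iff, Subgroup.mem_subgroupOf]
  have h1 := hA a.1 a.2.1 a.2.2
  have h3 : (n : G) ∈ A ↔ (n : G) * a.1 = a.1 * n := by
    rw [← Subgroup.mem_centralizer_singleton_iff, h1]
  rw [h3]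
  constructor
  · intro h
    have h2 : (n : G) * a.1 * (n : G)⁻¹ = a.1 := congrArg Subtype.val h
    calc (n : G) * a.1 = (n : G) * a.1 * (n : G)⁻¹ * (n : G) := by group
      _ = a.1 * n := by rw [h2]
  · intro h
    apply Subtype.ext
    change (n : G) * a.1 * (n : G)⁻¹ = a.1
    rw [h]; group

end Cfsg.Agent.S0196
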