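import Mathlib
import Cfsg.Statements.S0198
import Cfsg.Agent.Lib.Helper8.InnerExtra
import Cfsg.Agent.Lib.Helper24.CharLinear

set_option autoImplicit false
open Cfsg

namespace Cfsg.Agent.S0198

open Cfsg.Agent.Helper24 Cfsg.Agent.Helper8

/-- Two differences of irreducible characters with inner product `1` share exactly one of their
two parts. -/
theorem pair_cases {G : Type*} [Group G] [Fintype G] {a b a' b' : G → ℂ}
    (ha : IsIrrCharacter G a) (hb : IsIrrCharacter G b) (ha' : IsIrrCharacter G a')
    (hb' : IsIrrCharacter G b') (hab : a ≠ b) (hab' : a' ≠ b')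
    (h : classInner (a - b) (a' - b') = 1) :
    (a = a' ∧ b ≠ b') ∨ (b = b' ∧ a ≠ a') := by
  rw [classInner_sub_left, classInner_sub_right, classInner_sub_right,
    irr_orthogonality ha ha', irr_orthogonality ha hb', irr_orthogonality hb ha',
    irr_orthogonality hb hb'] at h
  by_cases h1 : a = a'
  · left
    refine ⟨h1, ?_⟩
    intro h2
    have h3 : a ≠ b' := fun h3 => hab' (h1.symm.trans h3)
    have h4 : b ≠ a' := fun h4 => hab (h1.trans h4.symm)
    rw [if_pos h1, if_pos h2, if_neg h3, if_neg h4] at h
    norm_num at h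
  · right
    by_cases h2 : b = b'
    · exact ⟨h2, h1⟩
    · exfalso
      rw [if_neg h1, if_neg h2] at h
      by_cases h3 : a = b' <;> by_cases h4 : b = a'
      · rw [if_pos h3, if_pos h4] at h; norm_num at h
      · rw [if_pos h3, if_neg h4] at h; norm_num at h
      · rw [if_neg h3, if_pos h4] at h; norm_num at h
      · rw [if_neg h3, if_neg h4] at h; norm_num at h

/-- The isometry lemma behind exceptional characters. Let τ be a family of generalized characters of a finite group G indexed by Fin n, with τ i₀ = 0, every τ i vanishing at the identity, and inner products ⟨τ i, τ j⟩ = 2 if i = j and 1 otherwise for i, j ≠ i₀. Then there are a sign ε and pairwise distinct irreducible characters μ i with τ i = ε (μ i − μ i₀) for all i. -/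
theorem result {G : Type*} [Group G] [Fintype G] (n : ℕ) (i₀ : Fin n) (τ : Fin n → (G → ℂ)) (h0 : τ i₀ = 0) (hgen : ∀ i, Cfsg.IsGeneralizedCharacter G (τ i)) (hone : ∀ i, τ i 1 = 0) (hgram : ∀ i j, i ≠ i₀ → j ≠ i₀ → Cfsg.classInner (τ i) (τ j) = if i = j then 2 else 1) : ∃ ε : ℂ, (ε = 1 ∨ ε = -1) ∧ ∃ μ : Fin n → (G → ℂ), (∀ i, Cfsg.IsIrrCharacter G (μ i)) ∧ Function.Injective μ ∧ ∀ i, τ i = ε • (μ i - μ i₀) := by
  classical
  -- decompose each τ i
  have hdec : ∀ i : Fin n, ∃ a b : G → ℂ, IsIrrCharacter G a ∧ IsIrrCharacter G b ∧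
      (i ≠ i₀ → a ≠ b ∧ τ i = a - b) := by
    intro i
    by_cases hi : i = i₀
    · exact ⟨fun _ => 1, fun _ => 1, isIrrCharacter_one, isIrrCharacter_one, fun h => absurd hi h⟩
    · have h2 : classInner (τ i) (τ i) = 2 := by rw [hgram i i hi hi, if_pos rfl]
      obtain ⟨a, b, ha, hb, hab, hτ⟩ := genChar_norm_two (hgen i) h2 (hone i)
      exact ⟨a, b, ha, hb, fun _ => ⟨hab, hτ⟩⟩
  choose a b ha hb hab using hdec
  have hpair : ∀ i j : Fin n, i ≠ i₀ → j ≠ i₀ → i ≠ j →
      (a i = a j ∧ b i ≠ b j) ∨ (b i = b j ∧ a i ≠ a j) := by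
    intro i j hi hj hij
    apply pair_cases (ha i) (hb i) (ha j) (hb j) (hab i hi).1 (hab j hj).1
    rw [← (hab i hi).2, ← (hab j hj).2, hgram i j hi hj, if_neg hij]
  by_cases hI : ∃ i₁ : Fin n, i₁ ≠ i₀
  swap
  · -- only the index i₀
    push Not at hI
    refine ⟨1, Or.inl rfl, fun _ => fun _ => 1, fun _ => isIrrCharacter_one, ?_, ?_⟩
    · intro i j _
      rw [hI i, hI j]
    · intro i
      rw [hI i, h0, sub_self, smul_zero]
  obtain ⟨i₁, hi₁⟩ := hI
  by_cases hSb : ∃ j : Fin n, j ≠ i₀ ∧ j ≠ i₁ ∧ b j = b i₁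
  · -- all share the negative part
    obtain ⟨j, hj, hji, hbj⟩ := hSb
    have hall : ∀ k : Fin n, k ≠ i₀ → b k = b i₁ := by
      intro k hk
      by_cases hk1 : k = i₁
      · rw [hk1]
      by_cases hkj : k = j
      · rw [hkj, hbj]
      rcases hpair i₁ k hi₁ hk (Ne.symm hk1) with ⟨hA, hB⟩ | ⟨hB, _⟩
      · exfalso
        rcases hpair j k hj hk (Ne.symm hkj) with ⟨hA', _⟩ | ⟨hB', _⟩
        · -- a j = a k = a i₁ and b j = b i₁
          rcases hpair i₁ j hi₁ hj (Ne.symm hji) with ⟨_, hB''⟩ | ⟨_, hA''⟩
          · exact hB'' hbj.symm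
          · exact hA'' (hA.trans hA'.symm)
        · exact hB (hbj.symm.trans hB')
      · exact hB.symm
    refine ⟨1, Or.inl rfl, fun i => if i = i₀ then b i₁ else a i, ?_, ?_, ?_⟩
    · intro i
      by_cases hi : i = i₀
      · simp only [hi, if_true]; exact hb i₁
      · simp only [hi, if_false]; exact ha i
    · intro i k hik
      by_contra hne
      by_cases hi : i = i₀ <;> by_cases hk : k = i₀
      · exact hne (hi.trans hk.symm)
      · simp only [hi, hk, if_true, if_false] at hik
        -- b i₁ = a k, but b k = b i₁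
        exact (hab k hk).1 (hik.symm.trans (hall k hk).symm)
      · simp only [hi, hk, if_true, if_false] at hik
        exact (hab i hi).1 (hik.trans (hall i hi).symm)
      · simp only [hi, hk, if_false] at hik
        rcases hpair i k hi hk hne with ⟨_, hB⟩ | ⟨_, hA⟩
        · exact hB ((hall i hi).trans (hall k hk).symm)
        · exact hA hik
    · intro i
      by_cases hi : i = i₀
      · simp only [hi, if_true, sub_self, smul_zero]; exact h0
      · simp only [hi, if_false, if_true, one_smul]
        rw [(hab i hi).2, hall i hi]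
  · -- all share the positive part
    push Not at hSb
    have hall : ∀ k : Fin n, k ≠ i₀ → a k = a i₁ := by
      intro k hk
      by_cases hk1 : k = i₁
      · rw [hk1]
      rcases hpair i₁ k hi₁ hk (Ne.symm hk1) with ⟨hA, _⟩ | ⟨hB, _⟩
      · exact hA.symm
      · exact absurd hB.symm (hSb k hk hk1)
    refine ⟨-1, Or.inr rfl, fun i => if i = i₀ then a i₁ else b i, ?_, ?_, ?_⟩
    · intro i
      by_cases hi : i = i₀
      · simp only [hi, if_true]; exact ha i₁
      · simp only [hi, if_false]; exact hb i
    · intro i k hik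
      by_contra hne
      by_cases hi : i = i₀ <;> by_cases hk : k = i₀
      · exact hne (hi.trans hk.symm)
      · simp only [hi, hk, if_true, if_false] at hik
        exact (hab k hk).1 ((hall k hk).trans hik)
      · simp only [hi, hk, if_true, if_false] at hik
        exact (hab i hi).1 ((hall i hi).trans hik.symm)
      · simp only [hi, hk, if_false] at hik
        rcases hpair i k hi hk hne with ⟨_, hB⟩ | ⟨_, hA⟩
        · exact hB hik
        · exact hA ((hall i hi).trans (hall k hk).symm)
    · intro i
      by_cases hi : i = i₀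
      · simp only [hi, if_true, sub_self, smul_zero]; exact h0
      · simp only [hi, if_false, if_true]
        rw [(hab i hi).2, hall i hi]
        ext g
        simp

end Cfsg.Agent.S0198
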