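import Mathlib
import Cfsg.Statements.S0200
import Cfsg.Agent.Lib.Helper21.BaerSuzuki

set_option autoImplicit false
open Cfsg

namespace Cfsg.Agent.S0200

/-- An involution lying in no normal 2-subgroup of a finite group inverts a nontrivial element of odd order (a consequence of the Baer–Suzuki Theorem). -/
theorem result {G : Type*} [Group G] [Finite G] (t : G) (ht : orderOf t = 2) (hO : ∀ N : Subgroup G, N.Normal → IsPGroup 2 N → t ∉ N) : ∃ h : G, h ≠ 1 ∧ Odd (orderOf h) ∧ t * h * t⁻¹ = h⁻¹ := by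
  haveI : Fact (Nat.Prime 2) := ⟨Nat.prime_two⟩
  have htt : t * t = 1 := by
    have := pow_orderOf_eq_one t
    rw [ht, pow_two] at this
    exact this
  have htinv : t⁻¹ = t := inv_eq_of_mul_eq_one_left htt
  -- zpowers t is a 2-group
  have hX : IsPGroup 2 (Subgroup.zpowers t) := by
    apply IsPGroup.of_card (n := 1)
    rw [Nat.card_zpowers, ht, pow_one]
  -- Baer–Suzuki contrapositive
  have hex : ∃ g : G, ¬ IsPGroup 2 ↥(Subgroup.zpowers t ⊔
      (Subgroup.zpowers t).map (MulAut.conj g).toMonoidHom) := by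
    by_contra hcon
    push Not at hcon
    obtain ⟨N, hN, hNp, hle⟩ := Cfsg.Agent.Helper21.baer_suzuki (p := 2) (Subgroup.zpowers t) hcon
    exact hO N hN hNp (hle (Subgroup.mem_zpowers t))
  obtain ⟨g, hg⟩ := hex
  set s := g * t * g⁻¹ with hs
  have hmap : (Subgroup.zpowers t).map (MulAut.conj g).toMonoidHom = Subgroup.zpowers s := by
    rw [MonoidHom.map_zpowers]
    simp [hs, MulAut.conj_apply]
  rw [hmap] at hg
  have hss : s * s = 1 := by
    rw [hs]
    calc g * t * g⁻¹ * (g * t * g⁻¹) = g * (t * t) * g⁻¹ := by group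
      _ = 1 := by rw [htt]; group
  have hsinv : s⁻¹ = s := inv_eq_of_mul_eq_one_left hss
  set d := t * s with hd
  have hconj : t * d * t⁻¹ = d⁻¹ := by
    rw [hd, mul_inv_rev, hsinv, htinv, ← mul_assoc, htt, one_mul]
  have hconj_pow : ∀ n : ℕ, t * d ^ n * t⁻¹ = (d ^ n)⁻¹ := by
    intro n
    have : t * d ^ n * t⁻¹ = (t * d * t⁻¹) ^ n := by
      rw [conj_pow]
    rw [this, hconj, inv_pow]
  -- orderOf d is not a power of 2
  have hdpos : 0 < orderOf d := orderOf_pos d
  obtain ⟨k, m, hm, hkm⟩ := Nat.exists_eq_two_pow_mul_odd hdpos.ne'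
  have hm1 : m ≠ 1 := by
    rintro rfl
    rw [mul_one] at hkm
    apply hg
    have hdp : IsPGroup 2 (Subgroup.zpowers d) := by
      apply IsPGroup.of_card (n := k)
      rw [Nat.card_zpowers, hkm]
    have htN : Subgroup.zpowers t ≤ Subgroup.normalizer (Subgroup.zpowers d : Set G) := by
      rw [Subgroup.zpowers_le]
      apply Subgroup.mem_normalizer_fintype
      intro x hx
      obtain ⟨n, rfl⟩ := (Subgroup.mem_zpowers_iff).mp hx
      have : t * d ^ n * t⁻¹ = (t * d * t⁻¹) ^ n := by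
        rw [conj_zpow]
      rw [SetLike.mem_coe, this, hconj, inv_zpow]
      exact Subgroup.inv_mem _ (Subgroup.zpow_mem _ (Subgroup.mem_zpowers d) n)
    have hsup : IsPGroup 2 (Subgroup.zpowers d ⊔ Subgroup.zpowers t : Subgroup G) :=
      hdp.to_sup_of_normal_left' hX htN
    apply hsup.to_le
    apply sup_le le_sup_right
    rw [Subgroup.zpowers_le]
    have hst : s = t⁻¹ * d := by rw [hd]; group
    rw [hst]
    exact Subgroup.mul_mem _ (Subgroup.inv_mem _ (Subgroup.mem_sup_right (Subgroup.mem_zpowers t)))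
      (Subgroup.mem_sup_left (Subgroup.mem_zpowers d))
  have hmpos : 0 < m := hm.pos
  refine ⟨d ^ (2 ^ k), ?_, ?_, hconj_pow _⟩
  · intro h1
    have hdvd : orderOf d ∣ 2 ^ k := orderOf_dvd_of_pow_eq_one h1
    rw [hkm] at hdvd
    have : m ∣ 1 := by
      have h2 : 2 ^ k * m ∣ 2 ^ k * 1 := by rwa [mul_one]
      exact (Nat.mul_dvd_mul_iff_left (by positivity)).mp h2
    exact hm1 (Nat.dvd_one.mp this)
  · have : orderOf (d ^ (2 ^ k)) = m := by
      rw [orderOf_pow_of_dvd (by positivity) (by rw [hkm]; exact dvd_mul_right _ _), hkm]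
      exact Nat.mul_div_cancel_left m (by positivity)
    rw [this]
    exact hm

end Cfsg.Agent.S0200
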