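import Mathlib
import Cfsg.Statements.S0206
import Cfsg.Agent.Lib.Helper2.Dihedral
import Cfsg.Agent.Lib.Helper3.Dihedral

set_option autoImplicit false
open Cfsg
open Cfsg.Agent.Helper2 Cfsg.Agent.Helper3

namespace Cfsg.Agent.S0206

variable {G : Type*} [Group G]

/-- an involution `x` cannot be a power of `x * y` when `y` is another involution. -/
theorem not_mem_zpowers {x y : G} (hx : orderOf x = 2) (hy : orderOf y = 2) (hxy : x ≠ y) :
    x ∉ Subgroup.zpowers (x * y) := by
  have hx2 := mul_self_of_orderOf_two hx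
  have hy2 := mul_self_of_orderOf_two hy
  intro hmem
  obtain ⟨k, hk⟩ := Subgroup.mem_zpowers_iff.mp hmem
  -- x commutes with x * y
  have hcomm : x * (x * y) = (x * y) * x := by
    have : Commute ((x * y) ^ k) (x * y) := (Commute.refl (x * y)).zpow_left k
    rw [hk] at this
    exact this.eq
  have h1 := dih_conj_left hx2 hy2
  rw [hcomm, mul_assoc, mul_inv_cancel, mul_one] at h1
  -- so (x*y)^2 = 1
  have hsq : (x * y) * (x * y) = 1 := by
    nth_rewrite 2 [h1]
    exact mul_inv_cancel _
  have hpow : ∀ j : ℤ, (x * y) ^ j = 1 ∨ (x * y) ^ j = x * y := by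
    intro j
    rcases Int.even_or_odd j with ⟨m, rfl⟩ | ⟨m, rfl⟩
    · left
      rw [← two_mul, zpow_mul, zpow_two, hsq, one_zpow]
    · right
      rw [zpow_add, zpow_mul, zpow_two, hsq, one_zpow, one_mul, zpow_one]
  rcases hpow k with h | h
  · rw [h] at hk
    exact ne_one_of_orderOf_two hx hk.symm
  · rw [h] at hk
    have : y = 1 := by
      have := mul_left_cancel (a := x) (b := y) (c := 1) (by rw [mul_one]; exact hk)
      exact this
    exact ne_one_of_orderOf_two hy this

/-- Two distinct involutions x, y of a finite group generate a subgroup isomorphic to the dihedral group of order 2·|xy|. -/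
theorem result {G : Type*} [Group G] [Finite G] (x y : G) (hx : orderOf x = 2) (hy : orderOf y = 2) (hxy : x ≠ y) : Nonempty (↥(Subgroup.closure ({x, y} : Set G)) ≃* DihedralGroup (orderOf (x * y))) := by
  have hx2 := mul_self_of_orderOf_two hx
  have hy2 := mul_self_of_orderOf_two hy
  haveI : NeZero (orderOf (x * y)) := ⟨(orderOf_pos (x * y)).ne'⟩
  have hsx : x * (x * y) * x = (x * y)⁻¹ := by
    have := dih_conj_left hx2 hy2
    rwa [inv_eq_self_of_mul_self hx2] at this
  let φ : DihedralGroup (orderOf (x * y)) →* G :=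
    dihedralLift (x * y) x (pow_orderOf_eq_one _) hx2 hsx
  have hxmem : x ∈ Subgroup.closure ({x, y} : Set G) := Subgroup.subset_closure (by simp)
  have hymem : y ∈ Subgroup.closure ({x, y} : Set G) := Subgroup.subset_closure (by simp)
  have hrange : ∀ g, φ g ∈ Subgroup.closure ({x, y} : Set G) := by
    intro g
    cases g with
    | r i =>
      show zmodPow (x * y) i ∈ _
      exact Subgroup.pow_mem _ (Subgroup.mul_mem _ hxmem hymem) _
    | sr i =>
      show x * zmodPow (x * y) i ∈ _
      exact Subgroup.mul_mem _ hxmem (Subgroup.pow_mem _ (Subgroup.mul_mem _ hxmem hymem) _)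
  let ψ : DihedralGroup (orderOf (x * y)) →* Subgroup.closure ({x, y} : Set G) :=
    φ.codRestrict _ hrange
  have hzpow : ∀ j : ℤ, zmodPow (x * y) ((j : ZMod (orderOf (x * y)))) = (x * y) ^ j := by
    intro j
    unfold zmodPow
    rw [← zpow_natCast, ZMod.val_intCast, zpow_mod_orderOf]
  have hinj : Function.Injective ψ := by
    rw [injective_iff_map_eq_one]
    intro g hg
    have hg' : φ g = 1 := congrArg Subtype.val hg
    cases g with
    | r i =>
      have h1 : (x * y) ^ i.val = 1 := hg'
      have h2 : orderOf (x * y) ∣ i.val := orderOf_dvd_of_pow_eq_one h1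
      have h3 : i.val < orderOf (x * y) := ZMod.val_lt i
      have h4 : i.val = 0 := Nat.eq_zero_of_dvd_of_lt h2 h3
      have h5 : i = 0 := (ZMod.val_eq_zero i).mp h4
      rw [h5]
      rfl
    | sr i =>
      exfalso
      have h1 : x * (x * y) ^ i.val = 1 := hg'
      apply not_mem_zpowers hx hy hxy
      have h2 : x = ((x * y) ^ i.val)⁻¹ := eq_inv_of_mul_eq_one_left h1
      have h3 : ((x * y) ^ i.val)⁻¹ ∈ Subgroup.zpowers (x * y) :=
        Subgroup.inv_mem _ (Subgroup.pow_mem _ (Subgroup.mem_zpowers _) _)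
      rw [← h2] at h3
      exact h3
  have hsurj : Function.Surjective ψ := by
    rintro ⟨d, hd⟩
    obtain ⟨j, hj | hj⟩ := dih_mem_closure hx2 hy2 hd
    · refine ⟨DihedralGroup.r (j : ZMod (orderOf (x * y))), ?_⟩
      apply Subtype.ext
      show zmodPow (x * y) _ = d
      rw [hzpow, hj]
    · refine ⟨DihedralGroup.sr ((-j : ℤ) : ZMod (orderOf (x * y))), ?_⟩
      apply Subtype.ext
      show x * zmodPow (x * y) _ = d
      rw [hzpow, hj, dih_swap hx2 hy2, neg_neg]
  exact ⟨(MulEquiv.ofBijective ψ ⟨hinj, hsurj⟩).symm⟩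

end Cfsg.Agent.S0206
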