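import Mathlib
import Cfsg.Statements.S0208
import Cfsg.Agent.Lib.Helper2.Dihedral

set_option autoImplicit false
open Cfsg

namespace Cfsg.Agent.S0208

open Cfsg.Agent.Helper2

/-- If x, y are involutions and xy has odd order, then some element of the subgroup generated by x and y conjugates x to y. -/
theorem result {G : Type*} [Group G] [Finite G] (x y : G) (hx : orderOf x = 2) (hy : orderOf y = 2) (hodd : Odd (orderOf (x * y))) : ∃ d ∈ Subgroup.closure ({x, y} : Set G), d * x * d⁻¹ = y := by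
  have hx' := mul_self_of_orderOf_two hx
  have hy' := mul_self_of_orderOf_two hy
  obtain ⟨k, hk⟩ := hodd
  refine ⟨(x * y) ^ (k : ℤ), dih_zpow_mem_closure x y k, ?_⟩
  rw [dih_conj_x_by_zpow hx' hy']
  conv_rhs => rw [dih_y_eq' hx' hy']
  congr 1
  have h1 : (x * y) ^ ((2 * k + 1 : ℕ) : ℤ) = 1 := by
    rw [zpow_natCast, ← hk]; exact pow_orderOf_eq_one _
  have h2 : (x * y) ^ (2 * (k : ℤ)) * (x * y) ^ (1 : ℤ) = 1 := by
    rw [← zpow_add]; push_cast at h1; exact h1
  rw [zpow_neg]
  exact eq_inv_of_mul_eq_one_left h2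

end Cfsg.Agent.S0208
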