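import Mathlib
import Cfsg.Statements.S0209
import Cfsg.Agent.Lib.Helper2.Dihedral

set_option autoImplicit false
open Cfsg

namespace Cfsg.Agent.S0209

open Cfsg.Agent.Helper2

/-- If x, y are involutions whose product has even order n, the element (xy)^(n/2) is an involution that commutes with x and with y. -/
theorem result {G : Type*} [Group G] [Finite G] (x y : G) (hx : orderOf x = 2) (hy : orderOf y = 2) (heven : Even (orderOf (x * y))) : orderOf ((x * y) ^ (orderOf (x * y) / 2)) = 2 ∧ Commute ((x * y) ^ (orderOf (x * y) / 2)) x ∧ Commute ((x * y) ^ (orderOf (x * y) / 2)) y := by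
  have hx' := mul_self_of_orderOf_two hx
  have hy' := mul_self_of_orderOf_two hy
  have hpos : 0 < orderOf (x * y) := orderOf_pos _
  obtain ⟨k, hk⟩ := heven
  have hk2 : orderOf (x * y) / 2 = k := by omega
  have hkpos : 0 < k := by omega
  have hord : orderOf ((x * y) ^ (orderOf (x * y) / 2)) = 2 := by
    rw [hk2, orderOf_pow' _ hkpos.ne', hk]
    have : Nat.gcd (k + k) k = k := by
      rw [Nat.gcd_comm]; exact Nat.gcd_eq_left ⟨2, by ring⟩
    rw [this]
    have : k + k = 2 * k := by ring
    rw [this]; exact Nat.mul_div_cancel _ hkpos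
  have hz := mul_self_of_orderOf_two hord
  have hzinv := inv_eq_self_of_mul_self hz
  refine ⟨hord, ?_, ?_⟩
  · -- x z x⁻¹ = z⁻¹ = z
    have h := dih_conj_left_zpow hx' hy' ((orderOf (x * y) / 2 : ℕ) : ℤ)
    rw [zpow_neg, zpow_natCast, hzinv] at h
    show _ * x = x * _
    have : x * (x * y) ^ (orderOf (x * y) / 2) = (x * y) ^ (orderOf (x * y) / 2) * x := by
      conv_rhs => rw [← h]
      group
    exact this.symm
  · have h := dih_conj_right_zpow hx' hy' ((orderOf (x * y) / 2 : ℕ) : ℤ)
    rw [zpow_neg, zpow_natCast, hzinv] at h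
    show _ * y = y * _
    have : y * (x * y) ^ (orderOf (x * y) / 2) = (x * y) ^ (orderOf (x * y) / 2) * y := by
      conv_rhs => rw [← h]
      group
    exact this.symm

end Cfsg.Agent.S0209
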