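import Mathlib
import Cfsg.Statements.S0210
import Cfsg.Agent.Lib.Helper2.Dihedral

set_option autoImplicit false
open Cfsg

namespace Cfsg.Agent.S0210

open Cfsg.Agent.Helper2

/-- If x, y are involutions whose product has even order, no element of the subgroup generated by x and y conjugates x to y. -/
theorem result {G : Type*} [Group G] [Finite G] (x y : G) (hx : orderOf x = 2) (hy : orderOf y = 2) (heven : Even (orderOf (x * y))) (d : G) (hd : d ∈ Subgroup.closure ({x, y} : Set G)) : d * x * d⁻¹ ≠ y := by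
  have hx' := mul_self_of_orderOf_two hx
  have hy' := mul_self_of_orderOf_two hy
  intro h
  obtain ⟨j, hj⟩ := dih_conj_x hx' hy' hd
  rw [h] at hj
  conv_lhs at hj => rw [dih_y_eq' hx' hy']
  have h1 : (x * y) ^ (-1 : ℤ) = (x * y) ^ (2 * j) := mul_right_cancel hj
  have h2 : (x * y) ^ (2 * j + 1) = 1 := by
    rw [zpow_add, ← h1, ← zpow_add]; simp
  have h3 : (orderOf (x * y) : ℤ) ∣ 2 * j + 1 := orderOf_dvd_iff_zpow_eq_one.mpr h2
  obtain ⟨k, hk⟩ := heven
  rw [hk] at h3
  obtain ⟨c, hc⟩ := h3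
  push_cast at hc
  have hc' : 2 * j + 1 = 2 * ((k : ℤ) * c) := by rw [hc]; ring
  omega

end Cfsg.Agent.S0210
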