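import Mathlib
import Cfsg.Statements.S0211
import Cfsg.Agent.Lib.Helper2.Dihedral

set_option autoImplicit false
open Cfsg

namespace Cfsg.Agent.S0211

open Cfsg.Agent.Helper2

/-- Let x, y be involutions with xy of even order n and z = (xy)^(n/2). Then xz is conjugate to x by an element of the subgroup generated by x, y if and only if 4 divides n. -/
theorem result {G : Type*} [Group G] [Finite G] (x y : G) (hx : orderOf x = 2) (hy : orderOf y = 2) (heven : Even (orderOf (x * y))) : (∃ d ∈ Subgroup.closure ({x, y} : Set G), d * x * d⁻¹ = x * (x * y) ^ (orderOf (x * y) / 2)) ↔ 4 ∣ orderOf (x * y) := by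
  have hx' := mul_self_of_orderOf_two hx
  have hy' := mul_self_of_orderOf_two hy
  obtain ⟨k, hk⟩ := heven
  have hk2 : orderOf (x * y) / 2 = k := by omega
  have hsw : x * (x * y) ^ (orderOf (x * y) / 2) = (x * y) ^ (-(k : ℤ)) * x := by
    rw [hk2, ← zpow_natCast, dih_swap hx' hy']
  rw [hsw]
  constructor
  · rintro ⟨d, hd, h⟩
    obtain ⟨j, hj⟩ := dih_conj_x hx' hy' hd
    rw [h] at hj
    have h1 : (x * y) ^ (-(k : ℤ)) = (x * y) ^ (2 * j) := mul_right_cancel hj
    have h2 : (x * y) ^ (2 * j + k) = 1 := by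
      rw [zpow_add, ← h1, ← zpow_add]; simp
    have h3 : (orderOf (x * y) : ℤ) ∣ 2 * j + k := orderOf_dvd_iff_zpow_eq_one.mpr h2
    rw [hk] at h3
    obtain ⟨c, hc⟩ := h3
    push_cast at hc
    have hc' : 2 * j + k = 2 * ((k : ℤ) * c) := by rw [hc]; ring
    rw [hk]
    omega
  · rintro ⟨m, hm⟩
    have hkm : k = 2 * m := by omega
    refine ⟨(x * y) ^ (m : ℤ), dih_zpow_mem_closure x y m, ?_⟩
    rw [dih_conj_x_by_zpow hx' hy']
    congr 1
    have h1 : (x * y) ^ ((4 * m : ℕ) : ℤ) = 1 := by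
      rw [zpow_natCast, ← hm]; exact pow_orderOf_eq_one _
    have h2 : (x * y) ^ (2 * (m : ℤ)) * (x * y) ^ ((k : ℤ)) = 1 := by
      rw [← zpow_add, hkm]; push_cast at h1 ⊢
      rw [← h1]; congr 1; ring
    rw [zpow_neg]
    exact eq_inv_of_mul_eq_one_left h2

end Cfsg.Agent.S0211
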