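import Mathlib
import Cfsg.Statements.S0233
import Cfsg.Agent.Lib.Helper2.BrauerFowler

set_option autoImplicit false
open Cfsg

namespace Cfsg.Agent.S0233

open Cfsg.Agent.Helper2

/-- a proper subgroup of maximal order -/
theorem exists_max_proper {G : Type*} [Group G] [Finite G] (hnt : Nontrivial G) :
    ∃ H₀ : Subgroup G, H₀ ≠ ⊤ ∧ ∀ H : Subgroup G, H ≠ ⊤ → Nat.card H ≤ Nat.card H₀ := by
  haveI : Nonempty {H : Subgroup G // H ≠ ⊤} := ⟨⟨⊥, bot_ne_top⟩⟩
  obtain ⟨H₀, hH₀⟩ := Finite.exists_max (fun H : {H : Subgroup G // H ≠ ⊤} => Nat.card H.1)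
  exact ⟨H₀.1, H₀.2, fun H hH => hH₀ ⟨H, hH⟩⟩

/-- Let G be a finite group of even order with exactly n involutions whose centre has odd order, and put a = |G|/n. Then G has a proper subgroup H with |G : H| = 2 or |G : H| < a(a+1)/2; over ℕ the latter reads 2·|G:H|·n² < |G|·(|G| + n). -/
theorem result {G : Type*} [Group G] [Finite G] (heven : Even (Nat.card G)) (hZ : Odd (Nat.card (Subgroup.center G))) : ∃ H : Subgroup G, H ≠ ⊤ ∧ (H.index = 2 ∨ 2 * H.index * (Nat.card {t : G // orderOf t = 2}) ^ 2 < Nat.card G * (Nat.card G + Nat.card {t : G // orderOf t = 2})) := by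
  haveI : Fact (Nat.Prime 2) := ⟨Nat.prime_two⟩
  by_cases h2 : ∃ H : Subgroup G, H.index = 2
  · obtain ⟨H, hH⟩ := h2
    refine ⟨H, ?_, Or.inl hH⟩
    intro h
    rw [h, Subgroup.index_top] at hH
    omega
  · push Not at h2
    have hz : ∀ t : G, orderOf t = 2 → t ∉ Subgroup.center G := by
      intro t ht htz
      have := Subgroup.orderOf_dvd_natCard _ htz
      rw [ht] at this
      exact (Nat.not_even_iff_odd.mpr hZ) (even_iff_two_dvd.mpr this)
    have hinv : ∃ t : G, orderOf t = 2 :=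
      exists_prime_orderOf_dvd_card' 2 (even_iff_two_dvd.mp heven)
    have hnt : Nontrivial G := by
      obtain ⟨t, ht⟩ := hinv
      exact ⟨⟨t, 1, ne_one_of_orderOf_two ht⟩⟩
    obtain ⟨H₀, hH₀, hmax⟩ := exists_max_proper hnt
    obtain ⟨hcore, _⟩ := brauer_fowler_core (Nat.card H₀) hmax h2 hz hinv
    refine ⟨H₀, hH₀, Or.inr ?_⟩
    have hidx := Subgroup.card_mul_index H₀
    have hn : numInv G = Nat.card {t : G // orderOf t = 2} := rfl
    rw [← hn]
    set n := numInv G
    set g := Nat.card G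
    set d := H₀.index
    set M := Nat.card H₀
    have hnpos : 0 < n := by
      obtain ⟨t, ht⟩ := hinv
      exact Nat.card_pos_iff.mpr ⟨⟨⟨t, ht⟩⟩, inferInstance⟩
    have hdpos : 0 < d := Nat.pos_of_ne_zero Subgroup.index_ne_zero_of_finite
    have hgpos : 0 < g := Nat.card_pos
    have h1 : d * (2 * n ^ 2 + 2 * n) ≤ d * ((n + g - 1) * M) := Nat.mul_le_mul_left d hcore
    have h3 : d * ((n + g - 1) * M) = (n + g - 1) * g := by
      rw [← hidx]; ring
    have h4 : (n + g - 1) * g < (g + n) * g := by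
      apply Nat.mul_lt_mul_of_pos_right _ hgpos
      omega
    have h5 : 2 * d * n ^ 2 < d * (2 * n ^ 2 + 2 * n) := by
      have : 0 < d * (2 * n) := by positivity
      nlinarith
    calc 2 * d * n ^ 2 < d * (2 * n ^ 2 + 2 * n) := h5
      _ ≤ (n + g - 1) * g := by rw [← h3]; exact h1
      _ < (g + n) * g := h4
      _ = g * (g + n) := by ring

end Cfsg.Agent.S0233
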