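import Mathlib
import Cfsg.Statements.S0212
import Cfsg.Agent.Lib.Helper2.BrauerFowler
import Cfsg.Agent.S0233

set_option autoImplicit false
open Cfsg

namespace Cfsg.Agent.S0212

open Cfsg.Agent.Helper2

/-- a finite simple group embeds in the symmetric group on the cosets of a proper subgroup -/
theorem simple_card_dvd_factorial_index {G : Type*} [Group G] [Finite G] [IsSimpleGroup G]
    (H : Subgroup G) (hH : H ≠ ⊤) : Nat.card G ∣ Nat.factorial H.index := by
  have h : H.normalCore.index ∣ Nat.factorial H.index := by
    rw [Subgroup.normalCore_eq_ker, Subgroup.index_ker, Subgroup.index_eq_card, ← Nat.card_perm]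
    exact Subgroup.card_subgroup_dvd_card (MulAction.toPermHom G (G ⧸ H)).range
  have hbot : H.normalCore = ⊥ := by
    rcases (H.normalCore_normal).eq_bot_or_eq_top with h1 | h1
    · exact h1
    · exfalso
      apply hH
      rw [eq_top_iff, ← h1]
      exact H.normalCore_le
  rw [hbot, Subgroup.index_bot] at h
  exact h

/-- The Brauer–Fowler bound: if G is a finite simple group and t an involution of G whose centralizer has order n, then |G| ≤ (2n^2)!. -/
theorem result {G : Type*} [Group G] [Finite G] [IsSimpleGroup G] (t : G) (ht : orderOf t = 2) : Nat.card G ≤ Nat.factorial (2 * (Nat.card (Subgroup.centralizer ({t} : Set G))) ^ 2) := by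
  set n := Nat.card (Subgroup.centralizer ({t} : Set G)) with hn
  have hnpos : 0 < n := Nat.card_pos
  by_cases hg : Nat.card G ≤ 2
  · calc Nat.card G ≤ 2 := hg
      _ ≤ 2 * n ^ 2 := by nlinarith
      _ ≤ Nat.factorial (2 * n ^ 2) := Nat.self_le_factorial _
  · push Not at hg
    have h2 : ∀ H : Subgroup G, H.index ≠ 2 := by
      intro H hH
      haveI := Subgroup.normal_of_index_eq_two hH
      rcases Subgroup.Normal.eq_bot_or_eq_top (inferInstance : H.Normal) with h | h
      · rw [h, Subgroup.index_bot] at hH; omega
      · rw [h, Subgroup.index_top] at hH; omega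
    have hz : ∀ s : G, orderOf s = 2 → s ∉ Subgroup.center G := by
      intro s hs hsc
      have hZle : Subgroup.zpowers s ≤ Subgroup.center G := by
        rw [Subgroup.zpowers_le]; exact hsc
      have hnorm : (Subgroup.zpowers s).Normal := by
        constructor
        intro x hx y
        have hc := Subgroup.mem_center_iff.mp (hZle hx) y
        have : y * x * y⁻¹ = x := by rw [hc]; group
        rw [this]; exact hx
      have hcard : Nat.card (Subgroup.zpowers s) = 2 := by rw [Nat.card_zpowers, hs]
      rcases hnorm.eq_bot_or_eq_top with h | h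
      · rw [h, Subgroup.card_bot] at hcard; omega
      · rw [h, Subgroup.card_top] at hcard; omega
    have hinv : ∃ s : G, orderOf s = 2 := ⟨t, ht⟩
    have hnt : Nontrivial G := ⟨⟨t, 1, ne_one_of_orderOf_two ht⟩⟩
    obtain ⟨H₀, hH₀, hmax⟩ := Cfsg.Agent.S0233.exists_max_proper hnt
    obtain ⟨hcore, _⟩ := brauer_fowler_core (Nat.card H₀) hmax h2 hz hinv
    have hidx := Subgroup.card_mul_index H₀
    -- N * n ≥ g
    have hclass := card_conj_class_mul_card_centralizer t
    have hclassle : Nat.card {y : G // IsConj t y} ≤ numInv G := by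
      unfold numInv
      apply Nat.card_le_card_of_injective (fun y => (⟨y.1, ?_⟩ : {y : G // orderOf y = 2}))
      · rintro ⟨a, ha⟩ ⟨b, hb⟩ h
        simp only [Subtype.mk.injEq] at h
        subst h; rfl
      · obtain ⟨c, hc⟩ := isConj_iff.mp y.2
        have := orderOf_injective (MulAut.conj c).toMonoidHom (MulAut.conj c).injective t
        simp only [MulEquiv.coe_toMonoidHom, MulAut.conj_apply] at this
        rw [← hc, this, ht]
    set N := numInv G
    set g := Nat.card G
    set d := H₀.index
    set M := Nat.card H₀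
    have hNn : g ≤ N * n := by
      rw [← hclass]; exact Nat.mul_le_mul_right _ hclassle
    have hNpos : 0 < N := by
      rcases Nat.eq_zero_or_pos N with h | h
      · rw [h, zero_mul] at hNn; omega
      · exact h
    have hdpos : 0 < d := Nat.pos_of_ne_zero Subgroup.index_ne_zero_of_finite
    have hgpos : 0 < g := Nat.card_pos
    have h1 : d * (2 * N ^ 2 + 2 * N) ≤ d * ((N + g - 1) * M) := Nat.mul_le_mul_left d hcore
    have h3 : d * ((N + g - 1) * M) = (N + g - 1) * g := by
      rw [← hidx]; ring
    have h4 : (N + g - 1) * g < (N + g) * g := by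
      apply Nat.mul_lt_mul_of_pos_right _ hgpos
      omega
    have h5 : (N + g) * g ≤ (N + N * n) * (N * n) := Nat.mul_le_mul (by omega) hNn
    have h6 : 2 * d * N ^ 2 < N ^ 2 * (n * (1 + n)) := by
      calc 2 * d * N ^ 2 ≤ d * (2 * N ^ 2 + 2 * N) := by nlinarith
        _ ≤ (N + g - 1) * g := by rw [← h3]; exact h1
        _ < (N + g) * g := h4
        _ ≤ (N + N * n) * (N * n) := h5
        _ = N ^ 2 * (n * (1 + n)) := by ring
    have h7 : 2 * d < n * (1 + n) := by
      have hN2 : 0 < N ^ 2 := by positivity
      have : N ^ 2 * (2 * d) < N ^ 2 * (n * (1 + n)) := by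
        calc N ^ 2 * (2 * d) = 2 * d * N ^ 2 := by ring
          _ < N ^ 2 * (n * (1 + n)) := h6
      exact Nat.lt_of_mul_lt_mul_left this
    have h8 : d ≤ 2 * n ^ 2 := by nlinarith
    calc g ≤ Nat.factorial d := Nat.le_of_dvd (Nat.factorial_pos _) (simple_card_dvd_factorial_index H₀ hH₀)
      _ ≤ Nat.factorial (2 * n ^ 2) := Nat.factorial_le h8

end Cfsg.Agent.S0212
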