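import Mathlib
import Cfsg.Statements.S0219

set_option autoImplicit false
open Cfsg

namespace Cfsg.Agent.S0219

/-- If a finite group has even order and a cyclic Sylow 2-subgroup, then it has a subgroup of index 2 (consider the parity of permutations in the regular representation). -/
theorem result {G : Type*} [Group G] [Finite G] (heven : Even (Nat.card G)) (T : Sylow 2 G) (hT : IsCyclic (T : Subgroup G)) : ∃ H : Subgroup G, H.index = 2 := by
  haveI : Fact (Nat.Prime 2) := ⟨Nat.prime_two⟩
  have h2dvd : 2 ∣ Nat.card G := even_iff_two_dvd.mp heven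
  have hp : (Nat.card G).minFac = 2 := (Nat.minFac_eq_two_iff _).mpr h2dvd
  have hNC := IsCyclic.normalizer_le_centralizer hp hT
  have hcompl := IsCyclic.isComplement' hp hT
  set φ := MonoidHom.transferSylow T hNC with hφ
  -- φ is surjective
  have hcard : Nat.card φ.ker * Nat.card (T : Subgroup G) = Nat.card G := hcompl.card_mul
  have hsurj : Function.Surjective φ := by
    rw [← MonoidHom.range_eq_top]
    apply Subgroup.eq_top_of_card_eq
    have h1 : Nat.card φ.ker * φ.ker.index = Nat.card G := Subgroup.card_mul_index φ.ker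
    rw [Subgroup.index_ker] at h1
    have hpos : 0 < Nat.card φ.ker := Nat.card_pos
    have : Nat.card φ.ker * Nat.card φ.range = Nat.card φ.ker * Nat.card (T : Subgroup G) := by
      rw [h1, hcard]
    exact Nat.eq_of_mul_eq_mul_left hpos this
  -- T has even order, get subgroup of index 2 in T
  obtain ⟨k, hk⟩ := T.2.exists_card_eq
  have hkpos : 0 < k := by
    rcases Nat.eq_zero_or_pos k with h0 | h0
    · exfalso
      rw [h0, pow_zero] at hk
      have : (2 : ℕ) ∣ Nat.card (T : Subgroup G) := by
        have := T.dvd_card_of_dvd_card h2dvd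
        exact this
      rw [hk] at this
      omega
    · exact h0
  have hdvd : 2 ^ (k - 1) ∣ Nat.card (T : Subgroup G) := by
    rw [hk]; exact pow_dvd_pow 2 (by omega)
  obtain ⟨T₀, hT₀⟩ := Sylow.exists_subgroup_card_pow_prime 2 hdvd
  have hidx : T₀.index = 2 := by
    have h1 := Subgroup.card_mul_index T₀
    rw [hT₀, hk] at h1
    have : 2 ^ k = 2 ^ (k - 1) * 2 := by
      rw [← pow_succ]; congr 1; omega
    rw [this] at h1
    exact Nat.eq_of_mul_eq_mul_left (by positivity) h1
  refine ⟨T₀.comap φ, ?_⟩
  rw [Subgroup.index_comap_of_surjective _ hsurj, hidx]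

end Cfsg.Agent.S0219
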