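import Mathlib
import Cfsg.Statements.S0220
import Cfsg.Agent.S0219

set_option autoImplicit false
open Cfsg

namespace Cfsg.Agent.S0220

theorem cyclic_involution_unique {H : Type*} [Group H] [Finite H] [IsCyclic H] {a b : H}
    (ha : orderOf a = 2) (hb : orderOf b = 2) : a = b := by
  classical
  haveI := Fintype.ofFinite H
  have hd : 2 ∣ Fintype.card H := by
    rw [← ha]; exact orderOf_dvd_card
  have h := IsCyclic.card_orderOf_eq_totient hd
  rw [Nat.totient_two] at h
  have h1 := Finset.card_le_one.mp (le_of_eq h)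
  exact h1 a (by simp [ha]) b (by simp [hb])

theorem centralizer_le_normalizer_zpowers {G : Type*} [Group G] (x : G) :
    Subgroup.centralizer ({x} : Set G) ≤ Subgroup.normalizer ((Subgroup.zpowers x : Subgroup G) : Set G) := by
  rw [Subgroup.zpowers_eq_closure, ← Subgroup.centralizer_closure]
  exact Subgroup.centralizer_le_normalizer _

theorem aux {G : Type*} [Group G] [Finite G] (x : G) (hx : orderOf x = 2) (C : Subgroup G)
    (hC : C = Subgroup.centralizer ({x} : Set G)) (S : Sylow 2 ↥C)
    (hS : IsCyclic (S : Subgroup ↥C)) : ∃ H : Subgroup G, H.index = 2 := by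
  haveI : Fact (Nat.Prime 2) := ⟨Nat.prime_two⟩
  set S' : Subgroup G := (S : Subgroup C).map C.subtype with hS'
  have hxC : x ∈ C := by rw [hC, Subgroup.mem_centralizer_singleton_iff]
  have hS'p : IsPGroup 2 S' := S.2.map _
  have hS'C : S' ≤ C := Subgroup.map_subtype_le _
  -- maximality
  have hmax : ∀ Q : Subgroup G, IsPGroup 2 Q → S' ≤ Q → Q ≤ C → Q = S' := by
    intro Q hQ hSQ hQC
    have h1 : IsPGroup 2 (Q.subgroupOf C) := hQ.comap_subtype
    have h2 : (S : Subgroup C) ≤ Q.subgroupOf C := by
      rw [Subgroup.subgroupOf, ← Subgroup.map_le_iff_le_comap]; exact hSQ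
    have h3 := S.is_maximal' h1 h2
    rw [hS', ← h3, Subgroup.map_subgroupOf_eq_of_le hQC]
  -- x ∈ S'
  have hxp : IsPGroup 2 (Subgroup.zpowers x) := by
    apply IsPGroup.of_card (n := 1)
    rw [Nat.card_zpowers, hx, pow_one]
  have hxS' : x ∈ S' := by
    have h1 : IsPGroup 2 (S' ⊔ Subgroup.zpowers x : Subgroup G) :=
      hS'p.to_sup_of_normal_right' hxp (hS'C.trans (hC ▸ centralizer_le_normalizer_zpowers x))
    have h2 : S' ⊔ Subgroup.zpowers x ≤ C :=
      sup_le hS'C (by rw [Subgroup.zpowers_le]; exact hxC)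
    have h3 := hmax _ h1 le_sup_left h2
    rw [← h3]
    exact Subgroup.mem_sup_right (Subgroup.mem_zpowers x)
  -- S' is cyclic
  have hS'cyc : IsCyclic S' := by
    have e := (S : Subgroup C).equivMapOfInjective C.subtype (Subgroup.subtype_injective C)
    haveI : IsCyclic (S : Subgroup C) := hS
    exact isCyclic_of_surjective e e.surjective
  -- Sylow T ≥ S'
  obtain ⟨T, hT⟩ := hS'p.exists_le_sylow
  have hxT : x ∈ T := hT hxS'
  have hx1 : x ≠ 1 := by
    intro h; rw [h, orderOf_one] at hx; omega
  haveI : Nontrivial (T : Subgroup G) := ⟨⟨⟨x, hxT⟩, 1, fun h => hx1 (by simpa using congrArg Subtype.val h)⟩⟩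
  haveI := T.2.center_nontrivial
  have hZp : IsPGroup 2 (Subgroup.center (T : Subgroup G)) := T.2.to_subgroup _
  have hZdvd : 2 ∣ Nat.card (Subgroup.center (T : Subgroup G)) := by
    rcases hZp.card_eq_or_dvd with h | h
    · exfalso
      have := (Nat.card_eq_one_iff_unique.mp h).1
      exact not_subsingleton _ this
    · exact h
  obtain ⟨z', hz'⟩ := exists_prime_orderOf_dvd_card' 2 hZdvd
  set z : G := ((z' : (T : Subgroup G)) : G) with hz
  have hzord : orderOf z = 2 := by
    rw [hz, Subgroup.orderOf_coe, Subgroup.orderOf_coe, hz']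
  have hzT : z ∈ T := (z' : (T : Subgroup G)).2
  have hzcomm : ∀ t ∈ T, t * z = z * t := by
    intro t ht
    have := Subgroup.mem_center_iff.mp z'.2 ⟨t, ht⟩
    have := congrArg Subtype.val this
    simpa using this
  have hzC : z ∈ C := by
    rw [hC, Subgroup.mem_centralizer_singleton_iff]
    exact (hzcomm x hxT).symm
  have hzS' : z ∈ S' := by
    have h1 : IsPGroup 2 (S' ⊔ Subgroup.zpowers z : Subgroup G) := by
      apply T.2.to_le
      exact sup_le hT (by rw [Subgroup.zpowers_le]; exact hzT)
    have h2 : S' ⊔ Subgroup.zpowers z ≤ C :=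
      sup_le hS'C (by rw [Subgroup.zpowers_le]; exact hzC)
    have h3 := hmax _ h1 le_sup_left h2
    rw [← h3]
    exact Subgroup.mem_sup_right (Subgroup.mem_zpowers z)
  have hzx : z = x := by
    have h1 : orderOf (⟨z, hzS'⟩ : S') = 2 := by rw [← Subgroup.orderOf_coe]; exact hzord
    have h2 : orderOf (⟨x, hxS'⟩ : S') = 2 := by rw [← Subgroup.orderOf_coe]; exact hx
    have := cyclic_involution_unique h1 h2
    exact congrArg Subtype.val this
  have hTC : (T : Subgroup G) ≤ C := by
    intro t ht
    rw [hC, Subgroup.mem_centralizer_singleton_iff]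
    rw [← hzx]
    exact hzcomm t ht
  have hTS' : (T : Subgroup G) = S' := hmax _ T.2 hT hTC
  have hTcyc : IsCyclic (T : Subgroup G) := by rw [hTS']; exact hS'cyc
  have heven : Even (Nat.card G) := by
    rw [even_iff_two_dvd, ← hx]; exact orderOf_dvd_natCard x
  exact Cfsg.Agent.S0219.result heven T hTcyc

/-- If x is an involution of a finite group G and a Sylow 2-subgroup of the centralizer of x is cyclic, then G has a subgroup of index 2; in particular G is not simple unless it has order 2. -/
theorem result {G : Type*} [Group G] [Finite G] (x : G) (hx : orderOf x = 2) (S : Sylow 2 ↥(Subgroup.centralizer ({x} : Set G))) (hS : IsCyclic (S : Subgroup ↥(Subgroup.centralizer ({x} : Set G)))) : ∃ H : Subgroup G, H.index = 2 :=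
  aux x hx _ rfl S hS

end Cfsg.Agent.S0220
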