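import Mathlib
import Cfsg.Statements.S0213
import Cfsg.Agent.Lib.Helper2.Dihedral
import Cfsg.Agent.Lib.Helper2.ConjClass
import Cfsg.Agent.S0208
import Cfsg.Agent.S0220

set_option autoImplicit false
open Cfsg

namespace Cfsg.Agent.S0213

open Cfsg.Agent.Helper2

variable {G : Type*} [Group G]

theorem orderOf_pow_half (w : G) (heven : Even (orderOf w)) (hpos : 0 < orderOf w) :
    orderOf (w ^ (orderOf w / 2)) = 2 := by
  obtain ⟨k, hk⟩ := heven
  have hk2 : orderOf w / 2 = k := by omega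
  have hkpos : 0 < k := by omega
  rw [hk2, orderOf_pow' _ hkpos.ne', hk]
  have : Nat.gcd (k + k) k = k := by
    rw [Nat.gcd_comm]; exact Nat.gcd_eq_left ⟨2, by ring⟩
  rw [this]
  have : k + k = 2 * k := by ring
  rw [this]; exact Nat.mul_div_cancel _ hkpos

/-- the unique involution in a cyclic group of even order -/
theorem involution_in_zpowers_iff [Finite G] (w y : G) (heven : Even (orderOf w)) :
    (orderOf y = 2 ∧ y ∈ Subgroup.zpowers w) ↔ y = w ^ (orderOf w / 2) := by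
  have hpos : 0 < orderOf w := orderOf_pos w
  have hz := orderOf_pow_half w heven hpos
  have hzmem : w ^ (orderOf w / 2) ∈ Subgroup.zpowers w := Subgroup.pow_mem _ (Subgroup.mem_zpowers w) _
  constructor
  · rintro ⟨hy, hymem⟩
    have h1 : orderOf (⟨y, hymem⟩ : Subgroup.zpowers w) = 2 := by
      rw [← Subgroup.orderOf_coe]; exact hy
    have h2 : orderOf (⟨w ^ (orderOf w / 2), hzmem⟩ : Subgroup.zpowers w) = 2 := by
      rw [← Subgroup.orderOf_coe]; exact hz
    have := Cfsg.Agent.S0220.cyclic_involution_unique h1 h2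
    exact congrArg Subtype.val this
  · rintro rfl
    exact ⟨hz, hzmem⟩

theorem orderOf_conj (c t : G) : orderOf (c * t * c⁻¹) = orderOf t := by
  have := orderOf_injective (MulAut.conj c).toMonoidHom (MulAut.conj c).injective t
  simpa using this

theorem orderOf_of_isConj {a b : G} (h : IsConj a b) : orderOf b = orderOf a := by
  obtain ⟨c, hc⟩ := isConj_iff.mp h
  rw [← hc, orderOf_conj]

theorem conj_zpow (c w : G) (k : ℤ) : (c⁻¹ * w * c) ^ k = c⁻¹ * w ^ k * c := by
  have := map_zpow (MulAut.conj c⁻¹) w k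
  simp only [MulAut.conj_apply, inv_inv] at this
  exact this.symm

theorem mem_zpowers_conj_iff (c y w : G) :
    c⁻¹ * y * c ∈ Subgroup.zpowers (c⁻¹ * w * c) ↔ y ∈ Subgroup.zpowers w := by
  constructor
  · rintro ⟨k, hk⟩
    refine ⟨k, ?_⟩
    simp only at hk
    rw [conj_zpow] at hk
    calc w ^ k = c * (c⁻¹ * w ^ k * c) * c⁻¹ := by group
      _ = c * (c⁻¹ * y * c) * c⁻¹ := by rw [hk]
      _ = y := by group
  · rintro ⟨k, hk⟩
    refine ⟨k, ?_⟩
    simp only at hk ⊢
    rw [conj_zpow, hk]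

/-- conjugating the fibre -/
theorem card_fibre_conj (x₁ x₂ x y c : G) (hc : c * x * c⁻¹ = y) :
    Nat.card {p : G × G // IsConj x₁ p.1 ∧ IsConj x₂ p.2 ∧ y ∈ Subgroup.zpowers (p.1 * p.2)} =
    Nat.card {p : G × G // IsConj x₁ p.1 ∧ IsConj x₂ p.2 ∧ x ∈ Subgroup.zpowers (p.1 * p.2)} := by
  have hx : x = c⁻¹ * y * c := by rw [← hc]; group
  subst hx
  have conj1 : ∀ (a u d : G), IsConj a u → IsConj a (d * u * d⁻¹) := by
    intro a u d h
    exact h.trans (isConj_iff.mpr ⟨d, rfl⟩)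
  apply Nat.card_congr
  refine
    { toFun := fun p => ⟨(c⁻¹ * p.1.1 * c, c⁻¹ * p.1.2 * c), ?_, ?_, ?_⟩
      invFun := fun p => ⟨(c * p.1.1 * c⁻¹, c * p.1.2 * c⁻¹), ?_, ?_, ?_⟩
      left_inv := ?_
      right_inv := ?_ }
  · have := conj1 x₁ p.1.1 c⁻¹ p.2.1
    simpa using this
  · have := conj1 x₂ p.1.2 c⁻¹ p.2.2.1
    simpa using this
  · simp only
    have e : c⁻¹ * p.1.1 * c * (c⁻¹ * p.1.2 * c) = c⁻¹ * (p.1.1 * p.1.2) * c := by group
    rw [e, mem_zpowers_conj_iff]
    exact p.2.2.2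
  · exact conj1 x₁ p.1.1 c p.2.1
  · exact conj1 x₂ p.1.2 c p.2.2.1
  · simp only
    have h1 := p.2.2.2
    have e : p.1.1 * p.1.2 = c⁻¹ * (c * p.1.1 * c⁻¹ * (c * p.1.2 * c⁻¹)) * c := by group
    rw [e, mem_zpowers_conj_iff] at h1
    exact h1
  · rintro ⟨⟨u, v⟩, h⟩
    ext <;> simp <;> group
  · rintro ⟨⟨u, v⟩, h⟩
    ext <;> simp <;> group

open Classical in
/-- Thompson Order Formula, two-class case: if every involution of the finite group G is conjugate to exactly one of the non-conjugate involutions x₁, x₂, and nᵢ is the number of pairs (u, v) with u conjugate to x₁, v conjugate to x₂ and xᵢ in the cyclic group generated by uv, then |G| = |C(x₂)| n₁ + |C(x₁)| n₂. -/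
theorem result {G : Type*} [Group G] [Finite G] (x₁ x₂ : G) (h₁ : orderOf x₁ = 2) (h₂ : orderOf x₂ = 2) (hnc : ¬ IsConj x₁ x₂) (hall : ∀ t : G, orderOf t = 2 → IsConj x₁ t ∨ IsConj x₂ t) : Nat.card G = Nat.card (Subgroup.centralizer ({x₂} : Set G)) * Nat.card {p : G × G // IsConj x₁ p.1 ∧ IsConj x₂ p.2 ∧ x₁ ∈ Subgroup.zpowers (p.1 * p.2)} + Nat.card (Subgroup.centralizer ({x₁} : Set G)) * Nat.card {p : G × G // IsConj x₁ p.1 ∧ IsConj x₂ p.2 ∧ x₂ ∈ Subgroup.zpowers (p.1 * p.2)} := by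
  haveI := Fintype.ofFinite G
  set c₁ := Nat.card (Subgroup.centralizer ({x₁} : Set G)) with hc₁
  set c₂ := Nat.card (Subgroup.centralizer ({x₂} : Set G)) with hc₂
  set n₁ := Nat.card {p : G × G // IsConj x₁ p.1 ∧ IsConj x₂ p.2 ∧ x₁ ∈ Subgroup.zpowers (p.1 * p.2)} with hn₁
  set n₂ := Nat.card {p : G × G // IsConj x₁ p.1 ∧ IsConj x₂ p.2 ∧ x₂ ∈ Subgroup.zpowers (p.1 * p.2)} with hn₂
  set k₁ := Nat.card {y : G // IsConj x₁ y} with hk₁
  set k₂ := Nat.card {y : G // IsConj x₂ y} with hk₂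
  have hkc₁ : k₁ * c₁ = Nat.card G := card_conj_class_mul_card_centralizer x₁
  have hkc₂ : k₂ * c₂ = Nat.card G := card_conj_class_mul_card_centralizer x₂
  -- even order of products
  have heven : ∀ u v : G, IsConj x₁ u → IsConj x₂ v → Even (orderOf (u * v)) := by
    intro u v hu hv
    by_contra hodd
    rw [Nat.not_even_iff_odd] at hodd
    have hu2 : orderOf u = 2 := by rw [orderOf_of_isConj hu, h₁]
    have hv2 : orderOf v = 2 := by rw [orderOf_of_isConj hv, h₂]
    obtain ⟨d, _, hd⟩ := Cfsg.Agent.S0208.result u v hu2 hv2 hodd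
    exact hnc ((hu.trans (isConj_iff.mpr ⟨d, hd⟩)).trans hv.symm)
  let P := {p : G × G // IsConj x₁ p.1 ∧ IsConj x₂ p.2}
  let z : P → G := fun p => (p.1.1 * p.1.2) ^ (orderOf (p.1.1 * p.1.2) / 2)
  have hPcard : Nat.card P = k₁ * k₂ := by
    rw [hk₁, hk₂, ← Nat.card_prod]
    apply Nat.card_congr
    exact
      { toFun := fun p => (⟨p.1.1, p.2.1⟩, ⟨p.1.2, p.2.2⟩)
        invFun := fun q => ⟨(q.1.1, q.2.1), q.1.2, q.2.2⟩
        left_inv := fun p => rfl
        right_inv := fun q => rfl }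
  have hfib : ∀ y : G, Nat.card {p : P // z p = y} =
      if IsConj x₁ y then n₁ else if IsConj x₂ y then n₂ else 0 := by
    intro y
    have key : ∀ x : G, orderOf x = 2 → IsConj x y →
        Nat.card {p : P // z p = y} = Nat.card {p : G × G // IsConj x₁ p.1 ∧ IsConj x₂ p.2 ∧ x ∈ Subgroup.zpowers (p.1 * p.2)} := by
      intro x hx hxy
      obtain ⟨c, hc⟩ := isConj_iff.mp hxy
      rw [← card_fibre_conj x₁ x₂ x y c hc]
      have hy2 : orderOf y = 2 := by rw [orderOf_of_isConj hxy, hx]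
      apply Nat.card_congr
      exact
        { toFun := fun p => ⟨p.1.1, p.1.2.1, p.1.2.2,
            ((involution_in_zpowers_iff _ y (heven _ _ p.1.2.1 p.1.2.2)).mpr p.2.symm).2⟩
          invFun := fun q => ⟨⟨q.1, q.2.1, q.2.2.1⟩,
            ((involution_in_zpowers_iff _ y (heven _ _ q.2.1 q.2.2.1)).mp ⟨hy2, q.2.2.2⟩).symm⟩
          left_inv := fun p => rfl
          right_inv := fun q => rfl }
    by_cases hy1 : IsConj x₁ y
    · rw [if_pos hy1]; exact key x₁ h₁ hy1
    · rw [if_neg hy1]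
      by_cases hy2 : IsConj x₂ y
      · rw [if_pos hy2]; exact key x₂ h₂ hy2
      · rw [if_neg hy2]
        have : IsEmpty {p : P // z p = y} := by
          constructor
          rintro ⟨p, hp⟩
          have hz2 : orderOf (z p) = 2 :=
            orderOf_pow_half _ (heven _ _ p.2.1 p.2.2) (orderOf_pos _)
          rw [hp] at hz2
          rcases hall y hz2 with h | h
          · exact hy1 h
          · exact hy2 h
        exact Nat.card_of_isEmpty
  have hsum : Nat.card P = k₁ * n₁ + k₂ * n₂ := by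
    rw [← Nat.card_congr (Equiv.sigmaFiberEquiv z), Nat.card_sigma]
    simp only [hfib]
    rw [Finset.sum_ite, Finset.sum_const, smul_eq_mul, Finset.sum_ite, Finset.sum_const,
      Finset.sum_const_zero, add_zero, smul_eq_mul]
    have e1 : (Finset.univ.filter (fun y : G => IsConj x₁ y)).card = k₁ := by
      rw [hk₁, Nat.card_eq_fintype_card, Fintype.card_subtype]
    have e2 : ((Finset.univ.filter (fun y : G => ¬ IsConj x₁ y)).filter (fun y => IsConj x₂ y)).card = k₂ := by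
      rw [hk₂, Nat.card_eq_fintype_card, Fintype.card_subtype]
      congr 1
      ext y
      simp only [Finset.mem_filter, Finset.mem_univ, true_and]
      constructor
      · intro h; exact h.2
      · intro h; exact ⟨fun h' => hnc (h'.trans h.symm), h⟩
    rw [e1, e2]
  have hgpos : 0 < Nat.card G := Nat.card_pos
  have hfinal : Nat.card G * Nat.card G = Nat.card G * (c₂ * n₁ + c₁ * n₂) := by
    calc Nat.card G * Nat.card G = (k₁ * c₁) * (k₂ * c₂) := by rw [hkc₁, hkc₂]
      _ = (k₁ * k₂) * (c₁ * c₂) := by ring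
      _ = (k₁ * n₁ + k₂ * n₂) * (c₁ * c₂) := by rw [← hPcard, hsum]
      _ = (k₁ * c₁) * (c₂ * n₁) + (k₂ * c₂) * (c₁ * n₂) := by ring
      _ = Nat.card G * (c₂ * n₁ + c₁ * n₂) := by rw [hkc₁, hkc₂]; ring
  exact Nat.eq_of_mul_eq_mul_left hgpos hfinal

end Cfsg.Agent.S0213
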