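import Mathlib
import Cfsg.Statements.S0214
import Cfsg.Agent.Lib.Helper2.StronglyEmbedded
import Cfsg.Agent.Lib.Helper2.SylowSub

set_option autoImplicit false
open Cfsg

namespace Cfsg.Agent.S0214

open Cfsg.Agent.Helper2
open scoped Pointwise

/-- a nontrivial finite 2-subgroup contains an involution -/
theorem exists_involution {G : Type*} [Group G] [Finite G] (X : Subgroup G) (hX : IsPGroup 2 X)
    (hne : X ≠ ⊥) : ∃ s ∈ X, orderOf s = 2 := by
  haveI : Fact (Nat.Prime 2) := ⟨Nat.prime_two⟩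
  have hdvd : 2 ∣ Nat.card X := by
    rcases hX.card_eq_or_dvd with h | h
    · exfalso
      apply hne
      exact Subgroup.card_eq_one.mp h
    · exact h
  obtain ⟨s, hs⟩ := exists_prime_orderOf_dvd_card' 2 hdvd
  exact ⟨s.1, s.2, by rw [← hs, Subgroup.orderOf_coe]⟩

/-- conjugating a normalizing element -/
theorem conj_mem_normalizer {G : Type*} [Group G] (X Y : Subgroup G) (h n : G)
    (hXY : ∀ x, x ∈ Y ↔ h * x * h⁻¹ ∈ X) (hn : n ∈ Subgroup.normalizer (X : Set G)) :
    h⁻¹ * n * h ∈ Subgroup.normalizer (Y : Set G) := by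
  rw [Subgroup.mem_normalizer_iff] at hn ⊢
  intro y
  rw [hXY y, hXY (h⁻¹ * n * h * y * (h⁻¹ * n * h)⁻¹), hn (h * y * h⁻¹)]
  have : n * (h * y * h⁻¹) * n⁻¹ = h * (h⁻¹ * n * h * y * (h⁻¹ * n * h)⁻¹) * h⁻¹ := by group
  rw [this]

theorem forward {G : Type*} [Group G] [Finite G] (H : Subgroup G) (P : Sylow 2 ↥H)
    (hSE : Cfsg.IsStronglyEmbedded H) (X : Subgroup ↥H) (hXP : X ≤ (P : Subgroup ↥H)) (hX : X ≠ ⊥) :
    Subgroup.normalizer ((X.map H.subtype : Subgroup G) : Set G) ≤ H := by
  rw [stronglyEmbedded_iff] at hSE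
  obtain ⟨_, _, h3⟩ := hSE
  intro n hn
  by_contra hnH
  have hXp : IsPGroup 2 (X.map H.subtype) := (P.2.to_le hXP).map _
  have hXne : X.map H.subtype ≠ ⊥ := by
    intro h
    apply hX
    rw [Subgroup.map_eq_bot_iff, Subgroup.ker_subtype] at h
    exact le_bot_iff.mp h
  obtain ⟨s, hsX, hs⟩ := exists_involution _ hXp hXne
  have hXH : X.map H.subtype ≤ H := Subgroup.map_subtype_le _
  apply h3 n hnH s hs (hXH hsX)
  apply hXH
  have hn' : n⁻¹ ∈ Subgroup.normalizer ((X.map H.subtype : Subgroup G) : Set G) := Subgroup.inv_mem _ hn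
  rw [Subgroup.mem_normalizer_iff] at hn'
  have := (hn' s).mp hsX
  simpa using this

theorem backward {G : Type*} [Group G] [Finite G] (H : Subgroup G) (hH : H ≠ ⊤) (P : Sylow 2 ↥H)
    (hP : (P : Subgroup ↥H) ≠ ⊥)
    (hN : ∀ X : Subgroup ↥H, X ≤ (P : Subgroup ↥H) → X ≠ ⊥ → Subgroup.normalizer ((X.map H.subtype : Subgroup G) : Set G) ≤ H) :
    Cfsg.IsStronglyEmbedded H := by
  haveI : Fact (Nat.Prime 2) := ⟨Nat.prime_two⟩
  rw [stronglyEmbedded_iff]
  -- even order
  have hPp : IsPGroup 2 (P : Subgroup ↥H) := P.2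
  have heven : Even (Nat.card H) := by
    obtain ⟨s, hsP, hs⟩ := exists_involution (P : Subgroup ↥H) hPp hP
    rw [even_iff_two_dvd, ← hs]
    exact orderOf_dvd_natCard s
  refine ⟨hH, heven, ?_⟩
  -- (2'): normalizers of all nontrivial 2-subgroups of H lie in H
  have hN' : ∀ X : Subgroup G, X ≤ H → IsPGroup 2 X → X ≠ ⊥ → Subgroup.normalizer (X : Set G) ≤ H := by
    intro X hXH hXp hXne
    obtain ⟨k, hkH, hk⟩ := exists_conj_mem_sylow_map H P X hXp hXH
    -- Y = k⁻¹ X k as a subgroup of ↥H inside P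
    set Y : Subgroup G := X.map (MulAut.conj k⁻¹).toMonoidHom with hY
    have hYmem : ∀ y, y ∈ Y ↔ k * y * k⁻¹ ∈ X := by
      intro y
      rw [hY, mem_conj_map_iff]
      simp
    have hYP : Y ≤ (P : Subgroup ↥H).map H.subtype := by
      intro y hy
      rw [hYmem] at hy
      have := hk _ hy
      have e : k⁻¹ * (k * y * k⁻¹) * k = y := by group
      rw [e] at this
      exact this
    have hYH : Y ≤ H := hYP.trans (Subgroup.map_subtype_le _)
    have hYne : Y ≠ ⊥ := by
      intro h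
      apply hXne
      rw [eq_bot_iff]
      intro x hx
      have : k⁻¹ * x * k ∈ Y := by
        rw [hYmem]
        have e : k * (k⁻¹ * x * k) * k⁻¹ = x := by group
        rw [e]; exact hx
      rw [h, Subgroup.mem_bot] at this
      rw [Subgroup.mem_bot]
      have e : x = k * (k⁻¹ * x * k) * k⁻¹ := by group
      rw [e, this]; group
    have hYsub : Y.subgroupOf H ≤ (P : Subgroup ↥H) := by
      intro y hy
      rw [Subgroup.mem_subgroupOf] at hy
      obtain ⟨q, hq, hqy⟩ := hYP hy
      have : q = y := Subtype.ext hqy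
      rw [← this]; exact hq
    have hYmap : (Y.subgroupOf H).map H.subtype = Y := Subgroup.map_subgroupOf_eq_of_le hYH
    have hYsne : Y.subgroupOf H ≠ ⊥ := by
      intro h
      apply hYne
      rw [← hYmap, h, Subgroup.map_bot]
    have h1 := hN (Y.subgroupOf H) hYsub hYsne
    rw [hYmap] at h1
    intro n hn
    have h2 := h1 (conj_mem_normalizer X Y k n hYmem hn)
    have e : n = k * (k⁻¹ * n * k) * k⁻¹ := by group
    rw [e]
    exact H.mul_mem (H.mul_mem hkH h2) (H.inv_mem hkH)
  -- main argument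
  intro g hg s hs hsH hsg
  set K : Subgroup G := H.map (MulAut.conj g).toMonoidHom with hK
  have hKmem : ∀ x, x ∈ K ↔ g⁻¹ * x * g ∈ H := fun x => mem_conj_map_iff H g x
  set D : Subgroup G := H ⊓ K with hD
  have hsD : s ∈ D := ⟨hsH, (hKmem s).mpr hsg⟩
  -- Sylow 2-subgroup of D
  obtain ⟨T0⟩ : Nonempty (Sylow 2 ↥D) := inferInstance
  set T : Subgroup G := (T0 : Subgroup D).map D.subtype with hT
  obtain ⟨hTp, hTD, hTmax⟩ := sylow_map_maximal D T0
  rw [← hT] at hTp hTD hTmax
  have hTH : T ≤ H := hTD.trans inf_le_left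
  have hTK : T ≤ K := hTD.trans inf_le_right
  have hTne : T ≠ ⊥ := by
    intro h
    have h2 : 2 ∣ Nat.card D := by
      rw [← hs]; exact Subgroup.orderOf_dvd_natCard D hsD
    have h3 := T0.dvd_card_of_dvd_card h2
    have h4 : Nat.card (T0 : Subgroup D) = Nat.card T := by
      rw [hT]
      exact Nat.card_congr ((T0 : Subgroup D).equivMapOfInjective D.subtype (Subgroup.subtype_injective D)).toEquiv
    rw [h4, h, Subgroup.card_bot] at h3
    omega
  -- N(T) ≤ D
  have hNT_H : Subgroup.normalizer (T : Set G) ≤ H := hN' T hTH hTp hTne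
  have hNT_K : Subgroup.normalizer (T : Set G) ≤ K := by
    -- apply hN' to g⁻¹ T g
    set Y : Subgroup G := T.map (MulAut.conj g⁻¹).toMonoidHom with hY
    have hYmem : ∀ y, y ∈ Y ↔ g * y * g⁻¹ ∈ T := by
      intro y
      rw [hY, mem_conj_map_iff]
      simp
    have hYH : Y ≤ H := by
      intro y hy
      rw [hYmem] at hy
      have := (hKmem _).mp (hTK hy)
      have e : g⁻¹ * (g * y * g⁻¹) * g = y := by group
      rw [e] at this; exact this
    have hYp : IsPGroup 2 Y := hTp.map _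
    have hYne : Y ≠ ⊥ := by
      intro h
      apply hTne
      rw [eq_bot_iff]
      intro x hx
      have : g⁻¹ * x * g ∈ Y := by
        rw [hYmem]
        have e : g * (g⁻¹ * x * g) * g⁻¹ = x := by group
        rw [e]; exact hx
      rw [h, Subgroup.mem_bot] at this
      rw [Subgroup.mem_bot]
      have e : x = g * (g⁻¹ * x * g) * g⁻¹ := by group
      rw [e, this]; group
    have h1 := hN' Y hYH hYp hYne
    intro n hn
    rw [hKmem]
    exact h1 (conj_mem_normalizer T Y g n hYmem hn)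
  have hNT_D : Subgroup.normalizer (T : Set G) ≤ D := le_inf hNT_H hNT_K
  -- T is a Sylow 2-subgroup of G
  obtain ⟨R, hR⟩ := hTp.exists_le_sylow
  have hTR : T = R := by
    by_contra hne
    obtain ⟨r, hrR, hrT, hrN⟩ := exists_normalizer_not_mem T R R.2 hR hne
    have hrD : r ∈ D := hNT_D hrN
    have hQp : IsPGroup 2 (T ⊔ Subgroup.zpowers r : Subgroup G) := by
      apply R.2.to_le
      exact sup_le hR (by rw [Subgroup.zpowers_le]; exact hrR)
    have hQD : T ⊔ Subgroup.zpowers r ≤ D :=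
      sup_le hTD (by rw [Subgroup.zpowers_le]; exact hrD)
    have := hTmax _ hQp le_sup_left hQD
    apply hrT
    rw [← this]
    exact Subgroup.mem_sup_right (Subgroup.mem_zpowers r)
  -- conjugacy inside K
  have hRK : (R : Subgroup G) ≤ K := hTR ▸ hTK
  have hgRK : ((g • R : Sylow 2 G) : Subgroup G) ≤ K := by
    intro x hx
    have hx' : x ∈ g • R := hx
    rw [mem_sylow_smul_iff] at hx'
    rw [hKmem]
    have : g⁻¹ * x * g ∈ T := by rw [hTR]; exact hx'
    exact hTH this
  obtain ⟨k, hk⟩ := MulAction.exists_smul_eq K ((g • R).subtype hgRK) (R.subtype hRK)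
  rw [Sylow.smul_subtype] at hk
  have hk2 := Sylow.subtype_injective hk
  have hk3 : ((k : G) * g) • R = R := by
    rw [← smul_smul]; exact hk2
  have hk4 : (k : G) * g ∈ Subgroup.normalizer ((R : Subgroup G) : Set G) :=
    Sylow.smul_eq_iff_mem_normalizer.mp hk3
  rw [← hTR] at hk4
  have hk5 : (k : G) * g ∈ K := hNT_K hk4
  have hgK : g ∈ K := by
    have e : g = (k : G)⁻¹ * ((k : G) * g) := by group
    rw [e]; exact K.mul_mem (K.inv_mem k.2) hk5
  rw [hKmem] at hgK
  apply hg
  simpa using hgK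

/-- Let H be a proper subgroup of the finite group G and P a nontrivial Sylow 2-subgroup of H. Then H is strongly embedded in G if and only if N_G(X) ≤ H for every nontrivial subgroup X of P. -/
theorem result {G : Type*} [Group G] [Finite G] (H : Subgroup G) (hH : H ≠ ⊤) (P : Sylow 2 ↥H) (hP : (P : Subgroup ↥H) ≠ ⊥) : Cfsg.IsStronglyEmbedded H ↔ (∀ X : Subgroup ↥H, X ≤ (P : Subgroup ↥H) → X ≠ ⊥ → Subgroup.normalizer ((X.map H.subtype : Subgroup G) : Set G) ≤ H) :=
  ⟨fun h X hX hne => forward H P h X hX hne, fun h => backward H hH P hP h⟩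

end Cfsg.Agent.S0214
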