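import Mathlib
import Cfsg.Statements.S0216
import Cfsg.Agent.Lib.Helper2.Dihedral
import Cfsg.Agent.Lib.Helper2.Isolated
import Cfsg.Agent.S0210

set_option autoImplicit false
open Cfsg

namespace Cfsg.Agent.S0216

open Cfsg.Agent.Helper2

/-- two involutions `u`, `v` where `u` is isolated in a Sylow 2-subgroup and `v` is conjugate to `u`:
they are conjugate in `⟨u, v⟩`. -/
theorem conj_in_closure {G : Type*} [Group G] [Finite G] (P : Sylow 2 G) (u : G) (hu : orderOf u = 2)
    (hiso : ∀ g : G, g * u * g⁻¹ ∈ P → g * u * g⁻¹ = u) (g : G) :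
    ∃ d ∈ Subgroup.closure ({u, g * u * g⁻¹} : Set G), d * u * d⁻¹ = g * u * g⁻¹ := by
  haveI : Fact (Nat.Prime 2) := ⟨Nat.prime_two⟩
  set v := g * u * g⁻¹ with hv
  set D := Subgroup.closure ({u, v} : Set G) with hD
  have huD : u ∈ D := Subgroup.subset_closure (by simp)
  have hvD : v ∈ D := Subgroup.subset_closure (by simp)
  have hvord : orderOf v = 2 := by
    rw [hv]
    have := orderOf_injective (MulAut.conj g).toMonoidHom (MulAut.conj g).injective u
    simp only [MulEquiv.coe_toMonoidHom, MulAut.conj_apply] at this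
    rw [this, hu]
  -- Sylow 2-subgroup of D containing u
  have hup : IsPGroup 2 (Subgroup.zpowers (⟨u, huD⟩ : D)) := by
    apply IsPGroup.of_card (n := 1)
    rw [Nat.card_zpowers, ← Subgroup.orderOf_coe, pow_one]; exact hu
  have hvp : IsPGroup 2 (Subgroup.zpowers (⟨v, hvD⟩ : D)) := by
    apply IsPGroup.of_card (n := 1)
    rw [Nat.card_zpowers, ← Subgroup.orderOf_coe, pow_one]; exact hvord
  obtain ⟨Q1, hQ1⟩ := hup.exists_le_sylow
  obtain ⟨Q2, hQ2⟩ := hvp.exists_le_sylow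
  obtain ⟨d, hd⟩ := MulAction.exists_smul_eq D Q1 Q2
  -- d⁻¹ v d ∈ Q1
  have h1 : d⁻¹ * ⟨v, hvD⟩ * d ∈ Q1 := by
    rw [← mem_sylow_smul_iff, hd]; exact hQ2 (Subgroup.mem_zpowers _)
  have h0 : (⟨u, huD⟩ : D) ∈ Q1 := hQ1 (Subgroup.mem_zpowers _)
  -- map Q1 to G
  set Q : Subgroup G := (Q1 : Subgroup D).map D.subtype with hQ
  have hQp : IsPGroup 2 Q := Q1.2.map _
  have huQ : u ∈ Q := ⟨⟨u, huD⟩, h0, rfl⟩
  have hwQ : ((d : G)⁻¹ * g) * u * ((d : G)⁻¹ * g)⁻¹ ∈ Q := by
    refine ⟨d⁻¹ * ⟨v, hvD⟩ * d, h1, ?_⟩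
    simp only [Subgroup.subtype_apply, Subgroup.coe_mul, Subgroup.coe_inv]
    rw [hv]; group
  have h2 := isolated_common P u hiso Q hQp huQ _ hwQ
  refine ⟨d, d.2, ?_⟩
  have h3 : ((d : G)⁻¹ * g) * u * ((d : G)⁻¹ * g)⁻¹ = (d : G)⁻¹ * v * d := by rw [hv]; group
  rw [h3] at h2
  rw [← h2]; group

/-- For an involution u in a Sylow 2-subgroup P of a finite group G, the following are equivalent: no G-conjugate of u other than u lies in P; every commutator of u with an element of G has odd order. -/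
theorem result {G : Type*} [Group G] [Finite G] (P : Sylow 2 G) (u : G) (hu : orderOf u = 2) (huP : u ∈ P) : (∀ g : G, g * u * g⁻¹ ∈ P → g * u * g⁻¹ = u) ↔ (∀ g : G, Odd (orderOf (u * g * u⁻¹ * g⁻¹))) := by
  have hu' := mul_self_of_orderOf_two hu
  have huinv := inv_eq_self_of_mul_self hu'
  constructor
  · intro hiso g
    have hvord : orderOf (g * u * g⁻¹) = 2 := by
      have := orderOf_injective (MulAut.conj g).toMonoidHom (MulAut.conj g).injective u
      simp only [MulEquiv.coe_toMonoidHom, MulAut.conj_apply] at this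
      rw [this, hu]
    have hcomm : u * g * u⁻¹ * g⁻¹ = u * (g * u * g⁻¹) := by rw [huinv]; group
    rw [hcomm]
    by_contra hodd
    rw [Nat.not_odd_iff_even] at hodd
    obtain ⟨d, hd, hdc⟩ := conj_in_closure P u hu hiso g
    exact Cfsg.Agent.S0210.result u (g * u * g⁻¹) hu hvord hodd d hd hdc
  · intro hodd g hg
    have hcomm : u * g * u⁻¹ * g⁻¹ = u * (g * u * g⁻¹) := by rw [huinv]; group
    have h1 := hodd g
    rw [hcomm] at h1
    have hmem : u * (g * u * g⁻¹) ∈ P := P.mul_mem huP hg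
    obtain ⟨k, hk⟩ := (IsPGroup.iff_orderOf.mp P.2) ⟨_, hmem⟩
    rw [Subgroup.orderOf_mk] at hk
    have h2 : orderOf (u * (g * u * g⁻¹)) = 1 := by
      rcases Nat.eq_zero_or_pos k with h0 | h0
      · rw [hk, h0, pow_zero]
      · exfalso
        rw [hk] at h1
        have : Even (2 ^ k) := (Nat.even_pow' h0.ne').mpr even_two
        exact (Nat.not_odd_iff_even.mpr this) h1
    have h3 := orderOf_eq_one_iff.mp h2
    have h4 := eq_inv_of_mul_eq_one_right h3
    rw [h4, huinv]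

end Cfsg.Agent.S0216
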