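import Mathlib
import Cfsg.Statements.S0218

set_option autoImplicit false
open Pointwise
open Cfsg

namespace Cfsg.Agent.S0218

/-- The generalized quaternion group of order 2^(n+3) contains exactly one element of order 2. -/
theorem result (n : ℕ) : Nat.card {x : QuaternionGroup (2 ^ (n + 1)) // orderOf x = 2} = 1 := by
  generalize hm : 2 ^ (n + 1) = m
  have hmpos : 0 < m := by rw [← hm]; positivity
  have : NeZero m := ⟨hmpos.ne'⟩
  have : NeZero (2 * m) := ⟨by omega⟩
  have key : ∀ x : QuaternionGroup m, orderOf x = 2 ↔ x = QuaternionGroup.a (m : ZMod (2 * m)) := by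
    intro x
    cases x with
    | a i =>
      rw [QuaternionGroup.orderOf_a]
      have hlt : i.val < 2 * m := ZMod.val_lt i
      constructor
      · intro h
        have hgpos : 0 < Nat.gcd (2 * m) i.val := Nat.gcd_pos_of_pos_left _ (by omega)
        have h1 : Nat.gcd (2 * m) i.val * 2 = 2 * m := by
          have := Nat.mul_div_cancel' (Nat.gcd_dvd_left (2 * m) i.val)
          rw [h] at this
          exact this
        have hgm : Nat.gcd (2 * m) i.val = m := by omega
        have hdvd : m ∣ i.val := by
          have := Nat.gcd_dvd_right (2 * m) i.val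
          rwa [hgm] at this
        obtain ⟨j, hj⟩ := hdvd
        have hj1 : j = 1 := by
          rcases j with _ | _ | j
          · simp at hj
            rw [hj] at hgm
            simp at hgm
            omega
          · rfl
          · exfalso
            have : m * (j + 1 + 1) ≥ 2 * m := by nlinarith
            omega
        subst hj1
        congr 1
        have : (i.val : ZMod (2 * m)) = i := ZMod.natCast_zmod_val i
        rw [← this, hj]
        simp
      · intro h
        have hi : i = (m : ZMod (2 * m)) := by
          injection h
        subst hi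
        have hv : ((m : ZMod (2 * m))).val = m := by
          rw [ZMod.val_natCast]
          exact Nat.mod_eq_of_lt (by omega)
        rw [hv]
        have : Nat.gcd (2 * m) m = m := Nat.gcd_eq_right (Dvd.intro_left 2 rfl)
        rw [this]
        exact Nat.mul_div_cancel _ hmpos
    | xa i =>
      rw [QuaternionGroup.orderOf_xa]
      simp
  rw [Nat.card_eq_one_iff_unique]
  refine ⟨⟨?_⟩, ⟨⟨QuaternionGroup.a (m : ZMod (2 * m)), (key _).2 rfl⟩⟩⟩
  rintro ⟨x, hx⟩ ⟨y, hy⟩
  rw [Subtype.mk.injEq, (key x).1 hx, (key y).1 hy]

end Cfsg.Agent.S0218
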