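import Mathlib
import Cfsg.Statements.S0221
import Cfsg.Agent.Lib.Helper16.NormalFourD
import Cfsg.Agent.Lib.Helper9.SylowLemmas
import Cfsg.Agent.S0111

set_option autoImplicit false
open Cfsg

namespace Cfsg.Agent.S0221

open Cfsg.Agent.Helper16

/-- Elements of a subgroup of exponent two commute. -/
theorem comm_of_exp_two {G : Type*} [Group G] (E : Subgroup G) (h : ∀ e ∈ E, e ^ 2 = 1) (a b : G)
    (ha : a ∈ E) (hb : b ∈ E) : a * b = b * a := by
  have hinv : ∀ c ∈ E, c⁻¹ = c := by
    intro c hc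
    rw [inv_eq_iff_mul_eq_one, ← pow_two]; exact h c hc
  calc a * b = (a * b)⁻¹ := (hinv _ (E.mul_mem ha hb)).symm
    _ = b⁻¹ * a⁻¹ := mul_inv_rev _ _
    _ = b * a := by rw [hinv a ha, hinv b hb]

/-- Conjugating an elementary abelian subgroup of order `8` of `C(d x d⁻¹)` back into `C(x)`. -/
theorem finish {G : Type*} [Group G] [Finite G] (E' : Subgroup G) (hE'8 : Nat.card E' = 8)
    (hE'2 : ∀ e ∈ E', e ^ 2 = 1) (x d : G) (hc : ∀ e ∈ E', e * (d * x * d⁻¹) = (d * x * d⁻¹) * e) :
    ∃ E : Subgroup G, E ≤ Subgroup.centralizer ({x} : Set G) ∧ Nat.card E = 8 ∧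
      ∀ e ∈ E, e ^ 2 = 1 := by
  refine ⟨E'.map (MulAut.conj d⁻¹).toMonoidHom, ?_, ?_, ?_⟩
  · rintro _ ⟨e, he, rfl⟩
    rw [Subgroup.mem_centralizer_singleton_iff]
    have h1 := hc e he
    show d⁻¹ * e * d⁻¹⁻¹ * x = x * (d⁻¹ * e * d⁻¹⁻¹)
    rw [inv_inv]
    calc d⁻¹ * e * d * x = d⁻¹ * (e * (d * x * d⁻¹)) * d := by group
      _ = d⁻¹ * ((d * x * d⁻¹) * e) * d := by rw [h1]
      _ = x * (d⁻¹ * e * d) := by group
  · rw [Subgroup.card_map_of_injective (MulAut.conj d⁻¹).injective, hE'8]
  · rintro _ ⟨e, he, rfl⟩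
    rw [← map_pow, hE'2 e he, map_one]

/-- Let G be a finite group with no subgroup of index 2 whose 2-rank is at least 3 (it contains an elementary abelian subgroup of order 8). Then the centralizer of every involution of G also contains an elementary abelian subgroup of order 8. -/
theorem result {G : Type*} [Group G] [Finite G] (hno : ∀ H : Subgroup G, H.index ≠ 2) (hrank : ∃ E : Subgroup G, Nat.card E = 8 ∧ ∀ e ∈ E, e ^ 2 = 1) (x : G) (hx : orderOf x = 2) : ∃ E : Subgroup G, E ≤ Subgroup.centralizer ({x} : Set G) ∧ Nat.card E = 8 ∧ ∀ e ∈ E, e ^ 2 = 1 := by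
  classical
  have hF : Fact (Nat.Prime 2) := ⟨Nat.prime_two⟩
  obtain ⟨E, hE8, hE2⟩ := hrank
  have hEp : IsPGroup 2 E := IsPGroup.of_card (n := 3) (by rw [hE8]; norm_num)
  obtain ⟨S, hES⟩ := hEp.exists_le_sylow
  have hSp : IsPGroup 2 (S : Subgroup G) := S.2
  have hA8 : Nat.card (E.subgroupOf (S : Subgroup G)) = 8 := by
    rw [Nat.card_congr (Subgroup.subgroupOfEquivOfLe hES).toEquiv]; exact hE8
  have hA2 : ∀ a ∈ E.subgroupOf (S : Subgroup G), a ^ 2 = 1 := by
    intro a ha
    apply Subtype.ext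
    have := hE2 a (Subgroup.mem_subgroupOf.1 ha)
    simpa using this
  obtain ⟨U', hU'n, hU'4, hU'2⟩ := NormalFour.exists_normal_four hSp _ hA8 hA2
  haveI := hU'n
  obtain ⟨z', u', hz'U, hu'U, hz'1, hu'1, hu'z', hz'c, helts', hconj'⟩ :=
    NormalFour.normal_four_elements hSp U' hU'4 hU'2
  -- transfer to `G`
  set U : Subgroup G := U'.map (S : Subgroup G).subtype with hUdef
  have hU4 : Nat.card U = 4 := by
    rw [hUdef, Subgroup.card_map_of_injective (Subgroup.subtype_injective _), hU'4]
  obtain ⟨z, hzz⟩ : ∃ z : G, z = (z' : G) := ⟨_, rfl⟩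
  obtain ⟨u, huu⟩ : ∃ u : G, u = (u' : G) := ⟨_, rfl⟩
  have hzS : z ∈ (S : Subgroup G) := hzz ▸ z'.2
  have huS : u ∈ (S : Subgroup G) := huu ▸ u'.2
  have hzU : z ∈ U := ⟨z', hz'U, hzz.symm⟩
  have huU : u ∈ U := ⟨u', hu'U, huu.symm⟩
  have hU2 : ∀ v ∈ U, v ^ 2 = 1 := by
    rintro _ ⟨v, hv, rfl⟩
    have := hU'2 v hv
    simpa using congrArg Subtype.val this
  have hz2 : z ^ 2 = 1 := hU2 z hzU
  have hu2 : u ^ 2 = 1 := hU2 u huU
  have hzc : ∀ s ∈ (S : Subgroup G), s * z * s⁻¹ = z := by
    intro s hs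
    have h1 := (Subgroup.mem_center_iff.1 hz'c) ⟨s, hs⟩
    have h2 : s * z = z * s := by
      rw [hzz]
      exact (congrArg Subtype.val h1)
    rw [h2]; group
  have huc : ∀ s ∈ (S : Subgroup G), s * u * s⁻¹ = u ∨ s * u * s⁻¹ = u * z := by
    intro s hs
    rcases hconj' ⟨s, hs⟩ with h | h
    · left
      rw [huu]
      exact congrArg Subtype.val h
    · right
      rw [huu, hzz]
      exact congrArg Subtype.val h
  have helts : ∀ v ∈ U, v = 1 ∨ v = z ∨ v = u ∨ v = u * z := by
    rintro _ ⟨v, hv, rfl⟩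
    rcases helts' v hv with h | h | h | h
    · left; rw [h]; rfl
    · right; left; rw [h, hzz]; rfl
    · right; right; left; rw [h, huu]; rfl
    · right; right; right; rw [h, huu, hzz]; rfl
  -- commuting with `u` and `z` means commuting with `U`
  have hcommU : ∀ g : G, g * u = u * g → g * z = z * g → ∀ v ∈ U, v * g = g * v := by
    intro g hgu hgz v hv
    rcases helts v hv with rfl | rfl | rfl | rfl
    · simp
    · exact hgz.symm
    · exact hgu.symm
    · calc u * z * g = u * (z * g) := by group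
        _ = u * (g * z) := by rw [hgz]
        _ = (u * g) * z := by group
        _ = (g * u) * z := by rw [hgu]
        _ = g * (u * z) := by group
  -- a conjugate of `x` in `S` centralizing `u`
  obtain ⟨c, hc⟩ := Cfsg.Agent.Helper9.exists_conj_mem_sylow S x ⟨1, by rw [hx, pow_one]⟩
  have hco : orderOf (c * x * c⁻¹) = 2 := by
    have := orderOf_injective (MulAut.conj c).toMonoidHom (MulAut.conj c).injective x
    rw [← hx, ← this]
    rfl
  obtain ⟨d, hdS, hdu⟩ : ∃ d : G, d * x * d⁻¹ ∈ (S : Subgroup G) ∧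
      d * x * d⁻¹ ∈ Subgroup.centralizer ({u} : Set G) := by
    rcases NormalFour.relIndex_centralizer_le_two (S : Subgroup G) u z hz2 hzc huc with hall | hidx
    · exact ⟨c, hc, hall hc⟩
    · set Q : Subgroup G := (S : Subgroup G) ⊓ Subgroup.centralizer ({u} : Set G) with hQ
      have hQi : Q.relIndex (S : Subgroup G) = 2 := by
        rw [hQ, Subgroup.inf_relIndex_left]; exact hidx
      by_cases hcQ : c * x * c⁻¹ ∈ Q
      · exact ⟨c, hcQ.1, hcQ.2⟩
      · rcases Cfsg.Agent.S0111.result S Q inf_le_left hQi _ hco hc hcQ with ⟨M, -, hMi, -⟩ | ⟨g, hg⟩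
        · exact absurd hMi (hno M)
        · refine ⟨g * c, ?_, ?_⟩
          · have : g * c * x * (g * c)⁻¹ = g * (c * x * c⁻¹) * g⁻¹ := by group
            rw [this]; exact hg.1
          · have : g * c * x * (g * c)⁻¹ = g * (c * x * c⁻¹) * g⁻¹ := by group
            rw [this]; exact hg.2
  set y : G := d * x * d⁻¹ with hy
  have hy2 : y ^ 2 = 1 := by
    rw [hy, conj_pow]
    have : x ^ 2 = 1 := by rw [← hx]; exact pow_orderOf_eq_one x
    rw [this]; group
  have hyu : y * u = u * y := Subgroup.mem_centralizer_singleton_iff.1 hdu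
  have hyz : y * z = z * y := by
    have := hzc y hdS
    calc y * z = (y * z * y⁻¹) * y := by group
      _ = z * y := by rw [this]
  have hyU : ∀ v ∈ U, v * y = y * v := hcommU y hyu hyz
  by_cases hyinU : y ∈ U
  · -- `y ∈ U`
    set B : Subgroup G := Subgroup.centralizer ({u} : Set G) ⊓ E with hB
    have hB4 : 4 ≤ Nat.card B := by
      rcases NormalFour.relIndex_centralizer_le_two E u z hz2 (fun s hs => hzc s (hES hs))
        (fun s hs => huc s (hES hs)) with hall | hidx
      · have : B = E := by rw [hB]; exact inf_eq_right.2 hall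
        rw [this, hE8]; norm_num
      · have h1 := Subgroup.card_mul_index ((Subgroup.centralizer ({u} : Set G)).subgroupOf E)
        have h2 : Nat.card ((Subgroup.centralizer ({u} : Set G)).subgroupOf E) = Nat.card B := by
          rw [hB, ← Subgroup.inf_subgroupOf_right]
          exact Nat.card_congr (Subgroup.subgroupOfEquivOfLe inf_le_right).toEquiv
        rw [Subgroup.relIndex] at hidx
        rw [h2, hidx, hE8] at h1
        omega
    by_cases hBU : B ≤ U
    · have hBU' : B = U := Subgroup.eq_of_le_of_card_ge hBU (by rw [hU4]; exact hB4)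
      have hUE : U ≤ E := by rw [← hBU', hB]; exact inf_le_right
      exact finish E hE8 hE2 x d (fun e he => comm_of_exp_two E hE2 e y he (hUE hyinU))
    · rw [SetLike.not_le_iff_exists] at hBU
      obtain ⟨e, heB, heU⟩ := hBU
      have heu : e * u = u * e := Subgroup.mem_centralizer_singleton_iff.1 heB.1
      have heS : e ∈ (S : Subgroup G) := hES heB.2
      have hez : e * z = z * e := by
        have := hzc e heS
        calc e * z = (e * z * e⁻¹) * e := by group
          _ = z * e := by rw [this]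
      obtain ⟨E', hUE', heE', hE'c, hE'2, hform⟩ := NormalFour.exists_adjoin_involution U hU2 e
        (hE2 e heB.2) heU (hcommU e heu hez)
      rw [hU4] at hE'c
      refine finish E' (by rw [hE'c]) hE'2 x d ?_
      intro g hg
      obtain ⟨h, hh, hgh | hgh⟩ := hform g hg
      · rw [hgh]; exact hyU h hh
      · rw [hgh]
        have h1 : h * y = y * h := hyU h hh
        have h2 : e * y = y * e := (hcommU e heu hez y hyinU).symm
        calc h * e * (d * x * d⁻¹) = h * (e * y) := by rw [hy]; group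
          _ = h * (y * e) := by rw [h2]
          _ = (h * y) * e := by group
          _ = (y * h) * e := by rw [h1]
          _ = d * x * d⁻¹ * (h * e) := by rw [hy]; group
  · -- `y ∉ U`
    obtain ⟨E', hUE', hyE', hE'c, hE'2, hform⟩ := NormalFour.exists_adjoin_involution U hU2 y
      hy2 hyinU hyU
    rw [hU4] at hE'c
    refine finish E' (by rw [hE'c]) hE'2 x d ?_
    intro g hg
    obtain ⟨h, hh, hgh | hgh⟩ := hform g hg
    · rw [hgh]; exact hyU h hh
    · rw [hgh]
      have h1 : h * y = y * h := hyU h hh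
      calc h * y * (d * x * d⁻¹) = (h * y) * y := by rw [hy]
        _ = (y * h) * y := by rw [h1]
        _ = d * x * d⁻¹ * (h * y) := by rw [hy]; group

end Cfsg.Agent.S0221
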