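import Mathlib
import Cfsg.Statements.S0223
import Cfsg.Agent.Lib.Helper2.StronglyEmbedded

set_option autoImplicit false
open Cfsg

namespace Cfsg.Agent.S0223

open Cfsg.Agent.Helper2

/-- Let H be a proper subgroup of even order of the finite group G. Then H is strongly embedded if and only if (i) C_G(t) ≤ H for every involution t of H and (ii) H controls fusion of its involutions: involutions of H conjugate in G are conjugate in H. -/
theorem result {G : Type*} [Group G] [Finite G] (H : Subgroup G) (hH : H ≠ ⊤) (heven : Even (Nat.card H)) : Cfsg.IsStronglyEmbedded H ↔ ((∀ t ∈ H, orderOf t = 2 → Subgroup.centralizer ({t} : Set G) ≤ H) ∧ (∀ t ∈ H, ∀ s ∈ H, orderOf t = 2 → orderOf s = 2 → IsConj t s → ∃ h ∈ H, h * t * h⁻¹ = s)) := by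
  rw [stronglyEmbedded_iff]
  constructor
  · rintro ⟨_, _, h3⟩
    constructor
    · intro t htH ht c hc
      by_contra hcH
      rw [Subgroup.mem_centralizer_singleton_iff] at hc
      apply h3 c hcH t ht htH
      have : c⁻¹ * t * c = t := by
        rw [mul_assoc, ← hc]; group
      rw [this]; exact htH
    · intro t htH s hsH ht hs hconj
      obtain ⟨g, hg⟩ := isConj_iff.mp hconj
      by_cases hgH : g ∈ H
      · exact ⟨g, hgH, hg⟩
      · exfalso
        apply h3 g hgH s hs hsH
        rw [← hg]
        have : g⁻¹ * (g * t * g⁻¹) * g = t := by group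
        rw [this]; exact htH
  · rintro ⟨hi, hii⟩
    refine ⟨hH, heven, ?_⟩
    intro g hg s hs hsH hsg
    -- t = g⁻¹ s g ∈ H is an involution conjugate to s
    have htord : orderOf (g⁻¹ * s * g) = 2 := by
      have := orderOf_injective (MulAut.conj g⁻¹).toMonoidHom (MulAut.conj g⁻¹).injective s
      simp only [MulEquiv.coe_toMonoidHom, MulAut.conj_apply, inv_inv] at this
      rw [this, hs]
    have hconj : IsConj (g⁻¹ * s * g) s := isConj_iff.mpr ⟨g, by group⟩
    obtain ⟨h, hhH, hh⟩ := hii _ hsg s hsH htord hs hconj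
    -- h g⁻¹ centralizes s
    have hcent : h * g⁻¹ ∈ Subgroup.centralizer ({s} : Set G) := by
      rw [Subgroup.mem_centralizer_singleton_iff]
      have h1 : h * g⁻¹ * s = (h * (g⁻¹ * s * g) * h⁻¹) * (h * g⁻¹) := by group
      rw [h1, hh]
    have := hi s hsH hs hcent
    apply hg
    have h3 : g = (h⁻¹ * (h * g⁻¹))⁻¹ := by group
    rw [h3]; exact H.inv_mem (H.mul_mem (H.inv_mem hhH) this)

end Cfsg.Agent.S0223
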