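import Mathlib
import Cfsg.Statements.S0224
import Cfsg.Agent.Lib.Helper2.StronglyEmbedded

set_option autoImplicit false
open Cfsg

namespace Cfsg.Agent.S0224

open Cfsg.Agent.Helper2

theorem fixed_iff {G : Type*} [Group G] (H : Subgroup G) (t g : G) :
    t • (g : G ⧸ H) = (g : G ⧸ H) ↔ g⁻¹ * t * g ∈ H := by
  rw [MulAction.Quotient.smul_mk, eq_comm, QuotientGroup.eq, smul_eq_mul, mul_assoc]

/-- Let H be a proper subgroup of even order of the finite group G. Then H is strongly embedded if and only if each involution of H fixes exactly one point (namely the coset H) in the action of G on the cosets of H. -/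
theorem result {G : Type*} [Group G] [Finite G] (H : Subgroup G) (hH : H ≠ ⊤) (heven : Even (Nat.card H)) : Cfsg.IsStronglyEmbedded H ↔ ∀ t ∈ H, orderOf t = 2 → Nat.card {c : G ⧸ H // t • c = c} = 1 := by
  rw [stronglyEmbedded_iff]
  constructor
  · rintro ⟨_, _, h3⟩ t htH ht
    rw [Nat.card_eq_one_iff_unique]
    constructor
    · constructor
      rintro ⟨c, hc⟩ ⟨c', hc'⟩
      induction c using QuotientGroup.induction_on with | H g =>
      induction c' using QuotientGroup.induction_on with | H g' =>
      rw [fixed_iff] at hc hc'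
      have hg : g ∈ H := by
        by_contra hg
        exact h3 g hg t ht htH hc
      have hg' : g' ∈ H := by
        by_contra hg'
        exact h3 g' hg' t ht htH hc'
      ext
      simp only
      rw [QuotientGroup.eq]
      exact H.mul_mem (H.inv_mem hg) hg'
    · refine ⟨⟨((1 : G) : G ⧸ H), ?_⟩⟩
      rw [fixed_iff]
      simpa using htH
  · intro h
    refine ⟨hH, heven, ?_⟩
    intro g hg s hs hsH hsg
    have h1 := h s hsH hs
    rw [Nat.card_eq_one_iff_unique] at h1
    obtain ⟨hsub, _⟩ := h1
    have e1 : s • ((1 : G) : G ⧸ H) = ((1 : G) : G ⧸ H) := by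
      rw [fixed_iff]; simpa using hsH
    have e2 : s • (g : G ⧸ H) = (g : G ⧸ H) := by
      rw [fixed_iff]; exact hsg
    have := hsub.elim ⟨_, e1⟩ ⟨_, e2⟩
    have h2 := congrArg Subtype.val this
    simp only at h2
    rw [QuotientGroup.eq] at h2
    apply hg
    simpa using h2

end Cfsg.Agent.S0224
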