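import Mathlib
import Cfsg.Statements.S0225
import Cfsg.Agent.Lib.Helper7.ZStar3
import Cfsg.Agent.Lib.Helper13.KleinCount

set_option autoImplicit false
open Cfsg

namespace Cfsg.Agent.S0225

/-- If a finite group G has even order but contains no Klein four-subgroup (2-rank 1), then some involution z of G is central modulo a normal subgroup of odd order: there is a normal subgroup N of odd order containing every commutator z g z⁻¹ g⁻¹. -/
theorem result {G : Type*} [Group G] [Finite G] (heven : Even (Nat.card G)) (hrank : ∀ E : Subgroup G, ¬ IsKleinFour E) : ∃ z : G, orderOf z = 2 ∧ ∃ N : Subgroup G, N.Normal ∧ Odd (Nat.card N) ∧ ∀ g : G, z * g * z⁻¹ * g⁻¹ ∈ N := by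
  haveI : Fact (Nat.Prime 2) := ⟨Nat.prime_two⟩
  obtain ⟨S⟩ : Nonempty (Sylow 2 G) := inferInstance
  have h2 : 2 ∣ Nat.card G := even_iff_two_dvd.1 heven
  have h2S : 2 ∣ Nat.card (S : Subgroup G) := by
    rw [S.card_eq_multiplicity]
    have h1 : 0 < (Nat.card G).factorization 2 :=
      Nat.Prime.factorization_pos_of_dvd Nat.prime_two Nat.card_pos.ne' h2
    exact dvd_pow_self 2 h1.ne'
  haveI : Nontrivial (S : Subgroup G) := by
    rw [← Finite.one_lt_card_iff_nontrivial]
    have := Nat.le_of_dvd Nat.card_pos h2S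
    omega
  have hSp : IsPGroup 2 (S : Subgroup G) := S.isPGroup'
  haveI hcn : Nontrivial (Subgroup.center (S : Subgroup G)) := hSp.center_nontrivial
  have hcp : IsPGroup 2 (Subgroup.center (S : Subgroup G)) := hSp.to_subgroup _
  have h2c : 2 ∣ Nat.card (Subgroup.center (S : Subgroup G)) := by
    obtain ⟨k, hk⟩ := hcp.exists_card_eq
    rw [hk]
    have hk0 : k ≠ 0 := by
      intro h0
      rw [h0, pow_zero] at hk
      have := Finite.one_lt_card_iff_nontrivial.2 hcn
      omega
    exact dvd_pow_self 2 hk0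
  obtain ⟨z₀, hz₀⟩ := exists_prime_orderOf_dvd_card' 2 h2c
  set z : G := ((z₀ : (S : Subgroup G)) : G) with hzdef
  have hzo : orderOf z = 2 := by
    rw [hzdef, Subgroup.orderOf_coe, Subgroup.orderOf_coe]; exact hz₀
  have hzS : z ∈ (S : Subgroup G) := (z₀ : (S : Subgroup G)).2
  have hzz : z * z = 1 := Cfsg.Agent.Helper7.ZStar.sq_eq_one_of_orderOf_two hzo
  have hz1 : z ≠ 1 := by
    intro h
    rw [h, orderOf_one] at hzo
    omega
  have hzc : ∀ s ∈ (S : Subgroup G), s * z = z * s := by
    intro s hs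
    have h1 := Subgroup.mem_center_iff.1 z₀.2 ⟨s, hs⟩
    have h2 := congrArg Subtype.val h1
    simpa using h2
  have hiso : Cfsg.IsIsolated z := by
    apply Cfsg.Agent.Helper7.ZStar.isIsolated_of_sylow S z hzo hzS
    intro g hg
    by_contra hne
    set t := g * z * g⁻¹ with ht
    have hto : orderOf t = 2 := by rw [ht, Cfsg.Agent.Helper7.ZStar.orderOf_conj', hzo]
    have htt : t * t = 1 := Cfsg.Agent.Helper7.ZStar.sq_eq_one_of_orderOf_two hto
    have ht1 : t ≠ 1 := by
      intro h
      rw [h, orderOf_one] at hto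
      omega
    have hcomm : z * t = t * z := (hzc t hg).symm
    exact hrank _ (Cfsg.Agent.Helper13.KleinCount.isKleinFour_kleinOf hzz htt hcomm hz1 ht1
      (fun h => hne h.symm))
  exact ⟨z, hzo, Cfsg.Agent.Helper7.ZStar.zstar_exists z hzo hiso⟩

end Cfsg.Agent.S0225
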