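import Mathlib
import Cfsg.Statements.S0226
import Cfsg.Agent.Lib.Helper2.Dihedral

set_option autoImplicit false
open Cfsg

namespace Cfsg.Agent.S0226

open Cfsg.Agent.Helper2

/-- A finite group of even order has an odd number of involutions. -/
theorem result {G : Type*} [Group G] [Finite G] (heven : Even (Nat.card G)) : Odd (Nat.card {t : G // orderOf t = 2}) := by
  classical
  haveI := Fintype.ofFinite G
  haveI : Fact (Nat.Prime 2) := ⟨Nat.prime_two⟩
  have hσ : (Equiv.inv G) ^ 2 ^ 1 = 1 := by
    ext g; simp [pow_two]
  have h := Equiv.Perm.card_compl_support_modEq hσ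
  have hsupp : (Equiv.inv G).supportᶜ = insert (1 : G) (Finset.univ.filter (fun t : G => orderOf t = 2)) := by
    ext g
    simp only [Finset.mem_compl, Equiv.Perm.mem_support, Equiv.inv_apply, ne_eq, not_not,
      Finset.mem_insert, Finset.mem_filter, Finset.mem_univ, true_and]
    constructor
    · intro hg
      by_cases h1 : g = 1
      · exact Or.inl h1
      · right
        apply orderOf_two_of_mul_self _ h1
        calc g * g = g⁻¹ * g := by rw [hg]
          _ = 1 := inv_mul_cancel g
    · rintro (rfl | hg)
      · simp
      · exact inv_eq_self_of_mul_self (mul_self_of_orderOf_two hg)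
  have hnot : (1 : G) ∉ Finset.univ.filter (fun t : G => orderOf t = 2) := by
    simp
  rw [hsupp, Finset.card_insert_of_notMem hnot] at h
  rw [Nat.card_eq_fintype_card, Fintype.card_subtype]
  rw [Nat.card_eq_fintype_card] at heven
  have h0 : Fintype.card G % 2 = 0 := Nat.even_iff.mp heven
  rw [Nat.odd_iff]
  unfold Nat.ModEq at h
  omega

end Cfsg.Agent.S0226
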