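import Mathlib
import Cfsg.Statements.S0229
import Cfsg.Agent.Lib.Helper2.Dihedral
import Cfsg.Agent.Lib.Helper2.Isolated
import Cfsg.Agent.S0208
import Cfsg.Agent.S0209
import Cfsg.Agent.S0211
import Cfsg.Agent.S0220

set_option autoImplicit false
open Cfsg

namespace Cfsg.Agent.S0229

open Cfsg.Agent.Helper2

/-- Let t be an involution of a Sylow 2-subgroup S of a finite group G, conjugate in G to no other element of S, and let s be an involution of G not conjugate to t. Then the order of st is twice an odd number. -/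
theorem result {G : Type*} [Group G] [Finite G] (S : Sylow 2 G) (t : G) (ht : orderOf t = 2) (htS : t ∈ S) (hiso : ∀ g : G, g * t * g⁻¹ ∈ S → g * t * g⁻¹ = t) (s : G) (hs : orderOf s = 2) (hns : ¬ IsConj s t) : orderOf (s * t) % 4 = 2 := by
  haveI : Fact (Nat.Prime 2) := ⟨Nat.prime_two⟩
  have ht' := mul_self_of_orderOf_two ht
  have hs' := mul_self_of_orderOf_two hs
  have hord : orderOf (t * s) = orderOf (s * t) := by
    have := orderOf_injective (MulAut.conj t).toMonoidHom (MulAut.conj t).injective (s * t)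
    simp only [MulEquiv.coe_toMonoidHom, MulAut.conj_apply] at this
    rw [← this]
    congr 1
    rw [inv_eq_self_of_mul_self ht', mul_assoc, mul_assoc, ht', mul_one]
  have heven : Even (orderOf (s * t)) := by
    by_contra hodd
    rw [Nat.not_even_iff_odd] at hodd
    obtain ⟨d, _, hd⟩ := Cfsg.Agent.S0208.result s t hs ht hodd
    exact hns (isConj_iff.mpr ⟨d, hd⟩)
  have h4 : ¬ 4 ∣ orderOf (s * t) := by
    intro h4
    rw [← hord] at h4 heven
    obtain ⟨d, _, hd⟩ := (Cfsg.Agent.S0211.result t s ht hs heven).mpr h4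
    obtain ⟨hzord, hzt, _⟩ := Cfsg.Agent.S0209.result t s ht hs heven
    set z := (t * s) ^ (orderOf (t * s) / 2) with hz
    -- Q = ⟨t⟩ ⊔ ⟨z⟩ is a 2-group
    have htp : IsPGroup 2 (Subgroup.zpowers t) := by
      apply IsPGroup.of_card (n := 1)
      rw [Nat.card_zpowers, ht, pow_one]
    have hzp : IsPGroup 2 (Subgroup.zpowers z) := by
      apply IsPGroup.of_card (n := 1)
      rw [Nat.card_zpowers, hzord, pow_one]
    have htz : t ∈ Subgroup.centralizer ({z} : Set G) := by
      rw [Subgroup.mem_centralizer_singleton_iff]; exact hzt.eq.symm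
    have hle : Subgroup.zpowers t ≤ Subgroup.normalizer ((Subgroup.zpowers z : Subgroup G) : Set G) := by
      rw [Subgroup.zpowers_le]
      exact Cfsg.Agent.S0220.centralizer_le_normalizer_zpowers z htz
    have hQ : IsPGroup 2 (Subgroup.zpowers t ⊔ Subgroup.zpowers z : Subgroup G) :=
      htp.to_sup_of_normal_right' hzp hle
    have htQ : t ∈ Subgroup.zpowers t ⊔ Subgroup.zpowers z :=
      Subgroup.mem_sup_left (Subgroup.mem_zpowers t)
    have hzQ : z ∈ Subgroup.zpowers t ⊔ Subgroup.zpowers z :=
      Subgroup.mem_sup_right (Subgroup.mem_zpowers z)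
    have hwQ : d * t * d⁻¹ ∈ Subgroup.zpowers t ⊔ Subgroup.zpowers z := by
      rw [hd]; exact Subgroup.mul_mem _ htQ hzQ
    have h5 := isolated_common S t hiso _ hQ htQ d hwQ
    rw [hd] at h5
    have hz1 : z = 1 := by
      have := mul_left_cancel (h5.trans (mul_one t).symm)
      exact this
    exact ne_one_of_orderOf_two hzord hz1
  obtain ⟨k, hk⟩ := heven
  omega

end Cfsg.Agent.S0229
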