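import Mathlib
import Cfsg.Statements.S0230
import Cfsg.Agent.Lib.Helper2.Dihedral
import Cfsg.Agent.Lib.Helper2.ConjClass
import Cfsg.Agent.S0208
import Cfsg.Agent.S0209

set_option autoImplicit false
open Cfsg

namespace Cfsg.Agent.S0230

open Cfsg.Agent.Helper2

open Classical in
theorem card_centralizer_eq_filter {G : Type*} [Group G] [Fintype G] (z : G) :
    Nat.card (Subgroup.centralizer ({z} : Set G)) = (Finset.univ.filter (fun y : G => Commute y z)).card := by
  rw [Nat.card_eq_fintype_card, Fintype.card_subtype]
  congr 1
  ext y
  simp only [Finset.mem_filter, Finset.mem_univ, true_and, Subgroup.mem_centralizer_singleton_iff]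
  constructor
  · intro h; exact h
  · intro h; exact h

/-- Let G be a finite group with two non-conjugate involutions, and let t be an involution whose centralizer has maximal order among centralizers of involutions. Then |G| < |C_G(t)|^3. -/
theorem result {G : Type*} [Group G] [Finite G] (s t : G) (hs : orderOf s = 2) (ht : orderOf t = 2) (hnc : ¬ IsConj s t) (hmax : ∀ u : G, orderOf u = 2 → Nat.card (Subgroup.centralizer ({u} : Set G)) ≤ Nat.card (Subgroup.centralizer ({t} : Set G))) : Nat.card G < Nat.card (Subgroup.centralizer ({t} : Set G)) ^ 3 := by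
  classical
  haveI := Fintype.ofFinite G
  set m := Nat.card (Subgroup.centralizer ({t} : Set G)) with hm
  -- the three finsets
  set Ks : Finset G := Finset.univ.filter (fun y => IsConj s y) with hKs
  set I : Finset G := Finset.univ.filter (fun z => orderOf z = 2 ∧ Commute z t) with hI
  let Cz : G → Finset G := fun z => Finset.univ.filter (fun y => Commute y z ∧ y ≠ 1)
  -- card of Cz
  have hCz : ∀ z, (Cz z).card + 1 = Nat.card (Subgroup.centralizer ({z} : Set G)) := by
    intro z
    rw [card_centralizer_eq_filter]
    have : Cz z = (Finset.univ.filter (fun y : G => Commute y z)).erase 1 := by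
      ext y
      simp only [Cz, Finset.mem_filter, Finset.mem_univ, true_and, Finset.mem_erase]
      tauto
    rw [this, Finset.card_erase_of_mem (by simp)]
    have : 0 < (Finset.univ.filter (fun y : G => Commute y z)).card :=
      Finset.card_pos.mpr ⟨1, by simp⟩
    omega
  -- card of I
  have hIcard : I.card + 1 ≤ m := by
    have h1 := hCz t
    rw [← hm] at h1
    have : I ⊆ Cz t := by
      intro z hz
      simp only [hI, Finset.mem_filter, Finset.mem_univ, true_and] at hz
      simp only [Cz, Finset.mem_filter, Finset.mem_univ, true_and]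
      exact ⟨hz.2, ne_one_of_orderOf_two hz.1⟩
    have := Finset.card_le_card this
    omega
  -- Ks ⊆ biUnion
  have hsub : Ks ⊆ I.biUnion Cz := by
    intro y hy
    simp only [hKs, Finset.mem_filter, Finset.mem_univ, true_and] at hy
    have hyord : orderOf y = 2 := by
      obtain ⟨c, hc⟩ := isConj_iff.mp hy
      have := orderOf_injective (MulAut.conj c).toMonoidHom (MulAut.conj c).injective s
      simp only [MulEquiv.coe_toMonoidHom, MulAut.conj_apply] at this
      rw [← hc, this, hs]
    have hync : ¬ IsConj y t := fun h => hnc (hy.trans h)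
    have heven : Even (orderOf (y * t)) := by
      by_contra hodd
      rw [Nat.not_even_iff_odd] at hodd
      obtain ⟨d, _, hd⟩ := Cfsg.Agent.S0208.result y t hyord ht hodd
      exact hync (isConj_iff.mpr ⟨d, hd⟩)
    obtain ⟨hzord, hzy, hzt⟩ := Cfsg.Agent.S0209.result y t hyord ht heven
    rw [Finset.mem_biUnion]
    refine ⟨(y * t) ^ (orderOf (y * t) / 2), ?_, ?_⟩
    · simp only [hI, Finset.mem_filter, Finset.mem_univ, true_and]
      exact ⟨hzord, hzt⟩
    · simp only [Cz, Finset.mem_filter, Finset.mem_univ, true_and]
      exact ⟨hzy.symm, ne_one_of_orderOf_two hyord⟩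
  have hKs_le : Ks.card ≤ (m - 1) * (m - 1) := by
    calc Ks.card ≤ (I.biUnion Cz).card := Finset.card_le_card hsub
      _ ≤ ∑ z ∈ I, (Cz z).card := Finset.card_biUnion_le
      _ ≤ ∑ _z ∈ I, (m - 1) := by
          apply Finset.sum_le_sum
          intro z hz
          simp only [hI, Finset.mem_filter, Finset.mem_univ, true_and] at hz
          have h1 := hCz z
          have h2 := hmax z hz.1
          omega
      _ = I.card * (m - 1) := by rw [Finset.sum_const, smul_eq_mul]
      _ ≤ (m - 1) * (m - 1) := Nat.mul_le_mul_right _ (by omega)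
  have hclass := card_conj_class_mul_card_centralizer s
  have hKs_card : Nat.card {y : G // IsConj s y} = Ks.card := by
    rw [Nat.card_eq_fintype_card, Fintype.card_subtype]
  rw [hKs_card] at hclass
  have hCs := hmax s hs
  have hm2 : 2 ≤ m := by
    have := hIcard
    have htI : t ∈ I := by
      simp only [hI, Finset.mem_filter, Finset.mem_univ, true_and]
      exact ⟨ht, Commute.refl t⟩
    have := Finset.card_pos.mpr ⟨t, htI⟩
    omega
  rw [← hclass]
  calc Ks.card * Nat.card (Subgroup.centralizer ({s} : Set G)) ≤ ((m - 1) * (m - 1)) * m :=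
        Nat.mul_le_mul hKs_le hCs
    _ < m ^ 3 := by
        have key : ∀ n : ℕ, 2 ≤ n → (n - 1) * (n - 1) * n < n ^ 3 := by
          intro n hn
          obtain ⟨k, rfl⟩ : ∃ k, n = k + 1 := ⟨n - 1, by omega⟩
          simp only [Nat.add_sub_cancel]
          have : k * k < (k + 1) * (k + 1) := by nlinarith
          calc k * k * (k + 1) < (k + 1) * (k + 1) * (k + 1) := by
                apply Nat.mul_lt_mul_of_pos_right this (by omega)
            _ = (k + 1) ^ 3 := by ring
        exact key m hm2

end Cfsg.Agent.S0230
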