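import Mathlib
import Cfsg.Statements.S0231
import Cfsg.Agent.Lib.Helper2.Dihedral
import Cfsg.Agent.Lib.Helper2.Isolated
import Cfsg.Agent.S0208
import Cfsg.Agent.S0209
import Cfsg.Agent.S0220

set_option autoImplicit false
open scoped Pointwise
open Cfsg

namespace Cfsg.Agent.S0231

open Cfsg.Agent.Helper2

/-- Let T be a Sylow 2-subgroup of the finite group G which is not normal and which intersects every other Sylow 2-subgroup trivially. Then G has a single conjugacy class of involutions. -/
theorem result {G : Type*} [Group G] [Finite G] (T : Sylow 2 G) (hnn : ¬ (T : Subgroup G).Normal) (hTI : ∀ g : G, MulAut.conj g • (T : Subgroup G) ≠ T → MulAut.conj g • (T : Subgroup G) ⊓ T = ⊥) (s t : G) (hs : orderOf s = 2) (ht : orderOf t = 2) : IsConj s t := by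
  haveI : Fact (Nat.Prime 2) := ⟨Nat.prime_two⟩
  -- elementwise TI
  have TI' : ∀ a b : G, a • T ≠ b • T → ∀ x, x ∈ a • T → x ∈ b • T → x = 1 := by
    intro a b hab x hxa hxb
    have hne : MulAut.conj (a⁻¹ * b) • (T : Subgroup G) ≠ T := by
      intro h
      apply hab
      have h1 : (a⁻¹ * b) • T = T := by
        apply Sylow.ext
        rw [Sylow.coe_subgroup_smul]; exact h
      have : a • ((a⁻¹ * b) • T) = a • T := by rw [h1]
      rw [← this, smul_smul, mul_inv_cancel_left]
    have h2 := hTI _ hne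
    rw [mem_sylow_smul_iff] at hxa hxb
    have h3 : a⁻¹ * x * a ∈ MulAut.conj (a⁻¹ * b) • (T : Subgroup G) ⊓ T := by
      refine ⟨?_, hxa⟩
      have : a⁻¹ * x * a ∈ ((a⁻¹ * b) • T : Sylow 2 G) := by
        rw [mem_sylow_smul_iff]
        have : (a⁻¹ * b)⁻¹ * (a⁻¹ * x * a) * (a⁻¹ * b) = b⁻¹ * x * b := by group
        rw [this]; exact hxb
      have h4 : a⁻¹ * x * a ∈ (((a⁻¹ * b) • T : Sylow 2 G) : Subgroup G) := this
      rw [Sylow.coe_subgroup_smul] at h4
      exact h4
    rw [h2, Subgroup.mem_bot] at h3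
    have : x = a * (a⁻¹ * x * a) * a⁻¹ := by group
    rw [this, h3]; group
  -- claim 2
  have claim2 : ∀ (s z : G), orderOf s = 2 → orderOf z = 2 → Commute s z → ∀ a : G, s ∈ a • T → z ∈ a • T := by
    intro s z hs hz hsz a hsa
    have hsp : IsPGroup 2 (Subgroup.zpowers s) := by
      apply IsPGroup.of_card (n := 1)
      rw [Nat.card_zpowers, hs, pow_one]
    have hzp : IsPGroup 2 (Subgroup.zpowers z) := by
      apply IsPGroup.of_card (n := 1)
      rw [Nat.card_zpowers, hz, pow_one]
    have hsz' : s ∈ Subgroup.centralizer ({z} : Set G) := by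
      rw [Subgroup.mem_centralizer_singleton_iff]; exact hsz.eq
    have hle : Subgroup.zpowers s ≤ Subgroup.normalizer ((Subgroup.zpowers z : Subgroup G) : Set G) := by
      rw [Subgroup.zpowers_le]
      exact Cfsg.Agent.S0220.centralizer_le_normalizer_zpowers z hsz'
    have hQ : IsPGroup 2 (Subgroup.zpowers s ⊔ Subgroup.zpowers z : Subgroup G) :=
      hsp.to_sup_of_normal_right' hzp hle
    obtain ⟨B, hB⟩ := hQ.exists_le_sylow
    obtain ⟨b, hb⟩ := MulAction.exists_smul_eq G T B
    have hsB : s ∈ b • T := by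
      rw [hb]; exact hB (Subgroup.mem_sup_left (Subgroup.mem_zpowers s))
    have hzB : z ∈ b • T := by
      rw [hb]; exact hB (Subgroup.mem_sup_right (Subgroup.mem_zpowers z))
    by_cases hab : a • T = b • T
    · rw [hab]; exact hzB
    · exact absurd (TI' a b hab s hsa hsB) (ne_one_of_orderOf_two hs)
  -- claim 3
  have claim3 : ∀ (s t : G), orderOf s = 2 → orderOf t = 2 → ¬ IsConj s t → ∀ a : G, s ∈ a • T → t ∈ a • T := by
    intro s t hs ht hns a hsa
    have heven : Even (orderOf (s * t)) := by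
      by_contra hodd
      rw [Nat.not_even_iff_odd] at hodd
      obtain ⟨d, _, hd⟩ := Cfsg.Agent.S0208.result s t hs ht hodd
      exact hns (isConj_iff.mpr ⟨d, hd⟩)
    obtain ⟨hzord, hzs, hzt⟩ := Cfsg.Agent.S0209.result s t hs ht heven
    have hza := claim2 s _ hs hzord hzs.symm a hsa
    exact claim2 _ t hzord ht hzt a hza
  by_contra hns
  -- s lies in some Sylow a • T
  have hsp : IsPGroup 2 (Subgroup.zpowers s) := by
    apply IsPGroup.of_card (n := 1)
    rw [Nat.card_zpowers, hs, pow_one]
  obtain ⟨A, hA⟩ := hsp.exists_le_sylow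
  obtain ⟨a, ha⟩ := MulAction.exists_smul_eq G T A
  have hsa : s ∈ a • T := by rw [ha]; exact hA (Subgroup.mem_zpowers s)
  -- some c moves a • T
  have hc : ∃ c : G, c • (a • T) ≠ a • T := by
    by_contra hall
    push Not at hall
    apply hnn
    have hTA : T = a • T := by
      have := hall a⁻¹
      rw [smul_smul, inv_mul_cancel, one_smul] at this
      exact this
    rw [← Subgroup.normalizer_eq_top_iff, eq_top_iff]
    intro c _
    have := hall c
    rw [← hTA] at this
    exact Sylow.smul_eq_iff_mem_normalizer.mp this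
  obtain ⟨c, hc⟩ := hc
  have hrca : c * s * c⁻¹ ∈ (c * a) • T := by
    rw [mem_sylow_smul_iff]
    have : (c * a)⁻¹ * (c * s * c⁻¹) * (c * a) = a⁻¹ * s * a := by group
    rw [this, ← mem_sylow_smul_iff]; exact hsa
  have hrord : orderOf (c * s * c⁻¹) = 2 := by
    have := orderOf_injective (MulAut.conj c).toMonoidHom (MulAut.conj c).injective s
    simp only [MulEquiv.coe_toMonoidHom, MulAut.conj_apply] at this
    rw [this, hs]
  have hsr : IsConj s (c * s * c⁻¹) := isConj_iff.mpr ⟨c, rfl⟩
  have hnrt : ¬ IsConj (c * s * c⁻¹) t := fun h => hns (hsr.trans h)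
  have ht1 := claim3 _ t hrord ht hnrt (c * a) hrca
  have ht2 := claim3 s t hs ht hns a hsa
  by_cases hab : (c * a) • T = a • T
  · apply hc; rw [smul_smul]; exact hab
  · exact absurd (TI' _ _ hab t ht1 ht2) (ne_one_of_orderOf_two ht)

end Cfsg.Agent.S0231
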