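import Mathlib
import Cfsg.Statements.S0232
import Cfsg.Agent.Lib.Helper2.BrauerFowler
import Cfsg.Agent.S0219
import Cfsg.Agent.S0233

set_option autoImplicit false
open Cfsg

namespace Cfsg.Agent.S0232

open Cfsg.Agent.Helper2

universe u

theorem numInv_lt_card {G : Type*} [Group G] [Finite G] : numInv G + 1 ≤ Nat.card G := by
  classical
  haveI := Fintype.ofFinite G
  unfold numInv
  rw [Nat.card_eq_fintype_card, Fintype.card_subtype, Nat.card_eq_fintype_card, ← Finset.card_univ]
  have hsub : Finset.univ.filter (fun t : G => orderOf t = 2) ⊆ (Finset.univ : Finset G).erase 1 := by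
    intro t ht
    simp only [Finset.mem_filter, Finset.mem_univ, true_and] at ht
    simp only [Finset.mem_erase, Finset.mem_univ, and_true]
    exact ne_one_of_orderOf_two ht
  have := Finset.card_le_card hsub
  rw [Finset.card_erase_of_mem (Finset.mem_univ _)] at this
  have hpos : 0 < (Finset.univ : Finset G).card := Finset.card_pos.mpr ⟨1, Finset.mem_univ _⟩
  omega

theorem arith_contra (n g' M : ℕ) (hA : 2 * n ^ 2 + 2 * n ≤ (n + g') * M) (hB : g' + 1 ≤ n * M)
    (hC : M ^ 3 ≤ g' + 1) (hD : n ≤ g') : False := by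
  have h1 : (g' + 1) ^ 2 ≤ (n * M) ^ 2 := Nat.pow_le_pow_left hB 2
  have h2 : (2 * n ^ 2 + 2 * n) * M ^ 2 ≤ (n + g') * M * M ^ 2 := Nat.mul_le_mul_right _ hA
  have h3 : (n + g') * M * M ^ 2 = (n + g') * M ^ 3 := by ring
  have h4 : (n + g') * M ^ 3 ≤ (n + g') * (g' + 1) := Nat.mul_le_mul_left _ hC
  have h5 : (n + g') * (g' + 1) ≤ (2 * g') * (g' + 1) := Nat.mul_le_mul_right _ (by omega)
  have h6 : 2 * (g' + 1) ^ 2 ≤ (2 * n ^ 2 + 2 * n) * M ^ 2 := by
    calc 2 * (g' + 1) ^ 2 ≤ 2 * (n * M) ^ 2 := Nat.mul_le_mul_left _ h1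
      _ = 2 * n ^ 2 * M ^ 2 := by ring
      _ ≤ (2 * n ^ 2 + 2 * n) * M ^ 2 := Nat.mul_le_mul_right _ (by omega)
  have h7 : 2 * (g' + 1) ^ 2 ≤ (2 * g') * (g' + 1) := by
    calc 2 * (g' + 1) ^ 2 ≤ (2 * n ^ 2 + 2 * n) * M ^ 2 := h6
      _ ≤ (n + g') * M * M ^ 2 := h2
      _ = (n + g') * M ^ 3 := h3
      _ ≤ (n + g') * (g' + 1) := h4
      _ ≤ (2 * g') * (g' + 1) := h5
  nlinarith

theorem aux : ∀ (N : ℕ) (G : Type u) [Group G] [Finite G], Nat.card G = N → Even N → 2 < N →
    ∃ H : Subgroup G, H ≠ ⊤ ∧ Nat.card G < Nat.card H ^ 3 := by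
  intro N
  induction N using Nat.strong_induction_on with
  | _ N ih =>
  intro G _ _ hN heven hgt
  haveI : Fact (Nat.Prime 2) := ⟨Nat.prime_two⟩
  by_cases h2 : ∃ H : Subgroup G, H.index = 2
  · -- index two subgroup
    obtain ⟨H, hH⟩ := h2
    refine ⟨H, ?_, ?_⟩
    · intro h
      rw [h, Subgroup.index_top] at hH
      omega
    · have h1 := Subgroup.card_mul_index H
      rw [hH] at h1
      rw [← h1]
      have hm : 2 ≤ Nat.card H := by omega
      nlinarith [Nat.pow_le_pow_left hm 2]
  · push Not at h2
    have hinv : ∃ t : G, orderOf t = 2 :=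
      exists_prime_orderOf_dvd_card' 2 (even_iff_two_dvd.mp (hN ▸ heven))
    by_cases hz : ∃ z : G, orderOf z = 2 ∧ z ∈ Subgroup.center G
    · -- central involution: pass to the quotient
      obtain ⟨z, hz2, hzc⟩ := hz
      set Z : Subgroup G := Subgroup.zpowers z with hZ
      have hZle : Z ≤ Subgroup.center G := by rw [hZ, Subgroup.zpowers_le]; exact hzc
      haveI : Z.Normal := by
        constructor
        intro n hn g
        have hc := Subgroup.mem_center_iff.mp (hZle hn) g
        have : g * n * g⁻¹ = n := by rw [hc]; group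
        rw [this]; exact hn
      have hZcard : Nat.card Z = 2 := by rw [hZ, Nat.card_zpowers, hz2]
      have hQcard : Nat.card (G ⧸ Z) * 2 = N := by
        rw [← hN, ← hZcard]
        exact (Subgroup.card_eq_card_quotient_mul_card_subgroup Z).symm
      set m := Nat.card (G ⧸ Z) with hm
      -- m is even
      have hmeven : Even m := by
        by_contra hodd
        rw [Nat.not_even_iff_odd] at hodd
        obtain ⟨P⟩ : Nonempty (Sylow 2 G) := inferInstance
        have hPcard : Nat.card P = 2 := by
          rw [Sylow.card_eq_multiplicity, hN, ← hQcard]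
          have : (m * 2).factorization 2 = 1 := by
            rw [Nat.factorization_mul (by omega) (by norm_num)]
            simp only [Finsupp.coe_add, Pi.add_apply]
            rw [Nat.factorization_eq_zero_of_not_dvd (by
              intro h; exact (Nat.not_even_iff_odd.mpr hodd) (even_iff_two_dvd.mpr h))]
            simp [Nat.Prime.factorization_self Nat.prime_two]
          rw [this, pow_one]
        have hPcyc : IsCyclic (P : Subgroup G) := isCyclic_of_prime_card hPcard
        obtain ⟨H, hH⟩ := Cfsg.Agent.S0219.result (hN ▸ heven) P hPcyc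
        exact h2 H hH
      have hmgt : 2 < m := by
        obtain ⟨k, hk⟩ := hmeven
        rcases Nat.lt_or_ge 1 k with h | h
        · omega
        · exfalso
          have hk1 : k = 1 := by omega
          apply h2 Z
          have := Subgroup.card_mul_index Z
          rw [hZcard, hN] at this
          omega
      have hmlt : m < N := by omega
      obtain ⟨Hbar, hHbar, hlt⟩ := ih m hmlt (G ⧸ Z) rfl hmeven hmgt
      set H : Subgroup G := Hbar.comap (QuotientGroup.mk' Z) with hH
      have hidx : H.index = Hbar.index :=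
        Subgroup.index_comap_of_surjective _ (QuotientGroup.mk'_surjective Z)
      have h1 := Subgroup.card_mul_index H
      have h3 := Subgroup.card_mul_index Hbar
      rw [hidx, hN] at h1
      have hdpos : 0 < Hbar.index := Nat.pos_of_ne_zero Subgroup.index_ne_zero_of_finite
      have hcardH : Nat.card H = 2 * Nat.card Hbar := by
        have : Nat.card H * Hbar.index = (2 * Nat.card Hbar) * Hbar.index := by
          rw [h1, ← hQcard, mul_assoc, h3]; ring
        exact Nat.eq_of_mul_eq_mul_right hdpos this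
      refine ⟨H, ?_, ?_⟩
      · intro h
        apply hHbar
        rw [← Subgroup.index_eq_one, ← hidx, h, Subgroup.index_top]
      · rw [hN, hcardH, ← hQcard]
        have : (2 * Nat.card Hbar) ^ 3 = 8 * Nat.card Hbar ^ 3 := by ring
        rw [this]
        have hlt' : m < Nat.card Hbar ^ 3 := hlt
        omega
    · -- counting argument
      push Not at hz
      have hnt : Nontrivial G := by
        obtain ⟨t, ht⟩ := hinv
        exact ⟨⟨t, 1, ne_one_of_orderOf_two ht⟩⟩
      obtain ⟨H₀, hH₀, hmax⟩ := Cfsg.Agent.S0233.exists_max_proper hnt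
      obtain ⟨hA, hB⟩ := brauer_fowler_core (Nat.card H₀) hmax h2 hz hinv
      refine ⟨H₀, hH₀, ?_⟩
      by_contra hC
      push Not at hC
      have hD := numInv_lt_card (G := G)
      obtain ⟨g', hg'⟩ : ∃ g', Nat.card G = g' + 1 := ⟨Nat.card G - 1, by
        have : 0 < Nat.card G := Nat.card_pos
        omega⟩
      rw [hg'] at hA hB hC hD
      have e : numInv G + (g' + 1) - 1 = numInv G + g' := by omega
      rw [e] at hA
      exact arith_contra (numInv G) g' (Nat.card H₀) hA hB hC (by omega)

/-- A finite group G of even order greater than 2 has a proper subgroup H with |G| < |H|^3. -/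
theorem result {G : Type*} [Group G] [Finite G] (heven : Even (Nat.card G)) (hgt : 2 < Nat.card G) : ∃ H : Subgroup G, H ≠ ⊤ ∧ Nat.card G < (Nat.card H) ^ 3 :=
  aux (Nat.card G) G rfl heven hgt

end Cfsg.Agent.S0232
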