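import Mathlib
import Cfsg.Statements.S0234
import Cfsg.Agent.S0233
import Cfsg.Agent.Lib.Helper2.Order60
import Cfsg.Agent.Lib.Lead.PermTools
import Cfsg.Agent.Lib.Lead.SylowTools
import Cfsg.Agent.Lib.Lead.SimpleTools

set_option autoImplicit false
open Cfsg

namespace Cfsg.Agent.S0234

open Cfsg.Agent.Lead Cfsg.Agent.Helper2

/-- the alternating group of degree 5 has 15 involutions -/
theorem card_involutions_A5 :
    Nat.card {t : alternatingGroup (Fin 5) // orderOf t = 2} = 15 := by
  have h1 : ∀ t : alternatingGroup (Fin 5), orderOf t = 2 ↔ (t ^ 2 = 1 ∧ t ≠ 1) := by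
    intro t
    have : Fact (Nat.Prime 2) := ⟨Nat.prime_two⟩
    exact orderOf_eq_prime_iff
  rw [Nat.card_congr (Equiv.subtypeEquivRight h1), Nat.card_eq_fintype_card]
  decide +kernel

/-- a simple group of order `> 2` with a proper subgroup of index at most 5 has order dividing 60 -/
theorem card_dvd_sixty {G : Type*} [Group G] [Finite G] [IsSimpleGroup G]
    (hgt : 2 < Nat.card G) (H : Subgroup G) (hH : H ≠ ⊤) (hk : H.index ≤ 5) :
    Nat.card G ∣ 60 := by
  classical
  let _ : Fintype (G ⧸ H) := Fintype.ofFinite _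
  have hinj := simple_toPermHom_injective H hH
  have hle : (MulAction.toPermHom G (G ⧸ H)).range ≤ alternatingGroup (G ⧸ H) := by
    rintro _ ⟨x, rfl⟩
    rw [Equiv.Perm.mem_alternatingGroup]
    exact sign_toPerm_eq_one hgt x
  have h1 : Nat.card G = Nat.card (MulAction.toPermHom G (G ⧸ H)).range :=
    Nat.card_congr (MonoidHom.ofInjective hinj).toEquiv
  have h2 : Nat.card G ∣ Nat.card (alternatingGroup (G ⧸ H)) := by
    rw [h1]
    exact Subgroup.card_dvd_of_le hle
  have hnt : Nontrivial (G ⧸ H) := by
    rw [← Finite.one_lt_card_iff_nontrivial, ← Subgroup.index_eq_card]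
    have h0 : H.index ≠ 0 := Subgroup.index_ne_zero_of_finite
    have h1' : H.index ≠ 1 := fun h => hH (Subgroup.index_eq_one.1 h)
    omega
  have h3 : 2 * Nat.card (alternatingGroup (G ⧸ H)) = (H.index).factorial := by
    rw [Nat.card_eq_fintype_card, two_mul_card_alternatingGroup, Fintype.card_perm,
      Subgroup.index_eq_card, Nat.card_eq_fintype_card]
  have h4 : (H.index).factorial ∣ Nat.factorial 5 := Nat.factorial_dvd_factorial hk
  have h5 : 2 * Nat.card G ∣ 2 * 60 := by
    have : 2 * Nat.card G ∣ (H.index).factorial := by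
      rw [← h3]; exact Nat.mul_dvd_mul_left 2 h2
    exact this.trans h4
  exact Nat.dvd_of_mul_dvd_mul_left (by norm_num) h5

/-- In a finite simple group G of even order greater than 2, the number n of involutions satisfies 3n < |G|. -/
theorem result {G : Type*} [Group G] [Finite G] [IsSimpleGroup G] (heven : Even (Nat.card G)) (hgt : 2 < Nat.card G) : 3 * Nat.card {t : G // orderOf t = 2} < Nat.card G := by
  classical
  by_contra hcon
  push Not at hcon
  have hnp : ¬ (Nat.card G).Prime := by
    intro hp
    have := (Nat.Prime.even_iff hp).1 heven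
    omega
  have hnonab := nonabelian_of_not_prime (G := G) hnp
  have hcenter : Subgroup.center G = ⊥ := by
    rcases (inferInstance : (Subgroup.center G).Normal).eq_bot_or_eq_top with h | h
    · exact h
    · exfalso
      obtain ⟨x, y, hxy⟩ := hnonab
      apply hxy
      have hx : x ∈ Subgroup.center G := by rw [h]; trivial
      exact ((Subgroup.mem_center_iff.1 hx) y).symm
  have hZ : Odd (Nat.card (Subgroup.center G)) := by
    rw [hcenter]; simp
  obtain ⟨H, hH, h⟩ := Cfsg.Agent.S0233.result heven hZ
  set n := Nat.card {t : G // orderOf t = 2} with hn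
  have hk : H.index ≤ 5 := by
    rcases h with h | h
    · exfalso
      have hnorm : H.Normal := Subgroup.normal_of_index_eq_two h
      rcases hnorm.eq_bot_or_eq_top with hb | ht
      · rw [hb, Subgroup.index_bot] at h; omega
      · exact hH ht
    · by_contra hk
      push Not at hk
      have h1 : Nat.card G * (Nat.card G + n) ≤ (3 * n) * (3 * n + n) :=
        Nat.mul_le_mul hcon (Nat.add_le_add_right hcon n)
      have h2 : 2 * 6 * n ^ 2 ≤ 2 * H.index * n ^ 2 :=
        Nat.mul_le_mul_right _ (Nat.mul_le_mul_left 2 hk)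
      have h3 : (3 * n) * (3 * n + n) = 2 * 6 * n ^ 2 := by ring
      omega
  have h60 := card_dvd_sixty hgt H hH hk
  -- 4 divides the order
  obtain ⟨x, hx⟩ := exists_prime_orderOf_dvd_card' (G := G) 2 (even_iff_two_dvd.1 heven)
  have hx2 : x ^ 2 = 1 := by rw [← hx]; exact pow_orderOf_eq_one x
  have hx1 : x ≠ 1 := by
    intro h1
    rw [h1, orderOf_one] at hx
    omega
  have h4 : 4 ∣ Nat.card G := by
    have h1 := involution_even_of_simple hgt (X := G) x hx2
    have h2 : Nat.card (MulAction.fixedBy G x) = 0 := by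
      rw [Nat.card_eq_zero]
      left
      constructor
      rintro ⟨y, hy⟩
      apply hx1
      rw [MulAction.mem_fixedBy, smul_eq_mul] at hy
      exact mul_eq_right.1 hy
    rw [h2, Nat.sub_zero] at h1
    obtain ⟨c, hc⟩ := h1
    obtain ⟨e, he⟩ := heven
    omega
  obtain ⟨c, hc⟩ := h4
  have hcases : Nat.card G = 4 ∨ Nat.card G = 12 ∨ Nat.card G = 20 ∨ Nat.card G = 60 := by
    rw [hc] at h60 ⊢
    have hc15 : c ∣ 15 := Nat.dvd_of_mul_dvd_mul_left (by norm_num : 0 < 4) (by simpa using h60)
    have hcle : c ≤ 15 := Nat.le_of_dvd (by norm_num) hc15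
    interval_cases c <;> simp_all
  have h2fact : Fact (Nat.Prime 2) := ⟨Nat.prime_two⟩
  have h5fact : Fact (Nat.Prime 5) := ⟨by norm_num⟩
  rcases hcases with hg | hg | hg | hg
  · -- order 4
    have hp : IsPGroup 2 G := IsPGroup.of_card (n := 2) (by rw [hg]; norm_num)
    have : Nontrivial G := by
      rw [← Finite.one_lt_card_iff_nontrivial]; omega
    have := hp.center_nontrivial
    rw [hcenter] at this
    exact not_nontrivial _ this
  · -- order 12
    have hf := sylow_facts (G := G) (p := 2) (k := 2) (m := 3) (by rw [hg]; norm_num) (by norm_num)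
    have h1 := card_dvd_factorial_card_sylow hnonab (p := 2) (by rw [hg]; norm_num)
    have h2 : Nat.card (Sylow 2 G) ≤ 3 := Nat.le_of_dvd (by norm_num) hf.2.1
    have h3 : (Nat.card (Sylow 2 G)).factorial ∣ Nat.factorial 3 := Nat.factorial_dvd_factorial h2
    have h4 := h1.trans h3
    rw [hg] at h4
    norm_num [Nat.factorial] at h4
  · -- order 20
    have hf := sylow_facts (G := G) (p := 5) (k := 1) (m := 4) (by rw [hg]; norm_num) (by norm_num)
    have h1 := card_dvd_factorial_card_sylow hnonab (p := 5) (by rw [hg]; norm_num)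
    have h2 : Nat.card (Sylow 5 G) ≤ 4 := Nat.le_of_dvd (by norm_num) hf.2.1
    have h3 : Nat.card (Sylow 5 G) = 1 := by
      have := hf.2.2
      interval_cases (Nat.card (Sylow 5 G)) <;> omega
    rw [h3, hg] at h1
    norm_num [Nat.factorial] at h1
  · -- order 60
    obtain ⟨e⟩ := simple_sixty_equiv_alternating hg
    have h1 : n = 15 := by
      rw [hn, ← card_involutions_A5]
      exact Nat.card_congr (e.toEquiv.subtypeEquiv (fun t => by
        show orderOf t = 2 ↔ orderOf (e t) = 2
        rw [MulEquiv.orderOf_eq]))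
    rw [h1, hg] at hcon
    omega

end Cfsg.Agent.S0234
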