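import Mathlib
import Cfsg.Statements.S0239

set_option autoImplicit false
open Cfsg

namespace Cfsg.Agent.S0239

/-- If some nontrivial element x of a finite group G is conjugate to x⁻¹, then |G| is even. -/
theorem result {G : Type*} [Group G] [Finite G] (x : G) (hx : x ≠ 1) (hreal : IsConj x x⁻¹) : Even (Nat.card G) := by
  by_contra hodd
  rw [Nat.not_even_iff_odd] at hodd
  obtain ⟨c, hc⟩ := isConj_iff.mp hreal
  -- c^2 commutes with x
  have h1 : c * x = x⁻¹ * c := by rw [← hc]; group
  have h1' : c * x⁻¹ = x * c := by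
    have h3 : x * c * x = c := by rw [mul_assoc, h1]; group
    conv_lhs => rw [← h3]
    group
  have h2 : c ^ 2 * x = x * c ^ 2 := by
    calc c ^ 2 * x = c * (c * x) := by rw [pow_two, mul_assoc]
      _ = c * (x⁻¹ * c) := by rw [h1]
      _ = (c * x⁻¹) * c := by rw [mul_assoc]
      _ = x * c * c := by rw [h1']
      _ = x * c ^ 2 := by rw [pow_two, mul_assoc]
  -- c is a power of c^2 since order of c is odd
  have hco : Odd (orderOf c) := by
    have := orderOf_dvd_natCard c
    exact Odd.of_dvd_nat hodd this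
  have hcop : Nat.Coprime (orderOf c) 2 := Nat.Coprime.symm (Nat.coprime_two_left.mpr hco)
  have hmem : c ∈ Subgroup.zpowers (c ^ 2) := by
    have : Subgroup.zpowers (c ^ 2) = Subgroup.zpowers c := by
      have hle : Subgroup.zpowers (c ^ 2) ≤ Subgroup.zpowers c := by
        rw [Subgroup.zpowers_le]; exact Subgroup.pow_mem _ (Subgroup.mem_zpowers c) 2
      have hcard : Nat.card (Subgroup.zpowers (c ^ 2)) = Nat.card (Subgroup.zpowers c) := by
        rw [Nat.card_zpowers, Nat.card_zpowers]
        exact Nat.Coprime.orderOf_pow hcop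
      exact Subgroup.eq_of_le_of_card_ge hle (le_of_eq hcard.symm)
    rw [this]; exact Subgroup.mem_zpowers c
  obtain ⟨k, hk⟩ := Subgroup.mem_zpowers_iff.mp hmem
  have hcx : c * x = x * c := by
    have : Commute (c ^ 2) x := h2
    have := (this.zpow_left k)
    rw [hk] at this
    exact this
  have hxx : x = x⁻¹ := by
    rw [← hc, hcx]; group
  have hx2 : x ^ 2 = 1 := by
    rw [pow_two]; nth_rewrite 2 [hxx]; exact mul_inv_cancel x
  have hxo : Odd (orderOf x) := Odd.of_dvd_nat hodd (orderOf_dvd_natCard x)
  have hd : orderOf x ∣ 2 := orderOf_dvd_of_pow_eq_one hx2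
  have : orderOf x = 1 := by
    rcases (Nat.dvd_prime Nat.prime_two).mp hd with h | h
    · exact h
    · rw [h] at hxo; exact absurd hxo (by decide)
  exact hx (orderOf_eq_one_iff.mp this)

end Cfsg.Agent.S0239
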