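import Mathlib
import Cfsg.Statements.S0240
import Cfsg.Agent.Lib.Helper2.Dihedral

set_option autoImplicit false
open Cfsg

namespace Cfsg.Agent.S0240

open Cfsg.Agent.Helper2

/-- Let G be a finite group with n involutions and H a subgroup with |H|·(n+1) > |G|. Then some nontrivial h ∈ H is strongly real in G: an involution t of G satisfies t h t⁻¹ = h⁻¹. -/
theorem result {G : Type*} [Group G] [Finite G] (H : Subgroup G) (hH : Nat.card G < Nat.card H * (Nat.card {t : G // orderOf t = 2} + 1)) : ∃ h : G, h ∈ H ∧ h ≠ 1 ∧ ∃ t : G, orderOf t = 2 ∧ t * h * t⁻¹ = h⁻¹ := by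
  set I : Set G := insert 1 {t : G | orderOf t = 2} with hI
  have hIcard : Nat.card I = Nat.card {t : G // orderOf t = 2} + 1 := by
    rw [Nat.card_coe_set_eq, hI, Set.ncard_insert_of_notMem _ (Set.toFinite _)]
    · rw [← Nat.card_coe_set_eq]; rfl
    · simp
  have hcard : Nat.card G < Nat.card (I × H) := by
    rw [Nat.card_prod, hIcard, mul_comm]; exact hH
  have hninj : ¬ Function.Injective (fun p : I × H => (p.1 : G) * (p.2 : G)) := by
    intro hinj
    have := Nat.card_le_card_of_injective _ hinj
    omega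
  rw [Function.Injective] at hninj
  push Not at hninj
  obtain ⟨⟨t, h⟩, ⟨t', h'⟩, heq, hne⟩ := hninj
  simp only at heq
  have htt : (t : G) ≠ t' := by
    intro e
    apply hne
    have e' : t = t' := Subtype.ext e
    subst e'
    have : (h : G) = h' := mul_left_cancel heq
    rw [Subtype.ext this]
  have hg : (t : G)⁻¹ * t' = h * (h' : G)⁻¹ := by
    have : (t' : G) = t * h * (h' : G)⁻¹ := by rw [heq]; group
    rw [this]; group
  have hgH : (t : G)⁻¹ * t' ∈ H := by
    rw [hg]; exact H.mul_mem h.2 (H.inv_mem h'.2)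
  have hg1 : (t : G)⁻¹ * t' ≠ 1 := by
    intro e
    apply htt
    have := eq_inv_of_mul_eq_one_left e
    exact inv_injective this
  refine ⟨(t : G)⁻¹ * t', hgH, hg1, ?_⟩
  rcases t.2 with ht | ht <;> rcases t'.2 with ht' | ht'
  · exact absurd (ht.trans ht'.symm) htt
  · -- t = 1, t' involution
    have ht'2 : orderOf (t' : G) = 2 := ht'
    have h2 := mul_self_of_orderOf_two ht'2
    refine ⟨t', ht'2, ?_⟩
    rw [ht]
    simp only [inv_one, one_mul]
    rw [inv_eq_self_of_mul_self h2, h2, one_mul]
  · have ht2 : orderOf (t : G) = 2 := ht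
    have h2 := mul_self_of_orderOf_two ht2
    refine ⟨t, ht2, ?_⟩
    rw [ht']
    simp only [mul_one, inv_inv]
    rw [inv_eq_self_of_mul_self h2, h2, one_mul]
  · have ht2 : orderOf (t : G) = 2 := ht
    have ht'2 : orderOf (t' : G) = 2 := ht'
    have h2 := mul_self_of_orderOf_two ht2
    have h2' := mul_self_of_orderOf_two ht'2
    refine ⟨t, ht2, ?_⟩
    rw [inv_eq_self_of_mul_self h2]
    have := dih_conj_left h2 h2'
    rw [inv_eq_self_of_mul_self h2] at this
    exact this

end Cfsg.Agent.S0240
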