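import Mathlib
import Cfsg.Statements.S0241
import Cfsg.Agent.Lib.Helper2.Dihedral

set_option autoImplicit false
open Cfsg

namespace Cfsg.Agent.S0241

open Cfsg.Agent.Helper2

theorem inverts_sq_comm {G : Type*} [Group G] {c x : G} (hc : c * x * c⁻¹ = x⁻¹) :
    Commute (c * c) x := by
  have h1 : c * x = x⁻¹ * c := by rw [← hc]; group
  have h1' : c * x⁻¹ = x * c := by
    have h3 : x * c * x = c := by rw [mul_assoc, h1]; group
    conv_lhs => rw [← h3]
    group
  show c * c * x = x * (c * c)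
  calc c * c * x = c * (c * x) := by rw [mul_assoc]
    _ = c * (x⁻¹ * c) := by rw [h1]
    _ = (c * x⁻¹) * c := by rw [mul_assoc]
    _ = x * c * c := by rw [h1']
    _ = x * (c * c) := by rw [mul_assoc]

theorem inverts_mul_of_comm {G : Type*} [Group G] {g c x : G} (hg : Commute g x)
    (hc : c * x * c⁻¹ = x⁻¹) : (g * c) * x * (g * c)⁻¹ = x⁻¹ := by
  have hg' : Commute g x⁻¹ := hg.inv_right
  calc (g * c) * x * (g * c)⁻¹ = g * (c * x * c⁻¹) * g⁻¹ := by group
    _ = g * x⁻¹ * g⁻¹ := by rw [hc]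
    _ = x⁻¹ * g * g⁻¹ := by rw [hg'.eq]
    _ = x⁻¹ := by group

/-- If x ≠ 1 is conjugate to x⁻¹ in a finite group G and |C_G(x)| is odd, then some involution t satisfies t x t⁻¹ = x⁻¹. -/
theorem result {G : Type*} [Group G] [Finite G] (x : G) (hx : x ≠ 1) (hreal : IsConj x x⁻¹) (hodd : Odd (Nat.card (Subgroup.centralizer ({x} : Set G)))) : ∃ t : G, orderOf t = 2 ∧ t * x * t⁻¹ = x⁻¹ := by
  obtain ⟨c, hc⟩ := isConj_iff.mp hreal
  obtain ⟨a, m, hm, ham⟩ := Nat.exists_eq_two_pow_mul_odd (orderOf_pos c).ne'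
  obtain ⟨l, hl⟩ := hm
  have hcc := inverts_sq_comm hc
  have htinv : (c ^ m) * x * (c ^ m)⁻¹ = x⁻¹ := by
    have : c ^ m = (c * c) ^ l * c := by
      rw [hl, pow_succ, pow_mul, pow_two]
    rw [this]
    exact inverts_mul_of_comm (hcc.pow_left l) hc
  have htpow : (c ^ m) ^ (2 ^ a) = 1 := by
    rw [← pow_mul, mul_comm, ← ham]; exact pow_orderOf_eq_one c
  have hs := inverts_sq_comm htinv
  have hsmem : (c ^ m) * (c ^ m) ∈ Subgroup.centralizer ({x} : Set G) := by
    rw [Subgroup.mem_centralizer_singleton_iff]; exact hs.eq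
  have hs1 : orderOf ((c ^ m) * (c ^ m)) ∣ Nat.card (Subgroup.centralizer ({x} : Set G)) :=
    Subgroup.orderOf_dvd_natCard _ hsmem
  have hs2 : orderOf ((c ^ m) * (c ^ m)) ∣ 2 ^ a := by
    apply orderOf_dvd_of_pow_eq_one
    rw [(Commute.refl (c ^ m)).mul_pow, htpow, one_mul]
  have hs3 : orderOf ((c ^ m) * (c ^ m)) = 1 := by
    have hcop : Nat.Coprime (2 ^ a) (Nat.card (Subgroup.centralizer ({x} : Set G))) :=
      Nat.Coprime.pow_left a (Nat.coprime_two_left.mpr hodd)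
    exact Nat.eq_one_of_dvd_coprimes hcop hs2 hs1
  have hss : (c ^ m) * (c ^ m) = 1 := orderOf_eq_one_iff.mp hs3
  refine ⟨c ^ m, orderOf_two_of_mul_self hss ?_, htinv⟩
  intro h1
  rw [h1] at htinv
  simp only [one_mul, inv_one, mul_one] at htinv
  have hxx : x * x = 1 := by
    calc x * x = x⁻¹ * x := by rw [← htinv]
      _ = 1 := inv_mul_cancel x
  have hx2 : orderOf x = 2 := orderOf_two_of_mul_self hxx hx
  have hxmem : x ∈ Subgroup.centralizer ({x} : Set G) := by
    rw [Subgroup.mem_centralizer_singleton_iff]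
  have := Subgroup.orderOf_dvd_natCard _ hxmem
  rw [hx2] at this
  exact (Nat.not_even_iff_odd.mpr hodd) (even_iff_two_dvd.mpr this)

end Cfsg.Agent.S0241
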