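import Mathlib
import Cfsg.Statements.S0251
import Cfsg.Agent.Lib.Helper2.PermIso

set_option autoImplicit false
open Cfsg

namespace Cfsg.Agent.S0251

open Cfsg.Agent.Helper2
open scoped LinearAlgebra.Projectivization

/-- PSL_2(3) is isomorphic to A_4. -/
theorem result {F : Type*} [Field F] [Fintype F] (hF : Fintype.card F = 3) : Nonempty (Matrix.ProjectiveSpecialLinearGroup (Fin 2) F ≃* alternatingGroup (Fin 4)) := by
  haveI : Fintype (ℙ F (Fin 2 → F)) := Fintype.ofFinite _
  have hα : Fintype.card (ℙ F (Fin 2 → F)) = 4 := by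
    rw [← Nat.card_eq_fintype_card, card_projectiveLine, hF]
  have hcard := card_PSL_mul (F := F) 2 (by norm_num)
  rw [hF] at hcard
  simp only [Fin.prod_univ_two, Fin.val_zero, Fin.val_one] at hcard
  norm_num at hcard
  refine equiv_alternating_of_injective 4 hα Projectivization.PSLAction.toPermHom
    Matrix.ProjectiveSpecialLinearGroup.toPermHom_injective ?_
  have : Nat.factorial 4 = 24 := rfl
  rw [this]
  omega

end Cfsg.Agent.S0251
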