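import Mathlib
import Cfsg.Statements.S0254
import Cfsg.Agent.Lib.Helper2.PSL29
import Cfsg.Agent.Lib.Helper2.PSLMapEquiv
import Cfsg.Agent.Lib.Helper2.PermIso

set_option autoImplicit false
open Cfsg

namespace Cfsg.Agent.S0254

open Cfsg.Agent.Helper2 Cfsg.Agent.Helper2.P29

/-- PSL_2(9) is isomorphic to A_6. -/
theorem result {F : Type*} [Field F] [Fintype F] (hF : Fintype.card F = 9) : Nonempty (Matrix.ProjectiveSpecialLinearGroup (Fin 2) F ≃* alternatingGroup (Fin 6)) := by
  have e9 : F ≃+* F9 := FiniteField.ringEquivOfCardEq (by rw [hF, F9.card_F9])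
  have hfin : Finite (Matrix.ProjectiveSpecialLinearGroup (Fin 2) F9) :=
    Nat.finite_of_card_ne_zero (by rw [card_PSL29]; norm_num)
  obtain ⟨e⟩ := equiv_alternating_of_injective (G := Matrix.ProjectiveSpecialLinearGroup (Fin 2) F9)
    (α := Fin 6) 6 (by simp) rhoBar rhoBar_injective (by rw [card_PSL29]; decide)
  exact ⟨(pslMapEquiv e9).trans e⟩

end Cfsg.Agent.S0254
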