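import Mathlib
import Cfsg.Statements.S2427
import Cfsg.Agent.Lib.Helper2.CardSL

set_option autoImplicit false
open Cfsg

namespace Cfsg.Agent.S2427

/-- the group `SL₂(𝔽₃)` -/
abbrev G := Matrix.SpecialLinearGroup (Fin 2) (ZMod 3)

/-- an element of order 4 -/
def A : G := ⟨!![0, -1; 1, 0], by decide +kernel⟩
/-- a second element of order 4 -/
def B : G := ⟨!![1, 1; 1, -1], by decide +kernel⟩

/-- the embedding of the quaternion group, as a function -/
def psiFun : QuaternionGroup 2 → G
  | .a i => A ^ i.val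
  | .xa i => B * A ^ i.val

theorem psiFun_mul : ∀ x y : QuaternionGroup 2, psiFun (x * y) = psiFun x * psiFun y := by
  decide +kernel

/-- the embedding of the quaternion group -/
def psi : QuaternionGroup 2 →* G := MonoidHom.mk' psiFun psiFun_mul

theorem psi_apply (q : QuaternionGroup 2) : psi q = psiFun q := rfl

theorem psi_injective : Function.Injective psi := by
  have : ∀ x y : QuaternionGroup 2, psiFun x = psiFun y → x = y := by decide +kernel
  intro x y h
  exact this x y h

theorem psi_pow_four : ∀ q : QuaternionGroup 2, (psiFun q) ^ 4 = 1 := by decide +kernel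

theorem exists_psi_of_pow_four : ∀ a b c d : ZMod 3, a * d - b * c = 1 →
    (!![a, b; c, d] : Matrix (Fin 2) (Fin 2) (ZMod 3)) ^ 4 = 1 →
    ∃ q : QuaternionGroup 2, (psiFun q).1 = !![a, b; c, d] := by decide +kernel

theorem mem_range_iff (x : G) : x ∈ psi.range ↔ x ^ 4 = 1 := by
  constructor
  · rintro ⟨q, rfl⟩
    exact psi_pow_four q
  · intro h
    have hdet : x.1 0 0 * x.1 1 1 - x.1 0 1 * x.1 1 0 = 1 := by
      have := x.2
      rwa [Matrix.det_fin_two] at this
    have hx : x.1 = !![x.1 0 0, x.1 0 1; x.1 1 0, x.1 1 1] := Matrix.eta_fin_two x.1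
    have h4 : (!![x.1 0 0, x.1 0 1; x.1 1 0, x.1 1 1] : Matrix (Fin 2) (Fin 2) (ZMod 3)) ^ 4
        = 1 := by
      rw [← hx, ← Matrix.SpecialLinearGroup.coe_pow, h]
      rfl
    obtain ⟨q, hq⟩ := exists_psi_of_pow_four _ _ _ _ hdet h4
    refine ⟨q, ?_⟩
    apply Subtype.ext
    rw [psi_apply, hq, ← hx]

/-- the quaternion subgroup -/
def Q : Subgroup G := psi.range

theorem mem_Q_iff (x : G) : x ∈ Q ↔ x ^ 4 = 1 := mem_range_iff x

instance Q_normal : Q.Normal := by
  constructor
  intro x hx g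
  rw [mem_Q_iff] at hx ⊢
  rw [conj_pow, hx, mul_one, mul_inv_cancel]

theorem card_G : Nat.card G = 24 := by
  have h := Cfsg.Agent.Helper2.card_SL_mul (F := ZMod 3) 2 (by norm_num)
  rw [ZMod.card, Fin.prod_univ_two] at h
  norm_num [-Nat.card_eq_fintype_card] at h
  change Nat.card (Matrix.SpecialLinearGroup (Fin 2) (ZMod 3)) = 24
  omega

theorem card_center : Nat.card (Subgroup.center G) = 2 := by
  rw [Cfsg.Agent.Helper2.card_center_SL (F := ZMod 3) 2 (by norm_num), ZMod.card]
  decide

theorem card_Q : Nat.card Q = 8 := by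
  have e : QuaternionGroup 2 ≃* Q := MonoidHom.ofInjective psi_injective
  rw [← Nat.card_congr e.toEquiv, Nat.card_eq_fintype_card, QuaternionGroup.card]

theorem index_Q : Q.index = 3 := by
  have := Q.card_mul_index
  rw [card_Q, card_G] at this
  omega

theorem commutator_le_Q : commutator G ≤ Q := by
  rw [← Subgroup.Normal.quotient_commutative_iff_commutator_le]
  have hc : Nat.card (G ⧸ Q) = 3 := by
    rw [← Subgroup.index_eq_card]; exact index_Q
  haveI : Fact (Nat.Prime 3) := ⟨by norm_num⟩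
  have : IsCyclic (G ⧸ Q) := isCyclic_of_prime_card hc
  exact this.isMulCommutative

theorem A_mem_commutator : A ∈ commutator G := by
  have : ∃ g h : G, g * h * g⁻¹ * h⁻¹ = A := by decide +kernel
  obtain ⟨g, h, hgh⟩ := this
  rw [← hgh, ← commutatorElement_def]
  exact Subgroup.commutator_mem_commutator (Subgroup.mem_top g) (Subgroup.mem_top h)

theorem B_mem_commutator : B ∈ commutator G := by
  have : ∃ g h : G, g * h * g⁻¹ * h⁻¹ = B := by decide +kernel
  obtain ⟨g, h, hgh⟩ := this
  rw [← hgh, ← commutatorElement_def]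
  exact Subgroup.commutator_mem_commutator (Subgroup.mem_top g) (Subgroup.mem_top h)

theorem Q_le_commutator : Q ≤ commutator G := by
  rintro _ ⟨q, rfl⟩
  rw [psi_apply]
  cases q with
  | a i => exact Subgroup.pow_mem _ A_mem_commutator _
  | xa i => exact Subgroup.mul_mem _ B_mem_commutator (Subgroup.pow_mem _ A_mem_commutator _)

theorem commutator_eq_Q : commutator G = Q := le_antisymm commutator_le_Q Q_le_commutator

instance G_solvable : Group.IsSolvable G := by
  haveI : Fact (Nat.Prime 2) := ⟨Nat.prime_two⟩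
  have hQ : IsPGroup 2 Q := IsPGroup.of_card (n := 3) (by rw [card_Q]; norm_num)
  haveI : Group.IsNilpotent Q := hQ.isNilpotent
  haveI : Group.IsSolvable Q := inferInstance
  have hcomm : Group.IsSolvable (G ⧸ Q) := by
    have hc : Nat.card (G ⧸ Q) = 3 := by
      rw [← Subgroup.index_eq_card]; exact index_Q
    haveI : Fact (Nat.Prime 3) := ⟨by norm_num⟩
    have hcyc : IsCyclic (G ⧸ Q) := isCyclic_of_prime_card hc
    exact Group.isSolvable_of_comm (fun a b => hcyc.isMulCommutative.is_comm.comm a b)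
  exact (Group.isSolvable_iff_subgroup_quotient Q).2 ⟨inferInstance, hcomm⟩

theorem le_Q_of_normal (N : Subgroup G) [N.Normal] (hN : N ≠ ⊤) : N ≤ Q := by
  haveI : Nontrivial (G ⧸ N) := QuotientGroup.nontrivial_iff.2 hN
  have hlt := Group.IsSolvable.commutator_lt_top_of_nontrivial (G ⧸ N)
  have hmap : (commutator G).map (QuotientGroup.mk' N) = commutator (G ⧸ N) := by
    rw [commutator_def, commutator_def, Subgroup.map_commutator, ← MonoidHom.range_eq_map,
      MonoidHom.range_eq_top.2 (QuotientGroup.mk'_surjective N)]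
  have hsup : Q ⊔ N ≠ ⊤ := by
    intro htop
    have h1 : (Q ⊔ N).map (QuotientGroup.mk' N) = ⊤ := by
      rw [htop, ← MonoidHom.range_eq_map, MonoidHom.range_eq_top.2 (QuotientGroup.mk'_surjective N)]
    rw [Subgroup.map_sup, QuotientGroup.map_mk'_self, sup_bot_eq, ← commutator_eq_Q, hmap] at h1
    exact hlt.ne h1
  have hdvd : (Q ⊔ N).index ∣ 3 := by
    have h := Subgroup.index_dvd_of_le (le_sup_left : Q ≤ Q ⊔ N)
    rwa [index_Q] at h
  have hidx : (Q ⊔ N).index = 3 := by
    rcases (Nat.dvd_prime (by norm_num : Nat.Prime 3)).1 hdvd with h | h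
    · exact absurd (Subgroup.index_eq_one.1 h) hsup
    · exact h
  have hcard : Nat.card ↥(Q ⊔ N) = 8 := by
    have := (Q ⊔ N).card_mul_index
    rw [hidx, card_G] at this
    omega
  have heq : Q = Q ⊔ N := Subgroup.eq_of_le_of_card_ge le_sup_left (by rw [hcard, card_Q])
  rw [heq]
  exact le_sup_right

theorem mem_center_of_scalar (x : G) (h01 : x.1 0 1 = 0) (h10 : x.1 1 0 = 0)
    (h : x.1 0 0 = x.1 1 1) : x ∈ Subgroup.center G := by
  rw [Matrix.SpecialLinearGroup.mem_center_iff]
  refine ⟨x.1 0 0, ?_, ?_⟩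
  · have hd := x.2
    rw [Matrix.det_fin_two, h01, h10, ← h] at hd
    simp only [Fintype.card_fin]
    rw [pow_two]
    simpa using hd
  · ext i j
    fin_cases i <;> fin_cases j <;> simp [Matrix.scalar, h01, h10, ← h]

theorem exists_conj_A : ∀ a b c d : ZMod 3, a * d - b * c = 1 →
    (!![a, b; c, d] : Matrix (Fin 2) (Fin 2) (ZMod 3)) ^ 4 = 1 →
    ¬ (b = 0 ∧ c = 0 ∧ a = d) →
    ∃ P : G, (!![a, b; c, d] : Matrix (Fin 2) (Fin 2) (ZMod 3)) * P.1 = P.1 * A.1 := by
  decide +kernel

theorem B_conj_A : ∃ P : G, B * P = P * A := by decide +kernel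

theorem Q_le_of_normal (N : Subgroup G) [hn : N.Normal] (x : G) (hxN : x ∈ N) (hxQ : x ∈ Q)
    (hxZ : x ∉ Subgroup.center G) : Q ≤ N := by
  rw [mem_Q_iff] at hxQ
  have hdet : x.1 0 0 * x.1 1 1 - x.1 0 1 * x.1 1 0 = 1 := by
    have := x.2
    rwa [Matrix.det_fin_two] at this
  have hx : x.1 = !![x.1 0 0, x.1 0 1; x.1 1 0, x.1 1 1] := Matrix.eta_fin_two x.1
  have h4 : (!![x.1 0 0, x.1 0 1; x.1 1 0, x.1 1 1] : Matrix (Fin 2) (Fin 2) (ZMod 3)) ^ 4
      = 1 := by
    rw [← hx, ← Matrix.SpecialLinearGroup.coe_pow, hxQ]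
    rfl
  have hns : ¬ (x.1 0 1 = 0 ∧ x.1 1 0 = 0 ∧ x.1 0 0 = x.1 1 1) := by
    rintro ⟨h1, h2, h3⟩
    exact hxZ (mem_center_of_scalar x h1 h2 h3)
  obtain ⟨P, hP⟩ := exists_conj_A _ _ _ _ hdet h4 hns
  rw [← hx] at hP
  have hP' : x * P = P * A := by
    apply Subtype.ext
    simpa using hP
  have hA : A ∈ N := by
    have : A = P⁻¹ * x * P⁻¹⁻¹ := by
      rw [inv_inv, mul_assoc, hP', inv_mul_cancel_left]
    rw [this]
    exact hn.conj_mem x hxN P⁻¹
  have hB : B ∈ N := by
    obtain ⟨P2, hP2⟩ := B_conj_A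
    have : B = P2 * A * P2⁻¹ := by
      rw [← hP2, mul_inv_cancel_right]
    rw [this]
    exact hn.conj_mem A hA P2
  rintro _ ⟨q, rfl⟩
  rw [psi_apply]
  cases q with
  | a i => exact Subgroup.pow_mem _ hA _
  | xa i => exact Subgroup.mul_mem _ hB (Subgroup.pow_mem _ hA _)

theorem eq_bot_or_center (N : Subgroup G) (hN : N ≤ Subgroup.center G) :
    N = ⊥ ∨ N = Subgroup.center G := by
  by_cases hb : N = ⊥
  · exact Or.inl hb
  · right
    apply Subgroup.eq_of_le_of_card_ge hN
    rw [card_center]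
    have h1 : Nat.card N ≠ 1 := fun h => hb (Subgroup.card_eq_one.1 h)
    have h0 : 0 < Nat.card N := Nat.card_pos
    omega

/-- The group SL₂ over the field with 3 elements has order 24 and centre of order 2; its commutator subgroup has order 8, is isomorphic to the quaternion group of order 8 and is complemented by every Sylow 3-subgroup (so the group is a semidirect product of a quaternion group of order 8 by a cyclic group of order 3); and its only normal subgroups besides the trivial subgroup and the whole group are the centre and the commutator subgroup. -/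
theorem result :
    Nat.card (Matrix.SpecialLinearGroup (Fin 2) (ZMod 3)) = 24 ∧
    Nat.card (Subgroup.center (Matrix.SpecialLinearGroup (Fin 2) (ZMod 3))) = 2 ∧
    Nat.card (commutator (Matrix.SpecialLinearGroup (Fin 2) (ZMod 3))) = 8 ∧
    Nonempty (commutator (Matrix.SpecialLinearGroup (Fin 2) (ZMod 3)) ≃* QuaternionGroup 2) ∧
    (∀ P : Sylow 3 (Matrix.SpecialLinearGroup (Fin 2) (ZMod 3)),
      Subgroup.IsComplement' (commutator (Matrix.SpecialLinearGroup (Fin 2) (ZMod 3)))
        (P : Subgroup (Matrix.SpecialLinearGroup (Fin 2) (ZMod 3)))) ∧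
    ∀ N : Subgroup (Matrix.SpecialLinearGroup (Fin 2) (ZMod 3)), N.Normal →
      N = ⊥ ∨ N = ⊤ ∨ N = Subgroup.center (Matrix.SpecialLinearGroup (Fin 2) (ZMod 3)) ∨
        N = commutator (Matrix.SpecialLinearGroup (Fin 2) (ZMod 3)) := by
  have hcQ : commutator (Matrix.SpecialLinearGroup (Fin 2) (ZMod 3)) = Q := commutator_eq_Q
  refine ⟨card_G, card_center, ?_, ?_, ?_, ?_⟩
  · rw [hcQ]; exact card_Q
  · rw [hcQ]
    exact ⟨(MonoidHom.ofInjective psi_injective).symm⟩
  · intro P
    rw [hcQ]
    haveI : Fact (Nat.Prime 3) := ⟨by norm_num⟩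
    have hP : Nat.card (P : Subgroup G) = 3 := by
      rw [Sylow.card_eq_multiplicity, card_G]
      have : (24).factorization 3 = 1 := by decide +kernel
      rw [this, pow_one]
    apply Subgroup.isComplement'_of_coprime
    · rw [card_Q, hP, card_G]
    · rw [card_Q, hP]; norm_num
  · intro N hN
    by_cases hT : N = ⊤
    · exact Or.inr (Or.inl hT)
    · have hNQ : N ≤ Q := le_Q_of_normal N hT
      by_cases hZ : N ≤ Subgroup.center G
      · rcases eq_bot_or_center N hZ with h | h
        · exact Or.inl h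
        · exact Or.inr (Or.inr (Or.inl h))
      · obtain ⟨x, hxN, hxZ⟩ := SetLike.not_le_iff_exists.1 hZ
        right; right; right
        rw [hcQ]
        exact le_antisymm hNQ (Q_le_of_normal N x hxN (hNQ hxN) hxZ)

end Cfsg.Agent.S2427
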