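import Mathlib
import Cfsg.Statements.S0257
import Cfsg.Agent.Lib.Helper2.CardSL
import Cfsg.Agent.Lib.Helper2.SLMapEquiv
import Cfsg.Agent.S2427

set_option autoImplicit false
open Cfsg

namespace Cfsg.Agent.S0257

open Cfsg.Agent.Helper2

/-- SL_2(3) has a normal subgroup of index 3 isomorphic to the quaternion group of order 8, and its centre has order 2. -/
theorem result {F : Type*} [Field F] [Fintype F] (hF : Fintype.card F = 3) : (∃ Q : Subgroup (Matrix.SpecialLinearGroup (Fin 2) F), Q.Normal ∧ Q.index = 3 ∧ Nonempty (Q ≃* QuaternionGroup 2)) ∧ Nat.card (Subgroup.center (Matrix.SpecialLinearGroup (Fin 2) F)) = 2 := by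
  constructor
  · let e : ZMod 3 ≃+* F := ZMod.ringEquivOfPrime F Nat.prime_three hF
    let E : Matrix.SpecialLinearGroup (Fin 2) (ZMod 3) ≃* Matrix.SpecialLinearGroup (Fin 2) F :=
      slMapEquiv e
    refine ⟨Cfsg.Agent.S2427.Q.map E.toMonoidHom, ?_, ?_, ?_⟩
    · exact Subgroup.Normal.map Cfsg.Agent.S2427.Q_normal E.toMonoidHom E.surjective
    · have := Subgroup.index_map_of_bijective (f := E.toMonoidHom) E.bijective Cfsg.Agent.S2427.Q
      rw [this]
      exact Cfsg.Agent.S2427.index_Q
    · have e1 : Cfsg.Agent.S2427.Q ≃* Cfsg.Agent.S2427.Q.map E.toMonoidHom :=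
        Subgroup.equivMapOfInjective _ E.toMonoidHom E.injective
      have e2 : QuaternionGroup 2 ≃* Cfsg.Agent.S2427.Q :=
        MonoidHom.ofInjective Cfsg.Agent.S2427.psi_injective
      exact ⟨(e2.trans e1).symm⟩
  · rw [card_center_SL 2 (by norm_num), hF]
    rfl

end Cfsg.Agent.S0257
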