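import Mathlib
import Cfsg.Statements.S0264
import Cfsg.Agent.Lib.Helper2.SLPerfect

set_option autoImplicit false
open Cfsg

namespace Cfsg.Agent.S0264

open Matrix Matrix.SpecialLinearGroup
open scoped commutatorElement MatrixGroups

variable {F : Type*} [Field F]

/-- the diagonal element `diag(a, 1)` of `GL₂` -/
def dg (a : F) (ha : a ≠ 0) : GL (Fin 2) F :=
  ⟨!![a, 0; 0, 1], !![a⁻¹, 0; 0, 1], by
    ext i j; fin_cases i <;> fin_cases j <;> simp [ha], by
    ext i j; fin_cases i <;> fin_cases j <;> simp [ha]⟩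

theorem t01_coe (b : F) :
    ((transvection (zero_ne_one : (0 : Fin 2) ≠ 1) b : SL(2, F)) : Matrix (Fin 2) (Fin 2) F) = !![1, b; 0, 1] := by
  ext i j; fin_cases i <;> fin_cases j <;> simp [transvection_coe]

theorem t10_coe (b : F) :
    ((transvection (one_ne_zero : (1 : Fin 2) ≠ 0) b : SL(2, F)) : Matrix (Fin 2) (Fin 2) F) = !![1, 0; b, 1] := by
  ext i j; fin_cases i <;> fin_cases j <;> simp [transvection_coe]

theorem comm_dg_01 (a : F) (ha : a ≠ 0) (b : F) :
    ⁅dg a ha, toGL (transvection (zero_ne_one : (0 : Fin 2) ≠ 1) b)⁆ =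
      toGL (transvection (zero_ne_one : (0 : Fin 2) ≠ 1) ((a - 1) * b)) := by
  rw [commutatorElement_def, ← map_inv, transvection_inv]
  apply Units.ext
  simp only [Units.val_mul, coe_GL_coe_matrix, t01_coe]
  simp only [dg, Units.inv_mk, Matrix.mul_fin_two]
  ext i j
  fin_cases i <;> fin_cases j <;> simp [ha] <;> ring

theorem comm_dg_10 (a : F) (ha : a ≠ 0) (b : F) :
    ⁅dg a ha, toGL (transvection (one_ne_zero : (1 : Fin 2) ≠ 0) b)⁆ =
      toGL (transvection (one_ne_zero : (1 : Fin 2) ≠ 0) ((a⁻¹ - 1) * b)) := by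
  rw [commutatorElement_def, ← map_inv, transvection_inv]
  apply Units.ext
  simp only [Units.val_mul, coe_GL_coe_matrix, t10_coe]
  simp only [dg, Units.inv_mk, Matrix.mul_fin_two]
  ext i j
  fin_cases i <;> fin_cases j <;> simp [ha] <;> ring

theorem transvection_mem (a : F) (ha0 : a ≠ 0) (ha1 : a ≠ 1) (i j : Fin 2) (h : i ≠ j) (c : F) :
    toGL (transvection h c) ∈ commutator (GL (Fin 2) F) := by
  fin_cases i <;> fin_cases j
  · exact absurd rfl h
  · have hne : a - 1 ≠ 0 := sub_ne_zero.mpr ha1
    have := comm_dg_01 a ha0 (c / (a - 1))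
    rw [mul_div_cancel₀ _ hne] at this
    change toGL (transvection (zero_ne_one : (0 : Fin 2) ≠ 1) c) ∈ _
    rw [← this]
    exact Subgroup.commutator_mem_commutator (Subgroup.mem_top _) (Subgroup.mem_top _)
  · have hne : a⁻¹ - 1 ≠ 0 := sub_ne_zero.mpr (by
      intro h1; apply ha1; rw [← inv_inv a, h1, inv_one])
    have := comm_dg_10 a ha0 (c / (a⁻¹ - 1))
    rw [mul_div_cancel₀ _ hne] at this
    change toGL (transvection (one_ne_zero : (1 : Fin 2) ≠ 0) c) ∈ _
    rw [← this]
    exact Subgroup.commutator_mem_commutator (Subgroup.mem_top _) (Subgroup.mem_top _)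
  · exact absurd rfl h

theorem toGL_mem_commutator (n : ℕ) (h : n = 2 → ∃ a : F, a ≠ 0 ∧ a ≠ 1)
    (s : SpecialLinearGroup (Fin n) F) : toGL s ∈ commutator (GL (Fin n) F) := by
  rcases lt_or_ge n 2 with h2 | h2
  · have : Subsingleton (Fin n) := by
      rw [← Fintype.card_le_one_iff_subsingleton]; simp; omega
    rw [Subsingleton.elim s 1, map_one]
    exact one_mem _
  rcases eq_or_lt_of_le h2 with h2 | h3
  · subst h2
    obtain ⟨a, ha0, ha1⟩ := h rfl
    exact SL2.transvection_induction (fun s => toGL s ∈ commutator (GL (Fin 2) F))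
      (fun i j hij c => transvection_mem a ha0 ha1 i j hij c)
      (fun A B hA hB => by simpa using mul_mem hA hB) s
  · have hs : s ∈ commutator (SpecialLinearGroup (Fin n) F) := by
      rw [Cfsg.Agent.Helper2.commutator_SL_eq_top (by simp only [Fintype.card_fin]; omega)]
      exact Subgroup.mem_top _
    have hmap : Subgroup.map (toGL : SpecialLinearGroup (Fin n) F →* GL (Fin n) F)
        (commutator (SpecialLinearGroup (Fin n) F)) ≤ commutator (GL (Fin n) F) := by
      rw [commutator_def, Subgroup.map_commutator, commutator_def]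
      exact Subgroup.commutator_mono le_top le_top
    exact hmap (Subgroup.mem_map_of_mem _ hs)

/-- GL_n(F)' = SL_n(F) (as the kernel of det), for every field F and every n, except n = 2 over the field of two elements. -/
theorem result {F : Type*} [Field F] (n : ℕ) (h : n = 2 → ∃ a : F, a ≠ 0 ∧ a ≠ 1) : commutator (Matrix.GeneralLinearGroup (Fin n) F) = (Matrix.GeneralLinearGroup.det : Matrix.GeneralLinearGroup (Fin n) F →* Fˣ).ker := by
  apply le_antisymm
  · exact Abelianization.commutator_subset_ker _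
  · intro g hg
    rw [MonoidHom.mem_ker] at hg
    have hdet : (g : Matrix (Fin n) (Fin n) F).det = 1 := by
      have := congrArg Units.val hg
      simpa using this
    have : g = toGL (⟨(g : Matrix (Fin n) (Fin n) F), hdet⟩ : SpecialLinearGroup (Fin n) F) := by
      apply Units.ext
      rfl
    rw [this]
    exact toGL_mem_commutator n h _

end Cfsg.Agent.S0264
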