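import Mathlib
import Cfsg.Statements.S0266

set_option autoImplicit false
open Cfsg

namespace Cfsg.Agent.S0266

open Matrix Projectivization
open scoped MatrixGroups

variable {F : Type*} [Field F]

theorem mk_eq_mk_iff_det (u v : Fin 2 → F) (hu : u ≠ 0) (hv : v ≠ 0) :
    Projectivization.mk F u hu = Projectivization.mk F v hv ↔ u 0 * v 1 - u 1 * v 0 = 0 := by
  rw [Projectivization.mk_eq_mk_iff']
  constructor
  · rintro ⟨a, rfl⟩
    simp only [Pi.smul_apply, smul_eq_mul]
    ring
  · intro h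
    by_cases h0 : v 0 = 0
    · have h1 : v 1 ≠ 0 := by
        intro h1
        apply hv
        ext i; fin_cases i <;> simp [h0, h1]
      refine ⟨u 1 / v 1, ?_⟩
      ext i
      fin_cases i
      · simp only [Fin.zero_eta, Pi.smul_apply, smul_eq_mul, h0, mul_zero]
        rw [h0] at h
        have : u 0 * v 1 = 0 := by linear_combination h
        rcases mul_eq_zero.mp this with h2 | h2
        · exact h2.symm
        · exact absurd h2 h1
      · simp only [Fin.mk_one, Pi.smul_apply, smul_eq_mul]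
        field_simp
    · refine ⟨u 0 / v 0, ?_⟩
      ext i
      fin_cases i
      · simp only [Fin.zero_eta, Pi.smul_apply, smul_eq_mul]
        field_simp
      · simp only [Fin.mk_one, Pi.smul_apply, smul_eq_mul]
        field_simp
        linear_combination h

theorem v10_ne : (![1, 0] : Fin 2 → F) ≠ 0 := by
  intro h; simpa using congrFun h 0

theorem v01_ne : (![0, 1] : Fin 2 → F) ≠ 0 := by
  intro h; simpa using congrFun h 1

theorem v11_ne : (![1, 1] : Fin 2 → F) ≠ 0 := by
  intro h; simpa using congrFun h 0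

/-- the three standard points -/
noncomputable def pInf : Projectivization F (Fin 2 → F) := Projectivization.mk F ![1, 0] v10_ne
noncomputable def pZero : Projectivization F (Fin 2 → F) := Projectivization.mk F ![0, 1] v01_ne
noncomputable def pOne : Projectivization F (Fin 2 → F) := Projectivization.mk F ![1, 1] v11_ne

theorem gl_smul (g : GL (Fin 2) F) (v : Fin 2 → F) : g • v = g.1 *ᵥ v := rfl

theorem exists_map_std (a b c : Projectivization F (Fin 2 → F)) (hab : a ≠ b) (hac : a ≠ c)
    (hbc : b ≠ c) : ∃ g : GL (Fin 2) F, (ProjGenLinGroup.mk g) • (pInf : Projectivization F (Fin 2 → F)) = a ∧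
      (ProjGenLinGroup.mk g) • (pZero : Projectivization F (Fin 2 → F)) = b ∧
      (ProjGenLinGroup.mk g) • (pOne : Projectivization F (Fin 2 → F)) = c := by
  induction a using Projectivization.ind with | _ u hu =>
  induction b using Projectivization.ind with | _ v hv =>
  induction c using Projectivization.ind with | _ w hw =>
  rw [Ne, mk_eq_mk_iff_det] at hab hac hbc
  set D := u 0 * v 1 - u 1 * v 0 with hD
  set α := (w 0 * v 1 - w 1 * v 0) / D with hα
  set β := (u 0 * w 1 - u 1 * w 0) / D with hβ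
  have hα0 : α ≠ 0 := by
    rw [hα]
    refine div_ne_zero ?_ hab
    intro h; apply hbc; linear_combination -h
  have hβ0 : β ≠ 0 := div_ne_zero hac hab
  have hdet : (!![α * u 0, β * v 0; α * u 1, β * v 1] : Matrix (Fin 2) (Fin 2) F).det ≠ 0 := by
    rw [Matrix.det_fin_two_of]
    have : α * u 0 * (β * v 1) - β * v 0 * (α * u 1) = α * β * D := by rw [hD]; ring
    rw [this]
    exact mul_ne_zero (mul_ne_zero hα0 hβ0) hab
  refine ⟨Matrix.GeneralLinearGroup.mkOfDetNeZero _ hdet, ?_, ?_, ?_⟩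
  · rw [pInf, PGL.mk_smul_mk, mk_eq_mk_iff']
    refine ⟨α, ?_⟩
    rw [gl_smul]
    ext i; fin_cases i <;> simp [Matrix.GeneralLinearGroup.mkOfDetNeZero, Matrix.mulVec, dotProduct]
  · rw [pZero, PGL.mk_smul_mk, mk_eq_mk_iff']
    refine ⟨β, ?_⟩
    rw [gl_smul]
    ext i; fin_cases i <;> simp [Matrix.GeneralLinearGroup.mkOfDetNeZero, Matrix.mulVec, dotProduct]
  · rw [pOne, PGL.mk_smul_mk, mk_eq_mk_iff']
    refine ⟨1, ?_⟩
    rw [gl_smul, one_smul]
    ext i; fin_cases i
    · simp [Matrix.GeneralLinearGroup.mkOfDetNeZero, Matrix.mulVec, dotProduct]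
      rw [hα, hβ]; field_simp; rw [hD]; ring
    · simp [Matrix.GeneralLinearGroup.mkOfDetNeZero, Matrix.mulVec, dotProduct]
      rw [hα, hβ]; field_simp; rw [hD]; ring

theorem eq_one_of_fix_std (g : GL (Fin 2) F)
    (h1 : (ProjGenLinGroup.mk g) • (pInf : Projectivization F (Fin 2 → F)) = pInf)
    (h2 : (ProjGenLinGroup.mk g) • (pZero : Projectivization F (Fin 2 → F)) = pZero)
    (h3 : (ProjGenLinGroup.mk g) • (pOne : Projectivization F (Fin 2 → F)) = pOne) :
    ProjGenLinGroup.mk g = 1 := by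
  rw [pInf, PGL.mk_smul_mk, mk_eq_mk_iff_det, gl_smul] at h1
  rw [pZero, PGL.mk_smul_mk, mk_eq_mk_iff_det, gl_smul] at h2
  rw [pOne, PGL.mk_smul_mk, mk_eq_mk_iff_det, gl_smul] at h3
  simp [Matrix.mulVec, dotProduct] at h1 h2 h3
  have h10 : g.1 1 0 = 0 := h1
  have h01 : g.1 0 1 = 0 := h2
  have h00 : g.1 0 0 = g.1 1 1 := by
    rw [h10, h01] at h3
    linear_combination h3
  have hdet : g.1.det ≠ 0 := by
    exact (Matrix.isUnit_iff_isUnit_det _).mp (by exact ⟨g, rfl⟩) |>.ne_zero
  have h00ne : g.1 0 0 ≠ 0 := by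
    intro h
    apply hdet
    rw [Matrix.det_fin_two, h, h01]; ring
  rw [ProjGenLinGroup.mk_eq_one, Matrix.GeneralLinearGroup.center_eq_range_scalar]
  refine ⟨Units.mk0 _ h00ne, ?_⟩
  apply Units.ext
  ext i j
  fin_cases i <;> fin_cases j <;> simp [h10, h01, h00]


theorem result {F : Type*} [Field F] : MulAction.IsMultiplyPretransitive (Matrix.ProjGenLinGroup (Fin 2) F) (Projectivization F (Fin 2 → F)) 3 ∧ ∀ (g : Matrix.ProjGenLinGroup (Fin 2) F) (a b c : Projectivization F (Fin 2 → F)), a ≠ b → a ≠ c → b ≠ c → g • a = a → g • b = b → g • c = c → g = 1 := by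
  constructor
  · refine ⟨fun x y => ?_⟩
    have hx : ∀ i j : Fin 3, i ≠ j → x i ≠ x j := fun i j hij h => hij (x.injective h)
    have hy : ∀ i j : Fin 3, i ≠ j → y i ≠ y j := fun i j hij h => hij (y.injective h)
    obtain ⟨gx, gx0, gx1, gx2⟩ := exists_map_std (x 0) (x 1) (x 2) (hx _ _ (by decide))
      (hx _ _ (by decide)) (hx _ _ (by decide))
    obtain ⟨gy, gy0, gy1, gy2⟩ := exists_map_std (y 0) (y 1) (y 2) (hy _ _ (by decide))
      (hy _ _ (by decide)) (hy _ _ (by decide))
    refine ⟨ProjGenLinGroup.mk gy * (ProjGenLinGroup.mk gx)⁻¹, ?_⟩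
    ext i
    rw [Function.Embedding.smul_apply]
    fin_cases i
    · change _ • x 0 = y 0
      rw [← gx0, mul_smul, inv_smul_smul, gy0]
    · change _ • x 1 = y 1
      rw [← gx1, mul_smul, inv_smul_smul, gy1]
    · change _ • x 2 = y 2
      rw [← gx2, mul_smul, inv_smul_smul, gy2]
  · intro g a b c hab hac hbc ha hb hc
    obtain ⟨h, h0, h1, h2⟩ := exists_map_std a b c hab hac hbc
    set y := ProjGenLinGroup.mk h with hy
    obtain ⟨g', hg'⟩ := ProjGenLinGroup.mk_surjective (y⁻¹ * g * y)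
    have key : ProjGenLinGroup.mk g' = 1 := by
      apply eq_one_of_fix_std
      · rw [hg', mul_smul, mul_smul, h0, ha, ← h0, inv_smul_smul]
      · rw [hg', mul_smul, mul_smul, h1, hb, ← h1, inv_smul_smul]
      · rw [hg', mul_smul, mul_smul, h2, hc, ← h2, inv_smul_smul]
    rw [hg'] at key
    have : g = y * (y⁻¹ * g * y) * y⁻¹ := by group
    rw [this, key]
    group

end Cfsg.Agent.S0266
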