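import Mathlib
import Cfsg.Statements.S0267
import Cfsg.Agent.S0266

set_option autoImplicit false
open Cfsg

namespace Cfsg.Agent.S0267

open Matrix Projectivization
open scoped MatrixGroups
open Cfsg.Agent.S0266

variable {F : Type*} [Field F]

theorem sl_smul_mk (g : Matrix.SpecialLinearGroup (Fin 2) F) (v : Fin 2 → F) (hv : v ≠ 0) :
    g • Projectivization.mk F v hv = Projectivization.mk F (g.1 *ᵥ v)
      ((smul_ne_zero_iff_ne g).mpr hv) := rfl

/-- if every element is a square, every projectivity is induced by an element of `SL₂` -/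
theorem exists_sl_of_gl (hsq : ∀ a : F, IsSquare a) (g : GL (Fin 2) F) :
    ∃ g' : Matrix.SpecialLinearGroup (Fin 2) F, ∀ p : Projectivization F (Fin 2 → F),
      g' • p = (ProjGenLinGroup.mk g) • p := by
  have hdet : g.1.det ≠ 0 :=
    ((Matrix.isUnit_iff_isUnit_det _).mp ⟨g, rfl⟩).ne_zero
  obtain ⟨s, hs⟩ := hsq (g.1.det)⁻¹
  have hs0 : s ≠ 0 := by
    intro h
    rw [h, mul_zero] at hs
    exact inv_ne_zero hdet hs
  have hd1 : (s • g.1).det = 1 := by
    rw [Matrix.det_smul, Fintype.card_fin, pow_two, ← hs, inv_mul_cancel₀ hdet]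
  obtain ⟨g', hg'⟩ : ∃ g' : Matrix.SpecialLinearGroup (Fin 2) F, g'.1 = s • g.1 :=
    ⟨⟨_, hd1⟩, rfl⟩
  refine ⟨g', ?_⟩
  · intro p
    induction p using Projectivization.ind with | _ v hv =>
    rw [sl_smul_mk, PGL.mk_smul_mk, mk_eq_mk_iff']
    refine ⟨s, ?_⟩
    rw [gl_smul, hg', Matrix.smul_mulVec]

theorem ne_of_det_ne (u v : Fin 2 → F) (hu : u ≠ 0) (hv : v ≠ 0)
    (h : u 0 * v 1 - u 1 * v 0 ≠ 0) :
    Projectivization.mk F u hu ≠ Projectivization.mk F v hv := by
  intro h'
  exact h ((mk_eq_mk_iff_det u v hu hv).mp h')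

theorem result {F : Type*} [Field F] [Fintype F] : MulAction.IsMultiplyPretransitive (Matrix.SpecialLinearGroup (Fin 2) F) (Projectivization F (Fin 2 → F)) 3 ↔ ringChar F = 2 := by
  constructor
  · intro h3
    by_contra hchar
    obtain ⟨n, hn⟩ := FiniteField.exists_nonsquare hchar
    have hn0 : n ≠ 0 := by
      rintro rfl
      exact hn ⟨0, by simp⟩
    have vn_ne : (![n, 1] : Fin 2 → F) ≠ 0 := by
      intro h; simpa using congrFun h 1
    have h01 : (pInf : Projectivization F (Fin 2 → F)) ≠ pZero :=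
      ne_of_det_ne _ _ _ _ (by simp)
    have h02 : (pInf : Projectivization F (Fin 2 → F)) ≠ pOne :=
      ne_of_det_ne _ _ _ _ (by simp)
    have h12 : (pZero : Projectivization F (Fin 2 → F)) ≠ pOne :=
      ne_of_det_ne _ _ _ _ (by simp)
    have h02' : (pInf : Projectivization F (Fin 2 → F)) ≠ Projectivization.mk F ![n, 1] vn_ne :=
      ne_of_det_ne _ _ _ _ (by simp)
    have h12' : (pZero : Projectivization F (Fin 2 → F)) ≠ Projectivization.mk F ![n, 1] vn_ne :=
      ne_of_det_ne _ _ _ _ (by simpa using hn0)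
    have inj3 : ∀ a b c : Projectivization F (Fin 2 → F), a ≠ b → a ≠ c → b ≠ c →
        Function.Injective ![a, b, c] := by
      intro a b c hab hac hbc i j hij
      fin_cases i <;> fin_cases j <;> simp at hij <;> first | rfl | (exfalso; tauto)
    let x : Fin 3 ↪ Projectivization F (Fin 2 → F) := ⟨![pInf, pZero, pOne], inj3 _ _ _ h01 h02 h12⟩
    let y : Fin 3 ↪ Projectivization F (Fin 2 → F) :=
      ⟨![pInf, pZero, Projectivization.mk F ![n, 1] vn_ne], inj3 _ _ _ h01 h02' h12'⟩
    obtain ⟨g, hg⟩ := h3.exists_smul_eq x y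
    have e0 : g • (pInf : Projectivization F (Fin 2 → F)) = pInf := by
      have := congrArg (fun e : Fin 3 ↪ Projectivization F (Fin 2 → F) => e 0) hg
      simpa [x, y] using this
    have e1 : g • (pZero : Projectivization F (Fin 2 → F)) = pZero := by
      have := congrArg (fun e : Fin 3 ↪ Projectivization F (Fin 2 → F) => e 1) hg
      simpa [x, y] using this
    have e2 : g • (pOne : Projectivization F (Fin 2 → F)) = Projectivization.mk F ![n, 1] vn_ne := by
      have := congrArg (fun e : Fin 3 ↪ Projectivization F (Fin 2 → F) => e 2) hg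
      simpa [x, y] using this
    rw [pInf, sl_smul_mk, mk_eq_mk_iff_det] at e0
    rw [pZero, sl_smul_mk, mk_eq_mk_iff_det] at e1
    rw [pOne, sl_smul_mk, mk_eq_mk_iff_det] at e2
    simp [Matrix.mulVec, dotProduct] at e0 e1 e2
    have hdet : g.1 0 0 * g.1 1 1 - g.1 0 1 * g.1 1 0 = 1 := by
      have := g.2
      rwa [Matrix.det_fin_two] at this
    have h10 : g.1 1 0 = 0 := e0
    have h01' : g.1 0 1 = 0 := e1
    rw [h10, h01'] at e2
    rw [h10, h01'] at hdet
    apply hn
    refine ⟨g.1 0 0, ?_⟩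
    have h5 : g.1 0 0 * g.1 1 1 = 1 := by linear_combination hdet
    linear_combination (-n) * h5 - g.1 0 0 * e2
  · intro hchar
    have hsq := FiniteField.isSquare_of_char_two hchar
    refine ⟨fun x y => ?_⟩
    have hx : ∀ i j : Fin 3, i ≠ j → x i ≠ x j := fun i j hij h => hij (x.injective h)
    have hy : ∀ i j : Fin 3, i ≠ j → y i ≠ y j := fun i j hij h => hij (y.injective h)
    obtain ⟨gx, gx0, gx1, gx2⟩ := exists_map_std (x 0) (x 1) (x 2) (hx _ _ (by decide))
      (hx _ _ (by decide)) (hx _ _ (by decide))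
    obtain ⟨gy, gy0, gy1, gy2⟩ := exists_map_std (y 0) (y 1) (y 2) (hy _ _ (by decide))
      (hy _ _ (by decide)) (hy _ _ (by decide))
    obtain ⟨sx, hsx⟩ := exists_sl_of_gl hsq gx
    obtain ⟨sy, hsy⟩ := exists_sl_of_gl hsq gy
    refine ⟨sy * sx⁻¹, ?_⟩
    ext i
    rw [Function.Embedding.smul_apply]
    fin_cases i
    · change _ • x 0 = y 0
      rw [← gx0, ← hsx, mul_smul, inv_smul_smul, hsy, gy0]
    · change _ • x 1 = y 1
      rw [← gx1, ← hsx, mul_smul, inv_smul_smul, hsy, gy1]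
    · change _ • x 2 = y 2
      rw [← gx2, ← hsx, mul_smul, inv_smul_smul, hsy, gy2]

end Cfsg.Agent.S0267
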