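import Mathlib
import Cfsg.Statements.S0276
import Cfsg.Agent.Lib.Helper2.CardSL
import Cfsg.Agent.Lib.Helper2.SylowSub
import Cfsg.Agent.S0268

set_option autoImplicit false
open Cfsg

namespace Cfsg.Agent.S0276

open Matrix Cfsg.Agent.Helper2

variable {F : Type*} [Field F]

/-- an element of `SL₂` whose fourth power is `-1` has trace a square root of `2` -/
theorem trace_sq_of_pow_four (g : SpecialLinearGroup (Fin 2) F)
    (h4 : (g : Matrix (Fin 2) (Fin 2) F) ^ 4 = -1) :
    (g.1 0 0 + g.1 1 1) * (g.1 0 0 + g.1 1 1) = 2 := by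
  have hdet := g.det_coe
  rw [Matrix.det_fin_two] at hdet
  have E00 := congrFun (congrFun h4 0) 0
  have E11 := congrFun (congrFun h4 1) 1
  simp only [pow_succ, pow_zero, one_mul, Matrix.mul_apply, Fin.sum_univ_two, Matrix.neg_apply,
    Matrix.one_apply_eq] at E00 E11
  have key : ((g.1 0 0 + g.1 1 1) ^ 2 - 2) ^ 2 = 0 := by
    linear_combination E00 + E11 +
      (4 * (g.1 0 0 + g.1 1 1) ^ 2 - 2 * (g.1 0 0 * g.1 1 1 - g.1 0 1 * g.1 1 0 + 1)) * hdet
  have := pow_eq_zero_iff (n := 2) (by norm_num) |>.mp key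
  linear_combination this


theorem sq_eq_one_of_pow_four [Fintype F] (hq : Fintype.card F % 8 = 3 ∨ Fintype.card F % 8 = 5)
    (x : ProjectiveSpecialLinearGroup (Fin 2) F) (hx : x ^ 4 = 1) : x ^ 2 = 1 := by
  have hodd : Odd (Fintype.card F) := by
    rw [Nat.odd_iff]; omega
  have hnsq : ¬ IsSquare (2 : F) := by
    rw [FiniteField.isSquare_two_iff]
    omega
  obtain ⟨g, rfl⟩ := QuotientGroup.mk_surjective x
  rw [← QuotientGroup.mk_pow, QuotientGroup.eq_one_iff] at hx ⊢
  rw [Matrix.SpecialLinearGroup.mem_center_iff] at hx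
  obtain ⟨r, hr, hrg⟩ := hx
  simp only [Fintype.card_fin] at hr
  have hr' : r = 1 ∨ r = -1 := by
    have : r * r = 1 := by rw [← sq]; exact hr
    exact mul_self_eq_one_iff.mp this
  have hneg : (diagonal fun _ : Fin 2 => (-1 : F)) = -1 := by
    ext i j; fin_cases i <;> fin_cases j <;> simp
  have hcoe : ((g ^ 4 : SpecialLinearGroup (Fin 2) F) : Matrix (Fin 2) (Fin 2) F) =
      (g : Matrix (Fin 2) (Fin 2) F) ^ 4 := Matrix.SpecialLinearGroup.coe_pow g 4
  rcases hr' with rfl | rfl
  · -- g ^ 4 = 1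
    have h1 : g ^ 4 = 1 := by
      apply Subtype.ext
      rw [← hrg]; simp
    by_cases h2 : g ^ 2 = 1
    · rw [h2]; exact Subgroup.one_mem _
    · have h3 : g ^ 2 * g ^ 2 = 1 := by rw [← pow_add]; exact h1
      have := Cfsg.Agent.S0268.result hodd (g ^ 2) h2 h3
      rw [Matrix.SpecialLinearGroup.mem_center_iff]
      refine ⟨-1, by simp, ?_⟩
      rw [this]
      simp [hneg]
  · -- g ^ 4 = -1
    exfalso
    apply hnsq
    have h4 : (g : Matrix (Fin 2) (Fin 2) F) ^ 4 = -1 := by
      rw [← hcoe, ← hrg]; simp [hneg]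
    exact ⟨_, (trace_sq_of_pow_four g h4).symm⟩

/-- For q = 3 or 5 mod 8 the Sylow 2-subgroups of PSL_2(q) are elementary abelian of order 4. -/
theorem result {F : Type*} [Field F] [Fintype F] {q : ℕ} (hF : Fintype.card F = q) (hq : q % 8 = 3 ∨ q % 8 = 5) (P : Sylow 2 (Matrix.ProjectiveSpecialLinearGroup (Fin 2) F)) : IsKleinFour (P : Subgroup (Matrix.ProjectiveSpecialLinearGroup (Fin 2) F)) := by
  have hcard := card_PSL_mul (F := F) 2 (by norm_num)
  rw [hF, Fin.prod_univ_two] at hcard
  simp only [Fin.val_zero, Fin.val_one, pow_zero, pow_one] at hcard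
  have hP4 : Nat.card P = 4 := by
    obtain ⟨k, m, hk, hm, hm2⟩ : ∃ k m : ℕ, (q = 8 * k + 3 ∨ q = 8 * k + 5) ∧
        (q + 1) * q * (q - 1) = 8 * m ∧ ¬ 2 ∣ m := by
      rcases hq with h | h
      · refine ⟨q / 8, (2 * (q / 8) + 1) * (8 * (q / 8) + 3) * (4 * (q / 8) + 1), Or.inl (by omega), ?_, ?_⟩
        · have hq' : q = 8 * (q / 8) + 3 := by omega
          generalize q / 8 = k at hq'
          subst hq'
          have : 8 * k + 3 - 1 = 8 * k + 2 := by omega
          rw [this]; ring
        · intro hdvd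
          rcases (Nat.Prime.dvd_mul Nat.prime_two).mp hdvd with h1 | h1
          · rcases (Nat.Prime.dvd_mul Nat.prime_two).mp h1 with h2 | h2 <;> omega
          · omega
      · refine ⟨q / 8, (4 * (q / 8) + 3) * (8 * (q / 8) + 5) * (2 * (q / 8) + 1), Or.inr (by omega), ?_, ?_⟩
        · have hq' : q = 8 * (q / 8) + 5 := by omega
          generalize q / 8 = k at hq'
          subst hq'
          have : 8 * k + 5 - 1 = 8 * k + 4 := by omega
          rw [this]; ring
        · intro hdvd
          rcases (Nat.Prime.dvd_mul Nat.prime_two).mp hdvd with h1 | h1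
          · rcases (Nat.Prime.dvd_mul Nat.prime_two).mp h1 with h2 | h2 <;> omega
          · omega
    have hq3 : 3 ≤ q := by omega
    have hgcd : Nat.gcd 2 (q - 1) = 2 := Nat.gcd_eq_left (by omega)
    have h1 : q ^ 2 - 1 = (q - 1) * (q + 1) := by
      obtain ⟨r, rfl⟩ : ∃ r, q = r + 1 := ⟨q - 1, by omega⟩
      rw [Nat.sub_eq_iff_eq_add (Nat.one_le_pow _ _ (by omega))]
      simp only [Nat.add_sub_cancel]; ring
    have h2 : q ^ 2 - q = q * (q - 1) := by
      obtain ⟨r, rfl⟩ : ∃ r, q = r + 1 := ⟨q - 1, by omega⟩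
      rw [Nat.sub_eq_iff_eq_add (by nlinarith)]
      simp only [Nat.add_sub_cancel]; ring
    rw [hgcd, h1, h2] at hcard
    have hpos : 0 < q - 1 := by omega
    have h3 : 2 * Nat.card (ProjectiveSpecialLinearGroup (Fin 2) F) = (q + 1) * q * (q - 1) := by
      have : (q - 1) * (2 * Nat.card (ProjectiveSpecialLinearGroup (Fin 2) F)) =
          (q - 1) * ((q + 1) * q * (q - 1)) := by
        calc (q - 1) * (2 * Nat.card (ProjectiveSpecialLinearGroup (Fin 2) F))
            = 2 * ((q - 1) * Nat.card (ProjectiveSpecialLinearGroup (Fin 2) F)) := by ring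
          _ = (q - 1) * (q + 1) * (q * (q - 1)) := hcard
          _ = _ := by ring
      exact Nat.eq_of_mul_eq_mul_left hpos this
    rw [hm] at h3
    have h4 : Nat.card (ProjectiveSpecialLinearGroup (Fin 2) F) = 2 ^ 2 * m := by omega
    have := sylow_card_of_card_eq (p := 2) (a := 2) (m := m) P h4 hm2
    simpa using this
  have hq' : Fintype.card F % 8 = 3 ∨ Fintype.card F % 8 = 5 := by rw [hF]; exact hq
  have hexp2 : Monoid.exponent (P : Subgroup (ProjectiveSpecialLinearGroup (Fin 2) F)) ∣ 2 := by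
    apply Monoid.exponent_dvd_of_forall_pow_eq_one
    intro y
    have hy4 : y ^ 4 = 1 := by
      have := pow_card_eq_one' (G := (P : Subgroup (ProjectiveSpecialLinearGroup (Fin 2) F))) (x := y)
      have hP4' : Nat.card (P : Subgroup (ProjectiveSpecialLinearGroup (Fin 2) F)) = 4 := hP4
      rwa [hP4'] at this
    have hy4' : (y : ProjectiveSpecialLinearGroup (Fin 2) F) ^ 4 = 1 := by
      have := congrArg Subtype.val hy4
      simpa using this
    have := sq_eq_one_of_pow_four hq' _ hy4'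
    apply Subtype.ext
    simpa using this
  refine ⟨hP4, ?_⟩
  rcases (Nat.dvd_prime Nat.prime_two).mp hexp2 with h1 | h2
  · exfalso
    have hsub : Subsingleton (P : Subgroup (ProjectiveSpecialLinearGroup (Fin 2) F)) :=
      Monoid.exp_eq_one_iff.mp h1
    have hP4' : Nat.card (P : Subgroup (ProjectiveSpecialLinearGroup (Fin 2) F)) = 4 := hP4
    rw [Nat.card_unique] at hP4'
    omega
  · exact h2

end Cfsg.Agent.S0276
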