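import Mathlib
import Cfsg.Statements.S0281
import Cfsg.Agent.Lib.Helper11.Unitary3
import Cfsg.Agent.Lib.Helper12.SL2Upper

set_option autoImplicit false
open Cfsg

namespace Cfsg.Agent.S0281

open Cfsg.Agent.Helper11.Herm Matrix

/-- a field with `q` elements embeds in a field with `q^2` elements -/
theorem exists_ringHom_of_card {F K : Type*} [Field F] [Fintype F] [Field K] [Fintype K] {q : ℕ}
    (hF : Fintype.card F = q ^ 2) (hK : Fintype.card K = q) : Nonempty (K →+* F) := by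
  obtain ⟨n, hp, hn⟩ := FiniteField.card F (ringChar F)
  obtain ⟨m, hp', hm⟩ := FiniteField.card K (ringChar K)
  set p := ringChar F with hpdef
  have hpp' : ringChar K = p := by
    have h1 : ringChar K ∣ q := by rw [← hK, hm]; exact dvd_pow_self _ m.ne_zero
    have h2 : ringChar K ∣ p ^ (n : ℕ) := by
      rw [← hn, hF]; exact h1.trans (Dvd.intro_left q (by ring))
    exact (Nat.prime_dvd_prime_iff_eq hp' hp).1 (hp'.dvd_of_dvd_pow h2)
  haveI : Fact p.Prime := ⟨hp⟩
  haveI : CharP F p := ringChar.charP F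
  haveI : CharP K p := by rw [← hpp']; exact ringChar.charP K
  letI : Algebra (ZMod p) K := ZMod.algebra K p
  letI : Algebra (ZMod p) F := ZMod.algebra F p
  have h1 : p ^ Module.finrank (ZMod p) K = q := by rw [FiniteField.pow_finrank_eq_card, hK]
  have h2 : p ^ Module.finrank (ZMod p) F = q ^ 2 := by rw [FiniteField.pow_finrank_eq_card, hF]
  have h3 : Module.finrank (ZMod p) F = Module.finrank (ZMod p) K * 2 := by
    apply Nat.pow_right_injective hp.two_le
    simp only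
    rw [h2, pow_mul, h1]
  obtain ⟨f⟩ := FiniteField.nonempty_algHom_of_finrank_dvd (F := ZMod p) (K := K) (L := F)
    (h3 ▸ dvd_mul_right _ _)
  exact ⟨f.toRingHom⟩

section mats

variable {F : Type*} [Field F]

/-- the standard alternating matrix -/
def J2 (F : Type*) [Field F] : Matrix (Fin 2) (Fin 2) F := !![0, 1; -1, 0]

theorem transpose_J_mul (A : Matrix (Fin 2) (Fin 2) F) : Aᵀ * J2 F * A = A.det • J2 F := by
  ext i j
  fin_cases i <;> fin_cases j <;>
    simp [J2, Matrix.mul_apply, Fin.sum_univ_two, Matrix.det_fin_two] <;> ring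

theorem isU_conj (φ : F →+* F) (S Sinv A : Matrix (Fin 2) (Fin 2) F) (hS1 : S * Sinv = 1)
    (lam : F) (hS : Sᵀ * S.map φ = lam • J2 F) (hA : A.det = 1) (hAφ : A.map φ = A) :
    IsU φ (S * A * Sinv) := by
  unfold IsU
  have key : Aᵀ * (Sᵀ * S.map φ) * A = Sᵀ * S.map φ := by
    rw [hS, Matrix.mul_smul, Matrix.smul_mul, transpose_J_mul, hA, one_smul]
  calc (S * A * Sinv)ᵀ * (S * A * Sinv).map φ
      = Sinvᵀ * (Aᵀ * (Sᵀ * S.map φ) * A) * Sinv.map φ := by
        rw [Matrix.transpose_mul, Matrix.transpose_mul, Matrix.map_mul, Matrix.map_mul, hAφ]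
        simp only [Matrix.mul_assoc]
    _ = Sinvᵀ * (Sᵀ * S.map φ) * Sinv.map φ := by rw [key]
    _ = (S * Sinv)ᵀ * (S * Sinv).map φ := by
        rw [Matrix.transpose_mul, Matrix.map_mul]
        simp only [Matrix.mul_assoc]
    _ = 1 := by
        rw [hS1, Matrix.transpose_one, Matrix.map_one _ (map_zero φ) (map_one φ), Matrix.one_mul]

end mats

section main

variable {F K : Type*} [Field F] [Fintype F] [Field K] [Fintype K] {q : ℕ}

theorem exists_not_fixed (hF : Fintype.card F = q ^ 2) : ∃ x : F, x ^ q ≠ x := by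
  have hq := two_le_q hF
  obtain ⟨ζ, hζ⟩ := IsCyclic.exists_generator (α := Fˣ)
  refine ⟨(ζ : F), ?_⟩
  intro h1
  have h3 : ζ ^ (q - 1) = 1 := by
    apply Units.ext
    rw [Units.val_pow_eq_pow_val, Units.val_one]
    have : (ζ : F) ^ (q - 1) * (ζ : F) = 1 * (ζ : F) := by
      rw [← pow_succ, Nat.sub_add_cancel (by omega), h1, one_mul]
    exact mul_right_cancel₀ ζ.ne_zero this
  have h4 := orderOf_dvd_of_pow_eq_one h3
  rw [orderOf_eq_card_of_forall_mem_zpowers hζ, card_units_eq hF] at h4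
  have h5 := Nat.le_of_dvd (by omega) h4
  have h6 : q < q ^ 2 := by nlinarith
  omega

/-- the conjugating matrix -/
theorem exists_S (hF : Fintype.card F = q ^ 2) (φ : F →+* F) (hφ : ∀ x, φ x = x ^ q) :
    ∃ (S : Matrix (Fin 2) (Fin 2) F) (lam : F), S.det ≠ 0 ∧ Sᵀ * S.map φ = lam • J2 F := by
  obtain ⟨b, hb0, hb⟩ := exists_norm_eq hF (-1) (neg_ne_zero.2 one_ne_zero)
    (by rw [neg_pow_q hF, one_pow])
  obtain ⟨μ, hμ0, hμ, hμ2⟩ := exists_norm_one_ne_inv hF
  have hμ1 : μ ≠ 1 := by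
    rintro rfl
    exact hμ2 (by simp)
  obtain ⟨ν, hν0, hνq⟩ : ∃ ν : F, ν ≠ 0 ∧ φ ν = -ν := by
    obtain ⟨x, hx⟩ := exists_not_fixed hF
    refine ⟨x - x ^ q, ?_, ?_⟩
    · intro h
      exact hx (sub_eq_zero.1 h).symm
    · rw [hφ, sub_pow_q hF, pow_q_pow_q hF]
      ring
  have h1μ : 1 - μ ≠ 0 := by
    intro h
    exact hμ1 (sub_eq_zero.1 h).symm
  obtain ⟨c, hcμ⟩ : ∃ c : F, c * (1 - μ) = ν := ⟨ν / (1 - μ), div_mul_cancel₀ _ h1μ⟩
  have hbφ : b * φ b = -1 := by rw [hφ]; exact hb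
  have hμφ : μ * φ μ = 1 := by rw [hφ]; exact hμ
  have hcφ : φ c * (1 - φ μ) = -ν := by
    have : φ (c * (1 - μ)) = φ ν := by rw [hcμ]
    rw [map_mul, map_sub, map_one, hνq] at this
    exact this
  refine ⟨!![1, c; b, c * μ * b], -ν, ?_, ?_⟩
  · rw [Matrix.det_fin_two_of]
    have : 1 * (c * μ * b) - c * b = -(c * (1 - μ)) * b := by ring
    rw [this, hcμ]
    exact mul_ne_zero (neg_ne_zero.2 hν0) hb0
  · ext i j
    fin_cases i <;> fin_cases j
    · simp [J2, Matrix.mul_apply, Fin.sum_univ_two]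
      linear_combination hbφ
    · simp [J2, Matrix.mul_apply, Fin.sum_univ_two]
      linear_combination hcφ + (φ c * φ μ) * hbφ
    · simp [J2, Matrix.mul_apply, Fin.sum_univ_two]
      linear_combination hcμ + (c * μ) * hbφ
    · simp [J2, Matrix.mul_apply, Fin.sum_univ_two]
      linear_combination (c * φ c * μ * φ μ) * hbφ - (c * φ c) * hμφ

theorem card_SU2 (hF : Fintype.card F = q ^ 2) : Nat.card (Cfsg.SU 2 F q) = q * (q ^ 2 - 1) := by
  have hq := two_le_q hF
  have h1 := card_GU_eq_SU hF 2 (by omega)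
  rw [card_GU hF 2] at h1
  have h2 : guOrder q 2 = (q + 1) * (q * (q ^ 2 - 1)) := by
    unfold guOrder
    rw [Finset.prod_range_succ, Finset.prod_range_one]
    simp
    ring
  rw [h2] at h1
  exact Nat.eq_of_mul_eq_mul_left (by omega) h1

theorem main (hF : Fintype.card F = q ^ 2) (hK : Fintype.card K = q) :
    Nonempty (Cfsg.SU 2 F q ≃* Matrix.SpecialLinearGroup (Fin 2) K) := by
  classical
  obtain ⟨φ, hφ⟩ := exists_frob hF
  obtain ⟨ι⟩ := exists_ringHom_of_card hF hK
  obtain ⟨S, lam, hSdet, hS⟩ := exists_S hF φ hφ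
  have hSu : IsUnit S.det := isUnit_iff_ne_zero.2 hSdet
  have hS1 : S * S⁻¹ = 1 := Matrix.mul_nonsing_inv S hSu
  have hS2 : S⁻¹ * S = 1 := Matrix.nonsing_inv_mul S hSu
  have hιφ : ∀ x : K, φ (ι x) = ι x := by
    intro x
    rw [hφ, ← map_pow, ← hK, FiniteField.pow_card]
  have hmapφ : ∀ g : Matrix.SpecialLinearGroup (Fin 2) K,
      ((g : Matrix (Fin 2) (Fin 2) K).map ι).map φ = (g : Matrix (Fin 2) (Fin 2) K).map ι := by
    intro g
    ext i j
    simp only [Matrix.map_apply]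
    exact hιφ _
  have hdet : ∀ g : Matrix.SpecialLinearGroup (Fin 2) K,
      ((g : Matrix (Fin 2) (Fin 2) K).map ι).det = 1 := by
    intro g
    have := (RingHom.map_det ι (g : Matrix (Fin 2) (Fin 2) K)).symm
    rw [RingHom.mapMatrix_apply] at this
    rw [this, g.2, map_one]
  have hdet2 : ∀ g : Matrix.SpecialLinearGroup (Fin 2) K,
      (S * (g : Matrix (Fin 2) (Fin 2) K).map ι * S⁻¹).det = 1 := by
    intro g
    rw [Matrix.det_mul, Matrix.det_mul, hdet, mul_one, ← Matrix.det_mul, hS1, Matrix.det_one]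
  let Ψ : Matrix.SpecialLinearGroup (Fin 2) K →* Cfsg.SU 2 F q :=
    { toFun := fun g => ⟨mkSL (S * (g : Matrix (Fin 2) (Fin 2) K).map ι * S⁻¹) (hdet2 g),
        (mem_SU_iff_isU φ hφ 2 _).2 (isU_conj φ S S⁻¹ _ hS1 lam hS (hdet g) (hmapφ g))⟩
      map_one' := by
        apply SU_ext
        change S * ((1 : Matrix.SpecialLinearGroup (Fin 2) K) : Matrix (Fin 2) (Fin 2) K).map ι * S⁻¹
          = 1
        rw [Matrix.SpecialLinearGroup.coe_one, Matrix.map_one _ (map_zero ι) (map_one ι),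
          Matrix.mul_one, hS1]
      map_mul' := fun g h => by
        apply SU_ext
        change S * ((g * h : Matrix.SpecialLinearGroup (Fin 2) K) :
            Matrix (Fin 2) (Fin 2) K).map ι * S⁻¹ =
          (S * (g : Matrix (Fin 2) (Fin 2) K).map ι * S⁻¹) *
            (S * (h : Matrix (Fin 2) (Fin 2) K).map ι * S⁻¹)
        rw [Matrix.SpecialLinearGroup.coe_mul, Matrix.map_mul]
        calc S * ((g : Matrix (Fin 2) (Fin 2) K).map ι * (h : Matrix (Fin 2) (Fin 2) K).map ι) * S⁻¹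
            = S * (g : Matrix (Fin 2) (Fin 2) K).map ι * (1 : Matrix (Fin 2) (Fin 2) F) *
                (h : Matrix (Fin 2) (Fin 2) K).map ι * S⁻¹ := by
              rw [Matrix.mul_one]; simp only [Matrix.mul_assoc]
          _ = _ := by rw [← hS2]; simp only [Matrix.mul_assoc] }
  have hΨinj : Function.Injective Ψ := by
    intro g h hgh
    have h1 : S * (g : Matrix (Fin 2) (Fin 2) K).map ι * S⁻¹ =
        S * (h : Matrix (Fin 2) (Fin 2) K).map ι * S⁻¹ := by
      have := congrArg (fun x : Cfsg.SU 2 F q =>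
        ((x : Matrix.SpecialLinearGroup (Fin 2) F) : Matrix (Fin 2) (Fin 2) F)) hgh
      exact this
    have e1 : ∀ M : Matrix (Fin 2) (Fin 2) F, S⁻¹ * (S * M * S⁻¹) * S = M := by
      intro M
      rw [Matrix.mul_assoc S, ← Matrix.mul_assoc S⁻¹, hS2, Matrix.one_mul, Matrix.mul_assoc, hS2,
        Matrix.mul_one]
    have h2 : (g : Matrix (Fin 2) (Fin 2) K).map ι = (h : Matrix (Fin 2) (Fin 2) K).map ι := by
      rw [← e1 ((g : Matrix (Fin 2) (Fin 2) K).map ι), h1, e1]
    apply Subtype.ext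
    exact Matrix.map_injective ι.injective h2
  have hcard : Nat.card (Cfsg.SU 2 F q) ≤ Nat.card (Matrix.SpecialLinearGroup (Fin 2) K) := by
    rw [card_SU2 hF, Cfsg.Agent.Helper12.card_SL2, hK]
  have hbij : Function.Bijective Ψ := hΨinj.bijective_of_nat_card_le hcard
  exact ⟨(MulEquiv.ofBijective Ψ hbij).symm⟩

end main

/-- SU_2(q) is isomorphic to SL_2(q). -/
theorem result {F K : Type*} [Field F] [Fintype F] [Field K] [Fintype K] {q : ℕ} (hF : Fintype.card F = q ^ 2) (hK : Fintype.card K = q) : Nonempty (Cfsg.SU 2 F q ≃* Matrix.SpecialLinearGroup (Fin 2) K) :=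
  main hF hK

end Cfsg.Agent.S0281
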