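import Mathlib
import Cfsg.Statements.S0282
import Cfsg.Agent.Lib.Helper11.Unitary3
import Cfsg.Agent.S0144

set_option autoImplicit false
open Cfsg

namespace Cfsg.Agent.S0282

open Cfsg.Agent.Helper11.Herm

/-- PSU_3(2) is a solvable group of order 72. -/
theorem result {F : Type*} [Field F] [Fintype F] (hF : Fintype.card F = 4) : Nat.card (Cfsg.PSU 3 F 2) = 72 ∧ Group.IsSolvable (Cfsg.PSU 3 F 2) := by
  have hF' : Fintype.card F = 2 ^ 2 := by rw [hF]; norm_num
  have h1 := card_GU_eq_SU hF' 3 (by omega)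
  rw [card_GU hF' 3] at h1
  have h2 := Subgroup.card_eq_card_quotient_mul_card_subgroup (Subgroup.center (Cfsg.SU 3 F 2))
  rw [card_center_SU hF' 3 (by omega)] at h2
  change _ = Nat.card (Cfsg.PSU 3 F 2) * _ at h2
  have h3 : guOrder 2 3 = 648 := by
    unfold guOrder
    decide
  rw [h3, h2] at h1
  have h4 : Nat.card (Cfsg.PSU 3 F 2) = 72 := by
    have : Nat.gcd 3 (2 + 1) = 3 := by decide
    rw [this] at h1
    omega
  refine ⟨h4, ?_⟩
  haveI : Finite (Cfsg.PSU 3 F 2) := Nat.finite_of_card_ne_zero (by rw [h4]; norm_num)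
  exact Cfsg.Agent.S0144.result 2 3 3 2 Nat.prime_two Nat.prime_three (by rw [h4]; norm_num)

end Cfsg.Agent.S0282
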