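import Mathlib
import Cfsg.Statements.S0285
-- import your own Cfsg.Agent.* helpers here

set_option autoImplicit false
open Cfsg

namespace Cfsg.Agent.S0285

open Finset

section
variable {F : Type*} [Field F] [Fintype F] [DecidableEq F] {q : ℕ}

/-- `q` is a power of the characteristic, so `x ↦ x ^ q` is a ring hom. -/
lemma exists_frob (hF : Fintype.card F = q ^ 2) :
    ∃ φ : F →+* F, ∀ x, φ x = x ^ q := by
  obtain ⟨p, hp⟩ := CharP.exists F
  haveI := hp
  obtain ⟨n, hprime, hcard⟩ := FiniteField.card F p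
  have hdvd : q ∣ p ^ (n : ℕ) := by
    rw [← hcard, hF]; exact dvd_pow_self q two_ne_zero
  obtain ⟨k, _, hk⟩ := (Nat.dvd_prime_pow hprime).1 hdvd
  haveI : Fact p.Prime := ⟨hprime⟩
  refine ⟨iterateFrobenius F p k, fun x => ?_⟩
  rw [iterateFrobenius_def, hk]

lemma two_le_q (hF : Fintype.card F = q ^ 2) : 2 ≤ q := by
  have h1 : 1 < Fintype.card F := Fintype.one_lt_card
  rw [hF] at h1
  by_contra h
  have : q ≤ 1 := by omega
  have : q ^ 2 ≤ 1 ^ 2 := Nat.pow_le_pow_left this 2
  omega

lemma pow_q_sq (hF : Fintype.card F = q ^ 2) (x : F) : (x ^ q) ^ q = x := by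
  rw [← pow_mul, ← sq, ← hF, FiniteField.pow_card]

/-- the fixed field of `x ↦ x^q` has at most `q` elements -/
lemma card_fixed_le (hF : Fintype.card F = q ^ 2) : #{c : F | c ^ q = c} ≤ q := by
  have hq := two_le_q hF
  have hne : (Polynomial.X ^ q - Polynomial.X : Polynomial F) ≠ 0 :=
    FiniteField.X_pow_card_sub_X_ne_zero F (by omega)
  have hdeg : (Polynomial.X ^ q - Polynomial.X : Polynomial F).natDegree = q :=
    FiniteField.X_pow_card_sub_X_natDegree_eq F (by omega)
  have hsub : ({c : F | c ^ q = c} : Finset F) ⊆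
      (Polynomial.X ^ q - Polynomial.X : Polynomial F).roots.toFinset := by
    intro c hc
    rw [Finset.mem_filter] at hc
    rw [Multiset.mem_toFinset, Polynomial.mem_roots hne]
    simp [hc.2]
  calc #{c : F | c ^ q = c} ≤ (Polynomial.X ^ q - Polynomial.X : Polynomial F).roots.toFinset.card :=
        Finset.card_le_card hsub
    _ ≤ Multiset.card (Polynomial.X ^ q - Polynomial.X : Polynomial F).roots :=
        Multiset.toFinset_card_le _
    _ ≤ (Polynomial.X ^ q - Polynomial.X : Polynomial F).natDegree := Polynomial.card_roots' _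
    _ = q := hdeg

lemma card_fiber_le (c : F) : #{x : F | x * x ^ q = c} ≤ q + 1 := by
  have hsub : ({x : F | x * x ^ q = c} : Finset F) ⊆ (Polynomial.nthRoots (q + 1) c).toFinset := by
    intro x hx
    rw [Finset.mem_filter] at hx
    rw [Multiset.mem_toFinset, Polynomial.mem_nthRoots (Nat.succ_pos q), pow_succ']
    exact hx.2
  calc #{x : F | x * x ^ q = c} ≤ (Polynomial.nthRoots (q + 1) c).toFinset.card :=
        Finset.card_le_card hsub
    _ ≤ Multiset.card (Polynomial.nthRoots (q + 1) c) := Multiset.toFinset_card_le _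
    _ ≤ q + 1 := Polynomial.card_nthRoots _ _

lemma norm_fixed (hF : Fintype.card F = q ^ 2) (x : F) : (x * x ^ q) ^ q = x * x ^ q := by
  rw [mul_pow, pow_q_sq hF, mul_comm]

/-- every nonzero fixed element has exactly `q+1` preimages under the norm -/
lemma card_fiber_eq (hF : Fintype.card F = q ^ 2) {c : F} (hc : c ^ q = c) (hc0 : c ≠ 0) :
    #{x : F | x * x ^ q = c} = q + 1 := by
  have hq := two_le_q hF
  set K' : Finset F := ({c : F | c ^ q = c} : Finset F).erase 0 with hK'
  have h0K : (0 : F) ∈ ({c : F | c ^ q = c} : Finset F) := by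
    rw [Finset.mem_filter]
    exact ⟨Finset.mem_univ _, zero_pow (by omega)⟩
  have hK'card : #K' ≤ q - 1 := by
    rw [hK', Finset.card_erase_of_mem h0K]
    exact Nat.sub_le_sub_right (card_fixed_le hF) 1
  set U : Finset F := (Finset.univ : Finset F).erase 0 with hU
  have hUcard : #U = q ^ 2 - 1 := by
    rw [hU, Finset.card_erase_of_mem (Finset.mem_univ _), Finset.card_univ, hF]
  have hmaps : ∀ x ∈ U, x * x ^ q ∈ K' := by
    intro x hx
    rw [hU, Finset.mem_erase] at hx
    rw [hK', Finset.mem_erase, Finset.mem_filter]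
    refine ⟨mul_ne_zero hx.1 (pow_ne_zero _ hx.1), Finset.mem_univ _, norm_fixed hF x⟩
  have hsum : #U = ∑ d ∈ K', #{x ∈ U | x * x ^ q = d} :=
    Finset.card_eq_sum_card_fiberwise hmaps
  have hle : ∀ d ∈ K', #{x ∈ U | x * x ^ q = d} ≤ q + 1 := by
    intro d _
    refine le_trans (Finset.card_le_card ?_) (card_fiber_le (q := q) d)
    intro x hx
    rw [Finset.mem_filter] at hx ⊢
    exact ⟨Finset.mem_univ _, hx.2⟩
  have hsq : q ^ 2 - 1 = (q - 1) * (q + 1) := by
    obtain ⟨r, rfl⟩ : ∃ r, q = r + 1 := ⟨q - 1, by omega⟩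
    simp only [Nat.add_sub_cancel]
    have : (r + 1) ^ 2 = r * (r + 1 + 1) + 1 := by ring
    omega
  have hsumeq : ∑ d ∈ K', #{x ∈ U | x * x ^ q = d} = ∑ _d ∈ K', (q + 1) := by
    apply le_antisymm (Finset.sum_le_sum hle)
    rw [← hsum, hUcard, Finset.sum_const, smul_eq_mul, hsq]
    -- goal: #K' * (q+1) ≤ (q-1)*(q+1)
    exact Nat.mul_le_mul_right _ hK'card
  have hall := (Finset.sum_eq_sum_iff_of_le hle).1 hsumeq
  have hcK' : c ∈ K' := by
    rw [hK', Finset.mem_erase, Finset.mem_filter]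
    exact ⟨hc0, Finset.mem_univ _, hc⟩
  rw [← hall c hcK']
  congr 1
  ext x
  simp only [Finset.mem_filter, Finset.mem_univ, true_and, hU, Finset.mem_erase, ne_eq]
  constructor
  · intro h
    refine ⟨⟨?_, trivial⟩, h⟩
    rintro rfl
    rw [zero_mul] at h
    exact hc0 h.symm
  · intro h; exact h.2

lemma card_fiber_zero (hF : Fintype.card F = q ^ 2) : #{x : F | x * x ^ q = 0} = 1 := by
  rw [Finset.card_eq_one]
  refine ⟨0, ?_⟩
  ext x
  simp only [Finset.mem_filter, Finset.mem_univ, true_and, Finset.mem_singleton, mul_eq_zero]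
  constructor
  · rintro (h | h)
    · exact h
    · exact pow_eq_zero_iff (by have := two_le_q hF; omega) |>.1 h
  · rintro rfl; left; rfl

/-- number of isotropic vectors, as a finset cardinality -/
noncomputable def A (F : Type*) [Field F] [Fintype F] [DecidableEq F] (q n : ℕ) : ℕ :=
  #{v : Fin n → F | ∑ i, v i * v i ^ q = 0}

lemma A_le (hF : Fintype.card F = q ^ 2) (n : ℕ) : A F q n ≤ (q ^ 2) ^ n := by
  unfold A
  refine le_trans (Finset.card_le_univ _) ?_
  rw [Fintype.card_fun, Fintype.card_fin, hF]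

lemma A_succ (hF : Fintype.card F = q ^ 2) (n : ℕ) :
    A F q (n + 1) = A F q n + (q + 1) * ((q ^ 2) ^ n - A F q n) := by
  obtain ⟨φ, hφ⟩ := exists_frob hF
  unfold A
  -- step 1 : rewrite as a sum over `v` of fibre sizes
  have step1 : #{w : Fin (n + 1) → F | ∑ i, w i * w i ^ q = 0} =
      ∑ v : Fin n → F, #{x : F | x * x ^ q = -∑ i, v i * v i ^ q} := by
    rw [Finset.card_filter]
    rw [← (Fin.consEquiv (fun _ : Fin (n + 1) => F)).sum_comp]
    rw [Fintype.sum_prod_type_right]
    refine Finset.sum_congr rfl fun v _ => ?_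
    rw [Finset.card_filter]
    refine Finset.sum_congr rfl fun x _ => ?_
    simp only [Fin.consEquiv_apply, Fin.sum_univ_succ, Fin.cons_zero, Fin.cons_succ,
      eq_neg_iff_add_eq_zero]
  rw [step1]
  have step2 : ∀ v : Fin n → F, #{x : F | x * x ^ q = -∑ i, v i * v i ^ q} =
      if ∑ i, v i * v i ^ q = 0 then 1 else q + 1 := by
    intro v
    split_ifs with h
    · rw [h, neg_zero]; exact card_fiber_zero hF
    · apply card_fiber_eq hF
      · rw [← hφ, map_neg, map_sum]
        congr 1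
        refine Finset.sum_congr rfl fun i _ => ?_
        rw [hφ]; exact norm_fixed hF _
      · exact neg_ne_zero.mpr h
  simp only [step2]
  rw [Finset.sum_ite, Finset.sum_const, Finset.sum_const, smul_eq_mul, smul_eq_mul, mul_one]
  congr 1
  rw [mul_comm]
  congr 1
  rw [Finset.filter_not, Finset.card_sdiff_of_subset (Finset.filter_subset _ _), Finset.card_univ,
    Fintype.card_fun, Fintype.card_fin, hF]

lemma A_zero : A F q 0 = 1 := by
  unfold A
  simp

lemma A_closed (hF : Fintype.card F = q ^ 2) (n : ℕ) :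
    (q : ℤ) * (A F q n : ℤ) = (q : ℤ) ^ (2 * n) + (-1) ^ n * ((q : ℤ) ^ (n + 1) - (q : ℤ) ^ n) := by
  induction n with
  | zero => rw [A_zero]; simp
  | succ n ih =>
    have hle := A_le (F := F) hF n
    rw [A_succ hF n]
    push_cast [Nat.cast_sub hle]
    have : (q : ℤ) * ((A F q n : ℤ) + ((q : ℤ) + 1) * (((q : ℤ) ^ 2) ^ n - (A F q n : ℤ))) =
        ((q : ℤ) + 1) * (q : ℤ) * ((q : ℤ) ^ 2) ^ n - (q : ℤ) * ((q : ℤ) * (A F q n : ℤ)) := by ring
    rw [this, ih]
    ring

end

/-- The standard Hermitian form on F^n, |F| = q^2, has exactly (q^n - (-1)^n)(q^(n-1) + (-1)^n) non-zero isotropic vectors; counting the zero vector too: -/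
theorem result {F : Type*} [Field F] [Fintype F] {q : ℕ} (hF : Fintype.card F = q ^ 2) (n : ℕ) : Nat.card {v : Fin n → F // Cfsg.hermForm n F q v v = 0} = (if Even n then (q ^ n - 1) * (q ^ (n - 1) + 1) else (q ^ n + 1) * (q ^ (n - 1) - 1)) + 1 := by
  classical
  have hq := two_le_q hF
  have hcard : Nat.card {v : Fin n → F // Cfsg.hermForm n F q v v = 0} = A F q n := by
    rw [Nat.card_eq_fintype_card, Fintype.card_subtype]
    rfl
  rw [hcard]
  have hcl := A_closed (F := F) hF n
  have hq0 : (0 : ℤ) < (q : ℤ) := by exact_mod_cast (by omega : 0 < q)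
  have hone : ∀ m : ℕ, 1 ≤ q ^ m := fun m => Nat.one_le_pow _ _ (by omega)
  apply Nat.cast_injective (R := ℤ)
  apply mul_left_cancel₀ hq0.ne'
  rw [hcl]
  rcases Nat.even_or_odd n with he | ho
  · rw [if_pos he, he.neg_one_pow]
    rcases Nat.eq_zero_or_pos n with rfl | hn
    · simp
    · obtain ⟨m, rfl⟩ : ∃ m, n = m + 1 := ⟨n - 1, by omega⟩
      simp only [Nat.add_sub_cancel]
      push_cast [Nat.cast_sub (hone (m + 1))]
      ring
  · rw [if_neg (Nat.not_even_iff_odd.mpr ho), ho.neg_one_pow]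
    obtain ⟨m, rfl⟩ : ∃ m, n = m + 1 := ⟨n - 1, by have := ho.pos; omega⟩
    simp only [Nat.add_sub_cancel]
    push_cast [Nat.cast_sub (hone m)]
    ring

end Cfsg.Agent.S0285
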