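import Mathlib
import Cfsg.Statements.S0286
import Cfsg.Agent.Lib.Helper2.OrthOrders

set_option autoImplicit false
open Cfsg

namespace Cfsg.Agent.S0286

/-- |GO_{2m+1}(q)| = 2 q^{m^2} ∏_{i=1}^m (q^{2i}-1), q odd. -/
theorem result {F : Type*} [Field F] [Fintype F] {q : ℕ} (hF : Fintype.card F = q) (hodd : Odd q) (m : ℕ) : Nat.card (Cfsg.isometryGroup F (Cfsg.quadFormOdd m F)) = 2 * q ^ (m ^ 2) * ∏ i ∈ Finset.range m, (q ^ (2 * (i + 1)) - 1) := by
  subst hF
  have h2 : (2 : F) ≠ 0 := by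
    have hc : ringChar F ≠ 2 := by
      intro h
      have := FiniteField.even_card_of_char_two h
      have := Nat.odd_iff.1 hodd
      omega
    exact Ring.two_ne_zero hc
  exact Cfsg.Agent.Helper2.Orth.card_odd h2 m

end Cfsg.Agent.S0286
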