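import Mathlib
import Cfsg.Statements.S0289
import Cfsg.Agent.Lib.Helper26.QuadCount

set_option autoImplicit false
open Cfsg

namespace Cfsg.Agent.S0289

open Finset

/-- The hyperbolic quadratic form on F^(2m), m at least 1, has q^(2m-1) + q^m - q^(m-1) zeros (that is, (q^m - 1)(q^(m-1) + 1) non-zero isotropic vectors). -/
theorem result {F : Type*} [Field F] [Fintype F] {q : ℕ} (hF : Fintype.card F = q) (m : ℕ) (hm : 1 ≤ m) : Nat.card {v : Fin m ⊕ Fin m → F // Cfsg.quadFormPlus m F v = 0} = q ^ (2 * m - 1) + q ^ m - q ^ (m - 1) := by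
  classical
  let e : (Fin m ⊕ Fin m → F) ≃ (Fin m → F) × (Fin m → F) := Equiv.sumArrowEquivProdArrow _ _ _
  have hcongr : Nat.card {v : Fin m ⊕ Fin m → F // Cfsg.quadFormPlus m F v = 0} =
      Nat.card {p : (Fin m → F) × (Fin m → F) // ∑ i, p.1 i * p.2 i = 0} := by
    apply Nat.card_congr
    exact Equiv.subtypeEquiv e (fun v => Iff.rfl)
  rw [hcongr, Nat.card_eq_fintype_card, Fintype.card_subtype]
  have hb := Cfsg.Agent.Helper26.card_bilin (F := F) (ι := Fin m) (0 : F)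
  rw [if_pos rfl, hF, Fintype.card_fin] at hb
  have hb' : #{x : (Fin m → F) × (Fin m → F) | ∑ i, x.1 i * x.2 i = 0} =
      q ^ m + (q ^ m - 1) * q ^ (m - 1) := by
    convert hb using 2
  rw [hb']
  have hq : 0 < q := by rw [← hF]; exact Fintype.card_pos
  have h1 : q ^ m * q ^ (m - 1) = q ^ (2 * m - 1) := by
    rw [← pow_add]; congr 1; omega
  have h2 : q ^ (m - 1) ≤ q ^ (2 * m - 1) := Nat.pow_le_pow_right hq (by omega)
  have h3 : (q ^ m - 1) * q ^ (m - 1) = q ^ (2 * m - 1) - q ^ (m - 1) := by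
    rw [Nat.sub_mul, one_mul, h1]
  rw [h3]
  omega

end Cfsg.Agent.S0289
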