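import Mathlib
import Cfsg.Statements.S0290
import Cfsg.Agent.Lib.Helper26.QuadCount

set_option autoImplicit false
open Cfsg

namespace Cfsg.Agent.S0290

open Finset

/-- The minus-type quadratic form on F^(2m), m at least 1, has q^(2m-1) + q^(m-1) - q^m zeros (that is, (q^m + 1)(q^(m-1) - 1) non-zero isotropic vectors). -/
theorem result {F : Type*} [Field F] [Fintype F] {q : ℕ} (hF : Fintype.card F = q) (m : ℕ) (hm : 1 ≤ m) (a b : F) (hab : ∀ z₁ z₂ : F, z₁ ^ 2 + a * z₁ * z₂ + b * z₂ ^ 2 = 0 → z₁ = 0 ∧ z₂ = 0) : Nat.card {v : (Fin (m - 1) ⊕ Fin (m - 1)) ⊕ Fin 2 → F // Cfsg.quadFormMinus (m - 1) F a b v = 0} = q ^ (2 * m - 1) + q ^ (m - 1) - q ^ m := by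
  classical
  obtain ⟨k, rfl⟩ : ∃ k, m = k + 1 := ⟨m - 1, by omega⟩
  show Nat.card {v : (Fin k ⊕ Fin k) ⊕ Fin 2 → F // Cfsg.quadFormMinus k F a b v = 0} =
    q ^ (2 * (k + 1) - 1) + q ^ k - q ^ (k + 1)
  let R : (Fin 2 → F) → F := fun w => w 0 ^ 2 + a * w 0 * w 1 + b * w 1 ^ 2
  let e : ((Fin k ⊕ Fin k) ⊕ Fin 2 → F) ≃ ((Fin k → F) × (Fin k → F)) × (Fin 2 → F) :=
    (Equiv.sumArrowEquivProdArrow _ _ _).trans
      (Equiv.prodCongr (Equiv.sumArrowEquivProdArrow _ _ _) (Equiv.refl _))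
  have hcongr : Nat.card {v : (Fin k ⊕ Fin k) ⊕ Fin 2 → F // Cfsg.quadFormMinus k F a b v = 0} =
      Nat.card {p : ((Fin k → F) × (Fin k → F)) × (Fin 2 → F) //
        ∑ i, p.1.1 i * p.1.2 i + R p.2 = 0} := by
    apply Nat.card_congr
    exact Equiv.subtypeEquiv e (fun v => Iff.rfl)
  rw [hcongr, Nat.card_eq_fintype_card, Fintype.card_subtype]
  have hb := Cfsg.Agent.Helper26.card_zeros_add (F := F) (ι := Fin k) (W := Fin 2 → F) R
  have hzero : #{w : Fin 2 → F | R w = 0} = 1 := by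
    rw [Finset.card_eq_one]
    refine ⟨fun _ => 0, ?_⟩
    ext w
    simp only [Finset.mem_filter, Finset.mem_univ, true_and, Finset.mem_singleton]
    constructor
    · intro h
      obtain ⟨h0, h1⟩ := hab (w 0) (w 1) h
      funext u
      fin_cases u
      · exact h0
      · exact h1
    · intro h
      rw [h]; simp [R]
  rw [hzero, hF, Fintype.card_fin, Fintype.card_fun, hF, Fintype.card_fin, one_mul] at hb
  have hb' : #{x : ((Fin k → F) × (Fin k → F)) × (Fin 2 → F) |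
      ∑ i, x.1.1 i * x.1.2 i + R x.2 = 0} =
      q ^ k + q ^ 2 * ((q ^ k - 1) * q ^ (k - 1)) := by
    convert hb using 2
  rw [hb']
  have hq : 0 < q := by rw [← hF]; exact Fintype.card_pos
  rcases Nat.eq_zero_or_pos k with hk | hk
  · subst hk; simp
  · have h1 : q ^ 2 * ((q ^ k - 1) * q ^ (k - 1)) = (q ^ k - 1) * q ^ (k + 1) := by
      have : q ^ 2 * q ^ (k - 1) = q ^ (k + 1) := by
        rw [← pow_add]; congr 1; omega
      calc q ^ 2 * ((q ^ k - 1) * q ^ (k - 1)) = (q ^ k - 1) * (q ^ 2 * q ^ (k - 1)) := by ring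
        _ = (q ^ k - 1) * q ^ (k + 1) := by rw [this]
    rw [h1, Nat.sub_mul, one_mul, ← pow_add]
    have h2 : q ^ (k + 1) ≤ q ^ (k + (k + 1)) := Nat.pow_le_pow_right hq (by omega)
    have h3 : 2 * (k + 1) - 1 = k + (k + 1) := by omega
    rw [h3]
    omega

end Cfsg.Agent.S0290
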