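import Mathlib
import Cfsg.Statements.S0291
import Cfsg.Agent.Lib.Helper26.QuadCount

set_option autoImplicit false
open Cfsg

namespace Cfsg.Agent.S0291

open Finset

/-- For q odd, the form x_0^2 + sum_{i<m} x_i y_i on F^(2m+1) has exactly q^(2m) zeros. -/
theorem result {F : Type*} [Field F] [Fintype F] {q : ℕ} (hF : Fintype.card F = q) (hodd : Odd q) (m : ℕ) : Nat.card {v : Unit ⊕ (Fin m ⊕ Fin m) → F // Cfsg.quadFormOdd m F v = 0} = q ^ (2 * m) := by
  classical
  let e : (Unit ⊕ (Fin m ⊕ Fin m) → F) ≃ ((Fin m → F) × (Fin m → F)) × (Unit → F) :=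
    (Equiv.sumArrowEquivProdArrow _ _ _).trans
      ((Equiv.prodComm _ _).trans
        (Equiv.prodCongr (Equiv.sumArrowEquivProdArrow _ _ _) (Equiv.refl _)))
  have hcongr : Nat.card {v : Unit ⊕ (Fin m ⊕ Fin m) → F // Cfsg.quadFormOdd m F v = 0} =
      Nat.card {p : ((Fin m → F) × (Fin m → F)) × (Unit → F) //
        ∑ i, p.1.1 i * p.1.2 i + (fun w : Unit → F => w () ^ 2) p.2 = 0} := by
    apply Nat.card_congr
    refine Equiv.subtypeEquiv e (fun v => ?_)
    unfold Cfsg.quadFormOdd
    rw [add_comm]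
    rfl
  rw [hcongr, Nat.card_eq_fintype_card, Fintype.card_subtype]
  have hb := Cfsg.Agent.Helper26.card_zeros_add (F := F) (ι := Fin m) (W := Unit → F)
    (fun w : Unit → F => w () ^ 2)
  have hzero : #{w : Unit → F | (fun w : Unit → F => w () ^ 2) w = 0} = 1 := by
    rw [Finset.card_eq_one]
    refine ⟨fun _ => 0, ?_⟩
    ext w
    simp only [Finset.mem_filter, Finset.mem_univ, true_and, Finset.mem_singleton]
    constructor
    · intro h
      funext u
      cases u
      exact pow_eq_zero_iff (two_ne_zero) |>.mp h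
    · intro h
      rw [h]; simp
  rw [hzero, hF, Fintype.card_fin, Fintype.card_fun, hF, Fintype.card_unit, pow_one, one_mul] at hb
  have hb' : #{x : ((Fin m → F) × (Fin m → F)) × (Unit → F) |
      ∑ i, x.1.1 i * x.1.2 i + (fun w : Unit → F => w () ^ 2) x.2 = 0} =
      q ^ m + q * ((q ^ m - 1) * q ^ (m - 1)) := by
    convert hb using 2
  rw [hb']
  have hq : 0 < q := by rw [← hF]; exact Fintype.card_pos
  rcases Nat.eq_zero_or_pos m with hm | hm
  · subst hm; simp
  · have h1 : q * ((q ^ m - 1) * q ^ (m - 1)) = (q ^ m - 1) * q ^ m := by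
      have : q * q ^ (m - 1) = q ^ m := by
        rw [← pow_succ']; congr 1; omega
      calc q * ((q ^ m - 1) * q ^ (m - 1)) = (q ^ m - 1) * (q * q ^ (m - 1)) := by ring
        _ = (q ^ m - 1) * q ^ m := by rw [this]
    rw [h1, Nat.sub_mul, one_mul, ← pow_add]
    have h2 : q ^ m ≤ q ^ (m + m) := Nat.pow_le_pow_right hq (by omega)
    rw [two_mul]
    omega

end Cfsg.Agent.S0291
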