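import Mathlib
import Cfsg.Statements.S0298
import Cfsg.Agent.Lib.Helper2.Exc3

set_option autoImplicit false
open Cfsg

namespace Cfsg.Agent.S0298

open Cfsg.Agent.Helper2.Orth Cfsg.Agent.Helper2.Exc Cfsg.Agent.Helper2.Exc3 Cfsg.Agent.Helper2
  Cfsg.Agent.Helper13 Cfsg.Agent.Helper17.Spinor Matrix in
/-- PΩ_3(q) is isomorphic to PSL_2(q) for q odd. -/
theorem result {F : Type*} [Field F] [Fintype F] (hodd : Odd (Fintype.card F)) : Nonempty (Cfsg.POmega F (Cfsg.quadFormOdd 1 F) ≃* Matrix.ProjectiveSpecialLinearGroup (Fin 2) F) := by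
  classical
  have h2 : (2 : F) ≠ 0 := by
    have hc : ringChar F ≠ 2 := by
      intro h
      have := FiniteField.even_card_of_char_two h
      have := Nat.odd_iff.1 hodd
      omega
    exact Ring.two_ne_zero hc
  have hcard := card_odd (F := F) h2 1
  rw [quadFormOdd_eq] at hcard ⊢
  have hQ := nondeg_odd (F := F) 1 h2
  obtain ⟨φ, hφ⟩ := exists_hom (F := F) (⇑(matQ (oddMat 1 F)))
    (fun v => by rw [← quadFormOdd_eq])
  have hq3 : 3 ≤ Fintype.card F := by
    have h1 : 1 < Fintype.card F := Fintype.one_lt_card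
    have := Nat.odd_iff.1 hodd
    omega
  have hex : Fintype.card F ≠ 2 ∨ Fintype.card K3 ≠ 4 := Or.inl (by omega)
  -- the image lies in Ω
  have hrange : φ.range ≤ Cfsg.Omega F (⇑(matQ (oddMat 1 F))) := by
    rintro _ ⟨g, rfl⟩
    refine SL2.transvection_induction (fun A => φ A ∈ Cfsg.Omega F (⇑(matQ (oddMat 1 F)))) ?_ ?_ g
    · intro i j hij c
      have : SpecialLinearGroup.transvection hij c =
          SpecialLinearGroup.transvection hij (c / 2) * SpecialLinearGroup.transvection hij (c / 2) := by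
        rw [← SpecialLinearGroup.transvection_add]
        congr 1
        field_simp
        ring
      show φ _ ∈ _
      rw [this, map_mul]
      exact sq_mem_Omega _ hQ hex _
    · intro A B hA hB
      show φ _ ∈ _
      rw [map_mul]
      exact Subgroup.mul_mem _ hA hB
  -- orders
  have hidx := index_Omega (matQ (oddMat 1 F)) h2 hQ (by
    simp only [Fintype.card_sum, Fintype.card_fin, Fintype.card_unit]; omega)
  have hmul := Subgroup.card_mul_index (Cfsg.Omega F (⇑(matQ (oddMat 1 F))))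
  rw [hidx, hcard] at hmul
  have hSL := card_SL_mul (F := F) 2 (by norm_num)
  have hker := card_ker_le φ hφ
  have hcard' : Nat.card (Cfsg.Omega F (⇑(matQ (oddMat 1 F)))) * Nat.card φ.ker ≤
      Nat.card (SpecialLinearGroup (Fin 2) F) := by
    obtain ⟨r, hr⟩ : ∃ r, Fintype.card F = r + 1 := ⟨Fintype.card F - 1, by omega⟩
    rw [hr] at hmul hSL
    simp only [Finset.prod_range_one, Fin.prod_univ_two, Fin.val_zero, Fin.val_one, pow_zero,
      pow_one, Nat.add_sub_cancel] at hmul hSL
    have e1 : (r + 1) ^ 2 - 1 = r * (r + 2) := by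
      apply Nat.sub_eq_of_eq_add; ring
    have e2 : (r + 1) ^ 2 - (r + 1) = r * (r + 1) := by
      apply Nat.sub_eq_of_eq_add; ring
    have e3 : (r + 1) ^ (2 * (0 + 1)) - 1 = r * (r + 2) := by
      apply Nat.sub_eq_of_eq_add; ring
    rw [e1, e2] at hSL
    rw [e3] at hmul
    have hr0 : 0 < r := by omega
    have hN : Nat.card (SpecialLinearGroup (Fin 2) F) = (r + 2) * (r + 1) * r := by
      apply Nat.eq_of_mul_eq_mul_left hr0
      rw [hSL]; ring
    have hW : Nat.card (Cfsg.Omega F (⇑(matQ (oddMat 1 F)))) * 2 = (r + 2) * (r + 1) * r := by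
      have : Nat.card (Cfsg.Omega F (⇑(matQ (oddMat 1 F)))) * 2 * 2 = (r + 2) * (r + 1) * r * 2 := by
        have h4 : Nat.card (Cfsg.Omega F (⇑(matQ (oddMat 1 F)))) * 2 * 2 =
            Nat.card (Cfsg.Omega F (⇑(matQ (oddMat 1 F)))) * 4 := by ring
        rw [h4, hmul]; ring
      exact Nat.eq_of_mul_eq_mul_right (by norm_num) this
    rw [hN, ← hW]
    exact Nat.mul_le_mul_left _ hker
  exact nonempty_POmega_equiv _ φ hrange hcard' (fun g hg => mem_center_of_comm φ hφ h2 hg)

end Cfsg.Agent.S0298
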