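import Mathlib
import Cfsg.Statements.S0299
import Cfsg.Agent.Lib.Helper2.Exc4
import Cfsg.Agent.Lib.Helper2.OrthOrders
import Cfsg.Agent.Lib.Helper2.CardSL
import Cfsg.Agent.Lib.Helper17.OmegaAll
import Cfsg.Agent.Lib.Helper17.OmegaChar2
import Cfsg.Agent.Lib.Helper17.SpinorIndex

set_option autoImplicit false
open Cfsg

namespace Cfsg.Agent.S0299

open Cfsg.Agent.Helper2.Orth Cfsg.Agent.Helper2.Exc Cfsg.Agent.Helper2.Exc4 Cfsg.Agent.Helper2
  Cfsg.Agent.Helper13 Cfsg.Agent.Helper17.Spinor Matrix in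
/-- PΩ^+_4(q) is isomorphic to PSL_2(q) × PSL_2(q) for q ≥ 3. -/
theorem result {F : Type*} [Field F] [Fintype F] (hF : 3 ≤ Fintype.card F) : Nonempty (Cfsg.POmega F (Cfsg.quadFormPlus 2 F) ≃* Matrix.ProjectiveSpecialLinearGroup (Fin 2) F × Matrix.ProjectiveSpecialLinearGroup (Fin 2) F) := by
  classical
  have hcard := card_plus_succ (F := F) 1
  have hu : Cfsg.quadFormPlus 2 F (Sum.elim (Pi.single 0 1) (Pi.single 0 1)) ≠ 0 := by
    simp [Cfsg.quadFormPlus, Fin.sum_univ_two]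
  rw [quadFormPlus_eq] at hcard hu ⊢
  have hQ := nondeg_plus (F := F) (m := 2)
  obtain ⟨φ, hφ⟩ := exists_hom (F := F) (⇑(matQ (plusMat 2 F)))
    (fun v => by rw [← quadFormPlus_eq])
  have hex : Fintype.card F ≠ 2 ∨ Fintype.card K4 ≠ 4 := Or.inl (by omega)
  have hrange : φ.range ≤ Cfsg.Omega F (⇑(matQ (plusMat 2 F))) := by
    rintro _ ⟨p, rfl⟩
    have hp : p = (p.1, 1) * (1, p.2) := by simp
    rw [hp, map_mul]
    apply Subgroup.mul_mem
    · exact sl2_range_le_Omega _ hQ hex hF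
        (φ.comp (MonoidHom.inl (SpecialLinearGroup (Fin 2) F) (SpecialLinearGroup (Fin 2) F)))
        ⟨p.1, rfl⟩
    · exact sl2_range_le_Omega _ hQ hex hF
        (φ.comp (MonoidHom.inr (SpecialLinearGroup (Fin 2) F) (SpecialLinearGroup (Fin 2) F)))
        ⟨p.2, rfl⟩
  have hmul := Subgroup.card_mul_index (Cfsg.Omega F (⇑(matQ (plusMat 2 F))))
  have hSL := card_SL_mul (F := F) 2 (by norm_num)
  obtain ⟨r, hr⟩ : ∃ r, Fintype.card F = r + 1 := ⟨Fintype.card F - 1, by omega⟩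
  have hr0 : 0 < r := by omega
  rw [hcard, hr] at hmul
  rw [hr] at hSL
  simp only [Finset.prod_range_succ, Finset.prod_range_zero, Fin.prod_univ_two, Fin.val_zero,
    Fin.val_one, pow_zero, pow_one, Nat.add_sub_cancel, one_mul] at hmul hSL
  have e1 : (r + 1) ^ 2 - 1 = r * (r + 2) := by
    apply Nat.sub_eq_of_eq_add; ring
  have e2 : (r + 1) ^ 2 - (r + 1) = r * (r + 1) := by
    apply Nat.sub_eq_of_eq_add; ring
  have e3 : (r + 1) ^ (2 * (0 + 1)) - 1 = r * (r + 2) := by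
    apply Nat.sub_eq_of_eq_add; ring
  have e4 : (r + 1) ^ (1 + 1) - 1 = r * (r + 2) := by
    apply Nat.sub_eq_of_eq_add; ring
  rw [e1, e2] at hSL
  rw [e3] at hmul
  have hN : Nat.card (SpecialLinearGroup (Fin 2) F) = (r + 2) * (r + 1) * r := by
    apply Nat.eq_of_mul_eq_mul_left hr0
    rw [hSL]; ring
  have hG : Nat.card (G4 F) = ((r + 2) * (r + 1) * r) ^ 2 := by
    rw [Nat.card_prod, hN]; ring
  have hcard' : Nat.card (Cfsg.Omega F (⇑(matQ (plusMat 2 F)))) * Nat.card φ.ker ≤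
      Nat.card (G4 F) := by
    by_cases h2 : (2 : F) = 0
    · have : CharP F 2 := CharTwo.of_one_ne_zero_of_two_eq_zero one_ne_zero h2
      have hidx := index_Omega_char_two (matQ (plusMat 2 F)) hQ hex hu
      rw [hidx] at hmul
      rw [card_ker_eq_one φ hφ h2, mul_one, hG]
      apply le_of_eq
      apply Nat.eq_of_mul_eq_mul_right (show 0 < 2 by norm_num)
      rw [hmul]; ring
    · have hidx := index_Omega (matQ (plusMat 2 F)) h2 hQ (by simp)
      rw [hidx] at hmul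
      have hW : Nat.card (Cfsg.Omega F (⇑(matQ (plusMat 2 F)))) * 2 =
          ((r + 2) * (r + 1) * r) ^ 2 := by
        apply Nat.eq_of_mul_eq_mul_right (show 0 < 2 by norm_num)
        have h4 : Nat.card (Cfsg.Omega F (⇑(matQ (plusMat 2 F)))) * 2 * 2 =
            Nat.card (Cfsg.Omega F (⇑(matQ (plusMat 2 F)))) * 4 := by ring
        rw [h4, hmul]; ring
      rw [hG, ← hW]
      exact Nat.mul_le_mul_left _ (card_ker_le φ hφ)
  obtain ⟨e1⟩ := nonempty_POmega_equiv _ φ hrange hcard'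
    (fun g hg => mem_center_of_comm φ hφ hg)
  obtain ⟨e2⟩ := nonempty_prod_quotient_center (SpecialLinearGroup (Fin 2) F)
    (SpecialLinearGroup (Fin 2) F)
  exact ⟨e1.trans e2⟩

end Cfsg.Agent.S0299
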