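import Mathlib
import Cfsg.Statements.S0300
import Cfsg.Agent.S0252
import Cfsg.Agent.S0824
import Cfsg.Agent.Lib.Helper2.ExcM4
import Cfsg.Agent.Lib.Helper2.AltQuot
import Cfsg.Agent.Lib.Helper2.OrthOrders
import Cfsg.Agent.Lib.Helper2.CardSL
import Cfsg.Agent.Lib.Helper17.OmegaAll
import Cfsg.Agent.Lib.Helper17.OmegaChar2
import Cfsg.Agent.Lib.Helper17.SpinorIndex

set_option autoImplicit false
open Cfsg

namespace Cfsg.Agent.S0300

/-- the case `q = 2`, through `O⁻₄(2) ≅ S₅` and `PSL₂(4) ≅ A₅` -/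
theorem result_two {F K : Type*} [Field F] [Fintype F] [Field K] [Fintype K]
    (hF : Fintype.card F = 2) (hK : Fintype.card K = 4) (a b : F)
    (hab : ∀ z₁ z₂ : F, z₁ ^ 2 + a * z₁ * z₂ + b * z₂ ^ 2 = 0 → z₁ = 0 ∧ z₂ = 0) :
    Nonempty (Cfsg.POmega F (Cfsg.quadFormMinus 1 F a b) ≃*
      Matrix.ProjectiveSpecialLinearGroup (Fin 2) K) := by
  classical
  have h01 : ∀ x : F, x = 0 ∨ x = 1 := by
    intro x
    by_contra hx
    rw [not_or] at hx
    have hsub : ({0, 1, x} : Finset F) ⊆ Finset.univ := Finset.subset_univ _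
    have hc : ({0, 1, x} : Finset F).card = 3 := by
      rw [Finset.card_insert_of_notMem, Finset.card_insert_of_notMem, Finset.card_singleton]
      · simpa using Ne.symm hx.2
      · simp only [Finset.mem_insert, Finset.mem_singleton, not_or]
        exact ⟨zero_ne_one, Ne.symm hx.1⟩
    have := Finset.card_le_card hsub
    rw [hc, Finset.card_univ, hF] at this
    omega
  have h2 : (2 : F) = 0 := by
    rcases h01 2 with h | h
    · exact h
    · exfalso
      have : (1 : F) = 0 := by linear_combination h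
      exact one_ne_zero this
  have hb : b = 1 := by
    rcases h01 b with h | h
    · exfalso
      have := hab 0 1 (by rw [h]; ring)
      exact one_ne_zero this.2
    · exact h
  have ha : a = 1 := by
    rcases h01 a with h | h
    · exfalso
      have := hab 1 1 (by rw [h, hb]; linear_combination h2)
      exact one_ne_zero this.2
    · exact h
  subst ha hb
  obtain ⟨e1⟩ := Cfsg.Agent.S0824.result hF
  obtain ⟨e2⟩ := Cfsg.Agent.Helper2.nonempty_commutator_quotient_center_equiv_alt 5 le_rfl e1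
  obtain ⟨e3⟩ := Cfsg.Agent.S0252.result hK
  exact ⟨e2.trans e3.symm⟩

open Cfsg.Agent.Helper2.Orth Cfsg.Agent.Helper2.Exc Cfsg.Agent.Helper2.ExcM4 Cfsg.Agent.Helper2
  Cfsg.Agent.Helper13 Cfsg.Agent.Helper17.Spinor Matrix in
/-- PΩ^-_4(q) is isomorphic to PSL_2(q^2). -/
theorem result {F K : Type*} [Field F] [Fintype F] [Field K] [Fintype K] {q : ℕ} (hF : Fintype.card F = q) (hK : Fintype.card K = q ^ 2) (a b : F) (hab : ∀ z₁ z₂ : F, z₁ ^ 2 + a * z₁ * z₂ + b * z₂ ^ 2 = 0 → z₁ = 0 ∧ z₂ = 0) : Nonempty (Cfsg.POmega F (Cfsg.quadFormMinus 1 F a b) ≃* Matrix.ProjectiveSpecialLinearGroup (Fin 2) K) := by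
  classical
  have hq1 : 1 < q := by rw [← hF]; exact Fintype.one_lt_card
  by_cases hq2 : q = 2
  · subst hq2
    exact result_two hF (by rw [hK]; norm_num) a b hab
  have hq3 : 3 ≤ Fintype.card F := by omega
  obtain ⟨D⟩ := nonempty_qdata hF hK a b hab
  have hcard := card_minus (F := F) a b hab 1
  have hu : Cfsg.quadFormMinus 1 F a b (Pi.single (Sum.inr 0) 1) ≠ 0 := by
    simp [Cfsg.quadFormMinus]
  rw [quadFormMinus_eq] at hcard hu ⊢
  have hQ := nondeg_minus (F := F) (m := 1) a b hab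
  obtain ⟨φ, hφ⟩ := D.exists_hom (⇑(matQ (minusMat 1 a b)))
    (fun v => by rw [← quadFormMinus_eq])
  have hex : Fintype.card F ≠ 2 ∨ Fintype.card K4m ≠ 4 := Or.inl (by omega)
  have hK4 : 4 ≤ Fintype.card K := by rw [hK]; nlinarith
  have hperf := commutator_SL2_eq_top hK4
  have hrange : φ.range ≤ Cfsg.Omega F (⇑(matQ (minusMat 1 a b))) := by
    rw [MonoidHom.range_eq_map, ← hperf, commutator_def, Subgroup.map_commutator]
    exact Subgroup.commutator_mono le_top le_top
  have hmul := Subgroup.card_mul_index (Cfsg.Omega F (⇑(matQ (minusMat 1 a b))))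
  have hSL := card_SL_mul (F := K) 2 (by norm_num)
  obtain ⟨r, hr⟩ : ∃ r, q = r + 1 := ⟨q - 1, by omega⟩
  have hr0 : 0 < r := by omega
  rw [hcard, hF, hr] at hmul
  rw [hK, hr] at hSL
  simp only [Finset.prod_range_succ, Finset.prod_range_zero, Fin.prod_univ_two, Fin.val_zero,
    Fin.val_one, pow_zero, pow_one, one_mul] at hmul hSL
  have e1 : ((r + 1) ^ 2) ^ 2 - 1 = r * (r + 2) * ((r + 1) ^ 2 + 1) := by
    apply Nat.sub_eq_of_eq_add; ring
  have e2 : ((r + 1) ^ 2) ^ 2 - (r + 1) ^ 2 = (r + 1) ^ 2 * (r * (r + 2)) := by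
    apply Nat.sub_eq_of_eq_add; ring
  have e3 : (r + 1) ^ (2 * (0 + 1)) - 1 = r * (r + 2) := by
    apply Nat.sub_eq_of_eq_add; ring
  have e4 : (r + 1) ^ 2 - 1 = r * (r + 2) := by
    apply Nat.sub_eq_of_eq_add; ring
  rw [e1, e2, e4] at hSL
  rw [e3] at hmul
  have hN : Nat.card (SpecialLinearGroup (Fin 2) K) =
      (r + 1) ^ 2 * (r * (r + 2)) * ((r + 1) ^ 2 + 1) := by
    apply Nat.eq_of_mul_eq_mul_left (show 0 < r * (r + 2) by positivity)
    rw [hSL]; ring
  have hcard' : Nat.card (Cfsg.Omega F (⇑(matQ (minusMat 1 a b)))) * Nat.card φ.ker ≤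
      Nat.card (SpecialLinearGroup (Fin 2) K) := by
    by_cases h2 : (2 : F) = 0
    · have : CharP F 2 := CharTwo.of_one_ne_zero_of_two_eq_zero one_ne_zero h2
      have hidx := index_Omega_char_two (matQ (minusMat 1 a b)) hQ hex hu
      rw [hidx] at hmul
      rw [D.card_ker_eq_one φ hφ h2, mul_one, hN]
      apply le_of_eq
      apply Nat.eq_of_mul_eq_mul_right (show 0 < 2 by norm_num)
      rw [hmul]; ring
    · have hidx := index_Omega (matQ (minusMat 1 a b)) h2 hQ (by simp)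
      rw [hidx] at hmul
      have hW : Nat.card (Cfsg.Omega F (⇑(matQ (minusMat 1 a b)))) * 2 =
          (r + 1) ^ 2 * (r * (r + 2)) * ((r + 1) ^ 2 + 1) := by
        apply Nat.eq_of_mul_eq_mul_right (show 0 < 2 by norm_num)
        have h4 : Nat.card (Cfsg.Omega F (⇑(matQ (minusMat 1 a b)))) * 2 * 2 =
            Nat.card (Cfsg.Omega F (⇑(matQ (minusMat 1 a b)))) * 4 := by ring
        rw [h4, hmul]; ring
      rw [hN, ← hW]
      exact Nat.mul_le_mul_left _ (D.card_ker_le φ hφ)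
  exact nonempty_POmega_equiv _ φ hrange hcard'
    (fun g hg => D.mem_center_of_comm φ hφ hperf hg)

end Cfsg.Agent.S0300
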