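import Mathlib
import Cfsg.Statements.S0301
import Cfsg.Agent.Lib.Helper2.Exc5
import Cfsg.Agent.Lib.Helper2.OrthOrders
import Cfsg.Agent.Lib.Helper2.SympCard
import Cfsg.Agent.Lib.Helper17.OmegaAll
import Cfsg.Agent.Lib.Helper17.SpinorIndex

set_option autoImplicit false
open Cfsg

namespace Cfsg.Agent.S0301

open Cfsg.Agent.Helper2.Orth Cfsg.Agent.Helper2.Exc Cfsg.Agent.Helper2.Exc5 Cfsg.Agent.Helper2
  Cfsg.Agent.Helper13 Cfsg.Agent.Helper17.Spinor Matrix in
/-- PΩ_5(q) is isomorphic to PSp_4(q) for q odd. -/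
theorem result {F : Type*} [Field F] [Fintype F] (hodd : Odd (Fintype.card F)) : Nonempty (Cfsg.POmega F (Cfsg.quadFormOdd 2 F) ≃* Cfsg.PSp 2 F) := by
  classical
  have h2 : (2 : F) ≠ 0 := by
    have hc : ringChar F ≠ 2 := by
      intro h
      have := FiniteField.even_card_of_char_two h
      have := Nat.odd_iff.1 hodd
      omega
    exact Ring.two_ne_zero hc
  have hq3 : 3 ≤ Fintype.card F := by
    have h1 : 1 < Fintype.card F := Fintype.one_lt_card
    have := Nat.odd_iff.1 hodd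
    omega
  have hcard := card_odd (F := F) h2 2
  rw [quadFormOdd_eq] at hcard ⊢
  have hQ := nondeg_odd (F := F) 2 h2
  obtain ⟨φ, hφ⟩ := exists_hom (F := F) (⇑(matQ (oddMat 2 F)))
    (fun v => by rw [← quadFormOdd_eq])
  have hrange : φ.range ≤ Cfsg.Omega F (⇑(matQ (oddMat 2 F))) := range_le_commutator φ hφ hq3
  have hidx := index_Omega (matQ (oddMat 2 F)) h2 hQ (by simp)
  have hmul := Subgroup.card_mul_index (Cfsg.Omega F (⇑(matQ (oddMat 2 F))))
  rw [hidx, hcard] at hmul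
  have hSp := Cfsg.Agent.Helper2.Symp.card_symplecticGroup (F := F) 2
  have hcard' : Nat.card (Cfsg.Omega F (⇑(matQ (oddMat 2 F)))) * Nat.card φ.ker ≤
      Nat.card (Matrix.symplecticGroup (Fin 2) F) := by
    have hW : Nat.card (Cfsg.Omega F (⇑(matQ (oddMat 2 F)))) * 2 =
        Nat.card (Matrix.symplecticGroup (Fin 2) F) := by
      apply Nat.eq_of_mul_eq_mul_right (show 0 < 2 by norm_num)
      have h4 : Nat.card (Cfsg.Omega F (⇑(matQ (oddMat 2 F)))) * 2 * 2 =
          Nat.card (Cfsg.Omega F (⇑(matQ (oddMat 2 F)))) * 4 := by ring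
      rw [h4, hmul, hSp]; ring
    rw [← hW]
    exact Nat.mul_le_mul_left _ (card_ker_le φ hφ h2)
  exact nonempty_POmega_equiv _ φ hrange hcard' (fun g hg => mem_center_of_comm φ hφ h2 hq3 hg)

end Cfsg.Agent.S0301
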