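import Mathlib
import Cfsg.Statements.S0303
import Cfsg.Agent.S0278
import Cfsg.Agent.Lib.Helper2.ExcM6
import Cfsg.Agent.Lib.Helper2.OrthOrders
import Cfsg.Agent.Lib.Helper17.OmegaAll
import Cfsg.Agent.Lib.Helper17.OmegaChar2
import Cfsg.Agent.Lib.Helper17.SpinorIndex

set_option autoImplicit false
open Cfsg

namespace Cfsg.Agent.S0303

open Cfsg.Agent.Helper2.Orth Cfsg.Agent.Helper2.Exc Cfsg.Agent.Helper2.ExcM6 Cfsg.Agent.Helper2
  Cfsg.Agent.Helper13 Cfsg.Agent.Helper17.Spinor Matrix in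
/-- PΩ^-_6(q) is isomorphic to PSU_4(q). -/
theorem result {F K : Type*} [Field F] [Fintype F] [Field K] [Fintype K] {q : ℕ} (hF : Fintype.card F = q) (hK : Fintype.card K = q ^ 2) (a b : F) (hab : ∀ z₁ z₂ : F, z₁ ^ 2 + a * z₁ * z₂ + b * z₂ ^ 2 = 0 → z₁ = 0 ∧ z₂ = 0) : Nonempty (Cfsg.POmega F (Cfsg.quadFormMinus 2 F a b) ≃* Cfsg.PSU 4 K q) := by
  classical
  have hq1 : 1 < q := by rw [← hF]; exact Fintype.one_lt_card
  obtain ⟨r, rfl⟩ : ∃ r, q = r + 1 := ⟨q - 1, by omega⟩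
  have hr0 : 0 < r := by omega
  obtain ⟨U⟩ := nonempty_udata hF hK a b hab
  have hcard := card_minus (F := F) a b hab 2
  have hu : Cfsg.quadFormMinus 2 F a b (Pi.single (Sum.inr 0) 1) ≠ 0 := by
    simp [Cfsg.quadFormMinus]
  rw [quadFormMinus_eq] at hcard hu ⊢
  have hQ := nondeg_minus (F := F) (m := 2) a b hab
  obtain ⟨φ, hφ⟩ := U.exists_hom (⇑(matQ (minusMat 2 a b)))
    (fun v => by rw [← quadFormMinus_eq])
  have hex : Fintype.card F ≠ 2 ∨ Fintype.card K6m ≠ 4 := Or.inr (by simp)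
  have hperf := commutator_SU4_eq_top hK
  have hrange : φ.range ≤ Cfsg.Omega F (⇑(matQ (minusMat 2 a b))) := by
    rw [MonoidHom.range_eq_map, ← hperf, commutator_def, Subgroup.map_commutator]
    exact Subgroup.commutator_mono le_top le_top
  have hmul := Subgroup.card_mul_index (Cfsg.Omega F (⇑(matQ (minusMat 2 a b))))
  have hSU := Cfsg.Agent.S0278.result hK 4 (by norm_num)
  rw [hcard, hF] at hmul
  have ev0 : Even 0 := by decide
  have ev1 : ¬ Even 1 := by decide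
  have ev2 : Even 2 := by decide
  have ev3 : ¬ Even 3 := by decide
  simp only [Finset.prod_range_succ, Finset.prod_range_zero, one_mul, ev0, ev1, ev2, ev3,
    if_true, if_false] at hmul hSU
  have e2 : (r + 1) ^ (2 * (0 + 1)) - 1 = r * (r + 2) := by
    apply Nat.sub_eq_of_eq_add; ring
  have e4 : (r + 1) ^ (2 * (1 + 1)) - 1 = r * (r + 2) * (r ^ 2 + 2 * r + 2) := by
    apply Nat.sub_eq_of_eq_add; ring
  have f2 : (r + 1) ^ (1 + 1) - 1 = r * (r + 2) := by
    apply Nat.sub_eq_of_eq_add; ring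
  have f4 : (r + 1) ^ (3 + 1) - 1 = r * (r + 2) * (r ^ 2 + 2 * r + 2) := by
    apply Nat.sub_eq_of_eq_add; ring
  rw [e2, e4] at hmul
  rw [f2, f4] at hSU
  set N := (r + 1) ^ 6 * (r * (r + 2)) * ((r + 1) ^ 3 + 1) *
    (r * (r + 2) * (r ^ 2 + 2 * r + 2)) with hNdef
  have hN : Nat.card (Cfsg.SU 4 K (r + 1)) = N := by
    apply Nat.eq_of_mul_eq_mul_left (show 0 < r + 1 + 1 by omega)
    rw [hSU, hNdef]
    norm_num
    ring
  have hcard' : Nat.card (Cfsg.Omega F (⇑(matQ (minusMat 2 a b)))) * Nat.card φ.ker ≤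
      Nat.card (Cfsg.SU 4 K (r + 1)) := by
    rw [hN]
    by_cases h2 : (2 : F) = 0
    · have : CharP F 2 := CharTwo.of_one_ne_zero_of_two_eq_zero one_ne_zero h2
      have hidx := index_Omega_char_two (matQ (minusMat 2 a b)) hQ hex hu
      rw [hidx] at hmul
      rw [U.card_ker_eq_one φ hφ h2, mul_one]
      apply le_of_eq
      apply Nat.eq_of_mul_eq_mul_right (show 0 < 2 by norm_num)
      rw [hmul, hNdef]; ring
    · have hidx := index_Omega (matQ (minusMat 2 a b)) h2 hQ (by simp)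
      rw [hidx] at hmul
      have hW : Nat.card (Cfsg.Omega F (⇑(matQ (minusMat 2 a b)))) * 2 = N := by
        apply Nat.eq_of_mul_eq_mul_right (show 0 < 2 by norm_num)
        have h4 : Nat.card (Cfsg.Omega F (⇑(matQ (minusMat 2 a b)))) * 2 * 2 =
            Nat.card (Cfsg.Omega F (⇑(matQ (minusMat 2 a b)))) * 4 := by ring
        rw [h4, hmul, hNdef]; ring
      rw [← hW]
      exact Nat.mul_le_mul_left _ (U.card_ker_le φ hφ)
  exact nonempty_POmega_equiv _ φ hrange hcard'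
    (fun g hg => U.mem_center_of_comm φ hφ hperf hg)

end Cfsg.Agent.S0303
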