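import Mathlib
import Cfsg.Statements.S0304
import Cfsg.Agent.Lib.Helper2.SympBasic

set_option autoImplicit false
open Cfsg

namespace Cfsg.Agent.S0304

open Matrix
open Cfsg.Agent.Helper2.Symp

variable {F : Type*} [Field F] {m : ℕ}

/-- the hyperbolic quadratic form on `F^{2m}` -/
def qH (w : Fin m ⊕ Fin m → F) : F := ∑ i : Fin m, w (Sum.inl i) * w (Sum.inr i)

/-- its polar form -/
def bH (w w' : Fin m ⊕ Fin m → F) : F :=
  ∑ i : Fin m, (w (Sum.inl i) * w' (Sum.inr i) + w (Sum.inr i) * w' (Sum.inl i))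

theorem quadFormOdd_eq (v : Unit ⊕ (Fin m ⊕ Fin m) → F) :
    quadFormOdd m F v = v (Sum.inl ()) ^ 2 + qH (v ∘ Sum.inr) := rfl

theorem qH_add (w w' : Fin m ⊕ Fin m → F) : qH (w + w') = qH w + qH w' + bH w w' := by
  simp only [qH, bH, Pi.add_apply, ← Finset.sum_add_distrib]
  refine Finset.sum_congr rfl fun i _ => ?_
  ring

theorem qH_smul (a : F) (w : Fin m ⊕ Fin m → F) : qH (a • w) = a ^ 2 * qH w := by
  simp only [qH, Pi.smul_apply, smul_eq_mul, Finset.mul_sum]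
  refine Finset.sum_congr rfl fun i _ => ?_
  ring

theorem qH_single (j : Fin m ⊕ Fin m) : qH (Pi.single j (1 : F)) = 0 := by
  simp only [qH]
  refine Finset.sum_eq_zero fun i _ => ?_
  rcases j with j | j
  · simp [Pi.single_apply]
  · simp [Pi.single_apply]

variable [CharP F 2]

theorem Bf_eq_bH (u v : Fin m ⊕ Fin m → F) : Bf u v = bH u v := by
  simp only [Bf, Cfsg.sympForm, Matrix.J, Matrix.fromBlocks_mulVec, dotProduct,
    Fintype.sum_sum_type, bH, Sum.elim_inl, Sum.elim_inr, Matrix.zero_mulVec,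
    zero_add, add_zero, Matrix.neg_mulVec, Matrix.one_mulVec, Pi.neg_apply, Function.comp]
  rw [← Finset.sum_add_distrib]
  refine Finset.sum_congr rfl fun i _ => ?_
  rw [CharTwo.neg_eq]

theorem mem_symplectic_of_bH {A : Matrix (Fin m ⊕ Fin m) (Fin m ⊕ Fin m) F}
    (h : ∀ u v, bH (A *ᵥ u) (A *ᵥ v) = bH u v) : A ∈ Matrix.symplecticGroup (Fin m) F := by
  rw [SymplecticGroup.mem_iff']
  ext j k
  have := h (Pi.single j 1) (Pi.single k 1)
  rw [← Bf_eq_bH, ← Bf_eq_bH, Bf_def, Bf_def] at this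
  rw [← Matrix.vecMul_transpose A, ← Matrix.dotProduct_mulVec, Matrix.mulVec_mulVec,
    Matrix.mulVec_mulVec] at this
  simpa using this

theorem bH_of_mem_symplectic {A : Matrix (Fin m ⊕ Fin m) (Fin m ⊕ Fin m) F}
    (hA : A ∈ Matrix.symplecticGroup (Fin m) F) (u v : Fin m ⊕ Fin m → F) :
    bH (A *ᵥ u) (A *ᵥ v) = bH u v := by
  rw [← Bf_eq_bH, ← Bf_eq_bH, Bf_mulVec hA]


theorem two_eq_zero' : (2 : F) = 0 := CharTwo.two_eq_zero

theorem bH_self (w : Fin m ⊕ Fin m → F) : bH w w = 0 := by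
  simp only [bH]
  refine Finset.sum_eq_zero fun i _ => ?_
  linear_combination (w (Sum.inl i) * w (Sum.inr i)) * (two_eq_zero' (F := F))

theorem eq_zero_of_bH {x : Fin m ⊕ Fin m → F} (h : ∀ w, bH x w = 0) : x = 0 := by
  ext j
  rcases j with j | j
  · have := h (Pi.single (Sum.inr j) 1)
    simpa [bH, Pi.single_apply] using this
  · have := h (Pi.single (Sum.inl j) 1)
    simpa [bH, Pi.single_apply] using this

theorem bH_zero_left (w : Fin m ⊕ Fin m → F) : bH 0 w = 0 := by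
  simp [bH]

/-- the compatibility condition between the first row and the symplectic part -/
def Good (r : Fin m ⊕ Fin m → F) (A : Matrix (Fin m ⊕ Fin m) (Fin m ⊕ Fin m) F) : Prop :=
  ∀ w, (r ⬝ᵥ w) ^ 2 + qH (A *ᵥ w) = qH w

theorem Good.bH {r : Fin m ⊕ Fin m → F} {A : Matrix (Fin m ⊕ Fin m) (Fin m ⊕ Fin m) F}
    (h : Good r A) (u v : Fin m ⊕ Fin m → F) : bH (A *ᵥ u) (A *ᵥ v) = bH u v := by
  have h1 := h (u + v)
  have h2 := h u
  have h3 := h v
  rw [Matrix.mulVec_add, qH_add, qH_add, dotProduct_add] at h1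
  linear_combination h1 - h2 - h3 - (r ⬝ᵥ u) * (r ⬝ᵥ v) * (two_eq_zero' (F := F))

theorem good_of_bH [Finite F] (A : Matrix (Fin m ⊕ Fin m) (Fin m ⊕ Fin m) F)
    (hA : ∀ u v, bH (A *ᵥ u) (A *ᵥ v) = bH u v) : ∃ r, Good r A := by
  have hsq : ∀ a : F, ∃ s : F, s ^ 2 = a := by
    intro a
    obtain ⟨s, hs⟩ := FiniteField.isSquare_of_char_two (ringChar.eq F 2) a
    exact ⟨s, by rw [hs, pow_two]⟩
  choose sq hsq using hsq
  let r : Fin m ⊕ Fin m → F := fun j => sq (qH (A *ᵥ Pi.single j 1))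
  refine ⟨r, ?_⟩
  let δ : (Fin m ⊕ Fin m → F) → F := fun w => (r ⬝ᵥ w) ^ 2 + qH (A *ᵥ w) + qH w
  have hadd : ∀ w w', δ (w + w') = δ w + δ w' := by
    intro w w'
    simp only [δ]
    rw [Matrix.mulVec_add, qH_add, qH_add, dotProduct_add, hA]
    linear_combination ((r ⬝ᵥ w) * (r ⬝ᵥ w') + bH w w') * (two_eq_zero' (F := F))
  have hsmul : ∀ (a : F) w, δ (a • w) = a ^ 2 * δ w := by
    intro a w
    simp only [δ]
    rw [Matrix.mulVec_smul, qH_smul, qH_smul, dotProduct_smul, smul_eq_mul]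
    ring
  have hsingle : ∀ j, δ (Pi.single j 1) = 0 := by
    intro j
    simp only [δ]
    rw [qH_single, dotProduct_single_one, add_zero]
    change (sq (qH (A *ᵥ Pi.single j 1))) ^ 2 + _ = 0
    rw [hsq]
    linear_combination (qH (A *ᵥ Pi.single j 1)) * (two_eq_zero' (F := F))
  let δh : (Fin m ⊕ Fin m → F) →+ F := AddMonoidHom.mk' δ hadd
  have hzero : ∀ w, δ w = 0 := by
    intro w
    have hw : w = ∑ j, w j • (Pi.single j (1 : F) : Fin m ⊕ Fin m → F) := by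
      ext k
      simp [Finset.sum_apply, Pi.single_apply]
    rw [hw]
    change δh _ = 0
    rw [map_sum]
    refine Finset.sum_eq_zero fun j _ => ?_
    change δ _ = 0
    rw [hsmul, hsingle, mul_zero]
  intro w
  have := hzero w
  simp only [δ] at this
  rw [CharTwo.add_eq_zero] at this
  exact this


theorem mem_iff (g : GL (Unit ⊕ (Fin m ⊕ Fin m)) F) :
    g ∈ Cfsg.isometryGroup F (Cfsg.quadFormOdd m F) ↔
      ∀ v, Cfsg.quadFormOdd m F (g.1 *ᵥ v) = Cfsg.quadFormOdd m F v :=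
  ⟨fun h v => h v v, fun h u _ => h u⟩

theorem quadFormOdd_add (u v : Unit ⊕ (Fin m ⊕ Fin m) → F) :
    Cfsg.quadFormOdd m F (u + v) = Cfsg.quadFormOdd m F u + Cfsg.quadFormOdd m F v +
      bH (u ∘ Sum.inr) (v ∘ Sum.inr) := by
  have h : (u + v) ∘ Sum.inr = u ∘ Sum.inr + v ∘ Sum.inr := rfl
  rw [quadFormOdd_eq, quadFormOdd_eq, quadFormOdd_eq, h, qH_add, Pi.add_apply]
  linear_combination (u (Sum.inl ()) * v (Sum.inl ())) * (two_eq_zero' (F := F))

/-- the radical vector -/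
def e0 : Unit ⊕ (Fin m ⊕ Fin m) → F := Pi.single (Sum.inl ()) 1

theorem fix_e0 {g : GL (Unit ⊕ (Fin m ⊕ Fin m)) F}
    (hg : g ∈ Cfsg.isometryGroup F (Cfsg.quadFormOdd m F)) : g.1 *ᵥ (e0 : _ → F) = e0 := by
  rw [mem_iff] at hg
  have hP : ∀ u v, bH ((g.1 *ᵥ u) ∘ Sum.inr) ((g.1 *ᵥ v) ∘ Sum.inr) =
      bH (u ∘ Sum.inr) (v ∘ Sum.inr) := by
    intro u v
    have h1 := hg (u + v)
    rw [Matrix.mulVec_add, quadFormOdd_add, quadFormOdd_add, hg, hg] at h1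
    linear_combination h1
  have he0 : (e0 : Unit ⊕ (Fin m ⊕ Fin m) → F) ∘ Sum.inr = 0 := by
    ext k; simp [e0]
  have hx : (g.1 *ᵥ (e0 : Unit ⊕ (Fin m ⊕ Fin m) → F)) ∘ Sum.inr = 0 := by
    apply eq_zero_of_bH
    intro w
    have hz : g.1 *ᵥ ((g⁻¹).1 *ᵥ (Sum.elim (fun _ => (0 : F)) w : Unit ⊕ (Fin m ⊕ Fin m) → F)) = Sum.elim (fun _ => (0 : F)) w := by
      rw [Matrix.mulVec_mulVec, ← Units.val_mul, mul_inv_cancel, Units.val_one, Matrix.one_mulVec]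
    have := hP e0 ((g⁻¹).1 *ᵥ (Sum.elim (fun _ => (0 : F)) w : Unit ⊕ (Fin m ⊕ Fin m) → F))
    rw [hz, he0, bH_zero_left] at this
    exact this
  have hq := hg e0
  rw [quadFormOdd_eq, quadFormOdd_eq, hx, he0] at hq
  have hq0 : qH (0 : Fin m ⊕ Fin m → F) = 0 := by simp [qH]
  rw [hq0, add_zero, add_zero] at hq
  have h1 : (e0 : Unit ⊕ (Fin m ⊕ Fin m) → F) (Sum.inl ()) = 1 := by simp [e0]
  rw [h1] at hq
  have h2 : (g.1 *ᵥ (e0 : Unit ⊕ (Fin m ⊕ Fin m) → F)) (Sum.inl ()) = 1 := by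
    have h3 : ((g.1 *ᵥ (e0 : Unit ⊕ (Fin m ⊕ Fin m) → F)) (Sum.inl ()) - 1) ^ 2 = 0 := by
      linear_combination hq +
        (1 - (g.1 *ᵥ (e0 : Unit ⊕ (Fin m ⊕ Fin m) → F)) (Sum.inl ())) * (two_eq_zero' (F := F))
    have h4 := pow_eq_zero_iff (two_ne_zero) |>.mp h3
    linear_combination h4
  ext k
  rcases k with ⟨⟩ | k
  · rw [h2, h1]
  · have := congrFun hx k
    simp only [Function.comp, Pi.zero_apply] at this
    rw [this]
    simp [e0]

theorem col_zero {g : GL (Unit ⊕ (Fin m ⊕ Fin m)) F}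
    (hg : g ∈ Cfsg.isometryGroup F (Cfsg.quadFormOdd m F)) (k : Unit ⊕ (Fin m ⊕ Fin m)) :
    g.1 k (Sum.inl ()) = (e0 : _ → F) k := by
  have := congrFun (fix_e0 hg) k
  rw [e0, Matrix.mulVec_single_one] at this
  exact this


/-- the first row of a matrix, without its first entry -/
def rowOf (M : Matrix (Unit ⊕ (Fin m ⊕ Fin m)) (Unit ⊕ (Fin m ⊕ Fin m)) F) :
    Fin m ⊕ Fin m → F := fun k => M (Sum.inl ()) (Sum.inr k)

theorem mulVec_inl {g : GL (Unit ⊕ (Fin m ⊕ Fin m)) F}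
    (hg : g ∈ Cfsg.isometryGroup F (Cfsg.quadFormOdd m F)) (v : Unit ⊕ (Fin m ⊕ Fin m) → F) :
    (g.1 *ᵥ v) (Sum.inl ()) = v (Sum.inl ()) + rowOf g.1 ⬝ᵥ (v ∘ Sum.inr) := by
  have h := col_zero hg (Sum.inl ())
  simp only [e0, Pi.single_eq_same] at h
  simp [Matrix.mulVec, dotProduct, Fintype.sum_sum_type, h, rowOf]

theorem mulVec_inr {g : GL (Unit ⊕ (Fin m ⊕ Fin m)) F}
    (hg : g ∈ Cfsg.isometryGroup F (Cfsg.quadFormOdd m F)) (v : Unit ⊕ (Fin m ⊕ Fin m) → F) :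
    (g.1 *ᵥ v) ∘ Sum.inr = g.1.toBlocks₂₂ *ᵥ (v ∘ Sum.inr) := by
  ext k
  have h := col_zero hg (Sum.inr k)
  simp only [e0] at h
  rw [Pi.single_eq_of_ne (by simp)] at h
  simp [Matrix.mulVec, dotProduct, Fintype.sum_sum_type, h, Matrix.toBlocks₂₂]

theorem good_of_mem {g : GL (Unit ⊕ (Fin m ⊕ Fin m)) F}
    (hg : g ∈ Cfsg.isometryGroup F (Cfsg.quadFormOdd m F)) :
    Good (rowOf g.1) g.1.toBlocks₂₂ := by
  intro w
  have h := (mem_iff g).mp hg (Sum.elim (fun _ => (0 : F)) w)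
  rw [quadFormOdd_eq, quadFormOdd_eq, mulVec_inl hg, mulVec_inr hg] at h
  have h1 : (Sum.elim (fun _ => (0 : F)) w : Unit ⊕ (Fin m ⊕ Fin m) → F) ∘ Sum.inr = w := rfl
  rw [h1] at h
  simpa using h

theorem preserves_of_good {r : Fin m ⊕ Fin m → F}
    {A : Matrix (Fin m ⊕ Fin m) (Fin m ⊕ Fin m) F} (h : Good r A)
    (v : Unit ⊕ (Fin m ⊕ Fin m) → F) :
    Cfsg.quadFormOdd m F ((Matrix.fromBlocks (1 : Matrix Unit Unit F) (Matrix.of fun _ k => r k) 0 A)
      *ᵥ v) = Cfsg.quadFormOdd m F v := by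
  rw [quadFormOdd_eq, quadFormOdd_eq, Matrix.fromBlocks_mulVec]
  have h1 : (Sum.elim ((1 : Matrix Unit Unit F) *ᵥ (v ∘ Sum.inl) +
      (Matrix.of fun _ k => r k) *ᵥ (v ∘ Sum.inr))
      ((0 : Matrix (Fin m ⊕ Fin m) Unit F) *ᵥ (v ∘ Sum.inl) + A *ᵥ (v ∘ Sum.inr)) :
        Unit ⊕ (Fin m ⊕ Fin m) → F) ∘ Sum.inr = A *ᵥ (v ∘ Sum.inr) := by
    ext k
    simp
  rw [h1]
  have h2 : (Sum.elim ((1 : Matrix Unit Unit F) *ᵥ (v ∘ Sum.inl) +
      (Matrix.of fun _ k => r k) *ᵥ (v ∘ Sum.inr))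
      ((0 : Matrix (Fin m ⊕ Fin m) Unit F) *ᵥ (v ∘ Sum.inl) + A *ᵥ (v ∘ Sum.inr)) :
        Unit ⊕ (Fin m ⊕ Fin m) → F) (Sum.inl ()) = v (Sum.inl ()) + r ⬝ᵥ (v ∘ Sum.inr) := by
    simp [Matrix.mulVec, dotProduct]
  rw [h2]
  have := h (v ∘ Sum.inr)
  linear_combination this + (v (Sum.inl ()) * (r ⬝ᵥ (v ∘ Sum.inr))) * (two_eq_zero' (F := F))

/-- the homomorphism `O_{2m+1}(F) → Sp_{2m}(F)` -/
noncomputable def phi : Cfsg.isometryGroup F (Cfsg.quadFormOdd m F) →*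
    Matrix.symplecticGroup (Fin m) F where
  toFun g := ⟨g.1.1.toBlocks₂₂, mem_symplectic_of_bH (good_of_mem g.2).bH⟩
  map_one' := by
    apply Subtype.ext
    ext i j
    simp [Matrix.toBlocks₂₂, Matrix.one_apply]
  map_mul' g h := by
    apply Subtype.ext
    ext i j
    have h0 := col_zero g.2 (Sum.inr i)
    simp only [e0] at h0
    rw [Pi.single_eq_of_ne (by simp)] at h0
    simp [Matrix.toBlocks₂₂, Matrix.mul_apply, Fintype.sum_sum_type, h0]

theorem phi_coe (g : Cfsg.isometryGroup F (Cfsg.quadFormOdd m F)) :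
    (phi g).1 = g.1.1.toBlocks₂₂ := rfl

theorem phi_injective : Function.Injective (phi (F := F) (m := m)) := by
  rw [injective_iff_map_eq_one]
  intro g hg
  have hA : g.1.1.toBlocks₂₂ = 1 := by rw [← phi_coe, hg]; rfl
  have hgood := good_of_mem g.2
  rw [hA] at hgood
  have hr : rowOf g.1.1 = 0 := by
    ext k
    have := hgood (Pi.single k 1)
    rw [Matrix.one_mulVec, add_eq_right, dotProduct_single_one] at this
    exact pow_eq_zero_iff (two_ne_zero) |>.mp this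
  apply Subtype.ext
  apply Units.ext
  ext i j
  rcases i with ⟨⟩ | i <;> rcases j with ⟨⟩ | j
  · have := col_zero g.2 (Sum.inl ())
    simpa [e0] using this
  · have := congrFun hr j
    simpa [rowOf] using this
  · have := col_zero g.2 (Sum.inr i)
    simpa [e0] using this
  · have := congrFun (congrFun hA i) j
    simpa [Matrix.toBlocks₂₂, Matrix.one_apply] using this

theorem phi_surjective [Finite F] : Function.Surjective (phi (F := F) (m := m)) := by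
  intro A
  obtain ⟨r, hr⟩ := good_of_bH A.1 (bH_of_mem_symplectic A.2)
  have hdet : (Matrix.fromBlocks (1 : Matrix Unit Unit F) (Matrix.of fun _ k => r k) 0 A.1).det ≠ 0 := by
    rw [Matrix.det_fromBlocks_zero₂₁, Matrix.det_one, one_mul]
    exact (SymplecticGroup.symplectic_det A.2).ne_zero
  have hmem : Matrix.GeneralLinearGroup.mkOfDetNeZero _ hdet ∈
      Cfsg.isometryGroup F (Cfsg.quadFormOdd m F) := by
    rw [mem_iff]
    intro v
    exact preserves_of_good hr v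
  refine ⟨⟨_, hmem⟩, ?_⟩
  apply Subtype.ext
  rw [phi_coe]
  exact Matrix.toBlocks_fromBlocks₂₂ _ _ _ _

theorem result {F : Type*} [Field F] [Fintype F] [CharP F 2] (m : ℕ) : Nonempty (Cfsg.isometryGroup F (Cfsg.quadFormOdd m F) ≃* Matrix.symplecticGroup (Fin m) F) :=
  ⟨MulEquiv.ofBijective phi ⟨phi_injective, phi_surjective⟩⟩

end Cfsg.Agent.S0304
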