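import Mathlib
import Cfsg.Statements.S0305
-- import your own Cfsg.Agent.* helpers here

set_option autoImplicit false
open Cfsg

namespace Cfsg.Agent.S0305

open Matrix

variable {F : Type*} [Field F]

abbrev I2 := Fin 1 ⊕ Fin 1

/-- the matrix `diag(t, u)` -/
def dM (t u : F) : Matrix I2 I2 F := Matrix.fromBlocks (t • 1) 0 0 (u • 1)
/-- the matrix `antidiag(t, u)` -/
def aM (t u : F) : Matrix I2 I2 F := Matrix.fromBlocks 0 (t • 1) (u • 1) 0

lemma dM_mul_dM (t u t' u' : F) : dM t u * dM t' u' = dM (t * t') (u * u') := by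
  simp [dM, Matrix.fromBlocks_multiply, smul_smul, mul_comm]
lemma dM_mul_aM (t u t' u' : F) : dM t u * aM t' u' = aM (t * t') (u * u') := by
  simp [dM, aM, Matrix.fromBlocks_multiply, smul_smul, mul_comm]
lemma aM_mul_dM (t u t' u' : F) : aM t u * dM t' u' = aM (t * u') (u * t') := by
  simp [dM, aM, Matrix.fromBlocks_multiply, smul_smul, mul_comm]
lemma aM_mul_aM (t u t' u' : F) : aM t u * aM t' u' = dM (t * u') (u * t') := by
  simp [dM, aM, Matrix.fromBlocks_multiply, smul_smul, mul_comm]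
lemma dM_one : dM (1 : F) 1 = 1 := by
  simp [dM, Matrix.fromBlocks_one]

/-- rotation -/
def R (t : Fˣ) : GL I2 F where
  val := dM (t : F) ((t⁻¹ : Fˣ) : F)
  inv := dM ((t⁻¹ : Fˣ) : F) (t : F)
  val_inv := by rw [dM_mul_dM]; simp [dM_one]
  inv_val := by rw [dM_mul_dM]; simp [dM_one]

/-- reflection -/
def S (t : Fˣ) : GL I2 F where
  val := aM (t : F) ((t⁻¹ : Fˣ) : F)
  inv := aM (t : F) ((t⁻¹ : Fˣ) : F)
  val_inv := by rw [aM_mul_aM]; simp [dM_one]
  inv_val := by rw [aM_mul_aM]; simp [dM_one]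

lemma R_mul_R (t u : Fˣ) : R t * R u = R (t * u) := by
  apply Units.ext
  show dM _ _ * dM _ _ = dM _ _
  rw [dM_mul_dM]; simp [mul_comm]
lemma R_mul_S (t u : Fˣ) : R t * S u = S (t * u) := by
  apply Units.ext
  show dM _ _ * aM _ _ = aM _ _
  rw [dM_mul_aM]; simp [mul_comm]
lemma S_mul_R (t u : Fˣ) : S t * R u = S (t * u⁻¹) := by
  apply Units.ext
  show aM _ _ * dM _ _ = aM _ _
  rw [aM_mul_dM]; simp [mul_comm]
lemma S_mul_S (t u : Fˣ) : S t * S u = R (t * u⁻¹) := by
  apply Units.ext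
  show aM _ _ * aM _ _ = dM _ _
  rw [aM_mul_aM]; simp [mul_comm]

lemma dM_mulVec (t u : F) (v : I2 → F) :
    dM t u *ᵥ v = Sum.elim (fun i => t * v (Sum.inl i)) (fun i => u * v (Sum.inr i)) := by
  rw [dM, Matrix.fromBlocks_mulVec]
  ext i
  rcases i with i | i <;> simp [Matrix.smul_mulVec]

lemma aM_mulVec (t u : F) (v : I2 → F) :
    aM t u *ᵥ v = Sum.elim (fun i => t * v (Sum.inr i)) (fun i => u * v (Sum.inl i)) := by
  rw [aM, Matrix.fromBlocks_mulVec]
  ext i
  rcases i with i | i <;> simp [Matrix.smul_mulVec]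

lemma mem_iso_iff (g : GL I2 F) :
    g ∈ Cfsg.isometryGroup F (Cfsg.quadFormPlus 1 F) ↔
      ∀ u : I2 → F, ((g : Matrix I2 I2 F) *ᵥ u) (Sum.inl 0) * ((g : Matrix I2 I2 F) *ᵥ u) (Sum.inr 0)
        = u (Sum.inl 0) * u (Sum.inr 0) := by
  unfold Cfsg.isometryGroup Cfsg.preserving
  simp only [Subgroup.mem_mk, Submonoid.mem_mk, Subsemigroup.mem_mk, Set.mem_setOf_eq,
    Cfsg.quadFormPlus, Units.coeHom_apply, Finset.univ_unique, Fin.default_eq_zero,
    Finset.sum_singleton]
  constructor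
  · intro h u; exact h u u
  · intro h u _; exact h u

lemma R_mem (t : Fˣ) : R t ∈ Cfsg.isometryGroup F (Cfsg.quadFormPlus 1 F) := by
  rw [mem_iso_iff]
  intro u
  show (dM _ _ *ᵥ u) _ * (dM _ _ *ᵥ u) _ = _
  rw [dM_mulVec]
  simp only [Sum.elim_inl, Sum.elim_inr]
  have : (t : F) * ((t⁻¹ : Fˣ) : F) = 1 := by simp
  linear_combination (u (Sum.inl 0) * u (Sum.inr 0)) * this

lemma S_mem (t : Fˣ) : S t ∈ Cfsg.isometryGroup F (Cfsg.quadFormPlus 1 F) := by
  rw [mem_iso_iff]
  intro u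
  show (aM _ _ *ᵥ u) _ * (aM _ _ *ᵥ u) _ = _
  rw [aM_mulVec]
  simp only [Sum.elim_inl, Sum.elim_inr]
  have : (t : F) * ((t⁻¹ : Fˣ) : F) = 1 := by simp
  linear_combination (u (Sum.inl 0) * u (Sum.inr 0)) * this

lemma mat_ext {M N : Matrix I2 I2 F} (h1 : M (Sum.inl 0) (Sum.inl 0) = N (Sum.inl 0) (Sum.inl 0))
    (h2 : M (Sum.inl 0) (Sum.inr 0) = N (Sum.inl 0) (Sum.inr 0))
    (h3 : M (Sum.inr 0) (Sum.inl 0) = N (Sum.inr 0) (Sum.inl 0))
    (h4 : M (Sum.inr 0) (Sum.inr 0) = N (Sum.inr 0) (Sum.inr 0)) : M = N := by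
  ext i j
  rcases i with i | i <;> rcases j with j | j <;>
    (rw [Fin.fin_one_eq_zero i, Fin.fin_one_eq_zero j]; assumption)

lemma classify {g : GL I2 F} (hg : g ∈ Cfsg.isometryGroup F (Cfsg.quadFormPlus 1 F)) :
    ∃ t : Fˣ, g = R t ∨ g = S t := by
  rw [mem_iso_iff] at hg
  set M : Matrix I2 I2 F := (g : Matrix I2 I2 F) with hM
  have h1 := hg (Pi.single (Sum.inl 0) 1)
  have h2 := hg (Pi.single (Sum.inr 0) 1)
  have h3 := hg (fun _ => 1)
  simp only [Matrix.mulVec, dotProduct, Fintype.sum_sum_type, Finset.univ_unique,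
    Fin.default_eq_zero, Finset.sum_singleton, Pi.single_eq_same, mul_one, ne_eq, reduceCtorEq,
    not_false_eq_true, Pi.single_eq_of_ne, mul_zero, add_zero, zero_add] at h1 h2 h3
  rcases mul_eq_zero.mp h1 with ha | hc
  · -- a = 0 : antidiagonal
    rw [ha, zero_add] at h3
    have hb : M (Sum.inl 0) (Sum.inr 0) ≠ 0 := by
      intro h; rw [h, zero_mul] at h3; exact zero_ne_one h3
    have hd : M (Sum.inr 0) (Sum.inr 0) = 0 := by
      rcases mul_eq_zero.mp h2 with h | h
      · exact absurd h hb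
      · exact h
    rw [hd, add_zero] at h3
    refine ⟨Units.mk0 _ hb, Or.inr ?_⟩
    apply Units.ext
    show M = aM _ _
    apply mat_ext
    · simp [aM, ha]
    · simp [aM]
    · simp only [aM, Units.val_inv_eq_inv_val, Units.val_mk0, Matrix.fromBlocks_apply₂₁,
        Matrix.smul_apply, Matrix.one_apply_eq, smul_eq_mul, mul_one]
      exact eq_inv_of_mul_eq_one_right h3
    · simp [aM, hd]
  · -- c = 0 : diagonal
    rw [hc, zero_add] at h3
    have hd : M (Sum.inr 0) (Sum.inr 0) ≠ 0 := by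
      intro h; rw [h, mul_zero] at h3; exact zero_ne_one h3
    have hb : M (Sum.inl 0) (Sum.inr 0) = 0 := by
      rcases mul_eq_zero.mp h2 with h | h
      · exact h
      · exact absurd h hd
    rw [hb, add_zero] at h3
    have ha : M (Sum.inl 0) (Sum.inl 0) ≠ 0 := by
      intro h; rw [h, zero_mul] at h3; exact zero_ne_one h3
    refine ⟨Units.mk0 _ ha, Or.inl ?_⟩
    apply Units.ext
    show M = dM _ _
    apply mat_ext
    · simp [dM]
    · simp [dM, hb]
    · simp [dM, hc]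
    · simp only [dM, Units.val_inv_eq_inv_val, Units.val_mk0, Matrix.fromBlocks_apply₂₂,
        Matrix.smul_apply, Matrix.one_apply_eq, smul_eq_mul, mul_one]
      exact eq_inv_of_mul_eq_one_right h3

lemma R_inj {t u : Fˣ} (h : R t = R u) : t = u := by
  have h' := congrArg (fun g : GL I2 F => (g : Matrix I2 I2 F) (Sum.inl 0) (Sum.inl 0)) h
  apply Units.ext
  simpa [R, dM] using h'

lemma S_inj {t u : Fˣ} (h : S t = S u) : t = u := by
  have h' := congrArg (fun g : GL I2 F => (g : Matrix I2 I2 F) (Sum.inl 0) (Sum.inr 0)) h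
  apply Units.ext
  simpa [S, aM] using h'

lemma R_ne_S (t u : Fˣ) : R t ≠ S u := by
  intro h
  have h' := congrArg (fun g : GL I2 F => (g : Matrix I2 I2 F) (Sum.inl 0) (Sum.inl 0)) h
  have : (t : F) = 0 := by simpa [R, S, dM, aM] using h'
  exact t.ne_zero this

/-- the map from the dihedral group -/
noncomputable def toIso {n : ℕ} (e : Multiplicative (ZMod n) ≃* Fˣ) :
    DihedralGroup n → Cfsg.isometryGroup F (Cfsg.quadFormPlus 1 F)
  | DihedralGroup.r i => ⟨R (e (Multiplicative.ofAdd i)), R_mem _⟩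
  | DihedralGroup.sr i => ⟨S (e (Multiplicative.ofAdd (-i))), S_mem _⟩

lemma toIso_mul {n : ℕ} (e : Multiplicative (ZMod n) ≃* Fˣ) (x y : DihedralGroup n) :
    toIso e (x * y) = toIso e x * toIso e y := by
  rcases x with i | i <;> rcases y with j | j
  · rw [DihedralGroup.r_mul_r]
    apply Subtype.ext
    show R _ = R _ * R _
    rw [R_mul_R, ← map_mul, ← ofAdd_add]
  · rw [DihedralGroup.r_mul_sr]
    apply Subtype.ext
    show S _ = R _ * S _
    rw [R_mul_S, ← map_mul, ← ofAdd_add]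
    congr 3; ring
  · rw [DihedralGroup.sr_mul_r]
    apply Subtype.ext
    show S _ = S _ * R _
    rw [S_mul_R, ← map_inv, ← map_mul, ← ofAdd_neg, ← ofAdd_add]
    congr 3; ring
  · rw [DihedralGroup.sr_mul_sr]
    apply Subtype.ext
    show R _ = S _ * S _
    rw [S_mul_S, ← map_inv, ← map_mul, ← ofAdd_neg, ← ofAdd_add]
    congr 3; ring

lemma toIso_injective {n : ℕ} (e : Multiplicative (ZMod n) ≃* Fˣ) :
    Function.Injective (toIso e) := by
  intro x y h
  have h' := congrArg Subtype.val h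
  rcases x with i | i <;> rcases y with j | j
  · have := R_inj (show R _ = R _ from h')
    have := Multiplicative.ofAdd.injective (e.injective this)
    rw [this]
  · exact absurd (show R _ = S _ from h') (R_ne_S _ _)
  · exact absurd (show R _ = S _ from h'.symm) (R_ne_S _ _)
  · have := S_inj (show S _ = S _ from h')
    have := Multiplicative.ofAdd.injective (e.injective this)
    rw [neg_inj.mp this]

lemma toIso_surjective {n : ℕ} (e : Multiplicative (ZMod n) ≃* Fˣ) :
    Function.Surjective (toIso e) := by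
  rintro ⟨g, hg⟩
  obtain ⟨t, rfl | rfl⟩ := classify hg
  · obtain ⟨i, rfl⟩ := e.surjective t
    refine ⟨DihedralGroup.r (Multiplicative.toAdd i), ?_⟩
    apply Subtype.ext
    show R _ = R _
    rw [ofAdd_toAdd]
  · obtain ⟨i, rfl⟩ := e.surjective t
    refine ⟨DihedralGroup.sr (-Multiplicative.toAdd i), ?_⟩
    apply Subtype.ext
    show S _ = S _
    rw [neg_neg, ofAdd_toAdd]

/-- GO^+_2(q) is dihedral of order 2(q-1). -/
theorem result {F : Type*} [Field F] [Fintype F] {q : ℕ} (hF : Fintype.card F = q) : Nonempty (Cfsg.isometryGroup F (Cfsg.quadFormPlus 1 F) ≃* DihedralGroup (q - 1)) := by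
  classical
  have hcard : Nat.card Fˣ = q - 1 := by
    rw [Nat.card_eq_fintype_card, Fintype.card_units, hF]
  have hcyc : IsCyclic Fˣ := inferInstance
  rw [← hcard]
  let e := zmodCyclicMulEquiv hcyc
  exact ⟨(MulEquiv.ofBijective (MonoidHom.mk' (toIso e) (toIso_mul e))
    ⟨toIso_injective e, toIso_surjective e⟩).symm⟩

end Cfsg.Agent.S0305
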