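import Mathlib
import Cfsg.Statements.S0307
-- import your own Cfsg.Agent.* helpers here

set_option autoImplicit false
open Cfsg

namespace Cfsg.Agent.S0307

open Matrix

/-- a cyclic group of order `m` maps onto `ZMod (gcd n m)` with kernel the `n`-th powers -/
lemma cyc_hom {C : Type*} [CommGroup C] {m : ℕ} [NeZero m] (e : C ≃* Multiplicative (ZMod m)) (n : ℕ) :
    ∃ φ : C →* Multiplicative (ZMod (Nat.gcd n m)), Function.Surjective φ ∧
      ∀ u, φ u = 1 ↔ ∃ k : C, k ^ n = u := by
  have hdm : Nat.gcd n m ∣ m := Nat.gcd_dvd_right n m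
  have hdn : Nat.gcd n m ∣ n := Nat.gcd_dvd_left n m
  let c : ZMod m →+* ZMod (Nat.gcd n m) := ZMod.castHom hdm (ZMod (Nat.gcd n m))
  let φ : C →* Multiplicative (ZMod (Nat.gcd n m)) :=
    (AddMonoidHom.toMultiplicative c.toAddMonoidHom).comp e.toMonoidHom
  have hφ : ∀ u, φ u = Multiplicative.ofAdd (c (Multiplicative.toAdd (e u))) := fun u => rfl
  refine ⟨φ, ?_, ?_⟩
  · intro y
    obtain ⟨x, hx⟩ := ZMod.ringHom_surjective c (Multiplicative.toAdd y)
    refine ⟨e.symm (Multiplicative.ofAdd x), ?_⟩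
    rw [hφ, MulEquiv.apply_symm_apply, toAdd_ofAdd, hx, ofAdd_toAdd]
  · intro u
    constructor
    · intro hu
      rw [hφ] at hu
      have hu' : c (Multiplicative.toAdd (e u)) = 0 := by
        have := congrArg Multiplicative.toAdd hu
        simpa using this
      set x : ZMod m := Multiplicative.toAdd (e u) with hx
      have hcx : ((x.val : ℕ) : ZMod (Nat.gcd n m)) = 0 := by
        rw [ZMod.natCast_val]; rw [← hu']; rfl
      rw [ZMod.natCast_eq_zero_iff] at hcx
      obtain ⟨j, hj⟩ := hcx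
      -- Bezout
      have hbez : ((Nat.gcd n m : ℕ) : ZMod m) = (n : ZMod m) * ((Nat.gcdA n m : ℤ) : ZMod m) := by
        have h := Nat.gcd_eq_gcd_ab n m
        have h' := congrArg (fun z : ℤ => (z : ZMod m)) h
        simp only [Int.cast_natCast, Int.cast_add, Int.cast_mul, ZMod.natCast_self, zero_mul,
          add_zero] at h'
        exact h'
      have hxeq : x = (n : ZMod m) * (((Nat.gcdA n m : ℤ) : ZMod m) * (j : ZMod m)) := by
        rw [← mul_assoc, ← hbez, ← Nat.cast_mul, ← hj, ZMod.natCast_zmod_val]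
      refine ⟨e.symm (Multiplicative.ofAdd (((Nat.gcdA n m : ℤ) : ZMod m) * (j : ZMod m))), ?_⟩
      apply e.injective
      rw [map_pow, MulEquiv.apply_symm_apply, ← ofAdd_nsmul, nsmul_eq_mul, ← hxeq, hx, ofAdd_toAdd]
    · rintro ⟨k, rfl⟩
      rw [map_pow]
      apply Multiplicative.toAdd.injective
      rw [toAdd_pow, toAdd_one, nsmul_eq_mul, (ZMod.natCast_eq_zero_iff n _).2 hdn, zero_mul]

/-- PSL_n(q) is normal in PGL_n(q) with cyclic quotient of order gcd(n, q-1): the image of the natural map PSL_n → PGL_n is the kernel of a surjective homomorphism onto the cyclic group of that order. -/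
theorem result {F : Type*} [Field F] [Fintype F] {q : ℕ} (hF : Fintype.card F = q) (n : ℕ) (hn : 1 ≤ n) : ∃ g : Matrix.ProjGenLinGroup (Fin n) F →* Multiplicative (ZMod (Nat.gcd n (q - 1))), Function.Surjective g ∧ g.ker = (Matrix.ProjectiveSpecialLinearGroup.toPGL : Matrix.ProjectiveSpecialLinearGroup (Fin n) F →* Matrix.ProjGenLinGroup (Fin n) F).range := by
  classical
  have hcard : Nat.card Fˣ = q - 1 := by
    rw [Nat.card_eq_fintype_card, Fintype.card_units, hF]
  have hcyc : IsCyclic Fˣ := inferInstance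
  rw [← hcard]
  haveI : NeZero (Nat.card Fˣ) := ⟨Nat.card_pos.ne'⟩
  obtain ⟨φ, hφs, hφk⟩ := cyc_hom (zmodCyclicMulEquiv hcyc).symm n
  haveI : Nonempty (Fin n) := ⟨⟨0, hn⟩⟩
  have hscal : (φ.comp GeneralLinearGroup.det).comp (GeneralLinearGroup.scalar (Fin n)) = 1 := by
    ext u
    rw [MonoidHom.comp_apply, MonoidHom.comp_apply, GeneralLinearGroup.det_scalar,
      Fintype.card_fin, MonoidHom.one_apply]
    exact congrArg _ ((hφk _).2 ⟨u, rfl⟩)
  refine ⟨ProjGenLinGroup.lift (φ.comp GeneralLinearGroup.det) hscal, ?_, ?_⟩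
  · intro y
    obtain ⟨u, hu⟩ := hφs y
    obtain ⟨A, hA⟩ := GeneralLinearGroup.det_surjective (n := Fin n) u
    refine ⟨ProjGenLinGroup.mk A, ?_⟩
    rw [ProjGenLinGroup.lift_mk, MonoidHom.comp_apply, hA, hu]
  · ext x
    induction x using ProjGenLinGroup.induction_on with | mk A =>
    rw [MonoidHom.mem_ker, ProjGenLinGroup.lift_mk, MonoidHom.comp_apply, hφk, MonoidHom.mem_range]
    constructor
    · rintro ⟨k, hk⟩
      have hr : (k⁻¹) ^ Fintype.card (Fin n) * GeneralLinearGroup.det A = 1 := by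
        rw [Fintype.card_fin, ← hk, inv_pow, inv_mul_cancel]
      simp only [Units.ext_iff, Units.val_mul, Units.val_pow_eq_pow_val,
        GeneralLinearGroup.val_det_apply, ← Matrix.det_smul A.1 (k⁻¹ : Fˣ).1, Units.val_one] at hr
      let X : SpecialLinearGroup (Fin n) F := ⟨(k⁻¹ : Fˣ).1 • A.1, hr⟩
      refine ⟨QuotientGroup.mk X, ?_⟩
      have h1 : ProjectiveSpecialLinearGroup.toPGL (QuotientGroup.mk X : ProjectiveSpecialLinearGroup (Fin n) F)
          = ProjGenLinGroup.mk (SpecialLinearGroup.toGL X) := rfl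
      rw [h1, ProjGenLinGroup.mk_eq_mk_iff]
      refine ⟨k, Units.ext ?_⟩
      rw [Units.val_mul, SpecialLinearGroup.coe_GL_coe_matrix, GeneralLinearGroup.coe_scalar]
      show ((k⁻¹ : Fˣ).1 • A.1) * Matrix.scalar (Fin n) (k : F) = A.1
      rw [Matrix.scalar_apply, Matrix.smul_mul, ← Matrix.mul_smul, ← Matrix.diagonal_smul]
      have : ((k⁻¹ : Fˣ) : F) • (fun _ : Fin n => (k : F)) = fun _ => 1 := by
        funext i; simp
      rw [this, Matrix.diagonal_one, mul_one]
    · rintro ⟨X, hX⟩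
      induction X using QuotientGroup.induction_on with | H X =>
      rw [ProjectiveSpecialLinearGroup.toPGL_mk, ProjGenLinGroup.mk_eq_mk_iff] at hX
      obtain ⟨u, hu⟩ := hX
      refine ⟨u, ?_⟩
      have := congrArg GeneralLinearGroup.det hu
      rw [map_mul, GeneralLinearGroup.det_scalar, Fintype.card_fin] at this
      rw [← this]
      have hX1 : GeneralLinearGroup.det (SpecialLinearGroup.toGL X) = 1 := by
        apply Units.ext
        simp
      rw [hX1, one_mul]

end Cfsg.Agent.S0307
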