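import Mathlib
import Cfsg.Statements.S0310
import Cfsg.Agent.Lib.Helper2.BNPair

set_option autoImplicit false
open Cfsg

namespace Cfsg.Agent.S0310

open Cfsg.Agent.Helper2.BN Cfsg.Agent.Helper2.WordLen

/-- For a set `J` of distinguished generators, the subgroup generated by `B` and `J` is exactly the union of
the double cosets `B n B` with `n` in the subgroup generated by `J` (so `B W_J B` is a subgroup). -/
theorem result {G : Type*} [Group G] (P : Cfsg.BNPair G) {J : Set G}
    (hJ : J ⊆ P.S) (g : G) :
    g ∈ P.parabolic J ↔ ∃ n ∈ Subgroup.closure J, g ∈ DoubleCoset.doubleCoset n (P.B : Set G) P.B := by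
  constructor
  · intro hg
    rw [mem_parabolic_iff P hJ] at hg
    obtain ⟨l, hl, hg⟩ := hg
    refine ⟨gp P l, gp_mem_closure P l hl, ?_⟩
    rw [← π_gp, mem_C_iff_doubleCoset] at hg
    exact hg
  · rintro ⟨n, hn, hg⟩
    rw [DoubleCoset.mem_doubleCoset] at hg
    obtain ⟨b, hb, b', hb', rfl⟩ := hg
    have h1 : n ∈ P.parabolic J := (le_sup_right : Subgroup.closure J ≤ P.parabolic J) hn
    exact (P.parabolic J).mul_mem ((P.parabolic J).mul_mem (B_le_parabolic P J hb) h1)
      (B_le_parabolic P J hb')

end Cfsg.Agent.S0310
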