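import Mathlib
import Cfsg.Statements.S0314
import Cfsg.Agent.Lib.Helper2.BNPair

set_option autoImplicit false
open Cfsg

namespace Cfsg.Agent.S0314

open Cfsg.Agent.Helper2.BN

/-- Distinct sets of distinguished generators give distinct standard parabolic subgroups. -/
theorem result {G : Type*} [Group G] (P : Cfsg.BNPair G) {J K : Set G}
    (hJ : J ⊆ P.S) (hK : K ⊆ P.S) (h : P.parabolic J = P.parabolic K) : J = K := by
  apply Set.Subset.antisymm
  · intro s hs
    have h1 : s ∈ P.parabolic J :=
      (le_sup_right : Subgroup.closure J ≤ P.parabolic J) (Subgroup.subset_closure hs)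
    rw [h] at h1
    exact mem_of_mem_parabolic P hK ⟨s, hJ hs⟩ h1
  · intro s hs
    have h1 : s ∈ P.parabolic K :=
      (le_sup_right : Subgroup.closure K ≤ P.parabolic K) (Subgroup.subset_closure hs)
    rw [← h] at h1
    exact mem_of_mem_parabolic P hJ ⟨s, hK hs⟩ h1

end Cfsg.Agent.S0314
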