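import Mathlib
import Cfsg.Statements.S0315
import Cfsg.Agent.Lib.Helper2.BNPair

set_option autoImplicit false
open Cfsg

namespace Cfsg.Agent.S0315

open Cfsg.Agent.Helper2.BN

/-- Standard parabolic subgroups intersect as the index sets do: `P_J ⊓ P_K = P_{J ∩ K}`. -/
theorem result {G : Type*} [Group G] (P : Cfsg.BNPair G) {J K : Set G}
    (hJ : J ⊆ P.S) (hK : K ⊆ P.S) : P.parabolic J ⊓ P.parabolic K = P.parabolic (J ∩ K) := by
  apply le_antisymm
  · have hB : P.B ≤ P.parabolic J ⊓ P.parabolic K :=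
      le_inf (B_le_parabolic P J) (B_le_parabolic P K)
    rw [eq_parabolic P _ hB]
    apply sup_le_sup_left
    apply Subgroup.closure_mono
    rintro s ⟨hs, hsJ, hsK⟩
    exact ⟨mem_of_mem_parabolic P hJ ⟨s, hs⟩ hsJ, mem_of_mem_parabolic P hK ⟨s, hs⟩ hsK⟩
  · apply le_inf
    · exact sup_le_sup_left (Subgroup.closure_mono Set.inter_subset_left) _
    · exact sup_le_sup_left (Subgroup.closure_mono Set.inter_subset_right) _

end Cfsg.Agent.S0315
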