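import Mathlib
import Cfsg.Statements.S0316
import Cfsg.Agent.Lib.Helper2.BNPair

set_option autoImplicit false
open Cfsg

namespace Cfsg.Agent.S0316

open Cfsg.Agent.Helper2.BN

variable {G : Type*} [Group G] (P : Cfsg.BNPair G)

theorem image_subset (J : Set P.S) : Subtype.val '' J ⊆ P.S := by
  rintro _ ⟨s, _, rfl⟩
  exact s.2

theorem left_inv_aux (J : Set P.S) :
    {s : P.S | (s : G) ∈ P.parabolic (Subtype.val '' J)} = J := by
  ext s
  constructor
  · intro hs
    have := mem_of_mem_parabolic P (image_subset P J) s hs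
    obtain ⟨s', hs', hss'⟩ := this
    have : s' = s := Subtype.ext hss'
    rwa [← this]
  · intro hs
    apply (le_sup_right : Subgroup.closure (Subtype.val '' J) ≤ P.parabolic _)
    exact Subgroup.subset_closure ⟨s, hs, rfl⟩

theorem right_inv_aux (M : Subgroup G) (hM : P.B ≤ M) :
    P.parabolic (Subtype.val '' {s : P.S | (s : G) ∈ M}) = M := by
  conv_rhs => rw [eq_parabolic P M hM]
  congr 1
  ext s
  constructor
  · rintro ⟨s', hs', rfl⟩
    exact ⟨s'.2, hs'⟩
  · rintro ⟨hs, hsM⟩
    exact ⟨⟨s, hs⟩, hsM, rfl⟩

/-- The map `J ↦ P_J` is a lattice isomorphism from the power set of the set of distinguished generators onto the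
subgroups containing `B`. -/
theorem result {G : Type*} [Group G] (P : Cfsg.BNPair G) :
    ∃ e : Set P.S ≃o {M : Subgroup G // P.B ≤ M},
      ∀ J : Set P.S, ((e J : {M : Subgroup G // P.B ≤ M}) : Subgroup G) = P.parabolic (Subtype.val '' J) := by
  refine ⟨{ toFun := fun J => ⟨P.parabolic (Subtype.val '' J), B_le_parabolic P _⟩
            invFun := fun M => {s : P.S | (s : G) ∈ M.1}
            left_inv := fun J => left_inv_aux P J
            right_inv := fun M => Subtype.ext (right_inv_aux P M.1 M.2)
            map_rel_iff' := ?_ }, fun J => rfl⟩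
  intro J K
  constructor
  · intro h
    rw [← left_inv_aux P J, ← left_inv_aux P K]
    intro s hs
    exact h hs
  · intro h
    change P.parabolic _ ≤ P.parabolic _
    exact sup_le_sup_left (Subgroup.closure_mono (Set.image_mono h)) _

end Cfsg.Agent.S0316
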