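import Mathlib
import Cfsg.Statements.S0321
import Cfsg.Agent.Lib.Helper2.BNPair

set_option autoImplicit false
open Cfsg

namespace Cfsg.Agent.S0321

open Cfsg.Agent.Helper2.BN Cfsg.Agent.Helper2.WordLen

variable {G : Type*} [Group G] (P : Cfsg.BNPair G)

theorem wp_const (s : P.S) : ∀ l : List P.S, (∀ x ∈ l, x = s) →
    wp (σ P) l = 1 ∨ wp (σ P) l = σ P s := by
  intro l
  induction l with
  | nil => intro _; left; simp
  | cons x l ih =>
    intro h
    have hx : x = s := h x (by simp)
    rcases ih (fun y hy => h y (by simp [hy])) with h1 | h1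
    · right; rw [wp_cons, h1, hx, mul_one]
    · left; rw [wp_cons, h1, hx, σ_mul_self]

/-- For `n ∈ N` not in `B`, the union `B ∪ B n B` is (the underlying set of) a subgroup exactly when `n` agrees
modulo `B ⊓ N` with one of the distinguished representatives; thus the distinguished involutions are
determined by `B` and `N`. -/
theorem result {G : Type*} [Group G] (P : Cfsg.BNPair G) {n : G}
    (hn : n ∈ P.N) (hnB : n ∉ P.B) :
    (∃ H : Subgroup G, (H : Set G) = (P.B : Set G) ∪ DoubleCoset.doubleCoset n (P.B : Set G) P.B) ↔ ∃ s ∈ P.S, s⁻¹ * n ∈ P.B := by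
  constructor
  · rintro ⟨H, hH⟩
    have hBH : P.B ≤ H := by
      intro b hb
      have : b ∈ (H : Set G) := by rw [hH]; exact Or.inl hb
      exact this
    have hnH : n ∈ H := by
      have : n ∈ (H : Set G) := by
        rw [hH]; exact Or.inr (DoubleCoset.mem_doubleCoset_self P.B P.B n)
      exact this
    have hpar := eq_parabolic P H hBH
    by_cases hJ : ({s | s ∈ P.S ∧ s ∈ H} : Set G).Nonempty
    · obtain ⟨s, hsS, hsH⟩ := hJ
      refine ⟨s, hsS, ?_⟩
      have hs : s ∈ (H : Set G) := hsH
      rw [hH] at hs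
      rcases hs with hs | hs
      · exfalso
        apply σ_ne_one P ⟨s, hsS⟩
        rw [σ, π_eq_one_iff]
        exact hs
      · have h1 : s ∈ C P (π P ⟨n, hn⟩) := by
          rw [mem_C_iff_doubleCoset]; exact hs
        have h2 : s ∈ C P (σ P ⟨s, hsS⟩) := gen_mem_C P ⟨s, hsS⟩
        have := C_inj P h2 h1
        rw [σ, π_eq_iff] at this
        exact this
    · exfalso
      rw [Set.not_nonempty_iff_eq_empty] at hJ
      rw [hJ, BNPair.parabolic, Subgroup.closure_empty, sup_bot_eq] at hpar
      rw [hpar] at hnH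
      exact hnB hnH
  · rintro ⟨s, hs, hsn⟩
    refine ⟨P.parabolic {s}, ?_⟩
    have hJS : ({s} : Set G) ⊆ P.S := by
      intro x hx; rw [Set.mem_singleton_iff] at hx; rw [hx]; exact hs
    have hσ : σ P ⟨s, hs⟩ = π P ⟨n, hn⟩ := by
      rw [σ, π_eq_iff]; exact hsn
    ext g
    rw [SetLike.mem_coe, mem_parabolic_iff P hJS]
    constructor
    · rintro ⟨l, hl, hg⟩
      have hl' : ∀ x ∈ l, x = (⟨s, hs⟩ : P.S) := by
        intro x hx
        exact Subtype.ext (hl x hx)
      rcases wp_const P ⟨s, hs⟩ l hl' with h1 | h1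
      · left
        rw [h1, C_one] at hg
        exact hg
      · right
        rw [h1, hσ, mem_C_iff_doubleCoset] at hg
        exact hg
    · rintro (hg | hg)
      · exact ⟨[], by simp, by rw [wp_nil, C_one]; exact hg⟩
      · refine ⟨[⟨s, hs⟩], by simp, ?_⟩
        rw [wp_singleton, hσ, mem_C_iff_doubleCoset]
        exact hg

end Cfsg.Agent.S0321
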