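import Mathlib
import Cfsg.Statements.S0322
import Cfsg.Agent.S0308

set_option autoImplicit false
open Cfsg

namespace Cfsg.Agent.S0322

variable {G : Type*} [Group G] (P : Cfsg.BNPair G)

lemma exists_S_eq (h : P.rank = 1) : ∃ s, P.S = {s} := by
  unfold Cfsg.BNPair.rank at h
  rw [Nat.card_coe_set_eq] at h
  exact Set.ncard_eq_one.mp h

lemma N_mem {s : G} (hS : P.S = {s}) : ∀ n ∈ P.N, n ∈ P.B ∨ s⁻¹ * n ∈ P.B := by
  have hsS : s ∈ P.S := by rw [hS]; rfl
  have hsN : s ∈ P.N := P.subset hsS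
  have hss : s * s ∈ P.B := P.sq_mem s hsS
  have hconj : ∀ t ∈ P.B ⊓ P.N, s⁻¹ * t * s ∈ P.B := by
    intro t ht
    have := P.conj_mem s⁻¹ (P.N.inv_mem hsN) t ht
    simpa using this
  intro n hn
  have hn' : n ∈ Subgroup.closure (P.S ∪ ((P.B ⊓ P.N : Subgroup G) : Set G)) := by
    rw [Subgroup.closure_union, Subgroup.closure_eq, P.closure_sup]; exact hn
  clear hn
  induction hn' using Subgroup.closure_induction_left with
  | one => exact Or.inl P.B.one_mem
  | mul_left x hx y _ ih =>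
    rcases hx with hx | hx
    · rw [hS, Set.mem_singleton_iff] at hx
      subst hx
      rcases ih with ih | ih
      · right; simpa using ih
      · left
        have : x * y = (x * x) * (x⁻¹ * y) := by group
        rw [this]; exact P.B.mul_mem hss ih
    · have hxB : x ∈ P.B := hx.1
      rcases ih with ih | ih
      · left; exact P.B.mul_mem hxB ih
      · right
        have : s⁻¹ * (x * y) = (s⁻¹ * x * s) * (s⁻¹ * y) := by group
        rw [this]; exact P.B.mul_mem (hconj x hx) ih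
  | inv_mul_cancel x hx y _ ih =>
    rcases hx with hx | hx
    · rw [hS, Set.mem_singleton_iff] at hx
      subst hx
      rcases ih with ih | ih
      · right
        have : x⁻¹ * (x⁻¹ * y) = (x * x)⁻¹ * y := by group
        rw [this]; exact P.B.mul_mem (P.B.inv_mem hss) ih
      · left; exact ih
    · have hxi : x⁻¹ ∈ P.B ⊓ P.N := (P.B ⊓ P.N).inv_mem hx
      rcases ih with ih | ih
      · left; exact P.B.mul_mem hxi.1 ih
      · right
        have : s⁻¹ * (x⁻¹ * y) = (s⁻¹ * x⁻¹ * s) * (s⁻¹ * y) := by group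
        rw [this]; exact P.B.mul_mem (hconj x⁻¹ hxi) ih

lemma bruhat_rank_one {s : G} (hS : P.S = {s}) (g : G) :
    g ∈ P.B ∨ ∃ x ∈ P.B, ∃ y ∈ P.B, g = x * s * y := by
  obtain ⟨n, hn, hg⟩ := Cfsg.Agent.S0308.result P g
  rw [DoubleCoset.mem_doubleCoset] at hg
  obtain ⟨x, hx, y, hy, rfl⟩ := hg
  have hx' : x ∈ P.B := hx
  have hy' : y ∈ P.B := hy
  rcases N_mem P hS n hn with h | h
  · left; exact P.B.mul_mem (P.B.mul_mem hx' h) hy'
  · right
    refine ⟨x, hx', (s⁻¹ * n) * y, P.B.mul_mem h hy', ?_⟩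
    group

lemma double_coset_trans {s : G} (hS : P.S = {s}) {u v : G} (hu : u ∉ P.B) (hv : v ∉ P.B) :
    ∃ x ∈ P.B, ∃ y ∈ P.B, v = x * u * y := by
  rcases bruhat_rank_one P hS u with h | ⟨x1, hx1, y1, hy1, e1⟩
  · exact absurd h hu
  rcases bruhat_rank_one P hS v with h | ⟨x2, hx2, y2, hy2, e2⟩
  · exact absurd h hv
  refine ⟨x2 * x1⁻¹, P.B.mul_mem hx2 (P.B.inv_mem hx1), y1⁻¹ * y2,
    P.B.mul_mem (P.B.inv_mem hy1) hy2, ?_⟩
  rw [e1, e2]; group

/-- A group with a (B,N)-pair of rank one acts doubly transitively on the left cosets of `B`. -/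
theorem result {G : Type*} [Group G] (P : Cfsg.BNPair G) (h : P.rank = 1) : MulAction.IsMultiplyPretransitive G (G ⧸ P.B) 2 := by
  obtain ⟨s, hS⟩ := exists_S_eq P h
  rw [MulAction.is_two_pretransitive_iff]
  intro a b c d hab hcd
  induction a using QuotientGroup.induction_on with | _ g₁ => ?_
  induction b using QuotientGroup.induction_on with | _ g₂ => ?_
  induction c using QuotientGroup.induction_on with | _ h₁ => ?_
  induction d using QuotientGroup.induction_on with | _ h₂ => ?_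
  have hu : g₁⁻¹ * g₂ ∉ P.B := fun hm => hab (QuotientGroup.eq.mpr hm)
  have hv : h₁⁻¹ * h₂ ∉ P.B := fun hm => hcd (QuotientGroup.eq.mpr hm)
  obtain ⟨x, hx, y, hy, e⟩ := double_coset_trans P hS hu hv
  refine ⟨h₁ * x * g₁⁻¹, ?_, ?_⟩
  · show ((h₁ * x * g₁⁻¹ * g₁ : G) : G ⧸ P.B) = (h₁ : G ⧸ P.B)
    rw [QuotientGroup.eq]
    have : (h₁ * x * g₁⁻¹ * g₁)⁻¹ * h₁ = x⁻¹ := by group
    rw [this]; exact P.B.inv_mem hx
  · show ((h₁ * x * g₁⁻¹ * g₂ : G) : G ⧸ P.B) = (h₂ : G ⧸ P.B)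
    rw [QuotientGroup.eq]
    have : (h₁ * x * g₁⁻¹ * g₂)⁻¹ * h₂ = (g₁⁻¹ * g₂)⁻¹ * x⁻¹ * (h₁⁻¹ * h₂) := by group
    rw [this, e]
    have : (g₁⁻¹ * g₂)⁻¹ * x⁻¹ * (x * (g₁⁻¹ * g₂) * y) = y := by group
    rw [this]; exact hy

end Cfsg.Agent.S0322
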