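import Mathlib
import Cfsg.Statements.S0323

set_option autoImplicit false
open scoped Pointwise
open Cfsg

namespace Cfsg.Agent.S0323

variable {G Ω : Type*} [Group G] [MulAction G Ω]

lemma mem_N_iff {x y : Ω} (g : G) :
    g ∈ MulAction.stabilizer G ({x, y} : Set Ω) ↔
      (g • x = x ∧ g • y = y) ∨ (g • x = y ∧ g • y = x) := by
  rw [MulAction.mem_stabilizer_iff, Set.smul_set_insert, Set.smul_set_singleton,
    Set.pair_eq_pair_iff]

/-- A doubly transitive action on a set with at least three points yields a (B,N)-pair of rank one: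
`B` is the stabiliser of a point `x`, `N` the setwise stabiliser of a pair `{x, y}`. -/
theorem result {G Ω : Type*} [Group G] [MulAction G Ω]
    (h2 : MulAction.IsMultiplyPretransitive G Ω 2) {x y z : Ω} (hxy : x ≠ y) (hyz : y ≠ z) (hxz : x ≠ z) :
    ∃ P : Cfsg.BNPair G, P.B = MulAction.stabilizer G x ∧
      P.N = MulAction.stabilizer G ({x, y} : Set Ω) ∧ P.rank = 1 := by
  rw [MulAction.is_two_pretransitive_iff] at h2
  -- the swapping element
  obtain ⟨s, hsx, hsy⟩ := h2 hxy hxy.symm
  set B : Subgroup G := MulAction.stabilizer G x with hB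
  set N : Subgroup G := MulAction.stabilizer G ({x, y} : Set Ω) with hN
  have memB : ∀ g : G, g ∈ B ↔ g • x = x := fun g => MulAction.mem_stabilizer_iff
  have memN : ∀ g : G, g ∈ N ↔ (g • x = x ∧ g • y = y) ∨ (g • x = y ∧ g • y = x) :=
    fun g => mem_N_iff g
  have hsN : s ∈ N := (memN s).mpr (Or.inr ⟨hsx, hsy⟩)
  have hsinvx : s⁻¹ • x = y := by rw [inv_smul_eq_iff, hsy]
  have hsinvy : s⁻¹ • y = x := by rw [inv_smul_eq_iff, hsx]
  -- key double coset lemma
  have key : ∀ g h : G, g • x ≠ x → h • x ≠ x → ∃ b₁ ∈ B, ∃ b₂ ∈ B, g = b₁ * h * b₂ := by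
    intro g h hg hh
    obtain ⟨b₁, hb₁x, hb₁⟩ := h2 (Ne.symm hh) (Ne.symm hg)
    refine ⟨b₁, (memB b₁).mpr hb₁x, (b₁ * h)⁻¹ * g, ?_, by group⟩
    rw [memB, mul_smul, inv_smul_eq_iff, mul_smul, hb₁]
  -- B ∩ N fixes y
  have hT : ∀ t ∈ B ⊓ N, t • x = x ∧ t • y = y := by
    intro t ht
    obtain ⟨htB, htN⟩ := Subgroup.mem_inf.mp ht
    have hx : t • x = x := (memB t).mp htB
    rcases (memN t).mp htN with h | h
    · exact h
    · exact absurd (hx.symm.trans h.1) hxy
  refine ⟨{ B := B, N := N, S := {s}, sup_eq_top := ?_, conj_mem := ?_, subset := ?_, sq_mem := ?_,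
            inj := ?_, closure_sup := ?_, mul_mem_union := ?_, conj_ne := ?_ }, rfl, rfl, ?_⟩
  · -- B ⊔ N = ⊤
    rw [eq_top_iff]
    intro g _
    by_cases hg : g • x = x
    · exact Subgroup.mem_sup_left ((memB g).mpr hg)
    · obtain ⟨b, hbx, hb⟩ := h2 (Ne.symm hg) hxy
      have h1 : s * b * g ∈ B := by
        rw [memB, mul_smul, mul_smul, hb, hsy]
      have : g = b⁻¹ * (s⁻¹ * (s * b * g)) := by group
      rw [this]
      apply Subgroup.mul_mem
      · exact Subgroup.mem_sup_left (B.inv_mem ((memB b).mpr hbx))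
      · apply Subgroup.mul_mem
        · exact Subgroup.mem_sup_right (N.inv_mem hsN)
        · exact Subgroup.mem_sup_left h1
  · -- conj_mem
    intro n hn t ht
    obtain ⟨htx, hty⟩ := hT t ht
    rw [memB, mul_smul, mul_smul]
    have hninv : n⁻¹ ∈ N := N.inv_mem hn
    rcases (memN n⁻¹).mp hninv with h | h
    · rw [h.1, htx]
      exact (inv_smul_eq_iff.mp h.1).symm
    · rw [h.1, hty]
      exact (inv_smul_eq_iff.mp h.1).symm
  · -- subset
    intro a ha
    rw [Set.mem_singleton_iff] at ha
    rw [ha]; exact hsN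
  · -- sq_mem
    intro a ha
    rw [Set.mem_singleton_iff] at ha
    rw [ha, memB, mul_smul, hsx, hsy]
  · -- inj
    intro a ha a' ha' _
    rw [Set.mem_singleton_iff] at ha ha'
    rw [ha, ha']
  · -- closure_sup
    apply le_antisymm
    · apply sup_le
      · rw [Subgroup.closure_le]
        intro a ha
        rw [Set.mem_singleton_iff] at ha
        rw [ha]; exact hsN
      · exact inf_le_right
    · intro n hn
      rcases (memN n).mp hn with h | h
      · exact Subgroup.mem_sup_right (Subgroup.mem_inf.mpr ⟨(memB n).mpr h.1, hn⟩)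
      · have h1 : s * n ∈ B ⊓ N := by
          refine Subgroup.mem_inf.mpr ⟨?_, N.mul_mem hsN hn⟩
          rw [memB, mul_smul, h.1, hsy]
        have : n = s⁻¹ * (s * n) := by group
        rw [this]
        apply Subgroup.mul_mem
        · exact Subgroup.mem_sup_left (Subgroup.inv_mem _ (Subgroup.subset_closure rfl))
        · exact Subgroup.mem_sup_right h1
  · -- mul_mem_union
    intro a ha n hn b hb
    rw [Set.mem_singleton_iff] at ha
    subst ha
    have hbx : b • x = x := (memB b).mp hb
    rcases (memN n).mp hn with h | h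
    · -- n ∈ B
      left
      rw [DoubleCoset.mem_doubleCoset]
      have hg : (a * b * n) • x ≠ x := by
        rw [mul_smul, mul_smul, h.1, hbx, hsx]; exact hxy.symm
      have hh : (a * n) • x ≠ x := by
        rw [mul_smul, h.1, hsx]; exact hxy.symm
      obtain ⟨b₁, hb₁, b₂, hb₂, e⟩ := key _ _ hg hh
      exact ⟨b₁, hb₁, b₂, hb₂, e⟩
    · -- n x = y
      by_cases hg : (a * b * n) • x = x
      · left
        rw [DoubleCoset.mem_doubleCoset]
        have hsn : (a * n) • x = x := by rw [mul_smul, h.1, hsy]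
        refine ⟨(a * b * n) * (a * n)⁻¹, ?_, 1, B.one_mem, by group⟩
        show (a * b * n) * (a * n)⁻¹ ∈ B
        rw [memB, mul_smul, inv_smul_eq_iff.mpr hsn.symm, hg]
      · right
        rw [DoubleCoset.mem_doubleCoset]
        have hh : n • x ≠ x := by rw [h.1]; exact hxy.symm
        obtain ⟨b₁, hb₁, b₂, hb₂, e⟩ := key _ _ hg hh
        exact ⟨b₁, hb₁, b₂, hb₂, e⟩
  · -- conj_ne
    intro a ha
    rw [Set.mem_singleton_iff] at ha
    subst ha
    obtain ⟨b, hbx, hby⟩ := h2 hxy hxz
    intro heq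
    have hmem : a * b * a ∈ (B : Set G) := by
      rw [← heq]; exact ⟨b, (memB b).mpr hbx, rfl⟩
    have : (a * b * a) • x = x := (memB _).mp hmem
    rw [mul_smul, mul_smul, hsx, hby] at this
    -- a • z = x = a • y so z = y
    have h3 : a • z = a • y := this.trans hsy.symm
    exact hyz (MulAction.injective a h3).symm
  · -- rank
    show Nat.card ({s} : Set G) = 1
    simp

end Cfsg.Agent.S0323
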