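import Mathlib
import Cfsg.Statements.S0332
import Cfsg.Agent.Lib.Helper2.SzCN

set_option autoImplicit false
open Cfsg

namespace Cfsg.Agent.S0332

open Cfsg.Agent.Helper2.Sz Cfsg.Agent.Helper2.Sz.SzData Cfsg.Agent.Helper2

/-- The Suzuki group (`m ≥ 1`) is a CN-group. -/
theorem result {F : Type*} [Field F] [Fintype F] {m : ℕ} (hm : 1 ≤ m)
    (hF : Fintype.card F = 2 ^ (2 * m + 1)) : Cfsg.IsCNGroup (Cfsg.Sz F m) := by
  obtain ⟨S⟩ := nonempty_szData (m := m) hF
  intro g hg1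
  have hn0 : orderOf g ≠ 0 := (orderOf_pos g).ne'
  have hn1 : orderOf g ≠ 1 := by rwa [Ne, orderOf_eq_one_iff]
  obtain ⟨p, hpdef⟩ : ∃ p, p = (orderOf g).minFac := ⟨_, rfl⟩
  have hpp : p.Prime := hpdef ▸ Nat.minFac_prime hn1
  have hpn : p ∣ orderOf g := hpdef ▸ Nat.minFac_dvd _
  obtain ⟨x, hxdef⟩ : ∃ x, x = g ^ (orderOf g / p) := ⟨_, rfl⟩
  have hx : orderOf x = p := hxdef ▸ orderOf_pow_orderOf_div hn0 hpn
  have hle : ∀ h ∈ Subgroup.centralizer ({g} : Set (Cfsg.Sz F m)), h * x = x * h := by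
    intro h hh
    have h1 : g * h = h * g := Subgroup.mem_centralizer_iff.1 hh g rfl
    have h2 : Commute h g := h1.symm
    rw [hxdef]
    exact (h2.pow_right _).eq
  have hx1 : x ≠ 1 := by
    intro h
    rw [h, orderOf_one] at hx
    exact hpp.one_lt.ne hx
  by_cases hp2 : p = 2
  · have hx2 : x ^ 2 = 1 := by
      have := pow_orderOf_eq_one x
      rwa [hx, hp2] at this
    have hPG : IsPGroup 2 (Subgroup.centralizer ({g} : Set (Cfsg.Sz F m))) := by
      rintro ⟨h, hh⟩
      refine ⟨2, Subtype.ext ?_⟩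
      show h ^ 2 ^ 2 = 1
      exact S.pow_four_of_commute_involution hm hF hx1 hx2 (hle h hh)
    have : Fact (Nat.Prime 2) := ⟨Nat.prime_two⟩
    exact hPG.isNilpotent
  · have hcomm : ∀ a b : Subgroup.centralizer ({g} : Set (Cfsg.Sz F m)), a * b = b * a := by
      intro a b
      apply Subtype.ext
      have hpG : p ∣ Nat.card (Cfsg.Sz F m) := hx ▸ orderOf_dvd_natCard x
      rw [S.card_Sz hm hF] at hpG
      rcases prime_dvd_order hpp hp2 ⟨_, rfl⟩ hpG with h | h
      · exact S.commute_of_commute_twisted hF hpp hp2 h hx (hle a a.2) (hle b b.2)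
      · have : Fact p.Prime := ⟨hpp⟩
        exact S.commute_of_commute_split hm hF hp2 h hx (hle a a.2) (hle b b.2)
    let _ : CommGroup (Subgroup.centralizer ({g} : Set (Cfsg.Sz F m))) :=
      { (inferInstance : Group (Subgroup.centralizer ({g} : Set (Cfsg.Sz F m)))) with
        mul_comm := hcomm }
    exact CommGroup.isNilpotent

end Cfsg.Agent.S0332
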