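import Mathlib
import Cfsg.Statements.S0334
import Cfsg.Agent.Lib.Helper2.SzStab

set_option autoImplicit false
open Cfsg

namespace Cfsg.Agent.S0334

open Cfsg.Agent.Helper2.Sz Cfsg.Agent.Helper2.Sz.SzData

theorem form_mul {F : Type*} [Field F] {A B J : Matrix (Fin 4) (Fin 4) F}
    (hA : A.transpose * J * A = J) (hB : B.transpose * J * B = J) :
    (A * B).transpose * J * (A * B) = J := by
  rw [Matrix.transpose_mul]
  calc B.transpose * A.transpose * J * (A * B)
      = B.transpose * (A.transpose * J * A) * B := by simp only [Matrix.mul_assoc]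
    _ = J := by rw [hA, hB]

/-- Elements of the Suzuki group preserve the alternating form with antidiagonal matrix. -/
theorem result {F : Type*} [Field F] [Fintype F] {m : ℕ} (hm : 1 ≤ m)
    (hF : Fintype.card F = 2 ^ (2 * m + 1)) {g : Matrix.SpecialLinearGroup (Fin 4) F}
    (hg : g ∈ Cfsg.Sz F m) :
    (g : Matrix (Fin 4) (Fin 4) F).transpose * Cfsg.suzukiForm F * (g : Matrix (Fin 4) (Fin 4) F) =
      Cfsg.suzukiForm F := by
  obtain ⟨S⟩ := nonempty_szData (m := m) hF
  rw [suzukiForm_eq]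
  have hT : ∀ a b : F, (S.Tg a b).1.transpose * Wm * (S.Tg a b).1 = Wm :=
    fun a b => Tm_form S.s S.h2 a b
  have hD : ∀ u : Fˣ, (S.Dg u).1.transpose * Wm * (S.Dg u).1 = Wm :=
    fun u => Dm_form S.s u.ne_zero
  have hW : (Wg F).1.transpose * Wm * (Wg F).1 = Wm := Wm_form
  rcases S.exists_decomp hm hF hg with ⟨a, b, u, rfl⟩ | ⟨a, b, c, d, u, rfl⟩
  · rw [Matrix.SpecialLinearGroup.coe_mul]
    exact form_mul (hT a b) (hD u)
  · rw [Matrix.SpecialLinearGroup.coe_mul, Matrix.SpecialLinearGroup.coe_mul,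
      Matrix.SpecialLinearGroup.coe_mul]
    exact form_mul (form_mul (hT a b) hW) (form_mul (hT c d) (hD u))

end Cfsg.Agent.S0334
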