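import Mathlib
import Cfsg.Statements.S0338
import Cfsg.Agent.S0339

set_option autoImplicit false

open Cfsg

namespace Cfsg.Agent.S0338

open MulAction

/-- Fixed points of an involutive map on a set of odd size. -/
theorem invol_fix {Ω : Type*} [Fintype Ω] (f : Ω → Ω) (hf : ∀ x, f (f x) = x)
    (hodd : Odd (Fintype.card Ω)) :
    (∃ c, f c = c) ∧ (∀ a b, a ≠ b → f a = a → f b = b → ∃ c, c ≠ a ∧ c ≠ b ∧ f c = c) := by
  classical
  let F : Function.End Ω := f
  have hf' : F ^ 2 ^ 1 = 1 := by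
    rw [pow_one, pow_two]
    funext x
    exact hf x
  haveI : Fact (Nat.Prime 2) := ⟨Nat.prime_two⟩
  have hmod : Fintype.card Ω ≡ Fintype.card (Function.fixedPoints f) [MOD 2] :=
    Equiv.Perm.card_fixedPoints_modEq (f := F) (p := 2) (n := 1) hf'
  have hoddF : Odd (Fintype.card (Function.fixedPoints f)) := by
    rw [← Nat.not_even_iff_odd] at hodd ⊢
    rw [Nat.even_iff] at hodd ⊢
    have : Fintype.card Ω % 2 = Fintype.card (Function.fixedPoints f) % 2 := hmod
    omega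
  constructor
  · have hpos : 0 < Fintype.card (Function.fixedPoints f) := hoddF.pos
    obtain ⟨c⟩ := Fintype.card_pos_iff.mp hpos
    exact ⟨c.1, c.2⟩
  · intro a b hab ha hb
    have h2 : 2 < Fintype.card (Function.fixedPoints f) := by
      have h1 : 1 < Fintype.card (Function.fixedPoints f) :=
        Fintype.one_lt_card_iff.mpr ⟨⟨a, ha⟩, ⟨b, hb⟩, fun h => hab (congrArg Subtype.val h)⟩
      obtain ⟨k, hk⟩ := hoddF
      omega
    obtain ⟨x, y, z, hxy, hxz, hyz⟩ := Fintype.two_lt_card_iff.mp h2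
    by_cases hxa : x.1 ≠ a ∧ x.1 ≠ b
    · exact ⟨x.1, hxa.1, hxa.2, x.2⟩
    by_cases hya : y.1 ≠ a ∧ y.1 ≠ b
    · exact ⟨y.1, hya.1, hya.2, y.2⟩
    by_cases hza : z.1 ≠ a ∧ z.1 ≠ b
    · exact ⟨z.1, hza.1, hza.2, z.2⟩
    exfalso
    have hxy' : x.1 ≠ y.1 := fun h => hxy (Subtype.ext h)
    have hxz' : x.1 ≠ z.1 := fun h => hxz (Subtype.ext h)
    have hyz' : y.1 ≠ z.1 := fun h => hyz (Subtype.ext h)
    have hx : x.1 = a ∨ x.1 = b := by tauto
    have hy : y.1 = a ∨ y.1 = b := by tauto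
    have hz : z.1 = a ∨ z.1 = b := by tauto
    rcases hx with hx | hx <;> rcases hy with hy | hy <;> rcases hz with hz | hz <;>
      simp_all

/-- A Zassenhaus group of odd degree is a simple group. -/
theorem result {G Ω : Type*} [Group G] [MulAction G Ω] [Fintype Ω]
    (hZ : Cfsg.IsZassenhausGroup G Ω) (hodd : Odd (Fintype.card Ω)) : IsSimpleGroup G := by
  classical
  have hZ' := hZ
  obtain ⟨hfaith, h2, h3, h4, h5⟩ := hZ
  haveI := hfaith
  haveI : Finite G := Finite.of_injective _ (MulAction.toPerm_injective (α := G) (β := Ω))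
  have h2' : ∀ {a b c d : Ω}, a ≠ b → c ≠ d → ∃ g : G, g • a = c ∧ g • b = d :=
    MulAction.is_two_pretransitive_iff.mp h2
  obtain ⟨g₀, hg₀1, a, b, hab, hga₀, hgb₀⟩ := h4
  have hinvol : ∀ t : G, t * t = 1 → ∀ x : Ω, t • t • x = x := by
    intro t ht x
    rw [← mul_smul, ht, one_smul]
  have hinv1 : ∀ t : G, t * t = 1 → ∃ c : Ω, t • c = c := fun t ht =>
    (invol_fix (fun ω => t • ω) (hinvol t ht) hodd).1
  have hinv2 : ∀ t : G, t * t = 1 → t ≠ 1 → ∀ x y : Ω, t • x = x → t • y = y → x = y := by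
    intro t ht ht1 x y hx hy
    by_contra hxy
    obtain ⟨c, hcx, hcy, hc⟩ := (invol_fix (fun ω => t • ω) (hinvol t ht) hodd).2 x y hxy hx hy
    exact ht1 (h3 t x y c hxy (Ne.symm hcy) (Ne.symm hcx) hx hy hc)
  set H : Subgroup G := stabilizer G a ⊓ stabilizer G b with hH
  have hHa : ∀ h ∈ H, h • a = a := fun h hh => hh.1
  have hHb : ∀ h ∈ H, h • b = b := fun h hh => hh.2
  have hHmem : ∀ h : G, h • a = a → h • b = b → h ∈ H := fun h h1 h2 => ⟨h1, h2⟩
  have hHodd : ¬ 2 ∣ Nat.card H := by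
    intro h2d
    haveI : Fact (Nat.Prime 2) := ⟨Nat.prime_two⟩
    obtain ⟨s, hs⟩ := exists_prime_orderOf_dvd_card' (G := H) 2 h2d
    have hs2 : (s : G) * (s : G) = 1 := by
      have := pow_orderOf_eq_one s
      rw [hs, pow_two] at this
      exact congrArg Subtype.val this
    have hs1 : (s : G) ≠ 1 := by
      intro h
      have : s = 1 := Subtype.ext h
      rw [this, orderOf_one] at hs
      omega
    exact hab (hinv2 s hs2 hs1 a b (hHa s s.2) (hHb s s.2))
  -- an involution swapping a and b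
  obtain ⟨g, hga, hgb⟩ := h2' hab (Ne.symm hab)
  have hg2H : g * g ∈ H := by
    apply hHmem
    · rw [mul_smul, hga, hgb]
    · rw [mul_smul, hgb, hga]
  set r := orderOf (⟨g * g, hg2H⟩ : H) with hr
  have hrodd : Odd r := by
    have hdvd := orderOf_dvd_natCard (⟨g * g, hg2H⟩ : H)
    by_contra h
    rw [Nat.not_odd_iff_even] at h
    exact hHodd (dvd_trans h.two_dvd hdvd)
  set t := g ^ r with ht
  have ht2 : t * t = 1 := by
    have h1 : (g * g) ^ r = 1 := by
      have := congrArg Subtype.val (pow_orderOf_eq_one (⟨g * g, hg2H⟩ : H))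
      rw [← hr] at this
      simpa using this
    rw [ht, ← pow_add, ← two_mul, pow_mul, pow_two]
    exact h1
  have hta : t • a = b ∧ t • b = a := by
    obtain ⟨k, hk⟩ := hrodd
    have hkH : (g * g) ^ k ∈ H := H.pow_mem hg2H k
    have htk : t = (g * g) ^ k * g := by
      rw [ht, hk, pow_succ, pow_mul, pow_two]
    constructor
    · rw [htk, mul_smul, hga, hHb _ hkH]
    · rw [htk, mul_smul, hgb, hHa _ hkH]
  obtain ⟨hta1, htb1⟩ := hta
  have htia : t⁻¹ • a = b := by rw [inv_smul_eq_iff, htb1]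
  have htib : t⁻¹ • b = a := by rw [inv_smul_eq_iff, hta1]
  have ht1 : t ≠ 1 := by
    intro h
    rw [h, one_smul] at hta1
    exact hab hta1
  have htnorm : ∀ h ∈ H, t⁻¹ * h * t ∈ H := by
    intro h hh
    apply hHmem
    · rw [mul_smul, mul_smul, hta1, hHb h hh, htib]
    · rw [mul_smul, mul_smul, htb1, hHa h hh, htia]
  obtain ⟨c, hc⟩ := hinv1 t ht2
  have hca : c ≠ a := by
    intro h
    rw [h, hta1] at hc
    exact hab hc.symm
  have hcb : c ≠ b := by
    intro h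
    rw [h, htb1] at hc
    exact hab hc
  let ψ : H → H := fun h => ⟨t⁻¹ * h * t * (h : G)⁻¹, H.mul_mem (htnorm h h.2) (H.inv_mem h.2)⟩
  have hψinj : Function.Injective ψ := by
    intro h h' hh
    have h1 : t⁻¹ * (h : G) * t * (h : G)⁻¹ = t⁻¹ * (h' : G) * t * (h' : G)⁻¹ :=
      congrArg Subtype.val hh
    have hk : ((h' : G)⁻¹ * (h : G)) * t = t * ((h' : G)⁻¹ * (h : G)) := by
      have h2 : (h : G) * t * (h : G)⁻¹ = (h' : G) * t * (h' : G)⁻¹ := by
        have := congrArg (fun x => t * x) h1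
        simpa [mul_assoc] using this
      have h3' : (h' : G)⁻¹ * (h : G) * t = (h' : G)⁻¹ * ((h : G) * t * (h : G)⁻¹) * (h : G) := by
        group
      rw [h3', h2]
      group
    have hkc : t • (((h' : G)⁻¹ * (h : G)) • c) = ((h' : G)⁻¹ * (h : G)) • c := by
      rw [← mul_smul, ← hk, mul_smul, hc]
    have hkc' : ((h' : G)⁻¹ * (h : G)) • c = c := hinv2 t ht2 ht1 _ _ hkc hc
    have hkH : (h' : G)⁻¹ * (h : G) ∈ H := H.mul_mem (H.inv_mem h'.2) h.2
    have hk1 : (h' : G)⁻¹ * (h : G) = 1 :=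
      h3 _ a b c hab (Ne.symm hcb) (Ne.symm hca) (hHa _ hkH) (hHb _ hkH) hkc'
    apply Subtype.ext
    rw [inv_mul_eq_one] at hk1
    exact hk1.symm
  have hψsurj := Finite.injective_iff_surjective.mp hψinj
  have hconjt : ∀ h ∈ H, ∃ h' ∈ H, t * h = h' * t * h'⁻¹ := by
    intro h hh
    obtain ⟨h', hh'⟩ := hψsurj ⟨h, hh⟩
    refine ⟨h', h'.2, ?_⟩
    have : t⁻¹ * (h' : G) * t * (h' : G)⁻¹ = h := congrArg Subtype.val hh'
    rw [← this]
    group
  -- simplicity
  refine { exists_pair_ne := ⟨g₀, 1, hg₀1⟩, eq_bot_or_eq_top_of_normal := ?_ }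
  intro N hNn
  by_cases hN : N = ⊥
  · left; exact hN
  right
  haveI := hNn
  obtain ⟨_, hN2, _, _, _⟩ := Cfsg.Agent.S0339.result hZ' N hN
  have hN2' : ∀ {a b c d : Ω}, a ≠ b → c ≠ d → ∃ n : N, n • a = c ∧ n • b = d :=
    MulAction.is_two_pretransitive_iff.mp hN2
  obtain ⟨n, hna, hnb⟩ := hN2' hab (Ne.symm hab)
  have hna' : (n : G) • a = b := hna
  have hnb' : (n : G) • b = a := hnb
  have hh₀ : t⁻¹ * (n : G) ∈ H := by
    apply hHmem
    · rw [mul_smul, hna', htib]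
    · rw [mul_smul, hnb', htia]
  obtain ⟨h', hh', e⟩ := hconjt _ hh₀
  have htN : t ∈ N := by
    have h4 : (n : G) = h' * t * h'⁻¹ := by
      rw [← e]; group
    have h5 := hNn.conj_mem _ n.2 h'⁻¹
    rw [h4] at h5
    have h6 : h'⁻¹ * (h' * t * h'⁻¹) * h'⁻¹⁻¹ = t := by group
    rwa [h6] at h5
  have hHN : H ≤ N := by
    intro h hh
    obtain ⟨h'', hh'', e'⟩ := hconjt h hh
    have h4 : t * h ∈ N := by
      rw [e']
      exact hNn.conj_mem _ htN h''
    have h6 := N.mul_mem (N.inv_mem htN) h4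
    rwa [inv_mul_cancel_left] at h6
  rw [eq_top_iff]
  intro g' _
  have hne : g' • a ≠ g' • b := fun h => hab (smul_left_cancel g' h)
  obtain ⟨n', hn'a, hn'b⟩ := hN2' hab hne
  have hn'a' : (n' : G) • a = g' • a := hn'a
  have hn'b' : (n' : G) • b = g' • b := hn'b
  have h7 : (n' : G)⁻¹ * g' ∈ H := by
    apply hHmem
    · rw [mul_smul, ← hn'a', inv_smul_smul]
    · rw [mul_smul, ← hn'b', inv_smul_smul]
  have h8 := N.mul_mem n'.2 (hHN h7)
  rwa [mul_inv_cancel_left] at h8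

end Cfsg.Agent.S0338

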