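import Mathlib
import Cfsg.Statements.S0341
import Cfsg.Agent.S4252
import Cfsg.Agent.S0035
import Cfsg.Agent.S0039
import Cfsg.Agent.S0040
import Cfsg.Agent.S0042
import Cfsg.Agent.Lib.Helper3.FieldAut

set_option autoImplicit false
set_option linter.style.haveILetI false

open Cfsg

namespace Cfsg.Agent.S0341

open MulAction

/-- A nilpotent group `K` of odd order fixing a point `a` and acting semiregularly elsewhere,
normalising (here: sitting next to) a regular normal subgroup `N`, is cyclic. -/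
theorem cyclic_of_frobenius {G Ω : Type*} [Group G] [Finite G] [MulAction G Ω]
    (N K : Subgroup G) [N.Normal] (a : Ω)
    (hNt : ∀ ω : Ω, ∃ n ∈ N, n • a = ω)
    (hNreg : ∀ n ∈ N, n • a = a → n = 1)
    (hKa : ∀ x ∈ K, x • a = a)
    (hKsemi : ∀ x ∈ K, x ≠ 1 → ∀ ω : Ω, ω ≠ a → x • ω ≠ ω)
    (hNne : N ≠ ⊥) (hodd : Odd (Nat.card K)) [hnil : Group.IsNilpotent K] : IsCyclic K := by
  classical
  set M : Subgroup G := N ⊔ K with hM
  have hNM : N ≤ M := le_sup_left
  have hKM : K ≤ M := le_sup_right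
  have claim1 : ∀ g ∈ M, g • a = a → g ∈ K := by
    intro g hg hga
    obtain ⟨n, hn, y, hy, rfl⟩ := Subgroup.mem_sup_of_normal_left.mp hg
    rw [mul_smul, hKa y hy] at hga
    rw [hNreg n hn hga, one_mul]
    exact hy
  set K₁ : Subgroup M := N.subgroupOf M with hK₁
  set S : Subgroup M := stabilizer M a with hS
  have hsmul : ∀ (x : M) (ω : Ω), x • ω = (x : G) • ω := fun _ _ => rfl
  have hc : Subgroup.IsComplement' K₁ S := by
    apply Subgroup.isComplement'_stabilizer a
    · intro h hha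
      have h1 : ((h : M) : G) • a = a := hha
      have h2 : ((h : M) : G) ∈ N := Subgroup.mem_subgroupOf.mp h.2
      have h3 := hNreg _ h2 h1
      apply Subtype.ext
      apply Subtype.ext
      exact h3
    · intro g
      obtain ⟨n, hn, hna⟩ := hNt ((g : G) • a)
      have hn' : n⁻¹ ∈ N := N.inv_mem hn
      refine ⟨⟨⟨n⁻¹, hNM hn'⟩, Subgroup.mem_subgroupOf.mpr hn'⟩, ?_⟩
      show n⁻¹ • ((g : G) • a) = a
      rw [← hna, inv_smul_smul]
  have hK₁ne : K₁ ≠ ⊥ := by
    intro h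
    apply hNne
    rw [Subgroup.eq_bot_iff_forall]
    intro n hn
    have h1 : (⟨n, hNM hn⟩ : M) ∈ K₁ := Subgroup.mem_subgroupOf.mpr hn
    rw [h, Subgroup.mem_bot] at h1
    exact congrArg Subtype.val h1
  have hfpf : ∀ h ∈ S, h ≠ 1 → K₁ ⊓ Subgroup.centralizer {h} = ⊥ := by
    intro h hh hh1
    rw [Subgroup.eq_bot_iff_forall]
    intro n hn
    obtain ⟨hn1, hn2⟩ := Subgroup.mem_inf.mp hn
    have hnN : (n : G) ∈ N := Subgroup.mem_subgroupOf.mp hn1
    have hcomm : h * n = n * h := by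
      have := Subgroup.mem_centralizer_iff.mp hn2 h (Set.mem_singleton h)
      exact this
    have hhK : (h : G) ∈ K := claim1 _ h.2 (mem_stabilizer_iff.mp hh)
    have hh1' : (h : G) ≠ 1 := fun e => hh1 (Subtype.ext e)
    have hfix : (h : G) • ((n : G) • a) = (n : G) • a := by
      have e : (h : G) * (n : G) = (n : G) * (h : G) := congrArg Subtype.val hcomm
      rw [← mul_smul, e, mul_smul, hKa _ hhK]
    have hna : (n : G) • a = a := by
      by_contra hne
      exact hKsemi _ hhK hh1' _ hne hfix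
    apply Subtype.ext
    exact hNreg _ hnN hna
  -- the isomorphism K ≃ S
  let f : K →* S :=
    { toFun := fun x => ⟨⟨x.1, hKM x.2⟩, mem_stabilizer_iff.mpr (hKa x.1 x.2)⟩
      map_one' := rfl
      map_mul' := fun _ _ => rfl }
  have hfinj : Function.Injective f := by
    intro x y hxy
    apply Subtype.ext
    exact congrArg (fun z : S => ((z : M) : G)) hxy
  have hfsurj : Function.Surjective f := by
    intro z
    exact ⟨⟨z.1.1, claim1 _ z.1.2 (mem_stabilizer_iff.mp z.2)⟩, rfl⟩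
  have hcardS : Nat.card S = Nat.card K :=
    (Nat.card_congr (Equiv.ofBijective f ⟨hfinj, hfsurj⟩)).symm
  haveI : IsZGroup S := by
    refine ⟨fun p hp P => ?_⟩
    haveI : Fact p.Prime := ⟨hp⟩
    rcases Cfsg.Agent.S0040.result K₁ S hc hK₁ne hfpf p P with h | ⟨n, ⟨e⟩⟩
    · exact h
    · exfalso
      have h1 : Nat.card P = 4 * 2 ^ n := by
        rw [Nat.card_congr e.toEquiv, Nat.card_eq_fintype_card, QuaternionGroup.card]
      have h2 : Nat.card P ∣ Nat.card S := Subgroup.card_subgroup_dvd_card _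
      rw [h1, hcardS] at h2
      have h3' : 2 ∣ Nat.card K := Dvd.dvd.trans ⟨2 * 2 ^ n, by ring⟩ h2
      exact (Nat.not_even_iff_odd.mpr hodd) (even_iff_two_dvd.mpr h3')
  haveI : IsZGroup K := IsZGroup.of_injective (f := f) hfinj
  infer_instance

/-- An involution normalising a finite normal subgroup `N` without non-trivial fixed points
inverts `N`. -/
theorem inverts_of_fpf_involution {G : Type*} [Group G] (N : Subgroup G) [N.Normal] [Finite N]
    (z : G) (hz : z * z = 1) (hfpf : ∀ n ∈ N, z * n * z⁻¹ = n → n = 1) :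
    ∀ n ∈ N, z * n * z⁻¹ = n⁻¹ := by
  have hzinv : z⁻¹ = z := inv_eq_of_mul_eq_one_left hz
  have hN : ∀ n ∈ N, z * n * z⁻¹ ∈ N := fun n hn => ‹N.Normal›.conj_mem n hn z
  let f : N → N := fun n => ⟨(n : G)⁻¹ * (z * n * z⁻¹), N.mul_mem (N.inv_mem n.2) (hN n n.2)⟩
  have hinj : Function.Injective f := by
    intro n m hnm
    have h1 : (n : G)⁻¹ * (z * n * z⁻¹) = (m : G)⁻¹ * (z * m * z⁻¹) := congrArg Subtype.val hnm
    have h2 : z * ((m : G) * (n : G)⁻¹) * z⁻¹ = (m : G) * (n : G)⁻¹ := by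
      have e1 : z * ((m : G) * (n : G)⁻¹) * z⁻¹ = (z * m * z⁻¹) * (z * n * z⁻¹)⁻¹ := by group
      have e2 : z * n * z⁻¹ = (n : G) * ((m : G)⁻¹ * (z * m * z⁻¹)) := by
        rw [← h1]; group
      rw [e1, e2]; group
    have h3 := hfpf _ (N.mul_mem m.2 (N.inv_mem n.2)) h2
    apply Subtype.ext
    exact (mul_inv_eq_one.mp h3).symm
  have hsurj : Function.Surjective f := hinj.bijective_of_finite.2
  intro x hx
  obtain ⟨n, hn⟩ := hsurj ⟨x, hx⟩
  have hx' : x = (n : G)⁻¹ * (z * n * z⁻¹) := (congrArg Subtype.val hn).symm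
  rw [hx', hzinv]
  have e1 : z * ((n : G)⁻¹ * (z * n * z)) * z = z * ((n : G)⁻¹ * (z * (n * (z * z)))) := by
    simp only [mul_assoc]
  have e2 : ((n : G)⁻¹ * (z * n * z))⁻¹ = z * ((n : G)⁻¹ * (z * n)) := by
    rw [mul_inv_rev, mul_inv_rev, mul_inv_rev, inv_inv, hzinv]
    simp only [mul_assoc]
  rw [e1, e2, hz, mul_one]

/-- The Frobenius kernel of a point stabiliser in the setting of the theorem. -/
theorem frobenius_data {G Ω : Type*} [Group G] [Finite G] [MulAction G Ω] [Fintype Ω]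
    [FaithfulSMul G Ω]
    (h2 : ∀ {a b c d : Ω}, a ≠ b → c ≠ d → ∃ g : G, g • a = c ∧ g • b = d)
    (h3 : ∀ g : G, ∀ a b c : Ω, a ≠ b → b ≠ c → a ≠ c → g • a = a → g • b = b → g • c = c → g = 1)
    {a b : Ω} (hab : a ≠ b) (g₀ : G) (hg₀1 : g₀ ≠ 1) (hga : g₀ • a = a) (hgb : g₀ • b = b) :
    ∃ K : Subgroup G, (∀ x ∈ K, x • a = a) ∧
      (∀ g : G, g • a = a → ∀ x ∈ K, g * x * g⁻¹ ∈ K) ∧
      (∀ x ∈ K, x ≠ 1 → ∀ ω : Ω, ω ≠ a → x • ω ≠ ω) ∧
      (∀ ω ω' : Ω, ω ≠ a → ω' ≠ a → ∃ x ∈ K, x • ω = ω') ∧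
      (∀ h : G, h • a = a → h • b = b → h ≠ 1 → ∀ x ∈ K, h * x = x * h → x = 1) ∧
      Group.IsNilpotent K := by
  classical
  set A : Subgroup G := stabilizer G a with hA
  have hc : ∃ c : Ω, g₀ • c ≠ c := by
    by_contra hcon
    push Not at hcon
    apply hg₀1
    apply FaithfulSMul.eq_of_smul_eq_smul (α := Ω)
    intro x
    rw [hcon x, one_smul]
  obtain ⟨c, hc⟩ := hc
  have hca : c ≠ a := by
    rintro rfl
    exact hc hga
  have hcb : c ≠ b := by
    rintro rfl
    exact hc hgb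
  letI : Fintype (SubMulAction.ofStabilizer G a) := Fintype.ofFinite _
  have hb' : b ∈ SubMulAction.ofStabilizer G a :=
    (SubMulAction.mem_ofStabilizer_iff G a).mpr (Ne.symm hab)
  have hc' : c ∈ SubMulAction.ofStabilizer G a :=
    (SubMulAction.mem_ofStabilizer_iff G a).mpr hca
  have hΩ' : 1 < Fintype.card (SubMulAction.ofStabilizer G a) :=
    Fintype.one_lt_card_iff.mpr ⟨⟨b, hb'⟩, ⟨c, hc'⟩, fun h => hcb (congrArg Subtype.val h).symm⟩
  have htr : ∀ x y : SubMulAction.ofStabilizer G a, ∃ g : A, g • x = y := by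
    intro x y
    obtain ⟨g, hga, hgx⟩ := h2 (Ne.symm x.2) (Ne.symm y.2)
    exact ⟨⟨g, hga⟩, Subtype.ext hgx⟩
  have hnreg : ∃ g : A, g ≠ 1 ∧ ∃ x : SubMulAction.ofStabilizer G a, g • x = x := by
    refine ⟨⟨g₀, hga⟩, fun h => hg₀1 (congrArg Subtype.val h), ⟨b, hb'⟩, ?_⟩
    apply Subtype.ext
    exact hgb
  have hfix : ∀ g : A, g ≠ 1 → ∀ x y : SubMulAction.ofStabilizer G a,
      g • x = x → g • y = y → x = y := by
    intro g hg x y hx hy
    by_contra hxy
    apply hg
    apply Subtype.ext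
    have hx' : (g : G) • x.1 = x.1 := congrArg Subtype.val hx
    have hy' : (g : G) • y.1 = y.1 := congrArg Subtype.val hy
    exact h3 g a x.1 y.1 (Ne.symm x.2) (fun h => hxy (Subtype.ext h)) (Ne.symm y.2) g.2 hx' hy'
  obtain ⟨hFC, hker⟩ := Cfsg.Agent.S4252.result hΩ' htr hnreg hfix ⟨b, hb'⟩
  set H'' : Subgroup A := stabilizer A (⟨b, hb'⟩ : SubMulAction.ofStabilizer G a) with hH''
  obtain ⟨K, hKset, hKn, hcomp⟩ := Cfsg.Agent.S0035.result H'' hFC
  obtain ⟨K2, hK2set, -, hK2nil⟩ := Cfsg.Agent.S0042.result H'' hFC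
  have hK2 : K2 = K := SetLike.coe_injective (hK2set.trans hKset.symm)
  rw [hK2] at hK2nil
  have hKne : K ≠ ⊥ := by
    intro hK
    rw [hK, Subgroup.isComplement'_bot_left] at hcomp
    exact hFC.2.1 hcomp
  have hfpf := (Cfsg.Agent.S0039.result K H'' hcomp hKne hFC.1).mp hFC
  have hKmem : ∀ y : A, y ∈ K ↔ (y = 1 ∨ ∀ ω : SubMulAction.ofStabilizer G a, y • ω ≠ ω) := by
    intro y
    have : y ∈ (K : Set A) ↔ y ∈ {g : A | g = 1 ∨ ∀ ω : SubMulAction.ofStabilizer G a, g • ω ≠ ω} := by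
      rw [hKset, hker]
    exact this
  refine ⟨K.map A.subtype, ?_, ?_, ?_, ?_, ?_, ?_⟩
  · rintro x ⟨y, -, rfl⟩
    exact y.2
  · rintro g hg x ⟨y, hy, rfl⟩
    refine ⟨(⟨g, hg⟩ : A) * y * (⟨g, hg⟩ : A)⁻¹, hKn.conj_mem y hy _, rfl⟩
  · rintro x ⟨y, hy, rfl⟩ hx1 ω hω hfixω
    rcases (hKmem y).mp hy with h1 | h1
    · apply hx1
      rw [h1]; rfl
    · exact h1 ⟨ω, (SubMulAction.mem_ofStabilizer_iff G a).mpr hω⟩ (Subtype.ext hfixω)
  · have key : ∀ ω : Ω, ω ≠ a → ∃ x ∈ K.map A.subtype, x • b = ω := by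
      intro ω hω
      obtain ⟨g, hga', hgb'⟩ := h2 hab (Ne.symm hω)
      obtain ⟨⟨k, h''⟩, hkh⟩ := hcomp.2 ⟨g, hga'⟩
      have hkh' : (k : A) * (h'' : A) = ⟨g, hga'⟩ := hkh
      refine ⟨((k : A) : G), ⟨k, k.2, rfl⟩, ?_⟩
      have e1 : ((h'' : A) : G) • b = b := by
        have := mem_stabilizer_iff.mp h''.2
        exact congrArg Subtype.val this
      have e2 : ((k : A) : G) * ((h'' : A) : G) = g := congrArg Subtype.val hkh'
      rw [← hgb', ← e2, mul_smul, e1]
    intro ω ω' hω hω'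
    obtain ⟨x, hx, hxω⟩ := key ω hω
    obtain ⟨x', hx', hxω'⟩ := key ω' hω'
    refine ⟨x' * x⁻¹, (K.map A.subtype).mul_mem hx' ((K.map A.subtype).inv_mem hx), ?_⟩
    rw [mul_smul, ← hxω, inv_smul_smul, hxω']
  · rintro h hha hhb hh1 x ⟨y, hy, rfl⟩ hcomm
    have hhH : (⟨h, hha⟩ : A) ∈ H'' := by
      rw [hH'', mem_stabilizer_iff]
      exact Subtype.ext hhb
    have hne : (⟨h, hha⟩ : A) ≠ 1 := fun e => hh1 (congrArg Subtype.val e)
    have hbot := hfpf _ hhH hne
    have hymem : y ∈ K ⊓ Subgroup.centralizer {(⟨h, hha⟩ : A)} := by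
      refine Subgroup.mem_inf.mpr ⟨hy, ?_⟩
      rw [Subgroup.mem_centralizer_iff]
      intro z hz
      rw [Set.mem_singleton_iff] at hz
      rw [hz]
      exact Subtype.ext hcomm
    rw [hbot, Subgroup.mem_bot] at hymem
    rw [hymem]; rfl
  · haveI := hK2nil
    exact Group.nilpotent_of_mulEquiv (K.equivMapOfInjective A.subtype A.subtype_injective)

/-- If a finite group acts faithfully and doubly transitively, no non-identity element fixes three points, some
non-identity element fixes two points, and some normal subgroup acts regularly, then the number of points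
is `2^p` with `p` prime. -/
theorem result {G Ω : Type*} [Group G]
    [MulAction G Ω] [Fintype Ω] [FaithfulSMul G Ω] (h2 : MulAction.IsMultiplyPretransitive G Ω 2)
    (h3 : ∀ g : G, ∀ a b c : Ω, a ≠ b → b ≠ c → a ≠ c → g • a = a → g • b = b → g • c = c → g = 1)
    (hfix : ∃ g : G, g ≠ 1 ∧ ∃ a b : Ω, a ≠ b ∧ g • a = a ∧ g • b = b)
    (N : Subgroup G) [N.Normal] (hNt : MulAction.IsPretransitive N Ω)
    (hNr : ∀ a : Ω, MulAction.stabilizer N a = ⊥) :
    ∃ p : ℕ, p.Prime ∧ Fintype.card Ω = 2 ^ p := by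
  classical
  haveI : Finite G := Finite.of_injective (MulAction.toPermHom G Ω) MulAction.toPerm_injective
  have h2' : ∀ {a b c d : Ω}, a ≠ b → c ≠ d → ∃ g : G, g • a = c ∧ g • b = d :=
    MulAction.is_two_pretransitive_iff.mp h2
  obtain ⟨g₀, hg₀1, a, b, hab, hga, hgb⟩ := hfix
  obtain ⟨K, hKa, hKnorm, hKsemi, hKtrans, hKfpf, hKnil⟩ :=
    frobenius_data h2' h3 hab g₀ hg₀1 hga hgb
  have hN := ‹N.Normal›
  -- facts on N
  have hNtr : ∀ ω : Ω, ∃ n ∈ N, n • a = ω := by
    intro ω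
    obtain ⟨n, hn⟩ := MulAction.exists_smul_eq N a ω
    exact ⟨n.1, n.2, hn⟩
  have hNreg : ∀ n ∈ N, n • a = a → n = 1 := by
    intro n hn hna
    have : (⟨n, hn⟩ : N) ∈ stabilizer N a := mem_stabilizer_iff.mpr hna
    rw [hNr a, Subgroup.mem_bot] at this
    exact congrArg Subtype.val this
  have hNinj : ∀ n ∈ N, ∀ m ∈ N, n • a = m • a → n = m := by
    intro n hn m hm h
    have h1 : (m⁻¹ * n) • a = a := by rw [mul_smul, h, inv_smul_smul]
    have h2 := hNreg _ (N.mul_mem (N.inv_mem hm) hn) h1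
    exact (inv_mul_eq_one.mp h2).symm
  have hconj_smul : ∀ x : G, x • a = a → ∀ n : G, (x * n * x⁻¹) • a = x • (n • a) := by
    intro x hx n
    have hx' : x⁻¹ • a = a := by
      nth_rewrite 1 [← hx]
      rw [inv_smul_smul]
    rw [mul_smul, mul_smul, hx']
  have hKconj : ∀ n ∈ N, ∀ m ∈ N, n ≠ 1 → m ≠ 1 → ∃ x ∈ K, x * n * x⁻¹ = m := by
    intro n hn m hm hn1 hm1
    have hna : n • a ≠ a := fun h => hn1 (hNreg n hn h)
    have hma : m • a ≠ a := fun h => hm1 (hNreg m hm h)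
    obtain ⟨x, hx, hxn⟩ := hKtrans _ _ hna hma
    refine ⟨x, hx, ?_⟩
    apply hNinj _ (hN.conj_mem n hn x) _ hm
    rw [hconj_smul x (hKa x hx), hxn]
  have hfaith : ∀ x y : G, x • a = a → y • a = a →
      (∀ n ∈ N, x * n * x⁻¹ = y * n * y⁻¹) → x = y := by
    intro x y hx hy hxy
    apply FaithfulSMul.eq_of_smul_eq_smul (α := Ω)
    intro ω
    obtain ⟨n, hn, rfl⟩ := hNtr ω
    rw [← hconj_smul x hx, ← hconj_smul y hy, hxy n hn]
  have hKfix : ∀ x ∈ K, x ≠ 1 → ∀ n ∈ N, x * n * x⁻¹ = n → n = 1 := by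
    intro x hx hx1 n hn hxn
    by_contra hn1
    have hna : n • a ≠ a := fun h => hn1 (hNreg n hn h)
    apply hKsemi x hx hx1 _ hna
    rw [← hconj_smul x (hKa x hx), hxn]
  -- nontriviality
  obtain ⟨nb, hnbN, hnb⟩ := hNtr b
  have hnb1 : nb ≠ 1 := by
    rintro rfl
    rw [one_smul] at hnb
    exact hab hnb
  have hNne : N ≠ ⊥ := by
    intro h
    rw [h, Subgroup.mem_bot] at hnbN
    exact hnb1 hnbN
  have hc : ∃ c : Ω, g₀ • c ≠ c := by
    by_contra hcon
    push Not at hcon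
    apply hg₀1
    apply FaithfulSMul.eq_of_smul_eq_smul (α := Ω)
    intro x
    rw [hcon x, one_smul]
  obtain ⟨c, hc⟩ := hc
  have hca : c ≠ a := by
    rintro rfl
    exact hc hga
  have hcb : c ≠ b := by
    rintro rfl
    exact hc hgb
  obtain ⟨xc, hxcK, hxc⟩ := hKtrans b c (Ne.symm hab) hca
  have hxc1 : xc ≠ 1 := by
    rintro rfl
    rw [one_smul] at hxc
    exact hcb hxc.symm
  rcases Nat.even_or_odd (Nat.card K) with heven | hodd
  · -- the even case is impossible
    exfalso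
    haveI : Fact (Nat.Prime 2) := ⟨Nat.prime_two⟩
    obtain ⟨z, hz⟩ := exists_prime_orderOf_dvd_card' (G := K) 2 (even_iff_two_dvd.mp heven)
    have hz2 : (z : G) * (z : G) = 1 := by
      have : z ^ 2 = 1 := by rw [← hz]; exact pow_orderOf_eq_one z
      have h1 : ((z ^ 2 : K) : G) = 1 := by rw [this]; rfl
      rw [← h1, pow_two]; rfl
    have hz1 : (z : G) ≠ 1 := by
      intro h
      have : z = 1 := Subtype.ext h
      rw [this, orderOf_one] at hz
      exact absurd hz (by norm_num)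
    have hzinv := inverts_of_fpf_involution N (z : G) hz2 (hKfix _ z.2 hz1)
    set w : G := g₀ * z * g₀⁻¹ with hw
    have hwK : w ∈ K := hKnorm g₀ hga _ z.2
    have hw2 : w * w = 1 := by
      have : w * w = g₀ * ((z : G) * (z : G)) * g₀⁻¹ := by rw [hw]; group
      rw [this, hz2]; group
    have hw1 : w ≠ 1 := by
      intro h
      apply hz1
      have : (z : G) = g₀⁻¹ * w * g₀ := by rw [hw]; group
      rw [this, h]; group
    have hwinv := inverts_of_fpf_involution N w hw2 (hKfix _ hwK hw1)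
    have hzw : (z : G) = w := by
      apply hfaith _ _ (hKa _ z.2) (hKa _ hwK)
      intro n hn
      rw [hzinv n hn, hwinv n hn]
    have hcomm : g₀ * (z : G) = (z : G) * g₀ := by
      have : g₀ * (z : G) = w * g₀ := by rw [hw]; group
      rw [this, ← hzw]
    exact hz1 (hKfpf g₀ hga hgb hg₀1 _ z.2 hcomm)
  · -- the odd case: K is cyclic
    haveI := hKnil
    have hcyc : IsCyclic K := cyclic_of_frobenius N K a hNtr hNreg hKa hKsemi hNne hodd
    obtain ⟨k₀, hk₀⟩ := hcyc.exists_generator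
    set k : G := (k₀ : G) with hk
    have hKpow : ∀ x ∈ K, ∃ i : ℕ, k ^ i = x := by
      intro x hx
      have h1 : (⟨x, hx⟩ : K) ∈ Subgroup.zpowers k₀ := hk₀ _
      have h2 := (mem_powers_iff_mem_zpowers (x := k₀)).mpr h1
      obtain ⟨i, hi⟩ := h2
      refine ⟨i, ?_⟩
      have := congrArg Subtype.val hi
      exact this
    have hkpowK : ∀ i : ℕ, k ^ i ∈ K := fun i => K.pow_mem k₀.2 i
    -- N is commutative
    have hNcard : Nat.card N ≠ 1 := by
      intro h
      exact hNne (Subgroup.card_eq_one.mp h)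
    set q := (Nat.card N).minFac with hq
    haveI : Fact q.Prime := ⟨Nat.minFac_prime hNcard⟩
    obtain ⟨t, ht⟩ := exists_prime_orderOf_dvd_card' (G := N) q (Nat.minFac_dvd _)
    have ht1 : (t : G) ≠ 1 := by
      intro h
      have : t = 1 := Subtype.ext h
      rw [this, orderOf_one] at ht
      exact (Fact.out : q.Prime).one_lt.ne ht
    have htq : (t : G) ^ q = 1 := by
      have : t ^ q = 1 := by rw [← ht]; exact pow_orderOf_eq_one t
      have h1 : ((t ^ q : N) : G) = 1 := by rw [this]; rfl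
      exact h1
    have hexp : ∀ n ∈ N, n ^ q = 1 := by
      intro n hn
      by_cases hn1 : n = 1
      · rw [hn1, one_pow]
      · obtain ⟨x, -, hx⟩ := hKconj _ t.2 n hn ht1 hn1
        rw [← hx, conj_pow, htq]; group
    have hpN : IsPGroup q N := by
      intro g
      refine ⟨1, ?_⟩
      rw [pow_one]
      exact Subtype.ext (hexp g g.2)
    haveI : Nontrivial N := (Subgroup.nontrivial_iff_ne_bot N).mpr hNne
    haveI := hpN.center_nontrivial
    obtain ⟨z, hz1⟩ := exists_ne (1 : Subgroup.center N)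
    have hzc : ∀ m ∈ N, m * ((z : N) : G) = ((z : N) : G) * m := by
      intro m hm
      have := Subgroup.mem_center_iff.mp z.2 ⟨m, hm⟩
      exact congrArg Subtype.val this
    have hzG1 : ((z : N) : G) ≠ 1 := by
      intro h
      apply hz1
      apply Subtype.ext
      apply Subtype.ext
      exact h
    have hNcomm : ∀ n ∈ N, ∀ m ∈ N, n * m = m * n := by
      intro n hn m hm
      by_cases hn1 : n = 1
      · rw [hn1, one_mul, mul_one]
      · obtain ⟨x, -, hx⟩ := hKconj _ (z : N).2 n hn hzG1 hn1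
        have hm' : x⁻¹ * m * x ∈ N := by
          have := hN.conj_mem m hm x⁻¹
          rwa [inv_inv] at this
        have e := hzc _ hm'
        rw [← hx]
        have e1 : x * ((z : N) : G) * x⁻¹ * m = x * (((z : N) : G) * (x⁻¹ * m * x)) * x⁻¹ := by
          group
        have e2 : m * (x * ((z : N) : G) * x⁻¹) = x * ((x⁻¹ * m * x) * ((z : N) : G)) * x⁻¹ := by
          group
        rw [e1, e2, e]
    haveI : IsMulCommutative N := ⟨⟨fun n m => Subtype.ext (hNcomm n n.2 m m.2)⟩⟩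
    -- an element of prime order in the two-point stabiliser
    have hm1 : orderOf g₀ ≠ 1 := fun h => hg₀1 (orderOf_eq_one_iff.mp h)
    have hm0 : orderOf g₀ ≠ 0 := (orderOf_pos g₀).ne'
    set ℓ := (orderOf g₀).minFac with hℓdef
    have hℓ : ℓ.Prime := Nat.minFac_prime hm1
    set h : G := g₀ ^ (orderOf g₀ / ℓ) with hh
    have hhord : orderOf h = ℓ := orderOf_pow_orderOf_div hm0 (Nat.minFac_dvd _)
    have hha : h • a = a := by
      have : g₀ ∈ stabilizer G a := hga
      exact (stabilizer G a).pow_mem this _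
    have hhb : h • b = b := by
      have : g₀ ∈ stabilizer G b := hgb
      exact (stabilizer G b).pow_mem this _
    have hh1 : h ≠ 1 := by
      intro e
      rw [e, orderOf_one] at hhord
      exact hℓ.one_lt.ne hhord
    have hhℓ : h ^ ℓ = 1 := by rw [← hhord]; exact pow_orderOf_eq_one h
    have hfinal : Nat.card N = 2 ^ ℓ := by
      apply Cfsg.Agent.Helper3.FieldAut.card_of_cyclic_action N k h hℓ
      · intro n hn m hm hn1 hm1
        obtain ⟨x, hx, hxn⟩ := hKconj n hn m hm hn1 hm1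
        obtain ⟨i, hi⟩ := hKpow x hx
        exact ⟨i, by rw [hi]; exact hxn⟩
      · exact (hKpow _ (hKnorm h hha k k₀.2)).imp fun j hj => hj.symm
      · intro i hi
        have hmem : h * k ^ i * h⁻¹ ∈ K := hKnorm h hha _ (hkpowK i)
        have e := hfaith _ _ (hKa _ hmem) (hKa _ (hkpowK i)) hi
        have hcomm : h * k ^ i = k ^ i * h := by
          have : h * k ^ i = (h * k ^ i * h⁻¹) * h := by group
          rw [this, e]
        have h1 := hKfpf h hha hhb hh1 _ (hkpowK i) hcomm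
        intro n hn
        rw [h1]; group
      · exact hhℓ
      · by_contra hcon
        push Not at hcon
        have hk1 : k = 1 := by
          apply hfaith k 1 (hKa k k₀.2) (one_smul _ _)
          intro n hn
          rw [hcon n hn]; group
        obtain ⟨i, hi⟩ := hKpow xc hxcK
        rw [hk1, one_pow] at hi
        exact hxc1 hi.symm
    refine ⟨ℓ, hℓ, ?_⟩
    rw [← hfinal, ← Nat.card_eq_fintype_card]
    symm
    apply Nat.card_congr
    refine Equiv.ofBijective (fun n : N => (n : G) • a) ⟨?_, ?_⟩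
    · intro n m hnm
      exact Subtype.ext (hNinj _ n.2 _ m.2 hnm)
    · intro ω
      obtain ⟨n, hn, hna⟩ := hNtr ω
      exact ⟨⟨n, hn⟩, hna⟩

end Cfsg.Agent.S0341
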