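import Mathlib
import Cfsg.Statements.S0353
import Cfsg.Agent.Lib.Helper27.Steiner
import Cfsg.Agent.S0352

set_option autoImplicit false
open Cfsg

namespace Cfsg.Agent.S0353

open Cfsg.Agent.Helper27 Finset

/-- In an S(5, 8, 24), the symmetric difference of two blocks meeting in four points is a block. -/
theorem result {α : Type*} [Fintype α] [DecidableEq α] (hα : Fintype.card α = 24) {B : Set (Finset α)} (hB : Cfsg.IsSteinerSystem 5 8 B) {b c : Finset α} (hb : b ∈ B) (hc : c ∈ B) (h4 : (b ∩ c).card = 4) : symmDiff b c ∈ B := by
  obtain ⟨Bf, rfl⟩ := exists_finset_blocks B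
  have hb' : b ∈ Bf := by exact_mod_cast hb
  have hc' : c ∈ Bf := by exact_mod_cast hc
  have hbk : b.card = 8 := hB.1 b hb
  have hck : c.card = 8 := hB.1 c hc
  set D := symmDiff b c with hD
  have hDeq : D = (b \ c) ∪ (c \ b) := by rw [hD]; rfl
  have hdisj : Disjoint (b \ c) (c \ b) := by
    rw [disjoint_left]
    intro x hx hx'
    exact (mem_sdiff.mp hx).2 (mem_sdiff.mp hx').1
  have hbc : (b \ c).card = 4 := by
    have := card_sdiff_add_card_inter b c
    omega
  have hcb : (c \ b).card = 4 := by
    have := card_sdiff_add_card_inter c b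
    rw [inter_comm] at this
    omega
  have hDcard : D.card = 8 := by
    rw [hDeq, card_union_of_disjoint hdisj, hbc, hcb]
  -- every block meets D evenly
  have heven : ∀ e ∈ Bf, Even (e ∩ D).card := by
    intro e he
    have he' : e ∈ (Bf : Set (Finset α)) := by exact_mod_cast he
    have hsplit : (e ∩ D).card = (e ∩ (b \ c)).card + (e ∩ (c \ b)).card := by
      rw [hDeq, inter_union_distrib_left, card_union_of_disjoint]
      exact Disjoint.mono inter_subset_right inter_subset_right hdisj
    have key : ∀ x y : Finset α, (e ∩ x).card = (e ∩ (x \ y)).card + (e ∩ (x ∩ y)).card := by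
      intro x y
      rw [← card_union_of_disjoint, ← inter_union_distrib_left, sdiff_union_inter]
      exact Disjoint.mono inter_subset_right inter_subset_right
        (sdiff_disjoint.mono_right inter_subset_right)
    have h1 := key b c
    have h2 := key c b
    rw [inter_comm c b] at h2
    have hevb : Even (e ∩ b).card := by
      by_cases heb : e = b
      · rw [heb, inter_self, hbk]; decide
      · rcases Cfsg.Agent.S0352.result hα hB he' hb heb with h | h | h <;> rw [h] <;> decide
    have hevc : Even (e ∩ c).card := by
      by_cases hec : e = c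
      · rw [hec, inter_self, hck]; decide
      · rcases Cfsg.Agent.S0352.result hα hB he' hc hec with h | h | h <;> rw [h] <;> decide
    rw [hsplit]
    obtain ⟨x, hx⟩ := hevb
    obtain ⟨y, hy⟩ := hevc
    exact ⟨x + y - (e ∩ (b ∩ c)).card, by omega⟩
  -- double counting of 5-subsets of D
  have hcount := sum_choose_inter Bf D 5
  have hlam : ∀ J ∈ D.powersetCard 5, (Bf.filter (fun e => J ⊆ e)).card = 1 := by
    intro J hJ
    rw [mem_powersetCard] at hJ
    have := steiner_lambda Bf hB J (by rw [hJ.2])
    rw [hJ.2] at this
    simpa using this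
  rw [sum_congr rfl hlam, sum_const, card_powersetCard, hDcard, smul_eq_mul, mul_one] at hcount
  -- suppose no block contains D
  by_contra hnot
  have hterm : ∀ e ∈ Bf, ((e ∩ D).card).choose 5 = if (e ∩ D).card = 6 then 6 else 0 := by
    intro e he
    have hle : (e ∩ D).card ≤ 8 := by
      rw [← hDcard]; exact card_le_card inter_subset_right
    have hne8 : (e ∩ D).card ≠ 8 := by
      intro h8
      apply hnot
      have hsub : D ⊆ e := by
        have : e ∩ D = D := eq_of_subset_of_card_le inter_subset_right (by rw [h8, hDcard])
        rw [← this]; exact inter_subset_left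
      have : D = e := eq_of_subset_of_card_le hsub (by rw [hDcard, hB.1 e (by exact_mod_cast he)])
      rw [this]; exact_mod_cast he
    obtain ⟨k, hk⟩ := heven e he
    have hcases : (e ∩ D).card = 0 ∨ (e ∩ D).card = 2 ∨ (e ∩ D).card = 4 ∨ (e ∩ D).card = 6 := by
      omega
    rcases hcases with h | h | h | h <;> rw [h] <;> simp [Nat.choose]
  rw [sum_congr rfl hterm, sum_ite, sum_const, sum_const_zero, add_zero, smul_eq_mul] at hcount
  have : (8 : ℕ).choose 5 = 56 := by decide
  omega

end Cfsg.Agent.S0353
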