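import Mathlib
import Cfsg.Statements.S0354
import Cfsg.Agent.Lib.Helper27.Steiner

set_option autoImplicit false
open Cfsg

namespace Cfsg.Agent.S0354

open Cfsg.Agent.Helper27 Finset

/-- In an S(5, 8, 24), each block is disjoint from exactly 30 blocks. -/
theorem result {α : Type*} [Fintype α] [DecidableEq α] (hα : Fintype.card α = 24) {B : Set (Finset α)} (hB : Cfsg.IsSteinerSystem 5 8 B) {b : Finset α} (hb : b ∈ B) : {c : Finset α | c ∈ B ∧ Disjoint b c}.ncard = 30 := by
  obtain ⟨Bf, rfl⟩ := exists_finset_blocks B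
  have hb' : b ∈ Bf := by exact_mod_cast hb
  have e0 := steiner_inter_eq Bf hB b hb' 0 (by norm_num)
  have e1 := steiner_inter_eq Bf hB b hb' 1 (by norm_num)
  have e2 := steiner_inter_eq Bf hB b hb' 2 (by norm_num)
  have e3 := steiner_inter_eq Bf hB b hb' 3 (by norm_num)
  have e4 := steiner_inter_eq Bf hB b hb' 4 (by norm_num)
  have n5 := steiner_inter_card_eq_zero Bf hB b hb' 5 (by norm_num) (by norm_num)
  have n6 := steiner_inter_card_eq_zero Bf hB b hb' 6 (by norm_num) (by norm_num)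
  have n7 := steiner_inter_card_eq_zero Bf hB b hb' 7 (by norm_num) (by norm_num)
  have n8 := steiner_inter_card_eq_one Bf hB b hb' (by norm_num)
  obtain ⟨n0, hn0⟩ : ∃ n0, n0 = (Bf.filter (fun c => (c ∩ b).card = 0)).card := ⟨_, rfl⟩
  rw [hα] at e0 e1 e2 e3 e4
  simp only [sum_range_succ, range_zero, sum_empty, n5, n6, n7, n8] at e0 e1 e2 e3 e4
  rw [← hn0] at e0 e1 e2 e3 e4
  norm_num [Nat.choose] at e0 e1 e2 e3 e4
  have hset : {c : Finset α | c ∈ (Bf : Set (Finset α)) ∧ Disjoint b c}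
      = ((Bf.filter (fun c => (c ∩ b).card = 0) : Finset (Finset α)) : Set (Finset α)) := by
    ext c
    simp only [Set.mem_ofPred_eq, mem_coe, mem_filter, card_eq_zero]
    rw [disjoint_comm, disjoint_iff_inter_eq_empty]
  rw [hset, Set.ncard_coe_finset, ← hn0]
  omega

end Cfsg.Agent.S0354
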