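import Mathlib
import Cfsg.Statements.S0357
import Cfsg.Agent.Lib.Helper27.Steiner

set_option autoImplicit false
open Cfsg

namespace Cfsg.Agent.S0357

open Cfsg.Agent.Helper27 Finset

/-- In a Steiner system S(5, 6, 12), the complement of every block is again a block. -/
theorem result {α : Type*} [Fintype α] [DecidableEq α] (hα : Fintype.card α = 12) {B : Set (Finset α)} (hB : Cfsg.IsSteinerSystem 5 6 B) {b : Finset α} (hb : b ∈ B) : bᶜ ∈ B := by
  obtain ⟨Bf, rfl⟩ := exists_finset_blocks B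
  have hb' : b ∈ Bf := by exact_mod_cast hb
  have e0 := steiner_inter_eq Bf hB b hb' 0 (by norm_num)
  have e1 := steiner_inter_eq Bf hB b hb' 1 (by norm_num)
  have e2 := steiner_inter_eq Bf hB b hb' 2 (by norm_num)
  have e3 := steiner_inter_eq Bf hB b hb' 3 (by norm_num)
  have e4 := steiner_inter_eq Bf hB b hb' 4 (by norm_num)
  have n5 := steiner_inter_card_eq_zero Bf hB b hb' 5 (by norm_num) (by norm_num)
  have n6 := steiner_inter_card_eq_one Bf hB b hb' (by norm_num)
  obtain ⟨n0, hn0⟩ : ∃ n0, n0 = (Bf.filter (fun c => (c ∩ b).card = 0)).card := ⟨_, rfl⟩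
  rw [hα] at e0 e1 e2 e3 e4
  simp only [sum_range_succ, range_zero, sum_empty, n5, n6] at e0 e1 e2 e3 e4
  rw [← hn0] at e0 e1 e2 e3 e4
  norm_num [Nat.choose] at e0 e1 e2 e3 e4
  have hn0' : (Bf.filter (fun c => (c ∩ b).card = 0)).card = 1 := by rw [← hn0]; omega
  obtain ⟨c, hc⟩ := card_pos.mp (by rw [hn0']; norm_num :
    0 < (Bf.filter (fun c => (c ∩ b).card = 0)).card)
  rw [mem_filter, card_eq_zero, ← disjoint_iff_inter_eq_empty] at hc
  have hck : c.card = 6 := hB.1 c (by exact_mod_cast hc.1)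
  have hbk : b.card = 6 := hB.1 b hb
  have hsub : c ⊆ bᶜ := by
    intro x hx
    rw [mem_compl]
    intro hxb
    exact (disjoint_left.mp hc.2) hx hxb
  have hcard : bᶜ.card = 6 := by
    rw [card_compl, hα, hbk]
  have : c = bᶜ := eq_of_subset_of_card_le hsub (by rw [hcard, hck])
  rw [← this]
  exact_mod_cast hc.1

end Cfsg.Agent.S0357
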