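import Mathlib
import Cfsg.Statements.S0362
import Cfsg.Agent.Lib.Helper27.GolayBasic

set_option autoImplicit false
open Cfsg Cfsg.Agent.Helper27

namespace Cfsg.Agent.S0362

set_option maxRecDepth 100000 in
theorem qr_dot_qr : ∀ s t : ZMod 23, ∑ p, qrWord s p * qrWord t p = 0 := by decide

set_option maxRecDepth 100000 in
theorem qr_dot_one : ∀ s : ZMod 23, ∑ p, qrWord s p * (1 : GolayPt → ZMod 2) p = 0 := by decide

theorem one_dot_one : ∑ p, (1 : GolayPt → ZMod 2) p * (1 : GolayPt → ZMod 2) p = 0 := by decide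

/-- The dot product as a bilinear form. -/
def dotForm : (GolayPt → ZMod 2) →ₗ[ZMod 2] (GolayPt → ZMod 2) →ₗ[ZMod 2] ZMod 2 :=
  LinearMap.mk₂ (ZMod 2) (fun v w => ∑ i, v i * w i)
    (by intro a b c; simp only [Pi.add_apply, add_mul, Finset.sum_add_distrib])
    (by intro c a b; simp only [Pi.smul_apply, smul_eq_mul, Finset.mul_sum, mul_assoc])
    (by intro a b c; simp only [Pi.add_apply, mul_add, Finset.sum_add_distrib])
    (by intro c a b; simp only [Pi.smul_apply, smul_eq_mul, Finset.mul_sum, mul_left_comm])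

theorem dotForm_apply (v w : GolayPt → ZMod 2) : dotForm v w = ∑ i, v i * w i := rfl

theorem gen_dot_gen : ∀ x ∈ (Set.range qrWord ∪ {1} : Set (GolayPt → ZMod 2)),
    ∀ y ∈ (Set.range qrWord ∪ {1} : Set (GolayPt → ZMod 2)), dotForm x y = 0 := by
  rintro x (⟨s, rfl⟩ | hx) y (⟨t, rfl⟩ | hy)
  · exact qr_dot_qr s t
  · rw [Set.mem_singleton_iff] at hy; subst hy; exact qr_dot_one s
  · rw [Set.mem_singleton_iff] at hx; subst hx
    rw [dotForm_apply]
    have := qr_dot_one t
    simpa [mul_comm] using this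
  · rw [Set.mem_singleton_iff] at hx hy; subst hx; subst hy; exact one_dot_one

theorem result (v w : Cfsg.GolayPt → ZMod 2) (hv : v ∈ Cfsg.golayCode) (hw : w ∈ Cfsg.golayCode) : ∑ i, v i * w i = 0 := by
  have h1 : ∀ x ∈ (Set.range qrWord ∪ {1} : Set (GolayPt → ZMod 2)), ∀ y ∈ golayCode, dotForm x y = 0 := by
    intro x hx y hy
    have : golayCode ≤ LinearMap.ker (dotForm x) := by
      unfold golayCode
      rw [Submodule.span_le]
      intro z hz
      exact gen_dot_gen x hx z hz
    exact this hy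
  have h2 : golayCode ≤ LinearMap.ker (dotForm.flip w) := by
    unfold golayCode
    rw [Submodule.span_le]
    intro x hx
    exact h1 x hx w hw
  exact h2 hv

end Cfsg.Agent.S0362
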