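import Mathlib
import Cfsg.Statements.S0371
import Cfsg.Agent.Lib.Helper27.GolayBasic

set_option autoImplicit false
open Cfsg Cfsg.Agent.Helper27

namespace Cfsg.Agent.S0371

instance fact_prime_23 : Fact (Nat.Prime 23) := ⟨by norm_num⟩

theorem permWord_mulSq (s : (ZMod 23)ˣ) (t : ZMod 23) :
    permWord (Equiv.optionCongr (Units.mulLeft (s * s))) (qrWord t) = qrWord ((s * s : (ZMod 23)ˣ) * t) := by
  funext p
  cases p with
  | none => rfl
  | some x =>
    show qrWord t ((Equiv.optionCongr (Units.mulLeft (s * s))).symm (some x)) = qrWord _ (some x)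
    have : (Equiv.optionCongr (Units.mulLeft (s * s))).symm (some x) =
        some (((s * s)⁻¹ : (ZMod 23)ˣ) * x) := rfl
    rw [this]
    unfold qrWord
    have hs : ((s⁻¹ : (ZMod 23)ˣ) : ZMod 23) * (s : ZMod 23) = 1 := by
      rw [← Units.val_mul, inv_mul_cancel, Units.val_one]
    have hiff : (∃ r : ZMod 23, (((s * s)⁻¹ : (ZMod 23)ˣ) : ZMod 23) * x = r ^ 2 + t) ↔
        (∃ r : ZMod 23, x = r ^ 2 + ((s * s : (ZMod 23)ˣ) : ZMod 23) * t) := by
      constructor
      · rintro ⟨r, hr⟩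
        refine ⟨s * r, ?_⟩
        have h2 : x = ((s * s : (ZMod 23)ˣ) : ZMod 23) * ((((s * s)⁻¹ : (ZMod 23)ˣ) : ZMod 23) * x) := by
          rw [← mul_assoc, ← Units.val_mul, mul_inv_cancel, Units.val_one, one_mul]
        rw [h2, hr, Units.val_mul]; ring
      · rintro ⟨r, hr⟩
        refine ⟨(s⁻¹ : (ZMod 23)ˣ) * r, ?_⟩
        rw [hr, mul_add, ← mul_assoc, ← Units.val_mul, inv_mul_cancel, Units.val_one, one_mul,
          mul_inv_rev, Units.val_mul]
        ring
    simp only [hiff]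

theorem mulLeft_inv (u : (ZMod 23)ˣ) :
    (Equiv.optionCongr (Units.mulLeft u))⁻¹ = Equiv.optionCongr (Units.mulLeft u⁻¹) := by
  ext p
  cases p with
  | none => rfl
  | some x => rfl

theorem result (u : (ZMod 23)ˣ) (hu : IsSquare u) : Equiv.optionCongr (Units.mulLeft u) ∈ Cfsg.M24 := by
  obtain ⟨s, rfl⟩ := hu
  apply mem_M24_of_gens
  · intro t; rw [permWord_mulSq]; exact qrWord_mem _
  · intro t
    rw [mulLeft_inv]
    have : (s * s)⁻¹ = s⁻¹ * s⁻¹ := by rw [mul_inv_rev]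
    rw [this, permWord_mulSq]; exact qrWord_mem _

end Cfsg.Agent.S0371
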