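import Mathlib
import Cfsg.Statements.S0390

set_option autoImplicit false
open Cfsg

namespace Cfsg.Agent.S0390

theorem one_mem_golay : (1 : GolayPt → ZMod 2) ∈ golayCode :=
  Submodule.subset_span (Set.mem_union_right _ (Set.mem_singleton 1))

theorem zmod2_cases (a : ZMod 2) : a = 0 ∨ a = 1 := by
  fin_cases a
  · left; rfl
  · right; rfl

theorem empty_mem_supports : (∅ : Finset GolayPt) ∈ supports (golayCode : Set (GolayPt → ZMod 2)) := by
  refine ⟨0, golayCode.zero_mem, ?_⟩
  ext i
  simp [support₂]

theorem univ_mem_supports :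
    (Finset.univ : Finset GolayPt) ∈ supports (golayCode : Set (GolayPt → ZMod 2)) := by
  refine ⟨1, one_mem_golay, ?_⟩
  ext i
  simp [support₂]

theorem leech_zero : (0 : GolayPt → ℤ) ∈ leechSet := by
  refine ⟨0, fun i => Int.ModEq.refl _, by simp, fun k => ?_⟩
  by_cases hk : (0 : ℤ) ≡ k [ZMOD 4]
  · have : (Finset.univ.filter fun i : GolayPt => (0 : GolayPt → ℤ) i ≡ k [ZMOD 4]) = Finset.univ := by
      ext i; simp [hk]
    rw [this]; exact univ_mem_supports
  · have : (Finset.univ.filter fun i : GolayPt => (0 : GolayPt → ℤ) i ≡ k [ZMOD 4]) = ∅ := by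
      ext i; simp [hk]
    rw [this]; exact empty_mem_supports

theorem leech_neg {x : GolayPt → ℤ} (hx : x ∈ leechSet) : -x ∈ leechSet := by
  obtain ⟨m, h1, h2, h3⟩ := hx
  refine ⟨-m, fun i => ?_, ?_, fun k => ?_⟩
  · exact (h1 i).neg
  · have : ∑ i, (-x) i = -∑ i, x i := by simp
    rw [this]
    have := h2.neg
    have e : 4 * -m = -(4 * m) := by ring
    rw [e]; exact this
  · have : (Finset.univ.filter fun i : GolayPt => (-x) i ≡ k [ZMOD 4]) =
        (Finset.univ.filter fun i : GolayPt => x i ≡ -k [ZMOD 4]) := by
      apply Finset.filter_congr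
      intro i _
      simp only [Pi.neg_apply, Int.ModEq]
      omega
    rw [this]; exact h3 (-k)

theorem leech_add {x y : GolayPt → ℤ} (hx : x ∈ leechSet) (hy : y ∈ leechSet) :
    x + y ∈ leechSet := by
  obtain ⟨m, h1, h2, h3⟩ := hx
  obtain ⟨m', h1', h2', h3'⟩ := hy
  refine ⟨m + m', fun i => (h1 i).add (h1' i), ?_, fun k => ?_⟩
  · have : ∑ i, (x + y) i = ∑ i, x i + ∑ i, y i := by simp [Finset.sum_add_distrib]
    rw [this]
    have e : 4 * (m + m') = 4 * m + 4 * m' := by ring
    rw [e]; exact h2.add h2'
  · by_cases hk : k ≡ m + m' [ZMOD 2]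
    · obtain ⟨wx, hwx, hsx⟩ := h3 m
      obtain ⟨wy, hwy, hsy⟩ := h3' (k - m)
      refine ⟨1 + wx + wy, golayCode.add_mem (golayCode.add_mem one_mem_golay hwx) hwy, ?_⟩
      ext i
      have hxi : wx i ≠ 0 ↔ x i ≡ m [ZMOD 4] := by
        have := Finset.ext_iff.mp hsx i
        simpa [support₂] using this
      have hyi : wy i ≠ 0 ↔ y i ≡ k - m [ZMOD 4] := by
        have := Finset.ext_iff.mp hsy i
        simpa [support₂] using this
      have hx2 := h1 i
      have hy2 := h1' i
      simp only [support₂, Finset.mem_filter, Finset.mem_univ, true_and, Pi.add_apply,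
        Pi.one_apply]
      simp only [Int.ModEq] at hxi hyi hx2 hy2 hk ⊢
      rcases zmod2_cases (wx i) with hwx0 | hwx1 <;> rcases zmod2_cases (wy i) with hwy0 | hwy1
      · rw [hwx0, hwy0]
        simp only [hwx0, ne_eq, not_true_eq_false, false_iff] at hxi
        simp only [hwy0, ne_eq, not_true_eq_false, false_iff] at hyi
        constructor
        · intro _; omega
        · intro _; decide
      · rw [hwx0, hwy1]
        simp only [hwx0, ne_eq, not_true_eq_false, false_iff] at hxi
        have hyi' : y i % 4 = (k - m) % 4 := hyi.mp (by rw [hwy1]; decide)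
        constructor
        · intro h; exact absurd rfl h
        · intro h; exfalso; omega
      · rw [hwx1, hwy0]
        have hxi' : x i % 4 = m % 4 := hxi.mp (by rw [hwx1]; decide)
        simp only [hwy0, ne_eq, not_true_eq_false, false_iff] at hyi
        constructor
        · intro h; exact absurd rfl h
        · intro h; exfalso; omega
      · rw [hwx1, hwy1]
        have hxi' : x i % 4 = m % 4 := hxi.mp (by rw [hwx1]; decide)
        have hyi' : y i % 4 = (k - m) % 4 := hyi.mp (by rw [hwy1]; decide)
        constructor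
        · intro _; omega
        · intro _; decide
    · have : (Finset.univ.filter fun i : GolayPt => (x + y) i ≡ k [ZMOD 4]) = ∅ := by
        ext i
        simp only [Finset.mem_filter, Finset.mem_univ, true_and, Pi.add_apply,
          Finset.notMem_empty, iff_false]
        intro h
        apply hk
        have hx2 := h1 i
        have hy2 := h1' i
        simp only [Int.ModEq] at h hx2 hy2 ⊢
        omega
      rw [this]; exact empty_mem_supports

/-- The set leechSet is the carrier of an additive subgroup (hence equals leechLattice). -/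
theorem result : ∃ L : AddSubgroup (Cfsg.GolayPt → ℤ), (L : Set (Cfsg.GolayPt → ℤ)) = Cfsg.leechSet := by
  exact ⟨{ carrier := leechSet
           zero_mem' := leech_zero
           add_mem' := leech_add
           neg_mem' := leech_neg }, rfl⟩

end Cfsg.Agent.S0390
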