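import Mathlib
import Cfsg.Statements.S0408
import Cfsg.Agent.Lib.Helper17.SteinerStd

set_option autoImplicit false
open Cfsg

namespace Cfsg.Agent.S0408

/-- Uniqueness of the Steiner system S(5, 6, 12) up to isomorphism. -/
theorem result {α β : Type*} [Fintype α] [DecidableEq α] [Fintype β] [DecidableEq β] (hα : Fintype.card α = 12) (hβ : Fintype.card β = 12) {B : Set (Finset α)} {B' : Set (Finset β)} (hB : Cfsg.IsSteinerSystem 5 6 B) (hB' : Cfsg.IsSteinerSystem 5 6 B') : Cfsg.SetSystemIso B B' := by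
  obtain ⟨p⟩ : Nonempty α := by rw [← Fintype.card_pos_iff, hα]; norm_num
  obtain ⟨q⟩ : Nonempty β := by rw [← Fintype.card_pos_iff, hβ]; norm_num
  obtain ⟨e1, _, h1⟩ := Cfsg.Agent.Helper17.SteinerCover.std12 hB hα p
  obtain ⟨e2, _, h2⟩ := Cfsg.Agent.Helper17.SteinerCover.std12 hB' hβ q
  exact Cfsg.Agent.Helper17.SteinerCover.iso_of_std e1 e2 h1 h2

end Cfsg.Agent.S0408
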