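import Mathlib
import Cfsg.Statements.S0413
import Cfsg.Agent.Lib.Helper27.WittChar
import Cfsg.Agent.S0409
import Cfsg.Agent.S0363
import Cfsg.Agent.S0366
import Cfsg.Agent.S0369
import Cfsg.Agent.S0376
import Cfsg.Agent.S0377

set_option autoImplicit false
open Cfsg

namespace Cfsg.Agent.S0413

open Cfsg.Agent.Helper27.Witt

theorem stab_simple_transfer (K K' : Subgroup (Equiv.Perm Cfsg.GolayPt)) (h : K = K')
    (p : Cfsg.GolayPt) (hs : IsSimpleGroup (MulAction.stabilizer K p)) :
    IsSimpleGroup (MulAction.stabilizer K' p) := by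
  subst h; exact hs

theorem stab_card_transfer (K K' : Subgroup (Equiv.Perm Cfsg.GolayPt)) (h : K = K')
    (p : Cfsg.GolayPt) : Nat.card (MulAction.stabilizer K p) = Nat.card (MulAction.stabilizer K' p) := by
  subst h; rfl

/-- The automorphism group of any Steiner system S(4, 7, 23) is M23 and is 4-transitive on points. -/
theorem result {α : Type*} [Fintype α] [DecidableEq α] (hα : Fintype.card α = 23) {B : Set (Finset α)} (hB : Cfsg.IsSteinerSystem 4 7 B) : Cfsg.IsM23 (Cfsg.setSystemAut B) ∧ MulAction.IsMultiplyPretransitive (Cfsg.setSystemAut B) α 4 := by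
  have hoct : Cfsg.IsSteinerSystem 5 8 Cfsg.octads := Cfsg.Agent.S0363.result
  have hcardG : Fintype.card Cfsg.GolayPt = 24 := by
    simp [Cfsg.GolayPt, ZMod.card]
  set p0 : Cfsg.GolayPt := none with hp0
  have hder : Cfsg.IsSteinerSystem 4 7 (der Cfsg.octads p0) :=
    Cfsg.Agent.S0351.result (t := 4) (k := 7) hoct p0
  have hcard' : Fintype.card {a : Cfsg.GolayPt // a ≠ p0} = 23 := by
    rw [Fintype.card_subtype_compl, Fintype.card_subtype_eq, hcardG]
  obtain ⟨e, he⟩ := Cfsg.Agent.S0409.result hα hcard' hB hder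
  have hM : Cfsg.M24 = Cfsg.setSystemAut Cfsg.octads := Cfsg.Agent.S0369.result
  obtain ⟨φ⟩ := stabIso Cfsg.octads p0 ⊤
    (fun τ _ => ofSubtype_mem_aut24 hoct hcardG p0 τ.1 τ.2) (fun _ _ _ _ => Subgroup.mem_top _)
  have hsimple : IsSimpleGroup (MulAction.stabilizer (↥(Cfsg.setSystemAut Cfsg.octads)) p0) :=
    stab_simple_transfer _ _ hM p0 (Cfsg.Agent.S0377.result p0)
  have hcard : Nat.card (MulAction.stabilizer (↥(Cfsg.setSystemAut Cfsg.octads)) p0) = 10200960 := by
    rw [← stab_card_transfer _ _ hM p0]; exact Cfsg.Agent.S0376.result p0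
  have htrans : MulAction.IsMultiplyPretransitive (Cfsg.setSystemAut Cfsg.octads) Cfsg.GolayPt 5 := by
    rw [← hM]; exact Cfsg.Agent.S0366.result
  -- the chain of isomorphisms
  let Φ : Cfsg.setSystemAut B ≃* MulAction.stabilizer (↥(Cfsg.setSystemAut Cfsg.octads)) p0 :=
    ((autCongr e he).trans Subgroup.topEquiv.symm).trans φ
  refine ⟨⟨?_, ?_⟩, ?_⟩
  · exact Φ.isSimpleGroup
  · rw [Nat.card_congr Φ.toEquiv, hcard]
  · exact multiplyPretransitive_congr e he 4 (multiplyPretransitive_der Cfsg.octads p0 4 htrans)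

end Cfsg.Agent.S0413
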