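import Cfsg.Agent.Lib.Helper22.SharpSylow
import Cfsg.Statements.S0417
-- import your own Cfsg.Agent.* helpers here

set_option autoImplicit false
open Cfsg

namespace Cfsg.Agent.S0417


/-- For k ≥ 6, sharply k-transitive groups have degree k, k+1 or k+2. -/
theorem result {α : Type*} [Fintype α] [DecidableEq α] (G : Subgroup (Equiv.Perm α)) (k : ℕ) (hk : 6 ≤ k) (hn : k ≤ Fintype.card α) [MulAction.IsMultiplyPretransitive G α k] (hsharp : ∀ x : Fin k ↪ α, MulAction.stabilizer G x = ⊥) : Fintype.card α = k ∨ Fintype.card α = k + 1 ∨ Fintype.card α = k + 2 := by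
  have hS : Cfsg.Agent.Helper22.SharpK.Sharp G α k := by
    refine ⟨inferInstance, fun x g hg => ?_⟩
    have h1 : g ∈ MulAction.stabilizer G x := hg
    rw [hsharp x] at h1
    exact Subgroup.mem_bot.mp h1
  have := Cfsg.Agent.Helper22.SharpK.card_of_sharp_ge_six k hk G α hS
    (by rw [Nat.card_eq_fintype_card]; exact hn)
  rw [Nat.card_eq_fintype_card] at this
  exact this

end Cfsg.Agent.S0417
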