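import Mathlib
import Cfsg.Statements.S0425
import Cfsg.Agent.Lib.Helper17.SteinerAut
import Cfsg.Agent.S0419

set_option autoImplicit false
open Cfsg

namespace Cfsg.Agent.S0425

/-- Aut of an S(5, 6, 12) is simple of order 95040 and sharply 5-transitive on points. -/
theorem result {α : Type*} [Fintype α] [DecidableEq α] (hα : Fintype.card α = 12) {B : Set (Finset α)} (hB : Cfsg.IsSteinerSystem 5 6 B) : Cfsg.IsM12 (Cfsg.setSystemAut B) ∧ MulAction.IsMultiplyPretransitive (Cfsg.setSystemAut B) α 5 ∧ ∀ x : Fin 5 ↪ α, MulAction.stabilizer (Cfsg.setSystemAut B) x = ⊥ := by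
  obtain ⟨htr, hsh⟩ := Cfsg.Agent.Helper17.SteinerCover.aut_sharp (B := B)
    (Cfsg.Agent.Helper27.Witt.famO 12 Cfsg.Agent.Helper17.SteinerCover.DL12)
    (fun i : Fin 5 => (⟨11 - i.val, by omega⟩ : Fin 12))
    (by
      intro x
      obtain ⟨e, he, himg⟩ := Cfsg.Agent.Helper17.SteinerCover.exists_label12 hB hα x
      exact ⟨e, fun i => Fin.ext (he i), himg⟩)
    (by
      intro σ hσ hfix
      apply Cfsg.Agent.Helper17.SteinerCover.rigid12 σ hσ
      intro i hi
      have h11 : i.val ≤ 11 := by omega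
      have := hfix ⟨11 - i.val, by omega⟩
      have hc : (⟨11 - (⟨11 - i.val, by omega⟩ : Fin 5).val, by omega⟩ : Fin 12) = i := by
        apply Fin.ext
        show 11 - (11 - i.val) = i.val
        omega
      rw [hc] at this
      exact this)
  haveI := htr
  exact ⟨Cfsg.Agent.S0419.result hα (Cfsg.setSystemAut B) hsh, htr, hsh⟩

end Cfsg.Agent.S0425
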