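import Mathlib
import Cfsg.Statements.S0427
import Cfsg.Agent.Lib.Helper3.Steiner22

set_option autoImplicit false
open Cfsg

namespace Cfsg.Agent.S0427

open Finset Cfsg.Agent.Helper27 Cfsg.Agent.Helper3.Steiner22

/-- Cardinality of a set of blocks (as a set in the subtype) via a filter. -/
theorem card_set_subtype {β : Type*} [DecidableEq β] (Bf : Finset β)
    (S : Set ↥((Bf : Set β))) [Fintype ↥S] (P : β → Prop) [DecidablePred P]
    (h : ∀ c (hc : c ∈ (Bf : Set β)), (⟨c, hc⟩ : ↥((Bf : Set β))) ∈ S ↔ P c) :
    Fintype.card ↥S = (Bf.filter P).card := by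
  rw [← Nat.card_eq_fintype_card, Nat.card_coe_set_eq,
    ← Set.ncard_image_of_injective S Subtype.val_injective]
  have : Subtype.val '' S = ((Bf.filter P : Finset β) : Set β) := by
    ext c
    simp only [Set.mem_image, Subtype.exists, exists_and_right, exists_eq_right, coe_filter,
      Set.mem_setOf_eq]
    constructor
    · rintro ⟨hc, hS⟩
      exact ⟨hc, (h c hc).mp hS⟩
    · rintro ⟨hc, hP⟩
      exact ⟨hc, (h c hc).mpr hP⟩
  rw [this, Set.ncard_coe_finset]

/-- The block graph (adjacent = disjoint) of an S(3, 6, 22) is strongly regular with parameters (77, 16, 0, 4). -/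
theorem result {α : Type*} [Fintype α] (hα : Fintype.card α = 22) {B : Set (Finset α)} (hB : Cfsg.IsSteinerSystem 3 6 B) [Fintype B] [DecidableRel (Cfsg.blockGraph B).Adj] : (Cfsg.blockGraph B).IsSRGWith 77 16 0 4 := by
  classical
  obtain ⟨Bf, rfl⟩ := exists_finset_blocks B
  have hcard6 : ∀ c ∈ Bf, c.card = 6 := fun c hc => hB.1 c (by exact_mod_cast hc)
  have hadj : ∀ v w : ↥((Bf : Set (Finset α))), (Cfsg.blockGraph (Bf : Set (Finset α))).Adj v w ↔
      ((w : Finset α) ∩ (v : Finset α)).card = 0 := by
    intro v w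
    unfold Cfsg.blockGraph
    rw [SimpleGraph.fromRel_adj, card_eq_zero, ← disjoint_iff_inter_eq_empty]
    constructor
    · rintro ⟨_, h | h⟩
      · exact h.symm
      · exact h
    · intro h
      refine ⟨?_, Or.inr h⟩
      intro hvw
      rw [hvw, disjoint_self_iff_empty] at h
      have := hcard6 w.1 (by exact_mod_cast w.2)
      rw [h] at this
      simp at this
  refine ⟨?_, ?_, ?_, ?_⟩
  · rw [Fintype.card_of_subtype Bf (fun x => Finset.mem_coe.symm)]
    exact card_blocks hα Bf hB
  · intro v
    rw [← SimpleGraph.card_neighborSet_eq_degree]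
    rw [card_set_subtype Bf _ (fun c => (c ∩ (v : Finset α)).card = 0)]
    · exact (inter_numbers hα Bf hB v.1 (by exact_mod_cast v.2)).1
    · intro c hc
      rw [SimpleGraph.mem_neighborSet, hadj]
  · intro v w hvw
    rw [card_set_subtype Bf _ (fun d => (d ∩ (v : Finset α)).card = 0 ∧ (d ∩ (w : Finset α)).card = 0)]
    · have hvw' := (hadj v w).mp hvw
      have h0 := card_disjoint_both_of_disjoint hα Bf hB v.1 w.1 (by exact_mod_cast v.2)
        (by exact_mod_cast w.2) hvw'
      refine Eq.trans ?_ h0
      congr 1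
      ext d
      simp only [mem_filter, mem_erase]
      constructor
      · rintro ⟨hd, h1, h2⟩
        refine ⟨⟨?_, hd, h1⟩, h2⟩
        intro hdw
        rw [hdw, inter_self, hcard6 _ (by exact_mod_cast w.2)] at h2
        omega
      · rintro ⟨⟨_, hd, h1⟩, h2⟩
        exact ⟨hd, h1, h2⟩
    · intro c hc
      rw [SimpleGraph.mem_commonNeighbors, hadj, hadj]
  · intro v w hne hnadj
    rw [card_set_subtype Bf _ (fun d => (d ∩ (v : Finset α)).card = 0 ∧ (d ∩ (w : Finset α)).card = 0)]
    · have hne' : (w : Finset α) ≠ (v : Finset α) := fun h => hne (Subtype.ext h.symm)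
      have h02 := inter_zero_or_two hα Bf hB v.1 w.1 (by exact_mod_cast v.2)
        (by exact_mod_cast w.2) hne'
      have h2 : ((w : Finset α) ∩ (v : Finset α)).card = 2 := by
        rcases h02 with h | h
        · exact absurd ((hadj v w).mpr h) hnadj
        · exact h
      have h4 := card_disjoint_both_of_meet hα Bf hB v.1 w.1 (by exact_mod_cast v.2)
        (by exact_mod_cast w.2) h2
      refine Eq.trans ?_ h4
      rw [filter_filter]
    · intro c hc
      rw [SimpleGraph.mem_commonNeighbors, hadj, hadj]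

end Cfsg.Agent.S0427
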