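import Mathlib
import Cfsg.Statements.S0436

set_option autoImplicit false
open Cfsg

namespace Cfsg.Agent.S0436

theorem sq_one_of_orderOf {G : Type*} [Group G] {x : G} (h : orderOf x = 2) : x * x = 1 := by
  have := pow_orderOf_eq_one x
  rw [h, pow_two] at this
  exact this

theorem comm_of_sq {G : Type*} [Group G] {x y : G} (hx : x * x = 1) (hy : y * y = 1)
    (h : (x * y) ^ 2 = 1) : x * y = y * x := by
  have h1 : x * y * (x * y) = 1 := by rw [← pow_two]; exact h
  have h2 : x * y = (x * y)⁻¹ := eq_inv_of_mul_eq_one_left h1
  rw [h2, mul_inv_rev, inv_eq_of_mul_eq_one_left hx, inv_eq_of_mul_eq_one_left hy]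

theorem braid_of_cube {G : Type*} [Group G] {x y : G} (hx : x * x = 1) (hy : y * y = 1)
    (h : (x * y) ^ 3 = 1) : x * y * x = y * x * y := by
  have h1 : (x * y * x) * (y * x * y) = 1 := by
    rw [← h, pow_succ, pow_two]; simp only [mul_assoc]
  have h2 : x * y * x = (y * x * y)⁻¹ := eq_inv_of_mul_eq_one_left h1
  rw [h2, mul_inv_rev, mul_inv_rev, inv_eq_of_mul_eq_one_left hx, inv_eq_of_mul_eq_one_left hy,
    mul_assoc]

/-- For distinct commuting members a, b of a set of 3-transpositions E, a member e of E centralises the product a * b if and only if it centralises both a and b. -/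
theorem result {G : Type*} [Group G] {E : Set G} (hE : Cfsg.IsThreeTranspositionSet E) {a b e : G} (ha : a ∈ E) (hb : b ∈ E) (he : e ∈ E) (hab : a ≠ b) (hcomm : Commute a b) : Commute e (a * b) ↔ (Commute e a ∧ Commute e b) := by
  constructor
  · intro h
    have ha2 := sq_one_of_orderOf (hE.1 a ha)
    have hb2 := sq_one_of_orderOf (hE.1 b hb)
    have he2 := sq_one_of_orderOf (hE.1 e he)
    have h' : e * (a * b) = (a * b) * e := h
    have hc : a * b = b * a := hcomm
    -- commuting with a gives commuting with b and conversely
    have key1 : e * a = a * e → e * b = b * e := by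
      intro h1
      calc e * b = e * (a * (a * b)) := by rw [← mul_assoc a a b, ha2, one_mul]
        _ = (e * a) * (a * b) := by rw [mul_assoc]
        _ = a * (e * (a * b)) := by rw [h1, mul_assoc]
        _ = a * ((a * b) * e) := by rw [h']
        _ = (a * a) * b * e := by simp only [mul_assoc]
        _ = b * e := by rw [ha2, one_mul]
    have key2 : e * b = b * e → e * a = a * e := by
      intro h1
      calc e * a = e * (b * (b * a)) := by rw [← mul_assoc b b a, hb2, one_mul]
        _ = (e * b) * (a * b) := by rw [mul_assoc, hc]
        _ = b * (e * (a * b)) := by rw [h1, mul_assoc]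
        _ = b * ((b * a) * e) := by rw [h', hc]
        _ = (b * b) * a * e := by simp only [mul_assoc]
        _ = a * e := by rw [hb2, one_mul]
    rcases hE.2 e he a ha with h1 | h1
    · have := comm_of_sq he2 ha2 h1
      exact ⟨this, key1 this⟩
    · rcases hE.2 e he b hb with h2 | h2
      · have := comm_of_sq he2 hb2 h2
        exact ⟨key2 this, this⟩
      · exfalso
        have b1 := braid_of_cube he2 ha2 h1
        have b2 := braid_of_cube he2 hb2 h2
        have h3 : a * e * a = b * e * b := by
          calc a * e * a = a * (e * (a * b)) * b := by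
                simp only [mul_assoc]; rw [hb2, mul_one]
            _ = a * ((a * b) * e) * b := by rw [h']
            _ = (a * a) * b * e * b := by simp only [mul_assoc]
            _ = b * e * b := by rw [ha2, one_mul]
        have h4 : e * a * e = e * b * e := by rw [b1, b2, h3]
        apply hab
        have h5 := mul_right_cancel h4
        exact mul_left_cancel h5
  · rintro ⟨h1, h2⟩
    exact h1.mul_right h2

end Cfsg.Agent.S0436
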