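import Mathlib
import Cfsg.Statements.S0437
import Cfsg.Agent.S0436

set_option autoImplicit false
open Cfsg

namespace Cfsg.Agent.S0437

/-- The key word computation (a collapsing quotient of the Coxeter group of type D4). -/
theorem key {G : Type*} [Group G] {a b c e : G} (ha2 : a * a = 1) (hb2 : b * b = 1) (hc2 : c * c = 1)
    (he2 : e * e = 1) (hab : a * b = b * a) (hac : a * c = c * a) (hbc : b * c = c * b)
    (b1 : e * a * e = a * e * a) (b2 : e * b * e = b * e * b) (b3 : e * c * e = c * e * c)
    (ht : e * (a * b * c) = a * b * c * e) : a = b := by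
  have : e * a = e * b := by grind (acSteps := 100000)
  exact mul_left_cancel this

open Cfsg.Agent.S0436 in
/-- if `e` commutes with `a` and with `a*b*c`, it commutes with `b` and `c`. -/
theorem step {G : Type*} [Group G] {E : Set G} (hE : Cfsg.IsThreeTranspositionSet E) {a b c e : G}
    (ha : a ∈ E) (hb : b ∈ E) (hc : c ∈ E) (he : e ∈ E) (hbc : b ≠ c)
    (h₃ : Commute b c) (h : Commute e (a * b * c)) (hea : Commute e a) :
    Commute e b ∧ Commute e c := by
  have ha2 := sq_one_of_orderOf (hE.1 a ha)
  have h1 : Commute e (b * c) := by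
    have : b * c = a * (a * b * c) := by
      simp only [← mul_assoc]; rw [ha2, one_mul]
    rw [this]
    exact hea.mul_right h
  exact (Cfsg.Agent.S0436.result hE hb hc he hbc h₃).1 h1

open Cfsg.Agent.S0436 in
/-- For three distinct, pairwise commuting members a, b, c of a set of 3-transpositions E, a member e of E centralises a * b * c if and only if it centralises each of a, b and c. -/
theorem result {G : Type*} [Group G] {E : Set G} (hE : Cfsg.IsThreeTranspositionSet E) {a b c e : G} (ha : a ∈ E) (hb : b ∈ E) (hc : c ∈ E) (he : e ∈ E) (hab : a ≠ b) (hac : a ≠ c) (hbc : b ≠ c) (h₁ : Commute a b) (h₂ : Commute a c) (h₃ : Commute b c) : Commute e (a * b * c) ↔ (Commute e a ∧ Commute e b ∧ Commute e c) := by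
  constructor
  · intro h
    have ha2 := sq_one_of_orderOf (hE.1 a ha)
    have hb2 := sq_one_of_orderOf (hE.1 b hb)
    have hc2 := sq_one_of_orderOf (hE.1 c hc)
    have he2 := sq_one_of_orderOf (hE.1 e he)
    have hab' : a * b = b * a := h₁
    have hac' : a * c = c * a := h₂
    have hbc' : b * c = c * b := h₃
    rcases hE.2 e he a ha with k1 | k1
    · have hea : Commute e a := comm_of_sq he2 ha2 k1
      obtain ⟨x, y⟩ := step hE ha hb hc he hbc h₃ h hea
      exact ⟨hea, x, y⟩
    rcases hE.2 e he b hb with k2 | k2
    · have heb : Commute e b := comm_of_sq he2 hb2 k2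
      have h' : Commute e (b * a * c) := by rw [← hab']; exact h
      obtain ⟨x, y⟩ := step hE hb ha hc he hac h₂ h' heb
      exact ⟨x, heb, y⟩
    rcases hE.2 e he c hc with k3 | k3
    · have hec : Commute e c := comm_of_sq he2 hc2 k3
      have h' : Commute e (c * a * b) := by
        have : c * a * b = a * b * c := by
          rw [← hac', mul_assoc, ← hbc', ← mul_assoc]
        rw [this]; exact h
      obtain ⟨x, y⟩ := step hE hc ha hb he hab h₁ h' hec
      exact ⟨x, y, hec⟩
    · exfalso
      have b1 : e * a * e = a * e * a := braid_of_cube he2 ha2 k1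
      have b2 : e * b * e = b * e * b := braid_of_cube he2 hb2 k2
      have b3 : e * c * e = c * e * c := braid_of_cube he2 hc2 k3
      have ht : e * (a * b * c) = (a * b * c) * e := h
      exact hab (key ha2 hb2 hc2 he2 hab' hac' hbc' b1 b2 b3 ht)
  · rintro ⟨k1, k2, k3⟩
    exact (k1.mul_right k2).mul_right k3

end Cfsg.Agent.S0437
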