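import Mathlib
import Cfsg.Statements.S0439

set_option autoImplicit false
open Cfsg

namespace Cfsg.Agent.S0439

open Equiv Equiv.Perm in
theorem swap_mul_swap_pow {α : Type*} [DecidableEq α] [Fintype α] {a b c d : α} (hab : a ≠ b) (hcd : c ≠ d) :
    (swap a b * swap c d) ^ 2 = 1 ∨ (swap a b * swap c d) ^ 3 = 1 := by
  have three : ∀ {x y z : α}, x ≠ y → x ≠ z → y ≠ z → (swap x y * swap x z) ^ 3 = 1 := by
    intro x y z h1 h2 h3
    have := (isThreeCycle_swap_mul_swap_same h1 h2 h3).orderOf
    rw [← this]; exact pow_orderOf_eq_one _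
  by_cases hac : a = c
  · subst hac
    by_cases hbd : b = d
    · subst hbd
      left; simp
    · right; exact three hab hcd hbd
  · by_cases had : a = d
    · subst had
      by_cases hbc : b = c
      · subst hbc
        left; rw [swap_comm b a]; simp
      · right; rw [swap_comm c a]; exact three hab hac hbc
    · by_cases hbc : b = c
      · subst hbc
        right; rw [swap_comm a b]; exact three (Ne.symm hab) hcd had
      · by_cases hbd : b = d
        · subst hbd
          right; rw [swap_comm a b, swap_comm c b]; exact three (Ne.symm hab) (Ne.symm hcd) hac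
        · left
          have hdisj : Disjoint (swap a b) (swap c d) := by
            apply disjoint_swap_swap
            simp [hab, hac, had, hbc, hbd, hcd]
          have hc : Commute (swap a b) (swap c d) := hdisj.commute
          rw [hc.mul_pow]; simp [pow_two]

open Equiv Equiv.Perm in
/-- In the symmetric group of degree n ≥ 2, the set of transpositions is a conjugacy class of 3-transpositions which generates the group. -/
theorem result (n : ℕ) (hn : 2 ≤ n) : Cfsg.IsThreeTranspositionClass {σ : Equiv.Perm (Fin n) | σ.IsSwap} := by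
  refine ⟨⟨?_, ?_⟩, ?_, ?_⟩
  · intro d hd
    exact IsSwap.orderOf hd
  · rintro d ⟨a, b, hab, rfl⟩ e ⟨c, d', hcd, rfl⟩
    exact swap_mul_swap_pow hab hcd
  · have h01 : (⟨0, by omega⟩ : Fin n) ≠ ⟨1, by omega⟩ := by
      intro h; simp [Fin.ext_iff] at h
    refine ⟨swap ⟨0, by omega⟩ ⟨1, by omega⟩, ⟨_, _, h01, rfl⟩, ?_⟩
    ext σ
    constructor
    · rintro ⟨x, y, hxy, rfl⟩
      show IsConj _ _
      exact isConj_swap h01 hxy
    · intro h
      have h' : IsConj (swap (⟨0, by omega⟩ : Fin n) ⟨1, by omega⟩) σ := h
      rw [isConj_iff] at h'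
      obtain ⟨c, hc⟩ := h'
      show σ.IsSwap
      rw [← hc, ← swap_apply_apply]
      exact ⟨_, _, fun h => h01 (c.injective h), rfl⟩
  · exact closure_isSwap

end Cfsg.Agent.S0439
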