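import Mathlib
import Cfsg.Statements.S0440
import Cfsg.Agent.Lib.Helper2.SympCard

set_option autoImplicit false
open Cfsg

namespace Cfsg.Agent.S0440

open Matrix Cfsg.Agent.Helper2.Symp
open scoped Cfsg.Agent.Helper2.Symp

variable {m : ℕ} {F : Type*} [Field F]

theorem sub_one_mulVec (g : Matrix.symplecticGroup (Fin m) F) (x : Fin m ⊕ Fin m → F) :
    ((g : Matrix (Fin m ⊕ Fin m) (Fin m ⊕ Fin m) F) - 1) *ᵥ x = g • x - x := by
  rw [Matrix.sub_mulVec, Matrix.one_mulVec]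
  rfl

/-- a symplectic matrix `g` with `g - 1` of rank one is a transvection -/
theorem eq_tv_of_rank_one (g : Matrix.symplecticGroup (Fin m) F)
    (h : ((g : Matrix (Fin m ⊕ Fin m) (Fin m ⊕ Fin m) F) - 1).rank = 1) :
    ∃ (v : Fin m ⊕ Fin m → F) (c : F), v ≠ 0 ∧ c ≠ 0 ∧ g = tv v c := by
  set N := (g : Matrix (Fin m ⊕ Fin m) (Fin m ⊕ Fin m) F) - 1 with hN
  unfold Matrix.rank at h
  rw [finrank_eq_one_iff'] at h
  obtain ⟨⟨u, hu⟩, hu0, hspan⟩ := h
  have hu0' : u ≠ 0 := fun h0 => hu0 (Subtype.ext h0)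
  have hlam : ∀ x : Fin m ⊕ Fin m → F, ∃ c : F, g • x = x + c • u := by
    intro x
    obtain ⟨c, hc⟩ := hspan ⟨N *ᵥ x, ⟨x, rfl⟩⟩
    have hc' : c • u = N *ᵥ x := congrArg Subtype.val hc
    rw [hN, sub_one_mulVec] at hc'
    exact ⟨c, by rw [hc']; abel⟩
  obtain ⟨x₁, hx₁⟩ := hu
  have hx₁' : g • x₁ = x₁ + u := by
    have : N *ᵥ x₁ = u := hx₁
    rw [hN, sub_one_mulVec] at this
    rw [← this]; abel
  set k := Bf x₁ u with hk
  have hkey : ∀ (y : Fin m ⊕ Fin m → F) (c : F), g • y = y + c • u → c * k = Bf y u := by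
    intro y c hc
    have h1 := Bf_smul_smul g x₁ y
    rw [hx₁', hc, Bf_add_left, Bf_add_right, Bf_add_right, Bf_smul_right, Bf_smul_right, Bf_self,
      mul_zero, add_zero] at h1
    rw [Bf_skew y u]
    linear_combination h1
  have hk0 : k ≠ 0 := by
    intro hk0
    obtain ⟨y, hy⟩ := exists_Bf_ne_zero hu0'
    apply hy
    obtain ⟨c, hc⟩ := hlam y
    have := hkey y c hc
    rw [hk0, mul_zero] at this
    rw [Bf_skew, ← this, neg_zero]
  refine ⟨u, k⁻¹, hu0', inv_ne_zero hk0, ?_⟩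
  apply ext_smul
  intro y
  obtain ⟨c, hc⟩ := hlam y
  rw [hc, tv_smul, ← hkey y c hc]
  congr 2
  field_simp

/-- the rank of `t - 1` for a transvection `t` -/
theorem rank_tv_sub_one {v : Fin m ⊕ Fin m → F} {c : F} (hv : v ≠ 0) (hc : c ≠ 0) :
    (((tv v c : Matrix.symplecticGroup (Fin m) F) : Matrix (Fin m ⊕ Fin m) (Fin m ⊕ Fin m) F)
      - 1).rank = 1 := by
  unfold Matrix.rank
  have hrange : LinearMap.range (((tv v c : Matrix.symplecticGroup (Fin m) F) :
      Matrix (Fin m ⊕ Fin m) (Fin m ⊕ Fin m) F) - 1).mulVecLin = Submodule.span F {v} := by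
    ext y
    rw [LinearMap.mem_range, Submodule.mem_span_singleton]
    constructor
    · rintro ⟨x, rfl⟩
      rw [Matrix.mulVecLin_apply, sub_one_mulVec, tv_smul]
      exact ⟨c * Bf x v, by abel⟩
    · rintro ⟨a, rfl⟩
      obtain ⟨z, hz⟩ := exists_Bf_ne_zero hv
      have hz' : Bf z v ≠ 0 := by rw [Bf_skew]; exact neg_ne_zero.2 hz
      refine ⟨(a * c⁻¹ * (Bf z v)⁻¹) • z, ?_⟩
      rw [Matrix.mulVecLin_apply, sub_one_mulVec, tv_smul, Bf_smul_left, add_sub_cancel_left]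
      congr 1
      field_simp
  rw [hrange]
  exact finrank_span_singleton hv

theorem smul_ne_zero_vec' (g : Matrix.symplecticGroup (Fin m) F) {v : Fin m ⊕ Fin m → F}
    (hv : v ≠ 0) : g • v ≠ 0 := (smul_ne_zero_iff_ne g).mpr hv

section two

theorem neg_one_zmod2 : (-1 : ZMod 2) = 1 := by decide

theorem zmod2_cases (c : ZMod 2) : c = 0 ∨ c = 1 := by
  revert c; decide

theorem mem_D_iff (n : ℕ) (g : Matrix.symplecticGroup (Fin n) (ZMod 2)) :
    ((g : Matrix (Fin n ⊕ Fin n) (Fin n ⊕ Fin n) (ZMod 2)) - 1).rank = 1 ↔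
      ∃ v : Fin n ⊕ Fin n → ZMod 2, v ≠ 0 ∧ g = tv v 1 := by
  constructor
  · intro h
    obtain ⟨v, c, hv, hc, rfl⟩ := eq_tv_of_rank_one g h
    rcases zmod2_cases c with h0 | h1
    · exact absurd h0 hc
    · exact ⟨v, hv, by rw [h1]⟩
  · rintro ⟨v, hv, rfl⟩
    exact rank_tv_sub_one hv one_ne_zero

theorem tv_one_mul_self {n : ℕ} (v : Fin n ⊕ Fin n → ZMod 2) :
    tv v (1 : ZMod 2) * tv v 1 = 1 := by
  rw [tv_mul_tv]
  have : (1 : ZMod 2) + 1 = 0 := by decide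
  rw [this, tv_zero_right]

theorem tv_one_ne_one {n : ℕ} {v : Fin n ⊕ Fin n → ZMod 2} (hv : v ≠ 0) :
    tv v (1 : ZMod 2) ≠ 1 := by
  intro h
  obtain ⟨x, hx⟩ := exists_Bf_ne_zero hv
  have hx' : Bf x v ≠ 0 := by rw [Bf_skew]; exact neg_ne_zero.2 hx
  have h1 : tv v (1 : ZMod 2) • x = x := by rw [h, one_smul]
  rw [tv_smul, one_mul, add_eq_left] at h1
  rcases smul_eq_zero.1 h1 with h2 | h2
  · exact hx' h2
  · exact hv h2

/-- In the symplectic group in dimension 2n ≥ 2 over the field with two elements, the elements g for which g - 1 has rank one (the symplectic transvections) form a conjugacy class of 3-transpositions generating the group. -/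
theorem result (n : ℕ) (hn : 1 ≤ n) : Cfsg.IsThreeTranspositionClass {g : Matrix.symplecticGroup (Fin n) (ZMod 2) | ((g : Matrix (Fin n ⊕ Fin n) (Fin n ⊕ Fin n) (ZMod 2)) - 1).rank = 1} := by
  have hD : {g : Matrix.symplecticGroup (Fin n) (ZMod 2) | ((g : Matrix (Fin n ⊕ Fin n) (Fin n ⊕ Fin n) (ZMod 2)) - 1).rank = 1} = {g | ∃ v : Fin n ⊕ Fin n → ZMod 2, v ≠ 0 ∧ g = tv v 1} := by
    ext g
    exact mem_D_iff n g
  rw [hD]
  have : Fact (Nat.Prime 2) := ⟨Nat.prime_two⟩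
  refine ⟨⟨?_, ?_⟩, ?_, ?_⟩
  · rintro d ⟨v, hv, rfl⟩
    rw [orderOf_eq_prime_iff]
    exact ⟨by rw [pow_two]; exact tv_one_mul_self v, tv_one_ne_one hv⟩
  · rintro d ⟨u, hu, rfl⟩ e ⟨w, hw, rfl⟩
    rcases zmod2_cases (Bf u w) with h0 | h1
    · left
      have hc := tv_comm_of_orth u w 1 1 h0
      calc (tv u 1 * tv w 1) ^ 2 = tv u 1 * (tv w 1 * tv u 1) * tv w 1 := by
            rw [pow_two]; group
        _ = tv u 1 * (tv u 1 * tv w 1) * tv w 1 := by rw [hc]
        _ = (tv u 1 * tv u 1) * (tv w 1 * tv w 1) := by group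
        _ = 1 := by rw [tv_one_mul_self, tv_one_mul_self, one_mul]
    · right
      have hneg : (-1 : ZMod 2) = 1 := neg_one_zmod2
      have h1' : Bf w u = 1 := by
        rw [Bf_skew, h1, hneg]
      have hdi : (tv u (1 : ZMod 2))⁻¹ = tv u 1 := inv_eq_of_mul_eq_one_right (tv_one_mul_self u)
      have hei : (tv w (1 : ZMod 2))⁻¹ = tv w 1 := inv_eq_of_mul_eq_one_right (tv_one_mul_self w)
      have e1 : tv u (1 : ZMod 2) * tv w 1 * tv u 1 = tv (u + w) 1 := by
        have := conj_tv (tv u (1 : ZMod 2)) w 1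
        rw [hdi, tv_smul, h1', mul_one, one_smul, add_comm] at this
        exact this
      have e2 : tv w (1 : ZMod 2) * tv u 1 * tv w 1 = tv (u + w) 1 := by
        have := conj_tv (tv w (1 : ZMod 2)) u 1
        rw [hei, tv_smul, h1, mul_one, one_smul] at this
        exact this
      calc (tv u 1 * tv w 1) ^ 3
          = (tv u 1 * tv w 1 * tv u 1) * (tv w 1 * tv u 1 * tv w 1) := by
            rw [pow_succ, pow_two]; group
        _ = tv (u + w) 1 * tv (u + w) 1 := by rw [e1, e2]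
        _ = 1 := tv_one_mul_self _
  · set i₀ : Fin n := ⟨0, by omega⟩
    refine ⟨tv (eV i₀) 1, ⟨eV i₀, eV_ne_zero i₀, rfl⟩, ?_⟩
    ext g
    show _ ↔ IsConj _ g
    rw [isConj_iff]
    constructor
    · rintro ⟨v, hv, rfl⟩
      obtain ⟨h, -, hh⟩ := trans_vec (U := ⊤) isND_top
        (Submodule.mem_top : (eV i₀ : Fin n ⊕ Fin n → ZMod 2) ∈ ⊤)
        (Submodule.mem_top : v ∈ ⊤) (eV_ne_zero i₀) hv
      exact ⟨h, by rw [conj_tv, hh]⟩
    · rintro ⟨h, rfl⟩
      rw [conj_tv]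
      exact ⟨h • eV i₀, smul_ne_zero_vec' h (eV_ne_zero i₀), rfl⟩
  · rw [eq_top_iff, ← tvGroup_top_eq_top (m := n) (F := ZMod 2)]
    unfold tvGroup
    rw [Subgroup.closure_le]
    rintro g ⟨x, -, c, rfl⟩
    rcases zmod2_cases c with h0 | h1
    · rw [h0, tv_zero_right]
      exact Subgroup.one_mem _
    · by_cases hx : x = 0
      · rw [hx, tv_zero_left]
        exact Subgroup.one_mem _
      · rw [h1]
        exact Subgroup.subset_closure ⟨x, hx, rfl⟩

end two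

end Cfsg.Agent.S0440
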