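import Mathlib
import Cfsg.Statements.S0442

set_option autoImplicit false
open Cfsg

namespace Cfsg.Agent.S0442

theorem inv_conj {G : Type*} [Group G] {a c : G} (ha : a * a = 1) (hc : c * c = 1) (k : ℕ) :
    a * (a * c) ^ k * a⁻¹ = ((a * c) ^ k)⁻¹ := by
  have hainv : a⁻¹ = a := inv_eq_of_mul_eq_one_left ha
  have hcinv : c⁻¹ = c := inv_eq_of_mul_eq_one_left hc
  rw [← conj_pow, ← inv_pow]
  congr 1
  rw [mul_inv_rev, hainv, hcinv, ← mul_assoc, ha, one_mul]

theorem comm_of_pow {G : Type*} [Group G] {a c : G} (ha : a * a = 1) (hc : c * c = 1) (m : ℕ)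
    (h : (a * c) ^ (2 * m) = 1) : Commute ((a * c) ^ m) a := by
  have h1 := inv_conj ha hc m
  have h2 : ((a * c) ^ m)⁻¹ = (a * c) ^ m := by
    apply inv_eq_of_mul_eq_one_left
    rw [← pow_add, ← two_mul]; exact h
  rw [h2] at h1
  have : a * (a * c) ^ m = (a * c) ^ m * a := mul_inv_eq_iff_eq_mul.mp h1
  exact this.symm

/-- A standard trick for producing elements of an involution centraliser: for an involution a and an element g, let b be the conjugate g⁻¹ * a * g. If a * b has odd order 2m + 1 then g * (a * b) ^ m commutes with a; if a * b has even order 2m then (a * b) ^ m and (a * (g * a * g⁻¹)) ^ m commute with a. -/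
theorem result {G : Type*} [Group G] (a g : G) (ha : orderOf a = 2) : (∀ m : ℕ, orderOf (a * (g⁻¹ * a * g)) = 2 * m + 1 → Commute (g * (a * (g⁻¹ * a * g)) ^ m) a) ∧ (∀ m : ℕ, orderOf (a * (g⁻¹ * a * g)) = 2 * m → Commute ((a * (g⁻¹ * a * g)) ^ m) a ∧ Commute ((a * (g * a * g⁻¹)) ^ m) a) := by
  have ha2 : a * a = 1 := by
    have := pow_orderOf_eq_one a
    rwa [ha, pow_two] at this
  have hainv : a⁻¹ = a := inv_eq_of_mul_eq_one_left ha2
  have hb2 : (g⁻¹ * a * g) * (g⁻¹ * a * g) = 1 := by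
    calc (g⁻¹ * a * g) * (g⁻¹ * a * g) = g⁻¹ * (a * a) * g := by group
      _ = 1 := by rw [ha2]; group
  have hc2 : (g * a * g⁻¹) * (g * a * g⁻¹) = 1 := by
    calc (g * a * g⁻¹) * (g * a * g⁻¹) = g * (a * a) * g⁻¹ := by group
      _ = 1 := by rw [ha2]; group
  refine ⟨fun m hm => ?_, fun m hm => ⟨?_, ?_⟩⟩
  · -- odd case
    set x := a * (g⁻¹ * a * g) with hx
    have hpow : x ^ (2 * m + 1) = 1 := by rw [← hm]; exact pow_orderOf_eq_one x
    have h1 : a * x ^ m * a⁻¹ = (x ^ m)⁻¹ := inv_conj ha2 hb2 m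
    have h2 : x ^ m * a = a * (x ^ m)⁻¹ := by
      have : a * x ^ m = (x ^ m)⁻¹ * a := mul_inv_eq_iff_eq_mul.mp h1
      calc x ^ m * a = a * (a * x ^ m) * a := by
            rw [← mul_assoc, ha2, one_mul]
        _ = a * ((x ^ m)⁻¹ * a) * a := by rw [this]
        _ = a * (x ^ m)⁻¹ := by simp only [mul_assoc]; rw [ha2, mul_one]
    have h3 : (x ^ m)⁻¹ = x ^ m * x := by
      apply inv_eq_of_mul_eq_one_left
      rw [← pow_succ, ← pow_add]
      have : m + 1 + m = 2 * m + 1 := by ring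
      rw [this]; exact hpow
    have h4 : g * a * x = a * g := by
      rw [hx]; simp only [← mul_assoc]; rw [mul_assoc g a a, ha2]; group
    show g * x ^ m * a = a * (g * x ^ m)
    calc g * x ^ m * a = g * (x ^ m * a) := by rw [mul_assoc]
      _ = g * (a * (x ^ m * x)) := by rw [h2, h3]
      _ = g * a * (x * x ^ m) := by
          rw [← pow_succ, ← pow_succ']; simp only [mul_assoc]
      _ = (g * a * x) * x ^ m := by simp only [mul_assoc]
      _ = a * (g * x ^ m) := by rw [h4, mul_assoc]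
  · apply comm_of_pow ha2 hb2
    rw [← hm]; exact pow_orderOf_eq_one _
  · apply comm_of_pow ha2 hc2
    -- a * (g a g⁻¹) is conjugate to the inverse of a * (g⁻¹ a g)
    have hconj : a * (g * a * g⁻¹) = g * (a * (g⁻¹ * a * g))⁻¹ * g⁻¹ := by
      rw [mul_inv_rev, mul_inv_rev, mul_inv_rev, inv_inv, hainv]; group
    rw [hconj, conj_pow, inv_pow, ← hm, pow_orderOf_eq_one]; group

end Cfsg.Agent.S0442
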