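import Mathlib
import Cfsg.Statements.S0444
import Cfsg.Agent.S0436
import Cfsg.Agent.Lib.Helper3.Dihedral

set_option autoImplicit false
open Cfsg

namespace Cfsg.Agent.S0444

open Cfsg.Agent.Helper3 DihedralGroup

/-- The map from the dihedral group of order 6 to the symmetric group of degree 3. -/
def d3ToS3 : DihedralGroup 3 →* Equiv.Perm (Fin 3) :=
  dihedralLift (n := 3) (c[0, 1, 2] : Equiv.Perm (Fin 3)) (Equiv.swap 0 1)
    (by decide) (by decide) (by decide)

theorem d3ToS3_inj : Function.Injective d3ToS3 := by
  decide

/-- The dihedral group of order 6 is the symmetric group of degree 3. -/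
theorem d3_equiv_s3 : Nonempty (DihedralGroup 3 ≃* Equiv.Perm (Fin 3)) := by
  have hbij : Function.Bijective d3ToS3 := by
    rw [Fintype.bijective_iff_injective_and_card]
    refine ⟨d3ToS3_inj, ?_⟩
    rw [DihedralGroup.card, Fintype.card_perm, Fintype.card_fin]; rfl
  exact ⟨MulEquiv.ofBijective d3ToS3 hbij⟩

open Cfsg.Agent.S0436 in
/-- Two members of a set of 3-transpositions which do not commute generate a subgroup isomorphic to the symmetric group on three letters. -/
theorem result {G : Type*} [Group G] {E : Set G} (hE : Cfsg.IsThreeTranspositionSet E) {d e : G} (hd : d ∈ E) (he : e ∈ E) (h : ¬ Commute d e) : Nonempty (Subgroup.closure ({d, e} : Set G) ≃* Equiv.Perm (Fin 3)) := by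
  have hd2 := sq_one_of_orderOf (hE.1 d hd)
  have he2 := sq_one_of_orderOf (hE.1 e he)
  have hdinv : d⁻¹ = d := inv_eq_of_mul_eq_one_left hd2
  have heinv : e⁻¹ = e := inv_eq_of_mul_eq_one_left he2
  have h3 : (d * e) ^ 3 = 1 := by
    rcases hE.2 d hd e he with k | k
    · exact absurd (comm_of_sq hd2 he2 k) h
    · exact k
  have hsx : d * (d * e) * d = (d * e)⁻¹ := by
    rw [mul_inv_rev, hdinv, heinv, ← mul_assoc, hd2, one_mul]
  let φ := dihedralLift (n := 3) (d * e) d h3 hd2 hsx
  have hd1 : d ≠ 1 := by
    intro h1; apply h; rw [h1]; exact Commute.one_left e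
  have he1 : e ≠ 1 := by
    intro h1; apply h; rw [h1]; exact Commute.one_right d
  have hde : d * e ≠ 1 := by
    intro h1
    have : d = e := by rw [← heinv]; exact eq_inv_of_mul_eq_one_left h1
    apply h; rw [this]
  have hinj : Function.Injective φ := by
    rw [injective_iff_map_eq_one]
    rintro (i | i) hh
    · fin_cases i
      · rfl
      · exfalso
        apply hde
        have hh' : (d * e) ^ ((1 : ZMod 3)).val = 1 := hh
        have : ((1 : ZMod 3)).val = 1 := rfl
        rwa [this, pow_one] at hh'
      · exfalso
        have h2 : (d * e) ^ 2 = 1 := by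
          have hh' : (d * e) ^ ((2 : ZMod 3)).val = 1 := hh
          have : ((2 : ZMod 3)).val = 2 := rfl
          rwa [this] at hh'
        apply hde
        calc d * e = (d * e) ^ 3 * ((d * e) ^ 2)⁻¹ := by group
          _ = 1 := by rw [h3, h2]; simp
    · exfalso
      fin_cases i
      · apply hd1
        have hh' : d * (d * e) ^ ((0 : ZMod 3)).val = 1 := hh
        have : ((0 : ZMod 3)).val = 0 := rfl
        rwa [this, pow_zero, mul_one] at hh'
      · apply he1
        have : d * (d * e) = 1 := by
          have hh' : d * (d * e) ^ ((1 : ZMod 3)).val = 1 := hh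
          have : ((1 : ZMod 3)).val = 1 := rfl
          rwa [this, pow_one] at hh'
        rwa [← mul_assoc, hd2, one_mul] at this
      · apply he1
        have h2 : d * (d * e) ^ 2 = 1 := by
          have hh' : d * (d * e) ^ ((2 : ZMod 3)).val = 1 := hh
          have : ((2 : ZMod 3)).val = 2 := rfl
          rwa [this] at hh'
        have h4 : d * (d * e) ^ 2 = e * d * e := by
          rw [pow_two]; simp only [← mul_assoc]; rw [hd2, one_mul]
        rw [h4] at h2
        have : e * d = e⁻¹ := eq_inv_of_mul_eq_one_left h2
        rw [heinv] at this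
        have : d = 1 := by
          have h5 : e * d = e * 1 := by rw [mul_one]; exact this
          exact mul_left_cancel h5
        exact absurd this hd1
  have hrange : φ.range = Subgroup.closure ({d, e} : Set G) := by
    apply le_antisymm
    · rintro _ ⟨a, rfl⟩
      have hdm : d ∈ Subgroup.closure ({d, e} : Set G) := Subgroup.subset_closure (by simp)
      have hem : e ∈ Subgroup.closure ({d, e} : Set G) := Subgroup.subset_closure (by simp)
      rcases a with i | i
      · show zmodPow (d * e) i ∈ _
        exact Subgroup.pow_mem _ (Subgroup.mul_mem _ hdm hem) _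
      · show d * zmodPow (d * e) i ∈ _
        exact Subgroup.mul_mem _ hdm (Subgroup.pow_mem _ (Subgroup.mul_mem _ hdm hem) _)
    · rw [Subgroup.closure_le]
      intro y hy
      rcases hy with rfl | hy
      · refine ⟨sr 0, ?_⟩
        show y * zmodPow (y * e) 0 = y
        rw [zmodPow_zero, mul_one]
      · rw [Set.mem_singleton_iff] at hy
        subst hy
        refine ⟨sr 1, ?_⟩
        show d * zmodPow (d * y) 1 = y
        unfold zmodPow
        rw [ZMod.val_one, pow_one, ← mul_assoc, hd2, one_mul]
  obtain ⟨ψ⟩ := d3_equiv_s3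
  have e1 : DihedralGroup 3 ≃* φ.range := MonoidHom.ofInjective hinj
  have e2 : φ.range ≃* Subgroup.closure ({d, e} : Set G) := MulEquiv.subgroupCongr hrange
  exact ⟨(e2.symm.trans e1.symm).trans ψ⟩

end Cfsg.Agent.S0444
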