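import Mathlib
import Cfsg.Statements.S1699
import Cfsg.Agent.Lib.Helper9.TC2Spor
import Cfsg.Agent.Lib.Helper9.TCData.ONC0.Cert
import Cfsg.Agent.Lib.Helper9.TCData.ONC1.Cert
import Cfsg.Agent.Lib.Helper9.TCData.ONC2.Cert
import Cfsg.Agent.Lib.Helper9.TCData.ONCX.Cert

set_option autoImplicit false
set_option maxRecDepth 1000000
open Cfsg

namespace Cfsg.Agent.S1699

open Cfsg.Agent.Helper9.TC2 Cfsg.Agent.Helper9.TCData

theorem sub1 : SubPres ONC0.edges ONC0.extra ONC1.edges ONC1.extra ONC0.iota :=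
  ⟨by decide +kernel, by decide +kernel⟩

theorem sub2 : SubPres ONC1.edges ONC1.extra ONC2.edges ONC2.extra ONC1.iota :=
  ⟨by decide +kernel, by decide +kernel⟩

theorem hub : Finite (PresentedGroup (relSet ONC0.edges ONC0.extra)) ∧
    Nat.card (PresentedGroup (relSet ONC0.edges ONC0.extra)) ≤ 460815505920 := by
  have h2 := ONC2.cert.card_eq_of_empty
  have hH1 := card_coxH_le sub2 rfl h2.1 (le_of_eq h2.2)
  have h1 := ONC1.cert.card_le hH1.1 hH1.2
  have hH0 := card_coxH_le sub1 rfl h1.1 h1.2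
  have h0 := ONC0.cert.card_le hH0.1 hH0.2
  refine ⟨h0.1, h0.2.trans ?_⟩
  rw [ONC0.cert_n, ONC1.cert_n, ONC2.cert_n]

theorem hslp : ∀ j < ONC0.slp.length, ∀ c ∈ (ONC0.slp.getD j (0, [])).2, c < ONC0.tab.k + j := by
  decide +kernel

theorem hok : ONC0.cert.LevsOK (ONC0.tab.k + ONC0.slp.length) ONC0.lidx ONC0.lpar ONC0.lgi 0 []
    ONC0.levs := by
  unfold ONC0.levs
  refine ⟨by decide, by decide +kernel, ONC0.hT0, by decide +kernel, ?_⟩
  refine ⟨by decide, by decide +kernel, ONC0.hT1, by decide +kernel, ?_⟩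
  refine ⟨by decide, by decide +kernel, ONC0.hT2, by decide +kernel, ?_⟩
  refine ⟨by decide, by decide +kernel, ONC0.hT3, by decide +kernel, ?_⟩
  trivial

theorem hprod : CoxCert.levProd ONC0.levs = 460815505920 := by decide +kernel

theorem hlab : ∀ i < ONC0.cert.D.n, ONC0.orb.lab i < 5 := by
  intro i hi
  have := ONC0.hOL i hi
  rwa [Nat.blt_eq] at this

theorem hroot : ∀ l < 5, ONC0.orb.root l < ONC0.cert.D.n ∧ ONC0.orb.lab (ONC0.orb.root l) = l := by
  decide +kernel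

theorem hsz : ∀ l < 5, cnt (fun i => Nat.beq (ONC0.orb.lab i) l) ONC0.cert.D.n = ([1, 58653, 52136, 5586, 6384] : List ℕ).getD l 0 := by
  decide +kernel

theorem hsub : ∀ T ∈ (Finset.range 5).powerset, 0 ∈ T →
    (∑ l ∈ T, ([1, 58653, 52136, 5586, 6384] : List ℕ).getD l 0) ∣ ONC0.cert.D.n → T = {0} ∨ T = Finset.range 5 := by
  decide +kernel

theorem hxw : colWord ONC0.cert.cols ONCX.xelt = ONC0.xw := by decide +kernel

theorem hx : ∀ i < ONC0.cert.D.n, (runT ONC0.cert.D (colWord ONC0.cert.cols ONCX.xelt))^[5 ^ 1] i = i := by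
  intro i hi
  rw [hxw]
  exact Nat.eq_of_beq_eq_true (ONC0.hX i hi)

/-- The presented O'Nan group is simple of the expected order (that is, it is a simple group of the order of the O'Nan group). -/
theorem result : Cfsg.IsON Cfsg.Spor.ON := by
  have : Fact (Nat.Prime 5) := ⟨by norm_num⟩
  exact ONC0.cert.isSimple_card 460815505920 hub ONC0.slp hslp ONC0.hSlp ONC0.lidx ONC0.lpar ONC0.lgi
    ONC0.levs hok hprod ONC0.orb ONC0.hO1 ONC0.hO2 5 0 [1, 58653, 52136, 5586, 6384] hlab hroot hsz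
    (by decide +kernel) (by decide) (by decide) hsub 5 1 (by decide) (by norm_num) (by norm_num)
    ONCX.xelt 1 hx (by rw [ONCX.cert.card_eq_of_empty.2]; rfl)

end Cfsg.Agent.S1699
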