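import Mathlib
import Cfsg.Statements.S0460
import Cfsg.Agent.S1699
import Cfsg.Agent.Lib.Helper9.TC2Word
import Cfsg.Agent.Lib.Helper9.TC2Fin
import Cfsg.Agent.Lib.Helper9.J1Simple
import Cfsg.Agent.Lib.Helper9.M11Simple

set_option autoImplicit false
set_option maxRecDepth 1000000
open Cfsg

namespace Cfsg.Agent.S0460

open Cfsg.Agent.Helper9 Cfsg.Agent.Helper9.TC2 Cfsg.Agent.Helper9.TCData Cfsg.Spor

/-- The presented O'Nan group. -/
abbrev G : Type := PresentedGroup (relSet ONC0.edges ONC0.extra)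

theorem finG : Finite G := S1699.hub.1

theorem simpleG : IsSimpleGroup G := S1699.result.1

theorem cardG : Nat.card G = 460815505920 := S1699.result.2

/-- The base points. -/
def pts : List ℕ := CoxCert.levPts ONC0.levs []

theorem hPS : ONC0.cert.PS pts = ⊥ := by
  have hfin : Finite (PresentedGroup (relSet ONC0.edges ONC0.extra)) := finG
  exact ONC0.cert.PS_base_eq_bot (ONC0.tab.k + ONC0.slp.length) ONC0.lidx ONC0.lpar
    ONC0.lgi (ONC0.cert.exists_elt ONC0.slp S1699.hslp ONC0.hSlp) ONC0.levs S1699.hok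
    (cardG.trans S1699.hprod.symm)

theorem hpts : ∀ b ∈ pts, b < ONC0.cert.D.n := by decide +kernel

/-- A word which fixes the base points is trivial. -/
theorem wordOne (x : FreeGroup ON.Gen)
    (hx : ∀ b ∈ pts, runT ONC0.cert.D (colWord ONC0.cert.cols x) b = b) :
    (PresentedGroup.mk (relSet ONC0.edges ONC0.extra) x : G) = 1 :=
  ONC0.cert.mk_eq_one_of_base pts hPS hpts x hx

theorem a_ne_one : (PresentedGroup.mk (relSet ONC0.edges ONC0.extra) ON.a : G) ≠ 1 := by
  apply ONC0.cert.mk_ne_one_of_moves ON.a (i := 2) (by decide)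
  decide +kernel

/-- The permutation representation on the cosets. -/
noncomputable def rho : G →* Equiv.Perm (Fin 122760) := ONC0.cert.phiFin

theorem rho_inj : Function.Injective rho := by
  haveI := simpleG
  exact ONC0.cert.phiFin_injective (by decide)

/-- The permutation group. -/
noncomputable def Hp : Subgroup (Equiv.Perm (Fin 122760)) := rho.range

theorem isON_Hp : IsON Hp := simple_card_range rho rho_inj simpleG _ cardG

theorem trans_Hp : MulAction.IsPretransitive Hp (Fin 122760) := by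
  constructor
  intro i j
  obtain ⟨g, hg⟩ := ONC0.cert.phiFin_transitive i j
  exact ⟨⟨rho g, ⟨g, rfl⟩⟩, hg⟩

theorem stab_card : Nat.card (MulAction.stabilizer Hp (0 : Fin 122760)) = 3753792 := by
  haveI := trans_Hp
  have h1 := MulAction.index_stabilizer_of_transitive (G := Hp) (x := (0 : Fin 122760))
  rw [Nat.card_eq_fintype_card, Fintype.card_fin] at h1
  have h2 := Subgroup.card_mul_index (MulAction.stabilizer Hp (0 : Fin 122760))
  rw [h1, isON_Hp.2] at h2
  have h3 : Nat.card (MulAction.stabilizer Hp (0 : Fin 122760)) * 122760 = 3753792 * 122760 := by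
    rw [h2]
  exact Nat.eq_of_mul_eq_mul_right (by norm_num) h3

theorem lift_mk (F : Fin 2 → FreeGroup ON.Gen) :
    FreeGroup.lift (fun i => (PresentedGroup.mk (relSet ONC0.edges ONC0.extra) (F i) : G)) =
      (PresentedGroup.mk (relSet ONC0.edges ONC0.extra)).comp (FreeGroup.lift F) := by
  apply FreeGroup.ext_hom
  intro i
  rw [FreeGroup.lift_apply_of, MonoidHom.comp_apply, FreeGroup.lift_apply_of]

/-- A subgroup from a homomorphism of a simple presented group. -/
theorem exists_sub {rels : Set (FreeGroup (Fin 2))} (N : ℕ)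
    (hs : IsSimpleGroup (PresentedGroup rels) ∧ Nat.card (PresentedGroup rels) = N)
    (F : Fin 2 → FreeGroup ON.Gen)
    (hrel : ∀ r ∈ rels, (PresentedGroup.mk (relSet ONC0.edges ONC0.extra) (FreeGroup.lift F r) : G) = 1)
    (hne : (PresentedGroup.mk (relSet ONC0.edges ONC0.extra) (F 0) : G) ≠ 1) :
    ∃ K : Subgroup Hp, IsSimpleGroup K ∧ Nat.card K = N := by
  have hrel' : ∀ r ∈ rels, FreeGroup.lift
      (fun i => (PresentedGroup.mk (relSet ONC0.edges ONC0.extra) (F i) : G)) r = 1 := by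
    intro r hr
    rw [lift_mk, MonoidHom.comp_apply]
    exact hrel r hr
  let θ₀ : PresentedGroup rels →* G := PresentedGroup.toGroup hrel'
  have h0 : θ₀ (PresentedGroup.of 0) = PresentedGroup.mk (relSet ONC0.edges ONC0.extra) (F 0) :=
    PresentedGroup.toGroup.of hrel'
  haveI := hs.1
  have hinj0 : Function.Injective θ₀ := injective_of_simple θ₀ (PresentedGroup.of 0) (by
    rw [h0]
    exact hne)
  let θ : PresentedGroup rels →* Hp := rho.rangeRestrict.comp θ₀
  have hinj : Function.Injective θ := by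
    intro x y hxy
    apply hinj0
    apply rho_inj
    exact congrArg Subtype.val hxy
  exact ⟨θ.range, simple_card_range θ hinj hs.1 N hs.2⟩

/-- The generators of a subgroup J1. -/
def FJ : Fin 2 → FreeGroup ON.Gen := ![ON.a,
    ON.b * ON.g⁻¹ * ON.a * ON.c * ON.a * ON.e * ON.f * ON.d * ON.c * ON.e * ON.g * ON.a * ON.c *
    ON.e * ON.c * ON.d * ON.b * ON.c * ON.b * ON.d * ON.f * ON.c * ON.e * ON.f * ON.b * ON.g *
    ON.a * ON.c * ON.b * ON.g * ON.c * ON.g⁻¹ * ON.a * ON.g * ON.a * ON.e * ON.g⁻¹ * ON.a * ON.b *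
    ON.g * ON.e * ON.a * ON.g⁻¹ * ON.a * ON.g * ON.c * ON.g⁻¹ * ON.b * ON.c * ON.a * ON.g⁻¹ *
    ON.b * ON.f * ON.e * ON.c * ON.f * ON.d * ON.b * ON.c * ON.b * ON.d * ON.c * ON.e * ON.c *
    ON.a * ON.g⁻¹ * ON.e * ON.c * ON.d * ON.f * ON.e * ON.a * ON.c * ON.a * ON.g * ON.b]

/-- The generators of a subgroup M11. -/
def FM : Fin 2 → FreeGroup ON.Gen := ![ON.a,
    ON.a * ON.g * ON.a * ON.c * ON.b * ON.f * ON.g⁻¹ * ON.e * ON.a * ON.e * ON.f * ON.a * ON.d *
    ON.c * ON.a * ON.g * ON.d * ON.c * ON.d * ON.g * ON.f * ON.b * ON.g * ON.c * ON.g⁻¹ * ON.c *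
    ON.a * ON.c * ON.d * ON.a * ON.g * ON.b * ON.g * ON.a * ON.d * ON.c * ON.g⁻¹ * ON.d * ON.g *
    ON.e * ON.g * ON.c * ON.a * ON.f * ON.b * ON.e * ON.c * ON.g * ON.g⁻¹ * ON.d * ON.g * ON.e *
    ON.g * ON.c * ON.a * ON.f * ON.b * ON.e * ON.c * ON.g * ON.g⁻¹ * ON.d * ON.g * ON.e * ON.g *
    ON.c * ON.a * ON.f * ON.b * ON.e * ON.c * ON.g * ON.g⁻¹ * ON.d * ON.g * ON.e * ON.g * ON.c *
    ON.a * ON.f * ON.b * ON.e * ON.c * ON.g * ON.c * ON.d * ON.a * ON.g⁻¹ * ON.b * ON.g⁻¹ * ON.a *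
    ON.d * ON.c * ON.a * ON.c * ON.g * ON.c * ON.g⁻¹ * ON.b * ON.f * ON.g⁻¹ * ON.d * ON.c * ON.d *
    ON.g⁻¹ * ON.a * ON.c * ON.d * ON.a * ON.f * ON.e * ON.a * ON.e * ON.g * ON.f * ON.b * ON.c *
    ON.a * ON.g⁻¹ * ON.a]

theorem relsJ : ∀ r ∈ relSet J1B0.edges J1B0.extra,
    (PresentedGroup.mk (relSet ONC0.edges ONC0.extra) (FreeGroup.lift FJ r) : G) = 1 := by
  have key : ∀ r ∈ J1B0.extra, ∀ b ∈ pts,
      runT ONC0.cert.D (colWord ONC0.cert.cols (FreeGroup.lift FJ r)) b = b := by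
    decide +kernel
  intro r hr
  rcases hr with hr | hr
  · obtain ⟨x, hx, -⟩ := hr
    exact absurd hx (by simp [coxNodes, J1B0.edges])
  · exact wordOne _ (key r hr)

theorem relsM : ∀ r ∈ relSet M11B0.edges M11B0.extra,
    (PresentedGroup.mk (relSet ONC0.edges ONC0.extra) (FreeGroup.lift FM r) : G) = 1 := by
  have key : ∀ r ∈ M11B0.extra, ∀ b ∈ pts,
      runT ONC0.cert.D (colWord ONC0.cert.cols (FreeGroup.lift FM r)) b = b := by
    decide +kernel
  intro r hr
  rcases hr with hr | hr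
  · obtain ⟨x, hx, -⟩ := hr
    exact absurd hx (by simp [coxNodes, M11B0.edges])
  · exact wordOne _ (key r hr)

/-- The O'Nan group exists as a transitive permutation group of degree 122760: simple of order 460815505920, point stabiliser of order 3753792, and containing simple subgroups of orders 175560 and 7920. -/
theorem result : ∃ H : Subgroup (Equiv.Perm (Fin 122760)), Cfsg.IsON H ∧ MulAction.IsPretransitive H (Fin 122760) ∧ Nat.card (MulAction.stabilizer H (0 : Fin 122760)) = 3753792 ∧ (∃ K : Subgroup H, Cfsg.IsJ1 K) ∧ (∃ K : Subgroup H, Cfsg.IsM11 K) := by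
  refine ⟨Hp, isON_Hp, trans_Hp, stab_card, ?_, ?_⟩
  · exact exists_sub 175560 J1Simple.j1_simple FJ relsJ a_ne_one
  · exact exists_sub 7920 M11Simple.m11_simple FM relsM a_ne_one

end Cfsg.Agent.S0460
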