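import Mathlib
import Cfsg.Statements.S0462
import Cfsg.Agent.Lib.Helper9.HeS44

set_option autoImplicit false
set_option maxRecDepth 1000000
open Cfsg

namespace Cfsg.Agent.S0462

open Cfsg.Agent.Helper9 Cfsg.Agent.Helper9.TC2 Cfsg.Agent.Helper9.TCData Cfsg.Spor
  Cfsg.Agent.Helper9.HeS44 Cfsg.Agent.Helper9.S44Simple Cfsg.Agent.Helper9.S44Mat

/-- The permutation representation on the cosets. -/
noncomputable def rho : G →* Equiv.Perm (Fin 2058) := HeB0.cert.phiFin

theorem rho_inj : Function.Injective rho := by
  have := simpleG
  exact HeB0.cert.phiFin_injective (by decide)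

/-- The permutation group. -/
noncomputable def Hp : Subgroup (Equiv.Perm (Fin 2058)) := rho.range

theorem isHe_Hp : IsHe Hp := simple_card_range rho rho_inj simpleG _ cardG

theorem trans_Hp : MulAction.IsPretransitive Hp (Fin 2058) := by
  constructor
  intro i j
  obtain ⟨g, hg⟩ := HeB0.cert.phiFin_transitive i j
  exact ⟨⟨rho g, ⟨g, rfl⟩⟩, hg⟩

theorem stab_card : Nat.card (MulAction.stabilizer Hp (0 : Fin 2058)) = 1958400 := by
  have := trans_Hp
  have h1 := MulAction.index_stabilizer_of_transitive (G := Hp) (x := (0 : Fin 2058))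
  rw [Nat.card_eq_fintype_card, Fintype.card_fin] at h1
  have h2 := Subgroup.card_mul_index (MulAction.stabilizer Hp (0 : Fin 2058))
  rw [h1, isHe_Hp.2] at h2
  have h3 : Nat.card (MulAction.stabilizer Hp (0 : Fin 2058)) * 2058 = 1958400 * 2058 := by
    rw [h2]
  exact Nat.eq_of_mul_eq_mul_right (by norm_num) h3

theorem rho_H (g : G) (hg : g ∈ H) : rho g (0 : Fin 2058) = 0 := by
  apply Fin.ext
  exact HeB0.cert.phi_H g hg

/-- The image of an element of the presented symplectic group, in the stabiliser. -/
noncomputable def sigma : PS44 →* MulAction.stabilizer Hp (0 : Fin 2058) where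
  toFun x := ⟨⟨rho (theta0 x), ⟨theta0 x, rfl⟩⟩, by
    rw [MulAction.mem_stabilizer_iff]
    exact rho_H _ (theta0_mem x)⟩
  map_one' := by
    apply Subtype.ext
    apply Subtype.ext
    show rho (theta0 1) = 1
    rw [map_one, map_one]
  map_mul' x y := by
    apply Subtype.ext
    apply Subtype.ext
    show rho (theta0 (x * y)) = rho (theta0 x) * rho (theta0 y)
    rw [map_mul, map_mul]

theorem sigma_inj : Function.Injective sigma := by
  intro x y hxy
  apply theta0_inj
  apply rho_inj
  exact congrArg (fun t => (t : MulAction.stabilizer Hp (0 : Fin 2058)).1.1) hxy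

theorem card_range : Nat.card sigma.range = 979200 := by
  rw [← s44_simple.2]
  exact (Nat.card_congr (MonoidHom.ofInjective sigma_inj).toEquiv).symm

theorem index_range : sigma.range.index = 2 := by
  have h := Subgroup.card_mul_index sigma.range
  rw [card_range, stab_card] at h
  have h3 : 979200 * sigma.range.index = 979200 * 2 := by rw [h]
  exact Nat.eq_of_mul_eq_mul_left (by norm_num) h3

/-- The Held group exists as a transitive permutation group of degree 2058: simple of order 4030387200, with point stabiliser containing, with index 2, a copy of the 4-dimensional symplectic group over the field with four elements. -/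
theorem result : ∃ H : Subgroup (Equiv.Perm (Fin 2058)), Cfsg.IsHe H ∧ MulAction.IsPretransitive H (Fin 2058) ∧ ∃ (F : Type) (_ : Field F) (_ : Fintype F), Fintype.card F = 4 ∧ ∃ N : Subgroup (MulAction.stabilizer H (0 : Fin 2058)), N.index = 2 ∧ Nonempty (N ≃* Matrix.symplecticGroup (Fin 2) F) :=
  ⟨Hp, isHe_Hp, trans_Hp, F4, inferInstance, inferInstance, F4.card, sigma.range, index_range,
    ⟨(MonoidHom.ofInjective sigma_inj).symm.trans iso⟩⟩

end Cfsg.Agent.S0462
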