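import Mathlib
import Cfsg.Statements.S1687
import Cfsg.Agent.Lib.Helper9.TCPack
import Cfsg.Agent.Lib.Helper9.TCCox
import Cfsg.Agent.Lib.Helper9.TCData.Fi22x1687

set_option autoImplicit false
set_option maxRecDepth 100000
open Cfsg

namespace Cfsg.Agent.S1687

open Cfsg.Agent.Helper9.TC Cfsg.Agent.Helper9.TCData.Fi22x1687 Cfsg.Spor.Fi22

/-- The generators, in the order of the columns. -/
def gens : List Gen := [.a, .b, .c, .d, .e, .f, .g, .h, .i]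

/-- The generators of the subgroup. -/
def sgens : List (FreeGroup Gen) := [a, c, d, e, f, g, h, i, (a * b * c * d * e * h) ^ 5]

theorem fits : fi22P.chkFits = true := by decide +kernel

/-- The certificate. -/
def cert : CoxCert edges extra ({a, c, d, e, f, g, h, i, (a * b * c * d * e * h) ^ 5} : Set (FreeGroup Gen)) where
  gens := gens
  sgens := sgens
  D := fi22P.toData
  hc := by intro x; cases x <;> decide
  hnd := by decide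
  hn := by decide
  hS := by
    ext s
    simp only [Set.mem_insert_iff, Set.mem_singleton_iff, Set.mem_ofPred_eq, sgens, List.mem_cons,
      List.mem_nil_iff, or_false]
  hk := rfl
  hinv := fun _ => rfl
  hrels := by decide +kernel
  hsubs := by decide +kernel
  hz1 := Packed.hz1 fits
  hz2 := Packed.hz2 fits
  hn0 := by decide
  h1 := by decide +kernel
  h2 := by decide +kernel
  h3 := by decide +kernel
  h4 := by decide +kernel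
  h5 := by decide +kernel
  h6 := by decide +kernel

theorem ho1 : chkO1 fi22P.toData fi22POrb.toOrb = true := by decide +kernel

theorem ho2 : chkO2 fi22P.toData fi22POrb.toOrb = true := by decide +kernel

/-- In the presented Fischer group Fi₂₂, let H be the subgroup generated by the images of a, c, d, e, f, g, h, i and (abcdeh)^5. Then H has index 3510, H has orbits of sizes 693 and 2816 on the cosets of H other than H itself. -/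
theorem result : (((Subgroup.closure ({Cfsg.Spor.Fi22.a, Cfsg.Spor.Fi22.c, Cfsg.Spor.Fi22.d, Cfsg.Spor.Fi22.e, Cfsg.Spor.Fi22.f, Cfsg.Spor.Fi22.g, Cfsg.Spor.Fi22.h, Cfsg.Spor.Fi22.i, (Cfsg.Spor.Fi22.a * Cfsg.Spor.Fi22.b * Cfsg.Spor.Fi22.c * Cfsg.Spor.Fi22.d * Cfsg.Spor.Fi22.e * Cfsg.Spor.Fi22.h) ^ 5} : Set (FreeGroup Cfsg.Spor.Fi22.Gen))).map (PresentedGroup.mk (Cfsg.Spor.coxRelators Cfsg.Spor.Fi22.edges ∪ {r | r ∈ Cfsg.Spor.Fi22.extra})))).index = 3510 ∧ ∃ q₁ q₂ : Cfsg.Spor.Fi22 ⧸ (((Subgroup.closure ({Cfsg.Spor.Fi22.a, Cfsg.Spor.Fi22.c, Cfsg.Spor.Fi22.d, Cfsg.Spor.Fi22.e, Cfsg.Spor.Fi22.f, Cfsg.Spor.Fi22.g, Cfsg.Spor.Fi22.h, Cfsg.Spor.Fi22.i, (Cfsg.Spor.Fi22.a * Cfsg.Spor.Fi22.b * Cfsg.Spor.Fi22.c * Cfsg.Spor.Fi22.d * Cfsg.Spor.Fi22.e * Cfsg.Spor.Fi22.h) ^ 5} : Set (FreeGroup Cfsg.Spor.Fi22.Gen))).map (PresentedGroup.mk (Cfsg.Spor.coxRelators Cfsg.Spor.Fi22.edges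 ∪ {r | r ∈ Cfsg.Spor.Fi22.extra})))), (MulAction.orbit (((Subgroup.closure ({Cfsg.Spor.Fi22.a, Cfsg.Spor.Fi22.c, Cfsg.Spor.Fi22.d, Cfsg.Spor.Fi22.e, Cfsg.Spor.Fi22.f, Cfsg.Spor.Fi22.g, Cfsg.Spor.Fi22.h, Cfsg.Spor.Fi22.i, (Cfsg.Spor.Fi22.a * Cfsg.Spor.Fi22.b * Cfsg.Spor.Fi22.c * Cfsg.Spor.Fi22.d * Cfsg.Spor.Fi22.e * Cfsg.Spor.Fi22.h) ^ 5} : Set (FreeGroup Cfsg.Spor.Fi22.Gen))).map (PresentedGroup.mk (Cfsg.Spor.coxRelators Cfsg.Spor.Fi22.edges ∪ {r | r ∈ Cfsg.Spor.Fi22.extra})))) q₁).ncard = 693 ∧ (MulAction.orbit (((Subgroup.closure ({Cfsg.Spor.Fi22.a, Cfsg.Spor.Fi22.c, Cfsg.Spor.Fi22.d, Cfsg.Spor.Fi22.e, Cfsg.Spor.Fi22.f, Cfsg.Spor.Fi22.g, Cfsg.Spor.Fi22.h, Cfsg.Spor.Fi22.i, (Cfsg.Spor.Fi22.a * Cfsg.Spor.Fi22.b * Cfsg.Spor.Fi22.c * Cfsg.Spor.Fi22.d * Cfsg.Spor.Fi22.e * Cfsg.Spor.Fi22.h) ^ 5} : Set (FreeGroup Cfsg.Spor.Fi22.Gen))).map (PresentedGroup.mk (Cfsg.Spor.coxRelators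 Cfsg.Spor.Fi22.edges ∪ {r | r ∈ Cfsg.Spor.Fi22.extra})))) q₂).ncard = 2816 := by
  refine ⟨cert.index_eq, ?_⟩
  obtain ⟨q₁, -, e₁⟩ := cert.orbit_ncard fi22POrb.toOrb ho1 ho2 (i₀ := 6) (by decide +kernel)
    (by decide +kernel)
  obtain ⟨q₂, -, e₂⟩ := cert.orbit_ncard fi22POrb.toOrb ho1 ho2 (i₀ := 1) (by decide +kernel)
    (by decide +kernel)
  refine ⟨q₁, q₂, e₁.trans ?_, e₂.trans ?_⟩
  · decide +kernel
  · decide +kernel

end Cfsg.Agent.S1687
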