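import Mathlib
import Cfsg.Statements.S1684
import Cfsg.Agent.S1687
import Cfsg.Agent.S1696
import Cfsg.Agent.Lib.Helper9.TC2Word
import Cfsg.Agent.Lib.Helper9.TC2Fin
import Cfsg.Agent.Lib.Helper9.U62Iso
import Cfsg.Agent.Lib.Helper9.DoubleCover

set_option autoImplicit false
set_option maxRecDepth 1000000
open Cfsg

namespace Cfsg.Agent.S1684

open Cfsg.Agent.Helper9 Cfsg.Agent.Helper9.TC2 Cfsg.Agent.Helper9.TCData Cfsg.Spor
  Cfsg.Agent.Helper9.U62Simple

/-- The presented group Fi22. -/
abbrev G22 : Type := PresentedGroup (relSet Fi22C0.edges Fi22C0.extra)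

theorem finG : Finite G22 := S1696.hub.1

theorem cardG : Nat.card G22 = 64561751654400 := S1696.result.2

/-- The base points. -/
def pts : List ℕ := CoxCert.levPts Fi22C0.levs []

theorem hPS : Fi22C0.cert.PS pts = ⊥ := by
  have hfin : Finite (PresentedGroup (relSet Fi22C0.edges Fi22C0.extra)) := finG
  exact Fi22C0.cert.PS_base_eq_bot (Fi22C0.tab.k + Fi22C0.slp.length) Fi22C0.lidx Fi22C0.lpar
    Fi22C0.lgi (Fi22C0.cert.exists_elt Fi22C0.slp S1696.hslp Fi22C0.hSlp) Fi22C0.levs S1696.hok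
    (cardG.trans S1696.hprod.symm)

theorem hpts : ∀ b ∈ pts, b < Fi22C0.cert.D.n := by decide +kernel

/-- A word which fixes the base points is trivial. -/
theorem wordOne (x : FreeGroup Fi22.Gen)
    (hx : ∀ b ∈ pts, runT Fi22C0.cert.D (colWord Fi22C0.cert.cols x) b = b) :
    (PresentedGroup.mk (relSet Fi22C0.edges Fi22C0.extra) x : G22) = 1 :=
  Fi22C0.cert.mk_eq_one_of_base pts hPS hpts x hx

/-- The generators of the subgroup. -/
def F : Fin 9 → FreeGroup Fi22.Gen :=
  ![Fi22.a, Fi22.c, Fi22.d, Fi22.e, Fi22.f, Fi22.g, Fi22.h, Fi22.i,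
    (Fi22.a * Fi22.b * Fi22.c * Fi22.d * Fi22.e * Fi22.h) ^ 5]

/-- The subgroup. -/
abbrev H : Subgroup G22 :=
  (Subgroup.closure ({Fi22.a, Fi22.c, Fi22.d, Fi22.e, Fi22.f, Fi22.g, Fi22.h, Fi22.i,
    (Fi22.a * Fi22.b * Fi22.c * Fi22.d * Fi22.e * Fi22.h) ^ 5} : Set (FreeGroup Fi22.Gen))).map
    (PresentedGroup.mk (relSet Fi22C0.edges Fi22C0.extra))

theorem hset : ({Fi22.a, Fi22.c, Fi22.d, Fi22.e, Fi22.f, Fi22.g, Fi22.h, Fi22.i,
    (Fi22.a * Fi22.b * Fi22.c * Fi22.d * Fi22.e * Fi22.h) ^ 5} : Set (FreeGroup Fi22.Gen)) =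
    Set.range F := by
  ext s
  constructor
  · rintro (rfl | rfl | rfl | rfl | rfl | rfl | rfl | rfl | rfl)
    · exact ⟨0, rfl⟩
    · exact ⟨1, rfl⟩
    · exact ⟨2, rfl⟩
    · exact ⟨3, rfl⟩
    · exact ⟨4, rfl⟩
    · exact ⟨5, rfl⟩
    · exact ⟨6, rfl⟩
    · exact ⟨7, rfl⟩
    · exact ⟨8, rfl⟩
  · rintro ⟨b, rfl⟩
    fin_cases b
    · exact Or.inl rfl
    · exact Or.inr (Or.inl rfl)
    · exact Or.inr (Or.inr (Or.inl rfl))
    · exact Or.inr (Or.inr (Or.inr (Or.inl rfl)))
    · exact Or.inr (Or.inr (Or.inr (Or.inr (Or.inl rfl))))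
    · exact Or.inr (Or.inr (Or.inr (Or.inr (Or.inr (Or.inl rfl)))))
    · exact Or.inr (Or.inr (Or.inr (Or.inr (Or.inr (Or.inr (Or.inl rfl))))))
    · exact Or.inr (Or.inr (Or.inr (Or.inr (Or.inr (Or.inr (Or.inr (Or.inl rfl)))))))
    · exact Or.inr (Or.inr (Or.inr (Or.inr (Or.inr (Or.inr (Or.inr (Or.inr rfl)))))))

theorem indexH : H.index = 3510 := S1687.result.1

theorem cardH : Nat.card H = 18393661440 := by
  have h2 := Subgroup.card_mul_index H
  rw [indexH, cardG] at h2
  omega

theorem lift_mk : FreeGroup.lift (fun i => (PresentedGroup.mk (relSet Fi22C0.edges Fi22C0.extra) (F i) : G22)) =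
    (PresentedGroup.mk (relSet Fi22C0.edges Fi22C0.extra)).comp (FreeGroup.lift F) := by
  apply FreeGroup.ext_hom
  intro i
  rw [FreeGroup.lift_apply_of, MonoidHom.comp_apply, FreeGroup.lift_apply_of]

theorem key1 : ∀ r ∈ U62C1.extra, ∀ b ∈ pts,
    runT Fi22C0.cert.D (colWord Fi22C0.cert.cols (FreeGroup.lift F r)) b = b := by
  decide +kernel

theorem key2 : ∀ x ∈ coxNodes U62C1.edges, ∀ y ∈ coxNodes U62C1.edges, ∀ b ∈ pts,
    runT Fi22C0.cert.D (colWord Fi22C0.cert.cols
      (FreeGroup.lift F ((FreeGroup.of x * FreeGroup.of y) ^ coxLabel U62C1.edges x y))) b = b := by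
  decide +kernel

theorem rels_fi : ∀ r ∈ relSet U62C1.edges U62C1.extra,
    FreeGroup.lift (fun i => (PresentedGroup.mk (relSet Fi22C0.edges Fi22C0.extra) (F i) : G22)) r = 1 := by
  intro r hr
  rw [lift_mk, MonoidHom.comp_apply]
  rcases hr with hr | hr
  · obtain ⟨x, hx, y, hy, rfl⟩ := hr
    exact wordOne _ (key2 x hx y hy)
  · exact wordOne _ (key1 r hr)

/-- The homomorphism to the presented group Fi22. -/
noncomputable def phi : P1 →* G22 := PresentedGroup.toGroup rels_fi

theorem phi_of (i : Fin 9) : phi (PresentedGroup.of i) =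
    PresentedGroup.mk (relSet Fi22C0.edges Fi22C0.extra) (F i) :=
  PresentedGroup.toGroup.of rels_fi

theorem phi_range : phi.range = H := by
  rw [MonoidHom.range_eq_map, ← PresentedGroup.closure_range_of, MonoidHom.map_closure]
  unfold H
  rw [MonoidHom.map_closure, hset]
  congr 1
  ext g
  constructor
  · rintro ⟨_, ⟨b, rfl⟩, rfl⟩
    exact ⟨_, ⟨b, rfl⟩, (phi_of b).symm⟩
  · rintro ⟨_, ⟨b, rfl⟩, rfl⟩
    exact ⟨_, ⟨b, rfl⟩, phi_of b⟩

theorem phi_bij : Function.Bijective phi.rangeRestrict := by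
  have hfin : Finite P1 := cardP1.1
  have hs : Function.Surjective phi.rangeRestrict := phi.rangeRestrict_surjective
  have hcard : Nat.card P1 = Nat.card phi.range := by
    apply le_antisymm
    · rw [phi_range, cardH]
      exact cardP1.2
    · exact Nat.card_le_card_of_surjective _ hs
  rw [Nat.bijective_iff_surjective_and_card]
  exact ⟨hs, hcard⟩

/-- The isomorphism with the subgroup. -/
noncomputable def eqv : P1 ≃* H :=
  (MulEquiv.ofBijective phi.rangeRestrict phi_bij).trans (MulEquiv.subgroupCongr phi_range)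

theorem card_P1 : Nat.card P1 = 18393661440 := by
  rw [Nat.card_congr eqv.toEquiv, cardH]

section Field

variable {K : Type} [Field K] [Fintype K] (hK : Fintype.card K = 4)

/-- The homomorphism from the subgroup onto the projective special unitary group. -/
noncomputable def piH : H →* Cfsg.PSU 6 K 2 :=
  ((U62Iso.iso hK).toMonoidHom.comp pi).comp eqv.symm.toMonoidHom

theorem piH_surj : Function.Surjective (piH hK) := by
  intro y
  obtain ⟨q, rfl⟩ := (U62Iso.iso hK).surjective y
  obtain ⟨x, rfl⟩ := pi_surj q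
  exact ⟨eqv x, by simp [piH]⟩

theorem ker_card : Nat.card (piH hK).ker = 2 := by
  have h1 := Subgroup.card_mul_index (piH hK).ker
  rw [Subgroup.index_ker, MonoidHom.range_eq_top.2 (piH_surj hK), Subgroup.card_top,
    U62Iso.card_PSU hK, cardH] at h1
  omega

end Field

section NoIndexTwo

variable {Q : Type} [Group Q] (f : P1 →* Q) (hQ : ∀ q : Q, q ^ 2 = 1)

include hQ

theorem edge_eq (x y : Fin 9) (hx : x ∈ coxNodes U62C1.edges) (hy : y ∈ coxNodes U62C1.edges)
    (hl : coxLabel U62C1.edges x y = 3) :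
    f (PresentedGroup.of x) = f (PresentedGroup.of y) := by
  have hrel : (PresentedGroup.of x * PresentedGroup.of y : P1) ^ 3 = 1 := by
    have hm : (FreeGroup.of x * FreeGroup.of y) ^ 3 ∈ relSet U62C1.edges U62C1.extra := by
      left
      exact ⟨x, hx, y, hy, by rw [hl]⟩
    have h := PresentedGroup.one_of_mem hm
    rw [map_pow, map_mul] at h
    exact h
  have h3 : (f (PresentedGroup.of x) * f (PresentedGroup.of y)) ^ 3 = 1 := by
    rw [← map_mul, ← map_pow, hrel, map_one]
  have h2 := hQ (f (PresentedGroup.of x) * f (PresentedGroup.of y))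
  have h1 : f (PresentedGroup.of x) * f (PresentedGroup.of y) = 1 := by
    have h4 := pow_succ (f (PresentedGroup.of x) * f (PresentedGroup.of y)) 2
    rw [h2, one_mul, h3] at h4
    exact h4.symm
  have hy2 := hQ (f (PresentedGroup.of y))
  have h5 : f (PresentedGroup.of y) * f (PresentedGroup.of y) = 1 := by
    rw [← pow_two]
    exact hy2
  exact mul_right_cancel (h1.trans h5.symm)

theorem gen_eq_one (x : Fin 9) : f (PresentedGroup.of x) = 1 := by
  set t := f (PresentedGroup.of (1 : Fin 9)) with ht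
  have e12 := edge_eq f hQ 1 2 (by decide) (by decide) (by decide)
  have e23 := edge_eq f hQ 2 3 (by decide) (by decide) (by decide)
  have e34 := edge_eq f hQ 3 4 (by decide) (by decide) (by decide)
  have e45 := edge_eq f hQ 4 5 (by decide) (by decide) (by decide)
  have e26 := edge_eq f hQ 2 6 (by decide) (by decide) (by decide)
  have e67 := edge_eq f hQ 6 7 (by decide) (by decide) (by decide)
  have e84 := edge_eq f hQ 8 4 (by decide) (by decide) (by decide)
  have h2 : f (PresentedGroup.of (2 : Fin 9)) = t := e12.symm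
  have h3 : f (PresentedGroup.of (3 : Fin 9)) = t := e23.symm.trans h2
  have h4 : f (PresentedGroup.of (4 : Fin 9)) = t := e34.symm.trans h3
  have h5 : f (PresentedGroup.of (5 : Fin 9)) = t := e45.symm.trans h4
  have h6 : f (PresentedGroup.of (6 : Fin 9)) = t := e26.symm.trans h2
  have h7 : f (PresentedGroup.of (7 : Fin 9)) = t := e67.symm.trans h6
  have h8 : f (PresentedGroup.of (8 : Fin 9)) = t := e84.trans h4
  have ht2 : t * t = 1 := by
    rw [← pow_two]
    exact hQ t
  -- the relator of odd length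
  have hodd : ((PresentedGroup.of 1 * PresentedGroup.of 2 * PresentedGroup.of 3 *
      PresentedGroup.of 4 * PresentedGroup.of 5 * PresentedGroup.of 6 *
      PresentedGroup.of 7 : P1)) ^ 9 = 1 := by
    have hm : (FreeGroup.of (1 : Fin 9) * FreeGroup.of 2 * FreeGroup.of 3 * FreeGroup.of 4 *
        FreeGroup.of 5 * FreeGroup.of 6 * FreeGroup.of 7) ^ 9 ∈
        relSet U62C1.edges U62C1.extra := by
      right
      show _ ∈ U62C1.extra
      decide +kernel
    have h := PresentedGroup.one_of_mem hm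
    rw [map_pow] at h
    simp only [map_mul] at h
    exact h
  have h1 : t = 1 := by
    have h := congrArg f hodd
    rw [map_pow] at h
    simp only [map_mul, map_one] at h
    rw [h2, h3, h4, h5, h6, h7, ← ht] at h
    have e7 : t * t * t * t * t * t * t = t := by
      rw [ht2, one_mul, ht2, one_mul, ht2, one_mul]
    rw [e7] at h
    have e9 : t ^ 9 = t := by
      rw [show 9 = 2 * 4 + 1 from rfl, pow_succ, pow_mul, hQ t, one_pow, one_mul]
    rw [e9] at h
    exact h
  -- the relator with the first generator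
  have hrel : (PresentedGroup.of 0 * (PresentedGroup.of 1 * PresentedGroup.of 2 *
      PresentedGroup.of 3 * PresentedGroup.of 4 * PresentedGroup.of 6 *
      PresentedGroup.of 8) ^ 5 : P1) = 1 := by
    have hm : FreeGroup.of (0 : Fin 9) * (FreeGroup.of 1 * FreeGroup.of 2 * FreeGroup.of 3 *
        FreeGroup.of 4 * FreeGroup.of 6 * FreeGroup.of 8) ^ 5 ∈
        relSet U62C1.edges U62C1.extra := by
      right
      show _ ∈ U62C1.extra
      decide +kernel
    have h := PresentedGroup.one_of_mem hm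
    rw [map_mul, map_pow] at h
    simp only [map_mul] at h
    exact h
  have h0 : f (PresentedGroup.of (0 : Fin 9)) = 1 := by
    have h := congrArg f hrel
    rw [map_mul, map_pow] at h
    simp only [map_mul, map_one] at h
    rw [h2, h3, h4, h6, h8, ← ht, h1] at h
    simpa using h
  fin_cases x
  · exact h0
  · exact h1
  · exact h2.trans h1
  · exact h3.trans h1
  · exact h4.trans h1
  · exact h5.trans h1
  · exact h6.trans h1
  · exact h7.trans h1
  · exact h8.trans h1

end NoIndexTwo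

theorem no2_P1 : ∀ L : Subgroup P1, L.index ≠ 2 := by
  apply no_index_two_of_gens
    (Set.range (PresentedGroup.of (rels := relSet U62C1.edges U62C1.extra)))
    (PresentedGroup.closure_range_of _)
  intro Q _ f hQ s hs
  obtain ⟨i, rfl⟩ := hs
  exact gen_eq_one f hQ i

theorem no2_H : ∀ L : Subgroup H, L.index ≠ 2 := by
  intro L hL
  apply no2_P1 (L.comap eqv.toMonoidHom)
  rw [Subgroup.index_comap_of_surjective _ eqv.surjective]
  exact hL

/-- The subgroup is a non-split double cover, over any field with four elements. -/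
theorem main {K : Type} [Field K] [Fintype K] (hK : Fintype.card K = 4) :
    IsNonsplitDoubleCover H (Cfsg.PSU 6 K 2) :=
  isNonsplitDoubleCover_of_surjective _ (piH_surj hK) (ker_card hK) (U62Iso.center_PSU hK) no2_H

/-- In the presented Fischer group Fi₂₂, the subgroup generated by the images of a, c, d, e, f, g, h, i and (abcdeh)^5 is a non-split double cover of PSU(6, 2) (realised over a field with four elements). -/
theorem result : ∃ (K : Type) (_ : Field K) (_ : Fintype K), Fintype.card K = 4 ∧ Cfsg.IsNonsplitDoubleCover (((Subgroup.closure ({Cfsg.Spor.Fi22.a, Cfsg.Spor.Fi22.c, Cfsg.Spor.Fi22.d, Cfsg.Spor.Fi22.e, Cfsg.Spor.Fi22.f, Cfsg.Spor.Fi22.g, Cfsg.Spor.Fi22.h, Cfsg.Spor.Fi22.i, (Cfsg.Spor.Fi22.a * Cfsg.Spor.Fi22.b * Cfsg.Spor.Fi22.c * Cfsg.Spor.Fi22.d * Cfsg.Spor.Fi22.e * Cfsg.Spor.Fi22.h) ^ 5} : Set (FreeGroup Cfsg.Spor.Fi22.Gen))).map (PresentedGroup.mk (Cfsg.Spor.coxRelators Cfsg.Spor.Fi22.edges ∪ {r | r ∈ Cfsg.Spor.Fi22.extra})))) (Cfsg.PSU 6 K 2) := by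
  exact ⟨F4, inferInstance, inferInstance, F4.card, main F4.card⟩

end Cfsg.Agent.S1684
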