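import Mathlib
import Cfsg.Statements.S0471
import Cfsg.Agent.S1684
import Cfsg.Agent.Lib.Helper9.TC2Word
import Cfsg.Agent.Lib.Helper9.TC2Prim
import Cfsg.Agent.Lib.Helper9.TCData.Fi22D0.Cert

set_option autoImplicit false
set_option maxRecDepth 1000000
open Cfsg

namespace Cfsg.Agent.S0471

open Cfsg.Agent.Helper9 Cfsg.Agent.Helper9.TC2 Cfsg.Agent.Helper9.TCData Cfsg.Spor

/-- The presented group Fi22. -/
abbrev G : Type := S1684.G22

/-- The subgroup generated by a, c, d, e, f, g, h, i, (abcdeh)^5. -/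
abbrev H : Subgroup G := S1684.H

theorem finG : Finite G := S1684.finG

theorem simpleG : IsSimpleGroup G := S1696.result.1

theorem cardG : Nat.card G = 64561751654400 := S1684.cardG

theorem centerG : Subgroup.center G = ⊥ := by
  have hs : IsSimpleGroup G := simpleG
  have hn : (Subgroup.center G).Normal := inferInstance
  rcases hn.eq_bot_or_eq_top with h | h
  · exact h
  · exfalso
    have hp := @IsSimpleGroup.prime_card G (Group.commGroupOfCenterEqTop h) hs
    rw [cardG] at hp
    exact absurd hp (by norm_num)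

/-- The word of the central involution of the subgroup. -/
def zF : FreeGroup Fi22.Gen := Fi22.a

/-- The central involution of the subgroup. -/
noncomputable def z : G := PresentedGroup.mk (relSet Fi22C0.edges Fi22C0.extra) zF

theorem z_ne_one : z ≠ 1 := by
  apply Fi22C0.cert.mk_ne_one_of_moves zF (i := 0) (by decide)
  decide +kernel

theorem z_sq : z * z = 1 := by
  have h := S1684.wordOne (zF * zF) (by decide +kernel)
  rw [map_mul] at h
  exact h

theorem z_inv : z⁻¹ = z := inv_eq_of_mul_eq_one_left z_sq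

theorem z_comm_gen (b : Fin 9) :
    (PresentedGroup.mk (relSet Fi22C0.edges Fi22C0.extra) (S1684.F b) : G) * z =
      z * PresentedGroup.mk (relSet Fi22C0.edges Fi22C0.extra) (S1684.F b) := by
  have h : ∀ b : Fin 9, (PresentedGroup.mk (relSet Fi22C0.edges Fi22C0.extra)
      (S1684.F b * zF * (S1684.F b)⁻¹ * zF⁻¹) : G) = 1 := by
    intro b
    apply S1684.wordOne
    revert b
    decide +kernel
  have h1 := h b
  rw [map_mul, map_mul, map_mul, map_inv, map_inv] at h1
  have h2 := mul_inv_eq_one.1 h1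
  have h3 := mul_inv_eq_iff_eq_mul.1 h2
  exact h3

theorem H_le : H ≤ Subgroup.centralizer {z} := by
  unfold H S1684.H
  rw [S1684.hset, Subgroup.map_le_iff_le_comap, Subgroup.closure_le]
  rintro _ ⟨b, rfl⟩
  show PresentedGroup.mk _ _ ∈ Subgroup.centralizer {z}
  rw [Subgroup.mem_centralizer_iff]
  intro y hy
  rw [Set.mem_singleton_iff] at hy
  subst hy
  exact (z_comm_gen b).symm

theorem hlab : ∀ i < Fi22D0.cert.D.n, Fi22D0.orb.lab i < 3 := by
  intro i hi
  have := Fi22D0.hOL i hi
  rwa [Nat.blt_eq] at this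

theorem hroot : ∀ l < 3, Fi22D0.orb.root l < Fi22D0.cert.D.n ∧ Fi22D0.orb.lab (Fi22D0.orb.root l) = l := by
  decide +kernel

theorem hsz : ∀ l < 3, cnt (fun i => Nat.beq (Fi22D0.orb.lab i) l) Fi22D0.cert.D.n =
    ([1, 2816, 693] : List ℕ).getD l 0 := by
  decide +kernel

theorem hsub : ∀ T ∈ (Finset.range 3).powerset, 0 ∈ T →
    (∑ l ∈ T, ([1, 2816, 693] : List ℕ).getD l 0) ∣ Fi22D0.cert.D.n →
    T = {0} ∨ T = Finset.range 3 := by
  decide +kernel

theorem H_max : ∀ K : Subgroup G, H ≤ K → K = H ∨ K = ⊤ :=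
  Fi22D0.cert.maximal Fi22D0.orb Fi22D0.hO1 Fi22D0.hO2 3 0 [1, 2816, 693] hlab hroot
    hsz (by decide +kernel) (by decide) (by decide) hsub

theorem cent_z : Subgroup.centralizer {z} = H := by
  rcases H_max _ H_le with h | h
  · exact h
  · exfalso
    have h1 : z ∈ Subgroup.center G := by
      rw [Subgroup.mem_center_iff]
      intro g
      have h2 : g ∈ Subgroup.centralizer {z} := by rw [h]; exact Subgroup.mem_top g
      rw [Subgroup.mem_centralizer_iff] at h2
      exact (h2 z rfl).symm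
    rw [centerG, Subgroup.mem_bot] at h1
    exact z_ne_one h1

/-- The class of 3-transpositions. -/
def D : Set G := conjugatesOf z

theorem mem_D {d : G} : d ∈ D ↔ ∃ a : G, a * z * a⁻¹ = d := by
  unfold D conjugatesOf
  rw [Set.mem_setOf_eq, isConj_iff]

theorem card_D : Nat.card D = 3510 := by
  have h1 : MulAction.orbit (ConjAct G) z = D := by
    rw [ConjAct.orbit_eq_carrier_conjClasses]
    ext d
    unfold D conjugatesOf
    rw [ConjClasses.mem_carrier_iff_mk_eq, ConjClasses.mk_eq_mk_iff_isConj, Set.mem_setOf_eq,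
      isConj_comm]
  have h2 : (Subgroup.centralizer {z}).index =
      (MulAction.stabilizer (ConjAct G) z).index := by
    rw [Subgroup.centralizer_eq_comap_stabilizer]
    exact Subgroup.index_comap_of_surjective _ ConjAct.toConjAct.surjective
  have h3 := MulAction.index_stabilizer (G := ConjAct G) (x := z)
  rw [← h2, cent_z, h1] at h3
  have h4 : H.index = 3510 := S1684.indexH
  rw [h4] at h3
  rw [Nat.card_coe_set_eq]
  exact h3.symm

/-- Representatives of the double cosets. -/
noncomputable def X : ℕ → G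
  | 1 => PresentedGroup.mk (relSet Fi22C0.edges Fi22C0.extra) Fi22.b
  | 2 => PresentedGroup.mk (relSet Fi22C0.edges Fi22C0.extra) (Fi22.b * Fi22.c * Fi22.a * Fi22.b)
  | _ => 1

theorem hX : ∀ l < 3, Fi22D0.orb.lab (Fi22D0.cert.phi (X l) 0) = l := by
  intro l hl
  have hn0 : 0 < Fi22D0.cert.D.n := Fi22D0.cert.hn0
  interval_cases l
  · show Fi22D0.orb.lab (Fi22D0.cert.phi 1 0) = 0
    rw [map_one]
    show Fi22D0.orb.lab 0 = 0
    decide +kernel
  · show Fi22D0.orb.lab (Fi22D0.cert.phi (PresentedGroup.mk _ Fi22.b) 0) = 1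
    rw [(Fi22D0.cert.phi_mk_apply _ hn0).1]
    decide +kernel
  · show Fi22D0.orb.lab (Fi22D0.cert.phi (PresentedGroup.mk _ (Fi22.b * Fi22.c * Fi22.a * Fi22.b)) 0) = 2
    rw [(Fi22D0.cert.phi_mk_apply _ hn0).1]
    decide +kernel

theorem hrel : ∀ l < 3, (z * X l * z * (X l)⁻¹) ^ 2 = 1 ∨ (z * X l * z * (X l)⁻¹) ^ 3 = 1 := by
  intro l hl
  interval_cases l
  · left
    show (z * 1 * z * 1⁻¹) ^ 2 = 1
    rw [mul_one, inv_one, mul_one, z_sq, one_pow]
  · right
    have h := S1684.wordOne ((zF * Fi22.b * zF * Fi22.b⁻¹) ^ 3) (by decide +kernel)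
    rw [map_pow, map_mul, map_mul, map_mul, map_inv] at h
    exact h
  · left
    have h := S1684.wordOne ((zF * (Fi22.b * Fi22.c * Fi22.a * Fi22.b) * zF *
      (Fi22.b * Fi22.c * Fi22.a * Fi22.b)⁻¹) ^ 2) (by decide +kernel)
    rw [map_pow, map_mul, map_mul, map_mul, map_inv] at h
    exact h

theorem comm_of_mem {h : G} (hh : h ∈ H) : h * z = z * h := by
  have := H_le hh
  rw [Subgroup.mem_centralizer_iff] at this
  exact (this z rfl).symm

theorem three_transp (g : G) :
    (z * (g * z * g⁻¹)) ^ 2 = 1 ∨ (z * (g * z * g⁻¹)) ^ 3 = 1 := by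
  obtain ⟨l, hl, h, hh, h', hh', rfl⟩ := Fi22D0.cert.double_coset Fi22D0.orb Fi22D0.hO1 Fi22D0.hO2
    3 hlab hroot X hX g
  have c1 := comm_of_mem hh
  have c2 := comm_of_mem hh'
  have c2' : h' * z * h'⁻¹ = z := by rw [c2, mul_assoc, mul_inv_cancel, mul_one]
  have e : z * (h * X l * h' * z * (h * X l * h')⁻¹) = h * (z * X l * z * (X l)⁻¹) * h⁻¹ := by
    have e1 : h * X l * h' * z * (h * X l * h')⁻¹ = h * (X l * (h' * z * h'⁻¹) * (X l)⁻¹) * h⁻¹ := by
      group
    rw [e1, c2', ← mul_assoc, ← mul_assoc, ← c1]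
    group
  rw [e]
  have hpow : ∀ k : ℕ, (h * (z * X l * z * (X l)⁻¹) * h⁻¹) ^ k =
      h * (z * X l * z * (X l)⁻¹) ^ k * h⁻¹ := fun k => conj_pow
  rcases hrel l hl with h2 | h3
  · left
    rw [hpow, h2, mul_one, mul_inv_cancel]
  · right
    rw [hpow, h3, mul_one, mul_inv_cancel]

theorem isTT : IsThreeTranspositionSet D := by
  constructor
  · intro d hd
    obtain ⟨a, rfl⟩ := mem_D.1 hd
    have h1 : orderOf z = 2 := by
      apply orderOf_eq_prime
      · rw [pow_two]; exact z_sq
      · exact z_ne_one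
    have h2 : a * z * a⁻¹ = MulAut.conj a z := rfl
    rw [h2, MulEquiv.orderOf_eq]
    exact h1
  · intro d hd e he
    obtain ⟨a, rfl⟩ := mem_D.1 hd
    obtain ⟨b, rfl⟩ := mem_D.1 he
    have key : a * z * a⁻¹ * (b * z * b⁻¹) = a * (z * ((a⁻¹ * b) * z * (a⁻¹ * b)⁻¹)) * a⁻¹ := by
      group
    have hpow : ∀ k : ℕ, (a * (z * ((a⁻¹ * b) * z * (a⁻¹ * b)⁻¹)) * a⁻¹) ^ k =
        a * (z * ((a⁻¹ * b) * z * (a⁻¹ * b)⁻¹)) ^ k * a⁻¹ := fun k => conj_pow
    rw [key, hpow, hpow]
    rcases three_transp (a⁻¹ * b) with h | h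
    · left
      rw [h, mul_one, mul_inv_cancel]
    · right
      rw [h, mul_one, mul_inv_cancel]

theorem closure_D : Subgroup.closure D = ⊤ := by
  have hs : IsSimpleGroup G := simpleG
  have h1 : Subgroup.closure D = Subgroup.normalClosure {z} := by
    unfold Subgroup.normalClosure D
    congr 1
    ext x
    simp [Group.conjugatesOfSet]
  have hn : (Subgroup.normalClosure ({z} : Set G)).Normal := Subgroup.normalClosure_normal
  rcases hn.eq_bot_or_eq_top with h | h
  · exfalso
    have : z ∈ Subgroup.normalClosure ({z} : Set G) :=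
      Subgroup.subset_normalClosure (Set.mem_singleton z)
    rw [h, Subgroup.mem_bot] at this
    exact z_ne_one this
  · rw [h1, h]

/-- Conjugation between centralizers. -/
def conjEquiv (a y : G) : Subgroup.centralizer {a * y * a⁻¹} ≃* Subgroup.centralizer {y} where
  toFun x := ⟨a⁻¹ * x * a, by
    have hx := x.2
    rw [Subgroup.mem_centralizer_iff] at hx ⊢
    intro w hw
    rw [Set.mem_singleton_iff] at hw
    subst hw
    have h1 := hx (a * w * a⁻¹) rfl
    have h2 : w * (a⁻¹ * (x : G) * a) = a⁻¹ * ((a * w * a⁻¹) * x) * a := by group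
    have h3 : a⁻¹ * (x : G) * a * w = a⁻¹ * (x * (a * w * a⁻¹)) * a := by group
    rw [h2, h3, h1]⟩
  invFun x := ⟨a * x * a⁻¹, by
    have hx := x.2
    rw [Subgroup.mem_centralizer_iff] at hx ⊢
    intro w hw
    rw [Set.mem_singleton_iff] at hw
    subst hw
    have h1 := hx y rfl
    have h2 : a * y * a⁻¹ * (a * (x : G) * a⁻¹) = a * (y * x) * a⁻¹ := by group
    have h3 : a * (x : G) * a⁻¹ * (a * y * a⁻¹) = a * (x * y) * a⁻¹ := by group
    rw [h2, h3, h1]⟩
  left_inv x := by
    apply Subtype.ext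
    show a * (a⁻¹ * (x : G) * a) * a⁻¹ = x
    group
  right_inv x := by
    apply Subtype.ext
    show a⁻¹ * (a * (x : G) * a⁻¹) * a = x
    group
  map_mul' x x' := by
    apply Subtype.ext
    show a⁻¹ * ((x : G) * x') * a = a⁻¹ * x * a * (a⁻¹ * x' * a)
    group

/-- Every group isomorphic to the subgroup is a non-split double cover. -/
theorem main' {Y : Type} [Group Y] (e : Y ≃* H) {K : Type} [Field K] [Fintype K]
    (hK : Fintype.card K = 4) : IsNonsplitDoubleCover Y (Cfsg.PSU 6 K 2) := by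
  have hs : Function.Surjective ((S1684.piH hK).comp e.toMonoidHom) :=
    (S1684.piH_surj hK).comp e.surjective
  have hcard : Nat.card Y = 18393661440 := by
    rw [Nat.card_congr e.toEquiv, S1684.cardH]
  have hk : Nat.card ((S1684.piH hK).comp e.toMonoidHom).ker = 2 := by
    have h1 := Subgroup.card_mul_index ((S1684.piH hK).comp e.toMonoidHom).ker
    rw [Subgroup.index_ker, MonoidHom.range_eq_top.2 hs, Subgroup.card_top,
      U62Iso.card_PSU hK, hcard] at h1
    omega
  have h2 : ∀ L : Subgroup Y, L.index ≠ 2 := by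
    intro L hL
    apply S1684.no2_H (L.comap e.symm.toMonoidHom)
    rw [Subgroup.index_comap_of_surjective _ e.symm.surjective]
    exact hL
  exact isNonsplitDoubleCover_of_surjective _ hs hk (U62Iso.center_PSU hK) h2

/-- The Fischer group of order 64561751654400 exists as a 3-transposition group: a simple group of that order generated by a conjugacy class of 3510 3-transpositions, the centraliser of each being a non-split double cover of PSU(6, 2). -/
theorem result : ∃ (G : Type) (_ : Group G) (_ : Finite G), Cfsg.IsFi22 G ∧ ∃ D : Set G, Cfsg.IsThreeTranspositionClass D ∧ Nat.card D = 3510 ∧ ∀ d ∈ D, ∃ (F : Type) (_ : Field F) (_ : Fintype F), Fintype.card F = 4 ∧ Cfsg.IsNonsplitDoubleCover (Subgroup.centralizer ({d} : Set G)) (Cfsg.PSU 6 F 2) := by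
  refine ⟨G, inferInstance, finG, S1696.result, D, ⟨isTT, ⟨z, mem_conjugatesOf_self, rfl⟩, closure_D⟩,
    card_D, ?_⟩
  intro d hd
  obtain ⟨a, rfl⟩ := mem_D.1 hd
  refine ⟨F4, inferInstance, inferInstance, F4.card, ?_⟩
  exact main' ((conjEquiv a z).trans (MulEquiv.subgroupCongr cent_z)) F4.card

end Cfsg.Agent.S0471
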