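import Mathlib
import Cfsg.Statements.S1688
import Cfsg.Agent.S1696
import Cfsg.Agent.S1697
import Cfsg.Agent.Lib.Helper9.DoubleCover

set_option autoImplicit false
set_option maxRecDepth 1000000
open Cfsg

namespace Cfsg.Agent.S1688

open Cfsg.Agent.Helper9 Cfsg.Agent.Helper9.TC2 Cfsg.Agent.Helper9.TCData Cfsg.Spor

/-- The group presented on nine generators by the relators of Fi23 not involving j. -/
abbrev P1 : Type := PresentedGroup (relSet Fi23C1.edges Fi23C1.extra)

/-- The presented group Fi23. -/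
abbrev G23 : Type := PresentedGroup (relSet Fi23C0.edges Fi23C0.extra)

/-- The presented group Fi22. -/
abbrev G22 : Type := PresentedGroup (relSet Fi22.edges Fi22.extra)

/-- The generators of Fi22, in order. -/
def iota22 : Fin 9 → Fi22.Gen := ![.a, .b, .c, .d, .e, .f, .g, .h, .i]

theorem sub22 : SubPres Fi22.edges Fi22.extra Fi23C1.edges Fi23C1.extra iota22 :=
  ⟨by decide +kernel, by decide +kernel⟩

theorem cardP1 : Finite P1 ∧ Nat.card P1 ≤ 129123503308800 := by
  have h4 := Fi23C4.cert.card_eq_of_empty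
  have hH3 := card_coxH_le S1697.sub4 rfl h4.1 (le_of_eq h4.2)
  have h3 := Fi23C3.cert.card_le hH3.1 hH3.2
  have hH2 := card_coxH_le S1697.sub3 rfl h3.1 h3.2
  have h2 := Fi23C2.cert.card_le hH2.1 hH2.2
  have hH1 := card_coxH_le S1697.sub2 rfl h2.1 h2.2
  have h1 := Fi23C1.cert.card_le hH1.1 hH1.2
  refine ⟨h1.1, h1.2.trans ?_⟩
  rw [Fi23C1.cert_n, Fi23C2.cert_n, Fi23C3.cert_n, Fi23C4.cert_n]

/-- The subgroup generated by a, …, i. -/
abbrev H : Subgroup G23 :=
  coxH Fi23C0.edges Fi23C0.extra (Set.range fun b : Fin 9 => FreeGroup.of (Fi23C0.iota b))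

theorem cardG : Nat.card G23 = 4089470473293004800 := S1697.result.2

theorem finG : Finite G23 := S1697.hub.1

theorem cardH : Nat.card H = 129123503308800 := by
  have h1 : H.index = 31671 := Fi23C0.cert.index_eq
  have h2 := Subgroup.card_mul_index H
  rw [h1, cardG] at h2
  omega

/-- The homomorphism onto the subgroup. -/
noncomputable def phi : P1 →* G23 := subPresHom S1697.sub1

theorem phi_range : phi.range = H := subPresHom_range S1697.sub1

theorem phi_bij : Function.Bijective phi.rangeRestrict := by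
  have hfin : Finite P1 := cardP1.1
  have hs : Function.Surjective phi.rangeRestrict := phi.rangeRestrict_surjective
  have hcard : Nat.card P1 = Nat.card phi.range := by
    apply le_antisymm
    · rw [phi_range, cardH]
      exact cardP1.2
    · exact Nat.card_le_card_of_surjective _ hs
  rw [Nat.bijective_iff_surjective_and_card]
  exact ⟨hs, hcard⟩

/-- The isomorphism with the subgroup. -/
noncomputable def eqv : P1 ≃* H :=
  (MulEquiv.ofBijective phi.rangeRestrict phi_bij).trans (MulEquiv.subgroupCongr phi_range)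

/-- The homomorphism onto Fi22. -/
noncomputable def pi22 : P1 →* G22 := subPresHom sub22

theorem pi22_surj : Function.Surjective pi22 := by
  rw [← MonoidHom.range_eq_top]
  unfold pi22
  rw [subPresHom_range sub22]
  have h : Subgroup.closure (Set.range fun b : Fin 9 => FreeGroup.of (iota22 b)) = ⊤ := by
    rw [eq_top_iff, ← FreeGroup.closure_range_of]
    apply Subgroup.closure_mono
    rintro _ ⟨x, rfl⟩
    cases x
    · exact ⟨0, rfl⟩
    · exact ⟨1, rfl⟩
    · exact ⟨2, rfl⟩
    · exact ⟨3, rfl⟩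
    · exact ⟨4, rfl⟩
    · exact ⟨5, rfl⟩
    · exact ⟨6, rfl⟩
    · exact ⟨7, rfl⟩
    · exact ⟨8, rfl⟩
  show (Subgroup.closure (Set.range fun b : Fin 9 => FreeGroup.of (iota22 b))).map
    (PresentedGroup.mk (relSet Fi22.edges Fi22.extra)) = ⊤
  rw [h, ← MonoidHom.range_eq_map, MonoidHom.range_eq_top]
  exact PresentedGroup.mk_surjective _

theorem center22 : Subgroup.center G22 = ⊥ := by
  have hs : IsSimpleGroup G22 := S1696.result.1
  have hc : Nat.card G22 = 64561751654400 := S1696.result.2
  have hn : (Subgroup.center G22).Normal := inferInstance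
  rcases hn.eq_bot_or_eq_top with h | h
  · exact h
  · exfalso
    have hp := @IsSimpleGroup.prime_card G22 (Group.commGroupOfCenterEqTop h) hs
    rw [hc] at hp
    exact absurd hp (by norm_num)

/-- The homomorphism from the subgroup onto Fi22. -/
noncomputable def piH : H →* G22 := pi22.comp eqv.symm.toMonoidHom

theorem piH_surj : Function.Surjective piH := by
  intro y
  obtain ⟨x, rfl⟩ := pi22_surj y
  exact ⟨eqv x, by simp [piH]⟩

theorem ker_card : Nat.card piH.ker = 2 := by
  have h1 := Subgroup.card_mul_index piH.ker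
  rw [Subgroup.index_ker, MonoidHom.range_eq_top.2 piH_surj, Subgroup.card_top] at h1
  have h2 : Nat.card G22 = 64561751654400 := S1696.result.2
  rw [h2, cardH] at h1
  have h3 : Nat.card piH.ker * 64561751654400 = 2 * 64561751654400 := by rw [h1]
  exact Nat.eq_of_mul_eq_mul_right (by norm_num) h3

section NoIndexTwo

variable {Q : Type} [Group Q] (f : P1 →* Q) (hQ : ∀ q : Q, q ^ 2 = 1)

include hQ

theorem edge_eq (x y : Fin 9) (hx : x ∈ coxNodes Fi23C1.edges) (hy : y ∈ coxNodes Fi23C1.edges)
    (hl : coxLabel Fi23C1.edges x y = 3) :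
    f (PresentedGroup.of x) = f (PresentedGroup.of y) := by
  have hrel : (PresentedGroup.of x * PresentedGroup.of y : P1) ^ 3 = 1 := by
    have hm : (FreeGroup.of x * FreeGroup.of y) ^ 3 ∈ relSet Fi23C1.edges Fi23C1.extra := by
      left
      exact ⟨x, hx, y, hy, by rw [hl]⟩
    have h := PresentedGroup.one_of_mem hm
    rw [map_pow, map_mul] at h
    exact h
  have h3 : (f (PresentedGroup.of x) * f (PresentedGroup.of y)) ^ 3 = 1 := by
    rw [← map_mul, ← map_pow, hrel, map_one]
  have h2 := hQ (f (PresentedGroup.of x) * f (PresentedGroup.of y))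
  have h1 : f (PresentedGroup.of x) * f (PresentedGroup.of y) = 1 := by
    have h4 := pow_succ (f (PresentedGroup.of x) * f (PresentedGroup.of y)) 2
    rw [h2, one_mul, h3] at h4
    exact h4.symm
  have hy2 := hQ (f (PresentedGroup.of y))
  have h5 : f (PresentedGroup.of y) * f (PresentedGroup.of y) = 1 := by
    rw [← pow_two]
    exact hy2
  exact mul_right_cancel (h1.trans h5.symm)

theorem all_eq (x : Fin 9) : f (PresentedGroup.of x) = f (PresentedGroup.of (0 : Fin 9)) := by
  have e01 := edge_eq f hQ 0 1 (by decide) (by decide) (by decide)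
  have e12 := edge_eq f hQ 1 2 (by decide) (by decide) (by decide)
  have e23 := edge_eq f hQ 2 3 (by decide) (by decide) (by decide)
  have e34 := edge_eq f hQ 3 4 (by decide) (by decide) (by decide)
  have e45 := edge_eq f hQ 4 5 (by decide) (by decide) (by decide)
  have e56 := edge_eq f hQ 5 6 (by decide) (by decide) (by decide)
  have e37 := edge_eq f hQ 3 7 (by decide) (by decide) (by decide)
  have e78 := edge_eq f hQ 7 8 (by decide) (by decide) (by decide)
  fin_cases x
  · rfl
  · exact e01.symm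
  · exact (e01.trans e12).symm
  · exact (e01.trans (e12.trans e23)).symm
  · exact (e01.trans (e12.trans (e23.trans e34))).symm
  · exact (e01.trans (e12.trans (e23.trans (e34.trans e45)))).symm
  · exact (e01.trans (e12.trans (e23.trans (e34.trans (e45.trans e56))))).symm
  · exact (e01.trans (e12.trans (e23.trans e37))).symm
  · exact (e01.trans (e12.trans (e23.trans (e37.trans e78)))).symm

theorem gen_eq_one (x : Fin 9) : f (PresentedGroup.of x) = 1 := by
  set t := f (PresentedGroup.of (0 : Fin 9)) with ht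
  have hall := all_eq f hQ
  have ht2 : t * t = 1 := by
    rw [← pow_two]
    exact hQ t
  have htinv : t⁻¹ = t := inv_eq_of_mul_eq_one_left ht2
  -- the relator of odd length
  let r : FreeGroup (Fin 9) := Fi23C1.extra.getD 1 1
  have hr : r ∈ relSet Fi23C1.edges Fi23C1.extra := by
    right
    show r ∈ Fi23C1.extra
    decide +kernel
  have h1 : (f.comp (PresentedGroup.mk (relSet Fi23C1.edges Fi23C1.extra))) r = 1 := by
    rw [MonoidHom.comp_apply, PresentedGroup.one_of_mem hr, map_one]
  rw [hom_eq_prod] at h1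
  have h2 : ∀ y ∈ r.toWord.map (fun p => (f.comp (PresentedGroup.mk
      (relSet Fi23C1.edges Fi23C1.extra))) (FreeGroup.mk [p])), y = t := by
    intro y hy
    rw [List.mem_map] at hy
    obtain ⟨⟨z, b⟩, -, rfl⟩ := hy
    cases b
    · have : (FreeGroup.mk [(z, false)] : FreeGroup (Fin 9)) = (FreeGroup.of z)⁻¹ := rfl
      rw [this, map_inv, MonoidHom.comp_apply]
      have h3 : f (PresentedGroup.mk _ (FreeGroup.of z)) = t := hall z
      rw [h3, htinv]
    · have : (FreeGroup.mk [(z, true)] : FreeGroup (Fin 9)) = FreeGroup.of z := rfl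
      rw [this, MonoidHom.comp_apply]
      exact hall z
  rw [List.prod_eq_pow_card _ t h2, List.length_map] at h1
  have hlen : r.toWord.length = 63 := by decide +kernel
  rw [hlen] at h1
  have h63 : t ^ 63 = t := by
    rw [show 63 = 2 * 31 + 1 from rfl, pow_succ, pow_mul, hQ t, one_pow, one_mul]
  rw [hall x]
  show t = 1
  rw [← h63]
  exact h1

end NoIndexTwo

theorem no2_P1 : ∀ L : Subgroup P1, L.index ≠ 2 := by
  apply no_index_two_of_gens
    (Set.range (PresentedGroup.of (rels := relSet Fi23C1.edges Fi23C1.extra)))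
    (PresentedGroup.closure_range_of _)
  intro Q _ f hQ s hs
  obtain ⟨i, rfl⟩ := hs
  exact gen_eq_one f hQ i

theorem no2_H : ∀ L : Subgroup H, L.index ≠ 2 := by
  intro L hL
  apply no2_P1 (L.comap eqv.toMonoidHom)
  rw [Subgroup.index_comap_of_surjective _ eqv.surjective]
  exact hL

/-- Every group isomorphic to the subgroup is a non-split double cover. -/
theorem main' {X : Type} [Group X] (e : X ≃* H) : IsNonsplitDoubleCover X G22 := by
  have hs : Function.Surjective (piH.comp e.toMonoidHom) := piH_surj.comp e.surjective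
  have hcard : Nat.card X = 129123503308800 := by
    rw [Nat.card_congr e.toEquiv, cardH]
  have hk : Nat.card (piH.comp e.toMonoidHom).ker = 2 := by
    have h1 := Subgroup.card_mul_index (piH.comp e.toMonoidHom).ker
    rw [Subgroup.index_ker, MonoidHom.range_eq_top.2 hs, Subgroup.card_top] at h1
    have h2 : Nat.card G22 = 64561751654400 := S1696.result.2
    rw [h2, hcard] at h1
    have h3 : Nat.card (piH.comp e.toMonoidHom).ker * 64561751654400 = 2 * 64561751654400 := by
      rw [h1]
    exact Nat.eq_of_mul_eq_mul_right (by norm_num) h3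
  have h2 : ∀ L : Subgroup X, L.index ≠ 2 := by
    intro L hL
    apply no2_H (L.comap e.symm.toMonoidHom)
    rw [Subgroup.index_comap_of_surjective _ e.symm.surjective]
    exact hL
  exact isNonsplitDoubleCover_of_surjective _ hs hk center22 h2

theorem main : IsNonsplitDoubleCover H G22 := main' (MulEquiv.refl _)

theorem hset : ({Cfsg.Spor.Fi23.a, Cfsg.Spor.Fi23.b, Cfsg.Spor.Fi23.c, Cfsg.Spor.Fi23.d,
    Cfsg.Spor.Fi23.e, Cfsg.Spor.Fi23.f, Cfsg.Spor.Fi23.g, Cfsg.Spor.Fi23.h, Cfsg.Spor.Fi23.i} :
    Set (FreeGroup Cfsg.Spor.Fi23.Gen)) =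
    Set.range fun b : Fin 9 => FreeGroup.of (Fi23C0.iota b) := by
  ext s
  constructor
  · rintro (rfl | rfl | rfl | rfl | rfl | rfl | rfl | rfl | rfl)
    · exact ⟨0, rfl⟩
    · exact ⟨1, rfl⟩
    · exact ⟨2, rfl⟩
    · exact ⟨3, rfl⟩
    · exact ⟨4, rfl⟩
    · exact ⟨5, rfl⟩
    · exact ⟨6, rfl⟩
    · exact ⟨7, rfl⟩
    · exact ⟨8, rfl⟩
  · rintro ⟨b, rfl⟩
    fin_cases b
    · exact Or.inl rfl
    · exact Or.inr (Or.inl rfl)
    · exact Or.inr (Or.inr (Or.inl rfl))
    · exact Or.inr (Or.inr (Or.inr (Or.inl rfl)))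
    · exact Or.inr (Or.inr (Or.inr (Or.inr (Or.inl rfl))))
    · exact Or.inr (Or.inr (Or.inr (Or.inr (Or.inr (Or.inl rfl)))))
    · exact Or.inr (Or.inr (Or.inr (Or.inr (Or.inr (Or.inr (Or.inl rfl))))))
    · exact Or.inr (Or.inr (Or.inr (Or.inr (Or.inr (Or.inr (Or.inr (Or.inl rfl)))))))
    · exact Or.inr (Or.inr (Or.inr (Or.inr (Or.inr (Or.inr (Or.inr (Or.inr rfl)))))))

/-- In the presented Fischer group Fi23, the subgroup generated by a, b, c, d, e, f, g, h, i is a non-split double cover of the presented Fischer group Fi22. -/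
theorem result : Cfsg.IsNonsplitDoubleCover (((Subgroup.closure ({Cfsg.Spor.Fi23.a, Cfsg.Spor.Fi23.b, Cfsg.Spor.Fi23.c, Cfsg.Spor.Fi23.d, Cfsg.Spor.Fi23.e, Cfsg.Spor.Fi23.f, Cfsg.Spor.Fi23.g, Cfsg.Spor.Fi23.h, Cfsg.Spor.Fi23.i} : Set (FreeGroup Cfsg.Spor.Fi23.Gen))).map (PresentedGroup.mk (Cfsg.Spor.coxRelators Cfsg.Spor.Fi23.edges ∪ {r | r ∈ Cfsg.Spor.Fi23.extra})))) Cfsg.Spor.Fi22 := by
  rw [hset]
  exact main

end Cfsg.Agent.S1688
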