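import Mathlib
import Cfsg.Statements.S0472
import Cfsg.Agent.S1688
import Cfsg.Agent.Lib.Helper9.TC2Word

set_option autoImplicit false
set_option maxRecDepth 1000000
open Cfsg

namespace Cfsg.Agent.S0472

open Cfsg.Agent.Helper9 Cfsg.Agent.Helper9.TC2 Cfsg.Agent.Helper9.TCData Cfsg.Spor

/-- The presented group Fi23. -/
abbrev G : Type := S1688.G23

/-- The subgroup generated by a, …, i. -/
abbrev H : Subgroup G := S1688.H

theorem finG : Finite G := S1697.hub.1

theorem simpleG : IsSimpleGroup G := S1697.result.1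

theorem cardG : Nat.card G = 4089470473293004800 := S1697.result.2

theorem centerG : Subgroup.center G = ⊥ := by
  have hs : IsSimpleGroup G := simpleG
  have hn : (Subgroup.center G).Normal := inferInstance
  rcases hn.eq_bot_or_eq_top with h | h
  · exact h
  · exfalso
    have hp := @IsSimpleGroup.prime_card G (Group.commGroupOfCenterEqTop h) hs
    rw [cardG] at hp
    exact absurd hp (by norm_num)

/-- The base points. -/
def pts : List ℕ := CoxCert.levPts Fi23C0.levs []

theorem hPS : Fi23C0.cert.PS pts = ⊥ := by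
  have hfin : Finite (PresentedGroup (relSet Fi23C0.edges Fi23C0.extra)) := finG
  exact Fi23C0.cert.PS_base_eq_bot (Fi23C0.tab.k + Fi23C0.slp.length) Fi23C0.lidx Fi23C0.lpar
    Fi23C0.lgi (Fi23C0.cert.exists_elt Fi23C0.slp S1697.hslp Fi23C0.hSlp) Fi23C0.levs S1697.hok
    (cardG.trans S1697.hprod.symm)

theorem hpts : ∀ b ∈ pts, b < Fi23C0.cert.D.n := by decide +kernel

/-- A word which fixes the base points is trivial. -/
theorem wordOne (x : FreeGroup Fi23.Gen)
    (hx : ∀ b ∈ pts, runT Fi23C0.cert.D (colWord Fi23C0.cert.cols x) b = b) :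
    (PresentedGroup.mk (relSet Fi23C0.edges Fi23C0.extra) x : G) = 1 :=
  Fi23C0.cert.mk_eq_one_of_base pts hPS hpts x hx

/-- The word of the central involution of the subgroup. -/
def zF : FreeGroup Fi23.Gen :=
  (Fi23.b * Fi23.c * Fi23.d * Fi23.e * Fi23.f * Fi23.g * Fi23.h) ^ 9

/-- The central involution of the subgroup. -/
noncomputable def z : G := PresentedGroup.mk (relSet Fi23C0.edges Fi23C0.extra) zF

theorem z_ne_one : z ≠ 1 := by
  apply Fi23C0.cert.mk_ne_one_of_moves zF (i := 1) (by decide)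
  decide +kernel

theorem z_sq : z * z = 1 := by
  have h := wordOne (zF * zF) (by decide +kernel)
  rw [map_mul] at h
  exact h

theorem z_inv : z⁻¹ = z := inv_eq_of_mul_eq_one_left z_sq

theorem z_comm_gen (b : Fin 9) :
    (PresentedGroup.mk (relSet Fi23C0.edges Fi23C0.extra) (FreeGroup.of (Fi23C0.iota b)) : G) * z =
      z * PresentedGroup.mk (relSet Fi23C0.edges Fi23C0.extra) (FreeGroup.of (Fi23C0.iota b)) := by
  have h : ∀ b : Fin 9, (PresentedGroup.mk (relSet Fi23C0.edges Fi23C0.extra)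
      (FreeGroup.of (Fi23C0.iota b) * zF * (FreeGroup.of (Fi23C0.iota b))⁻¹ * zF⁻¹) : G) = 1 := by
    intro b
    apply wordOne
    revert b
    decide +kernel
  have h1 := h b
  rw [map_mul, map_mul, map_mul, map_inv, map_inv] at h1
  have h2 := mul_inv_eq_one.1 h1
  have h3 := mul_inv_eq_iff_eq_mul.1 h2
  exact h3

theorem H_le : H ≤ Subgroup.centralizer {z} := by
  show (Subgroup.closure (Set.range fun b : Fin 9 => FreeGroup.of (Fi23C0.iota b))).map
    (PresentedGroup.mk (relSet Fi23C0.edges Fi23C0.extra)) ≤ _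
  rw [Subgroup.map_le_iff_le_comap, Subgroup.closure_le]
  rintro _ ⟨b, rfl⟩
  show PresentedGroup.mk _ _ ∈ Subgroup.centralizer {z}
  rw [Subgroup.mem_centralizer_iff]
  intro y hy
  rw [Set.mem_singleton_iff] at hy
  subst hy
  exact (z_comm_gen b).symm

theorem H_max : ∀ K : Subgroup G, H ≤ K → K = H ∨ K = ⊤ :=
  Fi23C0.cert.maximal Fi23C0.orb Fi23C0.hO1 Fi23C0.hO2 3 0 [1, 28160, 3510] S1697.hlab S1697.hroot
    S1697.hsz (by decide +kernel) (by decide) (by decide) S1697.hsub

theorem cent_z : Subgroup.centralizer {z} = H := by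
  rcases H_max _ H_le with h | h
  · exact h
  · exfalso
    have h1 : z ∈ Subgroup.center G := by
      rw [Subgroup.mem_center_iff]
      intro g
      have h2 : g ∈ Subgroup.centralizer {z} := by rw [h]; exact Subgroup.mem_top g
      rw [Subgroup.mem_centralizer_iff] at h2
      exact (h2 z rfl).symm
    rw [centerG, Subgroup.mem_bot] at h1
    exact z_ne_one h1

/-- The class of 3-transpositions. -/
def D : Set G := conjugatesOf z

theorem mem_D {d : G} : d ∈ D ↔ ∃ a : G, a * z * a⁻¹ = d := by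
  unfold D conjugatesOf
  rw [Set.mem_setOf_eq, isConj_iff]

theorem card_D : Nat.card D = 31671 := by
  have h1 : MulAction.orbit (ConjAct G) z = D := by
    rw [ConjAct.orbit_eq_carrier_conjClasses]
    ext d
    unfold D conjugatesOf
    rw [ConjClasses.mem_carrier_iff_mk_eq, ConjClasses.mk_eq_mk_iff_isConj, Set.mem_setOf_eq,
      isConj_comm]
  have h2 : (Subgroup.centralizer {z}).index =
      (MulAction.stabilizer (ConjAct G) z).index := by
    rw [Subgroup.centralizer_eq_comap_stabilizer]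
    exact Subgroup.index_comap_of_surjective _ ConjAct.toConjAct.surjective
  have h3 := MulAction.index_stabilizer (G := ConjAct G) (x := z)
  rw [← h2, cent_z, h1] at h3
  have h4 : H.index = 31671 := Fi23C0.cert.index_eq
  rw [h4] at h3
  rw [Nat.card_coe_set_eq]
  exact h3.symm

/-- Representatives of the double cosets. -/
noncomputable def X : ℕ → G
  | 1 => PresentedGroup.mk (relSet Fi23C0.edges Fi23C0.extra) Fi23.j
  | 2 => PresentedGroup.mk (relSet Fi23C0.edges Fi23C0.extra)
      (Fi23.j * Fi23.g * Fi23.f * Fi23.e * Fi23.d * Fi23.h * Fi23.c * Fi23.d * Fi23.e * Fi23.f *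
        Fi23.g * Fi23.j)
  | _ => 1

theorem hX : ∀ l < 3, Fi23C0.orb.lab (Fi23C0.cert.phi (X l) 0) = l := by
  intro l hl
  have hn0 : 0 < Fi23C0.cert.D.n := Fi23C0.cert.hn0
  interval_cases l
  · show Fi23C0.orb.lab (Fi23C0.cert.phi 1 0) = 0
    rw [map_one]
    show Fi23C0.orb.lab 0 = 0
    decide +kernel
  · show Fi23C0.orb.lab (Fi23C0.cert.phi (PresentedGroup.mk _ Fi23.j) 0) = 1
    rw [(Fi23C0.cert.phi_mk_apply _ hn0).1]
    decide +kernel
  · show Fi23C0.orb.lab (Fi23C0.cert.phi (PresentedGroup.mk _ (Fi23.j * Fi23.g * Fi23.f * Fi23.e *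
      Fi23.d * Fi23.h * Fi23.c * Fi23.d * Fi23.e * Fi23.f * Fi23.g * Fi23.j)) 0) = 2
    rw [(Fi23C0.cert.phi_mk_apply _ hn0).1]
    decide +kernel

theorem hrel : ∀ l < 3, (z * X l * z * (X l)⁻¹) ^ 2 = 1 ∨ (z * X l * z * (X l)⁻¹) ^ 3 = 1 := by
  intro l hl
  interval_cases l
  · left
    show (z * 1 * z * 1⁻¹) ^ 2 = 1
    rw [mul_one, inv_one, mul_one, z_sq, one_pow]
  · right
    have h := wordOne ((zF * Fi23.j * zF * Fi23.j⁻¹) ^ 3) (by decide +kernel)
    rw [map_pow, map_mul, map_mul, map_mul, map_inv] at h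
    exact h
  · left
    have h := wordOne ((zF * (Fi23.j * Fi23.g * Fi23.f * Fi23.e * Fi23.d * Fi23.h * Fi23.c *
      Fi23.d * Fi23.e * Fi23.f * Fi23.g * Fi23.j) * zF * (Fi23.j * Fi23.g * Fi23.f * Fi23.e *
      Fi23.d * Fi23.h * Fi23.c * Fi23.d * Fi23.e * Fi23.f * Fi23.g * Fi23.j)⁻¹) ^ 2)
      (by decide +kernel)
    rw [map_pow, map_mul, map_mul, map_mul, map_inv] at h
    exact h

theorem comm_of_mem {h : G} (hh : h ∈ H) : h * z = z * h := by
  have := H_le hh
  rw [Subgroup.mem_centralizer_iff] at this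
  exact (this z rfl).symm

theorem three_transp (g : G) :
    (z * (g * z * g⁻¹)) ^ 2 = 1 ∨ (z * (g * z * g⁻¹)) ^ 3 = 1 := by
  obtain ⟨l, hl, h, hh, h', hh', rfl⟩ := Fi23C0.cert.double_coset Fi23C0.orb Fi23C0.hO1 Fi23C0.hO2
    3 S1697.hlab S1697.hroot X hX g
  have c1 := comm_of_mem hh
  have c2 := comm_of_mem hh'
  have c2' : h' * z * h'⁻¹ = z := by rw [c2, mul_assoc, mul_inv_cancel, mul_one]
  have e : z * (h * X l * h' * z * (h * X l * h')⁻¹) = h * (z * X l * z * (X l)⁻¹) * h⁻¹ := by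
    have e1 : h * X l * h' * z * (h * X l * h')⁻¹ = h * (X l * (h' * z * h'⁻¹) * (X l)⁻¹) * h⁻¹ := by
      group
    rw [e1, c2', ← mul_assoc, ← mul_assoc, ← c1]
    group
  rw [e]
  have hpow : ∀ k : ℕ, (h * (z * X l * z * (X l)⁻¹) * h⁻¹) ^ k =
      h * (z * X l * z * (X l)⁻¹) ^ k * h⁻¹ := fun k => conj_pow
  rcases hrel l hl with h2 | h3
  · left
    rw [hpow, h2, mul_one, mul_inv_cancel]
  · right
    rw [hpow, h3, mul_one, mul_inv_cancel]

theorem isTT : IsThreeTranspositionSet D := by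
  constructor
  · intro d hd
    obtain ⟨a, rfl⟩ := mem_D.1 hd
    have h1 : orderOf z = 2 := by
      apply orderOf_eq_prime
      · rw [pow_two]; exact z_sq
      · exact z_ne_one
    have h2 : a * z * a⁻¹ = MulAut.conj a z := rfl
    rw [h2, MulEquiv.orderOf_eq]  -- order of image under the automorphism
    exact h1
  · intro d hd e he
    obtain ⟨a, rfl⟩ := mem_D.1 hd
    obtain ⟨b, rfl⟩ := mem_D.1 he
    have key : a * z * a⁻¹ * (b * z * b⁻¹) = a * (z * ((a⁻¹ * b) * z * (a⁻¹ * b)⁻¹)) * a⁻¹ := by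
      group
    have hpow : ∀ k : ℕ, (a * (z * ((a⁻¹ * b) * z * (a⁻¹ * b)⁻¹)) * a⁻¹) ^ k =
        a * (z * ((a⁻¹ * b) * z * (a⁻¹ * b)⁻¹)) ^ k * a⁻¹ := fun k => conj_pow
    rw [key, hpow, hpow]
    rcases three_transp (a⁻¹ * b) with h | h
    · left
      rw [h, mul_one, mul_inv_cancel]
    · right
      rw [h, mul_one, mul_inv_cancel]

theorem closure_D : Subgroup.closure D = ⊤ := by
  have hs : IsSimpleGroup G := simpleG
  have h1 : Subgroup.closure D = Subgroup.normalClosure {z} := by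
    unfold Subgroup.normalClosure D
    congr 1
    ext x
    simp [Group.conjugatesOfSet]
  have hn : (Subgroup.normalClosure ({z} : Set G)).Normal := Subgroup.normalClosure_normal
  rcases hn.eq_bot_or_eq_top with h | h
  · exfalso
    have : z ∈ Subgroup.normalClosure ({z} : Set G) :=
      Subgroup.subset_normalClosure (Set.mem_singleton z)
    rw [h, Subgroup.mem_bot] at this
    exact z_ne_one this
  · rw [h1, h]

/-- Conjugation between centralizers. -/
def conjEquiv (a y : G) : Subgroup.centralizer {a * y * a⁻¹} ≃* Subgroup.centralizer {y} where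
  toFun x := ⟨a⁻¹ * x * a, by
    have hx := x.2
    rw [Subgroup.mem_centralizer_iff] at hx ⊢
    intro w hw
    rw [Set.mem_singleton_iff] at hw
    subst hw
    have h1 := hx (a * w * a⁻¹) rfl
    have h2 : w * (a⁻¹ * (x : G) * a) = a⁻¹ * ((a * w * a⁻¹) * x) * a := by group
    have h3 : a⁻¹ * (x : G) * a * w = a⁻¹ * (x * (a * w * a⁻¹)) * a := by group
    rw [h2, h3, h1]⟩
  invFun x := ⟨a * x * a⁻¹, by
    have hx := x.2
    rw [Subgroup.mem_centralizer_iff] at hx ⊢
    intro w hw
    rw [Set.mem_singleton_iff] at hw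
    subst hw
    have h1 := hx y rfl
    have h2 : a * y * a⁻¹ * (a * (x : G) * a⁻¹) = a * (y * x) * a⁻¹ := by group
    have h3 : a * (x : G) * a⁻¹ * (a * y * a⁻¹) = a * (x * y) * a⁻¹ := by group
    rw [h2, h3, h1]⟩
  left_inv x := by
    apply Subtype.ext
    show a * (a⁻¹ * (x : G) * a) * a⁻¹ = x
    group
  right_inv x := by
    apply Subtype.ext
    show a⁻¹ * (a * (x : G) * a⁻¹) * a = x
    group
  map_mul' x x' := by
    apply Subtype.ext
    show a⁻¹ * ((x : G) * x') * a = a⁻¹ * x * a * (a⁻¹ * x' * a)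
    group

/-- There is a simple group of order 4089470473293004800 generated by a conjugacy class of 31671 3-transpositions, each of whose centralisers is a non-split double cover of a simple group of order 64561751654400. -/
theorem result : ∃ (G : Type) (_ : Group G) (_ : Finite G), Cfsg.IsFi23 G ∧ ∃ D : Set G, Cfsg.IsThreeTranspositionClass D ∧ Nat.card D = 31671 ∧ ∀ d ∈ D, ∃ (K : Type) (_ : Group K), Cfsg.IsFi22 K ∧ Cfsg.IsNonsplitDoubleCover (Subgroup.centralizer ({d} : Set G)) K := by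
  refine ⟨G, inferInstance, finG, S1697.result, D, ⟨isTT, ⟨z, mem_conjugatesOf_self, rfl⟩, closure_D⟩,
    card_D, ?_⟩
  intro d hd
  obtain ⟨a, rfl⟩ := mem_D.1 hd
  refine ⟨S1688.G22, inferInstance, S1696.result, ?_⟩
  exact S1688.main' ((conjEquiv a z).trans (MulEquiv.subgroupCongr cent_z))

end Cfsg.Agent.S0472
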