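import Mathlib
import Cfsg.Statements.S0481
import Cfsg.Agent.S0443

set_option autoImplicit false
open Cfsg

namespace Cfsg.Agent.S0481

open scoped Pointwise in
/-- Large extraspecial subgroups: let z be an involution of a finite group G whose centraliser C contains a normal 2-subgroup Q with centre of order 2 and all squares central, such that every element of G centralising Q lies in Q. Then C contains a Sylow 2-subgroup of G, and any involution of G whose centraliser contains a Sylow 2-subgroup of G is conjugate to z. -/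
theorem result {G : Type*} [Group G] [Finite G] (z : G) (hz : orderOf z = 2) (Q : Subgroup G) (hQC : Q ≤ Subgroup.centralizer ({z} : Set G)) (hQn : ∀ g ∈ Subgroup.centralizer ({z} : Set G), ∀ q ∈ Q, g * q * g⁻¹ ∈ Q) (hQ2 : IsPGroup 2 Q) (hZ : Nat.card (Subgroup.center Q) = 2) (hsq : ∀ x : Q, x ^ 2 ∈ Subgroup.center Q) (hlarge : Subgroup.centralizer (Q : Set G) ≤ Q) : (∃ P : Sylow 2 G, (P : Subgroup G) ≤ Subgroup.centralizer ({z} : Set G)) ∧ ∀ u : G, orderOf u = 2 → (∃ P : Sylow 2 G, (P : Subgroup G) ≤ Subgroup.centralizer ({u} : Set G)) → IsConj z u := by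
  have : Fact (Nat.Prime 2) := ⟨Nat.prime_two⟩
  have hz1 : z ≠ 1 := by
    intro h; rw [h, orderOf_one] at hz; omega
  -- z commutes with all of Q
  have hzQ : ∀ q ∈ Q, q * z = z * q := by
    intro q hq
    have := hQC hq
    rw [Subgroup.mem_centralizer_iff] at this
    exact (this z rfl).symm
  have hzmemQ : z ∈ Q := by
    apply hlarge
    rw [Subgroup.mem_centralizer_iff]
    intro q hq
    exact hzQ q hq
  -- any nonidentity element of Q commuting with Q is z
  have hcenter : ∀ c ∈ Q, c ≠ 1 → (∀ q ∈ Q, q * c = c * q) → c = z := by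
    intro c hc hc1 hcomm
    obtain ⟨y, _, hy⟩ := (Nat.card_eq_two_iff' (1 : Subgroup.center Q)).mp hZ
    have hzc : (⟨z, hzmemQ⟩ : Q) ∈ Subgroup.center Q := by
      rw [Subgroup.mem_center_iff]
      rintro ⟨q, hq⟩
      apply Subtype.ext
      exact hzQ q hq
    have hcc : (⟨c, hc⟩ : Q) ∈ Subgroup.center Q := by
      rw [Subgroup.mem_center_iff]
      rintro ⟨q, hq⟩
      apply Subtype.ext
      exact hcomm q hq
    have e1 : (⟨⟨z, hzmemQ⟩, hzc⟩ : Subgroup.center Q) = y := by
      apply hy
      intro h
      apply hz1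
      have := congrArg (fun t : Subgroup.center Q => ((t : Q) : G)) h
      simpa using this
    have e2 : (⟨⟨c, hc⟩, hcc⟩ : Subgroup.center Q) = y := by
      apply hy
      intro h
      apply hc1
      have := congrArg (fun t : Subgroup.center Q => ((t : Q) : G)) h
      simpa using this
    have := e2.trans e1.symm
    have := congrArg (fun t : Subgroup.center Q => ((t : Q) : G)) this
    simpa using this
  obtain ⟨P, hQP⟩ := hQ2.exists_le_sylow
  -- any nonidentity element of P central in P is z
  have hcenterP : ∀ c ∈ P, c ≠ 1 → (∀ x ∈ P, x * c = c * x) → c = z := by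
    intro c hc hc1 hcomm
    have hcQ : c ∈ Q := by
      apply hlarge
      rw [Subgroup.mem_centralizer_iff]
      intro q hq
      exact hcomm q (hQP hq)
    exact hcenter c hcQ hc1 (fun q hq => hcomm q (hQP hq))
  have hzP : z ∈ P := hQP hzmemQ
  -- z is central in P
  have hzcentral : ∀ x ∈ P, x * z = z * x := by
    have : Nontrivial (P : Subgroup G) := ⟨⟨⟨z, hzP⟩, 1, fun h => hz1 (congrArg Subtype.val h)⟩⟩
    have : Nontrivial (Subgroup.center (P : Subgroup G)) := P.isPGroup'.center_nontrivial
    obtain ⟨c, hc⟩ := exists_ne (1 : Subgroup.center (P : Subgroup G))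
    have hcz : ((c : (P : Subgroup G)) : G) = z := by
      apply hcenterP _ (c : (P : Subgroup G)).2
      · intro h
        apply hc
        apply Subtype.ext
        apply Subtype.ext
        simpa using h
      · intro x hx
        have := Subgroup.mem_center_iff.mp c.2 ⟨x, hx⟩
        have := congrArg Subtype.val this
        simpa using this
    intro x hx
    have := Subgroup.mem_center_iff.mp c.2 ⟨x, hx⟩
    have := congrArg Subtype.val this
    rw [← hcz]
    simpa using this
  have first : ∃ P : Sylow 2 G, (P : Subgroup G) ≤ Subgroup.centralizer ({z} : Set G) := by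
    refine ⟨P, fun x hx => ?_⟩
    rw [Subgroup.mem_centralizer_iff]
    intro y hy
    rw [Set.mem_singleton_iff] at hy
    subst hy
    exact (hzcentral x hx).symm
  refine ⟨first, ?_⟩
  intro u hu hPu
  have hu1 : u ≠ 1 := by
    intro h; rw [h, orderOf_one] at hu; omega
  obtain ⟨_, P', huP', hucomm⟩ := (Cfsg.Agent.S0443.result u hu).mpr hPu
  obtain ⟨g, hg⟩ := MulAction.exists_smul_eq G P P'
  -- g⁻¹ u g lies in P and is central in P
  have hmem : ∀ x : G, x ∈ P' ↔ g⁻¹ * x * g ∈ P := by
    intro x
    rw [← hg]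
    show x ∈ ((g • P : Sylow 2 G) : Subgroup G) ↔ _
    rw [Sylow.coe_subgroup_smul, Subgroup.mem_pointwise_smul_iff_inv_smul_mem]
    simp only [MulAut.smul_def, MulAut.conj_apply, map_inv, MulAut.inv_apply, MulAut.conj_symm_apply]
    rfl
  have h1 : g⁻¹ * u * g ∈ P := (hmem u).mp huP'
  have h2 : g⁻¹ * u * g ≠ 1 := by
    intro h
    apply hu1
    have : u = g * (g⁻¹ * u * g) * g⁻¹ := by group
    rw [this, h]; group
  have h3 : ∀ x ∈ P, x * (g⁻¹ * u * g) = (g⁻¹ * u * g) * x := by
    intro x hx
    have hx' : g * x * g⁻¹ ∈ P' := by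
      rw [hmem]
      have : g⁻¹ * (g * x * g⁻¹) * g = x := by group
      rw [this]; exact hx
    have := hucomm _ hx'
    calc x * (g⁻¹ * u * g) = g⁻¹ * ((g * x * g⁻¹) * u) * g := by group
      _ = g⁻¹ * (u * (g * x * g⁻¹)) * g := by rw [this]
      _ = (g⁻¹ * u * g) * x := by group
  have h4 := hcenterP _ h1 h2 h3
  rw [isConj_iff]
  refine ⟨g, ?_⟩
  rw [← h4]; group

end Cfsg.Agent.S0481
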