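import Mathlib
import Cfsg.Statements.S0502
import Cfsg.Agent.Lib.Helper16.Center

set_option autoImplicit false
open Cfsg

namespace Cfsg.Agent.S0502

variable {P : Type*} [Group P]

/-- The explicit four-group generated by two commuting involutions. -/
def fourOf (a b : P) (ha : a * a = 1) (hb : b * b = 1) (hab : b * a = a * b) : Subgroup P where
  carrier := {1, a, b, a*b}
  one_mem' := by simp
  mul_mem' := by
    intro x y hx hy
    simp only [Set.mem_insert_iff, Set.mem_singleton_iff] at hx hy ⊢
    have h1 : a * (a * b) = b := by rw [← mul_assoc, ha, one_mul]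
    have h2 : b * (a * b) = a := by rw [← mul_assoc, hab, mul_assoc, hb, mul_one]
    have h3 : a * b * a = b := by rw [mul_assoc, hab, ← mul_assoc, ha, one_mul]
    have h4 : a * b * b = a := by rw [mul_assoc, hb, mul_one]
    have h5 : a * b * (a * b) = 1 := by rw [mul_assoc, h2, ha]
    rcases hx with rfl | rfl | rfl | rfl <;> rcases hy with rfl | rfl | rfl | rfl <;> simp [*]
  inv_mem' := by
    intro x hx
    simp only [Set.mem_insert_iff, Set.mem_singleton_iff] at hx ⊢
    have h1 : a⁻¹ = a := inv_eq_of_mul_eq_one_right ha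
    have h2 : b⁻¹ = b := inv_eq_of_mul_eq_one_right hb
    rcases hx with rfl | rfl | rfl | rfl <;> simp [*]

theorem mem_fourOf {a b : P} {ha : a * a = 1} {hb : b * b = 1} {hab : b * a = a * b} {x : P} :
    x ∈ fourOf a b ha hb hab ↔ x = 1 ∨ x = a ∨ x = b ∨ x = a * b := Iff.rfl

theorem isKleinFour_fourOf {a b : P} (ha : a * a = 1) (hb : b * b = 1) (hab : b * a = a * b)
    (ha1 : a ≠ 1) (hb1 : b ≠ 1) (hne : a ≠ b) : IsKleinFour (fourOf a b ha hb hab) where
  card_four := by
    have h0 : Nat.card (fourOf a b ha hb hab) = ({1, a, b, a * b} : Set P).ncard :=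
      Nat.card_coe_set_eq _
    rw [h0]
    have hab1 : a * b ≠ 1 := by
      intro h
      apply hne
      have : a = b⁻¹ := eq_inv_of_mul_eq_one_left h
      rw [this, inv_eq_of_mul_eq_one_right hb]
    rw [Set.ncard_insert_of_notMem, Set.ncard_insert_of_notMem, Set.ncard_insert_of_notMem,
      Set.ncard_singleton]
    · simp only [Set.mem_singleton_iff]
      intro h
      apply ha1
      have : 1 * b = a * b := by rw [one_mul]; exact h
      exact (mul_right_cancel this).symm
    · simp only [Set.mem_insert_iff, Set.mem_singleton_iff, not_or]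
      refine ⟨hne, ?_⟩
      intro h
      apply hb1
      have : a * 1 = a * b := by rw [mul_one]; exact h
      exact (mul_left_cancel this).symm
    · simp only [Set.mem_insert_iff, Set.mem_singleton_iff, not_or]
      exact ⟨fun h => ha1 h.symm, fun h => hb1 h.symm, fun h => hab1 h.symm⟩
  exponent_two := by
    have : Nontrivial (fourOf a b ha hb hab) :=
      ⟨⟨⟨a, Or.inr (Or.inl rfl)⟩, 1, fun h => ha1 (congrArg Subtype.val h)⟩⟩
    rw [Monoid.exponent_eq_prime_iff Nat.prime_two]
    intro g hg
    apply orderOf_eq_prime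
    · apply Subtype.ext
      have hg2 := g.2
      rw [mem_fourOf] at hg2
      have h5 : a * b * (a * b) = 1 := by
        rw [mul_assoc, ← mul_assoc b, hab, mul_assoc, hb, mul_one, ha]
      rw [sq]
      change (g : P) * (g : P) = 1
      rcases hg2 with h | h | h | h <;> rw [h] <;> simp [*]
    · exact hg

/-- An involution normalizing an elementary abelian 2-subgroup centralizes a large part. -/
theorem card_le_sq_card_inf_centralizer [Finite P] (A : Subgroup P)
    (hA : ∀ a ∈ A, ∀ b ∈ A, a * b = b * a) (hA2 : ∀ a ∈ A, a * a = 1) (t : P) (ht : t * t = 1)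
    (htA : ∀ a ∈ A, t * a * t⁻¹ ∈ A) :
    Nat.card A ≤ Nat.card (A ⊓ Subgroup.centralizer {t} : Subgroup P) ^ 2 := by
  have htinv : t⁻¹ = t := inv_eq_of_mul_eq_one_right ht
  let φ : A →* A :=
    { toFun := fun a => ⟨a * (t * a * t⁻¹), A.mul_mem a.2 (htA a a.2)⟩
      map_one' := by apply Subtype.ext; simp
      map_mul' := by
        intro a b
        apply Subtype.ext
        change (a : P) * b * (t * (a * b) * t⁻¹) = a * (t * a * t⁻¹) * (b * (t * b * t⁻¹))
        have h1 : (b : P) * (t * a * t⁻¹) = (t * a * t⁻¹) * b := hA _ b.2 _ (htA a a.2)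
        calc (a : P) * b * (t * (a * b) * t⁻¹)
            = a * (b * (t * a * t⁻¹)) * (t * b * t⁻¹) := by group
          _ = a * ((t * a * t⁻¹) * b) * (t * b * t⁻¹) := by rw [h1]
          _ = a * (t * a * t⁻¹) * (b * (t * b * t⁻¹)) := by group }
  have hφ : ∀ a : A, ((φ a : A) : P) = a * (t * a * t⁻¹) := fun a => rfl
  have hcard : Nat.card φ.ker * Nat.card φ.range = Nat.card A := by
    rw [← Subgroup.index_ker, Subgroup.card_mul_index]
  have h1 : Nat.card φ.ker ≤ Nat.card (A ⊓ Subgroup.centralizer {t} : Subgroup P) := by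
    refine Nat.card_le_card_of_injective
      (fun x : φ.ker => (⟨(x : A), ⟨(x : A).2, ?_⟩⟩ : (A ⊓ Subgroup.centralizer {t} : Subgroup P)))
      ?_
    · change ((x : A) : P) ∈ Subgroup.centralizer {t}
      rw [Subgroup.mem_centralizer_iff]
      intro h hh
      rw [Set.mem_singleton_iff] at hh
      subst hh
      have hx := x.2
      rw [MonoidHom.mem_ker] at hx
      have hx' : ((x : A) : P) * (h * (x : A) * h⁻¹) = 1 := by
        rw [← hφ, hx]; rfl
      have hx2 : ((x : A) : P) * (x : A) = 1 := hA2 _ (x : A).2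
      have h3 : h * ((x : A) : P) * h⁻¹ = (x : A) :=
        mul_left_cancel (hx'.trans hx2.symm)
      calc h * ((x : A) : P) = (h * ((x : A) : P) * h⁻¹) * h := by group
        _ = ((x : A) : P) * h := by rw [h3]
    · intro x y hxy
      apply Subtype.ext
      apply Subtype.ext
      exact congrArg (fun z : (A ⊓ Subgroup.centralizer {t} : Subgroup P) => (z : P)) hxy
  have h2 : Nat.card φ.range ≤ Nat.card (A ⊓ Subgroup.centralizer {t} : Subgroup P) := by
    refine Nat.card_le_card_of_injective
      (fun x : φ.range => (⟨(x : A), ⟨(x : A).2, ?_⟩⟩ :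
        (A ⊓ Subgroup.centralizer {t} : Subgroup P)))
      ?_
    · change ((x : A) : P) ∈ Subgroup.centralizer {t}
      rw [Subgroup.mem_centralizer_iff]
      intro h hh
      rw [Set.mem_singleton_iff] at hh
      subst hh
      obtain ⟨a, ha⟩ := x.2
      have hxa : ((x : A) : P) = a * (h * a * h⁻¹) := by rw [← ha]; rfl
      rw [hxa]
      have h1 : (a : P) * (h * a * h⁻¹) = (h * a * h⁻¹) * a := hA _ a.2 _ (htA a a.2)
      calc h * ((a : P) * (h * a * h⁻¹)) = (h * a * h⁻¹) * (h * h * a * h⁻¹ * h⁻¹) * h := by group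
        _ = (h * a * h⁻¹) * a * h := by rw [ht, htinv]; simp [mul_assoc, ht]
        _ = (a : P) * (h * a * h⁻¹) * h := by rw [h1]
    · intro x y hxy
      apply Subtype.ext
      apply Subtype.ext
      exact congrArg (fun z : (A ⊓ Subgroup.centralizer {t} : Subgroup P) => (z : P)) hxy
  calc Nat.card A = Nat.card φ.ker * Nat.card φ.range := hcard.symm
    _ ≤ Nat.card (A ⊓ Subgroup.centralizer {t} : Subgroup P) *
        Nat.card (A ⊓ Subgroup.centralizer {t} : Subgroup P) := Nat.mul_le_mul h1 h2
    _ = _ := (sq _).symm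

/-- A subgroup with at least three elements has an element outside `{1, e}`. -/
theorem exists_ne_of_three_le_card [Finite P] (C : Subgroup P) (e : P) (h : 3 ≤ Nat.card C) :
    ∃ f ∈ C, f ≠ 1 ∧ f ≠ e := by
  by_contra hcon
  push Not at hcon
  have hsub : (C : Set P) ⊆ {1, e} := by
    intro x hx
    by_cases hx1 : x = 1
    · left; exact hx1
    · right; exact hcon x hx hx1
  have h0 : Nat.card C = (C : Set P).ncard := Nat.card_coe_set_eq _
  have h1 : (C : Set P).ncard ≤ ({1, e} : Set P).ncard :=
    Set.ncard_le_ncard hsub (Set.toFinite _)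
  have h2 : ({1, e} : Set P).ncard ≤ 2 := by
    have := Set.ncard_insert_le (1 : P) ({e} : Set P)
    rw [Set.ncard_singleton] at this
    exact this
  omega

theorem result {P : Type*} [Group P] [Finite P] (hP : IsPGroup 2 P)
    (E : Subgroup P) [E.Normal] (hE : IsMulCommutative E) (hE2 : ∀ e ∈ E, e ^ 2 = 1) (hE8 : 8 ≤ Nat.card E) :
    Cfsg.IsFourConnected P := by
  classical
  have : Fact (Nat.Prime 2) := ⟨Nat.prime_two⟩
  have hEne : E ≠ ⊥ := by
    intro h
    rw [h, Subgroup.card_bot] at hE8
    omega
  obtain ⟨e, heE, hec, he1⟩ := Cfsg.Agent.Helper16.exists_mem_center_of_normal_ne_bot' hP E hEne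
  have hee : e * e = 1 := by rw [← sq]; exact hE2 e heE
  have hecomm : ∀ x : P, x * e = e * x := fun x => Subgroup.mem_center_iff.mp hec x
  have hEcomm : ∀ a ∈ E, ∀ b ∈ E, a * b = b * a := by
    intro a ha b hb
    have := mul_comm' (⟨a, ha⟩ : E) ⟨b, hb⟩
    exact congrArg Subtype.val this
  have hE2' : ∀ a ∈ E, a * a = 1 := fun a ha => by rw [← sq]; exact hE2 a ha
  set R : Subgroup P → Subgroup P → Prop :=
    fun A B => IsKleinFour A ∧ IsKleinFour B ∧ ∀ a ∈ A, ∀ b ∈ B, a * b = b * a with hR
  have hRsymm : ∀ A B : Subgroup P, R A B → R B A := by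
    intro A B h
    exact ⟨h.2.1, h.1, fun a ha b hb => (h.2.2 b hb a ha).symm⟩
  have hsym : ∀ A B : Subgroup P, Relation.ReflTransGen R A B → Relation.ReflTransGen R B A := by
    intro A B h
    induction h with
    | refl => exact Relation.ReflTransGen.refl
    | tail _ hbc ih => exact Relation.ReflTransGen.head (hRsymm _ _ hbc) ih
  have key : ∀ U : Subgroup P, IsKleinFour U →
      ∃ F : Subgroup P, IsKleinFour F ∧ F ≤ E ∧ Relation.ReflTransGen R U F := by
    intro U hU
    have hU4 : Nat.card U = 4 := hU.card_four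
    obtain ⟨u, huU, hu1, hue⟩ := exists_ne_of_three_le_card U e (by omega)
    have huu : u * u = 1 := by
      have := IsKleinFour.mul_self (⟨u, huU⟩ : U)
      exact congrArg Subtype.val this
    have hUcomm : ∀ a ∈ U, ∀ b ∈ U, a * b = b * a := by
      intro a ha b hb
      have hc := IsKleinFour.isMulCommutative (G := U)
      have := mul_comm' (⟨a, ha⟩ : U) ⟨b, hb⟩
      exact congrArg Subtype.val this
    have hW := isKleinFour_fourOf huu hee (hecomm u).symm hu1 he1 hue
    have hRUW : R U (fourOf u e huu hee (hecomm u).symm) := by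
      refine ⟨hU, hW, ?_⟩
      intro a ha b hb
      rw [mem_fourOf] at hb
      have h1 : a * u = u * a := hUcomm a ha u huU
      have h2 : a * e = e * a := hecomm a
      rcases hb with rfl | rfl | rfl | rfl
      · simp
      · exact h1
      · exact h2
      · rw [← mul_assoc, h1, mul_assoc, h2, mul_assoc]
    have hcard := card_le_sq_card_inf_centralizer E hEcomm hE2' u huu
      (fun a ha => (inferInstance : E.Normal).conj_mem a ha u)
    have hC3 : 3 ≤ Nat.card (E ⊓ Subgroup.centralizer {u} : Subgroup P) := by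
      by_contra hlt
      push Not at hlt
      have : Nat.card (E ⊓ Subgroup.centralizer {u} : Subgroup P) ^ 2 ≤ 2 ^ 2 :=
        Nat.pow_le_pow_left (by omega) 2
      omega
    obtain ⟨f, hfC, hf1, hfe⟩ := exists_ne_of_three_le_card _ e hC3
    have hfE : f ∈ E := hfC.1
    have hfu : u * f = f * u := by
      have := Subgroup.mem_centralizer_iff.mp hfC.2 u (Set.mem_singleton u)
      exact this
    have hff : f * f = 1 := hE2' f hfE
    have hF := isKleinFour_fourOf hee hff (hecomm f) he1 hf1 (fun h => hfe h.symm)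
    refine ⟨fourOf e f hee hff (hecomm f), hF, ?_, ?_⟩
    · intro x hx
      rw [mem_fourOf] at hx
      rcases hx with rfl | rfl | rfl | rfl
      · exact E.one_mem
      · exact heE
      · exact hfE
      · exact E.mul_mem heE hfE
    · refine Relation.ReflTransGen.tail (Relation.ReflTransGen.single hRUW) ?_
      refine ⟨hW, hF, ?_⟩
      intro a ha b hb
      rw [mem_fourOf] at ha hb
      have hbu : u * b = b * u := by
        rcases hb with rfl | rfl | rfl | rfl
        · simp
        · exact (hecomm u)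
        · exact hfu
        · rw [← mul_assoc, hecomm u, mul_assoc, hfu, mul_assoc]
      have hbe : e * b = b * e := (hecomm b).symm
      rcases ha with rfl | rfl | rfl | rfl
      · simp
      · exact hbu
      · exact hbe
      · rw [mul_assoc, hbe, ← mul_assoc, hbu, mul_assoc]
  intro U V hU hV
  obtain ⟨F₁, hF₁, hF₁E, h₁⟩ := key U hU
  obtain ⟨F₂, hF₂, hF₂E, h₂⟩ := key V hV
  have h12 : R F₁ F₂ := ⟨hF₁, hF₂, fun a ha b hb => hEcomm a (hF₁E ha) b (hF₂E hb)⟩
  have h₂' : Relation.ReflTransGen R F₂ V := hsym _ _ h₂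
  exact (h₁.tail h12).trans h₂'

end Cfsg.Agent.S0502
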