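import Mathlib
import Cfsg.Statements.S0505
import Cfsg.Agent.Lib.Helper7.Cores
import Cfsg.Agent.Lib.Helper7.PLocal2
import Cfsg.Agent.Lib.Helper16.Solvable2
import Cfsg.Agent.Lib.Helper16.InvCent
import Cfsg.Agent.S0087

set_option autoImplicit false
open Cfsg

namespace Cfsg.Agent.S0505

universe u

section

variable {G : Type u} [Group G]

/-- Elements of a `2`-group and of an odd-order group which lie in both are trivial. -/
theorem eq_one_of_mem_two_of_mem_odd [Finite G] (Q K : Subgroup G) (hQ : IsPGroup 2 Q)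
    (hK : (Nat.card K).Coprime 2) {c : G} (hcQ : c ∈ Q) (hcK : c ∈ K) : c = 1 := by
  obtain ⟨b, hb⟩ := IsPGroup.iff_card.mp hQ
  have hdisj : Disjoint Q K := by
    apply Subgroup.disjoint_of_coprime_natCard
    rw [hb]
    exact Nat.Coprime.pow_left _ hK.symm
  have : c ∈ Q ⊓ K := Subgroup.mem_inf.mpr ⟨hcQ, hcK⟩
  rwa [hdisj.eq_bot, Subgroup.mem_bot] at this

/-- If `a` normalizes `Q`, `y ∈ Q` normalizes `K ∋ a`, and `Q ∩ K = 1`, then `a` and `y` commute. -/
theorem commute_of_normalize [Finite G] (Q K : Subgroup G) (hQ : IsPGroup 2 Q)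
    (hK : (Nat.card K).Coprime 2) {a y : G} (ha : a ∈ K) (hy : y ∈ Q)
    (haQ : a * y * a⁻¹ ∈ Q) (hyK : y * a⁻¹ * y⁻¹ ∈ K) : a * y = y * a := by
  have hc1 : a * y * a⁻¹ * y⁻¹ ∈ Q := mul_mem haQ (inv_mem hy)
  have hc2 : a * y * a⁻¹ * y⁻¹ ∈ K := by
    have e : a * y * a⁻¹ * y⁻¹ = a * (y * a⁻¹ * y⁻¹) := by group
    rw [e]; exact mul_mem ha hyK
  have hc := eq_one_of_mem_two_of_mem_odd Q K hQ hK hc1 hc2
  rw [mul_inv_eq_one] at hc
  calc a * y = (a * y * a⁻¹) * a := by group
    _ = y * a := by rw [hc]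

/-- A nontrivial `2`-subgroup has a central involution. -/
theorem exists_central_involution [Finite G] (T : Subgroup G) (hT : IsPGroup 2 T) (hT1 : T ≠ ⊥) :
    ∃ t ∈ T, orderOf t = 2 ∧ ∀ x ∈ T, t * x = x * t := by
  haveI : Nontrivial T := (Subgroup.nontrivial_iff_ne_bot T).mpr hT1
  haveI := hT.center_nontrivial
  obtain ⟨⟨z, hz⟩, hz1⟩ := exists_ne (1 : Subgroup.center T)
  have hz1' : z ≠ 1 := fun h => hz1 (Subtype.ext h)
  obtain ⟨j, hj⟩ := (IsPGroup.iff_orderOf.mp hT) z
  obtain ⟨i, hi⟩ := Cfsg.Agent.Helper16.exists_involution_zpowers ⟨j, hj⟩ hz1'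
  refine ⟨((z ^ i : T) : G), (z ^ i).2, ?_, ?_⟩
  · rw [Subgroup.orderOf_coe]; exact hi
  · intro x hx
    have h1 : z ^ i ∈ Subgroup.center T := pow_mem hz i
    have h2 := Subgroup.mem_center_iff.mp h1 ⟨x, hx⟩
    have h3 := congrArg Subtype.val h2
    simpa using h3.symm

open Cfsg.Agent.Helper7 in
theorem isOfCharacteristicTwo_normalizer [Finite G]
    (hs : ∀ t : G, orderOf t = 2 → Group.IsSolvable (Subgroup.centralizer ({t} : Set G)))
    (hc : ∀ t : G, orderOf t = 2 → Cfsg.pPrimeCore 2 (Subgroup.centralizer ({t} : Set G)) = ⊥)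
    (T : Subgroup G) (hT : IsPGroup 2 T) (hT1 : T ≠ ⊥) :
    Cfsg.IsOfCharacteristicTwo ↥(Subgroup.normalizer (T : Set G)) := by
  set H := Subgroup.normalizer (T : Set G) with hH
  obtain ⟨t, htT, ht2, htc⟩ := exists_central_involution T hT hT1
  set C := Subgroup.centralizer ({t} : Set G) with hC
  have hTC : T ≤ C := fun x hx => Subgroup.mem_centralizer_singleton_iff.mpr (htc x hx).symm
  have hTH : T ≤ H := Subgroup.le_normalizer
  -- `Q = O_2(C)`
  set Q : Subgroup G := (Cfsg.pCore 2 ↥C).map C.subtype with hQ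
  have hQ2 : IsPGroup 2 Q := (pCore_isPGroup 2).map _
  have hQC : Q ≤ C := Subgroup.map_subtype_le _
  haveI hQch : (Cfsg.pCore 2 ↥C).Characteristic := pCore_characteristic 2
  have hQn : (Cfsg.pCore 2 ↥C).Normal := inferInstance
  have hCQ : C ≤ Subgroup.normalizer (Q : Set G) := by
    intro c hcC
    apply Cfsg.Agent.S0087.mem_normalizer_of_forall
    rintro _ ⟨y, hy, rfl⟩
    exact ⟨⟨c, hcC⟩ * y * ⟨c, hcC⟩⁻¹, hQn.conj_mem y hy _, rfl⟩
  have hCCQ : ∀ c ∈ C, c ∈ Subgroup.centralizer (Q : Set G) → c ∈ Q := by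
    intro c hcC hcQ
    have h1 : (⟨c, hcC⟩ : C) ∈ Subgroup.centralizer (Cfsg.pCore 2 ↥C : Set ↥C) := by
      rw [Subgroup.mem_centralizer_iff]
      intro y hy
      apply Subtype.ext
      exact Subgroup.mem_centralizer_iff.mp hcQ (y : G) ⟨y, hy, rfl⟩
    have h2 := Cfsg.Agent.Helper16.centralizer_pCore_le_of_isSolvable 2 (hs t ht2) (hc t ht2) h1
    exact ⟨⟨c, hcC⟩, h2, rfl⟩
  -- `K = O(H)`
  set K : Subgroup G := (Cfsg.pPrimeCore 2 ↥H).map H.subtype with hK
  have hKodd : (Nat.card K).Coprime 2 := by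
    rw [card_map_subtype]; exact Cfsg.Agent.Helper22.card_pPrimeCore_coprime 2
  have hKH : K ≤ H := Subgroup.map_subtype_le _
  have hHK : ∀ h ∈ H, ∀ a ∈ K, h * a * h⁻¹ ∈ K := by
    rintro h hh _ ⟨a', ha', rfl⟩
    exact ⟨⟨h, hh⟩ * a' * ⟨h, hh⟩⁻¹,
      (Cfsg.Agent.Helper22.pPrimeCore_normal 2).conj_mem a' ha' _, rfl⟩
  have hKT : ∀ a ∈ K, ∀ x ∈ T, a * x = x * a := by
    intro a ha x hx
    apply commute_of_normalize T K hT hKodd ha hx
    · exact (Subgroup.mem_normalizer_iff.mp (hKH ha) x).mp hx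
    · exact hHK x (hTH hx) a⁻¹ (inv_mem ha)
  have hKbot : K = ⊥ := by
    rw [eq_bot_iff]
    intro a ha
    rw [Subgroup.mem_bot]
    have haC : a ∈ C := Subgroup.mem_centralizer_singleton_iff.mpr (hKT a ha t htT)
    have haQ : a ∈ Subgroup.normalizer (Q : Set G) := hCQ haC
    have haodd : (orderOf a).Coprime 2 := by
      have h3 : orderOf a ∣ Nat.card K := by
        have := orderOf_dvd_natCard (⟨a, ha⟩ : K)
        rwa [Subgroup.orderOf_mk] at this
      exact Nat.Coprime.coprime_dvd_left h3 hKodd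
    have haT : a ∈ Subgroup.centralizer (T : Set G) :=
      Subgroup.mem_centralizer_iff.mpr (fun x hx => (hKT a ha x hx).symm)
    have haCQT : a ∈ Subgroup.centralizer
        ((Q ⊓ Subgroup.centralizer (T : Set G) : Subgroup G) : Set G) := by
      rw [Subgroup.mem_centralizer_iff]
      intro y hy
      obtain ⟨hyQ, hyT⟩ := Subgroup.mem_inf.mp hy
      have hyH : y ∈ H := Subgroup.centralizer_le_normalizer _ hyT
      symm
      apply commute_of_normalize Q K hQ2 hKodd ha hyQ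
      · exact (Subgroup.mem_normalizer_iff.mp haQ y).mp hyQ
      · exact hHK y hyH a⁻¹ (inv_mem ha)
    have h1 := thompson_AxB_element 2 Q T hQ2 hT (hTC.trans hCQ) a haQ haodd haT haCQT
    have h2 : a ∈ Q := hCCQ a haC h1
    exact eq_one_of_mem_two_of_mem_odd Q K hQ2 hKodd h2 ha
  have hOH : Cfsg.pPrimeCore 2 ↥H = ⊥ := by
    rw [eq_bot_iff]
    intro x hx
    have h1 : (x : G) ∈ K := ⟨x, hx, rfl⟩
    rw [hKbot, Subgroup.mem_bot] at h1
    rw [Subgroup.mem_bot]
    exact Subtype.ext h1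
  -- the centralizer of `O_2(H)`
  unfold Cfsg.IsOfCharacteristicTwo
  haveI hRch : (Cfsg.pCore 2 ↥H).Characteristic := pCore_characteristic 2
  haveI hRn : (Cfsg.pCore 2 ↥H).Normal := inferInstance
  set X : Subgroup ↥H := Subgroup.centralizer (Cfsg.pCore 2 ↥H : Set ↥H) with hX
  haveI hXn : X.Normal := Subgroup.normal_centralizer
  have htR : (⟨t, hTH htT⟩ : H) ∈ Cfsg.pCore 2 ↥H := by
    have hTn : (T.subgroupOf H).Normal := Subgroup.normal_in_normalizer
    have h1 : T.subgroupOf H ≤ Cfsg.pCore 2 ↥H := le_pCore hTn (hT.comap_subtype)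
    exact h1 (Subgroup.mem_subgroupOf.mpr htT)
  have hXC : ∀ x : X, ((H.subtype.comp X.subtype) x) ∈ C := by
    intro x
    rw [hC, Subgroup.mem_centralizer_singleton_iff]
    have h1 := Subgroup.mem_centralizer_iff.mp x.2 _ htR
    have h2 := congrArg Subtype.val h1
    simpa using h2.symm
  have hXsolv : Group.IsSolvable X := by
    let f : X →* C := (H.subtype.comp X.subtype).codRestrict C hXC
    have hf : Function.Injective f := by
      intro a b hab
      have h1 : ((a : H) : G) = ((b : H) : G) := congrArg (fun z : C => (z : G)) hab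
      exact Subtype.ext (Subtype.ext h1)
    haveI := hs t ht2
    exact solvable_of_solvable_injective hf
  have hXO : Cfsg.pPrimeCore 2 ↥X = ⊥ := by
    have h1 := map_subtype_pPrimeCore_le 2 X
    rw [hOH] at h1
    rw [eq_bot_iff]
    intro x hx
    have h2 : (x : H) ∈ (⊥ : Subgroup H) := h1 ⟨x, hx, rfl⟩
    rw [Subgroup.mem_bot] at h2 ⊢
    exact Subtype.ext h2
  have hXX := Cfsg.Agent.Helper16.centralizer_pCore_le_of_isSolvable 2 hXsolv hXO
  have hXR := map_subtype_pCore_le 2 X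
  intro x hx
  have h1 : (⟨x, hx⟩ : X) ∈ Subgroup.centralizer (Cfsg.pCore 2 ↥X : Set X) := by
    rw [Subgroup.mem_centralizer_iff]
    intro y hy
    apply Subtype.ext
    have hyR : (y : H) ∈ Cfsg.pCore 2 ↥H := hXR ⟨y, hy, rfl⟩
    exact Subgroup.mem_centralizer_iff.mp hx (y : H) hyR
  have h2 := hXX h1
  exact hXR ⟨⟨x, hx⟩, h2, rfl⟩

end

/-- Let G be a finite group of even order in which the centralizer of every involution is solvable and has trivial
core (no nontrivial normal subgroup of odd order). Then G is of characteristic 2 type. -/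
theorem result {G : Type*} [Group G] [Finite G]
    (h2 : Even (Nat.card G))
    (hs : ∀ t : G, orderOf t = 2 → Group.IsSolvable (Subgroup.centralizer ({t} : Set G)))
    (hc : ∀ t : G, orderOf t = 2 → Cfsg.oddCore (Subgroup.centralizer ({t} : Set G)) = ⊥) :
    Cfsg.IsCharacteristicTwoType G := by
  refine ⟨h2, fun T hT hT1 => ?_⟩
  exact isOfCharacteristicTwo_normalizer hs hc T hT hT1

end Cfsg.Agent.S0505
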