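import Mathlib
import Cfsg.Statements.S0514
import Cfsg.Agent.S0071
import Cfsg.Agent.Lib.Helper16.DihedralSub
import Cfsg.Agent.Lib.Helper9.SylowLemmas

set_option autoImplicit false
open Cfsg

namespace Cfsg.Agent.S0514

open Cfsg.Agent.Helper16 in
theorem result {X : Type*} [Group X] [Finite X]
    (S : Sylow 2 X) (n : ℕ) (hn : 2 ≤ n) (hS : Nonempty ((S : Subgroup X) ≃* DihedralGroup n)) (t : X)
    (ht : orderOf t = 2) :
    ∃ N : Subgroup (Subgroup.centralizer ({t} : Set X)), N.Normal ∧ Odd (Nat.card N) ∧ ∃ k : ℕ, N.index = 2 ^ k := by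
  have hF : Fact (Nat.Prime 2) := ⟨Nat.prime_two⟩
  obtain ⟨e⟩ := hS
  have ht2 : t ^ 2 = 1 := by rw [← ht]; exact pow_orderOf_eq_one t
  have ht1 : t ≠ 1 := by
    intro h
    rw [h, orderOf_one] at ht
    norm_num at ht
  set C : Subgroup X := Subgroup.centralizer ({t} : Set X) with hC
  have hCt : ∀ c ∈ C, t * c = c * t := by
    intro c hc
    exact (Subgroup.mem_centralizer_iff.1 hc) t rfl
  have htC : t ∈ C := by
    rw [hC, Subgroup.mem_centralizer_iff]
    intro h hh
    rw [Set.mem_singleton_iff] at hh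
    rw [hh]
  let P : Sylow 2 C := default
  -- the image of `P` in `X` lies in a dihedral Sylow subgroup
  set P' : Subgroup X := (P : Subgroup C).map C.subtype with hP'
  have hP'2 : IsPGroup 2 P' := P.isPGroup'.map _
  obtain ⟨S', hS'⟩ := hP'2.exists_le_sylow
  have e' : (S' : Subgroup X) ≃* DihedralGroup n := (Sylow.equiv S' S).trans e
  obtain ⟨a, j, hD, hnj⟩ := exists_isDihedralSub (S' : Subgroup X) S'.isPGroup' n e'
  have hj : 1 ≤ j := by
    rcases Nat.eq_zero_or_pos j with h0 | h0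
    · rw [h0, pow_zero] at hnj; omega
    · exact h0
  -- `t ∈ P`
  have htP : (⟨t, htC⟩ : C) ∈ (P : Subgroup C) := by
    obtain ⟨c, hc⟩ := Cfsg.Agent.Helper9.exists_conj_mem_sylow P (⟨t, htC⟩ : C)
      ⟨1, by rw [Subgroup.orderOf_mk, ht, pow_one]⟩
    have : c * (⟨t, htC⟩ : C) * c⁻¹ = ⟨t, htC⟩ := by
      apply Subtype.ext
      have h1 := hCt c c.2
      simp only [Subgroup.coe_mul, Subgroup.coe_inv]
      rw [← h1, mul_inv_cancel_right]
    rwa [this] at hc
  have htS' : t ∈ (S' : Subgroup X) := hS' ⟨⟨t, htC⟩, htP, rfl⟩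
  -- the Frobenius criterion
  have hfrob : ∀ Q : Subgroup C, Q ≤ (P : Subgroup C) →
      ∀ g ∈ Subgroup.normalizer (Q : Set C), Nat.Coprime (orderOf g) 2 →
      g ∈ Subgroup.centralizer (Q : Set C) := by
    intro Q hQP g hg hcop
    by_contra hgc
    set Q' : Subgroup X := Q.map C.subtype with hQ'
    have hQ'S : Q' ≤ (S' : Subgroup X) := le_trans (Subgroup.map_mono hQP) hS'
    have hg' : (g : X) ∈ Subgroup.normalizer (Q' : Set X) := by
      apply Subgroup.le_normalizer_map C.subtype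
      exact ⟨g, hg, rfl⟩
    have hgc' : (g : X) ∉ Subgroup.centralizer (Q' : Set X) := by
      intro h
      apply hgc
      rw [Subgroup.mem_centralizer_iff]
      intro q hq
      apply Subtype.ext
      have := (Subgroup.mem_centralizer_iff.1 h) (q : X) ⟨q, hq, rfl⟩
      simpa using this
    have hodd' : Odd (orderOf (g : X)) := by
      rw [Subgroup.orderOf_coe]
      exact Nat.coprime_two_right.1 hcop
    obtain ⟨h4, hsq⟩ := four_of_odd_normalizer_dihedral (S' : Subgroup X) hD.mem hD.hao hD.card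
      hD.out_sq Q' hQ'S hg' hodd' hgc'
    have htQ' : t ∈ Q' := by
      apply hD.mem_four_of_commute hj hQ'S h4 hsq htS' ht2
      rintro q ⟨q₀, -, rfl⟩
      exact hCt _ q₀.2
    have hgt : (g : X) * t * (g : X)⁻¹ = t := by
      rw [← hCt _ g.2, mul_inv_cancel_right]
    exact hgc' (mem_centralizer_four_of_fix Q' h4 hsq hg' hodd' htQ' ht1 hgt)
  obtain ⟨N, hN, hNc⟩ := (Cfsg.Agent.S0071.result P).2 hfrob
  refine ⟨N, hN, ?_, ?_⟩
  · have h1 : (P : Subgroup C).index = Nat.card N := hNc.index_eq_card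
    rw [← h1]
    exact Nat.odd_iff.2 (Nat.two_dvd_ne_zero.1 P.not_dvd_index)
  · refine ⟨(Nat.card C).factorization 2, ?_⟩
    rw [hNc.symm.index_eq_card]
    exact P.card_eq_multiplicity

end Cfsg.Agent.S0514
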