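import Mathlib
import Cfsg.Statements.S0520
import Cfsg.Agent.S0502
import Cfsg.Agent.Lib.Helper15.Basic
import Cfsg.Agent.Lib.Helper15.SylowIn

set_option autoImplicit false
open Cfsg

namespace Cfsg.Agent.S0520

open Cfsg.Agent.Helper15

variable {G : Type*} [Group G]

/-- conjugate of a subgroup -/
abbrev cj (g : G) (U : Subgroup G) : Subgroup G := U.map (MulAut.conj g).toMonoidHom

theorem cj_one (U : Subgroup G) : cj 1 U = U := map_conj_one U
theorem cj_cj (g h : G) (U : Subgroup G) : cj g (cj h U) = cj (g * h) U := map_conj_map_conj U g h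
theorem cj_inv_cj (g : G) (U : Subgroup G) : cj g⁻¹ (cj g U) = U := map_conj_inv_map_conj U g
theorem cj_cj_inv (g : G) (U : Subgroup G) : cj g (cj g⁻¹ U) = U := map_conj_map_conj_inv U g

/-- adjacency of four-subgroups -/
def Adj (A B : Subgroup G) : Prop :=
  IsKleinFour A ∧ IsKleinFour B ∧ ∀ a ∈ A, ∀ b ∈ B, a * b = b * a

/-- connectedness -/
abbrev Conn (A B : Subgroup G) : Prop := Relation.ReflTransGen Adj A B

theorem isFourConnected_iff :
    Cfsg.IsFourConnected G ↔ ∀ U V : Subgroup G, IsKleinFour U → IsKleinFour V → Conn U V :=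
  Iff.rfl

theorem isKleinFour_of_mulEquiv {X Y : Type*} [Group X] [Group Y] (e : X ≃* Y)
    (h : IsKleinFour X) : IsKleinFour Y where
  card_four := by rw [← Nat.card_congr e.toEquiv]; exact h.card_four
  exponent_two := by rw [← Monoid.exponent_eq_of_mulEquiv e]; exact h.exponent_two

theorem isKleinFour_map {X Y : Type*} [Group X] [Group Y] (f : X →* Y)
    (hf : Function.Injective f) {U : Subgroup X} (h : IsKleinFour U) : IsKleinFour (U.map f) :=
  isKleinFour_of_mulEquiv (U.equivMapOfInjective f hf) h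

theorem isKleinFour_cj (g : G) {U : Subgroup G} (h : IsKleinFour U) : IsKleinFour (cj g U) :=
  isKleinFour_map _ (MulAut.conj g).injective h

theorem isKleinFour_subgroupOf {U Q : Subgroup G} (hUQ : U ≤ Q) (h : IsKleinFour U) :
    IsKleinFour (U.subgroupOf Q) :=
  isKleinFour_of_mulEquiv (Subgroup.subgroupOfEquivOfLe hUQ).symm h

theorem isPGroup_of_isKleinFour {U : Subgroup G} (h : IsKleinFour U) : IsPGroup 2 U :=
  IsPGroup.of_card (n := 2) (by rw [h.card_four]; norm_num)

theorem Adj.symm {A B : Subgroup G} (h : Adj A B) : Adj B A :=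
  ⟨h.2.1, h.1, fun b hb a ha => (h.2.2 a ha b hb).symm⟩

theorem Conn.symm {A B : Subgroup G} (h : Conn A B) : Conn B A := by
  induction h with
  | refl => exact Relation.ReflTransGen.refl
  | tail _ hbc ih => exact Relation.ReflTransGen.head hbc.symm ih

theorem Adj.cj (g : G) {A B : Subgroup G} (h : Adj A B) : Adj (cj g A) (cj g B) := by
  refine ⟨isKleinFour_cj g h.1, isKleinFour_cj g h.2.1, ?_⟩
  rintro _ ⟨a, ha, rfl⟩ _ ⟨b, hb, rfl⟩
  simp only [MulEquiv.coe_toMonoidHom]
  rw [← map_mul, ← map_mul, h.2.2 a ha b hb]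

theorem Conn.cj (g : G) {A B : Subgroup G} (h : Conn A B) : Conn (cj g A) (cj g B) := by
  induction h with
  | refl => exact Relation.ReflTransGen.refl
  | tail _ hbc ih => exact Relation.ReflTransGen.tail ih (hbc.cj g)

/-- rank at least two means there is a four-subgroup -/
theorem not_pRankLE_iff {X : Type*} [Group X] :
    ¬ Cfsg.PRankLE 2 1 X ↔ ∃ U : Subgroup X, IsKleinFour U := by
  constructor
  · intro h
    unfold Cfsg.PRankLE at h
    push Not at h
    obtain ⟨A, hAc, hA2, hcard⟩ := h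
    have hfin : Finite A := by
      by_contra hinf
      rw [not_finite_iff_infinite] at hinf
      rw [Nat.card_eq_zero_of_infinite] at hcard
      omega
    have h3 : 3 ≤ Nat.card A := by omega
    -- work inside the finite group `A`
    obtain ⟨a, -, ha1, -⟩ := Cfsg.Agent.S0502.exists_ne_of_three_le_card (⊤ : Subgroup A) 1
      (by rw [Subgroup.card_top]; exact h3)
    obtain ⟨b, -, hb1, hba⟩ := Cfsg.Agent.S0502.exists_ne_of_three_le_card (⊤ : Subgroup A) a
      (by rw [Subgroup.card_top]; exact h3)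
    have haa : (a : X) * a = 1 := by rw [← sq]; exact hA2 a a.2
    have hbb : (b : X) * b = 1 := by rw [← sq]; exact hA2 b b.2
    have hab : (b : X) * a = a * b := by
      have := hAc.is_comm.comm b a
      exact congrArg Subtype.val this
    refine ⟨Cfsg.Agent.S0502.fourOf (a : X) b haa hbb hab,
      Cfsg.Agent.S0502.isKleinFour_fourOf haa hbb hab ?_ ?_ ?_⟩
    · exact fun h => ha1 (Subtype.ext h)
    · exact fun h => hb1 (Subtype.ext h)
    · exact fun h => hba (Subtype.ext h.symm)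
  · rintro ⟨U, hU⟩ h
    have h1 := h U IsKleinFour.isMulCommutative (fun a ha => by
      have : (⟨a, ha⟩ : U) ^ 2 = 1 := by
        have := Monoid.pow_exponent_eq_one (⟨a, ha⟩ : U)
        rwa [hU.exponent_two] at this
      exact congrArg Subtype.val this)
    rw [hU.card_four] at h1
    norm_num at h1

theorem not_pRankLE_subgroup_iff (Q : Subgroup G) :
    ¬ Cfsg.PRankLE 2 1 Q ↔ ∃ U : Subgroup G, U ≤ Q ∧ IsKleinFour U := by
  rw [not_pRankLE_iff]
  constructor
  · rintro ⟨U, hU⟩
    exact ⟨U.map Q.subtype, Subgroup.map_subtype_le U, isKleinFour_map _ Q.subtype_injective hU⟩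
  · rintro ⟨U, hUQ, hU⟩
    exact ⟨U.subgroupOf Q, isKleinFour_subgroupOf hUQ hU⟩

theorem conn_map_subtype {S : Subgroup G} {A B : Subgroup S}
    (h : Relation.ReflTransGen
      (fun A B : Subgroup S => IsKleinFour A ∧ IsKleinFour B ∧ ∀ a ∈ A, ∀ b ∈ B, a * b = b * a)
      A B) : Conn (A.map S.subtype) (B.map S.subtype) := by
  induction h with
  | refl => exact Relation.ReflTransGen.refl
  | tail _ hbc ih =>
    refine Relation.ReflTransGen.tail ih ?_
    obtain ⟨hA, hB, hAB⟩ := hbc
    refine ⟨isKleinFour_map _ S.subtype_injective hA,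
      isKleinFour_map _ S.subtype_injective hB, ?_⟩
    rintro _ ⟨a, ha, rfl⟩ _ ⟨b, hb, rfl⟩
    rw [← map_mul, ← map_mul, hAB a ha b hb]

/-- transfer of connectedness from a subgroup to the ambient group -/
theorem conn_of_isFourConnected_subgroup {S : Subgroup G} (hS : Cfsg.IsFourConnected S)
    {U V : Subgroup G} (hU : IsKleinFour U) (hV : IsKleinFour V) (hUS : U ≤ S) (hVS : V ≤ S) :
    Conn U V := by
  have h := hS (U.subgroupOf S) (V.subgroupOf S) (isKleinFour_subgroupOf hUS hU)
    (isKleinFour_subgroupOf hVS hV)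
  have h2 : Conn ((U.subgroupOf S).map S.subtype) ((V.subgroupOf S).map S.subtype) :=
    conn_map_subtype h
  rwa [Subgroup.map_subgroupOf_eq_of_le hUS, Subgroup.map_subgroupOf_eq_of_le hVS] at h2

section main

set_option linter.unusedSectionVars false

variable [Finite G] (S : Sylow 2 G)

/-- the 2-generated core -/
def core2 : Subgroup G :=
  ⨆ Q : {Q : Subgroup G // Q ≤ (S : Subgroup G) ∧ ¬ Cfsg.PRankLE 2 1 Q},
    Subgroup.normalizer ((Q : Subgroup G) : Set G)

theorem normalizer_le_core2 {Q U : Subgroup G} (hQS : Q ≤ (S : Subgroup G)) (hUQ : U ≤ Q)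
    (hU : IsKleinFour U) : Subgroup.normalizer (Q : Set G) ≤ core2 S :=
  le_iSup (fun Q : {Q : Subgroup G // Q ≤ (S : Subgroup G) ∧ ¬ Cfsg.PRankLE 2 1 Q} =>
    Subgroup.normalizer ((Q : Subgroup G) : Set G))
    ⟨Q, hQS, (not_pRankLE_subgroup_iff Q).2 ⟨U, hUQ, hU⟩⟩

theorem exists_cj_le_sylow {T : Subgroup G} (hT : IsPGroup 2 T) :
    ∃ g : G, cj g T ≤ (S : Subgroup G) := by
  obtain ⟨P, hP⟩ := hT.exists_le_sylow
  obtain ⟨g, hg⟩ := MulAction.exists_smul_eq G P S
  refine ⟨g, ?_⟩
  rw [← hg]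
  exact map_conj_mono hP g

theorem sylow_le_core2 {U : Subgroup G} (hU : IsKleinFour U) (hUS : U ≤ (S : Subgroup G)) :
    (S : Subgroup G) ≤ core2 S :=
  Subgroup.le_normalizer.trans (normalizer_le_core2 S le_rfl hUS hU)

theorem exists_cj_le_of_le_core2 {U : Subgroup G} (hU : IsKleinFour U)
    (hUS : U ≤ (S : Subgroup G)) {T : Subgroup G} (hT : IsPGroup 2 T) (hTM : T ≤ core2 S) :
    ∃ m ∈ core2 S, cj m T ≤ (S : Subgroup G) := by
  obtain ⟨T', hTT', hT'⟩ := exists_isSylowIn_ge hT hTM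
  obtain ⟨k, hk, hkeq⟩ := hT'.exists_conj (isSylowIn_of_sylow_le S (sylow_le_core2 S hU hUS))
  exact ⟨k, hk, hkeq ▸ map_conj_mono hTT' k⟩

/-- a 2-subgroup meeting the core in a subgroup of rank at least two lies in the core -/
theorem le_core2_of_four {U0 : Subgroup G} (hU0 : IsKleinFour U0)
    (hU0S : U0 ≤ (S : Subgroup G)) {T U : Subgroup G} (hT : IsPGroup 2 T)
    (hU : IsKleinFour U) (hUT : U ≤ T) (hUM : U ≤ core2 S) : T ≤ core2 S := by
  set T1 := T ⊓ core2 S with hT1
  have hT1p : IsPGroup 2 T1 := hT.to_le inf_le_left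
  obtain ⟨m, hm, hmS⟩ := exists_cj_le_of_le_core2 S hU0 hU0S hT1p inf_le_right
  have hN : Subgroup.normalizer ((cj m T1 : Subgroup G) : Set G) ≤ core2 S :=
    normalizer_le_core2 S hmS (map_conj_mono (le_inf hUT hUM) m) (isKleinFour_cj m hU)
  have hN1 : Subgroup.normalizer (T1 : Set G) ≤ core2 S := by
    intro x hx
    have h1 : m * x * m⁻¹ ∈ Subgroup.normalizer ((cj m T1 : Subgroup G) : Set G) := by
      have := Subgroup.map_equiv_normalizer_eq T1 (MulAut.conj m)
      rw [← this]
      exact conj_mem_map_conj m hx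
    have h2 := hN h1
    have h3 : x = m⁻¹ * (m * x * m⁻¹) * m := by group
    rw [h3]
    exact (core2 S).mul_mem ((core2 S).mul_mem ((core2 S).inv_mem hm) h2) hm
  have h4 : T ⊓ Subgroup.normalizer (T1 : Set G) = T1 := by
    apply le_antisymm
    · exact le_inf inf_le_left (inf_le_right.trans hN1)
    · exact le_inf inf_le_left Subgroup.le_normalizer
  have h5 : T = T1 := eq_of_inf_normalizer_eq hT inf_le_left h4
  rw [h5]
  exact inf_le_right

theorem exists_core2_conj_of_conn {U0 : Subgroup G} (hU0 : IsKleinFour U0)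
    (hU0S : U0 ≤ (S : Subgroup G)) {V : Subgroup G} (h : Conn U0 V) :
    ∃ m ∈ core2 S, cj m V ≤ (S : Subgroup G) := by
  induction h with
  | refl => exact ⟨1, (core2 S).one_mem, by rw [cj_one]; exact hU0S⟩
  | @tail B C _ hbc ih =>
    obtain ⟨m, hm, hmS⟩ := ih
    have hadj := hbc.cj m
    have hW : IsKleinFour (cj m B) := hadj.1
    have hC'M : cj m C ≤ core2 S := by
      refine le_trans ?_ (normalizer_le_core2 S hmS le_rfl hW)
      refine le_trans ?_ (Subgroup.centralizer_le_normalizer ((cj m B : Subgroup G) : Set G))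
      intro c hc
      rw [Subgroup.mem_centralizer_iff]
      intro w hw
      exact hadj.2.2 w hw c hc
    obtain ⟨m', hm', hm'S⟩ := exists_cj_le_of_le_core2 S hU0 hU0S
      (isPGroup_of_isKleinFour hadj.2.1) hC'M
    refine ⟨m' * m, (core2 S).mul_mem hm' hm, ?_⟩
    rw [← cj_cj]
    exact hm'S

theorem mem_core2_of_cj_le {U0 : Subgroup G} (hU0 : IsKleinFour U0)
    (hU0S : U0 ≤ (S : Subgroup G)) {x : G} (hx : cj x U0 ≤ (S : Subgroup G)) :
    x ∈ core2 S := by
  have hSM := sylow_le_core2 S hU0 hU0S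
  have hU0T : U0 ≤ cj x⁻¹ (S : Subgroup G) := by
    have : cj x⁻¹ (cj x U0) ≤ cj x⁻¹ (S : Subgroup G) := map_conj_mono hx x⁻¹
    rwa [cj_inv_cj] at this
  have hTp : IsPGroup 2 (cj x⁻¹ (S : Subgroup G)) := isPGroup_map_conj S.isPGroup' x⁻¹
  have hTM : cj x⁻¹ (S : Subgroup G) ≤ core2 S :=
    le_core2_of_four S hU0 hU0S hTp hU0 hU0T (hU0S.trans hSM)
  have hT1 : IsSylowIn 2 (cj x⁻¹ (S : Subgroup G)) ⊤ := by
    have := (isSylowIn_top S).map_conj x⁻¹
    rwa [map_conj_eq_self_of_mem (Subgroup.mem_top _)] at this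
  have hT2 : IsSylowIn 2 (cj x⁻¹ (S : Subgroup G)) (core2 S) := hT1.of_le hTM le_top
  obtain ⟨k, hk, hkeq⟩ := hT2.exists_conj (isSylowIn_of_sylow_le S hSM)
  change cj k (cj x⁻¹ (S : Subgroup G)) = S at hkeq
  rw [cj_cj] at hkeq
  have h1 : k * x⁻¹ ∈ Subgroup.normalizer ((S : Subgroup G) : Set G) :=
    mem_normalizer_of_map_conj_eq hkeq
  have h2 : k * x⁻¹ ∈ core2 S := normalizer_le_core2 S le_rfl hU0S hU0 h1
  have h3 : x = (k * x⁻¹)⁻¹ * k := by group
  rw [h3]
  exact (core2 S).mul_mem ((core2 S).inv_mem h2) hk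

theorem core2_eq_top_of_connected {U0 : Subgroup G} (hU0 : IsKleinFour U0)
    (hU0S : U0 ≤ (S : Subgroup G)) (hconn : Cfsg.IsFourConnected G) : core2 S = ⊤ := by
  rw [eq_top_iff]
  intro g _
  have h1 : Conn U0 (cj g U0) := hconn U0 (cj g U0) hU0 (isKleinFour_cj g hU0)
  obtain ⟨m, hm, hmS⟩ := exists_core2_conj_of_conn S hU0 hU0S h1
  rw [cj_cj] at hmS
  have h2 := mem_core2_of_cj_le S hU0 hU0S hmS
  have h3 : g = m⁻¹ * (m * g) := by group
  rw [h3]
  exact (core2 S).mul_mem ((core2 S).inv_mem hm) h2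

/-- the stabilizer of the connected component of `U0` -/
def stabComp (U0 : Subgroup G) : Subgroup G where
  carrier := {g | ∀ V : Subgroup G, Conn U0 V ↔ Conn U0 (cj g V)}
  one_mem' := by
    intro V
    rw [cj_one]
  mul_mem' := by
    intro g h hg hh V
    rw [← cj_cj]
    exact (hh V).trans (hg (cj h V))
  inv_mem' := by
    intro g hg V
    have := hg (cj g⁻¹ V)
    rw [cj_cj_inv] at this
    exact this.symm

theorem normalizer_le_stabComp (hS : Cfsg.IsFourConnected (S : Subgroup G)) {U0 : Subgroup G}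
    (hU0 : IsKleinFour U0) (hU0S : U0 ≤ (S : Subgroup G)) {Q W : Subgroup G}
    (hQS : Q ≤ (S : Subgroup G)) (hWQ : W ≤ Q) (hW : IsKleinFour W) :
    Subgroup.normalizer (Q : Set G) ≤ stabComp U0 := by
  intro g hg V
  have hgW : cj g W ≤ (S : Subgroup G) := by
    have := map_conj_mono hWQ g
    rw [map_conj_eq_of_mem_normalizer hg] at this
    exact this.trans hQS
  have c1 : Conn U0 W := conn_of_isFourConnected_subgroup hS hU0 hW hU0S (hWQ.trans hQS)
  have c2 : Conn U0 (cj g W) :=
    conn_of_isFourConnected_subgroup hS hU0 (isKleinFour_cj g hW) hU0S hgW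
  constructor
  · intro h
    have h1 : Conn W V := c1.symm.trans h
    exact c2.trans (h1.cj g)
  · intro h
    have h1 : Conn (cj g W) (cj g V) := c2.symm.trans h
    have h2 := h1.cj g⁻¹
    rw [cj_inv_cj, cj_inv_cj] at h2
    exact c1.trans h2

theorem connected_of_core2_eq_top (hS : Cfsg.IsFourConnected (S : Subgroup G)) {U0 : Subgroup G}
    (hU0 : IsKleinFour U0) (hU0S : U0 ≤ (S : Subgroup G)) (htop : core2 S = ⊤) :
    Cfsg.IsFourConnected G := by
  have hle : core2 S ≤ stabComp U0 := by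
    refine iSup_le ?_
    rintro ⟨Q, hQS, hQ⟩
    obtain ⟨W, hWQ, hW⟩ := (not_pRankLE_subgroup_iff Q).1 hQ
    exact normalizer_le_stabComp S hS hU0 hU0S hQS hWQ hW
  have hall : ∀ V : Subgroup G, IsKleinFour V → Conn U0 V := by
    intro V hV
    obtain ⟨g, hg⟩ := exists_cj_le_sylow S (isPGroup_of_isKleinFour hV)
    have h1 : Conn U0 (cj g V) :=
      conn_of_isFourConnected_subgroup hS hU0 (isKleinFour_cj g hV) hU0S hg
    have hgmem : g ∈ stabComp U0 := hle (htop ▸ Subgroup.mem_top g)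
    exact (hgmem V).2 h1
  intro U V hU hV
  exact (hall U hU).symm.trans (hall V hV)

end main

/-- Let G be a finite group of 2-rank at least 2 and S a Sylow 2-subgroup whose commuting graph of Klein four-subgroups is
connected. Then the commuting graph of Klein four-subgroups of G is disconnected if and only if the 2-generated core — the
subgroup generated by the normalizers N_G(Q) of the subgroups Q of S that contain a Klein four-group — is a proper
subgroup of G. -/
theorem result {G : Type*} [Group G] [Finite G] (h2 : ¬ Cfsg.PRankLE 2 1 G)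
    (S : Sylow 2 G) (hS : Cfsg.IsFourConnected (S : Subgroup G)) :
    ¬ Cfsg.IsFourConnected G ↔
      (⨆ Q : {Q : Subgroup G // Q ≤ (S : Subgroup G) ∧ ¬ Cfsg.PRankLE 2 1 Q},
          Subgroup.normalizer ((Q : Subgroup G) : Set G)) ≠ ⊤ := by
  obtain ⟨A0, hA0⟩ := not_pRankLE_iff.1 h2
  obtain ⟨g, hg⟩ := exists_cj_le_sylow S (isPGroup_of_isKleinFour hA0)
  have hU0 : IsKleinFour (cj g A0) := isKleinFour_cj g hA0
  change ¬ Cfsg.IsFourConnected G ↔ core2 S ≠ ⊤
  constructor
  · intro h htop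
    exact h (connected_of_core2_eq_top S hS hU0 hg htop)
  · intro h hconn
    exact h (core2_eq_top_of_connected S hU0 hg hconn)

end Cfsg.Agent.S0520
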