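import Mathlib
import Cfsg.Statements.S0521
import Cfsg.Agent.Lib.Helper8.OddStable
import Cfsg.Agent.Lib.Helper16.Solvable2
import Cfsg.Agent.Lib.Helper16.InvCentQuot
import Cfsg.Agent.Lib.Helper9.PPrimeCoreSub
import Cfsg.Agent.Lib.Helper21.PGroupFrattini
import Cfsg.Agent.Lib.Helper23.BurnsideFrattini
import Cfsg.Agent.Lib.Helper20.PrimaryParts
import Cfsg.Agent.Lib.Helper14.Basic
import Cfsg.Agent.Lib.Helper7.Cores

set_option autoImplicit false
open Cfsg

namespace Cfsg.Agent.S0521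

universe u

section

variable {X : Type u} [Group X]

/-- The image of a subgroup with cyclic commutator subgroup has cyclic commutator subgroup. -/
theorem isCyclic_commutator_map {Y : Type*} [Group Y] (f : X →* Y) (S : Subgroup X)
    (h : IsCyclic (commutator S)) : IsCyclic (commutator (S.map f)) := by
  have hs : Function.Surjective (f.subgroupMap S) := f.subgroupMap_surjective S
  have e : commutator (S.map f) = (commutator S).map (f.subgroupMap S) := by
    rw [commutator_def, commutator_def, Subgroup.map_commutator,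
      Subgroup.map_top_of_surjective _ hs]
  rw [e]
  exact isCyclic_of_surjective ((f.subgroupMap S).subgroupMap (commutator S))
    ((f.subgroupMap S).subgroupMap_surjective (commutator S))

/-- If the image of `S` in `X ⧸ N` is normal then `N ⊔ S` is normal. -/
theorem normal_sup_of_map_normal (N S : Subgroup X) [N.Normal]
    (h : (S.map (QuotientGroup.mk' N)).Normal) : (N ⊔ S).Normal := by
  rw [← QuotientGroup.comap_map_mk']
  exact h.comap _

/-- An element with `s c s⁻¹ = c ^ j` conjugates every `p`-torsion power of `c` to itself,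
if `s` is a `p`-element. -/
theorem commute_of_conj_pow {p : ℕ} [hp : Fact p.Prime] {s c r : X} {j k : ℕ}
    (hsc : s * c * s⁻¹ = c ^ j) (hs : s ^ p ^ k = 1) (hr : r ∈ Subgroup.zpowers c)
    (hrp : r ^ p = 1) : s * r = r * s := by
  obtain ⟨i, rfl⟩ := Subgroup.mem_zpowers_iff.mp hr
  have h1 : s * c ^ i * s⁻¹ = (c ^ i) ^ j := by
    rw [← conj_zpow, hsc, ← zpow_natCast, ← zpow_natCast, ← zpow_mul, ← zpow_mul, mul_comm]
  have h2 : ∀ n : ℕ, s ^ n * c ^ i * (s ^ n)⁻¹ = (c ^ i) ^ (j ^ n) := by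
    intro n
    induction n with
    | zero => simp
    | succ n ih =>
      have e : s ^ (n + 1) * c ^ i * (s ^ (n + 1))⁻¹ = s * (s ^ n * c ^ i * (s ^ n)⁻¹) * s⁻¹ := by
        rw [pow_succ']; group
      rw [e, ih, ← conj_pow, h1, ← pow_mul, ← pow_succ']
  have h3 := h2 (p ^ k)
  rw [hs, one_mul, inv_one, mul_one] at h3
  -- `j ^ (p ^ k) ≡ j mod p`
  have h4 : (j ^ p ^ k : ℕ) ≡ j [MOD p] := by
    rw [← ZMod.natCast_eq_natCast_iff]
    push_cast
    exact ZMod.pow_card_pow (j : ZMod p)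
  have h5 : (c ^ i) ^ (j ^ p ^ k) = (c ^ i) ^ j := by
    have hord : orderOf (c ^ i) ∣ p := orderOf_dvd_of_pow_eq_one hrp
    rw [pow_eq_pow_iff_modEq]
    exact h4.of_dvd hord
  rw [h5] at h3
  have h6 : s * c ^ i * s⁻¹ = c ^ i := by rw [h1, ← h3]
  calc s * c ^ i = (s * c ^ i * s⁻¹) * s := by group
    _ = c ^ i * s := by rw [h6]

theorem mem_of_mk_mem_pCore {p : ℕ} (C P : Subgroup X) [hC : C.Normal] [hPn : P.Normal]
    (hCP : C = P) (hP : P = Cfsg.pCore p X) (a : X)
    (h : (QuotientGroup.mk a : X ⧸ C) ∈ Cfsg.pCore p (X ⧸ C)) : a ∈ P := by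
  subst hCP
  subst hP
  rw [Cfsg.Agent.Helper16.pCore_quotient_pCore_eq_bot p, Subgroup.mem_bot] at h
  exact (QuotientGroup.eq_one_iff a).mp h

/-- The case `O_{p'}(X) = 1`, `Φ(O_p(X)) = 1`: the Sylow `p`-subgroup is `O_p(X)`. -/
theorem sylow_le_pCore_of_frattini_eq_bot [Finite X] [Group.IsSolvable X]
    (hodd : Odd (Nat.card X)) {p : ℕ} [hpF : Fact p.Prime] (hp2 : p ≠ 2)
    (hK : Cfsg.pPrimeCore p X = ⊥) (hΦ : frattini (Cfsg.pCore p X) = ⊥) (S : Sylow p X)
    (hS : IsCyclic (commutator (S : Subgroup X))) :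
    (S : Subgroup X) ≤ Cfsg.pCore p X := by
  set P := Cfsg.pCore p X with hPdef
  have hPp : IsPGroup p P := Cfsg.Agent.Helper14.pCore_isPGroup p X
  haveI hPch : P.Characteristic := Cfsg.Agent.Helper7.pCore_characteristic p
  haveI hPn : P.Normal := inferInstance
  have hPS : P ≤ S := Cfsg.Agent.Helper14.pCore_le_sylow S
  have hab : ∀ x ∈ P, ∀ y ∈ P, x * y = y * x := by
    intro x hx y hy
    have h1 := Cfsg.Agent.Helper21.commutator_mem_frattini_of_isPGroup hPp ⟨x, hx⟩ ⟨y, hy⟩
    rw [hΦ, Subgroup.mem_bot] at h1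
    have h2 : x * y * x⁻¹ * y⁻¹ = 1 := by
      have := congrArg Subtype.val h1
      simpa using this
    rw [mul_inv_eq_one] at h2
    calc x * y = (x * y * x⁻¹) * x := by group
      _ = y * x := by rw [h2]
  have hexp : ∀ x ∈ P, x ^ p = 1 := by
    intro x hx
    have h1 := Cfsg.Agent.Helper21.pow_mem_frattini_of_isPGroup hPp ⟨x, hx⟩
    rw [hΦ, Subgroup.mem_bot] at h1
    have := congrArg Subtype.val h1
    simpa using this
  have hCP : Subgroup.centralizer (P : Set X) = P := by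
    apply le_antisymm
    · exact Cfsg.Agent.Helper16.centralizer_pCore_le_of_isSolvable p inferInstance hK
    · intro x hx
      rw [Subgroup.mem_centralizer_iff]
      intro y hy
      exact hab y hy x hx
  -- a generator of `S'`
  obtain ⟨g, hg⟩ := hS.exists_generator
  set c : X := ((g : (S : Subgroup X)) : X) with hc
  have hSS : ∀ y ∈ ⁅(S : Subgroup X), (S : Subgroup X)⁆, y ∈ Subgroup.zpowers c := by
    intro y hy
    rw [← Subgroup.map_subtype_commutator] at hy
    obtain ⟨y', hy', rfl⟩ := hy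
    obtain ⟨i, hi⟩ := Subgroup.mem_zpowers_iff.mp (hg ⟨y', hy'⟩)
    refine Subgroup.mem_zpowers_iff.mpr ⟨i, ?_⟩
    have := congrArg (fun z : commutator (S : Subgroup X) => ((z : (S : Subgroup X)) : X)) hi
    simpa using this
  have hcSS : c ∈ ⁅(S : Subgroup X), (S : Subgroup X)⁆ := by
    rw [← Subgroup.map_subtype_commutator]
    exact ⟨(g : (S : Subgroup X)), g.2, rfl⟩
  intro s hs
  -- `s c s⁻¹` is a power of `c`
  have hscSS : s * c * s⁻¹ ∈ ⁅(S : Subgroup X), (S : Subgroup X)⁆ := by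
    rw [← Subgroup.map_subtype_commutator]
    haveI : (commutator (S : Subgroup X)).Normal := inferInstance
    refine ⟨⟨s, hs⟩ * (g : (S : Subgroup X)) * ⟨s, hs⟩⁻¹,
      (inferInstance : (commutator (S : Subgroup X)).Normal).conj_mem _ g.2 _, ?_⟩
    simp [hc]
  obtain ⟨j, hj⟩ : ∃ j : ℕ, c ^ j = s * c * s⁻¹ := by
    have h1 := hSS _ hscSS
    rw [← mem_powers_iff_mem_zpowers] at h1
    exact (Submonoid.mem_powers_iff _ _).mp h1
  obtain ⟨k, hk⟩ := S.isPGroup' ⟨s, hs⟩
  have hsk : s ^ p ^ k = 1 := by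
    have := congrArg Subtype.val hk
    simpa using this
  have hq : ⁅⁅P, Subgroup.zpowers s⁆, Subgroup.zpowers s⁆ = ⊥ := by
    rw [Subgroup.commutator_eq_bot_iff_le_centralizer]
    intro r hr
    have hrSS : r ∈ ⁅(S : Subgroup X), (S : Subgroup X)⁆ :=
      Subgroup.commutator_mono hPS (Subgroup.zpowers_le.mpr hs) hr
    have hrP : r ∈ P := Subgroup.commutator_le_left P _ hr
    have hcomm : s * r = r * s :=
      commute_of_conj_pow hj.symm hsk (hSS r hrSS) (hexp r hrP)
    rw [Subgroup.mem_centralizer_iff]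
    intro z hz
    obtain ⟨m, rfl⟩ := Subgroup.mem_zpowers_iff.mp hz
    exact (Commute.zpow_left (show Commute s r from hcomm) m).eq
  have hst := Cfsg.Agent.Helper8.OddStable.stab_aux_odd hp2 _ X hodd P hPp rfl s hq
  exact mem_of_mk_mem_pCore (Subgroup.centralizer (P : Set X)) P hCP rfl s hst

/-- If `O_{p'}(X) = 1` then `O_{p'}(X ⧸ Φ(O_p(X))) = 1`. -/
theorem pPrimeCore_quotient_frattini_eq_bot [Finite X] [Group.IsSolvable X] {p : ℕ}
    [hpF : Fact p.Prime] (hK : Cfsg.pPrimeCore p X = ⊥) (Φ : Subgroup X) [hΦn : Φ.Normal]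
    (hΦ : Φ = (frattini (Cfsg.pCore p X)).map (Cfsg.pCore p X).subtype) :
    Cfsg.pPrimeCore p (X ⧸ Φ) = ⊥ := by
  have hp : p.Prime := hpF.out
  set P := Cfsg.pCore p X with hPdef
  have hPp : IsPGroup p P := Cfsg.Agent.Helper14.pCore_isPGroup p X
  haveI hPch : P.Characteristic := Cfsg.Agent.Helper7.pCore_characteristic p
  haveI hPn : P.Normal := inferInstance
  have hCP : Subgroup.centralizer (P : Set X) ≤ P :=
    Cfsg.Agent.Helper16.centralizer_pCore_le_of_isSolvable p inferInstance hK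
  set π := QuotientGroup.mk' Φ with hπ
  have hKc : (Nat.card (Cfsg.pPrimeCore p (X ⧸ Φ))).Coprime p :=
    Cfsg.Agent.Helper22.card_pPrimeCore_coprime p
  haveI hKn : (Cfsg.pPrimeCore p (X ⧸ Φ)).Normal := Cfsg.Agent.Helper22.pPrimeCore_normal p
  have hKpow : ∀ z ∈ Cfsg.pPrimeCore p (X ⧸ Φ),
      z ^ Nat.card (Cfsg.pPrimeCore p (X ⧸ Φ)) = 1 := by
    intro z hz
    have h0 : (⟨z, hz⟩ : Cfsg.pPrimeCore p (X ⧸ Φ)) ^ Nat.card (Cfsg.pPrimeCore p (X ⧸ Φ)) = 1 :=
      pow_card_eq_one'
    have h00 := congrArg Subtype.val h0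
    rw [Subgroup.coe_pow, Subgroup.coe_one] at h00
    exact h00
  rw [eq_bot_iff]
  intro yb hyb
  rw [Subgroup.mem_bot]
  obtain ⟨y, rfl⟩ := QuotientGroup.mk'_surjective Φ yb
  have hyo : (orderOf (π y)).Coprime p :=
    Nat.Coprime.coprime_dvd_left (orderOf_dvd_of_pow_eq_one (hKpow _ hyb)) hKc
  obtain ⟨u, v, hyuv, -, ⟨k, hu⟩, hv, huz, hvz⟩ :=
    Cfsg.Agent.Helper20.exists_pPart_decomp p y (orderOf_pos y)
  have h1 : π u ∈ Subgroup.zpowers (π y) := by
    rw [← MonoidHom.map_zpowers]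
    exact ⟨u, huz, rfl⟩
  have h2 : orderOf (π u) ∣ orderOf (π y) := orderOf_dvd_of_mem_zpowers h1
  have h3 : orderOf (π u) ∣ p ^ k := hu ▸ orderOf_map_dvd π u
  have h4 : orderOf (π u) = 1 :=
    Nat.eq_one_of_dvd_coprimes (Nat.Coprime.pow_right k hyo) h2 h3
  rw [orderOf_eq_one_iff] at h4
  have h5 : π y = π v := by rw [hyuv, map_mul, h4, one_mul]
  -- `v` centralizes `P`
  have hvK : π v ∈ Cfsg.pPrimeCore p (X ⧸ Φ) := h5 ▸ hyb
  have hAK : ∀ a ∈ Subgroup.zpowers v, π a ∈ Cfsg.pPrimeCore p (X ⧸ Φ) := by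
    intro a ha
    obtain ⟨m, rfl⟩ := Subgroup.mem_zpowers_iff.mp ha
    rw [map_zpow]
    exact Subgroup.zpow_mem _ hvK m
  have hAcop : (Nat.card (Subgroup.zpowers v)).Coprime p := by
    rw [Nat.card_zpowers]; exact hv
  have hAΦ : Subgroup.zpowers v ≤
      Subgroup.normalizer (((frattini P).map P.subtype : Subgroup X) : Set X) := by
    rw [← hΦ, Subgroup.normalizer_eq_top]
    exact le_top
  have hact : ∀ a ∈ Subgroup.zpowers v, ∀ r ∈ P,
      a * r * a⁻¹ * r⁻¹ ∈ (frattini P).map P.subtype := by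
    intro a ha r hr
    rw [← hΦ]
    have hxP : a * r * a⁻¹ * r⁻¹ ∈ P := mul_mem (hPn.conj_mem r hr a) (inv_mem hr)
    have hxK : π (a * r * a⁻¹ * r⁻¹) ∈ Cfsg.pPrimeCore p (X ⧸ Φ) := by
      have e : π (a * r * a⁻¹ * r⁻¹) = π a * (π r * (π a)⁻¹ * (π r)⁻¹) := by
        simp only [map_mul, map_inv]; group
      rw [e]
      exact mul_mem (hAK a ha) (hKn.conj_mem _ (inv_mem (hAK a ha)) _)
    obtain ⟨m, hm⟩ := hPp ⟨_, hxP⟩
    have hm' : (a * r * a⁻¹ * r⁻¹) ^ p ^ m = 1 := by
      have := congrArg Subtype.val hm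
      simpa using this
    have h6 : (π (a * r * a⁻¹ * r⁻¹)) ^ p ^ m = 1 := by rw [← map_pow, hm', map_one]
    have h7 := hKpow _ hxK
    have h8 : π (a * r * a⁻¹ * r⁻¹) = 1 :=
      Cfsg.Agent.Helper14.eq_one_of_pow_eq_one_of_coprime h6 h7
        (Nat.Coprime.pow_left m hKc.symm)
    rw [hπ, QuotientGroup.mk'_apply, QuotientGroup.eq_one_iff] at h8
    exact h8
  have hcent := Cfsg.Agent.Helper23.centralizes_of_frattini P hPp (Subgroup.zpowers v) hAcop
    inferInstance hAΦ hact
  have hvC : v ∈ Subgroup.centralizer (P : Set X) := by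
    rw [Subgroup.mem_centralizer_iff]
    intro r hr
    have := Subgroup.mem_centralizer_iff.mp (hcent hr) v (Subgroup.mem_zpowers v)
    exact this.symm
  have hvP : v ∈ P := hCP hvC
  obtain ⟨m, hm⟩ := hPp ⟨v, hvP⟩
  have hm' : v ^ p ^ m = 1 := by
    have := congrArg Subtype.val hm
    simpa using this
  have hv1 : v = 1 :=
    Cfsg.Agent.Helper14.eq_one_of_pow_eq_one_of_coprime hm' (pow_orderOf_eq_one v)
      (Nat.Coprime.pow_left m hv.symm)
  rw [h5, hv1, map_one]

theorem card_quotient_lt' [Finite X] (N : Subgroup X) [N.Normal] (hN : N ≠ ⊥) :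
    Nat.card (X ⧸ N) < Nat.card X := by
  rw [← Subgroup.index_eq_card, ← N.card_mul_index]
  have h1 : 1 < Nat.card N := by
    rw [Subgroup.one_lt_card_iff_ne_bot]; exact hN
  have h2 : 0 < N.index := Nat.pos_of_ne_zero N.index_ne_zero_of_finite
  nlinarith

theorem odd_card_quotient [Finite X] (N : Subgroup X) [N.Normal] (hodd : Odd (Nat.card X)) :
    Odd (Nat.card (X ⧸ N)) := by
  refine Odd.of_dvd_nat hodd ?_
  rw [← Subgroup.index_eq_card]
  exact Subgroup.index_dvd_card N

end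

theorem aux {p : ℕ} [hpF : Fact p.Prime] (hp2 : p ≠ 2) (n : ℕ) : ∀ (X : Type u) [Group X]
    [Finite X] [Group.IsSolvable X], Nat.card X = n → Odd (Nat.card X) → ∀ S : Sylow p X,
    IsCyclic (commutator (S : Subgroup X)) →
    (Cfsg.pPrimeCore p X ⊔ (S : Subgroup X)).Normal := by
  induction n using Nat.strong_induction_on with
  | _ n ih =>
  intro X _ _ _ hcard hodd S hS
  by_cases hK : Cfsg.pPrimeCore p X = ⊥
  · rw [hK, bot_sup_eq]
    haveI hPch : (Cfsg.pCore p X).Characteristic := Cfsg.Agent.Helper7.pCore_characteristic p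
    haveI hPn : (Cfsg.pCore p X).Normal := inferInstance
    have hPS : Cfsg.pCore p X ≤ S := Cfsg.Agent.Helper14.pCore_le_sylow S
    by_cases hΦ0 : (frattini (Cfsg.pCore p X)).map (Cfsg.pCore p X).subtype = ⊥
    · have hfr : frattini (Cfsg.pCore p X) = ⊥ := by
        rw [eq_bot_iff]
        intro x hx
        have h1 : (x : X) ∈ (frattini (Cfsg.pCore p X)).map (Cfsg.pCore p X).subtype :=
          ⟨x, hx, rfl⟩
        rw [hΦ0, Subgroup.mem_bot] at h1
        rw [Subgroup.mem_bot]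
        exact Subtype.ext h1
      have hSP := sylow_le_pCore_of_frattini_eq_bot hodd hp2 hK hfr S hS
      have hEq : (S : Subgroup X) = Cfsg.pCore p X := le_antisymm hSP hPS
      rw [hEq]
      exact hPn
    · haveI hΦn : ((frattini (Cfsg.pCore p X)).map (Cfsg.pCore p X).subtype).Normal :=
        ConjAct.normal_of_characteristic_of_normal
      have hlt : Nat.card (X ⧸ (frattini (Cfsg.pCore p X)).map (Cfsg.pCore p X).subtype) < n :=
        hcard ▸ card_quotient_lt' _ hΦ0
      have hYodd := odd_card_quotient ((frattini (Cfsg.pCore p X)).map (Cfsg.pCore p X).subtype) hodd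
      have hYK := pPrimeCore_quotient_frattini_eq_bot hK
        ((frattini (Cfsg.pCore p X)).map (Cfsg.pCore p X).subtype) rfl
      have hSb : IsCyclic (commutator ((S.mapSurjective (QuotientGroup.mk'_surjective
          ((frattini (Cfsg.pCore p X)).map (Cfsg.pCore p X).subtype)) : Sylow p _) :
          Subgroup (X ⧸ (frattini (Cfsg.pCore p X)).map (Cfsg.pCore p X).subtype))) := by
        rw [Sylow.coe_mapSurjective]
        exact isCyclic_commutator_map _ _ hS
      have h := ih _ hlt _ rfl hYodd _ hSb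
      rw [hYK, bot_sup_eq, Sylow.coe_mapSurjective] at h
      have h2 := normal_sup_of_map_normal _ (S : Subgroup X) h
      have hΦS : (frattini (Cfsg.pCore p X)).map (Cfsg.pCore p X).subtype ≤ (S : Subgroup X) :=
        (Subgroup.map_subtype_le _).trans hPS
      rwa [sup_eq_right.mpr hΦS] at h2
  · haveI hKn : (Cfsg.pPrimeCore p X).Normal := Cfsg.Agent.Helper22.pPrimeCore_normal p
    have hlt : Nat.card (X ⧸ Cfsg.pPrimeCore p X) < n := hcard ▸ card_quotient_lt' _ hK
    have hYodd := odd_card_quotient (Cfsg.pPrimeCore p X) hodd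
    have hYK := Cfsg.Agent.Helper9.pPrimeCore_quotient_eq_bot (X := X) p
    have hSb : IsCyclic (commutator ((S.mapSurjective (QuotientGroup.mk'_surjective
        (Cfsg.pPrimeCore p X)) : Sylow p _) : Subgroup (X ⧸ Cfsg.pPrimeCore p X))) := by
      rw [Sylow.coe_mapSurjective]
      exact isCyclic_commutator_map _ _ hS
    have h := ih _ hlt _ rfl hYodd _ hSb
    rw [hYK, bot_sup_eq, Sylow.coe_mapSurjective] at h
    exact normal_sup_of_map_normal _ (S : Subgroup X) h


/-- Let X be a finite solvable group of odd order, p a prime and S a Sylow p-subgroup of X whose commutator subgroup is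
cyclic. Then the product of the largest normal subgroup of X of order prime to p with S is a normal subgroup of X. -/
theorem result {X : Type*} [Group X] [Finite X] [Group.IsSolvable X]
    (hX : Odd (Nat.card X)) (p : ℕ) [Fact p.Prime] (S : Sylow p X) (hS : IsCyclic (commutator (S : Subgroup X))) :
    (Cfsg.pPrimeCore p X ⊔ (S : Subgroup X)).Normal := by
  by_cases hp2 : p = 2
  · -- the Sylow `2`-subgroup of a group of odd order is trivial
    subst hp2
    have hS1 : (S : Subgroup X) = ⊥ := by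
      rw [← Subgroup.card_eq_one]
      obtain ⟨k, hk⟩ := IsPGroup.iff_card.mp S.isPGroup'
      have hdvd : Nat.card (S : Subgroup X) ∣ Nat.card X := Subgroup.card_subgroup_dvd_card _
      rw [hk] at hdvd ⊢
      rcases Nat.eq_zero_or_pos k with h0 | h0
      · rw [h0, pow_zero]
      · exfalso
        have h2 : 2 ∣ Nat.card X := (dvd_pow_self 2 h0.ne').trans hdvd
        exact (Nat.not_even_iff_odd.mpr hX) (even_iff_two_dvd.mpr h2)
    rw [hS1, sup_bot_eq]
    exact Cfsg.Agent.Helper22.pPrimeCore_normal 2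
  · exact aux hp2 _ X rfl hX S hS

end Cfsg.Agent.S0521
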