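import Mathlib
import Cfsg.Statements.S0522
import Cfsg.Agent.Lib.Helper14.TransCore2
import Cfsg.Agent.Lib.Helper14.BGTransG
import Cfsg.Agent.Lib.Helper10.PSolvBalance
import Cfsg.Agent.Lib.Helper7.PConstrained

set_option autoImplicit false
open Cfsg

namespace Cfsg.Agent.S0522

/-- Transitivity Theorem (odd-order setting). Let X be a finite group of odd order in which the normalizer of every
nontrivial p-subgroup is solvable, P a Sylow p-subgroup, and B an abelian subgroup of P, normalized by P, with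
C_P(B) = B and containing an elementary abelian subgroup of order p^3. Then for every prime q ≠ p, any two q-subgroups
that are maximal among the q-subgroups normalized by B are conjugate by an element of the centralizer of B. -/
theorem result {X : Type*} [Group X] [Finite X] (hX : Odd (Nat.card X)) (p : ℕ)
    [Fact p.Prime] (hloc : ∀ T : Subgroup X, IsPGroup p T → T ≠ ⊥ → Group.IsSolvable (Subgroup.normalizer (T : Set X)))
    (P : Sylow p X) (B : Subgroup X) (hBP : B ≤ (P : Subgroup X))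
    (hBn : ∀ x ∈ (P : Subgroup X), ∀ b ∈ B, x * b * x⁻¹ ∈ B) (hBa : IsMulCommutative B)
    (hBc : (P : Subgroup X) ⊓ Subgroup.centralizer (B : Set X) = B)
    (hB3 : ∃ E : Subgroup X, E ≤ B ∧ (∀ e ∈ E, e ^ p = 1) ∧ p ^ 3 ≤ Nat.card E)
    (q : ℕ) [Fact q.Prime] (hqp : q ≠ p) (Q₁ Q₂ : Subgroup X)
    (h₁ : IsPGroup q Q₁ ∧ B ≤ Subgroup.normalizer (Q₁ : Set X) ∧
      ∀ R : Subgroup X, IsPGroup q R → B ≤ Subgroup.normalizer (R : Set X) → Q₁ ≤ R → R = Q₁)
    (h₂ : IsPGroup q Q₂ ∧ B ≤ Subgroup.normalizer (Q₂ : Set X) ∧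
      ∀ R : Subgroup X, IsPGroup q R → B ≤ Subgroup.normalizer (R : Set X) → Q₂ ≤ R → R = Q₂) :
    ∃ c ∈ Subgroup.centralizer (B : Set X), Q₂ = Q₁.map (MulAut.conj c).toMonoidHom := by
  classical
  have hpp := (Fact.out : p.Prime)
  obtain ⟨E, hEB, hEexp, hE3⟩ := hB3
  have hBcomm : ∀ a ∈ B, ∀ b ∈ B, a * b = b * a := by
    intro a ha b hb
    have := hBa.is_comm.comm ⟨a, ha⟩ ⟨b, hb⟩
    exact congrArg Subtype.val this
  have hBp : IsPGroup p ↥B := P.isPGroup'.to_le hBP
  have hEel : IsElementaryAbelian p E := by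
    refine ⟨⟨⟨?_⟩⟩, hEexp⟩
    rintro ⟨a, ha⟩ ⟨b, hb⟩
    exact Subtype.ext (hBcomm a (hEB ha) b (hEB hb))
  -- p is odd
  have hpdvd : p ∣ Nat.card X := by
    have h1 : p ∣ Nat.card ↥E := by
      obtain ⟨k, hk⟩ := (hBp.to_le hEB).exists_card_eq
      rw [hk] at hE3 ⊢
      have hk0 : k ≠ 0 := by
        rintro rfl
        have h2 : 2 ≤ p := hpp.two_le
        have : 2 ^ 3 ≤ p ^ 3 := Nat.pow_le_pow_left h2 3
        rw [pow_zero] at hE3
        omega
      exact dvd_pow_self p hk0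
    exact h1.trans (Subgroup.card_subgroup_dvd_card E)
  have hp2 : p ≠ 2 := by
    rintro rfl
    have := hX
    rw [Nat.odd_iff] at this
    omega
  have hB1 : B ≠ ⊥ := by
    rintro rfl
    have hE' : E = ⊥ := le_bot_iff.mp hEB
    rw [hE', Subgroup.card_bot] at hE3
    have h2 : 2 ≤ p := hpp.two_le
    have : 2 ^ 3 ≤ p ^ 3 := Nat.pow_le_pow_left h2 3
    omega
  have hscn : IsSCN (P : Subgroup X) B := by
    refine ⟨hBP, ?_, hBc⟩
    intro x hx
    exact Cfsg.Agent.Helper7.mem_normalizer_of_forall_conj_mem (fun b hb => hBn x hx b hb)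
  have hfull : ∀ x ∈ Subgroup.centralizer (B : Set X), IsPGroup p ↥(Subgroup.zpowers x) → x ∈ B :=
    fun x hx hxp => Cfsg.Agent.Helper14.BGTrans.mem_of_mem_centralizer_of_scn P hscn hx hxp
  have key := Cfsg.Agent.Helper14.TransCore.transitivity_of_local (p := p) (q := q) hqp B hBp hBcomm hB1
    E hEB hEel hE3 (Subgroup.centralizer (B : Set X)) le_rfl ?_ inf_le_right
    (Q₁ := Q₁) (Q₂ := Q₂)
    (Cfsg.Agent.Helper14.BGTrans.mem_maxInvSubgroups_top_iff.mpr ⟨⟨h₁.1, h₁.2.1⟩, h₁.2.2⟩)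
    (Cfsg.Agent.Helper14.BGTrans.mem_maxInvSubgroups_top_iff.mpr ⟨⟨h₂.1, h₂.2.1⟩, h₂.2.2⟩)
  · obtain ⟨c, hc, hcq⟩ := key
    exact ⟨c, hc, hcq.symm⟩
  · intro T hTB hT1 U hUT hU hBU
    have hs := hloc T (hBp.to_le hTB) hT1
    have hcon : IsPConstrained p ↥(Subgroup.normalizer (T : Set X)) :=
      (Cfsg.Agent.Helper7.isPConstrained_iff_centralizer_le p).mpr
        (Cfsg.Agent.Helper10.centralizer_pCore_quotient_le_of_isSolvable p hs)
    have hBT : B ≤ Subgroup.normalizer (T : Set X) := by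
      intro b hb
      apply Cfsg.Agent.Helper7.mem_normalizer_of_forall_conj_mem
      intro t ht
      have : b * t * b⁻¹ = t := by
        rw [hBcomm b hb t (hTB ht)]; group
      rw [this]; exact ht
    exact Cfsg.Agent.Helper14.TransCore.le_pcoreOf_of_inv p hp2 _ hcon B hBT hBp hfull U hUT hU hBU

end Cfsg.Agent.S0522
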