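import Mathlib
import Cfsg.Statements.S0533
import Cfsg.Agent.Lib.Helper3.Supersolvable5
import Cfsg.Agent.Lib.Helper3.Supersolvable3
import Cfsg.Agent.Lib.Helper3.CLT
import Cfsg.Agent.Lib.Helper21.FittingSubgroup

set_option autoImplicit false
open Pointwise
open Cfsg

namespace Cfsg.Agent.S0533

open Cfsg.Agent.Helper3

universe u

theorem aux (n : ℕ) : ∀ (G : Type u) [Group G] [Finite G], Nat.card G = n →
    (∀ H : Subgroup G, Cfsg.HasSubgroupOfEveryOrder H) → Cfsg.IsSupersolvable G := by
  induction n using Nat.strong_induction_on with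
  | _ n ih =>
  intro G _ _ hcard h
  classical
  have hnpos : 0 < n := hcard ▸ Nat.card_pos
  by_cases hn1 : n = 1
  · have : Subsingleton G := (Nat.card_eq_one_iff_unique.mp (hcard.trans hn1)).1
    exact isSupersolvable_of_subsingleton
  have hne : (n.primeFactors).Nonempty := Nat.nonempty_primeFactors.mpr (by omega)
  set p := n.primeFactors.max' hne with hpdef
  have hpmem : p ∈ n.primeFactors := Finset.max'_mem _ hne
  have hp : p.Prime := Nat.prime_of_mem_primeFactors hpmem
  have hpn : p ∣ n := Nat.dvd_of_mem_primeFactors hpmem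
  have hmax : ∀ q : ℕ, q.Prime → q ∣ n → q ≤ p := fun q hq hqn =>
    Finset.le_max' _ q (Nat.mem_primeFactors.mpr ⟨hq, hqn, by omega⟩)
  have hpf : Fact p.Prime := ⟨hp⟩
  obtain ⟨P⟩ : Nonempty (Sylow p G) := inferInstance
  have hPn : (P : Subgroup G).Normal := sylow_normal_of_max_prime_aux n G hcard h p hpn hmax P
  obtain ⟨T, hTcard⟩ := exists_card_eq h (n / p) (by rw [hcard]; exact Nat.div_dvd_of_dvd hpn)
  have hnp : n / p * p = n := Nat.div_mul_cancel hpn
  have hnppos : 0 < n / p := Nat.div_pos (Nat.le_of_dvd hnpos hpn) hp.pos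
  have hTidx : T.index = p := by
    have h1 := Subgroup.card_mul_index T
    rw [hTcard, hcard] at h1
    exact Nat.eq_of_mul_eq_mul_left hnppos (h1.trans hnp.symm)
  have hTlt : Nat.card T < n := by
    rw [hTcard]
    exact Nat.div_lt_self hnpos hp.one_lt
  have hTss : Cfsg.IsSupersolvable T :=
    ih (Nat.card T) hTlt T rfl (hasSubgroupOfEveryOrder_subgroup h T)
  have hPcard : Nat.card (P : Subgroup G) = p ^ n.factorization p := by
    rw [← hcard]; exact Sylow.card_eq_multiplicity P
  have hPT : ¬ (P : Subgroup G) ≤ T := by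
    intro hle
    have h1 : Nat.card (P : Subgroup G) ∣ Nat.card T := Subgroup.card_dvd_of_le hle
    rw [hPcard, hTcard] at h1
    have h2 : p ^ (n.factorization p + 1) ∣ n := by
      obtain ⟨c, hc⟩ := h1
      refine ⟨c, ?_⟩
      calc n = n / p * p := hnp.symm
        _ = p ^ (n.factorization p + 1) * c := by rw [hc, pow_succ]; ring
    exact Nat.pow_succ_factorization_not_dvd hnpos.ne' hp h2
  have hsup : (P : Subgroup G) ⊔ T = ⊤ := by
    have h1 : ((P : Subgroup G) ⊔ T).index ∣ p :=
      (Subgroup.index_dvd_of_le le_sup_right).trans hTidx.dvd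
    rcases (Nat.dvd_prime hp).mp h1 with h2 | h2
    · exact Subgroup.index_eq_one.mp h2
    · exfalso
      apply hPT
      have h3 := Subgroup.card_mul_index ((P : Subgroup G) ⊔ T)
      rw [h2, hcard] at h3
      have h4 : Nat.card ((P : Subgroup G) ⊔ T : Subgroup G) = n / p := by
        have : Nat.card ((P : Subgroup G) ⊔ T : Subgroup G) * p = n / p * p := by rw [h3, hnp]
        exact Nat.eq_of_mul_eq_mul_right hp.pos this
      have h5 : T = (P : Subgroup G) ⊔ T :=
        Subgroup.eq_of_le_of_card_ge le_sup_right (by rw [h4, hTcard])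
      rw [h5]; exact le_sup_left
  set P₂ := T ⊓ (P : Subgroup G) with hP₂
  have hP₂P : P₂ ≤ P := inf_le_right
  have hP₂T : P₂ ≤ T := inf_le_left
  have hrel : P₂.relIndex P = p := by
    rw [hP₂, Subgroup.inf_relIndex_right]
    have h1 : T.relIndex P ∣ p :=
      (Cfsg.Agent.Helper21.relIndex_dvd_index_of_normal_right T (P : Subgroup G)).trans hTidx.dvd
    rcases (Nat.dvd_prime hp).mp h1 with h2 | h2
    · exact absurd (Subgroup.relIndex_eq_one.mp h2) hPT
    · exact h2
  have hvpos : 0 < n.factorization p := by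
    apply Nat.pos_of_ne_zero
    intro h0
    have := (Nat.factorization_eq_zero_iff n p).mp h0
    rcases this with h1 | h1 | h1
    · exact h1 hp
    · exact h1 hpn
    · omega
  have hP₂n : P₂.Normal := by
    rw [← Subgroup.normalizer_eq_top_iff, eq_top_iff, ← hsup]
    apply sup_le
    · have hnorm : (P₂.subgroupOf (P : Subgroup G)).Normal := by
        apply Subgroup.normal_of_index_eq_minFac_card
        have h1 : (P₂.subgroupOf (P : Subgroup G)).index = p := hrel
        rw [h1]
        have h2 : Nat.card (P : Subgroup G) = p ^ n.factorization p := hPcard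
        rw [h2, Nat.Prime.pow_minFac hp hvpos.ne']
      exact (Subgroup.normal_subgroupOf_iff_le_normalizer hP₂P).mp hnorm
    · apply le_normalizer_of_forall_conj_smul_le
      intro t ht x hx
      rw [mem_conj_smul_iff] at hx
      obtain ⟨hx1, hx2⟩ := Subgroup.mem_inf.mp hx
      have e : x = t * (t⁻¹ * x * t) * t⁻¹ := by group
      refine Subgroup.mem_inf.mpr ⟨?_, ?_⟩
      · rw [e]; exact T.mul_mem (T.mul_mem ht hx1) (T.inv_mem ht)
      · rw [e]; exact hPn.conj_mem _ hx2 t
  -- the quotient by `P₂`
  have hq : Cfsg.IsSupersolvable (G ⧸ P₂) := by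
    have hsurj : Function.Surjective (QuotientGroup.mk' P₂) := QuotientGroup.mk'_surjective P₂
    have hP'n : ((P : Subgroup G).map (QuotientGroup.mk' P₂)).Normal :=
      Subgroup.Normal.map hPn _ hsurj
    have hP'card : Nat.card ((P : Subgroup G).map (QuotientGroup.mk' P₂)) = p := by
      have h1 := card_comap_mk' P₂ ((P : Subgroup G).map (QuotientGroup.mk' P₂))
      rw [Subgroup.comap_map_eq, QuotientGroup.ker_mk', sup_of_le_left hP₂P] at h1
      have h2 := card_mul_relIndex_of_le hP₂P
      rw [hrel, h1, mul_comm] at h2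
      have hpos : 0 < Nat.card P₂ := Nat.card_pos
      exact (Nat.eq_of_mul_eq_mul_right hpos h2).symm
    have hP'cyc : IsCyclic ((P : Subgroup G).map (QuotientGroup.mk' P₂)) :=
      isCyclic_of_prime_card hP'card
    have hGP : Cfsg.IsSupersolvable (G ⧸ (P : Subgroup G)) := by
      apply isSupersolvable_of_surjective hTss
        ((QuotientGroup.mk' (P : Subgroup G)).comp T.subtype)
      intro y
      obtain ⟨g, rfl⟩ := QuotientGroup.mk'_surjective (P : Subgroup G) y
      have hg : g ∈ (((P : Subgroup G) ⊔ T : Subgroup G) : Set G) := by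
        rw [hsup]; exact Set.mem_univ _
      rw [Subgroup.normal_mul] at hg
      obtain ⟨x, hx, t, ht, hxt⟩ := Set.mem_mul.mp hg
      refine ⟨⟨t, ht⟩, ?_⟩
      rw [MonoidHom.comp_apply, Subgroup.subtype_apply, ← hxt, map_mul]
      have : QuotientGroup.mk' (P : Subgroup G) x = 1 := (QuotientGroup.eq_one_iff x).mpr hx
      rw [this, one_mul]
    have h3 := isSupersolvable_of_mulEquiv hGP
      (QuotientGroup.quotientQuotientEquivQuotient P₂ (P : Subgroup G) hP₂P).symm
    exact isSupersolvable_of_cyclic_normal_of_quotient _ h3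
  exact isSupersolvable_of_sup p (P : Subgroup G) P₂ T P.isPGroup' hP₂P hP₂T hTss hsup hq

/-- If every subgroup of a finite group has subgroups of all orders dividing its order, then the group is supersolvable. -/
theorem result {G : Type*} [Group G] [Finite G] (h : ∀ H : Subgroup G, Cfsg.HasSubgroupOfEveryOrder H) : Cfsg.IsSupersolvable G :=
  aux _ G rfl h

end Cfsg.Agent.S0533
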