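import Mathlib
import Cfsg.Statements.S0535
import Cfsg.Agent.Lib.Helper3.HallConverse
import Cfsg.Agent.Lib.Helper1.Hall

set_option autoImplicit false
open Cfsg

namespace Cfsg.Agent.S0535

open Cfsg.Agent.Helper3

universe u

theorem aux (n : ℕ) : ∀ (G : Type u) [Group G] [Finite G], Nat.card G = n →
    (∀ H : Subgroup G, H ≠ ⊥ → ∀ p : ℕ, p.Prime → p ∣ Nat.card H →
      ∃ K : Subgroup H, K ≠ ⊤ ∧ ∃ k : ℕ, K.index = p ^ k) → Group.IsSolvable G := by
  induction n using Nat.strong_induction_on with
  | _ n ih =>
  intro G _ _ hcard h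
  apply hall_converse
  intro p hp
  by_cases hpn : p ∣ n
  · have htop : (⊤ : Subgroup G) ≠ ⊥ := by
      intro heq
      have h1 : Nat.card (⊤ : Subgroup G) = 1 := by rw [heq, Subgroup.card_bot]
      rw [Subgroup.card_top, hcard] at h1
      rw [h1] at hpn
      exact hp.one_lt.ne' (Nat.dvd_one.mp hpn)
    obtain ⟨K, hKtop, k, hKk⟩ := h ⊤ htop p hp (by rw [Subgroup.card_top, hcard]; exact hpn)
    set K₀ : Subgroup G := K.map (⊤ : Subgroup G).subtype with hK₀
    have hK₀idx : K₀.index = p ^ k := by
      rw [hK₀, Subgroup.index_map_subtype, Subgroup.index_top, mul_one, hKk]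
    have hK₀top : K₀ ≠ ⊤ := by
      intro heq
      rw [heq, Subgroup.index_top] at hK₀idx
      apply hKtop
      rw [← Subgroup.index_eq_one, hKk, ← hK₀idx]
    have hlt : Nat.card K₀ < n := by
      rw [← hcard]
      by_contra hcon
      exact hK₀top (Subgroup.eq_top_of_card_eq K₀
        (le_antisymm (Subgroup.card_le_card_group K₀) (not_lt.mp hcon)))
    have hK₀sol : Group.IsSolvable K₀ := by
      apply ih _ hlt K₀ rfl
      intro H' hH' q hq hqH'
      set H'' : Subgroup G := H'.map K₀.subtype with hH''
      have hH''ne : H'' ≠ ⊥ := by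
        intro heq
        apply hH'
        exact (Subgroup.map_eq_bot_iff_of_injective H' K₀.subtype_injective).mp heq
      have hcardH'' : Nat.card H'' = Nat.card H' :=
        Subgroup.card_map_of_injective K₀.subtype_injective
      obtain ⟨K'', hK''top, j, hK''j⟩ := h H'' hH''ne q hq (hcardH''.symm ▸ hqH')
      let e : H' ≃* H'' := H'.equivMapOfInjective K₀.subtype K₀.subtype_injective
      refine ⟨K''.comap e.toMonoidHom, ?_, j, ?_⟩
      · intro heq
        apply hK''top
        have h1 := Subgroup.map_comap_eq_self_of_surjective (f := e.toMonoidHom) e.surjective K''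
        rw [heq] at h1
        rw [← h1, ← MonoidHom.range_eq_map, MonoidHom.range_eq_top]
        exact e.surjective
      · rw [Subgroup.index_comap_of_surjective K'' (f := e.toMonoidHom) e.surjective, hK''j]
    have hne : Nat.card K₀ ≠ 0 := Nat.card_pos.ne'
    have hcard' : Nat.card K₀ = (Nat.card K₀ / p ^ (Nat.card K₀).factorization p) *
        p ^ (Nat.card K₀).factorization p := by
      rw [mul_comm]; exact (Nat.ordProj_mul_ordCompl_eq_self (Nat.card K₀) p).symm
    have hcopm : (Nat.card K₀ / p ^ (Nat.card K₀).factorization p).Coprime p :=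
      (Nat.coprime_ordCompl hp hne).symm
    obtain ⟨L, hL⟩ := Cfsg.Agent.Helper1.hall_exists (G := K₀) _ _ hcard'
      (Nat.Coprime.pow_right _ hcopm)
    refine ⟨L.map K₀.subtype, ?_, (Nat.card K₀).factorization p + k, ?_⟩
    · rw [Subgroup.card_map_of_injective K₀.subtype_injective, hL]
      exact hcopm
    · have hLidx : L.index = p ^ (Nat.card K₀).factorization p := by
        have h1 := Subgroup.card_mul_index L
        rw [hL] at h1
        have h2 : (Nat.card K₀ / p ^ (Nat.card K₀).factorization p) * L.index =
            (Nat.card K₀ / p ^ (Nat.card K₀).factorization p) *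
              p ^ (Nat.card K₀).factorization p := h1.trans hcard'
        exact Nat.eq_of_mul_eq_mul_left (Nat.ordCompl_pos p hne) h2
      rw [Subgroup.index_map_subtype, hLidx, hK₀idx, pow_add]
  · refine ⟨⊤, ?_, 0, ?_⟩
    · rw [Subgroup.card_top, hcard]
      exact ((Nat.Prime.coprime_iff_not_dvd hp).mpr hpn).symm
    · rw [Subgroup.index_top, pow_zero]

/-- Suppose that for every nontrivial subgroup H of a finite group and every prime p dividing the order of H there is a proper subgroup of H whose index in H is a power of p. Then the group is solvable. -/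
theorem result {G : Type*} [Group G] [Finite G] (h : ∀ H : Subgroup G, H ≠ ⊥ → ∀ p : ℕ, p.Prime → p ∣ Nat.card H → ∃ K : Subgroup H, K ≠ ⊤ ∧ ∃ k : ℕ, K.index = p ^ k) : Group.IsSolvable G :=
  aux _ G rfl h

end Cfsg.Agent.S0535
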