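import Mathlib
import Cfsg.Statements.S0540
import Cfsg.Agent.Lib.Helper3.Basic
import Cfsg.Agent.Lib.Helper3.Subnormal2

set_option autoImplicit false
open Pointwise
open Cfsg

namespace Cfsg.Agent.S0540

open Cfsg.Agent.Helper3

/-- A uniqueness lemma of zipper type. Let A be a subgroup of a finite group G and U a nonempty family of subgroups. For V in U write S(V) for the set of conjugates of A that lie in V and are subnormal in V. Assume: A belongs to S(V) for every V in U; a member of some S(W) that lies in V belongs to S(V); and for all V, W in U the normalizer of the join of S(V) ∩ S(W) lies in some member of U. Then U has a greatest element. -/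
theorem result {G : Type*} [Group G] [Finite G] (A : Subgroup G) (U : Set (Subgroup G)) (hU : U.Nonempty) (S : Subgroup G → Set (Subgroup G)) (hS : ∀ V B : Subgroup G, B ∈ S V ↔ (∃ g : G, B = MulAut.conj g • A) ∧ B ≤ V ∧ (B.subgroupOf V).IsSubnormal) (h1 : ∀ V ∈ U, A ∈ S V) (h2 : ∀ V ∈ U, ∀ W ∈ U, ∀ B ∈ S W, B ≤ V → B ∈ S V) (h3 : ∀ V ∈ U, ∀ W ∈ U, ∃ X ∈ U, Subgroup.normalizer ((sSup (S V ∩ S W) : Subgroup G) : Set G) ≤ X) : ∃ M ∈ U, ∀ V ∈ U, V ≤ M := by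
  classical
  by_contra hcon
  push Not at hcon
  have hmax : ∀ V ∈ U, ∃ M, V ≤ M ∧ Maximal (· ∈ U) M :=
    fun V hV => (Set.toFinite U).exists_le_maximal hV
  obtain ⟨V₀, hV₀⟩ := hU
  obtain ⟨M₁, hVM₁, hM₁⟩ := hmax V₀ hV₀
  obtain ⟨V', hV'U, hV'⟩ := hcon M₁ hM₁.prop
  obtain ⟨M₂, hVM₂, hM₂⟩ := hmax V' hV'U
  have hne : M₁ ≠ M₂ := by rintro rfl; exact hV' hVM₂
  set Pairs : Set (Subgroup G × Subgroup G) :=
    {p | Maximal (· ∈ U) p.1 ∧ Maximal (· ∈ U) p.2 ∧ p.1 ≠ p.2} with hPairs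
  obtain ⟨⟨U₁, U₂⟩, ⟨hU₁, hU₂, hU₁₂⟩, hbest⟩ :=
    Set.exists_max_image Pairs (fun p => (S p.1 ∩ S p.2).ncard) (Set.toFinite _)
      ⟨(M₁, M₂), hM₁, hM₂, hne⟩
  simp only at hU₁ hU₂ hU₁₂ hbest
  -- closure of S W under conjugation by W
  have hconj : ∀ W : Subgroup G, ∀ B ∈ S W, ∀ x ∈ W, MulAut.conj x • B ∈ S W := by
    intro W B hB x hx
    rw [hS] at hB ⊢
    obtain ⟨⟨g, rfl⟩, hBW, hBsn⟩ := hB
    refine ⟨⟨x * g, by rw [map_mul, mul_smul]⟩, ?_, ?_⟩
    · intro y hy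
      rw [mem_conj_smul_iff] at hy
      have := hBW hy
      have h' : y = x * (x⁻¹ * y * x) * x⁻¹ := by group
      rw [h']
      exact W.mul_mem (W.mul_mem hx this) (W.inv_mem hx)
    · have : (MulAut.conj x • MulAut.conj g • A).subgroupOf W
          = MulAut.conj (⟨x, hx⟩ : W) • ((MulAut.conj g • A).subgroupOf W) := by
        ext y
        simp only [Subgroup.mem_subgroupOf, mem_conj_smul_iff]
        rfl
      rw [this]
      exact hBsn.smul _
  have key : ∀ W₁ W₂ W₃ : Subgroup G, Maximal (· ∈ U) W₁ → Maximal (· ∈ U) W₂ →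
      Maximal (· ∈ U) W₃ →
      (∀ p ∈ Pairs, (S p.1 ∩ S p.2).ncard ≤ (S W₁ ∩ S W₂).ncard) →
      Subgroup.normalizer ((sSup (S W₁ ∩ S W₂) : Subgroup G) : Set G) ≤ W₃ → W₁ = W₃ := by
    intro W₁ W₂ W₃ hW₁ hW₂ hW₃ hb hN
    by_contra hne13
    by_cases hSig : S W₁ ∩ S W₂ = S W₁
    · -- W₁ normalizes the join
      have hle : W₁ ≤ Subgroup.normalizer ((sSup (S W₁ ∩ S W₂) : Subgroup G) : Set G) := by
        rw [hSig]
        apply le_normalizer_of_forall_conj_smul_le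
        intro s hs
        change Subgroup.map (MulAut.conj s).toMonoidHom (sSup (S W₁)) ≤ sSup (S W₁)
        rw [Subgroup.map_le_iff_le_comap]
        apply sSup_le
        intro B hB
        rw [← Subgroup.map_le_iff_le_comap]
        exact le_sSup (hconj W₁ B hB s hs)
      exact hne13 (hW₁.eq_of_le hW₃.prop (hle.trans hN))
    · have hss : S W₁ ∩ S W₂ ⊂ S W₁ := ⟨Set.inter_subset_left, fun h => hSig (le_antisymm Set.inter_subset_left h)⟩
      obtain ⟨X₁, hX₁S, hX₁n, hX₁N⟩ := exists_normalizing_of_ssubset W₁ (S W₁) (S W₁ ∩ S W₂)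
        (fun B hB => ((hS W₁ B).mp hB).2) (hconj W₁) hss
      have hX₁3 : X₁ ∈ S W₃ := h2 W₃ hW₃.prop W₁ hW₁.prop X₁ hX₁S (hX₁N.trans hN)
      have hsub : insert X₁ (S W₁ ∩ S W₂) ⊆ S W₁ ∩ S W₃ := by
        intro B hB
        rcases hB with rfl | hB
        · exact ⟨hX₁S, hX₁3⟩
        · refine ⟨hB.1, h2 W₃ hW₃.prop W₁ hW₁.prop B hB.1 ?_⟩
          exact (le_sSup hB).trans (Subgroup.le_normalizer.trans hN)
      have hc1 := Set.ncard_le_ncard hsub (Set.toFinite _)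
      rw [Set.ncard_insert_of_notMem hX₁n (Set.toFinite _)] at hc1
      have hc2 := hb (W₁, W₃) ⟨hW₁, hW₃, hne13⟩
      simp only at hc2
      omega
  obtain ⟨X, hXU, hNX⟩ := h3 U₁ hU₁.prop U₂ hU₂.prop
  obtain ⟨U₃, hXU₃, hU₃⟩ := hmax X hXU
  have e1 : U₁ = U₃ := key U₁ U₂ U₃ hU₁ hU₂ hU₃ hbest (hNX.trans hXU₃)
  have e2 : U₂ = U₃ := by
    apply key U₂ U₁ U₃ hU₂ hU₁ hU₃
    · intro p hp
      rw [Set.inter_comm (S U₂)]
      exact hbest p hp
    · rw [Set.inter_comm (S U₂)]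
      exact hNX.trans hXU₃
  exact hU₁₂ (e1.trans e2.symm)

end Cfsg.Agent.S0540
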