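import Mathlib
import Cfsg.Statements.S0541
import Cfsg.Agent.Lib.Helper3.Subnormal2

set_option autoImplicit false
open Cfsg
open scoped Pointwise

namespace Cfsg.Agent.S0541

open Cfsg.Agent.Helper3

variable {G : Type*} [Group G]

/-- the subgroup generated by the conjugates of `Z` contained in `T` -/
def gen (Z T : Subgroup G) : Subgroup G :=
  ⨆ g ∈ {g : G | MulAut.conj g • Z ≤ T}, MulAut.conj g • Z

theorem gen_le (Z T : Subgroup G) : gen Z T ≤ T := iSup₂_le (fun _ hg => hg)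

theorem le_gen {Z T : Subgroup G} {g : G} (h : MulAut.conj g • Z ≤ T) :
    MulAut.conj g • Z ≤ gen Z T :=
  le_iSup₂_of_le (f := fun (g : G) (_ : g ∈ {g : G | MulAut.conj g • Z ≤ T}) =>
    MulAut.conj g • Z) g h le_rfl

theorem gen_mono (Z : Subgroup G) {T T' : Subgroup G} (h : T ≤ T') : gen Z T ≤ gen Z T' :=
  iSup₂_le (fun _ hg => le_gen (hg.trans h))

theorem conj_smul_conj_smul (a b : G) (Z : Subgroup G) :
    MulAut.conj a • (MulAut.conj b • Z) = MulAut.conj (a * b) • Z := by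
  rw [smul_smul, ← map_mul]

/-- a join of conjugates of `Z` over an index set stable under left multiplication by `Y` is
normalized by `Y` -/
theorem le_normalizer_iSup (Z Y : Subgroup G) (I : Set G) (hI : ∀ y ∈ Y, ∀ g ∈ I, y * g ∈ I) :
    Y ≤ Subgroup.normalizer ((⨆ g ∈ I, MulAut.conj g • Z : Subgroup G) : Set G) := by
  apply le_normalizer_of_forall_conj_smul_le
  intro c hc
  set B : Subgroup G := ⨆ g ∈ I, MulAut.conj g • Z with hB
  have h1 : B ≤ MulAut.conj c⁻¹ • B := by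
    apply iSup₂_le
    intro g hg
    rw [← Subgroup.pointwise_smul_le_pointwise_smul_iff (a := MulAut.conj c), smul_smul,
      smul_smul, ← map_mul, ← map_mul, mul_inv_cancel, map_one, one_smul]
    exact le_iSup₂_of_le (f := fun (g : G) (_ : g ∈ I) => MulAut.conj g • Z) (c * g)
      (hI c hc g hg) le_rfl
  have h2 := Subgroup.pointwise_smul_le_pointwise_smul_iff (a := MulAut.conj c).mpr h1
  rwa [smul_smul, ← map_mul, mul_inv_cancel, map_one, one_smul] at h2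

theorem le_normalizer_gen [Finite G] (Z Y T : Subgroup G)
    (hYT : Y ≤ Subgroup.normalizer (T : Set G)) :
    Y ≤ Subgroup.normalizer ((gen Z T : Subgroup G) : Set G) := by
  apply le_normalizer_iSup
  intro y hy g hg
  show MulAut.conj (y * g) • Z ≤ T
  rw [← conj_smul_conj_smul, ← conj_smul_eq_of_mem_normalizer (hYT hy)]
  exact Subgroup.pointwise_smul_le_pointwise_smul_iff.mpr hg

/-- the subgroup generated by the `Y`-conjugates of `g Z g⁻¹` -/
def tg (Z Y : Subgroup G) (g : G) : Subgroup G := ⨆ y ∈ Y, MulAut.conj (y * g) • Z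

theorem le_tg (Z Y : Subgroup G) (g : G) {y : G} (hy : y ∈ Y) :
    MulAut.conj (y * g) • Z ≤ tg Z Y g :=
  le_iSup₂_of_le (f := fun (y : G) (_ : y ∈ Y) => MulAut.conj (y * g) • Z) y hy le_rfl

theorem tg_le_gen (Z Y : Subgroup G) (g : G) : tg Z Y g ≤ gen Z (tg Z Y g) :=
  iSup₂_le (fun _ hy => le_gen (le_tg Z Y g hy))

theorem le_normalizer_tg (Z Y : Subgroup G) (g : G) :
    Y ≤ Subgroup.normalizer ((tg Z Y g : Subgroup G) : Set G) := by
  have e : tg Z Y g = ⨆ x ∈ {x : G | ∃ y ∈ Y, x = y * g}, MulAut.conj x • Z := by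
    apply le_antisymm
    · apply iSup₂_le
      intro y hy
      exact le_iSup₂_of_le (f := fun (x : G) (_ : x ∈ {x : G | ∃ y ∈ Y, x = y * g}) =>
        MulAut.conj x • Z) (y * g) ⟨y, hy, rfl⟩ le_rfl
    · apply iSup₂_le
      rintro x ⟨y, hy, rfl⟩
      exact le_tg Z Y g hy
  rw [e]
  apply le_normalizer_iSup
  rintro y' hy' x ⟨y, hy, rfl⟩
  exact ⟨y' * y, Y.mul_mem hy' hy, by group⟩

theorem result {G : Type*} [Group G] [Finite G] (p : ℕ) [Fact p.Prime] (Z Y : Subgroup G) (h : ∀ g : G, IsPGroup p ↥(⨆ y ∈ Y, MulAut.conj (y * g) • Z)) : ∃ P : Sylow p G, Y ≤ Subgroup.normalizer ((⨆ g ∈ {g : G | MulAut.conj g • Z ≤ (P : Subgroup G)}, MulAut.conj g • Z : Subgroup G) : Set G) := by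
  have h' : ∀ g : G, IsPGroup p (tg Z Y g) := h
  -- a maximal Y-invariant p-subgroup generated by conjugates of Z
  have h0 : IsPGroup p (tg Z Y 1) ∧ Y ≤ Subgroup.normalizer ((tg Z Y 1 : Subgroup G) : Set G) ∧
      tg Z Y 1 ≤ gen Z (tg Z Y 1) := ⟨h' 1, le_normalizer_tg Z Y 1, tg_le_gen Z Y 1⟩
  obtain ⟨T, -, hT⟩ := Finite.exists_le_maximal
    (p := fun T : Subgroup G => IsPGroup p T ∧ Y ≤ Subgroup.normalizer (T : Set G) ∧ T ≤ gen Z T) h0
  obtain ⟨hTp, hYT, hTgen⟩ := hT.prop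
  obtain ⟨P, hTP⟩ := hTp.exists_le_sylow
  refine ⟨P, ?_⟩
  show Y ≤ Subgroup.normalizer ((gen Z (P : Subgroup G) : Subgroup G) : Set G)
  suffices hW : gen Z (P : Subgroup G) = T by rw [hW]; exact hYT
  apply le_antisymm _ (hTgen.trans (gen_mono Z hTP))
  by_contra hcon
  -- the families
  set S : Set (Subgroup G) := {U | (∃ g : G, U = MulAut.conj g • Z) ∧ U ≤ (P : Subgroup G)} with hS
  set S₀ : Set (Subgroup G) := {U | U ∈ S ∧ U ≤ T} with hS₀
  have hsub : S₀ ⊂ S := by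
    refine ⟨fun U hU => hU.1, ?_⟩
    intro hSS
    apply hcon
    apply iSup₂_le
    intro g hg
    exact (hSS ⟨⟨g, rfl⟩, hg⟩).2
  have hSprop : ∀ U ∈ S, U ≤ (P : Subgroup G) ∧ (U.subgroupOf (P : Subgroup G)).IsSubnormal :=
    fun U hU => ⟨hU.2, isSubnormal_of_isPGroup P.isPGroup' _⟩
  have hSconj : ∀ U ∈ S, ∀ x ∈ (P : Subgroup G), MulAut.conj x • U ∈ S := by
    rintro U ⟨⟨g, rfl⟩, hUP⟩ x hx
    refine ⟨⟨x * g, conj_smul_conj_smul x g Z⟩, ?_⟩
    have hxN : x ∈ Subgroup.normalizer ((P : Subgroup G) : Set G) := Subgroup.le_normalizer hx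
    rw [← conj_smul_eq_of_mem_normalizer hxN]
    exact Subgroup.pointwise_smul_le_pointwise_smul_iff.mpr hUP
  obtain ⟨X, hXS, hXS₀, hXN⟩ := exists_normalizing_of_ssubset (P : Subgroup G) S S₀ hSprop hSconj hsub
  have hsup : sSup S₀ = T := by
    apply le_antisymm
    · exact sSup_le (fun U hU => hU.2)
    · apply hTgen.trans
      apply iSup₂_le
      intro g hg
      exact le_sSup ⟨⟨⟨g, rfl⟩, hg.trans hTP⟩, hg⟩
  rw [hsup] at hXN
  obtain ⟨⟨g₁, rfl⟩, hXP⟩ := hXS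
  have hXT : ¬ MulAut.conj g₁ • Z ≤ T := fun hle => hXS₀ ⟨⟨⟨g₁, rfl⟩, hXP⟩, hle⟩
  -- T₁ normalizes T
  have hT₁N : tg Z Y g₁ ≤ Subgroup.normalizer (T : Set G) := by
    apply iSup₂_le
    intro y hy z hz
    rw [← conj_smul_conj_smul, mem_conj_smul_iff] at hz
    have h1 := hXN hz
    have h2 := hYT hy
    have e : z = y * (y⁻¹ * z * y) * y⁻¹ := by group
    rw [e]
    exact Subgroup.mul_mem _ (Subgroup.mul_mem _ h2 h1) (Subgroup.inv_mem _ h2)
  have hT'p : IsPGroup p (tg Z Y g₁ ⊔ T : Subgroup G) :=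
    IsPGroup.to_sup_of_normal_right' (h' g₁) hTp hT₁N
  have hT'N : Y ≤ Subgroup.normalizer ((tg Z Y g₁ ⊔ T : Subgroup G) : Set G) :=
    le_normalizer_sup (le_normalizer_tg Z Y g₁) hYT
  have hT'gen : tg Z Y g₁ ⊔ T ≤ gen Z (tg Z Y g₁ ⊔ T) :=
    sup_le ((tg_le_gen Z Y g₁).trans (gen_mono Z le_sup_left)) (hTgen.trans (gen_mono Z le_sup_right))
  have hle := hT.le_of_ge ⟨hT'p, hT'N, hT'gen⟩ le_sup_right
  apply hXT
  have h1 : MulAut.conj g₁ • Z ≤ tg Z Y g₁ := by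
    have := le_tg Z Y g₁ Y.one_mem
    rwa [one_mul] at this
  exact h1.trans (le_sup_left.trans hle)

end Cfsg.Agent.S0541
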