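import Mathlib
import Cfsg.Statements.S0546
import Cfsg.Agent.S0545

set_option autoImplicit false
open Pointwise
open Cfsg

namespace Cfsg.Agent.S0546

open scoped commutatorElement

/-- The normal closure of a system normalizer of a finite solvable group is the whole group. -/
theorem result {G : Type*} [Group G] [Finite G] [Group.IsSolvable G] (K : Nat.Primes → Subgroup G) (hK : Cfsg.IsComplementSystem K) : Subgroup.normalClosure ((Cfsg.systemNormalizer K : Subgroup G) : Set G) = ⊤ := by
  set D := Cfsg.systemNormalizer K with hD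
  set M := Subgroup.normalClosure (D : Set G) with hM
  by_contra hne
  have hMn : M.Normal := Subgroup.normalClosure_normal
  have hnt : Nontrivial (G ⧸ M) := by
    obtain ⟨g, hg⟩ : ∃ g, g ∉ M := by
      by_contra h
      push Not at h
      exact hne (eq_top_iff.mpr (fun x _ => h x))
    exact ⟨⟨QuotientGroup.mk' M g, 1, fun h => hg ((QuotientGroup.eq_one_iff g).mp h)⟩⟩
  have hcomm : commutator (G ⧸ M) < ⊤ := IsSolvable.commutator_lt_top_of_nontrivial (G ⧸ M)
  set R := (commutator (G ⧸ M)).comap (QuotientGroup.mk' M) with hR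
  have hRn : R.Normal := Subgroup.Normal.comap inferInstance _
  have hMR : M ≤ R := by
    intro x hx
    rw [hR, Subgroup.mem_comap]
    have : QuotientGroup.mk' M x = 1 := (QuotientGroup.eq_one_iff x).mpr hx
    rw [this]; exact Subgroup.one_mem _
  have hRtop : R ≠ ⊤ := by
    intro h
    apply hcomm.ne
    rw [eq_top_iff]
    intro y _
    obtain ⟨x, rfl⟩ := QuotientGroup.mk'_surjective M y
    have : x ∈ R := by rw [h]; exact Subgroup.mem_top x
    exact this
  -- the quotient by R is commutative
  have hab : ∀ a b : G ⧸ R, a * b = b * a := by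
    intro a b
    obtain ⟨a, rfl⟩ := QuotientGroup.mk'_surjective R a
    obtain ⟨b, rfl⟩ := QuotientGroup.mk'_surjective R b
    rw [← map_mul, ← map_mul]
    apply (QuotientGroup.eq).mpr
    have e : (a * b)⁻¹ * (b * a) = ⁅b⁻¹, a⁻¹⁆ := by
      rw [commutatorElement_def]; group
    rw [e, hR, Subgroup.mem_comap, map_commutatorElement, commutator_def]
    exact Subgroup.commutator_mem_commutator (Subgroup.mem_top _) (Subgroup.mem_top _)
  obtain ⟨-, h2⟩ := Cfsg.Agent.S0545.result K hK R
  have hbot : (Cfsg.systemNormalizer K).map (QuotientGroup.mk' R) = ⊥ := by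
    rw [eq_bot_iff]
    rintro _ ⟨x, hx, rfl⟩
    rw [Subgroup.mem_bot]
    exact (QuotientGroup.eq_one_iff x).mpr (hMR (Subgroup.subset_normalClosure hx))
  have htop : Cfsg.systemNormalizer (fun p => (K p).map (QuotientGroup.mk' R)) = ⊤ := by
    rw [eq_top_iff]
    intro y _
    unfold Cfsg.systemNormalizer
    rw [Subgroup.mem_iInf]
    intro p
    rw [Subgroup.mem_normalizer_iff]
    intro h
    have : y * h * y⁻¹ = h := by rw [hab y h, mul_inv_cancel_right]
    rw [this]
  rw [htop, hbot] at h2
  apply hRtop
  rw [eq_top_iff]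
  intro g _
  apply (QuotientGroup.eq_one_iff g).mp
  have : (QuotientGroup.mk' R g) ∈ (⊤ : Subgroup (G ⧸ R)) := Subgroup.mem_top _
  rw [h2, Subgroup.mem_bot] at this
  exact this

end Cfsg.Agent.S0546
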