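import Mathlib
import Cfsg.Statements.S0547
import Cfsg.Agent.Lib.Helper3.PrimSolv

set_option autoImplicit false
open Cfsg

namespace Cfsg.Agent.S0547

open Cfsg.Agent.Helper3

theorem result {G : Type*} [Group G] [Finite G] [Group.IsSolvable G] {Ω : Type*} [Nonempty Ω] [MulAction G Ω] [FaithfulSMul G Ω] (hprim : MulAction.IsPreprimitive G Ω) (M : Subgroup G) [M.Normal] (hM : M ≠ ⊥) (hmin : ∀ K : Subgroup G, K.Normal → K ≤ M → K = ⊥ ∨ K = M) : MulAction.IsPretransitive M Ω ∧ (∀ ω : Ω, MulAction.stabilizer M ω = ⊥) ∧ ∃ p d : ℕ, p.Prime ∧ 0 < d ∧ Nat.card Ω = p ^ d ∧ Nat.card M = p ^ d := by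
  have htr := isPretransitive_of_normal_of_faithful hprim M hM
  have hc := commute_of_minimal_normal M hM hmin
  have hreg := stabilizer_eq_bot_of_commute (Ω := Ω) M hc htr
  obtain ⟨p, d, hp, hd, hcard, -⟩ := card_eq_prime_pow_of_minimal_normal M hM hmin hc
  obtain ⟨ω⟩ : Nonempty Ω := inferInstance
  refine ⟨htr, hreg, p, d, hp, hd, ?_, hcard⟩
  rw [card_eq_card_of_regular M htr hreg ω, hcard]

end Cfsg.Agent.S0547
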