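import Mathlib
import Cfsg.Statements.S0548
import Cfsg.Agent.Lib.Helper3.PrimSolv

set_option autoImplicit false
open Cfsg
open scoped Pointwise

namespace Cfsg.Agent.S0548

open Cfsg.Agent.Helper3

theorem result {G : Type*} [Group G] [Finite G] [Group.IsSolvable G] {Ω : Type*} [MulAction G Ω] [FaithfulSMul G Ω] (hprim : MulAction.IsPreprimitive G Ω) (M : Subgroup G) [hMn : M.Normal] (hM : M ≠ ⊥) (hmin : ∀ K : Subgroup G, K.Normal → K ≤ M → K = ⊥ ∨ K = M) (ω : Ω) : Subgroup.IsComplement' M (MulAction.stabilizer G ω) ∧ MulAction.stabilizer G ω ⊓ Subgroup.centralizer (M : Set G) = ⊥ ∧ ∀ K : Subgroup G, K ≤ M → MulAction.stabilizer G ω ≤ Subgroup.normalizer (K : Set G) → K = ⊥ ∨ K = M := by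
  have htr := isPretransitive_of_normal_of_faithful hprim M hM
  have hc := commute_of_minimal_normal M hM hmin
  have hreg := stabilizer_eq_bot_of_commute (Ω := Ω) M hc htr
  -- every element is a product m * h
  have hfact : ∀ g : G, ∃ m ∈ M, ∃ h ∈ MulAction.stabilizer G ω, g = m * h := by
    intro g
    obtain ⟨m, hm⟩ := MulAction.exists_smul_eq M ω (g • ω)
    refine ⟨m, m.2, (m : G)⁻¹ * g, ?_, by group⟩
    rw [MulAction.mem_stabilizer_iff, mul_smul, ← hm]
    exact inv_smul_smul _ _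
  refine ⟨?_, ?_, ?_⟩
  · apply Subgroup.isComplement'_of_disjoint_and_mul_eq_univ
    · rw [disjoint_iff, eq_bot_iff]
      rintro x ⟨hxM, hxS⟩
      rw [Subgroup.mem_bot]
      have : (⟨x, hxM⟩ : M) ∈ MulAction.stabilizer M ω := by
        rw [MulAction.mem_stabilizer_iff]
        exact MulAction.mem_stabilizer_iff.mp hxS
      rw [hreg ω, Subgroup.mem_bot] at this
      exact congrArg Subtype.val this
    · rw [Set.eq_univ_iff_forall]
      intro g
      obtain ⟨m, hm, h, hh, rfl⟩ := hfact g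
      exact Set.mul_mem_mul hm hh
  · rw [eq_bot_iff]
    rintro h ⟨hS, hC⟩
    rw [Subgroup.mem_bot]
    apply FaithfulSMul.eq_of_smul_eq_smul (α := Ω)
    intro ω'
    obtain ⟨m, rfl⟩ := MulAction.exists_smul_eq M ω ω'
    rw [one_smul]
    show h • ((m : G) • ω) = (m : G) • ω
    rw [smul_smul, ← (Subgroup.mem_centralizer_iff.mp hC (m : G) m.2), ← smul_smul,
      MulAction.mem_stabilizer_iff.mp hS]
  · intro K hKM hSK
    apply hmin K ?_ hKM
    constructor
    intro k hk g
    obtain ⟨m, hm, h, hh, rfl⟩ := hfact g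
    have h1 : h * k * h⁻¹ ∈ K := (Subgroup.mem_normalizer_iff.mp (hSK hh) k).mp hk
    have h2 : m * (h * k * h⁻¹) = (h * k * h⁻¹) * m := hc m hm _ (hKM h1)
    have e : m * h * k * (m * h)⁻¹ = h * k * h⁻¹ := by
      calc m * h * k * (m * h)⁻¹ = (m * (h * k * h⁻¹)) * m⁻¹ := by group
        _ = (h * k * h⁻¹) * m * m⁻¹ := by rw [h2]
        _ = _ := by group
    rw [e]; exact h1

end Cfsg.Agent.S0548
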