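import Mathlib
import Cfsg.Statements.S0549

set_option autoImplicit false
open Cfsg
open scoped Pointwise

namespace Cfsg.Agent.S0549

variable {G : Type*} [Group G]

theorem sup_eq_top_of_normal (U : Subgroup G) (hU : IsCoatom U) (hcore : U.normalCore = ⊥)
    (K : Subgroup G) [K.Normal] (hK : K ≠ ⊥) : K ⊔ U = ⊤ := by
  by_contra hne
  have hle : K ≤ U := by
    by_contra hnle
    have hlt : U < K ⊔ U := lt_of_le_of_ne le_sup_right (fun h => hnle (h ▸ le_sup_left))
    exact hne (hU.2 _ hlt)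
  have : K ≤ U.normalCore := Subgroup.normal_le_normalCore.mpr hle
  rw [hcore] at this
  exact hK (le_bot_iff.mp this)

theorem exists_mul_of_sup_eq_top (U K : Subgroup G) [K.Normal] (h : K ⊔ U = ⊤) (g : G) :
    ∃ k ∈ K, ∃ u ∈ U, g = k * u := by
  have hg : g ∈ ((K ⊔ U : Subgroup G) : Set G) := by rw [h]; trivial
  rw [Subgroup.normal_mul] at hg
  obtain ⟨k, hk, u, hu, rfl⟩ := hg
  exact ⟨k, hk, u, hu, rfl⟩

theorem result {G : Type*} [Group G] [Finite G] (U : Subgroup G) (hU : IsCoatom U) (hcore : U.normalCore = ⊥) (N : Subgroup G) [N.Normal] (hN : N ≠ ⊥) : Subgroup.centralizer (N : Set G) ⊓ U = ⊥ ∧ (Subgroup.centralizer (N : Set G) = ⊥ ∨ (Subgroup.centralizer (N : Set G) ≠ ⊥ ∧ ∀ K : Subgroup G, K.Normal → K ≤ Subgroup.centralizer (N : Set G) → K = ⊥ ∨ K = Subgroup.centralizer (N : Set G))) := by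
  have hCn : (Subgroup.centralizer (N : Set G)).Normal := inferInstance
  have hNU := sup_eq_top_of_normal U hU hcore N hN
  have hCU : Subgroup.centralizer (N : Set G) ⊓ U = ⊥ := by
    have hnorm : (Subgroup.centralizer (N : Set G) ⊓ U).Normal := by
      constructor
      intro x hx g
      obtain ⟨n, hn, u, hu, rfl⟩ := exists_mul_of_sup_eq_top U N hNU g
      have h1 : u * x * u⁻¹ ∈ Subgroup.centralizer (N : Set G) ⊓ U :=
        ⟨hCn.conj_mem x hx.1 u, U.mul_mem (U.mul_mem hu hx.2) (U.inv_mem hu)⟩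
      have h2 : n * (u * x * u⁻¹) = (u * x * u⁻¹) * n :=
        (Subgroup.mem_centralizer_iff.mp h1.1 n hn)
      have e : n * u * x * (n * u)⁻¹ = u * x * u⁻¹ := by
        calc n * u * x * (n * u)⁻¹ = (n * (u * x * u⁻¹)) * n⁻¹ := by group
          _ = (u * x * u⁻¹) * n * n⁻¹ := by rw [h2]
          _ = _ := by group
      rw [e]; exact h1
    have : Subgroup.centralizer (N : Set G) ⊓ U ≤ U.normalCore :=
      Subgroup.normal_le_normalCore.mpr inf_le_right
    rw [hcore] at this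
    exact le_bot_iff.mp this
  refine ⟨hCU, ?_⟩
  by_cases hC : Subgroup.centralizer (N : Set G) = ⊥
  · left; exact hC
  right
  refine ⟨hC, ?_⟩
  intro K hKn hKC
  by_cases hK : K = ⊥
  · left; exact hK
  right
  have hKU := sup_eq_top_of_normal U hU hcore K hK
  apply le_antisymm hKC
  intro c hc
  obtain ⟨k, hk, u, hu, rfl⟩ := exists_mul_of_sup_eq_top U K hKU c
  have hu' : u ∈ Subgroup.centralizer (N : Set G) ⊓ U := by
    refine ⟨?_, hu⟩
    have : u = k⁻¹ * (k * u) := by group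
    rw [this]
    exact Subgroup.mul_mem _ (Subgroup.inv_mem _ (hKC hk)) hc
  rw [hCU, Subgroup.mem_bot] at hu'
  rw [hu', mul_one]; exact hk

end Cfsg.Agent.S0549
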