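import Mathlib
import Cfsg.Statements.S0550
import Cfsg.Agent.S0549

set_option autoImplicit false
open Cfsg
open scoped Pointwise

namespace Cfsg.Agent.S0550

variable {G : Type*} [Group G]

/-- two complements of a normal subgroup are isomorphic -/
noncomputable def complEquiv {L : Type*} [Group L] (X Y K : Subgroup L) [K.Normal]
    (hX : Subgroup.IsComplement' X K) (hY : Subgroup.IsComplement' Y K) : X ≃* Y :=
  hX.QuotientMulEquiv.symm.trans hY.QuotientMulEquiv

theorem one_side [Finite G] (U : Subgroup G) (hU : IsCoatom U) (hcore : U.normalCore = ⊥)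
    (A B : Subgroup G) [hAn : A.Normal] [hBn : B.Normal] (hA : A ≠ ⊥) (hB : B ≠ ⊥)
    (hBmin : ∀ K : Subgroup G, K.Normal → K ≤ B → K = ⊥ ∨ K = B) (hdisj : A ⊓ B = ⊥) :
    Subgroup.centralizer (A : Set G) = B ∧ B ⊓ U = ⊥ ∧ B ⊔ U = ⊤ := by
  have hcomm := Subgroup.commute_of_normal_of_disjoint A B hAn hBn (disjoint_iff.mpr hdisj)
  have hBC : B ≤ Subgroup.centralizer (A : Set G) := by
    intro b hb
    rw [Subgroup.mem_centralizer_iff]
    intro a ha
    exact (hcomm a b ha hb).eq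
  obtain ⟨h1, h2⟩ := Cfsg.Agent.S0549.result U hU hcore A hA
  have hCB : Subgroup.centralizer (A : Set G) = B := by
    rcases h2 with h2 | ⟨-, h2⟩
    · rw [h2, le_bot_iff] at hBC; exact absurd hBC hB
    · rcases h2 B hBn hBC with h3 | h3
      · exact absurd h3 hB
      · exact h3.symm
  refine ⟨hCB, ?_, Cfsg.Agent.S0549.sup_eq_top_of_normal U hU hcore B hB⟩
  rw [← hCB]; exact h1

theorem result {G : Type*} [Group G] [Finite G] (U : Subgroup G) (hU : IsCoatom U) (hcore : U.normalCore = ⊥) (A B : Subgroup G) [A.Normal] [B.Normal] (hA : A ≠ ⊥) (hB : B ≠ ⊥) (hAmin : ∀ K : Subgroup G, K.Normal → K ≤ A → K = ⊥ ∨ K = A) (hBmin : ∀ K : Subgroup G, K.Normal → K ≤ B → K = ⊥ ∨ K = B) (hAB : A ≠ B) : Subgroup.centralizer (B : Set G) = A ∧ Subgroup.centralizer (A : Set G) = B ∧ Subgroup.IsComplement' A U ∧ Subgroup.IsComplement' B U ∧ ¬ IsMulCommutative A ∧ Nonempty (A ≃* B) ∧ Nonempty (A ≃* ↥((A ⊔ B) ⊓ U)) := by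
  have hdisj : A ⊓ B = ⊥ := by
    rcases hAmin (A ⊓ B) inferInstance inf_le_left with h | h
    · exact h
    · exfalso
      have hle : A ≤ B := h ▸ inf_le_right
      rcases hBmin A inferInstance hle with h1 | h1
      · exact hA h1
      · exact hAB h1
  have hdisj' : B ⊓ A = ⊥ := by rw [inf_comm]; exact hdisj
  obtain ⟨hCA, hBU, hBUtop⟩ := one_side U hU hcore A B hA hB hBmin hdisj
  obtain ⟨hCB, hAU, hAUtop⟩ := one_side U hU hcore B A hB hA hAmin hdisj'
  have hcomplA : Subgroup.IsComplement' A U := by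
    apply Subgroup.isComplement'_of_disjoint_and_mul_eq_univ (disjoint_iff.mpr hAU)
    rw [← Subgroup.normal_mul, hAUtop, Subgroup.coe_top]
  have hcomplB : Subgroup.IsComplement' B U := by
    apply Subgroup.isComplement'_of_disjoint_and_mul_eq_univ (disjoint_iff.mpr hBU)
    rw [← Subgroup.normal_mul, hBUtop, Subgroup.coe_top]
  have hnc : ¬ IsMulCommutative A := by
    intro hcomm
    apply hA
    have hle : A ≤ Subgroup.centralizer (A : Set G) := by
      intro a ha
      rw [Subgroup.mem_centralizer_iff]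
      intro b hb
      exact congrArg Subtype.val (mul_comm' (⟨b, hb⟩ : A) ⟨a, ha⟩)
    rw [hCA] at hle
    have : A ≤ A ⊓ B := le_inf le_rfl hle
    rw [hdisj] at this
    exact le_bot_iff.mp this
  -- the isomorphisms, inside L = A ⊔ B
  set L : Subgroup G := A ⊔ B with hL
  set W : Subgroup G := L ⊓ U with hW
  have hAL : A ≤ L := le_sup_left
  have hBL : B ≤ L := le_sup_right
  have hWL : W ≤ L := inf_le_left
  -- complements of B in L
  have hX : ∀ X : Subgroup G, X ≤ L → X ⊓ B = ⊥ → (∀ l ∈ L, ∃ x ∈ X, ∃ b ∈ B, l = x * b) →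
      Subgroup.IsComplement' (X.subgroupOf L) (B.subgroupOf L) := by
    intro X hXL hXB hfact
    apply Subgroup.isComplement'_of_disjoint_and_mul_eq_univ
    · rw [disjoint_iff, eq_bot_iff]
      rintro l ⟨h1, h2⟩
      rw [Subgroup.mem_bot]
      have : (l : G) ∈ X ⊓ B := ⟨Subgroup.mem_subgroupOf.mp h1, Subgroup.mem_subgroupOf.mp h2⟩
      rw [hXB, Subgroup.mem_bot] at this
      exact Subtype.ext this
    · rw [Set.eq_univ_iff_forall]
      intro l
      obtain ⟨x, hx, b, hb, hl⟩ := hfact l l.2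
      refine ⟨⟨x, hXL hx⟩, Subgroup.mem_subgroupOf.mpr hx, ⟨b, hBL hb⟩,
        Subgroup.mem_subgroupOf.mpr hb, ?_⟩
      exact Subtype.ext hl.symm
  have hAcompl := hX A hAL hdisj (by
    intro l hl
    have hl' : l ∈ ((A ⊔ B : Subgroup G) : Set G) := hl
    rw [Subgroup.mul_normal] at hl'
    obtain ⟨a, ha, b, hb, rfl⟩ := hl'
    exact ⟨a, ha, b, hb, rfl⟩)
  have hWB : W ⊓ B = ⊥ := by
    rw [eq_bot_iff, ← hBU]
    exact le_inf inf_le_right (inf_le_left.trans inf_le_right)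
  have hWcompl := hX W hWL hWB (by
    intro l hl
    have hl' : l ∈ ((U ⊔ B : Subgroup G) : Set G) := by rw [sup_comm, hBUtop]; trivial
    rw [Subgroup.mul_normal] at hl'
    obtain ⟨u, hu, b, hb, rfl⟩ := hl'
    refine ⟨u, ⟨?_, hu⟩, b, hb, rfl⟩
    have : u = (u * b) * b⁻¹ := by group
    rw [this]
    exact L.mul_mem hl (L.inv_mem (hBL hb)))
  have eAW : A ≃* W :=
    (Subgroup.subgroupOfEquivOfLe hAL).symm.trans
      ((complEquiv _ _ _ hAcompl hWcompl).trans (Subgroup.subgroupOfEquivOfLe hWL))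
  -- same with the roles of A and B exchanged
  have hX' : ∀ X : Subgroup G, X ≤ L → X ⊓ A = ⊥ → (∀ l ∈ L, ∃ x ∈ X, ∃ a ∈ A, l = x * a) →
      Subgroup.IsComplement' (X.subgroupOf L) (A.subgroupOf L) := by
    intro X hXL hXA hfact
    apply Subgroup.isComplement'_of_disjoint_and_mul_eq_univ
    · rw [disjoint_iff, eq_bot_iff]
      rintro l ⟨h1, h2⟩
      rw [Subgroup.mem_bot]
      have : (l : G) ∈ X ⊓ A := ⟨Subgroup.mem_subgroupOf.mp h1, Subgroup.mem_subgroupOf.mp h2⟩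
      rw [hXA, Subgroup.mem_bot] at this
      exact Subtype.ext this
    · rw [Set.eq_univ_iff_forall]
      intro l
      obtain ⟨x, hx, a, ha, hl⟩ := hfact l l.2
      refine ⟨⟨x, hXL hx⟩, Subgroup.mem_subgroupOf.mpr hx, ⟨a, hAL ha⟩,
        Subgroup.mem_subgroupOf.mpr ha, ?_⟩
      exact Subtype.ext hl.symm
  have hBcompl := hX' B hBL hdisj' (by
    intro l hl
    have hl' : l ∈ ((B ⊔ A : Subgroup G) : Set G) := by rw [sup_comm]; exact hl
    rw [Subgroup.mul_normal] at hl'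
    obtain ⟨b, hb, a, ha, rfl⟩ := hl'
    exact ⟨b, hb, a, ha, rfl⟩)
  have hWA : W ⊓ A = ⊥ := by
    rw [eq_bot_iff, ← hAU]
    exact le_inf inf_le_right (inf_le_left.trans inf_le_right)
  have hWcompl' := hX' W hWL hWA (by
    intro l hl
    have hl' : l ∈ ((U ⊔ A : Subgroup G) : Set G) := by rw [sup_comm, hAUtop]; trivial
    rw [Subgroup.mul_normal] at hl'
    obtain ⟨u, hu, a, ha, rfl⟩ := hl'
    refine ⟨u, ⟨?_, hu⟩, a, ha, rfl⟩
    have : u = (u * a) * a⁻¹ := by group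
    rw [this]
    exact L.mul_mem hl (L.inv_mem (hAL ha)))
  have eBW : B ≃* W :=
    (Subgroup.subgroupOfEquivOfLe hBL).symm.trans
      ((complEquiv _ _ _ hBcompl hWcompl').trans (Subgroup.subgroupOfEquivOfLe hWL))
  exact ⟨hCB, hCA, hcomplA, hcomplB, hnc, ⟨eAW.trans eBW.symm⟩, ⟨eAW⟩⟩

end Cfsg.Agent.S0550
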