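import Mathlib
import Cfsg.Statements.S0551
import Cfsg.Agent.Lib.Helper3.Hall
import Cfsg.Agent.Lib.Helper3.Card
import Cfsg.Agent.S0549

set_option autoImplicit false
open Cfsg
open scoped Pointwise

namespace Cfsg.Agent.S0551

open Cfsg.Agent.Helper3

variable {G : Type*} [Group G]

/-- factorization from `N ⊔ U = ⊤` with `N` normal -/
theorem exists_mul_of_sup_eq_top (N U : Subgroup G) [N.Normal] (h : N ⊔ U = ⊤) (g : G) :
    ∃ a ∈ N, ∃ u ∈ U, g = a * u := by
  have hg : g ∈ ((N ⊔ U : Subgroup G) : Set G) := by rw [h]; trivial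
  rw [Subgroup.normal_mul] at hg
  obtain ⟨a, ha, u, hu, rfl⟩ := hg
  exact ⟨a, ha, u, hu, rfl⟩

/-- Key facts about a core-free maximal subgroup `U` relative to a minimal normal abelian `N` and a
normal subgroup `Q ≥ N`. -/
theorem key [Finite G] (U : Subgroup G) (hU : IsCoatom U) (hUc : U.normalCore = ⊥)
    (N : Subgroup G) [hNn : N.Normal] (hNbot : N ≠ ⊥)
    (hc : ∀ a ∈ N, ∀ b ∈ N, a * b = b * a) (Q : Subgroup G) [hQn : Q.Normal] (hNQ : N ≤ Q) :
    Nat.card (Q ⊓ U : Subgroup G) * Nat.card N = Nat.card Q ∧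
    (Q ⊓ U ≠ ⊥ → Subgroup.normalizer ((Q ⊓ U : Subgroup G) : Set G) = U) ∧
    Nat.card U * Nat.card N = Nat.card G := by
  have h549 := Cfsg.Agent.S0549.result U hU hUc N hNbot
  have hNcent : N ≤ Subgroup.centralizer (N : Set G) := by
    intro a ha
    rw [Subgroup.mem_centralizer_iff]
    intro b hb
    exact hc b hb a ha
  have hNU : N ⊓ U = ⊥ := by
    rw [eq_bot_iff, ← h549.1]
    exact inf_le_inf_right U hNcent
  have hNnotle : ¬ N ≤ U := by
    intro h
    have : N ≤ U.normalCore := Subgroup.normal_le_normalCore.mpr h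
    rw [hUc] at this
    exact hNbot (le_bot_iff.mp this)
  have hsup : N ⊔ U = ⊤ :=
    hU.2 _ (lt_of_le_of_ne le_sup_right (fun h => hNnotle (h ▸ le_sup_left)))
  have hQsup : Q ⊔ U = ⊤ := by
    rw [eq_top_iff, ← hsup]
    exact sup_le_sup_right hNQ U
  have hcardN := card_mul_card_inf_of_mul_eq_univ N U (exists_mul_of_sup_eq_top N U hsup)
  rw [hNU, Subgroup.card_bot, mul_one] at hcardN
  have hcardQ := card_mul_card_inf_of_mul_eq_univ Q U (exists_mul_of_sup_eq_top Q U hQsup)
  have hUpos : 0 < Nat.card U := Nat.card_pos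
  refine ⟨?_, ?_, ?_⟩
  · rw [hcardN] at hcardQ
    have : (Nat.card (Q ⊓ U : Subgroup G) * Nat.card N) * Nat.card U = Nat.card Q * Nat.card U := by
      rw [← hcardQ]; ring
    exact Nat.eq_of_mul_eq_mul_right hUpos this
  · intro hne
    have hle : U ≤ Subgroup.normalizer ((Q ⊓ U : Subgroup G) : Set G) := by
      intro u hu
      apply Subgroup.mem_normalizer_fintype
      intro x hx
      exact ⟨hQn.conj_mem x hx.1 u, U.mul_mem (U.mul_mem hu hx.2) (U.inv_mem hu)⟩
    by_contra hcon
    have hlt : U < Subgroup.normalizer ((Q ⊓ U : Subgroup G) : Set G) :=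
      lt_of_le_of_ne hle (Ne.symm hcon)
    have htop := hU.2 _ hlt
    have hnorm : (Q ⊓ U).Normal := Subgroup.normalizer_eq_top_iff.mp htop
    have : Q ⊓ U ≤ U.normalCore := Subgroup.normal_le_normalCore.mpr inf_le_right
    rw [hUc] at this
    exact hne (le_bot_iff.mp this)
  · rw [hcardN, mul_comm]

theorem result {G : Type*} [Group G] [Finite G] [Group.IsSolvable G] (U V : Subgroup G) (hU : IsCoatom U) (hV : IsCoatom V) (hUc : U.normalCore = ⊥) (hVc : V.normalCore = ⊥) : ∃ g : G, MulAut.conj g • U = V := by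
  have hnt : Nontrivial G := by
    by_contra h
    rw [not_nontrivial_iff_subsingleton] at h
    exact hU.1 (Subsingleton.elim _ _)
  obtain ⟨N, hNn, hNbot, hNmin⟩ := exists_minimal_normal (G := G)
  have hc := commute_of_minimal_normal N hNbot hNmin
  obtain ⟨p, k, hp, hk, hNcard, -⟩ := card_eq_prime_pow_of_minimal_normal N hNbot hNmin hc
  by_cases hQnt : Nontrivial (G ⧸ N)
  · obtain ⟨Qb, hQbn, hQbbot, hQbmin⟩ := exists_minimal_normal (G := G ⧸ N)
    have hcb := commute_of_minimal_normal Qb hQbbot hQbmin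
    obtain ⟨q, m, hq, hm, hQbcard, -⟩ := card_eq_prime_pow_of_minimal_normal Qb hQbbot hQbmin hcb
    set Q : Subgroup G := Qb.comap (QuotientGroup.mk' N) with hQdef
    have hQn : Q.Normal := hQbn.comap _
    have hNQ : N ≤ Q := by
      have := Subgroup.ker_le_comap (QuotientGroup.mk' N) Qb
      rwa [QuotientGroup.ker_mk'] at this
    have hQcard : Nat.card Q = q ^ m * p ^ k := by rw [hQdef, card_comap_mk', hQbcard, hNcard]
    obtain ⟨hU1, hU2, hU3⟩ := key U hU hUc N hNbot hc Q hNQ
    obtain ⟨hV1, hV2, hV3⟩ := key V hV hVc N hNbot hc Q hNQ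
    have hppos : 0 < p ^ k := pow_pos hp.pos k
    have hQUcard : Nat.card (Q ⊓ U : Subgroup G) = q ^ m := by
      rw [hNcard, hQcard] at hU1
      exact Nat.eq_of_mul_eq_mul_right hppos hU1
    have hQVcard : Nat.card (Q ⊓ V : Subgroup G) = q ^ m := by
      rw [hNcard, hQcard] at hV1
      exact Nat.eq_of_mul_eq_mul_right hppos hV1
    have hqm1 : 1 < q ^ m := Nat.one_lt_pow hm.ne' hq.one_lt
    have hQUne : Q ⊓ U ≠ ⊥ := by
      intro h; rw [h, Subgroup.card_bot] at hQUcard; omega
    have hQVne : Q ⊓ V ≠ ⊥ := by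
      intro h; rw [h, Subgroup.card_bot] at hQVcard; omega
    have hNU := hU2 hQUne
    have hNV := hV2 hQVne
    have hpF : Fact p.Prime := ⟨hp⟩
    have hqF : Fact q.Prime := ⟨hq⟩
    by_cases hqp : q = p
    · -- impossible: Q is a p-group
      exfalso
      subst hqp
      have hQp : IsPGroup q Q := by
        apply IsPGroup.of_card (n := m + k)
        rw [hQcard, pow_add]
      have : Group.IsNilpotent Q := hQp.isNilpotent
      have hnc : NormalizerCondition Q := Group.normalizerCondition_of_isNilpotent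
      have hlt : (Q ⊓ U).subgroupOf Q < ⊤ := by
        rw [lt_top_iff_ne_top]
        intro htop
        rw [Subgroup.subgroupOf_eq_top] at htop
        have h1 : Q ⊓ U = Q := le_antisymm inf_le_left htop
        rw [h1, hQcard] at hQUcard
        have : q ^ m * q ^ k = q ^ m * 1 := by rw [hQUcard, mul_one]
        have := Nat.eq_of_mul_eq_mul_left (pow_pos hq.pos m) this
        have h2 : 1 < q ^ k := Nat.one_lt_pow hk.ne' hq.one_lt
        omega
      obtain ⟨y, hyN, hyW⟩ := SetLike.exists_of_lt (hnc _ hlt)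
      have hyU : (y : G) ∉ U := fun h => hyW (Subgroup.mem_subgroupOf.mpr ⟨y.2, h⟩)
      have hyNG : (y : G) ∈ Subgroup.normalizer ((Q ⊓ U : Subgroup G) : Set G) := by
        apply Subgroup.mem_normalizer_fintype
        intro a ha
        have ha' : (⟨a, ha.1⟩ : Q) ∈ (Q ⊓ U).subgroupOf Q := Subgroup.mem_subgroupOf.mpr ha
        have := (Subgroup.mem_normalizer_iff.mp hyN _).mp ha'
        exact Subgroup.mem_subgroupOf.mp this
      rw [hNU] at hyNG
      exact hyU hyNG
    · -- Sylow conjugacy in Q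
      have hfac : (Nat.card Q).factorization q = m := by
        rw [hQcard, Nat.factorization_mul (pow_ne_zero _ hq.ne_zero) (pow_ne_zero _ hp.ne_zero)]
        have h1 : (p ^ k).factorization q = 0 := by
          apply Nat.factorization_eq_zero_of_not_dvd
          intro hd
          exact hqp ((Nat.prime_dvd_prime_iff_eq hq hp).mp (hq.dvd_of_dvd_pow hd))
        rw [Finsupp.add_apply, h1, hq.factorization_pow, Finsupp.single_eq_same, add_zero]
      have hcU : Nat.card ((Q ⊓ U).subgroupOf Q) = q ^ (Nat.card Q).factorization q := by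
        rw [hfac, ← hQUcard]
        exact Nat.card_congr (Subgroup.subgroupOfEquivOfLe inf_le_left).toEquiv
      have hcV : Nat.card ((Q ⊓ V).subgroupOf Q) = q ^ (Nat.card Q).factorization q := by
        rw [hfac, ← hQVcard]
        exact Nat.card_congr (Subgroup.subgroupOfEquivOfLe inf_le_left).toEquiv
      set PU : Sylow q Q := Sylow.ofCard _ hcU with hPU
      set PV : Sylow q Q := Sylow.ofCard _ hcV with hPV
      obtain ⟨x, hx⟩ := MulAction.exists_smul_eq Q PU PV
      have hx' : MulAut.conj x • ((Q ⊓ U).subgroupOf Q) = (Q ⊓ V).subgroupOf Q := by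
        have := congrArg (fun P : Sylow q Q => (P : Subgroup Q)) hx
        simp only [Sylow.coe_subgroup_smul] at this
        rw [hPU, hPV, Sylow.coe_ofCard, Sylow.coe_ofCard] at this
        exact this
      have hx'' : MulAut.conj (x : G) • (Q ⊓ U) = Q ⊓ V := by
        have := congrArg (Subgroup.map Q.subtype) hx'
        rw [map_subtype_conj_smul, Subgroup.subgroupOf_map_subtype, Subgroup.subgroupOf_map_subtype,
          inf_of_le_left (inf_le_left : Q ⊓ U ≤ Q), inf_of_le_left (inf_le_left : Q ⊓ V ≤ Q)] at this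
        exact this
      refine ⟨(x : G), ?_⟩
      have hle : MulAut.conj (x : G) • U ≤ V := by
        intro g hg
        rw [mem_conj_smul_iff] at hg
        rw [← hNV, ← hx'']
        apply mem_normalizer_of_conj_smul_eq
        rw [smul_smul, ← map_mul]
        have hu : (x : G)⁻¹ * g * x ∈ Subgroup.normalizer ((Q ⊓ U : Subgroup G) : Set G) := by
          rw [hNU]; exact hg
        have e : g * (x : G) = (x : G) * ((x : G)⁻¹ * g * x) := by group
        rw [e, map_mul, ← smul_smul, conj_smul_eq_of_mem_normalizer hu]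
      apply Subgroup.eq_of_le_of_card_ge hle
      rw [← Nat.card_congr (Subgroup.equivSMul (MulAut.conj (x : G)) U).toEquiv]
      have h1 : Nat.card U * Nat.card N = Nat.card V * Nat.card N := by rw [hU3, hV3]
      exact (Nat.eq_of_mul_eq_mul_right Nat.card_pos h1).ge
  · -- G = N
    rw [not_nontrivial_iff_subsingleton] at hQnt
    have hNtop : N = ⊤ := by
      rw [eq_top_iff]
      intro g _
      rw [← QuotientGroup.ker_mk' N, MonoidHom.mem_ker]
      exact Subsingleton.elim _ _
    obtain ⟨-, -, hU3⟩ := key U hU hUc N hNbot hc N le_rfl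
    obtain ⟨-, -, hV3⟩ := key V hV hVc N hNbot hc N le_rfl
    have hNG : Nat.card N = Nat.card G := by rw [hNtop, Subgroup.card_top]
    have hGpos : 0 < Nat.card G := Nat.card_pos
    have hU1 : Nat.card U = 1 := by
      rw [hNG] at hU3
      have : Nat.card U * Nat.card G = 1 * Nat.card G := by rw [hU3, one_mul]
      exact Nat.eq_of_mul_eq_mul_right hGpos this
    have hV1 : Nat.card V = 1 := by
      rw [hNG] at hV3
      have : Nat.card V * Nat.card G = 1 * Nat.card G := by rw [hV3, one_mul]
      exact Nat.eq_of_mul_eq_mul_right hGpos this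
    refine ⟨1, ?_⟩
    rw [map_one, one_smul, Subgroup.card_eq_one.mp hU1, Subgroup.card_eq_one.mp hV1]

end Cfsg.Agent.S0551
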