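import Mathlib
import Cfsg.Statements.S0552
import Cfsg.Agent.Lib.Helper1.FittingSolvable

set_option autoImplicit false
open Cfsg

namespace Cfsg.Agent.S0552

open Cfsg.Agent.Helper1 Cfsg.Agent.Helper7

theorem result {G : Type*} [Group G] [Finite G] [Group.IsSolvable G] (σ : G ≃* G) (hσ : ∀ x ∈ Cfsg.fittingSubgroup G, σ x = x) (hne : σ ≠ MulEquiv.refl G) : ¬ (orderOf σ).Coprime (Nat.card G) := by
  intro hcop
  apply hne
  have hFn : (Cfsg.fittingSubgroup G).Normal := fittingSubgroup_normal'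
  have hCF := centralizer_fittingSubgroup_le_of_isSolvable (G := G)
  ext g
  show σ g = g
  set f := g⁻¹ * σ g with hf
  have hfC : f ∈ Subgroup.centralizer (Cfsg.fittingSubgroup G : Set G) := by
    rw [Subgroup.mem_centralizer_iff]
    intro x hx
    have h1 : g * x * g⁻¹ ∈ Cfsg.fittingSubgroup G := hFn.conj_mem x hx g
    have h2 := hσ _ h1
    rw [map_mul, map_mul, map_inv, hσ x hx] at h2
    -- h2 : σ g * x * (σ g)⁻¹ = g * x * g⁻¹
    have h3 : x * (g⁻¹ * σ g) = g⁻¹ * (g * x * g⁻¹) * σ g := by group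
    rw [hf, h3, ← h2]; group
  have hfF : f ∈ Cfsg.fittingSubgroup G := hCF hfC
  have hσf : σ f = f := hσ f hfF
  have hσg : σ g = g * f := by rw [hf]; group
  have key : ∀ k : ℕ, (σ ^ k) g = g * f ^ k := by
    intro k
    induction k with
    | zero => simp
    | succ k ih =>
      rw [pow_succ', MulAut.mul_apply, ih, map_mul, map_pow, hσf, hσg, pow_succ', mul_assoc]
  have h1 : f ^ orderOf σ = 1 := by
    have := key (orderOf σ)
    rw [pow_orderOf_eq_one, MulAut.one_apply] at this
    exact (mul_eq_left.mp this.symm)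
  have h2 : f ^ Nat.card G = 1 := pow_card_eq_one'
  have h3 := pow_gcd_eq_one.mpr ⟨h1, h2⟩
  rw [Nat.Coprime] at hcop
  rw [hcop, pow_one] at h3
  rw [hσg, h3, mul_one]

end Cfsg.Agent.S0552
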