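import Mathlib
import Cfsg.Statements.S0554
import Cfsg.Agent.Lib.Helper3.Hall

set_option autoImplicit false
open Cfsg

namespace Cfsg.Agent.S0554

open Cfsg.Agent.Helper3

universe u

theorem absorb {G : Type u} [Group G] (N : Subgroup G) [hN : N.Normal] : ∀ (t : ℕ) (s : Fin t → G)
    (j : Fin t) (n : G), n ∈ N →
    ∃ n' ∈ N, (List.ofFn s).prod * n = (List.ofFn (Function.update s j (s j * n'))).prod := by
  intro t
  induction t with
  | zero => intro s j; exact j.elim0
  | succ t ih =>
    intro s j n hn
    refine Fin.cases ?_ (fun j' => ?_) j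
    · set r := (List.ofFn (fun i : Fin t => s i.succ)).prod with hr
      refine ⟨r * n * r⁻¹, hN.conj_mem n hn r, ?_⟩
      rw [List.ofFn_succ, List.ofFn_succ, List.prod_cons, List.prod_cons, Function.update_self]
      have e : (fun i : Fin t => Function.update s 0 (s 0 * (r * n * r⁻¹)) i.succ) =
          fun i : Fin t => s i.succ := by
        funext i
        exact Function.update_of_ne (Fin.succ_ne_zero i) _ _
      rw [e, ← hr]
      group
    · obtain ⟨n', hn', h⟩ := ih (fun i => s i.succ) j' n hn
      refine ⟨n', hn', ?_⟩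
      rw [List.ofFn_succ, List.ofFn_succ, List.prod_cons, List.prod_cons, mul_assoc, h]
      have e0 : Function.update s j'.succ (s j'.succ * n') 0 = s 0 :=
        Function.update_of_ne (Fin.succ_ne_zero j').symm _ _
      have e : (fun i : Fin t => Function.update s j'.succ (s j'.succ * n') i.succ) =
          Function.update (fun i : Fin t => s i.succ) j' (s j'.succ * n') := by
        funext i
        by_cases hi : i = j'
        · subst hi; rw [Function.update_self, Function.update_self]
        · rw [Function.update_of_ne hi, Function.update_of_ne (fun h => hi (Fin.succ_injective _ h))]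
      rw [e0, e]

theorem aux (t : ℕ) (p : Fin t → ℕ) (hp : ∀ i, (p i).Prime) (n : ℕ) :
    ∀ (G : Type u) [Group G] [Finite G] [Group.IsSolvable G], Nat.card G = n →
    (∀ q : ℕ, q.Prime → q ∣ Nat.card G → ∃ i, p i = q) → ∀ (S : (i : Fin t) → Sylow (p i) G)
    (g : G), ∃ s : (i : Fin t) → G, (∀ i, s i ∈ (S i : Subgroup G)) ∧ g = (List.ofFn s).prod := by
  induction n using Nat.strong_induction_on with
  | _ n ih =>
  intro G _ _ _ hcard hall S g
  have hF : ∀ i, Fact (p i).Prime := fun i => ⟨hp i⟩
  by_cases hnt : Nontrivial G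
  · obtain ⟨N, hNn, hNbot, hNmin⟩ := exists_minimal_normal (G := G)
    have hc := commute_of_minimal_normal N hNbot hNmin
    obtain ⟨q, k, hq, hk, hNcard, -⟩ := card_eq_prime_pow_of_minimal_normal N hNbot hNmin hc
    have hqG : q ∣ Nat.card G := by
      have : q ∣ Nat.card N := by rw [hNcard]; exact dvd_pow_self q hk.ne'
      exact this.trans (Subgroup.card_subgroup_dvd_card N)
    obtain ⟨j, hj⟩ := hall q hq hqG
    have hNS : N ≤ (S j : Subgroup G) := by
      apply IsPGroup.le_sylow_of_normal
      rw [hj]; exact IsPGroup.of_card hNcard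
    have hlt : Nat.card (G ⧸ N) < n := by
      rw [← hcard]
      apply card_quotient_lt
      rw [hNcard]
      exact Nat.one_lt_pow hk.ne' hq.one_lt
    have hallQ : ∀ q' : ℕ, q'.Prime → q' ∣ Nat.card (G ⧸ N) → ∃ i, p i = q' := by
      intro q' hq' hd
      apply hall q' hq'
      rw [Subgroup.card_eq_card_quotient_mul_card_subgroup N]
      exact Dvd.dvd.mul_right hd _
    have hsurj := QuotientGroup.mk'_surjective N
    obtain ⟨sbar, hsbar, hg⟩ := ih _ hlt (G ⧸ N) rfl hallQ
      (fun i => (S i).mapSurjective hsurj) (QuotientGroup.mk' N g)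
    have hlift : ∀ i, ∃ x ∈ (S i : Subgroup G), QuotientGroup.mk' N x = sbar i := by
      intro i
      have := hsbar i
      rw [Sylow.coe_mapSurjective] at this
      exact this
    choose s hs hs' using hlift
    have hprod : QuotientGroup.mk' N ((List.ofFn s).prod) = QuotientGroup.mk' N g := by
      rw [hg, map_list_prod, List.map_ofFn]
      congr 2
      funext i
      exact hs' i
    have hn : ((List.ofFn s).prod)⁻¹ * g ∈ N := by
      rw [← QuotientGroup.ker_mk' N, MonoidHom.mem_ker, map_mul, map_inv, hprod]
      exact inv_mul_cancel _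
    obtain ⟨n', hn', h⟩ := absorb N t s j _ hn
    refine ⟨Function.update s j (s j * n'), ?_, ?_⟩
    · intro i
      by_cases hi : i = j
      · subst hi
        rw [Function.update_self]
        exact Subgroup.mul_mem _ (hs i) (hNS hn')
      · rw [Function.update_of_ne hi]; exact hs i
    · rw [← h]; group
  · rw [not_nontrivial_iff_subsingleton] at hnt
    refine ⟨fun _ => 1, fun i => Subgroup.one_mem _, ?_⟩
    exact Subsingleton.elim _ _

theorem result {G : Type*} [Group G] [Finite G] [Group.IsSolvable G] (t : ℕ) (p : Fin t → ℕ) (hp : ∀ i, (p i).Prime) (hinj : Function.Injective p) (hall : ∀ q : ℕ, q.Prime → q ∣ Nat.card G → ∃ i, p i = q) (S : (i : Fin t) → Sylow (p i) G) : ∀ g : G, ∃ s : (i : Fin t) → G, (∀ i, s i ∈ (S i : Subgroup G)) ∧ g = (List.ofFn s).prod :=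
  aux t p hp _ G rfl hall S

end Cfsg.Agent.S0554
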