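import Mathlib
import Cfsg.Statements.S0555

set_option autoImplicit false
open Cfsg
open scoped commutatorElement

namespace Cfsg.Agent.S0555

/-- From cyclicity of `A / B` (with `B ≤ A` viewed inside `A`) get a generator downstairs. -/
theorem exists_gen {G Q : Type*} [Group G] [Group Q] (A B : Subgroup G) [hn : (B.subgroupOf A).Normal]
    (h : IsCyclic (↥A ⧸ B.subgroupOf A)) (f : G →* Q) :
    ∃ s ∈ A, ∀ x ∈ A, ∃ k : ℤ, ∃ u ∈ B, f x = f s ^ k * f u := by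
  obtain ⟨g, hg⟩ := h.exists_generator
  obtain ⟨s, rfl⟩ := QuotientGroup.mk_surjective g
  refine ⟨s, s.2, fun x hx => ?_⟩
  obtain ⟨k, hk⟩ := Subgroup.mem_zpowers_iff.mp (hg (QuotientGroup.mk ⟨x, hx⟩))
  refine ⟨k, ((s : G) ^ k)⁻¹ * x, ?_, ?_⟩
  · have h1 : ((s ^ k : A) : ↥A ⧸ B.subgroupOf A) = ((⟨x, hx⟩ : A) : ↥A ⧸ B.subgroupOf A) := by
      rw [QuotientGroup.mk_zpow]; exact hk
    have h2 := QuotientGroup.eq.mp h1
    rw [Subgroup.mem_subgroupOf] at h2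
    simpa using h2
  · rw [map_mul, map_inv, map_zpow]; group

theorem result {G : Type*} [Group G] (i : ℕ) (hi : 1 ≤ i) (h₁ : IsCyclic (↥(derivedSeries G i) ⧸ (derivedSeries G (i + 1)).subgroupOf (derivedSeries G i))) (h₂ : IsCyclic (↥(derivedSeries G (i + 1)) ⧸ (derivedSeries G (i + 2)).subgroupOf (derivedSeries G (i + 1)))) : derivedSeries G (i + 1) = derivedSeries G (i + 2) := by
  apply le_antisymm _ (derivedSeries_antitone G (by omega))
  set H := derivedSeries G i with hH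
  set H' := derivedSeries G (i + 1) with hH'
  set H'' := derivedSeries G (i + 2) with hH''
  have hH'def : H' = ⁅H, H⁆ := rfl
  have hn'' : H''.Normal := by rw [hH'']; infer_instance
  have hn' : H'.Normal := by rw [hH']; infer_instance
  let f : G →* G ⧸ H'' := QuotientGroup.mk' H''
  have hker : ∀ x : G, f x = 1 ↔ x ∈ H'' := fun x => QuotientGroup.eq_one_iff x
  have hsurj : Function.Surjective f := QuotientGroup.mk'_surjective H''
  -- generators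
  obtain ⟨t, htH', ht⟩ := exists_gen H' H'' h₂ f
  obtain ⟨s, hsH, hs⟩ := exists_gen H H' h₁ f
  -- (1) images of H' are powers of f t
  have h1 : ∀ x ∈ H', ∃ k : ℤ, f x = f t ^ k := by
    intro x hx
    obtain ⟨k, u, hu, hxu⟩ := ht x hx
    exact ⟨k, by rw [hxu, (hker u).mpr hu, mul_one]⟩
  -- (3) conjugates of f t are powers of f t
  have h3 : ∀ q : G ⧸ H'', ∃ m : ℤ, q * f t * q⁻¹ = f t ^ m := by
    intro q
    obtain ⟨g, rfl⟩ := hsurj q
    obtain ⟨m, hm⟩ := h1 (g * t * g⁻¹) (hn'.conj_mem t htH' g)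
    exact ⟨m, by rw [← hm, map_mul, map_mul, map_inv]⟩
  -- (4) (q₁ q₂) and (q₂ q₁) act the same way on f t
  have h4 : ∀ q₁ q₂ : G ⧸ H'', (q₁ * q₂) * f t * (q₁ * q₂)⁻¹ = (q₂ * q₁) * f t * (q₂ * q₁)⁻¹ := by
    intro q₁ q₂
    obtain ⟨m₁, hm₁⟩ := h3 q₁
    obtain ⟨m₂, hm₂⟩ := h3 q₂
    have e1 : (q₁ * q₂) * f t * (q₁ * q₂)⁻¹ = f t ^ (m₂ * m₁) := by
      calc (q₁ * q₂) * f t * (q₁ * q₂)⁻¹ = q₁ * (q₂ * f t * q₂⁻¹) * q₁⁻¹ := by group
        _ = q₁ * f t ^ m₂ * q₁⁻¹ := by rw [hm₂]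
        _ = (q₁ * f t * q₁⁻¹) ^ m₂ := by rw [conj_zpow]
        _ = f t ^ (m₂ * m₁) := by rw [hm₁, ← zpow_mul, mul_comm]
    have e2 : (q₂ * q₁) * f t * (q₂ * q₁)⁻¹ = f t ^ (m₂ * m₁) := by
      calc (q₂ * q₁) * f t * (q₂ * q₁)⁻¹ = q₂ * (q₁ * f t * q₁⁻¹) * q₂⁻¹ := by group
        _ = q₂ * f t ^ m₁ * q₂⁻¹ := by rw [hm₁]
        _ = (q₂ * f t * q₂⁻¹) ^ m₁ := by rw [conj_zpow]
        _ = f t ^ (m₂ * m₁) := by rw [hm₂, ← zpow_mul]
    rw [e1, e2]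
  -- commutators commute with f t
  have h4' : ∀ q₁ q₂ : G ⧸ H'', Commute ⁅q₁, q₂⁆ (f t) := by
    intro q₁ q₂
    have h := h4 q₁⁻¹ q₂⁻¹
    have e : ⁅q₁, q₂⁆ = (q₂⁻¹ * q₁⁻¹)⁻¹ * (q₁⁻¹ * q₂⁻¹) := by
      rw [commutatorElement_def]; group
    have h' : ⁅q₁, q₂⁆ * f t * ⁅q₁, q₂⁆⁻¹ = f t := by
      calc ⁅q₁, q₂⁆ * f t * ⁅q₁, q₂⁆⁻¹
          = (q₂⁻¹ * q₁⁻¹)⁻¹ * ((q₁⁻¹ * q₂⁻¹) * f t * (q₁⁻¹ * q₂⁻¹)⁻¹) * (q₂⁻¹ * q₁⁻¹) := by
            rw [e]; group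
        _ = (q₂⁻¹ * q₁⁻¹)⁻¹ * ((q₂⁻¹ * q₁⁻¹) * f t * (q₂⁻¹ * q₁⁻¹)⁻¹) * (q₂⁻¹ * q₁⁻¹) := by rw [h]
        _ = f t := by group
    show ⁅q₁, q₂⁆ * f t = f t * ⁅q₁, q₂⁆
    calc ⁅q₁, q₂⁆ * f t = (⁅q₁, q₂⁆ * f t * ⁅q₁, q₂⁆⁻¹) * ⁅q₁, q₂⁆ := by group
      _ = f t * ⁅q₁, q₂⁆ := by rw [h']
  -- (5) elements of H commute with f t
  have h5 : ∀ h ∈ H, Commute (f h) (f t) := by
    have hle : H ≤ (Subgroup.centralizer ({f t} : Set (G ⧸ H''))).comap f := by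
      have hH1 : H ≤ derivedSeries G 1 := derivedSeries_antitone G hi
      refine hH1.trans ?_
      rw [derivedSeries_one, commutator_def, Subgroup.commutator_le]
      intro g₁ _ g₂ _
      rw [Subgroup.mem_comap, map_commutatorElement, Subgroup.mem_centralizer_iff]
      intro y hy
      rw [Set.mem_singleton_iff] at hy
      subst hy
      exact (h4' (f g₁) (f g₂)).eq.symm
    intro h hh
    have := hle hh
    rw [Subgroup.mem_comap, Subgroup.mem_centralizer_iff] at this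
    exact (this (f t) rfl).symm
  -- (6) elements of H commute with images of H'
  have h6 : ∀ h ∈ H, ∀ u ∈ H', Commute (f h) (f u) := by
    intro h hh u hu
    obtain ⟨k, hk⟩ := h1 u hu
    rw [hk]
    exact (h5 h hh).zpow_right k
  have hH'H : H' ≤ H := derivedSeries_antitone G (by omega)
  -- (7) images of elements of H commute
  have h7 : ∀ x ∈ H, ∀ y ∈ H, Commute (f x) (f y) := by
    intro x hx y hy
    obtain ⟨k, u, hu, hxu⟩ := hs x hx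
    obtain ⟨l, v, hv, hyv⟩ := hs y hy
    rw [hxu, hyv]
    have c1 : Commute (f s ^ k) (f s ^ l) := (Commute.refl (f s)).zpow_zpow k l
    have c2 : Commute (f s ^ k) (f v) := by
      rw [← map_zpow]; exact h6 _ (H.zpow_mem hsH k) v hv
    have c3 : Commute (f u) (f s ^ l) := by
      rw [← map_zpow]; exact (h6 _ (H.zpow_mem hsH l) u hu).symm
    have c4 : Commute (f u) (f v) := h6 u (hH'H hu) v hv
    exact Commute.mul_left (Commute.mul_right c1 c2) (Commute.mul_right c3 c4)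
  -- conclusion
  rw [hH'def, Subgroup.commutator_le]
  intro x hx y hy
  rw [← hker, map_commutatorElement, commutatorElement_eq_one_iff_commute]
  exact h7 x hx y hy

end Cfsg.Agent.S0555
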