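import Mathlib
import Cfsg.Statements.S0557

set_option autoImplicit false
open Cfsg

namespace Cfsg.Agent.S0557

open Subgroup

universe u

/-- A normal Hall subgroup contains every subgroup whose order divides its order. -/
theorem le_of_card_dvd_of_normal_coprime {N : Type*} [Group N] [Finite N] (M : Subgroup N)
    [M.Normal] (h : (Nat.card M).Coprime M.index) (K : Subgroup N)
    (hK : Nat.card K ∣ Nat.card M) : K ≤ M := by
  intro k hk
  have h1 : orderOf (QuotientGroup.mk' M k) ∣ Nat.card M :=
    (orderOf_map_dvd _ k).trans ((Subgroup.orderOf_dvd_natCard K hk).trans hK)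
  have h2 : orderOf (QuotientGroup.mk' M k) ∣ M.index := by
    rw [Subgroup.index_eq_card]; exact orderOf_dvd_natCard _
  have h3 : orderOf (QuotientGroup.mk' M k) = 1 := Nat.eq_one_of_dvd_coprimes h h1 h2
  rw [orderOf_eq_one_iff] at h3
  exact (QuotientGroup.eq_one_iff k).mp h3

theorem map_focal_le {G : Type*} [Group G] (N : Subgroup G) (K : Subgroup N) (K' : Subgroup G)
    (h : K.map N.subtype ≤ K') : (focalSubgroup K).map N.subtype ≤ focalSubgroup K' := by
  rw [focalSubgroup_def, MonoidHom.map_closure, focalSubgroup_def]
  apply Subgroup.closure_mono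
  rintro _ ⟨g, ⟨hg, x, hx, u, rfl⟩, rfl⟩
  refine ⟨h (mem_map_of_mem _ hg), (x : G), h (mem_map_of_mem _ hx), (u : G), ?_⟩
  simp [commutatorElement_def]

theorem iterate_map_focal_le {G : Type*} [Group G] (N : Subgroup G) (k : ℕ) (K : Subgroup N)
    (K' : Subgroup G) (h : K.map N.subtype ≤ K') :
    ((fun L : Subgroup N => focalSubgroup L)^[k] K).map N.subtype ≤
      (fun L : Subgroup G => focalSubgroup L)^[k] K' := by
  induction k with
  | zero => simpa using h
  | succ k ih =>
    rw [Function.iterate_succ_apply', Function.iterate_succ_apply']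
    exact map_focal_le N _ _ ih

theorem aux (n : ℕ) : ∀ (G : Type u) [Group G] [Finite G] (H : Subgroup G),
    (Nat.card H).Coprime H.index → (fun K : Subgroup G => focalSubgroup K)^[n] H = ⊥ →
    ∃ N : Subgroup G, N.Normal ∧ IsComplement' N H := by
  induction n with
  | zero =>
    intro G _ _ H _ hfoc
    simp only [Function.iterate_zero, id_eq] at hfoc
    subst hfoc
    exact ⟨⊤, inferInstance, isComplement'_top_bot⟩
  | succ n ih =>
    intro G _ _ H hHall hfoc
    rw [Function.iterate_succ_apply] at hfoc
    have hc : (Nat.card (H ⧸ focalSubgroupOf H)).Coprime H.index :=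
      Nat.Coprime.coprime_dvd_left (Subgroup.card_quotient_dvd_card _) hHall
    have hinj : Function.Injective (fun y : H ⧸ focalSubgroupOf H => y ^ H.index) :=
      (powCoprime hc).injective
    have hsurj' : Function.Surjective (fun y : H ⧸ focalSubgroupOf H => y ^ H.index) :=
      (powCoprime hc).surjective
    have hVsurj : Function.Surjective (transferFocal H) := by
      intro y
      obtain ⟨y', rfl⟩ := hsurj' y
      obtain ⟨x, rfl⟩ := QuotientGroup.mk'_surjective _ y'
      exact ⟨x, transferFocal_eq_pow H x⟩
    have hker : ∀ g : G, g ∈ focalSubgroup H ↔ g ∈ (transferFocal H).ker ∧ g ∈ H := by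
      intro g
      constructor
      · intro hg
        have hgH : g ∈ H := focalSubgroup_le H hg
        refine ⟨?_, hgH⟩
        rw [MonoidHom.mem_ker]
        have h1 := transferFocal_eq_pow H ⟨g, hgH⟩
        have h2 : ((⟨g, hgH⟩ : H) : H ⧸ focalSubgroupOf H) = 1 := by
          rw [QuotientGroup.eq_one_iff, focalSubgroupOf_def, mem_subgroupOf]
          exact hg
        rw [h2, one_pow] at h1
        exact h1
      · rintro ⟨hg, hgH⟩
        rw [MonoidHom.mem_ker] at hg
        have h1 := transferFocal_eq_pow H ⟨g, hgH⟩
        have h1' : transferFocal H g = ((⟨g, hgH⟩ : H) : H ⧸ focalSubgroupOf H) ^ H.index := h1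
        rw [hg] at h1'
        have h2 : ((⟨g, hgH⟩ : H) : H ⧸ focalSubgroupOf H) = 1 := by
          apply hinj
          simp only [one_pow]
          exact h1'.symm
        rw [QuotientGroup.eq_one_iff, focalSubgroupOf_def, mem_subgroupOf] at h2
        exact h2
    set N₁ : Subgroup G := (transferFocal H).ker with hN₁
    have hle : focalSubgroup H ≤ N₁ := fun g hg => ((hker g).mp hg).1
    set c := Nat.card (H ⧸ focalSubgroupOf H) with hcdef
    set f := Nat.card (focalSubgroup H) with hfdef
    have e1 : Nat.card G = Nat.card N₁ * c := by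
      rw [Subgroup.card_eq_card_quotient_mul_card_subgroup N₁, mul_comm]
      congr 1
      exact Nat.card_congr
        (QuotientGroup.quotientKerEquivOfSurjective (transferFocal H) hVsurj).toEquiv
    have e2 : Nat.card H = c * f := by
      rw [Subgroup.card_eq_card_quotient_mul_card_subgroup (focalSubgroupOf H)]
      congr 1
      exact Nat.card_congr (Subgroup.subgroupOfEquivOfLe (focalSubgroup_le H)).toEquiv
    have e3 : Nat.card H * H.index = Nat.card G := Subgroup.card_mul_index H
    have hcpos : 0 < c := Nat.card_pos
    have hfpos : 0 < f := Nat.card_pos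
    have e4 : Nat.card N₁ = f * H.index := by
      have : c * (f * H.index) = c * Nat.card N₁ := by
        rw [← mul_assoc, ← e2, e3, e1, mul_comm]
      exact (Nat.eq_of_mul_eq_mul_left hcpos this).symm
    set H₁' : Subgroup N₁ := (focalSubgroup H).subgroupOf N₁ with hH₁'
    have e5 : Nat.card H₁' = f :=
      Nat.card_congr (Subgroup.subgroupOfEquivOfLe hle).toEquiv
    have e6 : H₁'.index = H.index := by
      have := Subgroup.card_mul_index H₁'
      rw [e5, e4] at this
      exact Nat.eq_of_mul_eq_mul_left hfpos this
    have hfh : f ∣ Nat.card H := ⟨c, by rw [e2, mul_comm]⟩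
    have hcop' : (Nat.card H₁').Coprime H₁'.index := by
      rw [e5, e6]
      exact Nat.Coprime.coprime_dvd_left hfh hHall
    have hfoc' : (fun K : Subgroup N₁ => focalSubgroup K)^[n] H₁' = ⊥ := by
      have h1 := iterate_map_focal_le N₁ n H₁' (focalSubgroup H)
        (by rw [hH₁', Subgroup.subgroupOf_map_subtype]; exact inf_le_left)
      rw [hfoc, le_bot_iff] at h1
      exact (Subgroup.map_eq_bot_iff_of_injective _ (Subgroup.subtype_injective _)).mp h1
    obtain ⟨M, hMn, hMc⟩ := ih N₁ H₁' hcop' hfoc'
    have e7 : Nat.card M * f = Nat.card N₁ := by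
      rw [← e5]; exact hMc.card_mul
    have e8 : Nat.card M = H.index := by
      rw [e4, mul_comm] at e7
      exact Nat.eq_of_mul_eq_mul_left hfpos e7
    have e9 : M.index = f := by
      rw [← e5]; exact hMc.symm.index_eq_card
    have hMcop : (Nat.card M).Coprime M.index := by
      rw [e8, e9]
      exact (Nat.Coprime.coprime_dvd_left hfh hHall).symm
    refine ⟨M.map N₁.subtype, ?_, ?_⟩
    · constructor
      intro x hx g
      obtain ⟨y, hy, rfl⟩ := hx
      have hN₁n : N₁.Normal := by rw [hN₁]; infer_instance
      let K : Subgroup N₁ := M.map (MulAut.conjNormal g : MulAut N₁).toMonoidHom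
      have hKcard : Nat.card K = Nat.card M :=
        Subgroup.card_map_of_injective (MulAut.conjNormal g : MulAut N₁).injective
      have hKM : K ≤ M := le_of_card_dvd_of_normal_coprime M hMcop K (by rw [hKcard])
      have hmem : (MulAut.conjNormal g : MulAut N₁) y ∈ M := hKM (mem_map_of_mem _ hy)
      refine ⟨(MulAut.conjNormal g : MulAut N₁) y, hmem, ?_⟩
      simp [MulAut.conjNormal_apply]
    · apply Subgroup.isComplement'_of_coprime
      · rw [Subgroup.card_map_of_injective (Subgroup.subtype_injective _), e8, mul_comm, e3]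
      · rw [Subgroup.card_map_of_injective (Subgroup.subtype_injective _), e8]
        exact hHall.symm

theorem result {G : Type*} [Group G] [Finite G] (H : Subgroup G) (hHall : (Nat.card H).Coprime H.index) (n : ℕ) (hfoc : (fun K : Subgroup G => Subgroup.focalSubgroup K)^[n] H = ⊥) : ∃ N : Subgroup G, N.Normal ∧ Subgroup.IsComplement' N H :=
  aux n G H hHall hfoc

end Cfsg.Agent.S0557
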