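import Mathlib
import Cfsg.Statements.S0559

set_option autoImplicit false
open Cfsg
open scoped Pointwise

namespace Cfsg.Agent.S0559

theorem mem_conj_smul_iff {G : Type*} [Group G] (g x : G) (H : Subgroup G) :
    x ∈ MulAut.conj g • H ↔ g⁻¹ * x * g ∈ H := by
  rw [Subgroup.mem_pointwise_smul_iff_inv_smul_mem]
  simp only [MulAut.smul_def, map_inv, MulAut.inv_apply, MulAut.conj_symm_apply]

theorem result {G : Type*} [Group G] [Finite G] (H K A B : Subgroup G) (hHK : ∀ g : G, ∃ h ∈ H, ∃ k ∈ K, g = h * k) (hA : ∃ x : G, A = MulAut.conj x • H) (hB : ∃ y : G, B = MulAut.conj y • K) : (∀ g : G, ∃ a ∈ A, ∃ b ∈ B, g = a * b) ∧ ∃ g : G, A = MulAut.conj g • H ∧ B = MulAut.conj g • K := by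
  obtain ⟨x, rfl⟩ := hA
  obtain ⟨y, rfl⟩ := hB
  obtain ⟨h, hh, k, hk, hxy⟩ := hHK (x⁻¹ * y)
  have hg : x * h = y * k⁻¹ := by
    have : y = x * (h * k) := by rw [← hxy]; group
    rw [this]; group
  have e1 : MulAut.conj (x * h) • H = MulAut.conj x • H := by
    rw [map_mul, mul_smul, Subgroup.conj_smul_eq_self_of_mem hh]
  have e2 : MulAut.conj (x * h) • K = MulAut.conj y • K := by
    rw [hg, map_mul, mul_smul, Subgroup.conj_smul_eq_self_of_mem (K.inv_mem hk)]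
  refine ⟨?_, x * h, e1.symm, e2.symm⟩
  intro g
  rw [← e1, ← e2]
  obtain ⟨h', hh', k', hk', hg'⟩ := hHK ((x * h)⁻¹ * g * (x * h))
  refine ⟨(x * h) * h' * (x * h)⁻¹, ?_, (x * h) * k' * (x * h)⁻¹, ?_, ?_⟩
  · rw [mem_conj_smul_iff]
    have : (x * h)⁻¹ * ((x * h) * h' * (x * h)⁻¹) * (x * h) = h' := by group
    rw [this]; exact hh'
  · rw [mem_conj_smul_iff]
    have : (x * h)⁻¹ * ((x * h) * k' * (x * h)⁻¹) * (x * h) = k' := by group
    rw [this]; exact hk'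
  · have : (x * h) * h' * (x * h)⁻¹ * ((x * h) * k' * (x * h)⁻¹) = (x * h) * (h' * k') * (x * h)⁻¹ := by
      group
    rw [this, ← hg']; group

end Cfsg.Agent.S0559
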