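import Mathlib
import Cfsg.Statements.S0563
import Cfsg.Agent.Lib.Helper4.KWEnd3
import Cfsg.Agent.S0561
-- import your own Cfsg.Agent.* helpers here

set_option autoImplicit false
open Pointwise
open Cfsg

namespace Cfsg.Agent.S0563

theorem hall_of_sylow {G : Type*} [Group G] [Finite G] (A : Subgroup G) (m : ℕ)
    (hcard : Nat.card G = Nat.card A * m) (hcop : (Nat.card A).Coprime m) (p : ℕ)
    [hp : Fact p.Prime] (P : Sylow p A) :
    (Nat.card ((P : Subgroup A).map A.subtype : Subgroup G)).Coprime
      ((P : Subgroup A).map A.subtype : Subgroup G).index := by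
  set A' := ((P : Subgroup A).map A.subtype : Subgroup G) with hA'
  have hc : Nat.card A' = p ^ (Nat.card A).factorization p := by
    rw [hA', Subgroup.card_map_of_injective (Subgroup.subtype_injective _)]
    exact P.card_eq_multiplicity
  have hi : A'.index = (Nat.card A / p ^ (Nat.card A).factorization p) * m := by
    have h1 := Subgroup.card_mul_index A'
    rw [hcard, hc] at h1
    have h2 := Nat.ordProj_mul_ordCompl_eq_self (Nat.card A) p
    have h3 : p ^ (Nat.card A).factorization p * A'.index =
        p ^ (Nat.card A).factorization p *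
          ((Nat.card A / p ^ (Nat.card A).factorization p) * m) := by
      rw [h1, ← mul_assoc, h2]
    exact Nat.eq_of_mul_eq_mul_left (pow_pos hp.out.pos _) h3
  rw [hc, hi]
  by_cases hv : (Nat.card A).factorization p = 0
  · rw [hv, pow_zero]; exact Nat.coprime_one_left _
  · apply Nat.Coprime.pow_left
    have hpA : p ∣ Nat.card A := by
      by_contra hcon
      exact hv (Nat.factorization_eq_zero_of_not_dvd hcon)
    apply Nat.Coprime.mul_right
    · exact Nat.coprime_ordCompl hp.out Nat.card_pos.ne'
    · exact Nat.Coprime.coprime_dvd_left hpA hcop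

theorem normal_sylow_subgroupOf {G : Type*} [Group G] [Finite G] (A : Subgroup G)
    (hA : Group.IsNilpotent A) (p : ℕ) [Fact p.Prime] (P : Sylow p A) :
    (((P : Subgroup A).map A.subtype : Subgroup G).subgroupOf A).Normal := by
  have h1 : ((P : Subgroup A).map A.subtype : Subgroup G).subgroupOf A = (P : Subgroup A) :=
    Subgroup.comap_map_eq_self_of_injective (Subgroup.subtype_injective A) _
  rw [h1]
  exact Sylow.normal_of_normalizerCondition Group.normalizerCondition_of_isNilpotent P

/-- If a finite group G is the product AB of two nilpotent subgroups of coprime orders, then G is solvable, and for every Sylow p-subgroup P of A and Sylow q-subgroup Q of B the product set PQ is a subgroup. -/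
theorem result {G : Type*} [Group G] [Finite G] (A B : Subgroup G) (hA : Group.IsNilpotent A) (hB : Group.IsNilpotent B) (hcop : (Nat.card A).Coprime (Nat.card B)) (hAB : ∀ g : G, ∃ a ∈ A, ∃ b ∈ B, g = a * b) : Group.IsSolvable G ∧ ∀ (p q : ℕ) [Fact p.Prime] [Fact q.Prime] (P : Sylow p A) (Q : Sylow q B), ∃ S : Subgroup G, (S : Set G) = (((P : Subgroup A).map A.subtype : Subgroup G) : Set G) * (((Q : Subgroup B).map B.subtype : Subgroup G) : Set G) := by
  have hsol : Group.IsSolvable G := Cfsg.Agent.Helper4.KW.kegel_wielandt A B hA hB hAB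
  refine ⟨hsol, ?_⟩
  intro p q _ _ P Q
  have hinf : A ⊓ B = ⊥ := Subgroup.inf_eq_bot_of_coprime hcop
  have hcard : Nat.card G = Nat.card A * Nat.card B := by
    have := Cfsg.Agent.Helper3.card_mul_card_inf_of_mul_eq_univ A B hAB
    rw [hinf, Subgroup.card_bot, mul_one] at this
    exact this
  have hBA : ∀ g : G, ∃ b ∈ B, ∃ a ∈ A, g = b * a := by
    intro g
    obtain ⟨a, ha, b, hb, e⟩ := hAB g⁻¹
    exact ⟨b⁻¹, B.inv_mem hb, a⁻¹, A.inv_mem ha, by rw [← mul_inv_rev, ← e, inv_inv]⟩
  obtain ⟨S, hS⟩ := Cfsg.Agent.S0561.result A B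
    ((P : Subgroup A).map A.subtype) ((Q : Subgroup B).map B.subtype) hAB
    (Subgroup.map_subtype_le _) (normal_sylow_subgroupOf A hA p P)
    (Subgroup.map_subtype_le _) (normal_sylow_subgroupOf B hB q Q)
    (hall_of_sylow A (Nat.card B) hcard hcop p P)
    (hall_of_sylow B (Nat.card A) (by rw [hcard, mul_comm]) hcop.symm q Q) 1 1
  refine ⟨S, ?_⟩
  rw [hS, map_one, one_smul, one_smul]

end Cfsg.Agent.S0563
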