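import Mathlib
import Cfsg.Statements.S0567
import Cfsg.Agent.Lib.Helper3.Basic

set_option autoImplicit false
open Cfsg
open scoped Pointwise commutatorElement

namespace Cfsg.Agent.S0567

open Cfsg.Agent.Helper3

variable {G : Type*} [Group G]

/-- the iterated commutator `[G, H, ..., H]` -/
abbrev itc (H : Subgroup G) (m : ℕ) : Subgroup G := (fun K : Subgroup G => ⁅K, H⁆)^[m] ⊤

theorem itc_succ (H : Subgroup G) (m : ℕ) : itc H (m + 1) = ⁅itc H m, H⁆ := by
  unfold itc
  rw [Function.iterate_succ_apply']

theorem itc_mono {H K : Subgroup G} (h : H ≤ K) (m : ℕ) : itc H m ≤ itc K m := by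
  induction m with
  | zero => exact le_rfl
  | succ m ih =>
    rw [itc_succ, itc_succ]
    exact Subgroup.commutator_mono ih h

theorem commutator_le_of_normal_subgroupOf {A B : Subgroup G} (hAB : A ≤ B)
    (hn : (A.subgroupOf B).Normal) : ⁅B, A⁆ ≤ A := by
  rw [← Subgroup.le_normalizer_iff_commutator_le_right]
  exact (Subgroup.normal_subgroupOf_iff_le_normalizer hAB).mp hn

theorem forward (H : Subgroup G) (h : H.IsSubnormal) : ∃ m : ℕ, itc H m ≤ H := by
  induction h with
  | top => exact ⟨0, le_rfl⟩
  | step H K h_le _ hN ih =>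
    obtain ⟨m, hm⟩ := ih
    refine ⟨m + 1, ?_⟩
    rw [itc_succ]
    calc ⁅itc H m, H⁆ ≤ ⁅K, H⁆ := Subgroup.commutator_mono ((itc_mono h_le m).trans hm) le_rfl
      _ ≤ H := commutator_le_of_normal_subgroupOf h_le hN

theorem normalizes_itc (H : Subgroup G) (m : ℕ) : H ≤ Subgroup.normalizer (itc H m : Set G) := by
  cases m with
  | zero =>
    show H ≤ Subgroup.normalizer ((⊤ : Subgroup G) : Set G)
    rw [Subgroup.normalizer_eq_top]
    exact le_top
  | succ m =>
    rw [itc_succ]
    exact Subgroup.normalizer_commutator_ge_right _ _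

theorem chain_normal (H : Subgroup G) (j : ℕ) :
    H ⊔ itc H j ≤ Subgroup.normalizer ((H ⊔ itc H (j + 1) : Subgroup G) : Set G) := by
  apply sup_le
  · exact le_normalizer_sup Subgroup.le_normalizer (normalizes_itc H (j + 1))
  · apply le_normalizer_of_forall_conj_smul_le
    intro k hk
    rw [Subgroup.smul_sup]
    apply sup_le
    · intro x hx
      rw [mem_conj_smul_iff] at hx
      -- x = k (k⁻¹ x k) k⁻¹ = ⁅k, y⁆ * y with y = k⁻¹ x k ∈ H
      have e : x = ⁅k, k⁻¹ * x * k⁆ * (k⁻¹ * x * k) := by
        rw [commutatorElement_def]; group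
      rw [e]
      apply Subgroup.mul_mem
      · apply (le_sup_right : itc H (j + 1) ≤ H ⊔ itc H (j + 1))
        rw [itc_succ]
        exact Subgroup.commutator_mem_commutator hk hx
      · exact (le_sup_left : H ≤ H ⊔ itc H (j + 1)) hx
    · have : k ∈ Subgroup.normalizer (itc H (j + 1) : Set G) := by
        rw [itc_succ]
        exact Subgroup.normalizer_commutator_ge_left _ _ hk
      rw [conj_smul_eq_of_mem_normalizer this]
      exact le_sup_right

theorem backward (H : Subgroup G) (m : ℕ) (hm : itc H m ≤ H) : H.IsSubnormal := by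
  have key : ∀ j, (H ⊔ itc H j).IsSubnormal := by
    intro j
    induction j with
    | zero =>
      have : H ⊔ itc H 0 = ⊤ := by
        show H ⊔ ⊤ = ⊤
        simp
      rw [this]
      exact Subgroup.IsSubnormal.top
    | succ j ih =>
      have hle : H ⊔ itc H (j + 1) ≤ H ⊔ itc H j := by
        apply sup_le le_sup_left
        rw [itc_succ]
        calc ⁅itc H j, H⁆ ≤ itc H j ⊔ H := Subgroup.commutator_le_sup _ _
          _ = H ⊔ itc H j := sup_comm _ _
      refine Subgroup.IsSubnormal.step _ _ hle ih ?_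
      rw [Subgroup.normal_subgroupOf_iff_le_normalizer hle]
      exact chain_normal H j
  have := key m
  rwa [sup_eq_left.mpr hm] at this

theorem result {G : Type*} [Group G] (H : Subgroup G) : H.IsSubnormal ↔ ∃ m : ℕ, (fun K : Subgroup G => ⁅K, H⁆)^[m] ⊤ ≤ H := by
  constructor
  · exact forward H
  · rintro ⟨m, hm⟩
    exact backward H m hm

end Cfsg.Agent.S0567
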