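import Mathlib
import Cfsg.Statements.S0568
import Cfsg.Agent.Lib.Helper3.CoverAvoid
import Cfsg.Agent.S0545

set_option autoImplicit false
open Pointwise
open Cfsg

namespace Cfsg.Agent.S0568

open scoped commutatorElement
open Cfsg.Agent.Helper3

/-- Let D be the system normalizer of a Hall complement system of a finite solvable group G, and let A < B be normal subgroups with no normal subgroup of G strictly between them (a chief factor). If G centralizes B modulo A then B ≤ A ⊔ D (D covers the factor); otherwise B ∩ D ≤ A (D avoids it). -/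
theorem result {G : Type*} [Group G] [Finite G] [Group.IsSolvable G] (K : Nat.Primes → Subgroup G) (hK : Cfsg.IsComplementSystem K) (A B : Subgroup G) [A.Normal] [B.Normal] (hAB : A < B) (hchief : ∀ N : Subgroup G, N.Normal → A ≤ N → N ≤ B → N = A ∨ N = B) : (⁅B, (⊤ : Subgroup G)⁆ ≤ A → B ≤ A ⊔ Cfsg.systemNormalizer K) ∧ (¬ ⁅B, (⊤ : Subgroup G)⁆ ≤ A → B ⊓ Cfsg.systemNormalizer K ≤ A) := by
  classical
  have hsurj : Function.Surjective (QuotientGroup.mk' A) := QuotientGroup.mk'_surjective A
  obtain ⟨hK', hD'⟩ := Cfsg.Agent.S0545.result K hK A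
  constructor
  · intro hcen b hb
    -- the image of `b` is central
    have hbc : ∀ y : G ⧸ A, y * QuotientGroup.mk' A b = QuotientGroup.mk' A b * y := by
      intro y
      obtain ⟨g, rfl⟩ := hsurj y
      rw [← map_mul, ← map_mul]
      apply (QuotientGroup.eq).mpr
      have e : (g * b)⁻¹ * (b * g) = ⁅b⁻¹, g⁻¹⁆ := by
        rw [commutatorElement_def]; group
      rw [e]
      exact hcen (Subgroup.commutator_mem_commutator (B.inv_mem hb) (Subgroup.mem_top _))
    have hbD : QuotientGroup.mk' A b ∈
        Cfsg.systemNormalizer (fun p => (K p).map (QuotientGroup.mk' A)) := by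
      unfold Cfsg.systemNormalizer
      rw [Subgroup.mem_iInf]
      intro p
      rw [Subgroup.mem_normalizer_iff]
      intro h
      have : QuotientGroup.mk' A b * h * (QuotientGroup.mk' A b)⁻¹ = h := by
        rw [← hbc h, mul_inv_cancel_right]
      rw [this]
    rw [hD'] at hbD
    obtain ⟨d, hd, hdb⟩ := hbD
    have hA : d⁻¹ * b ∈ A := (QuotientGroup.eq).mp hdb
    have : b = d * (d⁻¹ * b) := by group
    rw [this]
    exact Subgroup.mul_mem _ (Subgroup.mem_sup_right hd) (Subgroup.mem_sup_left hA)
  · intro hncen x hx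
    obtain ⟨hxB, hxD⟩ := Subgroup.mem_inf.mp hx
    by_contra hxA
    apply hncen
    set B' := B.map (QuotientGroup.mk' A) with hB'
    have hB'n : B'.Normal := Subgroup.Normal.map inferInstance _ hsurj
    have hx'B : QuotientGroup.mk' A x ∈ B' := Subgroup.mem_map_of_mem _ hxB
    have hx'1 : QuotientGroup.mk' A x ≠ 1 := fun h => hxA ((QuotientGroup.eq_one_iff x).mp h)
    have hB'bot : B' ≠ ⊥ := by
      intro h
      rw [h, Subgroup.mem_bot] at hx'B
      exact hx'1 hx'B
    have hmin : ∀ N : Subgroup (G ⧸ A), N.Normal → N ≤ B' → N = ⊥ ∨ N = B' := by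
      intro N hNn hNB
      have h1 : A ≤ N.comap (QuotientGroup.mk' A) := by
        intro a ha
        rw [Subgroup.mem_comap]
        have : QuotientGroup.mk' A a = 1 := (QuotientGroup.eq_one_iff a).mpr ha
        rw [this]; exact N.one_mem
      have h2 : N.comap (QuotientGroup.mk' A) ≤ B := by
        have := Subgroup.comap_mono (f := QuotientGroup.mk' A) hNB
        rwa [hB', Subgroup.comap_map_eq, QuotientGroup.ker_mk', sup_of_le_left hAB.le] at this
      have h3 := Subgroup.map_comap_eq_self_of_surjective hsurj N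
      rcases hchief _ (hNn.comap _) h1 h2 with h | h
      · left
        rw [← h3, h, QuotientGroup.map_mk'_self]
      · right
        rw [← h3, h]
    have hcomm := commute_of_minimal_normal B' hB'bot hmin
    obtain ⟨p, d, hp, hd, hcard, -⟩ := card_eq_prime_pow_of_minimal_normal B' hB'bot hmin hcomm
    have : Fact p.Prime := ⟨hp⟩
    have hB'p : IsPGroup p B' := IsPGroup.of_card hcard
    set P : Nat.Primes := ⟨p, hp⟩ with hP
    have hidx : ((K P).map (QuotientGroup.mk' A)).index = p ^ (Nat.card (G ⧸ A)).factorization p :=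
      hK' P
    have hxQ : QuotientGroup.mk' A x ∈ Subgroup.normalizer
        (((K P).map (QuotientGroup.mk' A) : Subgroup (G ⧸ A)) : Set (G ⧸ A)) := by
      have : QuotientGroup.mk' A x ∈ (Cfsg.systemNormalizer K).map (QuotientGroup.mk' A) :=
        Subgroup.mem_map_of_mem _ hxD
      rw [← hD'] at this
      unfold Cfsg.systemNormalizer at this
      exact (Subgroup.mem_iInf.mp this) P
    have hcen := central_of_minimal_normal_of_normalizes B' hmin p hB'p
      ((K P).map (QuotientGroup.mk' A)) ⟨_, hidx⟩
      (Cfsg.Agent.S0544.not_dvd_card_of_index _ p hp hidx) (QuotientGroup.mk' A x) hx'B hx'1 hxQ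
    rw [Subgroup.commutator_le]
    intro b hb g _
    apply (QuotientGroup.eq_one_iff _).mp
    have hbc := Subgroup.mem_center_iff.mp (hcen (Subgroup.mem_map_of_mem (QuotientGroup.mk' A) hb))
    have : (QuotientGroup.mk' A) ⁅b, g⁆ = ⁅QuotientGroup.mk' A b, QuotientGroup.mk' A g⁆ :=
      map_commutatorElement _ _ _
    change (QuotientGroup.mk' A) ⁅b, g⁆ = 1
    rw [this, commutatorElement_eq_one_iff_mul_comm]
    exact (hbc _).symm

end Cfsg.Agent.S0568
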