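import Mathlib
import Cfsg.Statements.S0570
import Cfsg.Agent.Lib.Helper3.SysNormCarter

set_option autoImplicit false
open Cfsg

namespace Cfsg.Agent.S0570

open Cfsg.Agent.Helper3

universe u

section

variable {G : Type u} [Group G]

/-- A `p'`-element normalizing a subgroup of `p`-power index lies in it. -/
theorem mem_of_mem_normalizer_of_coprime [Finite G] (L : Subgroup G) {p a : ℕ}
    (hL : L.index = p ^ a) {d : G} (hd : d ∈ Subgroup.normalizer (L : Set G))
    (hcop : (orderOf d).Coprime p) : d ∈ L := by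
  have hZ : Subgroup.zpowers d ≤ Subgroup.normalizer (L : Set G) := Subgroup.zpowers_le.mpr hd
  have h1 : L.relIndex (Subgroup.zpowers d) ∣ p ^ a :=
    hL ▸ Cfsg.Agent.S0544.relIndex_dvd_index_of_le_normalizer hZ
  have h2 : L.relIndex (Subgroup.zpowers d) ∣ orderOf d := by
    rw [← Nat.card_zpowers]
    exact Subgroup.relIndex_dvd_card _ _
  have h3 : L.relIndex (Subgroup.zpowers d) = 1 :=
    Nat.eq_one_of_dvd_coprimes (Nat.Coprime.pow_right a hcop) h2 h1
  rw [Subgroup.relIndex_eq_one] at h3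
  exact h3 (Subgroup.mem_zpowers d)

/-- A normal `p'`-subgroup lies in every subgroup of `p`-power index. -/
theorem le_of_normal_of_coprime [Finite G] (Q L : Subgroup G) [Q.Normal] {p a : ℕ}
    (hL : L.index = p ^ a) (hQ : (Nat.card Q).Coprime p) : Q ≤ L := by
  rw [← Subgroup.relIndex_eq_one]
  have h1 : L.relIndex Q ∣ p ^ a :=
    hL ▸ Cfsg.Agent.Helper21.relIndex_dvd_index_of_normal_right L Q
  have h2 : L.relIndex Q ∣ Nat.card Q := Subgroup.relIndex_dvd_card _ _
  exact Nat.eq_one_of_dvd_coprimes (Nat.Coprime.pow_right a hQ) h2 h1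

/-- In a finite nilpotent group a Hall `p'`-subgroup is normal. -/
theorem normal_of_isNilpotent_of_index [Finite G] (hG : Group.IsNilpotent G) (L : Subgroup G)
    {p a : ℕ} [Fact p.Prime] (hL : L.index = p ^ a) (hLc : (Nat.card L).Coprime p) :
    L.Normal := by
  obtain ⟨M, hMn, hMc, j, hMj⟩ := exists_normal_compl_of_isNilpotent hG p
  haveI := hMn
  have hLM : L ≤ M := fun x hx =>
    mem_of_coprime_orderOf_of_index_pow M hMj (orderOf_coprime_of_mem hLc hx)
  have hML : M ≤ L := le_of_normal_of_coprime M L hL hMc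
  rw [le_antisymm hLM hML]
  exact hMn

theorem orderOf_conj_eq (g x : G) : orderOf (g * x * g⁻¹) = orderOf x := by
  have h : SemiconjBy g x (g * x * g⁻¹) := by
    unfold SemiconjBy; group
  exact (SemiconjBy.orderOf_eq g h).symm

/-- The `p`-part and the `p'`-part of a nilpotent normal subgroup, as normal subgroups of the
whole group. -/
theorem exists_parts_of_nilpotent_normal [Finite G] (F : Subgroup G) [hFn : F.Normal]
    (hF : Group.IsNilpotent F) (p : ℕ) [hp : Fact p.Prime] :
    ∃ P Q : Subgroup G, P.Normal ∧ Q.Normal ∧ IsPGroup p P ∧ (Nat.card Q).Coprime p ∧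
      (∀ x ∈ F, (∃ k, orderOf x = p ^ k) → x ∈ P) ∧
      (∀ x ∈ F, (orderOf x).Coprime p → x ∈ Q) := by
  obtain ⟨Q, hQF, -, hQc, -, hQel⟩ := Cfsg.Agent.Helper1.exists_pPrime_of_nilpotent hF p
  let P₀ : Sylow p F := default
  have hP₀n : (P₀ : Subgroup F).Normal :=
    ((Group.isNilpotent_of_finite_tfae (G := F)).out 0 3 rfl rfl).mp hF p hp P₀
  set P : Subgroup G := (P₀ : Subgroup F).map F.subtype with hP
  have hPF : P ≤ F := Subgroup.map_subtype_le _
  have hPp : IsPGroup p P := P₀.isPGroup'.map _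
  have hPel : ∀ x ∈ F, (∃ k, orderOf x = p ^ k) → x ∈ P := by
    intro x hx ⟨k, hk⟩
    have h1 : (⟨x, hx⟩ : F) ^ (P₀ : Subgroup F).index ∈ (P₀ : Subgroup F) :=
      Subgroup.pow_index_mem _ _
    have h2 : ((P₀ : Subgroup F).index).Coprime (orderOf (⟨x, hx⟩ : F)) := by
      rw [Subgroup.orderOf_mk, hk]
      apply Nat.Coprime.pow_right
      exact ((Nat.Prime.coprime_iff_not_dvd hp.out).mpr P₀.not_dvd_index).symm
    obtain ⟨m, hm⟩ := exists_pow_eq_self_of_coprime h2
    have h3 : (⟨x, hx⟩ : F) ∈ (P₀ : Subgroup F) := by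
      rw [← hm]; exact pow_mem h1 m
    exact ⟨⟨x, hx⟩, h3, rfl⟩
  refine ⟨P, Q, ?_, ?_, hPp, hQc, hPel, hQel⟩
  · constructor
    intro y hy g
    apply hPel _ (hFn.conj_mem y (hPF hy) g)
    rw [orderOf_conj_eq]
    obtain ⟨k, hk⟩ := (IsPGroup.iff_orderOf.mp hPp) ⟨y, hy⟩
    rw [Subgroup.orderOf_mk] at hk
    exact ⟨k, hk⟩
  · constructor
    intro y hy g
    apply hQel _ (hFn.conj_mem y (hQF hy) g)
    rw [orderOf_conj_eq]
    exact orderOf_coprime_of_mem hQc hy

theorem eq_one_of_mem_pGroup_of_mem_coprime [Finite G] {p : ℕ} [Fact p.Prime] (S L : Subgroup G)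
    (hS : IsPGroup p S) (hL : (Nat.card L).Coprime p) {s : G} (hsS : s ∈ S) (hsL : s ∈ L) :
    s = 1 := by
  obtain ⟨b, hb⟩ := IsPGroup.iff_card.mp hS
  have hdisj : Disjoint S L := by
    apply Subgroup.disjoint_of_coprime_natCard
    rw [hb]
    exact Nat.Coprime.pow_left _ hL.symm
  have : s ∈ S ⊓ L := Subgroup.mem_inf.mpr ⟨hsS, hsL⟩
  rwa [hdisj.eq_bot, Subgroup.mem_bot] at this

/-- In a group of nilpotent length at most two every system normalizer is a Carter subgroup. -/
theorem isCarter_systemNormalizer [Finite G] [Group.IsSolvable G] (F : Subgroup G)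
    [hFn : F.Normal] (hF : Group.IsNilpotent F) (hGF : Group.IsNilpotent (G ⧸ F))
    (K : Nat.Primes → Subgroup G) (hK : Cfsg.IsComplementSystem K) :
    Cfsg.Agent.Helper1.IsCarter (Cfsg.systemNormalizer K) := by
  have hDle : ∀ p, Cfsg.systemNormalizer K ≤ Subgroup.normalizer (K p : Set G) :=
    fun p => iInf_le _ p
  refine ⟨Cfsg.Agent.S0544.result K hK, le_antisymm ?_ Subgroup.le_normalizer⟩
  -- `G = D F`
  have hDF : ∀ g : G, ∃ d ∈ Cfsg.systemNormalizer K, d⁻¹ * g ∈ F := by
    intro g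
    set π := QuotientGroup.mk' F with hπ
    have hKb := Cfsg.Agent.S0545.isComplementSystem_map K hK F
    have htop : Cfsg.systemNormalizer (fun p => (K p).map π) = ⊤ := by
      rw [eq_top_iff]
      intro y _
      rw [mem_systemNormalizer_iff]
      intro p
      haveI : Fact (p : ℕ).Prime := ⟨p.2⟩
      have hcop : (Nat.card ((K p).map π)).Coprime p :=
        ((Nat.Prime.coprime_iff_not_dvd p.2).mpr
          (Cfsg.Agent.S0544.not_dvd_card_of_index _ p p.2 (hKb p))).symm
      haveI := normal_of_isNilpotent_of_index hGF ((K p).map π) (hKb p) hcop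
      rw [Subgroup.normalizer_eq_top]
      exact Subgroup.mem_top y
    rw [Cfsg.Agent.S0545.systemNormalizer_map K hK F] at htop
    have h1 : π g ∈ (Cfsg.systemNormalizer K).map π := by rw [htop]; exact Subgroup.mem_top _
    obtain ⟨d, hd, hdg⟩ := h1
    refine ⟨d, hd, ?_⟩
    rw [← QuotientGroup.eq]
    exact hdg
  intro x hx
  obtain ⟨d, hd, hf⟩ := hDF x
  set f := d⁻¹ * x with hfdef
  have hfN : f ∈ Subgroup.normalizer ((Cfsg.systemNormalizer K : Subgroup G) : Set G) :=
    mul_mem (inv_mem (Subgroup.le_normalizer hd)) hx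
  suffices hfD : f ∈ Cfsg.systemNormalizer K by
    have : x = d * f := by rw [hfdef]; group
    rw [this]; exact mul_mem hd hfD
  rw [mem_systemNormalizer_iff]
  intro p
  have hp : (p : ℕ).Prime := p.2
  haveI : Fact (p : ℕ).Prime := ⟨hp⟩
  obtain ⟨P, Q, hPn, hQn, hPp, hQc, hPel, hQel⟩ := exists_parts_of_nilpotent_normal F hF (p : ℕ)
  have hKidx := hK p
  have hKc : (Nat.card (K p)).Coprime p :=
    ((Nat.Prime.coprime_iff_not_dvd hp).mpr
      (Cfsg.Agent.S0544.not_dvd_card_of_index _ p hp hKidx)).symm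
  have hQK : Q ≤ K p := le_of_normal_of_coprime Q (K p) hKidx hQc
  have hDK : ∀ d ∈ Cfsg.systemNormalizer K, (orderOf d).Coprime p → d ∈ K p :=
    fun d hd hc => mem_of_mem_normalizer_of_coprime (K p) hKidx (hDle p hd) hc
  obtain ⟨u, v, hfuv, -, ⟨k, hu⟩, hv, huz, hvz⟩ :=
    Cfsg.Agent.Helper20.exists_pPart_decomp (p : ℕ) f (orderOf_pos f)
  have hzF : Subgroup.zpowers f ≤ F := Subgroup.zpowers_le.mpr hf
  have hzN : Subgroup.zpowers f ≤
      Subgroup.normalizer ((Cfsg.systemNormalizer K : Subgroup G) : Set G) :=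
    Subgroup.zpowers_le.mpr hfN
  have hvK : v ∈ K p := hQK (hQel v (hzF hvz) hv)
  have huP : u ∈ P := hPel u (hzF huz) ⟨k, hu⟩
  have huN := hzN huz
  -- `u` commutes with `Q`
  have hcommQ : ∀ y ∈ Q, u * y = y * u := by
    intro y hy
    have hdisj : Disjoint P Q := by
      obtain ⟨b, hb⟩ := IsPGroup.iff_card.mp hPp
      apply Subgroup.disjoint_of_coprime_natCard
      rw [hb]
      exact Nat.Coprime.pow_left _ hQc.symm
    exact (Subgroup.commute_of_normal_of_disjoint P Q hPn hQn hdisj u y huP hy).eq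
  -- `u` commutes with the `p'`-elements of `D`
  have hcommD : ∀ y ∈ Cfsg.systemNormalizer K, y ∈ K p → u * y = y * u := by
    intro y hy hyK
    have hc1 : u * y * u⁻¹ ∈ Cfsg.systemNormalizer K :=
      (Subgroup.mem_normalizer_iff.mp huN y).mp hy
    have hc2 : u * y * u⁻¹ ∈ K p := by
      apply hDK _ hc1
      rw [orderOf_conj_eq]
      exact orderOf_coprime_of_mem hKc hyK
    have hc3 : u * y * u⁻¹ * y⁻¹ ∈ K p := mul_mem hc2 (inv_mem hyK)
    have hc4 : u * y * u⁻¹ * y⁻¹ ∈ P := by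
      have e : u * y * u⁻¹ * y⁻¹ = u * (y * u⁻¹ * y⁻¹) := by group
      rw [e]
      exact mul_mem huP (hPn.conj_mem u⁻¹ (inv_mem huP) y)
    have hc5 := eq_one_of_mem_pGroup_of_mem_coprime P (K p) hPp hKc hc4 hc3
    rw [mul_inv_eq_one] at hc5
    calc u * y = (u * y * u⁻¹) * u := by group
      _ = y * u := by rw [hc5]
  -- `u` commutes with `K p`
  have hcommK : ∀ y ∈ K p, u * y = y * u := by
    intro y hy
    obtain ⟨d', hd', hf'⟩ := hDF y
    obtain ⟨du, dv, hd'uv, hducomm, ⟨k₁, hdu⟩, hdv, hduz, hdvz⟩ :=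
      Cfsg.Agent.Helper20.exists_pPart_decomp (p : ℕ) d' (orderOf_pos d')
    obtain ⟨fu, fv, hf'uv, -, ⟨k₂, hfu⟩, hfv, hfuz, hfvz⟩ :=
      Cfsg.Agent.Helper20.exists_pPart_decomp (p : ℕ) (d'⁻¹ * y) (orderOf_pos _)
    have hzD : Subgroup.zpowers d' ≤ Cfsg.systemNormalizer K := Subgroup.zpowers_le.mpr hd'
    have hzF' : Subgroup.zpowers (d'⁻¹ * y) ≤ F := Subgroup.zpowers_le.mpr hf'
    have hdvK : dv ∈ K p := hDK dv (hzD hdvz) hdv
    have hfvQ : fv ∈ Q := hQel fv (hzF' hfvz) hfv
    have hfuP : fu ∈ P := hPel fu (hzF' hfuz) ⟨k₂, hfu⟩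
    have hy : y = dv * (du * fu) * fv := by
      have e : y = d' * (d'⁻¹ * y) := by group
      rw [e, hf'uv, hd'uv, hducomm]; group
    -- `du * fu` is a `p`-element of `K p`
    have hS : IsPGroup (p : ℕ) (Subgroup.zpowers du ⊔ P : Subgroup G) := by
      haveI := hPn
      apply IsPGroup.to_sup_of_normal_right _ hPp
      apply IsPGroup.of_card (n := k₁)
      rw [Nat.card_zpowers, hdu]
    have hsS : du * fu ∈ (Subgroup.zpowers du ⊔ P : Subgroup G) :=
      mul_mem (Subgroup.mem_sup_left (Subgroup.mem_zpowers du)) (Subgroup.mem_sup_right hfuP)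
    have hsK : du * fu ∈ K p := by
      have e : du * fu = dv⁻¹ * y * fv⁻¹ := by rw [hy]; group
      rw [e]
      exact mul_mem (mul_mem (inv_mem hdvK) ‹y ∈ K p›) (inv_mem (hQK hfvQ))
    have hs1 := eq_one_of_mem_pGroup_of_mem_coprime _ (K p) hS hKc hsS hsK
    rw [hs1, mul_one] at hy
    rw [hy]
    have h1 := hcommD dv (hzD hdvz) hdvK
    have h2 := hcommQ fv hfvQ
    calc u * (dv * fv) = (u * dv) * fv := by group
      _ = (dv * u) * fv := by rw [h1]
      _ = dv * (u * fv) := by group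
      _ = dv * (fv * u) := by rw [h2]
      _ = dv * fv * u := by group
  have huK : u ∈ Subgroup.normalizer (K p : Set G) := by
    apply Cfsg.Agent.S0087.mem_normalizer_of_forall
    intro y hy
    rw [hcommK y hy, mul_inv_cancel_right]
    exact hy
  rw [hfuv]
  exact mul_mem huK (Subgroup.le_normalizer hvK)

end

/-- Let G be a finite group with a nilpotent normal subgroup F such that G modulo F is nilpotent (nilpotent length at most two). Then a subgroup of G is a Carter subgroup if and only if it is the system normalizer of some Hall complement system. -/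
theorem result {G : Type*} [Group G] [Finite G] (F : Subgroup G) [F.Normal] (hF : Group.IsNilpotent F) (hGF : Group.IsNilpotent (G ⧸ F)) (C : Subgroup G) : Cfsg.IsCarterSubgroup C ↔ ∃ K : Nat.Primes → Subgroup G, Cfsg.IsComplementSystem K ∧ C = Cfsg.systemNormalizer K := by
  haveI hsolv : Group.IsSolvable G := by
    haveI : Group.IsSolvable F := inferInstance
    haveI : Group.IsSolvable (G ⧸ F) := inferInstance
    apply Group.isSolvable_of_ker_le_range F.subtype (QuotientGroup.mk' F)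
    rw [QuotientGroup.ker_mk', Subgroup.range_subtype]
  constructor
  · intro hC
    have hC' : Cfsg.Agent.Helper1.IsCarter C := ⟨hC.1, hC.2⟩
    obtain ⟨K, hK, hD⟩ := exists_systemNormalizer_le_of_isCarter C hC'
    refine ⟨K, hK, le_antisymm ?_ hD⟩
    have hDc := isCarter_systemNormalizer F hF hGF K hK
    have htop : (Cfsg.systemNormalizer K).subgroupOf C = ⊤ :=
      (hDc.subgroupOf hD).eq_top_of_isNilpotent hC.1
    intro c hc
    have : (⟨c, hc⟩ : C) ∈ (Cfsg.systemNormalizer K).subgroupOf C := by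
      rw [htop]; exact Subgroup.mem_top _
    exact Subgroup.mem_subgroupOf.mp this
  · rintro ⟨K, hK, rfl⟩
    have hDc := isCarter_systemNormalizer F hF hGF K hK
    exact ⟨hDc.1, hDc.2⟩

end Cfsg.Agent.S0570
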