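import Mathlib
import Cfsg.Statements.S0571
import Cfsg.Agent.Lib.Helper3.ItoProduct
import Cfsg.Agent.Lib.Helper3.Supersolvable2

set_option autoImplicit false
open Cfsg

namespace Cfsg.Agent.S0571

open Cfsg.Agent.Helper3

universe u

theorem aux (n : ℕ) : ∀ (G : Type u) [Group G] [Finite G], Nat.card G = n →
    ∀ (A B : Subgroup G) [IsCyclic A] [IsCyclic B], (∀ g : G, ∃ a ∈ A, ∃ b ∈ B, g = a * b) →
    Cfsg.IsSupersolvable G := by
  induction n using Nat.strong_induction_on with
  | _ n ih =>
  intro G _ _ hcard A B _ _ hAB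
  by_cases hnt : Nontrivial G
  · obtain ⟨N, hNn, hNne, hN⟩ := ito_normal A B hAB
    have hNcyc : IsCyclic N := by
      rcases hN with h | h
      · exact Subgroup.isCyclic_of_le h
      · exact Subgroup.isCyclic_of_le h
    have hNcard : 1 < Nat.card N := by
      rw [Subgroup.one_lt_card_iff_ne_bot]; exact hNne
    have hlt : Nat.card (G ⧸ N) < n := hcard ▸ card_quotient_lt N hNcard
    have hA' : IsCyclic (A.map (QuotientGroup.mk' N)) :=
      isCyclic_of_surjective ((QuotientGroup.mk' N).subgroupMap A)
        ((QuotientGroup.mk' N).subgroupMap_surjective A)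
    have hB' : IsCyclic (B.map (QuotientGroup.mk' N)) :=
      isCyclic_of_surjective ((QuotientGroup.mk' N).subgroupMap B)
        ((QuotientGroup.mk' N).subgroupMap_surjective B)
    have hfac : ∀ q : G ⧸ N, ∃ a ∈ A.map (QuotientGroup.mk' N),
        ∃ b ∈ B.map (QuotientGroup.mk' N), q = a * b := by
      intro q
      obtain ⟨g, rfl⟩ := QuotientGroup.mk'_surjective N q
      obtain ⟨a, ha, b, hb, rfl⟩ := hAB g
      exact ⟨_, Subgroup.mem_map_of_mem _ ha, _, Subgroup.mem_map_of_mem _ hb, map_mul _ a b⟩
    have hQ := ih _ hlt (G ⧸ N) rfl (A.map (QuotientGroup.mk' N)) (B.map (QuotientGroup.mk' N)) hfac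
    exact isSupersolvable_of_cyclic_normal_of_quotient N hQ
  · rw [not_nontrivial_iff_subsingleton] at hnt
    exact isSupersolvable_of_subsingleton

/-- If a finite group G is the product AB of two cyclic subgroups (every element is a product ab), then G is supersolvable. -/
theorem result {G : Type*} [Group G] [Finite G] (A B : Subgroup G) [IsCyclic A] [IsCyclic B] (hAB : ∀ g : G, ∃ a ∈ A, ∃ b ∈ B, g = a * b) : Cfsg.IsSupersolvable G :=
  aux _ G rfl A B hAB

end Cfsg.Agent.S0571
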