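import Mathlib
import Cfsg.Statements.S0576

set_option autoImplicit false
open Cfsg

namespace Cfsg.Agent.S0576

theorem conj_range_normal (H : Type*) [Group H] :
    ((MulAut.conj : H →* MulAut H).range).Normal := by
  constructor
  rintro _ ⟨h, rfl⟩ φ
  refine ⟨φ h, ?_⟩
  ext x
  simp [MulAut.conj_apply]

/-- Let H be a normal subgroup of a finite group G with H contained in the Frattini subgroup of G. Then the group of inner automorphisms of H is contained in the Frattini subgroup of the automorphism group of H. -/
theorem result {G : Type*} [Group G] [Finite G] (H : Subgroup G) [H.Normal] (hH : H ≤ frattini G) : (MulAut.conj : ↥H →* MulAut ↥H).range ≤ frattini (MulAut ↥H) := by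
  unfold frattini Order.radical
  refine le_iInf₂ fun M hM => ?_
  have hM' : IsCoatom M := hM
  by_contra hnot
  have := conj_range_normal ↥H
  -- Inn(H) ⊔ M = ⊤
  have hsup : (MulAut.conj : ↥H →* MulAut ↥H).range ⊔ M = ⊤ := by
    by_contra hne
    have hlt : M < (MulAut.conj : ↥H →* MulAut ↥H).range ⊔ M := by
      refine lt_of_le_of_ne le_sup_right ?_
      intro heq
      apply hnot
      rw [heq]
      exact le_sup_left
    exact hne (hM'.2 _ hlt)
  -- the preimage of M under conjugation
  set c : G →* MulAut ↥H := MulAut.conjNormal with hc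
  have hK : M.comap c ⊔ frattini G = ⊤ := by
    rw [eq_top_iff]
    intro g _
    have hg : c g ∈ (MulAut.conj : ↥H →* MulAut ↥H).range ⊔ M := by rw [hsup]; trivial
    rw [Subgroup.mem_sup_of_normal_left] at hg
    obtain ⟨i, ⟨h, rfl⟩, m, hm, him⟩ := hg
    have h1 : c ((h : G)⁻¹ * g) = m := by
      rw [map_mul, map_inv, ← him, hc, MulAut.conjNormal_val]
      simp
    have h2 : (h : G)⁻¹ * g ∈ M.comap c := by
      rw [Subgroup.mem_comap, h1]; exact hm
    have h3 : g = ((h : G)⁻¹ * g) * ((g⁻¹ * (h : G) * g)) := by group
    rw [h3]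
    refine Subgroup.mul_mem_sup h2 (hH ?_)
    have := (inferInstance : H.Normal).conj_mem (h : G) h.2 g⁻¹
    simpa using this
  have htop : M.comap c = ⊤ := frattini_nongenerating hK
  apply hnot
  rintro _ ⟨h, rfl⟩
  have : (h : G) ∈ M.comap c := by rw [htop]; trivial
  rw [Subgroup.mem_comap, hc, MulAut.conjNormal_val] at this
  exact this

end Cfsg.Agent.S0576
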