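import Mathlib
import Cfsg.Statements.S0577
import Cfsg.Agent.Lib.Helper3.Schmidt3
import Cfsg.Agent.S0537

set_option autoImplicit false
open Pointwise
open Cfsg

namespace Cfsg.Agent.S0577

open scoped commutatorElement
open Cfsg.Agent.Helper3

/-- Let G be a finite minimal non-nilpotent group and Q a normal Sylow q-subgroup of G, and let D be the commutator subgroup of Q regarded in G (a normal subgroup). Then G modulo D is non-abelian and all its proper subgroups are abelian. -/
theorem result {G : Type*} [Group G] [Finite G] (hG : Cfsg.IsMinimalNonNilpotent G) (q : ℕ) [Fact q.Prime] (hq : q ∣ Nat.card G) (Q : Sylow q G) (hQ : (Q : Subgroup G).Normal) (D : Subgroup G) [D.Normal] (hD : D = (commutator ↥(Q : Subgroup G)).map (Q : Subgroup G).subtype) : ¬ IsMulCommutative (G ⧸ D) ∧ ∀ K : Subgroup (G ⧸ D), K ≠ ⊤ → IsMulCommutative K := by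
  classical
  obtain ⟨hnn, hprop⟩ := hG
  have hqf : Fact q.Prime := inferInstance
  -- Step 1: a cyclic Sylow `p`-subgroup `P` with `P ⊔ Q = ⊤`
  have step1 : ∃ (p : ℕ) (_ : Fact p.Prime) (P : Sylow p G), p ≠ q ∧ IsCyclic P ∧
      (P : Subgroup G) ⊔ Q = ⊤ := by
    obtain ⟨p, q', hp, hq', hpq, P, Q', hPc, hQ'n, hPQ⟩ := minimalNonNilpotent_structure hnn hprop
    have hpf : Fact p.Prime := ⟨hp⟩
    have hq'f : Fact q'.Prime := ⟨hq'⟩
    have hmul : ∀ g : G, ∃ a ∈ (P : Subgroup G), ∃ b ∈ (Q' : Subgroup G), g = a * b := by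
      intro g
      have hg : g ∈ (((P : Subgroup G) ⊔ Q' : Subgroup G) : Set G) := by
        rw [hPQ]; exact Set.mem_univ _
      rw [Subgroup.mul_normal] at hg
      obtain ⟨a, ha, b, hb, hab⟩ := Set.mem_mul.mp hg
      exact ⟨a, ha, b, hb, hab.symm⟩
    have hcard := card_mul_card_inf_of_mul_eq_univ (P : Subgroup G) (Q' : Subgroup G) hmul
    have hinf : (P : Subgroup G) ⊓ Q' = ⊥ :=
      disjoint_iff.mp (IsPGroup.disjoint_of_ne p q' hpq _ _ P.isPGroup' Q'.isPGroup')
    rw [hinf, Subgroup.card_bot, mul_one] at hcard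
    rw [hcard] at hq
    obtain ⟨k, hk⟩ := IsPGroup.iff_card.mp P.isPGroup'
    obtain ⟨l, hl⟩ := IsPGroup.iff_card.mp Q'.isPGroup'
    have hk' : Nat.card (P : Subgroup G) = p ^ k := hk
    have hl' : Nat.card (Q' : Subgroup G) = q' ^ l := hl
    rw [hk', hl'] at hq
    rcases (Nat.Prime.dvd_mul hqf.out).mp hq with h1 | h1
    · exfalso
      have hqp : q = p := (Nat.prime_dvd_prime_iff_eq hqf.out hp).mp (hqf.out.dvd_of_dvd_pow h1)
      subst hqp
      have := Sylow.unique_of_normal Q hQ
      have hPQeq : P = Q := Subsingleton.elim _ _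
      have hPn : (P : Subgroup G).Normal := hPQeq ▸ hQ
      exact hnn (isNilpotent_of_sup_eq_top (P : Subgroup G) (Q' : Subgroup G)
        P.isPGroup'.isNilpotent Q'.isPGroup'.isNilpotent hPQ)
    · have hqq : q = q' := (Nat.prime_dvd_prime_iff_eq hqf.out hq').mp (hqf.out.dvd_of_dvd_pow h1)
      subst hqq
      have := Sylow.unique_of_normal Q hQ
      have hQQ : Q' = Q := Subsingleton.elim _ _
      rw [hQQ] at hPQ
      exact ⟨p, hpf, P, hpq, hPc, hPQ⟩
  obtain ⟨p, hpf, P, hpq, hPc, hPQ⟩ := step1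
  have hDcomm : D = ⁅(Q : Subgroup G), (Q : Subgroup G)⁆ := by
    rw [hD, Subgroup.map_subtype_commutator]
  have hDQ : D ≤ Q := by
    rw [hD]; exact Subgroup.map_subtype_le _
  have hdis : ∀ z, z ∈ (P : Subgroup G) → z ∈ (Q : Subgroup G) → z = 1 := by
    intro z hzP hzQ
    have := (IsPGroup.disjoint_of_ne p q hpq _ _ P.isPGroup' Q.isPGroup')
    exact Subgroup.disjoint_def.mp this hzP hzQ
  have hsurj : Function.Surjective (QuotientGroup.mk' D) := QuotientGroup.mk'_surjective D
  constructor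
  · -- `G ⧸ D` is not abelian
    intro hc
    apply hnn
    have hcD : ∀ a b : G, ⁅a, b⁆ ∈ D := by
      intro a b
      apply (QuotientGroup.eq_one_iff _).mp
      have : ((⁅a, b⁆ : G) : G ⧸ D) = ⁅(a : G ⧸ D), (b : G ⧸ D)⁆ := by
        simp [commutatorElement_def]
      rw [this, commutatorElement_eq_one_iff_mul_comm]
      exact mul_comm' _ _
    have hQbot : (Q : Subgroup G) ≠ ⊥ := Sylow.ne_bot_of_dvd_card Q hq
    have hDneQ : ¬ (Q : Subgroup G) ≤ D := by
      intro hle
      have hnt : Nontrivial (Q : Subgroup G) := (Subgroup.nontrivial_iff_ne_bot _).mpr hQbot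
      have hsolv : Group.IsSolvable (Q : Subgroup G) := by
        have := Q.isPGroup'.isNilpotent
        infer_instance
      have hlt := IsSolvable.commutator_lt_top_of_nontrivial (Q : Subgroup G)
      apply hlt.ne
      rw [eq_top_iff]
      intro x _
      have hx : (x : G) ∈ D := hle x.2
      rw [hD] at hx
      obtain ⟨y, hy, hyx⟩ := hx
      have : y = x := Subtype.ext hyx
      rw [← this]; exact hy
    have hPD : (P : Subgroup G) ⊔ D ≠ ⊤ := by
      intro htop
      exact hDneQ (Cfsg.Agent.S0537.le_of_sup_eq_top_of_disjoint hDQ hdis htop)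
    have hPDnil := hprop _ hPD
    have hPDn : ((P : Subgroup G) ⊔ D).Normal := by
      constructor
      intro k hk g
      have : g * k * g⁻¹ = k * ⁅k⁻¹, g⁆ := by
        rw [commutatorElement_def]; group
      rw [this]
      exact Subgroup.mul_mem _ hk (Subgroup.mem_sup_right (hcD _ _))
    have hPle : (P : Subgroup G) ≤ (P : Subgroup G) ⊔ D := le_sup_left
    have hPn' : ((P.subtype hPle : Sylow p ↥((P : Subgroup G) ⊔ D)) :
        Subgroup ↥((P : Subgroup G) ⊔ D)).Normal :=
      (((Group.isNilpotent_of_finite_tfae (G := ↥((P : Subgroup G) ⊔ D))).out 0 3 rfl rfl).mp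
        hPDnil) p hpf (P.subtype hPle)
    have hchar : ((P.subtype hPle : Sylow p ↥((P : Subgroup G) ⊔ D)) :
        Subgroup ↥((P : Subgroup G) ⊔ D)).Characteristic :=
      Sylow.characteristic_of_normal _ hPn'
    have hn := ConjAct.normal_of_characteristic_of_normal (H := (P : Subgroup G) ⊔ D)
      (K := ((P.subtype hPle : Sylow p ↥((P : Subgroup G) ⊔ D)) :
        Subgroup ↥((P : Subgroup G) ⊔ D)))
    have e : ((P.subtype hPle : Sylow p ↥((P : Subgroup G) ⊔ D)) :
        Subgroup ↥((P : Subgroup G) ⊔ D)).map ((P : Subgroup G) ⊔ D).subtype = P := by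
      rw [Sylow.coe_subtype]
      exact Subgroup.map_subgroupOf_eq_of_le hPle
    rw [e] at hn
    exact isNilpotent_of_sup_eq_top (P : Subgroup G) (Q : Subgroup G)
      P.isPGroup'.isNilpotent Q.isPGroup'.isNilpotent hPQ
  · intro K hK
    have hKnil : Group.IsNilpotent K := by
      have hc : K.comap (QuotientGroup.mk' D) ≠ ⊤ := by
        intro ht
        apply hK
        rw [eq_top_iff]
        intro y _
        obtain ⟨x, rfl⟩ := hsurj y
        have : x ∈ K.comap (QuotientGroup.mk' D) := by rw [ht]; exact Subgroup.mem_top x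
        exact this
      have hn := hprop _ hc
      exact Group.nilpotent_of_surjective ((QuotientGroup.mk' D).subgroupComap K)
        ((QuotientGroup.mk' D).subgroupComap_surjective_of_surjective K hsurj)
    -- `G ⧸ Q` is abelian
    have hGQ : ∀ g h : G, ⁅g, h⁆ ∈ (Q : Subgroup G) := by
      have hPcomm : ∀ a b : (P : Subgroup G), a * b = b * a := by
        intro a b
        let _ := IsCyclic.commGroup (α := (P : Subgroup G))
        exact mul_comm a b
      have hrep : ∀ g : G, ∃ x ∈ (P : Subgroup G), (g : G ⧸ (Q : Subgroup G)) = x := by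
        intro g
        have hg : g ∈ (((P : Subgroup G) ⊔ Q : Subgroup G) : Set G) := by
          rw [hPQ]; exact Set.mem_univ _
        rw [Subgroup.mul_normal] at hg
        obtain ⟨a, ha, b, hb, hab⟩ := Set.mem_mul.mp hg
        refine ⟨a, ha, ?_⟩
        rw [← hab, QuotientGroup.mk_mul, (QuotientGroup.eq_one_iff b).mpr hb, mul_one]
      intro g h
      apply (QuotientGroup.eq_one_iff _).mp
      have : ((⁅g, h⁆ : G) : G ⧸ (Q : Subgroup G)) =
          ⁅(g : G ⧸ (Q : Subgroup G)), (h : G ⧸ (Q : Subgroup G))⁆ := by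
        simp [commutatorElement_def]
      rw [this, commutatorElement_eq_one_iff_mul_comm]
      obtain ⟨x, hx, hgx⟩ := hrep g
      obtain ⟨y, hy, hhy⟩ := hrep h
      rw [hgx, hhy, ← QuotientGroup.mk_mul, ← QuotientGroup.mk_mul]
      have := congrArg Subtype.val (hPcomm ⟨x, hx⟩ ⟨y, hy⟩)
      simp only [Subgroup.coe_mul] at this
      rw [this]
    have hNn : ((Q.mapSurjective hsurj : Sylow q (G ⧸ D)) : Subgroup (G ⧸ D)).Normal := by
      rw [Sylow.coe_mapSurjective]
      exact Subgroup.Normal.map hQ _ hsurj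
    have hNc : ∀ a ∈ ((Q.mapSurjective hsurj : Sylow q (G ⧸ D)) : Subgroup (G ⧸ D)),
        ∀ b ∈ ((Q.mapSurjective hsurj : Sylow q (G ⧸ D)) : Subgroup (G ⧸ D)), a * b = b * a := by
      intro a ha b hb
      rw [Sylow.coe_mapSurjective] at ha hb
      obtain ⟨a', ha', rfl⟩ := ha
      obtain ⟨b', hb', rfl⟩ := hb
      rw [← map_mul, ← map_mul]
      apply (QuotientGroup.eq).mpr
      have e : (a' * b')⁻¹ * (b' * a') = ⁅b'⁻¹, a'⁻¹⁆ := by
        rw [commutatorElement_def]; group
      rw [e, hDcomm]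
      exact Subgroup.commutator_mem_commutator (Subgroup.inv_mem _ hb') (Subgroup.inv_mem _ ha')
    have hHN : ∀ x y : G ⧸ D,
        ⁅x, y⁆ ∈ ((Q.mapSurjective hsurj : Sylow q (G ⧸ D)) : Subgroup (G ⧸ D)) := by
      intro x y
      obtain ⟨g, rfl⟩ := hsurj x
      obtain ⟨h, rfl⟩ := hsurj y
      rw [Sylow.coe_mapSurjective, ← map_commutatorElement]
      exact Subgroup.mem_map_of_mem _ (hGQ g h)
    have := mul_comm_of_isNilpotent_of_abelian_sylow (Q.mapSurjective hsurj) hNn hNc hHN K hKnil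
    exact ⟨⟨this⟩⟩

end Cfsg.Agent.S0577
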