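import Mathlib
import Cfsg.Statements.S0578

set_option autoImplicit false
open Cfsg

namespace Cfsg.Agent.S0578

/-- Every Sylow subgroup is abelian under the hypothesis. -/
theorem sylow_comm {G : Type*} [Group G] [Finite G] (h : ∀ A : Subgroup G, IsMulCommutative A → Subgroup.normalizer (A : Set G) = Subgroup.centralizer (A : Set G)) (p : ℕ) [Fact p.Prime] (P : Sylow p G) :
    IsMulCommutative (P : Subgroup G) := by
  classical
  let s : Set (Subgroup G) := {A | A ≤ (P : Subgroup G) ∧ IsMulCommutative A}
  have hbot : (⊥ : Subgroup G) ∈ s := ⟨bot_le, inferInstance⟩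
  obtain ⟨A, -, hA⟩ := Set.Finite.exists_le_maximal (Set.toFinite s) hbot
  have hAP : A ≤ (P : Subgroup G) := hA.prop.1
  have hAc : IsMulCommutative A := hA.prop.2
  by_cases hEq : A = (P : Subgroup G)
  · rw [← hEq]; exact hAc
  exfalso
  -- normalizer condition in P
  have : Group.IsNilpotent (P : Subgroup G) := P.isPGroup'.isNilpotent
  have hnc : NormalizerCondition (P : Subgroup G) := Group.normalizerCondition_of_isNilpotent
  have hlt : A.subgroupOf (P : Subgroup G) < ⊤ := by
    rw [lt_top_iff_ne_top]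
    intro htop
    apply hEq
    exact le_antisymm hAP (Subgroup.subgroupOf_eq_top.mp htop)
  have hlt2 := hnc _ hlt
  obtain ⟨x, hxN, hxA⟩ := SetLike.exists_of_lt hlt2
  have hxA' : (x : G) ∉ A := fun hx => hxA (Subgroup.mem_subgroupOf.mpr hx)
  -- x normalizes A in G
  have hxNG : (x : G) ∈ Subgroup.normalizer (A : Set G) := by
    apply Subgroup.mem_normalizer_fintype
    intro a ha
    have ha' : (⟨a, hAP ha⟩ : (P : Subgroup G)) ∈ A.subgroupOf (P : Subgroup G) :=
      Subgroup.mem_subgroupOf.mpr ha
    have := (Subgroup.mem_normalizer_iff.mp hxN _).mp ha'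
    exact Subgroup.mem_subgroupOf.mp this
  rw [h A hAc] at hxNG
  -- closure of A ∪ {x} is commutative
  have hcomm : ∀ y ∈ (A : Set G) ∪ {(x : G)}, ∀ z ∈ (A : Set G) ∪ {(x : G)}, y * z = z * y := by
    rintro y (hy | hy) z (hz | hz)
    · exact congrArg Subtype.val (mul_comm' (⟨y, hy⟩ : A) ⟨z, hz⟩)
    · rw [Set.mem_singleton_iff] at hz; subst hz
      exact (Subgroup.mem_centralizer_iff.mp hxNG y hy)
    · rw [Set.mem_singleton_iff] at hy; subst hy
      exact (Subgroup.mem_centralizer_iff.mp hxNG z hz).symm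
    · rw [Set.mem_singleton_iff] at hy hz; subst hy; subst hz; rfl
  have hB : IsMulCommutative (Subgroup.closure ((A : Set G) ∪ {(x : G)})) :=
    Subgroup.isMulCommutative_closure hcomm
  have hBP : Subgroup.closure ((A : Set G) ∪ {(x : G)}) ≤ (P : Subgroup G) := by
    rw [Subgroup.closure_le]
    rintro y (hy | hy)
    · exact hAP hy
    · rw [Set.mem_singleton_iff] at hy; subst hy; exact x.2
  have hAB : A ≤ Subgroup.closure ((A : Set G) ∪ {(x : G)}) := fun a ha =>
    Subgroup.subset_closure (Or.inl ha)
  have := hA.le_of_ge (⟨hBP, hB⟩ : Subgroup.closure ((A : Set G) ∪ {(x : G)}) ∈ s) hAB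
  exact hxA' (this (Subgroup.subset_closure (Or.inr rfl)))

theorem result {G : Type*} [Group G] [Finite G] (h : ∀ A : Subgroup G, IsMulCommutative A → Subgroup.normalizer (A : Set G) = Subgroup.centralizer (A : Set G)) : IsMulCommutative G := by
  have hcard : Nat.card (commutator G) = 1 := by
    rw [Nat.eq_one_iff_not_exists_prime_dvd]
    intro p hp hdvd
    have : Fact p.Prime := ⟨hp⟩
    obtain ⟨P⟩ : Nonempty (Sylow p G) := inferInstance
    have hPc := sylow_comm h p P
    have hP : Subgroup.normalizer ((P : Subgroup G) : Set G) ≤ Subgroup.centralizer ((P : Subgroup G) : Set G) :=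
      (h _ hPc).le
    have h1 := MonoidHom.not_dvd_card_ker_transferSylow P hP
    have hle : commutator G ≤ (MonoidHom.transferSylow P hP).ker := by
      rw [commutator_def, Subgroup.commutator_le]
      intro a _ b _
      rw [MonoidHom.mem_ker, map_commutatorElement, commutatorElement_eq_one_iff_mul_comm]
      exact mul_comm' _ _
    exact h1 (hdvd.trans (Subgroup.card_dvd_of_le hle))
  have hbot : commutator G = ⊥ := Subgroup.card_eq_one.mp hcard
  rw [commutator_eq_bot_iff_center_eq_top] at hbot
  refine ⟨⟨fun a b => ?_⟩⟩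
  have hb : b ∈ Subgroup.center G := by rw [hbot]; trivial
  exact (Subgroup.mem_center_iff.mp hb a)

end Cfsg.Agent.S0578
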