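import Mathlib
import Cfsg.Statements.S0585
import Cfsg.Agent.Lib.Helper3.Frattini

set_option autoImplicit false
open Cfsg

namespace Cfsg.Agent.S0585

open Cfsg.Agent.Helper3
open scoped Pointwise

theorem result {G : Type*} [Group G] [Finite G] (hΦ : frattini G = ⊥) (A : Subgroup G) [A.Normal] [IsMulCommutative A] : ∃ H : Subgroup G, Subgroup.IsComplement' A H := by
  obtain ⟨H, hH⟩ := exists_minimal_of_wellFoundedLT (fun H : Subgroup G => A ⊔ H = ⊤) ⟨⊤, by simp⟩
  have hAH : A ⊔ H = ⊤ := hH.1
  -- A ⊓ H is normal in G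
  have hnorm : (A ⊓ H).Normal := by
    rw [← Subgroup.normalizer_eq_top_iff, eq_top_iff, ← hAH]
    apply sup_le
    · -- A centralizes A ⊓ H
      intro a ha
      rw [Subgroup.mem_normalizer_iff]
      intro x
      have hcomm : ∀ y ∈ A, a * y * a⁻¹ = y := by
        intro y hy
        have := mul_comm' (⟨a, ha⟩ : A) ⟨y, hy⟩
        have := congrArg Subtype.val this
        simp only [Subgroup.coe_mul] at this
        rw [this, mul_inv_cancel_right]
      constructor
      · rintro ⟨hx1, hx2⟩
        rw [hcomm x hx1]; exact ⟨hx1, hx2⟩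
      · rintro ⟨hx1, hx2⟩
        have hxA : x ∈ A := by
          have := (inferInstance : A.Normal).conj_mem _ hx1 a⁻¹
          simpa [mul_assoc] using this
        rw [hcomm x hxA] at hx2
        exact ⟨hxA, hx2⟩
    · intro h hh
      rw [Subgroup.mem_normalizer_iff]
      intro x
      constructor
      · rintro ⟨hx1, hx2⟩
        exact ⟨(inferInstance : A.Normal).conj_mem _ hx1 h, H.mul_mem (H.mul_mem hh hx2) (H.inv_mem hh)⟩
      · rintro ⟨hx1, hx2⟩
        constructor
        · have := (inferInstance : A.Normal).conj_mem _ hx1 h⁻¹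
          simpa [mul_assoc] using this
        · have := H.mul_mem (H.mul_mem (H.inv_mem hh) hx2) hh
          simpa [mul_assoc] using this
  -- A ⊓ H lies in the Frattini subgroup of H
  have hfr : A ⊓ H ≤ (frattini H).map H.subtype := by
    intro x hx
    have hxH : x ∈ H := (Subgroup.mem_inf.mp hx).2
    refine Subgroup.mem_map.mpr ⟨⟨x, hxH⟩, ?_, rfl⟩
    unfold frattini Order.radical
    rw [Subgroup.mem_iInf]
    intro M
    rw [Subgroup.mem_iInf]
    intro hM
    by_contra hxM
    -- then M ⊔ (A ⊓ H) = H, so A ⊔ M.map = ⊤ contradicting minimality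
    have hlt : M.map H.subtype < H := by
      have hle : M.map H.subtype ≤ H := Subgroup.map_subtype_le M
      apply lt_of_le_of_ne hle
      intro heq
      apply hM.1
      rw [eq_top_iff]
      rintro ⟨y, hy⟩ -
      have hy2 : y ∈ M.map H.subtype := by rw [heq]; exact hy
      obtain ⟨y', hy', hyeq⟩ := Subgroup.mem_map.mp hy2
      have : y' = ⟨y, hy⟩ := Subtype.ext hyeq
      rw [← this]; exact hy'
    have htop : M ⊔ (A ⊓ H).subgroupOf H = ⊤ := by
      have : M < M ⊔ (A ⊓ H).subgroupOf H := by
        apply lt_of_le_of_ne le_sup_left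
        intro heq
        apply hxM
        rw [heq]
        apply (le_sup_right : (A ⊓ H).subgroupOf H ≤ _)
        rw [Subgroup.mem_subgroupOf]
        exact hx
      exact hM.2 _ this
    have hHle : H ≤ A ⊔ M.map H.subtype := by
      intro y hy
      have hy' : (⟨y, hy⟩ : H) ∈ M ⊔ (A ⊓ H).subgroupOf H := by rw [htop]; trivial
      have hmap : y ∈ (M ⊔ (A ⊓ H).subgroupOf H).map H.subtype := ⟨⟨y, hy⟩, hy', rfl⟩
      rw [Subgroup.map_sup] at hmap
      have h1 : ((A ⊓ H).subgroupOf H).map H.subtype ≤ A := by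
        rw [Subgroup.map_subgroupOf_eq_of_le inf_le_right]
        exact inf_le_left
      exact (sup_le le_sup_right (h1.trans le_sup_left)) hmap
    have hnew : A ⊔ M.map H.subtype = ⊤ := by
      rw [eq_top_iff, ← hAH]
      exact sup_le le_sup_left hHle
    have := hH.2 hnew hlt.le
    exact absurd this (not_le_of_gt hlt)
  have hbot : A ⊓ H = ⊥ := by
    have := le_frattini_of_normal_of_le_frattini H (A ⊓ H) hfr
    rw [hΦ] at this
    exact le_bot_iff.mp this
  refine ⟨H, Subgroup.isComplement'_of_disjoint_and_mul_eq_univ (disjoint_iff.mpr hbot) ?_⟩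
  rw [← Subgroup.normal_mul, hAH]; rfl

end Cfsg.Agent.S0585
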