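import Mathlib
import Cfsg.Statements.S0586
import Cfsg.Agent.Lib.Helper3.Frattini
import Cfsg.Agent.Lib.Helper7.Fitting

set_option autoImplicit false
open Cfsg
open scoped Pointwise

namespace Cfsg.Agent.S0586

open Cfsg.Agent.Helper3 Cfsg.Agent.Helper7

variable {G : Type*} [Group G]

theorem exists_mul_of_sup_eq_top (A K : Subgroup G) [A.Normal] (h : A ⊔ K = ⊤) (g : G) :
    ∃ a ∈ A, ∃ k ∈ K, g = a * k := by
  have hg : g ∈ ((A ⊔ K : Subgroup G) : Set G) := by rw [h]; trivial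
  rw [Subgroup.normal_mul] at hg
  obtain ⟨a, ha, k, hk, rfl⟩ := hg
  exact ⟨a, ha, k, hk, rfl⟩

/-- An abelian normal subgroup of a group with trivial Frattini subgroup has a complement. -/
theorem exists_complement [Finite G] (hΦ : frattini G = ⊥) (A : Subgroup G) [hAn : A.Normal]
    (hc : ∀ a ∈ A, ∀ b ∈ A, a * b = b * a) : ∃ K : Subgroup G, A ⊓ K = ⊥ ∧ A ⊔ K = ⊤ := by
  obtain ⟨K, -, hK⟩ := Finite.exists_le_minimal (p := fun K : Subgroup G => A ⊔ K = ⊤)
    (a := ⊤) (sup_top_eq A)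
  have hKtop : A ⊔ K = ⊤ := hK.prop
  refine ⟨K, ?_, hKtop⟩
  set D := A ⊓ K with hD
  have hDn : D.Normal := by
    constructor
    intro d hd g
    obtain ⟨a, ha, k, hk, rfl⟩ := exists_mul_of_sup_eq_top A K hKtop g
    have h1 : k * d * k⁻¹ ∈ D :=
      ⟨hAn.conj_mem d hd.1 k, K.mul_mem (K.mul_mem hk hd.2) (K.inv_mem hk)⟩
    have h2 : a * (k * d * k⁻¹) = (k * d * k⁻¹) * a := hc a ha _ h1.1
    have e : a * k * d * (a * k)⁻¹ = k * d * k⁻¹ := by
      calc a * k * d * (a * k)⁻¹ = (a * (k * d * k⁻¹)) * a⁻¹ := by group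
        _ = (k * d * k⁻¹) * a * a⁻¹ := by rw [h2]
        _ = _ := by group
    rw [e]; exact h1
  have hDK : D ≤ K := inf_le_right
  have hle : D ≤ (frattini K).map K.subtype := by
    intro d hd
    suffices hmem : (⟨d, hDK hd⟩ : K) ∈ frattini K from ⟨⟨d, hDK hd⟩, hmem, rfl⟩
    unfold frattini Order.radical
    simp only [Subgroup.mem_iInf]
    intro M' hM'
    by_contra hdM
    -- D_K ⊔ M' = ⊤
    have hDKn : (D.subgroupOf K).Normal := inferInstance
    have hsup : D.subgroupOf K ⊔ M' = ⊤ := by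
      apply hM'.2
      apply lt_of_le_of_ne le_sup_right
      intro h
      apply hdM
      rw [h]
      exact (le_sup_left : D.subgroupOf K ≤ _) (Subgroup.mem_subgroupOf.mpr hd)
    set M := M'.map K.subtype with hM
    have hMK : M ≤ K := Subgroup.map_subtype_le _
    have hAM : A ⊔ M = ⊤ := by
      rw [eq_top_iff, ← hKtop]
      apply sup_le le_sup_left
      intro k hk
      have hk' : (⟨k, hk⟩ : K) ∈ D.subgroupOf K ⊔ M' := by rw [hsup]; trivial
      have hk'' : (⟨k, hk⟩ : K) ∈ ((D.subgroupOf K ⊔ M' : Subgroup K) : Set K) := hk'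
      rw [Subgroup.normal_mul] at hk''
      obtain ⟨x, hx, m, hm, hxm⟩ := hk''
      have e : k = (x : G) * (m : G) := by
        have := congrArg Subtype.val hxm
        exact this.symm
      rw [e]
      apply Subgroup.mul_mem
      · exact (le_sup_left : A ≤ A ⊔ M) (Subgroup.mem_subgroupOf.mp hx).1
      · exact (le_sup_right : M ≤ A ⊔ M) ⟨m, hm, rfl⟩
    have hKM := hK.le_of_le hAM hMK
    -- then M' = ⊤
    apply hM'.1
    rw [eq_top_iff]
    intro k _
    obtain ⟨m, hm, hmk⟩ := hKM k.2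
    have : m = k := Subtype.ext hmk
    rwa [← this]
  have := le_frattini_of_normal_of_le_frattini K D hle
  rw [hΦ] at this
  exact le_bot_iff.mp this


theorem inf_normal_of_centralized (A K F : Subgroup G) [hAn : A.Normal] [hFn : F.Normal]
    (h : A ⊔ K = ⊤) (hc : ∀ a ∈ A, ∀ f ∈ F, a * f = f * a) : (F ⊓ K).Normal := by
  constructor
  intro d hd g
  obtain ⟨a, ha, k, hk, rfl⟩ := exists_mul_of_sup_eq_top A K h g
  have h1 : k * d * k⁻¹ ∈ F ⊓ K :=
    ⟨hFn.conj_mem d hd.1 k, K.mul_mem (K.mul_mem hk hd.2) (K.inv_mem hk)⟩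
  have h2 : a * (k * d * k⁻¹) = (k * d * k⁻¹) * a := hc a ha _ h1.1
  have e : a * k * d * (a * k)⁻¹ = k * d * k⁻¹ := by
    calc a * k * d * (a * k)⁻¹ = (a * (k * d * k⁻¹)) * a⁻¹ := by group
      _ = (k * d * k⁻¹) * a * a⁻¹ := by rw [h2]
      _ = _ := by group
  rw [e]; exact h1

theorem exists_mul_inf (A K F : Subgroup G) [A.Normal] (hAF : A ≤ F) (h : A ⊔ K = ⊤) (f : G)
    (hf : f ∈ F) : ∃ a ∈ A, ∃ k ∈ F ⊓ K, f = a * k := by
  obtain ⟨a, ha, k, hk, rfl⟩ := exists_mul_of_sup_eq_top A K h f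
  refine ⟨a, ha, k, ⟨?_, hk⟩, rfl⟩
  have : k = a⁻¹ * (a * k) := by group
  rw [this]
  exact F.mul_mem (F.inv_mem (hAF ha)) hf

/-- The Fitting subgroup is abelian when the Frattini subgroup is trivial. -/
theorem fitting_commute [Finite G] (hΦ : frattini G = ⊥) :
    ∀ a ∈ Cfsg.fittingSubgroup G, ∀ b ∈ Cfsg.fittingSubgroup G, a * b = b * a := by
  set F := Cfsg.fittingSubgroup G with hF
  have hFn : F.Normal := fittingSubgroup_normal'
  have hFnil : Group.IsNilpotent F := fittingSubgroup_isNilpotent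
  set Z : Subgroup G := (Subgroup.center F).map F.subtype with hZ
  have hZn : Z.Normal := ConjAct.normal_of_characteristic_of_normal
  have hZF : Z ≤ F := Subgroup.map_subtype_le _
  have hZc : ∀ z ∈ Z, ∀ f ∈ F, z * f = f * z := by
    rintro _ ⟨z, hz, rfl⟩ f hf
    have := Subgroup.mem_center_iff.mp hz ⟨f, hf⟩
    exact (congrArg Subtype.val this).symm
  obtain ⟨K, hZK, hZKtop⟩ := exists_complement hΦ Z (fun a ha b hb => hZc a ha b (hZF hb))
  set E := F ⊓ K with hE
  have hEn : E.Normal := inf_normal_of_centralized Z K F hZKtop hZc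
  have hEF : E ≤ F := inf_le_left
  have hEbot : E = ⊥ := by
    by_contra hne
    have hEnil : Group.IsNilpotent E :=
      Group.nilpotent_of_mulEquiv (Subgroup.subgroupOfEquivOfLe hEF)
    have hEnt : Nontrivial E := (Subgroup.nontrivial_iff_ne_bot E).mpr hne
    have hcen := Group.IsNilpotent.center_ne_bot E
    obtain ⟨⟨⟨e, heE⟩, hec⟩, he1⟩ := (Subgroup.ne_bot_iff_exists_ne_one).mp hcen
    have hecE : ∀ x ∈ E, x * e = e * x := by
      intro x hx
      have := Subgroup.mem_center_iff.mp hec ⟨x, hx⟩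
      exact congrArg Subtype.val this
    have heZ : e ∈ Z := by
      suffices hmem : (⟨e, hEF heE⟩ : F) ∈ Subgroup.center F from ⟨⟨e, hEF heE⟩, hmem, rfl⟩
      rw [Subgroup.mem_center_iff]
      rintro ⟨f, hf⟩
      apply Subtype.ext
      show f * e = e * f
      obtain ⟨z, hz, k, hk, rfl⟩ := exists_mul_inf Z K F hZF hZKtop f hf
      rw [mul_assoc, hecE k hk, ← mul_assoc, hZc z hz e (hEF heE), mul_assoc]
    have : e ∈ Z ⊓ K := ⟨heZ, heE.2⟩
    rw [hZK, Subgroup.mem_bot] at this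
    apply he1
    exact Subtype.ext (Subtype.ext this)
  intro a ha b hb
  obtain ⟨z, hz, k, hk, rfl⟩ := exists_mul_inf Z K F hZF hZKtop a ha
  rw [← hE, hEbot, Subgroup.mem_bot] at hk
  subst hk
  rw [mul_one]
  exact hZc z hz b hb


open scoped IsMulCommutative in
theorem isNilpotent_of_isMulCommutative (N : Subgroup G) (h : IsMulCommutative N) :
    Group.IsNilpotent N := inferInstance

theorem result {G : Type*} [Group G] [Finite G] (hΦ : frattini G = ⊥) : Cfsg.fittingSubgroup G = sSup {N : Subgroup G | N.Normal ∧ N ≠ ⊥ ∧ IsMulCommutative N ∧ ∀ K : Subgroup G, K.Normal → K ≤ N → K = ⊥ ∨ K = N} := by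
  set T : Set (Subgroup G) := {N : Subgroup G | N.Normal ∧ N ≠ ⊥ ∧ IsMulCommutative N ∧
    ∀ K : Subgroup G, K.Normal → K ≤ N → K = ⊥ ∨ K = N} with hT
  set F := Cfsg.fittingSubgroup G with hF
  have hFn : F.Normal := fittingSubgroup_normal'
  have hc := fitting_commute hΦ
  have hSF : sSup T ≤ F := by
    apply sSup_le
    intro N hN
    have : N.Normal := hN.1
    exact le_fittingSubgroup N (isNilpotent_of_isMulCommutative N hN.2.2.1)
  have hSn : (sSup T).Normal := Subgroup.sSup_normal T (fun N hN => hN.1)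
  apply le_antisymm _ hSF
  obtain ⟨K, hSK, hSKtop⟩ := exists_complement hΦ (sSup T)
    (fun a ha b hb => hc a (hSF ha) b (hSF hb))
  set E := F ⊓ K with hE
  have hEn : E.Normal := inf_normal_of_centralized (sSup T) K F hSKtop
    (fun a ha f hf => hc a (hSF ha) f hf)
  have hEbot : E = ⊥ := by
    by_contra hne
    obtain ⟨N, hNE, hN⟩ := Finite.exists_le_minimal
      (p := fun N : Subgroup G => N.Normal ∧ N ≠ ⊥ ∧ N ≤ E) (a := E) ⟨hEn, hne, le_rfl⟩
    obtain ⟨hNn, hNbot, hNle⟩ := hN.prop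
    have hNF : N ≤ F := hNle.trans inf_le_left
    have hNT : N ∈ T := by
      refine ⟨hNn, hNbot, ⟨⟨fun a b => Subtype.ext (hc a (hNF a.2) b (hNF b.2))⟩⟩, ?_⟩
      intro L hLn hLN
      by_cases hL : L = ⊥
      · exact Or.inl hL
      · exact Or.inr (le_antisymm hLN (hN.le_of_le ⟨hLn, hL, hLN.trans hNle⟩ hLN))
    have hNS : N ≤ sSup T := le_sSup hNT
    have : N ≤ sSup T ⊓ K := le_inf hNS (hNle.trans inf_le_right)
    rw [hSK] at this
    exact hNbot (le_bot_iff.mp this)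
  intro f hf
  obtain ⟨s, hs, k, hk, rfl⟩ := exists_mul_inf (sSup T) K F hSF hSKtop f hf
  rw [← hE, hEbot, Subgroup.mem_bot] at hk
  rw [hk, mul_one]
  exact hs

end Cfsg.Agent.S0586
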