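import Mathlib
import Cfsg.Statements.S0587
import Cfsg.Agent.Lib.Helper27.Basic
import Cfsg.Agent.Lib.Helper16.Center

set_option autoImplicit false
open Cfsg

namespace Cfsg.Agent.S0587

variable {G : Type*} [Group G]

/-- A subgroup normalized by two subgroups that together generate the group is normal. -/
theorem normal_of_sup_eq_top (A M X : Subgroup G) (h : A ⊔ M = ⊤)
    (hA : A ≤ Subgroup.normalizer (X : Set G)) (hM : M ≤ Subgroup.normalizer (X : Set G)) :
    X.Normal := by
  rw [← Subgroup.normalizer_eq_top_iff]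
  exact top_le_iff.mp (h ▸ sup_le hA hM)

/-- A core-free subgroup contains no nontrivial normal subgroup. -/
theorem eq_bot_of_normal_le (M X : Subgroup G) (hcore : M.normalCore = ⊥) (hX : X.Normal)
    (hXM : X ≤ M) : X = ⊥ := by
  have := Subgroup.normal_le_normalCore.mpr hXM
  rw [hcore] at this
  exact le_bot_iff.mp this

/-- Lemma B+C: a nontrivial abelian normal subgroup is complemented by a core-free maximal subgroup
and is self-centralizing. -/
theorem abelian_normal (M : Subgroup G) (hM : IsCoatom M) (hcore : M.normalCore = ⊥)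
    (A : Subgroup G) (hAn : A.Normal) (hA : IsMulCommutative A) (hne : A ≠ ⊥) :
    A ⊔ M = ⊤ ∧ A ⊓ M = ⊥ ∧ Subgroup.centralizer (A : Set G) = A := by
  have hcomm : ∀ a ∈ A, ∀ b ∈ A, a * b = b * a := by
    intro a ha b hb
    have := hA.is_comm.comm (⟨a, ha⟩ : A) ⟨b, hb⟩
    exact congrArg Subtype.val this
  have hAM : ¬ A ≤ M := fun h => hne (eq_bot_of_normal_le M A hcore hAn h)
  have hsup : A ⊔ M = ⊤ := by
    by_contra hne'
    have hlt : M < A ⊔ M := lt_of_le_of_ne le_sup_right (fun h => hAM (h ▸ le_sup_left))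
    exact hne' (hM.2 _ hlt)
  have hAC : A ≤ Subgroup.centralizer (A : Set G) := by
    intro a ha b hb
    exact hcomm b hb a ha
  -- a subgroup of M normalized by M and centralized by A is trivial
  have key : ∀ X : Subgroup G, X ≤ M → M ≤ Subgroup.normalizer (X : Set G) →
      (∀ a ∈ A, ∀ x ∈ X, a * x = x * a) → X = ⊥ := by
    intro X hXM hMX hAX
    apply eq_bot_of_normal_le M X hcore _ hXM
    apply normal_of_sup_eq_top A M X hsup _ hMX
    intro a ha
    rw [Subgroup.mem_normalizer_iff]
    intro x
    constructor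
    · intro hx
      rw [hAX a ha x hx]
      simpa using hx
    · intro hx
      have h1 := hAX a ha _ hx
      have : a * x * a⁻¹ = x := by
        have : a * (a * x * a⁻¹) = a * x := by rw [h1]; group
        exact mul_left_cancel this
      rw [← this]; exact hx
  have hinf : A ⊓ M = ⊥ := by
    apply key _ inf_le_right
    · intro m hm
      rw [Subgroup.mem_normalizer_iff]
      intro x
      simp only [Subgroup.mem_inf]
      constructor
      · rintro ⟨hxA, hxM⟩
        exact ⟨hAn.conj_mem x hxA m, M.mul_mem (M.mul_mem hm hxM) (M.inv_mem hm)⟩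
      · rintro ⟨hxA, hxM⟩
        refine ⟨?_, ?_⟩
        · have := hAn.conj_mem _ hxA m⁻¹
          simpa [mul_assoc] using this
        · have := M.mul_mem (M.mul_mem (M.inv_mem hm) hxM) hm
          simpa [mul_assoc] using this
    · intro a ha x hx
      exact hcomm a ha x hx.1
  refine ⟨hsup, hinf, ?_⟩
  have hCn : (Subgroup.centralizer (A : Set G)).Normal := inferInstance
  have hCM : Subgroup.centralizer (A : Set G) ⊓ M = ⊥ := by
    apply key _ inf_le_right
    · intro m hm
      rw [Subgroup.mem_normalizer_iff]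
      intro x
      simp only [Subgroup.mem_inf]
      constructor
      · rintro ⟨hxA, hxM⟩
        exact ⟨hCn.conj_mem x hxA m, M.mul_mem (M.mul_mem hm hxM) (M.inv_mem hm)⟩
      · rintro ⟨hxA, hxM⟩
        refine ⟨?_, ?_⟩
        · have := hCn.conj_mem _ hxA m⁻¹
          simpa [mul_assoc] using this
        · have := M.mul_mem (M.mul_mem (M.inv_mem hm) hxM) hm
          simpa [mul_assoc] using this
    · intro a ha x hx
      exact (hx.1 a ha)
  apply le_antisymm _ hAC
  intro c hc
  have hc' : c ∈ ((A ⊔ M : Subgroup G) : Set G) := by rw [hsup]; trivial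
  haveI := hAn
  rw [Subgroup.normal_mul] at hc'
  obtain ⟨a, ha, m, hm, rfl⟩ := hc'
  have hmC : m ∈ Subgroup.centralizer (A : Set G) ⊓ M := by
    refine ⟨?_, hm⟩
    have : m = a⁻¹ * (a * m) := by group
    rw [this]
    exact Subgroup.mul_mem _ (Subgroup.inv_mem _ (hAC ha)) hc
  rw [hCM, Subgroup.mem_bot] at hmC
  subst hmC
  simpa using ha

/-- Let G be a finite group whose largest normal p-subgroup L is nontrivial, and M a maximal subgroup of G with trivial normal core. Then L is elementary abelian, M is a complement to L, L is a minimal normal subgroup of G, the centralizer of L is L, and for every prime q such that the largest normal q-subgroup of M is nontrivial, the order of L is congruent to 1 modulo q and q ≠ p. -/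
theorem result {G : Type*} [Group G] [Finite G] (p : ℕ) [Fact p.Prime] (hL : Cfsg.pCore p G ≠ ⊥) (M : Subgroup G) (hM : IsCoatom M) (hcore : M.normalCore = ⊥) : Cfsg.IsElementaryAbelian p (Cfsg.pCore p G) ∧ Subgroup.IsComplement' (Cfsg.pCore p G) M ∧ (∀ K : Subgroup G, K.Normal → K ≤ Cfsg.pCore p G → K = ⊥ ∨ K = Cfsg.pCore p G) ∧ Subgroup.centralizer ((Cfsg.pCore p G : Subgroup G) : Set G) = Cfsg.pCore p G ∧ ∀ (q : ℕ) [Fact q.Prime], Cfsg.pCore q ↥M ≠ ⊥ → Nat.card (Cfsg.pCore p G) % q = 1 % q ∧ q ≠ p := by
  classical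
  set L := Cfsg.pCore p G with hLdef
  have hLn : L.Normal := Helper27.pCore_normal p
  have hLp : IsPGroup p L := Helper27.pCore_isPGroup p
  -- the centre of L, inside G
  let Z : Subgroup G := L ⊓ Subgroup.centralizer (L : Set G)
  have hZn : Z.Normal := by
    haveI := hLn
    exact Subgroup.normal_inf_normal _ _
  have hZc : IsMulCommutative Z := by
    refine ⟨⟨?_⟩⟩
    rintro ⟨a, ha⟩ ⟨b, hb⟩
    apply Subtype.ext
    show a * b = b * a
    exact (hb.2 a ha.1)
  have hZne : Z ≠ ⊥ := by
    haveI : Nontrivial L := (Subgroup.nontrivial_iff_ne_bot L).mpr hL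
    have h := hLp.bot_lt_center
    obtain ⟨z, hz1⟩ := (Subgroup.ne_bot_iff_exists_ne_one).mp (ne_of_gt h)
    intro hZ
    have hzZ : ((z : L) : G) ∈ Z := by
      refine ⟨(z : L).2, ?_⟩
      intro l hl
      have := (Subgroup.mem_center_iff.mp z.2 ⟨l, hl⟩)
      exact congrArg Subtype.val this
    rw [hZ, Subgroup.mem_bot] at hzZ
    apply hz1
    apply Subtype.ext
    apply Subtype.ext
    exact hzZ
  obtain ⟨-, -, hCZ⟩ := abelian_normal M hM hcore Z hZn hZc hZne
  have hLZ : L ≤ Z := by
    rw [← hCZ]
    intro l hl z hz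
    exact (hz.2 l hl).symm
  have hcomm : ∀ a ∈ L, ∀ b ∈ L, a * b = b * a := by
    intro a ha b hb
    exact ((hLZ hb).2 a ha)
  have hLc : IsMulCommutative L := by
    refine ⟨⟨?_⟩⟩
    rintro ⟨a, ha⟩ ⟨b, hb⟩
    apply Subtype.ext
    exact hcomm a ha b hb
  obtain ⟨hsup, hinf, hCL⟩ := abelian_normal M hM hcore L hLn hLc hL
  -- minimality
  have hmin : ∀ K : Subgroup G, K.Normal → K ≤ L → K = ⊥ ∨ K = L := by
    intro K hKn hKL
    by_cases hK : K = ⊥
    · exact Or.inl hK
    right
    have hKc : IsMulCommutative K := by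
      refine ⟨⟨?_⟩⟩
      rintro ⟨a, ha⟩ ⟨b, hb⟩
      apply Subtype.ext
      exact hcomm a (hKL ha) b (hKL hb)
    obtain ⟨-, -, hCK⟩ := abelian_normal M hM hcore K hKn hKc hK
    apply le_antisymm hKL
    rw [← hCK]
    intro l hl k hk
    exact hcomm k (hKL hk) l hl
  -- elementary abelian
  have hel : ∀ a ∈ L, a ^ p = 1 := by
    let Ω : Subgroup G :=
      { carrier := {x | x ∈ L ∧ x ^ p = 1}
        mul_mem' := by
          rintro a b ⟨ha, hap⟩ ⟨hb, hbp⟩
          refine ⟨L.mul_mem ha hb, ?_⟩
          have hc : Commute a b := hcomm a ha b hb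
          rw [hc.mul_pow, hap, hbp, one_mul]
        one_mem' := ⟨L.one_mem, one_pow _⟩
        inv_mem' := by
          rintro a ⟨ha, hap⟩
          exact ⟨L.inv_mem ha, by rw [inv_pow, hap, inv_one]⟩ }
    have hΩn : Ω.Normal := by
      refine ⟨fun x hx g => ?_⟩
      refine ⟨hLn.conj_mem x hx.1 g, ?_⟩
      rw [conj_pow, hx.2]; group
    have hΩL : Ω ≤ L := fun x hx => hx.1
    have hΩne : Ω ≠ ⊥ := by
      haveI : Nontrivial L := (Subgroup.nontrivial_iff_ne_bot L).mpr hL
      obtain ⟨n, hn0, hn⟩ := hLp.nontrivial_iff_card.mp inferInstance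
      have hdvd : p ∣ Nat.card L := hn.symm ▸ dvd_pow_self _ (ne_of_gt hn0)
      obtain ⟨x, hx⟩ := exists_prime_orderOf_dvd_card' p hdvd
      intro hΩ
      have hxΩ : (x : G) ∈ Ω := by
        refine ⟨x.2, ?_⟩
        have : x ^ p = 1 := by rw [← hx]; exact pow_orderOf_eq_one x
        exact_mod_cast congrArg Subtype.val this
      rw [hΩ, Subgroup.mem_bot] at hxΩ
      have : x = 1 := Subtype.ext hxΩ
      rw [this, orderOf_one] at hx
      exact (Fact.out : p.Prime).one_lt.ne hx
    rcases hmin Ω hΩn hΩL with h | h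
    · exact absurd h hΩne
    · intro a ha
      have : a ∈ Ω := h ▸ ha
      exact this.2
  refine ⟨⟨hLc, hel⟩, ?_, hmin, hCL, ?_⟩
  · exact Subgroup.isComplement'_of_disjoint_and_mul_eq_univ (disjoint_iff.mpr hinf) (by
      haveI := hLn
      rw [← Subgroup.normal_mul, hsup]; rfl)
  · intro q hq hQ
    set Q0 : Subgroup M := Cfsg.pCore q M with hQ0
    have hQ0n : Q0.Normal := Helper27.pCore_normal q
    have hQ0p : IsPGroup q Q0 := Helper27.pCore_isPGroup q
    let Q : Subgroup G := Q0.map M.subtype
    have hQM : Q ≤ M := Subgroup.map_subtype_le _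
    have hQne : Q ≠ ⊥ := by
      intro h
      exact hQ ((Subgroup.map_eq_bot_iff_of_injective _ M.subtype_injective).mp h)
    have hMQ : ∀ m ∈ M, ∀ x ∈ Q, m * x * m⁻¹ ∈ Q := by
      rintro m hm x ⟨x', hx', rfl⟩
      exact ⟨⟨m, hm⟩ * x' * ⟨m, hm⟩⁻¹, hQ0n.conj_mem x' hx' ⟨m, hm⟩, rfl⟩
    let C : Subgroup G := L ⊓ Subgroup.centralizer (Q : Set G)
    have hCn : C.Normal := by
      apply normal_of_sup_eq_top L M C hsup
      · intro l hl
        rw [Subgroup.mem_normalizer_iff]
        intro x
        constructor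
        · intro hx
          have : l * x * l⁻¹ = x := by rw [hcomm l hl x hx.1]; group
          rw [this]; exact hx
        · intro hx
          have h1 : l * x * l⁻¹ ∈ L := hx.1
          have h2 : x ∈ L := by
            have := hLn.conj_mem _ h1 l⁻¹
            simpa [mul_assoc] using this
          have : l * x * l⁻¹ = x := by rw [hcomm l hl x h2]; group
          rw [← this]; exact hx
      · have hconj : ∀ m ∈ M, ∀ x ∈ C, m * x * m⁻¹ ∈ C := by
          intro m hm x hx
          refine ⟨hLn.conj_mem x hx.1 m, ?_⟩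
          intro y hy
          have hy' : m⁻¹ * y * m ∈ Q := by
            have := hMQ m⁻¹ (M.inv_mem hm) y hy
            simpa using this
          have := hx.2 _ hy'
          calc y * (m * x * m⁻¹) = m * ((m⁻¹ * y * m) * x) * m⁻¹ := by group
            _ = m * (x * (m⁻¹ * y * m)) * m⁻¹ := by rw [this]
            _ = m * x * m⁻¹ * y := by group
        intro m hm
        rw [Subgroup.mem_normalizer_iff]
        intro x
        constructor
        · exact hconj m hm x
        · intro hx
          have := hconj m⁻¹ (M.inv_mem hm) _ hx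
          simpa [mul_assoc] using this
    have hC : C = ⊥ := by
      rcases hmin C hCn inf_le_left with h | h
      · exact h
      · exfalso
        have hQL : Q ≤ L := by
          rw [← hCL]
          intro x hx l hl
          have hlC : l ∈ C := h ▸ hl
          exact (hlC.2 x hx).symm
        have : Q ≤ L ⊓ M := le_inf hQL hQM
        rw [hinf] at this
        exact hQne (le_bot_iff.mp this)
    haveI := hLn
    letI act : MulAction Q0 L :=
      MulAction.compHom L ((MulAut.conjNormal : G →* MulAut L).comp (M.subtype.comp Q0.subtype))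
    have hsmul : ∀ (g : Q0) (l : L), ((g • l : L) : G) = ((g : M) : G) * l * ((g : M) : G)⁻¹ :=
      fun g l => rfl
    have hmod := hQ0p.card_modEq_card_fixedPoints L
    have hfix : Nat.card (MulAction.fixedPoints Q0 L) = 1 := by
      rw [Nat.card_eq_one_iff_unique]
      refine ⟨⟨?_⟩, ⟨⟨1, ?_⟩⟩⟩
      · have hone : ∀ l : MulAction.fixedPoints Q0 L, l = ⟨1, fun g => by
            apply Subtype.ext; rw [hsmul]; simp⟩ := by
          rintro ⟨l, hl⟩
          apply Subtype.ext
          show l = 1
          have hlC : (l : G) ∈ C := by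
            refine ⟨l.2, ?_⟩
            rintro y ⟨y', hy', rfl⟩
            have := hl ⟨y', hy'⟩
            have h2 := congrArg Subtype.val this
            rw [hsmul] at h2
            show (y' : G) * l = l * y'
            calc (y' : G) * l = (y' : G) * l * (y' : G)⁻¹ * y' := by group
              _ = l * y' := by rw [h2]
          rw [hC, Subgroup.mem_bot] at hlC
          exact Subtype.ext hlC
        intro a b
        rw [hone a, hone b]
      · intro g
        apply Subtype.ext
        rw [hsmul]
        simp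
    rw [hfix] at hmod
    refine ⟨hmod, ?_⟩
    intro hqp
    subst hqp
    haveI : Nontrivial L := (Subgroup.nontrivial_iff_ne_bot L).mpr hL
    obtain ⟨n, hn0, hn⟩ := hLp.nontrivial_iff_card.mp inferInstance
    have hdvd : q ∣ Nat.card L := hn.symm ▸ dvd_pow_self _ (ne_of_gt hn0)
    have h0 : Nat.card L % q = 0 := Nat.mod_eq_zero_of_dvd hdvd
    have h1 : Nat.card L % q = 1 % q := hmod
    rw [h0, Nat.mod_eq_of_lt hq.out.one_lt] at h1
    exact absurd h1 (by norm_num)

end Cfsg.Agent.S0587
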