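import Mathlib
import Cfsg.Statements.S0589
import Cfsg.Agent.Lib.Helper3.Basic

set_option autoImplicit false
set_option linter.style.haveILetI false
open Pointwise
open Cfsg

namespace Cfsg.Agent.S0589

open Cfsg.Agent.Helper3 MulAction

/-- pure counting lemma -/
theorem sum_contra {ι : Type*} [Fintype ι] (a : ι → ℕ) (N : ℕ)
    (hsum : ∑ o, a o = N - 1) (hN : 2 ≤ N) (h1 : ∀ o, a o = 0 ∨ N ≤ 2 * a o)
    (h2 : ∀ o, a o + 2 ≤ N) : False := by
  classical
  have hne : ∑ o, a o ≠ 0 := by omega
  obtain ⟨o₁, -, ho₁⟩ := Finset.exists_ne_zero_of_sum_ne_zero hne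
  have hsplit := Finset.add_sum_erase Finset.univ a (Finset.mem_univ o₁)
  have hne2 : ∑ o ∈ Finset.univ.erase o₁, a o ≠ 0 := by
    have := h2 o₁
    omega
  obtain ⟨o₂, ho₂mem, ho₂⟩ := Finset.exists_ne_zero_of_sum_ne_zero hne2
  have hle : a o₂ ≤ ∑ o ∈ Finset.univ.erase o₁, a o :=
    Finset.single_le_sum (fun _ _ => Nat.zero_le _) ho₂mem
  have := h1 o₁
  have := h1 o₂
  omega

variable {G : Type*} [Group G]

/-- A nonidentity element fixes at most one coset of a Frobenius complement. -/
theorem fixedBy_subsingleton (H : Subgroup G) (hH : Cfsg.IsFrobeniusComplement H) (g : G)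
    (hg : g ≠ 1) : (fixedBy (G ⧸ H) g).Subsingleton := by
  intro a ha b hb
  induction a using QuotientGroup.induction_on with
  | H a =>
  induction b using QuotientGroup.induction_on with
  | H b =>
  rw [mem_fixedBy] at ha hb
  have ha' : a⁻¹ * g * a ∈ H := by
    have : ((g * a : G) : G ⧸ H) = (a : G ⧸ H) := ha
    rw [QuotientGroup.eq] at this
    have h2 := H.inv_mem this
    have e : ((g * a)⁻¹ * a)⁻¹ = a⁻¹ * g * a := by group
    rwa [e] at h2
  have hb' : b⁻¹ * g * b ∈ H := by
    have : ((g * b : G) : G ⧸ H) = (b : G ⧸ H) := hb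
    rw [QuotientGroup.eq] at this
    have h2 := H.inv_mem this
    have e : ((g * b)⁻¹ * b)⁻¹ = b⁻¹ * g * b := by group
    rwa [e] at h2
  by_contra hab
  have hc : a⁻¹ * b ∉ H := fun h => hab (QuotientGroup.eq.mpr h)
  have hbot := hH.2.2 _ hc
  have hmem : a⁻¹ * g * a ∈ H ⊓ (MulAut.conj (a⁻¹ * b) • H) := by
    refine Subgroup.mem_inf.mpr ⟨ha', ?_⟩
    rw [mem_conj_smul_iff]
    have e : (a⁻¹ * b)⁻¹ * (a⁻¹ * g * a) * (a⁻¹ * b) = b⁻¹ * g * b := by group
    rw [e]; exact hb'
  rw [hbot, Subgroup.mem_bot] at hmem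
  apply hg
  have e : g = a * (a⁻¹ * g * a) * a⁻¹ := by group
  rw [e, hmem]; group


theorem burnside_count [Finite G] (H : Subgroup G) (hH : Cfsg.IsFrobeniusComplement H)
    (K : Subgroup G) :
    ∃ f : ℕ, Nat.card (Quotient (orbitRel K (G ⧸ H))) * Nat.card K = Nat.card (G ⧸ H) + f ∧
      f ≤ Nat.card K - 1 ∧ (K ≤ H → f = Nat.card K - 1) := by
  classical
  letI : Fintype K := Fintype.ofFinite _
  letI : Fintype (G ⧸ H) := Fintype.ofFinite _
  letI : Fintype (Quotient (orbitRel K (G ⧸ H))) := Fintype.ofFinite _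
  letI : ∀ x : K, Fintype (fixedBy (G ⧸ H) x) := fun x => Fintype.ofFinite _
  have hB := sum_card_fixedBy_eq_card_orbits_mul_card_group K (G ⧸ H)
  set c : K → ℕ := fun x => Fintype.card (fixedBy (G ⧸ H) x) with hc
  have hsplit := Finset.add_sum_erase Finset.univ c (Finset.mem_univ (1 : K))
  have hc1 : c 1 = Nat.card (G ⧸ H) := by
    rw [hc]
    simp only
    rw [← Nat.card_eq_fintype_card]
    have : fixedBy (G ⧸ H) (1 : K) = Set.univ := by
      ext ω; simp [mem_fixedBy]
    rw [this, Nat.card_coe_set_eq, Set.ncard_univ]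
  have hcle : ∀ x ∈ Finset.univ.erase (1 : K), c x ≤ 1 := by
    intro x hx
    have hx1 : (x : G) ≠ 1 := by
      intro h
      exact (Finset.mem_erase.mp hx).1 (Subtype.ext h)
    have hss : (fixedBy (G ⧸ H) x).Subsingleton := fixedBy_subsingleton H hH (x : G) hx1
    rw [hc]
    simp only
    rw [Fintype.card_le_one_iff_subsingleton]
    exact (Set.subsingleton_coe _).mpr hss
  have hcard_erase : (Finset.univ.erase (1 : K)).card = Nat.card K - 1 := by
    rw [Finset.card_erase_of_mem (Finset.mem_univ _), Finset.card_univ, Nat.card_eq_fintype_card]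
  refine ⟨∑ x ∈ Finset.univ.erase (1 : K), c x, ?_, ?_, ?_⟩
  · rw [Nat.card_eq_fintype_card, Nat.card_eq_fintype_card, ← hB, ← hsplit, hc1]
  · calc ∑ x ∈ Finset.univ.erase (1 : K), c x ≤ ∑ x ∈ Finset.univ.erase (1 : K), 1 :=
          Finset.sum_le_sum hcle
      _ = Nat.card K - 1 := by rw [Finset.sum_const, hcard_erase, smul_eq_mul, mul_one]
  · intro hKH
    have hceq : ∀ x ∈ Finset.univ.erase (1 : K), c x = 1 := by
      intro x hx
      apply le_antisymm (hcle x hx)
      rw [hc]
      simp only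
      rw [Nat.succ_le_iff, Fintype.card_pos_iff]
      refine ⟨⟨((1 : G) : G ⧸ H), ?_⟩⟩
      rw [mem_fixedBy]
      show (((x : G) * 1 : G) : G ⧸ H) = ((1 : G) : G ⧸ H)
      rw [QuotientGroup.eq]
      simp only [mul_one, inv_inv]
      exact H.inv_mem (hKH x.2) |> fun h => by simpa using H.inv_mem h
    rw [Finset.sum_congr rfl hceq, Finset.sum_const, hcard_erase, smul_eq_mul, mul_one]


theorem stabilizer_ne_top (H L : Subgroup G) (hno : ∀ x : G, ¬ L ≤ MulAut.conj x • H)
    (ω : G ⧸ H) : stabilizer L ω ≠ ⊤ := by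
  intro htop
  induction ω using QuotientGroup.induction_on with
  | H x =>
  apply hno x
  intro l hl
  have hmem : (⟨l, hl⟩ : L) ∈ stabilizer L ((x : G) : G ⧸ H) := by rw [htop]; trivial
  rw [mem_stabilizer_iff] at hmem
  have h1 : ((l * x : G) : G ⧸ H) = (x : G ⧸ H) := hmem
  rw [QuotientGroup.eq] at h1
  rw [mem_conj_smul_iff]
  have h2 := H.inv_mem h1
  have e : ((l * x)⁻¹ * x)⁻¹ = x⁻¹ * l * x := by group
  rwa [e] at h2

theorem result {G : Type*} [Group G] [Finite G] (H : Subgroup G) (hH : Cfsg.IsFrobeniusComplement H) (L : Subgroup G) (hL : Nat.card L ∣ Nat.card H) : ∃ x : G, L ≤ MulAut.conj x • H := by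
  classical
  by_cases hL1 : Nat.card L = 1
  · have : L = ⊥ := Subgroup.card_eq_one.mp hL1
    exact ⟨1, by rw [this]; exact bot_le⟩
  have hN : 2 ≤ Nat.card L := by have := Nat.card_pos (α := L); omega
  obtain ⟨fH, hBH, -, hfH⟩ := burnside_count H hH H
  have hfH' := hfH le_rfl
  obtain ⟨f, hBL, hfle, -⟩ := burnside_count H hH L
  have hHpos : 0 < Nat.card H := Nat.card_pos
  obtain ⟨m, hm⟩ := hL
  have hmod : Nat.card (G ⧸ H) % Nat.card L = 1 % Nat.card L := by
    have e : Nat.card (G ⧸ H) + Nat.card L * m =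
        1 + Nat.card L * (Nat.card (Quotient (orbitRel H (G ⧸ H))) * m) := by
      have : Nat.card (Quotient (orbitRel H (G ⧸ H))) * (Nat.card L * m) =
          Nat.card (G ⧸ H) + (Nat.card L * m - 1) := by
        rw [← hm, hBH, hfH']
      have hpos : 0 < Nat.card L * m := by rw [← hm]; exact hHpos
      calc Nat.card (G ⧸ H) + Nat.card L * m
          = (Nat.card (G ⧸ H) + (Nat.card L * m - 1)) + 1 := by omega
        _ = Nat.card (Quotient (orbitRel H (G ⧸ H))) * (Nat.card L * m) + 1 := by rw [this]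
        _ = _ := by ring
    have := congrArg (· % Nat.card L) e
    simp only [Nat.add_mul_mod_self_left] at this
    exact this
  have hf : f = Nat.card L - 1 := by
    have e1 : (Nat.card (G ⧸ H) + f) % Nat.card L = 0 := by
      rw [← hBL]; exact Nat.mul_mod_left _ _
    rw [Nat.add_mod, hmod, ← Nat.add_mod] at e1
    by_contra hne
    have hlt : 1 + f < Nat.card L := by omega
    rw [Nat.mod_eq_of_lt hlt] at e1
    omega
  by_contra hno
  push Not at hno
  letI : Fintype L := Fintype.ofFinite _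
  letI : Fintype (G ⧸ H) := Fintype.ofFinite _
  letI : Fintype (Quotient (orbitRel L (G ⧸ H))) := Fintype.ofFinite _
  letI : ∀ ω : G ⧸ H, Fintype (stabilizer L ω) := fun ω => Fintype.ofFinite _
  have hcls := card_eq_sum_card_group_div_card_stabilizer L (G ⧸ H)
  -- facts about each orbit
  have key : ∀ o : Quotient (orbitRel L (G ⧸ H)),
      2 ≤ Fintype.card L / Fintype.card (stabilizer L o.out) ∧
      Fintype.card L / Fintype.card (stabilizer L o.out) ≤ Fintype.card L ∧
      (Fintype.card L / Fintype.card (stabilizer L o.out) = Fintype.card L ∨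
        2 * (Fintype.card L / Fintype.card (stabilizer L o.out)) ≤ Fintype.card L) := by
    intro o
    have hne := stabilizer_ne_top H L hno o.out
    have hdvd : Fintype.card (stabilizer L o.out) ∣ Fintype.card L := by
      rw [← Nat.card_eq_fintype_card, ← Nat.card_eq_fintype_card]
      exact Subgroup.card_subgroup_dvd_card _
    obtain ⟨d, hd⟩ := hdvd
    have hspos : 0 < Fintype.card (stabilizer L o.out) := Fintype.card_pos
    have hdiv : Fintype.card L / Fintype.card (stabilizer L o.out) = d := by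
      rw [hd]; exact Nat.mul_div_cancel_left d hspos
    rw [hdiv]
    have hNL : Fintype.card L = Nat.card L := (Nat.card_eq_fintype_card).symm
    have hd1 : d ≠ 1 := by
      intro h1
      apply hne
      apply Subgroup.eq_top_of_card_eq
      rw [Nat.card_eq_fintype_card, Nat.card_eq_fintype_card, hd, h1, mul_one]
    have hd0 : d ≠ 0 := by
      intro h0; rw [h0, mul_zero] at hd; omega
    refine ⟨by omega, ?_, ?_⟩
    · rw [hd]; exact Nat.le_mul_of_pos_left d hspos
    · by_cases hs1 : Fintype.card (stabilizer L o.out) = 1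
      · left; rw [hd, hs1, one_mul]
      · right
        rw [hd]
        exact Nat.mul_le_mul_right d (by omega)
  have hNL : Fintype.card L = Nat.card L := (Nat.card_eq_fintype_card).symm
  apply sum_contra (fun o : Quotient (orbitRel L (G ⧸ H)) =>
    Fintype.card L - Fintype.card L / Fintype.card (stabilizer L o.out)) (Nat.card L) ?_ hN ?_ ?_
  · rw [Finset.sum_tsub_distrib _ (fun o _ => (key o).2.1), ← hcls, Finset.sum_const,
      Finset.card_univ, smul_eq_mul, ← Nat.card_eq_fintype_card, ← Nat.card_eq_fintype_card,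
      ← Nat.card_eq_fintype_card, hBL, hf]
    omega
  · intro o
    obtain ⟨h1, h2, h3⟩ := key o
    rw [hNL] at h1 h2 h3 ⊢
    omega
  · intro o
    obtain ⟨h1, h2, h3⟩ := key o
    rw [hNL] at h1 h2 h3 ⊢
    omega

end Cfsg.Agent.S0589
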