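import Mathlib
import Cfsg.Statements.S0590
import Cfsg.Agent.Lib.Helper3.Thompson

set_option autoImplicit false
open Cfsg
open scoped commutatorElement

namespace Cfsg.Agent.S0590

open Cfsg.Agent.Helper3

theorem result {G : Type*} [Group G] [Finite G] {p : ℕ} [Fact p.Prime] (V H : Subgroup G) (hV : Cfsg.IsElementaryAbelian p V) (hHV : H ≤ Subgroup.normalizer (V : Set G)) (hq : ⁅⁅V, H⁆, H⁆ = ⊥) : ⁅H, H⁆ ≤ Subgroup.centralizer (V : Set G) ∧ ∀ a ∈ H, a ^ p ∈ Subgroup.centralizer (V : Set G) := by
  constructor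
  · rw [← Subgroup.commutator_eq_bot_iff_le_centralizer]
    apply Subgroup.commutator_commutator_eq_bot_of_rotate
    · rw [Subgroup.commutator_comm H V]; exact hq
    · exact hq
  · intro a ha
    have hWV : ⁅V, H⁆ ≤ V := Subgroup.le_normalizer_iff_commutator_le_left.mp hHV
    have hWc : ⁅V, H⁆ ≤ Subgroup.centralizer (H : Set G) :=
      Subgroup.commutator_eq_bot_iff_le_centralizer.mp hq
    rw [Subgroup.mem_centralizer_iff]
    intro v hv
    set c := ⁅a, v⁆ with hc
    have hcW : c ∈ ⁅V, H⁆ := by
      rw [Subgroup.commutator_comm]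
      exact Subgroup.commutator_mem_commutator ha hv
    have hca : a * c = c * a := (Subgroup.mem_centralizer_iff.mp (hWc hcW)) a ha
    have hcV : c ∈ V := hWV hcW
    have hcp : c ^ p = 1 := hV.2 c hcV
    have hav : a * v * a⁻¹ = c * v := by
      rw [hc, commutatorElement_def]; group
    have key : ∀ k : ℕ, a ^ k * v * (a ^ k)⁻¹ = c ^ k * v := by
      intro k
      induction k with
      | zero => simp
      | succ k ih =>
        have hck : a * c ^ k * a⁻¹ = c ^ k := by
          have : Commute a (c ^ k) := (show Commute a c from hca).pow_right k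
          rw [this.eq, mul_inv_cancel_right]
        calc a ^ (k + 1) * v * (a ^ (k + 1))⁻¹ = a * (a ^ k * v * (a ^ k)⁻¹) * a⁻¹ := by
              rw [pow_succ']; group
          _ = a * (c ^ k * v) * a⁻¹ := by rw [ih]
          _ = (a * c ^ k * a⁻¹) * (a * v * a⁻¹) := by group
          _ = c ^ k * (c * v) := by rw [hck, hav]
          _ = c ^ (k + 1) * v := by rw [pow_succ, mul_assoc]
    have := key p
    rw [hcp, one_mul] at this
    -- a^p v a^-p = v
    calc v * a ^ p = (a ^ p * v * (a ^ p)⁻¹) * a ^ p := by rw [this]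
      _ = a ^ p * v := by group

end Cfsg.Agent.S0590
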