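import Mathlib
import Cfsg.Statements.S0591
import Cfsg.Agent.Lib.Helper3.Thompson

set_option autoImplicit false
open Cfsg
open scoped commutatorElement

namespace Cfsg.Agent.S0591

open Cfsg.Agent.Helper3

theorem result {G : Type*} [Group G] [Finite G] {p : ℕ} [Fact p.Prime] (V : Subgroup G) (hV : Cfsg.IsElementaryAbelian p V) (a : G) (ha : a ∈ Subgroup.normalizer (V : Set G)) (hq : ⁅⁅V, Subgroup.zpowers a⁆, Subgroup.zpowers a⁆ = ⊥) : Nat.card V ≤ Nat.card ↥(V ⊓ Subgroup.centralizer (Subgroup.zpowers a : Set G)) ^ 2 := by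
  set K := V ⊓ Subgroup.centralizer (Subgroup.zpowers a : Set G) with hK
  have hHV : Subgroup.zpowers a ≤ Subgroup.normalizer (V : Set G) := by
    rw [Subgroup.zpowers_le]; exact ha
  have hWV : ⁅V, Subgroup.zpowers a⁆ ≤ V := Subgroup.le_normalizer_iff_commutator_le_left.mp hHV
  have hWc : ⁅V, Subgroup.zpowers a⁆ ≤ Subgroup.centralizer (Subgroup.zpowers a : Set G) :=
    Subgroup.commutator_eq_bot_iff_le_centralizer.mp hq
  have hmem : ∀ v ∈ V, ⁅a, v⁆ ∈ K := by
    intro v hv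
    have : ⁅a, v⁆ ∈ ⁅V, Subgroup.zpowers a⁆ := by
      rw [Subgroup.commutator_comm]
      exact Subgroup.commutator_mem_commutator (Subgroup.mem_zpowers a) hv
    exact Subgroup.mem_inf.mpr ⟨hWV this, hWc this⟩
  have hconj : ∀ v ∈ V, a * v * a⁻¹ ∈ V := by
    intro v hv
    exact (Subgroup.mem_normalizer_iff.mp ha v).mp hv
  -- the homomorphism v ↦ [a, v]
  let φ : V →* K :=
    { toFun := fun v => ⟨⁅a, (v : G)⁆, hmem v v.2⟩
      map_one' := by
        apply Subtype.ext
        simp [commutatorElement_def]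
      map_mul' := by
        intro v w
        apply Subtype.ext
        show ⁅a, (v : G) * (w : G)⁆ = ⁅a, (v : G)⁆ * ⁅a, (w : G)⁆
        simp only [commutatorElement_def]
        have hX : a * (w : G) * a⁻¹ * (w : G)⁻¹ ∈ V := V.mul_mem (hconj _ w.2) (V.inv_mem w.2)
        have h1 : (a * (w : G) * a⁻¹ * (w : G)⁻¹) * (v : G)⁻¹ =
            (v : G)⁻¹ * (a * (w : G) * a⁻¹ * (w : G)⁻¹) :=
          IsElementaryAbelian.commute hV hX (V.inv_mem v.2)
        calc a * ((v : G) * (w : G)) * a⁻¹ * ((v : G) * (w : G))⁻¹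
            = (a * (v : G) * a⁻¹) * ((a * (w : G) * a⁻¹ * (w : G)⁻¹) * (v : G)⁻¹) := by group
          _ = (a * (v : G) * a⁻¹) * ((v : G)⁻¹ * (a * (w : G) * a⁻¹ * (w : G)⁻¹)) := by rw [h1]
          _ = a * (v : G) * a⁻¹ * (v : G)⁻¹ * (a * (w : G) * a⁻¹ * (w : G)⁻¹) := by group }
  have hker : φ.ker ≤ K.subgroupOf V := by
    intro v hv
    rw [MonoidHom.mem_ker] at hv
    have h1 : ⁅a, (v : G)⁆ = 1 := congrArg Subtype.val hv
    rw [Subgroup.mem_subgroupOf]
    refine Subgroup.mem_inf.mpr ⟨v.2, ?_⟩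
    rw [Subgroup.mem_centralizer_iff]
    intro h hh
    have hcomm : Commute a (v : G) := commutatorElement_eq_one_iff_commute.mp h1
    obtain ⟨k, rfl⟩ := Subgroup.mem_zpowers_iff.mp hh
    exact (hcomm.zpow_left k).eq
  have h1 : Nat.card φ.ker * φ.ker.index = Nat.card V := Subgroup.card_mul_index _
  have h2 : φ.ker.index = Nat.card φ.range := Subgroup.index_ker φ
  have h3 : Nat.card φ.range ≤ Nat.card K := Subgroup.card_le_card_group _
  have h4 : Nat.card φ.ker ≤ Nat.card K := by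
    calc Nat.card φ.ker ≤ Nat.card (K.subgroupOf V) := Subgroup.card_le_of_le hker
      _ = Nat.card K := card_subgroupOf_of_le inf_le_left
  calc Nat.card V = Nat.card φ.ker * Nat.card φ.range := by rw [← h1, h2]
    _ ≤ Nat.card K * Nat.card K := Nat.mul_le_mul h4 h3
    _ = Nat.card K ^ 2 := (pow_two _).symm

end Cfsg.Agent.S0591
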