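import Mathlib
import Cfsg.Statements.S0592

set_option autoImplicit false
open Polynomial

namespace Cfsg.Agent.S0592

variable {K : Type*} [Field K] [Fintype K] {p : ℕ} [Fact p.Prime] [CharP K p]

/-- A quadratically acting linear automorphism in characteristic `p` has `p`-th power one. -/
theorem pow_p_eq_one_of_quadratic {W : Type*} [AddCommGroup W] [Module K W] (g : W ≃ₗ[K] W)
    (hg : ∀ w : W, g (g w - w) = g w - w) : g ^ p = 1 := by
  have key : ∀ (j : ℕ) (w : W), (g ^ j) w = w + j • (g w - w) := by
    intro j
    induction j with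
    | zero => intro w; simp
    | succ j ih =>
      intro w
      rw [pow_succ', LinearEquiv.mul_apply, ih, map_add, map_nsmul, hg]
      rw [succ_nsmul]
      abel
  ext w
  rw [key p w, LinearEquiv.coe_one, id_eq]
  have : (p : ℕ) • (g w - w) = 0 := by
    rw [← Nat.cast_smul_eq_nsmul K, CharP.cast_eq_zero K p, zero_smul]
  rw [this, add_zero]

theorem splits_X_pow_card_sub_X : Splits (X ^ Fintype.card K - X : K[X]) := by
  rw [splits_iff_card_roots, FiniteField.roots_X_pow_card_sub_X,
    FiniteField.X_pow_card_sub_X_natDegree_eq K Fintype.one_lt_card]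
  simp

/-- An automorphism whose order divides `p ^ e * (q - 1)` has an eigenvector over `K`. -/
theorem exists_eigenvector {W : Type*} [AddCommGroup W] [Module K W] [FiniteDimensional K W]
    [Nontrivial W] (T : W ≃ₗ[K] W) (e : ℕ) (hT : T ^ (p ^ e * (Fintype.card K - 1)) = 1) :
    ∃ (c : K) (w : W), w ≠ 0 ∧ T w = c • w := by
  set q := Fintype.card K with hq
  have hq1 : 1 ≤ q := Fintype.card_pos
  set f : Module.End K W := T.toLinearMap with hf
  have hfpow : ∀ n : ℕ, f ^ n = (T ^ n).toLinearMap := by
    intro n
    induction n with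
    | zero => rfl
    | succ n ih => rw [pow_succ, ih, pow_succ]; rfl
  have hf1 : f ^ (p ^ e * (q - 1)) = 1 := by rw [hfpow, hT]; rfl
  set P : K[X] := (X ^ q - X) ^ (p ^ e) with hP
  have hPs : Splits P := splits_X_pow_card_sub_X.pow _
  have hP0 : P ≠ 0 := pow_ne_zero _ (FiniteField.X_pow_card_sub_X_ne_zero K Fintype.one_lt_card)
  have hPe : P = X ^ (q * p ^ e) - X ^ (p ^ e) := by
    rw [hP, sub_pow_char_pow, ← pow_mul]
  have haev : aeval f P = 0 := by
    rw [hPe, map_sub, map_pow, map_pow, aeval_X]
    have : q * p ^ e = p ^ e + p ^ e * (q - 1) := by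
      have : q = 1 + (q - 1) := by omega
      nth_rewrite 1 [this]
      ring
    rw [this, pow_add, hf1, mul_one, sub_self]
  have hdvd : minpoly K f ∣ P := minpoly.dvd K f haev
  have hms : Splits (minpoly K f) := hPs.of_dvd hP0 hdvd
  have hint : IsIntegral K f := Algebra.IsIntegral.isIntegral f
  have hdeg : degree (minpoly K f) ≠ 0 := (minpoly.degree_pos hint).ne'
  obtain ⟨c, hc⟩ := hms.exists_eval_eq_zero hdeg
  have hev : f.HasEigenvalue c := Module.End.hasEigenvalue_of_isRoot hc
  obtain ⟨w, hw⟩ := hev.exists_hasEigenvector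
  exact ⟨c, w, hw.2, Module.End.mem_eigenspace_iff.mp hw.1⟩

end Cfsg.Agent.S0592
namespace Cfsg.Agent.S0592

variable {K : Type*} [Field K]
variable {Γ : Type*} [Group Γ] {W : Type*} [AddCommGroup W] [Module K W]

theorem isPGroup_range_iff {M : Type*} [Group M] (p : ℕ) (ρ : Γ →* M) :
    IsPGroup p ρ.range ↔ ∀ g : Γ, ∃ k : ℕ, ρ g ^ p ^ k = 1 := by
  constructor
  · intro h g
    obtain ⟨k, hk⟩ := h ⟨ρ g, g, rfl⟩
    refine ⟨k, ?_⟩
    have := congrArg Subtype.val hk
    simpa using this
  · rintro h ⟨_, g, rfl⟩
    obtain ⟨k, hk⟩ := h g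
    exact ⟨k, Subtype.ext (by simpa using hk)⟩

/-- The action on an invariant subspace. -/
def subRep (ρ : Γ →* (W ≃ₗ[K] W)) (U : Submodule K W) (hU : ∀ g : Γ, ∀ u ∈ U, ρ g u ∈ U) :
    Γ →* (U ≃ₗ[K] U) where
  toFun g := LinearEquiv.ofLinearMap ((ρ g).toLinearMap.restrict (hU g))
    ((ρ g⁻¹).toLinearMap.restrict (hU g⁻¹))
    (by
      ext u
      simp only [LinearMap.coe_comp, Function.comp_apply, LinearMap.coe_restrict_apply,
        LinearEquiv.coe_coe, LinearMap.id_coe, id_eq]
      rw [← LinearEquiv.mul_apply, ← map_mul, mul_inv_cancel, map_one]; rfl)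
    (by
      ext u
      simp only [LinearMap.coe_comp, Function.comp_apply, LinearMap.coe_restrict_apply,
        LinearEquiv.coe_coe, LinearMap.id_coe, id_eq]
      rw [← LinearEquiv.mul_apply, ← map_mul, inv_mul_cancel, map_one]; rfl)
  map_one' := by
    ext u
    simp
  map_mul' g h := by
    ext u
    simp

theorem subRep_apply (ρ : Γ →* (W ≃ₗ[K] W)) (U : Submodule K W)
    (hU : ∀ g : Γ, ∀ u ∈ U, ρ g u ∈ U) (g : Γ) (u : U) :
    ((subRep ρ U hU g) u : W) = ρ g (u : W) := rfl

/-- The action on the quotient by an invariant subspace. -/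
def quotRep (ρ : Γ →* (W ≃ₗ[K] W)) (U : Submodule K W) (hU : ∀ g : Γ, ∀ u ∈ U, ρ g u ∈ U) :
    Γ →* ((W ⧸ U) ≃ₗ[K] (W ⧸ U)) where
  toFun g := LinearEquiv.ofLinearMap (U.mapQ U (ρ g).toLinearMap (fun u hu => hU g u hu))
    (U.mapQ U (ρ g⁻¹).toLinearMap (fun u hu => hU g⁻¹ u hu))
    (by
      ext w
      simp only [LinearMap.coe_comp, Function.comp_apply, Submodule.mkQ_apply,
        Submodule.mapQ_apply, LinearEquiv.coe_coe, LinearMap.id_coe, id_eq]
      rw [← LinearEquiv.mul_apply, ← map_mul, mul_inv_cancel, map_one]; rfl)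
    (by
      ext w
      simp only [LinearMap.coe_comp, Function.comp_apply, Submodule.mkQ_apply,
        Submodule.mapQ_apply, LinearEquiv.coe_coe, LinearMap.id_coe, id_eq]
      rw [← LinearEquiv.mul_apply, ← map_mul, inv_mul_cancel, map_one]; rfl)
  map_one' := by
    apply LinearEquiv.toLinearMap_injective
    ext w
    simp
  map_mul' g h := by
    apply LinearEquiv.toLinearMap_injective
    ext w
    simp

theorem quotRep_mk (ρ : Γ →* (W ≃ₗ[K] W)) (U : Submodule K W)
    (hU : ∀ g : Γ, ∀ u ∈ U, ρ g u ∈ U) (g : Γ) (w : W) :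
    (quotRep ρ U hU g) (Submodule.Quotient.mk w) = Submodule.Quotient.mk (ρ g w) := rfl

end Cfsg.Agent.S0592

namespace Cfsg.Agent.S0592

variable {K : Type*} [Field K] [Fintype K] {p : ℕ} [Fact p.Prime] [CharP K p]
variable {Γ : Type*} [Group Γ] {W : Type*} [AddCommGroup W] [Module K W]

/-- If the actions on an invariant subspace and on the quotient are by `p`-groups, so is the
action on the whole space. -/
theorem pgroup_of_sub_quot (ρ : Γ →* (W ≃ₗ[K] W)) (U : Submodule K W)
    (hU : ∀ g : Γ, ∀ u ∈ U, ρ g u ∈ U)
    (h1 : ∀ g : Γ, ∃ k : ℕ, subRep ρ U hU g ^ p ^ k = 1)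
    (h2 : ∀ g : Γ, ∃ k : ℕ, quotRep ρ U hU g ^ p ^ k = 1) :
    ∀ g : Γ, ∃ k : ℕ, ρ g ^ p ^ k = 1 := by
  intro g
  obtain ⟨k1, hk1⟩ := h1 g
  obtain ⟨k2, hk2⟩ := h2 g
  set h := g ^ (p ^ k1 * p ^ k2) with hh
  have e1 : subRep ρ U hU h = 1 := by
    rw [hh, map_pow, pow_mul, hk1, one_pow]
  have e2 : quotRep ρ U hU h = 1 := by
    rw [hh, map_pow, mul_comm, pow_mul, hk2, one_pow]
  have q1 : ∀ u ∈ U, ρ h u = u := by
    intro u hu
    have := congrArg (fun f : U ≃ₗ[K] U => ((f ⟨u, hu⟩ : U) : W)) e1
    simpa [subRep_apply] using this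
  have q2 : ∀ w : W, ρ h w - w ∈ U := by
    intro w
    have := congrArg (fun f : (W ⧸ U) ≃ₗ[K] (W ⧸ U) => f (Submodule.Quotient.mk w)) e2
    simp only [quotRep_mk, LinearEquiv.coe_one, id_eq] at this
    rwa [Submodule.Quotient.eq] at this
  have hquad : ∀ w : W, ρ h (ρ h w - w) = ρ h w - w := fun w => q1 _ (q2 w)
  have := pow_p_eq_one_of_quadratic (p := p) (ρ h) hquad
  refine ⟨k1 + k2 + 1, ?_⟩
  rw [hh, map_pow, ← pow_mul] at this
  rw [← this]
  congr 1
  ring

end Cfsg.Agent.S0592

namespace Cfsg.Agent.S0592

universe u v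

variable {K : Type v} [Field K] [Fintype K] {p : ℕ} [Fact p.Prime] [CharP K p]
variable {Γ : Type*} [Group Γ]

theorem quotRep_eq_one {W : Type*} [AddCommGroup W] [Module K W] (ρ : Γ →* (W ≃ₗ[K] W))
    (U : Submodule K W) (hU : ∀ g : Γ, ∀ u ∈ U, ρ g u ∈ U) {g : Γ} (h : ρ g = 1) :
    quotRep ρ U hU g = 1 := by
  apply LinearEquiv.toLinearMap_injective
  ext w
  show (quotRep ρ U hU g) (Submodule.Quotient.mk w) = Submodule.Quotient.mk w
  rw [quotRep_mk, h]
  rfl

/-- The homomorphism to `SL₂` from an action on a plane with a given basis. -/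
noncomputable def planeHom {U : Type*} [AddCommGroup U] [Module K U] (Bs : Module.Basis (Fin 2) K U)
    (σ : Γ →* (U ≃ₗ[K] U)) (hdet : ∀ g : Γ, LinearMap.det (σ g).toLinearMap = 1) :
    Γ →* Matrix.SpecialLinearGroup (Fin 2) K :=
  MonoidHom.mk' (fun g => ⟨LinearMap.toMatrix Bs Bs (σ g).toLinearMap, by
    rw [LinearMap.det_toMatrix]; exact hdet g⟩) (by
    intro g h
    apply Subtype.ext
    show LinearMap.toMatrix Bs Bs (σ (g * h)).toLinearMap =
      LinearMap.toMatrix Bs Bs (σ g).toLinearMap * LinearMap.toMatrix Bs Bs (σ h).toLinearMap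
    rw [← LinearMap.toMatrix_mul, map_mul]
    rfl)

theorem planeHom_eq_one {U : Type*} [AddCommGroup U] [Module K U] (Bs : Module.Basis (Fin 2) K U)
    (σ : Γ →* (U ≃ₗ[K] U)) (hdet : ∀ g : Γ, LinearMap.det (σ g).toLinearMap = 1) {g : Γ}
    (h : planeHom Bs σ hdet g = 1) : σ g = 1 := by
  have h1 : LinearMap.toMatrix Bs Bs (σ g).toLinearMap = 1 := congrArg Subtype.val h
  have h2 : (σ g).toLinearMap = LinearMap.id := by
    apply (LinearMap.toMatrix Bs Bs).injective
    rw [h1, LinearMap.toMatrix_id]
  apply LinearEquiv.toLinearMap_injective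
  exact h2

end Cfsg.Agent.S0592

namespace Cfsg.Agent.S0592

universe u v

variable {K : Type v} [Field K] [Fintype K] {p : ℕ} [Fact p.Prime] [CharP K p]
variable {Γ : Type*} [Group Γ]

theorem eq_one_of_pow_p {c : K} (h : c ^ p = 1) : c = 1 := by
  have : (c - 1) ^ p = 0 := by rw [sub_pow_char, h, one_pow, sub_self]
  exact sub_eq_zero.mp (pow_eq_zero_iff (Fact.out : p.Prime).ne_zero |>.mp this)

theorem main (x y : Γ) (hgen : Subgroup.closure {x, y} = ⊤) (hx : x ^ p = 1) (hy : y ^ p = 1) :
    ∀ (n : ℕ) (W : Type u) [AddCommGroup W] [Module K W] [FiniteDimensional K W]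
      (ρ : Γ →* (W ≃ₗ[K] W)), Module.finrank K W ≤ n →
      (∀ w, ρ x (ρ x w - w) = ρ x w - w) → (∀ w, ρ y (ρ y w - w) = ρ y w - w) →
      (¬ ∀ g : Γ, ∃ k : ℕ, ρ g ^ p ^ k = 1) →
      (∃ e : ℕ, ρ (x * y) ^ (p ^ e * (Fintype.card K - 1)) = 1) →
      ∃ φ : Γ →* Matrix.SpecialLinearGroup (Fin 2) K, ¬ IsPGroup p φ.range := by
  intro n
  induction n with
  | zero =>
    intro W _ _ _ ρ hn _ _ hnp _
    exfalso
    apply hnp
    intro g
    refine ⟨0, ?_⟩
    have hsub : Subsingleton W := Module.finrank_zero_iff.mp (Nat.le_zero.mp hn)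
    ext w
    exact Subsingleton.elim _ _
  | succ n ih =>
    intro W _ _ _ ρ hn hqx hqy hnp hord
    have hnt : Nontrivial W := by
      by_contra hcon
      rw [not_nontrivial_iff_subsingleton] at hcon
      apply hnp
      intro g
      refine ⟨0, ?_⟩
      ext w
      exact Subsingleton.elim _ _
    obtain ⟨e, he⟩ := hord
    obtain ⟨c, w, hw0, hTw⟩ := exists_eigenvector (p := p) (ρ (x * y)) e he
    set A := ρ x with hA
    set B := ρ y with hB
    have hAB : A (B w) = c • w := by
      rw [← hTw, map_mul]; rfl
    have hc0 : c ≠ 0 := by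
      rintro rfl
      rw [zero_smul] at hAB
      have h1 : B w = 0 := by
        have := A.injective (hAB.trans (map_zero A).symm)
        exact this
      exact hw0 (B.injective (h1.trans (map_zero B).symm))
    have hBB : B (B w) = (2 : K) • B w - w := by
      have := hqy w
      rw [map_sub] at this
      rw [two_smul]
      have h2 : B (B w) = B w - w + B w := by rw [← this]; abel
      rw [h2]; abel
    have hAw : A w = (2 : K) • w - c⁻¹ • B w := by
      have := hqx (B w)
      rw [hAB, map_sub, map_smul, hAB] at this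
      have h2 : c • A w = (2 : K) • (c • w) - B w := by
        rw [two_smul]
        have h3 : c • A w = c • w - B w + c • w := by rw [← this]; abel
        rw [h3]; abel
      have h3 : A w = c⁻¹ • (c • A w) := by rw [smul_smul, inv_mul_cancel₀ hc0, one_smul]
      have h4 : c⁻¹ • ((2 : K) • (c • w)) = (2 : K) • w := by
        rw [smul_smul, smul_smul, mul_comm c⁻¹ 2, mul_assoc, inv_mul_cancel₀ hc0, mul_one]
      rw [h3, h2, smul_sub, h4]
    set U : Submodule K W := Submodule.span K {w, B w} with hUdef
    have hwU : w ∈ U := Submodule.subset_span (by simp)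
    have hBwU : B w ∈ U := Submodule.subset_span (by simp)
    have hUA : ∀ u ∈ U, A u ∈ U := by
      have : U.map A.toLinearMap ≤ U := by
        rw [hUdef, Submodule.map_span_le]
        intro m hm
        rcases hm with rfl | hm
        · show A m ∈ _
          rw [hAw]
          exact Submodule.sub_mem _ (Submodule.smul_mem _ _ hwU) (Submodule.smul_mem _ _ hBwU)
        · rw [Set.mem_singleton_iff] at hm
          subst hm
          show A (B w) ∈ _
          rw [hAB]
          exact Submodule.smul_mem _ _ hwU
      intro u hu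
      exact this (Submodule.mem_map_of_mem hu)
    have hUB : ∀ u ∈ U, B u ∈ U := by
      have : U.map B.toLinearMap ≤ U := by
        rw [hUdef, Submodule.map_span_le]
        intro m hm
        rcases hm with rfl | hm
        · exact hBwU
        · rw [Set.mem_singleton_iff] at hm
          subst hm
          show B (B w) ∈ _
          rw [hBB]
          exact Submodule.sub_mem _ (Submodule.smul_mem _ _ hBwU) hwU
      intro u hu
      exact this (Submodule.mem_map_of_mem hu)
    have hpow : ∀ (C : W ≃ₗ[K] W), (∀ u ∈ U, C u ∈ U) → ∀ (j : ℕ), ∀ u ∈ U, (C ^ j) u ∈ U := by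
      intro C hC j
      induction j with
      | zero => intro u hu; simpa using hu
      | succ j ihj =>
        intro u hu
        rw [pow_succ', LinearEquiv.mul_apply]
        exact hC _ (ihj u hu)
    have hxinv : x⁻¹ = x ^ (p - 1) := by
      apply inv_eq_of_mul_eq_one_right
      rw [← pow_succ', Nat.sub_add_cancel (Fact.out : p.Prime).one_le, hx]
    have hyinv : y⁻¹ = y ^ (p - 1) := by
      apply inv_eq_of_mul_eq_one_right
      rw [← pow_succ', Nat.sub_add_cancel (Fact.out : p.Prime).one_le, hy]
    have hUg : ∀ g : Γ, ∀ u ∈ U, ρ g u ∈ U := by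
      have hall : ∀ g : Γ, (∀ u ∈ U, ρ g u ∈ U) ∧ (∀ u ∈ U, ρ g⁻¹ u ∈ U) := by
        intro g
        have hg : g ∈ Subgroup.closure {x, y} := by rw [hgen]; trivial
        induction hg using Subgroup.closure_induction with
        | mem z hz =>
          rcases hz with rfl | hz
          · refine ⟨hUA, ?_⟩
            rw [hxinv, map_pow]
            exact hpow A hUA _
          · rw [Set.mem_singleton_iff] at hz
            subst hz
            refine ⟨hUB, ?_⟩
            rw [hyinv, map_pow]
            exact hpow B hUB _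
        | one => simp
        | mul g h _ _ ihg ihh =>
          refine ⟨fun u hu => ?_, fun u hu => ?_⟩
          · rw [map_mul, LinearEquiv.mul_apply]
            exact ihg.1 _ (ihh.1 u hu)
          · rw [mul_inv_rev, map_mul, LinearEquiv.mul_apply]
            exact ihh.2 _ (ihg.2 u hu)
        | inv g _ ihg =>
          refine ⟨ihg.2, ?_⟩
          rw [inv_inv]
          exact ihg.1
      exact fun g => (hall g).1
    by_cases hPU : ∀ g : Γ, ∃ k : ℕ, subRep ρ U hUg g ^ p ^ k = 1
    · -- pass to the quotient
      have hPQ : ¬ ∀ g : Γ, ∃ k : ℕ, quotRep ρ U hUg g ^ p ^ k = 1 :=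
        fun h => hnp (pgroup_of_sub_quot ρ U hUg hPU h)
      have hUne : U ≠ ⊥ := by
        intro h
        rw [h, Submodule.mem_bot] at hwU
        exact hw0 hwU
      have hfr : Module.finrank K (W ⧸ U) ≤ n := by
        have h1 := Submodule.finrank_quotient_add_finrank U
        have h2 : 1 ≤ Module.finrank K U := Submodule.one_le_finrank_iff.mpr hUne
        omega
      refine ih (W ⧸ U) (quotRep ρ U hUg) hfr ?_ ?_ hPQ ⟨e, ?_⟩
      · intro w'
        obtain ⟨v', rfl⟩ := Submodule.Quotient.mk_surjective U w'
        rw [quotRep_mk, ← Submodule.Quotient.mk_sub, quotRep_mk, hqx]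
      · intro w'
        obtain ⟨v', rfl⟩ := Submodule.Quotient.mk_surjective U w'
        rw [quotRep_mk, ← Submodule.Quotient.mk_sub, quotRep_mk, hqy]
      · rw [← map_pow]
        apply quotRep_eq_one
        rw [map_pow]
        exact he
    · -- the plane `U`
      have hBw : B w ∉ Submodule.span K {w} := by
        intro hmem
        rw [Submodule.mem_span_singleton] at hmem
        obtain ⟨t, ht⟩ := hmem
        have h1 := hqy w
        have e1 : t • w - w = (t - 1) • w := by rw [sub_smul, one_smul]
        rw [← ht, e1, map_smul, ← ht, smul_smul] at h1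
        have h2 : ((t - 1) * t - (t - 1)) • w = 0 := by rw [sub_smul, h1, sub_self]
        have ht1 : t = 1 := by
          rcases smul_eq_zero.mp h2 with h | h
          · have : (t - 1) * (t - 1) = 0 := by linear_combination h
            have := mul_self_eq_zero.mp this
            exact sub_eq_zero.mp this
          · exact absurd h hw0
        rw [ht1, one_smul] at ht
        have hBw1 : B w = w := ht.symm
        have hAw1 : A w = c • w := by rw [← hAB, hBw1]
        have h3 := hqx w
        have e2 : c • w - w = (c - 1) • w := by rw [sub_smul, one_smul]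
        rw [hAw1, e2, map_smul, hAw1, smul_smul] at h3
        have h4 : ((c - 1) * c - (c - 1)) • w = 0 := by rw [sub_smul, h3, sub_self]
        have hc1 : c = 1 := by
          rcases smul_eq_zero.mp h4 with h | h
          · have : (c - 1) * (c - 1) = 0 := by linear_combination h
            have := mul_self_eq_zero.mp this
            exact sub_eq_zero.mp this
          · exact absurd h hw0
        rw [hc1, one_smul] at hAw1
        apply hPU
        intro g
        refine ⟨0, ?_⟩
        rw [pow_zero, pow_one]
        have hfix : ∀ g : Γ, ρ g w = w ∧ ρ g⁻¹ w = w := by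
          intro g
          have hg : g ∈ Subgroup.closure {x, y} := by rw [hgen]; trivial
          induction hg using Subgroup.closure_induction with
          | mem z hz =>
            rcases hz with rfl | hz
            · refine ⟨hAw1, ?_⟩
              rw [map_inv]
              show (ρ z).symm w = w
              rw [LinearEquiv.symm_apply_eq]
              exact hAw1.symm
            · rw [Set.mem_singleton_iff] at hz
              subst hz
              refine ⟨hBw1, ?_⟩
              rw [map_inv]
              show (ρ z).symm w = w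
              rw [LinearEquiv.symm_apply_eq]
              exact hBw1.symm
          | one => simp
          | mul g h _ _ ihg ihh =>
            refine ⟨?_, ?_⟩
            · rw [map_mul, LinearEquiv.mul_apply, ihh.1, ihg.1]
            · rw [mul_inv_rev, map_mul, LinearEquiv.mul_apply, ihg.2, ihh.2]
          | inv g _ ihg =>
            refine ⟨ihg.2, ?_⟩
            rw [inv_inv]
            exact ihg.1
        have hfixU : ∀ u ∈ U, ρ g u = u := by
          intro u hu
          rw [hUdef] at hu
          induction hu using Submodule.span_induction with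
          | mem m hm =>
            rcases hm with rfl | hm
            · exact (hfix g).1
            · rw [Set.mem_singleton_iff] at hm
              subst hm
              rw [hBw1]
              exact (hfix g).1
          | zero => exact map_zero _
          | add a b _ _ ha hb => rw [map_add, ha, hb]
          | smul t a _ ha => rw [map_smul, ha]
        ext u
        rw [subRep_apply]
        exact hfixU u u.2
      -- a basis of `U`
      have hBw0 : B w ≠ 0 := fun h => hw0 (B.injective (h.trans (map_zero B).symm))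
      have hliW : LinearIndependent K ![w, B w] := by
        rw [LinearIndependent.pair_iff' hw0]
        intro a ha
        apply hBw
        rw [Submodule.mem_span_singleton]
        exact ⟨a, ha⟩
      let vv : Fin 2 → U := ![⟨w, hwU⟩, ⟨B w, hBwU⟩]
      have hcomp : U.subtype ∘ vv = ![w, B w] := by
        ext i
        fin_cases i <;> rfl
      have hli : LinearIndependent K vv := by
        apply LinearIndependent.of_comp U.subtype
        rw [hcomp]
        exact hliW
      have hsp : ⊤ ≤ Submodule.span K (Set.range vv) := by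
        intro u _
        have hu : (u : W) ∈ Submodule.span K {w, B w} := u.2
        have hr : Set.range ![w, B w] = {w, B w} := by
          ext z
          simp only [Set.mem_range, Fin.exists_fin_two, Matrix.cons_val_zero, Matrix.cons_val_one,
            Set.mem_insert_iff, Set.mem_singleton_iff]
          constructor
          · rintro (h | h)
            · exact Or.inl h.symm
            · exact Or.inr h.symm
          · rintro (h | h)
            · exact Or.inl h.symm
            · exact Or.inr h.symm
        have : (u : W) ∈ (Submodule.span K (Set.range vv)).map U.subtype := by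
          rw [Submodule.map_span, ← Set.range_comp, hcomp, hr]
          exact hu
        obtain ⟨u', hu', hu'e⟩ := this
        have : u' = u := Subtype.ext hu'e
        rwa [this] at hu'
      let Bs : Module.Basis (Fin 2) K U := Module.Basis.mk hli hsp
      -- determinant one
      let D : Γ →* K := LinearMap.det.comp
        ((LinearEquiv.automorphismGroup.toLinearMapMonoidHom).comp (subRep ρ U hUg))
      have hD1 : D = 1 := by
        apply MonoidHom.eq_of_eqOn_dense hgen
        intro z hz
        rcases hz with rfl | hz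
        · show D z = 1
          apply eq_one_of_pow_p (p := p)
          rw [← map_pow, hx, map_one]
        · rw [Set.mem_singleton_iff] at hz
          subst hz
          show D z = 1
          apply eq_one_of_pow_p (p := p)
          rw [← map_pow, hy, map_one]
      have hdet : ∀ g : Γ, LinearMap.det (subRep ρ U hUg g).toLinearMap = 1 := by
        intro g
        have := congrArg (fun f : Γ →* K => f g) hD1
        exact this
      refine ⟨planeHom Bs (subRep ρ U hUg) hdet, ?_⟩
      intro hP
      apply hPU
      intro g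
      rw [isPGroup_range_iff] at hP
      obtain ⟨k, hk⟩ := hP g
      refine ⟨k, ?_⟩
      rw [← map_pow] at hk ⊢
      exact planeHom_eq_one Bs _ hdet hk

end Cfsg.Agent.S0592

namespace Cfsg.Agent.S0592

/-- Two quadratically acting generators of a linear group that is not a p-group, with the p'-part of the order of their product dividing q - 1, give a homomorphism onto a subgroup of SL(2, q) that is not a p-group. -/
theorem result {K : Type*} [Field K] [Fintype K] {p : ℕ} [Fact p.Prime] [CharP K p] {W : Type*} [AddCommGroup W] [Module K W] [FiniteDimensional K W] [Finite W] [Nontrivial W] (H : Subgroup (W ≃ₗ[K] W)) (a b : W ≃ₗ[K] W) (hH : H = Subgroup.closure {a, b}) (ha : ∀ w : W, a (a w - w) = a w - w) (hb : ∀ w : W, b (b w - w) = b w - w) (hnp : ¬ IsPGroup p H) (hk : ∃ e k : ℕ, orderOf (a * b) = p ^ e * k ∧ k ∣ Fintype.card K - 1) : ∃ φ : H →* Matrix.SpecialLinearGroup (Fin 2) K, ¬ IsPGroup p φ.range := by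
  have haH : a ∈ H := by rw [hH]; exact Subgroup.subset_closure (by simp)
  have hbH : b ∈ H := by rw [hH]; exact Subgroup.subset_closure (by simp)
  have hgen : Subgroup.closure {(⟨a, haH⟩ : H), (⟨b, hbH⟩ : H)} = ⊤ := by
    apply Subgroup.map_injective H.subtype_injective
    rw [MonoidHom.map_closure, Set.image_pair, ← MonoidHom.range_eq_map, Subgroup.range_subtype]
    exact hH.symm
  have hx : (⟨a, haH⟩ : H) ^ p = 1 := Subtype.ext (pow_p_eq_one_of_quadratic a ha)
  have hy : (⟨b, hbH⟩ : H) ^ p = 1 := Subtype.ext (pow_p_eq_one_of_quadratic b hb)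
  refine main (⟨a, haH⟩ : H) ⟨b, hbH⟩ hgen hx hy (Module.finrank K W) W H.subtype le_rfl ha hb ?_ ?_
  · intro h
    apply hnp
    intro g
    obtain ⟨k, hk'⟩ := h g
    exact ⟨k, Subtype.ext hk'⟩
  · obtain ⟨e, k, hord, hkd⟩ := hk
    refine ⟨e, ?_⟩
    show (a * b) ^ (p ^ e * (Fintype.card K - 1)) = 1
    obtain ⟨m, hm⟩ := hkd
    rw [hm, ← mul_assoc, pow_mul, ← hord, pow_orderOf_eq_one, one_pow]

end Cfsg.Agent.S0592
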