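import Mathlib
import Cfsg.Statements.S0595
import Cfsg.Agent.Lib.Helper1.QuadraticGeneral

set_option autoImplicit false
open Cfsg

namespace Cfsg.Agent.S0595

open scoped commutatorElement
open Cfsg.Agent.Helper1 Cfsg.Agent.Helper4.SLF

/-- if one Sylow `2`-subgroup is commutative, all are -/
theorem all_sylow_comm {X : Type*} [Group X] [Finite X] (T : Sylow 2 X)
    (hT : IsMulCommutative T) (T' : Sylow 2 X) : IsMulCommutative T' := by
  have : Fact (Nat.Prime 2) := ⟨Nat.prime_two⟩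
  obtain ⟨g, rfl⟩ := MulAction.exists_smul_eq X T T'
  have hcoe : ((g • T : Sylow 2 X) : Subgroup X) =
      (T : Subgroup X).map (MulAut.conj g).toMonoidHom := rfl
  refine ⟨⟨?_⟩⟩
  rintro ⟨x, hx⟩ ⟨y, hy⟩
  apply Subtype.ext
  have hx' : x ∈ (T : Subgroup X).map (MulAut.conj g).toMonoidHom := hcoe ▸ hx
  have hy' : y ∈ (T : Subgroup X).map (MulAut.conj g).toMonoidHom := hcoe ▸ hy
  obtain ⟨s, hs, rfl⟩ := hx'
  obtain ⟨t, ht, rfl⟩ := hy'
  have h1 := mul_comm' (⟨s, hs⟩ : T) ⟨t, ht⟩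
  have h2 : s * t = t * s := congrArg Subtype.val h1
  show (MulAut.conj g).toMonoidHom s * (MulAut.conj g).toMonoidHom t =
    (MulAut.conj g).toMonoidHom t * (MulAut.conj g).toMonoidHom s
  rw [← map_mul, ← map_mul, h2]

/-- For odd p, a faithful action on an elementary abelian p-group that is not p-stable forces non-abelian Sylow 2-subgroups. -/
theorem result {G : Type*} [Group G] [Finite G] {p : ℕ} [Fact p.Prime] (hp : p ≠ 2) (V H : Subgroup G) (hV : Cfsg.IsElementaryAbelian p V) (hHV : H ≤ Subgroup.normalizer (V : Set G)) (hf : H ⊓ Subgroup.centralizer (V : Set G) = ⊥) (a : G) (haH : a ∈ H) (hq : ⁅⁅V, Subgroup.zpowers a⁆, Subgroup.zpowers a⁆ = ⊥) (hna : a ∉ (Cfsg.pCore p H).map H.subtype) (T : Sylow 2 H) : ¬ IsMulCommutative T := by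
  intro hT
  have hinv := inv_of_quadratic_not_mem_pCore hp V H hV hHV hf a haH hq hna
  exact sl2free_of_abelian_sylow2 hp (all_sylow_comm T hT) hinv

end Cfsg.Agent.S0595
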