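import Mathlib
import Cfsg.Statements.S0594
import Cfsg.Agent.Lib.Helper1.QuadraticGeneral
import Cfsg.Agent.Lib.Helper7.Frattini

set_option autoImplicit false
open Cfsg

namespace Cfsg.Agent.S0594

open scoped commutatorElement
open Matrix Matrix.SpecialLinearGroup
open scoped MatrixGroups
open Cfsg.Agent.Helper1 Cfsg.Agent.Helper4.SLF Cfsg.Agent.Helper2.SL2S

/-- `SL₂(p)`, `p ≥ 5`, is not involved in a group `Q ⟨a⟩` with `Q` a normal `p'`-subgroup. -/
theorem not_inv_of_cyclic_ext {X : Type*} [Group X] [Finite X] {p : ℕ} [hpp : Fact p.Prime]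
    (hp5 : 5 ≤ p) (Qs : Subgroup X) [hQn : Qs.Normal] (hQ : (Nat.card Qs).Coprime p)
    (hcomm : ∀ x y : X, ⁅x, y⁆ ∈ Qs) : ¬ Inv SL(2, ZMod p) X := by
  rintro ⟨K, f, hf⟩
  have h20 : (2 : ZMod p) ≠ 0 := by
    intro h
    have h1 : ((2 : ℕ) : ZMod p) = 0 := by exact_mod_cast h
    rw [ZMod.natCast_eq_zero_iff] at h1
    have := Nat.le_of_dvd (by norm_num) h1
    omega
  have h41 : (2 : ZMod p) ^ 2 ≠ 1 := by
    intro h
    have h1 : ((3 : ℕ) : ZMod p) = 0 := by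
      have : (2 : ZMod p) ^ 2 - 1 = 0 := by rw [h, sub_self]
      push_cast
      rw [← this]; ring
    rw [ZMod.natCast_eq_zero_iff] at h1
    have := Nat.le_of_dvd (by norm_num) h1
    omega
  have hperf : commutator SL(2, ZMod p) = ⊤ := Matrix.SL2.commutator_eq_top h20 h41
  set D : Subgroup ↥K := Qs.subgroupOf K with hD
  have hle : commutator SL(2, ZMod p) ≤ D.map f := by
    rw [commutator_def, Subgroup.commutator_le]
    intro s _ t _
    obtain ⟨k₁, rfl⟩ := hf s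
    obtain ⟨k₂, rfl⟩ := hf t
    rw [← map_commutatorElement]
    refine ⟨⁅k₁, k₂⁆, ?_, rfl⟩
    rw [SetLike.mem_coe, Subgroup.mem_subgroupOf]
    have : ((⁅k₁, k₂⁆ : ↥K) : X) = ⁅(k₁ : X), (k₂ : X)⁆ := by
      simp [commutatorElement_def]
    rw [this]
    exact hcomm _ _
  rw [hperf] at hle
  have hu : (u (1 : ZMod p) : SL(2, ZMod p)) ∈ D.map f := hle (Subgroup.mem_top _)
  obtain ⟨d, hd, hdu⟩ := hu
  have hu1 : (u (1 : ZMod p) : SL(2, ZMod p)) ≠ 1 := by
    intro h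
    rw [← u_zero] at h
    exact one_ne_zero (u_injective h)
  have hup : (u (1 : ZMod p) : SL(2, ZMod p)) ^ p = 1 := Cfsg.Agent.Helper4.DSL.u_pow_p p 1
  have hord : orderOf (u (1 : ZMod p) : SL(2, ZMod p)) = p := orderOf_eq_prime hup hu1
  have h1 : orderOf (f d) ∣ orderOf d := orderOf_map_dvd f d
  rw [hdu, hord] at h1
  have h2 : orderOf d ∣ Nat.card Qs := by
    have h3 : orderOf (⟨(d : X), Subgroup.mem_subgroupOf.mp hd⟩ : ↥Qs) ∣ Nat.card Qs :=
      orderOf_dvd_natCard _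
    rwa [Subgroup.orderOf_mk, Subgroup.orderOf_coe] at h3
  have h3 := Nat.Coprime.eq_one_of_dvd hQ.symm (h1.trans h2)
  exact hpp.out.ne_one h3

/-- For odd p, two quadratic generators of a faithful group that is not a p-group, one of which acts nontrivially on a normal subgroup of order prime to p, force p = 3 and a section isomorphic to SL(2,3). -/
theorem result {G : Type*} [Group G] [Finite G] {p : ℕ} [Fact p.Prime] (hp : p ≠ 2) (V H : Subgroup G) (hV : Cfsg.IsElementaryAbelian p V) (hHV : H ≤ Subgroup.normalizer (V : Set G)) (hf : H ⊓ Subgroup.centralizer (V : Set G) = ⊥) (a b : G) (hab : H = Subgroup.closure {a, b}) (ha : ⁅⁅V, Subgroup.zpowers a⁆, Subgroup.zpowers a⁆ = ⊥) (hb : ⁅⁅V, Subgroup.zpowers b⁆, Subgroup.zpowers b⁆ = ⊥) (hnp : ¬ IsPGroup p H) (Q : Subgroup G) (hQH : Q ≤ H) (hQn : H ≤ Subgroup.normalizer (Q : Set G)) (hQ : (Nat.card Q).Coprime p) (hQa : ⁅Q, Subgroup.zpowers a⁆ ≠ ⊥) : p = 3 ∧ ∃ (K L : Subgroup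 G) (hL : (L.subgroupOf K).Normal), K ≤ H ∧ Nonempty ((K ⧸ L.subgroupOf K) ≃* Matrix.SpecialLinearGroup (Fin 2) (ZMod 3)) := by
  have hpp : p.Prime := Fact.out
  have haH : a ∈ H := by rw [hab]; exact Subgroup.subset_closure (by simp)
  set H₀ : Subgroup G := Q ⊔ Subgroup.zpowers a with hH₀
  have hzH : Subgroup.zpowers a ≤ H := Subgroup.zpowers_le.mpr haH
  have hH₀H : H₀ ≤ H := sup_le hQH hzH
  have hQH₀ : Q ≤ H₀ := le_sup_left
  have haH₀ : a ∈ H₀ := (le_sup_right : Subgroup.zpowers a ≤ H₀) (Subgroup.mem_zpowers a)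
  have hH₀V : H₀ ≤ Subgroup.normalizer (V : Set G) := hH₀H.trans hHV
  have hf₀ : H₀ ⊓ Subgroup.centralizer (V : Set G) = ⊥ := by
    rw [eq_bot_iff, ← hf]
    exact inf_le_inf_right _ hH₀H
  -- `a ∉ O_p(H₀)`
  have hna : a ∉ (Cfsg.pCore p H₀).map H₀.subtype := by
    intro haO
    apply hQa
    set O : Subgroup G := (Cfsg.pCore p H₀).map H₀.subtype with hO
    have hOp : IsPGroup p O := (Cfsg.Agent.Helper10.pCore_isPGroup p).map _
    have hOn : ∀ x ∈ H₀, ∀ o ∈ O, x * o * x⁻¹ ∈ O := by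
      rintro x hx _ ⟨o, ho, rfl⟩
      have hn : (Cfsg.pCore p ↥H₀).Normal := inferInstance
      exact ⟨⟨x, hx⟩ * o * ⟨x, hx⟩⁻¹, hn.conj_mem o ho ⟨x, hx⟩, rfl⟩
    have hQO : O ⊓ Q = ⊥ := Cfsg.Agent.Helper7.inf_eq_bot_of_isPGroup_of_coprime hOp hQ
    rw [Subgroup.commutator_eq_bot_iff_le_centralizer]
    intro q hq
    have hqa : q * a = a * q := by
      have h1 : q * a * q⁻¹ * a⁻¹ ∈ O ⊓ Q := by
        refine Subgroup.mem_inf.mpr ⟨O.mul_mem (hOn q (hQH₀ hq) a haO) (O.inv_mem haO), ?_⟩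
        have h2 : a * q⁻¹ * a⁻¹ ∈ Q :=
          (Subgroup.mem_normalizer_iff.mp (hQn haH) q⁻¹).mp (Q.inv_mem hq)
        have h3 : q * a * q⁻¹ * a⁻¹ = q * (a * q⁻¹ * a⁻¹) := by group
        rw [h3]
        exact Q.mul_mem hq h2
      rw [hQO, Subgroup.mem_bot] at h1
      calc q * a = (q * a * q⁻¹ * a⁻¹) * (a * q) := by group
        _ = a * q := by rw [h1, one_mul]
    rw [Subgroup.mem_centralizer_iff]
    intro z hz
    obtain ⟨k, rfl⟩ := Subgroup.mem_zpowers_iff.mp hz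
    have hc : Commute q a := hqa
    exact (hc.zpow_right k).eq.symm
  have hinv := inv_of_quadratic_not_mem_pCore hp V H₀ hV hH₀V hf₀ a haH₀ ha hna
  have hp3 : p = 3 := by
    by_contra hne
    have hp5 : 5 ≤ p := by
      have h2 := hpp.two_le
      rcases Nat.lt_or_ge p 5 with h | h
      · interval_cases p
        · exact absurd rfl hp
        · exact absurd rfl hne
        · exact absurd hpp (by norm_num)
      · exact h
    have hQsn : (Q.subgroupOf H₀).Normal :=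
      (Subgroup.normal_subgroupOf_iff_le_normalizer hQH₀).mpr (hH₀H.trans hQn)
    have hcard : (Nat.card (Q.subgroupOf H₀)).Coprime p := by
      rw [Nat.card_congr (Subgroup.subgroupOfEquivOfLe hQH₀).toEquiv]
      exact hQ
    refine not_inv_of_cyclic_ext hp5 (Q.subgroupOf H₀) hcard ?_ hinv
    -- `H₀ / Q` is commutative
    have hrep : ∀ x : ↥H₀, ∃ z : ↥H₀, (z : G) ∈ Subgroup.zpowers a ∧
        (QuotientGroup.mk x : ↥H₀ ⧸ Q.subgroupOf H₀) = QuotientGroup.mk z := by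
      intro x
      have hx : (x : G) ∈ ((Q ⊔ Subgroup.zpowers a : Subgroup G) : Set G) := x.2
      rw [Subgroup.coe_mul_of_right_le_normalizer_left Q (Subgroup.zpowers a)
        (hzH.trans hQn)] at hx
      obtain ⟨q, hq, z, hz, hqz⟩ := Set.mem_mul.mp hx
      refine ⟨⟨z, (le_sup_right : Subgroup.zpowers a ≤ H₀) hz⟩, hz, ?_⟩
      rw [QuotientGroup.eq]
      rw [Subgroup.mem_subgroupOf]
      have : ((x⁻¹ * ⟨z, (le_sup_right : Subgroup.zpowers a ≤ H₀) hz⟩ : ↥H₀) : G) =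
          z⁻¹ * q⁻¹ * z := by
        simp only [Subgroup.coe_mul, Subgroup.coe_inv]
        rw [← hqz]; group
      rw [this]
      have hzN := hQn (hzH hz)
      have := (Subgroup.mem_normalizer_iff.mp (Subgroup.inv_mem _ hzN) q⁻¹).mp (Q.inv_mem hq)
      simpa using this
    intro x y
    obtain ⟨z₁, hz₁, hx⟩ := hrep x
    obtain ⟨z₂, hz₂, hy⟩ := hrep y
    rw [← QuotientGroup.eq_one_iff, commutatorElement_def]
    simp only [QuotientGroup.mk_mul, QuotientGroup.mk_inv]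
    rw [hx, hy]
    have hcz : z₁ * z₂ = z₂ * z₁ := by
      apply Subtype.ext
      obtain ⟨k₁, hk₁⟩ := Subgroup.mem_zpowers_iff.mp hz₁
      obtain ⟨k₂, hk₂⟩ := Subgroup.mem_zpowers_iff.mp hz₂
      simp only [Subgroup.coe_mul]
      rw [← hk₁, ← hk₂, ← _root_.zpow_add, ← _root_.zpow_add, add_comm]
    have hc : Commute (QuotientGroup.mk z₁ : ↥H₀ ⧸ Q.subgroupOf H₀) (QuotientGroup.mk z₂) := by
      show (QuotientGroup.mk z₁ : ↥H₀ ⧸ Q.subgroupOf H₀) * QuotientGroup.mk z₂ =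
        QuotientGroup.mk z₂ * QuotientGroup.mk z₁
      rw [← QuotientGroup.mk_mul, ← QuotientGroup.mk_mul, hcz]
    rw [hc.eq]; group
  subst hp3
  obtain ⟨K, L, hL, hK, e⟩ := exists_section_le_of_inv H₀ hinv
  exact ⟨rfl, K, L, hL, hK.trans hH₀H, e⟩

end Cfsg.Agent.S0594
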