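import Mathlib
import Cfsg.Statements.S0597
import Cfsg.Agent.Lib.Helper3.Subnormal
import Cfsg.Agent.Lib.Helper9.PCoreSub

set_option autoImplicit false
open Cfsg
open scoped commutatorElement

namespace Cfsg.Agent.S0597

/-- If two subnormal subgroups of a faithful group on an elementary abelian p-group satisfy [V, E₁, E₂] = 1, then their commutator lies in the largest normal p-subgroup. -/
theorem result {G : Type*} [Group G] [Finite G] {p : ℕ} [Fact p.Prime] (V H : Subgroup G) (hV : Cfsg.IsElementaryAbelian p V) (hHV : H ≤ Subgroup.normalizer (V : Set G)) (hf : H ⊓ Subgroup.centralizer (V : Set G) = ⊥) (E₁ E₂ : Subgroup G) (h₁ : E₁ ≤ H) (h₂ : E₂ ≤ H) (hs₁ : (E₁.subgroupOf H).IsSubnormal) (hs₂ : (E₂.subgroupOf H).IsSubnormal) (hc : ⁅⁅V, E₁⁆, E₂⁆ = ⊥) : ⁅E₁, E₂⁆ ≤ (Cfsg.pCore p H).map H.subtype := by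
  classical
  set W := ⁅V, E₁⁆ with hW
  have hVcomm : ∀ a ∈ V, ∀ b ∈ V, a * b = b * a := by
    intro a ha b hb
    have := hV.1.is_comm.comm (⟨a, ha⟩ : V) ⟨b, hb⟩
    exact congrArg Subtype.val this
  have hE1V : E₁ ≤ Subgroup.normalizer (V : Set G) := h₁.trans hHV
  have hE2V : E₂ ≤ Subgroup.normalizer (V : Set G) := h₂.trans hHV
  have hWV : W ≤ V := Subgroup.le_normalizer_iff_commutator_le_left.mp hE1V
  have hE1W : E₁ ≤ Subgroup.normalizer (W : Set G) :=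
    Subgroup.normalizer_commutator_ge_right _ _
  have hWE2 : W ≤ Subgroup.centralizer (E₂ : Set G) :=
    Subgroup.commutator_eq_bot_iff_le_centralizer.mp hc
  have hE2W : E₂ ≤ Subgroup.normalizer (W : Set G) := by
    rw [Subgroup.le_normalizer_iff]
    intro e he w hw
    have := hWE2 hw e he
    have h2 : e * w * e⁻¹ = w := by rw [this]; group
    rw [h2]; exact hw
  set E := E₁ ⊔ E₂ with hE
  have hEV : E ≤ Subgroup.normalizer (V : Set G) := sup_le hE1V hE2V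
  have hEW : E ≤ Subgroup.normalizer (W : Set G) := sup_le hE1W hE2W
  have hEH : E ≤ H := sup_le h₁ h₂
  have conjV : ∀ e ∈ E, ∀ v ∈ V, e * v * e⁻¹ ∈ V := Subgroup.le_normalizer_iff.mp hEV
  have conjW : ∀ e ∈ E, ∀ w ∈ W, e * w * e⁻¹ ∈ W := Subgroup.le_normalizer_iff.mp hEW
  let N : Subgroup G :=
    { carrier := {g | g ∈ E ∧ (∀ w ∈ W, g * w = w * g) ∧ ∀ v ∈ V, g * v * g⁻¹ * v⁻¹ ∈ W}
      mul_mem' := by
        rintro g h ⟨hgE, hgW, hgV⟩ ⟨hhE, hhW, hhV⟩
        refine ⟨E.mul_mem hgE hhE, ?_, ?_⟩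
        · intro w hw
          rw [mul_assoc, hhW w hw, ← mul_assoc, hgW w hw, mul_assoc]
        · intro v hv
          have h1 := hhV v hv
          have h2 := hgV v hv
          have h3 : g * h * v * (g * h)⁻¹ * v⁻¹
              = (g * (h * v * h⁻¹ * v⁻¹)) * g⁻¹ * (g * v * g⁻¹ * v⁻¹) := by group
          rw [h3, hgW _ h1]
          have : h * v * h⁻¹ * v⁻¹ * g * g⁻¹ * (g * v * g⁻¹ * v⁻¹)
              = (h * v * h⁻¹ * v⁻¹) * (g * v * g⁻¹ * v⁻¹) := by group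
          rw [this]
          exact W.mul_mem h1 h2
      one_mem' := by
        refine ⟨E.one_mem, ?_, ?_⟩
        · intro w _; simp
        · intro v _; simp
      inv_mem' := by
        rintro g ⟨hgE, hgW, hgV⟩
        refine ⟨E.inv_mem hgE, ?_, ?_⟩
        · intro w hw
          have := hgW w hw
          calc g⁻¹ * w = g⁻¹ * (w * g) * g⁻¹ := by group
            _ = g⁻¹ * (g * w) * g⁻¹ := by rw [this]
            _ = w * g⁻¹ := by group
        · intro v hv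
          have h2 := hgV v hv
          have h3 := hgW _ h2
          have h4 : g⁻¹ * v * g⁻¹⁻¹ * v⁻¹ = g⁻¹ * ((g * v * g⁻¹ * v⁻¹)⁻¹ * g) := by group
          have h5 : (g * v * g⁻¹ * v⁻¹)⁻¹ * g = g * (g * v * g⁻¹ * v⁻¹)⁻¹ := by
            calc (g * v * g⁻¹ * v⁻¹)⁻¹ * g
                = (g * v * g⁻¹ * v⁻¹)⁻¹ * (g * (g * v * g⁻¹ * v⁻¹)) * (g * v * g⁻¹ * v⁻¹)⁻¹ := by
                  group
              _ = (g * v * g⁻¹ * v⁻¹)⁻¹ * ((g * v * g⁻¹ * v⁻¹) * g) * (g * v * g⁻¹ * v⁻¹)⁻¹ := by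
                  rw [h3]
              _ = g * (g * v * g⁻¹ * v⁻¹)⁻¹ := by group
          rw [h4, h5, ← mul_assoc, inv_mul_cancel, one_mul]
          exact W.inv_mem h2 }
  have hNE : N ≤ E := fun g hg => hg.1
  have hNH : N ≤ H := hNE.trans hEH
  -- N is normalized by E
  have hNnorm : ∀ e ∈ E, ∀ g ∈ N, e * g * e⁻¹ ∈ N := by
    rintro e he g ⟨hgE, hgW, hgV⟩
    refine ⟨E.mul_mem (E.mul_mem he hgE) (E.inv_mem he), ?_, ?_⟩
    · intro w hw
      have hw' : e⁻¹ * w * e ∈ W := by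
        have := conjW e⁻¹ (E.inv_mem he) w hw
        simpa using this
      have := hgW _ hw'
      calc e * g * e⁻¹ * w = e * (g * (e⁻¹ * w * e)) * e⁻¹ := by group
        _ = e * ((e⁻¹ * w * e) * g) * e⁻¹ := by rw [this]
        _ = w * (e * g * e⁻¹) := by group
    · intro v hv
      have hv' : e⁻¹ * v * e ∈ V := by
        have := conjV e⁻¹ (E.inv_mem he) v hv
        simpa using this
      have h1 := hgV _ hv'
      have h2 := conjW e he _ h1
      have : e * g * e⁻¹ * v * (e * g * e⁻¹)⁻¹ * v⁻¹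
          = e * (g * (e⁻¹ * v * e) * g⁻¹ * (e⁻¹ * v * e)⁻¹) * e⁻¹ := by group
      rw [this]; exact h2
  -- N has exponent p
  have hNp : ∀ g ∈ N, g ^ p = 1 := by
    rintro g ⟨hgE, hgW, hgV⟩
    have hpow : ∀ n : ℕ, ∀ v ∈ V, g ^ n * v * (g ^ n)⁻¹ = (g * v * g⁻¹ * v⁻¹) ^ n * v := by
      intro n
      induction n with
      | zero => intro v _; simp
      | succ n ih =>
        intro v hv
        have hc1 := hgV v hv
        have hcn : (g * v * g⁻¹ * v⁻¹) ^ n ∈ W := W.pow_mem hc1 n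
        calc g ^ (n + 1) * v * (g ^ (n + 1))⁻¹
            = g * (g ^ n * v * (g ^ n)⁻¹) * g⁻¹ := by rw [pow_succ']; group
          _ = g * ((g * v * g⁻¹ * v⁻¹) ^ n * v) * g⁻¹ := by rw [ih v hv]
          _ = (g * (g * v * g⁻¹ * v⁻¹) ^ n) * v * g⁻¹ := by group
          _ = ((g * v * g⁻¹ * v⁻¹) ^ n * g) * v * g⁻¹ := by rw [hgW _ hcn]
          _ = (g * v * g⁻¹ * v⁻¹) ^ n * (g * v * g⁻¹ * v⁻¹) * v := by group
          _ = (g * v * g⁻¹ * v⁻¹) ^ (n + 1) * v := by rw [pow_succ]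
    have hgp : g ^ p ∈ H ⊓ Subgroup.centralizer (V : Set G) := by
      refine ⟨H.pow_mem (hEH hgE) p, ?_⟩
      intro v hv
      have h1 := hpow p v hv
      rw [hV.2 _ (hWV (hgV v hv)), one_mul] at h1
      calc v * g ^ p = (g ^ p * v * (g ^ p)⁻¹) * g ^ p := by rw [h1]
        _ = g ^ p * v := by group
    rw [hf, Subgroup.mem_bot] at hgp
    exact hgp
  -- commutators land in N
  have hcomm : ⁅E₁, E₂⁆ ≤ N := by
    rw [Subgroup.commutator_le]
    intro e1 he1 e2 he2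
    have he1E : e1 ∈ E := (le_sup_left : E₁ ≤ E) he1
    have he2E : e2 ∈ E := (le_sup_right : E₂ ≤ E) he2
    rw [commutatorElement_def]
    have hcE2 : ∀ e ∈ E₂, ∀ w ∈ W, e * w = w * e := by
      intro e he w hw
      exact (hWE2 hw e he)
    refine ⟨E.mul_mem (E.mul_mem (E.mul_mem he1E he2E) (E.inv_mem he1E)) (E.inv_mem he2E), ?_, ?_⟩
    · intro w hw
      have hw1 : e1⁻¹ * w * e1 ∈ W := by
        have := conjW e1⁻¹ (E.inv_mem he1E) w hw
        simpa using this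
      have ha := hcE2 e2 he2 _ hw1
      have hb := hcE2 e2⁻¹ (E₂.inv_mem he2) w hw
      calc e1 * e2 * e1⁻¹ * e2⁻¹ * w = e1 * e2 * e1⁻¹ * (e2⁻¹ * w) := by group
        _ = e1 * e2 * e1⁻¹ * (w * e2⁻¹) := by rw [hb]
        _ = e1 * (e2 * (e1⁻¹ * w * e1)) * e1⁻¹ * e2⁻¹ := by group
        _ = e1 * ((e1⁻¹ * w * e1) * e2) * e1⁻¹ * e2⁻¹ := by rw [ha]
        _ = w * (e1 * e2 * e1⁻¹ * e2⁻¹) := by group
    · -- E₁ acts trivially on V / W
      have hE1triv : ∀ e ∈ E₁, ∀ v ∈ V, e * v * e⁻¹ * v⁻¹ ∈ W := by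
        intro e he v hv
        have : ⁅e, v⁆ ∈ ⁅E₁, V⁆ := Subgroup.commutator_mem_commutator he hv
        rw [Subgroup.commutator_comm] at this
        rwa [commutatorElement_def] at this
      intro v hv
      -- c = e1 * (e2 * e1⁻¹ * e2⁻¹)
      have hv2 : e2⁻¹ * v * e2 ∈ V := by
        have := conjV e2⁻¹ (E.inv_mem he2E) v hv
        simpa using this
      have h1 := hE1triv e1⁻¹ (E₁.inv_mem he1) _ hv2
      have h2 := conjW e2 he2E _ h1
      -- h2 : e2 * (e1⁻¹ * (e2⁻¹ v e2) * e1 * (e2⁻¹ v e2)⁻¹) * e2⁻¹ ∈ W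
      set u := e2 * e1⁻¹ * e2⁻¹ with hu
      have hu1 : u * v * u⁻¹ * v⁻¹ ∈ W := by
        have : u * v * u⁻¹ * v⁻¹
            = e2 * (e1⁻¹ * (e2⁻¹ * v * e2) * e1⁻¹⁻¹ * (e2⁻¹ * v * e2)⁻¹) * e2⁻¹ := by
          rw [hu]; group
        rw [this]; exact h2
      have huV : u * v * u⁻¹ ∈ V := by
        have huE : u ∈ E := E.mul_mem (E.mul_mem he2E (E.inv_mem he1E)) (E.inv_mem he2E)
        exact conjV u huE v hv
      have h3 := hE1triv e1 he1 _ huV
      have h4 := conjW e1 he1E _ hu1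
      have : e1 * e2 * e1⁻¹ * e2⁻¹ * v * (e1 * e2 * e1⁻¹ * e2⁻¹)⁻¹ * v⁻¹
          = (e1 * (u * v * u⁻¹) * e1⁻¹ * (u * v * u⁻¹)⁻¹) * (u * v * u⁻¹ * v⁻¹) := by
        rw [hu]; group
      rw [this]
      exact W.mul_mem h3 hu1
  -- N is a subnormal p-subgroup of H
  have hE' : (E.subgroupOf H).IsSubnormal := by
    rw [hE, Subgroup.subgroupOf_sup h₁ h₂]
    exact Helper3.isSubnormal_sup hs₁ hs₂
  have hN'le : N.subgroupOf H ≤ E.subgroupOf H := by
    intro x hx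
    exact hNE hx
  have hN'n : ((N.subgroupOf H).subgroupOf (E.subgroupOf H)).Normal := by
    refine ⟨fun n hn e => ?_⟩
    exact hNnorm _ e.2 _ hn
  have hN'sub : (N.subgroupOf H).IsSubnormal :=
    Subgroup.IsSubnormal.step _ _ hN'le hE' hN'n
  have hN'p : IsPGroup p (N.subgroupOf H) := by
    rintro ⟨x, hx⟩
    refine ⟨1, ?_⟩
    apply Subtype.ext
    apply Subtype.ext
    have := hNp _ hx
    simpa using this
  have hfin := Helper9.subnormal_pGroup_le_pCore p (N.subgroupOf H) hN'sub hN'p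
  intro x hx
  have hxN := hcomm hx
  exact ⟨⟨x, hNH hxN⟩, hfin hxN, rfl⟩

end Cfsg.Agent.S0597
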