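import Mathlib
import Cfsg.Statements.S0598
import Cfsg.Agent.Lib.Helper27.Timmesfeld
import Cfsg.Agent.Lib.Helper3.Thompson

set_option autoImplicit false
open Cfsg
open scoped commutatorElement

namespace Cfsg.Agent.S0598

open Cfsg.Agent.Helper27

/-- Thompson's replacement dichotomy: for A acting with abelian image on an elementary abelian p-group V and U ≤ V, either some subgroup of A increases the product of its order with the order of its fixed points, or C_A([U,A]) preserves that product and has fixed points exactly [U,A]C_V(A). -/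
theorem result {G : Type*} [Group G] [Finite G] {p : ℕ} [Fact p.Prime] (V A : Subgroup G) (hV : Cfsg.IsElementaryAbelian p V) (hAV : A ≤ Subgroup.normalizer (V : Set G)) (hab : ⁅A, A⁆ ≤ Subgroup.centralizer (V : Set G)) (U : Subgroup G) (hU : U ≤ V) : ∃ B : Subgroup G, B ≤ A ∧ ((Nat.card A * Nat.card ↥(V ⊓ Subgroup.centralizer (A : Set G)) < Nat.card B * Nat.card ↥(V ⊓ Subgroup.centralizer (B : Set G))) ∨ (B = A ⊓ Subgroup.centralizer ((⁅U, A⁆ : Subgroup G) : Set G) ∧ (V ⊓ Subgroup.centralizer (B : Set G)) = ⁅U, A⁆ ⊔ (V ⊓ Subgroup.centralizer (A : Set G)) ∧ Nat.card A * Nat.card ↥(V ⊓ Subgroup.centralizer (A : Set G)) = Nat.card B * Nat.card ↥(V ⊓ Subgroup.centralizer (B : Set G)))) := by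
  classical
  by_cases hex : ∃ B : Subgroup G, B ≤ A ∧
      Nat.card A * Nat.card ↥(V ⊓ Subgroup.centralizer (A : Set G)) <
        Nat.card B * Nat.card ↥(V ⊓ Subgroup.centralizer (B : Set G))
  · obtain ⟨B, hBA, hlt⟩ := hex
    exact ⟨B, hBA, Or.inl hlt⟩
  have hbest : ∀ B : Subgroup G, B ≤ A →
      Nat.card B * Nat.card (cv V B) ≤ Nat.card A * Nat.card (cv V A) := by
    intro B hBA
    by_contra hlt
    exact hex ⟨B, hBA, not_le.mp hlt⟩
  have hcomm : ∀ x ∈ V, ∀ y ∈ V, x * y = y * x := fun x hx y hy =>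
    Helper3.IsElementaryAbelian.commute hV hx hy
  have h : TimHyp V A := ⟨hcomm, hAV, hab, hbest⟩
  set X := ⁅U, A⁆ with hX
  set A₀ := A ⊓ Subgroup.centralizer (X : Set G) with hA₀
  set C := V ⊓ Subgroup.centralizer (A : Set G) with hC
  have hgood : Nat.card A * Nat.card C ≤ Nat.card A₀ * Nat.card (X ⊔ C : Subgroup G) :=
    h.good_commutator hU
  have hXV : X ≤ V := by
    refine (Subgroup.commutator_mono hU le_rfl).trans ?_
    exact Subgroup.le_normalizer_iff_commutator_le_left.mp hAV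
  have hA₀A : A₀ ≤ A := inf_le_left
  have hle : X ⊔ C ≤ V ⊓ Subgroup.centralizer (A₀ : Set G) := by
    apply sup_le
    · apply le_inf hXV
      rw [Subgroup.le_centralizer_iff]
      exact inf_le_right
    · exact le_inf inf_le_left
        (inf_le_right.trans (Subgroup.centralizer_le (SetLike.coe_subset_coe.mpr hA₀A)))
  have hb0 := hbest A₀ hA₀A
  have hA₀pos : 0 < Nat.card A₀ := Nat.card_pos
  have hcard : Nat.card (V ⊓ Subgroup.centralizer (A₀ : Set G) : Subgroup G) ≤
      Nat.card (X ⊔ C : Subgroup G) :=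
    Nat.le_of_mul_le_mul_left (hb0.trans hgood) hA₀pos
  have heq : V ⊓ Subgroup.centralizer (A₀ : Set G) = X ⊔ C :=
    (Subgroup.eq_of_le_of_card_ge hle hcard).symm
  refine ⟨A₀, hA₀A, Or.inr ⟨rfl, heq, ?_⟩⟩
  apply le_antisymm
  · rw [heq]; exact hgood
  · exact hb0

end Cfsg.Agent.S0598
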