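import Mathlib
import Cfsg.Statements.S0603
import Cfsg.Agent.Lib.Helper3.Thompson

set_option autoImplicit false
open Cfsg

namespace Cfsg.Agent.S0603

open Cfsg.Agent.Helper3

theorem result {G : Type*} [Group G] [Finite G] {p : ℕ} [Fact p.Prime] (U : Subgroup G) (hU : Cfsg.thompsonSubgroup p G ≤ U) : Cfsg.thompsonSubgroupOf p U = Cfsg.thompsonSubgroup p G :=
  thompsonSubgroupOf_eq_of_le (fun _ hA => (le_thompsonSubgroup hA).trans hU)

end Cfsg.Agent.S0603
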