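import Mathlib
import Cfsg.Statements.S0609
import Cfsg.Agent.Lib.Helper27.ThompsonQuot
import Cfsg.Agent.Lib.Helper7.Frattini
import Cfsg.Agent.Lib.Helper9.PPrimeCoreSub
import Cfsg.Agent.Lib.Helper22.PPrimeCore

set_option autoImplicit false
open Cfsg

namespace Cfsg.Agent.S0609

theorem omegaOne_isPGroup {G : Type*} [Group G] {p : ℕ} (U : Subgroup G) (hU : IsPGroup p U) :
    IsPGroup p (Cfsg.omegaOne p (U ⊓ Subgroup.centralizer (U : Set G))) := by
  apply hU.to_le
  unfold Cfsg.omegaOne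
  rw [Subgroup.closure_le]
  intro x hx
  exact hx.1.1

/-- Thompson factorizability passes to and from the quotient by the largest normal subgroup of order prime to p. -/
theorem result {G : Type*} [Group G] [Finite G] {p : ℕ} [Fact p.Prime] : Cfsg.IsThompsonFactorizable p G ↔ Cfsg.IsThompsonFactorizable p (G ⧸ Cfsg.pPrimeCore p G) := by
  classical
  set N := Cfsg.pPrimeCore p G with hN
  have hNcop : (Nat.card N).Coprime p := Helper22.card_pPrimeCore_coprime p
  have hπ : Function.Surjective (QuotientGroup.mk' N) := QuotientGroup.mk'_surjective N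
  have hbot : Cfsg.pPrimeCore p (G ⧸ N) = ⊥ := Helper9.pPrimeCore_quotient_eq_bot p
  have hinj : ∀ S : Sylow p G, ∀ x ∈ (S : Subgroup G), QuotientGroup.mk' N x = 1 → x = 1 := by
    intro S x hx h1
    have hxN : x ∈ N := (QuotientGroup.eq_one_iff x).mp h1
    have : x ∈ (S : Subgroup G) ⊓ N := ⟨hx, hxN⟩
    rw [Helper7.inf_eq_bot_of_isPGroup_of_coprime S.2 hNcop, Subgroup.mem_bot] at this
    exact this
  have hZ : ∀ S : Sylow p G,
      (Cfsg.omegaOne p ((S : Subgroup G) ⊓ Subgroup.centralizer ((S : Subgroup G) : Set G))).map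
        (QuotientGroup.mk' N) =
      Cfsg.omegaOne p ((S : Subgroup G).map (QuotientGroup.mk' N) ⊓
        Subgroup.centralizer (((S : Subgroup G).map (QuotientGroup.mk' N) : Subgroup (G ⧸ N)) :
          Set (G ⧸ N))) :=
    fun S => Helper27.map_omegaOne_center _ _ (hinj S) p
  have hJ : ∀ S : Sylow p G,
      (Cfsg.thompsonSubgroupOf p (S : Subgroup G)).map (QuotientGroup.mk' N) =
        Cfsg.thompsonSubgroupOf p ((S : Subgroup G).map (QuotientGroup.mk' N)) :=
    fun S => Helper27.map_thompsonSubgroupOf _ _ (hinj S) p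
  constructor
  · intro hTF S' g'
    obtain ⟨S, rfl⟩ := Sylow.mapSurjective_surjective hπ p S'
    obtain ⟨g, rfl⟩ := hπ g'
    obtain ⟨x, hx, c, hc, n, hn, rfl⟩ := hTF S g
    rw [Sylow.coe_mapSurjective, ← hZ S, ← hJ S]
    refine ⟨1, Subgroup.one_mem _, QuotientGroup.mk' N c, ?_, QuotientGroup.mk' N n, ?_, ?_⟩
    · rintro _ ⟨z, hz, rfl⟩
      rw [← map_mul, ← map_mul, hc z hz]
    · exact Subgroup.le_normalizer_map _ ⟨n, hn, rfl⟩
    · have hx1 : QuotientGroup.mk' N x = 1 := (QuotientGroup.eq_one_iff x).mpr hx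
      rw [map_mul, map_mul, hx1]
  · intro hTF S g
    obtain ⟨x', hx', c', hc', n', hn', hg'⟩ := hTF (S.mapSurjective hπ) (QuotientGroup.mk' N g)
    rw [hbot, Subgroup.mem_bot] at hx'
    rw [Sylow.coe_mapSurjective, ← hZ S] at hc'
    rw [Sylow.coe_mapSurjective, ← hJ S] at hn'
    have hZp := omegaOne_isPGroup (S : Subgroup G) S.2
    have hJp : IsPGroup p (Cfsg.thompsonSubgroupOf p (S : Subgroup G)) :=
      S.2.to_le (Subgroup.map_subtype_le _)
    have hc'' : c' ∈ (Subgroup.centralizer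
        ((Cfsg.omegaOne p ((S : Subgroup G) ⊓ Subgroup.centralizer ((S : Subgroup G) : Set G)) :
          Subgroup G) : Set G)).map (QuotientGroup.mk' N) := by
      rw [← Helper7.centralizer_map_mk'_eq hZp hNcop]
      exact hc'
    have hn'' : n' ∈ (Subgroup.normalizer
        ((Cfsg.thompsonSubgroupOf p (S : Subgroup G) : Subgroup G) : Set G)).map
          (QuotientGroup.mk' N) := by
      rw [← Helper7.normalizer_map_mk'_eq hJp hNcop]
      exact hn'
    obtain ⟨c, hc, rfl⟩ := hc''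
    obtain ⟨n, hn, rfl⟩ := hn''
    refine ⟨g * (c * n)⁻¹, ?_, c, hc, n, hn, by group⟩
    rw [← QuotientGroup.eq_one_iff, ← QuotientGroup.mk'_apply, map_mul, hg', hx', one_mul,
      map_inv, map_mul, mul_inv_cancel]

end Cfsg.Agent.S0609
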