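import Mathlib
import Cfsg.Statements.S0620
import Cfsg.Agent.Lib.Helper4.CoprimeOp5
import Cfsg.Agent.Lib.Helper4.CoprimeOp6
-- import your own Cfsg.Agent.* helpers here

set_option autoImplicit false
open Cfsg

namespace Cfsg.Agent.S0620

/-- Under coprime action of an elementary abelian q-group X on a p-separable group K with trivial p'-core, K is generated by the normalizer of J(S), the centralizer of Ω₁(Z(S)) and the fixed points of X. -/
theorem result {G : Type*} [Group G] [Finite G] {p : ℕ} [Fact p.Prime] {q : ℕ} [Fact q.Prime] (K X : Subgroup G) (hXK : X ≤ Subgroup.normalizer (K : Set G)) (hX : Cfsg.IsElementaryAbelian q X) (hq : ¬ q ∣ Nat.card K) (hsep : Cfsg.IsPSolvable p ↥K) (hO : Cfsg.pPrimeCore p ↥K = ⊥) (S : Sylow p ↥K) : (Subgroup.normalizer (Cfsg.thompsonSubgroupOf p (S : Subgroup ↥K) : Set ↥K) ⊔ Subgroup.centralizer (Cfsg.omegaOne p ((S : Subgroup ↥K) ⊓ Subgroup.centralizer ((S : Subgroup ↥K) : Set ↥K)) : Set ↥K) ⊔ (Subgroup.centralizer (X : Set G)).subgroupOf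 K) = ⊤ := by
  classical
  haveI : Finite ↥K := inferInstance
  haveI : Finite ↥(K ⊔ X) := inferInstance
  have h := Cfsg.Agent.Helper4.COP.generation (Cfsg.Agent.Helper4.COP.incl K X)
      (Cfsg.Agent.Helper4.COP.incl_injective K X)
      (Cfsg.Agent.Helper4.COP.incl_range_normal K X hXK) (X.subgroupOf (K ⊔ X))
      (Cfsg.Agent.Helper4.COP.isPGroup_of_isElementaryAbelian K X hX) hq hsep hO S
  have he : (Subgroup.centralizer ((X.subgroupOf (K ⊔ X) : Subgroup ↥(K ⊔ X)) :
      Set ↥(K ⊔ X))).comap (Cfsg.Agent.Helper4.COP.incl K X) =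
      (Subgroup.centralizer (X : Set G)).subgroupOf K := by
    ext k
    rw [Subgroup.mem_comap, Cfsg.Agent.Helper4.COP.mem_centralizer_subgroupOf,
      Subgroup.mem_subgroupOf, Cfsg.Agent.Helper4.COP.coe_incl]
  rw [he] at h
  exact h

end Cfsg.Agent.S0620
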