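import Mathlib
import Cfsg.Statements.S0621
import Cfsg.Agent.Lib.Helper4.CoprimeOp5
-- import your own Cfsg.Agent.* helpers here

set_option autoImplicit false
open Cfsg

namespace Cfsg.Agent.S0621

/-- Let K be p-separable with O_p'(K) = 1, normalized by an elementary abelian q-group X for a prime q not dividing the order of K. If the Thompson factorization fails in K, then p is 2 or 3 and the fixed points of X contain a plane W of order p² and a subgroup inducing SL(2, p) on it. -/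
theorem result {G : Type*} [Group G] [Finite G] {p : ℕ} [Fact p.Prime] {q : ℕ} [Fact q.Prime] (K X : Subgroup G) (hXK : X ≤ Subgroup.normalizer (K : Set G)) (hX : Cfsg.IsElementaryAbelian q X) (hq : ¬ q ∣ Nat.card K) (hsep : Cfsg.IsPSolvable p ↥K) (hO : Cfsg.pPrimeCore p ↥K = ⊥) (hnf : ¬ Cfsg.IsThompsonFactorizable p ↥K) : (p = 2 ∨ p = 3) ∧ ∃ W D : Subgroup G, W ≤ K ⊓ Subgroup.centralizer (X : Set G) ∧ D ≤ K ⊓ Subgroup.centralizer (X : Set G) ∧ Cfsg.IsElementaryAbelian p W ∧ Nat.card W = p ^ 2 ∧ D ≤ Subgroup.normalizer (W : Set G) ∧ ∃ hn : ((Subgroup.centralizer (W : Set G)).subgroupOf D).Normal, Nonempty ((↥D ⧸ (Subgroup.centralizer (W : Set G)).subgroupOf D) ≃* Matrix.SpecialLinearGroup (Fin 2) (ZMod p)) := by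
  classical
  haveI : Finite ↥K := inferInstance
  haveI : Finite ↥(K ⊔ X) := inferInstance
  obtain ⟨hp23, W', D', hW', hD', hW'e, hW'c, hD'N, f, hfs, hfk⟩ :=
    Cfsg.Agent.Helper4.COP.exists_sl2_fixed (Cfsg.Agent.Helper4.COP.incl K X)
      (Cfsg.Agent.Helper4.COP.incl_injective K X)
      (Cfsg.Agent.Helper4.COP.incl_range_normal K X hXK) (X.subgroupOf (K ⊔ X))
      (Cfsg.Agent.Helper4.COP.isPGroup_of_isElementaryAbelian K X hX) hq hsep hO hnf
  refine ⟨hp23, W'.map (K ⊔ X).subtype, D'.map (K ⊔ X).subtype, ?_, ?_, ?_, ?_, ?_, ?_⟩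
  · rintro _ ⟨w, hw, rfl⟩
    have := hW' hw
    exact Subgroup.mem_inf.mpr ⟨(Cfsg.Agent.Helper4.COP.mem_range_incl K X w).mp this.1,
      (Cfsg.Agent.Helper4.COP.mem_centralizer_subgroupOf K X w).mp this.2⟩
  · rintro _ ⟨d, hd, rfl⟩
    have := hD' hd
    exact Subgroup.mem_inf.mpr ⟨(Cfsg.Agent.Helper4.COP.mem_range_incl K X d).mp this.1,
      (Cfsg.Agent.Helper4.COP.mem_centralizer_subgroupOf K X d).mp this.2⟩
  · exact Cfsg.Agent.Helper4.COP.isElementaryAbelian_map _ hW'e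
  · rw [Subgroup.card_map_of_injective (K ⊔ X).subtype_injective, hW'c]
  · apply Cfsg.Agent.Helper4.SNP.le_normalizer_of_forall_conj_mem
    rintro _ ⟨d, hd, rfl⟩ _ ⟨w, hw, rfl⟩
    exact ⟨d * w * d⁻¹, (Subgroup.mem_normalizer_iff.mp (hD'N hd) w).mp hw, rfl⟩
  · -- the quotient
    obtain ⟨e, he⟩ : ∃ e : ↥D' ≃* ↥(D'.map (K ⊔ X).subtype),
        ∀ d : ↥D', ((e d : ↥(D'.map (K ⊔ X).subtype)) : G) = ((d : ↥(K ⊔ X)) : G) :=
      ⟨D'.equivMapOfInjective _ (K ⊔ X).subtype_injective, fun d => rfl⟩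
    have hcent : ∀ y : ↥(K ⊔ X), y ∈ Subgroup.centralizer (W' : Set ↥(K ⊔ X)) ↔
        (y : G) ∈ Subgroup.centralizer ((W'.map (K ⊔ X).subtype : Subgroup G) : Set G) := by
      intro y
      rw [Subgroup.mem_centralizer_iff, Subgroup.mem_centralizer_iff]
      constructor
      · rintro h _ ⟨w, hw, rfl⟩
        exact congrArg Subtype.val (h w hw)
      · intro h w hw
        apply Subtype.ext
        exact h (w : G) ⟨w, hw, rfl⟩
    have hker : (f.comp e.symm.toMonoidHom).ker =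
        (Subgroup.centralizer ((W'.map (K ⊔ X).subtype : Subgroup G) : Set G)).subgroupOf
          (D'.map (K ⊔ X).subtype) := by
      ext d
      rw [MonoidHom.mem_ker, MonoidHom.comp_apply, ← MonoidHom.mem_ker, hfk,
        Subgroup.mem_subgroupOf, Subgroup.mem_subgroupOf, hcent]
      have h1 := he (e.symm d)
      rw [MulEquiv.apply_symm_apply] at h1
      show (((e.symm d : ↥D') : ↥(K ⊔ X)) : G) ∈ _ ↔ _
      rw [← h1]
    have hsurj : Function.Surjective (f.comp e.symm.toMonoidHom) :=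
      hfs.comp e.symm.surjective
    have hn : ((Subgroup.centralizer ((W'.map (K ⊔ X).subtype : Subgroup G) : Set G)).subgroupOf
        (D'.map (K ⊔ X).subtype)).Normal := by
      rw [← hker]; infer_instance
    exact ⟨hn, ⟨(QuotientGroup.quotientMulEquivOfEq hker).symm.trans
      (QuotientGroup.quotientKerEquivOfSurjective _ hsurj)⟩⟩

end Cfsg.Agent.S0621
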