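import Mathlib
import Cfsg.Statements.S0629
import Cfsg.Agent.Lib.Helper23.PConstrained

set_option autoImplicit false
open Cfsg

namespace Cfsg.Agent.S0629

/-- A group in which the centralizer of a Sylow p-subgroup of O_{p',p}(G) is p-solvable is p-constrained. -/
theorem result {G : Type*} [Group G] [Finite G] {p : ℕ} [Fact p.Prime] (P : Sylow p ↥(Cfsg.pPrimePCore p G)) (hsol : Cfsg.IsPSolvable p ↥(Subgroup.centralizer (((P : Subgroup ↥(Cfsg.pPrimePCore p G)).map (Cfsg.pPrimePCore p G).subtype : Subgroup G) : Set G))) : Cfsg.IsPConstrained p G := by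
  classical
  haveI hKn : (pPrimeCore p G).Normal := Cfsg.Agent.Helper22.pPrimeCore_normal p
  haveI : (pCore p (G ⧸ pPrimeCore p G)).Normal := Cfsg.Agent.Helper10.pCore_normal p
  haveI hLn : (pPrimePCore p G).Normal := by
    unfold pPrimePCore; exact Subgroup.Normal.comap inferInstance _
  have hidx : ¬ p ∣ ((P : Subgroup ↥(pPrimePCore p G)).map (pPrimePCore p G).subtype).relIndex
      (pPrimePCore p G) := by
    rw [Subgroup.relIndex, Subgroup.subgroupOf,
      Subgroup.comap_map_eq_self_of_injective (pPrimePCore p G).subtype_injective]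
    exact P.not_dvd_index
  have hP := Cfsg.Agent.Helper23.PSolv.centralizer_le_pPrimePCore
    ((P : Subgroup ↥(pPrimePCore p G)).map (pPrimePCore p G).subtype)
    (Subgroup.map_subtype_le _) hidx (Sylow.normalizer_sup_eq_top P) hsol
  intro P'
  obtain ⟨l, hl⟩ := MulAction.exists_smul_eq ↥(pPrimePCore p G) P P'
  intro x hx
  have h1 : (l : G)⁻¹ * x * (l : G) ∈ Subgroup.centralizer
      (((P : Subgroup ↥(pPrimePCore p G)).map (pPrimePCore p G).subtype : Subgroup G) : Set G) := by
    rw [Subgroup.mem_centralizer_iff]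
    rintro _ ⟨u, hu, rfl⟩
    have hu' : l * u * l⁻¹ ∈ (P' : Subgroup ↥(pPrimePCore p G)) := by
      rw [← hl, Sylow.coe_subgroup_smul, Subgroup.mem_pointwise_smul_iff_inv_smul_mem]
      have : (MulAut.conj l)⁻¹ • (l * u * l⁻¹) = u := by
        simp [MulAut.smul_def, MulAut.conj_inv_apply, mul_assoc]
      rw [this]; exact hu
    have h2 := Subgroup.mem_centralizer_iff.mp hx ((pPrimePCore p G).subtype (l * u * l⁻¹))
      ⟨_, hu', rfl⟩
    simp only [Subgroup.subtype_apply, Subgroup.coe_mul, Subgroup.coe_inv] at h2 ⊢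
    calc (u : G) * ((l : G)⁻¹ * x * (l : G))
        = (l : G)⁻¹ * (((l : G) * (u : G) * (l : G)⁻¹) * x) * (l : G) := by group
      _ = (l : G)⁻¹ * (x * ((l : G) * (u : G) * (l : G)⁻¹)) * (l : G) := by rw [h2]
      _ = (l : G)⁻¹ * x * (l : G) * (u : G) := by group
  have h2 := hP h1
  have h3 := Subgroup.Normal.conj_mem hLn _ h2 (l : G)
  have : (l : G) * ((l : G)⁻¹ * x * (l : G)) * (l : G)⁻¹ = x := by group
  rwa [this] at h3

end Cfsg.Agent.S0629
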