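import Mathlib
import Cfsg.Statements.S0631
import Cfsg.Agent.S0028
import Cfsg.Agent.Lib.Helper4.ZJStable
import Cfsg.Agent.Lib.Helper4.GlaubermanRepl
import Cfsg.Agent.Lib.Helper10.PCompCover

set_option autoImplicit false
open Cfsg

namespace Cfsg.Agent.S0631

open Cfsg.Agent.Helper4.PQ Cfsg.Agent.Helper4.ZJ

section X

variable {X : Type*} [Group X] [Finite X] {p : ℕ} [Fact p.Prime]

/-- A `p`-group and a `p'`-group normalizing each other commute. -/
theorem le_centralizer_of_normalize (A Y : Subgroup X) (hA : IsPGroup p A)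
    (hY : (Nat.card Y).Coprime p) (hAY : A ≤ Subgroup.normalizer (Y : Set X))
    (hYA : Y ≤ Subgroup.normalizer (A : Set X)) : Y ≤ Subgroup.centralizer (A : Set X) := by
  have hbot : A ⊓ Y = ⊥ := Cfsg.Agent.Helper7.inf_eq_bot_of_isPGroup_of_coprime hA hY
  intro y hy
  rw [Subgroup.mem_centralizer_iff]
  intro u hu
  have ha : y * u * y⁻¹ ∈ A := (Subgroup.mem_normalizer_iff.mp (hYA hy) u).mp hu
  have hb : u * y⁻¹ * u⁻¹ ∈ Y :=
    (Subgroup.mem_normalizer_iff.mp (hAY hu) y⁻¹).mp (Y.inv_mem hy)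
  have hc1 : y * u * y⁻¹ * u⁻¹ ∈ A ⊓ Y := by
    refine ⟨A.mul_mem ha (A.inv_mem hu), ?_⟩
    have : y * u * y⁻¹ * u⁻¹ = y * (u * y⁻¹ * u⁻¹) := by group
    rw [this]; exact Y.mul_mem hy hb
  rw [hbot, Subgroup.mem_bot] at hc1
  calc u * y = (y * u * y⁻¹ * u⁻¹)⁻¹ * (y * u) := by group
    _ = y * u := by rw [hc1, inv_one, one_mul]

/-- Thompson's `P × Q` lemma applied to `O_p(X)`, when `C_X(O_p(X)) ≤ O_p(X)`. -/
theorem core (hc : Subgroup.centralizer (pCore p X : Set X) ≤ pCore p X)
    (P : Subgroup X) (hP : IsPGroup p P) (Y : Subgroup X) (hY : (Nat.card Y).Coprime p)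
    (h1 : Y ≤ Subgroup.centralizer (P : Set X))
    (h2 : Y ≤ Subgroup.centralizer
      ((pCore p X ⊓ Subgroup.centralizer (P : Set X) : Subgroup X) : Set X)) : Y = ⊥ := by
  have hQp : IsPGroup p (pCore p X) := Cfsg.Agent.Helper10.pCore_isPGroup p
  have hQY : pCore p X ⊓ Y = ⊥ := Cfsg.Agent.Helper7.inf_eq_bot_of_isPGroup_of_coprime hQp hY
  have h3 := Cfsg.Agent.S0028.result p P Y (pCore p X) hP hY hQp
    (Subgroup.le_centralizer_iff.mp h1)
    (by rw [Subgroup.normalizer_eq_top]; exact le_top)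
    (by rw [Subgroup.normalizer_eq_top]; exact le_top)
    (Subgroup.le_centralizer_iff.mp h2)
  rw [eq_bot_iff, ← hQY]
  exact le_inf (h3.trans hc) le_rfl

omit [Finite X] in
theorem conj_mem_centralizer {P : Subgroup X} {n c : X}
    (hn : n ∈ Subgroup.normalizer (P : Set X)) (hc : c ∈ Subgroup.centralizer (P : Set X)) :
    n * c * n⁻¹ ∈ Subgroup.centralizer (P : Set X) := by
  rw [Subgroup.mem_centralizer_iff] at hc ⊢
  intro u hu
  have h1 : n⁻¹ * u * n⁻¹⁻¹ ∈ P :=
    (Subgroup.mem_normalizer_iff.mp (Subgroup.inv_mem _ hn) u).mp hu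
  have h2 := hc _ h1
  calc u * (n * c * n⁻¹) = n * ((n⁻¹ * u * n⁻¹⁻¹) * c) * n⁻¹ := by group
    _ = n * (c * (n⁻¹ * u * n⁻¹⁻¹)) * n⁻¹ := by rw [h2]
    _ = n * c * n⁻¹ * u := by group

omit [Finite X] [Fact (Nat.Prime p)] in
/-- A subgroup `E ≤ H'` normalized by `H'` which is a `p`-group lies in `O_p(H')`. -/
theorem subgroupOf_le_pCore (H' E : Subgroup X) (hE : IsPGroup p E)
    (hHE : H' ≤ Subgroup.normalizer (E : Set X)) : E.subgroupOf H' ≤ pCore p ↥H' := by
  refine le_sSup ⟨?_, hE.comap_subtype⟩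
  constructor
  intro e he h
  rw [Subgroup.mem_subgroupOf] at he ⊢
  exact (Subgroup.mem_normalizer_iff.mp (hHE h.2) e).mp he

/-- The local facts: `O_{p'}(H') = 1` and `C_{H'}(O_p(H')) ≤ O_p(H')`. -/
theorem local_facts (hc : Subgroup.centralizer (pCore p X : Set X) ≤ pCore p X)
    (P : Subgroup X) (hP : IsPGroup p P) (H' : Subgroup X)
    (hHN : H' ≤ Subgroup.normalizer (P : Set X))
    (hEH : pCore p X ⊓ Subgroup.centralizer (P : Set X) ≤ H')
    (hcase : P ≤ H' ∨ H' ≤ Subgroup.centralizer (P : Set X)) :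
    pPrimeCore p ↥H' = ⊥ ∧
      Subgroup.centralizer (pCore p ↥H' : Set ↥H') ≤ pCore p ↥H' := by
  have hQp : IsPGroup p (pCore p X) := Cfsg.Agent.Helper10.pCore_isPGroup p
  have hQn : (pCore p X).Normal := inferInstance
  set E : Subgroup X := pCore p X ⊓ Subgroup.centralizer (P : Set X) with hE
  have hEp : IsPGroup p E := hQp.to_le inf_le_left
  have hHE : H' ≤ Subgroup.normalizer (E : Set X) := by
    intro h hh
    apply Cfsg.Agent.Helper4.GR.mem_normalizer_of_forall_conj_mem
    rintro z ⟨hzQ, hzC⟩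
    exact ⟨hQn.conj_mem z hzQ h, conj_mem_centralizer (hHN hh) hzC⟩
  have hE' : E.subgroupOf H' ≤ pCore p ↥H' := subgroupOf_le_pCore H' E hEp hHE
  -- elements centralizing `O_p(H')` centralize `E`, and `P` in the first case
  have hcE : ∀ d : ↥H', d ∈ Subgroup.centralizer (pCore p ↥H' : Set ↥H') →
      (d : X) ∈ Subgroup.centralizer (E : Set X) := by
    intro d hd
    rw [Subgroup.mem_centralizer_iff] at hd ⊢
    intro e he
    have := hd ⟨e, hEH he⟩ (hE' (Subgroup.mem_subgroupOf.mpr he))
    exact congrArg Subtype.val this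
  have hcP : ∀ d : ↥H', d ∈ Subgroup.centralizer (pCore p ↥H' : Set ↥H') →
      (d : X) ∈ Subgroup.centralizer (P : Set X) := by
    intro d hd
    rcases hcase with hPH | hHC
    · have hP' : P.subgroupOf H' ≤ pCore p ↥H' := subgroupOf_le_pCore H' P hP hHN
      rw [Subgroup.mem_centralizer_iff] at hd ⊢
      intro u hu
      have := hd ⟨u, hPH hu⟩ (hP' (Subgroup.mem_subgroupOf.mpr hu))
      exact congrArg Subtype.val this
    · exact hHC d.2
  constructor
  · -- `O_{p'}(H') = 1`
    set Y : Subgroup X := (pPrimeCore p ↥H').map H'.subtype with hY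
    have hYc : (Nat.card Y).Coprime p := by
      rw [hY, Subgroup.card_map_of_injective (Subgroup.subtype_injective _)]
      exact Cfsg.Agent.Helper22.card_pPrimeCore_coprime p
    have hYH : Y ≤ H' := Subgroup.map_subtype_le _
    have hHY : H' ≤ Subgroup.normalizer (Y : Set X) := by
      intro h hh
      apply Cfsg.Agent.Helper4.GR.mem_normalizer_of_forall_conj_mem
      rintro _ ⟨y, hy, rfl⟩
      exact ⟨⟨h, hh⟩ * y * ⟨h, hh⟩⁻¹,
        (inferInstance : (pPrimeCore p ↥H').Normal).conj_mem y hy ⟨h, hh⟩, by simp⟩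
    have h1 : Y ≤ Subgroup.centralizer (P : Set X) := by
      rcases hcase with hPH | hHC
      · exact le_centralizer_of_normalize P Y hP hYc (hPH.trans hHY) (hYH.trans hHN)
      · exact hYH.trans hHC
    have h2 : Y ≤ Subgroup.centralizer (E : Set X) :=
      le_centralizer_of_normalize E Y hEp hYc (hEH.trans hHY) (hYH.trans hHE)
    have h3 := core hc P hP Y hYc h1 h2
    rw [hY, Subgroup.map_eq_bot_iff_of_injective _ (Subgroup.subtype_injective _)] at h3
    exact h3
  · -- `C_{H'}(O_p(H'))` is a normal `p`-subgroup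
    refine le_sSup ⟨inferInstance, ?_⟩
    rintro ⟨d, hd⟩
    obtain ⟨k, m, hm, hkm⟩ := Nat.exists_eq_pow_mul_and_not_dvd (n := orderOf d)
      (orderOf_pos d).ne' p (Fact.out : p.Prime).one_lt.ne'
    refine ⟨k, ?_⟩
    set y : ↥H' := d ^ p ^ k with hy
    have hyo : orderOf y = m := by
      rw [hy, orderOf_pow' d (pow_pos (Fact.out : p.Prime).pos k).ne', hkm,
        Nat.gcd_eq_right (dvd_mul_right _ _), Nat.mul_div_cancel_left _
          (pow_pos (Fact.out : p.Prime).pos k)]
    have hyD : y ∈ Subgroup.centralizer (pCore p ↥H' : Set ↥H') := Subgroup.pow_mem _ hd _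
    set Y : Subgroup X := Subgroup.zpowers (y : X) with hY
    have hYc : (Nat.card Y).Coprime p := by
      rw [hY, Nat.card_zpowers, Subgroup.orderOf_coe, hyo]
      exact (Nat.Coprime.symm ((Nat.Prime.coprime_iff_not_dvd Fact.out).mpr hm))
    have h1 : Y ≤ Subgroup.centralizer (P : Set X) := by
      rw [hY, Subgroup.zpowers_le]; exact hcP y hyD
    have h2 : Y ≤ Subgroup.centralizer (E : Set X) := by
      rw [hY, Subgroup.zpowers_le]; exact hcE y hyD
    have h3 := core hc P hP Y hYc h1 h2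
    have h4 : (y : X) = 1 := by
      have : (y : X) ∈ Y := Subgroup.mem_zpowers _
      rw [h3, Subgroup.mem_bot] at this
      exact this
    apply Subtype.ext
    exact Subtype.ext h4

end X

section transfer

variable {G : Type*} [Group G] [Finite G] {p : ℕ} [Fact p.Prime]

/-- A surjection with `p'`-kernel onto a group with `O_{p'} = 1` and `C(O_p) ≤ O_p` has
`p`-constrained source. -/
theorem constrained_of_surjective {Y X : Type*} [Group Y] [Finite Y] [Group X] [Finite X]
    (f : Y →* X) (hf : Function.Surjective f) (hker : (Nat.card f.ker).Coprime p)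
    (h1 : pPrimeCore p X = ⊥)
    (h2 : Subgroup.centralizer (pCore p X : Set X) ≤ pCore p X) : IsPConstrained p Y := by
  rw [Cfsg.Agent.Helper7.isPConstrained_iff_centralizer_le]
  have hk := Cfsg.Agent.Helper10.ker_eq_pPrimeCore_of_surjective p f hf h1 hker
  exact cent_transport p
    ((QuotientGroup.quotientKerEquivOfSurjective f hf).symm.trans
      (QuotientGroup.quotientMulEquivOfEq hk)) h2

theorem constrained_of_map {K : Subgroup G} [K.Normal] (hK : (Nat.card K).Coprime p)
    (H : Subgroup G) (H' : Subgroup (G ⧸ K)) (hmap : H.map (QuotientGroup.mk' K) = H')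
    (h1 : pPrimeCore p ↥H' = ⊥)
    (h2 : Subgroup.centralizer (pCore p ↥H' : Set ↥H') ≤ pCore p ↥H') :
    IsPConstrained p ↥H := by
  subst hmap
  let f : ↥H →* ↥(H.map (QuotientGroup.mk' K)) := (QuotientGroup.mk' K).subgroupMap H
  have hf : Function.Surjective f := (QuotientGroup.mk' K).subgroupMap_surjective H
  apply constrained_of_surjective f hf _ h1 h2
  have hker : f.ker = K.subgroupOf H := by
    ext x
    rw [MonoidHom.mem_ker, Subgroup.mem_subgroupOf, ← QuotientGroup.eq_one_iff,
      ← QuotientGroup.mk'_apply]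
    constructor
    · intro h; exact congrArg Subtype.val h
    · intro h; exact Subtype.ext h
  rw [hker]
  refine Nat.Coprime.coprime_dvd_left ?_ hK
  have : Nat.card (K.subgroupOf H) = Nat.card ((K.subgroupOf H).map H.subtype) :=
    (Subgroup.card_map_of_injective (Subgroup.subtype_injective _)).symm
  rw [this]
  exact Subgroup.card_dvd_of_le (by rw [Subgroup.subgroupOf_map_subtype]; exact inf_le_left)

end transfer

/-- In a p-constrained group the normalizer and the centralizer of any p-subgroup are again p-constrained. -/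
theorem result {G : Type*} [Group G] [Finite G] {p : ℕ} [Fact p.Prime] (hG : Cfsg.IsPConstrained p G) (P : Subgroup G) (hP : IsPGroup p P) : Cfsg.IsPConstrained p ↥(Subgroup.normalizer (P : Set G)) ∧ Cfsg.IsPConstrained p ↥(Subgroup.centralizer (P : Set G)) := by
  have hK : (Nat.card (pPrimeCore p G)).Coprime p :=
    Cfsg.Agent.Helper22.card_pPrimeCore_coprime p
  rw [Cfsg.Agent.Helper7.isPConstrained_iff_centralizer_le] at hG
  have hPb : IsPGroup p (P.map (QuotientGroup.mk' (pPrimeCore p G))) := hP.map _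
  constructor
  · obtain ⟨h1, h2⟩ := local_facts hG _ hPb
      (Subgroup.normalizer ((P.map (QuotientGroup.mk' (pPrimeCore p G)) : Subgroup _) : Set _))
      le_rfl (inf_le_right.trans (Subgroup.centralizer_le_normalizer _))
      (Or.inl Subgroup.le_normalizer)
    exact constrained_of_map hK _ _ (Cfsg.Agent.Helper7.normalizer_map_mk'_eq hP hK).symm h1 h2
  · obtain ⟨h1, h2⟩ := local_facts hG _ hPb
      (Subgroup.centralizer ((P.map (QuotientGroup.mk' (pPrimeCore p G)) : Subgroup _) : Set _))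
      (Subgroup.centralizer_le_normalizer _) inf_le_right (Or.inr le_rfl)
    exact constrained_of_map hK _ _ (Cfsg.Agent.Helper7.centralizer_map_mk'_eq hP hK).symm h1 h2

end Cfsg.Agent.S0631
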