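import Mathlib
import Cfsg.Statements.S0633
import Cfsg.Agent.Lib.Helper4.ThBField
import Cfsg.Agent.Lib.Helper4.ThBGrp

set_option autoImplicit false
set_option maxHeartbeats 800000
open Cfsg

namespace Cfsg.Agent.S0633

open Cfsg.Agent.Helper4.ThB Module Polynomial

theorem result {F : Type*} [Field F] {p : ℕ} [Fact p.Prime] [CharP F p] {V : Type*} [AddCommGroup V] [Module F V] [FiniteDimensional F V] [Nontrivial V] (H : Subgroup (V ≃ₗ[F] V)) [Finite H] (hsol : Cfsg.IsPSolvable p H) (hOp : Cfsg.pCore p H = ⊥) (x : V ≃ₗ[F] V) (hx : x ∈ H) (n : ℕ) (hn : orderOf x = p ^ n) (r : ℕ) (hr : minpoly F (x : Module.End F V) = (Polynomial.X - 1) ^ r) : r = p ^ n ∨ ∃ n₀ q m : ℕ, 1 ≤ n₀ ∧ n₀ ≤ n ∧ q.Prime ∧ 1 ≤ m ∧ p ^ n₀ - 1 = q ^ m ∧ (∀ Q : Sylow q H, ¬ IsMulCommutative Q) ∧ p ^ (n - n₀) * (p ^ n₀ - 1) ≤ r := by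
  classical
  have hpp : p.Prime := Fact.out
  -- `(x - 1) ^ r = 0`
  have hxr : (op x - 1) ^ r = 0 := by
    have h1 := minpoly.aeval F (op x)
    have h2 : minpoly F (op x) = (X - 1) ^ r := hr
    rw [h2] at h1
    simpa using h1
  -- `r ≤ p ^ n`
  have hxP : (op x - 1) ^ (p ^ n) = 0 := by
    rw [sub_one_pow_char_pow F (op x) n, ← op_pow, ← hn, pow_orderOf_eq_one, op_one, sub_self]
  have hrle : r ≤ p ^ n := by
    have h1 : minpoly F (op x) ∣ (X - 1) ^ (p ^ n) := by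
      apply minpoly.dvd
      simpa using hxP
    have h2 : minpoly F (op x) = (X - 1) ^ r := hr
    rw [h2] at h1
    have hne : (X - 1 : F[X]) ≠ 0 := by
      have := X_sub_C_ne_zero (1 : F)
      simpa using this
    have hnu : ¬ IsUnit (X - 1 : F[X]) := by
      have := not_isUnit_X_sub_C (1 : F)
      simpa using this
    exact (pow_dvd_pow_iff hne hnu).mp h1
  have hr0 : r ≠ 0 := by
    intro h0
    rw [h0, pow_zero] at hxr
    exact one_ne_zero hxr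
  rcases Nat.eq_zero_or_pos n with hn0 | hnpos
  · left
    rw [hn0, pow_zero] at hrle ⊢
    omega
  -- the invariant `q`-subgroup
  set x' : H := ⟨x, hx⟩ with hx'
  have hox' : orderOf x' = p ^ n := by
    rw [← hn]
    exact Subgroup.orderOf_mk x hx
  obtain ⟨q, hqf, Q', hqp, hQ'q, hQ'inv, g', hg', hg'ne⟩ :=
    exists_invariant_qsubgroup hsol hOp x' n hnpos hox'
  haveI := hqf
  set Q : Subgroup (V ≃ₗ[F] V) := Q'.map H.subtype with hQ
  have hyp : Hyp p q Q x n := by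
    refine ⟨?_, hQ'q.map _, ?_, hnpos, ?_, ?_⟩
    · exact Finite.of_surjective (fun g : Q' => (⟨H.subtype g, ⟨g, g.2, rfl⟩⟩ : Q'.map H.subtype))
        (by rintro ⟨_, g, hg, rfl⟩; exact ⟨⟨g, hg⟩, rfl⟩)
    · rintro _ ⟨g, hg, rfl⟩
      exact ⟨x' * g * x'⁻¹, hQ'inv g hg, rfl⟩
    · rw [← hn, pow_orderOf_eq_one]
    · refine ⟨H.subtype g', ⟨g', hg', rfl⟩, ?_⟩
      intro h
      apply hg'ne
      apply Subtype.ext
      exact h
  have hC := thmB_field (Ne.symm hqp) Q x n hyp r hxr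
  rcases hC with h | ⟨n₀, m, h1, h2, h3, h4, ⟨_, ⟨g, hg, rfl⟩, _, ⟨h, hh, rfl⟩, hne⟩, h6⟩
  · left
    omega
  · right
    refine ⟨n₀, q, m, h1, h2, hqf.out, h3, h4, ?_, h6⟩
    apply sylow_not_comm Q' hQ'q g h hg hh
    intro hc
    apply hne
    have := congrArg H.subtype hc
    rwa [map_mul, map_mul] at this

end Cfsg.Agent.S0633
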