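import Mathlib
import Cfsg.Statements.S0645
import Cfsg.Agent.Lib.Helper16.CyclicTwo
import Cfsg.Agent.Lib.Helper16.OddUnique
import Cfsg.Agent.Lib.Helper4.CyclicMax

set_option autoImplicit false
open Cfsg

namespace Cfsg.Agent.S0645

open Cfsg.Agent.Helper16 Cfsg.Agent.Helper4

/-- Core computation: `⟨a⟩` of order `p^k` (`k ≥ 2`, `p` odd), `g ∉ ⟨a⟩` normalizing with
`g^p ∈ ⟨a⟩` and not centralizing `a`. -/
theorem core {G : Type*} [Group G] {p : ℕ} [hp : Fact p.Prime] (hodd : Odd p) {k : ℕ}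
    (hk : 2 ≤ k) (a g : G) (hao : orderOf a = p ^ k)
    (hconj : g * a * g⁻¹ ∈ Subgroup.zpowers a) (hgp' : g ^ p ∈ Subgroup.zpowers a)
    (hgA : g ∉ Subgroup.zpowers a) (hnc : g * a * g⁻¹ ≠ a) :
    ∃ b : G, orderOf b = p ∧ b ∉ Subgroup.zpowers a ∧ b * a * b⁻¹ = a ^ (1 + p ^ (k - 1)) := by
  have hk1 : 1 ≤ k := by omega
  have hppos : 0 < p ^ k := pow_pos hp.out.pos k
  obtain ⟨r, -, hr⟩ := mem_zpowers_exists_nat hppos hao hconj
  have hr1 : 1 ≤ r := by
    rcases Nat.eq_zero_or_pos r with h0 | h0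
    · exfalso
      rw [h0, pow_zero] at hr
      have : a = 1 := by
        have h1 : a = g⁻¹ * (g * a * g⁻¹) * g := by group
        rw [h1, hr]; group
      rw [this, orderOf_one] at hao
      have : 1 < p ^ k := Nat.one_lt_pow (by omega) hp.out.one_lt
      omega
    · exact h0
  have hgpa : g ^ p * a * (g ^ p)⁻¹ = a := by
    have h1 := hgp'
    rw [Subgroup.mem_zpowers_iff] at h1
    obtain ⟨i, hi⟩ := h1
    rw [← hi]
    have : Commute (a ^ i) a := (Commute.refl a).zpow_left i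
    rw [this.eq, mul_inv_cancel_right]
  have hiter : ∀ m : ℕ, g ^ m * a * (g ^ m)⁻¹ = a ^ (r ^ m) := by
    intro m
    induction m with
    | zero => simp
    | succ m ih =>
      have : g ^ (m + 1) * a * (g ^ (m + 1))⁻¹ = g * (g ^ m * a * (g ^ m)⁻¹) * g⁻¹ := by
        rw [pow_succ']; group
      rw [this, ih, ← conj_pow, hr, ← pow_mul, ← pow_succ']
  have hrp : a ^ (r ^ p) = a ^ 1 := by rw [← hiter p, hgpa, pow_one]
  have hmod : r ^ p ≡ 1 [MOD p ^ k] := by
    rw [← hao]; exact pow_eq_pow_iff_modEq.1 hrp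
  have hdvd : p ^ k ∣ r ^ p - 1 :=
    (Nat.modEq_iff_dvd' (Nat.one_le_pow _ _ hr1)).1 hmod.symm
  obtain ⟨hd1, hd2⟩ := dvd_sub_one_of_pow_prime hp.out hodd hk1 hr1 hdvd
  obtain ⟨m, hm⟩ := hd2
  have hrm : r = 1 + p ^ (k - 1) * m := by omega
  set c := a ^ p ^ (k - 1) with hc
  have hcp : c ^ p = 1 := by
    rw [hc, ← pow_mul, ← pow_succ]
    have : k - 1 + 1 = k := by omega
    rw [this, ← hao, pow_orderOf_eq_one]
  have hc1 : c ≠ 1 := by
    intro h1
    have h2 := orderOf_dvd_of_pow_eq_one h1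
    rw [hao] at h2
    have h3 := Nat.le_of_dvd (pow_pos hp.out.pos _) h2
    have h4 : p ^ (k - 1) < p ^ k := Nat.pow_lt_pow_right hp.out.one_lt (by omega)
    omega
  have hco : orderOf c = p := orderOf_eq_prime hcp hc1
  set ε := c ^ m with hε
  have hga : g * a * g⁻¹ = a * ε := by
    rw [hr, hrm, pow_add, pow_one, pow_mul]
  have hεp : ε ^ p = 1 := by rw [hε, ← pow_mul, mul_comm, pow_mul, hcp, one_pow]
  have hεa : Commute ε a := ((Commute.refl a).pow_left _).pow_left _
  have hca : Commute c a := (Commute.refl a).pow_left _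
  have hε1 : ε ≠ 1 := by
    intro h1
    rw [h1, mul_one] at hga
    exact hnc hga
  -- g commutes with c
  have hcg : Commute c g := by
    have h1 : g * c * g⁻¹ = c ^ r := by
      rw [hc, ← conj_pow, hr, ← pow_mul, ← pow_mul, mul_comm r]
    obtain ⟨q, hq⟩ := hd1
    have h2 : c ^ r = c := by
      have : r = 1 + p * q := by omega
      rw [this, pow_add, pow_one, pow_mul, hcp, one_pow, mul_one]
    rw [h2] at h1
    have : g * c = c * g := by
      calc g * c = g * c * g⁻¹ * g := by group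
        _ = c * g := by rw [h1]
    exact this.symm
  have hεg : Commute ε g := hcg.pow_left m
  -- p does not divide m
  have hpm : ¬ p ∣ m := by
    rintro ⟨t, ht⟩
    apply hε1
    rw [hε, ht, pow_mul, hcp, one_pow]
  have hcop : Nat.Coprime m p := ((Nat.Prime.coprime_iff_not_dvd hp.out).2 hpm).symm
  obtain ⟨s, -, hs⟩ := Nat.exists_mul_mod_eq_one_of_coprime hcop hp.out.one_lt
  -- m * s = 1 + p * t
  obtain ⟨t, ht⟩ : ∃ t, m * s = 1 + p * t := by
    refine ⟨m * s / p, ?_⟩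
    have := Nat.div_add_mod (m * s) p
    omega
  have hεs : ε ^ s = c := by
    rw [hε, ← pow_mul, ht, pow_add, pow_one, pow_mul, hcp, one_pow, mul_one]
  -- conjugation by powers of g
  have hgj : ∀ j : ℕ, g ^ j * a * (g ^ j)⁻¹ = a * ε ^ j := by
    intro j
    induction j with
    | zero => simp
    | succ j ih =>
      have e1 : g ^ (j + 1) * a * (g ^ (j + 1))⁻¹ = g * (g ^ j * a * (g ^ j)⁻¹) * g⁻¹ := by
        rw [pow_succ']; group
      have e2 : g * ε ^ j * g⁻¹ = ε ^ j := by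
        have := (hεg.pow_left j).eq
        calc g * ε ^ j * g⁻¹ = (ε ^ j * g) * g⁻¹ := by rw [this]
          _ = ε ^ j := by group
      calc g ^ (j + 1) * a * (g ^ (j + 1))⁻¹ = g * (a * ε ^ j) * g⁻¹ := by rw [e1, ih]
        _ = (g * a * g⁻¹) * (g * ε ^ j * g⁻¹) := by group
        _ = a * ε * ε ^ j := by rw [hga, e2]
        _ = a * ε ^ (j + 1) := by rw [pow_succ']; group
  set g' := g ^ s with hg'
  have hga' : g' * a * g'⁻¹ = a * c := by rw [hg', hgj s, hεs]
  have hcg' : Commute c g' := hcg.pow_right s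
  have hg'A : g' ∉ Subgroup.zpowers a := by
    intro hmem
    apply hgA
    have h1 : g' ^ m ∈ Subgroup.zpowers a := (Subgroup.zpowers a).pow_mem hmem m
    have h2 : g' ^ m = g * (g ^ p) ^ t := by
      rw [hg', ← pow_mul, mul_comm s m, ht, pow_add, pow_one, pow_mul]
    rw [h2] at h1
    have h3 := (Subgroup.zpowers a).mul_mem h1
      ((Subgroup.zpowers a).inv_mem ((Subgroup.zpowers a).pow_mem hgp' t))
    simpa using h3
  have hg'p : g' ^ p ∈ Subgroup.zpowers a := by
    have : g' ^ p = (g ^ p) ^ s := by rw [hg', ← pow_mul, ← pow_mul, mul_comm]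
    rw [this]; exact (Subgroup.zpowers a).pow_mem hgp' s
  obtain ⟨s0, -, hs0⟩ := mem_zpowers_exists_nat hppos hao hg'p
  have hfix : g' * a ^ s0 * g'⁻¹ = a ^ s0 := by
    rw [← hs0]; group
  have hps : p ∣ s0 := by
    have h1 := conj_pow_eq hga' s0
    rw [hfix, hca.symm.mul_pow] at h1
    have h2 : c ^ s0 = 1 := by
      have := mul_left_cancel (a := a ^ s0) (b := 1) (c := c ^ s0) (by rw [mul_one]; exact h1)
      exact this.symm
    have h3 := orderOf_dvd_of_pow_eq_one h2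
    rwa [hco] at h3
  obtain ⟨s', hs'⟩ := hps
  set i := (p ^ k - 1) * s' with hi
  have hgb : g' * a ^ i = a ^ i * g' * c ^ i := by
    have h1 := conj_pow_eq hga' i
    rw [hca.symm.mul_pow] at h1
    calc g' * a ^ i = g' * a ^ i * g'⁻¹ * g' := by group
      _ = a ^ i * c ^ i * g' := by rw [h1]
      _ = a ^ i * (c ^ i * g') := by group
      _ = a ^ i * (g' * c ^ i) := by rw [(hcg'.pow_left i).eq]
      _ = a ^ i * g' * c ^ i := by group
  have hpow := mul_pow_of_class_two hgb ((hca.pow_left i).pow_right i) (hcg'.pow_left i) p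
  have hT : (c ^ i) ^ (p * (p - 1) / 2) = 1 := by
    obtain ⟨u, hu⟩ := hodd
    have : p * (p - 1) / 2 = p * u := by
      have h1 : p - 1 = 2 * u := by omega
      rw [h1, ← mul_assoc, mul_comm p 2, mul_assoc, Nat.mul_div_cancel_left _ (by norm_num)]
    rw [this, ← pow_mul, ← mul_assoc, mul_comm i p, mul_assoc, pow_mul, hcp, one_pow]
  rw [hT, mul_one, hs0, ← pow_mul, ← pow_add] at hpow
  have hexp : i * p + s0 = p ^ k * (p * s') := by
    rw [hi, hs']
    have h1 : 1 ≤ p ^ k := hppos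
    obtain ⟨u, hu⟩ : ∃ u, p ^ k = u + 1 := ⟨p ^ k - 1, by omega⟩
    rw [hu]; simp only [Nat.add_sub_cancel]; ring
  have hpk : a ^ p ^ k = 1 := by rw [← hao, pow_orderOf_eq_one]
  have hpk2 : a ^ (p ^ k * (p * s')) = 1 := by rw [pow_mul, hpk, one_pow]
  rw [hexp, hpk2] at hpow
  -- b = a^i * g'
  have hbA : a ^ i * g' ∉ Subgroup.zpowers a := by
    intro hmem
    apply hg'A
    have := (Subgroup.zpowers a).mul_mem ((Subgroup.zpowers a).inv_mem
        ((Subgroup.zpowers a).pow_mem (Subgroup.mem_zpowers a) i)) hmem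
    simpa using this
  have hb1 : a ^ i * g' ≠ 1 := by
    intro h1
    apply hbA
    rw [h1]; exact (Subgroup.zpowers a).one_mem
  refine ⟨a ^ i * g', orderOf_eq_prime hpow hb1, hbA, ?_⟩
  have hai : Commute (a ^ i) (a * c) :=
    ((Commute.refl a).pow_left i).mul_right (((Commute.refl a).pow_left i).pow_right _)
  calc a ^ i * g' * a * (a ^ i * g')⁻¹ = a ^ i * (g' * a * g'⁻¹) * (a ^ i)⁻¹ := by group
    _ = a ^ i * (a * c) * (a ^ i)⁻¹ := by rw [hga']
    _ = a * c := by rw [hai.eq]; group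
    _ = a ^ (1 + p ^ (k - 1)) := by rw [pow_add, pow_one]

/-- For odd `p`, a non-abelian group of order `p^n` with a cyclic subgroup of index `p`. -/
theorem result {G : Type*} [Group G] [Finite G] {p : ℕ} [Fact p.Prime] (hp : p ≠ 2) (n : ℕ) (hn : 3 ≤ n) (hG : Nat.card G = p ^ n) (C : Subgroup G) (hC : IsCyclic C) (hCi : C.index = p) (hna : ∃ x y : G, x * y ≠ y * x) : ∃ a b : G, orderOf a = p ^ (n - 1) ∧ orderOf b = p ∧ b ∉ Subgroup.zpowers a ∧ b * a * b⁻¹ = a ^ (1 + p ^ (n - 2)) := by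
  have hpp : p.Prime := Fact.out
  have hodd : Odd p := hpp.odd_of_ne_two hp
  obtain ⟨a, haC, hzC⟩ := exists_zpowers_eq_of_isCyclic C hC
  obtain ⟨k, rfl⟩ : ∃ k, n = k + 1 := ⟨n - 1, by omega⟩
  have hk : 2 ≤ k := by omega
  have hCn : C.Normal := by
    apply Subgroup.normal_of_index_eq_minFac_card
    rw [hCi, hG, Nat.Prime.pow_minFac hpp (by omega)]
  have hcardC : Nat.card C = p ^ k := by
    have h1 := C.card_mul_index
    rw [hCi, hG, pow_succ] at h1
    exact Nat.eq_of_mul_eq_mul_right hpp.pos h1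
  have hao : orderOf a = p ^ k := by
    rw [← Nat.card_zpowers, hzC, hcardC]
  obtain ⟨g, hg⟩ : ∃ g : G, g ∉ C := by
    by_contra hcon
    push Not at hcon
    have : C = ⊤ := eq_top_iff.2 fun x _ => hcon x
    rw [this, Subgroup.index_top] at hCi
    exact hpp.one_lt.ne hCi
  have hconj : g * a * g⁻¹ ∈ Subgroup.zpowers a := by
    rw [hzC]; exact hCn.conj_mem a haC g
  have hgp : g ^ p ∈ Subgroup.zpowers a := by
    rw [hzC]
    have h1 : (QuotientGroup.mk g : G ⧸ C) ^ p = 1 := by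
      have h2 : Nat.card (G ⧸ C) = p := by rw [← Subgroup.index_eq_card, hCi]
      rw [← h2]; exact pow_card_eq_one'
    rw [← QuotientGroup.mk_pow, QuotientGroup.eq_one_iff] at h1
    exact h1
  have hgz : g ∉ Subgroup.zpowers a := by rw [hzC]; exact hg
  have hnc : g * a * g⁻¹ ≠ a := by
    intro h
    obtain ⟨x, y, hxy⟩ := hna
    apply hxy
    refine comm_of_zpowers_index_prime a g ?_ hgz ?_ x y
    · rw [hzC, hCi]; exact hpp
    · calc g * a = g * a * g⁻¹ * g := by group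
        _ = a * g := by rw [h]
  obtain ⟨b, hb1, hb2, hb3⟩ := core hodd hk a g hao hconj hgp hgz hnc
  refine ⟨a, b, ?_, hb1, hb2, ?_⟩
  · rw [hao]; congr 1
  · rw [hb3]; congr 2

end Cfsg.Agent.S0645
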