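import Mathlib
import Cfsg.Statements.S0647

set_option autoImplicit false
open Cfsg

namespace Cfsg.Agent.S0647

theorem comm_iff {G : Type*} [Group G] (H : Subgroup G) :
    IsMulCommutative H ↔ ∀ a ∈ H, ∀ b ∈ H, a * b = b * a := by
  constructor
  · intro h a ha b hb
    exact setLike_mul_comm ha hb
  · intro h
    refine ⟨⟨?_⟩⟩
    rintro ⟨a, ha⟩ ⟨b, hb⟩
    exact Subtype.ext (h a ha b hb)

/-- For a nonempty family of maximal abelian subgroups of a finite group, the intersection of the family is the centre of the subgroup it generates, which is also the full centralizer of that subgroup. -/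
theorem result {S : Type*} [Group S] [Finite S] (𝒜 : Set (Subgroup S)) (hne : 𝒜.Nonempty) (hab : ∀ A ∈ 𝒜, IsMulCommutative A) (hmax : ∀ A ∈ 𝒜, ∀ B : Subgroup S, IsMulCommutative B → A ≤ B → B = A) : sInf 𝒜 = sSup 𝒜 ⊓ Subgroup.centralizer ((sSup 𝒜 : Subgroup S) : Set S) ∧ sInf 𝒜 = Subgroup.centralizer ((sSup 𝒜 : Subgroup S) : Set S) := by
  have h1 : sInf 𝒜 ≤ Subgroup.centralizer ((sSup 𝒜 : Subgroup S) : Set S) := by
    intro x hx
    rw [Subgroup.mem_sInf] at hx
    have h2 : sSup 𝒜 ≤ Subgroup.centralizer ({x} : Set S) := by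
      apply sSup_le
      intro A hA y hy
      rw [Subgroup.mem_centralizer_singleton_iff]
      exact (comm_iff A).1 (hab A hA) y hy x (hx A hA)
    rw [Subgroup.mem_centralizer_iff]
    intro y hy
    have := h2 hy
    rw [Subgroup.mem_centralizer_singleton_iff] at this
    exact this
  have h2 : Subgroup.centralizer ((sSup 𝒜 : Subgroup S) : Set S) ≤ sInf 𝒜 := by
    intro x hx
    rw [Subgroup.mem_sInf]
    intro A hA
    rw [Subgroup.mem_centralizer_iff] at hx
    have hxA : ∀ a ∈ A, a * x = x * a := fun a ha => hx a ((le_sSup hA : A ≤ sSup 𝒜) ha)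
    have hB : IsMulCommutative (Subgroup.closure ((A : Set S) ∪ {x})) := by
      have hcomm : ∀ a ∈ ((A : Set S) ∪ {x}), ∀ b ∈ ((A : Set S) ∪ {x}), a * b = b * a := by
        rintro a (ha | ha) b (hb | hb)
        · exact (comm_iff A).1 (hab A hA) a ha b hb
        · rw [Set.mem_singleton_iff] at hb; subst hb; exact hxA a ha
        · rw [Set.mem_singleton_iff] at ha; subst ha; exact (hxA b hb).symm
        · rw [Set.mem_singleton_iff] at ha hb; subst ha; subst hb; rfl
      exact Subgroup.isMulCommutative_closure hcomm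
    have hle : A ≤ Subgroup.closure ((A : Set S) ∪ {x}) := by
      intro a ha
      exact Subgroup.subset_closure (Or.inl ha)
    have := hmax A hA _ hB hle
    rw [← this]
    exact Subgroup.subset_closure (Or.inr rfl)
  have h3 : sInf 𝒜 ≤ sSup 𝒜 := by
    obtain ⟨A, hA⟩ := hne
    exact (sInf_le hA).trans (le_sSup hA)
  refine ⟨le_antisymm (le_inf h3 h1) (inf_le_right.trans h2), le_antisymm h1 h2⟩

end Cfsg.Agent.S0647
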