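import Mathlib
import Cfsg.Statements.S0649
import Cfsg.Agent.Lib.Helper4.Basic

set_option autoImplicit false
open Cfsg

namespace Cfsg.Agent.S0649

/-- In the Glauberman replacement situation, if B does not normalize A then some element of B normalizes N_S(A) without normalizing A. -/
theorem result {S : Type*} [Group S] [Finite S] {p : ℕ} [Fact p.Prime] (hS : IsPGroup p S) (B : Subgroup S) [B.Normal] (hB2 : p = 2 → IsMulCommutative B) (A : Subgroup S) (hA : IsMulCommutative A) (hBA : ⁅B, B⁆ ≤ A) (hnot : ¬ B ≤ Subgroup.normalizer (A : Set S)) : ∃ b ∈ B, b ∈ Subgroup.normalizer ((Subgroup.normalizer (A : Set S)) : Set S) ∧ b ∉ Subgroup.normalizer (A : Set S) := by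
  haveI : Group.IsNilpotent S := hS.isNilpotent
  set N := Subgroup.normalizer (A : Set S) with hN
  have hlt : N < N ⊔ B := by
    rw [lt_iff_le_and_ne]
    refine ⟨le_sup_left, fun h => hnot ?_⟩
    rw [h]
    exact le_sup_right
  obtain ⟨x, hxM, hxn, hxN⟩ := Cfsg.Agent.Helper4.exists_mem_normalizer_not_mem hlt
  have hx' : x ∈ ((N ⊔ B : Subgroup S) : Set S) := hxM
  rw [Subgroup.mul_normal, Set.mem_mul] at hx'
  obtain ⟨n, hn, b, hb, rfl⟩ := hx'
  refine ⟨b, hb, ?_, ?_⟩
  · have hn' : n ∈ Subgroup.normalizer (N : Set S) := Subgroup.le_normalizer hn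
    have : b = n⁻¹ * (n * b) := by group
    rw [this]
    exact Subgroup.mul_mem _ (Subgroup.inv_mem _ hn') hxn
  · intro hbN
    exact hxN (N.mul_mem hn hbN)

end Cfsg.Agent.S0649
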