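import Mathlib
import Cfsg.Statements.S0654
import Cfsg.Agent.Lib.Helper4.ZJElementary

set_option autoImplicit false
open Cfsg

namespace Cfsg.Agent.S0654

open Cfsg.Agent.Helper4.ZJ

/-- ZJ-theorem, elementary abelian version. -/
theorem result {G : Type*} [Group G] [Finite G] {p : ℕ} [Fact p.Prime] (hp : p ≠ 2) (hc : Subgroup.centralizer (Cfsg.pCore p G : Set G) ≤ Cfsg.pCore p G) (hst : ∀ (P : Subgroup G) [P.Normal], IsPGroup p P → Cfsg.IsPStableOn p P) (S : Sylow p G) : ((Cfsg.omegaCenterThompson p ↥(S : Subgroup G)).map (S : Subgroup G).subtype).Characteristic := by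
  have hstab : Stab p G := by
    intro V _ hV a _ hq
    exact hst V hV a hq
  rw [omegaCenterThompson_map_eq]
  have hn : ((dataE (G := G) hp).Z (S : Subgroup G)).Normal :=
    Z_normal (dataE hp) S hstab hc
  exact Z_characteristic (dataE hp) S hn

end Cfsg.Agent.S0654
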