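import Mathlib
import Cfsg.Statements.S0655
import Cfsg.Agent.Lib.Helper4.Thompson

set_option autoImplicit false
open Cfsg

namespace Cfsg.Agent.S0655

open Cfsg.Agent.Helper4

/-- In a p-group the intersection of all elementary abelian subgroups of largest order is the subgroup generated by the elements of order dividing p in the centre (equivalently the centralizer) of the elementary-version Thompson subgroup. -/
theorem result {S : Type*} [Group S] [Finite S] {p : ℕ} [Fact p.Prime] (hS : IsPGroup p S) : sInf (Cfsg.maxElementaryAbelianSubgroups p S) = Cfsg.omegaCenterThompson p S ∧ Cfsg.omegaCenterThompson p S = Cfsg.omegaOne p (Subgroup.centralizer (Cfsg.thompsonSubgroup p S : Set S)) := by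
  set 𝒜 := Cfsg.maxElementaryAbelianSubgroups p S with h𝒜
  set J := Cfsg.thompsonSubgroup p S with hJ
  have hJdef : J = sSup 𝒜 := rfl
  -- (1) sInf ≤ omegaCenterThompson
  have h1 : sInf 𝒜 ≤ Cfsg.omegaCenterThompson p S := by
    intro x hx
    obtain ⟨A0, hA0⟩ := maxElementaryAbelianSubgroups_nonempty (S := S) p
    have hxA : ∀ A ∈ 𝒜, x ∈ A := fun A hA => (Subgroup.mem_sInf.1 hx) A hA
    have hxJ : x ∈ J := by
      rw [hJdef]
      exact (le_sSup hA0) (hxA A0 hA0)
    have hxp : x ^ p = 1 := hA0.1.2 x (hxA A0 hA0)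
    have hxC : x ∈ Subgroup.centralizer (J : Set S) := by
      have hJle : J ≤ Subgroup.centralizer ({x} : Set S) := by
        rw [hJdef]
        apply sSup_le
        intro A hA a ha
        rw [Subgroup.mem_centralizer_iff]
        intro y hy
        rw [Set.mem_singleton_iff] at hy
        subst hy
        have := hA.1.1
        exact setLike_mul_comm (s := A) (hxA A hA) ha
      rw [Subgroup.mem_centralizer_iff]
      intro h hh
      have := (Subgroup.mem_centralizer_iff.1 (hJle hh)) x rfl
      exact this.symm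
    unfold Cfsg.omegaCenterThompson Cfsg.omegaOne
    exact Subgroup.subset_closure ⟨⟨hxJ, hxC⟩, hxp⟩
  -- (2) omegaCenterThompson ≤ omegaOne (centralizer)
  have h2 : Cfsg.omegaCenterThompson p S ≤ Cfsg.omegaOne p (Subgroup.centralizer (J : Set S)) := by
    unfold Cfsg.omegaCenterThompson Cfsg.omegaOne
    apply Subgroup.closure_mono
    rintro x ⟨⟨_, hxC⟩, hxp⟩
    exact ⟨hxC, hxp⟩
  -- (3) omegaOne (centralizer) ≤ sInf
  have h3 : Cfsg.omegaOne p (Subgroup.centralizer (J : Set S)) ≤ sInf 𝒜 := by
    unfold Cfsg.omegaOne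
    rw [Subgroup.closure_le]
    rintro x ⟨hxC, hxp⟩
    rw [SetLike.mem_coe, Subgroup.mem_sInf]
    intro A hA
    apply mem_of_mem_maxElementaryAbelian hA _ hxp
    intro a ha
    have haJ : a ∈ J := by rw [hJdef]; exact (le_sSup hA) ha
    exact (Subgroup.mem_centralizer_iff.1 hxC) a haJ
  exact ⟨le_antisymm h1 (h2.trans h3), le_antisymm h2 (h3.trans h1)⟩

end Cfsg.Agent.S0655
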