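import Mathlib
import Cfsg.Statements.S0657
import Cfsg.Agent.Lib.Helper4.SL2Free

set_option autoImplicit false
open Cfsg

namespace Cfsg.Agent.S0657

open Cfsg.Agent.Helper4.SLF

/-- For odd p, a group that fails to be p-stable modulo its largest normal subgroup of order prime to p, and whose upper p-series does not stop there, has a section isomorphic to SL(2, p). -/
theorem result {G : Type*} [Group G] [Finite G] {p : ℕ} [Fact p.Prime] (hp : p ≠ 2) (hO : Cfsg.pPrimeCore p G < Cfsg.pPrimePCore p G) (hns : ¬ Cfsg.IsPStable p (G ⧸ Cfsg.pPrimeCore p G)) : ∃ (K L : Subgroup G) (hL : (L.subgroupOf K).Normal), K ≤ ⊤ ∧ Nonempty ((K ⧸ L.subgroupOf K) ≃* Matrix.SpecialLinearGroup (Fin 2) (ZMod p)) := by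
  by_contra hcon
  have hfree : SL2Free p G := by
    rw [sl2free_iff]
    rintro ⟨K, L, hL, h⟩
    exact hcon ⟨K, L, hL, le_top, h⟩
  apply hns
  apply isPStable_of_sl2free hp (hfree.quotient _)
  intro hbot
  have : Cfsg.pPrimePCore p G = Cfsg.pPrimeCore p G := by
    unfold Cfsg.pPrimePCore
    rw [hbot, MonoidHom.comap_bot, QuotientGroup.ker_mk']
  rw [this] at hO
  exact lt_irrefl _ hO

end Cfsg.Agent.S0657
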