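import Mathlib
import Cfsg.Statements.S0660
import Cfsg.Agent.Lib.Helper4.Maschke

set_option autoImplicit false
open Cfsg
open scoped IsMulCommutative

namespace Cfsg.Agent.S0660

/-- Under a coprime action on an abelian group, an invariant subgroup that is complemented admits an invariant complement. -/
theorem result {G : Type*} [Group G] [Finite G] (V A U : Subgroup G) (hVab : IsMulCommutative V) (hAV : A ≤ Subgroup.normalizer (V : Set G)) (hcop : (Nat.card A).Coprime (Nat.card V)) (hUV : U ≤ V) (hAU : A ≤ Subgroup.normalizer (U : Set G)) (W : Subgroup G) (hWV : W ≤ V) (hUW : U ⊓ W = ⊥) (hUWV : U ⊔ W = V) : ∃ W' : Subgroup G, W' ≤ V ∧ A ≤ Subgroup.normalizer (W' : Set G) ∧ U ⊓ W' = ⊥ ∧ U ⊔ W' = V := by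
  have := hVab
  have hconjV : ∀ a ∈ A, ∀ v ∈ V, a * v * a⁻¹ ∈ V := by
    intro a ha v hv
    exact (Subgroup.mem_normalizer_iff.1 (hAV ha) v).1 hv
  have hconjU : ∀ a ∈ A, ∀ u ∈ U, a * u * a⁻¹ ∈ U := by
    intro a ha u hu
    exact (Subgroup.mem_normalizer_iff.1 (hAU ha) u).1 hu
  -- the conjugation action
  let c : A →* MulAut V :=
    { toFun := fun a =>
        { toFun := fun v => ⟨(a : G) * (v : G) * (a : G)⁻¹, hconjV a a.2 v v.2⟩
          invFun := fun v => ⟨(a : G)⁻¹ * (v : G) * (a : G), by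
            have := hconjV (a⁻¹ : A) (a⁻¹ : A).2 v v.2
            simpa using this⟩
          left_inv := by intro v; apply Subtype.ext; simp [mul_assoc]
          right_inv := by intro v; apply Subtype.ext; simp [mul_assoc]
          map_mul' := by intro x y; apply Subtype.ext; simp [mul_assoc] }
      map_one' := by
        apply MulEquiv.ext; intro v; apply Subtype.ext; simp
      map_mul' := by
        intro a b
        apply MulEquiv.ext; intro v; apply Subtype.ext
        simp [mul_assoc] }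
  have hc_val : ∀ (a : A) (v : V), ((c a v : V) : G) = (a : G) * (v : G) * (a : G)⁻¹ :=
    fun a v => rfl
  obtain ⟨W', hW'inv, hW'inf, hW'sup⟩ := Cfsg.Agent.Helper4.exists_invariant_compl c hcop
    (U.subgroupOf V) (W.subgroupOf V)
    (by
      intro a u hu
      rw [Subgroup.mem_subgroupOf] at hu ⊢
      rw [hc_val]
      exact hconjU a a.2 _ hu)
    (by
      rw [eq_bot_iff]
      rintro x ⟨hx1, hx2⟩
      rw [Subgroup.mem_bot]
      have : (x : G) ∈ U ⊓ W := ⟨Subgroup.mem_subgroupOf.1 hx1, Subgroup.mem_subgroupOf.1 hx2⟩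
      rw [hUW, Subgroup.mem_bot] at this
      exact Subtype.ext this)
    (by
      rw [← Subgroup.subgroupOf_sup hUV hWV, hUWV, Subgroup.subgroupOf_self])
  refine ⟨W'.map V.subtype, ?_, ?_, ?_, ?_⟩
  · rintro _ ⟨w, _, rfl⟩
    exact w.2
  · have key : ∀ a ∈ A, ∀ w ∈ W'.map V.subtype, a * w * a⁻¹ ∈ W'.map V.subtype := by
      rintro a ha _ ⟨w, hw, rfl⟩
      exact ⟨c ⟨a, ha⟩ w, hW'inv ⟨a, ha⟩ w hw, rfl⟩
    intro a ha
    rw [Subgroup.mem_normalizer_iff]
    intro w
    constructor
    · exact key a ha w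
    · intro h
      have := key a⁻¹ (A.inv_mem ha) _ h
      simpa [mul_assoc] using this
  · rw [eq_bot_iff]
    rintro x ⟨hxU, ⟨w, hw, rfl⟩⟩
    rw [Subgroup.mem_bot]
    have : w ∈ U.subgroupOf V ⊓ W' := ⟨Subgroup.mem_subgroupOf.2 hxU, hw⟩
    rw [hW'inf, Subgroup.mem_bot] at this
    rw [this]; rfl
  · apply le_antisymm
    · apply sup_le hUV
      rintro _ ⟨w, _, rfl⟩
      exact w.2
    · intro v hv
      have hv' : (⟨v, hv⟩ : V) ∈ U.subgroupOf V ⊔ W' := by rw [hW'sup]; exact Subgroup.mem_top _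
      obtain ⟨u, hu, w, hw, huw⟩ := Subgroup.mem_sup.1 hv'
      have : v = (u : G) * (w : G) := by
        have := congrArg Subtype.val huw
        simpa using this.symm
      rw [this]
      exact Subgroup.mul_mem_sup (Subgroup.mem_subgroupOf.1 hu) ⟨w, hw, rfl⟩

end Cfsg.Agent.S0660
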