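import Mathlib
import Cfsg.Statements.S0661
import Cfsg.Agent.S0028
import Cfsg.Agent.Lib.Helper4.PPrimeQuot

set_option autoImplicit false
open Cfsg

namespace Cfsg.Agent.S0661

/-- In a group `H` with `C_H(O_p(H)) ≤ O_p(H)`: a `p'`-subgroup `Y` of `N_H(P)` normalized by
`N_H(P)`, for a `p`-subgroup `P`, is trivial. -/
theorem eq_bot_of_normalized {H : Type*} [Group H] [Finite H] {p : ℕ} [Fact p.Prime]
    (hc : Subgroup.centralizer (pCore p H : Set H) ≤ pCore p H)
    (P : Subgroup H) (hP : IsPGroup p P) (Y : Subgroup H) (hY : (Nat.card Y).Coprime p)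
    (hYN : Y ≤ Subgroup.normalizer (P : Set H))
    (hNY : Subgroup.normalizer (P : Set H) ≤ Subgroup.normalizer (Y : Set H)) : Y = ⊥ := by
  set Q := pCore p H with hQ
  have hQp : IsPGroup p Q := Cfsg.Agent.Helper10.pCore_isPGroup p
  have hQn : Q.Normal := inferInstance
  have hPY : P ⊓ Y = ⊥ := Cfsg.Agent.Helper7.inf_eq_bot_of_isPGroup_of_coprime hP hY
  have hQY : Q ⊓ Y = ⊥ := Cfsg.Agent.Helper7.inf_eq_bot_of_isPGroup_of_coprime hQp hY
  -- `Y` centralizes `P`
  have h1 : P ≤ Subgroup.centralizer (Y : Set H) := by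
    intro u hu
    rw [Subgroup.mem_centralizer_iff]
    intro y hy
    have ha : y * u * y⁻¹ ∈ P := (Subgroup.mem_normalizer_iff.mp (hYN hy) u).mp hu
    have hb : u * y⁻¹ * u⁻¹ ∈ Y :=
      (Subgroup.mem_normalizer_iff.mp (hNY (Subgroup.le_normalizer hu)) y⁻¹).mp (Y.inv_mem hy)
    have hc1 : y * u * y⁻¹ * u⁻¹ ∈ P ⊓ Y := by
      refine ⟨P.mul_mem ha (P.inv_mem hu), ?_⟩
      have : y * u * y⁻¹ * u⁻¹ = y * (u * y⁻¹ * u⁻¹) := by group
      rw [this]; exact Y.mul_mem hy hb
    rw [hPY, Subgroup.mem_bot] at hc1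
    calc y * u = (y * u * y⁻¹ * u⁻¹) * (u * y) := by group
      _ = u * y := by rw [hc1, one_mul]
  have h2 : Q ⊓ Subgroup.centralizer (P : Set H) ≤ Subgroup.centralizer (Y : Set H) := by
    rintro c ⟨hcQ, hcP⟩
    rw [Subgroup.mem_centralizer_iff]
    intro y hy
    have hcN : c ∈ Subgroup.normalizer (Y : Set H) :=
      hNY (Subgroup.centralizer_le_normalizer _ hcP)
    have ha : c * y⁻¹ * c⁻¹ ∈ Y := (Subgroup.mem_normalizer_iff.mp hcN y⁻¹).mp (Y.inv_mem hy)
    have hb : y * c * y⁻¹ ∈ Q := hQn.conj_mem c hcQ y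
    have hc1 : y * c * y⁻¹ * c⁻¹ ∈ Q ⊓ Y := by
      refine ⟨Q.mul_mem hb (Q.inv_mem hcQ), ?_⟩
      have : y * c * y⁻¹ * c⁻¹ = y * (c * y⁻¹ * c⁻¹) := by group
      rw [this]; exact Y.mul_mem hy ha
    rw [hQY, Subgroup.mem_bot] at hc1
    calc y * c = (y * c * y⁻¹ * c⁻¹) * (c * y) := by group
      _ = c * y := by rw [hc1, one_mul]
  have h3 := Cfsg.Agent.S0028.result p P Y Q hP hY hQp h1
    (by rw [Subgroup.normalizer_eq_top]; exact le_top)
    (by rw [Subgroup.normalizer_eq_top]; exact le_top) h2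
  have h4 : Y ≤ Q := h3.trans hc
  rw [eq_bot_iff, ← hQY]
  exact le_inf h4 le_rfl

/-- If, modulo the largest normal subgroup of order prime to p, the largest normal p-subgroup contains its centralizer, then for every p-subgroup P the p'-core of N_G(P) is just O_p'(G) ∩ N_G(P). -/
theorem result {G : Type*} [Group G] [Finite G] {p : ℕ} [Fact p.Prime] (hc : Subgroup.centralizer (Cfsg.pCore p (G ⧸ Cfsg.pPrimeCore p G) : Set (G ⧸ Cfsg.pPrimeCore p G)) ≤ Cfsg.pCore p (G ⧸ Cfsg.pPrimeCore p G)) (P : Subgroup G) (hP : IsPGroup p P) : (Cfsg.pPrimeCore p ↥(Subgroup.normalizer (P : Set G))).map (Subgroup.normalizer (P : Set G)).subtype = Cfsg.pPrimeCore p G ⊓ Subgroup.normalizer (P : Set G) := by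
  have hK : (Nat.card (pPrimeCore p G)).Coprime p :=
    Cfsg.Agent.Helper22.card_pPrimeCore_coprime p
  have hXc : (Nat.card (pPrimeCore p ↥(Subgroup.normalizer (P : Set G)))).Coprime p :=
    Cfsg.Agent.Helper22.card_pPrimeCore_coprime p
  apply le_antisymm
  · refine le_inf ?_ (Subgroup.map_subtype_le _)
    set X := (pPrimeCore p ↥(Subgroup.normalizer (P : Set G))).map
      (Subgroup.normalizer (P : Set G)).subtype with hX
    have hXn : ∀ n ∈ Subgroup.normalizer (P : Set G), ∀ x ∈ X, n * x * n⁻¹ ∈ X := by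
      rintro n hn _ ⟨x, hx, rfl⟩
      exact ⟨⟨n, hn⟩ * x * ⟨n, hn⟩⁻¹,
        (inferInstance : (pPrimeCore p ↥(Subgroup.normalizer (P : Set G))).Normal).conj_mem x hx
          ⟨n, hn⟩, by simp⟩
    have hbot : X.map (QuotientGroup.mk' (pPrimeCore p G)) = ⊥ := by
      apply eq_bot_of_normalized hc (P.map (QuotientGroup.mk' (pPrimeCore p G))) (hP.map _)
      · refine Nat.Coprime.coprime_dvd_left (Subgroup.card_map_dvd _ _) ?_
        rw [hX, Subgroup.card_map_of_injective (Subgroup.subtype_injective _)]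
        exact hXc
      · exact (Subgroup.map_mono (Subgroup.map_subtype_le _)).trans (Subgroup.le_normalizer_map _)
      · rw [Cfsg.Agent.Helper7.normalizer_map_mk'_eq hP hK]
        rintro _ ⟨n, hn, rfl⟩
        rw [Subgroup.mem_normalizer_iff]
        intro z
        constructor
        · rintro ⟨x, hx, rfl⟩
          exact ⟨n * x * n⁻¹, hXn n hn x hx, by simp⟩
        · rintro ⟨x, hx, hxz⟩
          refine ⟨n⁻¹ * x * n⁻¹⁻¹, hXn n⁻¹ (Subgroup.inv_mem _ hn) x hx, ?_⟩
          simp only [map_mul, map_inv, hxz]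
          group
    rw [Subgroup.map_eq_bot_iff, QuotientGroup.ker_mk'] at hbot
    exact hbot
  · set N := Subgroup.normalizer (P : Set G) with hN
    set D : Subgroup ↥N := (pPrimeCore p G).subgroupOf N with hD
    have hDn : D.Normal := inferInstance
    have hDc : (Nat.card D).Coprime p := by
      refine Nat.Coprime.coprime_dvd_left ?_ hK
      have : Nat.card D = Nat.card (D.map N.subtype) :=
        (Subgroup.card_map_of_injective (Subgroup.subtype_injective _)).symm
      rw [this]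
      exact Subgroup.card_dvd_of_le (by rw [hD, Subgroup.subgroupOf_map_subtype]; exact inf_le_left)
    have hle : D ≤ pPrimeCore p ↥N := le_sSup ⟨hDn, hDc⟩
    intro x hx
    exact ⟨⟨x, hx.2⟩, hle (Subgroup.mem_subgroupOf.mpr hx.1), rfl⟩

end Cfsg.Agent.S0661
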