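import Mathlib
import Cfsg.Statements.S0666
import Cfsg.Agent.S0035

set_option autoImplicit false
open Cfsg
open scoped Pointwise

namespace Cfsg.Agent.S0666

/-- Abstract form: a Frobenius group `F = N ⋊ H` acting on an abelian group `V` such that neither
`N` nor `H` has nontrivial fixed points forces `v ^ |N| = 1` for all `v`. -/
theorem key {F V : Type*} [Group F] [Finite F] [CommGroup V] (H N : Subgroup F)
    (hH : Cfsg.IsFrobeniusComplement H) (hN : (N : Set F) = Cfsg.frobeniusKernel H)
    (hNn : N.Normal) (hc : Subgroup.IsComplement' N H)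
    (φ : F → V →* V) (h1 : ∀ v, φ 1 v = v) (hmul : ∀ f g v, φ (f * g) v = φ f (φ g v))
    (hfN : ∀ v, (∀ k ∈ N, φ k v = v) → v = 1)
    (hfH : ∀ v, (∀ h ∈ H, φ h v = v) → v = 1) (v : V) : v ^ Nat.card N = 1 := by
  classical
  let _ := Fintype.ofFinite F
  have hdisj : ∀ y, y ∈ N → y ∈ H → y = 1 := by
    intro y hyN hyH
    have := hc.disjoint
    rw [Subgroup.disjoint_def] at this
    exact this hyN hyH
  set SN : Finset F := Finset.univ.filter (· ∈ N) with hSN
  set SH : Finset F := Finset.univ.filter (· ∈ H) with hSH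
  -- A: total product is fixed by everything
  have hA : ∏ f : F, φ f v = 1 := by
    apply hfN
    intro k _
    rw [map_prod]
    simp_rw [← hmul]
    exact Fintype.prod_equiv (Equiv.mulLeft k) _ _ (fun f => rfl)
  -- B: product over N
  have hB : ∏ f ∈ SN, φ f v = 1 := by
    apply hfN
    intro k hk
    rw [map_prod]
    simp_rw [← hmul]
    refine Finset.prod_nbij (fun f => k * f) ?_ ?_ ?_ (fun _ _ => rfl)
    · intro a ha
      rw [hSN, Finset.mem_filter] at ha ⊢
      exact ⟨Finset.mem_univ _, N.mul_mem hk ha.2⟩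
    · intro a _ b _ hab
      exact mul_left_cancel hab
    · intro b hb
      rw [hSN, Finset.coe_filter, Set.mem_ofPred_eq] at hb
      refine ⟨k⁻¹ * b, ?_, by simp⟩
      rw [hSN, Finset.coe_filter, Set.mem_ofPred_eq]
      exact ⟨Finset.mem_univ _, N.mul_mem (N.inv_mem hk) hb.2⟩
  -- C0: product over H of anything is H-fixed
  have hC0 : ∀ w : V, ∏ h ∈ SH, φ h w = 1 := by
    intro w
    apply hfH
    intro k hk
    rw [map_prod]
    simp_rw [← hmul]
    refine Finset.prod_nbij (fun f => k * f) ?_ ?_ ?_ (fun _ _ => rfl)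
    · intro a ha
      rw [hSH, Finset.mem_filter] at ha ⊢
      exact ⟨Finset.mem_univ _, H.mul_mem hk ha.2⟩
    · intro a _ b _ hab
      exact mul_left_cancel hab
    · intro b hb
      rw [hSH, Finset.coe_filter, Set.mem_ofPred_eq] at hb
      refine ⟨k⁻¹ * b, ?_, by simp⟩
      rw [hSH, Finset.coe_filter, Set.mem_ofPred_eq]
      exact ⟨Finset.mem_univ _, H.mul_mem (H.inv_mem hk) hb.2⟩
  have hC : ∀ x : F, ∏ h ∈ SH, φ (x * h * x⁻¹) v = 1 := by
    intro x
    have : ∀ h, φ (x * h * x⁻¹) v = φ x (φ h (φ x⁻¹ v)) := by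
      intro h; rw [hmul, hmul]
    simp_rw [this]
    rw [← map_prod, hC0, map_one]
  -- the product over the complement of N
  have hsplit : (∏ f ∈ Finset.univ.filter (· ∈ N), φ f v) *
      (∏ f ∈ Finset.univ.filter (fun f => ¬ f ∈ N), φ f v) = ∏ f : F, φ f v :=
    Finset.prod_filter_mul_prod_filter_not Finset.univ (· ∈ N) _
  rw [← hSN, hB, hA, one_mul] at hsplit
  have hD : ∏ p ∈ SN ×ˢ (SH.erase 1), φ (p.1 * p.2 * p.1⁻¹) v =
      ∏ f ∈ Finset.univ.filter (fun f => ¬ f ∈ N), φ f v := by
    refine Finset.prod_nbij (fun p => p.1 * p.2 * p.1⁻¹) ?_ ?_ ?_ (fun _ _ => rfl)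
    · rintro ⟨x, h⟩ hp
      rw [Finset.mem_product, Finset.mem_erase, hSN, hSH, Finset.mem_filter,
        Finset.mem_filter] at hp
      obtain ⟨⟨-, hx⟩, hh1, -, hh⟩ := hp
      rw [Finset.mem_filter]
      refine ⟨Finset.mem_univ _, fun hmem => hh1 ?_⟩
      have : h ∈ N := by
        have h2 := hNn.conj_mem _ hmem x⁻¹
        simpa [mul_assoc] using h2
      exact hdisj h this hh
    · rintro ⟨x, h⟩ hp ⟨x', h'⟩ hp' heq
      rw [Finset.mem_coe, Finset.mem_product, Finset.mem_erase, hSN, hSH, Finset.mem_filter,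
        Finset.mem_filter] at hp hp'
      obtain ⟨⟨-, hx⟩, hh1, -, hh⟩ := hp
      obtain ⟨⟨-, hx'⟩, hh1', -, hh'⟩ := hp'
      simp only at heq
      have hy : x'⁻¹ * x ∈ N := N.mul_mem (N.inv_mem hx') hx
      have hconj : (x'⁻¹ * x) * h * (x'⁻¹ * x)⁻¹ = h' := by
        have : x'⁻¹ * (x * h * x⁻¹) * x' = h' := by rw [heq]; group
        rw [← this]; group
      have hyH : x'⁻¹ * x ∈ H := by
        by_contra hnot
        have hbot := hH.2.2 _ hnot
        have hmem : h' ∈ H ⊓ MulAut.conj (x'⁻¹ * x) • H := by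
          refine Subgroup.mem_inf.mpr ⟨hh', ?_⟩
          rw [Subgroup.mem_pointwise_smul_iff_inv_smul_mem]
          rw [← hconj]
          simpa [MulAut.smul_def, mul_assoc] using hh
        rw [hbot, Subgroup.mem_bot] at hmem
        exact hh1' hmem
      have hxx : x'⁻¹ * x = 1 := hdisj _ hy hyH
      have hxeq : x = x' := by
        have := inv_mul_eq_one.mp hxx
        exact this.symm
      subst hxeq
      have : h = h' := by
        have h3 := hconj
        rw [hxx] at h3
        simpa using h3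
      rw [this]
    · intro f hf
      rw [Finset.coe_filter, Set.mem_ofPred_eq] at hf
      have hfN' : f ∉ (N : Set F) := hf.2
      rw [hN] at hfN'
      have hf1 : f ≠ 1 := fun h => hfN' (Or.inl h)
      have hex : ∃ g : F, f ∈ MulAut.conj g • H := by
        by_contra hne
        push Not at hne
        exact hfN' (Or.inr hne)
      obtain ⟨g, hg⟩ := hex
      obtain ⟨⟨⟨n, hn⟩, ⟨h, hh⟩⟩, hnh⟩ := hc.2 g
      simp only at hnh
      -- g = n * h
      rw [Subgroup.mem_pointwise_smul_iff_inv_smul_mem] at hg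
      have hg' : g⁻¹ * f * g ∈ H := by simpa [MulAut.smul_def] using hg
      set h' := h * (g⁻¹ * f * g) * h⁻¹ with hh'
      have hh'H : h' ∈ H := H.mul_mem (H.mul_mem hh hg') (H.inv_mem hh)
      have hfe : n * h' * n⁻¹ = f := by
        rw [hh', ← hnh]; group
      refine ⟨(n, h'), ?_, hfe⟩
      rw [Finset.mem_coe, Finset.mem_product, Finset.mem_erase, hSN, hSH, Finset.mem_filter,
        Finset.mem_filter]
      refine ⟨⟨Finset.mem_univ _, hn⟩, ?_, Finset.mem_univ _, hh'H⟩
      intro h1'
      apply hf1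
      have h1'' : h' = 1 := h1'
      rw [← hfe, h1'']; group
  rw [hsplit, Finset.prod_product] at hD
  have hE : ∀ x ∈ SN, ∏ h ∈ SH.erase 1, φ (x * h * x⁻¹) v = v⁻¹ := by
    intro x _
    have h1H : (1 : F) ∈ SH := by
      rw [hSH, Finset.mem_filter]; exact ⟨Finset.mem_univ _, H.one_mem⟩
    have := Finset.mul_prod_erase SH (fun h => φ (x * h * x⁻¹) v) h1H
    rw [hC x] at this
    simp only [mul_one, mul_inv_cancel, h1] at this
    exact eq_inv_of_mul_eq_one_right this
  rw [Finset.prod_congr rfl hE, Finset.prod_const] at hD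
  have hcard : SN.card = Nat.card N := by
    rw [hSN, Nat.card_eq_fintype_card, Fintype.card_subtype]
  rw [hcard, inv_pow, inv_eq_one] at hD
  exact hD

/-- conjugation by an element of `F ≤ N_G(V)`, as an endomorphism of `V` -/
def cj {G : Type*} [Group G] (V F : Subgroup G)
    (hFV : F ≤ Subgroup.normalizer (V : Set G)) (f : F) : V →* V where
  toFun v := ⟨(f : G) * v * (f : G)⁻¹, by
    have := hFV f.2
    rw [Subgroup.mem_normalizer_iff] at this
    exact (this v).mp v.2⟩
  map_one' := by ext; simp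
  map_mul' a b := by ext; simp [mul_assoc]

theorem cj_coe {G : Type*} [Group G] (V F : Subgroup G)
    (hFV : F ≤ Subgroup.normalizer (V : Set G)) (f : F) (v : V) :
    ((cj V F hFV f v : V) : G) = (f : G) * v * (f : G)⁻¹ := rfl

open scoped IsMulCommutative in
/-- A Frobenius group acting on a nontrivial abelian group of order prime to that of its kernel, with the kernel acting without nontrivial fixed points, has a complement with a nontrivial fixed point. -/
theorem result {G : Type*} [Group G] [Finite G] (V F : Subgroup G) (hVab : IsMulCommutative V) (hV1 : V ≠ ⊥) (hFV : F ≤ Subgroup.normalizer (V : Set G)) (H : Subgroup ↥F) (hH : Cfsg.IsFrobeniusComplement H) (hcop : (Nat.card V).Coprime (Nat.card (Cfsg.frobeniusKernel H))) (hCK : V ⊓ Subgroup.centralizer (Subtype.val '' Cfsg.frobeniusKernel H : Set G) = ⊥) : V ⊓ Subgroup.centralizer ((H.map F.subtype : Subgroup G) : Set G) ≠ ⊥ := by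
  intro hcon
  obtain ⟨N, hN, hNn, hc⟩ := Cfsg.Agent.S0035.result H hH
  have hkey : ∀ v : V, v ^ Nat.card N = 1 := by
    intro v
    refine key H N hH hN hNn hc (cj V F hFV) ?_ ?_ ?_ ?_ v
    · intro v; apply Subtype.ext; rw [cj_coe]; simp
    · intro f g v; apply Subtype.ext; simp only [cj_coe, Subgroup.coe_mul, mul_inv_rev]; group
    · intro w hw
      have hmem : (w : G) ∈ V ⊓ Subgroup.centralizer (Subtype.val '' Cfsg.frobeniusKernel H : Set G) := by
        refine Subgroup.mem_inf.mpr ⟨w.2, ?_⟩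
        rw [Subgroup.mem_centralizer_iff]
        rintro _ ⟨k, hk, rfl⟩
        have hkN : k ∈ N := by
          have : k ∈ (N : Set F) := by rw [hN]; exact hk
          exact this
        have h2 := congrArg (Subtype.val) (hw k hkN)
        rw [cj_coe] at h2
        calc (k : G) * w = (k : G) * w * (k : G)⁻¹ * k := by group
          _ = w * k := by rw [h2]
      rw [hCK, Subgroup.mem_bot] at hmem
      exact Subtype.ext hmem
    · intro w hw
      have hmem : (w : G) ∈ V ⊓ Subgroup.centralizer ((H.map F.subtype : Subgroup G) : Set G) := by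
        refine Subgroup.mem_inf.mpr ⟨w.2, ?_⟩
        rw [Subgroup.mem_centralizer_iff]
        rintro _ ⟨k, hk, rfl⟩
        have h2 := congrArg (Subtype.val) (hw k hk)
        rw [cj_coe] at h2
        calc (F.subtype k : G) * w = (k : G) * w * (k : G)⁻¹ * k := by
              simp only [Subgroup.coe_subtype]; group
          _ = w * F.subtype k := by rw [h2]; rfl
      rw [hcon, Subgroup.mem_bot] at hmem
      exact Subtype.ext hmem
  have hcardN : Nat.card N = Nat.card (Cfsg.frobeniusKernel H) := by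
    have : Nat.card N = Nat.card ((N : Set F)) := rfl
    rw [this, hN]
  apply hV1
  rw [Subgroup.eq_bot_iff_forall]
  intro x hx
  have h1 := hkey ⟨x, hx⟩
  have h2 : orderOf (⟨x, hx⟩ : V) ∣ Nat.card N := orderOf_dvd_of_pow_eq_one h1
  have h3 : orderOf (⟨x, hx⟩ : V) ∣ Nat.card V := orderOf_dvd_natCard _
  rw [hcardN] at h2
  have h4 : orderOf (⟨x, hx⟩ : V) = 1 := Nat.eq_one_of_dvd_coprimes hcop h3 h2
  rw [orderOf_eq_one_iff] at h4
  exact congrArg Subtype.val h4

end Cfsg.Agent.S0666
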