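import Mathlib
import Cfsg.Statements.S0668

set_option autoImplicit false
open Cfsg

namespace Cfsg.Agent.S0668

open MulAction

variable {G : Type*} [Group G] {K : Type*} [Field K] {Ω₁ Ω₂ : Type*} [Fintype Ω₁] [Fintype Ω₂]
  [MulAction G Ω₁] [MulAction G Ω₂]

theorem permRep_apply {Ω : Type*} [MulAction G Ω] (g : G) (v : Ω → K) (x : Ω) :
    Cfsg.permRep K G Ω g v x = v (g⁻¹ • x) := rfl

theorem permRep_inv_single [DecidableEq Ω₁] (g : G) (a : Ω₁) :
    Cfsg.permRep K G Ω₁ g⁻¹ (Pi.single (g • a) (1 : K)) = Pi.single a 1 := by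
  funext x
  rw [permRep_apply, inv_inv, Pi.single_apply, Pi.single_apply]
  by_cases hx : x = a
  · rw [if_pos hx, if_pos (by rw [hx])]
  · rw [if_neg hx, if_neg (fun e => hx (MulAction.injective g e))]

theorem key [DecidableEq Ω₁] (f : (Ω₁ → K) →ₗ[K] (Ω₂ → K))
    (hf : f ∈ ((Cfsg.permRep K G Ω₁).linHom (Cfsg.permRep K G Ω₂)).invariants) (g : G) (a : Ω₁)
    (b : Ω₂) : f (Pi.single (g • a) 1) (g • b) = f (Pi.single a 1) b := by
  have h1 := (Representation.mem_invariants _ _).1 hf g
  rw [Representation.linHom_apply] at h1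
  have h2 := congrFun (LinearMap.congr_fun h1 (Pi.single (g • a) 1)) (g • b)
  rw [LinearMap.comp_apply, LinearMap.comp_apply, permRep_apply, inv_smul_smul,
    permRep_inv_single] at h2
  exact h2.symm

/-- The equivariant linear maps between the permutation modules of two finite `G`-sets form a space whose dimension is the number of `G`-orbits on the product of the two sets. -/
theorem result {G : Type*} [Group G] {K : Type*} [Field K] {Ω₁ Ω₂ : Type*} [Fintype Ω₁] [Fintype Ω₂] [MulAction G Ω₁] [MulAction G Ω₂] : Module.finrank K ((Cfsg.permRep K G Ω₁).linHom (Cfsg.permRep K G Ω₂)).invariants = Nat.card (MulAction.orbitRel.Quotient G (Ω₁ × Ω₂)) := by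
  classical
  set Q := MulAction.orbitRel.Quotient G (Ω₁ × Ω₂) with hQ
  set I := ((Cfsg.permRep K G Ω₁).linHom (Cfsg.permRep K G Ω₂)).invariants with hI
  -- the map to functions on orbits
  let Φ : I →ₗ[K] (Q → K) :=
    { toFun := fun f q => Quotient.liftOn' q (fun ab => (f : (Ω₁ → K) →ₗ[K] (Ω₂ → K))
          (Pi.single ab.1 1) ab.2) (by
        rintro ⟨a, b⟩ ⟨a', b'⟩ hab
        rw [orbitRel_apply] at hab
        obtain ⟨g, hg⟩ := hab
        have h1 : g • a' = a := congrArg Prod.fst hg
        have h2 : g • b' = b := congrArg Prod.snd hg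
        show (f : (Ω₁ → K) →ₗ[K] (Ω₂ → K)) (Pi.single a 1) b =
          (f : (Ω₁ → K) →ₗ[K] (Ω₂ → K)) (Pi.single a' 1) b'
        rw [← h1, ← h2]
        exact key f.1 f.2 g a' b')
      map_add' := by
        intro f f'
        funext q
        induction q using Quotient.inductionOn' with | _ ab => ?_
        rfl
      map_smul' := by
        intro c f
        funext q
        induction q using Quotient.inductionOn' with | _ ab => ?_
        rfl }
  have hΦ : ∀ (f : I) (a : Ω₁) (b : Ω₂), Φ f (Quotient.mk'' (a, b)) =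
      (f : (Ω₁ → K) →ₗ[K] (Ω₂ → K)) (Pi.single a 1) b := fun f a b => rfl
  have hinj : Function.Injective Φ := by
    rw [injective_iff_map_eq_zero]
    intro f hf
    apply Subtype.ext
    apply LinearMap.pi_ext
    intro a x
    funext b
    have h1 : Pi.single a x = x • (Pi.single a (1 : K) : Ω₁ → K) := by
      rw [← Pi.single_smul, smul_eq_mul, mul_one]
    have h2 := congrFun hf (Quotient.mk'' (a, b))
    rw [hΦ] at h2
    rw [h1, map_smul, Pi.smul_apply, h2]
    simp
  have hsurj : Function.Surjective Φ := by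
    intro φ
    let f : (Ω₁ → K) →ₗ[K] (Ω₂ → K) :=
      { toFun := fun v b => ∑ a, φ (Quotient.mk'' (a, b)) * v a
        map_add' := by
          intro v w
          funext b
          simp only [Pi.add_apply, mul_add, Finset.sum_add_distrib]
        map_smul' := by
          intro c v
          funext b
          simp only [Pi.smul_apply, smul_eq_mul, RingHom.id_apply, Finset.mul_sum]
          apply Finset.sum_congr rfl
          intro a _
          ring }
    have hfapp : ∀ v b, f v b = ∑ a, φ (Quotient.mk'' (a, b)) * v a := fun v b => rfl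
    have hfI : f ∈ I := by
      rw [hI, Representation.mem_invariants]
      intro g
      rw [Representation.linHom_apply]
      apply LinearMap.ext
      intro v
      funext b
      rw [LinearMap.comp_apply, LinearMap.comp_apply, permRep_apply, hfapp, hfapp]
      rw [← Fintype.sum_equiv (MulAction.toPerm g⁻¹) (fun a' => φ (Quotient.mk'' (a', b)) * v a')
        (fun a => φ (Quotient.mk'' (a, g⁻¹ • b)) * (Cfsg.permRep K G Ω₁ g⁻¹ v) a)]
      intro a'
      rw [permRep_apply, inv_inv, MulAction.toPerm_apply, smul_inv_smul]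
      congr 2
      apply Quotient.sound'
      rw [orbitRel_apply]
      exact ⟨g, by show (g • g⁻¹ • a', g • g⁻¹ • b) = (a', b); rw [smul_inv_smul, smul_inv_smul]⟩
    refine ⟨⟨f, hfI⟩, ?_⟩
    funext q
    induction q using Quotient.inductionOn' with | _ ab => ?_
    obtain ⟨a, b⟩ := ab
    rw [hΦ]
    show f (Pi.single a 1) b = _
    rw [hfapp]
    rw [Finset.sum_eq_single a]
    · rw [Pi.single_eq_same, mul_one]
    · intro a' _ ha'
      rw [Pi.single_eq_of_ne ha', mul_zero]
    · intro ha
      exact absurd (Finset.mem_univ a) ha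
  have e : I ≃ₗ[K] (Q → K) := LinearEquiv.ofBijective Φ ⟨hinj, hsurj⟩
  have : Fintype Q := Fintype.ofFinite Q
  rw [e.finrank_eq, Module.finrank_fintype_fun_eq_card, Nat.card_eq_fintype_card]

end Cfsg.Agent.S0668
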