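import Mathlib
import Cfsg.Statements.S0669

set_option autoImplicit false
open Cfsg

namespace Cfsg.Agent.S0669

open MulAction

/-- The rank of a transitive action: orbits on ordered pairs correspond to orbits of a point stabiliser. -/
theorem result {G : Type*} [Group G] {Ω : Type*} [Finite Ω] [MulAction G Ω] [MulAction.IsPretransitive G Ω] (a : Ω) : Nat.card (MulAction.orbitRel.Quotient G (Ω × Ω)) = Nat.card (MulAction.orbitRel.Quotient (MulAction.stabilizer G a) Ω) := by
  symm
  let f : orbitRel.Quotient (stabilizer G a) Ω → orbitRel.Quotient G (Ω × Ω) :=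
    Quotient.map' (s₁ := orbitRel (stabilizer G a) Ω) (s₂ := orbitRel G (Ω × Ω))
      (fun b => (a, b)) (by
        intro b b' h
        rw [orbitRel_apply] at h ⊢
        obtain ⟨g, hg⟩ := h
        refine ⟨(g : G), ?_⟩
        have h1 : (g : G) • a = a := g.2
        have h2 : (g : G) • b' = b := hg
        show ((g : G) • a, (g : G) • b') = (a, b)
        rw [h1, h2])
  apply Nat.card_congr
  refine Equiv.ofBijective f ⟨?_, ?_⟩
  · intro q q'
    induction q using Quotient.inductionOn' with | _ b => ?_
    induction q' using Quotient.inductionOn' with | _ b' => ?_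
    intro h
    have h' : (Quotient.mk'' (a, b) : orbitRel.Quotient G (Ω × Ω)) = Quotient.mk'' (a, b') := h
    rw [Quotient.eq''] at h'
    rw [orbitRel_apply] at h'
    obtain ⟨g, hg⟩ := h'
    have h1 : g • a = a := congrArg Prod.fst hg
    have h2 : g • b' = b := congrArg Prod.snd hg
    apply Quotient.sound'
    rw [orbitRel_apply]
    exact ⟨⟨g, h1⟩, h2⟩
  · intro q
    induction q using Quotient.inductionOn' with | _ cd => ?_
    obtain ⟨c, d⟩ := cd
    obtain ⟨g, hg⟩ := exists_smul_eq G c a
    refine ⟨Quotient.mk'' (g • d), ?_⟩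
    show (Quotient.mk'' (a, g • d) : orbitRel.Quotient G (Ω × Ω)) = Quotient.mk'' (c, d)
    apply Quotient.sound'
    rw [orbitRel_apply]
    refine ⟨g, ?_⟩
    show (g • c, g • d) = (a, g • d)
    rw [hg]

end Cfsg.Agent.S0669
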