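import Mathlib
import Cfsg.Statements.S0670
import Cfsg.Agent.Lib.Helper4.PGroupFixed

set_option autoImplicit false
open Cfsg

namespace Cfsg.Agent.S0670

open Cfsg.Agent.Helper4

/-- In characteristic `p`, the permutation module of a transitive action of degree `p ^ f` has the line of constant functions as its only irreducible submodule: every non-zero subrepresentation contains it. -/
theorem result {G : Type*} [Group G] [Finite G] {K : Type*} [Field K] {p f : ℕ} [Fact p.Prime] [CharP K p] {Ω : Type*} [Fintype Ω] [MulAction G Ω] [MulAction.IsPretransitive G Ω] (hf : 1 ≤ f) (hcard : Fintype.card Ω = p ^ f) (W : Subrepresentation (Cfsg.permRep K G Ω)) (hW : W.toSubmodule ≠ ⊥) : (Cfsg.permConstants K G Ω).toSubmodule ≤ W.toSubmodule := by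
  have hcard' : Nat.card Ω = p ^ f := by rw [Nat.card_eq_fintype_card, hcard]
  obtain ⟨P⟩ : Nonempty (Sylow p G) := inferInstance
  have hPtrans : MulAction.IsPretransitive P Ω := sylow_isPretransitive hcard' P
  have hPp : IsPGroup p P := P.isPGroup'
  set ρ : Representation K P (Ω → K) := (Cfsg.permRep K G Ω).comp (P : Subgroup G).subtype with hρ
  have hρapp : ∀ (g : P) (v : Ω → K) (x : Ω), ρ g v x = v ((g : G)⁻¹ • x) := fun g v x => rfl
  obtain ⟨w, hwW, hw0, hwfix⟩ := exists_fixed_ne_zero hPp ρ W.toSubmodule.toAddSubgroup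
    (fun g w hw => W.apply_mem_toSubmodule (g : G) hw)
    (by
      intro h
      apply hW
      rw [eq_bot_iff]
      intro v hv
      have : v ∈ W.toSubmodule.toAddSubgroup := hv
      rw [h, AddSubgroup.mem_bot] at this
      rw [this]; exact Submodule.zero_mem _)
  -- w is constant
  have hconst : ∀ x y : Ω, w x = w y := by
    intro x y
    obtain ⟨g, hg⟩ := MulAction.exists_smul_eq P y x
    have h1 := congrFun (hwfix g) x
    rw [hρapp] at h1
    rw [← h1, ← hg]
    congr 1
    show (g : G)⁻¹ • ((g : G) • y) = y
    rw [inv_smul_smul]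
  have hne : Nonempty Ω := by
    by_contra h
    rw [not_nonempty_iff] at h
    apply hw0
    funext x
    exact (h.false x).elim
  obtain ⟨a⟩ := hne
  have hwa : w a ≠ 0 := by
    intro h
    apply hw0
    funext x
    rw [hconst x a, h]; rfl
  have hone : (fun _ : Ω => (1 : K)) = (w a)⁻¹ • w := by
    funext x
    rw [Pi.smul_apply, smul_eq_mul, hconst x a, inv_mul_cancel₀ hwa]
  show Submodule.span K {fun _ => 1} ≤ W.toSubmodule
  rw [Submodule.span_le, Set.singleton_subset_iff, hone]
  exact W.toSubmodule.smul_mem _ hwW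

end Cfsg.Agent.S0670
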