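import Mathlib
import Cfsg.Statements.S0677
import Cfsg.Agent.S0675
import Cfsg.Agent.Lib.Helper4.PrimeIndexP
import Cfsg.Agent.Lib.Helper4.SmallPermSolvable
import Cfsg.Agent.Lib.Helper1.HallConj
-- import your own Cfsg.Agent.* helpers here

set_option autoImplicit false
open Cfsg
open scoped Pointwise

namespace Cfsg.Agent.S0677

/-- In a transitive permutation group of prime degree `p` whose Sylow `p`-normaliser has even order, the point stabilisers are the only subgroups of index `p`. -/
theorem result {α : Type*} [Fintype α] [DecidableEq α] {p : ℕ} [Fact p.Prime] (hα : Fintype.card α = p) (G : Subgroup (Equiv.Perm α)) [MulAction.IsPretransitive G α] (P : Sylow p G) (heven : Even (Nat.card (Subgroup.normalizer ((P : Subgroup G) : Set G)))) (H : Subgroup G) (hH : H.index = p) : ∃ a : α, H = MulAction.stabilizer G a := by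
  classical
  have hp : p.Prime := Fact.out
  have hpH := Cfsg.Agent.Helper4.PrimeIndexP.not_dvd_card_of_index hα G H hH
  have hHG : Nat.card ↥H * p = Nat.card ↥G := by rw [← hH]; exact Subgroup.card_mul_index H
  by_cases hsol : Group.IsSolvable G
  · -- Hall subgroups are conjugate
    haveI := hsol
    haveI : Nonempty α := by
      rw [← Fintype.card_pos_iff, hα]; exact hp.pos
    obtain ⟨a⟩ := ‹Nonempty α›
    have hK := Cfsg.Agent.Helper4.PrimeIndexP.card_stabilizer_mul hα G a
    have hKH : Nat.card ↥(MulAction.stabilizer ↥G a) = Nat.card ↥H :=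
      Nat.eq_of_mul_eq_mul_right hp.pos (hK.trans hHG.symm)
    have hcop : (Nat.card ↥H).Coprime p :=
      (Nat.Coprime.symm ((Nat.Prime.coprime_iff_not_dvd hp).mpr hpH))
    obtain ⟨x, hx⟩ := Cfsg.Agent.Helper1.hall_conj (Nat.card ↥H) p hHG.symm hcop
      (MulAction.stabilizer ↥G a) H hKH rfl
    refine ⟨x • a, ?_⟩
    rw [MulAction.stabilizer_smul_eq_stabilizer_map_conj, ← hx]
    rfl
  · have hp2 : p ≠ 2 := by
      intro h2
      apply hsol
      have := Cfsg.Agent.Helper4.perm_isSolvable_of_card_two (α := α) (hα.trans h2)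
      infer_instance
    have h2t : MulAction.IsMultiplyPretransitive G α 2 := by
      rcases Cfsg.Agent.S0675.result (by rw [hα]; exact hp) G with h | h
      · exact absurd h hsol
      · exact h
    obtain ⟨e, g, t, hg, ht, htH⟩ :=
      Cfsg.Agent.Helper4.PrimeIndexP.exists_dihedral_in hα hp2 G P heven H hH
    exact ⟨e 0, Cfsg.Agent.Helper4.PrimeIndexP.eq_stabilizer hα hp2 G h2t H hH e g t hg ht htH⟩

end Cfsg.Agent.S0677
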