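import Mathlib
import Cfsg.Statements.S0681
import Cfsg.Agent.Lib.Helper4.NearField

set_option autoImplicit false
open Cfsg

namespace Cfsg.Agent.S0681

open Cfsg.Agent.Helper4.NF

/-- The group of affine maps of a near-field. -/
def affH (F : Type*) [Cfsg.NearField F] : Subgroup (Equiv.Perm F) where
  carrier := {σ | ∃ a b : F, a ≠ 0 ∧ ∀ x : F, σ x = x * a + b}
  one_mem' := ⟨1, 0, one_ne_zero', fun x => by simp⟩
  mul_mem' := by
    rintro σ τ ⟨a, b, ha, hσ⟩ ⟨c, d, hc, hτ⟩
    refine ⟨c * a, d * a + b, mul_ne_zero' hc ha, fun x => ?_⟩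
    rw [Equiv.Perm.mul_apply, hτ, hσ, add_mul', mul_assoc, add_assoc]
  inv_mem' := by
    rintro σ ⟨a, b, ha, hσ⟩
    obtain ⟨a', h1, h2⟩ := Cfsg.NearField.exists_inv a ha
    refine ⟨a', (-b) * a', inv_ne_zero' h1, fun y => ?_⟩
    apply σ.injective
    rw [Equiv.Perm.inv_def, Equiv.apply_symm_apply, hσ, add_mul', mul_assoc, mul_assoc, h2, mul_one, mul_one,
      add_assoc, neg_add_cancel, add_zero]

theorem mem_affH {F : Type*} [Cfsg.NearField F] (σ : Equiv.Perm F) :
    σ ∈ affH F ↔ ∃ a b : F, a ≠ 0 ∧ ∀ x : F, σ x = x * a + b := Iff.rfl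

/-- The affine maps `x ↦ x * a + b`, `a ≠ 0`, of a near-field form a sharply doubly transitive permutation group. -/
theorem result {F : Type*} [Cfsg.NearField F] : ∃ H : Subgroup (Equiv.Perm F), (∀ σ : Equiv.Perm F, σ ∈ H ↔ ∃ a b : F, a ≠ 0 ∧ ∀ x : F, σ x = x * a + b) ∧ MulAction.IsMultiplyPretransitive H F 2 ∧ ∀ x : Fin 2 ↪ F, MulAction.stabilizer H x = ⊥ := by
  refine ⟨affH F, mem_affH, ?_, ?_⟩
  · rw [MulAction.isMultiplyPretransitive_iff]
    intro x y
    have hx : x 0 - x 1 ≠ 0 := by
      rw [sub_ne_zero]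
      intro h
      have := x.injective h
      exact absurd this (by decide)
    have hy : y 0 - y 1 ≠ 0 := by
      rw [sub_ne_zero]
      intro h
      have := y.injective h
      exact absurd this (by decide)
    obtain ⟨d, hd1, hd2⟩ := Cfsg.NearField.exists_inv _ hx
    -- a = d * (y0 - y1), b = -(x0 * a) + y0
    set a := d * (y 0 - y 1) with ha
    have ha0 : a ≠ 0 := mul_ne_zero' (inv_ne_zero' hd1) hy
    have hkey : (x 0 - x 1) * a = y 0 - y 1 := by
      rw [ha, ← mul_assoc, hd1, one_mul]
    set b := -(x 0 * a) + y 0 with hb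
    -- build the permutation
    obtain ⟨a', h1, h2⟩ := Cfsg.NearField.exists_inv a ha0
    let σ : Equiv.Perm F :=
      { toFun := fun z => z * a + b
        invFun := fun z => (z - b) * a'
        left_inv := by
          intro z
          show (z * a + b - b) * a' = z
          rw [add_sub_cancel_right, mul_assoc, h1, mul_one]
        right_inv := by
          intro z
          show (z - b) * a' * a + b = z
          rw [mul_assoc, h2, mul_one, sub_add_cancel] }
    have hσ : σ ∈ affH F := ⟨a, b, ha0, fun z => rfl⟩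
    refine ⟨⟨σ, hσ⟩, ?_⟩
    ext i
    rw [Function.Embedding.smul_apply]
    show x i * a + b = y i
    fin_cases i
    · show x 0 * a + b = y 0
      rw [hb, ← add_assoc, add_neg_cancel, zero_add]
    · show x 1 * a + b = y 1
      rw [sub_mul'] at hkey
      -- x0*a - x1*a = y0 - y1
      have h3 : x 1 * a = y 1 - y 0 + x 0 * a :=
        sub_eq_iff_eq_add.1 (by rw [← neg_sub, hkey, neg_sub])
      rw [h3, hb, add_assoc, add_neg_cancel_left, sub_add_cancel]
  · intro x
    rw [eq_bot_iff]
    rintro ⟨σ, a, b, ha, hσ⟩ hstab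
    rw [Subgroup.mem_bot]
    rw [MulAction.mem_stabilizer_iff] at hstab
    have h0 : x 0 * a + b = x 0 := by
      have : σ (x 0) = x 0 := DFunLike.congr_fun hstab 0
      rw [← hσ]; exact this
    have h1 : x 1 * a + b = x 1 := by
      have : σ (x 1) = x 1 := DFunLike.congr_fun hstab 1
      rw [← hσ]; exact this
    have hx : x 0 - x 1 ≠ 0 := by
      rw [sub_ne_zero]
      intro h
      have := x.injective h
      exact absurd this (by decide)
    have h2 : (x 0 - x 1) * a = (x 0 - x 1) * 1 := by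
      rw [sub_mul', mul_one]
      have : x 0 * a - x 1 * a = (x 0 * a + b) - (x 1 * a + b) := by
        rw [add_sub_add_right_eq_sub]
      rw [this, h0, h1]
    have ha1 : a = 1 := mul_left_cancel' hx h2
    have hb0 : b = 0 := by
      rw [ha1, mul_one] at h0
      exact left_eq_add.1 h0.symm
    apply Subtype.ext
    show σ = 1
    ext z
    rw [hσ, ha1, hb0, mul_one, add_zero]
    rfl

end Cfsg.Agent.S0681
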