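import Mathlib
import Cfsg.Statements.S0682
import Cfsg.Agent.Lib.Helper4.NearField

set_option autoImplicit false
open Cfsg

namespace Cfsg.Agent.S0682

open Cfsg.Agent.Helper4.NF

/-- A finite near-field has prime-power order; its additive group is commutative of prime exponent. -/
theorem result {F : Type*} [Cfsg.NearField F] [Finite F] : ∃ p j : ℕ, p.Prime ∧ 1 ≤ j ∧ Nat.card F = p ^ j ∧ (∀ x y : F, x + y = y + x) ∧ ∀ x : F, p • x = 0 := by
  have hnt : Nontrivial F := ⟨⟨0, 1, Cfsg.NearField.zero_ne_one⟩⟩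
  have hcard : 1 < Nat.card F := Finite.one_lt_card
  set p := (Nat.card F).minFac with hp
  have hpp : p.Prime := Nat.minFac_prime (by omega)
  have : Fact p.Prime := ⟨hpp⟩
  have hdvd : p ∣ Nat.card F := Nat.minFac_dvd _
  obtain ⟨x0, hx0⟩ := exists_prime_addOrderOf_dvd_card' p hdvd
  have hx0ne : x0 ≠ 0 := by
    rintro rfl
    rw [addOrderOf_zero] at hx0
    exact hpp.one_lt.ne hx0
  have hpx0 : p • x0 = 0 := by rw [← hx0]; exact addOrderOf_nsmul_eq_zero x0
  -- every non-zero element is a right multiple of x0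
  have hmult : ∀ (z : F), z ≠ 0 → ∀ x : F, ∃ a : F, x = z * a := by
    intro z hz x
    obtain ⟨z', hz1, _⟩ := Cfsg.NearField.exists_inv z hz
    exact ⟨z' * x, by rw [← mul_assoc, hz1, one_mul]⟩
  have hexp : ∀ x : F, p • x = 0 := by
    intro x
    obtain ⟨a, rfl⟩ := hmult x0 hx0ne x
    rw [← nsmul_mul', hpx0, zero_mul']
  have hPG : IsPGroup p (Multiplicative F) := by
    intro g
    refine ⟨1, ?_⟩
    rw [pow_one]
    exact congrArg Multiplicative.ofAdd (hexp (Multiplicative.toAdd g))
  obtain ⟨j, hj⟩ := IsPGroup.iff_card.mp hPG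
  have hj' : Nat.card F = p ^ j := by
    rw [← hj]; exact (Nat.card_congr Multiplicative.ofAdd)
  have hj1 : 1 ≤ j := by
    rcases Nat.eq_zero_or_pos j with h | h
    · rw [h, pow_zero] at hj'; omega
    · exact h
  have hcomm : ∀ x y : F, x + y = y + x := by
    have hcn := IsPGroup.center_nontrivial hPG
    obtain ⟨⟨z, hz⟩, hz1⟩ := exists_ne (1 : Subgroup.center (Multiplicative F))
    have hzne : Multiplicative.toAdd z ≠ 0 := by
      intro h
      apply hz1
      apply Subtype.ext
      exact h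
    have hzc : ∀ y : F, Multiplicative.toAdd z + y = y + Multiplicative.toAdd z := by
      intro y
      have := (Subgroup.mem_center_iff.1 hz) (Multiplicative.ofAdd y)
      exact (congrArg Multiplicative.toAdd this).symm
    intro x y
    rcases eq_or_ne x 0 with rfl | hx
    · rw [zero_add, add_zero]
    obtain ⟨a, ha⟩ := hmult _ hzne x
    have ha0 : a ≠ 0 := by
      rintro rfl
      rw [mul_zero'] at ha
      exact hx ha
    obtain ⟨a', ha1, ha2⟩ := Cfsg.NearField.exists_inv a ha0
    have hy : y = (y * a') * a := by rw [mul_assoc, ha2, mul_one]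
    rw [ha, hy, ← add_mul', ← add_mul', hzc]
  exact ⟨p, j, hpp, hj1, hj', hcomm, hexp⟩

end Cfsg.Agent.S0682
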