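import Mathlib
import Cfsg.Statements.S0683
import Cfsg.Agent.Lib.Helper4.Sharp2NearField
import Cfsg.Agent.S0680

set_option autoImplicit false
open Cfsg

namespace Cfsg.Agent.S0683

open Cfsg.Agent.Helper4

/-- A finite sharply doubly transitive permutation group is the affine group of a near-field: the permuted set carries a near-field structure for which the group consists exactly of the maps `x ↦ x * a + b` with `a ≠ 0`. -/
theorem result {α : Type*} [Fintype α] [DecidableEq α] (H : Subgroup (Equiv.Perm α)) [MulAction.IsMultiplyPretransitive H α 2] (hsharp : ∀ x : Fin 2 ↪ α, MulAction.stabilizer H x = ⊥) (h2 : 2 ≤ Fintype.card α) : ∃ _ : Cfsg.NearField α, ∀ σ : Equiv.Perm α, σ ∈ H ↔ ∃ a b : α, a ≠ 0 ∧ ∀ x : α, σ x = x * a + b := by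
  have h := Cfsg.Agent.S0680.sharp2_of H hsharp
  have h2' : ∃ a b : α, a ≠ b := Fintype.one_lt_card_iff.1 h2
  obtain ⟨o, e, hoe⟩ := h2'
  have h2' : ∃ a b : α, a ≠ b := ⟨o, e, hoe⟩
  refine ⟨h.nearField h2' o e hoe, ?_⟩
  intro σ
  have hadd : ∀ x y : α, @HAdd.hAdd α α α (@instHAdd α (h.nearField h2' o e hoe).toAddGroup.toAdd) x y
      = h.tr h2' o x • y := fun x y => rfl
  have hmul : ∀ x y : α, @HMul.hMul α α α (@instHMul α (h.nearField h2' o e hoe).toMonoid.toMul) x y
      = h.nmul o e hoe x y := fun x y => rfl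
  have hzero : @OfNat.ofNat α 0 (@Zero.toOfNat0 α (h.nearField h2' o e hoe).toAddGroup.toZero) = o := rfl
  constructor
  · intro hσ
    set g : H := ⟨σ, hσ⟩ with hg
    have hgx : ∀ x : α, g • x = σ x := fun x => rfl
    set b := σ o with hb
    set k : H := (h.tr h2' o b)⁻¹ * g with hk
    have hko : k • o = o := by
      rw [hk, mul_smul, hgx, ← hb, inv_smul_eq_iff, h.tr_smul]
    have hke : k • e ≠ o := by
      intro he
      apply hoe
      apply MulAction.injective k
      show k • o = k • e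
      rw [hko, he]
    have hkeq : k = h.hm o e hoe (k • e) hke := h.hm_unique o e hoe hko hke rfl
    have hgeq : g = h.tr h2' o b * k := by rw [hk, mul_inv_cancel_left]
    refine ⟨k • e, b, ?_, ?_⟩
    · rw [hzero]; exact hke
    · intro x
      rw [hadd, hmul, h.tr_comm h2' o, h.nmul_of_ne o e hoe x hke, ← hkeq, ← mul_smul, ← hgeq, hgx]
  · rintro ⟨a, b, ha, hσ⟩
    rw [hzero] at ha
    have : σ = ((h.tr h2' o b * h.hm o e hoe a ha : H) : Equiv.Perm α) := by
      ext x
      rw [hσ x, hadd, hmul, h.tr_comm h2' o, h.nmul_of_ne o e hoe x ha]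
      show h.tr h2' o b • h.hm o e hoe a ha • x = (h.tr h2' o b * h.hm o e hoe a ha) • x
      rw [mul_smul]
    rw [this]
    exact (h.tr h2' o b * h.hm o e hoe a ha).2

end Cfsg.Agent.S0683
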