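import Mathlib
import Cfsg.Statements.S0685
import Cfsg.Agent.S0684

set_option autoImplicit false
open Cfsg

namespace Cfsg.Agent.S0685

/-- arithmetic core -/
theorem arith (p d n m t : ℕ) (hp : 2 ≤ p) (hd : 1 ≤ d) (hdn : 2 * d ≤ n) (hm : m ∣ p ^ d - 1)
    (ht : t ≤ m) (hH : p ^ n - 1 ≤ m * t) : False := by
  have hx : 2 ≤ p ^ d := by
    calc 2 ≤ p := hp
      _ = p ^ 1 := (pow_one p).symm
      _ ≤ p ^ d := Nat.pow_le_pow_right (by omega) hd
  have hm' : m ≤ p ^ d - 1 := Nat.le_of_dvd (by omega) hm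
  have h1 : p ^ (2 * d) ≤ p ^ n := Nat.pow_le_pow_right (by omega) hdn
  have h2 : p ^ (2 * d) = p ^ d * p ^ d := by rw [two_mul, pow_add]
  have h3 : m * t ≤ (p ^ d - 1) * (p ^ d - 1) := Nat.mul_le_mul hm' (ht.trans hm')
  obtain ⟨x, hx'⟩ : ∃ x, p ^ d = x + 2 := ⟨p ^ d - 2, by omega⟩
  rw [hx'] at h2 h3
  have h4 : (x + 2 - 1) * (x + 2 - 1) = x * x + 2 * x + 1 := by
    have : x + 2 - 1 = x + 1 := by omega
    rw [this]; ring
  have h5 : (x + 2) * (x + 2) = x * x + 4 * x + 4 := by ring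
  rw [h4] at h3
  rw [h5] at h2
  omega

/-- In a linear group over the prime field that is regular on non-zero vectors and has no irreducible cyclic normal subgroup, a maximal normal abelian subgroup is properly contained in its centraliser, which is non-abelian. -/
theorem result {p : ℕ} [Fact p.Prime] {V : Type*} [AddCommGroup V] [Module (ZMod p) V] [Finite V] (H : Subgroup (V ≃ₗ[ZMod p] V)) (hreg : ∀ v w : V, v ≠ 0 → w ≠ 0 → ∃! h : H, (h : V ≃ₗ[ZMod p] V) v = w) (hI : ∀ A : Subgroup H, A.Normal → IsCyclic A → ∃ W : Submodule (ZMod p) V, W ≠ ⊥ ∧ W ≠ ⊤ ∧ ∀ a ∈ A, ∀ v ∈ W, ((a : H) : V ≃ₗ[ZMod p] V) v ∈ W) (A : Subgroup H) (hAn : A.Normal) (hAc : IsMulCommutative A) (hAmax : ∀ B : Subgroup H, B.Normal → IsMulCommutative B → A ≤ B → B = A) : A < Subgroup.centralizer (A : Set H) ∧ ¬ IsMulCommutative (Subgroup.centralizer (A : Set H)) := by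
  classical
  obtain ⟨hcyc, W, hW0, hWtop, hWinv, hWmin, hdvd⟩ :=
    Cfsg.Agent.S0684.result H hreg hI A hAn hAc hAmax
  have hfinGL : Finite (V ≃ₗ[ZMod p] V) :=
    Finite.of_injective (fun e : V ≃ₗ[ZMod p] V => (e : V → V)) DFunLike.coe_injective
  obtain ⟨C, hC⟩ : ∃ C : Subgroup H, C = Subgroup.centralizer (A : Set H) := ⟨_, rfl⟩
  rw [← hC]
  have hAC : A ≤ C := by
    intro a ha
    rw [hC, Subgroup.mem_centralizer_iff]
    intro b hb
    have := hAc.is_comm.comm (⟨b, hb⟩ : A) ⟨a, ha⟩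
    exact congrArg Subtype.val this
  have hCn : C.Normal := by
    rw [hC]; infer_instance
  have key : C ≠ A := by
    intro hCA
    -- nonzero vector in `W`, vector outside `W`
    obtain ⟨w, hwW, hw0⟩ := (Submodule.ne_bot_iff W).1 hW0
    obtain ⟨v, hvW⟩ : ∃ v : V, v ∉ W := by
      by_contra hcon
      push Not at hcon
      exact hWtop (eq_top_iff.2 fun v _ => hcon v)
    have hv0 : v ≠ 0 := by
      rintro rfl
      exact hvW W.zero_mem
    obtain ⟨h, hh, -⟩ := hreg w v hw0 hv0
    -- the translate of `W`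
    let e : V ≃ₗ[ZMod p] V := (h : V ≃ₗ[ZMod p] V)
    let W' : Submodule (ZMod p) V := W.map (e : V →ₗ[ZMod p] V)
    have hvW' : v ∈ W' := ⟨w, hwW, hh⟩
    have hinv' : ∀ a ∈ A, ∀ x ∈ W ⊓ W', ((a : H) : V ≃ₗ[ZMod p] V) x ∈ W ⊓ W' := by
      intro a ha x hx
      refine ⟨hWinv a ha x hx.1, ?_⟩
      obtain ⟨y, hy, rfl⟩ := hx.2
      have hconj : h⁻¹ * a * h ∈ A := by
        have := hAn.conj_mem a ha h⁻¹
        rwa [inv_inv] at this
      refine ⟨((h⁻¹ * a * h : H) : V ≃ₗ[ZMod p] V) y, hWinv _ hconj y hy, ?_⟩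
      show e (((h⁻¹ * a * h : H) : V ≃ₗ[ZMod p] V) y) = ((a : H) : V ≃ₗ[ZMod p] V) (e y)
      have h5 : h * (h⁻¹ * a * h) = a * h := by group
      have h6 := congrArg (fun g : H => ((g : V ≃ₗ[ZMod p] V)) y) h5
      exact h6
    have hinf : W ⊓ W' = ⊥ := by
      rcases hWmin (W ⊓ W') inf_le_left hinv' with h1 | h1
      · exact h1
      · exfalso
        have h2 : W ≤ W' := by
          rw [← h1]; exact inf_le_right
        have h3 : Module.finrank (ZMod p) W' = Module.finrank (ZMod p) W :=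
          LinearEquiv.finrank_map_eq e W
        have h4 : W = W' := Submodule.eq_of_le_of_finrank_le h2 (le_of_eq h3)
        exact hvW (h4 ▸ hvW')
    have hrank : 2 * Module.finrank (ZMod p) W ≤ Module.finrank (ZMod p) V := by
      have h1 := Submodule.finrank_sup_add_finrank_inf_eq W W'
      have h3 : Module.finrank (ZMod p) W' = Module.finrank (ZMod p) W :=
        LinearEquiv.finrank_map_eq e W
      rw [hinf, finrank_bot, add_zero, h3] at h1
      have h2 := Submodule.finrank_le (W ⊔ W')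
      omega
    have hd1 : 1 ≤ Module.finrank (ZMod p) W := by
      rw [Nat.succ_le_iff, Module.finrank_pos_iff]
      exact (Submodule.nontrivial_iff_ne_bot).2 hW0
    -- `|H| = |V| - 1`
    have hHcard : Nat.card H = p ^ Module.finrank (ZMod p) V - 1 := by
      rw [FiniteField.pow_finrank_eq_natCard]
      have hbij : Function.Bijective (fun g : H => (⟨(g : V ≃ₗ[ZMod p] V) w, by
          intro h0
          exact hw0 ((g : V ≃ₗ[ZMod p] V).map_eq_zero_iff.mp h0)⟩ : {x : V // x ≠ 0})) := by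
        constructor
        · intro g₁ g₂ h12
          have h12' : (g₁ : V ≃ₗ[ZMod p] V) w = (g₂ : V ≃ₗ[ZMod p] V) w := congrArg Subtype.val h12
          have hne : (g₂ : V ≃ₗ[ZMod p] V) w ≠ 0 := fun h0 =>
            hw0 ((g₂ : V ≃ₗ[ZMod p] V).map_eq_zero_iff.mp h0)
          obtain ⟨g₀, -, huniq⟩ := hreg w _ hw0 hne
          rw [huniq g₁ h12', huniq g₂ rfl]
        · rintro ⟨x, hx⟩
          obtain ⟨g, hg, -⟩ := hreg w x hw0 hx
          exact ⟨g, Subtype.ext hg⟩
      rw [Nat.card_congr (Equiv.ofBijective _ hbij)]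
      have : Nat.card {x : V // x ≠ 0} = Nat.card V - 1 := by
        have h1 := Nat.card_congr (Equiv.optionSubtypeNe (0 : V))
        rw [Finite.card_option] at h1
        omega
      exact this
    -- `H / A` embeds in `Aut A`
    have := hAn
    let φ : H →* MulAut ↥A := MulAut.conjNormal
    have hker : φ.ker = C := by
      rw [hC]
      ext g
      rw [MonoidHom.mem_ker, Subgroup.mem_centralizer_iff]
      constructor
      · intro hg a ha
        have h1 := congrArg (fun σ : MulAut ↥A => ((σ ⟨a, ha⟩ : ↥A) : H)) hg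
        simp only [MulAut.one_apply] at h1
        have h2 : ((φ g ⟨a, ha⟩ : ↥A) : H) = g * a * g⁻¹ := MulAut.conjNormal_apply g ⟨a, ha⟩
        rw [h2] at h1
        calc a * g = (g * a * g⁻¹) * g := by rw [h1]
          _ = g * a := by group
      · intro hg
        ext a
        rw [MulAut.one_apply]
        have h2 : ((φ g a : ↥A) : H) = g * a * g⁻¹ := MulAut.conjNormal_apply g a
        rw [h2, ← hg a a.2]; group
    have hcardH : Nat.card H = Nat.card A * Nat.card φ.range := by
      have h1 := Subgroup.card_eq_card_quotient_mul_card_subgroup φ.ker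
      rw [Nat.card_congr (QuotientGroup.quotientKerEquivRange φ).toEquiv, hker, hCA] at h1
      rw [h1, mul_comm]
    have hrange : Nat.card φ.range ≤ Nat.card A := by
      have h1 : Nat.card φ.range ≤ Nat.card (MulAut ↥A) := Subgroup.card_le_card_group _
      have h2 : Nat.card (MulAut ↥A) = Nat.totient (Nat.card A) := IsCyclic.card_mulAut ↥A
      rw [h2] at h1
      exact h1.trans (Nat.totient_le _)
    exact arith p (Module.finrank (ZMod p) W) (Module.finrank (ZMod p) V) (Nat.card A)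
      (Nat.card φ.range) (Fact.out : p.Prime).two_le hd1 hrank hdvd hrange
      (by rw [← hHcard, hcardH])
  refine ⟨lt_of_le_of_ne hAC (Ne.symm key), ?_⟩
  intro hCc
  exact key (hAmax C hCn hCc hAC)

end Cfsg.Agent.S0685
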