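import Cfsg.Statements.S0686
import Cfsg.Agent.S0690
import Cfsg.Agent.Lib.Helper11.Zas120B

set_option autoImplicit false
open Cfsg

namespace Cfsg.Agent.S0686

open Cfsg.Agent.Helper4.Zas Cfsg.Agent.Helper11.Zas120

/-- In a linear group over the prime field that is regular on non-zero vectors and has no irreducible cyclic normal subgroup, let `A` be a maximal normal abelian subgroup and `N` a normal subgroup centralising `A` that is minimal among non-abelian normal subgroups centralising `A`. Then `N` is quaternion of order 8 or isomorphic to `SL(2,5)`. -/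
theorem result {p : ℕ} [Fact p.Prime] {V : Type*} [AddCommGroup V] [Module (ZMod p) V] [Finite V] (H : Subgroup (V ≃ₗ[ZMod p] V)) (hreg : ∀ v w : V, v ≠ 0 → w ≠ 0 → ∃! h : H, (h : V ≃ₗ[ZMod p] V) v = w) (hI : ∀ A : Subgroup H, A.Normal → IsCyclic A → ∃ W : Submodule (ZMod p) V, W ≠ ⊥ ∧ W ≠ ⊤ ∧ ∀ a ∈ A, ∀ v ∈ W, ((a : H) : V ≃ₗ[ZMod p] V) v ∈ W) (A : Subgroup H) (hAn : A.Normal) (hAc : IsMulCommutative A) (hAmax : ∀ B : Subgroup H, B.Normal → IsMulCommutative B → A ≤ B → B = A) (N : Subgroup H) (hNn : N.Normal) (hNle : N ≤ Subgroup.centralizer (A : Set H)) (hNna : ¬ IsMulCommutative N) (hNmin : ∀ M : Subgroup H, M.Normal → M ≤ N → ¬ IsMulCommutative M → M = N) : Nonempty (N ≃* QuaternionGroup 2) ∨ Nonempty (N ≃* Matrix.SpecialLinearGroup (Fin 2) (ZMod 5)) := by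
  classical
  have hZ : ZHyp :=
    fun K _ _ G hfpf hperf hne => Cfsg.Agent.S0690.result G hfpf hperf hne
  have comm_of : ∀ B : Subgroup H, Comm B → IsMulCommutative B :=
    fun B hB => ⟨⟨fun a b => Subtype.ext (hB a a.2 b b.2)⟩⟩
  have of_comm : ∀ B : Subgroup H, IsMulCommutative B → Comm B :=
    fun B hB a ha b hb => congrArg Subtype.val (hB.is_comm.comm ⟨a, ha⟩ ⟨b, hb⟩)
  have hNc : ¬ Comm N := fun h => hNna (comm_of N h)
  haveI : Nontrivial V := by
    by_contra hnt
    rw [not_nontrivial_iff_subsingleton] at hnt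
    apply hNc
    intro a _ b _
    apply Subtype.ext
    exact LinearEquiv.ext fun v => Subsingleton.elim _ _
  haveI : Finite H := finite_H
  have hA : MaxAb A :=
    ⟨hAn, of_comm A hAc, fun B hBn hBc hAB => hAmax B hBn (comm_of B hBc) hAB⟩
  have hNmin' : ∀ M : Subgroup H, M.Normal → M ≤ N → ¬ Comm M → M = N :=
    fun M hMn hMN hMc => hNmin M hMn hMN (fun h => hMc (of_comm M h))
  by_cases hperf : ⁅N, N⁆ = N
  · right
    refine perfect_iso hZ hreg N hperf ?_
    intro hbot
    apply hNc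
    intro a ha b hb
    rw [hbot, Subgroup.mem_bot] at ha hb
    rw [ha, hb]
  · left
    have hyp := q8Hyp' hreg hA hNn hNle hNc hNmin' hperf
    haveI : (N ⊓ A).Normal := inferInstance
    exact hyp.nonempty_mulEquiv

end Cfsg.Agent.S0686
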