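import Mathlib
import Cfsg.Statements.S0688
import Cfsg.Agent.S0685
import Cfsg.Agent.Lib.Helper4.ZasMain3

set_option autoImplicit false
open Cfsg
namespace Cfsg.Agent.S0688
/-- Degrees of the soluble exceptional sharply doubly transitive groups: if a solvable linear group over the prime field is regular on the non-zero vectors of `V` and has no irreducible cyclic normal subgroup, then `V` has 25, 49, 121 or 529 elements. -/
theorem result {p : ℕ} [Fact p.Prime] {V : Type*} [AddCommGroup V] [Module (ZMod p) V] [Finite V] (H : Subgroup (V ≃ₗ[ZMod p] V)) (hreg : ∀ v w : V, v ≠ 0 → w ≠ 0 → ∃! h : H, (h : V ≃ₗ[ZMod p] V) v = w) (hI : ∀ A : Subgroup H, A.Normal → IsCyclic A → ∃ W : Submodule (ZMod p) V, W ≠ ⊥ ∧ W ≠ ⊤ ∧ ∀ a ∈ A, ∀ v ∈ W, ((a : H) : V ≃ₗ[ZMod p] V) v ∈ W) (hsolv : Group.IsSolvable H) : Nat.card V = 25 ∨ Nat.card V = 49 ∨ Nat.card V = 121 ∨ Nat.card V = 529 := by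
  classical
  obtain ⟨W₀, hW₀, -, -⟩ := hI ⊥ inferInstance inferInstance
  haveI : Nontrivial V := by
    obtain ⟨x, -, hx⟩ := (Submodule.ne_bot_iff W₀).1 hW₀
    exact ⟨⟨x, 0, hx⟩⟩
  obtain ⟨A, hA⟩ := Cfsg.Agent.Helper4.Zas.exists_maxAb H
  have hAc : IsMulCommutative A := ⟨⟨fun a b => Subtype.ext (hA.comm a a.2 b b.2)⟩⟩
  have hAmax : ∀ B : Subgroup H, B.Normal → IsMulCommutative B → A ≤ B → B = A :=
    fun B hBn hBc hAB => hA.max B hBn
      (fun a ha b hb => congrArg Subtype.val (hBc.is_comm.comm ⟨a, ha⟩ ⟨b, hb⟩)) hAB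
  obtain ⟨-, W, hW0, hWtop, hWinv, -, -⟩ :=
    Cfsg.Agent.S0684.result H hreg hI A hA.normal hAc hAmax
  obtain ⟨-, hCna⟩ := Cfsg.Agent.S0685.result H hreg hI A hA.normal hAc hAmax
  have hCc : ¬ Cfsg.Agent.Helper4.Zas.Comm (Subgroup.centralizer (A : Set H)) :=
    fun h => hCna ⟨⟨fun a b => Subtype.ext (h a a.2 b b.2)⟩⟩
  obtain ⟨N, hN⟩ := Cfsg.Agent.Helper4.Zas.structure_thm hreg hsolv hA hCc W hW0 hWtop hWinv
  rcases hN.hp with h | h | h | h <;> rw [hN.cardV, h] <;> norm_num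
end Cfsg.Agent.S0688
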