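import Mathlib
import Cfsg.Statements.S0691
import Cfsg.Agent.Lib.Helper4.GL2Regular

set_option autoImplicit false
open Cfsg

namespace Cfsg.Agent.S0691

open Cfsg.Agent.Helper4.GL2

def gens : List ℕ := [253, 105, 183]
def L : List ℕ := [537, 617, 349, 309, 163, 491, 431, 223, 243, 411, 597, 45, 377, 471, 557, 369, 90, 289, 60, 504, 183, 105, 253, 126]

instance fact5 : Fact (Nat.Prime 5) := ⟨by norm_num⟩

/-- An exceptional sharply doubly transitive group of degree 5^2: the listed matrices generate a subgroup of GL(2,5) of order 24 acting regularly on the non-zero vectors. -/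
theorem result (A : Matrix.GeneralLinearGroup (Fin 2) (ZMod 5)) (B : Matrix.GeneralLinearGroup (Fin 2) (ZMod 5)) (C : Matrix.GeneralLinearGroup (Fin 2) (ZMod 5)) (hA : (A : Matrix (Fin 2) (Fin 2) (ZMod 5)) = !![2, 0; 0, -2]) (hB : (B : Matrix (Fin 2) (Fin 2) (ZMod 5)) = !![0, -1; 1, 0]) (hC : (C : Matrix (Fin 2) (Fin 2) (ZMod 5)) = !![1, 2; 1, -2]) : Nat.card (Subgroup.closure ({A, B, C} : Set (Matrix.GeneralLinearGroup (Fin 2) (ZMod 5)))) = 24 ∧ ∀ v w : Fin 2 → ZMod 5, v ≠ 0 → w ≠ 0 → ∃! h : Subgroup.closure ({A, B, C} : Set (Matrix.GeneralLinearGroup (Fin 2) (ZMod 5))), Matrix.mulVec ((h : Matrix.GeneralLinearGroup (Fin 2) (ZMod 5)) : Matrix (Fin 2) (Fin 2) (ZMod 5)) v = w := by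
  have dA : dec 5 253 = (A : Matrix (Fin 2) (Fin 2) (ZMod 5)) := by rw [hA]; decide
  have dB : dec 5 105 = (B : Matrix (Fin 2) (Fin 2) (ZMod 5)) := by rw [hB]; decide
  have dC : dec 5 183 = (C : Matrix (Fin 2) (Fin 2) (ZMod 5)) := by rw [hC]; decide
  have := main 5 gens L (by decide) (by decide) (by decide) (by decide) (by decide) (by decide) (by decide)
    ({A, B, C} : Set (Matrix.GeneralLinearGroup (Fin 2) (ZMod 5)))
    (by
      rintro g (rfl | rfl | rfl)
      · exact ⟨253, by decide, dA⟩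
      · exact ⟨105, by decide, dB⟩
      · exact ⟨183, by decide, dC⟩)
    (by
      intro c hc
      simp only [gens, List.mem_cons, List.not_mem_nil, or_false] at hc
      rcases hc with rfl | rfl | rfl
      · exact ⟨A, by simp, dA.symm⟩
      · exact ⟨B, by simp, dB.symm⟩
      · exact ⟨C, by simp, dC.symm⟩)
  exact this

end Cfsg.Agent.S0691
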