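import Mathlib
import Cfsg.Statements.S0692
import Cfsg.Agent.Lib.Helper4.GL2Regular

set_option autoImplicit false
open Cfsg

namespace Cfsg.Agent.S0692

open Cfsg.Agent.Helper4.GL2

def gens : List ℕ := [1221, 3165]
def L : List ℕ := [5859, 6255, 10959, 6167, 9849, 13041, 14239, 10376, 2934, 7193, 10245, 8391, 5145, 9937, 11399, 6607, 4936, 12256, 11058, 3738, 3063, 8911, 5207, 7713, 1865, 5728, 13170, 1771, 11708, 4266, 573, 8245, 5448, 3453, 4705, 9497, 11168, 3848, 10776, 5046, 12366, 9435, 12761, 13882, 6913, 2121, 450, 7969, 14322, 4396, 11838, 890, 7859, 10535, 12651, 6803, 10666, 2011, 1159, 13531, 7420, 5951, 5338, 3343, 2211, 9191, 13983, 1013, 8135, 2745, 14639, 7318, 8472, 12121, 4790, 3515, 9301, 4107, 14093, 304, 2573, 8684, 10142, 14411, 7090, 5621, 2835, 829, 12028, 1465, 8786, 7511, 3983, 11314, 12468, 13589, 6741, 6401, 11937, 1693, 9014, 10472, 13269, 634, 4497, 2405, 9593, 2515, 8032, 9703, 4167, 12939, 231, 11607, 13699, 6511, 13320, 3165, 1221, 1332]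

instance fact11 : Fact (Nat.Prime 11) := ⟨by norm_num⟩

/-- An exceptional sharply doubly transitive group of degree 11^2: the listed matrices generate a subgroup of GL(2,11) of order 120 acting regularly on the non-zero vectors. -/
theorem result (A : Matrix.GeneralLinearGroup (Fin 2) (ZMod 11)) (B : Matrix.GeneralLinearGroup (Fin 2) (ZMod 11)) (hA : (A : Matrix (Fin 2) (Fin 2) (ZMod 11)) = !![0, -1; 1, 0]) (hB : (B : Matrix (Fin 2) (Fin 2) (ZMod 11)) = !![2, 4; 1, -3]) : Nat.card (Subgroup.closure ({A, B} : Set (Matrix.GeneralLinearGroup (Fin 2) (ZMod 11)))) = 120 ∧ ∀ v w : Fin 2 → ZMod 11, v ≠ 0 → w ≠ 0 → ∃! h : Subgroup.closure ({A, B} : Set (Matrix.GeneralLinearGroup (Fin 2) (ZMod 11))), Matrix.mulVec ((h : Matrix.GeneralLinearGroup (Fin 2) (ZMod 11)) : Matrix (Fin 2) (Fin 2) (ZMod 11)) v = w := by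
  have dA : dec 11 1221 = (A : Matrix (Fin 2) (Fin 2) (ZMod 11)) := by rw [hA]; decide
  have dB : dec 11 3165 = (B : Matrix (Fin 2) (Fin 2) (ZMod 11)) := by rw [hB]; decide
  have := main 11 gens L (by decide +kernel) (by decide +kernel) (by decide +kernel) (by decide +kernel) (by decide +kernel) (by decide +kernel) (by decide +kernel)
    ({A, B} : Set (Matrix.GeneralLinearGroup (Fin 2) (ZMod 11)))
    (by
      rintro g (rfl | rfl)
      · exact ⟨1221, by decide, dA⟩
      · exact ⟨3165, by decide, dB⟩)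
    (by
      intro c hc
      simp only [gens, List.mem_cons, List.not_mem_nil, or_false] at hc
      rcases hc with rfl | rfl
      · exact ⟨A, by simp, dA.symm⟩
      · exact ⟨B, by simp, dB.symm⟩)
  exact this

end Cfsg.Agent.S0692
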