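import Mathlib
import Cfsg.Statements.S0693
import Cfsg.Agent.Lib.Helper4.GL2Regular2

set_option autoImplicit false
open Cfsg

namespace Cfsg.Agent.S0693

open Cfsg.Agent.Helper4.GL2 Matrix

def gens : List ℕ := [201957, 1903566]
def LS : List ℕ := [640973, 1635945, 8471651, 7044625, 10690335, 9387235, 8919839, 10959432, 9999802, 8746321, 11685307, 8278925, 3854629, 5281655, 8560623, 7133597, 7992102, 4072220, 4330756, 8250638, 2939045, 3579959, 7910715, 4047355, 3406441, 1366848, 2326478, 6088595, 11164812, 10205182, 6555991, 6660597, 11193105, 5233571, 3765657, 5192683, 4334178, 8254060, 4415565, 7995524, 4075642, 1136597, 7096131, 6350611, 6455217, 5028191, 5883215, 5669105, 6237685, 1161468, 2121098, 5770289, 5665683, 1133175, 7092709, 6451795, 4412143, 5024769, 8061393, 947536, 12105208, 9488419, 11189683, 5230149, 5975669, 5871063, 7298089, 6443065, 6657175, 9378629, 4737888, 1026866, 10019543, 2453892, 6164914, 9289657, 5874485, 7914137, 7301511, 4264887, 11378744,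 221072, 2837861, 861986, 12019658, 9604767, 2019914, 8177741, 2947651, 7588392, 11299414, 2306737, 9872388, 6161366, 3036623, 2085724, 2395709, 3254214, 10100986, 11464294, 306622, 2721513, 10306366, 4148539, 2108946, 10237134, 9068644, 10240556, 9930571, 9072066, 2225294, 10422714, 6903, 10217334, 2089146, 3257636, 11912040, 1903566, 201957, 205380]

instance fact59 : Fact (Nat.Prime 59) := ⟨by norm_num⟩

/-- Bool check: `x * 4^k` fixes the first basis vector only for `x = 1`, `k = 0`. -/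
def rB : Bool :=
  LS.all fun x => (List.range 29).all fun k =>
    (!((4 ^ k * ua 59 x) % 59 == 1 && (4 ^ k * uc 59 x) % 59 == 0)) || (x == idC 59 && k == 0)

theorem hid : LS.elem (idC 59) = true := by decide +kernel
theorem hclosed : closedB 59 gens LS = true := by decide +kernel
theorem hcons : constructible 59 gens LS = true := by decide +kernel
theorem hred : redB 59 LS = true := by decide +kernel
theorem hnodup : nodupB LS = true := by decide +kernel
theorem hlen : LS.length = 120 := by decide +kernel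
theorem hrB : rB = true := by decide +kernel

abbrev G := Matrix.GeneralLinearGroup (Fin 2) (ZMod 59)
abbrev M := Matrix (Fin 2) (Fin 2) (ZMod 59)

theorem hid' : idC 59 ∈ LS := by simpa using hid
theorem hclosed' : ∀ g ∈ gens, ∀ x ∈ LS, mulC 59 g x ∈ LS := by simpa [closedB] using hclosed
theorem hred' : ∀ x ∈ LS, x < 59 * 59 * 59 * 59 := by simpa [redB] using hred
theorem hmem' : ∀ x ∈ LS, dec 59 x ∈ genMonoid 59 gens :=
  mem_genMonoid_of_constructible 59 gens LS hcons

theorem hrB' (x : ℕ) (hx : x ∈ LS) (k : ℕ) (hk : k < 29) (h1 : (4 ^ k * ua 59 x) % 59 = 1)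
    (h2 : (4 ^ k * uc 59 x) % 59 = 0) : x = idC 59 ∧ k = 0 := by
  have := (List.all_eq_true.1 ((List.all_eq_true.1 hrB) x hx)) k (List.mem_range.2 hk)
  simpa [h1, h2] using this

section
variable (A B C : G)
  (hA : (A : M) = !![0, -1; 1, 0]) (hB : (B : M) = !![9, 15; -10, -10])
  (hC : (C : M) = !![4, 0; 0, 4])

include hA hB in
theorem hS1 : ∀ g ∈ ({A, B} : Set G), ∃ c ∈ gens, dec 59 c = (g : M) := by
  have dA : dec 59 201957 = (A : M) := by rw [hA]; decide
  have dB : dec 59 1903566 = (B : M) := by rw [hB]; decide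
  rintro g (rfl | rfl)
  · exact ⟨201957, by decide, dA⟩
  · exact ⟨1903566, by decide, dB⟩

include hA hB in
theorem hS2 : ∀ c ∈ gens, ∃ g ∈ ({A, B} : Set G), (g : M) = dec 59 c := by
  have dA : dec 59 201957 = (A : M) := by rw [hA]; decide
  have dB : dec 59 1903566 = (B : M) := by rw [hB]; decide
  intro c hc
  simp only [gens, List.mem_cons, List.not_mem_nil, or_false] at hc
  rcases hc with rfl | rfl
  · exact ⟨A, by simp, dA.symm⟩
  · exact ⟨B, by simp, dB.symm⟩

include hC in
theorem hCval : (C : M) = (4 : ZMod 59) • (1 : M) := by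
  rw [hC]; decide

include hC in
theorem hCcomm (g : G) : C * g = g * C := by
  apply Units.ext
  rw [Units.val_mul, Units.val_mul, hCval C hC]
  simp

include hC in
theorem hCpow : C ^ 29 = 1 := by
  apply Units.ext
  rw [Units.val_pow_eq_pow_val, hCval C hC, smul_pow, one_pow]
  have : (4 : ZMod 59) ^ 29 = 1 := by decide
  rw [this, one_smul]
  rfl

include hC in
theorem hCpowval (k : ℕ) : ((C ^ k : G) : M) = ((4 : ZMod 59) ^ k) • (1 : M) := by
  rw [Units.val_pow_eq_pow_val, hCval C hC, smul_pow, one_pow]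

include hC in
/-- every element of the big closure is `s * C ^ k` with `s` in the small closure -/
theorem decomp : ∀ h ∈ Subgroup.closure ({A, B, C} : Set G),
    ∃ s ∈ Subgroup.closure ({A, B} : Set G), ∃ k : ℕ, k < 29 ∧ h = s * C ^ k := by
  have hc := hCcomm C hC
  have hp := hCpow C hC
  intro h hh
  induction hh using Subgroup.closure_induction with
  | mem x hx =>
    rcases hx with rfl | rfl | rfl
    · exact ⟨x, Subgroup.subset_closure (by simp), 0, by norm_num, by simp⟩
    · exact ⟨x, Subgroup.subset_closure (by simp), 0, by norm_num, by simp⟩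
    · exact ⟨1, Subgroup.one_mem _, 1, by norm_num, by simp⟩
  | one => exact ⟨1, Subgroup.one_mem _, 0, by norm_num, by simp⟩
  | mul x y _ _ ihx ihy =>
    obtain ⟨s, hs, k, hk, rfl⟩ := ihx
    obtain ⟨t, ht, l, hl, rfl⟩ := ihy
    refine ⟨s * t, Subgroup.mul_mem _ hs ht, (k + l) % 29, Nat.mod_lt _ (by norm_num), ?_⟩
    have h1 : C ^ k * t = t * C ^ k := Commute.pow_left (hc t) k
    rw [← pow_eq_pow_mod _ hp, pow_add]
    calc s * C ^ k * (t * C ^ l) = s * (C ^ k * t) * C ^ l := by simp only [mul_assoc]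
      _ = s * (t * C ^ k) * C ^ l := by rw [h1]
      _ = s * t * (C ^ k * C ^ l) := by simp only [mul_assoc]
  | inv x _ ih =>
    obtain ⟨s, hs, k, hk, rfl⟩ := ih
    refine ⟨s⁻¹, Subgroup.inv_mem _ hs, (29 - k) % 29, Nat.mod_lt _ (by norm_num), ?_⟩
    rw [← pow_eq_pow_mod _ hp]
    have h1 : C ^ k * C ^ (29 - k) = 1 := by rw [← pow_add, Nat.add_sub_cancel' hk.le, hp]
    have h2 : (C ^ k)⁻¹ = C ^ (29 - k) := inv_eq_of_mul_eq_one_right h1
    have h3 : C ^ (29 - k) * s⁻¹ = s⁻¹ * C ^ (29 - k) := Commute.pow_left (hc s⁻¹) _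
    rw [_root_.mul_inv_rev, h2, h3]

include hA hB hC in
theorem keyK : ∀ s ∈ Subgroup.closure ({A, B} : Set G), ∀ k < 29,
    ((s * C ^ k : G) : M) *ᵥ ![1, 0] = ![1, 0] → s = 1 ∧ k = 0 := by
  intro s hs k hk hfix
  obtain ⟨x, hx, hxs⟩ := (closure_eq_list' 59 gens LS hid' hclosed' hmem' _ (hS1 A B hA hB) (hS2 A B hA hB)).1 s hs
  rw [Units.val_mul, hCpowval C hC, ← hxs] at hfix
  have h0 := congrFun hfix 0
  have h1 := congrFun hfix 1
  simp [dec, Matrix.mulVec, dotProduct, Fin.sum_univ_two] at h0 h1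
  have h1' : ((uc 59 x : ℕ) : ZMod 59) = 0 := by
    rcases h1 with ⟨h4, _⟩ | h1
    · exfalso; revert h4; decide
    · exact h1
  have e0 : (4 ^ k * ua 59 x) % 59 = 1 := by
    apply natCast_inj_of_lt (p := 59) (Nat.mod_lt _ (by norm_num)) (by norm_num)
    rw [ZMod.natCast_mod]
    push_cast
    exact h0
  have e1 : (4 ^ k * uc 59 x) % 59 = 0 := by
    apply natCast_inj_of_lt (p := 59) (Nat.mod_lt _ (by norm_num)) (by norm_num)
    rw [ZMod.natCast_mod]
    push_cast
    rw [h1', mul_zero]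
  obtain ⟨hx1, hk0⟩ := hrB' x hx k hk e0 e1
  refine ⟨?_, hk0⟩
  apply Units.ext
  rw [← hxs, hx1, dec_idC]
  rfl

include hA hB hC in
theorem stabH : ∀ h ∈ Subgroup.closure ({A, B, C} : Set G),
    (h : M) *ᵥ ![1, 0] = ![1, 0] → h = 1 := by
  intro h hh hfix
  obtain ⟨s, hs, k, hk, rfl⟩ := decomp A B C hC h hh
  obtain ⟨h1, h2⟩ := keyK A B C hA hB hC s hs k hk hfix
  rw [h1, h2]
  simp

include hA hB hC in
theorem cardH : 59 ^ 2 - 1 ≤ Nat.card (Subgroup.closure ({A, B, C} : Set G)) := by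
  have hc := hCcomm C hC
  have hp := hCpow C hC
  have hcardS : Nat.card (Subgroup.closure ({A, B} : Set G)) = 120 := by
    rw [card_closure' 59 gens LS hid' hclosed' hmem' hred' (nodup_of_nodupB LS hnodup) _
      (hS1 A B hA hB) (hS2 A B hA hB), hlen]
  have hle : Subgroup.closure ({A, B} : Set G) ≤ Subgroup.closure ({A, B, C} : Set G) := by
    apply Subgroup.closure_mono
    intro x hx
    rcases hx with rfl | rfl
    · simp
    · simp
  have hCmem : C ∈ Subgroup.closure ({A, B, C} : Set G) := Subgroup.subset_closure (by simp)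
  let ψ : ↥(Subgroup.closure ({A, B} : Set G)) × Fin 29 → ↥(Subgroup.closure ({A, B, C} : Set G)) :=
    fun x => ⟨x.1.1 * C ^ (x.2 : ℕ), Subgroup.mul_mem _ (hle x.1.2) (Subgroup.pow_mem _ hCmem _)⟩
  have hψ : Function.Injective ψ := by
    rintro ⟨⟨s, hs⟩, ⟨k, hk⟩⟩ ⟨⟨t, ht⟩, ⟨l, hl⟩⟩ hst
    have e : s * C ^ k = t * C ^ l := congrArg Subtype.val hst
    have h1 : (t⁻¹ * s) * C ^ ((k + (29 - l)) % 29) = 1 := by
      rw [← pow_eq_pow_mod _ hp, pow_add]
      calc t⁻¹ * s * (C ^ k * C ^ (29 - l)) = t⁻¹ * (s * C ^ k) * C ^ (29 - l) := by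
            simp only [mul_assoc]
        _ = t⁻¹ * (t * C ^ l) * C ^ (29 - l) := by rw [e]
        _ = C ^ l * C ^ (29 - l) := by simp only [mul_assoc, inv_mul_cancel_left]
        _ = 1 := by rw [← pow_add, Nat.add_sub_cancel' hl.le, hp]
    have h2 := keyK A B C hA hB hC (t⁻¹ * s) (Subgroup.mul_mem _ (Subgroup.inv_mem _ ht) hs)
      ((k + (29 - l)) % 29) (Nat.mod_lt _ (by norm_num)) (by rw [h1]; simp)
    obtain ⟨h3, h4⟩ := h2
    have hst' : s = t := by
      calc s = t * (t⁻¹ * s) := by group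
        _ = t := by rw [h3, mul_one]
    have hkl : k = l := by omega
    subst hst' hkl
    rfl
  have := Nat.card_le_card_of_injective ψ hψ
  rw [Nat.card_prod, hcardS, Nat.card_fin] at this
  exact this

end

/-- An exceptional sharply doubly transitive group of degree 59^2: the listed matrices generate a subgroup of GL(2,59) of order 3480 acting regularly on the non-zero vectors. -/
theorem result (A : Matrix.GeneralLinearGroup (Fin 2) (ZMod 59)) (B : Matrix.GeneralLinearGroup (Fin 2) (ZMod 59)) (C : Matrix.GeneralLinearGroup (Fin 2) (ZMod 59)) (hA : (A : Matrix (Fin 2) (Fin 2) (ZMod 59)) = !![0, -1; 1, 0]) (hB : (B : Matrix (Fin 2) (Fin 2) (ZMod 59)) = !![9, 15; -10, -10]) (hC : (C : Matrix (Fin 2) (Fin 2) (ZMod 59)) = !![4, 0; 0, 4]) : Nat.card (Subgroup.closure ({A, B, C} : Set (Matrix.GeneralLinearGroup (Fin 2) (ZMod 59)))) = 3480 ∧ ∀ v w : Fin 2 → ZMod 59, v ≠ 0 → w ≠ 0 → ∃! h : Subgroup.closure ({A, B, C} : Set (Matrix.GeneralLinearGroup (Fin 2) (ZMod 59))), Matrix.mulVec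 ((h : Matrix.GeneralLinearGroup (Fin 2) (ZMod 59)) : Matrix (Fin 2) (Fin 2) (ZMod 59)) v = w := by
  have := regular_of_stab' 59 (Subgroup.closure ({A, B, C} : Set G)) (cardH A B C hA hB hC)
    (stabH A B C hA hB hC)
  exact this

end Cfsg.Agent.S0693
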