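import Mathlib
import Cfsg.Statements.S0694

set_option autoImplicit false
open Cfsg

namespace Cfsg.Agent.S0694

open Finset

/-- geometric sum `1 + q + ... + q^(i-1)` -/
def gs (q i : ℕ) : ℕ := ∑ t ∈ range i, q ^ t

lemma gs_mul {q : ℕ} (hq : 1 ≤ q) (i : ℕ) : gs q i * (q - 1) = q ^ i - 1 := by
  obtain ⟨c, rfl⟩ : ∃ c, q = c + 1 := ⟨q - 1, by omega⟩
  have := geom_sum_mul_add c i
  simp only [gs, Nat.add_sub_cancel]
  omega

lemma modEq_iff {q : ℕ} (hq : 2 ≤ q) (n i : ℕ) :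
    q ^ i ≡ 1 [MOD n * (q - 1)] ↔ n ∣ gs q i := by
  rw [Nat.ModEq.comm, Nat.modEq_iff_dvd' (Nat.one_le_pow _ _ (by omega)), ← gs_mul (by omega) i]
  exact Nat.mul_dvd_mul_iff_right (by omega)

lemma gs_modEq {q r : ℕ} (h : q ≡ 1 [MOD r]) (i : ℕ) : gs q i ≡ i [MOD r] := by
  rw [← ZMod.natCast_eq_natCast_iff] at h ⊢
  simp only [gs]
  push_cast
  rw [h]
  simp

lemma step {s Q : ℕ} (hQ : 1 ≤ Q) (h : s ∣ Q - 1) : s * (Q - 1) ∣ Q ^ s - 1 := by
  rw [← gs_mul hQ s]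
  apply Nat.mul_dvd_mul_right
  have h1 : Q ≡ 1 [MOD s] := by
    rw [Nat.ModEq.comm, Nat.modEq_iff_dvd' hQ]; exact h
  exact (Nat.modEq_zero_iff_dvd).1 ((gs_modEq h1 s).trans (by simp [Nat.ModEq]))

lemma lift_pow {s q : ℕ} (hq : 1 ≤ q) (h : s ∣ q - 1) (k : ℕ) :
    s ^ k * (q - 1) ∣ q ^ (s ^ k) - 1 := by
  induction k with
  | zero => simp
  | succ k ih =>
    have hQ : 1 ≤ q ^ (s ^ k) := Nat.one_le_pow _ _ hq
    have h1 : s ∣ q ^ (s ^ k) - 1 := dvd_trans (dvd_trans h (Dvd.intro_left _ rfl)) ih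
    have h2 := step hQ h1
    rw [← pow_mul, ← pow_succ] at h2
    refine dvd_trans ?_ h2
    rw [pow_succ, mul_comm (s ^ k) s, mul_assoc]
    exact Nat.mul_dvd_mul_left s ih

lemma lift {s q : ℕ} (hq : 1 ≤ q) (h : s ∣ q - 1) {k i : ℕ} (hi : s ^ k ∣ i) :
    s ^ k * (q - 1) ∣ q ^ i - 1 := by
  obtain ⟨j, rfl⟩ := hi
  refine dvd_trans (lift_pow hq h k) ?_
  rw [pow_mul]
  simpa only [one_pow] using Nat.sub_dvd_pow_sub_pow (q ^ (s ^ k)) 1 j

lemma lift_gs {s q : ℕ} (hq : 2 ≤ q) (h : s ∣ q - 1) {k i : ℕ} (hi : s ^ k ∣ i) :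
    s ^ k ∣ gs q i := by
  have := lift (by omega : 1 ≤ q) h hi
  rw [← gs_mul (by omega) i] at this
  exact (Nat.mul_dvd_mul_iff_right (by omega)).1 this

lemma exact_dvd {q n i : ℕ} (hq : 2 ≤ q) (h1 : ∀ r : ℕ, r.Prime → r ∣ n → r ∣ q - 1)
    (h4 : 4 ∣ n → 4 ∣ q - 1) (hi : 0 < i) (h : n ∣ gs q i) : n ∣ i := by
  rw [Nat.dvd_iff_prime_pow_dvd_dvd]
  intro p k hp hpk
  rcases Nat.eq_zero_or_pos k with rfl | hk
  · simp
  have hpn : p ∣ n := dvd_trans (dvd_pow_self p hk.ne') hpk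
  have hpq : p ∣ q - 1 := h1 p hp hpn
  have : Fact p.Prime := ⟨hp⟩
  have hnpq : ¬ p ∣ q := by
    intro hh
    have : p ∣ 1 := by
      have := (Nat.dvd_sub hh hpq)
      rwa [show q - (q - 1) = 1 by omega] at this
    exact hp.one_lt.ne' (Nat.dvd_one.1 this)
  have hD : p ^ k * (q - 1) ∣ q ^ i - 1 := by
    rw [← gs_mul (by omega) i]
    exact Nat.mul_dvd_mul_right (dvd_trans hpk h) _
  have hne : q ^ i - 1 ≠ 0 := by
    have : 2 ≤ q ^ i := le_trans hq (Nat.le_self_pow hi.ne' q)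
    omega
  have hle : k + padicValNat p (q - 1) ≤ padicValNat p (q ^ i - 1) := by
    rw [← padicValNat_dvd_iff_le hne, pow_add]
    exact dvd_trans (Nat.mul_dvd_mul_left _ pow_padicValNat_dvd) hD
  rw [padicValNat_dvd_iff_le hi.ne']
  rcases hp.eq_two_or_odd' with rfl | hodd
  · -- p = 2
    have hieven : Even i := by
      by_contra hodd
      rw [Nat.not_even_iff_odd] at hodd
      have h2 : 2 ∣ gs q i := dvd_trans hpn h
      have hq1 : q ≡ 1 [MOD 2] := by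
        rw [Nat.ModEq.comm, Nat.modEq_iff_dvd' (by omega)]; exact hpq
      have := (gs_modEq hq1 i)
      have h3 : gs q i % 2 = 0 := Nat.mod_eq_zero_of_dvd h2
      have h4 : i % 2 = 1 := Nat.odd_iff.1 hodd
      rw [Nat.ModEq, h3, h4] at this
      omega
    by_cases h4q : 4 ∣ q - 1
    · have hv1 : padicValNat 2 (q + 1) = 1 := by
        have ha : 1 ≤ padicValNat 2 (q+1) := by
          rw [← padicValNat_dvd_iff_le (by omega)]; omega
        have hb : ¬ 2 ≤ padicValNat 2 (q+1) := by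
          rw [← padicValNat_dvd_iff_le (by omega)]; omega
        omega
      have := padicValNat.pow_two_sub_one (x := q) (n := i) (by omega) hnpq hi.ne' hieven
      omega
    · have : ¬ 4 ∣ n := fun h => h4q (h4 h)
      have hk1 : k ≤ 1 := by
        by_contra hk2
        push Not at hk2
        exact this (dvd_trans (pow_dvd_pow 2 hk2) hpk)
      have : 1 ≤ padicValNat 2 i := by
        rw [← padicValNat_dvd_iff_le hi.ne']; simpa using hieven.two_dvd
      omega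
  · have := padicValNat.pow_sub_pow hodd (x := q) (y := 1) (by omega) hpq hnpq hi.ne'
    simp only [one_pow] at this
    omega

/-- from `p^k ∣ q^m - 1` to a statement about units of `ZMod (p^k)`. -/
lemma pow_eq_one_of_dvd {q N m : ℕ} (hq : 1 ≤ q) (h : N ∣ q ^ m - 1) :
    ((q : ZMod N)) ^ m = 1 := by
  have h1 : ((q ^ m - 1 : ℕ) : ZMod N) = 0 := (ZMod.natCast_eq_zero_iff _ _).2 h
  rw [Nat.cast_sub (Nat.one_le_pow _ _ hq)] at h1
  push_cast at h1
  exact sub_eq_zero.1 h1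

lemma dvd_of_pow_eq_one {q N m : ℕ} (hq : 1 ≤ q) (h : ((q : ZMod N)) ^ m = 1) :
    N ∣ q ^ m - 1 := by
  rw [← ZMod.natCast_eq_zero_iff, Nat.cast_sub (Nat.one_le_pow _ _ hq)]
  push_cast
  exact sub_eq_zero.2 h

/-- The key descent: if `p^k ∣ q^n - 1`, `p ∤ q - 1`, and `n = r * i` where either `p = r`
and `r^k ∣ n`, or `p < r`; then `p^k ∣ q^i - 1`. -/
lemma descent {q p k r i : ℕ} (hq : 2 ≤ q) (hp : p.Prime) (hr : r.Prime) (hk : 0 < k)
    (hpr : p ≤ r) (hpk : p ^ k ∣ r * i) (h : p ^ k ∣ q ^ (r * i) - 1) :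
    p ^ k ∣ q ^ i - 1 := by
  have hq1 : 1 ≤ q := by omega
  rcases Nat.eq_zero_or_pos i with rfl | hipos
  · simp
  have hN : 1 < p ^ k := Nat.one_lt_pow hk.ne' hp.one_lt
  have hone := pow_eq_one_of_dvd hq1 h
  have : Fact (1 < p ^ k) := ⟨hN⟩
  have hunit : IsUnit (q : ZMod (p ^ k)) := by
    have : IsUnit ((q : ZMod (p ^ k)) ^ (r * i)) := by rw [hone]; exact isUnit_one
    exact (isUnit_pow_iff (Nat.mul_ne_zero hr.ne_zero hipos.ne')).1 this
  obtain ⟨u, hu⟩ := hunit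
  have hun : u ^ (r * i) = 1 := by
    apply Units.ext; push_cast; rw [hu]; exact hone
  have hphi : u ^ (p ^ (k - 1) * (p - 1)) = 1 := by
    rw [← Nat.totient_prime_pow hp hk]; exact ZMod.pow_totient u
  have ho1 : orderOf u ∣ r * i := orderOf_dvd_of_pow_eq_one hun
  have ho2 : orderOf u ∣ p ^ (k - 1) * (p - 1) := orderOf_dvd_of_pow_eq_one hphi
  have hoi : orderOf u ∣ i := by
    rcases hpr.eq_or_lt with rfl | hlt
    · -- p = r
      obtain ⟨a, b, ha, hb, hab⟩ := Nat.dvd_mul.1 ho2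
      have hbp : Nat.Coprime b p := by
        rw [Nat.coprime_comm, hp.coprime_iff_not_dvd]
        intro hpb
        have := Nat.le_of_dvd (by have := hp.two_le; omega) (dvd_trans hpb hb)
        have := hp.two_le
        omega
      -- write r * i = p^k * m
      obtain ⟨m, hm⟩ := hpk
      have hi : i = p ^ (k - 1) * m := by
        have h1 : p * i = p * (p ^ (k - 1) * m) := by
          rw [hm, ← mul_assoc, ← pow_succ']
          congr 2
          omega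
        exact Nat.eq_of_mul_eq_mul_left hp.pos h1
      have hbm : b ∣ m := by
        have h1 : b ∣ p ^ k * m := by
          rw [← hm]; exact dvd_trans (Dvd.intro_left a hab) ho1
        exact (Nat.Coprime.pow_right k hbp).dvd_of_dvd_mul_left h1
      rw [← hab, hi]
      exact Nat.mul_dvd_mul ha hbm
    · have hcop : Nat.Coprime (orderOf u) r := by
        rw [Nat.coprime_comm, hr.coprime_iff_not_dvd]
        intro hro
        have h1 : r ∣ p ^ (k - 1) * (p - 1) := dvd_trans hro ho2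
        rcases (Nat.Prime.dvd_mul hr).1 h1 with h2 | h2
        · have := (Nat.prime_dvd_prime_iff_eq hr hp).1 (hr.dvd_of_dvd_pow h2)
          omega
        · have := Nat.le_of_dvd (by have := hp.two_le; omega) h2
          omega
      exact hcop.dvd_of_dvd_mul_left ho1
  obtain ⟨j, hj⟩ := hoi
  apply dvd_of_pow_eq_one hq1
  rw [← hu, ← Units.val_pow_eq_pow_val, hj, pow_mul, pow_orderOf_eq_one, one_pow, Units.val_one]

lemma primes_dvd {q n : ℕ} (hq : 2 ≤ q) (hn : 1 < n) (hnn : n ∣ gs q n)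
    (hmin : ∀ i, 0 < i → i < n → ¬ n ∣ gs q i) :
    ∀ r : ℕ, r.Prime → r ∣ n → r ∣ q - 1 := by
  by_contra hcon
  push Not at hcon
  have hq1 : 1 ≤ q := by omega
  let B : Finset ℕ := (n.primeFactors).filter (fun r => ¬ r ∣ q - 1)
  have hB : B.Nonempty := by
    obtain ⟨r, hr, hrn, hrq⟩ := hcon
    refine ⟨r, ?_⟩
    simp only [B, Finset.mem_filter, Nat.mem_primeFactors]
    exact ⟨⟨hr, hrn, by omega⟩, hrq⟩
  have hrB := B.max'_mem hB
  have hrmax := fun s (hs : s ∈ B) => B.le_max' s hs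
  set r := B.max' hB with hrdef
  simp only [B, Finset.mem_filter, Nat.mem_primeFactors] at hrB hrmax
  obtain ⟨⟨hr, hrn, -⟩, hrq⟩ := hrB
  obtain ⟨i, hi⟩ := hrn
  have hipos : 0 < i := by
    rcases Nat.eq_zero_or_pos i with rfl | h
    · omega
    · exact h
  have hilt : i < n := by
    rw [hi]; nlinarith [hr.two_le]
  apply hmin i hipos hilt
  rw [Nat.dvd_iff_prime_pow_dvd_dvd]
  intro p k hp hpk
  rcases Nat.eq_zero_or_pos k with rfl | hk
  · simp
  have hpn : p ∣ n := dvd_trans (dvd_pow_self p hk.ne') hpk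
  by_cases hpq : p ∣ q - 1
  · have hne : p ≠ r := by rintro rfl; exact hrq hpq
    have hcop : Nat.Coprime (p ^ k) r :=
      Nat.Coprime.pow_left k ((Nat.coprime_primes hp hr).2 hne)
    rw [hi] at hpk
    exact lift_gs hq hpq (hcop.dvd_of_dvd_mul_left hpk)
  · have hple : p ≤ r := hrmax p ⟨⟨hp, hpn, by omega⟩, hpq⟩
    have hcop : Nat.Coprime (p ^ k) (q - 1) :=
      Nat.Coprime.pow_left k ((Nat.Prime.coprime_iff_not_dvd hp).2 hpq)
    have h1 : p ^ k ∣ q ^ (r * i) - 1 := by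
      rw [← hi, ← gs_mul hq1 n]
      exact dvd_trans hpk (dvd_trans hnn (Dvd.intro _ rfl))
    have h2 : p ^ k ∣ q ^ i - 1 := descent hq hp hr hk hple (hi ▸ hpk) h1
    rw [← gs_mul hq1 i] at h2
    exact hcop.dvd_of_dvd_mul_right h2

lemma four_dvd {q n : ℕ} (hq : 2 ≤ q) (hn : 1 < n) (h1 : ∀ r : ℕ, r.Prime → r ∣ n → r ∣ q - 1)
    (hmin : ∀ i, 0 < i → i < n → ¬ n ∣ gs q i) : 4 ∣ n → 4 ∣ q - 1 := by
  intro h4n
  by_contra h4q
  have hq1 : 1 ≤ q := by omega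
  have h2q : 2 ∣ q - 1 := h1 2 Nat.prime_two (dvd_trans (by norm_num) h4n)
  have h4q' : 4 ∣ q + 1 := by omega
  obtain ⟨j, hj⟩ := h4n
  have hjpos : 0 < j := by
    rcases Nat.eq_zero_or_pos j with rfl | h
    · omega
    · exact h
  apply hmin (2 * j) (by omega) (by omega)
  rw [Nat.dvd_iff_prime_pow_dvd_dvd]
  intro p k hp hpk
  rcases Nat.eq_zero_or_pos k with rfl | hk
  · simp
  have hpn : p ∣ n := dvd_trans (dvd_pow_self p hk.ne') hpk
  have hpq : p ∣ q - 1 := h1 p hp hpn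
  by_cases hp2 : p = 2
  · subst hp2
    rw [hj] at hpk
    obtain ⟨a, b, ha, hb, hab⟩ := Nat.dvd_mul.1 hpk
    obtain ⟨l, -, rfl⟩ := (Nat.dvd_prime_pow Nat.prime_two).1 (Dvd.intro_left a hab)
    have hQ : 1 ≤ q ^ 2 := Nat.one_le_pow _ _ hq1
    have hQ1 : q ^ 2 - 1 = (q + 1) * (q - 1) := by
      have := Nat.sq_sub_sq q 1
      simpa using this
    have h2Q : 2 ∣ q ^ 2 - 1 := by
      rw [hQ1]; exact dvd_trans h2q (Dvd.intro_left _ rfl)
    have h3 := lift hQ h2Q hb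
    rw [← pow_mul, hQ1] at h3
    have h5 : 2 ^ k * (q - 1) ∣ q ^ (2 * j) - 1 := by
      refine dvd_trans ?_ h3
      rw [← hab]
      have : a * 2 ^ l * (q - 1) = 2 ^ l * (a * (q - 1)) := by ring
      rw [this]
      exact Nat.mul_dvd_mul_left _ (Nat.mul_dvd_mul_right (dvd_trans ha h4q') _)
    rw [← gs_mul hq1 (2 * j)] at h5
    exact (Nat.mul_dvd_mul_iff_right (by omega)).1 h5
  · have hcop : Nat.Coprime (p ^ k) 2 :=
      Nat.Coprime.pow_left k ((Nat.coprime_primes hp Nat.prime_two).2 hp2)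
    have : p ^ k ∣ 2 * (2 * j) := by
      rw [← mul_assoc]; simpa [hj] using hpk
    exact lift_gs hq hpq (hcop.dvd_of_dvd_mul_left this)

/-- The Dickson pair condition: for a prime power `q` and `n > 1`, (every prime factor of `n` divides `q - 1`, and `4 ∣ n → 4 ∣ q - 1`) holds exactly when `q ^ n ≡ 1` modulo `n * (q - 1)` but `q ^ i` is not, for `0 < i < n`. -/
theorem result (q n : ℕ) (hq : IsPrimePow q) (hn : 1 < n) : ((∀ r : ℕ, r.Prime → r ∣ n → r ∣ q - 1) ∧ (4 ∣ n → 4 ∣ q - 1)) ↔ (q ^ n ≡ 1 [MOD n * (q - 1)] ∧ ∀ i : ℕ, 0 < i → i < n → ¬ q ^ i ≡ 1 [MOD n * (q - 1)]) := by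
  have hq2 : 2 ≤ q := hq.two_le
  simp only [modEq_iff hq2]
  constructor
  · rintro ⟨h1, h4⟩
    refine ⟨?_, fun i hi hin hdvd => ?_⟩
    · rw [Nat.dvd_iff_prime_pow_dvd_dvd]
      intro p k hp hpk
      rcases k.eq_zero_or_pos with rfl | hk
      · simp
      exact lift_gs hq2 (h1 p hp (dvd_trans (dvd_pow_self p hk.ne') hpk)) hpk
    · exact absurd (Nat.le_of_dvd hi (exact_dvd hq2 h1 h4 hi hdvd)) (by omega)
  · rintro ⟨hnn, hmin⟩
    have h1 := primes_dvd hq2 hn hnn hmin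
    exact ⟨h1, four_dvd hq2 hn h1 hmin⟩

end Cfsg.Agent.S0694
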