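import Cfsg.Agent.Lib.Helper22.BlockFix
import Cfsg.Statements.S0695
-- import your own Cfsg.Agent.* helpers here

set_option autoImplicit false
open Cfsg

namespace Cfsg.Agent.S0695

open Cfsg.Agent.Helper22
open scoped Pointwise

theorem smul_pair_conj {G X : Type*} [Group G] [MulAction G X] (a : X) (g n : G)
    (hg : g • a = a) :
    g • ({n • a, n⁻¹ • a} : Set X) = {(g * n * g⁻¹) • a, (g * n * g⁻¹)⁻¹ • a} := by
  have hgi : g⁻¹ • a = a := by
    rw [inv_smul_eq_iff, hg]
  have h1 : g • n • a = (g * n * g⁻¹) • a := by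
    rw [mul_smul, mul_smul, hgi]
  have h2 : g • n⁻¹ • a = (g * n * g⁻¹)⁻¹ • a := by
    rw [mul_inv_rev, mul_inv_rev, inv_inv, mul_smul, mul_smul, hgi]
  rw [Set.smul_set_insert, Set.smul_set_singleton, h1, h2]

theorem sq_eq_one_of_ne_three {G : Type*} [Group G] {X : Type*} [Fintype X] [MulAction G X]
    (hX : 2 ≤ Fintype.card X) (h2 : MulAction.IsMultiplyPreprimitive G X 2) (N : Subgroup G)
    [hN : N.Normal] (htrans : MulAction.IsPretransitive N X)
    (hreg : ∀ x : X, MulAction.stabilizer N x = ⊥) (h3 : Fintype.card X ≠ 3) :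
    ∀ n ∈ N, n ^ 2 = 1 := by
  classical
  intro n hn
  by_cases hn1 : n = 1
  · rw [hn1, one_pow]
  obtain ⟨a⟩ : Nonempty X := by
    rw [← Fintype.card_pos_iff]; omega
  have hp : MulAction.IsPreprimitive (fixingSubgroup G ({a} : Set X))
      (SubMulAction.ofFixingSubgroup G ({a} : Set X)) :=
    h2.isPreprimitive_ofFixingSubgroup (by simp; rfl)
  have key : ∀ u ∈ N, ∀ v ∈ N, u • a = v • a → u = v := fun u hu v hv =>
    eq_of_smul_eq_of_stabilizer_eq_bot N a (hreg a) hu hv
  have hna : n • a ≠ a := fun h => hn1 (key n hn 1 N.one_mem (by rw [h, one_smul]))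
  have hnia : n⁻¹ • a ≠ a := fun h =>
    hn1 (inv_eq_one.mp (key n⁻¹ (N.inv_mem hn) 1 N.one_mem (by rw [h, one_smul])))
  have hBs : ({n • a, n⁻¹ • a} : Set X) ⊆ {a}ᶜ := by
    intro x hx
    rcases hx with rfl | hx
    · exact hna
    · have : x = n⁻¹ • a := hx
      rw [this]
      exact hnia
  have hB : ∀ g ∈ fixingSubgroup G ({a} : Set X), g • ({n • a, n⁻¹ • a} : Set X) = {n • a, n⁻¹ • a} ∨
      Disjoint (g • ({n • a, n⁻¹ • a} : Set X)) {n • a, n⁻¹ • a} := by
    intro g hg
    have hga : g • a = a := by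
      rw [mem_fixingSubgroup_iff] at hg
      exact hg a rfl
    rw [smul_pair_conj a g n hga]
    have hm : g * n * g⁻¹ ∈ N := hN.conj_mem n hn g
    set m := g * n * g⁻¹ with hm_def
    by_cases hd : Disjoint ({m • a, m⁻¹ • a} : Set X) {n • a, n⁻¹ • a}
    · right; exact hd
    · left
      rw [Set.not_disjoint_iff] at hd
      obtain ⟨x, hx1, hx2⟩ := hd
      have hmn : m = n ∨ m = n⁻¹ := by
        rcases hx1 with rfl | hx1
        · rcases hx2 with h' | h'
          · left; exact key m hm n hn h'
          · right; exact key m hm n⁻¹ (N.inv_mem hn) h'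
        · have hx1' : x = m⁻¹ • a := hx1
          rw [hx1'] at hx2
          rcases hx2 with h' | h'
          · right
            have := key m⁻¹ (N.inv_mem hm) n hn h'
            rw [← this, inv_inv]
          · left
            have := key m⁻¹ (N.inv_mem hm) n⁻¹ (N.inv_mem hn) h'
            exact inv_injective this
      rcases hmn with h' | h'
      · rw [h']
      · rw [h', inv_inv, Set.pair_comm]
  rcases subsingleton_or_eq_compl_of_block {a} hp {n • a, n⁻¹ • a} hBs hB with h | h
  · have h1 : n • a = n⁻¹ • a := h (by simp) (by simp)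
    have h2 : n = n⁻¹ := key n hn n⁻¹ (N.inv_mem hn) h1
    calc n ^ 2 = n * n := sq n
      _ = n * n⁻¹ := congrArg (fun x => n * x) h2
      _ = 1 := mul_inv_cancel n
  · have hsub : (Finset.univ : Finset X) ⊆ {a, n • a, n⁻¹ • a} := by
      intro x _
      by_cases hxa : x = a
      · simp [hxa]
      · have : x ∈ ({a}ᶜ : Set X) := hxa
        rw [← h] at this
        rcases this with h' | h'
        · simp [h']
        · have h'' : x = n⁻¹ • a := h'
          simp [h'']
    have hle : Fintype.card X ≤ 3 :=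
      (Finset.card_le_card hsub).trans Finset.card_le_three
    have hc2 : Fintype.card X = 2 := by omega
    have hN2 : Nat.card N = 2 := by
      rw [card_eq_of_regular N a (hreg a), Nat.card_eq_fintype_card, hc2]
    have h4 : (⟨n, hn⟩ : N) ^ 2 = 1 := by
      rw [← hN2]
      exact pow_card_eq_one'
    exact congrArg Subtype.val h4

/-- A regular normal subgroup of a doubly primitive group of finite degree at least 2 is an elementary abelian 2-group (and the degree is a power of 2), unless the degree is 3. -/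
theorem result {G : Type*} [Group G] {X : Type*} [Fintype X] [MulAction G X] (hX : 2 ≤ Fintype.card X) (h2 : MulAction.IsMultiplyPreprimitive G X 2) (N : Subgroup G) [N.Normal] (htrans : MulAction.IsPretransitive N X) (hreg : ∀ x : X, MulAction.stabilizer N x = ⊥) : Fintype.card X = 3 ∨ (IsMulCommutative N ∧ (∀ n ∈ N, n ^ 2 = 1) ∧ ∃ m : ℕ, Fintype.card X = 2 ^ m) := by
  by_cases h3 : Fintype.card X = 3
  · left; exact h3
  right
  have hsq := sq_eq_one_of_ne_three hX h2 N htrans hreg h3
  obtain ⟨a⟩ : Nonempty X := by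
    rw [← Fintype.card_pos_iff]; omega
  have hcard : Nat.card N = Fintype.card X := by
    rw [card_eq_of_regular N a (hreg a), Nat.card_eq_fintype_card]
  have hsqN : ∀ x : N, x * x = 1 := by
    intro x
    apply Subtype.ext
    have := hsq x x.2
    rw [sq] at this
    exact this
  refine ⟨⟨⟨fun x y => ?_⟩⟩, hsq, ?_⟩
  · have h1 := hsqN (x * y)
    have h2 := hsqN x
    have h3 := hsqN y
    calc x * y = x * (x * y * (x * y)) * y := by rw [h1, mul_one]
      _ = (x * x) * y * x * (y * y) := by group
      _ = y * x := by rw [h2, h3, one_mul, mul_one]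
  · have hfin : Finite N := by
      apply Nat.finite_of_card_ne_zero
      rw [hcard]; omega
    have hp : IsPGroup 2 N := by
      intro x
      refine ⟨1, ?_⟩
      rw [pow_one, sq]
      exact hsqN x
    haveI : Fact (Nat.Prime 2) := ⟨Nat.prime_two⟩
    obtain ⟨m, hm⟩ := hp.exists_card_eq
    exact ⟨m, by rw [← hcard, hm]⟩

end Cfsg.Agent.S0695
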