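import Cfsg.Agent.Lib.Helper22.BlockFix
import Cfsg.Agent.S0695
import Cfsg.Statements.S0696
-- import your own Cfsg.Agent.* helpers here

set_option autoImplicit false
open Cfsg

namespace Cfsg.Agent.S0696

open Cfsg.Agent.Helper22
open scoped Pointwise

theorem smul_pair_conj' {G X : Type*} [Group G] [MulAction G X] (a : X) (g m n : G)
    (hg : g • a = a) :
    g • ({m • a, (m * n) • a} : Set X) =
      {(g * m * g⁻¹) • a, ((g * m * g⁻¹) * (g * n * g⁻¹)) • a} := by
  have hgi : g⁻¹ • a = a := by
    rw [inv_smul_eq_iff, hg]
  have h1 : g • m • a = (g * m * g⁻¹) • a := by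
    rw [mul_smul, mul_smul, hgi]
  have h2 : g • (m * n) • a = ((g * m * g⁻¹) * (g * n * g⁻¹)) • a := by
    have : (g * m * g⁻¹) * (g * n * g⁻¹) = g * (m * n) * g⁻¹ := by group
    rw [this]
    simp only [mul_smul, hgi]
  rw [Set.smul_set_insert, Set.smul_set_singleton, h1, h2]

/-- A triply primitive group of degree at least 3 having a regular normal subgroup has degree 3 or 4. -/
theorem result {G : Type*} [Group G] {X : Type*} [Fintype X] [MulAction G X] (hX : 3 ≤ Fintype.card X) (h3 : MulAction.IsMultiplyPreprimitive G X 3) (N : Subgroup G) [N.Normal] (htrans : MulAction.IsPretransitive N X) (hreg : ∀ x : X, MulAction.stabilizer N x = ⊥) : Fintype.card X = 3 ∨ Fintype.card X = 4 := by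
  classical
  by_cases hc3 : Fintype.card X = 3
  · left; exact hc3
  right
  have hcard : (3 : ℕ∞) ≤ ENat.card X := by
    rw [ENat.card_eq_coe_fintype_card]
    exact_mod_cast hX
  have h2 : MulAction.IsMultiplyPreprimitive G X 2 :=
    MulAction.isMultiplyPreprimitive_of_le G X h3 (by norm_num) hcard
  have hsq := Cfsg.Agent.S0695.sq_eq_one_of_ne_three (by omega) h2 N htrans hreg hc3
  obtain ⟨a, b, c, hab, hac, hbc⟩ := Fintype.two_lt_card_iff.mp (by omega : 2 < Fintype.card X)
  obtain ⟨n', hn'⟩ := htrans.exists_smul_eq a b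
  obtain ⟨m', hm'⟩ := htrans.exists_smul_eq a c
  obtain ⟨n, hn⟩ := n'
  obtain ⟨m, hm⟩ := m'
  have hnb : n • a = b := hn'
  have hmc : m • a = c := hm'
  have key : ∀ u ∈ N, ∀ v ∈ N, u • a = v • a → u = v := fun u hu v hv =>
    eq_of_smul_eq_of_stabilizer_eq_bot N a (hreg a) hu hv
  have hnn : n * n = 1 := by
    have := hsq n hn
    rwa [sq] at this
  have hn1 : n ≠ 1 := by
    rintro rfl
    rw [one_smul] at hnb
    exact hab hnb
  have hm1 : m ≠ 1 := by
    rintro rfl
    rw [one_smul] at hmc
    exact hac hmc
  have hmn : m ≠ n := by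
    rintro rfl
    rw [hnb] at hmc
    exact hbc hmc
  have hp : MulAction.IsPreprimitive (fixingSubgroup G ({a, b} : Set X))
      (SubMulAction.ofFixingSubgroup G ({a, b} : Set X)) :=
    h3.isPreprimitive_ofFixingSubgroup (by rw [Set.encard_pair hab]; rfl)
  have hmnN : m * n ∈ N := N.mul_mem hm hn
  have hBs : ({m • a, (m * n) • a} : Set X) ⊆ ({a, b} : Set X)ᶜ := by
    intro x hx
    rw [Set.mem_compl_iff]
    intro hx2
    rcases hx with rfl | hx
    · rcases hx2 with h | h
      · exact hm1 (key m hm 1 N.one_mem (by rw [h, one_smul]))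
      · have h' : m • a = b := h
        rw [← hnb] at h'
        exact hmn (key m hm n hn h')
    · have hx' : x = (m * n) • a := hx
      rw [hx'] at hx2
      rcases hx2 with h | h
      · have h4 : m * n = 1 := key (m * n) hmnN 1 N.one_mem (by rw [h, one_smul])
        have h5 : m = n := by
          have := congrArg (fun x => x * n) h4
          simp only [mul_assoc, hnn, mul_one, one_mul] at this
          exact this
        exact hmn h5
      · have h' : (m * n) • a = b := h
        rw [← hnb] at h'
        have h4 : m * n = n := key (m * n) hmnN n hn h'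
        exact hm1 (mul_eq_right.mp h4)
  have hB : ∀ g ∈ fixingSubgroup G ({a, b} : Set X),
      g • ({m • a, (m * n) • a} : Set X) = {m • a, (m * n) • a} ∨
      Disjoint (g • ({m • a, (m * n) • a} : Set X)) {m • a, (m * n) • a} := by
    intro g hg
    rw [mem_fixingSubgroup_iff] at hg
    have hga : g • a = a := hg a (by simp)
    have hgb : g • b = b := hg b (by simp)
    have hgi : g⁻¹ • a = a := by rw [inv_smul_eq_iff, hga]
    have hgn : g * n * g⁻¹ = n := by
      apply key _ (‹N.Normal›.conj_mem n hn g) n hn
      rw [mul_smul, mul_smul, hgi, hnb, hgb]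
    rw [smul_pair_conj' a g m n hga, hgn]
    have hmN : g * m * g⁻¹ ∈ N := ‹N.Normal›.conj_mem m hm g
    set m₁ := g * m * g⁻¹ with hm₁
    have hm₁n : m₁ * n ∈ N := N.mul_mem hmN hn
    by_cases hd : Disjoint ({m₁ • a, (m₁ * n) • a} : Set X) {m • a, (m * n) • a}
    · right; exact hd
    · left
      rw [Set.not_disjoint_iff] at hd
      obtain ⟨x, hx1, hx2⟩ := hd
      have hcases : m₁ = m ∨ m₁ = m * n := by
        rcases hx1 with rfl | hx1
        · rcases hx2 with h' | h'
          · left; exact key m₁ hmN m hm h'
          · right; exact key m₁ hmN (m * n) hmnN h'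
        · have hx1' : x = (m₁ * n) • a := hx1
          rw [hx1'] at hx2
          rcases hx2 with h' | h'
          · right
            have h4 : m₁ * n = m := key (m₁ * n) hm₁n m hm h'
            rw [← h4, mul_assoc, hnn, mul_one]
          · left
            have h4 : m₁ * n = m * n := key (m₁ * n) hm₁n (m * n) hmnN h'
            exact mul_right_cancel h4
      rcases hcases with h' | h'
      · rw [h']
      · rw [h', mul_assoc, hnn, mul_one, Set.pair_comm]
  rcases subsingleton_or_eq_compl_of_block {a, b} hp {m • a, (m * n) • a} hBs hB with h | h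
  · exfalso
    have h1 : m • a = (m * n) • a := h (by simp) (by simp)
    have h2 : m = m * n := key m hm (m * n) hmnN h1
    exact hn1 (mul_eq_left.mp h2.symm)
  · have hsub : (Finset.univ : Finset X) ⊆ {a, b, m • a, (m * n) • a} := by
      intro x _
      by_cases hxa : x ∈ ({a, b} : Set X)
      · rcases hxa with h' | h'
        · simp [h']
        · have h'' : x = b := h'
          simp [h'']
      · have : x ∈ (({a, b} : Set X)ᶜ : Set X) := hxa
        rw [← h] at this
        rcases this with h' | h'
        · simp [h']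
        · have h'' : x = (m * n) • a := h'
          simp [h'']
    have hle : Fintype.card X ≤ 4 :=
      (Finset.card_le_card hsub).trans Finset.card_le_four
    omega

end Cfsg.Agent.S0696
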