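import Mathlib
import Cfsg.Agent.Lib.Helper22.StabAction
import Cfsg.Agent.S0695
import Cfsg.Statements.S0697
-- import your own Cfsg.Agent.* helpers here

set_option autoImplicit false
open Cfsg

namespace Cfsg.Agent.S0697

open MulAction SubMulAction Cfsg.Agent.Helper22

universe u v

theorem wielandt_aux : ∀ (k : ℕ), 1 ≤ k → ∀ (G : Type u) (X : Type v) [Group G] [MulAction G X]
    [Fintype X] [FaithfulSMul G X], k ≤ Fintype.card X → IsMultiplyPreprimitive G X k →
    ¬ IsMultiplyPretransitive G X (Fintype.card X - 1) →
    ∀ (H : Subgroup G), H.Normal → H ≠ ⊥ → (∃ a : X, ∃ h ∈ H, h ≠ 1 ∧ h • a = a) →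
    IsMultiplyPretransitive H X k := by
  intro k hk
  induction k, hk using Nat.le_induction with
  | base =>
    intro G X _ _ _ _ hcard hG hnt H hH hHb _
    haveI : IsPreprimitive G X := (is_one_preprimitive_iff G X).mp hG
    haveI := hH
    have : IsPretransitive H X := isPretransitive_of_normal_of_ne_bot (G := G) (X := X) H hHb
    exact is_one_pretransitive_iff.mpr this
  | succ k hk ih =>
    intro G X _ _ _ _ hcard hG hnt H hH hHb hnr
    classical
    haveI := hH
    have hG1 : IsMultiplyPreprimitive G X 1 :=
      isMultiplyPreprimitive_of_le (M := G) (α := X) hG (by omega)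
        (by rw [ENat.card_eq_coe_fintype_card]; exact_mod_cast hcard)
    haveI : IsPreprimitive G X := (is_one_preprimitive_iff G X).mp hG1
    haveI hHt : IsPretransitive H X := isPretransitive_of_normal_of_ne_bot (G := G) (X := X) H hHb
    haveI hGt : IsPretransitive G X := IsPreprimitive.toIsPretransitive
    obtain ⟨a, h, hhH, hh1, hha⟩ := hnr
    haveI : Fintype (ofStabilizer G a) := Fintype.ofFinite _
    have hcard' : Fintype.card (ofStabilizer G a) = Fintype.card X - 1 := by
      rw [← Nat.card_eq_fintype_card, nat_card_ofStabilizer_eq, Nat.card_eq_fintype_card]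
    haveI := hG
    have hG' : IsMultiplyPreprimitive (stabilizer G a) (ofStabilizer G a) k :=
      isMultiplyPreprimitive_ofStabilizer G X
    have hG't : IsMultiplyPretransitive (stabilizer G a) (ofStabilizer G a) k :=
      hG'.isMultiplyPretransitive
    haveI := faithfulSMul_ofStabilizer (G := G) a
    have hH' : H.subgroupOf (stabilizer G a) ≠ ⊥ := by
      intro hcon
      have h1 : (⟨h, hha⟩ : stabilizer G a) ∈ H.subgroupOf (stabilizer G a) := by
        rw [Subgroup.mem_subgroupOf]; exact hhH
      rw [hcon, Subgroup.mem_bot] at h1
      exact hh1 (congrArg Subtype.val h1)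
    have hnorm : (H.subgroupOf (stabilizer G a)).Normal := inferInstance
    have hG'1 : IsMultiplyPreprimitive (stabilizer G a) (ofStabilizer G a) 1 :=
      isMultiplyPreprimitive_of_le (M := stabilizer G a) (α := ofStabilizer G a) hG' hk
        (by rw [ENat.card_eq_coe_fintype_card, hcard']; exact_mod_cast (by omega : k ≤ Fintype.card X - 1))
    haveI : IsPreprimitive (stabilizer G a) (ofStabilizer G a) :=
      (is_one_preprimitive_iff _ _).mp hG'1
    haveI hH't : IsPretransitive (H.subgroupOf (stabilizer G a)) (ofStabilizer G a) :=
      isPretransitive_of_normal_of_ne_bot (G := stabilizer G a) (X := ofStabilizer G a) _ hH'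
    have hGfull : IsMultiplyPretransitive G X (k + 1) := hG.isMultiplyPretransitive
    have hnt' : ¬ IsMultiplyPretransitive (stabilizer G a) (ofStabilizer G a)
        (Fintype.card (ofStabilizer G a) - 1) := by
      intro hcon
      apply hnt
      have h1 : IsMultiplyPretransitive G X (Fintype.card (ofStabilizer G a) - 1).succ :=
        ofStabilizer.isMultiplyPretransitive.mpr hcon
      have h2 : (Fintype.card (ofStabilizer G a) - 1).succ = Fintype.card X - 1 := by
        rw [hcard']; omega
      rw [h2] at h1
      exact h1
    by_cases hnr' : ∃ b : ofStabilizer G a, ∃ h' ∈ H.subgroupOf (stabilizer G a),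
        h' ≠ 1 ∧ h' • b = b
    · exact isMultiplyPretransitive_succ_of_subgroupOf H a k
        (ih (stabilizer G a) (ofStabilizer G a) (by rw [hcard']; omega) hG' hnt'
          (H.subgroupOf (stabilizer G a)) hnorm hH' hnr')
    · push Not at hnr'
      rcases Nat.lt_or_ge k 2 with hk1 | hk2
      · have hk1' : k = 1 := by omega
        subst hk1'
        exact isMultiplyPretransitive_succ_of_subgroupOf H a 1
          (is_one_pretransitive_iff.mpr hH't)
      · exfalso
        have hG'2 : IsMultiplyPreprimitive (stabilizer G a) (ofStabilizer G a) 2 :=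
          isMultiplyPreprimitive_of_le (M := stabilizer G a) (α := ofStabilizer G a) hG' hk2
            (by rw [ENat.card_eq_coe_fintype_card, hcard']; exact_mod_cast (by omega : k ≤ Fintype.card X - 1))
        have hreg : ∀ x : ofStabilizer G a,
            stabilizer (H.subgroupOf (stabilizer G a)) x = ⊥ := by
          intro x
          rw [Subgroup.eq_bot_iff_forall]
          intro n hn
          by_contra hn1
          have := hnr' x n.1 n.2 (fun hc => hn1 (Subtype.ext hc))
          exact this hn
        rcases Cfsg.Agent.S0695.result (G := stabilizer G a) (X := ofStabilizer G a)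
          (by rw [hcard']; omega) hG'2 (H.subgroupOf (stabilizer G a)) hH't hreg with
          h3 | ⟨-, hexp, -⟩
        · -- card X = 4
          apply hnt
          rw [hcard'] at h3
          exact isMultiplyPretransitive_of_le (n := k + 1) (by omega)
            (by rw [Nat.card_eq_fintype_card]; omega)
        · rcases Nat.lt_or_ge (Fintype.card X) 4 with hc3 | hc4
          · apply hnt
            exact isMultiplyPretransitive_of_le (n := k + 1) (by omega)
              (by rw [Nat.card_eq_fintype_card]; omega)
          · apply false_of_stabilizer_exponent_two (N := H) (X := X) hc4 a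
            · intro n hna
              have h1 : (⟨n.1, hna⟩ : stabilizer G a) ∈ H.subgroupOf (stabilizer G a) := by
                rw [Subgroup.mem_subgroupOf]; exact n.2
              have h2 := hexp _ h1
              rw [pow_two] at h2
              apply Subtype.ext
              have h3 := congrArg Subtype.val h2
              exact h3
            · intro b c hb hc
              obtain ⟨n', hn'⟩ := exists_smul_eq (H.subgroupOf (stabilizer G a))
                (⟨b, hb⟩ : ofStabilizer G a) ⟨c, hc⟩
              refine ⟨⟨n'.1.1, n'.2⟩, n'.1.2, ?_⟩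
              exact congrArg Subtype.val hn'
            · intro n b hb hna hnb
              by_contra hn1
              have h1 : (⟨n.1, hna⟩ : stabilizer G a) ∈ H.subgroupOf (stabilizer G a) := by
                rw [Subgroup.mem_subgroupOf]; exact n.2
              apply hnr' ⟨b, hb⟩ ⟨n.1, hna⟩ h1
              · intro hc
                apply hn1
                apply Subtype.ext
                exact congrArg (fun z : stabilizer G a => (z : G)) hc
              · exact Subtype.ext hnb

/-- In a `k`-primitive permutation group which is not the whole symmetric group, a non-trivial non-regular normal subgroup is `k`-transitive. -/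
theorem result {α : Type*} [Fintype α] [DecidableEq α] (G : Subgroup (Equiv.Perm α)) {k : ℕ} (hk : 1 ≤ k) (hkn : k ≤ Fintype.card α) (hG : MulAction.IsMultiplyPreprimitive G α k) (htop : G ≠ ⊤) (H : Subgroup G) [H.Normal] (hH : H ≠ ⊥) (hnr : ∃ a : α, MulAction.stabilizer H a ≠ ⊥) : MulAction.IsMultiplyPretransitive H α k := by
  have hnt : ¬ MulAction.IsMultiplyPretransitive G α (Fintype.card α - 1) := by
    intro hcon
    apply htop
    apply Equiv.Perm.eq_top_of_isMultiplyPretransitive
    rw [Nat.card_eq_fintype_card]
    exact hcon
  obtain ⟨a, ha⟩ := hnr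
  have hex : ∃ h ∈ MulAction.stabilizer H a, h ≠ 1 := by
    by_contra hcon
    push Not at hcon
    exact ha ((Subgroup.eq_bot_iff_forall _).mpr hcon)
  obtain ⟨h, hh, hh1⟩ := hex
  exact wielandt_aux k hk G α hkn hG hnt H inferInstance hH
    ⟨a, h.1, h.2, fun hc => hh1 (Subtype.ext hc), hh⟩

end Cfsg.Agent.S0697
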