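import Mathlib
import Cfsg.Agent.Lib.Helper22.StabAction
import Cfsg.Statements.S0698
-- import your own Cfsg.Agent.* helpers here

set_option autoImplicit false
open Cfsg

namespace Cfsg.Agent.S0698

open MulAction SubMulAction Cfsg.Agent.Helper22

universe u v

theorem exponent_two_of_regular_normal {G X : Type*} [Group G] [MulAction G X] [Fintype X]
    (hcard : 4 ≤ Fintype.card X) (h3 : IsMultiplyPretransitive G X 3) (N : Subgroup G)
    [hN : N.Normal] (a : X) (hreg : ∀ n ∈ N, n • a = a → n = 1) : ∀ n ∈ N, n * n = 1 := by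
  classical
  intro n hn
  by_contra hnn
  have hn1 : n ≠ 1 := fun h => hnn (by rw [h, one_mul])
  have hx1 : n • a ≠ a := fun h => hn1 (hreg n hn h)
  have hx2 : n⁻¹ • a ≠ a := fun h => hn1 (inv_eq_one.mp (hreg n⁻¹ (N.inv_mem hn) h))
  have hx12 : n • a ≠ n⁻¹ • a := by
    intro h
    apply hnn
    apply hreg _ (N.mul_mem hn hn)
    rw [mul_smul, h, smul_inv_smul]
  obtain ⟨x₃, hx₃⟩ := exists_notMem_of_card_lt ({a, n • a, n⁻¹ • a} : Finset X)
    (lt_of_le_of_lt Finset.card_le_three (by omega))
  simp only [Finset.mem_insert, Finset.mem_singleton, not_or] at hx₃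
  obtain ⟨h3a, h31, h32⟩ := hx₃
  obtain ⟨g, hga, hg1, hg2⟩ := exists_smul_eq_three h3 (Ne.symm hx1) (Ne.symm hx2) hx12
    (Ne.symm hx1) (Ne.symm h3a) (Ne.symm h31)
  have hga' : g⁻¹ • a = a := by rw [inv_smul_eq_iff, hga]
  have hm : g * n * g⁻¹ = n := by
    have hmN : g * n * g⁻¹ ∈ N := hN.conj_mem n hn g
    have h1 : (n⁻¹ * (g * n * g⁻¹)) • a = a := by
      rw [mul_smul, mul_smul, mul_smul, hga', hg1, inv_smul_smul]
    have h2 := hreg _ (N.mul_mem (N.inv_mem hn) hmN) h1
    have : g * n * g⁻¹ = n * (n⁻¹ * (g * n * g⁻¹)) := by group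
    rw [this, h2, mul_one]
  have hm' : g * n⁻¹ * g⁻¹ = n⁻¹ := by
    have : g * n⁻¹ * g⁻¹ = (g * n * g⁻¹)⁻¹ := by group
    rw [this, hm]
  have : g • n⁻¹ • a = n⁻¹ • a := by
    have h1 : g • n⁻¹ • a = (g * n⁻¹ * g⁻¹) • g • a := by
      rw [← mul_smul, ← mul_smul]
      congr 1
      group
    rw [h1, hm', hga]
  rw [hg2] at this
  exact h32 this

theorem false_of_regular_normal_four {G X : Type*} [Group G] [MulAction G X] [Fintype X]
    (hcard : 5 ≤ Fintype.card X) (h4 : IsMultiplyPretransitive G X 4) (N : Subgroup G)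
    [hN : N.Normal] [hNt : IsPretransitive N X] (a : X) (hreg : ∀ n ∈ N, n • a = a → n = 1)
    (hexp : ∀ n ∈ N, n * n = 1) : False := by
  classical
  have hcomm : ∀ m ∈ N, ∀ n ∈ N, m * n = n * m := by
    intro m hm n hn
    have h1 := hexp _ (N.mul_mem hm hn)
    have h2 := hexp m hm
    have h3 := hexp n hn
    have hminv : m⁻¹ = m := inv_eq_of_mul_eq_one_right h2
    have hninv : n⁻¹ = n := inv_eq_of_mul_eq_one_right h3
    have hmninv : (m * n)⁻¹ = m * n := inv_eq_of_mul_eq_one_right h1
    calc m * n = (m * n)⁻¹ := hmninv.symm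
      _ = n⁻¹ * m⁻¹ := mul_inv_rev m n
      _ = n * m := by rw [hminv, hninv]
  obtain ⟨x₁, hx₁⟩ := exists_notMem_of_card_lt ({a} : Finset X)
    (by rw [Finset.card_singleton]; omega)
  rw [Finset.mem_singleton] at hx₁
  obtain ⟨x₂, hx₂⟩ := exists_notMem_of_card_lt ({a, x₁} : Finset X)
    (lt_of_le_of_lt Finset.card_le_two (by omega))
  simp only [Finset.mem_insert, Finset.mem_singleton, not_or] at hx₂
  obtain ⟨n₁, hn₁⟩ := exists_smul_eq N a x₁
  obtain ⟨n₂, hn₂⟩ := exists_smul_eq N a x₂
  have hn₁' : (n₁ : G) • a = x₁ := hn₁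
  have hn₂' : (n₂ : G) • a = x₂ := hn₂
  set x₃ := ((n₁ : G) * n₂) • a with hx₃
  have h3a : x₃ ≠ a := by
    intro h
    have h1 := hreg _ (N.mul_mem n₁.2 n₂.2) h
    have h2 : (n₂ : G) = n₁ := by
      have := hexp n₁ n₁.2
      calc (n₂ : G) = (n₁ * n₁) * n₂ := by rw [this, one_mul]
        _ = n₁ * (n₁ * n₂) := by group
        _ = n₁ := by rw [h1, mul_one]
    apply hx₂.2
    rw [← hn₂', h2, hn₁']
  have h31 : x₃ ≠ x₁ := by
    intro h
    rw [hx₃, mul_smul, ← hn₁', smul_left_cancel_iff] at h
    exact hx₂.1 (hn₂'.symm.trans h)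
  have h32 : x₃ ≠ x₂ := by
    intro h
    rw [hx₃, hcomm _ n₁.2 _ n₂.2, mul_smul, ← hn₂', smul_left_cancel_iff] at h
    exact hx₁ (hn₁'.symm.trans h)
  obtain ⟨x₄, hx₄⟩ := exists_notMem_of_card_lt ({a, x₁, x₂, x₃} : Finset X)
    (lt_of_le_of_lt Finset.card_le_four (by omega))
  simp only [Finset.mem_insert, Finset.mem_singleton, not_or] at hx₄
  obtain ⟨h4a, h41, h42, h43⟩ := hx₄
  obtain ⟨g, hga, hg1, hg2, hg3⟩ := exists_smul_eq_four h4 (Ne.symm hx₁) (Ne.symm hx₂.1)
    (Ne.symm h3a) (Ne.symm hx₂.2) (Ne.symm h31) (Ne.symm h32)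
    (Ne.symm hx₁) (Ne.symm hx₂.1) (Ne.symm h4a) (Ne.symm hx₂.2) (Ne.symm h41) (Ne.symm h42)
  have hga' : g⁻¹ • a = a := by rw [inv_smul_eq_iff, hga]
  have hconj : ∀ n ∈ N, g • n • a = n • a → g * n * g⁻¹ = n := by
    intro n hn hgn
    have hmN : g * n * g⁻¹ ∈ N := hN.conj_mem n hn g
    have h1 : (n⁻¹ * (g * n * g⁻¹)) • a = a := by
      rw [mul_smul, mul_smul, mul_smul, hga', hgn, inv_smul_smul]
    have h2 := hreg _ (N.mul_mem (N.inv_mem hn) hmN) h1
    have : g * n * g⁻¹ = n * (n⁻¹ * (g * n * g⁻¹)) := by group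
    rw [this, h2, mul_one]
  have hc1 := hconj n₁ n₁.2 (by rw [hn₁', hg1])
  have hc2 := hconj n₂ n₂.2 (by rw [hn₂', hg2])
  have hc3 : g * ((n₁ : G) * n₂) * g⁻¹ = n₁ * n₂ := by
    have : g * ((n₁ : G) * n₂) * g⁻¹ = (g * n₁ * g⁻¹) * (g * n₂ * g⁻¹) := by group
    rw [this, hc1, hc2]
  have : g • x₃ = x₃ := by
    have h1 : g • x₃ = (g * ((n₁ : G) * n₂) * g⁻¹) • g • a := by
      rw [hx₃, ← mul_smul, ← mul_smul]
      congr 1
      group
    rw [h1, hc3, hga]
  rw [hg3] at this
  exact h43 this
theorem jordan_aux : ∀ (k : ℕ), 2 ≤ k → ∀ (G : Type u) (X : Type v) [Group G] [MulAction G X]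
    [Fintype X] [FaithfulSMul G X], k < Fintype.card X → IsMultiplyPretransitive G X k →
    ∀ (N : Subgroup G), N.Normal → N ≠ ⊥ →
    IsMultiplyPretransitive N X (k - 1) ∨
      (k = 3 ∧ (∀ a b : N, a * b = b * a) ∧ ∀ n ∈ N, n * n = 1) := by
  intro k hk
  induction k, hk using Nat.le_induction with
  | base =>
    intro G X _ _ _ _ hcard hG N hN hNb
    left
    haveI : IsPreprimitive G X := isPreprimitive_of_is_two_pretransitive hG
    haveI := hN
    have : IsPretransitive N X := isPretransitive_of_normal_of_ne_bot (G := G) (X := X) N hNb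
    exact is_one_pretransitive_iff.mpr this
  | succ k hk ih =>
    intro G X _ _ _ _ hcard hG N hN hNb
    classical
    haveI := hN
    have hG2 : IsMultiplyPretransitive G X 2 :=
      isMultiplyPretransitive_of_le (n := k + 1) (by omega)
        (by rw [Nat.card_eq_fintype_card]; omega)
    haveI : IsPreprimitive G X := isPreprimitive_of_is_two_pretransitive hG2
    haveI hNt : IsPretransitive N X := isPretransitive_of_normal_of_ne_bot (G := G) (X := X) N hNb
    haveI hGt : IsPretransitive G X := IsPreprimitive.toIsPretransitive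
    obtain ⟨a⟩ : Nonempty X := by
      rw [← Fintype.card_pos_iff]; omega
    haveI : Fintype (ofStabilizer G a) := Fintype.ofFinite _
    have hcard' : Fintype.card (ofStabilizer G a) = Fintype.card X - 1 := by
      rw [← Nat.card_eq_fintype_card, nat_card_ofStabilizer_eq, Nat.card_eq_fintype_card]
    have hG' : IsMultiplyPretransitive (stabilizer G a) (ofStabilizer G a) k :=
      ofStabilizer.isMultiplyPretransitive.mp hG
    haveI := faithfulSMul_ofStabilizer (G := G) a
    by_cases hN' : N.subgroupOf (stabilizer G a) = ⊥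
    · -- regular case
      have hreg : ∀ n ∈ N, n • a = a → n = 1 := by
        intro n hn hna
        have h1 : (⟨n, hna⟩ : stabilizer G a) ∈ N.subgroupOf (stabilizer G a) := by
          rw [Subgroup.mem_subgroupOf]; exact hn
        rw [hN', Subgroup.mem_bot] at h1
        exact congrArg Subtype.val h1
      have hG3 : IsMultiplyPretransitive G X 3 :=
        isMultiplyPretransitive_of_le (n := k + 1) (by omega)
          (by rw [Nat.card_eq_fintype_card]; omega)
      have hexp := exponent_two_of_regular_normal (by omega) hG3 N a hreg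
      rcases Nat.lt_or_ge 2 k with hk3 | hk2
      · exfalso
        have hG4 : IsMultiplyPretransitive G X 4 :=
          isMultiplyPretransitive_of_le (n := k + 1) (by omega)
            (by rw [Nat.card_eq_fintype_card]; omega)
        exact false_of_regular_normal_four (by omega) hG4 N a hreg hexp
      · right
        refine ⟨by omega, ?_, hexp⟩
        intro m n
        have h1 := hexp _ (N.mul_mem m.2 n.2)
        have h2 := hexp m m.2
        have h3 := hexp n n.2
        have hminv : (m : G)⁻¹ = m := inv_eq_of_mul_eq_one_right h2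
        have hninv : (n : G)⁻¹ = n := inv_eq_of_mul_eq_one_right h3
        have hmninv : ((m : G) * n)⁻¹ = m * n := inv_eq_of_mul_eq_one_right h1
        apply Subtype.ext
        rw [Subgroup.coe_mul, Subgroup.coe_mul]
        calc (m : G) * n = ((m : G) * n)⁻¹ := hmninv.symm
          _ = (n : G)⁻¹ * (m : G)⁻¹ := mul_inv_rev _ _
          _ = n * m := by rw [hminv, hninv]
    · -- induction
      have hnorm : (N.subgroupOf (stabilizer G a)).Normal := inferInstance
      rcases ih (stabilizer G a) (ofStabilizer G a) (by rw [hcard']; omega) hG'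
        (N.subgroupOf (stabilizer G a)) hnorm hN' with h1 | ⟨hk3, hcomm, hexp⟩
      · left
        have := isMultiplyPretransitive_succ_of_subgroupOf N a (k - 1) h1
        have hk1 : k - 1 + 1 = k + 1 - 1 := by omega
        rw [hk1] at this
        exact this
      · exfalso
        have hG'2 : IsMultiplyPretransitive (stabilizer G a) (ofStabilizer G a) 2 :=
          isMultiplyPretransitive_of_le (n := k) (by omega)
            (by rw [Nat.card_eq_fintype_card, hcard']; omega)
        haveI : IsPreprimitive (stabilizer G a) (ofStabilizer G a) :=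
          isPreprimitive_of_is_two_pretransitive hG'2
        haveI hN't : IsPretransitive (N.subgroupOf (stabilizer G a)) (ofStabilizer G a) :=
          isPretransitive_of_normal_of_ne_bot (G := stabilizer G a) (X := ofStabilizer G a) _ hN'
        apply false_of_stabilizer_exponent_two (N := N) (X := X) (by omega) a
        · intro n hna
          have h1 : (⟨n.1, hna⟩ : stabilizer G a) ∈ N.subgroupOf (stabilizer G a) := by
            rw [Subgroup.mem_subgroupOf]; exact n.2
          have h2 := hexp _ h1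
          apply Subtype.ext
          have h3 := congrArg Subtype.val h2
          exact h3
        · intro b c hb hc
          obtain ⟨n', hn'⟩ := exists_smul_eq (N.subgroupOf (stabilizer G a))
            (⟨b, hb⟩ : ofStabilizer G a) ⟨c, hc⟩
          refine ⟨⟨n'.1.1, n'.2⟩, n'.1.2, ?_⟩
          exact congrArg Subtype.val hn'
        · intro n b hb hna hnb
          have h1 : (⟨n.1, hna⟩ : stabilizer G a) ∈ N.subgroupOf (stabilizer G a) := by
            rw [Subgroup.mem_subgroupOf]; exact n.2
          have h2 := eq_one_of_smul_eq_of_comm (A := N.subgroupOf (stabilizer G a))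
            (Y := ofStabilizer G a) hcomm ⟨⟨n.1, hna⟩, h1⟩ ⟨b, hb⟩ (Subtype.ext hnb)
          apply Subtype.ext
          have h3 := congrArg (fun z : N.subgroupOf (stabilizer G a) => ((z : stabilizer G a) : G)) h2
          exact h3

/-- Jordan's Theorem on normal subgroups of multiply transitive groups: if `G` is `k`-transitive (`k > 1`) of degree greater than `k`, a non-trivial normal subgroup is `(k-1)`-transitive, except possibly for `k = 3` when it may be an elementary abelian 2-group. -/
theorem result {α : Type*} [Fintype α] [DecidableEq α] (G : Subgroup (Equiv.Perm α)) {k : ℕ} (hk : 1 < k) (hdeg : k < Fintype.card α) (hG : MulAction.IsMultiplyPretransitive G α k) (N : Subgroup G) [N.Normal] (hN : N ≠ ⊥) : MulAction.IsMultiplyPretransitive N α (k - 1) ∨ (k = 3 ∧ IsMulCommutative N ∧ ∀ n ∈ N, n ^ 2 = 1) := by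
  have hk2 : 2 ≤ k := hk
  rcases jordan_aux k hk2 G α (by exact hdeg) hG N inferInstance hN with h | ⟨h1, h2, h3⟩
  · exact Or.inl h
  · right
    refine ⟨h1, ⟨⟨fun a b => h2 a b⟩⟩, fun n hn => ?_⟩
    rw [pow_two]
    exact h3 n hn

end Cfsg.Agent.S0698
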