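import Mathlib
import Cfsg.Statements.S0699
import Cfsg.Agent.Lib.Helper3.Wagner

set_option autoImplicit false

open Cfsg

namespace Cfsg.Agent.S0699

open MulAction

/-- Wagner's Theorem: a non-trivial normal subgroup of a triply transitive permutation group of odd degree at least 5 is triply transitive. -/
theorem result {α : Type*} [Fintype α] [DecidableEq α] (G : Subgroup (Equiv.Perm α)) (hodd : Odd (Fintype.card α)) (h5 : 5 ≤ Fintype.card α) (hG : MulAction.IsMultiplyPretransitive G α 3) (N : Subgroup G) [N.Normal] (hN : N ≠ ⊥) : MulAction.IsMultiplyPretransitive N α 3 := by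
  classical
  have h3t : Helper3.Wagner.T3 G α := by
    intro x y w x' y' w' hxy hxw hyw hxy' hxw' hyw'
    let e : Fin 3 ↪ α := ⟨![x, y, w], by
      intro i j hij
      fin_cases i <;> fin_cases j <;> simp_all⟩
    let e' : Fin 3 ↪ α := ⟨![x', y', w'], by
      intro i j hij
      fin_cases i <;> fin_cases j <;> simp_all⟩
    obtain ⟨g, hg⟩ := hG.exists_smul_eq e e'
    refine ⟨g, ?_, ?_, ?_⟩
    · exact DFunLike.congr_fun hg 0
    · exact DFunLike.congr_fun hg 1
    · exact DFunLike.congr_fun hg 2
  have hmove : ∃ m ∈ N, ∃ x : α, m • x ≠ x := by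
    obtain ⟨m, hm1⟩ := (Subgroup.ne_bot_iff_exists_ne_one).mp hN
    have hm1' : ((m : G) : Equiv.Perm α) ≠ 1 := by
      intro h
      apply hm1
      apply Subtype.ext
      apply Subtype.ext
      exact h
    have hx : ∃ x : α, ((m : G) : Equiv.Perm α) x ≠ x := by
      by_contra hcon
      push Not at hcon
      apply hm1'
      ext x
      exact hcon x
    obtain ⟨x, hx⟩ := hx
    exact ⟨m, m.2, x, hx⟩
  have hW := Helper3.Wagner.wagner hodd h5 h3t N inferInstance hmove
  refine ⟨fun e e' => ?_⟩
  obtain ⟨m, hm, h1, h2, h3'⟩ := hW (e 0) (e 1) (e 2) (e' 0) (e' 1) (e' 2)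
    (fun h => by have := e.injective h; simp at this)
    (fun h => by have := e.injective h; simp at this)
    (fun h => by have := e.injective h; simp at this)
    (fun h => by have := e'.injective h; simp at this)
    (fun h => by have := e'.injective h; simp at this)
    (fun h => by have := e'.injective h; simp at this)
  refine ⟨⟨m, hm⟩, ?_⟩
  ext i
  fin_cases i
  · exact h1
  · exact h2
  · exact h3'

end Cfsg.Agent.S0699
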