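import Mathlib
import Cfsg.Statements.S0701

set_option autoImplicit false
open Cfsg

namespace Cfsg.Agent.S0701

section
variable {α : Type*} (G : Subgroup (Equiv.Perm α)) [MulAction.IsPretransitive G α]

/-- the map sending `g • a` to `g • b` -/
noncomputable def f (a b : α) (x : α) : α :=
  (Classical.choose (MulAction.exists_smul_eq G a x)) • b

theorem f_spec (hreg : ∀ a : α, MulAction.stabilizer G a = ⊥) (a b x : α) (g : G) (hg : g • a = x) :
    f G a b x = g • b := by
  unfold f
  have h1 := Classical.choose_spec (MulAction.exists_smul_eq G a x)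
  set k := Classical.choose (MulAction.exists_smul_eq G a x) with hk
  have h2 : g⁻¹ * k ∈ MulAction.stabilizer G a := by
    rw [MulAction.mem_stabilizer_iff, mul_smul, h1, ← hg, inv_smul_smul]
  rw [hreg a, Subgroup.mem_bot] at h2
  have : k = g := by
    calc k = g * (g⁻¹ * k) := by group
      _ = g := by rw [h2, mul_one]
  rw [this]

theorem f_f (hreg : ∀ a : α, MulAction.stabilizer G a = ⊥) (a b x : α) :
    f G b a (f G a b x) = x := by
  obtain ⟨g, hg⟩ := MulAction.exists_smul_eq G a x
  rw [f_spec G hreg a b x g hg, f_spec G hreg b a (g • b) g rfl, hg]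

end

/-- The centraliser in the full symmetric group of a transitive permutation group `G` is semiregular, and it is transitive if and only if `G` is regular. -/
theorem result {α : Type*} (G : Subgroup (Equiv.Perm α)) [MulAction.IsPretransitive G α] : (∀ c ∈ Subgroup.centralizer (G : Set (Equiv.Perm α)), ∀ a : α, c a = a → c = 1) ∧ (MulAction.IsPretransitive (Subgroup.centralizer (G : Set (Equiv.Perm α))) α ↔ ∀ a : α, MulAction.stabilizer G a = ⊥) := by
  constructor
  · intro c hc a hca
    rw [Subgroup.mem_centralizer_iff] at hc
    ext b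
    obtain ⟨g, hg⟩ := MulAction.exists_smul_eq G a b
    have hg' : (g : Equiv.Perm α) a = b := hg
    have h1 := congrArg (fun f : Equiv.Perm α => f a) (hc g g.2)
    simp only [Equiv.Perm.coe_mul, Function.comp_apply] at h1
    rw [Equiv.Perm.coe_one, id_eq, ← hg', ← h1, hca]
  · constructor
    · intro htrans a
      rw [eq_bot_iff]
      intro g hg
      rw [MulAction.mem_stabilizer_iff] at hg
      have hg' : (g : Equiv.Perm α) a = a := hg
      rw [Subgroup.mem_bot]
      apply Subtype.ext
      ext b
      obtain ⟨c, hc⟩ := htrans.exists_smul_eq a b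
      have hc' : (c : Equiv.Perm α) a = b := hc
      have hcomm := (Subgroup.mem_centralizer_iff.1 c.2) g g.2
      have h1 := congrArg (fun f : Equiv.Perm α => f a) hcomm
      simp only [Equiv.Perm.coe_mul, Function.comp_apply] at h1
      rw [Subgroup.coe_one, Equiv.Perm.coe_one, id_eq, ← hc', h1, hg']
    · intro hreg
      refine ⟨fun a b => ?_⟩
      let c : Equiv.Perm α :=
        { toFun := f G a b
          invFun := f G b a
          left_inv := f_f G hreg a b
          right_inv := f_f G hreg b a }
      have hc : c ∈ Subgroup.centralizer (G : Set (Equiv.Perm α)) := by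
        rw [Subgroup.mem_centralizer_iff]
        intro h hh
        ext x
        obtain ⟨g, hg⟩ := MulAction.exists_smul_eq G a x
        change h (f G a b x) = f G a b (h x)
        have h1 : (⟨h, hh⟩ * g : G) • a = h x := by
          rw [mul_smul, hg]; rfl
        rw [f_spec G hreg a b x g hg, f_spec G hreg a b (h x) (⟨h, hh⟩ * g) h1, mul_smul]
        rfl
      refine ⟨⟨c, hc⟩, ?_⟩
      change f G a b a = b
      rw [f_spec G hreg a b a 1 (one_smul _ _), one_smul]

end Cfsg.Agent.S0701
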