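import Mathlib
import Cfsg.Agent.Lib.Helper22.RegularNormal
import Cfsg.Statements.S0702
-- import your own Cfsg.Agent.* helpers here

set_option autoImplicit false
open Cfsg

namespace Cfsg.Agent.S0702

open Cfsg.Agent.Helper22

section construction

variable {α : Type*} (G : Subgroup (Equiv.Perm α)) [hT : MulAction.IsPretransitive G α] (a : α)

/-- a chosen element of `G` carrying `a` to `x` -/
noncomputable def rep (x : α) : G := (hT.exists_smul_eq a x).choose

theorem rep_spec (x : α) : rep G a x • a = x := (hT.exists_smul_eq a x).choose_spec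

/-- the map `g • a ↦ g n⁻¹ • a` -/
noncomputable def cfun (n : G) (x : α) : α := (rep G a x * n⁻¹) • a

theorem cfun_smul (n : G)
    (hn : n ∈ Subgroup.normalizer ((MulAction.stabilizer G a : Subgroup G) : Set G)) (g : G) :
    cfun G a n (g • a) = (g * n⁻¹) • a := by
  unfold cfun
  set r := rep G a (g • a) with hr
  have h1 : r • a = g • a := rep_spec G a (g • a)
  have hs : g⁻¹ * r ∈ MulAction.stabilizer G a := by
    rw [MulAction.mem_stabilizer_iff, mul_smul, h1, inv_smul_smul]
  have hs' : n * (g⁻¹ * r) * n⁻¹ ∈ MulAction.stabilizer G a :=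
    (Subgroup.mem_normalizer_iff.mp hn (g⁻¹ * r)).mp hs
  rw [MulAction.mem_stabilizer_iff] at hs'
  have h2 : r * n⁻¹ = g * n⁻¹ * (n * (g⁻¹ * r) * n⁻¹) := by group
  rw [h2, mul_smul, hs']

theorem cfun_cfun (n : G)
    (hn : n ∈ Subgroup.normalizer ((MulAction.stabilizer G a : Subgroup G) : Set G)) (x : α) :
    cfun G a n (cfun G a n⁻¹ x) = x := by
  obtain ⟨g, rfl⟩ := hT.exists_smul_eq a x
  rw [cfun_smul G a n⁻¹ (Subgroup.inv_mem _ hn), inv_inv, cfun_smul G a n hn, mul_assoc,
    mul_inv_cancel, mul_one]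

/-- the permutation `c_n` -/
noncomputable def cperm (n : G)
    (hn : n ∈ Subgroup.normalizer ((MulAction.stabilizer G a : Subgroup G) : Set G)) :
    Equiv.Perm α where
  toFun := cfun G a n
  invFun := cfun G a n⁻¹
  left_inv x := by
    have := cfun_cfun G a n⁻¹ (Subgroup.inv_mem _ hn) x
    rwa [inv_inv] at this
  right_inv x := cfun_cfun G a n hn x

theorem cperm_smul (n : G)
    (hn : n ∈ Subgroup.normalizer ((MulAction.stabilizer G a : Subgroup G) : Set G)) (g : G) :
    cperm G a n hn (g • a) = (g * n⁻¹) • a := cfun_smul G a n hn g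

theorem cperm_apply_base (n : G)
    (hn : n ∈ Subgroup.normalizer ((MulAction.stabilizer G a : Subgroup G) : Set G)) :
    cperm G a n hn a = n⁻¹ • a := by
  have := cperm_smul G a n hn 1
  rwa [one_smul, one_mul] at this

theorem cperm_mem (n : G)
    (hn : n ∈ Subgroup.normalizer ((MulAction.stabilizer G a : Subgroup G) : Set G)) :
    cperm G a n hn ∈ Subgroup.centralizer (G : Set (Equiv.Perm α)) := by
  rw [Subgroup.mem_centralizer_iff]
  intro g' hg'
  ext x
  obtain ⟨g, rfl⟩ := hT.exists_smul_eq a x
  simp only [Equiv.Perm.coe_mul, Function.comp_apply]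
  have e1 : g' (g • a) = ((⟨g', hg'⟩ : G) * g) • a := by
    rw [mul_smul]; rfl
  rw [e1, cperm_smul, cperm_smul, mul_assoc, mul_smul]
  rfl

theorem cperm_mul (n m : G)
    (hn : n ∈ Subgroup.normalizer ((MulAction.stabilizer G a : Subgroup G) : Set G))
    (hm : m ∈ Subgroup.normalizer ((MulAction.stabilizer G a : Subgroup G) : Set G)) :
    cperm G a (n * m) (Subgroup.mul_mem _ hn hm) = cperm G a n hn * cperm G a m hm := by
  ext x
  obtain ⟨g, rfl⟩ := hT.exists_smul_eq a x
  simp only [Equiv.Perm.coe_mul, Function.comp_apply]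
  rw [cperm_smul, cperm_smul, cperm_smul, mul_inv_rev, mul_assoc]

end construction

/-- an element of `G` moving `a` to a point fixed by the stabilizer normalizes the stabilizer -/
theorem inv_mem_normalizer_of_fixed {α : Type*} [Finite α] (G : Subgroup (Equiv.Perm α)) (a : α)
    (h : G) (hfix : ∀ s ∈ MulAction.stabilizer G a, s • h • a = h • a) :
    h⁻¹ ∈ Subgroup.normalizer ((MulAction.stabilizer G a : Subgroup G) : Set G) := by
  apply Subgroup.mem_normalizer_fintype
  intro s hs
  rw [SetLike.mem_coe, MulAction.mem_stabilizer_iff, inv_inv, mul_smul, mul_smul, hfix s hs,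
    inv_smul_smul]

/-- For a transitive permutation group `G` on a finite set, the centraliser of `G` in the symmetric group is isomorphic to `N_G(G_ω)/G_ω`, and its orbit of `ω` is the set of fixed points of `G_ω`. -/
theorem result {α : Type*} [Finite α] (G : Subgroup (Equiv.Perm α)) [MulAction.IsPretransitive G α] (a : α) : Nonempty (Subgroup.centralizer (G : Set (Equiv.Perm α)) ≃* Subgroup.normalizer ((MulAction.stabilizer G a : Subgroup G) : Set G) ⧸ (MulAction.stabilizer G a).subgroupOf (Subgroup.normalizer ((MulAction.stabilizer G a : Subgroup G) : Set G))) ∧ MulAction.orbit (Subgroup.centralizer (G : Set (Equiv.Perm α))) a = MulAction.fixedPoints (MulAction.stabilizer G a) α := by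
  classical
  set C := Subgroup.centralizer (G : Set (Equiv.Perm α)) with hC
  set S := MulAction.stabilizer G a with hS
  set N := Subgroup.normalizer ((S : Subgroup G) : Set G) with hN
  have htr : ∀ b, ∃ h ∈ G, h a = b := by
    intro b
    obtain ⟨g, hg⟩ := MulAction.exists_smul_eq G a b
    exact ⟨g, g.2, hg⟩
  have hsemi : ∀ c ∈ C, c a = a → c = 1 := by
    intro c hc hca
    apply perm_eq_one_of_commute_of_fixed (H := G) htr _ hca
    intro h hh
    exact (Subgroup.mem_centralizer_iff.mp hc h hh).symm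
  -- fixed points and the centralizer
  have hfixC : ∀ c ∈ C, ∀ s ∈ S, s • c a = c a := by
    intro c hc s hs
    have h1 := Subgroup.mem_centralizer_iff.mp hc (s : Equiv.Perm α) s.2
    have h2 : s • a = a := hs
    show (s : Equiv.Perm α) (c a) = c a
    have h3 : (s : Equiv.Perm α) (c a) = ((s : Equiv.Perm α) * c) a := rfl
    rw [h3, h1, Equiv.Perm.mul_apply]
    congr 1
  have hexN : ∀ x : α, (∀ s ∈ S, s • x = x) → ∃ n : G, ∃ hn : n ∈ N, cperm G a n hn a = x := by
    intro x hx
    obtain ⟨h, rfl⟩ := MulAction.exists_smul_eq G a x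
    have hn := inv_mem_normalizer_of_fixed G a h hx
    refine ⟨h⁻¹, hn, ?_⟩
    rw [cperm_apply_base, inv_inv]
  constructor
  · let ψ : N →* C := MonoidHom.mk' (fun n => ⟨cperm G a n.1 n.2, cperm_mem G a n.1 n.2⟩)
      (by
        intro n m
        apply Subtype.ext
        exact cperm_mul G a n.1 m.1 n.2 m.2)
    have hψ : ∀ n : N, ((ψ n : C) : Equiv.Perm α) = cperm G a n.1 n.2 := fun n => rfl
    have hsurj : Function.Surjective ψ := by
      intro c
      obtain ⟨n, hn, hna⟩ := hexN ((c : Equiv.Perm α) a) (hfixC c.1 c.2)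
      refine ⟨⟨n, hn⟩, ?_⟩
      apply Subtype.ext
      rw [hψ]
      -- both in C and agree at a
      have h1 : (cperm G a n hn)⁻¹ * (c : Equiv.Perm α) ∈ C :=
        C.mul_mem (C.inv_mem (cperm_mem G a n hn)) c.2
      have h2 : ((cperm G a n hn)⁻¹ * (c : Equiv.Perm α)) a = a := by
        rw [Equiv.Perm.mul_apply, ← hna]
        simp
      have h3 := hsemi _ h1 h2
      have h4 := congrArg (fun x => cperm G a n hn * x) h3
      simpa using h4.symm
    have hker : ψ.ker = S.subgroupOf N := by
      ext n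
      rw [MonoidHom.mem_ker, Subgroup.mem_subgroupOf]
      constructor
      · intro h
        have h1 : ((ψ n : C) : Equiv.Perm α) a = a := by rw [h]; rfl
        rw [hψ, cperm_apply_base] at h1
        have h2 : (n : G)⁻¹ ∈ S := h1
        exact (Subgroup.inv_mem_iff S).mp h2
      · intro h
        apply Subtype.ext
        apply hsemi _ (ψ n).2
        rw [hψ, cperm_apply_base]
        exact S.inv_mem h
    have e1 : N ⧸ ψ.ker ≃* C := QuotientGroup.quotientKerEquivOfSurjective ψ hsurj
    have e2 : N ⧸ ψ.ker ≃* N ⧸ S.subgroupOf N := QuotientGroup.quotientMulEquivOfEq hker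
    exact ⟨e1.symm.trans e2⟩
  · ext x
    constructor
    · rintro ⟨c, rfl⟩
      rw [MulAction.mem_fixedPoints]
      intro s
      exact hfixC c.1 c.2 s.1 s.2
    · intro hx
      rw [MulAction.mem_fixedPoints] at hx
      obtain ⟨n, hn, hna⟩ := hexN x (fun s hs => hx ⟨s, hs⟩)
      exact ⟨⟨cperm G a n hn, cperm_mem G a n hn⟩, hna⟩

end Cfsg.Agent.S0702
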