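import Cfsg.Agent.Lib.Helper22.RegularNormal
import Cfsg.Statements.S0703
-- import your own Cfsg.Agent.* helpers here

set_option autoImplicit false
open Cfsg

namespace Cfsg.Agent.S0703

open Cfsg.Agent.Helper22

theorem exists_point {α : Type*} (G : Subgroup (Equiv.Perm α)) (M : Subgroup G) (hM : M ≠ ⊥) :
    Nonempty α := by
  by_contra hne
  rw [not_nonempty_iff] at hne
  apply hM
  rw [eq_bot_iff]
  intro m _
  rw [Subgroup.mem_bot]
  apply Subtype.ext
  ext b
  exact (hne.false b).elim

/-- The `p`-torsion subgroup of an abelian normal subgroup, as a subgroup of the big group. -/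
def torsionSub {G : Type*} [Group G] (M : Subgroup G) (hab : IsMulCommutative M) (p : ℕ) :
    Subgroup G where
  carrier := {m | m ∈ M ∧ m ^ p = 1}
  one_mem' := ⟨M.one_mem, one_pow _⟩
  mul_mem' := by
    rintro x y ⟨hx, hxp⟩ ⟨hy, hyp⟩
    refine ⟨M.mul_mem hx hy, ?_⟩
    have hc : (⟨x, hx⟩ : M) * ⟨y, hy⟩ = ⟨y, hy⟩ * ⟨x, hx⟩ := hab.is_comm.comm _ _
    have hc' : x * y = y * x := congrArg Subtype.val hc
    have : Commute x y := hc'
    rw [this.mul_pow, hxp, hyp, one_mul]
  inv_mem' := by
    rintro x ⟨hx, hxp⟩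
    exact ⟨M.inv_mem hx, by rw [inv_pow, hxp, inv_one]⟩

theorem torsionSub_normal {G : Type*} [Group G] (M : Subgroup G) [hn : M.Normal]
    (hab : IsMulCommutative M) (p : ℕ) : (torsionSub M hab p).Normal := by
  constructor
  rintro x ⟨hx, hxp⟩ g
  refine ⟨hn.conj_mem x hx g, ?_⟩
  rw [conj_pow, hxp, mul_one, mul_inv_cancel]

theorem torsionSub_le {G : Type*} [Group G] (M : Subgroup G)
    (hab : IsMulCommutative M) (p : ℕ) : torsionSub M hab p ≤ M := fun _ hx => hx.1

/-- An abelian transitive minimal normal subgroup `M` of a permutation group on a finite set is self-centralising in the symmetric group, regular, elementary abelian, and is the unique minimal normal subgroup. -/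
theorem result {α : Type*} [Finite α] (G : Subgroup (Equiv.Perm α)) (M : Subgroup G) [M.Normal] (hM : M ≠ ⊥) (hmin : ∀ L : Subgroup G, L.Normal → L ≤ M → L = ⊥ ∨ L = M) (hab : IsMulCommutative M) (htrans : MulAction.IsPretransitive M α) : Subgroup.centralizer ((M.map G.subtype : Subgroup (Equiv.Perm α)) : Set (Equiv.Perm α)) = M.map G.subtype ∧ (∀ a : α, MulAction.stabilizer M a = ⊥) ∧ (∃ p : ℕ, p.Prime ∧ ∀ m ∈ M, m ^ p = 1) ∧ ∀ L : Subgroup G, L.Normal → L ≠ ⊥ → (∀ L' : Subgroup G, L'.Normal → L' ≤ L → L' = ⊥ ∨ L' = L) → L = M := by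
  obtain ⟨a⟩ := exists_point G M hM
  have hMM : (M.map G.subtype : Subgroup (Equiv.Perm α)) ≤
      Subgroup.centralizer ((M.map G.subtype : Subgroup (Equiv.Perm α)) : Set (Equiv.Perm α)) := by
    rintro _ ⟨m, hm, rfl⟩
    rw [Subgroup.mem_centralizer_iff]
    rintro _ ⟨m', hm', rfl⟩
    have h2 : (⟨m', hm'⟩ : M) * ⟨m, hm⟩ = ⟨m, hm⟩ * ⟨m', hm'⟩ := hab.is_comm.comm _ _
    have h3 := congrArg (fun x : M => ((x : G) : Equiv.Perm α)) h2
    simpa using h3
  have hCM : Subgroup.centralizer ((M.map G.subtype : Subgroup (Equiv.Perm α)) : Set (Equiv.Perm α))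
      = M.map G.subtype :=
    centralizer_eq_of_le_of_transitive a (exists_mem_map_apply_eq G M a)
      (exists_mem_map_apply_eq G M a) hMM
  have hMs := stabilizer_eq_bot_of_le_centralizer G M M hMM
  refine ⟨hCM, hMs, ?_, ?_⟩
  · -- elementary abelian
    haveI : Finite G := inferInstance
    haveI : Finite M := inferInstance
    have hcard : Nat.card M ≠ 1 := by
      intro h1
      apply hM
      exact Subgroup.card_eq_one.mp h1
    obtain ⟨p, hp, hpd⟩ := Nat.exists_prime_and_dvd hcard
    haveI : Fact p.Prime := ⟨hp⟩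
    refine ⟨p, hp, ?_⟩
    obtain ⟨x, hx⟩ := exists_prime_orderOf_dvd_card' p hpd
    have hn := torsionSub_normal M hab p
    rcases hmin _ hn (torsionSub_le M hab p) with h | h
    · exfalso
      have hxm : (x : G) ∈ torsionSub M hab p := by
        refine ⟨x.2, ?_⟩
        have : x ^ p = 1 := by rw [← hx]; exact pow_orderOf_eq_one x
        have := congrArg Subtype.val this
        simpa using this
      rw [h, Subgroup.mem_bot] at hxm
      have hx1 : x = 1 := Subtype.ext hxm
      rw [hx1, orderOf_one] at hx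
      exact hp.one_lt.ne hx
    · intro m hm
      rw [← h] at hm
      exact hm.2
  · intro L hLn hL hLmin
    by_contra hcon
    haveI := hLn
    have hdL : M ⊓ L = ⊥ := by
      have hn : (M ⊓ L).Normal := inferInstance
      rcases hLmin (M ⊓ L) hn inf_le_right with h | h
      · exact h
      · exfalso
        have hle : L ≤ M := by rw [← h]; exact inf_le_left
        rcases hmin L hLn hle with h' | h'
        · exact hL h'
        · exact hcon h'
    have h1 := map_le_centralizer_map_of_disjoint G M L hdL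
    rw [hCM] at h1
    have h2 : L ≤ M := le_of_map_subtype_le G M L h1
    rcases hmin L hLn h2 with h | h
    · exact hL h
    · exact hcon h

end Cfsg.Agent.S0703
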