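import Cfsg.Agent.Lib.Helper22.RegularNormal
import Cfsg.Statements.S0704
-- import your own Cfsg.Agent.* helpers here

set_option autoImplicit false
open Cfsg

namespace Cfsg.Agent.S0704

open Cfsg.Agent.Helper22

theorem inf_eq_bot_of_min {α : Type*} (G : Subgroup (Equiv.Perm α)) (M N : Subgroup G) [M.Normal] [N.Normal]
    (hM : M ≠ ⊥)
    (hNmin : ∀ L : Subgroup G, L.Normal → L ≤ N → L = ⊥ ∨ L = N)
    (hMmin : ∀ L : Subgroup G, L.Normal → L ≤ M → L = ⊥ ∨ L = M)
    (hMN : M ≠ N) : M ⊓ N = ⊥ := by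
  have hn : (M ⊓ N).Normal := inferInstance
  rcases hMmin (M ⊓ N) hn inf_le_left with h | h
  · exact h
  · exfalso
    have hle : M ≤ N := by rw [← h]; exact inf_le_right
    rcases hNmin M inferInstance hle with h' | h'
    · exact hM h'
    · exact hMN h'

theorem exists_moved {α : Type*} (G : Subgroup (Equiv.Perm α)) (M : Subgroup G) (hM : M ≠ ⊥) :
    Nonempty α := by
  by_contra hne
  rw [not_nonempty_iff] at hne
  apply hM
  rw [eq_bot_iff]
  intro m _
  rw [Subgroup.mem_bot]
  apply Subtype.ext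
  ext b
  exact (hne.false b).elim

/-- the isomorphism -/
theorem nonempty_mulEquiv_of_regular {α : Type*} (G : Subgroup (Equiv.Perm α)) (M N : Subgroup G)
    (a : α)
    (hMt : MulAction.IsPretransitive M α) (hNt : MulAction.IsPretransitive N α)
    (hMs : MulAction.stabilizer M a = ⊥) (hNs : MulAction.stabilizer N a = ⊥)
    (hc : ∀ m ∈ M, ∀ n ∈ N, m * n = n * m) : Nonempty (M ≃* N) := by
  -- for each m there is a unique n with n⁻¹ • a = m • a
  have hex : ∀ m : M, ∃ n : N, n⁻¹ • a = m • a := by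
    intro m
    obtain ⟨n, hn⟩ := hNt.exists_smul_eq a (m • a)
    exact ⟨n⁻¹, by rw [inv_inv]; exact hn⟩
  have hNinj : ∀ n₁ n₂ : N, n₁ • a = n₂ • a → n₁ = n₂ := by
    intro n₁ n₂ h
    have h1 : n₂⁻¹ * n₁ ∈ MulAction.stabilizer N a := by
      rw [MulAction.mem_stabilizer_iff, mul_smul, h, ← mul_smul, inv_mul_cancel, one_smul]
    rw [hNs, Subgroup.mem_bot] at h1
    have := congrArg (fun x => n₂ * x) h1
    simpa using this
  have hMinj : ∀ m₁ m₂ : M, m₁ • a = m₂ • a → m₁ = m₂ := by
    intro m₁ m₂ h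
    have h1 : m₂⁻¹ * m₁ ∈ MulAction.stabilizer M a := by
      rw [MulAction.mem_stabilizer_iff, mul_smul, h, ← mul_smul, inv_mul_cancel, one_smul]
    rw [hMs, Subgroup.mem_bot] at h1
    have := congrArg (fun x => m₂ * x) h1
    simpa using this
  choose f hf using hex
  have hcomm : ∀ (m : M) (n : N) (b : α), m • n • b = n • m • b := by
    intro m n b
    have h1 := hc m m.2 n n.2
    show ((m : G) : Equiv.Perm α) (((n : G) : Equiv.Perm α) b) =
      ((n : G) : Equiv.Perm α) (((m : G) : Equiv.Perm α) b)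
    have h2 := congrArg (fun g : G => (g : Equiv.Perm α) b) h1
    simpa using h2
  have hmul : ∀ m₁ m₂ : M, f (m₁ * m₂) = f m₁ * f m₂ := by
    intro m₁ m₂
    have h1 : (f (m₁ * m₂))⁻¹ • a = (f m₁ * f m₂)⁻¹ • a := by
      rw [hf, mul_inv_rev, mul_smul, mul_smul, hf m₁, ← hcomm, hf m₂]
    have := hNinj _ _ h1
    exact inv_injective this
  have hinj : Function.Injective f := by
    intro m₁ m₂ h
    apply hMinj
    rw [← hf, ← hf, h]
  have hsurj : Function.Surjective f := by
    intro n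
    obtain ⟨m, hm⟩ := hMt.exists_smul_eq a (n⁻¹ • a)
    refine ⟨m, ?_⟩
    have : (f m)⁻¹ • a = n⁻¹ • a := by rw [hf, hm]
    exact inv_injective (hNinj _ _ this)
  exact ⟨MulEquiv.ofBijective (MonoidHom.mk' f hmul) ⟨hinj, hsurj⟩⟩

/-- Two distinct transitive minimal normal subgroups `M`, `N` of a permutation group are regular, non-abelian, isomorphic, each other's centraliser in the symmetric group, and the only minimal normal subgroups. -/
theorem result {α : Type*} (G : Subgroup (Equiv.Perm α)) (M N : Subgroup G) [M.Normal] [N.Normal] (hM : M ≠ ⊥) (hN : N ≠ ⊥) (hMmin : ∀ L : Subgroup G, L.Normal → L ≤ M → L = ⊥ ∨ L = M) (hNmin : ∀ L : Subgroup G, L.Normal → L ≤ N → L = ⊥ ∨ L = N) (hMN : M ≠ N) (hMt : MulAction.IsPretransitive M α) (hNt : MulAction.IsPretransitive N α) : (∀ a : α, MulAction.stabilizer M a = ⊥) ∧ (∀ a : α, MulAction.stabilizer N a = ⊥) ∧ ¬ IsMulCommutative M ∧ Nonempty (M ≃* N) ∧ Subgroup.centralizer ((M.map G.subtype : Subgroup (Equiv.Perm α)) : Set (Equiv.Perm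 α)) = N.map G.subtype ∧ Subgroup.centralizer ((N.map G.subtype : Subgroup (Equiv.Perm α)) : Set (Equiv.Perm α)) = M.map G.subtype ∧ ∀ L : Subgroup G, L.Normal → L ≠ ⊥ → (∀ L' : Subgroup G, L'.Normal → L' ≤ L → L' = ⊥ ∨ L' = L) → L = M ∨ L = N := by
  have hd : M ⊓ N = ⊥ := inf_eq_bot_of_min G M N hM hNmin hMmin hMN
  have hd' : N ⊓ M = ⊥ := by rw [inf_comm]; exact hd
  have hNM := map_le_centralizer_map_of_disjoint G M N hd
  have hMN' := map_le_centralizer_map_of_disjoint G N M hd'
  obtain ⟨a⟩ := exists_moved G M hM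
  have hCM : Subgroup.centralizer ((M.map G.subtype : Subgroup (Equiv.Perm α)) : Set (Equiv.Perm α))
      = N.map G.subtype :=
    centralizer_eq_of_le_of_transitive a (exists_mem_map_apply_eq G M a)
      (exists_mem_map_apply_eq G N a) hNM
  have hCN : Subgroup.centralizer ((N.map G.subtype : Subgroup (Equiv.Perm α)) : Set (Equiv.Perm α))
      = M.map G.subtype :=
    centralizer_eq_of_le_of_transitive a (exists_mem_map_apply_eq G N a)
      (exists_mem_map_apply_eq G M a) hMN'
  have hMs := stabilizer_eq_bot_of_le_centralizer G N M hMN'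
  have hNs := stabilizer_eq_bot_of_le_centralizer G M N hNM
  refine ⟨hMs, hNs, ?_, ?_, hCM, hCN, ?_⟩
  · intro hab
    -- M abelian gives M' ≤ C(M') = N'
    have h1 : (M.map G.subtype : Subgroup (Equiv.Perm α)) ≤ N.map G.subtype := by
      rw [← hCM]
      rintro _ ⟨m, hm, rfl⟩
      rw [Subgroup.mem_centralizer_iff]
      rintro _ ⟨m', hm', rfl⟩
      have h2 : (⟨m', hm'⟩ : M) * ⟨m, hm⟩ = ⟨m, hm⟩ * ⟨m', hm'⟩ := hab.is_comm.comm _ _
      have h3 := congrArg (fun x : M => ((x : G) : Equiv.Perm α)) h2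
      simpa using h3
    have h2 : M ≤ N := le_of_map_subtype_le G N M h1
    have h3 : M ⊓ N = M := inf_eq_left.mpr h2
    rw [hd] at h3
    exact hM h3.symm
  · apply nonempty_mulEquiv_of_regular G M N a hMt hNt (hMs a) (hNs a)
    intro m hm n hn
    exact (Subgroup.commute_of_normal_of_disjoint M N inferInstance inferInstance
      (disjoint_iff.mpr hd) m n hm hn).eq
  · intro L hLn hL hLmin
    by_contra hcon
    push Not at hcon
    haveI := hLn
    have hdL : M ⊓ L = ⊥ := inf_eq_bot_of_min G M L hM hLmin hMmin (Ne.symm hcon.1)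
    have h1 := map_le_centralizer_map_of_disjoint G M L hdL
    rw [hCM] at h1
    have h2 : L ≤ N := le_of_map_subtype_le G N L h1
    rcases hNmin L hLn h2 with h | h
    · exact hL h
    · exact hcon.2 h

end Cfsg.Agent.S0704
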