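import Mathlib
import Cfsg.Agent.Lib.Helper22.MultTrans
import Cfsg.Statements.S0705
-- import your own Cfsg.Agent.* helpers here

set_option autoImplicit false
open scoped Pointwise
open Cfsg

namespace Cfsg.Agent.S0705

open MulAction SubMulAction Cfsg.Agent.Helper22
open scoped Pointwise

theorem exists_fix_map {α : Type*} [Fintype α] [DecidableEq α] (G : Subgroup (Equiv.Perm α))
    {k : ℕ} (hk : k < Fintype.card α)
    (hgen : ∀ s : Finset α, s.card = k + 1 → ∀ σ : Equiv.Perm ↥s, ∃ g ∈ G, ∀ x : ↥s,
      g (x : α) = σ x)
    (s : Finset α) (hs : s.card < k) (a b : α) (ha : a ∉ s) (hb : b ∉ s) :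
    ∃ g ∈ G, (∀ x ∈ s, g x = x) ∧ g a = b := by
  have hsub : insert a (insert b s) ⊆ (Finset.univ : Finset α) := Finset.subset_univ _
  have hcard : (insert a (insert b s)).card ≤ k + 1 := by
    have h1 := Finset.card_insert_le a (insert b s)
    have h2 := Finset.card_insert_le b s
    omega
  obtain ⟨t, hst, -, ht⟩ := Finset.exists_subsuperset_card_eq hsub hcard
    (by rw [Finset.card_univ]; omega)
  have hat : a ∈ t := hst (Finset.mem_insert_self _ _)
  have hbt : b ∈ t := hst (Finset.mem_insert_of_mem (Finset.mem_insert_self _ _))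
  have hsst : ∀ x ∈ s, x ∈ t := fun x hx =>
    hst (Finset.mem_insert_of_mem (Finset.mem_insert_of_mem hx))
  obtain ⟨g, hg, hgσ⟩ := hgen t ht (Equiv.swap ⟨a, hat⟩ ⟨b, hbt⟩)
  refine ⟨g, hg, ?_, ?_⟩
  · intro x hx
    have := hgσ ⟨x, hsst x hx⟩
    rw [Equiv.swap_apply_of_ne_of_ne] at this
    · exact this
    · intro h
      exact ha (by have := congrArg Subtype.val h; simp only at this; rw [← this]; exact hx)
    · intro h
      exact hb (by have := congrArg Subtype.val h; simp only at this; rw [← this]; exact hx)
  · have := hgσ ⟨a, hat⟩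
    rw [Equiv.swap_apply_left] at this
    exact this

/-- A generously `k`-transitive permutation group (every `(k+1)`-subset has its full symmetric group induced by the setwise stabiliser) of degree greater than `k` is `k`-transitive, and for a `k`-subset the setwise and pointwise stabilisers have the same orbits outside it. -/
theorem result {α : Type*} [Fintype α] [DecidableEq α] (G : Subgroup (Equiv.Perm α)) {k : ℕ} (hk : k < Fintype.card α) (hgen : ∀ s : Finset α, s.card = k + 1 → ∀ σ : Equiv.Perm ↥s, ∃ g ∈ G, ∀ x : ↥s, g (x : α) = σ x) : MulAction.IsMultiplyPretransitive G α k ∧ ∀ s : Finset α, s.card = k → ∀ a b : α, a ∉ s → b ∉ s → (∃ g ∈ G, g • s = s ∧ g a = b) → ∃ g ∈ G, (∀ x ∈ s, g x = x) ∧ g a = b := by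
  classical
  constructor
  · have hup : ∀ j, j ≤ k → MulAction.IsMultiplyPretransitive G α j := by
      intro j
      induction j with
      | zero => intro _; exact MulAction.is_zero_pretransitive'
      | succ j ih =>
        intro hj
        have hjt := ih (by omega)
        obtain ⟨s, -, hs⟩ := Finset.exists_subset_card_eq (s := (Finset.univ : Finset α))
          (n := j) (by rw [Finset.card_univ]; omega)
        apply isMultiplyPretransitive_add_of_fixingSubgroup j 1 (s : Set α)
          (by rw [Set.ncard_coe_finset, hs]) hjt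
        rw [MulAction.is_one_pretransitive_iff]
        refine ⟨fun x y => ?_⟩
        have hx : (x : α) ∉ s := by
          have := x.2
          rw [SubMulAction.mem_ofFixingSubgroup_iff] at this
          simpa using this
        have hy : (y : α) ∉ s := by
          have := y.2
          rw [SubMulAction.mem_ofFixingSubgroup_iff] at this
          simpa using this
        obtain ⟨g, hg, hgs, hgx⟩ := exists_fix_map G hk hgen s (by omega) x y hx hy
        refine ⟨⟨⟨g, hg⟩, ?_⟩, Subtype.ext hgx⟩
        rw [mem_fixingSubgroup_iff]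
        intro z hz
        exact hgs z (by simpa using hz)
    exact hup k le_rfl
  · intro s hs a b ha hb ⟨g, hg, hgs, hga⟩
    -- t = insert b s
    have ht : (insert b s).card = k + 1 := by rw [Finset.card_insert_of_notMem hb, hs]
    have hgs' : ∀ x, g x ∈ s ↔ x ∈ s := by
      intro x
      constructor
      · intro hx
        rw [← hgs] at hx
        obtain ⟨y, hy, hyx⟩ := Finset.mem_smul_finset.mp hx
        have : y = x := g.injective hyx
        rw [← this]; exact hy
      · intro hx
        rw [← hgs]
        exact Finset.smul_mem_smul_finset hx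
    have hginv : ∀ x, g⁻¹ x ∈ s ↔ x ∈ s := by
      intro x
      rw [← hgs' (g⁻¹ x)]
      simp
    have hab_s : ∀ x ∈ s, x ≠ a ∧ x ≠ b := fun x hx =>
      ⟨fun h => ha (h ▸ hx), fun h => hb (h ▸ hx)⟩
    set f : Equiv.Perm α := Equiv.swap a b * g⁻¹ with hf
    have hfb : f b = b := by
      rw [hf, Equiv.Perm.mul_apply]
      have : g⁻¹ b = a := by rw [Equiv.Perm.inv_eq_iff_eq]; exact hga.symm
      rw [this, Equiv.swap_apply_left]
    have hfs : ∀ x, f x ∈ s ↔ x ∈ s := by
      intro x
      rw [hf, Equiv.Perm.mul_apply]
      constructor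
      · intro hx
        have h1 := hab_s _ hx
        by_cases h2 : g⁻¹ x = a
        · rw [h2, Equiv.swap_apply_left] at hx; exact absurd hx hb
        · by_cases h3 : g⁻¹ x = b
          · rw [h3, Equiv.swap_apply_right] at hx; exact absurd hx ha
          · rw [Equiv.swap_apply_of_ne_of_ne h2 h3] at hx
            exact (hginv x).mp hx
      · intro hx
        have h1 := (hginv x).mpr hx
        have h2 := hab_s _ h1
        rw [Equiv.swap_apply_of_ne_of_ne h2.1 h2.2]
        exact h1
    have hft : ∀ x, f x ∈ insert b s ↔ x ∈ insert b s := by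
      intro x
      rw [Finset.mem_insert, Finset.mem_insert, hfs x]
      constructor
      · rintro (h | h)
        · left; apply f.injective; rw [h, hfb]
        · right; exact h
      · rintro (h | h)
        · left; rw [h, hfb]
        · right; exact h
    obtain ⟨g', hg', hg'σ⟩ := hgen (insert b s) ht (f.subtypePerm hft)
    refine ⟨g' * g, G.mul_mem hg' hg, ?_, ?_⟩
    · intro x hx
      rw [Equiv.Perm.mul_apply]
      have hgx : g x ∈ insert b s := Finset.mem_insert_of_mem ((hgs' x).mpr hx)
      have := hg'σ ⟨g x, hgx⟩
      rw [Equiv.Perm.subtypePerm_apply] at this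
      simp only at this
      rw [this, hf, Equiv.Perm.mul_apply]
      have h2 := hab_s _ hx
      have h3 : g⁻¹ (g x) = x := by simp
      rw [h3]
      exact Equiv.swap_apply_of_ne_of_ne h2.1 h2.2
    · rw [Equiv.Perm.mul_apply, hga]
      have := hg'σ ⟨b, Finset.mem_insert_self _ _⟩
      rw [Equiv.Perm.subtypePerm_apply] at this
      simp only at this
      rw [this, hfb]

end Cfsg.Agent.S0705
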