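import Mathlib
import Cfsg.Statements.S0706

set_option autoImplicit false
open Cfsg

namespace Cfsg.Agent.S0706

open Equiv

variable {α : Type*} [Fintype α] [DecidableEq α]

/-- pointwise stabiliser of a finset inside `G`, as a subgroup of `Perm α` -/
def FixG (G : Subgroup (Perm α)) (Γ : Finset α) : Subgroup (Perm α) where
  carrier := {g | g ∈ G ∧ ∀ x ∈ Γ, g x = x}
  mul_mem' := by
    rintro a b ⟨ha, ha'⟩ ⟨hb, hb'⟩
    refine ⟨G.mul_mem ha hb, fun x hx => ?_⟩
    rw [Perm.mul_apply, hb' x hx, ha' x hx]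
  one_mem' := ⟨G.one_mem, fun x _ => rfl⟩
  inv_mem' := by
    rintro a ⟨ha, ha'⟩
    refine ⟨G.inv_mem ha, fun x hx => ?_⟩
    rw [Perm.inv_eq_iff_eq]
    exact (ha' x hx).symm

theorem mem_FixG {G : Subgroup (Perm α)} {Γ : Finset α} {g : Perm α} :
    g ∈ FixG G Γ ↔ g ∈ G ∧ ∀ x ∈ Γ, g x = x := Iff.rfl

theorem orbit_eq (G : Subgroup (Perm α)) (Γ : Finset α) (x : α) :
    MulAction.orbit (fixingSubgroup G (Γ : Set α)) x = MulAction.orbit (FixG G Γ) x := by
  ext y
  constructor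
  · rintro ⟨⟨⟨g, hg⟩, hgf⟩, rfl⟩
    refine ⟨⟨g, hg, fun z hz => ?_⟩, rfl⟩
    have := (mem_fixingSubgroup_iff G).1 hgf z (by simpa using hz)
    exact this
  · rintro ⟨⟨g, hg, hgf⟩, rfl⟩
    refine ⟨⟨⟨g, hg⟩, ?_⟩, rfl⟩
    rw [mem_fixingSubgroup_iff]
    intro z hz
    exact hgf z (by simpa using hz)

theorem homog (G : Subgroup (Perm α)) {k : ℕ}
    (hgen : ∀ s : Finset α, s.card = k + 1 → ∀ σ : Perm ↥s, ∃ g ∈ G, ∀ x : ↥s, g (x : α) = σ x) :
    ∀ m : ℕ, ∀ Γ Γ' : Finset α, Γ.card = k → Γ'.card = k → (Γ \ Γ').card = m →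
      ∃ g ∈ G, Γ.image g = Γ' := by
  intro m
  induction m with
  | zero =>
    intro Γ Γ' h1 h2 h3
    refine ⟨1, G.one_mem, ?_⟩
    have hsub : Γ ⊆ Γ' := by
      rw [Finset.card_eq_zero, Finset.sdiff_eq_empty_iff_subset] at h3; exact h3
    have := Finset.eq_of_subset_of_card_le hsub (by omega)
    rw [← this]
    ext y
    simp
  | succ m ih =>
    intro Γ Γ' h1 h2 h3
    have hne : (Γ \ Γ').Nonempty := by rw [← Finset.card_pos]; omega
    obtain ⟨a, ha⟩ := hne
    rw [Finset.mem_sdiff] at ha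
    have hne' : (Γ' \ Γ).Nonempty := by
      rw [← Finset.card_pos]
      have e1 := Finset.card_sdiff_add_card_inter Γ Γ'
      have e2 := Finset.card_sdiff_add_card_inter Γ' Γ
      rw [Finset.inter_comm] at e2
      omega
    obtain ⟨b, hb⟩ := hne'
    rw [Finset.mem_sdiff] at hb
    have hs : (insert b Γ).card = k + 1 := by rw [Finset.card_insert_of_notMem hb.2, h1]
    obtain ⟨g, hg, hgs⟩ := hgen (insert b Γ) hs
      (Equiv.swap ⟨a, Finset.mem_insert_of_mem ha.1⟩ ⟨b, Finset.mem_insert_self b Γ⟩)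
    have hga : g a = b := by
      have := hgs ⟨a, Finset.mem_insert_of_mem ha.1⟩
      rw [Equiv.swap_apply_left] at this
      exact this
    have hgx : ∀ x ∈ Γ, x ≠ a → g x = x := by
      intro x hx hxa
      have := hgs ⟨x, Finset.mem_insert_of_mem hx⟩
      rw [Equiv.swap_apply_of_ne_of_ne] at this
      · exact this
      · intro h; exact hxa (congrArg Subtype.val h)
      · intro h
        apply hb.2
        have h' : x = b := congrArg Subtype.val h
        rw [← h']; exact hx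
    have himg : Γ.image g = insert b (Γ.erase a) := by
      ext y
      simp only [Finset.mem_image, Finset.mem_insert, Finset.mem_erase]
      constructor
      · rintro ⟨x, hx, rfl⟩
        by_cases hxa : x = a
        · left; rw [hxa, hga]
        · right; rw [hgx x hx hxa]; exact ⟨hxa, hx⟩
      · rintro (rfl | ⟨hya, hy⟩)
        · exact ⟨a, ha.1, hga⟩
        · exact ⟨y, hy, hgx y hy hya⟩
    have hc'' : (Γ.image g).card = k := by
      rw [Finset.card_image_of_injective _ g.injective, h1]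
    have hsd : ((Γ.image g) \ Γ').card = m := by
      rw [himg]
      have : insert b (Γ.erase a) \ Γ' = (Γ \ Γ').erase a := by
        ext y
        simp only [Finset.mem_sdiff, Finset.mem_insert, Finset.mem_erase]
        constructor
        · rintro ⟨(rfl | ⟨hya, hy⟩), hy'⟩
          · exact absurd hb.1 hy'
          · exact ⟨hya, hy, hy'⟩
        · rintro ⟨hya, hy, hy'⟩
          exact ⟨Or.inr ⟨hya, hy⟩, hy'⟩
      rw [this, Finset.card_erase_of_mem (Finset.mem_sdiff.2 ha), h3]; rfl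
    obtain ⟨g', hg', hgg'⟩ := ih (Γ.image g) Γ' hc'' h2 hsd
    refine ⟨g' * g, G.mul_mem hg' hg, ?_⟩
    rw [← hgg', Finset.image_image]; rfl

theorem card_fixG_eq (G : Subgroup (Perm α)) (Γ Γ' : Finset α) (g : Perm α) (hg : g ∈ G)
    (h : Γ.image g = Γ') : Nat.card (FixG G Γ') = Nat.card (FixG G Γ) := by
  have : FixG G Γ' = (FixG G Γ).map (MulAut.conj g).toMonoidHom := by
    ext u
    rw [Subgroup.mem_map]
    constructor
    · rintro ⟨hu, hu'⟩
      refine ⟨g⁻¹ * u * g, ⟨G.mul_mem (G.mul_mem (G.inv_mem hg) hu) hg, fun x hx => ?_⟩, ?_⟩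
      · have hgx : g x ∈ Γ' := by rw [← h]; exact Finset.mem_image_of_mem _ hx
        simp only [Perm.mul_apply]
        rw [hu' _ hgx]; simp
      · simp only [MulEquiv.coe_toMonoidHom, MulAut.conj_apply]; group
    · rintro ⟨v, ⟨hv, hv'⟩, rfl⟩
      refine ⟨?_, fun y hy => ?_⟩
      · simp only [MulEquiv.coe_toMonoidHom, MulAut.conj_apply]
        exact G.mul_mem (G.mul_mem hg hv) (G.inv_mem hg)
      · rw [← h, Finset.mem_image] at hy
        obtain ⟨x, hx, rfl⟩ := hy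
        simp only [MulEquiv.coe_toMonoidHom, MulAut.conj_apply, Perm.mul_apply]
        have e1 : g⁻¹ (g x) = x := Perm.inv_eq_iff_eq.mpr rfl
        rw [e1, hv' x hx]
  rw [this]
  exact Subgroup.card_map_of_injective (MulAut.conj g).injective

/-- elements of `G` acting on `Γ` like a power of `c` -/
def LG (G : Subgroup (Perm α)) (Γ : Finset α) (c : Perm α) (p : ℕ) (hp1 : 1 ≤ p)
    (hcΓ : ∀ j : ℕ, ∀ y ∈ Γ, (c ^ j) y ∈ Γ) (hcp : c ^ p = 1) : Subgroup (Perm α) where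
  carrier := {g | g ∈ G ∧ ∃ j : ℕ, ∀ y ∈ Γ, g y = (c ^ j) y}
  mul_mem' := by
    rintro a b ⟨ha, i, hi⟩ ⟨hb, j, hj⟩
    refine ⟨G.mul_mem ha hb, i + j, fun y hy => ?_⟩
    rw [Perm.mul_apply, hj y hy, hi _ (hcΓ j y hy), pow_add, Perm.mul_apply]
  one_mem' := ⟨G.one_mem, 0, fun y _ => by simp⟩
  inv_mem' := by
    rintro a ⟨ha, i, hi⟩
    refine ⟨G.inv_mem ha, (p - 1) * i, fun y hy => ?_⟩
    rw [Perm.inv_eq_iff_eq, hi _ (hcΓ _ y hy), ← Perm.mul_apply, ← pow_add]
    have : i + (p - 1) * i = p * i := by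
      obtain ⟨q, rfl⟩ : ∃ q, p = q + 1 := ⟨p - 1, by omega⟩
      simp only [Nat.add_sub_cancel]; ring
    rw [this, pow_mul, hcp, one_pow]; rfl

theorem main (G : Subgroup (Perm α)) {k : ℕ}
    (hgen : ∀ s : Finset α, s.card = k + 1 → ∀ σ : Perm ↥s, ∃ g ∈ G, ∀ x : ↥s, g (x : α) = σ x)
    {p : ℕ} (hp : p.Prime) (hpk : p ≤ k) (Γ : Finset α) (hΓ : Γ.card = k)
    (f : Fin p → α) (hf : ∀ i, f i ∉ Γ)
    (hdist : ∀ i j, i ≠ j → f j ∉ MulAction.orbit (FixG G Γ) (f i))
    (hnd : ∀ i, ¬ p ∣ Nat.card (MulAction.orbit (FixG G Γ) (f i))) : False := by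
  classical
  have : Fact p.Prime := ⟨hp⟩
  obtain ⟨T, hTΓ, hTc⟩ := Finset.exists_subset_card_eq (hΓ ▸ hpk)
  have hlnd : T.toList.Nodup := T.nodup_toList
  have hllen : T.toList.length = p := by rw [Finset.length_toList, hTc]
  obtain ⟨c, hc⟩ : ∃ c : Perm α, c = T.toList.formPerm := ⟨_, rfl⟩
  have hcyc : c.IsCycle := by
    rw [hc]; exact List.isCycle_formPerm hlnd (by rw [hllen]; exact hp.two_le)
  have hsupp : c.support = T := by
    rw [hc, List.support_formPerm_of_nodup _ hlnd, Finset.toList_toFinset]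
    intro x hx
    have := congrArg List.length hx
    rw [hllen] at this
    simp at this
    exact hp.ne_one this
  have hord : orderOf c = p := by rw [hcyc.orderOf, hsupp, hTc]
  have hcp : c ^ p = 1 := by rw [← hord]; exact pow_orderOf_eq_one c
  have hcΓ : ∀ j : ℕ, ∀ y ∈ Γ, (c ^ j) y ∈ Γ := by
    intro j y hy
    by_cases hx : y ∈ c.support
    · exact hTΓ (hsupp ▸ (Perm.pow_apply_mem_support.2 hx))
    · rw [Perm.notMem_support] at hx
      rw [Perm.pow_apply_eq_self_of_apply_eq_self hx]; exact hy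
  have hcfix : ∀ y, y ∉ T → c y = y := by
    intro y hy
    rw [← Perm.notMem_support, hsupp]; exact hy
  -- generosity applied to c
  have hgenc : ∀ δ, δ ∉ Γ → ∃ y ∈ G, y δ = δ ∧ ∀ z ∈ Γ, y z = c z := by
    intro δ hδ
    have hcδ : c δ = δ := hcfix δ (fun h => hδ (hTΓ h))
    have hs : (insert δ Γ).card = k + 1 := by rw [Finset.card_insert_of_notMem hδ, hΓ]
    have hmem : ∀ x, c x ∈ insert δ Γ ↔ x ∈ insert δ Γ := by
      intro x
      by_cases hx : x ∈ c.support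
      · have h1 : x ∈ Γ := hTΓ (hsupp ▸ hx)
        have h2 : c x ∈ Γ := hTΓ (hsupp ▸ (Perm.apply_mem_support.2 hx))
        simp [h1, h2]
      · rw [Perm.notMem_support] at hx; rw [hx]
    obtain ⟨y, hy, hys⟩ := hgen (insert δ Γ) hs (c.subtypePerm hmem)
    refine ⟨y, hy, ?_, ?_⟩
    · have := hys ⟨δ, Finset.mem_insert_self _ _⟩
      rw [Perm.subtypePerm_apply] at this
      simpa [hcδ] using this
    · intro z hz
      have := hys ⟨z, Finset.mem_insert_of_mem hz⟩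
      rw [Perm.subtypePerm_apply] at this
      simpa using this
  have hpow : ∀ (δ : α) (y : Perm α), y δ = δ → (∀ z ∈ Γ, y z = c z) →
      ∀ n : ℕ, (y ^ n) δ = δ ∧ ∀ z ∈ Γ, (y ^ n) z = (c ^ n) z := by
    intro δ y hyδ hyΓ n
    induction n with
    | zero => simp
    | succ n ih =>
      refine ⟨?_, fun z hz => ?_⟩
      · rw [pow_succ, Perm.mul_apply, hyδ, ih.1]
      · have hcz : c z ∈ Γ := by simpa using hcΓ 1 z hz
        rw [pow_succ, Perm.mul_apply, hyΓ z hz, pow_succ, Perm.mul_apply, ih.2 _ hcz]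
  obtain ⟨H, hH⟩ : ∃ H : Subgroup (Perm α), H = FixG G Γ := ⟨_, rfl⟩
  obtain ⟨L, hL⟩ : ∃ L : Subgroup (Perm α), L = LG G Γ c p hp.one_le hcΓ hcp := ⟨_, rfl⟩
  have memL : ∀ g, g ∈ L ↔ g ∈ G ∧ ∃ j : ℕ, ∀ y ∈ Γ, g y = (c ^ j) y := by
    intro g; rw [hL]; rfl
  have memH : ∀ g, g ∈ H ↔ g ∈ G ∧ ∀ x ∈ Γ, g x = x := by
    intro g; rw [hH]; rfl
  have hHL : H ≤ L := by
    intro g hg
    rw [memH] at hg
    rw [memL]
    exact ⟨hg.1, 0, fun y hy => by rw [hg.2 y hy]; simp⟩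
  have hpj : ∀ j : ℕ, j + (p - 1) * j = p * j := by
    intro j
    obtain ⟨q, hq⟩ : ∃ q, p = q + 1 := ⟨p - 1, by have := hp.one_le; omega⟩
    rw [hq]; simp only [Nat.add_sub_cancel]; ring
  -- orbits of L and H outside Γ agree
  have horb : ∀ δ, δ ∉ Γ → MulAction.orbit L δ = MulAction.orbit H δ := by
    intro δ hδ
    obtain ⟨y, hy, hyδ, hyΓ⟩ := hgenc δ hδ
    have hypow := hpow δ y hyδ hyΓ
    ext w
    constructor
    · rintro ⟨⟨l, hl⟩, rfl⟩
      obtain ⟨hlG, j, hlj⟩ := (memL l).1 hl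
      have hmemH : l * y ^ ((p - 1) * j) ∈ H := by
        rw [memH]
        refine ⟨G.mul_mem hlG (G.pow_mem hy _), fun z hz => ?_⟩
        rw [Perm.mul_apply, (hypow _).2 z hz, hlj _ (hcΓ _ z hz), ← Perm.mul_apply, ← pow_add,
          hpj, pow_mul, hcp, one_pow]; rfl
      refine ⟨⟨l * y ^ ((p - 1) * j), hmemH⟩, ?_⟩
      show (l * y ^ ((p - 1) * j)) δ = l δ
      rw [Perm.mul_apply, (hypow _).1]
    · rintro ⟨⟨h, hh⟩, rfl⟩
      exact ⟨⟨h, hHL hh⟩, rfl⟩
  -- order of L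
  have hTne : T.Nonempty := by rw [← Finset.card_pos, hTc]; exact hp.pos
  obtain ⟨t₀, ht₀⟩ := hTne
  have ht₀c : c t₀ ≠ t₀ := by
    rw [← hsupp] at ht₀; exact Perm.mem_support.1 ht₀
  have i0 : Fin p := ⟨0, hp.pos⟩
  obtain ⟨x0, hx0, hx0δ, hx0Γ⟩ := hgenc (f i0) (hf i0)
  have hx0pow := hpow (f i0) x0 hx0δ hx0Γ
  have horbT : MulAction.orbit L t₀ = (T : Set α) := by
    ext w
    constructor
    · rintro ⟨⟨l, hl⟩, rfl⟩
      obtain ⟨hlG, j, hlj⟩ := (memL l).1 hl
      show l t₀ ∈ (T : Set α)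
      rw [hlj t₀ (hTΓ ht₀), Finset.mem_coe, ← hsupp, Perm.pow_apply_mem_support, hsupp]
      exact ht₀
    · intro hw
      have hwc : c w ≠ w := by
        rw [Finset.mem_coe, ← hsupp] at hw; exact Perm.mem_support.1 hw
      obtain ⟨i, hi⟩ := hcyc.exists_pow_eq ht₀c hwc
      have hmem : x0 ^ i ∈ L := by
        rw [memL]; exact ⟨G.pow_mem hx0 _, i, (hx0pow i).2⟩
      refine ⟨⟨x0 ^ i, hmem⟩, ?_⟩
      show (x0 ^ i) t₀ = w
      rw [(hx0pow i).2 t₀ (hTΓ ht₀), hi]
  have hstab : (MulAction.stabilizer L t₀).map L.subtype = H := by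
    ext g
    rw [Subgroup.mem_map]
    constructor
    · rintro ⟨⟨l, hl⟩, hst, rfl⟩
      obtain ⟨hlG, j, hlj⟩ := (memL l).1 hl
      have h1 : l t₀ = t₀ := MulAction.mem_stabilizer_iff.1 hst
      rw [hlj t₀ (hTΓ ht₀)] at h1
      have h2 : c ^ j = 1 := (hcyc.pow_eq_one_iff' ht₀c).2 h1
      rw [memH]
      refine ⟨hlG, fun z hz => ?_⟩
      show l z = z
      rw [hlj z hz, h2]; rfl
    · intro hg
      refine ⟨⟨g, hHL hg⟩, ?_, rfl⟩
      rw [MulAction.mem_stabilizer_iff]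
      show g t₀ = t₀
      exact ((memH g).1 hg).2 t₀ (hTΓ ht₀)
  have hcardL : Nat.card L = p * Nat.card H := by
    have h1 := Subgroup.card_mul_index (MulAction.stabilizer L t₀)
    rw [MulAction.index_stabilizer, horbT, Set.ncard_coe_finset, hTc] at h1
    have h2 : Nat.card (MulAction.stabilizer L t₀) = Nat.card H := by
      rw [← hstab]
      exact (Subgroup.card_map_of_injective L.subtype_injective).symm
    rw [h2] at h1
    rw [← h1, mul_comm]
  -- Sylow subgroup of L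
  obtain ⟨S⟩ : Nonempty (Sylow p L) := inferInstance
  have hScard : Nat.card S = p ^ ((Nat.card H).factorization p + 1) := by
    rw [S.card_eq_multiplicity, hcardL, Nat.factorization_mul hp.ne_zero Nat.card_pos.ne',
      Finsupp.add_apply, hp.factorization_self, add_comm]
  -- fixed points in each orbit
  have hfixpt : ∀ i : Fin p, ∃ d : α, d ∈ MulAction.orbit H (f i) ∧
      ∀ s : L, s ∈ (S : Subgroup L) → (s : Perm α) d = d := by
    intro i
    have hnd' : ¬ p ∣ Nat.card (MulAction.orbit L (f i)) := by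
      rw [horb (f i) (hf i), hH]; exact hnd i
    obtain ⟨⟨d, hd⟩, hdfix⟩ :=
      S.2.nonempty_fixed_point_of_prime_not_dvd_card (MulAction.orbit L (f i)) hnd'
    refine ⟨d, ?_, fun s hs => ?_⟩
    · rw [← horb (f i) (hf i)]; exact hd
    · have := hdfix ⟨s, hs⟩
      exact congrArg Subtype.val this
  choose d hdorb hdfix using hfixpt
  have hdΓ : ∀ i, d i ∉ Γ := by
    intro i hdi
    obtain ⟨⟨h, hh⟩, hhd⟩ := hdorb i
    have hh' := (memH h).1 hh
    have h1 : h (f i) = d i := hhd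
    have h2 : h (d i) = d i := hh'.2 _ hdi
    have h3 : f i = d i := h.injective (h1.trans h2.symm)
    exact hf i (h3 ▸ hdi)
  have hdinj : Function.Injective d := by
    intro i j hij
    by_contra hne
    apply hdist i j hne
    obtain ⟨⟨h, hh⟩, hhd⟩ := hdorb i
    obtain ⟨⟨h', hh'⟩, hhd'⟩ := hdorb j
    have h1 : h (f i) = d i := hhd
    have h2 : h' (f j) = d j := hhd'
    have hmem : h'⁻¹ * h ∈ FixG G Γ := by rw [← hH]; exact H.mul_mem (H.inv_mem hh') hh
    refine ⟨⟨h'⁻¹ * h, hmem⟩, ?_⟩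
    show (h'⁻¹ * h) (f i) = f j
    rw [Perm.mul_apply, h1, hij, ← h2]
    exact Perm.inv_eq_iff_eq.mpr rfl
  -- the new k-set
  obtain ⟨Γ', hΓ'⟩ : ∃ Γ' : Finset α, Γ' = (Γ \ T) ∪ Finset.univ.image d := ⟨_, rfl⟩
  have hΓ'card : Γ'.card = k := by
    rw [hΓ', Finset.card_union_of_disjoint, Finset.card_sdiff_of_subset hTΓ,
      Finset.card_image_of_injective _ hdinj, Finset.card_univ, Fintype.card_fin, hΓ, hTc]
    · omega
    · rw [Finset.disjoint_left]
      intro z hz hz'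
      rw [Finset.mem_image] at hz'
      obtain ⟨i, -, rfl⟩ := hz'
      exact hdΓ i (Finset.mem_sdiff.1 hz).1
  have hSle : (S : Subgroup L).map L.subtype ≤ FixG G Γ' := by
    rintro g ⟨⟨l, hl⟩, hlS, rfl⟩
    obtain ⟨hlG, j, hlj⟩ := (memL l).1 hl
    refine ⟨hlG, fun z hz => ?_⟩
    show l z = z
    rw [hΓ', Finset.mem_union] at hz
    rcases hz with hz | hz
    · rw [Finset.mem_sdiff] at hz
      rw [hlj z hz.1]
      exact Perm.pow_apply_eq_self_of_apply_eq_self (hcfix z hz.2) j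
    · rw [Finset.mem_image] at hz
      obtain ⟨i, -, rfl⟩ := hz
      exact hdfix i ⟨l, hl⟩ hlS
  obtain ⟨g, hg, hgΓ⟩ := homog G hgen _ Γ Γ' hΓ hΓ'card rfl
  have hcardeq := card_fixG_eq G Γ Γ' g hg hgΓ
  have hdvd : Nat.card S ∣ Nat.card H := by
    have h1 := Subgroup.card_dvd_of_le hSle
    rw [Subgroup.card_map_of_injective L.subtype_injective, hcardeq, ← hH] at h1
    exact h1
  rw [hScard] at hdvd
  exact Nat.pow_succ_factorization_not_dvd Nat.card_pos.ne' hp hdvd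

/-- In a generously `k`-transitive permutation group, for a prime `p ≤ k` and a `k`-set `Γ`, there are no `p` points outside `Γ` lying in distinct orbits of the pointwise stabiliser of `Γ` all of length prime to `p` (at most `p - 1` such orbits). -/
theorem result {α : Type*} [Fintype α] [DecidableEq α] (G : Subgroup (Equiv.Perm α)) {k : ℕ} (hk : k < Fintype.card α) (hgen : ∀ s : Finset α, s.card = k + 1 → ∀ σ : Equiv.Perm ↥s, ∃ g ∈ G, ∀ x : ↥s, g (x : α) = σ x) {p : ℕ} (hp : p.Prime) (hpk : p ≤ k) (Γ : Finset α) (hΓ : Γ.card = k) (f : Fin p → α) (hf : ∀ i, f i ∉ Γ) (hdist : ∀ i j, i ≠ j → f j ∉ MulAction.orbit (fixingSubgroup G (Γ : Set α)) (f i)) : ∃ i, p ∣ Nat.card (MulAction.orbit (fixingSubgroup G (Γ : Set α)) (f i)) := by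
  have _ := hk
  by_contra hcon
  push Not at hcon
  refine main G hgen hp hpk Γ hΓ f hf ?_ ?_
  · intro i j hij
    rw [← orbit_eq]; exact hdist i j hij
  · intro i
    rw [← orbit_eq]; exact hcon i

end Cfsg.Agent.S0706
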