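import Mathlib
import Cfsg.Statements.S0707

set_option autoImplicit false
open Cfsg

namespace Cfsg.Agent.S0707

open MulAction

theorem prime_card_of_isCoatom_bot {G : Type*} [Group G] (h : IsCoatom (⊥ : Subgroup G)) :
    (Nat.card G).Prime := by
  have hne : (⊥ : Subgroup G) ≠ ⊤ := h.1
  have hnt : Nontrivial G := by
    by_contra hcon
    rw [not_nontrivial_iff_subsingleton] at hcon
    exact hne (Subsingleton.elim _ _)
  obtain ⟨g, hg⟩ := exists_ne (1 : G)
  have hz : Subgroup.zpowers g = ⊤ := by
    apply h.2
    rw [bot_lt_iff_ne_bot]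
    exact Subgroup.zpowers_ne_bot.2 hg
  have hcyc : IsCyclic G := ⟨⟨g, fun x => by
    have : x ∈ Subgroup.zpowers g := by rw [hz]; trivial
    exact this⟩⟩
  have hsimple : IsSimpleGroup G := by
    refine ⟨fun H _ => ?_⟩
    by_cases hH : H = ⊥
    · exact Or.inl hH
    · right
      apply h.2
      rw [bot_lt_iff_ne_bot]
      exact hH
  exact Group.is_simple_iff_prime_card.1 hsimple

/-- In a primitive permutation group, distinct points have distinct stabilisers unless the group is regular of prime degree. -/
theorem result {α : Type*} (G : Subgroup (Equiv.Perm α)) [MulAction.IsPreprimitive G α] (h : ¬ (Nat.card α).Prime ∨ ∃ a : α, MulAction.stabilizer G a ≠ ⊥) {a b : α} (hab : a ≠ b) : MulAction.stabilizer G a ≠ MulAction.stabilizer G b := by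
  intro heq
  have hnt : Nontrivial α := ⟨a, b, hab⟩
  set K := stabilizer G a with hK
  have hco : IsCoatom K := IsPreprimitive.isCoatom_stabilizer_of_isPreprimitive (G := G) a
  obtain ⟨g, hg⟩ := exists_smul_eq G a b
  have hconj : K.map (MulAut.conj g).toMonoidHom = K := by
    rw [hK, ← stabilizer_smul_eq_stabilizer_map_conj, hg, ← heq]
  have hgN : g ∈ Subgroup.normalizer (K : Set G) := by
    rw [Subgroup.mem_normalizer_iff]
    intro k
    constructor
    · intro hk
      rw [← hconj]
      exact ⟨k, hk, rfl⟩
    · intro hk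
      rw [← hconj] at hk
      obtain ⟨k', hk', hkk'⟩ := hk
      have : k' = k := by
        simpa using hkk'
      rw [← this]; exact hk'
  have hgK : g ∉ K := by
    intro hgK
    rw [hK, mem_stabilizer_iff] at hgK
    exact hab (hgK.symm.trans hg)
  have hN : Subgroup.normalizer (K : Set G) = ⊤ := by
    apply hco.2
    rw [lt_iff_le_and_ne]
    refine ⟨Subgroup.le_normalizer, ?_⟩
    intro heq'
    rw [← heq'] at hgN
    exact hgK hgN
  have hKn : K.Normal := Subgroup.normalizer_eq_top_iff.1 hN
  have hall : ∀ x : α, stabilizer G x = K := by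
    intro x
    obtain ⟨k, hk⟩ := exists_smul_eq G a x
    rw [← hk, stabilizer_smul_eq_stabilizer_map_conj]
    apply le_antisymm
    · rintro _ ⟨y, hy, rfl⟩
      exact hKn.conj_mem y hy k
    · intro y hy
      have h1 : k⁻¹ * y * k ∈ K := by
        have := hKn.conj_mem y hy k⁻¹
        simpa using this
      exact ⟨k⁻¹ * y * k, h1, by simp [mul_assoc]⟩
  have hKbot : K = ⊥ := by
    rw [eq_bot_iff]
    intro k hk
    rw [Subgroup.mem_bot]
    apply Subtype.ext
    ext x
    have : k ∈ stabilizer G x := by rw [hall x]; exact hk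
    rw [mem_stabilizer_iff] at this
    exact this
  rcases h with h | ⟨x, hx⟩
  · apply h
    have h1 : (stabilizer G a).index = Nat.card α := index_stabilizer_of_transitive G a
    rw [← hK, hKbot, Subgroup.index_bot] at h1
    rw [← h1]
    apply prime_card_of_isCoatom_bot
    rw [← hKbot]
    exact hco
  · exact hx ((hall x).trans hKbot)

end Cfsg.Agent.S0707
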