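import Mathlib
import Cfsg.Agent.Lib.Helper22.StabAction
import Cfsg.Statements.S0708
-- import your own Cfsg.Agent.* helpers here

set_option autoImplicit false
open Cfsg

namespace Cfsg.Agent.S0708

open MulAction Cfsg.Agent.Helper22

theorem eq_one_of_fix_four {G : Type*} [Group G] {Ω : Type*} [MulAction G Ω]
    (hsharp : ∀ x : Fin 4 ↪ Ω, MulAction.stabilizer G x = ⊥) {p1 p2 p3 p4 : Ω}
    (h12 : p1 ≠ p2) (h13 : p1 ≠ p3) (h14 : p1 ≠ p4) (h23 : p2 ≠ p3) (h24 : p2 ≠ p4)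
    (h34 : p3 ≠ p4) (g : G) (h1 : g • p1 = p1) (h2 : g • p2 = p2) (h3 : g • p3 = p3)
    (h4 : g • p4 = p4) : g = 1 := by
  have hg : g ∈ stabilizer G
      (⟨![p1, p2, p3, p4], injective_vec4 h12 h13 h14 h23 h24 h34⟩ : Fin 4 ↪ Ω) := by
    rw [mem_stabilizer_iff]
    ext i
    rw [Function.Embedding.smul_apply]
    fin_cases i
    · exact h1
    · exact h2
    · exact h3
    · exact h4
  rw [hsharp] at hg
  exact Subgroup.mem_bot.mp hg

theorem eq_of_agree_four {G : Type*} [Group G] {Ω : Type*} [MulAction G Ω]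
    (hsharp : ∀ x : Fin 4 ↪ Ω, MulAction.stabilizer G x = ⊥) {p1 p2 p3 p4 : Ω}
    (h12 : p1 ≠ p2) (h13 : p1 ≠ p3) (h14 : p1 ≠ p4) (h23 : p2 ≠ p3) (h24 : p2 ≠ p4)
    (h34 : p3 ≠ p4) (g h : G) (h1 : g • p1 = h • p1) (h2 : g • p2 = h • p2)
    (h3 : g • p3 = h • p3) (h4 : g • p4 = h • p4) : g = h := by
  have := eq_one_of_fix_four hsharp h12 h13 h14 h23 h24 h34 (h⁻¹ * g)
    (by rw [mul_smul, h1, inv_smul_smul]) (by rw [mul_smul, h2, inv_smul_smul])
    (by rw [mul_smul, h3, inv_smul_smul]) (by rw [mul_smul, h4, inv_smul_smul])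
  exact (inv_mul_eq_one.mp this).symm

/-- small case: all points but at most one among four given ones -/
theorem small_case {Ω : Type*} (a b c d : Ω)
    (hbig : ¬ ∃ x y : Ω, x ≠ y ∧ (x ≠ a ∧ x ≠ b ∧ x ≠ c ∧ x ≠ d) ∧
      (y ≠ a ∧ y ≠ b ∧ y ≠ c ∧ y ≠ d)) : Finite Ω ∧ Nat.card Ω ≤ 5 := by
  classical
  push Not at hbig
  obtain ⟨x, hx⟩ : ∃ x : Ω, ∀ y : Ω, y ∈ ({a, b, c, d, x} : Finset Ω) := by
    by_cases hex : ∃ x : Ω, x ≠ a ∧ x ≠ b ∧ x ≠ c ∧ x ≠ d
    · obtain ⟨x, hx⟩ := hex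
      refine ⟨x, fun y => ?_⟩
      by_contra hy
      simp only [Finset.mem_insert, Finset.mem_singleton, not_or] at hy
      obtain ⟨h1, h2, h3, h4, h5⟩ := hy
      exact h4 (hbig x y (Ne.symm h5) hx h1 h2 h3)
    · push Not at hex
      refine ⟨a, fun y => ?_⟩
      by_contra hy
      simp only [Finset.mem_insert, Finset.mem_singleton, not_or] at hy
      obtain ⟨h1, h2, h3, h4, -⟩ := hy
      exact h4 (hex y h1 h2 h3)
  have huniv : (Set.univ : Set Ω) ⊆ (({a, b, c, d, x} : Finset Ω) : Set Ω) :=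
    fun y _ => hx y
  have hfin : Finite Ω := Set.finite_univ_iff.mp ((Finset.finite_toSet _).subset huniv)
  refine ⟨hfin, ?_⟩
  rw [← Set.ncard_univ]
  calc (Set.univ : Set Ω).ncard ≤ (({a, b, c, d, x} : Finset Ω) : Set Ω).ncard :=
        Set.ncard_le_ncard huniv (Finset.finite_toSet _)
    _ = ({a, b, c, d, x} : Finset Ω).card := Set.ncard_coe_finset _
    _ ≤ 5 := Finset.card_le_five
theorem big_case {G : Type*} [Group G] {Ω : Type*} [MulAction G Ω]
    (h4 : MulAction.IsMultiplyPretransitive G Ω 4)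
    (hsharp : ∀ x : Fin 4 ↪ Ω, MulAction.stabilizer G x = ⊥) (a b c d : Ω)
    (hab : a ≠ b) (hac : a ≠ c) (had : a ≠ d) (hbc : b ≠ c) (hbd : b ≠ d) (hcd : c ≠ d)
    (x y : Ω) (hxy : x ≠ y) (hx : x ≠ a ∧ x ≠ b ∧ x ≠ c ∧ x ≠ d)
    (hy : y ≠ a ∧ y ≠ b ∧ y ≠ c ∧ y ≠ d) :
    Finite Ω ∧ Nat.card Ω ≤ 11 ∧ (Even (Nat.card Ω) → Nat.card Ω ≤ 6) := by
  classical
  obtain ⟨t, hta, htb, htc, htd⟩ := exists_smul_eq_four h4 hab hac had hbc hbd hcd
    hab.symm hbd hbc had hac hcd.symm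
  have htt : t * t = 1 := eq_one_of_fix_four hsharp hab hac had hbc hbd hcd (t * t)
    (by rw [mul_smul, hta, htb]) (by rw [mul_smul, htb, hta]) (by rw [mul_smul, htc, htd])
    (by rw [mul_smul, htd, htc])
  have htt' : ∀ z : Ω, t • t • z = z := fun z => by rw [← mul_smul, htt, one_smul]
  obtain ⟨v, hva, hvb, hvc, hvd⟩ := exists_smul_eq_four h4 hab hac had hbc hbd hcd
    hab.symm hbc hbd hac had hcd
  have hvv : v * v = 1 := eq_one_of_fix_four hsharp hab hac had hbc hbd hcd (v * v)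
    (by rw [mul_smul, hva, hvb]) (by rw [mul_smul, hvb, hva]) (by rw [mul_smul, hvc, hvc])
    (by rw [mul_smul, hvd, hvd])
  have hvv' : ∀ z : Ω, v • v • z = z := fun z => by rw [← mul_smul, hvv, one_smul]
  -- a point moved by v
  obtain ⟨x, hx, hvx⟩ : ∃ x, (x ≠ a ∧ x ≠ b ∧ x ≠ c ∧ x ≠ d) ∧ v • x ≠ x := by
    by_contra hcon
    push Not at hcon
    have h1 := hcon x hx
    have h2 := hcon y hy
    have := eq_one_of_fix_four hsharp hcd (Ne.symm hx.2.2.1) (Ne.symm hy.2.2.1)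
      (Ne.symm hx.2.2.2) (Ne.symm hy.2.2.2) hxy v hvc hvd h1 h2
    rw [this, one_smul] at hva
    exact hab hva
  have hx'a : v • x ≠ a := by
    intro h
    have := congrArg (fun z => v • z) h
    simp only [hvv', hva] at this
    exact hx.2.1 this
  have hx'b : v • x ≠ b := by
    intro h
    have := congrArg (fun z => v • z) h
    simp only [hvv', hvb] at this
    exact hx.1 this
  obtain ⟨g, hga, hgb, hgc, hgd⟩ := exists_smul_eq_four h4 hab hac had hbc hbd hcd
    hab (Ne.symm hx.1) (Ne.symm hx'a) (Ne.symm hx.2.1) (Ne.symm hx'b) (Ne.symm hvx)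
  have hga' : g⁻¹ • a = a := by rw [inv_smul_eq_iff, hga]
  have hgb' : g⁻¹ • b = b := by rw [inv_smul_eq_iff, hgb]
  have hgc' : g⁻¹ • x = c := by rw [inv_smul_eq_iff, hgc]
  have hgd' : g⁻¹ • (v • x) = d := by rw [inv_smul_eq_iff, hgd]
  have hgt : g * t * g⁻¹ = v := by
    apply eq_of_agree_four hsharp hab (Ne.symm hx.1) (Ne.symm hx'a) (Ne.symm hx.2.1)
      (Ne.symm hx'b) (Ne.symm hvx)
    · rw [mul_smul, mul_smul, hga', hta, hgb, hva]
    · rw [mul_smul, mul_smul, hgb', htb, hga, hvb]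
    · rw [mul_smul, mul_smul, hgc', htc, hgd]
    · rw [mul_smul, mul_smul, hgd', htd, hgc, hvv']
  have hfixconj : ∀ z : Ω, v • z = z → t • g⁻¹ • z = g⁻¹ • z := by
    intro z hz
    have h1 : t • g⁻¹ • z = g⁻¹ • (g * t * g⁻¹) • z := by
      rw [mul_smul, mul_smul, inv_smul_smul]
    rw [h1, hgt, hz]
  have he₁ := hfixconj c hvc
  have he₂ := hfixconj d hvd
  have he₁₂ : g⁻¹ • c ≠ g⁻¹ • d := fun h => hcd (smul_left_cancel _ h)
  -- fixed point set
  set F : Set Ω := {z | t • z = z} with hF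
  have haF : a ∉ F := fun h => hab (by rw [hF, Set.mem_ofPred_eq, hta] at h; exact h.symm)
  have hbF : b ∉ F := fun h => hab (by rw [hF, Set.mem_ofPred_eq, htb] at h; exact h)
  have hF3 : F.encard ≤ 3 := by
    by_contra hcon
    push Not at hcon
    have h4' : (4 : ℕ∞) ≤ F.encard := by
      have := Order.add_one_le_of_lt hcon
      exact this
    obtain ⟨s, hsF, hs4⟩ := Set.exists_subset_encard_eq h4'
    rw [Set.encard_eq_four] at hs4
    obtain ⟨p1, p2, p3, p4, h12, h13, h14, h23, h24, h34, rfl⟩ := hs4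
    have hp1 : t • p1 = p1 := hsF (by simp)
    have hp2 : t • p2 = p2 := hsF (by simp)
    have hp3 : t • p3 = p3 := hsF (by simp)
    have hp4 : t • p4 = p4 := hsF (by simp)
    have := eq_one_of_fix_four hsharp h12 h13 h14 h23 h24 h34 t hp1 hp2 hp3 hp4
    rw [this, one_smul] at hta
    exact hab hta
  have hFfin : F.Finite := Set.finite_of_encard_le_coe (k := 3) hF3
  have hFn3 : F.ncard ≤ 3 := by
    have := hFfin.cast_ncard_eq
    rw [← this] at hF3
    exact_mod_cast hF3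
  have hFn2 : 2 ≤ F.ncard := by
    have hsub : ({g⁻¹ • c, g⁻¹ • d} : Set Ω) ⊆ F := by
      intro z hz
      rcases hz with rfl | rfl
      · exact he₁
      · exact he₂
    have := Set.ncard_le_ncard hsub hFfin
    rwa [Set.ncard_pair he₁₂] at this
  -- remaining points
  set R : Set Ω := {z | t • z ≠ z ∧ z ≠ a ∧ z ≠ b} with hR
  have hgz : ∀ z : R, ∃ γ : G, γ • a = a ∧ γ • b = b ∧ γ • c = (z : Ω) ∧ γ • d = t • (z : Ω) := by
    intro z
    obtain ⟨hz1, hz2, hz3⟩ := z.2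
    have hz4 : t • (z : Ω) ≠ a := by
      intro h
      have := congrArg (fun w => t • w) h
      simp only [htt', hta] at this
      exact hz3 this
    have hz5 : t • (z : Ω) ≠ b := by
      intro h
      have := congrArg (fun w => t • w) h
      simp only [htt', htb] at this
      exact hz2 this
    exact exists_smul_eq_four h4 hab hac had hbc hbd hcd hab (Ne.symm hz2) (Ne.symm hz4)
      (Ne.symm hz3) (Ne.symm hz5) (Ne.symm hz1)
  choose γ hγ using hgz
  have hcomm : ∀ z : R, γ z * t = t * γ z := by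
    intro z
    obtain ⟨h1, h2, h3, h4'⟩ := hγ z
    apply eq_of_agree_four hsharp hab hac had hbc hbd hcd
    · rw [mul_smul, mul_smul, hta, h2, h1, hta]
    · rw [mul_smul, mul_smul, htb, h1, h2, htb]
    · rw [mul_smul, mul_smul, htc, h4', h3]
    · rw [mul_smul, mul_smul, htd, h3, h4', htt']
  have hpres : ∀ γ₀ : G, γ₀ * t = t * γ₀ → ∀ w : Ω, (MulAction.toPerm γ₀) w ∈ F ↔ w ∈ F := by
    intro γ₀ h w
    rw [MulAction.toPerm_apply, hF, Set.mem_ofPred_eq, Set.mem_ofPred_eq, ← mul_smul, ← h,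
      mul_smul, smul_left_cancel_iff]
  let ψ : R → Equiv.Perm F := fun z => (MulAction.toPerm (γ z)).subtypePerm (hpres _ (hcomm z))
  have hψ : Function.Injective ψ := by
    intro z z' hzz'
    have hag : ∀ w : Ω, w ∈ F → γ z • w = γ z' • w := by
      intro w hw
      have := congrArg (fun σ : Equiv.Perm F => ((σ ⟨w, hw⟩ : F) : Ω)) hzz'
      exact this
    have h1 : (g⁻¹ • c) ∈ F := he₁
    have h2 : (g⁻¹ • d) ∈ F := he₂
    have hγeq : γ z = γ z' := by
      apply eq_of_agree_four hsharp hab (fun h => haF (h ▸ h1)) (fun h => haF (h ▸ h2))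
        (fun h => hbF (h ▸ h1)) (fun h => hbF (h ▸ h2)) he₁₂
      · rw [(hγ z).1, (hγ z').1]
      · rw [(hγ z).2.1, (hγ z').2.1]
      · exact hag _ h1
      · exact hag _ h2
    apply Subtype.ext
    rw [← (hγ z).2.2.1, ← (hγ z').2.2.1, hγeq]
  haveI : Finite F := hFfin.to_subtype
  haveI hRfin : Finite R := Finite.of_injective ψ hψ
  have hRcard : R.ncard ≤ (F.ncard).factorial := by
    have := Nat.card_le_card_of_injective ψ hψ
    rwa [Nat.card_perm, Nat.card_coe_set_eq, Nat.card_coe_set_eq] at this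
  have huniv : (Set.univ : Set Ω) ⊆ F ∪ {a, b} ∪ R := by
    intro z _
    by_cases hz : t • z = z
    · exact Or.inl (Or.inl hz)
    · by_cases hza : z = a
      · exact Or.inl (Or.inr (Or.inl hza))
      · by_cases hzb : z = b
        · exact Or.inl (Or.inr (Or.inr hzb))
        · exact Or.inr ⟨hz, hza, hzb⟩
  have hUfin : (F ∪ {a, b} ∪ R).Finite :=
    (hFfin.union (Set.toFinite _)).union (Set.toFinite R)
  have hΩfin : Finite Ω := Set.finite_univ_iff.mp (hUfin.subset huniv)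
  have hcard : Nat.card Ω ≤ F.ncard + 2 + (F.ncard).factorial := by
    rw [← Set.ncard_univ]
    calc (Set.univ : Set Ω).ncard ≤ (F ∪ {a, b} ∪ R).ncard := Set.ncard_le_ncard huniv hUfin
      _ ≤ (F ∪ {a, b}).ncard + R.ncard := Set.ncard_union_le _ _
      _ ≤ F.ncard + ({a, b} : Set Ω).ncard + R.ncard :=
          Nat.add_le_add_right (Set.ncard_union_le _ _) _
      _ ≤ F.ncard + 2 + (F.ncard).factorial := by
          rw [Set.ncard_pair hab]
          exact Nat.add_le_add_left hRcard _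
  -- parity
  have hpar : ∃ j : ℕ, Nat.card Ω = 2 * j + F.ncard := by
    haveI := Fintype.ofFinite Ω
    have hσ : (MulAction.toPerm t : Equiv.Perm Ω) ^ 2 = 1 := by
      ext z
      rw [pow_two, Equiv.Perm.mul_apply, MulAction.toPerm_apply, MulAction.toPerm_apply, htt']
      rfl
    obtain ⟨j, hj⟩ := Equiv.Perm.two_dvd_card_support hσ
    refine ⟨j, ?_⟩
    have h1 := Finset.card_add_card_compl (MulAction.toPerm t : Equiv.Perm Ω).support
    have h2 : F = (((MulAction.toPerm t : Equiv.Perm Ω).support)ᶜ : Finset Ω) := by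
      ext z
      simp [hF, Equiv.Perm.mem_support]
    rw [h2, Set.ncard_coe_finset, Nat.card_eq_fintype_card, ← h1, hj]
  obtain ⟨j, hj⟩ := hpar
  refine ⟨hΩfin, ?_, ?_⟩
  · have h2 : F.ncard = 2 ∨ F.ncard = 3 := by omega
    rcases h2 with h2 | h2
    · rw [h2] at hcard
      have : Nat.factorial 2 = 2 := rfl
      omega
    · rw [h2] at hcard
      have : Nat.factorial 3 = 6 := rfl
      omega
  · intro heven
    obtain ⟨i, hi⟩ := heven
    have h2 : F.ncard = 2 := by omega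
    rw [h2] at hcard
    have : Nat.factorial 2 = 2 := rfl
    omega

/-- Tits' argument: a sharply 4-transitive group (no finiteness assumed) has finite degree at most 11, and at most 6 when the degree is even. -/
theorem result {G : Type*} [Group G] {Ω : Type*} [MulAction G Ω] (h4 : MulAction.IsMultiplyPretransitive G Ω 4) (hsharp : ∀ x : Fin 4 ↪ Ω, MulAction.stabilizer G x = ⊥) (hne : Nonempty (Fin 4 ↪ Ω)) : Finite Ω ∧ Nat.card Ω ≤ 11 ∧ (Even (Nat.card Ω) → Nat.card Ω ≤ 6) := by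
  classical
  obtain ⟨x0⟩ := hne
  have hab : x0 0 ≠ x0 1 := x0.injective.ne (by decide)
  have hac : x0 0 ≠ x0 2 := x0.injective.ne (by decide)
  have had : x0 0 ≠ x0 3 := x0.injective.ne (by decide)
  have hbc : x0 1 ≠ x0 2 := x0.injective.ne (by decide)
  have hbd : x0 1 ≠ x0 3 := x0.injective.ne (by decide)
  have hcd : x0 2 ≠ x0 3 := x0.injective.ne (by decide)
  by_cases hbig : ∃ x y : Ω, x ≠ y ∧ (x ≠ x0 0 ∧ x ≠ x0 1 ∧ x ≠ x0 2 ∧ x ≠ x0 3) ∧
      (y ≠ x0 0 ∧ y ≠ x0 1 ∧ y ≠ x0 2 ∧ y ≠ x0 3)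
  · obtain ⟨x, y, hxy, hx, hy⟩ := hbig
    exact big_case h4 hsharp _ _ _ _ hab hac had hbc hbd hcd x y hxy hx hy
  · obtain ⟨hfin, hcard⟩ := small_case _ _ _ _ hbig
    exact ⟨hfin, by omega, fun _ => by omega⟩

end Cfsg.Agent.S0708
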