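import Mathlib
import Cfsg.Statements.S0709

set_option autoImplicit false
open Cfsg

namespace Cfsg.Agent.S0709

open Equiv

/-- relative multiple transitivity on an invariant subset -/
def RelTrans {α : Type*} (K : Subgroup (Perm α)) (Δ : Set α) (n : ℕ) : Prop :=
  ∀ x y : Fin n → α, Function.Injective x → Function.Injective y →
    (∀ i, x i ∈ Δ) → (∀ i, y i ∈ Δ) → ∃ k ∈ K, ∀ i, k (x i) = y i

theorem inj_pair {α : Type*} {u v : α} (h : u ≠ v) : Function.Injective ![u, v] := by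
  intro i j hij
  fin_cases i <;> fin_cases j <;> simp_all

theorem decomp {α : Type*} (K : Subgroup (Perm α)) (Δ : Set α) (a b : α) (g : Perm α)
    (hKΔ : ∀ k ∈ K, ∀ x ∈ Δ, k x ∈ Δ) (ha : a ∈ Δ)
    (htr : ∀ x ∈ Δ, x ≠ a → ∃ k ∈ K, k a = a ∧ k x = b)
    (hg : g ∈ K) (hga : g a = b) :
    ∀ k ∈ K, k a ≠ a → ∃ u ∈ K, ∃ v ∈ K, u a = a ∧ v a = a ∧ k = u * g * v := by
  intro k hk hka
  obtain ⟨k', hk', hk'a, hk'b⟩ := htr (k a) (hKΔ k hk a ha) hka
  refine ⟨k'⁻¹, K.inv_mem hk', g⁻¹ * k' * k,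
    K.mul_mem (K.mul_mem (K.inv_mem hg) hk') hk, ?_, ?_, ?_⟩
  · rw [Perm.inv_eq_iff_eq]; exact hk'a.symm
  · rw [Perm.mul_apply, Perm.mul_apply, hk'b, Perm.inv_eq_iff_eq]; exact hga.symm
  · group

theorem one_point_ext {α : Type*} (K : Subgroup (Perm α)) (Δ : Set α) (a b c : α) (g h : Perm α)
    (hKΔ : ∀ k ∈ K, ∀ x ∈ Δ, k x ∈ Δ) (hKc : ∀ k ∈ K, k c = c)
    (htr : ∀ x ∈ Δ, x ≠ a → ∃ k ∈ K, k a = a ∧ k x = b)
    (ha : a ∈ Δ) (hc : c ∉ Δ)
    (hg : g ∈ K) (hga : g a = b)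
    (hhc : h c = a)
    (hh2 : h ^ 2 ∈ K) (hgh : (g * h) ^ 3 ∈ K)
    (hnorm : ∀ k ∈ K, k a = a → h * k * h⁻¹ ∈ K) :
    ∀ x ∈ Subgroup.closure ((K : Set (Perm α)) ∪ {h}), x c = c → x ∈ K := by
  have hnorm' : ∀ k ∈ K, k a = a → h⁻¹ * k * h ∈ K := by
    intro k hk hka
    have : h⁻¹ * k * h = (h ^ 2)⁻¹ * (h * k * h⁻¹) * h ^ 2 := by group
    rw [this]
    exact K.mul_mem (K.mul_mem (K.inv_mem hh2) (hnorm k hk hka)) hh2
  have hghg : h * g * h = (g⁻¹ * (g * h) ^ 3 * (h ^ 2)⁻¹) * h * g⁻¹ := by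
    have e3 : (g * h) ^ 3 = g * h * (g * h) * (g * h) := by
      rw [pow_succ, pow_succ, pow_one]
    have e2 : h ^ 2 = h * h := pow_two h
    rw [e3, e2]; group
  have key : ∀ k ∈ K, (h * k * h ∈ K) ∨ ∃ k1 ∈ K, ∃ k2 ∈ K, h * k * h = k1 * h * k2 := by
    intro k hk
    by_cases hka : k a = a
    · left
      have : h * k * h = (h * k * h⁻¹) * h ^ 2 := by group
      rw [this]; exact K.mul_mem (hnorm k hk hka) hh2
    · right
      obtain ⟨u, hu, v, hv, hua, hva, rfl⟩ := decomp K Δ a b g hKΔ ha htr hg hga k hk hka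
      refine ⟨(h * u * h⁻¹) * (g⁻¹ * (g * h) ^ 3 * (h ^ 2)⁻¹), ?_, g⁻¹ * (h⁻¹ * v * h), ?_, ?_⟩
      · exact K.mul_mem (hnorm u hu hua)
          (K.mul_mem (K.mul_mem (K.inv_mem hg) hgh) (K.inv_mem hh2))
      · exact K.mul_mem (K.inv_mem hg) (hnorm' v hv hva)
      · have e1 : h * (u * g * v) * h = (h * u * h⁻¹) * (h * g * h) * (h⁻¹ * v * h) := by group
        rw [e1, hghg]
        simp only [mul_assoc]
  have left_K : ∀ k ∈ K, ∀ z : Perm α, (z ∈ K ∨ ∃ k1 ∈ K, ∃ k2 ∈ K, z = k1 * h * k2) →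
      (k * z ∈ K ∨ ∃ k1 ∈ K, ∃ k2 ∈ K, k * z = k1 * h * k2) := by
    rintro k hk z (hz | ⟨k1, hk1, k2, hk2, rfl⟩)
    · exact Or.inl (K.mul_mem hk hz)
    · exact Or.inr ⟨k * k1, K.mul_mem hk hk1, k2, hk2, by simp only [mul_assoc]⟩
  have left_h : ∀ z : Perm α, (z ∈ K ∨ ∃ k1 ∈ K, ∃ k2 ∈ K, z = k1 * h * k2) →
      (h * z ∈ K ∨ ∃ k1 ∈ K, ∃ k2 ∈ K, h * z = k1 * h * k2) := by
    rintro z (hz | ⟨k1, hk1, k2, hk2, rfl⟩)
    · exact Or.inr ⟨1, K.one_mem, z, hz, by simp⟩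
    · rcases key k1 hk1 with h1 | ⟨k3, hk3, k4, hk4, h1⟩
      · left
        have : h * (k1 * h * k2) = (h * k1 * h) * k2 := by simp only [mul_assoc]
        rw [this]; exact K.mul_mem h1 hk2
      · right
        refine ⟨k3, hk3, k4 * k2, K.mul_mem hk4 hk2, ?_⟩
        have : h * (k1 * h * k2) = (h * k1 * h) * k2 := by simp only [mul_assoc]
        rw [this, h1]; simp only [mul_assoc]
  have hM : ∀ x ∈ Subgroup.closure ((K : Set (Perm α)) ∪ {h}),
      x ∈ K ∨ ∃ k1 ∈ K, ∃ k2 ∈ K, x = k1 * h * k2 := by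
    intro x hx
    induction hx using Subgroup.closure_induction_left with
    | one => exact Or.inl K.one_mem
    | mul_left y hy z hz ih =>
      rcases hy with hy | hy
      · exact left_K y hy z ih
      · rw [Set.mem_singleton_iff] at hy; rw [hy]; exact left_h z ih
    | inv_mul_cancel y hy z hz ih =>
      rcases hy with hy | hy
      · exact left_K y⁻¹ (K.inv_mem hy) z ih
      · rw [Set.mem_singleton_iff] at hy; rw [hy]
        have : h⁻¹ * z = (h ^ 2)⁻¹ * (h * z) := by group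
        rw [this]
        exact left_K _ (K.inv_mem hh2) _ (left_h z ih)
  intro x hx hxc
  rcases hM x hx with h1 | ⟨k1, hk1, k2, hk2, rfl⟩
  · exact h1
  · exfalso
    apply hc
    rw [Perm.mul_apply, Perm.mul_apply, hKc k2 hk2, hhc] at hxc
    rw [← hxc]
    exact hKΔ k1 hk1 a ha

theorem ext_trans {α : Type*} (K S : Subgroup (Perm α)) (Δ Δ' : Set α) (c : α) (n : ℕ)
    (hKS : K ≤ S)
    (hΔ' : ∀ x, x ∈ Δ' ↔ x = c ∨ x ∈ Δ)
    (hSΔ' : ∀ s ∈ S, ∀ x ∈ Δ', s x ∈ Δ')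
    (hSc : ∀ x ∈ Δ', ∃ s ∈ S, s x = c)
    (hKc : ∀ k ∈ K, k c = c)
    (hK : RelTrans K Δ n) : RelTrans S Δ' (n + 1) := by
  intro x y hx hy hxΔ hyΔ
  obtain ⟨s1, hs1, hs1x⟩ := hSc (x 0) (hxΔ 0)
  obtain ⟨s2, hs2, hs2y⟩ := hSc (y 0) (hyΔ 0)
  have hx' : ∀ i : Fin n, s1 (x i.succ) ∈ Δ := by
    intro i
    have h1 := hSΔ' s1 hs1 _ (hxΔ i.succ)
    rcases (hΔ' _).1 h1 with h2 | h2
    · exfalso
      rw [← hs1x] at h2
      have := hx (s1.injective h2)
      exact Fin.succ_ne_zero i this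
    · exact h2
  have hy' : ∀ i : Fin n, s2 (y i.succ) ∈ Δ := by
    intro i
    have h1 := hSΔ' s2 hs2 _ (hyΔ i.succ)
    rcases (hΔ' _).1 h1 with h2 | h2
    · exfalso
      rw [← hs2y] at h2
      have := hy (s2.injective h2)
      exact Fin.succ_ne_zero i this
    · exact h2
  have hxi : Function.Injective (fun i : Fin n => s1 (x i.succ)) := by
    intro i j hij
    exact Fin.succ_injective _ (hx (s1.injective hij))
  have hyi : Function.Injective (fun i : Fin n => s2 (y i.succ)) := by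
    intro i j hij
    exact Fin.succ_injective _ (hy (s2.injective hij))
  obtain ⟨k, hk, hkxy⟩ := hK _ _ hxi hyi hx' hy'
  refine ⟨s2⁻¹ * k * s1, S.mul_mem (S.mul_mem (S.inv_mem hs2) (hKS hk)) hs1, ?_⟩
  intro i
  refine Fin.cases ?_ ?_ i
  · rw [Perm.mul_apply, Perm.mul_apply, hs1x, hKc k hk, Perm.inv_eq_iff_eq, hs2y]
  · intro j
    have h3 : k (s1 (x j.succ)) = s2 (y j.succ) := hkxy j
    rw [Perm.mul_apply, Perm.mul_apply, h3, Perm.inv_eq_iff_eq]

/-- Witt's Lemma for constructing transitive extensions. Points `q 1, …, q t` (`t ≥ 2`) of a finite set are given; `G` fixes `q i` for `i ≥ 3` and is doubly transitive on the remaining points; `s 1 ∈ G` swaps `q 1, q 2`; for `2 ≤ i ≤ t-1`, `s i` swaps `q i, q (i+1)` and fixes the other `q j`; with `H` the stabiliser of `q 1, q 2` in `G`: `s i ^ 2 ∈ H`, `(s i * s (i+1)) ^ 3 ∈ H`, `(s i * s j) ^ 2 ∈ H` for `j ≥ i + 2`, and `s i` (`i ≥ 2`) normalises the stabiliser of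 `q 2` in `G`. Then `G` and the `s i` generate a `t`-transitive group whose pointwise stabiliser of the `q`'s is `H`. -/
theorem result {α : Type*} [Fintype α] [DecidableEq α] (t : ℕ) (ht : 2 ≤ t) (q : ℕ → α) (hq : ∀ i j : ℕ, 1 ≤ i → i ≤ t → 1 ≤ j → j ≤ t → q i = q j → i = j) (G : Subgroup (Equiv.Perm α)) (hfix : ∀ g ∈ G, ∀ i : ℕ, 3 ≤ i → i ≤ t → g (q i) = q i) (h2 : ∀ a b c d : α, (∀ i, 3 ≤ i → i ≤ t → a ≠ q i ∧ b ≠ q i ∧ c ≠ q i ∧ d ≠ q i) → a ≠ b → c ≠ d → ∃ g ∈ G, g a = c ∧ g b = d) (s : ℕ → Equiv.Perm α) (hs1 : s 1 ∈ G) (hs1q : s 1 (q 1) = q 2 ∧ s 1 (q 2) = q 1) (hsq : ∀ i : ℕ, 2 ≤ i → i + 1 ≤ t → s i (q i) = q (i + 1) ∧ s i (q (i + 1)) = q i ∧ ∀ j : ℕ, 1 ≤ j → j ≤ t → j ≠ i → j ≠ i + 1 → s i (q j) = q j) (H : Subgroup (Equiv.Perm α)) (hH : H = G ⊓ MulAction.stabilizer (Equiv.Perm α) (q 1) ⊓ MulAction.stabilizer (Equiv.Perm α) (q 2)) (hsq2 : ∀ i : ℕ, 1 ≤ i → i + 1 ≤ t → s i ^ 2 ∈ H) (hbraid : ∀ i : ℕ, 1 ≤ i →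 i + 2 ≤ t → (s i * s (i + 1)) ^ 3 ∈ H) (hcomm : ∀ i j : ℕ, 1 ≤ i → i + 2 ≤ j → j + 1 ≤ t → (s i * s j) ^ 2 ∈ H ∧ (s j * s i) ^ 2 ∈ H) (hnorm : ∀ i : ℕ, 2 ≤ i → i + 1 ≤ t → ∀ g ∈ G ⊓ MulAction.stabilizer (Equiv.Perm α) (q 2), s i * g * (s i)⁻¹ ∈ G ⊓ MulAction.stabilizer (Equiv.Perm α) (q 2)) : MulAction.IsMultiplyPretransitive ↥(Subgroup.closure ((G : Set (Equiv.Perm α)) ∪ {x | ∃ i : ℕ, 2 ≤ i ∧ i + 1 ≤ t ∧ x = s i})) α t ∧ Subgroup.closure ((G : Set (Equiv.Perm α)) ∪ {x | ∃ i : ℕ, 2 ≤ i ∧ i + 1 ≤ t ∧ x = s i}) ⊓ fixingSubgroup (Equiv.Perm α) {x | ∃ i : ℕ, 1 ≤ i ∧ i ≤ t ∧ x = q i} = H := by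
  classical
  obtain ⟨Gc, hGc⟩ : ∃ Gc : ℕ → Subgroup (Perm α), ∀ i, Gc i = Subgroup.closure
      ((G : Set (Perm α)) ∪ {x | ∃ j : ℕ, 2 ≤ j ∧ j + 1 ≤ i ∧ x = s j}) := ⟨_, fun _ => rfl⟩
  obtain ⟨Δ, hΔ⟩ : ∃ Δ : ℕ → Set α, ∀ i, Δ i = {x | ∀ j, i + 1 ≤ j → j ≤ t → x ≠ q j} :=
    ⟨_, fun _ => rfl⟩
  have memΔ : ∀ i x, x ∈ Δ i ↔ ∀ j, i + 1 ≤ j → j ≤ t → x ≠ q j := by
    intro i x; rw [hΔ]; rfl
  have hGle : ∀ i, G ≤ Gc i := by
    intro i; rw [hGc]; exact fun x hx => Subgroup.subset_closure (Or.inl hx)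
  have hsmem : ∀ i j, 2 ≤ j → j + 1 ≤ i → s j ∈ Gc i := by
    intro i j h1 h2; rw [hGc]; exact Subgroup.subset_closure (Or.inr ⟨j, h1, h2, rfl⟩)
  have hmono : ∀ i i', i ≤ i' → Gc i ≤ Gc i' := by
    intro i i' hii
    rw [hGc i, Subgroup.closure_le]
    rintro x (hx | ⟨j, h1, h2, rfl⟩)
    · exact hGle i' hx
    · exact hsmem i' j h1 (by omega)
  have hG2 : Gc 2 = G := by
    rw [hGc]
    apply le_antisymm
    · rw [Subgroup.closure_le]
      rintro x (hx | ⟨j, h1, h2, rfl⟩)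
      · exact hx
      · omega
    · exact fun x hx => Subgroup.subset_closure (Or.inl hx)
  have hsucc : ∀ i, 2 ≤ i → Gc (i + 1) = Subgroup.closure ((Gc i : Set (Perm α)) ∪ {s i}) := by
    intro i hi
    apply le_antisymm
    · rw [hGc (i + 1), Subgroup.closure_le]
      rintro x (hx | ⟨j, h1, h2, rfl⟩)
      · exact Subgroup.subset_closure (Or.inl (hGle i hx))
      · rcases Nat.lt_or_ge j i with hji | hji
        · exact Subgroup.subset_closure (Or.inl (hsmem i j h1 (by omega)))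
        · have : j = i := by omega
          subst this
          exact Subgroup.subset_closure (Or.inr rfl)
    · rw [Subgroup.closure_le]
      rintro x (hx | hx)
      · exact hmono i (i + 1) (by omega) hx
      · rw [Set.mem_singleton_iff] at hx; rw [hx]; exact hsmem (i + 1) i hi le_rfl
  have hHG : H ≤ G := by rw [hH]; exact inf_le_left.trans inf_le_left
  have hHq1 : ∀ x ∈ H, x (q 1) = q 1 := by
    intro x hx; rw [hH] at hx; exact MulAction.mem_stabilizer_iff.1 hx.1.2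
  have hHq2 : ∀ x ∈ H, x (q 2) = q 2 := by
    intro x hx; rw [hH] at hx; exact MulAction.mem_stabilizer_iff.1 hx.2
  have memH : ∀ x, x ∈ G → x (q 1) = q 1 → x (q 2) = q 2 → x ∈ H := by
    intro x h1 h2 h3; rw [hH]
    exact ⟨⟨h1, MulAction.mem_stabilizer_iff.2 h2⟩, MulAction.mem_stabilizer_iff.2 h3⟩
  have hfixq : ∀ i, 2 ≤ i → i ≤ t → ∀ x ∈ Gc i, ∀ m, i + 1 ≤ m → m ≤ t → x (q m) = q m := by
    intro i hi hit x hx m hm hmt
    rw [hGc] at hx
    induction hx using Subgroup.closure_induction with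
    | mem y hy =>
      rcases hy with hy | ⟨j, h1, h2, rfl⟩
      · exact hfix y hy m (by omega) hmt
      · exact (hsq j h1 (by omega)).2.2 m (by omega) hmt (by omega) (by omega)
    | one => rfl
    | mul y z _ _ hy hz => rw [Perm.mul_apply, hz, hy]
    | inv y _ hy => rw [Perm.inv_eq_iff_eq]; exact hy.symm
  have hpres : ∀ i, 2 ≤ i → i ≤ t → ∀ x ∈ Gc i, ∀ y ∈ Δ i, x y ∈ Δ i := by
    intro i hi hit x hx y hy
    rw [memΔ] at hy ⊢
    intro m hm hmt hxy
    apply hy m hm hmt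
    have := hfixq i hi hit x hx m hm hmt
    exact x.injective (hxy.trans this.symm)
  have hqΔ : ∀ i m, 1 ≤ m → m ≤ i → i ≤ t → q m ∈ Δ i := by
    intro i m h1 h2 h3
    rw [memΔ]
    intro j hj hjt hqq
    have := hq m j h1 (by omega) (by omega) hjt hqq
    omega
  have hΔsucc : ∀ i, i + 1 ≤ t → ∀ x, x ∈ Δ (i + 1) ↔ x = q (i + 1) ∨ x ∈ Δ i := by
    intro i hit x
    rw [memΔ, memΔ]
    constructor
    · intro h
      by_cases hx : x = q (i + 1)
      · exact Or.inl hx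
      · right
        intro j hj hjt
        rcases Nat.eq_or_lt_of_le hj with hj' | hj'
        · rw [← hj']; exact hx
        · exact h j (by omega) hjt
    · rintro (rfl | h)
      · intro j hj hjt hqq
        have := hq (i + 1) j (by omega) hit (by omega) hjt hqq
        omega
      · intro j hj hjt; exact h j (by omega) hjt
  have conj_of_sq : ∀ (W : Subgroup (Perm α)) (u y : Perm α), H ≤ W → y ∈ W →
      (u * y) ^ 2 ∈ H → u ^ 2 ∈ H → u * y * u⁻¹ ∈ W := by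
    intro W u y hW hy h1 h2
    have : u * y * u⁻¹ = (u * y) ^ 2 * y⁻¹ * (u ^ 2)⁻¹ := by
      rw [pow_two, pow_two]; group
    rw [this]
    exact W.mul_mem (W.mul_mem (hW h1) (W.inv_mem hy)) (W.inv_mem (hW h2))
  have hpresG : ∀ x ∈ G, ∀ y ∈ Δ 2, x y ∈ Δ 2 := by
    intro x hx y hy
    exact hpres 2 le_rfl ht x (hG2.symm ▸ hx) y hy
  have h2Δ : ∀ a b c d : α, a ∈ Δ 2 → b ∈ Δ 2 → c ∈ Δ 2 → d ∈ Δ 2 → a ≠ b → c ≠ d →
      ∃ g ∈ G, g a = c ∧ g b = d := by
    intro a b c d ha hb hc hd hab hcd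
    refine h2 a b c d (fun i hi hit => ?_) hab hcd
    exact ⟨(memΔ 2 a).1 ha i hi hit, (memΔ 2 b).1 hb i hi hit, (memΔ 2 c).1 hc i hi hit,
      (memΔ 2 d).1 hd i hi hit⟩
  have hq12 : q 1 ≠ q 2 := by
    intro h
    have := hq 1 2 le_rfl (by omega) (by omega) ht h
    omega
  have htrG : ∀ x ∈ Δ 2, x ≠ q 2 → ∃ k ∈ G, k (q 2) = q 2 ∧ k x = q 1 := by
    intro x hx hx2
    exact h2Δ (q 2) x (q 2) (q 1) (hqΔ 2 2 (by omega) le_rfl ht) hx (hqΔ 2 2 (by omega) le_rfl ht)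
      (hqΔ 2 1 le_rfl (by omega) ht) (Ne.symm hx2) (Ne.symm hq12)
  have hnormG : ∀ i, 3 ≤ i → i + 1 ≤ t → ∀ k ∈ G, s i * k * (s i)⁻¹ ∈ G := by
    intro i hi hit k hk
    have hs1conj : s i * s 1 * (s i)⁻¹ ∈ G :=
      conj_of_sq G (s i) (s 1) hHG hs1 (hcomm 1 i le_rfl (by omega) hit).2
        (hsq2 i (by omega) hit)
    have hstab : ∀ u ∈ G, u (q 2) = q 2 → s i * u * (s i)⁻¹ ∈ G := by
      intro u hu hu2
      exact (hnorm i (by omega) hit u ⟨hu, MulAction.mem_stabilizer_iff.2 hu2⟩).1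
    by_cases hk2 : k (q 2) = q 2
    · exact hstab k hk hk2
    · obtain ⟨u, hu, v, hv, hua, hva, rfl⟩ := decomp G (Δ 2) (q 2) (q 1) (s 1) hpresG
        (hqΔ 2 2 (by omega) le_rfl ht) htrG hs1 hs1q.2 k hk hk2
      have : s i * (u * s 1 * v) * (s i)⁻¹ =
          (s i * u * (s i)⁻¹) * (s i * s 1 * (s i)⁻¹) * (s i * v * (s i)⁻¹) := by group
      rw [this]
      exact G.mul_mem (G.mul_mem (hstab u hu hua) hs1conj) (hstab v hv hva)
  have hnormGc : ∀ m, 2 ≤ m → m + 2 ≤ t → ∀ k ∈ Gc m,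
      s (m + 1) * k * (s (m + 1))⁻¹ ∈ Gc m := by
    intro m hm hmt k hk
    rw [hGc m] at hk
    induction hk using Subgroup.closure_induction with
    | mem y hy =>
      rcases hy with hy | ⟨j, h1, h2, rfl⟩
      · exact hGle m (hnormG (m + 1) (by omega) (by omega) y hy)
      · exact conj_of_sq (Gc m) (s (m + 1)) (s j) (hHG.trans (hGle m)) (hsmem m j h1 h2)
          (hcomm j (m + 1) (by omega) (by omega) (by omega)).2
          (hsq2 (m + 1) (by omega) (by omega))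
    | one => simp
    | mul y z _ _ hy hz =>
      have : s (m + 1) * (y * z) * (s (m + 1))⁻¹ =
          (s (m + 1) * y * (s (m + 1))⁻¹) * (s (m + 1) * z * (s (m + 1))⁻¹) := by group
      rw [this]; exact (Gc m).mul_mem hy hz
    | inv y _ hy =>
      have : s (m + 1) * y⁻¹ * (s (m + 1))⁻¹ = (s (m + 1) * y * (s (m + 1))⁻¹)⁻¹ := by group
      rw [this]; exact (Gc m).inv_mem hy
  -- main induction
  have hP : ∀ i, 2 ≤ i → i ≤ t → ((∀ n ≤ i, RelTrans (Gc i) (Δ i) n) ∧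
      (3 ≤ i → ∀ x ∈ Gc i, x (q i) = q i → x ∈ Gc (i - 1))) := by
    intro i hi
    induction i, hi using Nat.le_induction with
    | base =>
      intro _
      refine ⟨?_, fun h => by omega⟩
      intro n hn
      rw [hG2]
      interval_cases n
      · intro x y _ _ _ _
        exact ⟨1, G.one_mem, fun i => i.elim0⟩
      · intro x y _ _ hxΔ hyΔ
        have hex : ∀ z : α, ∃ z' ∈ Δ 2, z ≠ z' := by
          intro z
          by_cases hz : z = q 1
          · exact ⟨q 2, hqΔ 2 2 (by omega) le_rfl ht, by rw [hz]; exact hq12⟩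
          · exact ⟨q 1, hqΔ 2 1 le_rfl (by omega) ht, hz⟩
        obtain ⟨x', hx', hxx'⟩ := hex (x 0)
        obtain ⟨y', hy', hyy'⟩ := hex (y 0)
        obtain ⟨g, hg, hg1, -⟩ := h2Δ (x 0) x' (y 0) y' (hxΔ 0) hx' (hyΔ 0) hy' hxx' hyy'
        refine ⟨g, hg, fun i => ?_⟩
        rw [Subsingleton.elim i 0]; exact hg1
      · intro x y hx hy hxΔ hyΔ
        have hx01 : x 0 ≠ x 1 := fun h => by simpa using hx h
        have hy01 : y 0 ≠ y 1 := fun h => by simpa using hy h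
        obtain ⟨g, hg, hg1, hg2⟩ := h2Δ (x 0) (x 1) (y 0) (y 1) (hxΔ 0) (hxΔ 1) (hyΔ 0) (hyΔ 1)
          hx01 hy01
        exact ⟨g, hg, Fin.forall_fin_two.2 ⟨hg1, hg2⟩⟩
    | succ i hi ih =>
      intro hit
      have ihP := ih (by omega)
      have hit' : i ≤ t := by omega
      -- data b, g
      have hdata : ∃ (b : α) (g : Perm α), b ∈ Δ i ∧ q i ≠ b ∧ g ∈ Gc i ∧ g (q i) = b ∧
          (g * s i) ^ 3 ∈ Gc i ∧
          (∀ k ∈ Gc i, k (q i) = q i → s i * k * (s i)⁻¹ ∈ Gc i) := by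
        rcases Nat.eq_or_lt_of_le hi with h2i | h2i
        · -- i = 2
          subst h2i
          refine ⟨q 1, s 1, hqΔ 2 1 le_rfl (by omega) ht, Ne.symm hq12, hGle 2 hs1, hs1q.2,
            hGle 2 (hHG (hbraid 1 le_rfl (by omega))), ?_⟩
          intro k hk hk2
          rw [hG2] at hk ⊢
          exact (hnorm 2 le_rfl hit k ⟨hk, MulAction.mem_stabilizer_iff.2 hk2⟩).1
        · obtain ⟨m, rfl⟩ : ∃ m, i = m + 1 := ⟨i - 1, by omega⟩
          have hm2 : 2 ≤ m := by omega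
          have hsm := hsq m hm2 (by omega)
          refine ⟨q m, s m, hqΔ (m + 1) m (by omega) (by omega) hit', ?_, hsmem (m + 1) m hm2 le_rfl,
            hsm.2.1, hGle (m + 1) (hHG (hbraid m (by omega) (by omega))), ?_⟩
          · intro h
            have := hq (m + 1) m (by omega) hit' (by omega) (by omega) h
            omega
          · intro k hk hkq
            have hk' := ihP.2 (by omega) k hk hkq
            rw [Nat.add_sub_cancel] at hk'
            exact hmono m (m + 1) (by omega) (hnormGc m hm2 (by omega) k hk')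
      obtain ⟨b, g, hbΔ, hqb, hg, hga, hgh, hnorm'⟩ := hdata
      have hsi := hsq i hi hit
      have htr : ∀ x ∈ Δ i, x ≠ q i → ∃ k ∈ Gc i, k (q i) = q i ∧ k x = b := by
        intro x hx hxq
        obtain ⟨k, hk, hk'⟩ := ihP.1 2 hi ![q i, x] ![q i, b] (inj_pair (Ne.symm hxq))
          (inj_pair hqb)
          (Fin.forall_fin_two.2 ⟨by simpa using hqΔ i i (by omega) le_rfl hit', by simpa using hx⟩)
          (Fin.forall_fin_two.2 ⟨by simpa using hqΔ i i (by omega) le_rfl hit', by simpa using hbΔ⟩)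
        refine ⟨k, hk, ?_, ?_⟩
        · simpa using hk' 0
        · simpa using hk' 1
      have hcΔ : q (i + 1) ∉ Δ i := by
        rw [memΔ]
        intro h
        exact h (i + 1) le_rfl hit rfl
      have hext := one_point_ext (Gc i) (Δ i) (q i) b (q (i + 1)) g (s i) (hpres i hi hit')
        (fun k hk => hfixq i hi hit' k hk (i + 1) le_rfl hit) htr
        (hqΔ i i (by omega) le_rfl hit') hcΔ hg hga hsi.2.1
        (hGle i (hHG (hsq2 i (by omega) hit))) hgh hnorm'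
      rw [← hsucc i hi] at hext
      refine ⟨?_, fun _ x hx hxq => ?_⟩
      · intro n hn
        rcases n with _ | n
        · intro x y _ _ _ _
          exact ⟨1, (Gc (i + 1)).one_mem, fun j => j.elim0⟩
        · refine ext_trans (Gc i) (Gc (i + 1)) (Δ i) (Δ (i + 1)) (q (i + 1)) n
            (hmono i (i + 1) (by omega)) (hΔsucc i hit) (hpres (i + 1) (by omega) hit) ?_
            (fun k hk => hfixq i hi hit' k hk (i + 1) le_rfl hit) (ihP.1 n (by omega))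
          intro x hx
          rcases (hΔsucc i hit x).1 hx with rfl | hx'
          · exact ⟨1, (Gc (i + 1)).one_mem, rfl⟩
          · obtain ⟨k, hk, hk'⟩ := ihP.1 1 (by omega) (fun _ => x) (fun _ => q i)
              (Function.injective_of_subsingleton _) (Function.injective_of_subsingleton _)
              (fun _ => hx') (fun _ => hqΔ i i (by omega) le_rfl hit')
            refine ⟨s i * k, (Gc (i + 1)).mul_mem (hsmem (i + 1) i hi le_rfl)
              (hmono i (i + 1) (by omega) hk), ?_⟩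
            rw [Perm.mul_apply, hk' 0, hsi.1]
      · rw [Nat.add_sub_cancel]
        exact hext x hx hxq
  have hGt := hGc t
  rw [← hGt]
  constructor
  · -- t-transitivity
    have hrel := (hP t ht le_rfl).1 t le_rfl
    have hΔt : ∀ x, x ∈ Δ t := by
      intro x; rw [memΔ]; intro j h1 h2; omega
    rw [MulAction.isMultiplyPretransitive_iff]
    intro x y
    obtain ⟨k, hk, hk'⟩ := hrel x y x.injective y.injective (fun i => hΔt _) (fun i => hΔt _)
    refine ⟨⟨k, hk⟩, ?_⟩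
    ext i
    exact hk' i
  · -- stabiliser
    apply le_antisymm
    · rintro x ⟨hx, hxfix⟩
      have hxq : ∀ j, 1 ≤ j → j ≤ t → x (q j) = q j := by
        intro j h1 h2
        exact (mem_fixingSubgroup_iff (Perm α)).1 hxfix (q j) ⟨j, h1, h2, rfl⟩
      have hdown : ∀ d, d + 2 ≤ t → x ∈ Gc (t - d) := by
        intro d
        induction d with
        | zero => intro _; exact hx
        | succ d ih =>
          intro hd
          have h1 := ih (by omega)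
          have h3 := (hP (t - d) (by omega) (by omega)).2 (by omega) x h1
            (hxq (t - d) (by omega) (by omega))
          have : t - d - 1 = t - (d + 1) := by omega
          rw [this] at h3
          exact h3
      have hxG : x ∈ G := by
        have := hdown (t - 2) (by omega)
        have e : t - (t - 2) = 2 := by omega
        rw [e, hG2] at this
        exact this
      exact memH x hxG (hxq 1 le_rfl (by omega)) (hxq 2 (by omega) ht)
    · intro x hx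
      refine ⟨hGle t (hHG hx), ?_⟩
      refine (mem_fixingSubgroup_iff (Perm α)).2 ?_
      rintro y ⟨j, h1, h2, rfl⟩
      show x (q j) = q j
      rcases Nat.lt_or_ge j 3 with hj | hj
      · interval_cases j
        · exact hHq1 x hx
        · exact hHq2 x hx
      · exact hfix x (hHG hx) j hj h2

end Cfsg.Agent.S0709
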