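import Mathlib
import Cfsg.Statements.S0710
-- import your own Cfsg.Agent.* helpers here

set_option autoImplicit false
open Cfsg

namespace Cfsg.Agent.S0710

open Equiv in
/-- The centralizer of an element of order 13 in the symmetric group of degree 13 has order 13. -/
theorem card_centralizer_thirteen {α : Type*} [Fintype α] [DecidableEq α]
    (hα : Fintype.card α = 13) (s : Perm α) (hs : orderOf s = 13) :
    Nat.card (Subgroup.centralizer ({s} : Set (Perm α))) = 13 := by
  have hprime : (orderOf s).Prime := by rw [hs]; norm_num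
  obtain ⟨n, hn⟩ := Perm.cycleType_prime_order hprime
  rw [hs] at hn
  have hsum : s.cycleType.sum ≤ 13 := by
    rw [Perm.sum_cycleType, ← hα]
    exact Finset.card_le_univ _
  have hn0 : n = 0 := by
    rw [hn, Multiset.sum_replicate, smul_eq_mul] at hsum
    omega
  subst hn0
  rw [Perm.nat_card_centralizer, hn, hα]
  simp

/-- No transitive permutation group on 13 points has order `13 * 12 * 11 * 10 * 9 * 8`. -/
theorem result {α : Type*} [Fintype α] [DecidableEq α] (hα : Fintype.card α = 13) (G : Subgroup (Equiv.Perm α)) [MulAction.IsPretransitive G α] : Nat.card G ≠ 13 * 12 * 11 * 10 * 9 * 8 := by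
  classical
  intro hcard
  haveI : Fact (Nat.Prime 13) := ⟨by norm_num⟩
  let P : Sylow 13 G := default
  -- |P| = 13
  have hP13 : Nat.card (P : Subgroup G) = 13 := by
    obtain ⟨k, hk⟩ := P.2.exists_card_eq
    have hidx := (P : Subgroup G).card_mul_index
    have hnd := P.not_dvd_index
    rw [hcard, hk] at hidx
    have hk2 : k < 2 := by
      by_contra hge
      have hge' : 2 ≤ k := by omega
      have h1 : 13 ^ 2 ∣ 13 ^ k := pow_dvd_pow 13 hge'
      have h2 : 13 ^ 2 ∣ 13 * 12 * 11 * 10 * 9 * 8 := h1.trans (Dvd.intro _ hidx)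
      norm_num at h2
    rw [hk]
    interval_cases k
    · exfalso
      apply hnd
      rw [pow_zero, one_mul] at hidx
      rw [hidx]; norm_num
    · norm_num
  -- a generator
  have hcyc : IsCyclic (P : Subgroup G) := isCyclic_of_prime_card hP13
  obtain ⟨σ, hσ⟩ := hcyc.exists_generator
  have hσord : orderOf σ = 13 := by
    rw [orderOf_eq_card_of_forall_mem_zpowers hσ, hP13]
  have hsord : orderOf ((σ : G) : Equiv.Perm α) = 13 := by
    rw [Subgroup.orderOf_coe, Subgroup.orderOf_coe, hσord]
  have hcent := card_centralizer_thirteen hα _ hsord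
  have hPcomm : IsMulCommutative (P : Subgroup G) := IsCyclic.isMulCommutative
  -- C_G(P) has order 13
  have hC13 : Nat.card (Subgroup.centralizer ((P : Subgroup G) : Set G)) = 13 := by
    have hle : (Subgroup.centralizer ((P : Subgroup G) : Set G)).map G.subtype ≤
        Subgroup.centralizer ({((σ : G) : Equiv.Perm α)} : Set (Equiv.Perm α)) := by
      rintro _ ⟨g, hg, rfl⟩
      have hg' : g ∈ Subgroup.centralizer ((P : Subgroup G) : Set G) := hg
      rw [Subgroup.mem_centralizer_singleton_iff]
      rw [Subgroup.mem_centralizer_iff] at hg'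
      have := hg' (σ : G) σ.2
      exact (congrArg Subtype.val this).symm
    have h1 : Nat.card (Subgroup.centralizer ((P : Subgroup G) : Set G)) ∣
        Nat.card (Subgroup.centralizer ({((σ : G) : Equiv.Perm α)} : Set (Equiv.Perm α))) := by
      rw [← Subgroup.card_map_of_injective G.subtype_injective]
      exact Subgroup.card_dvd_of_le hle
    rw [hcent] at h1
    have h2 : Nat.card (P : Subgroup G) ∣
        Nat.card (Subgroup.centralizer ((P : Subgroup G) : Set G)) :=
      Subgroup.card_dvd_of_le (P : Subgroup G).le_centralizer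
    rw [hP13] at h2
    exact Nat.dvd_antisymm h1 h2
  -- N_G(P) / C_G(P) embeds in Aut(P)
  set φ := (P : Subgroup G).normalizerMonoidHom with hφ
  have hker : Nat.card φ.ker = 13 := by
    rw [hφ, Subgroup.normalizerMonoidHom_ker]
    have hCN : Subgroup.centralizer ((P : Subgroup G) : Set G) ≤
        Subgroup.normalizer ((P : Subgroup G) : Set G) := Subgroup.centralizer_le_normalizer _
    have := Nat.card_congr (Subgroup.subgroupOfEquivOfLe hCN).toEquiv
    rw [hC13] at this
    exact this
  have hrange : Nat.card φ.range ∣ 12 := by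
    have h1 : Nat.card φ.range ∣ Nat.card (MulAut (P : Subgroup G)) :=
      Subgroup.card_subgroup_dvd_card _
    rw [IsCyclic.card_mulAut, hP13] at h1
    have : Nat.totient 13 = 12 := by
      rw [Nat.totient_prime (by norm_num)]
    rw [this] at h1
    exact h1
  have hN : Nat.card (Subgroup.normalizer ((P : Subgroup G) : Set G)) = 13 * Nat.card φ.range := by
    have := Subgroup.card_mul_index φ.ker
    rw [hker, Subgroup.index_ker] at this
    exact this.symm
  have hsyl1 : Nat.card (Sylow 13 G) ≡ 1 [MOD 13] := card_sylow_modEq_one 13 G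
  have hsyl2 : Nat.card (Sylow 13 G) =
      (Subgroup.normalizer ((P : Subgroup G) : Set G)).index := P.card_eq_index_normalizer
  have hG := (Subgroup.normalizer ((P : Subgroup G) : Set G)).card_mul_index
  rw [hcard, hN, ← hsyl2] at hG
  have hd12 : Nat.card φ.range ≤ 12 := Nat.le_of_dvd (by norm_num) hrange
  have hdpos : 0 < Nat.card φ.range := Nat.card_pos
  unfold Nat.ModEq at hsyl1
  generalize Nat.card φ.range = d at *
  generalize Nat.card (Sylow 13 G) = c at *
  interval_cases d <;> omega

end Cfsg.Agent.S0710
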