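import Mathlib
import Cfsg.Statements.S0711
-- import your own Cfsg.Agent.* helpers here

set_option autoImplicit false
open Cfsg

namespace Cfsg.Agent.S0711

open Equiv Equiv.Perm MulAction

theorem inv_apply_self' {α : Type*} (f : Equiv.Perm α) (x : α) : f⁻¹ (f x) = x := by simp

theorem exists_fix_map {α : Type*} [Fintype α] [DecidableEq α] (G : Subgroup (Equiv.Perm α))
    {k : ℕ} (hkn : k ≤ Fintype.card α) (hG : MulAction.IsMultiplyPretransitive G α k)
    (S : Finset α) (hS : S.card + 1 ≤ k) {a b : α} (ha : a ∉ S) (hb : b ∉ S) :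
    ∃ h : Equiv.Perm α, h ∈ G ∧ (∀ s ∈ S, h s = s) ∧ h a = b := by
  have hG' : MulAction.IsMultiplyPretransitive G α (S.card + 1) :=
    MulAction.isMultiplyPretransitive_of_le hS (by rw [Nat.card_eq_fintype_card]; exact hkn)
  have h1 : MulAction.IsMultiplyPretransitive (fixingSubgroup G (S : Set α))
      (SubMulAction.ofFixingSubgroup G (S : Set α)) 1 :=
    SubMulAction.ofFixingSubgroup.isMultiplyPretransitive G (S : Set α)
      (by rw [Set.ncard_coe_finset])
  rw [MulAction.is_one_pretransitive_iff] at h1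
  have ha' : a ∈ SubMulAction.ofFixingSubgroup G (S : Set α) := by
    rw [SubMulAction.mem_ofFixingSubgroup_iff]; simpa using ha
  have hb' : b ∈ SubMulAction.ofFixingSubgroup G (S : Set α) := by
    rw [SubMulAction.mem_ofFixingSubgroup_iff]; simpa using hb
  obtain ⟨h, hh⟩ := MulAction.exists_smul_eq (fixingSubgroup G (S : Set α))
    (⟨a, ha'⟩ : SubMulAction.ofFixingSubgroup G (S : Set α)) ⟨b, hb'⟩
  refine ⟨(h : G), (h : G).2, ?_, ?_⟩
  · intro s hs
    have := h.2
    rw [mem_fixingSubgroup_iff] at this
    exact this s (by simpa using hs)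
  · have := congrArg Subtype.val hh
    exact this

theorem card_support_comm_add_le {α : Type*} [Fintype α] [DecidableEq α]
    (g h : Equiv.Perm α) (A B : Finset α)
    (hA : A ⊆ g.support) (hB : B ⊆ g.support)
    (hA' : ∀ x ∈ A, h x = x ∧ h (g x) = g x) (hB' : ∀ y ∈ B, h⁻¹ y ∈ g.support) :
    (g⁻¹ * (h⁻¹ * g * h)).support.card + A.card + B.card ≤ 2 * g.support.card := by
  have hsub : (g⁻¹ * (h⁻¹ * g * h)).support ⊆
      (g.support \ A) ∪ (g.support \ B).image (fun y => h⁻¹ y) := by
    intro x hx
    rw [Equiv.Perm.mem_support] at hx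
    simp only [Equiv.Perm.mul_apply] at hx
    rw [Finset.mem_union]
    by_cases hxA : x ∈ g.support \ A
    · exact Or.inl hxA
    · right
      rw [Finset.mem_sdiff, not_and_or, not_not] at hxA
      rcases hxA with hxΔ | hxA
      · rw [Equiv.Perm.notMem_support] at hxΔ
        have hhx : h x ∈ g.support := by
          by_contra hcon
          rw [Equiv.Perm.notMem_support] at hcon
          apply hx
          rw [hcon, inv_apply_self', Equiv.Perm.inv_eq_iff_eq, hxΔ]
        rw [Finset.mem_image]
        refine ⟨h x, ?_, by simp⟩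
        rw [Finset.mem_sdiff]
        refine ⟨hhx, fun hB'' => ?_⟩
        have := hB' _ hB''
        rw [inv_apply_self', Equiv.Perm.mem_support] at this
        exact this hxΔ
      · exfalso
        apply hx
        obtain ⟨h1, h2⟩ := hA' x hxA
        rw [h1, Equiv.Perm.inv_eq_iff_eq, Equiv.Perm.inv_eq_iff_eq, h2]
  have h1 := Finset.card_le_card hsub
  have h2 := Finset.card_union_le (g.support \ A) ((g.support \ B).image (fun y => h⁻¹ y))
  have h3 := Finset.card_image_le (s := g.support \ B) (f := fun y => h⁻¹ y)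
  have h4 := Finset.card_sdiff_of_subset hA
  have h5 := Finset.card_sdiff_of_subset hB
  have h6 := Finset.card_le_card hA
  have h7 := Finset.card_le_card hB
  omega

theorem exists_chain {α : Type*} [Fintype α] [DecidableEq α] (g : Equiv.Perm α) (j : ℕ)
    (hj : j ≤ g.support.card) :
    ∃ T : Finset α, T ⊆ g.support ∧ T.card = j ∧ (T.filter (fun x => g x ∉ T)).card ≤ 1 := by
  induction j with
  | zero => exact ⟨∅, by simp, by simp, by simp⟩
  | succ j ih =>
    obtain ⟨T, hT, hTc, hTb⟩ := ih (by omega)
    have key : ∃ y ∈ g.support, y ∉ T ∧ ∀ x ∈ T, g x ∉ T → g x = y := by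
      rcases Nat.lt_or_ge (T.filter (fun x => g x ∉ T)).card 1 with h0 | h1
      · have h0' : T.filter (fun x => g x ∉ T) = ∅ := by
          rw [← Finset.card_eq_zero]; omega
        obtain ⟨y, hy, hyT⟩ := Finset.exists_mem_notMem_of_card_lt_card
          (s := T) (t := g.support) (by omega)
        refine ⟨y, hy, hyT, fun x hx hgx => ?_⟩
        have : x ∈ T.filter (fun x => g x ∉ T) := by
          rw [Finset.mem_filter]; exact ⟨hx, hgx⟩
        rw [h0'] at this
        simp at this
      · have h1' : (T.filter (fun x => g x ∉ T)).card = 1 := by omega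
        obtain ⟨x₀, hx₀⟩ := Finset.card_eq_one.mp h1'
        have hx₀' : x₀ ∈ T.filter (fun x => g x ∉ T) := by rw [hx₀]; simp
        rw [Finset.mem_filter] at hx₀'
        refine ⟨g x₀, ?_, hx₀'.2, fun x hx hgx => ?_⟩
        · rw [Equiv.Perm.apply_mem_support]; exact hT hx₀'.1
        · have : x ∈ T.filter (fun x => g x ∉ T) := by
            rw [Finset.mem_filter]; exact ⟨hx, hgx⟩
          rw [hx₀, Finset.mem_singleton] at this
          rw [this]
    obtain ⟨y, hy, hyT, hyb⟩ := key
    refine ⟨insert y T, ?_, ?_, ?_⟩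
    · intro x hx
      rw [Finset.mem_insert] at hx
      rcases hx with rfl | hx
      · exact hy
      · exact hT hx
    · rw [Finset.card_insert_of_notMem hyT, hTc]
    · rw [Finset.card_le_one]
      have aux : ∀ a ∈ (insert y T).filter (fun x => g x ∉ insert y T), a = y := by
        intro a ha
        rw [Finset.mem_filter, Finset.mem_insert] at ha
        obtain ⟨ha1, ha2⟩ := ha
        rcases ha1 with rfl | ha1
        · rfl
        · exfalso
          apply ha2
          rw [Finset.mem_insert]
          by_cases hga : g a ∈ T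
          · exact Or.inr hga
          · exact Or.inl (hyb a ha1 hga)
      intro a ha b hb
      rw [aux a ha, aux b hb]

theorem comm_of_eq_one {α : Type*} (g h : Equiv.Perm α) (hc : g⁻¹ * (h⁻¹ * g * h) = 1) (x : α) :
    g (h x) = h (g x) := by
  have h1 : g = h⁻¹ * g * h := inv_mul_eq_one.mp hc
  have h2 : h * g = g * h := by
    calc h * g = h * (h⁻¹ * g * h) := by rw [← h1]
      _ = g * h := by group
  have := congrArg (fun f : Equiv.Perm α => f x) h2
  simp only [Equiv.Perm.mul_apply] at this
  exact this.symm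

/-- recipe Z -/
theorem recipeZ {α : Type*} [Fintype α] [DecidableEq α] (G : Subgroup (Equiv.Perm α))
    {k : ℕ} (hkn : k ≤ Fintype.card α) (hG : MulAction.IsMultiplyPretransitive G α k)
    (g : Equiv.Perm α) (hg : g ∈ G) (T : Finset α) (hT : T ⊆ g.support) (hTk : T.card + 1 ≤ k)
    {d z : α} (hd : d ∈ g.support) (hdT : d ∉ T) (hz : z ∉ g.support) :
    ∃ c : Equiv.Perm α, c ∈ G ∧ c ≠ 1 ∧
      c.support.card + 2 * T.card ≤ 2 * g.support.card + (T.filter (fun x => g x ∉ T)).card := by
  have hzT : z ∉ T := fun h => hz (hT h)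
  obtain ⟨h, hhG, hhT, hhd⟩ := exists_fix_map G hkn hG T hTk hdT hzT
  refine ⟨g⁻¹ * (h⁻¹ * g * h), ?_, ?_, ?_⟩
  · exact G.mul_mem (G.inv_mem hg) (G.mul_mem (G.mul_mem (G.inv_mem hhG) hg) hhG)
  · intro hc
    have h1 := comm_of_eq_one g h hc d
    rw [hhd, Equiv.Perm.notMem_support.mp hz, ← hhd] at h1
    have h2 := h.injective h1
    rw [Equiv.Perm.mem_support] at hd
    exact hd h2.symm
  · have := card_support_comm_add_le g h (T.filter (fun x => g x ∈ T)) T
      ((Finset.filter_subset _ _).trans hT) hT ?_ ?_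
    · have hcard := Finset.card_filter_add_card_filter_not (s := T) (fun x => g x ∈ T)
      omega
    · intro x hx
      rw [Finset.mem_filter] at hx
      exact ⟨hhT x hx.1, hhT _ hx.2⟩
    · intro y hy
      rw [Equiv.Perm.inv_eq_iff_eq.mpr (hhT y hy).symm]
      exact hT hy

/-- recipe D -/
theorem recipeD {α : Type*} [Fintype α] [DecidableEq α] (G : Subgroup (Equiv.Perm α))
    {k : ℕ} (hkn : k ≤ Fintype.card α) (hG : MulAction.IsMultiplyPretransitive G α k)
    (g : Equiv.Perm α) (hg : g ∈ G) (T : Finset α) (hT : T ⊆ g.support) (hTk : T.card + 1 ≤ k)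
    {x₀ d : α} (hx₀ : x₀ ∈ T) (hgx₀ : g x₀ ∉ T) (hd : d ∈ g.support) (hdT : d ∉ T)
    (hne : d ≠ g x₀) :
    ∃ c : Equiv.Perm α, c ∈ G ∧ c ≠ 1 ∧
      c.support.card + 2 * T.card + 1 ≤
        2 * g.support.card + (T.filter (fun x => g x ∉ T)).card := by
  obtain ⟨h, hhG, hhT, hhd⟩ := exists_fix_map G hkn hG T hTk hgx₀ hdT
  refine ⟨g⁻¹ * (h⁻¹ * g * h), ?_, ?_, ?_⟩
  · exact G.mul_mem (G.inv_mem hg) (G.mul_mem (G.mul_mem (G.inv_mem hhG) hg) hhG)
  · intro hc
    have h1 := comm_of_eq_one g h hc x₀
    rw [hhT x₀ hx₀, hhd] at h1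
    exact hne h1.symm
  · have := card_support_comm_add_le g h (T.filter (fun x => g x ∈ T)) (insert d T)
      ((Finset.filter_subset _ _).trans hT) ?_ ?_ ?_
    · have hcard := Finset.card_filter_add_card_filter_not (s := T) (fun x => g x ∈ T)
      rw [Finset.card_insert_of_notMem hdT] at this
      omega
    · intro y hy
      rw [Finset.mem_insert] at hy
      rcases hy with rfl | hy
      · exact hd
      · exact hT hy
    · intro x hx
      rw [Finset.mem_filter] at hx
      exact ⟨hhT x hx.1, hhT _ hx.2⟩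
    · intro y hy
      rw [Finset.mem_insert] at hy
      rcases hy with rfl | hy
      · rw [Equiv.Perm.inv_eq_iff_eq.mpr hhd.symm, Equiv.Perm.apply_mem_support]
        exact hT hx₀
      · rw [Equiv.Perm.inv_eq_iff_eq.mpr (hhT y hy).symm]
        exact hT hy

theorem step {α : Type*} [Fintype α] [DecidableEq α] (G : Subgroup (Equiv.Perm α))
    {k : ℕ} (hk : 3 ≤ k) (hkn : k < Fintype.card α)
    (hG : MulAction.IsMultiplyPretransitive G α k)
    (g : Equiv.Perm α) (hg : g ∈ G) (hsupp : g.support.card < 2 * k - 2)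
    (h4 : 4 ≤ g.support.card) :
    ∃ c : Equiv.Perm α, c ∈ G ∧ c ≠ 1 ∧ c.support.card < g.support.card := by
  rcases Nat.lt_or_ge (Fintype.card α - k + 1) g.support.card with hA | hB
  · -- case A
    obtain ⟨S, -, hS⟩ := Finset.exists_subset_card_eq (s := (Finset.univ : Finset α))
      (n := k - 1) (by rw [Finset.card_univ]; omega)
    have hSc : (Sᶜ).card = Fintype.card α - (k - 1) := by rw [Finset.card_compl, hS]
    obtain ⟨a, ha, b, hb, hab⟩ := Finset.one_lt_card.mp (show 1 < (Sᶜ).card by omega)
    rw [Finset.mem_compl] at ha hb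
    obtain ⟨h, hhG, hhT, hhd⟩ := exists_fix_map G hkn.le hG S (by omega) ha hb
    refine ⟨h, hhG, ?_, ?_⟩
    · intro h1
      rw [h1] at hhd
      exact hab hhd
    · have hsub : h.support ⊆ Sᶜ := by
        intro x hx
        rw [Finset.mem_compl]
        intro hxS
        rw [Equiv.Perm.mem_support] at hx
        exact hx (hhT x hxS)
      have := Finset.card_le_card hsub
      omega
  · -- case B
    obtain ⟨z, -, hz⟩ := Finset.exists_mem_notMem_of_card_lt_card
      (s := g.support) (t := (Finset.univ : Finset α)) (by rw [Finset.card_univ]; omega)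
    rcases Nat.lt_or_ge k g.support.card with hmk | hmk
    · -- m ≥ k + 1
      obtain ⟨T, hT, hTc, hTb⟩ := exists_chain g (k - 1) (by omega)
      rcases Nat.lt_or_ge (T.filter (fun x => g x ∉ T)).card 1 with h0 | h1
      · obtain ⟨d, hd, hdT⟩ := Finset.exists_mem_notMem_of_card_lt_card
          (s := T) (t := g.support) (by omega)
        obtain ⟨c, hcG, hc1, hcc⟩ := recipeZ G hkn.le hG g hg T hT (by omega) hd hdT hz
        exact ⟨c, hcG, hc1, by omega⟩
      · have h1' : (T.filter (fun x => g x ∉ T)).card = 1 := by omega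
        obtain ⟨x₀, hx₀⟩ := Finset.card_eq_one.mp h1'
        have hx₀' : x₀ ∈ T.filter (fun x => g x ∉ T) := by rw [hx₀]; simp
        rw [Finset.mem_filter] at hx₀'
        have hcard : 1 < (g.support \ T).card := by
          rw [Finset.card_sdiff_of_subset hT]; omega
        obtain ⟨d, hd, hdne⟩ := Finset.exists_mem_ne hcard (g x₀)
        rw [Finset.mem_sdiff] at hd
        obtain ⟨c, hcG, hc1, hcc⟩ := recipeD G hkn.le hG g hg T hT (by omega) hx₀'.1 hx₀'.2
          hd.1 hd.2 hdne
        exact ⟨c, hcG, hc1, by omega⟩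
    · -- m ≤ k
      obtain ⟨d, hd⟩ : ∃ d, d ∈ g.support := by
        rw [← Finset.Nonempty, ← Finset.card_pos]; omega
      have hTc : (g.support.erase d).card = g.support.card - 1 := Finset.card_erase_of_mem hd
      have hb : ((g.support.erase d).filter (fun x => g x ∉ g.support.erase d)).card ≤ 1 := by
        rw [Finset.card_le_one]
        have aux : ∀ a ∈ (g.support.erase d).filter (fun x => g x ∉ g.support.erase d),
            a = g⁻¹ d := by
          intro a ha
          rw [Finset.mem_filter, Finset.mem_erase, Finset.mem_erase] at ha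
          obtain ⟨⟨ha1, ha2⟩, ha3⟩ := ha
          rw [not_and_or, not_not] at ha3
          rcases ha3 with ha3 | ha3
          · rw [← ha3, inv_apply_self']
          · exact absurd (Equiv.Perm.apply_mem_support.mpr ha2) ha3
        intro a ha b hb
        rw [aux a ha, aux b hb]
      obtain ⟨c, hcG, hc1, hcc⟩ := recipeZ G hkn.le hG g hg (g.support.erase d)
        (Finset.erase_subset _ _) (by omega) hd (Finset.notMem_erase _ _) hz
      exact ⟨c, hcG, hc1, by omega⟩

theorem first_part {α : Type*} [Fintype α] [DecidableEq α] (G : Subgroup (Equiv.Perm α))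
    {k : ℕ} (hk : 3 ≤ k) (hkn : k < Fintype.card α)
    (hG : MulAction.IsMultiplyPretransitive G α k) (m : ℕ) :
    ∀ g : Equiv.Perm α, g ∈ G → g ≠ 1 → g.support.card < 2 * k - 2 → g.support.card = m →
      ∃ h : Equiv.Perm α, h ∈ G ∧ h ≠ 1 ∧ h.support.card ≤ 3 := by
  induction m using Nat.strong_induction_on with
  | _ m ih =>
    intro g hg hg1 hsupp hm
    rcases Nat.lt_or_ge g.support.card 4 with h3 | h4
    · exact ⟨g, hg, hg1, by omega⟩
    · obtain ⟨c, hcG, hc1, hcc⟩ := step G hk hkn hG g hg hsupp h4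
      exact ih c.support.card (by omega) c hcG hc1 (by omega) rfl

/-- A `k`-transitive permutation group (`k ≥ 3`) with a non-identity element of support smaller than `2k - 2` contains a non-identity element of support at most 3, and therefore contains the alternating group. -/
theorem result {α : Type*} [Fintype α] [DecidableEq α] (G : Subgroup (Equiv.Perm α)) {k : ℕ} (hk : 3 ≤ k) (hkn : k ≤ Fintype.card α) (hG : MulAction.IsMultiplyPretransitive G α k) (g : Equiv.Perm α) (hg : g ∈ G) (hg1 : g ≠ 1) (hsupp : g.support.card < 2 * k - 2) : (∃ h : Equiv.Perm α, h ∈ G ∧ h ≠ 1 ∧ h.support.card ≤ 3) ∧ alternatingGroup α ≤ G := by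
  classical
  have hfirst : ∃ h : Equiv.Perm α, h ∈ G ∧ h ≠ 1 ∧ h.support.card ≤ 3 := by
    rcases Nat.lt_or_ge k (Fintype.card α) with hlt | hge
    · exact first_part G hk hlt hG _ g hg hg1 hsupp rfl
    · have hkeq : k = Fintype.card α := le_antisymm hkn hge
      have hG' : MulAction.IsMultiplyPretransitive G α (Nat.card α - 1) :=
        MulAction.isMultiplyPretransitive_of_le (n := k)
          (by rw [Nat.card_eq_fintype_card]; omega) (by rw [Nat.card_eq_fintype_card]; exact hkn)
      have htop := Equiv.Perm.eq_top_of_isMultiplyPretransitive hG'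
      obtain ⟨a, -, b, -, hab⟩ := Finset.one_lt_card.mp
        (show 1 < (Finset.univ : Finset α).card by rw [Finset.card_univ]; omega)
      refine ⟨Equiv.swap a b, by rw [htop]; trivial, ?_, ?_⟩
      · intro h1
        have := congrArg (fun f : Equiv.Perm α => f a) h1
        simp at this
        exact hab this.symm
      · rw [Equiv.Perm.card_support_swap hab]; omega
  refine ⟨hfirst, ?_⟩
  obtain ⟨h, hhG, hh1, hh3⟩ := hfirst
  have h2t : MulAction.IsMultiplyPretransitive G α 2 :=
    MulAction.isMultiplyPretransitive_of_le (n := k) (by omega)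
      (by rw [Nat.card_eq_fintype_card]; exact hkn)
  have hprim : MulAction.IsPreprimitive G α := MulAction.isPreprimitive_of_is_two_pretransitive h2t
  have h0 : h.support.card ≠ 0 := by
    rw [Ne, Equiv.Perm.card_support_eq_zero]; exact hh1
  have h1 : h.support.card ≠ 1 := Equiv.Perm.card_support_ne_one h
  rcases (show h.support.card = 2 ∨ h.support.card = 3 by omega) with h2 | h3
  · rw [Equiv.Perm.card_support_eq_two] at h2
    have := Equiv.Perm.subgroup_eq_top_of_isPreprimitive_of_isSwap_mem hprim h h2 hhG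
    rw [this]
    exact le_top
  · rw [card_support_eq_three_iff] at h3
    exact Equiv.Perm.alternatingGroup_le_of_isPreprimitive_of_isThreeCycle_mem hprim h3 hhG

end Cfsg.Agent.S0711
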