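import Mathlib
import Cfsg.Statements.S0714
-- import your own Cfsg.Agent.* helpers here

set_option autoImplicit false
open Cfsg

namespace Cfsg.Agent.S0714

open Equiv

/-- invariance under precomposition with even permutations -/
theorem comp_mem {α : Type*} [Fintype α] [DecidableEq α] {K : Type*} [Field K]
    (W : Subrepresentation (Cfsg.permRep K (alternatingGroup α) α)) (π : Equiv.Perm α)
    (hπ : π ∈ alternatingGroup α) (f : α → K) (hf : f ∈ W.toSubmodule) :
    (fun x => f (π x)) ∈ W.toSubmodule := by
  have h := W.apply_mem_toSubmodule (⟨π, hπ⟩ : alternatingGroup α)⁻¹ hf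
  have h2 : (Cfsg.permRep K (alternatingGroup α) α (⟨π, hπ⟩ : alternatingGroup α)⁻¹) f =
      fun x => f (π x) := by
    funext x
    show f (((⟨π, hπ⟩ : alternatingGroup α)⁻¹)⁻¹ • x) = f (π x)
    rw [inv_inv]
    rfl
  rw [h2] at h
  exact h

theorem threeCycle_mem {α : Type*} [Fintype α] [DecidableEq α] {a b c : α} (hab : a ≠ b)
    (hbc : b ≠ c) : Equiv.swap a b * Equiv.swap b c ∈ alternatingGroup α := by
  rw [Equiv.Perm.mem_alternatingGroup, Equiv.Perm.sign_mul, Equiv.Perm.sign_swap hab,
    Equiv.Perm.sign_swap hbc]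
  rfl

/-- from a non-constant vector we get a difference of two basis vectors -/
theorem exists_single_sub_single_mem {α : Type*} [Fintype α] [DecidableEq α]
    (hα : 5 ≤ Fintype.card α) {K : Type*} [Field K]
    (W : Subrepresentation (Cfsg.permRep K (alternatingGroup α) α)) (f : α → K)
    (hf : f ∈ W.toSubmodule) (a b : α) (hfab : f a ≠ f b) :
    ∃ i j : α, i ≠ j ∧ (Pi.single i (1 : K) - Pi.single j (1 : K) : α → K) ∈ W.toSubmodule := by
  have hab : a ≠ b := fun h => hfab (by rw [h])
  -- pick c, d, e
  have hex : ∃ c d e : α, c ≠ a ∧ c ≠ b ∧ d ≠ a ∧ d ≠ b ∧ d ≠ c ∧ e ≠ a ∧ e ≠ b ∧ e ≠ c ∧ e ≠ d := by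
    have h1 : ({a, b} : Finset α).card < Fintype.card α :=
      lt_of_le_of_lt (Finset.card_le_two) (by omega)
    obtain ⟨c, hc⟩ := Finset.exists_mem_notMem_of_card_lt_card
      (s := ({a, b} : Finset α)) (t := Finset.univ) (by rw [Finset.card_univ]; exact h1)
    have h2 : ({a, b, c} : Finset α).card < Fintype.card α :=
      lt_of_le_of_lt (Finset.card_le_three) (by omega)
    obtain ⟨d, hd⟩ := Finset.exists_mem_notMem_of_card_lt_card
      (s := ({a, b, c} : Finset α)) (t := Finset.univ) (by rw [Finset.card_univ]; exact h2)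
    have h3 : ({a, b, c, d} : Finset α).card < Fintype.card α :=
      lt_of_le_of_lt (Finset.card_le_four) (by omega)
    obtain ⟨e, he⟩ := Finset.exists_mem_notMem_of_card_lt_card
      (s := ({a, b, c, d} : Finset α)) (t := Finset.univ) (by rw [Finset.card_univ]; exact h3)
    simp only [Finset.mem_insert, Finset.mem_singleton, not_or, Finset.mem_univ, true_and]
      at hc hd he
    exact ⟨c, d, e, hc.1, hc.2, hd.1, hd.2.1, hd.2.2, he.1, he.2.1, he.2.2.1, he.2.2.2⟩
  obtain ⟨c, d, e, hca, hcb, hda, hdb, hdc, hea, heb, hec, hed⟩ := hex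
  set π : Equiv.Perm α := Equiv.swap a b * Equiv.swap b c with hπ
  have hπm : π ∈ alternatingGroup α := threeCycle_mem hab (Ne.symm hcb)
  set u : α → K := f - fun x => f (π x) with hu
  have huM : u ∈ W.toSubmodule := W.toSubmodule.sub_mem hf (comp_mem W π hπm f hf)
  have hπa : π a = b := by
    rw [hπ, Equiv.Perm.mul_apply, Equiv.swap_apply_of_ne_of_ne hab (Ne.symm hca),
      Equiv.swap_apply_left]
  have hπfix : ∀ x, x ≠ a → x ≠ b → x ≠ c → π x = x := by
    intro x hxa hxb hxc
    rw [hπ, Equiv.Perm.mul_apply, Equiv.swap_apply_of_ne_of_ne hxb hxc,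
      Equiv.swap_apply_of_ne_of_ne hxa hxb]
  have hua : u a = f a - f b := by
    rw [hu]; simp only [Pi.sub_apply]; rw [hπa]
  have hu0 : ∀ x, x ≠ a → x ≠ b → x ≠ c → u x = 0 := by
    intro x hxa hxb hxc
    rw [hu]; simp only [Pi.sub_apply]; rw [hπfix x hxa hxb hxc, sub_self]
  set π' : Equiv.Perm α := Equiv.swap a d * Equiv.swap d e with hπ'
  have hπ'm : π' ∈ alternatingGroup α := threeCycle_mem (Ne.symm hda) (Ne.symm hed)
  set v : α → K := u - fun x => u (π' x) with hv
  have hvM : v ∈ W.toSubmodule := W.toSubmodule.sub_mem huM (comp_mem W π' hπ'm u huM)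
  have hπ'a : π' a = d := by
    rw [hπ', Equiv.Perm.mul_apply, Equiv.swap_apply_of_ne_of_ne (Ne.symm hda) (Ne.symm hea),
      Equiv.swap_apply_left]
  have hπ'd : π' d = e := by
    rw [hπ', Equiv.Perm.mul_apply, Equiv.swap_apply_left,
      Equiv.swap_apply_of_ne_of_ne hea hed]
  have hπ'e : π' e = a := by
    rw [hπ', Equiv.Perm.mul_apply, Equiv.swap_apply_right, Equiv.swap_apply_right]
  have hπ'fix : ∀ x, x ≠ a → x ≠ d → x ≠ e → π' x = x := by
    intro x hxa hxd hxe
    rw [hπ', Equiv.Perm.mul_apply, Equiv.swap_apply_of_ne_of_ne hxd hxe,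
      Equiv.swap_apply_of_ne_of_ne hxa hxd]
  have hveq : v = (f a - f b) • (Pi.single a (1 : K) - Pi.single e (1 : K) : α → K) := by
    funext x
    simp only [hv, Pi.sub_apply, Pi.smul_apply, smul_eq_mul]
    by_cases hxa : x = a
    · subst hxa
      rw [hπ'a, hu0 d hda hdb hdc, hua]
      simp [Ne.symm hea]
    by_cases hxe : x = e
    · subst hxe
      rw [hπ'e, hu0 x hea heb hec, hua]
      simp [hea]
    by_cases hxd : x = d
    · subst hxd
      rw [hπ'd, hu0 x hda hdb hdc, hu0 e hea heb hec]
      simp [hda, hed.symm]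
    · rw [hπ'fix x hxa hxd hxe]
      simp [hxa, hxe]
  have hne : f a - f b ≠ 0 := sub_ne_zero.mpr hfab
  refine ⟨a, e, Ne.symm hea, ?_⟩
  have h5 : (f a - f b)⁻¹ • v ∈ W.toSubmodule := W.toSubmodule.smul_mem _ hvM
  rw [hveq, smul_smul, inv_mul_cancel₀ hne, one_smul] at h5
  exact h5

theorem all_single_sub_single_mem {α : Type*} [Fintype α] [DecidableEq α]
    (hα : 5 ≤ Fintype.card α) {K : Type*} [Field K]
    (W : Subrepresentation (Cfsg.permRep K (alternatingGroup α) α)) (i j : α) (hij : i ≠ j)
    (h : (Pi.single i (1 : K) - Pi.single j (1 : K) : α → K) ∈ W.toSubmodule) :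
    ∀ i' j' : α, i' ≠ j' →
      (Pi.single i' (1 : K) - Pi.single j' (1 : K) : α → K) ∈ W.toSubmodule := by
  intro i' j' hij'
  have h1 := alternatingGroup.isMultiplyPretransitive α
  have h2 : MulAction.IsMultiplyPretransitive (alternatingGroup α) α 2 := by
    apply MulAction.isMultiplyPretransitive_of_le (n := Nat.card α - 2)
    · rw [Nat.card_eq_fintype_card]; omega
    · omega
  obtain ⟨g, hgi, hgj⟩ := MulAction.is_two_pretransitive_iff.mp h2 hij' hij
  have h3 := comp_mem W g.1 g.2 _ h
  have h4 : (fun x => (Pi.single i (1 : K) - Pi.single j (1 : K) : α → K) ((g : Equiv.Perm α) x))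
      = (Pi.single i' (1 : K) - Pi.single j' (1 : K) : α → K) := by
    funext x
    have hgi' : (g : Equiv.Perm α) i' = i := hgi
    have hgj' : (g : Equiv.Perm α) j' = j := hgj
    simp only [Pi.sub_apply, Pi.single_apply]
    have e1 : ((g : Equiv.Perm α) x = i) ↔ x = i' := by
      rw [← hgi']; exact (g : Equiv.Perm α).injective.eq_iff
    have e2 : ((g : Equiv.Perm α) x = j) ↔ x = j' := by
      rw [← hgj']; exact (g : Equiv.Perm α).injective.eq_iff
    simp only [e1, e2]
  rw [h4] at h3
  exact h3

theorem sumZero_le {α : Type*} [Fintype α] [DecidableEq α] {K : Type*} [Field K]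
    (M : Submodule K (α → K))
    (hall : ∀ i' j' : α, i' ≠ j' →
      (Pi.single i' (1 : K) - Pi.single j' (1 : K) : α → K) ∈ M)
    (f : α → K) (hf : ∑ x, f x = 0) : f ∈ M := by
  rcases isEmpty_or_nonempty α with hem | ⟨⟨x₀⟩⟩
  · have : f = 0 := by funext x; exact (hem.false x).elim
    rw [this]; exact M.zero_mem
  have hdecomp : f = ∑ x, f x • (Pi.single x (1 : K) - Pi.single x₀ (1 : K) : α → K) := by
    funext y
    simp only [Finset.sum_apply, Pi.smul_apply, Pi.sub_apply, smul_eq_mul, mul_sub,
      Finset.sum_sub_distrib, Pi.single_apply, mul_ite, mul_one, mul_zero]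
    rw [Finset.sum_ite_eq]
    simp only [Finset.mem_univ, if_true]
    by_cases hy : y = x₀
    · subst hy
      simp [hf]
    · simp [hy]
  rw [hdecomp]
  apply M.sum_mem
  intro x _
  by_cases hx : x = x₀
  · rw [hx, sub_self, smul_zero]; exact M.zero_mem
  · exact M.smul_mem _ (hall x x₀ hx)

/-- Over any field, the permutation module of the alternating group of degree at least 5 has exactly four invariant subspaces: zero, the constant functions, the functions with coordinate sum zero, and everything. -/
theorem result {α : Type*} [Fintype α] [DecidableEq α] (hα : 5 ≤ Fintype.card α) {K : Type*} [Field K] (W : Subrepresentation (Cfsg.permRep K (alternatingGroup α) α)) : W.toSubmodule = ⊥ ∨ W = Cfsg.permConstants K (alternatingGroup α) α ∨ W = Cfsg.permSumZero K (alternatingGroup α) α ∨ W.toSubmodule = ⊤ := by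
  classical
  set M := W.toSubmodule with hM
  have hne : Nonempty α := by
    rw [← Fintype.card_pos_iff]; omega
  obtain ⟨x₀⟩ := hne
  by_cases hconst : ∀ f ∈ M, ∀ a b : α, f a = f b
  · by_cases hbot : M = ⊥
    · left; exact hbot
    · right; left
      apply Subrepresentation.toSubmodule_injective
      show M = Submodule.span K {fun _ => (1 : K)}
      apply le_antisymm
      · intro f hf
        rw [Submodule.mem_span_singleton]
        refine ⟨f x₀, ?_⟩
        funext y
        simp only [Pi.smul_apply, smul_eq_mul, mul_one]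
        exact hconst f hf x₀ y
      · rw [Submodule.span_le, Set.singleton_subset_iff]
        obtain ⟨f, hf, hf0⟩ := Submodule.exists_mem_ne_zero_of_ne_bot hbot
        have hc : f x₀ ≠ 0 := by
          intro h0
          apply hf0
          funext y
          rw [← hconst f hf x₀ y, h0]
          rfl
        have h1 : (fun _ => (1 : K)) = (f x₀)⁻¹ • f := by
          funext y
          simp only [Pi.smul_apply, smul_eq_mul]
          rw [← hconst f hf x₀ y, inv_mul_cancel₀ hc]
        rw [SetLike.mem_coe, h1]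
        exact M.smul_mem _ hf
  · push Not at hconst
    obtain ⟨f, hf, a, b, hab⟩ := hconst
    obtain ⟨i, j, hij, hd⟩ := exists_single_sub_single_mem hα W f hf a b hab
    have hall := all_single_sub_single_mem hα W i j hij hd
    have hS : ∀ h : α → K, ∑ x, h x = 0 → h ∈ M := fun h hh => sumZero_le M hall h hh
    by_cases htop : ∀ f ∈ M, ∑ x, f x = 0
    · right; right; left
      apply Subrepresentation.toSubmodule_injective
      apply le_antisymm
      · intro h hh
        exact htop h hh
      · intro h hh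
        exact hS h hh
    · right; right; right
      push Not at htop
      obtain ⟨f₁, hf₁, hs⟩ := htop
      rw [eq_top_iff]
      intro h _
      set c : K := (∑ x, h x) / (∑ x, f₁ x) with hc
      have h1 : h - c • f₁ ∈ M := by
        apply hS
        simp only [Pi.sub_apply, Pi.smul_apply, smul_eq_mul, Finset.sum_sub_distrib,
          ← Finset.mul_sum]
        rw [hc, div_mul_cancel₀ _ hs, sub_self]
      have h2 : h = (h - c • f₁) + c • f₁ := by abel
      rw [h2]
      exact M.add_mem h1 (M.smul_mem _ hf₁)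

end Cfsg.Agent.S0714
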