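import Mathlib
import Cfsg.Agent.Lib.Helper22.PermSymm
import Cfsg.Agent.Lib.Helper18.PermCharOrbits
import Cfsg.Agent.S0715
import Cfsg.Statements.S0716
-- import your own Cfsg.Agent.* helpers here

set_option autoImplicit false
open Cfsg

namespace Cfsg.Agent.S0716

open Cfsg.Agent.Helper22.PermCent Cfsg.Agent.Helper24 Module
open scoped ComplexConjugate

section aux

variable {G : Type*} [Group G] [Fintype G] {Ω : Type*} [Fintype Ω] [MulAction G Ω]
  [MulAction.IsPretransitive G Ω]

/-- numerical data of the permutation character -/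
theorem exists_data [Fintype (IrrCharacter G)] (a : Ω) :
    ∃ (m deg : IrrCharacter G → ℕ) (triv : IrrCharacter G),
      (triv : G → ℂ) = (fun _ => 1) ∧ m triv = 1 ∧ deg triv = 1 ∧
      (∀ χ : IrrCharacter G,
        Cfsg.classInner (fun g : G => (Nat.card (MulAction.fixedBy Ω g) : ℂ)) (χ : G → ℂ)
        = m χ) ∧ (∀ χ : IrrCharacter G, (χ : G → ℂ) 1 = deg χ) ∧
      (∀ χ : IrrCharacter G, 0 < deg χ) ∧
      Nat.card (MulAction.orbitRel.Quotient (MulAction.stabilizer G a) Ω) =
        ∑ χ : IrrCharacter G, (m χ) ^ 2 ∧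
      Fintype.card Ω = ∑ χ : IrrCharacter G, m χ * deg χ := by
  classical
  have hπ : (fun g : G => (Nat.card (MulAction.fixedBy Ω g) : ℂ)) =
      (Cfsg.permRep ℂ G Ω).character := by
    funext g; rw [permRep_character]
  have hchar : Cfsg.IsCharacter G (fun g : G => (Nat.card (MulAction.fixedBy Ω g) : ℂ)) := by
    rw [hπ]; exact isCharacter_of_rep _
  obtain ⟨hnat, hdec⟩ := isCharacter_decomp hchar
  choose m hm using hnat
  have hdeg : ∀ χ : IrrCharacter G, ∃ n : ℕ, 0 < n ∧ (χ : G → ℂ) 1 = n := fun χ => irr_one_eq χ.2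
  choose deg hdegpos hdeg using hdeg
  let triv : IrrCharacter G := ⟨fun _ => 1, isIrrCharacter_of_degree_one isCharacter_one rfl⟩
  haveI : Nonempty Ω := ⟨a⟩
  have hmtriv : m triv = 1 := by
    have h1 := Cfsg.Agent.Helper18.inner_permChar_one (G := G) (X := Ω)
    have h2 := hm triv
    have h3 : (m triv : ℂ) = 1 := by rw [← h2]; exact h1
    exact_mod_cast h3
  have hdtriv : deg triv = 1 := by
    have h2 := hdeg triv
    have h3 : (deg triv : ℂ) = 1 := by rw [← h2]
    exact_mod_cast h3
  refine ⟨m, deg, triv, rfl, hmtriv, hdtriv, hm, hdeg, hdegpos, ?_, ?_⟩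
  · have h1 := Cfsg.Agent.Helper18.inner_permChar_self (G := G) (X := Ω) a
    have h2 := classInner_eq_sum_mul (isClassFunction_of_isCharacter hchar)
      (fun g : G => (Nat.card (MulAction.fixedBy Ω g) : ℂ))
    have h3 : (Nat.card (MulAction.orbitRel.Quotient (MulAction.stabilizer G a) Ω) : ℂ) =
        ((∑ χ, (m χ) ^ 2 : ℕ) : ℂ) := by
      rw [← h1]
      show Cfsg.classInner (fun g : G => (Nat.card (MulAction.fixedBy Ω g) : ℂ))
        (fun g : G => (Nat.card (MulAction.fixedBy Ω g) : ℂ)) = _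
      rw [h2]
      push_cast
      refine Finset.sum_congr rfl fun χ _ => ?_
      rw [hm, Complex.conj_natCast]; ring
    exact_mod_cast h3
  · have h1 := congrFun hdec 1
    simp only [Finset.sum_apply, Pi.smul_apply, smul_eq_mul] at h1
    have h2 : (Nat.card (MulAction.fixedBy Ω (1 : G)) : ℂ) = (Fintype.card Ω : ℂ) := by
      rw [MulAction.fixedBy_one_eq_univ, Nat.card_coe_set_eq, Set.ncard_univ, Nat.card_eq_fintype_card]
    rw [h2] at h1
    have h3 : (Fintype.card Ω : ℂ) = ((∑ χ, m χ * deg χ : ℕ) : ℂ) := by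
      rw [h1]
      push_cast
      refine Finset.sum_congr rfl fun χ _ => ?_
      rw [hm, hdeg]
    exact_mod_cast h3

omit [MulAction.IsPretransitive G Ω] in
/-- orbit sizes of the point stabilizer -/
theorem exists_orbit_data (a : Ω) (f : ℕ)
    (hdvd : ∀ b : Ω, b ≠ a → f ∣ Nat.card (MulAction.orbit (MulAction.stabilizer G a) b)) :
    ∃ (c : MulAction.orbitRel.Quotient (MulAction.stabilizer G a) Ω → ℕ)
      (q₀ : MulAction.orbitRel.Quotient (MulAction.stabilizer G a) Ω),
      c q₀ = 1 ∧ (∀ q, q ≠ q₀ → f ∣ c q ∧ 0 < c q) ∧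
      (∀ b : Ω, b ≠ a → (Quotient.mk'' b : MulAction.orbitRel.Quotient (MulAction.stabilizer G a) Ω)
        ≠ q₀ ∧ c (Quotient.mk'' b) = Nat.card (MulAction.orbit (MulAction.stabilizer G a) b)) ∧
      Fintype.card Ω = ∑ᶠ q, c q := by
  classical
  have horb_a : MulAction.orbit (MulAction.stabilizer G a) a = {a} := by
    ext z
    constructor
    · rintro ⟨h, rfl⟩
      exact MulAction.mem_stabilizer_iff.mp h.2
    · intro hz
      rw [Set.mem_singleton_iff] at hz
      rw [hz]
      exact MulAction.mem_orbit_self a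
  have hne : ∀ b : Ω, b ≠ a →
      (Quotient.mk'' b : MulAction.orbitRel.Quotient (MulAction.stabilizer G a) Ω) ≠
        Quotient.mk'' a := by
    intro b hb h
    have h1 : b ∈ MulAction.orbitRel.Quotient.orbit (Quotient.mk'' a :
        MulAction.orbitRel.Quotient (MulAction.stabilizer G a) Ω) :=
      MulAction.orbitRel.Quotient.mem_orbit.mpr h
    rw [MulAction.orbitRel.Quotient.orbit_mk, horb_a] at h1
    exact hb h1
  refine ⟨fun q => Nat.card q.orbit, Quotient.mk'' a, ?_, ?_, ?_, ?_⟩
  · show Nat.card (MulAction.orbit (MulAction.stabilizer G a) a) = 1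
    rw [horb_a]
    simp
  · intro q
    induction q using Quotient.inductionOn' with
    | h b =>
      intro hq
      have hb : b ≠ a := by
        rintro rfl
        exact hq rfl
      refine ⟨hdvd b hb, ?_⟩
      show 0 < Nat.card (MulAction.orbit (MulAction.stabilizer G a) b)
      haveI : Nonempty (MulAction.orbit (MulAction.stabilizer G a) b) :=
        ⟨⟨b, MulAction.mem_orbit_self b⟩⟩
      exact Nat.card_pos
  · intro b hb
    exact ⟨hne b hb, rfl⟩
  · have e := MulAction.selfEquivSigmaOrbits' (MulAction.stabilizer G a) Ω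
    haveI : Fintype (MulAction.orbitRel.Quotient (MulAction.stabilizer G a) Ω) :=
      Fintype.ofFinite _
    rw [finsum_eq_sum_of_fintype, ← Nat.card_eq_fintype_card, Nat.card_congr e, Nat.card_sigma]


/-- part (a) -/
theorem partA (a : Ω) (f : ℕ)
    (hf : ∀ χ : G → ℂ, Cfsg.IsIrrCharacter G χ → χ ≠ (fun _ => 1) →
      Cfsg.classInner (fun g : G => (Nat.card (MulAction.fixedBy Ω g) : ℂ)) χ ≠ 0 → χ 1 = f) :
    (∀ χ : G → ℂ, Cfsg.IsIrrCharacter G χ →
      Cfsg.classInner (fun g : G => (Nat.card (MulAction.fixedBy Ω g) : ℂ)) χ = 0 ∨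
      Cfsg.classInner (fun g : G => (Nat.card (MulAction.fixedBy Ω g) : ℂ)) χ = 1) ∧
    ∀ b : Ω, b ≠ a → Nat.card (MulAction.orbit (MulAction.stabilizer G a) b) = f := by
  classical
  letI := irrFintype (G := G)
  obtain ⟨m, deg, triv, htriv, hmtriv, hdtriv, hm, hdeg, hdegpos, hr, hn⟩ :=
    exists_data (G := G) (Ω := Ω) a
  have hdvd : ∀ b : Ω, b ≠ a → f ∣ Nat.card (MulAction.orbit (MulAction.stabilizer G a) b) :=
    fun b hb => Cfsg.Agent.S0715.result f
      (fun χ hχ hne h0 => ⟨1, by rw [hf χ hχ hne h0]; simp⟩) a b hb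
  obtain ⟨c, q₀, hc0, hcq, hcb, hnc⟩ := exists_orbit_data (G := G) a f hdvd
  haveI : Fintype (MulAction.orbitRel.Quotient (MulAction.stabilizer G a) Ω) :=
    Fintype.ofFinite _
  rw [finsum_eq_sum_of_fintype] at hnc
  -- degrees of the constituents
  have hmf : ∀ χ ∈ Finset.univ.erase triv, m χ * deg χ = m χ * f := by
    intro χ hχ
    by_cases h0 : m χ = 0
    · rw [h0, zero_mul, zero_mul]
    · have hne : (χ : G → ℂ) ≠ fun _ => 1 := by
        intro h
        exact (Finset.ne_of_mem_erase hχ) (Subtype.ext (h.trans htriv.symm))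
      have h1 := hf χ.1 χ.2 hne (by rw [hm]; exact_mod_cast h0)
      rw [hdeg] at h1
      have h2 : deg χ = f := by exact_mod_cast h1
      rw [h2]
  rw [← Finset.add_sum_erase _ _ (Finset.mem_univ triv), hmtriv, hdtriv,
    Finset.sum_congr rfl hmf, ← Finset.sum_mul] at hn
  rw [← Finset.add_sum_erase _ _ (Finset.mem_univ triv), hmtriv] at hr
  rw [← Finset.add_sum_erase _ _ (Finset.mem_univ q₀), hc0] at hnc
  have hQ : (Finset.univ.erase q₀).card + 1 =
      Nat.card (MulAction.orbitRel.Quotient (MulAction.stabilizer G a) Ω) := by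
    rw [Finset.card_erase_of_mem (Finset.mem_univ q₀), Finset.card_univ,
      Nat.card_eq_fintype_card]
    have : 0 < Fintype.card (MulAction.orbitRel.Quotient (MulAction.stabilizer G a) Ω) :=
      Fintype.card_pos_iff.mpr ⟨q₀⟩
    omega
  set s1 := ∑ χ ∈ Finset.univ.erase triv, m χ with hs1
  set s2 := ∑ χ ∈ Finset.univ.erase triv, (m χ) ^ 2 with hs2
  have hle12 : s1 ≤ s2 := Finset.sum_le_sum fun χ _ => Nat.le_self_pow two_ne_zero _
  rcases Nat.eq_zero_or_pos f with hf0 | hfpos
  · -- degenerate case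
    have hm0 : ∀ χ ∈ Finset.univ.erase triv, m χ = 0 := by
      intro χ hχ
      by_contra h0
      have hne : (χ : G → ℂ) ≠ fun _ => 1 := by
        intro h
        exact (Finset.ne_of_mem_erase hχ) (Subtype.ext (h.trans htriv.symm))
      have h1 := hf χ.1 χ.2 hne (by rw [hm]; exact_mod_cast h0)
      rw [hdeg, hf0] at h1
      have h2 : deg χ = 0 := by exact_mod_cast h1
      have := hdegpos χ
      omega
    constructor
    · intro χ hχ
      by_cases h : (⟨χ, hχ⟩ : IrrCharacter G) = triv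
      · right
        have h2 := hm ⟨χ, hχ⟩
        have h3 : m ⟨χ, hχ⟩ = 1 := by rw [h]; exact hmtriv
        rw [h3] at h2
        simpa using h2
      · left
        have := hm ⟨χ, hχ⟩
        rw [hm0 _ (Finset.mem_erase.mpr ⟨h, Finset.mem_univ _⟩)] at this
        simpa using this
    · intro b hb
      exfalso
      rw [hf0, mul_zero] at hn
      have hsub : Fintype.card Ω ≤ 1 := by omega
      have := Fintype.card_le_one_iff_subsingleton.mp hsub
      exact hb (Subsingleton.elim _ _)
  · have hcge : ∀ q ∈ Finset.univ.erase q₀, f ≤ c q := fun q hq =>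
      Nat.le_of_dvd (hcq q (Finset.ne_of_mem_erase hq)).2 (hcq q (Finset.ne_of_mem_erase hq)).1
    have hsumge : (Finset.univ.erase q₀).card * f ≤ ∑ q ∈ Finset.univ.erase q₀, c q := by
      rw [← smul_eq_mul, ← Finset.sum_const]
      exact Finset.sum_le_sum hcge
    have hcard2 : (Finset.univ.erase q₀).card = s2 := by omega
    have h21 : s2 * f ≤ s1 * f := by
      rw [← hcard2]
      omega
    have hs21 : s2 ≤ s1 := Nat.le_of_mul_le_mul_right h21 hfpos
    have heq : s1 = s2 := le_antisymm hle12 hs21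
    have hterm := (Finset.sum_eq_sum_iff_of_le
      (fun χ _ => Nat.le_self_pow two_ne_zero (m χ))).mp heq
    have hm1 : ∀ χ ∈ Finset.univ.erase triv, m χ ≤ 1 := by
      intro χ hχ
      have h1 := hterm χ hχ
      by_contra h2
      have h3 : 2 ≤ m χ := by omega
      have : m χ * 2 ≤ m χ * m χ := Nat.mul_le_mul_left _ h3
      rw [pow_two] at h1
      omega
    constructor
    · intro χ hχ
      by_cases h : (⟨χ, hχ⟩ : IrrCharacter G) = triv
      · right
        have h2 := hm ⟨χ, hχ⟩
        have h3 : m ⟨χ, hχ⟩ = 1 := by rw [h]; exact hmtriv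
        rw [h3] at h2
        simpa using h2
      · have h1 := hm1 _ (Finset.mem_erase.mpr ⟨h, Finset.mem_univ _⟩)
        have h2 := hm ⟨χ, hχ⟩
        have h3 : m ⟨χ, hχ⟩ = 0 ∨ m ⟨χ, hχ⟩ = 1 := by omega
        rcases h3 with h3 | h3
        · left; rw [h3] at h2; simpa using h2
        · right; rw [h3] at h2; simpa using h2
    · intro b hb
      obtain ⟨hbq, hbc⟩ := hcb b hb
      rw [← hbc]
      have hsumeq : ∑ q ∈ Finset.univ.erase q₀, f = ∑ q ∈ Finset.univ.erase q₀, c q := by
        rw [Finset.sum_const, smul_eq_mul, hcard2, ← heq]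
        omega
      have hterm2 := (Finset.sum_eq_sum_iff_of_le hcge).mp hsumeq
      exact (hterm2 _ (Finset.mem_erase.mpr ⟨hbq, Finset.mem_univ _⟩)).symm

end aux


/-- (a) If all non-principal irreducible constituents of the permutation character of a transitive group have the same degree `f`, the character is multiplicity-free and all non-trivial subdegrees equal `f`. (b) A transitive group of rank at most 5 has multiplicity-free permutation character. -/
theorem result {G : Type*} [Group G] [Fintype G] {Ω : Type*} [Fintype Ω] [MulAction G Ω] [MulAction.IsPretransitive G Ω] (a : Ω) : ((f : ℕ) → (∀ χ : G → ℂ, Cfsg.IsIrrCharacter G χ → χ ≠ (fun _ => 1) → Cfsg.classInner (fun g : G => (Nat.card (MulAction.fixedBy Ω g) : ℂ)) χ ≠ 0 → χ 1 = f) → (∀ χ : G → ℂ, Cfsg.IsIrrCharacter G χ → Cfsg.classInner (fun g : G => (Nat.card (MulAction.fixedBy Ω g) : ℂ)) χ = 0 ∨ Cfsg.classInner (fun g : G => (Nat.card (MulAction.fixedBy Ω g) : ℂ)) χ = 1) ∧ ∀ b : Ω, b ≠ a → Nat.card (MulAction.orbit (MulAction.stabilizer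 G a) b) = f) ∧ (Nat.card (MulAction.orbitRel.Quotient (MulAction.stabilizer G a) Ω) ≤ 5 → ∀ χ : G → ℂ, Cfsg.IsIrrCharacter G χ → Cfsg.classInner (fun g : G => (Nat.card (MulAction.fixedBy Ω g) : ℂ)) χ = 0 ∨ Cfsg.classInner (fun g : G => (Nat.card (MulAction.fixedBy Ω g) : ℂ)) χ = 1) := by
  classical
  refine ⟨fun f hf => partA a f hf, fun hrank => ?_⟩
  letI := irrFintype (G := G)
  obtain ⟨m, deg, triv, htriv, hmtriv, hdtriv, hm, hdeg, hdegpos, hr, hn⟩ :=
    exists_data (G := G) (Ω := Ω) a
  rw [hr] at hrank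
  -- all multiplicities are at most one
  have hall : ∀ χ : IrrCharacter G, m χ ≤ 1 := by
    by_contra hcon
    push Not at hcon
    obtain ⟨χ₀, hχ₀⟩ := hcon
    have hne0 : χ₀ ≠ triv := by
      rintro rfl
      omega
    have hsq : 4 ≤ (m χ₀) ^ 2 := by nlinarith
    have hother : ∀ χ : IrrCharacter G, χ ≠ triv → χ ≠ χ₀ → m χ = 0 := by
      intro χ h1 h2
      by_contra h0
      have hpos : 1 ≤ (m χ) ^ 2 := Nat.one_le_pow _ _ (Nat.pos_of_ne_zero h0)
      have hsub : ∑ ψ ∈ ({triv, χ₀, χ} : Finset (IrrCharacter G)), (m ψ) ^ 2 ≤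
          ∑ ψ : IrrCharacter G, (m ψ) ^ 2 :=
        Finset.sum_le_sum_of_subset (Finset.subset_univ _)
      rw [Finset.sum_insert (by
          simp only [Finset.mem_insert, Finset.mem_singleton, not_or]
          exact ⟨fun h => hne0 h.symm, fun h => h1 h.symm⟩),
        Finset.sum_insert (by
          simp only [Finset.mem_singleton]
          exact fun h => h2 h.symm), Finset.sum_singleton, hmtriv] at hsub
      omega
    have hA := partA (G := G) (Ω := Ω) a (deg χ₀) (by
      intro χ hχ hne hin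
      have hχt : (⟨χ, hχ⟩ : IrrCharacter G) ≠ triv := by
        intro h
        apply hne
        have := congrArg (fun ψ : IrrCharacter G => (ψ : G → ℂ)) h
        exact this.trans htriv
      have hχ0 : (⟨χ, hχ⟩ : IrrCharacter G) = χ₀ := by
        by_contra h
        apply hin
        have h2 := hm ⟨χ, hχ⟩
        rw [hother _ hχt h] at h2
        simpa using h2
      have h3 := hdeg ⟨χ, hχ⟩
      rw [hχ0] at h3
      rw [← h3, ← hχ0])
    have h4 := hA.1 χ₀.1 χ₀.2
    have h5 := hm χ₀
    rcases h4 with h4 | h4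
    · rw [h4] at h5
      have : m χ₀ = 0 := by exact_mod_cast h5.symm
      omega
    · rw [h4] at h5
      have : m χ₀ = 1 := by exact_mod_cast h5.symm
      omega
  intro χ hχ
  have h1 := hall ⟨χ, hχ⟩
  have h2 := hm ⟨χ, hχ⟩
  have h3 : m ⟨χ, hχ⟩ = 0 ∨ m ⟨χ, hχ⟩ = 1 := by omega
  rcases h3 with h3 | h3
  · left; rw [h3] at h2; simpa using h2
  · right; rw [h3] at h2; simpa using h2

end Cfsg.Agent.S0716
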