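import Mathlib
import Cfsg.Agent.S0721
import Cfsg.Statements.S0723
-- import your own Cfsg.Agent.* helpers here

set_option autoImplicit false
open Cfsg

namespace Cfsg.Agent.S0723

open scoped Classical

section scott

variable {ι : Type*} [Fintype ι] [DecidableEq ι] {T : Type*} [Group T]

/-- functions supported inside `B` -/
def RR (B : Finset ι) : Subgroup (ι → T) where
  carrier := {x | ∀ i, i ∉ B → x i = 1}
  one_mem' := fun i _ => rfl
  mul_mem' := fun {x y} hx hy i hi => by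
    show x i * y i = 1
    rw [hx i hi, hy i hi, one_mul]
  inv_mem' := fun {x} hx i hi => by
    show (x i)⁻¹ = 1
    rw [hx i hi, inv_one]

theorem mem_RR {B : Finset ι} {x : ι → T} : x ∈ RR B ↔ ∀ i, i ∉ B → x i = 1 := Iff.rfl

theorem RR_conj {B : Finset ι} {x : ι → T} (hx : x ∈ RR B) (d : ι → T) :
    d * x * d⁻¹ ∈ RR B := by
  intro i hi
  show d i * x i * (d i)⁻¹ = 1
  rw [hx i hi, mul_one, mul_inv_cancel]

theorem RR_mono {B B' : Finset ι} (h : B ⊆ B') : (RR B : Subgroup (ι → T)) ≤ RR B' :=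
  fun _ hx i hi => hx i (fun hiB => hi (h hiB))

/-- minimal supports of nontrivial elements of `D` -/
def IsMinSupp (D : Subgroup (ι → T)) (B : Finset ι) : Prop :=
  D ⊓ RR B ≠ ⊥ ∧ ∀ B' : Finset ι, B' ⊆ B → D ⊓ RR B' ≠ ⊥ → B ⊆ B'

variable {D : Subgroup (ι → T)}

theorem ne_one_of_minSupp {B : Finset ι} (hB : IsMinSupp D B) {x : ι → T} (hxD : x ∈ D)
    (hxB : x ∈ RR B) (hx : x ≠ 1) {i : ι} (hi : i ∈ B) : x i ≠ 1 := by
  intro h
  have hmem : x ∈ D ⊓ RR (B.erase i) := ⟨hxD, fun j hj => by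
    by_cases hji : j = i
    · rw [hji]; exact h
    · exact hxB j (fun hjB => hj (Finset.mem_erase.mpr ⟨hji, hjB⟩))⟩
  have hne : D ⊓ RR (B.erase i) ≠ ⊥ := by
    intro h0
    rw [h0, Subgroup.mem_bot] at hmem
    exact hx hmem
  have := hB.2 _ (Finset.erase_subset i B) hne hi
  exact (Finset.notMem_erase i B) this

theorem exists_eval_eq [IsSimpleGroup T] (hsub : ∀ (i : ι) (t : T), ∃ d ∈ D, d i = t)
    {B : Finset ι} (hB : IsMinSupp D B) {i : ι} (hi : i ∈ B) (t : T) :
    ∃ x ∈ D, x ∈ RR B ∧ x i = t := by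
  let M : Subgroup T := (D ⊓ RR B).map (Pi.evalMonoidHom (fun _ : ι => T) i)
  have hMn : M.Normal := by
    constructor
    rintro _ ⟨x, ⟨hxD, hxB⟩, rfl⟩ t
    obtain ⟨d, hd, rfl⟩ := hsub i t
    exact ⟨d * x * d⁻¹, ⟨D.mul_mem (D.mul_mem hd hxD) (D.inv_mem hd), RR_conj hxB d⟩, rfl⟩
  have hMne : M ≠ ⊥ := by
    intro h
    obtain ⟨x, hx, hx1⟩ : ∃ x ∈ D ⊓ RR B, x ≠ 1 := by
      by_contra hcon
      push Not at hcon
      exact hB.1 ((Subgroup.eq_bot_iff_forall _).mpr hcon)
    have hmem : x i ∈ M := ⟨x, hx, rfl⟩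
    rw [h, Subgroup.mem_bot] at hmem
    exact ne_one_of_minSupp hB hx.1 hx.2 hx1 hi hmem
  have hMtop := hMn.eq_bot_or_eq_top.resolve_left hMne
  have ht : t ∈ M := by rw [hMtop]; trivial
  obtain ⟨x, hx, rfl⟩ := ht
  exact ⟨x, hx.1, hx.2, rfl⟩

theorem eq_of_eval_eq {B : Finset ι} (hB : IsMinSupp D B) {i : ι} (hi : i ∈ B) {x y : ι → T}
    (hxD : x ∈ D) (hxB : x ∈ RR B) (hyD : y ∈ D) (hyB : y ∈ RR B) (h : x i = y i) : x = y := by
  by_contra hne
  have h1 : x * y⁻¹ ≠ 1 := fun h => hne (mul_inv_eq_one.mp h)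
  refine ne_one_of_minSupp hB (D.mul_mem hxD (D.inv_mem hyD))
    ((RR B).mul_mem hxB ((RR B).inv_mem hyB)) h1 hi ?_
  show x i * (y i)⁻¹ = 1
  rw [h, mul_inv_cancel]

theorem eval_eq_of_minSupp [IsSimpleGroup T] (hZ : ∀ z : T, (∀ t : T, z * t = t * z) → z = 1)
    (hsub : ∀ (i : ι) (t : T), ∃ d ∈ D, d i = t)
    {B : Finset ι} (hB : IsMinSupp D B) {i : ι} (hi : i ∈ B) {d x : ι → T} (hd : d ∈ D)
    (hxD : x ∈ D) (hxB : x ∈ RR B) (h : x i = d i) : ∀ j ∈ B, x j = d j := by
  intro j hj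
  have key : ∀ z, z ∈ D → z ∈ RR B → d * z * d⁻¹ = x * z * x⁻¹ := by
    intro z hzD hzB
    refine eq_of_eval_eq hB hi (D.mul_mem (D.mul_mem hd hzD) (D.inv_mem hd)) (RR_conj hzB d)
      (D.mul_mem (D.mul_mem hxD hzD) (D.inv_mem hxD)) (RR_conj hzB x) ?_
    show d i * z i * (d i)⁻¹ = x i * z i * (x i)⁻¹
    rw [h]
  have hc : (x j)⁻¹ * d j = 1 := by
    apply hZ
    intro t
    obtain ⟨z, hzD, hzB, rfl⟩ := exists_eval_eq hsub hB hj t
    have h2 : d j * z j * (d j)⁻¹ = x j * z j * (x j)⁻¹ := congrFun (key z hzD hzB) j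
    calc (x j)⁻¹ * d j * z j = (x j)⁻¹ * (d j * z j * (d j)⁻¹) * d j := by group
      _ = (x j)⁻¹ * (x j * z j * (x j)⁻¹) * d j := by rw [h2]
      _ = z j * ((x j)⁻¹ * d j) := by group
  exact inv_mul_eq_one.mp hc

theorem minSupp_subset_of_mem [IsSimpleGroup T]
    (hZ : ∀ z : T, (∀ t : T, z * t = t * z) → z = 1)
    (hsub : ∀ (i : ι) (t : T), ∃ d ∈ D, d i = t)
    {B B' : Finset ι} (hB : IsMinSupp D B) (hB' : IsMinSupp D B') {i : ι} (hi : i ∈ B)
    (hi' : i ∈ B') : B ⊆ B' := by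
  obtain ⟨t, ht⟩ := exists_ne (1 : T)
  obtain ⟨x', hx'D, hx'B, hx'i⟩ := exists_eval_eq hsub hB' hi' t
  obtain ⟨x, hxD, hxB, hxi⟩ := exists_eval_eq hsub hB hi t
  have hagree := eval_eq_of_minSupp hZ hsub hB hi hx'D hxD hxB (hxi.trans hx'i.symm)
  intro j hj
  by_contra hj'
  have h1 : x' j = 1 := hx'B j hj'
  have h2 : x j = 1 := (hagree j hj).trans h1
  have hx1 : x ≠ 1 := fun h => ht (by rw [← hxi, h]; rfl)
  exact ne_one_of_minSupp hB hxD hxB hx1 hj h2

theorem minSupp_eq_of_mem [IsSimpleGroup T]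
    (hZ : ∀ z : T, (∀ t : T, z * t = t * z) → z = 1)
    (hsub : ∀ (i : ι) (t : T), ∃ d ∈ D, d i = t)
    {B B' : Finset ι} (hB : IsMinSupp D B) (hB' : IsMinSupp D B') {i : ι} (hi : i ∈ B)
    (hi' : i ∈ B') : B = B' :=
  Finset.Subset.antisymm (minSupp_subset_of_mem hZ hsub hB hB' hi hi')
    (minSupp_subset_of_mem hZ hsub hB' hB hi' hi)

theorem exists_minSupp [Nonempty ι] [Nontrivial T]
    (hsub : ∀ (i : ι) (t : T), ∃ d ∈ D, d i = t) : ∃ B, IsMinSupp D B := by
  let S : Set (Finset ι) := {B | D ⊓ RR B ≠ ⊥}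
  have hS : S.Nonempty := by
    refine ⟨Finset.univ, ?_⟩
    show D ⊓ RR Finset.univ ≠ ⊥
    intro h0
    obtain ⟨t, ht⟩ := exists_ne (1 : T)
    obtain ⟨d, hd, hdt⟩ := hsub (Classical.arbitrary ι) t
    have hmem : d ∈ D ⊓ RR Finset.univ := ⟨hd, fun i hi => (hi (Finset.mem_univ i)).elim⟩
    rw [h0, Subgroup.mem_bot] at hmem
    apply ht
    rw [← hdt, hmem]; rfl
  obtain ⟨B, hB⟩ := (Set.toFinite S).exists_minimal hS
  exact ⟨B, hB.1, fun B' hB'B hB' => hB.2 hB' hB'B⟩

/-- transport of supports -/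
theorem RR_map_iff (α : (ι → T) ≃* (ι → T)) (σ : Equiv.Perm ι)
    (hs : ∀ x i, x i = 1 ↔ α x (σ i) = 1) (B : Finset ι) (x : ι → T) :
    x ∈ RR B ↔ α x ∈ RR (B.map σ.toEmbedding) := by
  constructor
  · intro hx j hj
    have h1 : σ.symm j ∉ B := fun h => hj (by
      rw [Finset.mem_map_equiv]; exact h)
    have := (hs x (σ.symm j)).mp (hx _ h1)
    rwa [Equiv.apply_symm_apply] at this
  · intro hx i hi
    have h1 : σ i ∉ B.map σ.toEmbedding := fun h => hi (by
      rw [Finset.mem_map_equiv, Equiv.symm_apply_apply] at h; exact h)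
    exact (hs x i).mpr (hx _ h1)

theorem inf_RR_ne_bot_map (α : (ι → T) ≃* (ι → T)) (σ : Equiv.Perm ι)
    (hs : ∀ x i, x i = 1 ↔ α x (σ i) = 1) (hD : ∀ x, x ∈ D ↔ α x ∈ D) {B : Finset ι}
    (h : D ⊓ RR B ≠ ⊥) : D ⊓ RR (B.map σ.toEmbedding) ≠ ⊥ := by
  intro h0
  apply h
  rw [Subgroup.eq_bot_iff_forall]
  rintro x ⟨hxD, hxB⟩
  have hmem : α x ∈ D ⊓ RR (B.map σ.toEmbedding) :=
    ⟨(hD x).mp hxD, (RR_map_iff α σ hs B x).mp hxB⟩
  rw [h0, Subgroup.mem_bot] at hmem
  exact (map_eq_one_iff α α.injective).mp hmem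

theorem symm_supp (α : (ι → T) ≃* (ι → T)) (σ : Equiv.Perm ι)
    (hs : ∀ x i, x i = 1 ↔ α x (σ i) = 1) :
    ∀ x i, x i = 1 ↔ α.symm x (σ.symm i) = 1 := by
  intro x i
  have := hs (α.symm x) (σ.symm i)
  rw [MulEquiv.apply_symm_apply, Equiv.apply_symm_apply] at this
  exact this.symm

theorem minSupp_map (α : (ι → T) ≃* (ι → T)) (σ : Equiv.Perm ι)
    (hs : ∀ x i, x i = 1 ↔ α x (σ i) = 1) (hD : ∀ x, x ∈ D ↔ α x ∈ D) {B : Finset ι}
    (hB : IsMinSupp D B) : IsMinSupp D (B.map σ.toEmbedding) := by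
  refine ⟨inf_RR_ne_bot_map α σ hs hD hB.1, fun B'' hsub hne => ?_⟩
  have hD' : ∀ x, x ∈ D ↔ α.symm x ∈ D := by
    intro x
    have := hD (α.symm x)
    rw [MulEquiv.apply_symm_apply] at this
    exact this.symm
  have h1 := inf_RR_ne_bot_map α.symm σ.symm (symm_supp α σ hs) hD' hne
  have h2 : B''.map σ.symm.toEmbedding ⊆ B := by
    intro j hj
    rw [Finset.mem_map_equiv, Equiv.symm_symm] at hj
    have := hsub hj
    rw [Finset.mem_map_equiv, Equiv.symm_apply_apply] at this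
    exact this
  have h3 := hB.2 _ h2 h1
  intro j hj
  rw [Finset.mem_map_equiv] at hj
  have := h3 hj
  rw [Finset.mem_map_equiv, Equiv.symm_symm, Equiv.apply_symm_apply] at this
  exact this

end scott

section core

variable {ι : Type*} [Fintype ι] [DecidableEq ι] [Nonempty ι] {T : Type*} [Group T]
  [IsSimpleGroup T]

theorem abstract_core
    (hZ : ∀ z : T, (∀ t : T, z * t = t * z) → z = 1)
    (D : Subgroup (ι → T)) (hD : D ≠ ⊤)
    {𝔊 : Type*} (α : 𝔊 → (ι → T) ≃* (ι → T)) (σ : 𝔊 → Equiv.Perm ι) (a : 𝔊 → ι → T ≃* T)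
    (hcoord : ∀ g x i, α g x (σ g i) = a g i (x i))
    (hinv : ∀ g x, x ∈ D ↔ α g x ∈ D)
    (htrans : ∀ i j, ∃ g, σ g i = j)
    (hmax : ∀ X : Subgroup (ι → T), D ≤ X → (∀ g x, x ∈ X ↔ α g x ∈ X) → X = D ∨ X = ⊤) :
    (∃ K : ι → Subgroup T, (∀ i, K i ≠ ⊤) ∧ ∀ x, x ∈ D ↔ ∀ i, x i ∈ K i) ∨
    (∃ (k : ℕ) (c : ι → ι) (φ : ι → T ≃* T), 2 ≤ k ∧
      (∀ j, Nat.card {i // c i = j} = k ∨ Nat.card {i // c i = j} = 0) ∧
      ∀ x, x ∈ D ↔ ∀ i j, c i = c j → φ i (x i) = φ j (x j)) := by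
  have hs : ∀ g x i, x i = 1 ↔ α g x (σ g i) = 1 := by
    intro g x i
    rw [hcoord]
    exact (map_eq_one_iff (a g i) (a g i).injective).symm
  let K : ι → Subgroup T := fun i => D.map (Pi.evalMonoidHom (fun _ : ι => T) i)
  by_cases hcase : ∀ i, K i = ⊤
  · right
    have hsub : ∀ (i : ι) (t : T), ∃ d ∈ D, d i = t := by
      intro i t
      have : t ∈ K i := by rw [hcase i]; trivial
      exact this
    obtain ⟨B₀, hB₀⟩ := exists_minSupp hsub
    have hB₀ne : B₀.Nonempty := by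
      by_contra h
      rw [Finset.not_nonempty_iff_eq_empty] at h
      apply hB₀.1
      rw [h, Subgroup.eq_bot_iff_forall]
      rintro x ⟨_, hx⟩
      funext i
      exact hx i (Finset.notMem_empty i)
    obtain ⟨i₀, hi₀⟩ := hB₀ne
    have hex : ∀ i, ∃ B, IsMinSupp D B ∧ i ∈ B := by
      intro i
      obtain ⟨g, hg⟩ := htrans i₀ i
      refine ⟨B₀.map (σ g).toEmbedding, minSupp_map (α g) (σ g) (hs g) (hinv g) hB₀, ?_⟩
      rw [Finset.mem_map_equiv, ← hg, Equiv.symm_apply_apply]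
      exact hi₀
    choose Bof hBof hmemB using hex
    have hBeq : ∀ i j, j ∈ Bof i → Bof j = Bof i := fun i j hj =>
      minSupp_eq_of_mem hZ hsub (hBof j) (hBof i) (hmemB j) hj
    have hne : ∀ i, (Bof i).Nonempty := fun i => ⟨i, hmemB i⟩
    let rep : Finset ι → ι := fun B =>
      if h : B.Nonempty then h.choose else Classical.arbitrary ι
    have hrep : ∀ B : Finset ι, B.Nonempty → rep B ∈ B := by
      intro B h
      simp only [rep, dif_pos h]
      exact h.choose_spec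
    let c : ι → ι := fun i => rep (Bof i)
    have hc : ∀ i, c i ∈ Bof i := fun i => hrep _ (hne i)
    have hcB : ∀ i j, c i = c j ↔ Bof i = Bof j := by
      intro i j
      constructor
      · intro h
        have h1 : c i ∈ Bof j := h ▸ hc j
        exact ((hBeq i (c i) (hc i)).symm.trans (hBeq j (c i) h1))
      · intro h
        show rep (Bof i) = rep (Bof j)
        rw [h]
    obtain ⟨i₁⟩ := ‹Nonempty ι›
    have hcard : ∀ i, (Bof i).card = (Bof i₁).card := by
      intro i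
      obtain ⟨g, hg⟩ := htrans i₁ i
      have h1 := minSupp_map (α g) (σ g) (hs g) (hinv g) (hBof i₁)
      have h2 : i ∈ (Bof i₁).map (σ g).toEmbedding := by
        rw [Finset.mem_map_equiv, ← hg, Equiv.symm_apply_apply]
        exact hmemB i₁
      have h3 := minSupp_eq_of_mem hZ hsub (hBof i) h1 (hmemB i) h2
      rw [h3, Finset.card_map]
    have hfwd : ∀ x ∈ D, ∀ i, ∀ y ∈ D, y ∈ RR (Bof i) → y i = x i → ∀ j ∈ Bof i, y j = x j :=
      fun x hx i y hyD hyB hyi =>
        eval_eq_of_minSupp hZ hsub (hBof i) (hmemB i) hx hyD hyB hyi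
    have hbwd : ∀ x : ι → T,
        (∀ i, ∃ y ∈ D, y ∈ RR (Bof i) ∧ ∀ j ∈ Bof i, y j = x j) → x ∈ D := by
      intro x hx
      choose y hyD hyB hyx using hx
      have key : ∀ 𝒜 : Finset (Finset ι), (∀ B ∈ 𝒜, ∃ i, Bof i = B) →
          ∃ d ∈ D, (∀ B ∈ 𝒜, ∀ j ∈ B, d j = x j) ∧ ∀ j, (∀ B ∈ 𝒜, j ∉ B) → d j = 1 := by
        intro 𝒜
        induction 𝒜 using Finset.induction_on with
        | empty =>
          intro _
          exact ⟨1, D.one_mem, fun B hB => (Finset.notMem_empty B hB).elim, fun j _ => rfl⟩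
        | insert B₁ 𝒜 hB₁ ih =>
          intro hall
          obtain ⟨d, hdD, hd1, hd2⟩ := ih (fun B hB => hall B (Finset.mem_insert_of_mem hB))
          obtain ⟨i, hi⟩ := hall B₁ (Finset.mem_insert_self _ _)
          subst hi
          have hdisj : ∀ B ∈ 𝒜, ∀ j, j ∈ B → j ∉ Bof i := by
            intro B hB j hjB hji
            obtain ⟨i', hi'⟩ := hall B (Finset.mem_insert_of_mem hB)
            subst hi'
            have : Bof i' = Bof i := (hBeq i' j hjB).symm.trans (hBeq i j hji)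
            exact hB₁ (this ▸ hB)
          refine ⟨d * y i, D.mul_mem hdD (hyD i), ?_, ?_⟩
          · intro B hB j hj
            rw [Finset.mem_insert] at hB
            rcases hB with hB | hB
            · subst hB
              have : d j = 1 := hd2 j (fun B hB hjB => hdisj B hB j hjB hj)
              show d j * y i j = x j
              rw [this, one_mul, hyx i j hj]
            · have : y i j = 1 := hyB i j (hdisj B hB j hj)
              show d j * y i j = x j
              rw [this, mul_one, hd1 B hB j hj]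
          · intro j hj
            have h1 : d j = 1 := hd2 j (fun B hB => hj B (Finset.mem_insert_of_mem hB))
            have h2 : y i j = 1 := hyB i j (hj _ (Finset.mem_insert_self _ _))
            show d j * y i j = 1
            rw [h1, h2, one_mul]
      obtain ⟨d, hdD, hd1, _⟩ := key (Finset.univ.image Bof) (fun B hB => by
        obtain ⟨i, _, hi⟩ := Finset.mem_image.mp hB
        exact ⟨i, hi⟩)
      have : d = x := funext fun j =>
        hd1 (Bof j) (Finset.mem_image_of_mem _ (Finset.mem_univ j)) j (hmemB j)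
      rw [← this]
      exact hdD
    have hk2 : 2 ≤ (Bof i₁).card := by
      by_contra hlt
      push Not at hlt
      have hone : ∀ i, Bof i = {i} := by
        intro i
        have h1 : (Bof i).card ≤ 1 := by rw [hcard i]; omega
        have h2 : 0 < (Bof i).card := Finset.card_pos.mpr (hne i)
        have h3 : (Bof i).card = 1 := by omega
        obtain ⟨b, hb⟩ := Finset.card_eq_one.mp h3
        have := hmemB i
        rw [hb, Finset.mem_singleton] at this
        rw [hb, this]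
      apply hD
      rw [eq_top_iff]
      intro x _
      apply hbwd
      intro i
      obtain ⟨y, hyD, hyB, hyi⟩ := exists_eval_eq hsub (hBof i) (hmemB i) (x i)
      refine ⟨y, hyD, hyB, fun j hj => ?_⟩
      rw [hone i, Finset.mem_singleton] at hj
      rw [hj]
      exact hyi
    have hlift : ∀ (i j : ι) (_ : j ∈ Bof i) (t : T),
        ∃ y, y ∈ D ∧ y ∈ RR (Bof i) ∧ y j = t := by
      intro i j hj t
      obtain ⟨y, h1, h2, h3⟩ := exists_eval_eq hsub (hBof i) hj t
      exact ⟨y, h1, h2, h3⟩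
    choose L hLD hLB hLt using hlift
    have huniq : ∀ i j (_ : j ∈ Bof i) (y y' : ι → T), y ∈ D → y ∈ RR (Bof i) → y' ∈ D →
        y' ∈ RR (Bof i) → y j = y' j → y = y' :=
      fun i j hj y y' h1 h2 h3 h4 h5 => eq_of_eval_eq (hBof i) hj h1 h2 h3 h4 h5
    let φ : ι → T ≃* T := fun i =>
      { toFun := fun t => L i i (hmemB i) t (c i)
        invFun := fun t => L i (c i) (hc i) t i
        left_inv := fun t => by
          have : L i (c i) (hc i) (L i i (hmemB i) t (c i)) = L i i (hmemB i) t :=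
            huniq i (c i) (hc i) _ _ (hLD _ _ _ _) (hLB _ _ _ _) (hLD _ _ _ _) (hLB _ _ _ _)
              (hLt _ _ _ _)
          show L i (c i) (hc i) (L i i (hmemB i) t (c i)) i = t
          rw [this, hLt]
        right_inv := fun t => by
          have : L i i (hmemB i) (L i (c i) (hc i) t i) = L i (c i) (hc i) t :=
            huniq i i (hmemB i) _ _ (hLD _ _ _ _) (hLB _ _ _ _) (hLD _ _ _ _) (hLB _ _ _ _)
              (hLt _ _ _ _)
          show L i i (hmemB i) (L i (c i) (hc i) t i) (c i) = t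
          rw [this, hLt]
        map_mul' := fun t t' => by
          have : L i i (hmemB i) (t * t') = L i i (hmemB i) t * L i i (hmemB i) t' :=
            huniq i i (hmemB i) _ _ (hLD _ _ _ _) (hLB _ _ _ _)
              (D.mul_mem (hLD _ _ _ _) (hLD _ _ _ _))
              ((RR _).mul_mem (hLB _ _ _ _) (hLB _ _ _ _)) (by
                rw [hLt]
                show t * t' = L i i (hmemB i) t i * L i i (hmemB i) t' i
                rw [hLt, hLt])
          show L i i (hmemB i) (t * t') (c i) = _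
          rw [this]
          rfl }
    have hφ : ∀ x ∈ D, ∀ i, φ i (x i) = x (c i) := by
      intro x hx i
      show L i i (hmemB i) (x i) (c i) = x (c i)
      exact hfwd x hx i _ (hLD _ _ _ _) (hLB _ _ _ _) (hLt _ _ _ _) (c i) (hc i)
    refine ⟨(Bof i₁).card, c, φ, hk2, ?_, ?_⟩
    · intro j
      by_cases hj : ∃ i, c i = j
      · left
        obtain ⟨i, rfl⟩ := hj
        rw [← hcard i, ← Nat.card_eq_finsetCard]
        apply Nat.card_congr
        exact Equiv.subtypeEquivRight (fun i' => by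
          rw [hcB]
          constructor
          · intro h
            rw [← h]
            exact hmemB i'
          · intro h
            exact hBeq i i' h)
      · right
        haveI : IsEmpty {i // c i = j} := ⟨fun ⟨i, hi⟩ => hj ⟨i, hi⟩⟩
        exact Nat.card_of_isEmpty
    · intro x
      constructor
      · intro hx i j hij
        rw [hφ x hx i, hφ x hx j, hij]
      · intro hx
        apply hbwd
        intro i
        refine ⟨L i i (hmemB i) (x i), hLD _ _ _ _, hLB _ _ _ _, fun j hj => ?_⟩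
        have hBj : Bof j = Bof i := hBeq i j hj
        have hcj : c j = c i := (hcB j i).mpr hBj
        have h1 : L i i (hmemB i) (x i) (c i) = L j j (hmemB j) (x j) (c j) :=
          hx i j hcj.symm
        have h2 : L j j (hmemB j) (x j) ∈ RR (Bof i) := hBj ▸ hLB j j (hmemB j) (x j)
        have h3 : L i i (hmemB i) (x i) = L j j (hmemB j) (x j) :=
          huniq i (c i) (hc i) _ _ (hLD _ _ _ _) (hLB _ _ _ _) (hLD _ _ _ _) h2 (by
            rw [h1, hcj])
        rw [h3, hLt]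
  · left
    push Not at hcase
    obtain ⟨i₀, hi₀⟩ := hcase
    let X : Subgroup (ι → T) := Subgroup.pi Set.univ K
    have hXmem : ∀ x, x ∈ X ↔ ∀ i, x i ∈ K i := by
      intro x
      simp [X, Subgroup.mem_pi]
    have hDX : D ≤ X := fun d hd => (hXmem d).mpr fun i => ⟨d, hd, rfl⟩
    have hKσ : ∀ g i t, t ∈ K i ↔ a g i t ∈ K (σ g i) := by
      intro g i t
      constructor
      · rintro ⟨d, hd, rfl⟩
        exact ⟨α g d, (hinv g d).mp hd, hcoord g d i⟩
      · rintro ⟨d, hd, hdt⟩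
        have hd' : (α g).symm d ∈ D := by
          rw [hinv g, MulEquiv.apply_symm_apply]
          exact hd
        refine ⟨(α g).symm d, hd', ?_⟩
        have := hcoord g ((α g).symm d) i
        rw [MulEquiv.apply_symm_apply] at this
        show (α g).symm d i = t
        apply (a g i).injective
        rw [← this]
        exact hdt
    have hXinv : ∀ g x, x ∈ X ↔ α g x ∈ X := by
      intro g x
      rw [hXmem, hXmem]
      constructor
      · intro h j
        have := (hKσ g ((σ g).symm j) _).mp (h ((σ g).symm j))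
        rw [← hcoord, Equiv.apply_symm_apply] at this
        exact this
      · intro h i
        rw [hKσ g i, ← hcoord]
        exact h _
    rcases hmax X hDX hXinv with hX | hX
    · refine ⟨K, ?_, fun x => by rw [← hX, hXmem]⟩
      intro i hi
      obtain ⟨g, hg⟩ := htrans i₀ i
      apply hi₀
      rw [eq_top_iff]
      intro t _
      rw [hKσ g i₀ t, hg, hi]
      trivial
    · exfalso
      apply hi₀
      rw [eq_top_iff]
      intro t _
      have h1 : Pi.mulSingle i₀ t ∈ X := by rw [hX]; trivial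
      have h2 := (hXmem _).mp h1 i₀
      rwa [Pi.mulSingle_eq_same] at h2

end core

section internal

open Cfsg.Agent.S0721

variable {Γ : Type*} [Group Γ]

theorem cj_eq_of_nnormal {N A : Subgroup Γ} (hA : NNormal N A) {n : Γ} (hn : n ∈ N) :
    cj n A = A := by
  ext x
  rw [mem_cj]
  constructor
  · intro hx
    have := hA n hn _ hx
    have h2 : n * (n⁻¹ * x * n) * n⁻¹ = x := by group
    rwa [h2] at this
  · intro hx
    have := hA n⁻¹ (N.inv_mem hn) x hx
    rwa [inv_inv] at this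

theorem mem_iff_of_cj_eq {u : Γ} {T : Subgroup Γ} (h : cj u T = T) (x : Γ) :
    x ∈ T ↔ u⁻¹ * x * u ∈ T := by
  have := mem_cj u T x
  rw [h] at this
  exact this

/-- conjugation by an element normalizing `T` -/
def conjEquiv (u : Γ) (T : Subgroup Γ) (h : cj u T = T) : ↥T ≃* ↥T where
  toFun t := ⟨u * t * u⁻¹, by
    rw [mem_iff_of_cj_eq h]
    have : u⁻¹ * (u * (t : Γ) * u⁻¹) * u = t := by group
    rw [this]
    exact t.2⟩
  invFun t := ⟨u⁻¹ * t * u, (mem_iff_of_cj_eq h _).mp t.2⟩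
  left_inv t := by
    apply Subtype.ext
    show u⁻¹ * (u * (t : Γ) * u⁻¹) * u = t
    group
  right_inv t := by
    apply Subtype.ext
    show u * (u⁻¹ * (t : Γ) * u) * u⁻¹ = t
    group
  map_mul' t t' := by
    apply Subtype.ext
    show u * ((t : Γ) * t') * u⁻¹ = (u * t * u⁻¹) * (u * t' * u⁻¹)
    group

theorem conjEquiv_coe (u : Γ) (T : Subgroup Γ) (h : cj u T = T) (t : T) :
    ((conjEquiv u T h t : T) : Γ) = u * t * u⁻¹ := rfl

/-- two homomorphisms on a finite power agreeing on the coordinate subgroups are equal -/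
theorem hom_ext_mulSingle {m : ℕ} {A B : Type*} [Group A] [Group B]
    (F G : (Fin m → A) →* B)
    (h : ∀ i t, F (Pi.mulSingle i t) = G (Pi.mulSingle i t)) : F = G := by
  ext x
  have : x ∈ MonoidHom.eqLocus F G :=
    Subgroup.pi_mem_of_mulSingle_mem x (fun i => h i (x i))
  exact this

variable [Finite Γ]

theorem exists_factor_data (N : Subgroup Γ) [N.Normal] (hN : N ≠ ⊥)
    (hmin : ∀ M : Subgroup Γ, M.Normal → M ≤ N → M = ⊥ ∨ M = N) :
    ∃ (T₁ : Subgroup Γ) (m : ℕ) (S : Fin m → Subgroup Γ) (hh : Fin m → Γ),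
      IsMinIn N T₁ ∧ 0 < m ∧ Function.Injective S ∧ (∀ i, S i = cj (hh i) T₁) ∧
      (∀ g : Γ, ∀ i, ∃ j, S j = cj g (S i)) ∧ (⨆ i, S i = N) := by
  obtain ⟨T₁, hT⟩ := exists_isMinIn N hN
  let 𝒞 : Set (Subgroup Γ) := Set.range (fun h : Γ => cj h T₁)
  haveI : Finite 𝒞 := (Set.toFinite 𝒞).to_subtype
  let eq := Finite.equivFin 𝒞
  let S : Fin (Nat.card 𝒞) → Subgroup Γ := fun i => (eq.symm i).1
  have hS : ∀ i, ∃ h : Γ, cj h T₁ = S i := fun i => (eq.symm i).2
  choose hh hhh using hS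
  have hmem : ∀ h : Γ, ∃ j, S j = cj h T₁ := by
    intro h
    refine ⟨eq ⟨cj h T₁, h, rfl⟩, ?_⟩
    show ((eq.symm (eq ⟨cj h T₁, h, rfl⟩)).1) = cj h T₁
    rw [Equiv.symm_apply_apply]
  refine ⟨T₁, Nat.card 𝒞, S, hh, hT, ?_, ?_, fun i => (hhh i).symm, ?_, ?_⟩
  · haveI : Nonempty 𝒞 := ⟨⟨cj 1 T₁, 1, rfl⟩⟩
    exact Nat.card_pos
  · intro i j hij
    have : eq.symm i = eq.symm j := Subtype.ext hij
    exact eq.symm.injective this
  · intro g i
    obtain ⟨j, hj⟩ := hmem (g * hh i)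
    refine ⟨j, ?_⟩
    rw [hj, ← hhh i, cj_cj]
  · rw [← iSup_cj_eq N hmin hT]
    apply le_antisymm
    · apply iSup_le
      intro i
      rw [← hhh i]
      exact le_iSup (fun h : Γ => cj h T₁) (hh i)
    · apply iSup_le
      intro h
      obtain ⟨j, hj⟩ := hmem h
      rw [← hj]
      exact le_iSup S j

end internal

section internal2

open Cfsg.Agent.S0721

variable {Γ : Type*} [Group Γ] [Finite Γ]

theorem factor_props (N : Subgroup Γ) [N.Normal] (hnab : ¬ IsMulCommutative N)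
    {T₁ : Subgroup Γ} {m : ℕ} {S : Fin m → Subgroup Γ} {hh : Fin m → Γ}
    (hT : IsMinIn N T₁) (hSinj : Function.Injective S) (hS : ∀ i, S i = cj (hh i) T₁)
    (hsup : ⨆ i, S i = N) :
    (∀ i j, i ≠ j → ∀ x ∈ S i, ∀ y ∈ S j, x * y = y * x) ∧
    (¬ ∀ x ∈ T₁, ∀ y ∈ T₁, x * y = y * x) ∧ iSupIndep S := by
  have hmin_i : ∀ i, IsMinIn N (S i) := by
    intro i
    rw [hS i]
    exact isMinIn_cj hT (hh i)
  have hnle : ∀ i j, i ≠ j → ¬ S i ≤ S j := by
    intro i j hij hle
    rcases (hmin_i j).2.2.2 (S i) hle (hmin_i i).2.2.1 with h | h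
    · exact (hmin_i i).1 h
    · exact hij (hSinj h)
  have hcomm : ∀ i j, i ≠ j → ∀ x ∈ S i, ∀ y ∈ S j, x * y = y * x := by
    intro i j hij
    have hd := isMinIn_inf_eq_bot (hmin_i i) (hmin_i j).2.2.1 (hnle i j hij)
    exact commute_of_disjoint (hmin_i i).2.1 (hmin_i j).2.1 (hmin_i i).2.2.1 (hmin_i j).2.2.1 hd
  have hnabT : ¬ ∀ x ∈ T₁, ∀ y ∈ T₁, x * y = y * x := by
    intro hab
    have habS : ∀ i, ∀ x ∈ S i, ∀ y ∈ S i, x * y = y * x := by
      intro i x hx y hy
      rw [hS i, mem_cj] at hx hy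
      have h1 := hab _ hx _ hy
      calc x * y = hh i * (((hh i)⁻¹ * x * hh i) * ((hh i)⁻¹ * y * hh i)) * (hh i)⁻¹ := by group
        _ = hh i * (((hh i)⁻¹ * y * hh i) * ((hh i)⁻¹ * x * hh i)) * (hh i)⁻¹ := by rw [h1]
        _ = y * x := by group
    apply hnab
    have hU : ∀ x ∈ (⋃ i, (S i : Set Γ)), ∀ y ∈ (⋃ i, (S i : Set Γ)), x * y = y * x := by
      intro x hx y hy
      obtain ⟨i, hi⟩ := Set.mem_iUnion.mp hx
      obtain ⟨j, hj⟩ := Set.mem_iUnion.mp hy
      by_cases hij : i = j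
      · subst hij
        exact habS i x hi y hj
      · exact hcomm i j hij x hi y hj
    have hNcl : N = Subgroup.closure (⋃ i, (S i : Set Γ)) := by
      rw [← hsup, Subgroup.iSup_eq_closure]
    rw [isMulCommutative_iff]
    intro a b
    apply Subtype.ext
    have ha : (a : Γ) ∈ Subgroup.closure (⋃ i, (S i : Set Γ)) := by rw [← hNcl]; exact a.2
    have hb : (b : Γ) ∈ Subgroup.closure (⋃ i, (S i : Set Γ)) := by rw [← hNcl]; exact b.2
    have hc := Subgroup.isMulCommutative_closure hU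
    rw [isMulCommutative_iff] at hc
    have := hc ⟨a, ha⟩ ⟨b, hb⟩
    exact congrArg (fun z : ↥(Subgroup.closure (⋃ i, (S i : Set Γ))) => (z : Γ)) this
  refine ⟨hcomm, hnabT, ?_⟩
  intro i
  rw [disjoint_iff]
  set M : Subgroup Γ := ⨆ (j) (_ : j ≠ i), S j with hM
  have hMeq : M = ⨆ j : {j : Fin m // j ≠ i}, S j := by
    rw [hM, iSup_subtype']
  have hMn : NNormal N M := by
    rw [hMeq]
    exact nnormal_iSup _ (fun j => (hmin_i j).2.2.1)
  by_cases hle : S i ≤ M
  · exfalso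
    -- M centralizes S i
    have hMc : M ≤ Subgroup.centralizer (S i : Set Γ) := by
      rw [hMeq]
      apply iSup_le
      rintro ⟨j, hj⟩ y hy
      rw [Subgroup.mem_centralizer_iff]
      intro x hx
      exact hcomm i j (Ne.symm hj) x hx y hy
    have habSi : ∀ x ∈ S i, ∀ y ∈ S i, x * y = y * x := by
      intro x hx y hy
      have := hMc (hle hy)
      rw [Subgroup.mem_centralizer_iff] at this
      exact this x hx
    apply hnabT
    intro x hx y hy
    have hx' : hh i * x * (hh i)⁻¹ ∈ S i := by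
      rw [hS i, mem_cj]
      have : (hh i)⁻¹ * (hh i * x * (hh i)⁻¹) * hh i = x := by group
      rw [this]; exact hx
    have hy' : hh i * y * (hh i)⁻¹ ∈ S i := by
      rw [hS i, mem_cj]
      have : (hh i)⁻¹ * (hh i * y * (hh i)⁻¹) * hh i = y := by group
      rw [this]; exact hy
    have h1 := habSi _ hx' _ hy'
    calc x * y = (hh i)⁻¹ * ((hh i * x * (hh i)⁻¹) * (hh i * y * (hh i)⁻¹)) * hh i := by group
      _ = (hh i)⁻¹ * ((hh i * y * (hh i)⁻¹) * (hh i * x * (hh i)⁻¹)) * hh i := by rw [h1]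
      _ = y * x := by group
  · exact isMinIn_inf_eq_bot (hmin_i i) hMn hle

end internal2

section internal3

open Cfsg.Agent.S0721

variable {Γ : Type*} [Group Γ] [Finite Γ]

theorem internal_core (N : Subgroup Γ) [N.Normal] (hN : N ≠ ⊥)
    (hmin : ∀ M : Subgroup Γ, M.Normal → M ≤ N → M = ⊥ ∨ M = N)
    (hnab : ¬ IsMulCommutative N) (K : Subgroup Γ) (hK : IsCoatom K)
    (hNK : ∀ g : Γ, ∃ k ∈ K, ∃ n ∈ N, g = k * n) (hNK' : ¬ N ≤ K) :
    ∃ (T₁ : Subgroup Γ) (m : ℕ) (e : N ≃* (Fin m → ↥T₁)),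
      IsSimpleGroup ↥T₁ ∧ ¬ IsMulCommutative ↥T₁ ∧ 0 < m ∧
      ((∃ Ks : Fin m → Subgroup ↥T₁, (∀ i, Ks i ≠ ⊤) ∧
          ∀ n : N, (n : Γ) ∈ K ↔ ∀ i, e n i ∈ Ks i) ∨
       (∃ (k : ℕ) (c : Fin m → Fin m), 2 ≤ k ∧
          (∀ j, Nat.card {i // c i = j} = k ∨ Nat.card {i // c i = j} = 0) ∧
          ∀ n : N, (n : Γ) ∈ K ↔ ∀ i j, c i = c j → e n i = e n j)) := by
  obtain ⟨T₁, m, S, hh, hT, hm, hSinj, hS, hclosed, hsup⟩ := exists_factor_data N hN hmin
  obtain ⟨hcomm, hnabT, hind⟩ := factor_props N hnab hT hSinj hS hsup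
  haveI hsimple : IsSimpleGroup ↥T₁ := isSimpleGroup_of_isMinIn N hmin hT
  haveI : Nonempty (Fin m) := ⟨⟨0, hm⟩⟩
  have hnabT' : ¬ IsMulCommutative ↥T₁ := by
    intro h
    rw [isMulCommutative_iff] at h
    exact hnabT (fun x hx y hy => congrArg Subtype.val (h ⟨x, hx⟩ ⟨y, hy⟩))
  have hZ : ∀ z : ↥T₁, (∀ t : ↥T₁, z * t = t * z) → z = 1 := by
    intro z hz
    have hzc : z ∈ Subgroup.center ↥T₁ := by
      rw [Subgroup.mem_center_iff]
      intro g
      exact (hz g).symm
    rcases (inferInstance : (Subgroup.center ↥T₁).Normal).eq_bot_or_eq_top with h | h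
    · rw [h, Subgroup.mem_bot] at hzc
      exact hzc
    · exfalso
      apply hnabT'
      rw [isMulCommutative_iff]
      intro a b
      have : a ∈ Subgroup.center ↥T₁ := by rw [h]; trivial
      rw [Subgroup.mem_center_iff] at this
      exact (this b).symm
  let ϕ : Fin m → (↥T₁ →* Γ) := fun i => ((MulAut.conj (hh i)).toMonoidHom).comp T₁.subtype
  have hϕ : ∀ i (t : ↥T₁), ϕ i t = hh i * t * (hh i)⁻¹ := fun i t => rfl
  have hϕmem : ∀ i (t : ↥T₁), ϕ i t ∈ S i := by
    intro i t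
    rw [hS i, mem_cj, hϕ]
    have : (hh i)⁻¹ * (hh i * (t : Γ) * (hh i)⁻¹) * hh i = t := by group
    rw [this]
    exact t.2
  have hϕrange : ∀ i, (ϕ i).range = S i := by
    intro i
    rw [hS i]
    show (((MulAut.conj (hh i)).toMonoidHom).comp T₁.subtype).range = _
    rw [MonoidHom.range_comp, Subgroup.range_subtype]
    rfl
  have hϕinj : ∀ i, Function.Injective (ϕ i) := by
    intro i t t' h
    apply Subtype.ext
    have : hh i * (t : Γ) * (hh i)⁻¹ = hh i * (t' : Γ) * (hh i)⁻¹ := h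
    simpa using this
  have hcommϕ : Pairwise fun i j : Fin m => ∀ (x y : ↥T₁), Commute (ϕ i x) (ϕ j y) :=
    fun i j hij x y => hcomm i j hij _ (hϕmem i x) _ (hϕmem j y)
  let Ψ : (Fin m → ↥T₁) →* Γ := MonoidHom.noncommPiCoprod ϕ hcommϕ
  have hΨs : ∀ i (t : ↥T₁), Ψ (Pi.mulSingle i t) = ϕ i t :=
    fun i t => MonoidHom.noncommPiCoprod_mulSingle _ _ _
  have hfun : (fun i => (ϕ i).range) = S := funext hϕrange
  have hΨrange : Ψ.range = N := by
    show (MonoidHom.noncommPiCoprod ϕ hcommϕ).range = N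
    rw [MonoidHom.noncommPiCoprod_range, ← hsup]
    exact congrArg iSup hfun
  have hΨinj : Function.Injective Ψ :=
    MonoidHom.injective_noncommPiCoprod_of_iSupIndep ϕ (by rw [hfun]; exact hind) hϕinj
  have hΨmem : ∀ x, Ψ x ∈ N := fun x => by rw [← hΨrange]; exact ⟨x, rfl⟩
  let Ψ' : (Fin m → ↥T₁) →* N := Ψ.codRestrict N hΨmem
  have hΨ'bij : Function.Bijective Ψ' := by
    constructor
    · intro x y h
      apply hΨinj
      exact congrArg Subtype.val h
    · intro n
      have : (n : Γ) ∈ Ψ.range := by rw [hΨrange]; exact n.2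
      obtain ⟨x, hx⟩ := this
      exact ⟨x, Subtype.ext hx⟩
  let e₀ : N ≃* (Fin m → ↥T₁) := (MulEquiv.ofBijective Ψ' hΨ'bij).symm
  have he₀ : ∀ x, ((e₀.symm x : N) : Γ) = Ψ x := fun x => rfl
  choose σf hσf using hclosed
  have hσinv : ∀ g i, σf g⁻¹ (σf g i) = i := by
    intro g i
    apply hSinj
    rw [hσf, hσf, cj_cj, inv_mul_cancel, cj_one]
  let σ : Γ → Equiv.Perm (Fin m) := fun g =>
    { toFun := σf g
      invFun := σf g⁻¹
      left_inv := hσinv g
      right_inv := fun i => by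
        have := hσinv g⁻¹ i
        rwa [inv_inv] at this }
  have hσ : ∀ g i, S (σ g i) = cj g (S i) := hσf
  have hnorm : ∀ g i, cj ((hh (σ g i))⁻¹ * g * hh i) T₁ = T₁ := by
    intro g i
    have h1 : cj (hh (σ g i)) T₁ = cj g (cj (hh i) T₁) := by
      rw [← hS, ← hS]
      exact hσ g i
    have h2 : (hh (σ g i))⁻¹ * g * hh i = (hh (σ g i))⁻¹ * (g * hh i) := by group
    rw [h2, ← cj_cj, ← cj_cj, ← h1, cj_cj, inv_mul_cancel, cj_one]
  let a : Γ → Fin m → ↥T₁ ≃* ↥T₁ := fun g i => conjEquiv _ T₁ (hnorm g i)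
  let P : Γ → (Fin m → ↥T₁) →* (Fin m → ↥T₁) := fun g =>
    { toFun := fun x j => a g ((σ g).symm j) (x ((σ g).symm j))
      map_one' := by
        funext j
        simp
      map_mul' := fun x y => by
        funext j
        simp }
  have hPsingle : ∀ g i (t : ↥T₁), P g (Pi.mulSingle i t) = Pi.mulSingle (σ g i) (a g i t) := by
    intro g i t
    funext j
    show a g ((σ g).symm j) ((Pi.mulSingle i t : Fin m → ↥T₁) ((σ g).symm j)) = _
    by_cases hj : j = σ g i
    · subst hj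
      rw [Equiv.symm_apply_apply, Pi.mulSingle_eq_same, Pi.mulSingle_eq_same]
    · have h1 : (σ g).symm j ≠ i := fun h => hj (by rw [← h, Equiv.apply_symm_apply])
      rw [Pi.mulSingle_eq_of_ne h1, Pi.mulSingle_eq_of_ne hj, map_one]
  have hP : ∀ g x, g * Ψ x * g⁻¹ = Ψ (P g x) := by
    intro g x
    have := hom_ext_mulSingle (((MulAut.conj g).toMonoidHom).comp Ψ) (Ψ.comp (P g)) (by
      intro i t
      show g * Ψ (Pi.mulSingle i t) * g⁻¹ = Ψ (P g (Pi.mulSingle i t))
      rw [hPsingle, hΨs, hΨs, hϕ, hϕ, conjEquiv_coe]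
      group)
    exact DFunLike.congr_fun this x
  let cN : Γ → (N ≃* N) := fun g => MulAut.conjNormal g
  have hcN : ∀ g (n : N), ((cN g n : N) : Γ) = g * n * g⁻¹ :=
    fun g n => MulAut.conjNormal_apply g n
  let α : Γ → (Fin m → ↥T₁) ≃* (Fin m → ↥T₁) := fun g => e₀.symm.trans ((cN g).trans e₀)
  have hαsymm : ∀ g x, e₀.symm (α g x) = cN g (e₀.symm x) := by
    intro g x
    show e₀.symm (e₀ (cN g (e₀.symm x))) = _
    rw [MulEquiv.symm_apply_apply]
  have hα : ∀ g x, α g x = P g x := by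
    intro g x
    apply e₀.symm.injective
    apply Subtype.ext
    rw [hαsymm, hcN, he₀, he₀, hP]
  have hcoord : ∀ g x i, α g x (σ g i) = a g i (x i) := by
    intro g x i
    rw [hα]
    show a g ((σ g).symm (σ g i)) (x ((σ g).symm (σ g i))) = _
    rw [Equiv.symm_apply_apply]
  let D : Subgroup (Fin m → ↥T₁) := (K.subgroupOf N).map e₀.toMonoidHom
  have hDmem : ∀ x, x ∈ D ↔ ((e₀.symm x : N) : Γ) ∈ K := by
    intro x
    show x ∈ (K.subgroupOf N).map e₀.toMonoidHom ↔ _
    rw [Subgroup.mem_map_equiv, Subgroup.mem_subgroupOf]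
  have hDmem' : ∀ n : N, e₀ n ∈ D ↔ (n : Γ) ∈ K := by
    intro n
    rw [hDmem, MulEquiv.symm_apply_apply]
  have hconjK : ∀ (k : K) (n : N), ((cN k n : N) : Γ) ∈ K ↔ (n : Γ) ∈ K := by
    intro k n
    rw [hcN]
    constructor
    · intro h
      have := K.mul_mem (K.mul_mem (K.inv_mem k.2) h) k.2
      have h2 : (k : Γ)⁻¹ * (k * n * (k : Γ)⁻¹) * k = n := by group
      rwa [h2] at this
    · intro h
      exact K.mul_mem (K.mul_mem k.2 h) (K.inv_mem k.2)
  have hinv : ∀ (k : K) x, x ∈ D ↔ α k x ∈ D := by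
    intro k x
    rw [hDmem, hDmem, hαsymm, hconjK]
  have htrans : ∀ i j, ∃ k : K, σ k i = j := by
    intro i j
    obtain ⟨k, hk, n, hn, hkn⟩ := hNK (hh j * (hh i)⁻¹)
    refine ⟨⟨k, hk⟩, ?_⟩
    apply hSinj
    rw [hσ]
    show cj k (S i) = S j
    have hSi : IsMinIn N (S i) := by
      rw [hS i]
      exact isMinIn_cj hT (hh i)
    have h1 : cj n (S i) = S i := cj_eq_of_nnormal hSi.2.2.1 hn
    rw [← h1, cj_cj, ← hkn, hS i, cj_cj, hS j]
    congr 1
    group
  have hmax : ∀ X : Subgroup (Fin m → ↥T₁), D ≤ X →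
      (∀ (k : K) x, x ∈ X ↔ α k x ∈ X) → X = D ∨ X = ⊤ := by
    intro X hDX hXinv
    have hXK : ∀ (k : K) (n : N), e₀ n ∈ X → e₀ (cN k n) ∈ X := by
      intro k n hn
      have := (hXinv k (e₀ n)).mp hn
      have h2 : α k (e₀ n) = e₀ (cN k n) := by
        show e₀ (cN k (e₀.symm (e₀ n))) = _
        rw [MulEquiv.symm_apply_apply]
      rwa [h2] at this
    let L : Subgroup Γ :=
      { carrier := {g | ∃ n : N, e₀ n ∈ X ∧ ∃ k ∈ K, g = n * k}
        one_mem' := ⟨1, by rw [map_one]; exact X.one_mem, 1, K.one_mem, by simp⟩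
        mul_mem' := by
          rintro _ _ ⟨n, hn, k, hk, rfl⟩ ⟨n', hn', k', hk', rfl⟩
          refine ⟨n * cN k n', ?_, k * k', K.mul_mem hk hk', ?_⟩
          · rw [map_mul]
            exact X.mul_mem hn (hXK ⟨k, hk⟩ n' hn')
          · show (n : Γ) * k * (n' * k') = ((n * cN k n' : N) : Γ) * (k * k')
            rw [Subgroup.coe_mul, hcN]
            group
        inv_mem' := by
          rintro _ ⟨n, hn, k, hk, rfl⟩
          refine ⟨cN k⁻¹ n⁻¹, ?_, k⁻¹, K.inv_mem hk, ?_⟩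
          · apply hXK ⟨k⁻¹, K.inv_mem hk⟩
            rw [map_inv]
            exact X.inv_mem hn
          · rw [hcN, Subgroup.coe_inv]
            group }
    have hKL : K ≤ L := fun k hk =>
      ⟨1, by rw [map_one]; exact X.one_mem, k, hk, by simp⟩
    rcases eq_or_lt_of_le hKL with h | h
    · left
      apply le_antisymm _ hDX
      intro x hx
      rw [hDmem]
      have : ((e₀.symm x : N) : Γ) ∈ L :=
        ⟨e₀.symm x, by rw [MulEquiv.apply_symm_apply]; exact hx, 1, K.one_mem, by simp⟩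
      rw [← h] at this
      exact this
    · right
      have hLtop := hK.2 L h
      rw [eq_top_iff]
      intro x _
      have : ((e₀.symm x : N) : Γ) ∈ L := by rw [hLtop]; trivial
      obtain ⟨n, hn, k, hk, hnk⟩ := this
      have hkN : k ∈ N := by
        have : k = (n : Γ)⁻¹ * (e₀.symm x : N) := by rw [hnk]; group
        rw [this]
        exact N.mul_mem (N.inv_mem n.2) (e₀.symm x).2
      have hkX : e₀ ⟨k, hkN⟩ ∈ X := hDX ((hDmem' ⟨k, hkN⟩).mpr hk)
      have h3 : e₀.symm x = n * ⟨k, hkN⟩ := Subtype.ext hnk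
      have hx : x = e₀ (n * ⟨k, hkN⟩) := by rw [← h3, MulEquiv.apply_symm_apply]
      rw [hx, map_mul]
      exact X.mul_mem hn hkX
  have hDtop : D ≠ ⊤ := by
    intro h
    apply hNK'
    intro n hn
    have : e₀ ⟨n, hn⟩ ∈ D := by rw [h]; trivial
    exact (hDmem' ⟨n, hn⟩).mp this
  have hfinal := abstract_core hZ D hDtop (fun k : K => α k) (fun k : K => σ k)
    (fun k : K => a k) (fun k x i => hcoord k x i) hinv htrans hmax
  rcases hfinal with ⟨Ks, hKs, hmemKs⟩ | ⟨k, c, φ, hk, hfib, hmemφ⟩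
  · refine ⟨T₁, m, e₀, hsimple, hnabT', hm, Or.inl ⟨Ks, hKs, fun n => ?_⟩⟩
    rw [← hDmem', hmemKs]
  · refine ⟨T₁, m, e₀.trans (MulEquiv.piCongrRight φ), hsimple, hnabT', hm,
      Or.inr ⟨k, c, hk, hfib, fun n => ?_⟩⟩
    rw [← hDmem', hmemφ]
    rfl

end internal3

/-- The core of the O'Nan–Scott Theorem. Let `H` be a primitive permutation group on a finite set whose unique minimal normal subgroup `N` is non-abelian, and `K` a point stabiliser. Then there are a non-abelian simple group `T` and an isomorphism `N ≃* T^m` (`m ≥ 1`) under which `K ⊓ N` becomes either a product `∏ K_i` of proper subgroups `K_i < T`, or the set of functions constant on each block of a partition of the index set into blocks of one common size `k ≥ 2`. -/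
theorem result {α : Type*} [Finite α] (H : Subgroup (Equiv.Perm α)) [MulAction.IsPreprimitive H α] (N : Subgroup H) [N.Normal] (hN : N ≠ ⊥) (hmin : ∀ M : Subgroup H, M.Normal → M ≤ N → M = ⊥ ∨ M = N) (huniq : ∀ L : Subgroup H, L.Normal → L ≠ ⊥ → (∀ M : Subgroup H, M.Normal → M ≤ L → M = ⊥ ∨ M = L) → L = N) (hnab : ¬ IsMulCommutative N) (a : α) : ∃ (T : Type) (_ : Group T) (m : ℕ) (e : N ≃* (Fin m → T)), IsSimpleGroup T ∧ ¬ IsMulCommutative T ∧ 0 < m ∧ ((∃ K : Fin m → Subgroup T, (∀ i, K i ≠ ⊤) ∧ ∀ n : N, (n : H) ∈ MulAction.stabilizer H a ↔ ∀ i, e n i ∈ K i) ∨ (∃ (k : ℕ) (c : Fin m → Fin m), 2 ≤ k ∧ (∀ j : Fin m, Nat.card {i : Fin m // c i = j} = k ∨ Nat.card {i : Fin m // c i = j} = 0) ∧ ∀ n : N, (n : H) ∈ MulAction.stabilizer H a ↔ ∀ i j : Fin m, c i = c j → e n i = e n j)) := by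
  classical
  set K : Subgroup ↥H := MulAction.stabilizer ↥H a with hKdef
  obtain ⟨n₀, hn₀N, hn₀⟩ : ∃ n ∈ N, n ≠ 1 := by
    by_contra hcon
    push Not at hcon
    exact hN ((Subgroup.eq_bot_iff_forall _).mpr hcon)
  have hmove : ∃ x : α, n₀ • x ≠ x := by
    by_contra hcon
    push Not at hcon
    apply hn₀
    apply Subtype.ext
    ext x
    exact hcon x
  haveI : Nontrivial α := by
    obtain ⟨x, hx⟩ := hmove
    exact ⟨⟨n₀ • x, x, hx⟩⟩
  have hK : IsCoatom K := MulAction.IsPreprimitive.isCoatom_stabilizer_of_isPreprimitive _ a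
  haveI hNtrans : MulAction.IsPretransitive ↥N α := by
    apply MulAction.IsQuasiPreprimitive.isPretransitive_of_normal (G := ↥H) (X := α) (N := N)
    intro h
    obtain ⟨x, hx⟩ := hmove
    have hx' : x ∈ MulAction.fixedPoints ↥N α := by rw [h]; trivial
    exact hx (hx' ⟨n₀, hn₀N⟩)
  have hNK : ∀ g : ↥H, ∃ k ∈ K, ∃ n ∈ N, g = k * n := by
    intro g
    obtain ⟨n, hn⟩ := MulAction.exists_smul_eq ↥N a (g⁻¹ • a)
    refine ⟨g * n, ?_, (n : ↥H)⁻¹, N.inv_mem n.2, by group⟩
    rw [hKdef, MulAction.mem_stabilizer_iff, mul_smul]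
    have : (n : ↥H) • a = g⁻¹ • a := hn
    rw [this, smul_inv_smul]
  have hNK' : ¬ N ≤ K := by
    intro hle
    obtain ⟨x, y, hxy⟩ := exists_pair_ne α
    obtain ⟨n, hn⟩ := MulAction.exists_smul_eq ↥N a x
    obtain ⟨n', hn'⟩ := MulAction.exists_smul_eq ↥N a y
    have h1 : (n : ↥H) • a = a := hle n.2
    have h2 : (n' : ↥H) • a = a := hle n'.2
    apply hxy
    rw [← hn, ← hn']
    show (n : ↥H) • a = (n' : ↥H) • a
    rw [h1, h2]
  obtain ⟨T₁, m, e₁, hsimple, hnabT, hm, hcases⟩ :=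
    internal_core N hN hmin hnab K hK hNK hNK'
  haveI : IsSimpleGroup ↥T₁ := hsimple
  let sh : Shrink.{0} ↥T₁ ≃* ↥T₁ := Shrink.mulEquiv
  refine ⟨Shrink.{0} ↥T₁, inferInstance, m,
    e₁.trans (MulEquiv.piCongrRight fun _ => sh.symm), sh.isSimpleGroup, ?_, hm, ?_⟩
  · intro h
    apply hnabT
    rw [isMulCommutative_iff] at h ⊢
    intro x y
    have := h (sh.symm x) (sh.symm y)
    rw [← map_mul, ← map_mul] at this
    exact sh.symm.injective this
  · rcases hcases with ⟨Ks, hKs, hmem⟩ | ⟨k, c, hk, hfib, hmem⟩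
    · left
      refine ⟨fun i => (Ks i).map sh.symm.toMonoidHom, ?_, fun n => ?_⟩
      · intro i hi
        apply hKs i
        rw [eq_top_iff]
        intro t _
        have hi' : (Ks i).map sh.symm.toMonoidHom = ⊤ := hi
        have : sh.symm t ∈ (Ks i).map sh.symm.toMonoidHom := by rw [hi']; trivial
        rw [Subgroup.mem_map_equiv, MulEquiv.symm_symm, MulEquiv.apply_symm_apply] at this
        exact this
      · rw [hmem n]
        constructor
        · intro h i
          rw [Subgroup.mem_map_equiv]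
          show sh.symm.symm (sh.symm (e₁ n i)) ∈ Ks i
          rw [MulEquiv.symm_symm, MulEquiv.apply_symm_apply]
          exact h i
        · intro h i
          have h1 := h i
          rw [Subgroup.mem_map_equiv] at h1
          have h2 : sh.symm.symm (sh.symm (e₁ n i)) ∈ Ks i := h1
          rw [MulEquiv.symm_symm, MulEquiv.apply_symm_apply] at h2
          exact h2
    · right
      refine ⟨k, c, hk, hfib, fun n => ?_⟩
      rw [hmem n]
      constructor
      · intro h i j hij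
        show sh.symm (e₁ n i) = sh.symm (e₁ n j)
        rw [h i j hij]
      · intro h i j hij
        exact sh.symm.injective (h i j hij)

end Cfsg.Agent.S0723
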