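import Mathlib
import Cfsg.Statements.S0724
-- import your own Cfsg.Agent.* helpers here

set_option autoImplicit false
open Cfsg

namespace Cfsg.Agent.S0724

/-- Fixed points of `g` on tuples are tuples of fixed points. -/
def fixedByPiEquiv {G α : Type*} [Group G] [MulAction G α] (k : ℕ) (g : G) :
    MulAction.fixedBy (Fin k → α) g ≃ (Fin k → MulAction.fixedBy α g) where
  toFun f := fun i => ⟨f.1 i, congrFun f.2 i⟩
  invFun h := ⟨fun i => (h i).1, funext fun i => (h i).2⟩
  left_inv f := rfl
  right_inv h := rfl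

/-- Burnside's lemma on tuples: `|G|` divides `∑ fix(g) ^ k`. -/
theorem card_dvd_sum_pow {G α : Type*} [Group G] [Fintype G] [MulAction G α] [Finite α] (k : ℕ) :
    (Nat.card G : ℤ) ∣ ∑ g : G, (Nat.card (MulAction.fixedBy α g) : ℤ) ^ k := by
  classical
  have : Fintype α := Fintype.ofFinite α
  have : Fintype (MulAction.orbitRel.Quotient G (Fin k → α)) := Fintype.ofFinite _
  have hB := MulAction.sum_card_fixedBy_eq_card_orbits_mul_card_group G (Fin k → α)
  have hcard : ∀ g : G, Fintype.card (MulAction.fixedBy (Fin k → α) g) =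
      Nat.card (MulAction.fixedBy α g) ^ k := by
    intro g
    rw [← Nat.card_eq_fintype_card, Nat.card_congr (fixedByPiEquiv k g), Nat.card_fun,
      Nat.card_eq_fintype_card (α := Fin k), Fintype.card_fin]
  have h2 : (∑ g : G, (Nat.card (MulAction.fixedBy α g) : ℤ) ^ k) =
      ((∑ g : G, Fintype.card (MulAction.fixedBy (Fin k → α) g) : ℕ) : ℤ) := by
    push_cast
    apply Finset.sum_congr rfl
    intro g _
    rw [hcard g]; push_cast; rfl
  rw [h2, hB, Nat.card_eq_fintype_card]
  push_cast
  exact dvd_mul_left _ _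

theorem card_dvd_sum_pow_mul_prod {G α : Type*} [Group G] [Fintype G] [MulAction G α] [Finite α]
    (L : Finset ℕ) : ∀ k : ℕ, (Nat.card G : ℤ) ∣
      ∑ g : G, (Nat.card (MulAction.fixedBy α g) : ℤ) ^ k *
        ∏ l ∈ L, ((Nat.card (MulAction.fixedBy α g) : ℤ) - l) := by
  classical
  induction L using Finset.induction_on with
  | empty =>
    intro k
    simp only [Finset.prod_empty, mul_one]
    exact card_dvd_sum_pow k
  | insert a L ha ih =>
    intro k
    have h1 := ih (k + 1)
    have h2 := ih k
    have : (∑ g : G, (Nat.card (MulAction.fixedBy α g) : ℤ) ^ k *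
        ∏ l ∈ insert a L, ((Nat.card (MulAction.fixedBy α g) : ℤ) - l)) =
        (∑ g : G, (Nat.card (MulAction.fixedBy α g) : ℤ) ^ (k + 1) *
          ∏ l ∈ L, ((Nat.card (MulAction.fixedBy α g) : ℤ) - l)) -
        (a : ℤ) * ∑ g : G, (Nat.card (MulAction.fixedBy α g) : ℤ) ^ k *
          ∏ l ∈ L, ((Nat.card (MulAction.fixedBy α g) : ℤ) - l) := by
      rw [Finset.mul_sum, ← Finset.sum_sub_distrib]
      apply Finset.sum_congr rfl
      intro g _
      rw [Finset.prod_insert ha]
      ring
    rw [this]
    exact dvd_sub h1 (Dvd.dvd.mul_left h2 _)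

/-- Blichfeldt's Theorem: if a finite set `L` of natural numbers contains the number of fixed points of every non-identity element of a permutation group `G` of degree `n`, then the order of `G` divides `∏ (n - l)` over `l ∈ L`. -/
theorem result {α : Type*} [Fintype α] [DecidableEq α] (G : Subgroup (Equiv.Perm α)) (L : Finset ℕ) (hL : ∀ g ∈ G, g ≠ 1 → Nat.card (MulAction.fixedBy α g) ∈ L) : Nat.card G ∣ ∏ l ∈ L, (Fintype.card α - l) := by
  classical
  have : Fintype G := Fintype.ofFinite G
  have key := card_dvd_sum_pow_mul_prod (G := G) (α := α) L 0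
  simp only [pow_zero, one_mul] at key
  -- all terms with g ≠ 1 vanish
  have hsum : (∑ g : G, ∏ l ∈ L, ((Nat.card (MulAction.fixedBy α g) : ℤ) - l)) =
      ∏ l ∈ L, ((Fintype.card α : ℤ) - l) := by
    rw [Finset.sum_eq_single (1 : G)]
    · have : Nat.card (MulAction.fixedBy α (1 : G)) = Fintype.card α := by
        rw [MulAction.fixedBy_one_eq_univ, Nat.card_coe_set_eq, Set.ncard_univ, Nat.card_eq_fintype_card]
      rw [this]
    · intro g _ hg
      have hg' : (g : Equiv.Perm α) ≠ 1 := fun h => hg (Subtype.ext h)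
      have hmem := hL g g.2 hg'
      apply Finset.prod_eq_zero hmem
      have : MulAction.fixedBy α g = MulAction.fixedBy α (g : Equiv.Perm α) := rfl
      rw [this, sub_self]
    · intro h; exact absurd (Finset.mem_univ _) h
  rw [hsum] at key
  by_cases hbig : ∃ l ∈ L, Fintype.card α ≤ l
  · obtain ⟨l, hl, hle⟩ := hbig
    rw [Finset.prod_eq_zero hl (Nat.sub_eq_zero_of_le hle)]
    exact dvd_zero _
  · push Not at hbig
    have hcast : ((∏ l ∈ L, (Fintype.card α - l) : ℕ) : ℤ) = ∏ l ∈ L, ((Fintype.card α : ℤ) - l) := by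
      rw [Nat.cast_prod]
      apply Finset.prod_congr rfl
      intro l hl
      rw [Nat.cast_sub (hbig l hl).le]
    rw [← hcast] at key
    exact Int.natCast_dvd_natCast.1 key

end Cfsg.Agent.S0724
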