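import Mathlib
import Cfsg.Statements.S0726

set_option autoImplicit false
open Cfsg

namespace Cfsg.Agent.S0726

theorem mem_cent_iff {G : Type*} [Group G] (c : Equiv.Perm G) :
    c ∈ Subgroup.centralizer ((MulAction.toPermHom G G).range : Set (Equiv.Perm G)) ↔
      ∀ g x : G, c (g * x) = g * c x := by
  rw [Subgroup.mem_centralizer_iff]
  constructor
  · intro h g x
    have := h (MulAction.toPermHom G G g) ⟨g, rfl⟩
    have := congrArg (fun f : Equiv.Perm G => f x) this
    simpa using this.symm
  · rintro h _ ⟨g, rfl⟩
    ext x
    simp [h g x]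

theorem cent_eq_right {G : Type*} [Group G] (c : Equiv.Perm G)
    (hc : c ∈ Subgroup.centralizer ((MulAction.toPermHom G G).range : Set (Equiv.Perm G))) :
    c = MulAction.toPermHom Gᵐᵒᵖ G (MulOpposite.op (c 1)) := by
  rw [mem_cent_iff] at hc
  ext x
  have := hc x 1
  rw [mul_one] at this
  simp [this]

/-- The left and right regular permutation representations of a group are each other's centralisers in the symmetric group: the centraliser of the left regular image is the right regular image, and a transitive subgroup centralising the left regular image is the whole right regular image. -/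
theorem result {G : Type*} [Group G] : Subgroup.centralizer ((MulAction.toPermHom G G).range : Set (Equiv.Perm G)) = (MulAction.toPermHom Gᵐᵒᵖ G).range ∧ ∀ H : Subgroup (Equiv.Perm G), H ≤ Subgroup.centralizer ((MulAction.toPermHom G G).range : Set (Equiv.Perm G)) → MulAction.IsPretransitive H G → H = (MulAction.toPermHom Gᵐᵒᵖ G).range := by
  have h1 : Subgroup.centralizer ((MulAction.toPermHom G G).range : Set (Equiv.Perm G)) = (MulAction.toPermHom Gᵐᵒᵖ G).range := by
    apply le_antisymm
    · intro c hc
      exact ⟨MulOpposite.op (c 1), (cent_eq_right c hc).symm⟩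
    · rintro _ ⟨a, rfl⟩
      rw [mem_cent_iff]
      intro g x
      simp [mul_assoc]
  refine ⟨h1, ?_⟩
  intro H hH htrans
  apply le_antisymm
  · rw [← h1]; exact hH
  · rintro _ ⟨a, rfl⟩
    obtain ⟨h, hh⟩ := htrans.exists_smul_eq (1 : G) (MulOpposite.unop a)
    have hh' : (h : Equiv.Perm G) 1 = MulOpposite.unop a := hh
    have := cent_eq_right (h : Equiv.Perm G) (hH h.2)
    rw [hh', MulOpposite.op_unop] at this
    rw [← this]
    exact h.2

end Cfsg.Agent.S0726
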