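import Mathlib
import Cfsg.Statements.S0733
-- import your own Cfsg.Agent.* helpers here

set_option autoImplicit false
open Cfsg

namespace Cfsg.Agent.S0733

open MulAction
open scoped Pointwise

theorem smul_mem_of_block {V : Type*} {G : Subgroup (Equiv.Perm V)} {B : Set V}
    (hB : IsBlock G B) (σ : G) {u : V} (hu : u ∈ B) (hσu : σ • u ∈ B) {v : V} (hv : v ∈ B) :
    σ • v ∈ B := by
  have h1 : σ • B = B := (isBlock_iff_smul_eq_of_mem.mp hB) hu hσu
  rw [← h1]
  exact ⟨v, hv, rfl⟩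

theorem forward {p : ℕ} [Fact p.Prime] {V : Type*} [AddCommGroup V] [Module (ZMod p) V]
    (G₀ : Subgroup (V ≃ₗ[ZMod p] V)) (G : Subgroup (Equiv.Perm V))
    (hG : ∀ σ : Equiv.Perm V, σ ∈ G ↔ ∃ g ∈ G₀, ∃ b : V, ∀ x : V,
      σ x = (g : V ≃ₗ[ZMod p] V) x + b)
    (hprim : MulAction.IsPreprimitive G V) (W : Submodule (ZMod p) V)
    (hW : ∀ g ∈ G₀, ∀ v ∈ W, (g : V ≃ₗ[ZMod p] V) v ∈ W) : W = ⊥ ∨ W = ⊤ := by
  have hB : IsBlock G (W : Set V) := by
    rw [isBlock_iff_smul_eq_of_mem]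
    intro σ w hw hσw
    obtain ⟨g, hg, b, hσ⟩ := (hG σ.1).mp σ.2
    have hσ' : ∀ x : V, σ • x = g x + b := hσ
    have hb : b ∈ W := by
      have h1 : g w ∈ W := hW g hg w hw
      have h2 : b = σ • w - g w := by rw [hσ' w]; abel
      rw [h2]
      exact W.sub_mem hσw h1
    ext y
    constructor
    · rintro ⟨v, hv, rfl⟩
      show σ • v ∈ W
      rw [hσ' v]
      exact W.add_mem (hW g hg v hv) hb
    · intro hy
      refine ⟨g⁻¹ (y - b), ?_, ?_⟩
      · exact hW g⁻¹ (G₀.inv_mem hg) _ (W.sub_mem hy hb)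
      · show σ • _ = y
        rw [hσ' _]
        have : g (g⁻¹ (y - b)) = y - b := by
          rw [← LinearEquiv.mul_apply, mul_inv_cancel, LinearEquiv.coe_one, id]
        rw [this]
        abel
  rcases hprim.isTrivialBlock_of_isBlock hB with h | h
  · left
    rw [Submodule.eq_bot_iff]
    intro x hx
    exact h hx W.zero_mem
  · right
    rw [Submodule.eq_top_iff']
    intro x
    have : x ∈ (W : Set V) := by rw [h]; trivial
    exact this

theorem backward {p : ℕ} [Fact p.Prime] {V : Type*} [AddCommGroup V] [Module (ZMod p) V]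
    (G₀ : Subgroup (V ≃ₗ[ZMod p] V)) (G : Subgroup (Equiv.Perm V))
    (hG : ∀ σ : Equiv.Perm V, σ ∈ G ↔ ∃ g ∈ G₀, ∃ b : V, ∀ x : V,
      σ x = (g : V ≃ₗ[ZMod p] V) x + b)
    (hirr : ∀ W : Submodule (ZMod p) V,
      (∀ g ∈ G₀, ∀ v ∈ W, (g : V ≃ₗ[ZMod p] V) v ∈ W) → W = ⊥ ∨ W = ⊤) :
    MulAction.IsPreprimitive G V := by
  -- translations and linear maps as elements of G
  have htr : ∀ b : V, ∃ τ : G, ∀ x : V, τ • x = x + b := by
    intro b
    refine ⟨⟨Equiv.addRight b, (hG _).mpr ⟨1, G₀.one_mem, b, fun x => ?_⟩⟩, fun x => rfl⟩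
    simp
  have hlin : ∀ g ∈ G₀, ∃ σ : G, ∀ x : V, σ • x = (g : V ≃ₗ[ZMod p] V) x := by
    intro g hg
    refine ⟨⟨g.toEquiv, (hG _).mpr ⟨g, hg, 0, fun x => ?_⟩⟩, fun x => rfl⟩
    simp
  have htrans : IsPretransitive G V := by
    refine ⟨fun x y => ?_⟩
    obtain ⟨τ, hτ⟩ := htr (y - x)
    exact ⟨τ, by rw [hτ]; abel⟩
  refine { toIsPretransitive := htrans, isTrivialBlock_of_isBlock := ?_ }
  intro B hB
  rcases B.eq_empty_or_nonempty with rfl | ⟨b₀, hb₀⟩
  · left
    exact Set.subsingleton_empty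
  obtain ⟨τ, hτ⟩ := htr (-b₀)
  rw [← IsTrivialBlock.smul_iff τ]
  have hB' : IsBlock G (τ • B) := hB.translate τ
  have h0 : (0 : V) ∈ τ • B := ⟨b₀, hb₀, by show τ • b₀ = 0; rw [hτ]; abel⟩
  let A : AddSubgroup V :=
    { carrier := τ • B
      zero_mem' := h0
      add_mem' := by
        intro u v hu hv
        obtain ⟨τv, hτv⟩ := htr v
        have := smul_mem_of_block hB' τv h0 (by rw [hτv, zero_add]; exact hv) hu
        rwa [hτv] at this
      neg_mem' := by
        intro u hu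
        obtain ⟨τu, hτu⟩ := htr (-u)
        have := smul_mem_of_block hB' τu hu (by rw [hτu, add_neg_cancel]; exact h0) h0
        rwa [hτu, zero_add] at this }
  have hWinv : ∀ g ∈ G₀, ∀ v ∈ AddSubgroup.toZModSubmodule p A,
      (g : V ≃ₗ[ZMod p] V) v ∈ AddSubgroup.toZModSubmodule p A := by
    intro g hg v hv
    obtain ⟨σ, hσ⟩ := hlin g hg
    have hv' : v ∈ τ • B := hv
    have := smul_mem_of_block hB' σ h0 (by rw [hσ, map_zero]; exact h0) hv'
    rw [hσ] at this
    exact this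
  rcases hirr _ hWinv with h | h
  · left
    intro x hx y hy
    have hx' : x ∈ AddSubgroup.toZModSubmodule p A := hx
    have hy' : y ∈ AddSubgroup.toZModSubmodule p A := hy
    rw [h, Submodule.mem_bot] at hx' hy'
    rw [hx', hy']
  · right
    ext x
    simp only [Set.mem_univ, iff_true]
    have hx' : x ∈ AddSubgroup.toZModSubmodule p A := by rw [h]; trivial
    exact hx'

/-- A permutation group of affine type — generated by the translations of a finite vector space `V` over `ZMod p` together with a group `G₀` of linear automorphisms — is primitive on `V` if and only if `G₀` is irreducible on `V`. -/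
theorem result {p : ℕ} [Fact p.Prime] {V : Type*} [AddCommGroup V] [Module (ZMod p) V] [Finite V] [Nontrivial V] (G₀ : Subgroup (V ≃ₗ[ZMod p] V)) (G : Subgroup (Equiv.Perm V)) (hG : ∀ σ : Equiv.Perm V, σ ∈ G ↔ ∃ g ∈ G₀, ∃ b : V, ∀ x : V, σ x = (g : V ≃ₗ[ZMod p] V) x + b) : MulAction.IsPreprimitive G V ↔ ∀ W : Submodule (ZMod p) V, (∀ g ∈ G₀, ∀ v ∈ W, (g : V ≃ₗ[ZMod p] V) v ∈ W) → W = ⊥ ∨ W = ⊤ := by
  constructor
  · intro hprim W hW
    exact forward G₀ G hG hprim W hW
  · intro hirr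
    exact backward G₀ G hG hirr

end Cfsg.Agent.S0733
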