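import Mathlib
import Cfsg.Statements.S0734
-- import your own Cfsg.Agent.* helpers here

set_option autoImplicit false
open Cfsg

namespace Cfsg.Agent.S0734

open scoped Pointwise

/-- the orbital graph of a pair -/
abbrev orbGraph (G : Type*) [Group G] {Ω : Type*} [MulAction G Ω] (a b : Ω) : SimpleGraph Ω :=
  SimpleGraph.fromRel fun x y : Ω => ∃ g : G, g • a = x ∧ g • b = y

theorem orbGraph_adj_smul {G : Type*} [Group G] {Ω : Type*} [MulAction G Ω] (a b : Ω) (g : G)
    {x y : Ω} (h : (orbGraph G a b).Adj x y) : (orbGraph G a b).Adj (g • x) (g • y) := by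
  rw [SimpleGraph.fromRel_adj] at h ⊢
  refine ⟨fun e => h.1 (MulAction.injective g e), ?_⟩
  rcases h.2 with ⟨k, hk1, hk2⟩ | ⟨k, hk1, hk2⟩
  · left; exact ⟨g * k, by rw [mul_smul, hk1], by rw [mul_smul, hk2]⟩
  · right; exact ⟨g * k, by rw [mul_smul, hk1], by rw [mul_smul, hk2]⟩

theorem orbGraph_reachable_smul {G : Type*} [Group G] {Ω : Type*} [MulAction G Ω] (a b : Ω)
    (g : G) {x y : Ω} (h : (orbGraph G a b).Reachable x y) :
    (orbGraph G a b).Reachable (g • x) (g • y) := by
  rw [SimpleGraph.reachable_iff_reflTransGen] at h ⊢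
  induction h with
  | refl => exact Relation.ReflTransGen.refl
  | tail _ hyz ih => exact Relation.ReflTransGen.tail ih (orbGraph_adj_smul a b g hyz)

/-- Higman's criterion for primitivity: a transitive action on a finite set is primitive if and only if every non-trivial orbital graph (edges = images of a fixed pair of distinct points) is connected. -/
theorem result {G : Type*} [Group G] {Ω : Type*} [Finite Ω] [MulAction G Ω] [MulAction.IsPretransitive G Ω] [Nontrivial Ω] : MulAction.IsPreprimitive G Ω ↔ ∀ a b : Ω, a ≠ b → (SimpleGraph.fromRel fun x y : Ω => ∃ g : G, g • a = x ∧ g • b = y).Connected := by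
  constructor
  · intro hprim a b hab
    haveI : Nonempty Ω := ⟨a⟩
    refine SimpleGraph.Connected.mk ?_
    set Γ := orbGraph G a b with hΓ
    set B : Set Ω := {x | Γ.Reachable a x} with hB
    have hsub : ∀ (g : G) (x : Ω), x ∈ B → g • x ∈ B → g • B ⊆ B := by
      intro g x hx hgx
      rintro _ ⟨y, hy, rfl⟩
      have h1 : Γ.Reachable x y := hx.symm.trans hy
      have h2 : Γ.Reachable (g • x) (g • y) := orbGraph_reachable_smul a b g h1
      exact SimpleGraph.Reachable.trans hgx h2
    have hblock : MulAction.IsBlock G B := by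
      rw [MulAction.isBlock_iff_smul_eq_of_mem]
      intro g x hx hgx
      apply Set.Subset.antisymm (hsub g x hx hgx)
      have h3 := hsub g⁻¹ (g • x) hgx (by rw [inv_smul_smul]; exact hx)
      intro y hy
      have : g⁻¹ • y ∈ B := h3 ⟨y, hy, rfl⟩
      exact ⟨g⁻¹ • y, this, smul_inv_smul g y⟩
    have haB : a ∈ B := SimpleGraph.Reachable.refl a
    have hbB : b ∈ B := by
      apply SimpleGraph.Adj.reachable
      rw [SimpleGraph.fromRel_adj]
      exact ⟨hab, Or.inl ⟨1, one_smul _ _, one_smul _ _⟩⟩
    have huniv : B = Set.univ := by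
      rcases hprim.isTrivialBlock_of_isBlock hblock with h | h
      · exact absurd (h haB hbB) hab
      · exact h
    intro x y
    have hx : x ∈ B := by rw [huniv]; trivial
    have hy : y ∈ B := by rw [huniv]; trivial
    exact SimpleGraph.Reachable.trans (SimpleGraph.Reachable.symm hx) hy
  · intro hconn
    refine { toIsPretransitive := inferInstance, isTrivialBlock_of_isBlock := ?_ }
    intro B hB
    by_cases hsub : B.Subsingleton
    · left; exact hsub
    right
    rw [Set.not_subsingleton_iff] at hsub
    obtain ⟨a, ha, b, hb, hab⟩ := hsub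
    have hc := hconn a b hab
    -- adjacent points lie in the same translate
    have hadj : ∀ x y : Ω, (orbGraph G a b).Adj x y → ∀ g : G, x ∈ g • B → y ∈ g • B := by
      intro x y hxy g hxg
      rw [SimpleGraph.fromRel_adj] at hxy
      rcases hxy.2 with ⟨k, hk1, hk2⟩ | ⟨k, hk1, hk2⟩
      · have hxk : x ∈ k • B := by rw [← hk1]; exact Set.smul_mem_smul_set ha
        have hyk : y ∈ k • B := by rw [← hk2]; exact Set.smul_mem_smul_set hb
        have := hB.smul_eq_smul_of_nonempty (g₁ := g) (g₂ := k) ⟨x, hxg, hxk⟩
        rw [this]; exact hyk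
      · have hxk : x ∈ k • B := by rw [← hk2]; exact Set.smul_mem_smul_set hb
        have hyk : y ∈ k • B := by rw [← hk1]; exact Set.smul_mem_smul_set ha
        have := hB.smul_eq_smul_of_nonempty (g₁ := g) (g₂ := k) ⟨x, hxg, hxk⟩
        rw [this]; exact hyk
    have hreach : ∀ x y : Ω, (orbGraph G a b).Reachable x y → ∀ g : G, x ∈ g • B → y ∈ g • B := by
      intro x y hxy
      rw [SimpleGraph.reachable_iff_reflTransGen] at hxy
      induction hxy with
      | refl => exact fun g h => h
      | tail _ hyz ih => exact fun g h => hadj _ _ hyz g (ih g h)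
    rw [Set.eq_univ_iff_forall]
    intro y
    have := hreach a y (hc.preconnected a y) 1 (by rw [one_smul]; exact ha)
    rwa [one_smul] at this

end Cfsg.Agent.S0734
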