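import Mathlib
import Cfsg.Statements.S0735
-- import your own Cfsg.Agent.* helpers here

set_option autoImplicit false
open Cfsg

namespace Cfsg.Agent.S0735

open scoped Pointwise

theorem pair_trans {α : Type*} [Fintype α] [DecidableEq α] (G : Subgroup (Equiv.Perm α))
    (h2 : MulAction.IsPretransitive G (Set.powersetCard α 2)) (a b c d : α) (hab : a ≠ b)
    (hcd : c ≠ d) : ∃ g : G, (g • a = c ∧ g • b = d) ∨ (g • a = d ∧ g • b = c) := by
  have hc1 : ({a, b} : Finset α).card = 2 := Finset.card_pair hab
  have hc2 : ({c, d} : Finset α).card = 2 := Finset.card_pair hcd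
  obtain ⟨g, hg⟩ := h2.exists_smul_eq (Set.powersetCard.ofCard hc1) (Set.powersetCard.ofCard hc2)
  have hg' : g • ({a, b} : Finset α) = {c, d} := by
    have := congrArg Subtype.val hg
    exact this
  rw [Finset.smul_finset_insert, Finset.smul_finset_singleton] at hg'
  refine ⟨g, ?_⟩
  have ha : g • a ∈ ({c, d} : Finset α) := by rw [← hg']; simp
  have hb : g • b ∈ ({c, d} : Finset α) := by rw [← hg']; simp
  have hne : g • a ≠ g • b := fun h => hab (MulAction.injective g h)
  simp only [Finset.mem_insert, Finset.mem_singleton] at ha hb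
  rcases ha with ha | ha <;> rcases hb with hb | hb
  · exact absurd (ha.trans hb.symm) hne
  · left; exact ⟨ha, hb⟩
  · right; exact ⟨ha, hb⟩
  · exact absurd (ha.trans hb.symm) hne

/-- A 2-homogeneous permutation group (transitive on 2-subsets) of even order is doubly transitive; a non-trivial 2-homogeneous group is primitive. -/
theorem result {α : Type*} [Fintype α] [DecidableEq α] (G : Subgroup (Equiv.Perm α)) (h2 : MulAction.IsPretransitive G (Set.powersetCard α 2)) (hα : 3 ≤ Fintype.card α) : (Even (Nat.card G) → MulAction.IsMultiplyPretransitive G α 2) ∧ (G ≠ ⊥ → MulAction.IsPreprimitive G α) := by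
  constructor
  · intro heven
    haveI : Fact (Nat.Prime 2) := ⟨Nat.prime_two⟩
    obtain ⟨t, ht⟩ := exists_prime_orderOf_dvd_card' 2 heven.two_dvd
    have ht1 : t ≠ 1 := by
      intro h
      rw [h, orderOf_one] at ht
      omega
    have ht2 : t * t = 1 := by rw [← sq, ← ht, pow_orderOf_eq_one]
    obtain ⟨a, ha⟩ : ∃ a : α, t • a ≠ a := by
      by_contra hall
      push Not at hall
      apply ht1
      apply Subtype.ext
      ext x
      exact hall x
    set b := t • a with hb
    have htb : t • b = a := by rw [hb, ← mul_smul, ht2, one_smul]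
    have key : ∀ c d : α, c ≠ d → ∃ g : G, g • a = c ∧ g • b = d := by
      intro c d hcd
      obtain ⟨g, hg | hg⟩ := pair_trans G h2 a b c d (Ne.symm ha) hcd
      · exact ⟨g, hg⟩
      · refine ⟨g * t, ?_, ?_⟩
        · rw [mul_smul, ← hb, hg.2]
        · rw [mul_smul, htb, hg.1]
    rw [MulAction.is_two_pretransitive_iff]
    intro a' b' c d hab' hcd
    obtain ⟨g₁, hg₁a, hg₁b⟩ := key a' b' hab'
    obtain ⟨g₂, hg₂a, hg₂b⟩ := key c d hcd
    refine ⟨g₂ * g₁⁻¹, ?_, ?_⟩
    · rw [mul_smul, ← hg₁a, inv_smul_smul, hg₂a]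
    · rw [mul_smul, ← hg₁b, inv_smul_smul, hg₂b]
  · intro _
    have htrans : MulAction.IsPretransitive G α := by
      constructor
      intro a b
      by_cases hab : a = b
      · exact ⟨1, by rw [one_smul, hab]⟩
      obtain ⟨c, hc⟩ : ∃ c : α, c ≠ a ∧ c ≠ b := by
        have h1 : ({a, b} : Finset α).card < Fintype.card α :=
          lt_of_le_of_lt (Finset.card_le_two) (by omega)
        obtain ⟨c, -, hc⟩ := Finset.exists_mem_notMem_of_card_lt_card
          (s := ({a, b} : Finset α)) (t := Finset.univ) (by rw [Finset.card_univ]; exact h1)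
        simp only [Finset.mem_insert, Finset.mem_singleton, not_or] at hc
        exact ⟨c, hc.1, hc.2⟩
      obtain ⟨g, hg | hg⟩ := pair_trans G h2 a c b c (Ne.symm hc.1) (Ne.symm hc.2)
      · exact ⟨g, hg.1⟩
      · exact ⟨g * g, by rw [mul_smul, hg.1, hg.2]⟩
    refine { toIsPretransitive := htrans, isTrivialBlock_of_isBlock := ?_ }
    intro B hB
    by_cases hsub : B.Subsingleton
    · left; exact hsub
    right
    rw [Set.not_subsingleton_iff] at hsub
    obtain ⟨a, ha, b, hb, hab⟩ := hsub
    rw [Set.eq_univ_iff_forall]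
    intro c
    by_contra hc
    have hca : c ≠ a := fun h => hc (h ▸ ha)
    rw [MulAction.isBlock_iff_smul_eq_of_mem] at hB
    obtain ⟨g, hg | hg⟩ := pair_trans G h2 a b a c hab (Ne.symm hca)
    · have h1 : g • B = B := hB ha (by rw [hg.1]; exact ha)
      apply hc
      rw [← h1, ← hg.2]
      exact Set.smul_mem_smul_set hb
    · have h1 : g • B = B := hB hb (by rw [hg.2]; exact ha)
      apply hc
      rw [← h1, ← hg.1]
      exact Set.smul_mem_smul_set ha

end Cfsg.Agent.S0735
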