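import Mathlib
import Cfsg.Statements.S0736
-- import your own Cfsg.Agent.* helpers here

set_option autoImplicit false
open Cfsg

namespace Cfsg.Agent.S0736

theorem not_dvd_choose (p : ℕ) (hp : p.Prime) :
    ∀ (j m : ℕ), p ^ j ∣ m → ¬ p ∣ Nat.choose (m + p ^ j - 1) (p ^ j - 1) := by
  haveI : Fact p.Prime := ⟨hp⟩
  intro j
  induction j with
  | zero =>
    intro m _
    simp only [pow_zero, Nat.sub_self, Nat.choose_zero_right]
    intro h
    exact hp.one_lt.ne' (Nat.dvd_one.mp h)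
  | succ j ih =>
    intro m hm
    obtain ⟨t, rfl⟩ : p ∣ m := dvd_trans (dvd_pow_self p (Nat.succ_ne_zero j)) hm
    have ht : p ^ j ∣ t := by
      rw [pow_succ'] at hm
      exact (Nat.mul_dvd_mul_iff_left hp.pos).mp hm
    have hpj : 1 ≤ p ^ j := Nat.one_le_pow _ _ hp.pos
    obtain ⟨u, hu⟩ : ∃ u, t + p ^ j = u + 1 := ⟨t + p ^ j - 1, by omega⟩
    obtain ⟨v, hv⟩ : ∃ v, p ^ j = v + 1 := ⟨p ^ j - 1, by omega⟩
    have hppos := hp.pos
    have h1 : p * t + p ^ (j + 1) - 1 = p * u + (p - 1) := by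
      have : p * t + p ^ (j + 1) = p * u + p := by
        rw [pow_succ', ← mul_add, hu, mul_add, mul_one]
      omega
    have h2 : p ^ (j + 1) - 1 = p * v + (p - 1) := by
      have : p ^ (j + 1) = p * v + p := by rw [pow_succ', hv, mul_add, mul_one]
      omega
    have hlt : p - 1 < p := Nat.sub_lt hp.pos one_pos
    have hL := Choose.choose_modEq_choose_mod_mul_choose_div_nat
      (n := p * t + p ^ (j + 1) - 1) (k := p ^ (j + 1) - 1) (p := p)
    rw [h1, h2] at hL
    rw [Nat.mul_add_mod, Nat.mul_add_mod, Nat.mod_eq_of_lt hlt, Nat.mul_add_div hp.pos,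
      Nat.mul_add_div hp.pos,
      Nat.div_eq_of_lt hlt, Nat.choose_self, one_mul, add_zero, add_zero] at hL
    intro hdvd
    rw [h1, h2] at hdvd
    have h0 := (Nat.modEq_zero_iff_dvd).mpr hdvd
    have h3 : p ∣ Nat.choose u v := (Nat.modEq_zero_iff_dvd).mp (hL.symm.trans h0)
    have hu' : t + p ^ j - 1 = u := by omega
    have hv' : p ^ j - 1 = v := by omega
    apply ih t ht
    rw [hu', hv']
    exact h3

section
variable {α : Type*} [DecidableEq α]

theorem card_filter_superset (S A : Finset α) (k : ℕ) (hk : 1 ≤ k) (hA : A.card = k - 1)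
    (hAS : A ⊆ S) :
    ((S.powersetCard k).filter (fun Γ => A ⊆ Γ)).card = S.card - (k - 1) := by
  have hset : (S.powersetCard k).filter (fun Γ => A ⊆ Γ) =
      (S \ A).image (fun x => insert x A) := by
    ext Γ
    simp only [Finset.mem_filter, Finset.mem_powersetCard, Finset.mem_image, Finset.mem_sdiff]
    constructor
    · rintro ⟨⟨hΓS, hΓk⟩, hAΓ⟩
      have h1 : (Γ \ A).card = 1 := by
        rw [Finset.card_sdiff_of_subset hAΓ, hΓk, hA]; omega
      obtain ⟨x, hx⟩ := Finset.card_eq_one.mp h1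
      have hxm : x ∈ Γ \ A := by rw [hx]; exact Finset.mem_singleton_self x
      rw [Finset.mem_sdiff] at hxm
      refine ⟨x, ⟨hΓS hxm.1, hxm.2⟩, ?_⟩
      ext y
      rw [Finset.mem_insert]
      constructor
      · rintro (rfl | hy)
        · exact hxm.1
        · exact hAΓ hy
      · intro hy
        by_cases hyA : y ∈ A
        · exact Or.inr hyA
        · left
          have : y ∈ Γ \ A := Finset.mem_sdiff.mpr ⟨hy, hyA⟩
          rw [hx] at this
          exact Finset.mem_singleton.mp this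
    · rintro ⟨x, ⟨hxS, hxA⟩, rfl⟩
      refine ⟨⟨Finset.insert_subset hxS hAS, ?_⟩, Finset.subset_insert _ _⟩
      rw [Finset.card_insert_of_notMem hxA, hA]; omega
  rw [hset, Finset.card_image_of_injOn, Finset.card_sdiff_of_subset hAS, hA]
  intro x hx y hy hxy
  have hx' := (Finset.mem_sdiff.mp (Finset.mem_coe.mp hx)).2
  have hxy' : x ∈ insert y A := by
    have : x ∈ insert x A := Finset.mem_insert_self x A
    simpa [hxy] using this
  rcases Finset.mem_insert.mp hxy' with h | h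
  · exact h
  · exact absurd h hx'

theorem main_count (O : Finset (Finset α)) (k c : ℕ) (hk : 1 ≤ k)
    (hO : ∀ A ∈ O, A.card = k - 1)
    (hc : ∀ Γ : Finset α, Γ.card = k → (O.filter (fun A => A ⊆ Γ)).card = c)
    (S : Finset α) :
    (O.filter (fun A => A ⊆ S)).card * (S.card - (k - 1)) = (S.card.choose k) * c := by
  have h := Finset.sum_card_bipartiteAbove_eq_sum_card_bipartiteBelow
    (s := O.filter (fun A => A ⊆ S)) (t := S.powersetCard k) (r := fun A Γ => A ⊆ Γ)
  have hL : ∀ A ∈ O.filter (fun A => A ⊆ S),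
      ((S.powersetCard k).bipartiteAbove (fun A Γ => A ⊆ Γ) A).card = S.card - (k - 1) := by
    intro A hA
    rw [Finset.mem_filter] at hA
    exact card_filter_superset S A k hk (hO A hA.1) hA.2
  have hR : ∀ Γ ∈ S.powersetCard k,
      ((O.filter (fun A => A ⊆ S)).bipartiteBelow (fun A Γ => A ⊆ Γ) Γ).card = c := by
    intro Γ hΓ
    rw [Finset.mem_powersetCard] at hΓ
    rw [← hc Γ hΓ.2]
    congr 1
    ext A
    simp only [Finset.mem_bipartiteBelow, Finset.mem_filter]
    constructor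
    · rintro ⟨⟨h1, _⟩, h3⟩
      exact ⟨h1, h3⟩
    · rintro ⟨h1, h3⟩
      exact ⟨⟨h1, h3.trans hΓ.1⟩, h3⟩
  rw [Finset.sum_congr rfl hL, Finset.sum_congr rfl hR, Finset.sum_const, Finset.sum_const,
    smul_eq_mul, smul_eq_mul, Finset.card_powersetCard] at h
  exact h

end

theorem core {α : Type*} [Fintype α] [DecidableEq α] (G : Subgroup (Equiv.Perm α)) {k : ℕ}
    (hk : 2 ≤ k)
    (htr : ∀ Γ Γ' : Finset α, Γ.card = k → Γ'.card = k → ∃ g ∈ G, Γ.image g = Γ')
    (hq : ∀ q : ℕ, IsPrimePow q → q ∣ k → k + q - 1 ≤ Fintype.card α) :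
    ∀ A B : Finset α, A.card = k - 1 → B.card = k - 1 → ∃ g ∈ G, A.image g = B := by
  classical
  intro A B hA hB
  -- k < n
  have hkn : k + 1 ≤ Fintype.card α := by
    obtain ⟨p, hp, hpk⟩ := Nat.exists_prime_and_dvd (by omega : k ≠ 1)
    have := hq p hp.isPrimePow hpk
    have := hp.two_le
    omega
  set O : Finset (Finset α) := Finset.univ.filter (fun B => ∃ g ∈ G, A.image g = B) with hOdef
  have hOmem : ∀ B, B ∈ O ↔ ∃ g ∈ G, A.image g = B := by
    intro B; simp [hOdef]
  have hO : ∀ B ∈ O, B.card = k - 1 := by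
    intro B hB
    obtain ⟨g, _, rfl⟩ := (hOmem B).mp hB
    rw [Finset.card_image_of_injective _ g.injective, hA]
  have hinv : ∀ g ∈ G, ∀ B ∈ O, B.image g ∈ O := by
    intro g hg B hB
    obtain ⟨h, hh, rfl⟩ := (hOmem B).mp hB
    rw [hOmem]
    refine ⟨g * h, G.mul_mem hg hh, ?_⟩
    rw [Finset.image_image]
    rfl
  have hle : ∀ g ∈ G, ∀ Γ : Finset α,
      (O.filter (fun A => A ⊆ Γ)).card ≤ (O.filter (fun A => A ⊆ Γ.image g)).card := by
    intro g hg Γ
    apply Finset.card_le_card_of_injOn (fun B => B.image g)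
    · intro B hB
      have hB' := Finset.mem_filter.mp (Finset.mem_coe.mp hB)
      exact Finset.mem_coe.mpr
        (Finset.mem_filter.mpr ⟨hinv g hg B hB'.1, Finset.image_subset_image hB'.2⟩)
    · intro B _ B' _ h
      exact Finset.image_injective g.injective h
  have heq : ∀ Γ Γ' : Finset α, Γ.card = k → Γ'.card = k →
      (O.filter (fun A => A ⊆ Γ)).card = (O.filter (fun A => A ⊆ Γ')).card := by
    have hle' : ∀ Γ Γ' : Finset α, Γ.card = k → Γ'.card = k →
        (O.filter (fun A => A ⊆ Γ)).card ≤ (O.filter (fun A => A ⊆ Γ')).card := by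
      intro Γ Γ' h1 h2
      obtain ⟨g, hg, rfl⟩ := htr Γ Γ' h1 h2
      exact hle g hg Γ
    intro Γ Γ' h1 h2
    exact le_antisymm (hle' Γ Γ' h1 h2) (hle' Γ' Γ h2 h1)
  obtain ⟨Γ₀, hAΓ₀, hΓ₀⟩ := Finset.exists_superset_card_eq (s := A) (n := k) (by omega) (by omega)
  set c := (O.filter (fun A => A ⊆ Γ₀)).card with hcdef
  have hc : ∀ Γ : Finset α, Γ.card = k → (O.filter (fun A => A ⊆ Γ)).card = c := by
    intro Γ hΓ
    exact heq Γ Γ₀ hΓ hΓ₀
  have hAO : A ∈ O := by
    rw [hOmem]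
    exact ⟨1, G.one_mem, by simp⟩
  have hc1 : 1 ≤ c := by
    rw [hcdef]
    exact Finset.card_pos.mpr ⟨A, Finset.mem_filter.mpr ⟨hAO, hAΓ₀⟩⟩
  have hsub : ∀ Γ : Finset α, O.filter (fun A => A ⊆ Γ) ⊆ Γ.powersetCard (k - 1) := by
    intro Γ B hB
    rw [Finset.mem_filter] at hB
    exact Finset.mem_powersetCard.mpr ⟨hB.2, hO B hB.1⟩
  have hck : c ≤ k := by
    have := Finset.card_le_card (hsub Γ₀)
    rw [Finset.card_powersetCard, hΓ₀] at this
    have h2 : k.choose (k - 1) = k := by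
      rw [Nat.choose_symm (by omega : 1 ≤ k), Nat.choose_one_right]
    omega
  have hkc : k ∣ c := by
    rw [Nat.dvd_iff_prime_pow_dvd_dvd]
    intro p j hp hpj
    rcases Nat.eq_zero_or_pos j with rfl | hj
    · simp
    have hqpp : IsPrimePow (p ^ j) := hp.isPrimePow.pow hj.ne'
    have hn := hq (p ^ j) hqpp hpj
    obtain ⟨S, _, hS⟩ := Finset.exists_superset_card_eq (s := (∅ : Finset α)) (n := k + p ^ j - 1)
      (by simp) hn
    have hmain := main_count O k c (by omega) hO hc S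
    have hq1 : 1 ≤ p ^ j := Nat.one_le_pow _ _ hp.pos
    have hS1 : S.card - (k - 1) = p ^ j := by omega
    rw [hS1, hS] at hmain
    have hsymm : (k + p ^ j - 1).choose k = (k + p ^ j - 1).choose (p ^ j - 1) := by
      apply Nat.choose_symm_of_eq_add
      omega
    have hcop : Nat.Coprime (p ^ j) ((k + p ^ j - 1).choose k) := by
      rw [hsymm]
      apply Nat.Coprime.pow_left
      rw [Nat.Prime.coprime_iff_not_dvd hp]
      exact not_dvd_choose p hp j k hpj
    have : p ^ j ∣ (k + p ^ j - 1).choose k * c := ⟨_, by rw [← hmain, mul_comm]⟩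
    exact hcop.dvd_of_dvd_mul_left this
  have hceq : c = k := le_antisymm hck (Nat.le_of_dvd (by omega) hkc)
  obtain ⟨Γ, hBΓ, hΓ⟩ := Finset.exists_superset_card_eq (s := B) (n := k) (by omega) (by omega)
  have hfull : O.filter (fun A => A ⊆ Γ) = Γ.powersetCard (k - 1) := by
    apply Finset.eq_of_subset_of_card_le (hsub Γ)
    rw [hc Γ hΓ, hceq, Finset.card_powersetCard, hΓ, Nat.choose_symm (by omega : 1 ≤ k),
      Nat.choose_one_right]
  have hBm : B ∈ O.filter (fun A => A ⊆ Γ) := by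
    rw [hfull]
    exact Finset.mem_powersetCard.mpr ⟨hBΓ, hB⟩
  exact (hOmem B).mp (Finset.mem_filter.mp hBm).1

/-- A `k`-homogeneous permutation group of degree `n`, `k ≥ 2`, with `k + q - 1 ≤ n` for every prime power `q` dividing `k`, is `(k-1)`-homogeneous. -/
theorem result {α : Type*} [Fintype α] [DecidableEq α] (G : Subgroup (Equiv.Perm α)) {k : ℕ} (hk : 2 ≤ k) (hG : MulAction.IsPretransitive G (Set.powersetCard α k)) (hq : ∀ q : ℕ, IsPrimePow q → q ∣ k → k + q - 1 ≤ Fintype.card α) : MulAction.IsPretransitive G (Set.powersetCard α (k - 1)) := by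
  have htr : ∀ Γ Γ' : Finset α, Γ.card = k → Γ'.card = k → ∃ g ∈ G, Γ.image g = Γ' := by
    intro Γ Γ' h1 h2
    obtain ⟨g, hg⟩ := hG.exists_smul_eq (⟨Γ, h1⟩ : Set.powersetCard α k) ⟨Γ', h2⟩
    refine ⟨g.1, g.2, ?_⟩
    have := congrArg Subtype.val hg
    exact this
  have hmain := core G hk htr hq
  constructor
  rintro ⟨A, hA⟩ ⟨B, hB⟩
  obtain ⟨g, hg, hgAB⟩ := hmain A B hA hB
  refine ⟨⟨g, hg⟩, Subtype.ext ?_⟩
  exact hgAB

end Cfsg.Agent.S0736
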