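import Mathlib
import Cfsg.Statements.S0742
import Cfsg.Agent.Lib.Helper27.Zq1G

set_option autoImplicit false
open Cfsg

namespace Cfsg.Agent.S0742

open Cfsg.Agent.Helper27.ZQ

/-- A finite Zassenhaus group of degree `n + 1` with two-point stabilisers of even order `d` satisfying `2d ≤ n - 1` has `n = p^f` for an odd prime `p` and is isomorphic to `PSL(2, p^f)`. -/
theorem result {G Ω : Type*} [Group G] [Finite G] [MulAction G Ω] [Fintype Ω] (hZ : Cfsg.IsZassenhausGroup G Ω) {a b : Ω} (hab : a ≠ b) (heven : Even (Nat.card ↥(MulAction.stabilizer G a ⊓ MulAction.stabilizer G b))) (hd : 2 * Nat.card ↥(MulAction.stabilizer G a ⊓ MulAction.stabilizer G b) ≤ Fintype.card Ω - 2) : ∃ (p f : ℕ) (K : Type) (_ : Field K) (_ : Fintype K), p.Prime ∧ p ≠ 2 ∧ Fintype.card K = p ^ f ∧ Fintype.card Ω = p ^ f + 1 ∧ Nonempty (G ≃* Matrix.ProjectiveSpecialLinearGroup (Fin 2) K) := by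
  obtain ⟨F, hFle, hFn, hreg⟩ := exists_frob_kernel hZ hab
  have hbound := Cfsg.Agent.S0741.result hZ hab heven
  obtain ⟨hFab, -⟩ := Cfsg.Agent.S0738.result hZ hab hbound F hFle hFn hreg
  have hcomm : ∀ u ∈ F, ∀ v ∈ F, u * v = v * u := by
    intro u hu v hv
    have := hFab.is_comm.comm (⟨u, hu⟩ : F) ⟨v, hv⟩
    exact congrArg Subtype.val this
  have D := zd_of_zassenhaus hZ hab F hFle hFn hcomm hreg
  have hcardΩ : Fintype.card Ω = Nat.card F + 1 := by
    rw [← Nat.card_eq_fintype_card, D.card_Omega]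
  have hn2 := D.two_le_card_F
  have hHH : Nat.card ↥(MulAction.stabilizer G a ⊓ MulAction.stabilizer G b) =
      Nat.card (ZD.HH G a b) := rfl
  rw [hHH, hcardΩ] at hd
  rcases D.main_of_zd hZ with h | ⟨p, f, hp, hp2, hf0, hnpf, h2d, he⟩
  · exfalso
    omega
  · letI : Fintype (GaloisField p f) := Fintype.ofFinite _
    refine ⟨p, f, GaloisField p f, inferInstance, inferInstance, hp.out, hp2, ?_, ?_, he⟩
    · rw [← Nat.card_eq_fintype_card, GaloisField.card p f hf0]
    · rw [hcardΩ, hnpf]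

end Cfsg.Agent.S0742
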