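import Mathlib
import Cfsg.Agent.Lib.Helper22.MultTrans
import Cfsg.Statements.S0743
-- import your own Cfsg.Agent.* helpers here

set_option autoImplicit false
open Cfsg

namespace Cfsg.Agent.S0743

open MulAction SubMulAction Cfsg.Agent.Helper22
open scoped Pointwise

theorem gleason_one {H α : Type*} [Group H] [MulAction H α] [Finite α] {p : ℕ} [Fact p.Prime]
    (U : Set α) (hU : ∀ h : H, ∀ u ∈ U, h • u ∈ U)
    (hP : ∀ x ∈ U, ∃ P : Subgroup H, IsPGroup p P ∧ ∀ u ∈ U, (u ∈ fixedPoints P α ↔ u = x))
    (x y : α) (hx : x ∈ U) (hy : y ∈ U) : y ∈ orbit H x := by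
  by_contra hyx
  have hOU : ∀ o ∈ orbit H x, o ∈ U := by
    rintro _ ⟨h, rfl⟩
    exact hU h x hx
  obtain ⟨Px, hPx, hfx⟩ := hP x hx
  obtain ⟨Py, hPy, hfy⟩ := hP y hy
  have h1 := hPx.card_modEq_card_fixedPoints (orbit H x)
  have h2 := hPy.card_modEq_card_fixedPoints (orbit H x)
  have hc1 : Nat.card (fixedPoints Px (orbit H x)) = 1 := by
    rw [Nat.card_eq_one_iff_unique]
    constructor
    · constructor
      rintro ⟨⟨a, ha⟩, hfa⟩ ⟨⟨b, hb⟩, hfb⟩
      have ha' : a = x := (hfx a (hOU a ha)).mp (fun g => congrArg Subtype.val (hfa g))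
      have hb' : b = x := (hfx b (hOU b hb)).mp (fun g => congrArg Subtype.val (hfb g))
      subst ha' hb'
      rfl
    · refine ⟨⟨⟨x, mem_orbit_self x⟩, ?_⟩⟩
      intro g
      apply Subtype.ext
      exact ((hfx x hx).mpr rfl) g
  have hc2 : Nat.card (fixedPoints Py (orbit H x)) = 0 := by
    rw [Nat.card_eq_zero]
    left
    constructor
    rintro ⟨⟨a, ha⟩, hfa⟩
    have : a = y := (hfy a (hOU a ha)).mp (fun g => congrArg Subtype.val (hfa g))
    exact hyx (this ▸ ha)
  rw [hc1] at h1
  rw [hc2] at h2
  have h3 : 1 ≡ 0 [MOD p] := h1.symm.trans h2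
  have hp := (Fact.out : p.Prime).two_le
  have h4 := (Nat.modEq_zero_iff_dvd.mp h3)
  have := Nat.le_of_dvd one_pos h4
  omega

theorem star {α : Type*} [Fintype α] [DecidableEq α] (G : Subgroup (Equiv.Perm α)) {p k : ℕ}
    [Fact p.Prime] (hk : 1 ≤ k) (hkn : k < Fintype.card α)
    (h : ∀ s : Finset α, s.card = k → ∃ P : Subgroup G, IsPGroup p P ∧
      MulAction.fixedPoints P α = (s : Set α)) :
    ∀ (d : ℕ) (s : Finset α), s.card + d + 1 = k → ∀ x y : α, x ∉ s → y ∉ s →
      ∃ g ∈ fixingSubgroup G (s : Set α), g • x = y := by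
  intro d
  induction d with
  | zero =>
    intro s hs x y hx hy
    have := gleason_one (H := fixingSubgroup G (s : Set α)) (α := α) (p := p)
      ((s : Set α)ᶜ) ?_ ?_ x y (by simpa using hx) (by simpa using hy)
    · obtain ⟨g, hg⟩ := this
      exact ⟨g.1, g.2, hg⟩
    · intro h u hu
      rw [Set.mem_compl_iff, Finset.mem_coe] at hu ⊢
      intro hc
      have h2 := h.2
      rw [mem_fixingSubgroup_iff] at h2
      have h3 : (h : G) • (h • u) = (h : G) • u := h2 _ hc
      have h4 : h • u = u := smul_left_cancel _ h3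
      rw [h4] at hc
      exact hu hc
    · intro x hx
      rw [Set.mem_compl_iff, Finset.mem_coe] at hx
      obtain ⟨P, hP, hfix⟩ := h (insert x s) (by rw [Finset.card_insert_of_notMem hx]; omega)
      have hPle : P ≤ fixingSubgroup G (s : Set α) := by
        intro g hg
        rw [mem_fixingSubgroup_iff]
        intro z hz
        have hz' : z ∈ fixedPoints P α := by
          rw [hfix, Finset.coe_insert]; exact Set.mem_insert_of_mem _ hz
        exact hz' ⟨g, hg⟩
      refine ⟨P.subgroupOf (fixingSubgroup G (s : Set α)), hP.comap_subtype, ?_⟩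
      intro u hu
      rw [Set.mem_compl_iff, Finset.mem_coe] at hu
      have hiff : u ∈ fixedPoints (P.subgroupOf (fixingSubgroup G (s : Set α))) α ↔
          u ∈ fixedPoints P α := by
        constructor
        · intro hfu g
          exact hfu ⟨⟨g.1, hPle g.2⟩, g.2⟩
        · intro hfu g
          exact hfu ⟨g.1.1, g.2⟩
      rw [hiff, hfix, Finset.coe_insert, Set.mem_insert_iff, Finset.mem_coe]
      constructor
      · rintro (h1 | h1)
        · exact h1
        · exact absurd h1 hu
      · intro h1
        exact Or.inl h1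
  | succ d ih =>
    intro s hs x y hx hy
    by_cases hxy : x = y
    · exact ⟨1, one_mem _, by rw [one_smul, hxy]⟩
    have hcard : 2 < (sᶜ).card := by rw [Finset.card_compl]; omega
    obtain ⟨z, hz, hzx, hzy⟩ : ∃ z, z ∉ s ∧ z ≠ x ∧ z ≠ y := by
      have hpos : 0 < (sᶜ \ {x, y}).card := by
        have := Finset.le_card_sdiff ({x, y} : Finset α) sᶜ
        have h2 : ({x, y} : Finset α).card ≤ 2 := Finset.card_le_two
        omega
      obtain ⟨z, hz⟩ := Finset.card_pos.mp hpos
      rw [Finset.mem_sdiff, Finset.mem_compl, Finset.mem_insert, Finset.mem_singleton,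
        not_or] at hz
      exact ⟨z, hz.1, hz.2.1, hz.2.2⟩
    obtain ⟨g, hg, hgx⟩ := ih (insert z s)
      (by rw [Finset.card_insert_of_notMem hz]; omega) x y
      (by simp [hx, Ne.symm hzx]) (by simp [hy, Ne.symm hzy])
    refine ⟨g, ?_, hgx⟩
    rw [Finset.coe_insert, mem_fixingSubgroup_insert_iff] at hg
    exact hg.2

/-- Gleason's Lemma: let `p` be a prime and `1 ≤ k < n`; if every `k`-subset of the `n` points is exactly the fixed-point set of some `p`-subgroup of `G`, then `G` is `k`-transitive. -/
theorem result {α : Type*} [Fintype α] [DecidableEq α] (G : Subgroup (Equiv.Perm α)) {p k : ℕ} (hp : p.Prime) (hk : 1 ≤ k) (hkn : k < Fintype.card α) (h : ∀ s : Finset α, s.card = k → ∃ P : Subgroup G, IsPGroup p P ∧ MulAction.fixedPoints P α = (s : Set α)) : MulAction.IsMultiplyPretransitive G α k := by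
  classical
  haveI : Fact p.Prime := ⟨hp⟩
  have hstar := star G hk hkn h
  have hup : ∀ j, j ≤ k → MulAction.IsMultiplyPretransitive G α j := by
    intro j
    induction j with
    | zero => intro _; exact MulAction.is_zero_pretransitive'
    | succ j ih =>
      intro hj
      have hjt := ih (by omega)
      obtain ⟨s, -, hs⟩ := Finset.exists_subset_card_eq (s := (Finset.univ : Finset α))
        (n := j) (by rw [Finset.card_univ]; omega)
      apply isMultiplyPretransitive_add_of_fixingSubgroup j 1 (s : Set α)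
        (by rw [Set.ncard_coe_finset, hs]) hjt
      rw [MulAction.is_one_pretransitive_iff]
      refine ⟨fun x y => ?_⟩
      have hx : (x : α) ∉ s := by
        have := x.2
        rw [SubMulAction.mem_ofFixingSubgroup_iff] at this
        simpa using this
      have hy : (y : α) ∉ s := by
        have := y.2
        rw [SubMulAction.mem_ofFixingSubgroup_iff] at this
        simpa using this
      obtain ⟨g, hg, hgx⟩ := hstar (k - 1 - j) s (by omega) x y hx hy
      exact ⟨⟨g, hg⟩, Subtype.ext hgx⟩
  exact hup k le_rfl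

end Cfsg.Agent.S0743
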