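import Mathlib
import Cfsg.Agent.Lib.Helper22.MultTrans
import Cfsg.Statements.S0744
-- import your own Cfsg.Agent.* helpers here

set_option autoImplicit false
open Cfsg

namespace Cfsg.Agent.S0744

open MulAction SubMulAction Cfsg.Agent.Helper22
open scoped Pointwise

theorem dvd_card_of_stabilizers {H α : Type*} [Group H] [Finite H] [MulAction H α]
    [DecidableEq α] (m : ℕ) : ∀ (n : ℕ) (T : Finset α), T.card = n →
      (∀ h : H, ∀ t ∈ T, h • t ∈ T) →
      (∀ t ∈ T, Nat.card (stabilizer H t) = m) → (Nat.card H / m) ∣ T.card := by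
  intro n
  induction n using Nat.strong_induction_on with
  | _ n ih =>
    intro T hTn hinv hstab
    rcases T.eq_empty_or_nonempty with rfl | ⟨t, ht⟩
    · simp
    classical
    set O := T.filter (fun y => y ∈ orbit H t) with hO
    set T' := T.filter (fun y => y ∉ orbit H t) with hT'
    have hOset : (O : Set α) = orbit H t := by
      ext y
      simp only [hO, Finset.coe_filter, Set.mem_ofPred_eq, and_iff_right_iff_imp]
      intro hy
      obtain ⟨h, rfl⟩ := hy
      exact hinv h t ht
    have hOcard : O.card = Nat.card H / m := by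
      have h1 : (orbit H t).ncard = O.card := by rw [← hOset, Set.ncard_coe_finset]
      have h2 := MulAction.index_stabilizer H t
      have h3 := (stabilizer H t).index_mul_card
      rw [hstab t ht] at h3
      have hm : 0 < m := by rw [← hstab t ht]; exact Nat.card_pos
      rw [← h1, ← h2]
      exact (Nat.div_eq_of_eq_mul_left hm h3.symm).symm
    have hsplit : O.card + T'.card = T.card :=
      Finset.card_filter_add_card_filter_not (s := T) (fun y => y ∈ orbit H t)
    have htO : t ∈ O := by
      rw [hO, Finset.mem_filter]; exact ⟨ht, mem_orbit_self t⟩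
    have hlt : T'.card < n := by
      have := Finset.card_pos.mpr ⟨t, htO⟩
      omega
    have hT'inv : ∀ h : H, ∀ y ∈ T', h • y ∈ T' := by
      intro h y hy
      rw [hT', Finset.mem_filter] at hy ⊢
      refine ⟨hinv h y hy.1, fun hc => hy.2 ?_⟩
      have := mem_orbit_of_mem_orbit h⁻¹ hc
      rwa [inv_smul_smul] at this
    have := ih T'.card hlt T' rfl hT'inv (fun y hy => hstab y (Finset.mem_filter.mp hy).1)
    rw [← hsplit, hOcard]
    exact dvd_add (dvd_refl _) this

theorem card_subgroupOf_eq {Γ : Type*} [Group Γ] (A K B : Subgroup Γ) (h : A ⊓ K = B) :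
    Nat.card (A.subgroupOf K) = Nat.card B := by
  rw [← h, ← Subgroup.inf_subgroupOf_right]
  exact Nat.card_congr (Subgroup.subgroupOfEquivOfLe inf_le_right).toEquiv

theorem transitive_of_stabilizers {H α : Type*} [Group H] [Finite H] [MulAction H α]
    [DecidableEq α] (U : Finset α) (hU : ∀ h : H, ∀ u ∈ U, h • u ∈ U) (l m : ℕ) (hlm : l ≠ m)
    (h1 : ∀ x ∈ U, Nat.card (stabilizer H x) = l)
    (h2 : ∀ x ∈ U, ∀ y ∈ U, x ≠ y →
      Nat.card (stabilizer H x ⊓ stabilizer H y : Subgroup H) = m)
    (x y : α) (hx : x ∈ U) (hy : y ∈ U) : y ∈ orbit H x := by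
  classical
  by_contra hyx
  have hxy : x ≠ y := fun h => hyx (h ▸ mem_orbit_self x)
  set O := U.filter (fun z => z ∈ orbit H x) with hO
  have hxO : x ∈ O := by rw [hO, Finset.mem_filter]; exact ⟨hx, mem_orbit_self x⟩
  have hOinv : ∀ h : H, ∀ t ∈ O, h • t ∈ O := by
    intro h t ht
    rw [hO, Finset.mem_filter] at ht ⊢
    exact ⟨hU h t ht.1, mem_orbit_of_mem_orbit h ht.2⟩
  -- (i)
  have hi : (l / m) ∣ O.card := by
    have := dvd_card_of_stabilizers (H := stabilizer H y) (α := α) m O.card O rfl
      (fun k t ht => hOinv (k : H) t ht) ?_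
    · rwa [h1 y hy] at this
    · intro t ht
      have hkey : stabilizer (stabilizer H y) t = (stabilizer H t).subgroupOf (stabilizer H y) := by
        ext; rfl
      rw [hkey]
      rw [hO, Finset.mem_filter] at ht
      have hty : t ≠ y := fun h => hyx (h ▸ ht.2)
      rw [card_subgroupOf_eq _ _ _ rfl]
      exact h2 t ht.1 y hy hty
  -- (ii)
  have hii : (l / m) ∣ (O.erase x).card := by
    have := dvd_card_of_stabilizers (H := stabilizer H x) (α := α) m (O.erase x).card
      (O.erase x) rfl ?_ ?_
    · rwa [h1 x hx] at this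
    · intro k t ht
      rw [Finset.mem_erase] at ht ⊢
      refine ⟨fun hc => ht.1 ?_, hOinv (k : H) t ht.2⟩
      have hk : (k : H) • x = x := k.2
      have : (k : H) • t = (k : H) • x := by rw [hk]; exact hc
      exact smul_left_cancel _ this
    · intro t ht
      have hkey : stabilizer (stabilizer H x) t = (stabilizer H t).subgroupOf (stabilizer H x) := by
        ext; rfl
      rw [hkey]
      rw [Finset.mem_erase, hO, Finset.mem_filter] at ht
      rw [card_subgroupOf_eq _ _ _ rfl]
      exact h2 t ht.2.1 x hx ht.1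
  have hcard : (O.erase x).card + 1 = O.card := Finset.card_erase_add_one hxO
  have hone : l / m ∣ 1 := by
    rw [← hcard] at hi
    exact (Nat.dvd_add_right hii).mp hi
  have hm_dvd : m ∣ l := by
    rw [← h1 x hx, ← h2 x hx y hy hxy]
    exact Subgroup.card_dvd_of_le inf_le_left
  have hl : l = l / m * m := (Nat.div_mul_cancel hm_dvd).symm
  rw [Nat.dvd_one.mp hone, one_mul] at hl
  exact hlm hl
theorem fix_stab_card {α : Type*} [DecidableEq α] (G : Subgroup (Equiv.Perm α))
    (s : Finset α) (x : α) :
    Nat.card (stabilizer (fixingSubgroup G (s : Set α)) x) =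
      Nat.card (fixingSubgroup G ((insert x s : Finset α) : Set α)) := by
  have hkey : stabilizer (fixingSubgroup G (s : Set α)) x =
      (stabilizer G x).subgroupOf (fixingSubgroup G (s : Set α)) := by
    ext; rfl
  rw [hkey]
  apply card_subgroupOf_eq
  ext g
  rw [Finset.coe_insert, Subgroup.mem_inf, mem_stabilizer_iff, mem_fixingSubgroup_insert_iff]

theorem fix_stab2_card {α : Type*} [DecidableEq α] (G : Subgroup (Equiv.Perm α))
    (s : Finset α) (x y : α) :
    Nat.card (stabilizer (fixingSubgroup G (s : Set α)) x ⊓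
        stabilizer (fixingSubgroup G (s : Set α)) y :
          Subgroup (fixingSubgroup G (s : Set α))) =
      Nat.card (fixingSubgroup G ((insert x (insert y s) : Finset α) : Set α)) := by
  have hkey : stabilizer (fixingSubgroup G (s : Set α)) x ⊓
      stabilizer (fixingSubgroup G (s : Set α)) y =
      (stabilizer G x ⊓ stabilizer G y).subgroupOf (fixingSubgroup G (s : Set α)) := by
    ext; rfl
  rw [hkey]
  apply card_subgroupOf_eq
  ext g
  rw [Finset.coe_insert, Finset.coe_insert, Subgroup.mem_inf, Subgroup.mem_inf,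
    mem_stabilizer_iff, mem_stabilizer_iff, mem_fixingSubgroup_insert_iff,
    mem_fixingSubgroup_insert_iff, and_assoc]

theorem star {α : Type*} [Fintype α] [DecidableEq α] (G : Subgroup (Equiv.Perm α)) {k : ℕ}
    (hk : 1 < k) (hkn : k ≤ Fintype.card α) (l m : ℕ) (hl : 1 < l)
    (hkm1 : ∀ s : Finset α, s.card = k - 1 → Nat.card (fixingSubgroup G (s : Set α)) = l)
    (hkm : ∀ s : Finset α, s.card = k → Nat.card (fixingSubgroup G (s : Set α)) = m) :
    ∀ (d : ℕ) (s : Finset α), s.card + d + 2 = k → ∀ x y : α, x ∉ s → y ∉ s →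
      ∃ g ∈ fixingSubgroup G (s : Set α), g • x = y := by
  have hlm : l ≠ m := by
    intro hlm
    obtain ⟨s₁, -, hs₁⟩ := Finset.exists_subset_card_eq (s := (Finset.univ : Finset α))
      (n := k - 1) (by rw [Finset.card_univ]; omega)
    have h1 := hkm1 s₁ hs₁
    have hex : ∃ g ∈ fixingSubgroup G (s₁ : Set α), g ≠ 1 := by
      by_contra hcon
      push Not at hcon
      have : fixingSubgroup G (s₁ : Set α) = ⊥ := (Subgroup.eq_bot_iff_forall _).mpr hcon
      rw [this, Subgroup.card_bot] at h1
      omega
    obtain ⟨g, hg, hg1⟩ := hex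
    have hex2 : ∃ x : α, g • x ≠ x := by
      by_contra hcon
      push Not at hcon
      apply hg1
      apply Subtype.ext
      apply Equiv.ext
      intro x
      exact hcon x
    obtain ⟨x, hx⟩ := hex2
    have hxs : x ∉ s₁ := by
      intro hc
      have hg' := hg
      rw [mem_fixingSubgroup_iff] at hg'
      exact hx (hg' x hc)
    have h2 := hkm (insert x s₁) (by rw [Finset.card_insert_of_notMem hxs, hs₁]; omega)
    have hle : fixingSubgroup G ((insert x s₁ : Finset α) : Set α) ≤
        fixingSubgroup G (s₁ : Set α) := by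
      intro g hg
      rw [Finset.coe_insert, mem_fixingSubgroup_insert_iff] at hg
      exact hg.2
    have heq := Subgroup.eq_of_le_of_card_ge hle (by rw [h1, h2, hlm])
    rw [← heq, Finset.coe_insert, mem_fixingSubgroup_insert_iff] at hg
    exact hx hg.1
  intro d
  induction d with
  | zero =>
    intro s hs x y hx hy
    have := transitive_of_stabilizers (H := fixingSubgroup G (s : Set α)) (α := α) sᶜ ?_ l m hlm
      ?_ ?_ x y (by simpa using hx) (by simpa using hy)
    · obtain ⟨g, hg⟩ := this
      exact ⟨g.1, g.2, hg⟩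
    · intro h u hu
      rw [Finset.mem_compl] at hu ⊢
      intro hc
      have h2 := h.2
      rw [mem_fixingSubgroup_iff] at h2
      have h3 : (h : G) • (h • u) = (h : G) • u := h2 _ hc
      have h4 : h • u = u := smul_left_cancel _ h3
      rw [h4] at hc
      exact hu hc
    · intro x hx
      rw [Finset.mem_compl] at hx
      rw [fix_stab_card]
      apply hkm1
      rw [Finset.card_insert_of_notMem hx]
      omega
    · intro x hx y hy hxy
      rw [Finset.mem_compl] at hx hy
      rw [fix_stab2_card]
      apply hkm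
      rw [Finset.card_insert_of_notMem (by simp [hxy, hx]), Finset.card_insert_of_notMem hy]
      omega
  | succ d ih =>
    intro s hs x y hx hy
    by_cases hxy : x = y
    · exact ⟨1, one_mem _, by rw [one_smul, hxy]⟩
    have hcard : 2 < (sᶜ).card := by rw [Finset.card_compl]; omega
    obtain ⟨z, hz, hzx, hzy⟩ : ∃ z, z ∉ s ∧ z ≠ x ∧ z ≠ y := by
      have hpos : 0 < (sᶜ \ {x, y}).card := by
        have := Finset.le_card_sdiff ({x, y} : Finset α) sᶜ
        have h2 : ({x, y} : Finset α).card ≤ 2 := Finset.card_le_two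
        omega
      obtain ⟨z, hz⟩ := Finset.card_pos.mp hpos
      rw [Finset.mem_sdiff, Finset.mem_compl, Finset.mem_insert, Finset.mem_singleton,
        not_or] at hz
      exact ⟨z, hz.1, hz.2.1, hz.2.2⟩
    obtain ⟨g, hg, hgx⟩ := ih (insert z s)
      (by rw [Finset.card_insert_of_notMem hz]; omega) x y
      (by simp [hx, Ne.symm hzx]) (by simp [hy, Ne.symm hzy])
    refine ⟨g, ?_, hgx⟩
    rw [Finset.coe_insert, mem_fixingSubgroup_insert_iff] at hg
    exact hg.2

/-- If for some `k > 1` the pointwise stabilisers of all `(k-1)`-subsets have the same order `> 1` and those of all `k`-subsets have the same order, then the group is `(k-1)`-transitive. -/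
theorem result {α : Type*} [Fintype α] [DecidableEq α] (G : Subgroup (Equiv.Perm α)) {k : ℕ} (hk : 1 < k) (hkn : k ≤ Fintype.card α) (l m : ℕ) (hl : 1 < l) (hkm1 : ∀ s : Finset α, s.card = k - 1 → Nat.card (fixingSubgroup G (s : Set α)) = l) (hkm : ∀ s : Finset α, s.card = k → Nat.card (fixingSubgroup G (s : Set α)) = m) : MulAction.IsMultiplyPretransitive G α (k - 1) := by
  classical
  have hstar := star G hk hkn l m hl hkm1 hkm
  have hup : ∀ j, j + 1 ≤ k → MulAction.IsMultiplyPretransitive G α j := by
    intro j
    induction j with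
    | zero => intro _; exact MulAction.is_zero_pretransitive'
    | succ j ih =>
      intro hj
      have hjt := ih (by omega)
      obtain ⟨s, -, hs⟩ := Finset.exists_subset_card_eq (s := (Finset.univ : Finset α))
        (n := j) (by rw [Finset.card_univ]; omega)
      apply isMultiplyPretransitive_add_of_fixingSubgroup j 1 (s : Set α)
        (by rw [Set.ncard_coe_finset, hs]) hjt
      rw [MulAction.is_one_pretransitive_iff]
      refine ⟨fun x y => ?_⟩
      have hx : (x : α) ∉ s := by
        have := x.2
        rw [SubMulAction.mem_ofFixingSubgroup_iff] at this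
        simpa using this
      have hy : (y : α) ∉ s := by
        have := y.2
        rw [SubMulAction.mem_ofFixingSubgroup_iff] at this
        simpa using this
      obtain ⟨g, hg, hgx⟩ := hstar (k - 2 - j) s (by omega) x y hx hy
      exact ⟨⟨g, hg⟩, Subtype.ext hgx⟩
  exact hup (k - 1) (by omega)

end Cfsg.Agent.S0744
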