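import Mathlib
import Cfsg.Statements.S0756

set_option autoImplicit false
open Cfsg

namespace Cfsg.Agent.S0756

open Module LinearMap LinearMap.BilinForm Polynomial

section

variable {F : Type*} [Field F] [Finite F]

theorem ringChar_ne_two (h2 : (2 : F) ≠ 0) : ringChar F ≠ 2 := by
  intro h
  apply h2
  have : CharP F 2 := ringChar.of_eq h
  exact CharP.cast_eq_zero F 2

/-- The quotient of two nonsquares is a square. -/
theorem isSquare_div_of_not_isSquare (h2 : (2 : F) ≠ 0) {a α : F} (ha0 : a ≠ 0) (ha : ¬ IsSquare a)
    (hα : ¬ IsSquare α) : IsSquare (a / α) := by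
  have : Fintype F := Fintype.ofFinite F
  have hc := ringChar_ne_two h2
  have hα0 : α ≠ 0 := by
    rintro rfl
    exact hα ⟨0, by simp⟩
  rw [FiniteField.isSquare_iff hc ha0] at ha
  rw [FiniteField.isSquare_iff hc hα0] at hα
  rw [FiniteField.isSquare_iff hc (div_ne_zero ha0 hα0)]
  have h1 := (FiniteField.pow_dichotomy hc ha0).resolve_left ha
  have h3 := (FiniteField.pow_dichotomy hc hα0).resolve_left hα
  rw [div_pow, h1, h3]
  simp

variable {V : Type*} [AddCommGroup V] [Module F V] [FiniteDimensional F V]

/-- A nondegenerate symmetric form of dimension at least two over a finite field of odd characteristic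
represents `1`. -/
theorem exists_self_eq_one (h2 : (2 : F) ≠ 0) (B : LinearMap.BilinForm F V) (hS : B.IsSymm)
    (hB : B.Nondegenerate) (hdim : 2 ≤ finrank F V) : ∃ v : V, B v v = 1 := by
  have : Fintype F := Fintype.ofFinite F
  have : Invertible (2 : F) := invertibleOfNonzero h2
  obtain ⟨b, hb⟩ := LinearMap.BilinForm.exists_orthogonal_basis (LinearMap.BilinForm.isSymm_iff.mp hS)
  have hne := hb.not_isOrtho_basis_self_of_separatingLeft hB.1
  set i0 : Fin (finrank F V) := ⟨0, by omega⟩ with hi0
  set i1 : Fin (finrank F V) := ⟨1, by omega⟩ with hi1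
  have h01 : i0 ≠ i1 := by
    intro h
    have := congrArg Fin.val h
    simp [hi0, hi1] at this
  have ha1 : B (b i0) (b i0) ≠ 0 := hne i0
  have ha2 : B (b i1) (b i1) ≠ 0 := hne i1
  set a1 := B (b i0) (b i0) with ha1d
  set a2 := B (b i1) (b i1) with ha2d
  have hf : degree (C a1 * X ^ 2 + C 0 * X + C (-1) : F[X]) = 2 := degree_quadratic ha1
  have hg : degree (C a2 * X ^ 2 + C 0 * X + C 0 : F[X]) = 2 := degree_quadratic ha2
  obtain ⟨x, y, hxy⟩ := FiniteField.exists_root_sum_quadratic hf hg
    (FiniteField.odd_card_of_char_ne_two (ringChar_ne_two h2))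
  simp only [eval_add, eval_mul, eval_C, eval_pow, eval_X, zero_mul, add_zero] at hxy
  refine ⟨x • b i0 + y • b i1, ?_⟩
  have h01' : B (b i0) (b i1) = 0 := hb h01
  have h10' : B (b i1) (b i0) = 0 := hb (Ne.symm h01)
  simp only [map_add, map_smul, LinearMap.add_apply, LinearMap.smul_apply, smul_eq_mul]
  rw [h01', h10', ← ha1d, ← ha2d]
  linear_combination hxy

/-- The main induction. -/
theorem main (h2 : (2 : F) ≠ 0) (α : F) (hα : ¬ IsSquare α) :
    ∀ (n : ℕ) {V : Type*} [AddCommGroup V] [Module F V] [FiniteDimensional F V]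
      (B : LinearMap.BilinForm F V) (_ : B.IsSymm) (_ : B.Nondegenerate) (_ : finrank F V = n + 1),
      ∃ b : Module.Basis (Fin (n + 1)) F V, (∀ i j, i ≠ j → B (b i) (b j) = 0) ∧
        (∀ i, i ≠ Fin.last n → B (b i) (b i) = 1) ∧
        (B (b (Fin.last n)) (b (Fin.last n)) = 1 ∨ B (b (Fin.last n)) (b (Fin.last n)) = α) := by
  intro n
  induction n with
  | zero =>
    intro V _ _ _ B hS hB hn
    let b0 : Module.Basis (Fin 1) F V := Module.finBasisOfFinrankEq F V hn
    set u := b0 0 with hu
    have hu0 : u ≠ 0 := b0.ne_zero 0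
    have ha : B u u ≠ 0 := by
      intro h0
      apply hu0
      apply hB.1 u
      intro w
      have hw : w ∈ Submodule.span F (Set.range b0) := by rw [b0.span_eq]; trivial
      have hr : Set.range b0 = {u} := by
        ext z
        simp only [Set.mem_range, Set.mem_singleton_iff]
        constructor
        · rintro ⟨i, rfl⟩
          rw [hu]; congr 1; exact Subsingleton.elim _ _
        · intro hz; exact ⟨0, hz.symm⟩
      rw [hr, Submodule.mem_span_singleton] at hw
      obtain ⟨c, rfl⟩ := hw
      rw [map_smul, h0, smul_zero]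
    have key : ∀ s : F, s ≠ 0 → ∃ b : Module.Basis (Fin 1) F V, ∀ i, B (b i) (b i) = B u u / (s * s) := by
      intro s hs
      refine ⟨b0.isUnitSMul (fun _ => (isUnit_iff_ne_zero.mpr (inv_ne_zero hs))), ?_⟩
      intro i
      rw [Module.Basis.isUnitSMul_apply]
      have : b0 i = u := by rw [hu]; congr 1; exact Subsingleton.elim _ _
      rw [this]
      simp only [map_smul, LinearMap.smul_apply, smul_eq_mul]
      field_simp
    have hfin : ∀ i : Fin 1, i = Fin.last 0 := fun i => Subsingleton.elim _ _
    by_cases hsq : IsSquare (B u u)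
    · obtain ⟨s, hs⟩ := hsq
      have hs0 : s ≠ 0 := by
        rintro rfl
        rw [mul_zero] at hs
        exact ha hs
      obtain ⟨b, hb⟩ := key s hs0
      refine ⟨b, ?_, ?_, ?_⟩
      · intro i j hij
        exact absurd ((hfin i).trans (hfin j).symm) hij
      · intro i hi
        exact absurd (hfin i) hi
      · left
        rw [hb, hs]
        exact div_self (mul_ne_zero hs0 hs0)
    · obtain ⟨s, hs⟩ := isSquare_div_of_not_isSquare h2 ha hsq hα
      have hα0 : α ≠ 0 := by
        rintro rfl
        exact hα ⟨0, by simp⟩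
      have hs0 : s ≠ 0 := by
        rintro rfl
        rw [mul_zero] at hs
        exact (div_ne_zero ha hα0) hs
      obtain ⟨b, hb⟩ := key s hs0
      refine ⟨b, ?_, ?_, ?_⟩
      · intro i j hij
        exact absurd ((hfin i).trans (hfin j).symm) hij
      · intro i hi
        exact absurd (hfin i) hi
      · right
        rw [hb, ← hs]
        field_simp
  | succ n ih =>
    intro V _ _ _ B hS hB hn
    obtain ⟨v, hv⟩ := exists_self_eq_one h2 B hS hB (by omega)
    have hx : B v v ≠ 0 := by rw [hv]; exact one_ne_zero
    set W := B.orthogonal (F ∙ v) with hW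
    have hcompl : IsCompl (F ∙ v) W := LinearMap.BilinForm.isCompl_span_singleton_orthogonal hx
    have hv0 : v ≠ 0 := by
      rintro rfl
      simp at hx
    have hdimW : finrank F W = n + 1 := by
      have := Submodule.finrank_add_eq_of_isCompl hcompl
      rw [finrank_span_singleton hv0, hn] at this
      omega
    have hB' : (B.restrict W).Nondegenerate :=
      LinearMap.BilinForm.restrict_nondegenerate_orthogonal_spanSingleton B hB hS.isRefl hx
    have hS' : (B.restrict W).IsSymm := hS.restrict W
    obtain ⟨b', hb1, hb2, hb3⟩ := ih (B.restrict W) hS' hB' hdimW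
    let b : Module.Basis (Fin (n + 1 + 1)) F V :=
      Module.Basis.mkFinCons v b'
        (by
          rintro c y hy hc
          rw [add_eq_zero_iff_neg_eq] at hc
          rw [← hc, Submodule.neg_mem_iff] at hy
          have := hcompl.disjoint
          rw [Submodule.disjoint_def] at this
          have := this (c • v) (Submodule.smul_mem _ _ <| Submodule.mem_span_singleton_self _) hy
          exact (smul_eq_zero.1 this).resolve_right hv0)
        (by
          intro y
          refine ⟨-B v y / B v v, fun z hz => ?_⟩
          obtain ⟨c, rfl⟩ := Submodule.mem_span_singleton.1 hz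
          rw [map_smul, LinearMap.smul_apply, map_add, map_smul, smul_eq_mul, smul_eq_mul,
            div_mul_cancel₀ _ hx, add_neg_cancel, mul_zero])
    have hbcoe : ⇑b = Fin.cons v (fun i => ((b' i : W) : V)) := Module.Basis.coe_mkFinCons _ _ _ _
    have hmemW : ∀ i, B v ((b' i : W) : V) = 0 := fun i =>
      (b' i).prop _ (Submodule.mem_span_singleton_self v)
    refine ⟨b, ?_, ?_, ?_⟩
    · intro i j
      rw [hbcoe]
      refine Fin.cases ?_ (fun i => ?_) i <;> refine Fin.cases ?_ (fun j => ?_) j <;> intro hij <;>
        simp only [Fin.cons_zero, Fin.cons_succ]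
      · exact (hij rfl).elim
      · exact hmemW j
      · rw [← hS.eq]
        exact hmemW i
      · have := hb1 i j (fun h => hij (by rw [h]))
        exact this
    · intro i
      rw [hbcoe]
      refine Fin.cases ?_ (fun i => ?_) i
      · intro _
        simp only [Fin.cons_zero]
        exact hv
      · intro hi
        simp only [Fin.cons_succ]
        have hi' : i ≠ Fin.last n := by
          intro h
          apply hi
          rw [h]
          rfl
        exact hb2 i hi'
    · have hlast : b (Fin.last (n + 1)) = ((b' (Fin.last n) : W) : V) := by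
        rw [hbcoe]
        have : Fin.last (n + 1) = Fin.succ (Fin.last n) := rfl
        rw [this, Fin.cons_succ]
      rw [hlast]
      exact hb3

end

/-- Over a finite field of odd characteristic, a non-degenerate symmetric bilinear form has an orthogonal basis whose vectors all have norm 1 except possibly the last, whose norm is 1 or a prescribed non-square. -/
theorem result {F V : Type*} [Field F] [Finite F] [AddCommGroup V] [Module F V] [FiniteDimensional F V] (h2 : (2 : F) ≠ 0) (B : LinearMap.BilinForm F V) (hS : B.IsSymm) (hB : B.Nondegenerate) {n : ℕ} (hn : Module.finrank F V = n + 1) (α : F) (hα : ¬ IsSquare α) : ∃ b : Module.Basis (Fin (n + 1)) F V, (∀ i j, i ≠ j → B (b i) (b j) = 0) ∧ (∀ i, i ≠ Fin.last n → B (b i) (b i) = 1) ∧ (B (b (Fin.last n)) (b (Fin.last n)) = 1 ∨ B (b (Fin.last n)) (b (Fin.last n)) = α) :=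
  main h2 α hα n B hS hB hn

end Cfsg.Agent.S0756
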