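import Mathlib
import Cfsg.Statements.S0757

set_option autoImplicit false
open Cfsg

namespace Cfsg.Agent.S0757

open QuadraticMap

theorem toMatrix'_wss {F : Type*} [Field F] [Invertible (2:F)] (n : ℕ) (w : Fin (n+1) → F) :
    QuadraticForm.toMatrix' (QuadraticMap.weightedSumSquares F w) = Matrix.diagonal w := by
  have h : QuadraticMap.weightedSumSquares F w = (Matrix.diagonal w).toQuadraticForm' := by
    ext x
    simp only [weightedSumSquares_apply, Matrix.toQuadraticForm', LinearMap.BilinMap.toQuadraticMap_apply,
      Matrix.toLinearMap₂'_apply', smul_eq_mul]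
    simp [Matrix.mulVec_diagonal, dotProduct, mul_left_comm]
  rw [h, QuadraticForm.toMatrix', Matrix.toQuadraticForm']
  have : (QuadraticMap.associated (R := F) (LinearMap.BilinMap.toQuadraticMap (Matrix.toLinearMap₂' F (Matrix.diagonal w)))) = Matrix.toLinearMap₂' F (Matrix.diagonal w) := by
    apply QuadraticMap.associated_left_inverse
    intro x y
    simp [Matrix.toLinearMap₂'_apply', Matrix.mulVec_diagonal, dotProduct, mul_comm, mul_left_comm]
  rw [this]
  simp

/-- The two diagonal forms Σ x_i^2 and Σ_(i<n) x_i^2 + α x_n^2 on F^(n+1), with α a non-square and 2 ≠ 0 in F, are inequivalent quadratic forms (so over a finite field of odd order there are exactly two classes of non-singular symmetric bilinear forms in each dimension). -/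
theorem result {F : Type*} [Field F] (h2 : (2 : F) ≠ 0) (n : ℕ) (α : F) (hα : ¬ IsSquare α) : ¬ (QuadraticMap.weightedSumSquares F (fun _ : Fin (n + 1) => (1 : F))).Equivalent (QuadraticMap.weightedSumSquares F (fun i : Fin (n + 1) => if i = Fin.last n then α else (1 : F))) := by
  rintro ⟨e⟩
  haveI : Invertible (2 : F) := invertibleOfNonzero h2
  set Q1 := QuadraticMap.weightedSumSquares F (fun _ : Fin (n + 1) => (1 : F)) with hQ1
  set Q2 := QuadraticMap.weightedSumSquares F (fun i : Fin (n + 1) => if i = Fin.last n then α else (1 : F)) with hQ2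
  have hcomp : Q1 = Q2.comp (e.toLinearEquiv : (Fin (n+1) → F) →ₗ[F] (Fin (n+1) → F)) := by
    ext x
    simp only [QuadraticMap.comp_apply]
    exact (e.map_app x).symm
  have hd := congrArg QuadraticForm.discr' hcomp
  rw [QuadraticForm.discr'_comp] at hd
  simp only [QuadraticForm.discr', hQ1, hQ2, toMatrix'_wss, Matrix.det_diagonal] at hd
  simp only [Finset.prod_const_one, Finset.prod_ite_eq', Finset.mem_univ, if_true] at hd
  apply hα
  set d := (LinearMap.toMatrix' (e.toLinearEquiv : (Fin (n+1) → F) →ₗ[F] (Fin (n+1) → F))).det with hdd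
  have hd0 : d ≠ 0 := by
    intro h0
    rw [h0] at hd
    simp at hd
  refine ⟨d⁻¹, ?_⟩
  have h1 : α = d⁻¹ * d⁻¹ * (d * d * α) := by
    field_simp
  rw [← hd] at h1
  rw [mul_one] at h1
  exact h1

end Cfsg.Agent.S0757
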