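import Mathlib
import Cfsg.Statements.S0758

set_option autoImplicit false
open Cfsg

namespace Cfsg.Agent.S0758

/-- For a finite field F of odd order q and a non-square α: the form x² + y² is isotropic iff q ≡ 1 mod 4, and the form x² + α y² is isotropic iff q ≡ 3 mod 4. -/
theorem result {F : Type*} [Field F] [Fintype F] (h2 : (2 : F) ≠ 0) (α : F) (hα : ¬ IsSquare α) : ((∃ x y : F, (x ≠ 0 ∨ y ≠ 0) ∧ x ^ 2 + y ^ 2 = 0) ↔ Fintype.card F % 4 = 1) ∧ ((∃ x y : F, (x ≠ 0 ∨ y ≠ 0) ∧ x ^ 2 + α * y ^ 2 = 0) ↔ Fintype.card F % 4 = 3) := by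
  classical
  have hchar : ringChar F ≠ 2 := by
    intro h
    apply h2
    have := ringChar.Nat.cast_ringChar (R := F)
    rw [h] at this
    exact_mod_cast this
  have hodd : Fintype.card F % 2 = 1 := FiniteField.odd_card_of_char_ne_two hchar
  have hsq := FiniteField.isSquare_neg_one_iff (F := F)
  have hα0 : α ≠ 0 := by
    rintro rfl
    exact hα ⟨0, by simp⟩
  -- general lemma: x² + c y² = 0 nontrivially iff -c is a square
  have key : ∀ c : F, c ≠ 0 → ((∃ x y : F, (x ≠ 0 ∨ y ≠ 0) ∧ x ^ 2 + c * y ^ 2 = 0) ↔ IsSquare (-c)) := by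
    intro c hc
    constructor
    · rintro ⟨x, y, hxy, h⟩
      have hy : y ≠ 0 := by
        intro hy
        rw [hy] at h
        simp at h
        rcases hxy with hx | hy'
        · exact hx h
        · exact hy' hy
      refine ⟨x / y, ?_⟩
      field_simp
      linear_combination -h
    · rintro ⟨a, ha⟩
      refine ⟨a, 1, Or.inr one_ne_zero, ?_⟩
      linear_combination -ha
  constructor
  · have h1 := key 1 one_ne_zero
    simp only [one_mul] at h1
    rw [h1, hsq]
    omega
  · rw [key α hα0]
    have h1 : IsSquare (-α) ↔ ¬ IsSquare (-1 : F) := by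
      rw [← quadraticChar_one_iff_isSquare (neg_ne_zero.mpr hα0),
        ← quadraticChar_neg_one_iff_not_isSquare, show -α = (-1) * α by ring, map_mul,
        quadraticChar_neg_one_iff_not_isSquare.2 hα]
      constructor
      · intro h
        linear_combination -h
      · intro h
        rw [h]; norm_num
    rw [h1, hsq]
    omega

end Cfsg.Agent.S0758
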