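import Mathlib
import Cfsg.Statements.S0759

set_option autoImplicit false
open Cfsg

namespace Cfsg.Agent.S0759

open Matrix

section construct

variable {F : Type*} [Field F]

/-- From a matrix with `C Cᵀ = -1` to a totally singular subspace of half dimension. -/
theorem exists_of_matrix {κ : Type} [Fintype κ] [DecidableEq κ] (m : ℕ) (hκ : Fintype.card κ = m)
    (C : Matrix κ κ F) (hC : C * Cᵀ = -1) :
    ∃ W : Submodule F (Fin (2 * m) → F), Module.finrank F W = m ∧ ∀ w ∈ W, ∑ i, w i ^ 2 = 0 := by
  have hcard : Fintype.card (κ ⊕ κ) = 2 * m := by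
    rw [Fintype.card_sum, hκ, two_mul]
  set e : κ ⊕ κ ≃ Fin (2 * m) := Fintype.equivFinOfCardEq hcard with he
  -- the embedding
  set T : (κ → F) →ₗ[F] (Fin (2 * m) → F) :=
    { toFun := fun c x => Sum.elim c (c ᵥ* C) (e.symm x)
      map_add' := by
        intro c c'
        funext x
        show Sum.elim (c + c') ((c + c') ᵥ* C) (e.symm x) =
          Sum.elim c (c ᵥ* C) (e.symm x) + Sum.elim c' (c' ᵥ* C) (e.symm x)
        generalize e.symm x = y
        rcases y with j | j
        · simp
        · simp [Matrix.add_vecMul]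
      map_smul' := by
        intro a c
        funext x
        show Sum.elim (a • c) ((a • c) ᵥ* C) (e.symm x) = a • Sum.elim c (c ᵥ* C) (e.symm x)
        generalize e.symm x = y
        rcases y with j | j
        · simp
        · simp [Matrix.smul_vecMul] } with hT
  have hTapp : ∀ (c : κ → F) (y : κ ⊕ κ), T c (e y) = Sum.elim c (c ᵥ* C) y := by
    intro c y
    show Sum.elim c (c ᵥ* C) (e.symm (e y)) = _
    rw [Equiv.symm_apply_apply]
  have hinj : Function.Injective T := by
    intro c c' h
    funext j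
    have := congrFun h (e (Sum.inl j))
    rw [hTapp, hTapp] at this
    exact this
  refine ⟨LinearMap.range T, ?_, ?_⟩
  · rw [LinearMap.finrank_range_of_inj hinj, Module.finrank_fintype_fun_eq_card, hκ]
  · rintro w ⟨c, rfl⟩
    have h1 : ∑ i, T c i ^ 2 = ∑ y : κ ⊕ κ, (Sum.elim c (c ᵥ* C) y) ^ 2 := by
      rw [← Equiv.sum_comp e]
      apply Finset.sum_congr rfl
      intro y _
      rw [hTapp]
    rw [h1, Fintype.sum_sum_type]
    simp only [Sum.elim_inl, Sum.elim_inr]
    have h2 : ∑ j, (c ᵥ* C) j ^ 2 = - ∑ j, c j ^ 2 := by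
      have h3 : ∑ j, (c ᵥ* C) j ^ 2 = (c ᵥ* C) ⬝ᵥ (c ᵥ* C) := by
        unfold dotProduct
        apply Finset.sum_congr rfl
        intro j _
        rw [pow_two]
      have h4 : ∑ j, c j ^ 2 = c ⬝ᵥ c := by
        unfold dotProduct
        apply Finset.sum_congr rfl
        intro j _
        rw [pow_two]
      rw [h3, h4]
      nth_rewrite 2 [← Matrix.mulVec_transpose]
      rw [Matrix.dotProduct_mulVec, Matrix.vecMul_vecMul, hC, Matrix.vecMul_neg, Matrix.vecMul_one,
        neg_dotProduct]
    rw [h2, add_neg_cancel]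

end construct

section converse

variable {F : Type*} [Field F]

/-- A totally singular half-dimensional subspace forces `(-1)^m` to be a square. -/
theorem isSquare_of_exists (h2 : (2 : F) ≠ 0) (m : ℕ) (W : Submodule F (Fin (2 * m) → F))
    (hWm : Module.finrank F W = m) (hW : ∀ w ∈ W, ∑ i, w i ^ 2 = 0) : IsSquare ((-1 : F) ^ m) := by
  -- the bilinear form vanishes on W
  have hdot : ∀ w : Fin (2 * m) → F, ∑ i, w i ^ 2 = w ⬝ᵥ w := by
    intro w
    unfold dotProduct
    apply Finset.sum_congr rfl
    intro j _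
    rw [pow_two]
  have hBW : ∀ w ∈ W, ∀ w' ∈ W, w ⬝ᵥ w' = 0 := by
    intro w hw w' hw'
    have h1 := hW (w + w') (W.add_mem hw hw')
    rw [hdot, add_dotProduct, dotProduct_add, dotProduct_add, ← hdot w, hW w hw, ← hdot w', hW w' hw',
      zero_add, add_zero, dotProduct_comm w' w] at h1
    have h3 : (2 : F) * (w ⬝ᵥ w') = 0 := by rw [two_mul]; exact h1
    rcases mul_eq_zero.mp h3 with h | h
    · exact absurd h h2
    · exact h
  -- a complement and bases
  obtain ⟨W', hcompl⟩ := Submodule.exists_isCompl W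
  have hW'm : Module.finrank F W' = m := by
    have h1 := Submodule.finrank_add_eq_of_isCompl hcompl
    rw [hWm, Module.finrank_fin_fun] at h1
    omega
  set bW : Module.Basis (Fin m) F W := Module.finBasisOfFinrankEq F W hWm with hbW
  set bW' : Module.Basis (Fin m) F W' := Module.finBasisOfFinrankEq F W' hW'm with hbW'
  set b : Module.Basis (Fin m ⊕ Fin m) F (Fin (2 * m) → F) :=
    (bW.prod bW').map (Submodule.prodEquivOfIsCompl W W' hcompl) with hb
  have hbinl : ∀ j : Fin m, b (Sum.inl j) ∈ W := by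
    intro j
    have : b (Sum.inl j) = (bW j : Fin (2 * m) → F) := by
      rw [hb, Module.Basis.map_apply, Submodule.coe_prodEquivOfIsCompl']
      simp
    rw [this]
    exact (bW j).2
  -- the Gram matrix
  have hcard : Fintype.card (Fin m ⊕ Fin m) = 2 * m := by
    rw [Fintype.card_sum, Fintype.card_fin, two_mul]
  set e : Fin m ⊕ Fin m ≃ Fin (2 * m) := Fintype.equivFinOfCardEq hcard with he
  set b' : Module.Basis (Fin (2 * m)) F (Fin (2 * m) → F) := b.reindex e with hb'
  set P : Matrix (Fin (2 * m)) (Fin (2 * m)) F := (Pi.basisFun F (Fin (2 * m))).toMatrix b' with hP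
  have hPapp : ∀ x y, P x y = b (e.symm y) x := by
    intro x y
    rw [hP, Module.Basis.toMatrix_apply, Pi.basisFun_repr, hb', Module.Basis.reindex_apply]
  have hPdet : P.det ≠ 0 := by
    have : Invertible P := Module.Basis.invertibleToMatrix _ _
    exact ((Matrix.isUnit_iff_isUnit_det P).mp (isUnit_of_invertible P)).ne_zero
  set G : Matrix (Fin m ⊕ Fin m) (Fin m ⊕ Fin m) F := (Pᵀ * P).submatrix e e with hG
  have hGapp : ∀ j j', G j j' = b j ⬝ᵥ b j' := by
    intro j j'
    rw [hG, Matrix.submatrix_apply, Matrix.mul_apply]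
    unfold dotProduct
    apply Finset.sum_congr rfl
    intro x _
    rw [Matrix.transpose_apply, hPapp, hPapp, Equiv.symm_apply_apply, Equiv.symm_apply_apply]
  have hGdet : G.det = P.det ^ 2 := by
    rw [hG, Matrix.det_submatrix_equiv_self, Matrix.det_mul, Matrix.det_transpose, pow_two]
  have hG11 : G.toBlocks₁₁ = 0 := by
    ext j j'
    rw [Matrix.toBlocks₁₁, Matrix.of_apply, hGapp, Matrix.zero_apply]
    exact hBW _ (hbinl j) _ (hbinl j')
  have hG21 : G.toBlocks₂₁ = G.toBlocks₁₂ᵀ := by
    ext j j'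
    rw [Matrix.transpose_apply, Matrix.toBlocks₂₁, Matrix.toBlocks₁₂, Matrix.of_apply, Matrix.of_apply,
      hGapp, hGapp, dotProduct_comm]
  set A := G.toBlocks₁₂ with hA
  have hGblocks : G = Matrix.fromBlocks 0 A Aᵀ G.toBlocks₂₂ := by
    conv_lhs => rw [← Matrix.fromBlocks_toBlocks G, hG11, hG21]
  have hGJ : G * Matrix.J (Fin m) F = Matrix.fromBlocks A 0 G.toBlocks₂₂ (-Aᵀ) := by
    rw [hGblocks, Matrix.J, Matrix.fromBlocks_multiply]
    simp
  have hdetGJ : (G * Matrix.J (Fin m) F).det = G.det := by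
    rw [Matrix.det_mul, SymplecticGroup.det_eq_one (SymplecticGroup.J_mem _ _), mul_one]
  have hdet2 : G.det = (-1) ^ m * A.det ^ 2 := by
    rw [← hdetGJ, hGJ, Matrix.det_fromBlocks_zero₁₂, Matrix.det_neg, Matrix.det_transpose, Fintype.card_fin]
    ring
  have hAdet : A.det ≠ 0 := by
    intro h0
    rw [hdet2, h0] at hGdet
    have : P.det ^ 2 = 0 := by rw [← hGdet]; ring
    exact hPdet (pow_eq_zero_iff (by norm_num) |>.mp this)
  refine ⟨P.det / A.det, ?_⟩
  have h5 : (-1 : F) ^ m * A.det ^ 2 = P.det ^ 2 := by rw [← hdet2, hGdet]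
  rw [div_mul_div_comm, ← pow_two, ← pow_two, eq_div_iff (pow_ne_zero 2 hAdet)]
  exact h5

end converse

/-- Type of the orthonormal form: over a finite field of odd order q and for m ≥ 1, the quadratic form Σ_(i<2m) x_i² on F^(2m) admits an m-dimensional subspace on which it vanishes identically if and only if it is not the case that q ≡ 3 (mod 4) and m is odd. -/
theorem result {F : Type*} [Field F] [Fintype F] (h2 : (2 : F) ≠ 0) (m : ℕ) (hm : 1 ≤ m) : (∃ W : Submodule F (Fin (2 * m) → F), Module.finrank F W = m ∧ ∀ w ∈ W, ∑ i, w i ^ 2 = 0) ↔ ¬ (Fintype.card F % 4 = 3 ∧ Odd m) := by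
  constructor
  · rintro ⟨W, hWm, hW⟩ ⟨h3, hodd⟩
    have hsq := isSquare_of_exists h2 m W hWm hW
    rw [hodd.neg_one_pow] at hsq
    exact (FiniteField.isSquare_neg_one_iff.mp hsq) h3
  · intro h
    by_cases h3 : Fintype.card F % 4 = 3
    · -- m is even
      have heven : Even m := by
        rcases Nat.even_or_odd m with he | ho
        · exact he
        · exact absurd ⟨h3, ho⟩ h
      obtain ⟨k, hk⟩ := heven
      obtain ⟨p, hp⟩ := CharP.exists F
      have hpprime : p.Prime := by
        rcases CharP.char_is_prime_or_zero F p with h | h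
        · exact h
        · exfalso
          subst h
          have : CharZero F := CharP.charP_to_charZero F
          exact not_finite F
      have : NeZero p := ⟨hpprime.ne_zero⟩
      obtain ⟨a, b, hab⟩ := CharP.sq_add_sq F p (-1)
      have hab' : (a : F) ^ 2 + (b : F) ^ 2 = -1 := by
        rw [hab]; simp
      apply exists_of_matrix (κ := Fin k ⊕ Fin k) m (by rw [Fintype.card_sum, Fintype.card_fin, hk])
        (Matrix.fromBlocks ((a : F) • 1) ((b : F) • 1) (-(b : F) • 1) ((a : F) • 1))
      rw [Matrix.fromBlocks_transpose, Matrix.fromBlocks_multiply]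
      simp only [Matrix.transpose_smul, Matrix.transpose_one, Matrix.smul_mul, Matrix.mul_smul,
        Matrix.one_mul, smul_smul]
      rw [← add_smul, ← add_smul, ← add_smul, ← add_smul]
      have e1 : (a : F) * (a : F) + (b : F) * (b : F) = -1 := by rw [← hab']; ring
      have e2 : (a : F) * -(b : F) + (b : F) * (a : F) = 0 := by ring
      have e3 : -(b : F) * (a : F) + (a : F) * (b : F) = 0 := by ring
      have e4 : -(b : F) * -(b : F) + (a : F) * (a : F) = -1 := by rw [← hab']; ring
      have hneg : (-1 : Matrix (Fin k ⊕ Fin k) (Fin k ⊕ Fin k) F) = Matrix.fromBlocks (-1) 0 0 (-1) := by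
        rw [← Matrix.fromBlocks_one, Matrix.fromBlocks_neg, neg_zero]
      rw [e1, e2, e3, e4, zero_smul, neg_one_smul, hneg]
    · -- -1 is a square
      obtain ⟨i, hi⟩ := FiniteField.isSquare_neg_one_iff.mpr h3
      apply exists_of_matrix (κ := Fin m) m (Fintype.card_fin m) (i • (1 : Matrix (Fin m) (Fin m) F))
      rw [Matrix.transpose_smul, Matrix.transpose_one, Matrix.smul_mul, Matrix.mul_smul, Matrix.one_mul,
        smul_smul, ← hi, neg_one_smul]

end Cfsg.Agent.S0759
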