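import Mathlib
import Cfsg.Statements.S0763

set_option autoImplicit false
open Cfsg

namespace Cfsg.Agent.S0763

section

variable {F V : Type*} [Field F] [AddCommGroup V] [Module F V]

theorem polar_self_char2 [CharP F 2] (Q : QuadraticForm F V) (v : V) : QuadraticMap.polar Q v v = 0 := by
  rw [QuadraticMap.polar_self, two_nsmul]
  exact CharTwo.add_self_eq_zero _

theorem map_add_polar (Q : QuadraticForm F V) (a b : V) :
    Q (a + b) = Q a + Q b + QuadraticMap.polar Q a b := by
  unfold QuadraticMap.polar
  ring

/-- A pair `v, w` with `f(v, w) = 1` is linearly independent in characteristic two. -/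
theorem linIndep_of_polar_one [CharP F 2] (Q : QuadraticForm F V) {v w : V}
    (h : QuadraticMap.polar Q v w = 1) (hv : v ≠ 0) : LinearIndependent F ![v, w] := by
  rw [LinearIndependent.pair_iff]
  intro s t hst
  have h1 : QuadraticMap.polar Q v (s • v + t • w) = 0 := by
    rw [hst]; simp
  rw [QuadraticMap.polar_add_right, QuadraticMap.polar_smul_right, QuadraticMap.polar_smul_right,
    polar_self_char2, h] at h1
  have ht : t = 0 := by simpa using h1
  rw [ht, zero_smul, add_zero] at hst
  rcases smul_eq_zero.mp hst with h2 | h2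
  · exact ⟨h2, ht⟩
  · exact absurd h2 hv

/-- From a nonzero vector, a partner with polar value one. -/
theorem exists_polar_one (Q : QuadraticForm F V) (hQ : (QuadraticMap.polarBilin Q).Nondegenerate)
    {v : V} (hv : v ≠ 0) : ∃ w : V, QuadraticMap.polar Q v w = 1 := by
  have h1 : ¬ ∀ y : V, QuadraticMap.polarBilin Q v y = 0 := fun h => hv (hQ.1 v h)
  push Not at h1
  obtain ⟨y, hy⟩ := h1
  rw [QuadraticMap.polarBilin_apply_apply] at hy
  refine ⟨(QuadraticMap.polar Q v y)⁻¹ • y, ?_⟩
  rw [QuadraticMap.polar_smul_right, smul_eq_mul, inv_mul_cancel₀ hy]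

end

/-- Over a finite field of characteristic two, a quadratic form on a 2-space with non-degenerate polar form is equivalent either to xy or to x^2 + xy + μy^2 with x^2 + x + μ irreducible. -/
theorem result {F V : Type*} [Field F] [Finite F] [CharP F 2] [AddCommGroup V] [Module F V] (Q : QuadraticForm F V) (h2 : Module.finrank F V = 2) (hQ : (QuadraticMap.polarBilin Q).Nondegenerate) : (∃ v w : V, LinearIndependent F ![v, w] ∧ Q v = 0 ∧ Q w = 0 ∧ QuadraticMap.polar Q v w = 1) ∨ (∃ (v w : V) (μ : F), LinearIndependent F ![v, w] ∧ (∀ x : F, x ^ 2 + x + μ ≠ 0) ∧ Q v = 1 ∧ Q w = μ ∧ QuadraticMap.polar Q v w = 1) := by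
  by_cases hsing : ∃ v : V, v ≠ 0 ∧ Q v = 0
  · left
    obtain ⟨v, hv, hQv⟩ := hsing
    obtain ⟨w1, hw1⟩ := exists_polar_one Q hQ hv
    set c : F := -Q w1 with hc
    refine ⟨v, w1 + c • v, ?_, hQv, ?_, ?_⟩
    · apply linIndep_of_polar_one Q _ hv
      rw [QuadraticMap.polar_add_right, QuadraticMap.polar_smul_right, polar_self_char2, hw1]
      simp
    · rw [map_add_polar, QuadraticMap.map_smul, hQv, QuadraticMap.polar_smul_right,
        QuadraticMap.polar_comm, hw1, hc]
      simp
    · rw [QuadraticMap.polar_add_right, QuadraticMap.polar_smul_right, polar_self_char2, hw1]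
      simp
  · right
    push Not at hsing
    have : Nontrivial V := by
      apply Module.nontrivial_of_finrank_pos (R := F)
      rw [h2]; norm_num
    obtain ⟨u, hu⟩ := exists_ne (0 : V)
    have ha : Q u ≠ 0 := hsing u hu
    have hchar : ringChar F = 2 := ringChar.eq F 2
    obtain ⟨b, hb⟩ := FiniteField.isSquare_of_char_two hchar (Q u)
    have hb0 : b ≠ 0 := by
      rintro rfl
      rw [mul_zero] at hb
      exact ha hb
    set v := b⁻¹ • u with hv
    have hv0 : v ≠ 0 := by
      rw [hv]
      exact smul_ne_zero (inv_ne_zero hb0) hu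
    have hQv : Q v = 1 := by
      rw [hv, QuadraticMap.map_smul, hb, smul_eq_mul]
      field_simp
    obtain ⟨w, hw⟩ := exists_polar_one Q hQ hv0
    have hli := linIndep_of_polar_one Q hw hv0
    refine ⟨v, w, Q w, hli, ?_, hQv, rfl, hw⟩
    intro x hx
    have hne : x • v + w ≠ 0 := by
      intro h0
      rw [LinearIndependent.pair_iff] at hli
      have := hli x 1 (by rw [one_smul]; exact h0)
      exact one_ne_zero this.2
    apply hsing _ hne
    rw [map_add_polar, QuadraticMap.map_smul, hQv, QuadraticMap.polar_smul_left, hw]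
    rw [← hx]
    simp only [smul_eq_mul]
    ring

end Cfsg.Agent.S0763
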