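import Mathlib
import Cfsg.Prelude.Def_ClassicalGeometry
import Cfsg.Agent.Lib.Helper2.SympSimple
set_option autoImplicit false
open scoped LinearAlgebra.Projectivization
open Cfsg
namespace Cfsg.Agent.S0768

open scoped Cfsg.Agent.Helper2.Symp

/-- a symplectic matrix as an element of `spGL` -/
noncomputable def toSpGL {F : Type*} [Field F] (m : ℕ) (g : Matrix.symplecticGroup (Fin m) F) :
    ↥(Cfsg.spGL m F) :=
  ⟨⟨(g : Matrix (Fin m ⊕ Fin m) (Fin m ⊕ Fin m) F),
    ((g⁻¹ : Matrix.symplecticGroup (Fin m) F) : Matrix (Fin m ⊕ Fin m) (Fin m ⊕ Fin m) F),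
    by
      have h := congrArg Subtype.val (mul_inv_cancel g)
      exact h,
    by
      have h := congrArg Subtype.val (inv_mul_cancel g)
      exact h⟩, by
    intro u v
    exact Cfsg.Agent.Helper2.Symp.Bf_mulVec g.2 u v⟩

theorem toSpGL_smul {F : Type*} [Field F] (m : ℕ) (g : Matrix.symplecticGroup (Fin m) F)
    (p : ℙ F (Fin m ⊕ Fin m → F)) : g • p = toSpGL m g • p := by
  induction p using Projectivization.ind with
  | h v hv => rfl

/-- Primitivity: for m ≥ 1 and F finite, the symplectic group of the form sympForm (as a subgroup of the general linear group) acts primitively on the projective space of F^(2m). -/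
theorem result {F : Type*} [Field F] [Finite F] (m : ℕ) (hm : 1 ≤ m) : MulAction.IsPreprimitive ↥(Cfsg.spGL m F) (ℙ F (Fin m ⊕ Fin m → F)) := by
  have h1 : MulAction.IsPreprimitive (Matrix.symplecticGroup (Fin m) F)
      (ℙ F (Fin m ⊕ Fin m → F)) := Cfsg.Agent.Helper2.Symp.isPreprimitive_proj
  let f : (ℙ F (Fin m ⊕ Fin m → F)) →ₑ[toSpGL (F := F) m] (ℙ F (Fin m ⊕ Fin m → F)) :=
    ⟨id, fun g p => toSpGL_smul m g p⟩
  exact MulAction.IsPreprimitive.of_surjective (f := f) Function.surjective_id
end Cfsg.Agent.S0768
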