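import Mathlib
import Cfsg.Statements.S0770

set_option autoImplicit false
open Cfsg

namespace Cfsg.Agent.S0770

open Matrix

section

variable {F : Type*} [Field F] {n : ℕ}

/-- The diagonal torus. -/
abbrev torus (F : Type*) [Field F] (n : ℕ) : Subgroup (GL (Fin n) F) :=
  (Units.map (Matrix.diagonalRingHom (Fin n) F).toMonoidHom).range

theorem mul_inv_apply_self (g : GL (Fin n) F) (i j : Fin n) :
    ∑ k, (g : Matrix (Fin n) (Fin n) F) i k * ((g⁻¹ : GL (Fin n) F) : Matrix (Fin n) (Fin n) F) k j =
      if i = j then 1 else 0 := by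
  have h : (g : Matrix (Fin n) (Fin n) F) * ((g⁻¹ : GL (Fin n) F) : Matrix (Fin n) (Fin n) F) = 1 := by
    rw [← Units.val_mul, mul_inv_cancel, Units.val_one]
  have := congrFun (congrFun h i) j
  rw [Matrix.mul_apply, Matrix.one_apply] at this
  exact this

/-- Membership in the torus: all off-diagonal entries vanish. -/
theorem mem_torus_iff (h : GL (Fin n) F) :
    h ∈ torus F n ↔ ∀ i j : Fin n, i ≠ j → (h : Matrix (Fin n) (Fin n) F) i j = 0 := by
  constructor
  · rintro ⟨u, rfl⟩ i j hij
    simp [Matrix.diagonal_apply_ne _ hij]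
  · intro hd
    have hne : ∀ i, (h : Matrix (Fin n) (Fin n) F) i i ≠ 0 := by
      intro i h0
      have h1 := mul_inv_apply_self h i i
      rw [if_pos rfl] at h1
      have h2 : ∑ k, (h : Matrix (Fin n) (Fin n) F) i k * ((h⁻¹ : GL (Fin n) F) : Matrix (Fin n) (Fin n) F) k i = 0 := by
        apply Finset.sum_eq_zero
        intro k _
        by_cases hk : i = k
        · subst hk; rw [h0, zero_mul]
        · rw [hd i k hk, zero_mul]
      rw [h2] at h1
      exact zero_ne_one h1
    refine ⟨MulEquiv.piUnits.symm (fun i => Units.mk0 _ (hne i)), ?_⟩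
    apply Units.ext
    ext i j
    simp only [Units.coe_map, RingHom.toMonoidHom_eq_coe, MonoidHom.coe_coe, Matrix.diagonalRingHom_apply]
    by_cases hij : i = j
    · subst hij
      rw [Matrix.diagonal_apply_eq]
      rfl
    · rw [Matrix.diagonal_apply_ne _ hij, hd i j hij]

/-- The diagonal unit with prescribed nonzero entries. -/
noncomputable def diagUnit (d : Fin n → F) (hd : ∀ i, d i ≠ 0) : GL (Fin n) F :=
  Units.map (Matrix.diagonalRingHom (Fin n) F).toMonoidHom (MulEquiv.piUnits.symm (fun i => Units.mk0 _ (hd i)))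

theorem diagUnit_val (d : Fin n → F) (hd : ∀ i, d i ≠ 0) :
    ((diagUnit d hd : GL (Fin n) F) : Matrix (Fin n) (Fin n) F) = Matrix.diagonal d := by
  unfold diagUnit
  simp only [Units.coe_map, RingHom.toMonoidHom_eq_coe, MonoidHom.coe_coe, Matrix.diagonalRingHom_apply]
  congr 1

theorem diagUnit_mem (d : Fin n → F) (hd : ∀ i, d i ≠ 0) : diagUnit d hd ∈ torus F n :=
  ⟨_, rfl⟩

end

/-- Over a field with at least three elements, the normaliser in GL_n of the diagonal torus consists exactly of the monomial matrices. -/
theorem result {F : Type*} [Field F] (hF : ∃ a : F, a ≠ 0 ∧ a ≠ 1) (n : ℕ) (g : Matrix.GeneralLinearGroup (Fin n) F) : g ∈ Subgroup.normalizer ((Units.map (Matrix.diagonalRingHom (Fin n) F).toMonoidHom).range : Subgroup (Matrix.GeneralLinearGroup (Fin n) F)) ↔ ∀ i : Fin n, ∃! j : Fin n, (g : Matrix (Fin n) (Fin n) F) i j ≠ 0 := by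
  obtain ⟨a, ha0, ha1⟩ := hF
  -- g h = h' g in entries
  have hconj : ∀ h : GL (Fin n) F, (g : Matrix (Fin n) (Fin n) F) * (h : Matrix (Fin n) (Fin n) F) =
      ((g * h * g⁻¹ : GL (Fin n) F) : Matrix (Fin n) (Fin n) F) * (g : Matrix (Fin n) (Fin n) F) := by
    intro h
    rw [← Units.val_mul, ← Units.val_mul]
    congr 1
    group
  rw [Subgroup.mem_normalizer_iff]
  constructor
  · intro hnorm i
    -- existence
    have hex : ∃ j, (g : Matrix (Fin n) (Fin n) F) i j ≠ 0 := by
      by_contra hne
      push Not at hne
      have h1 := mul_inv_apply_self g i i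
      rw [if_pos rfl] at h1
      have h2 : ∑ k, (g : Matrix (Fin n) (Fin n) F) i k * ((g⁻¹ : GL (Fin n) F) : Matrix (Fin n) (Fin n) F) k i = 0 := by
        apply Finset.sum_eq_zero
        intro k _
        rw [hne k, zero_mul]
      rw [h2] at h1
      exact zero_ne_one h1
    obtain ⟨j, hj⟩ := hex
    refine ⟨j, hj, ?_⟩
    intro k hk
    by_contra hkj
    -- the diagonal element with entry a at j
    have hd : ∀ l, (Function.update (fun _ : Fin n => (1 : F)) j a) l ≠ 0 := by
      intro l
      by_cases hl : l = j
      · subst hl; simpa using ha0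
      · rw [Function.update_of_ne hl]; exact one_ne_zero
    set h := diagUnit _ hd with hh
    have hmem := (hnorm h).mp (diagUnit_mem _ hd)
    rw [mem_torus_iff] at hmem
    set h' := g * h * g⁻¹ with hh'
    have e := hconj h
    have ej := congrFun (congrFun e i) j
    have ek := congrFun (congrFun e i) k
    rw [Matrix.mul_apply, Matrix.mul_apply] at ej ek
    rw [hh, diagUnit_val] at ej ek
    -- left sides
    have lj : ∑ l, (g : Matrix (Fin n) (Fin n) F) i l * Matrix.diagonal (Function.update (fun _ : Fin n => (1 : F)) j a) l j =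
        (g : Matrix (Fin n) (Fin n) F) i j * a := by
      rw [Finset.sum_eq_single j]
      · rw [Matrix.diagonal_apply_eq, Function.update_self]
      · intro l _ hl
        rw [Matrix.diagonal_apply_ne _ hl, mul_zero]
      · intro hj'; exact absurd (Finset.mem_univ j) hj'
    have lk : ∑ l, (g : Matrix (Fin n) (Fin n) F) i l * Matrix.diagonal (Function.update (fun _ : Fin n => (1 : F)) j a) l k =
        (g : Matrix (Fin n) (Fin n) F) i k := by
      rw [Finset.sum_eq_single k]
      · rw [Matrix.diagonal_apply_eq, Function.update_of_ne hkj, mul_one]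
      · intro l _ hl
        rw [Matrix.diagonal_apply_ne _ hl, mul_zero]
      · intro hk'; exact absurd (Finset.mem_univ k) hk'
    -- right sides
    have rj : ∑ l, (h' : Matrix (Fin n) (Fin n) F) i l * (g : Matrix (Fin n) (Fin n) F) l j =
        (h' : Matrix (Fin n) (Fin n) F) i i * (g : Matrix (Fin n) (Fin n) F) i j := by
      rw [Finset.sum_eq_single i]
      · intro l _ hl
        rw [hmem i l (Ne.symm hl), zero_mul]
      · intro hi'; exact absurd (Finset.mem_univ i) hi'
    have rk : ∑ l, (h' : Matrix (Fin n) (Fin n) F) i l * (g : Matrix (Fin n) (Fin n) F) l k =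
        (h' : Matrix (Fin n) (Fin n) F) i i * (g : Matrix (Fin n) (Fin n) F) i k := by
      rw [Finset.sum_eq_single i]
      · intro l _ hl
        rw [hmem i l (Ne.symm hl), zero_mul]
      · intro hi'; exact absurd (Finset.mem_univ i) hi'
    rw [lj, rj] at ej
    rw [lk, rk] at ek
    have h1 : (h' : Matrix (Fin n) (Fin n) F) i i = a := by
      have : (g : Matrix (Fin n) (Fin n) F) i j * a = (g : Matrix (Fin n) (Fin n) F) i j * (h' : Matrix (Fin n) (Fin n) F) i i := by
        rw [mul_comm ((g : Matrix (Fin n) (Fin n) F) i j) ((h' : Matrix (Fin n) (Fin n) F) i i)]; exact ej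
      exact (mul_left_cancel₀ hj this).symm
    have h2 : (h' : Matrix (Fin n) (Fin n) F) i i = 1 := by
      have : (g : Matrix (Fin n) (Fin n) F) i k * 1 = (g : Matrix (Fin n) (Fin n) F) i k * (h' : Matrix (Fin n) (Fin n) F) i i := by
        rw [mul_one, mul_comm ((g : Matrix (Fin n) (Fin n) F) i k)]; exact ek
      exact (mul_left_cancel₀ hk this).symm
    exact ha1 (h1.symm.trans h2)
  · intro hmono
    choose π hπ hπu using hmono
    have hzero : ∀ i k, k ≠ π i → (g : Matrix (Fin n) (Fin n) F) i k = 0 := by
      intro i k hk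
      by_contra hne
      exact hk (hπu i k hne)
    -- π is injective
    have hinj : Function.Injective π := by
      intro i i' hii
      by_contra hne
      have h1 := mul_inv_apply_self g i i
      have h2 := mul_inv_apply_self g i' i
      rw [if_pos rfl] at h1
      rw [if_neg (Ne.symm hne)] at h2
      rw [Finset.sum_eq_single (π i)] at h1
      · rw [Finset.sum_eq_single (π i')] at h2
        · rcases mul_eq_zero.mp h2 with h3 | h3
          · exact hπ i' h3
          · rw [← hii] at h3
            rw [h3, mul_zero] at h1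
            exact zero_ne_one h1
        · intro l _ hl
          rw [hzero i' l hl, zero_mul]
        · intro h'; exact absurd (Finset.mem_univ _) h'
      · intro l _ hl
        rw [hzero i l hl, zero_mul]
      · intro h'; exact absurd (Finset.mem_univ _) h'
    have hsurj : Function.Surjective π := Finite.injective_iff_surjective.mp hinj
    -- row computation
    have hrow : ∀ (h : GL (Fin n) F) i k,
        ((g : Matrix (Fin n) (Fin n) F) * (h : Matrix (Fin n) (Fin n) F)) i k =
          (g : Matrix (Fin n) (Fin n) F) i (π i) * (h : Matrix (Fin n) (Fin n) F) (π i) k := by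
      intro h i k
      rw [Matrix.mul_apply, Finset.sum_eq_single (π i)]
      · intro l _ hl
        rw [hzero i l hl, zero_mul]
      · intro h'; exact absurd (Finset.mem_univ _) h'
    intro h
    rw [mem_torus_iff, mem_torus_iff]
    constructor
    · intro hd i i' hii'
      -- (g h g⁻¹) i i' : use g h = D' g
      set d' : Fin n → F := fun i => (h : Matrix (Fin n) (Fin n) F) (π i) (π i) with hd'
      have hgh : (g : Matrix (Fin n) (Fin n) F) * (h : Matrix (Fin n) (Fin n) F) =
          Matrix.diagonal d' * (g : Matrix (Fin n) (Fin n) F) := by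
        ext r c
        rw [hrow, Matrix.diagonal_mul]
        by_cases hc : c = π r
        · subst hc
          rw [hd']; ring
        · rw [hzero r c hc, hd (π r) c (Ne.symm hc)]
          ring
      have hval : ((g * h * g⁻¹ : GL (Fin n) F) : Matrix (Fin n) (Fin n) F) = Matrix.diagonal d' := by
        rw [Units.val_mul, Units.val_mul, hgh, Matrix.mul_assoc, ← Units.val_mul, mul_inv_cancel,
          Units.val_one, Matrix.mul_one]
      rw [hval, Matrix.diagonal_apply_ne _ hii']
    · intro hd j k hjk
      obtain ⟨i, rfl⟩ := hsurj j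
      have e := congrFun (congrFun (hconj h) i) k
      rw [hrow] at e
      rw [Matrix.mul_apply, Finset.sum_eq_single i] at e
      · rw [hzero i k (Ne.symm hjk), mul_zero] at e
        rcases mul_eq_zero.mp e with h3 | h3
        · exact absurd h3 (hπ i)
        · exact h3
      · intro l _ hl
        rw [hd i l (Ne.symm hl), zero_mul]
      · intro h'; exact absurd (Finset.mem_univ _) h'

end Cfsg.Agent.S0770
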