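import Mathlib
import Cfsg.Statements.S0771
import Cfsg.Agent.Lib.Helper28.Parabolic

set_option autoImplicit false
open Cfsg

namespace Cfsg.Agent.S0771

open Matrix Cfsg.Agent.Helper28

section

variable {F : Type*} [Field F] {n k : ℕ}

theorem toBlocks₂₁_eq_zero (hk : k ≤ n) (M : Matrix (Fin n) (Fin n) F) (h : LowerLeftZero k M) :
    (M.submatrix (splitEquiv hk) (splitEquiv hk)).toBlocks₂₁ = 0 := by
  ext b a
  simp only [Matrix.toBlocks₂₁, Matrix.of_apply, Matrix.submatrix_apply, Matrix.zero_apply]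
  apply h
  · rw [splitEquiv_inr_val]; omega
  · rw [splitEquiv_inl_val]; exact a.2

theorem submatrix_eq_fromBlocks (hk : k ≤ n) (M : Matrix (Fin n) (Fin n) F) (h : LowerLeftZero k M) :
    M.submatrix (splitEquiv hk) (splitEquiv hk) =
      Matrix.fromBlocks (M.submatrix (splitEquiv hk) (splitEquiv hk)).toBlocks₁₁
        (M.submatrix (splitEquiv hk) (splitEquiv hk)).toBlocks₁₂ 0
        (M.submatrix (splitEquiv hk) (splitEquiv hk)).toBlocks₂₂ := by
  rw [← toBlocks₂₁_eq_zero hk M h, Matrix.fromBlocks_toBlocks]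

theorem det_blocks (hk : k ≤ n) (M : Matrix (Fin n) (Fin n) F) (h : LowerLeftZero k M) :
    M.det = (M.submatrix (splitEquiv hk) (splitEquiv hk)).toBlocks₁₁.det *
      (M.submatrix (splitEquiv hk) (splitEquiv hk)).toBlocks₂₂.det := by
  rw [← Matrix.det_submatrix_equiv_self (splitEquiv hk) M]
  conv_lhs => rw [submatrix_eq_fromBlocks hk M h]
  rw [Matrix.det_fromBlocks_zero₂₁]

/-- The matrix assembled from blocks. -/
def assemble (hk : k ≤ n) (A : Matrix (Fin k) (Fin k) F) (B : Matrix (Fin k) (Fin (n - k)) F)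
    (D : Matrix (Fin (n - k)) (Fin (n - k)) F) : Matrix (Fin n) (Fin n) F :=
  (Matrix.fromBlocks A B 0 D).submatrix (splitEquiv hk).symm (splitEquiv hk).symm

theorem assemble_submatrix (hk : k ≤ n) (A : Matrix (Fin k) (Fin k) F) (B : Matrix (Fin k) (Fin (n - k)) F)
    (D : Matrix (Fin (n - k)) (Fin (n - k)) F) :
    (assemble hk A B D).submatrix (splitEquiv hk) (splitEquiv hk) = Matrix.fromBlocks A B 0 D := by
  unfold assemble
  rw [Matrix.submatrix_submatrix]
  simp

theorem assemble_lowerLeftZero (hk : k ≤ n) (A : Matrix (Fin k) (Fin k) F)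
    (B : Matrix (Fin k) (Fin (n - k)) F) (D : Matrix (Fin (n - k)) (Fin (n - k)) F) :
    LowerLeftZero k (assemble hk A B D) := by
  intro i j hi hj
  obtain ⟨b, rfl⟩ := exists_inr_of_le hk i hi
  obtain ⟨a, rfl⟩ := exists_inl_of_lt hk j hj
  unfold assemble
  simp

theorem assemble_det (hk : k ≤ n) (A : Matrix (Fin k) (Fin k) F) (B : Matrix (Fin k) (Fin (n - k)) F)
    (D : Matrix (Fin (n - k)) (Fin (n - k)) F) : (assemble hk A B D).det = A.det * D.det := by
  unfold assemble
  rw [Matrix.det_submatrix_equiv_self, Matrix.det_fromBlocks_zero₂₁]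

theorem det_ne_zero_of_GL {m : Type*} [Fintype m] [DecidableEq m] (g : GL m F) :
    (g : Matrix m m F).det ≠ 0 :=
  ((Matrix.isUnit_iff_isUnit_det _).mp g.isUnit).ne_zero

/-- The parametrisation of the parabolic subgroup by its blocks. -/
noncomputable def parabolicEquiv (hk : k ≤ n) :
    {g : GL (Fin n) F // LowerLeftZero k (g : Matrix (Fin n) (Fin n) F)} ≃
      (GL (Fin k) F × GL (Fin (n - k)) F) × Matrix (Fin k) (Fin (n - k)) F where
  toFun g :=
    ((Matrix.GeneralLinearGroup.mkOfDetNeZero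
        ((g.1 : Matrix (Fin n) (Fin n) F).submatrix (splitEquiv hk) (splitEquiv hk)).toBlocks₁₁
        (by
          have h1 := det_blocks hk _ g.2
          have h2 := det_ne_zero_of_GL g.1
          rw [h1] at h2
          exact left_ne_zero_of_mul h2),
      Matrix.GeneralLinearGroup.mkOfDetNeZero
        ((g.1 : Matrix (Fin n) (Fin n) F).submatrix (splitEquiv hk) (splitEquiv hk)).toBlocks₂₂
        (by
          have h1 := det_blocks hk _ g.2
          have h2 := det_ne_zero_of_GL g.1
          rw [h1] at h2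
          exact right_ne_zero_of_mul h2)),
      ((g.1 : Matrix (Fin n) (Fin n) F).submatrix (splitEquiv hk) (splitEquiv hk)).toBlocks₁₂)
  invFun x :=
    ⟨Matrix.GeneralLinearGroup.mkOfDetNeZero
        (assemble hk (x.1.1 : Matrix (Fin k) (Fin k) F) x.2 (x.1.2 : Matrix (Fin (n - k)) (Fin (n - k)) F))
        (by
          rw [assemble_det]
          exact mul_ne_zero (det_ne_zero_of_GL x.1.1) (det_ne_zero_of_GL x.1.2)),
      assemble_lowerLeftZero hk _ _ _⟩
  left_inv g := by
    apply Subtype.ext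
    apply Units.ext
    show assemble hk _ _ _ = (g.1 : Matrix (Fin n) (Fin n) F)
    unfold assemble
    show (Matrix.fromBlocks
      ((g.1 : Matrix (Fin n) (Fin n) F).submatrix (splitEquiv hk) (splitEquiv hk)).toBlocks₁₁
      ((g.1 : Matrix (Fin n) (Fin n) F).submatrix (splitEquiv hk) (splitEquiv hk)).toBlocks₁₂ 0
      ((g.1 : Matrix (Fin n) (Fin n) F).submatrix (splitEquiv hk) (splitEquiv hk)).toBlocks₂₂).submatrix
        (splitEquiv hk).symm (splitEquiv hk).symm = _
    rw [← submatrix_eq_fromBlocks hk _ g.2, Matrix.submatrix_submatrix]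
    simp
  right_inv x := by
    obtain ⟨⟨a, d⟩, B⟩ := x
    have h := assemble_submatrix hk (a : Matrix (Fin k) (Fin k) F) B (d : Matrix (Fin (n - k)) (Fin (n - k)) F)
    apply Prod.ext
    · apply Prod.ext
      · apply Units.ext
        show ((assemble hk (a : Matrix (Fin k) (Fin k) F) B
          (d : Matrix (Fin (n - k)) (Fin (n - k)) F)).submatrix (splitEquiv hk) (splitEquiv hk)).toBlocks₁₁ = _
        rw [h, Matrix.toBlocks_fromBlocks₁₁]
      · apply Units.ext
        show ((assemble hk (a : Matrix (Fin k) (Fin k) F) B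
          (d : Matrix (Fin (n - k)) (Fin (n - k)) F)).submatrix (splitEquiv hk) (splitEquiv hk)).toBlocks₂₂ = _
        rw [h, Matrix.toBlocks_fromBlocks₂₂]
    · show ((assemble hk (a : Matrix (Fin k) (Fin k) F) B
        (d : Matrix (Fin (n - k)) (Fin (n - k)) F)).submatrix (splitEquiv hk) (splitEquiv hk)).toBlocks₁₂ = _
      rw [h, Matrix.toBlocks_fromBlocks₁₂]

end

/-- The stabiliser in GL_n(q) of a k-dimensional subspace (a maximal parabolic) has order q^(k(n-k)) times the orders of GL_k(q) and GL_(n-k)(q). -/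
theorem result {F : Type*} [Field F] [Fintype F] {q : ℕ} (hF : Fintype.card F = q) (n k : ℕ) (hk : k ≤ n) : Nat.card ↥(Cfsg.stabilizing (Cfsg.glToMat (Fin n) F) {v : Fin n → F | ∀ i : Fin n, k ≤ (i : ℕ) → v i = 0}) = q ^ (k * (n - k)) * (∏ i : Fin k, (q ^ k - q ^ (i : ℕ))) * ∏ i : Fin (n - k), (q ^ (n - k) - q ^ (i : ℕ)) := by
  have e1 : ↥(Cfsg.stabilizing (Cfsg.glToMat (Fin n) F) {v : Fin n → F | ∀ i : Fin n, k ≤ (i : ℕ) → v i = 0}) ≃
      {g : GL (Fin n) F // LowerLeftZero k (g : Matrix (Fin n) (Fin n) F)} :=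
    Equiv.subtypeEquivRight (fun g => mem_parabolic_iff g)
  rw [Nat.card_congr e1, Nat.card_congr (parabolicEquiv hk), Nat.card_prod, Nat.card_prod,
    Matrix.card_GL_field, Matrix.card_GL_field, hF]
  have h3 : Nat.card (Matrix (Fin k) (Fin (n - k)) F) = q ^ (k * (n - k)) := by
    show Nat.card (Fin k → Fin (n - k) → F) = q ^ (k * (n - k))
    rw [Nat.card_fun, Nat.card_fun, Nat.card_fin, Nat.card_fin, Nat.card_eq_fintype_card, hF, ← pow_mul,
      mul_comm]
  rw [h3]
  ring

end Cfsg.Agent.S0771
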