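import Mathlib
import Cfsg.Statements.S0772
import Cfsg.Agent.Lib.Helper28.ParabolicInv
import Cfsg.Agent.Lib.Helper28.GenTransv

set_option autoImplicit false
open Cfsg

namespace Cfsg.Agent.S0772

open Matrix Cfsg.Agent.Helper28

section

variable {F : Type*} [Field F] {n : ℕ}

local notation "e" => fun (a : Fin n) => (Pi.single a (1 : F) : Fin n → F)

/-- Normalisation of a transvection whose centre is outside `W` and whose axis does not contain `W`. -/
theorem good_normalize (k : ℕ) (H : Subgroup (GL (Fin n) F))
    (hPH : stabilizing (glToMat (Fin n) F) (firstCoords F n k) ≤ H)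
    (u l : Fin n → F) (hlu : l ⬝ᵥ u = 0) (hg : Good H u l) (a b : Fin n) (ha : k ≤ (a : ℕ))
    (hb : (b : ℕ) < k) (hua : u a ≠ 0) (hlb : l b ≠ 0) :
    Good H (Pi.single a (1 : F)) (Pi.single b (1 : F)) := by
  have hab : a ≠ b := by
    intro h; rw [h] at ha; omega
  -- first conjugation
  set v : Fin n → F := Pi.single a (1 : F) - (u a)⁻¹ • u with hv
  have hva : v a = 0 := by
    simp [hv, hua]
  have horth1 : (Pi.single a (1 : F) : Fin n → F) ⬝ᵥ v = 0 := by
    rw [single_dotProduct, one_mul, hva]
  have hp1 : tv v (Pi.single a (1 : F)) ∈ H := by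
    apply hPH
    apply tv_mem_of_axis
    intro j hj
    have : j ≠ a := by
      intro h; rw [h] at hj; omega
    rw [Pi.single_apply, if_neg this]
  have hlv : l ⬝ᵥ v = l a := by
    rw [hv, dotProduct_sub, dotProduct_single, mul_one, dotProduct_smul, hlu, smul_zero, sub_zero]
  obtain ⟨horth2, hg2⟩ := good_conj H _ hp1 u l (u a • (Pi.single a (1 : F) : Fin n → F))
    (l - (l ⬝ᵥ v) • (Pi.single a (1 : F) : Fin n → F)) hlu hg
    (by
      rw [tv_mulVec _ _ _ horth1, single_dotProduct, one_mul, hv, smul_sub, smul_smul,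
        mul_inv_cancel₀ hua, one_smul]
      abel)
    (by
      rw [vecMul_tv _ _ _ horth1, sub_dotProduct, smul_dotProduct, horth1, smul_zero, sub_zero]
      abel)
  rw [hlv] at horth2 hg2
  set l1 : Fin n → F := l - l a • (Pi.single a (1 : F) : Fin n → F) with hl1
  have hl1a : l1 a = 0 := by simp [hl1]
  have hl1b : l1 b = l b := by
    simp [hl1, hab.symm]
  have horth3 : l1 ⬝ᵥ (Pi.single a (1 : F) : Fin n → F) = 0 := by
    rw [dotProduct_single, mul_one, hl1a]
  have hg3 : Good H (Pi.single a (1 : F)) (u a • l1) := good_smul_left H _ _ _ horth3 hg2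
  -- second conjugation
  set l2 : Fin n → F := u a • l1 with hl2
  have hl2a : l2 a = 0 := by simp [hl2, hl1a]
  have hl2b : l2 b ≠ 0 := by
    simp only [hl2, Pi.smul_apply, smul_eq_mul, hl1b]
    exact mul_ne_zero hua hlb
  have horth4 : l2 ⬝ᵥ (Pi.single a (1 : F) : Fin n → F) = 0 := by
    rw [dotProduct_single, mul_one, hl2a]
  set ν : Fin n → F := (l2 b)⁻¹ • l2 - Pi.single b (1 : F) with hν
  have hνb : ν b = 0 := by simp [hν, hl2b]
  have hνa : ν a = 0 := by simp [hν, hl2a, hab]
  have horth5 : ν ⬝ᵥ (Pi.single b (1 : F) : Fin n → F) = 0 := by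
    rw [dotProduct_single, mul_one, hνb]
  have hp2 : tv (Pi.single b (1 : F)) ν ∈ H := by
    apply hPH
    apply tv_mem_of_center
    intro j hj
    have : j ≠ b := by
      intro h; rw [h] at hj; omega
    rw [Pi.single_apply, if_neg this]
  obtain ⟨_, hg4⟩ := good_conj H _ hp2 (Pi.single a (1 : F)) l2 (Pi.single a (1 : F))
    (l2 b • (Pi.single b (1 : F) : Fin n → F)) horth4 hg3
    (by
      rw [tv_mulVec _ _ _ horth5, dotProduct_single, mul_one, hνa, zero_smul, add_zero])
    (by
      rw [vecMul_tv _ _ _ horth5, smul_dotProduct, single_dotProduct, one_mul]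
      have : (Pi.single b (1 : F) : Fin n → F) b = 1 := by simp
      rw [this, smul_eq_mul, mul_one, hν, smul_sub, smul_smul, mul_inv_cancel₀ hl2b, one_smul]
      abel)
  exact good_of_smul H _ hl2b _ _ hg4

/-- From one lower-left elementary subgroup to all of them. -/
theorem good_all (k : ℕ) (H : Subgroup (GL (Fin n) F))
    (hPH : stabilizing (glToMat (Fin n) F) (firstCoords F n k) ≤ H)
    (a0 b0 : Fin n) (ha0 : k ≤ (a0 : ℕ)) (hb0 : (b0 : ℕ) < k)
    (hg : Good H (Pi.single a0 (1 : F)) (Pi.single b0 (1 : F)))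
    (a b : Fin n) (ha : k ≤ (a : ℕ)) (hb : (b : ℕ) < k) :
    Good H (Pi.single a (1 : F)) (Pi.single b (1 : F)) := by
  have hab0 : a0 ≠ b0 := by
    intro h; rw [h] at ha0; omega
  have hab : a ≠ b := by
    intro h; rw [h] at ha; omega
  have hab' : a ≠ b0 := by
    intro h; rw [h] at ha; omega
  -- change the centre
  have h1 : Good H (Pi.single a (1 : F)) (Pi.single b0 (1 : F)) := by
    by_cases haa : a = a0
    · rw [haa]; exact hg
    · have horth0 : (Pi.single b0 (1 : F) : Fin n → F) ⬝ᵥ (Pi.single a0 (1 : F) : Fin n → F) = 0 := by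
        rw [dotProduct_single, mul_one, Pi.single_apply, if_neg hab0]
      have horth1 : (Pi.single a0 (1 : F) : Fin n → F) ⬝ᵥ (Pi.single a (1 : F) : Fin n → F) = 0 := by
        rw [dotProduct_single, mul_one, Pi.single_apply, if_neg haa]
      have hp : tv (Pi.single a (1 : F)) (Pi.single a0 (1 : F)) ∈ H := by
        apply hPH
        apply tv_mem_of_axis
        intro j hj
        have : j ≠ a0 := by
          intro h; rw [h] at hj; omega
        rw [Pi.single_apply, if_neg this]
      obtain ⟨horth2, hg2⟩ := good_conj H _ hp (Pi.single a0 (1 : F)) (Pi.single b0 (1 : F))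
        ((Pi.single a0 (1 : F) : Fin n → F) + Pi.single a (1 : F)) (Pi.single b0 (1 : F)) horth0 hg
        (by
          rw [tv_mulVec _ _ _ horth1, dotProduct_single, mul_one]
          simp)
        (by
          rw [vecMul_tv _ _ _ horth1, dotProduct_single, mul_one, Pi.single_apply, if_neg hab',
            zero_smul, add_zero])
      exact good_normalize k H hPH _ _ horth2 hg2 a b0 ha hb0 (by simp [haa]) (by simp)
  -- change the axis
  by_cases hbb : b = b0
  · rw [hbb]; exact h1
  · have horth0 : (Pi.single b0 (1 : F) : Fin n → F) ⬝ᵥ (Pi.single a (1 : F) : Fin n → F) = 0 := by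
      rw [dotProduct_single, mul_one, Pi.single_apply, if_neg hab']
    have horth1 : (Pi.single b (1 : F) : Fin n → F) ⬝ᵥ (Pi.single b0 (1 : F) : Fin n → F) = 0 := by
      rw [dotProduct_single, mul_one, Pi.single_apply, if_neg (Ne.symm hbb)]
    have hp : tv (Pi.single b0 (1 : F)) (Pi.single b (1 : F)) ∈ H := by
      apply hPH
      apply tv_mem_of_center
      intro j hj
      have : j ≠ b0 := by
        intro h; rw [h] at hj; omega
      rw [Pi.single_apply, if_neg this]
    obtain ⟨horth2, hg2⟩ := good_conj H _ hp (Pi.single a (1 : F)) (Pi.single b0 (1 : F))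
      (Pi.single a (1 : F)) ((Pi.single b0 (1 : F) : Fin n → F) - Pi.single b (1 : F)) horth0 h1
      (by
        rw [tv_mulVec _ _ _ horth1, dotProduct_single, mul_one, Pi.single_apply, if_neg hab,
          zero_smul, add_zero])
      (by
        rw [vecMul_tv _ _ _ horth1, dotProduct_single, mul_one]
        simp [hbb])
    exact good_normalize k H hPH _ _ horth2 hg2 a b ha hb (by simp) (by simp [hbb])

/-- A proper overgroup of the parabolic contains all lower-left elementary subgroups. -/
theorem good_of_not_mem (k : ℕ) (H : Subgroup (GL (Fin n) F))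
    (hPH : stabilizing (glToMat (Fin n) F) (firstCoords F n k) ≤ H)
    (h : GL (Fin n) F) (hH : h ∈ H) (hP : h ∉ stabilizing (glToMat (Fin n) F) (firstCoords F n k))
    (a b : Fin n) (ha : k ≤ (a : ℕ)) (hb : (b : ℕ) < k) :
    Good H (Pi.single a (1 : F)) (Pi.single b (1 : F)) := by
  have hP' : h⁻¹ ∉ stabilizing (glToMat (Fin n) F) (firstCoords F n k) := by
    intro h1; exact hP (by simpa using Subgroup.inv_mem _ h1)
  rw [mem_parabolic_iff] at hP hP'
  unfold LowerLeftZero at hP hP'
  push Not at hP hP'
  obtain ⟨a0, b0, ha0, hb0, hne0⟩ := hP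
  obtain ⟨a1, b1, ha1, hb1, hne1⟩ := hP'
  have hab : a1 ≠ b0 := by
    intro h; rw [h] at ha1; omega
  have horth0 : (Pi.single a1 (1 : F) : Fin n → F) ⬝ᵥ (Pi.single b0 (1 : F) : Fin n → F) = 0 := by
    rw [dotProduct_single, mul_one, Pi.single_apply, if_neg (Ne.symm hab)]
  have hg0 : Good H (Pi.single b0 (1 : F)) (Pi.single a1 (1 : F)) := by
    intro s
    apply hPH
    apply tv_mem_of_center
    intro j hj
    have : j ≠ b0 := by
      intro h; rw [h] at hj; omega
    rw [Pi.single_apply, if_neg this]
  obtain ⟨horth1, hg1⟩ := good_conj H h hH (Pi.single b0 (1 : F)) (Pi.single a1 (1 : F))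
    ((h : Matrix (Fin n) (Fin n) F) *ᵥ Pi.single b0 (1 : F))
    ((Pi.single a1 (1 : F) : Fin n → F) ᵥ* ((h⁻¹ : GL (Fin n) F) : Matrix (Fin n) (Fin n) F)) horth0 hg0 rfl
    (by
      rw [Matrix.vecMul_vecMul, ← Units.val_mul, inv_mul_cancel, Units.val_one, Matrix.vecMul_one])
  have hg2 := good_normalize k H hPH _ _ horth1 hg1 a0 b1 ha0 hb1
    (by rw [Matrix.mulVec_single_one]; exact hne0)
    (by rw [Matrix.single_one_vecMul]; exact hne1)
  exact good_all k H hPH a0 b1 ha0 hb1 hg2 a b ha hb

end

/-- Maximal parabolics are maximal: over a finite field, for 0 < k < n the stabiliser in GL_n of the span of the first k coordinate vectors is a maximal proper subgroup. -/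
theorem result {F : Type*} [Field F] [Finite F] (n k : ℕ) (hk0 : 0 < k) (hkn : k < n) : IsCoatom (Cfsg.stabilizing (Cfsg.glToMat (Fin n) F) {v : Fin n → F | ∀ i : Fin n, k ≤ (i : ℕ) → v i = 0}) := by
  change IsCoatom (stabilizing (glToMat (Fin n) F) (firstCoords F n k))
  constructor
  · intro htop
    have h1 : (elemGL (⟨k, hkn⟩ : Fin n) ⟨0, by omega⟩ (by
        intro h; have := congrArg Fin.val h; simp at this; omega) : GL (Fin n) F) ∈
        stabilizing (glToMat (Fin n) F) (firstCoords F n k) := by
      rw [htop]; exact Subgroup.mem_top _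
    rw [mem_parabolic_iff] at h1
    have h2 := h1 ⟨k, hkn⟩ ⟨0, by omega⟩ (le_refl _) hk0
    rw [elemGL_val, Matrix.transvection, Matrix.add_apply, Matrix.single_apply_same] at h2
    have hne : (⟨k, hkn⟩ : Fin n) ≠ ⟨0, by omega⟩ := by
      intro h; have := congrArg Fin.val h; simp at this; omega
    rw [Matrix.one_apply_ne hne, zero_add] at h2
    exact one_ne_zero h2
  · intro H hPH
    obtain ⟨h, hH, hP⟩ := SetLike.exists_of_lt hPH
    have hgood := good_of_not_mem k H hPH.le h hH hP
    rw [eq_top_iff]
    intro g _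
    have key : ∀ g' : GL (Fin n) F, (g' : Matrix (Fin n) (Fin n) F) = (g : Matrix (Fin n) (Fin n) F) → g' ∈ H := by
      apply Matrix.diagonal_transvection_induction_of_det_ne_zero
        (fun M => ∀ g' : GL (Fin n) F, (g' : Matrix (Fin n) (Fin n) F) = M → g' ∈ H)
        (g : Matrix (Fin n) (Fin n) F)
      · exact ((Matrix.isUnit_iff_isUnit_det _).mp g.isUnit).ne_zero
      · intro D _ g' hg'
        apply hPH.le
        rw [mem_parabolic_iff, hg']
        intro i j hi hj
        have hij : i ≠ j := by
          intro h1; rw [h1] at hi; omega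
        exact Matrix.diagonal_apply_ne _ hij
      · intro t g' hg'
        have horth : (t.c • (Pi.single t.j (1 : F) : Fin n → F)) ⬝ᵥ (Pi.single t.i (1 : F) : Fin n → F) = 0 := by
          rw [dotProduct_single, mul_one, Pi.smul_apply, Pi.single_apply, if_neg t.hij, smul_zero]
        have hg'' : g' = tv (Pi.single t.i (1 : F)) (t.c • (Pi.single t.j (1 : F) : Fin n → F)) := by
          apply Units.ext
          rw [hg', tv_val _ _ horth, Matrix.TransvectionStruct.toMatrix, Matrix.transvection]
          congr 1
          ext x y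
          simp only [vecMulVec_apply, Matrix.single_apply, Pi.single_apply, Pi.smul_apply, smul_eq_mul]
          by_cases hx : x = t.i <;> by_cases hy : y = t.j <;> simp [hx, hy, eq_comm]
        rw [hg'']
        by_cases hcase : k ≤ (t.i : ℕ) ∧ (t.j : ℕ) < k
        · exact hgood t.i t.j hcase.1 hcase.2 t.c
        · apply hPH.le
          by_cases hi : (t.i : ℕ) < k
          · apply tv_mem_of_center
            intro j hj
            have : j ≠ t.i := by
              intro h1; rw [h1] at hj; omega
            rw [Pi.single_apply, if_neg this]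
          · apply tv_mem_of_axis
            intro j hj
            have : j ≠ t.j := by
              intro h1; rw [h1] at hj; omega
            rw [Pi.smul_apply, Pi.single_apply, if_neg this, smul_zero]
      · intro A B hA hB PA PB g' hg'
        have : g' = Matrix.GeneralLinearGroup.mkOfDetNeZero A hA *
            Matrix.GeneralLinearGroup.mkOfDetNeZero B hB := by
          apply Units.ext
          rw [hg']
          rfl
        rw [this]
        exact H.mul_mem (PA _ rfl) (PB _ rfl)
    exact key g rfl

end Cfsg.Agent.S0772
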