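import Mathlib
import Cfsg.Statements.S0773
import Cfsg.Agent.Lib.Helper28.ParabolicInv

set_option autoImplicit false
open Cfsg

namespace Cfsg.Agent.S0773

open Matrix Cfsg.Agent.Helper28

section

variable {F : Type*} [Field F] {n : ℕ}

/-- The coordinate subspace as a submodule. -/
def firstCoordsSub (F : Type*) [Field F] (n k : ℕ) : Submodule F (Fin n → F) where
  carrier := firstCoords F n k
  add_mem' {a b} ha hb := by
    intro i hi
    rw [Pi.add_apply, ha i hi, hb i hi, add_zero]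
  zero_mem' := by
    intro i _
    rfl
  smul_mem' c a ha := by
    intro i hi
    rw [Pi.smul_apply, ha i hi, smul_zero]

theorem firstCoords_mono {j j' : ℕ} (h : j ≤ j') : firstCoords F n j ⊆ firstCoords F n j' := by
  intro v hv i hi
  exact hv i (le_trans h hi)

theorem firstCoords_ne {j j' : ℕ} (h : j < j') (hn : j < n) : firstCoords F n j ≠ firstCoords F n j' := by
  intro heq
  have h1 : (Pi.single (⟨j, hn⟩ : Fin n) (1 : F) : Fin n → F) ∈ firstCoords F n j' := by
    intro i hi
    have : i ≠ ⟨j, hn⟩ := by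
      intro h2
      rw [h2] at hi
      simp only at hi
      omega
    rw [Pi.single_apply, if_neg this]
  rw [← heq] at h1
  have := h1 ⟨j, hn⟩ (le_refl _)
  simp at this

theorem single_mem_firstCoords {j : ℕ} (a : Fin n) (ha : (a : ℕ) < j) :
    (Pi.single a (1 : F) : Fin n → F) ∈ firstCoords F n j := by
  intro i hi
  have : i ≠ a := by
    intro h2
    rw [h2] at hi
    omega
  rw [Pi.single_apply, if_neg this]

theorem gl_mulVec_injective (g : GL (Fin n) F) :
    Function.Injective (fun v : Fin n → F => (g : Matrix (Fin n) (Fin n) F) *ᵥ v) := by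
  intro v w hvw
  have h3 : ∀ x : Fin n → F, ((g⁻¹ : GL (Fin n) F) : Matrix (Fin n) (Fin n) F) *ᵥ
      ((g : Matrix (Fin n) (Fin n) F) *ᵥ x) = x := by
    intro x
    rw [Matrix.mulVec_mulVec, ← Units.val_mul, inv_mul_cancel, Units.val_one, Matrix.one_mulVec]
  have := congrArg (fun x => ((g⁻¹ : GL (Fin n) F) : Matrix (Fin n) (Fin n) F) *ᵥ x) hvw
  simp only [h3] at this
  exact this

end

/-- The stabilisers in GL_n(F), F finite, of the coordinate subspaces of dimensions k and n − k are isomorphic groups, but when 2k ≠ n (and 0 < k < n) no element of GL_n conjugates one onto the other. -/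
theorem result {F : Type*} [Field F] [Finite F] (n k : ℕ) (hk0 : 0 < k) (hkn : k < n) (h2 : 2 * k ≠ n) : Nonempty (↥(Cfsg.stabilizing (Cfsg.glToMat (Fin n) F) {v : Fin n → F | ∀ i : Fin n, k ≤ (i : ℕ) → v i = 0}) ≃* ↥(Cfsg.stabilizing (Cfsg.glToMat (Fin n) F) {v : Fin n → F | ∀ i : Fin n, n - k ≤ (i : ℕ) → v i = 0})) ∧ ∀ g : Matrix.GeneralLinearGroup (Fin n) F, (Cfsg.stabilizing (Cfsg.glToMat (Fin n) F) {v : Fin n → F | ∀ i : Fin n, k ≤ (i : ℕ) → v i = 0}).map (MulAut.conj g).toMonoidHom ≠ Cfsg.stabilizing (Cfsg.glToMat (Fin n) F) {v : Fin n → F | ∀ i : Fin n, n - k ≤ (i : ℕ) → v i = 0} := by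
  refine ⟨⟨parabolicDualEquiv (by omega)⟩, ?_⟩
  intro g hconj
  change (stabilizing (glToMat (Fin n) F) (firstCoords F n k)).map (MulAut.conj g).toMonoidHom =
    stabilizing (glToMat (Fin n) F) (firstCoords F n (n - k)) at hconj
  -- the image subspace
  set U : Submodule F (Fin n → F) :=
    (firstCoordsSub F n k).map (Matrix.mulVecLin (g : Matrix (Fin n) (Fin n) F)) with hUdef
  have hUmem : ∀ v, v ∈ U ↔ ∃ w ∈ firstCoords F n k, (g : Matrix (Fin n) (Fin n) F) *ᵥ w = v := by
    intro v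
    rw [hUdef, Submodule.mem_map]
    rfl
  have hU : ∀ h ∈ stabilizing (glToMat (Fin n) F) (firstCoords F n (n - k)), ∀ v ∈ U,
      (h : Matrix (Fin n) (Fin n) F) *ᵥ v ∈ U := by
    intro h hh v hv
    rw [← hconj, Subgroup.mem_map] at hh
    obtain ⟨p, hp, rfl⟩ := hh
    obtain ⟨w, hw, rfl⟩ := (hUmem v).mp hv
    rw [hUmem]
    refine ⟨(p : Matrix (Fin n) (Fin n) F) *ᵥ w, (hp w).mp hw, ?_⟩
    show _ = ((g * p * g⁻¹ : GL (Fin n) F) : Matrix (Fin n) (Fin n) F) *ᵥ _
    rw [Matrix.mulVec_mulVec, Matrix.mulVec_mulVec, ← Units.val_mul, ← Units.val_mul,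
      inv_mul_cancel_right]
  have hn0 : 0 < n := by omega
  -- a nonzero element
  have he0 : (g : Matrix (Fin n) (Fin n) F) *ᵥ (Pi.single (⟨0, hn0⟩ : Fin n) (1 : F)) ∈ U :=
    (hUmem _).mpr ⟨_, single_mem_firstCoords _ hk0, rfl⟩
  have he0' : (g : Matrix (Fin n) (Fin n) F) *ᵥ (Pi.single (⟨0, hn0⟩ : Fin n) (1 : F)) ≠ 0 := by
    intro h0
    have h1 : (g : Matrix (Fin n) (Fin n) F) *ᵥ (Pi.single (⟨0, hn0⟩ : Fin n) (1 : F)) =
        (g : Matrix (Fin n) (Fin n) F) *ᵥ 0 := by rw [h0, Matrix.mulVec_zero]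
    have h2 := gl_mulVec_injective g h1
    have := congrFun h2 ⟨0, hn0⟩
    simp at this
  have hsub := firstCoords_le_of_invariant_of_ne_zero (n - k) U hU _ he0 he0'
  have hUle : (U : Set (Fin n → F)) ⊆ firstCoords F n (n - k) := by
    intro u hu
    by_contra hnot
    have htop := eq_top_of_invariant_of_not_le (n - k) U hU u hu hnot
    have hlast : (g : Matrix (Fin n) (Fin n) F) *ᵥ (Pi.single (⟨n - 1, by omega⟩ : Fin n) (1 : F)) ∈ U := by
      rw [htop]; exact Submodule.mem_top
    obtain ⟨w, hw, hgw⟩ := (hUmem _).mp hlast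
    have h2 := gl_mulVec_injective g hgw
    rw [h2] at hw
    have := hw ⟨n - 1, by omega⟩ (by simp only; omega)
    simp at this
  have hUeq : (U : Set (Fin n → F)) = firstCoords F n (n - k) := Set.Subset.antisymm hUle hsub
  have himage : (fun v : Fin n → F => (g : Matrix (Fin n) (Fin n) F) *ᵥ v) '' (firstCoords F n k) =
      firstCoords F n (n - k) := by
    rw [← hUeq]
    ext v
    rw [Set.mem_image, SetLike.mem_coe, hUmem]
  have hcard : (firstCoords F n (n - k)).ncard = (firstCoords F n k).ncard := by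
    rw [← himage, Set.ncard_image_of_injective _ (gl_mulVec_injective g)]
  rcases lt_or_gt_of_ne (show k ≠ n - k by omega) with hlt | hgt
  · have := Set.eq_of_subset_of_ncard_le (firstCoords_mono (F := F) (n := n) hlt.le) hcard.le
      (Set.toFinite _)
    exact firstCoords_ne hlt hkn this
  · have := Set.eq_of_subset_of_ncard_le (firstCoords_mono (F := F) (n := n) hgt.le) hcard.ge
      (Set.toFinite _)
    exact firstCoords_ne hgt (by omega) this

end Cfsg.Agent.S0773
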