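import Mathlib
import Cfsg.Prelude.Def_ClassicalGeometry
import Cfsg.Agent.Lib.Helper28.SympIso
import Cfsg.Agent.Lib.Helper28.IsoFrames
import Cfsg.Agent.Lib.Helper2.SympCard
set_option autoImplicit false
open Cfsg
namespace Cfsg.Agent.S0775
open Cfsg.Agent.Helper28.IsoGrp Cfsg.Agent.Helper28.SympIso Cfsg.Agent.Helper28.IsoFrames

theorem half_sum (k : ℕ) : k * (k + 1) / 2 + k * (k - 1) / 2 = k * k := by
  have h1 : 2 ∣ k * (k + 1) := (Nat.even_mul_succ_self k).two_dvd
  have h2 : 2 ∣ k * (k - 1) := (Nat.even_mul_pred_self k).two_dvd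
  obtain ⟨a, ha⟩ := h1
  obtain ⟨b, hb⟩ := h2
  rw [ha, hb, Nat.mul_div_cancel_left _ (by norm_num : 0 < 2),
    Nat.mul_div_cancel_left _ (by norm_num : 0 < 2)]
  rcases k with _ | k
  · simp at ha hb
    omega
  · simp only [Nat.add_sub_cancel] at hb
    nlinarith

theorem arith (q m k S N : ℕ) (hq : 2 ≤ q) (hk : k ≤ m)
    (h : S * ∏ i ∈ Finset.range k, (q ^ (2 * m - i) - q ^ i)
      = N * (q ^ (m ^ 2) * ∏ i ∈ Finset.range m, (q ^ (2 * (i + 1)) - 1))) :
    S = q ^ (k * (k + 1) / 2 + 2 * k * (m - k))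
      * (q ^ ((m - k) ^ 2) * ∏ i ∈ Finset.range (m - k), (q ^ (2 * (i + 1)) - 1)) * N := by
  have hq0 : 0 < q := by omega
  obtain ⟨T, hT⟩ : ∃ T, T = ∏ i ∈ Finset.range k, (q ^ (2 * (m - i)) - 1) := ⟨_, rfl⟩
  have hTpos : 0 < T := by
    rw [hT]
    apply Finset.prod_pos
    intro i hi
    rw [Finset.mem_range] at hi
    have h1 : 2 ^ 1 ≤ q ^ (2 * (m - i)) :=
      le_trans (Nat.pow_le_pow_left hq 1) (Nat.pow_le_pow_right hq0 (by omega))
    omega
  have ha : ∏ i ∈ Finset.range k, (q ^ (2 * m - i) - q ^ i) = q ^ (k * (k - 1) / 2) * T := by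
    rw [hT, ← Finset.sum_range_id, ← Finset.prod_pow_eq_pow_sum, ← Finset.prod_mul_distrib]
    apply Finset.prod_congr rfl
    intro i hi
    rw [Finset.mem_range] at hi
    rw [Nat.mul_sub, mul_one, ← pow_add]
    congr 2
    omega
  have hb : ∏ i ∈ Finset.range m, (q ^ (2 * (i + 1)) - 1)
      = (∏ i ∈ Finset.range (m - k), (q ^ (2 * (i + 1)) - 1)) * T := by
    have hm : m = (m - k) + k := by omega
    conv_lhs => rw [hm, Finset.prod_range_add]
    congr 1
    rw [hT, ← Finset.prod_range_reflect]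
    apply Finset.prod_congr rfl
    intro j hj
    rw [Finset.mem_range] at hj
    congr 2
    omega
  rw [ha, hb] at h
  have h2 : S * q ^ (k * (k - 1) / 2) * T
      = N * (q ^ (m ^ 2) * ∏ i ∈ Finset.range (m - k), (q ^ (2 * (i + 1)) - 1)) * T := by
    rw [mul_assoc, h]
    ring
  have h3 := Nat.eq_of_mul_eq_mul_right hTpos h2
  have hpos : 0 < q ^ (k * (k - 1) / 2) := Nat.pow_pos hq0
  apply Nat.eq_of_mul_eq_mul_right hpos
  rw [h3]
  have hexp : m ^ 2 = k * (k + 1) / 2 + 2 * k * (m - k) + (m - k) ^ 2 + k * (k - 1) / 2 := by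
    have := half_sum k
    obtain ⟨d, rfl⟩ := Nat.exists_eq_add_of_le hk
    simp only [Nat.add_sub_cancel_left]
    nlinarith
  rw [hexp, pow_add, pow_add, pow_add]
  ring

theorem card_span_frames {F : Type*} [Field F] [Fintype F] {V : Type*} [AddCommGroup V]
    [Module F V] [FiniteDimensional F V] (W : Submodule F V) (k : ℕ)
    (hWk : Module.finrank F W = k) :
    Nat.card {y : Fin k → V // LinearIndependent F y ∧ Submodule.span F (Set.range y) = W}
      = ∏ i : Fin k, (Fintype.card F ^ k - Fintype.card F ^ (i : ℕ)) := by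
  have : Finite V := Module.finite_of_finite F
  have h1 := card_linearIndependent (K := F) (V := W) (k := k) (le_of_eq hWk.symm)
  rw [hWk] at h1
  rw [← h1]
  apply Nat.card_congr
  refine
    { toFun := fun y => ⟨fun i => ⟨y.1 i, by
          have h := Submodule.subset_span (R := F) (s := Set.range y.1) ⟨i, rfl⟩
          rwa [y.2.2] at h⟩,
        LinearIndependent.of_comp W.subtype y.2.1⟩
      invFun := fun s => ⟨fun i => (s.1 i : V), s.2.map' W.subtype W.ker_subtype, ?_⟩
      left_inv := fun y => rfl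
      right_inv := fun s => rfl }
  have h2 : Submodule.span F (Set.range s.1) = ⊤ :=
    s.2.span_eq_top_of_card_eq_finrank' (by rw [Fintype.card_fin, hWk])
  have h3 : Set.range (fun i => ((s.1 i : W) : V)) = W.subtype '' Set.range s.1 := by
    ext v
    constructor
    · rintro ⟨i, rfl⟩
      exact ⟨s.1 i, ⟨i, rfl⟩, rfl⟩
    · rintro ⟨_, ⟨i, rfl⟩, rfl⟩
      exact ⟨i, rfl⟩
  rw [h3, ← Submodule.map_span, h2, Submodule.map_subtype_top]

/-- Maximal parabolics of the symplectic group: if W is a k-dimensional subspace of F^(2m) on which the symplectic form vanishes identically, its stabiliser in Sp_2m(q) has order q^(k(k+1)/2 + 2k(m−k)) · |Sp_(2m−2k)(q)| · |GL_k(q)|. -/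
theorem result {F : Type*} [Field F] [Fintype F] {q : ℕ} (hF : Fintype.card F = q) (m k : ℕ) (hk : k ≤ m) (W : Submodule F (Fin m ⊕ Fin m → F)) (hWk : Module.finrank F W = k) (hW : ∀ u ∈ W, ∀ v ∈ W, Cfsg.sympForm m F u v = 0) : Nat.card ↥(Cfsg.stabilizing (Cfsg.spToMat m F) (W : Set (Fin m ⊕ Fin m → F))) = q ^ (k * (k + 1) / 2 + 2 * k * (m - k)) * (q ^ ((m - k) ^ 2) * ∏ i ∈ Finset.range (m - k), (q ^ (2 * (i + 1)) - 1)) * ∏ i : Fin k, (q ^ k - q ^ (i : ℕ)) := by
  have hA : (sympBil m F).IsAlt := sympBil_isAlt m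
  have hB : (sympBil m F).Nondegenerate := sympBil_nondegenerate m
  have hq : 2 ≤ q := by rw [← hF]; exact Fintype.one_lt_card
  let bW := Module.finBasisOfFinrankEq F W hWk
  obtain ⟨x, hxdef⟩ : ∃ x : Fin k → (Fin m ⊕ Fin m → F), x = fun i => (bW i : Fin m ⊕ Fin m → F) :=
    ⟨_, rfl⟩
  have hspan : Submodule.span F (Set.range x) = W := by
    have h3 : Set.range x = W.subtype '' Set.range bW := by
      rw [hxdef]
      ext v
      constructor
      · rintro ⟨i, rfl⟩
        exact ⟨bW i, ⟨i, rfl⟩, rfl⟩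
      · rintro ⟨_, ⟨i, rfl⟩, rfl⟩
        exact ⟨i, rfl⟩
    rw [h3, ← Submodule.map_span, bW.span_eq, Submodule.map_subtype_top]
  have hx : IsFrame (sympBil m F) k x := by
    constructor
    · rw [hxdef]
      exact bW.linearIndependent.map' W.subtype W.ker_subtype
    · intro i j
      rw [sympBil_apply, hxdef]
      exact hW _ (bW i).2 _ (bW j).2
  have key := card_stabL_mul hA hB hx
  rw [hspan, card_frames hA hB k, card_span_frames W k hWk,
    ← Nat.card_congr (stabEquiv m W).toEquiv, ← Nat.card_congr (sympMulEquiv m).toEquiv,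
    Cfsg.Agent.Helper2.Symp.card_symplecticGroup, Module.finrank_fintype_fun_eq_card, hF] at key
  simp only [Fintype.card_sum, Fintype.card_fin] at key
  rw [← two_mul] at key
  exact arith q m k _ _ hq hk key
end Cfsg.Agent.S0775
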