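import Mathlib
import Cfsg.Prelude.Def_ClassicalGeometry
import Cfsg.Agent.Lib.Helper28.SympIso
set_option autoImplicit false
open Cfsg
namespace Cfsg.Agent.S0776
open Cfsg.Agent.Helper28.IsoGrp Cfsg.Agent.Helper28.SympIso

/-- If W ≤ F^(2m) is a 2k-dimensional subspace on which the symplectic form is non-degenerate, then the stabiliser of W in Sp_2m(F) is isomorphic to Sp_2k(F) × Sp_(2m−2k)(F). -/
theorem result {F : Type*} [Field F] (m k : ℕ) (hk : k ≤ m) (W : Submodule F (Fin m ⊕ Fin m → F)) (hWk : Module.finrank F W = 2 * k) (hW : ∀ u ∈ W, (∀ v ∈ W, Cfsg.sympForm m F u v = 0) → u = 0) : Nonempty (↥(Cfsg.stabilizing (Cfsg.spToMat m F) (W : Set (Fin m ⊕ Fin m → F))) ≃* Matrix.symplecticGroup (Fin k) F × Matrix.symplecticGroup (Fin (m - k)) F) := by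
  have hA : (sympBil m F).IsAlt := sympBil_isAlt m
  have hrefl : (sympBil m F).IsRefl := sympBil_isRefl m
  have hB : (sympBil m F).Nondegenerate := sympBil_nondegenerate m
  have hnd : ((sympBil m F).restrict W).Nondegenerate := by
    have hl : ∀ x : W, (∀ y : W, (sympBil m F).restrict W x y = 0) → x = 0 := by
      intro x hx
      apply Subtype.ext
      apply hW x x.2
      intro v hv
      have := hx ⟨v, hv⟩
      simp only [LinearMap.BilinForm.restrict_apply, LinearMap.domRestrict_apply] at this
      rwa [sympBil_apply] at this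
    refine ⟨hl, ?_⟩
    intro x hx
    apply hl
    intro y
    have h1 := hx y
    simp only [LinearMap.BilinForm.restrict_apply, LinearMap.domRestrict_apply] at h1 ⊢
    exact hrefl _ _ h1
  have hc : IsCompl W ((sympBil m F).orthogonal W) :=
    LinearMap.BilinForm.isCompl_orthogonal_of_restrict_nondegenerate hrefl hnd
  have hnd' : ((sympBil m F).restrict ((sympBil m F).orthogonal W)).Nondegenerate := by
    apply LinearMap.BilinForm.nondegenerate_restrict_of_disjoint_orthogonal _ hrefl
    rw [LinearMap.BilinForm.orthogonal_orthogonal hB hrefl]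
    exact hc.disjoint.symm
  have hfr : Module.finrank F ((sympBil m F).orthogonal W) = 2 * (m - k) := by
    rw [LinearMap.BilinForm.finrank_orthogonal hB, hWk, Module.finrank_fintype_fun_eq_card]
    simp only [Fintype.card_sum, Fintype.card_fin]
    omega
  obtain ⟨e₁, he₁⟩ := exists_symp_equiv ((sympBil m F).restrict W) (fun x => hA x) hnd k hWk
  obtain ⟨e₂, he₂⟩ := exists_symp_equiv ((sympBil m F).restrict ((sympBil m F).orthogonal W))
    (fun x => hA x) hnd' (m - k) hfr
  exact ⟨(stabEquiv m W).trans ((stabLEquiv hrefl hc).trans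
    (MulEquiv.prodCongr ((isoGrpCongr e₁ he₁).trans (sympMulEquiv k).symm)
      ((isoGrpCongr e₂ he₂).trans (sympMulEquiv (m - k)).symm)))⟩
end Cfsg.Agent.S0776
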