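import Mathlib
import Cfsg.Statements.S0778

set_option autoImplicit false
open Cfsg

namespace Cfsg.Agent.S0778

open Matrix

section

variable {F : Type*} [Field F] {m : ℕ}

/-- The block-diagonal symplectic matrix attached to an invertible matrix. -/
def diagSp (X : GL (Fin m) F) : Matrix (Fin m ⊕ Fin m) (Fin m ⊕ Fin m) F :=
  Matrix.fromBlocks (X : Matrix (Fin m) (Fin m) F) 0 0
    ((X⁻¹ : GL (Fin m) F) : Matrix (Fin m) (Fin m) F)ᵀ

theorem diagSp_mem (X : GL (Fin m) F) : diagSp X ∈ Matrix.symplecticGroup (Fin m) F := by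
  rw [SymplecticGroup.mem_iff, diagSp, Matrix.J, Matrix.fromBlocks_multiply,
    Matrix.fromBlocks_transpose, Matrix.fromBlocks_multiply]
  have h1 : (X : Matrix (Fin m) (Fin m) F) * ((X⁻¹ : GL (Fin m) F) : Matrix (Fin m) (Fin m) F) = 1 := by
    rw [← Units.val_mul, mul_inv_cancel, Units.val_one]
  have h2 : ((X⁻¹ : GL (Fin m) F) : Matrix (Fin m) (Fin m) F)ᵀ * (X : Matrix (Fin m) (Fin m) F)ᵀ = 1 := by
    rw [← Matrix.transpose_mul, h1, Matrix.transpose_one]
  simp only [Matrix.zero_mul, Matrix.mul_zero, add_zero, zero_add, Matrix.mul_neg, Matrix.mul_one,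
    Matrix.neg_mul, h2, Matrix.transpose_zero, Matrix.transpose_transpose, neg_zero, h1]

/-- The embedding of `GL_m` into `Sp_2m`. -/
def diagHom : GL (Fin m) F →* Matrix.symplecticGroup (Fin m) F where
  toFun X := ⟨diagSp X, diagSp_mem X⟩
  map_one' := by
    apply Subtype.ext
    show diagSp (1 : GL (Fin m) F) = 1
    simp [diagSp]
  map_mul' X Y := by
    apply Subtype.ext
    show diagSp (X * Y) = diagSp X * diagSp Y
    unfold diagSp
    rw [Matrix.fromBlocks_multiply, _root_.mul_inv_rev, Units.val_mul, Units.val_mul, Matrix.transpose_mul]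
    simp

theorem diagHom_val (X : GL (Fin m) F) :
    ((diagHom X : Matrix.symplecticGroup (Fin m) F) : Matrix (Fin m ⊕ Fin m) (Fin m ⊕ Fin m) F) =
      diagSp X := rfl

theorem diagHom_injective : Function.Injective (diagHom : GL (Fin m) F →* Matrix.symplecticGroup (Fin m) F) := by
  intro X Y h
  have h1 := congrArg (fun g : Matrix.symplecticGroup (Fin m) F =>
    (g : Matrix (Fin m ⊕ Fin m) (Fin m ⊕ Fin m) F).toBlocks₁₁) h
  simp only [diagHom_val, diagSp, Matrix.toBlocks_fromBlocks₁₁] at h1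
  exact Units.ext h1

theorem mulVec_diagSp_inr (X : GL (Fin m) F) (v : Fin m ⊕ Fin m → F) (i : Fin m) :
    (diagSp X *ᵥ v) (Sum.inr i) =
      (((X⁻¹ : GL (Fin m) F) : Matrix (Fin m) (Fin m) F)ᵀ *ᵥ (fun j => v (Sum.inr j))) i := by
  simp [diagSp, Matrix.mulVec, dotProduct, Fintype.sum_sum_type]

theorem mulVec_diagSp_inl (X : GL (Fin m) F) (v : Fin m ⊕ Fin m → F) (i : Fin m) :
    (diagSp X *ᵥ v) (Sum.inl i) =
      ((X : Matrix (Fin m) (Fin m) F) *ᵥ (fun j => v (Sum.inl j))) i := by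
  simp [diagSp, Matrix.mulVec, dotProduct, Fintype.sum_sum_type]

theorem mulVec_eq_zero_iff_of_GL (X : GL (Fin m) F) (w : Fin m → F) :
    (X : Matrix (Fin m) (Fin m) F) *ᵥ w = 0 ↔ w = 0 := by
  constructor
  · intro h
    have h3 : ((X⁻¹ : GL (Fin m) F) : Matrix (Fin m) (Fin m) F) *ᵥ
        ((X : Matrix (Fin m) (Fin m) F) *ᵥ w) = w := by
      rw [Matrix.mulVec_mulVec, ← Units.val_mul, inv_mul_cancel, Units.val_one, Matrix.one_mulVec]
    rw [h, Matrix.mulVec_zero] at h3
    exact h3.symm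
  · intro h
    rw [h, Matrix.mulVec_zero]

theorem transpose_mulVec_eq_zero_iff_of_GL (X : GL (Fin m) F) (w : Fin m → F) :
    (X : Matrix (Fin m) (Fin m) F)ᵀ *ᵥ w = 0 ↔ w = 0 := by
  constructor
  · intro h
    have h3 : ((X⁻¹ : GL (Fin m) F) : Matrix (Fin m) (Fin m) F)ᵀ *ᵥ
        ((X : Matrix (Fin m) (Fin m) F)ᵀ *ᵥ w) = w := by
      rw [Matrix.mulVec_mulVec, ← Matrix.transpose_mul, ← Units.val_mul, mul_inv_cancel, Units.val_one,
        Matrix.transpose_one, Matrix.one_mulVec]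
    rw [h, Matrix.mulVec_zero] at h3
    exact h3.symm
  · intro h
    rw [h, Matrix.mulVec_zero]

end

/-- The elements of Sp_2m(F) stabilising both W = ⟨e_1..e_m⟩ and U = ⟨f_1..f_m⟩ form a subgroup isomorphic to GL_m(F) (block-diagonal matrices diag(X, X^(−ᵀ)) up to the sign convention of J), for m ≥ 1 or m = 0 alike. -/
theorem result {F : Type*} [Field F] (m : ℕ) : Nonempty (↥(Cfsg.stabilizing (Cfsg.spToMat m F) {v : Fin m ⊕ Fin m → F | ∀ i : Fin m, v (Sum.inr i) = 0} ⊓ Cfsg.stabilizing (Cfsg.spToMat m F) {v : Fin m ⊕ Fin m → F | ∀ i : Fin m, v (Sum.inl i) = 0}) ≃* Matrix.GeneralLinearGroup (Fin m) F) := by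
  have hrange : (diagHom : GL (Fin m) F →* Matrix.symplecticGroup (Fin m) F).range =
      Cfsg.stabilizing (Cfsg.spToMat m F) {v : Fin m ⊕ Fin m → F | ∀ i : Fin m, v (Sum.inr i) = 0} ⊓
        Cfsg.stabilizing (Cfsg.spToMat m F) {v : Fin m ⊕ Fin m → F | ∀ i : Fin m, v (Sum.inl i) = 0} := by
    ext g
    constructor
    · rintro ⟨X, rfl⟩
      refine ⟨?_, ?_⟩
      · intro v
        show (∀ i : Fin m, v (Sum.inr i) = 0) ↔ ∀ i : Fin m, (diagSp X *ᵥ v) (Sum.inr i) = 0
        simp only [mulVec_diagSp_inr]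
        have := transpose_mulVec_eq_zero_iff_of_GL X⁻¹ (fun j => v (Sum.inr j))
        rw [funext_iff, funext_iff] at this
        exact this.symm
      · intro v
        show (∀ i : Fin m, v (Sum.inl i) = 0) ↔ ∀ i : Fin m, (diagSp X *ᵥ v) (Sum.inl i) = 0
        simp only [mulVec_diagSp_inl]
        have := mulVec_eq_zero_iff_of_GL X (fun j => v (Sum.inl j))
        rw [funext_iff, funext_iff] at this
        exact this.symm
    · rintro ⟨h1, h2⟩
      -- the blocks
      set M : Matrix (Fin m ⊕ Fin m) (Fin m ⊕ Fin m) F := (g : Matrix (Fin m ⊕ Fin m) (Fin m ⊕ Fin m) F) with hM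
      have hC : M.toBlocks₂₁ = 0 := by
        ext i j
        have hmem : (Pi.single (Sum.inl j) (1 : F) : Fin m ⊕ Fin m → F) ∈
            {v : Fin m ⊕ Fin m → F | ∀ i : Fin m, v (Sum.inr i) = 0} := by
          intro l
          simp
        have := (h1 _).mp hmem i
        simpa [Matrix.toBlocks₂₁] using this
      have hB : M.toBlocks₁₂ = 0 := by
        ext i j
        have hmem : (Pi.single (Sum.inr j) (1 : F) : Fin m ⊕ Fin m → F) ∈
            {v : Fin m ⊕ Fin m → F | ∀ i : Fin m, v (Sum.inl i) = 0} := by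
          intro l
          simp
        have := (h2 _).mp hmem i
        simpa [Matrix.toBlocks₁₂] using this
      have hMeq : M = Matrix.fromBlocks M.toBlocks₁₁ 0 0 M.toBlocks₂₂ := by
        conv_lhs => rw [← Matrix.fromBlocks_toBlocks M, hC, hB]
      have hsp : M * Matrix.J (Fin m) F * Mᵀ = Matrix.J (Fin m) F :=
        (SymplecticGroup.mem_iff).mp g.2
      rw [hMeq, Matrix.J, Matrix.fromBlocks_multiply, Matrix.fromBlocks_transpose,
        Matrix.fromBlocks_multiply] at hsp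
      have h12 := congrArg Matrix.toBlocks₁₂ hsp
      simp only [Matrix.toBlocks_fromBlocks₁₂] at h12
      have hAD : M.toBlocks₁₁ * M.toBlocks₂₂ᵀ = 1 := by
        simp at h12
        exact h12
      have hDA : M.toBlocks₂₂ᵀ * M.toBlocks₁₁ = 1 := mul_eq_one_comm.mp hAD
      refine ⟨⟨M.toBlocks₁₁, M.toBlocks₂₂ᵀ, hAD, hDA⟩, ?_⟩
      apply Subtype.ext
      rw [diagHom_val, diagSp]
      show Matrix.fromBlocks M.toBlocks₁₁ 0 0 (M.toBlocks₂₂ᵀ)ᵀ = M
      rw [Matrix.transpose_transpose, ← hMeq]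
  exact ⟨((MonoidHom.ofInjective diagHom_injective).trans (MulEquiv.subgroupCongr hrange)).symm⟩

end Cfsg.Agent.S0778
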