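import Mathlib
import Cfsg.Statements.S0779

set_option autoImplicit false
open Cfsg

namespace Cfsg.Agent.S0779

section

variable {F : Type*} [Field F] [Fintype F] {q : ℕ}

/-- `q` is a power of the characteristic. -/
theorem exists_char_pow (hF : Fintype.card F = q ^ 2) :
    ∃ (p : ℕ) (j : ℕ), p.Prime ∧ CharP F p ∧ q = p ^ j := by
  obtain ⟨p, hp⟩ := CharP.exists F
  obtain ⟨k, hpp, hk⟩ := FiniteField.card F p
  refine ⟨p, ?_⟩
  have hdvd : q ∣ p ^ (k : ℕ) := by
    rw [← hk, hF]
    exact dvd_pow_self q (by norm_num)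
  obtain ⟨j, -, hj⟩ := (Nat.dvd_prime_pow hpp).mp hdvd
  exact ⟨j, hpp, hp, hj⟩

theorem add_pow_q (hF : Fintype.card F = q ^ 2) (a b : F) : (a + b) ^ q = a ^ q + b ^ q := by
  obtain ⟨p, j, hp, hchar, rfl⟩ := exists_char_pow hF
  have : Fact p.Prime := ⟨hp⟩
  exact add_pow_char_pow a b p j

theorem pow_q_pow_q (hF : Fintype.card F = q ^ 2) (a : F) : (a ^ q) ^ q = a := by
  rw [← pow_mul, ← pow_two, ← hF, FiniteField.pow_card]

theorem sum_pow_q (hF : Fintype.card F = q ^ 2) {ι : Type*} (s : Finset ι) (f : ι → F) :
    (∑ i ∈ s, f i) ^ q = ∑ i ∈ s, f i ^ q := by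
  classical
  have hq : q ≠ 0 := by
    rintro rfl
    have : 1 < Fintype.card F := Fintype.one_lt_card
    rw [hF] at this
    norm_num at this
  induction s using Finset.induction_on with
  | empty => simp [hq]
  | insert a s ha ih => rw [Finset.sum_insert ha, Finset.sum_insert ha, add_pow_q hF, ih]

theorem q_ne_zero (hF : Fintype.card F = q ^ 2) : q ≠ 0 := by
  rintro rfl
  have : 1 < Fintype.card F := Fintype.one_lt_card
  rw [hF] at this
  norm_num at this

theorem herm_conj (hF : Fintype.card F = q ^ 2) (n : ℕ) (x y : Fin n → F) :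
    (hermForm n F q x y) ^ q = hermForm n F q y x := by
  unfold hermForm
  rw [sum_pow_q hF]
  apply Finset.sum_congr rfl
  intro i _
  rw [mul_pow, pow_q_pow_q hF, mul_comm]

theorem transvection_mulVec (n : ℕ) (v : Fin n → F) (c : F) (x : Fin n → F) :
    (unitaryTransvection n q v c).mulVec x = x + (c * hermForm n F q x v) • v := by
  unfold unitaryTransvection hermForm
  rw [Matrix.add_mulVec, Matrix.one_mulVec, Matrix.smul_mulVec]
  congr 1
  ext i
  simp only [Matrix.mulVec, Matrix.vecMulVec_apply, dotProduct, Pi.smul_apply, smul_eq_mul]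
  rw [Finset.mul_sum, Finset.mul_sum, Finset.sum_mul]
  apply Finset.sum_congr rfl
  intro j _
  ring

theorem herm_add_left (n : ℕ) (x x' y : Fin n → F) :
    hermForm n F q (x + x') y = hermForm n F q x y + hermForm n F q x' y := by
  unfold hermForm
  rw [← Finset.sum_add_distrib]
  apply Finset.sum_congr rfl
  intro i _
  simp only [Pi.add_apply]
  ring

theorem herm_smul_left (n : ℕ) (a : F) (x y : Fin n → F) :
    hermForm n F q (a • x) y = a * hermForm n F q x y := by
  unfold hermForm
  rw [Finset.mul_sum]
  apply Finset.sum_congr rfl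
  intro i _
  simp only [Pi.smul_apply, smul_eq_mul]
  ring

theorem herm_add_right (hF : Fintype.card F = q ^ 2) (n : ℕ) (x y y' : Fin n → F) :
    hermForm n F q x (y + y') = hermForm n F q x y + hermForm n F q x y' := by
  unfold hermForm
  rw [← Finset.sum_add_distrib]
  apply Finset.sum_congr rfl
  intro i _
  simp only [Pi.add_apply]
  rw [add_pow_q hF]
  ring

theorem herm_smul_right (n : ℕ) (a : F) (x y : Fin n → F) :
    hermForm n F q x (a • y) = a ^ q * hermForm n F q x y := by
  unfold hermForm
  rw [Finset.mul_sum]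
  apply Finset.sum_congr rfl
  intro i _
  simp only [Pi.smul_apply, smul_eq_mul]
  rw [mul_pow]
  ring

/-- The defect of the transvection. -/
theorem herm_transvection (hF : Fintype.card F = q ^ 2) (n : ℕ) (v : Fin n → F)
    (hv0 : hermForm n F q v v = 0) (c : F) (x y : Fin n → F) :
    hermForm n F q ((unitaryTransvection n q v c).mulVec x) ((unitaryTransvection n q v c).mulVec y) =
      hermForm n F q x y + (c + c ^ q) * (hermForm n F q x v * (hermForm n F q y v) ^ q) := by
  rw [transvection_mulVec, transvection_mulVec, herm_add_left, herm_add_right hF, herm_add_right hF,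
    herm_smul_left, herm_smul_left, herm_smul_right, herm_smul_right, hv0, ← herm_conj hF n y v, mul_pow]
  ring

end

/-- For a non-zero isotropic vector v of the Hermitian form over the field with q^2 elements, the map x ↦ x + c h(x,v) v preserves the form exactly when c = 0 or c^(q-1) = -1. -/
theorem result {F : Type*} [Field F] [Fintype F] {q : ℕ} (hF : Fintype.card F = q ^ 2) (n : ℕ) (v : Fin n → F) (hv : v ≠ 0) (hv0 : Cfsg.hermForm n F q v v = 0) (c : F) : (∀ x y : Fin n → F, Cfsg.hermForm n F q ((Cfsg.unitaryTransvection n q v c).mulVec x) ((Cfsg.unitaryTransvection n q v c).mulVec y) = Cfsg.hermForm n F q x y) ↔ (c = 0 ∨ c ^ (q - 1) = -1) := by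
  have hq := q_ne_zero hF
  have hkey : c + c ^ q = 0 ↔ (c = 0 ∨ c ^ (q - 1) = -1) := by
    have hcq : c ^ q = c * c ^ (q - 1) := by
      rw [← pow_succ', Nat.sub_add_cancel (Nat.one_le_iff_ne_zero.mpr hq)]
    constructor
    · intro h
      by_cases hc : c = 0
      · exact Or.inl hc
      · right
        rw [hcq] at h
        have h1 : c * (1 + c ^ (q - 1)) = 0 := by rw [← h]; ring
        rcases mul_eq_zero.mp h1 with h2 | h2
        · exact absurd h2 hc
        · exact eq_neg_of_add_eq_zero_right h2
    · rintro (h | h)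
      · rw [h, zero_pow hq, add_zero]
      · rw [hcq, h]; ring
  rw [← hkey]
  constructor
  · intro h
    -- pick a coordinate where v is nonzero
    have : ∃ i, v i ≠ 0 := by
      by_contra hne
      push Not at hne
      exact hv (funext hne)
    obtain ⟨i, hi⟩ := this
    have h1 := h (Pi.single i 1) (Pi.single i 1)
    rw [herm_transvection hF n v hv0] at h1
    have h2 : hermForm n F q (Pi.single i 1) v = v i ^ q := by
      unfold hermForm
      rw [Finset.sum_eq_single i]
      · simp
      · intro j _ hj
        simp [Pi.single_apply, hj]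
      · intro hi'; exact absurd (Finset.mem_univ i) hi'
    rw [h2] at h1
    have h3 : (c + c ^ q) * (v i ^ q * (v i ^ q) ^ q) = 0 := by
      have := h1
      rwa [add_eq_left] at this
    rcases mul_eq_zero.mp h3 with h4 | h4
    · exact h4
    · exfalso
      have h5 : v i ^ q ≠ 0 := pow_ne_zero _ hi
      exact mul_ne_zero h5 (pow_ne_zero _ h5) h4
  · intro h x y
    rw [herm_transvection hF n v hv0, h, zero_mul, add_zero]

end Cfsg.Agent.S0779
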