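import Mathlib
import Cfsg.Statements.S0780
import Cfsg.Agent.Lib.Helper11.UnitaryGen2

set_option autoImplicit false
open Cfsg

namespace Cfsg.Agent.S0780

open Cfsg.Agent.Helper11 Cfsg.Agent.Helper11.Herm

/-- Generation of SU_n(q), n ≥ 3, (n, q) ≠ (3, 2), by unitary transvections: the subgroup generated by the elements whose matrix is x ↦ x + c h(x, v) v with v isotropic is all of SU_n(q). -/
theorem result {F : Type*} [Field F] [Fintype F] {q : ℕ} (hF : Fintype.card F = q ^ 2) (n : ℕ) (hn : 3 ≤ n) (h32 : ¬ (n = 3 ∧ q = 2)) : Subgroup.closure {A : ↥(Cfsg.SU n F q) | ∃ (v : Fin n → F) (c : F), Cfsg.hermForm n F q v v = 0 ∧ ((A : Matrix.SpecialLinearGroup (Fin n) F) : Matrix (Fin n) (Fin n) F) = Cfsg.unitaryTransvection n q v c} = ⊤ := by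
  obtain ⟨φ, hφ⟩ := exists_frob hF
  have hφφ := frob_frob hF φ hφ
  have hN1 := frob_norm_surj hF φ hφ
  have hφid := frob_ne_id hF φ hφ
  have hq2 := two_le_q hF
  have huniq : ∀ ψ : F →+* F, (∀ x, ψ x = x ^ q) → ψ = φ := fun ψ hψ =>
    RingHom.ext (fun x => by rw [hψ, hφ])
  have hcase : 4 ≤ Fintype.card (Fin n) ∨ ∃ w : F, φ w = w ∧ w ≠ 0 ∧ w ≠ 1 := by
    rw [Fintype.card_fin]
    by_cases h4 : 4 ≤ n
    · exact Or.inl h4
    · right
      have hn3 : n = 3 := by omega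
      have hq3 : 3 ≤ q := by
        by_contra hq
        apply h32
        exact ⟨hn3, by omega⟩
      have hc := card_fixed_ne_zero hF
      have : Nontrivial {c : F // c ≠ 0 ∧ c ^ q = c} := by
        rw [← Finite.one_lt_card_iff_nontrivial, hc]
        omega
      obtain ⟨w, hw⟩ := exists_ne (⟨1, one_ne_zero, one_pow q⟩ : {c : F // c ≠ 0 ∧ c ^ q = c})
      exact ⟨w.1, by rw [hφ]; exact w.2.2, w.2.1, fun h => hw (Subtype.ext h)⟩
  rw [eq_top_iff]
  intro A _
  have hAU : IsU φ ((A : Matrix.SpecialLinearGroup (Fin n) F) : Matrix (Fin n) (Fin n) F) :=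
    (mem_SU_iff_isU φ hφ n _).1 A.2
  have hAdet : ((A : Matrix.SpecialLinearGroup (Fin n) F) : Matrix (Fin n) (Fin n) F).det = 1 :=
    A.1.2
  have hmem := mem_TM_of_isU_of_det φ hφid hφφ hN1 hcase ⟨0, by omega⟩ _ hAU hAdet
  have key : ∀ M ∈ TM φ, ∃ B : ↥(Cfsg.SU n F q),
      ((B : Matrix.SpecialLinearGroup (Fin n) F) : Matrix (Fin n) (Fin n) F) = M ∧
      B ∈ Subgroup.closure {A : ↥(Cfsg.SU n F q) | ∃ (v : Fin n → F) (c : F),
        Cfsg.hermForm n F q v v = 0 ∧
        ((A : Matrix.SpecialLinearGroup (Fin n) F) : Matrix (Fin n) (Fin n) F) =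
          Cfsg.unitaryTransvection n q v c} := by
    intro M hM
    induction hM using Submonoid.closure_induction with
    | mem M hM =>
      obtain ⟨v, c, hv, hc, rfl⟩ := hM
      have hU : IsU φ (tv φ v c) := isU_tv φ hφφ v c (by rw [hv, mul_zero, add_zero, hc])
      have hd : (tv φ v c).det = 1 := by rw [det_tv, hv, mul_zero, add_zero]
      refine ⟨mkSU hF n (tv φ v c) hd (fun ψ hψ => by rw [huniq ψ hψ]; exact hU),
        coe_mkSU hF n _ _ _, ?_⟩
      apply Subgroup.subset_closure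
      refine ⟨v, c, by rw [hermForm_eq_hdot φ hφ]; exact hv, ?_⟩
      rw [coe_mkSU]
      unfold Cfsg.unitaryTransvection tv
      congr 3
      funext j
      exact hφ (v j)
    | one => exact ⟨1, rfl, Subgroup.one_mem _⟩
    | mul M N _ _ hM hN =>
      obtain ⟨B, hB, hB'⟩ := hM
      obtain ⟨C, hC, hC'⟩ := hN
      exact ⟨B * C, by rw [SU_mul_coe, hB, hC], Subgroup.mul_mem _ hB' hC'⟩
  obtain ⟨B, hB, hB'⟩ := key _ hmem
  have : A = B := SU_ext n A B hB.symm
  rw [this]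
  exact hB'

end Cfsg.Agent.S0780
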