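import Mathlib
import Cfsg.Statements.S0781
import Cfsg.Agent.Lib.Helper11.UnitarySiegel

set_option autoImplicit false
open Cfsg

namespace Cfsg.Agent.S0781

open Cfsg.Agent.Helper11.Herm

/-- In SU_n(q) with n ≥ 4, or n = 3 and q > 2, every element whose matrix is a unitary transvection x ↦ x + c h(x, v) v (v isotropic) is a commutator ⁅B, C⁆ of two elements of SU_n(q). -/
theorem result {F : Type*} [Field F] [Fintype F] {q : ℕ} (hF : Fintype.card F = q ^ 2) (n : ℕ) (hn : 4 ≤ n ∨ (n = 3 ∧ 3 ≤ q)) (A : ↥(Cfsg.SU n F q)) (v : Fin n → F) (c : F) (hv0 : Cfsg.hermForm n F q v v = 0) (hA : ((A : Matrix.SpecialLinearGroup (Fin n) F) : Matrix (Fin n) (Fin n) F) = Cfsg.unitaryTransvection n q v c) : A ∈ commutatorSet ↥(Cfsg.SU n F q) := by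
  obtain ⟨φ, hφ⟩ := exists_frob hF
  have hφφ := frob_frob hF φ hφ
  have hN1 := frob_norm_surj hF φ hφ
  have hN2 := frob_trace_ne_zero hF φ hφ
  have hφid := frob_ne_id hF φ hφ
  have hn3 : 3 ≤ n := by omega
  have htv : Cfsg.unitaryTransvection n q v c = tv φ v c := by
    unfold Cfsg.unitaryTransvection tv
    congr 3
    funext j
    exact (hφ (v j)).symm
  rw [htv] at hA
  rw [hermForm_eq_hdot φ hφ] at hv0
  have hAU : IsU φ (tv φ v c) := by
    rw [← hA]
    exact (mem_SU_iff_isU φ hφ n _).1 A.2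
  rw [mem_commutatorSet_iff]
  by_cases hv : v = 0
  · refine ⟨1, 1, ?_⟩
    rw [commutatorElement_one_right]
    apply SU_ext
    rw [hA, hv]
    unfold tv
    simp
  have hct := trace_zero_of_isU_tv φ hφφ v c hv hv0 hAU
  obtain ⟨B, C, hB, hBdet, hC, hCdet, hBC⟩ := tv_eq_commutator φ hφid hφφ hN1 hN2
    (by rw [Fintype.card_fin]; exact hn3) v hv0 c hct
  have huniq : ∀ ψ : F →+* F, (∀ x, ψ x = x ^ q) → ψ = φ := fun ψ hψ =>
    RingHom.ext (fun x => by rw [hψ, hφ])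
  refine ⟨mkSU hF n B hBdet (fun ψ hψ => by rw [huniq ψ hψ]; exact hB),
    mkSU hF n C hCdet (fun ψ hψ => by rw [huniq ψ hψ]; exact hC), ?_⟩
  rw [commutatorElement_def, mul_inv_eq_iff_eq_mul, mul_inv_eq_iff_eq_mul]
  apply SU_ext
  rw [SU_mul_coe, SU_mul_coe, SU_mul_coe, coe_mkSU, coe_mkSU, hA, hBC, Matrix.mul_assoc]

end Cfsg.Agent.S0781
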