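import Mathlib
import Cfsg.Statements.S0782
import Cfsg.Agent.Lib.Helper11.UnitaryParabolic

set_option autoImplicit false
open Cfsg

namespace Cfsg.Agent.S0782

open Cfsg.Agent.Helper11 Cfsg.Agent.Helper11.Herm

/-- Maximal parabolics of SU_n(q): if W is a k-dimensional subspace of F^n (n ≥ 1, |F| = q²) on which the Hermitian form vanishes, then (q + 1) times the order of its stabiliser in SU_n(q) equals q^(k(2n−3k)) · |GL_k(q²)| · |GU_(n−2k)(q)|, where |GU_m(q)| = q^(m(m−1)/2) Π_(i=1..m) (q^i − (−1)^i). -/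
theorem result {F : Type*} [Field F] [Fintype F] {q : ℕ} (hF : Fintype.card F = q ^ 2) (n k : ℕ) (hn : 1 ≤ n) (hk : 2 * k ≤ n) (W : Submodule F (Fin n → F)) (hWk : Module.finrank F W = k) (hW : ∀ u ∈ W, ∀ v ∈ W, Cfsg.hermForm n F q u v = 0) : (q + 1) * Nat.card ↥((Cfsg.stabilizing (Cfsg.slToMat n F) (W : Set (Fin n → F))).subgroupOf (Cfsg.SU n F q)) = q ^ (k * (2 * n - 3 * k)) * (∏ i : Fin k, ((q ^ 2) ^ k - (q ^ 2) ^ (i : ℕ))) * (q ^ ((n - 2 * k) * ((n - 2 * k) - 1) / 2) * ∏ i ∈ Finset.range (n - 2 * k), (if Even i then q ^ (i + 1) + 1 else q ^ (i + 1) - 1)) := by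
  obtain ⟨φ, hφ⟩ := exists_frob hF
  have hφφ := frob_frob hF φ hφ
  have hN1 := frob_norm_surj hF φ hφ
  have hφid := frob_ne_id hF φ hφ
  have hW' : ∀ u ∈ W, ∀ v ∈ W, hdot φ u v = 0 := by
    intro u hu v hv
    rw [← hermForm_eq_hdot φ hφ]
    exact hW u hu v hv
  rw [card_stabW_eq hF φ hφ n hn W hW']
  obtain ⟨x, hxLI, hxspan⟩ : ∃ x : Fin k → Fin n → F, LinearIndependent F x ∧
      Submodule.span F (Set.range x) = W := by
    obtain ⟨b⟩ : Nonempty (Module.Basis (Fin k) F W) := ⟨Module.finBasisOfFinrankEq F W hWk⟩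
    have hLI : LinearIndependent F (fun i => (b i : Fin n → F)) :=
      b.linearIndependent.map' W.subtype (Submodule.ker_subtype W)
    refine ⟨fun i => (b i : Fin n → F), hLI, ?_⟩
    apply Submodule.eq_of_le_of_finrank_eq
    · rw [Submodule.span_le]
      rintro _ ⟨i, rfl⟩
      exact (b i).2
    · rw [finrank_span_eq_card hLI, Fintype.card_fin, hWk]
  have hx : IsFr φ k x := by
    refine ⟨hxLI, fun i j => hW' _ ?_ _ ?_⟩
    · rw [← hxspan]; exact Submodule.subset_span ⟨i, rfl⟩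
    · rw [← hxspan]; exact Submodule.subset_span ⟨j, rfl⟩
  have hpos : 0 < Nat.card {y : Fin k → Fin n → F // IsFr φ k y} := by
    have : Nonempty {y : Fin k → Fin n → F // IsFr φ k y} := ⟨⟨x, hx⟩⟩
    exact Nat.card_pos
  have h1 := card_stabW_mul hφid hφφ hx
  rw [hxspan] at h1
  obtain ⟨m, rfl⟩ : ∃ m, n = m + 2 * k := ⟨n - 2 * k, by omega⟩
  rw [card_bases W hWk, card_UG_fin hF φ hφ (m + 2 * k),
    card_frames φ hφid hφφ hN1 (m + 2 * k) (by simp) k hk, hF] at h1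
  rw [card_frames φ hφid hφφ hN1 (m + 2 * k) (by simp) k hk, hF] at hpos
  rw [guOrder_frames hF φ hφ m k] at h1
  have e1 : m + 2 * k - 2 * k = m := by omega
  have e2 : 2 * (m + 2 * k) - 3 * k = 2 * m + k := by omega
  rw [e1, e2]
  apply Nat.eq_of_mul_eq_mul_right hpos
  rw [h1]
  unfold guOrder
  ring

end Cfsg.Agent.S0782
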