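import Mathlib
import Cfsg.Statements.S0785
import Cfsg.Agent.S0784

set_option autoImplicit false
open Cfsg

namespace Cfsg.Agent.S0785

open Matrix QuadraticMap

theorem mem_isometryGroup_iff {F : Type*} [Field F] {n : ℕ} (Q : (Fin n → F) → F)
    (g : Matrix.GeneralLinearGroup (Fin n) F) :
    g ∈ Cfsg.isometryGroup F Q ↔ ∀ u, Q ((g : Matrix (Fin n) (Fin n) F) *ᵥ u) = Q u := by
  constructor
  · intro h u
    exact h u u
  · intro h u _
    exact h u

/-- det(I) = {±1}: for a quadratic form on F^n whose polar form is non-degenerate, every element of the isometry group has determinant 1 or −1, and as soon as Q takes a non-zero value some isometry has determinant −1. -/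
theorem result {F : Type*} [Field F] {n : ℕ} (Q : QuadraticForm F (Fin n → F)) (hQ : (QuadraticMap.polarBilin Q).Nondegenerate) : (∀ g : ↥(Cfsg.isometryGroup F ⇑Q), ((g : Matrix.GeneralLinearGroup (Fin n) F) : Matrix (Fin n) (Fin n) F).det = 1 ∨ ((g : Matrix.GeneralLinearGroup (Fin n) F) : Matrix (Fin n) (Fin n) F).det = -1) ∧ ((∃ v, Q v ≠ 0) → ∃ g : ↥(Cfsg.isometryGroup F ⇑Q), ((g : Matrix.GeneralLinearGroup (Fin n) F) : Matrix (Fin n) (Fin n) F).det = -1) := by
  constructor
  · rintro ⟨g, hg⟩
    rw [mem_isometryGroup_iff] at hg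
    set A : Matrix (Fin n) (Fin n) F := (g : Matrix (Fin n) (Fin n) F) with hA
    change A.det = 1 ∨ A.det = -1
    set B := QuadraticMap.polarBilin Q with hB
    have hpres : B.compl₁₂ (Matrix.toLin' A) (Matrix.toLin' A) = B := by
      refine LinearMap.ext₂ (fun u w => ?_)
      simp only [LinearMap.compl₁₂_apply, Matrix.toLin'_apply, hB, QuadraticMap.polarBilin_apply_apply]
      unfold QuadraticMap.polar
      rw [← Matrix.mulVec_add, hg, hg, hg]
    have hM := congrArg (LinearMap.toMatrix₂' F) hpres
    rw [LinearMap.toMatrix₂'_compl₁₂, LinearMap.toMatrix'_toLin'] at hM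
    have hdet := congrArg Matrix.det hM
    rw [Matrix.det_mul, Matrix.det_mul, Matrix.det_transpose] at hdet
    have hM0 : (LinearMap.toMatrix₂' F B).det ≠ 0 := by
      have h1 : (LinearMap.BilinForm.toMatrix' B).Nondegenerate :=
        LinearMap.BilinForm.nondegenerate_toMatrix'_iff.2 hQ
      exact Matrix.nondegenerate_iff_det_ne_zero.1 h1
    have h2 : A.det * A.det = 1 := by
      have : (A.det * A.det - 1) * (LinearMap.toMatrix₂' F B).det = 0 := by
        linear_combination hdet
      rcases mul_eq_zero.1 this with h | h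
      · exact sub_eq_zero.1 h
      · exact absurd h hM0
    have h3 : (A.det - 1) * (A.det + 1) = 0 := by linear_combination h2
    rcases mul_eq_zero.1 h3 with h | h
    · left; exact sub_eq_zero.1 h
    · right; exact eq_neg_of_add_eq_zero_left h
  · rintro ⟨v, hv⟩
    obtain ⟨h1, _, _, h4⟩ := Cfsg.Agent.S0784.result Q v hv
    have hdet : (Cfsg.reflectionMatrix ⇑Q v).det ≠ 0 := by
      rw [h4]; simp
    refine ⟨⟨Matrix.GeneralLinearGroup.mkOfDetNeZero _ hdet, ?_⟩, ?_⟩
    · rw [mem_isometryGroup_iff]
      intro u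
      exact h1 u
    · exact h4

end Cfsg.Agent.S0785
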