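import Mathlib
import Cfsg.Statements.S0792
import Cfsg.Agent.Lib.Helper17.SpinorNorm

set_option autoImplicit false
open Cfsg

namespace Cfsg.Agent.S0792

open Cfsg.Agent.Helper17.Spinor

theorem prod_rG_mem_closure {F : Type*} [Field F] {n : ℕ} (h2 : (2 : F) ≠ 0)
    (Q : QuadraticForm F (Fin n → F)) :
    ∀ (m : ℕ) (vs : List (Fin n → F)), vs.length = 2 * m → (∀ v ∈ vs, Q v ≠ 0) →
      (vs.map (rG Q h2)).prod ∈ Subgroup.closure {g : ↥(Cfsg.isometryGroup F ⇑Q) |
        ∃ u v : Fin n → F, Q u ≠ 0 ∧ Q v ≠ 0 ∧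
          ((g : Matrix.GeneralLinearGroup (Fin n) F) : Matrix (Fin n) (Fin n) F)
            = Cfsg.reflectionMatrix ⇑Q u * Cfsg.reflectionMatrix ⇑Q v} := by
  intro m
  induction m with
  | zero =>
    intro vs hlen _
    have : vs = [] := List.length_eq_zero_iff.1 (by omega)
    subst this
    simp
  | succ m ih =>
    intro vs hlen hvs
    match vs, hlen, hvs with
    | [], hlen, _ => simp at hlen
    | [u], hlen, _ => simp at hlen; omega
    | u :: v :: rest, hlen, hvs =>
      have hu : Q u ≠ 0 := hvs u (by simp)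
      have hv : Q v ≠ 0 := hvs v (by simp)
      rw [List.map_cons, List.prod_cons, List.map_cons, List.prod_cons, ← mul_assoc]
      refine Subgroup.mul_mem _ (Subgroup.subset_closure ⟨u, v, hu, hv, ?_⟩)
        (ih rest (by simp at hlen; omega) (fun w hw => hvs w (by simp [hw])))
      rw [Subgroup.coe_mul, Units.val_mul, rG_coe Q h2 hu, rG_coe Q h2 hv]

/-- For q odd and Q with non-degenerate polar form on F^n, the determinant-one isometries form the subgroup generated by all products r_u r_v of two reflections (Q(u), Q(v) ≠ 0). -/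
theorem result {F : Type*} [Field F] [Fintype F] (h2 : (2 : F) ≠ 0) {n : ℕ} (Q : QuadraticForm F (Fin n → F)) (hQ : (QuadraticMap.polarBilin Q).Nondegenerate) : Cfsg.specialIsometryGroup F ⇑Q = Subgroup.closure {g : ↥(Cfsg.isometryGroup F ⇑Q) | ∃ u v : Fin n → F, Q u ≠ 0 ∧ Q v ≠ 0 ∧ ((g : Matrix.GeneralLinearGroup (Fin n) F) : Matrix (Fin n) (Fin n) F) = Cfsg.reflectionMatrix ⇑Q u * Cfsg.reflectionMatrix ⇑Q v} := by
  apply le_antisymm
  · intro g hg
    have hdet : ((g : Matrix.GeneralLinearGroup (Fin n) F) : Matrix (Fin n) (Fin n) F).det = 1 := by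
      have h1 : Matrix.GeneralLinearGroup.det (g : Matrix.GeneralLinearGroup (Fin n) F) = 1 := hg
      have h3 := congrArg Units.val h1
      simpa using h3
    obtain ⟨vs, hvs, hgv⟩ := cartan_dieudonne Q h2 hQ (toEnd Q g) (toEnd_isometry Q g)
    have hne : (-1 : F) ≠ 1 := by
      intro h1
      apply h2
      have : (2 : F) = 1 - (-1) := by ring
      rw [this, h1, sub_self]
    have heven : Even vs.length := by
      have h1 := congrArg LinearMap.det hgv
      rw [det_prod_refl Q vs hvs] at h1
      have h3 : LinearMap.det (toEnd Q g)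
          = ((g : Matrix.GeneralLinearGroup (Fin n) F) : Matrix (Fin n) (Fin n) F).det :=
        LinearMap.det_toLin' _
      rw [h3, hdet] at h1
      exact (neg_one_pow_eq_one_iff_even hne).1 h1.symm
    obtain ⟨m, hm⟩ := heven
    have hg' : g = (vs.map (rG Q h2)).prod := by
      apply toEnd_injective
      rw [hgv, toEnd_prod_rG Q h2 vs hvs]
    rw [hg']
    exact prod_rG_mem_closure h2 Q m vs (by omega) hvs
  · rw [Subgroup.closure_le]
    rintro g ⟨u, v, hu, hv, hg⟩
    show Matrix.GeneralLinearGroup.det (g : Matrix.GeneralLinearGroup (Fin n) F) = 1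
    apply Units.ext
    rw [Matrix.GeneralLinearGroup.val_det_apply, hg, Matrix.det_mul, det_reflectionMatrix Q hu,
      det_reflectionMatrix Q hv]
    simp

end Cfsg.Agent.S0792
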