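import Mathlib
import Cfsg.Statements.S0793
import Cfsg.Agent.Lib.Helper4.QuadMat

set_option autoImplicit false
open Cfsg

namespace Cfsg.Agent.S0793

open Matrix Cfsg.Agent.Helper4 QuadraticMap

/-- Root elements: if Q(u) = Q(v) = 0 and f(u, v) = 0 (f the polar form), then for every c the Siegel matrix T_(u,v)(c) preserves Q, fixes u and v, and T(c) T(d) = T(c + d). -/
theorem result {F : Type*} [Field F] {n : ℕ} (Q : QuadraticForm F (Fin n → F)) (u v : Fin n → F) (hu : Q u = 0) (hv : Q v = 0) (huv : QuadraticMap.polar ⇑Q u v = 0) : (∀ c x, Q ((Cfsg.siegelMatrix ⇑Q u v c).mulVec x) = Q x) ∧ (∀ c, (Cfsg.siegelMatrix ⇑Q u v c).mulVec u = u ∧ (Cfsg.siegelMatrix ⇑Q u v c).mulVec v = v) ∧ ∀ c d, Cfsg.siegelMatrix ⇑Q u v c * Cfsg.siegelMatrix ⇑Q u v d = Cfsg.siegelMatrix ⇑Q u v (c + d) := by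
  have hS : ∀ c x, (Cfsg.siegelMatrix ⇑Q u v c) *ᵥ x =
      x + (c * polar ⇑Q u x) • v + (-(c * polar ⇑Q v x)) • u := by
    intro c x
    unfold Cfsg.siegelMatrix
    rw [Matrix.add_mulVec, Matrix.one_mulVec, Matrix.smul_mulVec, Matrix.sub_mulVec,
      vecMulVec_mulVec_comm, vecMulVec_mulVec_comm, polarVec_dot, polarVec_dot, smul_sub, smul_smul,
      smul_smul, neg_smul, sub_eq_add_neg, add_assoc]
  have huu : polar ⇑Q u u = 0 := by
    rw [QuadraticMap.polar_self, hu]; simp
  have hvv : polar ⇑Q v v = 0 := by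
    rw [QuadraticMap.polar_self, hv]; simp
  have hvu : polar ⇑Q v u = 0 := by rw [polar_comm]; exact huv
  refine ⟨?_, ?_, ?_⟩
  · intro c x
    rw [hS]
    set a := c * polar ⇑Q u x with ha
    set b := -(c * polar ⇑Q v x) with hb
    have h1 : Q (x + a • v + b • u) = Q x + Q (a • v) + polar ⇑Q x (a • v) + Q (b • u) +
        polar ⇑Q (x + a • v) (b • u) := by
      unfold polar
      ring
    rw [h1, QuadraticMap.map_smul, QuadraticMap.map_smul, hu, hv, polar_smul_right, polar_smul_right,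
      polar_add_left, polar_smul_left, hvu]
    simp only [smul_eq_mul, ha, hb]
    rw [polar_comm ⇑Q x v, polar_comm ⇑Q x u]
    ring
  · intro c
    constructor
    · rw [hS, huu, hvu]; simp
    · rw [hS, huv, hvv]; simp
  · intro c d
    unfold Cfsg.siegelMatrix
    set N := Matrix.vecMulVec v (Cfsg.polarVec (⇑Q) u) - Matrix.vecMulVec u (Cfsg.polarVec (⇑Q) v) with hN
    have hNN : N * N = 0 := by
      rw [hN, Matrix.sub_mul, Matrix.mul_sub, Matrix.mul_sub, Matrix.vecMulVec_mul_vecMulVec,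
        Matrix.vecMulVec_mul_vecMulVec, Matrix.vecMulVec_mul_vecMulVec, Matrix.vecMulVec_mul_vecMulVec,
        polarVec_dot, polarVec_dot, polarVec_dot, polarVec_dot, huv, huu, hvv, hvu]
      simp
    rw [Matrix.add_mul, Matrix.mul_add, Matrix.mul_add, Matrix.one_mul, Matrix.mul_one, Matrix.one_mul,
      Matrix.smul_mul, Matrix.mul_smul, hNN, smul_zero, smul_zero, add_zero, add_smul, add_assoc,
      add_comm (d • N)]

end Cfsg.Agent.S0793
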