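import Mathlib
import Cfsg.Statements.S0795
import Cfsg.Agent.Lib.Helper2.OrthTwoPairs

set_option autoImplicit false
open Cfsg

namespace Cfsg.Agent.S0795

open Cfsg.Agent.Helper2.Orth Cfsg.Agent.Helper28.Siegel in
/-- In dimension at least 5 over a finite field of odd order, Ω is generated by the Siegel transformations. -/
theorem result {F : Type*} [Field F] [Fintype F] (h2 : (2 : F) ≠ 0) {n : ℕ} (hn : 5 ≤ n) (Q : QuadraticForm F (Fin n → F)) (hQ : (QuadraticMap.polarBilin Q).Nondegenerate) : Cfsg.Omega F ⇑Q = Subgroup.closure {g : ↥(Cfsg.isometryGroup F ⇑Q) | ∃ (u v : Fin n → F) (c : F), Q u = 0 ∧ Q v = 0 ∧ QuadraticMap.polar ⇑Q u v = 0 ∧ ((g : Matrix.GeneralLinearGroup (Fin n) F) : Matrix (Fin n) (Fin n) F) = Cfsg.siegelMatrix ⇑Q u v c} := by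
  classical
  obtain ⟨e, f, fr⟩ := exists_hypFrame_two Q h2 hQ (by rw [Fintype.card_fin]; exact hn)
  have hex : Fintype.card F ≠ 2 ∨ Fintype.card (Fin n) ≠ 4 := by
    left
    intro hc
    apply h2
    have h0 : ((Fintype.card F : ℕ) : F) = 0 := Nat.cast_card_eq_zero F
    rw [hc] at h0
    exact_mod_cast h0
  rw [Omega_eq_eichGroup hQ hex fr, eichGroup_eq_siegGroup hQ fr]
  unfold siegGroup
  congr 1
  ext g
  constructor
  · rintro ⟨u, v, hu, hv, huv, c, rfl⟩
    exact ⟨u, v, c, hu, hv, huv, siegG_coe Q hu hv huv c⟩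
  · rintro ⟨u, v, c, hu, hv, huv, hg⟩
    refine ⟨u, v, hu, hv, huv, c, ?_⟩
    apply Subtype.ext
    apply Units.ext
    rw [hg, siegG_coe]

end Cfsg.Agent.S0795
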