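import Mathlib
import Cfsg.Statements.S0796

set_option autoImplicit false
open Cfsg

namespace Cfsg.Agent.S0796

open MulAction

/-- If G is finite and acts faithfully and primitively on X, H is the stabiliser of a point, A is a normal subgroup of H whose normal closure in G is G, then for every non-trivial normal subgroup K of G the quotient G ⧸ K is isomorphic to A ⧸ B for some normal subgroup B of A. -/
theorem result {G X : Type*} [Group G] [Finite G] [MulAction G X] [FaithfulSMul G X] (hprim : MulAction.IsPreprimitive G X) (x : X) (A : Subgroup G) (hA : A ≤ MulAction.stabilizer G x) (hAn : (A.subgroupOf (MulAction.stabilizer G x)).Normal) (hgen : Subgroup.normalClosure (A : Set G) = ⊤) (K : Subgroup G) [K.Normal] (hK : K ≠ ⊥) : ∃ (B : Subgroup A) (_ : B.Normal), Nonempty (G ⧸ K ≃* A ⧸ B) := by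
  -- K is transitive
  have hKfix : fixedPoints K X ≠ Set.univ := by
    intro h
    apply hK
    rw [eq_bot_iff]
    intro k hk
    rw [Subgroup.mem_bot]
    apply FaithfulSMul.eq_of_smul_eq_smul (α := X)
    intro y
    have hy : y ∈ fixedPoints K X := by rw [h]; trivial
    rw [one_smul]
    exact hy ⟨k, hk⟩
  have hKtrans : IsPretransitive K X :=
    IsQuasiPreprimitive.isPretransitive_of_normal hKfix
  set H := stabilizer G x with hH
  -- K ⊔ A is normalized by H and by K
  have hHnorm : H ≤ Subgroup.normalizer ((K ⊔ A : Subgroup G) : Set G) := by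
    intro h hh
    rw [Subgroup.mem_normalizer_iff]
    have hconjA : ∀ a, a ∈ A ↔ h * a * h⁻¹ ∈ A := by
      intro a
      constructor
      · intro ha
        have := hAn.conj_mem ⟨a, hA ha⟩ (by simpa [Subgroup.mem_subgroupOf] using ha) ⟨h, hh⟩
        simpa [Subgroup.mem_subgroupOf] using this
      · intro ha
        have := hAn.conj_mem ⟨h * a * h⁻¹, hA ha⟩ (by simpa [Subgroup.mem_subgroupOf] using ha)
          (⟨h, hh⟩ : H)⁻¹
        simpa [Subgroup.mem_subgroupOf, mul_assoc] using this
    have hmap : (K ⊔ A).map (MulAut.conj h).toMonoidHom = K ⊔ A := by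
      rw [Subgroup.map_sup]
      congr 1
      · apply le_antisymm
        · rintro _ ⟨k, hk, rfl⟩
          exact ‹K.Normal›.conj_mem k hk h
        · intro k hk
          refine ⟨h⁻¹ * k * h, ?_, by simp [mul_assoc]⟩
          have := ‹K.Normal›.conj_mem k hk h⁻¹
          simpa using this
      · apply le_antisymm
        · rintro _ ⟨a, ha, rfl⟩
          exact (hconjA a).1 ha
        · intro a ha
          refine ⟨h⁻¹ * a * h, ?_, by simp [mul_assoc]⟩
          show h⁻¹ * a * h ∈ A
          rw [hconjA]
          simpa [mul_assoc] using ha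
    intro g
    constructor
    · intro hg
      rw [← hmap]
      exact ⟨g, hg, rfl⟩
    · intro hg
      rw [← hmap] at hg
      obtain ⟨g', hg', hgg'⟩ := hg
      have : g' = g := by simpa using hgg'
      rw [← this]; exact hg'
  have hnormal : (K ⊔ A).Normal := by
    rw [← Subgroup.normalizer_eq_top_iff, eq_top_iff]
    intro g _
    obtain ⟨k, hk⟩ := hKtrans.exists_smul_eq x (g • x)
    have hk' : (k : G) • x = g • x := hk
    have h1 : (k : G)⁻¹ * g ∈ H := by
      rw [hH, mem_stabilizer_iff, mul_smul, ← hk', inv_smul_smul]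
    have h2 : (k : G) ∈ Subgroup.normalizer ((K ⊔ A : Subgroup G) : Set G) :=
      Subgroup.le_normalizer (le_sup_left (a := K) (b := A) k.2)
    have : g = (k : G) * ((k : G)⁻¹ * g) := by group
    rw [this]
    exact Subgroup.mul_mem _ h2 (hHnorm h1)
  have htop : A ⊔ K = ⊤ := by
    rw [sup_comm, eq_top_iff, ← hgen]
    exact Subgroup.normalClosure_le_normal (le_sup_right (a := K) (b := A))
  refine ⟨K.subgroupOf A, inferInstance, ⟨?_⟩⟩
  have e1 := QuotientGroup.quotientInfEquivProdNormalQuotient A K
  let e : ↥(A ⊔ K) ≃* G := (MulEquiv.subgroupCongr htop).trans Subgroup.topEquiv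
  have he : (K.subgroupOf (A ⊔ K)).map (e : ↥(A ⊔ K) →* G) = K := by
    ext g
    constructor
    · rintro ⟨y, hy, rfl⟩
      exact hy
    · intro hg
      refine ⟨⟨g, by rw [htop]; exact Subgroup.mem_top g⟩, ?_, rfl⟩
      show g ∈ K
      exact hg
  have e2 := QuotientGroup.congr (K.subgroupOf (A ⊔ K)) K e he
  exact (e1.trans e2).symm

end Cfsg.Agent.S0796
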