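import Mathlib
import Cfsg.Statements.S0797
import Cfsg.Agent.Lib.Helper17.SpinorIndex
import Cfsg.Agent.Lib.Helper17.IndexTwo

set_option autoImplicit false
open Cfsg

namespace Cfsg.Agent.S0797

open Cfsg.Agent.Helper17 Cfsg.Agent.Helper17.Spinor

/-- O^ε_2m(q) ≅ Ω.2² for q odd: if F is finite of odd characteristic, n ≥ 2 is even and Q has non-degenerate polar form on F^n, the isometry group of Q has exactly three subgroups of index 2. -/
theorem result {F : Type*} [Field F] [Fintype F] (h2 : (2 : F) ≠ 0) {n : ℕ} (hn : 2 ≤ n) (heven : Even n) (Q : QuadraticForm F (Fin n → F)) (hQ : (QuadraticMap.polarBilin Q).Nondegenerate) : Nat.card {H : Subgroup ↥(Cfsg.isometryGroup F ⇑Q) // H.index = 2} = 3 := by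
  have hidx : (commutator ↥(Cfsg.isometryGroup F ⇑Q)).index = 4 :=
    index_Omega Q h2 hQ (by rw [Fintype.card_fin]; exact hn)
  rw [card_subgroup_index_two_quotient (commutator ↥(Cfsg.isometryGroup F ⇑Q))
    (fun H hH => commutator_le_of_index_two H hH)]
  apply card_subgroup_index_two_klein
  · exact hidx
  · intro x
    induction x using QuotientGroup.induction_on with
    | H g =>
      rw [← QuotientGroup.mk_mul, QuotientGroup.eq_one_iff]
      obtain ⟨vs, hvs, rfl⟩ := exists_prod_rG Q h2 hQ g
      have h1 : (vs.map (rG Q h2)).prod * (vs.map (rG Q h2)).prod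
          = ((vs ++ vs).map (rG Q h2)).prod := by
        rw [List.map_append, List.prod_append]
      have hvs' : ∀ v ∈ vs ++ vs, Q v ≠ 0 := by
        intro v hv
        rcases List.mem_append.1 hv with h | h <;> exact hvs v h
      rw [h1]
      refine (prod_rG_mem_Omega_iff Q h2 hQ _ hvs').2 ⟨?_, ?_⟩
      · rw [List.length_append]; exact ⟨_, rfl⟩
      · rw [List.map_append, List.prod_append]; exact ⟨_, rfl⟩

end Cfsg.Agent.S0797
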