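import Mathlib
import Cfsg.Statements.S0799
import Cfsg.Agent.Lib.Helper11.DicksonIII
import Cfsg.Agent.Lib.Helper11.DicksonIV2
import Cfsg.Agent.Lib.Helper11.DicksonIV3

set_option autoImplicit false
open Cfsg

namespace Cfsg.Agent.S0799

/-- Dickson's classification of the subgroups of PSL_2(q), q a power of the prime p, d = gcd(2, q − 1): every subgroup H is (a) cyclic or dihedral with k dividing (q+1)/d or (q−1)/d (cyclic of order k, or dihedral of order 2k), (b) isomorphic to a subgroup of the normaliser of a Sylow p-subgroup, (c) isomorphic to A_4, S_4 or A_5, or (d) isomorphic to PSL_2(K) or PGL_2(K) for a finite field K with |K|^m = q. -/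
theorem result {F : Type*} [Field F] [Fintype F] {q : ℕ} (hF : Fintype.card F = q) (p : ℕ) [Fact p.Prime] [CharP F p] (H : Subgroup (Matrix.ProjectiveSpecialLinearGroup (Fin 2) F)) : (∃ k : ℕ, (k ∣ (q + 1) / Nat.gcd 2 (q - 1) ∨ k ∣ (q - 1) / Nat.gcd 2 (q - 1)) ∧ ((IsCyclic H ∧ Nat.card H = k) ∨ Nonempty (H ≃* DihedralGroup k))) ∨ (∃ (P : Sylow p (Matrix.ProjectiveSpecialLinearGroup (Fin 2) F)) (K : Subgroup (Matrix.ProjectiveSpecialLinearGroup (Fin 2) F)), K ≤ Subgroup.normalizer ((P : Subgroup (Matrix.ProjectiveSpecialLinearGroup (Fin 2) F)) : Set (Matrix.ProjectiveSpecialLinearGroup (Fin 2) F)) ∧ Nonempty (H ≃* K)) ∨ Nonempty (H ≃* alternatingGroup (Fin 4)) ∨ Nonempty (H ≃* Equiv.Perm (Fin 4)) ∨ Nonempty (H ≃* alternatingGroup (Fin 5)) ∨ (∃ (K : Type) (_ : Field K) (_ : Fintype K) (m : ℕ), Fintype.card K ^ m = q ∧ (Nonempty (H ≃* Matrix.ProjectiveSpecialLinearGroup (Fin 2) K) ∨ Nonempty (H ≃* Matrix.ProjGenLinGroup (Fin 2) K))) := by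
  classical
  by_cases hcop : p ∣ Nat.card H
  swap
  · rcases Cfsg.Agent.Helper11.Klein.klein_psl2 p hF H hcop with h | h | h | h
    · left; exact h
    · right; right; left; exact h
    · right; right; right; left; exact h
    · right; right; right; right; left; exact h
  have hdvd : p ∣ Nat.card ↥(Cfsg.Agent.Helper11.Klein.preim H) := by
    rw [Cfsg.Agent.Helper11.Klein.card_preim]
    exact Dvd.dvd.mul_right hcop _
  by_cases hn : Nat.card (Sylow p ↥(Cfsg.Agent.Helper11.Klein.preim H)) = 1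
  · -- the `p`-closed case
    obtain ⟨Q⟩ : Nonempty (Sylow p ↥(Cfsg.Agent.Helper11.Klein.preim H)) := inferInstance
    haveI : Subsingleton (Sylow p ↥(Cfsg.Agent.Helper11.Klein.preim H)) :=
      (Nat.card_eq_one_iff_unique.1 hn).1
    have hQn : (Q : Subgroup ↥(Cfsg.Agent.Helper11.Klein.preim H)).Normal :=
      Sylow.normal_of_subsingleton Q
    have hQ1 : (Q : Subgroup ↥(Cfsg.Agent.Helper11.Klein.preim H)) ≠ ⊥ :=
      Sylow.ne_bot_of_dvd_card Q hdvd
    right; left
    exact Cfsg.Agent.Helper11.Dickson.borel_case p H Q hQn hQ1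
  · have hpos : 0 < Nat.card (Sylow p ↥(Cfsg.Agent.Helper11.Klein.preim H)) := Nat.card_pos
    have hn' : 1 < Nat.card (Sylow p ↥(Cfsg.Agent.Helper11.Klein.preim H)) := by omega
    by_cases hp2 : p = 2
    · subst hp2
      obtain ⟨T⟩ : Nonempty (Sylow 2 ↥(Cfsg.Agent.Helper11.Klein.preim H)) := inferInstance
      have hnn : ¬ (T : Subgroup ↥(Cfsg.Agent.Helper11.Klein.preim H)).Normal := by
        intro h
        haveI := h
        haveI : Unique (Sylow 2 ↥(Cfsg.Agent.Helper11.Klein.preim H)) := Sylow.unique_of_normal T h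
        have hs : Subsingleton (Sylow 2 ↥(Cfsg.Agent.Helper11.Klein.preim H)) := inferInstance
        have := Finite.card_le_one_iff_subsingleton.2 hs
        omega
      by_cases hcyc : IsCyclic (T : Subgroup ↥(Cfsg.Agent.Helper11.Klein.preim H))
      · obtain ⟨k, hk, e⟩ := Cfsg.Agent.Helper11.Dickson.two_cyclic hF H T hcyc hnn
        left
        exact ⟨k, hk, Or.inr e⟩
      · obtain ⟨K, iK, iF, m, hm, ⟨e⟩⟩ := Cfsg.Agent.Helper11.Dickson.two_noncyclic T hcyc hnn
        obtain ⟨e'⟩ := Cfsg.Agent.Helper11.Dickson.nonempty_equiv_preim_two H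
        right; right; right; right; right
        exact ⟨K, iK, iF, m, by rw [hm, hF], Or.inl ⟨e'.symm.trans e⟩⟩
    · rcases Cfsg.Agent.Helper11.Dickson.dickson_odd p hp2 H hn' with h | h | h |
        ⟨K, iK, iF, m, hm, h⟩
      · right; right; left; exact h
      · right; right; right; left; exact h
      · right; right; right; right; left; exact h
      · right; right; right; right; right
        exact ⟨K, iK, iF, m, by rw [hm, hF], h⟩

end Cfsg.Agent.S0799
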