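import Mathlib
import Cfsg.Statements.S0802
import Cfsg.Agent.Lib.Helper13.PSL2A4
import Cfsg.Agent.Lib.Helper13.PSL2Char2

set_option autoImplicit false
open Cfsg

namespace Cfsg.Agent.S0802

theorem two_pow_odd_mod (n : ℕ) (hn : Odd n) : 2 ^ n % 3 = 2 := by
  obtain ⟨k, rfl⟩ := hn
  rw [pow_succ, pow_mul, Nat.mul_mod, Nat.pow_mod]
  norm_num

theorem two_pow_even_mod (n : ℕ) (hn : Even n) : 2 ^ n % 3 = 1 := by
  obtain ⟨k, rfl⟩ := hn
  rw [← two_mul, pow_mul, Nat.pow_mod]
  norm_num

/-- PSL_2(p^n) has a subgroup isomorphic to A_4 if and only if it is not the case that p = 2 and n is odd. -/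
theorem result {F : Type*} [Field F] [Fintype F] (p n : ℕ) [Fact p.Prime] [CharP F p] (hF : Fintype.card F = p ^ n) : (∃ H : Subgroup (Matrix.ProjectiveSpecialLinearGroup (Fin 2) F), Nonempty (H ≃* alternatingGroup (Fin 4))) ↔ ¬ (p = 2 ∧ Odd n) := by
  constructor
  · rintro ⟨H, ⟨e⟩⟩ ⟨hp, hn⟩
    subst hp
    have hmod := two_pow_odd_mod n hn
    have hpos : 1 ≤ 2 ^ n := Nat.one_le_two_pow
    have hcop : Nat.gcd 3 (Fintype.card F - 1) = 1 := by
      rw [hF]
      have h3 : Nat.Prime 3 := by norm_num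
      apply (Nat.Prime.coprime_iff_not_dvd h3).2
      intro hd
      have := Nat.mod_eq_zero_of_dvd hd
      omega
    refine Cfsg.Agent.Helper13.PSL2Char2.no_A4 ?_ H e
    intro w hw
    have hw0 : w ≠ 0 := by
      rintro rfl
      norm_num at hw
    have h1 := FiniteField.pow_card_sub_one_eq_one w hw0
    have h2 : orderOf w ∣ Nat.gcd 3 (Fintype.card F - 1) :=
      Nat.dvd_gcd (orderOf_dvd_of_pow_eq_one hw) (orderOf_dvd_of_pow_eq_one h1)
    rw [hcop, Nat.dvd_one] at h2
    exact orderOf_eq_one_iff.1 h2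
  · intro hcon
    classical
    by_cases hp : p = 2
    · subst hp
      have hn : Even n := by
        rw [← Nat.not_odd_iff_even]
        exact fun h => hcon ⟨rfl, h⟩
      have hmod := two_pow_even_mod n hn
      have hpos : 1 ≤ 2 ^ n := Nat.one_le_two_pow
      have hdvd : 3 ∣ Fintype.card Fˣ := by
        rw [Fintype.card_units, hF]
        apply Nat.dvd_of_mod_eq_zero
        omega
      haveI : Fact (Nat.Prime 3) := ⟨by norm_num⟩
      obtain ⟨u, hu⟩ := exists_prime_orderOf_dvd_card 3 hdvd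
      refine Cfsg.Agent.Helper13.PSL2Char2.exists_A4_of_cube_root (u : F) ?_ ?_
      · have : u ^ 3 = 1 := by rw [← hu]; exact pow_orderOf_eq_one u
        rw [← Units.val_pow_eq_pow_val, this, Units.val_one]
      · intro h
        have : u = 1 := Units.ext h
        rw [this, orderOf_one] at hu
        norm_num at hu
    · have hF2 : ringChar F ≠ 2 := by
        rw [ringChar.eq F p]
        exact hp
      exact Cfsg.Agent.Helper13.PSL2A4.exists_A4_odd hF2

end Cfsg.Agent.S0802
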