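import Mathlib
import Cfsg.Statements.S0806
import Cfsg.Agent.Lib.Helper11.DicksonIdx

set_option autoImplicit false
open Cfsg

namespace Cfsg.Agent.S0806

/-- Minimal index (Galois): if q ∉ {2, 3, 5, 7, 9, 11} then every proper subgroup of PSL_2(q) has index ≥ q + 1, and some subgroup has index exactly q + 1. -/
theorem result {F : Type*} [Field F] [Fintype F] {q : ℕ} (hF : Fintype.card F = q) (hq : q ∉ ({2, 3, 5, 7, 9, 11} : Finset ℕ)) : (∀ H : Subgroup (Matrix.ProjectiveSpecialLinearGroup (Fin 2) F), H ≠ ⊤ → q + 1 ≤ H.index) ∧ ∃ H : Subgroup (Matrix.ProjectiveSpecialLinearGroup (Fin 2) F), H.index = q + 1 := by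
  classical
  obtain ⟨p, hp⟩ := CharP.exists F
  haveI : Fact p.Prime := ⟨CharP.char_is_prime F p⟩
  subst hF
  have hL := Cfsg.Agent.Helper11.Dickson.card_PSL2_mul (F := F)
  have hq2 : 2 ≤ Fintype.card F := Fintype.one_lt_card
  constructor
  · intro H hH
    have hb := Cfsg.Agent.Helper11.Dickson.card_bound p hq H hH
    have hidx := H.card_mul_index
    have hpos : 0 < Nat.gcd 2 (Fintype.card F - 1) * Nat.card H := by
      have h1 : 0 < Nat.card H := Nat.card_pos
      have h2 : 0 < Nat.gcd 2 (Fintype.card F - 1) := Nat.gcd_pos_of_pos_left _ (by norm_num)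
      positivity
    by_contra hlt
    push Not at hlt
    have h3 : H.index + 1 ≤ Fintype.card F + 1 := by omega
    have h4 : Nat.gcd 2 (Fintype.card F - 1) * Nat.card H * (H.index + 1) ≤
        Fintype.card F * (Fintype.card F - 1) * (Fintype.card F + 1) :=
      Nat.mul_le_mul hb h3
    have h5 : Nat.gcd 2 (Fintype.card F - 1) * Nat.card H * H.index =
        Fintype.card F * (Fintype.card F - 1) * (Fintype.card F + 1) := by
      rw [← hL, ← hidx]; ring
    have h6 : Nat.gcd 2 (Fintype.card F - 1) * Nat.card H * (H.index + 1) =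
        Nat.gcd 2 (Fintype.card F - 1) * Nat.card H * H.index +
          Nat.gcd 2 (Fintype.card F - 1) * Nat.card H := by ring
    omega
  · refine ⟨(Cfsg.Agent.Helper12.borelSL2 F).map
      (QuotientGroup.mk' (Subgroup.center (Matrix.SpecialLinearGroup (Fin 2) F))), ?_⟩
    have hker : (QuotientGroup.mk' (Subgroup.center (Matrix.SpecialLinearGroup (Fin 2) F))).ker ≤
        Cfsg.Agent.Helper12.borelSL2 F := by
      rw [QuotientGroup.ker_mk']
      intro x hx
      rw [Cfsg.Agent.Helper12.mem_borelSL2_iff]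
      exact (Cfsg.Agent.Helper4.DSL.isScalar2_of_mem_center hx).2.1
    rw [Subgroup.index_map_eq _ (QuotientGroup.mk'_surjective _) hker]
    have h1 := (Cfsg.Agent.Helper12.borelSL2 F).card_mul_index
    rw [Cfsg.Agent.Helper11.Dickson.card_borelSL2, Cfsg.Agent.Helper12.card_SL2] at h1
    have hpos : 0 < Fintype.card F * (Fintype.card F - 1) := by
      have : 0 < Fintype.card F - 1 := by omega
      positivity
    apply Nat.eq_of_mul_eq_mul_left hpos
    rw [h1]
    obtain ⟨r, hr⟩ : ∃ r, Fintype.card F = r + 2 := ⟨Fintype.card F - 2, by omega⟩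
    rw [hr]
    have e1 : (r + 2) ^ 2 - 1 = (r + 1) * (r + 3) := by
      have : (r + 2) ^ 2 = (r + 1) * (r + 3) + 1 := by ring
      omega
    have e3 : r + 2 - 1 = r + 1 := by omega
    rw [e1, e3]; ring

end Cfsg.Agent.S0806
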