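import Mathlib
import Cfsg.Statements.S0807
import Cfsg.Agent.Lib.Helper13.PSL2Invol
import Cfsg.Agent.Lib.Helper13.KleinCount

set_option autoImplicit false
set_option linter.unusedSectionVars false
open Cfsg

namespace Cfsg.Agent.S0807

open Matrix Cfsg.Agent.Helper12 Cfsg.Agent.Helper13 Cfsg.Agent.Helper13.SL2TZ Cfsg.Agent.S2508
  Cfsg.Agent.S0809 Cfsg.Agent.Helper13.PSL2Invol Cfsg.Agent.Helper13.KleinCount

open MulAction in
/-- the class equation for a single class -/
theorem card_conj_mul_card_centralizer {G : Type*} [Group G] [Finite G] (x : G) :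
    Nat.card {y : G // IsConj x y} * Nat.card (Subgroup.centralizer ({x} : Set G)) = Nat.card G := by
  have h1 := MulAction.index_stabilizer (ConjAct G) x
  have h2 := (stabilizer (ConjAct G) x).index_mul_card
  have h3 : (orbit (ConjAct G) x) = {y : G | IsConj x y} := by
    ext y
    rw [ConjAct.mem_orbit_conjAct, Set.mem_ofPred_eq, isConj_comm]
  have h4 : Nat.card (stabilizer (ConjAct G) x) = Nat.card (Subgroup.centralizer ({x} : Set G)) := by
    rw [Subgroup.centralizer_eq_comap_stabilizer]
    exact Nat.card_congr (Equiv.subtypeEquiv ConjAct.toConjAct.toEquiv (fun g => Iff.rfl)).symm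
  rw [h1, h3, h4] at h2
  rw [← Nat.card_coe_set_eq] at h2
  exact h2

/-- summing centraliser orders over a conjugacy class gives the group order -/
theorem sum_card_centralizer {G : Type*} [Group G] [Fintype G] [DecidableEq G]
    (I : Finset G) (x₀ : G) (hI : ∀ x, x ∈ I ↔ IsConj x₀ x) :
    ∑ x ∈ I, Nat.card (Subgroup.centralizer ({x} : Set G)) = Nat.card G := by
  classical
  have hn : ∀ x ∈ I, I.card * Nat.card (Subgroup.centralizer ({x} : Set G)) = Nat.card G := by
    intro x hx
    rw [← card_conj_mul_card_centralizer x]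
    congr 1
    rw [Nat.card_eq_fintype_card, Fintype.card_subtype]
    congr 1
    ext y
    rw [Finset.mem_filter, hI y]
    have hx' := (hI x).1 hx
    constructor
    · intro h
      exact ⟨Finset.mem_univ _, hx'.symm.trans h⟩
    · rintro ⟨-, h⟩
      exact hx'.trans h
  have hpos : 0 < I.card := Finset.card_pos.2 ⟨x₀, (hI x₀).2 (IsConj.refl x₀)⟩
  apply Nat.eq_of_mul_eq_mul_left hpos
  rw [Finset.mul_sum, Finset.sum_congr rfl hn, Finset.sum_const, smul_eq_mul]

/-- For q odd, PSL_2(q) has exactly |PSL_2(q)|/12 Klein four-subgroups. -/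
theorem result {F : Type*} [Field F] [Fintype F] {q : ℕ} (hF : Fintype.card F = q) (hodd : Odd q) : 12 * Nat.card {V : Subgroup (Matrix.ProjectiveSpecialLinearGroup (Fin 2) F) // IsKleinFour V} = Nat.card (Matrix.ProjectiveSpecialLinearGroup (Fin 2) F) := by
  classical
  subst hF
  have hch : ringChar F ≠ 2 := ringChar_ne_two_of_odd_card hodd
  have h6 := card_pairs (Matrix.ProjectiveSpecialLinearGroup (Fin 2) F)
  have key : 2 * Nat.card {p : Matrix.ProjectiveSpecialLinearGroup (Fin 2) F ×
      Matrix.ProjectiveSpecialLinearGroup (Fin 2) F // p.1 ≠ 1 ∧ p.2 ≠ 1 ∧ p.1 ≠ p.2 ∧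
      p.1 * p.1 = 1 ∧ p.2 * p.2 = 1 ∧ p.1 * p.2 = p.2 * p.1} =
      Nat.card (Matrix.ProjectiveSpecialLinearGroup (Fin 2) F) := by
    rw [Nat.card_eq_fintype_card, Fintype.card_subtype]
    set T := Finset.univ.filter (fun p : Matrix.ProjectiveSpecialLinearGroup (Fin 2) F ×
      Matrix.ProjectiveSpecialLinearGroup (Fin 2) F => p.1 ≠ 1 ∧ p.2 ≠ 1 ∧ p.1 ≠ p.2 ∧
      p.1 * p.1 = 1 ∧ p.2 * p.2 = 1 ∧ p.1 * p.2 = p.2 * p.1) with hT
    set I := Finset.univ.filter (fun x : Matrix.ProjectiveSpecialLinearGroup (Fin 2) F =>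
      x ≠ 1 ∧ x * x = 1) with hI
    have hmap : ∀ p ∈ T, p.1 ∈ I := by
      intro p hp
      simp only [hT, hI, Finset.mem_filter, Finset.mem_univ, true_and] at hp ⊢
      exact ⟨hp.1, hp.2.2.2.1⟩
    rw [Finset.card_eq_sum_card_fiberwise hmap]
    have hfib : ∀ x ∈ I, (T.filter (fun p => p.1 = x)).card = (Rset x).card := by
      intro x hx
      simp only [hI, Finset.mem_filter, Finset.mem_univ, true_and] at hx
      have : T.filter (fun p => p.1 = x) =
          (Rset x).map ⟨fun y => (x, y), fun y y' h => (Prod.mk.inj h).2⟩ := by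
        ext p
        simp only [hT, Finset.mem_filter, Finset.mem_univ, true_and, Finset.mem_map,
          Function.Embedding.coeFn_mk, mem_Rset]
        constructor
        · rintro ⟨⟨h1, h2, h3, h4, h5, h6⟩, rfl⟩
          exact ⟨p.2, ⟨h2, fun h => h3 h.symm, h5, h6⟩, rfl⟩
        · rintro ⟨y, ⟨h2, h3, h5, h6⟩, rfl⟩
          exact ⟨⟨hx.1, h2, fun h => h3 h.symm, hx.2, h5, h6⟩, rfl⟩
      rw [this, Finset.card_map]
    rw [Finset.sum_congr rfl hfib, Finset.mul_sum]
    have h2 : ∀ x ∈ I, 2 * (Rset x).card = Nat.card (Subgroup.centralizer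
        ({x} : Set (Matrix.ProjectiveSpecialLinearGroup (Fin 2) F))) := by
      intro x hx
      simp only [hI, Finset.mem_filter, Finset.mem_univ, true_and] at hx
      exact two_mul_card_Rset hch hodd x hx.1 hx.2
    rw [Finset.sum_congr rfl h2]
    -- the class equation
    have ht0 : ((compO (0 : F) : SpecialLinearGroup (Fin 2) F) : Matrix (Fin 2) (Fin 2) F).trace = 0 :=
      compO_trace 0
    apply sum_card_centralizer I (pr (compO (0 : F)))
    intro x
    simp only [hI, Finset.mem_filter, Finset.mem_univ, true_and]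
    constructor
    · rintro ⟨hx1, hxx⟩
      obtain ⟨a, rfl, ha⟩ := exists_lift_invol hch x hx1 hxx
      exact MonoidHom.map_isConj pr (isConj_of_trace_zero hch _ a ht0 ha)
    · intro hc
      obtain ⟨g, hg⟩ := isConj_iff.1 hc
      have h1 : pr (compO (0 : F)) ≠ 1 := trace_ne_of_center hch _ ht0
      have h2 : pr (compO (0 : F)) * pr (compO (0 : F)) = 1 := by
        rw [← map_mul, mul_self_eq_neg_one_of_trace _ ht0, pr_neg, map_one]
      rw [← hg]
      constructor
      · intro h
        apply h1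
        have : pr (compO (0 : F)) = g⁻¹ * (g * pr (compO (0 : F)) * g⁻¹) * g := by group
        rw [this, h]; group
      · have : g * pr (compO (0 : F)) * g⁻¹ * (g * pr (compO (0 : F)) * g⁻¹) =
            g * (pr (compO (0 : F)) * pr (compO (0 : F))) * g⁻¹ := by group
        rw [this, h2]; group
  rw [h6] at key
  rw [← key]; ring

end Cfsg.Agent.S0807
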