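import Mathlib
import Cfsg.Statements.S0808
import Cfsg.Agent.Lib.Helper13.PSL2Klein
import Cfsg.Agent.Lib.Helper13.TwoAdic

set_option autoImplicit false
set_option linter.unusedSectionVars false
open Cfsg

namespace Cfsg.Agent.S0808

open Matrix Cfsg.Agent.Helper12 Cfsg.Agent.Helper13 Cfsg.Agent.Helper13.SL2TZ Cfsg.Agent.S2508
  Cfsg.Agent.Helper13.PSL2Invol Cfsg.Agent.Helper13.SL2Torus Cfsg.Agent.Helper13.KleinCount
  Cfsg.Agent.Helper13.PSL2Klein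

section
variable {F : Type*} [Field F] [Fintype F]

theorem conj_fix {a d : SpecialLinearGroup (Fin 2) F} (hd : d * a = a * d) : d * a * d⁻¹ = a := by
  rw [hd]; group

theorem comm_of_conj_fix {a d : SpecialLinearGroup (Fin 2) F} (hd : d * a * d⁻¹ = a) :
    d * a = a * d := by
  calc d * a = (d * a * d⁻¹) * d := by group
    _ = a * d := by rw [hd]

theorem conj_anti' (hF : ringChar F ≠ 2) {a b d : SpecialLinearGroup (Fin 2) F}
    (ha : (a : Matrix (Fin 2) (Fin 2) F).trace = 0) (hb : b * a = -(a * b)) (hd : d * a = a * d) :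
    d * b * d⁻¹ = d * d * b := by
  have h := conj_anti hF a b d ha hb hd
  have h1 : b * d⁻¹ = d * b := by
    calc b * d⁻¹ = (d * b * d) * d⁻¹ := by rw [h]
      _ = d * b := by group
  rw [mul_assoc, h1, mul_assoc]

theorem trace_conj (s a : SpecialLinearGroup (Fin 2) F) :
    ((s * a * s⁻¹ : SpecialLinearGroup (Fin 2) F) : Matrix (Fin 2) (Fin 2) F).trace =
      (a : Matrix (Fin 2) (Fin 2) F).trace := by
  rw [Matrix.SpecialLinearGroup.coe_mul, Matrix.SpecialLinearGroup.coe_mul, Matrix.trace_mul_cycle,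
    ← Matrix.SpecialLinearGroup.coe_mul, ← Matrix.SpecialLinearGroup.coe_mul]
  have e : s⁻¹ * s * a = a := by group
  rw [e]

theorem QP_conj {a b : SpecialLinearGroup (Fin 2) F} (h : QP a b)
    (s : SpecialLinearGroup (Fin 2) F) : QP (s * a * s⁻¹) (s * b * s⁻¹) := by
  refine ⟨by rw [trace_conj]; exact h.1, ?_⟩
  have e1 : s * b * s⁻¹ * (s * a * s⁻¹) = s * (b * a) * s⁻¹ := by group
  have e2 : s * a * s⁻¹ * (s * b * s⁻¹) = s * (a * b) * s⁻¹ := by group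
  rw [e1, e2, h.2, mul_neg, neg_mul]

/-- normal form of a quaternion pair relative to a fixed one -/
theorem normal_form (hF : ringChar F ≠ 2) {a₀ b₀ a b : SpecialLinearGroup (Fin 2) F}
    (h0 : QP a₀ b₀) (h : QP a b) :
    ∃ c, c * a₀ = a₀ * c ∧ ConjS (KV a b) (KV a₀ (c * b₀)) := by
  obtain ⟨s, hs⟩ := isConj_iff.1 (isConj_of_trace_zero hF a a₀ h.1 h0.1)
  have h' := QP_conj h s
  rw [hs] at h'
  refine ⟨s * b * s⁻¹ * b₀⁻¹, anti_torsor h0.2 h'.2, ?_⟩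
  have h3 := conjS_KV s a b
  rw [hs] at h3
  have e : s * b * s⁻¹ * b₀⁻¹ * b₀ = s * b * s⁻¹ := by group
  rw [e]
  exact h3

theorem square_conj (hF : ringChar F ≠ 2) {a₀ x d : SpecialLinearGroup (Fin 2) F}
    (ha₀ : (a₀ : Matrix (Fin 2) (Fin 2) F).trace = 0) (hx : x * a₀ = -(a₀ * x))
    (hd : d * a₀ = a₀ * d) : ConjS (KV a₀ x) (KV a₀ (d * d * x)) := by
  have h := conjS_KV d a₀ x
  rw [conj_fix hd, conj_anti' hF ha₀ hx hd] at h
  exact h

/-- squares in the centraliser of `a₀` -/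
def IsSq (a₀ c : SpecialLinearGroup (Fin 2) F) : Prop := ∃ d, d * a₀ = a₀ * d ∧ d * d = c

theorem sq_index (hF : ringChar F ≠ 2) (a₀ : SpecialLinearGroup (Fin 2) F)
    (ha₀ : (a₀ : Matrix (Fin 2) (Fin 2) F).trace = 0) :
    (∃ c, c * a₀ = a₀ * c ∧ ¬ IsSq a₀ c) ∧
    ∀ c c', c * a₀ = a₀ * c → c' * a₀ = a₀ * c' → ¬ IsSq a₀ c → ¬ IsSq a₀ c' →
      ∃ d, d * a₀ = a₀ * d ∧ c' = d * d * c := by
  classical
  have hmem : ∀ d, d ∈ Subgroup.centralizer {a₀} ↔ d * a₀ = a₀ * d :=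
    fun d => Subgroup.mem_centralizer_singleton_iff
  have hsq : ∀ c, (∃ d ∈ Subgroup.centralizer {a₀}, d * d = c) ↔ IsSq a₀ c := by
    intro c
    constructor
    · rintro ⟨d, hd, hdd⟩; exact ⟨d, (hmem d).1 hd, hdd⟩
    · rintro ⟨d, hd, hdd⟩; exact ⟨d, (hmem d).2 hd, hdd⟩
  obtain ⟨⟨c, hcC, hc⟩, h2⟩ := squares_index_two (Subgroup.centralizer {a₀})
    (fun x hx y hy => cent_comm hF a₀ x y ha₀ ((hmem x).1 hx) ((hmem y).1 hy)) (-1)
    ((hmem _).2 (by rw [neg_mul, one_mul, mul_neg, mul_one])) (neg_one_ne_one hF) (by simp)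
    (fun d _ hdd => eq_one_or_neg_one_of_mul_self hF d hdd)
  refine ⟨⟨c, (hmem c).1 hcC, fun h => hc ((hsq c).2 h)⟩, ?_⟩
  intro c c' hc hc' hn hn'
  obtain ⟨d, hd, e⟩ := h2 c ((hmem c).2 hc) c' ((hmem c').2 hc') (fun h => hn ((hsq c).1 h))
    (fun h => hn' ((hsq c').1 h))
  exact ⟨d, (hmem d).1 hd, e⟩

theorem IsSq.mul (hF : ringChar F ≠ 2) {a₀ c c' : SpecialLinearGroup (Fin 2) F}
    (ha₀ : (a₀ : Matrix (Fin 2) (Fin 2) F).trace = 0) (h : IsSq a₀ c) (h' : IsSq a₀ c') :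
    IsSq a₀ (c * c') := by
  obtain ⟨d, hd, rfl⟩ := h
  obtain ⟨d', hd', rfl⟩ := h'
  refine ⟨d * d', ?_, ?_⟩
  · rw [mul_assoc, hd', ← mul_assoc, hd, mul_assoc]
  · have := cent_comm hF a₀ d d' ha₀ hd hd'
    calc d * d' * (d * d') = d * (d' * d) * d' := by group
      _ = d * (d * d') * d' := by rw [this]
      _ = d * d * (d' * d') := by group

theorem IsSq.inv {a₀ c : SpecialLinearGroup (Fin 2) F} (h : IsSq a₀ c) : IsSq a₀ c⁻¹ := by
  obtain ⟨d, hd, rfl⟩ := h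
  refine ⟨d⁻¹, ?_, by group⟩
  calc d⁻¹ * a₀ = d⁻¹ * (a₀ * d) * d⁻¹ := by group
    _ = d⁻¹ * (d * a₀) * d⁻¹ := by rw [hd]
    _ = a₀ * d⁻¹ := by group

theorem isSq_neg_one {a₀ : SpecialLinearGroup (Fin 2) F}
    (ha₀ : (a₀ : Matrix (Fin 2) (Fin 2) F).trace = 0) : IsSq a₀ (-1) :=
  ⟨a₀, rfl, mul_self_eq_neg_one_of_trace a₀ ha₀⟩

theorem isSq_self (hF : ringChar F ≠ 2) {a₀ : SpecialLinearGroup (Fin 2) F}
    (ha₀ : (a₀ : Matrix (Fin 2) (Fin 2) F).trace = 0) (ρ : F) (hρ : ρ * ρ = 2) : IsSq a₀ a₀ :=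
  exists_sqrt_of_two hF a₀ ha₀ ρ hρ

theorem swap_norm (hF : ringChar F ≠ 2) (ρ : F) (hρ : ρ * ρ = 2)
    {x y : SpecialLinearGroup (Fin 2) F} (h : QP x y) :
    ∃ t, t * y * t⁻¹ = x ∧ (KV x y).map (MulAut.conj (pr t)).toMonoidHom = KV x y := by
  obtain ⟨t, h1, h2⟩ := exists_swap hF x y h.1 h.2 ρ hρ
  have e1 : t * x * t⁻¹ = y := by rw [h1]; group
  have e2 : t * y * t⁻¹ = x := by rw [h2]; group
  refine ⟨t, e2, ?_⟩
  rw [KV_conj, e1, e2, KV_comm]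

theorem QP_neg_right {a b : SpecialLinearGroup (Fin 2) F} (h : QP a b) : QP a (-b) :=
  ⟨h.1, by rw [neg_mul, h.2, mul_neg]⟩

/-- a conjugate of `a₀` lying in the four-group can be moved back to `a₀` inside its normaliser -/
theorem exists_normalising (hF : ringChar F ≠ 2) (ρ : F) (hρ : ρ * ρ = 2)
    {a₀ b₂ a' : SpecialLinearGroup (Fin 2) F} (h2 : QP a₀ b₂) (h1 : pr a' ≠ 1)
    (hmem : pr a' ∈ KV a₀ b₂) :
    ∃ t, t * a' * t⁻¹ = a₀ ∧ (KV a₀ b₂).map (MulAut.conj (pr t)).toMonoidHom = KV a₀ b₂ := by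
  rcases (mem_KV_iff hF h2 _).1 hmem with h | h | h | h
  · exact absurd h h1
  · rcases (pr_eq_iff _ _).1 h with e | e
    · refine ⟨1, by rw [e]; group, ?_⟩
      rw [map_one, map_one]
      exact Subgroup.map_id _
    · refine ⟨b₂, ?_, ?_⟩
      · have e' : a' = -a₀ := by rw [e, neg_neg]
        rw [e', mul_neg, h2.2, neg_neg]
        group
      · rw [KV_conj]
        have e1 : b₂ * a₀ * b₂⁻¹ = -a₀ := by
          rw [h2.2, neg_mul]
          congr 1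
          group
        have e2 : b₂ * b₂ * b₂⁻¹ = b₂ := by group
        rw [e1, e2, KV_neg_left]
  · rcases (pr_eq_iff _ _).1 h with e | e
    · obtain ⟨t, ht1, ht2⟩ := swap_norm hF ρ hρ h2
      exact ⟨t, by rw [← e]; exact ht1, ht2⟩
    · obtain ⟨t, ht1, ht2⟩ := swap_norm hF ρ hρ (QP_neg_right h2)
      rw [KV_neg_right] at ht2
      have e' : a' = -b₂ := by rw [e, neg_neg]
      exact ⟨t, by rw [e']; exact ht1, ht2⟩
  · have h3 : QP a₀ (a₀ * b₂) := ⟨h2.1, mul_anti h2.2 rfl⟩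
    rcases (pr_eq_iff _ _).1 h with e | e
    · obtain ⟨t, ht1, ht2⟩ := swap_norm hF ρ hρ h3
      rw [KV_mul_right] at ht2
      exact ⟨t, by rw [← e]; exact ht1, ht2⟩
    · obtain ⟨t, ht1, ht2⟩ := swap_norm hF ρ hρ (QP_neg_right h3)
      rw [KV_neg_right, KV_mul_right] at ht2
      have e' : a' = -(a₀ * b₂) := by rw [e, neg_neg]
      exact ⟨t, by rw [e']; exact ht1, ht2⟩

theorem not_conj (hF : ringChar F ≠ 2) (ρ : F) (hρ : ρ * ρ = 2)
    {a₀ b₀ c₀ : SpecialLinearGroup (Fin 2) F} (h0 : QP a₀ b₀) (hc₀ : c₀ * a₀ = a₀ * c₀)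
    (hns : ¬ IsSq a₀ c₀) : ¬ ConjS (KV a₀ b₀) (KV a₀ (c₀ * b₀)) := by
  rintro ⟨g, hg⟩
  obtain ⟨s, rfl⟩ := pr_surjective g
  rw [KV_conj] at hg
  have h2 : QP a₀ (c₀ * b₀) := ⟨h0.1, mul_anti h0.2 hc₀⟩
  have h' : QP (s * a₀ * s⁻¹) (s * b₀ * s⁻¹) := QP_conj h0 s
  have hmem : pr (s * a₀ * s⁻¹) ∈ KV a₀ (c₀ * b₀) := by
    rw [hg]
    exact Subgroup.subset_closure (by simp)
  obtain ⟨t, ht1, ht2⟩ := exists_normalising hF ρ hρ h2 (h'.facts hF).1 hmem
  have hs'fix : (t * s) * a₀ * (t * s)⁻¹ = a₀ := by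
    have e : (t * s) * a₀ * (t * s)⁻¹ = t * (s * a₀ * s⁻¹) * t⁻¹ := by group
    rw [e, ht1]
  have hs' : (t * s) * a₀ = a₀ * (t * s) := comm_of_conj_fix hs'fix
  have hfinal : KV a₀ (c₀ * b₀) = KV a₀ ((t * s) * (t * s) * b₀) := by
    rw [← ht2, hg, KV_conj, ht1, ← conj_anti' hF h0.1 h0.2 hs']
    congr 1
    group
  have hss : ((t * s) * (t * s)) * a₀ = a₀ * ((t * s) * (t * s)) := by
    rw [mul_assoc, hs', ← mul_assoc, hs', mul_assoc]
  have h3 : QP a₀ ((t * s) * (t * s) * b₀) := ⟨h0.1, mul_anti h0.2 hss⟩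
  have hmem2 : pr ((t * s) * (t * s) * b₀) ∈ KV a₀ (c₀ * b₀) := by
    rw [hfinal]
    exact Subgroup.subset_closure (by simp)
  have hsq1 : IsSq a₀ ((t * s) * (t * s)) := ⟨t * s, hs', rfl⟩
  have hsqn : IsSq a₀ (-((t * s) * (t * s))) := by
    have := (isSq_neg_one h0.1).mul hF h0.1 hsq1
    rwa [neg_mul, one_mul] at this
  have hsqi : IsSq a₀ a₀⁻¹ := (isSq_self hF h0.1 ρ hρ).inv
  rcases (mem_KV_iff hF h2 _).1 hmem2 with h | h | h | h
  · exact (h3.facts hF).2.1 h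
  · exact (h3.facts hF).2.2.1 h.symm
  · rcases (pr_eq_iff _ _).1 h with e | e
    · exact hns (by rw [mul_right_cancel e]; exact hsq1)
    · rw [← neg_mul] at e
      exact hns (by rw [mul_right_cancel e]; exact hsqn)
  · rcases (pr_eq_iff _ _).1 h with e | e
    · rw [← mul_assoc] at e
      have e2 : c₀ = a₀⁻¹ * ((t * s) * (t * s)) := by
        rw [← mul_right_cancel e]; group
      exact hns (by rw [e2]; exact hsqi.mul hF h0.1 hsq1)
    · rw [← mul_assoc, ← neg_mul] at e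
      have e2 : c₀ = a₀⁻¹ * (-((t * s) * (t * s))) := by
        rw [← mul_right_cancel e]; group
      exact hns (by rw [e2]; exact hsqi.mul hF h0.1 hsqn)

end

/-- Conjugacy classes of four-groups in PSL_2(q), q odd: if q ≡ 3 or 5 (mod 8) all Klein four-subgroups are conjugate; if q ≡ 1 or 7 (mod 8) there are two Klein four-subgroups which are not conjugate, and every Klein four-subgroup is conjugate to one of them. -/
theorem result {F : Type*} [Field F] [Fintype F] {q : ℕ} (hF : Fintype.card F = q) (hodd : Odd q) : ((q % 8 = 3 ∨ q % 8 = 5) → ∀ V W : Subgroup (Matrix.ProjectiveSpecialLinearGroup (Fin 2) F), IsKleinFour V → IsKleinFour W → ∃ g : Matrix.ProjectiveSpecialLinearGroup (Fin 2) F, W = V.map (MulAut.conj g).toMonoidHom) ∧ ((q % 8 = 1 ∨ q % 8 = 7) → ∃ V₁ V₂ : Subgroup (Matrix.ProjectiveSpecialLinearGroup (Fin 2) F), IsKleinFour V₁ ∧ IsKleinFour V₂ ∧ (¬ ∃ g : Matrix.ProjectiveSpecialLinearGroup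 (Fin 2) F, V₂ = V₁.map (MulAut.conj g).toMonoidHom) ∧ ∀ W : Subgroup (Matrix.ProjectiveSpecialLinearGroup (Fin 2) F), IsKleinFour W → (∃ g : Matrix.ProjectiveSpecialLinearGroup (Fin 2) F, W = V₁.map (MulAut.conj g).toMonoidHom) ∨ (∃ g : Matrix.ProjectiveSpecialLinearGroup (Fin 2) F, W = V₂.map (MulAut.conj g).toMonoidHom)) := by
  classical
  subst hF
  have hch : ringChar F ≠ 2 := ringChar_ne_two_of_odd_card hodd
  have ha₀ : ((compO (0 : F) : SpecialLinearGroup (Fin 2) F) : Matrix (Fin 2) (Fin 2) F).trace = 0 :=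
    compO_trace 0
  obtain ⟨b₀, hb₀⟩ := exists_anti hch (compO 0) ha₀
  have h0 : QP (compO (0 : F)) b₀ := ⟨ha₀, hb₀⟩
  obtain ⟨⟨c₀, hc₀C, hc₀⟩, htwo⟩ := sq_index hch (compO 0) ha₀
  have hall : ∀ c₁ : SpecialLinearGroup (Fin 2) F, c₁ * compO 0 = compO 0 * c₁ →
      ¬ IsSq (compO 0) c₁ → ∀ W : Subgroup (ProjectiveSpecialLinearGroup (Fin 2) F),
      IsKleinFour W → ConjS (KV (compO 0) b₀) W ∨ ConjS (KV (compO 0) (c₁ * b₀)) W := by
    intro c₁ hc₁ hn₁ W hW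
    have := hW
    obtain ⟨a, b, hab, rfl⟩ := exists_QP hch W
    obtain ⟨c, hc, hconj⟩ := normal_form hch h0 hab
    by_cases hsq : IsSq (compO 0) c
    · left
      obtain ⟨d, hd, rfl⟩ := hsq
      exact (square_conj hch h0.1 h0.2 hd).trans hconj.symm
    · right
      obtain ⟨d, hd, rfl⟩ := htwo c₁ c hc₁ hc hn₁ hsq
      have e : d * d * c₁ * b₀ = d * d * (c₁ * b₀) := mul_assoc _ _ _
      rw [e] at hconj
      exact (square_conj hch h0.1 (mul_anti h0.2 hc₁) hd).trans hconj.symm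
  constructor
  · intro hq V W hV hW
    have h2 : ¬ IsSquare (2 : F) := by
      rw [FiniteField.isSquare_two_iff]
      omega
    have hns : ¬ IsSq (compO (0 : F)) (compO 0) := fun ⟨d, hd, hdd⟩ =>
      h2 (isSquare_two_of_sqrt hch (compO 0) d ha₀ hd hdd)
    have hV1 : ∀ W : Subgroup (ProjectiveSpecialLinearGroup (Fin 2) F), IsKleinFour W →
        ConjS (KV (compO 0) b₀) W := by
      intro W hW
      rcases hall (compO 0) rfl hns W hW with h | h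
      · exact h
      · rwa [KV_mul_right] at h
    exact (hV1 V hV).symm.trans (hV1 W hW)
  · intro hq
    have h2 : IsSquare (2 : F) := by
      rw [FiniteField.isSquare_two_iff]
      omega
    obtain ⟨ρ, hρ⟩ := h2
    refine ⟨KV (compO 0) b₀, KV (compO 0) (c₀ * b₀), isKleinFour_KV hch h0,
      isKleinFour_KV hch ⟨ha₀, mul_anti hb₀ hc₀C⟩, not_conj hch ρ hρ.symm h0 hc₀C hc₀, ?_⟩
    intro W hW
    exact hall c₀ hc₀C hc₀ W hW

end Cfsg.Agent.S0808
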