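import Mathlib
import Cfsg.Statements.S0813
import Cfsg.Agent.Lib.Helper2.Psln15

set_option autoImplicit false
open Cfsg

namespace Cfsg.Agent.S0813

/-- |Aut(PSL_n(q))|, q = p^f: for n ≥ 3 it is 2 f |PGL_n(q)|, and for n = 2 (q ≥ 4) it is f |PGL_2(q)|. -/
theorem result {F : Type*} [Field F] [Fintype F] (p f : ℕ) [Fact p.Prime] (hf : 1 ≤ f) (hF : Fintype.card F = p ^ f) (n : ℕ) (hn : 2 ≤ n) (h2 : n = 2 → 4 ≤ p ^ f) : Nat.card (MulAut (Matrix.ProjectiveSpecialLinearGroup (Fin n) F)) = (if n = 2 then 1 else 2) * f * Nat.card (Matrix.ProjGenLinGroup (Fin n) F) := by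
  have : CharP F p := charP_of_card_eq_prime_pow hF
  have hcard : Nat.card (RingAut F) = f := Cfsg.Agent.Helper2.OutCongr.card_ringEquiv hF
  have hR := Cfsg.Agent.Helper2.PN.card_range_Phi (F := F) p hn
  rw [hcard] at hR
  obtain ⟨m, rfl⟩ := Nat.exists_eq_add_of_le' hn
  rcases Nat.eq_zero_or_pos m with rfl | hm
  · have hsurj : (Cfsg.Agent.Helper2.PN.Phi (ι := Fin (0 + 2)) (F := F)).range = ⊤ :=
      MonoidHom.range_eq_top.mpr (Cfsg.Agent.Helper2.PA.Phi_surjective p)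
    rw [hsurj, Subgroup.card_top] at hR
    rw [hR]
    simp
  · have hidx := Cfsg.Agent.Helper2.PN.index_range_Phi (F := F) p hm
    have h1 := Subgroup.card_mul_index (Cfsg.Agent.Helper2.PN.Phi (ι := Fin (m + 2)) (F := F)).range
    rw [hidx, hR] at h1
    rw [← h1, if_neg (by omega)]
    ring

end Cfsg.Agent.S0813
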