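import Mathlib
import Cfsg.Statements.S0814
import Cfsg.Agent.Lib.Helper2.Spa30

set_option autoImplicit false
open Cfsg

namespace Cfsg.Agent.S0814

open Cfsg.Agent.Helper2.SpA

/-- |Aut(PSp_2m(q))| = gcd(2, q−1) · f · |PSp_2m(q)| for q = p^f, m ≥ 2, (m, q) ≠ (2, 2), with an extra factor 2 exactly when m = 2 and p = 2. -/
theorem result {F : Type*} [Field F] [Fintype F] (p f : ℕ) [Fact p.Prime] (hf : 1 ≤ f) (hF : Fintype.card F = p ^ f) (m : ℕ) (hm : 2 ≤ m) (h22 : m = 2 → 3 ≤ p ^ f) : Nat.card (MulAut (Cfsg.PSp m F)) = (if m = 2 ∧ p = 2 then 2 else 1) * Nat.gcd 2 (p ^ f - 1) * f * Nat.card (Cfsg.PSp m F) := by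
  have hchar : CharP F p := charP_of_card_eq_prime_pow hF
  have hcardF : Nat.card F = p ^ f := by rw [Nat.card_eq_fintype_card, hF]
  have hring : Nat.card (RingAut F) = f := Cfsg.Agent.Helper2.OutCongr.card_ringEquiv hF
  have hG := card_GamS (m := m) (F := F) p (by omega)
  rw [hcardF, hring] at hG
  by_cases hcase : m = 2 ∧ p = 2
  · obtain ⟨rfl, rfl⟩ := hcase
    rw [if_pos ⟨rfl, rfl⟩]
    have h2 : (2 : F) = 0 := by
      have := CharP.cast_eq_zero F 2
      exact_mod_cast this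
    have hidx := index_GamS_four (F := F) 2 h2
    have h1 := (GamS 2 F).index_mul_card
    rw [hidx, hG] at h1
    change Nat.card (MulAut (PGq 2 F)) = _
    rw [← h1]
    change _ = 2 * Nat.gcd 2 (2 ^ f - 1) * f * Nat.card (PGq 2 F)
    ring
  · rw [if_neg hcase, one_mul]
    have h4 : m = 2 → (2 : F) ≠ 0 := by
      intro hm2 h2
      apply hcase
      refine ⟨hm2, ?_⟩
      have h3 : ((2 : ℕ) : F) = 0 := by exact_mod_cast h2
      have h5 := (CharP.cast_eq_zero_iff F p 2).1 h3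
      exact ((Nat.prime_dvd_prime_iff_eq (Fact.out : p.Prime) Nat.prime_two).1 h5)
    have htop := GamS_eq_top (m := m) (F := F) p hm h4
    change Nat.card (MulAut (PGq m F)) = _
    rw [← Subgroup.card_top (G := MulAut (PGq m F)), ← htop, hG]

end Cfsg.Agent.S0814
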