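import Mathlib
import Cfsg.Statements.S0816
import Cfsg.Agent.Lib.Helper17.OrthOut8
import Cfsg.Agent.Lib.Helper2.OutCongr

set_option autoImplicit false
open Cfsg

namespace Cfsg.Agent.S0816

/-- |Aut(PΩ_(2m+1)(q))| = 2 f · |PΩ_(2m+1)(q)| for q = p^f odd and m ≥ 3 (for the form quadFormOdd). -/
theorem result {F : Type*} [Field F] [Fintype F] (p f : ℕ) [Fact p.Prime] (hf : 1 ≤ f) (hF : Fintype.card F = p ^ f) (hodd : Odd p) (m : ℕ) (hm : 3 ≤ m) : Nat.card (MulAut (Cfsg.POmega F (Cfsg.quadFormOdd m F))) = 2 * f * Nat.card (Cfsg.POmega F (Cfsg.quadFormOdd m F)) := by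
  classical
  have h2 : (2 : F) ≠ 0 := by
    have hc : ringChar F ≠ 2 := by
      intro h
      have h1 := FiniteField.even_card_of_char_two h
      rw [hF] at h1
      have h3 : Odd (p ^ f) := hodd.pow
      have := Nat.odd_iff.1 h3
      omega
    exact Ring.two_ne_zero hc
  have hring : Nat.card (RingAut F) = f := Cfsg.Agent.Helper2.OutCongr.card_ringEquiv hF
  obtain ⟨k, rfl⟩ : ∃ k, m = k + 3 := ⟨m - 3, by omega⟩
  rw [Cfsg.Agent.Helper2.Orth.quadFormOdd_eq]
  rw [Cfsg.Agent.Helper17.OrthOut.card_mulAut_odd h2 k, hring]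

end Cfsg.Agent.S0816
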