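import Mathlib
import Cfsg.Statements.S0817
import Cfsg.Agent.S2724
import Cfsg.Agent.Lib.Helper17.OrthFA27
import Cfsg.Agent.Lib.Helper17.OrthOut15
import Cfsg.Agent.Lib.Helper2.OutCongr
import Cfsg.Agent.Lib.Lead.D4AutCard

set_option autoImplicit false
open Cfsg

namespace Cfsg.Agent.S0817

/-- |Aut(PΩ⁺_2m(q))| for q = p^f, m ≥ 4: |PΩ⁺_2m(q)| times f, times 3 when m = 4, times 2 if p = 2, and times 8 or 4 if p is odd according as m(q−1)/2 is even or odd. -/
theorem result {F : Type*} [Field F] [Fintype F] (p f : ℕ) [Fact p.Prime] (hf : 1 ≤ f) (hF : Fintype.card F = p ^ f) (m : ℕ) (hm : 4 ≤ m) : Nat.card (MulAut (Cfsg.POmega F (Cfsg.quadFormPlus m F))) = (if m = 4 then 3 else 1) * (if p = 2 then 2 else (if Even (m * (p ^ f - 1) / 2) then 8 else 4)) * f * Nat.card (Cfsg.POmega F (Cfsg.quadFormPlus m F)) := by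
  classical
  have hring : Nat.card (RingAut F) = f := Cfsg.Agent.Helper2.OutCongr.card_ringEquiv hF
  by_cases hm4 : m = 4
  · subst hm4
    rw [if_pos rfl]
    have hlead : Nat.card (MulAut (Cfsg.POmega F (Cfsg.quadFormPlus 4 F))) =
        3 * (if p = 2 then 2 else 8) * f * Nat.card (Cfsg.POmega F (Cfsg.quadFormPlus 4 F)) :=
      Cfsg.Agent.Lead.D4Aut.card_mulAut_pomega8 p f hF
    rw [hlead]
    have he : Even (4 * (p ^ f - 1) / 2) := by
      have : 4 * (p ^ f - 1) / 2 = 2 * (p ^ f - 1) := by omega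
      rw [this]
      exact even_two_mul _
    rw [if_pos he]
  · obtain ⟨k, rfl⟩ : ∃ k, m = k + 4 + 1 := ⟨m - 5, by omega⟩
    rw [if_neg hm4, one_mul]
    rw [Cfsg.Agent.Helper17.Spinor.quadFormPlus_eq]
    have G := Cfsg.Agent.Helper17.OrthFA.good_plus (F := F) k
    have hσ : ∀ σ : F ≃+* F, ∃ g : GL (Fin (k + 4 + 1) ⊕ Fin (k + 4 + 1)) F,
        Cfsg.IsSemisimilarityPair (⇑(Cfsg.Agent.Helper17.Spinor.plusQ (k + 4 + 1) F)) g σ :=
      fun σ => ⟨1, Cfsg.Agent.Helper17.OrthFA.isSemisim_fixed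
        (Cfsg.Agent.Helper17.OrthFA.plusMat_map (σ : F →+* F) (k + 4 + 1))⟩
    rw [G.card_mulAut' hσ, hring]
    congr 2
    by_cases hp : p = 2
    · subst hp
      haveI : CharP F 2 := charP_of_card_eq_prime_pow hF
      rw [G.relIndex_inn_PG_two, if_pos rfl]
    · have hpodd : Odd p := (Fact.out : p.Prime).odd_of_ne_two hp
      have hodd : Odd (Fintype.card F) := by rw [hF]; exact hpodd.pow
      rw [if_neg hp]
      have hS := @Cfsg.Agent.S2724.result F _ _ hodd (k + 4 + 1) (by omega)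
      rw [Cfsg.Agent.Helper17.Spinor.quadFormPlus_eq] at hS
      obtain ⟨h1, h2'⟩ := hS
      have hpg : Cfsg.pgoAut F (⇑(Cfsg.Agent.Helper17.Spinor.plusQ (k + 4 + 1) F)) =
          Cfsg.Agent.Helper17.ConfAut.PG (Cfsg.Agent.Helper17.Spinor.plusQ (k + 4 + 1) F) :=
        Cfsg.Agent.Helper17.ConfAut.pgoAut_eq _
      obtain ⟨t, ht⟩ := hodd
      rw [hF] at ht
      have e1 : (k + 4 + 1) * (p ^ f - 1) / 2 = (k + 4 + 1) * t := by
        rw [ht, Nat.add_sub_cancel, ← mul_assoc, mul_comm _ 2, mul_assoc, Nat.mul_div_cancel_left _ (by norm_num : 0 < 2)]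
      rw [e1]
      by_cases hc : Odd (k + 4 + 1) ∧ Fintype.card F % 4 = 3
      · obtain ⟨φ, hs, hk⟩ := h1 hc
        rw [← hpg, Cfsg.Agent.Helper17.OrthOut.relIndex_of_hom _ _ φ hs hk, if_neg]
        · rw [Nat.card_eq_fintype_card]; rfl
        · obtain ⟨h3, h4⟩ := hc
          rw [hF, ht] at h4
          rw [Nat.even_mul, not_or]
          constructor
          · rw [Nat.not_even_iff_odd]; exact h3
          · rw [Nat.even_iff]; omega
      · obtain ⟨φ, hs, hk⟩ := h2' hc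
        rw [← hpg, Cfsg.Agent.Helper17.OrthOut.relIndex_of_hom _ _ φ hs hk, DihedralGroup.nat_card, if_pos]
        rw [Nat.even_mul]
        by_contra hcon
        rw [not_or] at hcon
        apply hc
        obtain ⟨h3, h4⟩ := hcon
        rw [hF, ht]
        rw [Nat.not_even_iff_odd] at h3
        rw [Nat.even_iff] at h4
        exact ⟨h3, by omega⟩

end Cfsg.Agent.S0817
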