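import Mathlib
import Cfsg.Statements.S0818
import Cfsg.Agent.Lib.Helper17.OrthOut15
import Cfsg.Agent.Lib.Helper2.OutCongr

set_option autoImplicit false
open Cfsg

namespace Cfsg.Agent.S0818

/-- |Aut(PΩ⁻_2m(q))| for q = p^f, m ≥ 4 (form quadFormMinus (m−1) with anisotropic binary part): |PΩ⁻_2m(q)| times f, times 2 if p = 2, and times 4 or 8 if p is odd according as m(q−1)/2 is even or odd. -/
theorem result {F : Type*} [Field F] [Fintype F] (p f : ℕ) [Fact p.Prime] (hf : 1 ≤ f) (hF : Fintype.card F = p ^ f) (m : ℕ) (hm : 4 ≤ m) (a b : F) (hab : ∀ z₁ z₂ : F, z₁ ^ 2 + a * z₁ * z₂ + b * z₂ ^ 2 = 0 → z₁ = 0 ∧ z₂ = 0) : Nat.card (MulAut (Cfsg.POmega F (Cfsg.quadFormMinus (m - 1) F a b))) = (if p = 2 then 2 else (if Even (m * (p ^ f - 1) / 2) then 4 else 8)) * f * Nat.card (Cfsg.POmega F (Cfsg.quadFormMinus (m - 1) F a b)) := by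
  classical
  have hring : Nat.card (RingAut F) = f := Cfsg.Agent.Helper2.OutCongr.card_ringEquiv hF
  obtain ⟨k, rfl⟩ : ∃ k, m = k + 4 := ⟨m - 4, by omega⟩
  rw [Cfsg.Agent.Helper2.Orth.quadFormMinus_eq]
  show Nat.card (MulAut (Cfsg.POmega F (⇑(Cfsg.Agent.Helper17.Spinor.minusQ (k + 3) a b)))) =
    _ * Nat.card (Cfsg.POmega F (⇑(Cfsg.Agent.Helper17.Spinor.minusQ (k + 3) a b)))
  have G := Cfsg.Agent.Helper17.OrthOut.good_minus k a b hab
  by_cases hp : p = 2
  · subst hp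
    haveI : CharP F 2 := charP_of_card_eq_prime_pow hF
    rw [G.card_mulAut' (fun σ => Cfsg.Agent.Helper17.OrthOut.exists_semisim_minus_two _ a b hab σ),
      G.relIndex_inn_PG_two, hring, if_pos rfl]
  · have hpodd : Odd p := (Fact.out : p.Prime).odd_of_ne_two hp
    have hodd : Odd (Fintype.card F) := by rw [hF]; exact hpodd.pow
    have h2 := Cfsg.Agent.Helper17.ConfAut.two_ne_zero_of_odd_card hodd
    rw [G.card_mulAut' (fun σ => Cfsg.Agent.Helper17.OrthOut.exists_semisim_minus_odd h2 _ a b hab σ),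
      Cfsg.Agent.Helper17.OrthOut.relIndex_inn_PG_minus_odd (k + 1) hodd a b hab, hring, if_neg hp]
    congr 2
    rw [hF]
    obtain ⟨t, ht⟩ := hodd
    rw [hF] at ht
    have e1 : (k + 4) * (p ^ f - 1) / 2 = (k + 4) * t := by
      rw [ht, Nat.add_sub_cancel, ← mul_assoc, mul_comm _ 2, mul_assoc, Nat.mul_div_cancel_left _ (by norm_num : 0 < 2)]
    rw [e1, ht]
    by_cases h1 : Even (k + 1 + 2) ∧ (2 * t + 1) % 4 = 3
    · rw [if_pos h1, if_neg]
      obtain ⟨h3, h4⟩ := h1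
      rw [Nat.even_mul, not_or]
      constructor
      · rw [Nat.not_even_iff_odd]
        rw [Nat.even_iff] at h3
        rw [Nat.odd_iff]
        omega
      · rw [Nat.even_iff]
        omega
    · rw [if_neg h1, if_pos]
      rw [Nat.even_mul]
      by_contra hcon
      rw [not_or] at hcon
      apply h1
      obtain ⟨h3, h4⟩ := hcon
      rw [Nat.even_iff] at h3 h4 ⊢
      constructor <;> omega

end Cfsg.Agent.S0818
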