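import Mathlib
import Cfsg.Statements.S0819
import Cfsg.Agent.Lib.Helper13.CommuteSplit

set_option autoImplicit false
open Cfsg

namespace Cfsg.Agent.S0819

open Cfsg.Agent.Helper13.SS Polynomial Module

section field
variable {F : Type*} [Field F] [Fintype F]

theorem cube_eq_one (hF : Fintype.card F = 4) {c : F} (hc : c ≠ 0) : c ^ 3 = 1 := by
  have := FiniteField.pow_card_sub_one_eq_one c hc
  rwa [hF] at this

theorem exists_omega (hF : Fintype.card F = 4) : ∃ ω : F, ω ≠ 0 ∧ ω ≠ 1 ∧ ω ^ 2 + ω + 1 = 0 := by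
  classical
  have h : ∃ ω : F, ω ≠ 0 ∧ ω ≠ 1 := by
    by_contra hcon
    push Not at hcon
    have h1 : Fintype.card F ≤ 2 := by
      calc Fintype.card F = (Finset.univ : Finset F).card := rfl
        _ ≤ ({0, 1} : Finset F).card := Finset.card_le_card (fun x _ => by
            by_cases hx : x = 0
            · simp [hx]
            · simp [hcon x hx])
        _ ≤ 2 := Finset.card_le_two
    omega
  obtain ⟨ω, h0, h1⟩ := h
  refine ⟨ω, h0, h1, ?_⟩
  have h3 := cube_eq_one hF h0
  have h4 : (ω - 1) * (ω ^ 2 + ω + 1) = 0 := by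
    have : (ω - 1) * (ω ^ 2 + ω + 1) = ω ^ 3 - 1 := by ring
    rw [this, h3, sub_self]
  exact (mul_eq_zero.1 h4).resolve_left (sub_ne_zero.2 h1)

omit [Fintype F] in
theorem X_cube_sub_one (ω : F) (hω : ω ^ 2 + ω + 1 = 0) :
    (X ^ 3 - 1 : F[X]) = (X - C 1) * (X - C ω) * (X - C (ω ^ 2)) := by
  have h3 : ω ^ 3 = 1 := by
    have : ω ^ 3 - 1 = (ω - 1) * (ω ^ 2 + ω + 1) := by ring
    rw [hω, mul_zero] at this
    exact sub_eq_zero.1 this
  have e : (X - C 1) * (X - C ω) * (X - C (ω ^ 2)) =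
      X ^ 3 - C (1 + ω + ω ^ 2) * X ^ 2 + C (ω + ω ^ 2 + ω ^ 3) * X - C (ω ^ 3) := by
    simp only [map_add, map_pow, map_one]
    ring
  rw [e]
  have a1 : 1 + ω + ω ^ 2 = 0 := by rw [← hω]; ring
  have a2 : ω + ω ^ 2 + ω ^ 3 = 0 := by rw [h3, ← hω]; ring
  rw [a1, a2, h3]
  simp

end field


section main
variable {F : Type*} [Field F] [Fintype F] {V : Type*} [AddCommGroup V] [Module F V]

omit [Fintype F] in
theorem restrict_pow_apply (g : Module.End F V) (W : Submodule F V) (hW : ∀ x ∈ W, g x ∈ W)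
    (n : ℕ) (v : W) : (((g.restrict hW) ^ n) v : V) = (g ^ n) (v : V) := by
  induction n generalizing v with
  | zero => rfl
  | succ n ih =>
    rw [pow_succ, pow_succ, Module.End.mul_apply, Module.End.mul_apply, ih]
    rfl

variable [FiniteDimensional F V]

set_option maxHeartbeats 1000000 in
theorem key (hF : Fintype.card F = 4) (hV : finrank F V = 3) (Xe : Module.End F V)
    (h45 : Xe ^ 45 = 1) (h9 : Xe ^ 9 ≠ 1) (hdet : LinearMap.det Xe = 1) :
    ∃ c : F, c ^ 3 = 1 ∧ Xe ^ 5 = c • (1 : Module.End F V) := by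
  classical
  obtain ⟨p, hpchar⟩ := CharP.exists F
  haveI : CharP F p := hpchar
  haveI : Fact p.Prime := ⟨CharP.char_is_prime F p⟩
  have hp : p.Prime := Fact.out
  obtain ⟨k, hk, hqk⟩ := exists_card_pow (F := F) (p := p) (q := 4) hF
  have hp2 : p = 2 := by
    have h1 : p ∣ 2 ^ 2 := by
      have : p ∣ 4 := by rw [hqk]; exact dvd_pow_self p (by omega)
      simpa using this
    exact (Nat.prime_dvd_prime_iff_eq hp Nat.prime_two).1 (hp.dvd_of_dvd_pow h1)
  have h5p : (5 : ℕ) ≠ p := by omega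
  have hr5 : Nat.Prime 5 := by norm_num
  have hord : orderOf ((4 : ℕ) : ZMod 5) = 2 := by
    rw [orderOf_eq_iff (by norm_num)]
    refine ⟨by decide, fun m hm hm0 => ?_⟩
    have : m = 1 := by omega
    subst this
    decide
  haveI : Finite V := Module.finite_of_finite F
  obtain ⟨ω, hω0, hω1, hω⟩ := exists_omega hF
  have hω3 : ω ^ 3 = 1 := cube_eq_one hF hω0
  set Y := Xe ^ 9 with hY
  have hY5 : Y ^ 5 = 1 := by rw [hY, ← pow_mul]; exact h45
  have hXY : Xe * Y = Y * Xe := by rw [hY, ← pow_succ', ← pow_succ]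
  set L := LinearMap.ker (aeval Y (X - 1 : F[X])) with hL
  set P := LinearMap.ker (aeval Y (∏ f ∈ cycFactors F 5, f)) with hP
  have hpair := insert_pairwise_coprime (F := F) hr5 h5p
  have hcop : IsCoprime (X - 1 : F[X]) (∏ f ∈ cycFactors F 5, f) := by
    apply IsCoprime.prod_right
    intro f hf
    exact hpair (Finset.mem_insert_self _ _) (Finset.mem_insert_of_mem hf)
      (fun h => X_sub_one_notMem hr5 h5p (h ▸ hf))
  have hkill : aeval Y ((X - 1 : F[X]) * ∏ f ∈ cycFactors F 5, f) = 0 := by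
    have h1 := X_sub_one_mul_prod (F := F) hr5 h5p
    rw [Finset.prod_insert (X_sub_one_notMem hr5 h5p)] at h1
    rw [h1, map_sub, map_pow, aeval_X, map_one, hY5, sub_self]
  have hLP : IsCompl L P := isCompl_ker_aeval Y hcop hkill
  have hdimsum : finrank F L + finrank F P = 3 := by
    rw [Submodule.finrank_add_eq_of_isCompl hLP, hV]
  have hPeven : 2 ∣ finrank F P := by
    have h1 : finrank F P = ∑ f ∈ cycFactors F 5, kdim Y f :=
      kdim_prod Y _ (fun a ha b hb hab =>
        hpair (Finset.mem_insert_of_mem ha) (Finset.mem_insert_of_mem hb) hab)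
    rw [h1]
    apply Finset.dvd_sum
    intro f hf
    have := dvd_kdim Y f (cycFactors_irreducible hf)
    rwa [cycFactors_natDegree hF hr5 h5p hf, hord] at this
  have hPne : finrank F P ≠ 0 := by
    intro h0
    have h1 : finrank F L = finrank F V := by omega
    have hLtop : L = ⊤ := Submodule.eq_top_of_finrank_eq h1
    have h2 : aeval Y (X - 1 : F[X]) = 0 := LinearMap.ker_eq_top.1 hLtop
    rw [map_sub, aeval_X, map_one, sub_eq_zero] at h2
    exact h9 h2
  have hP2 : finrank F P = 2 := by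
    obtain ⟨c, hc⟩ := hPeven
    omega
  have hL1 : finrank F L = 1 := by omega
  have hLinv := commute_ker_invariant Xe Y hXY (X - 1 : F[X])
  have hPinv := commute_ker_invariant Xe Y hXY (∏ f ∈ cycFactors F 5, f)
  -- the line
  obtain ⟨lam, hlam⟩ := exists_smul_of_finrank_one hL1 (Xe.restrict hLinv)
  have hlamV : ∀ v ∈ L, Xe v = lam • v := by
    intro v hv
    have := congrArg Subtype.val (hlam ⟨v, hv⟩)
    exact this
  have hlampow : ∀ n : ℕ, ∀ v ∈ L, (Xe ^ n) v = lam ^ n • v := by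
    intro n
    induction n with
    | zero => intro v _; simp
    | succ n ih =>
      intro v hv
      rw [pow_succ, Module.End.mul_apply, hlamV v hv, map_smul, ih v hv, smul_smul, pow_succ,
        mul_comm]
  obtain ⟨e, he⟩ := Module.finrank_pos_iff_exists_ne_zero.1 (by omega : 0 < finrank F L)
  have hlam0 : lam ≠ 0 := by
    intro h0
    have h1 := hlampow 45 e e.2
    rw [h45, h0, zero_pow (by norm_num), zero_smul] at h1
    exact he (Subtype.ext h1)
  have hlam3 : lam ^ 3 = 1 := cube_eq_one hF hlam0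
  -- the plane
  set YP : Module.End F P := Y.restrict (ker_aeval_invariant Y _) with hYP
  set XP : Module.End F P := Xe.restrict hPinv with hXP
  have hYP5 : YP ^ 5 = 1 := by
    apply LinearMap.ext
    intro v
    apply Subtype.ext
    rw [restrict_pow_apply, hY5]
    rfl
  have hXP45 : XP ^ 45 = 1 := by
    apply LinearMap.ext
    intro v
    apply Subtype.ext
    rw [restrict_pow_apply, h45]
    rfl
  have hPpos : 0 < finrank F P := by omega
  obtain ⟨v₁, hv₁⟩ := Module.finrank_pos_iff_exists_ne_zero.1 hPpos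
  have hYPne : YP ≠ 1 := by
    intro h1
    have h2 : (v₁ : V) ∈ L := by
      rw [hL, LinearMap.mem_ker, map_sub, aeval_X, map_one, LinearMap.sub_apply, sub_eq_zero]
      have := congrArg (fun g => ((g v₁ : P) : V)) h1
      exact this
    have h3 : (v₁ : V) ∈ L ⊓ P := ⟨h2, v₁.2⟩
    rw [hLP.inf_eq_bot] at h3
    exact hv₁ (Subtype.ext ((Submodule.mem_bot F).1 h3))
  obtain ⟨f₀, hf₀mem, hf₀⟩ := exists_factor_of_ppd (F := F) (V := P) (q := 4) hF hr5 h5p
    (hord.trans hP2.symm) YP hYP5 hYPne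
  have hf₀irr := cycFactors_irreducible hf₀mem
  have hf₀deg : f₀.natDegree = finrank F P := by
    rw [cycFactors_natDegree hF hr5 h5p hf₀mem, hord, hP2]
  have hXYP : XP * YP = YP * XP := by
    apply LinearMap.ext
    intro v
    apply Subtype.ext
    show Xe (Y v) = Y (Xe v)
    rw [← Module.End.mul_apply, hXY, Module.End.mul_apply]
  -- units
  let YPu : (Module.End F P)ˣ := ⟨YP, YP ^ 4, by rw [← pow_succ', hYP5], by rw [← pow_succ, hYP5]⟩
  let XPu : (Module.End F P)ˣ :=
    ⟨XP, XP ^ 44, by rw [← pow_succ', hXP45], by rw [← pow_succ, hXP45]⟩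
  let ωu : (Module.End F P)ˣ :=
    Units.map ((algebraMap F (Module.End F P)) : F →* Module.End F P) (Units.mk0 ω hω0)
  have hωu : (ωu : Module.End F P) = ω • 1 := by
    show algebraMap F (Module.End F P) ω = ω • 1
    rw [Algebra.algebraMap_eq_smul_one]
  set Cx := Subgroup.centralizer ({YPu} : Set (Module.End F P)ˣ) with hCx
  have hbound : Nat.card Cx ≤ 15 := by
    have h1 := card_centralizer_le f₀ hf₀irr hf₀deg YPu hf₀
    haveI : Fintype P := Fintype.ofFinite P
    have h2 : Nat.card P = 16 := by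
      rw [Nat.card_eq_fintype_card, Module.card_eq_pow_finrank (K := F) (V := P), hF, hP2]
      norm_num
    rw [h2] at h1
    exact h1
  have hXmem : XPu ∈ Cx := by
    rw [hCx, Subgroup.mem_centralizer_iff]
    intro y hy
    rw [Set.mem_singleton_iff] at hy
    subst hy
    apply Units.ext
    exact hXYP.symm
  have hYmem : YPu ∈ Cx := by
    rw [hCx, Subgroup.mem_centralizer_iff]
    intro y hy
    rw [Set.mem_singleton_iff] at hy
    subst hy
    rfl
  have hωmem : ωu ∈ Cx := by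
    rw [hCx, Subgroup.mem_centralizer_iff]
    intro y hy
    rw [Set.mem_singleton_iff] at hy
    subst hy
    apply Units.ext
    rw [Units.val_mul, Units.val_mul, hωu]
    rw [mul_smul_comm, smul_mul_assoc, mul_one, one_mul]
  haveI : Finite (Module.End F P) :=
    Finite.of_injective (fun f => (f : P → P)) DFunLike.coe_injective
  have hYord : orderOf (⟨YPu, hYmem⟩ : Cx) = 5 := by
    haveI : Fact (Nat.Prime 5) := ⟨hr5⟩
    apply orderOf_eq_prime
    · apply Subtype.ext
      apply Units.ext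
      exact hYP5
    · intro h1
      apply hYPne
      have := congrArg (fun z : Cx => ((z : (Module.End F P)ˣ) : Module.End F P)) h1
      exact this
  have hωord : orderOf (⟨ωu, hωmem⟩ : Cx) = 3 := by
    haveI : Fact (Nat.Prime 3) := ⟨by norm_num⟩
    apply orderOf_eq_prime
    · apply Subtype.ext
      apply Units.ext
      show (ωu : Module.End F P) ^ 3 = 1
      rw [hωu, _root_.smul_pow, one_pow, hω3, one_smul]
    · intro h1
      have h2 := congrArg (fun z : Cx => ((z : (Module.End F P)ˣ) : Module.End F P)) h1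
      have h3 : ω • (1 : Module.End F P) = 1 := by
        rw [← hωu]
        exact h2
      have h4 := congrArg (fun g => g v₁) h3
      simp only [LinearMap.smul_apply, Module.End.one_apply] at h4
      have h5 : (ω - 1) • v₁ = 0 := by rw [sub_smul, h4, one_smul, sub_self]
      rcases smul_eq_zero.1 h5 with h6 | h6
      · exact hω1 (sub_eq_zero.1 h6)
      · exact hv₁ h6
  have hcard15 : Nat.card Cx = 15 := by
    have d5 : 5 ∣ Nat.card Cx := hYord ▸ orderOf_dvd_natCard _
    have d3 : 3 ∣ Nat.card Cx := hωord ▸ orderOf_dvd_natCard _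
    have d15 : 15 ∣ Nat.card Cx :=
      Nat.Coprime.mul_dvd_of_dvd_of_dvd (by norm_num : Nat.Coprime 3 5) d3 d5
    have hpos : 0 < Nat.card Cx := Nat.card_pos
    obtain ⟨c, hc⟩ := d15
    omega
  have hXP15 : XP ^ 15 = 1 := by
    have h1 : (⟨XPu, hXmem⟩ : Cx) ^ Nat.card Cx = 1 := pow_card_eq_one'
    rw [hcard15] at h1
    have := congrArg (fun z : Cx => ((z : (Module.End F P)ˣ) : Module.End F P)) h1
    exact this
  -- s = XP ^ 5 is a scalar
  set s := XP ^ 5 with hs
  have hs3 : s ^ 3 = 1 := by rw [hs, ← pow_mul]; exact hXP15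
  have hsY : s * YP = YP * s := by
    rw [hs]
    exact (Commute.pow_left (show Commute XP YP from hXYP) 5).eq
  have hfac : (s - 1) * (s - ω • 1) * (s - ω ^ 2 • 1) = 0 := by
    have h1 := congrArg (aeval s) (X_cube_sub_one ω hω)
    rw [map_sub, map_pow, aeval_X, map_one, hs3, sub_self] at h1
    rw [map_mul, map_mul, map_sub, map_sub, map_sub, aeval_X, aeval_C, aeval_C, aeval_C, map_one,
      Algebra.algebraMap_eq_smul_one, Algebra.algebraMap_eq_smul_one] at h1
    exact h1.symm
  have hcomm : ∀ c : F, (s - c • 1) * YP = YP * (s - c • 1) := by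
    intro c
    rw [sub_mul, mul_sub, hsY, smul_mul_assoc, one_mul, mul_smul_comm, mul_one]
  have hsub1 : (s - 1) * YP = YP * (s - 1) := by
    have := hcomm 1
    rwa [one_smul] at this
  obtain ⟨mu, hmu3, hsmu⟩ : ∃ mu : F, mu ^ 3 = 1 ∧ s = mu • 1 := by
    rcases eq_zero_of_mul_mul_eq_zero f₀ hf₀irr hf₀deg YP hf₀ _ _ _ hsub1 (hcomm ω)
      (hcomm (ω ^ 2)) hfac with h | h | h
    · exact ⟨1, one_pow 3, by rw [one_smul]; exact sub_eq_zero.1 h⟩
    · exact ⟨ω, hω3, sub_eq_zero.1 h⟩
    · exact ⟨ω ^ 2, by rw [← pow_mul, mul_comm, pow_mul, hω3, one_pow], sub_eq_zero.1 h⟩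
  -- a = Xe ^ 5
  have haL : ∀ v ∈ L, (Xe ^ 5) v = lam ^ 5 • v := hlampow 5
  have haP : ∀ v ∈ P, (Xe ^ 5) v = mu • v := by
    intro v hv
    have h1 := restrict_pow_apply Xe P hPinv 5 ⟨v, hv⟩
    rw [← h1]
    have h2 : (XP ^ 5) ⟨v, hv⟩ = mu • (⟨v, hv⟩ : P) := by
      rw [← hs, hsmu]
      rfl
    rw [← hXP, h2]
    rfl
  have hdet5 : LinearMap.det (Xe ^ 5) = 1 := by rw [map_pow, hdet, one_pow]
  rw [det_of_scalars hLP (Xe ^ 5) (lam ^ 5) mu haL haP, hL1, hP2, pow_one] at hdet5
  have hlam5 : lam ^ 5 = lam ^ 2 := by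
    have : lam ^ 5 = lam ^ 3 * lam ^ 2 := by ring
    rw [this, hlam3, one_mul]
  have hprod : lam * mu = 1 := by
    have h1 : (lam * mu) ^ 2 = 1 := by rw [mul_pow, ← hlam5]; exact hdet5
    have h2 : (lam * mu) ^ 3 = 1 := by rw [mul_pow, hlam3, hmu3, one_mul]
    have h3 : (lam * mu) ^ 3 = (lam * mu) ^ 2 * (lam * mu) := by ring
    rw [h3, h1, one_mul] at h2
    exact h2
  have hmulam : mu = lam ^ 5 := by
    rw [hlam5]
    have : lam ^ 2 = lam ^ 2 * (lam * mu) := by rw [hprod, mul_one]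
    rw [this]
    have : lam ^ 2 * (lam * mu) = lam ^ 3 * mu := by ring
    rw [this, hlam3, one_mul]
  refine ⟨mu, hmu3, ?_⟩
  apply LinearMap.ext
  intro v
  obtain ⟨⟨l, pp⟩, rfl⟩ := (Submodule.prodEquivOfIsCompl L P hLP).surjective v
  rw [Submodule.coe_prodEquivOfIsCompl', map_add, haL l l.2, haP pp pp.2, ← hmulam,
    LinearMap.smul_apply, Module.End.one_apply, smul_add]

end main


theorem result {F : Type*} [Field F] [Fintype F] (hF : Fintype.card F = 4) (g : Matrix.ProjectiveSpecialLinearGroup (Fin 3) F) : orderOf g ≠ 15 := by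
  intro h15
  obtain ⟨x, rfl⟩ := QuotientGroup.mk_surjective g
  have hpow : ∀ k : ℕ, (QuotientGroup.mk x : Matrix.ProjectiveSpecialLinearGroup (Fin 3) F) ^ k = 1 ↔
      x ^ k ∈ Subgroup.center (Matrix.SpecialLinearGroup (Fin 3) F) := by
    intro k
    rw [← QuotientGroup.mk_pow, QuotientGroup.eq_one_iff]
  have hx15 : x ^ 15 ∈ Subgroup.center (Matrix.SpecialLinearGroup (Fin 3) F) := by
    rw [← hpow, ← h15]
    exact pow_orderOf_eq_one _
  obtain ⟨c, hc, hcx⟩ := Matrix.SpecialLinearGroup.mem_center_iff.1 hx15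
  rw [Fintype.card_fin] at hc
  set M : Matrix (Fin 3) (Fin 3) F := (x : Matrix (Fin 3) (Fin 3) F) with hM
  have hM15 : M ^ 15 = Matrix.scalar (Fin 3) c := by
    rw [hcx, hM, Matrix.SpecialLinearGroup.coe_pow]
  have hM45 : M ^ 45 = 1 := by
    have h1 : M ^ 45 = (M ^ 15) ^ 3 := by rw [← pow_mul]
    rw [h1, hM15, ← map_pow, hc, map_one]
  set Xe : Module.End F (Fin 3 → F) := Matrix.toLinAlgEquiv' M with hXe
  have hXpow : ∀ k : ℕ, Xe ^ k = Matrix.toLinAlgEquiv' (M ^ k) := fun k => (map_pow _ M k).symm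
  have h45 : Xe ^ 45 = 1 := by rw [hXpow, hM45, map_one]
  have h9 : Xe ^ 9 ≠ 1 := by
    intro h
    rw [hXpow] at h
    have h1 : M ^ 9 = 1 := by
      apply (Matrix.toLinAlgEquiv' (R := F) (n := Fin 3)).injective
      rw [h, map_one]
    have h2 : x ^ 9 = 1 := by
      apply Subtype.ext
      rw [Matrix.SpecialLinearGroup.coe_pow]
      exact h1
    have h3 : (QuotientGroup.mk x : Matrix.ProjectiveSpecialLinearGroup (Fin 3) F) ^ 9 = 1 := by
      rw [← QuotientGroup.mk_pow, h2]
      rfl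
    have h4 := orderOf_dvd_of_pow_eq_one h3
    rw [h15] at h4
    omega
  have hdet : LinearMap.det Xe = 1 := by
    have h1 : Xe = Matrix.toLin' M := rfl
    rw [h1, LinearMap.det_toLin']
    exact x.2
  obtain ⟨c', hc', hX5⟩ := key hF (by rw [Module.finrank_fin_fun]) Xe h45 h9 hdet
  have hM5 : M ^ 5 = Matrix.scalar (Fin 3) c' := by
    apply (Matrix.toLinAlgEquiv' (R := F) (n := Fin 3)).injective
    rw [← hXpow, hX5]
    have h1 : Matrix.scalar (Fin 3) c' = c' • (1 : Matrix (Fin 3) (Fin 3) F) := by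
      ext i j
      simp [Matrix.one_apply, Matrix.diagonal_apply]
    rw [h1, map_smul, map_one]
  have hx5 : x ^ 5 ∈ Subgroup.center (Matrix.SpecialLinearGroup (Fin 3) F) := by
    rw [Matrix.SpecialLinearGroup.mem_center_iff]
    refine ⟨c', by rw [Fintype.card_fin]; exact hc', ?_⟩
    rw [Matrix.SpecialLinearGroup.coe_pow, ← hM, hM5]
  have h5 := orderOf_dvd_of_pow_eq_one ((hpow 5).2 hx5)
  rw [h15] at h5
  omega

end Cfsg.Agent.S0819
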