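import Mathlib
import Cfsg.Statements.S2579
import Cfsg.Agent.Lib.Helper13.Transv

set_option autoImplicit false
open Cfsg

namespace Cfsg.Agent.S2579

open Module LinearMap Matrix Cfsg.Agent.Helper13

theorem data_of_isTransvection {F : Type*} [Field F] {n : ℕ} (M : Matrix (Fin n) (Fin n) F)
    (h : Cfsg.IsTransvection M) :
    finrank F (range (Matrix.toLin' (M - 1))) = 1 ∧
      (Matrix.toLin' (M - 1) : Module.End F (Fin n → F)) * Matrix.toLin' (M - 1) = 0 := by
  obtain ⟨h1, h2⟩ := h
  constructor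
  · rw [← h1, Matrix.rank, Matrix.toLin'_apply']
  · rw [Module.End.mul_eq_comp, ← Matrix.toLin'_mul, h2, map_zero]

theorem result {F : Type*} [Field F] [Finite F] {n : ℕ} (hn : 3 ≤ n) (s t : Matrix.SpecialLinearGroup (Fin n) F) (hs : Cfsg.IsTransvection (s : Matrix (Fin n) (Fin n) F)) (ht : Cfsg.IsTransvection (t : Matrix (Fin n) (Fin n) F)) : IsConj s t := by
  obtain ⟨hs1, hs2⟩ := data_of_isTransvection _ hs
  obtain ⟨ht1, ht2⟩ := data_of_isTransvection _ ht
  have hdim : 3 ≤ finrank F (Fin n → F) := by rw [Module.finrank_fin_fun]; exact hn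
  obtain ⟨h, hdet, hcomm⟩ := exists_det_one_intertwiner hdim _ _ hs1 hs2 ht1 ht2
  have hHdet : (LinearMap.toMatrix' h).det = 1 := by rw [LinearMap.det_toMatrix', hdet]
  have hmat : LinearMap.toMatrix' h * ((s : Matrix (Fin n) (Fin n) F) - 1) =
      ((t : Matrix (Fin n) (Fin n) F) - 1) * LinearMap.toMatrix' h := by
    have := congrArg LinearMap.toMatrix' hcomm
    rw [LinearMap.toMatrix'_comp, LinearMap.toMatrix'_comp, LinearMap.toMatrix'_toLin',
      LinearMap.toMatrix'_toLin'] at this
    exact this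
  have hmat2 : LinearMap.toMatrix' h * (s : Matrix (Fin n) (Fin n) F) =
      (t : Matrix (Fin n) (Fin n) F) * LinearMap.toMatrix' h := by
    rw [mul_sub, sub_mul, mul_one, one_mul] at hmat
    exact sub_left_injective hmat
  rw [isConj_iff]
  set H : Matrix.SpecialLinearGroup (Fin n) F := ⟨LinearMap.toMatrix' h, hHdet⟩ with hH
  have hHs : H * s = t * H := by
    apply Subtype.ext
    exact hmat2
  refine ⟨H, ?_⟩
  rw [hHs, mul_inv_cancel_right]

end Cfsg.Agent.S2579
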