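import Mathlib
import Cfsg.Statements.S0820
import Cfsg.Agent.S2579
import Cfsg.Agent.Lib.Helper11.RankOne

set_option autoImplicit false
open Cfsg

namespace Cfsg.Agent.S0820

open Matrix Cfsg.Agent.Helper11.Herm

/-- an involution of `SL_3` in characteristic two is a transvection -/
theorem isTransvection_of_involution {F : Type*} [Field F] (h2 : (2 : F) = 0)
    (g : Matrix.SpecialLinearGroup (Fin 3) F) (hgg : g * g = 1) (hg1 : g ≠ 1) :
    Cfsg.IsTransvection (g : Matrix (Fin 3) (Fin 3) F) := by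
  have hMM : (g : Matrix (Fin 3) (Fin 3) F) * (g : Matrix (Fin 3) (Fin 3) F) = 1 := by
    have := congrArg (fun x : Matrix.SpecialLinearGroup (Fin 3) F =>
      (x : Matrix (Fin 3) (Fin 3) F)) hgg
    simpa using this
  have hsq : ((g : Matrix (Fin 3) (Fin 3) F) - 1) * ((g : Matrix (Fin 3) (Fin 3) F) - 1) = 0 := by
    rw [Matrix.sub_mul, Matrix.mul_sub, Matrix.mul_sub, hMM, Matrix.mul_one, Matrix.one_mul,
      Matrix.mul_one]
    have : (1 : Matrix (Fin 3) (Fin 3) F) - (g : Matrix (Fin 3) (Fin 3) F) -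
        ((g : Matrix (Fin 3) (Fin 3) F) - 1) =
        (2 : F) • (1 - (g : Matrix (Fin 3) (Fin 3) F)) := by
      rw [two_smul]
      abel
    rw [this, h2, zero_smul]
  refine ⟨?_, hsq⟩
  have hle := Matrix.rank_add_rank_le_card_of_mul_eq_zero hsq
  rw [Fintype.card_fin] at hle
  have hne : ((g : Matrix (Fin 3) (Fin 3) F) - 1).rank ≠ 0 := by
    intro h0
    apply hg1
    apply Subtype.ext
    have := eq_zero_of_rank_eq_zero _ h0
    exact sub_eq_zero.1 this
  omega

/-- lifting an involution of `PSL_3` to an involution of `SL_3` -/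
theorem exists_lift_involution {F : Type*} [Field F]
    (x : Matrix.ProjectiveSpecialLinearGroup (Fin 3) F) (hx : orderOf x = 2) :
    ∃ g : Matrix.SpecialLinearGroup (Fin 3) F, g * g = 1 ∧ g ≠ 1 ∧
      (QuotientGroup.mk g : Matrix.ProjectiveSpecialLinearGroup (Fin 3) F) = x := by
  obtain ⟨h, rfl⟩ := QuotientGroup.mk_surjective x
  have hxx : (QuotientGroup.mk h : Matrix.ProjectiveSpecialLinearGroup (Fin 3) F) ^ 2 = 1 := by
    rw [← hx]
    exact pow_orderOf_eq_one _
  have hz : h ^ 2 ∈ Subgroup.center (Matrix.SpecialLinearGroup (Fin 3) F) := by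
    rw [← QuotientGroup.eq_one_iff, QuotientGroup.mk_pow]
    exact hxx
  have hz3 : (h ^ 2) ^ 3 = 1 := by
    obtain ⟨r, hr, hrz⟩ := Matrix.SpecialLinearGroup.mem_center_iff.1 hz
    rw [Fintype.card_fin] at hr
    apply Subtype.ext
    rw [Matrix.SpecialLinearGroup.coe_pow, ← hrz]
    rw [← map_pow, hr, map_one]
    rfl
  refine ⟨h ^ 3, ?_, ?_, ?_⟩
  · rw [← pow_add, ← hz3, ← pow_mul]
  · intro h1
    have h3 : (QuotientGroup.mk h : Matrix.ProjectiveSpecialLinearGroup (Fin 3) F) ^ 3 = 1 := by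
      rw [← QuotientGroup.mk_pow, h1]
      rfl
    have h4 : (QuotientGroup.mk h : Matrix.ProjectiveSpecialLinearGroup (Fin 3) F) = 1 := by
      have : (QuotientGroup.mk h : Matrix.ProjectiveSpecialLinearGroup (Fin 3) F) ^ 3 =
          (QuotientGroup.mk h : Matrix.ProjectiveSpecialLinearGroup (Fin 3) F) ^ 2 *
          (QuotientGroup.mk h : Matrix.ProjectiveSpecialLinearGroup (Fin 3) F) := pow_succ _ 2
      rw [this, hxx, one_mul] at h3
      exact h3
    rw [h4, orderOf_one] at hx
    omega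
  · rw [QuotientGroup.mk_pow, pow_succ, hxx, one_mul]

/-- All involutions of PSL_3(4) are conjugate. -/
theorem result {F : Type*} [Field F] [Fintype F] (hF : Fintype.card F = 4) (x y : Matrix.ProjectiveSpecialLinearGroup (Fin 3) F) (hx : orderOf x = 2) (hy : orderOf y = 2) : IsConj x y := by
  have h2 : (2 : F) = 0 := by
    have h4 : ((4 : ℕ) : F) = 0 := by
      rw [← hF]
      exact Nat.cast_card_eq_zero F
    have h5 : (2 : F) * 2 = 0 := by
      push_cast at h4
      linear_combination h4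
    rcases mul_eq_zero.1 h5 with h | h <;> exact h
  obtain ⟨g, hgg, hg1, rfl⟩ := exists_lift_involution x hx
  obtain ⟨h, hhh, hh1, rfl⟩ := exists_lift_involution y hy
  have hconj := Cfsg.Agent.S2579.result (le_refl 3) g h
    (isTransvection_of_involution h2 g hgg hg1) (isTransvection_of_involution h2 h hhh hh1)
  exact MonoidHom.map_isConj
    (QuotientGroup.mk' (Subgroup.center (Matrix.SpecialLinearGroup (Fin 3) F))) hconj

end Cfsg.Agent.S0820
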