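import Mathlib
import Cfsg.Statements.S0821
import Cfsg.Agent.Lib.Helper17.SympTwoApp
import Cfsg.Agent.Lib.Helper17.OmegaOddEA

set_option autoImplicit false
open Cfsg

namespace Cfsg.Agent.S0821

/-- PSp_2m(q) ≇ PΩ_(2m+1)(q) for q odd and m ≥ 3 (they have the same order). -/
theorem result {F : Type*} [Field F] [Fintype F] (hodd : Odd (Fintype.card F)) (m : ℕ) (hm : 3 ≤ m) : IsEmpty (Cfsg.PSp m F ≃* Cfsg.POmega F (Cfsg.quadFormOdd m F)) := by
  refine ⟨fun e => ?_⟩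
  have h2 : (2 : F) ≠ 0 := Cfsg.Agent.Helper17.SympTwo.two_ne_zero_of_odd hodd
  obtain ⟨A, hAc, hAe, hAcard⟩ :=
    Cfsg.Agent.Helper17.OrthDiag.pRankAtLeast_POmega_odd h2 m (by omega)
  apply Cfsg.Agent.Helper17.SympTwo.not_pRankAtLeast_PSp hodd m hm
  refine ⟨A.map e.symm.toMonoidHom, Subgroup.map_isMulCommutative _ _, ?_, ?_⟩
  · rintro _ ⟨a, ha, rfl⟩
    rw [← map_pow, hAe a ha, map_one]
  · rw [Subgroup.card_map_of_injective (f := e.symm.toMonoidHom) e.symm.injective]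
    exact hAcard

end Cfsg.Agent.S0821
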