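import Mathlib
import Cfsg.Statements.S0823

set_option autoImplicit false
set_option linter.style.haveILetI false
open Cfsg

namespace Cfsg.Agent.S0823

open Matrix

abbrev I3 := Unit ⊕ (Fin 1 ⊕ Fin 1)

/-- basis vectors of the sum-zero space `W` inside `(ZMod 3)^4` -/
def wvec : I3 → Fin 4 → ZMod 3
  | .inl () => ![0, 1, 2, 0]
  | .inr (.inl _) => ![1, 1, 1, 0]
  | .inr (.inr _) => ![0, 2, 2, 2]

/-- coordinates of a vector of `W` -/
def coord (x : Fin 4 → ZMod 3) : I3 → ZMod 3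
  | .inl () => x 1 - x 0 - x 3
  | .inr (.inl _) => x 0
  | .inr (.inr _) => 2 * x 3

def sgn (σ : Equiv.Perm (Fin 4)) : ZMod 3 := if Equiv.Perm.sign σ = 1 then 1 else -1

/-- The matrix of `sign σ • σ` on `W`. -/
def M3 (σ : Equiv.Perm (Fin 4)) : Matrix I3 I3 (ZMod 3) :=
  Matrix.of fun r j => sgn σ * coord (fun i => wvec j (σ.symm i)) r

set_option maxRecDepth 1000000 in
theorem M3_one : M3 1 = 1 := by decide +kernel

set_option maxRecDepth 1000000 in
theorem M3_mul : ∀ σ τ : Equiv.Perm (Fin 4), M3 (σ * τ) = M3 σ * M3 τ := by decide +kernel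

set_option maxRecDepth 1000000 in
theorem M3_isom : ∀ σ : Equiv.Perm (Fin 4), ∀ u : I3 → ZMod 3,
    quadFormOdd 1 (ZMod 3) (M3 σ *ᵥ u) = quadFormOdd 1 (ZMod 3) u := by decide +kernel

set_option maxRecDepth 1000000 in
theorem M3_inj : ∀ σ : Equiv.Perm (Fin 4), M3 σ = 1 → σ = 1 := by decide +kernel

def mk9 (a b c d e f g h i : ZMod 3) : Matrix I3 I3 (ZMod 3) :=
  Matrix.of fun r s => match r, s with
    | .inl (), .inl () => a
    | .inl (), .inr (.inl _) => b
    | .inl (), .inr (.inr _) => c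
    | .inr (.inl _), .inl () => d
    | .inr (.inl _), .inr (.inl _) => e
    | .inr (.inl _), .inr (.inr _) => f
    | .inr (.inr _), .inl () => g
    | .inr (.inr _), .inr (.inl _) => h
    | .inr (.inr _), .inr (.inr _) => i

/-- `Q(x,y,z) = x^2 + y z` on entries -/
def q3 (x y z : ZMod 3) : ZMod 3 := x ^ 2 + y * z

def det9 (a b c d e f g h i : ZMod 3) : ZMod 3 :=
  a * (e * i - f * h) - b * (d * i - f * g) + c * (d * h - e * g)

set_option synthInstance.maxSize 4000 in
set_option synthInstance.maxHeartbeats 400000 in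
set_option maxRecDepth 1000000 in
theorem M3_surj : ∀ a d g : ZMod 3, q3 a d g = 1 →
    ∀ b e h : ZMod 3, q3 b e h = 0 → q3 (a + b) (d + e) (g + h) = 1 →
    ∀ c f i : ZMod 3, q3 c f i = 0 → q3 (a + c) (d + f) (g + i) = 1 →
      q3 (b + c) (e + f) (h + i) = 1 →
      det9 a b c d e f g h i = 1 →
      ∃ σ : Equiv.Perm (Fin 4), M3 σ = mk9 a b c d e f g h i := by decide +kernel

/-! ### Index bookkeeping -/

abbrev i0 : I3 := .inl ()
abbrev i1 : I3 := .inr (.inl 0)
abbrev i2 : I3 := .inr (.inr 0)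

theorem I3_cases (P : I3 → Prop) (h0 : P i0) (h1 : P i1) (h2 : P i2) : ∀ r, P r := by
  intro r
  rcases r with ⟨⟩ | r | r
  · exact h0
  · have : r = 0 := Subsingleton.elim _ _
    subst this; exact h1
  · have : r = 0 := Subsingleton.elim _ _
    subst this; exact h2

theorem eq_mk9 (A : Matrix I3 I3 (ZMod 3)) :
    A = mk9 (A i0 i0) (A i0 i1) (A i0 i2) (A i1 i0) (A i1 i1) (A i1 i2) (A i2 i0) (A i2 i1)
      (A i2 i2) := by
  ext r s
  revert s
  revert r
  refine I3_cases _ ?_ ?_ ?_ <;> refine I3_cases _ ?_ ?_ ?_ <;> rfl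

/-- explicit reindexing -/
def eI : I3 ≃ Fin 3 where
  toFun
    | .inl () => 0
    | .inr (.inl _) => 1
    | .inr (.inr _) => 2
  invFun := ![i0, i1, i2]
  left_inv := by
    refine I3_cases _ ?_ ?_ ?_ <;> rfl
  right_inv := by
    intro j; fin_cases j <;> rfl

theorem det_eq {R : Type*} [CommRing R] (A : Matrix I3 I3 R) :
    A.det = A i0 i0 * (A i1 i1 * A i2 i2 - A i1 i2 * A i2 i1)
      - A i0 i1 * (A i1 i0 * A i2 i2 - A i1 i2 * A i2 i0)
      + A i0 i2 * (A i1 i0 * A i2 i1 - A i1 i1 * A i2 i0) := by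
  rw [← Matrix.det_reindex_self eI A, Matrix.det_fin_three]
  simp only [Matrix.reindex_apply, Matrix.submatrix_apply]
  have e0 : eI.symm 0 = i0 := rfl
  have e1 : eI.symm 1 = i1 := rfl
  have e2 : eI.symm 2 = i2 := rfl
  rw [e0, e1, e2]
  ring

theorem mulVec_eq {R : Type*} [CommRing R] (A : Matrix I3 I3 R) (u : I3 → R) (r : I3) :
    (A *ᵥ u) r = A r i0 * u i0 + A r i1 * u i1 + A r i2 * u i2 := by
  simp [Matrix.mulVec, dotProduct, Fintype.sum_sum_type, add_assoc]

theorem quad_eq {R : Type*} [Field R] (v : I3 → R) :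
    quadFormOdd 1 R v = v i0 ^ 2 + v i1 * v i2 := by
  simp [quadFormOdd]

set_option maxRecDepth 1000000 in
theorem M3_det : ∀ σ : Equiv.Perm (Fin 4),
    det9 (M3 σ i0 i0) (M3 σ i0 i1) (M3 σ i0 i2) (M3 σ i1 i0) (M3 σ i1 i1) (M3 σ i1 i2)
      (M3 σ i2 i0) (M3 σ i2 i1) (M3 σ i2 i2) = 1 := by decide +kernel

theorem M3_det' (σ : Equiv.Perm (Fin 4)) : (M3 σ).det = 1 := by
  rw [det_eq]
  exact M3_det σ

/-- the matrices as a monoid hom -/
def M3hom : Equiv.Perm (Fin 4) →* Matrix I3 I3 (ZMod 3) where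
  toFun := M3
  map_one' := M3_one
  map_mul' := M3_mul

/-! ### Transport to an arbitrary field with three elements -/

section Transport

variable {F : Type*} [Field F] (e : ZMod 3 ≃+* F)

theorem quad_map (w : I3 → ZMod 3) :
    quadFormOdd 1 F (fun r => e (w r)) = e (quadFormOdd 1 (ZMod 3) w) := by
  rw [quad_eq, quad_eq]
  simp

theorem quad_map_symm (w : I3 → F) :
    quadFormOdd 1 (ZMod 3) (fun r => e.symm (w r)) = e.symm (quadFormOdd 1 F w) := by
  rw [quad_eq, quad_eq]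
  simp

theorem mulVec_map (A : Matrix I3 I3 (ZMod 3)) (w : I3 → ZMod 3) :
    (A.map e) *ᵥ (fun r => e (w r)) = fun r => e ((A *ᵥ w) r) := by
  funext r
  rw [mulVec_eq, mulVec_eq]
  simp

theorem mulVec_map_symm (A : Matrix I3 I3 F) (w : I3 → F) :
    (A.map e.symm) *ᵥ (fun r => e.symm (w r)) = fun r => e.symm ((A *ᵥ w) r) := by
  funext r
  rw [mulVec_eq, mulVec_eq]
  simp

/-- the hom into matrices over `F` -/
def MF : Equiv.Perm (Fin 4) →* Matrix I3 I3 F :=
  (e.toRingHom.mapMatrix : Matrix I3 I3 (ZMod 3) →+* Matrix I3 I3 F).toMonoidHom.comp M3hom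

theorem MF_apply (σ : Equiv.Perm (Fin 4)) : MF e σ = (M3 σ).map e := rfl

theorem MF_isom (σ : Equiv.Perm (Fin 4)) (u : I3 → F) :
    quadFormOdd 1 F (MF e σ *ᵥ u) = quadFormOdd 1 F u := by
  have hu : u = fun r => e (e.symm (u r)) := by funext r; simp
  rw [hu, MF_apply, mulVec_map, quad_map, quad_map, M3_isom]

theorem MF_det (σ : Equiv.Perm (Fin 4)) : (MF e σ).det = 1 := by
  rw [MF_apply]
  have := RingHom.map_det e.toRingHom (M3 σ)
  rw [M3_det', map_one] at this
  exact this.symm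

/-- the hom into `GL` -/
noncomputable def GLhom : Equiv.Perm (Fin 4) →* Matrix.GeneralLinearGroup I3 F :=
  (MF e).toHomUnits

theorem GLhom_coe (σ : Equiv.Perm (Fin 4)) :
    ((GLhom e σ : Matrix.GeneralLinearGroup I3 F) : Matrix I3 I3 F) = MF e σ := rfl

theorem GLhom_mem (σ : Equiv.Perm (Fin 4)) :
    GLhom e σ ∈ isometryGroup F (quadFormOdd 1 F) := by
  intro u v
  exact MF_isom e σ u

noncomputable def Ohom : Equiv.Perm (Fin 4) →* isometryGroup F (quadFormOdd 1 F) :=
  (GLhom e).codRestrict _ (GLhom_mem e)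

theorem Ohom_mem (σ : Equiv.Perm (Fin 4)) :
    Ohom e σ ∈ specialIsometryGroup F (quadFormOdd 1 F) := by
  rw [specialIsometryGroup, MonoidHom.mem_ker]
  apply Units.ext
  show ((GLhom e σ : Matrix.GeneralLinearGroup I3 F) : Matrix I3 I3 F).det = 1
  rw [GLhom_coe, MF_det]

noncomputable def SOhom :
    Equiv.Perm (Fin 4) →* specialIsometryGroup F (quadFormOdd 1 F) :=
  (Ohom e).codRestrict _ (Ohom_mem e)

theorem SOhom_coe (σ : Equiv.Perm (Fin 4)) :
    (((SOhom e σ : specialIsometryGroup F (quadFormOdd 1 F)) :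
      isometryGroup F (quadFormOdd 1 F)) : Matrix.GeneralLinearGroup I3 F).1 = (M3 σ).map e := rfl

theorem SOhom_injective : Function.Injective (SOhom e) := by
  rw [injective_iff_map_eq_one]
  intro σ hσ
  apply M3_inj
  have h := SOhom_coe e σ
  rw [hσ] at h
  have h1 : (M3 σ).map e = 1 := by
    rw [← h]; rfl
  ext r s
  have := congrFun (congrFun h1 r) s
  rw [Matrix.map_apply] at this
  apply e.injective
  rw [this]
  by_cases hrs : r = s
  · subst hrs; simp
  · simp [Matrix.one_apply_ne hrs]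

theorem SOhom_surjective : Function.Surjective (SOhom e) := by
  intro x
  set A : Matrix I3 I3 F := ((x : isometryGroup F (quadFormOdd 1 F)) :
    Matrix.GeneralLinearGroup I3 F).1 with hA
  have hiso : ∀ u : I3 → F, quadFormOdd 1 F (A *ᵥ u) = quadFormOdd 1 F u := by
    intro u
    exact (x : isometryGroup F (quadFormOdd 1 F)).2 u u
  have hdet : A.det = 1 := by
    have h2 : (Matrix.GeneralLinearGroup.det.comp (isometryGroup F (quadFormOdd 1 F)).subtype)
        (x : isometryGroup F (quadFormOdd 1 F)) = 1 := x.2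
    exact congrArg Units.val h2
  set A0 : Matrix I3 I3 (ZMod 3) := A.map e.symm with hA0
  have hiso0 : ∀ w : I3 → ZMod 3,
      quadFormOdd 1 (ZMod 3) (A0 *ᵥ w) = quadFormOdd 1 (ZMod 3) w := by
    intro w
    have hw : w = fun r => e.symm (e (w r)) := by funext r; simp
    rw [hw, hA0, mulVec_map_symm, quad_map_symm, quad_map_symm, hiso]
  have hdet0 : A0.det = 1 := by
    have := RingHom.map_det e.symm.toRingHom A
    rw [hdet, map_one] at this
    exact this.symm
  -- entries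
  have hq : ∀ x0 x1 x2 : ZMod 3,
      q3 (A0 i0 i0 * x0 + A0 i0 i1 * x1 + A0 i0 i2 * x2)
        (A0 i1 i0 * x0 + A0 i1 i1 * x1 + A0 i1 i2 * x2)
        (A0 i2 i0 * x0 + A0 i2 i1 * x1 + A0 i2 i2 * x2) = q3 x0 x1 x2 := by
    intro x0 x1 x2
    let w : I3 → ZMod 3 := fun r => Sum.elim (fun _ => x0) (Sum.elim (fun _ => x1) (fun _ => x2)) r
    have := hiso0 w
    rw [quad_eq, quad_eq, mulVec_eq, mulVec_eq, mulVec_eq] at this
    exact this
  have c0 := hq 1 0 0
  have c1 := hq 0 1 0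
  have c2 := hq 0 0 1
  have c01 := hq 1 1 0
  have c02 := hq 1 0 1
  have c12 := hq 0 1 1
  simp only [mul_one, mul_zero, add_zero, zero_add] at c0 c1 c2 c01 c02 c12
  have hd9 : det9 (A0 i0 i0) (A0 i0 i1) (A0 i0 i2) (A0 i1 i0) (A0 i1 i1) (A0 i1 i2)
      (A0 i2 i0) (A0 i2 i1) (A0 i2 i2) = 1 := by
    rw [← hdet0, det_eq]; rfl
  obtain ⟨σ, hσ⟩ := M3_surj _ _ _ (by rw [c0]; decide) _ _ _ (by rw [c1]; decide)
    (by rw [c01]; decide) _ _ _ (by rw [c2]; decide) (by rw [c02]; decide)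
    (by rw [c12]; decide) hd9
  rw [← eq_mk9] at hσ
  refine ⟨σ, ?_⟩
  apply Subtype.ext
  apply Subtype.ext
  apply Units.ext
  rw [SOhom_coe, hσ, hA0]
  ext r s
  simp [hA]

end Transport

/-- SO_3(3) ≅ S_4: the determinant-one isometries of the form x_0² + x_1y_1 over the field with 3 elements form a group isomorphic to the symmetric group on 4 letters. -/
theorem result {F : Type*} [Field F] [Fintype F] (hF : Fintype.card F = 3) : Nonempty (↥(Cfsg.specialIsometryGroup F (Cfsg.quadFormOdd 1 F)) ≃* Equiv.Perm (Fin 4)) := by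
  haveI : Fact (Nat.Prime 3) := ⟨Nat.prime_three⟩
  let e : ZMod 3 ≃+* F := ZMod.ringEquivOfPrime F Nat.prime_three hF
  exact ⟨(MulEquiv.ofBijective (SOhom e) ⟨SOhom_injective e, SOhom_surjective e⟩).symm⟩

end Cfsg.Agent.S0823
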