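import Mathlib
import Cfsg.Statements.S0826
import Cfsg.Agent.Lib.Helper13.PermMod
import Cfsg.Agent.Lib.Helper13.IsomTransfer
import Cfsg.Agent.Lib.Helper13.SympF2

set_option autoImplicit false
open Cfsg

namespace Cfsg.Agent.S0826

open Cfsg.Agent.Helper13 Cfsg.Agent.Helper13.PermMod Cfsg.Agent.Helper13.SympF2 Matrix Module

/-- the symplectic embedding on the points `ι ⊕ Fin 2` -/
theorem exists_hom_symp {ι : Type*} [Fintype ι] [DecidableEq ι] (m : ℕ) (hm : 1 ≤ m)
    (hι : Fintype.card ι = 2 * m) (h5 : 5 ≤ Fintype.card (Pt ι)) :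
    ∃ f : Equiv.Perm (Pt ι) →* Matrix.symplecticGroup (Fin m) (ZMod 2), Function.Injective f := by
  have hev : Even (Fintype.card ι) := ⟨m, by rw [hι]; ring⟩
  have hfr : finrank (ZMod 2) (V ι) = 2 * m := by
    rw [Module.finrank_fintype_fun_eq_card, hι]
  obtain ⟨g, hg⟩ := exists_symp_coords m hm hfr (qV ι) (qV_nondeg hev)
  set ρ : Equiv.Perm (Pt ι) → V ι →ₗ[ZMod 2] V ι := fun σ => rho σ with hρ
  have h1 : ∀ v, ρ 1 v = v := rho_one
  have hmul : ∀ σ τ v, ρ (σ * τ) v = ρ σ (ρ τ v) := fun σ τ v => rho_mul hev σ τ v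
  have hmem : ∀ σ, transMat ρ g σ ∈ Matrix.symplecticGroup (Fin m) (ZMod 2) := by
    intro σ
    apply mem_symplecticGroup_of_sform
    intro u v
    rw [transMat_mulVec, transMat_mulVec, ← hg, polar_qV, bform_rho hev, ← polar_qV, hg,
      LinearEquiv.apply_symm_apply, LinearEquiv.apply_symm_apply]
  refine ⟨{ toFun := fun σ => ⟨transMat ρ g σ, hmem σ⟩
            map_one' := Subtype.ext (transMat_one ρ h1 g)
            map_mul' := fun σ τ => Subtype.ext (transMat_mul ρ hmul g σ τ) }, ?_⟩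
  rw [injective_iff_map_eq_one]
  intro σ hσ
  have hM : transMat ρ g σ = 1 := congrArg Subtype.val hσ
  apply rho_faithful hev h5
  intro y
  have := transMat_mulVec ρ g σ (g y)
  rw [hM, Matrix.one_mulVec, LinearEquiv.symm_apply_apply] at this
  exact (g.injective this).symm

/-- For n ≥ 3 the symmetric group S_2n embeds in the symplectic group Sp_{2n−2}(2). -/
theorem result (n : ℕ) (hn : 3 ≤ n) : ∃ f : Equiv.Perm (Fin (2 * n)) →* Matrix.symplecticGroup (Fin (n - 1)) (ZMod 2), Function.Injective f := by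
  have hc : Fintype.card (Fin (2 * (n - 1))) = 2 * (n - 1) := Fintype.card_fin _
  obtain ⟨f, hf⟩ := exists_hom_symp (ι := Fin (2 * (n - 1))) (n - 1) (by omega) hc
    (by rw [card_Pt, hc]; omega)
  let e : Fin (2 * n) ≃ Pt (Fin (2 * (n - 1))) :=
    (finCongr (show 2 * n = 2 * (n - 1) + 2 by omega)).trans finSumFinEquiv.symm
  exact ⟨f.comp (Equiv.permCongrHom e).toMonoidHom, hf.comp (Equiv.permCongrHom e).injective⟩

end Cfsg.Agent.S0826
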