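import Mathlib
import Cfsg.Statements.S0828
import Cfsg.Agent.Lib.Helper11.TICount
import Cfsg.Agent.Lib.Helper28.SympIso

set_option autoImplicit false
open Cfsg

namespace Cfsg.Agent.S0828

open Cfsg.Agent.Helper11.TI Cfsg.Agent.Helper28.IsoFrames Cfsg.Agent.Helper28.SympIso

/-- The generalised quadrangle W(q) of Sp_4(q): the number of totally isotropic 2-subspaces of the standard symplectic 4-space over F_q is (q+1)(q²+1), and every non-zero vector lies in exactly q+1 of them. -/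
theorem result {F : Type*} [Field F] [Fintype F] {q : ℕ} (hF : Fintype.card F = q) : Nat.card {W : Submodule F (Fin 2 ⊕ Fin 2 → F) // Module.finrank F W = 2 ∧ ∀ u ∈ W, ∀ v ∈ W, Cfsg.sympForm 2 F u v = 0} = (q + 1) * (q ^ 2 + 1) ∧ ∀ v : Fin 2 ⊕ Fin 2 → F, v ≠ 0 → Nat.card {W : Submodule F (Fin 2 ⊕ Fin 2 → F) // Module.finrank F W = 2 ∧ v ∈ W ∧ ∀ u ∈ W, ∀ w ∈ W, Cfsg.sympForm 2 F u w = 0} = q + 1 := by
  have hq : 2 ≤ q := by
    rw [← hF]
    exact Fintype.one_lt_card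
  have hA := sympBil_isAlt (F := F) 2
  have hB := sympBil_nondegenerate (F := F) 2
  have hq1 : ∀ j, 1 ≤ q ^ j := fun j => Nat.one_le_pow _ _ (by omega)
  have hqq : q ≤ q ^ 2 := by nlinarith
  have hqq3 : q ≤ q ^ 3 := by nlinarith [hq1 2]
  constructor
  · have h1 := card_frames_eq (sympBil 2 F) 2
    rw [card_frames hA hB 2, Module.finrank_fintype_fun_eq_card, Fintype.card_sum,
      Fintype.card_fin, hF, Finset.prod_range_succ, Finset.prod_range_one, Fin.prod_univ_two] at h1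
    have e : Nat.card (TIk (sympBil 2 F) 2) = Nat.card {W : Submodule F (Fin 2 ⊕ Fin 2 → F) //
        Module.finrank F W = 2 ∧ ∀ u ∈ W, ∀ v ∈ W, Cfsg.sympForm 2 F u v = 0} := by
      unfold TIk
      simp only [sympBil_apply]
    rw [← e]
    obtain ⟨N, hN⟩ : ∃ N, N = Nat.card (TIk (sympBil 2 F) 2) := ⟨_, rfl⟩
    rw [← hN] at h1 ⊢
    simp only [Fin.val_zero, Fin.val_one, pow_zero, pow_one, Nat.sub_zero] at h1
    have hpos : 0 < (q ^ 2 - 1) * (q ^ 2 - q) := by
      apply Nat.mul_pos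
      · have : 4 ≤ q ^ 2 := by nlinarith
        omega
      · have : 2 * q ≤ q ^ 2 := by nlinarith
        omega
    apply Nat.eq_of_mul_eq_mul_right hpos
    rw [← h1]
    have e4 : 2 + 2 - 1 = 3 := rfl
    rw [e4]
    zify [hq1 2, hqq, hq1 (2 + 2), hqq3]
    ring
  · intro v hv
    have h1 := card_Fibv_eq hA v hv
    rw [card_Fibv hA hB v hv, Fintype.card_sum, Fintype.card_fin, hF] at h1
    have e : Nat.card (TIv (sympBil 2 F) v) = Nat.card {W : Submodule F (Fin 2 ⊕ Fin 2 → F) //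
        Module.finrank F W = 2 ∧ v ∈ W ∧ ∀ u ∈ W, ∀ w ∈ W, Cfsg.sympForm 2 F u w = 0} := by
      unfold TIv
      simp only [sympBil_apply]
    rw [← e]
    obtain ⟨N, hN⟩ : ∃ N, N = Nat.card (TIv (sympBil 2 F) v) := ⟨_, rfl⟩
    rw [← hN] at h1 ⊢
    have hpos : 0 < q ^ 2 - q := by
      have : 2 * q ≤ q ^ 2 := by nlinarith
      omega
    apply Nat.eq_of_mul_eq_mul_right hpos
    rw [← h1]
    have e4 : 2 + 2 - 1 = 3 := rfl
    rw [e4]
    zify [hqq, hqq3]
    ring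

end Cfsg.Agent.S0828
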