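import Mathlib
import Cfsg.Statements.S0830
import Cfsg.Agent.Lib.Helper11.HermLines

set_option autoImplicit false
open Cfsg

namespace Cfsg.Agent.S0830

open Cfsg.Agent.Helper11 Cfsg.Agent.Helper11.Herm

/-- The unitary quadrangle of PSU_5(q): with |F| = q², the number of 2-dimensional subspaces of F^5 on which the Hermitian form vanishes is (q³ + 1)(q⁵ + 1). -/
theorem result {F : Type*} [Field F] [Fintype F] {q : ℕ} (hF : Fintype.card F = q ^ 2) : Nat.card {W : Submodule F (Fin 5 → F) // Module.finrank F W = 2 ∧ ∀ u ∈ W, ∀ v ∈ W, Cfsg.hermForm 5 F q u v = 0} = (q ^ 3 + 1) * (q ^ 5 + 1) := by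
  have hq := two_le_q hF
  have h : (Nat.card {W : Submodule F (Fin 5 → F) // Module.finrank F W = 2 ∧
      ∀ u ∈ W, ∀ v ∈ W, Cfsg.hermForm 5 F q u v = 0} : ℤ) *
        (((q : ℤ) ^ 4 - 1) * ((q : ℤ) ^ 4 - (q : ℤ) ^ 2)) =
      ((cnt F q 5 0 : ℤ) - 1) * ((q : ℤ) ^ 2 * ((cnt F q 3 0 : ℤ) - 1)) := card_TI2_int hF 3
  have e5 : ((cnt F q 5 0 : ℤ) - 1) =
      ((q : ℤ) ^ 5 - (-1) ^ 5) * ((q : ℤ) ^ 4 + (-1) ^ 5) := cnt_zero_sub_one hF 4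
  have e3 : ((cnt F q 3 0 : ℤ) - 1) =
      ((q : ℤ) ^ 3 - (-1) ^ 3) * ((q : ℤ) ^ 2 + (-1) ^ 3) := cnt_zero_sub_one hF 2
  obtain ⟨N, hN⟩ : ∃ N, N = Nat.card {W : Submodule F (Fin 5 → F) //
      Module.finrank F W = 2 ∧ ∀ u ∈ W, ∀ v ∈ W, Cfsg.hermForm 5 F q u v = 0} := ⟨_, rfl⟩
  rw [← hN] at h ⊢
  rw [e5, e3] at h
  have hq' : (2 : ℤ) ≤ q := by exact_mod_cast hq
  have hX : ((q : ℤ) ^ 4 - 1) * ((q : ℤ) ^ 4 - (q : ℤ) ^ 2) ≠ 0 := by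
    apply mul_ne_zero
    · nlinarith [pow_pos (by linarith : (0 : ℤ) < q) 4, pow_le_pow_left₀ (by norm_num) hq' 4]
    · have : (q : ℤ) ^ 4 - (q : ℤ) ^ 2 = (q : ℤ) ^ 2 * ((q : ℤ) ^ 2 - 1) := by ring
      rw [this]
      apply mul_ne_zero
      · positivity
      · nlinarith
  have key : ((N : ℤ) - ((q : ℤ) ^ 3 + 1) * ((q : ℤ) ^ 5 + 1)) *
      (((q : ℤ) ^ 4 - 1) * ((q : ℤ) ^ 4 - (q : ℤ) ^ 2)) = 0 := by
    rw [sub_mul, h]
    norm_num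
    ring
  rcases mul_eq_zero.1 key with h1 | h1
  · have : (N : ℤ) = ((q ^ 3 + 1) * (q ^ 5 + 1) : ℕ) := by
      push_cast
      linear_combination h1
    exact_mod_cast this
  · exact absurd h1 hX

end Cfsg.Agent.S0830
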