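import Mathlib
import Cfsg.Statements.S0831
import Cfsg.Agent.Lib.Helper17.OrthPlus
import Cfsg.Agent.Lib.Helper17.OrthClass2

set_option autoImplicit false
open Cfsg

namespace Cfsg.Agent.S0831

open Cfsg.Agent.Helper13 Cfsg.Agent.Helper17.Spinor Module

/-- The two families of maximal totally singular subspaces of the hyperbolic quadric: for the form Σ x_i y_i on F^(2m), m ≥ 1, and m-dimensional subspaces U, W, X on which it vanishes, the parities of m − dim(U ∩ W), m − dim(W ∩ X) and m − dim(U ∩ X) sum to an even number (so 'even codimension of the intersection' is an equivalence relation), and there exist two such subspaces meeting in codimension 1 (so there are exactly two classes). -/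
theorem result {F : Type*} [Field F] (m : ℕ) (hm : 1 ≤ m) : (∀ U W X : Submodule F (Fin m ⊕ Fin m → F), (Module.finrank F U = m ∧ ∀ w ∈ U, Cfsg.quadFormPlus m F w = 0) → (Module.finrank F W = m ∧ ∀ w ∈ W, Cfsg.quadFormPlus m F w = 0) → (Module.finrank F X = m ∧ ∀ w ∈ X, Cfsg.quadFormPlus m F w = 0) → Even ((m - Module.finrank F ↥(U ⊓ W)) + (m - Module.finrank F ↥(W ⊓ X)) + (m - Module.finrank F ↥(U ⊓ X)))) ∧ ∃ U W : Submodule F (Fin m ⊕ Fin m → F), (Module.finrank F U = m ∧ ∀ w ∈ U, Cfsg.quadFormPlus m F w = 0) ∧ (Module.finrank F W = m ∧ ∀ w ∈ W, Cfsg.quadFormPlus m F w = 0) ∧ Module.finrank F ↥(U ⊓ W) + 1 = m := by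
  classical
  rw [quadFormPlus_eq]
  have hnd : (QuadraticMap.polarBilin (plusQ m F)).Nondegenerate := plusQ_nondeg
  have hV : finrank F (Fin m ⊕ Fin m → F) = 2 * m := finrank_plus_space
  constructor
  · rintro U W X ⟨hU, hU0⟩ ⟨hW, hW0⟩ ⟨hX, hX0⟩
    have key := three_inf_parity (plusQ m F) hnd (U := U) (W := W) hU0 (by rw [hU, hV]) hW0
      (by rw [hW, hV]) _ X hX0 (by rw [hX, hV]) rfl
    have h1 : finrank F ↥(U ⊓ W) ≤ m := le_trans (Submodule.finrank_mono inf_le_left) (le_of_eq hU)
    have h2 : finrank F ↥(W ⊓ X) ≤ m := le_trans (Submodule.finrank_mono inf_le_left) (le_of_eq hW)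
    have h3 : finrank F ↥(U ⊓ X) ≤ m := le_trans (Submodule.finrank_mono inf_le_left) (le_of_eq hU)
    rw [hU] at key
    rw [Nat.even_iff]
    omega
  · have hv : plusQ m F (pairVec (⟨0, hm⟩ : Fin m) (1 : F) 1) ≠ 0 := by
      rw [plusQ_pairVec, one_mul]; exact one_ne_zero
    have hU2 : 2 * finrank F ↥(plusU m F) = finrank F (Fin m ⊕ Fin m → F) := by
      rw [finrank_plusU, hV]
    refine ⟨plusU m F, (plusU m F).map (refl (plusQ m F) (pairVec (⟨0, hm⟩ : Fin m) (1 : F) 1)),
      ⟨finrank_plusU, isTS_plusU⟩, ⟨?_, ?_⟩, ?_⟩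
    · rw [finrank_map_refl _ _ hv, finrank_plusU]
    · exact (isTS_plusU (F := F) (m := m)).map_refl _ hv
    · have hle : finrank F ↥(plusU m F ⊓ (plusU m F).map
          (refl (plusQ m F) (pairVec (⟨0, hm⟩ : Fin m) (1 : F) 1))) ≤ m :=
        le_trans (Submodule.finrank_mono inf_le_left) (le_of_eq finrank_plusU)
      rcases finrank_inf_map_refl (plusQ m F) hnd (isTS_plusU (F := F) (m := m)) hU2
        (isTS_plusU (F := F) (m := m)) hU2 hv with h | h
      · rw [inf_idem, finrank_plusU] at h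
        exact h
      · rw [inf_idem, finrank_plusU] at h
        omega

end Cfsg.Agent.S0831
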