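import Mathlib
import Cfsg.Statements.S0832
import Cfsg.Agent.Lib.Helper17.OrthPlus
import Cfsg.Agent.Lib.Helper17.OrthClass2

set_option autoImplicit false
open Cfsg

namespace Cfsg.Agent.S0832

open Cfsg.Agent.Helper13 Cfsg.Agent.Helper17.Spinor Module

/-- For the form Σ x_i y_i on F^(2m) over a finite field, m ≥ 1: an (m−1)-dimensional subspace on which the form vanishes is contained in exactly two m-dimensional subspaces on which it vanishes. -/
theorem result {F : Type*} [Field F] [Finite F] (m : ℕ) (hm : 1 ≤ m) (U : Submodule F (Fin m ⊕ Fin m → F)) (hU : Module.finrank F U + 1 = m ∧ ∀ u ∈ U, Cfsg.quadFormPlus m F u = 0) : Nat.card {W : Submodule F (Fin m ⊕ Fin m → F) // Module.finrank F W = m ∧ (∀ w ∈ W, Cfsg.quadFormPlus m F w = 0) ∧ U ≤ W} = 2 := by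
  classical
  obtain ⟨hU1, hU0⟩ := hU
  revert hU0
  rw [quadFormPlus_eq]
  intro hU0
  have hnd : (QuadraticMap.polarBilin (plusQ m F)).Nondegenerate := plusQ_nondeg
  have hV : finrank F (Fin m ⊕ Fin m → F) = 2 * m := finrank_plus_space
  obtain ⟨W₁, W₂, hne, ⟨h11, h12, h13⟩, ⟨h21, h22, h23⟩, hall⟩ :=
    exists_two_isTS_of_le (plusQ m F) hnd (isTS_plusU (F := F) (m := m))
      (by rw [finrank_plusU, hV]) hU0 (by rw [hV]; omega)
  rw [Nat.card_eq_two_iff]
  refine ⟨⟨W₁, by rw [hV] at h12; omega, h11, h13⟩, ⟨W₂, by rw [hV] at h22; omega, h21, h23⟩,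
    ?_, ?_⟩
  · intro h
    apply hne
    exact congrArg Subtype.val h
  · rw [Set.eq_univ_iff_forall]
    rintro ⟨W, hW1, hW0, hUW⟩
    rcases hall W hW0 (by rw [hW1, hV]) hUW with h | h
    · left
      exact Subtype.ext h
    · right
      exact Subtype.ext h

end Cfsg.Agent.S0832
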