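import Mathlib
import Cfsg.Statements.S0833

set_option autoImplicit false
set_option linter.style.haveILetI false
set_option linter.unusedVariables false
set_option linter.unusedSectionVars false
open Cfsg

namespace Cfsg.Agent.S0833

open Module TensorProduct

section
variable {F U W : Type*} [Field F] [AddCommGroup U] [Module F U] [FiniteDimensional F U]
  [AddCommGroup W] [Module F W] [FiniteDimensional F W]

/-- isotropic subspaces of every dimension up to half -/
theorem exists_isotropic (B : LinearMap.BilinForm F U) (hB : B.Nondegenerate) (hA : B.IsAlt) (k : ℕ)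
    (hU : finrank F U = 2 * k) :
    ∀ j ≤ k, ∃ L : Submodule F U, finrank F L = j ∧ ∀ x ∈ L, ∀ y ∈ L, B x y = 0 := by
  intro j
  induction j with
  | zero =>
    intro _
    refine ⟨⊥, by simp, ?_⟩
    intro x hx y hy
    rw [Submodule.mem_bot] at hx
    rw [hx]; simp
  | succ j ih =>
    intro hj
    obtain ⟨L, hLj, hL⟩ := ih (by omega)
    have hle : L ≤ B.orthogonal L := by
      intro m hm
      rw [LinearMap.BilinForm.mem_orthogonal_iff]
      intro n hn
      exact hL n hn m hm
    have hdim : finrank F (B.orthogonal L) = 2 * k - j := by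
      rw [LinearMap.BilinForm.finrank_orthogonal hB, hU, hLj]
    have hlt : L < B.orthogonal L := by
      apply lt_of_le_of_ne hle
      intro h
      have := congrArg (fun S : Submodule F U => finrank F S) h
      simp only [hLj, hdim] at this
      omega
    obtain ⟨v, hvO, hvL⟩ := SetLike.exists_of_lt hlt
    rw [LinearMap.BilinForm.mem_orthogonal_iff] at hvO
    have hv0 : v ≠ 0 := fun h => hvL (h ▸ L.zero_mem)
    refine ⟨L ⊔ Submodule.span F {v}, ?_, ?_⟩
    · have h1 : finrank F L < finrank F (L ⊔ Submodule.span F {v} : Submodule F U) := by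
        apply Submodule.finrank_lt_finrank_of_lt
        apply lt_of_le_of_ne le_sup_left
        intro h
        apply hvL
        rw [h]
        exact Submodule.mem_sup_right (Submodule.mem_span_singleton_self v)
      have h2 : finrank F (L ⊔ Submodule.span F {v} : Submodule F U) ≤ finrank F L + finrank F (Submodule.span F {v}) :=
        Submodule.finrank_add_le_finrank_add_finrank L _
      rw [finrank_span_singleton hv0] at h2
      omega
    · intro x hx y hy
      obtain ⟨a, ha, b, hb, rfl⟩ := Submodule.mem_sup.mp hx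
      obtain ⟨a', ha', b', hb', rfl⟩ := Submodule.mem_sup.mp hy
      obtain ⟨c, rfl⟩ := Submodule.mem_span_singleton.mp hb
      obtain ⟨c', rfl⟩ := Submodule.mem_span_singleton.mp hb'
      have h1 : B a a' = 0 := hL a ha a' ha'
      have h2 : B a v = 0 := hvO a ha
      have h3 : B v a' = 0 := by
        have := hA.neg_eq v a'
        rw [hvO a' ha', ] at this
        simpa using this
      have h4 : B v v = 0 := hA v
      simp only [map_add, map_smul, LinearMap.add_apply, LinearMap.smul_apply, h1, h2, h3, h4, smul_eq_mul,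
        mul_zero, add_zero]

theorem tmul_apply_tmul (B₁ : LinearMap.BilinForm F U) (B₂ : LinearMap.BilinForm F W) (u u' : U) (w w' : W) :
    (B₁.tmul B₂) (u ⊗ₜ w) (u' ⊗ₜ w') = B₂ w w' * B₁ u u' := rfl

attribute [local ext] TensorProduct.ext in
theorem tmul_symm_of_alt (B₁ : LinearMap.BilinForm F U) (B₂ : LinearMap.BilinForm F W)
    (hA₁ : B₁.IsAlt) (hA₂ : B₂.IsAlt) : (B₁.tmul B₂).IsSymm := by
  rw [LinearMap.isSymm_iff_eq_flip]
  ext x₁ x₂ y₁ y₂
  show B₂ x₂ y₂ * B₁ x₁ y₁ = B₂ y₂ x₂ * B₁ y₁ x₁
  rw [← hA₁.neg_eq y₁ x₁, ← hA₂.neg_eq y₂ x₂]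
  ring

theorem tmul_separatingRight (B₁ : LinearMap.BilinForm F U) (B₂ : LinearMap.BilinForm F W)
    (h₁ : B₁.Nondegenerate) (h₂ : B₂.Nondegenerate) : (B₁.tmul B₂).SeparatingRight := by
  classical
  intro y hy
  let e := Module.finBasis F U
  let f := Module.finBasis F W
  let e' := B₁.dualBasis h₁ e
  let f' := B₂.dualBasis h₂ f
  let T := e.tensorProduct f
  have hcoef : ∀ p, T.repr y p = 0 := by
    rintro ⟨i, j⟩
    have h0 := hy (e' i ⊗ₜ f' j)
    rw [← T.sum_repr y] at h0
    simp only [map_sum, map_smul, smul_eq_mul] at h0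
    have hterm : ∀ q : _ × _, (B₁.tmul B₂) (e' i ⊗ₜ f' j) (T q) = if q = (i, j) then 1 else 0 := by
      rintro ⟨k, l⟩
      rw [Basis.tensorProduct_apply, tmul_apply_tmul]
      rw [LinearMap.BilinForm.apply_dualBasis_left, LinearMap.BilinForm.apply_dualBasis_left]
      by_cases hk : k = i
      · by_cases hl : l = j
        · simp [hk, hl]
        · simp [hk, hl]
      · simp [hk]
    simp only [hterm] at h0
    simpa using h0
  have : T.repr y = 0 := by
    ext p
    exact hcoef p
  exact (LinearEquiv.map_eq_zero_iff T.repr).mp this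

end

/-- If B₁, B₂ are non-degenerate alternating forms on U (dim 2k) and W (dim 2l), then B₁ ⊗ B₂ on U ⊗ W is symmetric, non-degenerate, and vanishes identically on some subspace of dimension 2kl (half of dim U ⊗ W). -/
theorem result {F U W : Type*} [Field F] [Fintype F] [AddCommGroup U] [Module F U] [FiniteDimensional F U] [AddCommGroup W] [Module F W] [FiniteDimensional F W] (B₁ : LinearMap.BilinForm F U) (B₂ : LinearMap.BilinForm F W) (h₁ : B₁.Nondegenerate) (h₂ : B₂.Nondegenerate) (hA₁ : B₁.IsAlt) (hA₂ : B₂.IsAlt) (k l : ℕ) (hU : Module.finrank F U = 2 * k) (hW : Module.finrank F W = 2 * l) : (B₁.tmul B₂).IsSymm ∧ (B₁.tmul B₂).Nondegenerate ∧ (∃ X : Submodule F (TensorProduct F U W), Module.finrank F X = 2 * k * l ∧ ∀ x ∈ X, ∀ y ∈ X, (B₁.tmul B₂) x y = 0) := by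
  have hsymm := tmul_symm_of_alt B₁ B₂ hA₁ hA₂
  have hright := tmul_separatingRight B₁ B₂ h₁ h₂
  refine ⟨hsymm, ⟨?_, hright⟩, ?_⟩
  · intro x hx
    apply hright x
    intro y
    rw [← hsymm.eq]
    simpa using hx y
  · obtain ⟨L, hLk, hL⟩ := exists_isotropic B₁ h₁ hA₁ k hU k le_rfl
    let φ : L ⊗[F] W →ₗ[F] U ⊗[F] W := LinearMap.rTensor W L.subtype
    have hinj : Function.Injective φ :=
      Module.Flat.rTensor_preserves_injective_linearMap L.subtype L.injective_subtype
    refine ⟨LinearMap.range φ, ?_, ?_⟩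
    · rw [LinearMap.finrank_range_of_inj hinj, Module.finrank_tensorProduct, hLk, hW]
      ring
    · rintro x ⟨a, rfl⟩ y ⟨b, rfl⟩
      induction a using TensorProduct.induction_on with
      | zero => simp
      | add a₁ a₂ ih₁ ih₂ => rw [map_add, map_add, LinearMap.add_apply, ih₁, ih₂, add_zero]
      | tmul u w =>
        induction b using TensorProduct.induction_on with
        | zero => simp
        | add b₁ b₂ ih₁ ih₂ => rw [map_add, map_add, ih₁, ih₂, add_zero]
        | tmul u' w' =>
          show (B₁.tmul B₂) ((u : U) ⊗ₜ w) ((u' : U) ⊗ₜ w') = 0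
          rw [tmul_apply_tmul, hL u u.2 u' u'.2, mul_zero]

end Cfsg.Agent.S0833
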