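import Mathlib
import Cfsg.Statements.S0836
import Cfsg.Agent.Lib.Helper2.SLPerfect

set_option autoImplicit false
open Cfsg

namespace Cfsg.Agent.S0836

open Matrix

theorem two_case01 {F : Type*} [Field F] (x : F) (hx0 : x ≠ 0) (hx : x ^ 2 ≠ 1) (c : F)
    (t : Matrix.SpecialLinearGroup (Fin 2) F)
    (ht : (t : Matrix (Fin 2) (Fin 2) F) = !![1, c; 0, 1]) :
    t ∈ commutatorSet (Matrix.SpecialLinearGroup (Fin 2) F) := by
  have hx1 : x ^ 2 - 1 ≠ 0 := sub_ne_zero.mpr hx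
  let g₁ : Matrix.SpecialLinearGroup (Fin 2) F :=
    ⟨!![x, 0; 0, x⁻¹], by simp [Matrix.det_fin_two, hx0]⟩
  let g₂ : Matrix.SpecialLinearGroup (Fin 2) F :=
    ⟨!![1, c / (x ^ 2 - 1); 0, 1], by simp [Matrix.det_fin_two]⟩
  refine ⟨g₁, g₂, ?_⟩
  rw [commutatorElement_def]
  apply Subtype.ext
  rw [ht]
  simp only [Matrix.SpecialLinearGroup.coe_mul, Matrix.SpecialLinearGroup.coe_inv]
  show (!![x, 0; 0, x⁻¹] : Matrix (Fin 2) (Fin 2) F) * !![1, c / (x ^ 2 - 1); 0, 1] *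
    Matrix.adjugate !![x, 0; 0, x⁻¹] * Matrix.adjugate !![1, c / (x ^ 2 - 1); 0, 1] = _
  simp only [Matrix.adjugate_fin_two_of]
  ext a b
  fin_cases a <;> fin_cases b <;> simp [Matrix.mul_apply, Fin.sum_univ_two] <;> field_simp <;> ring

theorem two_case10 {F : Type*} [Field F] (x : F) (hx0 : x ≠ 0) (hx : x ^ 2 ≠ 1) (c : F)
    (t : Matrix.SpecialLinearGroup (Fin 2) F)
    (ht : (t : Matrix (Fin 2) (Fin 2) F) = !![1, 0; c, 1]) :
    t ∈ commutatorSet (Matrix.SpecialLinearGroup (Fin 2) F) := by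
  have hx1 : x ^ 2 - 1 ≠ 0 := sub_ne_zero.mpr hx
  let g₁ : Matrix.SpecialLinearGroup (Fin 2) F :=
    ⟨!![x⁻¹, 0; 0, x], by simp [Matrix.det_fin_two, hx0]⟩
  let g₂ : Matrix.SpecialLinearGroup (Fin 2) F :=
    ⟨!![1, 0; c / (x ^ 2 - 1), 1], by simp [Matrix.det_fin_two]⟩
  refine ⟨g₁, g₂, ?_⟩
  rw [commutatorElement_def]
  apply Subtype.ext
  rw [ht]
  simp only [Matrix.SpecialLinearGroup.coe_mul, Matrix.SpecialLinearGroup.coe_inv]
  show (!![x⁻¹, 0; 0, x] : Matrix (Fin 2) (Fin 2) F) * !![1, 0; c / (x ^ 2 - 1), 1] *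
    Matrix.adjugate !![x⁻¹, 0; 0, x] * Matrix.adjugate !![1, 0; c / (x ^ 2 - 1), 1] = _
  simp only [Matrix.adjugate_fin_two_of]
  ext a b
  fin_cases a <;> fin_cases b <;> simp [Matrix.mul_apply, Fin.sum_univ_two] <;> field_simp <;> ring

/-- For i ≠ j and any scalar c, the elementary transvection 1 + c E_ij is a commutator ⁅g, h⁆ of two elements of SL_n(F) provided n ≥ 3, or n = 2 and F contains x ≠ 0 with x² ≠ 1. -/
theorem result {F : Type*} [Field F] (n : ℕ) (hn : 3 ≤ n ∨ (n = 2 ∧ ∃ x : F, x ≠ 0 ∧ x ^ 2 ≠ 1)) (i j : Fin n) (hij : i ≠ j) (c : F) (t : Matrix.SpecialLinearGroup (Fin n) F) (ht : (t : Matrix (Fin n) (Fin n) F) = Matrix.transvection i j c) : t ∈ commutatorSet (Matrix.SpecialLinearGroup (Fin n) F) := by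
  rcases hn with h3 | ⟨rfl, x, hx0, hx⟩
  · have h3' : 3 ≤ Fintype.card (Fin n) := by simpa using h3
    obtain ⟨k, hik, hkj⟩ := Cfsg.Agent.Helper2.exists_third h3' i j
    have e : t = Matrix.SpecialLinearGroup.transvection hij c := by
      apply Subtype.ext
      rw [ht]
      rfl
    rw [e, ← Cfsg.Agent.Helper2.comm_transvection hij hik hkj c]
    exact ⟨_, _, rfl⟩
  · fin_cases i <;> fin_cases j
    · exact absurd rfl hij
    · apply two_case01 x hx0 hx c t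
      rw [ht]
      ext a b
      fin_cases a <;> fin_cases b <;> simp [Matrix.transvection, Matrix.single_apply]
    · apply two_case10 x hx0 hx c t
      rw [ht]
      ext a b
      fin_cases a <;> fin_cases b <;> simp [Matrix.transvection, Matrix.single_apply]
    · exact absurd rfl hij

end Cfsg.Agent.S0836
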