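import Mathlib
import Cfsg.Statements.S0837
import Cfsg.Agent.Lib.Helper11.UnitaryGeom

set_option autoImplicit false
open Cfsg

namespace Cfsg.Agent.S0837

open Cfsg.Agent.Helper11.Herm

/-- If W ≤ F^n (|F| = q²) is a k-dimensional subspace on which the Hermitian form Σ x_i y_i^q is non-degenerate, then the stabiliser of W in GU_n(q) is isomorphic to GU_k(q) × GU_(n−k)(q). -/
theorem result {F : Type*} [Field F] [Fintype F] {q : ℕ} (hF : Fintype.card F = q ^ 2) (n k : ℕ) (hk : k ≤ n) (W : Submodule F (Fin n → F)) (hWk : Module.finrank F W = k) (hW : ∀ u ∈ W, (∀ v ∈ W, Cfsg.hermForm n F q u v = 0) → u = 0) : Nonempty (↥((Cfsg.stabilizing (Cfsg.glToMat (Fin n) F) (W : Set (Fin n → F))).subgroupOf (Cfsg.GU n F q)) ≃* ↥(Cfsg.GU k F q) × ↥(Cfsg.GU (n - k) F q)) := by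
  obtain ⟨φ, hφ⟩ := exists_frob hF
  have hφφ := frob_frob hF φ hφ
  have hN1 := frob_norm_surj hF φ hφ
  have hN2 := frob_trace_ne_zero hF φ hφ
  have hφid := frob_ne_id hF φ hφ
  rw [GU_eq_UG φ hφ n, GU_eq_UG φ hφ k, GU_eq_UG φ hφ (n - k)]
  have e : Fin n ≃ Fin k ⊕ Fin (n - k) :=
    (finCongr (by omega : n = k + (n - k))).trans finSumFinEquiv.symm
  exact nonempty_stab_nondeg_equiv φ hφid hφφ hN1 hN2 W
    (fun u hu h => hW u hu (fun v hv => by rw [hermForm_eq_hdot φ hφ]; exact h v hv)) k hWk e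

end Cfsg.Agent.S0837
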