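import Mathlib
import Cfsg.Statements.S0838
import Cfsg.Agent.Lib.Helper13.QuadFinite
import Cfsg.Agent.Lib.Helper17.SpinorIndex

set_option autoImplicit false
open Cfsg

namespace Cfsg.Agent.S0838

open Cfsg.Agent.Helper13

/-- Over a finite field with 2 ≠ 0 and n odd: two quadratic forms Q₁, Q₂ on F^n with non-degenerate polar forms are similar — there are an invertible linear map g and a scalar c ≠ 0 with Q₂ (g v) = c · Q₁ v for all v. -/
theorem result {F : Type*} [Field F] [Fintype F] (h2 : (2 : F) ≠ 0) {n : ℕ} (hn : Odd n) (Q₁ Q₂ : QuadraticForm F (Fin n → F)) (h₁ : (QuadraticMap.polarBilin Q₁).Nondegenerate) (h₂ : (QuadraticMap.polarBilin Q₂).Nondegenerate) : ∃ (g : (Fin n → F) ≃ₗ[F] (Fin n → F)) (c : F), c ≠ 0 ∧ ∀ v, Q₂ (g v) = c * Q₁ v := by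
  classical
  have hD₁ : (stdGram Q₁).det ≠ 0 := by
    rw [stdGram_eq]; exact gram_det_ne_zero Q₁ _ h₁
  have hD₂ : (stdGram Q₂).det ≠ 0 := by
    rw [stdGram_eq]; exact gram_det_ne_zero Q₂ _ h₂
  set c : F := (stdGram Q₁).det * (stdGram Q₂).det with hc
  have hc0 : c ≠ 0 := mul_ne_zero hD₁ hD₂
  have hgram : stdGram (c • Q₁) = c • stdGram Q₁ := by
    ext i j
    simp only [stdGram, Matrix.of_apply, Matrix.smul_apply]
    rw [FunLike.coe_smul, QuadraticMap.polar_smul]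
  have hdet : (stdGram (c • Q₁)).det = c ^ n * (stdGram Q₁).det := by
    rw [hgram, Matrix.det_smul, Fintype.card_fin]
  have hsq : IsSquare ((stdGram (c • Q₁)).det * (stdGram Q₂).det) := by
    obtain ⟨k, hk⟩ := hn
    refine ⟨c ^ (k + 1), ?_⟩
    rw [hdet, mul_assoc, ← hc, hk]
    ring
  obtain ⟨g, hg⟩ := equiv_of_disc h2 (c • Q₁) Q₂
    (Cfsg.Agent.Helper17.Spinor.nondegenerate_smul Q₁ hc0 h₁) h₂ hsq
  refine ⟨g, c, hc0, fun v => ?_⟩
  rw [hg v]
  rfl

end Cfsg.Agent.S0838
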