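import Mathlib
import Cfsg.Statements.S0839
import Cfsg.Agent.Lib.Helper13.Transv

set_option autoImplicit false
open Cfsg

namespace Cfsg.Agent.S0839

open Module LinearMap Matrix Cfsg.Agent.Helper13

theorem data_of_isTransvection' {F : Type*} [Field F] {n : ℕ} (M : Matrix (Fin n) (Fin n) F)
    (h : Cfsg.IsTransvection M) :
    finrank F (range (Matrix.toLin' (M - 1))) = 1 ∧
      (Matrix.toLin' (M - 1) : Module.End F (Fin n → F)) * Matrix.toLin' (M - 1) = 0 := by
  obtain ⟨h1, h2⟩ := h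
  constructor
  · rw [← h1, Matrix.rank, Matrix.toLin'_apply']
  · rw [Module.End.mul_eq_comp, ← Matrix.toLin'_mul, h2, map_zero]

/-- Every transvection t ∈ SL_(n+2)(F) (rank(t − 1) = 1, (t − 1)² = 0) is conjugate in SL_(n+2)(F) to 1 + v·e_0ᵀ for some column vector v with v_0 = 0 (the group A of matrices that are the identity except in the first column below the diagonal); the dimension is written n + 2 ≥ 2. -/
theorem result {F : Type*} [Field F] (n : ℕ) (t : Matrix.SpecialLinearGroup (Fin (n + 2)) F) (ht : Cfsg.IsTransvection (t : Matrix (Fin (n + 2)) (Fin (n + 2)) F)) : ∃ (g : Matrix.SpecialLinearGroup (Fin (n + 2)) F) (v : Fin (n + 2) → F), v 0 = 0 ∧ ((g⁻¹ * t * g : Matrix.SpecialLinearGroup (Fin (n + 2)) F) : Matrix (Fin (n + 2)) (Fin (n + 2)) F) = 1 + Matrix.vecMulVec v (Pi.single 0 1) := by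
  classical
  obtain ⟨h1, h2⟩ := data_of_isTransvection' _ ht
  obtain ⟨v, φ, u, hv, hu, hφv, hT⟩ := rank_one_data _ h1 h2
  let e0 : Module.Dual F (Fin (n + 2) → F) := LinearMap.proj 0
  let v1 : Fin (n + 2) → F := Pi.single 1 1
  let u1 : Fin (n + 2) → F := Pi.single 0 1
  have hv1 : v1 ≠ 0 := by
    intro h
    have := congrFun h 1
    simp [v1] at this
  have hu1 : e0 u1 = 1 := by simp [e0, u1]
  have h01 : (0 : Fin (n + 2)) ≠ 1 := by
    intro h
    have := congrArg Fin.val h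
    simp at this
  have hev1 : e0 v1 = 0 := by
    simp [e0, v1, h01]
  obtain ⟨g, hgv, hgφ⟩ := exists_intertwiner v1 e0 u1 hv1 hu1 hev1 v φ u hv hu hφv
  set δ := LinearMap.det (g : (Fin (n + 2) → F) →ₗ[F] (Fin (n + 2) → F)) with hδ
  have hδ0 : δ ≠ 0 := (LinearEquiv.isUnit_det' g).ne_zero
  let dv : Fin (n + 2) → F := Function.update (fun _ => (1 : F)) 1 δ⁻¹
  let D : Matrix (Fin (n + 2)) (Fin (n + 2)) F := Matrix.diagonal dv
  let M : Matrix (Fin (n + 2)) (Fin (n + 2)) F :=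
    LinearMap.toMatrix' (g : (Fin (n + 2) → F) →ₗ[F] (Fin (n + 2) → F)) * D
  have hM : M.det = 1 := by
    rw [Matrix.det_mul, LinearMap.det_toMatrix', Matrix.det_diagonal,
      Finset.prod_update_of_mem (Finset.mem_univ _)]
    simp [← hδ, mul_inv_cancel₀ hδ0]
  have hMx : ∀ x, φ (M *ᵥ x) = x 0 := by
    intro x
    have e1 : M *ᵥ x = g (D *ᵥ x) := by
      show (LinearMap.toMatrix' (g : (Fin (n + 2) → F) →ₗ[F] (Fin (n + 2) → F)) * D) *ᵥ x = _
      rw [← Matrix.mulVec_mulVec, ← Matrix.toLin'_apply, Matrix.toLin'_toMatrix']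
      rfl
    rw [e1, hgφ]
    show (D *ᵥ x) 0 = x 0
    rw [Matrix.mulVec_diagonal]
    simp [dv, Function.update_of_ne h01]
  let G : Matrix.SpecialLinearGroup (Fin (n + 2)) F := ⟨M, hM⟩
  let Gi : Matrix (Fin (n + 2)) (Fin (n + 2)) F := ((G⁻¹ : Matrix.SpecialLinearGroup (Fin (n + 2)) F) : Matrix (Fin (n + 2)) (Fin (n + 2)) F)
  have hGiM : Gi * M = 1 := by
    have h : (G⁻¹ * G : Matrix.SpecialLinearGroup (Fin (n + 2)) F) = 1 := inv_mul_cancel G
    have h' := congrArg Subtype.val h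
    rw [Matrix.SpecialLinearGroup.coe_mul] at h'
    exact h'
  have hMGi : M * Gi = 1 := by
    have h : (G * G⁻¹ : Matrix.SpecialLinearGroup (Fin (n + 2)) F) = 1 := mul_inv_cancel G
    have h' := congrArg Subtype.val h
    rw [Matrix.SpecialLinearGroup.coe_mul] at h'
    exact h'
  let φv : Fin (n + 2) → F := fun i => φ (Pi.single i 1)
  have hTmat : (t : Matrix (Fin (n + 2)) (Fin (n + 2)) F) - 1 = Matrix.vecMulVec v φv := by
    ext i j
    have := congrFun (hT (Pi.single j 1)) i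
    rw [Matrix.toLin'_apply, Matrix.mulVec_single_one] at this
    rw [Matrix.vecMulVec_apply]
    show ((t : Matrix (Fin (n + 2)) (Fin (n + 2)) F) - 1) i j = v i * φ (Pi.single j 1)
    rw [mul_comm]
    exact this
  have hφx : ∀ x : Fin (n + 2) → F, φ x = φv ⬝ᵥ x := by
    intro x
    conv_lhs => rw [← (Pi.basisFun F (Fin (n + 2))).sum_repr x]
    rw [map_sum]
    simp only [dotProduct, φv]
    refine Finset.sum_congr rfl fun i _ => ?_
    rw [map_smul, smul_eq_mul, mul_comm]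
    simp
  have hrow : φv ᵥ* M = Pi.single 0 1 := by
    ext j
    have := hMx (Pi.single j 1)
    rw [hφx, Matrix.mulVec_single_one] at this
    show φv ⬝ᵥ M.col j = _
    rw [this]
    by_cases hj : j = 0
    · subst hj; simp
    · rw [Pi.single_eq_of_ne hj, Pi.single_eq_of_ne (Ne.symm hj)]
  refine ⟨G, Gi *ᵥ v, ?_, ?_⟩
  · have := hMx (Gi *ᵥ v)
    rw [Matrix.mulVec_mulVec, hMGi, Matrix.one_mulVec, hφv] at this
    exact this.symm
  · rw [Matrix.SpecialLinearGroup.coe_mul, Matrix.SpecialLinearGroup.coe_mul]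
    show Gi * (t : Matrix (Fin (n + 2)) (Fin (n + 2)) F) * M = _
    have e : (t : Matrix (Fin (n + 2)) (Fin (n + 2)) F) = 1 + Matrix.vecMulVec v φv := by
      rw [← hTmat]; abel
    rw [e, Matrix.mul_add, Matrix.add_mul, Matrix.mul_one, hGiM, Matrix.mul_vecMulVec,
      Matrix.vecMulVec_mul, hrow]

end Cfsg.Agent.S0839
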