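import Mathlib
import Cfsg.Statements.S0840
import Cfsg.Agent.Lib.Helper24.CharCentral

set_option autoImplicit false
set_option linter.style.haveILetI false
open Cfsg

namespace Cfsg.Agent.S0840

open Cfsg.Agent.Helper24
open scoped ComplexConjugate

section
variable {G : Type*} [Group G] [Fintype G]

open scoped Classical in
theorem sum_conj_eq (a : G) (F : G → ℂ) :
    ∑ z : G, F (z * a * z⁻¹)
      = (Nat.card (Subgroup.centralizer ({a} : Set G)) : ℂ) * ∑ x : G, (if IsConj a x then F x else 0) := by
  classical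
  have h1 : ∀ z : G, F (z * a * z⁻¹) = ∑ x : G, if z * a * z⁻¹ = x then F x else 0 := by
    intro z
    rw [Finset.sum_ite_eq]
    simp
  simp_rw [h1]
  rw [Finset.sum_comm, Finset.mul_sum]
  apply Finset.sum_congr rfl
  intro x _
  rw [← Finset.sum_filter, Finset.sum_const, nsmul_eq_mul]
  have hcard : (Finset.univ.filter (fun z : G => z * a * z⁻¹ = x)).card = Nat.card {z : G // z * a * z⁻¹ = x} := by
    rw [Nat.card_eq_fintype_card, Fintype.card_subtype]
  rw [hcard]
  by_cases hc : IsConj a x
  · rw [if_pos hc, card_conj_eq_of_isConj hc]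
  · rw [if_neg hc, card_conj_eq_zero_of_not_isConj hc]
    simp

theorem card_class_mul_card_centralizer (a : G) :
    (Nat.card {x : G // IsConj a x} : ℂ) * (Nat.card (Subgroup.centralizer ({a} : Set G)) : ℂ) = (Nat.card G : ℂ) := by
  classical
  have h := sum_conj_eq a (fun _ => (1 : ℂ))
  simp only [Finset.sum_const, Finset.card_univ, nsmul_eq_mul, mul_one] at h
  rw [Finset.sum_boole] at h
  have hcard : (Finset.univ.filter (fun x : G => IsConj a x)).card = Nat.card {x : G // IsConj a x} := by
    rw [Nat.card_eq_fintype_card, Fintype.card_subtype]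
  rw [hcard] at h
  rw [Nat.card_eq_fintype_card (α := G), h, mul_comm]

end

/-- Class multiplication coefficients from the character table: for elements a, b, c of a finite group G, the number of ordered pairs (x, y) with x conjugate to a, y conjugate to b and x * y = c equals the product of the sizes of the conjugacy classes of a and b, divided by the order of G, times the sum over the irreducible characters χ of χ a * χ b * conj (χ c) / χ 1. -/
theorem result {G : Type*} [Group G] [Finite G] (a b c : G) : (Nat.card {p : G × G // IsConj a p.1 ∧ IsConj b p.2 ∧ p.1 * p.2 = c} : ℂ) = (Nat.card {x : G // IsConj a x} : ℂ) * (Nat.card {x : G // IsConj b x} : ℂ) / (Nat.card G : ℂ) * ∑ᶠ χ : Cfsg.IrrCharacter G, (χ : G → ℂ) a * (χ : G → ℂ) b * conj ((χ : G → ℂ) c) / (χ : G → ℂ) 1 := by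
  classical
  haveI := Fintype.ofFinite G
  letI := irrFintype (G := G)
  rw [finsum_eq_sum_of_fintype]
  have hG : (Nat.card G : ℂ) ≠ 0 := by
    have : 0 < Nat.card G := Nat.card_pos
    exact_mod_cast this.ne'
  have hCa : (Nat.card (Subgroup.centralizer ({a} : Set G)) : ℂ) ≠ 0 := by
    have : 0 < Nat.card (Subgroup.centralizer ({a} : Set G)) := Nat.card_pos
    exact_mod_cast this.ne'
  have hCb : (Nat.card (Subgroup.centralizer ({b} : Set G)) : ℂ) ≠ 0 := by
    have : 0 < Nat.card (Subgroup.centralizer ({b} : Set G)) := Nat.card_pos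
    exact_mod_cast this.ne'
  -- Step 1: |G| * S = ∑_y ∑_z [z c z⁻¹ = a * (y b y⁻¹)]
  have hS : (Nat.card G : ℂ) * ∑ χ : IrrCharacter G, (χ : G → ℂ) a * (χ : G → ℂ) b * conj ((χ : G → ℂ) c) / (χ : G → ℂ) 1
      = ∑ y : G, ∑ z : G, (if z * c * z⁻¹ = a * (y * b * y⁻¹) then (1 : ℂ) else 0) := by
    have h1 : ∀ χ : IrrCharacter G, (Nat.card G : ℂ) * ((χ : G → ℂ) a * (χ : G → ℂ) b * conj ((χ : G → ℂ) c) / (χ : G → ℂ) 1)
        = ∑ y : G, (χ : G → ℂ) (a * (y * b * y⁻¹)) * conj ((χ : G → ℂ) c) := by
      intro χ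
      rw [← Finset.sum_mul, sum_char_mul_conj χ.2 a b]
      ring
    rw [Finset.mul_sum]
    simp_rw [h1]
    rw [Finset.sum_comm]
    apply Finset.sum_congr rfl
    intro y _
    rw [second_orthogonality, Finset.sum_boole, Nat.card_eq_fintype_card, Fintype.card_subtype]
  -- Step 2: reparametrize
  have hrep : ∑ y : G, ∑ z : G, (if z * c * z⁻¹ = a * (y * b * y⁻¹) then (1 : ℂ) else 0)
      = ∑ z : G, ∑ w : G, (if (z * a * z⁻¹) * (w * b * w⁻¹) = c then (1 : ℂ) else 0) := by
    rw [Finset.sum_comm]
    rw [← Equiv.sum_comp (Equiv.inv G)]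
    apply Finset.sum_congr rfl
    intro z _
    rw [← Equiv.sum_comp (Equiv.mulLeft z⁻¹)]
    apply Finset.sum_congr rfl
    intro w _
    simp only [Equiv.inv_apply, Equiv.coe_mulLeft, inv_inv]
    have : z⁻¹ * c * z = a * (z⁻¹ * w * b * (z⁻¹ * w)⁻¹) ↔ z * a * z⁻¹ * (w * b * w⁻¹) = c := by
      constructor
      · intro h
        have : c = z * (a * (z⁻¹ * w * b * (z⁻¹ * w)⁻¹)) * z⁻¹ := by rw [← h]; group
        rw [this]; group
      · intro h
        rw [← h]; group
    simp only [this]
  -- Step 3: count via classes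
  have hcount : ∑ z : G, ∑ w : G, (if (z * a * z⁻¹) * (w * b * w⁻¹) = c then (1 : ℂ) else 0)
      = (Nat.card (Subgroup.centralizer ({a} : Set G)) : ℂ) * (Nat.card (Subgroup.centralizer ({b} : Set G)) : ℂ)
        * (Nat.card {p : G × G // IsConj a p.1 ∧ IsConj b p.2 ∧ p.1 * p.2 = c} : ℂ) := by
    have h1 : ∀ z : G, ∑ w : G, (if (z * a * z⁻¹) * (w * b * w⁻¹) = c then (1 : ℂ) else 0)
        = (Nat.card (Subgroup.centralizer ({b} : Set G)) : ℂ) * ∑ y : G, (if IsConj b y then (if (z * a * z⁻¹) * y = c then (1 : ℂ) else 0) else 0) := by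
      intro z
      exact sum_conj_eq b (fun y => if (z * a * z⁻¹) * y = c then (1 : ℂ) else 0)
    simp_rw [h1]
    rw [← Finset.mul_sum]
    have h2 := sum_conj_eq a (fun x => ∑ y : G, (if IsConj b y then (if x * y = c then (1 : ℂ) else 0) else 0))
    rw [h2]
    have h3 : ∑ x : G, (if IsConj a x then ∑ y : G, (if IsConj b y then (if x * y = c then (1 : ℂ) else 0) else 0) else 0)
        = (Nat.card {p : G × G // IsConj a p.1 ∧ IsConj b p.2 ∧ p.1 * p.2 = c} : ℂ) := by
      rw [Nat.card_eq_fintype_card, Fintype.card_subtype, ← Finset.sum_boole, Fintype.sum_prod_type]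
      apply Finset.sum_congr rfl
      intro x _
      by_cases hx : IsConj a x
      · rw [if_pos hx]
        apply Finset.sum_congr rfl
        intro y _
        by_cases hy : IsConj b y
        · rw [if_pos hy]
          by_cases hxy : x * y = c
          · rw [if_pos hxy, if_pos ⟨hx, hy, hxy⟩]
          · rw [if_neg hxy, if_neg (fun h => hxy h.2.2)]
        · rw [if_neg hy, if_neg (fun h => hy h.2.1)]
      · rw [if_neg hx]
        symm
        apply Finset.sum_eq_zero
        intro y _
        rw [if_neg (fun h => hx h.1)]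
    rw [h3]
    ring
  have hA := card_class_mul_card_centralizer a
  have hB := card_class_mul_card_centralizer b
  rw [hrep, hcount] at hS
  -- final algebra
  have hkA : (Nat.card {x : G // IsConj a x} : ℂ) = (Nat.card G : ℂ) / (Nat.card (Subgroup.centralizer ({a} : Set G)) : ℂ) := by
    rw [← hA]; field_simp
  have hkB : (Nat.card {x : G // IsConj b x} : ℂ) = (Nat.card G : ℂ) / (Nat.card (Subgroup.centralizer ({b} : Set G)) : ℂ) := by
    rw [← hB]; field_simp
  rw [hkA, hkB]
  field_simp
  linear_combination (-1 : ℂ) * hS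

end Cfsg.Agent.S0840
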