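import Mathlib
import Cfsg.Statements.S0842
import Cfsg.Agent.Lib.Helper16.QuatDerived

set_option autoImplicit false
open Cfsg

namespace Cfsg.Agent.S0842

open Cfsg.Agent.Helper16 in
/-- Suppose a Sylow 2-subgroup S of the finite group G is generalized quaternion of order at least 16, and let D be the commutator subgroup of S, C its centralizer and N its normalizer in G. Then there is a subgroup K of odd order, contained in C and normalized by N, with K ⊔ S = N and K ⊔ (S ⊓ C) = C, and C has index 2 in N. -/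
theorem result {G : Type*} [Group G] [Finite G] (S : Sylow 2 G) (n : ℕ) (e : (S : Subgroup G) ≃* QuaternionGroup (2 ^ (n + 2))) (D : Subgroup G) (hD : D = ⁅(S : Subgroup G), (S : Subgroup G)⁆) : ∃ K : Subgroup G, Odd (Nat.card K) ∧ K ≤ Subgroup.centralizer (D : Set G) ∧ Subgroup.normalizer (D : Set G) ≤ Subgroup.normalizer (K : Set G) ∧ K ⊔ (S : Subgroup G) = Subgroup.normalizer (D : Set G) ∧ K ⊔ ((S : Subgroup G) ⊓ Subgroup.centralizer (D : Set G)) = Subgroup.centralizer (D : Set G) ∧ ((Subgroup.centralizer (D : Set G)).subgroupOf (Subgroup.normalizer (D : Set G))).index = 2 := by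
  obtain ⟨a, h⟩ := exists_isQuatSub (S : Subgroup G) (n + 2) (by omega) e
  have hj3 : 3 ≤ n + 2 + 1 := by omega
  have hDa : D = Subgroup.zpowers (a ^ 2) := by rw [hD, h.derived]
  clear hD
  subst hDa
  obtain ⟨K, hKodd, hKC, hKconj, hdec⟩ := h.exists_normal_complement S hj3
  have hSN := h.le_normalizer
  have hCN : Subgroup.centralizer (Subgroup.zpowers (a ^ 2) : Set G) ≤
      Subgroup.normalizer (Subgroup.zpowers (a ^ 2) : Set G) :=
    Subgroup.centralizer_le_normalizer _
  refine ⟨K, hKodd, hKC, ?_, ?_, ?_, ?_⟩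
  · intro g hg
    exact mem_normalizer_of_conj_mem_finite (hKconj g hg)
  · apply le_antisymm
    · exact sup_le (hKC.trans hCN) hSN
    · intro g hg
      obtain ⟨k, hk, s, hs, rfl⟩ := hdec g hg
      exact Subgroup.mul_mem_sup hk hs
  · apply le_antisymm
    · exact sup_le hKC inf_le_right
    · intro g hg
      obtain ⟨k, hk, s, hs, rfl⟩ := hdec g (hCN hg)
      have hsC : s ∈ Subgroup.centralizer (Subgroup.zpowers (a ^ 2) : Set G) := by
        have := Subgroup.mul_mem _ (Subgroup.inv_mem _ (hKC hk)) hg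
        rwa [inv_mul_cancel_left] at this
      exact Subgroup.mul_mem_sup hk ⟨hs, hsC⟩
  · obtain ⟨y, hyS, hya⟩ := h.exists_out
    rw [Subgroup.index_eq_two_iff]
    refine ⟨⟨y, hSN hyS⟩, fun b => ?_⟩
    obtain ⟨k, hk, s, hs, hb⟩ := hdec b b.2
    have key : ∀ s' ∈ (S : Subgroup G),
        (k * s' ∈ Subgroup.centralizer (Subgroup.zpowers (a ^ 2) : Set G) ↔
          s' ∈ Subgroup.zpowers a) := by
      intro s' hs'
      rw [← h.mem_centralizer_iff hj3 hs']
      constructor
      · intro h1
        have := Subgroup.mul_mem _ (Subgroup.inv_mem _ (hKC hk)) h1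
        rwa [inv_mul_cancel_left] at this
      · intro h1; exact Subgroup.mul_mem _ (hKC hk) h1
    have h1 : (b * ⟨y, hSN hyS⟩ ∈ (Subgroup.centralizer (Subgroup.zpowers (a ^ 2) : Set G)).subgroupOf
        (Subgroup.normalizer (Subgroup.zpowers (a ^ 2) : Set G))) ↔ s * y ∈ Subgroup.zpowers a := by
      rw [Subgroup.mem_subgroupOf, Subgroup.coe_mul, hb, mul_assoc]
      exact key _ (mul_mem hs hyS)
    have h2 : (b ∈ (Subgroup.centralizer (Subgroup.zpowers (a ^ 2) : Set G)).subgroupOf
        (Subgroup.normalizer (Subgroup.zpowers (a ^ 2) : Set G))) ↔ s ∈ Subgroup.zpowers a := by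
      rw [Subgroup.mem_subgroupOf, hb]
      exact key _ hs
    rw [h1, h2]
    by_cases hsa : s ∈ Subgroup.zpowers a
    · right
      refine ⟨hsa, fun h3 => hya ?_⟩
      have := Subgroup.mul_mem _ (Subgroup.inv_mem _ hsa) h3
      rwa [inv_mul_cancel_left] at this
    · left
      exact ⟨h.out_mul s hs y hyS hsa hya, hsa⟩

end Cfsg.Agent.S0842
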