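import Mathlib
import Cfsg.Statements.S0843
import Cfsg.Agent.Lib.Helper16.QuatDerived

set_option autoImplicit false
open Cfsg

namespace Cfsg.Agent.S0843

open Cfsg.Agent.Helper16 in
/-- Suppose a Sylow 2-subgroup S of the finite group G is generalized quaternion of order at least 16; let D be the commutator subgroup of S and X the set of elements of the centralizer of D whose order is divisible by the order of D. Then D is contained in the cyclic subgroup generated by any element of X; an element of G conjugating some element of X into the centralizer of D normalizes D; and the normalizer of D maps X to itself under conjugation. -/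
theorem result {G : Type*} [Group G] [Finite G] (S : Sylow 2 G) (n : ℕ) (e : (S : Subgroup G) ≃* QuaternionGroup (2 ^ (n + 2))) (D : Subgroup G) (hD : D = ⁅(S : Subgroup G), (S : Subgroup G)⁆) : (∀ y : G, y ∈ Subgroup.centralizer (D : Set G) → Nat.card D ∣ orderOf y → D ≤ Subgroup.zpowers y) ∧ (∀ g y : G, y ∈ Subgroup.centralizer (D : Set G) → Nat.card D ∣ orderOf y → g * y * g⁻¹ ∈ Subgroup.centralizer (D : Set G) → g ∈ Subgroup.normalizer (D : Set G)) ∧ (∀ g y : G, g ∈ Subgroup.normalizer (D : Set G) → y ∈ Subgroup.centralizer (D : Set G) → Nat.card D ∣ orderOf y → g * y * g⁻¹ ∈ Subgroup.centralizer (D : Set G) ∧ Nat.card D ∣ orderOf (g * y * g⁻¹)) := by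
  obtain ⟨a, h⟩ := exists_isQuatSub (S : Subgroup G) (n + 2) (by omega) e
  have hj3 : 3 ≤ n + 2 + 1 := by omega
  have hDa : D = Subgroup.zpowers (a ^ 2) := by rw [hD, h.derived]
  clear hD
  subst hDa
  have hcard : Nat.card (Subgroup.zpowers (a ^ 2)) = 2 ^ (n + 2 + 1 - 1) := by
    rw [Nat.card_zpowers, h.orderOf_sq]
  rw [hcard]
  refine ⟨?_, ?_, ?_⟩
  · intro y hy hdvd
    exact h.le_zpowers_of_dvd_orderOf S hj3 hy hdvd
  · intro g y hy hdvd hgy
    exact h.mem_normalizer_of_conj_mem S hj3 hy hdvd hgy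
  · intro g y hg hy hdvd
    have ho : orderOf (g * y * g⁻¹) = orderOf y := by
      have : g * y * g⁻¹ = MulAut.conj g y := by rw [MulAut.conj_apply]
      rw [this, MulEquiv.orderOf_eq]
    refine ⟨?_, by rw [ho]; exact hdvd⟩
    have hgN : ∀ d : G, d ∈ Subgroup.zpowers (a ^ 2) ↔ g * d * g⁻¹ ∈ Subgroup.zpowers (a ^ 2) :=
      Subgroup.mem_normalizer_iff.1 hg
    rw [Subgroup.mem_centralizer_iff]
    intro d hd
    have h1 : g⁻¹ * d * g ∈ Subgroup.zpowers (a ^ 2) := by
      rw [hgN]
      have : g * (g⁻¹ * d * g) * g⁻¹ = d := by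
        simp only [mul_assoc, mul_inv_cancel, mul_one, mul_inv_cancel_left]
      rw [this]; exact hd
    have h2 := (Subgroup.mem_centralizer_iff.1 hy) _ h1
    calc d * (g * y * g⁻¹) = g * (g⁻¹ * d * g * y) * g⁻¹ := by
          simp only [mul_assoc, mul_inv_cancel_left]
      _ = g * (y * (g⁻¹ * d * g)) * g⁻¹ := by rw [h2]
      _ = g * y * g⁻¹ * d := by
          simp only [mul_assoc, mul_inv_cancel, mul_one]

end Cfsg.Agent.S0843
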