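import Mathlib
import Cfsg.Statements.S0845
import Cfsg.Agent.Lib.Helper16.BSQuatNormal

set_option autoImplicit false
open Cfsg

namespace Cfsg.Agent.S0845

/-- Suppose a Sylow 2-subgroup S of the finite group G is generalized quaternion of order at least 16. Then G has a normal subgroup M of even order such that G / M is non-abelian, that is, M does not contain the commutator subgroup of G. -/
theorem result {G : Type*} [Group G] [Finite G] (S : Sylow 2 G) (n : ℕ) (e : (S : Subgroup G) ≃* QuaternionGroup (2 ^ (n + 2))) : ∃ M : Subgroup G, M.Normal ∧ Even (Nat.card M) ∧ ¬ commutator G ≤ M := by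
  obtain ⟨a, ha⟩ := Cfsg.Agent.Helper16.exists_isQuatSub (S : Subgroup G) (n + 2) (by omega) e
  obtain ⟨M, hM, hz, -, hG⟩ := ha.exists_normal_bs S (by omega)
  refine ⟨M, hM, ?_, hG⟩
  have hzo : orderOf (a ^ 2 ^ (n + 2 + 1 - 1)) = 2 := orderOf_eq_prime ha.z_sq ha.z_ne_one
  rw [even_iff_two_dvd, ← hzo]
  exact Subgroup.orderOf_dvd_natCard M hz

end Cfsg.Agent.S0845
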