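import Mathlib
import Cfsg.Statements.S0846
import Cfsg.Agent.Lib.Helper16.BSQuatFinal

set_option autoImplicit false
open Cfsg

namespace Cfsg.Agent.S0846

/-- Suppose a Sylow 2-subgroup S of the finite group G is generalized quaternion of order at least 16. Then every Sylow 2-subgroup of the subgroup generated by the involutions of G is cyclic. -/
theorem result {G : Type*} [Group G] [Finite G] (S : Sylow 2 G) (n : ℕ) (e : (S : Subgroup G) ≃* QuaternionGroup (2 ^ (n + 2))) (Q : Sylow 2 ↥(Subgroup.closure {g : G | orderOf g = 2})) : IsCyclic Q := by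
  have hF : Fact (Nat.Prime 2) := ⟨Nat.prime_two⟩
  obtain ⟨a, ha⟩ := Cfsg.Agent.Helper16.exists_isQuatSub (S : Subgroup G) (n + 2) (by omega) e
  obtain ⟨M, hM, hz, hc, -⟩ := ha.exists_normal_bs S (by omega)
  have hIM : Subgroup.closure {g : G | orderOf g = 2} ≤ M := by
    rw [Subgroup.closure_le]
    intro g hg
    have hg2 : orderOf g = 2 := hg
    obtain ⟨k, hk⟩ := Cfsg.Agent.Helper9.exists_conj_mem_sylow S g ⟨1, by rw [hg2, pow_one]⟩
    have h2 : (k * g * k⁻¹) ^ 2 = 1 := by
      rw [conj_pow, ← hg2, pow_orderOf_eq_one]; group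
    have h1 : k * g * k⁻¹ ≠ 1 := by
      intro h
      have h3 : g = 1 := by
        have : g = k⁻¹ * (k * g * k⁻¹) * k := by group
        rw [this, h]; group
      rw [h3, orderOf_one] at hg2
      norm_num at hg2
    have h3 := ha.eq_z_of_sq_eq_one hk h2 h1
    have h4 : g = k⁻¹ * (k * g * k⁻¹) * k := by group
    have h5 := hM.conj_mem _ hz k⁻¹
    rw [inv_inv] at h5
    rw [SetLike.mem_coe, h4, h3]
    exact h5
  have hR : IsPGroup 2 ((Q : Subgroup _).map (Subgroup.closure {g : G | orderOf g = 2}).subtype) :=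
    Q.2.map _
  have hRM : (Q : Subgroup _).map (Subgroup.closure {g : G | orderOf g = 2}).subtype ≤ M := by
    rintro _ ⟨q, -, rfl⟩
    exact hIM q.2
  obtain ⟨t, ht⟩ := ha.exists_forall_eq_or_of_le_normal S (by omega) M hc _ hR hRM
  apply Cfsg.Agent.Helper16.isCyclic_of_forall_eq_or
    ((Subgroup.closure {g : G | orderOf g = 2}).subtype.comp (Q : Subgroup _).subtype) ?_ t
  · intro x
    exact ht _ ⟨x.1, x.2, rfl⟩
  · intro x y hxy
    apply Subtype.ext
    apply Subtype.ext
    exact hxy

end Cfsg.Agent.S0846
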