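import Mathlib
import Cfsg.Statements.S0849

set_option autoImplicit false
set_option linter.unusedVariables false
open Cfsg

namespace Cfsg.Agent.S0849

open scoped ComplexConjugate

theorem finsum_mem_eq_sum_ite {α M : Type*} [Fintype α] [AddCommMonoid M] (s : Set α)
    [DecidablePred (· ∈ s)] (f : α → M) : ∑ᶠ a ∈ s, f a = ∑ a, if a ∈ s then f a else 0 := by
  rw [finsum_mem_def, finsum_eq_sum_of_fintype]
  apply Finset.sum_congr rfl
  intro a _
  rw [Set.indicator_apply]

theorem extendByZero_coe {G : Type*} [Group G] (H : Subgroup G) (φ : H → ℂ) (h : H) :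
    Cfsg.extendByZero H φ (h : G) = φ h := by
  unfold Cfsg.extendByZero
  exact Subtype.val_injective.extend_apply φ 0 h

theorem extendByZero_of_not_mem {G : Type*} [Group G] (H : Subgroup G) (φ : H → ℂ) (g : G) (hg : g ∉ H) :
    Cfsg.extendByZero H φ g = 0 := by
  unfold Cfsg.extendByZero
  rw [Function.extend_apply']
  · rfl
  · rintro ⟨h, rfl⟩
    exact hg h.2

theorem sq_eq_one_of_isConj {G : Type*} [Group G] {u a : G} (hu : orderOf u = 2) (h : IsConj u a) : a * a = 1 := by
  obtain ⟨g, rfl⟩ := isConj_iff.mp h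
  have : u * u = 1 := by
    have := pow_orderOf_eq_one u
    rw [hu, pow_two] at this
    exact this
  calc g * u * g⁻¹ * (g * u * g⁻¹) = g * (u * u) * g⁻¹ := by group
    _ = 1 := by rw [this]; group

/-- Let H be a subgroup of a finite group G and S a subset of H that is mapped to itself under conjugation by H, is disjoint from its conjugate by any element outside H, and is closed under inverses. Let φ be a class function of H vanishing on H away from S, and let u, v be involutions of G. Then the sum of the induced function of φ over all products a * b with a conjugate to u and b conjugate to v equals the index of H times the sum of φ (a * b) over such pairs with a and b in H. -/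
theorem result {G : Type*} [Group G] [Fintype G] (H : Subgroup G) (S : Set G) (hSH : S ⊆ H) (hHS : ∀ h ∈ H, ∀ s ∈ S, h * s * h⁻¹ ∈ S) (hTI : ∀ g : G, g ∉ H → ∀ s ∈ S, g * s * g⁻¹ ∉ S) (hinv : ∀ s ∈ S, s⁻¹ ∈ S) (φ : H → ℂ) (hφ : Cfsg.IsClassFunction H φ) (hφS : ∀ x : H, (x : G) ∉ S → φ x = 0) (u v : G) (hu : orderOf u = 2) (hv : orderOf v = 2) : ∑ᶠ p ∈ {p : G × G | IsConj u p.1 ∧ IsConj v p.2}, Cfsg.indFun H φ (p.1 * p.2) = (H.index : ℂ) * ∑ᶠ p ∈ {p : H × H | IsConj u (p.1 : G) ∧ IsConj v (p.2 : G)}, φ (p.1 * p.2) := by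
  classical
  have : Fintype H := Fintype.ofFinite _
  set ψ : G → ℂ := Cfsg.extendByZero H φ with hψ
  rw [finsum_mem_eq_sum_ite, finsum_mem_eq_sum_ite]
  simp only [Set.mem_setOf_eq]
  -- step 1: rewrite the left side
  have step1 : ∑ p : G × G, (if IsConj u p.1 ∧ IsConj v p.2 then Cfsg.indFun H φ (p.1 * p.2) else 0)
      = (H.index : ℂ) * ∑ p : G × G, (if IsConj u p.1 ∧ IsConj v p.2 then ψ (p.1 * p.2) else 0) := by
    have h1 : ∀ p : G × G, (if IsConj u p.1 ∧ IsConj v p.2 then Cfsg.indFun H φ (p.1 * p.2) else 0)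
        = (Nat.card H : ℂ)⁻¹ * ∑ x : G, (if IsConj u p.1 ∧ IsConj v p.2 then ψ (x⁻¹ * (p.1 * p.2) * x) else 0) := by
      intro p
      split_ifs with h
      · rfl
      · simp
    simp_rw [h1]
    rw [← Finset.mul_sum, Finset.sum_comm]
    have h2 : ∀ x : G, ∑ p : G × G, (if IsConj u p.1 ∧ IsConj v p.2 then ψ (x⁻¹ * (p.1 * p.2) * x) else 0)
        = ∑ p : G × G, (if IsConj u p.1 ∧ IsConj v p.2 then ψ (p.1 * p.2) else 0) := by
      intro x
      let e : G × G ≃ G × G :=
        { toFun := fun p => (x⁻¹ * p.1 * x, x⁻¹ * p.2 * x)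
          invFun := fun p => (x * p.1 * x⁻¹, x * p.2 * x⁻¹)
          left_inv := fun p => by ext <;> simp [mul_assoc]
          right_inv := fun p => by ext <;> simp [mul_assoc] }
      rw [← Equiv.sum_comp e (fun p : G × G => if IsConj u p.1 ∧ IsConj v p.2 then ψ (p.1 * p.2) else 0)]
      apply Finset.sum_congr rfl
      intro p _
      have c1 : IsConj u (x⁻¹ * p.1 * x) ↔ IsConj u p.1 := by
        constructor
        · intro h
          exact h.trans (isConj_iff.mpr ⟨x, by group⟩)
        · intro h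
          exact h.trans (isConj_iff.mpr ⟨x⁻¹, by group⟩)
      have c2 : IsConj v (x⁻¹ * p.2 * x) ↔ IsConj v p.2 := by
        constructor
        · intro h
          exact h.trans (isConj_iff.mpr ⟨x, by group⟩)
        · intro h
          exact h.trans (isConj_iff.mpr ⟨x⁻¹, by group⟩)
      have c3 : x⁻¹ * p.1 * x * (x⁻¹ * p.2 * x) = x⁻¹ * (p.1 * p.2) * x := by group
      simp only [e, Equiv.coe_fn_mk, c1, c2, c3]
    simp_rw [h2]
    rw [Finset.sum_const, Finset.card_univ, nsmul_eq_mul, ← mul_assoc]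
    congr 1
    have hcard : (Nat.card H : ℂ) * (H.index : ℂ) = (Fintype.card G : ℂ) := by
      rw [← Nat.cast_mul, Subgroup.card_mul_index, Nat.card_eq_fintype_card]
    have hne : (Nat.card H : ℂ) ≠ 0 := by
      have : 0 < Nat.card H := Nat.card_pos
      exact_mod_cast this.ne'
    rw [← hcard]
    field_simp
  rw [step1]
  congr 1
  -- step 2: only pairs in H × H contribute
  symm
  apply Finset.sum_bij_ne_zero (fun (q : H × H) _ _ => ((q.1 : G), (q.2 : G)))
  · intro q _ _
    exact Finset.mem_univ _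
  · intro a _ _ b _ _ hab
    simp only [Prod.mk.injEq] at hab
    exact Prod.ext (Subtype.ext hab.1) (Subtype.ext hab.2)
  · intro p _ hp
    have hp' : (IsConj u p.1 ∧ IsConj v p.2) ∧ ψ (p.1 * p.2) ≠ 0 := by
      by_cases h : IsConj u p.1 ∧ IsConj v p.2
      · rw [if_pos h] at hp
        exact ⟨h, hp⟩
      · rw [if_neg h] at hp
        exact absurd rfl hp
    obtain ⟨⟨hc1, hc2⟩, hne⟩ := hp'
    have hmemH : p.1 * p.2 ∈ H := by
      by_contra h
      exact hne (extendByZero_of_not_mem H φ _ h)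
    have hval : ψ (p.1 * p.2) = φ ⟨p.1 * p.2, hmemH⟩ := extendByZero_coe H φ ⟨p.1 * p.2, hmemH⟩
    have hS : p.1 * p.2 ∈ S := by
      by_contra h
      apply hne
      rw [hval]
      exact hφS ⟨p.1 * p.2, hmemH⟩ h
    have h11 : p.1 * p.1 = 1 := sq_eq_one_of_isConj hu hc1
    have h22 : p.2 * p.2 = 1 := sq_eq_one_of_isConj hv hc2
    have h1inv : p.1⁻¹ = p.1 := inv_eq_of_mul_eq_one_left h11
    have h2inv : p.2⁻¹ = p.2 := inv_eq_of_mul_eq_one_left h22
    have hconj : p.1 * (p.1 * p.2) * p.1⁻¹ = (p.1 * p.2)⁻¹ := by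
      rw [mul_inv_rev, h1inv, h2inv, ← mul_assoc, h11, one_mul]
    have hp1H : p.1 ∈ H := by
      by_contra h
      apply hTI p.1 h (p.1 * p.2) hS
      rw [hconj]
      exact hinv _ hS
    have hp2H : p.2 ∈ H := by
      have : p.2 = p.1⁻¹ * (p.1 * p.2) := by group
      rw [this]
      exact H.mul_mem (H.inv_mem hp1H) hmemH
    refine ⟨(⟨p.1, hp1H⟩, ⟨p.2, hp2H⟩), Finset.mem_univ _, ?_, rfl⟩
    simp only [hc1, hc2, and_self, if_true]
    have : φ (⟨p.1, hp1H⟩ * ⟨p.2, hp2H⟩) = ψ (p.1 * p.2) := by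
      rw [hval]; rfl
    rw [this]
    exact hne
  · intro q _ _
    have : ψ ((q.1 : G) * (q.2 : G)) = φ (q.1 * q.2) := extendByZero_coe H φ (q.1 * q.2)
    simp only [this]

end Cfsg.Agent.S0849
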