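import Mathlib
import Cfsg.Statements.S0859
import Cfsg.Agent.Lib.Helper5.AMonomial

set_option autoImplicit false
open Cfsg
open Cfsg.Agent.Helper5 Cfsg.Agent.Helper24 Cfsg.Agent.Helper18

namespace Cfsg.Agent.S0859

/-- Let G be a finite solvable group and N a normal subgroup such that for every prime p every Sylow p-subgroup of N is abelian. Suppose every irreducible character of G is induced from an irreducible character of some subgroup containing N whose restriction to N is irreducible. Then every irreducible character of G is induced from a character of degree 1 of some subgroup. -/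
theorem result {G : Type*} [Group G] [Fintype G] [Group.IsSolvable G] (N : Subgroup G) [N.Normal] (hab : ∀ (p : ℕ) [Fact p.Prime] (P : Sylow p N), ∀ a ∈ P, ∀ b ∈ P, a * b = b * a) (hrel : ∀ χ : G → ℂ, Cfsg.IsIrrCharacter G χ → ∃ (H : Subgroup G) (hNH : N ≤ H) (ψ : H → ℂ), Cfsg.IsIrrCharacter H ψ ∧ Cfsg.indFun H ψ = χ ∧ Cfsg.IsIrrCharacter N (fun n : N => ψ ⟨(n : G), hNH n.2⟩)) (χ : G → ℂ) (hχ : Cfsg.IsIrrCharacter G χ) : ∃ (U : Subgroup G) (lam : U → ℂ), Cfsg.IsCharacter U lam ∧ lam 1 = 1 ∧ Cfsg.indFun U lam = χ := by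
  classical
  have hA : AbelianPSub G N := by
    intro p hp Q hQN hQ a ha b hb
    haveI : Fact p.Prime := ⟨hp⟩
    have hQ' : IsPGroup p (Q.subgroupOf N) := hQ.comap_subtype
    obtain ⟨P, hP⟩ := hQ'.exists_le_sylow
    have h1 := hab p P ⟨a, hQN ha⟩ (hP (Subgroup.mem_subgroupOf.2 ha)) ⟨b, hQN hb⟩
      (hP (Subgroup.mem_subgroupOf.2 hb))
    exact congrArg Subtype.val h1
  obtain ⟨H, hNH, ψ, hψ, hind, hres⟩ := hrel χ hχ
  letI : Fintype H := Fintype.ofFinite H
  haveI : (N.subgroupOf H).Normal := Subgroup.normal_subgroupOf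
  let eN : ↥(N.subgroupOf H) ≃* ↥N := Subgroup.subgroupOfEquivOfLe hNH
  have hres' : IsIrrCharacter ↥(N.subgroupOf H) (fun k : N.subgroupOf H => ψ k) :=
    isIrrCharacter_comp_equiv eN hres
  have hsolvH : Group.IsSolvable H := inferInstance
  have hmono := monomial_aux (Nat.card H) H (N.subgroupOf H) hsolvH (hA.subgroup H) rfl ψ hψ hres'
  exact Monomial.of_subgroup H hind hmono

end Cfsg.Agent.S0859
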