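import Mathlib
import Cfsg.Statements.S0860
import Cfsg.Agent.Lib.Helper24.CharCentral

set_option autoImplicit false
set_option linter.style.haveILetI false
open Cfsg

namespace Cfsg.Agent.S0860

open Cfsg.Agent.Helper24
open scoped ComplexConjugate

/-- Let a group A act on the set of irreducible characters and on the set of conjugacy classes of a finite group G in such a way that (a • χ) evaluated on the class a • C equals χ evaluated on C, for all a, χ and C. Then every element of A fixes exactly as many irreducible characters as it fixes conjugacy classes. -/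
theorem result {G : Type*} [Group G] [Finite G] {A : Type*} [Group A] [MulAction A (Cfsg.IrrCharacter G)] [MulAction A (ConjClasses G)] (hcompat : ∀ (a : A) (χ : Cfsg.IrrCharacter G) (g g' : G), ConjClasses.mk g' = a • ConjClasses.mk g → ((a • χ : Cfsg.IrrCharacter G) : G → ℂ) g' = (χ : G → ℂ) g) (a : A) : Nat.card {χ : Cfsg.IrrCharacter G // a • χ = χ} = Nat.card {C : ConjClasses G // a • C = C} := by
  classical
  haveI := Fintype.ofFinite G
  letI := irrFintype (G := G)
  haveI : Fintype (ConjClasses G) := Fintype.ofFinite _
  let rep : ConjClasses G → G := Function.surjInv ConjClasses.mk_surjective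
  have hrep : ∀ C, ConjClasses.mk (rep C) = C := Function.surjInv_eq _
  let X : Matrix (IrrCharacter G) (ConjClasses G) ℂ := fun χ C => (χ : G → ℂ) (rep C)
  let Y : Matrix (ConjClasses G) (IrrCharacter G) ℂ := fun C χ =>
    conj ((χ : G → ℂ) (rep C)) / (Nat.card (Subgroup.centralizer ({rep C} : Set G)) : ℂ)
  have hYX : Y * X = 1 := by
    ext C C'
    rw [Matrix.mul_apply, Matrix.one_apply]
    have h := second_orthogonality' (rep C') (rep C)
    have hpos : (Nat.card (Subgroup.centralizer ({rep C} : Set G)) : ℂ) ≠ 0 := by
      have : 0 < Nat.card (Subgroup.centralizer ({rep C} : Set G)) := Nat.card_pos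
      exact_mod_cast this.ne'
    have e : ∑ χ : IrrCharacter G, Y C χ * X χ C'
        = (∑ χ : IrrCharacter G, (χ : G → ℂ) (rep C') * conj ((χ : G → ℂ) (rep C)))
          / (Nat.card (Subgroup.centralizer ({rep C} : Set G)) : ℂ) := by
      rw [Finset.sum_div]
      apply Finset.sum_congr rfl
      intro χ _
      simp only [X, Y]
      ring
    rw [e, h]
    have hiff : IsConj (rep C) (rep C') ↔ C = C' := by
      rw [← ConjClasses.mk_eq_mk_iff_isConj, hrep, hrep]
    by_cases hc : C = C'
    · rw [if_pos (hiff.mpr hc), if_pos hc, div_self hpos]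
    · rw [if_neg (fun h => hc (hiff.mp h)), if_neg hc, zero_div]
  have hcard : Fintype.card (IrrCharacter G) = Fintype.card (ConjClasses G) := by
    have := card_irr_eq_card_conjClasses (G := G)
    rwa [Nat.card_eq_fintype_card, Nat.card_eq_fintype_card] at this
  have hXY : X * Y = 1 := (Matrix.mul_eq_one_comm_of_card_eq (ConjClasses G) (IrrCharacter G) ℂ hcard.symm).mp hYX
  have hcompat' : ∀ (χ : IrrCharacter G) (C : ConjClasses G), X (a • χ) C = X χ (a⁻¹ • C) := by
    intro χ C
    simp only [X]
    apply hcompat a χ (rep (a⁻¹ • C)) (rep C)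
    rw [hrep, hrep, smul_inv_smul]
  have h1 : (Nat.card {χ : IrrCharacter G // a • χ = χ} : ℂ) = ∑ χ : IrrCharacter G, (X * Y) (a • χ) χ := by
    rw [hXY, Nat.card_eq_fintype_card, Fintype.card_subtype]
    simp only [Matrix.one_apply]
    rw [Finset.sum_boole]
  have h2 : (Nat.card {C : ConjClasses G // a • C = C} : ℂ) = ∑ C : ConjClasses G, (Y * X) C (a⁻¹ • C) := by
    rw [hYX, Nat.card_eq_fintype_card, Fintype.card_subtype]
    simp only [Matrix.one_apply]
    rw [Finset.sum_boole]
    congr 2
    ext C
    simp only [Finset.mem_filter, Finset.mem_univ, true_and]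
    constructor
    · intro h
      rw [eq_inv_smul_iff]; exact h
    · intro h
      rw [eq_inv_smul_iff] at h; exact h
  have h3 : ∑ χ : IrrCharacter G, (X * Y) (a • χ) χ = ∑ C : ConjClasses G, (Y * X) C (a⁻¹ • C) := by
    simp only [Matrix.mul_apply]
    rw [Finset.sum_comm]
    apply Finset.sum_congr rfl
    intro C _
    apply Finset.sum_congr rfl
    intro χ _
    rw [hcompat', mul_comm]
  have := h1.trans (h3.trans h2.symm)
  exact_mod_cast this

end Cfsg.Agent.S0860
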