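import Mathlib
import Cfsg.Statements.S0861
import Cfsg.Agent.Lib.Helper5.Clifford2
import Cfsg.Agent.Lib.Helper24.CharAbelian
import Cfsg.Agent.Lib.Helper23.CharValues
import Cfsg.Agent.Lib.Helper23.GaloisChar

set_option autoImplicit false
open Cfsg

namespace Cfsg.Agent.S0861

open Cfsg.Agent.Helper5 Cfsg.Agent.Helper24 Cfsg.Agent.Helper23
open scoped ComplexConjugate

/-- A linear character of a `p`-group takes `|P|`-th roots of unity as values. -/
theorem linear_pow_card {N : Type*} [Group N] [Finite N] {lam : N → ℂ} (hlam : IsCharacter N lam)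
    (h1 : lam 1 = 1) (x : N) : lam x ^ Nat.card N = 1 := by
  have := char_mul_of_degree_one hlam h1
  have hpow : ∀ k : ℕ, lam (x ^ k) = lam x ^ k := by
    intro k
    induction k with
    | zero => simp [h1]
    | succ k ih => rw [pow_succ, this, ih, pow_succ]
  rw [← hpow, pow_card_eq_one', h1]

/-- Irreducible characters do not vanish on a normal abelian Sylow subgroup. -/
theorem char_ne_zero {G : Type*} [Group G] [Fintype G] (p : ℕ) [Fact p.Prime] (P : Sylow p G)
    [hPn : (P : Subgroup G).Normal] (hab : ∀ a ∈ P, ∀ b ∈ P, a * b = b * a) {χ : G → ℂ}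
    (hχ : IsIrrCharacter G χ) (g : G) (hg : g ∈ P) : χ g ≠ 0 := by
  classical
  have hp : p.Prime := Fact.out
  letI : Fintype (P : Subgroup G) := Fintype.ofFinite _
  letI : Fintype (G ⧸ (P : Subgroup G)) := Fintype.ofFinite _
  set N : Subgroup G := (P : Subgroup G) with hN
  have hχN : IsCharacter N (fun n : N => χ n) :=
    isCharacter_restrict N (isCharacter_of_isIrrCharacter hχ)
  have hne : (fun n : N => χ n) ≠ 0 := by
    intro h
    have h1 := congrFun h 1
    simp only [Pi.zero_apply, Subgroup.coe_one] at h1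
    obtain ⟨n, hn, hn1⟩ := irr_one_eq hχ
    rw [hn1] at h1
    have : n = 0 := by exact_mod_cast h1
    omega
  obtain ⟨lam, hlam, hcon⟩ := exists_constituent hχN hne
  letI := irrFintype (G := N)
  have hlam1 : lam 1 = 1 := by
    have hcomm : ∀ a b : N, a * b = b * a := by
      intro a b
      apply Subtype.ext
      exact hab a a.2 b b.2
    rw [irr_one_eq_charDegree hlam, charDegree_eq_one_of_comm hcomm hlam, Nat.cast_one]
  have hlamc : IsCharacter N lam := isCharacter_of_isIrrCharacter hlam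
  have key := clifford_orbit_sum N hχ hlam hcon
  have key2 := congrFun key ⟨g, hg⟩
  simp only [Pi.smul_apply, Finset.sum_apply, smul_eq_mul] at key2
  -- the orbit sum is a sum over cosets
  set F : G → ℂ := fun x => conjFun N x lam ⟨g, hg⟩ with hF
  have hFconst : ∀ x : G, ∀ h ∈ N, F (x * h) = F x := by
    intro x h hh
    simp only [hF, conjFun_apply]
    congr 1
    apply Subtype.ext
    show x * h * g * (x * h)⁻¹ = x * g * x⁻¹
    have : h * g = g * h := hab h hh g hg
    calc x * h * g * (x * h)⁻¹ = x * (h * g) * h⁻¹ * x⁻¹ := by group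
      _ = x * (g * h) * h⁻¹ * x⁻¹ := by rw [this]
      _ = x * g * x⁻¹ := by group
  have hsum := sum_eq_card_mul_sum_quotient N F hFconst
  -- the coset sum is a nonzero sum of roots of unity
  set s : Multiset ℂ := (Finset.univ : Finset (G ⧸ N)).val.map (fun q => F q.out) with hs
  have hscard : Multiset.card s = N.index := by
    rw [hs, Multiset.card_map]
    show (Finset.univ : Finset (G ⧸ N)).card = N.index
    rw [Finset.card_univ, Subgroup.index, Nat.card_eq_fintype_card]
  obtain ⟨j, hj⟩ := IsPGroup.iff_card.mp P.isPGroup'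
  have hsroot : ∀ μ ∈ s, μ ^ (p ^ j) = 1 := by
    intro μ hμ
    rw [hs, Multiset.mem_map] at hμ
    obtain ⟨q, -, rfl⟩ := hμ
    rw [← hj]
    exact linear_pow_card hlamc hlam1 _
  have hssum : s.sum ≠ 0 := by
    intro h0
    have := prime_dvd_card_of_sum_roots_of_unity_eq_zero p hp j s hsroot h0
    rw [hscard] at this
    exact P.not_dvd_index this
  have hssum' : ∑ q : G ⧸ N, F q.out = s.sum := rfl
  intro hχg
  rw [hχg, mul_zero] at key2
  have hN0 : (Nat.card N : ℂ) ≠ 0 := by
    exact_mod_cast (Nat.card_pos (α := N)).ne'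
  have : ∑ x : G, F x = 0 := by
    rcases mul_eq_zero.mp key2.symm with h | h
    · exact absurd h hcon
    · exact h
  rw [hsum, hssum'] at this
  rcases mul_eq_zero.mp this with h | h
  · exact hN0 h
  · exact hssum h

theorem centralizer_pow_eq {G : Type*} [Group G] [Finite G] (g : G) (k : ℕ)
    (hk : Nat.Coprime k (Nat.card G)) :
    Subgroup.centralizer ({g ^ k} : Set G) = Subgroup.centralizer ({g} : Set G) := by
  have hk' : Nat.Coprime k (orderOf g) :=
    Nat.Coprime.coprime_dvd_right (orderOf_dvd_natCard g) hk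
  obtain ⟨m, hm⟩ := exists_pow_eq_self_of_coprime hk'
  apply le_antisymm
  · intro x hx
    rw [Subgroup.mem_centralizer_singleton_iff] at hx ⊢
    rw [← hm]
    exact (Commute.pow_right (show Commute x (g ^ k) from hx) m)
  · intro x hx
    rw [Subgroup.mem_centralizer_singleton_iff] at hx ⊢
    exact (Commute.pow_right (show Commute x g from hx) k)

/-- Real form of the second orthogonality relation. -/
theorem sum_norm_sq_eq {G : Type*} [Group G] [Fintype G] [Fintype (IrrCharacter G)] (x : G) :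
    ∑ χ : IrrCharacter G, ‖(χ : G → ℂ) x‖ ^ 2 =
      (Nat.card (Subgroup.centralizer ({x} : Set G)) : ℝ) := by
  classical
  have h := second_orthogonality' x x
  rw [if_pos (IsConj.refl x)] at h
  have h2 : ∀ χ : IrrCharacter G, (χ : G → ℂ) x * conj ((χ : G → ℂ) x) =
      ((‖(χ : G → ℂ) x‖ ^ 2 : ℝ) : ℂ) := by
    intro χ
    rw [Complex.mul_conj, Complex.normSq_eq_norm_sq]
  simp only [h2] at h
  rw [← Complex.ofReal_sum] at h
  have h3 : ((Nat.card (Subgroup.centralizer ({x} : Set G)) : ℝ) : ℂ) =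
      (Nat.card (Subgroup.centralizer ({x} : Set G)) : ℂ) := by push_cast; rfl
  rw [← h3] at h
  exact Complex.ofReal_injective h

/-- Let P be a normal abelian Sylow p-subgroup of the finite group G and suppose some element g of P has centralizer exactly P. Then the number of irreducible characters of G is at most the order of P, and if equality holds then G / P is abelian (the commutator subgroup lies in P). -/
theorem result {G : Type*} [Group G] [Finite G] (p : ℕ) [Fact p.Prime] (P : Sylow p G) [(P : Subgroup G).Normal] (hab : ∀ a ∈ P, ∀ b ∈ P, a * b = b * a) (g : G) (hg : g ∈ P) (hC : Subgroup.centralizer ({g} : Set G) = P) : Nat.card (Cfsg.IrrCharacter G) ≤ Nat.card P ∧ (Nat.card (Cfsg.IrrCharacter G) = Nat.card P → commutator G ≤ P) := by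
  classical
  letI : Fintype G := Fintype.ofFinite G
  letI := irrFintype (G := G)
  set n := Nat.card G with hn
  have hnpos : 0 < n := Nat.card_pos
  set Φ := (Finset.range n).filter (fun k => Nat.Coprime k n) with hΦ
  have hΦne : Φ.Nonempty := by
    refine ⟨1 % n, ?_⟩
    rw [hΦ, Finset.mem_filter, Finset.mem_range]
    refine ⟨Nat.mod_lt _ hnpos, ?_⟩
    rcases Nat.lt_or_ge 1 n with h | h
    · rw [Nat.mod_eq_of_lt h]; exact Nat.coprime_one_left n
    · have : n = 1 := by omega
      rw [this]; exact Nat.coprime_one_right _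
  have hΦpos : (0 : ℝ) < Φ.card := by exact_mod_cast hΦne.card_pos
  let a : IrrCharacter G → ℝ := fun χ => ∑ k ∈ Φ, ‖(χ : G → ℂ) (g ^ k)‖ ^ 2
  have ha : ∀ χ, (Φ.card : ℝ) ≤ a χ := by
    intro χ
    obtain ⟨m, ρ, hρ, hχρ⟩ := χ.2
    have h1 := card_le_sum_normSq_char_pow ρ g
      (by rw [hχρ]; exact char_ne_zero p P hab χ.2 g hg)
    simp only [hχρ] at h1
    exact h1
  have hsum : ∑ χ, a χ = Φ.card * Nat.card P := by
    show ∑ χ : IrrCharacter G, ∑ k ∈ Φ, ‖(χ : G → ℂ) (g ^ k)‖ ^ 2 = _
    rw [Finset.sum_comm]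
    have : ∀ k ∈ Φ, ∑ χ : IrrCharacter G, ‖(χ : G → ℂ) (g ^ k)‖ ^ 2 = (Nat.card P : ℝ) := by
      intro k hk
      rw [sum_norm_sq_eq, centralizer_pow_eq g k (Finset.mem_filter.mp hk).2, hC]
    rw [Finset.sum_congr rfl this, Finset.sum_const, nsmul_eq_mul]
  have hle : (Nat.card (IrrCharacter G) : ℝ) * Φ.card ≤ Φ.card * Nat.card P := by
    rw [← hsum, Nat.card_eq_fintype_card, ← Finset.card_univ, ← nsmul_eq_mul, ← Finset.sum_const]
    exact Finset.sum_le_sum (fun χ _ => ha χ)
  have hle2 : (Nat.card (IrrCharacter G) : ℝ) ≤ Nat.card P := by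
    rw [mul_comm] at hle
    exact le_of_mul_le_mul_left hle hΦpos
  refine ⟨by exact_mod_cast hle2, ?_⟩
  intro heq
  -- all a χ are equal to |Φ|
  have haeq : ∀ χ, a χ = Φ.card := by
    have h0 : ∑ χ : IrrCharacter G, (a χ - Φ.card) = 0 := by
      rw [Finset.sum_sub_distrib, hsum, Finset.sum_const, Finset.card_univ, nsmul_eq_mul,
        ← Nat.card_eq_fintype_card, heq]
      ring
    have h1 := (Finset.sum_eq_zero_iff_of_nonneg
      (fun χ _ => sub_nonneg.mpr (ha χ))).mp h0
    intro χ
    have := h1 χ (Finset.mem_univ χ)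
    linarith
  -- so G ⧸ P has only linear characters
  set N : Subgroup G := (P : Subgroup G) with hN
  letI := irrFintype (G := G ⧸ N)
  letI : Fintype (G ⧸ N) := Fintype.ofFinite _
  have hlin : ∀ ψ : IrrCharacter (G ⧸ N), charDegree (ψ : G ⧸ N → ℂ) = 1 := by
    intro ψ
    have hχ := isIrrCharacter_inflate N ψ.2
    have h1 := haeq ⟨_, hχ⟩
    have h2 : ∀ k ∈ Φ, ‖((ψ : G ⧸ N → ℂ) ∘ (QuotientGroup.mk : G → G ⧸ N)) (g ^ k)‖ ^ 2 =
        ((charDegree (ψ : G ⧸ N → ℂ) : ℝ)) ^ 2 := by
      intro k _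
      have : (QuotientGroup.mk (g ^ k) : G ⧸ N) = 1 := by
        rw [QuotientGroup.eq_one_iff]
        exact Subgroup.pow_mem _ hg k
      rw [Function.comp_apply, this, irr_one_eq_charDegree ψ.2, Complex.norm_natCast]
    have h3 : a ⟨_, hχ⟩ = Φ.card * ((charDegree (ψ : G ⧸ N → ℂ) : ℝ)) ^ 2 := by
      show ∑ k ∈ Φ, ‖((ψ : G ⧸ N → ℂ) ∘ (QuotientGroup.mk : G → G ⧸ N)) (g ^ k)‖ ^ 2 = _
      rw [Finset.sum_congr rfl h2, Finset.sum_const, nsmul_eq_mul]
    rw [h3] at h1
    have h4 : ((charDegree (ψ : G ⧸ N → ℂ) : ℝ)) ^ 2 = 1 := by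
      have := mul_left_cancel₀ hΦpos.ne' (h1.trans (mul_one _).symm)
      exact this
    have h5 : (charDegree (ψ : G ⧸ N → ℂ)) ^ 2 = 1 := by exact_mod_cast h4
    exact (pow_eq_one_iff_of_nonneg (Nat.zero_le _) two_ne_zero).mp h5
  have hcomm := comm_of_forall_charDegree_eq_one hlin
  rw [commutator_def, Subgroup.commutator_le]
  intro x _ y _
  rw [commutatorElement_def]
  show x * y * x⁻¹ * y⁻¹ ∈ N
  rw [← QuotientGroup.eq_one_iff]
  simp only [QuotientGroup.mk_mul, QuotientGroup.mk_inv]
  rw [hcomm (x : G ⧸ N) (y : G ⧸ N)]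
  group

end Cfsg.Agent.S0861
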