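import Mathlib
import Cfsg.Statements.S0864
import Cfsg.Agent.Lib.Helper5.TransferInv
import Cfsg.Agent.Lib.Helper24.CharLinear
import Cfsg.Agent.Lib.Helper24.CharAlgebra

set_option autoImplicit false
open Cfsg

namespace Cfsg.Agent.S0864

open Cfsg.Agent.Helper5 Cfsg.Agent.Helper24

/-- The exponents `k` such that `L ^ k` extends to a homomorphism on `G`. -/
def extSubgroup {G : Type*} [Group G] (N : Subgroup G) (L : N →* ℂˣ) : AddSubgroup ℤ where
  carrier := {k | ∃ μ : G →* ℂˣ, ∀ n : N, μ (n : G) = L n ^ k}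
  zero_mem' := ⟨1, fun n => by simp⟩
  add_mem' := by
    rintro a b ⟨μ₁, h₁⟩ ⟨μ₂, h₂⟩
    refine ⟨μ₁ * μ₂, fun n => ?_⟩
    rw [MonoidHom.mul_apply, h₁, h₂, zpow_add]
  neg_mem' := by
    rintro a ⟨μ, h⟩
    refine ⟨μ⁻¹, fun n => ?_⟩
    rw [MonoidHom.inv_apply, h, zpow_neg]

/-- Let N be a normal subgroup of the finite group G and λ a character of N of degree 1 invariant under conjugation by G. Suppose that for every prime p dividing the order of λ (in the group of functions under pointwise multiplication) there is a subgroup H containing N, of index prime to p and with the index of N in H a power of p, together with a character of H of degree 1 restricting to λ. Then λ is the restriction of a character of G of degree 1. -/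
theorem result {G : Type*} [Group G] [Finite G] (N : Subgroup G) [hN : N.Normal] (lam : N → ℂ) (hlam : Cfsg.IsCharacter N lam ∧ lam 1 = 1) (hinv : ∀ (g : G) (n : N), lam ⟨g * n * g⁻¹, hN.conj_mem (n : G) n.2 g⟩ = lam n) (hsyl : ∀ p : ℕ, p.Prime → p ∣ orderOf lam → ∃ (H : Subgroup G) (hNH : N ≤ H) (ν : H → ℂ), Nat.Coprime H.index p ∧ (∃ k : ℕ, N.relIndex H = p ^ k) ∧ Cfsg.IsCharacter H ν ∧ ν 1 = 1 ∧ ∀ n : N, ν ⟨(n : G), hNH n.2⟩ = lam n) : ∃ μ : G → ℂ, Cfsg.IsCharacter G μ ∧ μ 1 = 1 ∧ ∀ n : N, μ n = lam n := by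
  classical
  set a := orderOf lam with ha
  let L : N →* ℂˣ := linHom hlam.1 hlam.2
  have hL : ∀ n : N, ((L n : ℂˣ) : ℂ) = lam n := fun n => rfl
  have hLa : ∀ n : N, L n ^ a = 1 := by
    intro n
    apply Units.ext
    rw [Units.val_pow_eq_pow_val, hL, Units.val_one]
    have := congrFun (pow_orderOf_eq_one lam) n
    rwa [Pi.pow_apply, Pi.one_apply] at this
  -- the order of lam is positive
  have hapos : 0 < a := by
    apply orderOf_pos_iff.mpr
    rw [isOfFinOrder_iff_pow_eq_one]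
    refine ⟨Nat.card N, Nat.card_pos, ?_⟩
    funext n
    rw [Pi.pow_apply, Pi.one_apply]
    have hmul := char_mul_of_degree_one hlam.1 hlam.2
    have hpow : ∀ k : ℕ, lam (n ^ k) = lam n ^ k := by
      intro k
      induction k with
      | zero => simp [hlam.2]
      | succ k ih => rw [pow_succ, hmul, ih, pow_succ]
    rw [← hpow, pow_card_eq_one', hlam.2]
  set I := extSubgroup N L with hI
  have haI : (a : ℤ) ∈ I := ⟨1, fun n => by rw [zpow_natCast, hLa]; rfl⟩
  have hpI : ∀ p : ℕ, p.Prime → p ∣ a → ∃ j : ℕ, Nat.Coprime j p ∧ (j : ℤ) ∈ I := by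
    intro p hp hpa
    obtain ⟨H, hNH, ν, hcop, -, hν, hν1, hνres⟩ := hsyl p hp hpa
    refine ⟨H.index, hcop, ?_⟩
    let V : H →* ℂˣ := linHom hν hν1
    have hV : ∀ h : H, ((V h : ℂˣ) : ℂ) = ν h := fun h => rfl
    have hVN : ∀ n : N, V ⟨n, hNH n.2⟩ = L n := by
      intro n
      apply Units.ext
      rw [hV, hL, hνres]
    have hVinv : ∀ (g : G) (n : N), V ⟨g⁻¹ * n * g, hNH (by
        have := hN.conj_mem (n : G) n.2 g⁻¹
        rwa [inv_inv] at this)⟩ = V ⟨n, hNH n.2⟩ := by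
      intro g n
      have hmem : g⁻¹ * (n : G) * g ∈ N := by
        have := hN.conj_mem (n : G) n.2 g⁻¹
        rwa [inv_inv] at this
      have h1 := hVN ⟨g⁻¹ * n * g, hmem⟩
      simp only at h1
      rw [h1, hVN]
      apply Units.ext
      rw [hL, hL]
      have := hinv g⁻¹ n
      simp only [inv_inv] at this
      exact this
    refine ⟨MonoidHom.transfer V, fun n => ?_⟩
    rw [transfer_invariant_apply' N H hNH V hVinv n, hVN, zpow_natCast]
  -- I = dℤ with d a unit
  obtain ⟨d, hd⟩ := Int.subgroup_cyclic I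
  have hmemd : ∀ k : ℤ, k ∈ I ↔ d ∣ k := by
    intro k
    rw [hd, AddSubgroup.mem_closure_singleton]
    constructor
    · rintro ⟨c, rfl⟩
      exact ⟨c, by rw [smul_eq_mul, mul_comm]⟩
    · rintro ⟨c, rfl⟩
      exact ⟨c, by rw [smul_eq_mul, mul_comm]⟩
  have hda : d ∣ (a : ℤ) := (hmemd _).mp haI
  have hdabs : d.natAbs = 1 := by
    by_contra hne
    obtain ⟨r, hr, hrd⟩ := Nat.exists_prime_and_dvd hne
    have hra : r ∣ a := by
      have h1 : (d.natAbs : ℤ) ∣ (a : ℤ) := Int.natAbs_dvd.mpr hda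
      exact hrd.trans (Int.natCast_dvd_natCast.mp h1)
    obtain ⟨j, hjcop, hjI⟩ := hpI r hr hra
    have hdj : d ∣ (j : ℤ) := (hmemd _).mp hjI
    have hrj : r ∣ j := by
      have h1 : (d.natAbs : ℤ) ∣ (j : ℤ) := Int.natAbs_dvd.mpr hdj
      exact hrd.trans (Int.natCast_dvd_natCast.mp h1)
    have := Nat.Coprime.eq_one_of_dvd hjcop.symm hrj
    exact hr.one_lt.ne' this
  have h1I : (1 : ℤ) ∈ I := by
    rw [hmemd]
    exact Int.natAbs_dvd_natAbs.mp (by rw [hdabs]; exact one_dvd _)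
  obtain ⟨μh, hμh⟩ := h1I
  refine ⟨fun g => ((μh g : ℂˣ) : ℂ),
    isCharacter_of_isIrrCharacter (isIrrCharacter_of_monoidHom μh), ?_, ?_⟩
  · show ((μh 1 : ℂˣ) : ℂ) = 1
    rw [map_one, Units.val_one]
  · intro n
    show ((μh (n : G) : ℂˣ) : ℂ) = lam n
    rw [hμh, zpow_one, hL]

end Cfsg.Agent.S0864
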