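import Mathlib
import Cfsg.Statements.S0869

set_option autoImplicit false
open Cfsg

namespace Cfsg.Agent.S0869

/-- an additive subgroup of ℤ not containing 1 lies in pℤ for some prime p -/
theorem exists_prime_dvd_of_one_not_mem (H : AddSubgroup ℤ) (h1 : (1 : ℤ) ∉ H) :
    ∃ p : ℕ, p.Prime ∧ ∀ a ∈ H, (p : ℤ) ∣ a := by
  obtain ⟨g, hg⟩ := (H.isAddCyclic_iff_exists_zmultiples_eq_top).mp inferInstance
  have hgH : g ∈ H := by rw [← hg]; exact AddSubgroup.mem_zmultiples g
  have hall : ∀ a ∈ H, (g : ℤ) ∣ a := by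
    intro a ha
    rw [← hg] at ha
    obtain ⟨k, hk⟩ := AddSubgroup.mem_zmultiples_iff.mp ha
    exact ⟨k, by rw [← hk]; simp [mul_comm]⟩
  have hg1 : (g : ℤ).natAbs ≠ 1 := by
    intro h
    apply h1
    rcases Int.natAbs_eq_iff.mp h with h | h
    · have := hgH; rwa [h] at this
    · have := H.neg_mem hgH; rw [h] at this; simpa using this
  obtain ⟨p, hp, hpd⟩ := Nat.exists_prime_and_dvd hg1
  refine ⟨p, hp, fun a ha => ?_⟩
  exact dvd_trans (Int.natCast_dvd.mpr hpd) (hall a ha)

/-- Let S be a nonempty finite type and R an additive subgroup of the integer-valued functions on S that is closed under pointwise multiplication. If the constant function 1 is not in R, then there exist a point x of S and a prime p such that p divides f x for every f in R. -/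
theorem result {S : Type*} [Finite S] [Nonempty S] (R : AddSubgroup (S → ℤ)) (hmul : ∀ f ∈ R, ∀ g ∈ R, f * g ∈ R) (h1 : (1 : S → ℤ) ∉ R) : ∃ (x : S) (p : ℕ), p.Prime ∧ ∀ f ∈ R, (p : ℤ) ∣ f x := by
  classical
  by_contra hcon
  push Not at hcon
  -- for every x there is f ∈ R with f x = 1
  have hex : ∀ x : S, ∃ f ∈ R, f x = 1 := by
    intro x
    by_contra hx
    push Not at hx
    let H : AddSubgroup ℤ := R.map (Pi.evalAddMonoidHom (fun _ : S => ℤ) x)
    have hH : (1 : ℤ) ∉ H := by
      rintro ⟨f, hf, hfx⟩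
      exact hx f hf hfx
    obtain ⟨p, hp, hpd⟩ := exists_prime_dvd_of_one_not_mem H hH
    obtain ⟨f, hf, hnd⟩ := hcon x p hp
    exact hnd (hpd (f x) ⟨f, hf, rfl⟩)
  choose F hFR hF1 using hex
  have := Fintype.ofFinite S
  have key : ∀ s : Finset S, (1 : S → ℤ) - ∏ x ∈ s, (1 - F x) ∈ R := by
    intro s
    induction s using Finset.induction_on with
    | empty => simp
    | insert a s ha ih =>
      rw [Finset.prod_insert ha]
      have e : (1 : S → ℤ) - (1 - F a) * ∏ x ∈ s, (1 - F x)
          = (1 - ∏ x ∈ s, (1 - F x)) + (F a - F a * (1 - ∏ x ∈ s, (1 - F x))) := by ring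
      rw [e]
      exact R.add_mem ih (R.sub_mem (hFR a) (hmul _ (hFR a) _ ih))
  have hzero : ∏ x ∈ (Finset.univ : Finset S), (1 - F x) = 0 := by
    funext y
    rw [Finset.prod_apply]
    apply Finset.prod_eq_zero (Finset.mem_univ y)
    simp [hF1 y]
  have := key Finset.univ
  rw [hzero, sub_zero] at this
  exact h1 this

end Cfsg.Agent.S0869
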