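import Mathlib
import Cfsg.Statements.S0870
import Cfsg.Agent.Lib.Helper5.PermChar

set_option autoImplicit false
open Cfsg

namespace Cfsg.Agent.S0870

open Cfsg.Agent.Helper5

variable {G : Type*} [Group G] [Fintype G]

/-- The permutation character on `G ⧸ H`. -/
theorem indFun_one_eq_card_fixed (H : Subgroup G) (g : G) :
    Cfsg.indFun H (fun _ => 1) g = (Nat.card {a : G ⧸ H // g • a = a} : ℂ) := by
  have h1 := indFun_stabilizer_apply (G := G) (X := G ⧸ H) ((1 : G) : G ⧸ H) g
  rw [MulAction.stabilizer_quotient] at h1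
  rw [h1]
  congr 1
  apply Nat.card_congr
  refine
    { toFun := fun y => ⟨y.1.1, y.2⟩
      invFun := fun a => ⟨⟨a.1, ?_⟩, a.2⟩
      left_inv := fun y => rfl
      right_inv := fun a => rfl }
  rw [MulAction.orbit_eq_univ]
  trivial

/-- For subgroups H and K of a finite group G, the pointwise product of the functions induced from the constant function 1 on H and on K is a sum, over subgroups U of H with natural-number coefficients, of the functions induced from the constant function 1 on U. -/
theorem result {G : Type*} [Group G] [Fintype G] (H K : Subgroup G) : ∃ a : Subgroup G → ℕ, (∀ U, a U ≠ 0 → U ≤ H) ∧ Cfsg.indFun H (fun _ => 1) * Cfsg.indFun K (fun _ => 1) = ∑ U : Subgroup G, (a U : ℂ) • Cfsg.indFun U (fun _ => 1) := by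
  classical
  let X := (G ⧸ H) × (G ⧸ K)
  haveI : Finite (MulAction.orbitRel.Quotient G X) := Quotient.finite _
  letI : Fintype (MulAction.orbitRel.Quotient G X) := Fintype.ofFinite _
  -- representatives with first coordinate the trivial coset
  let r : MulAction.orbitRel.Quotient G X → X := fun ω =>
    ((Quotient.out ω).1.out)⁻¹ • (Quotient.out ω)
  have hr : ∀ ω, (Quotient.mk'' (r ω) : MulAction.orbitRel.Quotient G X) = ω := by
    intro ω
    have h1 : (Quotient.mk'' (Quotient.out ω) : MulAction.orbitRel.Quotient G X) = ω :=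
      Quotient.out_eq' ω
    conv_rhs => rw [← h1]
    apply Quotient.eq''.mpr
    exact MulAction.mem_orbit _ _
  have hr1 : ∀ ω, (r ω).1 = ((1 : G) : G ⧸ H) := by
    intro ω
    show ((Quotient.out ω).1.out)⁻¹ • (Quotient.out ω).1 = ((1 : G) : G ⧸ H)
    have key : ∀ a : G ⧸ H, (a.out)⁻¹ • a = ((1 : G) : G ⧸ H) := by
      intro a
      have e : ((a.out : G) : G ⧸ H) = a := QuotientGroup.out_eq' a
      calc (a.out)⁻¹ • a = (a.out)⁻¹ • ((a.out : G) : G ⧸ H) := by rw [e]
        _ = (((a.out)⁻¹ * a.out : G) : G ⧸ H) := rfl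
        _ = ((1 : G) : G ⧸ H) := by rw [inv_mul_cancel]
    exact key _
  have hstab : ∀ ω, MulAction.stabilizer G (r ω) ≤ H := by
    intro ω s hs
    rw [MulAction.mem_stabilizer_iff] at hs
    have h1 := congrArg Prod.fst hs
    have h2 : s • (r ω).1 = (r ω).1 := h1
    rw [hr1 ω] at h2
    have h3 : s ∈ MulAction.stabilizer G (((1 : G) : G ⧸ H)) := h2
    rwa [MulAction.stabilizer_quotient] at h3
  refine ⟨fun U => (Finset.univ.filter
    (fun ω : MulAction.orbitRel.Quotient G X => MulAction.stabilizer G (r ω) = U)).card, ?_, ?_⟩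
  · intro U hU
    obtain ⟨ω, hω⟩ := Finset.card_pos.mp (Nat.pos_of_ne_zero hU)
    rw [Finset.mem_filter] at hω
    rw [← hω.2]
    exact hstab ω
  · funext g
    rw [Pi.mul_apply, indFun_one_eq_card_fixed, indFun_one_eq_card_fixed, ← Nat.cast_mul,
      ← Nat.card_prod]
    have h1 : Nat.card ({a : G ⧸ H // g • a = a} × {b : G ⧸ K // g • b = b}) =
        Nat.card {y : X // g • y = y} := by
      apply Nat.card_congr
      exact
        { toFun := fun ab => ⟨(ab.1.1, ab.2.1), Prod.ext ab.1.2 ab.2.2⟩
          invFun := fun y => (⟨y.1.1, congrArg Prod.fst y.2⟩, ⟨y.1.2, congrArg Prod.snd y.2⟩)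
          left_inv := fun ab => rfl
          right_inv := fun y => rfl }
    rw [h1, card_fixed_eq_sum_indFun r hr g]
    rw [Finset.sum_apply]
    rw [← Finset.sum_fiberwise (Finset.univ) (fun ω => MulAction.stabilizer G (r ω))
      (fun ω => Cfsg.indFun (MulAction.stabilizer G (r ω)) (fun _ => 1) g)]
    refine Finset.sum_congr rfl fun U _ => ?_
    rw [Pi.smul_apply, smul_eq_mul]
    have : ∀ ω ∈ Finset.univ.filter
        (fun ω : MulAction.orbitRel.Quotient G X => MulAction.stabilizer G (r ω) = U),
        Cfsg.indFun (MulAction.stabilizer G (r ω)) (fun _ => 1) g =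
          Cfsg.indFun U (fun _ => 1) g := by
      intro ω hω
      rw [Finset.mem_filter] at hω
      rw [hω.2]
    rw [Finset.sum_congr rfl this, Finset.sum_const, nsmul_eq_mul]

end Cfsg.Agent.S0870
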