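import Mathlib
import Cfsg.Statements.S0871
import Cfsg.Agent.Lib.Helper5.PermChar

set_option autoImplicit false
open Cfsg

namespace Cfsg.Agent.S0871

open Cfsg.Agent.Helper5

variable {G : Type*} [Group G]

/-- Elements of `p'`-order in a group `H` with a normal subgroup `C` of `p`-power index lie in
`C`. -/
theorem mem_of_coprime_order [Finite G] {p : ℕ} (hp : p.Prime) (C H : Subgroup G) (hCH : C ≤ H)
    (hHN : H ≤ Subgroup.normalizer (C : Set G)) (k : ℕ) (hk : C.relIndex H = p ^ k)
    (h : G) (hh : h ∈ H) (hcop : Nat.Coprime (orderOf h) p) : h ∈ C := by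
  haveI : (C.subgroupOf H).Normal := (Subgroup.normal_subgroupOf_iff_le_normalizer hCH).mpr hHN
  have hcard : Nat.card (↥H ⧸ C.subgroupOf H) = p ^ k := by
    rw [← Subgroup.index_eq_card]
    exact hk
  set hb : ↥H ⧸ C.subgroupOf H := QuotientGroup.mk ⟨h, hh⟩ with hhb
  have h1 : orderOf hb ∣ orderOf h := by
    apply orderOf_dvd_of_pow_eq_one
    rw [hhb, ← QuotientGroup.mk_pow]
    have : (⟨h, hh⟩ : H) ^ orderOf h = 1 := by
      apply Subtype.ext
      simp [pow_orderOf_eq_one]
    rw [this]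
    rfl
  have h2 : orderOf hb ∣ p ^ k := by
    rw [← hcard]
    exact orderOf_dvd_natCard hb
  have h3 : orderOf hb = 1 := by
    have := Nat.dvd_gcd h1 h2
    rw [Nat.Coprime.gcd_eq_one (Nat.Coprime.pow_right k hcop)] at this
    exact Nat.dvd_one.mp this
  rw [orderOf_eq_one_iff, hhb, QuotientGroup.eq_one_iff, Subgroup.mem_subgroupOf] at h3
  exact h3

/-- The set of cosets fixed by every element of `C`. -/
abbrev FixC (C H : Subgroup G) : Type _ := {q : G ⧸ H // ∀ c ∈ C, c • q = q}

/-- A subgroup `Z` centralizing `C` acts on the `C`-fixed cosets. -/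
@[reducible] def fixAction (C H Z : Subgroup G) (hcomm : ∀ z ∈ Z, ∀ c ∈ C, c * z = z * c) :
    MulAction Z (FixC C H) where
  smul z q := ⟨(z : G) • q.1, by
    intro c hc
    rw [← mul_smul, hcomm z z.2 c hc, mul_smul, q.2 c hc]⟩
  one_smul q := by
    apply Subtype.ext
    show ((1 : Z) : G) • q.1 = q.1
    simp
  mul_smul a b q := by
    apply Subtype.ext
    show ((a * b : Z) : G) • q.1 = (a : G) • ((b : G) • q.1)
    rw [Subgroup.coe_mul, mul_smul]

theorem mem_normalizer_iff_fix [Finite G] {p : ℕ} (hp : p.Prime) (C H : Subgroup G) (hCH : C ≤ H)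
    (hHN : H ≤ Subgroup.normalizer (C : Set G)) (k : ℕ) (hk : C.relIndex H = p ^ k)
    (hcop : Nat.Coprime (Nat.card C) p) (y : G) :
    (∀ c ∈ C, c • (y : G ⧸ H) = (y : G ⧸ H)) ↔ y ∈ Subgroup.normalizer (C : Set G) := by
  have hfix : ∀ c : G, c • (y : G ⧸ H) = (y : G ⧸ H) ↔ y⁻¹ * c * y ∈ H := by
    intro c
    rw [MulAction.Quotient.smul_mk, smul_eq_mul, eq_comm, QuotientGroup.eq, mul_assoc]
  constructor
  · intro h
    have h1 : y⁻¹ ∈ Subgroup.normalizer (C : Set G) := by
      apply Subgroup.mem_normalizer_fintype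
      intro c hc
      rw [inv_inv]
      have h2 : y⁻¹ * c * y ∈ H := (hfix c).mp (h c hc)
      apply mem_of_coprime_order hp C H hCH hHN k hk _ h2
      have h3 : orderOf (y⁻¹ * c * y) = orderOf c := by
        have : y⁻¹ * c * y = MulAut.conj y⁻¹ c := by simp [MulAut.conj_apply]
        rw [this, MulEquiv.orderOf_eq]
      rw [h3]
      have h4 : orderOf c ∣ Nat.card C := by
        have : orderOf (⟨c, hc⟩ : C) = orderOf c := Subgroup.orderOf_mk c hc
        rw [← this]
        exact orderOf_dvd_natCard _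
      exact Nat.Coprime.coprime_dvd_left h4 hcop
    have := (Subgroup.normalizer (C : Set G)).inv_mem h1
    rwa [inv_inv] at this
  · intro hy c hc
    rw [hfix]
    apply hCH
    have h1 : y⁻¹ ∈ Subgroup.normalizer (C : Set G) := Subgroup.inv_mem _ hy
    have := (Subgroup.mem_normalizer_iff.mp h1 c).mp hc
    rwa [inv_inv] at this

theorem card_fixC [Finite G] {p : ℕ} (hp : p.Prime) (C H : Subgroup G) (hCH : C ≤ H)
    (hHN : H ≤ Subgroup.normalizer (C : Set G)) (k : ℕ) (hk : C.relIndex H = p ^ k)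
    (hcop : Nat.Coprime (Nat.card C) p) :
    Nat.card (FixC C H) = H.relIndex (Subgroup.normalizer (C : Set G)) := by
  have h3 : Nat.card (FixC C H) * Nat.card H = Nat.card (Subgroup.normalizer (C : Set G)) := by
    rw [← card_subtype_quotient_pred H (fun q => ∀ c ∈ C, c • q = q)]
    apply Nat.card_congr
    exact Equiv.subtypeEquivRight (fun y => mem_normalizer_iff_fix hp C H hCH hHN k hk hcop y)
  have h4 : H.relIndex (Subgroup.normalizer (C : Set G)) * Nat.card H =
      Nat.card (Subgroup.normalizer (C : Set G)) := by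
    have := Subgroup.index_mul_card (H.subgroupOf (Subgroup.normalizer (C : Set G)))
    rw [Nat.card_congr (Subgroup.subgroupOfEquivOfLe hHN).toEquiv] at this
    exact this
  have hpos : 0 < Nat.card H := Nat.card_pos
  exact Nat.eq_of_mul_eq_mul_right hpos (h3.trans h4.symm)

theorem not_dvd_card_fixed [Finite G] {p : ℕ} (hp : p.Prime) (C H Z : Subgroup G) (hCH : C ≤ H)
    (hHN : H ≤ Subgroup.normalizer (C : Set G)) (k : ℕ) (hk : C.relIndex H = p ^ k)
    (hcop : Nat.Coprime (Nat.card C) p) (hZ : IsPGroup p Z)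
    (hcomm : ∀ z ∈ Z, ∀ c ∈ C, c * z = z * c) (x z₀ c₀ : G) (hz₀ : z₀ ∈ Z) (hc₀ : c₀ ∈ C)
    (hx : x = z₀ * c₀) (hCx : C ≤ Subgroup.zpowers x) (hZx : Z ≤ Subgroup.zpowers x)
    (hidx : ¬ p ∣ H.relIndex (Subgroup.normalizer (C : Set G))) :
    ¬ p ∣ Nat.card {q : G ⧸ H // x • q = q} := by
  haveI : Fact p.Prime := ⟨hp⟩
  letI := fixAction C H Z hcomm
  have hsm : ∀ (z : Z) (q : FixC C H), (z • q).1 = (z : G) • q.1 := fun z q => rfl
  have h1 := hZ.card_modEq_card_fixedPoints (FixC C H)
  have h2 : Nat.card (MulAction.fixedPoints Z (FixC C H)) = Nat.card {q : G ⧸ H // x • q = q} := by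
    apply Nat.card_congr
    refine
      { toFun := fun q => ⟨q.1.1, ?_⟩
        invFun := fun q => ⟨⟨q.1, ?_⟩, ?_⟩
        left_inv := fun q => rfl
        right_inv := fun q => rfl }
    · have hq := q.2
      rw [MulAction.mem_fixedPoints] at hq
      have h3 := congrArg Subtype.val (hq ⟨z₀, hz₀⟩)
      rw [hsm] at h3
      rw [hx, mul_smul, q.1.2 c₀ hc₀]
      exact h3
    · intro c hc
      have : c ∈ MulAction.stabilizer G q.1 := by
        have hle : Subgroup.zpowers x ≤ MulAction.stabilizer G q.1 := by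
          rw [Subgroup.zpowers_le]; exact q.2
        exact hle (hCx hc)
      exact this
    · rw [MulAction.mem_fixedPoints]
      intro z
      apply Subtype.ext
      rw [hsm]
      have : (z : G) ∈ MulAction.stabilizer G q.1 := by
        have hle : Subgroup.zpowers x ≤ MulAction.stabilizer G q.1 := by
          rw [Subgroup.zpowers_le]; exact q.2
        exact hle (hZx z.2)
      exact this
  rw [h2, card_fixC hp C H hCH hHN k hk hcop] at h1
  intro hdvd
  exact hidx ((h1.dvd_iff (dvd_refl p)).mpr hdvd)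

/-- Let x be an element of the finite group G and p a prime. Then there is a subgroup H having a cyclic normal subgroup C of order prime to p and p-power index in H, such that the value at x of the function induced from the constant function 1 on H is a natural number not divisible by p. -/
theorem result {G : Type*} [Group G] [Fintype G] (x : G) (p : ℕ) (hp : p.Prime) : ∃ H : Subgroup G, (∃ C : Subgroup G, C ≤ H ∧ H ≤ Subgroup.normalizer (C : Set G) ∧ IsCyclic C ∧ Nat.Coprime (Nat.card C) p ∧ ∃ k : ℕ, C.relIndex H = p ^ k) ∧ ∃ n : ℕ, Cfsg.indFun H (fun _ => 1) x = (n : ℂ) ∧ ¬ p ∣ n := by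
  classical
  haveI : Fact p.Prime := ⟨hp⟩
  set o := orderOf x with ho
  have ho0 : o ≠ 0 := (orderOf_pos x).ne'
  set pa := ordProj[p] o with hpa
  set m := ordCompl[p] o with hm
  have hpam : pa * m = o := Nat.ordProj_mul_ordCompl_eq_self o p
  have hmcop : Nat.Coprime m p := (Nat.coprime_ordCompl hp ho0).symm
  have hcop2 : Nat.Coprime m pa := Nat.Coprime.pow_right _ hmcop
  set x₁ := x ^ m with hx₁
  set x₂ := x ^ pa with hx₂
  have hx₁pow : x₁ ^ pa = 1 := by
    rw [hx₁, ← pow_mul, mul_comm, hpam, ho, pow_orderOf_eq_one]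
  have hx₂pow : x₂ ^ m = 1 := by
    rw [hx₂, ← pow_mul, hpam, ho, pow_orderOf_eq_one]
  obtain ⟨A, B, hAB⟩ : IsCoprime (m : ℤ) (pa : ℤ) := Nat.isCoprime_iff_coprime.mpr hcop2
  have hxdec : x = x₁ ^ A * x₂ ^ B := by
    rw [hx₁, hx₂, ← zpow_natCast x m, ← zpow_natCast x pa, ← zpow_mul, ← zpow_mul, ← zpow_add]
    have : (m : ℤ) * A + (pa : ℤ) * B = 1 := by rw [← hAB]; ring
    rw [this, zpow_one]
  set C := Subgroup.zpowers x₂ with hC
  set Z := Subgroup.zpowers x₁ with hZ
  have hCx : C ≤ Subgroup.zpowers x := by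
    rw [hC, Subgroup.zpowers_le]; exact Subgroup.pow_mem _ (Subgroup.mem_zpowers x) _
  have hZx : Z ≤ Subgroup.zpowers x := by
    rw [hZ, Subgroup.zpowers_le]; exact Subgroup.pow_mem _ (Subgroup.mem_zpowers x) _
  have hcommx : ∀ a ∈ Subgroup.zpowers x, ∀ b ∈ Subgroup.zpowers x, a * b = b * a := by
    intro a ha b hb
    obtain ⟨i, rfl⟩ := Subgroup.mem_zpowers_iff.mp ha
    obtain ⟨j, rfl⟩ := Subgroup.mem_zpowers_iff.mp hb
    rw [← zpow_add, ← zpow_add, add_comm]
  have hcomm : ∀ z ∈ Z, ∀ c ∈ C, c * z = z * c := fun z hz c hc =>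
    hcommx c (hCx hc) z (hZx hz)
  have hZp : IsPGroup p Z := by
    rintro ⟨g, hg⟩
    obtain ⟨j, rfl⟩ := Subgroup.mem_zpowers_iff.mp hg
    refine ⟨o.factorization p, ?_⟩
    apply Subtype.ext
    show (x₁ ^ j) ^ (p ^ o.factorization p) = 1
    rw [← zpow_natCast, ← zpow_mul, mul_comm, zpow_mul, zpow_natCast]
    have : x₁ ^ p ^ o.factorization p = 1 := hx₁pow
    rw [this, one_zpow]
  have hCcop : Nat.Coprime (Nat.card C) p := by
    rw [hC, Nat.card_zpowers]
    exact Nat.Coprime.coprime_dvd_left (orderOf_dvd_of_pow_eq_one hx₂pow) hmcop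
  set N := Subgroup.normalizer (C : Set G) with hN
  have hcentN : ∀ a ∈ Subgroup.zpowers x, a ∈ N := by
    intro a ha
    apply Subgroup.centralizer_le_normalizer
    rw [Subgroup.mem_centralizer_iff]
    intro c hc
    exact hcommx c (hCx hc) a ha
  have hCN : C ≤ N := Subgroup.le_normalizer
  have hZN : Z ≤ N := fun z hz => hcentN z (hZx hz)
  -- Sylow subgroup of N containing Z
  have hZ'p : IsPGroup p (Z.subgroupOf N) := hZp.comap_subtype
  obtain ⟨P', hP'⟩ := hZ'p.exists_le_sylow
  haveI hC'n : (C.subgroupOf N).Normal := Subgroup.normal_in_normalizer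
  set H' : Subgroup N := C.subgroupOf N ⊔ (P' : Subgroup N) with hH'
  set H : Subgroup G := H'.map N.subtype with hH
  have hCH : C ≤ H := by
    rw [hH, ← Subgroup.map_subgroupOf_eq_of_le hCN]
    exact Subgroup.map_mono le_sup_left
  have hZH : Z ≤ H := by
    rw [hH, ← Subgroup.map_subgroupOf_eq_of_le hZN]
    exact Subgroup.map_mono (hP'.trans le_sup_right)
  have hHN : H ≤ N := Subgroup.map_subtype_le _
  have hrel : ∃ k : ℕ, C.relIndex H = p ^ k := by
    have h1 : C.relIndex H = (C.subgroupOf N).relIndex H' := by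
      rw [hH]
      conv_lhs => rw [← Subgroup.map_subgroupOf_eq_of_le hCN]
      exact Subgroup.relIndex_map_map_of_injective _ _ (Subgroup.subtype_injective N)
    rw [h1, hH', Subgroup.relIndex_sup_left]
    obtain ⟨j, hj⟩ := IsPGroup.iff_card.mp P'.isPGroup'
    have h2 : (C.subgroupOf N).relIndex (P' : Subgroup N) ∣ p ^ j := by
      rw [← hj]; exact Subgroup.relIndex_dvd_card _ _
    obtain ⟨k, -, hk⟩ := (Nat.dvd_prime_pow hp).mp h2
    exact ⟨k, hk⟩
  obtain ⟨k, hk⟩ := hrel
  have hidx : ¬ p ∣ H.relIndex N := by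
    have h1 : H.relIndex N = H'.index := by
      rw [Subgroup.relIndex, hH]
      congr 1
      exact Subgroup.comap_map_eq_self_of_injective (Subgroup.subtype_injective N) H'
    rw [h1]
    intro hdvd
    exact P'.not_dvd_index (hdvd.trans (Subgroup.index_dvd_of_le le_sup_right))
  refine ⟨H, ⟨C, hCH, hHN, ?_, hCcop, k, hk⟩, Nat.card {q : G ⧸ H // x • q = q}, ?_, ?_⟩
  · rw [hC]; infer_instance
  · exact indFun_const_one_eq_card_fixed H x
  · exact not_dvd_card_fixed hp C H Z hCH hHN k hk hCcop hZp hcomm x (x₁ ^ A) (x₂ ^ B)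
      (Subgroup.zpow_mem _ (Subgroup.mem_zpowers _) _)
      (Subgroup.zpow_mem _ (Subgroup.mem_zpowers _) _) hxdec hCx hZx hidx

end Cfsg.Agent.S0871
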