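import Mathlib
import Cfsg.Statements.S0872
import Cfsg.Agent.S0870
import Cfsg.Agent.S0871

set_option autoImplicit false
open Cfsg

namespace Cfsg.Agent.S0872

variable {G : Type*} [Group G]

/-- `p`-quasi-elementary subgroups. -/
def QE (p : ℕ) (H : Subgroup G) : Prop :=
  ∃ C : Subgroup G, C ≤ H ∧ H ≤ Subgroup.normalizer (C : Set G) ∧ IsCyclic C ∧
    Nat.Coprime (Nat.card C) p ∧ ∃ k : ℕ, C.relIndex H = p ^ k

theorem QE.of_le [Finite G] {p : ℕ} (hp : p.Prime) {H U : Subgroup G} (hH : QE p H) (hUH : U ≤ H) :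
    QE p U := by
  obtain ⟨C, hCH, hHN, hcyc, hcop, k, hk⟩ := hH
  refine ⟨C ⊓ U, inf_le_right, ?_, ?_, ?_, ?_⟩
  · intro u hu
    have huN := hHN (hUH hu)
    rw [Subgroup.mem_normalizer_iff] at huN ⊢
    intro h
    constructor
    · rintro ⟨h1, h2⟩
      exact ⟨(huN h).mp h1, U.mul_mem (U.mul_mem hu h2) (U.inv_mem hu)⟩
    · rintro ⟨h1, h2⟩
      refine ⟨(huN h).mpr h1, ?_⟩
      have : h = u⁻¹ * (u * h * u⁻¹) * u := by group
      rw [this]
      exact U.mul_mem (U.mul_mem (U.inv_mem hu) h2) hu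
  · haveI := hcyc
    have e : ↥((C ⊓ U).subgroupOf C) ≃* ↥(C ⊓ U) := Subgroup.subgroupOfEquivOfLe inf_le_left
    exact isCyclic_of_surjective e e.surjective
  · exact Nat.Coprime.coprime_dvd_left (Subgroup.card_dvd_of_le inf_le_left) hcop
  · rw [Subgroup.inf_relIndex_right]
    haveI : (C.subgroupOf H).Normal := (Subgroup.normal_subgroupOf_iff_le_normalizer hCH).mpr hHN
    have h1 : (C.subgroupOf H).relIndex (U.subgroupOf H) ∣ (C.subgroupOf H).index :=
      Subgroup.relIndex_dvd_index_of_normal _ _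
    rw [Subgroup.relIndex_subgroupOf hUH] at h1
    have h2 : (C.subgroupOf H).index = p ^ k := hk
    rw [h2] at h1
    obtain ⟨j, -, hj⟩ := (Nat.dvd_prime_pow hp).mp h1
    exact ⟨j, hj⟩

variable [Fintype G]

/-- The `ℤ`-span of the permutation characters on cosets of `p`-quasi-elementary subgroups. -/
def R (p : ℕ) : Set (G → ℂ) :=
  {f | ∃ a : Subgroup G → ℤ, (∀ H, a H ≠ 0 → QE p H) ∧
    f = ∑ H : Subgroup G, (a H : ℂ) • Cfsg.indFun H (fun _ => 1)}

theorem R.zero (p : ℕ) : (0 : G → ℂ) ∈ R p :=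
  ⟨fun _ => 0, fun H h => absurd rfl h, by simp⟩

theorem R.add {p : ℕ} {f g : G → ℂ} (hf : f ∈ R p) (hg : g ∈ R p) : f + g ∈ R p := by
  obtain ⟨a, ha, rfl⟩ := hf
  obtain ⟨b, hb, rfl⟩ := hg
  refine ⟨fun H => a H + b H, ?_, ?_⟩
  · intro H h
    by_cases h1 : a H = 0
    · apply hb
      intro h2
      apply h
      simp [h1, h2]
    · exact ha H h1
  · rw [← Finset.sum_add_distrib]
    refine Finset.sum_congr rfl fun H _ => ?_
    push_cast
    rw [add_smul]

theorem R.zsmul {p : ℕ} {f : G → ℂ} (c : ℤ) (hf : f ∈ R p) : (c : ℂ) • f ∈ R p := by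
  obtain ⟨a, ha, rfl⟩ := hf
  refine ⟨fun H => c * a H, ?_, ?_⟩
  · intro H h
    apply ha
    intro h2
    apply h
    simp [h2]
  · rw [Finset.smul_sum]
    refine Finset.sum_congr rfl fun H _ => ?_
    push_cast
    rw [mul_smul]

theorem R.neg {p : ℕ} {f : G → ℂ} (hf : f ∈ R p) : -f ∈ R p := by
  have := R.zsmul (-1) hf
  simpa using this

theorem R.sum {p : ℕ} {ι : Type*} (s : Finset ι) (f : ι → G → ℂ) (hf : ∀ i ∈ s, f i ∈ R p) :
    ∑ i ∈ s, f i ∈ R p := by
  classical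
  induction s using Finset.induction_on with
  | empty => simpa using R.zero p
  | insert i s hi ih =>
    rw [Finset.sum_insert hi]
    exact R.add (hf i (Finset.mem_insert_self i s))
      (ih fun j hj => hf j (Finset.mem_insert_of_mem hj))

theorem R.of_QE {p : ℕ} (H : Subgroup G) (hH : QE p H) : Cfsg.indFun H (fun _ => 1) ∈ R p := by
  classical
  refine ⟨fun K => if K = H then 1 else 0, ?_, ?_⟩
  · intro K hK
    by_cases h : K = H
    · rw [h]; exact hH
    · simp [h] at hK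
  · rw [Finset.sum_eq_single H]
    · simp
    · intro K _ hK
      simp [hK]
    · intro h
      exact absurd (Finset.mem_univ H) h

theorem R.perm_mul_perm {p : ℕ} (hp : p.Prime) (H K : Subgroup G) (hH : QE p H) :
    Cfsg.indFun H (fun _ => 1) * Cfsg.indFun K (fun _ => 1) ∈ R p := by
  obtain ⟨a, ha, hprod⟩ := Cfsg.Agent.S0870.result H K
  rw [hprod]
  refine ⟨fun U => (a U : ℤ), ?_, ?_⟩
  · intro U hU
    apply hH.of_le hp
    apply ha
    intro h
    apply hU
    simp [h]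
  · refine Finset.sum_congr rfl fun U _ => ?_
    push_cast
    rfl

theorem R.perm_mul {p : ℕ} (hp : p.Prime) (H : Subgroup G) (hH : QE p H) {g : G → ℂ}
    (hg : g ∈ R p) : Cfsg.indFun H (fun _ => 1) * g ∈ R p := by
  obtain ⟨b, hb, rfl⟩ := hg
  rw [Finset.mul_sum]
  apply R.sum
  intro K _
  rw [mul_smul_comm]
  exact R.zsmul _ (R.perm_mul_perm hp H K hH)

theorem R.mul {p : ℕ} (hp : p.Prime) {f g : G → ℂ} (hf : f ∈ R p) (hg : g ∈ R p) :
    f * g ∈ R p := by
  obtain ⟨a, ha, rfl⟩ := hf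
  rw [Finset.sum_mul]
  apply R.sum
  intro H _
  by_cases h : a H = 0
  · rw [h]
    simpa using R.zero p
  · rw [smul_mul_assoc]
    exact R.zsmul _ (R.perm_mul hp H (ha H h) hg)

/-- For a finite group G and a prime p there are an integer m not divisible by p and a ℤ-linear combination of functions induced from the constant function 1 on subgroups H, each having a cyclic normal subgroup of order prime to p and p-power index in H, that equals the constant function m. -/
theorem result {G : Type*} [Group G] [Fintype G] (p : ℕ) (hp : p.Prime) : ∃ (m : ℤ) (a : Subgroup G → ℤ), ¬ (p : ℤ) ∣ m ∧ (∀ H, a H ≠ 0 → (∃ C : Subgroup G, C ≤ H ∧ H ≤ Subgroup.normalizer (C : Set G) ∧ IsCyclic C ∧ Nat.Coprime (Nat.card C) p ∧ ∃ k : ℕ, C.relIndex H = p ^ k)) ∧ (fun _ : G => (m : ℂ)) = ∑ H : Subgroup G, (a H : ℂ) • Cfsg.indFun H (fun _ => 1) := by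
  classical
  -- choose data for each x
  have hx : ∀ x : G, ∃ (H : Subgroup G) (n : ℕ), QE p H ∧
      Cfsg.indFun H (fun _ => 1) x = (n : ℂ) ∧ ¬ p ∣ n := by
    intro x
    obtain ⟨H, hQE, n, h1, h2⟩ := Cfsg.Agent.S0871.result x p hp
    exact ⟨H, n, hQE, h1, h2⟩
  choose Hx nx hQE hval hnd using hx
  -- the key induction
  have key : ∀ S : Finset G, ∃ r ∈ R (G := G) p,
      ∏ x ∈ S, (Cfsg.indFun (Hx x) (fun _ => 1) - fun _ => ((nx x : ℤ) : ℂ)) =
        (fun _ => ((∏ x ∈ S, (-(nx x : ℤ)) : ℤ) : ℂ)) + r := by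
    intro S
    induction S using Finset.induction_on with
    | empty =>
      refine ⟨0, R.zero p, ?_⟩
      funext y
      simp
    | insert x S hxS ih =>
      obtain ⟨r, hr, hprod⟩ := ih
      rw [Finset.prod_insert hxS, Finset.prod_insert hxS, hprod]
      set c : ℤ := ∏ x ∈ S, (-(nx x : ℤ)) with hc
      set f := Cfsg.indFun (Hx x) (fun _ => (1 : ℂ)) with hf
      have hfR : f ∈ R p := R.of_QE _ (hQE x)
      refine ⟨(c : ℂ) • f + ((-(nx x : ℤ) : ℤ) : ℂ) • r + f * r,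
        R.add (R.add (R.zsmul c hfR) (R.zsmul _ hr)) (R.mul hp hfR hr), ?_⟩
      funext y
      simp only [Pi.mul_apply, Pi.sub_apply, Pi.add_apply, Pi.smul_apply, smul_eq_mul]
      push_cast
      ring
  obtain ⟨r, hr, hprod⟩ := key Finset.univ
  have hzero : ∏ x ∈ (Finset.univ : Finset G),
      (Cfsg.indFun (Hx x) (fun _ => 1) - fun _ => ((nx x : ℤ) : ℂ)) = 0 := by
    funext y
    rw [Finset.prod_apply]
    apply Finset.prod_eq_zero (Finset.mem_univ y)
    rw [Pi.sub_apply, hval y]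
    simp
  rw [hzero] at hprod
  set m : ℤ := ∏ x ∈ (Finset.univ : Finset G), (-(nx x : ℤ)) with hm
  have hmR : (fun _ : G => (m : ℂ)) ∈ R p := by
    have : (fun _ : G => (m : ℂ)) = -r := by
      rw [eq_neg_iff_add_eq_zero]
      exact hprod.symm
    rw [this]
    exact R.neg hr
  obtain ⟨a, ha, hsum⟩ := hmR
  refine ⟨m, a, ?_, ha, hsum⟩
  rw [hm]
  intro hdvd
  have hpp : Prime (p : ℤ) := Nat.prime_iff_prime_int.mp hp
  obtain ⟨x, -, hx⟩ := (Prime.dvd_finset_prod_iff hpp _).mp hdvd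
  rw [dvd_neg] at hx
  exact hnd x (Int.natCast_dvd_natCast.mp hx)

end Cfsg.Agent.S0872
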