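import Mathlib
import Cfsg.Statements.S0873
import Cfsg.Agent.Lib.Helper24.CharAlgebra

set_option autoImplicit false
open Cfsg

namespace Cfsg.Agent.S0873

open Cfsg.Agent.Helper24

/-- The fibre of `lam` through `c`. -/
abbrev Fib {G : Type*} [Group G] (C : Subgroup G) (lam : C → ℂ) (c : C) : Type _ :=
  {c' : C // lam c' = lam c}

@[reducible] noncomputable def fibAction {G : Type*} [Group G] (C P : Subgroup G) [hC : C.Normal]
    (lam : C → ℂ)
    (hinv : ∀ (g : G) (c : C), lam ⟨g * c * g⁻¹, hC.conj_mem (c : G) c.2 g⟩ = lam c) (c : C) :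
    MulAction P (Fib C lam c) where
  smul x y := ⟨⟨(x : G) * (y.1 : G) * (x : G)⁻¹, hC.conj_mem _ y.1.2 _⟩, by
    rw [hinv (x : G) y.1]; exact y.2⟩
  one_smul y := by
    apply Subtype.ext
    apply Subtype.ext
    show ((1 : P) : G) * (y.1 : G) * ((1 : P) : G)⁻¹ = (y.1 : G)
    simp
  mul_smul a b y := by
    apply Subtype.ext
    apply Subtype.ext
    show ((a * b : P) : G) * (y.1 : G) * ((a * b : P) : G)⁻¹ =
      (a : G) * ((b : G) * (y.1 : G) * (b : G)⁻¹) * (a : G)⁻¹
    simp only [Subgroup.coe_mul, mul_inv_rev]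
    group

/-- Let C be a normal subgroup of the finite group G of order prime to p and P a p-subgroup with C ⊔ P = G. Let λ be a character of C of degree 1 invariant under conjugation by G and equal to 1 at every element of C centralized by P. Then λ is identically 1. -/
theorem result {G : Type*} [Group G] [Finite G] (p : ℕ) [Fact p.Prime] (C P : Subgroup G) [hC : C.Normal] (hP : IsPGroup p P) (hcop : Nat.Coprime (Nat.card C) p) (hCP : C ⊔ P = ⊤) (lam : C → ℂ) (hlam : Cfsg.IsCharacter C lam ∧ lam 1 = 1) (hinv : ∀ (g : G) (c : C), lam ⟨g * c * g⁻¹, hC.conj_mem (c : G) c.2 g⟩ = lam c) (hker : ∀ c : C, (c : G) ∈ Subgroup.centralizer (P : Set G) → lam c = 1) : lam = fun _ => 1 := by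
  classical
  have hp : p.Prime := Fact.out
  funext c
  letI := fibAction C P lam hinv c
  let L := linHom hlam.1 hlam.2
  have hL : ∀ x : C, ((L x : ℂˣ) : ℂ) = lam x := fun x => rfl
  -- the fibre is in bijection with the kernel
  let e : Fib C lam c ≃ L.ker :=
    { toFun := fun y => ⟨c⁻¹ * y.1, by
        rw [MonoidHom.mem_ker]
        apply Units.ext
        rw [map_mul, Units.val_mul, hL, hL, y.2, ← char_mul_of_degree_one hlam.1 hlam.2,
          inv_mul_cancel, hlam.2]
        rfl⟩
      invFun := fun k => ⟨c * k.1, by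
        have hk : L k.1 = 1 := k.2
        have : lam k.1 = 1 := by rw [← hL, hk]; rfl
        rw [char_mul_of_degree_one hlam.1 hlam.2, this, mul_one]⟩
      left_inv := fun y => by
        apply Subtype.ext
        show c * (c⁻¹ * y.1) = y.1
        group
      right_inv := fun k => by
        apply Subtype.ext
        show c⁻¹ * (c * k.1) = k.1
        group }
  have hcard : ¬ p ∣ Nat.card (Fib C lam c) := by
    rw [Nat.card_congr e]
    intro h
    have h2 : p ∣ Nat.card C := h.trans (Subgroup.card_subgroup_dvd_card _)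
    have := Nat.Coprime.eq_one_of_dvd hcop.symm h2
    exact hp.one_lt.ne' this
  obtain ⟨y, hy⟩ := hP.nonempty_fixed_point_of_prime_not_dvd_card (Fib C lam c) hcard
  rw [MulAction.mem_fixedPoints] at hy
  rw [← y.2]
  apply hker
  rw [Subgroup.mem_centralizer_iff]
  intro x hx
  have h1 := hy ⟨x, hx⟩
  have h2 : x * (y.1 : G) * x⁻¹ = (y.1 : G) := by
    have := congrArg (fun w : Fib C lam c => ((w.1 : C) : G)) h1
    exact this
  calc x * (y.1 : G) = x * (y.1 : G) * x⁻¹ * x := by group
    _ = (y.1 : G) * x := by rw [h2]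

end Cfsg.Agent.S0873
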