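import Mathlib
import Cfsg.Statements.S0880
import Cfsg.Agent.Lib.Helper5.Zass

set_option autoImplicit false
open Cfsg

namespace Cfsg.Agent.S0880

/-- Let G be a finite simple Zassenhaus group on Ω with n points whose two-point stabilizer E has odd order less than n - 2. Then there are two elements of G, each fixing no point of Ω, that are not conjugate. -/
theorem result {G Ω : Type*} [Group G] [Finite G] [MulAction G Ω] [Fintype Ω] (hZ : Cfsg.IsZassenhausGroup G Ω) {a b : Ω} (hab : a ≠ b) [IsSimpleGroup G] (hodd : Odd (Nat.card ↥(MulAction.stabilizer G a ⊓ MulAction.stabilizer G b : Subgroup G))) (hlt : Nat.card ↥(MulAction.stabilizer G a ⊓ MulAction.stabilizer G b : Subgroup G) < Fintype.card Ω - 2) : ∃ x y : G, (∀ c : Ω, x • c ≠ c) ∧ (∀ c : Ω, y • c ≠ c) ∧ ¬ IsConj x y := by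
  classical
  obtain ⟨hfaith, h2, h3, ⟨g₀, hg₀, a₀, b₀, hab₀, hga₀, hgb₀⟩, _⟩ := hZ
  haveI : Fintype G := Fintype.ofFinite G
  rw [MulAction.is_two_pretransitive_iff] at h2
  -- the order of the two point stabilizer is at least 3
  have he2 : 2 ≤ Nat.card ↥(MulAction.stabilizer G a ⊓ MulAction.stabilizer G b : Subgroup G) := by
    rw [← Helper5.Zass.card_transporter h2 hab hab₀ hab₀]
    have : (⟨1, by simp⟩ : {g : G // g • a₀ = a₀ ∧ g • b₀ = b₀}) ≠ ⟨g₀, hga₀, hgb₀⟩ := by
      intro h
      exact hg₀ (congrArg Subtype.val h).symm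
    exact (Finite.one_lt_card_iff_nontrivial.mpr ⟨⟨_, _, this⟩⟩)
  obtain ⟨k, hk⟩ := hodd
  have hk1 : 1 ≤ k := by omega
  have hcardG := Helper5.Zass.card_eq (G := G) h2 hab
  have h2F := Helper5.Zass.two_mul_card_fpf (G := G) h2 h3 hab
  rw [hcardG, hk] at h2F
  rw [hk] at hlt hcardG
  set n := Fintype.card Ω with hn
  have hn4 : 4 ≤ n := by omega
  -- the number of fixed point free elements
  obtain ⟨m, hm⟩ : ∃ m : ℕ, n = m + 1 := ⟨n - 1, by omega⟩
  have hF : (Finset.univ.filter (fun g : G => Helper5.Zass.fix (Ω := Ω) g = 0)).card =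
      m * (n * k + 1) := by
    have : (2 * ((Finset.univ.filter (fun g : G => Helper5.Zass.fix (Ω := Ω) g = 0)).card : ℤ)) =
        2 * ((m * (n * k + 1) : ℕ) : ℤ) := by
      rw [h2F, hm]
      push_cast
      ring
    have h3 : ((Finset.univ.filter (fun g : G => Helper5.Zass.fix (Ω := Ω) g = 0)).card : ℤ) =
        ((m * (n * k + 1) : ℕ) : ℤ) := by linarith
    exact_mod_cast h3
  by_contra hcon
  push Not at hcon
  have hFpos : 0 < (Finset.univ.filter (fun g : G => Helper5.Zass.fix (Ω := Ω) g = 0)).card := by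
    rw [hF]
    have : 0 < m := by omega
    positivity
  obtain ⟨x₀, hx₀⟩ := Finset.card_pos.mp hFpos
  rw [Finset.mem_filter, Helper5.Zass.fix_eq_zero_iff] at hx₀
  have hclass : (Finset.univ.filter (fun g : G => IsConj x₀ g)) =
      (Finset.univ.filter (fun g : G => Helper5.Zass.fix (Ω := Ω) g = 0)) := by
    ext g
    simp only [Finset.mem_filter, Finset.mem_univ, true_and, Helper5.Zass.fix_eq_zero_iff]
    constructor
    · intro hc c hgc
      obtain ⟨y, hy⟩ := isConj_iff.mp hc
      apply hx₀.2 (y⁻¹ • c)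
      have : x₀ = y⁻¹ * g * y := by rw [← hy]; group
      rw [this, mul_smul, mul_smul, smul_inv_smul, hgc]
    · intro hg
      exact hcon x₀ g hx₀.2 hg
  have hdvd := Helper5.Zass.card_class_dvd x₀
  rw [hclass, hF, hcardG] at hdvd
  -- arithmetic
  have hm' : n - 1 = m := by omega
  rw [hm'] at hdvd
  have h4 : m * (n * k + 1) ∣ m * (n * (2 * k + 1)) := by
    have : n * (m * (2 * k + 1)) = m * (n * (2 * k + 1)) := by ring
    rwa [this] at hdvd
  have hmpos : 0 < m := by omega
  have h5 : (n * k + 1) ∣ n * (2 * k + 1) := (Nat.mul_dvd_mul_iff_left hmpos).mp h4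
  have hcop : Nat.Coprime (n * k + 1) n := by
    have : Nat.Coprime (k * n + 1) n := by
      rw [Nat.coprime_mul_right_add_left]
      exact Nat.coprime_one_left n
    rwa [mul_comm] at this
  have h6 : (n * k + 1) ∣ (2 * k + 1) := hcop.dvd_of_dvd_mul_left h5
  have h7 := Nat.le_of_dvd (by omega) h6
  nlinarith

end Cfsg.Agent.S0880
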