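import Mathlib
import Cfsg.Statements.S0892
import Cfsg.Agent.Lib.Helper20.AltMultG

set_option autoImplicit false
open Cfsg

namespace Cfsg.Agent.S0892

open Cfsg.Agent.Helper20.AltMult Cfsg.Agent.Helper11.Carmichael

/-- Let n ≥ 4 with n ≠ 6 and n ≠ 7, and let Γ be a finite group with a subgroup Z contained in both the centre and the commutator subgroup of Γ such that Γ / Z is isomorphic to the alternating group on n letters. Then Z has order at most 2. -/
theorem result (n : ℕ) (hn : 4 ≤ n) (h6 : n ≠ 6) (h7 : n ≠ 7) {Γ : Type*} [Group Γ] [Finite Γ] (Z : Subgroup Γ) [Z.Normal] (hZc : Z ≤ Subgroup.center Γ) (hZd : Z ≤ commutator Γ) (e : Γ ⧸ Z ≃* alternatingGroup (Fin n)) : Nat.card Z ≤ 2 := by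
  obtain ⟨m, rfl⟩ : ∃ m, n = m + 2 := ⟨n - 2, by omega⟩
  let E := MulEquiv.ofBijective (toAltHom m) (toAltHom_bijective m)
  let σ : Γ →* PresentedGroup (carRels m) :=
    (E.symm.toMonoidHom.comp e.toMonoidHom).comp (QuotientGroup.mk' Z)
  have hσ : ∀ x, σ x = E.symm (e (x : Γ ⧸ Z)) := fun _ => rfl
  have hker : σ.ker = Z := by
    ext x
    rw [MonoidHom.mem_ker, hσ, EmbeddingLike.map_eq_one_iff, EmbeddingLike.map_eq_one_iff,
      QuotientGroup.eq_one_iff]
  have hsurj : Function.Surjective σ := by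
    intro y
    obtain ⟨q, hq⟩ := e.surjective (E y)
    obtain ⟨g, rfl⟩ := QuotientGroup.mk_surjective q
    refine ⟨g, ?_⟩
    rw [hσ, hq, MulEquiv.symm_apply_apply]
  let C : Cov Γ m := ⟨σ, hsurj, by rw [hker]; exact hZc, by rw [hker]; exact hZd⟩
  have h := C.card_ker_le (by omega)
  have hC : C.σ.ker = Z := hker
  rwa [hC] at h

end Cfsg.Agent.S0892
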