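import Mathlib
import Cfsg.Statements.S0893
import Cfsg.Agent.Lib.Helper5.CharCenter

set_option autoImplicit false
set_option linter.style.haveILetI false
set_option linter.unusedVariables false
open Cfsg

namespace Cfsg.Agent.S0893

open Cfsg.Agent.Helper24 Cfsg.Agent.Helper5
open scoped ComplexConjugate commutatorElement

/-- Let P be an extraspecial p-group of order p ^ (2 * n + 1), A an abelian subgroup of order p ^ (n + 1), and λ a character of A of degree 1 that is not identically 1 on the elements of A lying in the centre of P. Then the function induced from λ to P is an irreducible character of P and vanishes at every element outside the centre. -/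
theorem result {P : Type*} [Group P] [Fintype P] (p n : ℕ) [Fact p.Prime] (hP : Cfsg.IsExtraspecial p P) (hcard : Nat.card P = p ^ (2 * n + 1)) (A : Subgroup P) (hab : ∀ a ∈ A, ∀ b ∈ A, a * b = b * a) (hA : Nat.card A = p ^ (n + 1)) (lam : A → ℂ) (hlam : Cfsg.IsCharacter A lam ∧ lam 1 = 1) (hZ : ∃ a : A, (a : P) ∈ Subgroup.center P ∧ lam a ≠ 1) : Cfsg.IsIrrCharacter P (Cfsg.indFun A lam) ∧ ∀ x : P, x ∉ Subgroup.center P → Cfsg.indFun A lam x = 0 := by
  classical
  obtain ⟨⟨hpg, hfrat, hcomm⟩, hZcard⟩ := hP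
  obtain ⟨hlamc, hlam1⟩ := hlam
  obtain ⟨a, haZ, hane⟩ := hZ
  letI : Fintype A := Fintype.ofFinite A
  letI := irrFintype (G := P)
  letI : Fintype (Subgroup.center P) := Fintype.ofFinite _
  have hp : p.Prime := Fact.out
  have hmul : ∀ x y : A, lam (x * y) = lam x * lam y := char_mul_of_degree_one hlamc hlam1
  have ha1 : (a : P) ≠ 1 := by
    intro h
    apply hane
    have : a = 1 := Subtype.ext h
    rw [this, hlam1]
  -- Z = zpowers a ≤ A
  have horda : orderOf (a : P) = p := by
    have h2 : orderOf (⟨(a : P), haZ⟩ : Subgroup.center P) ∣ p := hZcard ▸ orderOf_dvd_natCard _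
    rw [Subgroup.orderOf_mk] at h2
    rcases (Nat.dvd_prime hp).mp h2 with h | h
    · exact absurd (orderOf_eq_one_iff.mp h) ha1
    · exact h
  have hZeq : Subgroup.zpowers (a : P) = Subgroup.center P := by
    apply Subgroup.eq_of_le_of_card_ge (Subgroup.zpowers_le.mpr haZ)
    rw [Nat.card_zpowers, horda, hZcard]
  have hZA : Subgroup.center P ≤ A := by
    rw [← hZeq]
    exact Subgroup.zpowers_le.mpr a.2
  -- commutators are central
  have hcZ : ∀ u v : P, ⁅u, v⁆ ∈ Subgroup.center P := by
    intro u v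
    rw [← hcomm, commutator_def]
    exact Subgroup.commutator_mem_commutator (Subgroup.mem_top _) (Subgroup.mem_top _)
  -- A is normal
  haveI hAn : A.Normal := by
    constructor
    intro x hx g
    have h1 : g * x * g⁻¹ = ⁅g, x⁆ * x := by rw [commutatorElement_def]; group
    rw [h1]
    exact A.mul_mem (hZA (hcZ g x)) hx
  have hA0 : (Nat.card A : ℂ) ≠ 0 := by
    rw [Nat.cast_ne_zero]; exact Nat.card_pos.ne'
  have hP0 : (Nat.card P : ℂ) ≠ 0 := by
    rw [Nat.cast_ne_zero]; exact Nat.card_pos.ne'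
  -- value on A
  have hvalA : ∀ (x : P) (hx : x ∈ A), indFun A lam x =
      (Nat.card A : ℂ)⁻¹ * ∑ y : P, lam ⟨y⁻¹ * x * y, by
        have := hAn.conj_mem x hx y⁻¹; simpa using this⟩ := by
    intro x hx
    rw [indFun_apply]
    congr 1
    apply Finset.sum_congr rfl
    intro y _
    rw [Cfsg.Agent.Helper24.extendByZero_of_mem]
  -- vanishing on A \ Z
  have hvan : ∀ x : P, x ∉ Subgroup.center P → indFun A lam x = 0 := by
    intro x hxZ
    by_cases hxA : x ∈ A
    · rw [hvalA x hxA]
      -- c(y) = ⁅x⁻¹, y⁻¹⁆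
      have hc : ∀ y : P, y⁻¹ * x * y = x * ⁅x⁻¹, y⁻¹⁆ := by
        intro y; rw [commutatorElement_def]; group
      have hcA : ∀ y : P, ⁅x⁻¹, y⁻¹⁆ ∈ A := fun y => hZA (hcZ _ _)
      set μ : P → ℂ := fun y => lam ⟨⁅x⁻¹, y⁻¹⁆, hcA y⟩ with hμ
      have hterm : ∀ y : P, lam ⟨y⁻¹ * x * y, by
          have := hAn.conj_mem x hxA y⁻¹; simpa using this⟩ = lam ⟨x, hxA⟩ * μ y := by
        intro y
        rw [hμ, ← hmul]
        congr 1
        apply Subtype.ext
        exact hc y
      simp only [hterm]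
      rw [← Finset.mul_sum]
      -- μ is multiplicative
      have hcmul : ∀ y y' : P, ⁅x⁻¹, (y * y')⁻¹⁆ = ⁅x⁻¹, y'⁻¹⁆ * ⁅x⁻¹, y⁻¹⁆ := by
        intro y y'
        have hcen := Subgroup.mem_center_iff.mp (hcZ x⁻¹ y⁻¹) y'
        rw [commutatorElement_def, commutatorElement_def, commutatorElement_def] at *
        have e1 : x⁻¹ * (y * y')⁻¹ * x⁻¹⁻¹ * (y * y')⁻¹⁻¹ =
            x⁻¹ * y'⁻¹ * x * (x⁻¹ * y⁻¹ * x⁻¹⁻¹ * y⁻¹⁻¹) * y' := by group
        rw [e1, mul_assoc (x⁻¹ * y'⁻¹ * x), ← hcen]
        group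
      have hμmul : ∀ y y' : P, μ (y * y') = μ y' * μ y := by
        intro y y'
        rw [hμ]
        simp only
        rw [← hmul]
        congr 1
        apply Subtype.ext
        exact hcmul y y'
      -- nontrivial
      have hex : ∃ y₀ : P, μ y₀ ≠ 1 := by
        rw [Subgroup.mem_center_iff] at hxZ
        push Not at hxZ
        obtain ⟨y, hy⟩ := hxZ
        -- c(y⁻¹) ≠ 1
        have hc1 : ⁅x⁻¹, y⁆ ≠ 1 := by
          intro h
          rw [commutatorElement_eq_one_iff_mul_comm] at h
          apply hy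
          have : x * (x⁻¹ * y) * x = x * (y * x⁻¹) * x := by rw [h]
          simpa [mul_assoc] using this
        by_contra hall
        push Not at hall
        -- all μ = 1 ⇒ lam trivial on zpowers of c ⇒ lam a = 1
        have hcZ' := hcZ x⁻¹ y
        have hordc : orderOf ⁅x⁻¹, y⁆ = p := by
          have h2 : orderOf (⟨⁅x⁻¹, y⁆, hcZ'⟩ : Subgroup.center P) ∣ p :=
            hZcard ▸ orderOf_dvd_natCard _
          rw [Subgroup.orderOf_mk] at h2
          rcases (Nat.dvd_prime hp).mp h2 with h | h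
          · exact absurd (orderOf_eq_one_iff.mp h) hc1
          · exact h
        have hZeq' : Subgroup.zpowers ⁅x⁻¹, y⁆ = Subgroup.center P := by
          apply Subgroup.eq_of_le_of_card_ge (Subgroup.zpowers_le.mpr hcZ')
          rw [Nat.card_zpowers, hordc, hZcard]
        have ha' : (a : P) ∈ Subgroup.zpowers ⁅x⁻¹, y⁆ := hZeq' ▸ haZ
        obtain ⟨k, hk⟩ := Subgroup.mem_zpowers_iff.mp ha'
        -- lam of c = 1
        have hlc : lam ⟨⁅x⁻¹, y⁆, hZA hcZ'⟩ = 1 := by
          have := hall y⁻¹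
          rw [hμ] at this
          simp only [inv_inv] at this
          exact this
        let L := linHom hlamc hlam1
        have hL : ∀ u : A, ((L u : ℂˣ) : ℂ) = lam u := fun u => rfl
        have hLc : L ⟨⁅x⁻¹, y⁆, hZA hcZ'⟩ = 1 := by
          apply Units.ext
          rw [hL]; exact hlc
        have haL : L a = 1 := by
          have : a = (⟨⁅x⁻¹, y⁆, hZA hcZ'⟩ : A) ^ k := by
            apply Subtype.ext
            rw [Subgroup.coe_zpow]
            exact hk.symm
          rw [this, map_zpow, hLc, one_zpow]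
        apply hane
        rw [← hL, haL]; rfl
      obtain ⟨y₀, hy₀⟩ := hex
      have hsum0 : ∑ y : P, μ y = 0 := by
        have h1 : ∑ y : P, μ y = ∑ y : P, μ (y₀ * y) :=
          (Equiv.sum_comp (Equiv.mulLeft y₀) μ).symm
        simp only [hμmul] at h1
        rw [← Finset.sum_mul] at h1
        have h2 : (∑ y : P, μ y) * (1 - μ y₀) = 0 := by
          rw [mul_sub, mul_one, ← h1, sub_self]
        rcases mul_eq_zero.mp h2 with h | h
        · exact h
        · exact absurd (sub_eq_zero.mp h).symm hy₀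
      rw [hsum0, mul_zero, mul_zero]
    · exact indFun_normal_of_not_mem A lam hxA
  refine ⟨?_, hvan⟩
  -- value on Z
  have hvalZ : ∀ z : Subgroup.center P, indFun A lam (z : P) =
      (A.index : ℂ) * lam ⟨(z : P), hZA z.2⟩ := by
    intro z
    rw [hvalA (z : P) (hZA z.2)]
    have hterm : ∀ y : P, (⟨y⁻¹ * (z : P) * y, by
        have := hAn.conj_mem (z : P) (hZA z.2) y⁻¹; simpa using this⟩ : A) = ⟨(z : P), hZA z.2⟩ := by
      intro y
      apply Subtype.ext
      show y⁻¹ * (z : P) * y = z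
      have := Subgroup.mem_center_iff.mp z.2 y
      rw [mul_assoc, ← this]; group
    simp only [hterm]
    rw [Finset.sum_const, Finset.card_univ, ← Nat.card_eq_fintype_card, ← A.card_mul_index,
      nsmul_eq_mul]
    push_cast
    field_simp
  have hnormlam : ∀ u : A, lam u * conj (lam u) = 1 := by
    intro u
    rw [← irr_inv hlamc u, ← hmul, mul_inv_cancel, hlam1]
  rw [isIrrCharacter_iff]
  refine ⟨isCharacter_indFun A hlamc, ?_⟩
  unfold classInner
  rw [sum_eq_sum_subgroup_add (Subgroup.center P) (fun g => indFun A lam g * conj (indFun A lam g))]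
  have h0 : ∑ g ∈ Finset.univ.filter (fun g : P => ¬ g ∈ Subgroup.center P),
      indFun A lam g * conj (indFun A lam g) = 0 := by
    apply Finset.sum_eq_zero
    intro g hg
    rw [Finset.mem_filter] at hg
    rw [hvan g hg.2, zero_mul]
  rw [h0, add_zero]
  have h1 : ∀ z : Subgroup.center P, indFun A lam (z : P) * conj (indFun A lam (z : P)) =
      (A.index : ℂ) ^ 2 := by
    intro z
    rw [hvalZ z, map_mul, Complex.conj_natCast]
    have := hnormlam ⟨(z : P), hZA z.2⟩
    calc (A.index : ℂ) * lam ⟨(z : P), hZA z.2⟩ * ((A.index : ℂ) * conj (lam ⟨(z : P), hZA z.2⟩))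
        = (A.index : ℂ) ^ 2 * (lam ⟨(z : P), hZA z.2⟩ * conj (lam ⟨(z : P), hZA z.2⟩)) := by ring
      _ = (A.index : ℂ) ^ 2 := by rw [this, mul_one]
  simp only [h1]
  rw [Finset.sum_const, Finset.card_univ, ← Nat.card_eq_fintype_card, hZcard, nsmul_eq_mul]
  have hidx : A.index = p ^ n := by
    have h := A.card_mul_index
    rw [hA, hcard] at h
    have e : p ^ (2 * n + 1) = p ^ (n + 1) * p ^ n := by rw [← pow_add]; congr 1; omega
    rw [e] at h
    exact Nat.eq_of_mul_eq_mul_left (Nat.pos_of_ne_zero (pow_ne_zero _ hp.ne_zero)) h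
  rw [hidx, hcard]
  have hp0 : (p : ℂ) ≠ 0 := by rw [Nat.cast_ne_zero]; exact hp.ne_zero
  push_cast
  field_simp
  ring

end Cfsg.Agent.S0893
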