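import Mathlib
import Cfsg.Statements.S0894
import Cfsg.Agent.Lib.Helper5.CharCenter

set_option autoImplicit false
set_option linter.style.haveILetI false
set_option linter.unusedVariables false
open Cfsg

namespace Cfsg.Agent.S0894

open Cfsg.Agent.Helper24 Cfsg.Agent.Helper5
open scoped ComplexConjugate commutatorElement

/-- In an extraspecial group, an irreducible character that does not vanish somewhere outside
the centre has degree one. -/
theorem degree_one_of_not_vanish {P : Type*} [Group P] [Fintype P] (p : ℕ) [Fact p.Prime]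
    (hcomm : commutator P = Subgroup.center P) (hZcard : Nat.card (Subgroup.center P) = p)
    {χ : P → ℂ} (hχ : IsIrrCharacter P χ) (x : P) (hx : x ∉ Subgroup.center P) (hne0 : χ x ≠ 0) :
    charDegree χ = 1 := by
  classical
  have hp : p.Prime := Fact.out
  have hχc := isCharacter_of_isIrrCharacter hχ
  rw [Subgroup.mem_center_iff] at hx
  push Not at hx
  obtain ⟨y, hy⟩ := hx
  set w : P := ⁅y⁻¹, x⁆ with hw
  have hwZ : w ∈ Subgroup.center P := by
    rw [← hcomm, commutator_def]
    exact Subgroup.commutator_mem_commutator (Subgroup.mem_top _) (Subgroup.mem_top _)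
  have hw1 : w ≠ 1 := by
    intro h
    apply hy
    rw [hw, commutatorElement_eq_one_iff_mul_comm] at h
    have : y * (y⁻¹ * x) * y = y * (x * y⁻¹) * y := by rw [h]
    simpa [mul_assoc] using this.symm
  have hwx : w * x = y⁻¹ * x * y⁻¹⁻¹ := by
    rw [hw, commutatorElement_def]; group
  have h1 := Cfsg.Agent.Helper23.irr_central_mul χ hχ w hwZ x
  rw [hwx, Cfsg.Agent.Helper23.irr_conj χ hχ x y⁻¹] at h1
  have h1ne := Cfsg.Agent.Helper23.irr_one_ne_zero χ hχ
  have hχw : χ w = χ 1 := by
    have h2 : χ w / χ 1 = 1 := by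
      have : χ x * 1 = χ x * (χ w / χ 1) := by rw [mul_one, mul_comm]; exact h1
      exact (mul_left_cancel₀ hne0 this).symm
    field_simp at h2
    exact h2
  -- Z ≤ ker χ
  have hword : orderOf w = p := by
    have h2 : orderOf (⟨w, hwZ⟩ : Subgroup.center P) ∣ p := hZcard ▸ orderOf_dvd_natCard _
    rw [Subgroup.orderOf_mk] at h2
    rcases (Nat.dvd_prime hp).mp h2 with h | h
    · exact absurd (orderOf_eq_one_iff.mp h) hw1
    · exact h
  have hZeq : Subgroup.zpowers w = Subgroup.center P := by
    apply Subgroup.eq_of_le_of_card_ge (Subgroup.zpowers_le.mpr hwZ)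
    rw [Nat.card_zpowers, hword, hZcard]
  have hker : ∀ z ∈ Subgroup.center P, χ z = χ 1 := by
    intro z hz
    rw [← mem_charKer hχc]
    have hle : Subgroup.zpowers w ≤ charKer hχc :=
      Subgroup.zpowers_le.mpr ((mem_charKer hχc w).mpr hχw)
    exact hle (hZeq ▸ hz)
  obtain ⟨ψ, hψ, hψeq⟩ := exists_deflate (Subgroup.center P) hχ hker
  have hQc : IsMulCommutative (P ⧸ Subgroup.center P) :=
    Subgroup.Normal.quotient_commutative_iff_commutator_le.mpr hcomm.le
  letI : Fintype (P ⧸ Subgroup.center P) := Fintype.ofFinite _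
  letI := irrFintype (G := P ⧸ Subgroup.center P)
  have hψ1 : charDegree ψ = 1 := charDegree_eq_one_of_comm (fun a b => hQc.is_comm.comm a b) hψ
  have hψ1' : ψ 1 = 1 := by rw [irr_one_eq_charDegree hψ, hψ1]; simp
  have : χ 1 = 1 := by
    rw [hψeq, Function.comp_apply]
    exact hψ1'
  exact charDegree_natCast 1 (by simpa using this)

/-- Let P be an extraspecial p-group of order p ^ (2 * n + 1). Then every irreducible character of P has degree 1 or p ^ n, and exactly p - 1 of them have degree p ^ n. -/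
theorem result {P : Type*} [Group P] [Finite P] (p n : ℕ) [Fact p.Prime] (hP : Cfsg.IsExtraspecial p P) (hcard : Nat.card P = p ^ (2 * n + 1)) : (∀ χ : Cfsg.IrrCharacter P, (χ : P → ℂ) 1 = 1 ∨ (χ : P → ℂ) 1 = (p : ℂ) ^ n) ∧ Nat.card {χ : Cfsg.IrrCharacter P // (χ : P → ℂ) 1 = (p : ℂ) ^ n} = p - 1 := by
  classical
  letI : Fintype P := Fintype.ofFinite P
  letI := irrFintype (G := P)
  obtain ⟨⟨hpg, hfrat, hcomm⟩, hZcard⟩ := hP
  letI : Fintype (Subgroup.center P) := Fintype.ofFinite _
  have hp : p.Prime := Fact.out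
  have hidx : (Subgroup.center P).index = p ^ (2 * n) := by
    have h := (Subgroup.center P).card_mul_index
    rw [hZcard, hcard, pow_succ, mul_comm] at h
    exact Nat.eq_of_mul_eq_mul_right hp.pos h
  have hkey : ∀ χ : IrrCharacter P, charDegree (χ : P → ℂ) ≠ 1 → charDegree (χ : P → ℂ) = p ^ n := by
    intro χ hne
    have hv : ∀ g : P, g ∉ Subgroup.center P → (χ : P → ℂ) g = 0 := by
      intro g hg
      by_contra h0
      exact hne (degree_one_of_not_vanish p hcomm hZcard χ.2 g hg h0)
    have h2 := sq_degree_of_vanish_off_central (Subgroup.center P) le_rfl χ.2 hv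
    rw [hidx, mul_comm, pow_mul] at h2
    exact Nat.pow_left_injective (by norm_num : 2 ≠ 0) h2
  have hn : n ≠ 0 := by
    rintro rfl
    simp only [mul_zero, pow_zero] at hidx
    have htop : Subgroup.center P = ⊤ := Subgroup.index_eq_one.mp hidx
    have hbot : commutator P = ⊥ := (commutator_eq_bot_iff_center_eq_top P).mpr htop
    rw [hcomm, htop] at hbot
    have : Nat.card (⊤ : Subgroup P) = 1 := by rw [hbot]; simp
    rw [← htop, hZcard] at this
    exact hp.one_lt.ne' this
  have hpn1 : p ^ n ≠ 1 := by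
    intro h
    have := Nat.pow_eq_one.mp h
    rcases this with h | h
    · exact hp.one_lt.ne' h
    · exact hn h
  have hdeg : ∀ χ : IrrCharacter P, (χ : P → ℂ) 1 = (p : ℂ) ^ n ↔ charDegree (χ : P → ℂ) ≠ 1 := by
    intro χ
    rw [irr_one_eq_charDegree χ.2]
    constructor
    · intro h h1
      rw [h1] at h
      apply hpn1
      have : ((1 : ℕ) : ℂ) = ((p ^ n : ℕ) : ℂ) := by push_cast; simpa using h
      exact (Nat.cast_injective this).symm
    · intro h
      rw [hkey χ h]; push_cast; rfl
  refine ⟨?_, ?_⟩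
  · intro χ
    by_cases h : charDegree (χ : P → ℂ) = 1
    · left
      rw [irr_one_eq_charDegree χ.2, h]; simp
    · right
      exact (hdeg χ).mpr h
  · -- counting
    have hsum := sum_charDegree_sq (G := P)
    have hL : Nat.card {χ : IrrCharacter P // charDegree (χ : P → ℂ) = 1} = p ^ (2 * n) := by
      rw [card_linear_characters', hcomm, hidx]
    have hB : Nat.card {χ : IrrCharacter P // (χ : P → ℂ) 1 = (p : ℂ) ^ n} =
        Nat.card {χ : IrrCharacter P // charDegree (χ : P → ℂ) ≠ 1} := by
      apply Nat.card_congr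
      exact Equiv.subtypeEquivRight hdeg
    rw [hB]
    rw [Nat.card_eq_fintype_card, Fintype.card_subtype] at hL ⊢
    rw [← Finset.sum_filter_add_sum_filter_not Finset.univ
      (fun χ : IrrCharacter P => charDegree (χ : P → ℂ) = 1)] at hsum
    have h1 : ∑ χ ∈ Finset.univ.filter (fun χ : IrrCharacter P => charDegree (χ : P → ℂ) = 1),
        charDegree (χ : P → ℂ) ^ 2 = p ^ (2 * n) := by
      rw [← hL, Finset.card_eq_sum_ones]
      apply Finset.sum_congr rfl
      intro χ hχ
      rw [Finset.mem_filter] at hχ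
      rw [hχ.2]; norm_num
    have h2 : ∑ χ ∈ Finset.univ.filter (fun χ : IrrCharacter P => ¬ charDegree (χ : P → ℂ) = 1),
        charDegree (χ : P → ℂ) ^ 2 =
        (Finset.univ.filter (fun χ : IrrCharacter P => ¬ charDegree (χ : P → ℂ) = 1)).card * p ^ (2 * n) := by
      rw [Finset.card_eq_sum_ones, Finset.sum_mul]
      apply Finset.sum_congr rfl
      intro χ hχ
      rw [Finset.mem_filter] at hχ
      rw [hkey χ hχ.2, one_mul, mul_comm, pow_mul]
    rw [h1, h2, hcard, pow_succ] at hsum
    have hpos : 0 < p ^ (2 * n) := Nat.pos_of_ne_zero (pow_ne_zero _ hp.ne_zero)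
    have h3 : (1 + (Finset.univ.filter (fun χ : IrrCharacter P => ¬ charDegree (χ : P → ℂ) = 1)).card) * p ^ (2 * n) = p * p ^ (2 * n) := by
      rw [add_mul, one_mul, hsum, mul_comm]
    have h4 := Nat.eq_of_mul_eq_mul_right hpos h3
    show (Finset.univ.filter (fun χ : IrrCharacter P => ¬ charDegree (χ : P → ℂ) = 1)).card = p - 1
    omega

end Cfsg.Agent.S0894
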