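import Mathlib
import Cfsg.Statements.S0900
import Cfsg.Agent.Lib.Helper5.Clifford

set_option autoImplicit false
set_option linter.style.haveILetI false
set_option linter.unusedVariables false
open Cfsg

namespace Cfsg.Agent.S0900

open Cfsg.Agent.Helper24 Cfsg.Agent.Helper5
open scoped ComplexConjugate

/-- Let N be a normal subgroup of the finite group G, χ an irreducible character of G and ϑ an irreducible character of N having nonzero inner product with the restriction of χ. Consider: (a) the restriction of χ to N is e • ϑ for a natural number e with e ^ 2 equal to the index of N; (b) χ vanishes outside N and ϑ is invariant under conjugation by G; (c) ϑ is invariant and every irreducible character of G having nonzero inner product with the function induced from ϑ equals χ. Then (a) ↔ (b) and (a) ↔ (c). -/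
theorem result {G : Type*} [Group G] [Fintype G] (N : Subgroup G) [hN : N.Normal] [Fintype N] (χ : G → ℂ) (hχ : Cfsg.IsIrrCharacter G χ) (ϑ : N → ℂ) (hϑ : Cfsg.IsIrrCharacter N ϑ) (hcon : Cfsg.classInner (fun n : N => χ n) ϑ ≠ 0) : ((∃ e : ℕ, (fun n : N => χ n) = (e : ℂ) • ϑ ∧ e ^ 2 = N.index) ↔ ((∀ g : G, g ∉ N → χ g = 0) ∧ ∀ (g : G) (n : N), ϑ ⟨g * n * g⁻¹, hN.conj_mem (n : G) n.2 g⟩ = ϑ n)) ∧ ((∃ e : ℕ, (fun n : N => χ n) = (e : ℂ) • ϑ ∧ e ^ 2 = N.index) ↔ (∀ (g : G) (n : N), ϑ ⟨g * n * g⁻¹, hN.conj_mem (n : G) n.2 g⟩ = ϑ n ∧ ∀ ψ : G → ℂ, Cfsg.IsIrrCharacter G ψ → Cfsg.classInner (Cfsg.indFun N ϑ) ψ ≠ 0 → ψ = χ)) := by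
  classical
  letI := irrFintype (G := G)
  have hχc := isCharacter_of_isIrrCharacter hχ
  have hϑc := isCharacter_of_isIrrCharacter hϑ
  have hcfχ := isClassFunction_of_isIrrCharacter hχ
  have hN0 : (Nat.card N : ℂ) ≠ 0 := by
    rw [Nat.cast_ne_zero]; exact Nat.card_pos.ne'
  have hG0 : (Nat.card G : ℂ) ≠ 0 := by
    rw [Nat.cast_ne_zero]; exact Nat.card_pos.ne'
  have hidx : (Nat.card N : ℂ) * (N.index : ℂ) = Nat.card G := by
    exact_mod_cast N.card_mul_index
  have hinv_iff : (∀ (g : G) (n : N), ϑ ⟨g * n * g⁻¹, hN.conj_mem (n : G) n.2 g⟩ = ϑ n) ↔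
      ∀ g, conjFun N g ϑ = ϑ :=
    ⟨fun h g => funext (h g), fun h g n => congrFun (h g) n⟩
  have hϑϑ : classInner ϑ ϑ = 1 := by rw [irr_orthogonality hϑ hϑ, if_pos rfl]
  have hχχ : classInner χ χ = 1 := by rw [irr_orthogonality hχ hχ, if_pos rfl]
  have hϑ1 : ϑ 1 ≠ 0 := by
    obtain ⟨n, hn, h1⟩ := irr_one_eq hϑ
    rw [h1, Nat.cast_ne_zero]; omega
  -- (a) ⇒ invariance
  have ha_inv : ∀ e : ℕ, (fun n : N => χ n) = (e : ℂ) • ϑ → e ^ 2 = N.index →
      ∀ g, conjFun N g ϑ = ϑ := by
    intro e he hidx' g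
    have he0 : (e : ℂ) ≠ 0 := by
      intro h0
      have h00 : e = 0 := by exact_mod_cast h0
      subst h00
      have := Subgroup.index_ne_zero_of_finite (H := N)
      apply this
      rw [← hidx']; norm_num
    have h1 := conjFun_restrict N g hcfχ
    rw [he, conjFun_smul] at h1
    exact smul_right_injective _ he0 h1
  -- norms
  have hsumG : ∑ g : G, χ g * conj (χ g) = Nat.card G := by
    have h := hχχ
    unfold classInner at h
    have : ∑ g : G, χ g * conj (χ g) = (Nat.card G : ℂ) * ((Nat.card G : ℂ)⁻¹ * ∑ g : G, χ g * conj (χ g)) := by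
      field_simp
    rw [this, h, mul_one]
  have hsumN : ∀ e : ℕ, (fun n : N => χ n) = (e : ℂ) • ϑ →
      ∑ n : N, χ n * conj (χ n) = (Nat.card N : ℂ) * (e : ℂ) ^ 2 := by
    intro e he
    have h1 : classInner (fun n : N => χ n) (fun n : N => χ n) = (e : ℂ) ^ 2 := by
      rw [he, classInner_smul_left, classInner_smul_right, hϑϑ, Complex.conj_natCast]
      ring
    unfold classInner at h1
    have : ∑ n : N, χ n * conj (χ n) = (Nat.card N : ℂ) * ((Nat.card N : ℂ)⁻¹ * ∑ n : N, χ n * conj (χ n)) := by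
      field_simp
    rw [this, h1]
  have hsplit : ∑ g : G, χ g * conj (χ g) = ∑ n : N, χ n * conj (χ n) +
      ∑ g ∈ Finset.univ.filter (fun g : G => ¬ g ∈ N), χ g * conj (χ g) := by
    rw [← Finset.sum_filter_add_sum_filter_not Finset.univ (fun g : G => g ∈ N)]
    congr 1
    exact Finset.sum_subtype (Finset.univ.filter (fun g : G => g ∈ N)) (by simp)
      (fun g => χ g * conj (χ g))
  have hterm : ∀ g : G, χ g * conj (χ g) = ((Complex.normSq (χ g) : ℝ) : ℂ) := fun g =>
    Complex.mul_conj (χ g)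
  -- vanishing iff sum over complement zero
  have hvan : (∑ g ∈ Finset.univ.filter (fun g : G => ¬ g ∈ N), χ g * conj (χ g)) = 0 →
      ∀ g : G, g ∉ N → χ g = 0 := by
    intro h0 g hg
    simp only [hterm] at h0
    rw [← Complex.ofReal_sum] at h0
    have h1 : ∑ g ∈ Finset.univ.filter (fun g : G => ¬ g ∈ N), Complex.normSq (χ g) = 0 := by
      exact_mod_cast h0
    rw [Finset.sum_eq_zero_iff_of_nonneg (fun g _ => Complex.normSq_nonneg _)] at h1
    have := h1 g (by simp [hg])
    exact Complex.normSq_eq_zero.mp this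
  -- (a) ⇒ ϑ^G = e χ
  have ha_ind : ∀ e : ℕ, (fun n : N => χ n) = (e : ℂ) • ϑ → e ^ 2 = N.index →
      indFun N ϑ = (e : ℂ) • χ := by
    intro e he hidx'
    have hinv := ha_inv e he hidx'
    have hcfI : IsClassFunction G (indFun N ϑ) := isClassFunction_indFun N ϑ
    have hAA : classInner (indFun N ϑ) (indFun N ϑ) = (e : ℂ) ^ 2 := by
      rw [frobenius_reciprocity N ϑ hcfI, indFun_normal_restrict_of_invariant N ϑ hinv,
        classInner_smul_right, hϑϑ, Complex.conj_natCast, ← hidx']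
      push_cast; ring
    have hAB : classInner (indFun N ϑ) χ = (e : ℂ) := by
      rw [frobenius_reciprocity N ϑ hcfχ, he, classInner_smul_right, hϑϑ, Complex.conj_natCast]
      ring
    have hBA : classInner χ (indFun N ϑ) = (e : ℂ) := by
      rw [← classInner_conj_symm, hAB, Complex.conj_natCast]
    have hzero : classInner (indFun N ϑ + (-(e : ℂ)) • χ) (indFun N ϑ + (-(e : ℂ)) • χ) = 0 := by
      rw [classInner_add_left, classInner_add_right, classInner_add_right, classInner_smul_left,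
        classInner_smul_left, classInner_smul_right, classInner_smul_right, hAA, hAB, hBA, hχχ]
      simp only [map_neg, Complex.conj_natCast]
      ring
    have := classInner_self_eq_zero hzero
    have h2 : indFun N ϑ = indFun N ϑ + (-(e : ℂ)) • χ + (e : ℂ) • χ := by
      rw [add_assoc, ← add_smul]; simp
    rw [h2, this, zero_add]
  refine ⟨⟨?_, ?_⟩, ⟨?_, ?_⟩⟩
  · -- (a) ⇒ (b)
    rintro ⟨e, he, hidx'⟩
    refine ⟨?_, hinv_iff.mpr (ha_inv e he hidx')⟩
    apply hvan
    have h1 := hsumN e he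
    have h2 : (Nat.card N : ℂ) * (e : ℂ) ^ 2 = Nat.card G := by
      rw [← hidx, ← hidx']; push_cast; ring
    rw [h2] at h1
    rw [hsumG, h1] at hsplit
    have := hsplit
    linear_combination -this
  · -- (b) ⇒ (a)
    rintro ⟨hv, hinv⟩
    rw [hinv_iff] at hinv
    obtain ⟨e, he0, hee, he⟩ := restrict_eq_smul_of_invariant N hχ hϑ hinv hcon
    refine ⟨e, he, ?_⟩
    have h0 : (∑ g ∈ Finset.univ.filter (fun g : G => ¬ g ∈ N), χ g * conj (χ g)) = 0 := by
      apply Finset.sum_eq_zero
      intro g hg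
      rw [Finset.mem_filter] at hg
      rw [hv g hg.2, zero_mul]
    rw [hsumG, hsumN e he, h0, add_zero, ← hidx] at hsplit
    have h3 : ((N.index : ℕ) : ℂ) = ((e ^ 2 : ℕ) : ℂ) := by
      push_cast
      exact mul_left_cancel₀ hN0 hsplit
    exact (Nat.cast_injective h3).symm
  · -- (a) ⇒ (c)
    rintro ⟨e, he, hidx'⟩ g n
    refine ⟨hinv_iff.mpr (ha_inv e he hidx') g n, ?_⟩
    intro ψ hψ hne
    rw [ha_ind e he hidx', classInner_smul_left, irr_orthogonality hχ hψ] at hne
    by_contra h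
    apply hne
    rw [if_neg (fun h' => h h'.symm), mul_zero]
  · -- (c) ⇒ (a)
    intro hc
    have hinv : ∀ g, conjFun N g ϑ = ϑ := hinv_iff.mp (fun g n => (hc g n).1)
    have huniq : ∀ ψ : G → ℂ, IsIrrCharacter G ψ → classInner (indFun N ϑ) ψ ≠ 0 → ψ = χ :=
      (hc 1 1).2
    obtain ⟨e, he0, hee, he⟩ := restrict_eq_smul_of_invariant N hχ hϑ hinv hcon
    refine ⟨e, he, ?_⟩
    have hindc : IsCharacter G (indFun N ϑ) := isCharacter_indFun N hϑc
    obtain ⟨_, hdec⟩ := isCharacter_decomp hindc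
    have hAB : classInner (indFun N ϑ) χ = (e : ℂ) := by
      rw [frobenius_reciprocity N ϑ hcfχ, he, classInner_smul_right, hϑϑ, Complex.conj_natCast]
      ring
    have hind : indFun N ϑ = (e : ℂ) • χ := by
      conv_lhs => rw [hdec]
      rw [Finset.sum_eq_single (⟨χ, hχ⟩ : IrrCharacter G)]
      · simp only
        rw [hAB]
      · intro ψ _ hne
        have : classInner (indFun N ϑ) (ψ : G → ℂ) = 0 := by
          by_contra h2
          exact hne (Subtype.ext (huniq ψ ψ.2 h2))
        rw [this, zero_smul]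
      · intro h; exact absurd (Finset.mem_univ _) h
    have hres : (fun n : N => indFun N ϑ n) = (fun n : N => ((e : ℂ) • χ) n) := by
      rw [hind]
    rw [indFun_normal_restrict_of_invariant N ϑ hinv] at hres
    have h1 := congrFun hres 1
    have h2 : (fun n : N => χ n) 1 = ((e : ℂ) • ϑ) 1 := by rw [he]
    simp only [Pi.smul_apply, smul_eq_mul] at h1 h2
    rw [h2] at h1
    have h3 : ((N.index : ℕ) : ℂ) = ((e ^ 2 : ℕ) : ℂ) := by
      push_cast
      have : (N.index : ℂ) * ϑ 1 = (e : ℂ) ^ 2 * ϑ 1 := by rw [h1]; ring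
      exact mul_right_cancel₀ hϑ1 this
    exact (Nat.cast_injective h3).symm

end Cfsg.Agent.S0900
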