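import Mathlib
import Cfsg.Statements.S0901

set_option autoImplicit false
set_option linter.style.haveILetI false
set_option linter.unusedVariables false
open Cfsg

namespace Cfsg.Agent.S0901

open Polynomial

/-- a nonzero element of a field of characteristic `p` that is integral over `ℤ` has order `q - 1`
dividing, for a power `q` of `p` -/
theorem exists_pow_eq_one_of_isIntegral (p : ℕ) [Fact p.Prime] {k : Type*} [Field k] [CharP k p]
    (x : k) (hx : IsIntegral ℤ x) (hx0 : x ≠ 0) : ∃ m : ℕ, 0 < m ∧ ¬ p ∣ m ∧ x ^ m = 1 := by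
  classical
  letI : Algebra (ZMod p) k := ZMod.algebra k p
  have hx' : IsIntegral (ZMod p) x := hx.tower_top
  haveI : FiniteDimensional (ZMod p) (IntermediateField.adjoin (ZMod p) {x}) :=
    IntermediateField.adjoin.finiteDimensional hx'
  haveI : Finite (IntermediateField.adjoin (ZMod p) {x}) := Module.finite_of_finite (ZMod p)
  haveI : Fintype (IntermediateField.adjoin (ZMod p) {x}) := Fintype.ofFinite _
  let L := IntermediateField.adjoin (ZMod p) {x}
  let y : L := ⟨x, IntermediateField.mem_adjoin_simple_self (ZMod p) x⟩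
  have hyx : (y : k) = x := rfl
  have hy0 : y ≠ 0 := by
    intro h
    apply hx0
    rw [← hyx, h]; rfl
  have hpow := FiniteField.pow_card_sub_one_eq_one y hy0
  haveI : CharP L p := ((algebraMap L k).charP_iff (algebraMap L k).injective p).mpr inferInstance
  obtain ⟨n, hp, hq⟩ := FiniteField.card L p
  refine ⟨Fintype.card L - 1, ?_, ?_, ?_⟩
  · have : 1 < Fintype.card L := Fintype.one_lt_card
    omega
  · intro hdvd
    have h1 : p ∣ Fintype.card L := by
      rw [hq]; exact dvd_pow_self p n.ne_zero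
    have h2 : 1 ≤ Fintype.card L := Fintype.card_pos
    have : p ∣ 1 := by
      have := (Nat.dvd_sub h1 hdvd)
      rwa [Nat.sub_sub_self h2] at this
    exact hp.one_lt.ne' (Nat.dvd_one.mp this)
  · have := congrArg (fun z : L => (z : k)) hpow
    simp only [SubmonoidClass.coe_pow, OneMemClass.coe_one] at this
    rw [hyx] at this
    exact this

/-- Let M be a maximal ideal of the ring of algebraic integers containing the prime p, and let U be the set of complex roots of unity of order prime to p. Then reduction modulo M is injective on U, and every algebraic integer not in M is congruent modulo M to an element of U (so U maps bijectively onto the nonzero residues). -/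
theorem result (p : ℕ) [Fact p.Prime] (M : Ideal Cfsg.AlgInt) (hM : Cfsg.IsPModular p M) : (∀ ε₁ ε₂ : Cfsg.AlgInt, (∃ m : ℕ, ¬ p ∣ m ∧ (ε₁ : ℂ) ^ m = 1) → (∃ m : ℕ, ¬ p ∣ m ∧ (ε₂ : ℂ) ^ m = 1) → ε₁ - ε₂ ∈ M → ε₁ = ε₂) ∧ (∀ a : Cfsg.AlgInt, a ∉ M → ∃ ε : Cfsg.AlgInt, (∃ m : ℕ, ¬ p ∣ m ∧ (ε : ℂ) ^ m = 1) ∧ a - ε ∈ M) := by
  classical
  obtain ⟨hp, hMmax, hpM⟩ := hM
  haveI := hMmax
  constructor
  · rintro ε₁ ε₂ ⟨m₁, hm₁, h₁⟩ ⟨m₂, hm₂, h₂⟩ hmem
    by_contra hne
    set m := m₁ * m₂ with hm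
    have hpm : ¬ p ∣ m := by
      intro h
      rcases (Nat.Prime.dvd_mul hp).mp h with h | h
      · exact hm₁ h
      · exact hm₂ h
    have hmpos : 0 < m := Nat.pos_of_ne_zero (fun h => hpm (h ▸ dvd_zero p))
    have e₁ : ε₁ ^ m = 1 := by
      apply Subtype.ext
      rw [SubmonoidClass.coe_pow, hm, pow_mul, h₁, one_pow]; rfl
    have e₂ : ε₂ ^ m = 1 := by
      apply Subtype.ext
      rw [SubmonoidClass.coe_pow, hm, mul_comm, pow_mul, h₂, one_pow]; rfl
    -- ζ = ε₂ * ε₁^(m-1)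
    set ζ : Cfsg.AlgInt := ε₂ * ε₁ ^ (m - 1) with hζ
    have hε₁inv : ε₁ * ε₁ ^ (m - 1) = 1 := by
      rw [← pow_succ', Nat.sub_add_cancel hmpos, e₁]
    have hζm : ζ ^ m = 1 := by
      rw [hζ, mul_pow, e₂, one_mul, ← pow_mul, mul_comm, pow_mul, e₁, one_pow]
    have hζ1 : ζ ≠ 1 := by
      intro h
      apply hne
      have : ε₂ * (ε₁ * ε₁ ^ (m - 1)) = ε₁ * ζ := by rw [hζ]; ring
      rw [hε₁inv, mul_one, h, mul_one] at this
      exact this.symm
    have h1ζ : 1 - ζ ∈ M := by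
      have : 1 - ζ = ε₁ ^ (m - 1) * (ε₁ - ε₂) := by
        rw [hζ, mul_sub, mul_comm (ε₁ ^ (m - 1)) ε₁, hε₁inv]; ring
      rw [this]
      exact M.mul_mem_left _ hmem
    -- geometric sum vanishes
    have hgeom : ∑ i ∈ Finset.range m, ζ ^ i = 0 := by
      have h := geom_sum_mul ζ m
      rw [hζm, sub_self] at h
      have hz : ζ - 1 ≠ 0 := sub_ne_zero.mpr hζ1
      exact (mul_eq_zero.mp h).resolve_right hz
    have hmM : (m : Cfsg.AlgInt) ∈ M := by
      have : (m : Cfsg.AlgInt) = ∑ i ∈ Finset.range m, (1 - ζ ^ i) := by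
        rw [Finset.sum_sub_distrib, hgeom]
        simp
      rw [this]
      apply M.sum_mem
      intro i _
      have : 1 - ζ ^ i = (1 - ζ) * ∑ j ∈ Finset.range i, ζ ^ j := by
        rw [mul_neg_geom_sum]
      rw [this]
      exact M.mul_mem_right _ h1ζ
    have hcop : Nat.Coprime m p := (Nat.Coprime.symm ((Nat.Prime.coprime_iff_not_dvd hp).mpr hpm))
    have h1M : (1 : Cfsg.AlgInt) ∈ M := by
      have hb := Nat.gcd_eq_gcd_ab m p
      rw [hcop] at hb
      have : (1 : Cfsg.AlgInt) = (m : Cfsg.AlgInt) * ((Nat.gcdA m p : ℤ) : Cfsg.AlgInt) + (p : Cfsg.AlgInt) * ((Nat.gcdB m p : ℤ) : Cfsg.AlgInt) := by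
        have := congrArg (fun z : ℤ => (z : Cfsg.AlgInt)) hb
        push_cast at this
        exact this
      rw [this]
      exact M.add_mem (M.mul_mem_right _ hmM) (M.mul_mem_right _ hpM)
    exact hMmax.ne_top ((Ideal.eq_top_iff_one M).mpr h1M)
  · intro a haM
    letI : Field (Cfsg.AlgInt ⧸ M) := Ideal.Quotient.field M
    haveI : CharP (Cfsg.AlgInt ⧸ M) p := by
      rw [CharP.charP_iff_prime_eq_zero hp]
      have : ((p : Cfsg.AlgInt) : Cfsg.AlgInt ⧸ M) = 0 := Ideal.Quotient.eq_zero_iff_mem.mpr hpM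
      simpa using this
    set x : Cfsg.AlgInt ⧸ M := Ideal.Quotient.mk M a with hx
    have hx0 : x ≠ 0 := by
      rw [hx, Ne, Ideal.Quotient.eq_zero_iff_mem]; exact haM
    have haint : IsIntegral ℤ a := by
      have h := a.2
      -- a is integral over ℤ as an element of ℂ
      have h2 : IsIntegral ℤ (a : ℂ) := h
      exact (isIntegral_algebraMap_iff (A := Cfsg.AlgInt) (B := ℂ) Subtype.val_injective).mp h2
    have hxint : IsIntegral ℤ x := haint.map (Ideal.Quotient.mkₐ ℤ M)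
    obtain ⟨m, hmpos, hpm, hxm⟩ := exists_pow_eq_one_of_isIntegral p x hxint hx0
    -- factor X^m - 1 over ℂ
    have hprim : IsPrimitiveRoot (Complex.exp (2 * Real.pi * Complex.I / m)) m :=
      Complex.isPrimitiveRoot_exp m hmpos.ne'
    have hfac := X_pow_sub_one_eq_prod hmpos hprim
    have hev := congrArg (fun f : ℂ[X] => f.eval (a : ℂ)) hfac
    simp only [eval_sub, eval_pow, eval_X, eval_one, eval_prod, eval_C] at hev
    have hmemint : ∀ ζ ∈ nthRootsFinset m (1 : ℂ), ζ ∈ Cfsg.AlgInt := by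
      intro ζ hζ
      have hζm : ζ ^ m = 1 := (mem_nthRootsFinset hmpos 1).mp hζ
      show IsIntegral ℤ ζ
      apply IsIntegral.of_pow hmpos
      rw [hζm]
      exact isIntegral_one
    have hprod : a ^ m - 1 = ∏ ζ ∈ (nthRootsFinset m (1 : ℂ)).attach, (a - ⟨ζ.1, hmemint ζ.1 ζ.2⟩) := by
      apply Subtype.ext
      rw [AddSubgroupClass.coe_sub, SubmonoidClass.coe_pow, OneMemClass.coe_one, hev]
      rw [SubmonoidClass.coe_finsetProd]
      rw [← Finset.prod_attach]
      apply Finset.prod_congr rfl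
      intro ζ _
      rfl
    have hq := congrArg (Ideal.Quotient.mk M) hprod
    rw [map_sub, map_pow, map_one, ← hx, hxm, sub_self, map_prod] at hq
    obtain ⟨ζ, _, hζ0⟩ := Finset.prod_eq_zero_iff.mp hq.symm
    refine ⟨⟨ζ.1, hmemint ζ.1 ζ.2⟩, ⟨m, hpm, (mem_nthRootsFinset hmpos 1).mp ζ.2⟩, ?_⟩
    exact Ideal.Quotient.eq_zero_iff_mem.mp hζ0

end Cfsg.Agent.S0901
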