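import Mathlib
import Cfsg.Statements.S0902
import Cfsg.Agent.Lib.Helper18.GaloisRoots
import Cfsg.Agent.Lib.Helper23.BlockLocal
import Cfsg.Agent.Lib.Helper24.CharIntegral

set_option autoImplicit false

open Cfsg

namespace Cfsg.Agent.S0902

open Cfsg.Agent.Helper24 Cfsg.Agent.Helper23.Blk Cfsg.Agent.Helper18 Polynomial

/-- the centralizer of a coprime power -/
theorem centralizer_pow_eq {G : Type*} [Group G] [Finite G] (g : G) (k : ℕ)
    (hk : Nat.Coprime k (Nat.card G)) :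
    Subgroup.centralizer ({g ^ k} : Set G) = Subgroup.centralizer ({g} : Set G) := by
  have hk' : Nat.Coprime k (orderOf g) := hk.coprime_dvd_right (orderOf_dvd_natCard g)
  obtain ⟨m, hm⟩ := exists_pow_eq_self_of_coprime hk'
  ext x
  simp only [Subgroup.mem_centralizer_iff, Set.mem_singleton_iff, forall_eq]
  constructor
  · intro h
    have h1 : Commute (g ^ k) x := h
    have h2 : Commute ((g ^ k) ^ m) x := h1.pow_left m
    rw [hm] at h2
    exact h2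
  · intro h
    have h1 : Commute g x := h
    exact h1.pow_left k

theorem result {G : Type*} [Group G] [Finite G] (p : ℕ) [Fact p.Prime] (M : Ideal Cfsg.AlgInt) (hM : Cfsg.IsPModular p M) (χ ψ : Cfsg.IrrCharacter G) (h : Cfsg.SameBlock M (χ : G → ℂ) (ψ : G → ℂ)) (M' : Ideal Cfsg.AlgInt) (hM' : Cfsg.IsPModular p M') (g : G) : ∃ r : Cfsg.AlgInt, r ∈ M' ∧ (r : ℂ) = Cfsg.centralChar (χ : G → ℂ) g - Cfsg.centralChar (ψ : G → ℂ) g := by
  classical
  haveI : Fintype G := Fintype.ofFinite G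
  have hn : 0 < Nat.card G := Nat.card_pos
  haveI hMp : M.IsPrime := hM.2.1.isPrime
  haveI hMp' : M'.IsPrime := hM'.2.1.isPrime
  have hint : ∀ x : G, IsIntegral ℤ
      (centralChar (χ : G → ℂ) x - centralChar (ψ : G → ℂ) x) :=
    fun x => (isIntegral_centralChar χ.2 x).sub (isIntegral_centralChar ψ.2 x)
  have hmem : ∀ x : G, (⟨_, hint x⟩ : AlgInt) ∈ M := by
    intro x
    rw [← memLocalIdeal_coe_iff]
    exact h x
  refine ⟨⟨_, hint g⟩, ?_, rfl⟩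
  apply mem_of_roots_mem hM.2.1.ne_top hM.1 hM.2.2 hM'.2.2
  intro r hr
  obtain ⟨n₁, ρ₁, hρ₁, hρχ⟩ := χ.2
  obtain ⟨n₂, ρ₂, hρ₂, hρψ⟩ := ψ.2
  obtain ⟨μ, hμ, hpowμ, -⟩ := exists_roots_of_unity ρ₁ g
  obtain ⟨ν, hν, hpowν, -⟩ := exists_roots_of_unity ρ₂ g
  set idx : ℕ := (Subgroup.centralizer ({g} : Set G)).index with hidx
  have hχ1 : (χ : G → ℂ) 1 = (Module.finrank ℂ (Fin n₁ → ℂ) : ℂ) := by
    rw [← hρχ, Representation.char_one]
  have hψ1 : (ψ : G → ℂ) 1 = (Module.finrank ℂ (Fin n₂ → ℂ) : ℂ) := by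
    rw [← hρψ, Representation.char_one]
  let c : Fin (Module.finrank ℂ (Fin n₁ → ℂ)) ⊕ Fin (Module.finrank ℂ (Fin n₂ → ℂ)) → ℚ :=
    Sum.elim (fun _ => (idx : ℚ) / ((Module.finrank ℂ (Fin n₁ → ℂ) : ℕ) : ℚ))
      (fun _ => - ((idx : ℚ) / ((Module.finrank ℂ (Fin n₂ → ℂ) : ℕ) : ℚ)))
  let μ' : Fin (Module.finrank ℂ (Fin n₁ → ℂ)) ⊕ Fin (Module.finrank ℂ (Fin n₂ → ℂ)) → ℂ :=
    Sum.elim μ ν
  have hμ' : ∀ i, μ' i ^ Nat.card G = 1 := by
    intro i
    cases i with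
    | inl i => exact hμ i
    | inr i => exact hν i
  have hform : ∀ k : ℕ, Nat.Coprime k (Nat.card G) →
      centralChar (χ : G → ℂ) (g ^ k) - centralChar (ψ : G → ℂ) (g ^ k) =
        ∑ i, (c i : ℂ) * μ' i ^ k := by
    intro k hk
    rw [Fintype.sum_sum_type]
    simp only [c, μ', Sum.elim_inl, Sum.elim_inr]
    unfold centralChar
    rw [centralizer_pow_eq g k hk, ← hidx, hχ1, hψ1, ← hρχ, ← hρψ, hpowμ k, hpowν k,
      ← Finset.mul_sum, ← Finset.mul_sum]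
    push_cast
    ring
  have h1 := hform 1 (Nat.coprime_one_left _)
  simp only [pow_one] at h1
  have hd : IsIntegral ℤ (centralChar (χ : G → ℂ) g - centralChar (ψ : G → ℂ) g) := hint g
  have hr' : aeval r (minpoly ℚ (∑ i, (c i : ℂ) * μ' i)) = 0 := by
    rw [← h1, minpoly.isIntegrallyClosed_eq_field_fractions' ℚ hd, aeval_map_algebraMap]
    exact hr
  obtain ⟨k, hk, hrk⟩ := exists_coprime_of_root_minpoly hn c μ' hμ' r hr'
  refine ⟨⟨_, hint (g ^ k)⟩, hmem (g ^ k), ?_⟩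
  rw [hrk, ← hform k hk]

end Cfsg.Agent.S0902
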