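import Mathlib
import Cfsg.Statements.S0903

set_option autoImplicit false
open Cfsg

namespace Cfsg.Agent.S0903

section
variable {G : Type*} [Group G] (P : Subgroup G) (c g h : G)

/-- the set of pairs -/
abbrev Pairs : Type _ := {xy : G × G // IsConj g xy.1 ∧ IsConj h xy.2 ∧ xy.1 * xy.2 = c}

variable (hc : c ∈ Subgroup.centralizer (P : Set G))

/-- conjugation action of `P` on the pairs -/
@[reducible] def pairsAction (hc : c ∈ Subgroup.centralizer (P : Set G)) : MulAction P (Pairs c g h) where
  smul u xy := ⟨((u : G) * xy.1.1 * (u : G)⁻¹, (u : G) * xy.1.2 * (u : G)⁻¹), by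
    obtain ⟨⟨x, y⟩, hx, hy, hxy⟩ := xy
    refine ⟨hx.trans (isConj_iff.mpr ⟨u, rfl⟩), hy.trans (isConj_iff.mpr ⟨u, rfl⟩), ?_⟩
    have h1 : (u : G) * c = c * (u : G) := (Subgroup.mem_centralizer_iff.mp hc) u u.2
    simp only at hxy ⊢
    calc (u : G) * x * (u : G)⁻¹ * ((u : G) * y * (u : G)⁻¹) = (u : G) * (x * y) * (u : G)⁻¹ := by group
      _ = (u : G) * c * (u : G)⁻¹ := by rw [hxy]
      _ = c := by rw [h1]; group⟩
  one_smul xy := by
    apply Subtype.ext
    apply Prod.ext <;> simp [HSMul.hSMul]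
  mul_smul u v xy := by
    apply Subtype.ext
    apply Prod.ext <;> simp [HSMul.hSMul, mul_assoc]

end

/-- Let P be a p-subgroup of the finite group G, let c centralize P and let g, h ∈ G. The number of pairs (x, y) with x conjugate to g, y conjugate to h and x * y = c is congruent modulo p to the number of such pairs in which x and y both centralize P. (This is why the Brauer map on class sums is multiplicative.) -/
theorem result {G : Type*} [Group G] [Finite G] (p : ℕ) [Fact p.Prime] (P : Subgroup G) (hP : IsPGroup p P) (c : G) (hc : c ∈ Subgroup.centralizer (P : Set G)) (g h : G) : Nat.card {xy : G × G // IsConj g xy.1 ∧ IsConj h xy.2 ∧ xy.1 * xy.2 = c} ≡ Nat.card {xy : G × G // IsConj g xy.1 ∧ IsConj h xy.2 ∧ xy.1 * xy.2 = c ∧ xy.1 ∈ Subgroup.centralizer (P : Set G) ∧ xy.2 ∈ Subgroup.centralizer (P : Set G)} [MOD p] := by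
  classical
  letI : MulAction P (Pairs c g h) := pairsAction P c g h hc
  have hsmul : ∀ (u : P) (xy : Pairs c g h), ((u • xy : Pairs c g h) : G × G) = ((u : G) * xy.1.1 * (u : G)⁻¹, (u : G) * xy.1.2 * (u : G)⁻¹) := fun _ _ => rfl
  have key := hP.card_modEq_card_fixedPoints (Pairs c g h)
  refine key.trans ?_
  have : Nat.card (MulAction.fixedPoints P (Pairs c g h)) = Nat.card {xy : G × G // IsConj g xy.1 ∧ IsConj h xy.2 ∧ xy.1 * xy.2 = c ∧ xy.1 ∈ Subgroup.centralizer (P : Set G) ∧ xy.2 ∈ Subgroup.centralizer (P : Set G)} := by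
    apply Nat.card_congr
    refine
      { toFun := fun z => ⟨z.1.1, z.1.2.1, z.1.2.2.1, z.1.2.2.2, ?_, ?_⟩
        invFun := fun w => ⟨⟨w.1, w.2.1, w.2.2.1, w.2.2.2.1⟩, ?_⟩
        left_inv := fun z => rfl
        right_inv := fun w => rfl }
    · rw [Subgroup.mem_centralizer_iff]
      intro u hu
      have h1 := z.2 ⟨u, hu⟩
      have h2 := congrArg (fun t : Pairs c g h => (t : G × G).1) h1
      simp only [hsmul] at h2
      calc u * z.1.1.1 = u * z.1.1.1 * u⁻¹ * u := by group
        _ = z.1.1.1 * u := by rw [h2]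
    · rw [Subgroup.mem_centralizer_iff]
      intro u hu
      have h1 := z.2 ⟨u, hu⟩
      have h2 := congrArg (fun t : Pairs c g h => (t : G × G).2) h1
      simp only [hsmul] at h2
      calc u * z.1.1.2 = u * z.1.1.2 * u⁻¹ * u := by group
        _ = z.1.1.2 * u := by rw [h2]
    · intro u
      apply Subtype.ext
      rw [hsmul]
      have h1 := (Subgroup.mem_centralizer_iff.mp w.2.2.2.2.1) u u.2
      have h2 := (Subgroup.mem_centralizer_iff.mp w.2.2.2.2.2) u u.2
      apply Prod.ext
      · simp only; rw [h1]; group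
      · simp only; rw [h2]; group
  rw [this]

end Cfsg.Agent.S0903
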