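import Mathlib
import Cfsg.Statements.S0920
import Cfsg.Agent.Lib.Helper23.BlockFirstMain

set_option autoImplicit false
open Cfsg Cfsg.Agent.Helper23.Blk Cfsg.Agent.Helper24

namespace Cfsg.Agent.S0920

/-- Brauer's First Main Theorem. Let D be a p-subgroup of the finite group G with normalizer N, and fix a maximal ideal M of the algebraic integers containing p. Then (i) every block b of N having D as a defect group induces some block B of G having D as a defect group; (ii) every block of G with defect group D is induced by exactly one block of N with defect group D. -/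
theorem result {G : Type*} [Group G] [Finite G] (p : ℕ) [Fact p.Prime] (M : Ideal Cfsg.AlgInt) (hM : Cfsg.IsPModular p M) (D : Subgroup G) (hD : IsPGroup p D) : (∀ b : Set (Cfsg.IrrCharacter (Subgroup.normalizer (D : Set G))), Cfsg.IsPBlock M b → Cfsg.IsDefectGroup p M b (D.subgroupOf (Subgroup.normalizer (D : Set G))) → ∃ B : Set (Cfsg.IrrCharacter G), Cfsg.IsPBlock M B ∧ Cfsg.IsDefectGroup p M B D ∧ Cfsg.IsInducedBlock M (Subgroup.normalizer (D : Set G)) b B) ∧ (∀ B : Set (Cfsg.IrrCharacter G), Cfsg.IsPBlock M B → Cfsg.IsDefectGroup p M B D → ∃! b : Set (Cfsg.IrrCharacter (Subgroup.normalizer (D : Set G))), Cfsg.IsPBlock M b ∧ Cfsg.IsDefectGroup p M b (D.subgroupOf (Subgroup.normalizer (D : Set G))) ∧ Cfsg.IsInducedBlock M (Subgroup.normalizer (D : Set G)) b B) := by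
  classical
  haveI : Fintype G := Fintype.ofFinite G
  haveI : Fintype (Subgroup.normalizer (D : Set G)) := Fintype.ofFinite _
  letI : Fintype (IrrCharacter G) := irrFintype
  letI : Fintype (IrrCharacter (Subgroup.normalizer (D : Set G))) := irrFintype
  haveI hMp : M.IsPrime := hM.2.1.isPrime
  constructor
  · intro b hb hDb
    obtain ⟨ξ₀, rfl⟩ := hb
    obtain ⟨χ, hχ⟩ := exists_irr_induced D (Subgroup.normalizer (D : Set G)) hM hD
      Subgroup.le_normalizer (Subgroup.centralizer_le_normalizer _) le_rfl ξ₀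
    have hind : IsInducedBlock M (Subgroup.normalizer (D : Set G))
        (blockOf M (ξ₀ : Subgroup.normalizer (D : Set G) → ℂ)) (blockOf M (χ : G → ℂ)) := by
      apply isInducedBlock_of_forall
      intro g
      exact hχ _ (isClassFunction_classInd g) (fun x => memLocalRing_classInd g x)
    exact ⟨blockOf M (χ : G → ℂ), ⟨χ, rfl⟩,
      firstMain_forward D hM hD ⟨ξ₀, rfl⟩ hDb ⟨χ, rfl⟩ hind, hind⟩
  · intro B hB hDB
    obtain ⟨b, hb, hDb, hind⟩ := firstMain_exists D hM hD hB hDB
    refine ⟨b, ⟨hb, hDb, hind⟩, ?_⟩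
    rintro b' ⟨hb', hDb', hind'⟩
    exact firstMain_unique D hM hD hb' hb hDb' hDb hind' hind

end Cfsg.Agent.S0920
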