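import Mathlib
import Cfsg.Statements.S0921
import Cfsg.Agent.Lib.Helper18.BlockOver
import Cfsg.Agent.Lib.Helper22.PPrimeCore

set_option autoImplicit false
open Cfsg

namespace Cfsg.Agent.S0921

open Cfsg.Agent.Helper24 Cfsg.Agent.Helper18 Cfsg.Agent.Helper23.Blk

theorem result {G : Type*} [Group G] [Finite G] (p : ℕ) [Fact p.Prime] (M : Ideal Cfsg.AlgInt) (hM : Cfsg.IsPModular p M) [Fintype G] (χ ψ : Cfsg.IrrCharacter G) (h : Cfsg.SameBlock M (χ : G → ℂ) (ψ : G → ℂ)) (θ : Cfsg.IrrCharacter (Cfsg.pPrimeCore p G)) [Fintype (Cfsg.pPrimeCore p G)] : Cfsg.classInner (fun n : Cfsg.pPrimeCore p G => (χ : G → ℂ) n) (θ : Cfsg.pPrimeCore p G → ℂ) ≠ 0 ↔ Cfsg.classInner (fun n : Cfsg.pPrimeCore p G => (ψ : G → ℂ) n) (θ : Cfsg.pPrimeCore p G → ℂ) ≠ 0 := by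
  haveI : (pPrimeCore p G).Normal := Cfsg.Agent.Helper22.pPrimeCore_normal p
  haveI : M.IsPrime := isPrime_of_isPModular hM
  have hpN : ¬ p ∣ Nat.card (pPrimeCore p G) :=
    Cfsg.Agent.Helper22.not_dvd_card_pPrimeCore p Fact.out
  constructor
  · intro hχ
    exact over_of_sameBlock (pPrimeCore p G) hM hpN θ.2 h hχ
  · intro hψ
    exact over_of_sameBlock (pPrimeCore p G) hM hpN θ.2 (sameBlock_symm h) hψ

end Cfsg.Agent.S0921
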