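import Mathlib
import Cfsg.Statements.S0930
import Cfsg.Agent.S0929
import Cfsg.Agent.S0876
import Cfsg.Agent.Lib.Helper23.BlockCongr

set_option autoImplicit false
open Cfsg

namespace Cfsg.Agent.S0930

open Cfsg.Agent.Helper24 Cfsg.Agent.Helper18 Cfsg.Agent.Helper23.Blk
open scoped ComplexConjugate

/-- a central element `x` of a defect group `P` (a Sylow subgroup of the centralizer of the
defect class `g₀`): some character of the block has non-vanishing central character at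
`x * g₀` -/
theorem exists_not_memLocalIdeal_central_mul {G : Type*} [Group G] [Finite G] {p : ℕ}
    [Fact p.Prime] {M : Ideal AlgInt} (hM : IsPModular p M) {B : Set (IrrCharacter G)}
    (hB : IsPBlock M B) {g₀ : G} (hg₀ : IsDefectClass M B g₀)
    (Pg : Sylow p (Subgroup.centralizer ({g₀} : Set G))) {x : G}
    (hx : x ∈ (Pg : Subgroup (Subgroup.centralizer ({g₀} : Set G))).map
      (Subgroup.centralizer ({g₀} : Set G)).subtype)
    (hxc : ∀ w ∈ (Pg : Subgroup (Subgroup.centralizer ({g₀} : Set G))).map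
      (Subgroup.centralizer ({g₀} : Set G)).subtype, x * w = w * x) :
    IsPPart p (x * g₀) x ∧ ∃ χ ∈ B, ¬ MemLocalIdeal M (centralChar (χ : G → ℂ) (x * g₀)) := by
  classical
  haveI : Fintype G := Fintype.ofFinite G
  haveI hMp : M.IsPrime := hM.2.1.isPrime
  have hp : p.Prime := hM.1
  -- `g₀` is `p`-regular
  have hreg : ¬ p ∣ orderOf g₀ := by
    intro h
    apply hg₀.2.1
    rw [blockCoeff_eq_zero_of_pSingular hM hB h]
    exact memLocalIdeal_zero ne_top
  obtain ⟨x', hx'P, hx'x⟩ := hx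
  have hxC : x ∈ Subgroup.centralizer ({g₀} : Set G) := by
    rw [← hx'x]
    exact x'.2
  have hcomm : Commute x g₀ := by
    rw [Subgroup.mem_centralizer_iff] at hxC
    exact (hxC g₀ rfl).symm
  obtain ⟨k, hk⟩ : ∃ k : ℕ, orderOf x = p ^ k := by
    obtain ⟨k, hk⟩ := (IsPGroup.iff_orderOf.mp Pg.isPGroup') ⟨x', hx'P⟩
    refine ⟨k, ?_⟩
    rw [← hk, ← hx'x, Subgroup.orderOf_mk]
    exact Subgroup.orderOf_coe x'
  have hpp : IsPPart p (x * g₀) x := ⟨g₀, rfl, hcomm, ⟨k, hk⟩, hreg⟩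
  refine ⟨hpp, ?_⟩
  have hxz : x ∈ Subgroup.zpowers (x * g₀) := Cfsg.Agent.S0929.isPPart_mem_zpowers hp hpp
  have hgz : g₀ ∈ Subgroup.zpowers (x * g₀) := by
    have h1 : x⁻¹ * (x * g₀) ∈ Subgroup.zpowers (x * g₀) :=
      Subgroup.mul_mem _ (Subgroup.inv_mem _ hxz) (Subgroup.mem_zpowers _)
    rwa [inv_mul_cancel_left] at h1
  have hC10 : Subgroup.centralizer ({x * g₀} : Set G) ≤ Subgroup.centralizer ({g₀} : Set G) := by
    intro c hc
    rw [Subgroup.mem_centralizer_iff] at hc ⊢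
    intro y hy
    rw [Set.mem_singleton_iff] at hy
    rw [hy]
    have h1 : Commute c (x * g₀) := (hc (x * g₀) rfl).symm
    obtain ⟨n, hn⟩ := Subgroup.mem_zpowers_iff.mp hgz
    have : Commute c g₀ := by
      rw [← hn]
      exact h1.zpow_right n
    exact this.eq.symm
  -- the Sylow subgroup lies in the smaller centralizer
  have hPC1 : (Pg : Subgroup (Subgroup.centralizer ({g₀} : Set G))) ≤
      (Subgroup.centralizer ({x * g₀} : Set G)).subgroupOf
        (Subgroup.centralizer ({g₀} : Set G)) := by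
    intro w hw
    rw [Subgroup.mem_subgroupOf, Subgroup.mem_centralizer_iff]
    intro y hy
    rw [Set.mem_singleton_iff] at hy
    rw [hy]
    have h1 : x * (w : G) = (w : G) * x := hxc (w : G) ⟨w, hw, rfl⟩
    have h2 : g₀ * (w : G) = (w : G) * g₀ := by
      have := w.2
      rw [Subgroup.mem_centralizer_iff] at this
      exact this g₀ rfl
    rw [mul_assoc, h2, ← mul_assoc, h1, mul_assoc]
  have hrel : ¬ p ∣ (Subgroup.centralizer ({x * g₀} : Set G)).relIndex
      (Subgroup.centralizer ({g₀} : Set G)) := by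
    intro h
    have h1 : ((Subgroup.centralizer ({x * g₀} : Set G)).subgroupOf
        (Subgroup.centralizer ({g₀} : Set G))).index ∣
        (Pg : Subgroup (Subgroup.centralizer ({g₀} : Set G))).index :=
      Subgroup.index_dvd_of_le hPC1
    exact Pg.not_dvd_index (h.trans h1)
  have hidx : (Subgroup.centralizer ({x * g₀} : Set G)).index =
      (Subgroup.centralizer ({x * g₀} : Set G)).relIndex
        (Subgroup.centralizer ({g₀} : Set G)) *
        (Subgroup.centralizer ({g₀} : Set G)).index :=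
    (Subgroup.relIndex_mul_index hC10).symm
  obtain ⟨χ, hχ, hle⟩ := exists_factorization_le_of_isDefectClass hM hB hg₀
  refine ⟨χ, hχ, ?_⟩
  have hd0 : charDegree (χ : G → ℂ) ≠ 0 := (charDegree_pos χ.2).ne'
  have hi0 : (Subgroup.centralizer ({g₀} : Set G)).index ≠ 0 :=
    Subgroup.index_ne_zero_of_finite
  have hu := (memLocalRing_natCast_div hM hi0 hd0 hle).1
  have hχ1 : (χ : G → ℂ) 1 = (charDegree (χ : G → ℂ) : ℂ) := irr_one_eq_charDegree χ.2
  have hχc : IsCharacter G (χ : G → ℂ) := isCharacter_of_isIrrCharacter χ.2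
  have hint : ∀ g : G, MemLocalRing M ((χ : G → ℂ) g) := by
    intro g
    obtain ⟨n, ρ, hρ⟩ := hχc
    rw [← hρ]
    exact memLocalRing_of_isIntegral (isIntegral_char ρ g) ne_top
  have hω0 := hg₀.2.2 χ hχ
  have hcong := Cfsg.Agent.S0876.congr_pRegPart hM hpp hχc
  rw [show x⁻¹ * (x * g₀) = g₀ by group] at hcong
  -- the key element
  have hkey : ¬ MemLocalIdeal M (((Subgroup.centralizer ({g₀} : Set G)).index : ℂ) /
      (charDegree (χ : G → ℂ) : ℂ) * (χ : G → ℂ) (x * g₀)) := by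
    intro h
    apply hω0
    have h1 := memLocalIdeal_mul_left hu hcong
    have h2 := memLocalIdeal_sub h h1
    have h3 : ((Subgroup.centralizer ({g₀} : Set G)).index : ℂ) /
        (charDegree (χ : G → ℂ) : ℂ) * (χ : G → ℂ) (x * g₀) -
        ((Subgroup.centralizer ({g₀} : Set G)).index : ℂ) / (charDegree (χ : G → ℂ) : ℂ) *
          ((χ : G → ℂ) (x * g₀) - (χ : G → ℂ) g₀) = centralChar (χ : G → ℂ) g₀ := by
      unfold centralChar
      rw [hχ1]
      ring
    rwa [h3] at h2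
  have hfin : centralChar (χ : G → ℂ) (x * g₀) =
      (((Subgroup.centralizer ({x * g₀} : Set G)).relIndex
        (Subgroup.centralizer ({g₀} : Set G)) : ℕ) : ℂ) *
      (((Subgroup.centralizer ({g₀} : Set G)).index : ℂ) /
      (charDegree (χ : G → ℂ) : ℂ) * (χ : G → ℂ) (x * g₀)) := by
    unfold centralChar
    rw [hχ1, hidx]
    push_cast
    ring
  rw [hfin]
  apply not_memLocalIdeal_mul (memLocalRing_natCast _) (memLocalRing_mul hu (hint _)) _ hkey
  rw [memLocalIdeal_natCast_iff hM]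
  exact hrel

theorem result {G : Type*} [Group G] [Finite G] (p : ℕ) [Fact p.Prime] (M : Ideal Cfsg.AlgInt) (hM : Cfsg.IsPModular p M) (H : Subgroup G) (b : Set (Cfsg.IrrCharacter H)) (B : Set (Cfsg.IrrCharacter G)) (hind : Cfsg.IsInducedBlock M H b B) (D : Subgroup H) (hD : Cfsg.IsDefectGroup p M b D) (P : Subgroup G) (hP : Cfsg.IsDefectGroup p M B P) (x : G) (hx : x ∈ P) (hxc : ∀ w ∈ P, x * w = w * x) : ∃ g : G, g * x * g⁻¹ ∈ D.map H.subtype ∧ ∀ w ∈ D.map H.subtype, (g * x * g⁻¹) * w = w * (g * x * g⁻¹) := by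
  classical
  haveI : Fintype G := Fintype.ofFinite G
  haveI hMp : M.IsPrime := hM.2.1.isPrime
  have hp : p.Prime := hM.1
  obtain ⟨hb, hB, hcong⟩ := hind
  obtain ⟨g₀, hg₀, Pg, rfl⟩ := hP
  obtain ⟨hpp, χ, hχ, hχg⟩ := exists_not_memLocalIdeal_central_mul hM hB hg₀ Pg hx hxc
  obtain ⟨θ₀, hθ₀⟩ := hb
  have hθ₀b : θ₀ ∈ b := by
    rw [hθ₀]
    exact mem_blockOf_self θ₀
  have h1 := hcong θ₀ hθ₀b χ hχ (x * g₀)
  have h2 : ¬ MemLocalIdeal M (inducedCentralChar H (θ₀ : H → ℂ) (x * g₀)) := by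
    intro h
    apply hχg
    have h3 := memLocalIdeal_sub h h1
    rwa [sub_sub_cancel] at h3
  obtain ⟨y, hyg, hy⟩ := Cfsg.Agent.S0929.exists_of_not_memLocalIdeal_induced H
    (θ₀ : H → ℂ) (isClassFunction_of_isIrrCharacter θ₀.2) (x * g₀) h2
  obtain ⟨x₁, hyx₁, -, hx₁pp⟩ := Cfsg.Agent.S0929.result p M hM b ⟨θ₀, hθ₀⟩ D hD y
    ⟨θ₀, hθ₀b, hy⟩
  have hconj : IsConj (x * g₀) (x₁ : G) := by
    refine hyg.trans ?_
    obtain ⟨c, hc⟩ := isConj_iff.mp hyx₁
    rw [isConj_iff]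
    refine ⟨(c : G), ?_⟩
    rw [← hc]
    push_cast
    rfl
  obtain ⟨c, hc⟩ := isConj_iff.mp hconj
  obtain ⟨u, hzu, hcomm, ⟨k, hk⟩, hu⟩ := hpp
  have hu' : u = g₀ := by
    have := hzu
    exact mul_left_cancel this
  subst hu'
  have hppG : IsPPart p (x₁ : G) (c * x * c⁻¹) := by
    refine ⟨c * u * c⁻¹, ?_, ?_, ⟨k, ?_⟩, ?_⟩
    · rw [← hc]
      group
    · show (c * x * c⁻¹) * (c * u * c⁻¹) = (c * u * c⁻¹) * (c * x * c⁻¹)
      have := hcomm.eq
      calc (c * x * c⁻¹) * (c * u * c⁻¹) = c * (x * u) * c⁻¹ := by group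
        _ = c * (u * x) * c⁻¹ := by rw [this]
        _ = (c * u * c⁻¹) * (c * x * c⁻¹) := by group
    · rw [← hk]
      exact (MulAut.conj c).orderOf_eq x
    · have : orderOf (c * u * c⁻¹) = orderOf u := (MulAut.conj c).orderOf_eq u
      rw [this]
      exact hu
  have hzpow : c * x * c⁻¹ ∈ Subgroup.zpowers (x₁ : G) :=
    Cfsg.Agent.S0929.isPPart_mem_zpowers hp hppG
  have hzH : c * x * c⁻¹ ∈ H := by
    have hle : Subgroup.zpowers (x₁ : G) ≤ H := by
      rw [Subgroup.zpowers_le]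
      exact x₁.2
    exact hle hzpow
  obtain ⟨u₁, hzu₁, hcomm₁, ⟨k₁, hk₁⟩, hu₁⟩ := hppG
  have hu₁H : u₁ ∈ H := by
    have : u₁ = (c * x * c⁻¹)⁻¹ * (x₁ : G) := by
      rw [← hzu₁]
      group
    rw [this]
    exact Subgroup.mul_mem _ (Subgroup.inv_mem _ hzH) x₁.2
  have hz' : IsPPart p x₁ (⟨c * x * c⁻¹, hzH⟩ : H) := by
    refine ⟨⟨u₁, hu₁H⟩, ?_, ?_, ⟨k₁, ?_⟩, ?_⟩
    · apply Subtype.ext
      exact hzu₁
    · apply Subtype.ext
      exact hcomm₁.eq
    · rw [← hk₁]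
      exact Subgroup.orderOf_mk _ hzH
    · rw [Subgroup.orderOf_mk u₁ hu₁H]
      exact hu₁
  obtain ⟨hzD, hzc⟩ := hx₁pp _ hz'
  refine ⟨c, ⟨⟨c * x * c⁻¹, hzH⟩, hzD, rfl⟩, ?_⟩
  rintro w ⟨w', hw'D, rfl⟩
  exact congrArg Subtype.val (hzc w' hw'D)

end Cfsg.Agent.S0930
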