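import Mathlib
import Cfsg.Statements.S0932
import Cfsg.Agent.Lib.Helper5.IndFun

set_option autoImplicit false
set_option linter.unusedVariables false
open Cfsg

namespace Cfsg.Agent.S0932

open Cfsg.Agent.Helper5

/-- Let H be a subgroup of the finite group G and ξ a character of H. For every g ∈ G, the sum of ξ h / ξ 1 over the elements h ∈ H that are conjugate in G to g equals the central character at g of the character of G induced from ξ (class size times value divided by degree). -/
theorem result {G : Type*} [Group G] [Fintype G] (H : Subgroup G) (ξ : H → ℂ) (hξ : Cfsg.IsCharacter H ξ) (g : G) : Cfsg.inducedCentralChar H ξ g = Cfsg.centralChar (Cfsg.indFun H ξ) g := by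
  classical
  have : Fintype H := Fintype.ofFinite _
  unfold Cfsg.inducedCentralChar Cfsg.centralChar
  rw [finsum_mem_eq_sum_ite, indFun_apply_eq, indFun_one]
  simp only [Set.mem_setOf_eq]
  set S : ℂ := ∑ h : H, (if IsConj g (h : G) then ξ h else 0) with hS
  have hL : ∑ h : H, (if IsConj g (h : G) then ξ h / ξ 1 else 0) = S / ξ 1 := by
    rw [hS, Finset.sum_div]
    apply Finset.sum_congr rfl
    intro h _
    split_ifs <;> simp
  rw [hL]
  have hH : (Nat.card H : ℂ) ≠ 0 := by
    have : 0 < Nat.card H := Nat.card_pos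
    exact_mod_cast this.ne'
  have hC : (Nat.card (Subgroup.centralizer ({g} : Set G)) : ℂ) ≠ 0 := by
    have : 0 < Nat.card (Subgroup.centralizer ({g} : Set G)) := Nat.card_pos
    exact_mod_cast this.ne'
  have hidx : (H.index : ℂ) ≠ 0 := by
    have : H.index ≠ 0 := Subgroup.index_ne_zero_of_finite
    exact_mod_cast this
  have h1 : ((Subgroup.centralizer ({g} : Set G)).index : ℂ) * (Nat.card (Subgroup.centralizer ({g} : Set G)) : ℂ)
      = (Nat.card H : ℂ) * (H.index : ℂ) := by
    rw [← Nat.cast_mul, ← Nat.cast_mul, mul_comm, Subgroup.card_mul_index, Subgroup.card_mul_index]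
  have h2 : ((Subgroup.centralizer ({g} : Set G)).index : ℂ) * ((Nat.card H : ℂ)⁻¹ * (Nat.card (Subgroup.centralizer ({g} : Set G)) : ℂ) * S)
      = (((Subgroup.centralizer ({g} : Set G)).index : ℂ) * (Nat.card (Subgroup.centralizer ({g} : Set G)) : ℂ) * (Nat.card H : ℂ)⁻¹) * S := by
    ring
  rw [h2, mul_div_mul_comm, h1]
  have h3 : (Nat.card H : ℂ) * (H.index : ℂ) * (Nat.card H : ℂ)⁻¹ / (H.index : ℂ) = 1 := by
    field_simp
  rw [h3, one_mul]

end Cfsg.Agent.S0932
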