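import Mathlib
import Cfsg.Statements.S0933
import Cfsg.Agent.Lib.Helper18.BlockInduce

set_option autoImplicit false
open Cfsg

namespace Cfsg.Agent.S0933

open Cfsg.Agent.Helper24 Cfsg.Agent.Helper18 Cfsg.Agent.Helper23.Blk
open scoped ComplexConjugate

theorem result {G : Type*} [Group G] [Fintype G] (p : ℕ) [Fact p.Prime] (M : Ideal Cfsg.AlgInt) (hM : Cfsg.IsPModular p M) (H : Subgroup G) (ξ : Cfsg.IrrCharacter H) (hind : Cfsg.IsIrrCharacter G (Cfsg.indFun H (ξ : H → ℂ))) : Cfsg.IsInducedBlock M H (Cfsg.blockOf M (ξ : H → ℂ)) (Cfsg.blockOf M (Cfsg.indFun H (ξ : H → ℂ))) := by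
  classical
  haveI : Fintype H := Fintype.ofFinite H
  have hMp : M.IsPrime := isPrime_of_isPModular hM
  haveI := hMp
  refine ⟨⟨ξ, rfl⟩, ⟨⟨indFun H (ξ : H → ℂ), hind⟩, rfl⟩, ?_⟩
  intro ξ' hξ' χ' hχ' g
  have h1 := memLocalIdeal_inducedCentralChar_sub H (sameBlock_symm hξ') g
  have h2 := hχ' g
  rw [centralChar_indFun] at h2
  have := memLocalIdeal_add h1 h2
  rwa [sub_add_sub_cancel] at this

end Cfsg.Agent.S0933
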