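import Mathlib
import Cfsg.Statements.S0934
import Cfsg.Agent.Lib.Helper18.BlockInduce

set_option autoImplicit false
open Cfsg

namespace Cfsg.Agent.S0934

open Cfsg.Agent.Helper24 Cfsg.Agent.Helper18 Cfsg.Agent.Helper23.Blk
open scoped ComplexConjugate

theorem result {G : Type*} [Group G] [Fintype G] (p : ℕ) [Fact p.Prime] (M : Ideal Cfsg.AlgInt) (hM : Cfsg.IsPModular p M) (H : Subgroup G) [Fintype H] (b : Set (Cfsg.IrrCharacter H)) (B : Set (Cfsg.IrrCharacter G)) (hind : Cfsg.IsInducedBlock M H b B) (ξ : Cfsg.IrrCharacter H) (hξ : ξ ∈ b) : ∃ χ ∈ B, Cfsg.classInner (fun h : H => (χ : G → ℂ) h) (ξ : H → ℂ) ≠ 0 := by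
  have hMp : M.IsPrime := isPrime_of_isPModular hM
  haveI := hMp
  obtain ⟨hb, hB, hcong⟩ := hind
  obtain ⟨χ₀, rfl⟩ := hB
  exact exists_over_of_induced H hMp (fun g => hcong ξ hξ χ₀ (mem_blockOf_self χ₀) g)

end Cfsg.Agent.S0934
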