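import Mathlib
import Cfsg.Statements.S0940
import Cfsg.Agent.Lib.Helper23.Kulshammer

set_option autoImplicit false
open Cfsg Cfsg.Agent.Helper23.Blk Cfsg.Agent.Helper24 Cfsg.Agent.Helper18
open scoped ComplexConjugate

namespace Cfsg.Agent.S0940

/-- Let G be a finite group and M a maximal ideal of the algebraic integers containing the prime p. For every p-regular g, the idempotent coefficient of the principal block at g (the inverse of the group order times the sum over χ in the principal block of χ 1 * conj (χ g)) is congruent modulo the local ideal at M to N / R, where N is the number of pairs (x, y) with x of p-power order, y of order prime to p and x * y = g, and R is the number of elements of G of order prime to p. -/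
theorem result {G : Type*} [Group G] [Finite G] (p : ℕ) [Fact p.Prime] (M : Ideal Cfsg.AlgInt) (hM : Cfsg.IsPModular p M) (g : G) (hg : ¬ p ∣ orderOf g) : Cfsg.MemLocalIdeal M (Cfsg.blockCoeff (Cfsg.principalBlock M G) g - (Nat.card {xy : G × G // (∃ k : ℕ, orderOf xy.1 = p ^ k) ∧ ¬ p ∣ orderOf xy.2 ∧ xy.1 * xy.2 = g} : ℂ) / (Nat.card {y : G // ¬ p ∣ orderOf y} : ℂ)) := by
  classical
  haveI : Fintype G := Fintype.ofFinite G
  haveI hMp : M.IsPrime := isPrime_of_isPModular hM
  have hp : p.Prime := hM.1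
  set F : G → ℂ := pRegularPart p (fun _ : G => (1 : ℂ)) with hF
  have hFap : ∀ x : G, F x = if p ∣ orderOf x then (0 : ℂ) else 1 := by
    intro x
    rw [hF, pRegularPart_apply]
  -- the number of `p`-regular elements
  have hR : ∑ x : G, F x = (Nat.card {y : G // ¬ p ∣ orderOf y} : ℂ) := by
    rw [Finset.sum_congr rfl (fun x _ => hFap x), Nat.card_eq_fintype_card,
      Fintype.card_subtype, Finset.card_filter]
    push_cast
    apply Finset.sum_congr rfl
    intro x _
    by_cases hx : p ∣ orderOf x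
    · rw [if_pos hx, if_neg (not_not.2 hx)]
    · rw [if_neg hx, if_pos hx]
  have hRnot : ¬ MemLocalIdeal M (∑ x : G, F x) := by
    have h := not_memLocalIdeal_sum_pRegular hM (Nat.card G) G rfl
    intro hcon
    apply h
    convert hcon using 2 with x
    rw [hFap]
  -- the number of factorizations
  have hN : conv (pElemInd p) F g =
      (Nat.card {xy : G × G // (∃ k : ℕ, orderOf xy.1 = p ^ k) ∧ ¬ p ∣ orderOf xy.2 ∧
        xy.1 * xy.2 = g} : ℂ) := by
    rw [conv_apply]
    have h1 : ∀ h : G, pElemInd p h * F (h⁻¹ * g) =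
        if ((∃ k : ℕ, orderOf h = p ^ k) ∧ ¬ p ∣ orderOf (h⁻¹ * g)) then (1 : ℂ) else 0 := by
      intro h
      rw [hFap]
      by_cases h1 : ∃ k : ℕ, orderOf h = p ^ k
      · rw [pElemInd_of p h1, one_mul]
        by_cases h2 : p ∣ orderOf (h⁻¹ * g)
        · rw [if_pos h2, if_neg (fun hc => hc.2 h2)]
        · rw [if_neg h2, if_pos ⟨h1, h2⟩]
      · rw [pElemInd_of_not p h1, zero_mul, if_neg (fun hc => h1 hc.1)]
    rw [Finset.sum_congr rfl (fun h _ => h1 h), Finset.sum_boole]
    congr 1
    rw [← Fintype.card_subtype, ← Nat.card_eq_fintype_card]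
    apply Nat.card_congr
    refine ⟨fun h => ⟨(h.1, h.1⁻¹ * g), h.2.1, h.2.2, by simp⟩,
      fun xy => ⟨xy.1.1, xy.2.1, ?_⟩, ?_, ?_⟩
    · have h3 : xy.1.1⁻¹ * g = xy.1.2 := by
        have h4 := xy.2.2.2
        calc xy.1.1⁻¹ * g = xy.1.1⁻¹ * (xy.1.1 * xy.1.2) := by rw [h4]
          _ = xy.1.2 := by group
      rw [h3]
      exact xy.2.2.1
    · intro h
      rfl
    · intro xy
      apply Subtype.ext
      apply Prod.ext
      · rfl
      · show xy.1.1⁻¹ * g = xy.1.2
        have h4 := xy.2.2.2
        calc xy.1.1⁻¹ * g = xy.1.1⁻¹ * (xy.1.1 * xy.1.2) := by rw [h4]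
          _ = xy.1.2 := by group
  have hmain := kulshammer_aux hM (G := G) hg
  rw [hN] at hmain
  set Nn : ℂ := (Nat.card {xy : G × G // (∃ k : ℕ, orderOf xy.1 = p ^ k) ∧ ¬ p ∣ orderOf xy.2 ∧
        xy.1 * xy.2 = g} : ℂ) with hNn
  rw [← hR]
  set R : ℂ := ∑ x : G, F x with hRdef
  have hRloc : MemLocalRing M R := by
    rw [hR]
    exact memLocalRing_natCast _
  have hR0 : R ≠ 0 := by
    intro h0
    apply hRnot
    rw [h0]
    exact memLocalIdeal_zero ne_top
  have hinv : MemLocalRing M R⁻¹ := memLocalRing_inv hRloc hRnot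
  have heq : blockCoeff (principalBlock M G) g - Nn / R =
      -(R⁻¹ * (Nn - R * blockCoeff (principalBlock M G) g)) := by
    field_simp
    ring
  rw [heq]
  exact memLocalIdeal_neg (memLocalIdeal_mul_left hinv hmain)

end Cfsg.Agent.S0940
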