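import Mathlib
import Cfsg.Statements.S0946
import Cfsg.Agent.Lib.Helper16.Homocyclic
import Cfsg.Agent.Lib.Helper9.SylowLemmas

set_option autoImplicit false
open Cfsg

namespace Cfsg.Agent.S0946

open Cfsg.Agent.Helper16 in
/-- Let P be a Sylow 2-subgroup of the finite group G isomorphic to Z/2^m × Z/2^m with m ≥ 1. Then either P has a normal complement in G, or all involutions of G are conjugate. -/
theorem result {G : Type*} [Group G] [Finite G] (P : Sylow 2 G) (m : ℕ) (hm : 1 ≤ m) (e : (P : Subgroup G) ≃* Multiplicative (ZMod (2 ^ m) × ZMod (2 ^ m))) : (∃ N : Subgroup G, N.Normal ∧ Subgroup.IsComplement' N (P : Subgroup G)) ∨ ∀ s t : G, orderOf s = 2 → orderOf t = 2 → IsConj s t := by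
  have hF : Fact (Nat.Prime 2) := ⟨Nat.prime_two⟩
  have hc : ∀ x ∈ (P : Subgroup G), ∀ y ∈ (P : Subgroup G), x * y = y * x := by
    intro x hx y hy
    have : (⟨x, hx⟩ : (P : Subgroup G)) * ⟨y, hy⟩ = ⟨y, hy⟩ * ⟨x, hx⟩ := by
      apply e.injective; rw [map_mul, map_mul, mul_comm]
    exact congrArg Subtype.val this
  by_cases hNC : Subgroup.normalizer ((P : Subgroup G) : Set G) ≤
      Subgroup.centralizer ((P : Subgroup G) : Set G)
  · left
    exact ⟨(MonoidHom.transferSylow P hNC).ker, MonoidHom.normal_ker _,
      MonoidHom.ker_transferSylow_isComplement' P hNC⟩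
  · right
    set r : ℕ := Nat.card ((P : Subgroup G).normalizerMonoidHom).range with hr_def
    have hr : Odd r :=
      Nat.odd_iff.2 (Nat.two_dvd_ne_zero.1 (not_dvd_card_range_normalizerMonoidHom' P hc))
    let inst : CommGroup (P : Subgroup G) :=
      { (inferInstance : Group (P : Subgroup G)) with
        mul_comm := fun x y => Subtype.ext (hc x x.2 y y.2) }
    have hαr : ∀ g : Subgroup.normalizer ((P : Subgroup G) : Set G),
        ((P : Subgroup G).normalizerMonoidHom g) ^ r = 1 := by
      intro g
      have hmem : (P : Subgroup G).normalizerMonoidHom g ∈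
          ((P : Subgroup G).normalizerMonoidHom).range := ⟨_, rfl⟩
      have := pow_card_eq_one' (G := ((P : Subgroup G).normalizerMonoidHom).range)
        (x := ⟨_, hmem⟩)
      have h4 := congrArg Subtype.val this
      rw [Subgroup.coe_pow, Subgroup.coe_one] at h4
      exact h4
    have hex : ∃ g : Subgroup.normalizer ((P : Subgroup G) : Set G), ∃ u : (P : Subgroup G),
        u * u = 1 ∧ (P : Subgroup G).normalizerMonoidHom g u ≠ u := by
      by_contra hcon
      push Not at hcon
      apply hNC
      intro g hg
      have h1 : (P : Subgroup G).normalizerMonoidHom ⟨g, hg⟩ = 1 :=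
        odd_aut_eq_one_of_fix_involutions (P := (P : Subgroup G)) P.isPGroup' _ r hr (hαr _)
          (hcon ⟨g, hg⟩)
      have h2 : (⟨g, hg⟩ : Subgroup.normalizer ((P : Subgroup G) : Set G))
          ∈ ((P : Subgroup G).normalizerMonoidHom).ker := by
        rw [MonoidHom.mem_ker]; exact h1
      rw [Subgroup.normalizerMonoidHom_ker, Subgroup.mem_subgroupOf] at h2
      exact h2
    obtain ⟨g, u, hu2', hgu⟩ := hex
    set α : MulAut (P : Subgroup G) := (P : Subgroup G).normalizerMonoidHom g with hα
    have hu2 : u ^ 2 = 1 := by rw [pow_two]; exact hu2'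
    have hu1 : u ≠ 1 := by
      rintro rfl
      exact hgu (map_one _)
    have hv2 : (α u) ^ 2 = 1 := by rw [← map_pow, hu2, map_one]
    have hv1 : α u ≠ 1 := by
      intro h
      apply hu1
      exact α.injective (h.trans (map_one α).symm)
    have hw2 : (α (α u)) ^ 2 = 1 := by rw [← map_pow, hv2, map_one]
    have hw : α (α u) = u * α u := by
      rcases homocyclic_involution_cases hm e hu2 hv2 hw2 hu1 hv1 (Ne.symm hgu) with h | h | h | h
      · exact absurd (α.injective (h.trans (map_one α).symm)) hv1
      · exact absurd (apply_eq_of_sq_apply_eq α r hr (hαr g) h) hgu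
      · exact absurd (α.injective h) hgu
      · exact h
    -- coordinates in `G`
    have hαG : ∀ x : (P : Subgroup G), ((α x : (P : Subgroup G)) : G) = (g : G) * x * (g : G)⁻¹ := by
      intro x
      rfl
    have key : ∀ t ∈ (P : Subgroup G), orderOf t = 2 → IsConj (u : G) t := by
      intro t ht hto
      have ht2 : (⟨t, ht⟩ : (P : Subgroup G)) ^ 2 = 1 := by
        apply Subtype.ext
        simp only [Subgroup.coe_pow, Subgroup.coe_one]
        rw [← hto]; exact pow_orderOf_eq_one t
      have ht1 : (⟨t, ht⟩ : (P : Subgroup G)) ≠ 1 := by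
        intro h
        have : t = 1 := congrArg Subtype.val h
        rw [this, orderOf_one] at hto
        norm_num at hto
      rcases homocyclic_involution_cases hm e hu2 hv2 ht2 hu1 hv1 (Ne.symm hgu) with h | h | h | h
      · exact absurd h ht1
      · have : t = (u : G) := congrArg Subtype.val h
        rw [this]
      · have : t = (g : G) * u * (g : G)⁻¹ := by
          rw [← hαG]; exact congrArg Subtype.val h
        rw [this, isConj_iff]
        exact ⟨g, rfl⟩
      · have : t = (g : G) * ((g : G) * u * (g : G)⁻¹) * (g : G)⁻¹ := by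
          rw [← hαG u, ← hαG (α u), hw]; exact congrArg Subtype.val h
        rw [this, isConj_iff]
        exact ⟨(g : G) * (g : G), by simp only [mul_assoc, mul_inv_rev]⟩
    have all : ∀ s : G, orderOf s = 2 → IsConj (u : G) s := by
      intro s hs
      obtain ⟨c, hcs⟩ := Cfsg.Agent.Helper9.exists_conj_mem_sylow P s ⟨1, by rw [hs, pow_one]⟩
      have ho : orderOf (c * s * c⁻¹) = 2 := by
        have : c * s * c⁻¹ = MulAut.conj c s := by rw [MulAut.conj_apply]
        rw [this, MulEquiv.orderOf_eq, hs]
      have h1 := key _ hcs ho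
      have h2 : IsConj s (c * s * c⁻¹) := isConj_iff.2 ⟨c, rfl⟩
      exact h1.trans h2.symm
    intro s t hs ht
    exact (all s hs).symm.trans (all t ht)

end Cfsg.Agent.S0946
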