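import Mathlib
import Cfsg.Statements.S0951
import Cfsg.Agent.Lib.Helper7.BlkCount4
import Cfsg.Agent.Lib.Helper7.BSQFin2
import Cfsg.Agent.S0950

set_option autoImplicit false
open Cfsg

namespace Cfsg.Agent.S0951

/-- Let S be a Sylow 2-subgroup of the finite group G isomorphic to the quaternion group of order 8. Suppose G has no nontrivial normal subgroup of odd order and G ≠ S. Then, relative to any maximal ideal M of the algebraic integers containing 2, the principal block of G consists of exactly 7 irreducible characters. -/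
theorem result {G : Type*} [Group G] [Finite G] (M : Ideal Cfsg.AlgInt) (hM : Cfsg.IsPModular 2 M) (S : Sylow 2 G) (e : (S : Subgroup G) ≃* QuaternionGroup 2) (hO : ∀ N : Subgroup G, N.Normal → Odd (Nat.card N) → N = ⊥) (hG : (S : Subgroup G) ≠ ⊤) : Nat.card (Cfsg.principalBlock M G) = 7 := by
  have hF : Fact (Nat.Prime 2) := ⟨Nat.prime_two⟩
  have e1 : (S : Subgroup G) ≃* QuaternionGroup (2 ^ 1) := e
  obtain ⟨a, ha⟩ := Cfsg.Agent.Helper16.exists_isQuatSub (S : Subgroup G) 1 le_rfl e1
  have ha : Cfsg.Agent.Helper16.IsQuatSub (S : Subgroup G) a 2 := ha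
  -- no normal complement
  have hnc : ∀ N : Subgroup G, N.Normal → ¬ Subgroup.IsComplement' N (S : Subgroup G) := by
    intro N hN hcomp
    have hNodd : Odd (Nat.card N) := by
      have h1 : (Nat.card (S : Subgroup G)).Coprime (S : Subgroup G).index :=
        S.card_coprime_index
      rw [hcomp.index_eq_card, ha.card] at h1
      rw [← Nat.not_even_iff_odd]
      intro hev
      have h2 : 2 ∣ Nat.gcd (2 ^ (2 + 1)) (Nat.card N) :=
        Nat.dvd_gcd (by norm_num) (even_iff_two_dvd.1 hev)
      rw [h1] at h2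
      omega
    have hNbot := hO N hN hNodd
    rw [hNbot] at hcomp
    exact hG (Subgroup.isComplement'_bot_left.1 hcomp)
  have hconj := fun A B hA hB hA4 hB4 =>
    Cfsg.Agent.S0950.result S e hnc A B hA hB hA4 hB4
  -- the involution is central
  have hcent : ∀ g : G, a ^ 2 * g = g * a ^ 2 := by
    obtain ⟨K, hKn, hKu, hKc⟩ := Cfsg.Agent.Helper7.bsq_main S ha hconj
    haveI := hKn
    have hKodd := Cfsg.Agent.Helper7.q8_odd_of_normal_not_mem S ha K hKu
    have hK := hO K hKn hKodd
    intro g
    have h1 := hKc g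
    rw [hK, Subgroup.mem_bot] at h1
    calc a ^ 2 * g = a ^ 2 * g * (a ^ 2)⁻¹ * g⁻¹ * (g * a ^ 2) := by group
      _ = g * a ^ 2 := by rw [h1, one_mul]
  exact Cfsg.Agent.Helper7.card_principalBlock_q8 S hM ha hconj hcent

end Cfsg.Agent.S0951
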