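import Mathlib
import Cfsg.Statements.S0956
import Cfsg.Agent.Lib.Helper5.GreenAux
import Cfsg.Agent.Lib.Helper23.BlockDefectGroup2
import Cfsg.Agent.Lib.Helper23.BlockCount
import Cfsg.Agent.Lib.Helper23.BlockResidue

set_option autoImplicit false
open Cfsg

namespace Cfsg.Agent.S0956

open Cfsg.Agent.Helper23.Blk Cfsg.Agent.Helper5.Green

theorem sum_subgroup_eq {G : Type*} [Group G] [Fintype G] (H : Subgroup G) [Fintype H]
    {A : Type*} [AddCommMonoid A] (F : G → A) :
    ∑ a : H, F (a : G) = ∑ y : G, (open Classical in if y ∈ H then F y else 0) := by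
  classical
  rw [← Finset.sum_filter]
  symm
  exact Finset.sum_subtype (Finset.univ.filter (· ∈ H)) (fun x => by simp) F

theorem map_conj_eq_of_mul {G : Type*} [Group G] (P : Subgroup G) {c x : G}
    (hu : c⁻¹ * x ∈ P) :
    P.map (MulAut.conj x).toMonoidHom = P.map (MulAut.conj c).toMonoidHom := by
  ext z
  simp only [Subgroup.mem_map, MulEquiv.coe_toMonoidHom, MulAut.conj_apply]
  constructor
  · rintro ⟨y, hy, rfl⟩
    refine ⟨(c⁻¹ * x) * y * (c⁻¹ * x)⁻¹, P.mul_mem (P.mul_mem hu hy) (P.inv_mem hu), ?_⟩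
    group
  · rintro ⟨y, hy, rfl⟩
    refine ⟨(c⁻¹ * x)⁻¹ * y * (c⁻¹ * x), P.mul_mem (P.mul_mem (P.inv_mem hu) hy) hu, ?_⟩
    group

/-- Let D be a defect group of a block of the finite group G (relative to a maximal ideal M of the algebraic integers containing the prime p) and P a Sylow p-subgroup containing D. Then there is an element x of order prime to p such that D is a Sylow p-subgroup of the centralizer of x and D = P ∩ x P x⁻¹. -/
theorem result {G : Type*} [Group G] [Finite G] (p : ℕ) [Fact p.Prime] (M : Ideal Cfsg.AlgInt) (hM : Cfsg.IsPModular p M) (B : Set (Cfsg.IrrCharacter G)) (hB : Cfsg.IsPBlock M B) (D : Subgroup G) (hD : Cfsg.IsDefectGroup p M B D) (P : Sylow p G) (hDP : D ≤ P) : ∃ x : G, ¬ p ∣ orderOf x ∧ (∃ S : Sylow p (Subgroup.centralizer ({x} : Set G)), (S : Subgroup (Subgroup.centralizer ({x} : Set G))).map (Subgroup.centralizer ({x} : Set G)).subtype = D) ∧ (P : Subgroup G) ⊓ (P : Subgroup G).map (MulAut.conj x).toMonoidHom = D := by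
  classical
  haveI : Fintype G := Fintype.ofFinite G
  haveI hMax : M.IsMaximal := hM.2.1
  haveI hMp : M.IsPrime := hM.2.1.isPrime
  have hp0 : ((p : ℕ) : AlgInt ⧸ M) = 0 := by
    have h1 : Ideal.Quotient.mk M ((p : ℕ) : AlgInt) = 0 :=
      Ideal.Quotient.eq_zero_iff_mem.2 hM.2.2
    rwa [map_natCast] at h1
  have hloc : ∀ g : G, MemLocalRing M (blockCoeff B g) :=
    fun g => memLocalRing_blockCoeff hMp hB g
  obtain ⟨e, he⟩ : ∃ e : G → AlgInt ⧸ M, ∀ g, e g = red M (blockCoeff B g) :=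
    ⟨_, fun _ => rfl⟩
  have E1 : ∀ x g : G, e (x * g * x⁻¹) = e g := by
    intro x g
    rw [he, he, blockCoeff_conj]
  have E2 : ∀ c : G, ∑ a, e a * e (a⁻¹ * c) = e c := by
    intro c
    have h1 := congrFun (conv_blockCoeff hB hB) c
    rw [conv_apply, if_pos rfl] at h1
    have h2 := congrArg (red M) h1
    rw [red_sum _ _ (fun a _ => memLocalRing_mul (hloc a) (hloc _))] at h2
    rw [he c, ← h2]
    apply Finset.sum_congr rfl
    intro a _
    rw [red_mul (hloc a) (hloc _), he, he]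
  have E3 : ∀ g : G, e g ≠ 0 → ¬ p ∣ orderOf g := by
    intro g hg hdiv
    apply hg
    rw [he, blockCoeff_eq_zero_of_pSingular hM hB hdiv, red_zero]
  have E4 : ∀ x : G, e x ≠ 0 → ∀ Q : Subgroup G, IsPGroup p Q →
      Q ≤ Subgroup.centralizer ({x} : Set G) → Nat.card Q ≤ Nat.card D := by
    intro x hx Q hQ hQx
    have hx' : ¬ MemLocalIdeal M (blockCoeff B x) := by
      intro h
      apply hx
      rw [he]
      exact (red_eq_zero_iff (hloc x)).2 h
    obtain ⟨c, hc⟩ := subConj_of_blockCoeff hM hB hD hx' hQ hQx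
    apply Nat.card_le_card_of_injective (fun q : Q => (⟨c * q * c⁻¹, hc q q.2⟩ : D))
    intro q₁ q₂ h
    have h' := congrArg Subtype.val h
    exact Subtype.ext (mul_left_cancel (mul_right_cancel h'))
  obtain ⟨g₀, hg₀, hDg₀, hDcard⟩ := (isDefectGroup_iff hM hB).1 hD
  have hg₀e : e g₀ ≠ 0 := by
    intro h
    rw [he] at h
    exact hg₀.2.1 ((red_eq_zero_iff (hloc g₀)).1 h)
  have hDp : IsPGroup p D := isPGroup_of_isDefectGroup hM hD
  -- the centralizer of `D`
  obtain ⟨H, hH⟩ : ∃ H : Subgroup G, H = Subgroup.centralizer (D : Set G) := ⟨_, rfl⟩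
  have hHmem : ∀ y : G, y ∈ H ↔ ∀ d ∈ D, d * y * d⁻¹ = y := by
    intro y
    rw [hH, Subgroup.mem_centralizer_iff]
    constructor
    · intro h d hd
      have h1 : d * y = y * d := h d hd
      rw [h1, mul_inv_cancel_right]
    · intro h d hd
      have h1 := h d hd
      calc d * y = (d * y * d⁻¹) * d := by group
        _ = y * d := by rw [h1]
  have hg₀H : g₀ ∈ H := by
    rw [hHmem]
    intro d hd
    have h1 := hDg₀ hd
    rw [Subgroup.mem_centralizer_iff] at h1
    have h2 : g₀ * d = d * g₀ := h1 g₀ rfl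
    rw [← h2, mul_inv_cancel_right]
  haveI : Fintype H := Fintype.ofFinite H
  -- the idempotent restricted to `H` is idempotent
  have hidem : ∀ c : H, ∑ a : H, (fun h : H => e (h : G)) a * (fun h : H => e (h : G)) (a⁻¹ * c) =
      (fun h : H => e (h : G)) c := by
    intro c
    have hc := (hHmem c).1 c.2
    have h1 := sum_eq_sum_fixed hp0 D hDp (fun a : G => e a * e (a⁻¹ * (c : G))) (by
      intro d hd a
      show e (d * a * d⁻¹) * e ((d * a * d⁻¹)⁻¹ * (c : G)) = e a * e (a⁻¹ * (c : G))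
      rw [E1]
      have h2 : (d * a * d⁻¹)⁻¹ * (c : G) = d * (a⁻¹ * (c : G)) * d⁻¹ := by
        nth_rewrite 1 [← hc d hd]
        group
      rw [h2, E1])
    have h2 := sum_subgroup_eq H (fun a : G => e a * e (a⁻¹ * (c : G)))
    show ∑ a : H, e (a : G) * e ((a⁻¹ * c : H) : G) = e (c : G)
    have h3 : (∑ a : H, e (a : G) * e ((a⁻¹ * c : H) : G)) =
        ∑ a : H, (fun a : G => e a * e (a⁻¹ * (c : G))) (a : G) := by
      apply Finset.sum_congr rfl
      intro a _
      simp
    rw [h3, h2, ← E2 (c : G), h1]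
    apply Finset.sum_congr rfl
    intro y _
    by_cases hy : y ∈ H
    · rw [if_pos hy, if_pos ((hHmem y).1 hy)]
    · rw [if_neg hy, if_neg (fun h => hy ((hHmem y).2 h))]
  have hcl : ∀ x c : H, (fun h : H => e (h : G)) (x * c * x⁻¹) = (fun h : H => e (h : G)) c := by
    intro x c
    show e ((x * c * x⁻¹ : H) : G) = e (c : G)
    rw [Subgroup.coe_mul, Subgroup.coe_mul, Subgroup.coe_inv, E1]
  have hne : ∃ c : H, (fun h : H => e (h : G)) c ≠ 0 := ⟨⟨g₀, hg₀H⟩, hg₀e⟩
  obtain ⟨R, hR⟩ : ∃ R : Subgroup H, R = (P : Subgroup G).subgroupOf H := ⟨_, rfl⟩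
  have hRp : IsPGroup p R := by
    rw [hR]
    exact P.2.comap_subtype
  haveI : Fintype R := Fintype.ofFinite R
  obtain ⟨c₀, hc₀⟩ := exists_coset_sum_ne_zero hp0 R hRp (fun h : H => e (h : G)) hcl hidem hne
  obtain ⟨c, hc⟩ : ∃ c : G, c = (c₀ : G) := ⟨_, rfl⟩
  have hcD : ∀ d ∈ D, d * c * d⁻¹ = c := by
    rw [hc]
    exact (hHmem c₀).1 c₀.2
  -- Step D1
  have hβ : ∑ y : G, (if y ∈ (P : Subgroup G) then e (c * y) else 0) ≠ 0 := by
    have h1 := sum_eq_sum_fixed hp0 D hDp
      (fun y : G => if y ∈ (P : Subgroup G) then e (c * y) else 0) (by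
      intro d hd y
      have hdP : d ∈ (P : Subgroup G) := hDP hd
      have h2 : c * (d * y * d⁻¹) = d * (c * y) * d⁻¹ := by
        nth_rewrite 1 [← hcD d hd]
        group
      have h3 : d * y * d⁻¹ ∈ (P : Subgroup G) ↔ y ∈ (P : Subgroup G) := by
        constructor
        · intro h
          have h4 := (P : Subgroup G).mul_mem ((P : Subgroup G).mul_mem
            ((P : Subgroup G).inv_mem hdP) h) hdP
          have h5 : d⁻¹ * (d * y * d⁻¹) * d = y := by group
          rwa [h5] at h4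
        · intro h
          exact (P : Subgroup G).mul_mem ((P : Subgroup G).mul_mem hdP h)
            ((P : Subgroup G).inv_mem hdP)
      show (if d * y * d⁻¹ ∈ (P : Subgroup G) then e (c * (d * y * d⁻¹)) else 0) =
        if y ∈ (P : Subgroup G) then e (c * y) else 0
      by_cases hy : y ∈ (P : Subgroup G)
      · rw [if_pos hy, if_pos (h3.2 hy), h2, E1]
      · rw [if_neg hy, if_neg (fun h => hy (h3.1 h))])
    rw [h1]
    intro h0
    apply hc₀
    have h2 := sum_subgroup_eq R (fun h : H => e ((c₀ * h : H) : G))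
    have h3 := sum_subgroup_eq H (fun y : G => if y ∈ (P : Subgroup G) then e (c * y) else 0)
    show ∑ v : R, e ((c₀ * (v : H) : H) : G) = 0
    have h5 : (∑ y : G, if (∀ q ∈ D, q * y * q⁻¹ = y) then
        (if y ∈ (P : Subgroup G) then e (c * y) else 0) else 0) =
        ∑ y : G, if y ∈ H then (if y ∈ (P : Subgroup G) then e (c * y) else 0) else 0 := by
      apply Finset.sum_congr rfl
      intro y _
      by_cases hy : y ∈ H
      · rw [if_pos hy, if_pos ((hHmem y).1 hy)]
      · rw [if_neg hy, if_neg (fun h => hy ((hHmem y).2 h))]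
    rw [h5, ← h3] at h0
    rw [h2]
    refine Eq.trans ?_ h0
    apply Finset.sum_congr rfl
    intro h _
    have h6 : h ∈ R ↔ (h : G) ∈ (P : Subgroup G) := by
      rw [hR, Subgroup.mem_subgroupOf]
    by_cases hh : h ∈ R
    · rw [if_pos hh, if_pos (h6.1 hh), Subgroup.coe_mul, hc]
    · rw [if_neg hh, if_neg (fun h' => hh (h6.2 h'))]
  -- Step D2
  obtain ⟨Q, hQ⟩ : ∃ Q : Subgroup G,
      Q = (P : Subgroup G) ⊓ (P : Subgroup G).map (MulAut.conj c).toMonoidHom := ⟨_, rfl⟩
  have hQP : ∀ q ∈ Q, q ∈ (P : Subgroup G) := by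
    intro q hq
    rw [hQ] at hq
    exact hq.1
  have hQP' : ∀ q ∈ Q, c⁻¹ * q * c ∈ (P : Subgroup G) := by
    intro q hq
    rw [hQ] at hq
    obtain ⟨u, hu, huq⟩ := hq.2
    simp only [MulEquiv.coe_toMonoidHom, MulAut.conj_apply] at huq
    rw [← huq]
    have h1 : c⁻¹ * (c * u * c⁻¹) * c = u := by group
    rw [h1]
    exact hu
  have hQp : IsPGroup p Q := by
    rw [hQ]
    exact P.2.to_le inf_le_left
  have hsum2 : ∑ z : G, (if c⁻¹ * z ∈ (P : Subgroup G) then e z else 0) ≠ 0 := by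
    intro h0
    apply hβ
    refine Eq.trans ?_ h0
    apply Fintype.sum_equiv (Equiv.mulLeft c)
    intro y
    show (if y ∈ (P : Subgroup G) then e (c * y) else 0) =
      if c⁻¹ * (c * y) ∈ (P : Subgroup G) then e (c * y) else 0
    rw [inv_mul_cancel_left]
  have h1 := sum_eq_sum_fixed hp0 Q hQp
    (fun z : G => if c⁻¹ * z ∈ (P : Subgroup G) then e z else 0) (by
    intro q hq z
    have hq1 := hQP q hq
    have hq2 := hQP' q hq
    have h3 : c⁻¹ * (q * z * q⁻¹) ∈ (P : Subgroup G) ↔ c⁻¹ * z ∈ (P : Subgroup G) := by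
      have h4 : c⁻¹ * (q * z * q⁻¹) = (c⁻¹ * q * c) * (c⁻¹ * z) * q⁻¹ := by group
      rw [h4]
      constructor
      · intro h
        have h5 := (P : Subgroup G).mul_mem ((P : Subgroup G).mul_mem
          ((P : Subgroup G).inv_mem hq2) h) hq1
        have h6 : (c⁻¹ * q * c)⁻¹ * ((c⁻¹ * q * c) * (c⁻¹ * z) * q⁻¹) * q = c⁻¹ * z := by group
        rwa [h6] at h5
      · intro h
        exact (P : Subgroup G).mul_mem ((P : Subgroup G).mul_mem hq2 h)
          ((P : Subgroup G).inv_mem hq1)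
    show (if c⁻¹ * (q * z * q⁻¹) ∈ (P : Subgroup G) then e (q * z * q⁻¹) else 0) =
      if c⁻¹ * z ∈ (P : Subgroup G) then e z else 0
    by_cases hz : c⁻¹ * z ∈ (P : Subgroup G)
    · rw [if_pos hz, if_pos (h3.2 hz), E1]
    · rw [if_neg hz, if_neg (fun h => hz (h3.1 h))])
  rw [h1] at hsum2
  obtain ⟨x, -, hx⟩ := Finset.exists_ne_zero_of_sum_ne_zero hsum2
  have hxfix : ∀ q ∈ Q, q * x * q⁻¹ = x := by
    by_contra h
    rw [if_neg h] at hx
    exact hx rfl
  rw [if_pos hxfix] at hx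
  have hxP : c⁻¹ * x ∈ (P : Subgroup G) := by
    by_contra h
    rw [if_neg h] at hx
    exact hx rfl
  rw [if_pos hxP] at hx
  -- Step E
  have hDQ : D ≤ Q := by
    intro d hd
    rw [hQ]
    refine ⟨hDP hd, d, hDP hd, ?_⟩
    simp only [MulEquiv.coe_toMonoidHom, MulAut.conj_apply]
    have h2 := hcD d hd
    calc c * d * c⁻¹ = (d * c * d⁻¹) * d * c⁻¹ := by rw [h2]
      _ = d := by group
  have hQx : Q ≤ Subgroup.centralizer ({x} : Set G) := by
    intro q hq
    rw [Subgroup.mem_centralizer_iff]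
    intro y hy
    rw [Set.mem_singleton_iff] at hy
    subst hy
    have h2 := hxfix q hq
    calc y * q = (q * y * q⁻¹) * q := by rw [h2]
      _ = q * y := by group
  have hQD : Q = D :=
    (Subgroup.eq_of_le_of_card_ge hDQ (E4 x hx Q hQp hQx)).symm
  refine ⟨x, E3 x hx, ?_, ?_⟩
  · have hDx : D ≤ Subgroup.centralizer ({x} : Set G) := hDQ.trans hQx
    obtain ⟨S, hS⟩ := (hDp.comap_subtype (K := Subgroup.centralizer ({x} : Set G))).exists_le_sylow
    refine ⟨S, ?_⟩
    have h2 : D ≤ (S : Subgroup (Subgroup.centralizer ({x} : Set G))).map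
        (Subgroup.centralizer ({x} : Set G)).subtype := by
      have h3 := Subgroup.map_mono (f := (Subgroup.centralizer ({x} : Set G)).subtype) hS
      have h4 : (D.subgroupOf (Subgroup.centralizer ({x} : Set G))).map
          (Subgroup.centralizer ({x} : Set G)).subtype = D :=
        Subgroup.map_subgroupOf_eq_of_le hDx
      rw [← h4]
      exact h3
    have h5 := E4 x hx _ (S.2.map (Subgroup.centralizer ({x} : Set G)).subtype)
      (Subgroup.map_subtype_le _)
    exact (Subgroup.eq_of_le_of_card_ge h2 h5).symm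
  · rw [map_conj_eq_of_mul (P : Subgroup G) hxP, ← hQ, hQD]

end Cfsg.Agent.S0956
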