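import Mathlib
import Cfsg.Statements.S0957
import Cfsg.Agent.Lib.Helper5.OrbitDvd
import Cfsg.Agent.Lib.Helper24.CharBrauerPerm

set_option autoImplicit false
open Cfsg

namespace Cfsg.Agent.S0957

open Cfsg.Agent.Helper5

/-- The set of pairs. -/
abbrev PairSet {G : Type*} [Group G] (P : Subgroup G) (g h : G) : Type _ :=
  {yz : G × G // IsConj g yz.1 ∧ IsConj h yz.2 ∧ yz.2 * yz.1⁻¹ ∈ P}

theorem isConj_conj {G : Type*} [Group G] {g y : G} (h : IsConj g y) (x : G) :
    IsConj g (x * y * x⁻¹) := by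
  rw [isConj_iff] at h ⊢
  obtain ⟨c, hc⟩ := h
  refine ⟨x * c, ?_⟩
  rw [← hc]
  group

noncomputable instance pairAction {G : Type*} [Group G] (P : Subgroup G) (g h : G) :
    MulAction P (PairSet P g h) where
  smul x yz := ⟨((x : G) * yz.1.1 * (x : G)⁻¹, (x : G) * yz.1.2 * (x : G)⁻¹),
    isConj_conj yz.2.1 _, isConj_conj yz.2.2.1 _, by
      have : (x : G) * yz.1.2 * (x : G)⁻¹ * ((x : G) * yz.1.1 * (x : G)⁻¹)⁻¹ =
          (x : G) * (yz.1.2 * yz.1.1⁻¹) * (x : G)⁻¹ := by group
      show (x : G) * yz.1.2 * (x : G)⁻¹ * ((x : G) * yz.1.1 * (x : G)⁻¹)⁻¹ ∈ P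
      rw [this]
      exact P.mul_mem (P.mul_mem x.2 yz.2.2.2) (P.inv_mem x.2)⟩
  one_smul yz := by
    apply Subtype.ext
    show (((1 : P) : G) * yz.1.1 * ((1 : P) : G)⁻¹, ((1 : P) : G) * yz.1.2 * ((1 : P) : G)⁻¹) = yz.1
    simp
  mul_smul a b yz := by
    apply Subtype.ext
    show (((a * b : P) : G) * yz.1.1 * ((a * b : P) : G)⁻¹,
      ((a * b : P) : G) * yz.1.2 * ((a * b : P) : G)⁻¹) =
      ((a : G) * ((b : G) * yz.1.1 * (b : G)⁻¹) * (a : G)⁻¹,
        (a : G) * ((b : G) * yz.1.2 * (b : G)⁻¹) * (a : G)⁻¹)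
    simp only [Subgroup.coe_mul, mul_inv_rev, Prod.mk.injEq]
    constructor <;> group

theorem smul_fst {G : Type*} [Group G] (P : Subgroup G) (g h : G) (x : P) (yz : PairSet P g h) :
    (x • yz).1.1 = (x : G) * yz.1.1 * (x : G)⁻¹ := rfl

/-- Let P be a Sylow p-subgroup of the finite group G, let g, h ∈ G and let p ^ d be the order of a Sylow p-subgroup of the centralizer of g. Then the number of pairs (y, z) with y conjugate to g, z conjugate to h and z * y⁻¹ ∈ P is divisible by the order of P divided by p ^ d. -/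
theorem result {G : Type*} [Group G] [Finite G] (p : ℕ) [Fact p.Prime] (P : Sylow p G) (g h : G) (S : Sylow p (Subgroup.centralizer ({g} : Set G))) : Nat.card P / Nat.card S ∣ Nat.card {yz : G × G // IsConj g yz.1 ∧ IsConj h yz.2 ∧ yz.2 * yz.1⁻¹ ∈ (P : Subgroup G)} := by
  classical
  have hp : p.Prime := Fact.out
  have hS : Nat.card S = p ^ (Nat.card (Subgroup.centralizer ({g} : Set G))).factorization p :=
    S.card_eq_multiplicity
  have hPc : Nat.card P = p ^ (Nat.card G).factorization p := P.card_eq_multiplicity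
  have hle : (Nat.card (Subgroup.centralizer ({g} : Set G))).factorization p ≤
      (Nat.card G).factorization p := by
    have hdvd : Nat.card (Subgroup.centralizer ({g} : Set G)) ∣ Nat.card G :=
      Subgroup.card_subgroup_dvd_card _
    exact (Nat.factorization_le_iff_dvd Nat.card_pos.ne' Nat.card_pos.ne').mpr hdvd p
  have hSP : Nat.card S ∣ Nat.card P := by
    rw [hS, hPc]; exact pow_dvd_pow p hle
  obtain ⟨r, hr⟩ := hSP
  have hSpos : 0 < Nat.card S := Nat.card_pos
  have hdiv : Nat.card P / Nat.card S = r := by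
    rw [hr, Nat.mul_div_cancel_left _ hSpos]
  rw [hdiv]
  show r ∣ Nat.card (PairSet (P : Subgroup G) g h)
  apply dvd_card_of_forall_card_stabilizer_dvd (P := (P : Subgroup G)) (Nat.card S) r hr.symm
  intro yz
  obtain ⟨⟨y, z⟩, hy, hz, hzy⟩ := yz
  -- the stabilizer maps into the centralizer of y
  set St := MulAction.stabilizer (P : Subgroup G) (⟨(y, z), hy, hz, hzy⟩ : PairSet (P : Subgroup G) g h) with hSt
  let f : St →* Subgroup.centralizer ({y} : Set G) :=
    { toFun := fun x => ⟨((x : (P : Subgroup G)) : G), by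
        rw [Subgroup.mem_centralizer_singleton_iff]
        have hx : (x : (P : Subgroup G)) ∈ MulAction.stabilizer (P : Subgroup G) (⟨(y, z), hy, hz, hzy⟩ : PairSet (P : Subgroup G) g h) := x.2
        rw [MulAction.mem_stabilizer_iff] at hx
        have h1 := congrArg (fun w : PairSet (P : Subgroup G) g h => w.1.1) hx
        simp only [smul_fst] at h1
        calc ((x : (P : Subgroup G)) : G) * y
            = ((x : (P : Subgroup G)) : G) * y * ((x : (P : Subgroup G)) : G)⁻¹ *
              ((x : (P : Subgroup G)) : G) := by group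
          _ = y * ((x : (P : Subgroup G)) : G) := by rw [h1]⟩
      map_one' := rfl
      map_mul' := fun a b => rfl }
  have hf : Function.Injective f := by
    intro a b hab
    apply Subtype.ext
    apply Subtype.ext
    exact congrArg (fun w : Subgroup.centralizer ({y} : Set G) => (w : G)) hab
  have hStp : IsPGroup p St := (P.isPGroup').to_subgroup St
  have hrange : IsPGroup p f.range :=
    hStp.of_surjective f.rangeRestrict f.rangeRestrict_surjective
  obtain ⟨Q, hQ⟩ := hrange.exists_le_sylow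
  have hQc : Nat.card Q = Nat.card S := by
    rw [Q.card_eq_multiplicity, hS,
      Cfsg.Agent.Helper24.card_centralizer_eq_of_isConj hy]
  rw [← hQc]
  have h1 : Nat.card St = Nat.card f.range := Nat.card_congr (Equiv.ofInjective f hf)
  rw [h1]
  exact Subgroup.card_dvd_of_le hQ

end Cfsg.Agent.S0957
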