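import Mathlib
import Cfsg.Statements.S0959
import Cfsg.Agent.Lib.Helper23.BlockDefectGroup2

set_option autoImplicit false
open Cfsg Cfsg.Agent.Helper23.Blk Cfsg.Agent.Helper24

namespace Cfsg.Agent.S0959

/-- Let B be a block of the finite group G with defect group D (relative to a maximal ideal M of the algebraic integers containing the prime p), and let P be a p-subgroup. Then there is an element g whose idempotent coefficient for B is a local integer outside the local ideal at M and which has a conjugate centralizing P, if and only if some conjugate of P is contained in D. -/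
theorem result {G : Type*} [Group G] [Finite G] (p : ℕ) [Fact p.Prime] (M : Ideal Cfsg.AlgInt) (hM : Cfsg.IsPModular p M) (B : Set (Cfsg.IrrCharacter G)) (hB : Cfsg.IsPBlock M B) (D : Subgroup G) (hD : Cfsg.IsDefectGroup p M B D) (P : Subgroup G) (hP : IsPGroup p P) : (∃ g : G, Cfsg.MemLocalRing M (Cfsg.blockCoeff B g) ∧ ¬ Cfsg.MemLocalIdeal M (Cfsg.blockCoeff B g) ∧ ∃ c : G, IsConj g c ∧ c ∈ Subgroup.centralizer (P : Set G)) ↔ ∃ x : G, P.map (MulAut.conj x).toMonoidHom ≤ D := by
  classical
  haveI hMp : M.IsPrime := hM.2.1.isPrime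
  constructor
  · rintro ⟨g, -, hg, c, hgc, hc⟩
    obtain ⟨u, hu⟩ := isConj_iff.1 hgc
    have h1 : ¬ MemLocalIdeal M (blockCoeff B c) := by
      rw [← hu, blockCoeff_conj]
      exact hg
    have hle : P ≤ Subgroup.centralizer ({c} : Set G) := by
      intro w hw
      rw [Subgroup.mem_centralizer_singleton_iff]
      rw [Subgroup.mem_centralizer_iff] at hc
      exact hc w hw
    obtain ⟨y, hy⟩ := subConj_of_blockCoeff hM hB hD h1 hP hle
    refine ⟨y, ?_⟩
    rintro _ ⟨q, hq, rfl⟩
    simp only [MulEquiv.coe_toMonoidHom, MulAut.conj_apply]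
    exact hy q hq
  · rintro ⟨x, hx⟩
    obtain ⟨g₀, hg₀, hle, -⟩ := (isDefectGroup_iff hM hB).1 hD
    refine ⟨g₀, hg₀.1, hg₀.2.1, x⁻¹ * g₀ * x, ?_, ?_⟩
    · rw [isConj_iff]
      exact ⟨x⁻¹, by group⟩
    · rw [Subgroup.mem_centralizer_iff]
      intro w hw
      have h1 : x * w * x⁻¹ ∈ D := by
        apply hx
        exact ⟨w, hw, by simp [MulAut.conj_apply]⟩
      have h2 := hle h1
      rw [Subgroup.mem_centralizer_singleton_iff] at h2
      calc w * (x⁻¹ * g₀ * x) = x⁻¹ * ((x * w * x⁻¹) * g₀) * x := by group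
        _ = x⁻¹ * (g₀ * (x * w * x⁻¹)) * x := by rw [h2]
        _ = x⁻¹ * g₀ * x * w := by group

end Cfsg.Agent.S0959
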