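import Mathlib
import Cfsg.Statements.S0962
import Cfsg.Agent.Lib.Helper23.BlockCount

set_option autoImplicit false
open Cfsg Cfsg.Agent.Helper23.Blk

namespace Cfsg.Agent.S0962

/-- Fix a maximal ideal M of the algebraic integers containing the prime p and a natural number d. The number of blocks of the finite group G of defect at least d is at most the number of conjugacy classes of p-regular elements of G of defect at least d, where the defect of a class is the exponent of p in the order of the centralizer of any of its elements. -/
theorem result {G : Type*} [Group G] [Finite G] (p : ℕ) [Fact p.Prime] (M : Ideal Cfsg.AlgInt) (hM : Cfsg.IsPModular p M) (d : ℕ) : Nat.card {B : Set (Cfsg.IrrCharacter G) // Cfsg.IsPBlock M B ∧ d ≤ Cfsg.blockDefect p B} ≤ Nat.card {C : ConjClasses G // ∃ g : G, ConjClasses.mk g = C ∧ Cfsg.IsPRegular p g ∧ d ≤ (Nat.card (Subgroup.centralizer ({g} : Set G))).factorization p} := by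
  haveI : Fintype G := Fintype.ofFinite G
  haveI hMp : M.IsPrime := hM.2.1.isPrime
  have hp : p.Prime := hM.1
  have key := card_blocks_le_card_classes hM
    {B : Set (IrrCharacter G) | IsPBlock M B ∧ d ≤ blockDefect p B} (fun B hB => hB.1) (p ^ d)
    (fun B hB => Nat.pow_le_pow_right hp.pos hB.2)
    {C : ConjClasses G | ∃ g : G, ConjClasses.mk g = C ∧ IsPRegular p g ∧
      d ≤ (Nat.card (Subgroup.centralizer ({g} : Set G))).factorization p}
    (by
      intro B hB x hx hnot
      have hreg : IsPRegular p x := by
        intro hs
        apply hx
        rw [blockCoeff_eq_zero_of_pSingular hM hB.1 hs]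
        exact memLocalIdeal_zero ne_top
      have hlt : ¬ d ≤ (Nat.card (Subgroup.centralizer ({x} : Set G))).factorization p :=
        fun h => hnot ⟨x, rfl, hreg, h⟩
      exact Nat.pow_lt_pow_right hp.one_lt (not_le.1 hlt))
  exact key

end Cfsg.Agent.S0962
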