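import Mathlib
import Cfsg.Statements.S0964
import Cfsg.Agent.Lib.Helper18.BlockCover

set_option autoImplicit false
open Cfsg

namespace Cfsg.Agent.S0964

open Cfsg.Agent.Helper24 Cfsg.Agent.Helper18 Cfsg.Agent.Helper23.Blk
open scoped ComplexConjugate

theorem result {G : Type*} [Group G] [Fintype G] (p : ℕ) [Fact p.Prime] (M : Ideal Cfsg.AlgInt) (hM : Cfsg.IsPModular p M) (N : Subgroup G) [hN : N.Normal] [Fintype N] (B : Set (Cfsg.IrrCharacter G)) (hB : Cfsg.IsPBlock M B) (b : Set (Cfsg.IrrCharacter N)) (hb : Cfsg.IsPBlock M b) (χ : Cfsg.IrrCharacter G) (hχ : χ ∈ B) (θ : Cfsg.IrrCharacter N) (hθ : θ ∈ b) (hcon : Cfsg.classInner (fun n : N => (χ : G → ℂ) n) (θ : N → ℂ) ≠ 0) (χ' : Cfsg.IrrCharacter G) (hχ' : χ' ∈ B) (ψ : Cfsg.IrrCharacter N) (hψ : Cfsg.classInner (fun n : N => (χ' : G → ℂ) n) (ψ : N → ℂ) ≠ 0) : ∃ g : G, ∃ θ' ∈ b, ∀ n : N, (ψ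 : N → ℂ) n = (θ' : N → ℂ) ⟨g * n * g⁻¹, hN.conj_mem n n.2 g⟩ := by
  have hMp : M.IsPrime := isPrime_of_isPModular hM
  haveI := hMp
  obtain ⟨χ₀, rfl⟩ := hB
  have hsame : SameBlock M (χ : G → ℂ) (χ' : G → ℂ) := sameBlock_trans (sameBlock_symm hχ) hχ'
  obtain ⟨g, θ', hθ', hψeq⟩ := cover_orbit N hMp hb hsame hθ hcon hψ
  refine ⟨g, θ', hθ', fun n => ?_⟩
  rw [hψeq]
  rfl

end Cfsg.Agent.S0964
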