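import Mathlib
import Cfsg.Statements.S0965
import Cfsg.Agent.Lib.Helper18.BlockCover2

set_option autoImplicit false
open Cfsg

namespace Cfsg.Agent.S0965

open Cfsg.Agent.Helper24 Cfsg.Agent.Helper18 Cfsg.Agent.Helper23.Blk
open scoped ComplexConjugate

theorem result {G : Type*} [Group G] [Fintype G] (p : ℕ) [Fact p.Prime] (M : Ideal Cfsg.AlgInt) (hM : Cfsg.IsPModular p M) (N : Subgroup G) [N.Normal] [Fintype N] (B : Set (Cfsg.IrrCharacter G)) (hB : Cfsg.IsPBlock M B) (b : Set (Cfsg.IrrCharacter N)) (hb : Cfsg.IsPBlock M b) : (∃ χ ∈ B, ∃ θ ∈ b, Cfsg.classInner (fun n : N => (χ : G → ℂ) n) (θ : N → ℂ) ≠ 0) ↔ ∀ χ ∈ B, ∀ θ ∈ b, ∀ n : N, Cfsg.MemLocalIdeal M (Cfsg.centralChar (χ : G → ℂ) (n : G) - Cfsg.inducedCentralChar N (θ : N → ℂ) (n : G)) := by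
  have hMp : M.IsPrime := isPrime_of_isPModular hM
  haveI := hMp
  constructor
  · rintro ⟨χ₁, hχ₁, θ₁, hθ₁, hcon⟩
    exact passman_of_cover N hMp hB hb hχ₁ hθ₁ hcon
  · intro h
    obtain ⟨χ₀, hχ₀⟩ := hB
    obtain ⟨θ₀, hθ₀⟩ := hb
    have hχ₀B : χ₀ ∈ B := by
      rw [hχ₀]
      exact mem_blockOf_self χ₀
    have hθ₀b : θ₀ ∈ b := by
      rw [hθ₀]
      exact mem_blockOf_self θ₀
    obtain ⟨θ', hθ', hcon⟩ := cover_of_passman N hMp ⟨θ₀, hθ₀⟩ hθ₀b (h χ₀ hχ₀B θ₀ hθ₀b)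
    exact ⟨χ₀, hχ₀B, θ', hθ', hcon⟩

end Cfsg.Agent.S0965
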