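import Mathlib
import Cfsg.Statements.S0967
import Cfsg.Agent.Lib.Helper23.BlockIdem
import Cfsg.Agent.Lib.Helper24.CharQuotient

set_option autoImplicit false
open Cfsg

namespace Cfsg.Agent.S0967

open Cfsg.Agent.Helper24 Cfsg.Agent.Helper23.Blk
open scoped ComplexConjugate

/-- Let N be a normal subgroup of the finite group G of order prime to p and fix a maximal ideal M of the algebraic integers containing p. If χ is an irreducible character of G ⧸ N and ψ lies in the block of its inflation χ ∘ (quotient map), then ψ is itself inflated from an irreducible character ψ' of G ⧸ N lying in the block of χ. (Over a normal p'-subgroup, blocks of the quotient are whole blocks of G.) -/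
theorem result {G : Type*} [Group G] [Finite G] (p : ℕ) [Fact p.Prime] (M : Ideal Cfsg.AlgInt) (hM : Cfsg.IsPModular p M) (N : Subgroup G) [N.Normal] (hN : ¬ p ∣ Nat.card N) (χ : Cfsg.IrrCharacter (G ⧸ N)) (ψ : Cfsg.IrrCharacter G) (hψ : ψ ∈ Cfsg.blockOf M ((χ : G ⧸ N → ℂ) ∘ QuotientGroup.mk)) : ∃ ψ' : Cfsg.IrrCharacter (G ⧸ N), (ψ : G → ℂ) = (ψ' : G ⧸ N → ℂ) ∘ QuotientGroup.mk ∧ Cfsg.SameBlock M (χ : G ⧸ N → ℂ) (ψ' : G ⧸ N → ℂ) := by
  classical
  haveI : Fintype G := Fintype.ofFinite G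
  have hMp : M.IsPrime := isPrime_of_isPModular hM
  haveI : M.IsPrime := hMp
  letI : Fintype (IrrCharacter G) := irrFintype
  letI : Fintype (IrrCharacter (G ⧸ N)) := irrFintype
  obtain ⟨infl, hinfl⟩ : ∃ infl : IrrCharacter (G ⧸ N) → IrrCharacter G,
      ∀ φ, ((infl φ : IrrCharacter G) : G → ℂ) = (φ : G ⧸ N → ℂ) ∘ QuotientGroup.mk :=
    ⟨fun φ => ⟨(φ : G ⧸ N → ℂ) ∘ QuotientGroup.mk, isIrrCharacter_inflate N φ.2⟩, fun φ => rfl⟩
  have hinj : Function.Injective infl := by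
    intro φ₁ φ₂ h
    apply Subtype.ext
    funext x
    obtain ⟨g, rfl⟩ := QuotientGroup.mk_surjective x
    have h1 := congrFun (hinfl φ₁) g
    have h2 := congrFun (hinfl φ₂) g
    rw [h] at h1
    rw [h1] at h2
    exact h2
  obtain ⟨A, hA⟩ : ∃ A : Set (IrrCharacter G),
      A = infl '' (blockOf M (χ : G ⧸ N → ℂ)) := ⟨_, rfl⟩
  have hcard : (Nat.card G : ℂ) = (Nat.card N : ℂ) * (Nat.card (G ⧸ N) : ℂ) := by
    have := Subgroup.card_eq_card_quotient_mul_card_subgroup N
    rw [this]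
    push_cast
    ring
  have hN0 : (Nat.card N : ℂ) ≠ 0 := by
    have : Nat.card N ≠ 0 := Nat.card_pos.ne'
    exact_mod_cast this
  have hQ0 : (Nat.card (G ⧸ N) : ℂ) ≠ 0 := by
    have : Nat.card (G ⧸ N) ≠ 0 := Nat.card_pos.ne'
    exact_mod_cast this
  have hcoef : ∀ g : G, blockCoeff A g =
      (Nat.card N : ℂ)⁻¹ * blockCoeff (blockOf M (χ : G ⧸ N → ℂ)) (g : G ⧸ N) := by
    intro g
    unfold blockCoeff
    rw [hcard, mul_inv, mul_assoc]
    congr 2
    rw [hA, finsum_mem_image hinj.injOn]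
    refine finsum_mem_congr rfl fun φ _ => ?_
    rw [hinfl φ]
    simp only [Function.comp_apply, QuotientGroup.mk_one]
  have hAint : ∀ g : G, MemLocalRing M (blockCoeff A g) := by
    intro g
    rw [hcoef g]
    refine memLocalRing_mul (memLocalRing_inv (memLocalRing_natCast _) ?_)
      (memLocalRing_blockCoeff hMp ⟨χ, rfl⟩ _)
    rw [memLocalIdeal_natCast_iff hM]
    exact hN
  have hχA : infl χ ∈ A := by
    rw [hA]
    exact ⟨χ, mem_blockOf_self χ, rfl⟩
  have hsub := blockOf_subset_of_memLocalRing hMp hAint hχA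
  have hψA : ψ ∈ A := by
    apply hsub
    show SameBlock M ((infl χ : IrrCharacter G) : G → ℂ) (ψ : G → ℂ)
    rw [hinfl χ]
    exact hψ
  rw [hA] at hψA
  obtain ⟨ψ', hψ'B, hψ'⟩ := hψA
  refine ⟨ψ', ?_, hψ'B⟩
  rw [← hψ', hinfl ψ']

end Cfsg.Agent.S0967
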