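import Mathlib
import Cfsg.Statements.S0969
import Cfsg.Agent.Lib.Helper18.TwistChar3
import Cfsg.Agent.S0942

set_option autoImplicit false
open Cfsg Cfsg.Agent.Helper24 Cfsg.Agent.Helper23.Blk Cfsg.Agent.Helper18.Twist

namespace Cfsg.Agent.S0969

/-- Let D be a central p-subgroup of the finite group G and χ an irreducible character with the exponent of p in χ(1) equal to the exponent of p in the index of D; fix a maximal ideal M of the algebraic integers containing p. Then D is a defect group of the block of χ, and χ g = 0 whenever the p-part of g does not lie in D. -/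
theorem result {G : Type*} [Group G] [Finite G] (p : ℕ) [Fact p.Prime] (M : Ideal Cfsg.AlgInt) (hM : Cfsg.IsPModular p M) (D : Subgroup G) (hD : IsPGroup p D) (hDZ : D ≤ Subgroup.center G) (χ : Cfsg.IrrCharacter G) (hdeg : (Cfsg.charDegree (χ : G → ℂ)).factorization p = D.index.factorization p) : Cfsg.IsDefectGroup p M (Cfsg.blockOf M (χ : G → ℂ)) D ∧ ∀ g x : G, Cfsg.IsPPart p g x → x ∉ D → (χ : G → ℂ) g = 0 := by
  classical
  haveI : Fintype G := Fintype.ofFinite G
  haveI hMp : M.IsPrime := hM.2.1.isPrime
  have hp := hM.1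
  have S := setup_of_central hp hD hDZ
  haveI : D.Normal := S.normal
  obtain ⟨lam, -, L⟩ := exists_mult_of_central hDZ χ.2
  constructor
  · have hB : IsPBlock M (blockOf M (χ : G → ℂ)) := ⟨χ, rfl⟩
    have hχB : χ ∈ blockOf M (χ : G → ℂ) := mem_blockOf_self χ
    have hsInf : sInf ((fun ψ : IrrCharacter G => (charDegree (ψ : G → ℂ)).factorization p) ''
        blockOf M (χ : G → ℂ)) = D.index.factorization p := by
      apply le_antisymm
      · rw [← hdeg]
        exact Nat.sInf_le ⟨χ, hχB, rfl⟩
      · apply le_csInf (Set.Nonempty.image _ ⟨χ, hχB⟩)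
        rintro _ ⟨ψ, hψ, rfl⟩
        exact factorization_degree_ge_of_central hM hD hDZ χ hdeg hψ
    obtain ⟨P₀, hP₀⟩ := exists_isDefectGroup hM hB
    have hcard := card_defectGroup hM hB hP₀
    obtain ⟨s, hs⟩ := IsPGroup.iff_card.mp hD
    have hdef : blockDefect p (blockOf M (χ : G → ℂ)) = s := by
      unfold blockDefect
      rw [hsInf]
      have h1 := Subgroup.card_mul_index D
      have h2 : (Nat.card G).factorization p = s + D.index.factorization p := by
        rw [← h1, Nat.factorization_mul (Nat.card_pos).ne' Subgroup.index_ne_zero_of_finite,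
          Finsupp.add_apply, hs, hp.factorization_pow, Finsupp.single_eq_same]
      omega
    have hDle : D ≤ P₀ := by
      obtain ⟨g, hg, Sy, rfl⟩ := hP₀
      exact normal_pgroup_le_defectGroup hM hB D hD hg Sy
    have hDP : D = P₀ := by
      apply Subgroup.eq_of_le_of_card_ge hDle
      rw [hcard, hdef, hs]
    rw [hDP]
    exact hP₀
  · intro g x hgx hx
    apply (vanish_and_count S χ.2 hdeg L).1
    intro u hu
    by_contra hreg
    have hcomm := S.commute hu hreg
    have hpp : IsPPart p (u * (u⁻¹ * g)) x := by rwa [mul_inv_cancel_left]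
    have := Cfsg.Agent.S0942.isPPart_unique hp (S.orderOf_eq hu) hreg hcomm hpp
    exact hx (this ▸ hu)

end Cfsg.Agent.S0969
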