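import Mathlib
import Cfsg.Statements.S0970
import Cfsg.Agent.Lib.Helper18.BlockFong2
import Cfsg.Agent.Lib.Helper23.BlockDefectGroup2

set_option autoImplicit false

open Cfsg

namespace Cfsg.Agent.S0970

open Cfsg.Agent.Helper24 Cfsg.Agent.Helper23.Blk Cfsg.Agent.Helper18

/-- the arithmetic at the end of Fong's theorem -/
theorem fong_arith {G : Type*} [Group G] [Fintype G] {p : ℕ} (hp : p.Prime)
    (N : Subgroup G) [hN : N.Normal] (P C : Subgroup G) (hPC : P ≤ C) (d : ℕ)
    (hcardP : Nat.card P = p ^ (d + N.index.factorization p))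
    (hNC : (Nat.card (N ⊓ C : Subgroup G)).factorization p = d) :
    ¬ p ∣ (P ⊔ N).index ∧ Nat.card (P ⊓ N : Subgroup G) = p ^ d := by
  have hidx0 : N.index ≠ 0 := Subgroup.index_ne_zero_of_finite
  -- `|P| = |P ⊓ N| * N.relIndex P`
  have h1 : Nat.card (P ⊓ N : Subgroup G) * N.relIndex P = Nat.card P := by
    have h := Subgroup.card_mul_index ((P ⊓ N).subgroupOf P)
    have e : Nat.card ((P ⊓ N).subgroupOf P) = Nat.card (P ⊓ N : Subgroup G) :=
      Nat.card_congr (Subgroup.subgroupOfEquivOfLe inf_le_left).toEquiv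
    rw [e] at h
    have e2 : ((P ⊓ N).subgroupOf P).index = N.relIndex P := by
      show (P ⊓ N).relIndex P = N.relIndex P
      exact Subgroup.inf_relIndex_left P N
    rw [e2] at h
    exact h
  have hr : N.relIndex P ∣ N.index := Subgroup.relIndex_dvd_index_of_normal N P
  -- both factors are powers of `p`
  have hd1 : Nat.card (P ⊓ N : Subgroup G) ∣ p ^ (d + N.index.factorization p) := by
    rw [← hcardP, ← h1]
    exact dvd_mul_right _ _
  have hd2 : N.relIndex P ∣ p ^ (d + N.index.factorization p) := by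
    rw [← hcardP, ← h1]
    exact dvd_mul_left _ _
  obtain ⟨i, -, hi⟩ := (Nat.dvd_prime_pow hp).1 hd1
  obtain ⟨j, -, hj⟩ := (Nat.dvd_prime_pow hp).1 hd2
  have hsum : i + j = d + N.index.factorization p := by
    have h2 := h1
    rw [hi, hj, hcardP, ← pow_add] at h2
    exact Nat.pow_right_injective hp.two_le h2
  have hjle : j ≤ N.index.factorization p := by
    rw [hj] at hr
    exact (hp.pow_dvd_iff_le_factorization hidx0).1 hr
  have hile : i ≤ d := by
    have h3 : Nat.card (P ⊓ N : Subgroup G) ∣ Nat.card (N ⊓ C : Subgroup G) := by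
      apply Subgroup.card_dvd_of_le
      exact le_inf inf_le_right (inf_le_left.trans hPC)
    rw [hi] at h3
    have h4 := (hp.pow_dvd_iff_le_factorization Nat.card_pos.ne').1 h3
    rwa [hNC] at h4
  have hi' : i = d := by omega
  have hj' : j = N.index.factorization p := by omega
  refine ⟨?_, by rw [hi, hi']⟩
  have h5 : N.relIndex (P ⊔ N) * (P ⊔ N).index = N.index :=
    Subgroup.relIndex_mul_index le_sup_right
  rw [Subgroup.relIndex_sup_right, hj, hj'] at h5
  intro hdvd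
  obtain ⟨m, hm⟩ := hdvd
  have h6 : p ^ (N.index.factorization p + 1) ∣ N.index := by
    refine ⟨m, ?_⟩
    have h8 : N.index = p ^ N.index.factorization p * (p * m) := by
      rw [← hm]
      exact h5.symm
    rw [pow_succ, mul_assoc]
    exact h8
  have h7 := (hp.pow_dvd_iff_le_factorization hidx0).1 h6
  omega

theorem result {G : Type*} [Group G] [Fintype G] (p : ℕ) [Fact p.Prime] (M : Ideal Cfsg.AlgInt) (hM : Cfsg.IsPModular p M) (N : Subgroup G) [hN : N.Normal] [Fintype N] (b : Set (Cfsg.IrrCharacter N)) (hb : Cfsg.IsPBlock M b) (hinv : ∀ g : G, ∀ θ ∈ b, ∀ θ' : Cfsg.IrrCharacter N, (∀ n : N, (θ' : N → ℂ) n = (θ : N → ℂ) ⟨g * n * g⁻¹, hN.conj_mem n n.2 g⟩) → θ' ∈ b) (B : Set (Cfsg.IrrCharacter G)) (hB : Cfsg.IsPBlock M B) (hcov : ∃ χ ∈ B, ∃ θ ∈ b, Cfsg.classInner (fun n : N => (χ : G → ℂ) n) (θ : N → ℂ) ≠ 0) (hmax : ∀ B' : Set (Cfsg.IrrCharacter G), Cfsg.IsPBlock M B' → (∃ χ ∈ B', ∃ θ ∈ b, Cfsg.classInner (fun n : N => (χ : G → ℂ) n) (θ : N → ℂ)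 ≠ 0) → Cfsg.blockDefect p B' ≤ Cfsg.blockDefect p B) (P : Subgroup G) (hP : Cfsg.IsDefectGroup p M B P) : ¬ p ∣ (P ⊔ N).index ∧ Cfsg.IsDefectGroup p M b ((P ⊓ N).subgroupOf N) ∧ Cfsg.blockDefect p B = Cfsg.blockDefect p b + N.index.factorization p := by
  classical
  letI : Fintype (IrrCharacter G) := irrFintype
  letI : Fintype (IrrCharacter N) := irrFintype
  haveI hMp : M.IsPrime := hM.2.1.isPrime
  have hp := hM.1
  -- stability
  have hconj : ∀ g : G, ∀ θ ∈ b, conjIrr N g θ ∈ b := by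
    intro g θ hθ
    apply hinv g θ hθ
    intro n
    rfl
  have hst : ∀ x : G, StabilizesBlock N b x := by
    intro x
    refine ⟨?_, ?_⟩
    · rw [Subgroup.normalizer_eq_top_iff.2 hN]
      exact Subgroup.mem_top x
    · intro χ hχ
      refine ⟨conjIrr N x⁻¹ χ, hconj x⁻¹ χ hχ, ?_⟩
      intro k k' hk
      rw [conjIrr_coe, Cfsg.Agent.Helper5.conjFun_apply]
      apply congrArg
      apply Subtype.ext
      show x⁻¹ * (k' : G) * x⁻¹⁻¹ = (k : G)
      rw [hk]
      group
  obtain ⟨χ₁, hχ₁, θ₁, hθ₁, hcon⟩ := hcov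
  -- a Fong class
  obtain ⟨k, hkA, hkω⟩ := exists_fong_class N hM hb hst hθ₁ hcon
  -- a block `B₁` over `b` with `k` as a defect class
  obtain ⟨χ₂, hχ₂A, hχ₂⟩ := exists_block_of_not_memLocalIdeal hMp
    (overSet_closed N hMp hb hst) k hkA
  obtain ⟨B₁, hB₁def⟩ : ∃ B₁ : Set (IrrCharacter G), B₁ = blockOf M (χ₂ : G → ℂ) := ⟨_, rfl⟩
  rw [← hB₁def] at hχ₂
  have hB₁ : IsPBlock M B₁ := ⟨χ₂, hB₁def⟩
  obtain ⟨θ₂, hθ₂, hcon₂⟩ := hχ₂A
  have hχ₂B₁ : χ₂ ∈ B₁ := by
    rw [hB₁def]
    exact mem_blockOf_self χ₂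
  obtain ⟨hkN, hkb, hkidx⟩ := fong_class_of N hM hb hst hB hχ₁ hθ₁ hcon k hkA hkω
  have hdc₁ : IsDefectClass M B₁ k :=
    ⟨memLocalRing_blockCoeff hMp hB₁ _, hχ₂, fun χ hχ =>
      not_memLocalIdeal_centralChar_of_cover N hM hb hst hB₁ hχ₂B₁ hθ₂ hcon₂ hkb hkidx hχ⟩
  obtain ⟨S⟩ : Nonempty (Sylow p (Subgroup.centralizer ({k} : Set G))) := inferInstance
  obtain ⟨D₁, hD₁def⟩ : ∃ D₁ : Subgroup G, D₁ =
      (S : Subgroup (Subgroup.centralizer ({k} : Set G))).map
        (Subgroup.centralizer ({k} : Set G)).subtype := ⟨_, rfl⟩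
  have hD₁ : IsDefectGroup p M B₁ D₁ := ⟨k, hdc₁, S, hD₁def⟩
  have hcard₁ : Nat.card D₁ = p ^ blockDefect p B₁ := card_defectGroup hM hB₁ hD₁
  have hcardS : Nat.card D₁ =
      p ^ (Nat.card (Subgroup.centralizer ({k} : Set G))).factorization p := by
    rw [hD₁def, Subgroup.card_map_of_injective (Subgroup.subtype_injective _)]
    exact S.card_eq_multiplicity
  have hdB₁ : blockDefect p B₁ =
      (Nat.card (Subgroup.centralizer ({k} : Set G))).factorization p := by
    apply Nat.pow_right_injective hp.two_le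
    show p ^ _ = p ^ _
    rw [← hcard₁, hcardS]
  have hle : blockDefect p B₁ ≤ blockDefect p B :=
    hmax B₁ hB₁ ⟨χ₂, hχ₂B₁, θ₂, hθ₂, hcon₂⟩
  have hsub : SubConj P D₁ := by
    rw [hD₁def]
    exact subConj_of_centralChar hM hB hP ⟨χ₁, hχ₁, hkω⟩ S
  have hcardP := card_defectGroup hM hB hP
  obtain ⟨c, hc⟩ := map_conj_eq_of_subConj hsub (by
    rw [hcardP, hcard₁]
    exact Nat.pow_le_pow_right hp.pos hle)
  have hdeq : blockDefect p B = blockDefect p B₁ := by
    apply Nat.pow_right_injective hp.two_le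
    show p ^ _ = p ^ _
    rw [← hcard₁, ← hcardP, ← hc, Subgroup.card_map_of_injective (MulAut.conj c).injective]
  -- the conjugate class
  obtain ⟨k', hk'def⟩ : ∃ k' : G, k' = c⁻¹ * k * c := ⟨_, rfl⟩
  have hk'A : ¬ MemLocalIdeal M (blockCoeff (overSet N b) k') := by
    have h1 : blockCoeff (overSet N b) k' = blockCoeff (overSet N b) k := by
      have := isClassFunction_blockCoeff (overSet N b) k c⁻¹
      rw [inv_inv] at this
      rw [hk'def, this]
    rwa [h1]
  have hk'ω : ¬ MemLocalIdeal M (centralChar (χ₁ : G → ℂ) k') := by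
    have h1 : centralChar (χ₁ : G → ℂ) k' = centralChar (χ₁ : G → ℂ) k := by
      have := centralChar_conj (isClassFunction_of_isIrrCharacter χ₁.2) k c⁻¹
      rw [inv_inv] at this
      rw [hk'def, this]
    rwa [h1]
  obtain ⟨hk'N, hk'b, hk'idx⟩ := fong_class_of N hM hb hst hB hχ₁ hθ₁ hcon k' hk'A hk'ω
  -- `P` centralizes `k'`
  have hPC : P ≤ Subgroup.centralizer ({k'} : Set G) := by
    intro y hy
    have h1 : c * y * c⁻¹ ∈ D₁ := by
      rw [← hc]
      exact ⟨y, hy, rfl⟩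
    rw [hD₁def] at h1
    obtain ⟨z, -, hz⟩ := h1
    have h2 : c * y * c⁻¹ ∈ Subgroup.centralizer ({k} : Set G) := by
      rw [← hz]
      exact z.2
    rw [Subgroup.mem_centralizer_iff] at h2 ⊢
    intro w hw
    rw [Set.mem_singleton_iff] at hw
    have h3 := h2 k (Set.mem_singleton k)
    rw [hw, hk'def]
    calc c⁻¹ * k * c * y = c⁻¹ * (k * (c * y * c⁻¹)) * c := by group
      _ = c⁻¹ * ((c * y * c⁻¹) * k) * c := by rw [h3]
      _ = y * (c⁻¹ * k * c) := by group
  -- orders of centralizers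
  have hcentcard : Nat.card (Subgroup.centralizer ({k'} : Set G)) =
      Nat.card (Subgroup.centralizer ({k} : Set G)) := by
    have h1 : Subgroup.centralizer ({k'} : Set G) =
        (Subgroup.centralizer ({k} : Set G)).map (MulAut.conj c⁻¹).toMonoidHom := by
      have := centralizer_conj (G := G) k c⁻¹
      rw [inv_inv] at this
      rw [hk'def, this]
    rw [h1, Subgroup.card_map_of_injective (MulAut.conj c⁻¹).injective]
  have hfong := factorization_card_centralizer_of_fong N hp (⟨k', hk'N⟩ : N) hk'idx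
  -- the defect of `b`
  obtain ⟨S'⟩ : Nonempty (Sylow p (Subgroup.centralizer ({(⟨k', hk'N⟩ : N)} : Set N))) :=
    inferInstance
  have hDb : IsDefectGroup p M b
      ((S' : Subgroup (Subgroup.centralizer ({(⟨k', hk'N⟩ : N)} : Set N))).map
        (Subgroup.centralizer ({(⟨k', hk'N⟩ : N)} : Set N)).subtype) :=
    ⟨⟨k', hk'N⟩, hk'b, S', rfl⟩
  have hdb : blockDefect p b =
      (Nat.card (Subgroup.centralizer ({(⟨k', hk'N⟩ : N)} : Set N))).factorization p := by
    apply Nat.pow_right_injective hp.two_le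
    show p ^ _ = p ^ _
    rw [← card_defectGroup hM hb hDb,
      Subgroup.card_map_of_injective (Subgroup.subtype_injective _)]
    exact S'.card_eq_multiplicity
  have hdB : blockDefect p B = blockDefect p b + N.index.factorization p := by
    rw [hdeq, hdB₁, ← hcentcard, hdb]
    exact hfong
  have hNC : (Nat.card (N ⊓ Subgroup.centralizer ({k'} : Set G) : Subgroup G)).factorization p =
      blockDefect p b := by
    rw [hdb, ← map_centralizer_eq_inf N (⟨k', hk'N⟩ : N),
      Subgroup.card_map_of_injective N.subtype_injective]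
  have hcardP' : Nat.card P = p ^ (blockDefect p b + N.index.factorization p) := by
    rw [hcardP, hdB]
  obtain ⟨hres1, hres2⟩ := fong_arith hp N P _ hPC (blockDefect p b) hcardP' hNC
  refine ⟨hres1, ?_, hdB⟩
  rw [isDefectGroup_iff hM hb]
  refine ⟨⟨k', hk'N⟩, hk'b, ?_, ?_⟩
  · intro n hn
    rw [Subgroup.mem_subgroupOf] at hn
    have h1 := hPC hn.1
    rw [Subgroup.mem_centralizer_iff] at h1 ⊢
    intro w hw
    rw [Set.mem_singleton_iff] at hw
    rw [hw]
    apply Subtype.ext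
    exact h1 k' (Set.mem_singleton k')
  · rw [← hres2]
    exact Nat.card_congr (Subgroup.subgroupOfEquivOfLe inf_le_right).toEquiv

end Cfsg.Agent.S0970
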