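import Mathlib
import Cfsg.Statements.S0971
import Cfsg.Agent.Lib.Helper18.BlockCover2
import Cfsg.Agent.Lib.Helper23.BlockBrauer2

set_option autoImplicit false
open Cfsg

namespace Cfsg.Agent.S0971

open Cfsg.Agent.Helper24 Cfsg.Agent.Helper18 Cfsg.Agent.Helper23.Blk
open scoped ComplexConjugate

/-- a block covering a block of `N = Q C_G(Q)` is induced from it -/
theorem induced_of_cover {G : Type*} [Group G] [Fintype G] (p : ℕ) [Fact p.Prime]
    (M : Ideal Cfsg.AlgInt) (hM : Cfsg.IsPModular p M) (Q : Subgroup G) [Q.Normal]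
    (hQ : IsPGroup p Q) (N : Subgroup G) [N.Normal] [Fintype N]
    (hN : Subgroup.centralizer (Q : Set G) ≤ N)
    (b : Set (Cfsg.IrrCharacter N)) (hb : Cfsg.IsPBlock M b)
    (B : Set (Cfsg.IrrCharacter G)) (hB : Cfsg.IsPBlock M B)
    (hcov : ∃ χ ∈ B, ∃ θ ∈ b, Cfsg.classInner (fun n : N => (χ : G → ℂ) n) (θ : N → ℂ) ≠ 0) :
    Cfsg.IsInducedBlock M N b B := by
  classical
  have hMp : M.IsPrime := isPrime_of_isPModular hM
  haveI := hMp
  obtain ⟨χ₁, hχ₁, θ₁, hθ₁, hcon⟩ := hcov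
  refine ⟨hb, hB, ?_⟩
  intro θ hθ χ hχ g
  by_cases hg : g ∈ N
  · have h := passman_of_cover N hMp hB hb hχ₁ hθ₁ hcon χ hχ θ hθ ⟨g, hg⟩
    have h2 := memLocalIdeal_neg h
    rwa [neg_sub] at h2
  · have h0 : inducedCentralChar N (θ : N → ℂ) g = 0 := by
      unfold inducedCentralChar
      have hempty : {h : N | IsConj g (h : G)} = ∅ := by
        ext h
        simp only [Set.mem_setOf_eq, Set.mem_empty_iff_false, iff_false]
        intro hc
        apply hg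
        obtain ⟨c, hc⟩ := isConj_iff.mp hc.symm
        rw [← hc]
        exact ‹N.Normal›.conj_mem _ h.2 c
      rw [hempty]
      exact finsum_mem_empty
    rw [h0, zero_sub]
    apply memLocalIdeal_neg
    apply memLocalIdeal_centralChar_of_not_mem_centralizer hM Q hQ χ
    intro hgc
    exact hg (hN hgc)

/-- every irreducible character of a subgroup lies under one of the group -/
theorem exists_over {G : Type*} [Group G] [Fintype G] (N : Subgroup G) [Fintype N]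
    (θ₀ : Cfsg.IrrCharacter N) :
    ∃ χ₁ : Cfsg.IrrCharacter G,
      Cfsg.classInner (fun n : N => (χ₁ : G → ℂ) n) (θ₀ : N → ℂ) ≠ 0 := by
  classical
  have hind : IsCharacter G (indFun N (θ₀ : N → ℂ)) :=
    isCharacter_indFun N (isCharacter_of_isIrrCharacter θ₀.2)
  have hind0 : indFun N (θ₀ : N → ℂ) ≠ 0 := by
    intro h0
    have h1 := congrFun h0 1
    rw [indFun_one] at h1
    have hidx0 : (N.index : ℂ) ≠ 0 := by
      have : N.index ≠ 0 := Subgroup.index_ne_zero_of_finite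
      exact_mod_cast this
    exact (mul_ne_zero hidx0 (irr_one_ne_zero θ₀.2)) h1
  obtain ⟨χ₁f, hχ₁irr, hχ₁con⟩ := Cfsg.Agent.Helper5.exists_constituent hind hind0
  refine ⟨⟨χ₁f, hχ₁irr⟩, ?_⟩
  show classInner (fun n : N => χ₁f n) (θ₀ : N → ℂ) ≠ 0
  rw [frobenius_reciprocity N (θ₀ : N → ℂ) (isClassFunction_of_isIrrCharacter hχ₁irr),
    ← classInner_conj_symm] at hχ₁con
  intro h
  apply hχ₁con
  rw [h, map_zero]

theorem result {G : Type*} [Group G] [Fintype G] (p : ℕ) [Fact p.Prime] (M : Ideal Cfsg.AlgInt) (hM : Cfsg.IsPModular p M) (Q : Subgroup G) [Q.Normal] (hQ : IsPGroup p Q) [Fintype ↥(Q ⊔ Subgroup.centralizer (Q : Set G))] (b : Set (Cfsg.IrrCharacter ↥(Q ⊔ Subgroup.centralizer (Q : Set G)))) (hb : Cfsg.IsPBlock M b) : Cfsg.InducedBlockDefined M (Q ⊔ Subgroup.centralizer (Q : Set G)) b ∧ ∀ B : Set (Cfsg.IrrCharacter G), Cfsg.IsPBlock M B → (∃ χ ∈ B, ∃ θ ∈ b, Cfsg.classInner (fun n : ↥(Q ⊔ Subgroup.centralizer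 (Q : Set G)) => (χ : G → ℂ) n) (θ : ↥(Q ⊔ Subgroup.centralizer (Q : Set G)) → ℂ) ≠ 0) → Cfsg.IsInducedBlock M (Q ⊔ Subgroup.centralizer (Q : Set G)) b B := by
  classical
  have hMp : M.IsPrime := isPrime_of_isPModular hM
  haveI := hMp
  haveI : (Q ⊔ Subgroup.centralizer (Q : Set G)).Normal := inferInstance
  have hle : Subgroup.centralizer (Q : Set G) ≤ Q ⊔ Subgroup.centralizer (Q : Set G) :=
    le_sup_right
  have key : ∀ B : Set (Cfsg.IrrCharacter G), Cfsg.IsPBlock M B →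
      (∃ χ ∈ B, ∃ θ ∈ b, Cfsg.classInner
        (fun n : ↥(Q ⊔ Subgroup.centralizer (Q : Set G)) => (χ : G → ℂ) n)
        (θ : ↥(Q ⊔ Subgroup.centralizer (Q : Set G)) → ℂ) ≠ 0) →
      Cfsg.IsInducedBlock M (Q ⊔ Subgroup.centralizer (Q : Set G)) b B := by
    intro B hB hcov
    exact induced_of_cover p M hM Q hQ _ hle b hb B hB hcov
  refine ⟨?_, key⟩
  obtain ⟨θ₀, hθ₀⟩ := hb
  have hθ₀b : θ₀ ∈ b := by
    rw [hθ₀]
    exact mem_blockOf_self θ₀
  obtain ⟨χ₁, hcon₁⟩ := exists_over (Q ⊔ Subgroup.centralizer (Q : Set G)) θ₀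
  exact ⟨blockOf M (χ₁ : G → ℂ), key _ ⟨χ₁, rfl⟩ ⟨χ₁, mem_blockOf_self χ₁, θ₀, hθ₀b, hcon₁⟩⟩

end Cfsg.Agent.S0971
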