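import Mathlib
import Cfsg.Statements.S0972
import Cfsg.Agent.Lib.Helper18.Reynolds

set_option autoImplicit false
open Cfsg

namespace Cfsg.Agent.S0972

/-- Let B be a block of the finite group G (relative to a maximal ideal M of the algebraic integers containing the prime p) with a defect group P that is normal in G. Then P is commutative if and only if every member of B has height zero. -/
theorem result {G : Type*} [Group G] [Finite G] (p : ℕ) [Fact p.Prime] (M : Ideal Cfsg.AlgInt) (hM : Cfsg.IsPModular p M) (B : Set (Cfsg.IrrCharacter G)) (hB : Cfsg.IsPBlock M B) (P : Subgroup G) [P.Normal] (hP : Cfsg.IsDefectGroup p M B P) : (∀ a ∈ P, ∀ c ∈ P, a * c = c * a) ↔ ∀ χ ∈ B, Cfsg.blockHeight p B (χ : G → ℂ) = 0 := by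
  classical
  haveI : Fintype G := Fintype.ofFinite G
  constructor
  · intro hcomm χ hχ
    unfold Cfsg.blockHeight
    rw [Cfsg.Agent.Helper18.Reynolds.sInf_eq_factorization_index hM hB hP]
    have h1 := Cfsg.Agent.S0169.ito_aux (Nat.card G) G rfl P hcomm (χ : G → ℂ) χ.2
    have h2 : (Cfsg.charDegree (χ : G → ℂ)).factorization p ≤ P.index.factorization p :=
      (Nat.factorization_le_iff_dvd (Cfsg.Agent.Helper24.charDegree_pos χ.2).ne'
        Subgroup.index_ne_zero_of_finite).mpr h1 p
    omega
  · intro hht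
    obtain ⟨L, hL⟩ : ∃ L : Subgroup G, L = P ⊔ Subgroup.centralizer (P : Set G) := ⟨_, rfl⟩
    have hdeg := Cfsg.Agent.Helper18.Reynolds.degree_eq_one_of_heights hM hB P hP hht L hL
    have hcomm : ∀ a b : P.subgroupOf L, a * b = b * a := by
      apply (Cfsg.Agent.S0187.result (G := P.subgroupOf L)).mpr
      intro ζ
      haveI : Fintype (P.subgroupOf L) := Fintype.ofFinite _
      rw [Cfsg.Agent.Helper24.irr_one_eq_charDegree ζ.2, hdeg ζ]
      simp
    intro a ha c hc
    have hPL : P ≤ L := hL ▸ le_sup_left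
    have h1 := hcomm ⟨⟨a, hPL ha⟩, Subgroup.mem_subgroupOf.2 ha⟩
      ⟨⟨c, hPL hc⟩, Subgroup.mem_subgroupOf.2 hc⟩
    exact congrArg (fun x : P.subgroupOf L => ((x : L) : G)) h1

end Cfsg.Agent.S0972
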