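import Mathlib
import Cfsg.Statements.S0974
import Cfsg.Agent.Lib.Helper5.PrimeTIi

set_option autoImplicit false
open Cfsg

namespace Cfsg.Agent.S0974

theorem num2 : ∀ n < 193, n ∣ 192 → n % 19 ≠ 18 := by
  decide +kernel

theorem num3 : ∀ n < 193, n ∣ 192 → n % 19 = 1 → n = 1 ∨ n = 96 := by
  decide +kernel

/-- No finite simple group has order 3648 = 2^6 * 3 * 19. -/
theorem result {G : Type*} [Group G] [Finite G] [IsSimpleGroup G] : Nat.card G ≠ 3648 := by
  intro hcard
  classical
  haveI : Fintype G := Fintype.ofFinite G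
  have hG : ∃ x y : G, x * y ≠ y * x :=
    Cfsg.Agent.Lead.nonabelian_of_not_prime (by rw [hcard]; norm_num)
  haveI : Fact (Nat.Prime 19) := ⟨by norm_num⟩
  have hf : (3648 : ℕ).factorization 19 = 1 := by
    have h : (3648 : ℕ) = 19 ^ 1 * 192 := by norm_num
    rw [h, Nat.factorization_mul (by norm_num) (by norm_num),
      Nat.Prime.factorization_pow (by norm_num)]
    simp
    rw [Nat.factorization_eq_zero_of_not_dvd (by norm_num)]
  obtain ⟨P⟩ : Nonempty (Sylow 19 G) := inferInstance
  have hP : Nat.card (P : Subgroup G) = 19 := by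
    rw [P.card_eq_multiplicity, hcard, hf]; norm_num
  set N := Subgroup.normalizer ((P : Subgroup G) : Set G) with hN
  have hpd : 19 ∣ Nat.card G := by rw [hcard]; norm_num
  have hidx : N.index = 96 := by
    have hdvd : Nat.card (Sylow 19 G) ∣ (P : Subgroup G).index := P.card_dvd_index
    have hPidx : (P : Subgroup G).index = 192 := by
      have := Subgroup.card_mul_index (P : Subgroup G)
      rw [hP, hcard] at this
      omega
    rw [hPidx] at hdvd
    have hmod : Nat.card (Sylow 19 G) % 19 = 1 := card_sylow_modEq_one 19 G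
    have hnidx : Nat.card (Sylow 19 G) = N.index := P.card_eq_index_normalizer
    rw [← hnidx]
    set n := Nat.card (Sylow 19 G) with hn
    have hle : n ≤ 192 := Nat.le_of_dvd (by norm_num) hdvd
    rcases num3 n (by omega) hdvd hmod with h | h
    · exfalso
      apply Cfsg.Agent.Lead.sylow_normalizer_ne_top hG hpd P
      rw [← hN]
      apply Subgroup.index_eq_one.1
      rw [← hnidx, h]
    · exact h
  have hNcard : Nat.card N = 19 * 2 := by
    have := Subgroup.card_mul_index N
    rw [hidx, hcard] at this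
    omega
  obtain ⟨hcent, hidx2⟩ := Cfsg.Agent.Helper5.PrimeTI.setup hG P hP hNcard (by norm_num)
  have hperf := Cfsg.Agent.Helper5.PrimeTI.commutator_eq_top_of_simple (G := G) hG
  obtain ⟨n, d, a₀, ε, ha₀, hε, hn, hd, hn2, hnmod, hdmod, hrel⟩ :=
    Cfsg.Agent.Helper5.PrimeTI.main_e2 (P : Subgroup G) (p := 19) (t := 9) (by norm_num) hP hcent
      hidx2 (by norm_num) (by norm_num) hperf
  rw [hcard] at hn hd
  have hnle : n ≤ 3648 := Nat.le_of_dvd (by norm_num) hn
  have hdle : d ≤ 3648 := Nat.le_of_dvd (by norm_num) hd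
  have hdpos : 0 < d := Nat.pos_of_dvd_of_pos hd (by norm_num)
  unfold Int.ModEq at hnmod hdmod
  push_cast at hnmod hdmod
  rcases ha₀ with rfl | rfl <;> rcases hε with rfl | rfl
  · have h1 : n % 19 = 1 := by omega
    have h2 : d = n + 1 := by omega
    rw [h2] at hd
    have hn' : n ∣ 192 :=
      Cfsg.Agent.Helper5.PrimeTI.dvd_of_dvd_mul_of_mod (p := 19) (by norm_num) hn (by omega)
    have hn'le : n ≤ 192 := Nat.le_of_dvd (by norm_num) hn'
    rcases num3 n (by omega) hn' h1 with h | h
    · omega
    · rw [h] at hd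
      revert hd
      norm_num
  · omega
  · omega
  · have h1 : n % 19 = 18 := by omega
    have hn' : n ∣ 192 :=
      Cfsg.Agent.Helper5.PrimeTI.dvd_of_dvd_mul_of_mod (p := 19) (by norm_num) hn (by omega)
    have hn'le : n ≤ 192 := Nat.le_of_dvd (by norm_num) hn'
    exact num2 n (by omega) hn' h1

end Cfsg.Agent.S0974
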