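import Mathlib
import Cfsg.Statements.S0975
import Cfsg.Agent.Lib.Helper5.PrimeTIi

set_option autoImplicit false
open Cfsg

namespace Cfsg.Agent.S0975

theorem num1 : ∀ n < 289, n ∣ 288 → n % 13 = 1 → n = 1 ∨ n = 144 := by
  decide +kernel

theorem num2 : ∀ n < 289, n ∣ 288 → n % 13 = 12 → n = 12 := by
  decide +kernel

theorem num3 : ∀ n < 289, n ∣ 288 → n % 13 = 2 → n = 2 ∨ n = 288 := by
  decide +kernel

theorem num4 : ∀ n < 289, n ∣ 288 → n % 13 = 11 → n = 24 := by
  decide +kernel

/-- No finite simple group has order 3744 = 2^5 * 3^2 * 13. -/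
theorem result {G : Type*} [Group G] [Finite G] [IsSimpleGroup G] : Nat.card G ≠ 3744 := by
  intro hcard
  classical
  haveI : Fintype G := Fintype.ofFinite G
  have hG : ∃ x y : G, x * y ≠ y * x :=
    Cfsg.Agent.Lead.nonabelian_of_not_prime (by rw [hcard]; norm_num)
  haveI : Fact (Nat.Prime 13) := ⟨by norm_num⟩
  have hf : (3744 : ℕ).factorization 13 = 1 := by
    have h : (3744 : ℕ) = 13 ^ 1 * 288 := by norm_num
    rw [h, Nat.factorization_mul (by norm_num) (by norm_num),
      Nat.Prime.factorization_pow (by norm_num)]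
    simp
    rw [Nat.factorization_eq_zero_of_not_dvd (by norm_num)]
  obtain ⟨P⟩ : Nonempty (Sylow 13 G) := inferInstance
  have hP : Nat.card (P : Subgroup G) = 13 := by
    rw [P.card_eq_multiplicity, hcard, hf]; norm_num
  set N := Subgroup.normalizer ((P : Subgroup G) : Set G) with hN
  have hpd : 13 ∣ Nat.card G := by rw [hcard]; norm_num
  have hidx : N.index = 144 := by
    have hdvd : Nat.card (Sylow 13 G) ∣ (P : Subgroup G).index := P.card_dvd_index
    have hPidx : (P : Subgroup G).index = 288 := by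
      have := Subgroup.card_mul_index (P : Subgroup G)
      rw [hP, hcard] at this
      omega
    rw [hPidx] at hdvd
    have hmod : Nat.card (Sylow 13 G) % 13 = 1 := card_sylow_modEq_one 13 G
    have hnidx : Nat.card (Sylow 13 G) = N.index := P.card_eq_index_normalizer
    rw [← hnidx]
    set n := Nat.card (Sylow 13 G) with hn
    have hle : n ≤ 288 := Nat.le_of_dvd (by norm_num) hdvd
    rcases num1 n (by omega) hdvd hmod with h | h
    · exfalso
      apply Cfsg.Agent.Lead.sylow_normalizer_ne_top hG hpd P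
      rw [← hN]
      apply Subgroup.index_eq_one.1
      rw [← hnidx, h]
    · exact h
  have hNcard : Nat.card N = 13 * 2 := by
    have := Subgroup.card_mul_index N
    rw [hidx, hcard] at this
    omega
  obtain ⟨hcent, hidx2⟩ := Cfsg.Agent.Helper5.PrimeTI.setup hG P hP hNcard (by norm_num)
  have hperf := Cfsg.Agent.Helper5.PrimeTI.commutator_eq_top_of_simple (G := G) hG
  obtain ⟨n, d, a₀, ε, ha₀, hε, hn, hd, hn2, hnmod, hdmod, hrel⟩ :=
    Cfsg.Agent.Helper5.PrimeTI.main_e2 (P : Subgroup G) (p := 13) (t := 6) (by norm_num) hP hcent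
      hidx2 (by norm_num) (by norm_num) hperf
  rw [hcard] at hn hd
  have hnle : n ≤ 3744 := Nat.le_of_dvd (by norm_num) hn
  have hdle : d ≤ 3744 := Nat.le_of_dvd (by norm_num) hd
  have hdpos : 0 < d := Nat.pos_of_dvd_of_pos hd (by norm_num)
  unfold Int.ModEq at hnmod hdmod
  push_cast at hnmod hdmod
  have hn13 : (3744 : ℕ) = 13 * 288 := by norm_num
  rw [hn13] at hn hd
  rcases ha₀ with rfl | rfl <;> rcases hε with rfl | rfl
  · have h1 : n % 13 = 1 := by omega
    have h2 : d % 13 = 2 := by omega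
    have hn' : n ∣ 288 :=
      Cfsg.Agent.Helper5.PrimeTI.dvd_of_dvd_mul_of_mod (p := 13) (by norm_num) hn (by omega)
    have hd' : d ∣ 288 :=
      Cfsg.Agent.Helper5.PrimeTI.dvd_of_dvd_mul_of_mod (p := 13) (by norm_num) hd (by omega)
    have hn'le : n ≤ 288 := Nat.le_of_dvd (by norm_num) hn'
    have hd'le : d ≤ 288 := Nat.le_of_dvd (by norm_num) hd'
    rcases num1 n (by omega) hn' h1 with h | h <;> rcases num3 d (by omega) hd' h2 with h' | h' <;>
      omega
  · omega
  · omega
  · have h1 : n % 13 = 12 := by omega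
    have h2 : d % 13 = 11 := by omega
    have hn' : n ∣ 288 :=
      Cfsg.Agent.Helper5.PrimeTI.dvd_of_dvd_mul_of_mod (p := 13) (by norm_num) hn (by omega)
    have hd' : d ∣ 288 :=
      Cfsg.Agent.Helper5.PrimeTI.dvd_of_dvd_mul_of_mod (p := 13) (by norm_num) hd (by omega)
    have hn'le : n ≤ 288 := Nat.le_of_dvd (by norm_num) hn'
    have hd'le : d ≤ 288 := Nat.le_of_dvd (by norm_num) hd'
    have h3 := num2 n (by omega) hn' h1
    have h4 := num4 d (by omega) hd' h2
    omega

end Cfsg.Agent.S0975
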