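import Mathlib
import Cfsg.Agent.Lib.Helper8.P32
import Cfsg.Agent.Lib.Helper8.InvTI3
import Cfsg.Agent.Lib.Helper8.SqArith
import Cfsg.Agent.Lib.Helper5.PrimeTIi
import Cfsg.Statements.S0976
-- import your own Cfsg.Agent.* helpers here

set_option autoImplicit false
open Cfsg

namespace Cfsg.Agent.S0976

theorem num1 : ∀ n < 577, n ∣ 576 → (n + 1) ∣ 576 → n % 7 = 1 → 2 ≤ n → n = 8 := by
  decide +kernel

theorem num2 : ∀ d < 577, d ∣ 576 → (d + 1) ∣ 576 → d % 7 = 5 → False := by
  decide +kernel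

/-- No finite simple group has order 4032 = 2^6 * 3^2 * 7. -/
theorem result {G : Type*} [Group G] [Finite G] [IsSimpleGroup G] : Nat.card G ≠ 4032 := by
  intro hcard
  classical
  haveI : Fintype G := Fintype.ofFinite G
  letI : Fintype (IrrCharacter G) := Cfsg.Agent.Helper24.irrFintype
  have hG : ∃ x y : G, x * y ≠ y * x :=
    Cfsg.Agent.Lead.nonabelian_of_not_prime (by rw [hcard]; norm_num)
  haveI : Fact (Nat.Prime 7) := ⟨by norm_num⟩
  obtain ⟨P⟩ : Nonempty (Sylow 7 G) := inferInstance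
  obtain ⟨hP, -, hk1, hk2, hNcard, hn⟩ := Cfsg.Agent.Helper8.P32.sylow_data 7 2 6 (by norm_num)
    (by norm_num) (by rw [hcard]; norm_num) (by rw [hcard]; norm_num) P
  have hmod : Nat.card (Sylow 7 G) % 7 = 1 := card_sylow_modEq_one 7 G
  rw [hcard] at hn
  have hkk : (Subgroup.centralizer ((P : Subgroup G) : Set G)).relIndex
      (Subgroup.normalizer ((P : Subgroup G) : Set G)) = 2 := by
    set k := (Subgroup.centralizer ((P : Subgroup G) : Set G)).relIndex
      (Subgroup.normalizer ((P : Subgroup G) : Set G)) with hk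
    set n := Nat.card (Sylow 7 G) with hnn
    have hk6 : k ∣ 6 := hk1
    have hkle : k ≤ 6 := Nat.le_of_dvd (by norm_num) hk6
    interval_cases k <;> omega
  rw [hkk] at hNcard
  obtain ⟨hcent, hidx2⟩ := Cfsg.Agent.Helper5.PrimeTI.setup hG P hP hNcard (by norm_num)
  obtain ⟨n, d, a₀, ε, ha₀, hε, hn2, hnd, hdd, hdpos, hnmod, hdmod, hrel, τ, j, hττ, hτ1, hj,
      hmain, hall⟩ :=
    Cfsg.Agent.Helper8.InvTI.e2_main hG (P : Subgroup G) (p := 7) (t := 3) (by norm_num) hP hcent
      hidx2 (by norm_num) (by norm_num)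
  rw [hcard] at hnd hdd hmain
  unfold Int.ModEq at hnmod hdmod
  push_cast at hnmod hdmod
  have h4032 : (4032 : ℕ) = 7 * 576 := by norm_num
  rw [h4032] at hnd hdd
  set m := Nat.card (Subgroup.centralizer ({τ} : Set G)) with hm
  have hmpos : 0 < m := Nat.card_pos
  have hn' : n ∣ 576 := by
    rcases ha₀ with rfl | rfl
    · exact Cfsg.Agent.Helper5.PrimeTI.dvd_of_dvd_mul_of_mod (p := 7) (by norm_num) hnd (by omega)
    · exact Cfsg.Agent.Helper5.PrimeTI.dvd_of_dvd_mul_of_mod (p := 7) (by norm_num) hnd (by omega)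
  have hd' : d ∣ 576 := by
    rcases hε with rfl | rfl
    · exact Cfsg.Agent.Helper5.PrimeTI.dvd_of_dvd_mul_of_mod (p := 7) (by norm_num) hdd (by omega)
    · exact Cfsg.Agent.Helper5.PrimeTI.dvd_of_dvd_mul_of_mod (p := 7) (by norm_num) hdd (by omega)
  have hn'le : n ≤ 576 := Nat.le_of_dvd (by norm_num) hn'
  have hd'le : d ≤ 576 := Nat.le_of_dvd (by norm_num) hd'
  rcases ha₀ with rfl | rfl <;> rcases hε with rfl | rfl
  · have hdn : d = n + 1 := by omega
    rw [hdn] at hd'
    have hn8 := num1 n (by omega) hn' hd' (by omega) hn2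
    rw [hn8] at hdn
    rw [hn8, hdn] at hmain
    push_cast at hmain
    have h1 : m * m = (2 * 1) * ((4 * j) * (4 * j)) := by
      have : (m : ℤ) * m = (2 * 1) * ((4 * j) * (4 * j)) := by nlinarith
      exact_mod_cast this
    have := Cfsg.Agent.Helper8.SqArith.eq_zero_of_sq_eq_mul_sq Nat.prime_two (by norm_num) m (4 * j) h1
    omega
  · omega
  · omega
  · have hnd' : n = d + 1 := by omega
    rw [hnd'] at hn'
    exact num2 d (by omega) hd' hn' (by omega)

end Cfsg.Agent.S0976
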