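import Mathlib
import Cfsg.Agent.Lib.Helper8.P32
import Cfsg.Agent.Lib.Helper8.InvTI3
import Cfsg.Agent.Lib.Helper8.InvTI4
import Cfsg.Agent.Lib.Helper8.Rat5b
import Cfsg.Agent.Lib.Helper8.Rat5c
import Cfsg.Agent.Lib.Helper8.Rat5d
import Cfsg.Agent.Lib.Helper5.PrimeTIi
import Cfsg.Statements.S0977
-- import your own Cfsg.Agent.* helpers here

set_option autoImplicit false
open Cfsg

namespace Cfsg.Agent.S0977

open Cfsg.Agent.Helper24 Cfsg.Agent.Helper8 in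
set_option maxHeartbeats 1600000 in
/-- No finite simple group has order 4320 = 2^5 * 3^3 * 5. -/
theorem result {G : Type*} [Group G] [Finite G] [IsSimpleGroup G] : Nat.card G ≠ 4320 := by
  intro hcard
  classical
  haveI : Fintype G := Fintype.ofFinite G
  letI : Fintype (IrrCharacter G) := Cfsg.Agent.Helper24.irrFintype
  have hG : ∃ x y : G, x * y ≠ y * x :=
    Cfsg.Agent.Lead.nonabelian_of_not_prime (by rw [hcard]; norm_num)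
  haveI : Fact (Nat.Prime 5) := ⟨by norm_num⟩
  haveI : Fact (Nat.Prime 2) := ⟨by norm_num⟩
  obtain ⟨P⟩ : Nonempty (Sylow 5 G) := inferInstance
  obtain ⟨hP, hCP, hk1, hk2, hNcard, hn⟩ := Cfsg.Agent.Helper8.P32.sylow_data 5 3 5 (by norm_num)
    (by norm_num) (by rw [hcard]; norm_num) (by rw [hcard]; norm_num) P
  have hmod : Nat.card (Sylow 5 G) % 5 = 1 := card_sylow_modEq_one 5 G
  rw [hcard] at hn
  have hkk : (Subgroup.centralizer ((P : Subgroup G) : Set G)).relIndex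
      (Subgroup.normalizer ((P : Subgroup G) : Set G)) = 4 := by
    set k := (Subgroup.centralizer ((P : Subgroup G) : Set G)).relIndex
      (Subgroup.normalizer ((P : Subgroup G) : Set G)) with hk
    set n := Nat.card (Sylow 5 G) with hnn
    have hk4 : k ∣ 4 := hk1
    have hkle : k ≤ 4 := Nat.le_of_dvd (by norm_num) hk4
    interval_cases k <;> omega
  rw [hkk] at hNcard
  have hN20 : Nat.card (Subgroup.normalizer ((P : Subgroup G) : Set G)) = 20 := by rw [hNcard]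
  have hcent : Subgroup.centralizer ((P : Subgroup G) : Set G) ≤ (P : Subgroup G) := le_of_eq hCP
  have hperf := Cfsg.Agent.Helper5.PrimeTI.commutator_eq_top_of_simple (G := G) hG
  obtain ⟨χ₁, χ₂, χ₃, χ₄, δ₁, δ₂, δ₃, δ₄, hδ₁, hδ₂, hδ₃, hδ₄, h12, h23, h34, hd2, hm₁, hm₂, hm₃,
    hm₄, hrel, hbound, hsum⟩ := Rat5.e4_data (P : Subgroup G) hP hcent hN20 hperf
  -- an inverting involution
  obtain ⟨τ, hττ, hτ1, hτinv⟩ := InvTI.exists_inverting_involution (P : Subgroup G) (p := 5)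
    (by norm_num) (by norm_num) hP hcent (by rw [hN20]; norm_num)
  obtain ⟨x, hxP, hx1⟩ : ∃ x ∈ (P : Subgroup G), x ≠ 1 := by
    have h1 : 1 < Nat.card (P : Subgroup G) := by rw [hP]; norm_num
    haveI : Nontrivial (P : Subgroup G) := Finite.one_lt_card_iff_nontrivial.mp h1
    obtain ⟨y, hy⟩ := exists_ne (1 : (P : Subgroup G))
    exact ⟨y.1, y.2, fun h => hy (Subtype.ext h)⟩
  obtain ⟨hcount, hzero⟩ := InvTI.class_count (P : Subgroup G) (p := 5) (by norm_num)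
    (by norm_num) hP hcent hxP hx1 hττ (hτinv x hxP)
  rw [hcard] at hcount
  -- the degrees
  have hdvd : ∀ (χ : IrrCharacter G) (δ : ℤ), (δ = 1 ∨ δ = -1) →
      ((charDegree (χ : G → ℂ) : ℤ) ≡ δ [ZMOD 5]) →
      charDegree (χ : G → ℂ) ∣ 864 ∧
        (charDegree (χ : G → ℂ) % 5 = 1 ∨ charDegree (χ : G → ℂ) % 5 = 4) ∧
        δ = Rat5.sg (charDegree (χ : G → ℂ)) := by
    intro χ δ hδ hm
    have h1 := charDegree_dvd_card χ.2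
    rw [hcard, show (4320 : ℕ) = 5 * 864 by norm_num] at h1
    unfold Int.ModEq at hm
    rcases hδ with rfl | rfl
    · have h5 : charDegree (χ : G → ℂ) % 5 = 1 := by omega
      exact ⟨Cfsg.Agent.Helper5.PrimeTI.dvd_of_dvd_mul_of_mod (p := 5) (by norm_num) h1 (by omega),
        Or.inl h5, by simp [Rat5.sg, h5]⟩
    · have h5 : charDegree (χ : G → ℂ) % 5 = 4 := by omega
      exact ⟨Cfsg.Agent.Helper5.PrimeTI.dvd_of_dvd_mul_of_mod (p := 5) (by norm_num) h1 (by omega),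
        Or.inr h5, by simp [Rat5.sg, h5]⟩
  obtain ⟨hdv₁, hr₁, hs₁⟩ := hdvd χ₁ δ₁ hδ₁ hm₁
  obtain ⟨hdv₂, hr₂, hs₂⟩ := hdvd χ₂ δ₂ hδ₂ hm₂
  obtain ⟨hdv₃, hr₃, hs₃⟩ := hdvd χ₃ δ₃ hδ₃ hm₃
  obtain ⟨hdv₄, hr₄, hs₄⟩ := hdvd χ₄ δ₄ hδ₄ hm₄
  subst hs₁ hs₂ hs₃ hs₄
  have hχ1₁ : (χ₁ : G → ℂ) 1 = (charDegree (χ₁ : G → ℂ) : ℂ) := irr_one_eq_charDegree χ₁.2
  have hχ1₂ : (χ₂ : G → ℂ) 1 = (charDegree (χ₂ : G → ℂ) : ℂ) := irr_one_eq_charDegree χ₂.2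
  have hχ1₃ : (χ₃ : G → ℂ) 1 = (charDegree (χ₃ : G → ℂ) : ℂ) := irr_one_eq_charDegree χ₃.2
  have hχ1₄ : (χ₄ : G → ℂ) 1 = (charDegree (χ₄ : G → ℂ) : ℂ) := irr_one_eq_charDegree χ₄.2
  have hc1 : Nat.card (Subgroup.centralizer ({1} : Set G)) = 4320 := by
    have : Subgroup.centralizer ({1} : Set G) = ⊤ := by
      ext g
      simp [Subgroup.mem_centralizer_iff]
    rw [this, Subgroup.card_top, hcard]
  generalize hd₁ : charDegree (χ₁ : G → ℂ) = d₁ at *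
  generalize hd₂ : charDegree (χ₂ : G → ℂ) = d₂ at *
  generalize hd₃ : charDegree (χ₃ : G → ℂ) = d₃ at *
  generalize hd₄ : charDegree (χ₄ : G → ℂ) = d₄ at *
  have hsq : 1 + d₁ ^ 2 + d₂ ^ 2 + d₃ ^ 2 + d₄ ^ 2 ≤ 4320 := by
    have := hbound 1 d₁ d₂ d₃ d₄ (by rw [hχ1₁]; simp) (by rw [hχ1₂]; simp) (by rw [hχ1₃]; simp)
      (by rw [hχ1₄]; simp)
    rw [hc1] at this
    exact_mod_cast this
  have hl₁ : d₁ < 66 := by nlinarith
  have hl₂ : d₂ < 66 := by nlinarith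
  have hl₃ : d₃ < 66 := by nlinarith
  have hl₄ : d₄ < 66 := by nlinarith
  have hL₁ := Rat5.deg_list d₁ hl₁ hdv₁ hr₁ hd2
  have hL₂ := Rat5.deg_list d₂ hl₂ hdv₂ hr₂ (by omega)
  have hL₃ := Rat5.deg_list d₃ hl₃ hdv₃ hr₃ (by omega)
  have hL₄ := Rat5.deg_list d₄ hl₄ hdv₄ hr₄ (by omega)
  have hrel' : 1 + Rat5.sg d₁ * (d₁ : ℤ) + Rat5.sg d₂ * (d₂ : ℤ) + Rat5.sg d₃ * (d₃ : ℤ) +
      Rat5.sg d₄ * (d₄ : ℤ) = 0 := hrel
  have hpat := Rat5.deg_pattern d₁ hL₁ d₂ hL₂ d₃ hL₃ d₄ hL₄ h12 h23 h34 hrel' hsq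
  -- the data of an involution
  have hxs : ∀ s : G, s * s = 1 → ¬ IsConj x s := by
    intro s hs hc
    obtain ⟨c, hc⟩ := isConj_iff.mp hc
    have hx2 : x * x = 1 := by
      have : c * (x * x) * c⁻¹ = 1 := by
        calc c * (x * x) * c⁻¹ = (c * x * c⁻¹) * (c * x * c⁻¹) := by group
          _ = 1 := by rw [hc, hs]
      calc x * x = c⁻¹ * (c * (x * x) * c⁻¹) * c := by group
        _ = 1 := by rw [this]; group
    have := InvTI.no_conj_of_involution (P : Subgroup G) (p := 5) (by norm_num) (by norm_num) hP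
      hx2 1 (by simpa using hxP)
    apply hx1
    simpa using this
  have key : ∀ s : G, s * s = 1 → ∃ j₁ j₂ j₃ j₄ : ℕ, j₁ ≤ d₁ ∧ j₂ ≤ d₂ ∧ j₃ ≤ d₃ ∧ j₄ ≤ d₄ ∧
      (χ₁ : G → ℂ) s = ((Rat5.cv d₁ j₁ : ℤ) : ℂ) ∧ (χ₂ : G → ℂ) s = ((Rat5.cv d₂ j₂ : ℤ) : ℂ) ∧
      (χ₃ : G → ℂ) s = ((Rat5.cv d₃ j₃ : ℤ) : ℂ) ∧ (χ₄ : G → ℂ) s = ((Rat5.cv d₄ j₄ : ℤ) : ℂ) ∧
      Rat5.relv d₁ d₂ d₃ d₄ j₁ j₂ j₃ j₄ = 0 ∧
      ∑ χ : IrrCharacter G, (χ : G → ℂ) s ^ 2 * (starRingEnd ℂ) ((χ : G → ℂ) x) / (χ : G → ℂ) 1 =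
        1 + ((Rat5.cv d₁ j₁ : ℤ) : ℂ) ^ 2 / (d₁ : ℂ) * (Rat5.sg d₁ : ℤ) +
          ((Rat5.cv d₂ j₂ : ℤ) : ℂ) ^ 2 / (d₂ : ℂ) * (Rat5.sg d₂ : ℤ) +
          ((Rat5.cv d₃ j₃ : ℤ) : ℂ) ^ 2 / (d₃ : ℂ) * (Rat5.sg d₃ : ℤ) +
          ((Rat5.cv d₄ j₄ : ℤ) : ℂ) ^ 2 / (d₄ : ℂ) * (Rat5.sg d₄ : ℤ) := by
    intro s hs
    obtain ⟨j₁, hj₁, hv₁⟩ := InvTI.char_involution (isCharacter_of_isIrrCharacter χ₁.2) hs
    obtain ⟨j₂, hj₂, hv₂⟩ := InvTI.char_involution (isCharacter_of_isIrrCharacter χ₂.2) hs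
    obtain ⟨j₃, hj₃, hv₃⟩ := InvTI.char_involution (isCharacter_of_isIrrCharacter χ₃.2) hs
    obtain ⟨j₄, hj₄, hv₄⟩ := InvTI.char_involution (isCharacter_of_isIrrCharacter χ₄.2) hs
    rw [hd₁] at hj₁ hv₁
    rw [hd₂] at hj₂ hv₂
    rw [hd₃] at hj₃ hv₃
    rw [hd₄] at hj₄ hv₄
    have hc₁ : (χ₁ : G → ℂ) s = ((Rat5.cv d₁ j₁ : ℤ) : ℂ) := by rw [hv₁]; simp [Rat5.cv]
    have hc₂ : (χ₂ : G → ℂ) s = ((Rat5.cv d₂ j₂ : ℤ) : ℂ) := by rw [hv₂]; simp [Rat5.cv]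
    have hc₃ : (χ₃ : G → ℂ) s = ((Rat5.cv d₃ j₃ : ℤ) : ℂ) := by rw [hv₃]; simp [Rat5.cv]
    have hc₄ : (χ₄ : G → ℂ) s = ((Rat5.cv d₄ j₄ : ℤ) : ℂ) := by rw [hv₄]; simp [Rat5.cv]
    refine ⟨j₁, j₂, j₃, j₄, hj₁, hj₂, hj₃, hj₄, hc₁, hc₂, hc₃, hc₄, ?_, ?_⟩
    · have h := second_orthogonality' s x
      rw [if_neg (hxs s hs), hsum (fun χ => (χ : G → ℂ) s) x hxP hx1, hc₁, hc₂, hc₃, hc₄] at h
      unfold Rat5.relv
      have h2 : ((1 + Rat5.sg d₁ * Rat5.cv d₁ j₁ + Rat5.sg d₂ * Rat5.cv d₂ j₂ +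
          Rat5.sg d₃ * Rat5.cv d₃ j₃ + Rat5.sg d₄ * Rat5.cv d₄ j₄ : ℤ) : ℂ) = ((0 : ℤ) : ℂ) := by
        push_cast
        rw [← h]
        simp only [principalChar]
        ring
      exact Int.cast_injective h2
    · have h := hsum (fun χ => (χ : G → ℂ) s ^ 2 / (χ : G → ℂ) 1) x hxP hx1
      rw [Finset.sum_congr rfl (fun χ _ => mul_div_right_comm _ _ _), h, hc₁, hc₂, hc₃, hc₄,
        hχ1₁, hχ1₂, hχ1₃, hχ1₄]
      simp only [principalChar]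
      norm_num
  -- the involution `τ`
  obtain ⟨j₁, j₂, j₃, j₄, hj₁, hj₂, hj₃, hj₄, hc₁, hc₂, hc₃, hc₄, hrelτ, hSigt⟩ := key τ hττ
  have hmdvd : Nat.card (Subgroup.centralizer ({τ} : Set G)) ∣ 4320 := by
    rw [← hcard]; exact Subgroup.card_subgroup_dvd_card _
  generalize hmdef : Nat.card (Subgroup.centralizer ({τ} : Set G)) = m at *
  have hmL := Rat5.mem_L4320 hmdvd
  have hB : Rat5.Bv d₁ d₂ d₃ d₄ j₁ j₂ j₃ j₄ ≤ (m : ℤ) := by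
    have := hbound τ _ _ _ _ hc₁ hc₂ hc₃ hc₄
    rw [hmdef] at this
    exact this
  have hT : (m : ℤ) ^ 2 = Rat5.Tv d₁ d₂ d₃ d₄ j₁ j₂ j₃ j₄ := by
    rw [hSigt] at hcount
    have h5 : ((5 : ℕ) : ℂ) = 5 := by norm_num
    have h4320 : ((4320 : ℕ) : ℂ) = 4320 := by norm_num
    rw [h5, h4320] at hcount
    have := Rat5.T_of_sum hdv₁ hdv₂ hdv₃ hdv₄ hcount
    unfold Rat5.Tv
    exact this
  rcases hpat with ⟨rfl, rfl, rfl, rfl⟩ | ⟨rfl, rfl, rfl, rfl⟩ | ⟨rfl, rfl, rfl, rfl⟩ |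
    ⟨rfl, rfl, rfl, rfl⟩
  · exact Rat5.no_t_A j₁ (by omega) j₂ (by omega) j₃ (by omega) j₄ (by omega) hrelτ m hmL hB hT
  · -- all involutions are conjugate
    have hall : ∀ s : G, s * s = 1 → s ≠ 1 → IsConj s τ := by
      intro s hs hs1
      by_contra hnc
      obtain ⟨i₁, i₂, i₃, i₄, hi₁, hi₂, hi₃, hi₄, he₁, he₂, he₃, he₄, hrels, hSigs⟩ := key s hs
      have h0 := hzero s hs hnc
      rw [hSigs] at h0
      have hT0 := Rat5.T_of_sum (m := 0) hdv₁ hdv₂ hdv₃ hdv₄ (by rw [h0]; simp)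
      have hT0' : 0 = Rat5.Tv 4 6 6 9 i₁ i₂ i₃ i₄ := by
        unfold Rat5.Tv
        simpa using hT0
      have hz := Rat5.z_B i₁ (by omega) i₂ (by omega) i₃ (by omega) i₄ (by omega) hrels hT0'
      rw [hz] at he₁
      have : (χ₁ : G → ℂ) s = (χ₁ : G → ℂ) 1 := by
        rw [he₁, hχ1₁]; simp [Rat5.cv]
      exact hs1 (InvTI.eq_one_of_char_eq χ₁.2 (by rw [hd₁]; norm_num) this)
    obtain ⟨S⟩ : Nonempty (Sylow 2 G) := inferInstance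
    have hf : (4320 : ℕ).factorization 2 = 5 := by
      have h : (4320 : ℕ) = 2 ^ 5 * 135 := by norm_num
      rw [h, Nat.factorization_mul (by norm_num) (by norm_num),
        Nat.Prime.factorization_pow (by norm_num)]
      simp
      rw [Nat.factorization_eq_zero_of_not_dvd (by norm_num)]
    have hS : Nat.card (S : Subgroup G) = 32 := by
      rw [S.card_eq_multiplicity, hcard, hf]; norm_num
    obtain ⟨z, hzz, hz1, hSz⟩ := InvTI.exists_central_involution (by rw [hcard]; norm_num) S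
    have hzc := InvTI.card_centralizer_of_isConj (hall z hzz hz1)
    have h32 : 32 ∣ m := by
      rw [← hmdef, ← hzc, ← hS]
      exact Subgroup.card_dvd_of_le hSz
    rcases Rat5.t_B j₁ (by omega) j₂ (by omega) j₃ (by omega) j₄ (by omega) hrelτ m hmL hB hT
      with h | h <;> omega
  · exact Rat5.no_t_C j₁ (by omega) j₂ (by omega) j₃ (by omega) j₄ (by omega) hrelτ m hmL hB hT
  · exact Rat5.no_t_D j₁ (by omega) j₂ (by omega) j₃ (by omega) j₄ (by omega) hrelτ m hmL hB hT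

end Cfsg.Agent.S0977
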