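import Mathlib
import Cfsg.Statements.S0979
import Cfsg.Agent.Lib.Helper5.PrimeTIi

set_option autoImplicit false
open Cfsg

namespace Cfsg.Agent.S0979

theorem num1 : ∀ n < 289, n ∣ 288 → n % 19 = 1 → n = 1 ∨ n = 96 := by
  decide +kernel

theorem num2 : ∀ n < 289, n ∣ 288 → n % 19 = 18 → n = 18 := by
  decide +kernel

theorem num3 : ∀ n < 289, n ∣ 288 → n % 19 = 3 → n = 3 ∨ n = 288 := by
  decide +kernel

theorem num4 : ∀ n < 289, n ∣ 288 → n % 19 = 16 → n = 16 := by
  decide +kernel

theorem numN {n : ℕ} {a : ℤ} (ha : a = 1 ∨ a = -1) (hn : n ∣ 19 * 288) (hn2 : 2 ≤ n)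
    (hmod : (n : ℤ) % 19 = a % 19) : (n : ℤ) * a = 96 ∨ (n : ℤ) * a = -18 := by
  have hn' : n ∣ 288 :=
    Cfsg.Agent.Helper5.PrimeTI.dvd_of_dvd_mul_of_mod (p := 19) (by norm_num) hn
      (by rcases ha with rfl | rfl <;> omega)
  have hn'le : n ≤ 288 := Nat.le_of_dvd (by norm_num) hn'
  rcases ha with rfl | rfl
  · have h1 : n % 19 = 1 := by omega
    rcases num1 n (by omega) hn' h1 with h | h
    · omega
    · left; omega
  · have h1 : n % 19 = 18 := by omega
    have := num2 n (by omega) hn' h1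
    right; omega

theorem numD {d : ℕ} {ε : ℤ} (hε : ε = 1 ∨ ε = -1) (hd : d ∣ 19 * 288)
    (hmod : (d : ℤ) % 19 = 3 * ε % 19) :
    (d : ℤ) * ε = 3 ∨ (d : ℤ) * ε = 288 ∨ (d : ℤ) * ε = -16 := by
  have hd' : d ∣ 288 :=
    Cfsg.Agent.Helper5.PrimeTI.dvd_of_dvd_mul_of_mod (p := 19) (by norm_num) hd
      (by rcases hε with rfl | rfl <;> omega)
  have hd'le : d ≤ 288 := Nat.le_of_dvd (by norm_num) hd'
  rcases hε with rfl | rfl
  · have h1 : d % 19 = 3 := by omega
    rcases num3 d (by omega) hd' h1 with h | h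
    · left; omega
    · right; left; omega
  · have h1 : d % 19 = 16 := by omega
    have := num4 d (by omega) hd' h1
    right; right; omega

/-- No finite simple group has order 5472 = 2^5 * 3^2 * 19. -/
theorem result {G : Type*} [Group G] [Finite G] [IsSimpleGroup G] : Nat.card G ≠ 5472 := by
  intro hcard
  classical
  haveI : Fintype G := Fintype.ofFinite G
  have hG : ∃ x y : G, x * y ≠ y * x :=
    Cfsg.Agent.Lead.nonabelian_of_not_prime (by rw [hcard]; norm_num)
  haveI : Fact (Nat.Prime 19) := ⟨by norm_num⟩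
  have hf : (5472 : ℕ).factorization 19 = 1 := by
    have h : (5472 : ℕ) = 19 ^ 1 * 288 := by norm_num
    rw [h, Nat.factorization_mul (by norm_num) (by norm_num),
      Nat.Prime.factorization_pow (by norm_num)]
    simp
    rw [Nat.factorization_eq_zero_of_not_dvd (by norm_num)]
  obtain ⟨P⟩ : Nonempty (Sylow 19 G) := inferInstance
  have hP : Nat.card (P : Subgroup G) = 19 := by
    rw [P.card_eq_multiplicity, hcard, hf]; norm_num
  set N := Subgroup.normalizer ((P : Subgroup G) : Set G) with hN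
  have hpd : 19 ∣ Nat.card G := by rw [hcard]; norm_num
  have hidx : N.index = 96 := by
    have hdvd : Nat.card (Sylow 19 G) ∣ (P : Subgroup G).index := P.card_dvd_index
    have hPidx : (P : Subgroup G).index = 288 := by
      have := Subgroup.card_mul_index (P : Subgroup G)
      rw [hP, hcard] at this
      omega
    rw [hPidx] at hdvd
    have hmod : Nat.card (Sylow 19 G) % 19 = 1 := card_sylow_modEq_one 19 G
    have hnidx : Nat.card (Sylow 19 G) = N.index := P.card_eq_index_normalizer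
    rw [← hnidx]
    set n := Nat.card (Sylow 19 G) with hn
    have hle : n ≤ 288 := Nat.le_of_dvd (by norm_num) hdvd
    rcases num1 n (by omega) hdvd hmod with h | h
    · exfalso
      apply Cfsg.Agent.Lead.sylow_normalizer_ne_top hG hpd P
      rw [← hN]
      apply Subgroup.index_eq_one.1
      rw [← hnidx, h]
    · exact h
  have hNcard : Nat.card N = 19 * 3 := by
    have := Subgroup.card_mul_index N
    rw [hidx, hcard] at this
    omega
  obtain ⟨hcent, hidx2⟩ := Cfsg.Agent.Helper5.PrimeTI.setup hG P hP hNcard (by norm_num)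
  have hperf := Cfsg.Agent.Helper5.PrimeTI.commutator_eq_top_of_simple (G := G) hG
  obtain ⟨n₁, n₂, d, a₁, a₂, ε, ha₁, ha₂, hε, hn₁, hn₂, hd, hn₁2, hn₂2, hn₁mod, hn₂mod, hdmod,
      hrel⟩ :=
    Cfsg.Agent.Helper5.PrimeTI.main_e3 (P : Subgroup G) (p := 19) (t := 6) (by norm_num) hP hcent
      hidx2 (by norm_num) (by norm_num) hperf
  rw [hcard] at hn₁ hn₂ hd
  unfold Int.ModEq at hn₁mod hn₂mod hdmod
  push_cast at hn₁mod hn₂mod hdmod
  have hn19 : (5472 : ℕ) = 19 * 288 := by norm_num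
  rw [hn19] at hn₁ hn₂ hd
  have h1 := numN ha₁ hn₁ hn₁2 hn₁mod
  have h2 := numN ha₂ hn₂ hn₂2 hn₂mod
  have h3 := numD hε hd hdmod
  rcases h1 with h1 | h1 <;> rcases h2 with h2 | h2 <;> rcases h3 with h3 | h3 | h3 <;> omega

end Cfsg.Agent.S0979
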