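import Mathlib
import Cfsg.Agent.Lib.Helper8.P32
import Cfsg.Agent.Lib.Helper8.InvTI3
import Cfsg.Agent.Lib.Helper8.InvTI4
import Cfsg.Agent.Lib.Helper8.SqArith
import Cfsg.Agent.Lib.Helper5.PrimeTIi
import Cfsg.Statements.S0980
-- import your own Cfsg.Agent.* helpers here

set_option autoImplicit false
open Cfsg

namespace Cfsg.Agent.S0980

theorem num1 : ∀ n < 1153, n ∣ 1152 → (n + 1) ∣ 1152 → n % 5 = 1 → 2 ≤ n → False := by
  decide +kernel

theorem num2 : ∀ d < 1153, d ∣ 1152 → (d + 1) ∣ 1152 → d % 5 = 3 → d = 3 ∨ d = 8 := by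
  decide +kernel

/-- No finite simple group has order 5760 = 2^7 * 3^2 * 5. -/
theorem result {G : Type*} [Group G] [Finite G] [IsSimpleGroup G] : Nat.card G ≠ 5760 := by
  intro hcard
  classical
  haveI : Fintype G := Fintype.ofFinite G
  letI : Fintype (IrrCharacter G) := Cfsg.Agent.Helper24.irrFintype
  have hG : ∃ x y : G, x * y ≠ y * x :=
    Cfsg.Agent.Lead.nonabelian_of_not_prime (by rw [hcard]; norm_num)
  haveI : Fact (Nat.Prime 5) := ⟨by norm_num⟩
  haveI : Fact (Nat.Prime 2) := ⟨by norm_num⟩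
  obtain ⟨P⟩ : Nonempty (Sylow 5 G) := inferInstance
  obtain ⟨hP, -, hk1, hk2, hNcard, hn⟩ := Cfsg.Agent.Helper8.P32.sylow_data 5 2 7 (by norm_num)
    (by norm_num) (by rw [hcard]; norm_num) (by rw [hcard]; norm_num) P
  have hmod : Nat.card (Sylow 5 G) % 5 = 1 := card_sylow_modEq_one 5 G
  rw [hcard] at hn
  have hkk : (Subgroup.centralizer ((P : Subgroup G) : Set G)).relIndex
      (Subgroup.normalizer ((P : Subgroup G) : Set G)) = 2 := by
    set k := (Subgroup.centralizer ((P : Subgroup G) : Set G)).relIndex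
      (Subgroup.normalizer ((P : Subgroup G) : Set G)) with hk
    set n := Nat.card (Sylow 5 G) with hnn
    have hk4 : k ∣ 4 := hk1
    have hkle : k ≤ 4 := Nat.le_of_dvd (by norm_num) hk4
    interval_cases k <;> omega
  rw [hkk] at hNcard
  obtain ⟨hcent, hidx2⟩ := Cfsg.Agent.Helper5.PrimeTI.setup hG P hP hNcard (by norm_num)
  obtain ⟨n, d, a₀, ε, ha₀, hε, hn2, hnd, hdd, hdpos, hnmod, hdmod, hrel, τ, j, hττ, hτ1, hj,
      hmain, hall⟩ :=
    Cfsg.Agent.Helper8.InvTI.e2_main hG (P : Subgroup G) (p := 5) (t := 2) (by norm_num) hP hcent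
      hidx2 (by norm_num) (by norm_num)
  -- a 2-central involution
  obtain ⟨S⟩ : Nonempty (Sylow 2 G) := inferInstance
  have hf : (5760 : ℕ).factorization 2 = 7 := by
    have h : (5760 : ℕ) = 2 ^ 7 * 45 := by norm_num
    rw [h, Nat.factorization_mul (by norm_num) (by norm_num),
      Nat.Prime.factorization_pow (by norm_num)]
    simp
    rw [Nat.factorization_eq_zero_of_not_dvd (by norm_num)]
  have hS : Nat.card (S : Subgroup G) = 128 := by
    rw [S.card_eq_multiplicity, hcard, hf]; norm_num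
  obtain ⟨z, hzz, hz1, hSz⟩ := Cfsg.Agent.Helper8.InvTI.exists_central_involution
    (by rw [hcard]; norm_num) S
  have hzc := Cfsg.Agent.Helper8.InvTI.card_centralizer_of_isConj (hall z hzz hz1)
  have h128 : 128 ∣ Nat.card (Subgroup.centralizer ({τ} : Set G)) := by
    rw [← hzc, ← hS]
    exact Subgroup.card_dvd_of_le hSz
  rw [hcard] at hnd hdd hmain
  unfold Int.ModEq at hnmod hdmod
  push_cast at hnmod hdmod
  have h5760 : (5760 : ℕ) = 5 * 1152 := by norm_num
  rw [h5760] at hnd hdd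
  set m := Nat.card (Subgroup.centralizer ({τ} : Set G)) with hm
  have hmpos : 0 < m := Nat.card_pos
  have hn' : n ∣ 1152 := by
    rcases ha₀ with rfl | rfl
    · exact Cfsg.Agent.Helper5.PrimeTI.dvd_of_dvd_mul_of_mod (p := 5) (by norm_num) hnd (by omega)
    · exact Cfsg.Agent.Helper5.PrimeTI.dvd_of_dvd_mul_of_mod (p := 5) (by norm_num) hnd (by omega)
  have hd' : d ∣ 1152 := by
    rcases hε with rfl | rfl
    · exact Cfsg.Agent.Helper5.PrimeTI.dvd_of_dvd_mul_of_mod (p := 5) (by norm_num) hdd (by omega)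
    · exact Cfsg.Agent.Helper5.PrimeTI.dvd_of_dvd_mul_of_mod (p := 5) (by norm_num) hdd (by omega)
  have hn'le : n ≤ 1152 := Nat.le_of_dvd (by norm_num) hn'
  have hd'le : d ≤ 1152 := Nat.le_of_dvd (by norm_num) hd'
  rcases ha₀ with rfl | rfl <;> rcases hε with rfl | rfl
  · have hdn : d = n + 1 := by omega
    rw [hdn] at hd'
    exact num1 n (by omega) hn' hd' (by omega) hn2
  · omega
  · omega
  · have hnd' : n = d + 1 := by omega
    rw [hnd'] at hn'
    rcases num2 d (by omega) hd' hn' (by omega) with h3 | h8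
    · rw [hnd', h3] at hmain
      push_cast at hmain
      have h1 : m * m = (2 * 3) * ((8 * j) * (8 * j)) := by
        have : (m : ℤ) * m = (2 * 3) * ((8 * j) * (8 * j)) := by nlinarith
        exact_mod_cast this
      have := Cfsg.Agent.Helper8.SqArith.eq_zero_of_sq_eq_mul_sq Nat.prime_two (by norm_num)
        m (8 * j) h1
      omega
    · rw [hnd', h8] at hmain
      push_cast at hmain
      have h1 : m ^ 2 = (8 * j) ^ 2 := by
        have : (m : ℤ) ^ 2 = (8 * j) ^ 2 := by nlinarith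
        exact_mod_cast this
      have h2 : m = 8 * j := Nat.pow_left_injective (by norm_num : (2 : ℕ) ≠ 0) h1
      have h3 : j ≤ 9 := by omega
      obtain ⟨q, hq⟩ := h128
      omega

end Cfsg.Agent.S0980
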