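import Mathlib
import Cfsg.Agent.Lib.Helper8.InvTI5
import Cfsg.Agent.Lib.Helper8.InvTI4
import Cfsg.Agent.Lib.Helper8.PSL16a
import Cfsg.Agent.Lib.Helper5.PrimeTIi
import Cfsg.Agent.Lib.Lead.SimpleTools
import Cfsg.Agent.Lib.Lead.SylowTools
import Cfsg.Agent.Lib.Helper2.PSLMapEquiv
import Cfsg.Agent.S1230
import Cfsg.Statements.S0981
-- import your own Cfsg.Agent.* helpers here

set_option autoImplicit false
open Cfsg

namespace Cfsg.Agent.S0981

theorem num1 : ∀ n < 241, n ∣ 240 → (n + 1) ∣ 240 → n % 17 = 1 → 2 ≤ n → False := by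
  decide +kernel

theorem num2 : ∀ d < 241, d ∣ 240 → (d + 1) ∣ 240 → d % 17 = 15 → d = 15 := by
  decide +kernel

theorem num3 : ∀ n < 241, n ∣ 240 → n % 17 = 1 → n = 1 ∨ n = 120 := by
  decide +kernel

/-- elements of exponent two commute -/
theorem comm_of_sq {X : Type*} [Group X] (h : ∀ x : X, x ^ 2 = 1) (a b : X) : a * b = b * a := by
  have ha : a⁻¹ = a := by
    have := h a
    rw [pow_two] at this
    exact inv_eq_of_mul_eq_one_left this
  have hb : b⁻¹ = b := by
    have := h b
    rw [pow_two] at this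
    exact inv_eq_of_mul_eq_one_left this
  have hab : (a * b)⁻¹ = a * b := by
    have := h (a * b)
    rw [pow_two] at this
    exact inv_eq_of_mul_eq_one_left this
  rw [mul_inv_rev, ha, hb] at hab
  exact hab.symm

set_option maxHeartbeats 1600000 in
/-- the structure of a simple group of order 4080: every element of 2-power order is an involution -/
theorem sq_eq_one {G : Type*} [Group G] [Finite G] [IsSimpleGroup G] (h : Nat.card G = 4080) :
    (∀ g : G, g ^ 16 = 1 → g ^ 2 = 1) ∧
      ∀ t : G, orderOf t = 2 → Nat.card (Subgroup.centralizer ({t} : Set G)) = 16 := by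
  classical
  haveI : Fintype G := Fintype.ofFinite G
  letI : Fintype (IrrCharacter G) := Cfsg.Agent.Helper24.irrFintype
  have hG : ∃ x y : G, x * y ≠ y * x :=
    Cfsg.Agent.Lead.nonabelian_of_not_prime (by rw [h]; norm_num)
  haveI : Fact (Nat.Prime 17) := ⟨by norm_num⟩
  obtain ⟨P⟩ : Nonempty (Sylow 17 G) := inferInstance
  obtain ⟨hPc, hdvd, hmod⟩ := Cfsg.Agent.Lead.sylow_facts (G := G) (p := 17) (k := 1) (m := 240)
    (by rw [h]; norm_num) (by norm_num)
  have hP : Nat.card (P : Subgroup G) = 17 := by simpa using hPc P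
  have hnN := Cfsg.Agent.Lead.card_sylow_mul_card_normalizer P
  have hn1 : Nat.card (Sylow 17 G) ≠ 1 := by
    rw [P.card_eq_index_normalizer]
    intro h1
    exact Cfsg.Agent.Lead.sylow_normalizer_ne_top hG (by rw [h]; norm_num) P
      (Subgroup.index_eq_one.mp h1)
  have hn : Nat.card (Sylow 17 G) = 120 := by
    have hle : Nat.card (Sylow 17 G) ≤ 240 := Nat.le_of_dvd (by norm_num) hdvd
    rcases num3 _ (by omega) hdvd hmod with h1 | h1
    · exact absurd h1 hn1
    · exact h1
  have hNcard : Nat.card (Subgroup.normalizer ((P : Subgroup G) : Set G)) = 17 * 2 := by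
    rw [hn, h] at hnN
    omega
  obtain ⟨hcent, hidx2⟩ := Cfsg.Agent.Helper5.PrimeTI.setup hG P hP hNcard Nat.prime_two
  obtain ⟨E, X, n, d, a₀, ε, ha₀, hε, hXn, hn2, hnd, hdd, hdpos, hnmod, hdmod, hrel, hEcard, hXE,
      hXne, hEone, hEdeg, hEval, hRest, τ, j, hττ, hτ1, hj, hXτ, hmain, hall⟩ :=
    Cfsg.Agent.Helper8.InvTI.e2_main_full hG (P : Subgroup G) (p := 17) (t := 8) (by norm_num) hP
      hcent hidx2 (by norm_num) (by norm_num)
  rw [h] at hnd hdd hmain
  unfold Int.ModEq at hnmod hdmod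
  push_cast at hnmod hdmod
  have h4080 : (4080 : ℕ) = 17 * 240 := by norm_num
  rw [h4080] at hnd hdd
  set m := Nat.card (Subgroup.centralizer ({τ} : Set G)) with hm
  have hmpos : 0 < m := Nat.card_pos
  have hn' : n ∣ 240 := by
    rcases ha₀ with rfl | rfl
    · exact Cfsg.Agent.Helper5.PrimeTI.dvd_of_dvd_mul_of_mod (p := 17) (by norm_num) hnd (by omega)
    · exact Cfsg.Agent.Helper5.PrimeTI.dvd_of_dvd_mul_of_mod (p := 17) (by norm_num) hnd (by omega)
  have hd' : d ∣ 240 := by
    rcases hε with rfl | rfl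
    · exact Cfsg.Agent.Helper5.PrimeTI.dvd_of_dvd_mul_of_mod (p := 17) (by norm_num) hdd (by omega)
    · exact Cfsg.Agent.Helper5.PrimeTI.dvd_of_dvd_mul_of_mod (p := 17) (by norm_num) hdd (by omega)
  have hn'le : n ≤ 240 := Nat.le_of_dvd (by norm_num) hn'
  have hd'le : d ≤ 240 := Nat.le_of_dvd (by norm_num) hd'
  -- the degrees
  have hdata : n = 16 ∧ d = 15 ∧ a₀ = -1 ∧ ε = -1 := by
    rcases ha₀ with rfl | rfl <;> rcases hε with rfl | rfl
    · exfalso
      have hdn : d = n + 1 := by omega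
      rw [hdn] at hd'
      exact num1 n (by omega) hn' hd' (by omega) hn2
    · omega
    · omega
    · have hnd' : n = d + 1 := by omega
      rw [hnd'] at hn'
      have hd15 := num2 d (by omega) hd' hn' (by omega)
      omega
  obtain ⟨rfl, rfl, rfl, rfl⟩ := hdata
  -- the centralizer of the involution
  have hm2j : m = 2 * j := by
    push_cast at hmain
    have h1 : (m : ℤ) ^ 2 = (2 * j) ^ 2 := by nlinarith
    have h2 : (m : ℤ) = 2 * j := by
      have hm0 : (0 : ℤ) ≤ m := by positivity
      have hj0 : (0 : ℤ) ≤ 2 * j := by positivity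
      nlinarith
    exact_mod_cast h2
  haveI : Fact (Nat.Prime 2) := ⟨Nat.prime_two⟩
  obtain ⟨S⟩ : Nonempty (Sylow 2 G) := inferInstance
  obtain ⟨hSc, -, -⟩ := Cfsg.Agent.Lead.sylow_facts (G := G) (p := 2) (k := 4) (m := 255)
    (by rw [h]; norm_num) (by norm_num)
  obtain ⟨z, hzz, hz1, hSz⟩ := Cfsg.Agent.Helper8.InvTI.exists_central_involution
    (by rw [h]; norm_num) S
  have hzm : Nat.card (Subgroup.centralizer ({z} : Set G)) = m :=
    Cfsg.Agent.Helper8.InvTI.card_centralizer_of_isConj (hall z hzz hz1)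
  have h16m : 16 ∣ m := by
    rw [← hzm]
    have := Subgroup.card_dvd_of_le hSz
    rw [hSc S] at this
    simpa using this
  have hmG : m ∣ 4080 := by
    rw [← h]
    exact Subgroup.card_subgroup_dvd_card _
  have hm16 : m = 16 := by
    have hm32 : m ≤ 32 := by omega
    obtain ⟨k, hk⟩ := h16m
    have : k = 1 ∨ k = 2 := by omega
    rcases this with rfl | rfl
    · omega
    · exfalso
      rw [hk] at hmG
      norm_num at hmG
  have hj8 : j = 8 := by omega
  have hXτ0 : (X : G → ℂ) τ = 0 := by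
    rw [hXτ, hj8]
    norm_num
  -- no square roots of involutions
  have hnsτ : ∀ g : G, g * g ≠ τ := by
    refine Cfsg.Agent.Helper8.PSL16.no_sqrt h E X hEcard hXE hXne hEone hXn hEdeg ?_ ?_ τ hττ hτ1
      hXτ0 hm16 hall
    · intro ψ hψ s hs
      rw [hEval ψ hψ s hs]
      push_cast
      ring
    · intro ψ hψ hψX hψ1
      have := hRest ψ hψ hψX hψ1
      exact_mod_cast this
  have hns : ∀ u : G, u * u = 1 → u ≠ 1 → ∀ g : G, g * g ≠ u := by
    intro u hu hu1 g hg
    obtain ⟨c, hc⟩ := isConj_iff.mp (hall u hu hu1)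
    apply hnsτ (c * g * c⁻¹)
    rw [← hc, ← hg]
    group
  refine ⟨Cfsg.Agent.Helper8.PSL16.sq_eq_one_of_pow hns, ?_⟩
  intro t ht
  have htt : t * t = 1 := by
    rw [← pow_two, ← ht]
    exact pow_orderOf_eq_one t
  have ht1 : t ≠ 1 := by
    intro h1
    rw [h1, orderOf_one] at ht
    omega
  rw [Cfsg.Agent.Helper8.InvTI.card_centralizer_of_isConj (hall t htt ht1)]
  exact hm16

/-- A simple group of order 4080 is isomorphic to the projective special linear group of dimension 2 over the field with 16 elements. -/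
theorem result {G : Type*} [Group G] [Finite G] [IsSimpleGroup G] (h : Nat.card G = 4080) {F : Type*} [Field F] [Fintype F] (hF : Fintype.card F = 16) : Nonempty (G ≃* Matrix.ProjectiveSpecialLinearGroup (Fin 2) F) := by
  classical
  obtain ⟨hsq, hcent⟩ := sq_eq_one h
  haveI : Fact (Nat.Prime 2) := ⟨Nat.prime_two⟩
  obtain ⟨T⟩ : Nonempty (Sylow 2 G) := inferInstance
  obtain ⟨hSc, -, -⟩ := Cfsg.Agent.Lead.sylow_facts (G := G) (p := 2) (k := 4) (m := 255)
    (by rw [h]; norm_num) (by norm_num)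
  have hT16 : Nat.card (T : Subgroup G) = 16 := by
    rw [hSc T]; norm_num
  have hnc : ¬ IsCyclic (T : Subgroup G) := by
    intro hcyc
    obtain ⟨g, hg⟩ := IsCyclic.exists_ofOrder_eq_natCard (α := (T : Subgroup G))
    rw [hT16] at hg
    have h16 : (g : G) ^ 16 = 1 := by
      have := pow_orderOf_eq_one g
      rw [hg] at this
      have h2 := congrArg (fun w : ↥(T : Subgroup G) => (w : G)) this
      simpa using h2
    have h3 : g ^ 2 = 1 := by
      apply Subtype.ext
      exact_mod_cast hsq (g : G) h16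
    have := orderOf_dvd_of_pow_eq_one h3
    rw [hg] at this
    norm_num at this
  have hnn : ¬ (T : Subgroup G).Normal := by
    intro hn
    rcases hn.eq_bot_or_eq_top with hb | ht
    · rw [hb] at hT16; simp at hT16
    · rw [ht, Subgroup.card_top, h] at hT16; norm_num at hT16
  have hC : ∀ t : G, orderOf t = 2 →
      IsMulCommutative (Subgroup.centralizer ({t} : Set G)) ∧
        ∀ c ∈ Subgroup.centralizer ({t} : Set G), c ^ 2 = 1 := by
    intro t ht
    have hc16 := hcent t ht
    have hsq' : ∀ c ∈ Subgroup.centralizer ({t} : Set G), c ^ 2 = 1 := by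
      intro c hc
      apply hsq
      have := pow_card_eq_one' (G := Subgroup.centralizer ({t} : Set G)) (x := ⟨c, hc⟩)
      rw [hc16] at this
      have h2 := congrArg (fun w : ↥(Subgroup.centralizer ({t} : Set G)) => (w : G)) this
      simpa using h2
    refine ⟨⟨⟨fun a b => ?_⟩⟩, hsq'⟩
    apply comm_of_sq
    intro x
    apply Subtype.ext
    exact_mod_cast hsq' x x.2
  obtain ⟨F', instF, instFin, hF', ⟨e⟩⟩ := Cfsg.Agent.S1230.result T hnc hnn hC
  have hcard : Fintype.card F' = Fintype.card F := by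
    rw [hF', hF]; exact hT16
  exact ⟨e.trans (Cfsg.Agent.Helper2.pslMapEquiv (FiniteField.ringEquivOfCardEq hcard))⟩

end Cfsg.Agent.S0981
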