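import Mathlib
import Cfsg.Statements.S0983
import Cfsg.Agent.Lib.Helper3.SmallOrd
import Cfsg.Agent.Lib.Helper10.Ord83Cls
import Cfsg.Agent.Lib.Helper10.Ord83BR
import Cfsg.Agent.Lib.Helper10.Ord83Six
import Cfsg.Agent.Lib.Helper10.Ord83Sieve
import Cfsg.Agent.Lib.Helper27.OrdSieveA
import Cfsg.Agent.Lib.Helper15.Ord3780
import Cfsg.Agent.Lib.Helper15.Ord4200
import Cfsg.Agent.Lib.Helper29.Ord4500
import Cfsg.Agent.Lib.Helper26.Ord4725
import Cfsg.Agent.Lib.Helper26.Ord5292
import Cfsg.Agent.Lib.Helper2.Ord5880
import Cfsg.Agent.Lib.Helper8.Ord4620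
import Cfsg.Agent.Lib.Helper8.Ord5600
import Cfsg.Agent.Lib.Helper28.Ord5040
import Cfsg.Agent.Lib.Helper3.Ord5400
import Cfsg.Agent.Lib.Helper12.Ord5460
import Cfsg.Agent.S0144
import Cfsg.Agent.S0493
import Cfsg.Agent.S0499
import Cfsg.Agent.S0073
import Cfsg.Agent.S0975
import Cfsg.Agent.S0976
import Cfsg.Agent.S0977
import Cfsg.Agent.S0980

set_option autoImplicit false
set_option maxRecDepth 8000
open Cfsg

namespace Cfsg.Agent.S0983

open Cfsg.Agent.Helper3.SmallOrd

/-- A non-abelian finite simple group of order greater than 3640 and at most 6232 has order 4080, 5616, 6048 or 6072. -/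
theorem result {G : Type*} [Group G] [Finite G] [IsSimpleGroup G] (hG : ¬ IsMulCommutative G) (h1 : 3640 < Nat.card G) (h2 : Nat.card G ≤ 6232) : Nat.card G = 4080 ∨ Nat.card G = 5616 ∨ Nat.card G = 6048 ∨ Nat.card G = 6072 := by
  have hnab : ∃ x y : G, x * y ≠ y * x := by
    by_contra hc
    push Not at hc
    exact hG ⟨⟨hc⟩⟩
  have hns : ¬ IsSolvable G := by
    intro hs
    have hcomm := (IsSimpleGroup.comm_iff_isSolvable (G := G)).mpr hs
    obtain ⟨x, y, hxy⟩ := hnab
    exact hxy (hcomm x y)
  rcases Cfsg.Agent.Helper10.Ord83.cls (Nat.card G) h1 h2 with ⟨p, hp, hd, hlt⟩ |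
    ⟨p, q, a, b, hp, hq, hc⟩ | ⟨m, hm, hm3, hc⟩ | ⟨hev, hnd⟩ | ⟨p, hp, hp3, h12⟩ | hl
  · rcases Cfsg.Agent.Helper10.Ord83.br_range hG p hp hd hlt h1 h2 with h | h
    · exact Or.inl h
    · exact Or.inr (Or.inr (Or.inr h))
  · exact absurd (Cfsg.Agent.S0144.result p q a b hp hq hc) hns
  · have := Cfsg.Agent.S0493.two_mul_odd m hm hc
    omega
  · exact absurd (Cfsg.Agent.S0499.result hG hev) hnd
  · rcases Cfsg.Agent.S0073.result hnab with h3 | h3
    · rw [hp] at h3
      exact absurd h3 hp3
    · exact absurd h3 h12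
  · simp only [List.mem_cons, List.not_mem_nil, or_false] at hl
    rcases hl with hl | hl | hl | hl | hl | hl | hl | hl | hl | hl | hl | hl | hl | hl | hl | hl | hl | hl | hl | hl | hl | hl | hl | hl | hl | hl | hl | hl | hl | hl | hl | hl | hl | hl | hl | hl | hl | hl | hl | hl | hl | hl | hl | hl | hl | hl | hl | hl | hl | hl | hl | hl | hl | hl | hl | hl | hl | hl | hl | hl | hl | hl | hl | hl | hl
    · exact (no_simple_3696 hl).elim
    · exact absurd hl Cfsg.Agent.S0975.result
    · exact (no_simple_3780 hl).elim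
    · exact (no_simple_3840 hl).elim
    · exact (no_simple_3861 hl).elim
    · exact (no_simple_3900 hl).elim
    · exact (no_simple_3920 hl).elim
    · exact (no_simple_3960 hl).elim
    · exact absurd hl Cfsg.Agent.S0976.result
    · exact (no_simple_4056 hl).elim
    · exact (no_simple_4116 hl).elim
    · exact (no_simple_4160 hl).elim
    · exact (no_simple_4200 hl).elim
    · exact (no_simple_4212 hl).elim
    · exact (no_simple_4224 hl).elim
    · exact (no_simple_4312 hl).elim
    · exact absurd hl Cfsg.Agent.S0977.result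
    · exact (no_simple_4356 hl).elim
    · exact (no_simple_4368 hl).elim
    · exact (no_simple_4400 hl).elim
    · exact (no_simple_4455 hl).elim
    · exact (no_simple_4480 hl).elim
    · exact (no_simple_4500 hl).elim
    · exact (no_simple_4536 hl).elim
    · exact (no_simple_4576 hl).elim
    · exact (no_simple_4620 hl).elim
    · exact (no_simple_4680 hl).elim
    · exact (no_simple_4704 hl).elim
    · exact (no_simple_4725 hl).elim
    · exact (no_simple_4752 hl).elim
    · exact (no_simple_4800 hl).elim
    · exact (no_simple_4860 hl).elim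
    · exact (no_simple_4928 hl).elim
    · exact (no_simple_4992 hl).elim
    · exact (no_simple_5040 hl).elim
    · exact (no_simple_5049 hl).elim
    · exact (no_simple_5096 hl).elim
    · exact (no_simple_5100 hl).elim
    · exact (no_simple_5148 hl).elim
    · exact (no_simple_5200 hl).elim
    · exact (no_simple_5265 hl).elim
    · exact (no_simple_5280 hl).elim
    · exact (no_simple_5292 hl).elim
    · exact (no_simple_5304 hl).elim
    · exact (no_simple_5376 hl).elim
    · exact (no_simple_5400 hl).elim
    · exact (no_simple_5440 hl).elim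
    · exact (no_simple_5460 hl).elim
    · exact (no_simple_5508 hl).elim
    · exact (no_simple_5544 hl).elim
    · exact (no_simple_5600 hl).elim
    · exact Or.inr (Or.inl hl)
    · exact (no_simple_5712 hl).elim
    · exact absurd hl Cfsg.Agent.S0980.result
    · exact (no_simple_5808 hl).elim
    · exact (no_simple_5824 hl).elim
    · exact (no_simple_5880 hl).elim
    · exact (no_simple_5940 hl).elim
    · exact (no_simple_5967 hl).elim
    · exact (no_simple_5984 hl).elim
    · exact (no_simple_6000 hl).elim
    · exact Or.inr (Or.inr (Or.inl hl))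
    · exact (no_simple_6084 hl).elim
    · exact (no_simple_6120 hl).elim
    · exact (no_simple_6160 hl).elim

end Cfsg.Agent.S0983
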