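import Cfsg.Statements.S0984
-- import your own Cfsg.Agent.* helpers here
import Cfsg.Agent.Lib.Helper28.A7UAsm

set_option autoImplicit false
open Cfsg

namespace Cfsg.Agent.S0984

/-- A simple group of order 2520 is isomorphic to the alternating group of degree 7. -/
theorem result {G : Type*} [Group G] [Finite G] [IsSimpleGroup G] (h : Nat.card G = 2520) : Nonempty (G ≃* alternatingGroup (Fin 7)) := by
  classical
  haveI : Fintype G := Fintype.ofFinite G
  have hs : IsSimpleGroup G := inferInstance
  exact Cfsg.Agent.Helper28.A7U.main_a7 hs h (fun Q => Cfsg.Agent.Helper28.A7U.syl5_main hs h Q)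

end Cfsg.Agent.S0984
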