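import Mathlib
import Cfsg.Statements.S0986
import Cfsg.Agent.Lib.Helper12.PGroup

set_option autoImplicit false
set_option linter.style.haveILetI false
set_option linter.unusedVariables false
open Cfsg

namespace Cfsg.Agent.S0986

theorem aux {G : Type*} [Group G] [Finite G] (p : ℕ) [Fact p.Prime] (P Q : Sylow p G) (hPQ : P ≠ Q)
    (D : Subgroup G) (hD : D = (P : Subgroup G) ⊓ (Q : Subgroup G))
    (N : Subgroup G) (hN : N = Subgroup.normalizer (D : Set G))
    (hmax : ∀ P' Q' : Sylow p G, P' ≠ Q' →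
      Nat.card ↥((P' : Subgroup G) ⊓ (Q' : Subgroup G)) ≤ Nat.card D) :
    1 < Nat.card (Sylow p N) ∧
    (∀ S T : Sylow p N, S ≠ T → (S : Subgroup N) ⊓ (T : Subgroup N) = D.subgroupOf N) ∧
    ∀ S : Sylow p N, ∃! T : Sylow p G, (S : Subgroup N).map N.subtype ≤ (T : Subgroup G) := by
  have hDN : D ≤ N := hN ▸ Subgroup.le_normalizer
  have hDp : IsPGroup p D := by
    rw [hD]; exact P.isPGroup'.to_le inf_le_left
  haveI hDnorm : (D.subgroupOf N).Normal := by
    rw [hN]; exact Subgroup.normal_in_normalizer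
  -- (A)
  have hA : ∀ S : Sylow p N, D ≤ (S : Subgroup N).map N.subtype := by
    intro S
    have h1 : D.subgroupOf N ≤ (S : Subgroup N) :=
      IsPGroup.le_sylow_of_normal (show IsPGroup p (D.subgroupOf N) from hDp.comap_subtype) S
    have h2 := Subgroup.map_mono (f := N.subtype) h1
    rwa [Subgroup.map_subgroupOf_eq_of_le hDN] at h2
  have hcardS : ∀ S T : Sylow p N, Nat.card S = Nat.card T := fun S T => by
    rw [Sylow.card_eq_multiplicity, Sylow.card_eq_multiplicity]
  have hmapcard : ∀ S : Sylow p N, Nat.card ((S : Subgroup N).map N.subtype) = Nat.card S :=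
    fun S => Subgroup.card_map_of_injective N.subtype_injective
  -- for a Sylow `A` of `G` properly containing `D`, `A ⊓ N` is bigger than `D`
  have hgrow : ∀ A : Sylow p G, D < (A : Subgroup G) → Nat.card D < Nat.card ↥((A : Subgroup G) ⊓ N) := by
    intro A hDA
    obtain ⟨g, hgA, hgD, hgN⟩ := Cfsg.Agent.Helper12.exists_mem_normalizer_not_mem (A : Subgroup G) A.isPGroup' D hDA
    apply Cfsg.Agent.Helper12.card_lt_card_of_lt
    apply lt_of_le_of_ne (le_inf hDA.le hDN)
    intro h
    apply hgD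
    rw [h]
    exact ⟨hgA, hN ▸ hgN⟩
  -- a Sylow of `N` above `A ⊓ N`
  have habove : ∀ A : Sylow p G, ∃ S : Sylow p N, (A : Subgroup G) ⊓ N ≤ (S : Subgroup N).map N.subtype := by
    intro A
    have hp : IsPGroup p (((A : Subgroup G) ⊓ N).subgroupOf N) :=
      (A.isPGroup'.to_le inf_le_left).comap_subtype
    obtain ⟨S, hS⟩ := hp.exists_le_sylow
    refine ⟨S, ?_⟩
    have h2 := Subgroup.map_mono (f := N.subtype) hS
    rwa [Subgroup.map_subgroupOf_eq_of_le inf_le_right] at h2
  have hDltP : D < (P : Subgroup G) := by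
    apply lt_of_le_of_ne (hD ▸ inf_le_left)
    intro h
    apply hPQ
    have : (P : Subgroup G) ≤ Q := by
      rw [← h, hD]; exact inf_le_right
    exact (Sylow.ext (P.is_maximal' Q.isPGroup' this)).symm
  have hDltQ : D < (Q : Subgroup G) := by
    apply lt_of_le_of_ne (hD ▸ inf_le_right)
    intro h
    apply hPQ
    have : (Q : Subgroup G) ≤ P := by
      rw [← h, hD]; exact inf_le_left
    exact Sylow.ext (Q.is_maximal' P.isPGroup' this)
  -- (B)
  have hB : ∀ S : Sylow p N, Nat.card D < Nat.card ((S : Subgroup N).map N.subtype) := by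
    intro S
    obtain ⟨S₀, hS₀⟩ := habove P
    calc Nat.card D < Nat.card ↥((P : Subgroup G) ⊓ N) := hgrow P hDltP
      _ ≤ Nat.card ((S₀ : Subgroup N).map N.subtype) := Subgroup.card_le_of_le hS₀
      _ = Nat.card ((S : Subgroup N).map N.subtype) := by
        rw [hmapcard, hmapcard]; exact hcardS S₀ S
  -- (C)
  have hC : ∀ (S : Sylow p N) (T₁ T₂ : Sylow p G), (S : Subgroup N).map N.subtype ≤ (T₁ : Subgroup G) →
      (S : Subgroup N).map N.subtype ≤ (T₂ : Subgroup G) → T₁ = T₂ := by
    intro S T₁ T₂ h1 h2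
    by_contra hne
    have h3 := hmax T₁ T₂ hne
    have h4 : Nat.card ((S : Subgroup N).map N.subtype) ≤ Nat.card ↥((T₁ : Subgroup G) ⊓ (T₂ : Subgroup G)) :=
      Subgroup.card_le_of_le (le_inf h1 h2)
    have := hB S
    omega
  have hmemmap : ∀ (S : Sylow p N) (x : N), (x : G) ∈ (S : Subgroup N).map N.subtype ↔ x ∈ (S : Subgroup N) := by
    intro S x
    exact Subgroup.mem_map_iff_mem N.subtype_injective
  have hEx : ∀ S : Sylow p N, ∃ T : Sylow p G, (S : Subgroup N).map N.subtype ≤ (T : Subgroup G) := by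
    intro S
    exact (S.isPGroup'.map N.subtype).exists_le_sylow
  refine ⟨?_, ?_, ?_⟩
  · -- (F)
    by_contra hle
    have hsub : Subsingleton (Sylow p N) := by
      rw [← Finite.card_le_one_iff_subsingleton]
      omega
    obtain ⟨S₁, hS₁⟩ := habove P
    obtain ⟨S₂, hS₂⟩ := habove Q
    have h12 : S₂ = S₁ := Subsingleton.elim _ _
    rw [h12] at hS₂
    obtain ⟨A, hA'⟩ := hEx S₁
    have key : ∀ B : Sylow p G, D < (B : Subgroup G) → (B : Subgroup G) ⊓ N ≤ (S₁ : Subgroup N).map N.subtype → A = B := by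
      intro B hDB hB'
      by_contra hne
      have h3 := hmax A B hne
      have h4 : Nat.card ↥((B : Subgroup G) ⊓ N) ≤ Nat.card ↥((A : Subgroup G) ⊓ (B : Subgroup G)) :=
        Subgroup.card_le_of_le (le_inf (hB'.trans hA') inf_le_left)
      have := hgrow B hDB
      omega
    exact hPQ ((key P hDltP hS₁).symm.trans (key Q hDltQ hS₂))
  · -- (E)
    intro S T hST
    obtain ⟨A, hSA⟩ := hEx S
    obtain ⟨B, hTB⟩ := hEx T
    have hAB : A ≠ B := by
      intro hAB
      rw [← hAB] at hTB
      apply hST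
      have hp : IsPGroup p (((A : Subgroup G) ⊓ N).subgroupOf N) :=
        (A.isPGroup'.to_le inf_le_left).comap_subtype
      have hS' : (S : Subgroup N) ≤ ((A : Subgroup G) ⊓ N).subgroupOf N := by
        intro x hx
        rw [Subgroup.mem_subgroupOf]
        exact ⟨hSA ((hmemmap S x).mpr hx), x.2⟩
      have hT' : (T : Subgroup N) ≤ ((A : Subgroup G) ⊓ N).subgroupOf N := by
        intro x hx
        rw [Subgroup.mem_subgroupOf]
        exact ⟨hTB ((hmemmap T x).mpr hx), x.2⟩
      have e1 := S.is_maximal' hp hS'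
      have e2 := T.is_maximal' hp hT'
      exact Sylow.ext (e1.symm.trans e2)
    have h3 := hmax A B hAB
    have hle : D ≤ (S : Subgroup N).map N.subtype ⊓ (T : Subgroup N).map N.subtype := le_inf (hA S) (hA T)
    have h4 : Nat.card ↥((S : Subgroup N).map N.subtype ⊓ (T : Subgroup N).map N.subtype) ≤ Nat.card ↥((A : Subgroup G) ⊓ (B : Subgroup G)) :=
      Subgroup.card_le_of_le (inf_le_inf hSA hTB)
    have heq : D = (S : Subgroup N).map N.subtype ⊓ (T : Subgroup N).map N.subtype :=
      Subgroup.eq_of_le_of_card_ge hle (h4.trans h3)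
    ext x
    rw [Subgroup.mem_inf, Subgroup.mem_subgroupOf, heq, Subgroup.mem_inf, hmemmap, hmemmap]
  · intro S
    obtain ⟨T, hT⟩ := hEx S
    exact ⟨T, hT, fun T' hT' => hC S T' T hT' hT⟩

/-- Let P and Q be distinct Sylow p-subgroups of a finite group G chosen so that the order of P ∩ Q is as large as possible among intersections of two distinct Sylow p-subgroups, and let N be the normalizer of P ∩ Q. Then N has more than one Sylow p-subgroup, any two distinct Sylow p-subgroups of N intersect exactly in P ∩ Q, and each Sylow p-subgroup of N lies in exactly one Sylow p-subgroup of G. -/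
theorem result {G : Type*} [Group G] [Finite G] (p : ℕ) [Fact p.Prime] (P Q : Sylow p G) (hPQ : P ≠ Q) (hmax : ∀ P' Q' : Sylow p G, P' ≠ Q' → Nat.card ↥((P' : Subgroup G) ⊓ (Q' : Subgroup G)) ≤ Nat.card ↥((P : Subgroup G) ⊓ (Q : Subgroup G))) : 1 < Nat.card (Sylow p ↥(Subgroup.normalizer (((P : Subgroup G) ⊓ (Q : Subgroup G) : Subgroup G) : Set G))) ∧ (∀ S T : Sylow p ↥(Subgroup.normalizer (((P : Subgroup G) ⊓ (Q : Subgroup G) : Subgroup G) : Set G)), S ≠ T → (S : Subgroup _) ⊓ (T : Subgroup _) = ((P : Subgroup G) ⊓ (Q : Subgroup G)).subgroupOf (Subgroup.normalizer (((P : Subgroup G) ⊓ (Q : Subgroup G) : Subgroup G) : Set G))) ∧ ∀ S : Sylow p ↥(Subgroup.normalizer (((P : Subgroup G) ⊓ (Q : Subgroup G) : Subgroup G) : Set G)), ∃! T : Sylow p G, (S : Subgroup _).map (Subgroup.normalizer (((P : Subgroup G) ⊓ (Q : Subgroup G) : Subgroup G) : Set G)).subtype ≤ (T : Subgroup G) :=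
  aux p P Q hPQ _ rfl _ rfl hmax

end Cfsg.Agent.S0986
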