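import Mathlib
import Cfsg.Statements.S0987

set_option autoImplicit false
set_option linter.style.haveILetI false
set_option linter.unusedVariables false
open Cfsg

namespace Cfsg.Agent.S0987

/-- If a finite group has order pqr for primes p < q < r, then its Sylow r-subgroups are normal. -/
theorem result {G : Type*} [Group G] [Finite G] (p q r : ℕ) (hp : p.Prime) (hq : q.Prime) [Fact r.Prime] (hpq : p < q) (hqr : q < r) (hG : Nat.card G = p * q * r) (R : Sylow r G) : (R : Subgroup G).Normal := by
  have hr : r.Prime := Fact.out
  haveI : Fact p.Prime := ⟨hp⟩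
  have hpq' : p ≠ q := by omega
  have hpr' : p ≠ r := by omega
  have hqr' : q ≠ r := by omega
  have hne : Nat.card G ≠ 1 := by
    rw [hG]
    have := hp.two_le
    have := hq.two_le
    have := hr.two_le
    intro h
    have h1 : p ∣ 1 := h ▸ (Dvd.intro (q * r) (by ring))
    have := Nat.le_of_dvd one_pos h1
    omega
  have hmin : (Nat.card G).minFac = p := by
    have h1 : (Nat.card G).minFac ∣ p * q * r := hG ▸ Nat.minFac_dvd _
    have hpr := Nat.minFac_prime hne
    have h2 : (Nat.card G).minFac ≤ p :=
      Nat.minFac_le_of_dvd hp.two_le (hG ▸ (Dvd.intro (q * r) (by ring)))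
    rcases (Nat.Prime.dvd_mul hpr).mp h1 with h | h
    · rcases (Nat.Prime.dvd_mul hpr).mp h with h | h
      · exact (Nat.prime_dvd_prime_iff_eq hpr hp).mp h
      · have := (Nat.prime_dvd_prime_iff_eq hpr hq).mp h; omega
    · have := (Nat.prime_dvd_prime_iff_eq hpr hr).mp h; omega
  let P : Sylow p G := default
  have hPcard : Nat.card P = p := by
    rw [Sylow.card_eq_multiplicity, hG]
    rw [Nat.factorization_mul (Nat.mul_ne_zero hp.ne_zero hq.ne_zero) hr.ne_zero,
      Nat.factorization_mul hp.ne_zero hq.ne_zero]
    simp [hp.factorization, hq.factorization, hr.factorization, Finsupp.single_apply, hpq'.symm,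
      hpr'.symm]
  have hPc : IsCyclic P := isCyclic_of_prime_card hPcard
  have hcomp := IsCyclic.isComplement' hmin hPc
  set K := (MonoidHom.transferSylow P (hPc.normalizer_le_centralizer hmin)).ker with hK
  have hKcard : Nat.card K = q * r := by
    have h := hcomp.card_mul_card
    rw [hPcard, hG] at h
    have hp0 := hp.pos
    have : Nat.card K * p = (q * r) * p := by rw [h]; ring
    exact Nat.eq_of_mul_eq_mul_right hp0 this
  haveI : K.Normal := MonoidHom.normal_ker _
  let S : Sylow r K := default
  have hScard : Nat.card S = r := by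
    rw [Sylow.card_eq_multiplicity, hKcard]
    rw [Nat.factorization_mul hq.ne_zero hr.ne_zero]
    simp [hq.factorization, hr.factorization, Finsupp.single_apply, hqr']
  have hn : Nat.card (Sylow r K) = 1 := by
    have h1 : Nat.card (Sylow r K) ∣ (S : Subgroup K).index := S.card_dvd_index
    have h2 : (S : Subgroup K).index = q := by
      have h := (S : Subgroup K).card_mul_index
      rw [hScard, hKcard] at h
      have : r * (S : Subgroup K).index = r * q := by rw [h]; ring
      exact Nat.eq_of_mul_eq_mul_left hr.pos this
    have h3 := card_sylow_modEq_one r K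
    rw [h2] at h1
    rcases (Nat.dvd_prime hq).mp h1 with h | h
    · exact h
    · rw [h] at h3
      exfalso
      unfold Nat.ModEq at h3
      rw [Nat.mod_eq_of_lt hqr, Nat.mod_eq_of_lt hr.one_lt] at h3
      have := hq.one_lt
      omega
  haveI : Subsingleton (Sylow r K) := (Nat.card_eq_one_iff_unique.mp hn).1
  haveI : (S : Subgroup K).Characteristic := Sylow.characteristic_of_subsingleton S
  haveI hNn : ((S : Subgroup K).map K.subtype).Normal := ConjAct.normal_of_characteristic_of_normal
  have hNcard : Nat.card ((S : Subgroup K).map K.subtype) = r := by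
    rw [Subgroup.card_map_of_injective K.subtype_injective]
    exact hScard
  have hNp : IsPGroup r ((S : Subgroup K).map K.subtype) :=
    IsPGroup.of_card (n := 1) (by rw [hNcard, pow_one])
  have hle : (S : Subgroup K).map K.subtype ≤ (R : Subgroup G) := hNp.le_sylow_of_normal R
  have hRcard : Nat.card R = r := by
    rw [Sylow.card_eq_multiplicity, hG]
    rw [Nat.factorization_mul (Nat.mul_ne_zero hp.ne_zero hq.ne_zero) hr.ne_zero,
      Nat.factorization_mul hp.ne_zero hq.ne_zero]
    simp [hp.factorization, hq.factorization, hr.factorization, Finsupp.single_apply, hpr', hqr']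
  have heq : (S : Subgroup K).map K.subtype = (R : Subgroup G) :=
    Subgroup.eq_of_le_of_card_ge hle (by rw [hNcard, hRcard])
  rw [← heq]
  exact hNn

end Cfsg.Agent.S0987
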