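import Mathlib
import Cfsg.Statements.S0994
import Cfsg.Agent.Lib.Lead.SylowTools

set_option autoImplicit false
open Cfsg

namespace Cfsg.Agent.S0994

/-- No finite simple group has order 1188 = 2^2 * 3^3 * 11. -/
theorem result {G : Type*} [Group G] [Finite G] [IsSimpleGroup G] : Nat.card G ≠ 1188 := by
  intro hcard
  have hG : ∃ x y : G, x * y ≠ y * x :=
    Cfsg.Agent.Lead.nonabelian_of_not_prime (by rw [hcard]; norm_num)
  haveI : Fact (Nat.Prime 11) := ⟨by norm_num⟩
  obtain ⟨P⟩ : Nonempty (Sylow 11 G) := inferInstance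
  have hP : Nat.card (P : Subgroup G) = 11 := by
    rw [P.card_eq_multiplicity, hcard]
    have : (1188 : ℕ).factorization 11 = 1 := by
      have h : (1188 : ℕ) = 11 ^ 1 * 108 := by norm_num
      rw [h, Nat.factorization_mul (by norm_num) (by norm_num), Nat.Prime.factorization_pow (by norm_num)]
      simp
      rw [Nat.factorization_eq_zero_of_not_dvd (by norm_num)]
    rw [this, pow_one]
  have hmod := card_sylow_modEq_one 11 G
  have hmul := Cfsg.Agent.Lead.card_sylow_mul_card_normalizer P
  have hNP : (11 : ℕ) ∣ Nat.card (Subgroup.normalizer ((P : Subgroup G) : Set G)) := by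
    have h0 := Subgroup.card_dvd_of_le (Subgroup.le_normalizer (H := (P : Subgroup G)))
    rw [hP] at h0
    exact h0
  rw [hcard] at hmul
  set n := Nat.card (Sylow 11 G) with hn
  set m := Nat.card (Subgroup.normalizer ((P : Subgroup G) : Set G)) with hm
  obtain ⟨k, hk⟩ := hNP
  have hnk : n * k = 108 := by
    have : n * (11 * k) = 1188 := by rw [← hk]; exact hmul
    nlinarith
  have hndvd : n ∣ 108 := Dvd.intro _ hnk
  have hnle : n ≤ 108 := Nat.le_of_dvd (by norm_num) hndvd
  have hn1 : n ≠ 1 := by
    intro h1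
    have := Cfsg.Agent.Lead.card_dvd_factorial_card_sylow hG (p := 11) (by rw [hcard]; norm_num)
    rw [← hn, h1, hcard] at this
    revert this; decide
  have hn12 : n = 12 := by
    have hmod' : n % 11 = 1 := hmod
    interval_cases n <;> omega
  have hk9 : k = 9 := by rw [hn12] at hnk; omega
  apply Cfsg.Agent.Lead.not_coprime_of_prime_sylow hG P hP
  rw [← hm, hk, hk9]
  decide

end Cfsg.Agent.S0994
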