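import Mathlib
import Cfsg.Statements.S0995
import Cfsg.Agent.Lib.Helper22.SelfCentCount

set_option autoImplicit false
set_option linter.style.haveILetI false
set_option linter.unusedVariables false
open Cfsg

namespace Cfsg.Agent.S0995

/-- Let G be a finite perfect group containing an element z of prime order p whose centralizer is the cyclic group it generates. Let t be the number of conjugacy classes of elements of order p. Then t divides p - 1, the number of Sylow p-subgroups has the form 1 + n * p, and |G| * t = (p - 1) * p * (1 + n * p). -/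
theorem result {G : Type*} [Group G] [Finite G] (hperf : commutator G = ⊤) (p : ℕ) [Fact p.Prime] (z : G) (hz : orderOf z = p) (hC : Subgroup.centralizer ({z} : Set G) = Subgroup.zpowers z) : ∃ n t : ℕ, t = Nat.card {c : ConjClasses G // ∃ g : G, ConjClasses.mk g = c ∧ orderOf g = p} ∧ t ∣ p - 1 ∧ Nat.card (Sylow p G) = 1 + n * p ∧ Nat.card G * t = (p - 1) * p * (1 + n * p) := by
  have hp : p.Prime := Fact.out
  obtain ⟨P, hP⟩ := Cfsg.Agent.Helper22.exists_sylow_eq_zpowers hz hC
  have hcount := Cfsg.Agent.Helper22.card_classes_mul_relIndex hz hC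
  have ht : Nat.card {c : ConjClasses G // ∃ g : G, ConjClasses.mk g = c ∧ orderOf g = p} =
      Nat.card {C : ConjClasses G // ∃ g ∈ C.carrier, orderOf g = p} := by
    apply Nat.card_congr
    apply Equiv.subtypeEquivRight
    intro c
    constructor
    · rintro ⟨g, hg, ho⟩
      exact ⟨g, ConjClasses.mem_carrier_iff_mk_eq.mpr hg, ho⟩
    · rintro ⟨g, hg, ho⟩
      exact ⟨g, ConjClasses.mem_carrier_iff_mk_eq.mp hg, ho⟩
  rw [← ht] at hcount
  have hmod := card_sylow_modEq_one p G
  obtain ⟨n, hn⟩ : ∃ n, Nat.card (Sylow p G) = 1 + n * p := by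
    have hpos : 0 < Nat.card (Sylow p G) := Nat.card_pos
    have h1 := (Nat.modEq_iff_dvd' hpos).mp hmod.symm
    obtain ⟨n, hn⟩ := h1
    refine ⟨n, ?_⟩
    have : Nat.card (Sylow p G) = 1 + (Nat.card (Sylow p G) - 1) := by omega
    rw [this, hn, mul_comm]
  refine ⟨n, _, rfl, Dvd.intro _ hcount, hn, ?_⟩
  have hPcard : Nat.card (P : Subgroup G) = p := by
    rw [hP, Nat.card_zpowers, hz]
  have h1 : Nat.card (P : Subgroup G) * (P : Subgroup G).index = Nat.card G := Subgroup.card_mul_index _
  have h2 : (P : Subgroup G).relIndex (Subgroup.normalizer ((P : Subgroup G) : Set G)) *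
      (Subgroup.normalizer ((P : Subgroup G) : Set G)).index = (P : Subgroup G).index :=
    Subgroup.relIndex_mul_index Subgroup.le_normalizer
  have h3 : Nat.card (Sylow p G) = (Subgroup.normalizer ((P : Subgroup G) : Set G)).index :=
    Sylow.card_eq_index_normalizer P
  rw [hP] at h2 h3
  rw [hP] at h1
  rw [← h1, ← h2, ← h3, hn, Nat.card_zpowers, hz, ← hcount]
  ring

end Cfsg.Agent.S0995
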