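import Mathlib
import Cfsg.Agent.S0144
import Cfsg.Agent.S0904
import Cfsg.Statements.S1001
-- import your own Cfsg.Agent.* helpers here

set_option autoImplicit false
open Cfsg

namespace Cfsg.Agent.S1001

/-- In a finite simple group whose order has the form p * 3^a * 2^b with p prime, the centralizer of any element of order p is the cyclic group it generates. -/
theorem result {G : Type*} [Group G] [Finite G] [IsSimpleGroup G] (p a b : ℕ) (hp : p.Prime) (hG : Nat.card G = p * 3 ^ a * 2 ^ b) (x : G) (hx : orderOf x = p) : Subgroup.centralizer ({x} : Set G) = Subgroup.zpowers x := by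
  classical
  have hx1 : x ≠ 1 := by
    intro h
    rw [h, orderOf_one] at hx
    exact hp.one_lt.ne hx
  -- abelian case
  have key_abelian : (∀ u v : G, u * v = v * u) →
      Subgroup.centralizer ({x} : Set G) = Subgroup.zpowers x := by
    intro hcomm
    letI : CommGroup G := { ‹Group G› with mul_comm := hcomm }
    have hprime : (Nat.card G).Prime := IsSimpleGroup.prime_card
    haveI : Fact (Nat.card G).Prime := ⟨hprime⟩
    have htop : Subgroup.zpowers x = ⊤ := zpowers_eq_top_of_prime_card rfl hx1
    rw [htop]
    ext y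
    simp only [Subgroup.mem_centralizer_iff, Set.mem_singleton_iff, Subgroup.mem_top, iff_true]
    intro z _
    exact hcomm z y
  by_cases h2 : p = 2
  · subst h2
    have hsol : IsSolvable G := by
      apply Cfsg.Agent.S0144.result 2 3 (b + 1) a Nat.prime_two Nat.prime_three
      rw [hG]
      ring
    exact key_abelian (IsSimpleGroup.comm_iff_isSolvable.mpr hsol)
  by_cases h3 : p = 3
  · subst h3
    have hsol : IsSolvable G := by
      apply Cfsg.Agent.S0144.result 3 2 (a + 1) b Nat.prime_three Nat.prime_two
      rw [hG]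
      ring
    exact key_abelian (IsSimpleGroup.comm_iff_isSolvable.mpr hsol)
  -- general case
  haveI : Fact p.Prime := ⟨hp⟩
  have hp2 : ¬ p ∣ 2 := by
    intro h
    exact h2 ((Nat.prime_dvd_prime_iff_eq hp Nat.prime_two).mp h)
  have hp3 : ¬ p ∣ 3 := by
    intro h
    exact h3 ((Nat.prime_dvd_prime_iff_eq hp Nat.prime_three).mp h)
  have hfac : (Nat.card G).factorization p = 1 := by
    rw [hG]
    have h30 : (3 : ℕ) ^ a ≠ 0 := pow_ne_zero _ (by norm_num)
    have h20 : (2 : ℕ) ^ b ≠ 0 := pow_ne_zero _ (by norm_num)
    rw [Nat.factorization_mul (mul_ne_zero hp.ne_zero h30) h20,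
      Nat.factorization_mul hp.ne_zero h30]
    simp only [Nat.factorization_pow, Finsupp.coe_add, Finsupp.coe_smul, Pi.add_apply,
      Pi.smul_apply, smul_eq_mul]
    rw [Nat.factorization_eq_zero_of_not_dvd hp2, Nat.factorization_eq_zero_of_not_dvd hp3,
      hp.factorization_self]
    omega
  have hcardz : Nat.card (Subgroup.zpowers x) = p ^ (Nat.card G).factorization p := by
    rw [Nat.card_zpowers, hx, hfac, pow_one]
  set S : Sylow p G := Sylow.ofCard (Subgroup.zpowers x) hcardz with hS
  have hScoe : (S : Subgroup G) = Subgroup.zpowers x := Sylow.coe_ofCard _ hcardz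
  have hmain : Subgroup.centralizer ((S : Subgroup G) : Set G) = (S : Subgroup G) := by
    apply Cfsg.Agent.S0904.result 2 3 p b a Nat.prime_two Nat.prime_three (by norm_num)
      (fun h => h2 h.symm) (fun h => h3 h.symm)
    rw [hG]
    ring
  rw [hScoe] at hmain
  rw [← hmain]
  apply le_antisymm
  · intro y hy
    rw [Subgroup.mem_centralizer_iff] at hy ⊢
    intro z hz
    obtain ⟨k, rfl⟩ := Subgroup.mem_zpowers_iff.mp hz
    have hc : Commute x y := hy x (Set.mem_singleton x)
    exact (hc.zpow_left k).eq
  · apply Subgroup.centralizer_le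
    intro z hz
    rw [Set.mem_singleton_iff] at hz
    subst hz
    exact Subgroup.mem_zpowers z

end Cfsg.Agent.S1001
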