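import Mathlib
import Cfsg.Statements.S1002
import Cfsg.Agent.Lib.Helper20.OrdSimpleC

set_option autoImplicit false
open Cfsg

namespace Cfsg.Agent.S1002

/-- No finite simple group has order 1004913 = 3^3 * 7 * 13 * 409. -/
theorem result {G : Type*} [Group G] [Finite G] [IsSimpleGroup G] : Nat.card G ≠ 1004913 := by
  intro h
  haveI : Fact (Nat.Prime 409) := ⟨by norm_num⟩
  haveI : Fact (Nat.Prime 13) := ⟨by norm_num⟩
  haveI : Fact (Nat.Prime 7) := ⟨by norm_num⟩
  have h409 := Cfsg.Agent.Helper20.OrdSimple.card_sylow_mul_le_card_orderOf (G := G) (p := 409)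
    (Cfsg.Agent.Helper20.OrdSimple.n409_A h).2
  rw [(Cfsg.Agent.Helper20.OrdSimple.n409_A h).1] at h409
  have h13 := Cfsg.Agent.Helper20.OrdSimple.card_sylow_mul_le_card_orderOf (G := G) (p := 13)
    (Cfsg.Agent.Helper20.OrdSimple.n13_A h).2
  rw [(Cfsg.Agent.Helper20.OrdSimple.n13_A h).1] at h13
  have h7 := Cfsg.Agent.Helper20.OrdSimple.card_sylow_mul_le_card_orderOf (G := G) (p := 7)
    (Cfsg.Agent.Helper20.OrdSimple.n7_A h).2
  rw [(Cfsg.Agent.Helper20.OrdSimple.n7_A h).1] at h7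
  have h3 := Cfsg.Agent.Helper20.OrdSimple.card_order3_A h
  have hsum := Cfsg.Agent.Helper20.OrdSimple.sum_card_orderOf_le (G := G) ({3, 7, 13, 409} : Finset ℕ)
  rw [Finset.sum_insert (by decide), Finset.sum_insert (by decide), Finset.sum_insert (by decide),
    Finset.sum_singleton, h] at hsum
  omega

end Cfsg.Agent.S1002
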