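import Mathlib
import Cfsg.Statements.S1006
import Cfsg.Agent.S1005

set_option autoImplicit false
set_option linter.style.haveILetI false
open Pointwise
open Cfsg

namespace Cfsg.Agent.S1006

open Cfsg.Agent.Lead Cfsg.Agent.Lead.O168 Cfsg.Agent.S1005

variable {G : Type*} [Group G] [Finite G]

theorem d4_not_central : ∀ x : DihedralGroup 4, x ^ 2 ≠ 1 → ∃ t : DihedralGroup 4, t * x ≠ x * t := by
  decide

/-- if the class of `z` has as many elements as there are elements of order `n = orderOf z`, then
all elements of order `n` are conjugate to `z` -/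
theorem isConj_of_card_eq {n : ℕ} (z : G) (hz : orderOf z = n)
    (hc : Nat.card {g : G // IsConj z g} = Nat.card {g : G // orderOf g = n}) :
    ∀ s : G, orderOf s = n → IsConj z s := by
  let f : {g : G // IsConj z g} → {g : G // orderOf g = n} := fun g =>
    ⟨g.1, by
      obtain ⟨c, hc⟩ := isConj_iff.1 g.2
      have hsc : SemiconjBy c z g.1 := by
        unfold SemiconjBy
        rw [← hc]; group
      rw [← hsc.orderOf_eq c, hz]⟩
  have hinj : Function.Injective f := by
    intro a b hab
    have : (f a).1 = (f b).1 := congrArg Subtype.val hab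
    exact Subtype.ext this
  have hbij := hinj.bijective_of_nat_card_le (by rw [hc])
  intro s hs
  obtain ⟨g, hg⟩ := hbij.2 ⟨s, hs⟩
  have : g.1 = s := congrArg Subtype.val hg
  rw [← this]
  exact g.2

/-- a cyclic subgroup of prime order `p` is a Sylow subgroup when Sylow subgroups have order `p` -/
theorem exists_sylow_eq_zpowers {p : ℕ} [Fact p.Prime]
    (hcard : ∀ P : Sylow p G, Nat.card (P : Subgroup G) = p) {y : G} (hy : orderOf y = p) :
    ∃ P : Sylow p G, (P : Subgroup G) = Subgroup.zpowers y := by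
  have hz : IsPGroup p (Subgroup.zpowers y) := by
    apply IsPGroup.of_card (n := 1)
    rw [Nat.card_zpowers, hy, pow_one]
  obtain ⟨P, hP⟩ := hz.exists_le_sylow
  refine ⟨P, ?_⟩
  symm
  apply Subgroup.eq_of_le_of_card_ge hP
  rw [hcard P, Nat.card_zpowers, hy]

section

variable [IsSimpleGroup G] (h : Nat.card G = 168)
include h

/-- centralizer of an element of order 3 or 7 -/
theorem card_centralizer_prime {p : ℕ} (hp : p = 3 ∨ p = 7) {y : G} (hy : orderOf y = p) :
    Nat.card (Subgroup.centralizer ({y} : Set G)) = p := by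
  have : Subgroup.centralizer ({y} : Set G) = Subgroup.zpowers y := by
    ext x
    constructor
    · intro hx
      rw [Subgroup.mem_centralizer_iff] at hx
      have hc : Commute x y := (hx y rfl).symm
      rcases hp with rfl | rfl
      · exact mem_zpowers_of_commute3 h hy hc
      · exact mem_zpowers_of_commute7 h hy hc
    · intro hx
      obtain ⟨k, hk⟩ := Subgroup.mem_zpowers_iff.1 hx
      rw [Subgroup.mem_centralizer_iff]
      intro w hw
      rw [Set.mem_singleton_iff] at hw
      rw [hw, ← hk]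
      exact ((Commute.refl y).zpow_right k).eq
  rw [this, Nat.card_zpowers, hy]

theorem card_centralizer_order4 {x : G} (hx : orderOf x = 4) :
    Nat.card (Subgroup.centralizer ({x} : Set G)) = 4 := by
  have hx4 : x ^ 4 = 1 := by rw [← hx]; exact pow_orderOf_eq_one x
  have hx8 : x ^ 8 = 1 := by
    have : x ^ 8 = (x ^ 4) ^ 2 := by rw [← pow_mul]
    rw [this, hx4, one_pow]
  have hx1 : x ≠ 1 := by
    intro hh; rw [hh, orderOf_one] at hx; omega
  have hx2 : x ^ 2 ≠ 1 := by
    intro hh
    have := orderOf_dvd_of_pow_eq_one hh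
    rw [hx] at this
    omega
  set C := Subgroup.centralizer ({x} : Set G) with hC
  have hdvd : Nat.card C ∣ 8 := card_centralizer_two_elt h hx1 hx8
  have hzC : Subgroup.zpowers x ≤ C := by
    rw [Subgroup.zpowers_le, hC, Subgroup.mem_centralizer_iff]
    intro w hw
    rw [Set.mem_singleton_iff] at hw
    rw [hw]
  have h4 : 4 ∣ Nat.card C := by
    have := Subgroup.card_dvd_of_le hzC
    rwa [Nat.card_zpowers, hx] at this
  have hne8 : Nat.card C ≠ 8 := by
    intro h8
    -- then C is a Sylow 2-subgroup in which x is central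
    have hCp : IsPGroup 2 C := IsPGroup.of_card (n := 3) (by rw [h8]; norm_num)
    obtain ⟨T, hT⟩ := hCp.exists_le_sylow
    have hCT : C = (T : Subgroup G) :=
      Subgroup.eq_of_le_of_card_ge hT (by rw [card_sylow2 h T, h8])
    have hxT : x ∈ (T : Subgroup G) := hT (hzC (Subgroup.mem_zpowers x))
    obtain ⟨e⟩ := Cfsg.Agent.S1004.sylow2_dihedral h T
    have hex2 : (e ⟨x, hxT⟩) ^ 2 ≠ 1 := by
      intro hh
      apply hx2
      have : (⟨x, hxT⟩ : ↥(T : Subgroup G)) ^ 2 = 1 := by
        apply e.injective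
        rw [map_pow, hh, map_one]
      have := congrArg Subtype.val this
      simpa using this
    obtain ⟨t, ht⟩ := d4_not_central _ hex2
    apply ht
    have hmem : ((e.symm t : ↥(T : Subgroup G)) : G) ∈ C := by
      rw [hCT]; exact (e.symm t).2
    rw [hC, Subgroup.mem_centralizer_iff] at hmem
    have h1 := hmem x rfl
    have h2 : (e.symm t) * (⟨x, hxT⟩ : ↥(T : Subgroup G)) = ⟨x, hxT⟩ * (e.symm t) :=
      Subtype.ext h1.symm
    have := congrArg e h2
    rw [map_mul, map_mul, MulEquiv.apply_symm_apply] at this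
    exact this
  have hle : Nat.card C ≤ 8 := Nat.le_of_dvd (by norm_num) hdvd
  have hpos : 0 < Nat.card C := Nat.card_pos
  have hmod : Nat.card C % 4 = 0 := Nat.mod_eq_zero_of_dvd h4
  omega

theorem card_class {n : ℕ} {x : G} (hC : Nat.card (Subgroup.centralizer ({x} : Set G)) = n)
    (hn : 0 < n) : Nat.card {g : G // IsConj x g} = 168 / n := by
  have := card_conj_mul_card_centralizer x
  rw [hC, h] at this
  rw [← this, Nat.mul_div_cancel _ hn]

theorem not_isConj_inv {x : G} (hx : orderOf x = 7) : ¬ IsConj x x⁻¹ := by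
  haveI : Fact (Nat.Prime 7) := ⟨by norm_num⟩
  intro hconj
  obtain ⟨c, hc⟩ := isConj_iff.1 hconj
  have hc' : c⁻¹ * x * c = x⁻¹ := by
    have : x = c⁻¹ * x⁻¹ * c := by rw [← hc]; group
    calc c⁻¹ * x * c = (c⁻¹ * x⁻¹ * c)⁻¹ := by group
      _ = x⁻¹ := by rw [← this]
  -- c normalizes zpowers x
  obtain ⟨P, hP⟩ := exists_sylow_eq_zpowers (G := G) (p := 7) (card_sylow7 h) hx
  have hcN : c ∈ Subgroup.normalizer ((P : Subgroup G) : Set G) := by
    rw [Subgroup.mem_normalizer_iff]
    intro w
    rw [hP]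
    constructor
    · intro hw
      obtain ⟨k, hk⟩ := Subgroup.mem_zpowers_iff.1 hw
      rw [← hk]
      have : c * x ^ k * c⁻¹ = (c * x * c⁻¹) ^ k := by rw [conj_zpow]
      rw [this, hc]
      exact Subgroup.zpow_mem _ (Subgroup.inv_mem _ (Subgroup.mem_zpowers x)) k
    · intro hw
      obtain ⟨k, hk⟩ := Subgroup.mem_zpowers_iff.1 hw
      have hw' : w = c⁻¹ * x ^ k * c := by rw [hk]; group
      have : c⁻¹ * x ^ k * c = (c⁻¹ * x * c) ^ k := by
        have := conj_zpow (a := c⁻¹) (b := x) (i := k)
        rw [inv_inv] at this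
        exact this.symm
      rw [hw', this, hc']
      exact Subgroup.zpow_mem _ (Subgroup.inv_mem _ (Subgroup.mem_zpowers x)) k
  have hc21 : c ^ 21 = 1 := by
    have h0 := pow_card_eq_one'
      (G := ↥(Subgroup.normalizer ((P : Subgroup G) : Set G))) (x := ⟨c, hcN⟩)
    rw [card_normalizer7 h P] at h0
    have := congrArg Subtype.val h0
    simpa using this
  -- c^2 centralizes x
  have hc2 : Commute (c ^ 2) x := by
    have : c ^ 2 * x * (c ^ 2)⁻¹ = x := by
      calc c ^ 2 * x * (c ^ 2)⁻¹ = c * (c * x * c⁻¹) * c⁻¹ := by rw [pow_two]; group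
        _ = c * x⁻¹ * c⁻¹ := by rw [hc]
        _ = (c * x * c⁻¹)⁻¹ := by group
        _ = x := by rw [hc, inv_inv]
    calc c ^ 2 * x = (c ^ 2 * x * (c ^ 2)⁻¹) * c ^ 2 := by group
      _ = x * c ^ 2 := by rw [this]
  have hc2mem := mem_zpowers_of_commute7 h hx hc2
  have hx7 : x ^ 7 = 1 := by rw [← hx]; exact pow_orderOf_eq_one x
  have hc14 : c ^ 14 = 1 := by
    obtain ⟨k, hk⟩ := Subgroup.mem_zpowers_iff.1 hc2mem
    have : c ^ 14 = (c ^ 2) ^ 7 := by rw [← pow_mul]
    rw [this, ← hk, ← zpow_natCast, ← zpow_mul, mul_comm, zpow_mul, zpow_natCast, hx7, one_zpow]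
  have hc7 : c ^ 7 = 1 := by
    have : c ^ 21 = c ^ 14 * c ^ 7 := by rw [← pow_add]
    rw [this, hc14, one_mul] at hc21
    exact hc21
  have hcmem : c ∈ Subgroup.zpowers x := by
    have : c = (c ^ 2) ^ 4 * (c ^ 7)⁻¹ := by
      rw [← pow_mul]; group
    rw [this, hc7, inv_one, mul_one]
    exact Subgroup.pow_mem _ hc2mem 4
  obtain ⟨k, hk⟩ := Subgroup.mem_zpowers_iff.1 hcmem
  have hcomm : c * x = x * c := by
    rw [← hk]; exact ((Commute.refl x).zpow_left k).eq
  have hxx : x = x⁻¹ := by
    calc x = x * c * c⁻¹ := by group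
      _ = c * x * c⁻¹ := by rw [hcomm]
      _ = x⁻¹ := hc
  have hx2 : x ^ 2 = 1 := by
    rw [pow_two]
    calc x * x = x * x⁻¹ := by rw [← hxx]
      _ = 1 := mul_inv_cancel x
  have := orderOf_dvd_of_pow_eq_one hx2
  rw [hx] at this
  omega

end

/-- In a simple group of order 168 there are 56 elements of order 3, all conjugate; 42 elements of order 4, all conjugate; and 48 elements of order 7 falling into two conjugacy classes of size 24, an element of order 7 not being conjugate to its inverse. -/
theorem result {G : Type*} [Group G] [Finite G] [IsSimpleGroup G] (h : Nat.card G = 168) : Nat.card {g : G // orderOf g = 3} = 56 ∧ (∀ s t : G, orderOf s = 3 → orderOf t = 3 → IsConj s t) ∧ Nat.card {g : G // orderOf g = 4} = 42 ∧ (∀ s t : G, orderOf s = 4 → orderOf t = 4 → IsConj s t) ∧ Nat.card {g : G // orderOf g = 7} = 48 ∧ ∀ x : G, orderOf x = 7 → Nat.card {g : G // IsConj x g} = 24 ∧ ¬ IsConj x x⁻¹ := by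
  haveI : Fact (Nat.Prime 3) := ⟨by norm_num⟩
  haveI : Fact (Nat.Prime 7) := ⟨by norm_num⟩
  have c3 := card_orderOf_prime_ge (G := G) (p := 3) (card_sylow3 h)
  have c7 := card_orderOf_prime_ge (G := G) (p := 7) (card_sylow7 h)
  rw [Cfsg.Agent.S1003.n3 h] at c3
  rw [Cfsg.Agent.S1003.n7 h] at c7
  have c4 := card_order4_ge h
  have c2 := card_order2_ge h
  have ct := card_total_le h
  have h3 : Nat.card {g : G // orderOf g = 3} = 56 := by omega
  have h4 : Nat.card {g : G // orderOf g = 4} = 42 := by omega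
  have h7 : Nat.card {g : G // orderOf g = 7} = 48 := by omega
  refine ⟨h3, ?_, h4, ?_, h7, ?_⟩
  · intro s t hs ht
    have hcs : Nat.card {g : G // IsConj s g} = 56 := by
      rw [card_class h (card_centralizer_prime h (Or.inl rfl) hs) (by norm_num)]
    have hall := isConj_of_card_eq s hs (by rw [hcs, h3])
    exact hall t ht
  · intro s t hs ht
    have hcs : Nat.card {g : G // IsConj s g} = 42 := by
      rw [card_class h (card_centralizer_order4 h hs) (by norm_num)]
    have hall := isConj_of_card_eq s hs (by rw [hcs, h4])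
    exact hall t ht
  · intro x hx
    refine ⟨?_, not_isConj_inv h hx⟩
    rw [card_class h (card_centralizer_prime h (Or.inr rfl) hx) (by norm_num)]

end Cfsg.Agent.S1006
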