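import Mathlib
import Cfsg.Statements.S1007
import Cfsg.Agent.Lib.Lead.Order168b

set_option autoImplicit false
set_option linter.style.haveILetI false
open Pointwise
open Cfsg

namespace Cfsg.Agent.S1007

open Cfsg.Agent.Lead Cfsg.Agent.Lead.O168 DihedralGroup

def F1 : Finset (DihedralGroup 4) := {r 0, r 2, sr 0, sr 2}
def F2 : Finset (DihedralGroup 4) := {r 0, r 2, sr 1, sr 3}

set_option maxRecDepth 100000 in
theorem d4_klein_finsets : ∀ F : Finset (DihedralGroup 4),
    (1 ∈ F ∧ (∀ a ∈ F, ∀ b ∈ F, a * b ∈ F) ∧ F.card = 4 ∧ ∀ a ∈ F, a * a = 1) →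
    (F = F1 ∨ F = F2) := by decide

theorem F1_props : 1 ∈ F1 ∧ (∀ a ∈ F1, ∀ b ∈ F1, a * b ∈ F1) ∧ (∀ a ∈ F1, a⁻¹ ∈ F1) ∧ F1.card = 4 ∧
    ∀ a ∈ F1, a * a = 1 := by decide

theorem F2_props : 1 ∈ F2 ∧ (∀ a ∈ F2, ∀ b ∈ F2, a * b ∈ F2) ∧ (∀ a ∈ F2, a⁻¹ ∈ F2) ∧ F2.card = 4 ∧
    ∀ a ∈ F2, a * a = 1 := by decide

theorem F1_ne_F2 : sr 0 ∈ F1 ∧ sr 0 ∉ F2 := by decide

def V1 : Subgroup (DihedralGroup 4) where
  carrier := ↑F1
  mul_mem' := fun {a b} ha hb => F1_props.2.1 a ha b hb
  one_mem' := F1_props.1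
  inv_mem' := fun {a} ha => F1_props.2.2.1 a ha

def V2 : Subgroup (DihedralGroup 4) where
  carrier := ↑F2
  mul_mem' := fun {a b} ha hb => F2_props.2.1 a ha b hb
  one_mem' := F2_props.1
  inv_mem' := fun {a} ha => F2_props.2.2.1 a ha

theorem mem_V1 {x : DihedralGroup 4} : x ∈ V1 ↔ x ∈ F1 := Iff.rfl
theorem mem_V2 {x : DihedralGroup 4} : x ∈ V2 ↔ x ∈ F2 := Iff.rfl

theorem card_V1 : Nat.card V1 = 4 := by
  have : Nat.card V1 = Nat.card (↑F1 : Set (DihedralGroup 4)) := rfl
  rw [this, Nat.card_coe_set_eq, Set.ncard_coe_finset, F1_props.2.2.2.1]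

theorem card_V2 : Nat.card V2 = 4 := by
  have : Nat.card V2 = Nat.card (↑F2 : Set (DihedralGroup 4)) := rfl
  rw [this, Nat.card_coe_set_eq, Set.ncard_coe_finset, F2_props.2.2.2.1]

theorem V1_ne_V2 : V1 ≠ V2 := by
  intro h
  have h1 : sr 0 ∈ V1 := mem_V1.2 F1_ne_F2.1
  rw [h] at h1
  exact F1_ne_F2.2 (mem_V2.1 h1)

/-- Klein four-subgroups of `D₄` -/
theorem d4_klein (V : Subgroup (DihedralGroup 4)) (h4 : Nat.card V = 4)
    (h2 : ∀ x ∈ V, x * x = 1) : V = V1 ∨ V = V2 := by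
  classical
  set F : Finset (DihedralGroup 4) := (V : Set (DihedralGroup 4)).toFinset with hF
  have hmem : ∀ x, x ∈ F ↔ x ∈ V := by
    intro x; rw [hF, Set.mem_toFinset]; rfl
  have hcard : F.card = 4 := by
    rw [hF, Set.toFinset_card, ← Nat.card_eq_fintype_card]
    exact h4
  have := d4_klein_finsets F ⟨(hmem 1).2 V.one_mem,
    fun a ha b hb => (hmem _).2 (V.mul_mem ((hmem a).1 ha) ((hmem b).1 hb)), hcard,
    fun a ha => h2 a ((hmem a).1 ha)⟩
  rcases this with h | h
  · left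
    ext x
    rw [← hmem, h, mem_V1]
  · right
    ext x
    rw [← hmem, h, mem_V2]

variable {G : Type*} [Group G] [Finite G]

theorem result_aux [IsSimpleGroup G] (h : Nat.card G = 168) (T : Sylow 2 G) :
    Nat.card {U : Subgroup G // U ≤ (T : Subgroup G) ∧ IsKleinFour ↥U} = 2 := by
  obtain ⟨e⟩ := Cfsg.Agent.S1004.sylow2_dihedral h T
  let ι : DihedralGroup 4 →* G := (T : Subgroup G).subtype.comp e.symm.toMonoidHom
  have hιinj : Function.Injective ι := by
    intro a b hab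
    have : (e.symm a : G) = (e.symm b : G) := hab
    exact e.symm.injective (Subtype.ext this)
  have hιrange : ι.range = (T : Subgroup G) := by
    ext x
    constructor
    · rintro ⟨a, rfl⟩
      exact (e.symm a).2
    · intro hx
      refine ⟨e ⟨x, hx⟩, ?_⟩
      show ((e.symm (e ⟨x, hx⟩) : ↥(T : Subgroup G)) : G) = x
      rw [MulEquiv.symm_apply_apply]
  have hmapK : ∀ V : Subgroup (DihedralGroup 4), Nat.card V = 4 → (∀ x ∈ V, x * x = 1) →
      V.map ι ≤ (T : Subgroup G) ∧ IsKleinFour ↥(V.map ι) := by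
    intro V h4 h2
    refine ⟨?_, ?_⟩
    · rw [← hιrange]; exact Subgroup.map_le_range ι V
    · apply isKleinFour_of
      · rw [Subgroup.card_map_of_injective hιinj, h4]
      · rintro x ⟨v, hv, rfl⟩
        rw [← map_mul, h2 v hv, map_one]
  have hK1 := hmapK V1 card_V1 (fun x hx => F1_props.2.2.2.2 x (mem_V1.1 hx))
  have hK2 := hmapK V2 card_V2 (fun x hx => F2_props.2.2.2.2 x (mem_V2.1 hx))
  rw [Nat.card_eq_two_iff]
  refine ⟨⟨V1.map ι, hK1⟩, ⟨V2.map ι, hK2⟩, ?_, ?_⟩
  · intro hh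
    have : V1.map ι = V2.map ι := congrArg Subtype.val hh
    exact V1_ne_V2 (Subgroup.map_injective hιinj this)
  · rw [Set.eq_univ_iff_forall]
    rintro ⟨U, hUT, hUK⟩
    haveI := hUK
    have hcomap : (U.comap ι).map ι = U := by
      rw [Subgroup.map_comap_eq, hιrange, inf_of_le_right hUT]
    have h4 : Nat.card (U.comap ι) = 4 := by
      rw [← Subgroup.card_map_of_injective hιinj, hcomap]
      exact IsKleinFour.card_four
    have h2 : ∀ x ∈ U.comap ι, x * x = 1 := by
      intro x hx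
      apply hιinj
      rw [map_mul, map_one]
      exact klein_sq U hx
    rcases d4_klein (U.comap ι) h4 h2 with hV | hV
    · left
      apply Subtype.ext
      show U = V1.map ι
      rw [← hV, hcomap]
    · right
      rw [Set.mem_singleton_iff]
      apply Subtype.ext
      show U = V2.map ι
      rw [← hV, hcomap]

theorem not_conj [IsSimpleGroup G] (h : Nat.card G = 168) (T : Sylow 2 G) (U W : Subgroup G)
    (hUT : U ≤ (T : Subgroup G)) (hWT : W ≤ (T : Subgroup G)) (hU : IsKleinFour ↥U)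
    (hW : IsKleinFour ↥W) (hne : U ≠ W) (g : G) : U.map (MulAut.conj g).toMonoidHom ≠ W := by
  intro hmap
  haveI := hU
  haveI := hW
  set N := Subgroup.normalizer (W : Set G) with hN
  have hTN : (T : Subgroup G) ≤ N := sylow_le_normalizer_klein h T W hWT
  -- W ≤ g • T
  have hWT' : W ≤ ((g • T : Sylow 2 G) : Subgroup G) := by
    intro x hx
    rw [← hmap] at hx
    obtain ⟨u, hu, rfl⟩ := hx
    rw [Sylow.coe_subgroup_smul, mem_conj_smul']
    have : g⁻¹ * ((MulAut.conj g).toMonoidHom u) * g = u := by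
      show g⁻¹ * (g * u * g⁻¹) * g = u
      group
    rw [this]
    exact hUT hu
  have hT'N : ((g • T : Sylow 2 G) : Subgroup G) ≤ N := sylow_le_normalizer_klein h (g • T) W hWT'
  obtain ⟨n, hnN, hn⟩ := exists_conj_in_subgroup (g • T) T N hT'N hTN
  have hngT : n * g ∈ (T : Subgroup G) := by
    have h1 : (n * g) • T = T := by rw [mul_smul]; exact hn
    have h2 : n * g ∈ Subgroup.normalizer ((T : Subgroup G) : Set G) :=
      Sylow.smul_eq_iff_mem_normalizer.1 h1
    rw [normalizer2 h T] at h2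
    exact h2
  have hngU : n * g ∈ Subgroup.normalizer (U : Set G) := sylow_le_normalizer_klein h T U hUT hngT
  apply hne
  apply Subgroup.eq_of_le_of_card_ge
  · intro x hx
    -- u := (ng)⁻¹ x (ng) ∈ U
    have hu : (n * g)⁻¹ * x * (n * g) ∈ U := by
      have := (Subgroup.mem_normalizer_iff.1 hngU ((n * g)⁻¹ * x * (n * g)))
      rw [this]
      have e : n * g * ((n * g)⁻¹ * x * (n * g)) * (n * g)⁻¹ = x := by group
      rw [e]; exact hx
    have hw : g * ((n * g)⁻¹ * x * (n * g)) * g⁻¹ ∈ W := by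
      rw [← hmap]
      exact ⟨_, hu, rfl⟩
    have hw2 := (Subgroup.mem_normalizer_iff.1 hnN _).1 hw
    have e : n * (g * ((n * g)⁻¹ * x * (n * g)) * g⁻¹) * n⁻¹ = x := by group
    rwa [e] at hw2
  · rw [IsKleinFour.card_four, IsKleinFour.card_four]

/-- Let G be a simple group of order 168 and T a Sylow 2-subgroup. Then T contains exactly two subgroups that are Klein four-groups; they are not conjugate in G; and the normalizer of every Klein four-subgroup of G is isomorphic to the symmetric group of degree 4. -/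
theorem result {G : Type*} [Group G] [Finite G] [IsSimpleGroup G] (h : Nat.card G = 168) (T : Sylow 2 G) : Nat.card {U : Subgroup G // U ≤ (T : Subgroup G) ∧ IsKleinFour ↥U} = 2 ∧ (∀ U W : Subgroup G, U ≤ (T : Subgroup G) → W ≤ (T : Subgroup G) → IsKleinFour ↥U → IsKleinFour ↥W → U ≠ W → ∀ g : G, U.map (MulAut.conj g).toMonoidHom ≠ W) ∧ ∀ U : Subgroup G, IsKleinFour ↥U → Nonempty (↥(Subgroup.normalizer (U : Set G)) ≃* Equiv.Perm (Fin 4)) := by
  refine ⟨result_aux h T, ?_, ?_⟩
  · intro U W hUT hWT hU hW hne g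
    exact not_conj h T U W hUT hWT hU hW hne g
  · intro U hU
    haveI := hU
    exact normalizer_klein_iso h U

end Cfsg.Agent.S1007
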