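import Mathlib
import Cfsg.Statements.S1008
import Cfsg.Agent.S1007

set_option autoImplicit false
set_option linter.style.haveILetI false
set_option linter.unusedVariables false
open Pointwise
open Cfsg

namespace Cfsg.Agent.S1008

open Cfsg.Agent.Lead Cfsg.Agent.Lead.O168 Equiv

/-! ### The Klein four-subgroup of `S₄` -/

def FV4 : Finset (Perm (Fin 4)) := {1, swap 0 1 * swap 2 3, swap 0 2 * swap 1 3, swap 0 3 * swap 1 2}

theorem p1 : 1 ∈ FV4 := by decide
theorem p2 : (∀ a ∈ FV4, ∀ b ∈ FV4, a * b ∈ FV4) := by decide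
theorem p3 : (∀ a ∈ FV4, a⁻¹ ∈ FV4) := by decide
theorem p4 : FV4.card = 4 := by decide
theorem p5 : (∀ a ∈ FV4, a * a = 1) := by decide
theorem p6 : ∀ a ∈ FV4, ∀ g : Perm (Fin 4), g * a * g⁻¹ ∈ FV4 := by decide

def V4 : Subgroup (Perm (Fin 4)) where
  carrier := ↑FV4
  mul_mem' := fun {a b} ha hb => p2 a ha b hb
  one_mem' := p1
  inv_mem' := fun {a} ha => p3 a ha

theorem card_V4 : Nat.card V4 = 4 := by
  have : Nat.card V4 = Nat.card (↑FV4 : Set (Perm (Fin 4))) := rfl
  rw [this, Nat.card_coe_set_eq, Set.ncard_coe_finset, p4]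

/-! ### Conjugation of subgroups -/

variable {G : Type*} [Group G]

/-- conjugate of a subgroup, in the form used by the statement -/
abbrev cj (g : G) (H : Subgroup G) : Subgroup G := H.map (MulAut.conj g).toMonoidHom

theorem mem_cj {g x : G} {H : Subgroup G} : x ∈ cj g H ↔ g⁻¹ * x * g ∈ H := by
  constructor
  · rintro ⟨h, hh, rfl⟩
    have : g⁻¹ * ((MulAut.conj g).toMonoidHom h) * g = h := by
      show g⁻¹ * (g * h * g⁻¹) * g = h
      group
    rw [this]; exact hh
  · intro hx
    refine ⟨g⁻¹ * x * g, hx, ?_⟩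
    show g * (g⁻¹ * x * g) * g⁻¹ = x
    group

theorem card_cj (g : G) (H : Subgroup G) : Nat.card (cj g H) = Nat.card H :=
  Subgroup.card_map_of_injective (MulAut.conj g).injective

theorem normalizer_cj (g : G) (H : Subgroup G) :
    Subgroup.normalizer ((cj g H : Subgroup G) : Set G) = cj g (Subgroup.normalizer (H : Set G)) :=
  (Subgroup.map_equiv_normalizer_eq H (MulAut.conj g)).symm

theorem cj_mono {g : G} {H K : Subgroup G} (h : H ≤ K) : cj g H ≤ cj g K := Subgroup.map_mono h

theorem cj_cj (g k : G) (H : Subgroup G) : cj g (cj k H) = cj (g * k) H := by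
  ext x
  rw [mem_cj, mem_cj, mem_cj]
  have : k⁻¹ * (g⁻¹ * x * g) * k = (g * k)⁻¹ * x * (g * k) := by group
  rw [this]

theorem cj_eq_self {g : G} {H : Subgroup G} (hg : g ∈ Subgroup.normalizer (H : Set G)) :
    cj g H = H := by
  ext x
  rw [mem_cj]
  have := Subgroup.mem_normalizer_iff.1 hg (g⁻¹ * x * g)
  rw [this]
  have e : g * (g⁻¹ * x * g) * g⁻¹ = x := by group
  rw [e]

theorem sylow_smul_eq_cj {p : ℕ} (g : G) (P : Sylow p G) :
    ((g • P : Sylow p G) : Subgroup G) = cj g (P : Subgroup G) := by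
  ext x
  rw [Sylow.coe_subgroup_smul, mem_conj_smul', mem_cj]

variable [Finite G]

theorem klein_cj (g : G) (U : Subgroup G) [IsKleinFour U] : IsKleinFour (cj g U) := by
  apply isKleinFour_of
  · rw [card_cj, IsKleinFour.card_four]
  · intro x hx
    rw [mem_cj] at hx
    have := klein_sq U hx
    have e : x * x = g * ((g⁻¹ * x * g) * (g⁻¹ * x * g)) * g⁻¹ := by group
    rw [e, this]; group

/-- If `M` contains a Sylow `p`-subgroup `P` of `G` and is too small to contain two, then
`M ≤ N(P)`. -/
theorem le_normalizer_of_small {p : ℕ} [Fact p.Prime] (P : Sylow p G) (M : Subgroup G)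
    (hPM : (P : Subgroup G) ≤ M) (hsmall : Nat.card M < (p + 1) * Nat.card (P : Subgroup G)) :
    M ≤ Subgroup.normalizer ((P : Subgroup G) : Set G) := by
  intro m hm
  by_contra hmN
  have hne : P ≠ m • P := by
    intro hh
    apply hmN
    exact Sylow.smul_eq_iff_mem_normalizer.1 hh.symm
  have hle : ((m • P : Sylow p G) : Subgroup G) ≤ M := by
    rw [sylow_smul_eq_cj]
    intro x hx
    rw [mem_cj] at hx
    have := M.mul_mem (M.mul_mem hm (hPM hx)) (M.inv_mem hm)
    have e : m * (m⁻¹ * x * m) * m⁻¹ = x := by group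
    rwa [e] at this
  have := (card_ge_of_two_sylow_le P (m • P) hne M hPM hle).2
  omega

section

variable [IsSimpleGroup G] (h : Nat.card G = 168)
include h

theorem card_le_of_ne_top (M : Subgroup G) (hM : M ≠ ⊤) : Nat.card M ≤ 24 := by
  have hfac := card_dvd_factorial_index M hM
  have hmul := Subgroup.card_mul_index M
  rw [h] at hfac hmul
  by_contra hcon
  push Not at hcon
  have hk : M.index ≤ 6 := by
    by_contra hk
    push Not at hk
    nlinarith
  have hk0 : 0 < M.index := by
    rcases Nat.eq_zero_or_pos M.index with h0 | h0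
    · rw [h0, mul_zero] at hmul; omega
    · exact h0
  interval_cases M.index <;> revert hfac <;> decide

/-- a coatom of order divisible by 7 is the normalizer of a Sylow 7-subgroup -/
theorem coatom7 [Fact (Nat.Prime 7)] (M : Subgroup G) (hM : IsCoatom M) (h7 : 7 ∣ Nat.card M) :
    ∃ P : Sylow 7 G, M = Subgroup.normalizer ((P : Subgroup G) : Set G) := by
  obtain ⟨P, hPM⟩ := Cfsg.Agent.S1003.exists_sylow_le_of_prime_dvd (G := G) (p := 7) (m := 24)
    (by rw [h]; norm_num) (by norm_num) M h7
  refine ⟨P, ?_⟩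
  have hle := le_normalizer_of_small P M hPM (by
    rw [card_sylow7 h P]
    have := card_le_of_ne_top h M hM.1
    omega)
  have hNt : Subgroup.normalizer ((P : Subgroup G) : Set G) ≠ ⊤ :=
    sylow_normalizer_ne_top (nonab h) (by rw [h]; norm_num) P
  rcases hM.le_iff.1 hle with h1 | h1
  · exact absurd h1 hNt
  · exact h1.symm

theorem exists_klein_le (T : Sylow 2 G) : ∃ U : Subgroup G, U ≤ (T : Subgroup G) ∧ IsKleinFour U := by
  have := (Cfsg.Agent.S1007.result h T).1
  have hpos : 0 < Nat.card {U : Subgroup G // U ≤ (T : Subgroup G) ∧ IsKleinFour ↥U} := by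
    rw [this]; norm_num
  rw [Nat.card_pos_iff] at hpos
  obtain ⟨⟨U, hU⟩⟩ := hpos.1
  exact ⟨U, hU⟩

theorem normalizer_klein_ne_top (U : Subgroup G) [IsKleinFour U] :
    Subgroup.normalizer (U : Set G) ≠ ⊤ := by
  intro hh
  have := card_normalizer_klein h U
  rw [hh, Subgroup.card_top, h] at this
  omega

theorem normalizer_klein_coatom (U : Subgroup G) [IsKleinFour U] :
    IsCoatom (Subgroup.normalizer (U : Set G)) := by
  refine ⟨normalizer_klein_ne_top h U, ?_⟩
  intro X hX
  have hc := card_normalizer_klein h U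
  have h1 : 24 ∣ Nat.card X := by
    have := Subgroup.card_dvd_of_le hX.le
    rwa [hc] at this
  have h2 : Nat.card X ∣ 168 := by
    have := Subgroup.card_subgroup_dvd_card X
    rwa [h] at this
  have h3 : Nat.card X ≠ 24 := by
    intro h24
    have := Subgroup.eq_of_le_of_card_ge hX.le (by rw [hc, h24])
    exact hX.ne this
  apply Subgroup.eq_top_of_card_eq
  rw [h]
  obtain ⟨c, hc'⟩ := h1
  have hle : Nat.card X ≤ 168 := Nat.le_of_dvd (by norm_num) h2
  have hc7 : c ≤ 7 := by omega
  rw [hc'] at h2 h3 ⊢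
  interval_cases c <;> first | omega | (exfalso; revert h2; decide)

/-- every Sylow 3-normalizer lies in the normalizer of a Klein four-group -/
theorem sylow3_normalizer_le [Fact (Nat.Prime 3)] (Q : Sylow 3 G) :
    ∃ U : Subgroup G, IsKleinFour U ∧
      Subgroup.normalizer ((Q : Subgroup G) : Set G) ≤ Subgroup.normalizer (U : Set G) := by
  obtain ⟨T⟩ : Nonempty (Sylow 2 G) := inferInstance
  obtain ⟨U0, -, hU0⟩ := exists_klein_le h T
  haveI := hU0
  obtain ⟨Q0, hQ0⟩ := Cfsg.Agent.S1003.exists_sylow_le_of_prime_dvd (G := G) (p := 3) (m := 56)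
    (by rw [h]; norm_num) (by norm_num) (Subgroup.normalizer (U0 : Set G))
    (by rw [card_normalizer_klein h U0]; norm_num)
  obtain ⟨g, hg⟩ := MulAction.exists_smul_eq G Q0 Q
  haveI hUK : IsKleinFour (cj g U0) := klein_cj g U0
  refine ⟨cj g U0, hUK, ?_⟩
  set H := Subgroup.normalizer ((cj g U0 : Subgroup G) : Set G) with hH
  have hQH : (Q : Subgroup G) ≤ H := by
    rw [hH, normalizer_cj, ← hg, sylow_smul_eq_cj]
    exact cj_mono hQ0
  have hHc : Nat.card H = 24 := card_normalizer_klein h (cj g U0)
  -- H is not contained in N(Q)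
  have hnot : ¬ H ≤ Subgroup.normalizer ((Q : Subgroup G) : Set G) := by
    intro hle
    have := Subgroup.card_le_of_le hle
    rw [hHc, card_normalizer3 h Q] at this
    omega
  -- so H contains two Sylow 3-subgroups, hence n_3(H) = 4
  have hn4 : Nat.card (Sylow 3 H) = 4 := by
    obtain ⟨m, hmH, hmN⟩ := SetLike.not_le_iff_exists.1 hnot
    have hne : Q ≠ m • Q := by
      intro hh
      exact hmN (Sylow.smul_eq_iff_mem_normalizer.1 hh.symm)
    have hle : ((m • Q : Sylow 3 G) : Subgroup G) ≤ H := by
      rw [sylow_smul_eq_cj]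
      intro x hx
      rw [mem_cj] at hx
      have := H.mul_mem (H.mul_mem hmH (hQH hx)) (H.inv_mem hmH)
      have e : m * (m⁻¹ * x * m) * m⁻¹ = x := by group
      rwa [e] at this
    have h4 := (card_ge_of_two_sylow_le Q (m • Q) hne H hQH hle).1
    obtain ⟨-, hdvd, hmod⟩ := sylow_facts (G := H) (p := 3) (k := 1) (m := 8)
      (by rw [hHc]; norm_num) (by norm_num)
    have hle8 : Nat.card (Sylow 3 H) ≤ 8 := Nat.le_of_dvd (by norm_num) hdvd
    have : Nat.card (Sylow 3 H) = 4 ∨ Nat.card (Sylow 3 H) = 7 := by omega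
    rcases this with h' | h'
    · exact h'
    · exfalso; rw [h'] at hdvd; revert hdvd; decide
  -- |N_H(Q)| = 6
  have hidx : Nat.card (Sylow 3 H) =
      (Subgroup.normalizer (((Q.subtype hQH : Sylow 3 H) : Subgroup H) : Set H)).index :=
    (Q.subtype hQH).card_eq_index_normalizer
  rw [hn4] at hidx
  have hmul := Subgroup.card_mul_index
    (Subgroup.normalizer (((Q.subtype hQH : Sylow 3 H) : Subgroup H) : Set H))
  rw [← hidx, hHc] at hmul
  have hcoe : (((Q.subtype hQH : Sylow 3 H) : Subgroup H)) = (Q : Subgroup G).subgroupOf H :=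
    Sylow.coe_subtype Q hQH
  rw [hcoe, ← Subgroup.subgroupOf_normalizer_eq hQH, card_subgroupOf_eq] at hmul
  have h6 : Nat.card (Subgroup.normalizer ((Q : Subgroup G) : Set G) ⊓ H : Subgroup G) = 6 := by
    omega
  have heq : Subgroup.normalizer ((Q : Subgroup G) : Set G) ⊓ H =
      Subgroup.normalizer ((Q : Subgroup G) : Set G) :=
    Subgroup.eq_of_le_of_card_ge inf_le_left (by rw [h6, card_normalizer3 h Q])
  rw [← heq]
  exact inf_le_right

/-- there is no coatom of order 12 -/
theorem no_coatom12 [Fact (Nat.Prime 3)] (M : Subgroup G) (hM : IsCoatom M) (h12 : Nat.card M = 12) :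
    False := by
  -- a Sylow 3-subgroup of G in M, and a second one
  obtain ⟨Q, hQM⟩ := Cfsg.Agent.S1003.exists_sylow_le_of_prime_dvd (G := G) (p := 3) (m := 56)
    (by rw [h]; norm_num) (by norm_num) M (by rw [h12]; norm_num)
  have hnot : ¬ M ≤ Subgroup.normalizer ((Q : Subgroup G) : Set G) := by
    intro hle
    have := Subgroup.card_le_of_le hle
    rw [h12, card_normalizer3 h Q] at this
    omega
  obtain ⟨m, hmM, hmN⟩ := SetLike.not_le_iff_exists.1 hnot
  have hne : Q ≠ m • Q := by
    intro hh
    exact hmN (Sylow.smul_eq_iff_mem_normalizer.1 hh.symm)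
  have hle : ((m • Q : Sylow 3 G) : Subgroup G) ≤ M := by
    rw [sylow_smul_eq_cj]
    intro x hx
    rw [mem_cj] at hx
    have := M.mul_mem (M.mul_mem hmM (hQM hx)) (M.inv_mem hmM)
    have e : m * (m⁻¹ * x * m) * m⁻¹ = x := by group
    rwa [e] at this
  have h4 := (card_ge_of_two_sylow_le Q (m • Q) hne M hQM hle).1
  -- counting in M
  obtain ⟨hc3, -, -⟩ := sylow_facts (G := M) (p := 3) (k := 1) (m := 4) (by rw [h12]; norm_num) (by norm_num)
  have hc3' : ∀ P : Sylow 3 M, Nat.card (P : Subgroup M) = 3 := by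
    intro P; rw [hc3 P]; norm_num
  have c3 := card_ge_of_TI (G := M) (p := 3) 3 hc3'
    (Cfsg.Agent.S1004.inf_eq_bot_of_prime_card hc3')
  have ctot := card_add_card_add_one_le (G := M) 3 4 (by decide)
  rw [h12] at ctot
  have hB : Nat.card {g : M // g ≠ 1 ∧ g ^ 4 = 1} ≤ 3 := by omega
  -- a Sylow 2-subgroup S of M
  obtain ⟨S⟩ : Nonempty (Sylow 2 M) := inferInstance
  obtain ⟨hc2, -, -⟩ := sylow_facts (G := M) (p := 2) (k := 2) (m := 3) (by rw [h12]; norm_num) (by norm_num)
  have hS4 : Nat.card (S : Subgroup M) = 4 := by rw [hc2 S]; norm_num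
  -- every element of M with g^4 = 1 lies in S
  have hall : ∀ g : M, g ^ 4 = 1 → g ∈ (S : Subgroup M) := by
    classical
    haveI : Fintype (S : Subgroup M) := Fintype.ofFinite _
    let f : {x : (S : Subgroup M) // x ≠ 1} → {g : M // g ≠ 1 ∧ g ^ 4 = 1} := fun x =>
      ⟨(x.1 : M), fun hh => x.2 (Subtype.ext hh), by
        have h0 := pow_card_eq_one' (G := ↥(S : Subgroup M)) (x := x.1)
        rw [hS4] at h0
        have := congrArg Subtype.val h0
        simpa using this⟩
    have hinj : Function.Injective f := by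
      intro a b hab
      have : ((f a).1 : M) = ((f b).1 : M) := congrArg Subtype.val hab
      exact Subtype.ext (Subtype.ext this)
    have hcard : Nat.card {x : (S : Subgroup M) // x ≠ 1} = 3 := by
      rw [Nat.card_eq_fintype_card, Fintype.card_subtype_compl, Fintype.card_subtype_eq,
        ← Nat.card_eq_fintype_card, hS4]
    have hbij := hinj.bijective_of_nat_card_le (by rw [hcard]; exact hB)
    intro g hg
    by_cases hg1 : g = 1
    · rw [hg1]; exact Subgroup.one_mem _
    · obtain ⟨x, hx⟩ := hbij.2 ⟨g, hg1, hg⟩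
      have : (x.1 : M) = g := congrArg Subtype.val hx
      rw [← this]
      exact x.1.2
  -- S' = image of S in G is normalized by M
  set S' : Subgroup G := (S : Subgroup M).map M.subtype with hS'
  have hS'c : Nat.card S' = 4 := by
    rw [hS', Subgroup.card_map_of_injective M.subtype_injective, hS4]
  have hS'M : S' ≤ M := by
    rintro x ⟨s, -, rfl⟩
    exact s.2
  have hMN : M ≤ Subgroup.normalizer (S' : Set G) := by
    intro m hm
    rw [Subgroup.mem_normalizer_iff]
    have key : ∀ (k : G) (hk : k ∈ M) (x : G), x ∈ S' → k * x * k⁻¹ ∈ S' := by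
      intro k hk x hx
      obtain ⟨s, hs, rfl⟩ := hx
      have hs4 : s ^ 4 = 1 := by
        have h0 := pow_card_eq_one' (G := ↥(S : Subgroup M)) (x := ⟨s, hs⟩)
        rw [hS4] at h0
        have := congrArg Subtype.val h0
        simpa using this
      have hmem := hall (⟨k, hk⟩ * s * ⟨k, hk⟩⁻¹) (by
        rw [conj_pow, hs4]; group)
      exact ⟨_, hmem, rfl⟩
    intro x
    constructor
    · exact key m hm x
    · intro hx
      have := key m⁻¹ (M.inv_mem hm) _ hx
      have e : m⁻¹ * (m * x * m⁻¹) * m⁻¹⁻¹ = x := by group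
      rwa [e] at this
  -- a Sylow 2-subgroup T of G containing S'
  have hS'p : IsPGroup 2 S' := IsPGroup.of_card (n := 2) (by rw [hS'c]; norm_num)
  obtain ⟨T, hT⟩ := hS'p.exists_le_sylow
  have hTN : (T : Subgroup G) ≤ Subgroup.normalizer (S' : Set G) :=
    le_normalizer_of_card hT (by rw [card_sylow2 h T, hS'c])
  have hS'b : S' ≠ ⊥ := by
    intro hh; rw [hh, Subgroup.card_bot] at hS'c; omega
  have hS't : S' ≠ ⊤ := by
    intro hh; rw [hh, Subgroup.card_top, h] at hS'c; omega
  have hNt := normalizer_ne_top_of_simple S' hS'b hS't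
  rcases hM.le_iff.1 hMN with h1 | h1
  · exact hNt h1
  · rw [h1] at hTN
    have := Subgroup.card_dvd_of_le hTN
    rw [card_sylow2 h T, h12] at this
    omega

/-- distinct Klein four-subgroups of a Sylow 2-subgroup have distinct normalizers -/
theorem normalizer_klein_ne (T : Sylow 2 G) (U W : Subgroup G) [IsKleinFour U] [IsKleinFour W]
    (hUT : U ≤ (T : Subgroup G)) (hWT : W ≤ (T : Subgroup G)) (hne : U ≠ W) :
    Subgroup.normalizer (U : Set G) ≠ Subgroup.normalizer (W : Set G) := by
  intro hN
  obtain ⟨z, hzT, hz1, hz2, hzc, hzu⟩ := exists_central_involution h T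
  have hzU := central_mem_klein h T U hUT hzu
  have hzW := central_mem_klein h T W hWT hzu
  -- U ⊓ W = {1, z}
  have hcard : Nat.card (U ⊓ W : Subgroup G) = 2 := by
    have h1 : Nat.card (U ⊓ W : Subgroup G) ∣ 4 := by
      have := Subgroup.card_dvd_of_le (inf_le_left : U ⊓ W ≤ U)
      rwa [IsKleinFour.card_four (G := ↥U)] at this
    have h2 : Nat.card (U ⊓ W : Subgroup G) ≠ 4 := by
      intro h4
      apply hne
      have e1 : U ⊓ W = U :=
        Subgroup.eq_of_le_of_card_ge inf_le_left (by rw [h4, IsKleinFour.card_four (G := ↥U)])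
      have e2 : U ⊓ W = W :=
        Subgroup.eq_of_le_of_card_ge inf_le_right (by rw [h4, IsKleinFour.card_four (G := ↥W)])
      exact e1.symm.trans e2
    have h3 : Nat.card (U ⊓ W : Subgroup G) ≠ 1 := by
      intro h1'
      rw [Subgroup.card_eq_one] at h1'
      have : z ∈ U ⊓ W := Subgroup.mem_inf.2 ⟨hzU, hzW⟩
      rw [h1', Subgroup.mem_bot] at this
      exact hz1 this
    have hle : Nat.card (U ⊓ W : Subgroup G) ≤ 4 := Nat.le_of_dvd (by norm_num) h1
    have hpos : 0 < Nat.card (U ⊓ W : Subgroup G) := Nat.card_pos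
    interval_cases (Nat.card (U ⊓ W : Subgroup G)) <;> first | omega | (exfalso; revert h1; decide)
  -- an element of order 3 in N(U)
  obtain ⟨x, hx⟩ := exists_prime_orderOf_dvd_card' (G := Subgroup.normalizer (U : Set G)) 3
    (by rw [card_normalizer_klein h U]; norm_num)
  have hxG : orderOf (x : G) = 3 := by rw [Subgroup.orderOf_coe, hx]
  have hxU : (x : G) ∈ Subgroup.normalizer (U : Set G) := x.2
  have hxW : (x : G) ∈ Subgroup.normalizer (W : Set G) := hN ▸ x.2
  have hconj : (x : G) * z * (x : G)⁻¹ ∈ U ⊓ W :=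
    Subgroup.mem_inf.2 ⟨(Subgroup.mem_normalizer_iff.1 hxU z).1 hzU,
      (Subgroup.mem_normalizer_iff.1 hxW z).1 hzW⟩
  have hconj1 : (x : G) * z * (x : G)⁻¹ ≠ 1 := by
    intro hh
    apply hz1
    have : z = (x : G)⁻¹ * ((x : G) * z * (x : G)⁻¹) * (x : G) := by group
    rw [this, hh]; group
  obtain ⟨w, -, hw⟩ := (Nat.card_eq_two_iff' (1 : (U ⊓ W : Subgroup G))).1 hcard
  have e1 : (⟨z, Subgroup.mem_inf.2 ⟨hzU, hzW⟩⟩ : (U ⊓ W : Subgroup G)) = w :=
    hw _ (fun hh => hz1 (congrArg Subtype.val hh))
  have e2 : (⟨(x : G) * z * (x : G)⁻¹, hconj⟩ : (U ⊓ W : Subgroup G)) = w :=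
    hw _ (fun hh => hconj1 (congrArg Subtype.val hh))
  have hxz : (x : G) * z * (x : G)⁻¹ = z := congrArg Subtype.val (e2.trans e1.symm)
  -- x commutes with the 2-element z
  have hz8 : z ^ 8 = 1 := by
    have : z ^ 8 = (z * z) ^ 4 := by rw [← pow_two, ← pow_mul]
    rw [this, hz2, one_pow]
  have hdvd := card_centralizer_two_elt h hz1 hz8
  have hxmem : (x : G) ∈ Subgroup.centralizer ({z} : Set G) := by
    rw [Subgroup.mem_centralizer_iff]
    intro y hy
    rw [Set.mem_singleton_iff] at hy
    rw [hy]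
    calc z * (x : G) = ((x : G) * z * (x : G)⁻¹) * (x : G) := by rw [hxz]
      _ = (x : G) * z := by group
  have h3 : orderOf (x : G) ∣ Nat.card (Subgroup.centralizer ({z} : Set G)) := by
    have := orderOf_dvd_natCard (⟨(x : G), hxmem⟩ : Subgroup.centralizer ({z} : Set G))
    rwa [Subgroup.orderOf_mk] at this
  rw [hxG] at h3
  have := h3.trans hdvd
  omega

/-- a coatom isomorphic to `S₄` is the normalizer of a Klein four-group -/
theorem coatom_s4 (M : Subgroup G) (hM : IsCoatom M) (e : ↥M ≃* Perm (Fin 4)) :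
    ∃ V : Subgroup G, IsKleinFour V ∧ M = Subgroup.normalizer (V : Set G) := by
  let ι : Perm (Fin 4) →* G := M.subtype.comp e.symm.toMonoidHom
  have hιinj : Function.Injective ι := by
    intro a b hab
    have : (e.symm a : G) = (e.symm b : G) := hab
    exact e.symm.injective (Subtype.ext this)
  set V : Subgroup G := V4.map ι with hV
  have hVK : IsKleinFour V := by
    apply isKleinFour_of
    · rw [hV, Subgroup.card_map_of_injective hιinj, card_V4]
    · rintro x ⟨v, hv, rfl⟩
      rw [← map_mul, p5 v hv, map_one]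
  haveI := hVK
  refine ⟨V, hVK, ?_⟩
  have hMN : M ≤ Subgroup.normalizer (V : Set G) := by
    intro m hm
    rw [Subgroup.mem_normalizer_iff]
    have key : ∀ (k : G) (hk : k ∈ M) (x : G), x ∈ V → k * x * k⁻¹ ∈ V := by
      intro k hk x hx
      obtain ⟨v, hv, rfl⟩ := hx
      refine ⟨e ⟨k, hk⟩ * v * (e ⟨k, hk⟩)⁻¹, p6 v hv _, ?_⟩
      rw [map_mul, map_mul, map_inv]
      have : ι (e ⟨k, hk⟩) = k := by
        show ((e.symm (e ⟨k, hk⟩) : ↥M) : G) = k
        rw [MulEquiv.symm_apply_apply]
      rw [this]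
    intro x
    constructor
    · exact key m hm x
    · intro hx
      have := key m⁻¹ (M.inv_mem hm) _ hx
      have e' : m⁻¹ * (m * x * m⁻¹) * m⁻¹⁻¹ = x := by group
      rwa [e'] at this
  rcases hM.le_iff.1 hMN with h1 | h1
  · exact absurd h1 (normalizer_klein_ne_top h V)
  · exact h1.symm

end

/-- In a simple group of order 168 every maximal subgroup is either isomorphic to the symmetric group of degree 4 or non-abelian of order 21; the maximal subgroups of order 21 form one conjugacy class and those isomorphic to the symmetric group of degree 4 form exactly two conjugacy classes. -/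
theorem result {G : Type*} [Group G] [Finite G] [IsSimpleGroup G] (h : Nat.card G = 168) : (∀ M : Subgroup G, IsCoatom M → Nonempty (↥M ≃* Equiv.Perm (Fin 4)) ∨ (Nat.card ↥M = 21 ∧ ¬ IsMulCommutative ↥M)) ∧ (∀ M M' : Subgroup G, IsCoatom M → IsCoatom M' → Nat.card ↥M = 21 → Nat.card ↥M' = 21 → ∃ g : G, M' = M.map (MulAut.conj g).toMonoidHom) ∧ ∃ M₁ M₂ : Subgroup G, IsCoatom M₁ ∧ IsCoatom M₂ ∧ Nonempty (↥M₁ ≃* Equiv.Perm (Fin 4)) ∧ Nonempty (↥M₂ ≃* Equiv.Perm (Fin 4)) ∧ (∀ g : G, M₂ ≠ M₁.map (MulAut.conj g).toMonoidHom) ∧ ∀ M : Subgroup G, IsCoatom M → Nonempty (↥M ≃* Equiv.Perm (Fin 4)) → ∃ g : G, M = M₁.map (MulAut.conj g).toMonoidHom ∨ M = M₂.map (MulAut.conj g).toMonoidHom := by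
  haveI : Fact (Nat.Prime 3) := ⟨by norm_num⟩
  haveI : Fact (Nat.Prime 7) := ⟨by norm_num⟩
  refine ⟨?_, ?_, ?_⟩
  · -- part A
    intro M hM
    have hle := card_le_of_ne_top h M hM.1
    have hdvd : Nat.card M ∣ 168 := by
      have := Subgroup.card_subgroup_dvd_card M
      rwa [h] at this
    by_cases h7 : 7 ∣ Nat.card M
    · right
      obtain ⟨P, hP⟩ := coatom7 h M hM h7
      refine ⟨by rw [hP]; exact card_normalizer7 h P, ?_⟩
      intro hcomm
      apply Cfsg.Agent.S0073.not_normalizer_le_centralizer (nonab h) P (by rw [h]; norm_num)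
      rw [← hP]
      intro x hx
      rw [Subgroup.mem_centralizer_iff]
      intro y hy
      have hyM : y ∈ M := by rw [hP]; exact Subgroup.le_normalizer hy
      have := hcomm.is_comm.comm (⟨y, hyM⟩ : M) ⟨x, hx⟩
      exact congrArg Subtype.val this
    · left
      have h24 : Nat.card M ∣ 24 := by
        have hc : Nat.Coprime (Nat.card M) 7 :=
          Nat.coprime_comm.1 ((Nat.Prime.coprime_iff_not_dvd (by norm_num)).2 h7)
        have : (168 : ℕ) = 24 * 7 := by norm_num
        rw [this] at hdvd
        exact hc.dvd_of_dvd_mul_right hdvd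
      by_cases h3 : 3 ∣ Nat.card M
      · -- contains a Sylow 3-subgroup Q
        obtain ⟨Q, hQM⟩ := Cfsg.Agent.S1003.exists_sylow_le_of_prime_dvd (G := G) (p := 3)
          (m := 56) (by rw [h]; norm_num) (by norm_num) M h3
        by_cases hMN : M ≤ Subgroup.normalizer ((Q : Subgroup G) : Set G)
        · exfalso
          obtain ⟨U, hUK, hU⟩ := sylow3_normalizer_le h Q
          haveI := hUK
          have hMU : M ≤ Subgroup.normalizer (U : Set G) := hMN.trans hU
          rcases hM.le_iff.1 hMU with h1 | h1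
          · exact normalizer_klein_ne_top h U h1
          · have c1 := card_normalizer_klein h U
            rw [h1] at c1
            have c2 := Subgroup.card_le_of_le hMN
            rw [c1, card_normalizer3 h Q] at c2
            omega
        · -- two Sylow 3-subgroups in M: order 12 or 24
          obtain ⟨m, hmM, hmN⟩ := SetLike.not_le_iff_exists.1 hMN
          have hne : Q ≠ m • Q := by
            intro hh
            exact hmN (Sylow.smul_eq_iff_mem_normalizer.1 hh.symm)
          have hle2 : ((m • Q : Sylow 3 G) : Subgroup G) ≤ M := by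
            rw [sylow_smul_eq_cj]
            intro x hx
            rw [mem_cj] at hx
            have := M.mul_mem (M.mul_mem hmM (hQM hx)) (M.inv_mem hmM)
            have e : m * (m⁻¹ * x * m) * m⁻¹ = x := by group
            rwa [e] at this
          have h12 := (card_ge_of_two_sylow_le Q (m • Q) hne M hQM hle2).2
          rw [card_sylow3 h Q] at h12
          have hcases : Nat.card M = 12 ∨ Nat.card M = 24 := by
            obtain ⟨c, hc⟩ := h24
            have hpos : 0 < Nat.card M := Nat.card_pos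
            have hc2 : c = 1 ∨ c = 2 := by
              rcases c with _ | _ | _ | c
              · omega
              · left; rfl
              · right; rfl
              · exfalso; nlinarith
            rcases hc2 with rfl | rfl <;> omega
          rcases hcases with hc | hc
          · exact (no_coatom12 h M hM hc).elim
          · apply Cfsg.Agent.S1012.result hc
            intro g hg
            have hgG : orderOf (g : G) = 6 := by rw [Subgroup.orderOf_coe, hg]
            rcases Cfsg.Agent.S1005.orderOf_mem h (g : G) with ho | ho | ho | ho | ho <;> omega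
      · -- M is a 2-group
        exfalso
        have h8 : Nat.card M ∣ 8 := by
          have hc : Nat.Coprime (Nat.card M) 3 :=
            Nat.coprime_comm.1 ((Nat.Prime.coprime_iff_not_dvd Nat.prime_three).2 h3)
          have : (24 : ℕ) = 8 * 3 := by norm_num
          rw [this] at h24
          exact hc.dvd_of_dvd_mul_right h24
        have hMp : IsPGroup 2 M := by
          obtain ⟨k, -, hk⟩ := (Nat.dvd_prime_pow Nat.prime_two).1 (show Nat.card M ∣ 2 ^ 3 from h8)
          exact IsPGroup.of_card hk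
        obtain ⟨T, hT⟩ := hMp.exists_le_sylow
        obtain ⟨U, hUT, hUK⟩ := exists_klein_le h T
        haveI := hUK
        have hMU : M ≤ Subgroup.normalizer (U : Set G) :=
          hT.trans (sylow_le_normalizer_klein h T U hUT)
        rcases hM.le_iff.1 hMU with h1 | h1
        · exact normalizer_klein_ne_top h U h1
        · have c1 := card_normalizer_klein h U
          rw [h1] at c1
          rw [c1] at h8
          revert h8; decide
  · -- part B
    intro M M' hM hM' h21 h21'
    obtain ⟨P, hP⟩ := coatom7 h M hM (by rw [h21]; norm_num)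
    obtain ⟨P', hP'⟩ := coatom7 h M' hM' (by rw [h21']; norm_num)
    obtain ⟨g, hg⟩ := MulAction.exists_smul_eq G P P'
    refine ⟨g, ?_⟩
    show M' = cj g M
    rw [hP, hP', ← normalizer_cj, ← sylow_smul_eq_cj, hg]
  · -- part C
    obtain ⟨T⟩ : Nonempty (Sylow 2 G) := inferInstance
    have hcount := (Cfsg.Agent.S1007.result h T).1
    obtain ⟨⟨U1, hU1T, hU1K⟩, ⟨U2, hU2T, hU2K⟩, hne12, huniv⟩ := Nat.card_eq_two_iff.1 hcount
    haveI := hU1K
    haveI := hU2K
    have hneU : U1 ≠ U2 := fun hh => hne12 (Subtype.ext hh)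
    refine ⟨Subgroup.normalizer (U1 : Set G), Subgroup.normalizer (U2 : Set G),
      normalizer_klein_coatom h U1, normalizer_klein_coatom h U2, normalizer_klein_iso h U1,
      normalizer_klein_iso h U2, ?_, ?_⟩
    · -- not conjugate
      intro g hg
      have hg' : Subgroup.normalizer (U2 : Set G) = cj g (Subgroup.normalizer (U1 : Set G)) := hg
      set N2 := Subgroup.normalizer (U2 : Set G) with hN2
      have hTN1 : (T : Subgroup G) ≤ Subgroup.normalizer (U1 : Set G) :=
        sylow_le_normalizer_klein h T U1 hU1T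
      have hTN2 : (T : Subgroup G) ≤ N2 := sylow_le_normalizer_klein h T U2 hU2T
      have hgT : ((g • T : Sylow 2 G) : Subgroup G) ≤ N2 := by
        rw [sylow_smul_eq_cj, hg']
        exact cj_mono hTN1
      obtain ⟨n, hnN, hn⟩ := exists_conj_in_subgroup (g • T) T N2 hgT hTN2
      have hngT : n * g ∈ (T : Subgroup G) := by
        have h1 : (n * g) • T = T := by rw [mul_smul]; exact hn
        have h2 : n * g ∈ Subgroup.normalizer ((T : Subgroup G) : Set G) :=
          Sylow.smul_eq_iff_mem_normalizer.1 h1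
        rw [normalizer2 h T] at h2
        exact h2
      have hngN1 : n * g ∈ Subgroup.normalizer (U1 : Set G) := hTN1 hngT
      -- N2 = cj n N2 = cj (n g) N1 = N1
      have e1 : cj n N2 = N2 := by
        have hnn : n ∈ Subgroup.normalizer ((N2 : Subgroup G) : Set G) := Subgroup.le_normalizer hnN
        exact cj_eq_self hnn
      have e2 : cj (n * g) (Subgroup.normalizer (U1 : Set G)) = Subgroup.normalizer (U1 : Set G) :=
        cj_eq_self (Subgroup.le_normalizer hngN1)
      have e3 : N2 = Subgroup.normalizer (U1 : Set G) := by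
        rw [← e1, hg', cj_cj, e2]
      exact normalizer_klein_ne h T U1 U2 hU1T hU2T hneU e3.symm
    · -- every S4-coatom is conjugate to one of them
      intro M hM ⟨e⟩
      obtain ⟨V, hVK, hMV⟩ := coatom_s4 h M hM e
      haveI := hVK
      obtain ⟨T', hVT'⟩ := klein_le_sylow h V
      obtain ⟨g, hg⟩ := MulAction.exists_smul_eq G T T'
      -- cj g⁻¹ V ≤ T is Klein, hence U1 or U2
      haveI hK' : IsKleinFour (cj g⁻¹ V) := klein_cj g⁻¹ V
      have hle : cj g⁻¹ V ≤ (T : Subgroup G) := by
        intro x hx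
        rw [mem_cj, inv_inv] at hx
        have := hVT' hx
        rw [← hg, sylow_smul_eq_cj, mem_cj] at this
        have e' : g⁻¹ * (g * x * g⁻¹) * g = x := by group
        rwa [e'] at this
      have hmem : (⟨cj g⁻¹ V, hle, hK'⟩ : {U : Subgroup G // U ≤ (T : Subgroup G) ∧ IsKleinFour ↥U}) ∈
          (Set.univ : Set _) := Set.mem_univ _
      rw [← huniv] at hmem
      have hV : V = cj g (cj g⁻¹ V) := by
        rw [cj_cj, mul_inv_cancel]
        ext x
        rw [mem_cj]
        simp
      refine ⟨g, ?_⟩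
      rcases hmem with h1 | h1
      · left
        have : cj g⁻¹ V = U1 := congrArg Subtype.val h1
        show M = cj g (Subgroup.normalizer (U1 : Set G))
        rw [hMV, ← normalizer_cj, ← this, ← hV]
      · right
        rw [Set.mem_singleton_iff] at h1
        have : cj g⁻¹ V = U2 := congrArg Subtype.val h1
        show M = cj g (Subgroup.normalizer (U2 : Set G))
        rw [hMV, ← normalizer_cj, ← this, ← hV]

end Cfsg.Agent.S1008
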