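import Mathlib
import Cfsg.Statements.S1009
import Cfsg.Agent.S0060

set_option autoImplicit false
open Pointwise
open Cfsg

namespace Cfsg.Agent.S1009

open Cfsg.Agent.S0060 (mem_conj_smul exists_conj_le)

/-- Brodkey's Theorem: if a finite group has abelian Sylow p-subgroups, then there are two Sylow p-subgroups whose intersection equals the intersection of all Sylow p-subgroups. -/
theorem result {G : Type*} [Group G] [Finite G] (p : ℕ) [Fact p.Prime] (hab : ∀ P : Sylow p G, IsMulCommutative ↥(P : Subgroup G)) : ∃ P Q : Sylow p G, (P : Subgroup G) ⊓ (Q : Subgroup G) = ⨅ R : Sylow p G, (R : Subgroup G) := by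
  classical
  have hcomm : ∀ P : Sylow p G, ∀ x ∈ (P : Subgroup G), ∀ y ∈ (P : Subgroup G), x * y = y * x := by
    intro P x hx y hy
    have := (isMulCommutative_iff.1 (hab P)) ⟨x, hx⟩ ⟨y, hy⟩
    exact congrArg Subtype.val this
  -- minimal intersection
  obtain ⟨⟨P, Q⟩, hmin⟩ := Finite.exists_min
    (fun PQ : Sylow p G × Sylow p G => Nat.card ((PQ.1 : Subgroup G) ⊓ (PQ.2 : Subgroup G) : Subgroup G))
  simp only at hmin
  refine ⟨P, Q, ?_⟩
  set D : Subgroup G := (P : Subgroup G) ⊓ (Q : Subgroup G) with hD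
  set N := Subgroup.normalizer (D : Set G) with hN
  have hle_norm : ∀ R : Sylow p G, D ≤ (R : Subgroup G) → (R : Subgroup G) ≤ N := by
    intro R hDR x hx
    rw [hN, Subgroup.mem_normalizer_iff]
    intro d
    constructor
    · intro hd
      have : x * d * x⁻¹ = d := by
        rw [hcomm R x hx d (hDR hd), mul_assoc, mul_inv_cancel, mul_one]
      rw [this]; exact hd
    · intro hd
      have h1 := hcomm R x⁻¹ (Subgroup.inv_mem _ hx) _ (hDR hd)
      have : d = x⁻¹ * (x * d * x⁻¹) * x := by group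
      rw [this, h1]
      have : x * d * x⁻¹ * x⁻¹ * x = x * d * x⁻¹ := by group
      rw [this]; exact hd
  have hPN : (P : Subgroup G) ≤ N := hle_norm P inf_le_left
  have hQN : (Q : Subgroup G) ≤ N := hle_norm Q inf_le_right
  have hDall : ∀ R : Sylow p G, D ≤ (R : Subgroup G) := by
    intro R
    obtain ⟨n, hnN, hn⟩ := exists_conj_le N P hPN ((R : Subgroup G) ⊓ N)
      (R.isPGroup'.to_le inf_le_left) inf_le_right
    have hRQ : ((n • R : Sylow p G) : Subgroup G) ⊓ (Q : Subgroup G) ≤ D := by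
      intro x hx
      obtain ⟨hx1, hx2⟩ := Subgroup.mem_inf.1 hx
      refine Subgroup.mem_inf.2 ⟨?_, hx2⟩
      rw [Sylow.smul_def, Sylow.pointwise_smul_def, mem_conj_smul] at hx1
      have hxN : n⁻¹ * x * n ∈ N := N.mul_mem (N.mul_mem (N.inv_mem hnN) (hQN hx2)) hnN
      have := hn _ (Subgroup.mem_inf.2 ⟨hx1, hxN⟩)
      have e : n * (n⁻¹ * x * n) * n⁻¹ = x := by group
      rwa [e] at this
    have hcard : Nat.card D ≤ Nat.card (((n • R : Sylow p G) : Subgroup G) ⊓ (Q : Subgroup G) : Subgroup G) :=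
      hmin (n • R, Q)
    have heq : ((n • R : Sylow p G) : Subgroup G) ⊓ (Q : Subgroup G) = D := by
      apply Subgroup.eq_of_le_of_card_ge hRQ hcard
    intro d hd
    have hnorm := (Subgroup.mem_normalizer_iff.1 hnN)
    have h1 : n * d * n⁻¹ ∈ D := (hnorm d).1 hd
    have h2 : n * d * n⁻¹ ∈ ((n • R : Sylow p G) : Subgroup G) := by
      have : n * d * n⁻¹ ∈ ((n • R : Sylow p G) : Subgroup G) ⊓ (Q : Subgroup G) := heq ▸ h1
      exact (Subgroup.mem_inf.1 this).1
    rw [Sylow.smul_def, Sylow.pointwise_smul_def, mem_conj_smul] at h2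
    have e : n⁻¹ * (n * d * n⁻¹) * n = d := by group
    rwa [e] at h2
  apply le_antisymm
  · exact le_iInf hDall
  · exact le_inf (iInf_le _ P) (iInf_le _ Q)

end Cfsg.Agent.S1009
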