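import Mathlib
import Cfsg.Agent.Lib.Helper16.Simple504c
import Cfsg.Agent.Lib.Helper2.PSLMapEquiv
import Cfsg.Agent.S1230
import Cfsg.Statements.S1011
-- import your own Cfsg.Agent.* helpers here

set_option autoImplicit false
open Cfsg

namespace Cfsg.Agent.S1011

open Cfsg.Agent.Helper16 Cfsg.Agent.Helper16.O504

/-- A simple group of order 504 is isomorphic to the projective special linear group of dimension 2 over the field with 8 elements. -/
theorem result {G : Type*} [Group G] [Finite G] [IsSimpleGroup G] (h : Nat.card G = 504) {F : Type*} [Field F] [Fintype F] (hF : Fintype.card F = 8) : Nonempty (G ≃* Matrix.ProjectiveSpecialLinearGroup (Fin 2) F) := by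
  classical
  have : Fact (Nat.Prime 2) := ⟨Nat.prime_two⟩
  obtain ⟨T⟩ : Nonempty (Sylow 2 G) := inferInstance
  have hT8 := sylow2_card h T
  have hnc : ¬ IsCyclic (T : Subgroup G) := by
    intro hcyc
    obtain ⟨g, hg⟩ := IsCyclic.exists_ofOrder_eq_natCard (α := (T : Subgroup G))
    rw [hT8] at hg
    have h2 : (g : G) * (g : G) = 1 := sylow2_sq h T g.2
    have h3 : g ^ 2 = 1 := by
      apply Subtype.ext
      rw [pow_two]
      exact h2
    have := orderOf_dvd_of_pow_eq_one h3
    rw [hg] at this
    norm_num at this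
  have hnn : ¬ (T : Subgroup G).Normal := by
    intro hn
    rcases hn.eq_bot_or_eq_top with hb | ht
    · rw [hb] at hT8; simp at hT8
    · rw [ht, Subgroup.card_top, h] at hT8; norm_num at hT8
  have hC : ∀ t : G, orderOf t = 2 →
      IsMulCommutative (Subgroup.centralizer ({t} : Set G)) ∧
        ∀ c ∈ Subgroup.centralizer ({t} : Set G), c ^ 2 = 1 := by
    intro t ht
    have hdvd := card_centralizer_involution_dvd h ht
    have hpg : IsPGroup 2 (Subgroup.centralizer ({t} : Set G)) := by
      have hdvd' : Nat.card (Subgroup.centralizer ({t} : Set G)) ∣ 2 ^ 3 := by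
        norm_num; exact hdvd
      obtain ⟨j, -, hj⟩ := (Nat.dvd_prime_pow Nat.prime_two).1 hdvd'
      exact IsPGroup.of_card hj
    obtain ⟨Q, hQ⟩ := hpg.exists_le_sylow
    have hsq : ∀ c ∈ Subgroup.centralizer ({t} : Set G), c ^ 2 = 1 := by
      intro c hc
      rw [pow_two]
      exact sylow2_sq h Q (hQ hc)
    refine ⟨⟨⟨fun a b => ?_⟩⟩, hsq⟩
    apply comm_of_forall_sq_eq_one
    intro x
    apply Subtype.ext
    exact hsq x x.2
  obtain ⟨F', instF, instFin, hF', ⟨e⟩⟩ := Cfsg.Agent.S1230.result T hnc hnn hC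
  have hcard : Fintype.card F' = Fintype.card F := by
    rw [hF', hF]; exact hT8
  exact ⟨e.trans (Cfsg.Agent.Helper2.pslMapEquiv (FiniteField.ringEquivOfCardEq hcard))⟩

end Cfsg.Agent.S1011
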