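import Mathlib
import Cfsg.Statements.S1018

set_option autoImplicit false
open Pointwise
open Cfsg

namespace Cfsg.Agent.S1018

variable {G : Type*} [Group G]

theorem mem_conj_smul {g x : G} {H : Subgroup G} :
    x ∈ MulAut.conj g • H ↔ g⁻¹ * x * g ∈ H := by
  rw [Subgroup.mem_pointwise_smul_iff_inv_smul_mem, ← map_inv, MulAut.smul_def, MulAut.conj_apply,
    inv_inv]

theorem fix_iff (N : Subgroup G) (g a : G) :
    g • (a : G ⧸ N) = (a : G ⧸ N) ↔ a⁻¹ * g * a ∈ N := by
  rw [MulAction.Quotient.smul_coe, smul_eq_mul, QuotientGroup.eq]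
  have : (g * a)⁻¹ * a = (a⁻¹ * g * a)⁻¹ := by group
  rw [this, inv_mem_iff]

/-- Let P be a Sylow p-subgroup of order p of a finite group G, and consider the action of G on the left cosets of the normalizer N of P. Then every element of order p fixes exactly one coset, and an element of N that does not centralize P fixes at most as many cosets as there are orbits of P. -/
theorem result {G : Type*} [Group G] [Finite G] (p : ℕ) [Fact p.Prime] (P : Sylow p G) (hP : Nat.card ↥(P : Subgroup G) = p) : (∀ y : G, orderOf y = p → Nat.card (MulAction.fixedBy (G ⧸ Subgroup.normalizer ((P : Subgroup G) : Set G)) y) = 1) ∧ ∀ x : G, x ∈ Subgroup.normalizer ((P : Subgroup G) : Set G) → x ∉ Subgroup.centralizer ((P : Subgroup G) : Set G) → Nat.card (MulAction.fixedBy (G ⧸ Subgroup.normalizer ((P : Subgroup G) : Set G)) x) ≤ Nat.card (MulAction.orbitRel.Quotient ↥(P : Subgroup G) (G ⧸ Subgroup.normalizer ((P : Subgroup G) : Set G))) := by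
  classical
  have hpp : p.Prime := Fact.out
  set N := Subgroup.normalizer ((P : Subgroup G) : Set G) with hN
  have hPN : (P : Subgroup G) ≤ N := Subgroup.le_normalizer
  -- (F1)
  have F1 : ∀ w ∈ N, w ^ p = 1 → w ∈ (P : Subgroup G) := by
    intro w hw hwp
    have hZ : IsPGroup p (Subgroup.zpowers w) := by
      rintro ⟨g, hg⟩
      obtain ⟨n, rfl⟩ := Subgroup.mem_zpowers_iff.1 hg
      refine ⟨1, ?_⟩
      apply Subtype.ext
      simp only [pow_one, Subgroup.coe_pow, Subgroup.coe_one]
      rw [← zpow_natCast, ← zpow_mul, mul_comm, zpow_mul, zpow_natCast, hwp, one_zpow]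
    have h1 := hZ.inf_normalizer_sylow P
    have h2 : w ∈ Subgroup.zpowers w ⊓ (P : Subgroup G) := by
      rw [← h1]
      exact Subgroup.mem_inf.2 ⟨Subgroup.mem_zpowers w, hw⟩
    exact (Subgroup.mem_inf.1 h2).2
  -- (F2) a nontrivial element of P generates P
  have F2 : ∀ v ∈ (P : Subgroup G), v ≠ 1 → ∀ u ∈ (P : Subgroup G), u ∈ Subgroup.zpowers v := by
    intro v hv hv1 u hu
    have hv1' : (⟨v, hv⟩ : (P : Subgroup G)) ≠ 1 := fun h => hv1 (congrArg Subtype.val h)
    have := zpowers_eq_top_of_prime_card hP hv1'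
    have hu' : (⟨u, hu⟩ : (P : Subgroup G)) ∈ Subgroup.zpowers (⟨v, hv⟩ : (P : Subgroup G)) := by
      rw [this]; trivial
    obtain ⟨n, hn⟩ := Subgroup.mem_zpowers_iff.1 hu'
    rw [Subgroup.mem_zpowers_iff]
    exact ⟨n, by have := congrArg Subtype.val hn; simpa using this⟩
  have hpow : ∀ v ∈ (P : Subgroup G), v ^ p = 1 := by
    intro v hv
    have : (⟨v, hv⟩ : (P : Subgroup G)) ^ p = 1 := by
      have h0 := pow_card_eq_one' (G := ↥(P : Subgroup G)) (x := ⟨v, hv⟩)
      rw [hP] at h0
      exact h0
    have := congrArg Subtype.val this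
    simpa using this
  -- (F3) if a nontrivial element w of P lies in a conjugate of P then the conjugating element is in N
  have hcardconj : ∀ a : G, Nat.card (MulAut.conj a • (P : Subgroup G) : Subgroup G) = p := by
    intro a
    exact (Nat.card_congr (Subgroup.equivSMul (MulAut.conj a) (P : Subgroup G)).toEquiv).symm.trans hP
  have F3 : ∀ (w a b : G), w ≠ 1 → w ^ p = 1 → w ∈ MulAut.conj a • (P : Subgroup G) →
      w ∈ MulAut.conj b • (P : Subgroup G) → a⁻¹ * b ∈ N := by
    intro w a b hw1 hwp hwa hwb
    have hord : orderOf w = p := orderOf_eq_prime hwp hw1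
    have hz : Nat.card (Subgroup.zpowers w) = p := by rw [Nat.card_zpowers, hord]
    have ha : Subgroup.zpowers w = MulAut.conj a • (P : Subgroup G) := by
      apply Subgroup.eq_of_le_of_card_ge
      · rw [Subgroup.zpowers_le]; exact hwa
      · rw [hz, hcardconj]
    have hb : Subgroup.zpowers w = MulAut.conj b • (P : Subgroup G) := by
      apply Subgroup.eq_of_le_of_card_ge
      · rw [Subgroup.zpowers_le]; exact hwb
      · rw [hz, hcardconj]
    have hab : MulAut.conj a • (P : Subgroup G) = MulAut.conj b • (P : Subgroup G) := ha.symm.trans hb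
    -- a⁻¹ b normalizes P
    rw [hN, Subgroup.mem_normalizer_iff]
    intro h
    have key : ∀ z : G, a * z * a⁻¹ ∈ MulAut.conj a • (P : Subgroup G) ↔ z ∈ (P : Subgroup G) := by
      intro z
      rw [mem_conj_smul]
      have : a⁻¹ * (a * z * a⁻¹) * a = z := by group
      rw [this]
    have key' : ∀ z : G, a * z * a⁻¹ ∈ MulAut.conj b • (P : Subgroup G) ↔
        (a⁻¹ * b)⁻¹ * z * (a⁻¹ * b) ∈ (P : Subgroup G) := by
      intro z
      rw [mem_conj_smul]
      have : b⁻¹ * (a * z * a⁻¹) * b = (a⁻¹ * b)⁻¹ * z * (a⁻¹ * b) := by group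
      rw [this]
    -- h ∈ P ↔ (a⁻¹b) h (a⁻¹b)⁻¹ ∈ P
    have h1 := key' ((a⁻¹ * b) * h * (a⁻¹ * b)⁻¹)
    have e : (a⁻¹ * b)⁻¹ * ((a⁻¹ * b) * h * (a⁻¹ * b)⁻¹) * (a⁻¹ * b) = h := by group
    rw [e, ← hab, key] at h1
    exact h1.symm
  constructor
  · -- part 1
    intro y hy
    have hy1 : y ≠ 1 := by
      intro h; rw [h, orderOf_one] at hy; exact hpp.one_lt.ne hy
    have hyp : y ^ p = 1 := by rw [← hy]; exact pow_orderOf_eq_one y
    rw [Nat.card_eq_one_iff_unique]
    constructor
    · -- uniqueness
      constructor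
      rintro ⟨q, hq⟩ ⟨q', hq'⟩
      apply Subtype.ext
      show q = q'
      induction q using QuotientGroup.induction_on with
      | H a =>
        induction q' using QuotientGroup.induction_on with
        | H b =>
          rw [MulAction.mem_fixedBy, fix_iff] at hq hq'
          have ha : y ∈ MulAut.conj a • (P : Subgroup G) := by
            rw [mem_conj_smul]
            apply F1 _ hq
            have : (a⁻¹ * y * a) ^ p = a⁻¹ * y ^ p * a := by
              rw [show a⁻¹ * y * a = a⁻¹ * y * a⁻¹⁻¹ by rw [inv_inv], conj_pow, inv_inv]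
            rw [this, hyp]; group
          have hb : y ∈ MulAut.conj b • (P : Subgroup G) := by
            rw [mem_conj_smul]
            apply F1 _ hq'
            have : (b⁻¹ * y * b) ^ p = b⁻¹ * y ^ p * b := by
              rw [show b⁻¹ * y * b = b⁻¹ * y * b⁻¹⁻¹ by rw [inv_inv], conj_pow, inv_inv]
            rw [this, hyp]; group
          exact QuotientGroup.eq.2 (F3 y a b hy1 hyp ha hb)
    · -- existence
      have hf : (Nat.card G).factorization p = 1 := by
        have := P.card_eq_multiplicity
        rw [hP] at this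
        have h2 : p ^ 1 = p ^ (Nat.card G).factorization p := by rw [pow_one]; exact this
        exact (Nat.pow_right_injective hpp.two_le h2).symm
      have hz : Nat.card (Subgroup.zpowers y) = p ^ (Nat.card G).factorization p := by
        rw [Nat.card_zpowers, hy, hf, pow_one]
      obtain ⟨g, hg⟩ := MulAction.exists_smul_eq G P (Sylow.ofCard (Subgroup.zpowers y) hz)
      have hg' : MulAut.conj g • (P : Subgroup G) = Subgroup.zpowers y := by
        have := congrArg (fun S : Sylow p G => (S : Subgroup G)) hg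
        simpa [Sylow.smul_def, Sylow.pointwise_smul_def] using this
      refine ⟨⟨(g : G ⧸ N), ?_⟩⟩
      rw [MulAction.mem_fixedBy, fix_iff]
      apply hPN
      rw [← mem_conj_smul, hg']
      exact Subgroup.mem_zpowers y
  · -- part 2
    intro x hxN hxC
    have hxnorm : ∀ v ∈ (P : Subgroup G), x * v * x⁻¹ ∈ (P : Subgroup G) := by
      intro v hv
      exact (Subgroup.mem_normalizer_iff.1 hxN v).1 hv
    let f : MulAction.fixedBy (G ⧸ N) x → MulAction.orbitRel.Quotient ↥(P : Subgroup G) (G ⧸ N) :=
      fun q => Quotient.mk'' (q : G ⧸ N)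
    apply Nat.card_le_card_of_injective f
    rintro ⟨q, hq⟩ ⟨q', hq'⟩ hqq
    apply Subtype.ext
    show q = q'
    have hrel : (MulAction.orbitRel ↥(P : Subgroup G) (G ⧸ N)) q q' := Quotient.exact' hqq
    rw [MulAction.orbitRel_apply, MulAction.mem_orbit_iff] at hrel
    obtain ⟨⟨v, hv⟩, hvq⟩ := hrel
    have hvq' : v • q' = q := hvq
    rw [MulAction.mem_fixedBy] at hq hq'
    -- w = v⁻¹ * (x v x⁻¹) fixes q'
    set w := v⁻¹ * (x * v * x⁻¹) with hw
    have hwP : w ∈ (P : Subgroup G) := Subgroup.mul_mem _ (Subgroup.inv_mem _ hv) (hxnorm v hv)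
    have hxinv : x⁻¹ • q' = q' := by rw [inv_smul_eq_iff, hq']
    have hwq : w • q' = q' := by
      rw [hw, mul_smul, mul_smul, mul_smul, hxinv, hvq', hq, ← hvq', ← mul_smul, inv_mul_cancel, one_smul]
    by_cases hw1 : w = 1
    · -- x commutes with v
      have hcomm : x * v * x⁻¹ = v := by
        have : v * w = v := by rw [hw1, mul_one]
        rw [hw, ← mul_assoc, mul_inv_cancel, one_mul] at this
        exact this
      by_cases hv1 : v = 1
      · rw [← hvq', hv1, one_smul]
      · exfalso
        apply hxC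
        rw [Subgroup.mem_centralizer_iff]
        intro u hu
        obtain ⟨n, rfl⟩ := Subgroup.mem_zpowers_iff.1 (F2 v hv hv1 u hu)
        have hc : Commute x v := by
          have : x * v = v * x := by
            calc x * v = (x * v * x⁻¹) * x := by group
              _ = v * x := by rw [hcomm]
          exact this
        exact ((hc.zpow_right n).eq).symm
    · -- w ≠ 1 fixes q' = aN → a ∈ N
      induction q' using QuotientGroup.induction_on with
      | H a =>
        rw [fix_iff] at hwq
        have hwp : w ^ p = 1 := hpow w hwP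
        have h1 : a⁻¹ * w * a ∈ (P : Subgroup G) := by
          apply F1 _ hwq
          have : (a⁻¹ * w * a) ^ p = a⁻¹ * w ^ p * a := by
            rw [show a⁻¹ * w * a = a⁻¹ * w * a⁻¹⁻¹ by rw [inv_inv], conj_pow, inv_inv]
          rw [this, hwp]; group
        have h2 : w ∈ MulAut.conj a • (P : Subgroup G) := mem_conj_smul.2 h1
        have h3 : w ∈ MulAut.conj (1 : G) • (P : Subgroup G) := by
          rw [map_one, one_smul]; exact hwP
        have h4 := F3 w 1 a hw1 hwp h3 h2
        rw [inv_one, one_mul] at h4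
        -- a ∈ N, so q' is the trivial coset and v fixes it
        rw [← hvq']
        rw [fix_iff]
        exact N.mul_mem (N.mul_mem (N.inv_mem h4) (hPN hv)) h4

end Cfsg.Agent.S1018
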