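import Mathlib
import Cfsg.Statements.S1014
import Cfsg.Agent.Lib.Lead.SylowTools
import Cfsg.Agent.Lib.Lead.PermTools
import Cfsg.Agent.S1018

set_option autoImplicit false
open Cfsg

namespace Cfsg.Agent.S1014

/-- For a Sylow subgroup `P` of prime order `p`, the number of orbits of `P` on the cosets of its
normalizer, times `p`, equals `n_p + (p - 1)`. -/
theorem card_orbits_mul {G : Type*} [Group G] [Finite G] (p : ℕ) [Fact p.Prime] (P : Sylow p G)
    (hP : Nat.card ↥(P : Subgroup G) = p) :
    Nat.card (MulAction.orbitRel.Quotient ↥(P : Subgroup G)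
      (G ⧸ Subgroup.normalizer ((P : Subgroup G) : Set G))) * p =
      (Subgroup.normalizer ((P : Subgroup G) : Set G)).index + (p - 1) := by
  classical
  have hpp : p.Prime := Fact.out
  set N := Subgroup.normalizer ((P : Subgroup G) : Set G) with hN
  haveI : Fintype (P : Subgroup G) := Fintype.ofFinite _
  haveI : Fintype (G ⧸ N) := Fintype.ofFinite _
  haveI : Fintype (Quotient (MulAction.orbitRel ↥(P : Subgroup G) (G ⧸ N))) := Fintype.ofFinite _
  have hB := MulAction.sum_card_fixedBy_eq_card_orbits_mul_card_group (P : Subgroup G) (G ⧸ N)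
  have hcP : Fintype.card (P : Subgroup G) = p := by rw [← Nat.card_eq_fintype_card, hP]
  rw [hcP] at hB
  have hOrb : Nat.card (MulAction.orbitRel.Quotient ↥(P : Subgroup G) (G ⧸ N)) =
      Fintype.card (Quotient (MulAction.orbitRel ↥(P : Subgroup G) (G ⧸ N))) := by
    rw [Nat.card_eq_fintype_card]
  rw [hOrb, ← hB]
  have h1 := (Cfsg.Agent.S1018.result p P hP).1
  have hfix : ∀ g : (P : Subgroup G), g ≠ 1 →
      Fintype.card (MulAction.fixedBy (G ⧸ N) g) = 1 := by
    intro g hg
    have hg1 : (g : G) ≠ 1 := fun h => hg (Subtype.ext h)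
    have hgp : (g : G) ^ p = 1 := by
      have h0 := pow_card_eq_one' (G := ↥(P : Subgroup G)) (x := g)
      rw [hP] at h0
      have := congrArg Subtype.val h0
      simpa using this
    have hord : orderOf (g : G) = p := orderOf_eq_prime hgp hg1
    have := h1 (g : G) hord
    rw [← Nat.card_eq_fintype_card]
    exact this
  have hfix1 : Fintype.card (MulAction.fixedBy (G ⧸ N) (1 : (P : Subgroup G))) = N.index := by
    rw [← Nat.card_eq_fintype_card, Subgroup.index]
    apply Nat.card_congr
    exact (Equiv.subtypeUnivEquiv (fun q => by simp [MulAction.mem_fixedBy]))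
  rw [← Finset.add_sum_erase Finset.univ _ (Finset.mem_univ (1 : (P : Subgroup G))), hfix1]
  congr 1
  rw [Finset.sum_congr rfl (fun g hg => hfix g (Finset.ne_of_mem_erase hg))]
  simp [Finset.card_erase_of_mem, hcP]

/-- No finite simple group has order 1104 = 2^4 * 3 * 23. -/
theorem result {G : Type*} [Group G] [Finite G] [IsSimpleGroup G] : Nat.card G ≠ 1104 := by
  intro hcard
  have hG : ∃ x y : G, x * y ≠ y * x :=
    Cfsg.Agent.Lead.nonabelian_of_not_prime (by rw [hcard]; norm_num)
  haveI : Fact (Nat.Prime 23) := ⟨by norm_num⟩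
  have hf : (1104 : ℕ).factorization 23 = 1 := by
    have h : (1104 : ℕ) = 23 ^ 1 * 48 := by norm_num
    rw [h, Nat.factorization_mul (by norm_num) (by norm_num),
      Nat.Prime.factorization_pow (by norm_num)]
    simp
    rw [Nat.factorization_eq_zero_of_not_dvd (by norm_num)]
  obtain ⟨P⟩ : Nonempty (Sylow 23 G) := inferInstance
  have hP : Nat.card (P : Subgroup G) = 23 := by
    rw [P.card_eq_multiplicity, hcard, hf]; norm_num
  set N := Subgroup.normalizer ((P : Subgroup G) : Set G) with hN
  have hpd : 23 ∣ Nat.card G := by rw [hcard]; norm_num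
  -- n_23 = 24
  have hidx : N.index = 24 := by
    have hdvd : Nat.card (Sylow 23 G) ∣ (P : Subgroup G).index := P.card_dvd_index
    have hPidx : (P : Subgroup G).index = 48 := by
      have := Subgroup.card_mul_index (P : Subgroup G)
      rw [hP, hcard] at this
      omega
    rw [hPidx] at hdvd
    have hfac := Cfsg.Agent.Lead.card_dvd_factorial_card_sylow hG (p := 23) hpd
    rw [hcard] at hfac
    have hmod : Nat.card (Sylow 23 G) % 23 = 1 := card_sylow_modEq_one 23 G
    have hnidx : Nat.card (Sylow 23 G) = N.index := P.card_eq_index_normalizer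
    rw [← hnidx]
    set n := Nat.card (Sylow 23 G) with hn
    have hle : n ≤ 48 := Nat.le_of_dvd (by norm_num) hdvd
    have : n = 1 ∨ n = 24 ∨ n = 47 := by omega
    rcases this with h | h | h
    · exfalso; rw [h] at hfac; revert hfac; decide
    · exact h
    · exfalso; rw [h] at hdvd; revert hdvd; decide
  have hNcard : Nat.card N = 46 := by
    have := Subgroup.card_mul_index N
    rw [hidx, hcard] at this
    omega
  -- an element of N not in C
  have hNC : ¬ N ≤ Subgroup.centralizer ((P : Subgroup G) : Set G) := fun h =>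
    Cfsg.Agent.S0073.not_normalizer_le_centralizer hG P hpd h
  obtain ⟨x, hxN, hxC⟩ := SetLike.not_le_iff_exists.1 hNC
  -- x ^ 2 = 1
  have hx46 : x ^ 46 = 1 := by
    have h0 := pow_card_eq_one' (G := ↥N) (x := ⟨x, hxN⟩)
    rw [hNcard] at h0
    have := congrArg Subtype.val h0
    simpa using this
  have hx2 : x ^ 2 = 1 := by
    by_contra hne
    have hyN : x ^ 2 ∈ N := N.pow_mem hxN 2
    have hy23 : (x ^ 2) ^ 23 ^ 1 = 1 := by rw [pow_one, ← pow_mul]; exact hx46
    have hyP := Cfsg.Agent.Lead.mem_sylow_of_mem_normalizer_of_pow P hyN hy23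
    apply hxC
    exact Cfsg.Agent.Lead.mem_centralizer_of_commute_of_prime_card (P : Subgroup G) hP hyP hne
      ((Commute.refl x).pow_right 2)
  -- orbits
  have horb := card_orbits_mul 23 P hP
  rw [← hN, hidx] at horb
  have horb2 : Nat.card (MulAction.orbitRel.Quotient ↥(P : Subgroup G) (G ⧸ N)) = 2 := by omega
  have hfixle := (Cfsg.Agent.S1018.result 23 P hP).2 x hxN hxC
  rw [← hN, horb2] at hfixle
  have hfixge : 1 ≤ Nat.card (MulAction.fixedBy (G ⧸ N) x) := by
    rw [Nat.succ_le_iff, Nat.card_pos_iff]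
    refine ⟨⟨⟨((1 : G) : G ⧸ N), ?_⟩⟩, inferInstance⟩
    rw [MulAction.mem_fixedBy, MulAction.Quotient.smul_coe, smul_eq_mul, mul_one, QuotientGroup.eq,
      mul_one]
    exact N.inv_mem hxN
  have hev := Cfsg.Agent.Lead.involution_even_of_simple (G := G) (by rw [hcard]; norm_num)
    (X := G ⧸ N) x hx2
  have hXc : Nat.card (G ⧸ N) = 24 := hidx
  rw [hXc] at hev
  set f := Nat.card (MulAction.fixedBy (G ⧸ N) x) with hf
  interval_cases f <;> revert hev <;> decide

end Cfsg.Agent.S1014
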