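import Mathlib
import Cfsg.Statements.S1015
import Cfsg.Agent.Lib.Lead.SylowTools
import Cfsg.Agent.S0985

set_option autoImplicit false
set_option linter.deprecated false
open Cfsg

namespace Cfsg.Agent.S1015

/-- No finite simple group has order 1200 = 2^4 * 3 * 5^2. -/
theorem result {G : Type*} [Group G] [Finite G] [IsSimpleGroup G] : Nat.card G ≠ 1200 := by
  intro hcard
  have hG : ∃ x y : G, x * y ≠ y * x :=
    Cfsg.Agent.Lead.nonabelian_of_not_prime (by rw [hcard]; norm_num)
  haveI : Fact (Nat.Prime 5) := ⟨by norm_num⟩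
  have hf : (1200 : ℕ).factorization 5 = 2 := by
    have h : (1200 : ℕ) = 5 ^ 2 * 48 := by norm_num
    rw [h, Nat.factorization_mul (by norm_num) (by norm_num),
      Nat.Prime.factorization_pow (by norm_num)]
    simp
    rw [Nat.factorization_eq_zero_of_not_dvd (by norm_num)]
  have hcardP : ∀ P : Sylow 5 G, Nat.card (P : Subgroup G) = 25 := by
    intro P
    rw [P.card_eq_multiplicity, hcard, hf]; norm_num
  -- n_5 is not 1 mod 25
  have hn : ¬ Nat.card (Sylow 5 G) ≡ 1 [MOD 5 ^ 2] := by
    intro hmod
    obtain ⟨P⟩ : Nonempty (Sylow 5 G) := inferInstance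
    have hdvd : Nat.card (Sylow 5 G) ∣ (P : Subgroup G).index := P.card_dvd_index
    have hidx : (P : Subgroup G).index = 48 := by
      have := Subgroup.card_mul_index (P : Subgroup G)
      rw [hcardP, hcard] at this
      omega
    rw [hidx] at hdvd
    have hfac := Cfsg.Agent.Lead.card_dvd_factorial_card_sylow hG (p := 5) (by rw [hcard]; norm_num)
    rw [hcard] at hfac
    set n := Nat.card (Sylow 5 G) with hn
    have hle : n ≤ 48 := Nat.le_of_dvd (by norm_num) hdvd
    have hmod' : n % 25 = 1 := hmod
    have : n = 1 ∨ n = 26 := by omega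
    rcases this with h | h
    · rw [h] at hfac; revert hfac; decide
    · rw [h] at hdvd; revert hdvd; decide
  obtain ⟨P, R, hPR, hidx⟩ := Cfsg.Agent.S0985.result 5 2 hn
  set D : Subgroup G := (P : Subgroup G) ⊓ (R : Subgroup G) with hD
  -- P, R abelian
  have habP : ∀ x ∈ (P : Subgroup G), ∀ y ∈ (P : Subgroup G), x * y = y * x := by
    intro x hx y hy
    have := IsPGroup.commutative_of_card_eq_prime_sq (p := 5) (G := (P : Subgroup G))
      (by rw [hcardP]; norm_num) ⟨x, hx⟩ ⟨y, hy⟩
    exact congrArg Subtype.val this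
  have habR : ∀ x ∈ (R : Subgroup G), ∀ y ∈ (R : Subgroup G), x * y = y * x := by
    intro x hx y hy
    have := IsPGroup.commutative_of_card_eq_prime_sq (p := 5) (G := (R : Subgroup G))
      (by rw [hcardP]; norm_num) ⟨x, hx⟩ ⟨y, hy⟩
    exact congrArg Subtype.val this
  set H := Subgroup.normalizer (D : Set G) with hH
  have hPH : (P : Subgroup G) ≤ H := by
    intro x hx
    rw [hH, Subgroup.mem_normalizer_iff]
    intro d
    constructor
    · intro hd
      have hdP : d ∈ (P : Subgroup G) := (Subgroup.mem_inf.1 hd).1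
      have : x * d * x⁻¹ = d := by rw [habP x hx d hdP, mul_assoc, mul_inv_cancel, mul_one]
      rw [this]; exact hd
    · intro hd
      have hdP : x * d * x⁻¹ ∈ (P : Subgroup G) := (Subgroup.mem_inf.1 hd).1
      have hdP' : d ∈ (P : Subgroup G) := by
        have := (P : Subgroup G).mul_mem ((P : Subgroup G).mul_mem ((P : Subgroup G).inv_mem hx) hdP) hx
        have e : x⁻¹ * (x * d * x⁻¹) * x = d := by group
        rwa [e] at this
      have : x * d * x⁻¹ = d := by rw [habP x hx d hdP', mul_assoc, mul_inv_cancel, mul_one]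
      rw [this] at hd; exact hd
  have hRH : (R : Subgroup G) ≤ H := by
    intro x hx
    rw [hH, Subgroup.mem_normalizer_iff]
    intro d
    constructor
    · intro hd
      have hdP : d ∈ (R : Subgroup G) := (Subgroup.mem_inf.1 hd).2
      have : x * d * x⁻¹ = d := by rw [habR x hx d hdP, mul_assoc, mul_inv_cancel, mul_one]
      rw [this]; exact hd
    · intro hd
      have hdP : x * d * x⁻¹ ∈ (R : Subgroup G) := (Subgroup.mem_inf.1 hd).2
      have hdP' : d ∈ (R : Subgroup G) := by
        have := (R : Subgroup G).mul_mem ((R : Subgroup G).mul_mem ((R : Subgroup G).inv_mem hx) hdP) hx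
        have e : x⁻¹ * (x * d * x⁻¹) * x = d := by group
        rwa [e] at this
      have : x * d * x⁻¹ = d := by rw [habR x hx d hdP', mul_assoc, mul_inv_cancel, mul_one]
      rw [this] at hd; exact hd
  -- |D| ≥ 5
  have hDcard : 5 ≤ Nat.card D := by
    have h1 := Subgroup.card_mul_index ((R : Subgroup G).subgroupOf (P : Subgroup G))
    rw [Cfsg.Agent.Lead.card_subgroupOf_eq, hcardP, inf_comm] at h1
    have : ((R : Subgroup G).subgroupOf (P : Subgroup G)).index ≤ 5 := by simpa using hidx
    rw [hD]
    nlinarith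
  have hDle : Nat.card D ≤ 25 := by
    have := Subgroup.card_le_of_le (inf_le_left : D ≤ (P : Subgroup G))
    rwa [hcardP] at this
  have hDb : D ≠ ⊥ := by
    intro h; rw [h, Subgroup.card_bot] at hDcard; omega
  have hDt : D ≠ ⊤ := by
    intro h; rw [h, Subgroup.card_top, hcard] at hDle; omega
  have hHt : H ≠ ⊤ := Cfsg.Agent.Lead.normalizer_ne_top_of_simple D hDb hDt
  have hfac := Cfsg.Agent.Lead.card_dvd_factorial_index H hHt
  have hHc := (Cfsg.Agent.Lead.card_ge_of_two_sylow_le P R hPR H hPH hRH).2
  rw [hcardP] at hHc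
  have hmul := Subgroup.card_mul_index H
  rw [hcard] at hmul hfac
  set k := H.index with hk
  have hk8 : k ≤ 8 := by nlinarith
  have hk0 : 0 < k := by
    rcases Nat.eq_zero_or_pos k with h | h
    · rw [h] at hmul; omega
    · exact h
  interval_cases k <;> revert hfac <;> decide

end Cfsg.Agent.S1015
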