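import Mathlib
import Cfsg.Agent.Lib.Helper8.P32
import Cfsg.Statements.S1017
-- import your own Cfsg.Agent.* helpers here

set_option autoImplicit false
open Cfsg

namespace Cfsg.Agent.S1017

/-- No finite simple group has order 2016 = 2^5 * 3^2 * 7. -/
theorem result {G : Type*} [Group G] [Finite G] [IsSimpleGroup G] : Nat.card G ≠ 2016 := by
  intro hcard
  haveI : Fact (Nat.Prime 7) := ⟨by norm_num⟩
  obtain ⟨P⟩ : Nonempty (Sylow 7 G) := inferInstance
  obtain ⟨-, -, hk1, hk2, -, hn⟩ := Cfsg.Agent.Helper8.P32.sylow_data 7 2 5 (by norm_num) (by norm_num)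
    (by rw [hcard]; norm_num) (by rw [hcard]; norm_num) P
  have hmod : Nat.card (Sylow 7 G) % 7 = 1 := card_sylow_modEq_one 7 G
  rw [hcard] at hn
  set k := (Subgroup.centralizer ((P : Subgroup G) : Set G)).relIndex
      (Subgroup.normalizer ((P : Subgroup G) : Set G)) with hk
  set n := Nat.card (Sylow 7 G) with hnn
  have hk6 : k ∣ 6 := hk1
  have hkle : k ≤ 6 := Nat.le_of_dvd (by norm_num) hk6
  interval_cases k
  · omega
  · exact hk2 rfl
  · omega
  · omega
  · omega
  · omega
  · omega

end Cfsg.Agent.S1017
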