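import Mathlib
import Cfsg.Statements.S1019

set_option autoImplicit false
open Cfsg

namespace Cfsg.Agent.S1019

/-- Let H be a subgroup of a finite group G and x an element of H. In the action of G on the left cosets of H, the number of cosets fixed by x, multiplied by the size of the conjugacy class of x, equals the index of H multiplied by the number of conjugates of x that lie in H. -/
theorem result {G : Type*} [Group G] [Finite G] (H : Subgroup G) (x : G) (hx : x ∈ H) : Nat.card (MulAction.fixedBy (G ⧸ H) x) * Nat.card {g : G // IsConj x g} = H.index * Nat.card {g : G // IsConj x g ∧ g ∈ H} := by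
  classical
  have := Fintype.ofFinite G
  have : Fintype (G ⧸ H) := Fintype.ofFinite _
  let K : Finset G := Finset.univ.filter (fun y => IsConj x y)
  let Fx : Finset (G ⧸ H) := Finset.univ.filter (fun c : G ⧸ H => x • c = c)
  have e1 : Nat.card (MulAction.fixedBy (G ⧸ H) x) = Fx.card := by
    rw [Nat.card_eq_fintype_card, ← Fintype.card_subtype]
    rfl
  have e2 : Nat.card {g : G // IsConj x g} = K.card := by
    rw [Nat.card_eq_fintype_card, Fintype.card_subtype]
  have e3 : Nat.card {g : G // IsConj x g ∧ g ∈ H} = (K.filter (fun y => y ∈ H)).card := by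
    rw [Nat.card_eq_fintype_card, Fintype.card_subtype, Finset.filter_filter]
  have e4 : H.index = Fintype.card (G ⧸ H) := by
    rw [Subgroup.index, Nat.card_eq_fintype_card]
  rw [e1, e2, e3, e4]
  -- double counting
  have h3 := Finset.sum_card_bipartiteAbove_eq_sum_card_bipartiteBelow
    (s := K) (t := (Finset.univ : Finset (G ⧸ H))) (fun (y : G) (c : G ⧸ H) => y • c = c)
  have h1 : ∀ y ∈ K, ((Finset.univ : Finset (G ⧸ H)).bipartiteAbove (fun (y : G) (c : G ⧸ H) => y • c = c) y).card = Fx.card := by
    intro y hy
    rw [Finset.mem_filter] at hy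
    obtain ⟨g, hg⟩ := isConj_iff.mp hy.2
    symm
    apply Finset.card_bij (fun c _ => g • c)
    · intro c hc
      rw [Finset.mem_filter] at hc
      simp only [Finset.bipartiteAbove, Finset.mem_filter, Finset.mem_univ, true_and]
      rw [← hg, smul_smul, inv_mul_cancel_right, mul_smul, hc.2]
    · intro a _ b _ hab
      exact smul_left_cancel g hab
    · intro c hc
      simp only [Finset.bipartiteAbove, Finset.mem_filter, Finset.mem_univ, true_and] at hc
      refine ⟨g⁻¹ • c, ?_, by simp⟩
      rw [Finset.mem_filter]
      refine ⟨Finset.mem_univ _, ?_⟩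
      have : x = g⁻¹ * y * g := by rw [← hg]; group
      rw [this, smul_smul, mul_assoc, mul_inv_cancel, mul_one, mul_smul, hc]
  have h2 : ∀ c ∈ (Finset.univ : Finset (G ⧸ H)), (K.bipartiteBelow (fun (y : G) (c : G ⧸ H) => y • c = c) c).card = (K.filter (fun y => y ∈ H)).card := by
    intro c _
    obtain ⟨g, rfl⟩ := QuotientGroup.mk_surjective c
    apply Finset.card_bij (fun y _ => g⁻¹ * y * g)
    · intro y hy
      simp only [Finset.bipartiteBelow, Finset.mem_filter, Finset.mem_univ, true_and, K] at hy ⊢
      refine ⟨?_, ?_⟩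
      · exact hy.1.trans (isConj_iff.mpr ⟨g⁻¹, by simp⟩)
      · have h := hy.2
        have h' : ((y * g : G) : G ⧸ H) = (g : G ⧸ H) := h
        rw [eq_comm, QuotientGroup.eq] at h'
        simpa [mul_assoc] using h'
    · intro a _ b _ hab
      simpa using hab
    · intro z hz
      simp only [Finset.mem_filter, Finset.mem_univ, true_and, K] at hz
      refine ⟨g * z * g⁻¹, ?_, by group⟩
      simp only [Finset.bipartiteBelow, Finset.mem_filter, Finset.mem_univ, true_and, K]
      refine ⟨hz.1.trans (isConj_iff.mpr ⟨g, rfl⟩), ?_⟩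
      show ((g * z * g⁻¹ * g : G) : G ⧸ H) = (g : G ⧸ H)
      rw [eq_comm, QuotientGroup.eq]
      simpa [mul_assoc] using hz.2
  rw [Finset.sum_congr rfl h1, Finset.sum_congr rfl h2] at h3
  simp only [Finset.sum_const, smul_eq_mul, Finset.card_univ] at h3
  rw [mul_comm, h3]

end Cfsg.Agent.S1019
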