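import Mathlib
import Cfsg.Statements.S1031
import Cfsg.Agent.Lib.Lead.ChevHFacts
import Cfsg.Agent.Lib.Lead.ChevRefl_G2
import Cfsg.Agent.Lib.Lead.ChevRefl_B2
import Cfsg.Agent.Lib.Lead.ChevRefl_D4
import Cfsg.Agent.Lib.Lead.ChevRefl_F4
import Cfsg.Agent.Lib.Lead.ChevRefl_E6
import Cfsg.Agent.Lib.Lead.ChevRefl_E7
import Cfsg.Agent.Lib.Lead.ChevRefl_E8

set_option autoImplicit false
open Cfsg

namespace Cfsg.Agent.S1031

open Cfsg.Agent.Lead.Chev Cfsg.Lie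

/-- For a fundamental root `p = p_{i+1}` and any root `s`: `n_p x_s(t) n_p⁻¹ = x_{w_p(s)}(η t)` with a sign `η = ±1` independent of `t`, where `w_p(s)` is the reflected root (`reflectRoot`). Stated as `n_p x_s(t) = x_{w_p(s)}(η t) n_p`. -/
theorem result {F : Type*} [Field F] (D : Cfsg.Lie.ChevalleyDatum) (hD : D ∈ [Cfsg.Lie.chevG2, Cfsg.Lie.chevB2, Cfsg.Lie.chevD4, Cfsg.Lie.chevF4, Cfsg.Lie.chevE6, Cfsg.Lie.chevE7, Cfsg.Lie.chevE8]) (i s : ℕ) (hi : i < D.rank) (hs : s < D.nroots) :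
    ∃ η : ℤ, (η = 1 ∨ η = -1) ∧
      ∀ t : F, D.nMat F (D.simple i) 1 * D.x F s t = D.x F (D.reflectRoot i s) ((η : F) * t) * D.nMat F (D.simple i) 1 := by
  have hrow := rowOK_of_mem D hD
  simp only [List.mem_cons, List.mem_nil_iff, or_false] at hD
  rcases hD with rfl | rfl | rfl | rfl | rfl | rfl | rfl
  · exact ⟨etaM (nMasks_G2.getD i 0) s, etaM_eq _ s, fun t =>
      n_conj_x_of_chk _ hrow nMasks_G2 i hi (nL_G2 i hi) (nR_G2 i hi) 12 1 (by norm_num) (by norm_num)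
        (by decide) (nxOK_G2 i hi) s hs t⟩
  · exact ⟨etaM (nMasks_B2.getD i 0) s, etaM_eq _ s, fun t =>
      n_conj_x_of_chk _ hrow nMasks_B2 i hi (nL_B2 i hi) (nR_B2 i hi) 8 1 (by norm_num) (by norm_num)
        (by decide) (nxOK_B2 i hi) s hs t⟩
  · exact ⟨etaM (nMasks_D4.getD i 0) s, etaM_eq _ s, fun t =>
      n_conj_x_of_chk _ hrow nMasks_D4 i hi (nL_D4 i hi) (nR_D4 i hi) 24 1 (by norm_num) (by norm_num)
        (by decide) (nxOK_D4 i hi) s hs t⟩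
  · exact ⟨etaM (nMasks_F4.getD i 0) s, etaM_eq _ s, fun t =>
      n_conj_x_of_chk _ hrow nMasks_F4 i hi (nL_F4 i hi) (nR_F4 i hi) 48 1 (by norm_num) (by norm_num)
        (by decide) (nxOK_F4 i hi) s hs t⟩
  · exact ⟨etaM (nMasks_E6.getD i 0) s, etaM_eq _ s, fun t =>
      n_conj_x_of_chk _ hrow nMasks_E6 i hi (nL_E6 i hi) (nR_E6 i hi) 72 1 (by norm_num) (by norm_num)
        (by decide) (nxOK_E6 i hi) s hs t⟩
  · exact ⟨etaM (nMasks_E7.getD i 0) s, etaM_eq _ s, fun t =>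
      n_conj_x_of_chk _ hrow nMasks_E7 i hi (nL_E7 i hi) (nR_E7 i hi) 63 2 (by norm_num) (by norm_num)
        (by decide) (nxOK_E7 i hi) s hs t⟩
  · exact ⟨etaM (nMasks_E8.getD i 0) s, etaM_eq _ s, fun t =>
      n_conj_x_of_chk _ hrow nMasks_E8 i hi (nL_E8 i hi) (nR_E8 i hi) 60 4 (by norm_num) (by norm_num)
        (by decide) (nxOK_E8 i hi) s hs t⟩

end Cfsg.Agent.S1031
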