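import Mathlib
import Cfsg.Statements.S1038
import Cfsg.Agent.S1023
import Cfsg.Agent.S1024
import Cfsg.Agent.S1032
import Cfsg.Agent.S1034
import Cfsg.Agent.Lib.Helper6.ChevTables

set_option autoImplicit false
open Cfsg

namespace Cfsg.Agent.S1038

/-- The diagonal subgroup `H` (generated by the `h_r(t)`, `t ≠ 0`) is normal in the monomial subgroup `N` (generated by `H` and the `n_r`). -/
theorem result {F : Type*} [Field F] (D : Cfsg.Lie.ChevalleyDatum) (hD : D ∈ [Cfsg.Lie.chevG2, Cfsg.Lie.chevB2, Cfsg.Lie.chevD4, Cfsg.Lie.chevF4, Cfsg.Lie.chevE6, Cfsg.Lie.chevE7, Cfsg.Lie.chevE8]) : ((D.diagonalSubgroup F).subgroupOf (D.monomialSubgroup F)).Normal := by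
  have hfund : Cfsg.Agent.Helper6.ChevB.HFund F D := fun g hg => Cfsg.Agent.S1034.result D hD g hg
  have hconj : Cfsg.Agent.Helper6.ChevB.HConj F D :=
    fun i s hi hs c hc t => Cfsg.Agent.S1032.result D hD i s hi hs c hc t
  have hadd : Cfsg.Agent.Helper6.ChevB.HAdd F D :=
    fun r hr t u => Cfsg.Agent.S1023.result D hD r hr t u
  have hzero : Cfsg.Agent.Helper6.ChevB.HZero F D :=
    fun r hr => (Cfsg.Agent.S1024.result D hD r hr (0 : F)).2 rfl
  exact Cfsg.Agent.Helper6.ChevB.diagonal_normal_monomial hfund hconj hadd hzero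
    (Cfsg.Agent.Helper6.ChevB.negCartanOk_of_mem D hD)

end Cfsg.Agent.S1038
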