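import Mathlib
import Cfsg.Statements.S1043
import Cfsg.Agent.S1023
import Cfsg.Agent.S1024
import Cfsg.Agent.Lib.Helper6.ChevTables

set_option autoImplicit false
open Cfsg

namespace Cfsg.Agent.S1043

/-- `B ≤ G`, `N ≤ G` and `B ⊔ N = G` for the Chevalley group `G` generated by all root elements. -/
theorem result {F : Type*} [Field F] (D : Cfsg.Lie.ChevalleyDatum) (hD : D ∈ [Cfsg.Lie.chevG2, Cfsg.Lie.chevB2, Cfsg.Lie.chevD4, Cfsg.Lie.chevF4, Cfsg.Lie.chevE6, Cfsg.Lie.chevE7, Cfsg.Lie.chevE8]) :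
    D.borelSubgroup F ≤ D.group F ∧ D.monomialSubgroup F ≤ D.group F ∧ D.borelSubgroup F ⊔ D.monomialSubgroup F = D.group F := by
  have hadd : Cfsg.Agent.Helper6.ChevB.HAdd F D :=
    fun r hr t u => Cfsg.Agent.S1023.result D hD r hr t u
  have hzero : Cfsg.Agent.Helper6.ChevB.HZero F D :=
    fun r hr => (Cfsg.Agent.S1024.result D hD r hr (0 : F)).2 rfl
  exact Cfsg.Agent.Helper6.ChevB.group_facts hadd hzero
    (Cfsg.Agent.Helper6.ChevB.negCartanOk_of_mem D hD) (Cfsg.Agent.Helper6.ChevB.posNegOk_of_mem D hD)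

end Cfsg.Agent.S1043
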