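import Mathlib
import Cfsg.Statements.S1045
import Cfsg.Agent.S1023
import Cfsg.Agent.S1024
import Cfsg.Agent.S1025
import Cfsg.Agent.Lib.Lead.ChevUpTab

set_option autoImplicit false
open Cfsg

namespace Cfsg.Agent.S1045

open Cfsg.Agent.Lead.Chev Cfsg.Lie

/-- For a fundamental root `p` the subgroup `U_p` generated by the `X_s`, `s` positive and `s ≠ p`, is normalised by `X_p` and `X_{-p}`, and `U = U_p ⊔ X_p`. -/
theorem main {F : Type*} [Field F] (D : ChevalleyDatum)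
    (hD : D ∈ [chevG2, chevB2, chevD4, chevF4, chevE6, chevE7, chevE8]) (i : ℕ) (hi : i < D.rank) :
    D.rootSubgroup F (D.simple i) ⊔ D.rootSubgroup F (D.neg (D.simple i)) ≤
        Subgroup.normalizer (posExcept D F (D.simple i) : Set (GL D.Idx F)) ∧
      posExcept D F (D.simple i) ⊔ D.rootSubgroup F (D.simple i) = D.posUnipotent F := by
  have hX : XAdd D F :=
    ⟨fun r hr t₁ t₂ => Cfsg.Agent.S1023.result D hD r hr t₁ t₂,
     fun r hr => (Cfsg.Agent.S1024.result D hD r hr 0).2 rfl⟩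
  have hcomm : ∀ r < D.nroots, ∀ s < D.nroots, s ≠ r → s ≠ D.neg r → CommOK D F r s :=
    fun r hr s hs h1 h2 t u => Cfsg.Agent.S1025.result D hD r s hr hs h1 h2 t u
  obtain ⟨hpos, hnlt, hnn, -⟩ := simple_facts_of_mem D hD i hi
  have hchk := upChk_of_mem D hD i hi
  refine ⟨?_, posExcept_sup_rootSubgroup D _ hpos⟩
  rw [sup_le_iff]
  exact ⟨rootSubgroup_le_normalizer_posExcept D hX hcomm i hchk hnn _ (Or.inl rfl) hpos.1,
    rootSubgroup_le_normalizer_posExcept D hX hcomm i hchk hnn _ (Or.inr rfl) hnlt⟩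

/-- For a fundamental root `p`, the subgroup `U_p` generated by the `X_s`, `s` positive and `s ≠ p`, is normalised by `X_p` and `X_{-p}`, and `U = U_p ⊔ X_p`. -/
theorem result {F : Type*} [Field F] (D : Cfsg.Lie.ChevalleyDatum) (hD : D ∈ [Cfsg.Lie.chevG2, Cfsg.Lie.chevB2, Cfsg.Lie.chevD4, Cfsg.Lie.chevF4, Cfsg.Lie.chevE6, Cfsg.Lie.chevE7, Cfsg.Lie.chevE8]) (i : ℕ) (hi : i < D.rank) :
    D.rootSubgroup F (D.simple i) ⊔ D.rootSubgroup F (D.neg (D.simple i)) ≤
        Subgroup.normalizer (Subgroup.closure {g : GL D.Idx F | ∃ (s : ℕ) (t : F), D.IsPosRoot s ∧ s ≠ D.simple i ∧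
          (g : Matrix D.Idx D.Idx F) = D.x F s t} : Set (GL D.Idx F)) ∧
      Subgroup.closure {g : GL D.Idx F | ∃ (s : ℕ) (t : F), D.IsPosRoot s ∧ s ≠ D.simple i ∧
          (g : Matrix D.Idx D.Idx F) = D.x F s t} ⊔ D.rootSubgroup F (D.simple i) = D.posUnipotent F :=
  main D hD i hi

end Cfsg.Agent.S1045
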