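import Mathlib
import Cfsg.Statements.S1058
import Cfsg.Agent.S1060
import Cfsg.Agent.Lib.Helper6.ChevB2S6

set_option autoImplicit false
open Cfsg

namespace Cfsg.Agent.S1058

open Cfsg.Lie Cfsg.Agent.Lead.Chev Cfsg.Agent.Helper6.B2S6 in
/-- B₂(2) ≅ S₆. -/
theorem result {F : Type*} [Field F] [Fintype F] (hF : Fintype.card F = 2) :
    Nonempty (↥(Cfsg.Lie.chevB2.group F) ≃* Equiv.Perm (Fin 6)) := by
  classical
  have hD : chevB2 ∈ [chevG2, chevB2, chevD4, chevF4, chevE6, chevE7, chevE8] := by simp
  have hC : ChevFacts chevB2 F := chevFacts_of_mem _ hD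
  -- the field has the two elements `0`, `1`
  have h01 : ∀ t : F, t = 0 ∨ t = 1 := by
    intro t
    have hs : ({0, 1} : Finset F) = Finset.univ := by
      apply Finset.eq_univ_of_card
      rw [Finset.card_pair zero_ne_one, hF]
    have ht : t ∈ ({0, 1} : Finset F) := by
      rw [hs]
      exact Finset.mem_univ t
    simpa using ht
  have h2 : (2 : F) = 0 := by
    have h11 : (1 : F) + 1 = 2 := by norm_num
    rcases h01 (1 + 1) with h | h
    · rw [← h11, h]
    · exact absurd (add_eq_right.1 h) one_ne_zero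
  have : CharP F 2 := CharTwo.of_one_ne_zero_of_two_eq_zero one_ne_zero h2
  let f : ZMod 2 →+* F := ZMod.castHom (dvd_refl 2) F
  -- the group permutes the six forms
  have hle : chevB2.group F ≤ Msub F := by
    unfold ChevalleyDatum.group
    rw [Subgroup.closure_le]
    rintro g ⟨r, t, hg⟩
    rcases h01 t with rfl | rfl
    · refine ⟨1, fun k => ?_⟩
      rw [hg]
      exact (act_of_zmod f r k).2
    · refine ⟨sigP r, fun k => ?_⟩
      rw [hg]
      exact (act_of_zmod f r k).1
  have hex : ∀ g : chevB2.group F, ∃ π : Equiv.Perm (Fin 6),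
      Pres (((g : GL chevB2.Idx F)⁻¹ : GL chevB2.Idx F) : Matrix chevB2.Idx chevB2.Idx F) π :=
    fun g => hle (inv_mem g.2)
  choose φ hφ using hex
  have hmul : ∀ g h : chevB2.group F, φ (g * h) = φ g * φ h := by
    intro g h
    apply Pres.unique (hφ (g * h))
    have e : ((((g * h : chevB2.group F) : GL chevB2.Idx F))⁻¹ : GL chevB2.Idx F) =
        (h : GL chevB2.Idx F)⁻¹ * (g : GL chevB2.Idx F)⁻¹ := by
      rw [Subgroup.coe_mul, mul_inv_rev]
    rw [e, Units.val_mul]
    exact (hφ h).mul (hφ g)
  let Φ : chevB2.group F →* Equiv.Perm (Fin 6) := MonoidHom.mk' φ hmul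
  -- the images of the root elements
  have hgen : ∀ r : Fin 8, sigP r ∈ Φ.range := by
    intro r
    refine ⟨⟨xGL chevB2 hC.xadd r.val 1, xGL_mem_group chevB2 hC.xadd _ _⟩, ?_⟩
    show φ _ = sigP r
    have h1 : Pres ((xGL chevB2 hC.xadd r.val (1 : F) : GL chevB2.Idx F) :
        Matrix chevB2.Idx chevB2.Idx F) (sigP r) := by
      intro k
      rw [xGL_val, x_of_lt chevB2 r.val r.2]
      exact (act_of_zmod f r k).1
    have h3 := Pres.unique (hφ ⟨xGL chevB2 hC.xadd r.val 1, xGL_mem_group chevB2 hC.xadd _ _⟩) h1.inv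
    rw [h3, sigP_inv]
  -- surjectivity
  have hsurj : Function.Surjective Φ := by
    rw [← MonoidHom.range_eq_top]
    apply top_unique
    intro π _
    have hπ : π ∈ Submonoid.closure (Set.range fun i : Fin 5 => Equiv.swap i.castSucc i.succ) := by
      rw [Equiv.Perm.mclosure_swap_castSucc_succ 5]
      trivial
    have hcl : Submonoid.closure (Set.range fun i : Fin 5 => Equiv.swap i.castSucc i.succ) ≤
        Φ.range.toSubmonoid := by
      rw [Submonoid.closure_le]
      rintro _ ⟨i, rfl⟩
      fin_cases i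
      · show Equiv.swap (0 : Fin 6) 1 ∈ Φ.range
        rw [swap01]
        exact hgen 0
      · show Equiv.swap (1 : Fin 6) 2 ∈ Φ.range
        rw [swap12]
        exact hgen 7
      · show Equiv.swap (2 : Fin 6) 3 ∈ Φ.range
        rw [swap23]
        exact mul_mem (mul_mem (hgen 5) (hgen 0)) (hgen 5)
      · show Equiv.swap (3 : Fin 6) 4 ∈ Φ.range
        rw [swap34]
        exact hgen 4
      · show Equiv.swap (4 : Fin 6) 5 ∈ Φ.range
        rw [swap45]
        exact hgen 3
    exact hcl hπ
  -- the orders agree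
  have hcard : Nat.card (chevB2.group F) = 720 := by
    have h := Cfsg.Agent.S1060.result (F := F) (q := 2) hF
    norm_num at h
    rw [Nat.card_eq_fintype_card]
    exact h
  have hcard' : Nat.card (Equiv.Perm (Fin 6)) = 720 := by
    rw [Nat.card_eq_fintype_card, Fintype.card_perm, Fintype.card_fin]
    rfl
  have hbij : Function.Bijective Φ :=
    hsurj.bijective_of_nat_card_le (by rw [hcard, hcard'])
  exact ⟨MulEquiv.ofBijective Φ hbij⟩

end Cfsg.Agent.S1058
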