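import Mathlib
import Cfsg.Statements.S1061
import Cfsg.Agent.Lib.Lead.ChevOrderAll
import Cfsg.Agent.Lib.Lead.WeylChain_D4
import Cfsg.Agent.S1027
import Cfsg.Agent.S1035

set_option autoImplicit false
open Cfsg

namespace Cfsg.Agent.S1061

/-- `gcd(2, q-1)² · |D₄(q)| = q¹² (q² - 1)(q⁴ - 1)(q⁴ - 1)(q⁶ - 1)`. -/
theorem result {F : Type*} [Field F] [Fintype F] {q : ℕ} (hq : Fintype.card F = q) : Nat.gcd 2 (q - 1) ^ 2 * Nat.card ↥(Cfsg.Lie.chevD4.group F) = q ^ 12 * (q ^ 2 - 1) * (q ^ 4 - 1) * (q ^ 4 - 1) * (q ^ 6 - 1) := by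
  have hD : Cfsg.Lie.chevD4 ∈ [Cfsg.Lie.chevG2, Cfsg.Lie.chevB2, Cfsg.Lie.chevD4, Cfsg.Lie.chevF4, Cfsg.Lie.chevE6,
      Cfsg.Lie.chevE7, Cfsg.Lie.chevE8] := by simp
  have hF : Cfsg.Agent.Lead.Chev.ChevFacts Cfsg.Lie.chevD4 F := Cfsg.Agent.Lead.Chev.chevFacts_of_mem _ hD
  have hH : (Nat.gcd 2 (q - 1) ^ 2) * Nat.card ↥(Cfsg.Lie.chevD4.diagonalSubgroup F) =
      (Fintype.card F - 1) ^ Cfsg.Lie.chevD4.rank := by
    have := Cfsg.Agent.S1035.result hq (Cfsg.Lie.chevD4, Nat.gcd 2 (q - 1) ^ 2) (by simp)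
    rw [hq]
    exact this
  have h := hF.order_of_chain (Cfsg.Agent.Lead.Chev.corSize_of_mem _ hD) (Cfsg.Agent.Lead.Chev.corComb_of_mem _ hD)
    (Cfsg.Agent.Lead.Chev.corInj_of_mem _ hD) (Cfsg.Agent.Lead.Chev.wsOf Cfsg.Lie.chevD4)
    (Cfsg.Agent.Lead.Chev.wsTab_of_mem _ hD) Cfsg.Agent.Lead.Chev.weylSteps_D4 Cfsg.Agent.Lead.Chev.weylChain_D4
    Cfsg.Agent.Lead.Chev.weylDegrees_D4 Cfsg.Agent.Lead.Chev.weylPoly_D4 (Nat.gcd 2 (q - 1) ^ 2) hH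
    (Cfsg.Agent.S1027.result Cfsg.Lie.chevD4 hD)
  rw [hq] at h
  have hn : Cfsg.Lie.chevD4.nroots / 2 = 12 := by decide
  rw [hn] at h
  simp only [Cfsg.Agent.Lead.Chev.weylDegrees_D4, List.map_cons, List.map_nil, List.prod_cons, List.prod_nil,
    mul_one, one_mul] at h
  rw [h]
  ring

end Cfsg.Agent.S1061
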