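import Mathlib
import Cfsg.Statements.S1075
import Cfsg.Agent.Lib.Lead.TwReeSetup
import Cfsg.Agent.Lib.Lead.TwG2ThreeB
import Cfsg.Agent.S1011
-- import your own Cfsg.Agent.* helpers here

set_option autoImplicit false
open Cfsg

namespace Cfsg.Agent.S1075

/-- The derived subgroup of ²G₂(3) (θ = identity over the field with three elements) has order 504 = 1512/3 and is isomorphic to PSL₂ over the field with eight elements. -/
theorem result {L : Type*} [Field L] [Fintype L] (hL : Fintype.card L = 8) :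
    Nat.card ↥(commutator ↥(Cfsg.Lie.twistedG2 (ZMod 3) 1)) = 504 ∧
      Nonempty (↥(commutator ↥(Cfsg.Lie.twistedG2 (ZMod 3) 1)) ≃* Matrix.ProjectiveSpecialLinearGroup (Fin 2) L) := by
  have hK : Fintype.card (ZMod 3) = 3 ^ (2 * 0 + 1) := by
    rw [ZMod.card]
    norm_num
  obtain ⟨hc, hperf, f, hf⟩ := Cfsg.Agent.Lead.Tw.exists_ree_setup 3 Nat.prime_three 0 hK
  have h := @Cfsg.Agent.Lead.Tw.G2.derived_three (ZMod 3) _ _ hc hK hperf f hf
  obtain ⟨h1, h2⟩ := h
  refine ⟨h1, ?_⟩
  have := h2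
  exact Cfsg.Agent.S1011.result h1 hL

end Cfsg.Agent.S1075
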