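import Cfsg.Statements.S1079
import Cfsg.Agent.Lib.Helper6.StEmbCard
import Cfsg.Agent.S1035
-- import your own Cfsg.Agent.* helpers here

set_option autoImplicit false
open Cfsg

namespace Cfsg.Agent.S1079

/-- `|Z(Ḡ)| = gcd(3, q-1)` for E₆ and `gcd(2, q-1)` for E₇ over a field with `q` elements (the centre is dual to the weight lattice modulo the root lattice). -/
theorem result {K : Type*} [Field K] [Fintype K] {q : ℕ} (hq : Fintype.card K = q)
    (p : Cfsg.Lie.ChevalleyDatum × ℕ) (hp : p ∈ [(Cfsg.Lie.chevE6, 3), (Cfsg.Lie.chevE7, 2)]) :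
    Nat.card (Subgroup.center (p.1.SteinbergGroup K)) = Nat.gcd p.2 (q - 1) := by
  classical
  have hE8 := Cfsg.Agent.Helper6.StEmb.hE8
  have hinj8 : Function.Injective (Cfsg.Agent.Lead.Chev.torusHom Cfsg.Lie.chevE8 K) :=
    Cfsg.Agent.Helper6.StC.torusHom_injective_of_mem Cfsg.Lie.chevE8
      (List.mem_cons_of_mem _ (List.mem_cons_of_mem _ List.mem_cons_self))
  have hpos : ∀ D : Cfsg.Lie.ChevalleyDatum, 0 < Nat.card (D.diagonalSubgroup K) := fun D => Nat.card_pos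
  subst hq
  rw [List.mem_cons, List.mem_cons, List.mem_nil_iff, or_false] at hp
  rcases hp with rfl | rfl
  · have hA : Cfsg.Lie.chevE6 ∈ [Cfsg.Lie.chevG2, Cfsg.Lie.chevB2, Cfsg.Lie.chevD4, Cfsg.Lie.chevF4,
        Cfsg.Lie.chevE6, Cfsg.Lie.chevE7, Cfsg.Lie.chevE8] :=
      List.mem_cons_of_mem _ (List.mem_cons_of_mem _ (List.mem_cons_of_mem _ (List.mem_cons_of_mem _
        List.mem_cons_self)))
    have h1 := Cfsg.Agent.Helper6.StEmb.card_center (K := K) hA hE8 hinj8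
      Cfsg.Agent.Helper6.StEmb.embOK68
    have h2 := Cfsg.Agent.Helper6.StEmb.card_ker_mul (K := K) Cfsg.Lie.chevE6 hA
    have h3 := Cfsg.Agent.S1035.result (F := K) rfl (Cfsg.Lie.chevE6, Nat.gcd 3 (Fintype.card K - 1))
      (List.mem_cons_of_mem _ (List.mem_cons_of_mem _ (List.mem_cons_of_mem _ List.mem_cons_self)))
    show Nat.card (Subgroup.center (Cfsg.Lie.chevE6.SteinbergGroup K)) = Nat.gcd 3 (Fintype.card K - 1)
    rw [h1]
    exact Nat.eq_of_mul_eq_mul_right (hpos _) (h2.trans h3.symm)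
  · have hA : Cfsg.Lie.chevE7 ∈ [Cfsg.Lie.chevG2, Cfsg.Lie.chevB2, Cfsg.Lie.chevD4, Cfsg.Lie.chevF4,
        Cfsg.Lie.chevE6, Cfsg.Lie.chevE7, Cfsg.Lie.chevE8] :=
      List.mem_cons_of_mem _ (List.mem_cons_of_mem _ (List.mem_cons_of_mem _ (List.mem_cons_of_mem _
        (List.mem_cons_of_mem _ List.mem_cons_self))))
    have h1 := Cfsg.Agent.Helper6.StEmb.card_center (K := K) hA hE8 hinj8
      Cfsg.Agent.Helper6.StEmb.embOK78
    have h2 := Cfsg.Agent.Helper6.StEmb.card_ker_mul (K := K) Cfsg.Lie.chevE7 hA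
    have h3 := Cfsg.Agent.S1035.result (F := K) rfl (Cfsg.Lie.chevE7, Nat.gcd 2 (Fintype.card K - 1))
      (List.mem_cons_of_mem _ (List.mem_cons_of_mem _ (List.mem_cons_of_mem _ (List.mem_cons_of_mem _
        List.mem_cons_self))))
    show Nat.card (Subgroup.center (Cfsg.Lie.chevE7.SteinbergGroup K)) = Nat.gcd 2 (Fintype.card K - 1)
    rw [h1]
    exact Nat.eq_of_mul_eq_mul_right (hpos _) (h2.trans h3.symm)

end Cfsg.Agent.S1079
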