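import Mathlib
import Cfsg.Statements.S1094
import Cfsg.Agent.Lib.Helper6.CoxeterOrder
import Cfsg.Agent.Lib.Helper6.CoxeterDataSmall
import Cfsg.Agent.Lib.Helper6.CoxeterDataE
import Cfsg.Agent.S1092

set_option autoImplicit false
open Cfsg

namespace Cfsg.Agent.S1094

open Cfsg.Agent.Helper6.TC

theorem ordB2 : orderOk certB2.A 2 (List.range 2) 4 0 = true := by decide +kernel
theorem ordG2 : orderOk certG2.A 2 (List.range 2) 6 0 = true := by decide +kernel
theorem ordD4 : orderOk certD4.A 4 (List.range 4) 6 0 = true := by decide +kernel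
theorem ordF4 : orderOk certF4.A 4 (List.range 4) 12 0 = true := by decide +kernel
theorem ordE6 : orderOk certE6.A 6 (List.range 6) 12 0 = true := by decide +kernel
theorem ordE7 : orderOk certE7.A 7 (List.range 7) 18 0 = true := by decide +kernel
theorem ordE8 : orderOk certE8.A 8 (List.range 8) 30 0 = true := by decide +kernel

/-- The Coxeter element `s₁ s₂ ⋯ s_l` of the Coxeter group of type B₂, G₂, D₄, F₄, E₆, E₇, E₈ has order `h = 2N/l` = 4, 6, 6, 12, 12, 18, 30. -/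
theorem result (p : (Σ n : ℕ, CoxeterMatrix (Fin n)) × ℕ)
    (hp : p ∈ [(⟨2, CoxeterMatrix.B 2⟩, 4), (⟨2, CoxeterMatrix.G₂⟩, 6), (⟨4, Cfsg.Lie.coxeterD4⟩, 6), (⟨4, CoxeterMatrix.F₄⟩, 12),
      (⟨6, CoxeterMatrix.E₆⟩, 12), (⟨7, CoxeterMatrix.E₇⟩, 18), (⟨8, CoxeterMatrix.E₈⟩, 30)]) :
    orderOf ((List.finRange p.1.1).map p.1.2.simple).prod = p.2 := by
  simp only [List.mem_cons, List.not_mem_nil, or_false] at hp
  rcases hp with rfl | rfl | rfl | rfl | rfl | rfl | rfl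
  · exact coxeterElement_orderOf (CoxeterMatrix.B 2) certB2 mB2_eq certB2_ok 4 0 ordB2
  · exact coxeterElement_orderOf CoxeterMatrix.G₂ certG2 mG2_eq certG2_ok 6 0 ordG2
  · exact coxeterElement_orderOf Cfsg.Lie.coxeterD4 certD4 Cfsg.Agent.S1092.mD4_eq certD4_ok 6 0
      ordD4
  · exact coxeterElement_orderOf CoxeterMatrix.F₄ certF4 mF4_eq certF4_ok 12 0 ordF4
  · exact coxeterElement_orderOf CoxeterMatrix.E₆ certE6 mE6_eq certE6_ok 12 0 ordE6
  · exact coxeterElement_orderOf CoxeterMatrix.E₇ certE7 mE7_eq certE7_ok 18 0 ordE7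
  · exact coxeterElement_orderOf CoxeterMatrix.E₈ certE8 mE8_eq certE8_ok 30 0 ordE8

end Cfsg.Agent.S1094
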