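import Mathlib
import Cfsg.Statements.S1095
import Cfsg.Agent.Lib.Lead.ChevN_G2
import Cfsg.Agent.Lib.Lead.ChevN_B2
import Cfsg.Agent.Lib.Lead.ChevN_D4
import Cfsg.Agent.Lib.Lead.ChevN_F4
import Cfsg.Agent.Lib.Lead.ChevN_E6
import Cfsg.Agent.Lib.Lead.ChevN_E7
import Cfsg.Agent.Lib.Lead.ChevN_E8

set_option autoImplicit false
open Cfsg

namespace Cfsg.Agent.S1095

open Cfsg.Agent.Lead.Chev

/-- `n_p` (p = p_{i+1} fundamental) is the signed monomial matrix `h_{p_j} ↦ h_{p_j} - A_{p_j,p} h_p`, `e_s ↦ η_s e_{w_p(s)}`, with `η_s = ±1`, `η_p = η_{-p} = -1`, `η_s η_{w_p(s)} = (-1)^{A_{p,s}}`, `η_s η_{-s} = 1`. -/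
theorem result {F : Type*} [Field F] (D : Cfsg.Lie.ChevalleyDatum) (hD : D ∈ [Cfsg.Lie.chevG2, Cfsg.Lie.chevB2, Cfsg.Lie.chevD4, Cfsg.Lie.chevF4, Cfsg.Lie.chevE6, Cfsg.Lie.chevE7, Cfsg.Lie.chevE8]) (i : ℕ) (hi : i < D.rank) :
    ∃ η : ℕ → ℤ, (∀ s < D.nroots, η s = 1 ∨ η s = -1) ∧ η (D.simple i) = -1 ∧ η (D.neg (D.simple i)) = -1 ∧
      (∀ s < D.nroots, η s * η (D.reflectRoot i s) = (-1) ^ (D.cartan i s).natAbs ∧ η s * η (D.neg s) = 1) ∧
      D.nMat F (D.simple i) 1 = Matrix.of (fun (row col : D.Idx) =>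
        Sum.elim
          (fun j' : Fin D.rank => Sum.elim
            (fun j : Fin D.rank => (if j' = j then (1 : F) else 0) - (if (j' : ℕ) = i then ((D.cartan j (D.simple i) : ℤ) : F) else 0))
            (fun _ => (0 : F)) col)
          (fun s' : Fin D.nroots => Sum.elim
            (fun _ => (0 : F))
            (fun s : Fin D.nroots => if (s' : ℕ) = D.reflectRoot i s then ((η s : ℤ) : F) else 0) col)
          row) := by
  simp only [List.mem_cons, List.mem_nil_iff, or_false] at hD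
  rcases hD with rfl | rfl | rfl | rfl | rfl | rfl | rfl
  · exact nMat_of_chk (F := F) _ nMasks_G2 i hi (nP_G2 i hi) (nL_G2 i hi) (nR_G2 i hi)
  · exact nMat_of_chk (F := F) _ nMasks_B2 i hi (nP_B2 i hi) (nL_B2 i hi) (nR_B2 i hi)
  · exact nMat_of_chk (F := F) _ nMasks_D4 i hi (nP_D4 i hi) (nL_D4 i hi) (nR_D4 i hi)
  · exact nMat_of_chk (F := F) _ nMasks_F4 i hi (nP_F4 i hi) (nL_F4 i hi) (nR_F4 i hi)
  · exact nMat_of_chk (F := F) _ nMasks_E6 i hi (nP_E6 i hi) (nL_E6 i hi) (nR_E6 i hi)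
  · exact nMat_of_chk (F := F) _ nMasks_E7 i hi (nP_E7 i hi) (nL_E7 i hi) (nR_E7 i hi)
  · exact nMat_of_chk (F := F) _ nMasks_E8 i hi (nP_E8 i hi) (nL_E8 i hi) (nR_E8 i hi)

end Cfsg.Agent.S1095
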