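import Mathlib
import Cfsg.Statements.S1096
import Cfsg.Agent.S1095
import Cfsg.Agent.Lib.Lead.ChevHFacts
import Cfsg.Agent.Lib.Lead.ChevNH_All

set_option autoImplicit false
open Cfsg

namespace Cfsg.Agent.S1096

open Cfsg.Agent.Lead.Chev Cfsg.Lie

theorem nh_of_mem (D : ChevalleyDatum)
    (hD : D ∈ [chevG2, chevB2, chevD4, chevF4, chevE6, chevE7, chevE8]) (i : ℕ) (hi : i < D.rank)
    (j : ℕ) (hj : j < D.rank) :
    D.reflectRoot i (D.simple j) < D.nroots ∧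
      ∀ s < D.nroots, corSum D (D.reflectRoot i (D.simple j)) (D.reflectRoot i s) = D.cartan j s := by
  have hrow := rowOK_of_mem D hD
  simp only [List.mem_cons, List.mem_nil_iff, or_false] at hD
  rcases hD with rfl | rfl | rfl | rfl | rfl | rfl | rfl
  · exact nh_of_chk _ hrow i (nhOK_G2 0 (by norm_num) i hi) j hj
  · exact nh_of_chk _ hrow i (nhOK_B2 0 (by norm_num) i hi) j hj
  · exact nh_of_chk _ hrow i (nhOK_D4 0 (by norm_num) i hi) j hj
  · exact nh_of_chk _ hrow i (nhOK_F4 0 (by norm_num) i hi) j hj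
  · exact nh_of_chk _ hrow i (nhOK_E6 0 (by norm_num) i hi) j hj
  · exact nh_of_chk _ hrow i (nhOK_E7 0 (by norm_num) i hi) j hj
  · exact nh_of_chk _ hrow i (nhOK_E8 0 (by norm_num) i hi) j hj

/-- `n_p h_{p_j}(t) n_p⁻¹ = h_{w_p(p_j)}(t)` for fundamental `p`, `p_j` and `t ≠ 0`, stated as `n_p h_{p_j}(t) = h_{w_p(p_j)}(t) n_p`. -/
theorem result {F : Type*} [Field F] (D : Cfsg.Lie.ChevalleyDatum) (hD : D ∈ [Cfsg.Lie.chevG2, Cfsg.Lie.chevB2, Cfsg.Lie.chevD4, Cfsg.Lie.chevF4, Cfsg.Lie.chevE6, Cfsg.Lie.chevE7, Cfsg.Lie.chevE8]) (i j : ℕ) (hi : i < D.rank) (hj : j < D.rank) (t : F) (ht : t ≠ 0) :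
    D.nMat F (D.simple i) 1 * D.hMat F (D.simple j) t = D.hMat F (D.reflectRoot i (D.simple j)) t * D.nMat F (D.simple i) 1 := by
  obtain ⟨η, -, -, -, -, hn⟩ := Cfsg.Agent.S1095.result (F := F) D hD i hi
  obtain ⟨hr', hexp⟩ := nh_of_mem D hD i hi j hj
  rw [hn, hSimple_of_mem D hD j hj t ht, hAll_of_mem D hD _ hr' t ht]
  ext row col
  rw [Matrix.mul_diagonal, Matrix.diagonal_mul]
  rcases row with j' | s' <;> rcases col with j0 | s
  · simp
  · simp
  · simp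
  · simp only [Matrix.of_apply, Sum.elim_inr]
    split_ifs with h
    · rw [h, hexp s.val s.2, mul_comm]
    · simp

end Cfsg.Agent.S1096
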