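import Cfsg.Statements.S1097
import Cfsg.Agent.Lib.Helper6.StPres
import Cfsg.Agent.Lib.Helper6.StTorus
-- import your own Cfsg.Agent.* helpers here

set_option autoImplicit false
open Cfsg

namespace Cfsg.Agent.S1097

/-- Any homomorphism from the presented group to the Chevalley group with `x̄_r(t) ↦ x_r(t)` has kernel contained in `H̄ = ⟨h̄_p(t) : p fundamental, t ≠ 0⟩`. -/
theorem result {K : Type*} [Field K] (D : Cfsg.Lie.ChevalleyDatum) (hD : D ∈ [Cfsg.Lie.chevG2, Cfsg.Lie.chevB2, Cfsg.Lie.chevD4, Cfsg.Lie.chevF4, Cfsg.Lie.chevE6, Cfsg.Lie.chevE7, Cfsg.Lie.chevE8]) (θ : D.SteinbergGroup K →* ↥(D.group K))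
    (hθ : ∀ (r : ℕ) (t : K), r < D.nroots → ((θ (D.stGen K r t) : GL D.Idx K) : Matrix D.Idx D.Idx K) = D.x K r t) :
    θ.ker ≤ Subgroup.closure {h | ∃ (i : ℕ) (t : K), i < D.rank ∧ t ≠ 0 ∧ h = PresentedGroup.mk (D.steinbergRels K) (D.stH (D.simple i) t)} := by
  have hF := Cfsg.Agent.Lead.Chev.chevFacts_of_mem (F := K) D hD
  have hsub : D.steinbergRelsAB K ⊆ D.steinbergRels K := by
    rintro g (hg | hg)
    · exact Or.inl (Or.inl hg)
    · exact Or.inl (Or.inr hg)
  have hS : Cfsg.Agent.Helper6.StC.Setup D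
      (fun r t => PresentedGroup.mk (D.steinbergRels K) (D.stX r t))
      ((D.group K).subtype.comp θ) :=
    { rel := Cfsg.Agent.Helper6.StC.stRel_of_rels D _ hsub
      facts := hF
      map := by
        intro r hr t
        apply Units.ext
        exact hθ r t hr
      equiv := (Cfsg.Agent.Helper6.StC.stData_of_mem D hD).equiv
      rank_pos := (Cfsg.Agent.Helper6.StC.stData_of_mem D hD).rank_pos
      xinj := fun r hr t h => (Cfsg.Agent.S1024.result D hD r hr t).1 h }
  have hker := hS.ker_le_subH (Cfsg.Agent.Helper6.StC.stData_of_mem D hD)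
    (Cfsg.Agent.Helper6.StC.gen_eq_top (D.steinbergRels K))
  intro g hg
  have hg' : g ∈ ((D.group K).subtype.comp θ).ker := by
    rw [MonoidHom.mem_ker] at hg ⊢
    rw [MonoidHom.comp_apply, hg, map_one]
  have h1 := hker hg'
  have hle : Cfsg.Agent.Helper6.StC.subH D (fun r t => PresentedGroup.mk (D.steinbergRels K) (D.stX r t)) ≤
      Subgroup.closure {h | ∃ (i : ℕ) (t : K), i < D.rank ∧ t ≠ 0 ∧
        h = PresentedGroup.mk (D.steinbergRels K) (D.stH (D.simple i) t)} := by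
    unfold Cfsg.Agent.Helper6.StC.subH
    apply Subgroup.closure_mono
    rintro y ⟨i, hi, t, ht, rfl⟩
    exact ⟨i, t, hi, ht, (Cfsg.Agent.Helper6.StC.mk_stH D _ (D.simple i) t).symm⟩
  exact hle h1

end Cfsg.Agent.S1097
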