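import Mathlib
import Cfsg.Statements.S1107
import Cfsg.Agent.Lib.Lead.TwE6Cox
-- import your own Cfsg.Agent.* helpers here

set_option autoImplicit false
open Cfsg

namespace Cfsg.Agent.S1107

/-- `N¹/H¹ ≅ W¹`: a surjective homomorphism from `N¹ = G¹ ∩ N` onto the Coxeter group of type G₂ (dihedral of order 12) with kernel `H¹`. -/
theorem result {K : Type*} [Field K] [Fintype K] {q : ℕ} (hq : IsPrimePow q) (hK : Fintype.card K = q ^ 3) :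
    ∃ φ : ↥(Cfsg.Lie.chevD4.monomialSubgroup K ⊓ Cfsg.Lie.twistedD4 K q) →* (CoxeterMatrix.G₂).Group, Function.Surjective φ ∧
      φ.ker = (Cfsg.Lie.chevD4.diagonalSubgroup K ⊓ Cfsg.Lie.twistedD4 K q).subgroupOf (Cfsg.Lie.chevD4.monomialSubgroup K ⊓ Cfsg.Lie.twistedD4 K q) := by
  obtain ⟨f, hf⟩ := Cfsg.Agent.Lead.Tw.exists_frob hq hK
  have e := Cfsg.Agent.Lead.Tw.D4.twisted_eq hK f hf
  have hG := (Cfsg.Agent.Lead.Tw.D4.orthData f).twGroup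
    (Cfsg.Agent.Lead.Chev.corSize_of_mem _ Cfsg.Agent.Lead.Tw.D4.hmem)
    (Cfsg.Agent.Lead.Chev.corComb_of_mem _ Cfsg.Agent.Lead.Tw.D4.hmem)
  rw [← e] at hG
  exact hG.exists_weyl_hom' (Cfsg.Agent.Lead.Chev.corSize_of_mem _ Cfsg.Agent.Lead.Tw.D4.hmem)
    Cfsg.Agent.Lead.Tw.D4.Sord Cfsg.Agent.Lead.Tw.D4.Sord_nodup Cfsg.Agent.Lead.Tw.D4.Sord_mem rfl
    CoxeterMatrix.G₂ Cfsg.Agent.Lead.Tw.D4.g2tab Cfsg.Agent.Lead.Tw.D4.g2tab_eq Cfsg.Agent.Lead.Tw.D4.ord_ok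

end Cfsg.Agent.S1107
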