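import Mathlib
import Cfsg.Statements.S1115
import Cfsg.Agent.Lib.Lead.TwReeCox
import Cfsg.Agent.Lib.Lead.TwReeSetup
-- import your own Cfsg.Agent.* helpers here

set_option autoImplicit false
open Cfsg

namespace Cfsg.Agent.S1115

/-- `N¹/H¹ ≅ W¹`: a surjective homomorphism from `N¹ = G¹ ∩ N` onto the group of order 2 with kernel `H¹`. -/
theorem result {K : Type*} [Field K] [Fintype K] {m : ℕ} (hK : Fintype.card K = 3 ^ (2 * m + 1)) :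
    ∃ φ : ↥(Cfsg.Lie.chevG2.monomialSubgroup K ⊓ Cfsg.Lie.twistedG2 K (3 ^ m)) →* Multiplicative (ZMod 2), Function.Surjective φ ∧
      φ.ker = (Cfsg.Lie.chevG2.diagonalSubgroup K ⊓ Cfsg.Lie.twistedG2 K (3 ^ m)).subgroupOf (Cfsg.Lie.chevG2.monomialSubgroup K ⊓ Cfsg.Lie.twistedG2 K (3 ^ m)) := by
  obtain ⟨hc, hperf, f, hf⟩ := Cfsg.Agent.Lead.Tw.exists_ree_setup 3 Nat.prime_three m hK
  have := hc
  have hG := (Cfsg.Agent.Lead.Tw.G2.clsData hK hperf f hf).twGroup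
    Cfsg.Agent.Lead.Tw.G2.hS Cfsg.Agent.Lead.Tw.G2.hC
  exact Cfsg.Agent.Lead.Tw.exists_hom_of_mulEquiv
    (Cfsg.Agent.Lead.Tw.nonempty_mulEquiv_zmod_two (CoxeterMatrix.A 1)
      (CoxeterMatrix.A 1).toCoxeterSystem) _
    (hG.exists_weyl_hom' Cfsg.Agent.Lead.Tw.G2.hS
      Cfsg.Agent.Lead.Tw.G2.S Cfsg.Agent.Lead.Tw.G2.S_nodup (fun _ => Iff.rfl) rfl
      (CoxeterMatrix.A 1) Cfsg.Agent.Lead.Tw.G2.a1tab Cfsg.Agent.Lead.Tw.G2.a1tab_eq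
      Cfsg.Agent.Lead.Tw.G2.ord_ok)

end Cfsg.Agent.S1115
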