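import Mathlib
import Cfsg.Statements.S1124
import Cfsg.Agent.Lib.Helper6.Dihedral

set_option autoImplicit false
open scoped Pointwise
open Cfsg

namespace Cfsg.Agent.S1124

open Cfsg.Agent.Helper6

variable {M : Type*} [Group M]

theorem odd_orderOf_of_mem [Finite M] (X : Subgroup M) (hodd : Odd (Nat.card X)) (x : M) (hx : x ∈ X) :
    Odd (orderOf x) := by
  have h1 : orderOf (⟨x, hx⟩ : X) ∣ Nat.card X := orderOf_dvd_natCard _
  have h2 : orderOf (⟨x, hx⟩ : X) = orderOf x := Subgroup.orderOf_mk x hx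
  rw [h2] at h1
  exact Odd.of_dvd_nat hodd h1

/-- the product map is injective -/
theorem prod_inj [Finite M] (t : M) (htt : t * t = 1) (X : Subgroup M) (hodd : Odd (Nat.card X))
    (y z y' z' : M) (hy : y ∈ X ⊓ Subgroup.centralizer {t}) (hz : z ∈ Cfsg.invertedBy X t)
    (hy' : y' ∈ X ⊓ Subgroup.centralizer {t}) (hz' : z' ∈ Cfsg.invertedBy X t)
    (h : y * z = y' * z') : y = y' ∧ z = z' := by
  have hti : t⁻¹ = t := inv_eq_self_of_mul_self htt
  have hyc : y * t = t * y := Subgroup.mem_centralizer_singleton_iff.mp hy.2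
  have hyc' : y' * t = t * y' := Subgroup.mem_centralizer_singleton_iff.mp hy'.2
  -- apply conjugation by t
  have h1 : y * z⁻¹ = y' * z'⁻¹ := by
    have e1 : t * (y * z) * t⁻¹ = y * z⁻¹ := by
      calc t * (y * z) * t⁻¹ = (t * y) * t⁻¹ * (t * z * t⁻¹) := by group
        _ = y * z⁻¹ := by rw [← hyc, hz.2]; group
    have e2 : t * (y' * z') * t⁻¹ = y' * z'⁻¹ := by
      calc t * (y' * z') * t⁻¹ = (t * y') * t⁻¹ * (t * z' * t⁻¹) := by group
        _ = y' * z'⁻¹ := by rw [← hyc', hz'.2]; group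
    rw [← e1, ← e2, h]
  have h2 : z * z = z' * z' := by
    calc z * z = (y * z⁻¹)⁻¹ * (y * z) := by group
      _ = (y' * z'⁻¹)⁻¹ * (y' * z') := by rw [h1, h]
      _ = z' * z' := by group
  have hzz' : z = z' := eq_of_sq_eq_of_odd (odd_orderOf_of_mem X hodd z hz.1) (odd_orderOf_of_mem X hodd z' hz'.1) h2
  refine ⟨?_, hzz'⟩
  rw [hzz'] at h
  exact mul_right_cancel h

theorem exists_decomp [Finite M] (t : M) (htt : t * t = 1) (X : Subgroup M) (hodd : Odd (Nat.card X))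
    (hnorm : ∀ x ∈ X, t * x * t⁻¹ ∈ X) (x : M) (hx : x ∈ X) :
    ∃ y z : M, y ∈ X ⊓ Subgroup.centralizer {t} ∧ z ∈ Cfsg.invertedBy X t ∧ x = y * z := by
  have hti : t⁻¹ = t := inv_eq_self_of_mul_self htt
  set q := (t * x * t⁻¹)⁻¹ * x with hq
  have hqX : q ∈ X := X.mul_mem (X.inv_mem (hnorm x hx)) hx
  have hqinv : t * q * t⁻¹ = q⁻¹ := by
    calc t * q * t⁻¹ = (t * t) * x⁻¹ * t⁻¹ * x * t⁻¹ := by rw [hq]; group
      _ = x⁻¹ * t⁻¹ * x * t⁻¹ := by rw [htt, one_mul]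
      _ = q⁻¹ := by rw [hq, hti]; group
  obtain ⟨m, hm⟩ := odd_orderOf_of_mem X hodd q hqX
  have hqm : q ^ (2 * m + 1) = 1 := by rw [← hm]; exact pow_orderOf_eq_one q
  set z := q ^ (m + 1) with hz
  have hzz : z * z = q := by
    rw [hz, ← pow_add]
    have : m + 1 + (m + 1) = (2 * m + 1) + 1 := by ring
    rw [this, pow_succ, hqm, one_mul]
  have hzX : z ∈ X := X.pow_mem hqX _
  have hzinv : t * z * t⁻¹ = z⁻¹ := by
    rw [hz, ← conj_pow, hqinv, inv_pow]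
  refine ⟨x * z⁻¹, z, Subgroup.mem_inf.mpr ⟨X.mul_mem hx (X.inv_mem hzX), ?_⟩, ⟨hzX, hzinv⟩, by group⟩
  rw [Subgroup.mem_centralizer_singleton_iff]
  -- (x z⁻¹) t = t (x z⁻¹)  ⟸  t x t⁻¹ z = x z⁻¹
  have h1 : t * (x * z⁻¹) * t⁻¹ = x * z⁻¹ := by
    have hzi : t * z⁻¹ * t⁻¹ = z := by
      have := congrArg Inv.inv hzinv
      rw [inv_inv] at this
      calc t * z⁻¹ * t⁻¹ = (t * z * t⁻¹)⁻¹ := by group
        _ = z := this
    have hx' : t * x * t⁻¹ = x * q⁻¹ := by rw [hq]; group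
    calc t * (x * z⁻¹) * t⁻¹ = (t * x * t⁻¹) * (t * z⁻¹ * t⁻¹) := by group
      _ = x * q⁻¹ * z := by rw [hzi, hx']
      _ = x * (z * z)⁻¹ * z := by rw [hzz]
      _ = x * z⁻¹ := by group
  calc x * z⁻¹ * t = (t * (x * z⁻¹) * t⁻¹)⁻¹ * (t * (x * z⁻¹) * t⁻¹) * (x * z⁻¹) * t := by group
    _ = (x * z⁻¹)⁻¹ * (t * (x * z⁻¹) * t⁻¹) * (x * z⁻¹) * t := by rw [h1]
    _ = (x * z⁻¹)⁻¹ * (t * (x * z⁻¹) * t⁻¹) * (t * (x * z⁻¹) * t⁻¹) * t := by rw [h1]
    _ = (x * z⁻¹)⁻¹ * (t * (x * z⁻¹) * t⁻¹) * (t * (x * z⁻¹)) := by group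
    _ = t * (x * z⁻¹) := by rw [h1]; group

theorem conj_smul_closure_of_centralizer (t : M) (X : Subgroup M) (y : M)
    (hy : y ∈ X ⊓ Subgroup.centralizer {t}) :
    MulAut.conj y • Subgroup.closure (Cfsg.invertedBy X t) = Subgroup.closure (Cfsg.invertedBy X t) := by
  have hyc : y * t = t * y := Subgroup.mem_centralizer_singleton_iff.mp hy.2
  have key : ∀ y : M, y ∈ X → y * t = t * y → ∀ i ∈ Cfsg.invertedBy X t, y * i * y⁻¹ ∈ Cfsg.invertedBy X t := by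
    intro y hyX hyc i hi
    refine ⟨X.mul_mem (X.mul_mem hyX hi.1) (X.inv_mem hyX), ?_⟩
    calc t * (y * i * y⁻¹) * t⁻¹ = (t * y) * i * (t * y)⁻¹ := by group
      _ = (y * t) * i * (y * t)⁻¹ := by rw [hyc]
      _ = y * (t * i * t⁻¹) * y⁻¹ := by group
      _ = y * i⁻¹ * y⁻¹ := by rw [hi.2]
      _ = (y * i * y⁻¹)⁻¹ := by group
  rw [Subgroup.smul_closure]
  congr 1
  ext w
  constructor
  · rintro ⟨i, hi, rfl⟩
    exact key y hy.1 hyc i hi
  · intro hw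
    refine ⟨y⁻¹ * w * y, ?_, ?_⟩
    · have hyc' : y⁻¹ * t = t * y⁻¹ := by
        calc y⁻¹ * t = y⁻¹ * (t * y) * y⁻¹ := by group
          _ = y⁻¹ * (y * t) * y⁻¹ := by rw [hyc]
          _ = t * y⁻¹ := by group
      have := key y⁻¹ (X.inv_mem hy.1) hyc' w hw
      rwa [inv_inv] at this
    · show MulAut.conj y (y⁻¹ * w * y) = w
      rw [MulAut.conj_apply]; group

/-- Let `t` be an element of order 2 of a finite group normalising a subgroup `X` of odd order, `Y = C_X(t)` and `Z` the set of elements of `X` inverted by `t`. Then `(y, z) ↦ y z` is a bijection `Y × Z → X`, so `|X| = |Y| |Z|`, and the subgroup generated by `Z` is normal in `X`. -/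
theorem result {M : Type*} [Group M] [Finite M]
    (t : M) (ht : orderOf t = 2) (X : Subgroup M) (hodd : Odd (Nat.card X))
    (hnorm : ∀ x ∈ X, t * x * t⁻¹ ∈ X) :
    (∀ x ∈ X, ∃! p : M × M, p.1 ∈ X ⊓ Subgroup.centralizer {t} ∧ p.2 ∈ Cfsg.invertedBy X t ∧ x = p.1 * p.2) ∧
      Nat.card X = Nat.card ↥(X ⊓ Subgroup.centralizer {t}) * Nat.card (Cfsg.invertedBy X t) ∧
      ∀ x ∈ X, MulAut.conj x • Subgroup.closure (Cfsg.invertedBy X t) = Subgroup.closure (Cfsg.invertedBy X t) := by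
  have htt : t * t = 1 := by
    have := pow_orderOf_eq_one t
    rwa [ht, pow_two] at this
  refine ⟨?_, ?_, ?_⟩
  · intro x hx
    obtain ⟨y, z, hy, hz, hxyz⟩ := exists_decomp t htt X hodd hnorm x hx
    refine ⟨(y, z), ⟨hy, hz, hxyz⟩, ?_⟩
    rintro ⟨y', z'⟩ ⟨hy', hz', hx'⟩
    simp only at hy' hz' hx'
    obtain ⟨e1, e2⟩ := prod_inj t htt X hodd y' z' y z hy' hz' hy hz (by rw [← hx', ← hxyz])
    rw [e1, e2]
  · let f : ↥(X ⊓ Subgroup.centralizer {t}) × ↥(Cfsg.invertedBy X t) → ↥X :=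
      fun p => ⟨(p.1 : M) * (p.2 : M), X.mul_mem p.1.2.1 p.2.2.1⟩
    have hf : Function.Bijective f := by
      constructor
      · rintro ⟨y, z⟩ ⟨y', z'⟩ h
        have h' : (y : M) * (z : M) = (y' : M) * (z' : M) := congrArg Subtype.val h
        obtain ⟨e1, e2⟩ := prod_inj t htt X hodd y z y' z' y.2 z.2 y'.2 z'.2 h'
        exact Prod.ext (Subtype.ext e1) (Subtype.ext e2)
      · rintro ⟨x, hx⟩
        obtain ⟨y, z, hy, hz, hxyz⟩ := exists_decomp t htt X hodd hnorm x hx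
        exact ⟨(⟨y, hy⟩, ⟨z, hz⟩), Subtype.ext hxyz.symm⟩
    rw [← Nat.card_prod]
    exact (Nat.card_congr (Equiv.ofBijective f hf)).symm
  · intro x hx
    obtain ⟨y, z, hy, hz, hxyz⟩ := exists_decomp t htt X hodd hnorm x hx
    rw [hxyz, map_mul, mul_smul]
    rw [Subgroup.conj_smul_eq_self_of_mem (Subgroup.subset_closure hz)]
    exact conj_smul_closure_of_centralizer t X y hy

end Cfsg.Agent.S1124
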