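import Mathlib
import Cfsg.Statements.S1125
import Cfsg.Agent.Lib.Helper6.RankOne
import Cfsg.Agent.S1121

set_option autoImplicit false
open Cfsg

namespace Cfsg.Agent.S1125

open Cfsg.Agent.Helper6.RankOne MulAction

/-- If `X ⊆ G_a` fixes `ω, ω' ≠ a`, the unique element of `Q` taking `ω` to `ω'` centralises `X`. -/
theorem exists_centralizing_Q {G Ω : Type*} [Group G] [MulAction G Ω] {a : Ω} {t : G} {Q : Subgroup G}
    (hS : Cfsg.IsRankOneSetup G Ω a t Q) (X : Set G)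
    (hXa : ∀ x ∈ X, x • a = a) (ω ω' : Ω) (hω : ∀ x ∈ X, x • ω = ω) (hω' : ∀ x ∈ X, x • ω' = ω')
    (h1 : ω ≠ a) (h2 : ω' ≠ a) : ∃ q ∈ Q, q ∈ Subgroup.centralizer X ∧ q • ω = ω' := by
  obtain ⟨⟨q, hq⟩, hq1, hq2⟩ := existsUnique_smul hS ω ω' h1 h2
  have hq1' : q • ω = ω' := hq1
  refine ⟨q, hq, ?_, hq1⟩
  rw [Subgroup.mem_centralizer_iff]
  intro x hx
  have hxa : x ∈ stabilizer G a := mem_stabilizer_iff.mpr (hXa x hx)
  have h3 : x * q * x⁻¹ ∈ Q := hS.conj_mem x hxa q hq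
  have h4 : (x * q * x⁻¹) • ω = ω' := by
    rw [mul_smul, mul_smul]
    have : x⁻¹ • ω = ω := by rw [inv_smul_eq_iff, hω x hx]
    rw [this, hq1', hω' x hx]
  have h5 := hq2 ⟨x * q * x⁻¹, h3⟩ h4
  have h6 : x * q * x⁻¹ = q := congrArg Subtype.val h5
  calc x * q = (x * q * x⁻¹) * x := by group
    _ = q * x := by rw [h6]

/-- The same at an arbitrary point `p` fixed by `X`. -/
theorem exists_centralizing {G Ω : Type*} [Group G] [MulAction G Ω] {a : Ω} {t : G} {Q : Subgroup G}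
    (hS : Cfsg.IsRankOneSetup G Ω a t Q) (X : Set G) (p ω ω' : Ω)
    (hp : ∀ x ∈ X, x • p = p) (hω : ∀ x ∈ X, x • ω = ω) (hω' : ∀ x ∈ X, x • ω' = ω')
    (h1 : ω ≠ p) (h2 : ω' ≠ p) : ∃ q ∈ Subgroup.centralizer X, q • p = p ∧ q • ω = ω' := by
  have : IsPretransitive G Ω := by
    have := hS.two_transitive
    exact isPretransitive_of_is_two_pretransitive
  obtain ⟨g, hg⟩ := exists_smul_eq G a p
  have hgi : g⁻¹ • p = a := by rw [← hg, inv_smul_smul]
  have key : ∀ (η : Ω), (∀ x ∈ X, x • η = η) → ∀ x' ∈ ((fun x => g⁻¹ * x * g) '' X), x' • g⁻¹ • η = g⁻¹ • η := by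
    intro η hη x' hx'
    obtain ⟨x, hx, rfl⟩ := hx'
    show (g⁻¹ * x * g) • g⁻¹ • η = g⁻¹ • η
    rw [mul_smul, mul_smul, smul_inv_smul, hη x hx]
  have ha' : ∀ x' ∈ ((fun x => g⁻¹ * x * g) '' X), x' • a = a := by
    intro x' hx'
    have := key p hp x' hx'
    rwa [hgi] at this
  have hne1 : g⁻¹ • ω ≠ a := by
    intro h
    apply h1
    rw [← hg, ← h, smul_inv_smul]
  have hne2 : g⁻¹ • ω' ≠ a := by
    intro h
    apply h2
    rw [← hg, ← h, smul_inv_smul]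
  obtain ⟨q, hq, hqc, hqω⟩ := exists_centralizing_Q hS ((fun x => g⁻¹ * x * g) '' X) ha'
    (g⁻¹ • ω) (g⁻¹ • ω') (key ω hω) (key ω' hω') hne1 hne2
  refine ⟨g * q * g⁻¹, ?_, ?_, ?_⟩
  · rw [Subgroup.mem_centralizer_iff]
    intro x hx
    have h3 := Subgroup.mem_centralizer_iff.mp hqc (g⁻¹ * x * g) ⟨x, hx, rfl⟩
    calc x * (g * q * g⁻¹) = g * ((g⁻¹ * x * g) * q) * g⁻¹ := by group
      _ = g * (q * (g⁻¹ * x * g)) * g⁻¹ := by rw [h3]
      _ = g * q * g⁻¹ * x := by group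
  · rw [mul_smul, mul_smul, hgi, mem_stabilizer_iff.mp (hS.le hq), hg]
  · rw [mul_smul, mul_smul, hqω, smul_inv_smul]

theorem pigeon {Ω : Type*} {b c d ω ω' : Ω} (hbc : b ≠ c) (hbd : b ≠ d) (hcd : c ≠ d) :
    (ω ≠ b ∧ ω' ≠ b) ∨ (ω ≠ c ∧ ω' ≠ c) ∨ (ω ≠ d ∧ ω' ≠ d) := by
  by_contra h
  push Not at h
  obtain ⟨h1, h2, h3⟩ := h
  by_cases e1 : ω = b
  · by_cases e2 : ω = c
    · exact hbc (e1.symm.trans e2)
    · have e2' := h2 e2
      by_cases e3 : ω = d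
      · exact hbd (e1.symm.trans e3)
      · have e3' := h3 e3
        exact hcd (e2'.symm.trans e3')
  · have e1' := h1 e1
    by_cases e2 : ω = c
    · by_cases e3 : ω = d
      · exact hcd (e2.symm.trans e3)
      · have e3' := h3 e3
        exact hbd (e1'.symm.trans e3')
    · have e2' := h2 e2
      exact hbc (e1'.symm.trans e2')

/-- For `X ⊆ D` fixing at least three points, `C_G(X)` is doubly transitive on `Fix(X)`,
`C_Q(X)` has even order and `C_{G_a}(X) = C_Q(X) C_D(X)`. -/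
theorem result {G Ω : Type*} [Group G] [Finite G] [MulAction G Ω] {a : Ω} {t : G} {Q : Subgroup G}
    (hS : Cfsg.IsRankOneSetup G Ω a t Q)
    (X : Set G) (hX : X ⊆ ((MulAction.stabilizer G a ⊓ MulAction.stabilizer G (t • a)) : Set G))
    (h3 : ∃ b c d : Ω, b ≠ c ∧ b ≠ d ∧ c ≠ d ∧ ∀ x ∈ X, x • b = b ∧ x • c = c ∧ x • d = d) :
    (∀ b₁ b₂ c₁ c₂ : Ω, (∀ x ∈ X, x • b₁ = b₁ ∧ x • b₂ = b₂ ∧ x • c₁ = c₁ ∧ x • c₂ = c₂) →
        b₁ ≠ b₂ → c₁ ≠ c₂ → ∃ g ∈ Subgroup.centralizer X, g • b₁ = c₁ ∧ g • b₂ = c₂) ∧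
      Even (Nat.card ↥(Subgroup.centralizer X ⊓ Q)) ∧
      (Subgroup.centralizer X ⊓ Q) ⊔ (Subgroup.centralizer X ⊓ (MulAction.stabilizer G a ⊓ MulAction.stabilizer G (t • a))) = Subgroup.centralizer X ⊓ MulAction.stabilizer G a := by
  have hXa : ∀ x ∈ X, x • a = a := fun x hx => mem_stabilizer_iff.mp (hX hx).1
  have hXb : ∀ x ∈ X, x • t • a = t • a := fun x hx => mem_stabilizer_iff.mp (hX hx).2
  have hcF : ∀ g ∈ Subgroup.centralizer X, ∀ ω : Ω, (∀ x ∈ X, x • ω = ω) → ∀ x ∈ X, x • g • ω = g • ω := by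
    intro g hg ω hω x hx
    rw [← mul_smul, Subgroup.mem_centralizer_iff.mp hg x hx, mul_smul, hω x hx]
  obtain ⟨b, c, d, hbc, hbd, hcd, hfix⟩ := h3
  -- transitivity
  have htrans : ∀ ω ω' : Ω, (∀ x ∈ X, x • ω = ω) → (∀ x ∈ X, x • ω' = ω') →
      ∃ g ∈ Subgroup.centralizer X, g • ω = ω' := by
    intro ω ω' hω hω'
    by_cases h : ω = ω'
    · exact ⟨1, Subgroup.one_mem _, by rw [one_smul, h]⟩
    · have : ∃ p, (∀ x ∈ X, x • p = p) ∧ ω ≠ p ∧ ω' ≠ p := by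
        rcases pigeon (ω := ω) (ω' := ω') hbc hbd hcd with hb | hc | hd
        · exact ⟨b, fun x hx => (hfix x hx).1, hb.1, hb.2⟩
        · exact ⟨c, fun x hx => (hfix x hx).2.1, hc.1, hc.2⟩
        · exact ⟨d, fun x hx => (hfix x hx).2.2, hd.1, hd.2⟩
      obtain ⟨p, hp, hp1, hp2⟩ := this
      obtain ⟨q, hq, _, hq2⟩ := exists_centralizing hS X p ω ω' hp hω hω' hp1 hp2
      exact ⟨q, hq, hq2⟩
  have h2trans : ∀ b₁ b₂ c₁ c₂ : Ω, (∀ x ∈ X, x • b₁ = b₁ ∧ x • b₂ = b₂ ∧ x • c₁ = c₁ ∧ x • c₂ = c₂) →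
        b₁ ≠ b₂ → c₁ ≠ c₂ → ∃ g ∈ Subgroup.centralizer X, g • b₁ = c₁ ∧ g • b₂ = c₂ := by
    intro b₁ b₂ c₁ c₂ hall hb hc
    have hb₁ : ∀ x ∈ X, x • b₁ = b₁ := fun x hx => (hall x hx).1
    have hb₂ : ∀ x ∈ X, x • b₂ = b₂ := fun x hx => (hall x hx).2.1
    have hc₁ : ∀ x ∈ X, x • c₁ = c₁ := fun x hx => (hall x hx).2.2.1
    have hc₂ : ∀ x ∈ X, x • c₂ = c₂ := fun x hx => (hall x hx).2.2.2
    obtain ⟨g₁, hg₁, hg₁b⟩ := htrans b₁ c₁ hb₁ hc₁
    have hne : g₁ • b₂ ≠ c₁ := by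
      intro h
      apply hb
      rw [← hg₁b] at h
      exact (smul_left_cancel g₁ h).symm
    obtain ⟨q, hq, hq1, hq2⟩ := exists_centralizing hS X c₁ (g₁ • b₂) c₂ hc₁ (hcF g₁ hg₁ b₂ hb₂) hc₂ hne hc.symm
    refine ⟨q * g₁, Subgroup.mul_mem _ hq hg₁, ?_, ?_⟩
    · rw [mul_smul, hg₁b, hq1]
    · rw [mul_smul, hq2]
  refine ⟨h2trans, ?_, ?_⟩
  · -- an involution in C(X)
    obtain ⟨g, hg, hgb, hgc⟩ := h2trans b c c b (fun x hx => ⟨(hfix x hx).1, (hfix x hx).2.1, (hfix x hx).2.1, (hfix x hx).1⟩) hbc hbc.symm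
    have hodd : ¬ Odd (orderOf g) := by
      rintro ⟨m, hm⟩
      have h1 : g ^ (2 * m + 1) = 1 := by rw [← hm]; exact pow_orderOf_eq_one g
      have h2 : (g * g) • b = b := by rw [mul_smul, hgb, hgc]
      have h3 : ∀ n : ℕ, ((g * g) ^ n) • b = b := by
        intro n
        induction n with
        | zero => simp
        | succ n ih => rw [pow_succ, mul_smul, h2, ih]
      have h4 : g = (g * g) ^ (m + 1) := by
        calc g = g * 1 := (mul_one g).symm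
          _ = g * g ^ (2 * m + 1) := by rw [h1]
          _ = (g * g) ^ (m + 1) := by
            rw [← pow_two, ← pow_mul, ← pow_succ']
            rfl
      have h5 : g • b = b := by
        conv_lhs => rw [h4]
        exact h3 (m + 1)
      rw [hgb] at h5
      exact hbc h5.symm
    have heven : Even (orderOf g) := Nat.not_odd_iff_even.mp hodd
    obtain ⟨m, hm⟩ := heven
    have hpos : 0 < orderOf g := orderOf_pos g
    have hmpos : 0 < m := by omega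
    have hu1 : g ^ m ≠ 1 := by
      apply pow_ne_one_of_lt_orderOf (by omega) (by omega)
    have huu : g ^ m * g ^ m = 1 := by
      rw [← pow_add, ← hm]; exact pow_orderOf_eq_one g
    have huC : g ^ m ∈ Subgroup.centralizer X := Subgroup.pow_mem _ hg m
    -- fixed point of u lies in F
    obtain ⟨e, he⟩ := Cfsg.Agent.S1121.invol_fix_exists hS (g ^ m) huu
    have heF : ∀ x ∈ X, x • e = e := by
      intro x hx
      have : (g ^ m) • x • e = x • e := by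
        rw [← mul_smul, ← Subgroup.mem_centralizer_iff.mp huC x hx, mul_smul, he]
      exact Cfsg.Agent.S1121.invol_fix_unique hS (g ^ m) hu1 huu _ _ this he
    obtain ⟨k, hk, hke⟩ := htrans e a heF hXa
    -- u' = k u k⁻¹
    have hu'C : k * g ^ m * k⁻¹ ∈ Subgroup.centralizer X :=
      Subgroup.mul_mem _ (Subgroup.mul_mem _ hk huC) (Subgroup.inv_mem _ hk)
    have hu'a : k * g ^ m * k⁻¹ ∈ stabilizer G a := by
      rw [mem_stabilizer_iff, mul_smul, mul_smul]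
      have : k⁻¹ • a = e := by rw [← hke, inv_smul_smul]
      rw [this, he, hke]
    have hu'u' : (k * g ^ m * k⁻¹) * (k * g ^ m * k⁻¹) = 1 := by
      calc (k * g ^ m * k⁻¹) * (k * g ^ m * k⁻¹) = k * (g ^ m * g ^ m) * k⁻¹ := by group
        _ = 1 := by rw [huu]; group
    have hu'1 : k * g ^ m * k⁻¹ ≠ 1 := by
      intro h
      apply hu1
      calc g ^ m = k⁻¹ * (k * g ^ m * k⁻¹) * k := by group
        _ = 1 := by rw [h]; group
    have hu'Q : k * g ^ m * k⁻¹ ∈ Q := Cfsg.Agent.S1121.invol_mem_Q hS _ hu'a hu'u'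
    have hmem : k * g ^ m * k⁻¹ ∈ Subgroup.centralizer X ⊓ Q := Subgroup.mem_inf.mpr ⟨hu'C, hu'Q⟩
    have hord : orderOf (⟨k * g ^ m * k⁻¹, hmem⟩ : ↥(Subgroup.centralizer X ⊓ Q)) = 2 := by
      apply orderOf_eq_prime
      · apply Subtype.ext
        rw [pow_two]
        exact hu'u'
      · intro h
        exact hu'1 (congrArg Subtype.val h)
    rw [even_iff_two_dvd, ← hord]
    exact orderOf_dvd_natCard _
  · apply le_antisymm
    · apply sup_le
      · exact inf_le_inf_left _ hS.le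
      · exact inf_le_inf_left _ inf_le_left
    · intro h hh
      obtain ⟨hhC, hha⟩ := Subgroup.mem_inf.mp hh
      have hha' : h • a = a := mem_stabilizer_iff.mp hha
      have hne : h • t • a ≠ a := by
        intro e
        have e' : h • t • a = h • a := e.trans hha'.symm
        exact ta_ne hS (smul_left_cancel h e')
      obtain ⟨q, hq, hqC, hqb⟩ := exists_centralizing_Q hS X hXa (t • a) (h • t • a) hXb (hcF h hhC _ hXb) (ta_ne hS) hne
      have hd : q⁻¹ * h ∈ Subgroup.centralizer X ⊓ (stabilizer G a ⊓ stabilizer G (t • a)) := by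
        refine Subgroup.mem_inf.mpr ⟨Subgroup.mul_mem _ (Subgroup.inv_mem _ hqC) hhC, Subgroup.mem_inf.mpr ⟨?_, ?_⟩⟩
        · exact Subgroup.mul_mem _ (Subgroup.inv_mem _ (hS.le hq)) hha
        · rw [mem_stabilizer_iff, mul_smul, ← hqb, inv_smul_smul]
      have hq' : q ∈ Subgroup.centralizer X ⊓ Q := Subgroup.mem_inf.mpr ⟨hqC, hq⟩
      have : h = q * (q⁻¹ * h) := by group
      rw [this]
      exact Subgroup.mul_mem_sup hq' hd

end Cfsg.Agent.S1125
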