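import Mathlib
import Cfsg.Statements.S1126
import Cfsg.Agent.Lib.Helper6.RankOne
import Cfsg.Agent.Lib.Helper6.Dihedral
import Cfsg.Agent.S1121
import Cfsg.Agent.S1125

set_option autoImplicit false
open Cfsg

namespace Cfsg.Agent.S1126

open Cfsg.Agent.Helper6.RankOne Cfsg.Agent.Helper6 MulAction

/-- An element swapping two distinct points has a power which is an involution. -/
theorem exists_invol_pow_of_swap {G Ω : Type*} [Group G] [Finite G] [MulAction G Ω] (g : G) (b c : Ω)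
    (hbc : b ≠ c) (hgb : g • b = c) (hgc : g • c = b) : ∃ m : ℕ, g ^ m ≠ 1 ∧ g ^ m * g ^ m = 1 := by
  have hodd : ¬ Odd (orderOf g) := by
    rintro ⟨m, hm⟩
    have h1 : g ^ (2 * m + 1) = 1 := by rw [← hm]; exact pow_orderOf_eq_one g
    have h2 : (g * g) • b = b := by rw [mul_smul, hgb, hgc]
    have h3 : ∀ n : ℕ, ((g * g) ^ n) • b = b := by
      intro n
      induction n with
      | zero => simp
      | succ n ih => rw [pow_succ, mul_smul, h2, ih]
    have h4 : g = (g * g) ^ (m + 1) := by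
      calc g = g * 1 := (mul_one g).symm
        _ = g * g ^ (2 * m + 1) := by rw [h1]
        _ = (g * g) ^ (m + 1) := by
          rw [← pow_two, ← pow_mul, ← pow_succ']
          rfl
    have h5 : g • b = b := by
      conv_lhs => rw [h4]
      exact h3 (m + 1)
    rw [hgb] at h5
    exact hbc h5.symm
  have heven : Even (orderOf g) := Nat.not_odd_iff_even.mp hodd
  obtain ⟨m, hm⟩ := heven
  have hpos : 0 < orderOf g := orderOf_pos g
  have hmpos : 0 < m := by omega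
  refine ⟨m, ?_, ?_⟩
  · apply pow_ne_one_of_lt_orderOf (by omega) (by omega)
  · rw [← pow_add, ← hm]; exact pow_orderOf_eq_one g

/-- If `X ⊆ D` fixes at least three points then `C_G(X)` contains an involution interchanging
`a` and `t • a`. -/
theorem exists_swap_invol {G Ω : Type*} [Group G] [Finite G] [MulAction G Ω] {a : Ω} {t : G} {Q : Subgroup G}
    (hS : Cfsg.IsRankOneSetup G Ω a t Q)
    (X : Set G) (hX : X ⊆ ((MulAction.stabilizer G a ⊓ MulAction.stabilizer G (t • a)) : Set G))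
    (h3 : ∃ b c d : Ω, b ≠ c ∧ b ≠ d ∧ c ≠ d ∧ ∀ x ∈ X, x • b = b ∧ x • c = c ∧ x • d = d) :
    ∃ u ∈ Subgroup.centralizer X, u ≠ 1 ∧ u * u = 1 ∧ u • a = t • a ∧ u • t • a = a := by
  have hXa : ∀ x ∈ X, x • a = a := fun x hx => mem_stabilizer_iff.mp (hX hx).1
  have hXb : ∀ x ∈ X, x • t • a = t • a := fun x hx => mem_stabilizer_iff.mp (hX hx).2
  have hcF : ∀ g ∈ Subgroup.centralizer X, ∀ ω : Ω, (∀ x ∈ X, x • ω = ω) → ∀ x ∈ X, x • g • ω = g • ω := by
    intro g hg ω hω x hx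
    rw [← mul_smul, Subgroup.mem_centralizer_iff.mp hg x hx, mul_smul, hω x hx]
  obtain ⟨h2trans, -, -⟩ := Cfsg.Agent.S1125.result hS X hX h3
  obtain ⟨g, hg, hga, hgb⟩ := h2trans a (t • a) (t • a) a
    (fun x hx => ⟨hXa x hx, hXb x hx, hXb x hx, hXa x hx⟩) (ta_ne hS).symm (ta_ne hS)
  obtain ⟨m, hu1, huu⟩ := exists_invol_pow_of_swap g a (t • a) (ta_ne hS).symm hga hgb
  have huC : g ^ m ∈ Subgroup.centralizer X := Subgroup.pow_mem _ hg m
  obtain ⟨e, he⟩ := Cfsg.Agent.S1121.invol_fix_exists hS (g ^ m) huu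
  -- a point f of F different from e
  have hf : ∃ f : Ω, (∀ x ∈ X, x • f = f) ∧ f ≠ e := by
    by_cases h : e = a
    · exact ⟨t • a, hXb, by rw [h]; exact ta_ne hS⟩
    · exact ⟨a, hXa, fun h' => h h'.symm⟩
  obtain ⟨f, hfF, hfe⟩ := hf
  have huf : (g ^ m) • f ≠ f := by
    intro h
    exact hfe (Cfsg.Agent.S1121.invol_fix_unique hS (g ^ m) hu1 huu _ _ h he)
  have hufF := hcF (g ^ m) huC f hfF
  obtain ⟨k, hk, hkf, hkuf⟩ := h2trans f ((g ^ m) • f) a (t • a)
    (fun x hx => ⟨hfF x hx, hufF x hx, hXa x hx, hXb x hx⟩) huf.symm (ta_ne hS).symm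
  have hkia : k⁻¹ • a = f := by rw [← hkf, inv_smul_smul]
  have hkib : k⁻¹ • t • a = (g ^ m) • f := by rw [← hkuf, inv_smul_smul]
  refine ⟨k * g ^ m * k⁻¹, ?_, ?_, ?_, ?_, ?_⟩
  · exact Subgroup.mul_mem _ (Subgroup.mul_mem _ hk huC) (Subgroup.inv_mem _ hk)
  · intro h
    apply hu1
    calc g ^ m = k⁻¹ * (k * g ^ m * k⁻¹) * k := by group
      _ = 1 := by rw [h]; group
  · calc (k * g ^ m * k⁻¹) * (k * g ^ m * k⁻¹) = k * (g ^ m * g ^ m) * k⁻¹ := by group
      _ = 1 := by rw [huu]; group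
  · rw [mul_smul, mul_smul, hkia, hkuf]
  · rw [mul_smul, mul_smul, hkib, ← mul_smul (g ^ m) (g ^ m), huu, one_smul, hkf]

/-- Some `D`-conjugate of `X` is centralised by `t`. -/
theorem result {G Ω : Type*} [Group G] [Finite G] [MulAction G Ω] {a : Ω} {t : G} {Q : Subgroup G}
    (hS : Cfsg.IsRankOneSetup G Ω a t Q)
    (X : Set G) (hX : X ⊆ ((MulAction.stabilizer G a ⊓ MulAction.stabilizer G (t • a)) : Set G))
    (h3 : ∃ b c d : Ω, b ≠ c ∧ b ≠ d ∧ c ≠ d ∧ ∀ x ∈ X, x • b = b ∧ x • c = c ∧ x • d = d) :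
    ∃ k ∈ (MulAction.stabilizer G a ⊓ MulAction.stabilizer G (t • a)), ∀ x ∈ X, (k * x * k⁻¹) * t = t * (k * x * k⁻¹) := by
  have htt : t * t = 1 := hS.mul_self
  obtain ⟨u, huC, hu1, huu, hua, hub⟩ := exists_swap_invol hS X hX h3
  have hutD : u * t ∈ stabilizer G a ⊓ stabilizer G (t • a) := by
    refine Subgroup.mem_inf.mpr ⟨?_, ?_⟩
    · rw [mem_stabilizer_iff, mul_smul, hub]
    · rw [mem_stabilizer_iff, mul_smul, tta hS, hua]
  have hodd : Odd (orderOf (u * t)) :=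
    Odd.of_dvd_nat hS.odd_card (Subgroup.orderOf_dvd_natCard _ hutD)
  obtain ⟨m, hm⟩ := hodd
  have hpow : (u * t) ^ (2 * m + 1) = 1 := by rw [← hm]; exact pow_orderOf_eq_one _
  have hconj := conj_of_odd_order u t huu htt m hpow
  refine ⟨(u * t) ^ m, Subgroup.pow_mem _ hutD m, ?_⟩
  intro x hx
  have hxu : x * u = u * x := Subgroup.mem_centralizer_iff.mp huC x hx
  set k := (u * t) ^ m with hk
  calc (k * x * k⁻¹) * t = (k * x * k⁻¹) * (k * u * k⁻¹) := by rw [hconj]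
    _ = k * (x * u) * k⁻¹ := by group
    _ = k * (u * x) * k⁻¹ := by rw [hxu]
    _ = (k * u * k⁻¹) * (k * x * k⁻¹) := by group
    _ = t * (k * x * k⁻¹) := by rw [hconj]

end Cfsg.Agent.S1126
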