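import Mathlib
import Cfsg.Statements.S1127
import Cfsg.Agent.Lib.Helper6.RankOne
import Cfsg.Agent.Lib.Helper6.Dihedral
import Cfsg.Agent.Lib.Helper6.Count
import Cfsg.Agent.S1121
import Cfsg.Agent.S1122
import Cfsg.Agent.S1123

set_option autoImplicit false
open Cfsg

namespace Cfsg.Agent.S1127

open Cfsg.Agent.Helper6.RankOne Cfsg.Agent.Helper6 MulAction Cfsg.Agent.S1123 Cfsg.Agent.S1122

variable {G Ω : Type*} [Group G] [Finite G] [MulAction G Ω] {a : Ω} {t : G} {Q : Subgroup G}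

omit [Finite G] in
/-- any involution interchanging `a` and `t • a` gives another rank-one set-up -/
theorem setup_of_swap (hS : Cfsg.IsRankOneSetup G Ω a t Q) (u : G) (huu : u * u = 1) (hua : u • a = t • a) :
    Cfsg.IsRankOneSetup G Ω a u Q := by
  refine ⟨hS.two_transitive, huu, ?_, ?_, hS.le, hS.conj_mem, ?_, ?_, hS.even_card, ?_⟩
  · rintro rfl
    rw [one_smul] at hua
    exact ta_ne hS hua.symm
  · intro h
    rw [mem_stabilizer_iff, hua] at h
    exact ta_ne hS h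
  · rw [hua]; exact hS.inf_eq_bot
  · rw [hua]; exact hS.sup_eq
  · rw [hua]; exact hS.odd_card

theorem exists_rel (hS : Cfsg.IsRankOneSetup G Ω a t Q) (k : G)
    (hk : k ∈ Cfsg.invertedBy (MulAction.stabilizer G a ⊓ MulAction.stabilizer G (t • a)) t) :
    ∃ s ∈ Cfsg.involutionsIn (MulAction.stabilizer G a : Set G),
      ∃ r ∈ Q, (t * k) * s * (t * k) = r⁻¹ * (t * k) * r := by
  obtain ⟨huu, hu1, hua⟩ := tk_invol hS k hk
  have hSu := setup_of_swap hS (t * k) huu hua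
  obtain ⟨⟨s, r⟩, ⟨hs, hr, e⟩, -⟩ := Cfsg.Agent.S1123.result hSu
  exact ⟨s, hs, r, hr, e⟩

theorem rel_unique (hS : Cfsg.IsRankOneSetup G Ω a t Q) (k : G)
    (hk : k ∈ Cfsg.invertedBy (MulAction.stabilizer G a ⊓ MulAction.stabilizer G (t • a)) t)
    (s₁ : G) (hs₁ : s₁ ∈ Cfsg.involutionsIn (MulAction.stabilizer G a : Set G))
    (s₂ : G) (hs₂ : s₂ ∈ Cfsg.involutionsIn (MulAction.stabilizer G a : Set G))
    (h₁ : ∃ r ∈ Q, (t * k) * s₁ * (t * k) = r⁻¹ * (t * k) * r)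
    (h₂ : ∃ r ∈ Q, (t * k) * s₂ * (t * k) = r⁻¹ * (t * k) * r) : s₁ = s₂ := by
  obtain ⟨huu, hu1, hua⟩ := tk_invol hS k hk
  have hSu := setup_of_swap hS (t * k) huu hua
  obtain ⟨r₁, hr₁, e₁⟩ := h₁
  obtain ⟨r₂, hr₂, e₂⟩ := h₂
  obtain ⟨p, -, hp⟩ := Cfsg.Agent.S1123.result hSu
  have g₁ := hp (s₁, r₁) ⟨hs₁, hr₁, e₁⟩
  have g₂ := hp (s₂, r₂) ⟨hs₂, hr₂, e₂⟩
  exact congrArg Prod.fst (g₁.trans g₂.symm)

theorem exists_rel' (hS : Cfsg.IsRankOneSetup G Ω a t Q) (s' : G)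
    (hs' : s' ∈ Cfsg.involutionsIn (MulAction.stabilizer G a : Set G)) :
    ∃ k ∈ Cfsg.invertedBy (MulAction.stabilizer G a ⊓ MulAction.stabilizer G (t • a)) t,
      ∃ r ∈ Q, (t * k) * s' * (t * k) = r⁻¹ * (t * k) * r := by
  obtain ⟨⟨s₀, r₀⟩, ⟨hs₀, hr₀, e₀⟩, -⟩ := Cfsg.Agent.S1123.result hS
  have e₀' : t * s₀ * t = r₀⁻¹ * t * r₀ := e₀
  obtain ⟨k, hk, hks⟩ := (Cfsg.Agent.S1122.result hS).2 s₀ hs₀ s' hs'
  obtain ⟨hkD, hkt⟩ := hk
  have hkt' : t * k = k⁻¹ * t := by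
    calc t * k = (t * k * t⁻¹) * t := by group
      _ = k⁻¹ * t := by rw [hkt]
  refine ⟨k * k, ⟨Subgroup.mul_mem _ hkD hkD, ?_⟩, k⁻¹ * r₀ * k, ?_, ?_⟩
  · calc t * (k * k) * t⁻¹ = (t * k * t⁻¹) * (t * k * t⁻¹) := by group
      _ = (k * k)⁻¹ := by rw [hkt]; group
  · have := hS.conj_mem k⁻¹ (Subgroup.inv_mem _ hkD.1) r₀ hr₀
    rwa [inv_inv] at this
  · have h1 : t * (k * k) = k⁻¹ * t * k := by rw [← mul_assoc, hkt']
    rw [h1, ← hks]
    calc k⁻¹ * t * k * (k⁻¹ * s₀ * k) * (k⁻¹ * t * k) = k⁻¹ * (t * s₀ * t) * k := by group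
      _ = k⁻¹ * (r₀⁻¹ * t * r₀) * k := by rw [e₀']
      _ = (k⁻¹ * r₀ * k)⁻¹ * (k⁻¹ * t * k) * (k⁻¹ * r₀ * k) := by group

theorem rel_inj (hS : Cfsg.IsRankOneSetup G Ω a t Q) :
    ∀ k₁ ∈ Cfsg.invertedBy (MulAction.stabilizer G a ⊓ MulAction.stabilizer G (t • a)) t,
    ∀ k₂ ∈ Cfsg.invertedBy (MulAction.stabilizer G a ⊓ MulAction.stabilizer G (t • a)) t,
    ∀ s ∈ Cfsg.involutionsIn (MulAction.stabilizer G a : Set G),
      (∃ r ∈ Q, (t * k₁) * s * (t * k₁) = r⁻¹ * (t * k₁) * r) →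
      (∃ r ∈ Q, (t * k₂) * s * (t * k₂) = r⁻¹ * (t * k₂) * r) → k₁ = k₂ :=
  rel_inj_of_card _ _ (fun k s => ∃ r ∈ Q, (t * k) * s * (t * k) = r⁻¹ * (t * k) * r)
    (exists_rel hS) (rel_unique hS) (exists_rel' hS) (Cfsg.Agent.S1122.result hS).1.le

omit [Finite G] in
theorem one_mem_K : (1 : G) ∈ Cfsg.invertedBy (MulAction.stabilizer G a ⊓ MulAction.stabilizer G (t • a)) t :=
  ⟨Subgroup.one_mem _, by simp⟩

theorem partA (hS : Cfsg.IsRankOneSetup G Ω a t Q) :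
    ∀ s r : G, s ∈ Cfsg.involutionsIn (MulAction.stabilizer G a : Set G) → r ∈ Q → t * s * t = r⁻¹ * t * r →
        (MulAction.stabilizer G a ⊓ MulAction.stabilizer G (t • a)) ⊓ Subgroup.centralizer {t} = (MulAction.stabilizer G a ⊓ MulAction.stabilizer G (t • a)) ⊓ Subgroup.centralizer {s} := by
  have htt : t * t = 1 := hS.mul_self
  intro s r hs hr e
  ext d
  constructor
  · intro hd
    obtain ⟨hdD, hdt⟩ := Subgroup.mem_inf.mp hd
    rw [Subgroup.mem_centralizer_singleton_iff] at hdt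
    refine Subgroup.mem_inf.mpr ⟨hdD, ?_⟩
    rw [Subgroup.mem_centralizer_singleton_iff]
    obtain ⟨p, -, hp⟩ := Cfsg.Agent.S1123.result hS
    have h1 := hp (s, r) ⟨hs, hr, e⟩
    have hdt' : t * d = d * t := hdt.symm
    have hdt'' : d⁻¹ * t = t * d⁻¹ := by
      calc d⁻¹ * t = d⁻¹ * (t * d) * d⁻¹ := by group
        _ = d⁻¹ * (d * t) * d⁻¹ := by rw [hdt']
        _ = t * d⁻¹ := by group
    have hdtd : d * t * d⁻¹ = t := by rw [hdt, mul_assoc, mul_inv_cancel, mul_one]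
    have h2 := hp (d * s * d⁻¹, d * r * d⁻¹) ⟨⟨?_, ?_, ?_⟩, ?_, ?_⟩
    · have h3 : d * s * d⁻¹ = s := congrArg Prod.fst (h2.trans h1.symm)
      calc d * s = (d * s * d⁻¹) * d := by group
        _ = s * d := by rw [h3]
    · exact Subgroup.mul_mem _ (Subgroup.mul_mem _ hdD.1 hs.1) (Subgroup.inv_mem _ hdD.1)
    · intro h
      have h' : d * s * d⁻¹ = 1 := h
      apply hs.2.1
      calc s = d⁻¹ * (d * s * d⁻¹) * d := by group
        _ = 1 := by rw [h']; group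
    · show (d * s * d⁻¹) * (d * s * d⁻¹) = 1
      calc (d * s * d⁻¹) * (d * s * d⁻¹) = d * (s * s) * d⁻¹ := by group
        _ = 1 := by rw [hs.2.2]; group
    · exact hS.conj_mem d hdD.1 r hr
    · show t * (d * s * d⁻¹) * t = (d * r * d⁻¹)⁻¹ * t * (d * r * d⁻¹)
      calc t * (d * s * d⁻¹) * t = (t * d) * s * (d⁻¹ * t) := by group
        _ = (d * t) * s * (t * d⁻¹) := by rw [hdt', hdt'']
        _ = d * (t * s * t) * d⁻¹ := by group
        _ = d * (r⁻¹ * t * r) * d⁻¹ := by rw [e]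
        _ = (d * r * d⁻¹)⁻¹ * (d * t * d⁻¹) * (d * r * d⁻¹) := by group
        _ = (d * r * d⁻¹)⁻¹ * t * (d * r * d⁻¹) := by rw [hdtd]
  · intro hd
    obtain ⟨hdD, hds⟩ := Subgroup.mem_inf.mp hd
    rw [Subgroup.mem_centralizer_singleton_iff] at hds
    refine Subgroup.mem_inf.mpr ⟨hdD, ?_⟩
    rw [Subgroup.mem_centralizer_singleton_iff]
    have hda : d • a = a := mem_stabilizer_iff.mp hdD.1
    have hdb : d • t • a = t • a := mem_stabilizer_iff.mp hdD.2
    have hdia : d⁻¹ • a = a := by rw [inv_smul_eq_iff, hda]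
    have huu : (d * t * d⁻¹) * (d * t * d⁻¹) = 1 := by
      calc (d * t * d⁻¹) * (d * t * d⁻¹) = d * (t * t) * d⁻¹ := by group
        _ = 1 := by rw [htt]; group
    have hua : (d * t * d⁻¹) • a = t • a := by
      rw [mul_smul, mul_smul, hdia, hdb]
    have hk' := tu_mem_K hS _ huu hua
    have hR1 : ∃ r ∈ Q, (t * 1) * s * (t * 1) = r⁻¹ * (t * 1) * r := ⟨r, hr, by rw [mul_one]; exact e⟩
    have htk : t * (t * (d * t * d⁻¹)) = d * t * d⁻¹ := by rw [← mul_assoc t t, htt, one_mul]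
    have hdsd : d⁻¹ * s * d = s := by
      calc d⁻¹ * s * d = d⁻¹ * (s * d) := by group
        _ = d⁻¹ * (d * s) := by rw [hds]
        _ = s := by group
    have hRk : ∃ r ∈ Q, (t * (t * (d * t * d⁻¹))) * s * (t * (t * (d * t * d⁻¹))) =
        r⁻¹ * (t * (t * (d * t * d⁻¹))) * r := by
      refine ⟨d * r * d⁻¹, hS.conj_mem d hdD.1 r hr, ?_⟩
      rw [htk]
      calc d * t * d⁻¹ * s * (d * t * d⁻¹) = d * t * (d⁻¹ * s * d) * t * d⁻¹ := by group
        _ = d * (t * s * t) * d⁻¹ := by rw [hdsd]; group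
        _ = d * (r⁻¹ * t * r) * d⁻¹ := by rw [e]
        _ = (d * r * d⁻¹)⁻¹ * (d * t * d⁻¹) * (d * r * d⁻¹) := by group
    have h4 := rel_inj hS _ hk' 1 one_mem_K s hs hRk hR1
    have h5 : d * t * d⁻¹ = t := by
      rw [← htk, h4, mul_one]
    calc d * t = (d * t * d⁻¹) * d := by group
      _ = t * d := by rw [h5]

/-- `C_D(t) = C_D(s)`, and `C_D(⟨t, K⟩) = C_D(I_a)`. -/
theorem result {G Ω : Type*} [Group G] [Finite G] [MulAction G Ω] {a : Ω} {t : G} {Q : Subgroup G}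
    (hS : Cfsg.IsRankOneSetup G Ω a t Q) :
    (∀ s r : G, s ∈ Cfsg.involutionsIn (MulAction.stabilizer G a : Set G) → r ∈ Q → t * s * t = r⁻¹ * t * r →
        (MulAction.stabilizer G a ⊓ MulAction.stabilizer G (t • a)) ⊓ Subgroup.centralizer {t} = (MulAction.stabilizer G a ⊓ MulAction.stabilizer G (t • a)) ⊓ Subgroup.centralizer {s}) ∧
      (MulAction.stabilizer G a ⊓ MulAction.stabilizer G (t • a)) ⊓ Subgroup.centralizer {t} ⊓ Subgroup.centralizer (Cfsg.invertedBy (MulAction.stabilizer G a ⊓ MulAction.stabilizer G (t • a)) t) =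
        (MulAction.stabilizer G a ⊓ MulAction.stabilizer G (t • a)) ⊓ Subgroup.centralizer (Cfsg.involutionsIn (MulAction.stabilizer G a : Set G)) := by
  refine ⟨partA hS, ?_⟩
  ext d
  constructor
  · intro hd
    obtain ⟨hd', hdK⟩ := Subgroup.mem_inf.mp hd
    obtain ⟨hdD, hdt⟩ := Subgroup.mem_inf.mp hd'
    rw [Subgroup.mem_centralizer_singleton_iff] at hdt
    rw [Subgroup.mem_centralizer_iff] at hdK
    refine Subgroup.mem_inf.mpr ⟨hdD, ?_⟩
    rw [Subgroup.mem_centralizer_iff]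
    intro s' hs'
    obtain ⟨k, hk, r, hr, e⟩ := exists_rel' hS s' hs'
    obtain ⟨huu, hu1, hua⟩ := tk_invol hS k hk
    have hSu := setup_of_swap hS (t * k) huu hua
    have hA := partA hSu s' r hs' hr e
    rw [hua] at hA
    have hd1 : d ∈ (stabilizer G a ⊓ stabilizer G (t • a)) ⊓ Subgroup.centralizer {t * k} := by
      refine Subgroup.mem_inf.mpr ⟨hdD, ?_⟩
      rw [Subgroup.mem_centralizer_singleton_iff]
      calc d * (t * k) = (d * t) * k := by group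
        _ = t * (d * k) := by rw [hdt]; group
        _ = t * (k * d) := by rw [hdK k hk]
        _ = t * k * d := by group
    rw [hA] at hd1
    exact (Subgroup.mem_centralizer_singleton_iff.mp (Subgroup.mem_inf.mp hd1).2).symm
  · intro hd
    obtain ⟨hdD, hdI⟩ := Subgroup.mem_inf.mp hd
    rw [Subgroup.mem_centralizer_iff] at hdI
    have key : ∀ k ∈ Cfsg.invertedBy (MulAction.stabilizer G a ⊓ MulAction.stabilizer G (t • a)) t,
        d * (t * k) = (t * k) * d := by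
      intro k hk
      obtain ⟨s, hs, r, hr, e⟩ := exists_rel hS k hk
      obtain ⟨huu, hu1, hua⟩ := tk_invol hS k hk
      have hSu := setup_of_swap hS (t * k) huu hua
      have hA := partA hSu s r hs hr e
      rw [hua] at hA
      have hd1 : d ∈ (stabilizer G a ⊓ stabilizer G (t • a)) ⊓ Subgroup.centralizer {s} := by
        refine Subgroup.mem_inf.mpr ⟨hdD, ?_⟩
        rw [Subgroup.mem_centralizer_singleton_iff]
        exact (hdI s hs).symm
      rw [← hA] at hd1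
      exact Subgroup.mem_centralizer_singleton_iff.mp (Subgroup.mem_inf.mp hd1).2
    have hdt : d * t = t * d := by
      have := key 1 one_mem_K
      rwa [mul_one] at this
    refine Subgroup.mem_inf.mpr ⟨Subgroup.mem_inf.mpr ⟨hdD, ?_⟩, ?_⟩
    · rw [Subgroup.mem_centralizer_singleton_iff]
      exact hdt
    · rw [Subgroup.mem_centralizer_iff]
      intro k hk
      have := key k hk
      apply mul_left_cancel (a := t)
      calc t * (k * d) = (t * k) * d := by group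
        _ = d * (t * k) := this.symm
        _ = (d * t) * k := by group
        _ = t * d * k := by rw [hdt]
        _ = t * (d * k) := by group

end Cfsg.Agent.S1127
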