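import Mathlib
import Cfsg.Statements.S1128
import Cfsg.Agent.Lib.Helper6.RankOne
import Cfsg.Agent.Lib.Helper6.Dihedral
import Cfsg.Agent.S1126

set_option autoImplicit false
open Cfsg

namespace Cfsg.Agent.S1128

open Cfsg.Agent.Helper6.RankOne Cfsg.Agent.Helper6 MulAction

/-- An element of odd order inverting `x` forces `x * x = 1`. -/
theorem sq_eq_one_of_inverted_odd {G : Type*} [Group G] (d x : G) (m : ℕ) (hd : d ^ (2 * m + 1) = 1)
    (h : d * x * d⁻¹ = x⁻¹) : x * x = 1 := by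
  have h2 : (d * d) * x = x * (d * d) := by
    have : d * d * x * (d * d)⁻¹ = x := by
      calc d * d * x * (d * d)⁻¹ = d * (d * x * d⁻¹) * d⁻¹ := by group
        _ = d * x⁻¹ * d⁻¹ := by rw [h]
        _ = (d * x * d⁻¹)⁻¹ := by group
        _ = x := by rw [h, inv_inv]
    calc (d * d) * x = (d * d * x * (d * d)⁻¹) * (d * d) := by group
      _ = x * (d * d) := by rw [this]
  have h3 : Commute ((d * d) ^ (m + 1)) x := Commute.pow_left h2 (m + 1)
  have h4 : (d * d) ^ (m + 1) = d := by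
    calc (d * d) ^ (m + 1) = d ^ (2 * m + 1) * d := by
          rw [← pow_two, ← pow_mul, ← pow_succ]
          rfl
      _ = d := by rw [hd, one_mul]
  rw [h4] at h3
  have h5 : d * x * d⁻¹ = x := by
    have : d * x = x * d := h3
    rw [this]; group
  rw [h5] at h
  calc x * x = x * x⁻¹ := by rw [← h]
    _ = 1 := mul_inv_cancel x

/-- Non-identity elements of `K` are centralised by no non-identity element of `Q`. -/
theorem result {G Ω : Type*} [Group G] [Finite G] [MulAction G Ω] [FaithfulSMul G Ω] {a : Ω} {t : G} {Q : Subgroup G}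
    (hS : Cfsg.IsRankOneSetup G Ω a t Q)
    (h2 : ∃ x y : G, x ≠ 1 ∧ y ≠ 1 ∧ x ≠ y ∧ x * x = 1 ∧ y * y = 1 ∧ x * y = y * x)
    (x : G) (hx : x ∈ Cfsg.invertedBy (MulAction.stabilizer G a ⊓ MulAction.stabilizer G (t • a)) t) (hx1 : x ≠ 1) :
    Q ⊓ Subgroup.centralizer {x} = ⊥ := by
  have htt : t * t = 1 := hS.mul_self
  have hti : t⁻¹ = t := t_inv hS
  obtain ⟨hxD, hxt⟩ := hx
  rw [eq_bot_iff]
  intro q hq
  obtain ⟨hqQ, hqC⟩ := Subgroup.mem_inf.mp hq
  rw [Subgroup.mem_bot]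
  by_contra hq1
  apply hx1
  have hxq : x * q = q * x := Subgroup.mem_centralizer_iff.mp hqC x rfl
  have hxa : x • a = a := mem_stabilizer_iff.mp hxD.1
  have hxb : x • t • a = t • a := mem_stabilizer_iff.mp hxD.2
  have hqa : q • a = a := mem_stabilizer_iff.mp (hS.le hqQ)
  have hX : ({x} : Set G) ⊆ ((MulAction.stabilizer G a ⊓ MulAction.stabilizer G (t • a)) : Set G) := by
    intro y hy
    rw [Set.mem_singleton_iff] at hy
    rw [hy]
    exact hxD
  have h3 : ∃ b c d : Ω, b ≠ c ∧ b ≠ d ∧ c ≠ d ∧ ∀ y ∈ ({x} : Set G), y • b = b ∧ y • c = c ∧ y • d = d := by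
    refine ⟨a, t • a, q • t • a, (ta_ne hS).symm, ?_, ?_, ?_⟩
    · intro h
      have h' : q • a = q • t • a := hqa.trans h
      exact ta_ne hS (smul_left_cancel q h').symm
    · intro h
      exact hq1 (eq_one_of_smul_eq hS q hqQ (t • a) (ta_ne hS) h.symm)
    · intro y hy
      rw [Set.mem_singleton_iff] at hy
      rw [hy]
      refine ⟨hxa, hxb, ?_⟩
      rw [← mul_smul, hxq, mul_smul, hxb]
  obtain ⟨u, huC, hu1, huu, hua, hub⟩ := Cfsg.Agent.S1126.exists_swap_invol hS {x} hX h3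
  have hxu : x * u = u * x := Subgroup.mem_centralizer_iff.mp huC x rfl
  have hui : u⁻¹ = u := inv_eq_self_of_mul_self huu
  have htuD : t * u ∈ stabilizer G a ⊓ stabilizer G (t • a) := by
    refine Subgroup.mem_inf.mpr ⟨?_, ?_⟩
    · rw [mem_stabilizer_iff, mul_smul, hua, tta hS]
    · rw [mem_stabilizer_iff, mul_smul, hub]
  have hodd : Odd (orderOf (t * u)) :=
    Odd.of_dvd_nat hS.odd_card (Subgroup.orderOf_dvd_natCard _ htuD)
  obtain ⟨m, hm⟩ := hodd
  have hpow : (t * u) ^ (2 * m + 1) = 1 := by rw [← hm]; exact pow_orderOf_eq_one _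
  have hinv : (t * u) * x * (t * u)⁻¹ = x⁻¹ := by
    calc (t * u) * x * (t * u)⁻¹ = t * (u * x) * u⁻¹ * t⁻¹ := by group
      _ = t * (x * u) * u⁻¹ * t⁻¹ := by rw [hxu]
      _ = t * x * t⁻¹ := by group
      _ = x⁻¹ := hxt
  have hxx : x * x = 1 := sq_eq_one_of_inverted_odd (t * u) x m hpow hinv
  have hoddx : Odd (orderOf x) :=
    Odd.of_dvd_nat hS.odd_card (Subgroup.orderOf_dvd_natCard _ hxD)
  obtain ⟨n, hn⟩ := hoddx
  exact eq_one_of_sq_of_odd_pow hxx n (by rw [← hn]; exact pow_orderOf_eq_one _)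

end Cfsg.Agent.S1128
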