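import Cfsg.Agent.S1128
import Cfsg.Agent.S1122
import Cfsg.Agent.S1120
import Cfsg.Agent.Lib.Helper1.FpfThompson
import Cfsg.Statements.S1129
-- import your own Cfsg.Agent.* helpers here

set_option autoImplicit false
open Cfsg

namespace Cfsg.Agent.S1129

open MulAction

/-- conjugation by an element normalising `Q`, as an automorphism of `Q` -/
def conjQ {G : Type*} [Group G] (Q : Subgroup G) (x : G) (hx : ∀ q ∈ Q, x * q * x⁻¹ ∈ Q)
    (hx' : ∀ q ∈ Q, x⁻¹ * q * x ∈ Q) : ↥Q ≃* ↥Q where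
  toFun q := ⟨x * q * x⁻¹, hx q q.2⟩
  invFun q := ⟨x⁻¹ * q * x, hx' q q.2⟩
  left_inv q := by
    apply Subtype.ext
    show x⁻¹ * (x * (q : G) * x⁻¹) * x = q
    group
  right_inv q := by
    apply Subtype.ext
    show x * (x⁻¹ * (q : G) * x) * x⁻¹ = q
    group
  map_mul' q r := by
    apply Subtype.ext
    show x * ((q : G) * r) * x⁻¹ = (x * q * x⁻¹) * (x * r * x⁻¹)
    group

theorem conjQ_pow {G : Type*} [Group G] (Q : Subgroup G) (x : G) (hx : ∀ q ∈ Q, x * q * x⁻¹ ∈ Q)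
    (hx' : ∀ q ∈ Q, x⁻¹ * q * x ∈ Q) (n : ℕ) (q : ↥Q) :
    (((conjQ Q x hx hx') ^ n) q : G) = x ^ n * q * (x ^ n)⁻¹ := by
  induction n generalizing q with
  | zero => simp
  | succ n ih =>
    rw [pow_succ, MulAut.mul_apply, ih]
    show x ^ n * (x * (q : G) * x⁻¹) * (x ^ n)⁻¹ = x ^ (n + 1) * q * (x ^ (n + 1))⁻¹
    rw [pow_succ]
    group

/-- two distinct involutions in the point stabiliser -/
theorem exists_two_invol {G Ω : Type*} [Group G] [Finite G] [MulAction G Ω] {a : Ω} {t : G}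
    {Q : Subgroup G} (hS : Cfsg.IsRankOneSetup G Ω a t Q)
    (h2 : ∃ x y : G, x ≠ 1 ∧ y ≠ 1 ∧ x ≠ y ∧ x * x = 1 ∧ y * y = 1 ∧ x * y = y * x) :
    ∃ s s' : G, s ∈ Cfsg.involutionsIn (MulAction.stabilizer G a : Set G) ∧
      s' ∈ Cfsg.involutionsIn (MulAction.stabilizer G a : Set G) ∧ s ≠ s' ∧ s * s' = s' * s := by
  obtain ⟨x, y, hx1, hy1, hxy, hx, hy, hc⟩ := h2
  obtain ⟨c, hxc⟩ := Cfsg.Agent.S1120.invol_fix_exists hS hx
  have hyc : y • c = c := by
    apply Cfsg.Agent.S1120.invol_fix_unique hS hx1 hx _ hxc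
    rw [← mul_smul, hc, mul_smul, hxc]
  haveI := hS.two_transitive
  haveI : MulAction.IsPretransitive G Ω := MulAction.isPretransitive_of_is_two_pretransitive
  obtain ⟨g, hg⟩ := MulAction.exists_smul_eq G c a
  have hgc : g⁻¹ • a = c := by rw [← hg, inv_smul_smul]
  refine ⟨g * x * g⁻¹, g * y * g⁻¹, ⟨?_, ?_, ?_⟩, ⟨?_, ?_, ?_⟩, ?_, ?_⟩
  · show g * x * g⁻¹ ∈ MulAction.stabilizer G a
    rw [MulAction.mem_stabilizer_iff, mul_smul, mul_smul, hgc, hxc, hg]
  · intro h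
    apply hx1
    calc x = g⁻¹ * (g * x * g⁻¹) * g := by group
      _ = 1 := by rw [h]; group
  · calc g * x * g⁻¹ * (g * x * g⁻¹) = g * (x * x) * g⁻¹ := by group
      _ = 1 := by rw [hx]; group
  · show g * y * g⁻¹ ∈ MulAction.stabilizer G a
    rw [MulAction.mem_stabilizer_iff, mul_smul, mul_smul, hgc, hyc, hg]
  · intro h
    apply hy1
    calc y = g⁻¹ * (g * y * g⁻¹) * g := by group
      _ = 1 := by rw [h]; group
  · calc g * y * g⁻¹ * (g * y * g⁻¹) = g * (y * y) * g⁻¹ := by group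
      _ = 1 := by rw [hy]; group
  · intro h
    apply hxy
    calc x = g⁻¹ * (g * x * g⁻¹) * g := by group
      _ = g⁻¹ * (g * y * g⁻¹) * g := by rw [h]
      _ = y := by group
  · calc g * x * g⁻¹ * (g * y * g⁻¹) = g * (x * y) * g⁻¹ := by group
      _ = g * (y * x) * g⁻¹ := by rw [hc]
      _ = g * y * g⁻¹ * (g * x * g⁻¹) := by group

/-- there is an inverted element of prime order -/
theorem exists_prime_inverted {G Ω : Type*} [Group G] [Finite G] [MulAction G Ω] {a : Ω} {t : G}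
    {Q : Subgroup G} (hS : Cfsg.IsRankOneSetup G Ω a t Q)
    (h2 : ∃ x y : G, x ≠ 1 ∧ y ≠ 1 ∧ x ≠ y ∧ x * x = 1 ∧ y * y = 1 ∧ x * y = y * x) :
    ∃ x ∈ Cfsg.invertedBy (MulAction.stabilizer G a ⊓ MulAction.stabilizer G (t • a)) t,
      (orderOf x).Prime := by
  obtain ⟨s, s', hs, hs', hne, -⟩ := exists_two_invol hS h2
  obtain ⟨k, hk, hks⟩ := (Cfsg.Agent.S1122.result hS).2 s hs s' hs'
  have hk1 : k ≠ 1 := by
    intro h
    apply hne
    rw [← hks, h]
    group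
  have hord : orderOf k ≠ 1 := by
    intro h
    exact hk1 (orderOf_eq_one_iff.mp h)
  obtain ⟨p, hp, hpd⟩ := Nat.exists_prime_and_dvd hord
  obtain ⟨m, hm⟩ := hpd
  refine ⟨k ^ m, ⟨Subgroup.pow_mem _ hk.1 m, ?_⟩, ?_⟩
  · have h1 : t * k ^ m * t⁻¹ = (t * k * t⁻¹) ^ m := by
      rw [conj_pow]
    rw [h1, hk.2, inv_pow]
  · have hpos : 0 < orderOf k := orderOf_pos k
    have hm0 : m ≠ 0 := by
      rintro rfl
      rw [mul_zero] at hm
      omega
    have : orderOf (k ^ m) = p := by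
      rw [orderOf_pow' k hm0, hm]
      rw [Nat.gcd_eq_right (Dvd.intro_left p rfl)]
      exact Nat.mul_div_cancel p (Nat.pos_of_ne_zero hm0)
    rw [this]
    exact hp

/-- In the rank-one set-up (`G` finite and doubly transitive on `Ω`, `t` an involution moving `a`, `Q` normal in `G_a` with `G_a = Q D`, `Q ⊓ D = 1` for the two-point stabiliser `D = G_a ⊓ G_{t • a}`, `|Q|` even, `|D|` odd), with the action faithful and `G` containing two distinct commuting involutions: `Q` is nilpotent. -/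
theorem result {G Ω : Type*} [Group G] [Finite G] [MulAction G Ω] [FaithfulSMul G Ω] {a : Ω} {t : G} {Q : Subgroup G}
    (hS : Cfsg.IsRankOneSetup G Ω a t Q)
    (h2 : ∃ x y : G, x ≠ 1 ∧ y ≠ 1 ∧ x ≠ y ∧ x * x = 1 ∧ y * y = 1 ∧ x * y = y * x) :
    Group.IsNilpotent Q := by
  obtain ⟨x, hx, hp⟩ := exists_prime_inverted hS h2
  have hx1 : x ≠ 1 := by
    rintro rfl
    rw [orderOf_one] at hp
    exact Nat.not_prime_one hp
  have hfpf := Cfsg.Agent.S1128.result hS h2 x hx hx1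
  have hxa : x ∈ MulAction.stabilizer G a := hx.1.1
  have hxia : x⁻¹ ∈ MulAction.stabilizer G a := Subgroup.inv_mem _ hxa
  have hc : ∀ q ∈ Q, x * q * x⁻¹ ∈ Q := fun q hq => hS.conj_mem x hxa q hq
  have hc' : ∀ q ∈ Q, x⁻¹ * q * x ∈ Q := by
    intro q hq
    have := hS.conj_mem x⁻¹ hxia q hq
    rwa [inv_inv] at this
  apply Cfsg.Agent.Helper1.Fpf.fpf_nilpotent (conjQ Q x hc hc') _ hp
  · ext q
    rw [conjQ_pow, pow_orderOf_eq_one]
    simp
  · intro q hq
    have h1 : x * (q : G) * x⁻¹ = q := congrArg Subtype.val hq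
    have h2' : (q : G) ∈ Q ⊓ Subgroup.centralizer {x} := by
      refine Subgroup.mem_inf.mpr ⟨q.2, ?_⟩
      rw [Subgroup.mem_centralizer_iff]
      intro y hy
      rw [Set.mem_singleton_iff] at hy
      subst hy
      calc y * (q : G) = (y * q * y⁻¹) * y := by group
        _ = q * y := by rw [h1]
    rw [hfpf, Subgroup.mem_bot] at h2'
    exact Subtype.ext h2'

end Cfsg.Agent.S1129
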