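import Cfsg.Agent.S1125
import Cfsg.Agent.S1120
import Cfsg.Agent.Lib.Helper6.RankOne
import Cfsg.Statements.S1134
-- import your own Cfsg.Agent.* helpers here

set_option autoImplicit false
open Cfsg

namespace Cfsg.Agent.S1134

open MulAction Cfsg.Agent.Helper6.RankOne

/-- the fixed point of `t` together with basic facts -/
theorem exists_fix_t {G Ω : Type*} [Group G] [Finite G] [MulAction G Ω] {a : Ω} {t : G}
    {Q : Subgroup G} (hS : Cfsg.IsRankOneSetup G Ω a t Q) :
    ∃ c : Ω, t • c = c ∧ c ≠ a ∧ c ≠ t • a := by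
  obtain ⟨c, hc⟩ := Cfsg.Agent.S1120.invol_fix_exists hS hS.mul_self
  refine ⟨c, hc, ?_, ?_⟩
  · rintro rfl
    exact ta_ne hS hc
  · intro h
    have : t • t • a = t • a := by rw [← h]; exact hc
    rw [tta hS] at this
    exact ta_ne hS this.symm

/-- an element commuting with `t` fixes the fixed point of `t` -/
theorem fix_of_comm {G Ω : Type*} [Group G] [Finite G] [MulAction G Ω] {a : Ω} {t : G}
    {Q : Subgroup G} (hS : Cfsg.IsRankOneSetup G Ω a t Q) {c : Ω} (hc : t • c = c) {v : G}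
    (hv : v * t = t * v) : v • c = c := by
  apply Cfsg.Agent.S1120.invol_fix_unique hS hS.ne_one hS.mul_self _ hc
  rw [← mul_smul, ← hv, mul_smul, hc]

/-- a square root in the cyclic group generated by an element of odd order -/
theorem exists_sqrt {G : Type*} [Group G] (k' : G) (hodd : Odd (orderOf k')) :
    ∃ j : ℕ, (k' ^ j) * (k' ^ j) = k' := by
  obtain ⟨m, hm⟩ := hodd
  refine ⟨m + 1, ?_⟩
  rw [← pow_add]
  have : m + 1 + (m + 1) = orderOf k' + 1 := by omega
  rw [this, pow_succ, pow_orderOf_eq_one, one_mul]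

/-- Main lemma: fusion of subsets of `V = C_D(t)` is controlled by `V`, elementwise. -/
theorem fusion {G Ω : Type*} [Group G] [Finite G] [MulAction G Ω] {a : Ω} {t : G}
    {Q : Subgroup G} (hS : Cfsg.IsRankOneSetup G Ω a t Q)
    (X : Set G) (hX : X ⊆ (((MulAction.stabilizer G a ⊓ MulAction.stabilizer G (t • a)) ⊓ Subgroup.centralizer {t} : Subgroup G) : Set G)) (g : G)
    (hY : (fun x => g * x * g⁻¹) '' X ⊆ (((MulAction.stabilizer G a ⊓ MulAction.stabilizer G (t • a)) ⊓ Subgroup.centralizer {t} : Subgroup G) : Set G)) :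
    ∃ v ∈ (MulAction.stabilizer G a ⊓ MulAction.stabilizer G (t • a)) ⊓ Subgroup.centralizer {t},
      ∀ x ∈ X, v * x * v⁻¹ = g * x * g⁻¹ := by
  have htt : t * t = 1 := hS.mul_self
  have hti : t⁻¹ = t := t_inv hS
  set D := MulAction.stabilizer G a ⊓ MulAction.stabilizer G (t • a) with hD
  set Y : Set G := (fun x => g * x * g⁻¹) '' X with hYdef
  obtain ⟨c, hc, hca, hcb⟩ := exists_fix_t hS
  -- members of `V`
  have hVD : ∀ w, w ∈ D ⊓ Subgroup.centralizer {t} → w ∈ D := fun w hw => (Subgroup.mem_inf.mp hw).1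
  have hVt : ∀ w, w ∈ D ⊓ Subgroup.centralizer {t} → w * t = t * w := by
    intro w hw
    have := Subgroup.mem_centralizer_iff.mp (Subgroup.mem_inf.mp hw).2 t rfl
    exact this.symm
  have hXD : ∀ x ∈ X, x ∈ D := fun x hx => hVD x (hX hx)
  have hXt : ∀ x ∈ X, x * t = t * x := fun x hx => hVt x (hX hx)
  have hYD : Y ⊆ (D : Set G) := fun y hy => hVD y (hY hy)
  have hYt : ∀ y ∈ Y, y * t = t * y := fun y hy => hVt y (hY hy)
  have hXa : ∀ x ∈ X, x • a = a := fun x hx => mem_stabilizer_iff.mp (Subgroup.mem_inf.mp (hXD x hx)).1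
  have hXb : ∀ x ∈ X, x • t • a = t • a := fun x hx => mem_stabilizer_iff.mp (Subgroup.mem_inf.mp (hXD x hx)).2
  have hYa : ∀ y ∈ Y, y • a = a := fun y hy => mem_stabilizer_iff.mp (Subgroup.mem_inf.mp (hYD hy)).1
  have hYb : ∀ y ∈ Y, y • t • a = t • a := fun y hy => mem_stabilizer_iff.mp (Subgroup.mem_inf.mp (hYD hy)).2
  have hYc : ∀ y ∈ Y, y • c = c := fun y hy => fix_of_comm hS hc (hYt y hy)
  have h3 : ∃ b c' d : Ω, b ≠ c' ∧ b ≠ d ∧ c' ≠ d ∧ ∀ y ∈ Y, y • b = b ∧ y • c' = c' ∧ y • d = d :=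
    ⟨a, t • a, c, (ta_ne hS).symm, hca.symm, hcb.symm, fun y hy => ⟨hYa y hy, hYb y hy, hYc y hy⟩⟩
  have h2t := (Cfsg.Agent.S1125.result hS Y hYD h3).1
  have hYg : ∀ y ∈ Y, ∀ ω : Ω, (∀ x ∈ X, x • ω = ω) → y • g • ω = g • ω := by
    intro y hy ω hω
    obtain ⟨x, hx, rfl⟩ := hy
    show (g * x * g⁻¹) • g • ω = g • ω
    rw [mul_smul, mul_smul, inv_smul_smul, hω x hx]
  have hne : g • a ≠ g • t • a := by
    intro h
    exact ta_ne hS (smul_left_cancel g h).symm
  obtain ⟨h, hh, hha, hhb⟩ := h2t (g • a) (g • t • a) a (t • a)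
    (fun y hy => ⟨hYg y hy a hXa, hYg y hy (t • a) hXb, hYa y hy, hYb y hy⟩) hne (ta_ne hS).symm
  set g' := h * g with hg'
  have hg'a : g' • a = a := by rw [hg', mul_smul]; exact hha
  have hg'b : g' • t • a = t • a := by rw [hg', mul_smul]; exact hhb
  have hg'ia : g'⁻¹ • a = a := by rw [inv_smul_eq_iff, hg'a]
  have hg'ib : g'⁻¹ • t • a = t • a := by rw [inv_smul_eq_iff, hg'b]
  have hg'D : g' ∈ D := Subgroup.mem_inf.mpr ⟨mem_stabilizer_iff.mpr hg'a, mem_stabilizer_iff.mpr hg'b⟩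
  have hcomm : ∀ y ∈ Y, h * y = y * h := fun y hy => (Subgroup.mem_centralizer_iff.mp hh y hy).symm
  have hg'x : ∀ x ∈ X, g' * x * g'⁻¹ = g * x * g⁻¹ := by
    intro x hx
    have hy : g * x * g⁻¹ ∈ Y := ⟨x, hx, rfl⟩
    calc g' * x * g'⁻¹ = h * (g * x * g⁻¹) * h⁻¹ := by rw [hg']; group
      _ = (g * x * g⁻¹) * h * h⁻¹ := by rw [hcomm _ hy]
      _ = g * x * g⁻¹ := by group
  -- the second involution
  set t' := g' * t * g'⁻¹ with ht'
  have ht't' : t' * t' = 1 := by
    calc t' * t' = g' * (t * t) * g'⁻¹ := by rw [ht']; group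
      _ = 1 := by rw [htt]; group
  have ht'a : t' • a = t • a := by
    rw [ht', mul_smul, mul_smul, hg'ia, hg'b]
  have ht'b : t' • t • a = a := by
    rw [ht', mul_smul, mul_smul, hg'ib, tta hS, hg'a]
  have ht'Y : ∀ y ∈ Y, y * t' = t' * y := by
    intro y hy
    obtain ⟨x, hx, rfl⟩ := hy
    show g * x * g⁻¹ * t' = t' * (g * x * g⁻¹)
    rw [← hg'x x hx, ht']
    calc g' * x * g'⁻¹ * (g' * t * g'⁻¹) = g' * (x * t) * g'⁻¹ := by group
      _ = g' * (t * x) * g'⁻¹ := by rw [hXt x hx]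
      _ = g' * t * g'⁻¹ * (g' * x * g'⁻¹) := by group
  set k' := t * t' with hk'
  have hk'D : k' ∈ D := by
    refine Subgroup.mem_inf.mpr ⟨?_, ?_⟩
    · rw [mem_stabilizer_iff, hk', mul_smul, ht'a, tta hS]
    · rw [mem_stabilizer_iff, hk', mul_smul, ht'b]
  have hk'inv : t * k' * t = k'⁻¹ := by
    rw [hk']
    have h1 : (t * t')⁻¹ = t' * t := by
      rw [mul_inv_rev, hti, inv_eq_of_mul_eq_one_right ht't']
    rw [h1]
    calc t * (t * t') * t = (t * t) * t' * t := by group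
      _ = t' * t := by rw [htt, one_mul]
  have hk'Y : ∀ y ∈ Y, y * k' = k' * y := by
    intro y hy
    rw [hk']
    calc y * (t * t') = (y * t) * t' := by group
      _ = (t * y) * t' := by rw [hYt y hy]
      _ = t * (y * t') := by group
      _ = t * (t' * y) := by rw [ht'Y y hy]
      _ = t * t' * y := by group
  have hoddk : Odd (orderOf k') := by
    have h1 : orderOf k' ∣ Nat.card D := Subgroup.orderOf_dvd_natCard D hk'D
    exact Odd.of_dvd_nat hS.odd_card h1
  obtain ⟨j, hj⟩ := exists_sqrt k' hoddk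
  set k := k' ^ j with hk
  have hkD : k ∈ D := Subgroup.pow_mem _ hk'D j
  have hkinv : t * k * t = k⁻¹ := by
    have h1 : t * k' ^ j * t⁻¹ = (t * k' * t⁻¹) ^ j := by rw [conj_pow]
    rw [hti] at h1
    rw [hk, h1, hk'inv, inv_pow]
  have hkY : ∀ y ∈ Y, y * k = k * y := by
    intro y hy
    rw [hk]
    exact ((Commute.pow_right (hk'Y y hy) j : Commute y (k' ^ j))).eq
  -- `k⁻¹ t k = t'`
  have hconj : k⁻¹ * t * k = t' := by
    have h1 : k⁻¹ * t = t * k := by
      calc k⁻¹ * t = (t * k * t) * t := by rw [hkinv]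
        _ = t * k * (t * t) := by group
        _ = t * k := by rw [htt, mul_one]
    calc k⁻¹ * t * k = (t * k) * k := by rw [h1]
      _ = t * (k * k) := by group
      _ = t * k' := by rw [hj]
      _ = t' := by rw [hk']; calc t * (t * t') = (t * t) * t' := by group
                                _ = t' := by rw [htt, one_mul]
  refine ⟨k * g', Subgroup.mem_inf.mpr ⟨Subgroup.mul_mem _ hkD hg'D, ?_⟩, ?_⟩
  · rw [Subgroup.mem_centralizer_iff]
    intro w hw
    rw [Set.mem_singleton_iff] at hw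
    subst hw
    have h1 : k * g' * w * (k * g')⁻¹ = w := by
      calc k * g' * w * (k * g')⁻¹ = k * (g' * w * g'⁻¹) * k⁻¹ := by group
        _ = k * (k⁻¹ * w * k) * k⁻¹ := by rw [← ht', ← hconj]
        _ = w := by group
    calc w * (k * g') = (k * g' * w * (k * g')⁻¹) * (k * g') := by rw [h1]
      _ = k * g' * w := by group
  · intro x hx
    have hy : g * x * g⁻¹ ∈ Y := ⟨x, hx, rfl⟩
    calc k * g' * x * (k * g')⁻¹ = k * (g' * x * g'⁻¹) * k⁻¹ := by group
      _ = k * (g * x * g⁻¹) * k⁻¹ := by rw [hg'x x hx]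
      _ = (g * x * g⁻¹) * k * k⁻¹ := by rw [hkY _ hy]
      _ = g * x * g⁻¹ := by group

/-- In the rank-one set-up (`G` finite and doubly transitive on `Ω`, `t` an involution moving `a`, `Q` normal in `G_a` with `G_a = Q D`, `Q ⊓ D = 1` for the two-point stabiliser `D = G_a ⊓ G_{t • a}`, `|Q|` even, `|D|` odd), with the action faithful and `G` containing two distinct commuting involutions, with `V = C_D(t)`: subsets of `V` conjugate in `G` are conjugate in `V`. -/
theorem result {G Ω : Type*} [Group G] [Finite G] [MulAction G Ω] [FaithfulSMul G Ω] {a : Ω} {t : G} {Q : Subgroup G}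
    (hS : Cfsg.IsRankOneSetup G Ω a t Q)
    (h2 : ∃ x y : G, x ≠ 1 ∧ y ≠ 1 ∧ x ≠ y ∧ x * x = 1 ∧ y * y = 1 ∧ x * y = y * x)
    (X : Set G) (hX : X ⊆ (((MulAction.stabilizer G a ⊓ MulAction.stabilizer G (t • a)) ⊓ Subgroup.centralizer {t} : Subgroup G) : Set G)) (g : G)
    (hY : (fun x => g * x * g⁻¹) '' X ⊆ (((MulAction.stabilizer G a ⊓ MulAction.stabilizer G (t • a)) ⊓ Subgroup.centralizer {t} : Subgroup G) : Set G)) :
    ∃ v ∈ (MulAction.stabilizer G a ⊓ MulAction.stabilizer G (t • a)) ⊓ Subgroup.centralizer {t}, (fun x => v * x * v⁻¹) '' X = (fun x => g * x * g⁻¹) '' X := by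
  obtain ⟨v, hv, hvx⟩ := fusion hS X hX g hY
  refine ⟨v, hv, ?_⟩
  apply Set.image_congr
  intro x hx
  exact hvx x hx

end Cfsg.Agent.S1134
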