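import Mathlib
import Cfsg.Statements.S1137
import Cfsg.Agent.Lib.Helper16.HigmanG

set_option autoImplicit false
open Cfsg

namespace Cfsg.Agent.S1137

/-- In a Suzuki 2-group `P` (a finite non-abelian 2-group with more than one involution admitting a cyclic group of automorphisms regular on its involutions) the involutions are exactly the non-identity central elements, and `Z(P)` is elementary abelian. -/
theorem result {P : Type*} [Group P] (hP : Cfsg.IsSuzukiTwoGroup P) :
    (∀ x : P, (x ≠ 1 ∧ x * x = 1) ↔ (x ∈ Subgroup.center P ∧ x ≠ 1)) ∧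
      ∀ z ∈ Subgroup.center P, z * z = 1 := by
  obtain ⟨hfin, hp, hna, -, K, hcyc, hreg⟩ := hP
  haveI := hfin
  have hK : ∀ a b : K, a * b = b * a := by
    intro a b
    letI := IsCyclic.commGroup (α := K)
    exact mul_comm a b
  have reg : Cfsg.Agent.Helper16.Higman.Reg K.subtype := by
    intro x y hx1 hx2 hy1 hy2
    exact hreg x y hx1 hx2 hy1 hy2
  have hc : ∀ z ∈ Subgroup.center P, z * z = 1 := fun z hz =>
    Cfsg.Agent.Helper16.Higman.center_exp_two hp hK K.subtype reg hna hz
  refine ⟨?_, hc⟩
  intro x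
  constructor
  · rintro ⟨hx1, hx2⟩
    exact ⟨Cfsg.Agent.Helper16.Higman.inv_mem_center K.subtype hp reg hx2, hx1⟩
  · rintro ⟨hx, hx1⟩
    exact ⟨hx1, hc x hx⟩

end Cfsg.Agent.S1137
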