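import Mathlib
import Cfsg.Statements.S1138
import Cfsg.Agent.Lib.Helper16.HigCountD

set_option autoImplicit false
open Cfsg

namespace Cfsg.Agent.S1138

open scoped commutatorElement

set_option linter.style.haveILetI false

/-- Let `P` be a Suzuki 2-group with `|Z(P)| = q`. Then every square lies in `Z(P)` and `P/Z(P)` is abelian (so elementary abelian), `|P| = q²` or `|P| = q³`, and `P` has exponent 4. -/
theorem result {P : Type*} [Group P] (hP : Cfsg.IsSuzukiTwoGroup P) :
    (∀ x : P, x * x ∈ Subgroup.center P) ∧ (∀ x y : P, x⁻¹ * y⁻¹ * x * y ∈ Subgroup.center P) ∧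
      (Nat.card P = Nat.card (Subgroup.center P) ^ 2 ∨ Nat.card P = Nat.card (Subgroup.center P) ^ 3) ∧
      Monoid.exponent P = 4 := by
  obtain ⟨hfin, hpg, hna, two, K, hKc, hreg⟩ := hP
  haveI := hfin
  haveI := hKc
  let X : Cfsg.Agent.Helper16.Higman.Ctx P K :=
    { fin := hfin
      pg := hpg
      φ := K.subtype
      kcomm := fun a b => (IsCyclic.commGroup (α := K)).mul_comm a b
      reg := fun x y hx1 hx2 hy1 hy2 => hreg x y hx1 hx2 hy1 hy2
      hna := hna }
  have hsq := X.sq_mem_V_all two
  have hcomm := X.comm_mem_V_all two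
  have hcen := X.center_eq
  have hcard := X.card_cases two
  rw [hcen]
  refine ⟨fun x => hsq x, ?_, hcard, ?_⟩
  · intro x y
    have h1 : x⁻¹ * y⁻¹ * x * y = ⁅x⁻¹, y⁻¹⁆ := by
      rw [commutatorElement_def, inv_inv, inv_inv]
    rw [h1]
    exact hcomm _ _
  · have h4 : ∀ g : P, g ^ 4 = 1 := by
      intro g
      rw [← Cfsg.Agent.Helper16.Higman.four_eq]
      exact (hsq g).2
    have hdvd : Monoid.exponent P ∣ 2 ^ 2 := Monoid.exponent_dvd_of_forall_pow_eq_one h4
    obtain ⟨m, hm, hm'⟩ := (Nat.dvd_prime_pow Nat.prime_two).mp hdvd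
    have hm2 : m = 2 := by
      by_contra hne
      have hm1 : m ≤ 1 := by omega
      have h2 : ∀ g : P, g * g = 1 := by
        intro g
        have h3 := Monoid.pow_exponent_eq_one g
        rw [hm'] at h3
        have h5 : g ^ 2 = 1 := by
          have : (2 : ℕ) = 2 ^ m * 2 ^ (1 - m) := by
            rw [← pow_add]
            have : m + (1 - m) = 1 := by omega
            rw [this, pow_one]
          rw [this, pow_mul, h3, one_pow]
        rw [← pow_two]; exact h5
      obtain ⟨x, y, hxy⟩ := hna
      apply hxy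
      exact X.V_commute (X.mem_V.mpr (h2 y)) x
    rw [hm', hm2]
    norm_num

end Cfsg.Agent.S1138
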