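import Mathlib
import Cfsg.Statements.S1139
import Cfsg.Agent.Lib.Helper16.HigTA7

set_option autoImplicit false
open Cfsg

namespace Cfsg.Agent.S1139

set_option linter.style.haveILetI false

/-- A Suzuki 2-group `P` with `|P| = |Z(P)|²` is of type A: for some finite field `F` with `|F| = |Z(P)|` and some field automorphism `φ ≠ 1` of odd order, `P` is isomorphic to the group of lower unitriangular matrices with rows `(1,0,0)`, `(x,1,0)`, `(y, φ x, 1)`. -/
theorem result {P : Type*} [Group P] (hP : Cfsg.IsSuzukiTwoGroup P)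
    (hcard : Nat.card P = Nat.card (Subgroup.center P) ^ 2) :
    ∃ (F : Type) (_ : Field F) (_ : Fintype F) (φ : F ≃+* F), Fintype.card F = Nat.card (Subgroup.center P) ∧
      φ ≠ RingEquiv.refl F ∧ Odd (orderOf φ) ∧ Nonempty (P ≃* Cfsg.suzukiTypeA F (φ : F →+* F)) := by
  classical
  obtain ⟨hfin, hpg, hna, two, K, hKc, hreg⟩ := hP
  haveI := hfin
  haveI := hKc
  let X : Cfsg.Agent.Helper16.Higman.Ctx P K :=
    { fin := hfin
      pg := hpg
      φ := K.subtype
      kcomm := fun a b => (IsCyclic.commGroup (α := K)).mul_comm a b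
      reg := fun x y hx1 hx2 hy1 hy2 => hreg x y hx1 hx2 hy1 hy2
      hna := hna }
  have hcen := X.center_eq
  rw [hcen] at hcard ⊢
  obtain ⟨x₀, y₀, hxy⟩ := hna
  have hy₀ : y₀ ∉ Cfsg.Agent.Helper16.Higman.Om P := fun h => hxy (X.V_commute h x₀)
  let Z : Cfsg.Agent.Helper16.Higman.QCtx P K :=
    { toCtx := X
      two := two
      hcard := hcard
      g₁ := y₀
      g₁_not := hy₀ }
  obtain ⟨n, hn⟩ := IsPGroup.iff_card.mp (hpg.to_subgroup (Cfsg.Agent.Helper16.Higman.Om P))
  have hn0 : n ≠ 0 := by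
    intro h0
    rw [h0, pow_zero] at hn
    haveI : Subsingleton (Cfsg.Agent.Helper16.Higman.Om P) :=
      (Nat.card_eq_one_iff_unique.mp hn).1
    obtain ⟨x, y, -, hx1, hx2, -, -⟩ := two
    apply hx1
    have : (⟨x, X.mem_V.mpr hx2⟩ : Cfsg.Agent.Helper16.Higman.Om P) = 1 := Subsingleton.elim _ _
    exact congrArg Subtype.val this
  haveI : Fact (Nat.Prime 2) := ⟨Nat.prime_two⟩
  letI : Fintype (GaloisField 2 n) := Fintype.ofFinite _
  have hFcard : Fintype.card (GaloisField 2 n) = 2 ^ n := by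
    rw [← Nat.card_eq_fintype_card, GaloisField.card 2 n hn0]
  letI : Fintype (Cfsg.Agent.Helper16.HigField.FV Z.datV) := Fintype.ofFinite _
  letI : Fintype (Cfsg.Agent.Helper16.HigField.FV Z.datW) := Fintype.ofFinite _
  have hV : Fintype.card (Cfsg.Agent.Helper16.HigField.FV Z.datV) = Fintype.card (GaloisField 2 n) := by
    rw [hFcard, ← Nat.card_eq_fintype_card, Cfsg.Agent.Helper16.HigField.card_eq, hn]
  have hW : Fintype.card (Cfsg.Agent.Helper16.HigField.FV Z.datW) = Fintype.card (GaloisField 2 n) := by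
    rw [hFcard, ← Nat.card_eq_fintype_card, Cfsg.Agent.Helper16.HigField.card_eq, Z.card_quot, hn]
  let E : Cfsg.Agent.Helper16.Higman.QFld Z (GaloisField 2 n) :=
    { eV := FiniteField.ringEquivOfCardEq hV
      eW := FiniteField.ringEquivOfCardEq hW }
  obtain ⟨φ, h1, h2, h3⟩ := E.typeA
  exact ⟨GaloisField 2 n, inferInstance, inferInstance, φ, by rw [hFcard, hn], h1, h2, h3⟩

end Cfsg.Agent.S1139
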