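import Mathlib
import Cfsg.Statements.S1140

set_option autoImplicit false
open Cfsg

namespace Cfsg.Agent.S1140

variable {F : Type*} [Field F]

theorem partA : LinearIndependent F (fun σ : F ≃+* F => ((σ : F →+* F) : F → F)) := by
  have h := linearIndependent_monoidHom F F
  have hinj : Function.Injective (fun σ : F ≃+* F => ((σ : F →+* F) : F →* F)) := by
    intro σ τ h
    ext x
    have := DFunLike.congr_fun h x
    exact this
  exact h.comp _ hinj

theorem finiteA [Finite F] : Finite (F ≃+* F) :=
  Finite.of_injective (fun σ : F ≃+* F => (σ : F → F)) DFunLike.coe_injective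

theorem cardA [Fintype F] [CharP F 2] :
    Nat.card (F ≃+* F) = @Module.finrank (ZMod 2) F _ _ (ZMod.algebra F 2).toModule := by
  let _ : Algebra (ZMod 2) F := ZMod.algebra F 2
  rw [← IsGalois.card_aut_eq_finrank (ZMod 2) F]
  apply Nat.card_congr
  refine ⟨fun σ => AlgEquiv.ofRingEquiv (f := σ) ?_, fun σ => σ.toRingEquiv, ?_, ?_⟩
  · intro r
    have : (σ : F →+* F).comp (algebraMap (ZMod 2) F) = algebraMap (ZMod 2) F := Subsingleton.elim _ _
    exact DFunLike.congr_fun this r
  · intro σ; rfl
  · intro σ; rfl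

theorem cardHom [Fintype F] [CharP F 2] :
    Nat.card (F →+ F) = Nat.card F ^ (@Module.finrank (ZMod 2) F _ _ (ZMod.algebra F 2).toModule) := by
  let _ : Algebra (ZMod 2) F := ZMod.algebra F 2
  have e1 : (F →+ F) ≃ (F →ₗ[ZMod 2] F) := (AddMonoidHom.toZModLinearMapEquiv 2).toEquiv
  have b := Module.finBasis (ZMod 2) F
  have e2 : (Fin (Module.finrank (ZMod 2) F) → F) ≃ (F →ₗ[ZMod 2] F) := (b.constr (ZMod 2)).toEquiv
  rw [Nat.card_congr e1, ← Nat.card_congr e2, Nat.card_fun, Nat.card_fin]

/-- The linear combination map from coefficient families to additive maps. -/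
noncomputable def Psi [Fintype (F ≃+* F)] (c : (F ≃+* F) → F) : F →+ F :=
  ∑ σ, (AddMonoidHom.mulLeft (c σ)).comp ((σ : F →+* F) : F →+ F)

theorem Psi_apply [Fintype (F ≃+* F)] (c : (F ≃+* F) → F) (x : F) : Psi c x = ∑ σ, c σ * σ x := by
  simp only [Psi, AddMonoidHom.finsetSum_apply]
  rfl

theorem Psi_add [Fintype (F ≃+* F)] (c c' : (F ≃+* F) → F) : Psi (c + c') = Psi c + Psi c' := by
  ext x
  simp only [AddMonoidHom.add_apply, Psi_apply, Pi.add_apply, add_mul, Finset.sum_add_distrib]

theorem Psi_injective [Fintype (F ≃+* F)] : Function.Injective (Psi (F := F)) := by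
  intro c c' h
  have hli := Fintype.linearIndependent_iff.mp (partA (F := F)) (fun σ => c σ - c' σ)
  have h0 : ∑ σ : F ≃+* F, (c σ - c' σ) • ((σ : F →+* F) : F → F) = 0 := by
    ext x
    simp only [Finset.sum_apply, Pi.smul_apply, smul_eq_mul, Pi.zero_apply]
    have h1 := Psi_apply c x
    have h2 := Psi_apply c' x
    rw [h] at h1
    simp only [sub_mul, Finset.sum_sub_distrib]
    rw [sub_eq_zero]
    exact h1.symm.trans h2
  ext σ
  have := hli h0 σ
  exact sub_eq_zero.mp this

theorem Psi_surjective [Fintype F] [CharP F 2] [Fintype (F ≃+* F)] : Function.Surjective (Psi (F := F)) := by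
  have hcard : Nat.card (F →+ F) ≤ Nat.card ((F ≃+* F) → F) := by
    rw [cardHom, Nat.card_fun, cardA]
  have hfin2 : Finite (F →+ F) := Finite.of_injective (fun f : F →+ F => (f : F → F)) DFunLike.coe_injective
  exact (Psi_injective.bijective_of_nat_card_le hcard).2

theorem exists_coeff2 [Fintype F] [CharP F 2] [Fintype (F ≃+* F)] (B : F →+ F →+ F) :
    ∃ e : (F ≃+* F) × (F ≃+* F) → F, ∀ x y : F, B x y = ∑ p, e p * (p.1 x * p.2 y) := by
  -- coefficients for each `x`
  choose C hC using fun x : F => Psi_surjective (B x)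
  have hCadd : ∀ x x' : F, C (x + x') = C x + C x' := by
    intro x x'
    apply Psi_injective
    rw [Psi_add, hC, hC, hC, map_add]
  -- each coordinate is additive
  let Cτ : (F ≃+* F) → (F →+ F) := fun τ =>
    { toFun := fun x => C x τ
      map_zero' := by
        have := hCadd 0 0
        rw [add_zero] at this
        have h0 : C 0 = 0 := by
          have h1 : C 0 + C 0 = C 0 + 0 := by rw [add_zero]; exact this.symm
          exact add_left_cancel h1
        rw [h0]; rfl
      map_add' := fun x x' => by rw [hCadd]; rfl }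
  choose E hE using fun τ : F ≃+* F => Psi_surjective (Cτ τ)
  refine ⟨fun p => E p.2 p.1, fun x y => ?_⟩
  have h1 : B x y = ∑ τ, C x τ * τ y := by rw [← hC x, Psi_apply]
  have h2 : ∀ τ, C x τ = ∑ σ, E τ σ * σ x := by
    intro τ
    have : Cτ τ x = C x τ := rfl
    rw [← this, ← hE τ, Psi_apply]
  rw [h1]
  simp only [h2, Finset.sum_mul]
  rw [← Finset.univ_product_univ, Finset.sum_product_right]
  apply Finset.sum_congr rfl
  intro τ _
  apply Finset.sum_congr rfl
  intro σ _
  ring

/-- For a finite field `F` of characteristic 2, the automorphisms of `F`, viewed as additive maps `F → F`, are linearly independent over `F` (acting on values) every additive endomorphism of `F` is an `F`-linear combination of them, and every biadditive map `F → F → F` is an `F`-combination of the maps `(x, y) ↦ σ(x) τ(y)`. -/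
theorem result {F : Type*} [Field F] [Fintype F] [CharP F 2] :
    LinearIndependent F (fun σ : F ≃+* F => ((σ : F →+* F) : F → F)) ∧
      (∀ f : F →+ F, ∃ (s : Finset (F ≃+* F)) (c : (F ≃+* F) → F), ∀ x : F, f x = ∑ σ ∈ s, c σ * σ x) ∧
      ∀ B : F →+ F →+ F, ∃ (s : Finset ((F ≃+* F) × (F ≃+* F))) (c : (F ≃+* F) × (F ≃+* F) → F),
        ∀ x y : F, B x y = ∑ p ∈ s, c p * (p.1 x * p.2 y) := by
  have hfin : Finite (F ≃+* F) := finiteA
  let inst : Fintype (F ≃+* F) := Fintype.ofFinite _
  refine ⟨partA, ?_, ?_⟩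
  · intro f
    obtain ⟨c, hc⟩ := Psi_surjective f
    refine ⟨Finset.univ, c, fun x => ?_⟩
    rw [← hc, Psi_apply]
  · intro B
    obtain ⟨e, he⟩ := exists_coeff2 B
    exact ⟨Finset.univ, e, he⟩

end Cfsg.Agent.S1140
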