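import Mathlib
import Cfsg.Statements.S1141
import Cfsg.Agent.Lib.Helper11.UnitaryHeis

set_option autoImplicit false
open Cfsg

namespace Cfsg.Agent.S1141

open Cfsg.Agent.Helper11.Herm

/-- Let `q = 2^n ≥ 4` and `|F| = q²`. A Sylow 2-subgroup `S` of `PSU₃(q)` has order `q³`, its centre has order `q`, and `S` is a Suzuki 2-group. -/
theorem result {F : Type*} [Field F] [Fintype F] {n : ℕ} (hn : 2 ≤ n)
    (hF : Fintype.card F = (2 ^ n) ^ 2) (S : Sylow 2 (Cfsg.PSU 3 F (2 ^ n))) :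
    Nat.card S = (2 ^ n) ^ 3 ∧ Nat.card (Subgroup.center ↥(S : Subgroup (Cfsg.PSU 3 F (2 ^ n)))) = 2 ^ n ∧
      Cfsg.IsSuzukiTwoGroup ↥(S : Subgroup (Cfsg.PSU 3 F (2 ^ n))) := by
  obtain ⟨φ, hφ⟩ := exists_frob hF
  have hchar2 : CharP F 2 := by
    rw [← ringChar.eq_iff, FiniteField.even_card_iff_char_two, hF]
    exact Nat.even_iff.1 (Nat.even_pow.2 ⟨Nat.even_pow.2 ⟨even_two, (by omega : n ≠ 0)⟩, two_ne_zero⟩)
  have hφφ : Fact (∀ x : F, φ (φ x) = x) := ⟨frob_frob hF φ hφ⟩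
  obtain ⟨e⟩ := exists_sylow_equiv hF φ hφ ⟨n, rfl⟩ S
  refine ⟨?_, ?_, ?_⟩
  · rw [Nat.card_congr e.toEquiv, card_Hs hF φ hφ]
  · rw [Nat.card_congr (Subgroup.centerCongr e).toEquiv, card_center_Hs hF φ hφ]
  · apply isSuzuki_of_mulEquiv e
    apply isSuzuki_Hs hF φ hφ _ ⟨n, rfl⟩
    calc 4 = 2 ^ 2 := by norm_num
      _ ≤ 2 ^ n := Nat.pow_le_pow_right (by norm_num) hn

end Cfsg.Agent.S1141
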