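import Mathlib
import Cfsg.Statements.S1160
import Cfsg.Agent.Lib.Helper22.OddCyclicMax
import Cfsg.Agent.Lib.Helper19.PGroupBasic

set_option autoImplicit false
open Cfsg

namespace Cfsg.Agent.S1160

variable {P E : Type*} [Group P] [AddCommGroup E] [DistribMulAction P E]

/-- the "trace" of `g` (an element with `g ^ p = 1`) -/
noncomputable def T (p : ℕ) [NeZero p] (g : P) (v : E) : E := ∑ m : ZMod p, g ^ m.val • v

variable (p : ℕ) [NeZero p]

theorem pow_val_add {g : P} (hg : g ^ p = 1) (a b : ZMod p) :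
    g ^ (a + b).val = g ^ a.val * g ^ b.val := by
  rw [ZMod.val_add, ← pow_eq_pow_mod _ hg, pow_add]

theorem pow_val_mul {g : P} (hg : g ^ p = 1) (a b : ZMod p) :
    g ^ (a * b).val = (g ^ a.val) ^ b.val := by
  rw [ZMod.val_mul, ← pow_eq_pow_mod _ hg, pow_mul]

theorem T_add (g : P) (u v : E) : T p g (u + v) = T p g u + T p g v := by
  unfold T
  rw [← Finset.sum_add_distrib]
  exact Finset.sum_congr rfl (fun m _ => smul_add _ _ _)

theorem T_sub (g : P) (u v : E) : T p g (u - v) = T p g u - T p g v := by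
  unfold T
  rw [← Finset.sum_sub_distrib]
  exact Finset.sum_congr rfl (fun m _ => smul_sub _ _ _)

theorem T_fix {g : P} {u : E} (h : g • u = u) : T p g u = p • u := by
  unfold T
  have h1 : ∀ n : ℕ, g ^ n • u = u := by
    intro n
    induction n with
    | zero => simp
    | succ n ih => rw [pow_succ, mul_smul, h, ih]
  rw [Finset.sum_congr rfl (fun m _ => h1 m.val), Finset.sum_const, Finset.card_univ, ZMod.card]

theorem T_smul' {g : P} (hg : g ^ p = 1) (v : E) : T p g (g • v) = T p g v := by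
  unfold T
  have h1 : ∀ m : ZMod p, g ^ m.val • g • v = g ^ (m + 1).val • v := by
    intro m
    rw [pow_val_add p hg, mul_smul]
    congr 2
    by_cases hp1 : p = 1
    · subst hp1
      have : (1 : ZMod 1) = 0 := Subsingleton.elim _ _
      rw [this, ZMod.val_zero, pow_zero]
      rw [pow_one] at hg
      rw [hg]
    · haveI : Fact (1 < p) := ⟨by have := NeZero.ne p; omega⟩
      rw [ZMod.val_one p, pow_one]
  rw [Finset.sum_congr rfl (fun m _ => h1 m)]
  exact Equiv.sum_comp (Equiv.addRight (1 : ZMod p)) (fun m => g ^ m.val • v)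

theorem T_smul {g : P} (hg : g ^ p = 1) (v : E) : g • T p g v = T p g v := by
  have h : g • T p g v = T p g (g • v) := by
    unfold T
    rw [Finset.smul_sum]
    apply Finset.sum_congr rfl
    intro m _
    rw [← mul_smul, ← mul_smul, ← pow_succ', pow_succ]
  rw [h, T_smul' p hg]

theorem T_comm {g h : P} (hc : Commute h g) (v : E) : T p g (h • v) = h • T p g v := by
  unfold T
  rw [Finset.smul_sum]
  apply Finset.sum_congr rfl
  intro m _
  rw [← mul_smul, ← mul_smul, (hc.pow_right m.val).eq]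

theorem T_mul_of_fix {a y : P} (hc : Commute a y) {u : E} (h : a • u = u) :
    T p (a * y) u = T p y u := by
  unfold T
  apply Finset.sum_congr rfl
  intro m _
  have h1 : ∀ n : ℕ, a ^ n • u = u := by
    intro n
    induction n with
    | zero => simp
    | succ n ih => rw [pow_succ, mul_smul, h, ih]
  rw [hc.mul_pow, ((hc.pow_pow m.val m.val)).eq, mul_smul, h1]

theorem T_pow {z : P} (hz : z ^ p = 1) [Fact p.Prime] {c : ZMod p} (hc : c ≠ 0) (u : E) :
    T p (z ^ c.val) u = T p z u := by
  unfold T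
  have h1 : ∀ m : ZMod p, (z ^ c.val) ^ m.val • u = z ^ (c * m).val • u := by
    intro m
    rw [pow_val_mul p hz]
  rw [Finset.sum_congr rfl (fun m _ => h1 m)]
  exact Equiv.sum_comp (Equiv.mulLeft₀ c hc) (fun m => z ^ m.val • u)


/-- the sum identity -/
theorem sum_T_mul [Fact p.Prime] {e z : P} (hc : Commute e z) (hz : z ^ p = 1)
    (hTz : ∀ u : E, T p z u = 0) (x : E) :
    ∑ k : ZMod p, T p (e * z ^ k.val) x = p • x := by
  unfold T
  rw [Finset.sum_comm]
  have h1 : ∀ m k : ZMod p, (e * z ^ k.val) ^ m.val • x = e ^ m.val • (z ^ (m * k).val • x) := by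
    intro m k
    rw [(hc.pow_right k.val).mul_pow, mul_smul, mul_comm m k, pow_val_mul p hz]
  rw [Finset.sum_congr rfl (fun m _ => Finset.sum_congr rfl (fun k _ => h1 m k))]
  rw [Finset.sum_eq_single (0 : ZMod p)]
  · simp only [ZMod.val_zero, pow_zero, one_smul, zero_mul]
    rw [Finset.sum_const, Finset.card_univ, ZMod.card]
  · intro m _ hm
    rw [← Finset.smul_sum]
    have h2 : ∑ k : ZMod p, z ^ (m * k).val • x = T p z x := by
      unfold T
      exact Equiv.sum_comp (Equiv.mulLeft₀ m hm) (fun k => z ^ k.val • x)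
    rw [h2, hTz, smul_zero]
  · intro h
    exact absurd (Finset.mem_univ _) h


section main

variable [Finite P] [Finite E] [FaithfulSMul P E] [hp : Fact p.Prime]

/-- Claim A for central elements of order dividing `p`. -/
theorem claimA' (hcop : ∀ x : E, p • x = 0 → x = 0)
    (hconst : ∀ a b : E, a ≠ 0 → b ≠ 0 →
      Nat.card (MulAction.stabilizer P a) = Nat.card (MulAction.stabilizer P b))
    (z : P) (hzc : z ∈ Subgroup.center P) (hz : z ^ p = 1) (hz1 : z ≠ 1) (a : E) (ha : z • a = a) :
    a = 0 := by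
  by_contra ha0
  have hcomm : ∀ g : P, Commute g z := fun g => (Subgroup.mem_center_iff.mp hzc g)
  -- a vector moved by z
  obtain ⟨v, hv⟩ : ∃ v : E, z • v ≠ v := by
    by_contra hall
    push Not at hall
    apply hz1
    apply FaithfulSMul.eq_of_smul_eq_smul (α := E)
    intro b
    rw [hall b, one_smul]
  set w := v - z • v with hw
  have hw0 : w ≠ 0 := by
    intro h
    apply hv
    rw [hw, sub_eq_zero] at h
    exact h.symm
  have hTw : T p z w = 0 := by
    rw [hw, T_sub, T_smul' p hz, sub_self]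
  -- fixed by z and trace zero implies zero
  have key : ∀ u : E, z • u = u → T p z u = 0 → u = 0 := by
    intro u hu hTu
    apply hcop
    rw [← T_fix p hu, hTu]
  have hzw : z • w ≠ w := fun h => hw0 (key w h hTw)
  have haw : a + w ≠ 0 := by
    intro h
    have h1 : w = -a := (neg_eq_of_add_eq_zero_right h).symm
    apply hzw
    rw [h1, smul_neg, ha]
  have hle : MulAction.stabilizer P (a + w) ≤ MulAction.stabilizer P a ⊓ MulAction.stabilizer P w := by
    intro g hg
    rw [MulAction.mem_stabilizer_iff, smul_add] at hg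
    have h1 : g • a - a = w - g • w := by
      rw [sub_eq_sub_iff_add_eq_add, hg, add_comm]
    have h2 : z • (g • a - a) = g • a - a := by
      rw [smul_sub, ha, ← mul_smul, ← (hcomm g).eq, mul_smul, ha]
    have h3 : T p z (g • a - a) = 0 := by
      rw [h1, T_sub, T_comm p (hcomm g), hTw, smul_zero, sub_zero]
    have h4 := key _ h2 h3
    rw [Subgroup.mem_inf, MulAction.mem_stabilizer_iff, MulAction.mem_stabilizer_iff]
    refine ⟨sub_eq_zero.mp h4, ?_⟩
    rw [h4] at h1
    exact (sub_eq_zero.mp h1.symm).symm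
  have heq : MulAction.stabilizer P (a + w) = MulAction.stabilizer P a := by
    apply Subgroup.eq_of_le_of_card_ge (hle.trans inf_le_left)
    rw [hconst a (a + w) ha0 haw]
  have hza : z ∈ MulAction.stabilizer P a := ha
  rw [← heq] at hza
  exact hzw ((hle hza).2)


/-- traces on other fixed spaces vanish -/
theorem T_other {e' z : P} (hc : Commute e' z) (hz : z ^ p = 1) (hTz : ∀ u : E, T p z u = 0)
    {s t : ZMod p} (hst : s ≠ t) {u : E} (hu : (e' * z ^ t.val) • u = u) :
    T p (e' * z ^ s.val) u = 0 := by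
  have h1 : e' * z ^ s.val = (e' * z ^ t.val) * z ^ (s - t).val := by
    rw [mul_assoc, ← pow_val_add p hz, add_sub_cancel]
  have h2 : Commute (e' * z ^ t.val) (z ^ (s - t).val) :=
    ((hc.pow_right _).mul_left ((Commute.refl z).pow_pow _ _))
  rw [h1, T_mul_of_fix p h2 hu, T_pow p hz (sub_ne_zero.mpr hst), hTz]

theorem claimB (hp2 : p ≠ 2) (hP : IsPGroup p P) (hcop : ∀ x : E, p • x = 0 → x = 0)
    (hconst : ∀ a b : E, a ≠ 0 → b ≠ 0 →
      Nat.card (MulAction.stabilizer P a) = Nat.card (MulAction.stabilizer P b))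
    (hA : ∀ z : P, z ∈ Subgroup.center P → z ^ p = 1 → z ≠ 1 → ∀ a : E, z • a = a → a = 0) :
    IsCyclic P := by
  by_contra hnc
  have hpp : p.Prime := hp.out
  have hnc' : ¬ IsCyclic (⊤ : Subgroup P) := fun h =>
    hnc (isCyclic_of_surjective (Subgroup.topEquiv : (⊤ : Subgroup P) ≃* P)
      Subgroup.topEquiv.surjective)
  obtain ⟨A, -, hAn, ⟨hAc, hAe⟩, hAcard⟩ :=
    Helper22.exists_normal_elementary_sq hp2 hP ⊤ hnc'
  haveI := hAn
  have hAne : A ≠ ⊥ := by
    intro h
    rw [h, Subgroup.card_bot] at hAcard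
    have := hpp.one_lt
    nlinarith
  have h1 := Helper19.normal_inf_center_ne_bot hP A hAne
  obtain ⟨⟨z, hzAZ⟩, hz1'⟩ := (Subgroup.ne_bot_iff_exists_ne_one).mp h1
  have hz1 : z ≠ 1 := fun h => hz1' (Subtype.ext h)
  obtain ⟨hzA, hzc⟩ := Subgroup.mem_inf.mp hzAZ
  have hzp : z ^ p = 1 := hAe z hzA
  have hcomm : ∀ g : P, Commute g z := fun g => (Subgroup.mem_center_iff.mp hzc g)
  have hTz : ∀ u : E, T p z u = 0 := fun u => hA z hzc hzp hz1 _ (T_smul p hzp u)
  have hzo : orderOf z = p := orderOf_eq_prime hzp hz1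
  set Z := Subgroup.zpowers z with hZ
  haveI hZn : Z.Normal := by
    constructor
    intro y hy g
    obtain ⟨n, rfl⟩ := Subgroup.mem_zpowers_iff.mp hy
    have : g * z ^ n * g⁻¹ = z ^ n := by
      rw [((hcomm g).zpow_right n).eq, mul_inv_cancel_right]
    rw [this]
    exact Subgroup.zpow_mem _ (Subgroup.mem_zpowers z) n
  have hAZ : ¬ A ≤ Z := by
    intro h
    have h2 := Subgroup.card_le_of_le h
    rw [hAcard, hZ, Nat.card_zpowers, hzo] at h2
    have := hpp.one_lt
    nlinarith
  set Ab := A.map (QuotientGroup.mk' Z) with hAb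
  haveI : Ab.Normal := Subgroup.Normal.map hAn _ (QuotientGroup.mk'_surjective Z)
  have hAbne : Ab ≠ ⊥ := by
    intro h
    apply hAZ
    intro y hy
    have : (QuotientGroup.mk' Z) y ∈ Ab := Subgroup.mem_map_of_mem _ hy
    rw [h, Subgroup.mem_bot] at this
    exact (QuotientGroup.eq_one_iff y).mp this
  have hPq : IsPGroup p (P ⧸ Z) := hP.to_quotient Z
  have h2 := Helper19.normal_inf_center_ne_bot hPq Ab hAbne
  obtain ⟨⟨eb, hebAZ⟩, heb1'⟩ := (Subgroup.ne_bot_iff_exists_ne_one).mp h2
  have heb1 : eb ≠ 1 := fun h => heb1' (Subtype.ext h)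
  obtain ⟨hebA, hebc⟩ := Subgroup.mem_inf.mp hebAZ
  obtain ⟨e, heA, rfl⟩ := hebA
  have heZ : e ∉ Z := by
    intro h
    apply heb1
    exact (QuotientGroup.eq_one_iff e).mpr h
  have hconj : ∀ g : P, ∃ k : ZMod p, g * e * g⁻¹ = e * z ^ k.val := by
    intro g
    have h3 := Subgroup.mem_center_iff.mp hebc (g : P ⧸ Z)
    have h4 : e⁻¹ * (g * e * g⁻¹) ∈ Z := by
      rw [← QuotientGroup.eq]
      have h5 : ((g * e * g⁻¹ : P) : P ⧸ Z) = (QuotientGroup.mk' Z) e := by
        change ((g * e * g⁻¹ : P) : P ⧸ Z) = (e : P ⧸ Z)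
        rw [QuotientGroup.mk_mul, QuotientGroup.mk_mul, QuotientGroup.mk_inv]
        change (g : P ⧸ Z) * (QuotientGroup.mk' Z) e * (g : P ⧸ Z)⁻¹ = _
        rw [h3, mul_inv_cancel_right]
        rfl
      exact h5.symm
    obtain ⟨n, hn⟩ := Subgroup.mem_zpowers_iff.mp h4
    refine ⟨(n : ZMod p), ?_⟩
    have h6 : z ^ ((n : ZMod p).val) = z ^ n := by
      rw [← zpow_natCast, ZMod.val_intCast]
      exact (zpow_eq_zpow_emod n (by exact_mod_cast hzp)).symm
    rw [h6, hn]
    group
  have hep : e ^ p = 1 := hAe e heA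
  have hez : Commute e z := hcomm e
  -- nonzero vector
  obtain ⟨x, hx⟩ : ∃ x : E, x ≠ 0 := by
    by_contra hall
    push Not at hall
    apply hz1
    apply FaithfulSMul.eq_of_smul_eq_smul (α := E)
    intro b
    rw [hall b, smul_zero, smul_zero]
  have hsum := sum_T_mul p hez hzp hTz x
  obtain ⟨k, hk⟩ : ∃ k : ZMod p, T p (e * z ^ k.val) x ≠ 0 := by
    by_contra hall
    push Not at hall
    rw [Finset.sum_eq_zero (fun k _ => hall k)] at hsum
    exact hx (hcop x hsum.symm)
  set e' := e * z ^ k.val with he'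
  have he'p : e' ^ p = 1 := by
    rw [he', (hez.pow_right _).mul_pow, hep, ← pow_mul, mul_comm, pow_mul, hzp, one_pow, one_mul]
  set v₁ := T p e' x with hv₁def
  have hv₁ : e' • v₁ = v₁ := T_smul p he'p x
  have he'z : Commute e' z := hcomm e'
  have hconj' : ∀ g : P, ∃ j : ZMod p, g * e' * g⁻¹ = e' * z ^ j.val := by
    intro g
    obtain ⟨j, hj⟩ := hconj g
    refine ⟨j, ?_⟩
    have h7 : g * e' * g⁻¹ = (g * e * g⁻¹) * (g * z ^ k.val * g⁻¹) := by rw [he']; group
    have h8 : g * z ^ k.val * g⁻¹ = z ^ k.val := by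
      rw [((hcomm g).pow_right _).eq, mul_inv_cancel_right]
    rw [h7, h8, hj, he', mul_assoc, mul_assoc, ((Commute.refl z).pow_pow _ _).eq]
  have he'1 : e' ≠ 1 := by
    intro h
    apply heZ
    have : e = (z ^ k.val)⁻¹ := eq_inv_of_mul_eq_one_left h
    rw [this]
    exact Z.inv_mem (Subgroup.pow_mem _ (Subgroup.mem_zpowers z) _)
  have he'nc : e' ∉ Subgroup.center P := fun hc => hk (hA e' hc he'p he'1 v₁ hv₁)
  obtain ⟨g₀, hg₀⟩ : ∃ g : P, g * e' ≠ e' * g := by
    rw [Subgroup.mem_center_iff] at he'nc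
    push Not at he'nc
    exact he'nc
  obtain ⟨j₀, hj₀⟩ := hconj' g₀
  have hj₀0 : j₀ ≠ 0 := by
    rintro rfl
    rw [ZMod.val_zero, pow_zero, mul_one] at hj₀
    apply hg₀
    calc g₀ * e' = g₀ * e' * g₀⁻¹ * g₀ := by group
      _ = e' * g₀ := by rw [hj₀]
  have hpow : ∀ n : ℕ, g₀ ^ n * e' * (g₀ ^ n)⁻¹ = e' * z ^ ((n : ZMod p) * j₀).val := by
    intro n
    induction n with
    | zero => simp
    | succ n ih =>
      have h9 : g₀ ^ (n + 1) * e' * (g₀ ^ (n + 1))⁻¹ = g₀ * (g₀ ^ n * e' * (g₀ ^ n)⁻¹) * g₀⁻¹ := by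
        rw [pow_succ']; group
      have h10 : g₀ * z ^ ((n : ZMod p) * j₀).val * g₀⁻¹ = z ^ ((n : ZMod p) * j₀).val := by
        rw [((hcomm g₀).pow_right _).eq, mul_inv_cancel_right]
      have h11 : g₀ * (e' * z ^ ((n : ZMod p) * j₀).val) * g₀⁻¹ =
          (g₀ * e' * g₀⁻¹) * (g₀ * z ^ ((n : ZMod p) * j₀).val * g₀⁻¹) := by group
      rw [h9, ih, h11, h10, hj₀, mul_assoc, ← pow_val_add p hzp]
      congr 2
      push_cast
      ring
  set h := g₀ ^ (j₀⁻¹).val with hh
  have hhe : h * e' * h⁻¹ = e' * z := by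
    have h17 := hpow (j₀⁻¹).val
    rw [ZMod.natCast_zmod_val, inv_mul_cancel₀ hj₀0] at h17
    haveI : Fact (1 < p) := ⟨hpp.one_lt⟩
    rw [ZMod.val_one p, pow_one] at h17
    exact h17
  set w := h • v₁ with hw
  have hw0 : w ≠ 0 := by
    intro h0
    apply hk
    have : h⁻¹ • w = v₁ := by rw [hw, inv_smul_smul]
    rw [← this, h0, smul_zero]
  have hwfix : (e' * z) • w = w := by
    rw [← hhe, hw, ← mul_smul, inv_mul_cancel_right, mul_smul, hv₁]
  -- fixed-space bookkeeping
  have hv₁0 : (e' * z ^ (0 : ZMod p).val) • v₁ = v₁ := by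
    rw [ZMod.val_zero, pow_zero, mul_one]; exact hv₁
  have hw1 : (e' * z ^ (1 : ZMod p).val) • w = w := by
    haveI : Fact (1 < p) := ⟨hpp.one_lt⟩
    rw [ZMod.val_one p, pow_one]; exact hwfix
  have h01 : (0 : ZMod p) ≠ 1 := by
    haveI : Fact (1 < p) := ⟨hpp.one_lt⟩
    exact zero_ne_one
  have key2 : ∀ u : E, e' • u = u → (e' * z) • u = u → u = 0 := by
    intro u h1 h2
    have : z • u = u := by
      rw [mul_smul] at h2
      have h3 : e' • (z • u) = e' • u := by rw [h2, h1]
      exact smul_left_cancel e' h3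
    exact hA z hzc hzp hz1 u this
  have hvw : v₁ + w ≠ 0 := by
    intro h0
    have h1 : w = -v₁ := (neg_eq_of_add_eq_zero_right h0).symm
    apply hw0
    apply key2 w _ hwfix
    rw [h1, smul_neg, hv₁]
  have hle : MulAction.stabilizer P (v₁ + w) ≤ MulAction.stabilizer P v₁ ⊓ MulAction.stabilizer P w := by
    intro g hg
    rw [MulAction.mem_stabilizer_iff, smul_add] at hg
    obtain ⟨j, hj⟩ := hconj' g
    have hgv : (e' * z ^ j.val) • (g • v₁) = g • v₁ := by
      rw [← hj, ← mul_smul, inv_mul_cancel_right, mul_smul, hv₁]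
    have hgw : (e' * z ^ (j + 1).val) • (g • w) = g • w := by
      have h12 : e' * z ^ (j + 1).val = g * (e' * z) * g⁻¹ := by
        have h13 : g * (e' * z) * g⁻¹ = (g * e' * g⁻¹) * (g * z * g⁻¹) := by group
        have h14 : g * z * g⁻¹ = z := by rw [(hcomm g).eq, mul_inv_cancel_right]
        haveI : Fact (1 < p) := ⟨hpp.one_lt⟩
        rw [h13, h14, hj, pow_val_add p hzp, ZMod.val_one p, pow_one]
        exact (mul_assoc _ _ _).symm
      rw [h12, ← mul_smul, inv_mul_cancel_right, mul_smul, hwfix]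
    by_cases hj0 : j = 0
    · subst hj0
      rw [zero_add] at hgw
      -- apply the trace of a_0
      have h15 := congrArg (T p (e' * z ^ (0 : ZMod p).val)) hg
      rw [T_add, T_add, T_fix p hgv, T_fix p hv₁0, T_other p he'z hzp hTz h01 hgw,
        T_other p he'z hzp hTz h01 hw1, add_zero, add_zero] at h15
      have h16 : g • v₁ = v₁ := by
        have : p • (g • v₁ - v₁) = 0 := by rw [smul_sub, h15, sub_self]
        exact sub_eq_zero.mp (hcop _ this)
      rw [Subgroup.mem_inf, MulAction.mem_stabilizer_iff, MulAction.mem_stabilizer_iff]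
      refine ⟨h16, ?_⟩
      rw [h16] at hg
      exact add_left_cancel hg
    · exfalso
      by_cases hj1 : j + 1 = 0
      · -- apply the trace of a_1
        have hjne : j ≠ 1 := by
          intro h1
          rw [h1] at hj1
          have h2 : (2 : ZMod p) = 0 := by rw [← hj1]; norm_num
          have h3 : ((2 : ℕ) : ZMod p) = 0 := by exact_mod_cast h2
          rw [ZMod.natCast_eq_zero_iff] at h3
          exact hp2 ((Nat.prime_dvd_prime_iff_eq hpp Nat.prime_two).mp h3)
        have h15 := congrArg (T p (e' * z ^ (1 : ZMod p).val)) hg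
        rw [hj1] at hgw
        rw [T_add, T_add, T_other p he'z hzp hTz (Ne.symm hjne) hgv,
          T_other p he'z hzp hTz (Ne.symm h01) hgw, T_other p he'z hzp hTz (Ne.symm h01) hv₁0,
          T_fix p hw1, add_zero, zero_add] at h15
        exact hw0 (hcop w h15.symm)
      · have h15 := congrArg (T p (e' * z ^ (0 : ZMod p).val)) hg
        rw [T_add, T_add, T_other p he'z hzp hTz (Ne.symm hj0) hgv,
          T_other p he'z hzp hTz (Ne.symm hj1) hgw, T_fix p hv₁0,
          T_other p he'z hzp hTz h01 hw1, add_zero, add_zero] at h15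
        exact hk (hcop v₁ h15.symm)
  have heq : MulAction.stabilizer P (v₁ + w) = MulAction.stabilizer P v₁ := by
    apply Subgroup.eq_of_le_of_card_ge (hle.trans inf_le_left)
    rw [hconst v₁ (v₁ + w) hk hvw]
  have he'v : e' ∈ MulAction.stabilizer P v₁ := hv₁
  rw [← heq] at he'v
  exact hw0 (key2 w (hle he'v).2 hwfix)


end main

end Cfsg.Agent.S1160

namespace Cfsg.Agent.S1160

/-- Let `p ≠ 2` be prime and `P` a finite `p`-group acting faithfully by additive automorphisms on a finite elementary abelian `q`-group `E` (`q` prime), such that `|P_a|` is the same for all `a ≠ 0`. Then `P` is cyclic and every non-identity element of `P` fixes only `0`. -/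
theorem result {P E : Type*} [Group P] [Finite P]
    [AddCommGroup E] [Finite E] [DistribMulAction P E] [FaithfulSMul P E]
    {p q : ℕ} [Fact p.Prime] (hp2 : p ≠ 2) (hP : IsPGroup p P) (hq : q.Prime) (hE : ∀ e : E, q • e = 0)
    (hconst : ∀ a b : E, a ≠ 0 → b ≠ 0 →
      Nat.card (MulAction.stabilizer P a) = Nat.card (MulAction.stabilizer P b)) :
    IsCyclic P ∧ ∀ g : P, g ≠ 1 → ∀ a : E, g • a = a → a = 0 := by
  have hpp : p.Prime := Fact.out
  haveI : NeZero p := ⟨hpp.ne_zero⟩
  by_cases hpq : p = q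
  · -- then P is trivial
    subst hpq
    have htriv : ∀ g : P, g = 1 := by
      intro g
      apply FaithfulSMul.eq_of_smul_eq_smul (α := E)
      intro b
      rw [one_smul]
      by_cases hex : ∃ e : E, e ≠ 0
      · obtain ⟨e, he⟩ := hex
        have hdvd : p ∣ Nat.card E := by
          have h1 : addOrderOf e ∣ p := addOrderOf_dvd_of_nsmul_eq_zero (hE e)
          have h2 : addOrderOf e = p := by
            rcases (Nat.dvd_prime hpp).mp h1 with h | h
            · exact absurd (AddMonoid.addOrderOf_eq_one_iff.mp h) he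
            · exact h
          rw [← h2]
          exact addOrderOf_dvd_natCard e
        have h0 : (0 : E) ∈ MulAction.fixedPoints P E := fun g => smul_zero g
        obtain ⟨a, ha, ha0⟩ := hP.exists_fixed_point_of_prime_dvd_card_of_fixed_point E hdvd h0
        have hstab : MulAction.stabilizer P a = ⊤ := by
          rw [eq_top_iff]
          intro g _
          exact ha g
        by_cases hb : b = 0
        · rw [hb, smul_zero]
        · have h3 := hconst b a hb (Ne.symm ha0)
          rw [hstab, Subgroup.card_top] at h3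
          have h4 : MulAction.stabilizer P b = ⊤ := Subgroup.eq_top_of_card_eq _ h3
          have : g ∈ MulAction.stabilizer P b := h4 ▸ Subgroup.mem_top g
          exact this
      · push Not at hex
        rw [hex b, smul_zero]
    haveI : Subsingleton P := ⟨fun a b => by rw [htriv a, htriv b]⟩
    exact ⟨inferInstance, fun g hg => absurd (htriv g) hg⟩
  have hcop : ∀ x : E, p • x = 0 → x = 0 := by
    intro x hx
    have h1 : addOrderOf x ∣ p := addOrderOf_dvd_of_nsmul_eq_zero hx
    have h2 : addOrderOf x ∣ q := addOrderOf_dvd_of_nsmul_eq_zero (hE x)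
    have h3 : addOrderOf x ∣ Nat.gcd p q := Nat.dvd_gcd h1 h2
    rw [(Nat.coprime_primes hpp hq).mpr hpq] at h3
    exact AddMonoid.addOrderOf_eq_one_iff.mp (Nat.dvd_one.mp h3)
  have hA' := claimA' (P := P) (E := E) p hcop hconst
  -- general central elements
  have hA : ∀ z : P, z ∈ Subgroup.center P → z ≠ 1 → ∀ a : E, z • a = a → a = 0 := by
    intro z hzc hz1 a ha
    obtain ⟨k, hk⟩ := (hP.to_subgroup (Subgroup.zpowers z)).exists_card_eq
    rw [Nat.card_zpowers] at hk
    have hk0 : k ≠ 0 := by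
      intro h0
      rw [h0, pow_zero, orderOf_eq_one_iff] at hk
      exact hz1 hk
    obtain ⟨k', rfl⟩ := Nat.exists_eq_succ_of_ne_zero hk0
    have hz' : (z ^ p ^ k') ^ p = 1 := by
      rw [← pow_mul, ← pow_succ, ← hk, pow_orderOf_eq_one]
    have hz'1 : z ^ p ^ k' ≠ 1 := by
      intro h
      have h1 := orderOf_dvd_of_pow_eq_one h
      rw [hk] at h1
      have h2 := Nat.le_of_dvd (pow_pos hpp.pos _) h1
      have h3 : p ^ k' < p ^ (k' + 1) := Nat.pow_lt_pow_right hpp.one_lt (Nat.lt_succ_self _)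
      exact absurd h2 (not_le.mpr h3)
    have hfix : (z ^ p ^ k') • a = a := by
      have h1 : ∀ n : ℕ, z ^ n • a = a := by
        intro n
        induction n with
        | zero => simp
        | succ n ih => rw [pow_succ, mul_smul, ha, ih]
      exact h1 _
    exact hA' (z ^ p ^ k') (Subgroup.pow_mem _ hzc _) hz' hz'1 a hfix
  have hcyc : IsCyclic P :=
    claimB p hp2 hP hcop hconst (fun z hzc _ hz1 a ha => hA z hzc hz1 a ha)
  refine ⟨hcyc, fun g hg a ha => hA g ?_ hg a ha⟩
  rw [Subgroup.mem_center_iff]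
  intro y
  obtain ⟨c, hc⟩ := hcyc.exists_generator
  obtain ⟨m, rfl⟩ := Subgroup.mem_zpowers_iff.mp (hc g)
  obtain ⟨n, rfl⟩ := Subgroup.mem_zpowers_iff.mp (hc y)
  exact ((Commute.refl c).zpow_zpow n m).eq

end Cfsg.Agent.S1160
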