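import Mathlib
import Cfsg.Statements.S1165
import Cfsg.Agent.Lib.Helper6.RankOne

set_option autoImplicit false
open Cfsg

namespace Cfsg.Agent.S1165

open Cfsg.Agent.Helper6.RankOne MulAction

/-- In the rank-one set-up: every `x ∈ Q`, `x ≠ 1`, determines unique `g, f ∈ Q`, `h ∈ D` with `t x t = g h t f`. For these: (H1) the `f`-part of `x⁻¹` is `g⁻¹`; (H2) the `f`-part of `f` is `x`; (H3) for `a ∈ D` the `f`-part of `a⁻¹ x a` is `(t a t)⁻¹ f (t a t)`; (H4) the `h`-part of `a⁻¹ x a` is `(t a t)⁻¹ h a`, that of `x⁻¹` is `t h⁻¹ t`, and that of `f` is `h⁻¹`. -/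
theorem result {G Ω : Type*} [Group G] [Finite G] [MulAction G Ω] {a : Ω} {t : G} {Q : Subgroup G}
    (hS : Cfsg.IsRankOneSetup G Ω a t Q)
    (x g h f : G) (hx : x ∈ Q) (hx1 : x ≠ 1) (hg : g ∈ Q) (hh : h ∈ (MulAction.stabilizer G a ⊓ MulAction.stabilizer G (t • a))) (hf : f ∈ Q)
    (heq : t * x * t = g * h * t * f) :
    (∀ g₁ h₁ f₁ : G, g₁ ∈ Q → h₁ ∈ (MulAction.stabilizer G a ⊓ MulAction.stabilizer G (t • a)) → f₁ ∈ Q → t * x⁻¹ * t = g₁ * h₁ * t * f₁ →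
        f₁ = g⁻¹ ∧ h₁ = t * h⁻¹ * t) ∧
      (∀ g₂ h₂ f₂ : G, g₂ ∈ Q → h₂ ∈ (MulAction.stabilizer G a ⊓ MulAction.stabilizer G (t • a)) → f₂ ∈ Q → t * f * t = g₂ * h₂ * t * f₂ →
        f₂ = x ∧ h₂ = h⁻¹) ∧
      ∀ c ∈ (MulAction.stabilizer G a ⊓ MulAction.stabilizer G (t • a)), ∀ g₃ h₃ f₃ : G, g₃ ∈ Q → h₃ ∈ (MulAction.stabilizer G a ⊓ MulAction.stabilizer G (t • a)) → f₃ ∈ Q →
        t * (c⁻¹ * x * c) * t = g₃ * h₃ * t * f₃ →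
          f₃ = (t * c * t)⁻¹ * f * (t * c * t) ∧ h₃ = (t * c * t)⁻¹ * h * c := by
  have hti : t⁻¹ = t := t_inv hS
  have htt : t * t = 1 := hS.mul_self
  have hDinv : ∀ d ∈ (stabilizer G a ⊓ stabilizer G (t • a)), d⁻¹ ∈ (stabilizer G a ⊓ stabilizer G (t • a)) :=
    fun d hd => Subgroup.inv_mem _ hd
  have hQconj : ∀ d ∈ (stabilizer G a ⊓ stabilizer G (t • a)), ∀ q ∈ Q, d * q * d⁻¹ ∈ Q :=
    fun d hd q hq => hS.conj_mem d hd.1 q hq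
  refine ⟨?_, ?_, ?_⟩
  · intro g₁ h₁ f₁ hg₁ hh₁ hf₁ e
    -- t x⁻¹ t = (t x t)⁻¹ = f⁻¹ (t h⁻¹ t) t g⁻¹
    have e1 : t * x⁻¹ * t = f⁻¹ * (t * h⁻¹ * t) * t * g⁻¹ := by
      calc t * x⁻¹ * t = (t⁻¹ * x * t⁻¹)⁻¹ := by group
        _ = (t * x * t)⁻¹ := by rw [hti]
        _ = (g * h * t * f)⁻¹ := by rw [heq]
        _ = f⁻¹ * t⁻¹ * h⁻¹ * g⁻¹ := by group
        _ = f⁻¹ * t * h⁻¹ * g⁻¹ := by rw [hti]
        _ = f⁻¹ * (t * h⁻¹ * (t * t)) * g⁻¹ := by rw [htt]; group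
        _ = f⁻¹ * (t * h⁻¹ * t) * t * g⁻¹ := by group
    rw [e1] at e
    obtain ⟨-, e3, e4⟩ := ghtf_unique hS (Q.inv_mem hf) hg₁ (t_conj_D hS _ (hDinv h hh)) hh₁ (Q.inv_mem hg) hf₁ e
    exact ⟨e4.symm, e3.symm⟩
  · intro g₂ h₂ f₂ hg₂ hh₂ hf₂ e
    -- t f t = h⁻¹ g⁻¹ t x = (h⁻¹ g⁻¹ h) h⁻¹ t x
    have e1 : t * f * t = (h⁻¹ * g⁻¹ * h⁻¹⁻¹) * h⁻¹ * t * x := by
      have hf' : f = t⁻¹ * h⁻¹ * g⁻¹ * (t * x * t) := by rw [heq]; group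
      calc t * f * t = t * (t⁻¹ * h⁻¹ * g⁻¹ * (t * x * t)) * t := by rw [← hf']
        _ = h⁻¹ * g⁻¹ * t * x * (t * t) := by group
        _ = h⁻¹ * g⁻¹ * t * x := by rw [htt, mul_one]
        _ = (h⁻¹ * g⁻¹ * h⁻¹⁻¹) * h⁻¹ * t * x := by group
    rw [e1] at e
    obtain ⟨-, e3, e4⟩ := ghtf_unique hS (hQconj _ (hDinv h hh) _ (Q.inv_mem hg)) hg₂ (hDinv h hh) hh₂ hx hf₂ e
    exact ⟨e4.symm, e3.symm⟩
  · intro c hc g₃ h₃ f₃ hg₃ hh₃ hf₃ e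
    set c' := t * c * t with hc'
    have hc'D : c' ∈ (stabilizer G a ⊓ stabilizer G (t • a)) := t_conj_D hS c hc
    have htc' : t * c' = c * t := by
      rw [hc']
      calc t * (t * c * t) = (t * t) * c * t := by group
        _ = c * t := by rw [htt, one_mul]
    have e1 : t * (c⁻¹ * x * c) * t = (c'⁻¹ * g * c'⁻¹⁻¹) * (c'⁻¹ * h * c) * t * (c'⁻¹ * f * c'⁻¹⁻¹) := by
      have hc'inv : c'⁻¹ = t * c⁻¹ * t := by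
        rw [hc']
        calc (t * c * t)⁻¹ = t⁻¹ * c⁻¹ * t⁻¹ := by group
          _ = t * c⁻¹ * t := by rw [hti]
      calc t * (c⁻¹ * x * c) * t = (t * c⁻¹ * t) * (t⁻¹ * x * t⁻¹) * (t * c * t) := by group
        _ = c'⁻¹ * (t * x * t) * c' := by rw [hti, ← hc'inv]
        _ = c'⁻¹ * (g * h * t * f) * c' := by rw [heq]
        _ = c'⁻¹ * g * h * (t * c') * (c'⁻¹ * f * c') := by group
        _ = c'⁻¹ * g * h * (c * t) * (c'⁻¹ * f * c') := by rw [htc']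
        _ = (c'⁻¹ * g * c'⁻¹⁻¹) * (c'⁻¹ * h * c) * t * (c'⁻¹ * f * c'⁻¹⁻¹) := by group
    rw [e1] at e
    have hD1 : c'⁻¹ * h * c ∈ (stabilizer G a ⊓ stabilizer G (t • a)) :=
      Subgroup.mul_mem _ (Subgroup.mul_mem _ (hDinv c' hc'D) hh) hc
    obtain ⟨-, e3, e4⟩ := ghtf_unique hS (hQconj _ (hDinv c' hc'D) _ hg) hg₃ hD1 hh₃
      (hQconj _ (hDinv c' hc'D) _ hf) hf₃ e
    refine ⟨?_, e3.symm⟩
    rw [← e4, inv_inv]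

end Cfsg.Agent.S1165
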