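import Mathlib
import Cfsg.Statements.S1166
import Cfsg.Agent.Lib.Helper6.RankOne

set_option autoImplicit false
open Cfsg

namespace Cfsg.Agent.S1166

open Cfsg.Agent.Helper6.RankOne MulAction

/-- (H6) in the rank-one set-up. -/
theorem result {G Ω : Type*} [Group G] [Finite G] [MulAction G Ω] {a : Ω} {t : G} {Q : Subgroup G}
    (hS : Cfsg.IsRankOneSetup G Ω a t Q)
    (x y gx hx fx gy hy fy : G) (hxQ : x ∈ Q) (hx1 : x ≠ 1) (hyQ : y ∈ Q) (hy1 : y ≠ 1) (hxy : x * y ≠ 1)
    (hgx : gx ∈ Q) (hhx : hx ∈ (MulAction.stabilizer G a ⊓ MulAction.stabilizer G (t • a))) (hfx : fx ∈ Q) (ex : t * x * t = gx * hx * t * fx)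
    (hgy : gy ∈ Q) (hhy : hy ∈ (MulAction.stabilizer G a ⊓ MulAction.stabilizer G (t • a))) (hfy : fy ∈ Q) (ey : t * y * t = gy * hy * t * fy) :
    fx * gy ≠ 1 ∧
      ∀ gz hz fz g' h' f' : G, gz ∈ Q → hz ∈ (MulAction.stabilizer G a ⊓ MulAction.stabilizer G (t • a)) → fz ∈ Q → t * (fx * gy) * t = gz * hz * t * fz →
        g' ∈ Q → h' ∈ (MulAction.stabilizer G a ⊓ MulAction.stabilizer G (t • a)) → f' ∈ Q → t * (x * y) * t = g' * h' * t * f' →
          f' = (t * hy * t)⁻¹ * fz * (t * hy * t) * fy ∧ h' = hx * hz * hy := by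
  have hti : t⁻¹ = t := t_inv hS
  have htt : t * t = 1 := hS.mul_self
  have hQconj : ∀ d ∈ (stabilizer G a ⊓ stabilizer G (t • a)), ∀ q ∈ Q, d * q * d⁻¹ ∈ Q :=
    fun d hd q hq => hS.conj_mem d hd.1 q hq
  have hprod : t * (x * y) * t = gx * hx * t * (fx * gy) * hy * t * fy := by
    calc t * (x * y) * t = (t * x * t) * (t⁻¹ * y * t) := by group
      _ = (t * x * t) * (t * y * t) := by rw [hti]
      _ = (gx * hx * t * fx) * (gy * hy * t * fy) := by rw [ex, ey]
      _ = gx * hx * t * (fx * gy) * hy * t * fy := by group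
  constructor
  · intro hz1
    -- then t (x y) t ∈ G_a, so x y ∈ Q ⊓ G_{t a} = 1
    rw [hz1, mul_one] at hprod
    have hmem : t * (x * y) * t ∈ stabilizer G a := by
      rw [hprod]
      have h1 : t * hy * t ∈ stabilizer G a := (t_conj_D hS hy hhy).1
      have : gx * hx * t * hy * t * fy = gx * hx * (t * hy * t) * fy := by group
      rw [this]
      exact Subgroup.mul_mem _ (Subgroup.mul_mem _ (Subgroup.mul_mem _ (hS.le hgx) hhx.1) h1) (hS.le hfy)
    have h2 : x * y ∈ Q ⊓ stabilizer G (t • a) := by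
      refine Subgroup.mem_inf.mpr ⟨Q.mul_mem hxQ hyQ, ?_⟩
      rw [mem_stabilizer_iff]
      have := mem_stabilizer_iff.mp hmem
      rw [mul_smul, mul_smul] at this
      have h3 : t • t • (x * y) • t • a = t • a := by rw [this]
      rwa [← mul_smul t t, htt, one_smul] at h3
    rw [hS.inf_eq_bot, Subgroup.mem_bot] at h2
    exact hxy h2
  · intro gz hz fz g' h' f' hgz hhz hfz ez hg' hh' hf' e'
    set d := t * hy * t with hd
    have hdD : d ∈ (stabilizer G a ⊓ stabilizer G (t • a)) := t_conj_D hS hy hhy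
    have htd : t * d = hy * t := by
      rw [hd]
      calc t * (t * hy * t) = (t * t) * hy * t := by group
        _ = hy * t := by rw [htt, one_mul]
    have e1 : t * (x * y) * t = (gx * (hx * gz * hx⁻¹)) * (hx * hz * hy) * t * (d⁻¹ * fz * d⁻¹⁻¹ * fy) := by
      have hz' : t * (fx * gy) = gz * hz * t * fz * t := by
        calc t * (fx * gy) = (t * (fx * gy) * t) * t⁻¹ := by group
          _ = (gz * hz * t * fz) * t⁻¹ := by rw [ez]
          _ = gz * hz * t * fz * t := by rw [hti]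
      calc t * (x * y) * t = gx * hx * (t * (fx * gy)) * hy * t * fy := by rw [hprod]; group
        _ = gx * hx * (gz * hz * t * fz * t) * hy * t * fy := by rw [hz']
        _ = gx * hx * gz * hz * t * fz * (t * hy * t) * fy := by group
        _ = gx * hx * gz * hz * (t * d) * (d⁻¹ * fz * d) * fy := by rw [← hd]; group
        _ = gx * hx * gz * hz * (hy * t) * (d⁻¹ * fz * d) * fy := by rw [htd]
        _ = (gx * (hx * gz * hx⁻¹)) * (hx * hz * hy) * t * (d⁻¹ * fz * d⁻¹⁻¹ * fy) := by group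
    rw [e1] at e'
    have hD1 : hx * hz * hy ∈ (stabilizer G a ⊓ stabilizer G (t • a)) :=
      Subgroup.mul_mem _ (Subgroup.mul_mem _ hhx hhz) hhy
    have hQ1 : gx * (hx * gz * hx⁻¹) ∈ Q := Q.mul_mem hgx (hQconj hx hhx gz hgz)
    have hQ2 : d⁻¹ * fz * d⁻¹⁻¹ * fy ∈ Q := Q.mul_mem (hQconj d⁻¹ (Subgroup.inv_mem _ hdD) fz hfz) hfy
    obtain ⟨-, e3, e4⟩ := ghtf_unique hS hQ1 hg' hD1 hh' hQ2 hf' e'
    refine ⟨?_, e3.symm⟩
    rw [← e4, inv_inv]

end Cfsg.Agent.S1166
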