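import Mathlib
import Cfsg.Statements.S1167
import Cfsg.Agent.Lib.Helper5.ZassKernel
import Cfsg.Agent.S0885
import Cfsg.Agent.S0738
import Cfsg.Agent.S0741
import Cfsg.Agent.S0740

set_option autoImplicit false
open Cfsg

namespace Cfsg.Agent.S1167

/-- Let `G` be a finite simple Zassenhaus group on `Ω`, `U` a normal subgroup of `G_a` regular on `Ω` minus `a` which is an abelian 2-group, and `v` an involution with `v • a ≠ a`. Then there is a unique `u₀ ∈ U`, `u₀ ≠ 1`, with `v u₀ v = u₀ v u₀`. -/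
theorem result {G Ω : Type*} [Group G] [Finite G] [MulAction G Ω] [Finite Ω]
    (hZ : Cfsg.IsZassenhausGroup G Ω) [IsSimpleGroup G] {a : Ω}
    (U : Subgroup G) (hUle : U ≤ MulAction.stabilizer G a)
    (hUn : ∀ h ∈ MulAction.stabilizer G a, ∀ u ∈ U, h * u * h⁻¹ ∈ U)
    (hreg : ∀ c d : Ω, c ≠ a → d ≠ a → ∃! u : U, (u : G) • c = d)
    (hU2 : IsPGroup 2 U) (hUab : ∀ u ∈ U, ∀ u' ∈ U, u * u' = u' * u)
    (v : G) (hv1 : v ≠ 1) (hv2 : v * v = 1) (hva : v • a ≠ a) :
    ∃! u₀ : G, u₀ ∈ U ∧ u₀ ≠ 1 ∧ v * u₀ * v = u₀ * v * u₀ := by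
  classical
  haveI : Fintype Ω := Fintype.ofFinite Ω
  obtain ⟨b, hb⟩ : ∃ b : Ω, b = v • a := ⟨_, rfl⟩
  have hba : b ≠ a := hb ▸ hva
  have hab : a ≠ b := Ne.symm hba
  have hvb : v • b = a := by rw [hb, ← mul_smul, hv2, one_smul]
  have hva' : v • a = b := hb.symm
  -- the nonidentity elements of `U` fix only `a`
  have hHfix : ∀ u ∈ U, u ≠ 1 → ∀ c : Ω, u • c = c → c = a := by
    intro u hu hu1 c hc
    by_contra hca
    obtain ⟨w, -, hw⟩ := hreg c c hca hca
    have h1 := hw ⟨u, hu⟩ hc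
    have h2 := hw 1 (one_smul _ _)
    apply hu1
    have h3 : (⟨u, hu⟩ : U) = 1 := h1.trans h2.symm
    exact congrArg Subtype.val h3
  -- the order of `U`
  have hHcard : Nat.card U + 1 = Fintype.card Ω := by
    have hbij : Function.Bijective (fun u : U => (⟨(u : G) • b, by
        intro h
        have hua : (u : G) • a = a := MulAction.mem_stabilizer_iff.mp (hUle u.2)
        have h' : (u : G) • b = (u : G) • a := h.trans hua.symm
        exact hba (MulAction.injective (u : G) h')⟩ : {c : Ω // c ≠ a})) := by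
      constructor
      · intro u u' huu
        have h1 : (u : G) • b = (u' : G) • b := congrArg Subtype.val huu
        have hne : (u' : G) • b ≠ a := by
          intro h
          have hua : (u' : G) • a = a := MulAction.mem_stabilizer_iff.mp (hUle u'.2)
          have h' : (u' : G) • b = (u' : G) • a := h.trans hua.symm
          exact hba (MulAction.injective (u' : G) h')
        obtain ⟨w, -, hw⟩ := hreg b ((u' : G) • b) hba hne
        exact (hw u h1).trans (hw u' rfl).symm
      · rintro ⟨d, hd⟩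
        obtain ⟨w, hw, -⟩ := hreg b d hba hd
        exact ⟨w, Subtype.ext hw⟩
    have h1 := Nat.card_congr (Equiv.ofBijective _ hbij)
    rw [h1, Nat.card_eq_fintype_card, Fintype.card_subtype_compl, Fintype.card_subtype_eq]
    have hpos : 0 < Fintype.card Ω := Fintype.card_pos_iff.mpr ⟨a⟩
    omega
  have hnormal : (U.subgroupOf (MulAction.stabilizer G a)).Normal := by
    constructor
    intro n hn g
    rw [Subgroup.mem_subgroupOf] at hn ⊢
    simp only [Subgroup.coe_mul, Subgroup.coe_inv]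
    exact hUn g g.2 n hn
  have h3card := Cfsg.Agent.Helper5.ZassOdd.three_le_card hZ
  -- `U` is elementary abelian
  have hsmall : Fintype.card Ω - 2 ≤
      2 * Nat.card ↥(MulAction.stabilizer G a ⊓ MulAction.stabilizer G b : Subgroup G) := by
    rcases Nat.even_or_odd
      (Nat.card ↥(MulAction.stabilizer G a ⊓ MulAction.stabilizer G b : Subgroup G)) with
      heven | hodd
    · exact Cfsg.Agent.S0741.result hZ hab heven
    · rcases Cfsg.Agent.S0885.result hZ hab (Fintype.card Ω - 1) _ (by omega) rfl hodd U hUle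
        hHcard hHfix with h | ⟨-, ⟨u, u', huu⟩, -⟩
      · omega
      · exfalso
        apply huu
        exact Subtype.ext (hUab u u.2 u' u'.2)
  obtain ⟨-, p, f, hp, hexp, hcardΩ⟩ := Cfsg.Agent.S0738.result hZ hab hsmall U hUle hnormal
    (fun y z hy hz => hreg y z hy hz)
  have hsq : ∀ u ∈ U, u * u = 1 := by
    -- `p = 2`
    have hcardU : 2 ≤ Nat.card U := by omega
    obtain ⟨w, hw⟩ : ∃ w : U, w ≠ 1 := by
      haveI : Nontrivial U := Finite.one_lt_card_iff_nontrivial.mp (by omega)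
      exact exists_ne 1
    have hwp : (w : G) ^ p = 1 := hexp w w.2
    obtain ⟨k, hk⟩ := hU2 w
    have hw1 : (w : G) ≠ 1 := fun h => hw (Subtype.ext h)
    have ho1 : orderOf (w : G) ∣ p := orderOf_dvd_of_pow_eq_one hwp
    have ho2 : orderOf (w : G) ∣ 2 ^ k := by
      apply orderOf_dvd_of_pow_eq_one
      have := congrArg Subtype.val hk
      simpa using this
    have ho3 : orderOf (w : G) ≠ 1 := fun h => hw1 (orderOf_eq_one_iff.mp h)
    have ho4 : orderOf (w : G) = p := (Nat.dvd_prime hp).mp ho1 |>.resolve_left ho3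
    rw [ho4] at ho2
    have hp2 : p = 2 := (Nat.prime_dvd_prime_iff_eq hp Nat.prime_two).mp
      (hp.dvd_of_dvd_pow ho2)
    intro u hu
    have := hexp u hu
    rw [hp2, pow_two] at this
    exact this
  -- the fixed point of `v`
  have hvord : orderOf v = 2 := Cfsg.Agent.Helper5.ZassOdd.orderOf_eq_two hv2 hv1
  have hoddΩ : Odd (Fintype.card Ω) := by
    obtain ⟨k, hk⟩ := IsPGroup.iff_card.mp hU2
    have hk0 : k ≠ 0 := by
      intro h
      rw [h, pow_zero] at hk
      omega
    rw [← hHcard, hk]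
    exact Even.add_one (Nat.even_pow.mpr ⟨even_two, hk0⟩)
  have hfix1 := ((Cfsg.Agent.S0740.result hZ hab).2.1 v hvord hva' hvb).1 hoddΩ
  obtain ⟨⟨c, hc⟩, hcuniq⟩ := Nat.card_eq_one_iff_exists.mp hfix1
  rw [MulAction.mem_fixedBy] at hc
  have hcuniq' : ∀ d : Ω, v • d = d → d = c := by
    intro d hd
    exact congrArg Subtype.val (hcuniq ⟨d, MulAction.mem_fixedBy.mpr hd⟩)
  have hca : c ≠ a := fun h => hva (h ▸ hc)
  have hcb : c ≠ b := by
    intro h
    rw [h, hvb] at hc
    exact hab hc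
  -- the element `u₀`
  obtain ⟨u₀, hu₀, hu₀uniq⟩ := hreg b c hba hca
  have hu₀b : (u₀ : G) • b = c := hu₀
  have hu₀a : (u₀ : G) • a = a := MulAction.mem_stabilizer_iff.mp (hUle u₀.2)
  have hu₀c : (u₀ : G) • c = b := by
    rw [← hu₀b, ← mul_smul, hsq u₀ u₀.2, one_smul]
  have hu₀1 : (u₀ : G) ≠ 1 := by
    intro h
    rw [h, one_smul] at hu₀b
    exact hcb hu₀b.symm
  refine ⟨(u₀ : G), ⟨u₀.2, hu₀1, ?_⟩, ?_⟩
  · -- both sides agree on three points
    have hg : (v * (u₀ : G) * v)⁻¹ * ((u₀ : G) * v * (u₀ : G)) = 1 := by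
      apply hZ.2.2.1 _ a b c hab (Ne.symm hcb) (Ne.symm hca)
      · rw [mul_smul, inv_smul_eq_iff]
        simp only [mul_smul]
        rw [hu₀a, hva', hu₀b, hc]
      · rw [mul_smul, inv_smul_eq_iff]
        simp only [mul_smul]
        rw [hu₀b, hc, hu₀c, hvb, hu₀a, hva']
      · rw [mul_smul, inv_smul_eq_iff]
        simp only [mul_smul]
        rw [hu₀c, hvb, hu₀a, hc, hu₀c, hvb]
    exact (inv_mul_eq_one.mp hg)
  · rintro u ⟨hu, hu1, hueq⟩
    have hua : u • a = a := MulAction.mem_stabilizer_iff.mp (hUle hu)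
    have h1 : v • (u • b) = u • b := by
      have h2 := congrArg (fun g : G => g • a) hueq
      simp only [mul_smul] at h2
      rw [hva', hua, hva'] at h2
      exact h2
    have h2 : u • b = c := hcuniq' _ h1
    have h3 := hu₀uniq ⟨u, hu⟩ h2
    exact congrArg Subtype.val h3
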