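import Mathlib
import Cfsg.Statements.S1168
import Cfsg.Agent.S1140

set_option autoImplicit false
open Cfsg

namespace Cfsg.Agent.S1168

open Cfsg.Agent.S1140

variable {F : Type*} [Field F]

/-- splitting a symmetric double sum with zero diagonal along a linear order -/
theorem sum_split {S : Type*} [Fintype S] [LinearOrder S] (g : S × S → F) (hsymm : ∀ i j, g (i, j) = g (j, i))
    (hdiag : ∀ i, g (i, i) = 0) (u v : S → F) :
    ∑ p : S × S, g p * (u p.1 * v p.2) =
      ∑ p : S × S, (if p.1 < p.2 then g p else 0) * (u p.1 * v p.2 + v p.1 * u p.2) := by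
  have h1 : ∑ p : S × S, (if p.1 < p.2 then g p else 0) * (v p.1 * u p.2)
      = ∑ p : S × S, (if p.2 < p.1 then g p else 0) * (u p.1 * v p.2) := by
    apply Finset.sum_equiv (Equiv.prodComm S S)
    · intro p; simp
    · rintro ⟨i, j⟩ _
      simp only [Equiv.prodComm_apply, Prod.swap_prod_mk]
      rw [hsymm i j]
      by_cases h : i < j
      · simp only [h, if_true]; ring
      · simp only [h, if_false, zero_mul]
  simp only [mul_add, Finset.sum_add_distrib]
  rw [h1, ← Finset.sum_add_distrib]
  apply Finset.sum_congr rfl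
  rintro ⟨i, j⟩ _
  rcases lt_trichotomy i j with h | h | h
  · simp [h, not_lt.mpr h.le]
  · subst h; simp [hdiag]
  · simp [h, not_lt.mpr h.le]

theorem eq_of_add_eq_zero [CharP F 2] {a b : F} (h : a + b = 0) : a = b := by
  calc a = a + (b + b) := by rw [CharTwo.add_self_eq_zero, add_zero]
    _ = (a + b) + b := by ring
    _ = b := by rw [h, zero_add]

section
variable [Fintype F] [CharP F 2] [Fintype (F ≃+* F)]

theorem coeff2_zero (e : (F ≃+* F) × (F ≃+* F) → F)
    (h : ∀ x y : F, ∑ p, e p * (p.1 x * p.2 y) = 0) : ∀ p, e p = 0 := by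
  have h1 : ∀ (x : F) (τ : F ≃+* F), ∑ σ, e (σ, τ) * σ x = 0 := by
    intro x
    have hP : Psi (fun τ => ∑ σ, e (σ, τ) * σ x) = Psi (fun _ => 0) := by
      ext y
      rw [Psi_apply, Psi_apply]
      simp only [zero_mul, Finset.sum_const_zero]
      rw [← h x y, ← Finset.univ_product_univ, Finset.sum_product_right]
      apply Finset.sum_congr rfl
      intro τ _
      rw [Finset.sum_mul]
      apply Finset.sum_congr rfl
      intro σ _
      ring
    have := Psi_injective hP
    intro τ
    exact congrFun this τ
  rintro ⟨σ, τ⟩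
  have hP : Psi (fun σ => e (σ, τ)) = Psi (fun _ => 0) := by
    ext x
    rw [Psi_apply, Psi_apply]
    simp only [zero_mul, Finset.sum_const_zero]
    exact h1 x τ
  exact congrFun (Psi_injective hP) σ

/-- post-composition with Frobenius as a permutation of the automorphisms -/
noncomputable def Phi : (F ≃+* F) ≃ (F ≃+* F) where
  toFun ρ := ρ.trans (frobeniusEquiv F 2)
  invFun ρ := ρ.trans (frobeniusEquiv F 2).symm
  left_inv ρ := by
    ext x
    simp
  right_inv ρ := by
    ext x
    simp

theorem Phi_apply (ρ : F ≃+* F) (x : F) : (Phi ρ) x = ρ x * ρ x := by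
  show frobeniusEquiv F 2 (ρ x) = ρ x * ρ x
  rw [frobeniusEquiv_def, pow_two]

theorem diag_zero (f : (F ≃+* F) → F) (h : ∀ x : F, ∑ σ, f σ * (σ x * σ x) = 0) : ∀ σ, f σ = 0 := by
  have hP : Psi (fun ρ => f (Phi.symm ρ)) = Psi (fun _ => 0) := by
    ext x
    rw [Psi_apply, Psi_apply]
    simp only [zero_mul, Finset.sum_const_zero]
    rw [← h x]
    rw [← Equiv.sum_comp (Phi (F := F))]
    apply Finset.sum_congr rfl
    intro σ _
    rw [Equiv.symm_apply_apply, Phi_apply]
  intro σ
  have := congrFun (Psi_injective hP) (Phi σ)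
  simpa using this

end

/-- For a finite field `F` of characteristic 2: if `q : F → F` is quadratic over the prime field, i.e. `(x, y) ↦ q (x + y) + q x + q y` is additive in each variable, then `q x = Σ c_{σ,τ} σ(x) τ(x)` for some coefficients indexed by pairs of field automorphisms. -/
theorem result {F : Type*} [Field F] [Fintype F] [CharP F 2]
    (q : F → F)
    (hq : ∀ x y z : F, q (x + y + z) + q (x + y) + q (x + z) + q (y + z) + q x + q y + q z = 0) :
    ∃ (s : Finset ((F ≃+* F) × (F ≃+* F))) (c : (F ≃+* F) × (F ≃+* F) → F),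
      ∀ x : F, q x = ∑ p ∈ s, c p * (p.1 x * p.2 x) := by
  have hfin : Finite (F ≃+* F) := finiteA
  let inst : Fintype (F ≃+* F) := Fintype.ofFinite _
  let ord : LinearOrder (F ≃+* F) := LinearOrder.lift' (Fintype.equivFin (F ≃+* F)) (Equiv.injective _)
  have add_self : ∀ a : F, a + a = 0 := CharTwo.add_self_eq_zero
  have q0 : q 0 = 0 := by
    have := hq 0 0 0
    simp only [add_zero] at this
    have h2 := add_self (q 0)
    linear_combination this - 3 * h2
  -- the polarization
  have hPl : ∀ x x' y : F, q (x + x' + y) + q (x + x') + q y = (q (x + y) + q x + q y) + (q (x' + y) + q x' + q y) := by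
    intro x x' y
    apply eq_of_add_eq_zero
    have h1 := hq x x' y
    have h2 := add_self (q y)
    linear_combination h1 + h2
  have hPr : ∀ x y y' : F, q (x + (y + y')) + q x + q (y + y') = (q (x + y) + q x + q y) + (q (x + y') + q x + q y') := by
    intro x y y'
    have := hPl y y' x
    have e1 : y + y' + x = x + (y + y') := by ring
    have e2 : y + x = x + y := by ring
    have e3 : y' + x = x + y' := by ring
    rw [e1, e2, e3] at this
    linear_combination this
  let B : F →+ F →+ F := AddMonoidHom.mk' (fun x => AddMonoidHom.mk' (fun y => q (x + y) + q x + q y)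
    (fun y y' => hPr x y y')) (fun x x' => by
      ext y
      exact hPl x x' y)
  have hB : ∀ x y, B x y = q (x + y) + q x + q y := fun x y => rfl
  have hBsymm : ∀ x y, B x y = B y x := by
    intro x y
    rw [hB, hB, add_comm x y]; ring
  have hBdiag : ∀ x, B x x = 0 := by
    intro x
    rw [hB, add_self x, q0, zero_add, add_self]
  obtain ⟨e, he⟩ := exists_coeff2 B
  -- e is symmetric
  have hesymm : ∀ σ τ, e (σ, τ) = e (τ, σ) := by
    intro σ τ
    have := coeff2_zero (fun p => e p - e p.swap) (by
      intro x y
      simp only [sub_mul, Finset.sum_sub_distrib]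
      rw [← he x y, sub_eq_zero, hBsymm x y, he y x]
      apply Finset.sum_equiv (Equiv.prodComm _ _)
      · intro p; simp
      · rintro ⟨σ, τ⟩ _
        simp only [Equiv.prodComm_apply, Prod.swap_prod_mk]
        ring) (σ, τ)
    exact sub_eq_zero.mp this
  -- the diagonal of e vanishes
  have hediag : ∀ σ, e (σ, σ) = 0 := by
    apply diag_zero
    intro x
    let g : (F ≃+* F) × (F ≃+* F) → F := fun p => if p.1 = p.2 then 0 else e p
    have hg : ∑ p, g p * (p.1 x * p.2 x) = 0 := by
      rw [sum_split g (fun i j => by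
        simp only [g]
        by_cases h : i = j
        · simp [h]
        · have h' : ¬ j = i := fun h'' => h h''.symm
          simp only [h, h', if_false]; exact hesymm i j) (fun i => by simp [g]) (fun σ => σ x) (fun σ => σ x)]
      apply Finset.sum_eq_zero
      intro p _
      rw [add_self, mul_zero]
    have hsum : ∑ p, e p * (p.1 x * p.2 x) = 0 := by rw [← he x x]; exact hBdiag x
    have hsplit : ∑ p, e p * (p.1 x * p.2 x) = ∑ p, g p * (p.1 x * p.2 x) + ∑ σ, e (σ, σ) * (σ x * σ x) := by
      have : ∑ σ : F ≃+* F, e (σ, σ) * (σ x * σ x) = ∑ p : (F ≃+* F) × (F ≃+* F), (if p.1 = p.2 then e p else 0) * (p.1 x * p.2 x) := by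
        rw [← Finset.univ_product_univ, Finset.sum_product]
        apply Finset.sum_congr rfl
        intro σ _
        simp only [ite_mul, zero_mul]
        rw [Finset.sum_ite_eq]
        simp
      rw [this, ← Finset.sum_add_distrib]
      apply Finset.sum_congr rfl
      intro p _
      simp only [g]
      by_cases h : p.1 = p.2
      · simp [h]
      · simp [h]
    rw [hsplit, hg, zero_add] at hsum
    exact hsum
  -- the off-diagonal quadratic part
  let q'' : F → F := fun x => ∑ p : (F ≃+* F) × (F ≃+* F), (if p.1 < p.2 then e p else 0) * (p.1 x * p.2 x)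
  have hq'' : ∀ x y, q'' (x + y) = B x y + q'' x + q'' y := by
    intro x y
    rw [he x y, sum_split e hesymm hediag (fun σ => σ x) (fun σ => σ y)]
    simp only [q'']
    rw [← Finset.sum_add_distrib, ← Finset.sum_add_distrib]
    apply Finset.sum_congr rfl
    intro p _
    simp only [map_add]
    ring
  -- r = q + q'' is additive
  have hradd : ∀ x y, q (x + y) + q'' (x + y) = (q x + q'' x) + (q y + q'' y) := by
    intro x y
    rw [hq'' x y, hB x y]
    have h1 := add_self (q (x + y))
    linear_combination h1
  let r : F →+ F := AddMonoidHom.mk' (fun x => q x + q'' x) hradd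
  obtain ⟨d, hd⟩ := Psi_surjective r
  refine ⟨Finset.univ, fun p => (if p.1 = p.2 then d (Phi p.1) else 0) + (if p.1 < p.2 then e p else 0), fun x => ?_⟩
  have h1 : q x = r x + q'' x := by
    show q x = (q x + q'' x) + q'' x
    have := add_self (q'' x)
    linear_combination (-1 : F) * this
  have h2 : r x = ∑ p : (F ≃+* F) × (F ≃+* F), (if p.1 = p.2 then d (Phi p.1) else 0) * (p.1 x * p.2 x) := by
    rw [← hd, Psi_apply, ← Equiv.sum_comp (Phi (F := F))]
    rw [← Finset.univ_product_univ, Finset.sum_product]
    apply Finset.sum_congr rfl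
    intro ρ _
    simp only [ite_mul, zero_mul]
    rw [Finset.sum_ite_eq]
    simp [Phi_apply]
  rw [h1, h2]
  simp only [q'', add_mul, Finset.sum_add_distrib]

end Cfsg.Agent.S1168
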