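import Mathlib
import Cfsg.Statements.S1176
import Cfsg.Agent.Lib.Helper6.Dihedral

set_option autoImplicit false
open Cfsg

namespace Cfsg.Agent.S1176

open Cfsg.Agent.Helper6
open scoped commutatorElement

theorem mul_self_of_isConj {G : Type*} [Group G] (x₀ : G) (hx₀ : orderOf x₀ = 2) (x : G) (hx : IsConj x₀ x) :
    x * x = 1 := by
  obtain ⟨c, hc⟩ := isConj_iff.mp hx
  have h0 : x₀ * x₀ = 1 := by
    have := pow_orderOf_eq_one x₀
    rwa [hx₀, pow_two] at this
  rw [← hc]
  calc c * x₀ * c⁻¹ * (c * x₀ * c⁻¹) = c * (x₀ * x₀) * c⁻¹ := by group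
    _ = 1 := by rw [h0]; group

/-- Let x₀ be an involution of the finite group G and D its conjugacy class. Assume (a) for each x ∈ D the subgroup W(x) generated by the members of D commuting with x is a 2-group of nilpotency class at most 2, and (b) the product of two distinct commuting members of D again lies in D. Then for all x, y ∈ D, if xy has even order greater than 2, its order is 4. -/
theorem result {G : Type*} [Group G] [Finite G] (x₀ : G) (hx₀ : orderOf x₀ = 2) (ha : ∀ x : G, IsConj x₀ x → IsPGroup 2 ↥(Subgroup.closure {y : G | IsConj x₀ y ∧ Commute y x}) ∧ ⁅⁅Subgroup.closure {y : G | IsConj x₀ y ∧ Commute y x}, Subgroup.closure {y : G | IsConj x₀ y ∧ Commute y x}⁆, Subgroup.closure {y : G | IsConj x₀ y ∧ Commute y x}⁆ = ⊥) (hb : ∀ x y : G, IsConj x₀ x → IsConj x₀ y → x ≠ y → Commute x y → IsConj x₀ (x * y)) (x y : G) (hx : IsConj x₀ x) (hy : IsConj x₀ y) (heven : Even (orderOf (x * y))) (hgt : 2 < orderOf (x * y)) : orderOf (x * y) = 4 := by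
  have hxx : x * x = 1 := mul_self_of_isConj x₀ hx₀ x hx
  have hyy : y * y = 1 := mul_self_of_isConj x₀ hx₀ y hy
  have hxi : x⁻¹ = x := inv_eq_self_of_mul_self hxx
  have hyi : y⁻¹ = y := inv_eq_self_of_mul_self hyy
  obtain ⟨k, hk⟩ := heven
  set r := x * y with hr
  set c := r ^ k with hc
  have hc1 : c ≠ 1 := pow_ne_one_of_lt_orderOf (by omega) (by omega)
  have hcc : c * c = 1 := by rw [hc, ← pow_add, ← hk, pow_orderOf_eq_one]
  have hci : c⁻¹ = c := inv_eq_self_of_mul_self hcc
  have hxc : x * c = c * x := by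
    have := mul_pow_eq x y hxx hyy k
    rw [← hr, ← hc, hci] at this
    exact this
  have hrc : r * c = c * r := by
    rw [hc, ← pow_succ', ← pow_succ]
  have hyc : Commute y c := by
    -- y = x * r
    have hy' : y = x * r := by rw [hr, ← mul_assoc, hxx, one_mul]
    show y * c = c * y
    rw [hy', mul_assoc, hrc, ← mul_assoc, hxc, mul_assoc]
  -- x * c is a conjugate of x₀
  have hxcD : IsConj x₀ (x * c) := by
    obtain ⟨u, -, hu⟩ := dihedral_conj x y hxx hyy k
    rw [← hr, ← hc] at hu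
    rcases hu with hu | hu
    · rw [hu]
      exact hx.trans (isConj_iff.mpr ⟨u, rfl⟩)
    · rw [hu]
      exact hy.trans (isConj_iff.mpr ⟨u, rfl⟩)
  have hne : x ≠ x * c := by
    intro h
    apply hc1
    have : x * 1 = x * c := by rw [mul_one]; exact h
    exact (mul_left_cancel this).symm
  have hcomm : Commute x (x * c) := by
    show x * (x * c) = x * c * x
    rw [mul_assoc, hxc]
  have hcD : IsConj x₀ c := by
    have := hb x (x * c) hx hxcD hne hcomm
    rwa [← mul_assoc, hxx, one_mul] at this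
  obtain ⟨-, hcl⟩ := ha c hcD
  set W := Subgroup.closure {y : G | IsConj x₀ y ∧ Commute y c} with hW
  have hxW : x ∈ W := Subgroup.subset_closure ⟨hx, hxc⟩
  have hyW : y ∈ W := Subgroup.subset_closure ⟨hy, hyc⟩
  have h1 : ⁅⁅x, y⁆, y⁆ ∈ ⁅⁅W, W⁆, W⁆ :=
    Subgroup.commutator_mem_commutator (Subgroup.commutator_mem_commutator hxW hyW) hyW
  rw [hcl, Subgroup.mem_bot] at h1
  -- compute: ⁅⁅x, y⁆, y⁆ = r ^ 4
  have h2 : ⁅⁅x, y⁆, y⁆ = r ^ 4 := by
    rw [commutatorElement_def, commutatorElement_def, hxi, hyi]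
    have e1 : (x * y * x * y)⁻¹ = y * x * y * x := by
      rw [mul_inv_rev, mul_inv_rev, mul_inv_rev, hxi, hyi]; group
    rw [e1, hr]
    have : x * y * x * y * y * (y * x * y * x) * y = x * y * x * (y * y) * y * x * y * (x * y) := by group
    rw [this, hyy]
    simp only [pow_succ, pow_zero, one_mul, mul_one, mul_assoc]
  rw [h2] at h1
  have h3 : orderOf r ∣ 4 := orderOf_dvd_of_pow_eq_one h1
  have h4 : orderOf r ≤ 4 := Nat.le_of_dvd (by norm_num) h3
  have : orderOf r = 3 ∨ orderOf r = 4 := by omega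
  rcases this with h | h
  · rw [h] at h3; norm_num at h3
  · exact h

end Cfsg.Agent.S1176
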