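import Mathlib
import Cfsg.Statements.S1177

set_option autoImplicit false
open Cfsg

namespace Cfsg.Agent.S1177

variable {G : Type*} [Group G]

theorem mem_map_conj {A : Subgroup G} {g b : G} :
    b ∈ A.map (MulAut.conj g).toMonoidHom ↔ ∃ x ∈ A, g * x * g⁻¹ = b := by
  rw [Subgroup.mem_map]
  rfl

/-- An element commuting with a non-identity element of the T.I. set `A` normalises `A`. -/
theorem normalizes (A : Subgroup G)
    (hTI : ∀ g : G, A.map (MulAut.conj g).toMonoidHom ⊓ A = ⊥ ∨ A.map (MulAut.conj g).toMonoidHom = A)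
    (c a₀ : G) (ha₀ : a₀ ∈ A) (h1 : a₀ ≠ 1) (hc : c * a₀ = a₀ * c) :
    ∀ x ∈ A, c * x * c⁻¹ ∈ A := by
  rcases hTI c with h | h
  · exfalso
    apply h1
    have : a₀ ∈ A.map (MulAut.conj c).toMonoidHom ⊓ A := by
      refine ⟨mem_map_conj.mpr ⟨a₀, ha₀, ?_⟩, ha₀⟩
      rw [hc]; group
    rw [h] at this
    exact Subgroup.mem_bot.mp this
  · intro x hx
    rw [← h]
    exact mem_map_conj.mpr ⟨x, hx, rfl⟩

/-- Let A be a nontrivial elementary abelian 2-subgroup of a finite group G which is a T.I. set (each conjugate of A meets A trivially or equals A) and which does not commute elementwise with any conjugate of A other than A itself. Then for every a ∈ A, a ≠ 1, every conjugate of A contained in C_G(a) is equal to A (A is weakly closed in C_G(a)). -/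
theorem result {G : Type*} [Group G] [Finite G] (A : Subgroup G) (hA : Cfsg.IsElementaryAbelian 2 A) (hA1 : A ≠ ⊥) (hTI : ∀ g : G, A.map (MulAut.conj g).toMonoidHom ⊓ A = ⊥ ∨ A.map (MulAut.conj g).toMonoidHom = A) (hb : ∀ g : G, (∀ a ∈ A, ∀ b ∈ A.map (MulAut.conj g).toMonoidHom, a * b = b * a) → A.map (MulAut.conj g).toMonoidHom = A) (a : G) (ha : a ∈ A) (ha1 : a ≠ 1) (g : G) (hg : A.map (MulAut.conj g).toMonoidHom ≤ Subgroup.centralizer ({a} : Set G)) : A.map (MulAut.conj g).toMonoidHom = A := by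
  by_contra hne
  set B := A.map (MulAut.conj g).toMonoidHom with hB
  have hAB : B ⊓ A = ⊥ := (hTI g).resolve_right hne
  -- Step 1: B normalises A
  have hBA : ∀ b ∈ B, ∀ x ∈ A, b * x * b⁻¹ ∈ A := by
    intro b hb'
    have hba : b * a = a * b := by
      have := hg hb'
      rw [Subgroup.mem_centralizer_singleton_iff] at this
      exact this
    exact normalizes A hTI b a ha ha1 hba
  -- Step 2: an element of A commuting with a non-identity element of B commutes with all of B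
  have hstep2 : ∀ a' ∈ A, ∀ b ∈ B, b ≠ 1 → a' * b = b * a' → ∀ b' ∈ B, a' * b' = b' * a' := by
    intro a' ha' b hb' hb1 hcomm b' hb''
    obtain ⟨a₀, ha₀, rfl⟩ := mem_map_conj.mp hb'
    obtain ⟨x, hx, rfl⟩ := mem_map_conj.mp hb''
    have ha₀1 : a₀ ≠ 1 := by
      rintro rfl
      apply hb1; group
    have hc : (g⁻¹ * a' * g) * a₀ = a₀ * (g⁻¹ * a' * g) := by
      calc (g⁻¹ * a' * g) * a₀ = g⁻¹ * (a' * (g * a₀ * g⁻¹)) * g := by group
        _ = g⁻¹ * ((g * a₀ * g⁻¹) * a') * g := by rw [hcomm]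
        _ = a₀ * (g⁻¹ * a' * g) := by group
    have hN := normalizes A hTI (g⁻¹ * a' * g) a₀ ha₀ ha₀1 hc x hx
    -- a' (g x g⁻¹) a'⁻¹ ∈ B
    have h1 : a' * (g * x * g⁻¹) * a'⁻¹ ∈ B := by
      refine mem_map_conj.mpr ⟨_, hN, ?_⟩
      group
    -- commutator in A ⊓ B
    have h2 : a' * (g * x * g⁻¹) * a'⁻¹ * (g * x * g⁻¹)⁻¹ ∈ B := B.mul_mem h1 (B.inv_mem hb'')
    have h3 : a' * (g * x * g⁻¹) * a'⁻¹ * (g * x * g⁻¹)⁻¹ ∈ A := by
      have := hBA _ hb'' a'⁻¹ (A.inv_mem ha')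
      have e : a' * (g * x * g⁻¹) * a'⁻¹ * (g * x * g⁻¹)⁻¹ = a' * ((g * x * g⁻¹) * a'⁻¹ * (g * x * g⁻¹)⁻¹) := by group
      rw [e]
      exact A.mul_mem ha' this
    have h4 : a' * (g * x * g⁻¹) * a'⁻¹ * (g * x * g⁻¹)⁻¹ ∈ B ⊓ A := ⟨h2, h3⟩
    rw [hAB, Subgroup.mem_bot] at h4
    calc a' * (g * x * g⁻¹) = (a' * (g * x * g⁻¹) * a'⁻¹ * (g * x * g⁻¹)⁻¹) * ((g * x * g⁻¹) * a') := by group
      _ = (g * x * g⁻¹) * a' := by rw [h4, one_mul]
  -- Step 3: some a₁ ∈ A does not commute with some b₁ ∈ B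
  have hex : ∃ a₁ ∈ A, ∃ b₁ ∈ B, a₁ * b₁ ≠ b₁ * a₁ := by
    by_contra hcon
    push Not at hcon
    exact hne (hb g hcon)
  obtain ⟨a₁, ha₁, b₁, hb₁, hnc⟩ := hex
  have ha₁1 : a₁ ≠ 1 := by
    rintro rfl
    apply hnc; simp
  -- a₁ commutes with no non-identity element of B
  have hfree : ∀ b ∈ B, a₁ * b = b * a₁ → b = 1 := by
    intro b hb' hcomm
    by_contra hb1
    exact hnc (hstep2 a₁ ha₁ b hb' hb1 hcomm b₁ hb₁)
  -- Step 4: the orbit map B → A is injective, hence surjective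
  let ψ : ↥B → ↥A := fun b => ⟨(b : G) * a₁ * (b : G)⁻¹, hBA b b.2 a₁ ha₁⟩
  have hinj : Function.Injective ψ := by
    intro b b' h
    have h' : (b : G) * a₁ * (b : G)⁻¹ = (b' : G) * a₁ * (b' : G)⁻¹ := congrArg Subtype.val h
    have hc : a₁ * ((b' : G)⁻¹ * (b : G)) = ((b' : G)⁻¹ * (b : G)) * a₁ := by
      calc a₁ * ((b' : G)⁻¹ * (b : G)) = (b' : G)⁻¹ * ((b' : G) * a₁ * (b' : G)⁻¹) * (b : G) := by group
        _ = (b' : G)⁻¹ * ((b : G) * a₁ * (b : G)⁻¹) * (b : G) := by rw [h']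
        _ = ((b' : G)⁻¹ * (b : G)) * a₁ := by group
    have := hfree _ (B.mul_mem (B.inv_mem b'.2) b.2) hc
    apply Subtype.ext
    have e : (b : G) = (b' : G) * ((b' : G)⁻¹ * (b : G)) := by group
    rw [e, this, mul_one]
  have e : ↥B ≃ ↥A := (Subgroup.equivMapOfInjective A (MulAut.conj g).toMonoidHom (MulAut.conj g).injective).symm.toEquiv
  have hsurj : Function.Surjective ψ := (Finite.injective_iff_surjective_of_equiv e).mp hinj
  obtain ⟨b, hb'⟩ := hsurj ⟨1, A.one_mem⟩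
  have h' : (b : G) * a₁ * (b : G)⁻¹ = 1 := congrArg Subtype.val hb'
  apply ha₁1
  calc a₁ = (b : G)⁻¹ * ((b : G) * a₁ * (b : G)⁻¹) * (b : G) := by group
    _ = 1 := by rw [h']; group

end Cfsg.Agent.S1177
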