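import Mathlib
import Cfsg.Statements.S1178

set_option autoImplicit false
open Cfsg

namespace Cfsg.Agent.S1178

open scoped Pointwise

theorem map_conj_mul {G : Type*} [Group G] (A : Subgroup G) (h g : G) :
    (A.map (MulAut.conj g).toMonoidHom).map (MulAut.conj h).toMonoidHom = A.map (MulAut.conj (h * g)).toMonoidHom := by
  rw [Subgroup.map_map]
  congr 1
  ext x
  simp [MulAut.conj_apply, mul_assoc]

/-- Let A be a subgroup of a Sylow 2-subgroup S of the finite group G which is weakly closed in S. If a conjugate g A g⁻¹ commutes elementwise with A, then g A g⁻¹ = A. -/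
theorem result {G : Type*} [Group G] [Finite G] (S : Sylow 2 G) (A : Subgroup G) (hW : Cfsg.IsWeaklyClosed A (S : Subgroup G)) (g : G) (hc : ∀ a ∈ A, ∀ b ∈ A.map (MulAut.conj g).toMonoidHom, a * b = b * a) : A.map (MulAut.conj g).toMonoidHom = A := by
  obtain ⟨hAS, hwc⟩ := hW
  set B := A.map (MulAut.conj g).toMonoidHom with hB
  have hA2 : IsPGroup 2 A := S.isPGroup'.to_le hAS
  have hB2 : IsPGroup 2 B := hA2.map _
  have hnorm : A ≤ Subgroup.normalizer (B : Set G) := by
    intro a ha
    rw [Subgroup.mem_normalizer_iff]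
    intro b
    constructor
    · intro hb
      have : a * b * a⁻¹ = b := by rw [hc a ha b hb]; group
      rw [this]; exact hb
    · intro hb
      have h1 := hc a ha _ hb
      have : b = a * b * a⁻¹ := by
        calc b = a⁻¹ * ((a * b * a⁻¹) * a) := by group
          _ = a⁻¹ * (a * (a * b * a⁻¹)) := by rw [h1]
          _ = a * b * a⁻¹ := by group
      rw [this]; exact hb
  have hAB : IsPGroup 2 (A ⊔ B : Subgroup G) := IsPGroup.to_sup_of_normal_right' hA2 hB2 hnorm
  obtain ⟨Q, hQ⟩ := hAB.exists_le_sylow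
  obtain ⟨h, hh⟩ := MulAction.exists_smul_eq G Q S
  have hQS : (Q : Subgroup G).map (MulAut.conj h).toMonoidHom = (S : Subgroup G) := by
    rw [← hh]; rfl
  have h1 : A.map (MulAut.conj h).toMonoidHom ≤ S := by
    rw [← hQS]
    exact Subgroup.map_mono (le_trans le_sup_left hQ)
  have h2 : A.map (MulAut.conj (h * g)).toMonoidHom ≤ S := by
    rw [← map_conj_mul, ← hQS]
    exact Subgroup.map_mono (le_trans le_sup_right hQ)
  have e1 := hwc h h1
  have e2 := hwc (h * g) h2
  rw [← map_conj_mul] at e2
  apply Subgroup.map_injective (f := (MulAut.conj h).toMonoidHom) (MulAut.conj h).injective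
  show B.map (MulAut.conj h).toMonoidHom = A.map (MulAut.conj h).toMonoidHom
  rw [e1, ← hB] at *
  exact e2

end Cfsg.Agent.S1178
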