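import Mathlib
import Cfsg.Statements.S1181
import Cfsg.Agent.Lib.Helper6.Dihedral

set_option autoImplicit false
open Cfsg

namespace Cfsg.Agent.S1181

open Cfsg.Agent.Helper6

/-- Let z be an isolated involution of the finite group G and N a normal subgroup with z ∉ N. Then the centralizer of zN in G/N is the image of C_G(z), and zN is an isolated involution of G/N. -/
theorem result {G : Type*} [Group G] [Finite G] (z : G) (hz : Cfsg.IsIsolatedInvolution z) (N : Subgroup G) [N.Normal] (hzN : z ∉ N) : Subgroup.centralizer ({(QuotientGroup.mk z : G ⧸ N)} : Set (G ⧸ N)) = (Subgroup.centralizer ({z} : Set G)).map (QuotientGroup.mk' N) ∧ Cfsg.IsIsolatedInvolution (QuotientGroup.mk z : G ⧸ N) := by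
  have hzz : z * z = 1 := isolated_mul_self hz
  have hzi : z⁻¹ = z := inv_eq_self_of_mul_self hzz
  have hmzz : (QuotientGroup.mk z : G ⧸ N) * (QuotientGroup.mk z : G ⧸ N) = 1 := by
    rw [← QuotientGroup.mk_mul, hzz]; rfl
  have hmz1 : (QuotientGroup.mk z : G ⧸ N) ≠ 1 := by
    intro h
    exact hzN ((QuotientGroup.eq_one_iff z).mp h)
  constructor
  · apply le_antisymm
    · intro gbar hg
      rw [Subgroup.mem_centralizer_singleton_iff] at hg
      obtain ⟨g, rfl⟩ := QuotientGroup.mk_surjective gbar
      set w := g * z * g⁻¹ with hw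
      have hww : w * w = 1 := isolated_mul_self (isolated_conj hz g)
      obtain ⟨k, hk⟩ := isolated_odd_order hz g
      have hpow : (z * w) ^ (2 * k + 1) = 1 := by rw [← hk]; exact pow_orderOf_eq_one _
      have hu := conj_of_odd_order z w hzz hww k hpow
      set u := (z * w) ^ k with hudef
      -- mk w = mk z
      have hmw : (QuotientGroup.mk w : G ⧸ N) = QuotientGroup.mk z := by
        rw [hw, QuotientGroup.mk_mul, QuotientGroup.mk_mul, hg, QuotientGroup.mk_inv]
        group
      have hzwN : z * w ∈ N := by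
        rw [← QuotientGroup.eq_one_iff, QuotientGroup.mk_mul, hmw]
        exact hmzz
      have huN : u ∈ N := N.pow_mem hzwN k
      refine ⟨u⁻¹ * g, ?_, ?_⟩
      · show u⁻¹ * g ∈ Subgroup.centralizer ({z} : Set G)
        rw [Subgroup.mem_centralizer_singleton_iff]
        -- g z g⁻¹ = u z u⁻¹
        have e : g * z = u * z * u⁻¹ * g := by
          rw [hu, hw]; group
        calc u⁻¹ * g * z = u⁻¹ * (g * z) := by group
          _ = u⁻¹ * (u * z * u⁻¹ * g) := by rw [e]
          _ = z * (u⁻¹ * g) := by group
      · show (QuotientGroup.mk (u⁻¹ * g) : G ⧸ N) = QuotientGroup.mk g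
        rw [QuotientGroup.mk_mul, QuotientGroup.mk_inv, (QuotientGroup.eq_one_iff u).mpr huN]
        group
    · rintro _ ⟨c, hc, rfl⟩
      have hc' : c ∈ Subgroup.centralizer ({z} : Set G) := hc
      rw [Subgroup.mem_centralizer_singleton_iff] at hc'
      rw [Subgroup.mem_centralizer_singleton_iff]
      show (QuotientGroup.mk c : G ⧸ N) * QuotientGroup.mk z = QuotientGroup.mk z * QuotientGroup.mk c
      rw [← QuotientGroup.mk_mul, ← QuotientGroup.mk_mul, hc']
  · refine ⟨?_, ?_⟩
    · apply orderOf_eq_prime
      · rw [pow_two]; exact hmzz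
      · exact hmz1
    · intro gbar hcomm
      obtain ⟨g, rfl⟩ := QuotientGroup.mk_surjective gbar
      set w := g * z * g⁻¹ with hw
      have hww : w * w = 1 := isolated_mul_self (isolated_conj hz g)
      obtain ⟨k, hk⟩ := isolated_odd_order hz g
      have hpow : (z * w) ^ (2 * k + 1) = 1 := by rw [← hk]; exact pow_orderOf_eq_one _
      have hmw : (QuotientGroup.mk g : G ⧸ N) * QuotientGroup.mk z * (QuotientGroup.mk g)⁻¹ = QuotientGroup.mk w := by
        rw [hw, QuotientGroup.mk_mul, QuotientGroup.mk_mul, QuotientGroup.mk_inv]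
      rw [hmw] at hcomm ⊢
      have hmww : (QuotientGroup.mk w : G ⧸ N) * QuotientGroup.mk w = 1 := by
        rw [← QuotientGroup.mk_mul, hww]; rfl
      set e : G ⧸ N := QuotientGroup.mk z * QuotientGroup.mk w with he
      have he2 : e * e = 1 := by
        have := hcomm.mul_pow 2
        rw [pow_two, pow_two, pow_two, hmzz, hmww, one_mul] at this
        exact this
      have hepow : e ^ (2 * k + 1) = 1 := by
        have : e = (QuotientGroup.mk (z * w) : G ⧸ N) := rfl
        rw [this, ← QuotientGroup.mk_pow, hpow]; rfl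
      have he1 : e = 1 := eq_one_of_sq_of_odd_pow he2 k hepow
      -- mk w = (mk z)⁻¹ = mk z
      have : (QuotientGroup.mk w : G ⧸ N) = (QuotientGroup.mk z : G ⧸ N)⁻¹ := by
        rw [he] at he1
        exact eq_inv_of_mul_eq_one_right he1
      rw [this, inv_eq_self_of_mul_self hmzz]

end Cfsg.Agent.S1181
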