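import Mathlib
import Cfsg.Statements.S1182
import Cfsg.Agent.Lib.Helper6.Dihedral

set_option autoImplicit false
open Cfsg

namespace Cfsg.Agent.S1182

open Cfsg.Agent.Helper6

/-- Let z be an isolated involution of the finite group G and H a subgroup normalized by z. If x, y ∈ H both commute with z and y = h x h⁻¹ for some h ∈ H, then y = c x c⁻¹ for some c ∈ H commuting with z. -/
theorem result {G : Type*} [Group G] [Finite G] (z : G) (hz : Cfsg.IsIsolatedInvolution z) (H : Subgroup G) (hzH : z ∈ Subgroup.normalizer (H : Set G)) (x y : G) (hx : x ∈ H) (hy : y ∈ H) (hxz : Commute x z) (hyz : Commute y z) (h : G) (hh : h ∈ H) (hconj : h * x * h⁻¹ = y) : ∃ c ∈ H, Commute c z ∧ c * x * c⁻¹ = y := by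
  have hzz : z * z = 1 := isolated_mul_self hz
  have hzi : z⁻¹ = z := inv_eq_self_of_mul_self hzz
  set w := h⁻¹ * z * h⁻¹⁻¹ with hw
  have hww : w * w = 1 := isolated_mul_self (isolated_conj hz h⁻¹)
  obtain ⟨k, hk⟩ := isolated_odd_order hz h⁻¹
  have hpow : (z * w) ^ (2 * k + 1) = 1 := by rw [← hk]; exact pow_orderOf_eq_one _
  have hu := conj_of_odd_order z w hzz hww k hpow
  set u := (z * w) ^ k with hudef
  -- z * w ∈ H
  have hzwH : z * w ∈ H := by
    have h1 : z * h⁻¹ * z⁻¹ ∈ H := (Subgroup.mem_normalizer_iff.mp hzH h⁻¹).mp (H.inv_mem hh)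
    have : z * w = (z * h⁻¹ * z⁻¹) * h := by rw [hw, hzi]; group
    rw [this]
    exact H.mul_mem h1 hh
  have huH : u ∈ H := H.pow_mem hzwH k
  -- w commutes with x
  have hwx : Commute w x := by
    -- y = h x h⁻¹ commutes with z
    have e : w * x = x * w := by
      have hy' : (h * x * h⁻¹) * z = z * (h * x * h⁻¹) := by rw [hconj]; exact hyz.eq
      calc w * x = h⁻¹ * (z * (h * x * h⁻¹)) * h := by rw [hw]; group
        _ = h⁻¹ * ((h * x * h⁻¹) * z) * h := by rw [hy']
        _ = x * w := by rw [hw]; group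
    exact e
  have hux : Commute u x := by
    rw [hudef]
    exact (Commute.mul_left hxz.symm hwx).pow_left k
  refine ⟨h * u, H.mul_mem hh huH, ?_, ?_⟩
  · -- (h u) z (h u)⁻¹ = h w h⁻¹ = z
    show h * u * z = z * (h * u)
    have e1 : u * z = w * u := by
      calc u * z = (u * z * u⁻¹) * u := by group
        _ = w * u := by rw [hu]
    calc h * u * z = h * (u * z) := by group
      _ = h * (w * u) := by rw [e1]
      _ = z * (h * u) := by rw [hw]; group
  · calc h * u * x * (h * u)⁻¹ = h * (u * x) * u⁻¹ * h⁻¹ := by group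
      _ = h * (x * u) * u⁻¹ * h⁻¹ := by rw [hux.eq]
      _ = h * x * h⁻¹ := by group
      _ = y := hconj

end Cfsg.Agent.S1182
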