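import Mathlib
import Cfsg.Statements.S1242
import Cfsg.Agent.Lib.Helper18.Transfer

set_option autoImplicit false
open Cfsg

namespace Cfsg.Agent.S1242

open scoped commutatorElement in
/-- A subgroup containing the commutator subgroup is normal. -/
theorem normal_of_commutator_le {H : Type*} [Group H] (N : Subgroup H) (h : commutator H ≤ N) :
    N.Normal := by
  constructor
  intro n hn g
  have h1 : ⁅g, n⁆ ∈ N := by
    apply h
    rw [commutator_def]
    exact Subgroup.commutator_mem_commutator (Subgroup.mem_top g) (Subgroup.mem_top n)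
  have h2 : g * n * g⁻¹ = ⁅g, n⁆ * n := by
    rw [commutatorElement_def]; group
  rw [h2]
  exact N.mul_mem h1 hn

open scoped IsMulCommutative in
/-- Let G be a finite group, p a prime and H a subgroup of index prime to p such that any two elements of H of p-power order that are conjugate in G are conjugate in H. Then (O^p(G)·G') ∩ H = O^p(H)·H', where O^p denotes the subgroup generated by the elements of order prime to p. -/
theorem result {G : Type*} [Group G] [Finite G] {p : ℕ} [Fact p.Prime] (H : Subgroup G) (hidx : Nat.Coprime p H.index) (hfus : ∀ g ∈ H, (∃ k : ℕ, orderOf g = p ^ k) → ∀ a : G, a * g * a⁻¹ ∈ H → ∃ h ∈ H, h * g * h⁻¹ = a * g * a⁻¹) : (Cfsg.pResidual p G ⊔ commutator G) ⊓ H = (Cfsg.pResidual p ↥H ⊔ commutator ↥H).map H.subtype := by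
  classical
  have hp : p.Prime := Fact.out
  set K' : Subgroup H := Cfsg.pResidual p ↥H ⊔ commutator ↥H with hK'
  have hcK : commutator H ≤ K' := le_sup_right
  have hrK : Cfsg.pResidual p ↥H ≤ K' := le_sup_left
  have hKn : K'.Normal := normal_of_commutator_le K' hcK
  have hcomm : IsMulCommutative (H ⧸ K') :=
    (Subgroup.Normal.quotient_commutative_iff_commutator_le).mpr hcK
  set ϕ : H →* H ⧸ K' := QuotientGroup.mk' K' with hϕ
  -- the quotient is a p-group
  have hQ : ∀ h : H, ∃ j : ℕ, orderOf (ϕ h) = p ^ j := by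
    intro h
    have hne : orderOf h ≠ 0 := (orderOf_pos h).ne'
    obtain ⟨a, m, hm, ham⟩ := Nat.exists_eq_pow_mul_and_not_dvd hne p hp.ne_one
    have h1 : h ^ (p ^ a) ∈ Cfsg.pResidual p ↥H := by
      apply Subgroup.subset_closure
      change Nat.Coprime (orderOf (h ^ (p ^ a))) p
      have h2 : orderOf (h ^ (p ^ a)) ∣ m := by
        apply orderOf_dvd_of_pow_eq_one
        rw [← pow_mul, ← ham]
        exact pow_orderOf_eq_one h
      exact Nat.Coprime.coprime_dvd_left h2 ((Nat.Prime.coprime_iff_not_dvd hp).mpr hm).symm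
    have h3 : (ϕ h) ^ (p ^ a) = 1 := by
      rw [← map_pow, hϕ, QuotientGroup.mk'_apply, QuotientGroup.eq_one_iff]
      exact hrK h1
    have h4 : orderOf (ϕ h) ∣ p ^ a := orderOf_dvd_of_pow_eq_one h3
    obtain ⟨j, -, hj⟩ := (Nat.dvd_prime_pow hp).mp h4
    exact ⟨j, hj⟩
  have hQsurj : ∀ q : H ⧸ K', ∃ j : ℕ, orderOf q = p ^ j := by
    intro q
    obtain ⟨h, rfl⟩ := QuotientGroup.mk'_surjective K' q
    exact hQ h
  -- the transfer kills O^p(G) and G'
  have hker : Cfsg.pResidual p G ⊔ commutator G ≤ (MonoidHom.transfer ϕ).ker := by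
    apply sup_le
    · unfold Cfsg.pResidual
      rw [Subgroup.closure_le]
      intro y hy
      change Nat.Coprime (orderOf y) p at hy
      rw [SetLike.mem_coe, MonoidHom.mem_ker]
      obtain ⟨j, hj⟩ := hQsurj (MonoidHom.transfer ϕ y)
      have h1 : orderOf (MonoidHom.transfer ϕ y) ∣ orderOf y := orderOf_map_dvd _ y
      rw [hj] at h1
      rcases Nat.eq_zero_or_pos j with hj0 | hjpos
      · rw [hj0, pow_zero, orderOf_eq_one_iff] at hj
        exact hj
      · exfalso
        have : p ∣ orderOf y := dvd_trans (dvd_pow_self p (by omega)) h1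
        have := Nat.Coprime.eq_one_of_dvd hy.symm this
        exact hp.one_lt.ne' this
    · exact Abelianization.commutator_subset_ker (MonoidHom.transfer ϕ)
  apply le_antisymm
  · -- the hard inclusion
    intro x hx
    obtain ⟨hx1, hx2⟩ := hx
    have hVx : MonoidHom.transfer ϕ x = 1 := hker hx1
    set x' : H := ⟨x, hx2⟩ with hx'
    have hne : orderOf x' ≠ 0 := (orderOf_pos x').ne'
    obtain ⟨a, m, hm, ham⟩ := Nat.exists_eq_pow_mul_and_not_dvd hne p hp.ne_one
    set y : H := x' ^ m with hy
    have hyord : orderOf y ∣ p ^ a := by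
      apply orderOf_dvd_of_pow_eq_one
      rw [hy, ← pow_mul, mul_comm, ← ham]
      exact pow_orderOf_eq_one x'
    have key : ∀ (k : ℕ) (g₀ : G) (hk : g₀⁻¹ * (y : G) ^ k * g₀ ∈ H),
        ϕ ⟨g₀⁻¹ * (y : G) ^ k * g₀, hk⟩ = ϕ (y ^ k) := by
      intro k g₀ hk
      have hmem : (y : G) ^ k ∈ H := H.pow_mem y.2 k
      have hpk : ∃ b : ℕ, orderOf ((y : G) ^ k) = p ^ b := by
        have h1 : orderOf ((y : G) ^ k) ∣ orderOf (y : G) := orderOf_pow_dvd k
        rw [Subgroup.orderOf_coe] at h1
        obtain ⟨b, -, hb⟩ := (Nat.dvd_prime_pow hp).mp (dvd_trans h1 hyord)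
        exact ⟨b, hb⟩
      obtain ⟨h, hh, hconj⟩ := hfus ((y : G) ^ k) hmem hpk g₀⁻¹ (by simpa using hk)
      rw [inv_inv] at hconj
      have heq : (⟨g₀⁻¹ * (y : G) ^ k * g₀, hk⟩ : H) = ⟨h, hh⟩ * y ^ k * ⟨h, hh⟩⁻¹ := by
        apply Subtype.ext
        simp only [Subgroup.coe_mul, Subgroup.coe_pow, Subgroup.coe_inv]
        exact hconj.symm
      rw [heq, map_mul, map_mul, map_inv, mul_comm (ϕ ⟨h, hh⟩), mul_assoc, mul_inv_cancel,
        mul_one]
    have htr := Cfsg.Agent.Helper18.transfer_eq_pow_of_control ϕ y key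
    have hVy : MonoidHom.transfer ϕ (y : G) = 1 := by
      have : (y : G) = x ^ m := by rw [hy, hx']; rfl
      rw [this, map_pow, hVx, one_pow]
    rw [htr, hy, map_pow, ← pow_mul] at hVy
    have hd1 : orderOf (ϕ x') ∣ m * H.index := orderOf_dvd_of_pow_eq_one hVy
    obtain ⟨j, hj⟩ := hQ x'
    have hx'K : x' ∈ K' := by
      rcases Nat.eq_zero_or_pos j with hj0 | hjpos
      · rw [hj0, pow_zero, orderOf_eq_one_iff, hϕ, QuotientGroup.mk'_apply,
          QuotientGroup.eq_one_iff] at hj
        exact hj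
      · exfalso
        have hpd : p ∣ m * H.index := by
          refine dvd_trans ?_ hd1
          rw [hj]; exact dvd_pow_self p (by omega)
        rcases (Nat.Prime.dvd_mul hp).mp hpd with h | h
        · exact hm h
        · have := Nat.Coprime.eq_one_of_dvd hidx h
          exact hp.one_lt.ne' this
    exact ⟨x', hx'K, rfl⟩
  · -- the easy inclusion
    rw [Subgroup.map_sup]
    apply le_inf
    · apply sup_le_sup
      · unfold Cfsg.pResidual
        rw [MonoidHom.map_closure]
        apply Subgroup.closure_mono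
        rintro _ ⟨h, hh, rfl⟩
        change Nat.Coprime (orderOf (H.subtype h)) p
        rw [Subgroup.coe_subtype, Subgroup.orderOf_coe]
        exact hh
      · rw [commutator_def, commutator_def, Subgroup.map_commutator]
        exact Subgroup.commutator_mono le_top le_top
    · rw [← Subgroup.map_sup]
      exact Subgroup.map_subtype_le _

end Cfsg.Agent.S1242
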