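import Mathlib
import Cfsg.Statements.S1183
import Cfsg.Agent.Lib.Helper6.Dihedral
import Cfsg.Agent.Lib.Helper22.PResidual
import Cfsg.Agent.S1182
import Cfsg.Agent.S1242

set_option autoImplicit false
open Cfsg

namespace Cfsg.Agent.S1183

open Cfsg.Agent.Helper6

/-- If `H / N` is a finite `p`-group and `N H' = H` then `N = H`. -/
theorem eq_top_of_sup_commutator {H : Type*} [Group H] [Finite H] (p : ℕ) [Fact p.Prime]
    (N : Subgroup H) [N.Normal] (hN : IsPGroup p (H ⧸ N)) (h : N ⊔ commutator H = ⊤) : N = ⊤ := by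
  have hnil : Group.IsNilpotent (H ⧸ N) := hN.isNilpotent
  have hsol : Group.IsSolvable (H ⧸ N) := inferInstance
  have hsurj : Function.Surjective (QuotientGroup.mk' N) := QuotientGroup.mk'_surjective N
  have h1 : (⊤ : Subgroup (H ⧸ N)) = commutator (H ⧸ N) := by
    calc (⊤ : Subgroup (H ⧸ N)) = Subgroup.map (QuotientGroup.mk' N) ⊤ :=
          (Subgroup.map_top_of_surjective _ hsurj).symm
      _ = Subgroup.map (QuotientGroup.mk' N) (N ⊔ commutator H) := by rw [h]
      _ = Subgroup.map (QuotientGroup.mk' N) N ⊔ Subgroup.map (QuotientGroup.mk' N) (commutator H) :=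
          Subgroup.map_sup _ _ _
      _ = commutator (H ⧸ N) := by
          rw [QuotientGroup.map_mk'_self, bot_sup_eq, commutator_def, Subgroup.map_commutator,
            Subgroup.map_top_of_surjective _ hsurj, ← commutator_def]
  by_contra hne
  have hnt : Nontrivial (H ⧸ N) := by
    by_contra hnt
    rw [not_nontrivial_iff_subsingleton] at hnt
    exact hne (QuotientGroup.subgroup_eq_top_of_subsingleton N hnt)
  have := Group.IsSolvable.commutator_lt_top_of_nontrivial (H ⧸ N)
  rw [← h1] at this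
  exact lt_irrefl _ this

/-- A Sylow 2-subgroup containing an isolated involution `z` centralises `z`. -/
theorem sylow_le_centralizer {G : Type*} [Group G] [Finite G] (z : G) (hz : Cfsg.IsIsolatedInvolution z)
    (P : Sylow 2 G) (hzP : z ∈ (P : Subgroup G)) : (P : Subgroup G) ≤ Subgroup.centralizer ({z} : Set G) := by
  intro g hg
  rw [Subgroup.mem_centralizer_singleton_iff]
  have hzz := isolated_mul_self hz
  have hmem : z * (g * z * g⁻¹) ∈ (P : Subgroup G) :=
    Subgroup.mul_mem _ hzP (Subgroup.mul_mem _ (Subgroup.mul_mem _ hg hzP) (Subgroup.inv_mem _ hg))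
  obtain ⟨m, hm⟩ := isolated_odd_order hz g
  obtain ⟨k, hk⟩ := (IsPGroup.iff_orderOf.mp P.isPGroup') ⟨z * (g * z * g⁻¹), hmem⟩
  rw [Subgroup.orderOf_mk] at hk
  have h1 : z * (g * z * g⁻¹) = 1 := by
    rw [← orderOf_eq_one_iff, hk]
    rcases Nat.eq_zero_or_pos k with h0 | hpos
    · rw [h0, pow_zero]
    · exfalso
      have : 2 ∣ orderOf (z * (g * z * g⁻¹)) := by rw [hk]; exact dvd_pow_self 2 (by omega)
      rw [hm] at this
      omega
  have h2 : g * z * g⁻¹ = z := by
    calc g * z * g⁻¹ = (z * z) * (g * z * g⁻¹) := by rw [hzz, one_mul]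
      _ = z * (z * (g * z * g⁻¹)) := by group
      _ = z := by rw [h1, mul_one]
  calc g * z = (g * z * g⁻¹) * g := by group
    _ = z * g := by rw [h2]

/-- `O^2(G) = G ↔ O^2(C) = C` for `C` the centraliser of an isolated involution. -/
theorem result {G : Type*} [Group G] [Finite G] (z : G) (hz : Cfsg.IsIsolatedInvolution z) : Cfsg.pResidual 2 G = ⊤ ↔ Cfsg.pResidual 2 ↥(Subgroup.centralizer ({z} : Set G)) = ⊤ := by
  have : Fact (Nat.Prime 2) := ⟨Nat.prime_two⟩
  set C := Subgroup.centralizer ({z} : Set G) with hC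
  -- a Sylow 2-subgroup containing z
  have hzp : IsPGroup 2 (Subgroup.zpowers z) := by
    apply IsPGroup.of_card (n := 1)
    rw [Nat.card_zpowers, hz.1, pow_one]
  obtain ⟨P, hP⟩ := hzp.exists_le_sylow
  have hzP : z ∈ (P : Subgroup G) := hP (Subgroup.mem_zpowers z)
  have hPC : (P : Subgroup G) ≤ C := sylow_le_centralizer z hz P hzP
  have hodd : ¬ 2 ∣ C.index := fun h => P.not_dvd_index (dvd_trans h (Subgroup.index_dvd_of_le hPC))
  have hidx : Nat.Coprime 2 C.index := (Nat.Prime.coprime_iff_not_dvd Nat.prime_two).mpr hodd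
  have hfus : ∀ g ∈ C, (∃ k : ℕ, orderOf g = 2 ^ k) → ∀ a : G, a * g * a⁻¹ ∈ C →
      ∃ h ∈ C, h * g * h⁻¹ = a * g * a⁻¹ := by
    intro g hg _ a ha
    have hgz : Commute g z := Subgroup.mem_centralizer_singleton_iff.mp hg
    have haz : Commute (a * g * a⁻¹) z := Subgroup.mem_centralizer_singleton_iff.mp ha
    obtain ⟨c, -, hcz, hc⟩ := Cfsg.Agent.S1182.result z hz ⊤ (by rw [Subgroup.mem_normalizer_iff]; intro h; simp) g (a * g * a⁻¹)
      (Subgroup.mem_top _) (Subgroup.mem_top _) hgz haz a (Subgroup.mem_top _) rfl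
    exact ⟨c, Subgroup.mem_centralizer_singleton_iff.mpr hcz, hc⟩
  have key := Cfsg.Agent.S1242.result (p := 2) C hidx hfus
  have hnG : (Cfsg.pResidual 2 G).Normal := Cfsg.Agent.Helper22.pResidual_normal
  have hnC : (Cfsg.pResidual 2 ↥C).Normal := Cfsg.Agent.Helper22.pResidual_normal
  constructor
  · intro h
    rw [h, top_sup_eq, top_inf_eq] at key
    have h1 : Cfsg.pResidual 2 ↥C ⊔ commutator ↥C = ⊤ := by
      rw [eq_top_iff]
      intro x _
      have hx : (x : G) ∈ Subgroup.map C.subtype (Cfsg.pResidual 2 ↥C ⊔ commutator ↥C) := by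
        rw [← key]; exact x.2
      obtain ⟨y, hy, hyx⟩ := hx
      have : y = x := Subtype.ext hyx
      rwa [this] at hy
    exact eq_top_of_sup_commutator 2 _ Cfsg.Agent.Helper22.isPGroup_quotient_pResidual h1
  · intro h
    rw [h, top_sup_eq] at key
    have h1 : C ≤ Cfsg.pResidual 2 G ⊔ commutator G := by
      intro x hx
      have : x ∈ Subgroup.map C.subtype ⊤ := ⟨⟨x, hx⟩, Subgroup.mem_top _, rfl⟩
      rw [← key] at this
      exact (Subgroup.mem_inf.mp this).1
    have h2 : C ⊔ Cfsg.pResidual 2 G = ⊤ := Cfsg.Agent.Helper22.sup_pResidual_eq_top C hodd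
    have h3 : Cfsg.pResidual 2 G ⊔ commutator G = ⊤ := by
      rw [eq_top_iff, ← h2]
      exact sup_le h1 le_sup_left
    exact eq_top_of_sup_commutator 2 _ Cfsg.Agent.Helper22.isPGroup_quotient_pResidual h3

end Cfsg.Agent.S1183
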