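import Mathlib
import Cfsg.Statements.S1184
import Cfsg.Agent.Lib.Helper6.Dihedral

set_option autoImplicit false
open Cfsg

namespace Cfsg.Agent.S1184

open Cfsg.Agent.Helper6

/-- Let z be an isolated involution of the finite group G. If s and t are distinct conjugates of z, then st does not commute with z. -/
theorem result {G : Type*} [Group G] [Finite G] (z : G) (hz : Cfsg.IsIsolatedInvolution z) (g h : G) (hne : g * z * g⁻¹ ≠ h * z * h⁻¹) : ¬ Commute (g * z * g⁻¹ * (h * z * h⁻¹)) z := by
  intro hc
  set s := g * z * g⁻¹ with hs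
  set t := h * z * h⁻¹ with ht
  have hsi : Cfsg.IsIsolatedInvolution s := isolated_conj hz g
  have hti : Cfsg.IsIsolatedInvolution t := isolated_conj hz h
  have hss : s * s = 1 := isolated_mul_self hsi
  have htt : t * t = 1 := isolated_mul_self hti
  have hzz : z * z = 1 := isolated_mul_self hz
  -- the order of s * t is odd
  have hodd : Odd (orderOf (s * t)) := by
    have := isolated_odd_order hsi (h * g⁻¹)
    have e : (h * g⁻¹) * s * (h * g⁻¹)⁻¹ = t := by rw [hs, ht]; group
    rwa [e] at this
  set r := s * t with hr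
  set a := z * s with ha
  -- a inverts r
  have h1 : a * r * a⁻¹ = r⁻¹ := by
    have e1 : s * r * s⁻¹ = r⁻¹ := conj_mul_inv s t hss htt
    have e2 : z * r⁻¹ * z⁻¹ = r⁻¹ := by
      have : Commute z r⁻¹ := (hc.symm).inv_right
      rw [this.eq]; group
    calc a * r * a⁻¹ = z * (s * r * s⁻¹) * z⁻¹ := by rw [ha]; group
      _ = r⁻¹ := by rw [e1, e2]
  -- a has odd order
  obtain ⟨n, hn⟩ := isolated_odd_order hz g
  have hsq : Commute (a * a) r := by
    show a * a * r = r * (a * a)
    have : a * a * r = a * (a * r * a⁻¹) * a := by group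
    rw [this, h1]
    have h1' : a * r⁻¹ * a⁻¹ = r := by
      have := congrArg Inv.inv h1
      rw [inv_inv] at this
      calc a * r⁻¹ * a⁻¹ = (a * r * a⁻¹)⁻¹ := by group
        _ = r := this
    calc a * r⁻¹ * a = (a * r⁻¹ * a⁻¹) * (a * a) := by group
      _ = r * (a * a) := by rw [h1']
  have hpow : Commute ((a * a) ^ n) r := hsq.pow_left n
  have ha1 : (a * a) ^ n * a = 1 := by
    have : a ^ (2 * n + 1) = 1 := by rw [← hn]; exact pow_orderOf_eq_one a
    rw [pow_succ, pow_mul, pow_two] at this
    exact this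
  have hainv : a = ((a * a) ^ n)⁻¹ := by
    exact eq_inv_of_mul_eq_one_right ha1
  have hcomm : Commute a r := by
    rw [hainv]; exact hpow.inv_left
  have h2 : a * r * a⁻¹ = r := by rw [hcomm.eq]; group
  have h3 : r * r = 1 := by
    have : r = r⁻¹ := by
      calc r = a * r * a⁻¹ := h2.symm
        _ = r⁻¹ := h1
    calc r * r = r * r⁻¹ := by rw [← this]
      _ = 1 := mul_inv_cancel r
  have h4 : orderOf r ∣ 2 := by
    apply orderOf_dvd_of_pow_eq_one
    rw [pow_two]; exact h3
  have h5 : orderOf r = 1 := by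
    rcases (Nat.dvd_prime Nat.prime_two).mp h4 with h | h
    · exact h
    · rw [h] at hodd; exact absurd hodd (by decide)
  have h6 : r = 1 := orderOf_eq_one_iff.mp h5
  apply hne
  have : s = t⁻¹ := eq_inv_of_mul_eq_one_left h6
  rw [this, inv_eq_self_of_mul_self htt]

end Cfsg.Agent.S1184
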