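import Mathlib
import Cfsg.Statements.S1189
import Cfsg.Agent.Lib.Helper6.QD

set_option autoImplicit false
open Cfsg

namespace Cfsg.Agent.S1189

open Cfsg.Agent.Helper6.QD

theorem card_pair {α : Type*} (P : α → Prop) (a b : α) (hab : a ≠ b) (h : ∀ c, P c ↔ c = a ∨ c = b) :
    Nat.card {c : α // P c} = 2 := by
  have : {c : α | P c} = {a, b} := by
    ext c
    simp only [Set.mem_setOf_eq, Set.mem_insert_iff, Set.mem_singleton_iff]
    exact h c
  show Nat.card ↥{c : α | P c} = 2
  rw [this, Nat.card_coe_set_eq, Set.ncard_pair hab]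

/-- Two classes of involutions and two classes of elements of order 4 in a quasi-dihedral group. -/
theorem result {S : Type*} [Group S] [Finite S] (hS : Cfsg.IsQuasiDihedral S) : Nat.card {C : ConjClasses S // ∃ t : S, orderOf t = 2 ∧ ConjClasses.mk t = C} = 2 ∧ Nat.card {C : ConjClasses S // ∃ t : S, orderOf t = 4 ∧ ConjClasses.mk t = C} = 2 := by
  obtain ⟨d⟩ := exists_data hS
  constructor
  · apply card_pair _ (ConjClasses.mk (z d)) (ConjClasses.mk d.y)
    · rw [Ne, ConjClasses.mk_eq_mk_iff_isConj, isConj_iff]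
      rintro ⟨g, hg⟩
      have : g * z d * g⁻¹ = z d := by rw [z_central, mul_assoc, mul_inv_cancel, mul_one]
      rw [this] at hg
      exact y_ne_xp d _ hg.symm
    · intro C
      constructor
      · rintro ⟨t, ht, rfl⟩
        rcases cases d t with ⟨i, rfl⟩ | ⟨i, rfl⟩
        · left
          rw [orderOf_xp_eq_two_iff] at ht
          rw [ht]; rfl
        · right
          rw [orderOf_xpy_eq_two_iff, half_mul_eq_zero_iff] at ht
          obtain ⟨j, rfl⟩ := ht
          rw [ConjClasses.mk_eq_mk_iff_isConj, isConj_comm, isConj_iff]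
          exact ⟨_, conj_even d j⟩
      · rintro (rfl | rfl)
        · exact ⟨z d, (orderOf_xp_eq_two_iff d _).mpr rfl, rfl⟩
        · exact ⟨d.y, d.hy, rfl⟩
  · apply card_pair _ (ConjClasses.mk (xp d (quarter d))) (ConjClasses.mk (xp d 1 * d.y))
    · rw [Ne, ConjClasses.mk_eq_mk_iff_isConj, isConj_iff]
      rintro ⟨g, hg⟩
      rcases cases d g with ⟨k, rfl⟩ | ⟨k, rfl⟩
      · rw [conj_xp_xp] at hg
        exact xp_ne_xp_mul_y d _ _ hg
      · rw [conj_xpy_xp] at hg
        exact xp_ne_xp_mul_y d _ _ hg
    · intro C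
      constructor
      · rintro ⟨t, ht, rfl⟩
        rcases cases d t with ⟨i, rfl⟩ | ⟨i, rfl⟩
        · left
          rw [orderOf_xp_eq_four_iff] at ht
          rcases ht with rfl | rfl
          · rfl
          · rw [ConjClasses.mk_eq_mk_iff_isConj, isConj_comm, isConj_iff]
            refine ⟨xp d 0 * d.y, ?_⟩
            rw [conj_xpy_xp]
            congr 1
            unfold e
            linear_combination half_mul_quarter d - two_mul_quarter d - half_add_half d
        · right
          rw [orderOf_xpy_eq_four_iff, half_mul_eq_half_iff] at ht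
          obtain ⟨j, rfl⟩ := ht
          rw [ConjClasses.mk_eq_mk_iff_isConj, isConj_comm, isConj_iff]
          exact ⟨_, conj_odd d j⟩
      · rintro (rfl | rfl)
        · exact ⟨_, (orderOf_xp_eq_four_iff d _).mpr (Or.inl rfl), rfl⟩
        · refine ⟨_, (orderOf_xpy_eq_four_iff d _).mpr ?_, rfl⟩
          rw [mul_one]

end Cfsg.Agent.S1189
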