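import Mathlib
import Cfsg.Statements.S1194
import Cfsg.Agent.Lib.Helper6.QD

set_option autoImplicit false
open Cfsg

namespace Cfsg.Agent.S1194

open Cfsg.Agent.Helper6.QD

theorem parity {S : Type*} [Group S] (d : Data S) (m : ZMod (2 ^ d.n)) :
    (∃ j, m = 2 * j) ∨ (∃ j, m = 2 * j + 1) := by
  rcases half_mul_cases d m with h | h
  · left; exact (half_mul_eq_zero_iff d m).mp h
  · right; exact (half_mul_eq_half_iff d m).mp h

theorem top_of_mem {S : Type*} [Group S] (d : Data S) (K : Subgroup S) (j i : ZMod (2 ^ d.n))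
    (h2 : xp d 2 ∈ K) (hodd : xp d (2 * j + 1) ∈ K) (hy : xp d i * d.y ∈ K) : K = ⊤ := by
  have hA : ∀ k, xp d (2 * k) ∈ K := by
    intro k
    have h1 : Subgroup.zpowers (xp d 2) ≤ K := by
      rw [Subgroup.zpowers_le]; exact h2
    apply h1
    rw [mem_zpowers_xp_two_iff]
    exact ⟨k, rfl⟩
  have hx1 : xp d 1 ∈ K := by
    have : xp d 1 = xp d (2 * j + 1) * xp d (2 * (-j)) := by
      rw [xp_mul_xp]; congr 1; ring
    rw [this]
    exact K.mul_mem hodd (hA _)
  have hx : ∀ k, xp d k ∈ K := by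
    intro k
    have h1 : Subgroup.zpowers d.x ≤ K := by
      rw [Subgroup.zpowers_le, ← xp_one d]; exact hx1
    apply h1
    rw [mem_zpowers_iff]
    exact ⟨k, rfl⟩
  have hyK : d.y ∈ K := by
    have : d.y = (xp d i)⁻¹ * (xp d i * d.y) := by group
    rw [this]
    exact K.mul_mem (K.inv_mem (hx i)) hy
  rw [eq_top_iff]
  intro s _
  rcases cases d s with ⟨k, rfl⟩ | ⟨k, rfl⟩
  · exact hx k
  · exact K.mul_mem (hx k) hyK

theorem exists_pow_eq_x {S : Type*} [Group S] (d : Data S) (j : ZMod (2 ^ d.n)) :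
    ∃ k : ℕ, (xp d (2 * j + 1)) ^ k = xp d 1 := by
  have hnil : IsNilpotent (2 * j) := by
    refine ⟨d.n, ?_⟩
    rw [mul_pow]
    have : (2 : ZMod (2 ^ d.n)) ^ d.n = 0 := by
      have h := ZMod.natCast_self (2 ^ d.n)
      push_cast at h
      exact h
    rw [this, zero_mul]
  have hu : IsUnit (2 * j + 1) := hnil.isUnit_add_one
  obtain ⟨v, hv⟩ := hu.exists_left_inv
  refine ⟨v.val, ?_⟩
  rw [xp_pow, ZMod.natCast_zmod_val, hv]

/-- In a quasi-dihedral 2-group S, every proper normal subgroup is either a maximal subgroup or a cyclic subgroup contained in the derived subgroup S'. -/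
theorem result {S : Type*} [Group S] [Finite S] (hS : Cfsg.IsQuasiDihedral S) (N : Subgroup S) [N.Normal] (hN : N ≠ ⊤) : IsCoatom N ∨ (IsCyclic N ∧ N ≤ commutator S) := by
  obtain ⟨d⟩ := exists_data hS
  have hcomm := commutator_eq d
  by_cases hA : N ≤ Subgroup.zpowers (xp d 2)
  · right
    refine ⟨?_, hcomm ▸ hA⟩
    have h1 : IsCyclic (N.subgroupOf (Subgroup.zpowers (xp d 2))) := inferInstance
    exact (Subgroup.subgroupOfEquivOfLe hA).isCyclic.mp h1
  · left
    obtain ⟨s, hsN, hsA⟩ := SetLike.not_le_iff_exists.mp hA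
    refine ⟨hN, ?_⟩
    intro K hK
    obtain ⟨k, hkK, hkN⟩ := SetLike.exists_of_lt hK
    have hNK : N ≤ K := le_of_lt hK
    rcases cases d s with ⟨m, rfl⟩ | ⟨i, rfl⟩
    · -- `s = x^m` with `m` odd
      rcases parity d m with ⟨j, rfl⟩ | ⟨j, rfl⟩
      · exfalso
        apply hsA
        rw [mem_zpowers_xp_two_iff]
        exact ⟨j, rfl⟩
      obtain ⟨c, hc⟩ := exists_pow_eq_x d j
      have hx1 : xp d 1 ∈ N := hc ▸ N.pow_mem hsN c
      have hx : ∀ k, xp d k ∈ N := by
        intro k
        have h1 : Subgroup.zpowers d.x ≤ N := by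
          rw [Subgroup.zpowers_le, ← xp_one d]; exact hx1
        apply h1
        rw [mem_zpowers_iff]
        exact ⟨k, rfl⟩
      rcases cases d k with ⟨i, rfl⟩ | ⟨i, rfl⟩
      · exact absurd (hx i) hkN
      · exact top_of_mem d K j i (hNK (hx 2)) (hNK hsN) hkK
    · -- `s = x^i y`
      have hAN : ∀ j, xp d (2 * j) ∈ N := by
        intro j
        have h1 : xp d (uinv d * j) * (xp d i * d.y) * (xp d (uinv d * j))⁻¹ ∈ N :=
          Subgroup.Normal.conj_mem inferInstance _ hsN _
        rw [conj_xp_xpy, one_sub_e] at h1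
        have h2 := N.mul_mem h1 (N.inv_mem hsN)
        have h3 : xp d (i + 2 * u d * (uinv d * j)) * d.y * (xp d i * d.y)⁻¹ = xp d (2 * j) := by
          rw [mul_inv_rev, mul_assoc, ← mul_assoc d.y, mul_inv_cancel, one_mul, xp_inv, xp_mul_xp]
          congr 1
          linear_combination (2 * j) * u_mul_uinv d
        rw [h3] at h2
        exact h2
      have h2N : xp d 2 ∈ N := by
        have := hAN 1
        rwa [mul_one] at this
      rcases cases d k with ⟨m, rfl⟩ | ⟨m, rfl⟩
      · rcases parity d m with ⟨j, rfl⟩ | ⟨j, rfl⟩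
        · exact absurd (hAN j) hkN
        · exact top_of_mem d K j i (hNK h2N) hkK (hNK hsN)
      · have h1 : xp d (m - i) ∈ K := by
          have h3 : xp d (m - i) = xp d m * d.y * (xp d i * d.y)⁻¹ := by
            rw [mul_inv_rev, mul_assoc, ← mul_assoc d.y, mul_inv_cancel, one_mul, xp_inv, xp_mul_xp]
            congr 1
            ring
          rw [h3]
          exact K.mul_mem hkK (K.inv_mem (hNK hsN))
        rcases parity d (m - i) with ⟨j, hj⟩ | ⟨j, hj⟩
        · exfalso
          apply hkN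
          have h3 : xp d m * d.y = xp d (2 * j) * (xp d i * d.y) := by
            rw [xp_mul_xpy, ← hj]
            congr 2
            ring
          rw [h3]
          exact N.mul_mem (hAN j) hsN
        · rw [hj] at h1
          exact top_of_mem d K j i (hNK h2N) h1 (hNK hsN)

end Cfsg.Agent.S1194
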