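import Mathlib
import Cfsg.Statements.S1192
import Cfsg.Agent.Lib.Helper6.QD
import Cfsg.Agent.Lib.Helper6.QDSub
import Cfsg.Agent.Lib.Helper6.QDQuat
import Cfsg.Agent.S1194
import Cfsg.Agent.S0012

set_option autoImplicit false
open Cfsg

namespace Cfsg.Agent.S1192

open Cfsg.Agent.Helper6.QD Cfsg.Agent.S1194

theorem even_ne_odd {S : Type*} [Group S] (d : Data S) (j k : ZMod (2 ^ d.n)) :
    2 * j ≠ 2 * k + 1 := by
  intro h
  apply half_ne_zero d
  have h1 : half d * (2 * j) = half d * (2 * k + 1) := by rw [h]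
  linear_combination (-1 : ZMod (2 ^ d.n)) * h1 + (j - k) * two_mul_half d

theorem xp_even_mem {S : Type*} [Group S] (d : Data S) (M : Subgroup S)
    (hA : Subgroup.zpowers (xp d 2) ≤ M) (j : ZMod (2 ^ d.n)) : xp d (2 * j) ∈ M := by
  apply hA
  rw [mem_zpowers_xp_two_iff]
  exact ⟨j, rfl⟩

theorem coatom_M1 {S : Type*} [Group S] (d : Data S) : IsCoatom (Subgroup.zpowers d.x) := by
  constructor
  · intro h
    have : d.y ∈ Subgroup.zpowers d.x := by rw [h]; exact Subgroup.mem_top _
    rw [mem_zpowers_iff] at this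
    obtain ⟨i, hi⟩ := this
    exact y_ne_xp d i hi
  · intro K hK
    obtain ⟨k, hkK, hkN⟩ := SetLike.exists_of_lt hK
    have hNK := le_of_lt hK
    have hx : ∀ i, xp d i ∈ K := fun i => hNK ((mem_zpowers_iff d _).mpr ⟨i, rfl⟩)
    rcases cases d k with ⟨i, rfl⟩ | ⟨i, rfl⟩
    · exact absurd ((mem_zpowers_iff d _).mpr ⟨i, rfl⟩) hkN
    · have h1 : xp d (2 * 0 + 1) ∈ K := hx _
      exact top_of_mem d K 0 i (hx 2) h1 hkK

theorem coatom_M3 {S : Type*} [Group S] (d : Data S) : IsCoatom (dihedralHom d).range := by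
  constructor
  · intro h
    have : xp d 1 ∈ (dihedralHom d).range := by rw [h]; exact Subgroup.mem_top _
    rw [mem_range_dihedralHom_iff] at this
    obtain ⟨j, hj | hj⟩ := this
    · have := xp_injective d hj
      apply even_ne_odd d j 0
      rw [← this]; ring
    · exact xp_ne_xp_mul_y d _ _ hj
  · intro K hK
    obtain ⟨k, hkK, hkN⟩ := SetLike.exists_of_lt hK
    have hNK := le_of_lt hK
    have h2 : xp d 2 ∈ K := by
      apply hNK
      rw [mem_range_dihedralHom_iff]
      exact ⟨1, Or.inl (by rw [mul_one])⟩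
    have hy : xp d 0 * d.y ∈ K := by
      apply hNK
      rw [mem_range_dihedralHom_iff]
      exact ⟨0, Or.inr (by rw [mul_zero])⟩
    rcases cases d k with ⟨m, rfl⟩ | ⟨m, rfl⟩
    · rcases parity d m with ⟨j, rfl⟩ | ⟨j, rfl⟩
      · exfalso; apply hkN
        rw [mem_range_dihedralHom_iff]
        exact ⟨j, Or.inl rfl⟩
      · exact top_of_mem d K j 0 h2 hkK hy
    · rcases parity d m with ⟨j, rfl⟩ | ⟨j, rfl⟩
      · exfalso; apply hkN
        rw [mem_range_dihedralHom_iff]
        exact ⟨j, Or.inr rfl⟩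
      · have h3 : xp d (2 * j + 1) ∈ K := by
          have h4 : xp d (2 * j + 1) = xp d (2 * j + 1) * d.y * (xp d 0 * d.y)⁻¹ := by
            rw [xp_zero, one_mul, mul_assoc, mul_inv_cancel, mul_one]
          rw [h4]
          exact K.mul_mem hkK (K.inv_mem hy)
        exact top_of_mem d K j 0 h2 h3 hy

theorem coatom_M2 {S : Type*} [Group S] (d : Data S) : IsCoatom (quatHom d).range := by
  constructor
  · intro h
    have : xp d 1 ∈ (quatHom d).range := by rw [h]; exact Subgroup.mem_top _
    rw [mem_range_quatHom_iff] at this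
    obtain ⟨j, hj | hj⟩ := this
    · have := xp_injective d hj
      apply even_ne_odd d j 0
      rw [← this]; ring
    · exact xp_ne_xp_mul_y d _ _ hj
  · intro K hK
    obtain ⟨k, hkK, hkN⟩ := SetLike.exists_of_lt hK
    have hNK := le_of_lt hK
    have h2 : xp d 2 ∈ K := by
      apply hNK
      rw [mem_range_quatHom_iff]
      exact ⟨1, Or.inl (by rw [mul_one])⟩
    have hy : xp d 1 * d.y ∈ K := by
      apply hNK
      rw [mem_range_quatHom_iff]
      exact ⟨0, Or.inr (by rw [mul_zero, zero_add])⟩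
    rcases cases d k with ⟨m, rfl⟩ | ⟨m, rfl⟩
    · rcases parity d m with ⟨j, rfl⟩ | ⟨j, rfl⟩
      · exfalso; apply hkN
        rw [mem_range_quatHom_iff]
        exact ⟨j, Or.inl rfl⟩
      · exact top_of_mem d K j 1 h2 hkK hy
    · rcases parity d m with ⟨j, rfl⟩ | ⟨j, rfl⟩
      · have h3 : xp d (2 * (j - 1) + 1) ∈ K := by
          have h4 : xp d (2 * (j - 1) + 1) = xp d (2 * j) * d.y * (xp d 1 * d.y)⁻¹ := by
            rw [mul_inv_rev, mul_assoc, ← mul_assoc d.y, mul_inv_cancel, one_mul, xp_inv,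
              xp_mul_xp]
            congr 1
            ring
          rw [h4]
          exact K.mul_mem hkK (K.inv_mem hy)
        exact top_of_mem d K (j - 1) 1 h2 h3 hy
      · exfalso; apply hkN
        rw [mem_range_quatHom_iff]
        exact ⟨j, Or.inr rfl⟩

/-- A quasi-dihedral group S of order 2^(n+1) has exactly three maximal subgroups; one is cyclic, one is isomorphic to the generalized quaternion group of order 2^n and one to the dihedral group of order 2^n. -/
theorem result {S : Type*} [Group S] [Finite S] (hS : Cfsg.IsQuasiDihedral S) (n : ℕ) (hn : Nat.card S = 2 ^ (n + 1)) : ∃ M₁ M₂ M₃ : Subgroup S, IsCoatom M₁ ∧ IsCoatom M₂ ∧ IsCoatom M₃ ∧ M₁ ≠ M₂ ∧ M₁ ≠ M₃ ∧ M₂ ≠ M₃ ∧ (∀ M : Subgroup S, IsCoatom M → M = M₁ ∨ M = M₂ ∨ M = M₃) ∧ IsCyclic M₁ ∧ Nonempty (M₂ ≃* QuaternionGroup (2 ^ (n - 2))) ∧ Nonempty (M₃ ≃* DihedralGroup (2 ^ (n - 1))) := by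
  obtain ⟨d⟩ := exists_data hS
  have hnd : n = d.n := by
    have h := d.card
    rw [hn] at h
    have := Nat.pow_right_injective (le_refl 2) h
    omega
  subst hnd
  have : Fact (Nat.Prime 2) := ⟨Nat.prime_two⟩
  have hP : IsPGroup 2 S := IsPGroup.of_card d.card
  have hx1 : xp d 1 ∈ Subgroup.zpowers d.x := (mem_zpowers_iff d _).mpr ⟨1, rfl⟩
  have hx1_2 : xp d 1 ∉ (quatHom d).range := by
    intro h
    rw [mem_range_quatHom_iff] at h
    obtain ⟨j, hj | hj⟩ := h
    · have := xp_injective d hj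
      apply even_ne_odd d j 0
      rw [← this]; ring
    · exact xp_ne_xp_mul_y d _ _ hj
  have hx1_3 : xp d 1 ∉ (dihedralHom d).range := by
    intro h
    rw [mem_range_dihedralHom_iff] at h
    obtain ⟨j, hj | hj⟩ := h
    · have := xp_injective d hj
      apply even_ne_odd d j 0
      rw [← this]; ring
    · exact xp_ne_xp_mul_y d _ _ hj
  have hy3 : xp d 0 * d.y ∈ (dihedralHom d).range := by
    rw [mem_range_dihedralHom_iff]
    exact ⟨0, Or.inr (by rw [mul_zero])⟩
  have hy2 : xp d 0 * d.y ∉ (quatHom d).range := by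
    intro h
    rw [mem_range_quatHom_iff] at h
    obtain ⟨j, hj | hj⟩ := h
    · exact xp_ne_xp_mul_y d _ _ hj.symm
    · have := xp_mul_y_injective d _ _ hj
      apply even_ne_odd d 0 j
      rw [← this]; ring
  refine ⟨Subgroup.zpowers d.x, (quatHom d).range, (dihedralHom d).range, coatom_M1 d,
    coatom_M2 d, coatom_M3 d, ?_, ?_, ?_, ?_, inferInstance,
    ⟨(MonoidHom.ofInjective (quatHom_injective d)).symm⟩,
    ⟨(MonoidHom.ofInjective (dihedralHom_injective d)).symm⟩⟩
  · intro h; rw [h] at hx1; exact hx1_2 hx1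
  · intro h; rw [h] at hx1; exact hx1_3 hx1
  · intro h; rw [← h] at hy3; exact hy2 hy3
  · intro M hM
    have hA : Subgroup.zpowers (xp d 2) ≤ M := by
      rw [← commutator_eq d]
      exact le_trans (Cfsg.Agent.S0012.result 2 hP).1 (frattini_le_coatom hM)
    by_cases hMA : M ≤ Subgroup.zpowers (xp d 2)
    · exfalso
      have hAM1 : Subgroup.zpowers (xp d 2) ≤ Subgroup.zpowers d.x := by
        rw [Subgroup.zpowers_le, xp_two]
        exact Subgroup.pow_mem _ (Subgroup.mem_zpowers _) _
      have h1 : M ≤ Subgroup.zpowers d.x := le_trans hMA hAM1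
      have h2 : Subgroup.zpowers d.x = M := (hM.le_iff_eq (coatom_M1 d).1).mp h1
      have h3 : xp d 1 ∈ Subgroup.zpowers (xp d 2) := hMA (h2 ▸ hx1)
      rw [mem_zpowers_xp_two_iff] at h3
      obtain ⟨j, hj⟩ := h3
      have := xp_injective d hj
      apply even_ne_odd d j 0
      rw [← this]; ring
    · obtain ⟨s, hsM, hsA⟩ := SetLike.not_le_iff_exists.mp hMA
      rcases cases d s with ⟨m, rfl⟩ | ⟨m, rfl⟩
      · rcases parity d m with ⟨j, rfl⟩ | ⟨j, rfl⟩
        · exact absurd ((mem_zpowers_xp_two_iff d _).mpr ⟨j, rfl⟩) hsA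
        · left
          have hx1M : xp d 1 ∈ M := by
            have : xp d 1 = xp d (2 * j + 1) * xp d (2 * (-j)) := by
              rw [xp_mul_xp]; congr 1; ring
            rw [this]
            exact M.mul_mem hsM (xp_even_mem d M hA _)
          have h1 : Subgroup.zpowers d.x ≤ M := by
            rw [Subgroup.zpowers_le, ← xp_one d]; exact hx1M
          exact (((coatom_M1 d).le_iff_eq hM.1).mp h1)
      · rcases parity d m with ⟨j, rfl⟩ | ⟨j, rfl⟩
        · right; right
          have h1 : (dihedralHom d).range ≤ M := by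
            intro t ht
            rw [mem_range_dihedralHom_iff] at ht
            obtain ⟨k, rfl | rfl⟩ := ht
            · exact xp_even_mem d M hA k
            · have : xp d (2 * k) * d.y = xp d (2 * (k - j)) * (xp d (2 * j) * d.y) := by
                rw [xp_mul_xpy]; congr 2; ring
              rw [this]
              exact M.mul_mem (xp_even_mem d M hA _) hsM
          exact (((coatom_M3 d).le_iff_eq hM.1).mp h1)
        · right; left
          have h1 : (quatHom d).range ≤ M := by
            intro t ht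
            rw [mem_range_quatHom_iff] at ht
            obtain ⟨k, rfl | rfl⟩ := ht
            · exact xp_even_mem d M hA k
            · have : xp d (2 * k + 1) * d.y = xp d (2 * (k - j)) * (xp d (2 * j + 1) * d.y) := by
                rw [xp_mul_xpy]; congr 2; ring
              rw [this]
              exact M.mul_mem (xp_even_mem d M hA _) hsM
          exact (((coatom_M2 d).le_iff_eq hM.1).mp h1)

end Cfsg.Agent.S1192
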