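import Mathlib
import Cfsg.Statements.S1193
import Cfsg.Agent.Lib.Helper6.QD
import Cfsg.Agent.Lib.Helper6.QDSub
import Cfsg.Agent.S0012
import Cfsg.Agent.S0013

set_option autoImplicit false
open Cfsg

namespace Cfsg.Agent.S1193

open Cfsg.Agent.Helper6.QD

/-- `S' = Φ(S)` is cyclic of order `2^(n-1)`, `|Z(S)| = 2`, and the involutions generate a dihedral group of order `2^n`. -/
theorem result {S : Type*} [Group S] [Finite S] (hS : Cfsg.IsQuasiDihedral S) (n : ℕ) (hn : Nat.card S = 2 ^ (n + 1)) : commutator S = frattini S ∧ IsCyclic (commutator S) ∧ Nat.card (commutator S) = 2 ^ (n - 1) ∧ Nat.card (Subgroup.center S) = 2 ∧ Nonempty (↥(Subgroup.closure {x : S | orderOf x = 2}) ≃* DihedralGroup (2 ^ (n - 1))) := by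
  obtain ⟨d⟩ := exists_data hS
  have hnd : n = d.n := by
    have h := d.card
    rw [hn] at h
    have := Nat.pow_right_injective (le_refl 2) h
    omega
  subst hnd
  have : Fact (Nat.Prime 2) := ⟨Nat.prime_two⟩
  have hP : IsPGroup 2 S := IsPGroup.of_card d.card
  have hcomm := commutator_eq d
  refine ⟨?_, ?_, ?_, ?_, ?_⟩
  · apply le_antisymm
    · exact (Cfsg.Agent.S0012.result 2 hP).1
    · rw [hcomm]
      have hnorm : (Subgroup.zpowers (xp d 2)).Normal := by
        rw [← hcomm]; infer_instance
      apply Cfsg.Agent.S0013.result 2 hP (Subgroup.zpowers (xp d 2))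
      · exact commutator_le d
      · intro s
        exact sq_mem d s
  · rw [hcomm]
    infer_instance
  · rw [hcomm, Nat.card_zpowers, orderOf_xp_two]
  · have hset : ((Subgroup.center S : Subgroup S) : Set S) = {1, z d} := by
      ext s
      simp only [SetLike.mem_coe, Set.mem_insert_iff, Set.mem_singleton_iff]
      exact mem_center_iff d s
    show Nat.card ↥((Subgroup.center S : Subgroup S) : Set S) = 2
    rw [hset, Nat.card_coe_set_eq, Set.ncard_pair (z_ne_one d).symm]
  · have hrange : Subgroup.closure {x : S | orderOf x = 2} = (dihedralHom d).range := by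
      apply le_antisymm
      · rw [Subgroup.closure_le]
        intro t ht
        have ht' : orderOf t = 2 := ht
        rw [SetLike.mem_coe, mem_range_dihedralHom_iff]
        rcases cases d t with ⟨i, rfl⟩ | ⟨i, rfl⟩
        · rw [orderOf_xp_eq_two_iff] at ht'
          refine ⟨quarter d, Or.inl ?_⟩
          rw [ht', two_mul_quarter]
        · rw [orderOf_xpy_eq_two_iff, half_mul_eq_zero_iff] at ht'
          obtain ⟨j, rfl⟩ := ht'
          exact ⟨j, Or.inr rfl⟩
      · intro s hs
        rw [mem_range_dihedralHom_iff] at hs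
        have hinv : ∀ j, xp d (2 * j) * d.y ∈ Subgroup.closure {x : S | orderOf x = 2} := by
          intro j
          apply Subgroup.subset_closure
          show orderOf (xp d (2 * j) * d.y) = 2
          rw [orderOf_xpy_eq_two_iff, half_mul_eq_zero_iff]
          exact ⟨j, rfl⟩
        have hy : d.y ∈ Subgroup.closure {x : S | orderOf x = 2} := Subgroup.subset_closure d.hy
        obtain ⟨j, rfl | rfl⟩ := hs
        · have : xp d (2 * j) = (xp d (2 * j) * d.y) * d.y := by
            rw [mul_assoc, y_mul_y, mul_one]
          rw [this]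
          exact Subgroup.mul_mem _ (hinv j) hy
        · exact hinv j
    exact ⟨(MulEquiv.subgroupCongr hrange).trans (MonoidHom.ofInjective (dihedralHom_injective d)).symm⟩

end Cfsg.Agent.S1193
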