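import Mathlib
import Cfsg.Statements.S1195
import Cfsg.Agent.Lib.Helper6.Wreathed

set_option autoImplicit false
open Cfsg

namespace Cfsg.Agent.S1195

open Cfsg.Agent.Helper6.Wr Cfsg.Agent.Helper6.Z2

/-- A wreathed 2-group has exactly three conjugacy classes of elements of order 2. -/
theorem result {S : Type*} [Group S] [Finite S] (hS : Cfsg.IsWreathed S) : Nat.card {C : ConjClasses S // ∃ t : S, orderOf t = 2 ∧ ConjClasses.mk t = C} = 3 := by
  obtain ⟨d⟩ := exists_data hS
  have h0 := half_ne_zero d.n (hn1 d)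
  set c := el d (half d.n) (half d.n) with hc
  set a := el d (half d.n) 0 with ha
  -- conjugates of elements of `A` stay in `A`
  have hconjA : ∀ g : S, ∀ i j, ∃ k l, g * el d i j * g⁻¹ = el d k l := by
    intro g i j
    rcases cases d g with ⟨k, l, rfl⟩ | ⟨k, l, rfl⟩
    · exact ⟨i, j, conj_el_el d k l i j⟩
    · exact ⟨j, i, conj_elz_el d k l i j⟩
  have hset : {C : ConjClasses S | ∃ t : S, orderOf t = 2 ∧ ConjClasses.mk t = C} =
      {ConjClasses.mk c, ConjClasses.mk a, ConjClasses.mk d.z} := by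
    ext C
    simp only [Set.mem_ofPred_eq, Set.mem_insert_iff, Set.mem_singleton_iff]
    constructor
    · rintro ⟨t, ht, rfl⟩
      rcases cases d t with ⟨i, j, rfl⟩ | ⟨i, j, rfl⟩
      · rw [orderOf_el_eq_two_iff] at ht
        rcases ht with ⟨rfl, rfl⟩ | ⟨rfl, rfl⟩ | ⟨rfl, rfl⟩
        · right; left; rfl
        · right; left
          rw [ConjClasses.mk_eq_mk_iff_isConj, isConj_iff]
          exact ⟨d.z, conj_z_el d _ _⟩
        · left; rfl
      · rw [orderOf_elz_eq_two_iff] at ht
        right; right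
        rw [ConjClasses.mk_eq_mk_iff_isConj, isConj_iff]
        refine ⟨el d (-i) 0, ?_⟩
        rw [conj_el_elz]
        have hj : j = -i := by linear_combination ht
        rw [hj]
        have h1 : el d (i + -i - 0) (-i + 0 - -i) = 1 := by
          rw [el_eq_one_iff]; constructor <;> ring
        rw [h1, one_mul]
    · rintro (rfl | rfl | rfl)
      · refine ⟨c, ?_, rfl⟩
        rw [hc, orderOf_el_eq_two_iff]
        right; right; exact ⟨rfl, rfl⟩
      · refine ⟨a, ?_, rfl⟩
        rw [ha, orderOf_el_eq_two_iff]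
        left; exact ⟨rfl, rfl⟩
      · exact ⟨d.z, d.hz, rfl⟩
  have h12 : ConjClasses.mk c ≠ ConjClasses.mk a := by
    intro h
    rw [ConjClasses.mk_eq_mk_iff_isConj, isConj_iff] at h
    obtain ⟨g, hg⟩ := h
    have h1 : g * c * g⁻¹ = c := by
      rcases cases d g with ⟨k, l, rfl⟩ | ⟨k, l, rfl⟩
      · exact conj_el_el d k l _ _
      · exact conj_elz_el d k l _ _
    rw [h1] at hg
    have := (el_injective d _ _ _ _ hg).2
    exact h0 this
  have hz : ∀ i j, ConjClasses.mk (el d i j) ≠ ConjClasses.mk d.z := by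
    intro i j h
    rw [ConjClasses.mk_eq_mk_iff_isConj, isConj_iff] at h
    obtain ⟨g, hg⟩ := h
    obtain ⟨k, l, hkl⟩ := hconjA g i j
    rw [hkl] at hg
    apply z_not_mem_A d
    rw [← hg]
    exact el_mem_A d k l
  show Nat.card ↥{C : ConjClasses S | ∃ t : S, orderOf t = 2 ∧ ConjClasses.mk t = C} = 3
  rw [Nat.card_coe_set_eq, hset, Set.ncard_eq_three]
  exact ⟨_, _, _, h12, hz _ _, hz _ _, rfl⟩

end Cfsg.Agent.S1195
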