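import Mathlib
import Cfsg.Statements.S1196
import Cfsg.Agent.Lib.Helper6.Wreathed

set_option autoImplicit false
open Cfsg

namespace Cfsg.Agent.S1196

open Cfsg.Agent.Helper6.Wr in
theorem eq_A_of_comm {S : Type*} [Group S] [Finite S] (d : Data S) (U : Subgroup S)
    (hU : ∀ a ∈ U, ∀ b ∈ U, a * b = b * a) (hcard : Nat.card U = 2 ^ (2 * d.n)) : U = A d := by
  by_contra hne
  have hnot : ¬ U ≤ A d := by
    intro hle
    apply hne
    apply Subgroup.eq_of_le_of_card_ge hle
    rw [hcard, card_A]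
  obtain ⟨u, huU, huA⟩ := SetLike.not_le_iff_exists.1 hnot
  obtain ⟨k, l, hkl⟩ : ∃ k l, u = el d k l * d.z := by
    rcases cases d u with h | h
    · exact absurd h huA
    · exact h
  let g : Bool × ZMod (2 ^ d.n) → S := fun p => if p.1 then el d p.2 p.2 * u else el d p.2 p.2
  have hsub : (U : Set S) ⊆ Set.range g := by
    intro s hs
    have hcomm := hU s hs u huU
    rcases cases d s with ⟨i, j, rfl⟩ | ⟨i, j, rfl⟩
    · rw [hkl, el_mul_elz, elz_mul_el] at hcomm
      have h1 := (elz_injective d _ _ _ _ hcomm).1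
      have hij : i = j := by
        have : i + k = j + k := by rw [h1]; ring
        exact add_right_cancel this
      refine ⟨(false, i), ?_⟩
      simp only [g, Bool.false_eq_true, if_false]
      rw [hij]
    · rw [hkl, elz_mul_elz, elz_mul_elz] at hcomm
      have h1 := (el_injective d _ _ _ _ hcomm).1
      refine ⟨(true, i - k), ?_⟩
      simp only [g, if_true]
      rw [hkl, el_mul_elz]
      congr 2
      · ring
      · have : j = k + j - k := by ring
        rw [← h1] at this
        rw [this]; ring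
  have h1 : Nat.card U ≤ Nat.card (Bool × ZMod (2 ^ d.n)) := by
    calc Nat.card U = Nat.card (U : Set S) := rfl
      _ ≤ Nat.card (Set.range g) := Nat.card_mono (Set.toFinite _) hsub
      _ ≤ Nat.card (Bool × ZMod (2 ^ d.n)) := Finite.card_range_le g
  have : NeZero (2 ^ d.n) := ⟨by positivity⟩
  rw [hcard, Nat.card_prod, Nat.card_zmod, Nat.card_eq_fintype_card, Fintype.card_bool,
    ← pow_succ'] at h1
  have h2 := (Nat.pow_le_pow_iff_right (by norm_num : 1 < 2)).1 h1
  have := d.hn
  omega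

open Cfsg.Agent.Helper6.Wr in
theorem A_comm {S : Type*} [Group S] (d : Data S) : ∀ a ∈ A d, ∀ b ∈ A d, a * b = b * a := by
  rintro _ ⟨i, j, rfl⟩ _ ⟨k, l, rfl⟩
  rw [el_mul_el, el_mul_el, add_comm i k, add_comm j l]

open Cfsg.Agent.Helper6.Wr in
/-- `A ≅ Z_{2^n} × Z_{2^n}` -/
theorem nonempty_A_equiv {S : Type*} [Group S] (d : Data S) :
    Nonempty (↥(A d) ≃* Multiplicative (ZMod (2 ^ d.n) × ZMod (2 ^ d.n))) := by
  let f : Multiplicative (ZMod (2 ^ d.n) × ZMod (2 ^ d.n)) →* ↥(A d) :=
    { toFun := fun p => ⟨el d (Multiplicative.toAdd p).1 (Multiplicative.toAdd p).2, el_mem_A d _ _⟩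
      map_one' := Subtype.ext (el_zero d)
      map_mul' := fun p q => Subtype.ext (el_mul_el d _ _ _ _).symm }
  have hbij : Function.Bijective f := by
    constructor
    · intro p q h
      have h1 : el d (Multiplicative.toAdd p).1 (Multiplicative.toAdd p).2 =
          el d (Multiplicative.toAdd q).1 (Multiplicative.toAdd q).2 := congrArg Subtype.val h
      obtain ⟨h2, h3⟩ := el_injective d _ _ _ _ h1
      exact Multiplicative.toAdd.injective (Prod.ext h2 h3)
    · rintro ⟨s, i, j, rfl⟩
      exact ⟨Multiplicative.ofAdd (i, j), rfl⟩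
  exact ⟨(MulEquiv.ofBijective f hbij).symm⟩

/-- A wreathed 2-group S of order 2^(2n+1) has a unique commutative subgroup of order 2^(2n), and this subgroup is isomorphic to the direct product of two cyclic groups of order 2^n. -/
theorem result {S : Type*} [Group S] [Finite S] (hS : Cfsg.IsWreathed S) (n : ℕ) (hn : Nat.card S = 2 ^ (2 * n + 1)) : (∃! U : Subgroup S, IsMulCommutative U ∧ Nat.card U = 2 ^ (2 * n)) ∧ ∀ U : Subgroup S, IsMulCommutative U → Nat.card U = 2 ^ (2 * n) → Nonempty (U ≃* Multiplicative (ZMod (2 ^ n) × ZMod (2 ^ n))) := by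
  obtain ⟨d⟩ := Cfsg.Agent.Helper6.Wr.exists_data hS
  have hdn : d.n = n := by
    have h := d.card
    rw [hn] at h
    have := Nat.pow_right_injective (le_refl 2) h
    omega
  subst hdn
  have key : ∀ U : Subgroup S, IsMulCommutative U → Nat.card U = 2 ^ (2 * d.n) →
      U = Cfsg.Agent.Helper6.Wr.A d := by
    intro U hU hc
    apply eq_A_of_comm d U _ hc
    intro a ha b hb
    have := hU.is_comm.comm ⟨a, ha⟩ ⟨b, hb⟩
    exact congrArg Subtype.val this
  refine ⟨⟨Cfsg.Agent.Helper6.Wr.A d, ⟨⟨⟨fun a b => ?_⟩⟩, Cfsg.Agent.Helper6.Wr.card_A d⟩,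
    fun U hU => key U hU.1 hU.2⟩, ?_⟩
  · exact Subtype.ext (A_comm d a.1 a.2 b.1 b.2)
  · intro U hU hc
    rw [key U hU hc]
    exact nonempty_A_equiv d

end Cfsg.Agent.S1196
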