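import Mathlib
import Cfsg.Statements.S1197
import Cfsg.Agent.Lib.Helper6.Wreathed
import Cfsg.Agent.Lib.Helper6.WreathedSub

set_option autoImplicit false
open Cfsg

namespace Cfsg.Agent.S1197

open Cfsg.Agent.Helper6.Wr Cfsg.Agent.Helper6.Z2 Cfsg.Agent.Helper3

/-- Let S be a wreathed 2-group of order 2^(2n+1). Then Z(S) is cyclic of order 2^n, the derived subgroup S' is cyclic of order 2^n, and S/Z(S) is isomorphic to the dihedral group of order 2^(n+1). -/
theorem result {S : Type*} [Group S] [Finite S] (hS : Cfsg.IsWreathed S) (n : ℕ) (hn : Nat.card S = 2 ^ (2 * n + 1)) : IsCyclic (Subgroup.center S) ∧ Nat.card (Subgroup.center S) = 2 ^ n ∧ IsCyclic (commutator S) ∧ Nat.card (commutator S) = 2 ^ n ∧ Nonempty (S ⧸ Subgroup.center S ≃* DihedralGroup (2 ^ n)) := by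
  obtain ⟨d⟩ := exists_data hS
  have hnd : n = d.n := by
    have h := d.card
    rw [hn] at h
    have := Nat.pow_right_injective (le_refl 2) h
    omega
  subst hnd
  refine ⟨?_, card_center d, ?_, ?_, ?_⟩
  · rw [center_eq d]; infer_instance
  · rw [commutator_eq d]; infer_instance
  · rw [commutator_eq d]; exact card_B d
  · -- the quotient by the centre
    let Z := Subgroup.center S
    let mk : S →* S ⧸ Z := QuotientGroup.mk' Z
    have hmk_eq : ∀ a b : S, a⁻¹ * b ∈ Z → mk a = mk b := by
      intro a b h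
      exact QuotientGroup.eq.mpr h
    have h1 : (mk d.x) ^ (2 ^ d.n) = 1 := by
      rw [← map_pow, x_pow, map_one]
    have h2 : mk d.z * mk d.z = 1 := by
      rw [← map_mul, z_mul_z, map_one]
    have h3 : mk d.z * mk d.x * mk d.z = (mk d.x)⁻¹ := by
      rw [← map_mul, ← map_mul, ← map_inv]
      apply hmk_eq
      have h4 : d.z * d.x * d.z = el d 0 1 := by
        have := d.hconj
        rw [z_inv] at this
        rw [this, el_y]
      rw [h4, ← el_x d, el_inv, el_inv, el_mul_el]
      exact (mem_center_iff d _).mpr ⟨-1, by congr 1 <;> ring⟩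
    let f : DihedralGroup (2 ^ d.n) →* S ⧸ Z := dihedralLift (mk d.x) (mk d.z) h1 h2 h3
    have hxp : ∀ k : ZMod (2 ^ d.n), zmodPow (mk d.x) k = mk (el d k 0) := by
      intro k
      unfold zmodPow
      rw [← map_pow]
      congr 1
      unfold el
      rw [yp_zero, mul_one]
      rfl
    have hsurj : Function.Surjective f := by
      intro q
      obtain ⟨s, rfl⟩ := QuotientGroup.mk'_surjective Z q
      rcases cases d s with ⟨i, j, rfl⟩ | ⟨i, j, rfl⟩
      · refine ⟨DihedralGroup.r (i - j), ?_⟩
        show zmodPow (mk d.x) (i - j) = mk (el d i j)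
        rw [hxp]
        apply hmk_eq
        rw [el_inv, el_mul_el]
        exact (mem_center_iff d _).mpr ⟨j, by congr 1 <;> ring⟩
      · refine ⟨DihedralGroup.sr (j - i), ?_⟩
        show mk d.z * zmodPow (mk d.x) (j - i) = mk (el d i j * d.z)
        rw [hxp, ← map_mul]
        apply hmk_eq
        rw [z_el, elz_inv, elz_mul_elz]
        exact (mem_center_iff d _).mpr ⟨i, by congr 1 <;> ring⟩
    have hcard : Nat.card (DihedralGroup (2 ^ d.n)) ≤ Nat.card (S ⧸ Z) := by
      rw [DihedralGroup.nat_card]
      have h5 := Subgroup.card_mul_index Z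
      rw [card_center d, d.card] at h5
      have h6 : Nat.card (S ⧸ Z) = Z.index := rfl
      rw [h6]
      have h7 : 2 ^ (2 * d.n + 1) = 2 ^ d.n * (2 * 2 ^ d.n) := by ring
      rw [h7] at h5
      have h8 : 0 < 2 ^ d.n := by positivity
      have := Nat.eq_of_mul_eq_mul_left h8 h5
      omega
    have hbij : Function.Bijective f := hsurj.bijective_of_nat_card_le hcard
    exact ⟨(MulEquiv.ofBijective f hbij).symm⟩

end Cfsg.Agent.S1197
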