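import Mathlib
import Cfsg.Statements.S1198
import Cfsg.Agent.Lib.Helper6.Wreathed

set_option autoImplicit false
open Cfsg

namespace Cfsg.Agent.S1198


theorem exists_four {S : Type*} [Group S] (u v : S) (hu : u * u = 1) (hv : v * v = 1)
    (huv : u * v = v * u) (hu1 : u ≠ 1) (hv1 : v ≠ 1) (hne : u ≠ v) :
    ∃ V : Subgroup S, IsKleinFour V ∧ ∀ s, s ∈ V ↔ s = 1 ∨ s = u ∨ s = v ∨ s = u * v := by
  classical
  have huinv : u⁻¹ = u := inv_eq_of_mul_eq_one_left hu
  have hvinv : v⁻¹ = v := inv_eq_of_mul_eq_one_left hv
  have e1 : u * (u * v) = v := by rw [← mul_assoc, hu, one_mul]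
  have e2 : v * (u * v) = u := by rw [huv, ← mul_assoc, hv, one_mul]
  have e3 : u * v * u = v := by rw [huv, mul_assoc, hu, mul_one]
  have e4 : u * v * v = u := by rw [mul_assoc, hv, mul_one]
  have e5 : u * v * (u * v) = 1 := by rw [mul_assoc, e2, hu]
  let V : Subgroup S :=
    { carrier := {s | s = 1 ∨ s = u ∨ s = v ∨ s = u * v}
      one_mem' := Or.inl rfl
      mul_mem' := by
        rintro x y (rfl | rfl | rfl | rfl) (rfl | rfl | rfl | rfl)
        · left; rw [one_mul]
        · right; left; rw [one_mul]
        · right; right; left; rw [one_mul]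
        · right; right; right; rw [one_mul]
        · right; left; rw [mul_one]
        · left; exact hu
        · right; right; right; rfl
        · right; right; left; exact e1
        · right; right; left; rw [mul_one]
        · right; right; right; exact huv.symm
        · left; exact hv
        · right; left; exact e2
        · right; right; right; rw [mul_one]
        · right; right; left; exact e3
        · right; left; exact e4
        · left; exact e5
      inv_mem' := by
        rintro x (rfl | rfl | rfl | rfl)
        · left; exact inv_one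
        · right; left; exact huinv
        · right; right; left; exact hvinv
        · right; right; right; exact inv_eq_of_mul_eq_one_left e5 }
  have hmem : ∀ s, s ∈ V ↔ s = 1 ∨ s = u ∨ s = v ∨ s = u * v := fun s => Iff.rfl
  refine ⟨V, ?_, hmem⟩
  have huv1 : u * v ≠ 1 := by
    intro h
    apply hne
    have : u = v⁻¹ := eq_inv_of_mul_eq_one_left h
    rw [this, hvinv]
  have huvu : u * v ≠ u := by
    intro h
    apply hv1
    have := mul_left_cancel (h.trans (mul_one u).symm)
    exact this
  have huvv : u * v ≠ v := by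
    intro h
    apply hu1
    have := mul_right_cancel (h.trans (one_mul v).symm)
    exact this
  have hcard : Nat.card V = 4 := by
    have h1 : Nat.card V = ({1, u, v, u * v} : Finset S).card := by
      rw [← Fintype.card_coe, ← Nat.card_eq_fintype_card]
      apply Nat.card_congr
      apply Equiv.subtypeEquivRight
      intro x
      simp only [Finset.mem_insert, Finset.mem_singleton]
      exact hmem x
    rw [h1]
    rw [Finset.card_insert_of_notMem, Finset.card_insert_of_notMem, Finset.card_insert_of_notMem,
      Finset.card_singleton]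
    · simp only [Finset.mem_singleton]; exact fun h => huvv h.symm
    · simp only [Finset.mem_insert, Finset.mem_singleton]
      rintro (h | h)
      · exact hne h
      · exact huvu h.symm
    · simp only [Finset.mem_insert, Finset.mem_singleton]
      rintro (h | h | h)
      · exact hu1 h.symm
      · exact hv1 h.symm
      · exact huv1 h.symm
  have : Nontrivial V := ⟨⟨⟨u, Or.inr (Or.inl rfl)⟩, 1, fun h => hu1 (congrArg Subtype.val h)⟩⟩
  refine ⟨hcard, ?_⟩
  rw [Monoid.exponent_eq_prime_iff Nat.prime_two]
  rintro ⟨g, hg⟩ hg1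
  apply orderOf_eq_prime
  · apply Subtype.ext
    show g ^ 2 = 1
    rw [pow_two]
    rcases hg with rfl | rfl | rfl | rfl
    · rw [one_mul]
    · exact hu
    · exact hv
    · exact e5
  · exact hg1

open Cfsg.Agent.Helper6.Wr Cfsg.Agent.Helper6.Z2

/-- A wreathed 2-group S has a normal Klein four-subgroup T such that every Klein four-subgroup of S other than T is conjugate in S to any other such subgroup; in particular S has exactly two conjugacy classes of Klein four-subgroups. -/
theorem result {S : Type*} [Group S] [Finite S] (hS : Cfsg.IsWreathed S) : ∃ T : Subgroup S, IsKleinFour T ∧ T.Normal ∧ (∃ T₀ : Subgroup S, IsKleinFour T₀ ∧ T₀ ≠ T) ∧ ∀ T₁ T₂ : Subgroup S, IsKleinFour T₁ → IsKleinFour T₂ → T₁ ≠ T → T₂ ≠ T → ∃ s : S, T₁.map (MulAut.conj s).toMonoidHom = T₂ := by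
  classical
  obtain ⟨d⟩ := exists_data hS
  have hn1 := hn1 d
  obtain ⟨h, hh⟩ : ∃ h : ZMod (2 ^ d.n), h = half d.n := ⟨_, rfl⟩
  have hhh : h + h = 0 := by rw [hh]; exact half_add_half d.n hn1
  have hh0 : h ≠ 0 := by rw [hh]; exact half_ne_zero d.n hn1
  have h2iff : ∀ i : ZMod (2 ^ d.n), 2 * i = 0 ↔ i = 0 ∨ i = h := by
    intro i; rw [hh]; exact two_mul_eq_zero_iff d.n hn1 i
  obtain ⟨a, ha⟩ : ∃ a, a = el d h 0 := ⟨_, rfl⟩
  obtain ⟨b, hb⟩ : ∃ b, b = el d 0 h := ⟨_, rfl⟩
  obtain ⟨c, hc⟩ : ∃ c, c = el d h h := ⟨_, rfl⟩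
  have hab : a * b = c := by rw [ha, hb, hc, el_mul_el, add_zero, zero_add]
  have hba : a * b = b * a := by rw [ha, hb, el_mul_el, el_mul_el, add_zero, zero_add]
  have haa : a * a = 1 := by rw [ha, el_mul_el, hhh, add_zero, el_zero]
  have hbb : b * b = 1 := by rw [hb, el_mul_el, hhh, add_zero, el_zero]
  have hcc : c * c = 1 := by rw [hc, el_mul_el, hhh, el_zero]
  have ha1 : a ≠ 1 := by
    rw [ha]; intro h1; exact hh0 ((el_eq_one_iff d _ _).1 h1).1
  have hb1 : b ≠ 1 := by
    rw [hb]; intro h1; exact hh0 ((el_eq_one_iff d _ _).1 h1).2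
  have hc1 : c ≠ 1 := by
    rw [hc]; intro h1; exact hh0 ((el_eq_one_iff d _ _).1 h1).1
  have hane : a ≠ b := by
    rw [ha, hb]; intro h1; exact hh0 (el_injective d _ _ _ _ h1).1
  have hz' : d.z = el d 0 0 * d.z := by rw [el_zero, one_mul]
  obtain ⟨T, hT4, hTmem⟩ := exists_four a b haa hbb hba ha1 hb1 hane
  have hTmem' : ∀ s, s ∈ T ↔ s = 1 ∨ s = a ∨ s = b ∨ s = c := by
    intro s; rw [hTmem, hab]
  have hTcard : Nat.card T = 4 := hT4.card_four
  refine ⟨T, hT4, ?_, ?_, ?_⟩
  · -- normality
    refine ⟨fun s hs g => ?_⟩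
    rw [hTmem'] at hs ⊢
    rcases cases d g with ⟨k, l, rfl⟩ | ⟨k, l, rfl⟩
    · rcases hs with rfl | rfl | rfl | rfl
      · left; group
      · right; left; rw [ha, conj_el_el]
      · right; right; left; rw [hb, conj_el_el]
      · right; right; right; rw [hc, conj_el_el]
    · rcases hs with rfl | rfl | rfl | rfl
      · left; group
      · right; right; left; rw [ha, conj_elz_el, hb]
      · right; left; rw [hb, conj_elz_el, ha]
      · right; right; right; rw [hc, conj_elz_el]
  · -- another four-group
    have hzz : d.z * d.z = 1 := z_mul_z d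
    have hcz : c * d.z = d.z * c := by rw [hc, z_el]
    have hcne : c ≠ d.z := by
      rw [hc, hz']; exact el_ne_elz d _ _ _ _
    obtain ⟨T₀, hT₀4, hT₀mem⟩ := exists_four c d.z hcc hzz hcz hc1 (z_ne_one d) hcne
    refine ⟨T₀, hT₀4, ?_⟩
    intro heq
    have hzT : d.z ∈ T := by
      rw [← heq, hT₀mem]; right; right; left; rfl
    rw [hTmem'] at hzT
    rcases hzT with h1 | h1 | h1 | h1
    · exact z_ne_one d h1
    · rw [ha, hz'] at h1; exact el_ne_elz d _ _ _ _ h1.symm
    · rw [hb, hz'] at h1; exact el_ne_elz d _ _ _ _ h1.symm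
    · rw [hc, hz'] at h1; exact el_ne_elz d _ _ _ _ h1.symm
  · -- conjugacy
    have key : ∀ V : Subgroup S, IsKleinFour V → V ≠ T → ∃ i : ZMod (2 ^ d.n),
        ∀ s, s ∈ V ↔ s = 1 ∨ s = c ∨ s = el d i (-i) * d.z ∨ s = c * (el d i (-i) * d.z) := by
      intro V hV hVT
      have hVsq : ∀ v ∈ V, v * v = 1 := fun v hv => by
        have := IsKleinFour.mul_self (⟨v, hv⟩ : V)
        exact congrArg Subtype.val this
      have hVcomm : ∀ u ∈ V, ∀ v ∈ V, u * v = v * u := by
        intro u hu v hv
        have h1 := hVsq _ (V.mul_mem hu hv)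
        have h2 := hVsq u hu
        have h3 := hVsq v hv
        calc u * v = u * v * (v * u * (u * v)) := by
              rw [show v * u * (u * v) = v * (u * u) * v by group, h2, mul_one, h3, mul_one]
          _ = (u * v * (u * v)) * (v * u) := by
              rw [show u * v * (v * u * (u * v)) = u * (v * v) * u * (u * v) by group, h3, mul_one,
                h2, one_mul, h1, one_mul]
              rw [show u * v = (u * v) * 1 by rw [mul_one], ← h1]
              rw [show u * v * (u * v * (u * v)) = (u * v * (u * v)) * (u * v) by group, h1, one_mul]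
              have : v * u = (u * v)⁻¹ := by
                rw [mul_inv_rev, inv_eq_of_mul_eq_one_left h2, inv_eq_of_mul_eq_one_left h3]
              rw [this, inv_eq_of_mul_eq_one_left h1]
          _ = v * u := by rw [h1, one_mul]
      have hVcard : Nat.card V = 4 := hV.card_four
      -- an element outside the abelian subgroup
      have hout : ∃ t ∈ V, ∃ i j, t = el d i j * d.z := by
        by_contra hcon
        push Not at hcon
        apply hVT
        apply Subgroup.eq_of_le_of_card_ge
        · intro v hv
          rcases cases d v with ⟨p, r, hpr⟩ | ⟨p, r, hpr⟩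
          · have h1 := hVsq v hv
            rw [hpr, el_sq, el_eq_one_iff, h2iff, h2iff] at h1
            rw [hTmem', hpr, ha, hb, hc]
            rcases h1 with ⟨rfl | rfl, rfl | rfl⟩
            · left; exact el_zero d
            · right; right; left; rfl
            · right; left; rfl
            · right; right; right; rfl
          · exact absurd hpr (hcon v hv p r)
        · rw [hTcard, hVcard]
      obtain ⟨t, htV, i, j, ht⟩ := hout
      have hij : j = -i := by
        have h1 := hVsq t htV
        rw [ht, elz_sq, el_eq_one_iff] at h1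
        exact eq_neg_of_add_eq_zero_right h1.1
      subst hij
      have htt : t * t = 1 := hVsq t htV
      have ht1 : t ≠ 1 := by rw [ht]; exact elz_ne_one d _ _
      -- `c ∈ V`
      have hcV : c ∈ V := by
        obtain ⟨u, huV, hu1, hut⟩ : ∃ u ∈ V, u ≠ 1 ∧ u ≠ t := by
          by_contra hcon
          push Not at hcon
          have hle : V ≤ Subgroup.zpowers t := by
            intro u hu
            by_cases hu1 : u = 1
            · rw [hu1]; exact Subgroup.one_mem _
            · rw [hcon u hu hu1]; exact Subgroup.mem_zpowers t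
          have h1 := Subgroup.card_le_of_le hle
          rw [Nat.card_zpowers, hVcard, orderOf_eq_prime (by rw [pow_two]; exact htt) ht1] at h1
          omega
        obtain ⟨w, hwV, hw1, p, r, hw⟩ : ∃ w ∈ V, w ≠ 1 ∧ ∃ p r, w = el d p r := by
          rcases cases d u with ⟨p, r, hpr⟩ | ⟨p, r, hpr⟩
          · exact ⟨u, huV, hu1, p, r, hpr⟩
          · refine ⟨t * u, V.mul_mem htV huV, ?_, i + r, -i + p, ?_⟩
            · intro h1
              apply hut
              have : u = t⁻¹ := eq_inv_of_mul_eq_one_right h1
              rw [this, inv_eq_of_mul_eq_one_left htt]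
            · rw [ht, hpr, elz_mul_elz]
        have h1 := hVcomm w hwV t htV
        rw [hw, ht, el_mul_elz, elz_mul_el] at h1
        have h2 := (elz_injective d _ _ _ _ h1).1
        have h3 : p = r := by
          have : i + p = i + r := by rw [add_comm i p, h2]
          exact add_left_cancel this
        subst h3
        have h4 := hVsq w hwV
        rw [hw, el_sq, el_eq_one_iff, h2iff] at h4
        rcases h4.1 with rfl | rfl
        · exact absurd (by rw [hw, el_zero]) hw1
        · rw [hc, ← hw]; exact hwV
      have hct : c * t = t * c := hVcomm c hcV t htV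
      have hcne : c ≠ t := by
        rw [hc, ht]; exact el_ne_elz d _ _ _ _
      obtain ⟨W, hW4, hWmem⟩ := exists_four c t hcc htt hct hc1 ht1 hcne
      have hWV : W = V := by
        apply Subgroup.eq_of_le_of_card_ge
        · intro s hs
          rw [hWmem] at hs
          rcases hs with rfl | rfl | rfl | rfl
          · exact V.one_mem
          · exact hcV
          · exact htV
          · exact V.mul_mem hcV htV
        · rw [hVcard, hW4.card_four]
      refine ⟨i, fun s => ?_⟩
      rw [← hWV, hWmem, ht]
    intro T₁ T₂ hT₁ hT₂ hT₁T hT₂T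
    obtain ⟨i₁, h₁⟩ := key T₁ hT₁ hT₁T
    obtain ⟨i₂, h₂⟩ := key T₂ hT₂ hT₂T
    refine ⟨el d (i₂ - i₁) 0, ?_⟩
    have hconjt : el d (i₂ - i₁) 0 * (el d i₁ (-i₁) * d.z) * (el d (i₂ - i₁) 0)⁻¹
        = el d i₂ (-i₂) * d.z := by
      rw [conj_el_elz]
      congr 2 <;> ring
    have hconjc : el d (i₂ - i₁) 0 * c * (el d (i₂ - i₁) 0)⁻¹ = c := by
      rw [hc, conj_el_el]
    apply Subgroup.eq_of_le_of_card_ge
    · rw [Subgroup.map_le_iff_le_comap]
      intro v hv
      rw [Subgroup.mem_comap]
      show el d (i₂ - i₁) 0 * v * (el d (i₂ - i₁) 0)⁻¹ ∈ T₂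
      rw [h₁] at hv
      rw [h₂]
      rcases hv with rfl | rfl | rfl | rfl
      · left; group
      · right; left; exact hconjc
      · right; right; left; exact hconjt
      · right; right; right
        calc el d (i₂ - i₁) 0 * (c * (el d i₁ (-i₁) * d.z)) * (el d (i₂ - i₁) 0)⁻¹
            = (el d (i₂ - i₁) 0 * c * (el d (i₂ - i₁) 0)⁻¹)
              * (el d (i₂ - i₁) 0 * (el d i₁ (-i₁) * d.z) * (el d (i₂ - i₁) 0)⁻¹) := by group
          _ = c * (el d i₂ (-i₂) * d.z) := by rw [hconjc, hconjt]
    · rw [Subgroup.card_map_of_injective (MulAut.conj (el d (i₂ - i₁) 0)).injective,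
        hT₁.card_four, hT₂.card_four]

end Cfsg.Agent.S1198
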