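import Mathlib
import Cfsg.Statements.S1199
import Cfsg.Agent.Lib.Helper6.Wreathed
import Cfsg.Agent.Lib.Helper6.WreathedSub
import Cfsg.Agent.Lib.Helper6.WreathedCoords
import Cfsg.Agent.Lib.Helper6.QuaternionLift
import Cfsg.Agent.Lib.Helper6.QuatFacts

set_option autoImplicit false
open Cfsg

namespace Cfsg.Agent.S1199

open Cfsg.Agent.Helper6.Wr Cfsg.Agent.Helper6.Z2 Cfsg.Agent.Helper6 Cfsg.Agent.Helper3
open Cfsg.Agent.Helper6.Quat

variable {S : Type*} [Group S]

/-- the generalized quaternion subgroup `{x^i y^j z^ε : i + j = ε 2^(n-1)}` -/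
def Y0 (d : Data S) : Subgroup S where
  carrier := {s | (∃ i j, i + j = 0 ∧ s = el d i j) ∨
    (∃ i j, i + j = half d.n ∧ s = el d i j * d.z)}
  mul_mem' := by
    have hh := half_add_half d.n (hn1 d)
    rintro _ _ (⟨i, j, h, rfl⟩ | ⟨i, j, h, rfl⟩) (⟨k, l, h', rfl⟩ | ⟨k, l, h', rfl⟩)
    · left; exact ⟨_, _, by linear_combination h + h', el_mul_el d i j k l⟩
    · right; exact ⟨_, _, by linear_combination h + h', el_mul_elz d i j k l⟩
    · right; exact ⟨_, _, by linear_combination h + h', elz_mul_el d i j k l⟩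
    · left; exact ⟨_, _, by linear_combination h + h' + hh, elz_mul_elz d i j k l⟩
  one_mem' := Or.inl ⟨0, 0, by ring, (el_zero d).symm⟩
  inv_mem' := by
    have hh := half_add_half d.n (hn1 d)
    rintro _ (⟨i, j, h, rfl⟩ | ⟨i, j, h, rfl⟩)
    · left; exact ⟨_, _, by linear_combination -h, el_inv d i j⟩
    · right; exact ⟨_, _, by linear_combination -h - hh, elz_inv d i j⟩

theorem el_mem_Y0 (d : Data S) (i j : ZMod (2 ^ d.n)) (h : i + j = 0) : el d i j ∈ Y0 d :=
  Or.inl ⟨i, j, h, rfl⟩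

theorem elz_mem_Y0 (d : Data S) (i j : ZMod (2 ^ d.n)) (h : i + j = half d.n) :
    el d i j * d.z ∈ Y0 d := Or.inr ⟨i, j, h, rfl⟩

theorem toS_mem_Y0 (d : Data S) (p : ZMod (2 ^ d.n) × ZMod (2 ^ d.n) × Bool) :
    toS d p ∈ (Y0 d : Set S) ↔ p.1 + p.2.1 = (if p.2.2 then half d.n else 0) := by
  obtain ⟨i, j, ε⟩ := p
  cases ε
  · rw [toS_false]
    constructor
    · rintro (⟨k, l, h, h'⟩ | ⟨k, l, h, h'⟩)
      · obtain ⟨h1, h2⟩ := el_injective d _ _ _ _ h'
        show i + j = _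
        rw [h1, h2]; simpa using h
      · exact absurd h' (el_ne_elz d _ _ _ _)
    · intro h; exact el_mem_Y0 d i j (by simpa using h)
  · rw [toS_true]
    constructor
    · rintro (⟨k, l, h, h'⟩ | ⟨k, l, h, h'⟩)
      · exact absurd h'.symm (el_ne_elz d _ _ _ _)
      · obtain ⟨h1, h2⟩ := elz_injective d _ _ _ _ h'
        show i + j = _
        rw [h1, h2]; simpa using h
    · intro h; exact elz_mem_Y0 d i j (by simpa using h)

theorem card_Y0 [Finite S] (d : Data S) : Nat.card (Y0 d) = 2 ^ (d.n + 1) := by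
  have h1 := card_eq_card_coords d (Y0 d : Set S)
    (fun p => p.1 + p.2.1 = (if p.2.2 then half d.n else 0)) (toS_mem_Y0 d)
  have e : {p : ZMod (2 ^ d.n) × ZMod (2 ^ d.n) × Bool //
      p.1 + p.2.1 = (if p.2.2 then half d.n else 0)} ≃ ZMod (2 ^ d.n) × Bool :=
    { toFun := fun p => (p.1.1, p.1.2.2)
      invFun := fun q => ⟨(q.1, (if q.2 then half d.n else 0) - q.1, q.2), by
        show q.1 + ((if q.2 then half d.n else 0) - q.1) = _
        ring⟩
      left_inv := by
        rintro ⟨⟨i, j, ε⟩, h⟩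
        apply Subtype.ext
        have h' : i + j = (if ε then half d.n else 0) := h
        show (i, (if ε then half d.n else 0) - i, ε) = (i, j, ε)
        rw [← h']
        congr 2
        ring
      right_inv := by
        rintro ⟨i, ε⟩
        rfl }
  have h2 : Nat.card (Y0 d) = Nat.card ↥(Y0 d : Set S) := rfl
  rw [h2, h1, Nat.card_congr e, Nat.card_prod, Nat.card_zmod, Nat.card_eq_fintype_card,
    Fintype.card_bool, pow_succ]

/-- every generalized quaternion subgroup lies in `Y0` -/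
theorem le_Y0 [Finite S] (d : Data S) (Y : Subgroup S) (c : S) (hY : QuatLike Y c) : Y ≤ Y0 d := by
  -- squares lie in `A`
  have hsqA : ∀ w : S, w * w ∈ A d := by
    intro w
    rcases cases d w with ⟨i, j, rfl⟩ | ⟨i, j, rfl⟩
    · rw [el_sq]; exact el_mem_A d _ _
    · rw [elz_sq]; exact el_mem_A d _ _
  have hcA : c ∈ A d := by
    obtain ⟨w, -, hw⟩ := hY.is_sq
    rw [← hw]; exact hsqA w
  -- elements of `Y` outside `A`
  have hout : ∀ v ∈ Y, v ∉ A d → v ∈ Y0 d := by
    intro v hv hvA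
    rcases cases d v with ⟨k, l, rfl⟩ | ⟨k, l, rfl⟩
    · exact absurd (el_mem_A d k l) hvA
    have hsq : el d k l * d.z * (el d k l * d.z) = el d (k + l) (k + l) := elz_sq d k l
    have hsqY : el d (k + l) (k + l) ∈ Y := hsq ▸ Y.mul_mem hv hv
    have hcen : ∀ t ∈ Y, t * el d (k + l) (k + l) = el d (k + l) (k + l) * t := by
      intro t _
      exact (Subgroup.mem_center_iff.mp ((mem_center_iff d _).mpr ⟨k + l, rfl⟩)) t
    rcases hY.central _ hsqY hcen with h1 | h1
    · exfalso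
      rw [h1] at hsq
      rcases hY.invol _ hv hsq with h2 | h2
      · exact elz_ne_one d k l h2
      · exact hvA (h2 ▸ hcA)
    · apply elz_mem_Y0
      have h2 := hY.sq_one
      rw [← h1, el_sq, el_eq_one_iff] at h2
      rcases (two_mul_eq_zero_iff d.n (hn1 d) _).mp h2.1 with h3 | h3
      · exfalso
        apply hY.ne_one
        rw [← h1, h3, el_zero]
      · exact h3
  -- some element of `Y` lies outside `A`
  have hex : ∃ v ∈ Y, v ∉ A d := by
    by_contra hcon
    push Not at hcon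
    obtain ⟨q, hq, t, ht, hqt⟩ := hY.nonab
    obtain ⟨i, j, rfl⟩ := hcon q hq
    obtain ⟨k, l, rfl⟩ := hcon t ht
    apply hqt
    rw [el_mul_el, el_mul_el, add_comm i k, add_comm j l]
  obtain ⟨v, hv, hvA⟩ := hex
  intro h hh
  by_cases hhA : h ∈ A d
  · have h1 : h * v⁻¹ ∉ A d := by
      intro hcon
      apply hvA
      have : v = (h * v⁻¹)⁻¹ * h := by group
      rw [this]
      exact (A d).mul_mem ((A d).inv_mem hcon) hhA
    have h2 : h = h * v⁻¹ * v := by group
    rw [h2]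
    exact (Y0 d).mul_mem (hout _ (Y.mul_mem hh (Y.inv_mem hv)) h1) (hout v hv hvA)
  · exact hout h hh hhA

instance (d : Data S) : NeZero (2 ^ (d.n - 1)) := ⟨by positivity⟩

theorem two_mul_pow (d : Data S) : 2 * 2 ^ (d.n - 1) = 2 ^ d.n :=
  (two_pow_split d.n (hn1 d)).symm

theorem natCast_two_pow (d : Data S) : ((2 ^ d.n : ℕ) : ZMod (2 ^ d.n)) = 0 :=
  ZMod.natCast_self _

theorem g_pow (d : Data S) : (el d 1 (-1)) ^ (2 * 2 ^ (d.n - 1)) = 1 := by
  rw [two_mul_pow, el_pow, natCast_two_pow, zero_mul, zero_mul, el_zero]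

theorem s_sq (d : Data S) :
    el d (half d.n) 0 * d.z * (el d (half d.n) 0 * d.z) = (el d 1 (-1)) ^ (2 ^ (d.n - 1)) := by
  rw [elz_sq, el_pow]
  have h : ((2 ^ (d.n - 1) : ℕ) : ZMod (2 ^ d.n)) = half d.n := rfl
  rw [h, mul_one, mul_neg, mul_one, neg_half d.n (hn1 d), add_zero]

theorem s_conj (d : Data S) :
    el d (half d.n) 0 * d.z * el d 1 (-1) * (el d (half d.n) 0 * d.z)⁻¹ = (el d 1 (-1))⁻¹ := by
  rw [conj_elz_el, el_inv, neg_neg]

/-- the embedding of the generalized quaternion group -/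
noncomputable def quatHom (d : Data S) : QuaternionGroup (2 ^ (d.n - 1)) →* S :=
  quaternionLift (el d 1 (-1)) (el d (half d.n) 0 * d.z) (g_pow d) (s_sq d) (s_conj d)

theorem zmodPow_g (d : Data S) (k : ZMod (2 * 2 ^ (d.n - 1))) :
    zmodPow (el d 1 (-1)) k = el d (k.val : ZMod (2 ^ d.n)) (-(k.val : ZMod (2 ^ d.n))) := by
  unfold zmodPow
  rw [el_pow, mul_one, mul_neg, mul_one]

theorem quatHom_injective (d : Data S) : Function.Injective (quatHom d) := by
  rw [injective_iff_map_eq_one]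
  rintro (k | k) h
  · have h1 : zmodPow (el d 1 (-1)) k = 1 := h
    rw [zmodPow_g, el_eq_one_iff, ZMod.natCast_eq_zero_iff] at h1
    have h2 : k.val < 2 ^ d.n := by
      have h5 := ZMod.val_lt k
      have h6 := two_mul_pow d
      omega
    have h3 : k.val = 0 := Nat.eq_zero_of_dvd_of_lt h1.1 h2
    have h4 : k = 0 := (ZMod.val_eq_zero k).mp h3
    rw [h4]; rfl
  · exfalso
    have h1 : el d (half d.n) 0 * d.z * zmodPow (el d 1 (-1)) k = 1 := h
    rw [zmodPow_g, elz_mul_el] at h1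
    exact elz_ne_one d _ _ h1

theorem range_le (d : Data S) : (quatHom d).range ≤ Y0 d := by
  rintro _ ⟨(k | k), rfl⟩
  · show zmodPow (el d 1 (-1)) k ∈ Y0 d
    rw [zmodPow_g]
    exact el_mem_Y0 d _ _ (by ring)
  · show el d (half d.n) 0 * d.z * zmodPow (el d 1 (-1)) k ∈ Y0 d
    rw [zmodPow_g, elz_mul_el]
    exact elz_mem_Y0 d _ _ (by ring)

theorem card_quat (d : Data S) : Nat.card (QuaternionGroup (2 ^ (d.n - 1))) = 2 ^ (d.n + 1) := by
  rw [Nat.card_eq_fintype_card, QuaternionGroup.card]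
  have := two_mul_pow d
  rw [pow_succ]
  omega

theorem range_eq [Finite S] (d : Data S) : (quatHom d).range = Y0 d := by
  apply Subgroup.eq_of_le_of_card_ge (range_le d)
  rw [card_Y0, Nat.card_congr (MonoidHom.ofInjective (quatHom_injective d)).toEquiv.symm, card_quat]

/-- A wreathed 2-group S of order 2^(2n+1) has exactly one subgroup of order 2^(n+1) isomorphic to a generalized quaternion group, and that subgroup is normal in S. -/
theorem result {S : Type*} [Group S] [Finite S] (hS : Cfsg.IsWreathed S) (n : ℕ) (hn : Nat.card S = 2 ^ (2 * n + 1)) : (∃! Y : Subgroup S, Nat.card Y = 2 ^ (n + 1) ∧ Nonempty (Y ≃* QuaternionGroup (2 ^ (n - 1)))) ∧ ∀ Y : Subgroup S, Nat.card Y = 2 ^ (n + 1) → Nonempty (Y ≃* QuaternionGroup (2 ^ (n - 1))) → Y.Normal := by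
  obtain ⟨d⟩ := exists_data hS
  have hnd : n = d.n := by
    have h := d.card
    rw [hn] at h
    have := Nat.pow_right_injective (le_refl 2) h
    omega
  subst hnd
  have hm : 2 ≤ 2 ^ (d.n - 1) := by
    have h := d.hn
    calc 2 = 2 ^ 1 := by norm_num
      _ ≤ 2 ^ (d.n - 1) := Nat.pow_le_pow_right (by norm_num) (by omega)
  have huniq : ∀ Y : Subgroup S, Nat.card Y = 2 ^ (d.n + 1) →
      Nonempty (Y ≃* QuaternionGroup (2 ^ (d.n - 1))) → Y = Y0 d := by
    rintro Y hcard ⟨φ⟩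
    obtain ⟨c, hc⟩ := quatLike_of_equiv hm Y φ
    apply Subgroup.eq_of_le_of_card_ge (le_Y0 d Y c hc)
    rw [card_Y0, hcard]
  have hiso : Nonempty (Y0 d ≃* QuaternionGroup (2 ^ (d.n - 1))) := by
    rw [← range_eq d]
    exact ⟨(MonoidHom.ofInjective (quatHom_injective d)).symm⟩
  refine ⟨⟨Y0 d, ⟨card_Y0 d, hiso⟩, fun Y hY => huniq Y hY.1 hY.2⟩, ?_⟩
  intro Y hcard hY
  -- normality from uniqueness
  have hY0 := huniq Y hcard hY
  constructor
  intro a ha g
  obtain ⟨φ⟩ := hY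
  let e : Y ≃* (Y.map (MulAut.conj g).toMonoidHom) :=
    Y.equivMapOfInjective _ (MulAut.conj g).injective
  have h1 : Y.map (MulAut.conj g).toMonoidHom = Y0 d := by
    apply huniq
    · rw [← Nat.card_congr e.toEquiv, hcard]
    · exact ⟨e.symm.trans φ⟩
  have h2 : g * a * g⁻¹ ∈ Y.map (MulAut.conj g).toMonoidHom :=
    Subgroup.mem_map.mpr ⟨a, ha, by simp⟩
  rw [h1, ← hY0] at h2
  exact h2

end Cfsg.Agent.S1199
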