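import Mathlib
import Cfsg.Statements.S1200
import Cfsg.Agent.Lib.Helper6.Wreathed
import Cfsg.Agent.Lib.Helper6.WreathedCoords

set_option autoImplicit false
open Cfsg

namespace Cfsg.Agent.S1200

open Cfsg.Agent.Helper6.Wr Cfsg.Agent.Helper6.Z2

/-- the subgroup `{x^i y^j z^ε : 2(i+j) = 0}` -/
def W {S : Type*} [Group S] (d : Data S) : Subgroup S where
  carrier := {s | (∃ i j, 2 * (i + j) = 0 ∧ s = el d i j) ∨
    (∃ i j, 2 * (i + j) = 0 ∧ s = el d i j * d.z)}
  mul_mem' := by
    rintro _ _ (⟨i, j, h, rfl⟩ | ⟨i, j, h, rfl⟩) (⟨k, l, h', rfl⟩ | ⟨k, l, h', rfl⟩)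
    · left; exact ⟨_, _, by linear_combination h + h', el_mul_el d i j k l⟩
    · right; exact ⟨_, _, by linear_combination h + h', el_mul_elz d i j k l⟩
    · right; exact ⟨_, _, by linear_combination h + h', elz_mul_el d i j k l⟩
    · left; exact ⟨_, _, by linear_combination h + h', elz_mul_elz d i j k l⟩
  one_mem' := Or.inl ⟨0, 0, by ring, (el_zero d).symm⟩
  inv_mem' := by
    rintro _ (⟨i, j, h, rfl⟩ | ⟨i, j, h, rfl⟩)
    · left; exact ⟨_, _, by linear_combination -h, el_inv d i j⟩
    · right; exact ⟨_, _, by linear_combination -h, elz_inv d i j⟩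

theorem el_mem_W {S : Type*} [Group S] (d : Data S) (i j : ZMod (2 ^ d.n)) (h : 2 * (i + j) = 0) :
    el d i j ∈ W d := Or.inl ⟨i, j, h, rfl⟩

theorem elz_mem_W {S : Type*} [Group S] (d : Data S) (i j : ZMod (2 ^ d.n))
    (h : 2 * (i + j) = 0) : el d i j * d.z ∈ W d := Or.inr ⟨i, j, h, rfl⟩

theorem toS_mem_W {S : Type*} [Group S] (d : Data S)
    (p : ZMod (2 ^ d.n) × ZMod (2 ^ d.n) × Bool) :
    toS d p ∈ (W d : Set S) ↔ 2 * (p.1 + p.2.1) = 0 := by
  obtain ⟨i, j, ε⟩ := p
  cases ε
  · rw [toS_false]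
    constructor
    · rintro (⟨k, l, h, h'⟩ | ⟨k, l, h, h'⟩)
      · obtain ⟨h1, h2⟩ := el_injective d _ _ _ _ h'
        show 2 * (i + j) = 0
        rw [h1, h2]; exact h
      · exact absurd h' (el_ne_elz d _ _ _ _)
    · intro h; exact el_mem_W d i j h
  · rw [toS_true]
    constructor
    · rintro (⟨k, l, h, h'⟩ | ⟨k, l, h, h'⟩)
      · exact absurd h'.symm (el_ne_elz d _ _ _ _)
      · obtain ⟨h1, h2⟩ := elz_injective d _ _ _ _ h'
        show 2 * (i + j) = 0
        rw [h1, h2]; exact h
    · intro h; exact elz_mem_W d i j h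

theorem card_W {S : Type*} [Group S] [Finite S] (d : Data S) : Nat.card (W d) = 2 ^ (d.n + 2) := by
  have h1 := card_eq_card_coords d (W d : Set S) (fun p => 2 * (p.1 + p.2.1) = 0) (toS_mem_W d)
  have e : {p : ZMod (2 ^ d.n) × ZMod (2 ^ d.n) × Bool // 2 * (p.1 + p.2.1) = 0} ≃
      {c : ZMod (2 ^ d.n) // 2 * c = 0} × ZMod (2 ^ d.n) × Bool :=
    { toFun := fun p => (⟨p.1.1 + p.1.2.1, p.2⟩, p.1.1, p.1.2.2)
      invFun := fun q => ⟨(q.2.1, q.1.1 - q.2.1, q.2.2), by
        show 2 * (q.2.1 + (q.1.1 - q.2.1)) = 0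
        have := q.1.2
        linear_combination this⟩
      left_inv := by
        rintro ⟨⟨i, j, ε⟩, h⟩
        simp
      right_inv := by
        rintro ⟨⟨c, hc⟩, i, ε⟩
        simp }
  have h2 : Nat.card (W d) = Nat.card ↥(W d : Set S) := rfl
  rw [h2, h1, Nat.card_congr e, Nat.card_prod, Nat.card_prod, card_two_torsion, Nat.card_zmod,
    Nat.card_eq_fintype_card, Fintype.card_bool]
  ring

/-- Let S be a wreathed 2-group of order 2^(2n+1) and Ω the subgroup generated by its involutions. Then Ω has order 2^(n+2) and S/Ω is cyclic: some s ∈ S together with Ω generates S. -/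
theorem result {S : Type*} [Group S] [Finite S] (hS : Cfsg.IsWreathed S) (n : ℕ) (hn : Nat.card S = 2 ^ (2 * n + 1)) : Nat.card (Subgroup.closure {x : S | orderOf x = 2}) = 2 ^ (n + 2) ∧ ∃ s : S, Subgroup.closure {x : S | orderOf x = 2} ⊔ Subgroup.zpowers s = ⊤ := by
  obtain ⟨d⟩ := exists_data hS
  have hnd : n = d.n := by
    have h := d.card
    rw [hn] at h
    have := Nat.pow_right_injective (le_refl 2) h
    omega
  subst hnd
  have hhalf := two_mul_half d.n (hn1 d)
  have hΩ : Subgroup.closure {x : S | orderOf x = 2} = W d := by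
    apply le_antisymm
    · rw [Subgroup.closure_le]
      intro t ht
      have ht' : orderOf t = 2 := ht
      rcases cases d t with ⟨i, j, rfl⟩ | ⟨i, j, rfl⟩
      · rw [orderOf_el_eq_two_iff] at ht'
        apply el_mem_W
        rcases ht' with ⟨rfl, rfl⟩ | ⟨rfl, rfl⟩ | ⟨rfl, rfl⟩
        · linear_combination hhalf
        · linear_combination hhalf
        · linear_combination 2 * hhalf
      · rw [orderOf_elz_eq_two_iff] at ht'
        apply elz_mem_W
        rw [ht', mul_zero]
    · have hz : d.z ∈ Subgroup.closure {x : S | orderOf x = 2} := Subgroup.subset_closure d.hz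
      have hanti : ∀ i, el d i (-i) ∈ Subgroup.closure {x : S | orderOf x = 2} := by
        intro i
        have h1 : el d i (-i) * d.z ∈ Subgroup.closure {x : S | orderOf x = 2} := by
          apply Subgroup.subset_closure
          show orderOf (el d i (-i) * d.z) = 2
          rw [orderOf_elz_eq_two_iff, add_neg_cancel]
        have h2 : el d i (-i) = el d i (-i) * d.z * d.z := by
          rw [mul_assoc, z_mul_z, mul_one]
        rw [h2]
        exact Subgroup.mul_mem _ h1 hz
      have hh : el d 0 (half d.n) ∈ Subgroup.closure {x : S | orderOf x = 2} := by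
        apply Subgroup.subset_closure
        show orderOf (el d 0 (half d.n)) = 2
        rw [orderOf_el_eq_two_iff]
        right; left; exact ⟨rfl, rfl⟩
      have hel : ∀ i j, 2 * (i + j) = 0 → el d i j ∈ Subgroup.closure {x : S | orderOf x = 2} := by
        intro i j h
        rcases (two_mul_eq_zero_iff d.n (hn1 d) _).mp h with h0 | h0
        · have : j = -i := by linear_combination h0
          rw [this]; exact hanti i
        · have h1 : el d i j = el d i (-i) * el d 0 (half d.n) := by
            rw [el_mul_el]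
            congr 1
            · ring
            · linear_combination h0
          rw [h1]
          exact Subgroup.mul_mem _ (hanti i) hh
      rintro s (⟨i, j, h, rfl⟩ | ⟨i, j, h, rfl⟩)
      · exact hel i j h
      · exact Subgroup.mul_mem _ (hel i j h) hz
  rw [hΩ]
  refine ⟨card_W d, el d 1 0, ?_⟩
  rw [eq_top_iff]
  intro s _
  have hx : ∀ k : ZMod (2 ^ d.n), el d k 0 ∈ Subgroup.zpowers (el d 1 0) := by
    intro k
    have : el d k 0 = (el d 1 0) ^ k.val := by
      rw [el_x]
      unfold el xp Cfsg.Agent.Helper3.zmodPow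
      rw [yp_zero, mul_one]
    rw [this]
    exact Subgroup.pow_mem _ (Subgroup.mem_zpowers _) _
  rcases cases d s with ⟨i, j, rfl⟩ | ⟨i, j, rfl⟩
  · have h1 : el d i j = el d (-j) j * el d (i + j) 0 := by
      rw [el_mul_el]; congr 1 <;> ring
    rw [h1]
    exact Subgroup.mul_mem_sup (el_mem_W d _ _ (by ring)) (hx _)
  · have h1 : el d i j * d.z = el d i (-i) * d.z * el d (i + j) 0 := by
      rw [elz_mul_el]; congr 2 <;> ring
    rw [h1]
    exact Subgroup.mul_mem_sup (elz_mem_W d _ _ (by ring)) (hx _)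

end Cfsg.Agent.S1200
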