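import Mathlib
import Cfsg.Statements.S1201
import Cfsg.Agent.Lib.Helper6.Wreathed

set_option autoImplicit false
open Cfsg

namespace Cfsg.Agent.S1201

/-- If X is a non-commutative subgroup of a wreathed 2-group S, then Z(X) ≤ Z(S). -/
theorem result {S : Type*} [Group S] [Finite S] (hS : Cfsg.IsWreathed S) (X : Subgroup S) (hX : ¬ IsMulCommutative X) : (Subgroup.center X).map X.subtype ≤ Subgroup.center S := by
  classical
  obtain ⟨d⟩ := Cfsg.Agent.Helper6.Wr.exists_data hS
  -- diagonal elements are central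
  have hdiag : ∀ i : ZMod (2 ^ d.n), Cfsg.Agent.Helper6.Wr.el d i i ∈ Subgroup.center S := by
    intro i
    rw [Subgroup.mem_center_iff]
    intro g
    rcases Cfsg.Agent.Helper6.Wr.cases d g with ⟨k, l, rfl⟩ | ⟨k, l, rfl⟩
    · rw [Cfsg.Agent.Helper6.Wr.el_mul_el, Cfsg.Agent.Helper6.Wr.el_mul_el, add_comm k i,
        add_comm l i]
    · rw [Cfsg.Agent.Helper6.Wr.elz_mul_el, Cfsg.Agent.Helper6.Wr.el_mul_elz, add_comm k i,
        add_comm l i]
  rintro c hc
  obtain ⟨⟨c', hcX⟩, hcen, rfl⟩ := Subgroup.mem_map.1 hc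
  have hcomm : ∀ g ∈ X, g * c' = c' * g := by
    intro g hg
    have := (Subgroup.mem_center_iff.1 hcen) ⟨g, hg⟩
    exact congrArg Subtype.val this
  show c' ∈ Subgroup.center S
  rcases Cfsg.Agent.Helper6.Wr.cases d c' with ⟨i, j, rfl⟩ | ⟨i, j, rfl⟩
  · -- `c'` in the abelian subgroup
    by_cases hXA : ∃ t ∈ X, ∃ k l, t = Cfsg.Agent.Helper6.Wr.el d k l * d.z
    · obtain ⟨t, ht, k, l, rfl⟩ := hXA
      have h1 := hcomm _ ht
      rw [Cfsg.Agent.Helper6.Wr.elz_mul_el, Cfsg.Agent.Helper6.Wr.el_mul_elz] at h1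
      have h2 := (Cfsg.Agent.Helper6.Wr.elz_injective d _ _ _ _ h1).1
      have h3 : j = i := by
        have : k + j = k + i := by rw [h2, add_comm]
        exact add_left_cancel this
      rw [h3]
      exact hdiag i
    · exfalso
      apply hX
      refine ⟨⟨fun a b => ?_⟩⟩
      apply Subtype.ext
      show (a : S) * (b : S) = (b : S) * (a : S)
      rcases Cfsg.Agent.Helper6.Wr.cases d (a : S) with ⟨k, l, ha⟩ | ⟨k, l, ha⟩
      · rcases Cfsg.Agent.Helper6.Wr.cases d (b : S) with ⟨p, r, hb⟩ | ⟨p, r, hb⟩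
        · rw [ha, hb, Cfsg.Agent.Helper6.Wr.el_mul_el, Cfsg.Agent.Helper6.Wr.el_mul_el, add_comm k p,
            add_comm l r]
        · exact absurd ⟨b, b.2, p, r, hb⟩ hXA
      · exact absurd ⟨a, a.2, k, l, ha⟩ hXA
  · -- `c'` outside the abelian subgroup
    exfalso
    apply hX
    have hA : ∀ a ∈ X, ∀ p r, a = Cfsg.Agent.Helper6.Wr.el d p r → a ∈ Subgroup.center S := by
      intro a ha p r hpr
      have h1 := hcomm a ha
      rw [hpr, Cfsg.Agent.Helper6.Wr.el_mul_elz, Cfsg.Agent.Helper6.Wr.elz_mul_el] at h1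
      have h2 := (Cfsg.Agent.Helper6.Wr.elz_injective d _ _ _ _ h1).1
      have h3 : p = r := by
        have : i + p = i + r := by rw [add_comm i p, h2]
        exact add_left_cancel this
      rw [hpr, h3]
      exact hdiag r
    have hcases : ∀ a ∈ X, a ∈ Subgroup.center S ∨
        a * (Cfsg.Agent.Helper6.Wr.el d i j * d.z)⁻¹ ∈ Subgroup.center S := by
      intro a ha
      rcases Cfsg.Agent.Helper6.Wr.cases d a with ⟨p, r, hpr⟩ | ⟨p, r, hpr⟩
      · left; exact hA a ha p r hpr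
      · right
        apply hA _ (X.mul_mem ha (X.inv_mem hcX)) (p + -i) (r + -j)
        rw [hpr, Cfsg.Agent.Helper6.Wr.elz_inv, Cfsg.Agent.Helper6.Wr.elz_mul_elz]
    refine ⟨⟨fun a b => ?_⟩⟩
    apply Subtype.ext
    show (a : S) * (b : S) = (b : S) * (a : S)
    obtain ⟨c, hc⟩ : ∃ c : S, c = Cfsg.Agent.Helper6.Wr.el d i j * d.z := ⟨_, rfl⟩
    rw [← hc] at hcases
    rcases hcases a a.2 with ha | ha
    · exact ((Subgroup.mem_center_iff.1 ha) b).symm
    · rcases hcases b b.2 with hb | hb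
      · exact (Subgroup.mem_center_iff.1 hb) a
      · have ha' : (a : S) = (a * c⁻¹) * c := by group
        have hb' : (b : S) = (b * c⁻¹) * c := by group
        have e1 := Subgroup.mem_center_iff.1 ha
        have e2 := Subgroup.mem_center_iff.1 hb
        rw [ha', hb']
        calc (a : S) * c⁻¹ * c * ((b : S) * c⁻¹ * c)
            = ((a : S) * c⁻¹) * (c * ((b : S) * c⁻¹)) * c := by group
          _ = ((a : S) * c⁻¹) * (((b : S) * c⁻¹) * c) * c := by rw [e2 c]
          _ = (((a : S) * c⁻¹) * ((b : S) * c⁻¹)) * c * c := by group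
          _ = (((b : S) * c⁻¹) * ((a : S) * c⁻¹)) * c * c := by rw [e1 ((b : S) * c⁻¹)]
          _ = ((b : S) * c⁻¹) * (((a : S) * c⁻¹) * c) * c := by group
          _ = ((b : S) * c⁻¹) * (c * ((a : S) * c⁻¹)) * c := by rw [e1 c]
          _ = (b : S) * c⁻¹ * c * ((a : S) * c⁻¹ * c) := by group

end Cfsg.Agent.S1201
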