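import Mathlib
import Cfsg.Agent.Lib.Helper22.WrSelfCentMain
import Cfsg.Statements.S1202
-- import your own Cfsg.Agent.* helpers here

set_option autoImplicit false
open Cfsg

namespace Cfsg.Agent.S1202


/-- Let S be a wreathed 2-group of order 2^(2n+1) and X a subgroup with C_S(X) ≤ X such that Aut(X) is not a 2-group. Then |N_S(X) : X| = 2, and either X is the commutative subgroup of order 2^(2n), or X = Q·Z(S) for some subgroup Q ≅ Q₈; in the latter case any two such subgroups are conjugate in S. -/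
theorem result {S : Type*} [Group S] [Finite S] (hS : Cfsg.IsWreathed S) (n : ℕ) (hn : Nat.card S = 2 ^ (2 * n + 1)) (X : Subgroup S) (hC : Subgroup.centralizer (X : Set S) ≤ X) (hA : ¬ IsPGroup 2 (MulAut X)) : X.relIndex (Subgroup.normalizer (X : Set S)) = 2 ∧ ((IsMulCommutative X ∧ Nat.card X = 2 ^ (2 * n)) ∨ ∃ Q : Subgroup S, Nonempty (Q ≃* QuaternionGroup 2) ∧ X = Q ⊔ Subgroup.center S) ∧ ∀ X' : Subgroup S, Subgroup.centralizer (X' : Set S) ≤ X' → ¬ IsPGroup 2 (MulAut X') → ¬ IsMulCommutative X → ¬ IsMulCommutative X' → ∃ s : S, X.map (MulAut.conj s).toMonoidHom = X' := by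
  obtain ⟨d⟩ := Cfsg.Agent.Helper6.Wr.exists_data hS
  have hdn : d.n = n := by
    have h1 := d.card
    rw [hn] at h1
    have h2 := Nat.pow_right_injective (le_refl 2) h1
    omega
  have key : ∀ Y : Subgroup S, Subgroup.centralizer (Y : Set S) ≤ Y → ¬ IsPGroup 2 (MulAut Y) →
      Y = Cfsg.Agent.Helper6.Wr.A d ∨ ∃ k', Y = Cfsg.Agent.Helper6.Wr.VV d k' :=
    fun Y h1 h2 => Cfsg.Agent.Helper22.WrSC.classify d Y h1 h2
  rcases key X hC hA with rfl | ⟨k, rfl⟩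
  · refine ⟨Cfsg.Agent.Helper22.WrSC.relIndex_A d,
      Or.inl ⟨Cfsg.Agent.Helper22.WrSC.isMulCommutative_A d, by
        rw [Cfsg.Agent.Helper6.Wr.card_A, hdn]⟩, ?_⟩
    intro X' _ _ h _
    exact absurd (Cfsg.Agent.Helper22.WrSC.isMulCommutative_A d) h
  · refine ⟨Cfsg.Agent.Helper22.WrSC.relIndex_VV d k,
      Or.inr ⟨Cfsg.Agent.Helper22.WrSC.QQ d k, Cfsg.Agent.Helper22.WrSC.QQ_equiv d k,
        Cfsg.Agent.Helper22.WrSC.VV_eq_sup d k⟩, ?_⟩
    intro X' hC' hA' _ hX'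
    rcases key X' hC' hA' with rfl | ⟨k2, rfl⟩
    · exact absurd (Cfsg.Agent.Helper22.WrSC.isMulCommutative_A d) hX'
    · exact ⟨Cfsg.Agent.Helper6.Wr.el d (k2 - k) 0, Cfsg.Agent.Helper22.WrSC.conj_VV d k k2⟩

end Cfsg.Agent.S1202
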