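import Mathlib
import Cfsg.Agent.Lib.Helper22.QDCent
import Cfsg.Agent.Lib.Helper22.WrCent
import Cfsg.Statements.S1213
-- import your own Cfsg.Agent.* helpers here

set_option autoImplicit false
open Cfsg

namespace Cfsg.Agent.S1213

open Cfsg.Agent.Helper6 Cfsg.Agent.Helper22.SubT
open scoped Pointwise

theorem mem_smul_sylow_iff {G : Type*} [Group G] [Finite G] (S : Sylow 2 G) (g m : G) :
    m ∈ ((g • S : Sylow 2 G) : Subgroup G) ↔ ∃ s ∈ (S : Subgroup G), g * s * g⁻¹ = m := by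
  change m ∈ MulAut.conj g • (S : Subgroup G) ↔ _
  rw [Subgroup.mem_smul_pointwise_iff_exists]
  simp only [MulAut.smul_def, MulAut.conj_apply]

/-- a central element of `S` becomes central in the conjugate Sylow subgroup -/
theorem conj_mem_center {G : Type*} [Group G] [Finite G] (S : Sylow 2 G) (c x g : G)
    (hc : c ∈ (S : Subgroup G)) (hcc : ∀ s ∈ (S : Subgroup G), s * c = c * s)
    (hg : g * c * g⁻¹ = x) :
    ∃ hx : x ∈ ((g • S : Sylow 2 G) : Subgroup G),
      (⟨x, hx⟩ : ↥((g • S : Sylow 2 G) : Subgroup G)) ∈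
        Subgroup.center ↥((g • S : Sylow 2 G) : Subgroup G) := by
  have hx : x ∈ ((g • S : Sylow 2 G) : Subgroup G) :=
    (mem_smul_sylow_iff S g x).mpr ⟨c, hc, hg⟩
  refine ⟨hx, ?_⟩
  rw [Subgroup.mem_center_iff]
  rintro ⟨t, ht⟩
  obtain ⟨s, hs, rfl⟩ := (mem_smul_sylow_iff S g t).mp ht
  apply Subtype.ext
  show g * s * g⁻¹ * x = x * (g * s * g⁻¹)
  rw [← hg]
  have h1 := hcc s hs
  calc g * s * g⁻¹ * (g * c * g⁻¹) = g * (s * c) * g⁻¹ := by group
    _ = g * (c * s) * g⁻¹ := by rw [h1]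
    _ = g * c * g⁻¹ * (g * s * g⁻¹) := by group

/-- with a single class of involutions any two involutions are conjugate -/
theorem isConj_of_card_classes_eq_one {G : Type*} [Group G]
    (h : Nat.card {C : ConjClasses G // ∃ t : G, orderOf t = 2 ∧ ConjClasses.mk t = C} = 1)
    (a b : G) (ha : orderOf a = 2) (hb : orderOf b = 2) : IsConj a b := by
  obtain ⟨hsub, -⟩ := Nat.card_eq_one_iff_unique.mp h
  have e := hsub.elim (⟨ConjClasses.mk a, a, ha, rfl⟩ :
    {C : ConjClasses G // ∃ t : G, orderOf t = 2 ∧ ConjClasses.mk t = C})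
    ⟨ConjClasses.mk b, b, hb, rfl⟩
  exact ConjClasses.mk_eq_mk_iff_isConj.mp (congrArg Subtype.val e)

theorem centConcl_of_smul {G : Type*} [Group G] [Finite G] (S : Sylow 2 G) (g x : G)
    (h : CentConcl (g • S : Sylow 2 G) x) : CentConcl S x := by
  obtain ⟨R, hRc, hK, hw⟩ := h
  refine ⟨R, ?_, hK, hw⟩
  rw [hRc]
  exact (Nat.card_congr (S.equivSMul g).toEquiv).symm


/-- Let G be a finite group with quasi-dihedral or wreathed Sylow 2-subgroups and no subgroup of index 2, and let x be an involution with centralizer C. Then C has a Sylow 2-subgroup R which is a Sylow 2-subgroup of G; C has a normal subgroup K of index a power of 2 which has no subgroup of index 2 and whose Sylow 2-subgroups are generalized quaternion; and every subgroup of the centre of R is weakly closed in R with respect to C. -/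
theorem result {G : Type*} [Group G] [Finite G] (S : Sylow 2 G) (hS : Cfsg.IsQuasiDihedral (S : Subgroup G) ∨ Cfsg.IsWreathed (S : Subgroup G)) (hG : ∀ H : Subgroup G, H.index ≠ 2) (x : G) (hx : orderOf x = 2) : ∃ R : Sylow 2 ↥(Subgroup.centralizer ({x} : Set G)), Nat.card R = Nat.card S ∧ (∃ K : Subgroup ↥(Subgroup.centralizer ({x} : Set G)), K.Normal ∧ (∃ a : ℕ, K.index = 2 ^ a) ∧ (∀ H : Subgroup ↥K, H.index ≠ 2) ∧ (∀ P : Sylow 2 ↥K, ∃ m : ℕ, 1 ≤ m ∧ Nonempty ((P : Subgroup ↥K) ≃* QuaternionGroup (2 ^ m)))) ∧ (∀ Z₀ : Subgroup ↥(Subgroup.centralizer ({x} : Set G)), Z₀ ≤ ((Subgroup.center (R : Subgroup ↥(Subgroup.centralizer ({x} : Set G)))).map (R : Subgroup ↥(Subgroup.centralizer ({x} : Set G))).subtype) → Cfsg.IsWeaklyClosed Z₀ (R : Subgroup ↥(Subgroup.centralizer ({x} : Set G)))) := by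
  suffices h : CentConcl S x from h
  rcases hS with hS | hS
  · -- quasi-dihedral case
    obtain ⟨d⟩ := QD.exists_data hS
    obtain ⟨h₁, h₂⟩ := Cfsg.Agent.Helper22.QDS.six_six_of_no_index_two S d hS hG
    obtain ⟨eQ⟩ := Cfsg.Agent.Helper22.QDS.QG_equiv S d
    have h4 := (Cfsg.Agent.S1204.result S hS _ (Cfsg.Agent.Helper22.QDS.isKleinFour_TG S d)
      (Cfsg.Agent.Helper22.QDS.TG_le S d) _ (Cfsg.Agent.Helper22.QDS.QG_le S d) eQ h₁ h₂).2.1
    have hconj := isConj_of_card_classes_eq_one h4 _ x (QD.orderOf_coe_z S d) hx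
    obtain ⟨g, hg⟩ := isConj_iff.mp hconj
    apply centConcl_of_smul S g
    have hS' : Cfsg.IsQuasiDihedral ↥((g • S : Sylow 2 G) : Subgroup G) :=
      Cfsg.Agent.Helper11.GU2Sylow.isQuasiDihedral_of_equiv (S.equivSMul g) hS
    obtain ⟨d'⟩ := QD.exists_data hS'
    obtain ⟨hxS', hxc⟩ := conj_mem_center S _ x g (QD.z d).2
      (fun s hs => (QD.coe_z_comm S d s hs).symm) hg
    apply Cfsg.Agent.Helper22.QDS.centConcl_z _ d' hS' hG
    rcases (QD.mem_center_iff d' _).mp hxc with h0 | h0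
    · exfalso
      have h1 : x = 1 := congrArg Subtype.val h0
      rw [h1, orderOf_one] at hx
      omega
    · exact congrArg Subtype.val h0
  · -- wreathed case
    obtain ⟨d⟩ := Wr.exists_data hS
    obtain ⟨h₁, h₂⟩ := Cfsg.Agent.Helper22.WrFus.six_six_of_no_index_two S d hS hG
    obtain ⟨eQ⟩ := Cfsg.Agent.Helper22.WrFus.up_QQ_equiv S d 0
    have h9 := (Cfsg.Agent.S1209.result S hS d.n d.card _ (Cfsg.Agent.Helper22.WrFus.up_le S _)
      (Cfsg.Agent.Helper22.WrFus.isMulCommutative_up_A S d)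
      (Cfsg.Agent.Helper22.WrFus.card_up_A S d) _ (Cfsg.Agent.Helper22.WrFus.up_le S _) eQ h₁
      (by rw [Cfsg.Agent.Helper22.WrFus.up_VV_eq_sup]; exact h₂)).2
    have hconj := isConj_of_card_classes_eq_one h9 _ x (Wr.orderOf_coe_cc S d) hx
    obtain ⟨g, hg⟩ := isConj_iff.mp hconj
    apply centConcl_of_smul S g
    have hS' : Cfsg.IsWreathed ↥((g • S : Sylow 2 G) : Subgroup G) :=
      Cfsg.Agent.Helper11.GU2Sylow.isWreathed_of_equiv (S.equivSMul g) hS
    obtain ⟨d'⟩ := Wr.exists_data hS'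
    obtain ⟨hxS', hxc⟩ := conj_mem_center S _ x g (Wr.cc d).2
      (fun s hs => by
        have := (Subgroup.mem_center_iff.mp (Wr.mem_center_cc d)) ⟨s, hs⟩
        exact congrArg Subtype.val this) hg
    apply Cfsg.Agent.Helper22.WrFus.centConcl_cc _ d' hS' hG
    have h0 := Cfsg.Agent.Helper22.WrFus.eq_cc_of_mem_center _ d' ⟨x, hxS'⟩ hxc
      (by rw [Subgroup.orderOf_mk]; exact hx)
    exact congrArg Subtype.val h0

end Cfsg.Agent.S1213
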