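import Mathlib
import Cfsg.Agent.S1213
import Cfsg.Agent.S0721
import Cfsg.Agent.Lib.Helper3.Hall
import Cfsg.Agent.Lib.Helper19.PGroupBasic
import Cfsg.Agent.Lib.Helper9.PPrimeCoreSub
import Cfsg.Statements.S1214
-- import your own Cfsg.Agent.* helpers here

set_option autoImplicit false
open Cfsg

namespace Cfsg.Agent.S1214

open Cfsg.Agent.Helper6 Cfsg.Agent.Helper22.SubT

/-- a nontrivial cyclic Sylow `2`-subgroup forces a subgroup of index two -/
theorem exists_index_two_of_isCyclic {Q : Type*} [Group Q] [Finite Q] (P : Sylow 2 Q)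
    (hc : IsCyclic ↥(P : Subgroup Q)) (hne : (P : Subgroup Q) ≠ ⊥) :
    ∃ K : Subgroup Q, K.index = 2 := by
  haveI : Fact (Nat.Prime 2) := ⟨Nat.prime_two⟩
  obtain ⟨m, hm⟩ := P.2.exists_card_eq
  have hm1 : 1 ≤ m := by
    rcases Nat.eq_zero_or_pos m with h0 | h0
    · exfalso
      apply hne
      rw [h0, pow_zero] at hm
      exact Subgroup.card_eq_one.mp hm
    · exact h0
  have h2 : (Nat.card Q).minFac = 2 := by
    rw [Nat.minFac_eq_two_iff]
    exact dvd_trans (by rw [hm]; exact dvd_pow_self 2 (by omega))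
      (Subgroup.card_subgroup_dvd_card (P : Subgroup Q))
  have hcomp := IsCyclic.isComplement' h2 hc
  exact exists_index_two_of_complement P _ hcomp m hm1 hm

/-- the central involution of `S` lies in every nontrivial normal subgroup of `S` -/
theorem central_invol {H : Type*} [Group H] [Finite H] (S : Sylow 2 H)
    (hS : Cfsg.IsQuasiDihedral (S : Subgroup H) ∨ Cfsg.IsWreathed (S : Subgroup H)) :
    ∃ z₀ : ↥(S : Subgroup H), z₀ ≠ 1 ∧
      ∀ K : Subgroup ↥(S : Subgroup H), K.Normal → K ≠ ⊥ → z₀ ∈ K := by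
  haveI : Fact (Nat.Prime 2) := ⟨Nat.prime_two⟩
  have key : ∀ K : Subgroup ↥(S : Subgroup H), K.Normal → K ≠ ⊥ →
      ∃ c ∈ K, c ∈ Subgroup.center ↥(S : Subgroup H) ∧ orderOf c = 2 := by
    intro K hK hne
    haveI := hK
    have h1 := Cfsg.Agent.Helper19.normal_inf_center_ne_bot S.2 K hne
    obtain ⟨⟨c, hc⟩, hc1⟩ := (Subgroup.ne_bot_iff_exists_ne_one).mp h1
    have hc1' : c ≠ 1 := fun h => hc1 (Subtype.ext h)
    obtain ⟨k, hk⟩ := (IsPGroup.iff_orderOf.mp S.2) c
    have hk1 : 1 ≤ k := by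
      rcases Nat.eq_zero_or_pos k with h0 | h0
      · exfalso
        rw [h0, pow_zero, orderOf_eq_one_iff] at hk
        exact hc1' hk
      · exact h0
    refine ⟨c ^ (2 ^ (k - 1)), Subgroup.pow_mem _ hc.1 _, Subgroup.pow_mem _ hc.2 _, ?_⟩
    rw [orderOf_pow_of_dvd (by positivity) (by rw [hk]; exact pow_dvd_pow 2 (Nat.sub_le k 1)), hk]
    have : (2 : ℕ) ^ k = 2 ^ (k - 1) * 2 := by
      rw [← pow_succ]; congr 1; omega
    rw [this, Nat.mul_div_cancel_left _ (by positivity)]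
  rcases hS with hS | hS
  · obtain ⟨d⟩ := QD.exists_data hS
    refine ⟨QD.z d, QD.z_ne_one d, ?_⟩
    intro K hK hne
    obtain ⟨c, hcK, hcZ, ho⟩ := key K hK hne
    rcases (QD.mem_center_iff d c).mp hcZ with h | h
    · rw [h, orderOf_one] at ho; omega
    · rw [← h]; exact hcK
  · obtain ⟨d⟩ := Wr.exists_data hS
    refine ⟨Wr.cc d, ?_, ?_⟩
    · intro h
      have h2 := Wr.orderOf_coe_cc S d
      rw [h] at h2
      simp at h2
    intro K hK hne
    obtain ⟨c, hcK, hcZ, ho⟩ := key K hK hne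
    rw [← Cfsg.Agent.Helper22.WrFus.eq_cc_of_mem_center S d c hcZ ho]
    exact hcK

/-- all involutions are conjugate -/
theorem all_conj {G : Type*} [Group G] [Finite G] (S : Sylow 2 G)
    (hS : Cfsg.IsQuasiDihedral (S : Subgroup G) ∨ Cfsg.IsWreathed (S : Subgroup G))
    (hG : ∀ H : Subgroup G, H.index ≠ 2) (a b : G) (ha : orderOf a = 2) (hb : orderOf b = 2) :
    IsConj a b := by
  rcases hS with hS | hS
  · obtain ⟨d⟩ := QD.exists_data hS
    obtain ⟨h₁, h₂⟩ := Cfsg.Agent.Helper22.QDS.six_six_of_no_index_two S d hS hG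
    obtain ⟨eQ⟩ := Cfsg.Agent.Helper22.QDS.QG_equiv S d
    have h4 := (Cfsg.Agent.S1204.result S hS _ (Cfsg.Agent.Helper22.QDS.isKleinFour_TG S d)
      (Cfsg.Agent.Helper22.QDS.TG_le S d) _ (Cfsg.Agent.Helper22.QDS.QG_le S d) eQ h₁ h₂).2.1
    exact Cfsg.Agent.S1213.isConj_of_card_classes_eq_one h4 a b ha hb
  · obtain ⟨d⟩ := Wr.exists_data hS
    obtain ⟨h₁, h₂⟩ := Cfsg.Agent.Helper22.WrFus.six_six_of_no_index_two S d hS hG
    obtain ⟨eQ⟩ := Cfsg.Agent.Helper22.WrFus.up_QQ_equiv S d 0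
    have h9 := (Cfsg.Agent.S1209.result S hS d.n d.card _ (Cfsg.Agent.Helper22.WrFus.up_le S _)
      (Cfsg.Agent.Helper22.WrFus.isMulCommutative_up_A S d)
      (Cfsg.Agent.Helper22.WrFus.card_up_A S d) _ (Cfsg.Agent.Helper22.WrFus.up_le S _) eQ h₁
      (by rw [Cfsg.Agent.Helper22.WrFus.up_VV_eq_sup]; exact h₂)).2
    exact Cfsg.Agent.S1213.isConj_of_card_classes_eq_one h9 a b ha hb

/-- modulo the involutions `S` is cyclic -/
theorem exists_cyclic_mod {H : Type*} [Group H] [Finite H] (S : Sylow 2 H)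
    (hS : Cfsg.IsQuasiDihedral (S : Subgroup H) ∨ Cfsg.IsWreathed (S : Subgroup H)) :
    ∃ g₀ : ↥(S : Subgroup H), ∀ N : Subgroup ↥(S : Subgroup H),
      (∀ u : ↥(S : Subgroup H), orderOf u = 2 → u ∈ N) →
      ∀ s : ↥(S : Subgroup H), ∃ t ∈ Subgroup.zpowers g₀, s * t ∈ N := by
  rcases hS with hS | hS
  · obtain ⟨d⟩ := QD.exists_data hS
    refine ⟨d.x, ?_⟩
    intro N hN s
    have hxp : ∀ i, QD.xp d i ∈ Subgroup.zpowers d.x := fun i =>
      Subgroup.npow_mem_zpowers _ _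
    rcases QD.cases d s with ⟨i, rfl⟩ | ⟨i, rfl⟩
    · refine ⟨QD.xp d (-i), hxp _, ?_⟩
      rw [QD.xp_mul_xp, add_neg_cancel, QD.xp_zero]
      exact Subgroup.one_mem _
    · refine ⟨QD.xp d (QD.e d * i), hxp _, ?_⟩
      rw [QD.xpy_mul_xp]
      apply hN
      rw [QD.orderOf_xpy_eq_two_iff]
      have h1 : i + QD.e d * (QD.e d * i) = 2 * i := by
        rw [← mul_assoc, QD.e_mul_e]; ring
      rw [h1, ← mul_assoc, mul_comm (QD.half d) 2, QD.two_mul_half, zero_mul]
  · obtain ⟨d⟩ := Wr.exists_data hS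
    refine ⟨Wr.el d 1 0, ?_⟩
    intro N hN s
    haveI : NeZero (2 ^ d.n) := ⟨by positivity⟩
    have hel : ∀ k, Wr.el d k 0 ∈ Subgroup.zpowers (Wr.el d 1 0) := by
      intro k
      have h1 : Wr.el d k 0 = (Wr.el d 1 0) ^ k.val := by
        rw [Wr.el_pow, ZMod.natCast_zmod_val, mul_one, mul_zero]
      rw [h1]
      exact Subgroup.npow_mem_zpowers _ _
    have hz1 : d.z ≠ 1 := by
      intro h
      apply Wr.el_ne_elz d 0 0 0 0
      rw [h, mul_one]
    have hzN : d.z ∈ N := by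
      apply hN
      rw [Wr.orderOf_two_iff]
      exact ⟨hz1, Wr.z_mul_z d⟩
    have hinv : ∀ i, Wr.el d i (-i) * d.z ∈ N := by
      intro i
      apply hN
      rw [Wr.orderOf_two_iff]
      refine ⟨?_, ?_⟩
      · intro h
        apply Wr.el_ne_elz d 0 0 i (-i)
        rw [h, Wr.el_zero]
      · rw [Wr.elz_sq, add_neg_cancel, Wr.el_zero]
    rcases Wr.cases d s with ⟨i, j, rfl⟩ | ⟨i, j, rfl⟩
    · refine ⟨Wr.el d (-(i + j)) 0, hel _, ?_⟩
      rw [Wr.el_mul_el]
      have h1 : Wr.el d (i + -(i + j)) (j + 0) = Wr.el d (-j) (- -j) * d.z * d.z := by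
        rw [mul_assoc, Wr.z_mul_z, mul_one]
        congr 1 <;> ring
      rw [h1]
      exact Subgroup.mul_mem _ (hinv _) hzN
    · refine ⟨Wr.el d (-(i + j)) 0, hel _, ?_⟩
      rw [Wr.elz_mul_el]
      have h1 : Wr.el d (i + 0) (j + -(i + j)) = Wr.el d i (-i) := by
        congr 1 <;> ring
      rw [h1]
      exact hinv _

/-- `S` is not abelian -/
theorem exists_not_mem_center {H : Type*} [Group H] [Finite H] (S : Sylow 2 H)
    (hS : Cfsg.IsQuasiDihedral (S : Subgroup H) ∨ Cfsg.IsWreathed (S : Subgroup H)) :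
    ∃ s : ↥(S : Subgroup H), s ∉ Subgroup.center ↥(S : Subgroup H) := by
  rcases hS with hS | hS
  · obtain ⟨d⟩ := QD.exists_data hS
    refine ⟨d.y, ?_⟩
    intro h
    rcases (QD.mem_center_iff d _).mp h with h | h
    · exact QD.y_ne_one d h
    · exact QD.y_ne_xp d _ h
  · obtain ⟨d⟩ := Wr.exists_data hS
    refine ⟨d.z, ?_⟩
    intro h
    obtain ⟨i, hi⟩ := (Wr.mem_center_iff d _).mp h
    apply Wr.el_ne_elz d i i 0 0
    rw [Wr.el_zero, one_mul]
    exact hi.symm

/-- if `S` is cyclic modulo the normal subgroup `M` and there is no subgroup of index two then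
`S ≤ M` -/
theorem sylow_le_of_cyclic_mod {H : Type*} [Group H] [Finite H] (S : Sylow 2 H)
    (hH : ∀ K : Subgroup H, K.index ≠ 2) (M : Subgroup H) [M.Normal] (g₀ : H)
    (hcyc : ∀ s ∈ (S : Subgroup H), ∃ t ∈ Subgroup.zpowers g₀, s * t ∈ M) :
    (S : Subgroup H) ≤ M := by
  haveI : Fact (Nat.Prime 2) := ⟨Nat.prime_two⟩
  have hπ : Function.Surjective (QuotientGroup.mk' M) := QuotientGroup.mk'_surjective M
  let P : Sylow 2 (H ⧸ M) := S.mapSurjective hπ
  have hP : (P : Subgroup (H ⧸ M)) = (S : Subgroup H).map (QuotientGroup.mk' M) := rfl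
  have hle : (P : Subgroup (H ⧸ M)) ≤ Subgroup.zpowers (QuotientGroup.mk' M g₀) := by
    rw [hP]
    rintro _ ⟨s, hs, rfl⟩
    obtain ⟨t, ht, hst⟩ := hcyc s hs
    have h1 : QuotientGroup.mk' M (s * t) = 1 := (QuotientGroup.eq_one_iff _).mpr hst
    rw [map_mul] at h1
    have h2 : QuotientGroup.mk' M s = (QuotientGroup.mk' M t)⁻¹ := eq_inv_of_mul_eq_one_left h1
    rw [h2]
    apply Subgroup.inv_mem
    obtain ⟨k, rfl⟩ := Subgroup.mem_zpowers_iff.mp ht
    rw [map_zpow]
    exact Subgroup.zpow_mem_zpowers _ _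
  have hcyc' : IsCyclic ↥(P : Subgroup (H ⧸ M)) := Subgroup.isCyclic_of_le hle
  by_contra hSM
  have hne : (P : Subgroup (H ⧸ M)) ≠ ⊥ := by
    intro h0
    apply hSM
    intro s hs
    have h3 : QuotientGroup.mk' M s ∈ (P : Subgroup (H ⧸ M)) := ⟨s, hs, rfl⟩
    rw [h0, Subgroup.mem_bot] at h3
    exact (QuotientGroup.eq_one_iff s).mp h3
  obtain ⟨K, hK⟩ := exists_index_two_of_isCyclic P hcyc' hne
  apply hH (K.comap (QuotientGroup.mk' M))
  rw [Subgroup.index_comap_of_surjective K hπ]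
  exact hK

/-- a power of at least two copies of a group of even order cannot contain `S` -/
theorem not_two_le {H : Type*} [Group H] [Finite H] (S : Sylow 2 H) (M : Subgroup H)
    (hSM : (S : Subgroup H) ≤ M) (z₀ : ↥(S : Subgroup H)) (hz1 : z₀ ≠ 1)
    (hz : ∀ K : Subgroup ↥(S : Subgroup H), K.Normal → K ≠ ⊥ → z₀ ∈ K)
    {T : Type*} [Group T] (m : ℕ) (e : ↥M ≃* (Fin m → T)) (t : T) (ht : orderOf t = 2)
    (hm : 2 ≤ m) : False := by
  haveI : Fact (Nat.Prime 2) := ⟨Nat.prime_two⟩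
  have key : ∀ i : Fin m, ∀ j : Fin m, j ≠ i → e (Subgroup.inclusion hSM z₀) j = 1 := by
    intro i
    let NN : Subgroup (Fin m → T) :=
      { carrier := {f | ∀ j, j ≠ i → f j = 1}
        one_mem' := fun j _ => rfl
        mul_mem' := fun {a b} ha hb j hj => by
          show a j * b j = 1
          rw [ha j hj, hb j hj, mul_one]
        inv_mem' := fun {a} ha j hj => by
          show (a j)⁻¹ = 1
          rw [ha j hj, inv_one] }
    have hNNmem : ∀ f : Fin m → T, f ∈ NN ↔ ∀ j, j ≠ i → f j = 1 := fun f => Iff.rfl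
    haveI hNN : NN.Normal := ⟨fun f hf g j hj => by
      show g j * f j * (g j)⁻¹ = 1
      rw [hf j hj, mul_one, mul_inv_cancel]⟩
    let N' : Subgroup ↥M := NN.comap e.toMonoidHom
    have hN'mem : ∀ w : ↥M, w ∈ N' ↔ e w ∈ NN := fun w => Iff.rfl
    haveI hN'n : N'.Normal := Subgroup.Normal.comap hNN _
    let K : Subgroup ↥(S : Subgroup H) := N'.comap (Subgroup.inclusion hSM)
    have hKmem : ∀ w : ↥(S : Subgroup H), w ∈ K ↔ Subgroup.inclusion hSM w ∈ N' := fun w => Iff.rfl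
    have hKn : K.Normal := Subgroup.Normal.comap hN'n _
    have hKne : K ≠ ⊥ := by
      let u : ↥M := e.symm (MonoidHom.mulSingle (fun _ : Fin m => T) i t)
      have heu : e u = MonoidHom.mulSingle (fun _ : Fin m => T) i t := e.apply_symm_apply _
      have hu2 : u ^ 2 = 1 := by
        show (e.symm _) ^ 2 = 1
        rw [← map_pow, ← map_pow, ← ht, pow_orderOf_eq_one, map_one, map_one]
      have hu1 : u ≠ 1 := by
        intro h
        have h1 : e u = 1 := by rw [h, map_one]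
        have h3 : t = 1 := by
          have h4 := congrFun (heu.symm.trans h1) i
          rw [MonoidHom.mulSingle_apply, Pi.mulSingle_eq_same] at h4
          exact h4
        rw [h3, orderOf_one] at ht
        omega
      have huo : orderOf u = 2 ^ 1 := by
        rw [pow_one]
        exact orderOf_eq_prime hu2 hu1
      obtain ⟨g, hg⟩ := Fus.exists_conj_mem_sylow (S.subtype hSM) u 1 huo
      have hgS : ((g * u * g⁻¹ : ↥M) : H) ∈ (S : Subgroup H) := by
        rw [Sylow.coe_subtype] at hg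
        exact Subgroup.mem_subgroupOf.mp hg
      have huN : u ∈ N' := by
        rw [hN'mem, heu, hNNmem]
        intro j hj
        rw [MonoidHom.mulSingle_apply]
        exact Pi.mulSingle_eq_of_ne (M := fun _ : Fin m => T) hj t
      have hwN : g * u * g⁻¹ ∈ N' := hN'n.conj_mem u huN g
      intro hbot
      have hmem : (⟨_, hgS⟩ : ↥(S : Subgroup H)) ∈ K := by
        rw [hKmem]
        exact hwN
      rw [hbot, Subgroup.mem_bot] at hmem
      have h5 : ((g * u * g⁻¹ : ↥M) : H) = 1 := congrArg Subtype.val hmem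
      have h6 : g * u * g⁻¹ = 1 := Subtype.ext h5
      apply hu1
      calc u = g⁻¹ * (g * u * g⁻¹) * g := by group
        _ = 1 := by rw [h6]; group
    intro j hj
    have h7 := hz K hKn hKne
    rw [hKmem, hN'mem, hNNmem] at h7
    exact h7 j hj
  have h1 : e (Subgroup.inclusion hSM z₀) = 1 := by
    funext j
    by_cases hj : j = ⟨0, by omega⟩
    · apply key ⟨1, by omega⟩ j
      rw [hj]
      intro h
      simp [Fin.ext_iff] at h
    · exact key ⟨0, by omega⟩ j hj
  have h2 : Subgroup.inclusion hSM z₀ = 1 := by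
    rw [← EmbeddingLike.map_eq_one_iff (f := e)]
    exact h1
  apply hz1
  apply Subgroup.inclusion_injective hSM
  rw [h2, map_one]

/-- the statement for a group with trivial odd core -/
theorem core {H : Type*} [Group H] [Finite H] (S : Sylow 2 H)
    (hS : Cfsg.IsQuasiDihedral (S : Subgroup H) ∨ Cfsg.IsWreathed (S : Subgroup H))
    (hH : ∀ K : Subgroup H, K.index ≠ 2) (hO : Cfsg.oddCore H = ⊥) :
    ∃ L : Subgroup H, L.Normal ∧ Odd L.index ∧ IsSimpleGroup L ∧ ¬ IsMulCommutative L := by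
  haveI : Fact (Nat.Prime 2) := ⟨Nat.prime_two⟩
  obtain ⟨z₀, hz1, hz⟩ := central_invol S hS
  obtain ⟨g₀, hg₀⟩ := exists_cyclic_mod S hS
  obtain ⟨s₀, hs₀⟩ := exists_not_mem_center S hS
  haveI : Nontrivial H := ⟨⟨(z₀ : H), 1, fun h => hz1 (Subtype.ext h)⟩⟩
  obtain ⟨M, hMn, hMne, hMmin⟩ := Cfsg.Agent.Helper3.exists_minimal_normal (G := H)
  haveI := hMn
  have heven : 2 ∣ Nat.card M := by
    by_contra h
    apply hMne
    rw [eq_bot_iff, ← hO]
    apply Cfsg.Agent.Helper22.le_pPrimeCore 2 M hMn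
    exact ((Nat.Prime.coprime_iff_not_dvd Nat.prime_two).mpr h).symm
  obtain ⟨u, hu⟩ := exists_prime_orderOf_dvd_card' 2 heven
  have hinv : ∀ v : H, orderOf v = 2 → v ∈ M := by
    intro v hv
    have hu' : orderOf (u : H) = 2 := by
      rw [Subgroup.orderOf_coe]; exact hu
    obtain ⟨g, hg⟩ := isConj_iff.mp (all_conj S hS hH (u : H) v hu' hv)
    rw [← hg]
    exact hMn.conj_mem _ u.2 g
  have hSM : (S : Subgroup H) ≤ M := by
    apply sylow_le_of_cyclic_mod S hH M (g₀ : H)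
    intro s hs
    obtain ⟨t, ht, hst⟩ := hg₀ (M.subgroupOf S)
      (fun w hw => Subgroup.mem_subgroupOf.mpr (hinv w (by rw [Subgroup.orderOf_coe]; exact hw)))
      ⟨s, hs⟩
    refine ⟨(t : H), ?_, Subgroup.mem_subgroupOf.mp hst⟩
    obtain ⟨k, rfl⟩ := Subgroup.mem_zpowers_iff.mp ht
    rw [Subgroup.coe_zpow]
    exact Subgroup.zpow_mem_zpowers _ _
  obtain ⟨T, _, m, hT, hm, ⟨e⟩⟩ := Cfsg.Agent.S0721.result M hMne hMmin
  refine ⟨M, hMn, ?_, ?_, ?_⟩
  · -- odd index
    rw [← Nat.not_even_iff_odd, even_iff_two_dvd]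
    intro h2
    exact S.not_dvd_index (dvd_trans h2 (Subgroup.index_dvd_of_le hSM))
  · -- simple
    have hm1 : m = 1 := by
      by_contra hne
      have hm2 : 2 ≤ m := by omega
      haveI : Finite (Fin m → T) := Finite.of_equiv _ e.toEquiv
      haveI : Finite T := Finite.of_surjective (fun f : Fin m → T => f ⟨0, hm⟩)
        (fun t => ⟨fun _ => t, rfl⟩)
      have hc : Nat.card M = Nat.card T ^ m := by
        rw [Nat.card_congr e.toEquiv, Nat.card_fun, Nat.card_fin]
      have hT2 : 2 ∣ Nat.card T := by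
        rw [hc] at heven
        exact Nat.Prime.dvd_of_dvd_pow Nat.prime_two heven
      obtain ⟨t, ht⟩ := exists_prime_orderOf_dvd_card' 2 hT2
      exact not_two_le S M hSM z₀ hz1 hz m e t ht hm2
    subst hm1
    exact (e.trans (MulEquiv.funUnique (Fin 1) T)).isSimpleGroup
  · -- not commutative
    intro hcomm
    apply hs₀
    rw [Subgroup.mem_center_iff]
    intro a
    have h1 := hcomm.is_comm.comm (Subgroup.inclusion hSM a) (Subgroup.inclusion hSM s₀)
    apply Subgroup.inclusion_injective hSM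
    rw [map_mul, map_mul]
    exact h1

/-- Let G be a finite group with quasi-dihedral or wreathed Sylow 2-subgroups and no subgroup of index 2. Then G/O(G), the quotient by the largest normal subgroup of odd order, has a normal subgroup of odd index which is a non-abelian simple group. -/
theorem result {G : Type*} [Group G] [Finite G] (S : Sylow 2 G) (hS : Cfsg.IsQuasiDihedral (S : Subgroup G) ∨ Cfsg.IsWreathed (S : Subgroup G)) (hG : ∀ H : Subgroup G, H.index ≠ 2) : ∃ L : Subgroup (G ⧸ Cfsg.oddCore G), L.Normal ∧ Odd L.index ∧ IsSimpleGroup L ∧ ¬ IsMulCommutative L := by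
  haveI : Fact (Nat.Prime 2) := ⟨Nat.prime_two⟩
  let π := QuotientGroup.mk' (Cfsg.oddCore G)
  have hπ : Function.Surjective π := QuotientGroup.mk'_surjective _
  let P : Sylow 2 (G ⧸ Cfsg.oddCore G) := S.mapSurjective hπ
  have hP : (P : Subgroup (G ⧸ Cfsg.oddCore G)) = (S : Subgroup G).map π := rfl
  -- `S` maps isomorphically
  have hinj : Function.Injective (π.subgroupMap (S : Subgroup G)) := by
    rw [injective_iff_map_eq_one]
    rintro ⟨s, hs⟩ h
    have h1 : π s = 1 := congrArg Subtype.val h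
    have h2 : s ∈ Cfsg.oddCore G := (QuotientGroup.eq_one_iff s).mp h1
    obtain ⟨k, hk⟩ : ∃ k : ℕ, orderOf s = 2 ^ k := by
      obtain ⟨k, hk⟩ := (IsPGroup.iff_orderOf.mp S.2) ⟨s, hs⟩
      exact ⟨k, by rw [← hk, Subgroup.orderOf_mk]⟩
    have h3 : orderOf s ∣ Nat.card (Cfsg.oddCore G) := by
      have := orderOf_dvd_natCard (⟨s, h2⟩ : ↥(Cfsg.oddCore G))
      rwa [Subgroup.orderOf_mk] at this
    have h4 : (Nat.card (Cfsg.oddCore G)).Coprime 2 :=
      Cfsg.Agent.Helper22.card_pPrimeCore_coprime 2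
    have h5 : orderOf s = 1 := by
      apply Nat.eq_one_of_dvd_coprimes (Nat.Coprime.pow_right k h4) h3
      rw [hk]
    apply Subtype.ext
    exact orderOf_eq_one_iff.mp h5
  let eS : ↥(S : Subgroup G) ≃* ↥((S : Subgroup G).map π) :=
    MulEquiv.ofBijective (π.subgroupMap (S : Subgroup G))
      ⟨hinj, MonoidHom.subgroupMap_surjective π _⟩
  have hSP : Cfsg.IsQuasiDihedral (P : Subgroup (G ⧸ Cfsg.oddCore G)) ∨
      Cfsg.IsWreathed (P : Subgroup (G ⧸ Cfsg.oddCore G)) := by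
    rcases hS with hS | hS
    · exact Or.inl (Cfsg.Agent.Helper11.GU2Sylow.isQuasiDihedral_of_equiv eS hS)
    · exact Or.inr (Cfsg.Agent.Helper11.GU2Sylow.isWreathed_of_equiv eS hS)
  apply core P hSP
  · intro K hK
    apply hG (K.comap π)
    rw [Subgroup.index_comap_of_surjective K hπ]
    exact hK
  · exact Cfsg.Agent.Helper9.pPrimeCore_quotient_eq_bot 2

end Cfsg.Agent.S1214
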