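import Mathlib
import Cfsg.Agent.Lib.Helper22.ZStarCyc
import Cfsg.Agent.Lib.Helper6.QD
import Cfsg.Agent.Lib.Helper6.WreathedSub
import Cfsg.Statements.S1215
-- import your own Cfsg.Agent.* helpers here

set_option autoImplicit false
open Cfsg

namespace Cfsg.Agent.S1215

open Cfsg.Agent.Helper6 Cfsg.Agent.Helper22.ZCyc Cfsg.Agent.Helper1.ZW

/-- the centre of a quasi-dihedral or wreathed Sylow `2`-subgroup is cyclic -/
theorem exists_center_eq_zpowers {H : Type*} [Group H] [Finite H] (S : Sylow 2 H)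
    (hS : Cfsg.IsQuasiDihedral (S : Subgroup H) ∨ Cfsg.IsWreathed (S : Subgroup H)) :
    ∃ a : H, (Subgroup.center ↥(S : Subgroup H)).map (S : Subgroup H).subtype =
      Subgroup.zpowers a := by
  rcases hS with hS | hS
  · obtain ⟨d⟩ := QD.exists_data hS
    refine ⟨((QD.z d : ↥(S : Subgroup H)) : H), ?_⟩
    ext w
    constructor
    · rintro ⟨c, hc, rfl⟩
      rcases (QD.mem_center_iff d c).mp hc with rfl | rfl
      · exact Subgroup.one_mem _
      · exact Subgroup.mem_zpowers _
    · intro hw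
      obtain ⟨i, rfl⟩ := Subgroup.mem_zpowers_iff.mp hw
      have hz : ((QD.z d : ↥(S : Subgroup H)) : H) ∈
          (Subgroup.center ↥(S : Subgroup H)).map (S : Subgroup H).subtype :=
        ⟨QD.z d, (QD.mem_center_iff d _).mpr (Or.inr rfl), rfl⟩
      exact Subgroup.zpow_mem _ hz i
  · obtain ⟨d⟩ := Wr.exists_data hS
    refine ⟨((Wr.el d 1 1 : ↥(S : Subgroup H)) : H), ?_⟩
    rw [Wr.center_eq d, MonoidHom.map_zpowers]
    rfl


/-- Let H be a finite group with quasi-dihedral or wreathed Sylow 2-subgroup S such that H has a normal subgroup K of index a power of 2 with no subgroup of index 2 and with generalized quaternion Sylow 2-subgroups, and such that every subgroup of Z(S) is weakly closed in S with respect to H. Then H = O(H) C_H(Z(S)): every element of H is the product of an element of the largest normal odd-order subgroup and an element centralizing Z(S). -/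
theorem result {H : Type*} [Group H] [Finite H] (S : Sylow 2 H) (hS : Cfsg.IsQuasiDihedral (S : Subgroup H) ∨ Cfsg.IsWreathed (S : Subgroup H)) (hQ : (∃ K : Subgroup H, K.Normal ∧ (∃ a : ℕ, K.index = 2 ^ a) ∧ (∀ M : Subgroup ↥K, M.index ≠ 2) ∧ (∀ P : Sylow 2 ↥K, ∃ m : ℕ, 1 ≤ m ∧ Nonempty ((P : Subgroup ↥K) ≃* QuaternionGroup (2 ^ m)))) ∧ (∀ Z₀ : Subgroup H, Z₀ ≤ ((Subgroup.center (S : Subgroup H)).map (S : Subgroup H).subtype) → Cfsg.IsWeaklyClosed Z₀ (S : Subgroup H))) (h : H) : ∃ o ∈ Cfsg.oddCore H, ∃ c ∈ Subgroup.centralizer (((Subgroup.center (S : Subgroup H)).map (S : Subgroup H).subtype : Subgroup H) : Set H), h = o * c := by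
  obtain ⟨a, ha⟩ := exists_center_eq_zpowers S hS
  have hall : ∀ y ∈ Subgroup.zpowers a, WC (S : Subgroup H) y := by
    intro y hy
    have hyZ : y ∈ (Subgroup.center ↥(S : Subgroup H)).map (S : Subgroup H).subtype := by
      rw [ha]; exact hy
    obtain ⟨c, hc, rfl⟩ := hyZ
    apply wc_of_isWeaklyClosed S _ c.2
    · intro s hs
      have := (Subgroup.mem_center_iff.mp hc) ⟨s, hs⟩
      exact congrArg Subtype.val this
    · apply hQ.2
      rw [ha, Subgroup.zpowers_le]
      exact hy
  obtain ⟨o, ho, c, hc, e⟩ := exists_mul_of_wc S a hall h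
  exact ⟨o, ho, c, by rw [ha]; exact hc, e⟩

end Cfsg.Agent.S1215
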