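import Mathlib
import Cfsg.Statements.S1217
import Cfsg.Agent.Lib.Helper6.GL2QD3

set_option autoImplicit false
open Cfsg

namespace Cfsg.Agent.S1217

open Cfsg.Agent.Helper6.GL2

/-- Let F be a finite field with q elements, q odd, and P a Sylow 2-subgroup of GL(2,F). If q ≡ 3 (mod 4) then P is quasi-dihedral; if q ≡ 1 (mod 4) then P is wreathed. -/
theorem result {F : Type*} [Field F] [Fintype F] (P : Sylow 2 (GL (Fin 2) F)) : (Fintype.card F % 4 = 3 → Cfsg.IsQuasiDihedral (P : Subgroup (GL (Fin 2) F))) ∧ (Fintype.card F % 4 = 1 → Cfsg.IsWreathed (P : Subgroup (GL (Fin 2) F))) := by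
  constructor
  · intro hq4
    obtain ⟨m, u, hu, hq⟩ := Nat.exists_eq_two_pow_mul_odd (n := Fintype.card F + 1) (by omega)
    have hm : 2 ≤ m := by
      by_contra hlt
      obtain ⟨v, rfl⟩ := hu
      have : m = 0 ∨ m = 1 := by omega
      rcases this with rfl | rfl
      · simp at hq; omega
      · simp at hq; omega
    obtain ⟨x, y, hx, hy, hrel⟩ := exists_qd P hq4 hu hm hq
    refine ⟨m + 1, by omega, card_sylow_three P hu hm hq, x, y, hx, hy, ?_⟩
    rw [hrel, Nat.add_sub_cancel]
  · intro hq4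
    have h1 : 1 < Fintype.card F := Fintype.one_lt_card
    obtain ⟨n, a, ha, hq⟩ := Nat.exists_eq_two_pow_mul_odd (n := Fintype.card F - 1) (by omega)
    have hq' : Fintype.card F = 2 ^ n * a + 1 := by omega
    have hn : 2 ≤ n := by
      by_contra hlt
      obtain ⟨v, rfl⟩ := ha
      have : n = 0 ∨ n = 1 := by omega
      rcases this with rfl | rfl
      · simp at hq'; omega
      · simp at hq'; omega
    -- an element of order 2^n in Fˣ
    obtain ⟨g, hg⟩ := IsCyclic.exists_ofOrder_eq_natCard (α := Fˣ)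
    have hcard : Nat.card Fˣ = 2 ^ n * a := by
      classical
      rw [Nat.card_eq_fintype_card, Fintype.card_units, hq]
    have ha0 : a ≠ 0 := by rintro rfl; simp at ha
    have hga : orderOf (g ^ a) = 2 ^ n := by
      rw [orderOf_pow_of_dvd ha0 (by rw [hg, hcard]; exact Dvd.intro_left _ rfl), hg, hcard,
        Nat.mul_div_cancel _ (Nat.pos_of_ne_zero ha0)]
    obtain ⟨x, y, z, hx, hxy, hint, hz, hrel⟩ := exists_wreathed P (g ^ a) hga
    exact ⟨n, hn, card_sylow_one P ha hn hq', x, y, z, hx, hxy, hint, hz, hrel⟩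

end Cfsg.Agent.S1217
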