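import Mathlib
import Cfsg.Statements.S1219
import Cfsg.Agent.Lib.Helper11.PSL3Inv

set_option autoImplicit false
open scoped MatrixGroups
open Cfsg

namespace Cfsg.Agent.S1219

/-- Let F be a finite field of odd order q and t an involution of PSL(3,F). Then C(t) is isomorphic to the quotient of GL(2,F) by a central subgroup of order gcd(q−1, 3). -/
theorem result {F : Type*} [Field F] [Fintype F] (hF : Odd (Fintype.card F)) (t : Matrix.ProjectiveSpecialLinearGroup (Fin 3) F) (ht : orderOf t = 2) : ∃ (Z : Subgroup (GL (Fin 2) F)) (_ : Z.Normal), Z ≤ Subgroup.center (GL (Fin 2) F) ∧ Nat.card Z = Nat.gcd (Fintype.card F - 1) 3 ∧ Nonempty (↥(Subgroup.centralizer ({t} : Set (Matrix.ProjectiveSpecialLinearGroup (Fin 3) F))) ≃* GL (Fin 2) F ⧸ Z) := by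
  classical
  have h2 : (2 : F) ≠ 0 := by
    have hchar : ringChar F ≠ 2 := by
      intro h
      have h2' := FiniteField.even_card_iff_char_two.mp h
      have := Nat.odd_iff.mp hF
      omega
    exact Ring.two_ne_zero hchar
  refine ⟨(Cfsg.Agent.Helper11.PSL3Inv.psi : GL (Fin 2) F →* _).ker, inferInstance,
    Cfsg.Agent.Helper11.PSL3Inv.ker_psi_le_center, Cfsg.Agent.Helper11.PSL3Inv.card_ker_psi, ?_⟩
  -- lift `t`
  obtain ⟨T, rfl⟩ := QuotientGroup.mk_surjective t
  have ht2 : ((QuotientGroup.mk T : Matrix.ProjectiveSpecialLinearGroup (Fin 3) F)) ^ 2 = 1 := by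
    rw [← ht]; exact pow_orderOf_eq_one _
  have ht1 : ((QuotientGroup.mk T : Matrix.ProjectiveSpecialLinearGroup (Fin 3) F)) ≠ 1 := by
    intro h
    rw [h, orderOf_one] at ht
    omega
  rw [← QuotientGroup.mk_pow, QuotientGroup.eq_one_iff,
    Matrix.SpecialLinearGroup.mem_center_iff] at ht2
  obtain ⟨r, hr3, hr⟩ := ht2
  simp only [Fintype.card_fin] at hr3
  -- the corrected lift
  have hzdet : (Matrix.scalar (Fin 3) r).det = 1 := by
    simp [Matrix.scalar_apply, Matrix.det_diagonal, hr3]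
  set z : Matrix.SpecialLinearGroup (Fin 3) F := ⟨Matrix.scalar (Fin 3) r, hzdet⟩ with hz
  have hzc : z ∈ Subgroup.center (Matrix.SpecialLinearGroup (Fin 3) F) := by
    rw [Matrix.SpecialLinearGroup.mem_center_iff]
    exact ⟨r, by simpa using hr3, rfl⟩
  have hmk : (QuotientGroup.mk (z * T) : Matrix.ProjectiveSpecialLinearGroup (Fin 3) F)
      = QuotientGroup.mk T := by
    rw [QuotientGroup.mk_mul, (QuotientGroup.eq_one_iff z).mpr hzc, one_mul]
  set M : Matrix (Fin 3) (Fin 3) F := ((z * T : Matrix.SpecialLinearGroup (Fin 3) F) :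
    Matrix (Fin 3) (Fin 3) F) with hM
  have hMM : M * M = 1 := by
    have e1 : M = r • (T : Matrix (Fin 3) (Fin 3) F) := by
      rw [hM, Matrix.SpecialLinearGroup.coe_mul]
      change Matrix.scalar (Fin 3) r * _ = _
      rw [Matrix.scalar_apply, ← Matrix.smul_eq_diagonal_mul]
    have e2 : (T : Matrix (Fin 3) (Fin 3) F) * (T : Matrix (Fin 3) (Fin 3) F)
        = r • (1 : Matrix (Fin 3) (Fin 3) F) := by
      have : ((T ^ 2 : Matrix.SpecialLinearGroup (Fin 3) F) : Matrix (Fin 3) (Fin 3) F)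
          = (T : Matrix (Fin 3) (Fin 3) F) * (T : Matrix (Fin 3) (Fin 3) F) := by
        rw [pow_two, Matrix.SpecialLinearGroup.coe_mul]
      rw [← this, ← hr, Matrix.scalar_apply, Matrix.smul_one_eq_diagonal]
    rw [e1, Matrix.smul_mul, Matrix.mul_smul, e2, smul_smul, smul_smul]
    have : r * r * r = 1 := by linear_combination hr3
    rw [this, one_smul]
  have hMdet : M.det = 1 := (z * T).2
  have hMne : M ≠ 1 := by
    intro h
    apply ht1
    rw [← hmk]
    have : z * T = 1 := Subtype.ext (by rw [← hM, h]; rfl)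
    rw [this]; rfl
  obtain ⟨P, hPdet, hMP⟩ := Cfsg.Agent.Helper11.PSL3Inv.exists_conj_diag h2 M hMM hMdet hMne
  set Pg : Matrix.SpecialLinearGroup (Fin 3) F := ⟨P, hPdet⟩ with hPg
  have hconj : z * T = Pg * Cfsg.Agent.Helper11.PSL3Inv.dSL * Pg⁻¹ := by
    rw [eq_mul_inv_iff_mul_eq]
    apply Subtype.ext
    rw [Matrix.SpecialLinearGroup.coe_mul, Matrix.SpecialLinearGroup.coe_mul]
    exact hMP
  have hconj' : (QuotientGroup.mk T : Matrix.ProjectiveSpecialLinearGroup (Fin 3) F)
      = QuotientGroup.mk Pg * QuotientGroup.mk Cfsg.Agent.Helper11.PSL3Inv.dSL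
        * (QuotientGroup.mk Pg)⁻¹ := by
    rw [← hmk, hconj, QuotientGroup.mk_mul, QuotientGroup.mk_mul, QuotientGroup.mk_inv]
  rw [hconj']
  refine ⟨(Cfsg.Agent.Helper11.PSL3Inv.centralizerConj _ _).symm.trans
    ((MulEquiv.subgroupCongr (Cfsg.Agent.Helper11.PSL3Inv.range_psi h2).symm).trans
      (QuotientGroup.quotientKerEquivRange Cfsg.Agent.Helper11.PSL3Inv.psi).symm)⟩

end Cfsg.Agent.S1219
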