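import Mathlib
import Cfsg.Statements.S1227
import Cfsg.Agent.Lib.Helper6.CIT

set_option autoImplicit false
open Cfsg

namespace Cfsg.Agent.S1227

open Cfsg.Agent.Helper6 Cfsg.Agent.Helper6.CIT

/-- `u` inverts `D`, `|H| = |T| (|T| - 1)` and `D` complements `T` in `H`. -/
theorem result {G : Type*} [Group G] [Finite G] (T : Sylow 2 G) (hnc : ¬ IsCyclic (T : Subgroup G)) (hnn : ¬ (T : Subgroup G).Normal) (hC : ∀ t : G, orderOf t = 2 → IsMulCommutative (Subgroup.centralizer ({t} : Set G)) ∧ ∀ c ∈ Subgroup.centralizer ({t} : Set G), c ^ 2 = 1) (u : G) (hu : orderOf u = 2) (huH : u ∉ Subgroup.normalizer ((T : Subgroup G) : Set G)) : (∀ d ∈ Subgroup.normalizer ((T : Subgroup G) : Set G) ⊓ (Subgroup.normalizer ((T : Subgroup G) : Set G)).map (MulAut.conj u).toMonoidHom, u * d * u⁻¹ = d⁻¹) ∧ Nat.card (Subgroup.normalizer ((T : Subgroup G) : Set G)) = Nat.card T * (Nat.card T - 1) ∧ Subgroup.IsComplement' ((Subgroup.normalizer ((T : Subgroup G) : Set G) ⊓ (Subgroup.normalizer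 ((T : Subgroup G) : Set G)).map (MulAut.conj u).toMonoidHom).subgroupOf (Subgroup.normalizer ((T : Subgroup G) : Set G))) ((T : Subgroup G).subgroupOf (Subgroup.normalizer ((T : Subgroup G) : Set G))) := by
  have hinv := inverted T hnc hnn hC u hu huH
  set N := Subgroup.normalizer ((T : Subgroup G) : Set G) with hN
  have hcompl : Subgroup.IsComplement' ((N ⊓ N.map (MulAut.conj u).toMonoidHom).subgroupOf N)
      ((T : Subgroup G).subgroupOf N) := by
    apply Subgroup.isComplement'_of_disjoint_and_mul_eq_univ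
    · rw [Subgroup.disjoint_def]
      intro x hxD hxT
      rw [Subgroup.mem_subgroupOf] at hxD hxT
      apply Subtype.ext
      exact D_inf_T T hnc hnn hC u hu huH x.1 hxD hxT
    · rw [Set.eq_univ_iff_forall]
      rintro ⟨h, hh⟩
      obtain ⟨d, hd, t, ht, rfl⟩ := H_eq T hnc hnn hC u hu huH h hh
      refine ⟨⟨d, hd.1⟩, ?_, ⟨t, Subgroup.le_normalizer ht⟩, ?_, rfl⟩
      · exact Subgroup.mem_subgroupOf.mpr hd
      · exact Subgroup.mem_subgroupOf.mpr ht
  refine ⟨hinv, ?_, hcompl⟩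
  have h1 := hcompl.card_mul_card
  have h2 : Nat.card ((N ⊓ N.map (MulAut.conj u).toMonoidHom).subgroupOf N) =
      Nat.card ↥(N ⊓ N.map (MulAut.conj u).toMonoidHom) :=
    Nat.card_congr (Subgroup.subgroupOfEquivOfLe inf_le_left).toEquiv
  have h3 : Nat.card ((T : Subgroup G).subgroupOf N) = Nat.card (T : Subgroup G) :=
    Nat.card_congr (Subgroup.subgroupOfEquivOfLe Subgroup.le_normalizer).toEquiv
  rw [h2, h3, card_D T hnc hnn hC u hu huH] at h1
  rw [← h1, mul_comm]

end Cfsg.Agent.S1227
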