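import Mathlib
import Cfsg.Statements.S1228
import Cfsg.Agent.Lib.Helper6.CIT

set_option autoImplicit false
open Cfsg

namespace Cfsg.Agent.S1228

open Cfsg.Agent.Helper6 Cfsg.Agent.Helper6.CIT Cfsg.Agent.Helper6.SE
open Cfsg.Agent.S1224 (orderOf_two_iff)

variable {G : Type*} [Group G] [Finite G]

/-- if `D = G_{x,y}` fixes the coset `u'H` then `G_{x,u'H} = D` -/
theorem D_eq_of_fix (T : Sylow 2 G) (hnc : ¬ IsCyclic (T : Subgroup G)) (hnn : ¬ (T : Subgroup G).Normal)
    (hC : Hyp G) (u : G) (hu : orderOf u = 2)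
    (huH : u ∉ Subgroup.normalizer ((T : Subgroup G) : Set G))
    (u' : G) (hu' : orderOf u' = 2)
    (hu'H : u' ∉ Subgroup.normalizer ((T : Subgroup G) : Set G))
    (hfix : ∀ d ∈ Subgroup.normalizer ((T : Subgroup G) : Set G) ⊓
      (Subgroup.normalizer ((T : Subgroup G) : Set G)).map (MulAut.conj u).toMonoidHom,
      d • (QuotientGroup.mk u' : G ⧸ Subgroup.normalizer ((T : Subgroup G) : Set G)) = QuotientGroup.mk u') :
    Subgroup.normalizer ((T : Subgroup G) : Set G) ⊓
      (Subgroup.normalizer ((T : Subgroup G) : Set G)).map (MulAut.conj u).toMonoidHom =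
    Subgroup.normalizer ((T : Subgroup G) : Set G) ⊓
      (Subgroup.normalizer ((T : Subgroup G) : Set G)).map (MulAut.conj u').toMonoidHom := by
  apply Subgroup.eq_of_le_of_card_ge
  · intro d hd
    rw [mem_D_iff]
    exact ⟨((mem_D_iff _ u d).mp hd).1, hfix d hd⟩
  · rw [card_D T hnc hnn hC u hu huH, card_D T hnc hnn hC u' hu' hu'H]

/-- the only cosets fixed by `D` are `H` and `uH` -/
theorem fix_D (T : Sylow 2 G) (hnc : ¬ IsCyclic (T : Subgroup G)) (hnn : ¬ (T : Subgroup G).Normal)
    (hC : Hyp G) (u : G) (hu : orderOf u = 2)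
    (huH : u ∉ Subgroup.normalizer ((T : Subgroup G) : Set G))
    (z : G ⧸ Subgroup.normalizer ((T : Subgroup G) : Set G))
    (hfix : ∀ d ∈ Subgroup.normalizer ((T : Subgroup G) : Set G) ⊓
      (Subgroup.normalizer ((T : Subgroup G) : Set G)).map (MulAut.conj u).toMonoidHom, d • z = z) :
    z = QuotientGroup.mk 1 ∨ z = QuotientGroup.mk u := by
  by_contra hcon
  push Not at hcon
  obtain ⟨hzx, hzy⟩ := hcon
  obtain ⟨hu1, huu⟩ := (orderOf_two_iff u).mp hu
  have hui : u⁻¹ = u := inv_eq_self_of_mul_self huu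
  have hinv := inverted T hnc hnn hC u hu huH
  obtain ⟨u', hu', hu'N, rfl⟩ := exists_invol_swap T hnc hnn hC z hzx
  have hDD' := D_eq_of_fix T hnc hnn hC u hu huH u' hu' hu'N hfix
  have hinv' := inverted T hnc hnn hC u' hu' hu'N
  rw [← hDD'] at hinv'
  obtain ⟨hu'1, hu'u'⟩ := (orderOf_two_iff u').mp hu'
  -- the point z₂ = u • z
  have hz₂ : (QuotientGroup.mk (u * u') : G ⧸ Subgroup.normalizer ((T : Subgroup G) : Set G)) ≠
      QuotientGroup.mk 1 := by
    intro e
    apply hzy
    have h1 : u • (QuotientGroup.mk u' : G ⧸ Subgroup.normalizer ((T : Subgroup G) : Set G)) =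
        QuotientGroup.mk 1 := by
      rw [MulAction.Quotient.smul_mk, smul_eq_mul]; exact e
    have h2 : u • (QuotientGroup.mk 1 : G ⧸ Subgroup.normalizer ((T : Subgroup G) : Set G)) =
        QuotientGroup.mk u := by
      rw [MulAction.Quotient.smul_mk, smul_eq_mul, mul_one]
    rw [← h2, ← h1, ← mul_smul, huu, one_smul]
  have hfix₂ : ∀ d ∈ Subgroup.normalizer ((T : Subgroup G) : Set G) ⊓
      (Subgroup.normalizer ((T : Subgroup G) : Set G)).map (MulAut.conj u).toMonoidHom,
      d • (QuotientGroup.mk (u * u') : G ⧸ Subgroup.normalizer ((T : Subgroup G) : Set G)) =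
        QuotientGroup.mk (u * u') := by
    intro d hd
    have h1 : (QuotientGroup.mk (u * u') : G ⧸ Subgroup.normalizer ((T : Subgroup G) : Set G)) =
        u • QuotientGroup.mk u' := by
      rw [MulAction.Quotient.smul_mk, smul_eq_mul]
    rw [h1, ← mul_smul]
    have h2 : d * u = u * d⁻¹ := by
      have := hinv d hd
      rw [hui] at this
      calc d * u = (u * u) * d * u := by rw [huu, one_mul]
        _ = u * (u * d * u) := by group
        _ = u * d⁻¹ := by rw [this]
    rw [h2, mul_smul, hfix d⁻¹ (Subgroup.inv_mem _ hd)]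
  obtain ⟨u'', hu'', hu''N, hz₂eq⟩ := exists_invol_swap T hnc hnn hC _ hz₂
  rw [hz₂eq] at hfix₂
  have hDD'' := D_eq_of_fix T hnc hnn hC u hu huH u'' hu'' hu''N hfix₂
  have hinv'' := inverted T hnc hnn hC u'' hu'' hu''N
  rw [← hDD''] at hinv''
  obtain ⟨hu''1, hu''u''⟩ := (orderOf_two_iff u'').mp hu''
  -- n = u'' u u' lies in H and inverts D
  apply no_inverting T hnc hnn hC u hu huH (u'' * (u * u'))
  · have h1 : (u'' * (u * u')) • (QuotientGroup.mk 1 : G ⧸ Subgroup.normalizer ((T : Subgroup G) : Set G)) =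
        QuotientGroup.mk 1 := by
      rw [mul_smul, MulAction.Quotient.smul_mk, smul_eq_mul, mul_one, hz₂eq,
        MulAction.Quotient.smul_mk, smul_eq_mul, hu''u'']
    rw [smul_mk_eq_iff] at h1
    simpa using h1
  · intro d hd
    have h1 : u * u' * d * (u * u')⁻¹ = d := by
      calc u * u' * d * (u * u')⁻¹ = u * (u' * d * u'⁻¹) * u⁻¹ := by group
        _ = u * d⁻¹ * u⁻¹ := by rw [hinv' d hd]
        _ = d := by rw [hinv d⁻¹ (Subgroup.inv_mem _ hd), inv_inv]
    calc u'' * (u * u') * d * (u'' * (u * u'))⁻¹ = u'' * (u * u' * d * (u * u')⁻¹) * u''⁻¹ := by group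
      _ = u'' * d * u''⁻¹ := by rw [h1]
      _ = d⁻¹ := hinv'' d hd

/-- `N_G(D) = D ⟨u⟩`, and the fixed cosets of `D` are `H` and `uH`. -/
theorem result {G : Type*} [Group G] [Finite G] (T : Sylow 2 G) (hnc : ¬ IsCyclic (T : Subgroup G)) (hnn : ¬ (T : Subgroup G).Normal) (hC : ∀ t : G, orderOf t = 2 → IsMulCommutative (Subgroup.centralizer ({t} : Set G)) ∧ ∀ c ∈ Subgroup.centralizer ({t} : Set G), c ^ 2 = 1) (u : G) (hu : orderOf u = 2) (huH : u ∉ Subgroup.normalizer ((T : Subgroup G) : Set G)) : Subgroup.normalizer ((Subgroup.normalizer ((T : Subgroup G) : Set G) ⊓ (Subgroup.normalizer ((T : Subgroup G) : Set G)).map (MulAut.conj u).toMonoidHom : Subgroup G) : Set G) = (Subgroup.normalizer ((T : Subgroup G) : Set G) ⊓ (Subgroup.normalizer ((T : Subgroup G) : Set G)).map (MulAut.conj u).toMonoidHom) ⊔ Subgroup.zpowers u ∧ ∀ g : G, ((∀ d ∈ Subgroup.normalizer ((T : Subgroup G) : Set G) ⊓ (Subgroup.normalizer ((T : Subgroup G) : Set G)).map (MulAut.conj u).toMonoidHom, d • (QuotientGroup.mk g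 : G ⧸ Subgroup.normalizer ((T : Subgroup G) : Set G)) = QuotientGroup.mk g) ↔ (QuotientGroup.mk g : G ⧸ Subgroup.normalizer ((T : Subgroup G) : Set G)) = QuotientGroup.mk 1 ∨ (QuotientGroup.mk g : G ⧸ Subgroup.normalizer ((T : Subgroup G) : Set G)) = QuotientGroup.mk u) := by
  obtain ⟨hu1, huu⟩ := (orderOf_two_iff u).mp hu
  have hui : u⁻¹ = u := inv_eq_self_of_mul_self huu
  have hinv := inverted T hnc hnn hC u hu huH
  have hfixD := fix_D T hnc hnn hC u hu huH
  set N := Subgroup.normalizer ((T : Subgroup G) : Set G) with hN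
  have hux : u • (QuotientGroup.mk 1 : G ⧸ N) = QuotientGroup.mk u := by
    rw [MulAction.Quotient.smul_mk, smul_eq_mul, mul_one]
  have huy : u • (QuotientGroup.mk u : G ⧸ N) = QuotientGroup.mk 1 := by
    rw [MulAction.Quotient.smul_mk, smul_eq_mul, huu]
  constructor
  · apply le_antisymm
    · intro n hn
      rw [Subgroup.mem_normalizer_iff] at hn
      -- n maps x into Fix(D)
      have hnfix : ∀ d ∈ N ⊓ N.map (MulAut.conj u).toMonoidHom,
          d • (n • (QuotientGroup.mk 1 : G ⧸ N)) = n • QuotientGroup.mk 1 := by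
        intro d hd
        have h1 : n⁻¹ * d * n ∈ N ⊓ N.map (MulAut.conj u).toMonoidHom := by
          rw [hn]
          have : n * (n⁻¹ * d * n) * n⁻¹ = d := by group
          rw [this]; exact hd
        have h2 := ((mem_D_iff N u _).mp h1).1
        have e : d * n = n * (n⁻¹ * d * n) := by group
        rw [← mul_smul, e, mul_smul, h2]
      -- the case of an element fixing x
      have hcase : ∀ n' : G, (∀ h, h ∈ N ⊓ N.map (MulAut.conj u).toMonoidHom ↔
          n' * h * n'⁻¹ ∈ N ⊓ N.map (MulAut.conj u).toMonoidHom) →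
          n' • (QuotientGroup.mk 1 : G ⧸ N) = QuotientGroup.mk 1 →
          n' ∈ N ⊓ N.map (MulAut.conj u).toMonoidHom := by
        intro n' hn' hfix'
        rw [smul_mk_eq_iff] at hfix'
        have hn'N : n' ∈ N := by simpa using hfix'
        exact mem_D_of_normalizes T hnc hnn hC u hu huH n' hn'N (fun d hd => (hn' d).mp hd)
      rcases hfixD _ hnfix with h | h
      · exact Subgroup.mem_sup_left (hcase n hn h)
      · -- u n fixes x
        have hun : ∀ h, h ∈ N ⊓ N.map (MulAut.conj u).toMonoidHom ↔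
            (u * n) * h * (u * n)⁻¹ ∈ N ⊓ N.map (MulAut.conj u).toMonoidHom := by
          intro h'
          have e : (u * n) * h' * (u * n)⁻¹ = u * (n * h' * n⁻¹) * u⁻¹ := by group
          rw [e, hn h']
          constructor
          · intro hh
            rw [hinv _ hh]; exact Subgroup.inv_mem _ hh
          · intro hh
            have := hinv _ hh
            have e2 : n * h' * n⁻¹ = (u * (u * (n * h' * n⁻¹) * u⁻¹) * u⁻¹)⁻¹⁻¹ := by
              rw [inv_inv, hui]
              calc n * h' * n⁻¹ = (u * u) * (n * h' * n⁻¹) * (u * u) := by rw [huu, one_mul, mul_one]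
                _ = u * (u * (n * h' * n⁻¹) * u) * u := by group
            rw [e2, this, inv_inv]
            exact Subgroup.inv_mem _ hh
        have hfix' : (u * n) • (QuotientGroup.mk 1 : G ⧸ N) = QuotientGroup.mk 1 := by
          rw [mul_smul, h, huy]
        have h3 := hcase (u * n) hun hfix'
        have e : n = u * (u * n) := by rw [← mul_assoc, huu, one_mul]
        rw [e]
        exact Subgroup.mul_mem _ (Subgroup.mem_sup_right (Subgroup.mem_zpowers u)) (Subgroup.mem_sup_left h3)
    · apply sup_le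
      · exact Subgroup.le_normalizer
      · rw [Subgroup.zpowers_le, Subgroup.mem_normalizer_iff]
        intro h
        constructor
        · intro hh
          rw [hinv h hh]; exact Subgroup.inv_mem _ hh
        · intro hh
          have := hinv _ hh
          have e2 : h = (u * (u * h * u⁻¹) * u⁻¹)⁻¹⁻¹ := by
            rw [inv_inv, hui]
            calc h = (u * u) * h * (u * u) := by rw [huu, one_mul, mul_one]
              _ = u * (u * h * u) * u := by group
          rw [e2, this, inv_inv]
          exact Subgroup.inv_mem _ hh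
  · intro g
    constructor
    · intro h
      exact hfixD _ h
    · rintro (h | h) d hd
      · rw [h]; exact ((mem_D_iff N u d).mp hd).1
      · rw [h]; exact ((mem_D_iff N u d).mp hd).2

end Cfsg.Agent.S1228
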