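import Mathlib
import Cfsg.Statements.S1229
import Cfsg.Agent.Lib.Helper6.CIT
import Cfsg.Agent.S1228

set_option autoImplicit false
open Cfsg

namespace Cfsg.Agent.S1229

open Cfsg.Agent.Helper6 Cfsg.Agent.Helper6.CIT Cfsg.Agent.Helper6.SE
open Cfsg.Agent.S1224 (orderOf_two_iff)

variable {G : Type*} [Group G] [Finite G]

/-- a non-identity element of `D = G_{x,y}` fixes no third coset -/
theorem fix_of_ne_one (T : Sylow 2 G) (hnc : ¬ IsCyclic (T : Subgroup G)) (hnn : ¬ (T : Subgroup G).Normal)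
    (hC : Hyp G) (u : G) (hu : orderOf u = 2)
    (huH : u ∉ Subgroup.normalizer ((T : Subgroup G) : Set G))
    (d : G) (hd : d ∈ Subgroup.normalizer ((T : Subgroup G) : Set G) ⊓
      (Subgroup.normalizer ((T : Subgroup G) : Set G)).map (MulAut.conj u).toMonoidHom) (hd1 : d ≠ 1)
    (z : G ⧸ Subgroup.normalizer ((T : Subgroup G) : Set G)) (hfix : d • z = z) :
    z = QuotientGroup.mk 1 ∨ z = QuotientGroup.mk u := by
  by_contra hcon
  push Not at hcon
  obtain ⟨hzx, hzy⟩ := hcon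
  obtain ⟨u', hu', hu'N, rfl⟩ := exists_invol_swap T hnc hnn hC z hzx
  -- d ∈ D' = G_{x,z}
  have hdD' : d ∈ Subgroup.normalizer ((T : Subgroup G) : Set G) ⊓
      (Subgroup.normalizer ((T : Subgroup G) : Set G)).map (MulAut.conj u').toMonoidHom := by
    rw [mem_D_iff]
    exact ⟨((mem_D_iff _ u d).mp hd).1, hfix⟩
  -- D' ≤ D
  have hle : Subgroup.normalizer ((T : Subgroup G) : Set G) ⊓
      (Subgroup.normalizer ((T : Subgroup G) : Set G)).map (MulAut.conj u').toMonoidHom ≤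
      Subgroup.normalizer ((T : Subgroup G) : Set G) ⊓
      (Subgroup.normalizer ((T : Subgroup G) : Set G)).map (MulAut.conj u).toMonoidHom := by
    intro e he
    obtain ⟨d₀, hd₀, t, ht, rfl⟩ := H_eq T hnc hnn hC u hu huH e he.1
    have h1 := D_abelian T hnc hnn hC u' hu' hu'N d (d₀ * t) hdD' he
    have h2 := D_abelian T hnc hnn hC u hu huH d d₀ hd hd₀
    have h3 : d * t * d⁻¹ = t := by
      have : d₀ * (d * t) = d₀ * (t * d) := by
        calc d₀ * (d * t) = (d₀ * d) * t := by group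
          _ = (d * d₀) * t := by rw [h2]
          _ = d * (d₀ * t) := by group
          _ = d₀ * t * d := h1
          _ = d₀ * (t * d) := by group
      have := mul_left_cancel this
      rw [this]; group
    have ht1 : t = 1 := by
      by_contra ht1
      exact hd1 (D_free T hnc hnn hC u hu huH d t hd ht ht1 h3)
    rw [ht1, mul_one]
    exact hd₀
  have heq : Subgroup.normalizer ((T : Subgroup G) : Set G) ⊓
      (Subgroup.normalizer ((T : Subgroup G) : Set G)).map (MulAut.conj u').toMonoidHom =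
      Subgroup.normalizer ((T : Subgroup G) : Set G) ⊓
      (Subgroup.normalizer ((T : Subgroup G) : Set G)).map (MulAut.conj u).toMonoidHom := by
    apply Subgroup.eq_of_le_of_card_ge hle
    rw [card_D T hnc hnn hC u hu huH, card_D T hnc hnn hC u' hu' hu'N]
  have hfixall : ∀ e ∈ Subgroup.normalizer ((T : Subgroup G) : Set G) ⊓
      (Subgroup.normalizer ((T : Subgroup G) : Set G)).map (MulAut.conj u).toMonoidHom,
      e • (QuotientGroup.mk u' : G ⧸ Subgroup.normalizer ((T : Subgroup G) : Set G)) = QuotientGroup.mk u' := by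
    intro e he
    rw [← heq] at he
    exact ((mem_D_iff _ u' e).mp he).2
  rcases Cfsg.Agent.S1228.fix_D T hnc hnn hC u hu huH _ hfixall with h | h
  · exact hzx h
  · exact hzy h

/-- `T` is transitive on the cosets other than `H` -/
theorem T_trans (T : Sylow 2 G) (hnc : ¬ IsCyclic (T : Subgroup G)) (hnn : ¬ (T : Subgroup G).Normal)
    (hC : Hyp G) (u : G) (hu : orderOf u = 2)
    (huH : u ∉ Subgroup.normalizer ((T : Subgroup G) : Set G))
    (z : G ⧸ Subgroup.normalizer ((T : Subgroup G) : Set G)) (hz : z ≠ QuotientGroup.mk 1) :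
    ∃ s ∈ (T : Subgroup G), s • (QuotientGroup.mk u : G ⧸ Subgroup.normalizer ((T : Subgroup G) : Set G)) = z := by
  obtain ⟨u', hu', hu'N, rfl⟩ := exists_invol_swap T hnc hnn hC z hz
  obtain ⟨e₁, he₁, he₁1⟩ := exists_ne_one_D T hnc hnn hC u' hu' hu'N
  obtain ⟨d₁, hd₁, t, ht, hdt⟩ := H_eq T hnc hnn hC u hu huH e₁ he₁.1
  have hd₁1 : d₁ ≠ 1 := by
    intro e
    rw [e, one_mul] at hdt
    rw [hdt] at he₁ he₁1
    exact he₁1 (D_inf_T T hnc hnn hC u' hu' hu'N t he₁ ht)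
  have hTab : ∀ a ∈ (T : Subgroup G), ∀ b ∈ (T : Subgroup G), a * b = b * a := by
    intro a ha b hb
    have haa := sq_eq_one T hnc hC a ha
    have hbb := sq_eq_one T hnc hC b hb
    have hab := sq_eq_one T hnc hC (a * b) (Subgroup.mul_mem _ ha hb)
    calc a * b = (b * b) * (a * b) * (a * a) := by rw [haa, hbb, one_mul, mul_one]
      _ = b * ((b * a) * (b * a)) * a := by group
      _ = b * a := by
        have hba := sq_eq_one T hnc hC (b * a) (Subgroup.mul_mem _ hb ha)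
        rw [hba, mul_one]
  -- the map s ↦ (d₁⁻¹ s d₁) s⁻¹ on T is injective, hence surjective
  have hconjT : ∀ s ∈ (T : Subgroup G), d₁⁻¹ * s * d₁ ∈ (T : Subgroup G) := by
    intro s hs
    have := (Subgroup.mem_normalizer_iff.mp (Subgroup.inv_mem _ hd₁.1) s).mp hs
    rwa [inv_inv] at this
  let ψ : ↥(T : Subgroup G) → ↥(T : Subgroup G) := fun s =>
    ⟨d₁⁻¹ * s.1 * d₁ * s.1⁻¹, Subgroup.mul_mem _ (hconjT s.1 s.2) (Subgroup.inv_mem _ s.2)⟩
  have hψinj : Function.Injective ψ := by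
    rintro ⟨s, hs⟩ ⟨s', hs'⟩ h
    have h' : d₁⁻¹ * s * d₁ * s⁻¹ = d₁⁻¹ * s' * d₁ * s'⁻¹ := congrArg Subtype.val h
    apply Subtype.ext
    show s = s'
    -- r = s'⁻¹ s is centralised by d₁
    have hr : s'⁻¹ * s ∈ (T : Subgroup G) := Subgroup.mul_mem _ (Subgroup.inv_mem _ hs') hs
    have h1 : d₁⁻¹ * (s'⁻¹ * s) * d₁ = s'⁻¹ * s := by
      have e1 : d₁⁻¹ * (s'⁻¹ * s) * d₁ = (d₁⁻¹ * s' * d₁)⁻¹ * (d₁⁻¹ * s * d₁) := by group
      have e2 : d₁⁻¹ * s * d₁ = (d₁⁻¹ * s' * d₁ * s'⁻¹) * s := by rw [← h']; group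
      rw [e1, e2]
      group
    have h2 : d₁ * (s'⁻¹ * s) * d₁⁻¹ = s'⁻¹ * s := by
      calc d₁ * (s'⁻¹ * s) * d₁⁻¹ = d₁ * (d₁⁻¹ * (s'⁻¹ * s) * d₁) * d₁⁻¹ := by rw [h1]
        _ = s'⁻¹ * s := by group
    refine by_contra (fun hne => ?_)
    have hr1 : s'⁻¹ * s ≠ 1 := by
      intro e
      apply hne
      calc s = s' * (s'⁻¹ * s) := by group
        _ = s' := by rw [e, mul_one]
    exact hd₁1 (D_free T hnc hnn hC u hu huH d₁ _ hd₁ hr hr1 h2)
  have hψsurj : Function.Surjective ψ := Finite.injective_iff_surjective.mp hψinj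
  obtain ⟨⟨s, hs⟩, hsψ⟩ := hψsurj ⟨t, ht⟩
  have hs' : d₁⁻¹ * s * d₁ * s⁻¹ = t := congrArg Subtype.val hsψ
  have hconj : s * d₁ * s⁻¹ = e₁ := by
    rw [hdt, ← hs']; group
  refine ⟨s, hs, ?_⟩
  -- e₁ fixes s • y
  have hfix : e₁ • (s • (QuotientGroup.mk u : G ⧸ Subgroup.normalizer ((T : Subgroup G) : Set G))) =
      s • QuotientGroup.mk u := by
    rw [← hconj, ← mul_smul]
    have : s * d₁ * s⁻¹ * s = s * d₁ := by group
    rw [this, mul_smul, ((mem_D_iff _ u d₁).mp hd₁).2]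
  rcases fix_of_ne_one T hnc hnn hC u' hu' hu'N e₁ he₁ he₁1 _ hfix with h | h
  · exfalso
    have hsx : s • (QuotientGroup.mk 1 : G ⧸ Subgroup.normalizer ((T : Subgroup G) : Set G)) =
        QuotientGroup.mk 1 := by
      rw [smul_mk_eq_iff]; simpa using Subgroup.le_normalizer hs
    rw [← hsx] at h
    have := smul_left_cancel s h
    have hxy : (QuotientGroup.mk 1 : G ⧸ Subgroup.normalizer ((T : Subgroup G) : Set G)) ≠ QuotientGroup.mk u := by
      rw [mk_ne_iff]; simpa using huH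
    exact hxy this.symm
  · exact h

/-- `G` is sharply triply transitive on `G/H` and `T` is regular on the cosets other than `H`. -/
theorem result {G : Type*} [Group G] [Finite G] (T : Sylow 2 G) (hnc : ¬ IsCyclic (T : Subgroup G)) (hnn : ¬ (T : Subgroup G).Normal) (hC : ∀ t : G, orderOf t = 2 → IsMulCommutative (Subgroup.centralizer ({t} : Set G)) ∧ ∀ c ∈ Subgroup.centralizer ({t} : Set G), c ^ 2 = 1) : (∀ x₁ x₂ x₃ y₁ y₂ y₃ : G ⧸ Subgroup.normalizer ((T : Subgroup G) : Set G), x₁ ≠ x₂ → x₁ ≠ x₃ → x₂ ≠ x₃ → y₁ ≠ y₂ → y₁ ≠ y₃ → y₂ ≠ y₃ → ∃ g : G, g • x₁ = y₁ ∧ g • x₂ = y₂ ∧ g • x₃ = y₃) ∧ (∀ g : G, ∀ x₁ x₂ x₃ : G ⧸ Subgroup.normalizer ((T : Subgroup G) : Set G), x₁ ≠ x₂ → x₁ ≠ x₃ → x₂ ≠ x₃ → g • x₁ = x₁ → g • x₂ = x₂ → g • x₃ = x₃ → g = 1) ∧ (∀ x y : G ⧸ Subgroup.normalizer ((T : Subgroup G) : Set G), x ≠ QuotientGroup.mk 1 → y ≠ QuotientGroup.mk 1 → ∃! t : G, t ∈ T ∧ t • x = y) := by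
  have hSE := se T hnc hnn hC
  set N := Subgroup.normalizer ((T : Subgroup G) : Set G) with hN
  -- an involution outside H
  have hexu : ∃ u : G, orderOf u = 2 ∧ u ∉ N := by
    have hne : ∃ g : G, g ∉ N := by
      by_contra h
      push Not at h
      exact hSE.1 (eq_top_iff.mpr (fun g _ => h g))
    obtain ⟨g, hg⟩ := hne
    have hz : (QuotientGroup.mk g : G ⧸ N) ≠ QuotientGroup.mk 1 := by
      rw [mk_ne_iff]
      intro h
      apply hg
      have := N.inv_mem h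
      simpa using this
    obtain ⟨u, hu, huN, -⟩ := exists_invol_swap T hnc hnn hC _ hz
    exact ⟨u, hu, huN⟩
  obtain ⟨u, hu, huN⟩ := hexu
  have hxy : (QuotientGroup.mk 1 : G ⧸ N) ≠ QuotientGroup.mk u := by
    rw [mk_ne_iff]; simpa using huN
  have hTfix : ∀ s ∈ (T : Subgroup G), s • (QuotientGroup.mk 1 : G ⧸ N) = QuotientGroup.mk 1 := by
    intro s hs
    have hsN : s ∈ N := Subgroup.le_normalizer hs
    rw [smul_mk_eq_iff]; simpa using hsN
  -- a third point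
  obtain ⟨t₀, ht₀T, ht₀⟩ := exists_invol T hnc
  have ht₀1 : t₀ ≠ 1 := ((orderOf_two_iff t₀).mp ht₀).1
  have hw₀y : t₀ • (QuotientGroup.mk u : G ⧸ N) ≠ QuotientGroup.mk u := by
    intro h
    exact ht₀1 (T_free T hnc hnn hC t₀ ht₀T _ hxy.symm h)
  have hw₀x : t₀ • (QuotientGroup.mk u : G ⧸ N) ≠ QuotientGroup.mk 1 := by
    intro h
    rw [← hTfix t₀ ht₀T] at h
    exact hxy (smul_left_cancel t₀ h).symm
  -- D is transitive on the points other than x, y
  have hDtrans : ∀ z : G ⧸ N, z ≠ QuotientGroup.mk 1 → z ≠ QuotientGroup.mk u →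
      ∃ d ∈ N ⊓ N.map (MulAut.conj u).toMonoidHom, d • z = t₀ • (QuotientGroup.mk u : G ⧸ N) := by
    intro z hzx hzy
    obtain ⟨s, hs, rfl⟩ := T_trans T hnc hnn hC u hu huN z hzx
    have hs1 : s ≠ 1 := by
      rintro rfl
      rw [one_smul] at hzy
      exact hzy rfl
    obtain ⟨d, hd, hds⟩ := D_trans T hnc hnn hC u hu huN s t₀ hs hs1 ht₀T ht₀1
    refine ⟨d, hd, ?_⟩
    rw [← mul_smul]
    have : d * s = (d * s * d⁻¹) * d := by group
    rw [this, hds, mul_smul, ((mem_D_iff N u d).mp hd).2]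
  -- every triple can be moved to the standard triple
  have hstd : ∀ x₁ x₂ x₃ : G ⧸ N, x₁ ≠ x₂ → x₁ ≠ x₃ → x₂ ≠ x₃ →
      ∃ g : G, g • x₁ = QuotientGroup.mk 1 ∧ g • x₂ = QuotientGroup.mk u ∧
        g • x₃ = t₀ • (QuotientGroup.mk u : G ⧸ N) := by
    intro x₁ x₂ x₃ h12 h13 h23
    obtain ⟨g₁, hg₁⟩ := MulAction.exists_smul_eq G x₁ (QuotientGroup.mk 1 : G ⧸ N)
    have h2 : g₁ • x₂ ≠ QuotientGroup.mk 1 := by
      rw [← hg₁]
      intro h
      exact h12 (smul_left_cancel g₁ h).symm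
    obtain ⟨s, hs, hsy⟩ := T_trans T hnc hnn hC u hu huN _ h2
    have hsi : s⁻¹ • (g₁ • x₂) = QuotientGroup.mk u := by rw [← hsy, inv_smul_smul]
    have hsix : s⁻¹ • (QuotientGroup.mk 1 : G ⧸ N) = QuotientGroup.mk 1 :=
      hTfix s⁻¹ (Subgroup.inv_mem _ hs)
    have h3x : s⁻¹ • (g₁ • x₃) ≠ QuotientGroup.mk 1 := by
      rw [← hsix, ← hg₁]
      intro h
      exact h13 (smul_left_cancel g₁ (smul_left_cancel s⁻¹ h)).symm
    have h3y : s⁻¹ • (g₁ • x₃) ≠ QuotientGroup.mk u := by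
      rw [← hsi]
      intro h
      exact h23 (smul_left_cancel g₁ (smul_left_cancel s⁻¹ h)).symm
    obtain ⟨d, hd, hdz⟩ := hDtrans _ h3x h3y
    obtain ⟨hdx, hdy⟩ := (mem_D_iff N u d).mp hd
    refine ⟨d * (s⁻¹ * g₁), ?_, ?_, ?_⟩
    · rw [mul_smul, mul_smul, hg₁, hsix, hdx]
    · rw [mul_smul, mul_smul, hsi, hdy]
    · rw [mul_smul, mul_smul, hdz]
  refine ⟨?_, ?_, ?_⟩
  · intro x₁ x₂ x₃ y₁ y₂ y₃ h12 h13 h23 k12 k13 k23
    obtain ⟨g, hg1, hg2, hg3⟩ := hstd x₁ x₂ x₃ h12 h13 h23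
    obtain ⟨k, hk1, hk2, hk3⟩ := hstd y₁ y₂ y₃ k12 k13 k23
    refine ⟨k⁻¹ * g, ?_, ?_, ?_⟩
    · rw [mul_smul, hg1, ← hk1, inv_smul_smul]
    · rw [mul_smul, hg2, ← hk2, inv_smul_smul]
    · rw [mul_smul, hg3, ← hk3, inv_smul_smul]
  · intro g x₁ x₂ x₃ h12 h13 h23 f1 f2 f3
    obtain ⟨k, hk1, hk2, hk3⟩ := hstd x₁ x₂ x₃ h12 h13 h23
    -- conjugate g
    have e1 : (k * g * k⁻¹) • (QuotientGroup.mk 1 : G ⧸ N) = QuotientGroup.mk 1 := by
      rw [← hk1, ← mul_smul]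
      have : k * g * k⁻¹ * k = k * g := by group
      rw [this, mul_smul, f1]
    have e2 : (k * g * k⁻¹) • (QuotientGroup.mk u : G ⧸ N) = QuotientGroup.mk u := by
      rw [← hk2, ← mul_smul]
      have : k * g * k⁻¹ * k = k * g := by group
      rw [this, mul_smul, f2]
    have e3 : (k * g * k⁻¹) • (t₀ • (QuotientGroup.mk u : G ⧸ N)) = t₀ • QuotientGroup.mk u := by
      rw [← hk3, ← mul_smul]
      have : k * g * k⁻¹ * k = k * g := by group
      rw [this, mul_smul, f3]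
    have hmem : k * g * k⁻¹ ∈ N ⊓ N.map (MulAut.conj u).toMonoidHom := (mem_D_iff N u _).mpr ⟨e1, e2⟩
    by_contra hg1
    have hne : k * g * k⁻¹ ≠ 1 := by
      intro e
      apply hg1
      calc g = k⁻¹ * (k * g * k⁻¹) * k := by group
        _ = 1 := by rw [e]; group
    rcases fix_of_ne_one T hnc hnn hC u hu huN _ hmem hne _ e3 with h | h
    · exact hw₀x h
    · exact hw₀y h
  · intro x y hx hy
    obtain ⟨s, hs, hsx⟩ := T_trans T hnc hnn hC u hu huN x hx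
    obtain ⟨s', hs', hsy⟩ := T_trans T hnc hnn hC u hu huN y hy
    refine ⟨s' * s⁻¹, ⟨Subgroup.mul_mem _ hs' (Subgroup.inv_mem _ hs), ?_⟩, ?_⟩
    · rw [← hsx, mul_smul, inv_smul_smul, hsy]
    · rintro t ⟨ht, htx⟩
      have hfix : ((s' * s⁻¹)⁻¹ * t) • x = x := by
        rw [mul_smul, htx, ← hsy, ← hsx, mul_inv_rev, inv_inv, mul_smul, inv_smul_smul]
      have hmemT : (s' * s⁻¹)⁻¹ * t ∈ (T : Subgroup G) :=
        Subgroup.mul_mem _ (Subgroup.inv_mem _ (Subgroup.mul_mem _ hs' (Subgroup.inv_mem _ hs))) ht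
      have := T_free T hnc hnn hC _ hmemT x hx hfix
      calc t = (s' * s⁻¹) * ((s' * s⁻¹)⁻¹ * t) := by group
        _ = s' * s⁻¹ := by rw [this, mul_one]

end Cfsg.Agent.S1229
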