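import Mathlib
import Cfsg.Statements.S1231

set_option autoImplicit false
open Cfsg

namespace Cfsg.Agent.S1231

open scoped Pointwise

variable {G : Type*} [Group G]

/-- The conjugate subgroup `g X g⁻¹`. -/
abbrev cj (g : G) (X : Subgroup G) : Subgroup G := X.map (MulAut.conj g).toMonoidHom

theorem mem_cj (g a : G) (X : Subgroup G) : a ∈ cj g X ↔ g⁻¹ * a * g ∈ X := by
  constructor
  · rintro ⟨x, hx, rfl⟩
    simpa [MulAut.conj_apply, mul_assoc] using hx
  · intro h
    exact ⟨g⁻¹ * a * g, h, by simp [MulAut.conj_apply, mul_assoc]⟩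

theorem card_cj (g : G) (X : Subgroup G) : Nat.card (cj g X) = Nat.card X :=
  Subgroup.card_map_of_injective (MulAut.conj g).injective

theorem cj_cj (g h : G) (X : Subgroup G) : cj g (cj h X) = cj (g * h) X := by
  ext a
  simp only [mem_cj]
  constructor <;> intro hh <;> convert hh using 1 <;> group

theorem cj_mono (g : G) {X Y : Subgroup G} (h : X ≤ Y) : cj g X ≤ cj g Y := Subgroup.map_mono h

theorem cj_of_mem {H : Subgroup G} {h : G} (hh : h ∈ H) : cj h H = H := by
  ext a
  rw [mem_cj]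
  constructor
  · intro ha
    have : a = h * (h⁻¹ * a * h) * h⁻¹ := by group
    rw [this]
    exact H.mul_mem (H.mul_mem hh ha) (H.inv_mem hh)
  · intro ha
    exact H.mul_mem (H.mul_mem (H.inv_mem hh) ha) hh

theorem cj_one_inv (g : G) (X : Subgroup G) : cj g⁻¹ (cj g X) = X := by
  rw [cj_cj]
  ext a
  rw [mem_cj]
  simp

theorem normalizer_cj (g n : G) (X : Subgroup G) (hn : n ∈ Subgroup.normalizer (X : Set G)) :
    g * n * g⁻¹ ∈ Subgroup.normalizer (cj g X : Set G) := by
  rw [Subgroup.mem_normalizer_iff] at hn ⊢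
  intro a
  rw [mem_cj, mem_cj, hn (g⁻¹ * a * g)]
  constructor <;> intro hh <;> convert hh using 1 <;> group

/-- `X` has `p`-rank more than `j`. -/
def Rk (p j : ℕ) (X : Subgroup G) : Prop :=
  ∃ A : Subgroup G, A ≤ X ∧ IsMulCommutative A ∧ (∀ a ∈ A, a ^ p = 1) ∧ p ^ j < Nat.card A

theorem not_pRankLE_iff (p j : ℕ) (X : Subgroup G) : ¬ Cfsg.PRankLE p j ↥X ↔ Rk p j X := by
  unfold Cfsg.PRankLE Rk
  constructor
  · intro h
    push Not at h
    obtain ⟨A, hAc, hAe, hAcard⟩ := h
    refine ⟨A.map X.subtype, ?_, ?_, ?_, ?_⟩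
    · rintro _ ⟨a, -, rfl⟩
      exact a.2
    · exact Subgroup.map_isMulCommutative A X.subtype
    · rintro _ ⟨a, ha, rfl⟩
      have := hAe a ha
      rw [← map_pow, this, map_one]
    · rw [Subgroup.card_map_of_injective X.subtype_injective]
      exact hAcard
  · rintro ⟨A, hAX, hAc, hAe, hAcard⟩ h
    have := h (A.subgroupOf X) (Subgroup.subgroupOf_isMulCommutative X A) ?_
    · rw [Nat.card_congr (Subgroup.subgroupOfEquivOfLe hAX).toEquiv] at this
      omega
    · intro a ha
      rw [Subgroup.mem_subgroupOf] at ha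
      apply Subtype.ext
      rw [Subgroup.coe_pow, Subgroup.coe_one]
      exact hAe _ ha

theorem Rk.mono {p j : ℕ} {X Y : Subgroup G} (h : X ≤ Y) : Rk p j X → Rk p j Y := by
  rintro ⟨A, hA, h1, h2, h3⟩
  exact ⟨A, hA.trans h, h1, h2, h3⟩

theorem Rk.cj {p j : ℕ} {X : Subgroup G} (g : G) : Rk p j X → Rk p j (cj g X) := by
  rintro ⟨A, hA, h1, h2, h3⟩
  refine ⟨S1231.cj g A, cj_mono g hA, Subgroup.map_isMulCommutative A _, ?_, ?_⟩
  · rintro _ ⟨a, ha, rfl⟩
    rw [← map_pow, h2 a ha, map_one]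
  · rw [card_cj]; exact h3

/-- A subgroup witnessing the rank contains a `p`-subgroup witnessing it. -/
theorem Rk.exists_pGroup {p j : ℕ} [Fact p.Prime] {X : Subgroup G} (h : Rk p j X) :
    ∃ A : Subgroup G, A ≤ X ∧ IsPGroup p A ∧ Rk p j A := by
  obtain ⟨A, hA, h1, h2, h3⟩ := h
  refine ⟨A, hA, ?_, A, le_refl _, h1, h2, h3⟩
  intro a
  refine ⟨1, ?_⟩
  apply Subtype.ext
  rw [pow_one, Subgroup.coe_pow, Subgroup.coe_one]
  exact h2 a a.2

/-- Normalizers grow in finite `p`-groups. -/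
theorem exists_normalizer_mem [Finite G] {p : ℕ} [Fact p.Prime] {S Q : Subgroup G}
    (hS : IsPGroup p S) (hQS : Q ≤ S) (hne : Q ≠ S) :
    ∃ x ∈ S, x ∉ Q ∧ x ∈ Subgroup.normalizer (Q : Set G) := by
  haveI : Group.IsNilpotent S := hS.isNilpotent
  have hnc : NormalizerCondition S := normalizerCondition_of_isNilpotent
  have hlt : Q.subgroupOf S < ⊤ := by
    rw [lt_top_iff_ne_top]
    intro h
    apply hne
    apply le_antisymm hQS
    rw [Subgroup.subgroupOf_eq_top] at h
    exact h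
  have h1 := hnc _ hlt
  obtain ⟨x, hx1, hx2⟩ := SetLike.exists_of_lt h1
  refine ⟨x, x.2, ?_, ?_⟩
  · intro h
    exact hx2 (Subgroup.mem_subgroupOf.mpr h)
  · rw [Subgroup.mem_normalizer_iff] at hx1 ⊢
    intro n
    constructor
    · intro hn
      have := (hx1 ⟨n, hQS hn⟩).mp (Subgroup.mem_subgroupOf.mpr hn)
      rw [Subgroup.mem_subgroupOf] at this
      simpa using this
    · intro hn
      have hnS : n ∈ S := by
        have : n = (x : G)⁻¹ * ((x : G) * n * (x : G)⁻¹) * (x : G) := by group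
        rw [this]
        exact S.mul_mem (S.mul_mem (S.inv_mem x.2) (hQS hn)) x.2
      have := (hx1 ⟨n, hnS⟩).mpr (by
        rw [Subgroup.mem_subgroupOf]
        simpa using hn)
      rw [Subgroup.mem_subgroupOf] at this
      exact this

/-- Every `p`-subgroup of `H` is conjugate, by an element of `H`, into a given Sylow
`p`-subgroup of `H`. -/
theorem exists_cj_le_sylow [Finite G] {p : ℕ} [Fact p.Prime] (H : Subgroup G) (P : Sylow p ↥H)
    {X : Subgroup G} (hXH : X ≤ H) (hX : IsPGroup p X) :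
    ∃ h ∈ H, cj h X ≤ (P : Subgroup ↥H).map H.subtype := by
  have hX' : IsPGroup p (X.subgroupOf H) := hX.comap_subtype
  obtain ⟨Q, hQ⟩ := hX'.exists_le_sylow
  obtain ⟨k, hk⟩ := MulAction.exists_smul_eq H Q P
  refine ⟨(k : G), k.2, ?_⟩
  intro a ha
  rw [mem_cj] at ha
  have haH : a ∈ H := by
    have : a = (k : G) * ((k : G)⁻¹ * a * (k : G)) * (k : G)⁻¹ := by group
    rw [this]
    exact H.mul_mem (H.mul_mem k.2 (hXH ha)) (H.inv_mem k.2)
  refine ⟨⟨a, haH⟩, ?_, rfl⟩
  rw [← hk]
  have h1 : k⁻¹ * ⟨a, haH⟩ * k ∈ (Q : Subgroup ↥H) := by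
    apply hQ
    rw [Subgroup.mem_subgroupOf]
    simpa using ha
  have h2 : (⟨a, haH⟩ : ↥H) = MulAut.conj k • (k⁻¹ * ⟨a, haH⟩ * k) := by
    rw [MulAut.smul_def, MulAut.conj_apply]; group
  rw [h2, Sylow.coe_subgroup_smul]
  exact Subgroup.smul_mem_pointwise_smul _ _ _ h1

/-- Let H be a subgroup of the finite group G, p a prime, k ≥ 1, and P a Sylow p-subgroup of H whose p-rank is at least k. Then N_G(X) ≤ H for every subgroup X of P of p-rank at least k if and only if H ∩ gHg⁻¹ has p-rank less than k for every g ∉ H. -/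
theorem result {G : Type*} [Group G] [Finite G] {p : ℕ} [Fact p.Prime] (k : ℕ) (hk : 1 ≤ k) (H : Subgroup G) (P : Sylow p ↥H) (hP : ¬ Cfsg.PRankLE p (k - 1) ↥(P : Subgroup ↥H)) : (∀ X : Subgroup G, X ≤ (P : Subgroup ↥H).map H.subtype → ¬ Cfsg.PRankLE p (k - 1) ↥X → Subgroup.normalizer (X : Set G) ≤ H) ↔ (∀ g : G, g ∉ H → Cfsg.PRankLE p (k - 1) ↥(H ⊓ H.map (MulAut.conj g).toMonoidHom)) := by
  classical
  set j := k - 1 with hj
  set PG : Subgroup G := (P : Subgroup ↥H).map H.subtype with hPG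
  have hPGH : PG ≤ H := Subgroup.map_subtype_le _
  have hPGp : IsPGroup p PG := P.2.map _
  have hPGrk : Rk p j PG := by
    obtain ⟨A, hA, h1, h2, h3⟩ := (not_pRankLE_iff p j _).mp hP
    refine ⟨A.map H.subtype, Subgroup.map_mono hA, Subgroup.map_isMulCommutative A _, ?_, ?_⟩
    · rintro _ ⟨a, ha, rfl⟩
      rw [← map_pow, h2 a ha, map_one]
    · rw [Subgroup.card_map_of_injective H.subtype_injective]; exact h3
  simp only [not_pRankLE_iff]
  constructor
  · -- forward direction
    intro hL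
    -- strengthen to all p-subgroups of H
    have hL' : ∀ X : Subgroup G, X ≤ H → IsPGroup p X → Rk p j X →
        Subgroup.normalizer (X : Set G) ≤ H := by
      intro X hXH hXp hXrk n hn
      obtain ⟨h, hh, hle⟩ := exists_cj_le_sylow H P hXH hXp
      have h1 := hL (cj h X) hle (hXrk.cj h) (normalizer_cj h n X hn)
      have : n = h⁻¹ * (h * n * h⁻¹) * h := by group
      rw [this]
      exact H.mul_mem (H.mul_mem (H.inv_mem hh) h1) hh
    intro g hg
    by_contra hcon
    rw [not_pRankLE_iff] at hcon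
    -- the set of possible orders of counterexamples
    let good : ℕ → Prop := fun n => ∃ (Q : Subgroup G) (g : G), g ∉ H ∧ Q ≤ H ∧ cj g⁻¹ Q ≤ H ∧
      IsPGroup p Q ∧ Rk p j Q ∧ Nat.card Q = n
    have hgood : ∃ n, good n := by
      obtain ⟨A, hA, hAp, hArk⟩ := hcon.exists_pGroup
      refine ⟨Nat.card A, A, g, hg, hA.trans inf_le_left, ?_, hAp, hArk, rfl⟩
      have h2 : A ≤ cj g H := hA.trans inf_le_right
      have := cj_mono g⁻¹ h2
      rwa [cj_one_inv] at this
    have hbound : ∀ n, good n → n ≤ Nat.card G := by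
      rintro n ⟨Q, -, -, -, -, -, -, rfl⟩
      exact Subgroup.card_le_card_group Q
    obtain ⟨Q, g, hg, hQH, hQ2H, hQp, hQrk, hQmax⟩ :
        ∃ (Q : Subgroup G) (g : G), g ∉ H ∧ Q ≤ H ∧ cj g⁻¹ Q ≤ H ∧ IsPGroup p Q ∧ Rk p j Q ∧
          ∀ n, good n → n ≤ Nat.card Q := by
      obtain ⟨Q, g, h1, h2, h3, h4, h5, h6⟩ := Nat.findGreatest_spec (P := good)
        (hbound _ hgood.choose_spec) hgood.choose_spec
      refine ⟨Q, g, h1, h2, h3, h4, h5, ?_⟩
      intro n hn
      rw [h6]
      exact Nat.le_findGreatest (hbound n hn) hn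
    -- move g⁻¹ Q g into PG
    have hQ2p : IsPGroup p (cj g⁻¹ Q) := hQp.map _
    obtain ⟨h₂, hh₂, hle₂⟩ := exists_cj_le_sylow H P hQ2H hQ2p
    rw [cj_cj] at hle₂
    set g' := g * h₂⁻¹ with hg'
    have hg'inv : h₂ * g⁻¹ = g'⁻¹ := by rw [hg']; group
    rw [hg'inv] at hle₂
    have hg'H : g' ∉ H := by
      intro h
      apply hg
      have : g = g' * h₂ := by rw [hg']; group
      rw [this]
      exact H.mul_mem h hh₂
    set Q₂ := cj g'⁻¹ Q with hQ₂
    have hQ₂card : Nat.card Q₂ = Nat.card Q := card_cj _ _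
    have hQeq : cj g' Q₂ = Q := by
      rw [hQ₂, cj_cj]
      ext a; rw [mem_cj]; simp
    have hNQ : Subgroup.normalizer (Q : Set G) ≤ H := hL' Q hQH hQp hQrk
    by_cases hcase : Q₂ = PG
    · -- Sylow case
      obtain ⟨h₁, hh₁, hle₁⟩ := exists_cj_le_sylow H P hQH hQp
      have heq₁ : cj h₁ Q = PG := by
        apply Subgroup.eq_of_le_of_card_ge hle₁
        have h7 : Nat.card PG = Nat.card Q := by rw [← hcase, hQ₂card]
        rw [card_cj]
        exact h7.le
      have h3 : cj (g' * h₁) Q = Q := by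
        rw [← cj_cj, heq₁, ← hcase, hQeq]
      have h4 : g' * h₁ ∈ Subgroup.normalizer (Q : Set G) := by
        rw [Subgroup.mem_normalizer_iff]
        intro a
        constructor
        · intro ha
          rw [← h3, mem_cj]
          have h8 : (g' * h₁)⁻¹ * ((g' * h₁) * a * (g' * h₁)⁻¹) * (g' * h₁) = a := by group
          rwa [h8]
        · intro ha
          rw [← h3, mem_cj] at ha
          have h8 : (g' * h₁)⁻¹ * ((g' * h₁) * a * (g' * h₁)⁻¹) * (g' * h₁) = a := by group
          rwa [h8] at ha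
      have h5 := hNQ h4
      apply hg'H
      have : g' = g' * h₁ * h₁⁻¹ := by group
      rw [this]
      exact H.mul_mem h5 (H.inv_mem hh₁)
    · -- non-Sylow case: the normalizer grows
      obtain ⟨x, hxP, hxQ, hxN⟩ := exists_normalizer_mem hPGp hle₂ hcase
      set R₂ := PG ⊓ Subgroup.normalizer (Q₂ : Set G) with hR₂
      have hQ₂R₂ : Q₂ ≤ R₂ := le_inf hle₂ Subgroup.le_normalizer
      have hxR₂ : x ∈ R₂ := ⟨hxP, hxN⟩
      have hlt : Nat.card Q₂ < Nat.card R₂ := by
        apply lt_of_le_of_ne (Subgroup.card_le_of_le hQ₂R₂)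
        intro heq
        have := Subgroup.eq_of_le_of_card_ge hQ₂R₂ heq.ge
        exact hxQ (this ▸ hxR₂)
      set R := cj g' R₂ with hR
      have hRgood : good (Nat.card R) := by
        refine ⟨R, g', hg'H, ?_, ?_, ?_, ?_, rfl⟩
        · -- R ≤ N_G(Q) ≤ H
          intro a ha
          apply hNQ
          rw [hR, mem_cj] at ha
          have h6 := normalizer_cj g' _ Q₂ ha.2
          rw [hQeq] at h6
          have : a = g' * (g'⁻¹ * a * g') * g'⁻¹ := by group
          rw [this]; exact h6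
        · rw [hR, cj_one_inv]
          exact inf_le_left.trans hPGH
        · exact (hPGp.to_le inf_le_left).map _
        · have : Q ≤ R := by
            rw [← hQeq]
            exact cj_mono g' hQ₂R₂
          exact hQrk.mono this
      have := hQmax _ hRgood
      rw [hR, card_cj] at this
      omega
  · -- backward direction
    intro hR X hXP hXrk n hn
    by_contra hnH
    refine absurd (hR n hnH) ((not_pRankLE_iff p j _).mpr ?_)
    apply hXrk.mono
    apply le_inf (hXP.trans hPGH)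
    intro a ha
    rw [mem_cj]
    apply (hXP.trans hPGH)
    have hn' : n⁻¹ ∈ Subgroup.normalizer (X : Set G) := Subgroup.inv_mem _ hn
    rw [Subgroup.mem_normalizer_iff] at hn'
    have := (hn' a).mp ha
    simpa using this

end Cfsg.Agent.S1231
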