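import Mathlib
import Cfsg.Statements.S1236
import Cfsg.Agent.Lib.Helper18.FourGroupCent

set_option autoImplicit false
open Cfsg

namespace Cfsg.Agent.S1236

open Cfsg.Agent.Helper18

/-- Let R be a finite group, t a central involution of R such that R ⧸ ⟨t⟩ is dihedral (of order ≥ 4) or quasi-dihedral, and A ≤ R an elementary abelian subgroup of order 8 containing t. Then C_R(A) = A. -/
theorem result {R : Type*} [Group R] [Finite R] (t : R) (ht : orderOf t = 2) (htz : t ∈ Subgroup.center R) [(Subgroup.zpowers t).Normal] (hq : (∃ m : ℕ, 2 ≤ m ∧ Nonempty (R ⧸ Subgroup.zpowers t ≃* DihedralGroup m)) ∨ Cfsg.IsQuasiDihedral (R ⧸ Subgroup.zpowers t)) (A : Subgroup R) (hA : Cfsg.IsElementaryAbelian 2 A) (hA8 : Nat.card A = 8) (htA : t ∈ A) : Subgroup.centralizer (A : Set R) = A := by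
  classical
  obtain ⟨hAcomm, hA2⟩ := hA
  have hS : HasCyclicIndexTwo (R ⧸ Subgroup.zpowers t) := by
    rcases hq with ⟨m, hm, ⟨e⟩⟩ | ⟨n, hn, hcard, x, y, hx, hy, hxy⟩
    · exact (hasCyclicIndexTwo_dihedral m hm).of_mulEquiv e
    · exact hasCyclicIndexTwo_quasiDihedral n hn hcard x y hx hy hxy
  have hNA : Subgroup.zpowers t ≤ A := Subgroup.zpowers_le.mpr htA
  obtain ⟨Abar, hAbar⟩ : ∃ Abar : Subgroup (R ⧸ Subgroup.zpowers t),
      Abar = A.map (QuotientGroup.mk' (Subgroup.zpowers t)) := ⟨_, rfl⟩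
  have hAbar4 : Nat.card Abar = 4 := by
    obtain ⟨f, hf⟩ : ∃ f : A →* R ⧸ Subgroup.zpowers t,
        f = (QuotientGroup.mk' (Subgroup.zpowers t)).comp A.subtype := ⟨_, rfl⟩
    have hrange : f.range = Abar := by
      rw [hf, MonoidHom.range_comp, Subgroup.range_subtype, hAbar]
    have hker : f.ker = (Subgroup.zpowers t).subgroupOf A := by
      ext a
      rw [hf, MonoidHom.mem_ker, Subgroup.mem_subgroupOf, MonoidHom.comp_apply,
        QuotientGroup.mk'_apply, QuotientGroup.eq_one_iff]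
      rfl
    have h1 := Subgroup.card_mul_index f.ker
    rw [Subgroup.index_ker, hrange, hker, hA8] at h1
    have h2 : Nat.card ((Subgroup.zpowers t).subgroupOf A) = 2 := by
      rw [Nat.card_congr (Subgroup.subgroupOfEquivOfLe hNA).toEquiv, Nat.card_zpowers, ht]
    rw [h2] at h1
    omega
  have hAbar2 : ∀ v ∈ Abar, v * v = 1 := by
    intro v hv
    rw [hAbar] at hv
    obtain ⟨a, ha, rfl⟩ := hv
    rw [← map_mul, ← pow_two, hA2 a ha, map_one]
  have hcent := hS.self_centralizing Abar hAbar4 hAbar2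
  apply le_antisymm
  · intro c hc
    have h1 : QuotientGroup.mk' (Subgroup.zpowers t) c ∈
        Subgroup.centralizer (Abar : Set (R ⧸ Subgroup.zpowers t)) := by
      rw [Subgroup.mem_centralizer_iff]
      intro w hw
      rw [SetLike.mem_coe, hAbar] at hw
      obtain ⟨a, ha, rfl⟩ := hw
      rw [Subgroup.mem_centralizer_iff] at hc
      rw [← map_mul, ← map_mul, hc a ha]
    rw [hcent, hAbar] at h1
    obtain ⟨a, ha, hac⟩ := h1
    have h2 : a⁻¹ * c ∈ Subgroup.zpowers t := by
      rw [← QuotientGroup.eq_one_iff, QuotientGroup.mk_mul, QuotientGroup.mk_inv]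
      simp only [QuotientGroup.mk'_apply] at hac
      rw [hac, inv_mul_cancel]
    have h3 : c = a * (a⁻¹ * c) := by group
    rw [h3]
    exact A.mul_mem ha (hNA h2)
  · intro a ha
    rw [Subgroup.mem_centralizer_iff]
    intro b hb
    have h1 := hAcomm.is_comm.comm (⟨b, hb⟩ : A) ⟨a, ha⟩
    exact congrArg Subtype.val h1

end Cfsg.Agent.S1236
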