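import Mathlib
import Cfsg.Agent.S1141
import Cfsg.Agent.S1137
import Cfsg.Agent.Lib.Helper22.Aut3M
import Cfsg.Statements.S1237
-- import your own Cfsg.Agent.* helpers here

set_option autoImplicit false
open Cfsg

namespace Cfsg.Agent.S1237

open Cfsg.Agent.Helper22.Aut3

/-- A finite set of solutions contained in a list of three elements. -/
theorem card_le_three {T : Type*} [Group T] [Finite T] {a b c : T}
    (h : ∀ x : T, x * x = 1 → x = a ∨ x = b ∨ x = c) : Nat.card {x : T // x * x = 1} ≤ 3 := by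
  have h1 : Nat.card {x : T // x * x = 1} = ({x : T | x * x = 1} : Set T).ncard := rfl
  rw [h1]
  have hsub : ({x : T | x * x = 1} : Set T) ⊆ {a, b, c} := by
    intro x hx
    rcases h x hx with rfl | rfl | rfl <;> simp
  calc ({x : T | x * x = 1} : Set T).ncard ≤ ({a, b, c} : Set T).ncard :=
        Set.ncard_le_ncard hsub (Set.toFinite _)
    _ ≤ 3 := by
        have h2 := Set.ncard_insert_le a ({b, c} : Set T)
        have h3 := Set.ncard_insert_le b ({c} : Set T)
        have h4 := Set.ncard_singleton c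
        omega

section phi

variable {T : Type*} [Group T] [Finite T] (φ : MulAut T)
  (hcard : Nat.card {x : T // x * x = 1} = 4)
  (htr : ∀ s t : T, s ≠ 1 → s * s = 1 → t ≠ 1 → t * t = 1 → ∃ k : ℕ, (φ ^ k) s = t)

include hcard htr

theorem phi_ne {z : T} (hz : z * z = 1) (hz1 : z ≠ 1) : φ z ≠ z := by
  intro h
  have hall : ∀ x : T, x * x = 1 → x = 1 ∨ x = z ∨ x = z := by
    intro x hx
    by_cases hx1 : x = 1
    · left; exact hx1
    · right; left
      obtain ⟨k, hk⟩ := htr z x hz1 hz hx1 hx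
      rw [← hk, pow_fix h]
  have := card_le_three hall
  omega

theorem phi_phi_ne {z : T} (hz : z * z = 1) (hz1 : z ≠ 1) : φ (φ z) ≠ z := by
  intro h
  have hpow : ∀ k : ℕ, (φ ^ k) z = z ∨ (φ ^ k) z = φ z := by
    intro k
    induction k with
    | zero => left; simp
    | succ k ih =>
      rw [pow_succ', MulAut.mul_apply]
      rcases ih with h1 | h1
      · right; rw [h1]
      · left; rw [h1, h]
  have hall : ∀ x : T, x * x = 1 → x = 1 ∨ x = z ∨ x = φ z := by
    intro x hx
    by_cases hx1 : x = 1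
    · left; exact hx1
    · right
      obtain ⟨k, hk⟩ := htr z x hz1 hz hx1 hx
      rw [← hk]
      exact hpow k
  have := card_le_three hall
  omega

omit hcard htr in
theorem phi_sq' {z : T} (hz : z * z = 1) : φ z * φ z = 1 := by
  rw [← map_mul, hz, map_one]

omit hcard htr in
theorem phi_ne_one' {z : T} (hz1 : z ≠ 1) : φ z ≠ 1 := by
  intro h
  apply hz1
  have : φ z = φ 1 := by rw [h, map_one]
  exact φ.injective this

theorem phi_cube {z : T} (hz : z * z = 1) (hz1 : z ≠ 1) : φ (φ (φ z)) = z := by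
  have h1 := phi_ne φ hcard htr hz hz1
  have h2 := phi_phi_ne φ hcard htr hz hz1
  have hz' := phi_sq' φ hz
  have hz'1 := phi_ne_one' φ hz1
  have hz'' := phi_sq' φ hz'
  have hz''1 := phi_ne_one' φ hz'1
  have hz''' := phi_sq' φ hz''
  have hz'''1 := phi_ne_one' φ hz''1
  by_contra hcon
  -- then `1, z, φ z, φ² z, φ³ z` would be five solutions
  have h3 : φ (φ (φ z)) ≠ φ z := by
    intro h
    exact h2 (φ.injective h)
  have h4 : φ (φ (φ z)) ≠ φ (φ z) := by
    intro h
    exact h1 (φ.injective (φ.injective h))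
  have h5 : φ (φ z) ≠ φ z := by
    intro h
    exact h1 (φ.injective h)
  -- the elements z, φ z, φ² z exhaust the involutions
  have hall : ∀ x : T, x * x = 1 → x = 1 ∨ x = z ∨ x = φ z ∨ x = φ (φ z) := by
    intro x hx
    by_contra hx'
    push_neg at hx'
    obtain ⟨hx1, hx2, hx3, hx4⟩ := hx'
    let f : Fin 5 → {x : T // x * x = 1} :=
      ![⟨1, by simp⟩, ⟨z, hz⟩, ⟨φ z, hz'⟩, ⟨φ (φ z), hz''⟩, ⟨x, hx⟩]
    have hinj : Function.Injective f := by
      intro i j hij
      have hv : ((f i : {x : T // x * x = 1}) : T) = ((f j : {x : T // x * x = 1}) : T) :=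
        congrArg Subtype.val hij
      fin_cases i <;> fin_cases j <;> simp [f] at hv <;> first | rfl | (exfalso; tauto)
    have := Nat.card_le_card_of_injective f hinj
    rw [Nat.card_fin] at this
    omega
  rcases hall _ hz''' with h | h | h | h
  · exact hz'''1 h
  · exact hcon h
  · exact h3 h
  · exact h4 h

theorem three_dvd_of_fix {z : T} (hz : z * z = 1) (hz1 : z ≠ 1) {k : ℕ} (hk : (φ ^ k) z = z) :
    3 ∣ k := by
  have h1 := phi_ne φ hcard htr hz hz1
  have h2 := phi_phi_ne φ hcard htr hz hz1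
  have h3 := phi_cube φ hcard htr hz hz1
  have hc : (φ ^ 3) z = z := by
    rw [pow_three', MulAut.mul_apply, MulAut.mul_apply]; exact h3
  have hq : ∀ q : ℕ, (φ ^ (3 * q)) z = z := by
    intro q
    rw [pow_mul]
    exact pow_fix hc q
  have hk' : (φ ^ (k % 3)) z = z := by
    have : k = k % 3 + 3 * (k / 3) := (Nat.mod_add_div k 3).symm
    rw [this, pow_add, MulAut.mul_apply, hq] at hk
    exact hk
  have hlt : k % 3 < 3 := Nat.mod_lt _ (by norm_num)
  interval_cases hr : k % 3
  · exact Nat.dvd_of_mod_eq_zero hr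
  · rw [pow_one] at hk'; exact absurd hk' h1
  · rw [pow_two, MulAut.mul_apply] at hk'; exact absurd hk' h2

end phi

/-- The configuration attached to the hypotheses of the theorem. -/
theorem exists_cfg {T : Type*} [Group T] [Finite T] (hT : IsPGroup 2 T)
    (h2 : Cfsg.PRankLE 2 2 T) (h1 : ¬ Cfsg.PRankLE 2 1 T) (φ : MulAut T)
    (htrans : ∀ s t : T, orderOf s = 2 → orderOf t = 2 → ∃ k : ℕ, (φ ^ k) s = t) :
    ∃ ψ : MulAut T, Cfg T ψ := by
  haveI : Fact (Nat.Prime 2) := ⟨Nat.prime_two⟩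
  -- an elementary abelian subgroup of order more than two
  unfold Cfsg.PRankLE at h1
  push_neg at h1
  obtain ⟨A₀, hA₀c, hA₀e, hA₀card⟩ := h1
  have hord : ∀ x : T, x ≠ 1 → x * x = 1 → orderOf x = 2 := by
    intro x hx1 hx
    exact orderOf_eq_prime (by rw [pow_two]; exact hx) hx1
  have hord' : ∀ x : T, orderOf x = 2 → x ≠ 1 ∧ x * x = 1 := by
    intro x hx
    refine ⟨fun h => ?_, ?_⟩
    · rw [h, orderOf_one] at hx; omega
    · rw [← pow_two, ← hx]; exact pow_orderOf_eq_one x
  -- a central involution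
  haveI : Nontrivial T := by
    rw [← Finite.one_lt_card_iff_nontrivial]
    have := Subgroup.card_le_card_group A₀
    omega
  obtain ⟨n, hn0, hn⟩ := (hT.to_subgroup (Subgroup.center T)).nontrivial_iff_card.mp
    hT.center_nontrivial
  have hdvd : 2 ∣ Nat.card (Subgroup.center T) := by
    rw [hn]; exact dvd_pow_self 2 (by omega)
  obtain ⟨⟨z₀, hz₀c⟩, hz₀⟩ := exists_prime_orderOf_dvd_card' 2 hdvd
  have hz₀o : orderOf z₀ = 2 := by
    rw [← hz₀]; exact (Subgroup.orderOf_mk z₀ hz₀c).symm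
  -- all involutions are central
  have hcen : ∀ x : T, x * x = 1 → ∀ g : T, g * x = x * g := by
    intro x hx g
    by_cases hx1 : x = 1
    · rw [hx1]; simp
    · obtain ⟨k, hk⟩ := htrans z₀ x hz₀o (hord x hx1 hx)
      rw [← hk]
      have hg : g = (φ ^ k) ((φ ^ k)⁻¹ g) := by simp
      rw [hg, ← map_mul, ← map_mul]
      congr 1
      exact (Subgroup.mem_center_iff.mp hz₀c _)
  -- the subgroup of elements of order at most two
  let Ω : Subgroup T :=
    { carrier := {x | x * x = 1}
      one_mem' := by simp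
      mul_mem' := by
        intro a b ha hb
        simp only [Set.mem_ofPred_eq] at *
        have h := hcen a ha b
        calc a * b * (a * b) = a * (b * a) * b := by group
          _ = a * (a * b) * b := by rw [h]
          _ = (a * a) * (b * b) := by group
          _ = 1 := by rw [ha, hb, one_mul]
      inv_mem' := by
        intro a ha
        simp only [Set.mem_ofPred_eq] at *
        have : a⁻¹ = a := by rw [inv_eq_iff_mul_eq_one]; exact ha
        rw [this]; exact ha }
  have hΩmem : ∀ x : T, x ∈ Ω ↔ x * x = 1 := fun _ => Iff.rfl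
  have hΩcomm : IsMulCommutative Ω := by
    refine ⟨⟨fun a b => ?_⟩⟩
    apply Subtype.ext
    show (a : T) * b = b * a
    exact hcen b.1 b.2 a.1
  have hΩle : Nat.card Ω ≤ 2 ^ 2 := by
    apply h2 Ω hΩcomm
    intro a ha
    rw [pow_two]; exact ha
  have hAΩ : A₀ ≤ Ω := by
    intro a ha
    rw [hΩmem, ← pow_two]; exact hA₀e a ha
  have hΩge : 3 ≤ Nat.card Ω := by
    have := Subgroup.card_le_of_le hAΩ
    omega
  have hΩcard : Nat.card Ω = 4 := by
    obtain ⟨m, hm⟩ := IsPGroup.iff_card.mp (hT.to_subgroup Ω)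
    rw [hm] at hΩle hΩge ⊢
    have hm2 : m ≤ 2 := by
      by_contra hcon
      have : 2 ^ 3 ≤ 2 ^ m := Nat.pow_le_pow_right (by norm_num) (by omega)
      omega
    interval_cases m <;> omega
  have hfour : Nat.card {x : T // x * x = 1} = 4 := hΩcard
  have htr : ∀ s t : T, s ≠ 1 → s * s = 1 → t ≠ 1 → t * t = 1 → ∃ k : ℕ, (φ ^ k) s = t :=
    fun s t hs1 hs ht1 ht => htrans s t (hord s hs1 hs) (hord t ht1 ht)
  -- the three-part of `φ`
  haveI : Finite (MulAut T) :=
    Finite.of_injective (fun f : MulAut T => (f : T → T)) DFunLike.coe_injective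
  have hN : orderOf φ ≠ 0 := (orderOf_pos φ).ne'
  obtain ⟨a, m, hm3, hNam⟩ := Nat.exists_eq_pow_mul_and_not_dvd hN 3 (by norm_num)
  refine ⟨φ ^ m, ⟨inferInstance, hT, hcen, hfour, ?_, ⟨a, ?_⟩⟩⟩
  · intro x hx hfix
    by_contra hx1
    exact hm3 (three_dvd_of_fix φ hfour htr hx hx1 hfix)
  · rw [← pow_mul, mul_comm, ← hNam, pow_orderOf_eq_one]

/-- The Sylow two-subgroup of `PSU(3,4)` is a nonabelian configuration of order `64`. -/
theorem exists_cfg_sylow {F : Type*} [Field F] [Fintype F] (hF : Fintype.card F = 16)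
    (P : Sylow 2 (Cfsg.PSU 3 F 4)) :
    Nat.card (P : Subgroup (Cfsg.PSU 3 F 4)) = 64 ∧
      IsPGroup 2 (P : Subgroup (Cfsg.PSU 3 F 4)) ∧
      Finite (P : Subgroup (Cfsg.PSU 3 F 4)) ∧
      (∃ a b : (P : Subgroup (Cfsg.PSU 3 F 4)), a * b ≠ b * a) ∧
      ∃ ψ : MulAut (P : Subgroup (Cfsg.PSU 3 F 4)), Cfg (P : Subgroup (Cfsg.PSU 3 F 4)) ψ := by
  have hF' : Fintype.card F = (2 ^ 2) ^ 2 := by rw [hF]; norm_num
  obtain ⟨hc, hcz, hS⟩ := Cfsg.Agent.S1141.result (n := 2) le_rfl hF' P
  obtain ⟨hinv, hcsq⟩ := Cfsg.Agent.S1137.result hS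
  obtain ⟨hfin, hp, hna, ⟨x, y, hxy, hx1, hx, hy1, hy⟩, K, hcyc, hreg⟩ := hS
  haveI := hfin
  refine ⟨hc.trans (by norm_num), hp, hfin, hna, ?_⟩
  -- the set of solutions of `u * u = 1` is the centre
  have hiff : ∀ u : (P : Subgroup (Cfsg.PSU 3 F 4)), u * u = 1 ↔ u ∈ Subgroup.center _ := by
    intro u
    constructor
    · intro hu
      by_cases hu1 : u = 1
      · rw [hu1]; exact Subgroup.one_mem _
      · exact ((hinv u).mp ⟨hu1, hu⟩).1
    · intro hu; exact hcsq u hu
  have hfour : Nat.card {u : (P : Subgroup (Cfsg.PSU 3 F 4)) // u * u = 1} = 4 := by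
    rw [Nat.card_congr (Equiv.subtypeEquivRight hiff)]
    exact hcz.trans (by norm_num)
  -- the automorphism
  obtain ⟨k, hk, -⟩ := hreg x y hx1 hx hy1 hy
  have hk1 : k ≠ 1 := by
    rintro rfl
    apply hxy
    simpa using hk
  have hnofix : ∀ u : (P : Subgroup (Cfsg.PSU 3 F 4)), u * u = 1 → (k : MulAut _) u = u →
      u = 1 := by
    intro u hu hfix
    by_contra hu1
    obtain ⟨k', -, huniq⟩ := hreg u u hu1 hu hu1 hu
    have e1 : k = k' := huniq k hfix
    have e2 : (1 : K) = k' := huniq 1 (by simp)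
    exact hk1 (e1.trans e2.symm)
  -- the order of `K` is three
  have hKcard : Nat.card K = 3 := by
    let f : K → {u : (P : Subgroup (Cfsg.PSU 3 F 4)) // u ≠ 1 ∧ u * u = 1} := fun k' =>
      ⟨(k' : MulAut _) x, by
        refine ⟨fun h => hx1 ?_, by rw [← map_mul, hx, map_one]⟩
        have : (k' : MulAut _) x = (k' : MulAut _) 1 := by rw [h, map_one]
        exact (k' : MulAut _).injective this⟩
    have hbij : Function.Bijective f := by
      constructor
      · intro k₁ k₂ h12
        have h12' : (k₁ : MulAut _) x = (k₂ : MulAut _) x := congrArg Subtype.val h12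
        obtain ⟨k', -, huniq⟩ := hreg x ((k₂ : MulAut _) x) hx1 hx (f k₂).2.1 (f k₂).2.2
        exact (huniq k₁ h12').trans (huniq k₂ rfl).symm
      · rintro ⟨u, hu1, hu⟩
        obtain ⟨k', hk', -⟩ := hreg x u hx1 hx hu1 hu
        exact ⟨k', Subtype.ext hk'⟩
    rw [Nat.card_congr (Equiv.ofBijective f hbij)]
    have h1 : Nat.card {u : (P : Subgroup (Cfsg.PSU 3 F 4)) // u ≠ 1 ∧ u * u = 1} =
        (({u : (P : Subgroup (Cfsg.PSU 3 F 4)) | u * u = 1} : Set _) \ {1}).ncard := by
      rw [← Nat.card_coe_set_eq]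
      apply Nat.card_congr
      exact Equiv.subtypeEquivRight (fun u => by
        simp only [Set.mem_sdiff, Set.mem_ofPred_eq, Set.mem_singleton_iff]
        tauto)
    rw [h1, Set.ncard_sdiff_singleton_of_mem (by simp)]
    have h2 : ({u : (P : Subgroup (Cfsg.PSU 3 F 4)) | u * u = 1} : Set _).ncard = 4 := hfour
    rw [h2]
  have hk3 : (k : MulAut (P : Subgroup (Cfsg.PSU 3 F 4))) ^ 3 = 1 := by
    have : k ^ 3 = 1 := by
      have h0 : k ^ Nat.card K = 1 := pow_card_eq_one'
      rwa [hKcard] at h0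
    have h2 := congrArg (Subtype.val) this
    simpa using h2
  refine ⟨(k : MulAut _), ⟨hfin, hp, ?_, hfour, hnofix, ⟨1, by rw [pow_one]; exact hk3⟩⟩⟩
  intro u hu g
  have := (hiff u).mp hu
  exact (Subgroup.mem_center_iff.mp this g)

/-- Let T be a finite 2-group of 2-rank exactly 2 (it has a Klein four-subgroup but no elementary abelian subgroup of order 8) admitting an automorphism φ such that any two involutions of T are carried to one another by a power of φ. Then T ≅ Z_{2^n} × Z_{2^n} for some n ≥ 1, or T is isomorphic to a Sylow 2-subgroup of PSU(3) over the field with 16 elements. -/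
theorem result {T : Type*} [Group T] [Finite T] (hT : IsPGroup 2 T) (h2 : Cfsg.PRankLE 2 2 T) (h1 : ¬ Cfsg.PRankLE 2 1 T) (φ : MulAut T) (htrans : ∀ s t : T, orderOf s = 2 → orderOf t = 2 → ∃ k : ℕ, (φ ^ k) s = t) {F : Type*} [Field F] [Fintype F] (hF : Fintype.card F = 16) (P : Sylow 2 (Cfsg.PSU 3 F 4)) : (∃ n : ℕ, 1 ≤ n ∧ Nonempty (T ≃* Multiplicative (ZMod (2 ^ n) × ZMod (2 ^ n)))) ∨ Nonempty (T ≃* (P : Subgroup (Cfsg.PSU 3 F 4))) := by
  obtain ⟨ψ, C⟩ := exists_cfg hT h2 h1 φ htrans
  by_cases hab : ∀ a b : T, a * b = b * a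
  · left
    exact C.abelian_iso hab
  · right
    push_neg at hab
    obtain ⟨hc, hp, hfin, hna, ψ', C'⟩ := exists_cfg_sylow hF P
    haveI := hfin
    exact iso_of_hasFrame (C.nonabelian_frame hab) (C'.nonabelian_frame hna) hc hp

end Cfsg.Agent.S1237
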