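import Mathlib
import Cfsg.Agent.Lib.Helper22.ZStarCyc
import Cfsg.Agent.Lib.Helper22.WrFocal
import Cfsg.Agent.Lib.Helper6.QD
import Cfsg.Agent.S1208
import Cfsg.Statements.S1239
-- import your own Cfsg.Agent.* helpers here

set_option autoImplicit false
open Cfsg

namespace Cfsg.Agent.S1239

open Cfsg.Agent.Helper6 Cfsg.Agent.Helper22.ZCyc Cfsg.Agent.Helper1.ZW
  Cfsg.Agent.Helper22.WrFus Cfsg.Agent.Helper22.WrSC Cfsg.Agent.Helper6.Z2

/-- an isolated involution of a Sylow `2`-subgroup is central in it -/
theorem isolated_mem_center {X : Type*} [Group X] [Finite X] (S : Sylow 2 X) (z : X)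
    (hzS : z ∈ (S : Subgroup X)) (hz : Cfsg.IsIsolatedInvolution z) :
    (⟨z, hzS⟩ : ↥(S : Subgroup X)) ∈ Subgroup.center ↥(S : Subgroup X) := by
  haveI : Fact (Nat.Prime 2) := ⟨Nat.prime_two⟩
  haveI : Group.IsNilpotent ↥(S : Subgroup X) := S.2.isNilpotent
  set z' : ↥(S : Subgroup X) := ⟨z, hzS⟩ with hz'
  by_contra hcon
  have hC : Subgroup.centralizer ({z'} : Set ↥(S : Subgroup X)) < ⊤ := by
    rw [lt_top_iff_ne_top]
    intro htop
    apply hcon
    rw [Subgroup.mem_center_iff]
    intro g
    have hg : g ∈ Subgroup.centralizer ({z'} : Set ↥(S : Subgroup X)) := by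
      rw [htop]; exact Subgroup.mem_top g
    exact ((Subgroup.mem_centralizer_iff.mp hg) z' rfl).symm
  have hlt := Group.normalizerCondition_of_isNilpotent _ hC
  obtain ⟨s, hsN, hsC⟩ := SetLike.exists_of_lt hlt
  apply hsC
  have hzC : z' ∈ Subgroup.centralizer ({z'} : Set ↥(S : Subgroup X)) := by
    rw [Subgroup.mem_centralizer_iff]
    intro h hh
    rw [Set.mem_singleton_iff] at hh
    rw [hh]
  have h1 : s * z' * s⁻¹ ∈ Subgroup.centralizer ({z'} : Set ↥(S : Subgroup X)) :=
    (Subgroup.mem_normalizer_iff.mp hsN z').mp hzC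
  have h2 := (Subgroup.mem_centralizer_iff.mp h1) z' rfl
  have h3 : Commute z ((s : X) * z * (s : X)⁻¹) := by
    have h5 := congrArg Subtype.val h2
    simp only [Subgroup.coe_mul, Subgroup.coe_inv] at h5
    exact h5
  have h4 := hz.2 (s : X) h3
  rw [Subgroup.mem_centralizer_iff]
  intro h hh
  rw [Set.mem_singleton_iff] at hh
  rw [hh]
  apply Subtype.ext
  show z * (s : X) = (s : X) * z
  calc z * (s : X) = ((s : X) * z * (s : X)⁻¹) * (s : X) := by rw [h4]
    _ = (s : X) * z := by group


/-- Let X be a finite group whose Sylow 2-subgroup S is quasi-dihedral or wreathed, and suppose some involution of S is isolated in X. Then the product of the largest normal odd-order subgroup O(X) with the centre of S is normal in X. -/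
theorem result {X : Type*} [Group X] [Finite X] (S : Sylow 2 X) (hS : Cfsg.IsQuasiDihedral (S : Subgroup X) ∨ Cfsg.IsWreathed (S : Subgroup X)) (z : X) (hzS : z ∈ S) (hz : Cfsg.IsIsolatedInvolution z) : (Cfsg.oddCore X ⊔ (Subgroup.center (S : Subgroup X)).map (S : Subgroup X).subtype).Normal := by
  have hzc := isolated_mem_center S z hzS hz
  rcases hS with hS | hS
  · -- quasi-dihedral case
    obtain ⟨d⟩ := QD.exists_data hS
    have hzd : z = ((QD.z d : ↥(S : Subgroup X)) : X) := by
      rcases (QD.mem_center_iff d _).mp hzc with h | h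
      · exfalso
        have h1 : z = 1 := congrArg Subtype.val h
        have h2 := hz.1
        rw [h1, orderOf_one] at h2
        omega
      · exact congrArg Subtype.val h
    have hcen : (Subgroup.center ↥(S : Subgroup X)).map (S : Subgroup X).subtype =
        Subgroup.zpowers z := by
      ext w
      constructor
      · rintro ⟨c, hc, rfl⟩
        rcases (QD.mem_center_iff d c).mp hc with rfl | rfl
        · exact Subgroup.one_mem _
        · rw [hzd]; exact Subgroup.mem_zpowers _
      · intro hw
        obtain ⟨i, rfl⟩ := Subgroup.mem_zpowers_iff.mp hw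
        have hz0 : z ∈ (Subgroup.center ↥(S : Subgroup X)).map (S : Subgroup X).subtype :=
          ⟨⟨z, hzS⟩, hzc, rfl⟩
        exact Subgroup.zpow_mem _ hz0 i
    rw [hcen]
    exact normal_sup_of_inZStar z (Cfsg.Agent.Helper7.ZStar.zstar z hz.1 hz.2)
  · -- wreathed case
    obtain ⟨d⟩ := Wr.exists_data hS
    have hn1 := Wr.hn1 d
    have hzd : z = ((Wr.cc d : ↥(S : Subgroup X)) : X) := by
      obtain ⟨i, hi⟩ := (Wr.mem_center_iff d _).mp hzc
      have h1 : (⟨z, hzS⟩ : ↥(S : Subgroup X)) * ⟨z, hzS⟩ = 1 := by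
        apply Subtype.ext
        show z * z = 1
        rw [← pow_two, ← hz.1]; exact pow_orderOf_eq_one z
      rw [hi, Wr.el_sq, Wr.el_eq_one_iff] at h1
      rcases (two_mul_eq_zero_iff d.n hn1 i).mp h1.1 with h0 | h0
      · exfalso
        rw [h0, Wr.el_zero] at hi
        have h2 : z = 1 := congrArg Subtype.val hi
        have h3 := hz.1
        rw [h2, orderOf_one] at h3
        omega
      · rw [h0] at hi
        exact congrArg Subtype.val hi
    -- the subgroups `U` and `Q`
    have hUab : IsMulCommutative ↥(up S (Wr.A d)) := by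
      refine ⟨⟨?_⟩⟩
      rintro ⟨u, hu⟩ ⟨v, hv⟩
      obtain ⟨a, ha, rfl⟩ := exists_of_mem_up S hu
      obtain ⟨b, hb, rfl⟩ := exists_of_mem_up S hv
      apply Subtype.ext
      show (a : X) * (b : X) = (b : X) * (a : X)
      have := Wr.A_comm d ⟨a, ha⟩ ⟨b, hb⟩
      have h2 : a * b = b * a := congrArg Subtype.val this
      exact congrArg Subtype.val h2
    have hUcard : Nat.card ↥(up S (Wr.A d)) = 2 ^ (2 * d.n) := by
      rw [Subgroup.card_map_of_injective (Subgroup.subtype_injective _), Wr.card_A]
    obtain ⟨eQ0⟩ := QQ_equiv d 0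
    have eQ : ↥(up S (QQ d 0)) ≃* QuaternionGroup 2 :=
      (Subgroup.equivMapOfInjective _ _ (Subgroup.subtype_injective _)).symm.trans eQ0
    have hdich := (Cfsg.Agent.S1208.result S hS d.n d.card (up S (Wr.A d)) (up_le S _) hUab hUcard
      (up S (QQ d 0)) (up_le S _) eQ).1
    have h₁ : (Subgroup.centralizer (up S (Wr.A d) : Set X)).relIndex
        (Subgroup.normalizer (up S (Wr.A d) : Set X)) = 2 := by
      rcases hdich with h | h
      · exact h
      · exfalso
        have h3 : 3 ∣ (Subgroup.centralizer (up S (Wr.A d) : Set X)).relIndex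
            (Subgroup.normalizer (up S (Wr.A d) : Set X)) := by rw [h]; norm_num
        obtain ⟨g, hgN, hgc⟩ := Wr.exists_fusion_U S d (up S (Wr.A d)) (up_le S _)
          (subgroupOf_up S _) h3
        apply hgc
        rw [← hzd]
        apply hz.2
        have hccU : z ∈ up S (Wr.A d) := by
          rw [hzd]; exact (coe_mem_up S _).mpr (Wr.el_mem_A d _ _)
        have h4 : g * z * g⁻¹ ∈ up S (Wr.A d) :=
          (Subgroup.mem_normalizer_iff.mp hgN z).mp hccU
        have := hUab.is_comm.comm (⟨z, hccU⟩ : ↥(up S (Wr.A d))) ⟨g * z * g⁻¹, h4⟩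
        exact congrArg Subtype.val this
    have hUc := ctrl_U S d h₁
    have hcen : (Subgroup.center ↥(S : Subgroup X)).map (S : Subgroup X).subtype =
        Subgroup.zpowers ((Wr.el d 1 1 : ↥(S : Subgroup X)) : X) := by
      rw [Wr.center_eq d, MonoidHom.map_zpowers]
      rfl
    have hall : ∀ y ∈ Subgroup.zpowers ((Wr.el d 1 1 : ↥(S : Subgroup X)) : X),
        WC (S : Subgroup X) y := by
      intro y hy
      rw [← hcen] at hy
      refine ⟨up_le S _ hy, ?_⟩
      intro g hg
      have := center_isolated S d hUc y hy g⁻¹ (by rw [inv_inv]; exact hg)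
      rw [inv_inv] at this
      exact this
    rw [hcen]
    exact normal_sup_of_inZStar _ (wc_zstar S _ hall)

end Cfsg.Agent.S1239
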