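import Mathlib
import Cfsg.Statements.S1241
import Cfsg.Agent.Lib.Helper18.Transfer

set_option autoImplicit false
open Cfsg

namespace Cfsg.Agent.S1241

open scoped IsMulCommutative in
/-- Let G be a finite group, p a prime, H a subgroup of index prime to p, K a subgroup of H normal in H with H/K commutative, and g ∈ H ∖ K an element of p-power order such that for all integers m and all a ∈ G with a g^m a⁻¹ ∈ H one has a g^m a⁻¹ ∈ g^m K. Then g ∉ G'. -/
theorem result {G : Type*} [Group G] [Finite G] {p : ℕ} [Fact p.Prime] (H K : Subgroup G) (hHK : K ≤ H) (hKn : (K.subgroupOf H).Normal) (hab : ∀ x ∈ H, ∀ y ∈ H, x * y * x⁻¹ * y⁻¹ ∈ K) (hidx : Nat.Coprime p H.index) (g : G) (hgH : g ∈ H) (hgK : g ∉ K) (hgp : ∃ k : ℕ, orderOf g = p ^ k) (hctrl : ∀ (m : ℤ) (a : G), a * g ^ m * a⁻¹ ∈ H → (a * g ^ m * a⁻¹) * (g ^ m)⁻¹ ∈ K) : g ∉ commutator G := by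
  classical
  haveI := hKn
  have hp : p.Prime := Fact.out
  have hcomm : IsMulCommutative (H ⧸ K.subgroupOf H) := by
    rw [Subgroup.Normal.quotient_commutative_iff_commutator_le]
    rw [commutator_def, Subgroup.commutator_le]
    intro x _ y _
    rw [Subgroup.mem_subgroupOf, commutatorElement_def]
    exact hab x x.2 y y.2
  set ϕ : H →* H ⧸ K.subgroupOf H := QuotientGroup.mk' (K.subgroupOf H) with hϕ
  set x : H := ⟨g, hgH⟩ with hx
  have key : ∀ (k : ℕ) (g₀ : G) (hk : g₀⁻¹ * (x : G) ^ k * g₀ ∈ H),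
      ϕ ⟨g₀⁻¹ * (x : G) ^ k * g₀, hk⟩ = ϕ (x ^ k) := by
    intro k g₀ hk
    have h1 := hctrl (k : ℤ) g₀⁻¹ (by simpa using hk)
    rw [inv_inv, zpow_natCast] at h1
    rw [← mul_inv_eq_one, ← map_inv, ← map_mul, hϕ, QuotientGroup.mk'_apply,
      QuotientGroup.eq_one_iff, Subgroup.mem_subgroupOf]
    simpa using h1
  have htr := Cfsg.Agent.Helper18.transfer_eq_pow_of_control ϕ x key
  intro hg
  have h1 : MonoidHom.transfer ϕ (x : G) = 1 := by
    have := Abelianization.commutator_subset_ker (MonoidHom.transfer ϕ) hg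
    exact this
  rw [htr] at h1
  have hd1 : orderOf (ϕ x) ∣ H.index := orderOf_dvd_of_pow_eq_one h1
  obtain ⟨k, hk⟩ := hgp
  have hd2 : orderOf (ϕ x) ∣ p ^ k := by
    have h2 : orderOf (ϕ x) ∣ orderOf x := orderOf_map_dvd ϕ x
    have h3 : orderOf x = orderOf g := Subgroup.orderOf_mk g hgH
    rw [h3, hk] at h2
    exact h2
  obtain ⟨j, -, hj⟩ := (Nat.dvd_prime_pow hp).mp hd2
  rcases Nat.eq_zero_or_pos j with hj0 | hjpos
  · rw [hj0, pow_zero, orderOf_eq_one_iff, hϕ, QuotientGroup.mk'_apply,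
      QuotientGroup.eq_one_iff, Subgroup.mem_subgroupOf] at hj
    exact hgK hj
  · have : p ∣ H.index := by
      refine dvd_trans ?_ hd1
      rw [hj]
      exact dvd_pow_self p (by omega)
    have := Nat.Coprime.eq_one_of_dvd hidx this
    exact hp.one_lt.ne' this

end Cfsg.Agent.S1241
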