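import Mathlib
import Cfsg.Statements.S1247
import Cfsg.Agent.Lib.Helper7.Bender2

set_option autoImplicit false
open Cfsg

namespace Cfsg.Agent.S1247



/-- Let G be a non-abelian finite simple group, A a maximal subgroup, F = F*(A) its generalized Fitting subgroup (viewed in G), and S ≤ F a subgroup subnormal in F with C_F(S) ≤ S. Let B be any subgroup of G containing S. Then (a) for every prime q not dividing |F(A)|, O_q(B) ∩ A = 1; and (b) for every prime p dividing |F(A)|, O_p(B) commutes elementwise with the subgroup of F generated by its elements of order prime to p. -/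
theorem result {G : Type*} [Group G] [Finite G] [IsSimpleGroup G] (hna : ¬ IsMulCommutative G) (A : Subgroup G) (hA : IsCoatom A) (S : Subgroup G) (hSF : S ≤ (Cfsg.generalizedFittingSubgroup ↥A).map A.subtype) (hSsn : (S.subgroupOf ((Cfsg.generalizedFittingSubgroup ↥A).map A.subtype)).IsSubnormal) (hSC : (Cfsg.generalizedFittingSubgroup ↥A).map A.subtype ⊓ Subgroup.centralizer (S : Set G) ≤ S) (B : Subgroup G) (hSB : S ≤ B) : (∀ q : ℕ, q.Prime → ¬ q ∣ Nat.card (Cfsg.fittingSubgroup ↥A) → (Cfsg.pCore q ↥B).map B.subtype ⊓ A = ⊥) ∧ (∀ p : ℕ, p.Prime → p ∣ Nat.card (Cfsg.fittingSubgroup ↥A) → ∀ x ∈ (Cfsg.pCore p ↥B).map B.subtype, ∀ y ∈ (Cfsg.pResidual p ↥(Cfsg.generalizedFittingSubgroup ↥A)).map ((Cfsg.generalizedFittingSubgroup ↥A).subtype) , x * (A.subtype y) = (A.subtype y) * x) := by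
  classical
  have hSA : S ≤ A := hSF.trans (Subgroup.map_subtype_le _)
  have hBH := Cfsg.Agent.Helper7.benderHyp_of_ambient A S hSF hSsn hSC
  have hmax := Cfsg.Agent.Helper7.isBenderMax_of_isCoatom A hA
  have hnorm : ∀ r : ℕ, S ≤ Subgroup.normalizer
      (((Cfsg.pCore r ↥B).map B.subtype : Subgroup G) : Set G) := fun r =>
    hSB.trans (Cfsg.Agent.Helper7.le_normalizer_map_subtype_of_normal _)
  constructor
  · intro q hq hqd
    haveI : Fact q.Prime := ⟨hq⟩
    exact Cfsg.Agent.Helper7.bender_a A S hSA hBH q hqd _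
      ((Cfsg.Agent.Helper7.pCore_isPGroup (G := ↥B) q).map _) (hnorm q)
  · intro p hp hpd x hx y hy
    haveI : Fact p.Prime := ⟨hp⟩
    have hpne := Cfsg.Agent.Helper7.pCore_ne_bot_of_dvd_card_fittingSubgroup (H := ↥A) p hpd
    have hPp : IsPGroup p ↥((Cfsg.pCore p ↥B).map B.subtype) :=
      (Cfsg.Agent.Helper7.pCore_isPGroup (G := ↥B) p).map _
    obtain ⟨y', hy', rfl⟩ := hy
    unfold Cfsg.pResidual at hy'
    induction hy' using Subgroup.closure_induction with
    | mem g hg =>
      have hgc : (orderOf ((g : ↥A))).Coprime p := by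
        rw [Subgroup.orderOf_coe]; exact hg
      exact Cfsg.Agent.Helper7.bender_b A hmax S hSA hBH p hpne _ hPp (hnorm p) (g : ↥A) g.2 hgc x hx
    | one => simp
    | mul a b _ _ ha hb =>
      simp only [map_mul, Subgroup.coe_mul] at ha hb ⊢
      rw [← mul_assoc, ha, mul_assoc, hb, mul_assoc]
    | inv a _ ha =>
      simp only [map_inv, Subgroup.coe_inv] at ha ⊢
      exact ((Commute.inv_right (show Commute x _ from ha)).eq)

end Cfsg.Agent.S1247
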