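import Mathlib
import Cfsg.Statements.S1248
import Cfsg.Agent.Lib.Helper11.UnitaryHeis

set_option autoImplicit false
open Cfsg

namespace Cfsg.Agent.S1248

open Cfsg.Agent.Helper11.Herm

/-- Let F be a field with 16 elements and S a Sylow 2-subgroup of PSU(3) over F (the unitary group U₃(4)). Then |S| = 64; the centre Z(S) is a Klein four-group and coincides with the subgroup generated by the involutions of S and with the derived subgroup; and every element of S ⧸ Z(S) squares to the identity, S ⧸ Z(S) having order 16. -/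
theorem result {F : Type*} [Field F] [Fintype F] (hF : Fintype.card F = 16) (S : Sylow 2 (Cfsg.PSU 3 F 4)) : Nat.card S = 64 ∧ IsKleinFour (Subgroup.center (S : Subgroup (Cfsg.PSU 3 F 4))) ∧ Subgroup.center (S : Subgroup (Cfsg.PSU 3 F 4)) = Subgroup.closure {x : (S : Subgroup (Cfsg.PSU 3 F 4)) | orderOf x = 2} ∧ Subgroup.center (S : Subgroup (Cfsg.PSU 3 F 4)) = commutator (S : Subgroup (Cfsg.PSU 3 F 4)) ∧ Nat.card ((S : Subgroup (Cfsg.PSU 3 F 4)) ⧸ Subgroup.center (S : Subgroup (Cfsg.PSU 3 F 4))) = 16 ∧ ∀ x : (S : Subgroup (Cfsg.PSU 3 F 4)) ⧸ Subgroup.center (S : Subgroup (Cfsg.PSU 3 F 4)), x ^ 2 = 1 := by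
  have hF' : Fintype.card F = 4 ^ 2 := by rw [hF]; norm_num
  obtain ⟨φ, hφ⟩ := exists_frob hF'
  have hchar2 : CharP F 2 := by
    rw [← ringChar.eq_iff, FiniteField.even_card_iff_char_two, hF]
  have hφφ : Fact (∀ x : F, φ (φ x) = x) := ⟨frob_frob hF' φ hφ⟩
  have hne := frob_ne_id hF' φ hφ
  obtain ⟨e⟩ := exists_sylow_equiv hF' φ hφ ⟨2, by norm_num⟩ S
  have hcard : Nat.card S = 64 := by
    rw [Nat.card_congr e.toEquiv, card_Hs hF' φ hφ]
    norm_num
  have hcardZ : Nat.card (Subgroup.center (S : Subgroup (Cfsg.PSU 3 F 4))) = 4 := by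
    rw [Nat.card_congr (Subgroup.centerCongr e).toEquiv, card_center_Hs hF' φ hφ]
  have hcen : ∀ x : (S : Subgroup (Cfsg.PSU 3 F 4)),
      x ∈ Subgroup.center (S : Subgroup (Cfsg.PSU 3 F 4)) ↔ x * x = 1 :=
    mem_center_iff_mul_self φ e hne
  refine ⟨hcard, ?_, ?_, center_eq_commutator φ e hne, ?_, ?_⟩
  · have hfin : Finite (Subgroup.center (S : Subgroup (Cfsg.PSU 3 F 4))) :=
      Nat.finite_of_card_ne_zero (by rw [hcardZ]; norm_num)
    have hnt : Nontrivial (Subgroup.center (S : Subgroup (Cfsg.PSU 3 F 4))) := by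
      rw [← Finite.one_lt_card_iff_nontrivial, hcardZ]
      norm_num
    refine ⟨hcardZ, ?_⟩
    rw [Monoid.exponent_eq_prime_iff Nat.prime_two]
    intro g hg
    apply orderOf_eq_prime
    · apply Subtype.ext
      rw [pow_two]
      exact (hcen g.1).1 g.2
    · exact hg
  · apply le_antisymm
    · intro z hz
      by_cases h1 : z = 1
      · rw [h1]
        exact Subgroup.one_mem _
      · apply Subgroup.subset_closure
        apply orderOf_eq_prime
        · rw [pow_two]
          exact (hcen z).1 hz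
        · exact h1
    · rw [Subgroup.closure_le]
      intro x hx
      rw [SetLike.mem_coe, hcen, ← pow_two]
      have hx' : orderOf x = 2 := hx
      have := pow_orderOf_eq_one x
      rwa [hx'] at this
  · have := Subgroup.card_eq_card_quotient_mul_card_subgroup
      (Subgroup.center (S : Subgroup (Cfsg.PSU 3 F 4)))
    rw [hcard, hcardZ] at this
    omega
  · intro x
    induction x using QuotientGroup.induction_on with
    | H s =>
      rw [← QuotientGroup.mk_pow, QuotientGroup.eq_one_iff, pow_two]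
      exact mul_self_mem_center φ e hne s

end Cfsg.Agent.S1248
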