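import Mathlib
import Cfsg.Statements.S1249

set_option autoImplicit false
open Cfsg

namespace Cfsg.Agent.S1249

open scoped Pointwise

theorem smul_eq_of_smul_le {G : Type*} [Group G] [Finite G] (A : Subgroup G) (k : G)
    (h : MulAut.conj k • A ≤ A) : MulAut.conj k • A = A := by
  apply Subgroup.eq_of_le_of_card_ge h
  have e : A ≃ (MulAut.conj k • A : Subgroup G) := (Subgroup.equivSMul (MulAut.conj k) A).toEquiv
  exact (Nat.card_congr e).le

/-- Let P and Q be Sylow p-subgroups of the finite group G both containing the subgroup A. If A is strongly closed in P, then A is strongly closed in Q. -/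
theorem result {G : Type*} [Group G] [Finite G] {p : ℕ} [Fact p.Prime] (P Q : Sylow p G) (A : Subgroup G) (hAQ : A ≤ Q) (hA : Cfsg.IsStronglyClosed A (P : Subgroup G)) : Cfsg.IsStronglyClosed A (Q : Subgroup G) := by
  obtain ⟨hAP, hsc⟩ := hA
  refine ⟨hAQ, ?_⟩
  obtain ⟨k, hk⟩ := MulAction.exists_smul_eq G P Q
  have hQeq : (Q : Subgroup G) = MulAut.conj k • (P : Subgroup G) := by
    rw [← hk, Sylow.coe_subgroup_smul]
  -- membership in Q translates to membership in P after conjugating by k⁻¹
  have hmem : ∀ y : G, y ∈ (Q : Subgroup G) → k⁻¹ * y * k ∈ (P : Subgroup G) := by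
    intro y hy
    rw [hQeq, Subgroup.mem_pointwise_smul_iff_inv_smul_mem] at hy
    simpa [MulAut.smul_def, MulAut.conj_apply] using hy
  -- conj k⁻¹ maps A into A
  have h1 : MulAut.conj k⁻¹ • A ≤ A := by
    rintro _ ⟨a, ha, rfl⟩
    have h2 := hmem a (hAQ ha)
    have h3 := hsc a ha k⁻¹ (by simpa using h2)
    simpa [MulAut.conj_apply] using h3
  have h2 : MulAut.conj k⁻¹ • A = A := smul_eq_of_smul_le A k⁻¹ h1
  have h3 : MulAut.conj k • A = A := by
    have := congrArg (fun S => MulAut.conj k • S) h2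
    simp only [map_inv, smul_inv_smul] at this
    exact this.symm
  intro x hx g hg
  have h4 := hmem _ hg
  have h5 : (k⁻¹ * g) * x * (k⁻¹ * g)⁻¹ ∈ A := by
    apply hsc x hx
    convert h4 using 1
    group
  have h6 : MulAut.conj k • ((k⁻¹ * g) * x * (k⁻¹ * g)⁻¹) ∈ MulAut.conj k • A :=
    Subgroup.smul_mem_pointwise_smul _ _ _ h5
  rw [h3] at h6
  convert h6 using 1
  simp only [MulAut.smul_def, MulAut.conj_apply]
  group

end Cfsg.Agent.S1249
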