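import Mathlib
import Cfsg.Statements.S1250
import Cfsg.Agent.Lib.Helper7.Basic

set_option autoImplicit false
open Cfsg

namespace Cfsg.Agent.S1250

open scoped Pointwise
open Cfsg.Agent.Helper7

/-- Let S be a Sylow p-subgroup of the finite group G, A ≤ S strongly closed in S, and N a normal subgroup. Then the image of A in G ⧸ N is strongly closed in the image of S (which is a Sylow p-subgroup of G ⧸ N). -/
theorem result {G : Type*} [Group G] [Finite G] {p : ℕ} [Fact p.Prime] (S : Sylow p G) (A : Subgroup G) (hA : Cfsg.IsStronglyClosed A (S : Subgroup G)) (N : Subgroup G) [N.Normal] : Cfsg.IsStronglyClosed (A.map (QuotientGroup.mk' N)) ((S : Subgroup G).map (QuotientGroup.mk' N)) := by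
  obtain ⟨hAS, hsc⟩ := hA
  refine ⟨Subgroup.map_mono hAS, ?_⟩
  rintro _ ⟨a, ha, rfl⟩ gbar hg
  obtain ⟨g, rfl⟩ := QuotientGroup.mk'_surjective N gbar
  -- y = g a g⁻¹
  set y : G := g * a * g⁻¹ with hy
  have hg' : (QuotientGroup.mk' N) y ∈ (S : Subgroup G).map (QuotientGroup.mk' N) := by
    simpa [hy] using hg
  obtain ⟨s, hs, hsy⟩ := hg'
  -- y ∈ S ⊔ N
  have hyH : y ∈ (S : Subgroup G) ⊔ N := by
    have h1 : s⁻¹ * y ∈ N := by
      have := QuotientGroup.eq.mp hsy
      exact this
    have : y = s * (s⁻¹ * y) := by group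
    rw [this]
    exact Subgroup.mul_mem_sup hs h1
  -- y is a p-element
  have hyp : IsPGroup p (Subgroup.zpowers y) := by
    have hap : IsPGroup p (Subgroup.zpowers a) :=
      S.isPGroup'.to_le (by rw [Subgroup.zpowers_le]; exact hAS ha)
    have : Subgroup.zpowers y = (Subgroup.zpowers a).map (MulAut.conj g).toMonoidHom := by
      rw [MonoidHom.map_zpowers]
      simp [hy, MulAut.conj_apply]
    rw [this]
    exact hap.map _
  obtain ⟨h, hh, hhy⟩ := exists_conj_mem_sylow_of_le S _ le_sup_left y hyp hyH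
  -- decompose h = s' * n'
  have hh' : h ∈ ((S : Subgroup G) : Set G) * (N : Set G) := by
    rw [← Subgroup.mul_normal]; exact hh
  obtain ⟨s', hs', n', hn', rfl⟩ := Set.mem_mul.mp hh'
  -- n' y n'⁻¹ ∈ S
  have h2 : n' * y * n'⁻¹ ∈ (S : Subgroup G) := by
    have h3 : s'⁻¹ * (s' * n' * y * (s' * n')⁻¹) * s' ∈ (S : Subgroup G) :=
      (S : Subgroup G).mul_mem ((S : Subgroup G).mul_mem ((S : Subgroup G).inv_mem hs') hhy) hs'
    convert h3 using 1
    group
  have h4 : (n' * g) * a * (n' * g)⁻¹ ∈ A := by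
    apply hsc a ha
    convert h2 using 1
    rw [hy]; group
  refine ⟨(n' * g) * a * (n' * g)⁻¹, h4, ?_⟩
  have hn1 : (QuotientGroup.mk' N) n' = 1 := by
    simpa using (QuotientGroup.eq_one_iff n').mpr hn'
  simp only [map_mul, map_inv, hn1, one_mul, mul_inv_rev, inv_one, mul_one]

end Cfsg.Agent.S1250
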