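import Mathlib
import Cfsg.Statements.S1251
import Cfsg.Agent.Lib.Helper15.StrongClosed2

set_option autoImplicit false
open Cfsg

namespace Cfsg.Agent.S1251

/-- Let S be a Sylow 2-subgroup of the finite group G and A ≤ S strongly closed in S. If H is a subgroup normalized by A with no nontrivial normal subgroup of odd order and A ∩ H = 1, then A ≤ C_G(H). -/
theorem result {G : Type*} [Group G] [Finite G] (S : Sylow 2 G) (A : Subgroup G) (hA : Cfsg.IsStronglyClosed A (S : Subgroup G)) (H : Subgroup G) (hAH : A ≤ Subgroup.normalizer (H : Set G)) (hO : Cfsg.oddCore ↥H = ⊥) (hdisj : A ⊓ H = ⊥) : A ≤ Subgroup.centralizer (H : Set G) := by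
  haveI : Fact (Nat.Prime 2) := ⟨Nat.prime_two⟩
  set K : Subgroup G := A ⊔ H with hK
  have hAK : A ≤ K := le_sup_left
  have hHK : H ≤ K := le_sup_right
  have hKn : K ≤ Subgroup.normalizer (H : Set G) := sup_le hAH Subgroup.le_normalizer
  have hH'n : (H.subgroupOf K).Normal := Subgroup.normal_subgroupOf_of_le_normalizer hKn
  have hA2 : IsPGroup 2 ↥A := S.isPGroup'.to_le hA.1
  have hA'2 : IsPGroup 2 ↥(A.subgroupOf K) := hA2.comap_subtype
  obtain ⟨T', hT'⟩ := hA'2.exists_le_sylow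
  have hTm : IsPGroup 2 ↥((T' : Subgroup ↥K).map K.subtype) := T'.isPGroup'.map _
  obtain ⟨c, hc⟩ := Cfsg.Agent.Helper9.exists_conj_le_sylow S _ hTm
  have hAT : ∀ x ∈ A, x ∈ (T' : Subgroup ↥K).map K.subtype := by
    intro x hx
    exact ⟨⟨x, hAK hx⟩, hT' (by rw [Subgroup.mem_subgroupOf]; exact hx), rfl⟩
  have hcA : ∀ x ∈ A, c * x * c⁻¹ ∈ A := fun x hx => hA.2 x hx c (hc x (hAT x hx))
  have hcA' : ∀ y ∈ A, c⁻¹ * y * c ∈ A := by
    intro y hy
    let φ : ↥A → ↥A := fun x => ⟨c * x * c⁻¹, hcA x x.2⟩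
    have hφ : Function.Injective φ := by
      intro x₁ x₂ e
      have e' : c * (x₁ : G) * c⁻¹ = c * (x₂ : G) * c⁻¹ := congrArg Subtype.val e
      apply Subtype.ext
      have := mul_right_cancel e'
      exact mul_left_cancel this
    obtain ⟨x, hx⟩ := (Finite.surjective_of_injective hφ) ⟨y, hy⟩
    have e' : c * (x : G) * c⁻¹ = y := congrArg Subtype.val hx
    have : c⁻¹ * y * c = x := by rw [← e']; group
    rw [this]
    exact x.2
  have hyp : Cfsg.Agent.Helper15.StrongClosed.Hyp T' (A.subgroupOf K) (H.subgroupOf K) := by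
    refine ⟨hH'n, ?_, ⟨hT', ?_⟩, ?_, ?_⟩
    · rw [← Subgroup.subgroupOf_sup hAK hHK]
      exact Subgroup.subgroupOf_self K
    · intro x hx g hg
      rw [Subgroup.mem_subgroupOf] at hx ⊢
      have h1 : ((g * x * g⁻¹ : ↥K) : G) ∈ (T' : Subgroup ↥K).map K.subtype := ⟨_, hg, rfl⟩
      have h2 := hc _ h1
      have e : c * ((g * x * g⁻¹ : ↥K) : G) * c⁻¹ = (c * g) * (x : G) * (c * g)⁻¹ := by
        push_cast
        group
      rw [e] at h2
      have h3 := hcA' _ (hA.2 _ hx _ h2)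
      have e2 : c⁻¹ * ((c * g) * (x : G) * (c * g)⁻¹) * c = ((g * x * g⁻¹ : ↥K) : G) := by
        push_cast
        group
      rwa [e2] at h3
    · intro N hN hNH hodd
      set N₁ : Subgroup ↥H := N.comap (Subgroup.inclusion hHK) with hN₁
      have hN₁n : N₁.Normal := Subgroup.Normal.comap hN _
      let f : ↥N₁ →* ↥N := (Subgroup.inclusion hHK).subgroupComap N
      have hf : Function.Injective f := by
        intro x y e
        have e1 : ((f x : ↥K) : G) = ((f y : ↥K) : G) := by rw [e]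
        exact Subtype.ext (Subtype.ext e1)
      have hdvd : Nat.card ↥N₁ ∣ Nat.card ↥N := Subgroup.card_dvd_of_injective f hf
      have hodd₁ : Odd (Nat.card ↥N₁) := Odd.of_dvd_nat hodd hdvd
      have hle : N₁ ≤ Cfsg.oddCore ↥H :=
        Cfsg.Agent.Helper22.le_pPrimeCore 2 N₁ hN₁n (Nat.coprime_two_right.2 hodd₁)
      rw [hO] at hle
      rw [eq_bot_iff]
      intro y hy
      have hyH : (y : G) ∈ H := by
        have := hNH hy
        rwa [Subgroup.mem_subgroupOf] at this
      have h1 : (⟨(y : G), hyH⟩ : ↥H) ∈ N₁ := by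
        rw [hN₁, Subgroup.mem_comap]
        have : Subgroup.inclusion hHK ⟨(y : G), hyH⟩ = y := Subtype.ext rfl
        rw [this]
        exact hy
      have h2 := Subgroup.mem_bot.1 (hle h1)
      rw [Subgroup.mem_bot]
      apply Subtype.ext
      have h3 : ((⟨(y : G), hyH⟩ : ↥H) : G) = ((1 : ↥H) : G) := congrArg Subtype.val h2
      exact h3
    · rw [eq_bot_iff]
      rintro y ⟨hy1, hy2⟩
      have hy1 : y ∈ A.subgroupOf K := hy1
      have hy2 : y ∈ H.subgroupOf K := hy2
      rw [Subgroup.mem_subgroupOf] at hy1 hy2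
      have : (y : G) ∈ A ⊓ H := ⟨hy1, hy2⟩
      rw [hdisj, Subgroup.mem_bot] at this
      rw [Subgroup.mem_bot]
      exact Subtype.ext this
  have hres := hyp.le_centralizer
  intro x hx
  rw [Subgroup.mem_centralizer_iff]
  intro k hk
  have h1 : (⟨x, hAK hx⟩ : ↥K) ∈ Subgroup.centralizer ((H.subgroupOf K : Subgroup ↥K) : Set ↥K) :=
    hres (by rw [Subgroup.mem_subgroupOf]; exact hx)
  have h2 := Subgroup.mem_centralizer_iff.1 h1 ⟨k, hHK hk⟩
    (by show _ ∈ H.subgroupOf K; rw [Subgroup.mem_subgroupOf]; exact hk)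
  exact congrArg Subtype.val h2

end Cfsg.Agent.S1251
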