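import Mathlib
import Cfsg.Statements.S1254
import Cfsg.Agent.S0071
import Cfsg.Agent.Lib.Helper16.DihedralSub
import Cfsg.Agent.Lib.Helper16.NormalComplementNC

set_option autoImplicit false
open Cfsg

namespace Cfsg.Agent.S1254

open Cfsg.Agent.Helper16 in
/-- Let X be a finite group whose Sylow 2-subgroup S is dihedral (of order at least 4). Then X has a normal 2-complement if and only if, for every Klein four-subgroup U ≤ S, the normalizer N_X(U) is generated by C_X(U) and N_S(U). -/
theorem result {X : Type*} [Group X] [Finite X] (S : Sylow 2 X) (m : ℕ) (hm : 2 ≤ m) (eS : (S : Subgroup X) ≃* DihedralGroup m) : Cfsg.HasNormalPComplement 2 X ↔ ∀ U : Subgroup X, U ≤ S → IsKleinFour U → Subgroup.normalizer (U : Set X) = Subgroup.centralizer (U : Set X) ⊔ ((S : Subgroup X) ⊓ Subgroup.normalizer (U : Set X)) := by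
  have hF : Fact (Nat.Prime 2) := ⟨Nat.prime_two⟩
  constructor
  · intro h U hUS _
    obtain ⟨K, hKn, hKc⟩ := isComplement'_sylow_of_hasNormalPComplement h S
    exact normalizer_eq_of_normal_complement hKn hKc U hUS
  · intro h
    obtain ⟨a, j, hD, hmj⟩ := exists_isDihedralSub (S : Subgroup X) S.isPGroup' m eS
    have hfrob : ∀ Q : Subgroup X, Q ≤ (S : Subgroup X) →
        ∀ g ∈ Subgroup.normalizer (Q : Set X), Nat.Coprime (orderOf g) 2 →
        g ∈ Subgroup.centralizer (Q : Set X) := by
      intro Q hQS g hg hcop
      have hodd : Odd (orderOf g) := Nat.coprime_two_right.1 hcop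
      by_contra hgc
      obtain ⟨h4, hsq⟩ := four_of_odd_normalizer_dihedral (S : Subgroup X) hD.mem hD.hao hD.card
        hD.out_sq Q hQS hg hodd hgc
      have hK4 : IsKleinFour Q := by
        refine ⟨h4, ?_⟩
        have h1 : Monoid.exponent Q ∣ 2 := by
          apply Monoid.exponent_dvd_of_forall_pow_eq_one
          intro q
          exact Subtype.ext (by simpa using hsq q q.2)
        rcases (Nat.dvd_prime Nat.prime_two).1 h1 with h2 | h2
        · exfalso
          rw [Monoid.exp_eq_one_iff] at h2
          have := Nat.card_of_subsingleton (1 : Q)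
          omega
        · exact h2
      have hN := h Q hQS hK4
      apply hgc
      exact mem_centralizer_of_normalizer_eq_sup Q ((S : Subgroup X) ⊓ Subgroup.normalizer (Q : Set X))
        (S.isPGroup'.to_le inf_le_left) inf_le_right hN hg hodd
    obtain ⟨N, hN, hNc⟩ := (Cfsg.Agent.S0071.result S).2 hfrob
    exact ⟨S, N, hN, hNc⟩

end Cfsg.Agent.S1254
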