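import Mathlib
import Cfsg.Statements.S1256
import Cfsg.Agent.Lib.Helper20.Dih7

set_option autoImplicit false
open Cfsg

namespace Cfsg.Agent.S1256

open Cfsg.Agent.Helper20.Dih

theorem map_conj_map_conj {X : Type*} [Group X] (H : Subgroup X) (a b : X) :
    (H.map (MulAut.conj b).toMonoidHom).map (MulAut.conj a).toMonoidHom =
      H.map (MulAut.conj (a * b)).toMonoidHom := by
  rw [Subgroup.map_map]
  congr 1
  ext y
  simp [mul_assoc]

theorem map_conj_one {X : Type*} [Group X] (H : Subgroup X) :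
    H.map (MulAut.conj (1 : X)).toMonoidHom = H := by
  ext y
  simp [Subgroup.mem_map]

theorem exists_conj_eq_sylow {X : Type*} [Group X] [Finite X] (S : Sylow 2 X) (U : Subgroup X)
    (hU : Nat.card U = Nat.card S) (hUp : IsPGroup 2 U) :
    ∃ g : X, U.map (MulAut.conj g).toMonoidHom = (S : Subgroup X) := by
  haveI : Fact (Nat.Prime 2) := ⟨Nat.prime_two⟩
  obtain ⟨g, hg⟩ := exists_conj_mem_sylow S U hUp
  refine ⟨g⁻¹, Subgroup.eq_of_le_of_card_ge ?_ ?_⟩
  · rintro _ ⟨y, hy, rfl⟩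
    show g⁻¹ * y * g⁻¹⁻¹ ∈ (S : Subgroup X)
    rw [inv_inv]
    exact hg y hy
  · rw [card_map_conj, hU]

/-- Let X be a finite group whose Sylow 2-subgroup S is dihedral of order 2m ≥ 4. If |S| = 4, any two Klein four-subgroups of X are conjugate; if |S| > 4, there are Klein four-subgroups U₁, U₂ of X that are not conjugate, and every Klein four-subgroup of X is conjugate to U₁ or to U₂. -/
theorem result {X : Type*} [Group X] [Finite X] (S : Sylow 2 X) (m : ℕ) (hm : 2 ≤ m) (eS : (S : Subgroup X) ≃* DihedralGroup m) : (Nat.card S = 4 → ∀ U V : Subgroup X, IsKleinFour U → IsKleinFour V → (∃ x : X, U.map (MulAut.conj x).toMonoidHom = V)) ∧ (4 < Nat.card S → ∃ U₁ U₂ : Subgroup X, IsKleinFour U₁ ∧ IsKleinFour U₂ ∧ ¬ (∃ x : X, U₁.map (MulAut.conj x).toMonoidHom = U₂) ∧ ∀ V : Subgroup X, IsKleinFour V → (∃ x : X, V.map (MulAut.conj x).toMonoidHom = U₁) ∨ (∃ x : X, V.map (MulAut.conj x).toMonoidHom = U₂)) := by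
  haveI : Fact (Nat.Prime 2) := ⟨Nat.prime_two⟩
  constructor
  · intro hS U V hU hV
    have hUp : IsPGroup 2 U := IsPGroup.of_card (n := 2) (by rw [hU.card_four]; norm_num)
    have hVp : IsPGroup 2 V := IsPGroup.of_card (n := 2) (by rw [hV.card_four]; norm_num)
    obtain ⟨a, ha⟩ := exists_conj_eq_sylow S U (by rw [hU.card_four]; exact hS.symm) hUp
    obtain ⟨b, hb⟩ := exists_conj_eq_sylow S V (by rw [hV.card_four]; exact hS.symm) hVp
    refine ⟨b⁻¹ * a, ?_⟩
    rw [← map_conj_map_conj, ha, ← hb, map_conj_map_conj, inv_mul_cancel, map_conj_one]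
  · intro hS
    have hcard : Nat.card (S : Subgroup X) = 2 * m := by
      rw [Nat.card_congr eS.toEquiv, DihedralGroup.nat_card]
    obtain ⟨k, hk⟩ := IsPGroup.iff_card.mp S.2
    have hk3 : 3 ≤ k := by
      by_contra h
      have hk2 : k ≤ 2 := by omega
      have : 2 ^ k ≤ 2 ^ 2 := Nat.pow_le_pow_right (by norm_num) hk2
      have h4 : 4 < Nat.card (S : Subgroup X) := hS
      rw [hk] at h4
      omega
    obtain ⟨j, rfl⟩ : ∃ j, k = j + 3 := ⟨k - 3, by omega⟩
    have hq : m = 4 * 2 ^ j := by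
      have h1 : 2 * m = 2 ^ (j + 3) := by rw [← hcard, hk]
      have h2 : (2 : ℕ) ^ (j + 3) = 2 * (4 * 2 ^ j) := by rw [pow_add]; ring
      omega
    have hq0 : 0 < 2 ^ j := Nat.pos_of_ne_zero (by positivity)
    set φ : DihedralGroup m →* X := (S : Subgroup X).subtype.comp eS.symm.toMonoidHom with hφdef
    have hφ : Function.Injective φ := by
      intro a b hab
      have : (eS.symm a : X) = (eS.symm b : X) := hab
      exact eS.symm.injective (Subtype.ext this)
    have hrange : φ.range = (S : Subgroup X) := by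
      ext y
      constructor
      · rintro ⟨d, rfl⟩
        exact (eS.symm d).2
      · intro hy
        refine ⟨eS ⟨y, hy⟩, ?_⟩
        show ((eS.symm (eS ⟨y, hy⟩) : (S : Subgroup X)) : X) = y
        rw [MulEquiv.symm_apply_apply]
    refine ⟨UX (2 ^ j) hq φ 0, UX (2 ^ j) hq φ 1, isKleinFour_UX _ hq hq0 φ hφ 0,
      isKleinFour_UX _ hq hq0 φ hφ 1, ?_, ?_⟩
    · rintro ⟨x, hx⟩
      exact not_conj _ hq hq0 S φ hφ hrange x hx
    · intro V hV
      obtain ⟨g, i, hgi⟩ := exists_conj_of_isKleinFour _ hq hq0 S φ hφ hrange V hV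
      obtain ⟨t, ht⟩ := exists_conj_UX _ hq hq0 φ hφ i
      rcases ht with ht | ht
      · left
        exact ⟨t * g, by rw [← map_conj_map_conj, hgi, ht]⟩
      · right
        exact ⟨t * g, by rw [← map_conj_map_conj, hgi, ht]⟩

end Cfsg.Agent.S1256
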