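import Mathlib
import Cfsg.Statements.S1269
import Cfsg.Agent.Lib.Helper7.LpB9

set_option autoImplicit false
open Cfsg

namespace Cfsg.Agent.S1269

open Cfsg.Agent.Helper7 in
/-- Let G be finite with O_{p'}(G) = 1, P a p-subgroup, N = N_G(P), and x an element of the preimage in N of E(N / O_{p'}(N)). Then x normalizes every component L of G. -/
theorem result {G : Type*} [Group G] [Finite G] (p : ℕ) [Fact p.Prime] (hO : Cfsg.pPrimeCore p G = ⊥) (P : Subgroup G) (hP : IsPGroup p ↥P) (L : Subgroup G) (hL : Cfsg.IsComponent L) (x : G) (hx : x ∈ (((Cfsg.layer (↥(Subgroup.normalizer ((P : Subgroup G) : Set G)) ⧸ Cfsg.pPrimeCore p ↥(Subgroup.normalizer ((P : Subgroup G) : Set G)))).comap (QuotientGroup.mk' (Cfsg.pPrimeCore p ↥(Subgroup.normalizer ((P : Subgroup G) : Set G))))).map (Subgroup.normalizer ((P : Subgroup G) : Set G)).subtype)) : L.map (MulAut.conj x).toMonoidHom = L := by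
  set N : Subgroup G := Subgroup.normalizer (P : Set G) with hN
  set O : Subgroup ↥N := Cfsg.pPrimeCore p ↥N with hOdef
  haveI : O.Normal := Cfsg.Agent.Helper22.pPrimeCore_normal p
  apply Cfsg.Agent.Helper15.map_conj_eq_of_mem_normalizer
  have hle : (Cfsg.layer (↥N ⧸ O)).comap (QuotientGroup.mk' O) ≤
      (Subgroup.normalizer (L : Set G)).comap N.subtype := by
    rw [← map_pLayer_eq_layer p, QuotientGroup.comap_map_mk']
    apply sup_le
    · rw [← Subgroup.map_le_iff_le_comap]
      exact map_pPrimeCore_normalizer_le_normalizer_component p hO P hP hL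
    · unfold Cfsg.pLayer
      apply sSup_le
      intro J₀ hJ₀
      have hJ₀ : Cfsg.IsPComponent p J₀ := hJ₀
      rw [← Subgroup.map_le_iff_le_comap]
      have hJN : J₀.map N.subtype ≤ N := by
        rintro _ ⟨a, _, rfl⟩; exact a.2
      apply le_normalizer_component_of_isPComponent_normalizer p hO P hP hJN _ hL
      rw [subgroupOf_map_subtype_self]
      exact hJ₀
  obtain ⟨a, ha, rfl⟩ := hx
  exact hle ha

end Cfsg.Agent.S1269
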