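import Mathlib
import Cfsg.Statements.S1270
import Cfsg.Agent.Lib.Helper7.LBalC
import Cfsg.Agent.Lib.Helper22.PPrimeCore

set_option autoImplicit false
open Cfsg

namespace Cfsg.Agent.S1270



/-- Let G be finite with O_{p'}(G) = 1, x of order p, and L a component with ⁅L, ⟨x⟩⁆ ≠ L. Then ⁅L, O_{p'}(C_G(x))⁆ = 1. -/
theorem result {G : Type*} [Group G] [Finite G] (p : ℕ) [Fact p.Prime] (hO : Cfsg.pPrimeCore p G = ⊥) (x : G) (hx : orderOf x = p) (L : Subgroup G) (hL : Cfsg.IsComponent L) (hne : ⁅L, Subgroup.zpowers x⁆ ≠ L) : ⁅L, Cfsg.centralizerPPrimeCore p x⁆ = ⊥ := by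
  classical
  set C : Subgroup G := Subgroup.centralizer ({x} : Set G) with hC
  set R : Subgroup G := Cfsg.centralizerPPrimeCore p x with hR
  have hRdef : R = (Cfsg.pPrimeCore p ↥C).map C.subtype := rfl
  have hRC : R ≤ C := by rw [hRdef]; exact Subgroup.map_subtype_le _
  have hcardR : (Nat.card ↥R).Coprime p := by
    rw [hRdef, Cfsg.Agent.Helper7.card_map_subtype]
    exact Cfsg.Agent.Helper22.card_pPrimeCore_coprime p
  have hmemC : ∀ g : G, g ∈ C ↔ g * x = x * g := by
    intro g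
    rw [hC, Subgroup.mem_centralizer_iff]
    constructor
    · intro h; exact (h x rfl).symm
    · intro h y hy
      rw [Set.mem_singleton_iff] at hy
      rw [hy]; exact h.symm
  by_cases hxN : x ∈ Subgroup.normalizer (L : Set G)
  · have hxZ := Cfsg.Agent.Helper7.mem_centralizer_of_commutator_ne hL hxN hne
    have hLC : L ≤ C := by
      intro l hl
      rw [hmemC]
      exact (Subgroup.mem_centralizer_iff.mp hxZ) l hl
    have hL1 : Cfsg.IsComponent (L.subgroupOf C) := Cfsg.Agent.Helper7.isComponent_subgroupOf hLC hL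
    haveI hRn : (Cfsg.pPrimeCore p ↥C).Normal := Cfsg.Agent.Helper22.pPrimeCore_normal p
    rcases Cfsg.Agent.Helper7.component_le_or_commutator_eq_bot' (L.subgroupOf C)
      (Cfsg.pPrimeCore p ↥C) hL1 (Subgroup.Normal.isSubnormal hRn) with h | h
    · exfalso
      have hLR : L ≤ R := by
        intro l hl
        rw [hRdef]
        exact ⟨⟨l, hLC hl⟩, h (show (⟨l, hLC hl⟩ : ↥C) ∈ L.subgroupOf C from hl), rfl⟩
      have hcop : (Nat.card ↥L).Coprime p :=
        Nat.Coprime.coprime_dvd_left (Subgroup.card_dvd_of_le hLR) hcardR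
      have hle := Cfsg.Agent.Helper7.subnormal_coprime_le_pPrimeCore p L hL.1 hcop
      rw [hO] at hle
      exact Cfsg.Agent.Helper7.component_ne_bot hL (le_bot_iff.mp hle)
    · have hRsub : R.subgroupOf C = Cfsg.pPrimeCore p ↥C := by
        rw [hRdef]
        exact Subgroup.comap_map_eq_self_of_injective C.subtype_injective _
      rw [← hRsub] at h
      exact (Cfsg.Agent.Helper7.commutator_subgroupOf_eq_bot_iff hLC hRC).mp h
  · apply Cfsg.Agent.Helper7.commutator_eq_bot_of_not_mem_normalizer p hO hx hL hxN R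
    · intro r hr
      exact (hmemC r).mp (hRC hr)
    · intro c hc r hr
      have hcC : c ∈ C := (hmemC c).mpr hc
      rw [hRdef] at hr ⊢
      obtain ⟨r0, hr0, rfl⟩ := hr
      haveI hRn : (Cfsg.pPrimeCore p ↥C).Normal := Cfsg.Agent.Helper22.pPrimeCore_normal p
      exact ⟨⟨c, hcC⟩ * r0 * ⟨c, hcC⟩⁻¹, hRn.conj_mem r0 hr0 ⟨c, hcC⟩, rfl⟩
    · intro r hr
      exact Nat.Coprime.coprime_dvd_left (Subgroup.orderOf_dvd_natCard R hr) hcardR

end Cfsg.Agent.S1270
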