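import Mathlib
import Cfsg.Statements.S1273
import Cfsg.Agent.Lib.Helper7.PComp2

set_option autoImplicit false
open Cfsg

namespace Cfsg.Agent.S1273



/-- Let K be a p-component of the finite group X and N a normal subgroup of K whose index in K is prime to p. Then N = K. -/
theorem result {X : Type*} [Group X] [Finite X] (p : ℕ) [Fact p.Prime] (K : Subgroup X) (hK : Cfsg.IsPComponent p K) (N : Subgroup ↥K) [N.Normal] (hidx : (N.index).Coprime p) : N = ⊤ := by
  have h1 : K ≤ N.map K.subtype := by
    apply Cfsg.Agent.Helper7.IsPComponent.le_of_pElements_mem p hK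
    intro x hx hk
    have hx' : (⟨x, hx⟩ : ↥K) ∈ N := by
      apply Cfsg.Agent.Helper7.mem_of_pElement_of_index_coprime p N hidx
      obtain ⟨k, hk⟩ := hk
      exact ⟨k, by rw [Subgroup.orderOf_mk]; exact hk⟩
    exact ⟨⟨x, hx⟩, hx', rfl⟩
  rw [eq_top_iff]
  intro x _
  obtain ⟨y, hy, hyx⟩ := h1 x.2
  have : y = x := Subtype.ext hyx
  rw [← this]; exact hy

end Cfsg.Agent.S1273
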