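import Mathlib
import Cfsg.Statements.S1279
import Cfsg.Agent.Lib.Helper7.Signalizer2

set_option autoImplicit false
open Cfsg

namespace Cfsg.Agent.S1279

open Cfsg.Agent.Helper7

/-- Let A be a noncyclic elementary abelian p-subgroup of the finite group G such that C_G(a) is solvable for every non-identity a ∈ A. Then a ↦ O_{p'}(C_G(a)) is a solvable A-signalizer functor on G. -/
theorem result {G : Type*} [Group G] [Finite G] (p : ℕ) [Fact p.Prime] (A : Subgroup G) (hA : Cfsg.IsElementaryAbelian p A) (hA2 : p ^ 2 ≤ Nat.card ↥A) (hsolv : ∀ a ∈ A, a ≠ 1 → Group.IsSolvable ↥(Subgroup.centralizer ({a} : Set G))) : Cfsg.IsSolvableSignalizerFunctor p A (fun a => Cfsg.centralizerPPrimeCore p a) := by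
  have hcomm : ∀ a ∈ A, ∀ b ∈ A, a * b = b * a := by
    intro a ha b hb
    haveI := hA.1
    exact congrArg Subtype.val (mul_comm' (⟨a, ha⟩ : ↥A) ⟨b, hb⟩)
  refine ⟨⟨?_, ?_, ?_, ?_⟩, ?_⟩
  · intro a ha ha1
    exact Subgroup.map_subtype_le _
  · intro a ha ha1 hdvd
    have := card_centralizerPPrimeCore_coprime p a
    exact (Nat.Prime.coprime_iff_not_dvd (Fact.out : p.Prime)).mp this.symm hdvd
  · intro a ha ha1 b hb x hx
    exact conj_mem_centralizerPPrimeCore p
      (Subgroup.mem_centralizer_singleton_iff.mpr (hcomm b hb a ha)) hx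
  · intro a ha ha1 b hb hb1
    exact centralizerPPrimeCore_inf_centralizer_le p a b (hcomm a ha b hb) (hA.2 a ha)
      (pLayer_eq_bot_of_isSolvable p (hsolv b hb hb1))
  · intro a ha ha1
    haveI := hsolv a ha ha1
    have hle : Cfsg.centralizerPPrimeCore p a ≤ Subgroup.centralizer ({a} : Set G) :=
      Subgroup.map_subtype_le _
    exact Group.isSolvable_of_isSolvable_injective (f := Subgroup.inclusion hle)
      (Subgroup.inclusion_injective hle)

end Cfsg.Agent.S1279
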