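import Mathlib
import Cfsg.Statements.S1281
import Cfsg.Agent.Lib.Helper7.Signalizer

set_option autoImplicit false
open Cfsg

namespace Cfsg.Agent.S1281

open Cfsg.Agent.Helper7

/-- Let θ be a solvable A-signalizer functor on the finite group G (A a noncyclic elementary abelian p-subgroup) and N a normal subgroup of order prime to p. Then for all non-identity a, b ∈ A, the image of θ a in G / N meets the centralizer of the image of b inside the image of θ b. -/
theorem result {G : Type*} [Group G] [Finite G] (p : ℕ) [Fact p.Prime] (A : Subgroup G) (hA : Cfsg.IsElementaryAbelian p A) (hA2 : p ^ 2 ≤ Nat.card ↥A) (θ : G → Subgroup G) (hθ : Cfsg.IsSolvableSignalizerFunctor p A θ) (N : Subgroup G) [N.Normal] (hN : ¬ p ∣ Nat.card ↥N) (a b : G) (ha : a ∈ A) (ha1 : a ≠ 1) (hb : b ∈ A) (hb1 : b ≠ 1) : (θ a).map (QuotientGroup.mk' N) ⊓ Subgroup.centralizer {QuotientGroup.mk' N b} ≤ (θ b).map (QuotientGroup.mk' N) := by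
  obtain ⟨⟨hθc, hθp, hθA, hθb⟩, hθs⟩ := hθ
  rintro _ ⟨⟨t, ht, rfl⟩, hcen⟩
  have hcen' : QuotientGroup.mk' N b * QuotientGroup.mk' N t = QuotientGroup.mk' N t * QuotientGroup.mk' N b :=
    (Subgroup.mem_centralizer_iff.mp hcen) _ rfl
  have hcardb := card_zpowers_of_isElementaryAbelian hA hb hb1
  have hNn : Subgroup.normalizer (N : Set G) = ⊤ := Subgroup.normalizer_eq_top_iff.mpr inferInstance
  -- fixed point in the coset
  obtain ⟨c, hc, hcN⟩ := Cfsg.Agent.Helper1.exists_centralizer_mem_coset N (Subgroup.zpowers b)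
    (by rw [hNn]; exact le_top)
    (by rw [hcardb]; exact (Nat.Prime.coprime_iff_not_dvd (Fact.out : p.Prime)).mpr hN)
    (Or.inl inferInstance) t
    (by
      intro a' ha'
      obtain ⟨k, rfl⟩ := Subgroup.mem_zpowers_iff.mp ha'
      rw [← QuotientGroup.eq_one_iff, ← QuotientGroup.mk'_apply]
      have hcomm : Commute (QuotientGroup.mk' N b) (QuotientGroup.mk' N t) := hcen'
      have := (hcomm.zpow_left k).eq
      simp only [map_mul, map_inv, map_zpow]
      rw [mul_assoc (QuotientGroup.mk' N t)⁻¹, this]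
      group)
  rw [centralizer_zpowers_eq] at hc
  have hcK : c ∈ N ⊔ θ a := by
    have : c = t * (t⁻¹ * c) := by group
    rw [this]
    exact Subgroup.mul_mem _ (Subgroup.mem_sup_right ht) (Subgroup.mem_sup_left hcN)
  obtain ⟨n, hn, y, hy, hcny⟩ := exists_mul_of_mem_sup_centralizer hcardb
    (X := N) (Y := θ a) (by rw [hNn]; exact le_top) hN (hθp a ha ha1)
    (fun u hu => (inferInstance : N.Normal).conj_mem u hu b) (hθA a ha ha1 b hb) hcK hc
  have hyb : y ∈ θ b := hθb a ha ha1 b hb hb1 hy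
  refine ⟨y, hyb, ?_⟩
  have h1 : QuotientGroup.mk' N t = QuotientGroup.mk' N c := by
    rw [QuotientGroup.mk'_apply, QuotientGroup.mk'_apply, QuotientGroup.eq]
    exact hcN
  rw [h1, hcny, map_mul]
  have : QuotientGroup.mk' N n = 1 := by
    rw [QuotientGroup.mk'_apply, QuotientGroup.eq_one_iff]
    exact (Subgroup.mem_inf.mp hn).1
  rw [this, one_mul]

end Cfsg.Agent.S1281
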