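import Mathlib
import Cfsg.Statements.S1286

set_option autoImplicit false
open Cfsg

namespace Cfsg.Agent.S1286

open Equiv

/-- The ambient group: the symmetric group on five letters. -/
abbrev X5 := Equiv.Perm (Fin 5)

def s5 : X5 := swap 0 1
def t5 : X5 := swap 2 3
def c5 : X5 := swap 2 3 * swap 3 4
def d5 : X5 := swap 0 1 * swap 1 4

/-- The four-group generated by the two commuting transpositions. -/
def A5 : Subgroup X5 where
  carrier := {a | a = 1 ∨ a = s5 ∨ a = t5 ∨ a = s5 * t5}
  mul_mem' := by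
    rintro a b (rfl | rfl | rfl | rfl) (rfl | rfl | rfl | rfl) <;>
      show _ = _ ∨ _ = _ ∨ _ = _ ∨ _ = _ <;> decide
  one_mem' := Or.inl rfl
  inv_mem' := by
    rintro a (rfl | rfl | rfl | rfl) <;>
      show _ = _ ∨ _ = _ ∨ _ = _ ∨ _ = _ <;> decide

theorem mem_A5 {a : X5} : a ∈ A5 ↔ a = 1 ∨ a = s5 ∨ a = t5 ∨ a = s5 * t5 := Iff.rfl

/-- The signalizer functor. -/
noncomputable def θ5 (g : X5) : Subgroup X5 :=
  if g = s5 then Subgroup.zpowers c5 else if g = t5 then Subgroup.zpowers d5 else ⊥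

theorem θ5_s : θ5 s5 = Subgroup.zpowers c5 := if_pos rfl

theorem θ5_t : θ5 t5 = Subgroup.zpowers d5 := by
  unfold θ5
  rw [if_neg (by decide), if_pos rfl]

theorem θ5_st : θ5 (s5 * t5) = ⊥ := by
  unfold θ5
  rw [if_neg (by decide), if_neg (by decide)]

theorem mem_zpowers_three {G : Type*} [Group G] {g x : G} (hg : g ^ 3 = 1)
    (hx : x ∈ Subgroup.zpowers g) : x = 1 ∨ x = g ∨ x = g⁻¹ := by
  obtain ⟨k, rfl⟩ := Subgroup.mem_zpowers_iff.mp hx
  have hg' : g ^ (3 : ℤ) = 1 := by
    rw [← hg]; exact zpow_natCast g 3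
  rw [zpow_eq_zpow_emod k hg']
  have h0 : 0 ≤ k % 3 := Int.emod_nonneg k (by norm_num)
  have h3 : k % 3 < 3 := Int.emod_lt_of_pos k (by norm_num)
  obtain h | h | h : k % 3 = 0 ∨ k % 3 = 1 ∨ k % 3 = 2 := by omega
  · left; rw [h, zpow_zero]
  · right; left; rw [h, zpow_one]
  · right; right
    rw [h]
    have : g ^ (2 : ℤ) * g = 1 := by
      rw [← hg']
      rw [show (3 : ℤ) = 2 + 1 by norm_num, zpow_add, zpow_one]
    exact eq_inv_of_mul_eq_one_left this

theorem mem_zpowers_of_eq {G : Type*} [Group G] {g x : G} (hx : x = 1 ∨ x = g ∨ x = g⁻¹) :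
    x ∈ Subgroup.zpowers g := by
  rcases hx with h | h | h
  · rw [h]; exact Subgroup.one_mem _
  · rw [h]; exact Subgroup.mem_zpowers g
  · rw [h]; exact Subgroup.inv_mem _ (Subgroup.mem_zpowers g)

theorem c5_pow : c5 ^ 3 = 1 := by decide
theorem d5_pow : d5 ^ 3 = 1 := by decide

theorem card_zpowers_c5 : Nat.card (Subgroup.zpowers c5) = 3 := by
  rw [Nat.card_zpowers]
  exact orderOf_eq_prime c5_pow (by decide)

theorem card_zpowers_d5 : Nat.card (Subgroup.zpowers d5) = 3 := by
  rw [Nat.card_zpowers]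
  exact orderOf_eq_prime d5_pow (by decide)

theorem isSignalizerFunctor : Cfsg.IsSignalizerFunctor 2 A5 θ5 := by
  refine ⟨?_, ?_, ?_, ?_⟩
  · rintro a (rfl | rfl | rfl | rfl) ha
    · exact absurd rfl ha
    · rw [θ5_s, Subgroup.zpowers_le, Subgroup.mem_centralizer_singleton_iff]
      decide
    · rw [θ5_t, Subgroup.zpowers_le, Subgroup.mem_centralizer_singleton_iff]
      decide
    · rw [θ5_st]; exact bot_le
  · rintro a (rfl | rfl | rfl | rfl) ha
    · exact absurd rfl ha
    · rw [θ5_s, card_zpowers_c5]; decide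
    · rw [θ5_t, card_zpowers_d5]; decide
    · rw [θ5_st, Subgroup.card_bot]; decide
  · rintro a (rfl | rfl | rfl | rfl) ha b hb x hx
    · exact absurd rfl ha
    · rw [θ5_s] at hx ⊢
      apply mem_zpowers_of_eq
      rcases hb with rfl | rfl | rfl | rfl <;>
        rcases mem_zpowers_three c5_pow hx with rfl | rfl | rfl <;> decide
    · rw [θ5_t] at hx ⊢
      apply mem_zpowers_of_eq
      rcases hb with rfl | rfl | rfl | rfl <;>
        rcases mem_zpowers_three d5_pow hx with rfl | rfl | rfl <;> decide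
    · rw [θ5_st] at hx ⊢
      rw [Subgroup.mem_bot] at hx ⊢
      rw [hx]; group
  · rintro a (rfl | rfl | rfl | rfl) ha b (rfl | rfl | rfl | rfl) hb x hx
    all_goals obtain ⟨hx1, hx2⟩ := Subgroup.mem_inf.mp hx
    all_goals first
      | exact absurd rfl ha
      | exact absurd rfl hb
      | exact hx1
      | skip
    · -- a = s, b = t
      rw [θ5_s] at hx1
      rw [Subgroup.mem_centralizer_singleton_iff] at hx2
      rcases mem_zpowers_three c5_pow hx1 with rfl | rfl | rfl
      · exact Subgroup.one_mem _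
      · exact absurd hx2 (by decide)
      · exact absurd hx2 (by decide)
    · rw [θ5_s] at hx1
      rw [Subgroup.mem_centralizer_singleton_iff] at hx2
      rcases mem_zpowers_three c5_pow hx1 with rfl | rfl | rfl
      · exact Subgroup.one_mem _
      · exact absurd hx2 (by decide)
      · exact absurd hx2 (by decide)
    · rw [θ5_t] at hx1
      rw [Subgroup.mem_centralizer_singleton_iff] at hx2
      rcases mem_zpowers_three d5_pow hx1 with rfl | rfl | rfl
      · exact Subgroup.one_mem _
      · exact absurd hx2 (by decide)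
      · exact absurd hx2 (by decide)
    · rw [θ5_t] at hx1
      rw [Subgroup.mem_centralizer_singleton_iff] at hx2
      rcases mem_zpowers_three d5_pow hx1 with rfl | rfl | rfl
      · exact Subgroup.one_mem _
      · exact absurd hx2 (by decide)
      · exact absurd hx2 (by decide)
    · rw [θ5_st] at hx1
      rw [Subgroup.mem_bot] at hx1
      rw [hx1]; exact Subgroup.one_mem _
    · rw [θ5_st] at hx1
      rw [Subgroup.mem_bot] at hx1
      rw [hx1]; exact Subgroup.one_mem _

theorem card_A5 : Nat.card ↥A5 = 4 := by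
  have h : (A5 : Set X5) = ↑({1, s5, t5, s5 * t5} : Finset X5) := by
    ext a
    simp only [SetLike.mem_coe, mem_A5, Finset.coe_insert, Finset.coe_singleton,
      Set.mem_insert_iff, Set.mem_singleton_iff]
  have h2 : Nat.card ↥A5 = Nat.card ↥(A5 : Set X5) := rfl
  rw [h2, h, Nat.card_coe_set_eq, Set.ncard_coe_finset]
  decide

/-- There exist a finite group X, an elementary abelian subgroup A of order 4 and a solvable A-signalizer functor θ on X for the prime 2 which is not complete. -/
theorem result : ∃ (X : Type) (_ : Group X) (_ : Finite X) (A : Subgroup X) (θ : X → Subgroup X), Cfsg.IsElementaryAbelian 2 A ∧ Nat.card ↥A = 4 ∧ Cfsg.IsSolvableSignalizerFunctor 2 A θ ∧ ¬ Cfsg.IsCompleteSignalizerFunctor 2 A θ := by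
  refine ⟨X5, inferInstance, inferInstance, A5, θ5, ⟨?_, ?_⟩, card_A5, ⟨isSignalizerFunctor, ?_⟩, ?_⟩
  · refine ⟨⟨?_⟩⟩
    rintro ⟨a, ha⟩ ⟨b, hb⟩
    apply Subtype.ext
    show a * b = b * a
    rcases ha with rfl | rfl | rfl | rfl <;> rcases hb with rfl | rfl | rfl | rfl <;> decide
  · rintro a (rfl | rfl | rfl | rfl) <;> decide
  · rintro a (rfl | rfl | rfl | rfl) ha
    · exact absurd rfl ha
    · rw [θ5_s]; exact Group.isSolvable_of_comm (fun a b => mul_comm' a b)
    · rw [θ5_t]; exact Group.isSolvable_of_comm (fun a b => mul_comm' a b)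
    · rw [θ5_st]; exact Group.isSolvable_of_comm (fun a b => Subsingleton.elim _ _)
  · rintro ⟨-, W, -, hW2, hWc⟩
    have hc : c5 ∈ W := by
      have h1 := hWc s5 (Or.inr (Or.inl rfl)) (by decide)
      rw [θ5_s] at h1
      have : c5 ∈ W ⊓ Subgroup.centralizer {s5} := by
        rw [h1]; exact Subgroup.mem_zpowers c5
      exact this.1
    have hd : d5 ∈ W := by
      have h1 := hWc t5 (Or.inr (Or.inr (Or.inl rfl))) (by decide)
      rw [θ5_t] at h1
      have : d5 ∈ W ⊓ Subgroup.centralizer {t5} := by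
        rw [h1]; exact Subgroup.mem_zpowers d5
      exact this.1
    have hw : c5 * d5 * c5 * d5⁻¹ ∈ W :=
      W.mul_mem (W.mul_mem (W.mul_mem hc hd) hc) (W.inv_mem hd)
    have hord : orderOf (c5 * d5 * c5 * d5⁻¹) = 2 :=
      orderOf_eq_prime (by decide) (by decide)
    apply hW2
    rw [← hord]
    exact Subgroup.orderOf_dvd_natCard W hw

end Cfsg.Agent.S1286
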