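import Mathlib
import Cfsg.Statements.S1299
import Cfsg.Agent.Lib.Helper10.SigClos8
-- import your own Cfsg.Agent.* helpers here

set_option autoImplicit false
open Cfsg

namespace Cfsg.Agent.S1299

/-- Let G be finite and k-balanced for the prime p (k ≥ 1), A an elementary abelian p-subgroup of order at least p^(k+2) such that O_{p'}(C_G(a)) is solvable for every non-identity a ∈ A. For a ∈ A put θ a = the subgroup generated by the Δ_G(D) ∩ C_G(a) over the subgroups D ≤ A of order p^k. Then θ is an A-signalizer functor. -/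
theorem result {G : Type*} [Group G] [Finite G] (p k : ℕ) [Fact p.Prime] (hk : 1 ≤ k) (hbal : Cfsg.IsKBalanced p k G) (A : Subgroup G) (hA : Cfsg.IsElementaryAbelian p A) (hAk : p ^ (k + 2) ≤ Nat.card ↥A) (hsolv : ∀ a ∈ A, a ≠ 1 → Group.IsSolvable ↥(Cfsg.centralizerPPrimeCore p a)) : Cfsg.IsSignalizerFunctor p A (fun a => ⨆ D : {D : Subgroup G // D ≤ A ∧ Nat.card ↥D = p ^ k}, Cfsg.signalizerDelta p (D : Subgroup G) ⊓ Subgroup.centralizer {a}) := by
  have hpp := (Fact.out : p.Prime)
  have hθ : ∀ a : G, (⨆ D : {D : Subgroup G // D ≤ A ∧ Nat.card ↥D = p ^ k},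
      Cfsg.signalizerDelta p (D : Subgroup G) ⊓ Subgroup.centralizer {a}) =
      Cfsg.Agent.Helper10.SigClos.Wk p k A ({a} : Set G) := fun a => rfl
  have hsing : ∀ a : G, Cfsg.Agent.Helper10.SigClos.Wk p k A ({a} : Set G) =
      Cfsg.Agent.Helper10.SigClos.Wk p k A ((Subgroup.zpowers a : Subgroup G) : Set G) := by
    intro a
    unfold Cfsg.Agent.Helper10.SigClos.Wk
    rw [Cfsg.Agent.Helper7.centralizer_zpowers_eq]
  refine ⟨?_, ?_, ?_, ?_⟩
  · intro a ha ha1
    exact Cfsg.Agent.Helper10.SigClos.Wk_le_centralizer p k A _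
  · intro a ha ha1 hdvd
    have hle : Cfsg.Agent.Helper10.SigClos.Wk p k A ({a} : Set G) ≤
        Cfsg.centralizerPPrimeCore p a :=
      Cfsg.Agent.Helper10.SigClos.Wk_le_core hbal hA rfl ha ha1
    have hcop := Cfsg.Agent.Helper7.card_centralizerPPrimeCore_coprime p a
    have h1 : p ∣ Nat.card ↥(Cfsg.centralizerPPrimeCore p a) :=
      hdvd.trans (Subgroup.card_dvd_of_le hle)
    exact hpp.one_lt.ne' (Nat.Coprime.eq_one_of_dvd hcop.symm h1)
  · intro a ha ha1 b hb x hx
    have hn := Cfsg.Agent.Helper10.SigClos.le_normalizer_Wk (p := p) hA k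
      (S := ({a} : Set G)) (by
        intro s hs
        rw [Set.mem_singleton_iff] at hs
        subst hs
        exact ha) hb
    exact Cfsg.Agent.Helper7.conj_mem_of_mem_normalizer hn hx
  · intro a ha ha1 b hb hb1
    change Cfsg.Agent.Helper10.SigClos.Wk p k A ({a} : Set G) ⊓ Subgroup.centralizer {b} ≤
      Cfsg.Agent.Helper10.SigClos.Wk p k A ({b} : Set G)
    rw [hsing a, hsing b]
    have hne : Subgroup.zpowers a ≠ ⊥ := by
      intro h
      exact ha1 (Subgroup.zpowers_eq_bot.mp h)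
    have h1 := Cfsg.Agent.Helper10.SigClos.key hbal hA hAk hsolv _ (Subgroup.zpowers a)
      (Subgroup.zpowers_le.mpr ha) hne rfl b hb
    refine h1.trans (Cfsg.Agent.Helper10.SigClos.Wk_anti p k A ?_)
    intro s hs
    exact (le_sup_right : Subgroup.zpowers b ≤ Subgroup.zpowers a ⊔ Subgroup.zpowers b) hs

end Cfsg.Agent.S1299
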