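import Mathlib
import Cfsg.Statements.S1303
import Cfsg.Agent.S2427
import Cfsg.Agent.Lib.Helper7.PConstrained
import Cfsg.Agent.Lib.Helper7.Signalizer2

set_option autoImplicit false
open Cfsg

namespace Cfsg.Agent.S1303

open Cfsg.Agent.Helper7

theorem key_sq : ∀ a b c d : ZMod 3, a * d - b * c = 1 →
    (!![a, b; c, d] : Matrix (Fin 2) (Fin 2) (ZMod 3)) ^ 2 = 1 → (b = 0 ∧ c = 0 ∧ a = d) := by
  decide +kernel

/-- an element of order 3 -/
def xT : Matrix.SpecialLinearGroup (Fin 2) (ZMod 3) := ⟨!![1, 1; 0, 1], by decide +kernel⟩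

theorem xT_pow : xT ^ 3 = 1 := by decide +kernel

theorem xT_ne : xT ≠ 1 := by decide +kernel


/-- The group X = SL(2, 3): it is 2-constrained, O_{2'}(X) = 1, its centre A = Z(X) contains every involution of X = C_X(A), and X has a subgroup of order 3 (normalized by A) not contained in O_{2'}(X). -/
theorem result : Cfsg.IsPConstrained 2 (Matrix.SpecialLinearGroup (Fin 2) (ZMod 3)) ∧ Cfsg.pPrimeCore 2 (Matrix.SpecialLinearGroup (Fin 2) (ZMod 3)) = ⊥ ∧ (∀ t : Matrix.SpecialLinearGroup (Fin 2) (ZMod 3), orderOf t = 2 → t ∈ Subgroup.center (Matrix.SpecialLinearGroup (Fin 2) (ZMod 3))) ∧ ∃ Q : Subgroup (Matrix.SpecialLinearGroup (Fin 2) (ZMod 3)), Nat.card ↥Q = 3 ∧ ¬ (Q ≤ Cfsg.pPrimeCore 2 (Matrix.SpecialLinearGroup (Fin 2) (ZMod 3))) := by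
  haveI : Fact (Nat.Prime 2) := ⟨Nat.prime_two⟩
  haveI : Fact (Nat.Prime 3) := ⟨Nat.prime_three⟩
  obtain ⟨hcard, hcen, hcomm, -, -, hnorm⟩ := Cfsg.Agent.S2427.result
  have hO : Cfsg.pPrimeCore 2 (Matrix.SpecialLinearGroup (Fin 2) (ZMod 3)) = ⊥ := by
    have hcop := Cfsg.Agent.Helper22.card_pPrimeCore_coprime (G := Matrix.SpecialLinearGroup (Fin 2) (ZMod 3)) 2
    rcases hnorm _ (Cfsg.Agent.Helper22.pPrimeCore_normal 2) with h | h | h | h
    · exact h
    · rw [h, Subgroup.card_top, hcard] at hcop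
      exact absurd hcop (by decide)
    · rw [h, hcen] at hcop
      exact absurd hcop (by decide)
    · rw [h, hcomm] at hcop
      exact absurd hcop (by decide)
  refine ⟨?_, hO, ?_, ?_⟩
  · exact (isPConstrained_iff_pLayer_eq_bot 2).mpr
      (pLayer_eq_bot_of_isSolvable 2 Cfsg.Agent.S2427.G_solvable)
  · intro t ht
    have hdet : t.1 0 0 * t.1 1 1 - t.1 0 1 * t.1 1 0 = 1 := by
      have := t.2
      rwa [Matrix.det_fin_two] at this
    have hx : t.1 = !![t.1 0 0, t.1 0 1; t.1 1 0, t.1 1 1] := Matrix.eta_fin_two t.1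
    have ht2 : t ^ 2 = 1 := by
      have := pow_orderOf_eq_one t
      rwa [ht] at this
    have h2 : (!![t.1 0 0, t.1 0 1; t.1 1 0, t.1 1 1] : Matrix (Fin 2) (Fin 2) (ZMod 3)) ^ 2 = 1 := by
      rw [← hx, ← Matrix.SpecialLinearGroup.coe_pow, ht2]
      rfl
    obtain ⟨h01, h10, h⟩ := key_sq _ _ _ _ hdet h2
    exact Cfsg.Agent.S2427.mem_center_of_scalar t h01 h10 h
  · refine ⟨Subgroup.zpowers xT, ?_, ?_⟩
    · rw [Nat.card_zpowers]
      exact orderOf_eq_prime xT_pow xT_ne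
    · rw [hO]
      intro hle
      have := hle (Subgroup.mem_zpowers xT)
      rw [Subgroup.mem_bot] at this
      exact xT_ne this

end Cfsg.Agent.S1303
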