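import Mathlib
import Cfsg.Statements.S1304

set_option autoImplicit false
open Cfsg
open scoped commutatorElement

namespace Cfsg.Agent.S1304

/-- Let X be a perfect group and α an automorphism of X with α(x) x⁻¹ central for every x. Then α is the identity. -/
theorem result {X : Type*} [Group X] (hperf : commutator X = ⊤) (α : X ≃* X) (h : ∀ x : X, α x * x⁻¹ ∈ Subgroup.center X) : ∀ x : X, α x = x := by
  have hle : commutator X ≤ MonoidHom.eqLocus α.toMonoidHom (MonoidHom.id X) := by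
    rw [commutator_eq_closure, Subgroup.closure_le]
    rintro _ ⟨x, y, rfl⟩
    show α ⁅x, y⁆ = ⁅x, y⁆
    have hx := Subgroup.mem_center_iff.mp (h x)
    have hy := Subgroup.mem_center_iff.mp (h y)
    -- write α x = zx * x, α y = zy * y with zx zy central
    set zx := α x * x⁻¹ with hzx
    set zy := α y * y⁻¹ with hzy
    have hax : α x = zx * x := by simp [hzx]
    have hay : α y = zy * y := by simp [hzy]
    rw [commutatorElement_def, map_mul, map_mul, map_mul, map_inv, map_inv, hax, hay]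
    have e1 : ∀ g, g * zx = zx * g := hx
    have e2 : ∀ g, g * zy = zy * g := hy
    have e1' : ∀ g, g * zx⁻¹ = zx⁻¹ * g := fun g => by
      have := e1 g⁻¹
      have h2 := congrArg (·⁻¹) this
      simpa [mul_inv_rev] using h2.symm
    have e2' : ∀ g, g * zy⁻¹ = zy⁻¹ * g := fun g => by
      have := e2 g⁻¹
      have h2 := congrArg (·⁻¹) this
      simpa [mul_inv_rev] using h2.symm
    calc zx * x * (zy * y) * (zx * x)⁻¹ * (zy * y)⁻¹
        = zx * x * zy * y * x⁻¹ * zx⁻¹ * y⁻¹ * zy⁻¹ := by group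
      _ = zx * (x * zy) * y * x⁻¹ * zx⁻¹ * y⁻¹ * zy⁻¹ := by group
      _ = zx * (zy * x) * y * x⁻¹ * zx⁻¹ * y⁻¹ * zy⁻¹ := by rw [e2 x]
      _ = zx * zy * (x * y * x⁻¹ * zx⁻¹) * y⁻¹ * zy⁻¹ := by group
      _ = zx * zy * (zx⁻¹ * (x * y * x⁻¹)) * y⁻¹ * zy⁻¹ := by rw [e1' (x * y * x⁻¹)]
      _ = zx * (zy * zx⁻¹) * (x * y * x⁻¹ * y⁻¹ * zy⁻¹) := by group
      _ = zx * (zx⁻¹ * zy) * (zy⁻¹ * (x * y * x⁻¹ * y⁻¹)) := by rw [e1' zy, e2' (x * y * x⁻¹ * y⁻¹)]
      _ = x * y * x⁻¹ * y⁻¹ := by group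
  intro x
  have hx : x ∈ commutator X := by rw [hperf]; trivial
  exact hle hx

end Cfsg.Agent.S1304
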