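import Mathlib
import Cfsg.Statements.S1305
import Cfsg.Agent.Lib.Helper7.MaxComp5

set_option autoImplicit false
open Cfsg

namespace Cfsg.Agent.S1305

/-- Let G be a finite group of component type with the B-property and no nontrivial normal subgroup of odd order. Let a be an involution and K a component of C_G(a) such that (a) |K| is maximal among the orders of components of centralizers of involutions of G, (b) subject to (a) the 2-rank of the centralizer of K in C_G(a) is as large as possible, and (c) K has 2-rank at least 2. If B is an elementary abelian 2-subgroup of that centralizer of the largest possible order, then K is a component of C_G(b) for every non-identity b ∈ B. -/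
theorem result {G : Type*} [Group G] [Finite G] (hO : Cfsg.oddCore G = ⊥) (hB : Cfsg.HasBProperty G) (hct : Cfsg.IsComponentType G) (a : G) (ha : orderOf a = 2) (K : Subgroup G) (hKa : K ≤ Subgroup.centralizer ({a} : Set G)) (hK : Cfsg.IsComponent (K.subgroupOf (Subgroup.centralizer ({a} : Set G)))) (hmax : ∀ y : G, orderOf y = 2 → ∀ K' : Subgroup G, K' ≤ Subgroup.centralizer ({y} : Set G) → Cfsg.IsComponent (K'.subgroupOf (Subgroup.centralizer ({y} : Set G))) → Nat.card ↥K' ≤ Nat.card ↥K ∧ (Nat.card ↥K' = Nat.card ↥K → ∀ k : ℕ, Cfsg.PRankLE 2 k ↥(Subgroup.centralizer ({a} : Set G) ⊓ Subgroup.centralizer (K : Set G)) → Cfsg.PRankLE 2 k ↥(Subgroup.centralizer ({y} : Set G) ⊓ Subgroup.centralizer (K' : Set G)))) (hrk : ¬ Cfsg.PRankLE 2 1 ↥K) (B : Subgroup G) (hBle : B ≤ Subgroup.centralizer ({a} : Set G) ⊓ Subgroup.centralizer (K : Set G)) (hBel : Cfsg.IsElementaryAbelian 2 B) (hBmax : ∀ B' : Subgroup G, B' ≤ Subgroup.centralizer ({a} : Set G) ⊓ Subgroup.centralizer (K : Set G) → Cfsg.IsElementaryAbelian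 2 B' → Nat.card ↥B' ≤ Nat.card ↥B) (b : G) (hb : b ∈ B) (hb1 : b ≠ 1) : K ≤ Subgroup.centralizer ({b} : Set G) ∧ Cfsg.IsComponent (K.subgroupOf (Subgroup.centralizer ({b} : Set G))) := by
  classical
  haveI : Fact (Nat.Prime 2) := ⟨Nat.prime_two⟩
  have hBc := hBel.1
  have hB2 := hBel.2
  have hb2 : b ^ 2 = 1 := hB2 b hb
  have hbo : orderOf b = 2 := orderOf_eq_prime hb2 hb1
  have hbB := hBle hb
  have hba : b * a = a * b := Subgroup.mem_centralizer_singleton_iff.mp hbB.1
  have hbK : ∀ k ∈ K, k * b = b * k := fun k hk => Subgroup.mem_centralizer_iff.mp hbB.2 k hk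
  have hKb : K ≤ Subgroup.centralizer ({b} : Set G) := fun k hk =>
    Subgroup.mem_centralizer_singleton_iff.mpr (hbK k hk)
  refine ⟨hKb, ?_⟩
  have haCb : a ∈ Subgroup.centralizer ({b} : Set G) :=
    Subgroup.mem_centralizer_singleton_iff.mpr hba.symm
  have hBcomm := Cfsg.Agent.Helper7.MaxComp.comm_of_isMulCommutative hBc
  have hBCb : B ≤ Subgroup.centralizer ({b} : Set G) := fun c hc =>
    Subgroup.mem_centralizer_singleton_iff.mpr (hBcomm c hc b hb)
  have hBX : ⁅Cfsg.pLayer 2 ↥(Subgroup.centralizer ({b} : Set G)),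
      Cfsg.pPrimeCore 2 ↥(Subgroup.centralizer ({b} : Set G))⁆ = ⊥ := by
    have h := hB b hbo
    rw [hO, le_bot_iff] at h
    exact (Subgroup.map_eq_bot_iff_of_injective _ (Subgroup.subtype_injective _)).mp h
  exact Cfsg.Agent.Helper7.MaxComp.isComponent_subgroupOf_of_maximal haCb ha hKb hKa hK hBX
    (fun K' hK'le hK'comp => hmax b hbo K' hK'le hK'comp) hrk hBle hBel hBmax hBCb

end Cfsg.Agent.S1305
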