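import Mathlib
import Cfsg.Statements.S1307
import Cfsg.Agent.Lib.Helper16.UniqueInvolution
import Cfsg.Agent.Lib.Helper7.Quasisimple
import Cfsg.Agent.Lib.Helper7.ZStar3

set_option autoImplicit false
open Cfsg

namespace Cfsg.Agent.S1307

open Subgroup

section aux

variable {H : Type*} [Group H]

/-- In a group of 2-rank at most one, an element of order dividing two commuting with an involution
`x` is a power of `x`. -/
theorem mem_zpowers_of_rank_one [Finite H] (h : Cfsg.PRankLE 2 1 H) (x z : H) (hx : orderOf x = 2)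
    (hz : z ^ 2 = 1) (hc : Commute x z) : z ∈ zpowers x := by
  have hx2 : x ^ 2 = 1 := by rw [← hx]; exact pow_orderOf_eq_one x
  have hsub : ({x, z} : Set H) ⊆ centralizer ({x, z} : Set H) := by
    intro a ha b hb
    simp only [Set.mem_insert_iff, Set.mem_singleton_iff] at ha hb
    rcases ha with rfl | rfl <;> rcases hb with rfl | rfl
    · rfl
    · exact hc.eq.symm
    · exact hc.eq
    · rfl
  have hAle : closure ({x, z} : Set H) ≤ centralizer (closure ({x, z} : Set H) : Set H) := by
    rw [centralizer_closure]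
    exact (closure_le _).mpr hsub
  have hAc : IsMulCommutative (closure ({x, z} : Set H)) :=
    le_centralizer_iff_isMulCommutative.mp hAle
  have hAe : ∀ a ∈ closure ({x, z} : Set H), a ^ 2 = 1 := by
    intro a ha
    refine closure_induction (p := fun a _ => a ^ 2 = 1) ?_ ?_ ?_ ?_ ha
    · intro y hy
      simp only [Set.mem_insert_iff, Set.mem_singleton_iff] at hy
      rcases hy with rfl | rfl
      · exact hx2
      · exact hz
    · exact one_pow 2
    · intro a b ha hb pa pb
      have hcomm : Commute a b := (hAle ha b hb).symm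
      rw [hcomm.mul_pow, pa, pb, one_mul]
    · intro a _ pa
      rw [inv_pow, pa, inv_one]
  have hcard := h _ hAc hAe
  have hle : zpowers x ≤ closure ({x, z} : Set H) := by
    rw [zpowers_le]
    exact subset_closure (by simp)
  have heq : zpowers x = closure ({x, z} : Set H) := by
    apply Subgroup.eq_of_le_of_card_ge hle
    rw [Nat.card_zpowers, hx]
    simpa using hcard
  rw [heq]
  exact subset_closure (by simp)

/-- elements of `zpowers x` for an involution `x` -/
theorem eq_of_mem_zpowers_involution (x y : H) (hx : orderOf x = 2) (hy : y ≠ 1)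
    (h : y ∈ zpowers x) : y = x := by
  have hx2 : x ^ 2 = 1 := by rw [← hx]; exact pow_orderOf_eq_one x
  obtain ⟨k, rfl⟩ := mem_zpowers_iff.mp h
  rcases Int.even_or_odd' k with ⟨m, rfl | rfl⟩
  · exfalso
    apply hy
    rw [zpow_mul, zpow_ofNat, hx2, one_zpow]
  · rw [zpow_add, zpow_mul, zpow_ofNat, hx2, one_zpow, one_mul, zpow_one]

/-- an involution of a finite group of 2-rank at most one is isolated -/
theorem isIsolated_of_rank_one [Finite H] (h : Cfsg.PRankLE 2 1 H) (t : H) (ht : orderOf t = 2) :
    Cfsg.IsIsolated t := by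
  intro g hc
  have ht2 : t ^ 2 = 1 := by rw [← ht]; exact pow_orderOf_eq_one t
  have h1 : (g * t * g⁻¹) ^ 2 = 1 := by
    rw [conj_pow, ht2, mul_one, mul_inv_cancel]
  have hne : g * t * g⁻¹ ≠ 1 := by
    intro h1
    have : t = 1 := by
      have := congrArg (fun y => g⁻¹ * y * g) h1
      simpa [mul_assoc] using this
    rw [this, orderOf_one] at ht
    omega
  exact eq_of_mem_zpowers_involution t _ ht hne (mem_zpowers_of_rank_one h t _ ht h1 hc)

/-- the Sylow 2-subgroups of a finite group of 2-rank at most one have a unique involution -/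
theorem uniqueOrderP_sylow [Finite H] (h : Cfsg.PRankLE 2 1 H) (S : Sylow 2 H) :
    Cfsg.Agent.Helper16.UniqueOrderP 2 (S : Subgroup H) := by
  have : Fact (Nat.Prime 2) := ⟨Nat.prime_two⟩
  intro x y hx hy
  have hxH : orderOf (x : H) = 2 := by rw [Subgroup.orderOf_coe]; exact hx
  have hyH : orderOf (y : H) = 2 := by rw [Subgroup.orderOf_coe]; exact hy
  have : Nontrivial (S : Subgroup H) := by
    refine ⟨⟨x, 1, ?_⟩⟩
    intro h1
    rw [h1, orderOf_one] at hx
    omega
  have := S.isPGroup'.center_nontrivial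
  have hdvd : 2 ∣ Nat.card (center (S : Subgroup H)) := by
    rcases (S.isPGroup'.to_subgroup (center (S : Subgroup H))).card_eq_or_dvd with h1 | h1
    · exfalso
      have := Finite.one_lt_card_iff_nontrivial.mpr (inferInstance : Nontrivial (center (S : Subgroup H)))
      omega
    · exact h1
  obtain ⟨z, hz⟩ := exists_prime_orderOf_dvd_card' (G := center (S : Subgroup H)) 2 hdvd
  have hzH : orderOf ((z : (S : Subgroup H)) : H) = 2 := by
    rw [Subgroup.orderOf_coe, Subgroup.orderOf_coe]; exact hz
  have hz2 : ((z : (S : Subgroup H)) : H) ^ 2 = 1 := by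
    have := pow_orderOf_eq_one ((z : (S : Subgroup H)) : H)
    rwa [hzH] at this
  have hy2 : (y : H) ^ 2 = 1 := by
    have := pow_orderOf_eq_one (y : H)
    rwa [hyH] at this
  have hzc : ∀ w : (S : Subgroup H), Commute ((z : (S : Subgroup H)) : H) (w : H) := by
    intro w
    have := Subgroup.mem_center_iff.mp z.2 w
    have h2 := congrArg (Subtype.val) this
    simp only [Subgroup.coe_mul] at h2
    exact h2.symm
  have h1 : ((z : (S : Subgroup H)) : H) ∈ zpowers (x : H) :=
    mem_zpowers_of_rank_one h _ _ hxH hz2 (hzc x).symm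
  have h2 : (y : H) ∈ zpowers ((z : (S : Subgroup H)) : H) :=
    mem_zpowers_of_rank_one h _ _ hzH hy2 (hzc y)
  have h3 : (y : H) ∈ zpowers (x : H) := (zpowers_le.mpr h1) h2
  obtain ⟨k, hk⟩ := mem_zpowers_iff.mp h3
  rw [mem_zpowers_iff]
  refine ⟨k, ?_⟩
  apply Subtype.ext
  rw [Subgroup.coe_zpow]
  exact hk

/-- a perfect finite group of even order does not have cyclic Sylow 2-subgroups -/
theorem not_isCyclic_sylow_of_perfect [Finite H] (hperf : commutator H = ⊤)
    (heven : Even (Nat.card H)) (S : Sylow 2 H) (hS : IsCyclic (S : Subgroup H)) : False := by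
  have : Fact (Nat.Prime 2) := ⟨Nat.prime_two⟩
  have hp : (Nat.card H).minFac = 2 := (Nat.minFac_eq_two_iff _).mpr heven.two_dvd
  have hcomp := IsCyclic.isComplement' hp hS
  have hker : (MonoidHom.transferSylow S (hS.normalizer_le_centralizer hp)).ker = ⊤ := by
    rw [eq_top_iff, ← hperf, commutator_def, Subgroup.commutator_le]
    intro a _ b _
    rw [MonoidHom.mem_ker, map_commutatorElement, commutatorElement_eq_one_iff_commute]
    exact (IsCyclic.commGroup (α := (S : Subgroup H))).mul_comm _ _
  rw [hker] at hcomp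
  have h1 := hcomp.card_mul
  rw [Subgroup.card_top] at h1
  have h2 : Nat.card (S : Subgroup H) = 1 := by
    have hpos : 0 < Nat.card H := Nat.card_pos
    nlinarith
  exact S.ne_bot_of_dvd_card heven.two_dvd (Subgroup.card_eq_one.mp h2)

/-- a homomorphism from a perfect group to a commutative group is trivial -/
theorem perfect_hom_comm_trivial {A : Type*} [Group A] (hA : ∀ a b : A, a * b = b * a)
    (hperf : commutator H = ⊤) (f : H →* A) (g : H) : f g = 1 := by
  have h1 : commutator H ≤ f.ker := by
    rw [commutator_def, Subgroup.commutator_le]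
    intro a _ b _
    rw [MonoidHom.mem_ker, map_commutatorElement, commutatorElement_eq_one_iff_commute]
    exact hA _ _
  rw [hperf] at h1
  exact h1 (Subgroup.mem_top g)

/-- an involution of a quasisimple group which is central modulo a normal subgroup of odd order is
central -/
theorem mem_center_of_quasisimple [Finite H] (hq : Cfsg.IsQuasisimple H) (t : H) (ht : orderOf t = 2)
    (N : Subgroup H) (hN : N.Normal) (hodd : Odd (Nat.card N)) (hz : ∀ g : H, t * g * t⁻¹ * g⁻¹ ∈ N) :
    t ∈ center H := by
  have hNc : N ≤ center H := by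
    rcases Cfsg.Agent.Helper7.quasisimple_normal_eq_top_or_le_center hq N with h | h
    · exfalso
      have h1 : orderOf t ∣ Nat.card H := orderOf_dvd_natCard t
      rw [h, Subgroup.card_top] at hodd
      rw [ht] at h1
      exact (Nat.not_even_iff_odd.mpr hodd) (even_iff_two_dvd.mpr h1)
    · exact h
  have hc : ∀ g : H, t * g * t⁻¹ * g⁻¹ ∈ center H := fun g => hNc (hz g)
  have hmul : ∀ g h : H, t * (g * h) * t⁻¹ * (g * h)⁻¹ =
      (t * g * t⁻¹ * g⁻¹) * (t * h * t⁻¹ * h⁻¹) := by
    intro g h
    have hcomm := Subgroup.mem_center_iff.mp (hc h)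
    calc t * (g * h) * t⁻¹ * (g * h)⁻¹
        = t * g * t⁻¹ * (t * h * t⁻¹ * h⁻¹) * g⁻¹ := by group
      _ = t * g * t⁻¹ * ((t * h * t⁻¹ * h⁻¹) * g⁻¹) := by group
      _ = t * g * t⁻¹ * (g⁻¹ * (t * h * t⁻¹ * h⁻¹)) := by rw [hcomm g⁻¹]
      _ = t * g * t⁻¹ * g⁻¹ * (t * h * t⁻¹ * h⁻¹) := by group
  rw [Subgroup.mem_center_iff]
  intro g
  have h1 := perfect_hom_comm_trivial (A := center H) (fun a b => mul_comm' a b)
    (Cfsg.Agent.Helper7.quasisimple_commutator_eq_top hq)
    (MonoidHom.mk' (fun g => (⟨t * g * t⁻¹ * g⁻¹, hc g⟩ : center H))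
      (fun g h => Subtype.ext (by rw [Subgroup.coe_mul]; exact hmul g h))) g
  have h2 : t * g * t⁻¹ * g⁻¹ = 1 := congrArg Subtype.val h1
  have h3 : t * g = g * t := by
    have := congrArg (fun y => y * g * t) h2
    simpa [mul_assoc] using this
  exact h3.symm

/-- The key lemma: a finite quasisimple group of even order and 2-rank at most one has a central
involution and generalized quaternion Sylow 2-subgroups. -/
theorem quasisimple_rank_one [Finite H] (hq : Cfsg.IsQuasisimple H) (heven : Even (Nat.card H))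
    (hrk : Cfsg.PRankLE 2 1 H) :
    ∃ t : H, orderOf t = 2 ∧ t ∈ center H ∧ ∃ S : Sylow 2 H, ∃ n : ℕ,
      Nonempty ((S : Subgroup H) ≃* QuaternionGroup (2 ^ (n + 1))) := by
  have : Fact (Nat.Prime 2) := ⟨Nat.prime_two⟩
  obtain ⟨t, ht⟩ := exists_prime_orderOf_dvd_card' (G := H) 2 heven.two_dvd
  have hiso := isIsolated_of_rank_one hrk t ht
  obtain ⟨N, hN, hodd, hz⟩ := Cfsg.Agent.Helper7.ZStar.zstar_exists t ht hiso
  refine ⟨t, ht, mem_center_of_quasisimple hq t ht N hN hodd hz, ?_⟩
  obtain ⟨S⟩ : Nonempty (Sylow 2 H) := inferInstance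
  have hperf := Cfsg.Agent.Helper7.quasisimple_commutator_eq_top hq
  rcases Cfsg.Agent.Helper16.cyclic_or_quaternion_of_uniqueOrderP_two S.isPGroup'
    (uniqueOrderP_sylow hrk S) with hc | ⟨n, ⟨e⟩⟩
  · exact (not_isCyclic_sylow_of_perfect hperf heven S hc).elim
  · cases n with
    | zero =>
      exfalso
      have hQ : IsCyclic (QuaternionGroup (2 ^ 0)) := by
        rw [pow_zero]; exact QuaternionGroup.quaternionGroup_one_isCyclic
      have hc : IsCyclic (S : Subgroup H) :=
        isCyclic_of_surjective e.symm e.symm.surjective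
      exact not_isCyclic_sylow_of_perfect hperf heven S hc
    | succ n => exact ⟨S, n, ⟨e⟩⟩

end aux

/-- Let G be finite, x an involution and L ≤ C_G(x) a component of C_G(x) of even order and 2-rank 1, such that L is a component of C_G(y) for every involution y ∈ C_G(L). Then some involution of L is a classical involution of G. -/
theorem result {G : Type*} [Group G] [Finite G] (x : G) (hx : orderOf x = 2) (L : Subgroup G) (hLx : L ≤ Subgroup.centralizer ({x} : Set G)) (hL : Cfsg.IsComponent (L.subgroupOf (Subgroup.centralizer ({x} : Set G)))) (heven : Even (Nat.card ↥L)) (hrk : Cfsg.PRankLE 2 1 ↥L) (hne : ∀ y : G, orderOf y = 2 → y ∈ Subgroup.centralizer (L : Set G) → L ≤ Subgroup.centralizer ({y} : Set G) ∧ Cfsg.IsComponent (L.subgroupOf (Subgroup.centralizer ({y} : Set G)))) : ∃ t ∈ L, Cfsg.IsClassicalInvolution t := by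
  have hq : Cfsg.IsQuasisimple ↥L :=
    Cfsg.Agent.Helper7.isQuasisimple_of_mulEquiv (Subgroup.subgroupOfEquivOfLe hLx) hL.2
  obtain ⟨t, ht, htc, S, n, hS⟩ := quasisimple_rank_one hq heven hrk
  have htG : orderOf (t : G) = 2 := by rw [Subgroup.orderOf_coe]; exact ht
  have hcent : (t : G) ∈ Subgroup.centralizer (L : Set G) := by
    rw [Subgroup.mem_centralizer_iff]
    intro l hl
    have := Subgroup.mem_center_iff.mp htc ⟨l, hl⟩
    exact congrArg Subtype.val this
  obtain ⟨hle, hcomp⟩ := hne (t : G) htG hcent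
  exact ⟨(t : G), t.2, htG, L, hle, t.2, hcomp.1, S, n, hS⟩

end Cfsg.Agent.S1307
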