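import Mathlib
import Cfsg.Statements.S1313
import Cfsg.Agent.Lib.Helper7.FStar

set_option autoImplicit false
open Cfsg

namespace Cfsg.Agent.S1313

open Cfsg.Agent.Helper7

/-- a finite group with a normal subgroup `N` containing its centralizer has order at most `|N|!` -/
theorem card_le_factorial_of_centralizer_le {H : Type*} [Group H] [Finite H] (N : Subgroup H)
    [N.Normal] (hC : Subgroup.centralizer (N : Set H) ≤ N) :
    Nat.card H ≤ Nat.factorial (Nat.card ↥N) := by
  classical
  set K : Subgroup H := Subgroup.centralizer (N : Set H) with hK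
  haveI : K.Normal := Subgroup.normal_centralizer
  -- representative and remainder
  let t : H → H := fun h => Quotient.out (QuotientGroup.mk h : H ⧸ K)
  have ht : ∀ h, (QuotientGroup.mk (t h) : H ⧸ K) = QuotientGroup.mk h := fun h =>
    Quotient.out_eq _
  have hk : ∀ h, (t h)⁻¹ * h ∈ K := fun h => QuotientGroup.eq.mp (ht h)
  let ι : H → Equiv.Perm ↥N := fun h =>
    (MulAut.conjNormal (H := N) (t h)).toEquiv.trans (Equiv.mulRight ⟨(t h)⁻¹ * h, hC (hk h)⟩)
  have hι : Function.Injective ι := by
    intro h h' hh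
    -- evaluate at 1
    have h1 := congrArg (fun σ : Equiv.Perm ↥N => ((σ 1 : ↥N) : H)) hh
    simp only [ι, Equiv.trans_apply, MulEquiv.toEquiv_eq_coe, MulEquiv.coe_toEquiv, map_one,
      Equiv.coe_mulRight, one_mul] at h1
    -- h1 : (t h)⁻¹ * h = (t h')⁻¹ * h'
    have h2 : ∀ x : ↥N, t h * (x : H) * (t h)⁻¹ = t h' * (x : H) * (t h')⁻¹ := by
      intro x
      have := congrArg (fun σ : Equiv.Perm ↥N => ((σ x : ↥N) : H)) hh
      simp only [ι, Equiv.trans_apply, MulEquiv.toEquiv_eq_coe, MulEquiv.coe_toEquiv,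
        Equiv.coe_mulRight, Subgroup.coe_mul, MulAut.conjNormal_apply] at this
      rw [h1] at this
      exact mul_right_cancel this
    have h3 : (t h)⁻¹ * t h' ∈ K := by
      rw [hK, Subgroup.mem_centralizer_iff]
      intro x hx
      have := h2 ⟨x, hx⟩
      simp only at this
      -- x * (t⁻¹ t') = (t⁻¹ t') * x
      calc x * ((t h)⁻¹ * t h') = (t h)⁻¹ * (t h * x * (t h)⁻¹) * t h' := by group
        _ = (t h)⁻¹ * (t h' * x * (t h')⁻¹) * t h' := by rw [this]
        _ = (t h)⁻¹ * t h' * x := by group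
    have h4 : (QuotientGroup.mk h : H ⧸ K) = QuotientGroup.mk h' := by
      rw [← ht h, ← ht h']
      exact QuotientGroup.eq.mpr h3
    have h5 : t h = t h' := by
      show Quotient.out (QuotientGroup.mk h : H ⧸ K) = Quotient.out (QuotientGroup.mk h' : H ⧸ K)
      rw [h4]
    rw [h5] at h1
    exact mul_left_cancel h1
  calc Nat.card H ≤ Nat.card (Equiv.Perm ↥N) := Nat.card_le_card_of_injective ι hι
    _ = Nat.factorial (Nat.card ↥N) := Nat.card_perm

/-- For a finite group H, |H| ≤ |F*(H)|!. -/
theorem result {H : Type*} [Group H] [Finite H] : Nat.card H ≤ Nat.factorial (Nat.card ↥(Cfsg.generalizedFittingSubgroup H)) := by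
  exact card_le_factorial_of_centralizer_le _ centralizer_generalizedFittingSubgroup_le

end Cfsg.Agent.S1313
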