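import Mathlib
import Cfsg.Statements.S1314
open scoped commutatorElement Pointwise

set_option autoImplicit false
open Cfsg

namespace Cfsg.Agent.S1314



/-- Let x be an involution of a group G and L a perfect subgroup with ⁅L, x L x⁻¹⁆ = 1. Then l ↦ l (x l x⁻¹) is a group homomorphism π from L to G whose kernel is central in L and whose image lies in C_G(x); and the commutator subgroup of C_{L ⊔ xLx⁻¹}(x) equals the image of π. -/
theorem result {G : Type*} [Group G] [Finite G] (x : G) (hx : orderOf x = 2) (L : Subgroup G) (hperf : ⁅L, L⁆ = L) (hcomm : ⁅L, L.map (MulAut.conj x).toMonoidHom⁆ = ⊥) : ∃ π : ↥L →* G, (∀ l : ↥L, π l = (l : G) * (x * (l : G) * x⁻¹)) ∧ π.ker ≤ Subgroup.center ↥L ∧ π.range ≤ Subgroup.centralizer ({x} : Set G) ∧ ⁅(L ⊔ L.map (MulAut.conj x).toMonoidHom) ⊓ Subgroup.centralizer ({x} : Set G), (L ⊔ L.map (MulAut.conj x).toMonoidHom) ⊓ Subgroup.centralizer ({x} : Set G)⁆ = π.range := by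
  have hx2 : x * x = 1 := by
    have := pow_orderOf_eq_one x
    rw [hx, pow_two] at this
    exact this
  have hxinv : x⁻¹ = x := inv_eq_of_mul_eq_one_right hx2
  set Lx := L.map (MulAut.conj x).toMonoidHom with hLx
  have hmemLx : ∀ b ∈ L, x * b * x⁻¹ ∈ Lx := fun b hb => ⟨b, hb, by simp [MulAut.conj_apply]⟩
  have hLxmem : ∀ y ∈ Lx, ∃ b ∈ L, y = x * b * x⁻¹ := by
    rintro y ⟨b, hb, rfl⟩
    exact ⟨b, hb, by simp [MulAut.conj_apply]⟩
  have hc : ∀ a ∈ L, ∀ b ∈ L, (x * b * x⁻¹) * a = a * (x * b * x⁻¹) := by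
    intro a ha b hb
    have h1 := Subgroup.commutator_eq_bot_iff_le_centralizer.mp hcomm ha
    exact Subgroup.mem_centralizer_iff.mp h1 _ (hmemLx b hb)
  let π : ↥L →* G :=
    { toFun := fun l => (l : G) * (x * (l : G) * x⁻¹)
      map_one' := by simp
      map_mul' := by
        intro a b
        have h1 := hc b b.2 a a.2
        calc ((a * b : ↥L) : G) * (x * ((a * b : ↥L) : G) * x⁻¹)
            = (a : G) * ((b : G) * (x * (a : G) * x⁻¹)) * (x * (b : G) * x⁻¹) := by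
              rw [Subgroup.coe_mul]; group
          _ = (a : G) * ((x * (a : G) * x⁻¹) * (b : G)) * (x * (b : G) * x⁻¹) := by rw [h1]
          _ = (a : G) * (x * (a : G) * x⁻¹) * ((b : G) * (x * (b : G) * x⁻¹)) := by group }
  have hπ : ∀ l : ↥L, π l = (l : G) * (x * (l : G) * x⁻¹) := fun l => rfl
  -- the intersection is central
  have hZ0 : ∀ z ∈ L, z ∈ Lx → ∀ d ∈ L ⊔ Lx, z * d = d * z := by
    intro z hzL hzLx d hd
    have hcen : L ⊔ Lx ≤ Subgroup.centralizer ({z} : Set G) := by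
      apply sup_le
      · intro a ha
        rw [Subgroup.mem_centralizer_iff]
        intro w hw
        rw [Set.mem_singleton_iff] at hw; subst hw
        obtain ⟨b, hb, rfl⟩ := hLxmem _ hzLx
        exact hc a ha b hb
      · intro y hy
        rw [Subgroup.mem_centralizer_iff]
        intro w hw
        rw [Set.mem_singleton_iff] at hw; subst hw
        obtain ⟨b, hb, rfl⟩ := hLxmem _ hy
        exact (hc _ hzL b hb).symm
    have := Subgroup.mem_centralizer_iff.mp (hcen hd) z (Set.mem_singleton z)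
    exact this
  refine ⟨π, hπ, ?_, ?_, ?_⟩
  · intro l hl
    rw [MonoidHom.mem_ker, hπ] at hl
    rw [Subgroup.mem_center_iff]
    intro a
    have hl' : (l : G) = (x * (l : G) * x⁻¹)⁻¹ := eq_inv_of_mul_eq_one_left hl
    have hlLx : (l : G) ∈ Lx := by
      rw [hl']; exact Lx.inv_mem (hmemLx _ l.2)
    have := hZ0 (l : G) l.2 hlLx (a : G) (Subgroup.mem_sup_left a.2)
    exact Subtype.ext this.symm
  · rintro y ⟨l, rfl⟩
    rw [Subgroup.mem_centralizer_iff]
    intro w hw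
    rw [Set.mem_singleton_iff] at hw; subst hw
    rw [hπ]
    have h1 := hc l l.2 l l.2
    calc w * ((l : G) * (w * (l : G) * w⁻¹))
        = (w * (l : G) * w⁻¹) * (w * w) * (l : G) * w⁻¹ := by group
      _ = (w * (l : G) * w⁻¹) * (l : G) * w⁻¹ := by rw [hx2, mul_one]
      _ = (l : G) * (w * (l : G) * w⁻¹) * w⁻¹ := by rw [h1]
      _ = (l : G) * (w * (l : G) * w⁻¹) * w := by rw [hxinv]
  · set D := L ⊔ Lx with hD
    set Cx := Subgroup.centralizer ({x} : Set G) with hCx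
    have hrange_le : π.range ≤ D ⊓ Cx := by
      rintro y ⟨l, rfl⟩
      refine ⟨?_, ?_⟩
      · rw [hπ]
        exact Subgroup.mul_mem _ (Subgroup.mem_sup_left l.2) (Subgroup.mem_sup_right (hmemLx _ l.2))
      · show π l ∈ Subgroup.centralizer ({x} : Set G)
        rw [Subgroup.mem_centralizer_iff]
        intro w hw
        rw [Set.mem_singleton_iff] at hw; subst hw
        rw [hπ]
        have h1 := hc l l.2 l l.2
        calc w * ((l : G) * (w * (l : G) * w⁻¹))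
            = (w * (l : G) * w⁻¹) * (w * w) * (l : G) * w⁻¹ := by group
          _ = (w * (l : G) * w⁻¹) * (l : G) * w⁻¹ := by rw [hx2, mul_one]
          _ = (l : G) * (w * (l : G) * w⁻¹) * w⁻¹ := by rw [h1]
          _ = (l : G) * (w * (l : G) * w⁻¹) * w := by rw [hxinv]
    have hrange_perf : ⁅π.range, π.range⁆ = π.range := by
      have h1 : π.range = (⊤ : Subgroup ↥L).map π := MonoidHom.range_eq_map π
      have h2 : ⁅(⊤ : Subgroup ↥L), (⊤ : Subgroup ↥L)⁆ = ⊤ := by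
        have := (Subgroup.isPerfect_iff.mpr hperf).commutator_eq_top
        exact this
      rw [h1, ← Subgroup.map_commutator, h2]
    apply le_antisymm
    · -- every element of `D ⊓ Cx` is `π b * z` with `z` central in `D`
      have hdecomp : ∀ d ∈ D ⊓ Cx, ∃ b : ↥L, ∃ z : G, z ∈ L ∧ z ∈ Lx ∧ d = π b * z := by
        rintro d ⟨hdD, hdC⟩
        have hLxn : Lx ≤ Subgroup.normalizer (L : Set G) := by
          intro y hy
          have : y ∈ Subgroup.centralizer (L : Set G) := by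
            rw [Subgroup.mem_centralizer_iff]
            intro a ha
            obtain ⟨b, hb, rfl⟩ := hLxmem _ hy
            exact (hc a ha b hb).symm
          exact Subgroup.centralizer_le_normalizer _ this
        obtain ⟨a, ha, y, hy, hay⟩ : ∃ a ∈ L, ∃ y ∈ Lx, a * y = d := by
          have hmem : d ∈ (↑L : Set G) * (↑Lx : Set G) := by
            rw [← Subgroup.coe_mul_of_right_le_normalizer_left L Lx hLxn]
            exact hdD
          obtain ⟨a, ha, y, hy, h⟩ := Set.mem_mul.mp hmem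
          exact ⟨a, ha, y, hy, h⟩
        obtain ⟨b, hb, rfl⟩ := hLxmem _ hy
        -- `d = a * (x b x⁻¹)`, and `x d x⁻¹ = d`
        have hdx : x * d * x⁻¹ = d := by
          have := Subgroup.mem_centralizer_iff.mp hdC x (Set.mem_singleton x)
          rw [this]; group
        have h1 : x * d * x⁻¹ = b * (x * a * x⁻¹) := by
          rw [← hay]
          calc x * (a * (x * b * x⁻¹)) * x⁻¹ = (x * a * x⁻¹) * ((x * x) * b * (x⁻¹ * x⁻¹)) := by group
            _ = (x * a * x⁻¹) * b := by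
              rw [hx2, hxinv, hx2]; group
            _ = b * (x * a * x⁻¹) := hc b hb a ha
        -- z = b⁻¹ a
        have hz1 : b⁻¹ * a ∈ L := L.mul_mem (L.inv_mem hb) ha
        have hz2 : b⁻¹ * a = x * (a * b⁻¹) * x⁻¹ := by
          have h2 : a * (x * b * x⁻¹) = b * (x * a * x⁻¹) := by rw [hay, ← hdx, h1]
          calc b⁻¹ * a = b⁻¹ * (a * (x * b * x⁻¹)) * (x * b * x⁻¹)⁻¹ := by group
            _ = b⁻¹ * (b * (x * a * x⁻¹)) * (x * b * x⁻¹)⁻¹ := by rw [h2]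
            _ = x * (a * b⁻¹) * x⁻¹ := by group
        have hz3 : b⁻¹ * a ∈ Lx := by
          rw [hz2]; exact hmemLx _ (L.mul_mem ha (L.inv_mem hb))
        refine ⟨⟨b, hb⟩, b⁻¹ * a, hz1, hz3, ?_⟩
        rw [hπ, ← hay]
        -- `a (x b x⁻¹) = b (x b x⁻¹) (b⁻¹ a)`; `b⁻¹ a` commutes with `x b x⁻¹`
        have h3 := hZ0 (b⁻¹ * a) hz1 hz3 (x * b * x⁻¹) (Subgroup.mem_sup_right (hmemLx b hb))
        show a * (x * b * x⁻¹) = b * (x * b * x⁻¹) * (b⁻¹ * a)
        rw [mul_assoc b, ← h3]; group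
      rw [Subgroup.commutator_le]
      intro d₁ hd₁ d₂ hd₂
      obtain ⟨b₁, z₁, hz₁L, hz₁Lx, rfl⟩ := hdecomp d₁ hd₁
      obtain ⟨b₂, z₂, hz₂L, hz₂Lx, rfl⟩ := hdecomp d₂ hd₂
      have hπD : ∀ l : ↥L, π l ∈ D := fun l => (hrange_le ⟨l, rfl⟩).1
      have e1 : ⁅π b₁ * z₁, π b₂ * z₂⁆ = ⁅π b₁, π b₂⁆ := by
        have c1 := hZ0 z₁ hz₁L hz₁Lx
        have c2 := hZ0 z₂ hz₂L hz₂Lx
        have hz₁D : z₁ ∈ D := Subgroup.mem_sup_left hz₁L
        have hz₂D : z₂ ∈ D := Subgroup.mem_sup_left hz₂L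
        simp only [commutatorElement_def]
        have a1 := c1 (π b₂) (hπD b₂)
        have a2 := c1 z₂ hz₂D
        have a3 := c2 (π b₁) (hπD b₁)
        have a4 := c1 (π b₁) (hπD b₁)
        have a5 := c2 (π b₂) (hπD b₂)
        calc π b₁ * z₁ * (π b₂ * z₂) * (π b₁ * z₁)⁻¹ * (π b₂ * z₂)⁻¹
            = π b₁ * (z₁ * π b₂) * z₂ * z₁⁻¹ * (π b₁)⁻¹ * z₂⁻¹ * (π b₂)⁻¹ := by group
          _ = π b₁ * (π b₂ * z₁) * z₂ * z₁⁻¹ * (π b₁)⁻¹ * z₂⁻¹ * (π b₂)⁻¹ := by rw [a1]
          _ = π b₁ * π b₂ * (z₁ * z₂) * z₁⁻¹ * (π b₁)⁻¹ * z₂⁻¹ * (π b₂)⁻¹ := by group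
          _ = π b₁ * π b₂ * (z₂ * z₁) * z₁⁻¹ * (π b₁)⁻¹ * z₂⁻¹ * (π b₂)⁻¹ := by rw [a2]
          _ = π b₁ * π b₂ * (z₂ * (π b₁)⁻¹) * z₂⁻¹ * (π b₂)⁻¹ := by group
          _ = π b₁ * π b₂ * ((π b₁)⁻¹ * z₂) * z₂⁻¹ * (π b₂)⁻¹ := by
            have : z₂ * (π b₁)⁻¹ = (π b₁)⁻¹ * z₂ := by
              calc z₂ * (π b₁)⁻¹ = (π b₁)⁻¹ * (π b₁ * z₂) * (π b₁)⁻¹ := by group
                _ = (π b₁)⁻¹ * (z₂ * π b₁) * (π b₁)⁻¹ := by rw [a3]
                _ = (π b₁)⁻¹ * z₂ := by group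
            rw [this]
          _ = π b₁ * π b₂ * (π b₁)⁻¹ * (π b₂)⁻¹ := by group
      rw [e1]
      rw [← hrange_perf]
      exact Subgroup.commutator_mem_commutator ⟨b₁, rfl⟩ ⟨b₂, rfl⟩
    · rw [← hrange_perf]
      exact Subgroup.commutator_mono hrange_le hrange_le

end Cfsg.Agent.S1314
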