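import Mathlib
import Cfsg.Statements.S1323
import Cfsg.Agent.Lib.Helper7.AltStd4

set_option autoImplicit false
open Cfsg

namespace Cfsg.Agent.S1323

open Cfsg.Agent.Helper7 in
/-- For n ≥ 9, the subgroup of the alternating group on Fin n fixing each of the points 0, 1, 2, 3 is a standard subgroup. -/
theorem result (n : ℕ) (h4 : 4 ≤ n) (hn : 9 ≤ n) : Cfsg.IsStandardSubgroup (⨅ i : Fin 4, MulAction.stabilizer ↥(alternatingGroup (Fin n)) (Fin.castLE h4 i : Fin n)) := by
  have hcard : (Finset.univ.image (Fin.castLE h4) : Finset (Fin n)).card = 4 := by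
    rw [Finset.card_image_of_injective _ (Fin.castLE_injective h4), Finset.card_univ, Fintype.card_fin]
  have heq : (⨅ i : Fin 4, MulAction.stabilizer ↥(alternatingGroup (Fin n)) (Fin.castLE h4 i : Fin n))
      = altFix (Finset.univ.image (Fin.castLE h4) : Finset (Fin n)) := by
    ext g
    rw [Subgroup.mem_iInf, mem_altFix]
    constructor
    · intro h x hx
      obtain ⟨i, _, rfl⟩ := Finset.mem_image.mp hx
      exact MulAction.mem_stabilizer_iff.mp (h i)
    · intro h i
      rw [MulAction.mem_stabilizer_iff]
      exact h _ (Finset.mem_image_of_mem _ (Finset.mem_univ i))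
  rw [heq]
  exact altFix_isStandardSubgroup _ hcard (by rw [Fintype.card_fin]; exact hn)

end Cfsg.Agent.S1323
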