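import Mathlib
import Cfsg.Statements.S1335


set_option autoImplicit false
open Cfsg

namespace Cfsg.Agent.S1335



/-- Let H be a subgroup of the finite group G, p a prime, k ≥ 1, P a Sylow p-subgroup of H of p-rank at least k, and suppose N_G(X) ≤ H for every subgroup X ≤ P of p-rank at least k. Then P is a Sylow p-subgroup of G. -/
theorem result {G : Type*} [Group G] [Finite G] {p : ℕ} [Fact p.Prime] (k : ℕ) (hk : 1 ≤ k) (H : Subgroup G) (P : Sylow p ↥H) (hP : ¬ Cfsg.PRankLE p (k - 1) ↥(P : Subgroup ↥H)) (hΓ : (∀ X : Subgroup G, X ≤ (P : Subgroup ↥H).map H.subtype → ¬ Cfsg.PRankLE p (k - 1) ↥X → Subgroup.normalizer (X : Set G) ≤ H)) : ∃ Q : Sylow p G, (Q : Subgroup G) = (P : Subgroup ↥H).map H.subtype := by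
  classical
  set PG := (P : Subgroup ↥H).map H.subtype with hPG
  have hPGp : IsPGroup p ↥PG := P.isPGroup'.map _
  have hPGH : PG ≤ H := Subgroup.map_subtype_le _
  have hrank : ¬ Cfsg.PRankLE p (k - 1) ↥PG := by
    intro hr
    apply hP
    let e := (P : Subgroup ↥H).equivMapOfInjective H.subtype H.subtype_injective
    intro A hA hAp
    have hcomm : IsMulCommutative ↥(A.map e.toMonoidHom) := by
      refine ⟨⟨?_⟩⟩
      rintro ⟨x, a, ha, rfl⟩ ⟨y, b, hb, rfl⟩
      apply Subtype.ext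
      show e.toMonoidHom a * e.toMonoidHom b = e.toMonoidHom b * e.toMonoidHom a
      rw [← map_mul, ← map_mul]
      have := hA.is_comm.comm (⟨a, ha⟩ : ↥A) ⟨b, hb⟩
      have h' : a * b = b * a := congrArg Subtype.val this
      rw [h']
    have hexp : ∀ a ∈ A.map e.toMonoidHom, a ^ p = 1 := by
      rintro x ⟨a, ha, rfl⟩
      rw [← map_pow, hAp a ha, map_one]
    have := hr (A.map e.toMonoidHom) hcomm hexp
    rwa [Subgroup.card_map_of_injective e.injective] at this
  have hN : Subgroup.normalizer (PG : Set G) ≤ H := hΓ PG le_rfl hrank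
  obtain ⟨Q, hQ⟩ := hPGp.exists_le_sylow
  refine ⟨Q, ?_⟩
  by_contra hne
  have hlt : PG < (Q : Subgroup G) := lt_of_le_of_ne hQ (Ne.symm hne)
  haveI : Group.IsNilpotent ↥(Q : Subgroup G) := Q.isPGroup'.isNilpotent
  have hnc := normalizerCondition_of_isNilpotent (G := ↥(Q : Subgroup G))
  have hlt' : PG.subgroupOf Q < ⊤ := by
    rw [lt_top_iff_ne_top, Ne, Subgroup.subgroupOf_eq_top]
    exact not_le_of_gt hlt
  have h2 := hnc _ hlt'
  obtain ⟨g, hgN, hgP⟩ := SetLike.exists_of_lt h2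
  have hgNG : (g : G) ∈ Subgroup.normalizer (PG : Set G) := by
    rw [← Subgroup.subgroupOf_normalizer_eq hQ] at hgN
    exact Subgroup.mem_subgroupOf.mp hgN
  have hgH : (g : G) ∈ H := hN hgNG
  set P2 := PG ⊔ Subgroup.zpowers (g : G) with hP2
  have hP2Q : P2 ≤ Q := sup_le hQ (Subgroup.zpowers_le.mpr g.2)
  have hP2p : IsPGroup p ↥P2 := Q.isPGroup'.to_le hP2Q
  have hle : (P : Subgroup ↥H) ≤ P2.subgroupOf H := by
    intro y hy
    exact Subgroup.mem_subgroupOf.mpr
      ((le_sup_left : PG ≤ P2) (Subgroup.mem_map_of_mem _ hy))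
  have heq : P2.subgroupOf H = (P : Subgroup ↥H) := P.is_maximal' hP2p.comap_subtype hle
  apply hgP
  rw [Subgroup.mem_subgroupOf]
  have h3 : (⟨(g : G), hgH⟩ : ↥H) ∈ P2.subgroupOf H :=
    Subgroup.mem_subgroupOf.mpr
      ((le_sup_right : Subgroup.zpowers (g : G) ≤ P2) (Subgroup.mem_zpowers _))
  rw [heq] at h3
  exact ⟨_, h3, rfl⟩

end Cfsg.Agent.S1335
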