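import Mathlib
import Cfsg.Agent.S0122
import Cfsg.Statements.S1338
-- import your own Cfsg.Agent.* helpers here

set_option autoImplicit false
open Cfsg

namespace Cfsg.Agent.S1338

open Subgroup
open scoped IsMulCommutative

section Jordan

theorem comm_identity {G : Type*} [CommGroup G] (a b d : G) :
    a / b / (b / d) / (b / d / (d / a)) = d ^ 3 / b ^ 3 := by
  have h : ∀ (a b d : Additive G), a - b - (b - d) - (b - d - (d - a)) = 3 • d - 3 • b := by
    intros; abel
  exact h (Additive.ofMul a) (Additive.ofMul b) (Additive.ofMul d)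

variable {P : Type*} [Group P] [Finite P]

/-- An element of order dividing `3` acting on a normal elementary abelian `3`-subgroup `A` has
`|A| ≤ |C_A(x)|³` (all Jordan blocks have size at most three). -/
theorem card_le_cube_card_centralizer (A : Subgroup P) [hAn : A.Normal]
    [hAc : IsMulCommutative A] (hA3 : ∀ a ∈ A, a ^ 3 = 1) (x : P) (hx : x ^ 3 = 1) :
    Nat.card A ≤ (Nat.card (A ⊓ centralizer {x} : Subgroup P)) ^ 3 := by
  let c : A →* A := (MulAut.conjNormal x).toMonoidHom
  let φ : A →* A := MonoidHom.id A / c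
  have hc : ∀ a : A, ((c a : A) : P) = x * a * x⁻¹ := fun a => MulAut.conjNormal_apply x a
  have hc3 : ∀ a : A, c (c (c a)) = a := by
    intro a
    apply Subtype.ext
    rw [hc, hc, hc]
    have h1 : x * (x * (x * (a : P) * x⁻¹) * x⁻¹) * x⁻¹ = x ^ 3 * a * (x ^ 3)⁻¹ := by
      simp only [pow_succ, pow_zero, one_mul, mul_inv_rev, mul_assoc]
    rw [h1, hx]
    simp
  have hA3' : ∀ a : A, a ^ 3 = 1 := fun a => Subtype.ext (by simpa using hA3 a a.2)
  have hφ : ∀ a : A, φ a = a / c a := fun a => rfl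
  have hφ3 : ∀ a : A, φ (φ (φ a)) = 1 := by
    intro a
    simp only [hφ, map_div, hc3]
    rw [comm_identity, hA3', hA3', div_one]
  set K : Subgroup A := φ.ker with hK
  have hKcard : Nat.card K = Nat.card (A ⊓ centralizer {x} : Subgroup P) := by
    have hmap : K.map A.subtype = A ⊓ centralizer {x} := by
      ext g
      constructor
      · rintro ⟨a, ha, rfl⟩
        refine Subgroup.mem_inf.mpr ⟨a.2, ?_⟩
        have ha : φ a = 1 := MonoidHom.mem_ker.mp ha
        rw [hφ, div_eq_one] at ha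
        rw [mem_centralizer_iff]
        intro y hy
        rw [Set.mem_singleton_iff] at hy
        subst hy
        have h2 : (a : P) = y * a * y⁻¹ := by
          have := congrArg Subtype.val ha
          rw [hc] at this
          exact this
        show y * (a : P) = (a : P) * y
        calc y * (a : P) = (y * a * y⁻¹) * y := by group
          _ = a * y := by rw [← h2]
      · intro hg
        obtain ⟨hgA, hgx⟩ := Subgroup.mem_inf.mp hg
        refine ⟨⟨g, hgA⟩, MonoidHom.mem_ker.mpr ?_, rfl⟩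
        rw [hφ, div_eq_one]
        apply Subtype.ext
        rw [hc]
        have := mem_centralizer_iff.mp hgx x rfl
        show g = x * g * x⁻¹
        rw [this, mul_inv_cancel_right]
    rw [← hmap, Subgroup.card_map_of_injective A.subtype_injective]
  have hstep : ∀ H : Subgroup A, Nat.card H ≤ Nat.card K * Nat.card (H.map φ) := by
    intro H
    have h1 : Nat.card (φ.domRestrict H).ker * (φ.domRestrict H).ker.index = Nat.card H :=
      Subgroup.card_mul_index _
    rw [Subgroup.index_ker, MonoidHom.domRestrict_range] at h1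
    rw [← h1]
    apply Nat.mul_le_mul_right
    rw [MonoidHom.ker_domRestrict]
    exact Nat.card_le_card_of_injective (fun y => (⟨y.1.1, y.2⟩ : K))
      (fun y z hyz => Subtype.ext (Subtype.ext (congrArg (fun w : K => (w : A)) hyz)))
  have h1 := hstep ⊤
  have h2 := hstep ((⊤ : Subgroup A).map φ)
  have h3 := hstep (((⊤ : Subgroup A).map φ).map φ)
  have h4 : ((((⊤ : Subgroup A).map φ).map φ).map φ) = ⊥ := by
    rw [eq_bot_iff]
    rintro _ ⟨_, ⟨_, ⟨a, -, rfl⟩, rfl⟩, rfl⟩
    rw [hφ3]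
    exact one_mem _
  rw [h4, Subgroup.card_bot, mul_one] at h3
  rw [Subgroup.card_top] at h1
  rw [← hKcard]
  calc Nat.card A ≤ Nat.card K * Nat.card ((⊤ : Subgroup A).map φ) := h1
    _ ≤ Nat.card K * (Nat.card K * Nat.card (((⊤ : Subgroup A).map φ).map φ)) :=
        Nat.mul_le_mul_left _ h2
    _ ≤ Nat.card K * (Nat.card K * Nat.card K) :=
        Nat.mul_le_mul_left _ (Nat.mul_le_mul_left _ h3)
    _ = Nat.card K ^ 3 := by ring

end Jordan

section Main

variable {P : Type*} [Group P]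

/-- The subgroup `⟨x⟩⟨z⟩` for a central element `z`. -/
def pairSub (x z : P) (hz : z ∈ center P) : Subgroup P where
  carrier := {g | ∃ i j : ℤ, g = x ^ i * z ^ j}
  one_mem' := ⟨0, 0, by simp⟩
  mul_mem' := by
    rintro _ _ ⟨i, j, rfl⟩ ⟨k, l, rfl⟩
    refine ⟨i + k, j + l, ?_⟩
    have hc : z ^ j * x ^ k = x ^ k * z ^ j :=
      ((Commute.zpow_left (Subgroup.mem_center_iff.mp hz (x ^ k)).symm j)).eq
    calc x ^ i * z ^ j * (x ^ k * z ^ l) = x ^ i * (z ^ j * x ^ k) * z ^ l := by group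
      _ = x ^ i * (x ^ k * z ^ j) * z ^ l := by rw [hc]
      _ = x ^ (i + k) * z ^ (j + l) := by rw [zpow_add, zpow_add]; group
  inv_mem' := by
    rintro _ ⟨i, j, rfl⟩
    refine ⟨-i, -j, ?_⟩
    have hc : z ^ (-j) * x ^ (-i) = x ^ (-i) * z ^ (-j) :=
      ((Commute.zpow_left (Subgroup.mem_center_iff.mp hz (x ^ (-i))).symm (-j))).eq
    rw [mul_inv_rev, ← zpow_neg, ← zpow_neg, hc]

theorem mem_pairSub {x z : P} {hz : z ∈ center P} {g : P} :
    g ∈ pairSub x z hz ↔ ∃ i j : ℤ, g = x ^ i * z ^ j := Iff.rfl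

variable [Finite P]

theorem main (hP : IsPGroup 3 P) (hrk : ¬ Cfsg.PRankLE 3 3 P) : Cfsg.IsKConnected 3 2 P := by
  haveI : Fact (Nat.Prime 3) := ⟨Nat.prime_three⟩
  obtain ⟨Y, hYc, hYe, hYcard⟩ : ∃ Y : Subgroup P, IsMulCommutative Y ∧ (∀ a ∈ Y, a ^ 3 = 1) ∧
      3 ^ 3 < Nat.card Y := by
    by_contra hno
    apply hrk
    intro Y hYc hYe
    by_contra hY
    exact hno ⟨Y, hYc, hYe, not_le.1 hY⟩
  obtain ⟨k, hk⟩ := IsPGroup.iff_card.mp (hP.to_subgroup Y)
  have hk4 : 4 ≤ k := by
    by_contra h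
    have h' : k ≤ 3 := by omega
    have := Nat.pow_le_pow_right (show 0 < 3 by norm_num) h'
    omega
  obtain ⟨E₁, hE₁⟩ := Sylow.exists_subgroup_card_pow_prime 3 (G := Y) (n := 4)
    (by rw [hk]; exact pow_dvd_pow 3 hk4)
  have hE₀ : Cfsg.IsElementaryAbelian 3 (E₁.map Y.subtype) := by
    refine ⟨⟨⟨?_⟩⟩, ?_⟩
    · rintro ⟨_, a, ha, rfl⟩ ⟨_, b, hb, rfl⟩
      apply Subtype.ext
      have h2 := hYc.is_comm.comm a b
      show (a : P) * (b : P) = (b : P) * (a : P)
      exact congrArg Subtype.val h2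
    · rintro _ ⟨a, _, rfl⟩
      exact hYe a a.2
  have hE₀card : Nat.card (E₁.map Y.subtype) = 3 ^ 4 := by
    rw [Subgroup.card_map_of_injective Y.subtype_injective, hE₁]
  obtain ⟨A, hAn, hAe, hAcard⟩ :=
    Cfsg.Agent.S0122.result (by norm_num) hP (E₁.map Y.subtype) hE₀ hE₀card
  haveI := hAn
  haveI := hAe.1
  have hAcomm : ∀ a ∈ A, ∀ b ∈ A, a * b = b * a := fun a ha b hb =>
    congrArg Subtype.val (hAe.1.is_comm.comm ⟨a, ha⟩ ⟨b, hb⟩)
  have hAne : A ≠ ⊥ := by
    intro h
    rw [h, Subgroup.card_bot] at hAcard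
    norm_num at hAcard
  -- a central element of order three in `A`
  obtain ⟨z, hzAZ, hz1⟩ : ∃ z ∈ A ⊓ center P, z ≠ 1 := by
    have hne := Cfsg.Agent.Helper19.normal_inf_center_ne_bot hP A hAne
    by_contra hcon
    apply hne
    rw [eq_bot_iff]
    intro z hz
    by_contra hz1
    exact hcon ⟨z, hz, fun h => hz1 (by rw [h]; exact Subgroup.mem_bot.mpr rfl)⟩
  obtain ⟨hzA, hzZ⟩ := Subgroup.mem_inf.mp hzAZ
  have hzc : ∀ g : P, g * z = z * g := fun g => Subgroup.mem_center_iff.mp hzZ g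
  have h81 : 3 ^ 2 ≤ Nat.card A := by rw [hAcard]; norm_num
  have key : ∀ X : Subgroup P, Cfsg.IsElementaryAbelian 3 X → 3 ^ 2 ≤ Nat.card X →
      Relation.ReflTransGen (fun A B : Subgroup P => Cfsg.IsElementaryAbelian 3 A ∧
        3 ^ 2 ≤ Nat.card ↥A ∧ Cfsg.IsElementaryAbelian 3 B ∧ 3 ^ 2 ≤ Nat.card ↥B ∧
        ∀ a ∈ A, ∀ b ∈ B, a * b = b * a) X A := by
    intro X hX hXc
    have hXcomm : ∀ a ∈ X, ∀ b ∈ X, a * b = b * a := fun a ha b hb =>
      congrArg Subtype.val (hX.1.is_comm.comm ⟨a, ha⟩ ⟨b, hb⟩)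
    by_cases hXA : X ≤ A
    · exact Relation.ReflTransGen.single ⟨hX, hXc, hAe, h81,
        fun a ha b hb => hAcomm a (hXA ha) b hb⟩
    · obtain ⟨x, hxX, hxA⟩ := SetLike.not_le_iff_exists.mp hXA
      have hx3 : x ^ 3 = 1 := hX.2 x hxX
      have hx1 : x ≠ 1 := fun h => hxA (by rw [h]; exact one_mem A)
      -- the subgroup F₂ = ⟨x, z⟩
      set F₂ : Subgroup P := pairSub x z hzZ with hF₂
      have hF₂e : Cfsg.IsElementaryAbelian 3 F₂ := by
        refine ⟨⟨⟨?_⟩⟩, ?_⟩
        · rintro ⟨_, i, j, rfl⟩ ⟨_, k, l, rfl⟩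
          apply Subtype.ext
          show x ^ i * z ^ j * (x ^ k * z ^ l) = x ^ k * z ^ l * (x ^ i * z ^ j)
          have hc1 : z ^ j * x ^ k = x ^ k * z ^ j :=
            ((Commute.zpow_left (Subgroup.mem_center_iff.mp hzZ (x ^ k)).symm j)).eq
          have hc2 : z ^ l * x ^ i = x ^ i * z ^ l :=
            ((Commute.zpow_left (Subgroup.mem_center_iff.mp hzZ (x ^ i)).symm l)).eq
          calc x ^ i * z ^ j * (x ^ k * z ^ l) = x ^ i * (z ^ j * x ^ k) * z ^ l := by group
            _ = x ^ i * (x ^ k * z ^ j) * z ^ l := by rw [hc1]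
            _ = x ^ (i + k) * z ^ (j + l) := by rw [zpow_add, zpow_add]; group
            _ = x ^ (k + i) * z ^ (l + j) := by rw [add_comm i k, add_comm j l]
            _ = x ^ k * (x ^ i * z ^ l) * z ^ j := by rw [zpow_add, zpow_add]; group
            _ = x ^ k * (z ^ l * x ^ i) * z ^ j := by rw [hc2]
            _ = x ^ k * z ^ l * (x ^ i * z ^ j) := by group
        · rintro _ ⟨i, j, rfl⟩
          have hc : Commute (x ^ i) (z ^ j) :=
            (Commute.zpow_left (Subgroup.mem_center_iff.mp hzZ (x ^ i)).symm j).symm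
          have hz3 : z ^ 3 = 1 := hAe.2 z hzA
          rw [hc.mul_pow, ← zpow_natCast, ← zpow_mul, mul_comm i, zpow_mul, zpow_natCast, hx3,
            one_zpow, one_mul, ← zpow_natCast, ← zpow_mul, mul_comm j, zpow_mul, zpow_natCast,
            hz3, one_zpow]
      have hxF₂ : x ∈ F₂ := ⟨1, 0, by simp⟩
      have hzF₂ : z ∈ F₂ := ⟨0, 1, by simp⟩
      have hF₂c : 3 ^ 2 ≤ Nat.card F₂ := by
        have hlt : zpowers x < F₂ := by
          refine lt_of_le_of_ne ((zpowers_le).mpr hxF₂) ?_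
          intro h
          have hz' : z ∈ zpowers x := by rw [h]; exact hzF₂
          -- then x ∈ zpowers z ≤ A
          have hxo : orderOf x = 3 := orderOf_eq_prime hx3 hx1
          have hcard : Nat.card (zpowers x) = 3 := by rw [Nat.card_zpowers, hxo]
          have hzz : zpowers z = zpowers x := by
            apply Subgroup.eq_of_le_of_card_ge ((zpowers_le).mpr hz')
            have hzo : orderOf z = 3 := orderOf_eq_prime (hAe.2 z hzA) hz1
            rw [hcard, Nat.card_zpowers, hzo]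
          apply hxA
          have : x ∈ zpowers z := by rw [hzz]; exact mem_zpowers x
          exact (zpowers_le.mpr hzA) this
        obtain ⟨m, hm⟩ := IsPGroup.iff_card.mp (hP.to_subgroup F₂)
        have hxo : orderOf x = 3 := orderOf_eq_prime hx3 hx1
        have hcard : Nat.card (zpowers x) = 3 := by rw [Nat.card_zpowers, hxo]
        have h3lt : 3 < Nat.card F₂ := by
          rw [← hcard]
          by_contra hcon
          rw [not_lt] at hcon
          exact hlt.ne (Subgroup.eq_of_le_of_card_ge hlt.le hcon)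
        rw [hm] at h3lt ⊢
        have hm2 : 2 ≤ m := by
          by_contra h
          have h' : m ≤ 1 := by omega
          have := Nat.pow_le_pow_right (show 0 < 3 by norm_num) h'
          omega
        exact Nat.pow_le_pow_right (by norm_num) hm2
      -- the subgroup F₃ = C_A(x)
      set F₃ : Subgroup P := A ⊓ centralizer {x} with hF₃
      have hF₃e : Cfsg.IsElementaryAbelian 3 F₃ := by
        refine ⟨⟨⟨?_⟩⟩, ?_⟩
        · rintro ⟨a, ha⟩ ⟨b, hb⟩
          apply Subtype.ext
          exact hAcomm a (Subgroup.mem_inf.mp ha).1 b (Subgroup.mem_inf.mp hb).1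
        · intro a ha
          exact hAe.2 a (Subgroup.mem_inf.mp ha).1
      have hF₃c : 3 ^ 2 ≤ Nat.card F₃ := by
        have hcube := card_le_cube_card_centralizer A hAe.2 x hx3
        rw [hAcard] at hcube
        obtain ⟨m, hm⟩ := IsPGroup.iff_card.mp (hP.to_subgroup F₃)
        rw [hm] at hcube ⊢
        have hm2 : 2 ≤ m := by
          by_contra h
          have h' : m ≤ 1 := by omega
          have h1 := Nat.pow_le_pow_right (show 0 < 3 by norm_num) h'
          have h2 : (3 ^ m) ^ 3 ≤ (3 ^ 1) ^ 3 := Nat.pow_le_pow_left h1 3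
          omega
        exact Nat.pow_le_pow_right (by norm_num) hm2
      -- the three steps
      have s1 : ∀ a ∈ X, ∀ b ∈ F₂, a * b = b * a := by
        rintro a ha _ ⟨i, j, rfl⟩
        have h1 : Commute a (x ^ i) := Commute.zpow_right (hXcomm a ha x hxX) i
        have h2 : Commute a (z ^ j) := Commute.zpow_right (hzc a) j
        exact (h1.mul_right h2).eq
      have s2 : ∀ a ∈ F₂, ∀ b ∈ F₃, a * b = b * a := by
        rintro _ ⟨i, j, rfl⟩ b hb
        obtain ⟨hbA, hbx⟩ := Subgroup.mem_inf.mp hb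
        have h0 : x * b = b * x := mem_centralizer_iff.mp hbx x rfl
        have h1 : Commute b (x ^ i) := Commute.zpow_right h0.symm i
        have h2 : Commute b (z ^ j) := Commute.zpow_right (hzc b) j
        exact (h1.mul_right h2).eq.symm
      have s3 : ∀ a ∈ F₃, ∀ b ∈ A, a * b = b * a := fun a ha b hb =>
        hAcomm a (Subgroup.mem_inf.mp ha).1 b hb
      exact Relation.ReflTransGen.head ⟨hX, hXc, hF₂e, hF₂c, s1⟩
        (Relation.ReflTransGen.head ⟨hF₂e, hF₂c, hF₃e, hF₃c, s2⟩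
          (Relation.ReflTransGen.single ⟨hF₃e, hF₃c, hAe, h81, s3⟩))
  intro E E' hE hEc hE' hE'c
  have hsymm : ∀ U V : Subgroup P, Relation.ReflTransGen (fun A B : Subgroup P =>
        Cfsg.IsElementaryAbelian 3 A ∧
        3 ^ 2 ≤ Nat.card ↥A ∧ Cfsg.IsElementaryAbelian 3 B ∧ 3 ^ 2 ≤ Nat.card ↥B ∧
        ∀ a ∈ A, ∀ b ∈ B, a * b = b * a) U V → Relation.ReflTransGen (fun A B : Subgroup P =>
        Cfsg.IsElementaryAbelian 3 A ∧
        3 ^ 2 ≤ Nat.card ↥A ∧ Cfsg.IsElementaryAbelian 3 B ∧ 3 ^ 2 ≤ Nat.card ↥B ∧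
        ∀ a ∈ A, ∀ b ∈ B, a * b = b * a) V U := by
    intro U V h
    induction h with
    | refl => exact Relation.ReflTransGen.refl
    | tail _ hbc ih =>
      exact Relation.ReflTransGen.head ⟨hbc.2.2.1, hbc.2.2.2.1, hbc.1, hbc.2.1,
        fun b hb a ha => (hbc.2.2.2.2 a ha b hb).symm⟩ ih
  exact (key E hE hEc).trans (hsymm _ _ (key E' hE' hE'c))

end Main

/-- A finite 3-group of 3-rank at least 4 is 2-connected for the prime 3: its commuting graph on elementary abelian subgroups of order ≥ 9 is connected. -/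
theorem result {P : Type*} [Group P] [Finite P] (hP : IsPGroup 3 P) (hrk : ¬ Cfsg.PRankLE 3 3 P) : Cfsg.IsKConnected 3 2 P := by
  exact main hP hrk

end Cfsg.Agent.S1338
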