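import Mathlib
import Cfsg.Statements.S1339
import Cfsg.Agent.Lib.Helper7.SLTransv

set_option autoImplicit false
open Cfsg

namespace Cfsg.Agent.S1339

open Cfsg.Agent.Helper7 in
/-- Let F be a field with 2 elements, n ≥ 3, and t ∈ SL(n, F) a transvection (t = 1 + E_{ij}, i ≠ j). Then the generalized Fitting subgroup of C(t) is O_2(C(t)). -/
theorem result {F : Type*} [Field F] [Fintype F] [DecidableEq F] (hF : Fintype.card F = 2) (n : ℕ) (hn : 3 ≤ n) (i j : Fin n) (hij : i ≠ j) (t : Matrix.SpecialLinearGroup (Fin n) F) (ht : (t : Matrix (Fin n) (Fin n) F) = Matrix.transvection i j 1) : Cfsg.generalizedFittingSubgroup ↥(Subgroup.centralizer ({t} : Set (Matrix.SpecialLinearGroup (Fin n) F))) = Cfsg.pCore 2 ↥(Subgroup.centralizer ({t} : Set (Matrix.SpecialLinearGroup (Fin n) F))) := by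
  haveI : Fact (Nat.Prime 2) := ⟨Nat.prime_two⟩
  have hmemC : ∀ g : Matrix.SpecialLinearGroup (Fin n) F,
      g ∈ Subgroup.centralizer ({t} : Set (Matrix.SpecialLinearGroup (Fin n) F)) ↔
        Commute (Matrix.single i j (1 : F)) (g : Matrix (Fin n) (Fin n) F) := by
    intro g
    rw [Subgroup.mem_centralizer_singleton_iff]
    constructor
    · intro h
      have h1 := congrArg (fun x : Matrix.SpecialLinearGroup (Fin n) F =>
        (x : Matrix (Fin n) (Fin n) F)) h
      simp only [Matrix.SpecialLinearGroup.coe_mul] at h1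
      rw [ht, Matrix.transvection, mul_add, add_mul, mul_one, one_mul] at h1
      exact (add_left_cancel h1).symm
    · intro h
      apply Subtype.ext
      rw [Matrix.SpecialLinearGroup.coe_mul, Matrix.SpecialLinearGroup.coe_mul, ht,
        Matrix.transvection, mul_add, add_mul, mul_one, one_mul]
      rw [h.eq]
  have hrowC : rowGroup i ≤ Subgroup.centralizer ({t} : Set (Matrix.SpecialLinearGroup (Fin n) F)) := by
    intro g hg
    rw [hmemC]
    exact commute_single_of_mem_rowGroup hF hij hg
  apply generalizedFittingSubgroup_eq_pCore_of_normal_pSubgroup 2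
    ((rowGroup i).subgroupOf (Subgroup.centralizer ({t} : Set (Matrix.SpecialLinearGroup (Fin n) F))))
  · constructor
    intro q hq c
    rw [Subgroup.mem_subgroupOf] at hq ⊢
    have hc := (hmemC (c : Matrix.SpecialLinearGroup (Fin n) F)).mp c.2
    have := conj_mem_rowGroup i (c := (c : Matrix.SpecialLinearGroup (Fin n) F))
      (fun k hk => Matrix.col_eq_zero_of_commute_single hc hk) hq
    simpa using this
  · intro q
    refine ⟨1, ?_⟩
    have hq : ((q : ↥(Subgroup.centralizer ({t} : Set (Matrix.SpecialLinearGroup (Fin n) F)))) :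
        Matrix.SpecialLinearGroup (Fin n) F) ∈ rowGroup i := Subgroup.mem_subgroupOf.mp q.2
    have h2 := mul_self_of_mem_rowGroup hF i hq
    apply Subtype.ext
    apply Subtype.ext
    rw [pow_one, pow_two]
    simpa using h2
  · intro c hc
    rw [Subgroup.mem_subgroupOf]
    apply mem_rowGroup_of_commute hF hij
    intro l hil
    have hT : (transvSL i l hil : Matrix.SpecialLinearGroup (Fin n) F) ∈ rowGroup i :=
      transvSL_mem_rowGroup i l hil
    have hTC := hrowC hT
    have h1 := hc ⟨transvSL i l hil, hTC⟩ (by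
      show _ ∈ (rowGroup i).subgroupOf _
      rw [Subgroup.mem_subgroupOf]; exact hT)
    have h2 := congrArg Subtype.val h1
    simpa using h2.symm

end Cfsg.Agent.S1339
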