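import Mathlib
import Cfsg.Statements.S1340
import Cfsg.Agent.Lib.Helper7.BlkC

set_option autoImplicit false
open Cfsg

namespace Cfsg.Agent.S1340

open Cfsg.Agent.Helper7 in
/-- Let F be a finite field of odd order and n ≥ 3 with (n, |F|) ≠ (3, 3). Then GL(n, F) has a non-central involution t such that C(t) / O(C(t)) has a component. -/
theorem result {F : Type*} [Field F] [Fintype F] [DecidableEq F] (hF : Odd (Fintype.card F)) (n : ℕ) (hn : 3 ≤ n) (h33 : ¬ (n = 3 ∧ Fintype.card F = 3)) : ∃ t : Matrix.GeneralLinearGroup (Fin n) F, orderOf t = 2 ∧ t ∉ Subgroup.center (Matrix.GeneralLinearGroup (Fin n) F) ∧ Cfsg.HasComponent (↥(Subgroup.centralizer ({t} : Set (Matrix.GeneralLinearGroup (Fin n) F))) ⧸ Cfsg.oddCore ↥(Subgroup.centralizer ({t} : Set (Matrix.GeneralLinearGroup (Fin n) F)))) := by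
  have h2 : (2 : F) ≠ 0 := by
    intro h
    have hchar : ringChar F = 2 :=
      CharP.ringChar_of_prime_eq_zero Nat.prime_two (by exact_mod_cast h)
    have := FiniteField.even_card_of_char_two hchar
    rw [Nat.odd_iff] at hF
    omega
  have hk : (⟨1, by omega⟩ : Fin n) ≠ (⟨0, by omega⟩ : Fin n) := by
    intro h
    have := congrArg Fin.val h
    simp at this
  have hcard : Fintype.card {k : Fin n // k ≠ (⟨0, by omega⟩ : Fin n)} = n - 1 := by
    rw [Fintype.card_subtype_compl, Fintype.card_subtype_eq, Fintype.card_fin]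
  refine ⟨tGL (⟨0, by omega⟩ : Fin n), orderOf_tGL _ h2 hk, tGL_not_mem_center _ h2 hk,
    hasComponent_centralizer_tGL _ h2 ?_⟩
  rw [hcard]
  by_cases h4 : 4 ≤ n
  · left; omega
  · right
    have hn3 : n = 3 := by omega
    refine ⟨by omega, ?_⟩
    rw [Nat.card_eq_fintype_card]
    have h1 : 1 < Fintype.card F := Fintype.one_lt_card
    have h3 : Fintype.card F ≠ 3 := fun h => h33 ⟨hn3, h⟩
    rw [Nat.odd_iff] at hF
    omega

end Cfsg.Agent.S1340
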