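import Mathlib
import Cfsg.Statements.S1348
import Cfsg.Agent.Lib.Helper7.BlkE

set_option autoImplicit false
open Cfsg

namespace Cfsg.Agent.S1348

open Cfsg.Agent.Helper7 in
/-- Let F be a finite field of odd order, n ≥ 7 odd, and t ∈ SL(n, F) the diagonal matrix with entries −1, …, −1, 1. Then E(C(t)) is a standard subgroup of SL(n, F). -/
theorem result {F : Type*} [Field F] [Fintype F] [DecidableEq F] (hF : Odd (Fintype.card F)) (n : ℕ) (hn : 7 ≤ n) (hodd : Odd n) (t : Matrix.SpecialLinearGroup (Fin n) F) (ht : (t : Matrix (Fin n) (Fin n) F) = Matrix.diagonal (fun i : Fin n => if (i : ℕ) + 1 = n then (1 : F) else -1)) : Cfsg.IsStandardSubgroup ((Cfsg.layer ↥(Subgroup.centralizer ({t} : Set (Matrix.SpecialLinearGroup (Fin n) F)))).map (Subgroup.centralizer ({t} : Set (Matrix.SpecialLinearGroup (Fin n) F))).subtype) := by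
  have h2 : (2 : F) ≠ 0 := by
    intro h
    have hchar : ringChar F = 2 :=
      CharP.ringChar_of_prime_eq_zero Nat.prime_two (by exact_mod_cast h)
    have := FiniteField.even_card_of_char_two hchar
    rw [Nat.odd_iff] at hF
    omega
  have ht' : (t : Matrix (Fin n) (Fin n) F) = tdiag (⟨n - 1, by omega⟩ : Fin n) := by
    rw [ht, tdiag]
    congr 1
    ext i
    have : ((i : ℕ) + 1 = n) ↔ i = (⟨n - 1, by omega⟩ : Fin n) := by
      rw [Fin.ext_iff]
      constructor <;> intro h <;> simp only at h ⊢ <;> omega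
    simp only [this]
  have hcard : Fintype.card {k : Fin n // k ≠ (⟨n - 1, by omega⟩ : Fin n)} = n - 1 := by
    rw [Fintype.card_subtype_compl, Fintype.card_subtype_eq, Fintype.card_fin]
  have h3 : 3 ≤ Fintype.card {k : Fin n // k ≠ (⟨n - 1, by omega⟩ : Fin n)} := by
    rw [hcard]; omega
  have heven : Even (Fintype.card {k : Fin n // k ≠ (⟨n - 1, by omega⟩ : Fin n)}) := by
    rw [hcard]
    obtain ⟨m, hm⟩ := hodd
    exact ⟨m, by omega⟩
  rw [layer_centralizer_eq_range_embSL _ h2 t ht' (Or.inl h3)]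
  exact range_embSL_isStandardSubgroup _ h2 h3 heven t ht'

end Cfsg.Agent.S1348
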