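import Mathlib
import Cfsg.Statements.S1349
import Cfsg.Agent.Lib.Helper7.Dihedral7

set_option autoImplicit false
open Cfsg

namespace Cfsg.Agent.S1349



/-- Let G be finite, L ≤ G solvable of odd order, and A an elementary abelian 2-subgroup of order 2^d (d ≥ 1) normalizing L with C_A(L) = 1. Then there are subgroups A_1, …, A_d of A of order 2 generating A and subgroups L_1, …, L_d of L such that each A_i ⊔ L_i is dihedral of order 2 n_i with n_i odd and at least 3, and A_i ⊔ L_i commutes elementwise with A_j ⊔ L_j for i ≠ j. -/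
theorem result {G : Type*} [Group G] [Finite G] (L A : Subgroup G) (hLs : Group.IsSolvable ↥L) (hLodd : Odd (Nat.card ↥L)) (hA : Cfsg.IsElementaryAbelian 2 A) (d : ℕ) (hd : 1 ≤ d) (hAd : Nat.card ↥A = 2 ^ d) (hAL : A ≤ Subgroup.normalizer (L : Set G)) (hfaith : A ⊓ Subgroup.centralizer (L : Set G) = ⊥) : ∃ (Ai : Fin d → Subgroup G) (Li : Fin d → Subgroup G) (n : Fin d → ℕ), (∀ i, Ai i ≤ A ∧ Nat.card ↥(Ai i) = 2 ∧ Li i ≤ L ∧ Odd (n i) ∧ 3 ≤ n i ∧ Nonempty (↥(Ai i ⊔ Li i) ≃* DihedralGroup (n i))) ∧ (⨆ i, Ai i) = A ∧ ∀ i j, i ≠ j → ∀ x ∈ Ai i ⊔ Li i, ∀ y ∈ Ai j ⊔ Li j, x * y = y * x := by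
  classical
  obtain ⟨hAcomm, hApow⟩ := hA
  have hAc : ∀ a ∈ A, ∀ b ∈ A, a * b = b * a := by
    intro a ha b hb
    have := hAcomm.is_comm.comm (⟨a, ha⟩ : ↥A) ⟨b, hb⟩
    exact congrArg Subtype.val this
  have hA2 : ∀ a ∈ A, a * a = 1 := by
    intro a ha
    rw [← pow_two]
    exact hApow a ha
  have hA2g : IsPGroup 2 ↥A := IsPGroup.of_card hAd
  obtain ⟨M, hML, hMc, hAM, hMfaith⟩ :=
    Cfsg.Agent.Helper7.exists_abelian_faithful L A hLs hLodd hAc hA2 hA2g hAL hfaith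
  have hodd : ∀ y ∈ M, y * y = 1 → y = 1 := by
    intro y hy hyy
    have h1 : orderOf y ∣ 2 := orderOf_dvd_of_pow_eq_one (by rw [pow_two]; exact hyy)
    have h2 : orderOf y ∣ Nat.card ↥L := Subgroup.orderOf_dvd_natCard L (hML hy)
    have h3 : Odd (orderOf y) := Odd.of_dvd_nat hLodd h2
    have h4 : orderOf y = 1 := by
      rcases (Nat.dvd_prime Nat.prime_two).mp h1 with h | h
      · exact h
      · rw [h] at h3
        exact absurd h3 (by decide)
    exact orderOf_eq_one_iff.mp h4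
  obtain ⟨a, x, h1, h2, h3⟩ := Cfsg.Agent.Helper7.exists_dihedral_data A M hAc hA2
    (fun a ha y hy => Cfsg.Agent.Helper7.conj_mem_of_mem_normalizer (hAM ha) hy)
    hMc hodd hMfaith d hAd
  exact Cfsg.Agent.Helper7.thompson_dihedral_of_data L A hLodd d a x hA2 hAc
    (fun i => ⟨(h1 i).1, (h1 i).2.1, hML (h1 i).2.2.1, (h1 i).2.2.2.1, (h1 i).2.2.2.2⟩)
    (fun i j => hMc _ (h1 i).2.2.1 _ (h1 j).2.2.1) h2 h3

end Cfsg.Agent.S1349
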