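import Mathlib
import Cfsg.Statements.S1351
import Cfsg.Agent.S1350
import Cfsg.Agent.S1377
import Cfsg.Agent.S1378
import Cfsg.Agent.S1429
import Cfsg.Agent.S1430
import Cfsg.Agent.S1431
import Cfsg.Agent.S1432
import Cfsg.Agent.S1433
import Cfsg.Agent.Lib.Helper4.BG1351C

set_option autoImplicit false
open Cfsg

namespace Cfsg.Agent.S1351

/-- Let G be a minimal simple group of odd order and M a maximal subgroup. Then M possesses a Hall κ(M)-subgroup, and every Hall κ(M)-subgroup of M is cyclic. -/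
theorem result {G : Type*} [Group G] [Finite G] (hG : Cfsg.IsMinSimpleOddOrder G)
    (M : Subgroup G) (hM : IsCoatom M) :
    (∃ K : Subgroup G, Cfsg.IsPiHallOf (Cfsg.kappa M) K M) ∧
      ∀ K : Subgroup G, Cfsg.IsPiHallOf (Cfsg.kappa M) K M → IsCyclic K := by
  refine ⟨?_, fun K hK => Cfsg.Agent.Helper4.BG1351.hall_kappa_cyclic hG
    (fun M hM K hK hK1 => Cfsg.Agent.S1430.result hG M hM K hK hK1)
    (fun M hM K hK hK1 => Cfsg.Agent.S1431.result hG M hM K hK hK1)
    (fun M hM x hx hx1 x' hx' hx'1 hσ => Cfsg.Agent.S1432.result hG M hM x hx hx1 x' hx' hx'1 hσ)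
    (Cfsg.Agent.S1378.result hG).2
    (fun M hM => (Cfsg.Agent.S1350.result hG M hM).1)
    (fun M hM => Cfsg.Agent.S1377.result hG M hM)
    (fun M N hM hN x y hx hy hx1 hy1 hxy => Cfsg.Agent.S1433.result hG M N hM hN x y hx hy hx1 hy1 hxy)
    (fun M hM hP1 p _ hpM hp S => Cfsg.Agent.S1429.result hG M hM hP1 p hpM hp S)
    M hM K hK⟩
  have hsolv : Group.IsSolvable ↥M := Cfsg.Agent.Helper14.BGTrans.isSolvable_of_ne_top hG hM.1
  obtain ⟨K, -, hK⟩ := Cfsg.Agent.Helper4.BGSig.exists_isPiHallOf_ge hsolv (Cfsg.kappa M)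
    (bot_le : (⊥ : Subgroup G) ≤ M) (by
      intro p hp hpd
      rw [Subgroup.card_bot] at hpd
      exact absurd (Nat.dvd_one.mp hpd) hp.one_lt.ne')
  exact ⟨K, hK⟩

end Cfsg.Agent.S1351
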