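import Mathlib
import Cfsg.Statements.S1354
import Cfsg.Agent.S1405
import Cfsg.Agent.S1430
import Cfsg.Agent.S1451
import Cfsg.Agent.Lib.Helper7.BG16a

set_option autoImplicit false
open Cfsg

namespace Cfsg.Agent.S1354

/-- Let G be a minimal simple group of odd order, M a maximal subgroup and K a cyclic Hall κ(M)-subgroup of M, and put K* = M_σ ∩ C_G(K). Then K* ≠ 1, and if K ≠ 1 then for every non-identity k ∈ K the centralizer C_M(k) is the subgroup generated by K and K* (an internal direct product, as K ∩ M_σ = 1 and K* centralizes K). -/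
theorem result {G : Type*} [Group G] [Finite G] (hG : Cfsg.IsMinSimpleOddOrder G)
    (M : Subgroup G) (hM : IsCoatom M) (K : Subgroup G)
    (hKc : IsCyclic K) (hK : Cfsg.IsPiHallOf (Cfsg.kappa M) K M) :
    Cfsg.sigmaCore M ⊓ Subgroup.centralizer (K : Set G) ≠ ⊥ ∧
      (K ≠ ⊥ → ∀ k ∈ K, k ≠ 1 →
        M ⊓ Subgroup.centralizer ({k} : Set G) = K ⊔ (Cfsg.sigmaCore M ⊓ Subgroup.centralizer (K : Set G))) := by
  by_cases hK1 : K = ⊥
  · refine ⟨?_, fun h => absurd hK1 h⟩
    have h05 := Cfsg.Agent.S1405.result hG M hM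
    haveI : Group.IsSolvable ↥M := hG.2.2.2 M hM.1
    have hoddM : Odd (Nat.card ↥M) :=
      Odd.of_dvd_nat hG.1 (Subgroup.card_subgroup_dvd_card M)
    have hne := Cfsg.Agent.Helper7.BG16.sigmaCore_ne_bot hG M hM h05.1 h05.2.2.1
      (fun hr => (Cfsg.Agent.S1451.result (G := ↥M) hoddM (Or.inl hr)).2.2)
    have hc : Subgroup.centralizer ((K : Subgroup G) : Set G) = ⊤ := by
      rw [hK1, Subgroup.centralizer_eq_top_iff_subset]
      intro x hx
      have hx1 : x = 1 := by simpa using hx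
      rw [hx1]
      exact Subgroup.one_mem _
    rw [hc, inf_top_eq]
    exact hne
  · have h30 := Cfsg.Agent.S1430.result hG M hM K hK hK1
    refine ⟨Cfsg.Agent.Helper7.BG16.s1354_ne_bot_of_ne_bot hK hK1 h30.1, fun _ => ?_⟩
    exact Cfsg.Agent.Helper7.BG16.s1354_centralizer hKc hK.1
      (fun X hXK hXp => (h30.2.2 X hXK hXp).1)

end Cfsg.Agent.S1354
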