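import Mathlib
import Cfsg.Statements.S1366
import Cfsg.Agent.S1430
import Cfsg.Agent.S1431
import Cfsg.Agent.S1432
import Cfsg.Agent.S1378
import Cfsg.Agent.S1350
import Cfsg.Agent.S1377
import Cfsg.Agent.S1433
import Cfsg.Agent.Lib.Helper14.BG1366P3
import Cfsg.Agent.Lib.Helper21.BG147aC

set_option autoImplicit false
open Cfsg

namespace Cfsg.Agent.S1366

/-- Let G be a minimal simple group of odd order, M a maximal subgroup with standard factorisation M = K U M_σ, K ≠ 1, and K* = M_σ ∩ C_G(K). Then there is exactly one maximal subgroup M* of G such that K = M*_σ ∩ C_G(K*) and K* is a Hall κ(M*)-subgroup of M* (in particular κ(M*) is nonempty). -/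
theorem result {G : Type*} [Group G] [Finite G] (hG : Cfsg.IsMinSimpleOddOrder G)
    (M : Subgroup G) (hM : IsCoatom M) (K U : Subgroup G) (hKU : Cfsg.IsSigmaDecomposition M K U) (hK1 : K ≠ ⊥) :
    ∃! Mstar : Subgroup G, IsCoatom Mstar ∧ K = Cfsg.sigmaCore Mstar ⊓ Subgroup.centralizer ((Cfsg.sigmaCore M ⊓ Subgroup.centralizer (K : Set G)) : Set G) ∧
        Cfsg.IsPiHallOf (Cfsg.kappa Mstar) (Cfsg.sigmaCore M ⊓ Subgroup.centralizer (K : Set G)) Mstar :=
  Cfsg.Agent.Helper21.BG147a.main66 hG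
    (fun M hM K hK hK1 => Cfsg.Agent.S1430.result hG M hM K hK hK1)
    (fun M hM K hK hK1 => Cfsg.Agent.S1431.result hG M hM K hK hK1)
    (fun M hM x hx hx1 x' hx' hx'1 hσ => Cfsg.Agent.S1432.result hG M hM x hx hx1 x' hx' hx'1 hσ)
    (Cfsg.Agent.S1378.result hG).2
    (fun M hM => (Cfsg.Agent.S1350.result hG M hM).1)
    (fun S B Z => Cfsg.Agent.Helper14.BG1369.polygon_count' hG
      (fun M hM K hK hK1 => Cfsg.Agent.S1430.result hG M hM K hK hK1)
      (fun M hM K hK hK1 => Cfsg.Agent.S1431.result hG M hM K hK hK1)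
      (Cfsg.Agent.S1378.result hG).2
      (fun M hM => Cfsg.Agent.S1377.result hG M hM)
      (fun M N hM hN x y hx hy hx1 hy1 hxy => Cfsg.Agent.S1433.result hG M N hM hN x y hx hy hx1 hy1 hxy)
      S B Z)
    M hM K U hKU hK1

end Cfsg.Agent.S1366
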