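import Mathlib
import Cfsg.Agent.Lib.Helper17.BG1221F
import Cfsg.Agent.Lib.Helper22.BG1221C
import Cfsg.Agent.S1403
import Cfsg.Agent.S1405
import Cfsg.Agent.S1412
import Cfsg.Agent.S1416
import Cfsg.Agent.S1350
import Cfsg.Agent.S1408
import Cfsg.Agent.S1409
import Cfsg.Agent.S1414
import Cfsg.Agent.S1415
import Cfsg.Agent.S1417
import Cfsg.Agent.S1418
import Cfsg.Agent.S1423
import Cfsg.Statements.S1421
-- import your own Cfsg.Agent.* helpers here

set_option autoImplicit false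
open Cfsg

namespace Cfsg.Agent.S1421

/-- Let G be a minimal simple group of odd order, M a maximal subgroup and E a complement to M_σ in M. Suppose that every non-identity element e of E all of whose order's prime divisors lie in τ₁(M) ∪ τ₃(M) has M_σ ∩ C_G(e) = 1. Then E has an abelian normal subgroup A₀ with E ∩ C_G(x) ≤ A₀ for every non-identity x ∈ M_σ, and E has a subgroup E₀ of the same exponent as E such that no non-identity element of E₀ centralizes a non-identity element of M_σ. -/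
theorem result {G : Type*} [Group G] [Finite G] (hG : Cfsg.IsMinSimpleOddOrder G)
    (M : Subgroup G) (hM : IsCoatom M) (E : Subgroup G) (hE : Cfsg.IsComplIn E (Cfsg.sigmaCore M) M)
    (h : ∀ e ∈ E, e ≠ 1 → (∀ p : ℕ, p.Prime → p ∣ orderOf e → p ∈ Cfsg.tau1 M ∪ Cfsg.tau3 M) →
      Cfsg.sigmaCore M ⊓ Subgroup.centralizer ({e} : Set G) = ⊥) :
    (∃ A₀ : Subgroup G, A₀ ≤ E ∧ E ≤ Subgroup.normalizer (A₀ : Set G) ∧ IsMulCommutative A₀ ∧
        ∀ x ∈ Cfsg.sigmaCore M, x ≠ 1 → E ⊓ Subgroup.centralizer ({x} : Set G) ≤ A₀) ∧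
      ∃ E₀ : Subgroup G, E₀ ≤ E ∧ Monoid.exponent E₀ = Monoid.exponent E ∧
        ∀ e ∈ E₀, e ≠ 1 → Cfsg.sigmaCore M ⊓ Subgroup.centralizer ({e} : Set G) = ⊥ := by
  classical
  have hyps : Cfsg.Agent.Lead.BG129.Hyps G :=
    { hG := hG
      hασ := fun M hM => Cfsg.Agent.Helper23.BG10.alpha_subset_sigma hG
        (Cfsg.Agent.Helper17.BG11.uniqThm hG) hM
      h1350 := fun M hM => Cfsg.Agent.S1350.result hG M hM
      h1408 := fun M hM p _ hp hr2 hr1 => Cfsg.Agent.S1408.result hG M hM p hp hr2 hr1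
      h1414 := fun M hM => Cfsg.Agent.S1414.result hG M hM
      h1415 := fun M hM E hE => Cfsg.Agent.S1415.result hG M hM E hE
      h1417 := fun M hM p _ hp A hA => Cfsg.Agent.S1417.result hG M hM p hp A hA
      h1418 := fun M hM E hE p _ hp A hA => Cfsg.Agent.S1418.result hG M hM E hE p hp A hA }
  have h1409 : Cfsg.Agent.Helper16.BG1221.Hyp1409 G :=
    fun M hM p _ hp X hX hN => Cfsg.Agent.S1409.result hG M hM p hp X hX hN
  have h1423 : Cfsg.Agent.Helper5.BG1222.H1423 G :=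
    fun M hM p _ hp X hXM hX hXc =>
      (Cfsg.Agent.S1423.result hG M hM p hp X hXM hX (Classical.arbitrary _) (Or.inr hXc)).1
  by_cases hA : ∃ p, p ∈ Cfsg.tau2 M ∧ ∀ S : Sylow p G, ¬ IsMulCommutative (S : Subgroup G)
  · obtain ⟨p, hp, hS⟩ := hA
    haveI : Fact p.Prime := ⟨hp.1⟩
    exact Cfsg.Agent.Helper22.BG1221.caseA hG
      (fun K hK h2 h3 => Cfsg.Agent.S1403.result hG K hK h2 h3)
      (fun M hM => Cfsg.Agent.S1350.result hG M hM)
      (fun M hM => Cfsg.Agent.S1405.result hG M hM)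
      (fun M hM p _ hp hr2 hr1 => Cfsg.Agent.S1408.result hG M hM p hp hr2 hr1)
      (fun p _ P hr => Cfsg.Agent.S1412.result hG p P hr)
      (fun M hM => Cfsg.Agent.S1414.result hG M hM)
      (fun M hM p _ A hA => Cfsg.Agent.S1416.result hG M hM p A hA)
      (fun M hM p _ hp A hA => Cfsg.Agent.S1417.result hG M hM p hp A hA)
      (fun M hM E hE p _ hp A hA => Cfsg.Agent.S1418.result hG M hM E hE p hp A hA)
      hM hE h hp hS
  · push Not at hA
    apply Cfsg.Agent.Helper17.BG1221.caseB hyps h1409 h1423 hM hE h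
    intro q hq _
    obtain ⟨P, hP⟩ := hA q hq
    refine ⟨P, fun a ha b hb => ?_⟩
    have := hP.is_comm.comm ⟨a, ha⟩ ⟨b, hb⟩
    exact congrArg Subtype.val this

end Cfsg.Agent.S1421
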