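import Mathlib
import Cfsg.Statements.S1438
import Cfsg.Agent.S1350
import Cfsg.Agent.S1355
import Cfsg.Agent.S1374
import Cfsg.Agent.S1417
import Cfsg.Agent.S1421
import Cfsg.Agent.S1430
import Cfsg.Agent.S1431
import Cfsg.Agent.S1432
import Cfsg.Agent.Lib.Helper1.BG151C
import Cfsg.Agent.Lib.Helper1.BG151B

set_option autoImplicit false
open Cfsg

namespace Cfsg.Agent.S1438

/-- Let G be a minimal simple group of odd order, M a maximal subgroup and H a nontrivial subgroup of M_σ whose order is coprime to its index in M_σ. Then M ∩ C_G(H) is generated by M_σ ∩ C_G(H) together with a cyclic subgroup X all of whose prime divisors lie in τ₂(M); and if x ∈ H and gxg⁻¹ ∈ H then nxn⁻¹ = gxg⁻¹ for some n ∈ M ∩ N_G(H). -/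
theorem result {G : Type*} [Group G] [Finite G] (hG : Cfsg.IsMinSimpleOddOrder G)
    (M : Subgroup G) (hM : IsCoatom M) (H : Subgroup G) (hH : H ≤ Cfsg.sigmaCore M) (hH1 : H ≠ ⊥)
    (hHall : (Nat.card H).Coprime (H.relIndex (Cfsg.sigmaCore M))) :
    (∃ X : Subgroup G, IsCyclic X ∧ (∀ p : ℕ, p.Prime → p ∣ Nat.card X → p ∈ Cfsg.tau2 M) ∧
        M ⊓ Subgroup.centralizer (H : Set G) = (Cfsg.sigmaCore M ⊓ Subgroup.centralizer (H : Set G)) ⊔ X) ∧
      ∀ x ∈ H, ∀ g : G, g * x * g⁻¹ ∈ H → ∃ n ∈ M ⊓ Subgroup.normalizer (H : Set G), n * x * n⁻¹ = g * x * g⁻¹ := by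
  have h1350 := (Cfsg.Agent.S1350.result hG M hM).1
  have h1355 := Cfsg.Agent.S1355.result hG M hM
  refine ⟨?_, ?_⟩
  · refine Cfsg.Agent.Helper1.BG151.centralizer_structure hG hM h1350 ?_ ?_ ?_ ?_ ?_ hH hH1 hHall
    · intro x hx hx1 x' hx' hx'1 hσ
      rcases Cfsg.Agent.S1432.result hG M hM x hx hx1 x' hx' hx'1 hσ with h | h
      · exact Or.inl h.1
      · exact Or.inr h.1
    · intro K hK hK1
      obtain ⟨h1, ⟨U, hUc, hU, -, -⟩, -⟩ := Cfsg.Agent.S1430.result hG M hM K hK hK1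
      exact ⟨h1, U, hUc, hU⟩
    · intro K hK hK1 p hp hpd S
      exact ((Cfsg.Agent.S1431.result hG M hM K hK hK1).2.2.1 p hp hpd S).2.2
    · intro p _ hp A hAM hAe hAc
      exact (Cfsg.Agent.S1417.result hG M hM p hp A ⟨hAM, hAe, hAc⟩).2.2.2.1
    · intro E hE h
      obtain ⟨⟨A₀, -, -, hA₀c, hA₀⟩, -⟩ := Cfsg.Agent.S1421.result hG M hM E hE h
      exact ⟨A₀, hA₀c, hA₀⟩
  · refine Cfsg.Agent.Helper1.BG151.conj_control' hG hM h1350 h1355.2.1 h1355.2.2.1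
      h1355.2.2.2.2 ?_ hH hHall
    intro x hx hx1
    obtain ⟨-, R, -, hRc, hR⟩ := Cfsg.Agent.S1374.result hG M hM x hx hx1
    exact ⟨R, hRc.2.1, fun g hg => (hR g hg).exists⟩

end Cfsg.Agent.S1438
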