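import Mathlib
import Cfsg.Statements.S1356
import Cfsg.Agent.S1350
import Cfsg.Agent.S1351
import Cfsg.Agent.S1352
import Cfsg.Agent.S1353
import Cfsg.Agent.S1354
import Cfsg.Agent.S1355
import Cfsg.Agent.S1366
import Cfsg.Agent.S1369
import Cfsg.Agent.S1404
import Cfsg.Agent.S1420
import Cfsg.Agent.S1426
import Cfsg.Agent.S1429
import Cfsg.Agent.S1430
import Cfsg.Agent.S1438
import Cfsg.Agent.Lib.Helper19.BG16G

set_option autoImplicit false
open Cfsg

namespace Cfsg.Agent.S1356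

/-- Let G be a minimal simple group of odd order and M a maximal subgroup. Then the second derived subgroup M'' lies in the Fitting subgroup F(M), F(M) is generated by M_F together with C_M(M_F), and if κ(M) is nonempty then F(M) ≤ M'. -/
theorem result {G : Type*} [Group G] [Finite G] (hG : Cfsg.IsMinSimpleOddOrder G)
    (M : Subgroup G) (hM : IsCoatom M) :
    ⁅⁅M, M⁆, ⁅M, M⁆⁆ ≤ Cfsg.fittingOf M ∧
      Cfsg.fittingOf M = (M ⊓ Subgroup.centralizer (Cfsg.fittingHallOf M : Set G)) ⊔ Cfsg.fittingHallOf M ∧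
      ((Cfsg.kappa M).Nonempty → Cfsg.fittingOf M ≤ ⁅M, M⁆) := by
  exact Cfsg.Agent.Helper19.BG16.theorem_B_b hG
    (fun M hM => Cfsg.Agent.S1350.result hG M hM)
    (fun M hM => Cfsg.Agent.S1351.result hG M hM)
    (fun M hM K hKc hK => Cfsg.Agent.S1352.result hG M hM K hKc hK)
    (fun M hM K U hKU => Cfsg.Agent.S1353.result hG M hM K U hKU)
    (fun M hM K hKc hK => Cfsg.Agent.S1354.result hG M hM K hKc hK)
    (fun M hM K U hKU hK1 => Cfsg.Agent.S1366.result hG M hM K U hKU hK1)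
    (fun M hM K U hKU hK1 Ms hMs h1 h2 => Cfsg.Agent.S1369.result hG M hM K U hKU hK1 Ms hMs h1 h2)
    (fun M hM p _ hp X hXp hX1 hXM => Cfsg.Agent.S1404.result hG M hM p hp X hXp hX1 hXM)
    (fun M hM E hE => Cfsg.Agent.S1426.result hG M hM E hE)
    (fun M hM hP1 p _ hpM hp S => Cfsg.Agent.S1429.result hG M hM hP1 p hpM hp S)
    (fun M hM K hK hK1 => Cfsg.Agent.S1430.result hG M hM K hK hK1)
    (fun M hM => Cfsg.Agent.S1355.result hG M hM)
    (fun M hM E hE => Cfsg.Agent.S1420.result hG M hM E hE)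
    (fun M hM H hH hH1 hHall => Cfsg.Agent.S1438.result hG M hM H hH hH1 hHall)
    M hM

end Cfsg.Agent.S1356
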