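import Mathlib
import Cfsg.Statements.S1357
import Cfsg.Agent.Lib.Helper1.BG157A
import Cfsg.Agent.S1350
import Cfsg.Agent.S1374
import Cfsg.Agent.S1375
import Cfsg.Agent.S1417
import Cfsg.Agent.S1426
import Cfsg.Agent.S1437

set_option autoImplicit false
open Cfsg

namespace Cfsg.Agent.S1357

/-- Let G be a minimal simple group of odd order and M a maximal subgroup with standard factorisation M = K U M_σ. If M_F ≠ M_σ then U = 1, the Fitting subgroup F(M) meets its conjugates by elements outside its normalizer trivially, and K has prime order. -/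
theorem result {G : Type*} [Group G] [Finite G] (hG : Cfsg.IsMinSimpleOddOrder G)
    (M : Subgroup G) (hM : IsCoatom M) (K U : Subgroup G) (hKU : Cfsg.IsSigmaDecomposition M K U) (hne : Cfsg.fittingHallOf M ≠ Cfsg.sigmaCore M) :
    U = ⊥ ∧ Cfsg.IsTISubset (Cfsg.fittingOf M : Set G) ∧ (Nat.card K).Prime := by
  obtain ⟨hU, -, hKp, -, -, hqβ, Q, hQF, hMQ, hQq, hQi, -⟩ :=
    Cfsg.Agent.S1437.result hG M hM K U hKU hne
  refine ⟨hU, ?_, hKp⟩
  have h50 : ∀ L : Subgroup G, IsCoatom L → IsPiHallOf (sigma L) (sigmaCore L) L :=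
    fun L hL => (Cfsg.Agent.S1350.result hG L hL).1
  have h17d : ∀ (p : ℕ) [Fact p.Prime], p ∈ tau2 M → ∀ A : Subgroup G, A ≤ M →
      IsElementaryAbelian p A → Nat.card ↥A = p ^ 2 →
      sigmaCore M ⊓ Subgroup.centralizer (A : Set G) = ⊥ :=
    fun p _ hp A hAM hAe hAc =>
      (Cfsg.Agent.S1417.result hG M hM p hp A ⟨hAM, hAe, hAc⟩).2.2.2.1
  obtain ⟨E, hE⟩ := Cfsg.Agent.Lead.BGThmC.exists_compl_sigmaCore M (h50 M hM)
  have h26 : ∀ g : G, g ∉ M → ∀ p : ℕ, p.Prime →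
      p ∣ Nat.card ↥(sigmaCore M ⊓ M.map (MulAut.conj g).toMonoidHom) → p ∉ beta M :=
    fun g hg p hp hd => ((Cfsg.Agent.S1426.result hG M hM E hE).2.2 g hg).2.1 p hp hd
  have h74 : ∀ y : G, y ∈ sigmaCore M → y ≠ 1 → ∃ R : Subgroup G,
      IsComplIn (M ⊓ Subgroup.centralizer ({y} : Set G)) R
        (Subgroup.centralizer ({y} : Set G)) ∧
      ∀ g : G, y ∈ M.map (MulAut.conj g).toMonoidHom →
        ∃! r : G, r ∈ R ∧
          M.map (MulAut.conj r).toMonoidHom = M.map (MulAut.conj g).toMonoidHom := by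
    intro y hy hy1
    obtain ⟨-, R, -, hR, hu⟩ := Cfsg.Agent.S1374.result hG M hM y hy hy1
    exact ⟨R, hR, hu⟩
  have h75 : ∀ y : G, y ∈ sigmaCore M → y ≠ 1 → ¬ Subgroup.centralizer ({y} : Set G) ≤ M →
      ∃ N : Subgroup G, IsCoatom N ∧ Subgroup.centralizer ({y} : Set G) ≤ N ∧
        IsComplIn (M ⊓ N) (sigmaCore N) N := by
    intro y hy hy1 hC
    obtain ⟨N, ⟨hN, hCN⟩, -, -, -, -, hcompl, -⟩ :=
      Cfsg.Agent.S1375.result hG M hM y hy hy1 hC
    exact ⟨N, hN, hCN, hcompl⟩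
  intro g hg x hx hgx
  by_contra hx1
  obtain ⟨p, y, N, hp, -, hpβ, -, hyF, hyo, hN, hCN, hCM, -⟩ :=
    Cfsg.Agent.Helper1.BG157.exists_data hG hM (h50 M hM) h17d h26 h74 h75 hg hx hx1 hgx
  have hQM : Q ≤ M := hQF.trans (Subgroup.map_subtype_le _)
  exact Cfsg.Agent.Helper1.BG157.false_of_normal_beta hG hM (h50 M hM) hqβ hQM hMQ hQq hQi hp
    hpβ hyF hyo hN hCN hCM

end Cfsg.Agent.S1357
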