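import Mathlib
import Cfsg.Statements.S1363
import Cfsg.Agent.S1350
import Cfsg.Agent.S1430
import Cfsg.Agent.S1366
import Cfsg.Agent.S1435
import Cfsg.Agent.Lib.Lead.BGThmC2
-- import your own Cfsg.Agent.* helpers here

set_option autoImplicit false
open Cfsg

namespace Cfsg.Agent.S1363

/-- Let G be a minimal simple group of odd order and M a maximal subgroup with standard factorisation M = K U M_σ and K ≠ 1. Then U is abelian and the normalizer of U in G is not contained in M. -/
theorem result {G : Type*} [Group G] [Finite G] (hG : Cfsg.IsMinSimpleOddOrder G)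
    (M : Subgroup G) (hM : IsCoatom M) (K U : Subgroup G) (hKU : Cfsg.IsSigmaDecomposition M K U) (hK1 : K ≠ ⊥) :
    IsMulCommutative U ∧ ¬ Subgroup.normalizer (U : Set G) ≤ M := by
  have h50 := Cfsg.Agent.S1350.result hG M hM
  have h30 := Cfsg.Agent.S1430.result hG M hM K hKU.hall hK1
  obtain ⟨U₀, hU₀c, hU₀, -, -⟩ := h30.2.1
  refine ⟨Cfsg.Agent.Lead.BGThmC2.U_abelian hG M K U hM hKU h50.1 U₀ hU₀c hU₀, ?_⟩
  apply Cfsg.Agent.Lead.BGThmC2.normalizer_U_not_le hG M K U hM hKU
  · obtain ⟨Mstar, h, -⟩ := Cfsg.Agent.S1366.result hG M hM K U hKU hK1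
    exact ⟨Mstar, h⟩
  · intro hU1 Mstar hMs hKst hKstH r _ hr R H hH hNR
    exact (Cfsg.Agent.S1435.result hG M hM K U hKU hK1 hU1 Mstar hMs hKst hKstH r hr R H hH hNR).2.2.2.1

end Cfsg.Agent.S1363
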