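import Mathlib
import Cfsg.Statements.S1372
import Cfsg.Agent.Lib.Helper1.BG157A
import Cfsg.Agent.Lib.Helper19.BGKPrime
import Cfsg.Agent.S1350
import Cfsg.Agent.S1353
import Cfsg.Agent.S1374
import Cfsg.Agent.S1375
import Cfsg.Agent.S1417
import Cfsg.Agent.S1426
import Cfsg.Agent.S1429
import Cfsg.Agent.S1430

set_option autoImplicit false
open Cfsg

namespace Cfsg.Agent.S1372

/-- Let G be a minimal simple group of odd order and M a maximal subgroup with standard factorisation M = K U M_σ, K ≠ 1 and U ≠ 1. Then K has prime order, and the Fitting subgroup F(M) contains M_σ and is a TI-subset of G. -/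
theorem result {G : Type*} [Group G] [Finite G] (hG : Cfsg.IsMinSimpleOddOrder G)
    (M : Subgroup G) (hM : IsCoatom M) (K U : Subgroup G) (hKU : Cfsg.IsSigmaDecomposition M K U) (hK1 : K ≠ ⊥) (hU1 : U ≠ ⊥) :
    (Nat.card K).Prime ∧ Cfsg.IsTISubset (Cfsg.fittingOf M : Set G) ∧ Cfsg.sigmaCore M ≤ Cfsg.fittingOf M := by
  have h50 : ∀ L : Subgroup G, IsCoatom L → IsPiHallOf (sigma L) (sigmaCore L) L :=
    fun L hL => (Cfsg.Agent.S1350.result hG L hL).1
  have h53 := Cfsg.Agent.S1353.result hG M hM K U hKU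
  have h30 := (Cfsg.Agent.S1430.result hG M hM K hKU.hall hK1).1
  have h29 : ¬ (∀ q : ℕ, q.Prime → q ∣ Nat.card ↥M → q ∉ sigma M → q ∈ kappa M) →
      ∀ (r : ℕ) [Fact r.Prime], r ∣ Nat.card ↥M → r ∉ sigma M ∪ kappa M → ∀ S : Sylow r ↥M,
        sigmaCore M ⊓ Subgroup.centralizer ((Subgroup.closure
          {x : G | x ∈ (S : Subgroup ↥M).map M.subtype ∧ x ^ r = 1} : Subgroup G) : Set G) = ⊥ ∧
        Group.IsNilpotent ↥(sigmaCore M) :=
    fun hP1 r _ hrM hr S => (Cfsg.Agent.S1429.result hG M hM hP1 r hrM hr S).2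
  have hnil : Group.IsNilpotent ↥(sigmaCore M) :=
    Cfsg.Agent.Helper1.BG157.isNilpotent_sigmaCore (h50 M hM) hKU hU1 h29
  refine ⟨?_, ?_, ?_⟩
  · exact Cfsg.Agent.Helper19.BGKPrime.card_K_prime_of_U_ne_bot hG hM (h50 M hM) hKU hK1 hU1
      h30 h53
  · have h17d : ∀ (p : ℕ) [Fact p.Prime], p ∈ tau2 M → ∀ A : Subgroup G, A ≤ M →
        IsElementaryAbelian p A → Nat.card ↥A = p ^ 2 →
        sigmaCore M ⊓ Subgroup.centralizer (A : Set G) = ⊥ :=
      fun p _ hp A hAM hAe hAc =>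
        (Cfsg.Agent.S1417.result hG M hM p hp A ⟨hAM, hAe, hAc⟩).2.2.2.1
    obtain ⟨E, hE⟩ := Cfsg.Agent.Lead.BGThmC.exists_compl_sigmaCore M (h50 M hM)
    have h26 : ∀ g : G, g ∉ M → ∀ p : ℕ, p.Prime →
        p ∣ Nat.card ↥(sigmaCore M ⊓ M.map (MulAut.conj g).toMonoidHom) → p ∉ beta M :=
      fun g hg p hp hd => ((Cfsg.Agent.S1426.result hG M hM E hE).2.2 g hg).2.1 p hp hd
    have h74 : ∀ y : G, y ∈ sigmaCore M → y ≠ 1 → ∃ R : Subgroup G,
        IsComplIn (M ⊓ Subgroup.centralizer ({y} : Set G)) R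
          (Subgroup.centralizer ({y} : Set G)) ∧
        ∀ g : G, y ∈ M.map (MulAut.conj g).toMonoidHom →
          ∃! r : G, r ∈ R ∧
            M.map (MulAut.conj r).toMonoidHom = M.map (MulAut.conj g).toMonoidHom := by
      intro y hy hy1
      obtain ⟨-, R, -, hR, hu⟩ := Cfsg.Agent.S1374.result hG M hM y hy hy1
      exact ⟨R, hR, hu⟩
    have h75 : ∀ y : G, y ∈ sigmaCore M → y ≠ 1 → ¬ Subgroup.centralizer ({y} : Set G) ≤ M →
        ∃ N : Subgroup G, IsCoatom N ∧ Subgroup.centralizer ({y} : Set G) ≤ N ∧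
          IsComplIn (M ⊓ N) (sigmaCore N) N := by
      intro y hy hy1 hC
      obtain ⟨N, ⟨hN, hCN⟩, -, -, -, -, hcompl, -⟩ :=
        Cfsg.Agent.S1375.result hG M hM y hy hy1 hC
      exact ⟨N, hN, hCN, hcompl⟩
    intro g hg x hx hgx
    by_contra hx1
    obtain ⟨p, y, N, hp, hpσ, hpβ, hyσ, -, hyo, hN, hCN, -, hcompl⟩ :=
      Cfsg.Agent.Helper1.BG157.exists_data hG hM (h50 M hM) h17d h26 h74 h75 hg hx hx1 hgx
    exact Cfsg.Agent.Helper1.BG157.false_of_typeP2 hG hM (h50 M hM) hKU hK1 hU1 h53 h29 hp hpσ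
      hpβ hyσ hyo hN (h50 N hN) hCN hcompl
  · exact Cfsg.Agent.Helper1.BG152.le_fittingOf
      (Cfsg.Agent.Helper14.BGTrans.piCoreOf_le (sigma M) M)
      (Cfsg.Agent.Helper14.BGTrans.le_normalizer_piCoreOf (sigma M) M) hnil

end Cfsg.Agent.S1372
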