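import Mathlib
import Cfsg.Statements.S1376
import Cfsg.Agent.Lib.Helper7.BG1412C
import Cfsg.Agent.S1350
import Cfsg.Agent.S1351
import Cfsg.Agent.S1352
import Cfsg.Agent.S1353
import Cfsg.Agent.S1364
import Cfsg.Agent.S1366
import Cfsg.Agent.S1375
import Cfsg.Agent.S1378
import Cfsg.Agent.S1403
import Cfsg.Agent.S1415
import Cfsg.Agent.S1416
import Cfsg.Agent.S1417
import Cfsg.Agent.S1418
import Cfsg.Agent.S1419
import Cfsg.Agent.S1420
import Cfsg.Agent.S1429
import Cfsg.Agent.S1430
import Cfsg.Agent.S1431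
import Cfsg.Agent.S1432

set_option autoImplicit false
open Cfsg

namespace Cfsg.Agent.S1376

/-- Let G be a minimal simple group of odd order, M a maximal subgroup, x ≠ 1 in M_σ with C_G(x) not contained in M, and N a maximal subgroup containing C_G(x) with κ(N) nonempty. Then κ(M) is empty, M has a cyclic Frobenius complement (M is a Frobenius group), and M_F is not a TI-subset of G. -/
theorem result {G : Type*} [Group G] [Finite G] (hG : Cfsg.IsMinSimpleOddOrder G)
    (M : Subgroup G) (hM : IsCoatom M) (x : G) (hx : x ∈ Cfsg.sigmaCore M) (hx1 : x ≠ 1) (hxM : ¬ Subgroup.centralizer ({x} : Set G) ≤ M)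
    (N : Subgroup G) (hN : IsCoatom N) (hxN : Subgroup.centralizer ({x} : Set G) ≤ N) (hkN : (Cfsg.kappa N).Nonempty) :
    Cfsg.kappa M = ∅ ∧ (∃ E : Subgroup ↥M, Cfsg.IsFrobeniusComplement E ∧ IsCyclic E) ∧ ¬ Cfsg.IsTISubset (Cfsg.fittingHallOf M : Set G) :=
  Cfsg.Agent.Helper7.BG1412.main
    { hG := hG
      h30 := fun M hM K hK hK1 => Cfsg.Agent.S1430.result hG M hM K hK hK1
      h31 := fun M hM K hK hK1 => Cfsg.Agent.S1431.result hG M hM K hK hK1
      h32 := fun M hM x hx hx1 x' hx' hx'1 hσ =>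
        Cfsg.Agent.S1432.result hG M hM x hx hx1 x' hx' hx'1 hσ
      h51 := fun M hM => (Cfsg.Agent.S1351.result hG M hM).2
      h78 := (Cfsg.Agent.S1378.result hG).2
      h50 := fun M hM => Cfsg.Agent.S1350.result hG M hM
      h17 := fun M hM p _ hp A hA => Cfsg.Agent.S1417.result hG M hM p hp A hA
      h18 := fun M hM E hE p _ hp A hA => Cfsg.Agent.S1418.result hG M hM E hE p hp A hA
      h29 := fun M hM hn p _ hp hpn S => Cfsg.Agent.S1429.result hG M hM hn p hp hpn S
      hUT := fun K hK hK2 hK3 => Cfsg.Agent.S1403.result hG K hK hK2 hK3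
      h15 := fun M hM E hE => Cfsg.Agent.S1415.result hG M hM E hE
      h20 := fun M hM E hE => Cfsg.Agent.S1420.result hG M hM E hE
      h75 := fun M hM x hx hx1 hxM => Cfsg.Agent.S1375.result hG M hM x hx hx1 hxM
      h52 := fun M hM K hKc hK => Cfsg.Agent.S1352.result hG M hM K hKc hK
      h64 := fun M hM K U hKU hK1 => Cfsg.Agent.S1364.result hG M hM K U hKU hK1
      h66 := fun M hM K U hKU hK1 => (Cfsg.Agent.S1366.result hG M hM K U hKU hK1).exists
      h53 := fun M hM K U hKU => Cfsg.Agent.S1353.result hG M hM K U hKU }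
    (fun M hM p _ A hA => Cfsg.Agent.S1416.result hG M hM p A hA)
    (fun M hM E hE p _ hp hS A hA => Cfsg.Agent.S1419.result hG M hM E hE p hp hS A hA)
    hM hx hx1 hxM hN hxN hkN

end Cfsg.Agent.S1376
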