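import Cfsg.Statements.S1381
import Cfsg.Agent.S1350
import Cfsg.Agent.S1354
import Cfsg.Agent.S1355
import Cfsg.Agent.S1356
import Cfsg.Agent.S1357
import Cfsg.Agent.S1360
import Cfsg.Agent.S1363
import Cfsg.Agent.S1364
import Cfsg.Agent.S1365
import Cfsg.Agent.S1366
import Cfsg.Agent.S1368
import Cfsg.Agent.S1370
import Cfsg.Agent.S1372
import Cfsg.Agent.Lib.Helper27.BGTyE

set_option autoImplicit false
open Cfsg

namespace Cfsg.Agent.S1381

/-- Let G be a minimal simple group of odd order and M a maximal subgroup with standard factorisation M = K U M_σ. Then M is of Type II if and only if K ≠ 1 and U ≠ 1. -/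
theorem result {G : Type*} [Group G] [Finite G] (hG : Cfsg.IsMinSimpleOddOrder G)
    (M : Subgroup G) (hM : IsCoatom M) (K U : Subgroup G) (hKU : Cfsg.IsSigmaDecomposition M K U) :
    Cfsg.IsOfTypeII M ↔ (K ≠ ⊥ ∧ U ≠ ⊥) := by
  constructor
  · intro h
    exact Cfsg.Agent.Helper27.BGTy.of_typeII (Cfsg.Agent.S1350.result hG) (Cfsg.Agent.S1355.result hG) (Cfsg.Agent.S1365.result hG) M hM K U hKU h
  · rintro ⟨hK1, hU1⟩
    exact Cfsg.Agent.Helper27.BGTy.typeII_of hG (Cfsg.Agent.S1350.result hG) (Cfsg.Agent.S1354.result hG) (Cfsg.Agent.S1355.result hG) (Cfsg.Agent.S1356.result hG) (Cfsg.Agent.S1357.result hG)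
      (Cfsg.Agent.S1360.result hG) (Cfsg.Agent.S1363.result hG) (Cfsg.Agent.S1364.result hG) (Cfsg.Agent.S1365.result hG) (Cfsg.Agent.S1366.result hG) (Cfsg.Agent.S1368.result hG) (Cfsg.Agent.S1370.result hG) (Cfsg.Agent.S1372.result hG)
      M hM K U hKU hK1 hU1

end Cfsg.Agent.S1381
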