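import Cfsg.Statements.S1383
import Cfsg.Agent.S1350
import Cfsg.Agent.S1354
import Cfsg.Agent.S1355
import Cfsg.Agent.S1356
import Cfsg.Agent.S1364
import Cfsg.Agent.S1365
import Cfsg.Agent.S1366
import Cfsg.Agent.S1368
import Cfsg.Agent.S1370
import Cfsg.Agent.S1373
import Cfsg.Agent.S1374
import Cfsg.Agent.S1375
import Cfsg.Agent.S1417
import Cfsg.Agent.S1418
import Cfsg.Agent.S1420
import Cfsg.Agent.S1426
import Cfsg.Agent.S1430
import Cfsg.Agent.Lib.Helper1.BG158C
import Cfsg.Agent.Lib.Helper27.BGTyN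

set_option autoImplicit false
open Cfsg

namespace Cfsg.Agent.S1383

/-- Let G be a minimal simple group of odd order and M a maximal subgroup with standard factorisation M = K U M_σ. Then M is of Type V if and only if K ≠ 1, U = 1 and M_F = M_σ. -/
theorem result {G : Type*} [Group G] [Finite G] (hG : Cfsg.IsMinSimpleOddOrder G)
    (M : Subgroup G) (hM : IsCoatom M) (K U : Subgroup G) (hKU : Cfsg.IsSigmaDecomposition M K U) :
    Cfsg.IsOfTypeV M ↔ (K ≠ ⊥ ∧ U = ⊥ ∧ Cfsg.fittingHallOf M = Cfsg.sigmaCore M) := by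
  constructor
  · intro h
    exact Cfsg.Agent.Helper27.BGTy.of_typeV (Cfsg.Agent.S1350.result hG)
      (Cfsg.Agent.S1355.result hG) (Cfsg.Agent.S1365.result hG) M hM K U hKU h
  · rintro ⟨hK1, hU, hFs⟩
    have h50 : ∀ L : Subgroup G, IsCoatom L → IsPiHallOf (sigma L) (sigmaCore L) L :=
      fun L hL => (Cfsg.Agent.S1350.result hG L hL).1
    obtain ⟨E, hE⟩ := Cfsg.Agent.Lead.BGThmC.exists_compl_sigmaCore M (h50 M hM)
    have h26 : ∀ g : G, g ∉ M → ∀ p : ℕ, p.Prime →
        p ∣ Nat.card ↥(sigmaCore M ⊓ M.map (MulAut.conj g).toMonoidHom) → p ∉ beta M :=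
      fun g hg p hp hd => ((Cfsg.Agent.S1426.result hG M hM E hE).2.2 g hg).2.1 p hp hd
    have h74 : ∀ y : G, y ∈ sigmaCore M → y ≠ 1 → ∃ R : Subgroup G,
        IsComplIn (M ⊓ Subgroup.centralizer ({y} : Set G)) R
          (Subgroup.centralizer ({y} : Set G)) ∧
        ∀ g : G, y ∈ M.map (MulAut.conj g).toMonoidHom →
          ∃! r : G, r ∈ R ∧
            M.map (MulAut.conj r).toMonoidHom = M.map (MulAut.conj g).toMonoidHom := by
      intro y hy hy1
      obtain ⟨-, R, -, hR, hu⟩ := Cfsg.Agent.S1374.result hG M hM y hy hy1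
      exact ⟨R, hR, hu⟩
    have h75 : ∀ y : G, y ∈ sigmaCore M → y ≠ 1 → ¬ Subgroup.centralizer ({y} : Set G) ≤ M →
        ∃ N : Subgroup G, IsCoatom N ∧ Subgroup.centralizer ({y} : Set G) ≤ N ∧
          IsComplIn (M ⊓ N) (sigmaCore N) N := by
      intro y hy hy1 hC
      obtain ⟨N, ⟨hN, hCN⟩, -, -, -, -, hcompl, -⟩ :=
        Cfsg.Agent.S1375.result hG M hM y hy hy1 hC
      exact ⟨N, hN, hCN, hcompl⟩
    refine Cfsg.Agent.Helper27.BGTy.typeV_of hG (Cfsg.Agent.S1350.result hG)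
      (Cfsg.Agent.S1354.result hG) (Cfsg.Agent.S1355.result hG) (Cfsg.Agent.S1356.result hG)
      (Cfsg.Agent.S1364.result hG) (Cfsg.Agent.S1365.result hG) (Cfsg.Agent.S1366.result hG)
      (Cfsg.Agent.S1368.result hG) (Cfsg.Agent.S1370.result hG) M hM K U hKU hK1 hU hFs ?_
    intro g hg hne
    exact Cfsg.Agent.Helper1.BG158.trichotomy hG
      (fun M hM => Cfsg.Agent.S1350.result hG M hM)
      (fun M hM p _ hp A hA => Cfsg.Agent.S1417.result hG M hM p hp A hA)
      (fun M hM E hE p _ hp A hA => Cfsg.Agent.S1418.result hG M hM E hE p hp A hA)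
      (fun L hL E hE => (Cfsg.Agent.S1420.result hG L hL E hE).1)
      hM hKU hK1 hU hFs h26 h74 h75
      (Cfsg.Agent.S1365.result hG M hM K U hKU hK1)
      (Cfsg.Agent.S1373.result hG M hM K U hKU hK1 hU)
      (Cfsg.Agent.S1430.result hG M hM K hKU.hall hK1).1
      hg hne

end Cfsg.Agent.S1383
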