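import Mathlib
import Cfsg.Statements.S1436
import Cfsg.Agent.S1350
import Cfsg.Agent.S1351
import Cfsg.Agent.S1352
import Cfsg.Agent.S1354
import Cfsg.Agent.S1366
import Cfsg.Agent.S1367
import Cfsg.Agent.S1374
import Cfsg.Agent.S1375
import Cfsg.Agent.S1376
import Cfsg.Agent.S1378
import Cfsg.Agent.S1403
import Cfsg.Agent.S1408
import Cfsg.Agent.S1414
import Cfsg.Agent.S1417
import Cfsg.Agent.S1418
import Cfsg.Agent.S1432
import Cfsg.Agent.S1434
import Cfsg.Agent.S1435
import Cfsg.Agent.Lib.Helper11.BG1413F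

set_option autoImplicit false
open Cfsg

namespace Cfsg.Agent.S1436

/-- Let G be a minimal simple group of odd order, M a maximal subgroup, x ≠ 1 in M_σ with C_G(x) ⊄ M, and N a maximal subgroup containing C_G(x). (a) If some prime of σ(N) divides the order of M, then κ(M) = ∅ and τ₂(M) = ∅. (b) If y ≠ 1 in M_σ has C_G(y) ⊄ M, N' is a maximal subgroup containing C_G(y), and gN'g⁻¹ = N for some g ∈ G, then mN'm⁻¹ = N for some m ∈ M. -/
theorem result {G : Type*} [Group G] [Finite G] (hG : Cfsg.IsMinSimpleOddOrder G)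
    (M : Subgroup G) (hM : IsCoatom M) (x : G) (hx : x ∈ Cfsg.sigmaCore M) (hx1 : x ≠ 1) (hxM : ¬ Subgroup.centralizer ({x} : Set G) ≤ M)
    (N : Subgroup G) (hN : IsCoatom N) (hxN : Subgroup.centralizer ({x} : Set G) ≤ N) :
    ((∃ p ∈ Cfsg.sigma N, p ∣ Nat.card M) → Cfsg.kappa M = ∅ ∧ Cfsg.tau2 M = ∅) ∧
      ∀ (y : G) (N' : Subgroup G) (g : G), y ∈ Cfsg.sigmaCore M → y ≠ 1 → ¬ Subgroup.centralizer ({y} : Set G) ≤ M → IsCoatom N' → Subgroup.centralizer ({y} : Set G) ≤ N' →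
        N'.map (MulAut.conj g).toMonoidHom = N → ∃ m ∈ M, N'.map (MulAut.conj m).toMonoidHom = N := by
  exact Cfsg.Agent.Helper11.BG1413.main
    { hG := hG
      hU := fun K hK hK2 hK3 => Cfsg.Agent.S1403.result hG K hK hK2 hK3
      h50 := fun M hM => Cfsg.Agent.S1350.result hG M hM
      h51 := fun M hM => Cfsg.Agent.S1351.result hG M hM
      h52 := fun M hM K hKc hK => Cfsg.Agent.S1352.result hG M hM K hKc hK
      h54 := fun M hM K hKc hK => Cfsg.Agent.S1354.result hG M hM K hKc hK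
      h66 := fun M hM K U hKU hK1 => Cfsg.Agent.S1366.result hG M hM K U hKU hK1
      h67 := fun M hM K U hKU hK1 Ms hMs hKst hKstH =>
        Cfsg.Agent.S1367.result hG M hM K U hKU hK1 Ms hMs hKst hKstH
      h74 := fun M hM x hx hx1 => Cfsg.Agent.S1374.result hG M hM x hx hx1
      h75 := fun M hM x hx hx1 hxM => Cfsg.Agent.S1375.result hG M hM x hx hx1 hxM
      h76 := fun M hM x hx hx1 hxM N hN hxN hkN =>
        Cfsg.Agent.S1376.result hG M hM x hx hx1 hxM N hN hxN hkN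
      h78 := Cfsg.Agent.S1378.result hG
      h08 := fun M hM p _ hp hr2 hr1 => Cfsg.Agent.S1408.result hG M hM p hp hr2 hr1
      h14 := fun M hM => Cfsg.Agent.S1414.result hG M hM
      h17 := fun M hM p _ hp A hA => Cfsg.Agent.S1417.result hG M hM p hp A hA
      h18 := fun M hM E hE p _ hp A hA => Cfsg.Agent.S1418.result hG M hM E hE p hp A hA
      h32 := fun M hM x hx hx1 x' hx' hx'1 hσ => Cfsg.Agent.S1432.result hG M hM x hx hx1 x' hx' hx'1 hσ
      h34 := fun M hM K U hKU hK1 Ms hMs hKst hKstH =>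
        Cfsg.Agent.S1434.result hG M hM K U hKU hK1 Ms hMs hKst hKstH
      h35 := fun M hM K U hKU hK1 hU1 Ms hMs hKst hKstH r _ hr R H hH hNR =>
        Cfsg.Agent.S1435.result hG M hM K U hKU hK1 hU1 Ms hMs hKst hKstH r hr R H hH hNR }
    M hM x hx hx1 hxM N hN hxN

end Cfsg.Agent.S1436
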