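import Mathlib
import Cfsg.Statements.S1441
import Cfsg.Agent.Lib.Helper7.Coprime

set_option autoImplicit false
open Cfsg
open scoped commutatorElement

namespace Cfsg.Agent.S1441



/-- Let G be a finite group, H a solvable subgroup and A a subgroup normalizing H. Suppose there is a chain H = H₀ ≥ H₁ ≥ ⋯ ≥ H_n = 1 of subgroups normal in H and normalized by A such that A acts trivially on each factor H_{i-1}/H_i (that is, [H_{i-1}, A] ≤ H_i). Then every prime dividing the index of C_A(H) in A divides the order of H. -/
theorem result {G : Type*} [Group G] [Finite G] (H A : Subgroup G) (hH : Group.IsSolvable H) (hA : (A ≤ Subgroup.normalizer (H : Set G)))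
    (n : ℕ) (c : Fin (n + 1) → Subgroup G) (hc0 : c 0 = H) (hcn : c (Fin.last n) = ⊥) (hanti : Antitone c)
    (hcN : ∀ i, H ≤ Subgroup.normalizer ((c i : Subgroup G) : Set G)) (hcA : ∀ i, A ≤ Subgroup.normalizer ((c i : Subgroup G) : Set G))
    (htriv : ∀ i : Fin n, ⁅c i.castSucc, A⁆ ≤ c i.succ) :
    ∀ p : ℕ, p.Prime → p ∣ (A ⊓ Subgroup.centralizer (H : Set G)).relIndex A → p ∣ Nat.card H := by
  intro p hp hdvd
  by_contra hnd
  haveI : Fact p.Prime := ⟨hp⟩
  have hpc : p.Coprime (Nat.card H) := (Nat.Prime.coprime_iff_not_dvd hp).mpr hnd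
  have key : ∀ a ∈ A, (orderOf a).Coprime (Nat.card H) →
      a ∈ Subgroup.centralizer (H : Set G) := by
    intro a ha hcop
    have claim : ∀ i : Fin (n + 1), ∀ x ∈ c i, a * x * a⁻¹ = x := by
      intro i
      induction i using Fin.reverseInduction with
      | last =>
        intro x hx
        rw [hcn, Subgroup.mem_bot] at hx
        subst hx
        simp
      | cast i ih =>
        intro x hx
        have hz : x⁻¹ * (a * x * a⁻¹) ∈ c i.succ := by
          apply htriv i
          have : x⁻¹ * (a * x * a⁻¹) = ⁅x⁻¹, a⁆ := by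
            simp only [commutatorElement_def]; group
          rw [this]
          exact Subgroup.commutator_mem_commutator ((c i.castSucc).inv_mem hx) ha
        have hzH : x⁻¹ * (a * x * a⁻¹) ∈ H := by
          rw [← hc0]; exact hanti (Fin.zero_le _) hz
        apply Cfsg.Agent.Helper7.conj_eq_self_of_coprime a x (isOfFinOrder_of_finite a) (ih _ hz)
        exact Nat.Coprime.coprime_dvd_right (Subgroup.orderOf_dvd_natCard H hzH) hcop
    rw [Subgroup.mem_centralizer_iff]
    intro h hh
    have := claim 0 h (by rw [hc0]; exact hh)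
    calc h * a = (a * h * a⁻¹) * a := by rw [this]
      _ = a * h := by group
  obtain P : Sylow p A := default
  have hPle : (P : Subgroup A) ≤ (A ⊓ Subgroup.centralizer (H : Set G)).subgroupOf A := by
    intro a ha
    rw [Subgroup.mem_subgroupOf]
    refine ⟨a.2, key a a.2 ?_⟩
    have h1 : (orderOf (⟨a, ha⟩ : (P : Subgroup A))).Coprime (Nat.card H) :=
      P.2.orderOf_coprime hpc _
    rw [← Subgroup.orderOf_coe, ← Subgroup.orderOf_coe] at h1
    exact h1
  have h2 : ((A ⊓ Subgroup.centralizer (H : Set G)).subgroupOf A).index ∣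
      (P : Subgroup A).index := Subgroup.index_dvd_of_le hPle
  exact P.not_dvd_index (hdvd.trans h2)

end Cfsg.Agent.S1441
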