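import Mathlib
import Cfsg.Agent.Lib.Helper8.SecRep8
import Cfsg.Agent.Lib.Helper8.FrobKerNil
import Cfsg.Statements.S1446
-- import your own Cfsg.Agent.* helpers here

set_option autoImplicit false
open Cfsg

namespace Cfsg.Agent.S1446

/-- Let X be a finite group with subgroups K, R, M such that: K and R are nontrivial, K ∩ R = 1, R normalizes K, no non-identity element of R centralizes a non-identity element of K, K ⊔ R is solvable of odd order; M is nilpotent and nontrivial, normalized by K and by R, with order coprime to that of K ⊔ R, M ∩ C(K) = 1, and M ∩ C(x) = M ∩ C(R) for all non-identity x ∈ R. Then R has prime order p, #M = #(M ∩ C(R)) ^ p, and if M ∩ C(R) is cyclic then [K, K] centralizes M. -/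
theorem result {X : Type*} [Group X] [Finite X] (K R M : Subgroup X) (hK1 : K ≠ ⊥) (hR1 : R ≠ ⊥) (hKR : K ⊓ R = ⊥)
    (hRK : R ≤ Subgroup.normalizer (K : Set X)) (hfrob : ∀ r ∈ R, r ≠ 1 → K ⊓ Subgroup.centralizer ({r} : Set X) = ⊥)
    (hsolv : Group.IsSolvable ↥(K ⊔ R)) (hodd : Odd (Nat.card ↥(K ⊔ R)))
    (hM1 : M ≠ ⊥) (hMn : Group.IsNilpotent M) (hKM : K ≤ Subgroup.normalizer (M : Set X)) (hRM : R ≤ Subgroup.normalizer (M : Set X))
    (hcop : (Nat.card ↥(K ⊔ R)).Coprime (Nat.card M)) (hCK : M ⊓ Subgroup.centralizer (K : Set X) = ⊥)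
    (hpr : ∀ x ∈ R, x ≠ 1 → M ⊓ Subgroup.centralizer ({x} : Set X) = M ⊓ Subgroup.centralizer (R : Set X)) :
    (Nat.card R).Prime ∧ Nat.card M = Nat.card ↥(M ⊓ Subgroup.centralizer (R : Set X)) ^ Nat.card R ∧
      (IsCyclic ↥(M ⊓ Subgroup.centralizer (R : Set X)) → ⁅K, K⁆ ≤ Subgroup.centralizer (M : Set X)) := by
  classical
  have hUn : ∀ e ∈ R, ∀ u ∈ K, e * u * e⁻¹ ∈ K := fun e he u hu =>
    Cfsg.Agent.Helper8.SecRep.conj_mem_of_mem_normalizer (hRK he) hu
  have hfpf : ∀ e ∈ R, e ≠ 1 → ∀ u ∈ K, e * u = u * e → u = 1 := by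
    intro e he he1 u hu heu
    have h1 : u ∈ K ⊓ Subgroup.centralizer ({e} : Set X) := by
      refine Subgroup.mem_inf.mpr ⟨hu, ?_⟩
      rw [Subgroup.mem_centralizer_iff]
      intro y hy
      rw [Set.mem_singleton_iff] at hy
      rw [hy]; exact heu
    rw [hfrob e he he1, Subgroup.mem_bot] at h1
    exact h1
  have hnil : Group.IsNilpotent ↥K :=
    Cfsg.Agent.Helper8.SecRep.kernel_nilpotent K R hR1 hKR hUn hfpf
  have hsolvM : Group.IsSolvable ↥M := by
    haveI := hMn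
    infer_instance
  have hΓM : K ⊔ R ≤ Subgroup.normalizer (M : Set X) := sup_le hKM hRM
  have hbotK : Nat.card ↥(M ⊓ Subgroup.centralizer (K : Set X)) = 1 := by
    rw [hCK, Subgroup.card_bot]
  have hbotΓ : ∀ R' : Subgroup X,
      Nat.card ↥(M ⊓ Subgroup.centralizer ((K ⊔ R' : Subgroup X) : Set X)) = 1 := by
    intro R'
    have hle : M ⊓ Subgroup.centralizer ((K ⊔ R' : Subgroup X) : Set X) ≤
        M ⊓ Subgroup.centralizer (K : Set X) :=
      inf_le_inf_left _ (Subgroup.centralizer_le (by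
        intro x hx
        exact (le_sup_left : K ≤ K ⊔ R') hx))
    rw [hCK, le_bot_iff] at hle
    rw [hle, Subgroup.card_bot]
  -- the formula for `R`
  have hfw := Cfsg.Agent.Helper8.SecRep.fw_group K R hUn hfpf hnil _ M rfl hsolvM hΓM hcop.symm
  rw [hbotΓ R, hbotK, one_pow, one_mul, mul_one] at hfw
  -- an element of prime order
  have hRcard : Nat.card ↥R ≠ 1 := by
    intro h1
    exact hR1 (Subgroup.card_eq_one.mp h1)
  obtain ⟨p, hp, hpR⟩ := Nat.exists_prime_and_dvd hRcard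
  haveI : Fact p.Prime := ⟨hp⟩
  obtain ⟨x, hx⟩ := exists_prime_orderOf_dvd_card' (G := ↥R) p hpR
  have hx1 : (x : X) ≠ 1 := by
    intro h1
    have : x = 1 := Subtype.ext h1
    rw [this, orderOf_one] at hx
    exact hp.one_lt.ne hx
  set R₀ : Subgroup X := Subgroup.zpowers (x : X) with hR₀
  have hR₀R : R₀ ≤ R := by
    rw [hR₀, Subgroup.zpowers_le]
    exact x.2
  have hR₀card : Nat.card ↥R₀ = p := by
    rw [hR₀, Nat.card_zpowers, Subgroup.orderOf_coe, hx]
  have hcent : M ⊓ Subgroup.centralizer (R₀ : Set X) = M ⊓ Subgroup.centralizer (R : Set X) := by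
    rw [← hpr (x : X) x.2 hx1, hR₀, Subgroup.zpowers_eq_closure, Subgroup.centralizer_closure]
  have hΓ₀ : K ⊔ R₀ ≤ K ⊔ R := sup_le_sup_left hR₀R K
  have hfw₀ := Cfsg.Agent.Helper8.SecRep.fw_group K R₀ (fun e he => hUn e (hR₀R he))
    (fun e he => hfpf e (hR₀R he)) hnil _ M rfl hsolvM (hΓ₀.trans hΓM)
    (Nat.Coprime.coprime_dvd_right (Subgroup.card_dvd_of_le hΓ₀) hcop.symm)
  rw [hbotΓ R₀, hbotK, one_pow, one_mul, mul_one, hcent, hR₀card] at hfw₀
  have hMcard : 1 < Nat.card ↥M := by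
    rcases Nat.lt_or_ge 1 (Nat.card ↥M) with h | h
    · exact h
    · exfalso
      apply hM1
      apply Subgroup.card_eq_one.mp
      have := Nat.card_pos (α := ↥M)
      omega
  have hc2 : 2 ≤ Nat.card ↥(M ⊓ Subgroup.centralizer (R : Set X)) := by
    by_contra hcon
    have h1 : Nat.card ↥(M ⊓ Subgroup.centralizer (R : Set X)) = 1 := by
      have := Nat.card_pos (α := ↥(M ⊓ Subgroup.centralizer (R : Set X)))
      omega
    rw [h1, one_pow] at hfw
    omega
  have hRp : Nat.card ↥R = p := by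
    have h1 : Nat.card ↥(M ⊓ Subgroup.centralizer (R : Set X)) ^ Nat.card ↥R =
        Nat.card ↥(M ⊓ Subgroup.centralizer (R : Set X)) ^ p := by rw [← hfw, ← hfw₀]
    exact Nat.pow_right_injective hc2 h1
  refine ⟨by rw [hRp]; exact hp, hfw, ?_⟩
  intro hcyc
  rw [Subgroup.commutator_le]
  intro a ha b hb
  rw [commutatorElement_def, Subgroup.mem_centralizer_iff]
  intro m hm
  exact (Cfsg.Agent.Helper8.SecRep.comm_centralizes K R hUn hfpf hnil _ M rfl hsolvM hΓM
    hcop.symm hcyc a ha b hb m hm).symm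

end Cfsg.Agent.S1446
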