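import Mathlib
import Cfsg.Agent.Lib.Helper1.Coprime
import Cfsg.Agent.Lib.Helper1.CoprimeAbelian
import Cfsg.Agent.Lib.Helper1.CommutatorBasic
import Cfsg.Agent.Lib.Helper8.MetaAut
import Cfsg.Statements.S1447
-- import your own Cfsg.Agent.* helpers here

set_option autoImplicit false
open Cfsg

namespace Cfsg.Agent.S1447

/-- Let G be a finite group, p an odd prime, R a metacyclic p-subgroup and A a subgroup of order coprime to p normalizing R. Then [R, A] is abelian; R is generated by [R, A] and R ∩ C_G(A), which meet trivially; and if R is non-abelian and A does not centralize R, then [R, A] and R ∩ C_G(A) are nontrivial cyclic groups and [R, R] ≤ [R, A]. -/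
theorem result {G : Type*} [Group G] [Finite G] (p : ℕ) [Fact p.Prime] (hp : p ≠ 2) (R A : Subgroup G) (hR : IsPGroup p R) (hRm : Cfsg.IsMetacyclic R)
    (hA : (A ≤ Subgroup.normalizer (R : Set G))) (hcop : (Nat.card A).Coprime p) :
    IsMulCommutative ↥⁅R, A⁆ ∧ ⁅R, A⁆ ⊔ (R ⊓ Subgroup.centralizer (A : Set G)) = R ∧ ⁅R, A⁆ ⊓ (R ⊓ Subgroup.centralizer (A : Set G)) = ⊥ ∧
      (¬ IsMulCommutative R → ¬ A ≤ Subgroup.centralizer (R : Set G) →
        ⁅R, A⁆ ≠ ⊥ ∧ IsCyclic ↥⁅R, A⁆ ∧ (R ⊓ Subgroup.centralizer (A : Set G)) ≠ ⊥ ∧ IsCyclic ↥(R ⊓ Subgroup.centralizer (A : Set G)) ∧ ⁅R, R⁆ ≤ ⁅R, A⁆) := by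
  have hpp : p.Prime := Fact.out
  have hYR : ⁅R, A⁆ ≤ R := Helper1.commutator_le_of_le_normalizer hA
  have hAY : A ≤ Subgroup.normalizer ((⁅R, A⁆ : Subgroup G) : Set G) :=
    Helper1.le_normalizer_commutator_right R A
  have hRY : R ≤ Subgroup.normalizer ((⁅R, A⁆ : Subgroup G) : Set G) :=
    Helper1.le_normalizer_commutator_left R A
  have hCY : R ⊓ Subgroup.centralizer (A : Set G) ≤
      Subgroup.normalizer ((⁅R, A⁆ : Subgroup G) : Set G) := inf_le_left.trans hRY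
  have hcommY := Helper8.MetaAut.commutator_comm_of_metacyclic hp R A hR hRm hA hcop
  have h1 : IsMulCommutative ↥⁅R, A⁆ := by
    rw [isMulCommutative_iff_of_setLike]
    exact hcommY
  have h2 := Helper8.MetaAut.commutator_sup_centralizer R A hR hA hcop
  have h3 : ⁅R, A⁆ ⊓ (R ⊓ Subgroup.centralizer (A : Set G)) = ⊥ := by
    haveI := h1
    have hYp : IsPGroup p ↥⁅R, A⁆ := hR.to_le hYR
    have hcopY : (Nat.card A).Coprime (Nat.card ↥⁅R, A⁆) := by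
      obtain ⟨n, hn⟩ := IsPGroup.iff_card.mp hYp
      rw [hn]
      exact Nat.Coprime.pow_right n hcop
    have h4 := Helper1.commutator_inf_centralizer_eq_bot A ⁅R, A⁆ hAY hcopY
    rw [Helper8.MetaAut.commutator_commutator_eq R A hR hA hcop] at h4
    rw [eq_bot_iff, ← h4]
    exact inf_le_inf_left _ inf_le_right
  refine ⟨h1, h2, h3, ?_⟩
  intro hnab hAc
  have hYne : ⁅R, A⁆ ≠ ⊥ := by
    intro h
    apply hAc
    have h4 : R ≤ Subgroup.centralizer (A : Set G) :=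
      Subgroup.commutator_eq_bot_iff_le_centralizer.mp h
    intro a ha
    rw [Subgroup.mem_centralizer_iff]
    intro r hr
    exact ((Subgroup.mem_centralizer_iff.mp (h4 hr)) a ha).symm
  have hCne : R ⊓ Subgroup.centralizer (A : Set G) ≠ ⊥ := by
    intro h
    apply hnab
    rw [h, sup_bot_eq] at h2
    rw [isMulCommutative_iff_of_setLike]
    intro x hx y hy
    rw [← h2] at hx hy
    exact hcommY x hx y hy
  have hnc : ¬ IsCyclic ↥R := by
    intro hc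
    apply hnab
    haveI := hc
    letI : CommGroup ↥R := IsCyclic.commGroup
    rw [isMulCommutative_iff_of_setLike]
    intro x hx y hy
    exact congrArg Subtype.val (mul_comm (⟨x, hx⟩ : ↥R) ⟨y, hy⟩)
  -- transfer to the type `↥R`
  have hinf : (⁅R, A⁆).subgroupOf R ⊓ (R ⊓ Subgroup.centralizer (A : Set G)).subgroupOf R = ⊥ := by
    rw [eq_bot_iff]
    intro x hx
    have h4 : (x : G) ∈ ⁅R, A⁆ ⊓ (R ⊓ Subgroup.centralizer (A : Set G)) :=
      Subgroup.mem_inf.mpr ⟨(Subgroup.mem_inf.mp hx).1, (Subgroup.mem_inf.mp hx).2⟩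
    rw [h3, Subgroup.mem_bot] at h4
    rw [Subgroup.mem_bot]
    exact Subtype.ext h4
  have hY'ne : (⁅R, A⁆).subgroupOf R ≠ ⊥ := by
    intro h
    apply hYne
    rw [eq_bot_iff]
    intro y hy
    have h4 : (⟨y, hYR hy⟩ : ↥R) ∈ (⁅R, A⁆).subgroupOf R := hy
    rw [h, Subgroup.mem_bot] at h4
    rw [Subgroup.mem_bot]
    exact congrArg Subtype.val h4
  have hC'ne : (R ⊓ Subgroup.centralizer (A : Set G)).subgroupOf R ≠ ⊥ := by
    intro h
    apply hCne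
    rw [eq_bot_iff]
    intro y hy
    have h4 : (⟨y, (Subgroup.mem_inf.mp hy).1⟩ : ↥R) ∈
        (R ⊓ Subgroup.centralizer (A : Set G)).subgroupOf R := hy
    rw [h, Subgroup.mem_bot] at h4
    rw [Subgroup.mem_bot]
    exact congrArg Subtype.val h4
  have hYcyc : IsCyclic ↥⁅R, A⁆ := by
    haveI := Helper8.MetaAut.isCyclic_of_inf_eq_bot hp hR hRm hnc _ _ hinf hC'ne
    exact isCyclic_of_surjective (Subgroup.subgroupOfEquivOfLe hYR).toMonoidHom
      (Subgroup.subgroupOfEquivOfLe hYR).surjective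
  have hCcyc : IsCyclic ↥(R ⊓ Subgroup.centralizer (A : Set G)) := by
    haveI := Helper8.MetaAut.isCyclic_of_inf_eq_bot hp hR hRm hnc _ _
      (by rw [inf_comm]; exact hinf) hY'ne
    exact isCyclic_of_surjective
      (Subgroup.subgroupOfEquivOfLe (inf_le_left : R ⊓ Subgroup.centralizer (A : Set G) ≤ R)).toMonoidHom
      (Subgroup.subgroupOfEquivOfLe (inf_le_left : R ⊓ Subgroup.centralizer (A : Set G) ≤ R)).surjective
  refine ⟨hYne, hYcyc, hCne, hCcyc, ?_⟩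
  have hCcomm : ∀ a ∈ R ⊓ Subgroup.centralizer (A : Set G),
      ∀ b ∈ R ⊓ Subgroup.centralizer (A : Set G), a * b = b * a := by
    intro a ha b hb
    haveI := hCcyc
    letI : CommGroup ↥(R ⊓ Subgroup.centralizer (A : Set G)) := IsCyclic.commGroup
    exact congrArg Subtype.val
      (mul_comm (⟨a, ha⟩ : ↥(R ⊓ Subgroup.centralizer (A : Set G))) ⟨b, hb⟩)
  rw [Subgroup.commutator_le]
  intro x₁ hx₁ x₂ hx₂
  have hx₁' : x₁ ∈ ⁅R, A⁆ ⊔ (R ⊓ Subgroup.centralizer (A : Set G)) := by rw [h2]; exact hx₁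
  have hx₂' : x₂ ∈ ⁅R, A⁆ ⊔ (R ⊓ Subgroup.centralizer (A : Set G)) := by rw [h2]; exact hx₂
  obtain ⟨y₁, hy₁, c₁, hc₁, rfl⟩ := Helper1.exists_mul_of_mem_sup hCY hx₁'
  obtain ⟨y₂, hy₂, c₂, hc₂, rfl⟩ := Helper1.exists_mul_of_mem_sup hCY hx₂'
  have hcc : c₁ * c₂ * c₁⁻¹ * c₂⁻¹ = 1 := by
    rw [hCcomm c₁ hc₁ c₂ hc₂]
    group
  have hid : (y₁ * c₁) * (y₂ * c₂) * (y₁ * c₁)⁻¹ * (y₂ * c₂)⁻¹ =
      y₁ * (c₁ * y₂ * c₁⁻¹) * (c₁ * c₂ * c₁⁻¹ * c₂⁻¹) * (c₂ * y₁⁻¹ * c₂⁻¹) * y₂⁻¹ := by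
    group
  rw [commutatorElement_def, hid, hcc, mul_one]
  have hn₁ : c₁ * y₂ * c₁⁻¹ ∈ ⁅R, A⁆ :=
    (Subgroup.mem_normalizer_iff.mp (hCY hc₁) y₂).mp hy₂
  have hn₂ : c₂ * y₁⁻¹ * c₂⁻¹ ∈ ⁅R, A⁆ :=
    (Subgroup.mem_normalizer_iff.mp (hCY hc₂) y₁⁻¹).mp (Subgroup.inv_mem _ hy₁)
  exact Subgroup.mul_mem _ (Subgroup.mul_mem _ (Subgroup.mul_mem _ hy₁ hn₁) hn₂)
    (Subgroup.inv_mem _ hy₂)

end Cfsg.Agent.S1447
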