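import Mathlib
import Cfsg.Statements.S1456
import Cfsg.Agent.Lib.Helper8.NarrowFit
import Cfsg.Agent.Lib.Helper8.NarrowCrit

set_option autoImplicit false
set_option linter.style.haveILetI false
open Cfsg

namespace Cfsg.Agent.S1456

open Cfsg.Agent.Helper8

/-- Let G be a solvable group of odd order, p a prime, and E an elementary abelian p-subgroup of the Fitting subgroup F(G) such that F(G) ∩ C_G(E) has no elementary abelian subgroup of order q ^ 3 for any prime q. Then the derived subgroup of G is contained in F(G). -/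
theorem result {G : Type*} [Group G] [Finite G] [Group.IsSolvable G] (hodd : Odd (Nat.card G)) (p : ℕ) [Fact p.Prime] (E : Subgroup G) (hE : E ≤ Cfsg.fittingSubgroup G) (hEe : Cfsg.IsElementaryAbelian p E)
    (hr : Cfsg.RankLE 2 ↥(Cfsg.fittingSubgroup G ⊓ Subgroup.centralizer (E : Set G))) :
    commutator G ≤ Cfsg.fittingSubgroup G := by
  have hpp : p.Prime := Fact.out
  obtain ⟨hEc, hEp⟩ := hEe
  have hEcomm : ∀ a ∈ E, ∀ b ∈ E, a * b = b * a := isMulCommutative_iff_of_setLike.mp hEc
  have hEP : E ≤ pCore p G := by
    intro a ha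
    exact Helper7.mem_pCore_of_mem_fittingSubgroup p (hE ha) ⟨1, by rw [pow_one]; exact hEp a ha⟩
  apply NarrowFit.commutator_le_fitting hodd
  intro q hq hq2
  haveI : Fact q.Prime := ⟨hq⟩
  by_cases hqp : q = p
  · subst hqp
    set P : Subgroup G := pCore q G with hP
    set E' : Subgroup ↥P := E.subgroupOf P with hE'
    have hE'c : ∀ a ∈ E', ∀ b ∈ E', a * b = b * a := by
      intro a ha b hb
      apply Subtype.ext
      exact hEcomm a ha b hb
    have hE'e : ∀ a ∈ E', a ^ q = 1 := by
      intro a ha
      apply Subtype.ext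
      exact hEp a ha
    apply Narrow.isNarrow_of_centralizer_rank hq2 (Helper7.pCore_isPGroup q) E' hE'c hE'e
    have hmem : ∀ x : ↥(Subgroup.centralizer (E' : Set ↥P)),
        ((x : ↥P) : G) ∈ Cfsg.fittingSubgroup G ⊓ Subgroup.centralizer (E : Set G) := by
      intro x
      refine Subgroup.mem_inf.mpr ⟨Helper7.pCore_le_fittingSubgroup q (x : ↥P).2, ?_⟩
      rw [Subgroup.mem_centralizer_iff]
      intro a ha
      have h1 : (⟨a, hEP ha⟩ : ↥P) ∈ E' := by
        rw [hE', Subgroup.mem_subgroupOf]
        exact ha
      have h2 := (Subgroup.mem_centralizer_iff.mp x.2) _ h1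
      exact congrArg Subtype.val h2
    let f : ↥(Subgroup.centralizer (E' : Set ↥P)) →*
        ↥(Cfsg.fittingSubgroup G ⊓ Subgroup.centralizer (E : Set G)) :=
      (P.subtype.comp (Subgroup.centralizer (E' : Set ↥P)).subtype).codRestrict _ hmem
    have hf : Function.Injective f := by
      intro x y hxy
      have h1 := congrArg Subtype.val hxy
      exact Subtype.ext (Subtype.ext h1)
    exact RankTwo.pRankLE_of_injective f hf (hr q hq)
  · left
    have hle : pCore q G ≤ Cfsg.fittingSubgroup G ⊓ Subgroup.centralizer (E : Set G) := by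
      apply le_inf (Helper7.pCore_le_fittingSubgroup q)
      exact (NarrowFit.pCore_le_centralizer_pCore hqp).trans (Subgroup.centralizer_le hEP)
    exact RankTwo.pRankLE_of_injective (Subgroup.inclusion hle) (Subgroup.inclusion_injective hle)
      (hr q hq)

end Cfsg.Agent.S1456
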