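import Mathlib
import Cfsg.Statements.S1458
import Cfsg.Agent.Lib.Helper16.ZJEi
import Cfsg.Agent.Lib.Helper16.Solvable2
import Cfsg.Agent.Lib.Helper23.PSolvable

set_option autoImplicit false
open Cfsg

namespace Cfsg.Agent.S1458

open Cfsg.Agent.Helper16.ZJE

/-- Sylow `2`-subgroups of a group of odd order are commutative. -/
theorem sylow2_comm_of_odd {X : Type*} [Group X] [Finite X] (hodd : Odd (Nat.card X))
    (T : Sylow 2 X) : IsMulCommutative ↥(T : Subgroup X) := by
  have h1 : Nat.card ↥(T : Subgroup X) = 1 := by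
    obtain ⟨k, hk⟩ := IsPGroup.iff_card.mp T.2
    have hdvd : Nat.card ↥(T : Subgroup X) ∣ Nat.card X := Subgroup.card_subgroup_dvd_card _
    rw [hk] at hdvd ⊢
    rcases Nat.eq_zero_or_pos k with h0 | hpos
    · rw [h0, pow_zero]
    · exfalso
      have h2 : 2 ∣ Nat.card X := (dvd_pow_self 2 hpos.ne').trans hdvd
      exact (Nat.not_even_iff_odd.2 hodd) (even_iff_two_dvd.2 h2)
  have hsub : Subsingleton ↥(T : Subgroup X) := (Nat.card_eq_one_iff_unique.1 h1).1
  exact ⟨⟨fun x y => Subsingleton.elim _ _⟩⟩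

/-- Let G be a solvable group of odd order, p a prime and S a Sylow p-subgroup of G. Then the subgroup generated by the centre of the Thompson subgroup of S and O_{p'}(G) is normal in G. -/
theorem result {G : Type*} [Group G] [Finite G] [Group.IsSolvable G] (hodd : Odd (Nat.card G)) (p : ℕ) [Fact p.Prime] (S : Sylow p G) :
    (Cfsg.centerThompsonOf p (S : Subgroup G) ⊔ Cfsg.pPrimeCore p G).Normal := by
  have hpp : p.Prime := Fact.out
  have hKn : (pPrimeCore p G).Normal := Cfsg.Agent.Helper22.pPrimeCore_normal p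
  by_cases hp : p = 2
  · -- `S` is trivial
    subst hp
    have h1 : Nat.card ↥(S : Subgroup G) = 1 := by
      obtain ⟨k, hk⟩ := IsPGroup.iff_card.mp S.2
      have hdvd : Nat.card ↥(S : Subgroup G) ∣ Nat.card G := Subgroup.card_subgroup_dvd_card _
      rw [hk] at hdvd ⊢
      rcases Nat.eq_zero_or_pos k with h0 | hpos
      · rw [h0, pow_zero]
      · exfalso
        have h2 : 2 ∣ Nat.card G := (dvd_pow_self 2 hpos.ne').trans hdvd
        exact (Nat.not_even_iff_odd.2 hodd) (even_iff_two_dvd.2 h2)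
    have h2 : (S : Subgroup G) = ⊥ := Subgroup.card_eq_one.1 h1
    have h3 : Cfsg.centerThompsonOf 2 (S : Subgroup G) = ⊥ := by
      rw [eq_bot_iff, ← h2]; exact centerThompsonOf_le_self _
    rw [h3, bot_sup_eq]; exact hKn
  · set K := pPrimeCore p G with hK
    set π := QuotientGroup.mk' K with hπ
    have hsurj : Function.Surjective π := QuotientGroup.mk'_surjective K
    -- the quotient
    have hoddQ : Odd (Nat.card (G ⧸ K)) := by
      have h1 : Nat.card (G ⧸ K) ∣ Nat.card G := by
        rw [← Subgroup.index_eq_card]; exact Subgroup.index_dvd_card K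
      exact Odd.of_dvd_nat hodd h1
    have hfree : Cfsg.Agent.Helper4.SLF.SL2Free p (G ⧸ K) :=
      Cfsg.Agent.Helper4.SLF.sl2free_of_abelian_sylow2 hp (sylow2_comm_of_odd hoddQ)
    have hsolQ : Group.IsSolvable (G ⧸ K) := inferInstance
    have hO : pPrimeCore p (G ⧸ K) = ⊥ := Cfsg.Agent.Helper23.PSolv.pPrimeCore_quotient_pPrimeCore p
    have hc : Subgroup.centralizer (pCore p (G ⧸ K) : Set (G ⧸ K)) ≤ pCore p (G ⧸ K) :=
      Cfsg.Agent.Helper16.centralizer_pCore_le_of_isSolvable p hsolQ hO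
    have hZn := ZJE_normal hp hfree (S.mapSurjective hsurj) hc
    rw [Sylow.coe_mapSurjective] at hZn
    -- `π` is injective on `S`
    have hinj : Set.InjOn π (S : Subgroup G) := by
      intro x hx y hy hxy
      have h1 : x⁻¹ * y ∈ K := QuotientGroup.eq.1 hxy
      have h2 : x⁻¹ * y ∈ (S : Subgroup G) := Subgroup.mul_mem _ (Subgroup.inv_mem _ hx) hy
      have hcop : (Nat.card K).Coprime p := Cfsg.Agent.Helper22.card_pPrimeCore_coprime p
      have h3 : orderOf (x⁻¹ * y) ∣ Nat.card K := by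
        have := orderOf_dvd_natCard (⟨x⁻¹ * y, h1⟩ : K)
        rwa [← Subgroup.orderOf_coe] at this
      obtain ⟨k, hk⟩ := S.2 ⟨x⁻¹ * y, h2⟩
      have h4 : orderOf (x⁻¹ * y) ∣ p ^ k := by
        apply orderOf_dvd_of_pow_eq_one
        have := congrArg Subtype.val hk
        simpa using this
      have h5 : orderOf (x⁻¹ * y) = 1 :=
        Nat.eq_one_of_dvd_coprimes (Nat.Coprime.pow_right k hcop) h3 h4
      have h6 : x⁻¹ * y = 1 := orderOf_eq_one_iff.1 h5
      exact inv_mul_eq_one.1 h6
    rw [centerThompsonOf_map_of_injOn π _ hinj] at hZn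
    have h7 : (Cfsg.centerThompsonOf p (S : Subgroup G) ⊔ K) =
        ((Cfsg.centerThompsonOf p (S : Subgroup G)).map π).comap π := by
      rw [Subgroup.comap_map_eq, QuotientGroup.ker_mk']
    rw [h7]
    exact Subgroup.Normal.comap hZn π

end Cfsg.Agent.S1458
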