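import Mathlib
import Cfsg.Statements.S1467

set_option autoImplicit false
open Cfsg

namespace Cfsg.Agent.S1467

variable {G : Type*} [Group G]

theorem puigStep_antitone : Antitone (Cfsg.puigStep : Subgroup G → Subgroup G) := by
  intro X Y hXY
  apply sSup_le_sSup
  rintro A ⟨hA, hY⟩
  exact ⟨hA, hXY.trans hY⟩

theorem puigStep_bot : Cfsg.puigStep (⊥ : Subgroup G) = ⊤ := by
  rw [eq_top_iff]
  intro g _
  have h : Subgroup.zpowers g ≤ Cfsg.puigStep (⊥ : Subgroup G) := by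
    apply le_sSup
    refine ⟨?_, bot_le⟩
    exact inferInstance
  exact h (Subgroup.mem_zpowers g)

theorem seq_succ (n : ℕ) : Cfsg.puigSeq G (n + 1) = Cfsg.puigStep (Cfsg.puigSeq G n) := rfl

theorem even_mono_step (n : ℕ) : Cfsg.puigSeq G (2 * n) ≤ Cfsg.puigSeq G (2 * n + 2) := by
  induction n with
  | zero => exact bot_le
  | succ n ih =>
    have : 2 * (n + 1) = 2 * n + 1 + 1 := by ring
    rw [this, seq_succ, seq_succ (2 * n + 1 + 1 + 1), seq_succ (2 * n + 1 + 1), seq_succ (2 * n)]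
    have h2 : 2 * n + 2 = 2 * n + 1 + 1 := rfl
    rw [h2, seq_succ, seq_succ] at ih
    exact puigStep_antitone (puigStep_antitone ih)

theorem even_le_odd_same (n : ℕ) : Cfsg.puigSeq G (2 * n) ≤ Cfsg.puigSeq G (2 * n + 1) := by
  induction n with
  | zero =>
    exact bot_le
  | succ n ih =>
    have e : 2 * (n + 1) = 2 * n + 1 + 1 := by ring
    rw [e]
    have h1 : Cfsg.puigSeq G (2 * n + 1 + 1) ≤ Cfsg.puigSeq G (2 * n + 1) := by
      rw [seq_succ (2 * n + 1), seq_succ (2 * n)]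
      exact puigStep_antitone ih
    rw [seq_succ (2 * n + 1 + 1)]
    conv_lhs => rw [seq_succ (2 * n + 1)]
    exact puigStep_antitone h1

theorem odd_anti_step (m : ℕ) : Cfsg.puigSeq G (2 * m + 3) ≤ Cfsg.puigSeq G (2 * m + 1) := by
  have h := even_mono_step (G := G) m
  have e : 2 * m + 3 = 2 * m + 2 + 1 := rfl
  rw [e, seq_succ (2 * m + 2), seq_succ (2 * m)]
  exact puigStep_antitone h

theorem even_mono : Monotone (fun n => Cfsg.puigSeq G (2 * n)) := by
  apply monotone_nat_of_le_succ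
  intro n
  have : 2 * (n + 1) = 2 * n + 2 := by ring
  simp only [this]
  exact even_mono_step n

theorem odd_anti : Antitone (fun n => Cfsg.puigSeq G (2 * n + 1)) := by
  apply antitone_nat_of_succ_le
  intro n
  have : 2 * (n + 1) + 1 = 2 * n + 3 := by ring
  simp only [this]
  exact odd_anti_step n

theorem even_le_odd (n m : ℕ) : Cfsg.puigSeq G (2 * n) ≤ Cfsg.puigSeq G (2 * m + 1) := by
  calc Cfsg.puigSeq G (2 * n) ≤ Cfsg.puigSeq G (2 * max n m) := even_mono (le_max_left n m)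
    _ ≤ Cfsg.puigSeq G (2 * max n m + 1) := even_le_odd_same _
    _ ≤ Cfsg.puigSeq G (2 * m + 1) := odd_anti (le_max_right n m)

/-- Let G be a finite group with Puig series L_n(G). Then L_0 = 1, L_1 = G; L_{2n} ≤ L_{2n+2} ≤ L_{2m+3} ≤ L_{2m+1} for all n, m; there is k with L_{2n}(G) = L_*(G) and L_{2n+1}(G) = L(G) for all n ≥ k; L_*(G) ≤ L(G); and applying one Puig step to L_*(G) gives L(G) and to L(G) gives L_*(G). -/
theorem result {G : Type*} [Group G] [Finite G] :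
    Cfsg.puigSeq G 0 = ⊥ ∧ Cfsg.puigSeq G 1 = ⊤ ∧
      (∀ n m : ℕ, Cfsg.puigSeq G (2 * n) ≤ Cfsg.puigSeq G (2 * n + 2) ∧ Cfsg.puigSeq G (2 * n) ≤ Cfsg.puigSeq G (2 * m + 1) ∧
        Cfsg.puigSeq G (2 * m + 3) ≤ Cfsg.puigSeq G (2 * m + 1)) ∧
      (∃ k : ℕ, ∀ n : ℕ, k ≤ n → Cfsg.puigSeq G (2 * n) = Cfsg.puigLower G ∧ Cfsg.puigSeq G (2 * n + 1) = Cfsg.puigSubgroup G) ∧
      Cfsg.puigLower G ≤ Cfsg.puigSubgroup G ∧
      Cfsg.puigStep (Cfsg.puigLower G) = Cfsg.puigSubgroup G ∧ Cfsg.puigStep (Cfsg.puigSubgroup G) = Cfsg.puigLower G := by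
  -- stabilization of the even terms
  obtain ⟨k, hk⟩ := WellFoundedGT.monotone_chain_condition
    (⟨fun n => Cfsg.puigSeq G (2 * n), even_mono⟩ : ℕ →o Subgroup G)
  simp only [OrderHom.coe_mk] at hk
  have hlow : Cfsg.puigLower G = Cfsg.puigSeq G (2 * k) := by
    apply le_antisymm
    · apply iSup_le
      intro n
      calc Cfsg.puigSeq G (2 * n) ≤ Cfsg.puigSeq G (2 * max n k) := even_mono (le_max_left n k)
        _ = Cfsg.puigSeq G (2 * k) := (hk _ (le_max_right n k)).symm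
    · exact le_iSup (fun n => Cfsg.puigSeq G (2 * n)) k
  have hoddk : ∀ n, k ≤ n → Cfsg.puigSeq G (2 * n + 1) = Cfsg.puigSeq G (2 * k + 1) := by
    intro n hn
    rw [seq_succ, seq_succ, ← hk n hn]
  have hsub : Cfsg.puigSubgroup G = Cfsg.puigSeq G (2 * k + 1) := by
    apply le_antisymm
    · exact iInf_le (fun n => Cfsg.puigSeq G (2 * n + 1)) k
    · apply le_iInf
      intro n
      calc Cfsg.puigSeq G (2 * k + 1) = Cfsg.puigSeq G (2 * max n k + 1) := (hoddk _ (le_max_right n k)).symm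
        _ ≤ Cfsg.puigSeq G (2 * n + 1) := odd_anti (le_max_left n k)
  refine ⟨rfl, ?_, ?_, ⟨k, ?_⟩, ?_, ?_, ?_⟩
  · exact puigStep_bot
  · intro n m
    exact ⟨even_mono_step n, even_le_odd n m, odd_anti_step m⟩
  · intro n hn
    rw [hlow, hsub]
    exact ⟨(hk n hn).symm, hoddk n hn⟩
  · rw [hlow, hsub]
    exact even_le_odd_same k
  · rw [hlow, hsub]
    rfl
  · rw [hlow, hsub]
    have : Cfsg.puigStep (Cfsg.puigSeq G (2 * k + 1)) = Cfsg.puigSeq G (2 * (k + 1)) := rfl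
    rw [this]
    exact (hk (k + 1) (Nat.le_succ k)).symm

end Cfsg.Agent.S1467
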