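import Mathlib
import Cfsg.Statements.S1472
import Cfsg.Agent.S1471
import Cfsg.Agent.Lib.Helper22.BGCE

set_option autoImplicit false
open Cfsg

namespace Cfsg.Agent.S1472

open Cfsg.Agent.Helper22.BGAppC

/-- `q = 2` contradicts the coprimality hypothesis when `p` is odd -/
theorem q_ne_two {p : ℕ} (hp : p.Prime) (hp2 : p ≠ 2)
    (hA : Nat.Coprime ((p ^ 2 - 1) / (p - 1)) (p - 1)) : False := by
  have hodd : Odd p := hp.odd_of_ne_two hp2
  obtain ⟨k, hk⟩ := hodd
  have hk1 : 1 ≤ k := by
    rcases Nat.eq_zero_or_pos k with h | h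
    · subst h; simp at hk; exact absurd hk hp.one_lt.ne'
    · exact h
  have h1 : p ^ 2 - 1 = (p + 1) * (p - 1) := by
    have : p ^ 2 = (p + 1) * (p - 1) + 1 := by
      have hp1 : 1 ≤ p := hp.pos
      obtain ⟨m, rfl⟩ : ∃ m, p = m + 1 := ⟨p - 1, by omega⟩
      simp only [Nat.add_sub_cancel]
      ring
    omega
  have hpos : 0 < p - 1 := by have := hp.one_lt; omega
  rw [h1, Nat.mul_div_cancel _ hpos] at hA
  have h2 : 2 ∣ p + 1 := ⟨k + 1, by omega⟩
  have h3 : 2 ∣ p - 1 := ⟨k, by omega⟩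
  have h4 : 2 ∣ Nat.gcd (p + 1) (p - 1) := Nat.dvd_gcd h2 h3
  rw [hA] at h4
  omega

/-- Let p, q be primes with (p^q − 1)/(p − 1) coprime to p − 1, G a finite group, F a field with p ^ q elements, and P, U, Q subgroups of G with: f : G → F bijective from P onto F and additive on P; U normalizing P and acting through ψ : G → F, injective and multiplicative on U with ψ(u) ≠ 0 and f(uxu⁻¹) = ψ(u) f(x); #U · (p − 1) = p^q − 1; Q abelian of order coprime to p, normalized by every x ∈ P with f(x) in the prime field; and some y ∈ Q such that y x y⁻¹ normalizes U for every such x. Then p ≤ q. -/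
theorem result {G : Type*} [Group G] [Finite G] (p q : ℕ) [Fact p.Prime] [Fact q.Prime] (hA : Nat.Coprime ((p ^ q - 1) / (p - 1)) (p - 1))
    (F : Type*) [Field F] [Fintype F] (hF : Fintype.card F = p ^ q) (P U Q : Subgroup G) (f ψ : G → F)
    (hf : Set.BijOn f (P : Set G) Set.univ) (hfadd : ∀ x ∈ P, ∀ z ∈ P, f (x * z) = f x + f z)
    (hUP : U ≤ Subgroup.normalizer (P : Set G)) (hψ : ∀ u ∈ U, ψ u ≠ 0 ∧ ∀ x ∈ P, f (u * x * u⁻¹) = ψ u * f x)
    (hψmul : ∀ u ∈ U, ∀ v ∈ U, ψ (u * v) = ψ u * ψ v) (hψinj : Set.InjOn ψ (U : Set G)) (hUcard : Nat.card U * (p - 1) = p ^ q - 1)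
    (hQ : IsMulCommutative Q) (hQp : (Nat.card Q).Coprime p) (hP0Q : ∀ x ∈ P, f x ^ p = f x → x ∈ Subgroup.normalizer (Q : Set G))
    (y : G) (hy : y ∈ Q) (hP0U : ∀ x ∈ P, f x ^ p = f x → y * x * y⁻¹ ∈ Subgroup.normalizer (U : Set G)) :
    p ≤ q := by
  by_contra hlt
  push Not at hlt
  have hp : p.Prime := Fact.out
  have hq : q.Prime := Fact.out
  have hq2 : 2 ≤ q := hq.two_le
  have hp2 : p ≠ 2 := by omega
  have hqne2 : q ≠ 2 := by
    rintro rfl
    exact q_ne_two hp hp2 hA
  have hq3 : 3 ≤ q := by omega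
  have hp5 : 5 ≤ p := by
    have h4 : p ≠ 4 := by
      rintro rfl
      norm_num at hp
    omega
  have hpos : 0 < p - 1 := by have := hp.one_lt; omega
  have hUc : Nat.card U = nU p q := by
    have h1 : Nat.card U * (p - 1) = nU p q * (p - 1) := by rw [hUcard, nU_mul]
    exact Nat.eq_of_mul_eq_mul_right hpos h1
  have hQc : ∀ a ∈ Q, ∀ b ∈ Q, a * b = b * a := by
    intro a ha b hb
    have h1 := hQ.is_comm.comm (⟨a, ha⟩ : ↥Q) ⟨b, hb⟩
    exact congrArg Subtype.val h1
  let c : Cfg G p q F :=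
    { hF := hF
      hA := hA
      hqp := hlt
      hq2 := hq2
      P := P
      U := U
      Q := Q
      f := f
      ψ := ψ
      hf := hf
      hfadd := hfadd
      hUP := hUP
      hψ := hψ
      hψmul := hψmul
      hψinj := hψinj
      hUcard := hUc
      hQ := hQc
      hQp := hQp
      hP0Q := hP0Q
      y := y
      hy := hy
      hP0U := hP0U }
  -- an element of `E` different from `1`, from S1471
  have h71 := Cfsg.Agent.S1471.result p q hp2 hqne2 hA
  obtain ⟨a, haE, ha1⟩ := Set.exists_ne_of_one_lt_ncard (by omega :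
    1 < Set.ncard {a : GaloisField p q | Algebra.norm (ZMod p) a = 1 ∧
      Algebra.norm (ZMod p) (2 - a) = 1}) 1
  obtain ⟨hna, hnb⟩ := haE
  have hq0 : q ≠ 0 := by omega
  have hcardGF : Nat.card (GaloisField p q) = p ^ q := GaloisField.card p q hq0
  have hcardZ : Nat.card (ZMod p) = p := by
    rw [Nat.card_eq_fintype_card, ZMod.card]
  have hpow : ∀ b : GaloisField p q, Algebra.norm (ZMod p) b = 1 → b ^ nU p q = 1 := by
    intro b hb
    have h1 := FiniteField.algebraMap_norm_eq_pow (K := ZMod p) (K' := GaloisField p q) (x := b)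
    rw [hb, map_one, hcardGF, hcardZ] at h1
    exact h1.symm
  let _ : Fintype (GaloisField p q) := Fintype.ofFinite _
  have hcards : Fintype.card (GaloisField p q) = Fintype.card F := by
    rw [hF, ← Nat.card_eq_fintype_card, hcardGF]
  let e : GaloisField p q ≃+* F := FiniteField.ringEquivOfCardEq hcards
  have hβ1 : IsN1 p q (e a) := by
    unfold IsN1
    rw [← map_pow, hpow a hna, map_one]
  have hβ2 : IsN1 p q (2 - e a) := by
    unfold IsN1
    have : (2 : F) - e a = e (2 - a) := by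
      rw [map_sub, map_ofNat]
    rw [this, ← map_pow, hpow _ hnb, map_one]
  have h1 := c.E_trivial hp5 hβ1 hβ2
  apply ha1
  apply e.injective
  rw [h1, map_one]

end Cfsg.Agent.S1472
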