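import Mathlib
import Cfsg.Statements.S1475
import Cfsg.Agent.Lib.Helper8.FrobAction
import Cfsg.Agent.Lib.Helper1.SolvableBasic
import Cfsg.Agent.Lib.Helper1.Hall

set_option autoImplicit false
open Cfsg

namespace Cfsg.Agent.S1475

section aux

variable {G : Type*} [Group G]

/-- In a group all of whose elements have prime power order, commuting elements of coprime orders
cannot both be non-trivial. -/
theorem eppo_comm [Finite G] (h : ∀ g : G, IsPrimePow (orderOf g) ∨ g = 1) {a b : G}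
    (hab : a * b = b * a) (hcop : (orderOf a).Coprime (orderOf b)) : a = 1 ∨ b = 1 := by
  by_contra hne
  push Not at hne
  obtain ⟨ha, hb⟩ := hne
  have ho : orderOf (a * b) = orderOf a * orderOf b :=
    Commute.orderOf_mul_eq_mul_orderOf_of_coprime hab hcop
  have hoa0 : orderOf a ≠ 0 := (orderOf_pos a).ne'
  have hob0 : orderOf b ≠ 0 := (orderOf_pos b).ne'
  have hoa1 : orderOf a ≠ 1 := fun h1 => ha (orderOf_eq_one_iff.mp h1)
  have hob1 : orderOf b ≠ 1 := fun h1 => hb (orderOf_eq_one_iff.mp h1)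
  rcases h (a * b) with hpp | h1
  · rw [ho] at hpp
    obtain ⟨p, k, hp, hk, hpk⟩ := hpp
    have hp' : p.Prime := hp.nat_prime
    have h1 : orderOf a ∣ p ^ k := ⟨orderOf b, hpk⟩
    have h2 : orderOf b ∣ p ^ k := ⟨orderOf a, by rw [hpk, mul_comm]⟩
    obtain ⟨i, _, hi⟩ := (Nat.dvd_prime_pow hp').mp h1
    obtain ⟨j, _, hj⟩ := (Nat.dvd_prime_pow hp').mp h2
    have hi0 : i ≠ 0 := by rintro rfl; exact hoa1 (by rw [hi, pow_zero])
    have hj0 : j ≠ 0 := by rintro rfl; exact hob1 (by rw [hj, pow_zero])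
    have h3 : p ∣ Nat.gcd (orderOf a) (orderOf b) :=
      Nat.dvd_gcd (by rw [hi]; exact dvd_pow_self p hi0) (by rw [hj]; exact dvd_pow_self p hj0)
    rw [hcop] at h3
    exact hp'.one_lt.ne' (Nat.dvd_one.mp h3)
  · have h2 : orderOf (a * b) = 1 := by rw [h1, orderOf_one]
    rw [ho] at h2
    exact hoa1 (Nat.eq_one_of_mul_eq_one_right h2)

theorem orderOf_dvd_of_isPGroup {p : ℕ} {P : Subgroup G} (hP : IsPGroup p P) {x : G} (hx : x ∈ P) :
    ∃ k : ℕ, orderOf x ∣ p ^ k := by
  obtain ⟨k, hk⟩ := hP ⟨x, hx⟩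
  refine ⟨k, orderOf_dvd_of_pow_eq_one ?_⟩
  have := congrArg Subtype.val hk
  simpa only [SubgroupClass.coe_pow, OneMemClass.coe_one] using this

theorem main [Finite G] [Group.IsSolvable G] (h : ∀ g : G, IsPrimePow (orderOf g) ∨ g = 1) :
    (Nat.card G).primeFactors.card ≤ 2 := by
  classical
  by_contra hcon
  push Not at hcon
  haveI hGnt : Nontrivial G := by
    by_contra hnt
    rw [not_nontrivial_iff_subsingleton] at hnt
    have h1 : Nat.card G = 1 := Nat.card_eq_one_iff_unique.mpr ⟨hnt, ⟨1⟩⟩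
    rw [h1] at hcon
    simp at hcon
  obtain ⟨p, hp, P, hPn, hPne, hPp⟩ := Helper1.exists_normal_pSubgroup_of_solvable G
  haveI : Fact p.Prime := ⟨hp⟩
  haveI := hPn
  set V : Subgroup G := P ⊓ Subgroup.centralizer (P : Set G) with hV
  haveI hVn : V.Normal := inferInstance
  haveI hVc : IsMulCommutative V := ⟨⟨fun a b => Subtype.ext (by
    have := (Subgroup.mem_centralizer_iff.mp (Subgroup.mem_inf.mp b.2).2) a (Subgroup.mem_inf.mp a.2).1
    exact this)⟩⟩
  have hVp : IsPGroup p V := hPp.to_le inf_le_left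
  have hVne : V ≠ ⊥ := by
    haveI : Nontrivial P := (Subgroup.nontrivial_iff_ne_bot P).mpr hPne
    haveI := hPp.center_nontrivial
    obtain ⟨z, hz⟩ := exists_ne (1 : Subgroup.center P)
    intro hbot
    have h1 : ((z : P) : G) ∈ V := by
      refine Subgroup.mem_inf.mpr ⟨(z : P).2, ?_⟩
      rw [Subgroup.mem_centralizer_iff]
      intro g hg
      have := (Subgroup.mem_center_iff.mp z.2) ⟨g, hg⟩
      exact congrArg Subtype.val this
    rw [hbot, Subgroup.mem_bot] at h1
    exact hz (Subtype.ext (Subtype.ext h1))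
  -- a Hall p'-subgroup
  obtain ⟨e, n, hpn, hGe⟩ := Nat.exists_eq_pow_mul_and_not_dvd (n := Nat.card G)
    Nat.card_pos.ne' p hp.ne_one
  have hcoppn : p.Coprime n := (Nat.Prime.coprime_iff_not_dvd hp).mpr hpn
  have hcopn : n.Coprime (p ^ e) := Nat.Coprime.pow_right e hcoppn.symm
  obtain ⟨K, hK⟩ := Helper1.hall_exists n (p ^ e) (by rw [hGe, mul_comm]) hcopn
  have hn0 : n ≠ 0 := by
    rintro rfl
    rw [mul_zero] at hGe
    exact Nat.card_pos.ne' hGe
  have hpf : (Nat.card G).primeFactors ⊆ insert p n.primeFactors := by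
    intro q hq
    rw [Nat.mem_primeFactors] at hq
    obtain ⟨hq1, hq2, _⟩ := hq
    rw [hGe] at hq2
    rcases (Nat.Prime.dvd_mul hq1).mp hq2 with h1 | h1
    · have := (Nat.prime_dvd_prime_iff_eq hq1 hp).mp (hq1.dvd_of_dvd_pow h1)
      rw [this]; exact Finset.mem_insert_self _ _
    · exact Finset.mem_insert_of_mem (Nat.mem_primeFactors.mpr ⟨hq1, h1, hn0⟩)
  have hn2 : 2 ≤ n.primeFactors.card := by
    have h1 := Finset.card_le_card hpf
    have h2 := Finset.card_insert_le p n.primeFactors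
    omega
  haveI hKnt : Nontrivial K := by
    rw [← Finite.one_lt_card_iff_nontrivial, hK]
    rcases Nat.lt_or_ge 1 n with h1 | h1
    · exact h1
    · exfalso
      have : n = 1 := by omega
      rw [this] at hn2
      simp at hn2
  obtain ⟨q, hq, Q₀, hQ₀n, hQ₀ne, hQ₀q⟩ := Helper1.exists_normal_pSubgroup_of_solvable K
  haveI : Fact q.Prime := ⟨hq⟩
  obtain ⟨r, hr, hrq⟩ : ∃ r ∈ n.primeFactors, r ≠ q := by
    by_contra hall
    push Not at hall
    have h1 : n.primeFactors ⊆ {q} := fun r hr => Finset.mem_singleton.mpr (hall r hr)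
    have h2 := Finset.card_le_card h1
    rw [Finset.card_singleton] at h2
    omega
  rw [Nat.mem_primeFactors] at hr
  obtain ⟨hr1, hr2, _⟩ := hr
  haveI : Fact r.Prime := ⟨hr1⟩
  obtain ⟨y, hy⟩ := exists_prime_orderOf_dvd_card' (G := K) r (by rw [hK]; exact hr2)
  have hyo : orderOf (y : G) = r := by rw [Subgroup.orderOf_coe]; exact hy
  have hy1 : (y : G) ≠ 1 := by
    intro h1
    rw [h1, orderOf_one] at hyo
    exact hr1.one_lt.ne hyo
  set Q : Subgroup G := Q₀.map K.subtype with hQ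
  set R : Subgroup G := Subgroup.zpowers (y : G) with hR
  have hQq : IsPGroup q Q := hQ₀q.map _
  have hQne : Q ≠ ⊥ := by
    intro hbot
    apply hQ₀ne
    rw [eq_bot_iff]
    intro x hx
    have : K.subtype x ∈ Q := Subgroup.mem_map_of_mem _ hx
    rw [hbot, Subgroup.mem_bot] at this
    rw [Subgroup.mem_bot]
    exact Subtype.ext this
  have hQK : Q ≤ K := by
    rintro _ ⟨x, _, rfl⟩
    exact x.2
  -- q ≠ p, r ≠ p
  have hqn : q ∣ n := by
    obtain ⟨k, hk⟩ := hQ₀q.exists_card_eq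
    have hk0 : k ≠ 0 := by
      rintro rfl
      rw [pow_zero] at hk
      exact hQ₀ne (Subgroup.card_eq_one.mp hk)
    have h1 : Nat.card Q₀ ∣ Nat.card K := Subgroup.card_subgroup_dvd_card Q₀
    rw [hK, hk] at h1
    exact dvd_trans (dvd_pow_self q hk0) h1
  have hqp : q ≠ p := by
    rintro rfl
    exact hpn hqn
  have hrp : r ≠ p := by
    rintro rfl
    exact hpn hr2
  have hcop_pq : ∀ i j : ℕ, (p ^ i).Coprime (q ^ j) := fun i j =>
    Nat.Coprime.pow i j ((Nat.coprime_primes hp hq).mpr (Ne.symm hqp))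
  have hcop_pr : ∀ i : ℕ, (p ^ i).Coprime r := fun i =>
    Nat.Coprime.pow_left i ((Nat.coprime_primes hp hr1).mpr (Ne.symm hrp))
  have hcop_rq : ∀ j : ℕ, r.Coprime (q ^ j) := fun j =>
    Nat.Coprime.pow_right j ((Nat.coprime_primes hr1 hq).mpr hrq)
  have hRo : ∀ z ∈ R, orderOf z ∣ r := by
    intro z hz
    rw [← hyo]
    exact orderOf_dvd_of_mem_zpowers hz
  have hRK : R ≤ K := by
    rw [hR, Subgroup.zpowers_le]
    exact y.2
  -- the hypotheses of the Frobenius action lemma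
  have hRQ : ∀ z ∈ R, ∀ x ∈ Q, z * x * z⁻¹ ∈ Q := by
    rintro z hz _ ⟨x, hx, rfl⟩
    refine ⟨(⟨z, hRK hz⟩ : K) * x * (⟨z, hRK hz⟩ : K)⁻¹, hQ₀n.conj_mem x hx _, rfl⟩
  have hfpf : ∀ z ∈ R, z ≠ 1 → ∀ x ∈ Q, z * x = x * z → x = 1 := by
    intro z hz hz1 x hx hzx
    obtain ⟨j, hj⟩ := orderOf_dvd_of_isPGroup hQq hx
    have hc : (orderOf z).Coprime (orderOf x) :=
      Nat.Coprime.coprime_dvd_left (hRo z hz) (Nat.Coprime.coprime_dvd_right hj (hcop_rq j))
    rcases eppo_comm h hzx hc with h1 | h1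
    · exact absurd h1 hz1
    · exact h1
  have hcop : (Nat.card V).Coprime (Nat.card Q) := by
    obtain ⟨i, hi⟩ := hVp.exists_card_eq
    obtain ⟨j, hj⟩ := hQq.exists_card_eq
    rw [hi, hj]
    exact hcop_pq i j
  have hVQ : V ⊓ Subgroup.centralizer (Q : Set G) = ⊥ := by
    rw [eq_bot_iff]
    intro v hv
    obtain ⟨hv1, hv2⟩ := Subgroup.mem_inf.mp hv
    obtain ⟨x, hx1⟩ := (Subgroup.ne_bot_iff_exists_ne_one).mp hQne
    have hxv : (x : G) * v = v * (x : G) := (Subgroup.mem_centralizer_iff.mp hv2) x x.2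
    obtain ⟨i, hi⟩ := orderOf_dvd_of_isPGroup hVp hv1
    obtain ⟨j, hj⟩ := orderOf_dvd_of_isPGroup hQq x.2
    have hc : (orderOf v).Coprime (orderOf (x : G)) :=
      Nat.Coprime.coprime_dvd_left hi (Nat.Coprime.coprime_dvd_right hj (hcop_pq i j))
    rcases eppo_comm h hxv.symm hc with h1 | h1
    · rw [Subgroup.mem_bot]; exact h1
    · exfalso; exact hx1 (Subtype.ext h1)
  have hVR : V ⊓ Subgroup.centralizer (R : Set G) = ⊥ := by
    rw [eq_bot_iff]
    intro v hv
    obtain ⟨hv1, hv2⟩ := Subgroup.mem_inf.mp hv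
    have hyR : (y : G) ∈ R := Subgroup.mem_zpowers _
    have hyv : (y : G) * v = v * (y : G) := (Subgroup.mem_centralizer_iff.mp hv2) _ hyR
    obtain ⟨i, hi⟩ := orderOf_dvd_of_isPGroup hVp hv1
    have hc : (orderOf v).Coprime (orderOf (y : G)) := by
      rw [hyo]
      exact Nat.Coprime.coprime_dvd_left hi (hcop_pr i)
    rcases eppo_comm h hyv.symm hc with h1 | h1
    · rw [Subgroup.mem_bot]; exact h1
    · exact absurd h1 hy1
  exact hVne (Helper8.frob_action_fixed V Q R hRQ hfpf hcop hVQ hVR)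

end aux

/-- Let G be a finite solvable group such that the order of every element is a prime power (1 included). Then at most two distinct primes divide the order of G. -/
theorem result {G : Type*} [Group G] [Finite G] [Group.IsSolvable G] (h : ∀ g : G, IsPrimePow (orderOf g) ∨ g = 1) :
    (Nat.card G).primeFactors.card ≤ 2 :=
  main h

end Cfsg.Agent.S1475
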