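import Mathlib
import Cfsg.Statements.S1480
import Cfsg.Agent.Lib.Helper14.TransCore4

set_option autoImplicit false
open Cfsg

namespace Cfsg.Agent.S1480

/-- Let G be a finite group and p a prime such that the normalizer of every nontrivial p-subgroup of G is p-constrained; if p = 2 assume also that the Sylow 2-subgroups of G have nilpotency class at most 2. Let E be an abelian p-subgroup containing an elementary abelian subgroup of order p ^ 3 and containing every element of p-power order of C_G(E). Then for every prime q ≠ p, any two maximal E-invariant q-subgroups of G are conjugate by an element of O_{p'}(C_G(E)). -/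
theorem result {G : Type*} [Group G] [Finite G] (p : ℕ) [Fact p.Prime]
    (hloc : ∀ T : Subgroup G, IsPGroup p T → T ≠ ⊥ → Cfsg.IsPConstrained p ↥(Subgroup.normalizer (T : Set G)))
    (h2 : p = 2 → ∀ S : Sylow p G, Group.IsNilpotent (S : Subgroup G) ∧ Group.nilpotencyClass (S : Subgroup G) ≤ 2)
    (E : Subgroup G) (hEp : IsPGroup p E) (hEc : IsMulCommutative E) (hE3 : ¬ Cfsg.PRankLE p 2 E)
    (hEfull : ∀ x ∈ Subgroup.centralizer (E : Set G), IsPGroup p (Subgroup.zpowers x) → x ∈ E)
    (q : ℕ) [Fact q.Prime] (hqp : q ≠ p) :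
    ∀ Q₁ ∈ Cfsg.maxInvSubgroups ⊤ E {q}, ∀ Q₂ ∈ Cfsg.maxInvSubgroups ⊤ E {q},
        ∃ k ∈ Cfsg.piCoreOf (Cfsg.primesNotDvd p) (Subgroup.centralizer (E : Set G)), Q₂ = Q₁.map (MulAut.conj k).toMonoidHom := by
  classical
  intro Q₁ hQ₁ Q₂ hQ₂
  have hpp := (Fact.out : p.Prime)
  have hEcomm : ∀ a ∈ E, ∀ b ∈ E, a * b = b * a := by
    intro a ha b hb
    have := hEc.is_comm.comm ⟨a, ha⟩ ⟨b, hb⟩
    exact congrArg Subtype.val this
  -- the elementary abelian subgroup
  unfold PRankLE at hE3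
  push Not at hE3
  obtain ⟨B₀, hB₀c, hB₀p, hcard⟩ := hE3
  set A₀ := B₀.map E.subtype with hA₀def
  have hA₀E : A₀ ≤ E := Subgroup.map_subtype_le _
  have hA₀ : IsElementaryAbelian p A₀ := by
    refine ⟨?_, ?_⟩
    · haveI := hB₀c
      exact Subgroup.map_isMulCommutative B₀ E.subtype
    · rintro _ ⟨a, ha, rfl⟩
      have := hB₀p a ha
      have h2 := congrArg Subtype.val this
      simpa using h2
  have hA₀card : p ^ 2 < Nat.card ↥A₀ := by
    rw [hA₀def, Subgroup.card_map_of_injective E.subtype_injective]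
    exact hcard
  have hA₀3 : p ^ 3 ≤ Nat.card ↥A₀ := by
    obtain ⟨k, hk⟩ := (hEp.to_le hA₀E).exists_card_eq
    rw [hk] at hA₀card ⊢
    have hk3 : 2 < k := (Nat.pow_lt_pow_iff_right hpp.one_lt).mp hA₀card
    exact Nat.pow_le_pow_right hpp.pos hk3
  have hE1 : E ≠ ⊥ := by
    rintro rfl
    have hA' : A₀ = ⊥ := le_bot_iff.mp hA₀E
    rw [hA', Subgroup.card_bot] at hA₀3
    have h2 : 2 ≤ p := hpp.two_le
    have : 2 ^ 3 ≤ p ^ 3 := Nat.pow_le_pow_left h2 3
    omega
  set K := piCoreOf (primesNotDvd p) (Subgroup.centralizer (E : Set G)) with hKdef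
  have hKC : K ≤ Subgroup.centralizer (E : Set G) :=
    Cfsg.Agent.Helper14.BGTrans.piCoreOf_le _ _
  have hK : Cfsg.Agent.Helper14.TransCore.pcoreOf p (Subgroup.normalizer (E : Set G)) ⊓
      Subgroup.centralizer (E : Set G) ≤ K := by
    apply Cfsg.Agent.Helper14.BGTrans.le_piCoreOf _ inf_le_right
    · refine le_trans ?_ Subgroup.inf_normalizer_le_normalizer_inf
      refine le_inf ?_ Subgroup.le_normalizer
      exact (Subgroup.centralizer_le_normalizer _).trans
        (Cfsg.Agent.Helper14.TransCore.le_normalizer_pcoreOf p _)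
    · rw [Cfsg.Agent.Helper14.BGTrans.isPiNum_primesNotDvd_iff]
      exact Nat.Coprime.coprime_dvd_left (Subgroup.card_dvd_of_le inf_le_left)
        (Cfsg.Agent.Helper14.TransCore.card_pcoreOf p _)
  have hEN : ∀ T : Subgroup G, T ≤ E → E ≤ Subgroup.normalizer (T : Set G) := by
    intro T hTE b hb
    apply Cfsg.Agent.Helper7.mem_normalizer_of_forall_conj_mem
    intro t ht
    have : b * t * b⁻¹ = t := by
      rw [hEcomm b hb t (hTE ht)]; group
    rw [this]; exact ht
  have key := Cfsg.Agent.Helper14.TransCore.transitivity_of_local (p := p) (q := q) hqp E hEp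
    hEcomm hE1 A₀ hA₀E hA₀ hA₀3 K hKC ?_ hK hQ₁ hQ₂
  · obtain ⟨c, hc, hcq⟩ := key
    exact ⟨c, hc, hcq.symm⟩
  · intro T hTE hT1 U hUT hU hEU
    have hcon := hloc T (hEp.to_le hTE) hT1
    by_cases hp2 : p = 2
    · exact Cfsg.Agent.Helper14.TransCore.le_pcoreOf_of_inv_class_two p _ hcon
        (Cfsg.Agent.Helper14.TransCore.class_two_of_sylow p (h2 hp2)) E (hEN T hTE) hEp hEcomm
        hEfull U hUT hU hEU
    · exact Cfsg.Agent.Helper14.TransCore.le_pcoreOf_of_inv p hp2 _ hcon E (hEN T hTE) hEp hEfull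
        U hUT hU hEU

end Cfsg.Agent.S1480
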