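import Mathlib
import Cfsg.Statements.S1481
import Cfsg.Agent.Lib.Helper14.BGUniqD

set_option autoImplicit false
open Cfsg

namespace Cfsg.Agent.S1481

/-- Let G be a finite group and H a local subgroup (the normalizer of a nontrivial subgroup of prime-power order) not properly contained in any local subgroup; let F = F(H), suppose at least two primes divide #F, put X = H ∩ C_G(F), let M ≤ F with F ∩ C_G(M) ≤ M, and let R be a solvable subgroup normalized by M and by X. Then for every prime q not dividing #F there is exactly one maximal M-invariant q-subgroup of R, and it is a Sylow q-subgroup of the largest normal subgroup of R of order coprime to #F. -/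
theorem result {G : Type*} [Group G] [Finite G] (H : Subgroup G) (hH : Cfsg.IsLocalSubgroup H) (hHmax : ∀ L : Subgroup G, Cfsg.IsLocalSubgroup L → H ≤ L → L = H)
    (hF2 : 2 ≤ (Nat.card (Cfsg.fittingOf H)).primeFactors.card)
    (M : Subgroup G) (hM : M ≤ Cfsg.fittingOf H) (hCM : Cfsg.fittingOf H ⊓ Subgroup.centralizer (M : Set G) ≤ M)
    (R : Subgroup G) (hR : Group.IsSolvable R) (hMR : M ≤ Subgroup.normalizer (R : Set G))
    (hXR : H ⊓ Subgroup.centralizer (Cfsg.fittingOf H : Set G) ≤ Subgroup.normalizer (R : Set G))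
    (q : ℕ) [Fact q.Prime] (hq : ¬ q ∣ Nat.card (Cfsg.fittingOf H)) :
    ∃! Q : Subgroup G, Q ∈ Cfsg.maxInvSubgroups R M {q} ∧
      (∀ Q' : Subgroup G, Q' ∈ Cfsg.maxInvSubgroups R M {q} →
        Q' ≤ Cfsg.piCoreOf (Cfsg.primesNotDvd (Nat.card (Cfsg.fittingOf H))) R ∧
        ¬ q ∣ Q'.relIndex (Cfsg.piCoreOf (Cfsg.primesNotDvd (Nat.card (Cfsg.fittingOf H))) R)) := by
  classical
  have hLM : Cfsg.Agent.Helper14.BGUniq.IsLocMax H :=
    Cfsg.Agent.Helper14.BGUniq.isLocMax_of_isLocalSubgroup hHmax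
  have hTwo := Cfsg.Agent.Helper14.BGUniq.twoPrimes_of_card hF2
  set F := Cfsg.fittingOf H with hF
  have hF1 : Nat.card ↥F ≠ 1 := by
    intro h1
    rw [h1] at hF2
    simp at hF2
  set O := Cfsg.piCoreOf (Cfsg.primesNotDvd (Nat.card ↥F)) R with hO
  have hOR : O ≤ R := Cfsg.Agent.Helper14.BGTrans.piCoreOf_le _ _
  have hOc : (Nat.card ↥O).Coprime (Nat.card ↥F) :=
    Cfsg.Agent.Helper14.BGTrans.isPiNum_primesNotDvd_iff.mp
      (Cfsg.Agent.Helper14.BGTrans.card_piCoreOf _ _)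
  have hMO : M ≤ Subgroup.normalizer (O : Set G) :=
    hMR.trans (Cfsg.Agent.Helper14.BGTrans.normalizer_le_normalizer_piCoreOf _ _)
  have hMOc : (Nat.card ↥M).Coprime (Nat.card ↥O) :=
    (Nat.Coprime.coprime_dvd_right (Subgroup.card_dvd_of_le hM) hOc).symm
  have hMs : Group.IsSolvable ↥M := Cfsg.Agent.Helper14.BGUniq.isSolvable_of_le_fittingOf hM
  have hC₀ : O ⊓ Subgroup.centralizer (M : Set G) = ⊥ :=
    Cfsg.Agent.Helper14.BGUniq.piCoreOf_inf_centralizer_eq_bot hLM hF1 hM hCM hR hXR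
  obtain ⟨P, hP⟩ := Cfsg.Agent.S0023.result M O hMO hMOc (Or.inl hMs) q
  set Qs := (P : Subgroup ↥O).map O.subtype with hQs
  have hQsO : Qs ≤ O := Subgroup.map_subtype_le _
  have hQsq : IsPGroup q ↥Qs := P.isPGroup'.map _
  have hqc : ∀ Q' : Subgroup G, IsPGroup q ↥Q' → (Nat.card ↥Q').Coprime (Nat.card ↥F) := by
    intro Q' hQ'
    obtain ⟨k, hk⟩ := hQ'.exists_card_eq
    rw [hk]
    exact Nat.Coprime.pow_left k ((Nat.Prime.coprime_iff_not_dvd Fact.out).mpr hq)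
  -- every invariant `q`-subgroup lies in `Qs`
  have hA : ∀ Q' ∈ Cfsg.invSubgroups R M {q}, Q' ≤ Qs := by
    rintro Q' ⟨hQ'R, hQ'π, hMQ'⟩
    have hQ'q : IsPGroup q ↥Q' := (Cfsg.Agent.Helper14.BGTrans.isPiNum_singleton_iff Q').mp hQ'π
    have hQ'O : Q' ≤ O :=
      Cfsg.Agent.Helper14.BGUniq.le_piCoreOf_of_inv hLM hTwo hM hCM hR hMR hXR hQ'R hMQ' (hqc Q' hQ'q)
    obtain ⟨P', hP'U, hP'A⟩ := Cfsg.Agent.S0025.result M O hMO hMOc (Or.inl hMs) q Q' hQ'O hQ'q hMQ'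
    obtain ⟨c, hcM, hc⟩ := Cfsg.Agent.S0024.result M O hMO hMOc (Or.inl hMs) q P P' hP hP'A
    have hc1 : (c : G) ∈ O ⊓ Subgroup.centralizer (M : Set G) := Subgroup.mem_inf.mpr ⟨c.2, hcM⟩
    rw [hC₀, Subgroup.mem_bot] at hc1
    have hc2 : c = 1 := Subtype.ext hc1
    rw [hc2, map_one, one_smul] at hc
    rw [hQs, hc]
    exact hP'U
  have hB : Qs ∈ Cfsg.invSubgroups R M {q} :=
    ⟨hQsO.trans hOR, (Cfsg.Agent.Helper14.BGTrans.isPiNum_singleton_iff Qs).mpr hQsq, hP⟩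
  have hmax : Qs ∈ Cfsg.maxInvSubgroups R M {q} :=
    ⟨hB, fun Q'' hQ'' hle => le_antisymm (hA Q'' hQ'') hle⟩
  have huniq : ∀ Q' ∈ Cfsg.maxInvSubgroups R M {q}, Q' = Qs := by
    rintro Q' ⟨hQ'1, hQ'2⟩
    exact (hQ'2 Qs hB (hA Q' hQ'1)).symm
  have hidx : ¬ q ∣ Qs.relIndex O := by
    have h1 : Qs.subgroupOf O = (P : Subgroup ↥O) := by
      rw [hQs, Subgroup.subgroupOf, Subgroup.comap_map_eq_self_of_injective O.subtype_injective]
    rw [Subgroup.relIndex, h1]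
    exact P.not_dvd_index
  refine ⟨Qs, ⟨hmax, ?_⟩, ?_⟩
  · intro Q' hQ'
    rw [huniq Q' hQ']
    exact ⟨hQsO, hidx⟩
  · rintro Q' ⟨hQ', -⟩
    exact huniq Q' hQ'

end Cfsg.Agent.S1481
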