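import Mathlib
import Cfsg.Statements.S1482
import Cfsg.Agent.Lib.Helper14.BGUniqE

set_option autoImplicit false
open Cfsg

namespace Cfsg.Agent.S1482

/-- Let G be a minimal simple group of odd order, H a maximal subgroup whose Fitting subgroup F has at least two prime divisors, and M a subgroup of F containing the centre of F such that the only M-invariant subgroup of G of order coprime to #F is the trivial one. Then H is the only maximal subgroup of G containing M. -/
theorem result {G : Type*} [Group G] [Finite G] (hG : Cfsg.IsMinSimpleOddOrder G) (H : Subgroup G) (hH : IsCoatom H) (hF2 : 2 ≤ (Nat.card (Cfsg.fittingOf H)).primeFactors.card)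
    (M : Subgroup G) (hM : M ≤ Cfsg.fittingOf H) (hZM : Cfsg.fittingOf H ⊓ Subgroup.centralizer (Cfsg.fittingOf H : Set G) ≤ M)
    (hinv : ∀ Y ∈ Cfsg.invSubgroups ⊤ M (Cfsg.primesNotDvd (Nat.card (Cfsg.fittingOf H))), Y = ⊥) :
    ∀ L : Subgroup G, IsCoatom L → M ≤ L → L = H := by
  intro L hL hML
  have hF1 : Nat.card ↥(Cfsg.fittingOf H) ≠ 1 := by
    intro h1
    rw [h1] at hF2
    simp at hF2
  apply Cfsg.Agent.Helper14.BGUniq.eq_of_le_of_inv_eq_bot hG hH hL
    (Cfsg.Agent.Helper14.BGUniq.twoPrimes_of_card hF2) hF1 hZM _ hML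
  intro Y hMY hcop
  apply hinv Y
  refine ⟨le_top, ?_, hMY⟩
  intro p hp hpY
  refine ⟨hp, ?_⟩
  intro hpF
  have := Nat.Coprime.eq_one_of_dvd (Nat.Coprime.coprime_dvd_left hpY hcop) hpF
  exact hp.one_lt.ne' this

end Cfsg.Agent.S1482
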