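import Mathlib
import Cfsg.Agent.Lib.Helper8.CNMinCover
import Cfsg.Statements.S1484
-- import your own Cfsg.Agent.* helpers here

set_option autoImplicit false
open Cfsg

namespace Cfsg.Agent.S1484

/-- Let G be a minimal simple group of odd order in which every non-identity element has nilpotent centralizer, and M₁, …, M_k maximal subgroups, pairwise non-conjugate, such that every maximal subgroup is conjugate to some M_i. Let H_i be the largest normal nilpotent Hall subgroup of M_i. Then the orders of the H_i are pairwise coprime, their product is the order of G, and every element of G is conjugate to an element of some H_i. -/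
theorem result {G : Type*} [Group G] [Finite G] (hG : Cfsg.IsMinSimpleOddOrder G) (hCN : Cfsg.IsCNGroup G) (k : ℕ) (Mrep : Fin k → Subgroup G) (hmax : ∀ i, IsCoatom (Mrep i))
    (hnc : ∀ i j, i ≠ j → ∀ g : G, Mrep j ≠ (Mrep i).map (MulAut.conj g).toMonoidHom) (hall : ∀ M : Subgroup G, IsCoatom M → ∃ i, ∃ g : G, M = (Mrep i).map (MulAut.conj g).toMonoidHom) :
    (∀ i j, i ≠ j → (Nat.card (Cfsg.fittingHallOf (Mrep i))).Coprime (Nat.card (Cfsg.fittingHallOf (Mrep j)))) ∧
      ∏ i, Nat.card (Cfsg.fittingHallOf (Mrep i)) = Nat.card G ∧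
      ∀ x : G, ∃ i, ∃ g : G, g * x * g⁻¹ ∈ Cfsg.fittingHallOf (Mrep i) := by
  have h := Cfsg.Agent.Helper8.CNMin.Hyp.of_min hG hCN
  have hFT : ∀ i, ∃ E : Subgroup G,
      Cfsg.Agent.Helper8.CNMin.FT (Mrep i) (Cfsg.fittingHallOf (Mrep i)) E :=
    fun i => Cfsg.Agent.Helper8.CNMin.coatom_FT' h (hmax i)
  have hMN : ∀ i, Cfsg.Agent.Helper8.CNMin.MaxNil (Cfsg.fittingHallOf (Mrep i)) := by
    intro i
    obtain ⟨E, hft⟩ := hFT i
    exact hft.maxNil h (hmax i)
  have hN : ∀ i, Subgroup.normalizer ((Cfsg.fittingHallOf (Mrep i) : Subgroup G) : Set G) =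
      Mrep i := by
    intro i
    obtain ⟨E, hft⟩ := hFT i
    exact hft.normalizer_eq h (hmax i)
  have hcov := Cfsg.Agent.Helper8.CNMin.exists_conj_mem_kernel h Mrep hmax hall
  have hcop : ∀ i j, i ≠ j → (Nat.card (Cfsg.fittingHallOf (Mrep i))).Coprime
      (Nat.card (Cfsg.fittingHallOf (Mrep j))) := by
    intro i j hij
    rcases (hMN i).conj_or_coprime hCN (hMN j) with ⟨g, hg⟩ | hc
    · exfalso
      apply hnc i j hij g
      rw [← hN j, hg, Cfsg.Agent.Helper8.CNMin.normalizer_map_conj, hN i]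
    · exact hc
  refine ⟨hcop, ?_, hcov⟩
  apply Nat.dvd_antisymm
  · apply Fintype.prod_dvd_of_isRelPrime
    · intro i j hij
      exact Nat.coprime_iff_isRelPrime.mp (hcop i j hij)
    · intro i
      exact Subgroup.card_subgroup_dvd_card _
  · rw [Nat.dvd_iff_prime_pow_dvd_dvd]
    intro p n hp hpn
    rcases Nat.eq_zero_or_pos n with h0 | hpos
    · rw [h0, pow_zero]; exact one_dvd _
    have hpG : p ∣ Nat.card G := dvd_trans (dvd_pow_self p hpos.ne') hpn
    haveI : Fact p.Prime := ⟨hp⟩
    obtain ⟨x, hx⟩ := exists_prime_orderOf_dvd_card' p hpG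
    obtain ⟨i, g, hg⟩ := hcov x
    have hord : orderOf (g * x * g⁻¹) = p := by
      have : g * x * g⁻¹ = MulAut.conj g x := by simp [MulAut.conj_apply]
      rw [this, MulEquiv.orderOf_eq, hx]
    have hpK : p ∣ Nat.card (Cfsg.fittingHallOf (Mrep i)) := by
      rw [← hord]
      exact Subgroup.orderOf_dvd_natCard _ hg
    have hHall := (hMN i).coprime hCN
    have hmul := Subgroup.card_mul_index (Cfsg.fittingHallOf (Mrep i))
    have hpi : ¬ p ∣ (Cfsg.fittingHallOf (Mrep i)).index := by
      intro hd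
      have := Nat.dvd_gcd hpK hd
      rw [hHall] at this
      exact hp.one_lt.ne' (Nat.dvd_one.mp this)
    have h1 : p ^ n ∣ Nat.card (Cfsg.fittingHallOf (Mrep i)) := by
      rw [← hmul] at hpn
      exact Nat.Coprime.dvd_of_dvd_mul_right
        (Nat.Coprime.pow_left n ((Nat.Prime.coprime_iff_not_dvd hp).mpr hpi)) hpn
    exact dvd_trans h1 (Finset.dvd_prod_of_mem _ (Finset.mem_univ i))

end Cfsg.Agent.S1484
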