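import Mathlib
import Cfsg.Statements.S1485
import Cfsg.Agent.Lib.Helper8.IndFun

set_option autoImplicit false
open Cfsg

namespace Cfsg.Agent.S1485

variable {G : Type*} [Group G]

/-- the conjugate function `h ↦ θ (g h g⁻¹)` -/
def cj (H : Subgroup G) [hN : H.Normal] (θ : H → ℂ) (g : G) : H → ℂ :=
  fun h : H => θ ⟨g * h * g⁻¹, hN.conj_mem h h.2 g⟩

theorem cj_eq_iff (H : Subgroup G) [hN : H.Normal] (θ : H → ℂ) (g g₀ : G) :
    cj H θ g = cj H θ g₀ ↔
      ∀ h : H, θ ⟨(g * g₀⁻¹) * h * (g * g₀⁻¹)⁻¹, hN.conj_mem h h.2 (g * g₀⁻¹)⟩ = θ h := by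
  constructor
  · intro hc h
    have h1 := congrFun hc ⟨g₀⁻¹ * h * g₀⁻¹⁻¹, hN.conj_mem h h.2 g₀⁻¹⟩
    unfold cj at h1
    have e1 : (⟨g * (g₀⁻¹ * (h : G) * g₀⁻¹⁻¹) * g⁻¹, hN.conj_mem _ (hN.conj_mem h h.2 g₀⁻¹) g⟩ : H)
        = ⟨(g * g₀⁻¹) * h * (g * g₀⁻¹)⁻¹, hN.conj_mem h h.2 (g * g₀⁻¹)⟩ := by
      apply Subtype.ext
      simp only
      group
    have e2 : (⟨g₀ * (g₀⁻¹ * (h : G) * g₀⁻¹⁻¹) * g₀⁻¹, hN.conj_mem _ (hN.conj_mem h h.2 g₀⁻¹) g₀⟩ : H) = h := by
      apply Subtype.ext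
      simp only
      group
    simp only at h1
    rw [e1, e2] at h1
    exact h1
  · intro hc
    funext h
    have h1 := hc ⟨g₀ * h * g₀⁻¹, hN.conj_mem h h.2 g₀⟩
    unfold cj
    have e1 : (⟨(g * g₀⁻¹) * (g₀ * (h : G) * g₀⁻¹) * (g * g₀⁻¹)⁻¹,
        hN.conj_mem _ (hN.conj_mem h h.2 g₀) (g * g₀⁻¹)⟩ : H) = ⟨g * h * g⁻¹, hN.conj_mem h h.2 g⟩ := by
      apply Subtype.ext
      simp only
      group
    simp only at h1
    rw [e1] at h1
    exact h1

/-- Let H be a normal subgroup of the finite group G and θ an irreducible character of H. On H, the function induced from θ equals r times the sum of the distinct G-conjugates of θ, where r is the number of elements of G fixing θ under conjugation divided by the order of H (the index of H in the inertia group). -/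
theorem result {G : Type*} [Group G] [Fintype G] (H : Subgroup G) [hN : H.Normal] (θ : H → ℂ) (hθ : Cfsg.IsIrrCharacter H θ) : (fun h : H => Cfsg.indFun H θ h) = ((Nat.card {g : G // ∀ h : H, θ ⟨g * h * g⁻¹, hN.conj_mem h h.2 g⟩ = θ h} : ℂ) / (Nat.card H : ℂ)) • ∑ᶠ ψ ∈ {ψ : H → ℂ | ∃ g : G, ψ = fun h : H => θ ⟨g * h * g⁻¹, hN.conj_mem h h.2 g⟩}, ψ := by
  classical
  set T := {g : G // ∀ h : H, θ ⟨g * h * g⁻¹, hN.conj_mem h h.2 g⟩ = θ h} with hT
  -- Step 1: LHS in terms of the sum of conjugates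
  have step1 : (fun h : H => Cfsg.indFun H θ h) = (Nat.card H : ℂ)⁻¹ • ∑ g : G, cj H θ g := by
    funext h
    rw [Cfsg.Agent.Helper8.indFun_apply]
    simp only [Pi.smul_apply, Finset.sum_apply, smul_eq_mul]
    congr 1
    apply Fintype.sum_equiv (Equiv.inv G)
    intro x
    simp only [Equiv.inv_apply]
    rw [Cfsg.Agent.Helper8.extendByZero_of_mem H θ _ (by
      have := hN.conj_mem h h.2 x⁻¹
      simpa using this)]
    unfold cj
    congr 1
    apply Subtype.ext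
    simp
  -- Step 2: the fibers of `cj` all have the size of `T`
  have fiber : ∀ g₀ : G, (Finset.univ.filter fun g : G => cj H θ g = cj H θ g₀).card = Nat.card T := by
    intro g₀
    rw [← Fintype.card_subtype, ← Nat.card_eq_fintype_card]
    apply Nat.card_congr
    refine Equiv.subtypeEquiv (Equiv.mulRight g₀⁻¹) ?_
    intro g
    rw [cj_eq_iff]
    rfl
  have step2 : ∑ g : G, cj H θ g = (Nat.card T : ℂ) • ∑ ψ ∈ Finset.univ.image (cj H θ), ψ := by
    rw [Finset.sum_comp (fun ψ : H → ℂ => ψ) (cj H θ), Finset.smul_sum]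
    apply Finset.sum_congr rfl
    intro ψ hψ
    obtain ⟨g₀, _, rfl⟩ := Finset.mem_image.mp hψ
    rw [fiber g₀]
    simp [Nat.cast_smul_eq_nsmul]
  have hset : {ψ : H → ℂ | ∃ g : G, ψ = fun h : H => θ ⟨g * h * g⁻¹, hN.conj_mem h h.2 g⟩}
      = ((Finset.univ.image (cj H θ) : Finset (H → ℂ)) : Set (H → ℂ)) := by
    ext ψ
    simp only [Set.mem_setOf_eq, Finset.coe_image, Finset.coe_univ, Set.image_univ, Set.mem_range]
    constructor
    · rintro ⟨g, rfl⟩; exact ⟨g, rfl⟩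
    · rintro ⟨g, rfl⟩; exact ⟨g, rfl⟩
  rw [step1, step2, hset, finsum_mem_coe_finset, smul_smul]
  congr 1
  rw [div_eq_mul_inv, mul_comm]

end Cfsg.Agent.S1485
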