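import Mathlib
import Cfsg.Statements.S1486
import Cfsg.Agent.Lib.Helper24.CharComplete
import Cfsg.Agent.Lib.Helper8.IndFun

set_option autoImplicit false
open Cfsg

namespace Cfsg.Agent.S1486

open Cfsg.Agent.Helper24 Cfsg.Agent.Helper8

/-- Twisting an irreducible character by an automorphism gives an irreducible character. -/
lemma irr_comp_equiv {H : Type*} [Group H] (σ : H ≃* H) {θ : H → ℂ}
    (hθ : Cfsg.IsIrrCharacter H θ) : Cfsg.IsIrrCharacter H (fun h => θ (σ h)) := by
  obtain ⟨n, ρ, hρ, rfl⟩ := hθ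
  refine ⟨n, ρ.comp σ.toMonoidHom, ?_, ?_⟩
  · rw [isIrreducible_iff] at hρ ⊢
    refine ⟨hρ.1, fun U hU => hρ.2 U ?_⟩
    intro g v hv
    have := hU (σ.symm g) v hv
    simpa using this
  · ext h; rfl

lemma irr_conj {G : Type*} [Group G] (H : Subgroup G) [hN : H.Normal] {θ : H → ℂ}
    (hθ : Cfsg.IsIrrCharacter H θ) (g : G) :
    Cfsg.IsIrrCharacter H (fun h : H => θ ⟨g * h * g⁻¹, hN.conj_mem h h.2 g⟩) :=
  irr_comp_equiv (MulAut.conjNormal g) hθ

lemma ext_conj {G : Type*} [Group G] (H : Subgroup G) [hN : H.Normal] (θ : H → ℂ) (g z : G) :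
    Cfsg.extendByZero H (fun h : H => θ ⟨g * h * g⁻¹, hN.conj_mem h h.2 g⟩) z
      = Cfsg.extendByZero H θ (g * z * g⁻¹) := by
  by_cases hz : z ∈ H
  · rw [extendByZero_of_mem _ _ _ hz, extendByZero_of_mem _ _ _ (hN.conj_mem z hz g)]
  · rw [extendByZero_of_not_mem _ _ _ hz, extendByZero_of_not_mem]
    intro h
    apply hz
    have := hN.conj_mem _ h g⁻¹
    simpa [mul_assoc] using this

/-- Let H be a normal subgroup of the finite group G and θ, φ irreducible characters of H. If φ is a G-conjugate of θ then the functions induced from θ and φ coincide; if φ is not a G-conjugate of θ then the induced functions are orthogonal. -/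
theorem result {G : Type*} [Group G] [Fintype G] (H : Subgroup G) [hN : H.Normal] (θ φ : H → ℂ) (hθ : Cfsg.IsIrrCharacter H θ) (hφ : Cfsg.IsIrrCharacter H φ) : ((∃ g : G, φ = fun h : H => θ ⟨g * h * g⁻¹, hN.conj_mem h h.2 g⟩) → Cfsg.indFun H φ = Cfsg.indFun H θ) ∧ ((¬ ∃ g : G, φ = fun h : H => θ ⟨g * h * g⁻¹, hN.conj_mem h h.2 g⟩) → Cfsg.classInner (Cfsg.indFun H φ) (Cfsg.indFun H θ) = 0) := by
  classical
  haveI : Fintype H := Fintype.ofFinite _
  constructor
  · rintro ⟨g, rfl⟩
    ext x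
    rw [indFun_apply, indFun_apply]
    congr 1
    apply Fintype.sum_equiv (Equiv.mulRight g⁻¹)
    intro y
    rw [ext_conj]
    congr 1
    simp only [Equiv.coe_mulRight, mul_inv_rev, inv_inv]
    group
  · intro hne
    rw [classInner_indFun_left H φ _ (indFun_isClassFunction H θ)]
    have hres : (fun h : H => Cfsg.indFun H θ h)
        = (Nat.card H : ℂ)⁻¹ • ∑ y : G, (fun h : H => θ ⟨y⁻¹ * h * y⁻¹⁻¹, hN.conj_mem h h.2 y⁻¹⟩) := by
      ext h
      rw [indFun_apply]
      simp only [Pi.smul_apply, Finset.sum_apply, smul_eq_mul]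
      congr 1
      refine Finset.sum_congr rfl fun y _ => ?_
      have hm : y⁻¹ * (h : G) * y ∈ H := by
        have := hN.conj_mem h h.2 y⁻¹
        simpa using this
      rw [extendByZero_of_mem _ _ _ hm]
      congr 1
      apply Subtype.ext
      simp
    rw [hres, Helper24.classInner_smul_right, Helper24.classInner_sum_right]
    rw [Finset.sum_eq_zero, mul_zero]
    intro y _
    rw [irr_orthogonality hφ (irr_conj H hθ y⁻¹), if_neg]
    intro h
    exact hne ⟨y⁻¹, h⟩

end Cfsg.Agent.S1486
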