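import Mathlib
import Cfsg.Statements.S1487
import Cfsg.Agent.Lib.Helper8.CharBound
import Cfsg.Agent.Lib.Helper8.IndFun
import Cfsg.Agent.Lib.Helper24.CharLinear

set_option autoImplicit false
open Cfsg

namespace Cfsg.Agent.S1487

open Cfsg.Agent.Helper8

/-- Let A ≤ H be normal subgroups of the finite group G and θ an irreducible character of H. Then θ takes the value θ 1 on all of A if and only if the function induced from θ to G takes its value at 1 on all of A. -/
theorem result {G : Type*} [Group G] [Fintype G] (A H : Subgroup G) [A.Normal] [H.Normal] (hAH : A ≤ H) (θ : H → ℂ) (hθ : Cfsg.IsIrrCharacter H θ) : (∀ a : H, (a : G) ∈ A → θ a = θ 1) ↔ (∀ a : G, a ∈ A → Cfsg.indFun H θ a = Cfsg.indFun H θ 1) := by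
  classical
  have hchar : Cfsg.IsCharacter H θ := Cfsg.Agent.Helper24.isCharacter_of_isIrrCharacter hθ
  obtain ⟨n, hn1, hnle, hneq⟩ := char_bound hchar
  have hcard : (Nat.card H : ℂ) ≠ 0 := by
    exact_mod_cast (Nat.card_pos (α := H)).ne'
  have hone : ∀ x : G, Cfsg.extendByZero H θ (x⁻¹ * 1 * x) = θ 1 := by
    intro x
    have : x⁻¹ * 1 * x = ((1 : H) : G) := by simp
    rw [this, extendByZero_coe]
  constructor
  · intro h a ha
    rw [Helper8.indFun_apply, Helper8.indFun_apply]
    congr 1
    refine Finset.sum_congr rfl fun x _ => ?_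
    rw [hone x]
    have hmem : x⁻¹ * a * x ∈ A := by
      have := ‹A.Normal›.conj_mem a ha x⁻¹
      simpa using this
    rw [extendByZero_of_mem H θ _ (hAH hmem)]
    exact h ⟨_, hAH hmem⟩ hmem
  · intro h a ha
    have h1 := h (a : G) ha
    rw [Helper8.indFun_apply, Helper8.indFun_apply] at h1
    have h2 : ∑ x : G, Cfsg.extendByZero H θ (x⁻¹ * (a : G) * x) =
        ∑ x : G, Cfsg.extendByZero H θ (x⁻¹ * 1 * x) := mul_left_cancel₀ (inv_ne_zero hcard) h1
    have h3 : ∑ x : G, (Cfsg.extendByZero H θ (x⁻¹ * (a : G) * x)).re = ∑ _x : G, (n : ℝ) := by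
      have := congrArg Complex.re h2
      rw [Complex.re_sum, Complex.re_sum] at this
      rw [this]
      refine Finset.sum_congr rfl fun x _ => ?_
      rw [hone x, hn1]
      simp
    have hle : ∀ x ∈ (Finset.univ : Finset G),
        (Cfsg.extendByZero H θ (x⁻¹ * (a : G) * x)).re ≤ (n : ℝ) := by
      intro x _
      have hmem : x⁻¹ * (a : G) * x ∈ H := by
        have := ‹H.Normal›.conj_mem a a.2 x⁻¹
        simpa using this
      rw [extendByZero_of_mem H θ _ hmem]
      exact le_trans (Complex.re_le_norm _) (hnle _)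
    have h4 := (Finset.sum_eq_sum_iff_of_le hle).mp h3 1 (Finset.mem_univ 1)
    have h5 : (1 : G)⁻¹ * (a : G) * 1 = (a : G) := by simp
    rw [h5, extendByZero_coe] at h4
    rw [hneq a h4, hn1]

end Cfsg.Agent.S1487
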