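import Mathlib
import Cfsg.Statements.S1488
import Cfsg.Agent.Lib.Helper8.IndFun

set_option autoImplicit false
open Cfsg

namespace Cfsg.Agent.S1488

theorem card_eq {G : Type*} [Group G] [Finite G] (A H : Subgroup G) [A.Normal] (hAH : A ≤ H) :
    Nat.card H = Nat.card (H.map (QuotientGroup.mk' A)) * Nat.card A := by
  set f : H →* G ⧸ A := (QuotientGroup.mk' A).domRestrict H with hf
  have h1 := Subgroup.index_mul_card f.ker
  rw [Subgroup.index_ker, MonoidHom.domRestrict_range, MonoidHom.ker_domRestrict, QuotientGroup.ker_mk'] at h1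
  rw [← h1]
  congr 1
  exact Nat.card_congr (Subgroup.subgroupOfEquivOfLe hAH).toEquiv

/-- Let A be a normal subgroup of the finite group G contained in the subgroup H, let θ be a function on H and θ₁ a function on the image of H in G ⧸ A whose composite with the projection is θ. Then the function induced from θ₁ to G ⧸ A, composed with the projection G → G ⧸ A, equals the function induced from θ to G. -/
theorem result {G : Type*} [Group G] [Fintype G] (A H : Subgroup G) [A.Normal] (hAH : A ≤ H) [Fintype (G ⧸ A)] [Fintype ↥(H.map (QuotientGroup.mk' A))] (θ : H → ℂ) (θ₁ : ↥(H.map (QuotientGroup.mk' A)) → ℂ) (hθ : ∀ x : H, θ₁ ⟨QuotientGroup.mk' A x, Subgroup.mem_map_of_mem _ x.2⟩ = θ x) (g : G) : Cfsg.indFun (H.map (QuotientGroup.mk' A)) θ₁ (QuotientGroup.mk' A g) = Cfsg.indFun H θ g := by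
  have key : ∀ z : G, Cfsg.extendByZero (H.map (QuotientGroup.mk' A)) θ₁ (QuotientGroup.mk' A z)
      = Cfsg.extendByZero H θ z := by
    intro z
    by_cases hz : z ∈ H
    · rw [Cfsg.Agent.Helper8.extendByZero_of_mem H θ z hz,
        Cfsg.Agent.Helper8.extendByZero_of_mem _ θ₁ _ (Subgroup.mem_map_of_mem _ hz)]
      exact hθ ⟨z, hz⟩
    · rw [Cfsg.Agent.Helper8.extendByZero_of_not_mem H θ z hz,
        Cfsg.Agent.Helper8.extendByZero_of_not_mem]
      rintro ⟨h, hh, hhz⟩
      apply hz
      have : h⁻¹ * z ∈ A := by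
        rw [← QuotientGroup.eq_one_iff]
        have h2 : ((h⁻¹ * z : G) : G ⧸ A) = (QuotientGroup.mk' A h)⁻¹ * QuotientGroup.mk' A z := by
          simp
        rw [h2, hhz]
        simp
      have h3 : z = h * (h⁻¹ * z) := by group
      rw [h3]
      exact H.mul_mem hh (hAH this)
  rw [Cfsg.Agent.Helper8.indFun_apply, Cfsg.Agent.Helper8.indFun_apply]
  have hsum : ∑ x : G, Cfsg.extendByZero H θ (x⁻¹ * g * x)
      = (Nat.card A : ℂ) * ∑ y : G ⧸ A,
          Cfsg.extendByZero (H.map (QuotientGroup.mk' A)) θ₁ (y⁻¹ * QuotientGroup.mk' A g * y) := by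
    have := Cfsg.Agent.Helper8.sum_comp_surjective_hom (QuotientGroup.mk' A)
      (QuotientGroup.mk'_surjective A)
      (fun y => Cfsg.extendByZero (H.map (QuotientGroup.mk' A)) θ₁ (y⁻¹ * QuotientGroup.mk' A g * y))
    rw [QuotientGroup.ker_mk'] at this
    rw [← this]
    apply Finset.sum_congr rfl
    intro x _
    rw [← key]
    simp
  rw [hsum, card_eq A H hAH]
  have hA : (Nat.card A : ℂ) ≠ 0 := by
    have : 0 < Nat.card A := Nat.card_pos
    exact_mod_cast this.ne'
  have hHbar : (Nat.card (H.map (QuotientGroup.mk' A)) : ℂ) ≠ 0 := by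
    have : 0 < Nat.card (H.map (QuotientGroup.mk' A)) := Nat.card_pos
    exact_mod_cast this.ne'
  push_cast
  field_simp

end Cfsg.Agent.S1488
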