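import Mathlib
import Cfsg.Statements.S1489
import Cfsg.Agent.Lib.Helper8.Clifford

set_option autoImplicit false
open Cfsg

namespace Cfsg.Agent.S1489

open Cfsg.Agent.Helper8 Cfsg.Agent.Helper24
open scoped ComplexConjugate

section

variable {G : Type*} [Group G] [Fintype G] (H T : Subgroup G) [hN : H.Normal] [Fintype T]
  (θ : H → ℂ)

/-- `θ` viewed on `H.subgroupOf T` -/
noncomputable def thetaT : H.subgroupOf T → ℂ :=
  fun x => θ ⟨(x : T), Subgroup.mem_subgroupOf.mp x.2⟩

variable {H T θ}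

lemma thetaT_eq (hHT : H ≤ T) : thetaT H T θ = θ ∘ (Subgroup.subgroupOfEquivOfLe hHT) := rfl

lemma restrict_eq (hHT : H ≤ T) (χ : G → ℂ) :
    (fun k : H.subgroupOf T => χ ((k : T) : G)) =
      (fun h : H => χ h) ∘ (Subgroup.subgroupOfEquivOfLe hHT) := rfl

/-- the stabiliser of `θ` lies in `T` -/
lemma stab_le (hT : ∀ g : G, g ∈ T ↔ ∀ h : H, θ ⟨g * h * g⁻¹, hN.conj_mem h h.2 g⟩ = θ h)
    (y : G) (hy : Helper24.conjFun H y θ = θ) : y ∈ T := by
  have h1 : y⁻¹ ∈ T := by
    rw [hT]
    intro h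
    have := congrFun hy h
    rw [conjFun_apply] at this
    rw [← this]
    congr 1
  simpa using T.inv_mem h1

/-- `T` fixes `θ` -/
lemma thetaT_invariant
    (hT : ∀ g : G, g ∈ T ↔ ∀ h : H, θ ⟨g * h * g⁻¹, hN.conj_mem h h.2 g⟩ = θ h) (s : T) :
    Helper24.conjFun (H.subgroupOf T) s (thetaT H T θ) = thetaT H T θ := by
  ext x
  rw [conjFun_apply]
  have h1 := (hT ((s : G)⁻¹)).1 (T.inv_mem s.2) ⟨((x : T) : G), Subgroup.mem_subgroupOf.mp x.2⟩
  unfold thetaT
  rw [← h1]
  congr 1

/-- the main step: irreducibility and equality of multiplicities -/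
lemma main [Fintype H] [Fintype (H.subgroupOf T)] (hθ : Cfsg.IsIrrCharacter H θ)
    (hT : ∀ g : G, g ∈ T ↔ ∀ h : H, θ ⟨g * h * g⁻¹, hN.conj_mem h h.2 g⟩ = θ h) (hHT : H ≤ T)
    (ψ : T → ℂ) (hψ : Cfsg.IsIrrCharacter T ψ)
    (hc : Cfsg.classInner (Cfsg.indFun (H.subgroupOf T) (thetaT H T θ)) ψ ≠ 0) :
    Cfsg.IsIrrCharacter G (Cfsg.indFun T ψ) ∧
      (Cfsg.classInner (fun h : H => Cfsg.indFun T ψ h) θ).re =
        (Cfsg.classInner (fun k : H.subgroupOf T => ψ k) (thetaT H T θ)).re := by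
  classical
  letI : Fintype (Cfsg.IrrCharacter (H.subgroupOf T)) := irrFintype
  letI : Fintype (Cfsg.IrrCharacter H) := irrFintype
  have hθT : Cfsg.IsIrrCharacter (H.subgroupOf T) (thetaT H T θ) := by
    rw [thetaT_eq hHT]
    exact isIrrCharacter_comp_equiv _ hθ
  have hψc : Cfsg.IsCharacter T ψ := isCharacter_of_isIrrCharacter hψ
  have hψcf : Cfsg.IsClassFunction T ψ := isClassFunction_of_isCharacter hψc
  have hψHT : Cfsg.IsCharacter (H.subgroupOf T) (fun k : H.subgroupOf T => ψ k) :=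
    isCharacter_restrict _ hψc
  -- (b) `θ_T` is a constituent of the restriction of `ψ`
  have hf : Cfsg.classInner (fun k : H.subgroupOf T => ψ k) (thetaT H T θ) ≠ 0 := by
    rw [frobenius_reciprocity _ _ hψcf] at hc
    intro h0
    apply hc
    rw [← Helper24.classInner_conj_symm, h0, map_zero]
  obtain ⟨f, hfpos, hfeq⟩ := constituent_mult hψHT hθT hf
  -- (c), (d) the degree of `ψ`
  obtain ⟨d, hdpos, hd⟩ := irr_one_eq hθ
  have hθT1 : thetaT H T θ 1 = d := by
    rw [← hd]
    unfold thetaT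
    congr 1
  have hψ1 : ψ 1 = (f : ℂ) * d := by
    have h1 := char_apply_eq_sum hψHT 1
    simp only [Subgroup.coe_one] at h1
    rw [h1, Finset.sum_eq_single (⟨thetaT H T θ, hθT⟩ : Cfsg.IrrCharacter (H.subgroupOf T))]
    · simp only [hfeq, hθT1]
    · intro φ _ hne
      have h0 : Cfsg.classInner (fun k : H.subgroupOf T => ψ k) (φ : H.subgroupOf T → ℂ) = 0 := by
        by_contra hne0
        obtain ⟨s, hs⟩ := clifford_conj (H.subgroupOf T) hψ hθT φ.2 hf hne0
        rw [thetaT_invariant hT s] at hs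
        exact hne (Subtype.ext hs)
      rw [h0, zero_mul]
    · intro hh; exact absurd (Finset.mem_univ _) hh
  -- (e) an irreducible constituent of the induced character
  have hind : Cfsg.IsCharacter G (Cfsg.indFun T ψ) := isCharacter_indFun T hψc
  have hind1 : Cfsg.indFun T ψ 1 = ((T.index * f * d : ℕ) : ℂ) := by
    rw [Helper24.indFun_one, hψ1]; push_cast; ring
  have hind1_ne : Cfsg.indFun T ψ 1 ≠ 0 := by
    rw [hind1, Nat.cast_ne_zero]
    have : 0 < T.index := Nat.pos_of_ne_zero Subgroup.index_ne_zero_of_finite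
    positivity
  obtain ⟨χ, hχ, hχne⟩ := exists_constituent hind hind1_ne
  have hχc : Cfsg.IsCharacter G χ := isCharacter_of_isIrrCharacter hχ
  have hχcf : Cfsg.IsClassFunction G χ := isClassFunction_of_isCharacter hχc
  have hχT : Cfsg.IsCharacter T (fun t : T => χ t) := isCharacter_restrict T hχc
  have hχψ : Cfsg.classInner (fun t : T => χ t) ψ ≠ 0 := by
    rw [frobenius_reciprocity T ψ hχcf] at hχne
    intro h0
    apply hχne
    rw [← Helper24.classInner_conj_symm, h0, map_zero]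
  -- (f) comparison of multiplicities
  have htrans : ∀ ξ : G → ℂ, Cfsg.classInner (fun k : H.subgroupOf T => ξ ((k : T) : G))
      (thetaT H T θ) = Cfsg.classInner (fun h : H => ξ h) θ := by
    intro ξ
    rw [restrict_eq hHT ξ, thetaT_eq hHT]
    exact classInner_comp_equiv _ _ _
  have hle1 := mult_restrict_ge (H.subgroupOf T) hχT hψ hχψ (isCharacter_of_isIrrCharacter hθT)
  rw [htrans χ] at hle1
  -- (g) the Clifford bound
  have hle2 := clifford_degree_ge H T hθ (stab_le hT) hχc
  -- (h) the degree bound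
  have hle3 := constituent_degree_le hind hχ hχne
  -- numbers
  obtain ⟨n, hn, -, -⟩ := char_bound hχc
  obtain ⟨E, hE⟩ := classInner_char_nat (isCharacter_restrict H hχc)
    (isCharacter_of_isIrrCharacter hθ)
  rw [hE, hfeq] at hle1
  rw [hE, hd, hn] at hle2
  rw [hind1, hn] at hle3
  simp only [Complex.natCast_re] at hle1 hle2 hle3
  have hcardG : (Nat.card G : ℝ) = (T.index : ℝ) * (Nat.card T : ℝ) := by
    rw [← Nat.cast_mul, mul_comm, Subgroup.card_mul_index]
  have hTpos : (0 : ℝ) < Nat.card T := by exact_mod_cast Nat.card_pos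
  have hipos : (0 : ℝ) < T.index := by
    have : 0 < T.index := Nat.pos_of_ne_zero Subgroup.index_ne_zero_of_finite
    exact_mod_cast this
  have hdposR : (0 : ℝ) < d := by exact_mod_cast hdpos
  have hle2' : (T.index : ℝ) * ((E : ℝ) * d) ≤ n := by
    rw [hcardG] at hle2
    have : (Nat.card T : ℝ) * ((T.index : ℝ) * ((E : ℝ) * d)) ≤ (Nat.card T : ℝ) * n := by
      calc (Nat.card T : ℝ) * ((T.index : ℝ) * ((E : ℝ) * d))
          = (T.index : ℝ) * (Nat.card T : ℝ) * ((E : ℝ) * d) := by ring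
        _ ≤ (Nat.card T : ℝ) * n := hle2
    exact le_of_mul_le_mul_left this hTpos
  have hle3' : (n : ℝ) ≤ (T.index : ℝ) * f * d := by
    have := hle3
    push_cast at this
    exact this
  have hEf : (E : ℝ) = f := by
    apply le_antisymm _ hle1
    have h1 : (T.index : ℝ) * ((E : ℝ) * d) ≤ (T.index : ℝ) * f * d := le_trans hle2' hle3'
    have h2 : ((T.index : ℝ) * d) * E ≤ ((T.index : ℝ) * d) * f := by
      calc ((T.index : ℝ) * d) * E = (T.index : ℝ) * ((E : ℝ) * d) := by ring
        _ ≤ (T.index : ℝ) * f * d := h1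
        _ = ((T.index : ℝ) * d) * f := by ring
    exact le_of_mul_le_mul_left h2 (by positivity)
  have hnval : (n : ℝ) = (T.index : ℝ) * f * d := by
    apply le_antisymm hle3'
    rw [← hEf]
    calc (T.index : ℝ) * E * d = (T.index : ℝ) * ((E : ℝ) * d) := by ring
      _ ≤ n := hle2'
  have hnval' : n = T.index * f * d := by exact_mod_cast hnval
  have heq : Cfsg.indFun T ψ = χ := by
    apply eq_of_constituent_of_degree_eq hind hχ hχne
    rw [hind1, hn, hnval']
  refine ⟨heq ▸ hχ, ?_⟩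
  rw [heq, hE, hfeq]
  simp only [Complex.natCast_re]
  exact hEf

end

/-- Let H be a normal subgroup of the finite group G, θ an irreducible character of H, and T the inertia group of θ (the elements g with θ(g h g⁻¹) = θ(h) for all h ∈ H). If ψ and ψ' are irreducible characters of T having nonzero inner product with the function induced from θ to T, then the function induced from ψ to G is an irreducible character of G, and it equals the one induced from ψ' only if ψ = ψ'. -/
theorem result {G : Type*} [Group G] [Fintype G] (H T : Subgroup G) [hN : H.Normal] [Fintype T] (θ : H → ℂ) (hθ : Cfsg.IsIrrCharacter H θ) (hT : ∀ g : G, g ∈ T ↔ ∀ h : H, θ ⟨g * h * g⁻¹, hN.conj_mem h h.2 g⟩ = θ h) (hHT : H ≤ T) (ψ ψ' : T → ℂ) (hψ : Cfsg.IsIrrCharacter T ψ) (hψ' : Cfsg.IsIrrCharacter T ψ') (hc : Cfsg.classInner (Cfsg.indFun (H.subgroupOf T) (fun x => θ ⟨(x : T), Subgroup.mem_subgroupOf.mp x.2⟩)) ψ ≠ 0) (hc' : Cfsg.classInner (Cfsg.indFun (H.subgroupOf T) (fun x => θ ⟨(x : T), Subgroup.mem_subgroupOf.mp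 x.2⟩)) ψ' ≠ 0) : Cfsg.IsIrrCharacter G (Cfsg.indFun T ψ) ∧ (Cfsg.indFun T ψ = Cfsg.indFun T ψ' → ψ = ψ') := by
  classical
  haveI : Fintype H := Fintype.ofFinite H
  haveI : Fintype (H.subgroupOf T) := Fintype.ofFinite _
  obtain ⟨hirr, hmult⟩ := main hθ hT hHT ψ hψ hc
  refine ⟨hirr, ?_⟩
  intro heq
  by_contra hne
  set χ := Cfsg.indFun T ψ with hχdef
  have hχc : Cfsg.IsCharacter G χ := isCharacter_of_isIrrCharacter hirr
  have hχcf : Cfsg.IsClassFunction G χ := isClassFunction_of_isCharacter hχc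
  have hχT : Cfsg.IsCharacter T (fun t : T => χ t) := isCharacter_restrict T hχc
  have hθT : Cfsg.IsIrrCharacter (H.subgroupOf T) (thetaT H T θ) := by
    rw [thetaT_eq hHT]
    exact isIrrCharacter_comp_equiv _ hθ
  have hnorm : Cfsg.classInner χ χ = 1 := by rw [irr_orthogonality hirr hirr, if_pos rfl]
  have hχψ : Cfsg.classInner (fun t : T => χ t) ψ ≠ 0 := by
    have h1 : Cfsg.classInner (Cfsg.indFun T ψ) χ ≠ 0 := by
      rw [← hχdef, hnorm]; exact one_ne_zero
    rw [frobenius_reciprocity T ψ hχcf] at h1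
    intro h0
    apply h1
    rw [← Helper24.classInner_conj_symm, h0, map_zero]
  have hχψ' : Cfsg.classInner (fun t : T => χ t) ψ' ≠ 0 := by
    have h1 : Cfsg.classInner (Cfsg.indFun T ψ') χ ≠ 0 := by
      rw [← heq, hnorm]; exact one_ne_zero
    rw [frobenius_reciprocity T ψ' hχcf] at h1
    intro h0
    apply h1
    rw [← Helper24.classInner_conj_symm, h0, map_zero]
  have htwo := mult_restrict_ge_two (H.subgroupOf T) hχT hψ hψ' hne hχψ hχψ'
    (isCharacter_of_isIrrCharacter hθT)
  have htrans : Cfsg.classInner (fun k : H.subgroupOf T => χ ((k : T) : G))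
      (thetaT H T θ) = Cfsg.classInner (fun h : H => χ h) θ := by
    rw [restrict_eq hHT χ, thetaT_eq hHT]
    exact classInner_comp_equiv _ _ _
  rw [htrans, hmult] at htwo
  -- the multiplicity of `θ_T` in `ψ'` is positive
  have hψ'c : Cfsg.IsCharacter T ψ' := isCharacter_of_isIrrCharacter hψ'
  have hf' : Cfsg.classInner (fun k : H.subgroupOf T => ψ' k) (thetaT H T θ) ≠ 0 := by
    have hc2 := hc'
    rw [frobenius_reciprocity _ _ (isClassFunction_of_isCharacter hψ'c)] at hc2
    intro h0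
    apply hc2
    rw [← Helper24.classInner_conj_symm]
    have : Cfsg.classInner (fun k : H.subgroupOf T => ψ' k)
        (fun x : H.subgroupOf T => θ ⟨(x : T), Subgroup.mem_subgroupOf.mp x.2⟩) = 0 := h0
    rw [this, map_zero]
  obtain ⟨f', hf'pos, hf'eq⟩ := constituent_mult (isCharacter_restrict _ hψ'c) hθT hf'
  rw [hf'eq] at htwo
  simp only [Complex.natCast_re] at htwo
  have : (0 : ℝ) < f' := by exact_mod_cast hf'pos
  linarith

end Cfsg.Agent.S1489
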