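import Mathlib
import Cfsg.Statements.S1490
import Cfsg.Agent.S1489
import Cfsg.Agent.Lib.Helper8.Clifford2

set_option autoImplicit false
open Cfsg

namespace Cfsg.Agent.S1490

open Cfsg.Agent.Helper8 Cfsg.Agent.Helper24
open scoped ComplexConjugate

lemma indFun_sum {G : Type*} [Group G] [Fintype G] (K : Subgroup G) {ι : Type*} (s : Finset ι)
    (f : ι → K → ℂ) : Cfsg.indFun K (∑ i ∈ s, f i) = ∑ i ∈ s, Cfsg.indFun K (f i) := by
  classical
  induction s using Finset.induction_on with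
  | empty =>
    simp only [Finset.sum_empty]
    have := indFun_smul K (0 : ℂ) (0 : K → ℂ)
    simpa using this
  | insert a s ha ih =>
    rw [Finset.sum_insert ha, Finset.sum_insert ha, indFun_add, ih]

/-- Let H be a normal subgroup of the finite group G, θ an irreducible character of H with inertia group T, and suppose the commutator of any two elements of T lies in H (T/H abelian). Then there are a positive integer e and a finite set C of irreducible characters of G with e ^ 2 * |C| * |H| = |T|, such that the function induced from θ is e times the sum of the members of C and every member of C has degree [G:T] * e * θ(1). -/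
theorem result {G : Type*} [Group G] [Fintype G] (H T : Subgroup G) [hN : H.Normal] (θ : H → ℂ) (hθ : Cfsg.IsIrrCharacter H θ) (hT : ∀ g : G, g ∈ T ↔ ∀ h : H, θ ⟨g * h * g⁻¹, hN.conj_mem h h.2 g⟩ = θ h) (hab : ∀ x ∈ T, ∀ y ∈ T, x * y * x⁻¹ * y⁻¹ ∈ H) : ∃ (e : ℕ) (C : Finset (G → ℂ)), 0 < e ∧ (∀ χ ∈ C, Cfsg.IsIrrCharacter G χ) ∧ e ^ 2 * C.card * Nat.card H = Nat.card T ∧ Cfsg.indFun H θ = (e : ℂ) • ∑ χ ∈ C, χ ∧ ∀ χ ∈ C, χ 1 = (T.index : ℂ) * e * θ 1 := by
  classical
  haveI : Fintype T := Fintype.ofFinite T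
  haveI : Fintype H := Fintype.ofFinite H
  haveI : Fintype (H.subgroupOf T) := Fintype.ofFinite _
  have hHT : H ≤ T := by
    intro g hg
    rw [hT]
    intro h
    have := isClassFunction_of_isIrrCharacter hθ h ⟨g, hg⟩
    rw [← this]
    congr 1
  have hθT : Cfsg.IsIrrCharacter (H.subgroupOf T) (S1489.thetaT H T θ) := by
    rw [S1489.thetaT_eq hHT]
    exact isIrrCharacter_comp_equiv _ hθ
  have hab' : ∀ x y : T, x * y * x⁻¹ * y⁻¹ ∈ H.subgroupOf T := by
    intro x y
    rw [Subgroup.mem_subgroupOf]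
    have := hab x x.2 y y.2
    simpa using this
  obtain ⟨e, CT, hepos, hexp, hres, hcount, hne⟩ :=
    induced_invariant_abelian (H.subgroupOf T) hab' hθT (S1489.thetaT_invariant hT)
  let F : Cfsg.IrrCharacter T → (G → ℂ) := fun ψ => Cfsg.indFun T ψ.1
  have hFirr : ∀ ψ ∈ CT, Cfsg.IsIrrCharacter G (F ψ) := fun ψ hψ =>
    (S1489.main hθ hT hHT ψ.1 ψ.2 (hne ψ hψ)).1
  have hFinj : Set.InjOn F CT := by
    intro ψ hψ ψ' hψ' heq
    have := (S1489.result H T θ hθ hT hHT ψ.1 ψ'.1 ψ.2 ψ'.2 (hne ψ hψ) (hne ψ' hψ')).2 heq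
    exact Subtype.ext this
  refine ⟨e, CT.image F, hepos, ?_, ?_, ?_, ?_⟩
  · intro χ hχ
    obtain ⟨ψ, hψ, rfl⟩ := Finset.mem_image.1 hχ
    exact hFirr ψ hψ
  · rw [Finset.card_image_of_injOn hFinj, hcount]
    have h1 : Nat.card (H.subgroupOf T) = Nat.card H :=
      Nat.card_congr (Subgroup.subgroupOfEquivOfLe hHT).toEquiv
    rw [← h1, mul_comm]
    exact Subgroup.card_mul_index (H.subgroupOf T)
  · rw [← indFun_trans H T hHT θ]
    have : (θ ∘ (Subgroup.subgroupOfEquivOfLe hHT)) = S1489.thetaT H T θ := rfl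
    rw [this, hexp, indFun_smul, indFun_sum, Finset.sum_image hFinj]
  · intro χ hχ
    obtain ⟨ψ, hψ, rfl⟩ := Finset.mem_image.1 hχ
    show Cfsg.indFun T ψ.1 1 = _
    rw [Helper24.indFun_one]
    have h1 := congrFun (hres ψ hψ) 1
    simp only [Subgroup.coe_one, Pi.smul_apply, smul_eq_mul] at h1
    rw [h1]
    have h2 : S1489.thetaT H T θ 1 = θ 1 := by
      unfold S1489.thetaT
      congr 1
    rw [h2]
    ring

end Cfsg.Agent.S1490
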