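import Mathlib
import Cfsg.Statements.S1491
import Cfsg.Agent.S0856
import Cfsg.Agent.S0867
import Cfsg.Agent.Lib.Helper18.CliffordCorr
import Cfsg.Agent.Lib.Helper24.CharAbelian
import Cfsg.Agent.Lib.Helper24.CharIntegral
import Cfsg.Agent.Lib.Helper5.DetChar
import Cfsg.Agent.Lib.Helper5.Gallagher

set_option autoImplicit false
open Cfsg

namespace Cfsg.Agent.S1491

open Cfsg.Agent.Helper24 Cfsg.Agent.Helper18 Cfsg.Agent.Helper5
open scoped ComplexConjugate

universe u

section

variable {Γ : Type u} [Group Γ] [Fintype Γ]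

/-- The determinantal order divides the group order. -/
theorem detOrder_dvd_card {θ : Γ → ℂ} (hθ : IsCharacter Γ θ) : detOrder θ ∣ Nat.card Γ := by
  unfold detOrder
  apply orderOf_dvd_of_pow_eq_one
  funext g
  rw [Pi.pow_apply, Pi.one_apply, ← detHom_apply hθ, ← Units.val_pow_eq_pow_val, ← map_pow,
    pow_card_eq_one', map_one, Units.val_one]

/-- Over an invariant irreducible character `θ` of a normal subgroup `N` with abelian quotient of
order prime to the order of `N`, every irreducible character restricts to `θ`. -/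
theorem restrict_eq_of_coprime_abelian (N : Subgroup Γ) [hN : N.Normal] [Fintype N] {θ : N → ℂ}
    (hθ : IsIrrCharacter N θ)
    (hinv : ∀ (g : Γ) (n : N), θ ⟨g * n * g⁻¹, hN.conj_mem (n : Γ) n.2 g⟩ = θ n)
    (hab : ∀ x y : Γ, x * y * x⁻¹ * y⁻¹ ∈ N) (hcop : Nat.Coprime (Nat.card N) N.index)
    {ψ : Γ → ℂ} (hψ : IsIrrCharacter Γ ψ)
    (hcon : classInner (fun n : N => ψ n) θ ≠ 0) : ∀ n : N, ψ n = θ n := by
  classical
  letI : Fintype (IrrCharacter N) := irrFintype
  have hθc := isCharacter_of_isIrrCharacter hθ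
  -- the extension
  obtain ⟨d, hd⟩ : ∃ d : ℕ, θ 1 = d := ⟨charDegree θ, irr_one_eq_charDegree hθ⟩
  have hdd : d ∣ Nat.card N := by
    have := charDegree_dvd_card hθ
    have h2 : charDegree θ = d := by
      have := irr_one_eq_charDegree hθ
      rw [hd] at this
      exact_mod_cast this.symm
    rwa [h2] at this
  have hcop' : Nat.Coprime N.index (detOrder θ * d) := by
    apply Nat.Coprime.mul_right
    · exact (Nat.Coprime.coprime_dvd_left (detOrder_dvd_card hθc) hcop).symm
    · exact (Nat.Coprime.coprime_dvd_left hdd hcop).symm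
  obtain ⟨θ', ⟨hθ'irr, hθ'ext, -⟩, -⟩ := Cfsg.Agent.S0867.result N θ hθ hinv d hd hcop'
  -- Gallagher
  have hone : IsIrrCharacter N (fun _ : N => (1 : ℂ)) := isIrrCharacter_one
  have hprodeq : (fun _ : N => (1 : ℂ)) * θ = θ := by
    funext n
    simp
  have hbij := Cfsg.Agent.S0856.result N (fun _ : N => (1 : ℂ)) θ hone hθ (fun g n => rfl) hinv
    (by rw [hprodeq]; exact hθ) θ' hθ'irr hθ'ext
  have hψmem : ψ ∈ {ψ : Γ → ℂ | IsIrrCharacter Γ ψ ∧
      classInner (indFun N ((fun _ : N => (1 : ℂ)) * θ)) ψ ≠ 0} := by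
    refine ⟨hψ, ?_⟩
    rw [hprodeq, frobenius_reciprocity N θ (isClassFunction_of_isIrrCharacter hψ),
      ← classInner_conj_symm]
    intro h
    apply hcon
    have := congrArg conj h
    simpa using this
  obtain ⟨β, ⟨hβirr, hβcon⟩, hβψ⟩ := hbij.surjOn hψmem
  have hβN := ntrivial_of_constituent_ind_one N hβirr hβcon
  -- `β` is linear
  have hβ1 : β 1 = 1 := by
    obtain ⟨β', hβ'irr, hβ'⟩ := exists_deflate N hβirr hβN
    have hcomm : ∀ a b : Γ ⧸ N, a * b = b * a := by
      intro a b
      induction a using QuotientGroup.induction_on with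
      | H x =>
        induction b using QuotientGroup.induction_on with
        | H y =>
          rw [← QuotientGroup.mk_mul, ← QuotientGroup.mk_mul, QuotientGroup.eq]
          have := hab y⁻¹ x⁻¹
          rw [inv_inv, inv_inv] at this
          rw [mul_inv_rev]
          simpa [mul_assoc] using this
    haveI : Fintype (Γ ⧸ N) := Fintype.ofFinite _
    letI : Fintype (IrrCharacter (Γ ⧸ N)) := irrFintype
    have h1 := charDegree_eq_one_of_comm hcomm hβ'irr
    have h2 := irr_one_eq_charDegree hβ'irr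
    rw [h1] at h2
    rw [hβ']
    show β' ((1 : Γ) : Γ ⧸ N) = 1
    rw [QuotientGroup.mk_one, h2]
    simp
  intro n
  rw [← hβψ]
  show β n * θ' n = θ n
  rw [hβN n n.2, hβ1, one_mul, hθ'ext]

end

theorem result {G : Type*} [Group G] [Fintype G] (H T : Subgroup G) [hN : H.Normal] (θ : H → ℂ) (hθ : Cfsg.IsIrrCharacter H θ) (hT : ∀ g : G, g ∈ T ↔ ∀ h : H, θ ⟨g * h * g⁻¹, hN.conj_mem h h.2 g⟩ = θ h) (hab : ∀ x ∈ T, ∀ y ∈ T, x * y * x⁻¹ * y⁻¹ ∈ H) (hcop : Nat.Coprime (Nat.card H) (H.relIndex T)) : ∃ C : Finset (G → ℂ), (∀ χ ∈ C, Cfsg.IsIrrCharacter G χ) ∧ C.card = H.relIndex T ∧ Cfsg.indFun H θ = ∑ χ ∈ C, χ ∧ ∀ χ ∈ C, χ 1 = (T.index : ℂ) * θ 1 := by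
  classical
  haveI : Fintype H := Fintype.ofFinite H
  letI : Fintype (IrrCharacter G) := irrFintype
  letI : Fintype (IrrCharacter H) := irrFintype
  have hTeq : T = inertia H θ := by
    ext g
    rw [hT, mem_inertia]
    constructor
    · intro h
      funext n
      rw [Cfsg.Agent.Helper5.conjFun_apply]
      exact h n
    · intro h n
      have := congrFun h n
      rw [Cfsg.Agent.Helper5.conjFun_apply] at this
      exact this
  subst hTeq
  have hθcf := isClassFunction_of_isIrrCharacter hθ
  have hHT : H ≤ inertia H θ := le_inertia H hθcf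
  haveI : Fintype (inertia H θ) := Fintype.ofFinite _
  haveI : (H.subgroupOf (inertia H θ)).Normal := Subgroup.normal_subgroupOf
  haveI : Fintype (H.subgroupOf (inertia H θ)) := Fintype.ofFinite _
  let e : H.subgroupOf (inertia H θ) ≃* H := Subgroup.subgroupOfEquivOfLe hHT
  have hθ1 : θ 1 ≠ 0 := by
    rw [irr_one_eq_charDegree hθ]
    have := charDegree_pos hθ
    exact_mod_cast this.ne'
  have hTidx : ((inertia H θ).index : ℂ) ≠ 0 := by
    have : (inertia H θ).index ≠ 0 := Subgroup.index_ne_zero_of_finite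
    exact_mod_cast this
  -- the key fact on constituents
  have key : ∀ χ : G → ℂ, IsIrrCharacter G χ → classInner (fun n : H => χ n) θ ≠ 0 →
      χ 1 = ((inertia H θ).index : ℂ) * θ 1 ∧ classInner (fun n : H => χ n) θ = 1 := by
    intro χ hχ hcon
    obtain ⟨ψ, hψ, hind, f, hf0, hres⟩ := clifford_correspondence H hχ hθ hcon
    -- transfer to the inertia group
    have hθ' : IsIrrCharacter (H.subgroupOf (inertia H θ)) (θ ∘ e) :=
      isIrrCharacter_comp_equiv e hθ
    have hinv' : ∀ (g : inertia H θ) (n : H.subgroupOf (inertia H θ)),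
        (θ ∘ e) ⟨g * n * g⁻¹, Subgroup.Normal.conj_mem inferInstance
          (n : inertia H θ) n.2 g⟩ = (θ ∘ e) n := by
      intro g n
      have hg := (mem_inertia H θ (g : G)).mp g.2
      have := congrFun hg (e n)
      rw [Cfsg.Agent.Helper5.conjFun_apply] at this
      rw [Function.comp_apply, Function.comp_apply, ← this]
      congr 1
    have hab' : ∀ x y : inertia H θ, x * y * x⁻¹ * y⁻¹ ∈ H.subgroupOf (inertia H θ) := by
      intro x y
      rw [Subgroup.mem_subgroupOf]
      exact hab x x.2 y y.2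
    have hcop' : Nat.Coprime (Nat.card (H.subgroupOf (inertia H θ)))
        (H.subgroupOf (inertia H θ)).index := by
      rw [Nat.card_congr e.toEquiv]
      exact hcop
    have hresψ : (fun n : H.subgroupOf (inertia H θ) => ψ n) = (f : ℂ) • (θ ∘ e) := by
      funext n
      have := congrFun hres (e n)
      rw [resFun_apply, Pi.smul_apply] at this
      rw [Pi.smul_apply, Function.comp_apply, ← this]
      congr 1
    have hcon' : classInner (fun n : H.subgroupOf (inertia H θ) => ψ n) (θ ∘ e) ≠ 0 := by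
      rw [hresψ, classInner_smul_left]
      have := irr_orthogonality hθ' hθ'
      rw [if_pos rfl] at this
      rw [this, mul_one]
      exact_mod_cast hf0
    have hext := restrict_eq_of_coprime_abelian (H.subgroupOf (inertia H θ)) hθ' hinv' hab' hcop'
      hψ hcon'
    have hψ1 : ψ 1 = θ 1 := by
      have := hext 1
      rw [Function.comp_apply, map_one] at this
      exact this
    have hχ1 : χ 1 = ((inertia H θ).index : ℂ) * θ 1 := by
      rw [← hind, indFun_one, hψ1]
    refine ⟨hχ1, ?_⟩
    have hdeg := degree_eq_of_constituent H hχ hθ hcon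
    rw [hχ1] at hdeg
    have h3 : (1 - classInner (fun n : H => χ n) θ) * (((inertia H θ).index : ℂ) * θ 1) = 0 := by
      linear_combination hdeg
    rcases mul_eq_zero.mp h3 with h | h
    · linear_combination -h
    · exact absurd h (mul_ne_zero hTidx hθ1)
  -- the decomposition of the induced character
  have hindchar : IsCharacter G (indFun H θ) :=
    isCharacter_indFun H (isCharacter_of_isIrrCharacter hθ)
  obtain ⟨-, hdec⟩ := isCharacter_decomp hindchar
  have hfrob : ∀ χ : IrrCharacter G, classInner (indFun H θ) (χ : G → ℂ) =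
      conj (classInner (fun n : H => (χ : G → ℂ) n) θ) := by
    intro χ
    rw [frobenius_reciprocity H θ (isClassFunction_of_isIrrCharacter χ.2), classInner_conj_symm]
  have hcoef : ∀ χ : IrrCharacter G, classInner (indFun H θ) (χ : G → ℂ) ≠ 0 →
      classInner (indFun H θ) (χ : G → ℂ) = 1 := by
    intro χ h
    rw [hfrob] at h ⊢
    have h2 : classInner (fun n : H => (χ : G → ℂ) n) θ ≠ 0 := by
      intro h0
      apply h
      rw [h0, map_zero]
    rw [(key χ χ.2 h2).2, map_one]
  obtain ⟨S, hSdef⟩ : ∃ S : Finset (IrrCharacter G), S = Finset.univ.filter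
      (fun χ : IrrCharacter G => classInner (indFun H θ) (χ : G → ℂ) ≠ 0) := ⟨_, rfl⟩
  have hsum : indFun H θ = ∑ χ ∈ S, (χ : G → ℂ) := by
    conv_lhs => rw [hdec]
    rw [hSdef, Finset.sum_filter]
    refine Finset.sum_congr rfl fun χ _ => ?_
    by_cases h : classInner (indFun H θ) (χ : G → ℂ) = 0
    · rw [if_neg (not_not.mpr h), h, zero_smul]
    · rw [if_pos h, hcoef χ h, one_smul]
  have hSdeg : ∀ χ ∈ S, (χ : G → ℂ) 1 = ((inertia H θ).index : ℂ) * θ 1 := by
    intro χ hχS
    rw [hSdef, Finset.mem_filter] at hχS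
    have h := hχS.2
    rw [hfrob] at h
    have h2 : classInner (fun n : H => (χ : G → ℂ) n) θ ≠ 0 := by
      intro h0
      apply h
      rw [h0, map_zero]
    exact (key χ χ.2 h2).1
  refine ⟨S.map ⟨Subtype.val, Subtype.val_injective⟩, ?_, ?_, ?_, ?_⟩
  · intro χ hχ
    obtain ⟨μ, -, rfl⟩ := Finset.mem_map.mp hχ
    exact μ.2
  · rw [Finset.card_map]
    have h1 := congrFun hsum 1
    rw [indFun_one, Finset.sum_apply, Finset.sum_congr rfl hSdeg, Finset.sum_const,
      nsmul_eq_mul] at h1
    have h2 : (H.index : ℂ) = (S.card : ℂ) * ((inertia H θ).index : ℂ) := by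
      have h3 : ((H.index : ℂ) - (S.card : ℂ) * ((inertia H θ).index : ℂ)) * θ 1 = 0 := by
        linear_combination h1
      rcases mul_eq_zero.mp h3 with h | h
      · linear_combination h
      · exact absurd h hθ1
    have h4 : H.index = S.card * (inertia H θ).index := by exact_mod_cast h2
    have h5 := Subgroup.relIndex_mul_index hHT
    rw [h4] at h5
    have hpos : 0 < (inertia H θ).index := Nat.pos_of_ne_zero Subgroup.index_ne_zero_of_finite
    exact (Nat.eq_of_mul_eq_mul_right hpos h5).symm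
  · rw [Finset.sum_map]
    exact hsum
  · intro χ hχ
    obtain ⟨μ, hμ, rfl⟩ := Finset.mem_map.mp hχ
    exact hSdeg μ hμ

end Cfsg.Agent.S1491
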