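import Mathlib
import Cfsg.Statements.S1492
import Cfsg.Agent.Lib.Helper8.Constituent
import Cfsg.Agent.Lib.Helper24.CharInduced

set_option autoImplicit false
open Cfsg

namespace Cfsg.Agent.S1492

open Cfsg.Agent.Helper8 Cfsg.Agent.Helper24
open scoped ComplexConjugate

/-- Let ψ be an irreducible character of the finite group G and B ≤ D ≤ C subgroups with B normal in C, every commutator of an element of D with an element of C lying in B (so D/B is central in C/B), and ψ constant equal to ψ 1 on B. Then ψ(1) ^ 2 * |C| * |D| ≤ |G| ^ 2. -/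
theorem result {G : Type*} [Group G] [Finite G] (ψ : G → ℂ) (hψ : Cfsg.IsIrrCharacter G ψ) (B C D : Subgroup G) (hBD : B ≤ D) (hDC : D ≤ C) (hBn : ∀ c ∈ C, ∀ b ∈ B, c * b * c⁻¹ ∈ B) (hcent : ∀ d ∈ D, ∀ c ∈ C, d * c * d⁻¹ * c⁻¹ ∈ B) (hker : ∀ b ∈ B, ψ b = ψ 1) : ‖ψ 1‖ ^ 2 * (Nat.card C : ℝ) * (Nat.card D : ℝ) ≤ (Nat.card G : ℝ) ^ 2 := by
  classical
  haveI : Fintype G := Fintype.ofFinite G
  haveI : Fintype C := Fintype.ofFinite C
  have hψc : Cfsg.IsCharacter G ψ := isCharacter_of_isIrrCharacter hψ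
  have hψC : Cfsg.IsCharacter C (fun c : C => ψ c) := isCharacter_restrict C hψc
  obtain ⟨n, hn1, -, -⟩ := char_bound hψc
  obtain ⟨n', hn'pos, hn'⟩ := irr_one_eq hψ
  have hnn' : n = n' := by
    have : (n : ℂ) = n' := by rw [← hn1, hn']
    exact_mod_cast this
  have h1 : (fun c : C => ψ c) 1 ≠ 0 := by
    show ψ ((1 : C) : G) ≠ 0
    rw [Subgroup.coe_one, hn', Nat.cast_ne_zero]
    exact hn'pos.ne'
  obtain ⟨θ, hθ, hθne⟩ := exists_constituent hψC h1
  have hθc : Cfsg.IsCharacter C θ := isCharacter_of_isIrrCharacter hθ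
  -- `B` lies in the kernel of `θ`
  have hθB : ∀ b : C, (b : G) ∈ B → θ b = θ 1 := by
    intro b hb
    refine constituent_ker hψC hθ hθne ?_
    show ψ (b : G) = ψ ((1 : C) : G)
    rw [Subgroup.coe_one]
    exact hker _ hb
  -- the elements of `D` have values of maximal absolute value
  have hθD : ∀ d : C, (d : G) ∈ D → ‖θ d‖ = (θ 1).re := by
    intro d hd
    refine norm_eq_of_central_mod_ker hθ d fun c => hθB _ ?_
    have := hcent d hd c c.2
    simpa using this
  obtain ⟨k, hk1, -, -⟩ := char_bound hθc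
  -- the norm of `θ`
  have hnormθ : Cfsg.classInner θ θ = 1 := by rw [irr_orthogonality hθ hθ, if_pos rfl]
  have hcardC : (Nat.card C : ℂ) ≠ 0 := by
    exact_mod_cast (Nat.card_pos (α := C)).ne'
  have hsum : ∑ c : C, ‖θ c‖ ^ 2 = (Nat.card C : ℝ) := by
    have h2 : ∑ c : C, θ c * conj (θ c) = (Nat.card C : ℂ) := by
      have h3 : (Nat.card C : ℂ)⁻¹ * ∑ c : C, θ c * conj (θ c) = 1 := hnormθ
      field_simp at h3
      exact h3
    have h4 : ∑ c : C, θ c * conj (θ c) = ((∑ c : C, ‖θ c‖ ^ 2 : ℝ) : ℂ) := by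
      push_cast
      refine Finset.sum_congr rfl fun c _ => ?_
      rw [Complex.mul_conj, Complex.normSq_eq_norm_sq]
      push_cast; rfl
    rw [h4] at h2
    exact_mod_cast h2
  have hcardD : (Finset.univ.filter (fun c : C => (c : G) ∈ D)).card = Nat.card D := by
    have e1 : Nat.card (D.subgroupOf C) = Nat.card D :=
      Nat.card_congr (Subgroup.subgroupOfEquivOfLe hDC).toEquiv
    rw [← e1, Nat.card_eq_fintype_card, Fintype.card_subtype]
    rfl
  have hD : (k : ℝ) ^ 2 * (Nat.card D : ℝ) ≤ (Nat.card C : ℝ) := by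
    rw [← hsum]
    calc (k : ℝ) ^ 2 * (Nat.card D : ℝ)
        = ∑ c ∈ Finset.univ.filter (fun c : C => (c : G) ∈ D), ‖θ c‖ ^ 2 := by
          rw [Finset.sum_congr rfl (g := fun _ => (k : ℝ) ^ 2)]
          · rw [Finset.sum_const, hcardD, nsmul_eq_mul]; ring
          · intro c hc
            rw [Finset.mem_filter] at hc
            rw [hθD c hc.2, hk1]
            simp
      _ ≤ ∑ c : C, ‖θ c‖ ^ 2 :=
          Finset.sum_le_sum_of_subset_of_nonneg (Finset.filter_subset _ _)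
            (fun c _ _ => sq_nonneg _)
  -- Frobenius reciprocity
  have hfrob : Cfsg.classInner (Cfsg.indFun C θ) ψ ≠ 0 := by
    rw [frobenius_reciprocity C θ (isClassFunction_of_isCharacter hψc)]
    intro h0
    apply hθne
    rw [← Helper24.classInner_conj_symm, h0, map_zero]
  have hdeg := constituent_degree_le (isCharacter_indFun C hθc) hψ hfrob
  rw [Helper24.indFun_one, hn1, hk1] at hdeg
  have hdeg' : (n : ℝ) ≤ (C.index : ℝ) * k := by
    have : ((C.index : ℂ) * (k : ℂ)).re = (C.index : ℝ) * k := by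
      rw [← Nat.cast_mul, Complex.natCast_re]; push_cast; ring
    rw [this, Complex.natCast_re] at hdeg
    exact hdeg
  have hindex : (C.index : ℝ) * (Nat.card C : ℝ) = (Nat.card G : ℝ) := by
    rw [← Nat.cast_mul, mul_comm, Subgroup.card_mul_index]
  have hnorm1 : ‖ψ 1‖ = n := by rw [hn1]; simp
  rw [hnorm1]
  have hk0 : (0 : ℝ) ≤ k := Nat.cast_nonneg k
  have hn0 : (0 : ℝ) ≤ n := Nat.cast_nonneg n
  have hi0 : (0 : ℝ) ≤ C.index := Nat.cast_nonneg _
  have hC0 : (0 : ℝ) ≤ Nat.card C := Nat.cast_nonneg _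
  have hD0 : (0 : ℝ) ≤ Nat.card D := Nat.cast_nonneg _
  calc (n : ℝ) ^ 2 * (Nat.card C : ℝ) * (Nat.card D : ℝ)
      ≤ ((C.index : ℝ) * k) ^ 2 * (Nat.card C : ℝ) * (Nat.card D : ℝ) := by
        gcongr
    _ = (C.index : ℝ) ^ 2 * (Nat.card C : ℝ) * ((k : ℝ) ^ 2 * (Nat.card D : ℝ)) := by ring
    _ ≤ (C.index : ℝ) ^ 2 * (Nat.card C : ℝ) * (Nat.card C : ℝ) := by
        gcongr
    _ = ((C.index : ℝ) * (Nat.card C : ℝ)) ^ 2 := by ring
    _ = (Nat.card G : ℝ) ^ 2 := by rw [hindex]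

end Cfsg.Agent.S1492
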