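import Mathlib
import Cfsg.Statements.S1493
import Cfsg.Agent.Lib.Helper18.GaloisConj

set_option autoImplicit false
open Cfsg

namespace Cfsg.Agent.S1493

open Cfsg.Agent.Helper24 Cfsg.Agent.Helper18

theorem result {G : Type*} [Group G] [Finite G] (a b k : ℕ) (hab : Nat.card G = a * b) (hcop : Nat.Coprime a b) (hk : Nat.Coprime k a) (χ : G → ℂ) (hχ : Cfsg.IsCharacter G χ) : ∃ χ' : G → ℂ, Cfsg.IsCharacter G χ' ∧ (Cfsg.IsIrrCharacter G χ → Cfsg.IsIrrCharacter G χ') ∧ (∀ g : G, orderOf g ∣ a → χ' g = χ (g ^ k)) ∧ (∀ g : G, Nat.Coprime (orderOf g) a → χ' g = χ g) := by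
  classical
  haveI : Fintype G := Fintype.ofFinite G
  obtain ⟨j, hja, hjb⟩ : ∃ j : ℕ, j ≡ k [MOD a] ∧ j ≡ 1 [MOD b] :=
    ⟨_, (Nat.chineseRemainder hcop k 1).2⟩
  have hj : Nat.Coprime (Nat.card G) j := by
    rw [hab]
    apply Nat.Coprime.mul_left
    · have h1 : Nat.gcd a j = Nat.gcd a k := by
        rw [Nat.gcd_comm a j, Nat.gcd_comm a k]
        exact hja.gcd_eq
      show Nat.gcd a j = 1
      rw [h1, Nat.gcd_comm]
      exact hk
    · have h1 : Nat.gcd b j = Nat.gcd b 1 := by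
        rw [Nat.gcd_comm b j, Nat.gcd_comm b 1]
        exact hjb.gcd_eq
      show Nat.gcd b j = 1
      rw [h1, Nat.gcd_one_right]
  refine ⟨fun g => χ (g ^ j), isCharacter_comp_pow hχ hj, fun h => isIrrCharacter_comp_pow h hj,
    ?_, ?_⟩
  · intro g hg
    show χ (g ^ j) = χ (g ^ k)
    have : g ^ j = g ^ k := pow_eq_pow_iff_modEq.mpr (hja.of_dvd hg)
    rw [this]
  · intro g hg
    show χ (g ^ j) = χ g
    have h1 : orderOf g ∣ b := by
      have : orderOf g ∣ a * b := by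
        rw [← hab]
        exact orderOf_dvd_natCard g
      exact hg.dvd_of_dvd_mul_left this
    have : g ^ j = g := by
      have := pow_eq_pow_iff_modEq.mpr (hjb.of_dvd h1)
      rwa [pow_one] at this
    rw [this]

end Cfsg.Agent.S1493
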