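import Mathlib
import Cfsg.Statements.S1496

set_option autoImplicit false
open Cfsg

namespace Cfsg.Agent.S1496

variable {G : Type*} [Group G]

/-- conjugation action of a subgroup `A` on an `A`-stable subset `O` -/
def conjAction (A : Subgroup G) (O : Set G) (hO : ∀ z ∈ A, ∀ w ∈ O, z * w * z⁻¹ ∈ O) :
    MulAction A O where
  smul z w := ⟨(z : G) * w * (z : G)⁻¹, hO z z.2 w w.2⟩
  one_smul w := by
    apply Subtype.ext
    change ((1 : A) : G) * w * ((1 : A) : G)⁻¹ = w
    simp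
  mul_smul z z' w := by
    apply Subtype.ext
    change ((z * z' : A) : G) * w * ((z * z' : A) : G)⁻¹
      = (z : G) * ((z' : G) * w * (z' : G)⁻¹) * (z : G)⁻¹
    simp [mul_assoc]

lemma conjAction_smul_coe (A : Subgroup G) (O : Set G)
    (hO : ∀ z ∈ A, ∀ w ∈ O, z * w * z⁻¹ ∈ O) (z : A) (w : O) :
    (((conjAction A O hO).smul z w : O) : G) = (z : G) * w * (z : G)⁻¹ := rfl

/-- the `p`-part step: conjugate `h * g` by an element of `H` into `C_H(a) * g` -/
lemma step_p [Finite G] (H : Subgroup G) (g a : G) (hg : g ∈ Subgroup.normalizer (H : Set G))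
    (p : ℕ) [hp : Fact p.Prime] (ha : a ∈ Subgroup.zpowers g)
    (hap : IsPGroup p (Subgroup.zpowers a)) (hpH : ¬ p ∣ Nat.card H) (h : G) (hh : h ∈ H) :
    ∃ x ∈ H, ∃ c ∈ H, c * a = a * c ∧ x * (h * g) * x⁻¹ = c * g := by
  classical
  have hgn : ∀ x, x ∈ H ↔ g * x * g⁻¹ ∈ H := Subgroup.mem_normalizer_iff.mp hg
  set O : Set G := {w | ∃ x ∈ H, w = x * (h * g) * x⁻¹} with hOdef
  -- stability under `g`
  have hOg : ∀ w ∈ O, g * w * g⁻¹ ∈ O := by
    rintro w ⟨x, hx, rfl⟩
    refine ⟨g * x * g⁻¹ * h⁻¹, H.mul_mem ((hgn x).mp hx) (H.inv_mem hh), ?_⟩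
    group
  have hOpow : ∀ k : ℕ, ∀ w ∈ O, g ^ k * w * (g ^ k)⁻¹ ∈ O := by
    intro k
    induction k with
    | zero => intro w hw; simpa using hw
    | succ k ih =>
      intro w hw
      have := hOg _ (ih w hw)
      have e : g ^ (k + 1) * w * (g ^ (k + 1))⁻¹ = g * (g ^ k * w * (g ^ k)⁻¹) * g⁻¹ := by
        rw [pow_succ']; group
      rw [e]; exact this
  have hOz : ∀ z ∈ Subgroup.zpowers g, ∀ w ∈ O, z * w * z⁻¹ ∈ O := by
    intro z hz w hw
    obtain ⟨k, rfl⟩ := (mem_powers_iff_mem_zpowers).mpr hz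
    exact hOpow k w hw
  have hOa : ∀ z ∈ Subgroup.zpowers a, ∀ w ∈ O, z * w * z⁻¹ ∈ O := by
    intro z hz w hw
    exact hOz z ((Subgroup.zpowers_le.mpr ha) hz) w hw
  have hOH : ∀ z ∈ H, ∀ w ∈ O, z * w * z⁻¹ ∈ O := by
    rintro z hz w ⟨x, hx, rfl⟩
    exact ⟨z * x, H.mul_mem hz hx, by group⟩
  -- the cardinality of `O` divides `|H|`
  have hy : h * g ∈ O := ⟨1, H.one_mem, by simp⟩
  have hcard : Nat.card O ∣ Nat.card H := by
    letI := conjAction H O hOH
    haveI : MulAction.IsPretransitive H O := by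
      constructor
      rintro ⟨w₁, x₁, hx₁, rfl⟩ ⟨w₂, x₂, hx₂, rfl⟩
      refine ⟨⟨x₂ * x₁⁻¹, H.mul_mem hx₂ (H.inv_mem hx₁)⟩, ?_⟩
      apply Subtype.ext
      change (x₂ * x₁⁻¹) * (x₁ * (h * g) * x₁⁻¹) * (x₂ * x₁⁻¹)⁻¹ = x₂ * (h * g) * x₂⁻¹
      group
    rw [← MulAction.index_stabilizer_of_transitive (G := H) (⟨h * g, hy⟩ : O)]
    exact Subgroup.index_dvd_card _
  have hpO : ¬ p ∣ Nat.card O := fun hdvd => hpH (dvd_trans hdvd hcard)
  -- fixed point
  letI := conjAction (Subgroup.zpowers a) O hOa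
  obtain ⟨⟨w, hw⟩, hfix⟩ := hap.nonempty_fixed_point_of_prime_not_dvd_card O hpO
  rw [MulAction.mem_fixedPoints] at hfix
  have hfa : a * w * a⁻¹ = w := by
    have := hfix ⟨a, Subgroup.mem_zpowers a⟩
    exact congrArg Subtype.val this
  obtain ⟨x, hx, rfl⟩ := hw
  have hga : g * a = a * g := by
    obtain ⟨k, rfl⟩ := ha
    exact (Commute.zpow_right (Commute.refl g) k).eq
  refine ⟨x, hx, x * (h * g) * x⁻¹ * g⁻¹, ?_, ?_, ?_⟩
  · have : x * (h * g) * x⁻¹ * g⁻¹ = x * h * (g * x⁻¹ * g⁻¹) := by group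
    rw [this]
    exact H.mul_mem (H.mul_mem hx hh) ((hgn _).mp (H.inv_mem hx))
  · -- commutes with `a`
    have h1 : a * (x * (h * g) * x⁻¹) = (x * (h * g) * x⁻¹) * a := by
      have := congrArg (fun t => t * a) hfa
      simpa [mul_assoc] using this
    have h2 : a * g⁻¹ = g⁻¹ * a := by
      have := congrArg (fun t => g⁻¹ * t * g⁻¹) hga
      simpa [mul_assoc] using this
    calc x * (h * g) * x⁻¹ * g⁻¹ * a = x * (h * g) * x⁻¹ * (g⁻¹ * a) := by group
      _ = x * (h * g) * x⁻¹ * (a * g⁻¹) := by rw [h2]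
      _ = (x * (h * g) * x⁻¹ * a) * g⁻¹ := by group
      _ = (a * (x * (h * g) * x⁻¹)) * g⁻¹ := by rw [h1]
      _ = a * (x * (h * g) * x⁻¹ * g⁻¹) := by group
  · group

/-- the inductive statement -/
theorem main [Finite G] : ∀ (n : ℕ) (H : Subgroup G) (g : G), orderOf g = n →
    g ∈ Subgroup.normalizer (H : Set G) → Nat.Coprime (orderOf g) (Nat.card H) →
    ∀ h ∈ H, ∃ x ∈ H, ∃ c ∈ H, c * g = g * c ∧ x * (h * g) * x⁻¹ = c * g := by
  intro n
  induction n using Nat.strong_induction_on with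
  | _ n ih =>
    intro H g hn hg hcop h hh
    by_cases hn1 : n = 1
    · rw [hn1, orderOf_eq_one_iff] at hn
      subst hn
      exact ⟨1, H.one_mem, h, hh, by simp, by simp⟩
    have hn0 : n ≠ 0 := by
      rw [← hn]; exact (orderOf_pos g).ne'
    -- a prime divisor
    set p := n.minFac with hpdef
    have hpp : p.Prime := Nat.minFac_prime hn1
    haveI : Fact p.Prime := ⟨hpp⟩
    set k := n.factorization p with hkdef
    have hk1 : 1 ≤ k := by
      rw [hkdef]
      exact (hpp.factorization_pos_of_dvd hn0 (Nat.minFac_dvd n))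
    set m := n / p ^ k with hmdef
    have hnm : p ^ k * m = n := Nat.ordProj_mul_ordCompl_eq_self n p
    have hcopm : Nat.Coprime (p ^ k) m :=
      Nat.Coprime.pow_left _ (Nat.coprime_ordCompl hpp hn0)
    have hmlt : m < n := by
      have hpk : 2 ≤ p ^ k := by
        calc 2 ≤ p := hpp.two_le
          _ = p ^ 1 := (pow_one p).symm
          _ ≤ p ^ k := Nat.pow_le_pow_right hpp.pos hk1
      have hmpos : 0 < m := by
        rcases Nat.eq_zero_or_pos m with h0 | h0
        · rw [h0, mul_zero] at hnm; exact absurd hnm.symm hn0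
        · exact h0
      nlinarith
    -- Bezout
    have hbez : (1 : ℤ) = (p ^ k : ℕ) * Nat.gcdA (p ^ k) m + (m : ℕ) * Nat.gcdB (p ^ k) m := by
      have := Nat.gcd_eq_gcd_ab (p ^ k) m
      rw [hcopm.gcd_eq_one] at this
      exact_mod_cast this
    set a := g ^ ((m : ℤ) * Nat.gcdB (p ^ k) m) with hadef
    set b := g ^ (((p ^ k : ℕ) : ℤ) * Nat.gcdA (p ^ k) m) with hbdef
    have hgba : g = b * a := by
      rw [hadef, hbdef, ← zpow_add, ← hbez, zpow_one]
    have hgn : g ^ n = 1 := by rw [← hn]; exact pow_orderOf_eq_one g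
    have hapk : a ^ (p ^ k) = 1 := by
      rw [hadef, ← zpow_natCast, ← zpow_mul]
      have : (m : ℤ) * Nat.gcdB (p ^ k) m * ((p ^ k : ℕ) : ℤ)
          = (n : ℤ) * Nat.gcdB (p ^ k) m := by
        rw [← hnm]; push_cast; ring
      rw [this, zpow_mul, zpow_natCast, hgn, one_zpow]
    have hbm : b ^ m = 1 := by
      rw [hbdef, ← zpow_natCast, ← zpow_mul]
      have : ((p ^ k : ℕ) : ℤ) * Nat.gcdA (p ^ k) m * (m : ℤ)
          = (n : ℤ) * Nat.gcdA (p ^ k) m := by
        rw [← hnm]; push_cast; ring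
      rw [this, zpow_mul, zpow_natCast, hgn, one_zpow]
    have haz : a ∈ Subgroup.zpowers g := ⟨_, rfl⟩
    have hbz : b ∈ Subgroup.zpowers g := ⟨_, rfl⟩
    have hab : a * b = b * a := by
      rw [hadef, hbdef, ← zpow_add, ← zpow_add, add_comm]
    have hap : IsPGroup p (Subgroup.zpowers a) := by
      rw [IsPGroup.iff_card]
      refine ⟨(orderOf a).factorization p, ?_⟩
      rw [Nat.card_zpowers]
      have hdvd : orderOf a ∣ p ^ k := orderOf_dvd_of_pow_eq_one hapk
      obtain ⟨i, _, hi⟩ := (Nat.dvd_prime_pow hpp).mp hdvd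
      rw [hi, hpp.factorization_pow]
      simp
    have hpH : ¬ p ∣ Nat.card H := by
      intro hdvd
      have h1 : p ∣ orderOf g := by rw [hn]; exact Nat.minFac_dvd n
      have := Nat.dvd_gcd h1 hdvd
      rw [hcop.gcd_eq_one] at this
      exact hpp.one_lt.ne' (Nat.dvd_one.mp this)
    -- step 1
    obtain ⟨x₀, hx₀, c₃, hc₃, hc₃a, hconj⟩ := step_p H g a hg p haz hap hpH h hh
    -- step 2: inside `C_H(a)`
    set H₂ : Subgroup G := H ⊓ Subgroup.centralizer {a} with hH₂
    have hc₃H₂ : c₃ ∈ H₂ := by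
      refine Subgroup.mem_inf.mpr ⟨hc₃, ?_⟩
      rw [Subgroup.mem_centralizer_iff]
      intro z hz
      rw [Set.mem_singleton_iff] at hz
      rw [hz]; exact hc₃a.symm
    have hbn : b ∈ Subgroup.normalizer (H : Set G) :=
      (Subgroup.zpowers_le.mpr hg) hbz
    have hbn₂ : b ∈ Subgroup.normalizer (H₂ : Set G) := by
      rw [Subgroup.mem_normalizer_iff]
      intro z
      have hbH := Subgroup.mem_normalizer_iff.mp hbn z
      constructor
      · intro hz
        obtain ⟨hz1, hz2⟩ := Subgroup.mem_inf.mp hz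
        refine Subgroup.mem_inf.mpr ⟨hbH.mp hz1, ?_⟩
        rw [Subgroup.mem_centralizer_iff] at hz2 ⊢
        intro t ht
        rw [Set.mem_singleton_iff] at ht
        rw [ht]
        have hz2' : a * z = z * a := hz2 a rfl
        have hab' : b⁻¹ * a = a * b⁻¹ := by
          have := congrArg (fun s => b⁻¹ * s * b⁻¹) hab
          simpa [mul_assoc] using this
        calc a * (b * z * b⁻¹) = (a * b) * z * b⁻¹ := by group
          _ = (b * a) * z * b⁻¹ := by rw [hab]
          _ = b * (a * z) * b⁻¹ := by group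
          _ = b * (z * a) * b⁻¹ := by rw [hz2']
          _ = b * z * (a * b⁻¹) := by group
          _ = b * z * (b⁻¹ * a) := by rw [hab']
          _ = b * z * b⁻¹ * a := by group
      · intro hz
        obtain ⟨hz1, hz2⟩ := Subgroup.mem_inf.mp hz
        refine Subgroup.mem_inf.mpr ⟨hbH.mpr hz1, ?_⟩
        rw [Subgroup.mem_centralizer_iff] at hz2 ⊢
        intro t ht
        rw [Set.mem_singleton_iff] at ht
        rw [ht]
        have hz2' : a * (b * z * b⁻¹) = (b * z * b⁻¹) * a := hz2 a rfl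
        have hab' : b⁻¹ * a = a * b⁻¹ := by
          have := congrArg (fun s => b⁻¹ * s * b⁻¹) hab
          simpa [mul_assoc] using this
        calc a * z = b⁻¹ * ((b * a) * z * b⁻¹) * b := by group
          _ = b⁻¹ * ((a * b) * z * b⁻¹) * b := by rw [hab]
          _ = b⁻¹ * (a * (b * z * b⁻¹)) * b := by group
          _ = b⁻¹ * ((b * z * b⁻¹) * a) * b := by rw [hz2']
          _ = z * (b⁻¹ * a) * b := by group
          _ = z * (a * b⁻¹) * b := by rw [hab']
          _ = z * a := by group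
    have hbord : orderOf b ∣ m := orderOf_dvd_of_pow_eq_one hbm
    have hmpos : 0 < m := by
      rcases Nat.eq_zero_or_pos m with h0 | h0
      · rw [h0, mul_zero] at hnm; exact absurd hnm.symm hn0
      · exact h0
    have hblt : orderOf b < n := lt_of_le_of_lt (Nat.le_of_dvd hmpos hbord) hmlt
    have hbcop : Nat.Coprime (orderOf b) (Nat.card H₂) := by
      have h1 : orderOf b ∣ orderOf g := orderOf_dvd_of_mem_zpowers hbz
      have h2 : Nat.card H₂ ∣ Nat.card H := Subgroup.card_dvd_of_le inf_le_left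
      exact Nat.Coprime.coprime_dvd_left h1 (Nat.Coprime.coprime_dvd_right h2 hcop)
    obtain ⟨x₂, hx₂, c, hc, hcb, hconj₂⟩ :=
      ih (orderOf b) hblt H₂ b rfl hbn₂ hbcop c₃ hc₃H₂
    obtain ⟨hx₂H, hx₂a⟩ := Subgroup.mem_inf.mp hx₂
    obtain ⟨hcH, hca⟩ := Subgroup.mem_inf.mp hc
    rw [Subgroup.mem_centralizer_iff] at hx₂a hca
    have hx₂a' : a * x₂ = x₂ * a := hx₂a a rfl
    have hca' : a * c = c * a := hca a rfl
    refine ⟨x₂ * x₀, H.mul_mem hx₂H hx₀, c, hcH, ?_, ?_⟩
    · rw [hgba]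
      calc c * (b * a) = (c * b) * a := by group
        _ = (b * c) * a := by rw [hcb]
        _ = b * (c * a) := by group
        _ = b * (a * c) := by rw [hca']
        _ = b * a * c := by group
    · have hx₂a'' : a * x₂⁻¹ = x₂⁻¹ * a := by
        have := congrArg (fun s => x₂⁻¹ * s * x₂⁻¹) hx₂a'
        simpa [mul_assoc] using this.symm
      calc x₂ * x₀ * (h * g) * (x₂ * x₀)⁻¹ = x₂ * (x₀ * (h * g) * x₀⁻¹) * x₂⁻¹ := by group
        _ = x₂ * (c₃ * g) * x₂⁻¹ := by rw [hconj]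
        _ = x₂ * (c₃ * (b * a)) * x₂⁻¹ := by rw [← hgba]
        _ = x₂ * (c₃ * b) * (a * x₂⁻¹) := by group
        _ = x₂ * (c₃ * b) * (x₂⁻¹ * a) := by rw [hx₂a'']
        _ = (x₂ * (c₃ * b) * x₂⁻¹) * a := by group
        _ = (c * b) * a := by rw [hconj₂]
        _ = c * (b * a) := by group
        _ = c * g := by rw [← hgba]

/-- Let H be a subgroup of the finite group G and g an element normalising H whose order is coprime to the order of H. Then for every h ∈ H there are x ∈ H and c ∈ H commuting with g such that x * (h * g) * x⁻¹ = c * g. -/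
theorem result {G : Type*} [Group G] [Finite G] (H : Subgroup G) (g : G) (hg : g ∈ Subgroup.normalizer (H : Set G)) (hcop : Nat.Coprime (orderOf g) (Nat.card H)) (h : G) (hh : h ∈ H) : ∃ x ∈ H, ∃ c ∈ H, c * g = g * c ∧ x * (h * g) * x⁻¹ = c * g :=
  main (orderOf g) H g rfl hg hcop h hh

end Cfsg.Agent.S1496
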