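import Mathlib
import Cfsg.Statements.S1503
import Cfsg.Agent.Lib.Helper24.CharComplete
import Cfsg.Agent.Lib.Helper8.IndFun
import Cfsg.Agent.Lib.Helper8.Dual
import Cfsg.Agent.S1506

set_option autoImplicit false
open Cfsg

namespace Cfsg.Agent.S1503

open Cfsg.Agent.Helper8
open scoped ComplexConjugate

/-- Let W₁, W₂ ≤ G with W = W₁ ⊔ W₂ and let χ an orthonormal family of irreducible characters of G up to sign, indexed by the linear characters ω of W, with χ_1 = 1, χ_ω = ω on W outside W₁ ∪ W₂, and the induction identity for (1 − φ)(1 − ψ). If θ is an irreducible character of G orthogonal to χ ω for every linear character ω of W, then θ vanishes at every element of W lying outside W₁ ∪ W₂. -/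
theorem result {G : Type*} [Group G] [Fintype G] (W₁ W₂ : Subgroup G) (hW : Cfsg.IsSelfNormalizingCyclic W₁ W₂) (χ : (↥(W₁ ⊔ W₂) →* ℂˣ) → (G → ℂ)) (hχ : Cfsg.IsCyclicTIFamily W₁ W₂ χ) (θ : G → ℂ) (hθ : Cfsg.IsIrrCharacter G θ) (horth : ∀ ω, Cfsg.classInner θ (χ ω) = 0) (w : ↥(W₁ ⊔ W₂)) (hw₁ : (w : G) ∉ W₁) (hw₂ : (w : G) ∉ W₂) : θ w = 0 := by
  classical
  obtain ⟨hW1, hW2, hdisj, hcomm, hcyc, hnorm⟩ := hW
  have hA : ∀ x y : ↥(W₁ ⊔ W₂), x * y = y * x := by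
    intro x y
    haveI := hcyc
    letI := IsCyclic.commGroup (α := ↥(W₁ ⊔ W₂))
    exact mul_comm x y
  have hinf : W₁.subgroupOf (W₁ ⊔ W₂) ⊓ W₂.subgroupOf (W₁ ⊔ W₂) = ⊥ := by
    rw [eq_bot_iff]
    intro x hx
    obtain ⟨h1, h2⟩ := Subgroup.mem_inf.mp hx
    have : (x : G) ∈ W₁ ⊓ W₂ := Subgroup.mem_inf.mpr ⟨h1, h2⟩
    rw [hdisj, Subgroup.mem_bot] at this
    rw [Subgroup.mem_bot]
    exact Subtype.ext this
  haveI := finite_hom hA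
  haveI : Fintype ↥(W₁ ⊔ W₂) := Fintype.ofFinite _
  haveI : Fintype ↥(trivOn (W₂.subgroupOf (W₁ ⊔ W₂))) := Fintype.ofFinite _
  haveI : Fintype ↥(trivOn (W₁.subgroupOf (W₁ ⊔ W₂))) := Fintype.ofFinite _
  have hθc : Cfsg.IsClassFunction G θ := by
    obtain ⟨n, ρ, -, rfl⟩ := hθ
    intro g h
    exact Representation.char_conj ρ g h
  -- orthogonality on `W`
  have horthW : ∀ (φ : ↥(trivOn (W₂.subgroupOf (W₁ ⊔ W₂))))
      (ψ : ↥(trivOn (W₁.subgroupOf (W₁ ⊔ W₂)))),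
      Cfsg.classInner (fun h : ↥(W₁ ⊔ W₂) => θ h)
        (fun w' : ↥(W₁ ⊔ W₂) => 1 - (((φ : ↥(W₁ ⊔ W₂) →* ℂˣ) w' : ℂˣ) : ℂ)
          - (((ψ : ↥(W₁ ⊔ W₂) →* ℂˣ) w' : ℂˣ) : ℂ)
          + (((φ : ↥(W₁ ⊔ W₂) →* ℂˣ) w' : ℂˣ) : ℂ) * (((ψ : ↥(W₁ ⊔ W₂) →* ℂˣ) w' : ℂˣ) : ℂ)) = 0 := by
    rintro ⟨φ, hφ⟩ ⟨ψ, hψ⟩
    simp only
    by_cases hφ1 : φ = 1
    · have : (fun w' : ↥(W₁ ⊔ W₂) => 1 - ((φ w' : ℂˣ) : ℂ) - ((ψ w' : ℂˣ) : ℂ)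
          + ((φ w' : ℂˣ) : ℂ) * ((ψ w' : ℂˣ) : ℂ)) = 0 := by
        ext w'
        rw [hφ1]
        simp
      rw [this, Helper24.classInner_zero_right]
    by_cases hψ1 : ψ = 1
    · have : (fun w' : ↥(W₁ ⊔ W₂) => 1 - ((φ w' : ℂˣ) : ℂ) - ((ψ w' : ℂˣ) : ℂ)
          + ((φ w' : ℂˣ) : ℂ) * ((ψ w' : ℂˣ) : ℂ)) = 0 := by
        ext w'
        rw [hψ1]
        simp
      rw [this, Helper24.classInner_zero_right]
    rw [← classInner_indFun_right (W₁ ⊔ W₂) _ θ hθc,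
      hχ.induced_eq φ ψ hφ1 hψ1 (fun w' hw' => hφ w' hw') (fun w' hw' => hψ w' hw'),
      S1506.classInner_combo, show (fun _ : G => (1 : ℂ)) = χ 1 from hχ.map_one.symm,
      horth, horth, horth, horth]
    ring
  -- the delta function at `w`
  have hdelta : (∑ φ : ↥(trivOn (W₂.subgroupOf (W₁ ⊔ W₂))),
      ∑ ψ : ↥(trivOn (W₁.subgroupOf (W₁ ⊔ W₂))),
        ((((φ : ↥(W₁ ⊔ W₂) →* ℂˣ) w⁻¹ : ℂˣ) : ℂ) * (((ψ : ↥(W₁ ⊔ W₂) →* ℂˣ) w⁻¹ : ℂˣ) : ℂ)) •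
        (fun w' : ↥(W₁ ⊔ W₂) => 1 - (((φ : ↥(W₁ ⊔ W₂) →* ℂˣ) w' : ℂˣ) : ℂ)
          - (((ψ : ↥(W₁ ⊔ W₂) →* ℂˣ) w' : ℂˣ) : ℂ)
          + (((φ : ↥(W₁ ⊔ W₂) →* ℂˣ) w' : ℂˣ) : ℂ) * (((ψ : ↥(W₁ ⊔ W₂) →* ℂˣ) w' : ℂˣ) : ℂ)))
      = fun w' : ↥(W₁ ⊔ W₂) => if w' = w then
          (Nat.card ↥(trivOn (W₂.subgroupOf (W₁ ⊔ W₂))) : ℂ)
            * (Nat.card ↥(trivOn (W₁.subgroupOf (W₁ ⊔ W₂))) : ℂ) else 0 := by
    ext w'
    rw [← delta_expansion hA _ _ hinf w hw₁ hw₂ w']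
    simp only [Finset.sum_apply, Pi.smul_apply, smul_eq_mul]
  have h0 : Cfsg.classInner (fun h : ↥(W₁ ⊔ W₂) => θ h)
      (fun w' : ↥(W₁ ⊔ W₂) => if w' = w then
          (Nat.card ↥(trivOn (W₂.subgroupOf (W₁ ⊔ W₂))) : ℂ)
            * (Nat.card ↥(trivOn (W₁.subgroupOf (W₁ ⊔ W₂))) : ℂ) else 0) = 0 := by
    rw [← hdelta, Helper24.classInner_sum_right]
    apply Finset.sum_eq_zero
    intro φ _
    rw [Helper24.classInner_sum_right]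
    apply Finset.sum_eq_zero
    intro ψ _
    rw [Helper24.classInner_smul_right, horthW, mul_zero]
  rw [classInner_def] at h0
  have hcard : (Nat.card ↥(W₁ ⊔ W₂) : ℂ) ≠ 0 := by
    exact_mod_cast (Nat.card_pos (α := ↥(W₁ ⊔ W₂))).ne'
  have hN1 : (Nat.card ↥(trivOn (W₂.subgroupOf (W₁ ⊔ W₂))) : ℂ) ≠ 0 := by
    exact_mod_cast (card_trivOn_pos hA _).ne'
  have hN2 : (Nat.card ↥(trivOn (W₁.subgroupOf (W₁ ⊔ W₂))) : ℂ) ≠ 0 := by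
    exact_mod_cast (card_trivOn_pos hA _).ne'
  rw [Finset.sum_eq_single w] at h0
  · rw [if_pos rfl] at h0
    simp only [map_mul, map_natCast, mul_eq_zero, inv_eq_zero, hcard, hN1, hN2, false_or,
      or_false] at h0
    exact h0
  · intro b _ hb
    rw [if_neg hb, map_zero, mul_zero]
  · intro h
    exact absurd (Finset.mem_univ w) h

end Cfsg.Agent.S1503
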