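import Mathlib
import Cfsg.Statements.S1507
import Cfsg.Agent.Lib.Helper8.IndFun
import Cfsg.Agent.Lib.Helper8.Dual
import Cfsg.Agent.S1506

set_option autoImplicit false
open Cfsg

namespace Cfsg.Agent.S1507

open Cfsg.Agent.Helper8

section Comb

variable {Φ Ψ : Type*} [Fintype Φ] [Fintype Ψ] [DecidableEq Φ] [DecidableEq Ψ]

/-- number of nonzero entries in the row `φ` of the matrix `α φ + β ψ` -/
noncomputable def rowCount (α : Φ → ℂ) (β : Ψ → ℂ) (φ : Φ) : ℕ :=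
  (Finset.univ.filter (fun ψ : Ψ => α φ + β ψ ≠ 0)).card

theorem card_nonzero_eq_sum (α : Φ → ℂ) (β : Ψ → ℂ) :
    (Finset.univ.filter (fun p : Φ × Ψ => α p.1 + β p.2 ≠ 0)).card = ∑ φ, rowCount α β φ := by
  rw [Finset.card_filter, Fintype.sum_prod_type]
  refine Finset.sum_congr rfl fun φ _ => ?_
  rw [rowCount, Finset.card_filter]

theorem matrix_few_nonzero (α : Φ → ℂ) (β : Ψ → ℂ)
    (hcard : Fintype.card Φ + 2 ≤ Fintype.card Ψ)
    (hfew : (Finset.univ.filter (fun p : Φ × Ψ => α p.1 + β p.2 ≠ 0)).card < 2 * Fintype.card Φ) :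
    (∀ φ ψ, α φ + β ψ = 0) ∨ (∃ ψ₀ a, ∀ φ ψ, α φ + β ψ = if ψ = ψ₀ then a else 0) ∨
      (∃ φ₀ a, ∀ φ ψ, α φ + β ψ = if φ = φ₀ then a else 0) := by
  rw [card_nonzero_eq_sum] at hfew
  have hΦ : Nonempty Φ := by
    by_contra h
    rw [not_nonempty_iff] at h
    simp at hfew
  have hΨ : Nonempty Ψ := by
    rw [← Fintype.card_pos_iff]; omega
  obtain ⟨φs⟩ := hΦ
  obtain ⟨ψs⟩ := hΨ
  by_cases hβ : ∀ ψ ψ', β ψ = β ψ'
  · -- `β` constant: rows
    have hrow : ∀ φ, α φ + β ψs ≠ 0 → rowCount α β φ = Fintype.card Ψ := by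
      intro φ h
      rw [rowCount, Finset.filter_true_of_mem, Finset.card_univ]
      intro ψ _
      rw [hβ ψ ψs]; exact h
    by_cases h2 : ∃ φ₁ φ₂, φ₁ ≠ φ₂ ∧ α φ₁ + β ψs ≠ 0 ∧ α φ₂ + β ψs ≠ 0
    · exfalso
      obtain ⟨φ₁, φ₂, hne, h1, h2⟩ := h2
      have : ∑ φ ∈ ({φ₁, φ₂} : Finset Φ), rowCount α β φ ≤ ∑ φ, rowCount α β φ :=
        Finset.sum_le_sum_of_subset (Finset.subset_univ _)
      rw [Finset.sum_pair hne, hrow φ₁ h1, hrow φ₂ h2] at this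
      omega
    · push Not at h2
      by_cases h1 : ∃ φ₀, α φ₀ + β ψs ≠ 0
      · obtain ⟨φ₀, h0⟩ := h1
        right; right
        refine ⟨φ₀, α φ₀ + β ψs, fun φ ψ => ?_⟩
        rw [hβ ψ ψs]
        by_cases hφ : φ = φ₀
        · rw [if_pos hφ, hφ]
        · rw [if_neg hφ]
          by_contra hne
          exact hne (by
            have := h2 φ φ₀ hφ hne
            exact absurd this h0)
      · push Not at h1
        left
        intro φ ψ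
        rw [hβ ψ ψs]; exact h1 φ
  by_cases hα : ∀ φ φ', α φ = α φ'
  · -- `α` constant: columns
    have hrow : ∀ φ, rowCount α β φ = (Finset.univ.filter (fun ψ : Ψ => α φs + β ψ ≠ 0)).card := by
      intro φ
      rw [rowCount, hα φ φs]
    by_cases h2 : ∃ ψ₁ ψ₂, ψ₁ ≠ ψ₂ ∧ α φs + β ψ₁ ≠ 0 ∧ α φs + β ψ₂ ≠ 0
    · exfalso
      obtain ⟨ψ₁, ψ₂, hne, h1, h2⟩ := h2
      have hsub : ({ψ₁, ψ₂} : Finset Ψ) ⊆ Finset.univ.filter (fun ψ : Ψ => α φs + β ψ ≠ 0) := by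
        intro ψ hψ
        rw [Finset.mem_insert, Finset.mem_singleton] at hψ
        rw [Finset.mem_filter]
        rcases hψ with rfl | rfl
        · exact ⟨Finset.mem_univ _, h1⟩
        · exact ⟨Finset.mem_univ _, h2⟩
      have hc := Finset.card_le_card hsub
      rw [Finset.card_pair hne] at hc
      have : ∑ φ : Φ, rowCount α β φ = Fintype.card Φ *
          (Finset.univ.filter (fun ψ : Ψ => α φs + β ψ ≠ 0)).card := by
        rw [Finset.sum_congr rfl (fun φ _ => hrow φ), Finset.sum_const, Finset.card_univ,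
          smul_eq_mul]
      rw [this] at hfew
      nlinarith
    · push Not at h2
      by_cases h1 : ∃ ψ₀, α φs + β ψ₀ ≠ 0
      · obtain ⟨ψ₀, h0⟩ := h1
        right; left
        refine ⟨ψ₀, α φs + β ψ₀, fun φ ψ => ?_⟩
        rw [hα φ φs]
        by_cases hψ : ψ = ψ₀
        · rw [if_pos hψ, hψ]
        · rw [if_neg hψ]
          by_contra hne
          exact absurd (h2 ψ ψ₀ hψ hne) h0
      · push Not at h1
        left
        intro φ ψ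
        rw [hα φ φs]; exact h1 ψ
  -- neither constant: contradiction
  exfalso
  push Not at hα hβ
  obtain ⟨φ₁, φ₂, hφ12⟩ := hα
  obtain ⟨ψ₁, ψ₂, hψ12⟩ := hβ
  have hpos : ∀ φ, 1 ≤ rowCount α β φ := by
    intro φ
    rw [rowCount, Nat.succ_le_iff, Finset.card_pos]
    by_cases h : α φ + β ψ₁ = 0
    · refine ⟨ψ₂, Finset.mem_filter.mpr ⟨Finset.mem_univ _, ?_⟩⟩
      intro h'
      apply hψ12
      have : α φ + β ψ₁ = α φ + β ψ₂ := by rw [h, h']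
      exact add_left_cancel this
    · exact ⟨ψ₁, Finset.mem_filter.mpr ⟨Finset.mem_univ _, h⟩⟩
  by_cases h3 : ∀ φ, 2 ≤ rowCount α β φ
  · have : ∑ _φ : Φ, 2 ≤ ∑ φ, rowCount α β φ := Finset.sum_le_sum fun φ _ => h3 φ
    rw [Finset.sum_const, Finset.card_univ, smul_eq_mul] at this
    omega
  · push Not at h3
    obtain ⟨φ₀, h0⟩ := h3
    -- a row with a different `α`-value
    obtain ⟨φ', hφ'⟩ : ∃ φ', α φ' ≠ α φ₀ := by
      by_cases h : α φ₁ = α φ₀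
      · exact ⟨φ₂, fun h' => hφ12 (h.trans h'.symm)⟩
      · exact ⟨φ₁, h⟩
    have hbig : Fintype.card Ψ - 1 ≤ rowCount α β φ' := by
      have hsub : Finset.univ.filter (fun ψ : Ψ => ¬ (α φ₀ + β ψ ≠ 0)) ⊆
          Finset.univ.filter (fun ψ : Ψ => α φ' + β ψ ≠ 0) := by
        intro ψ hψ
        rw [Finset.mem_filter] at hψ ⊢
        refine ⟨Finset.mem_univ _, ?_⟩
        have h1 : α φ₀ + β ψ = 0 := not_not.mp hψ.2
        intro h2
        apply hφ'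
        have : α φ' + β ψ = α φ₀ + β ψ := by rw [h1, h2]
        exact add_right_cancel this
      have hc := Finset.card_le_card hsub
      have hsplit := Finset.card_filter_add_card_filter_not (s := (Finset.univ : Finset Ψ))
        (fun ψ : Ψ => α φ₀ + β ψ ≠ 0)
      rw [Finset.card_univ] at hsplit
      rw [rowCount] at h0 ⊢
      omega
    have hsum : ∑ φ, rowCount α β φ = rowCount α β φ' +
        ∑ φ ∈ Finset.univ.erase φ', rowCount α β φ :=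
      (Finset.add_sum_erase _ _ (Finset.mem_univ φ')).symm
    have hrest : ∑ _φ ∈ Finset.univ.erase φ', 1 ≤ ∑ φ ∈ Finset.univ.erase φ', rowCount α β φ :=
      Finset.sum_le_sum fun φ _ => hpos φ
    rw [Finset.sum_const, Finset.card_erase_of_mem (Finset.mem_univ _), Finset.card_univ,
      smul_eq_mul, mul_one] at hrest
    omega

end Comb

open Classical in
/-- Let W₁, W₂ ≤ G form a self-normalising cyclic subgroup W = W₁ ⊔ W₂ of odd order with Nat.card W₁ < Nat.card W₂, and χ an orthonormal family of irreducible characters of G up to sign, indexed by the linear characters ω of W, with χ_1 = 1, χ_ω = ω on W outside W₁ ∪ W₂, and the induction identity for (1 − φ)(1 − ψ). Let θ be a class function of G vanishing on W outside W₁ ∪ W₂, and suppose fewer than 2 · Nat.card W₁ linear characters ω of W have ⟨θ, χ ω⟩ ≠ 0. Then one of: all ⟨θ, χ ω⟩ vanish; or there are ψ₀ and a with ⟨θ,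 χ ω⟩ = a when ω ψ₀⁻¹ is trivial on W₂ and 0 otherwise; or there are φ₀ and a with ⟨θ, χ ω⟩ = a when ω φ₀⁻¹ is trivial on W₁ and 0 otherwise. -/
theorem result {G : Type*} [Group G] [Fintype G] (W₁ W₂ : Subgroup G) (hW : Cfsg.IsSelfNormalizingCyclic W₁ W₂) (hodd : Odd (Nat.card ↥(W₁ ⊔ W₂))) (χ : (↥(W₁ ⊔ W₂) →* ℂˣ) → (G → ℂ)) (hχ : Cfsg.IsCyclicTIFamily W₁ W₂ χ) (hlt : Nat.card W₁ < Nat.card W₂) (θ : G → ℂ) (hθ : Cfsg.IsClassFunction G θ) (hθV : ∀ w : ↥(W₁ ⊔ W₂), (w : G) ∉ W₁ → (w : G) ∉ W₂ → θ w = 0) (hfew : Nat.card {ω : ↥(W₁ ⊔ W₂) →* ℂˣ // Cfsg.classInner θ (χ ω) ≠ 0} < 2 * Nat.card W₁) : (∀ ω, Cfsg.classInner θ (χ ω) = 0) ∨ (∃ (ψ₀ : ↥(W₁ ⊔ W₂) →* ℂˣ) (a : ℂ), ∀ ω, Cfsg.classInner θ (χ ω) = if (∀ w : ↥(W₁ ⊔ W₂), (w : G) ∈ W₂ → (ω * ψ₀⁻¹) w = 1) then a else 0) ∨ (∃ (φ₀ : ↥(W₁ ⊔ W₂) →* ℂˣ) (a : ℂ), ∀ ω, Cfsg.classInner θ (χ ω) = if (∀ w : ↥(W₁ ⊔ W₂), (w : G) ∈ W₁ → (ω * φ₀⁻¹) w = 1)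 then a else 0) := by
  obtain ⟨hW1, hW2, hdisj, hcomm, hcyc, hnorm⟩ := hW
  have hA : ∀ x y : ↥(W₁ ⊔ W₂), x * y = y * x := by
    intro x y
    haveI := hcyc
    letI := IsCyclic.commGroup (α := ↥(W₁ ⊔ W₂))
    exact mul_comm x y
  have hinf : W₁.subgroupOf (W₁ ⊔ W₂) ⊓ W₂.subgroupOf (W₁ ⊔ W₂) = ⊥ := by
    rw [eq_bot_iff]
    intro x hx
    obtain ⟨h1, h2⟩ := Subgroup.mem_inf.mp hx
    have : (x : G) ∈ W₁ ⊓ W₂ := Subgroup.mem_inf.mpr ⟨h1, h2⟩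
    rw [hdisj, Subgroup.mem_bot] at this
    rw [Subgroup.mem_bot]
    exact Subtype.ext this
  have hsup : W₁.subgroupOf (W₁ ⊔ W₂) ⊔ W₂.subgroupOf (W₁ ⊔ W₂) = ⊤ := by
    exact codisjoint_iff.mp (Subgroup.codisjoint_subgroupOf_sup W₁ W₂)
  haveI := finite_hom hA
  haveI : Fintype ↥(trivOn (W₂.subgroupOf (W₁ ⊔ W₂))) := Fintype.ofFinite _
  haveI : Fintype ↥(trivOn (W₁.subgroupOf (W₁ ⊔ W₂))) := Fintype.ofFinite _
  obtain ⟨hc1, hc2⟩ := card_trivOn_of_compl hA _ _ hinf hsup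
  have hn1 : Nat.card ↥(W₁.subgroupOf (W₁ ⊔ W₂)) = Nat.card W₁ :=
    Nat.card_congr (Subgroup.subgroupOfEquivOfLe le_sup_left).toEquiv
  have hn2 : Nat.card ↥(W₂.subgroupOf (W₁ ⊔ W₂)) = Nat.card W₂ :=
    Nat.card_congr (Subgroup.subgroupOfEquivOfLe le_sup_right).toEquiv
  have hmul : Nat.card W₁ * Nat.card W₂ = Nat.card ↥(W₁ ⊔ W₂) := by
    rw [← hn1, ← hn2]
    exact (isComplement'_of_comm hA _ _ hinf hsup).card_mul_card
  have hodd12 : Odd (Nat.card W₁) ∧ Odd (Nat.card W₂) := by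
    rw [← hmul] at hodd
    exact Nat.odd_mul.mp hodd
  have hcard : Fintype.card ↥(trivOn (W₂.subgroupOf (W₁ ⊔ W₂))) + 2
      ≤ Fintype.card ↥(trivOn (W₁.subgroupOf (W₁ ⊔ W₂))) := by
    rw [← Nat.card_eq_fintype_card, ← Nat.card_eq_fintype_card, hc1, hc2, hn1, hn2]
    obtain ⟨⟨k, hk⟩, ⟨l, hl⟩⟩ := hodd12
    omega
  have hab : ∀ (φ : ↥(trivOn (W₂.subgroupOf (W₁ ⊔ W₂))))
      (ψ : ↥(trivOn (W₁.subgroupOf (W₁ ⊔ W₂)))),
      Cfsg.classInner θ (χ (mulPair _ _ (φ, ψ)))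
        = (Cfsg.classInner θ (χ (φ : ↥(W₁ ⊔ W₂) →* ℂˣ)) - Cfsg.classInner θ (χ 1))
          + Cfsg.classInner θ (χ (ψ : ↥(W₁ ⊔ W₂) →* ℂˣ)) := by
    intro φ ψ
    have := S1506.basic W₁ W₂ χ hχ θ hθ hθV φ.1 ψ.1 (fun w hw => φ.2 w hw)
      (fun w hw => ψ.2 w hw)
    simp only [mulPair]
    rw [this]; ring
  let e : ↥(trivOn (W₂.subgroupOf (W₁ ⊔ W₂))) × ↥(trivOn (W₁.subgroupOf (W₁ ⊔ W₂)))
      ≃ (↥(W₁ ⊔ W₂) →* ℂˣ) := Equiv.ofBijective _ (mulPair_bijective hA _ _ hinf hsup)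
  have he : ∀ p, e p = mulPair _ _ p := fun p => rfl
  have hfew' : (Finset.univ.filter
      (fun p : ↥(trivOn (W₂.subgroupOf (W₁ ⊔ W₂))) × ↥(trivOn (W₁.subgroupOf (W₁ ⊔ W₂))) =>
        (Cfsg.classInner θ (χ (p.1 : ↥(W₁ ⊔ W₂) →* ℂˣ)) - Cfsg.classInner θ (χ 1))
          + Cfsg.classInner θ (χ (p.2 : ↥(W₁ ⊔ W₂) →* ℂˣ)) ≠ 0)).card
      < 2 * Fintype.card ↥(trivOn (W₂.subgroupOf (W₁ ⊔ W₂))) := by
    rw [← Nat.card_eq_fintype_card (α := ↥(trivOn (W₂.subgroupOf (W₁ ⊔ W₂)))), hc1, hn1]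
    refine lt_of_eq_of_lt ?_ hfew
    rw [← Fintype.card_subtype, ← Nat.card_eq_fintype_card]
    apply Nat.card_congr
    refine e.subtypeEquiv (fun p => ?_)
    rw [he, ← hab p.1 p.2]
  rcases matrix_few_nonzero
    (fun φ : ↥(trivOn (W₂.subgroupOf (W₁ ⊔ W₂))) =>
      Cfsg.classInner θ (χ (φ : ↥(W₁ ⊔ W₂) →* ℂˣ)) - Cfsg.classInner θ (χ 1))
    (fun ψ : ↥(trivOn (W₁.subgroupOf (W₁ ⊔ W₂))) =>
      Cfsg.classInner θ (χ (ψ : ↥(W₁ ⊔ W₂) →* ℂˣ))) hcard hfew'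
    with h | ⟨ψ₀, a₀, h⟩ | ⟨φ₀, a₀, h⟩
  · left
    intro ω
    obtain ⟨⟨φ, ψ⟩, rfl⟩ := e.surjective ω
    rw [he, hab]
    exact h φ ψ
  · right; left
    refine ⟨ψ₀.1, a₀, fun ω => ?_⟩
    obtain ⟨⟨φ, ψ⟩, rfl⟩ := e.surjective ω
    rw [he, hab, h φ ψ]
    apply if_congr _ rfl rfl
    constructor
    · rintro rfl w hw
      simp only [mulPair, MonoidHom.mul_apply, MonoidHom.inv_apply]
      rw [φ.2 w hw, one_mul, mul_inv_cancel]
    · intro hall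
      apply Subtype.ext
      apply hom_eq_of_eqOn_sup _ _ hsup
      · intro w hw
        rw [ψ.2 w hw, ψ₀.2 w hw]
      · intro w hw
        have := hall w hw
        simp only [mulPair, MonoidHom.mul_apply, MonoidHom.inv_apply] at this
        rw [φ.2 w hw, one_mul, mul_inv_eq_one] at this
        exact this
  · right; right
    refine ⟨φ₀.1, a₀, fun ω => ?_⟩
    obtain ⟨⟨φ, ψ⟩, rfl⟩ := e.surjective ω
    rw [he, hab, h φ ψ]
    apply if_congr _ rfl rfl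
    constructor
    · rintro rfl w hw
      simp only [mulPair, MonoidHom.mul_apply, MonoidHom.inv_apply]
      rw [ψ.2 w hw, mul_one, mul_inv_cancel]
    · intro hall
      apply Subtype.ext
      apply hom_eq_of_eqOn_sup _ _ hsup
      · intro w hw
        have := hall w hw
        simp only [mulPair, MonoidHom.mul_apply, MonoidHom.inv_apply] at this
        rw [ψ.2 w hw, mul_one, mul_inv_eq_one] at this
        exact this
      · intro w hw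
        rw [φ.2 w hw, φ₀.2 w hw]

end Cfsg.Agent.S1507
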