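import Mathlib
import Cfsg.Statements.S1510
import Cfsg.Agent.Lib.Helper8.Basic

set_option autoImplicit false
open Cfsg

namespace Cfsg.Agent.S1510

open Cfsg.Agent.Helper8

/-- Let L be a finite group with a normal subgroup K and a nontrivial cyclic subgroup W₁ of order coprime to its index, K ⊓ W₁ = ⊥ and K ⊔ W₁ = ⊤; let W₂ ≠ ⊥ be a cyclic subgroup of K with K ⊓ C_L(x) = W₂ for every non-identity x ∈ W₁, and suppose W₁ ⊔ W₂ has odd order. Then (W₁, W₂) is a self-normalising cyclic pair in L. -/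
theorem result {L : Type*} [Group L] [Fintype L] (K W₁ W₂ : Subgroup L) [hK : K.Normal] (hKW₁ : K ⊓ W₁ = ⊥) (hKW₁' : K ⊔ W₁ = ⊤) (hW₁ : W₁ ≠ ⊥) (hW₁c : IsCyclic W₁) (hHall : Nat.Coprime (Nat.card W₁) W₁.index) (hW₂ : W₂ ≠ ⊥) (hW₂c : IsCyclic W₂) (hW₂K : W₂ ≤ K) (hC : ∀ x ∈ W₁, x ≠ 1 → K ⊓ Subgroup.centralizer ({x} : Set L) = W₂) (hodd : Odd (Nat.card ↥(W₁ ⊔ W₂))) : Cfsg.IsSelfNormalizingCyclic W₁ W₂ := by
  -- (a) elementwise commutation
  have hcomm : ∀ a ∈ W₁, ∀ b ∈ W₂, a * b = b * a := by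
    intro a ha b hb
    by_cases ha1 : a = 1
    · subst ha1; simp
    · have hb' : b ∈ K ⊓ Subgroup.centralizer ({a} : Set L) := by rw [hC a ha ha1]; exact hb
      have := Subgroup.mem_centralizer_iff.mp hb'.2 a (Set.mem_singleton a)
      exact this
  -- (b) trivial intersection
  have hdisj : W₁ ⊓ W₂ = ⊥ := by
    apply le_bot_iff.mp
    rw [← hKW₁]
    exact le_inf (inf_le_right.trans hW₂K) inf_le_left
  -- (c) coprime orders
  have hcardK : Nat.card K = W₁.index := by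
    have h1 := index_eq_card_of_normal_compl K W₁ hKW₁ hKW₁'
    have h2 := Subgroup.index_mul_card K
    have h3 := Subgroup.index_mul_card W₁
    have hpos : 0 < Nat.card W₁ := Nat.card_pos
    rw [h1] at h2
    have : Nat.card W₁ * Nat.card K = Nat.card W₁ * W₁.index := by
      rw [h2, mul_comm, h3]
    exact Nat.eq_of_mul_eq_mul_left hpos this
  have hcop : Nat.Coprime (Nat.card W₁) (Nat.card W₂) := by
    apply Nat.Coprime.coprime_dvd_right (Subgroup.card_dvd_of_le hW₂K)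
    rw [hcardK]
    exact hHall
  -- (d) generators
  obtain ⟨w₁, hw₁⟩ := hW₁c.exists_generator
  obtain ⟨w₂, hw₂⟩ := hW₂c.exists_generator
  have hcw : Commute (w₁ : L) (w₂ : L) := hcomm w₁ w₁.2 w₂ w₂.2
  set z : L := (w₁ : L) * (w₂ : L) with hz
  have hw₁z : (w₁ : L) ∈ Subgroup.zpowers z := by
    have hc : Nat.Coprime (Nat.card W₂) (orderOf (w₁ : L)) :=
      (Nat.Coprime.coprime_dvd_left (orderOf_dvd_card_of_mem W₁ w₁ w₁.2) hcop).symm
    obtain ⟨m, hm⟩ := exists_pow_eq_self_of_coprime hc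
    have h1 : z ^ Nat.card W₂ = (w₁ : L) ^ Nat.card W₂ := by
      rw [hz, hcw.mul_pow, pow_card_of_mem W₂ w₂ w₂.2, mul_one]
    rw [← hm, ← h1, ← pow_mul]
    exact Subgroup.npow_mem_zpowers z _
  have hw₂z : (w₂ : L) ∈ Subgroup.zpowers z := by
    have hc : Nat.Coprime (Nat.card W₁) (orderOf (w₂ : L)) :=
      Nat.Coprime.coprime_dvd_right (orderOf_dvd_card_of_mem W₂ w₂ w₂.2) hcop
    obtain ⟨m, hm⟩ := exists_pow_eq_self_of_coprime hc
    have h1 : z ^ Nat.card W₁ = (w₂ : L) ^ Nat.card W₁ := by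
      rw [hz, hcw.mul_pow, pow_card_of_mem W₁ w₁ w₁.2, one_mul]
    rw [← hm, ← h1, ← pow_mul]
    exact Subgroup.npow_mem_zpowers z _
  have hW₁le : W₁ ≤ Subgroup.zpowers z := by
    intro x hx
    obtain ⟨n, hn⟩ := Subgroup.mem_zpowers_iff.mp (hw₁ ⟨x, hx⟩)
    have : x = (w₁ : L) ^ n := by
      have := congrArg Subtype.val hn
      simpa using this.symm
    rw [this]
    exact Subgroup.zpow_mem _ hw₁z n
  have hW₂le : W₂ ≤ Subgroup.zpowers z := by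
    intro x hx
    obtain ⟨n, hn⟩ := Subgroup.mem_zpowers_iff.mp (hw₂ ⟨x, hx⟩)
    have : x = (w₂ : L) ^ n := by
      have := congrArg Subtype.val hn
      simpa using this.symm
    rw [this]
    exact Subgroup.zpow_mem _ hw₂z n
  have hWeq : W₁ ⊔ W₂ = Subgroup.zpowers z := by
    apply le_antisymm (sup_le hW₁le hW₂le)
    rw [Subgroup.zpowers_le]
    exact Subgroup.mul_mem_sup w₁.2 w₂.2
  have hcyc : IsCyclic ↥(W₁ ⊔ W₂) := by
    rw [hWeq]
    infer_instance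
  -- decomposition of elements of W
  have hdecomp : ∀ x ∈ W₁ ⊔ W₂, ∃ a ∈ W₁, ∃ b ∈ W₂, x = a * b := by
    intro x hx
    rw [hWeq] at hx
    obtain ⟨n, rfl⟩ := Subgroup.mem_zpowers_iff.mp hx
    refine ⟨(w₁ : L) ^ n, Subgroup.zpow_mem _ w₁.2 n, (w₂ : L) ^ n, Subgroup.zpow_mem _ w₂.2 n, ?_⟩
    rw [hz, hcw.mul_zpow]
  -- W is commutative
  have hWcomm : ∀ x ∈ W₁ ⊔ W₂, ∀ y ∈ W₁ ⊔ W₂, x * y = y * x := by
    intro x hx y hy
    rw [hWeq] at hx hy
    obtain ⟨n, rfl⟩ := Subgroup.mem_zpowers_iff.mp hx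
    obtain ⟨m, rfl⟩ := Subgroup.mem_zpowers_iff.mp hy
    exact (Commute.refl z).zpow_zpow n m
  refine ⟨hW₁, hW₂, hdisj, hcomm, hcyc, ?_⟩
  intro X hX hXne
  have hWN : W₁ ⊔ W₂ ≤ Subgroup.normalizer X := by
    intro w hw
    rw [Subgroup.mem_set_normalizer_iff]
    intro n
    constructor
    · intro hn
      have hnW : n ∈ W₁ ⊔ W₂ := (hX hn).1
      have : w * n * w⁻¹ = n := by rw [hWcomm w hw n hnW]; group
      rw [this]; exact hn
    · intro hn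
      have hnW : w * n * w⁻¹ ∈ W₁ ⊔ W₂ := (hX hn).1
      have hn' : n ∈ W₁ ⊔ W₂ := by
        have : n = w⁻¹ * (w * n * w⁻¹) * w := by group
        rw [this]
        exact Subgroup.mul_mem _ (Subgroup.mul_mem _ (Subgroup.inv_mem _ hw) hnW) hw
      have : w * n * w⁻¹ = n := by rw [hWcomm w hw n hn']; group
      rw [this] at hn; exact hn
  apply le_antisymm _ hWN
  intro g hg
  obtain ⟨x, hxX⟩ := hXne
  have hxW : x ∈ W₁ ⊔ W₂ := (hX hxX).1
  have hxn1 : x ∉ W₁ := fun h => (hX hxX).2 (Or.inl h)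
  have hxn2 : x ∉ W₂ := fun h => (hX hxX).2 (Or.inr h)
  obtain ⟨a, ha, b, hb, hxab⟩ := hdecomp x hxW
  have ha1 : a ≠ 1 := by
    rintro rfl
    apply hxn2
    rw [hxab, one_mul]; exact hb
  -- g = k * w
  have hgtop : g ∈ K ⊔ W₁ := by rw [hKW₁']; exact Subgroup.mem_top g
  obtain ⟨k, hk, w, hw, hkw⟩ := Subgroup.mem_sup_of_normal_left.mp hgtop
  have hwN : w ∈ Subgroup.normalizer X := hWN ((le_sup_left : W₁ ≤ W₁ ⊔ W₂) hw)
  have hkN : k ∈ Subgroup.normalizer X := by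
    have : k = g * w⁻¹ := by rw [← hkw]; group
    rw [this]
    exact Subgroup.mul_mem _ hg (Subgroup.inv_mem _ hwN)
  have hyX : k * x * k⁻¹ ∈ X := (Subgroup.mem_set_normalizer_iff.mp hkN x).mp hxX
  have hyW : k * x * k⁻¹ ∈ W₁ ⊔ W₂ := (hX hyX).1
  obtain ⟨a', ha', b', hb', hyab⟩ := hdecomp _ hyW
  -- a' = a
  have haa : a' = a := by
    have hy2 : k * (a * b) * k⁻¹ = a' * b' := by rw [← hxab]; exact hyab
    have e1 : a'⁻¹ * (k * a * k⁻¹) = b' * (k * b * k⁻¹)⁻¹ := by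
      calc a'⁻¹ * (k * a * k⁻¹) = a'⁻¹ * (k * (a * b) * k⁻¹) * (k * b * k⁻¹)⁻¹ := by group
        _ = a'⁻¹ * (a' * b') * (k * b * k⁻¹)⁻¹ := by rw [hy2]
        _ = b' * (k * b * k⁻¹)⁻¹ := by group
    have hmemK : a'⁻¹ * a ∈ K := by
      have e2 : a'⁻¹ * a = (a'⁻¹ * (k * a * k⁻¹)) * (k * (a⁻¹ * k⁻¹ * a⁻¹⁻¹)) := by group
      rw [e2, e1]
      apply K.mul_mem
      · apply K.mul_mem (hW₂K hb')
        apply K.inv_mem
        exact hK.conj_mem b (hW₂K hb) k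
      · apply K.mul_mem hk
        exact hK.conj_mem k⁻¹ (K.inv_mem hk) a⁻¹
    have hmemW : a'⁻¹ * a ∈ W₁ := W₁.mul_mem (W₁.inv_mem ha') ha
    have : a'⁻¹ * a ∈ K ⊓ W₁ := Subgroup.mem_inf.mpr ⟨hmemK, hmemW⟩
    rw [hKW₁, Subgroup.mem_bot] at this
    exact (inv_mul_eq_one.mp this)
  subst haa
  -- power trick
  have hc : Nat.Coprime (Nat.card W₂) (orderOf a') :=
    (Nat.Coprime.coprime_dvd_left (orderOf_dvd_card_of_mem W₁ a' ha') hcop).symm
  obtain ⟨j, hj⟩ := exists_pow_eq_self_of_coprime hc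
  have hpx : x ^ (Nat.card W₂ * j) = a' := by
    rw [pow_mul, hxab, (show Commute a' b from hcomm a' ha' b hb).mul_pow,
      pow_card_of_mem W₂ b hb, mul_one, hj]
  have hpy : (k * x * k⁻¹) ^ (Nat.card W₂ * j) = a' := by
    rw [pow_mul, hyab, (show Commute a' b' from hcomm a' ha' b' hb').mul_pow,
      pow_card_of_mem W₂ b' hb', mul_one, hj]
  have hka : k * a' * k⁻¹ = a' := by
    calc k * a' * k⁻¹ = k * x ^ (Nat.card W₂ * j) * k⁻¹ := by rw [hpx]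
      _ = (k * x * k⁻¹) ^ (Nat.card W₂ * j) := by rw [conj_pow]
      _ = a' := hpy
  have hkW₂ : k ∈ W₂ := by
    rw [← hC a' ha' ha1]
    refine Subgroup.mem_inf.mpr ⟨hk, ?_⟩
    rw [Subgroup.mem_centralizer_iff]
    intro y hy
    rw [Set.mem_singleton_iff] at hy
    subst hy
    calc y * k = (k * y * k⁻¹) * k := by rw [hka]
      _ = k * y := by group
  rw [← hkw]
  exact Subgroup.mul_mem _ ((le_sup_right : W₂ ≤ W₁ ⊔ W₂) hkW₂) ((le_sup_left : W₁ ≤ W₁ ⊔ W₂) hw)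

end Cfsg.Agent.S1510
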