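import Mathlib
import Cfsg.Statements.S1511
import Cfsg.Agent.Lib.Helper24.CharComplete
import Cfsg.Agent.Lib.Helper24.CharInduced
import Cfsg.Agent.Lib.Helper24.CharLinear
import Cfsg.Agent.Lib.Helper24.CharHom
import Cfsg.Agent.Lib.Helper18.GenChar
import Cfsg.Agent.Lib.Helper8.Dual
import Cfsg.Agent.S0170

set_option autoImplicit false
open Cfsg

namespace Cfsg.Agent.S1511

open Cfsg.Agent.Helper24 Cfsg.Agent.Helper8
open scoped ComplexConjugate

universe u

section GroupTheory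

variable {L : Type u} [Group L] (K W₁ W₂ : Subgroup L)

/-- elements of `W₁` commute with elements of `W₂` -/
theorem comm12 (hC : ∀ x ∈ W₁, x ≠ 1 → K ⊓ Subgroup.centralizer ({x} : Set L) = W₂)
    {a b : L} (ha : a ∈ W₁) (hb : b ∈ W₂) : a * b = b * a := by
  by_cases ha1 : a = 1
  · rw [ha1, one_mul, mul_one]
  · have hb' := hb
    rw [← hC a ha ha1] at hb'
    exact (Subgroup.mem_centralizer_iff.mp hb'.2) a (Set.mem_singleton a)

theorem comm11 (hW₁c : IsCyclic W₁) {a b : L} (ha : a ∈ W₁) (hb : b ∈ W₁) : a * b = b * a := by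
  haveI := hW₁c
  have := (IsCyclic.isMulCommutative (α := W₁)).is_comm.comm ⟨a, ha⟩ ⟨b, hb⟩
  exact congrArg (fun z : W₁ => (z : L)) this

theorem le_centralizer (hW₁c : IsCyclic W₁) (hW₂c : IsCyclic W₂)
    (hC : ∀ x ∈ W₁, x ≠ 1 → K ⊓ Subgroup.centralizer ({x} : Set L) = W₂) :
    W₁ ⊔ W₂ ≤ Subgroup.centralizer ((W₁ ⊔ W₂ : Subgroup L) : Set L) := by
  apply sup_le
  · rw [Subgroup.le_centralizer_iff]
    apply sup_le
    · intro a ha
      rw [Subgroup.mem_centralizer_iff]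
      intro b hb
      exact comm11 W₁ hW₁c hb ha
    · intro a ha
      rw [Subgroup.mem_centralizer_iff]
      intro b hb
      exact comm12 K W₁ W₂ hC hb ha
  · rw [Subgroup.le_centralizer_iff]
    apply sup_le
    · intro a ha
      rw [Subgroup.mem_centralizer_iff]
      intro b hb
      exact (comm12 K W₁ W₂ hC ha hb).symm
    · intro a ha
      rw [Subgroup.mem_centralizer_iff]
      intro b hb
      exact comm11 W₂ hW₂c hb ha

/-- `W = W₁ ⊔ W₂` is commutative -/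
theorem commW (hW₁c : IsCyclic W₁) (hW₂c : IsCyclic W₂)
    (hC : ∀ x ∈ W₁, x ≠ 1 → K ⊓ Subgroup.centralizer ({x} : Set L) = W₂)
    {a b : L} (ha : a ∈ W₁ ⊔ W₂) (hb : b ∈ W₁ ⊔ W₂) : a * b = b * a := by
  have := le_centralizer K W₁ W₂ hW₁c hW₂c hC hb
  exact (Subgroup.mem_centralizer_iff.mp this) a ha

/-- every element of `W` is a product -/
theorem decomp (hC : ∀ x ∈ W₁, x ≠ 1 → K ⊓ Subgroup.centralizer ({x} : Set L) = W₂)
    {w : L} (hw : w ∈ W₁ ⊔ W₂) : ∃ a ∈ W₁, ∃ b ∈ W₂, w = a * b := by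
  have hle : W₁ ≤ Subgroup.normalizer (W₂ : Set L) := by
    refine le_trans ?_ (Subgroup.centralizer_le_normalizer (W₂ : Set L))
    intro a ha
    rw [Subgroup.mem_centralizer_iff]
    intro b hb
    exact (comm12 K W₁ W₂ hC ha hb).symm
  have h := Subgroup.coe_mul_of_left_le_normalizer_right W₁ W₂ hle
  have hw' : w ∈ ((W₁ ⊔ W₂ : Subgroup L) : Set L) := hw
  rw [h, Set.mem_mul] at hw'
  obtain ⟨a, ha, b, hb, rfl⟩ := hw'
  exact ⟨a, ha, b, hb, rfl⟩

/-- `W ∩ K = W₂` -/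
theorem mem_W₂_of_mem_K (hKW₁ : K ⊓ W₁ = ⊥) (hW₂K : W₂ ≤ K)
    (hC : ∀ x ∈ W₁, x ≠ 1 → K ⊓ Subgroup.centralizer ({x} : Set L) = W₂)
    {w : L} (hw : w ∈ W₁ ⊔ W₂) (hwK : w ∈ K) : w ∈ W₂ := by
  obtain ⟨a, ha, b, hb, rfl⟩ := decomp K W₁ W₂ hC hw
  have haK : a ∈ K := by
    have := K.mul_mem hwK (K.inv_mem (hW₂K hb))
    simpa using this
  have : a ∈ K ⊓ W₁ := ⟨haK, ha⟩
  rw [hKW₁, Subgroup.mem_bot] at this
  rw [this, one_mul]
  exact hb

/-- the TI property of `W \ W₂` -/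
theorem ti [hK : K.Normal] [Finite L] (hKW₁ : K ⊓ W₁ = ⊥) (hKW₁' : K ⊔ W₁ = ⊤)
    (hW₁c : IsCyclic W₁) (hW₂c : IsCyclic W₂) (hW₂K : W₂ ≤ K)
    (hcop : (Nat.card W₁).Coprime (Nat.card W₂))
    (hC : ∀ x ∈ W₁, x ≠ 1 → K ⊓ Subgroup.centralizer ({x} : Set L) = W₂)
    {a : L} (ha : a ∈ W₁ ⊔ W₂) (ha2 : a ∉ W₂) {g : L} (hg : g * a * g⁻¹ ∈ W₁ ⊔ W₂) :
    g ∈ W₁ ⊔ W₂ := by
  have hg' : g ∈ ((K ⊔ W₁ : Subgroup L) : Set L) := by rw [hKW₁']; trivial
  rw [Subgroup.normal_mul, Set.mem_mul] at hg'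
  obtain ⟨k, hk, u, hu, rfl⟩ := hg'
  have huW : u ∈ W₁ ⊔ W₂ := (le_sup_left : W₁ ≤ W₁ ⊔ W₂) hu
  have hua : u * a * u⁻¹ = a := by
    rw [commW K W₁ W₂ hW₁c hW₂c hC huW ha, mul_inv_cancel_right]
  have hb : k * a * k⁻¹ ∈ W₁ ⊔ W₂ := by
    have : k * u * a * (k * u)⁻¹ = k * (u * a * u⁻¹) * k⁻¹ := by group
    rw [this, hua] at hg
    exact hg
  set b := k * a * k⁻¹ with hb_def
  -- z = a⁻¹ b ∈ W₂
  have hz : a⁻¹ * b ∈ W₂ := by
    apply mem_W₂_of_mem_K K W₁ W₂ hKW₁ hW₂K hC ((W₁ ⊔ W₂).mul_mem ((W₁ ⊔ W₂).inv_mem ha) hb)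
    have : a⁻¹ * b = (a⁻¹ * k * a⁻¹⁻¹) * k⁻¹ := by rw [hb_def]; group
    rw [this]
    exact K.mul_mem (hK.conj_mem k hk a⁻¹) (K.inv_mem hk)
  obtain ⟨a₁, ha₁, a₂, ha₂, haa⟩ := decomp K W₁ W₂ hC ha
  have ha₁1 : a₁ ≠ 1 := by
    rintro rfl
    rw [one_mul] at haa
    exact ha2 (haa ▸ ha₂)
  set n := Nat.card W₂ with hn
  have hpow2 : ∀ y ∈ W₂, y ^ n = 1 := by
    intro y hy
    have h1 : (⟨y, hy⟩ : W₂) ^ n = 1 := pow_card_eq_one'
    have h2 := congrArg (fun z : W₂ => (z : L)) h1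
    simpa only [Subgroup.coe_pow, Subgroup.coe_one] using h2
  have han : a ^ n = a₁ ^ n := by
    rw [haa, (show Commute a₁ a₂ from comm12 K W₁ W₂ hC ha₁ ha₂).mul_pow, hpow2 a₂ ha₂, mul_one]
  have hbn : b ^ n = a ^ n := by
    have hbz : b = a * (a⁻¹ * b) := by group
    have hcomm : Commute a (a⁻¹ * b) :=
      commW K W₁ W₂ hW₁c hW₂c hC ha ((le_sup_right : W₂ ≤ W₁ ⊔ W₂) hz)
    rw [hbz, hcomm.mul_pow, hpow2 _ hz, mul_one]
  have hbn' : b ^ n = k * a ^ n * k⁻¹ := by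
    rw [hb_def, conj_pow]
  set x := a₁ ^ n with hx_def
  have hxW : x ∈ W₁ := W₁.pow_mem ha₁ n
  have hx1 : x ≠ 1 := by
    intro h
    apply ha₁1
    have h1 : orderOf a₁ ∣ n := orderOf_dvd_of_pow_eq_one h
    have h2 : orderOf a₁ ∣ Nat.card W₁ := by
      have := Subgroup.orderOf_dvd_natCard W₁ ha₁
      exact this
    have h3 : orderOf a₁ ∣ 1 := by
      have := Nat.dvd_gcd h2 h1
      rwa [Nat.Coprime.gcd_eq_one hcop] at this
    exact orderOf_eq_one_iff.mp (Nat.dvd_one.mp h3)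
  have hkx : k * x * k⁻¹ = x := by
    rw [← han, ← hbn', hbn]
  have hkW₂ : k ∈ W₂ := by
    rw [← hC x hxW hx1]
    refine ⟨hk, ?_⟩
    show k ∈ Subgroup.centralizer {x}
    rw [Subgroup.mem_centralizer_iff]
    intro y hy
    rw [Set.mem_singleton_iff] at hy
    rw [hy]
    calc x * k = (k * x * k⁻¹) * k := by rw [hkx]
      _ = k * x := by group
  exact (W₁ ⊔ W₂).mul_mem ((le_sup_right : W₂ ≤ W₁ ⊔ W₂) hkW₂) huW

theorem centralizer_eq [hK : K.Normal] [Finite L] (hKW₁ : K ⊓ W₁ = ⊥) (hKW₁' : K ⊔ W₁ = ⊤)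
    (hW₁c : IsCyclic W₁) (hW₂c : IsCyclic W₂) (hW₂K : W₂ ≤ K)
    (hcop : (Nat.card W₁).Coprime (Nat.card W₂))
    (hC : ∀ x ∈ W₁, x ≠ 1 → K ⊓ Subgroup.centralizer ({x} : Set L) = W₂)
    {a : L} (ha : a ∈ W₁ ⊔ W₂) (ha2 : a ∉ W₂) :
    Subgroup.centralizer ({a} : Set L) = W₁ ⊔ W₂ := by
  apply le_antisymm
  · intro g hg
    rw [Subgroup.mem_centralizer_iff] at hg
    have h1 := hg a (Set.mem_singleton a)
    apply ti K W₁ W₂ hKW₁ hKW₁' hW₁c hW₂c hW₂K hcop hC ha ha2 (g := g)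
    rw [← h1, mul_inv_cancel_right]
    exact ha
  · intro g hg
    rw [Subgroup.mem_centralizer_iff]
    intro y hy
    rw [Set.mem_singleton_iff] at hy
    rw [hy]
    exact commW K W₁ W₂ hW₁c hW₂c hC ha hg

end GroupTheory

section TI

variable {L : Type u} [Group L] [Fintype L] (W B : Subgroup L)

/-- induction from an abelian subgroup `W` at an element of a TI-subset `W \ B` -/
theorem ind_apply (hcomm : ∀ a ∈ W, ∀ b ∈ W, a * b = b * a)
    (hti : ∀ a ∈ W, a ∉ B → ∀ g : L, g * a * g⁻¹ ∈ W → g ∈ W)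
    (φ : W → ℂ) (a : W) (ha : (a : L) ∉ B) : indFun W φ (a : L) = φ a := by
  classical
  letI : Fintype W := Fintype.ofFinite W
  rw [indFun_apply]
  have h0 : ∀ x ∉ W, extendByZero W φ (x⁻¹ * (a : L) * x) = 0 := by
    intro x hx
    apply extendByZero_of_not_mem
    intro h
    apply hx
    have := hti a a.2 ha x⁻¹ (by rwa [inv_inv])
    simpa using W.inv_mem this
  rw [sum_eq_sum_subgroup W _ h0]
  have h1 : ∀ h : W, extendByZero W φ ((h : L)⁻¹ * (a : L) * h) = φ a := by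
    intro h
    have : (h : L)⁻¹ * (a : L) * h = a := by
      rw [mul_assoc, hcomm a a.2 h h.2, inv_mul_cancel_left]
    rw [this, extendByZero_of_mem W φ a.2]
  rw [Finset.sum_congr rfl (fun h _ => h1 h), Finset.sum_const, Finset.card_univ,
    ← Nat.card_eq_fintype_card, nsmul_eq_mul, ← mul_assoc, inv_mul_cancel₀, one_mul]
  exact_mod_cast (Nat.card_pos (α := W)).ne'

/-- induction is an isometry on functions vanishing on `B` -/
theorem ind_isometry [Fintype W] (hcomm : ∀ a ∈ W, ∀ b ∈ W, a * b = b * a)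
    (hti : ∀ a ∈ W, a ∉ B → ∀ g : L, g * a * g⁻¹ ∈ W → g ∈ W)
    (φ φ' : W → ℂ) (hφ : ∀ w : W, (w : L) ∈ B → φ w = 0) :
    classInner (indFun W φ) (indFun W φ') = classInner φ φ' := by
  rw [frobenius_reciprocity W φ (isClassFunction_indFun W φ')]
  unfold classInner
  congr 1
  apply Finset.sum_congr rfl
  intro w _
  by_cases hw : (w : L) ∈ B
  · rw [hφ w hw, zero_mul, zero_mul]
  · show φ w * conj (indFun W φ' (w : L)) = _
    rw [ind_apply W B hcomm hti φ' w hw]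

/-- a linear character as a complex function -/
def lin (ω : W →* ℂˣ) : W → ℂ := fun w => ((ω w : ℂˣ) : ℂ)

omit [Fintype L] in
theorem lin_injective : Function.Injective (lin W) := by
  intro ω ω' h
  ext w
  exact congrFun h w

omit [Fintype L] in
theorem lin_irr [Finite L] (ω : W →* ℂˣ) : IsIrrCharacter W (lin W ω) :=
  isIrrCharacter_of_monoidHom ω

/-- restriction of a linear character of `W` to `B ∩ W` -/
def res (ω : W →* ℂˣ) : (B.subgroupOf W) →* ℂˣ := ω.comp (B.subgroupOf W).subtype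

omit [Fintype L] in
theorem res_eq_iff (ω ω' : W →* ℂˣ) :
    res W B ω = res W B ω' ↔ ∀ w : W, (w : L) ∈ B → ω w = ω' w := by
  constructor
  · intro h w hw
    exact DFunLike.congr_fun h ⟨w, Subgroup.mem_subgroupOf.mpr hw⟩
  · intro h
    ext w
    have := h (w : W) (Subgroup.mem_subgroupOf.mp w.2)
    simp [res, this]

theorem classInner_lin [Fintype W] (ω ω' : W →* ℂˣ) :
    classInner (lin W ω) (lin W ω') = if ω = ω' then 1 else 0 := by
  rw [irr_orthogonality (lin_irr W ω) (lin_irr W ω')]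
  by_cases h : ω = ω'
  · rw [if_pos h, if_pos (by rw [h])]
  · rw [if_neg h, if_neg (fun h' => h (lin_injective W h'))]

theorem classInner_lin_sub [Fintype W] (a b c d : W →* ℂˣ) :
    classInner (lin W a - lin W b) (lin W c - lin W d) =
      (if a = c then 1 else 0) - (if a = d then 1 else 0) - (if b = c then 1 else 0)
        + (if b = d then 1 else 0) := by
  have e1 : lin W a - lin W b = lin W a + (-1 : ℂ) • lin W b := by
    rw [neg_one_smul, sub_eq_add_neg]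
  have e2 : lin W c - lin W d = lin W c + (-1 : ℂ) • lin W d := by
    rw [neg_one_smul, sub_eq_add_neg]
  rw [e1, e2, classInner_add_left, classInner_add_right, classInner_add_right,
    classInner_smul_left, classInner_smul_left, classInner_smul_right, classInner_smul_right,
    classInner_lin, classInner_lin, classInner_lin, classInner_lin]
  simp only [map_neg, map_one]
  ring

theorem row_data (hcomm : ∀ a ∈ W, ∀ b ∈ W, a * b = b * a)
    (hti : ∀ a ∈ W, a ∉ B → ∀ g : L, g * a * g⁻¹ ∈ W → g ∈ W)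
    (ρ : (B.subgroupOf W) →* ℂˣ) :
    ∃ ε : ℂ, (ε = 1 ∨ ε = -1) ∧ ∃ θ : {ω : W →* ℂˣ // res W B ω = ρ} → (L → ℂ),
      (∀ i, IsIrrCharacter L (θ i)) ∧ Function.Injective θ ∧
        ∀ i j : {ω : W →* ℂˣ // res W B ω = ρ},
          indFun W (lin W i.1 - lin W j.1) = ε • (θ i - θ j) := by
  classical
  letI : Fintype W := Fintype.ofFinite W
  have hcomm' : ∀ x y : W, x * y = y * x := fun x y => Subtype.ext (hcomm x x.2 y y.2)
  haveI : Finite (W →* ℂˣ) := finite_hom hcomm'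
  rcases isEmpty_or_nonempty {ω : W →* ℂˣ // res W B ω = ρ} with hemp | hne
  · exact ⟨1, Or.inl rfl, fun i => isEmptyElim i, fun i => isEmptyElim i,
      fun i => isEmptyElim i, fun i => isEmptyElim i⟩
  · obtain ⟨m, hm⟩ : ∃ m, Nat.card {ω : W →* ℂˣ // res W B ω = ρ} = m + 1 :=
      ⟨Nat.card {ω : W →* ℂˣ // res W B ω = ρ} - 1, by
        have := Nat.card_pos (α := {ω : W →* ℂˣ // res W B ω = ρ}); omega⟩
    let e : {ω : W →* ℂˣ // res W B ω = ρ} ≃ Fin (m + 1) := Finite.equivFinOfCardEq hm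
    obtain ⟨ε, hε, θ, hθirr, hθinj, hθ⟩ := Cfsg.Agent.S0170.coherent_of_inner
      (fun k : Fin (m + 1) => indFun W (lin W (e.symm k).1))
      (fun k => isCharacter_indFun W (isCharacter_of_isIrrCharacter (lin_irr W _)))
      (by
        intro k l
        show classInner (indFun W (lin W (e.symm k.succ).1) - indFun W (lin W (e.symm 0).1))
          (indFun W (lin W (e.symm l.succ).1) - indFun W (lin W (e.symm 0).1)) = _
        rw [← Helper18.indFun_sub', ← Helper18.indFun_sub', ind_isometry W B hcomm hti,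
          classInner_lin_sub]
        · have hk0 : (e.symm k.succ).1 ≠ (e.symm 0).1 := by
            intro h
            exact Fin.succ_ne_zero k (e.symm.injective (Subtype.ext h))
          have hl0 : (e.symm l.succ).1 ≠ (e.symm 0).1 := by
            intro h
            exact Fin.succ_ne_zero l (e.symm.injective (Subtype.ext h))
          rw [if_neg hk0, if_neg (Ne.symm hl0), if_pos rfl]
          by_cases hkl : k = l
          · subst hkl
            rw [if_pos rfl, if_pos rfl]; norm_num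
          · have : (e.symm k.succ).1 ≠ (e.symm l.succ).1 := by
              intro h
              exact hkl (Fin.succ_injective _ (e.symm.injective (Subtype.ext h)))
            rw [if_neg this, if_neg hkl]; norm_num
        · intro w hw
          have h1 := (res_eq_iff W B (e.symm k.succ).1 (e.symm 0).1).mp
            ((e.symm k.succ).2.trans (e.symm 0).2.symm) w hw
          show lin W _ w - lin W _ w = 0
          unfold lin
          rw [h1, sub_self])
      (by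
        intro k
        show indFun W _ 1 = indFun W _ 1
        rw [indFun_one, indFun_one]
        unfold lin
        simp)
    refine ⟨ε, hε, fun i => θ (e i), fun i => hθirr _, ?_, ?_⟩
    · intro i j h
      exact e.injective (hθinj h)
    · intro i j
      have := hθ (e i) (e j)
      simp only [Equiv.symm_apply_apply] at this
      rw [Helper18.indFun_sub']
      exact this

theorem classInner_irr_sub {G : Type u} [Group G] [Fintype G] {a b c d : G → ℂ}
    (ha : IsIrrCharacter G a) (hb : IsIrrCharacter G b) (hc : IsIrrCharacter G c)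
    (hd : IsIrrCharacter G d) :
    classInner (a - b) (c - d) =
      (if a = c then 1 else 0) - (if a = d then 1 else 0) - (if b = c then 1 else 0)
        + (if b = d then 1 else 0) := by
  have e1 : a - b = a + (-1 : ℂ) • b := by
    rw [neg_one_smul, sub_eq_add_neg]
  have e2 : c - d = c + (-1 : ℂ) • d := by
    rw [neg_one_smul, sub_eq_add_neg]
  rw [e1, e2, classInner_add_left, classInner_add_right, classInner_add_right,
    classInner_smul_left, classInner_smul_left, classInner_smul_right, classInner_smul_right,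
    irr_orthogonality ha hc, irr_orthogonality ha hd, irr_orthogonality hb hc,
    irr_orthogonality hb hd]
  simp only [map_neg, map_one]
  ring

theorem exists_mu_delta (hcomm : ∀ a ∈ W, ∀ b ∈ W, a * b = b * a)
    (hti : ∀ a ∈ W, a ∉ B → ∀ g : L, g * a * g⁻¹ ∈ W → g ∈ W)
    (hBW : ∃ x ∈ W, x ∉ B) :
    ∃ (μ : (W →* ℂˣ) → (L → ℂ)) (δ : (W →* ℂˣ) → ℂ),
      Function.Injective μ ∧
      (∀ ω, IsIrrCharacter L (μ ω)) ∧ (∀ ω, δ ω = 1 ∨ δ ω = -1) ∧
      (∀ ω ω', res W B ω = res W B ω' → δ ω = δ ω') ∧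
      (∀ ω ω', res W B ω = res W B ω' →
        indFun W (lin W ω - lin W ω') = δ ω • (μ ω - μ ω')) := by
  classical
  letI : Fintype W := Fintype.ofFinite W
  have hcomm' : ∀ x y : W, x * y = y * x := fun x y => Subtype.ext (hcomm x x.2 y y.2)
  choose ε hε θ hθirr hθinj hθ using row_data W B hcomm hti
  have hθeq : ∀ (ω : W →* ℂˣ) (ρ : (B.subgroupOf W) →* ℂˣ) (h : res W B ω = ρ),
      θ ρ ⟨ω, h⟩ = θ (res W B ω) ⟨ω, rfl⟩ := by
    intro ω ρ h
    subst h
    rfl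
  have hirr : ∀ ω, IsIrrCharacter L (θ (res W B ω) ⟨ω, rfl⟩) := fun ω => hθirr _ _
  have hδ : ∀ ω ω', res W B ω = res W B ω' → ε (res W B ω) = ε (res W B ω') :=
    fun ω ω' h => by rw [h]
  have hrow_inj : ∀ ω ω', res W B ω = res W B ω' →
      θ (res W B ω) ⟨ω, rfl⟩ = θ (res W B ω') ⟨ω', rfl⟩ → ω = ω' := by
    intro ω ω' h hμ
    rw [← hθeq ω' (res W B ω) h.symm] at hμ
    exact congrArg Subtype.val (hθinj _ hμ)
  have hind : ∀ ω ω', res W B ω = res W B ω' →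
      indFun W (lin W ω - lin W ω') =
        ε (res W B ω) • (θ (res W B ω) ⟨ω, rfl⟩ - θ (res W B ω') ⟨ω', rfl⟩) := by
    intro ω ω' h
    rw [← hθeq ω' (res W B ω) h.symm]
    exact hθ (res W B ω) ⟨ω, rfl⟩ ⟨ω', h.symm⟩
  refine ⟨fun ω => θ (res W B ω) ⟨ω, rfl⟩, fun ω => ε (res W B ω), ?_, hirr, fun ω => hε _,
    hδ, hind⟩
  -- injectivity
  intro ω ω' hμ
  by_cases hres : res W B ω = res W B ω'
  · exact hrow_inj ω ω' hres hμ
  exfalso
  obtain ⟨x, hxW, hxB⟩ := hBW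
  obtain ⟨lam, hlam, hlamx⟩ := exists_hom_ne_one_of_not_mem hcomm' (B.subgroupOf W)
    (x := ⟨x, hxW⟩) (fun h => hxB (Subgroup.mem_subgroupOf.mp h))
  have hlam1 : lam ≠ 1 := by
    intro h
    apply hlamx
    rw [h]; rfl
  have hres_mul : ∀ η : W →* ℂˣ, res W B (η * lam) = res W B η := by
    intro η
    rw [res_eq_iff]
    intro w hw
    rw [MonoidHom.mul_apply, hlam w (Subgroup.mem_subgroupOf.mpr hw), mul_one]
  have hne_mul : ∀ η : W →* ℂˣ, η * lam ≠ η := by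
    intro η h
    apply hlam1
    ext w
    have h1 := DFunLike.congr_fun h w
    rw [MonoidHom.mul_apply] at h1
    have h2 : lam w = 1 := by
      have : η w * lam w = η w * 1 := by rw [mul_one]; exact h1
      exact mul_left_cancel this
    rw [h2]; rfl
  set μ := fun ω => θ (res W B ω) ⟨ω, rfl⟩ with hμ_def
  have h1 := hind ω (ω * lam) (hres_mul ω).symm
  have h2 := hind ω' (ω' * lam) (hres_mul ω').symm
  have hiso := ind_isometry W B hcomm hti (lin W ω - lin W (ω * lam)) (lin W ω' - lin W (ω' * lam))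
    (by
      intro w hw
      have := (res_eq_iff W B ω (ω * lam)).mp (hres_mul ω).symm w hw
      show lin W _ w - lin W _ w = 0
      unfold lin
      rw [this, sub_self])
  rw [h1, h2, classInner_smul_left, classInner_smul_right, classInner_lin_sub,
    classInner_irr_sub (hirr ω) (hirr (ω * lam)) (hirr ω') (hirr (ω' * lam))] at hiso
  have d1 : ω ≠ ω' := fun h => hres (by rw [h])
  have d2 : ω ≠ ω' * lam := fun h => hres (by rw [h, hres_mul])
  have d3 : ω * lam ≠ ω' := fun h => hres (by rw [← h, hres_mul])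
  have d4 : ω * lam ≠ ω' * lam := fun h => d1 (mul_right_cancel h)
  have m1 : μ ω = μ ω' := hμ
  have m2 : μ ω ≠ μ (ω' * lam) := by
    intro h
    rw [m1] at h
    exact hne_mul ω' (hrow_inj _ _ (hres_mul ω').symm h).symm
  have m3 : μ (ω * lam) ≠ μ ω' := by
    intro h
    rw [← m1] at h
    exact hne_mul ω (hrow_inj _ _ (hres_mul ω) h)
  rw [if_neg d1, if_neg d2, if_neg d3, if_neg d4] at hiso
  change _ * (_ * ((if μ ω = μ ω' then (1 : ℂ) else 0) - (if μ ω = μ (ω' * lam) then 1 else 0)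
    - (if μ (ω * lam) = μ ω' then 1 else 0) + (if μ (ω * lam) = μ (ω' * lam) then 1 else 0))) = _
    at hiso
  rw [if_pos m1, if_neg m2, if_neg m3] at hiso
  have hε1 : ε (res W B ω) ≠ 0 := by
    rcases hε (res W B ω) with h | h <;> rw [h] <;> norm_num
  have hε2 : conj (ε (res W B ω')) ≠ 0 := by
    rcases hε (res W B ω') with h | h <;> rw [h] <;> norm_num
  have h3 : (1 : ℂ) - 0 - 0 + (if μ (ω * lam) = μ (ω' * lam) then 1 else 0) = 0 := by
    have h4 : (0 : ℂ) - 0 - 0 + 0 = 0 := by ring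
    rw [h4] at hiso
    rcases mul_eq_zero.mp hiso with h | h
    · exact absurd h hε1
    · rcases mul_eq_zero.mp h with h | h
      · exact absurd h hε2
      · exact h
  split_ifs at h3 <;> norm_num at h3

omit [Fintype L] in
theorem normSq_lin [Finite L] (ω : W →* ℂˣ) (w : W) : Complex.normSq (lin W ω w) = 1 := by
  have h1 : (ω w) ^ (Nat.card W) = 1 := by
    rw [← map_pow, pow_card_eq_one', map_one]
  have h2 : (lin W ω w) ^ (Nat.card W) = 1 := by
    unfold lin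
    rw [← Units.val_pow_eq_pow_val, h1, Units.val_one]
  have h3 : ‖lin W ω w‖ = 1 :=
    Complex.norm_eq_one_of_pow_eq_one h2 (Nat.card_pos (α := W)).ne'
  rw [Complex.normSq_eq_norm_sq, h3, one_pow]

theorem values (hcomm : ∀ a ∈ W, ∀ b ∈ W, a * b = b * a)
    (hti : ∀ a ∈ W, a ∉ B → ∀ g : L, g * a * g⁻¹ ∈ W → g ∈ W)
    (hcent : ∀ a ∈ W, a ∉ B → Nat.card (Subgroup.centralizer ({a} : Set L)) = Nat.card W)
    (μ : (W →* ℂˣ) → (L → ℂ)) (δ : (W →* ℂˣ) → ℂ)
    (hinj : Function.Injective μ)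
    (hirr : ∀ ω, IsIrrCharacter L (μ ω)) (hδ : ∀ ω, δ ω = 1 ∨ δ ω = -1)
    (hδrow : ∀ ω ω', res W B ω = res W B ω' → δ ω = δ ω')
    (hind : ∀ ω ω', res W B ω = res W B ω' →
        indFun W (lin W ω - lin W ω') = δ ω • (μ ω - μ ω'))
    (x : W) (hx : (x : L) ∉ B) :
    (∀ ω, μ ω (x : L) = δ ω * lin W ω x) ∧
      (∀ θ : L → ℂ, IsIrrCharacter L θ → (∀ ω, θ ≠ μ ω) → θ (x : L) = 0) := by
  classical
  letI : Fintype W := Fintype.ofFinite W
  letI : Fintype (IrrCharacter L) := irrFintype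
  have hcomm' : ∀ a b : W, a * b = b * a := fun a b => Subtype.ext (hcomm a a.2 b b.2)
  haveI : Finite (W →* ℂˣ) := finite_hom hcomm'
  letI : Fintype (W →* ℂˣ) := Fintype.ofFinite _
  have hδsq : ∀ ω, δ ω * δ ω = 1 := by
    intro ω
    rcases hδ ω with h | h <;> rw [h] <;> norm_num
  have hδnorm : ∀ ω, Complex.normSq (δ ω) = 1 := by
    intro ω
    rcases hδ ω with h | h <;> rw [h] <;> simp
  -- the defect
  set c : (W →* ℂˣ) → ℂ := fun ω => μ ω (x : L) - δ ω * lin W ω x with hc_def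
  have hμc : ∀ ω, μ ω (x : L) = δ ω * lin W ω x + c ω := by
    intro ω; rw [hc_def]; ring
  have hrow : ∀ ω ω', res W B ω = res W B ω' → c ω = c ω' := by
    intro ω ω' h
    have h1 := congrFun (hind ω ω' h) (x : L)
    rw [ind_apply W B hcomm hti _ x hx] at h1
    simp only [Pi.sub_apply, Pi.smul_apply, smul_eq_mul] at h1
    have h2 : μ ω (x : L) - μ ω' (x : L) = δ ω * (lin W ω x - lin W ω' x) := by
      rw [h1, ← mul_assoc, hδsq, one_mul]
    rw [hc_def]
    simp only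
    rw [← hδrow ω ω' h]
    linear_combination h2
  -- a character trivial on `B` moving `x`
  obtain ⟨lam, hlam, hlamx⟩ := exists_hom_ne_one_of_not_mem hcomm' (B.subgroupOf W)
    (x := x) (fun h => hx (Subgroup.mem_subgroupOf.mp h))
  have hres_mul : ∀ η : W →* ℂˣ, res W B (η * lam) = res W B η := by
    intro η
    rw [res_eq_iff]
    intro w hw
    rw [MonoidHom.mul_apply, hlam w (Subgroup.mem_subgroupOf.mpr hw), mul_one]
  -- the cross term vanishes
  have hcross : ∑ ω : W →* ℂˣ, δ ω * lin W ω x * conj (c ω) = 0 := by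
    have h1 : ∑ ω : W →* ℂˣ, δ ω * lin W ω x * conj (c ω) =
        ∑ ω : W →* ℂˣ, δ (ω * lam) * lin W (ω * lam) x * conj (c (ω * lam)) :=
      (Equiv.sum_comp (Equiv.mulRight lam)
        (fun ω => δ ω * lin W ω x * conj (c ω))).symm
    have h2 : ∀ ω : W →* ℂˣ, δ (ω * lam) * lin W (ω * lam) x * conj (c (ω * lam)) =
        (lam x : ℂ) * (δ ω * lin W ω x * conj (c ω)) := by
      intro ω
      rw [hδrow _ _ (hres_mul ω), hrow _ _ (hres_mul ω)]
      unfold lin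
      rw [MonoidHom.mul_apply, Units.val_mul]
      ring
    rw [Finset.sum_congr rfl (fun ω _ => h2 ω), ← Finset.mul_sum] at h1
    have h3 : ((lam x : ℂ) - 1) * ∑ ω : W →* ℂˣ, δ ω * lin W ω x * conj (c ω) = 0 := by
      rw [sub_mul, one_mul, ← h1, sub_self]
    rcases mul_eq_zero.mp h3 with h | h
    · exfalso
      apply hlamx
      apply Units.ext
      rw [Units.val_one]
      exact sub_eq_zero.mp h
    · exact h
  -- the sum of squares over the exceptional characters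
  have hsum1 : ∑ ω : W →* ℂˣ, Complex.normSq (μ ω (x : L)) =
      (Nat.card W : ℝ) + ∑ ω : W →* ℂˣ, Complex.normSq (c ω) := by
    have h1 : ∀ ω : W →* ℂˣ, Complex.normSq (μ ω (x : L)) =
        1 + Complex.normSq (c ω) + 2 * (δ ω * lin W ω x * conj (c ω)).re := by
      intro ω
      rw [hμc ω, Complex.normSq_add, Complex.normSq_mul, hδnorm, normSq_lin, one_mul]
    rw [Finset.sum_congr rfl (fun ω _ => h1 ω), Finset.sum_add_distrib, Finset.sum_add_distrib,
      ← Finset.mul_sum, ← Complex.re_sum, hcross, Complex.zero_re, mul_zero, add_zero,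
      Finset.sum_const, Finset.card_univ, ← Nat.card_eq_fintype_card, card_hom hcomm',
      nsmul_eq_mul, mul_one]
  -- second orthogonality
  have hsum2 : ∑ χ : IrrCharacter L, Complex.normSq ((χ : L → ℂ) (x : L)) = (Nat.card W : ℝ) := by
    have h1 := second_orthogonality' (x : L) (x : L)
    rw [if_pos (IsConj.refl _), hcent x x.2 hx] at h1
    have h2 : ∀ χ : IrrCharacter L, (χ : L → ℂ) (x : L) * conj ((χ : L → ℂ) (x : L)) =
        ((Complex.normSq ((χ : L → ℂ) (x : L)) : ℝ) : ℂ) := fun χ => Complex.mul_conj _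
    rw [Finset.sum_congr rfl (fun χ _ => h2 χ), ← Complex.ofReal_sum] at h1
    have h3 : ((Nat.card W : ℕ) : ℂ) = (((Nat.card W : ℕ) : ℝ) : ℂ) := by push_cast; rfl
    rw [h3] at h1
    exact Complex.ofReal_injective h1
  -- split the sum
  set M : (W →* ℂˣ) → IrrCharacter L := fun ω => ⟨μ ω, hirr ω⟩ with hM_def
  have hMinj : Function.Injective M := by
    intro ω ω' h
    exact hinj (congrArg Subtype.val h)
  have hsplit : ∑ χ : IrrCharacter L, Complex.normSq ((χ : L → ℂ) (x : L)) =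
      ∑ ω : W →* ℂˣ, Complex.normSq (μ ω (x : L)) +
        ∑ χ ∈ (Finset.univ.image M)ᶜ, Complex.normSq ((χ : L → ℂ) (x : L)) := by
    rw [← Finset.sum_add_sum_compl (Finset.univ.image M), Finset.sum_image (fun a _ b _ h => hMinj h)]
  rw [hsplit, hsum1] at hsum2
  have hzero : ∑ ω : W →* ℂˣ, Complex.normSq (c ω) +
      ∑ χ ∈ (Finset.univ.image M)ᶜ, Complex.normSq ((χ : L → ℂ) (x : L)) = 0 := by linarith
  have hnn1 : 0 ≤ ∑ ω : W →* ℂˣ, Complex.normSq (c ω) :=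
    Finset.sum_nonneg (fun ω _ => Complex.normSq_nonneg _)
  have hnn2 : 0 ≤ ∑ χ ∈ (Finset.univ.image M)ᶜ, Complex.normSq ((χ : L → ℂ) (x : L)) :=
    Finset.sum_nonneg (fun ω _ => Complex.normSq_nonneg _)
  have hz1 : ∑ ω : W →* ℂˣ, Complex.normSq (c ω) = 0 := by linarith
  have hz2 : ∑ χ ∈ (Finset.univ.image M)ᶜ, Complex.normSq ((χ : L → ℂ) (x : L)) = 0 := by linarith
  constructor
  · intro ω
    have := (Finset.sum_eq_zero_iff_of_nonneg (fun ω _ => Complex.normSq_nonneg _)).mp hz1 ω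
      (Finset.mem_univ ω)
    rw [Complex.normSq_eq_zero] at this
    rw [hμc ω, this, add_zero]
  · intro θ hθ hne
    have hmem : (⟨θ, hθ⟩ : IrrCharacter L) ∈ (Finset.univ.image M)ᶜ := by
      rw [Finset.mem_compl, Finset.mem_image]
      rintro ⟨ω, _, h⟩
      exact hne ω (congrArg Subtype.val h).symm
    have := (Finset.sum_eq_zero_iff_of_nonneg (fun ω _ => Complex.normSq_nonneg _)).mp hz2 _ hmem
    rw [Complex.normSq_eq_zero] at this
    exact this

end TI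

section Degree

variable {L : Type u} [Group L] [Fintype L]

theorem degree_congr (V : Subgroup L) {χ : L → ℂ} (hχ : IsCharacter L χ) (δ : ℂ)
    (hδ : δ = 1 ∨ δ = -1) (f : V →* ℂˣ)
    (h : ∀ u : V, u ≠ 1 → χ (u : L) = δ * ((f u : ℂˣ) : ℂ)) :
    ∃ n : ℤ, χ 1 - δ = n * (Nat.card V : ℂ) := by
  classical
  letI : Fintype V := Fintype.ofFinite V
  letI : Fintype (IrrCharacter V) := irrFintype
  obtain ⟨m, hm⟩ := classInner_char_nat (isCharacter_restrict V hχ)
    (isCharacter_of_isIrrCharacter (isIrrCharacter_one (G := V)))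
  obtain ⟨d, hd⟩ : ∃ d : ℤ, δ = d := by
    rcases hδ with h | h
    · exact ⟨1, by rw [h]; norm_num⟩
    · exact ⟨-1, by rw [h]; norm_num⟩
  obtain ⟨t, ht⟩ : ∃ t : ℤ, ∑ u : V, ((f u : ℂˣ) : ℂ) = t * (Nat.card V : ℂ) := by
    have := sum_hom_units ((Units.coeHom ℂ).comp f)
    by_cases h1 : (Units.coeHom ℂ).comp f = 1
    · rw [if_pos h1] at this
      refine ⟨1, ?_⟩
      rw [Int.cast_one, one_mul, Nat.card_eq_fintype_card, ← this]
      rfl
    · rw [if_neg h1] at this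
      refine ⟨0, ?_⟩
      rw [Int.cast_zero, zero_mul, ← Nat.cast_zero (R := ℂ), ← this]
      rfl
  have hcard : (Nat.card V : ℂ) ≠ 0 := by
    exact_mod_cast (Nat.card_pos (α := V)).ne'
  have hsum : ∑ u : V, χ (u : L) = χ 1 - δ + δ * ∑ u : V, ((f u : ℂˣ) : ℂ) := by
    have h1 : ∀ u : V, χ (u : L) =
        δ * ((f u : ℂˣ) : ℂ) + (if u = 1 then χ 1 - δ else 0) := by
      intro u
      by_cases hu : u = 1
      · rw [if_pos hu, hu, map_one, Units.val_one, Subgroup.coe_one]; ring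
      · rw [if_neg hu, add_zero, h u hu]
    rw [Finset.sum_congr rfl (fun u _ => h1 u), Finset.sum_add_distrib, ← Finset.mul_sum,
      Finset.sum_ite_eq' Finset.univ (1 : V), if_pos (Finset.mem_univ _)]
    ring
  unfold classInner at hm
  simp only [map_one, mul_one] at hm
  rw [hsum, ht] at hm
  refine ⟨m - d * t, ?_⟩
  have h2 : χ 1 - δ + δ * (t * (Nat.card V : ℂ)) = (m : ℂ) * (Nat.card V : ℂ) := by
    rw [← hm]
    field_simp
  push_cast
  rw [hd] at h2 ⊢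
  linear_combination h2

end Degree

/-- Let L be a finite group with K normal with complement W₁ ≠ 1 a cyclic Hall subgroup, and W₂ ≠ 1 a cyclic subgroup of K equal to C_K(x) for every non-identity x ∈ W₁, with W₁W₂ of odd order. Then there are a map μ from the linear characters of W = W₁ ⊔ W₂ to irreducible characters of L, injective, and a sign δ(ω) ∈ {1, −1} depending only on the values of ω on W₂, such that: for ω, ω' agreeing on W₂, the function induced to L from ω − ω' equals δ(ω) • (μ ω − μ ω'); μ ω x = δ(ω) ω x for x ∈ W outside W₂; every irreducible character of L not of the form μ ω vanishes on W outside W₂; and μ ω 1 − δ(ω) is an integer multiple of Nat.card W₁. -/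
theorem result {L : Type*} [Group L] [Fintype L] (K W₁ W₂ : Subgroup L) [hK : K.Normal] (hKW₁ : K ⊓ W₁ = ⊥) (hKW₁' : K ⊔ W₁ = ⊤) (hW₁ : W₁ ≠ ⊥) (hW₁c : IsCyclic W₁) (hHall : Nat.Coprime (Nat.card W₁) W₁.index) (hW₂ : W₂ ≠ ⊥) (hW₂c : IsCyclic W₂) (hW₂K : W₂ ≤ K) (hC : ∀ x ∈ W₁, x ≠ 1 → K ⊓ Subgroup.centralizer ({x} : Set L) = W₂) (hodd : Odd (Nat.card ↥(W₁ ⊔ W₂))) : ∃ (μ : (↥(W₁ ⊔ W₂) →* ℂˣ) → (L → ℂ)) (δ : (↥(W₁ ⊔ W₂) →* ℂˣ) → ℂ), Function.Injective μ ∧ (∀ ω, Cfsg.IsIrrCharacter L (μ ω)) ∧ (∀ ω, δ ω = 1 ∨ δ ω = -1) ∧ (∀ ω ω' : ↥(W₁ ⊔ W₂) →* ℂˣ, (∀ w : ↥(W₁ ⊔ W₂), (w : L) ∈ W₂ → ω w = ω' w) → δ ω = δ ω' ∧ Cfsg.indFun (W₁ ⊔ W₂) (fun w => (ω w : ℂ) - (ω' w : ℂ)) = δ ω • (μ ω - μ ω')) ∧ (∀ ω, ∀ w : ↥(W₁ ⊔ W₂), (w : L) ∉ W₂ → μ ω w = δ ω * (ω w : ℂ)) ∧ (∀ θ : L → ℂ, Cfsg.IsIrrCharacter L θ → (∀ ω, θ ≠ μ ω) → ∀ w : ↥(W₁ ⊔ W₂), (w : L) ∉ W₂ → θ w = 0) ∧ (∀ ω, ∃ n : ℤ, μ ω 1 - δ ω = n * (Nat.card W₁ : ℂ)) := by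
  classical
  have hcomp : Subgroup.IsComplement' K W₁ := by
    apply Subgroup.isComplement'_of_disjoint_and_mul_eq_univ (disjoint_iff.mpr hKW₁)
    rw [← Subgroup.normal_mul, hKW₁']; rfl
  have hidxW : W₁.index = Nat.card K := hcomp.index_eq_card
  have hcop12 : (Nat.card W₁).Coprime (Nat.card W₂) := by
    apply Nat.Coprime.coprime_dvd_right (Subgroup.card_dvd_of_le hW₂K)
    rw [← hidxW]; exact hHall
  have hcomm : ∀ a ∈ W₁ ⊔ W₂, ∀ b ∈ W₁ ⊔ W₂, a * b = b * a :=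
    fun a ha b hb => commW K W₁ W₂ hW₁c hW₂c hC ha hb
  have hti : ∀ a ∈ W₁ ⊔ W₂, a ∉ W₂ → ∀ g : L, g * a * g⁻¹ ∈ W₁ ⊔ W₂ → g ∈ W₁ ⊔ W₂ :=
    fun a ha ha2 g hg => ti K W₁ W₂ hKW₁ hKW₁' hW₁c hW₂c hW₂K hcop12 hC ha ha2 hg
  have hW₁W₂ : ∀ u ∈ W₁, u ≠ 1 → u ∉ W₂ := by
    intro u hu hu1 hu2
    have : u ∈ K ⊓ W₁ := ⟨hW₂K hu2, hu⟩
    rw [hKW₁, Subgroup.mem_bot] at this
    exact hu1 this
  have hBW : ∃ x ∈ W₁ ⊔ W₂, x ∉ W₂ := by
    obtain ⟨x, hx, hx1⟩ := (Subgroup.bot_or_exists_ne_one W₁).resolve_left hW₁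
    exact ⟨x, (le_sup_left : W₁ ≤ W₁ ⊔ W₂) hx, hW₁W₂ x hx hx1⟩
  have hcent : ∀ a ∈ W₁ ⊔ W₂, a ∉ W₂ →
      Nat.card (Subgroup.centralizer ({a} : Set L)) = Nat.card ↥(W₁ ⊔ W₂) := by
    intro a ha ha2
    rw [centralizer_eq K W₁ W₂ hKW₁ hKW₁' hW₁c hW₂c hW₂K hcop12 hC ha ha2]
  obtain ⟨μ, δ, hinj, hirr, hδ, hδrow, hind⟩ := exists_mu_delta (W₁ ⊔ W₂) W₂ hcomm hti hBW
  have hval := values (W₁ ⊔ W₂) W₂ hcomm hti hcent μ δ hinj hirr hδ hδrow hind
  refine ⟨μ, δ, hinj, hirr, hδ, ?_, ?_, ?_, ?_⟩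
  · intro ω ω' h
    have hres := (res_eq_iff (W₁ ⊔ W₂) W₂ ω ω').mpr h
    exact ⟨hδrow _ _ hres, hind _ _ hres⟩
  · intro ω w hw
    exact (hval w hw).1 ω
  · intro θ hθ hne w hw
    exact (hval w hw).2 θ hθ hne
  · intro ω
    apply degree_congr W₁ (isCharacter_of_isIrrCharacter (hirr ω)) (δ ω) (hδ ω)
      (ω.comp (Subgroup.inclusion (le_sup_left : W₁ ≤ W₁ ⊔ W₂)))
    intro u hu1
    have hu1' : (u : L) ≠ 1 := fun h => hu1 (Subtype.ext h)
    exact (hval ⟨u, (le_sup_left : W₁ ≤ W₁ ⊔ W₂) u.2⟩ (hW₁W₂ u u.2 hu1')).1 ω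

end Cfsg.Agent.S1511
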