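import Mathlib
import Cfsg.Statements.S1512

set_option autoImplicit false
open Cfsg

namespace Cfsg.Agent.S1512

/-- the size of a conjugacy class divides the group order -/
lemma card_carrier_dvd {K : Type*} [Group K] [Finite K] (k : K) :
    Nat.card (ConjClasses.mk k).carrier ∣ Nat.card K := by
  rw [← ConjAct.orbit_eq_carrier_conjClasses]
  have h := Nat.card_congr (MulAction.orbitProdStabilizerEquivGroup (ConjAct K) k)
  rw [Nat.card_prod] at h
  have h2 : Nat.card (ConjAct K) = Nat.card K := Nat.card_congr ConjAct.ofConjAct.toEquiv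
  rw [h2] at h
  exact Dvd.intro _ h

section

variable {L : Type*} [Group L] [Finite L] (K : Subgroup L) [hK : K.Normal]

/-- if `x` fixes the class of `k`, so does every power of `x`, on every element of the class -/
lemma pow_fixes (x : L) (k : K) (hfix : IsConj ((MulAut.conjNormal x : MulAut K) k) k) (j : ℕ) :
    ∀ a : K, IsConj a k → IsConj ((MulAut.conjNormal (x ^ j) : MulAut K) a) k := by
  induction j with
  | zero =>
    intro a ha
    simpa using ha
  | succ j ih =>
    intro a ha
    rw [pow_succ, map_mul, MulAut.mul_apply]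
    apply ih
    have h1 : IsConj ((MulAut.conjNormal x : MulAut K) a) ((MulAut.conjNormal x : MulAut K) k) :=
      (MulAut.conjNormal x : K ≃* K).toMonoidHom.map_isConj ha
    exact h1.trans hfix

/-- an `x`-fixed class of `K` contains an element of `W₂` -/
lemma exists_mem_of_fixed (W₂ : Subgroup L) (x : L) (hx1 : x ≠ 1)
    (hx : Nat.Coprime (orderOf x) (Nat.card K))
    (hC : ∀ y ∈ Subgroup.zpowers x, y ≠ 1 → K ⊓ Subgroup.centralizer ({y} : Set L) = W₂)
    (k : K) (hfix : IsConj ((MulAut.conjNormal x : MulAut K) k) k) :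
    ∃ a : K, (a : L) ∈ W₂ ∧ IsConj a k := by
  classical
  have hm0 : orderOf x ≠ 0 := (orderOf_pos x).ne'
  have hm1 : orderOf x ≠ 1 := fun h => hx1 (orderOf_eq_one_iff.1 h)
  obtain ⟨p, hp, hpm⟩ := Nat.exists_prime_and_dvd hm1
  haveI : Fact p.Prime := ⟨hp⟩
  set y : L := x ^ (orderOf x / p) with hy
  have hyord : orderOf y = p := orderOf_pow_orderOf_div hm0 hpm
  have hy1 : y ≠ 1 := by
    intro h
    rw [h, orderOf_one] at hyord
    exact hp.one_lt.ne hyord
  have hymem : y ∈ Subgroup.zpowers x := Subgroup.npow_mem_zpowers x _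
  have hyp : y ^ p = 1 := by rw [← hyord]; exact pow_orderOf_eq_one y
  -- powers of `y` preserve the class
  have hpres : ∀ j : ℕ, ∀ a : K, IsConj a k → IsConj ((MulAut.conjNormal (y ^ j) : MulAut K) a) k := by
    intro j a ha
    rw [hy, ← pow_mul]
    exact pow_fixes K x k hfix _ a ha
  let f : Equiv.Perm K := MulAut.toPerm K (MulAut.conjNormal y : MulAut K)
  have hfp : f ^ p = 1 := by
    simp only [f]
    rw [← map_pow, ← map_pow, hyp, map_one, map_one]
  have hf_apply : ∀ a : K, f a = (MulAut.conjNormal y : MulAut K) a := fun a => rfl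
  have hiff : ∀ a : K, f a ∈ (ConjClasses.mk k).carrier ↔ a ∈ (ConjClasses.mk k).carrier := by
    intro a
    rw [ConjClasses.mem_carrier_iff_mk_eq, ConjClasses.mem_carrier_iff_mk_eq,
      ConjClasses.mk_eq_mk_iff_isConj, ConjClasses.mk_eq_mk_iff_isConj, hf_apply]
    constructor
    · intro h
      have h2 := hpres (p - 1) _ h
      have h3 : (MulAut.conjNormal (y ^ (p - 1)) : MulAut K) ((MulAut.conjNormal y : MulAut K) a)
          = a := by
        rw [← MulAut.mul_apply, ← map_mul, ← pow_succ, Nat.sub_add_cancel hp.one_lt.le, hyp,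
          map_one, MulAut.one_apply]
      rwa [h3] at h2
    · intro h
      have := hpres 1 a h
      rwa [pow_one] at this
  let σ : Equiv.Perm (ConjClasses.mk k).carrier := f.subtypePerm hiff
  haveI : Fintype (ConjClasses.mk k).carrier := Fintype.ofFinite _
  have hσ : σ ^ p ^ 1 = 1 := by
    rw [pow_one]
    ext a
    simp only [σ, Equiv.Perm.subtypePerm_pow, Equiv.Perm.subtypePerm_apply, hfp,
      Equiv.Perm.coe_one, id_eq]
  have hnd : ¬ p ∣ Fintype.card (ConjClasses.mk k).carrier := by
    intro hdvd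
    rw [← Nat.card_eq_fintype_card] at hdvd
    have h1 : p ∣ Nat.card K := hdvd.trans (card_carrier_dvd k)
    have h2 : p ∣ Nat.gcd (orderOf x) (Nat.card K) := Nat.dvd_gcd hpm h1
    rw [Nat.Coprime] at hx
    rw [hx] at h2
    exact hp.one_lt.ne' (Nat.dvd_one.1 h2)
  obtain ⟨⟨a, ha⟩, hfixa⟩ := Equiv.Perm.exists_fixed_point_of_prime hnd hσ
  refine ⟨a, ?_, ?_⟩
  · rw [← hC y hymem hy1]
    refine Subgroup.mem_inf.2 ⟨a.2, ?_⟩
    rw [Subgroup.mem_centralizer_iff]
    intro z hz
    rw [Set.mem_singleton_iff] at hz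
    subst hz
    have h1 : ((f a : K) : L) = (a : L) := by
      have := congrArg (fun z : (ConjClasses.mk k).carrier => ((z : K) : L)) hfixa
      simpa [σ] using this
    rw [hf_apply, MulAut.conjNormal_apply] at h1
    -- `y * a * y⁻¹ = a`
    calc y * (a : L) = (y * (a : L) * y⁻¹) * y := by group
      _ = (a : L) * y := by rw [h1]
  · rwa [ConjClasses.mem_carrier_iff_mk_eq, ConjClasses.mk_eq_mk_iff_isConj] at ha

end

/-- Let K be a normal subgroup of the finite group L and x a non-identity element whose order is coprime to the order of K, such that K ⊓ C_L(y) = W₂ for every non-identity element y of the cyclic group generated by x. Then the number of conjugacy classes of K mapped to themselves by conjugation by x is at most Nat.card W₂. -/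
theorem result {L : Type*} [Group L] [Finite L] (K W₂ : Subgroup L) [hK : K.Normal] (x : L) (hx1 : x ≠ 1) (hx : Nat.Coprime (orderOf x) (Nat.card K)) (hC : ∀ y ∈ Subgroup.zpowers x, y ≠ 1 → K ⊓ Subgroup.centralizer ({y} : Set L) = W₂) : Nat.card {C : ConjClasses K // ConjClasses.map (MulEquiv.toMonoidHom ((MulAut.conjNormal x : MulAut K))) C = C} ≤ Nat.card W₂ := by
  classical
  have key : ∀ C : {C : ConjClasses K // ConjClasses.map (MulEquiv.toMonoidHom
      ((MulAut.conjNormal x : MulAut K))) C = C}, ∃ a : K, (a : L) ∈ W₂ ∧ ConjClasses.mk a = C.1 := by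
    rintro ⟨C, hCfix⟩
    obtain ⟨k, rfl⟩ := ConjClasses.mk_surjective C
    have hfix : IsConj ((MulAut.conjNormal x : MulAut K) k) k := by
      have : ConjClasses.mk ((MulAut.conjNormal x : MulAut K) k) = ConjClasses.mk k := hCfix
      rwa [ConjClasses.mk_eq_mk_iff_isConj] at this
    obtain ⟨a, haW, hak⟩ := exists_mem_of_fixed K W₂ x hx1 hx hC k hfix
    exact ⟨a, haW, ConjClasses.mk_eq_mk_iff_isConj.2 hak⟩
  choose F hFW hFC using key
  apply Nat.card_le_card_of_injective (fun C => (⟨(F C : L), hFW C⟩ : W₂))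
  intro C C' hCC'
  apply Subtype.ext
  rw [← hFC C, ← hFC C']
  congr 1
  apply Subtype.ext
  exact congrArg (fun z : W₂ => (z : L)) hCC'

end Cfsg.Agent.S1512
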