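import Mathlib
import Cfsg.Statements.S1513
import Cfsg.Agent.Lib.Helper24.GlaubCount
import Cfsg.Agent.Lib.Helper24.CoprimeDegree
import Cfsg.Agent.Lib.Helper24.CharComplete
import Cfsg.Agent.Lib.Helper5.FrobKer
import Cfsg.Agent.Lib.Helper8.Clifford2

set_option autoImplicit false
open Cfsg

namespace Cfsg.Agent.S1513

open Cfsg.Agent.Helper24 Cfsg.Agent.Helper5 Cfsg.Agent.Helper8
open scoped ComplexConjugate

universe u

section

variable {L : Type u} [Group L] [Fintype L] (K : Subgroup L) [hK : K.Normal]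

/-- the conjugation used in the statement -/
def cj (x : L) (θ : K → ℂ) : K → ℂ :=
  fun k : K => θ ⟨x * k * x⁻¹, hK.conj_mem (k : L) k.2 x⟩

omit [Fintype L] in
theorem cj_eq (x : L) (θ : K → ℂ) : cj K x θ = Helper24.conjFun K x⁻¹ θ := by
  funext k
  rw [Helper24.conjFun_apply]
  show θ _ = θ _
  congr 1
  apply Subtype.ext
  simp [MulAut.conjNormal_apply]

omit [Fintype L] in
theorem cj_eq5 (x : L) (θ : K → ℂ) : cj K x θ = Helper5.conjFun K x θ := rfl

/-- the stabiliser of a function on `K` in `L` -/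
def stab (θ : K → ℂ) : Subgroup L where
  carrier := {x | Helper5.conjFun K x θ = θ}
  one_mem' := Helper5.conjFun_one K θ
  mul_mem' := fun {a b} ha hb => by
    show Helper5.conjFun K (a * b) θ = θ
    rw [Helper5.conjFun_mul]
    have ha' : Helper5.conjFun K a θ = θ := ha
    have hb' : Helper5.conjFun K b θ = θ := hb
    rw [ha', hb']
  inv_mem' := fun {a} ha => by
    show Helper5.conjFun K a⁻¹ θ = θ
    have ha' : Helper5.conjFun K a θ = θ := ha
    conv_lhs => rw [← ha']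
    rw [Helper5.conjFun_inv_conjFun]

omit [Fintype L] in
theorem mem_stab (θ : K → ℂ) (x : L) : x ∈ stab K θ ↔ Helper5.conjFun K x θ = θ := Iff.rfl

omit [Fintype L] in
theorem mem_stab_iff_cj (θ : K → ℂ) (x : L) : x ∈ stab K θ ↔ cj K x θ = θ := Iff.rfl

omit [Fintype L] in
theorem mem_stab_iff_24 (θ : K → ℂ) (x : L) : x ∈ stab K θ ↔ Helper24.conjFun K x θ = θ := by
  rw [← inv_mem_iff, mem_stab_iff_cj, cj_eq, inv_inv]

/-- the conjugation action of a subgroup on the normal subgroup `K` -/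
def act (W₀ : Subgroup L) : W₀ →* MulAut K := (MulAut.conjNormal (H := K)).comp W₀.subtype

omit [Fintype L] in
theorem act_apply (W₀ : Subgroup L) (a : W₀) (k : K) :
    ((act K W₀ a k : K) : L) = (a : L) * k * (a : L)⁻¹ := by
  show ((MulAut.conjNormal (a : L) k : K) : L) = _
  rw [MulAut.conjNormal_apply]

omit [Fintype L] in
theorem isInv_iff (W₀ : Subgroup L) (θ : K → ℂ) :
    Glaub.IsInv (act K W₀) θ ↔ ∀ x ∈ W₀, cj K x θ = θ := by
  constructor
  · intro h x hx
    funext k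
    have := h ⟨x, hx⟩ k
    rw [← this]
    show θ _ = θ _
    congr 1
  · intro h a k
    have := congrFun (h a a.2) k
    rw [← this]
    show θ _ = θ _
    congr 1

omit [Fintype L] in
theorem fixedSub_eq (W₀ W₁ W₂ : Subgroup L) (hW₀ : W₀ ≤ W₁) (hne : W₀ ≠ ⊥)
    (hC : ∀ x ∈ W₁, x ≠ 1 → K ⊓ Subgroup.centralizer ({x} : Set L) = W₂) :
    Glaub.fixedSub (act K W₀) = W₂.subgroupOf K := by
  ext k
  rw [Glaub.mem_fixedSub, Subgroup.mem_subgroupOf]
  constructor
  · intro h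
    obtain ⟨a, ha, ha1⟩ := (Subgroup.bot_or_exists_ne_one W₀).resolve_left hne
    rw [← hC a (hW₀ ha) ha1]
    refine ⟨k.2, ?_⟩
    show (k : L) ∈ Subgroup.centralizer {a}
    rw [Subgroup.mem_centralizer_iff]
    intro y hy
    rw [Set.mem_singleton_iff] at hy
    subst hy
    have h1 := congrArg (Subtype.val) (h ⟨y, ha⟩)
    rw [act_apply] at h1
    show y * (k : L) = (k : L) * y
    calc y * (k : L) = (y * k * y⁻¹) * y := by group
      _ = (k : L) * y := by rw [h1]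
  · intro hk a
    apply Subtype.ext
    rw [act_apply]
    by_cases ha1 : (a : L) = 1
    · rw [ha1]; group
    · have hk' := hk
      rw [← hC a (hW₀ a.2) ha1] at hk'
      have h2 := (Subgroup.mem_centralizer_iff.mp hk'.2) (a : L) (Set.mem_singleton _)
      -- h2 : a * k = k * a
      rw [h2]; group

theorem card_irr_comm {A : Type u} [Group A] [Finite A] (hcomm : ∀ a b : A, a * b = b * a) :
    Nat.card (IrrCharacter A) = Nat.card A := by
  classical
  letI : Fintype A := Fintype.ofFinite A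
  letI : Fintype (IrrCharacter A) := irrFintype
  have hbij : Function.Bijective (ConjClasses.mk : A → ConjClasses A) := by
    refine ⟨?_, ConjClasses.mk_surjective⟩
    intro a b hab
    rw [ConjClasses.mk_eq_mk_iff_isConj, isConj_iff] at hab
    obtain ⟨c, hc⟩ := hab
    rw [← hc, hcomm c a, mul_inv_cancel_right]
  rw [card_irr_eq_card_conjClasses]
  exact (Nat.card_congr (Equiv.ofBijective _ hbij)).symm

theorem count_inv (W₀ W₁ W₂ : Subgroup L) (hW₀ : W₀ ≤ W₁) (hne : W₀ ≠ ⊥)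
    (hW₁c : IsCyclic W₁) (hW₂c : IsCyclic W₂) (hW₂K : W₂ ≤ K)
    (hcop : (Nat.card W₁).Coprime (Nat.card K))
    (hC : ∀ x ∈ W₁, x ≠ 1 → K ⊓ Subgroup.centralizer ({x} : Set L) = W₂) :
    Nat.card {θ : IrrCharacter K // ∀ x ∈ W₀, cj K x (θ : K → ℂ) = θ} = Nat.card W₂ := by
  haveI : IsCyclic W₁ := hW₁c
  haveI : IsCyclic W₂ := hW₂c
  have hcomm : ∀ a b : W₀, a * b = b * a := by
    intro a b
    have := (IsCyclic.isMulCommutative (α := W₁)).is_comm.comm ⟨a, hW₀ a.2⟩ ⟨b, hW₀ b.2⟩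
    apply Subtype.ext
    exact congrArg (fun z : W₁ => (z : L)) this
  haveI : Group.IsSolvable W₀ := isSolvable_of_comm hcomm
  have hcop' : (Nat.card W₀).Coprime (Nat.card K) :=
    Nat.Coprime.coprime_dvd_left (Subgroup.card_dvd_of_le hW₀) hcop
  have h1 := Glaub.count_fixed (act K W₀) hcop'
  rw [Nat.card_congr (Equiv.subtypeEquivRight
    (fun θ : IrrCharacter K => (isInv_iff K W₀ (θ : K → ℂ)).symm)), h1]
  have hfix := fixedSub_eq K W₀ W₁ W₂ hW₀ hne hC
  have hcomm2 : ∀ a b : Glaub.fixedSub (act K W₀), a * b = b * a := by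
    intro a b
    have ha : ((a : K) : L) ∈ W₂ := by
      have : (a : K) ∈ W₂.subgroupOf K := hfix ▸ a.2
      exact Subgroup.mem_subgroupOf.mp this
    have hb : ((b : K) : L) ∈ W₂ := by
      have : (b : K) ∈ W₂.subgroupOf K := hfix ▸ b.2
      exact Subgroup.mem_subgroupOf.mp this
    have := (IsCyclic.isMulCommutative (α := W₂)).is_comm.comm ⟨_, ha⟩ ⟨_, hb⟩
    apply Subtype.ext
    apply Subtype.ext
    exact congrArg (fun z : W₂ => (z : L)) this
  rw [card_irr_comm hcomm2, hfix]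
  exact Nat.card_congr (Subgroup.subgroupOfEquivOfLe hW₂K).toEquiv

theorem le_stab {θ : K → ℂ} (hθ : IsClassFunction K θ) : K ≤ stab K θ := by
  intro k hk
  exact FrobKer.conjFun_of_mem K hk hθ

theorem stab_le (W₁ W₂ : Subgroup L) (hKW₁' : K ⊔ W₁ = ⊤)
    (hW₁c : IsCyclic W₁) (hW₂c : IsCyclic W₂) (hW₂K : W₂ ≤ K)
    (hcop : (Nat.card W₁).Coprime (Nat.card K))
    (hC : ∀ x ∈ W₁, x ≠ 1 → K ⊓ Subgroup.centralizer ({x} : Set L) = W₂)
    {θ : K → ℂ} (hθ : IsIrrCharacter K θ) (hx : ∃ x ∈ W₁, cj K x θ ≠ θ) :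
    stab K θ ≤ K := by
  classical
  intro y hy
  by_contra hyK
  have hcl := isClassFunction_of_isIrrCharacter hθ
  have hy' : y ∈ ((K ⊔ W₁ : Subgroup L) : Set L) := by rw [hKW₁']; trivial
  rw [Subgroup.normal_mul, Set.mem_mul] at hy'
  obtain ⟨k, hk, w, hw, rfl⟩ := hy'
  have hw1 : w ≠ 1 := by
    rintro rfl
    exact hyK (by simpa using hk)
  have hws : w ∈ stab K θ := by
    have := (stab K θ).mul_mem ((stab K θ).inv_mem (le_stab K hcl hk)) hy
    simpa using this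
  have hW₀ : Subgroup.zpowers w ≤ W₁ := by
    rw [Subgroup.zpowers_le]; exact hw
  have hW₀s : Subgroup.zpowers w ≤ stab K θ := by
    rw [Subgroup.zpowers_le]; exact hws
  have hne : Subgroup.zpowers w ≠ ⊥ := by
    rw [Ne, Subgroup.zpowers_eq_bot]; exact hw1
  have h0 := count_inv K (Subgroup.zpowers w) W₁ W₂ hW₀ hne hW₁c hW₂c hW₂K hcop hC
  have hW₁ne : W₁ ≠ ⊥ := by
    intro h
    rw [h] at hw
    exact hw1 (Subgroup.mem_bot.mp hw)
  have h1 := count_inv K W₁ W₁ W₂ le_rfl hW₁ne hW₁c hW₂c hW₂K hcop hC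
  letI : Fintype (IrrCharacter K) := irrFintype
  have hsub : {θ : IrrCharacter K | ∀ x ∈ W₁, cj K x (θ : K → ℂ) = θ} ⊆
      {θ : IrrCharacter K | ∀ x ∈ Subgroup.zpowers w, cj K x (θ : K → ℂ) = θ} := by
    intro η hη x hx
    exact hη x (hW₀ hx)
  have heq := Set.eq_of_subset_of_ncard_le hsub (by
    rw [← Nat.card_coe_set_eq, ← Nat.card_coe_set_eq]
    exact le_of_eq (h0.trans h1.symm)) (Set.toFinite _)
  have hmem : (⟨θ, hθ⟩ : IrrCharacter K) ∈
      {θ : IrrCharacter K | ∀ x ∈ Subgroup.zpowers w, cj K x (θ : K → ℂ) = θ} := by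
    intro x hx
    exact (mem_stab_iff_cj K θ x).mp (hW₀s hx)
  rw [← heq] at hmem
  obtain ⟨x, hxW, hxne⟩ := hx
  exact hxne (hmem x hxW)

theorem isIrr_ind (W₁ W₂ : Subgroup L) (hKW₁' : K ⊔ W₁ = ⊤)
    (hW₁c : IsCyclic W₁) (hW₂c : IsCyclic W₂) (hW₂K : W₂ ≤ K)
    (hcop : (Nat.card W₁).Coprime (Nat.card K))
    (hC : ∀ x ∈ W₁, x ≠ 1 → K ⊓ Subgroup.centralizer ({x} : Set L) = W₂)
    {θ : K → ℂ} (hθ : IsIrrCharacter K θ) (hx : ∃ x ∈ W₁, cj K x θ ≠ θ) :
    IsIrrCharacter L (indFun K θ) := by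
  classical
  letI : Fintype K := Fintype.ofFinite K
  letI : Fintype (IrrCharacter L) := irrFintype
  have hst := stab_le K W₁ W₂ hKW₁' hW₁c hW₂c hW₂K hcop hC hθ hx
  apply isIrrCharacter_of_classInner_self_eq_one
    (isCharacter_indFun K (isCharacter_of_isIrrCharacter hθ))
  rw [frobenius_reciprocity K θ (isClassFunction_indFun K θ), indFun_normal_restrict,
    classInner_smul_right, classInner_sum_right]
  have h1 : ∀ x : L, classInner θ (Helper5.conjFun K x θ) = if x ∈ K then 1 else 0 := by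
    intro x
    rw [irr_orthogonality hθ (Helper5.isIrrCharacter_conjFun K x hθ)]
    by_cases hx : x ∈ K
    · rw [if_pos hx,
        if_pos (FrobKer.conjFun_of_mem K hx (isClassFunction_of_isIrrCharacter hθ)).symm]
    · rw [if_neg hx, if_neg]
      intro h
      exact hx (hst h.symm)
  rw [Finset.sum_congr rfl (fun x _ => h1 x), Finset.sum_ite, Finset.sum_const_zero, add_zero,
    Finset.sum_const, nsmul_eq_mul, mul_one]
  have h2 : (Finset.univ.filter (fun x : L => x ∈ K)).card = Nat.card K := by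
    rw [Nat.card_eq_fintype_card, ← Fintype.card_subtype]
  rw [h2, map_inv₀, Complex.conj_natCast]
  have hpos : (Nat.card K : ℂ) ≠ 0 := by
    exact_mod_cast (Nat.card_pos (α := K)).ne'
  exact inv_mul_cancel₀ hpos

omit [Fintype L] in
theorem comm_mod (W₁ : Subgroup L) (hKW₁' : K ⊔ W₁ = ⊤) (hW₁c : IsCyclic W₁) (x y : L) :
    x * y * x⁻¹ * y⁻¹ ∈ K := by
  haveI : IsCyclic W₁ := hW₁c
  have hdec : ∀ z : L, ∃ w ∈ W₁, (QuotientGroup.mk z : L ⧸ K) = QuotientGroup.mk w := by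
    intro z
    have hz : z ∈ ((K ⊔ W₁ : Subgroup L) : Set L) := by rw [hKW₁']; trivial
    rw [Subgroup.normal_mul, Set.mem_mul] at hz
    obtain ⟨k, hk, w, hw, rfl⟩ := hz
    refine ⟨w, hw, ?_⟩
    rw [QuotientGroup.mk_mul, (QuotientGroup.eq_one_iff k).mpr hk, one_mul]
  obtain ⟨w₁, hw₁, h1⟩ := hdec x
  obtain ⟨w₂, hw₂, h2⟩ := hdec y
  have hc : w₁ * w₂ = w₂ * w₁ := by
    have := (IsCyclic.isMulCommutative (α := W₁)).is_comm.comm ⟨w₁, hw₁⟩ ⟨w₂, hw₂⟩
    exact congrArg (fun z : W₁ => (z : L)) this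
  rw [← QuotientGroup.eq_one_iff]
  rw [QuotientGroup.mk_mul, QuotientGroup.mk_mul, QuotientGroup.mk_mul, QuotientGroup.mk_inv,
    QuotientGroup.mk_inv, h1, h2, ← QuotientGroup.mk_inv, ← QuotientGroup.mk_inv,
    ← QuotientGroup.mk_mul, ← QuotientGroup.mk_mul, ← QuotientGroup.mk_mul, hc]
  have : w₂ * w₁ * w₁⁻¹ * w₂⁻¹ = 1 := by group
  rw [this, QuotientGroup.mk_one]

theorem ind_invariant (W₁ : Subgroup L) (hKW₁' : K ⊔ W₁ = ⊤) (hW₁c : IsCyclic W₁)
    (hcop : (Nat.card K).Coprime K.index) (hidx : K.index = Nat.card W₁)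
    {θ : K → ℂ} (hθ : IsIrrCharacter K θ) (hinv : ∀ x ∈ W₁, cj K x θ = θ) :
    ∃ C : Finset (L → ℂ), C.card = Nat.card W₁ ∧ (∀ μ ∈ C, IsIrrCharacter L μ) ∧
      indFun K θ = ∑ μ ∈ C, μ := by
  classical
  letI : Fintype K := Fintype.ofFinite K
  letI : Fintype (IrrCharacter L) := irrFintype
  have hcl := isClassFunction_of_isIrrCharacter hθ
  have htop : stab K θ = ⊤ := by
    rw [eq_top_iff, ← hKW₁']
    apply sup_le (le_stab K hcl)
    intro x hx
    exact (mem_stab_iff_cj K θ x).mpr (hinv x hx)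
  have hinv24 : ∀ x : L, Helper24.conjFun K x θ = θ := by
    intro x
    rw [← mem_stab_iff_24, htop]; trivial
  have hInv : CopDeg.Inv K θ := by
    intro g n
    have : g ∈ stab K θ := by rw [htop]; trivial
    exact congrFun ((mem_stab_iff_cj K θ g).mp this) n
  obtain ⟨χ, hχ, hχres⟩ := CopDeg.exists_ext K hcop hθ hInv
  obtain ⟨e, C, he, hind, hres, hcard, hne⟩ :=
    induced_invariant_abelian K (comm_mod K W₁ hKW₁' hW₁c) hθ hinv24
  have h1 : classInner (indFun K θ) χ = 1 := by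
    rw [frobenius_reciprocity K θ (isClassFunction_of_isIrrCharacter hχ)]
    have : (fun h : K => χ h) = θ := funext hχres
    rw [this, irr_orthogonality hθ hθ, if_pos rfl]
  have h2 : classInner (indFun K θ) χ = (e : ℂ) * (if (⟨χ, hχ⟩ : IrrCharacter L) ∈ C then 1 else 0) := by
    rw [hind, classInner_smul_left, classInner_sum_left]
    congr 1
    rw [Finset.sum_congr rfl (fun ψ _ => irr_orthogonality ψ.2 hχ)]
    rw [Finset.sum_ite, Finset.sum_const_zero, add_zero, Finset.sum_const, nsmul_eq_mul, mul_one]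
    by_cases hmem : (⟨χ, hχ⟩ : IrrCharacter L) ∈ C
    · rw [if_pos hmem]
      have : C.filter (fun ψ : IrrCharacter L => (ψ : L → ℂ) = χ) = {⟨χ, hχ⟩} := by
        ext ψ
        simp only [Finset.mem_filter, Finset.mem_singleton]
        constructor
        · rintro ⟨_, h⟩
          exact Subtype.ext h
        · rintro rfl
          exact ⟨hmem, rfl⟩
      rw [this, Finset.card_singleton, Nat.cast_one]
    · rw [if_neg hmem]
      have : C.filter (fun ψ : IrrCharacter L => (ψ : L → ℂ) = χ) = ∅ := by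
        ext ψ
        simp only [Finset.mem_filter, Finset.notMem_empty, iff_false, not_and]
        intro hψ h
        apply hmem
        have : ψ = ⟨χ, hχ⟩ := Subtype.ext h
        rwa [← this]
      rw [this, Finset.card_empty, Nat.cast_zero]
  have he1 : e = 1 := by
    rw [h1] at h2
    by_cases hmem : (⟨χ, hχ⟩ : IrrCharacter L) ∈ C
    · rw [if_pos hmem, mul_one] at h2
      exact_mod_cast h2.symm
    · rw [if_neg hmem, mul_zero] at h2
      exact absurd h2 one_ne_zero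
  subst he1
  refine ⟨C.image (fun ψ : IrrCharacter L => (ψ : L → ℂ)), ?_, ?_, ?_⟩
  · rw [Finset.card_image_of_injective _ Subtype.val_injective, ← hidx, ← hcard]
    ring
  · intro μ hμ
    rw [Finset.mem_image] at hμ
    obtain ⟨ψ, _, rfl⟩ := hμ
    exact ψ.2
  · rw [Finset.sum_image (fun a _ b _ h => Subtype.val_injective h), hind, Nat.cast_one, one_smul]

end

/-- Let L be a finite group with K normal with complement W₁ ≠ 1 a cyclic Hall subgroup, and W₂ ≠ 1 a cyclic subgroup of K equal to C_K(x) for every non-identity x ∈ W₁, with W₁W₂ of odd order. For an irreducible character θ of K: if θ is not fixed under conjugation by some element of W₁, then the function induced from θ to L is an irreducible character of L; and the irreducible characters of K fixed by all of W₁ are exactly Nat.card W₂ in number, each inducing to the sum of Nat.card W₁ pairwise distinct irreducible characters of L. -/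
theorem result {L : Type*} [Group L] [Fintype L] (K W₁ W₂ : Subgroup L) [hK : K.Normal] (hKW₁ : K ⊓ W₁ = ⊥) (hKW₁' : K ⊔ W₁ = ⊤) (hW₁ : W₁ ≠ ⊥) (hW₁c : IsCyclic W₁) (hHall : Nat.Coprime (Nat.card W₁) W₁.index) (hW₂ : W₂ ≠ ⊥) (hW₂c : IsCyclic W₂) (hW₂K : W₂ ≤ K) (hC : ∀ x ∈ W₁, x ≠ 1 → K ⊓ Subgroup.centralizer ({x} : Set L) = W₂) (hodd : Odd (Nat.card ↥(W₁ ⊔ W₂))) : (∀ θ : K → ℂ, Cfsg.IsIrrCharacter K θ → (∃ x ∈ W₁, (fun k : K => θ ⟨x * k * x⁻¹, hK.conj_mem (k : L) k.2 x⟩) ≠ θ) → Cfsg.IsIrrCharacter L (Cfsg.indFun K θ)) ∧ Nat.card {θ : Cfsg.IrrCharacter K // ∀ x ∈ W₁, (fun k : K => (θ : K → ℂ) ⟨x * k * x⁻¹, hK.conj_mem (k : L) k.2 x⟩) = θ} = Nat.card W₂ ∧ (∀ θ : K → ℂ, Cfsg.IsIrrCharacter K θ → (∀ x ∈ W₁, (fun k : K => θ ⟨x * k * x⁻¹, hK.conj_mem (k : L) k.2 x⟩) = θ) → ∃ C : Finset (L → ℂ), C.card = Nat.card W₁ ∧ (∀ μ ∈ C, Cfsg.IsIrrCharacter L μ) ∧ Cfsg.indFun K θ = ∑ μ ∈ C, μ) := by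
  have hcomp : Subgroup.IsComplement' K W₁ := by
    apply Subgroup.isComplement'_of_disjoint_and_mul_eq_univ (disjoint_iff.mpr hKW₁)
    rw [← Subgroup.normal_mul, hKW₁']; rfl
  have hidxW : W₁.index = Nat.card K := hcomp.index_eq_card
  have hidxK : K.index = Nat.card W₁ := hcomp.symm.index_eq_card
  have hcop : (Nat.card W₁).Coprime (Nat.card K) := by rw [← hidxW]; exact hHall
  refine ⟨?_, ?_, ?_⟩
  · intro θ hθ hx
    exact isIrr_ind K W₁ W₂ hKW₁' hW₁c hW₂c hW₂K hcop hC hθ hx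
  · exact count_inv K W₁ W₁ W₂ le_rfl hW₁ hW₁c hW₂c hW₂K hcop hC
  · intro θ hθ hinv
    exact ind_invariant K W₁ hKW₁' hW₁c (by rw [hidxK]; exact hcop.symm) hidxK hθ hinv

end Cfsg.Agent.S1513
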