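import Mathlib
import Cfsg.Statements.S1518
import Cfsg.Agent.Lib.Helper8.DadeExpand
import Cfsg.Agent.Lib.Helper24.CharLinear
import Cfsg.Agent.Lib.Helper8.Zspan

set_option autoImplicit false
open Cfsg

namespace Cfsg.Agent.S1518

open Cfsg.Agent.Helper8 Cfsg.Agent.Helper24
open scoped ComplexConjugate

section aux

variable {G : Type*} [Group G] [Finite G] (A : Set G) (L : Subgroup G) (H : G → Subgroup G)

lemma dade_conjFun (α : L → ℂ) :
    Cfsg.dadeIsometry A L H (Cfsg.conjFun α) = Cfsg.conjFun (Cfsg.dadeIsometry A L H α) := by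
  classical
  ext g
  by_cases hex : ∃ a : ↥L, (a : G) ∈ A ∧ ∃ x : G, ∃ u ∈ H (a : G), x * g * x⁻¹ = (a : G) * u
  · simp only [Cfsg.dadeIsometry, Cfsg.conjFun, dif_pos hex]
  · simp only [Cfsg.dadeIsometry, Cfsg.conjFun, dif_neg hex, map_zero]

lemma dade_neg (α : L → ℂ) :
    Cfsg.dadeIsometry A L H (-α) = -Cfsg.dadeIsometry A L H α := by
  classical
  ext g
  by_cases hex : ∃ a : ↥L, (a : G) ∈ A ∧ ∃ x : G, ∃ u ∈ H (a : G), x * g * x⁻¹ = (a : G) * u
  · simp only [Cfsg.dadeIsometry, Pi.neg_apply, dif_pos hex]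
  · simp only [Cfsg.dadeIsometry, Pi.neg_apply, dif_neg hex, neg_zero]

lemma dade_zero : Cfsg.dadeIsometry A L H (0 : L → ℂ) = 0 := by
  classical
  ext g
  by_cases hex : ∃ a : ↥L, (a : G) ∈ A ∧ ∃ x : G, ∃ u ∈ H (a : G), x * g * x⁻¹ = (a : G) * u
  · simp only [Cfsg.dadeIsometry, Pi.zero_apply, dif_pos hex]
  · simp only [Cfsg.dadeIsometry, Pi.zero_apply, dif_neg hex]

lemma dade_one (hD : Cfsg.DadeHypothesis A L H) (α : L → ℂ) :
    Cfsg.dadeIsometry A L H α 1 = 0 := by
  apply dade_apply_of_not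
  rintro ⟨a, ha, x, u, hu, hx⟩
  have h1 : (a : G) * u = 1 := by rw [← hx]; group
  have h2 : (a : G) = u⁻¹ := eq_inv_of_mul_eq_one_left h1
  have h3 : (a : G) ∈ H (a : G) := by rw [h2]; exact Subgroup.inv_mem _ (by rw [← h2]; exact hu)
  have h4 : (a : G) ∈ H (a : G) ⊓ (L ⊓ Subgroup.centralizer ({(a : G)} : Set G)) := by
    refine Subgroup.mem_inf.2 ⟨h3, Subgroup.mem_inf.2 ⟨a.2, ?_⟩⟩
    rw [Subgroup.mem_centralizer_iff]
    intro y hy
    rw [Set.mem_singleton_iff] at hy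
    rw [hy]
  rw [hD.inf_eq_bot _ ha, Subgroup.mem_bot] at h4
  apply hD.one_not_mem
  rw [← h4]; exact ha

end aux

/-- Under the Dade hypothesis for (A, L, H): if χ is an irreducible character of L vanishing at every non-identity element of L outside A, then the Dade image of χ − conj χ equals μ − conj μ for some irreducible character μ of G. -/
theorem result {G : Type*} [Group G] [Fintype G] (A : Set G) (L : Subgroup G) [Fintype L] (H : G → Subgroup G) (hD : Cfsg.DadeHypothesis A L H) (χ : L → ℂ) (hχ : Cfsg.IsIrrCharacter L χ) (hsupp : ∀ x : L, x ≠ 1 → (x : G) ∉ A → χ x = 0) : ∃ μ : G → ℂ, Cfsg.IsIrrCharacter G μ ∧ Cfsg.dadeIsometry A L H (χ - Cfsg.conjFun χ) = μ - Cfsg.conjFun μ := by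
  classical
  by_cases hreal : Cfsg.conjFun χ = χ
  · refine ⟨fun _ => 1, isIrrCharacter_one, ?_⟩
    rw [hreal, sub_self, dade_zero]
    ext g
    simp [Cfsg.conjFun]
  · have hχc : Cfsg.IsIrrCharacter L (Cfsg.conjFun χ) := isIrr_conjFun hχ
    set θ : L → ℂ := χ - Cfsg.conjFun χ with hθ
    obtain ⟨n, -, hn1⟩ := irr_one_eq hχ
    have hθ1 : θ 1 = 0 := by
      simp only [hθ, Pi.sub_apply, Cfsg.conjFun, hn1]
      simp
    have hθA : ∀ x : L, (x : G) ∉ A → θ x = 0 := by
      intro x hx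
      by_cases hx1 : x = 1
      · rw [hx1, hθ1]
      · simp only [hθ, Pi.sub_apply, Cfsg.conjFun, hsupp x hx1 hx]
        simp
    have hθg : Cfsg.IsGeneralizedCharacter L θ :=
      isGen_sub (isGen_of_isCharacter (isCharacter_of_isIrrCharacter hχ))
        (isGen_of_isCharacter (isCharacter_of_isIrrCharacter hχc))
    have hθcf := isClassFunction_of_isGeneralizedCharacter hθg
    have hτg := DadeExp.dade_isGenChar hD θ hθg hθA
    have hnorm : Cfsg.classInner (Cfsg.dadeIsometry A L H θ) (Cfsg.dadeIsometry A L H θ) = 2 := by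
      rw [(Cfsg.Agent.S1500.result A L H hD θ hθcf hθA).1 θ hθcf hθA, hθ, classInner_sub_left,
        classInner_sub_right, classInner_sub_right, irr_orthogonality hχ hχ,
        irr_orthogonality hχ hχc, irr_orthogonality hχc hχ, irr_orthogonality hχc hχc, if_pos rfl,
        if_pos rfl, if_neg (fun h => hreal h.symm), if_neg hreal]
      norm_num
    obtain ⟨μ₁, μ₂, hμ₁, hμ₂, hne, heq⟩ := genChar_norm_two hτg hnorm (dade_one A L H hD θ)
    refine ⟨μ₁, hμ₁, ?_⟩
    -- conjugation symmetry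
    have hconj : Cfsg.conjFun (Cfsg.dadeIsometry A L H θ) = -Cfsg.dadeIsometry A L H θ := by
      rw [← dade_conjFun, ← dade_neg]
      congr 1
      ext x
      simp [hθ, Cfsg.conjFun]
    have hμ₁c := isIrr_conjFun hμ₁
    have hμ₂c := isIrr_conjFun hμ₂
    have hrel : Cfsg.conjFun μ₁ + μ₁ = μ₂ + Cfsg.conjFun μ₂ := by
      have h1 : Cfsg.conjFun (μ₁ - μ₂) = -(μ₁ - μ₂) := by rw [← heq]; exact hconj
      have h2 : Cfsg.conjFun (μ₁ - μ₂) = Cfsg.conjFun μ₁ - Cfsg.conjFun μ₂ := by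
        ext g; simp [Cfsg.conjFun]
      rw [h2] at h1
      ext g
      have := congrFun h1 g
      simp only [Pi.sub_apply, Pi.neg_apply, Pi.add_apply] at this ⊢
      linear_combination this
    have hkey : Cfsg.conjFun μ₂ = μ₁ := by
      by_contra hne2
      have h1 := congrArg (fun f => Cfsg.classInner f μ₁) hrel
      simp only [Helper24.classInner_add_left] at h1
      have e2 : (if μ₁ = μ₁ then (1 : ℂ) else 0) = 1 := if_pos rfl
      have e3 : (if μ₂ = μ₁ then (1 : ℂ) else 0) = 0 := if_neg (fun h => hne h.symm)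
      have e4 : (if Cfsg.conjFun μ₂ = μ₁ then (1 : ℂ) else 0) = 0 := if_neg hne2
      rw [irr_orthogonality hμ₁c hμ₁, irr_orthogonality hμ₁ hμ₁, irr_orthogonality hμ₂ hμ₁,
        irr_orthogonality hμ₂c hμ₁, e2, e3, e4] at h1
      split_ifs at h1 <;> norm_num at h1
    have hμ₂eq : μ₂ = Cfsg.conjFun μ₁ := by
      rw [← hkey]
      ext g; simp [Cfsg.conjFun]
    rw [heq, hμ₂eq]

end Cfsg.Agent.S1518
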