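import Mathlib
import Cfsg.Statements.S1525
import Cfsg.Agent.Lib.Helper8.Dade

set_option autoImplicit false
open Cfsg

namespace Cfsg.Agent.S1525

open Cfsg.Agent.Helper8
open scoped ComplexConjugate

/-- Cauchy–Schwarz for an average -/
lemma norm_avg_sq_le {ι : Type*} (s : Finset ι) (f : ι → ℂ) (hs : s.Nonempty) :
    ‖((s.card : ℂ))⁻¹ * ∑ i ∈ s, f i‖ ^ 2 ≤ ((s.card : ℝ))⁻¹ * ∑ i ∈ s, ‖f i‖ ^ 2 := by
  have hc : (0 : ℝ) < s.card := by exact_mod_cast hs.card_pos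
  rw [norm_mul, norm_inv, Complex.norm_natCast, mul_pow]
  have h1 : ‖∑ i ∈ s, f i‖ ^ 2 ≤ (∑ i ∈ s, ‖f i‖) ^ 2 := by
    apply pow_le_pow_left₀ (norm_nonneg _) (norm_sum_le _ _)
  have h2 : (∑ i ∈ s, ‖f i‖) ^ 2 ≤ s.card * ∑ i ∈ s, ‖f i‖ ^ 2 := sq_sum_le_card_mul_sum_sq
  have h3 : ((s.card : ℝ)⁻¹) ^ 2 * ‖∑ i ∈ s, f i‖ ^ 2
      ≤ ((s.card : ℝ)⁻¹) ^ 2 * (s.card * ∑ i ∈ s, ‖f i‖ ^ 2) :=
    mul_le_mul_of_nonneg_left (h1.trans h2) (by positivity)
  refine h3.trans (le_of_eq ?_)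
  field_simp

/-- Under the Dade hypothesis for (A, L, H), let χ be a class function of G and let ψ be a function on L whose value at each a ∈ A is the average of χ over the coset a·H(a). Then (1/|G|) Σ |χ g|² over the elements g of G conjugate into some coset a·H(a) with a ∈ A is at least (1/|L|) Σ_{a ∈ A ∩ L} |ψ a|². -/
theorem result {G : Type*} [Group G] [Fintype G] (A : Set G) (L : Subgroup G) [Fintype L] (H : G → Subgroup G) (hD : Cfsg.DadeHypothesis A L H) (χ : G → ℂ) (hχ : Cfsg.IsClassFunction G χ) (ψ : L → ℂ) (hψ : ∀ a : L, (a : G) ∈ A → ψ a = (Nat.card (H a) : ℂ)⁻¹ * ∑ᶠ u ∈ (H a : Set G), χ (a * u)) : (Nat.card L : ℝ)⁻¹ * ∑ᶠ a ∈ {a : L | (a : G) ∈ A}, ‖ψ a‖ ^ 2 ≤ (Nat.card G : ℝ)⁻¹ * ∑ᶠ g ∈ {g : G | ∃ a ∈ A, ∃ u ∈ H a, ∃ x : G, x * g * x⁻¹ = a * u}, ‖χ g‖ ^ 2 := by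
  classical
  -- the indicator function of `A` on `L`
  set α : L → ℂ := fun a => if (a : G) ∈ A then 1 else 0 with hαdef
  have hα : Cfsg.IsClassFunction L α := by
    intro g h
    simp only [hαdef]
    have : ((h * g * h⁻¹ : L) : G) ∈ A ↔ (g : G) ∈ A := by
      constructor
      · intro hm
        have := hD.conj_mem _ (L.inv_mem h.2) _ hm
        simpa [mul_assoc] using this
      · intro hm
        exact hD.conj_mem _ h.2 _ hm
    rw [if_congr this rfl rfl]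
  have hαA : ∀ x : L, (x : G) ∉ A → α x = 0 := by
    intro x hx
    simp only [hαdef, if_neg hx]
  set F : G → ℂ := fun g => ((‖χ g‖ ^ 2 : ℝ) : ℂ) with hFdef
  have hF : Cfsg.IsClassFunction G F := by
    intro g h
    simp only [hFdef]
    rw [hχ g h]
  have key := dade_sum A L H hD α hα hαA F hF
  -- the Dade image of the indicator is the indicator of the support
  have hτ : ∀ g : G, Cfsg.dadeIsometry A L H α g
      = if g ∈ {g : G | ∃ a ∈ A, ∃ u ∈ H a, ∃ x : G, x * g * x⁻¹ = a * u} then 1 else 0 := by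
    intro g
    split_ifs with hg
    · obtain ⟨a, ha, u, hu, x, hx⟩ := hg
      rw [dade_apply A L H hD α hα ⟨a, hD.subset ha⟩ ha u hu x g hx]
      simp only [hαdef, if_pos ha]
    · apply dade_apply_of_not
      rintro ⟨a, ha, x, u, hu, hx⟩
      exact hg ⟨a, ha, u, hu, x, hx⟩
  -- real form of the identity
  have hreal : (Nat.card L : ℝ) * ∑ g : G,
        (if g ∈ {g : G | ∃ a ∈ A, ∃ u ∈ H a, ∃ x : G, x * g * x⁻¹ = a * u} then ‖χ g‖ ^ 2 else 0)
      = (Nat.card G : ℝ) * ∑ a : L, (if (a : G) ∈ A then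
          (Nat.card (H a) : ℝ)⁻¹ * ∑ u : G, (if u ∈ H (a : G) then ‖χ ((a : G) * u)‖ ^ 2 else 0)
          else 0) := by
    apply Complex.ofReal_injective
    push_cast
    convert key using 2
    · refine Finset.sum_congr rfl fun g _ => ?_
      rw [hτ g]
      split_ifs <;> simp [hFdef]
    · refine Finset.sum_congr rfl fun a _ => ?_
      simp only [hαdef]
      split_ifs with ha
      · rw [one_mul]
        rw [Complex.ofReal_mul, Complex.ofReal_inv, Complex.ofReal_natCast, Complex.ofReal_sum]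
        congr 1
        refine Finset.sum_congr rfl fun u _ => ?_
        split_ifs <;> simp [hFdef]
      · rw [zero_mul]
        simp
  rw [finsum_mem_eq_sum_ite {a : L | (a : G) ∈ A} (fun a => ‖ψ a‖ ^ 2),
    finsum_mem_eq_sum_ite {g : G | ∃ a ∈ A, ∃ u ∈ H a, ∃ x : G, x * g * x⁻¹ = a * u}
      (fun g => ‖χ g‖ ^ 2)]
  have hL : (0 : ℝ) < Nat.card L := by exact_mod_cast (Nat.card_pos (α := ↥L))
  have hG : (0 : ℝ) < Nat.card G := by exact_mod_cast (Nat.card_pos (α := G))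
  -- Cauchy–Schwarz termwise
  have hCS : ∑ a : L, (if a ∈ {a : L | (a : G) ∈ A} then ‖ψ a‖ ^ 2 else 0)
      ≤ ∑ a : L, (if (a : G) ∈ A then
          (Nat.card (H a) : ℝ)⁻¹ * ∑ u : G, (if u ∈ H (a : G) then ‖χ ((a : G) * u)‖ ^ 2 else 0)
          else 0) := by
    apply Finset.sum_le_sum
    intro a _
    simp only [Set.mem_ofPred_eq]
    split_ifs with ha
    · rw [hψ a ha, finsum_mem_eq_sum_ite (H (a : G) : Set G) (fun u => χ ((a : G) * u))]
      have hne : (Finset.univ.filter (fun u : G => u ∈ H (a : G))).Nonempty :=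
        ⟨1, Finset.mem_filter.mpr ⟨Finset.mem_univ _, (H (a : G)).one_mem⟩⟩
      have hcard : (Finset.univ.filter (fun u : G => u ∈ H (a : G))).card
          = Nat.card (H (a : G)) := by
        rw [Nat.card_eq_fintype_card, Fintype.card_subtype]
      have := norm_avg_sq_le (Finset.univ.filter (fun u : G => u ∈ H (a : G)))
        (fun u => χ ((a : G) * u)) hne
      rw [hcard, Finset.sum_filter, Finset.sum_filter] at this
      simpa only [SetLike.mem_coe] using this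
    · exact le_refl _
  have h4 : (Nat.card L : ℝ)⁻¹ * ∑ a : L, (if a ∈ {a : L | (a : G) ∈ A} then ‖ψ a‖ ^ 2 else 0)
      ≤ (Nat.card L : ℝ)⁻¹ * ∑ a : L, (if (a : G) ∈ A then
          (Nat.card (H a) : ℝ)⁻¹ * ∑ u : G, (if u ∈ H (a : G) then ‖χ ((a : G) * u)‖ ^ 2 else 0)
          else 0) :=
    mul_le_mul_of_nonneg_left hCS (by positivity)
  refine h4.trans (le_of_eq ?_)
  have h5 : ∑ a : L, (if (a : G) ∈ A then
          (Nat.card (H a) : ℝ)⁻¹ * ∑ u : G, (if u ∈ H (a : G) then ‖χ ((a : G) * u)‖ ^ 2 else 0)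
          else 0)
      = (Nat.card G : ℝ)⁻¹ * ((Nat.card L : ℝ) * ∑ g : G,
        (if g ∈ {g : G | ∃ a ∈ A, ∃ u ∈ H a, ∃ x : G, x * g * x⁻¹ = a * u}
          then ‖χ g‖ ^ 2 else 0)) := by
    rw [hreal]
    field_simp
  rw [h5]
  field_simp

end Cfsg.Agent.S1525
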