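import Mathlib
import Cfsg.Statements.S1528
import Cfsg.Agent.Lib.Helper8.InnerExtra
import Cfsg.Agent.Lib.Helper8.IndFun
import Cfsg.Agent.Lib.Helper24.CharBrauerPerm
import Cfsg.Agent.Lib.Helper24.CharConj
import Cfsg.Agent.Lib.Helper24.CharInduced

set_option autoImplicit false
open Cfsg

namespace Cfsg.Agent.S1528

open Cfsg.Agent.Helper24
open scoped ComplexConjugate

section aux

variable {G : Type*} [Group G] [Fintype G] (N : Subgroup G) [N.Normal]

/-- outside `N`, conjugation fixes only the principal irreducible character of `N` -/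
lemma conj_ne_of_not_mem (hC : ∀ n ∈ N, n ≠ 1 → Subgroup.centralizer ({n} : Set G) ≤ N)
    {φ : N → ℂ} (hφ : Cfsg.IsIrrCharacter N φ) (hφ1 : φ ≠ fun _ => 1) {g : G} (hg : g ∉ N) :
    Helper24.conjFun N g φ ≠ φ := by
  classical
  letI : Fintype (Cfsg.IrrCharacter N) := irrFintype
  intro hfix
  let σ : Cfsg.IrrCharacter N → Cfsg.IrrCharacter N := fun χ =>
    ⟨Helper24.conjFun N g χ.1, isIrrCharacter_conjFun N g χ.2⟩
  let τ : N ≃ N := (MulAut.conjNormal g : N ≃* N).toEquiv
  have hστ : ∀ (χ : Cfsg.IrrCharacter N) (k : N), (σ χ : N → ℂ) (τ k) = (χ : N → ℂ) k := by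
    intro χ k
    exact conjFun_conjNormal N g χ.1 k
  have hcount := brauer_permutation_count σ τ hστ
  -- the pairs are exactly the `(1, y)`
  have hpairs : Nat.card {p : N × N // p.2 * τ p.1 * p.2⁻¹ = p.1} = Nat.card N := by
    apply Nat.card_congr
    refine ⟨fun p => p.1.2, fun y => ⟨(1, y), ?_⟩, ?_, ?_⟩
    · show y * τ 1 * y⁻¹ = 1
      have : τ 1 = 1 := map_one (MulAut.conjNormal g : N ≃* N)
      rw [this]; simp
    · rintro ⟨⟨x, y⟩, hxy⟩
      have hx1 : x = 1 := by
        by_contra hne
        have hne' : (x : G) ≠ 1 := fun h => hne (Subtype.ext h)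
        have hxy' : (y : G) * (g * (x : G) * g⁻¹) * (y : G)⁻¹ = (x : G) := by
          have := congrArg (Subtype.val : N → G) hxy
          simpa [τ, MulAut.conjNormal_apply] using this
        have hmem : (y : G) * g ∈ Subgroup.centralizer ({(x : G)} : Set G) := by
          rw [Subgroup.mem_centralizer_iff]
          intro z hz
          rw [Set.mem_singleton_iff] at hz
          subst hz
          calc (x : G) * ((y : G) * g)
              = ((y : G) * (g * (x : G) * g⁻¹) * (y : G)⁻¹) * ((y : G) * g) := by rw [hxy']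
            _ = (y : G) * g * (x : G) := by group
        have := hC x x.2 hne' hmem
        have hgN : g ∈ N := by
          have h2 := N.mul_mem (N.inv_mem y.2) this
          simpa using h2
        exact hg hgN
      subst hx1
      rfl
    · intro y
      rfl
  rw [hpairs] at hcount
  have hfixcard : Nat.card {χ : Cfsg.IrrCharacter N // σ χ = χ} = 1 := by
    have hpos : 0 < Nat.card N := Nat.card_pos
    exact Nat.eq_of_mul_eq_mul_right hpos (by rw [hcount, one_mul])
  -- but both the principal character and `φ` are fixed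
  have hone : Cfsg.IsIrrCharacter N (fun _ : N => (1 : ℂ)) := isIrrCharacter_one
  let a : {χ : Cfsg.IrrCharacter N // σ χ = χ} := ⟨⟨fun _ => 1, hone⟩, Subtype.ext (by
    ext k
    rfl)⟩
  let b : {χ : Cfsg.IrrCharacter N // σ χ = χ} := ⟨⟨φ, hφ⟩, Subtype.ext hfix⟩
  have hsub : Subsingleton {χ : Cfsg.IrrCharacter N // σ χ = χ} :=
    (Nat.card_eq_one_iff_unique.1 hfixcard).1
  have hab : a = b := Subsingleton.elim a b
  have : (fun _ : N => (1 : ℂ)) = φ := congrArg (fun z => (z.1 : N → ℂ)) hab
  exact hφ1 this.symm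

/-- the restriction to `N` of the function induced from `N` is the sum of the conjugates -/
lemma indFun_restrict (φ : N → ℂ) (n : N) :
    Cfsg.indFun N φ (n : G) = (Nat.card N : ℂ)⁻¹ * ∑ x : G, Helper24.conjFun N x φ n := by
  rw [Helper24.indFun_apply]
  congr 1
  refine Finset.sum_congr rfl fun x _ => ?_
  have hmem : x⁻¹ * (n : G) * x ∈ N := by
    have := ‹N.Normal›.conj_mem n n.2 x⁻¹
    simpa using this
  rw [Helper24.extendByZero_of_mem N φ hmem, conjFun_apply]
  congr 1
  apply Subtype.ext
  simp [MulAut.conjNormal_apply]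

end aux

/-- Let N be a normal subgroup of the finite group G such that every element of G commuting with a non-identity element of N lies in N. If χ is an irreducible character of G with χ n ≠ χ 1 for some n ∈ N, then χ is the function induced from some irreducible character of N. -/
theorem result {G : Type*} [Group G] [Fintype G] (N : Subgroup G) [N.Normal] (hC : ∀ n ∈ N, n ≠ 1 → Subgroup.centralizer ({n} : Set G) ≤ N) (χ : G → ℂ) (hχ : Cfsg.IsIrrCharacter G χ) (hker : ∃ n ∈ N, χ n ≠ χ 1) : ∃ φ : N → ℂ, Cfsg.IsIrrCharacter N φ ∧ χ = Cfsg.indFun N φ := by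
  classical
  letI : Fintype (Cfsg.IrrCharacter N) := irrFintype
  letI : Fintype (Cfsg.IrrCharacter G) := irrFintype
  have hχc : Cfsg.IsCharacter G χ := isCharacter_of_isIrrCharacter hχ
  have hχcf : Cfsg.IsClassFunction G χ := isClassFunction_of_isCharacter hχc
  set χN : N → ℂ := fun n => χ n with hχN
  have hχN_char : Cfsg.IsCharacter N χN := isCharacter_restrict N hχc
  -- a non-principal constituent of the restriction
  have hex : ∃ φ : Cfsg.IrrCharacter N, (φ : N → ℂ) ≠ (fun _ => 1) ∧
      Cfsg.classInner χN (φ : N → ℂ) ≠ 0 := by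
    by_contra hcon
    push Not at hcon
    have hexp := classFunction_expansion (isClassFunction_of_isCharacter hχN_char)
    have hone : Cfsg.IsIrrCharacter N (fun _ : N => (1 : ℂ)) := isIrrCharacter_one
    have hval : ∀ n : N, χN n = Cfsg.classInner χN (fun _ : N => (1 : ℂ)) := by
      intro n
      have h1 := congrFun hexp n
      rw [Finset.sum_apply] at h1
      rw [h1, Finset.sum_eq_single (⟨fun _ => 1, hone⟩ : Cfsg.IrrCharacter N)]
      · simp
      · intro ψ _ hψ
        have : (ψ : N → ℂ) ≠ fun _ => 1 := fun h => hψ (Subtype.ext h)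
        have h0 : Cfsg.classInner χN (ψ : N → ℂ) = 0 := by
          by_contra hne
          exact hne (hcon ψ this)
        simp [h0]
      · intro h; exact absurd (Finset.mem_univ _) h
    obtain ⟨n, hn, hne⟩ := hker
    apply hne
    have h1 := hval ⟨n, hn⟩
    have h2 := hval 1
    simp only [hχN] at h1 h2
    rw [h1]
    exact h2.symm
  obtain ⟨⟨φ, hφ⟩, hφ1, hφχ⟩ := hex
  simp only at hφ1 hφχ
  have hφc : Cfsg.IsCharacter N φ := isCharacter_of_isIrrCharacter hφ
  have hφcf : Cfsg.IsClassFunction N φ := isClassFunction_of_isCharacter hφc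
  have hind_char : Cfsg.IsCharacter G (Cfsg.indFun N φ) := isCharacter_indFun N hφc
  -- the norm of the induced character is one
  have hnorm : Cfsg.classInner (Cfsg.indFun N φ) (Cfsg.indFun N φ) = 1 := by
    rw [frobenius_reciprocity N φ (isClassFunction_indFun N φ)]
    have hres : (fun h : N => Cfsg.indFun N φ (h : G)) =
        ∑ x : G, ((Nat.card N : ℂ)⁻¹ : ℂ) • Helper24.conjFun N x φ := by
      ext n
      rw [indFun_restrict N φ n, Finset.sum_apply, Finset.mul_sum]
      rfl
    rw [hres, Helper24.classInner_sum_right]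
    have hterm : ∀ x : G, Cfsg.classInner φ (((Nat.card N : ℂ)⁻¹ : ℂ) • Helper24.conjFun N x φ) =
        if x ∈ N then ((Nat.card N : ℂ)⁻¹ : ℂ) else 0 := by
      intro x
      rw [Helper24.classInner_smul_right, map_inv₀, Complex.conj_natCast,
        irr_orthogonality hφ (isIrrCharacter_conjFun N x hφ)]
      by_cases hx : x ∈ N
      · rw [if_pos hx, if_pos (conjFun_of_mem N hφcf hx).symm, mul_one]
      · rw [if_neg hx, if_neg (fun h => conj_ne_of_not_mem N hC hφ hφ1 hx h.symm), mul_zero]
    simp only [hterm]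
    rw [← Finset.sum_filter, Finset.sum_const, nsmul_eq_mul]
    have hcardN : (Finset.univ.filter (fun x : G => x ∈ N)).card = Nat.card N := by
      rw [Nat.card_eq_fintype_card, Fintype.card_subtype]
    rw [hcardN]
    have hcard : (Nat.card N : ℂ) ≠ 0 := by
      exact_mod_cast (Nat.card_pos (α := N)).ne'
    exact mul_inv_cancel₀ hcard
  have hind_irr : Cfsg.IsIrrCharacter G (Cfsg.indFun N φ) :=
    isIrrCharacter_of_classInner_self_eq_one hind_char hnorm
  refine ⟨φ, hφ, ?_⟩
  have h1 : Cfsg.classInner (Cfsg.indFun N φ) χ ≠ 0 := by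
    rw [frobenius_reciprocity N φ hχcf]
    intro h0
    apply hφχ
    rw [← Helper24.classInner_conj_symm, h0, map_zero]
  rw [irr_orthogonality hind_irr hχ] at h1
  by_contra hne
  rw [if_neg (fun h => hne h.symm)] at h1
  exact h1 rfl

end Cfsg.Agent.S1528
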