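import Mathlib
import Cfsg.Agent.Lib.Helper8.FrobCoh2
import Cfsg.Statements.S1532
-- import your own Cfsg.Agent.* helpers here

set_option autoImplicit false
open Cfsg

namespace Cfsg.Agent.S1532

/-- Let G be a finite group, p an odd prime and P a Sylow p-subgroup that is non-abelian, whose underlying set is a TI-subset of G, with P properly contained in its set normaliser N and C_G(x) ≤ P for every non-identity x ∈ P. Let Z be a nontrivial subgroup of the centre of P normalised by N. Then the set of irreducible characters χ of N with χ z ≠ χ 1 for some z ∈ Z is coherent for the map induced by induction from N to G. -/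
theorem result {G : Type*} [Group G] [Fintype G] (p : ℕ) [Fact p.Prime] (hp : p ≠ 2) (P : Sylow p G) (hna : ¬ IsMulCommutative (P : Subgroup G)) (hTI : Cfsg.IsTISubset ((P : Subgroup G) : Set G)) (hlt : (P : Subgroup G) < Subgroup.normalizer ((P : Subgroup G) : Set G)) (hC : ∀ k ∈ (P : Subgroup G), k ≠ 1 → Subgroup.centralizer ({k} : Set G) ≤ (P : Subgroup G)) [Fintype ↥(Subgroup.normalizer ((P : Subgroup G) : Set G))] (Z : Subgroup G) (hZ1 : Z ≠ ⊥) (hZP : ∀ z ∈ Z, z ∈ (P : Subgroup G) ∧ ∀ y ∈ (P : Subgroup G), z * y = y * z) (hZn : ∀ x ∈ Subgroup.normalizer ((P : Subgroup G) : Set G), ∀ z ∈ Z, x * z * x⁻¹ ∈ Z) : Cfsg.IsCoherent {χ : ↥(Subgroup.normalizer ((P : Subgroup G) : Set G)) → ℂ | Cfsg.IsIrrCharacter ↥(Subgroup.normalizer ((P : Subgroup G) : Set G)) χ ∧ ∃ z : ↥(Subgroup.normalizer ((P : Subgroup G) : Set G)), (z : G) ∈ Z ∧ χ z ≠ χ 1} {1}ᶜ (fun α => Cfsg.indFun (Subgroup.normalizer ((P : Subgroup G) : Set G)) α) := by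
  classical
  haveI : ((P : Subgroup G).subgroupOf (Subgroup.normalizer ((P : Subgroup G) : Set G))).Normal := Subgroup.normal_in_normalizer
  have hF := Cfsg.Agent.Helper5.TIFN.fpf (P : Subgroup G) hC
  have hpK' : IsPGroup p ↥((P : Subgroup G).subgroupOf (Subgroup.normalizer ((P : Subgroup G) : Set G))) :=
    P.isPGroup'.comap_subtype
  have hnil : Group.IsNilpotent ↥((P : Subgroup G).subgroupOf (Subgroup.normalizer ((P : Subgroup G) : Set G))) :=
    hpK'.isNilpotent
  have hK1 : (P : Subgroup G) ≠ ⊥ := by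
    intro h
    apply hZ1
    rw [eq_bot_iff]
    intro z hz
    have := (hZP z hz).1
    rw [h] at this
    exact this
  have hKodd : Odd (Nat.card ↥((P : Subgroup G).subgroupOf (Subgroup.normalizer ((P : Subgroup G) : Set G)))) := by
    obtain ⟨n, hn⟩ := hpK'.exists_card_eq
    rw [hn]
    exact ((Fact.out : p.Prime).odd_of_ne_two hp).pow
  have hna' : ¬ ∀ a ∈ (P : Subgroup G).subgroupOf (Subgroup.normalizer ((P : Subgroup G) : Set G)),
      ∀ b ∈ (P : Subgroup G).subgroupOf (Subgroup.normalizer ((P : Subgroup G) : Set G)), a * b = b * a := by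
    intro h
    apply hna
    refine ⟨⟨fun a b => Subtype.ext ?_⟩⟩
    have := h ⟨a, hlt.le a.2⟩ (Subgroup.mem_subgroupOf.2 a.2) ⟨b, hlt.le b.2⟩
      (Subgroup.mem_subgroupOf.2 b.2)
    have h2 := congrArg Subtype.val this
    simpa using h2
  have hodd : Odd (Nat.card ↥(Subgroup.normalizer ((P : Subgroup G) : Set G))) :=
    Cfsg.Agent.Helper8.FrobCoh.odd_of_not_comm _ hF hKodd hna'
  haveI : (Z.subgroupOf (Subgroup.normalizer ((P : Subgroup G) : Set G))).Normal := by
    refine ⟨fun z hz x => ?_⟩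
    rw [Subgroup.mem_subgroupOf] at hz ⊢
    exact hZn x x.2 z hz
  have hZ1' : Z.subgroupOf (Subgroup.normalizer ((P : Subgroup G) : Set G)) ≠ ⊥ := by
    intro h
    apply hZ1
    rw [Subgroup.subgroupOf_eq_bot] at h
    rw [eq_bot_iff]
    intro x hx
    have : x ∈ Z ⊓ Subgroup.normalizer ((P : Subgroup G) : Set G) := ⟨hx, hlt.le (hZP x hx).1⟩
    rw [disjoint_iff.1 h] at this
    exact this
  have hZK' : Z.subgroupOf (Subgroup.normalizer ((P : Subgroup G) : Set G)) ≤
      (P : Subgroup G).subgroupOf (Subgroup.normalizer ((P : Subgroup G) : Set G)) := by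
    intro z hz
    rw [Subgroup.mem_subgroupOf] at hz ⊢
    exact (hZP z hz).1
  have hZc' : ∀ z ∈ Z.subgroupOf (Subgroup.normalizer ((P : Subgroup G) : Set G)),
      ∀ k ∈ (P : Subgroup G).subgroupOf (Subgroup.normalizer ((P : Subgroup G) : Set G)), z * k = k * z := by
    intro z hz k hk
    rw [Subgroup.mem_subgroupOf] at hz hk
    exact Subtype.ext ((hZP z hz).2 k hk)
  obtain ⟨hset, hcoh⟩ := Cfsg.Agent.Helper8.FrobCoh.coherent_central (P : Subgroup G) hTI hlt hC hK1 hnil hodd
    (Z.subgroupOf (Subgroup.normalizer ((P : Subgroup G) : Set G))) hZ1' hZK' hZc'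
  rw [hset] at hcoh
  exact hcoh

end Cfsg.Agent.S1532
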