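import Mathlib
import Cfsg.Statements.S1536
import Cfsg.Agent.Lib.Helper24.CharBrauerPerm
import Cfsg.Agent.Lib.Helper24.CharConj

set_option autoImplicit false
open Cfsg

namespace Cfsg.Agent.S1536

open Cfsg.Agent.Helper24

/-- Let H be a normal subgroup of the finite group M whose order is coprime to its index. For x ∈ M: some non-principal irreducible character of H is unchanged under h ↦ θ(x h x⁻¹) if and only if some non-identity element of H commutes with x. -/
theorem result {M : Type*} [Group M] [Finite M] (H : Subgroup M) [hN : H.Normal] (hHall : Nat.Coprime (Nat.card H) H.index) (x : M) : (∃ θ : H → ℂ, Cfsg.IsIrrCharacter H θ ∧ θ ≠ (fun _ => 1) ∧ (fun h : H => θ ⟨x * h * x⁻¹, hN.conj_mem h h.2 x⟩) = θ) ↔ ∃ h ∈ H, h ≠ 1 ∧ x * h = h * x := by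
  classical
  haveI : Fintype H := Fintype.ofFinite H
  letI : Fintype (Cfsg.IrrCharacter H) := irrFintype
  -- the permutation of the irreducible characters and of the group
  have hconj : ∀ (χ : H → ℂ), (fun h : H => χ ⟨x * h * x⁻¹, hN.conj_mem h h.2 x⟩) =
      Helper24.conjFun H x⁻¹ χ := by
    intro χ
    ext h
    rw [conjFun_apply]
    congr 1
    apply Subtype.ext
    simp [MulAut.conjNormal_apply]
  let σ : Cfsg.IrrCharacter H → Cfsg.IrrCharacter H := fun χ =>
    ⟨Helper24.conjFun H x⁻¹ χ.1, isIrrCharacter_conjFun H x⁻¹ χ.2⟩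
  let τ : H ≃ H := (MulAut.conjNormal x⁻¹ : H ≃* H).toEquiv
  have hτ_apply : ∀ k : H, ((τ k : H) : M) = x⁻¹ * k * x := by
    intro k
    simp [τ, MulAut.conjNormal_apply]
  have hτ_conj : ∀ a b : H, IsConj a b → IsConj (τ a) (τ b) := by
    intro a b hab
    exact (MulAut.conjNormal x⁻¹ : H ≃* H).toMonoidHom.map_isConj hab
  have hστ : ∀ (χ : Cfsg.IrrCharacter H) (k : H), (σ χ : H → ℂ) (τ k) = (χ : H → ℂ) k := by
    intro χ k
    exact conjFun_conjNormal H x⁻¹ χ.1 k
  have hbrauer := brauer_permutation σ τ hτ_conj hστ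
  have hone : Cfsg.IsIrrCharacter H (fun _ : H => (1 : ℂ)) := isIrrCharacter_one
  let p1 : {χ : Cfsg.IrrCharacter H // σ χ = χ} :=
    ⟨⟨fun _ => 1, hone⟩, Subtype.ext (by ext k; rfl)⟩
  have hc1 : ∀ g : H, ConjClasses.mk g = ConjClasses.mk (1 : H) → ConjClasses.mk (τ g) =
      ConjClasses.mk (1 : H) := by
    intro g hg
    rw [ConjClasses.mk_eq_mk_iff_isConj, isConj_one_left] at hg
    subst hg
    have : τ 1 = 1 := map_one (MulAut.conjNormal x⁻¹ : H ≃* H)
    rw [this]
  let c1 : {c : ConjClasses H // ∀ g : H, ConjClasses.mk g = c → ConjClasses.mk (τ g) = c} :=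
    ⟨ConjClasses.mk 1, hc1⟩
  constructor
  · rintro ⟨θ, hθ, hθ1, hθfix⟩
    rw [hconj θ] at hθfix
    let pθ : {χ : Cfsg.IrrCharacter H // σ χ = χ} := ⟨⟨θ, hθ⟩, Subtype.ext hθfix⟩
    have hne : pθ ≠ p1 := by
      intro h
      apply hθ1
      exact congrArg (fun z => (z.1 : H → ℂ)) h
    have hnt : Nontrivial {χ : Cfsg.IrrCharacter H // σ χ = χ} := ⟨⟨pθ, p1, hne⟩⟩
    have h2 : 1 < Nat.card {χ : Cfsg.IrrCharacter H // σ χ = χ} :=
      Finite.one_lt_card_iff_nontrivial.2 hnt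
    rw [hbrauer] at h2
    haveI : Nontrivial {c : ConjClasses H // ∀ g : H, ConjClasses.mk g = c →
        ConjClasses.mk (τ g) = c} := Finite.one_lt_card_iff_nontrivial.1 h2
    obtain ⟨⟨c, hc⟩, hcne⟩ := exists_ne c1
    obtain ⟨k, rfl⟩ := ConjClasses.mk_surjective c
    have hk1 : k ≠ 1 := by
      intro h
      apply hcne
      apply Subtype.ext
      simp [c1, h]
    have hk := hc k rfl
    rw [ConjClasses.mk_eq_mk_iff_isConj, isConj_iff] at hk
    obtain ⟨a, ha⟩ := hk
    -- `a * τ k * a⁻¹ = k`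
    have ha' : (a : M) * (x⁻¹ * (k : M) * x) * (a : M)⁻¹ = (k : M) := by
      have := congrArg (Subtype.val : H → M) ha
      simpa [hτ_apply] using this
    by_contra hcon
    push Not at hcon
    -- the map `b ↦ b⁻¹ * (x⁻¹ * b * x)` is injective, hence surjective
    let f : H → H := fun b => b⁻¹ * ⟨x⁻¹ * b * x, by
      have := hN.conj_mem b b.2 x⁻¹
      simpa using this⟩
    have hf_val : ∀ b : H, ((f b : H) : M) = (b : M)⁻¹ * (x⁻¹ * b * x) := fun b => rfl
    have hinj : Function.Injective f := by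
      intro b c hbc
      have h1 : (b : M)⁻¹ * (x⁻¹ * b * x) = (c : M)⁻¹ * (x⁻¹ * c * x) := by
        rw [← hf_val, ← hf_val, hbc]
      have hcomm : x * ((b : M) * (c : M)⁻¹) = ((b : M) * (c : M)⁻¹) * x := by
        have h2 : (x⁻¹ * (b : M) * x) * (x⁻¹ * (c : M) * x)⁻¹ = (b : M) * (c : M)⁻¹ := by
          have : x⁻¹ * (b : M) * x = (b : M) * ((c : M)⁻¹ * (x⁻¹ * c * x)) := by
            rw [← h1]; group
          rw [this]; group
        have h3 : x⁻¹ * ((b : M) * (c : M)⁻¹) * x = (b : M) * (c : M)⁻¹ := by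
          calc x⁻¹ * ((b : M) * (c : M)⁻¹) * x
              = (x⁻¹ * (b : M) * x) * (x⁻¹ * (c : M) * x)⁻¹ := by group
            _ = (b : M) * (c : M)⁻¹ := h2
        calc x * ((b : M) * (c : M)⁻¹) = x * (x⁻¹ * ((b : M) * (c : M)⁻¹) * x) := by rw [h3]
          _ = ((b : M) * (c : M)⁻¹) * x := by group
      by_contra hbc'
      have hne1 : (b : M) * (c : M)⁻¹ ≠ 1 := by
        intro h
        apply hbc'
        apply Subtype.ext
        exact mul_inv_eq_one.1 h
      exact hcon _ (H.mul_mem b.2 (H.inv_mem c.2)) hne1 hcomm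
    have hsurj : Function.Surjective f := Finite.injective_iff_surjective.1 hinj
    obtain ⟨b, hb⟩ := hsurj a
    have hb' : (a : M) = (b : M)⁻¹ * (x⁻¹ * b * x) := by rw [← hf_val, hb]
    -- then `x` commutes with `b * k * b⁻¹`
    have hcomm : x * ((b : M) * (k : M) * (b : M)⁻¹) = ((b : M) * (k : M) * (b : M)⁻¹) * x := by
      rw [hb'] at ha'
      have h4 : x⁻¹ * ((b : M) * (k : M) * (b : M)⁻¹) * x = (b : M) * (k : M) * (b : M)⁻¹ := by
        calc x⁻¹ * ((b : M) * (k : M) * (b : M)⁻¹) * x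
            = (b : M) * (((b : M)⁻¹ * (x⁻¹ * b * x)) * (x⁻¹ * (k : M) * x) *
                ((b : M)⁻¹ * (x⁻¹ * b * x))⁻¹) * (b : M)⁻¹ := by group
          _ = (b : M) * (k : M) * (b : M)⁻¹ := by rw [ha']
      calc x * ((b : M) * (k : M) * (b : M)⁻¹)
          = x * (x⁻¹ * ((b : M) * (k : M) * (b : M)⁻¹) * x) := by rw [h4]
        _ = ((b : M) * (k : M) * (b : M)⁻¹) * x := by group
    have hne1 : (b : M) * (k : M) * (b : M)⁻¹ ≠ 1 := by
      intro h
      apply hk1
      apply Subtype.ext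
      have : (k : M) = (b : M)⁻¹ * ((b : M) * (k : M) * (b : M)⁻¹) * (b : M) := by group
      rw [this, h]; simp
    exact hcon _ (H.mul_mem (H.mul_mem b.2 k.2) (H.inv_mem b.2)) hne1 hcomm
  · rintro ⟨h, hh, hh1, hxh⟩
    have hτh : τ ⟨h, hh⟩ = ⟨h, hh⟩ := by
      apply Subtype.ext
      rw [hτ_apply]
      show x⁻¹ * h * x = h
      rw [mul_assoc, ← hxh]; group
    have hch : ∀ g : H, ConjClasses.mk g = ConjClasses.mk (⟨h, hh⟩ : H) → ConjClasses.mk (τ g) =
        ConjClasses.mk (⟨h, hh⟩ : H) := by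
      intro g hg
      rw [ConjClasses.mk_eq_mk_iff_isConj] at hg ⊢
      have := hτ_conj _ _ hg
      rwa [hτh] at this
    let ch : {c : ConjClasses H // ∀ g : H, ConjClasses.mk g = c → ConjClasses.mk (τ g) = c} :=
      ⟨ConjClasses.mk ⟨h, hh⟩, hch⟩
    have hne : ch ≠ c1 := by
      intro heq
      have h1 : ConjClasses.mk (⟨h, hh⟩ : H) = ConjClasses.mk (1 : H) :=
        congrArg Subtype.val heq
      rw [ConjClasses.mk_eq_mk_iff_isConj, isConj_one_left] at h1
      exact hh1 (congrArg Subtype.val h1)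
    have hnt : Nontrivial {c : ConjClasses H // ∀ g : H, ConjClasses.mk g = c →
        ConjClasses.mk (τ g) = c} := ⟨⟨ch, c1, hne⟩⟩
    have h2 := Finite.one_lt_card_iff_nontrivial.2 hnt
    rw [← hbrauer] at h2
    haveI : Nontrivial {χ : Cfsg.IrrCharacter H // σ χ = χ} :=
      Finite.one_lt_card_iff_nontrivial.1 h2
    obtain ⟨⟨⟨θ, hθ⟩, hθfix⟩, hθne⟩ := exists_ne p1
    refine ⟨θ, hθ, ?_, ?_⟩
    · intro h1
      apply hθne
      apply Subtype.ext
      apply Subtype.ext
      exact h1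
    · rw [hconj θ]
      exact congrArg Subtype.val hθfix

end Cfsg.Agent.S1536
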