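import Mathlib
import Cfsg.Statements.S1546

set_option autoImplicit false
open Cfsg

namespace Cfsg.Agent.S1546

open Finset

theorem cast_eq_one_of_mod {p m : ℕ} (_hm : 1 < m) (h : p % m = 1) : ((p : ℕ) : ZMod m) = 1 := by
  rw [← ZMod.natCast_mod, h, Nat.cast_one]

theorem mod_eq_one_of_cast {p m : ℕ} (hm : 1 < m) (h : ((p : ℕ) : ZMod m) = 1) : p % m = 1 := by
  have h1 : ((p : ℕ) : ZMod m) = ((1 : ℕ) : ZMod m) := by rw [h, Nat.cast_one]
  rw [ZMod.natCast_eq_natCast_iff'] at h1
  rw [h1, Nat.mod_eq_of_lt hm]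

/-- Let p and q be odd primes and N = (p ^ q − 1) / (p − 1) = 1 + p + ⋯ + p^(q−1). Then N is odd; if p ≡ 1 (mod q) then q ∣ N; and if p is not ≡ 1 (mod q) then N is coprime to p − 1 and every divisor of N is ≡ 1 (mod q). -/
theorem result (p q : ℕ) (hp : p.Prime) (hq : q.Prime) (hp2 : p ≠ 2) (hq2 : q ≠ 2) : Odd ((p ^ q - 1) / (p - 1)) ∧ (p % q = 1 → q ∣ (p ^ q - 1) / (p - 1)) ∧ (p % q ≠ 1 → Nat.Coprime ((p ^ q - 1) / (p - 1)) (p - 1) ∧ ∀ x : ℕ, x ∣ (p ^ q - 1) / (p - 1) → x % q = 1) := by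
  have hN : (p ^ q - 1) / (p - 1) = ∑ i ∈ range q, p ^ i := (Nat.geomSum_eq hp.two_le q).symm
  rw [hN]
  set N := ∑ i ∈ range q, p ^ i with hNdef
  have cast : ∀ m : ℕ, ((N : ℕ) : ZMod m) = ∑ i ∈ range q, ((p : ℕ) : ZMod m) ^ i := by
    intro m
    rw [hNdef]
    push_cast
    rfl
  have cast_one : ∀ m : ℕ, ((p : ℕ) : ZMod m) = 1 → ((N : ℕ) : ZMod m) = ((q : ℕ) : ZMod m) := by
    intro m h
    rw [cast, h]
    simp
  have hq1 : 1 < q := hq.one_lt
  have hNpos : 0 < N := by
    rw [hNdef]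
    have : p ^ 0 ≤ ∑ i ∈ range q, p ^ i :=
      Finset.single_le_sum (f := fun i => p ^ i) (fun i _ => Nat.zero_le _) (mem_range.mpr hq.pos)
    simp only [pow_zero] at this
    omega
  refine ⟨?_, ?_, ?_⟩
  · rw [← ZMod.natCast_eq_one_iff_odd]
    have hpodd : ((p : ℕ) : ZMod 2) = 1 := ZMod.natCast_eq_one_iff_odd.mpr (hp.odd_of_ne_two hp2)
    rw [cast_one 2 hpodd]
    exact ZMod.natCast_eq_one_iff_odd.mpr (hq.odd_of_ne_two hq2)
  · intro h
    rw [← ZMod.natCast_eq_zero_iff, cast_one q (cast_eq_one_of_mod hq1 h)]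
    exact ZMod.natCast_self q
  · intro hne
    -- Lemma X
    have X : ∀ r : ℕ, r.Prime → r ∣ N → ((p : ℕ) : ZMod r) = 1 → False := by
      intro r hr hrN h
      have h0 : ((N : ℕ) : ZMod r) = 0 := (ZMod.natCast_eq_zero_iff N r).mpr hrN
      rw [cast_one r h, ZMod.natCast_eq_zero_iff] at h0
      have hrq : r = q := (Nat.prime_dvd_prime_iff_eq hr hq).mp h0
      subst hrq
      exact hne (mod_eq_one_of_cast hq1 h)
    have primes : ∀ r : ℕ, r.Prime → r ∣ N → r % q = 1 := by
      intro r hr hrN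
      have : Fact r.Prime := ⟨hr⟩
      have h0 : ((N : ℕ) : ZMod r) = 0 := (ZMod.natCast_eq_zero_iff N r).mpr hrN
      have hpow : ((p : ℕ) : ZMod r) ^ q = 1 := by
        have := geom_sum_mul ((p : ℕ) : ZMod r) q
        rw [← cast, h0, zero_mul] at this
        exact (sub_eq_zero.mp this.symm)
      have hord : orderOf ((p : ℕ) : ZMod r) ∣ q := orderOf_dvd_of_pow_eq_one hpow
      have hord1 : orderOf ((p : ℕ) : ZMod r) ≠ 1 := by
        intro h
        rw [orderOf_eq_one_iff] at h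
        exact X r hr hrN h
      have hordq : orderOf ((p : ℕ) : ZMod r) = q := by
        rcases (Nat.dvd_prime hq).mp hord with h | h
        · exact absurd h hord1
        · exact h
      have hne0 : ((p : ℕ) : ZMod r) ≠ 0 := by
        intro h
        rw [h, zero_pow hq.ne_zero] at hpow
        exact zero_ne_one hpow
      have hdvd : q ∣ r - 1 := by
        rw [← hordq]
        exact ZMod.orderOf_dvd_card_sub_one hne0
      obtain ⟨k, hk⟩ := hdvd
      have hr1 : 1 ≤ r := hr.one_lt.le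
      have : r = q * k + 1 := by omega
      rw [this, Nat.mul_add_mod, Nat.mod_eq_of_lt hq1]
    refine ⟨?_, ?_⟩
    · by_contra h
      obtain ⟨r, hr, hrN, hrp⟩ := Nat.Prime.not_coprime_iff_dvd.mp h
      apply X r hr hrN
      have hp1 : 1 ≤ p := hp.one_lt.le
      have : p = (p - 1) + 1 := by omega
      rw [this]
      push_cast
      rw [(ZMod.natCast_eq_zero_iff (p - 1) r).mpr hrp, zero_add]
    · intro x
      induction x using Nat.strong_induction_on with
      | _ x ih =>
        intro hx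
        by_cases hx1 : x = 1
        · rw [hx1, Nat.mod_eq_of_lt hq1]
        · obtain ⟨r, hr, hrx⟩ := Nat.exists_prime_and_dvd hx1
          obtain ⟨y, rfl⟩ := hrx
          have hy0 : y ≠ 0 := by
            rintro rfl
            simp at hx
            omega
          have hylt : y < r * y := by
            have := hr.one_lt
            nlinarith [Nat.pos_of_ne_zero hy0]
          have hyN : y ∣ N := (Dvd.intro_left r rfl).trans hx
          have hrN : r ∣ N := (Dvd.intro y rfl).trans hx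
          have h1 := ih y hylt hyN
          have h2 := primes r hr hrN
          rw [Nat.mul_mod, h1, h2, Nat.mod_eq_of_lt hq1]

end Cfsg.Agent.S1546
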