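import Mathlib
import Cfsg.Statements.S1555
import Cfsg.Agent.Lib.Helper29.M24Octad

set_option autoImplicit false
open scoped Pointwise
open Cfsg

namespace Cfsg.Agent.S1555

open Cfsg.Agent.Helper27 Cfsg.Agent.Helper29 Cfsg.Agent.Helper29.M24

theorem count2 : countS (fun m => pop24 m == 8 && (8536111 &&& m == 8388609)) 4096 = 16 := by
  decide +kernel

theorem count4 : countS (fun m => pop24 m == 8 && (8536111 &&& m == 8388615)) 4096 = 4 := by
  decide +kernel

/-- Bottom row of the Leech triangle: an octad is met in a prescribed pair of its points by exactly 16 octads and in a prescribed 4-subset by exactly 4 octads. -/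
theorem result (o : Finset Cfsg.GolayPt) (ho : o ∈ Cfsg.octads) (s : Finset Cfsg.GolayPt) (hs : s ⊆ o) : (s.card = 2 → {o' : Finset Cfsg.GolayPt | o' ∈ Cfsg.octads ∧ o ∩ o' = s}.ncard = 16) ∧ (s.card = 4 → {o' : Finset Cfsg.GolayPt | o' ∈ Cfsg.octads ∧ o ∩ o' = s}.ncard = 4) := by
  constructor
  · intro hc
    obtain ⟨a, b, hab, rfl⟩ := Finset.card_eq_two.1 hc
    have ha : a ∈ o := hs (by simp)
    have hb : b ∈ o := hs (by simp)
    obtain ⟨g0, hg0, hg0e, hg0x⟩ := exists_map_octad_emb (by norm_num : 2 ≤ 5) o ho (emb2 a b hab)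
      (by intro i; fin_cases i; exact ha; exact hb)
    have h0 : g0 (bp 0) = a := hg0x 0
    have h1 : g0 (bp 1) = b := hg0x 1
    have hse : g0 • maskSet 8388609 = {a, b} := by
      rw [maskSet_bp01, Finset.smul_finset_insert, Finset.smul_finset_singleton,
        Equiv.Perm.smul_def, Equiv.Perm.smul_def, h0, h1]
    have := ncard_inter_eq g0 hg0 8 8536111 8388609 (by norm_num)
    rw [← oct0_eq, hg0e, hse, count2] at this
    exact this
  · intro hc
    obtain ⟨a, b, c, d, hab, hac, had, hbc, hbd, hcd, rfl⟩ := Finset.card_eq_four.1 hc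
    have ha : a ∈ o := hs (by simp)
    have hb : b ∈ o := hs (by simp)
    have hc' : c ∈ o := hs (by simp)
    have hd : d ∈ o := hs (by simp)
    obtain ⟨g0, hg0, hg0e, hg0x⟩ := exists_map_octad_emb (by norm_num : 4 ≤ 5) o ho
      (emb4 a b c d hab hac had hbc hbd hcd)
      (by intro i; fin_cases i; exact ha; exact hb; exact hc'; exact hd)
    have h0 : g0 (bp 0) = a := hg0x 0
    have h1 : g0 (bp 1) = b := hg0x 1
    have h2 : g0 (bp 2) = c := hg0x 2
    have h3 : g0 (bp 3) = d := hg0x 3
    have hse : g0 • maskSet 8388615 = {a, b, c, d} := by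
      rw [maskSet_bp0123, Finset.smul_finset_insert, Finset.smul_finset_insert,
        Finset.smul_finset_insert, Finset.smul_finset_singleton,
        Equiv.Perm.smul_def, Equiv.Perm.smul_def, Equiv.Perm.smul_def, Equiv.Perm.smul_def,
        h0, h1, h2, h3]
    have := ncard_inter_eq g0 hg0 8 8536111 8388615 (by norm_num)
    rw [← oct0_eq, hg0e, hse, count4] at this
    exact this

end Cfsg.Agent.S1555
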