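import Mathlib
import Cfsg.Statements.S1557
import Cfsg.Agent.Lib.Helper29.M24TrioObj

set_option autoImplicit false
open scoped Pointwise
open Cfsg

namespace Cfsg.Agent.S1557

open Cfsg.Agent.Helper27 Cfsg.Agent.Helper29 Cfsg.Agent.Helper29.M24

set_option maxRecDepth 100000 in
theorem count_all : countN (fun _ => true && true) 3795 = 3795 := by decide +kernel

/-- The complement of the union of two disjoint octads is an octad, and the code has exactly 3795 trios of pairwise disjoint octads. -/
theorem result : (∀ o o' : Finset Cfsg.GolayPt, o ∈ Cfsg.octads → o' ∈ Cfsg.octads → Disjoint o o' → (o ∪ o')ᶜ ∈ Cfsg.octads) ∧ Cfsg.trios.ncard = 3795 := by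
  constructor
  · intro o o' ho ho' hd
    exact compl_union_octad ho ho' hd
  · have := ncard_family Cfsg.trios (fun i => semT (trioAt i)) 3795 (fun _ => true)
      (fun z => mem_trios_iff_at z) trio_hinj
      (fun _ => True) (fun _ => true) (fun i _ _ => by simp)
    simp only [and_true] at this
    rw [show {z | z ∈ Cfsg.trios} = Cfsg.trios from rfl] at this
    rw [this]
    exact count_all

end Cfsg.Agent.S1557
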