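import Mathlib
import Cfsg.Statements.S1558
import Cfsg.Agent.Lib.Helper29.M24TrioLc
import Cfsg.Agent.Lib.Helper29.M24Conj
import Cfsg.Agent.S1557

set_option autoImplicit false
open scoped Pointwise
open Cfsg

namespace Cfsg.Agent.S1558

open Cfsg.Agent.Helper27 Cfsg.Agent.Helper29 Cfsg.Agent.Helper29.M24 Cfsg.Agent.Helper29.TrioN
open Cfsg.Agent.Helper29.TrioL

/-- transfer of the structure along an isomorphism -/
theorem transfer {A B X : Type*} [Group A] [Group B] [Group X] (e : A ≃* B)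
    (h : ∃ (N : Subgroup A) (_ : N.Normal), Nat.card N = 64 ∧ (∀ x ∈ N, x * x = 1) ∧
      Nonempty (A ⧸ N ≃* X)) :
    ∃ (N : Subgroup B) (_ : N.Normal), Nat.card N = 64 ∧ (∀ x ∈ N, x * x = 1) ∧
      Nonempty (B ⧸ N ≃* X) := by
  obtain ⟨N, hN, hc, hsq, ⟨q⟩⟩ := h
  have hN' : (N.map e.toMonoidHom).Normal := Subgroup.Normal.map hN _ e.surjective
  refine ⟨N.map e.toMonoidHom, hN', ?_, ?_, ⟨?_⟩⟩
  · rw [← hc]
    exact Nat.card_congr (N.equivMapOfInjective e.toMonoidHom e.injective).symm.toEquiv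
  · rintro x ⟨n, hn, rfl⟩
    show e n * e n = 1
    rw [← map_mul, hsq n hn, map_one]
  · exact (QuotientGroup.congr N (N.map e.toMonoidHom) e rfl).symm.trans q

theorem card_stab (T : Finset (Finset GolayPt)) (hT : T ∈ Cfsg.trios) :
    Nat.card (MulAction.stabilizer Cfsg.M24 T) = 64512 := by
  have h1 : Nat.card (MulAction.orbit Cfsg.M24 T) * Nat.card (MulAction.stabilizer Cfsg.M24 T) =
      244823040 := by
    rw [← Nat.card_prod, Nat.card_congr (MulAction.orbitProdStabilizerEquivGroup Cfsg.M24 T),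
      card_M24]
  have h2 : MulAction.orbit Cfsg.M24 T = Cfsg.trios := by
    ext T'
    constructor
    · rintro ⟨g, rfl⟩
      exact smul_mem_trios g.2 hT
    · intro hT'
      obtain ⟨g0, hg0, e0⟩ := exists_map_trio T hT
      obtain ⟨g1, hg1, e1⟩ := exists_map_trio T' hT'
      refine ⟨⟨g1 * g0⁻¹, Subgroup.mul_mem _ hg1 (Subgroup.inv_mem _ hg0)⟩, ?_⟩
      show (g1 * g0⁻¹) • T = T'
      rw [e0, e1, mul_smul, inv_smul_smul]
  rw [Nat.card_coe_set_eq, h2, Cfsg.Agent.S1557.result.2] at h1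
  omega

/-- conjugation identifies the stabilizer of a trio with the stabilizer of the base trio -/
noncomputable def cIso (g0 : Equiv.Perm GolayPt) (hg0 : g0 ∈ Cfsg.M24) :
    ↥(MulAction.stabilizer Cfsg.M24 (g0 • T0)) ≃* ↥K0 :=
  conjEquivGen g0 _ K0
    (fun y hy => Subgroup.mul_mem _ (Subgroup.mul_mem _ hg0 ((mem_K0 y).1 hy).1)
      (Subgroup.inv_mem _ hg0))
    (fun x => by
      rw [mem_K0, conj_mem_M24_iff g0 hg0, conj_smul_iff]
      constructor
      · intro h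
        exact ⟨x.2, MulAction.mem_stabilizer_iff.1 h⟩
      · intro h
        exact MulAction.mem_stabilizer_iff.2 h.2)

theorem cIso_symm_coe (g0 : Equiv.Perm GolayPt) (hg0 : g0 ∈ Cfsg.M24) (y : ↥K0) :
    ((((cIso g0 hg0).symm y : ↥(MulAction.stabilizer Cfsg.M24 (g0 • T0))) : ↥Cfsg.M24) :
      Equiv.Perm GolayPt) = g0 * (y : Equiv.Perm GolayPt) * g0⁻¹ := rfl

theorem card_G : Nat.card (G3 × Equiv.Perm (Fin 3)) = 1008 := by
  rw [Nat.card_prod, Matrix.card_GL_field, Nat.card_perm]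
  simp [Fin.prod_univ_three, Nat.factorial]

theorem K0_struct (hcard : Nat.card ↥K0 = 64512) :
    ∃ (N : Subgroup ↥K0) (_ : N.Normal), Nat.card N = 64 ∧ (∀ x ∈ N, x * x = 1) ∧
      Nonempty (↥K0 ⧸ N ≃* G3 × Equiv.Perm (Fin 3)) := by
  have hN : (N0.subgroupOf K0).Normal := by
    constructor
    intro n hn h
    rw [Subgroup.mem_subgroupOf] at hn ⊢
    exact N0_conj h.1 n.1 h.2 hn
  have hcN : Nat.card (N0.subgroupOf K0) = 64 := by
    rw [Nat.card_congr (Subgroup.subgroupOfEquivOfLe N0_le_K0).toEquiv, card_N0]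
  have hsq : ∀ x ∈ N0.subgroupOf K0, x * x = 1 := fun x hx =>
    Subtype.ext (N0_sq x.1 (Subgroup.mem_subgroupOf.1 hx))
  have hinj : Function.Injective ((QuotientGroup.mk' (N0.subgroupOf K0)).comp PhiHom) := by
    rw [injective_iff_map_eq_one]
    intro x hx
    have h1 : PhiHom x ∈ N0.subgroupOf K0 := (QuotientGroup.eq_one_iff _).1 hx
    exact Phi_inj x (Subgroup.mem_subgroupOf.1 h1)
  have hcardQ : Nat.card (↥K0 ⧸ N0.subgroupOf K0) = 1008 := by
    have := Subgroup.card_eq_card_quotient_mul_card_subgroup (N0.subgroupOf K0)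
    rw [hcard, hcN] at this
    omega
  have hbij : Function.Bijective ((QuotientGroup.mk' (N0.subgroupOf K0)).comp PhiHom) :=
    hinj.bijective_of_nat_card_le (by rw [hcardQ, card_G])
  exact ⟨N0.subgroupOf K0, hN, hcN, hsq, ⟨(MulEquiv.ofBijective _ hbij).symm⟩⟩

theorem mkO_mem (i : Fin 3) : mkO i ∈ trioL0 := by
  revert i
  decide

theorem mkO_inj : ∀ i j : Fin 3, mkO i = mkO j → i = j := by decide

theorem mkO_surj : ∀ m ∈ trioL0, ∃ i : Fin 3, mkO i = m := by decide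

theorem part1 (g0 : Equiv.Perm GolayPt) (hg0 : g0 ∈ Cfsg.M24) (e : Equiv.Perm ↥(g0 • T0)) :
    ∃ g ∈ MulAction.stabilizer Cfsg.M24 (g0 • T0), ∀ o : ↥(g0 • T0),
      (g : Equiv.Perm GolayPt) • (o : Finset GolayPt) = ((e o : ↥(g0 • T0)) : Finset GolayPt) := by
  have hmem : ∀ i : Fin 3, g0 • maskSet (mkO i) ∈ g0 • T0 := fun i =>
    Finset.smul_mem_smul_finset ((mem_famSet _ _).2 ⟨mkO i, mkO_mem i, rfl⟩)
  have hbij : Function.Bijective (fun i : Fin 3 => (⟨g0 • maskSet (mkO i), hmem i⟩ : ↥(g0 • T0))) := by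
    constructor
    · intro i j hij
      have h1 : g0 • maskSet (mkO i) = g0 • maskSet (mkO j) := congrArg Subtype.val hij
      have h2 : maskSet (mkO i) = maskSet (mkO j) := MulAction.injective g0 h1
      exact mkO_inj i j (maskSet_inj (trioL0_lt _ (mkO_mem i)) (trioL0_lt _ (mkO_mem j)) h2)
    · rintro ⟨o, ho⟩
      obtain ⟨t, ht, rfl⟩ := Finset.mem_smul_finset.1 ho
      obtain ⟨m, hm, rfl⟩ := (mem_famSet _ _).1 ht
      obtain ⟨i, rfl⟩ := mkO_surj m hm
      exact ⟨i, rfl⟩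
  let E : Fin 3 ≃ ↥(g0 • T0) := Equiv.ofBijective _ hbij
  have hE : ∀ i : Fin 3, ((E i : ↥(g0 • T0)) : Finset GolayPt) = g0 • maskSet (mkO i) := fun i => rfl
  let π : Equiv.Perm (Fin 3) := (E.trans e).trans E.symm
  have hπ : ∀ i : Fin 3, E (π i) = e (E i) := fun i => E.apply_symm_apply _
  refine ⟨(cIso g0 hg0).symm (phi2Hom π), ((cIso g0 hg0).symm (phi2Hom π)).2, ?_⟩
  intro o
  obtain ⟨i, rfl⟩ := E.surjective o
  rw [cIso_symm_coe, ← hπ, hE, hE]
  show (g0 * phi2 π * g0⁻¹) • g0 • maskSet (mkO i) = g0 • maskSet (mkO (π i))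
  rw [mul_smul, mul_smul, inv_smul_smul, phi2_smul]

/-- Structure of a trio stabiliser: every permutation of the three octads is induced, and there is a normal subgroup of order 64 of elements squaring to the identity whose quotient is isomorphic to the product of GL(3, 2) with the symmetric group of degree 3. -/
theorem result (T : Finset (Finset Cfsg.GolayPt)) (hT : T ∈ Cfsg.trios) : (∀ e : Equiv.Perm ↥T, ∃ g ∈ MulAction.stabilizer Cfsg.M24 T, ∀ o : ↥T, (g : Equiv.Perm Cfsg.GolayPt) • (o : Finset Cfsg.GolayPt) = ((e o : ↥T) : Finset Cfsg.GolayPt)) ∧ ∃ (N : Subgroup ↥(MulAction.stabilizer Cfsg.M24 T)) (_ : N.Normal), Nat.card N = 64 ∧ (∀ x ∈ N, x * x = 1) ∧ Nonempty (↥(MulAction.stabilizer Cfsg.M24 T) ⧸ N ≃* GL (Fin 3) (ZMod 2) × Equiv.Perm (Fin 3)) := by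
  obtain ⟨g0, hg0, rfl⟩ := exists_map_trio T hT
  rw [trio0_eq]
  have hT' : g0 • T0 ∈ Cfsg.trios := by
    have := hT
    rwa [trio0_eq] at this
  refine ⟨part1 g0 hg0, ?_⟩
  have hcard : Nat.card ↥K0 = 64512 := by
    rw [← Nat.card_congr (cIso g0 hg0).toEquiv]
    exact card_stab _ hT'
  exact transfer (cIso g0 hg0).symm (K0_struct hcard)

end Cfsg.Agent.S1558
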