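import Mathlib
import Cfsg.Statements.S1560
import Cfsg.Agent.Lib.Helper29.M24Tree

set_option autoImplicit false
open scoped Pointwise
open Cfsg

namespace Cfsg.Agent.S1560

open Cfsg.Agent.Helper29.M24 Cfsg.Agent.Helper29 Cfsg.Agent.Helper27
open Cfsg.Agent.S0358 (idx)

def PP (k : ℕ) (m : ℕ) : Bool := pop24 m == 12 && pop24 (340831 &&& m) == k

set_option maxRecDepth 1000000 in
theorem counts : countS (PP 4) 4096 = 495 ∧ countS (PP 6) 4096 = 1584 ∧ countS (PP 8) 4096 = 495 := by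
  decide +kernel

set_option maxRecDepth 1000000 in
theorem sizes : (List.range 4096).all (fun n => strictN (cw n) fun m =>
    !(pop24 m == 12) || n == 1 || strictN (pop24 (340831 &&& m)) fun k =>
      k == 0 || k == 4 || k == 6 || k == 8) = true := by
  decide +kernel

theorem cw1 : cw 1 = 340831 := by decide +kernel

theorem dod0_eq : dod0 = maskSet 340831 := by
  unfold dod0
  rw [cw1]

theorem base_set (k : ℕ) :
    {d' : Finset Cfsg.GolayPt | d' ∈ Cfsg.dodecads ∧ (dod0 ∩ d').card = k} =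
      {s | ∃ n < 4096, PP k (cw n) = true ∧ s = maskSet (cw n)} := by
  ext s
  simp only [Set.mem_ofPred_eq]
  rw [mem_dodecads_iff]
  constructor
  · rintro ⟨⟨n, hn, h12, rfl⟩, hk⟩
    refine ⟨n, hn, ?_, rfl⟩
    rw [dod0_eq, inter_maskSet_card] at hk
    unfold PP
    simp only [Bool.and_eq_true, beq_iff_eq]
    exact ⟨h12, hk⟩
  · rintro ⟨n, hn, hP, rfl⟩
    unfold PP at hP
    simp only [Bool.and_eq_true, beq_iff_eq] at hP
    refine ⟨⟨n, hn, hP.1, rfl⟩, ?_⟩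
    rw [dod0_eq, inter_maskSet_card]
    exact hP.2

theorem transport_set (g0 : Equiv.Perm Cfsg.GolayPt) (hg0 : g0 ∈ Cfsg.M24)
    (d0 d : Finset Cfsg.GolayPt) (h1 : g0 • d0 = d) (k : ℕ) :
    {d' : Finset Cfsg.GolayPt | d' ∈ Cfsg.dodecads ∧ (d ∩ d').card = k} =
      (fun s => g0 • s) ''
        {d' : Finset Cfsg.GolayPt | d' ∈ Cfsg.dodecads ∧ (d0 ∩ d').card = k} := by
  ext d'
  constructor
  · rintro ⟨hd', hk⟩
    refine ⟨g0⁻¹ • d', ⟨smul_mem_dodecads (Subgroup.inv_mem _ hg0) hd', ?_⟩, smul_inv_smul g0 d'⟩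
    rw [← hk, ← Finset.card_smul_finset g0 (d0 ∩ g0⁻¹ • d'), Finset.smul_finset_inter,
      smul_inv_smul, h1]
  · rintro ⟨e, ⟨he, hk⟩, rfl⟩
    refine ⟨smul_mem_dodecads hg0 he, ?_⟩
    show (d ∩ g0 • e).card = k
    rw [← h1, ← Finset.smul_finset_inter, Finset.card_smul_finset]
    exact hk

/-- Intersection numbers of dodecads: a dodecad meets every other dodecad in 0, 4, 6 or 8 points, meeting 495 of them in 4 points, 1584 in 6 points and 495 in 8 points. -/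
theorem result (d : Finset Cfsg.GolayPt) (hd : d ∈ Cfsg.dodecads) : (∀ d' ∈ Cfsg.dodecads, d' ≠ d → (d ∩ d').card = 0 ∨ (d ∩ d').card = 4 ∨ (d ∩ d').card = 6 ∨ (d ∩ d').card = 8) ∧ {d' : Finset Cfsg.GolayPt | d' ∈ Cfsg.dodecads ∧ (d ∩ d').card = 4}.ncard = 495 ∧ {d' : Finset Cfsg.GolayPt | d' ∈ Cfsg.dodecads ∧ (d ∩ d').card = 6}.ncard = 1584 ∧ {d' : Finset Cfsg.GolayPt | d' ∈ Cfsg.dodecads ∧ (d ∩ d').card = 8}.ncard = 495 := by
  obtain ⟨g0, hg0e⟩ := dodecad_transitive dod0 d dod0_mem hd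
  rw [smul_finset_def'] at hg0e
  have hg0 : (g0 : Equiv.Perm Cfsg.GolayPt) ∈ Cfsg.M24 := g0.2
  have hi : (g0 : Equiv.Perm Cfsg.GolayPt)⁻¹ ∈ Cfsg.M24 := Subgroup.inv_mem _ hg0
  have hcount : ∀ k, {d' : Finset Cfsg.GolayPt | d' ∈ Cfsg.dodecads ∧ (d ∩ d').card = k}.ncard
      = countS (PP k) 4096 := by
    intro k
    rw [transport_set _ hg0 dod0 d hg0e k, ncard_smul_image, base_set, ncard_codeS]
  refine ⟨?_, ?_, ?_, ?_⟩
  · intro d' hd' hne
    obtain ⟨n, hn, h12n, en⟩ := (mem_dodecads_iff _).1 (smul_mem_dodecads hi hd')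
    have hint : (dod0 ∩ (g0 : Equiv.Perm Cfsg.GolayPt)⁻¹ • d').card = (d ∩ d').card := by
      rw [← Finset.card_smul_finset (g0 : Equiv.Perm Cfsg.GolayPt)
        (dod0 ∩ (g0 : Equiv.Perm Cfsg.GolayPt)⁻¹ • d'), Finset.smul_finset_inter, smul_inv_smul,
        hg0e]
    rw [en, dod0_eq, inter_maskSet_card] at hint
    have hn1 : n ≠ 1 := by
      rintro rfl
      apply hne
      rw [← smul_inv_smul (g0 : Equiv.Perm Cfsg.GolayPt) d', en, ← hg0e]
      rfl
    have := sizes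
    rw [List.all_eq_true] at this
    have h1 := this n (List.mem_range.2 hn)
    rw [strictN_eq, strictN_eq, h12n, hint] at h1
    simp only [beq_self_eq_true, Bool.not_true, Bool.false_or, Bool.or_eq_true, beq_iff_eq] at h1
    rcases h1 with h1 | (((h1 | h1) | h1) | h1)
    · exact absurd h1 hn1
    · exact Or.inl h1
    · exact Or.inr (Or.inl h1)
    · exact Or.inr (Or.inr (Or.inl h1))
    · exact Or.inr (Or.inr (Or.inr h1))
  · rw [hcount, counts.1]
  · rw [hcount, counts.2.1]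
  · rw [hcount, counts.2.2]

end Cfsg.Agent.S1560
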