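import Mathlib
import Cfsg.Statements.S1562
import Cfsg.Agent.Lib.Helper29.M24Triples

set_option autoImplicit false
open scoped Pointwise
open Cfsg

namespace Cfsg.Agent.S1562

open Cfsg.Agent.Helper29.M24 Cfsg.Agent.Helper29 Cfsg.Agent.Helper27
open Cfsg.Agent.S0358 (idx)

theorem inter_le (T U : Finset Cfsg.GolayPt) (hT : T.card = 3) : (T ∩ U).card ≤ 3 := by
  rw [← hT]
  exact Finset.card_le_card Finset.inter_subset_left

theorem label_zero_iff (T U : Finset Cfsg.GolayPt) (hT : T.card = 3) :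
    label3 T U = 0 ↔ Disjoint T U ∧ Cond3 T U := by
  unfold label3
  rw [Finset.disjoint_iff_inter_eq_empty, ← Finset.card_eq_zero]
  by_cases h0 : (T ∩ U).card = 0
  · rw [if_pos h0]
    by_cases hc : Cond3 T U
    · rw [if_pos hc]
      simp [h0, hc]
    · rw [if_neg hc]
      simp [hc]
  · rw [if_neg h0]
    simp [h0]

theorem label_four_iff (T U : Finset Cfsg.GolayPt) (hT : T.card = 3) :
    label3 T U = 4 ↔ Disjoint T U ∧ ¬ Cond3 T U := by
  have hle := inter_le T U hT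
  unfold label3
  rw [Finset.disjoint_iff_inter_eq_empty, ← Finset.card_eq_zero]
  by_cases h0 : (T ∩ U).card = 0
  · rw [if_pos h0]
    by_cases hc : Cond3 T U
    · rw [if_pos hc]
      simp [hc]
    · rw [if_neg hc]
      simp [h0, hc]
  · rw [if_neg h0]
    constructor
    · intro h
      omega
    · intro h
      exact absurd h.1 h0

/-- Orbits of a triad stabiliser on the triads disjoint from it: the 210 triads inside a common octad with it form one orbit and the remaining 1120 another. -/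
theorem result (T : Finset Cfsg.GolayPt) (hT : T.card = 3) : {U : Finset Cfsg.GolayPt | U.card = 3 ∧ Disjoint T U ∧ (∃ o ∈ Cfsg.octads, T ∪ U ⊆ o)}.ncard = 210 ∧ {U : Finset Cfsg.GolayPt | U.card = 3 ∧ Disjoint T U ∧ ¬ (∃ o ∈ Cfsg.octads, T ∪ U ⊆ o)}.ncard = 1120 ∧ ∀ U U' : Finset Cfsg.GolayPt, U.card = 3 → U'.card = 3 → Disjoint T U → Disjoint T U' → ((∃ o ∈ Cfsg.octads, T ∪ U ⊆ o) ↔ (∃ o ∈ Cfsg.octads, T ∪ U' ⊆ o)) → ∃ g : Equiv.Perm Cfsg.GolayPt, g ∈ Cfsg.M24 ∧ g • T = T ∧ g • U = U' := by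
  have hsetA : {U : Finset Cfsg.GolayPt | U.card = 3 ∧ Disjoint T U ∧ (∃ o ∈ Cfsg.octads, T ∪ U ⊆ o)} =
      {U : Finset Cfsg.GolayPt | U.card = 3 ∧ label3 T U = 0} := by
    ext U
    simp only [Set.mem_ofPred_eq]
    rw [label_zero_iff T U hT]
    rfl
  have hsetB : {U : Finset Cfsg.GolayPt | U.card = 3 ∧ Disjoint T U ∧ ¬ (∃ o ∈ Cfsg.octads, T ∪ U ⊆ o)} =
      {U : Finset Cfsg.GolayPt | U.card = 3 ∧ label3 T U = 4} := by
    ext U
    simp only [Set.mem_ofPred_eq]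
    rw [label_four_iff T U hT]
    rfl
  refine ⟨?_, ?_, ?_⟩
  · rw [hsetA, ncard_label3 T hT 0, counts3.1]
  · rw [hsetB, ncard_label3 T hT 4, counts3.2.2.2.2]
  · intro U U' hU hU' hd hd' hiff
    have hl : label3 T U = label3 T U' := by
      by_cases hc : Cond3 T U
      · rw [(label_zero_iff T U hT).2 ⟨hd, hc⟩, (label_zero_iff T U' hT).2 ⟨hd', hiff.1 hc⟩]
      · rw [(label_four_iff T U hT).2 ⟨hd, hc⟩,
          (label_four_iff T U' hT).2 ⟨hd', fun h => hc (hiff.2 h)⟩]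
    obtain ⟨g, hg, h1, h2⟩ := triple_trans T U U' hT hU hU' hl
    exact ⟨g, hg, h1, h2⟩

end Cfsg.Agent.S1562
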