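import Mathlib
import Cfsg.Statements.S1563
import Cfsg.Agent.Lib.Helper29.M24Subsets
import Cfsg.Agent.Lib.Helper29.MaxStab

set_option autoImplicit false
open scoped Pointwise
open Cfsg

namespace Cfsg.Agent.S1563

open Cfsg.Agent.Helper29.M24 Cfsg.Agent.Helper29 Cfsg.Agent.Helper27
open Cfsg.Agent.S0358 (idx)

def hgens : List (ℕ × ℕ) := [
  (975308407437685088372059391734822976, 167643165643571),
  (971582491181259167011832538986092224, 11805110129987),
  (966273169989211749991755691673626144, 48351394631336755),
  (965038700954089894553876104133914976, 778409660726457140),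
  (23659801083743143137320202001701271, 12355756936670819394),
  (20994340732539059813083753696671383, 48844186309636930),
  (18925058073297649017157648257167703, 3652889645345688250141062194),
  (978112356540011809794845010029122112, 185235319117139)]

set_option maxRecDepth 100000 in
def treeTab : List (List ℕ) := [
  [0, 262145, 0, 553016, 524366, 811096, 552962, 536780, 786554, 544845, 528386, 798914, 549010, 802960, 794812, 540938, 786634, 528542, 786635, 544846, 1077409, 536808, 815192, 786437, 811193, 811192, 811197, 815190, 532712, 528461, 815124, 1077310, 798808, 815264, 803019, 815189, 532482, 790661, 790653, 524365, 811141, 802995, 803000, 811196, 1052803, 524425, 811013, 532638, 786581, 790672, 794749, 794644, 553164, 786574, 807022, 274433, 553106, 802976, 802987, 807045, 798725, 815248, 528588, 794864],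
  [815246, 807037, 536578, 528628, 807056, 553038, 807061, 1069284, 524492, 811182, 794877, 798894, 286723, 274435, 536632, 806925, 790548, 798783, 548941, 794759, 540750, 544862, 806930, 532574, 794720, 798777, 802873, 524290, 790712, 262147, 794664, 549108, 802902, 1061083, 798973, 540876, 790716, 790707, 811244, 807052, 815218, 524520, 790751, 815200, 524532, 553054, 786672, 802886, 811187, 524525, 807026, 815309, 786685, 790781, 794829, 790758, 532536, 545005, 802836, 1060992, 528530, 807165, 786637, 790616],
  [811108, 811143, 802926, 540830, 548958, 798852, 524382, 807152, 270337, 811202, 786587, 549068, 807115, 528478, 802949, 536813, 1065167, 270339, 811200, 790733, 553204, 815344, 790714, 798862, 815357, 290817, 540909, 806998, 790642, 290819, 815259, 540916, 803069, 806997, 1061051, 524434, 1065210, 786520, 815134, 794712, 532684, 803052, 544972, 790539, 798923, 536653, 794694, 790670, 811150, 815283, 536820, 532724, 798904, 802930, 807100, 528621, 536654, 549101, 794827, 532558, 524446, 803056, 532617, 528462],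
  [815229, 540818, 806980, 811179, 806969, 1056920, 1065160, 798906, 786576, 549022, 536670, 282627, 532626, 815239, 798855, 807104, 815226, 815292, 798727, 790598, 794788, 786616, 786620, 815268, 815157, 798956, 811122, 803002, 544926, 811118, 553037, 1077302, 786606, 1061005, 786618, 802951, 798830, 532557, 807067, 266241, 802829, 798884, 786505, 548942, 266243, 790683, 1061114, 532717, 790650, 815298, 798875, 278531, 1056865, 815213, 811071, 1052710, 786592, 807000, 786452, 794766, 540766, 0, 528650, 536840],
  [540809, 806979, 549001, 544824, 807004, 528648, 524552, 286721, 528658, 278529, 544770, 549096, 532754, 545000, 815380, 540904, 532746, 282625, 532744, 540674, 0, 0, 0, 0, 0, 0, 0, 0, 0, 0, 0, 0, 0, 0, 0, 0, 0, 0, 0, 0, 0, 0, 0, 0, 0, 0, 0, 0, 0, 0, 0, 0, 0, 0, 0, 0, 0, 0, 0, 0, 0, 0, 0, 0]]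

def objP (_ : ℕ) : Bool := true

def inv (m : ℕ) : ℕ := pop24 (8388609 &&& m)

def rep (k : ℕ) : ℕ := if k = 0 then 2 else if k = 1 then 0 else 253

def sz (l : ℕ) : ℕ := if l = 0 then 231 else if l = 1 then 44 else 1

set_option maxRecDepth 1000000 in
theorem tree_ok : treeOK [] [8388609] objP inv rep pairAt hgens treeTab 276 = true := by
  decide +kernel

set_option maxRecDepth 1000000 in
theorem counts : (pairMasks.filter fun m => pop24 (8388609 &&& m) == 0).length = 231 ∧
    (pairMasks.filter fun m => pop24 (8388609 &&& m) == 1).length = 44 ∧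
    (pairMasks.filter fun m => pop24 (8388609 &&& m) == 2).length = 1 ∧
    (pairMasks.filter fun _ => true).length = 276 := by
  decide +kernel

theorem arith : ∀ S ∈ ({0, 1, 2} : Finset ℕ).powerset, 2 ∈ S → (∑ l ∈ S, sz l) ∣ 276 →
    S = {2} ∨ S = {0, 1, 2} := by
  decide

theorem orbit_eq (s : Finset Cfsg.GolayPt) (hs : s.card = 2) :
    MulAction.orbit Cfsg.M24 s = {t : Finset Cfsg.GolayPt | t.card = 2} := by
  ext t
  constructor
  · rintro ⟨g, rfl⟩
    show ((g : Equiv.Perm Cfsg.GolayPt) • s).card = 2
    rw [Finset.card_smul_finset]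
    exact hs
  · intro ht
    obtain ⟨g1, hg1, e1⟩ := exists_map_pairSet s hs
    obtain ⟨g2, hg2, e2⟩ := exists_map_pairSet t ht
    refine ⟨⟨g2 * g1⁻¹, Subgroup.mul_mem _ hg2 (Subgroup.inv_mem _ hg1)⟩, ?_⟩
    show (g2 * g1⁻¹) • s = t
    rw [mul_smul, ← e1, inv_smul_smul, e2]

theorem ncard_cls (s : Finset Cfsg.GolayPt) (g0 : Equiv.Perm Cfsg.GolayPt)
    (hg0e : g0 • maskSet 8388609 = s) (l : ℕ) :
    {y : Finset Cfsg.GolayPt | y.card = 2 ∧ (s ∩ y).card = l}.ncard =
      (pairMasks.filter fun m => pop24 (8388609 &&& m) == l).length := by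
  rw [ncard_transport_card g0 2 _ (fun Y => (maskSet 8388609 ∩ Y).card = l)]
  · apply ncard_pairs
    intro m _
    rw [inter_maskSet_card, beq_iff_eq]
  · intro Y
    rw [← hg0e, ← Finset.card_smul_finset g0 (maskSet 8388609 ∩ g0⁻¹ • Y), Finset.smul_finset_inter,
      smul_inv_smul]

/-- The stabiliser of a pair of points (setwise) is a maximal proper subgroup of the group of the length-24 code. -/
theorem result (s : Finset Cfsg.GolayPt) (hs : s.card = 2) : IsCoatom (MulAction.stabilizer Cfsg.M24 s) := by
  have horb := orbit_eq s hs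
  obtain ⟨g0, hg0, hg0e⟩ := exists_map_pairSet s hs
  have hi : g0⁻¹ ∈ Cfsg.M24 := Subgroup.inv_mem _ hg0
  apply isCoatom_stabilizer_of_classes (G := Cfsg.M24) s (fun y => (s ∩ y).card) {0, 1, 2} sz 276
  · intro y hy z hz hc
    rw [horb] at hy hz
    have hy0 : (g0⁻¹ • y).card = 2 := by rw [Finset.card_smul_finset]; exact hy
    have hz0 : (g0⁻¹ • z).card = 2 := by rw [Finset.card_smul_finset]; exact hz
    obtain ⟨n, hn, en⟩ := exists_pairAt _ hy0
    obtain ⟨m, hm, em⟩ := exists_pairAt _ hz0
    have hk : inv (pairAt n) = inv (pairAt m) := by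
      have h1 := inter_card_eq g0 8388609 y (pairAt n) en
      have h2 := inter_card_eq g0 8388609 z (pairAt m) em
      rw [hg0e] at h1 h2
      unfold inv
      rw [← h1, ← h2]
      exact hc
    have base := tree_trans [] [8388609] (by simp) objP inv rep pairAt hgens treeTab 276 tree_ok
      n m hn hm rfl rfl hk
    rw [← en, ← em] at base
    obtain ⟨g, hg, -, hsets, e⟩ := transport_trans [] [8388609] g0 hg0 y z base
    refine ⟨⟨g, hg⟩, ?_, e⟩
    rw [MulAction.mem_stabilizer_iff]
    have := hsets 8388609 (by simp)
    rwa [hg0e] at this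
  · intro y hy
    rw [horb] at hy
    have hle : (s ∩ y).card ≤ 2 := by
      rw [← hs]
      exact Finset.card_le_card Finset.inter_subset_left
    simp only [Finset.mem_insert, Finset.mem_singleton]
    omega
  · intro l hl
    rw [horb]
    have hm := ncard_cls s g0 hg0e l
    simp only [Finset.mem_insert, Finset.mem_singleton] at hl
    rcases hl with rfl | rfl | rfl
    · exact hm.trans counts.1
    · exact hm.trans counts.2.1
    · exact hm.trans counts.2.2.1
  · intro y hy hc
    rw [horb] at hy
    have h2 : (s ∩ y).card = 2 := by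
      have : (s ∩ s).card = 2 := by rw [Finset.inter_self]; exact hs
      rw [← this]
      exact hc
    have hsub : s ⊆ y := by
      have := Finset.eq_of_subset_of_card_le (Finset.inter_subset_left (s₁ := s) (s₂ := y))
        (by rw [h2, hs])
      rw [← this]
      exact Finset.inter_subset_right
    exact (Finset.eq_of_subset_of_card_le hsub (by rw [hy, hs])).symm
  · rw [horb]
    have := ncard_pairs (fun _ => True) (fun _ => true) (fun m _ => by simp)
    simp only [and_true] at this
    rw [this]
    exact counts.2.2.2
  · norm_num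
  · have : (s ∩ s).card = 2 := by
      rw [Finset.inter_self]
      exact hs
    rw [this]
    exact arith

end Cfsg.Agent.S1563
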