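import Mathlib
import Cfsg.Statements.S1564
import Cfsg.Agent.Lib.Helper29.M24Triples
import Cfsg.Agent.Lib.Helper29.MaxStab

set_option autoImplicit false
open scoped Pointwise
open Cfsg

namespace Cfsg.Agent.S1564

open Cfsg.Agent.Helper29.M24 Cfsg.Agent.Helper29 Cfsg.Agent.Helper27
open Cfsg.Agent.S0358 (idx)

def sz (l : ℕ) : ℕ :=
  if l = 0 then 210 else if l = 1 then 630 else if l = 2 then 63 else if l = 3 then 1 else 1120

theorem arith : ∀ S ∈ ({0, 1, 2, 3, 4} : Finset ℕ).powerset, 3 ∈ S → (∑ l ∈ S, sz l) ∣ 2024 →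
    S = {3} ∨ S = {0, 1, 2, 3, 4} := by
  decide

theorem orbit_eq (s : Finset Cfsg.GolayPt) (hs : s.card = 3) :
    MulAction.orbit Cfsg.M24 s = {t : Finset Cfsg.GolayPt | t.card = 3} := by
  ext t
  constructor
  · rintro ⟨g, rfl⟩
    show ((g : Equiv.Perm Cfsg.GolayPt) • s).card = 3
    rw [Finset.card_smul_finset]
    exact hs
  · intro ht
    obtain ⟨g1, hg1, e1⟩ := exists_map_tripleSet s hs
    obtain ⟨g2, hg2, e2⟩ := exists_map_tripleSet t ht
    refine ⟨⟨g2 * g1⁻¹, Subgroup.mul_mem _ hg2 (Subgroup.inv_mem _ hg1)⟩, ?_⟩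
    show (g2 * g1⁻¹) • s = t
    rw [mul_smul, ← e1, inv_smul_smul, e2]

theorem inter_le (T U : Finset Cfsg.GolayPt) (hT : T.card = 3) : (T ∩ U).card ≤ 3 := by
  rw [← hT]
  exact Finset.card_le_card Finset.inter_subset_left

theorem label_mem (T U : Finset Cfsg.GolayPt) (hT : T.card = 3) :
    label3 T U ∈ ({0, 1, 2, 3, 4} : Finset ℕ) := by
  have hle := inter_le T U hT
  unfold label3
  simp only [Finset.mem_insert, Finset.mem_singleton]
  split_ifs <;> omega

theorem label_self (T : Finset Cfsg.GolayPt) (hT : T.card = 3) : label3 T T = 3 := by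
  unfold label3
  rw [Finset.inter_self, hT]
  simp

theorem eq_of_label (T U : Finset Cfsg.GolayPt) (hT : T.card = 3) (hU : U.card = 3)
    (h : label3 T U = 3) : U = T := by
  have hc : (T ∩ U).card = 3 := by
    unfold label3 at h
    split_ifs at h <;> omega
  have hsub : T ⊆ U := by
    have := Finset.eq_of_subset_of_card_le (Finset.inter_subset_left (s₁ := T) (s₂ := U))
      (by rw [hc, hT])
    rw [← this]
    exact Finset.inter_subset_right
  exact (Finset.eq_of_subset_of_card_le hsub (by rw [hU, hT])).symm

/-- The stabiliser of a set of three points (setwise) is a maximal proper subgroup of the group of the length-24 code. -/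
theorem result (s : Finset Cfsg.GolayPt) (hs : s.card = 3) : IsCoatom (MulAction.stabilizer Cfsg.M24 s) := by
  have horb := orbit_eq s hs
  apply isCoatom_stabilizer_of_classes (G := Cfsg.M24) s (fun y => label3 s y) {0, 1, 2, 3, 4} sz 2024
  · intro y hy z hz hc
    rw [horb] at hy hz
    obtain ⟨g, hg, hgs, hgy⟩ := triple_trans s y z hs hy hz hc
    refine ⟨⟨g, hg⟩, ?_, hgy⟩
    rw [MulAction.mem_stabilizer_iff]
    exact hgs
  · intro y _
    exact label_mem s y hs
  · intro l hl
    rw [horb]
    have hm := ncard_label3 s hs l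
    simp only [Finset.mem_insert, Finset.mem_singleton] at hl
    rcases hl with rfl | rfl | rfl | rfl | rfl
    · exact hm.trans counts3.1
    · exact hm.trans counts3.2.1
    · exact hm.trans counts3.2.2.1
    · exact hm.trans counts3.2.2.2.1
    · exact hm.trans counts3.2.2.2.2
  · intro y hy hc
    rw [horb] at hy
    have h3 : label3 s y = 3 := by
      have := label_self s hs
      rw [← this]
      exact hc
    exact eq_of_label s y hs hy h3
  · rw [horb]
    have := ncard_triples (fun _ => True) (fun _ => true) (fun m _ => by simp)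
    simp only [and_true] at this
    rw [this, List.filter_true, tripleMasks_length]
  · norm_num
  · have : label3 s s = 3 := label_self s hs
    rw [this]
    exact arith

end Cfsg.Agent.S1564
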