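import Mathlib
import Cfsg.Statements.S1565
import Cfsg.Agent.Lib.Helper29.M24Cfg
import Cfsg.Agent.Lib.Helper29.MaxStab
import Cfsg.Agent.S5613

set_option autoImplicit false
open scoped Pointwise
open Cfsg

namespace Cfsg.Agent.S1565

open Cfsg.Agent.Helper29.M24 Cfsg.Agent.Helper29 Cfsg.Agent.Helper27
open Cfsg.Agent.S0358 (idx)

def sz (l : ℕ) : ℕ := if l = 0 then 30 else if l = 2 then 448 else if l = 4 then 280 else 1

set_option maxRecDepth 1000000 in
theorem count8 :
    countS (fun m => pop24 m == 8 && (([] : List ℕ).all (fun a => m.testBit a) &&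
        ([] : List ℕ).all (fun a => !m.testBit a) && pop24 (8536111 &&& m) == 8)) 4096 = 1 := by
  decide +kernel

set_option maxRecDepth 1000000 in
theorem sizes : (List.range 4096).all (fun n => strictN (cw n) fun m =>
    !(pop24 m == 8) || strictN (pop24 (8536111 &&& m)) fun k =>
      k == 0 || k == 2 || k == 4 || k == 8) = true := by
  decide +kernel

theorem arith : ∀ S ∈ ({0, 2, 4, 8} : Finset ℕ).powerset, 8 ∈ S → (∑ l ∈ S, sz l) ∣ 759 →
    S = {8} ∨ S = {0, 2, 4, 8} := by
  decide

theorem orbit_eq (o : Finset Cfsg.GolayPt) (ho : o ∈ Cfsg.octads) :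
    MulAction.orbit Cfsg.M24 o = Cfsg.octads := by
  ext o'
  constructor
  · rintro ⟨g, rfl⟩
    exact smul_mem_octads g.2 ho
  · intro ho'
    obtain ⟨g, hg, e⟩ := octad_transitive o o' ho ho'
    exact ⟨⟨g, hg⟩, e⟩

theorem cls_mem (o y : Finset Cfsg.GolayPt) (ho : o ∈ Cfsg.octads) (hy : y ∈ Cfsg.octads) :
    (o ∩ y).card ∈ ({0, 2, 4, 8} : Finset ℕ) := by
  obtain ⟨g0, hg0, hg0e⟩ := octad_transitive oct0 o oct0_mem ho
  have hoe : g0 • maskSet 8536111 = o := hg0e
  obtain ⟨n, hn, h8n, en⟩ := (mem_octads_iff' _).1 (smul_mem_octads (Subgroup.inv_mem _ hg0) hy)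
  have h1 := inter_card_eq g0 8536111 y (cw n) en
  rw [hoe] at h1
  rw [h1]
  have := sizes
  rw [List.all_eq_true] at this
  have h2 := this n (List.mem_range.2 hn)
  rw [strictN_eq, strictN_eq, h8n] at h2
  simp only [beq_self_eq_true, Bool.not_true, Bool.false_or, Bool.or_eq_true, beq_iff_eq] at h2
  simp only [Finset.mem_insert, Finset.mem_singleton]
  rcases h2 with ((h2 | h2) | h2) | h2
  · exact Or.inl h2
  · exact Or.inr (Or.inl h2)
  · exact Or.inr (Or.inr (Or.inl h2))
  · exact Or.inr (Or.inr (Or.inr h2))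

/-- The stabiliser of an octad is a maximal proper subgroup of the group of the length-24 code. -/
theorem result (o : Finset Cfsg.GolayPt) (ho : o ∈ Cfsg.octads) : IsCoatom (MulAction.stabilizer Cfsg.M24 o) := by
  have horb := orbit_eq o ho
  apply isCoatom_stabilizer_of_classes (G := Cfsg.M24) o (fun y => (o ∩ y).card) {0, 2, 4, 8} sz 759
  · intro y hy z hz hc
    rw [horb] at hy hz
    obtain ⟨g, hg, hgo, hgy⟩ := Cfsg.Agent.S1556.result o y z ho hy hz hc
    refine ⟨⟨g, hg⟩, ?_, hgy⟩
    rw [MulAction.mem_stabilizer_iff]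
    exact hgo
  · intro y hy
    rw [horb] at hy
    exact cls_mem o y ho hy
  · intro l hl
    rw [horb]
    have hm := Cfsg.Agent.S5613.ncard_meet o ho l
    simp only [Finset.mem_insert, Finset.mem_singleton] at hl
    rcases hl with rfl | rfl | rfl | rfl
    · rw [hm, Cfsg.Agent.S5613.counts.1]; rfl
    · rw [hm, Cfsg.Agent.S5613.counts.2.2]; rfl
    · rw [hm, Cfsg.Agent.S5613.counts.2.1]; rfl
    · rw [hm, count8]; rfl
  · intro y hy hc
    rw [horb] at hy
    have h8 : (o ∩ y).card = 8 := by
      have : (o ∩ o).card = 8 := by rw [Finset.inter_self]; exact ho.2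
      rw [← this]
      exact hc
    have hsub : o ⊆ y := by
      have := Finset.eq_of_subset_of_card_le (Finset.inter_subset_left (s₁ := o) (s₂ := y))
        (by rw [h8, ho.2])
      rw [← this]
      exact Finset.inter_subset_right
    exact (Finset.eq_of_subset_of_card_le hsub (by rw [hy.2, ho.2])).symm
  · rw [horb]
    exact Cfsg.Agent.S0360.result
  · norm_num
  · have : (o ∩ o).card = 8 := by
      rw [Finset.inter_self]
      exact ho.2
    rw [this]
    exact arith

end Cfsg.Agent.S1565
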