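import Mathlib
import Cfsg.Statements.S1566
import Cfsg.Agent.Lib.Helper29.MaxStab
import Cfsg.Agent.Lib.Helper29.M24Cfg
import Cfsg.Agent.S1560
import Cfsg.Agent.S1561
import Cfsg.Agent.S1639

set_option autoImplicit false
open scoped Pointwise
open Cfsg

namespace Cfsg.Agent.S1566

open Cfsg.Agent.Helper27 Cfsg.Agent.Helper29 Cfsg.Agent.Helper29.M24

theorem compl_mem_dodecads {d : Finset GolayPt} (hd : d ∈ dodecads) : dᶜ ∈ dodecads := by
  obtain ⟨⟨w, hw, rfl⟩, hc⟩ := hd
  refine ⟨⟨w + 1, golayCode.add_mem hw (Submodule.subset_span (Or.inr rfl)), ?_⟩, ?_⟩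
  · ext a
    simp only [support₂, Finset.mem_filter, Finset.mem_univ, true_and, Finset.mem_compl,
      Pi.add_apply, Pi.one_apply]
    have : ∀ z : ZMod 2, z + 1 ≠ 0 ↔ ¬ z ≠ 0 := by decide
    exact this _
  · rw [Finset.card_compl, hc]; rfl

theorem smul_compl (g : Equiv.Perm GolayPt) (e : Finset GolayPt) : g • eᶜ = (g • e)ᶜ := by
  ext p
  rw [Finset.mem_compl, ← Finset.inv_smul_mem_iff, ← Finset.inv_smul_mem_iff, Finset.mem_compl]

/-- the pair formed by a set and its complement -/
def pairOf (e : Finset GolayPt) : Finset (Finset GolayPt) := {e, eᶜ}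

theorem ne_compl (e : Finset GolayPt) : e ≠ eᶜ := by
  intro h
  by_cases hn : (none : GolayPt) ∈ e
  · have h2 := hn
    rw [h, Finset.mem_compl] at h2
    exact h2 hn
  · have h2 := hn
    rw [h, Finset.mem_compl, not_not] at h2
    exact hn h2

theorem pairOf_compl (e : Finset GolayPt) : pairOf eᶜ = pairOf e := by
  unfold pairOf
  rw [compl_compl, Finset.pair_comm]

theorem smul_pairOf (g : M24) (e : Finset GolayPt) : g • pairOf e = pairOf (g • e) := by
  unfold pairOf
  rw [Finset.smul_finset_insert, Finset.smul_finset_singleton]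
  congr 2
  exact smul_compl (g : Equiv.Perm GolayPt) e

theorem pairOf_eq_iff (e e' : Finset GolayPt) : pairOf e = pairOf e' ↔ e = e' ∨ e = e'ᶜ := by
  constructor
  · intro h
    have : e ∈ pairOf e' := by rw [← h]; unfold pairOf; simp
    unfold pairOf at this
    simpa using this
  · rintro (rfl | rfl)
    · rfl
    · exact pairOf_compl _

theorem orbit_eq (d : Finset GolayPt) (hd : d ∈ dodecads) :
    MulAction.orbit M24 (pairOf d) = {y | ∃ e ∈ dodecads, y = pairOf e} := by
  ext y
  constructor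
  · rintro ⟨g, rfl⟩
    exact ⟨g • d, smul_mem_dodecads g.2 hd, smul_pairOf g d⟩
  · rintro ⟨e, he, rfl⟩
    obtain ⟨g, hg⟩ := dodecad_transitive d e hd he
    exact ⟨g, by rw [← hg]; exact smul_pairOf g d⟩

/-- pairs correspond to the dodecads through a given point -/
theorem ncard_pairs_eq (x0 : GolayPt) (R : Finset (Finset GolayPt) → Prop) :
    {y | (∃ e ∈ dodecads, y = pairOf e) ∧ R y}.ncard =
      {e | e ∈ dodecads ∧ x0 ∈ e ∧ R (pairOf e)}.ncard := by
  have himg : {y | (∃ e ∈ dodecads, y = pairOf e) ∧ R y} =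
      pairOf '' {e | e ∈ dodecads ∧ x0 ∈ e ∧ R (pairOf e)} := by
    ext y
    constructor
    · rintro ⟨⟨e, he, rfl⟩, hR⟩
      by_cases hx : x0 ∈ e
      · exact ⟨e, ⟨he, hx, hR⟩, rfl⟩
      · refine ⟨eᶜ, ⟨compl_mem_dodecads he, Finset.mem_compl.2 hx, ?_⟩, pairOf_compl e⟩
        rw [pairOf_compl]
        exact hR
    · rintro ⟨e, ⟨he, -, hR⟩, rfl⟩
      exact ⟨⟨e, he, rfl⟩, hR⟩
  rw [himg]
  apply Set.InjOn.ncard_image
  rintro e ⟨-, hx, -⟩ e' ⟨-, hx', -⟩ h
  rcases (pairOf_eq_iff e e').1 h with h | h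
  · exact h
  · rw [h, Finset.mem_compl] at hx
    exact absurd hx' hx

/-- the class invariant -/
def cls (d : Finset GolayPt) (y : Finset (Finset GolayPt)) : ℕ := ∏ e ∈ y, (d ∩ e).card

theorem cls_pairOf (d : Finset GolayPt) (hd : d ∈ dodecads) (e : Finset GolayPt) :
    cls d (pairOf e) = (d ∩ e).card * (12 - (d ∩ e).card) := by
  unfold cls pairOf
  rw [Finset.prod_pair (ne_compl e)]
  congr 1
  have h1 : d ∩ eᶜ = d \ e := by
    ext p
    simp [Finset.mem_sdiff]
  have h2 := Finset.card_inter_add_card_sdiff d e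
  rw [hd.2] at h2
  rw [h1]
  omega

theorem inter_vals (d : Finset GolayPt) (hd : d ∈ dodecads) (e : Finset GolayPt)
    (he : e ∈ dodecads) : (d ∩ e).card = 12 ∧ e = d ∨ (d ∩ e).card = 0 ∨ (d ∩ e).card = 4 ∨
      (d ∩ e).card = 6 ∨ (d ∩ e).card = 8 := by
  by_cases h : e = d
  · left
    rw [h, Finset.inter_self]
    exact ⟨hd.2, rfl⟩
  · right
    exact (Cfsg.Agent.S1560.result d hd).1 e he h

theorem arith : ∀ S ∈ ({0, 32, 36} : Finset ℕ).powerset, 0 ∈ S →
    (∑ l ∈ S, (if l = 0 then 1 else if l = 32 then 495 else 792)) ∣ 1288 →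
    S = {0} ∨ S = {0, 32, 36} := by
  decide

theorem sym12 : ∀ a ≤ 12, ∀ b ≤ 12, a * (12 - a) = b * (12 - b) → a = b ∨ a = 12 - b := by
  decide

theorem count_pt : countS (fun m => pop24 m == 12 && m.testBit 23) 4096 = 1288 := by
  decide +kernel

theorem ncard_through (x0 : GolayPt) : {e | e ∈ dodecads ∧ x0 ∈ e}.ncard = 1288 := by
  obtain ⟨g0, hg0, hx⟩ := exists_map_emb (by norm_num : 1 ≤ 5)
    (⟨fun _ => x0, fun i j _ => Subsingleton.elim i j⟩ : Fin 1 ↪ GolayPt)
  have h0 : g0 (dec 23) = x0 := hx 0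
  have h1 := ncard_transport g0 hg0 12 (fun Y => x0 ∈ Y) (fun Y => dec 23 ∈ Y) (by
    intro Y
    rw [mem_inv_smul_iff, h0])
  have h2 := ncard_words 12 (fun Y => dec 23 ∈ Y) (fun m => m.testBit 23) (by
    intro n _ _
    exact mem_maskSet_idx _ 23 (by norm_num))
  rw [h2, count_pt] at h1
  exact h1

/-- The setwise stabiliser of a dodecad together with its complement is a maximal proper subgroup of the group of the length-24 code. -/
theorem result (d : Finset Cfsg.GolayPt) (hd : d ∈ Cfsg.dodecads) : IsCoatom (MulAction.stabilizer Cfsg.M24 ({d, dᶜ} : Finset (Finset Cfsg.GolayPt))) := by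
  obtain ⟨x0, hx0⟩ : ∃ x0, x0 ∈ d := by
    apply Finset.card_pos.1
    rw [hd.2]; norm_num
  have horb := orbit_eq d hd
  have hcard : ∀ e, (d ∩ e).card ≤ 12 := fun e => by
    rw [← hd.2]
    exact Finset.card_le_card Finset.inter_subset_left
  show IsCoatom (MulAction.stabilizer Cfsg.M24 (pairOf d))
  apply isCoatom_stabilizer_of_classes (G := Cfsg.M24) (pairOf d) (cls d) {0, 32, 36}
    (fun l => if l = 0 then 1 else if l = 32 then 495 else 792) 1288
  · -- transitivity on classes
    intro y hy z hz hc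
    rw [horb] at hy hz
    obtain ⟨e, he, rfl⟩ := hy
    obtain ⟨e', he', rfl⟩ := hz
    rw [cls_pairOf d hd, cls_pairOf d hd] at hc
    have key : ∃ e'' ∈ dodecads, pairOf e'' = pairOf e' ∧ (d ∩ e).card = (d ∩ e'').card := by
      rcases sym12 _ (hcard e) _ (hcard e') hc with h | h
      · exact ⟨e', he', rfl, h⟩
      · refine ⟨e'ᶜ, compl_mem_dodecads he', pairOf_compl e', ?_⟩
        have h1 : d ∩ e'ᶜ = d \ e' := by
          ext p
          simp [Finset.mem_sdiff]
        have h2 := Finset.card_inter_add_card_sdiff d e'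
        rw [hd.2] at h2
        rw [h1]
        omega
    obtain ⟨e'', he'', hp, hk⟩ := key
    obtain ⟨g, hg, hgd, hge⟩ := Cfsg.Agent.S1561.result d e e'' hd he he'' hk
    refine ⟨⟨g, hg⟩, ?_, ?_⟩
    · rw [MulAction.mem_stabilizer_iff, smul_pairOf]
      congr 1
    · rw [smul_pairOf, ← hp]
      congr 1
  · -- labels
    intro y hy
    rw [horb] at hy
    obtain ⟨e, he, rfl⟩ := hy
    rw [cls_pairOf d hd]
    simp only [Finset.mem_insert, Finset.mem_singleton]
    rcases inter_vals d hd e he with ⟨h, -⟩ | h | h | h | h <;> rw [h] <;> norm_num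
  · -- sizes
    intro l hl
    rw [horb]
    have hpe := ncard_pairs_eq x0 (fun y => cls d y = l)
    simp only [Set.mem_ofPred_eq] at hpe ⊢
    rw [hpe]
    obtain ⟨c4, c8, c6, -⟩ := Cfsg.Agent.S1639.result x0 d hd hx0
    simp only [Finset.mem_insert, Finset.mem_singleton] at hl
    rcases hl with rfl | rfl | rfl
    · have : {e | e ∈ dodecads ∧ x0 ∈ e ∧ cls d (pairOf e) = 0} = {d} := by
        ext e
        simp only [Set.mem_ofPred_eq, Set.mem_singleton_iff]
        constructor
        · rintro ⟨he, hx, hc⟩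
          rw [cls_pairOf d hd] at hc
          rcases inter_vals d hd e he with ⟨-, h⟩ | h | h | h | h
          · exact h
          · exfalso
            have : x0 ∈ d ∩ e := Finset.mem_inter.2 ⟨hx0, hx⟩
            rw [Finset.card_eq_zero.1 h] at this
            simp at this
          all_goals (rw [h] at hc; norm_num at hc)
        · rintro rfl
          refine ⟨hd, hx0, ?_⟩
          rw [cls_pairOf e hd, Finset.inter_self, hd.2]
      rw [this, Set.ncard_singleton]
      rfl
    · have : {e | e ∈ dodecads ∧ x0 ∈ e ∧ cls d (pairOf e) = 32} =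
          {e | e ∈ dodecads ∧ x0 ∈ e ∧ (d ∩ e).card = 4} ∪
            {e | e ∈ dodecads ∧ x0 ∈ e ∧ (d ∩ e).card = 8} := by
        ext e
        simp only [Set.mem_ofPred_eq, Set.mem_union]
        constructor
        · rintro ⟨he, hx, hc⟩
          rw [cls_pairOf d hd] at hc
          rcases inter_vals d hd e he with ⟨h, -⟩ | h | h | h | h
          · rw [h] at hc; norm_num at hc
          · rw [h] at hc; norm_num at hc
          · exact Or.inl ⟨he, hx, h⟩
          · rw [h] at hc; norm_num at hc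
          · exact Or.inr ⟨he, hx, h⟩
        · rintro (⟨he, hx, h⟩ | ⟨he, hx, h⟩)
          · exact ⟨he, hx, by rw [cls_pairOf d hd, h]⟩
          · exact ⟨he, hx, by rw [cls_pairOf d hd, h]⟩
      rw [this, Set.ncard_union_eq, c4, c8]
      · rfl
      · rw [Set.disjoint_left]
        rintro e ⟨-, -, h1⟩ ⟨-, -, h2⟩
        omega
    · have : {e | e ∈ dodecads ∧ x0 ∈ e ∧ cls d (pairOf e) = 36} =
          {e | e ∈ dodecads ∧ x0 ∈ e ∧ (d ∩ e).card = 6} := by
        ext e
        simp only [Set.mem_ofPred_eq]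
        constructor
        · rintro ⟨he, hx, hc⟩
          rw [cls_pairOf d hd] at hc
          rcases inter_vals d hd e he with ⟨h, -⟩ | h | h | h | h
          · rw [h] at hc; norm_num at hc
          · rw [h] at hc; norm_num at hc
          · rw [h] at hc; norm_num at hc
          · exact ⟨he, hx, h⟩
          · rw [h] at hc; norm_num at hc
        · rintro ⟨he, hx, h⟩
          exact ⟨he, hx, by rw [cls_pairOf d hd, h]⟩
      rw [this, c6]
      rfl
  · -- the class of the base pair
    intro y hy hc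
    rw [horb] at hy
    obtain ⟨e, he, rfl⟩ := hy
    rw [cls_pairOf d hd, cls_pairOf d hd, Finset.inter_self, hd.2] at hc
    rcases inter_vals d hd e he with ⟨-, h⟩ | h | h | h | h
    · rw [h]
    · have hsub : d ⊆ eᶜ := by
        intro p hp
        rw [Finset.mem_compl]
        intro hpe
        have : p ∈ d ∩ e := Finset.mem_inter.2 ⟨hp, hpe⟩
        rw [Finset.card_eq_zero.1 h] at this
        simp at this
      have : d = eᶜ := Finset.eq_of_subset_of_card_le hsub (by
        rw [(compl_mem_dodecads he).2, hd.2])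
      rw [this, pairOf_compl]
    all_goals (rw [h] at hc; norm_num at hc)
  · -- size of the orbit
    rw [horb]
    have := ncard_pairs_eq x0 (fun _ => True)
    simp only [and_true] at this
    rw [this]
    exact ncard_through x0
  · norm_num
  · rw [cls_pairOf d hd, Finset.inter_self, hd.2]
    exact arith

end Cfsg.Agent.S1566
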