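import Mathlib
import Cfsg.Statements.S1567
import Cfsg.Agent.Lib.Helper27.LeechChar
import Cfsg.Agent.Lib.Helper27.LeechAut
import Cfsg.Agent.Lib.Helper27.LeechSing
import Cfsg.Agent.Lib.Helper29.GolayCount

set_option autoImplicit false
open Cfsg

namespace Cfsg.Agent.S1567

open Cfsg.Agent.Helper27

/-- The subgroup generated by the minimal vectors. -/
def Lmin : AddSubgroup (GolayPt → ℤ) :=
  AddSubgroup.closure {x : GolayPt → ℤ | x ∈ leechLattice ∧ sqNorm x = 32}

theorem vec44_mem_Lmin (i j : GolayPt) (hij : i ≠ j) (s : ℤ) (hs : s = 1 ∨ s = -1) :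
    vec44 i j s ∈ Lmin :=
  AddSubgroup.subset_closure ⟨vec44_mem i j s hs, sqNorm_vec44 i j hij s hs⟩

theorem vec8_none_mem_Lmin : vec8 none ∈ Lmin := by
  rw [← vec44_add none (some 0)]
  exact add_mem (vec44_mem_Lmin _ _ (by simp) 1 (Or.inl rfl))
    (vec44_mem_Lmin _ _ (by simp) (-1) (Or.inr rfl))

/-- `4 e_i - 4 e_∞`, or zero when `i = ∞`. -/
def dvec (i : GolayPt) : GolayPt → ℤ := if i = none then 0 else vec44 i none (-1)

theorem dvec_mem (i : GolayPt) : dvec i ∈ Lmin := by
  unfold dvec
  by_cases h : i = none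
  · rw [if_pos h]; exact zero_mem _
  · rw [if_neg h]; exact vec44_mem_Lmin _ _ h (-1) (Or.inr rfl)

theorem dvec_apply (i k : GolayPt) :
    dvec i k = if i = none then 0 else (if k = i then 4 else 0) + (if k = none then -4 else 0) := by
  unfold dvec
  by_cases h : i = none
  · rw [if_pos h, if_pos h]; rfl
  · rw [if_neg h, if_neg h]
    unfold vec44
    norm_num

/-- Vectors `4 b` with `b` of even coordinate sum lie in the span of the minimal vectors. -/
theorem four_mul_mem (b : GolayPt → ℤ) (hb : (2 : ℤ) ∣ ∑ i, b i) :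
    (fun i => 4 * b i) ∈ Lmin := by
  obtain ⟨u, hu⟩ := hb
  have key : (fun i => 4 * b i) = ∑ i, b i • dvec i + u • vec8 none := by
    funext k
    rw [Pi.add_apply, Finset.sum_apply, Pi.smul_apply]
    simp only [Pi.smul_apply, smul_eq_mul, dvec_apply]
    by_cases hk : k = none
    · subst hk
      have h1 : ∀ i : GolayPt, b i * (if i = none then 0 else
          (if (none : GolayPt) = i then (4 : ℤ) else 0) + (if (none : GolayPt) = none then -4 else 0))
          = -4 * b i + (if i = none then 4 * b none else 0) := by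
        intro i
        by_cases hi : i = none
        · subst hi; simp
        · have : (none : GolayPt) ≠ i := fun h => hi h.symm
          simp [hi, this]; ring
      rw [Finset.sum_congr rfl (fun i _ => h1 i), Finset.sum_add_distrib, ← Finset.mul_sum,
        Finset.sum_ite_eq' Finset.univ (none : GolayPt), hu]
      simp [vec8]
      ring
    · have h1 : ∀ i : GolayPt, b i * (if i = none then 0 else
          (if k = i then (4 : ℤ) else 0) + (if k = none then -4 else 0))
          = if i = k then 4 * b k else 0 := by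
        intro i
        by_cases hi : i = none
        · subst hi
          have : (none : GolayPt) ≠ k := fun h => hk h.symm
          simp [this]
        · by_cases hik : i = k
          · subst hik; simp [hi]; ring
          · have : k ≠ i := fun h => hik h.symm
            simp [hi, hk, hik, this]
      rw [Finset.sum_congr rfl (fun i _ => h1 i), Finset.sum_ite_eq' Finset.univ k]
      simp [vec8, hk]
  rw [key]
  exact add_mem (sum_mem (fun i _ => zsmul_mem (dvec_mem i) _)) (zsmul_mem vec8_none_mem_Lmin _)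

/-- Twice the `0/1` lift of a word. -/
def dbl (c : GolayPt → ZMod 2) : GolayPt → ℤ := fun i => 2 * lift01 c i

theorem dbl_eq_witVec (c : GolayPt → ZMod 2) : dbl c = witVec 0 c := by
  funext i; unfold dbl witVec; simp

theorem dbl_mem (c : GolayPt → ZMod 2) (hc : c ∈ golayCode) : dbl c ∈ leechLattice := by
  rw [dbl_eq_witVec]
  exact AddSubgroup.subset_closure (witVec_mem_leechSet 0 hc)

theorem lift01_sq (c : GolayPt → ZMod 2) (i : GolayPt) : lift01 c i ^ 2 = lift01 c i := by
  rcases zmod2_cases (c i) with h | h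
  · rw [lift01_of_zero h]; norm_num
  · rw [lift01_of_one h]; norm_num

theorem sqNorm_dbl (c : GolayPt → ZMod 2) : sqNorm (dbl c) = 4 * ((support₂ c).card : ℤ) := by
  unfold sqNorm dbl
  rw [← sum_lift01, Finset.mul_sum]
  apply Finset.sum_congr rfl
  intro i _
  rw [mul_pow, lift01_sq]; norm_num

theorem dbl_octad_mem (c : GolayPt → ZMod 2) (hc : c ∈ golayCode) (h8 : (support₂ c).card = 8) :
    dbl c ∈ Lmin := by
  apply AddSubgroup.subset_closure
  refine ⟨dbl_mem c hc, ?_⟩
  rw [sqNorm_dbl, h8]; norm_num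

theorem lift01_add (c d : GolayPt → ZMod 2) (i : GolayPt) :
    lift01 (c + d) i = lift01 c i + lift01 d i - 2 * (lift01 c i * lift01 d i) := by
  rcases zmod2_cases (c i) with h | h <;> rcases zmod2_cases (d i) with h' | h'
  · have : (c + d) i = 0 := by rw [Pi.add_apply, h, h']; decide
    rw [lift01_of_zero h, lift01_of_zero h', lift01_of_zero this]; norm_num
  · have : (c + d) i = 1 := by rw [Pi.add_apply, h, h']; decide
    rw [lift01_of_zero h, lift01_of_one h', lift01_of_one this]; norm_num
  · have : (c + d) i = 1 := by rw [Pi.add_apply, h, h']; decide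
    rw [lift01_of_one h, lift01_of_zero h', lift01_of_one this]; norm_num
  · have : (c + d) i = 0 := by rw [Pi.add_apply, h, h']; decide
    rw [lift01_of_one h, lift01_of_one h', lift01_of_zero this]; norm_num

theorem lift01_mul_eq (c d : GolayPt → ZMod 2) (i : GolayPt) :
    lift01 c i * lift01 d i = if c i ≠ 0 ∧ d i ≠ 0 then (1 : ℤ) else 0 := by
  rcases zmod2_cases (c i) with h | h <;> rcases zmod2_cases (d i) with h' | h'
  · rw [lift01_of_zero h, lift01_of_zero h', h, h']; simp
  · rw [lift01_of_zero h, lift01_of_one h', h, h']; simp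
  · rw [lift01_of_one h, lift01_of_zero h', h, h']; simp
  · rw [lift01_of_one h, lift01_of_one h', h, h']; simp

/-- The doubled lifts of code words in the span of minimal vectors are closed under sums. -/
theorem dbl_add_mem {c d : GolayPt → ZMod 2} (hc : c ∈ golayCode) (hd : d ∈ golayCode)
    (h1 : dbl c ∈ Lmin) (h2 : dbl d ∈ Lmin) : dbl (c + d) ∈ Lmin := by
  have key : dbl (c + d) = dbl c + dbl d - (fun i => 4 * (lift01 c i * lift01 d i)) := by
    funext i
    simp only [dbl, Pi.add_apply, Pi.sub_apply]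
    rw [lift01_add]; ring
  rw [key]
  refine sub_mem (add_mem h1 h2) (four_mul_mem _ ?_)
  rw [Finset.sum_congr rfl (fun i _ => lift01_mul_eq c d i)]
  exact golay_inter_even hc hd

/-- Decomposition of the generating words of the code into octads. -/
def tab1 (t : ZMod 23) : ℕ :=
  [118, 41, 43, 35, 43, 15, 30, 35, 35, 35, 19, 19, 38, 41, 19, 38, 15, 15, 19, 15, 15, 30,
    59].getD t.val 0

def tab2 (t : ZMod 23) : ℕ :=
  [119, 43, 47, 43, 59, 47, 94, 163, 291, 547, 1043, 752, 1504, 326, 717, 1434, 404, 825, 1663,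
    1588, 1690, 2007, 1354].getD t.val 0

theorem tab_spec : ∀ t : ZMod 23, pop24 (cw (tab1 t)) = 8 ∧ pop24 (cw (tab2 t)) = 8 ∧
    tab1 t ^^^ tab2 t = Cfsg.Agent.S0358.coefMask t := by decide

theorem trio_spec : pop24 (cw 15) = 8 ∧ pop24 (cw 125) = 8 ∧ pop24 (cw 2162) = 8 ∧
    15 ^^^ 125 ^^^ 2162 = 2048 := by decide

theorem dbl_cw_octad (n : ℕ) (h : pop24 (cw n) = 8) : dbl (ofMask (cw n)) ∈ Lmin :=
  dbl_octad_mem _ (Cfsg.Agent.Helper29.cw_mem n) (by rw [card_support₂_ofMask, h])

theorem dbl_mem_Lmin (c : GolayPt → ZMod 2) (hc : c ∈ golayCode) : dbl c ∈ Lmin := by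
  unfold golayCode at hc
  induction hc using Submodule.span_induction with
  | mem x hx =>
    rcases hx with ⟨t, rfl⟩ | hx
    · obtain ⟨h1, h2, h3⟩ := tab_spec t
      rw [qrWord_eq_ofMask, ← h3, cw_xor, ofMask_xor]
      exact dbl_add_mem (Cfsg.Agent.Helper29.cw_mem _) (Cfsg.Agent.Helper29.cw_mem _)
        (dbl_cw_octad _ h1) (dbl_cw_octad _ h2)
    · rw [Set.mem_singleton_iff] at hx
      subst hx
      obtain ⟨h1, h2, h3, h4⟩ := trio_spec
      rw [one_eq_ofMask, ← h4, cw_xor, cw_xor, ofMask_xor, ofMask_xor]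
      exact dbl_add_mem (add_mem (Cfsg.Agent.Helper29.cw_mem _) (Cfsg.Agent.Helper29.cw_mem _))
        (Cfsg.Agent.Helper29.cw_mem _)
        (dbl_add_mem (Cfsg.Agent.Helper29.cw_mem _) (Cfsg.Agent.Helper29.cw_mem _)
          (dbl_cw_octad _ h1) (dbl_cw_octad _ h2)) (dbl_cw_octad _ h3)
  | zero =>
    have : dbl 0 = 0 := by funext i; simp [dbl, lift01]
    rw [this]; exact zero_mem _
  | add x y hx hy h1 h2 => exact dbl_add_mem hx hy h1 h2
  | smul a x hx h1 =>
    rcases zmod2_cases a with rfl | rfl
    · rw [zero_smul]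
      have : dbl 0 = 0 := by funext i; simp [dbl, lift01]
      rw [this]; exact zero_mem _
    · rw [one_smul]; exact h1

/-- An odd minimal vector. -/
def ovec : GolayPt → ℤ := fun i => if i = none then -3 else 1

theorem ovec_mem : ovec ∈ leechLattice := by
  rw [mem_leechLattice_iff]
  refine ⟨1, fun i => if i = none then -2 else 0, ?_, ?_, ?_⟩
  · intro i
    unfold ovec
    by_cases h : i = none <;> simp [h]
  · have : red2 (fun i : GolayPt => if i = none then (-2 : ℤ) else 0) = 0 := by
      funext i
      rw [Pi.zero_apply, red2_eq_zero_iff]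
      by_cases h : i = none <;> simp [h]
    rw [this]; exact zero_mem _
  · rw [Finset.sum_ite_eq' Finset.univ (none : GolayPt)]
    simp

theorem sqNorm_ovec : sqNorm ovec = 32 := by
  unfold sqNorm ovec
  have : ∀ i : GolayPt, (if i = none then (-3 : ℤ) else 1) ^ 2 = 1 + (if i = none then 8 else 0) := by
    intro i
    by_cases h : i = none <;> simp [h]
  rw [Finset.sum_congr rfl (fun i _ => this i), Finset.sum_add_distrib,
    Finset.sum_ite_eq' Finset.univ (none : GolayPt)]
  simp [card_golayPt]

theorem ovec_mem_Lmin : ovec ∈ Lmin :=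
  AddSubgroup.subset_closure ⟨ovec_mem, sqNorm_ovec⟩

/-- The rank-24 lattice is the additive subgroup generated by its 196560 minimal vectors. -/
theorem result : AddSubgroup.closure {x : Cfsg.GolayPt → ℤ | x ∈ Cfsg.leechLattice ∧ Cfsg.sqNorm x = 32} = Cfsg.leechLattice := by
  apply le_antisymm
  · rw [AddSubgroup.closure_le]
    intro x hx
    exact hx.1
  · intro x hx
    show x ∈ Lmin
    obtain ⟨m, a, ha, hc, hs⟩ := leechForm_of_mem hx
    have hb : ∀ i, ∃ b : ℤ, a i - lift01 (red2 a) i = 2 * b := by
      intro i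
      by_cases h : red2 a i ≠ 0
      · have h1 : red2 a i = 1 := (zmod2_cases _).resolve_left h
        rw [lift01_of_one h1]
        rw [red2_ne_zero_iff] at h
        exact ⟨(a i - 1) / 2, by omega⟩
      · rw [not_not] at h
        rw [lift01_of_zero h]
        rw [red2_eq_zero_iff] at h
        exact ⟨a i / 2, by omega⟩
    choose b hb using hb
    have key : x = m • ovec + dbl (red2 a) +
        (fun i => 4 * (b i + (if i = none then m else 0))) := by
      funext i
      simp only [Pi.add_apply, Pi.smul_apply, smul_eq_mul, dbl, ovec]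
      have h1 := hb i
      rw [ha i]
      by_cases hi : i = none
      · rw [if_pos hi, if_pos hi]; linarith
      · rw [if_neg hi, if_neg hi]; linarith
    rw [key]
    refine add_mem (add_mem (zsmul_mem ovec_mem_Lmin m) (dbl_mem_Lmin _ hc)) (four_mul_mem _ ?_)
    rw [Finset.sum_add_distrib, Finset.sum_ite_eq' Finset.univ (none : GolayPt)]
    simp only [Finset.mem_univ, if_true]
    have h2 : 2 * ∑ i, b i = ∑ i, a i - ∑ i, lift01 (red2 a) i := by
      rw [Finset.mul_sum, ← Finset.sum_sub_distrib]
      exact Finset.sum_congr rfl (fun i _ => (hb i).symm)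
    rw [sum_lift01] at h2
    have h3 : (4 : ℤ) ∣ ((support₂ (red2 a)).card : ℤ) := by
      exact_mod_cast golay_weight_dvd hc
    omega

end Cfsg.Agent.S1567
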