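import Mathlib
import Cfsg.Statements.S1568
import Cfsg.Agent.Lib.Helper27.Leech48

set_option autoImplicit false
open Cfsg

namespace Cfsg.Agent.S1568

open Cfsg.Agent.Helper27

theorem set_eq_of (P : (GolayPt → ℤ) → Prop) (F : Finset (GolayPt → ℤ)) (hF : F ⊆ F48)
    (h1 : ∀ x ∈ F, P x) (h2 : ∀ x ∈ F48, P x → x ∈ F) :
    {x : GolayPt → ℤ | x ∈ leechLattice ∧ sqNorm x = 48 ∧ P x} = ↑F := by
  ext x
  have key : (x ∈ leechLattice ∧ sqNorm x = 48) ↔ x ∈ F48 := by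
    have := norm48_eq
    rw [Set.ext_iff] at this
    simpa using this x
  rw [Finset.mem_coe]
  constructor
  · rintro ⟨hx, hn, hP⟩
    exact h2 x (key.mp ⟨hx, hn⟩) hP
  · intro hx
    obtain ⟨h3, h4⟩ := key.mpr (hF hx)
    exact ⟨h3, h4, h1 x hx⟩

theorem famE_even {s u v : ℕ} {x : GolayPt → ℤ} (hx : x ∈ famE s u v) (i : GolayPt) :
    (2 : ℤ) ∣ x i := by
  obtain ⟨p, q, N, -, -, -, -, -, -, rfl⟩ := famE_elim hx
  exact ⟨_, rfl⟩

theorem famO_odd {n3 n5 : ℕ} {x : GolayPt → ℤ} (hx : x ∈ famO n3 n5) (i : GolayPt) :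
    ¬ (2 : ℤ) ∣ x i := by
  obtain ⟨J3, J5, w, -, -, -, -, rfl⟩ := famO_elim hx
  unfold oddVec
  omega

theorem famE_12_coords {x : GolayPt → ℤ} (hx : x ∈ famE 12 0 0) (i : GolayPt) :
    x i = 0 ∨ x i = 2 ∨ x i = -2 := by
  obtain ⟨p, q, N, -, -, hu, hv, -, -, rfl⟩ := famE_elim hx
  have hq : q = ∅ := by
    have := Finset.card_sdiff_add_card_inter q p
    rw [hu, hv] at this
    exact Finset.card_eq_zero.mp this.symm
  subst hq
  have h1 := evVec_abs p ∅ N i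
  simp only [Finset.notMem_empty, if_false, add_zero] at h1
  have h2 : |evVec p ∅ N i| ≤ 1 := by
    rw [h1]; split_ifs <;> norm_num
  have h3 := abs_le.mp h2
  simp only
  omega

theorem famE_8_has4 {x : GolayPt → ℤ} (hx : x ∈ famE 8 1 0) : ∃ i, |x i| = 4 := by
  obtain ⟨p, q, N, -, -, hu, hv, -, -, rfl⟩ := famE_elim hx
  obtain ⟨i, hi⟩ := Finset.card_eq_one.mp hu
  have hi' : i ∈ q \ p := by rw [hi]; exact Finset.mem_singleton_self i
  rw [Finset.mem_sdiff] at hi'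
  refine ⟨i, ?_⟩
  have h1 := evVec_abs p q N i
  rw [if_neg hi'.2, if_pos hi'.1] at h1
  simp only
  rw [abs_mul, h1]
  norm_num

theorem famO_3_has {x : GolayPt → ℤ} (hx : x ∈ famO 3 0) :
    ∃ i j k, i ≠ j ∧ j ≠ k ∧ i ≠ k ∧ |x i| = 3 ∧ |x j| = 3 ∧ |x k| = 3 := by
  obtain ⟨J3, J5, w, -, hd, h3, h5, rfl⟩ := famO_elim hx
  have hJ5 : J5 = ∅ := Finset.card_eq_zero.mp h5
  obtain ⟨i, j, k, hij, hik, hjk, hJ⟩ := Finset.card_eq_three.mp h3
  have hval : ∀ l ∈ J3, |oddVec J3 J5 w l| = 3 := by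
    intro l hl
    rw [oddVec_abs hd, hJ5, if_neg (Finset.notMem_empty l), if_pos hl]
  refine ⟨i, j, k, hij, hjk, hik, hval i ?_, hval j ?_, hval k ?_⟩ <;> rw [hJ] <;> simp

theorem famO_3_coords {x : GolayPt → ℤ} (hx : x ∈ famO 3 0) (i : GolayPt) :
    |x i| = 3 ∨ |x i| = 1 := by
  obtain ⟨J3, J5, w, -, hd, h3, h5, rfl⟩ := famO_elim hx
  have hJ5 : J5 = ∅ := Finset.card_eq_zero.mp h5
  rw [oddVec_abs hd, hJ5, if_neg (Finset.notMem_empty i)]
  split_ifs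
  · left; rfl
  · right; rfl

theorem famO_1_has {x : GolayPt → ℤ} (hx : x ∈ famO 0 1) : ∃ i, |x i| = 5 := by
  obtain ⟨J3, J5, w, -, hd, h3, h5, rfl⟩ := famO_elim hx
  obtain ⟨i, hi⟩ := Finset.card_eq_one.mp h5
  refine ⟨i, ?_⟩
  rw [oddVec_abs hd, if_pos (by rw [hi]; exact Finset.mem_singleton_self i)]

theorem famO_1_coords {x : GolayPt → ℤ} (hx : x ∈ famO 0 1) (i : GolayPt) :
    |x i| = 5 ∨ |x i| = 1 := by
  obtain ⟨J3, J5, w, -, hd, h3, h5, rfl⟩ := famO_elim hx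
  have hJ3 : J3 = ∅ := Finset.card_eq_zero.mp h3
  rw [oddVec_abs hd, hJ3]
  split_ifs
  · left; rfl
  · exact absurd ‹_› (Finset.notMem_empty i)
  · right; rfl

theorem mem_F48 {x : GolayPt → ℤ} :
    x ∈ F48 ↔ x ∈ famE 12 0 0 ∨ x ∈ famE 8 1 0 ∨ x ∈ famO 3 0 ∨ x ∈ famO 0 1 := by
  unfold F48
  rw [Finset.mem_union, Finset.mem_union, Finset.mem_union]
  tauto

theorem abs_even_ne {a : ℤ} (h : (2 : ℤ) ∣ a) {k : ℤ} (hk : ¬ (2 : ℤ) ∣ k) : |a| ≠ k := by
  intro h1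
  rcases abs_choice a with h2 | h2 <;> rw [h2] at h1 <;> omega

theorem abs_odd_ne {a : ℤ} (h : ¬ (2 : ℤ) ∣ a) {k : ℤ} (hk : (2 : ℤ) ∣ k) : |a| ≠ k := by
  intro h1
  rcases abs_choice a with h2 | h2 <;> rw [h2] at h1 <;> omega

/-- Shape census of the lattice vectors of sum of squares 48 (customary norm 6): the four families (2^12, 0^12), (±3^3, ±1^21), (±4, ±2^8, 0^15) and (±5, ±1^23) have 5275648, 8290304, 3108864 and 98304 members. -/
theorem result : {x : Cfsg.GolayPt → ℤ | x ∈ Cfsg.leechLattice ∧ Cfsg.sqNorm x = 48 ∧ ∀ i, x i = 0 ∨ x i = 2 ∨ x i = -2}.ncard = 5275648 ∧ {x : Cfsg.GolayPt → ℤ | x ∈ Cfsg.leechLattice ∧ Cfsg.sqNorm x = 48 ∧ ∃ i j k, i ≠ j ∧ j ≠ k ∧ i ≠ k ∧ |x i| = 3 ∧ |x j| = 3 ∧ |x k| = 3}.ncard = 8290304 ∧ {x : Cfsg.GolayPt → ℤ | x ∈ Cfsg.leechLattice ∧ Cfsg.sqNorm x = 48 ∧ ∃ i, |x i| = 4}.ncard = 3108864 ∧ {x : Cfsg.GolayPt → ℤ | x ∈ Cfsg.leechLattice ∧ Cfsg.sqNorm x = 48 ∧ ∃ i,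 |x i| = 5}.ncard = 98304 := by
  refine ⟨?_, ?_, ?_, ?_⟩
  · rw [set_eq_of (fun x => ∀ i, x i = 0 ∨ x i = 2 ∨ x i = -2) (famE 12 0 0), Set.ncard_coe_finset,
      card_famE_12_0_0]
    · intro x hx; exact mem_F48.mpr (Or.inl hx)
    · intro x hx; exact famE_12_coords hx
    · intro x hx hP
      rcases mem_F48.mp hx with h | h | h | h
      · exact h
      · obtain ⟨i, hi⟩ := famE_8_has4 h
        rcases hP i with h1 | h1 | h1 <;> rw [h1] at hi <;> norm_num at hi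
      · have := famO_odd h none
        rcases hP none with h1 | h1 | h1 <;> rw [h1] at this <;> norm_num at this
      · have := famO_odd h none
        rcases hP none with h1 | h1 | h1 <;> rw [h1] at this <;> norm_num at this
  · rw [set_eq_of (fun x => ∃ i j k, i ≠ j ∧ j ≠ k ∧ i ≠ k ∧ |x i| = 3 ∧ |x j| = 3 ∧ |x k| = 3)
      (famO 3 0), Set.ncard_coe_finset, card_famO_3_0]
    · intro x hx; exact mem_F48.mpr (Or.inr (Or.inr (Or.inl hx)))
    · intro x hx; exact famO_3_has hx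
    · rintro x hx ⟨i, -, -, -, -, -, hi, -, -⟩
      rcases mem_F48.mp hx with h | h | h | h
      · exact absurd hi (abs_even_ne (famE_even h i) (by norm_num))
      · exact absurd hi (abs_even_ne (famE_even h i) (by norm_num))
      · exact h
      · rcases famO_1_coords h i with h1 | h1 <;> rw [h1] at hi <;> norm_num at hi
  · rw [set_eq_of (fun x => ∃ i, |x i| = 4) (famE 8 1 0), Set.ncard_coe_finset, card_famE_8_1_0]
    · intro x hx; exact mem_F48.mpr (Or.inr (Or.inl hx))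
    · intro x hx; exact famE_8_has4 hx
    · rintro x hx ⟨i, hi⟩
      rcases mem_F48.mp hx with h | h | h | h
      · rcases famE_12_coords h i with h1 | h1 | h1 <;> rw [h1] at hi <;> norm_num at hi
      · exact h
      · exact absurd hi (abs_odd_ne (famO_odd h i) (by norm_num))
      · exact absurd hi (abs_odd_ne (famO_odd h i) (by norm_num))
  · rw [set_eq_of (fun x => ∃ i, |x i| = 5) (famO 0 1), Set.ncard_coe_finset, card_famO_0_1]
    · intro x hx; exact mem_F48.mpr (Or.inr (Or.inr (Or.inr hx)))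
    · intro x hx; exact famO_1_has hx
    · rintro x hx ⟨i, hi⟩
      rcases mem_F48.mp hx with h | h | h | h
      · exact absurd hi (abs_even_ne (famE_even h i) (by norm_num))
      · exact absurd hi (abs_even_ne (famE_even h i) (by norm_num))
      · rcases famO_3_coords h i with h1 | h1 <;> rw [h1] at hi <;> norm_num at hi
      · exact h

end Cfsg.Agent.S1568
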