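import Mathlib
import Cfsg.Statements.S1573
import Cfsg.Agent.Lib.Helper27.LeechPairs3

set_option autoImplicit false
set_option maxRecDepth 8000
open Cfsg

namespace Cfsg.Agent.S1573

open Cfsg.Agent.Helper27

theorem set_eq (v : GolayPt → ℤ) (t : ℤ) :
    {w : GolayPt → ℤ | w ∈ leechLattice ∧ sqNorm w = 32 ∧ dotInt v w = t} =
      ↑(F32.filter (fun w => dotInt v w = t)) := by
  ext w
  rw [Finset.mem_coe, Finset.mem_filter, mem_F32]
  constructor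
  · rintro ⟨h1, h2, h3⟩; exact ⟨⟨h1, h2⟩, h3⟩
  · rintro ⟨⟨h1, h2⟩, h3⟩; exact ⟨h1, h2, h3⟩

/-- Census of minimal vectors by inner product with a fixed minimal vector: 4600 have customary inner product −2, 47104 have −1, and 93150 are orthogonal. -/
theorem result (v : Cfsg.GolayPt → ℤ) (hv : v ∈ Cfsg.leechLattice) (hvn : Cfsg.sqNorm v = 32) : {w : Cfsg.GolayPt → ℤ | w ∈ Cfsg.leechLattice ∧ Cfsg.sqNorm w = 32 ∧ Cfsg.dotInt v w = -16}.ncard = 4600 ∧ {w : Cfsg.GolayPt → ℤ | w ∈ Cfsg.leechLattice ∧ Cfsg.sqNorm w = 32 ∧ Cfsg.dotInt v w = -8}.ncard = 47104 ∧ {w : Cfsg.GolayPt → ℤ | w ∈ Cfsg.leechLattice ∧ Cfsg.sqNorm w = 32 ∧ Cfsg.dotInt v w = 0}.ncard = 93150 := by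
  have hv' : v ∈ F32 := mem_F32.mpr ⟨hv, hvn⟩
  rw [set_eq, set_eq, set_eq, Set.ncard_coe_finset, Set.ncard_coe_finset, Set.ncard_coe_finset]
  exact ⟨cntDot_neg_sixteen hv', cntDot_neg_eight hv', cntDot_zero hv'⟩

end Cfsg.Agent.S1573
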