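import Mathlib
import Cfsg.Statements.S1578
import Cfsg.Agent.Lib.Helper27.LeechPairs2

set_option autoImplicit false
set_option maxRecDepth 8000
open Cfsg

namespace Cfsg.Agent.S1578

open Cfsg.Agent.Helper27

/-- A lattice vector of customary norm 6 is the sum of an unordered pair of minimal vectors in exactly 276 ways (552 ordered summands). -/
theorem result (u : ↥Cfsg.leechLattice) (hu : Cfsg.sqNorm (u : Cfsg.GolayPt → ℤ) = 48) : {v : ↥Cfsg.leechLattice | Cfsg.sqNorm (v : Cfsg.GolayPt → ℤ) = 32 ∧ Cfsg.sqNorm ((u - v) : Cfsg.GolayPt → ℤ) = 32}.ncard = 552 := by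
  have key := cntDot_norm48 u.2 hu
  unfold cntDot at key
  rw [← key, ← ncard_subtype_eq]
  · congr 1
    ext v
    simp only [Set.mem_setOf_eq]
    rw [Finset.mem_filter, mem_F32]
    have h1 : sqNorm ((u : GolayPt → ℤ) - (v : GolayPt → ℤ)) =
        sqNorm (u : GolayPt → ℤ) + sqNorm (v : GolayPt → ℤ) - 2 * dotInt (u : GolayPt → ℤ) v :=
      Cfsg.Agent.Helper27.sqNorm_sub' _ _
    rw [hu] at h1
    constructor
    · rintro ⟨h2, h3⟩
      refine ⟨⟨v.2, h2⟩, ?_⟩
      have : sqNorm ((u : GolayPt → ℤ) - (v : GolayPt → ℤ)) = 32 := h3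
      omega
    · rintro ⟨⟨-, h2⟩, h3⟩
      refine ⟨h2, ?_⟩
      show sqNorm ((u : GolayPt → ℤ) - (v : GolayPt → ℤ)) = 32
      omega
  · intro x hx
    exact (mem_F32.mp (Finset.mem_filter.mp hx).1).1

end Cfsg.Agent.S1578
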