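import Mathlib
import Cfsg.Statements.S1579
import Cfsg.Agent.Lib.Helper27.LeechFrame3

set_option autoImplicit false
open Cfsg

namespace Cfsg.Agent.S1579

open Cfsg.Agent.Helper27

theorem aux (u v : leechLattice) (hu : sqNorm (u : GolayPt → ℤ) = 48)
    (hv : sqNorm (v : GolayPt → ℤ) = 32 ∧ sqNorm ((u : GolayPt → ℤ) - (v : GolayPt → ℤ)) = 32) :
    CoEq2 v.1 (u - v : leechLattice).1 v44 (m3 (some 0)) := by
  have h1 := Cfsg.Agent.Helper27.sqNorm_sub' (u : GolayPt → ℤ) (v : GolayPt → ℤ)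
  rw [hu, hv.1, hv.2] at h1
  apply pair_m8 v.2 (u - v).2 hv.1 hv.2
  show dotInt (v : GolayPt → ℤ) ((u : GolayPt → ℤ) - (v : GolayPt → ℤ)) = -8
  rw [dotInt_sub_right', dotInt_self', hv.1, dotInt_comm']
  omega

theorem result (u v v' : ↥Cfsg.leechLattice) (hu : Cfsg.sqNorm (u : Cfsg.GolayPt → ℤ) = 48) (hv : Cfsg.sqNorm (v : Cfsg.GolayPt → ℤ) = 32 ∧ Cfsg.sqNorm ((u - v) : Cfsg.GolayPt → ℤ) = 32) (hv' : Cfsg.sqNorm (v' : Cfsg.GolayPt → ℤ) = 32 ∧ Cfsg.sqNorm ((u - v') : Cfsg.GolayPt → ℤ) = 32) : ∃ g : ↥Cfsg.Co0, g • u = u ∧ g • v = v' := by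
  obtain ⟨g, h1, h2⟩ := exists_smul_of_coEq2' (aux u v hu hv) (aux u v' hu hv')
  refine ⟨g, ?_, h1⟩
  have e : u = v + (u - v) := by abel
  have e' : u = v' + (u - v') := by abel
  have hadd : g • (v + (u - v)) = g • v + g • (u - v) := co0_add g.2 v (u - v)
  calc g • u = g • (v + (u - v)) := by rw [← e]
    _ = g • v + g • (u - v) := hadd
    _ = v' + (u - v') := by rw [h1, h2]
    _ = u := e'.symm

end Cfsg.Agent.S1579
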