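import Mathlib
import Cfsg.Statements.S1582
import Cfsg.Agent.Lib.Helper15.McLU4c
import Cfsg.Agent.Lib.Helper15.McLU4e

set_option autoImplicit false
open Cfsg

namespace Cfsg.Agent.S1582

open Cfsg.Agent.Helper15.McLU4 Cfsg.Agent.Helper27 in
/-- The point stabiliser in the rank-3 action of the McLaughlin group on 275 points is isomorphic to PSU(4, 3). -/
theorem result (u v x : ↥Cfsg.leechLattice) (hu : Cfsg.sqNorm (u : Cfsg.GolayPt → ℤ) = 48) (hv : Cfsg.sqNorm (v : Cfsg.GolayPt → ℤ) = 32 ∧ Cfsg.sqNorm ((u - v) : Cfsg.GolayPt → ℤ) = 32) (hx : x ∈ {x : ↥Cfsg.leechLattice | Cfsg.sqNorm (x : Cfsg.GolayPt → ℤ) = 32 ∧ Cfsg.sqNorm ((u - x) : Cfsg.GolayPt → ℤ) = 32 ∧ Cfsg.dotInt (v : Cfsg.GolayPt → ℤ) (x : Cfsg.GolayPt → ℤ) = 16}) (F : Type) [Field F] [Fintype F] (hF : Fintype.card F = 9) : Nonempty (↥(MulAction.stabilizer ↥Cfsg.Co0 u ⊓ MulAction.stabilizer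 ↥Cfsg.Co0 v ⊓ MulAction.stabilizer ↥Cfsg.Co0 x) ≃* Cfsg.PSU 4 F 3) := by
  have hxm : x ∈ mclSet u v := by
    obtain ⟨h1, h2, h3⟩ := hx
    exact ⟨h1, by rw [AddSubgroup.coe_sub]; exact h2, h3⟩
  have huv : sqNorm ((u - v : leechLattice) : GolayPt → ℤ) = 32 := by
    rw [AddSubgroup.coe_sub]; exact hv.2
  obtain ⟨e1⟩ := stab_conj hu hv.1 huv hxm
  obtain ⟨e2⟩ := stab_equiv
  obtain ⟨e3⟩ := psu_equiv (K := F) hF
  exact ⟨e1.trans (e2.trans e3.symm)⟩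

end Cfsg.Agent.S1582
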