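import Mathlib
import Cfsg.Statements.S1583
import Cfsg.Agent.Lib.Helper27.LeechHS

set_option autoImplicit false
open Cfsg

namespace Cfsg.Agent.S1583

open Cfsg.Agent.Helper27

theorem result (v w : ↥Cfsg.leechLattice) (hv : Cfsg.sqNorm (v : Cfsg.GolayPt → ℤ) = 48) (hw : Cfsg.sqNorm (w : Cfsg.GolayPt → ℤ) = 48) (hvw : Cfsg.dotInt (v : Cfsg.GolayPt → ℤ) (w : Cfsg.GolayPt → ℤ) = -32) : {x : ↥Cfsg.leechLattice | Cfsg.sqNorm (x : Cfsg.GolayPt → ℤ) = 32 ∧ Cfsg.dotInt (v : Cfsg.GolayPt → ℤ) (x : Cfsg.GolayPt → ℤ) = 24 ∧ Cfsg.dotInt (w : Cfsg.GolayPt → ℤ) (x : Cfsg.GolayPt → ℤ) = -24}.ncard = 100 ∧ ∀ x ∈ {x : ↥Cfsg.leechLattice | Cfsg.sqNorm (x : Cfsg.GolayPt → ℤ) = 32 ∧ Cfsg.dotInt (v : Cfsg.GolayPt → ℤ) (x : Cfsg.GolayPt → ℤ) = 24 ∧ Cfsg.dotInt (w : Cfsg.GolayPt → ℤ) (x : Cfsg.GolayPt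 → ℤ) = -24}, ∀ x' ∈ {x : ↥Cfsg.leechLattice | Cfsg.sqNorm (x : Cfsg.GolayPt → ℤ) = 32 ∧ Cfsg.dotInt (v : Cfsg.GolayPt → ℤ) (x : Cfsg.GolayPt → ℤ) = 24 ∧ Cfsg.dotInt (w : Cfsg.GolayPt → ℤ) (x : Cfsg.GolayPt → ℤ) = -24}, ∃ g : ↥Cfsg.Co0, g • v = v ∧ g • w = w ∧ g • x = x' := by
  refine ⟨ncard_hsSet hv hw hvw, ?_⟩
  intro x hx x' hx'
  obtain ⟨g1, a1, a2, a3⟩ := hsSet_trans hv hw hvw hx
  obtain ⟨g2, b1, b2, b3⟩ := hsSet_trans hv hw hvw hx'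
  have hgv : (g2⁻¹ * g1) • v = v := by rw [mul_smul, a1, ← b1, inv_smul_smul]
  have hgs : (g2⁻¹ * g1) • (v + w) = v + w := by rw [mul_smul, a2, ← b2, inv_smul_smul]
  refine ⟨g2⁻¹ * g1, hgv, ?_, ?_⟩
  · rw [smul_add', hgv] at hgs
    exact add_left_cancel hgs
  · rw [mul_smul, a3, ← b3, inv_smul_smul]

end Cfsg.Agent.S1583
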