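import Mathlib
import Cfsg.Statements.S1585
import Cfsg.Agent.Lib.Helper27.LeechFrame4

set_option autoImplicit false
open Cfsg

namespace Cfsg.Agent.S1585

open Cfsg.Agent.Helper27

theorem result (v w : ↥Cfsg.leechLattice) (hv : Cfsg.sqNorm (v : Cfsg.GolayPt → ℤ) = 48) (hw : Cfsg.sqNorm (w : Cfsg.GolayPt → ℤ) = 48) (hvw : Cfsg.dotInt (v : Cfsg.GolayPt → ℤ) (w : Cfsg.GolayPt → ℤ) = -32) : ∃ g : ↥Cfsg.Co0, g • v = w ∧ g • w = v := by
  have hxn : sqNorm ((v + w : leechLattice) : GolayPt → ℤ) = 32 := by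
    show sqNorm ((v : GolayPt → ℤ) + (w : GolayPt → ℤ)) = 32
    rw [sqNorm_add, hv, hw, hvw]; norm_num
  have h1 : dotInt (v : GolayPt → ℤ) ((v + w : leechLattice) : GolayPt → ℤ) = 16 := by
    show dotInt (v : GolayPt → ℤ) ((v : GolayPt → ℤ) + (w : GolayPt → ℤ)) = 16
    rw [dotInt_add_right', dotInt_self', hv, hvw]; norm_num
  have h2 : dotInt (w : GolayPt → ℤ) ((v + w : leechLattice) : GolayPt → ℤ) = 16 := by
    show dotInt (w : GolayPt → ℤ) ((v : GolayPt → ℤ) + (w : GolayPt → ℤ)) = 16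
    rw [dotInt_add_right', dotInt_self', hw, dotInt_comm', hvw]; norm_num
  obtain ⟨g, e1, e2⟩ := exists_smul_of_coEq2' (pair_u5 v.2 (v + w).2 hv hxn h1)
    (pair_u5 w.2 (v + w).2 hw hxn h2)
  refine ⟨g, e1, ?_⟩
  have hadd : g • (v + w) = g • v + g • w := co0_add g.2 v w
  rw [e2, e1] at hadd
  -- v + w = w + g • w
  have : g • w = v + w - w := by rw [hadd]; abel
  rw [this]; abel

end Cfsg.Agent.S1585
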