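import Mathlib
import Cfsg.Statements.S1587

set_option autoImplicit false
open Matrix
open Cfsg

namespace Cfsg.Agent.S1587

theorem symm_aux (B : Matrix (Fin 24) (Fin 24) ℤ) (hsymm : B.IsSymm) (x y : Fin 24 → ℤ) :
    x ⬝ᵥ (B *ᵥ y) = y ⬝ᵥ (B *ᵥ x) := by
  rw [Matrix.dotProduct_mulVec, ← Matrix.mulVec_transpose, hsymm.eq, dotProduct_comm]

/-- First step of the characterisation of the rank-24 lattice: in an even lattice without roots, norm-8 vectors congruent modulo 2 are equal, opposite or orthogonal. -/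
theorem result (B : Matrix (Fin 24) (Fin 24) ℤ) (hsymm : B.IsSymm) (hpos : ∀ x : Fin 24 → ℤ, x ≠ 0 → 0 < x ⬝ᵥ (B *ᵥ x)) (heven : ∀ x : Fin 24 → ℤ, (2 : ℤ) ∣ x ⬝ᵥ (B *ᵥ x)) (h2 : ∀ x : Fin 24 → ℤ, x ⬝ᵥ (B *ᵥ x) ≠ 2) (x y : Fin 24 → ℤ) (hx : x ⬝ᵥ (B *ᵥ x) = 8) (hy : y ⬝ᵥ (B *ᵥ y) = 8) (hc : ∀ i, (2 : ℤ) ∣ (x - y) i) : y = x ∨ y = -x ∨ x ⬝ᵥ (B *ᵥ y) = 0 := by
  choose z hz using hc
  set w : Fin 24 → ℤ := x - z with hw
  have hxy : x - y = (2 : ℤ) • z := by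
    funext i; simp [hz i]
  have hxy' : x + y = (2 : ℤ) • w := by
    have : y = x - (2 : ℤ) • z := by rw [← hxy]; abel
    rw [this, hw]
    funext i; simp; ring
  set b := x ⬝ᵥ (B *ᵥ y) with hb
  have hb' : y ⬝ᵥ (B *ᵥ x) = b := symm_aux B hsymm y x
  have e1 : (x - y) ⬝ᵥ (B *ᵥ (x - y)) = 16 - 2 * b := by
    rw [Matrix.mulVec_sub, dotProduct_sub, sub_dotProduct, sub_dotProduct, hx, hy, hb', ← hb]
    ring
  have e2 : (x + y) ⬝ᵥ (B *ᵥ (x + y)) = 16 + 2 * b := by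
    rw [Matrix.mulVec_add, dotProduct_add, add_dotProduct, add_dotProduct, hx, hy, hb', ← hb]
    ring
  have e3 : ((2 : ℤ) • z) ⬝ᵥ (B *ᵥ ((2 : ℤ) • z)) = 4 * (z ⬝ᵥ (B *ᵥ z)) := by
    rw [Matrix.mulVec_smul, dotProduct_smul, smul_dotProduct]
    simp; ring
  have e4 : ((2 : ℤ) • w) ⬝ᵥ (B *ᵥ ((2 : ℤ) • w)) = 4 * (w ⬝ᵥ (B *ᵥ w)) := by
    rw [Matrix.mulVec_smul, dotProduct_smul, smul_dotProduct]
    simp; ring
  rw [hxy, e3] at e1
  rw [hxy', e4] at e2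
  have nz : 0 ≤ z ⬝ᵥ (B *ᵥ z) := by
    by_cases h : z = 0
    · subst h; simp
    · exact (hpos z h).le
  have nw : 0 ≤ w ⬝ᵥ (B *ᵥ w) := by
    by_cases h : w = 0
    · rw [h]; simp
    · exact (hpos w h).le
  obtain ⟨kz, hkz⟩ := heven z
  obtain ⟨kw, hkw⟩ := heven w
  have h2z := h2 z
  have h2w := h2 w
  have hsum : z ⬝ᵥ (B *ᵥ z) + w ⬝ᵥ (B *ᵥ w) = 8 := by linarith
  -- case analysis on kz
  have hkz0 : 0 ≤ kz := by omega
  have hkw0 : 0 ≤ kw := by omega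
  have hk : kz + kw = 4 := by omega
  have hkz1 : kz ≠ 1 := by omega
  have hkw1 : kw ≠ 1 := by omega
  have cases3 : kz = 0 ∨ kz = 2 ∨ kz = 4 := by omega
  rcases cases3 with h | h | h
  · left
    have hz0 : z = 0 := by
      by_contra hne
      have := hpos z hne
      rw [hkz, h] at this
      simp at this
    rw [hz0] at hxy
    simp at hxy
    exact (sub_eq_zero.mp hxy).symm
  · right; right
    rw [hkz, h] at e1
    linarith
  · right; left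
    have hkw' : kw = 0 := by omega
    have hw0 : w = 0 := by
      by_contra hne
      have := hpos w hne
      rw [hkw, hkw'] at this
      simp at this
    rw [hw0] at hxy'
    simp at hxy'
    exact eq_neg_of_add_eq_zero_right hxy'

end Cfsg.Agent.S1587
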