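import Mathlib
import Cfsg.Statements.S1588

set_option autoImplicit false
open Matrix
open Cfsg

namespace Cfsg.Agent.S1588

/-- The quadratic form of a Gram matrix. -/
def q (B : Matrix (Fin 24) (Fin 24) ℤ) (x : Fin 24 → ℤ) : ℤ := x ⬝ᵥ (B *ᵥ x)

/-- The bilinear form of a Gram matrix. -/
def bl (B : Matrix (Fin 24) (Fin 24) ℤ) (x y : Fin 24 → ℤ) : ℤ := x ⬝ᵥ (B *ᵥ y)

section

variable {B : Matrix (Fin 24) (Fin 24) ℤ}

theorem bl_comm (hsymm : B.IsSymm) (x y : Fin 24 → ℤ) : bl B x y = bl B y x := by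
  unfold bl
  rw [Matrix.dotProduct_mulVec, ← Matrix.mulVec_transpose, hsymm.eq, dotProduct_comm]

theorem bl_add_left (x y z : Fin 24 → ℤ) : bl B (x + y) z = bl B x z + bl B y z := by
  unfold bl; rw [add_dotProduct]

theorem bl_add_right (x y z : Fin 24 → ℤ) : bl B x (y + z) = bl B x y + bl B x z := by
  unfold bl; rw [Matrix.mulVec_add, dotProduct_add]

theorem bl_smul_left (c : ℤ) (x y : Fin 24 → ℤ) : bl B (c • x) y = c * bl B x y := by
  unfold bl; rw [smul_dotProduct, smul_eq_mul]

theorem bl_smul_right (c : ℤ) (x y : Fin 24 → ℤ) : bl B x (c • y) = c * bl B x y := by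
  unfold bl; rw [Matrix.mulVec_smul, dotProduct_smul, smul_eq_mul]

theorem bl_neg_right (x y : Fin 24 → ℤ) : bl B x (-y) = -bl B x y := by
  unfold bl; rw [Matrix.mulVec_neg, dotProduct_neg]

theorem bl_neg_left (x y : Fin 24 → ℤ) : bl B (-x) y = -bl B x y := by
  unfold bl; rw [neg_dotProduct]

theorem bl_zero_left (y : Fin 24 → ℤ) : bl B 0 y = 0 := by
  unfold bl; rw [zero_dotProduct]

theorem bl_sum_left {ι : Type*} (s : Finset ι) (f : ι → Fin 24 → ℤ) (y : Fin 24 → ℤ) :
    bl B (∑ i ∈ s, f i) y = ∑ i ∈ s, bl B (f i) y := by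
  classical
  induction s using Finset.induction_on with
  | empty => simp [bl_zero_left]
  | insert a s ha ih => rw [Finset.sum_insert ha, Finset.sum_insert ha, bl_add_left, ih]

theorem q_eq (x : Fin 24 → ℤ) : q B x = bl B x x := rfl

theorem q_add (hsymm : B.IsSymm) (x y : Fin 24 → ℤ) :
    q B (x + y) = q B x + q B y + 2 * bl B x y := by
  rw [q_eq, q_eq, q_eq, bl_add_left, bl_add_right, bl_add_right, bl_comm hsymm y x]
  ring

theorem q_neg (x : Fin 24 → ℤ) : q B (-x) = q B x := by
  rw [q_eq, q_eq, bl_neg_left, bl_neg_right, neg_neg]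

theorem q_sub (hsymm : B.IsSymm) (x y : Fin 24 → ℤ) :
    q B (x - y) = q B x + q B y - 2 * bl B x y := by
  rw [sub_eq_add_neg, q_add hsymm, q_neg, bl_neg_right]
  ring

theorem q_two_smul (z : Fin 24 → ℤ) : q B ((2 : ℤ) • z) = 4 * q B z := by
  rw [q_eq, q_eq, bl_smul_left, bl_smul_right]
  ring

theorem q_zero : q B 0 = 0 := by
  rw [q_eq, bl_zero_left]

end

/-- The hypotheses on the Gram matrix. -/
structure Hyp (B : Matrix (Fin 24) (Fin 24) ℤ) : Prop where
  symm : B.IsSymm
  pos : ∀ x : Fin 24 → ℤ, x ≠ 0 → 0 < q B x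
  even : ∀ x : Fin 24 → ℤ, (2 : ℤ) ∣ q B x
  no2 : ∀ x : Fin 24 → ℤ, q B x ≠ 2

section

variable {B : Matrix (Fin 24) (Fin 24) ℤ} (h : Hyp B)

include h

theorem min_norm {x : Fin 24 → ℤ} (hx : x ≠ 0) : 4 ≤ q B x := by
  have h1 := h.pos x hx
  have h2 := h.even x
  have h3 := h.no2 x
  omega

theorem q_eq_zero_iff (x : Fin 24 → ℤ) : q B x = 0 ↔ x = 0 := by
  constructor
  · intro hq
    by_contra hx
    have := h.pos x hx
    omega
  · intro hx; rw [hx]; exact q_zero

theorem short_cong {x y z : Fin 24 → ℤ} (hx : q B x ≤ 8) (hy : q B y ≤ 8)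
    (hxy : x - y = (2 : ℤ) • z) :
    x = y ∨ x = -y ∨ (q B x = 8 ∧ q B y = 8 ∧ bl B x y = 0) := by
  by_cases hz0 : z = 0
  · left
    rw [hz0, smul_zero, sub_eq_zero] at hxy
    exact hxy
  have hxy' : x + y = (2 : ℤ) • (z + y) := by
    have : x = y + (2 : ℤ) • z := by rw [← hxy]; abel
    rw [this, smul_add, two_smul ℤ y]
    abel
  by_cases hz0' : z + y = 0
  · right; left
    rw [hz0', smul_zero] at hxy'
    exact eq_neg_of_add_eq_zero_left hxy'
  right; right
  have h1 := min_norm h hz0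
  have h2 := min_norm h hz0'
  have h3 := q_sub h.symm x y
  have h4 := q_add h.symm x y
  rw [hxy, q_two_smul] at h3
  rw [hxy', q_two_smul] at h4
  refine ⟨by omega, by omega, by omega⟩

theorem card_le_of_pairwise_orth {ι : Type*} [Fintype ι] (v : ι → Fin 24 → ℤ)
    (h0 : ∀ i, v i ≠ 0) (ho : ∀ i j, i ≠ j → bl B (v i) (v j) = 0) : Fintype.card ι ≤ 24 := by
  classical
  have hli : LinearIndependent ℤ v := by
    rw [Fintype.linearIndependent_iff]
    intro g hg i0
    have h1 : bl B (∑ i, g i • v i) (v i0) = 0 := by rw [hg, bl_zero_left]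
    rw [bl_sum_left, Finset.sum_eq_single i0] at h1
    · rw [bl_smul_left] at h1
      have h3 : bl B (v i0) (v i0) ≠ 0 := by
        have := h.pos (v i0) (h0 i0)
        unfold q at this
        unfold bl
        omega
      exact (mul_eq_zero.mp h1).resolve_right h3
    · intro i _ hi
      rw [bl_smul_left, ho i i0 hi, mul_zero]
    · intro hc; exact absurd (Finset.mem_univ i0) hc
  have := hli.fintype_card_le_finrank
  rw [Module.finrank_fintype_fun_eq_card ℤ, Fintype.card_fin] at this
  exact this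

omit h in
/-- The unordered pair `{x, -x}`. -/
def pmPair (x : Fin 24 → ℤ) : Finset (Fin 24 → ℤ) := {x, -x}

omit h in
theorem pmPair_eq_iff {x y : Fin 24 → ℤ} : pmPair x = pmPair y ↔ x = y ∨ x = -y := by
  unfold pmPair
  constructor
  · intro hh
    have : x ∈ ({y, -y} : Finset (Fin 24 → ℤ)) := by
      rw [← hh]; exact Finset.mem_insert_self _ _
    rw [Finset.mem_insert, Finset.mem_singleton] at this
    exact this
  · rintro (hh | hh)
    · rw [hh]
    · rw [hh, neg_neg, Finset.pair_comm]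

theorem card_le_of_orth (F : Finset (Fin 24 → ℤ)) (h0 : ∀ x ∈ F, x ≠ 0)
    (ho : ∀ x ∈ F, ∀ y ∈ F, x = y ∨ x = -y ∨ bl B x y = 0) : F.card ≤ 48 := by
  classical
  have h1 : F.card ≤ 2 * (F.image pmPair).card := by
    apply Finset.card_le_mul_card_image
    intro b hb
    rw [Finset.mem_image] at hb
    obtain ⟨x0, hx0, rfl⟩ := hb
    have : F.filter (fun a => pmPair a = pmPair x0) ⊆ ({x0, -x0} : Finset (Fin 24 → ℤ)) := by
      intro a ha
      rw [Finset.mem_filter, pmPair_eq_iff] at ha
      rw [Finset.mem_insert, Finset.mem_singleton]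
      exact ha.2
    exact (Finset.card_le_card this).trans Finset.card_le_two
  have h2 : (F.image pmPair).card ≤ 24 := by
    have hex : ∀ P : (F.image pmPair), ∃ x ∈ F, pmPair x = P.1 := by
      intro P
      exact Finset.mem_image.mp P.2
    choose r hr hrP using hex
    have := card_le_of_pairwise_orth h r (fun P => h0 _ (hr P)) (by
      intro P P' hPP'
      rcases ho (r P) (hr P) (r P') (hr P') with h3 | h3 | h3
      · exfalso; apply hPP'
        apply Subtype.ext
        rw [← hrP P, ← hrP P', h3]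
      · exfalso; apply hPP'
        apply Subtype.ext
        rw [← hrP P, ← hrP P']
        exact pmPair_eq_iff.mpr (Or.inr h3)
      · exact h3)
    rw [Fintype.card_coe] at this
    exact this
  omega

end

/-- Reduction modulo 2. -/
def red (x : Fin 24 → ℤ) : Fin 24 → ZMod 2 := fun i => (x i : ZMod 2)

theorem red_eq_iff (x y : Fin 24 → ℤ) :
    red x = red y ↔ ∃ z : Fin 24 → ℤ, x - y = (2 : ℤ) • z := by
  constructor
  · intro hh
    have h1 : ∀ i, (2 : ℤ) ∣ x i - y i := by
      intro i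
      have := congrFun hh i
      unfold red at this
      rw [ZMod.intCast_eq_intCast_iff_dvd_sub] at this
      have h2 : ((2 : ℕ) : ℤ) ∣ y i - x i := this
      have h3 : (2 : ℤ) ∣ y i - x i := by exact_mod_cast h2
      omega
    choose z hz using h1
    refine ⟨z, ?_⟩
    funext i
    rw [Pi.sub_apply, Pi.smul_apply, smul_eq_mul, hz i]
  · rintro ⟨z, hz⟩
    funext i
    unfold red
    rw [ZMod.intCast_eq_intCast_iff_dvd_sub]
    have := congrFun hz i
    rw [Pi.sub_apply, Pi.smul_apply, smul_eq_mul] at this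
    have h3 : (2 : ℤ) ∣ y i - x i := ⟨-z i, by linarith⟩
    exact_mod_cast h3

/-- The weights `48, 24, 24, 1`. -/
def wt (B : Matrix (Fin 24) (Fin 24) ℤ) (x : Fin 24 → ℤ) : ℕ :=
  if q B x = 0 then 48 else if q B x = 8 then 1 else 24

section

variable {B : Matrix (Fin 24) (Fin 24) ℤ} (h : Hyp B)
  (h4 : {x : Fin 24 → ℤ | q B x = 4}.ncard = 196560)
  (h6 : {x : Fin 24 → ℤ | q B x = 6}.ncard = 16773120)
  (h8 : {x : Fin 24 → ℤ | q B x = 8}.ncard = 398034000)

/-- Finite set of vectors of a given norm, once it is known to be finite. -/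
noncomputable def FN (B : Matrix (Fin 24) (Fin 24) ℤ) (n : ℤ)
    (hf : {x : Fin 24 → ℤ | q B x = n}.Finite) : Finset (Fin 24 → ℤ) := hf.toFinset

theorem mem_FN {n : ℤ} (hf : {x : Fin 24 → ℤ | q B x = n}.Finite) (x : Fin 24 → ℤ) :
    x ∈ FN B n hf ↔ q B x = n := by
  unfold FN
  rw [Set.Finite.mem_toFinset]
  rfl

theorem card_FN {n : ℤ} (hf : {x : Fin 24 → ℤ | q B x = n}.Finite) :
    (FN B n hf).card = {x : Fin 24 → ℤ | q B x = n}.ncard := by
  unfold FN
  rw [Set.ncard_eq_toFinset_card _ hf]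

include h h4 h6 h8

theorem main (x : Fin 24 → ℤ) (hx : q B x = 8) :
    {y : Fin 24 → ℤ | q B y = 8 ∧ ∀ i, (2 : ℤ) ∣ (x - y) i}.ncard = 48 := by
  classical
  have f4 : {x : Fin 24 → ℤ | q B x = 4}.Finite :=
    Set.finite_of_ncard_ne_zero (by rw [h4]; norm_num)
  have f6 : {x : Fin 24 → ℤ | q B x = 6}.Finite :=
    Set.finite_of_ncard_ne_zero (by rw [h6]; norm_num)
  have f8 : {x : Fin 24 → ℤ | q B x = 8}.Finite :=
    Set.finite_of_ncard_ne_zero (by rw [h8]; norm_num)
  set F4 := FN B 4 f4 with hF4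
  set F6 := FN B 6 f6 with hF6
  set F8 := FN B 8 f8 with hF8
  set Sh : Finset (Fin 24 → ℤ) := {0} ∪ F4 ∪ F6 ∪ F8 with hSh
  have mem_Sh : ∀ y, y ∈ Sh ↔ (q B y = 0 ∨ q B y = 4 ∨ q B y = 6 ∨ q B y = 8) := by
    intro y
    rw [hSh, Finset.mem_union, Finset.mem_union, Finset.mem_union, Finset.mem_singleton,
      mem_FN, mem_FN, mem_FN, ← q_eq_zero_iff h]
    tauto
  -- total weight
  have sum_wt : ∑ y ∈ Sh, wt B y = 48 * 2 ^ 24 := by
    rw [hSh, Finset.sum_union, Finset.sum_union, Finset.sum_union, Finset.sum_singleton]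
    · have h0 : wt B 0 = 48 := by unfold wt; rw [if_pos q_zero]
      have s4 : ∑ y ∈ F4, wt B y = 24 * 196560 := by
        rw [Finset.sum_congr rfl (g := fun _ => 24)]
        · rw [Finset.sum_const, card_FN, h4, smul_eq_mul, mul_comm]
        · intro y hy
          have := (mem_FN f4 y).mp hy
          unfold wt
          rw [this]; norm_num
      have s6 : ∑ y ∈ F6, wt B y = 24 * 16773120 := by
        rw [Finset.sum_congr rfl (g := fun _ => 24)]
        · rw [Finset.sum_const, card_FN, h6, smul_eq_mul, mul_comm]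
        · intro y hy
          have := (mem_FN f6 y).mp hy
          unfold wt
          rw [this]; norm_num
      have s8 : ∑ y ∈ F8, wt B y = 398034000 := by
        rw [Finset.sum_congr rfl (g := fun _ => 1)]
        · rw [Finset.sum_const, card_FN, h8, smul_eq_mul, mul_one]
        · intro y hy
          have := (mem_FN f8 y).mp hy
          unfold wt
          rw [this]; norm_num
      rw [h0, s4, s6, s8]
      norm_num
    · rw [Finset.disjoint_left]
      intro y hy hy'
      rw [Finset.mem_singleton] at hy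
      have := (mem_FN f4 y).mp hy'
      rw [hy, q_zero] at this
      norm_num at this
    · rw [Finset.disjoint_left]
      intro y hy hy'
      have h48 := (mem_FN f6 y).mp hy'
      rw [Finset.mem_union, Finset.mem_singleton] at hy
      rcases hy with hy | hy
      · rw [hy, q_zero] at h48
        norm_num at h48
      · have := (mem_FN f4 y).mp hy
        omega
    · rw [Finset.disjoint_left]
      intro y hy hy'
      have h64 := (mem_FN f8 y).mp hy'
      rw [Finset.mem_union, Finset.mem_union, Finset.mem_singleton] at hy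
      rcases hy with (hy | hy) | hy
      · rw [hy, q_zero] at h64
        norm_num at h64
      · have := (mem_FN f4 y).mp hy
        omega
      · have := (mem_FN f6 y).mp hy
        omega
  -- each fibre has weight at most 48
  have fiber_le : ∀ c : Fin 24 → ZMod 2, ∑ y ∈ Sh.filter (fun y => red y = c), wt B y ≤ 48 := by
    intro c
    set Fc := Sh.filter (fun y => red y = c) with hFc
    rcases Fc.eq_empty_or_nonempty with he | ⟨x0, hx0⟩
    · rw [he]; simp
    have hmem : ∀ y ∈ Fc, q B y ≤ 8 ∧ red y = c := by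
      intro y hy
      rw [hFc, Finset.mem_filter, mem_Sh] at hy
      refine ⟨?_, hy.2⟩
      rcases hy.1 with hh | hh | hh | hh <;> rw [hh] <;> norm_num
    have hpair : ∀ y ∈ Fc, ∀ y' ∈ Fc, y = y' ∨ y = -y' ∨
        (q B y = 8 ∧ q B y' = 8 ∧ bl B y y' = 0) := by
      intro y hy y' hy'
      obtain ⟨h1, h2⟩ := hmem y hy
      obtain ⟨h1', h2'⟩ := hmem y' hy'
      obtain ⟨z, hz⟩ := (red_eq_iff y y').mp (h2.trans h2'.symm)
      exact short_cong h h1 h1' hz
    by_cases h64 : q B x0 = 8
    · have hall : ∀ y ∈ Fc, q B y = 8 := by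
        intro y hy
        rcases hpair y hy x0 hx0 with hh | hh | hh
        · rw [hh]; exact h64
        · rw [hh, q_neg]; exact h64
        · exact hh.1
      have hsum : ∑ y ∈ Fc, wt B y = Fc.card := by
        rw [Finset.sum_congr rfl (g := fun _ => 1)]
        · simp
        · intro y hy
          unfold wt
          rw [hall y hy]; norm_num
      rw [hsum]
      apply card_le_of_orth h
      · intro y hy h0
        have := hall y hy
        rw [h0, q_zero] at this
        norm_num at this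
      · intro y hy y' hy'
        rcases hpair y hy y' hy' with hh | hh | hh
        · exact Or.inl hh
        · exact Or.inr (Or.inl hh)
        · exact Or.inr (Or.inr hh.2.2)
    · have hsub : Fc ⊆ ({x0, -x0} : Finset (Fin 24 → ℤ)) := by
        intro y hy
        rw [Finset.mem_insert, Finset.mem_singleton]
        rcases hpair y hy x0 hx0 with hh | hh | hh
        · exact Or.inl hh
        · exact Or.inr hh
        · exact absurd hh.2.1 h64
      refine (Finset.sum_le_sum_of_subset hsub).trans ?_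
      by_cases h0 : x0 = 0
      · rw [h0, neg_zero, Finset.pair_eq_singleton, Finset.sum_singleton]
        unfold wt
        rw [if_pos q_zero]
      · have hw : ∀ y ∈ ({x0, -x0} : Finset (Fin 24 → ℤ)), wt B y ≤ 24 := by
          intro y hy
          rw [Finset.mem_insert, Finset.mem_singleton] at hy
          have hn : q B y = q B x0 := by
            rcases hy with hh | hh
            · rw [hh]
            · rw [hh, q_neg]
          have hn0 : q B x0 ≠ 0 := fun hh => h0 ((q_eq_zero_iff h x0).mp hh)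
          unfold wt
          rw [hn, if_neg hn0, if_neg h64]
        have h2 : ({x0, -x0} : Finset (Fin 24 → ℤ)).card ≤ 2 := Finset.card_le_two
        refine (Finset.sum_le_card_nsmul _ _ 24 hw).trans ?_
        rw [smul_eq_mul]
        omega
  -- each fibre has weight exactly 48
  have fiber_eq : ∀ c : Fin 24 → ZMod 2, ∑ y ∈ Sh.filter (fun y => red y = c), wt B y = 48 := by
    have h1 := Finset.sum_fiberwise Sh red (wt B)
    rw [sum_wt] at h1
    have h2 : ∑ _c : Fin 24 → ZMod 2, 48 = 48 * 2 ^ 24 := by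
      rw [Finset.sum_const, Finset.card_univ, Fintype.card_fun, ZMod.card, Fintype.card_fin,
        smul_eq_mul, mul_comm]
    have h3 := (Finset.sum_eq_sum_iff_of_le (s := (Finset.univ : Finset (Fin 24 → ZMod 2)))
      (f := fun c => ∑ y ∈ Sh.filter (fun y => red y = c), wt B y) (g := fun _ => 48)
      (fun c _ => fiber_le c)).mp (by rw [h2]; exact h1)
    intro c
    exact h3 c (Finset.mem_univ c)
  -- the fibre of x
  have hfib : ∀ y ∈ Sh.filter (fun y => red y = red x), q B y = 8 := by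
    intro y hy
    rw [Finset.mem_filter, mem_Sh] at hy
    have hyn : q B y ≤ 8 := by
      rcases hy.1 with hh | hh | hh | hh <;> rw [hh] <;> norm_num
    obtain ⟨z, hz⟩ := (red_eq_iff y x).mp hy.2
    rcases short_cong h hyn (le_of_eq hx) hz with hh | hh | hh
    · rw [hh]; exact hx
    · rw [hh, q_neg]; exact hx
    · exact hh.1
  have hset : {y : Fin 24 → ℤ | q B y = 8 ∧ ∀ i, (2 : ℤ) ∣ (x - y) i} =
      ↑(Sh.filter (fun y => red y = red x)) := by
    ext y
    rw [Finset.mem_coe, Finset.mem_filter, mem_Sh, Set.mem_setOf_eq]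
    constructor
    · rintro ⟨h1, h2⟩
      refine ⟨Or.inr (Or.inr (Or.inr h1)), ?_⟩
      rw [red_eq_iff]
      choose z hz using h2
      refine ⟨-z, ?_⟩
      funext i
      have := hz i
      rw [Pi.sub_apply] at this ⊢
      rw [Pi.smul_apply, Pi.neg_apply, smul_eq_mul]
      linarith
    · rintro ⟨h1, h2⟩
      have hy : y ∈ Sh.filter (fun y => red y = red x) := by
        rw [Finset.mem_filter, mem_Sh]; exact ⟨h1, h2⟩
      refine ⟨hfib y hy, ?_⟩
      obtain ⟨z, hz⟩ := (red_eq_iff y x).mp h2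
      intro i
      have := congrFun hz i
      rw [Pi.sub_apply, Pi.smul_apply, smul_eq_mul] at this
      rw [Pi.sub_apply]
      exact ⟨-z i, by linarith⟩
  rw [hset, Set.ncard_coe_finset]
  have h1 := fiber_eq (red x)
  rw [Finset.sum_congr rfl (g := fun _ => 1)] at h1
  · simpa using h1
  · intro y hy
    unfold wt
    rw [hfib y hy]; norm_num

end

/-- Second step of the characterisation: under the vector counts of the rank-24 lattice, the norm-8 vectors fall into congruence classes of exactly 48 modulo twice the lattice. -/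
theorem result (B : Matrix (Fin 24) (Fin 24) ℤ) (hsymm : B.IsSymm) (hpos : ∀ x : Fin 24 → ℤ, x ≠ 0 → 0 < x ⬝ᵥ (B *ᵥ x)) (heven : ∀ x : Fin 24 → ℤ, (2 : ℤ) ∣ x ⬝ᵥ (B *ᵥ x)) (h2 : ∀ x : Fin 24 → ℤ, x ⬝ᵥ (B *ᵥ x) ≠ 2) (h4 : {x : Fin 24 → ℤ | x ⬝ᵥ (B *ᵥ x) = 4}.ncard = 196560) (h6 : {x : Fin 24 → ℤ | x ⬝ᵥ (B *ᵥ x) = 6}.ncard = 16773120) (h8 : {x : Fin 24 → ℤ | x ⬝ᵥ (B *ᵥ x) = 8}.ncard = 398034000) (x : Fin 24 → ℤ) (hx : x ⬝ᵥ (B *ᵥ x) = 8) : {y : Fin 24 → ℤ | y ⬝ᵥ (B *ᵥ y) = 8 ∧ ∀ i, (2 : ℤ) ∣ (x - y) i}.ncard = 48 :=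
  main ⟨hsymm, hpos, heven, h2⟩ h4 h6 h8 x hx

end Cfsg.Agent.S1588
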