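import Mathlib
import Cfsg.Statements.S1590
import Cfsg.Agent.Lib.Helper26.TernaryGolayWt

set_option autoImplicit false
open Cfsg

namespace Cfsg.Agent.S1590

open Cfsg.Agent.Helper26.TGolay in
/-- The length-12 ternary code has 729 words; its nonzero words have weights 6, 9, 12,
with 264, 440 and 24 words of these weights. -/
theorem result : Nat.card ↥Cfsg.ternaryGolayCode = 729 ∧ (∀ x ∈ Cfsg.ternaryGolayCode, x ≠ 0 → (Cfsg.ternarySupport x).card = 6 ∨ (Cfsg.ternarySupport x).card = 9 ∨ (Cfsg.ternarySupport x).card = 12) ∧ {x : Cfsg.ArrayPt → ZMod 3 | x ∈ Cfsg.ternaryGolayCode ∧ (Cfsg.ternarySupport x).card = 6}.ncard = 264 ∧ {x : Cfsg.ArrayPt → ZMod 3 | x ∈ Cfsg.ternaryGolayCode ∧ (Cfsg.ternarySupport x).card = 9}.ncard = 440 ∧ {x : Cfsg.ArrayPt → ZMod 3 | x ∈ Cfsg.ternaryGolayCode ∧ (Cfsg.ternarySupport x).card = 12}.ncard = 24 := by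
  refine ⟨card_code, fun x hx h0 => weight_cases hx h0, ?_, ?_, ?_⟩
  · rw [weight_ncard]; exact wt_count6
  · rw [weight_ncard]; exact wt_count9
  · rw [weight_ncard]; exact wt_count12

end Cfsg.Agent.S1590
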