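import Mathlib
import Cfsg.Statements.S1594
import Cfsg.Agent.Lib.Helper26.TernaryGolayTrans

set_option autoImplicit false
open Cfsg

namespace Cfsg.Agent.S1594

open Cfsg.Agent.Helper26.TGolay

theorem qb_injective : Function.Injective qb := by decide

theorem card_emb : Nat.card (Fin 5 ↪ ArrayPt) = 95040 := by
  rw [Nat.card_eq_fintype_card, Fintype.card_embedding_eq]
  simp only [Fintype.card_prod, Fintype.card_fin, ZMod.card]
  decide

/-- The images of the base points. -/
def baseImg (σ : Equiv.Perm ArrayPt) : Fin 5 ↪ ArrayPt :=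
  ⟨fun i => σ (qb i), fun _ _ h => qb_injective (σ.injective h)⟩

theorem baseImg_injOn {σ τ : Equiv.Perm ArrayPt} (hσ : σ ∈ setSystemAut hexads)
    (hτ : τ ∈ setSystemAut hexads) (h : baseImg σ = baseImg τ) : σ = τ := by
  have hfix : ∀ i : Fin 5, (τ⁻¹ * σ) (qb i) = qb i := by
    intro i
    have : σ (qb i) = τ (qb i) := congrArg (fun e : Fin 5 ↪ ArrayPt => e i) h
    rw [Equiv.Perm.mul_apply, this]
    exact τ.symm_apply_apply _
  have hmem : τ⁻¹ * σ ∈ setSystemAut hexads := Subgroup.mul_mem _ (Subgroup.inv_mem _ hτ) hσ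
  have := stab_trivial hmem (hfix 0) (hfix 1) (hfix 2) (hfix 3) (hfix 4)
  exact (inv_mul_eq_one.1 this).symm

theorem card_aut_le : Nat.card (setSystemAut hexads) ≤ 95040 := by
  rw [← card_emb]
  apply Nat.card_le_card_of_injective (fun σ : setSystemAut hexads => baseImg σ.1)
  intro σ τ h
  exact Subtype.ext (baseImg_injOn σ.2 τ.2 h)

theorem card_mono_ge : 95040 ≤ Nat.card monoPerms := by
  rw [← card_emb]
  apply Nat.card_le_card_of_surjective (fun σ : monoPerms => baseImg σ.1)
  intro e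
  obtain ⟨σ, hσ, h⟩ := monoPerms_transitive e
  exact ⟨⟨σ, hσ⟩, Function.Embedding.ext fun i => h i⟩

theorem monoPerms_eq : monoPerms = setSystemAut hexads :=
  Subgroup.eq_of_le_of_card_ge monoPerms_le (card_aut_le.trans card_mono_ge)

theorem card_monoPerms : Nat.card monoPerms = 95040 := by
  apply le_antisymm _ card_mono_ge
  rw [monoPerms_eq]
  exact card_aut_le

/-- The signed permutations preserving the length-12 ternary code number 190080, and their
permutation parts are exactly the automorphisms of the hexad system. -/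
theorem result : Nat.card {f : Equiv.Perm Cfsg.ArrayPt × (Cfsg.ArrayPt → (ZMod 3)ˣ) // (∀ x ∈ Cfsg.ternaryGolayCode, Cfsg.monomialMap f.1 f.2 x ∈ Cfsg.ternaryGolayCode)} = 190080 ∧ {σ : Equiv.Perm Cfsg.ArrayPt | ∃ c : Cfsg.ArrayPt → (ZMod 3)ˣ, (∀ x ∈ Cfsg.ternaryGolayCode, Cfsg.monomialMap σ c x ∈ Cfsg.ternaryGolayCode)} = (Cfsg.setSystemAut {h : Finset Cfsg.ArrayPt | ∃ x ∈ Cfsg.ternaryGolayCode, Cfsg.ternarySupport x = h ∧ h.card = 6} : Set (Equiv.Perm Cfsg.ArrayPt)) := by
  refine ⟨?_, ?_⟩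
  · have := card_mono
    rw [card_monoPerms] at this
    exact this
  · have : (monoPerms : Set (Equiv.Perm ArrayPt)) = setSystemAut hexads := by
      rw [monoPerms_eq]
    exact this

end Cfsg.Agent.S1594
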