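import Mathlib
import Cfsg.Statements.S1595
import Cfsg.Agent.Lib.Helper27.Steiner

set_option autoImplicit false
open Cfsg

namespace Cfsg.Agent.S1595

open Cfsg.Agent.Helper27 Finset

section

variable {α : Type*} [DecidableEq α]

/-- The subsets of `b` containing `s`. -/
def between (s b : Finset α) : Finset (Finset α) := b.powerset.filter fun t => s ⊆ t

theorem mem_between {s b t : Finset α} : t ∈ between s b ↔ t ⊆ b ∧ s ⊆ t := by
  rw [between, mem_filter, mem_powerset]

/-- Splitting the blocks through `s ⊆ b` according to their intersection with `b`. -/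
theorem card_through_eq_sum (Bf : Finset (Finset α)) {s b : Finset α} (hsb : s ⊆ b) :
    (Bf.filter fun c => s ⊆ c).card =
      ∑ t ∈ between s b, (Bf.filter fun c => b ∩ c = t).card := by
  rw [card_eq_sum_card_fiberwise (f := fun c => b ∩ c) (t := between s b)]
  · apply sum_congr rfl
    intro t ht
    rw [mem_between] at ht
    congr 1
    ext c
    simp only [mem_filter]
    constructor
    · rintro ⟨⟨hc, -⟩, h⟩
      exact ⟨hc, h⟩
    · rintro ⟨hc, h⟩
      refine ⟨⟨hc, ?_⟩, h⟩
      have : s ⊆ b ∩ c := by rw [h]; exact ht.2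
      exact this.trans inter_subset_right
  · intro c hc
    rw [mem_coe, mem_filter] at hc
    rw [mem_coe, mem_between]
    exact ⟨inter_subset_left, subset_inter hsb hc.2⟩

/-- Evaluating a sum over the sets between `s` and `b` when the summand depends only on the
cardinality away from `s`. -/
theorem sum_between (s b : Finset α) (hsb : s ⊆ b) (g : Finset α → ℕ) (f : ℕ → ℕ)
    (hg : ∀ t, s ⊆ t → t ⊆ b → t ≠ s → g t = f t.card) :
    ∑ t ∈ between s b, g t =
      g s + ∑ i ∈ Ioc s.card b.card, (b.card - s.card).choose (i - s.card) * f i := by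
  have hs : s ∈ between s b := mem_between.2 ⟨hsb, subset_refl _⟩
  rw [← add_sum_erase _ _ hs]
  congr 1
  rw [← sum_fiberwise_of_maps_to (s := (between s b).erase s) (t := Ioc s.card b.card)
    (g := fun t => t.card)]
  · apply sum_congr rfl
    intro i hi
    rw [mem_Ioc] at hi
    have hcount : (((between s b).erase s).filter fun t => t.card = i).card
        = (b.card - s.card).choose (i - s.card) := by
      rw [← card_powersetCard_superset s b hsb i hi.1.le]
      congr 1
      ext t
      simp only [mem_filter, mem_erase, mem_between, mem_powersetCard]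
      constructor
      · rintro ⟨⟨-, h1, h2⟩, h3⟩
        exact ⟨⟨h1, h3⟩, h2⟩
      · rintro ⟨⟨h1, h3⟩, h2⟩
        refine ⟨⟨?_, h1, h2⟩, h3⟩
        rintro rfl
        omega
    rw [← hcount, ← smul_eq_mul, ← sum_const]
    apply sum_congr rfl
    intro t ht
    simp only [mem_filter, mem_erase, mem_between] at ht
    rw [hg t ht.1.2.2 ht.1.2.1 ht.1.1, ht.2]
  · intro t ht
    rw [mem_erase, mem_between] at ht
    rw [mem_Ioc]
    refine ⟨?_, card_le_card ht.2.1⟩
    exact card_lt_card (ssubset_of_subset_of_ne ht.2.2 (Ne.symm ht.1))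

end

section

variable {α : Type*} [Fintype α] [DecidableEq α]

/-- The local intersection numbers, by cardinality. -/
def fN (i : ℕ) : ℕ := if i = 6 then 1 else if i = 4 then 3 else if i = 3 then 2 else
  if i = 2 then 3 else 0

theorem level (hα : Fintype.card α = 12) (Bf : Finset (Finset α))
    (hB : Cfsg.IsSteinerSystem 5 6 (Bf : Set (Finset α))) {b : Finset α} (hb : b ∈ Bf)
    {s : Finset α} (hsb : s ⊆ b) (hs5 : s.card ≤ 5)
    (hk : ∀ t, s ⊆ t → t ⊆ b → t ≠ s → (Bf.filter fun c => b ∩ c = t).card = fN t.card) :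
    ((Bf.filter fun c => b ∩ c = s).card +
        ∑ i ∈ Ioc s.card 6, (6 - s.card).choose (i - s.card) * fN i)
      * (6 - s.card).choose (5 - s.card) = (12 - s.card).choose (5 - s.card) := by
  have hb6 : b.card = 6 := hB.1 b (by exact_mod_cast hb)
  have h1 := steiner_lambda Bf hB s hs5
  rw [hα, card_through_eq_sum Bf hsb,
    sum_between s b hsb (fun t => (Bf.filter fun c => b ∩ c = t).card) fN hk, hb6] at h1
  exact h1

theorem N6 (Bf : Finset (Finset α))
    (hB : Cfsg.IsSteinerSystem 5 6 (Bf : Set (Finset α))) {b : Finset α} (hb : b ∈ Bf) :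
    (Bf.filter fun c => b ∩ c = b).card = 1 := by
  have hb6 : b.card = 6 := hB.1 b (by exact_mod_cast hb)
  rw [card_eq_one]
  refine ⟨b, ?_⟩
  ext c
  rw [mem_filter, mem_singleton]
  constructor
  · rintro ⟨hc, h⟩
    have hc6 : c.card = 6 := hB.1 c (by exact_mod_cast hc)
    have hbc : b ⊆ c := inter_eq_left.1 h
    exact (eq_of_subset_of_card_le hbc (by rw [hc6, hb6])).symm
  · rintro rfl
    exact ⟨hb, inter_self _⟩

theorem N5 (Bf : Finset (Finset α))
    (hB : Cfsg.IsSteinerSystem 5 6 (Bf : Set (Finset α))) {b : Finset α} (hb : b ∈ Bf)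
    {t : Finset α} (ht : t.card = 5) :
    (Bf.filter fun c => b ∩ c = t).card = 0 := by
  have hb6 : b.card = 6 := hB.1 b (by exact_mod_cast hb)
  rw [card_eq_zero, filter_eq_empty_iff]
  intro c hc h
  have hbc : b = c := steiner_eq_of_le_card_inter hB (by exact_mod_cast hb)
    (by exact_mod_cast hc) (by rw [h, ht])
  rw [← hbc, inter_self] at h
  rw [h, ht] at hb6
  omega

theorem N4 (hα : Fintype.card α = 12) (Bf : Finset (Finset α))
    (hB : Cfsg.IsSteinerSystem 5 6 (Bf : Set (Finset α))) {b : Finset α} (hb : b ∈ Bf)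
    {s : Finset α} (hsb : s ⊆ b) (hs : s.card = 4) :
    (Bf.filter fun c => b ∩ c = s).card = 3 := by
  have hb6 : b.card = 6 := hB.1 b (by exact_mod_cast hb)
  have h := level hα Bf hB hb hsb (by omega) (by
    intro t hst htb hne
    have h1 : s.card < t.card := card_lt_card (ssubset_of_subset_of_ne hst (Ne.symm hne))
    have h2 : t.card ≤ 6 := hb6 ▸ card_le_card htb
    have : t.card = 5 ∨ t.card = 6 := by omega
    rcases this with h5 | h6
    · rw [N5 Bf hB hb h5, h5]; rfl
    · have : t = b := eq_of_subset_of_card_le htb (by rw [hb6, h6])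
      rw [this, N6 Bf hB hb, hb6]; rfl)
  rw [hs] at h
  have e : ∑ i ∈ Ioc 4 6, (6 - 4).choose (i - 4) * fN i = 1 := by decide
  rw [e] at h
  have e1 : (6 - 4).choose (5 - 4) = 2 := by decide
  have e2 : (12 - 4).choose (5 - 4) = 8 := by decide
  rw [e1, e2] at h
  omega

theorem N3 (hα : Fintype.card α = 12) (Bf : Finset (Finset α))
    (hB : Cfsg.IsSteinerSystem 5 6 (Bf : Set (Finset α))) {b : Finset α} (hb : b ∈ Bf)
    {s : Finset α} (hsb : s ⊆ b) (hs : s.card = 3) :
    (Bf.filter fun c => b ∩ c = s).card = 2 := by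
  have hb6 : b.card = 6 := hB.1 b (by exact_mod_cast hb)
  have h := level hα Bf hB hb hsb (by omega) (by
    intro t hst htb hne
    have h1 : s.card < t.card := card_lt_card (ssubset_of_subset_of_ne hst (Ne.symm hne))
    have h2 : t.card ≤ 6 := hb6 ▸ card_le_card htb
    have : t.card = 4 ∨ t.card = 5 ∨ t.card = 6 := by omega
    rcases this with h4 | h5 | h6
    · rw [N4 hα Bf hB hb htb h4, h4]; rfl
    · rw [N5 Bf hB hb h5, h5]; rfl
    · have : t = b := eq_of_subset_of_card_le htb (by rw [hb6, h6])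
      rw [this, N6 Bf hB hb, hb6]; rfl)
  rw [hs] at h
  have e : ∑ i ∈ Ioc 3 6, (6 - 3).choose (i - 3) * fN i = 10 := by decide
  rw [e] at h
  have e1 : (6 - 3).choose (5 - 3) = 3 := by decide
  have e2 : (12 - 3).choose (5 - 3) = 36 := by decide
  rw [e1, e2] at h
  omega

theorem N2 (hα : Fintype.card α = 12) (Bf : Finset (Finset α))
    (hB : Cfsg.IsSteinerSystem 5 6 (Bf : Set (Finset α))) {b : Finset α} (hb : b ∈ Bf)
    {s : Finset α} (hsb : s ⊆ b) (hs : s.card = 2) :
    (Bf.filter fun c => b ∩ c = s).card = 3 := by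
  have hb6 : b.card = 6 := hB.1 b (by exact_mod_cast hb)
  have h := level hα Bf hB hb hsb (by omega) (by
    intro t hst htb hne
    have h1 : s.card < t.card := card_lt_card (ssubset_of_subset_of_ne hst (Ne.symm hne))
    have h2 : t.card ≤ 6 := hb6 ▸ card_le_card htb
    have : t.card = 3 ∨ t.card = 4 ∨ t.card = 5 ∨ t.card = 6 := by omega
    rcases this with h3 | h4 | h5 | h6
    · rw [N3 hα Bf hB hb htb h3, h3]; rfl
    · rw [N4 hα Bf hB hb htb h4, h4]; rfl
    · rw [N5 Bf hB hb h5, h5]; rfl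
    · have : t = b := eq_of_subset_of_card_le htb (by rw [hb6, h6])
      rw [this, N6 Bf hB hb, hb6]; rfl)
  rw [hs] at h
  have e : ∑ i ∈ Ioc 2 6, (6 - 2).choose (i - 2) * fN i = 27 := by decide
  rw [e] at h
  have e1 : (6 - 2).choose (5 - 2) = 4 := by decide
  have e2 : (12 - 2).choose (5 - 2) = 120 := by decide
  rw [e1, e2] at h
  omega

theorem N1 (hα : Fintype.card α = 12) (Bf : Finset (Finset α))
    (hB : Cfsg.IsSteinerSystem 5 6 (Bf : Set (Finset α))) {b : Finset α} (hb : b ∈ Bf)
    {s : Finset α} (hsb : s ⊆ b) (hs : s.card = 1) :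
    (Bf.filter fun c => b ∩ c = s).card = 0 := by
  have hb6 : b.card = 6 := hB.1 b (by exact_mod_cast hb)
  have h := level hα Bf hB hb hsb (by omega) (by
    intro t hst htb hne
    have h1 : s.card < t.card := card_lt_card (ssubset_of_subset_of_ne hst (Ne.symm hne))
    have h2 : t.card ≤ 6 := hb6 ▸ card_le_card htb
    have : t.card = 2 ∨ t.card = 3 ∨ t.card = 4 ∨ t.card = 5 ∨ t.card = 6 := by omega
    rcases this with h2' | h3 | h4 | h5 | h6
    · rw [N2 hα Bf hB hb htb h2', h2']; rfl
    · rw [N3 hα Bf hB hb htb h3, h3]; rfl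
    · rw [N4 hα Bf hB hb htb h4, h4]; rfl
    · rw [N5 Bf hB hb h5, h5]; rfl
    · have : t = b := eq_of_subset_of_card_le htb (by rw [hb6, h6])
      rw [this, N6 Bf hB hb, hb6]; rfl)
  rw [hs] at h
  have e : ∑ i ∈ Ioc 1 6, (6 - 1).choose (i - 1) * fN i = 66 := by decide
  rw [e] at h
  have e1 : (6 - 1).choose (5 - 1) = 5 := by decide
  have e2 : (12 - 1).choose (5 - 1) = 330 := by decide
  rw [e1, e2] at h
  omega

end

/-- Intersection numbers of a Steiner system S(5, 6, 12) with a fixed block. -/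
theorem result {α : Type*} [Fintype α] [DecidableEq α] (hα : Fintype.card α = 12) {B : Set (Finset α)} (hB : Cfsg.IsSteinerSystem 5 6 B) (b : Finset α) (hb : b ∈ B) : (∀ c ∈ B, c ≠ b → (b ∩ c).card = 0 ∨ (b ∩ c).card = 2 ∨ (b ∩ c).card = 3 ∨ (b ∩ c).card = 4) ∧ ∀ s ⊆ b, (s.card = 2 → {c : Finset α | c ∈ B ∧ b ∩ c = s}.ncard = 3) ∧ (s.card = 3 → {c : Finset α | c ∈ B ∧ b ∩ c = s}.ncard = 2) ∧ (s.card = 4 → {c : Finset α | c ∈ B ∧ b ∩ c = s}.ncard = 3) := by
  obtain ⟨Bf, rfl⟩ := exists_finset_blocks B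
  have hb' : b ∈ Bf := by exact_mod_cast hb
  have hb6 : b.card = 6 := hB.1 b hb
  have hset : ∀ s : Finset α, {c : Finset α | c ∈ (Bf : Set (Finset α)) ∧ b ∩ c = s} =
      ((Bf.filter fun c => b ∩ c = s : Finset (Finset α)) : Set (Finset α)) := by
    intro s
    ext c
    simp only [Set.mem_ofPred_eq, mem_coe, mem_filter]
  refine ⟨?_, ?_⟩
  · intro c hc hne
    have hc' : c ∈ Bf := by exact_mod_cast hc
    have hc6 : c.card = 6 := hB.1 c hc
    have hmem : c ∈ Bf.filter fun c' => b ∩ c' = b ∩ c := mem_filter.2 ⟨hc', rfl⟩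
    have hle : (b ∩ c).card ≤ 6 := hb6 ▸ card_le_card inter_subset_left
    have hpos : 0 < (Bf.filter fun c' => b ∩ c' = b ∩ c).card := card_pos.2 ⟨c, hmem⟩
    have h6 : (b ∩ c).card ≠ 6 := by
      intro h
      have hbc : b ∩ c = b := eq_of_subset_of_card_le inter_subset_left (by rw [h, hb6])
      have : b ⊆ c := inter_eq_left.1 hbc
      exact hne (eq_of_subset_of_card_le this (by rw [hc6, hb6])).symm
    have h5 : (b ∩ c).card ≠ 5 := by
      intro h
      rw [N5 Bf hB hb' h] at hpos
      exact lt_irrefl _ hpos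
    have h1 : (b ∩ c).card ≠ 1 := by
      intro h
      rw [N1 hα Bf hB hb' inter_subset_left h] at hpos
      exact lt_irrefl _ hpos
    omega
  · intro s hsb
    refine ⟨fun h => ?_, fun h => ?_, fun h => ?_⟩
    · rw [hset, Set.ncard_coe_finset, N2 hα Bf hB hb' hsb h]
    · rw [hset, Set.ncard_coe_finset, N3 hα Bf hB hb' hsb h]
    · rw [hset, Set.ncard_coe_finset, N4 hα Bf hB hb' hsb h]

end Cfsg.Agent.S1595
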