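import Mathlib
import Cfsg.Statements.S1596
import Mathlib
import Cfsg.Agent.Lib.Helper29.M24Quartet

set_option autoImplicit false
open scoped Pointwise
open Cfsg

namespace Cfsg.Agent.S1596

open Cfsg.Agent.Helper27 Cfsg.Agent.Helper29 Cfsg.Agent.Helper29.M24 Cfsg.Agent.Helper29.Quartet
open scoped Pointwise

/-- A quartet of a dodecad is determined by any two of its triples: two disjoint triples uniting to a hexad extend to exactly one quartet. -/
theorem result (d : Finset Cfsg.GolayPt) (hd : d ∈ Cfsg.dodecads) (t u : Finset Cfsg.GolayPt) (ht : t.card = 3) (hu : u.card = 3) (htu : Disjoint t u) (hh : t ∪ u ∈ Cfsg.hexadsOn d) : ∃! Q : Finset (Finset Cfsg.GolayPt), Q ∈ Cfsg.quartets d ∧ t ∈ Q ∧ u ∈ Q := by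
  obtain ⟨g, hgM, rfl, rfl, rfl⟩ := exists_map_tu d hd t u ht hu htu hh
  refine ⟨g • Q0, ⟨smul_quartets g hgM _ _ Q0_mem, Finset.smul_mem_smul_finset T0_mem,
    Finset.smul_mem_smul_finset U0_mem⟩, ?_⟩
  rintro Q ⟨hQ, htQ, huQ⟩
  have h1 : g⁻¹ • Q ∈ Cfsg.quartets (maskSet 340831) := by
    have := smul_quartets g⁻¹ (Subgroup.inv_mem _ hgM) _ _ hQ
    rwa [inv_smul_smul] at this
  have h2 : g⁻¹ • Q = Q0 := by
    apply quartet_base_unique _ h1
    · have := Finset.smul_mem_smul_finset (a := g⁻¹) htQ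
      rwa [inv_smul_smul] at this
    · have := Finset.smul_mem_smul_finset (a := g⁻¹) huQ
      rwa [inv_smul_smul] at this
  rw [← h2, smul_inv_smul]

end Cfsg.Agent.S1596
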