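import Mathlib
import Cfsg.Statements.S1597
import Mathlib
import Cfsg.Agent.Lib.Helper29.M24QuartetStab

set_option autoImplicit false
open scoped Pointwise
open Cfsg

namespace Cfsg.Agent.S1597

open Cfsg.Agent.Helper27 Cfsg.Agent.Helper29 Cfsg.Agent.Helper29.M24 Cfsg.Agent.Helper29.Quartet
open Cfsg.Agent.Helper29.Dod3
open scoped Pointwise

/-- every quartet of the standard dodecad is an image of the standard one -/
theorem quartets_base (Q : Finset (Finset GolayPt)) (hQ : Q ∈ Cfsg.quartets (maskSet 340831)) :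
    ∃ g ∈ K0 (maskSet 340831), Q = g • Q0 := by
  obtain ⟨t, ht, u, hu, hne⟩ := Finset.one_lt_card.1 (by rw [hQ.1]; norm_num : 1 < Q.card)
  have ht3 := (hQ.2.1 t ht).1
  have hu3 := (hQ.2.1 u hu).1
  have hh := hQ.2.2 t ht u hu hne
  have hdisj : Disjoint t u := by
    rw [← Finset.card_union_eq_card_add_card, hh.1, ht3, hu3]
  obtain ⟨g, hgM, hgd, hgt, hgu⟩ := exists_map_tu _ d0_mem t u ht3 hu3 hdisj hh
  refine ⟨g, (mem_K0 _ _).2 ⟨hgM, hgd⟩, ?_⟩
  have h1 : g⁻¹ • Q ∈ Cfsg.quartets (maskSet 340831) := by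
    have := smul_quartets g⁻¹ (Subgroup.inv_mem _ hgM) _ _ hQ
    rwa [inv_smul_eq_iff.2 hgd.symm] at this
  have h2 : g⁻¹ • Q = Q0 := by
    apply quartet_base_unique _ h1
    · have := Finset.smul_mem_smul_finset (a := g⁻¹) ht
      rwa [← hgt, inv_smul_smul] at this
    · have := Finset.smul_mem_smul_finset (a := g⁻¹) hu
      rwa [← hgu, inv_smul_smul] at this
  rw [← h2, smul_inv_smul]

theorem ncard_quartets_base : (Cfsg.quartets (maskSet 340831)).ncard = 220 := by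
  have horb : MulAction.orbit ↥(K0 (maskSet 340831)) Q0 = Cfsg.quartets (maskSet 340831) := by
    ext Q
    constructor
    · rintro ⟨g, rfl⟩
      have hg := (mem_K0 _ _).1 g.2
      have := smul_quartets (g : Equiv.Perm GolayPt) hg.1 _ _ Q0_mem
      rw [hg.2] at this
      exact this
    · intro hQ
      obtain ⟨g, hg, rfl⟩ := quartets_base Q hQ
      exact ⟨⟨g, hg⟩, rfl⟩
  have hstab : Nat.card ↥(MulAction.stabilizer ↥(K0 (maskSet 340831)) Q0) = 432 := by
    rw [← card_GQ]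
    apply Nat.card_congr
    exact
      { toFun := fun g => ⟨(g.1 : Equiv.Perm GolayPt), (mem_GQ _).2
          ⟨(mem_K0 _ _).1 g.1.2, MulAction.mem_stabilizer_iff.1 g.2⟩⟩
        invFun := fun g => ⟨⟨g.1, (mem_K0 _ _).2 ((mem_GQ _).1 g.2).1⟩,
          MulAction.mem_stabilizer_iff.2 ((mem_GQ _).1 g.2).2⟩
        left_inv := fun g => rfl
        right_inv := fun g => rfl }
  have h1 := Nat.card_congr (MulAction.orbitProdStabilizerEquivGroup ↥(K0 (maskSet 340831)) Q0)
  rw [Nat.card_prod, horb, Nat.card_coe_set_eq, hstab, card_K0 _ d0_mem] at h1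
  generalize (Cfsg.quartets (maskSet 340831)).ncard = n at h1 ⊢
  omega

/-- A dodecad has 220 quartets and its stabiliser is transitive on them. -/
theorem result (d : Finset Cfsg.GolayPt) (hd : d ∈ Cfsg.dodecads) : (Cfsg.quartets d).ncard = 220 ∧ ∀ Q ∈ Cfsg.quartets d, ∀ Q' ∈ Cfsg.quartets d, ∃ g : Equiv.Perm Cfsg.GolayPt, g ∈ Cfsg.M24 ∧ g • d = d ∧ g • Q = Q' := by
  obtain ⟨g1, hg1⟩ := dodecad_transitive _ d d0_mem hd
  have hg1' : (g1 : Equiv.Perm GolayPt) • maskSet 340831 = d := hg1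
  have hg1M : (g1 : Equiv.Perm GolayPt) ∈ Cfsg.M24 := g1.2
  have hback : ∀ Q ∈ Cfsg.quartets d, (g1 : Equiv.Perm GolayPt)⁻¹ • Q ∈
      Cfsg.quartets (maskSet 340831) := by
    intro Q hQ
    have := smul_quartets _ (Subgroup.inv_mem _ hg1M) _ _ hQ
    rwa [inv_smul_eq_iff.2 hg1'.symm] at this
  constructor
  · have himg : Cfsg.quartets d = (fun Q => (g1 : Equiv.Perm GolayPt) • Q) ''
        Cfsg.quartets (maskSet 340831) := by
      ext Q
      constructor
      · intro hQ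
        exact ⟨_, hback Q hQ, smul_inv_smul _ _⟩
      · rintro ⟨Q', hQ', rfl⟩
        have := smul_quartets _ hg1M _ _ hQ'
        rwa [hg1'] at this
    rw [himg, Set.ncard_image_of_injective _ (MulAction.injective (g1 : Equiv.Perm GolayPt)),
      ncard_quartets_base]
  · intro Q hQ Q' hQ'
    obtain ⟨a, ha, ea⟩ := quartets_base _ (hback Q hQ)
    obtain ⟨b, hb, eb⟩ := quartets_base _ (hback Q' hQ')
    have haK := (mem_K0 _ _).1 ha
    have hbK := (mem_K0 _ _).1 hb
    refine ⟨(g1 : Equiv.Perm GolayPt) * b * a⁻¹ * (g1 : Equiv.Perm GolayPt)⁻¹, ?_, ?_, ?_⟩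
    · exact Subgroup.mul_mem _ (Subgroup.mul_mem _ (Subgroup.mul_mem _ hg1M hbK.1)
        (Subgroup.inv_mem _ haK.1)) (Subgroup.inv_mem _ hg1M)
    · rw [mul_smul, mul_smul, mul_smul, inv_smul_eq_iff.2 hg1'.symm,
        inv_smul_eq_iff.2 haK.2.symm, hbK.2, hg1']
    · rw [mul_smul, mul_smul, mul_smul, ea, inv_smul_smul, ← eb, smul_inv_smul]

end Cfsg.Agent.S1597
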