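import Mathlib
import Cfsg.Statements.S1598
import Mathlib
import Cfsg.Agent.Lib.Helper29.M24QuartetGL
import Cfsg.Agent.Lib.Helper29.M24QuartetOrb
import Cfsg.Agent.Lib.Helper29.M24Conj

set_option autoImplicit false
open scoped Pointwise
open Cfsg

namespace Cfsg.Agent.S1598


open Cfsg.Agent.Helper27 Cfsg.Agent.Helper29 Cfsg.Agent.Helper29.M24 Cfsg.Agent.Helper29.Quartet
open Cfsg.Agent.Helper29.Dod3
open scoped Pointwise

theorem exists_map_dQ' (d : Finset GolayPt) (hd : d ∈ Cfsg.dodecads) (Q : Finset (Finset GolayPt))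
    (hQ : Q ∈ Cfsg.quartets d) :
    ∃ g0 ∈ Cfsg.M24, g0 • maskSet 340831 = d ∧ g0 • Q0 = Q := by
  obtain ⟨g1, hg1⟩ := dodecad_transitive _ d d0_mem hd
  have hg1' : (g1 : Equiv.Perm GolayPt) • maskSet 340831 = d := hg1
  have hg1M : (g1 : Equiv.Perm GolayPt) ∈ Cfsg.M24 := g1.2
  have hback : (g1 : Equiv.Perm GolayPt)⁻¹ • Q ∈ Cfsg.quartets (maskSet 340831) := by
    have := smul_quartets _ (Subgroup.inv_mem _ hg1M) _ _ hQ
    rwa [inv_smul_eq_iff.2 hg1'.symm] at this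
  obtain ⟨a, ha, ea⟩ := quartets_base _ hback
  have haK := (mem_K0 _ _).1 ha
  refine ⟨(g1 : Equiv.Perm GolayPt) * a, Subgroup.mul_mem _ hg1M haK.1, ?_, ?_⟩
  · rw [mul_smul, haK.2, hg1']
  · rw [mul_smul, ← ea, smul_inv_smul]

/-- the abstract counting/quotient part -/
theorem struct_of_equiv {H : Type*} [Group H] (e : H ≃* ↥GQ) :
    Nat.card H = 432 ∧ ∃ (N : Subgroup H) (_ : N.Normal), Nat.card N = 9 ∧
      Nonempty (H ⧸ N ≃* GL (Fin 2) (ZMod 3)) := by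
  have hcard : Nat.card H = 432 := by rw [Nat.card_congr e.toEquiv, card_GQ]
  refine ⟨hcard, ?_⟩
  let ψ : H →* GL (Fin 2) (ZMod 3) := glHom.comp e.toMonoidHom
  have hsurj : Function.Surjective ψ := by
    intro M
    obtain ⟨g, hg⟩ := glHom_surjective M
    refine ⟨e.symm g, ?_⟩
    show glHom (e (e.symm g)) = M
    rw [MulEquiv.apply_symm_apply, hg]
  let q : H ⧸ ψ.ker ≃* GL (Fin 2) (ZMod 3) := QuotientGroup.quotientKerEquivOfSurjective ψ hsurj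
  refine ⟨ψ.ker, inferInstance, ?_, ⟨q⟩⟩
  have h1 := Subgroup.card_eq_card_quotient_mul_card_subgroup ψ.ker
  rw [hcard, Nat.card_congr q.toEquiv, card_GL23] at h1
  omega

/-- A quartet stabiliser inside the dodecad stabiliser has order 432, a normal subgroup of order 9 with quotient GL(2, 3), and is transitive on the dodecad. -/
theorem result (d : Finset Cfsg.GolayPt) (hd : d ∈ Cfsg.dodecads) (Q : Finset (Finset Cfsg.GolayPt)) (hQ : Q ∈ Cfsg.quartets d) : Nat.card ↥(MulAction.stabilizer Cfsg.M24 d ⊓ MulAction.stabilizer Cfsg.M24 Q) = 432 ∧ (∃ (N : Subgroup ↥(MulAction.stabilizer Cfsg.M24 d ⊓ MulAction.stabilizer Cfsg.M24 Q)) (_ : N.Normal), Nat.card N = 9 ∧ Nonempty (↥(MulAction.stabilizer Cfsg.M24 d ⊓ MulAction.stabilizer Cfsg.M24 Q) ⧸ N ≃* GL (Fin 2) (ZMod 3))) ∧ ∀ p ∈ d, ∀ q ∈ d, ∃ g ∈ (MulAction.stabilizer Cfsg.M24 d ⊓ MulAction.stabilizer Cfsg.M24 Q), ((g : ↥Cfsg.M24)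 : Equiv.Perm Cfsg.GolayPt) p = q := by
  obtain ⟨g0, hg0, rfl, rfl⟩ := exists_map_dQ' d hd Q hQ
  have hK : ∀ y ∈ GQ, g0 * y * g0⁻¹ ∈ Cfsg.M24 := by
    intro y hy
    obtain ⟨⟨hM, _⟩, _⟩ := (mem_GQ y).1 hy
    exact Subgroup.mul_mem _ (Subgroup.mul_mem _ hg0 hM) (Subgroup.inv_mem _ hg0)
  have h : ∀ x : ↥Cfsg.M24, x ∈ MulAction.stabilizer Cfsg.M24 (g0 • maskSet 340831) ⊓
      MulAction.stabilizer Cfsg.M24 (g0 • Q0) ↔ g0⁻¹ * (x : Equiv.Perm GolayPt) * g0 ∈ GQ := by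
    intro x
    rw [mem_GQ, conj_mem_M24_iff g0 hg0, conj_smul_iff, conj_smul_iff, Subgroup.mem_inf,
      MulAction.mem_stabilizer_iff, MulAction.mem_stabilizer_iff]
    constructor
    · rintro ⟨h1, h2⟩
      exact ⟨⟨x.2, h1⟩, h2⟩
    · rintro ⟨⟨_, h1⟩, h2⟩
      exact ⟨h1, h2⟩
  let e := conjEquivGen g0 (MulAction.stabilizer Cfsg.M24 (g0 • maskSet 340831) ⊓
      MulAction.stabilizer Cfsg.M24 (g0 • Q0)) GQ hK h
  obtain ⟨c1, c2⟩ := struct_of_equiv e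
  refine ⟨c1, c2, ?_⟩
  intro p hp q hq
  have hp' : g0⁻¹ p ∈ maskSet 340831 := by
    rw [Finset.mem_smul_finset] at hp
    obtain ⟨a, ha, rfl⟩ := hp
    rw [Equiv.Perm.smul_def, perm_inv_apply]
    exact ha
  have hq' : g0⁻¹ q ∈ maskSet 340831 := by
    rw [Finset.mem_smul_finset] at hq
    obtain ⟨a, ha, rfl⟩ := hq
    rw [Equiv.Perm.smul_def, perm_inv_apply]
    exact ha
  obtain ⟨k, hk, ek⟩ := GQ_trans _ _ hp' hq'
  have hkM := hK k hk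
  refine ⟨⟨g0 * k * g0⁻¹, hkM⟩, (h _).2 ?_, ?_⟩
  · have : g0⁻¹ * (g0 * k * g0⁻¹) * g0 = k := by group
    show g0⁻¹ * (g0 * k * g0⁻¹) * g0 ∈ GQ
    rw [this]
    exact hk
  · show (g0 * k * g0⁻¹) p = q
    rw [Equiv.Perm.mul_apply, Equiv.Perm.mul_apply, ek, perm_apply_inv]

end Cfsg.Agent.S1598
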