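import Mathlib
import Cfsg.Statements.S1599
import Mathlib
import Cfsg.Agent.Lib.Helper29.M24QuartetOrb

set_option autoImplicit false
open scoped Pointwise
open Cfsg

namespace Cfsg.Agent.S1599

open Cfsg.Agent.Helper27 Cfsg.Agent.Helper29 Cfsg.Agent.Helper29.M24 Cfsg.Agent.Helper29.Quartet
open Cfsg.Agent.Helper29.Dod3
open scoped Pointwise

theorem exists_map_dQ (d : Finset GolayPt) (hd : d ∈ Cfsg.dodecads) (Q : Finset (Finset GolayPt))
    (hQ : Q ∈ Cfsg.quartets d) :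
    ∃ g0 ∈ Cfsg.M24, g0 • maskSet 340831 = d ∧ g0 • Q0 = Q := by
  obtain ⟨g1, hg1⟩ := dodecad_transitive _ d d0_mem hd
  have hg1' : (g1 : Equiv.Perm GolayPt) • maskSet 340831 = d := hg1
  have hg1M : (g1 : Equiv.Perm GolayPt) ∈ Cfsg.M24 := g1.2
  have hback : (g1 : Equiv.Perm GolayPt)⁻¹ • Q ∈ Cfsg.quartets (maskSet 340831) := by
    have := smul_quartets _ (Subgroup.inv_mem _ hg1M) _ _ hQ
    rwa [inv_smul_eq_iff.2 hg1'.symm] at this
  obtain ⟨a, ha, ea⟩ := quartets_base _ hback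
  have haK := (mem_K0 _ _).1 ha
  refine ⟨(g1 : Equiv.Perm GolayPt) * a, Subgroup.mul_mem _ hg1M haK.1, ?_, ?_⟩
  · rw [mul_smul, haK.2, hg1']
  · rw [mul_smul, ← ea, smul_inv_smul]

theorem orbit_conj (g0 : Equiv.Perm GolayPt) (hg0 : g0 ∈ Cfsg.M24) (Y : Finset (Finset GolayPt)) :
    MulAction.orbit ↥(MulAction.stabilizer Cfsg.M24 (g0 • maskSet 340831) ⊓
      MulAction.stabilizer Cfsg.M24 (g0 • Q0)) (g0 • Y) = (fun Z => g0 • Z) '' orbGQ Y := by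
  ext Z
  constructor
  · rintro ⟨k, rfl⟩
    have hk := k.2
    rw [Subgroup.mem_inf, MulAction.mem_stabilizer_iff, MulAction.mem_stabilizer_iff] at hk
    have hk1 : ((k : Cfsg.M24) : Equiv.Perm GolayPt) • g0 • maskSet 340831 = g0 • maskSet 340831 :=
      hk.1
    have hk2 : ((k : Cfsg.M24) : Equiv.Perm GolayPt) • g0 • Q0 = g0 • Q0 := hk.2
    refine ⟨(g0⁻¹ * ((k : Cfsg.M24) : Equiv.Perm GolayPt) * g0) • Y, ⟨_, ?_, rfl⟩, ?_⟩
    · rw [mem_GQ, conj_mem_M24_iff g0 hg0, conj_smul_iff, conj_smul_iff]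
      exact ⟨⟨(k : Cfsg.M24).2, hk1⟩, hk2⟩
    · show g0 • (g0⁻¹ * ((k : Cfsg.M24) : Equiv.Perm GolayPt) * g0) • Y =
        ((k : Cfsg.M24) : Equiv.Perm GolayPt) • g0 • Y
      rw [mul_smul, mul_smul, smul_inv_smul]
  · rintro ⟨Z', ⟨h, hh, rfl⟩, rfl⟩
    obtain ⟨⟨hM, hd⟩, hq⟩ := (mem_GQ h).1 hh
    have hkM : g0 * h * g0⁻¹ ∈ Cfsg.M24 :=
      Subgroup.mul_mem _ (Subgroup.mul_mem _ hg0 hM) (Subgroup.inv_mem _ hg0)
    have hkH : (⟨g0 * h * g0⁻¹, hkM⟩ : Cfsg.M24) ∈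
        MulAction.stabilizer Cfsg.M24 (g0 • maskSet 340831) ⊓
          MulAction.stabilizer Cfsg.M24 (g0 • Q0) := by
      rw [Subgroup.mem_inf, MulAction.mem_stabilizer_iff, MulAction.mem_stabilizer_iff]
      constructor
      · show (g0 * h * g0⁻¹) • g0 • maskSet 340831 = g0 • maskSet 340831
        rw [mul_smul, mul_smul, inv_smul_smul, hd]
      · show (g0 * h * g0⁻¹) • g0 • Q0 = g0 • Q0
        rw [mul_smul, mul_smul, inv_smul_smul, hq]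
    refine ⟨⟨⟨g0 * h * g0⁻¹, hkM⟩, hkH⟩, ?_⟩
    show (g0 * h * g0⁻¹) • g0 • Y = g0 • h • Y
    rw [mul_smul, mul_smul, inv_smul_smul]

/-- A quartet stabiliser has five orbits on the quartets of its dodecad, of sizes 1, 12, 27, 72, 108. -/
theorem result (d : Finset Cfsg.GolayPt) (hd : d ∈ Cfsg.dodecads) (Q : Finset (Finset Cfsg.GolayPt)) (hQ : Q ∈ Cfsg.quartets d) : ∃ X₁ ∈ Cfsg.quartets d, ∃ X₂ ∈ Cfsg.quartets d, ∃ X₃ ∈ Cfsg.quartets d, ∃ X₄ ∈ Cfsg.quartets d, (MulAction.orbit ↥(MulAction.stabilizer Cfsg.M24 d ⊓ MulAction.stabilizer Cfsg.M24 Q) X₁).ncard = 12 ∧ (MulAction.orbit ↥(MulAction.stabilizer Cfsg.M24 d ⊓ MulAction.stabilizer Cfsg.M24 Q) X₂).ncard = 27 ∧ (MulAction.orbit ↥(MulAction.stabilizer Cfsg.M24 d ⊓ MulAction.stabilizer Cfsg.M24 Q) X₃).ncard = 72 ∧ (MulAction.orbit ↥(MulAction.stabilizer Cfsg.M24 d ⊓ MulAction.stabilizer Cfsg.M24 Q) X₄).ncard = 108 ∧ Cfsg.quartets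 d = {Q} ∪ MulAction.orbit ↥(MulAction.stabilizer Cfsg.M24 d ⊓ MulAction.stabilizer Cfsg.M24 Q) X₁ ∪ MulAction.orbit ↥(MulAction.stabilizer Cfsg.M24 d ⊓ MulAction.stabilizer Cfsg.M24 Q) X₂ ∪ MulAction.orbit ↥(MulAction.stabilizer Cfsg.M24 d ⊓ MulAction.stabilizer Cfsg.M24 Q) X₃ ∪ MulAction.orbit ↥(MulAction.stabilizer Cfsg.M24 d ⊓ MulAction.stabilizer Cfsg.M24 Q) X₄ := by
  obtain ⟨g0, hg0, rfl, rfl⟩ := exists_map_dQ d hd Q hQ
  have hinj : Function.Injective (fun Z : Finset (Finset GolayPt) => g0 • Z) :=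
    MulAction.injective g0
  have hmem : ∀ k < 4, g0 • X k ∈ Cfsg.quartets (g0 • maskSet 340831) :=
    fun k hk => smul_quartets g0 hg0 _ _ (X_mem k hk)
  obtain ⟨n1, n2, n3, n4⟩ := ncard_orbits
  refine ⟨g0 • X 0, hmem 0 (by norm_num), g0 • X 1, hmem 1 (by norm_num), g0 • X 2,
    hmem 2 (by norm_num), g0 • X 3, hmem 3 (by norm_num), ?_, ?_, ?_, ?_, ?_⟩
  · rw [orbit_conj g0 hg0, Set.ncard_image_of_injective _ hinj, n1]
  · rw [orbit_conj g0 hg0, Set.ncard_image_of_injective _ hinj, n2]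
  · rw [orbit_conj g0 hg0, Set.ncard_image_of_injective _ hinj, n3]
  · rw [orbit_conj g0 hg0, Set.ncard_image_of_injective _ hinj, n4]
  · rw [orbit_conj g0 hg0, orbit_conj g0 hg0, orbit_conj g0 hg0, orbit_conj g0 hg0]
    have himg : Cfsg.quartets (g0 • maskSet 340831) = (fun Z => g0 • Z) ''
        Cfsg.quartets (maskSet 340831) := by
      ext Z
      constructor
      · intro hZ
        refine ⟨g0⁻¹ • Z, ?_, smul_inv_smul _ _⟩
        have := smul_quartets _ (Subgroup.inv_mem _ hg0) _ _ hZ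
        rwa [inv_smul_smul] at this
      · rintro ⟨Z', hZ', rfl⟩
        exact smul_quartets _ hg0 _ _ hZ'
    rw [himg, quartets_eq, Set.image_union, Set.image_union, Set.image_union, Set.image_union,
      Set.image_singleton]

end Cfsg.Agent.S1599
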