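import Mathlib
import Cfsg.Statements.S1600
import Cfsg.Agent.Lib.Helper29.M24Dodecad3

set_option autoImplicit false
open scoped Pointwise
open Cfsg

namespace Cfsg.Agent.S1600

open Cfsg.Agent.Helper29.M24 Cfsg.Agent.Helper29 Cfsg.Agent.Helper27 Cfsg.Agent.Helper29.Dod3

theorem mem_H_iff (d : Finset GolayPt) (p q r : GolayPt) (g : ↥Cfsg.M24) :
    g ∈ MulAction.stabilizer Cfsg.M24 d ⊓ MulAction.stabilizer Cfsg.M24 p ⊓
      MulAction.stabilizer Cfsg.M24 q ⊓ MulAction.stabilizer Cfsg.M24 r ↔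
      (g : Equiv.Perm GolayPt) ∈ K3 d p q r := by
  rw [mem_K3, mem_K2, mem_K1, mem_K0]
  simp only [Subgroup.mem_inf, MulAction.mem_stabilizer_iff]
  constructor
  · rintro ⟨⟨⟨h1, h2⟩, h3⟩, h4⟩
    exact ⟨⟨⟨⟨g.2, h1⟩, h2⟩, h3⟩, h4⟩
  · rintro ⟨⟨⟨⟨-, h1⟩, h2⟩, h3⟩, h4⟩
    exact ⟨⟨⟨h1, h2⟩, h3⟩, h4⟩

/-- The pointwise stabiliser of three points of a dodecad inside the dodecad stabiliser (order 72) is transitive on the complementary dodecad. -/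
theorem result (d : Finset Cfsg.GolayPt) (hd : d ∈ Cfsg.dodecads) (p q r : Cfsg.GolayPt) (hp : p ∈ d) (hq : q ∈ d) (hr : r ∈ d) (hpq : p ≠ q) (hpr : p ≠ r) (hqr : q ≠ r) : Nat.card ↥(MulAction.stabilizer Cfsg.M24 d ⊓ MulAction.stabilizer Cfsg.M24 p ⊓ MulAction.stabilizer Cfsg.M24 q ⊓ MulAction.stabilizer Cfsg.M24 r) = 72 ∧ ∀ x ∉ d, ∀ y ∉ d, ∃ g ∈ (MulAction.stabilizer Cfsg.M24 d ⊓ MulAction.stabilizer Cfsg.M24 p ⊓ MulAction.stabilizer Cfsg.M24 q ⊓ MulAction.stabilizer Cfsg.M24 r), ((g : ↥Cfsg.M24) : Equiv.Perm Cfsg.GolayPt) x = y := by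
  constructor
  · rw [← card_K3 d hd p q r hp hq hr hpq hpr hqr]
    apply card_of_map_eq
    ext g
    rw [Subgroup.mem_map]
    constructor
    · rintro ⟨h, hh, rfl⟩
      exact (mem_H_iff d p q r h).1 hh
    · intro hg
      have hM : g ∈ Cfsg.M24 := by
        rw [mem_K3, mem_K2, mem_K1, mem_K0] at hg
        exact hg.1.1.1.1
      exact ⟨⟨g, hM⟩, (mem_H_iff d p q r ⟨g, hM⟩).2 hg, rfl⟩
  · intro x hx y hy
    obtain ⟨g, hg, e⟩ := trans9 d hd p q r hp hq hr hpq hpr hqr x y hx hy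
    have hM : g ∈ Cfsg.M24 := by
      rw [mem_K3, mem_K2, mem_K1, mem_K0] at hg
      exact hg.1.1.1.1
    exact ⟨⟨g, hM⟩, (mem_H_iff d p q r ⟨g, hM⟩).2 hg, e⟩

end Cfsg.Agent.S1600
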