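import Mathlib
import Cfsg.Statements.S1601
import Mathlib
import Cfsg.Agent.Lib.Helper29.M24L211b
import Cfsg.Agent.Lib.Helper29.M24Conj
import Cfsg.Agent.Lib.Helper29.M24PairStab

set_option autoImplicit false
open scoped Pointwise
open Cfsg

namespace Cfsg.Agent.S1601


open Cfsg.Agent.Helper27 Cfsg.Agent.Helper29 Cfsg.Agent.Helper29.M24 Cfsg.Agent.Helper29.Dod3
open Cfsg.Agent.Helper29.L211
open scoped Pointwise

/-- a one-point embedding -/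
def emb1' (a : GolayPt) : Fin 1 ↪ GolayPt := ⟨fun _ => a, fun i j _ => Subsingleton.elim i j⟩

theorem d0_mem' : maskSet 340831 ∈ Cfsg.dodecads := by
  rw [← dod0_eq]
  exact dod0_mem

theorem not_mem_of_inv' (g : Equiv.Perm GolayPt) (d0 d : Finset GolayPt) (hg : g • d0 = d)
    (a : GolayPt) (ha : a ∉ d) : g⁻¹ a ∉ d0 := by
  intro h
  apply ha
  rw [← hg]
  have := Finset.smul_mem_smul_finset (a := g) h
  rwa [Equiv.Perm.smul_def, perm_apply_inv] at this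

theorem exists_map_cfg2 (d : Finset GolayPt) (hd : d ∈ Cfsg.dodecads) (p q : GolayPt)
    (hp : p ∈ d) (hq : q ∉ d) :
    ∃ g0 ∈ Cfsg.M24, g0 • maskSet 340831 = d ∧ g0 (dec 0) = p ∧ g0 (dec 23) = q := by
  obtain ⟨g1, hg1⟩ := dodecad_transitive _ d d0_mem' hd
  have hg1' : (g1 : Equiv.Perm GolayPt) • maskSet 340831 = d := hg1
  have ha : (g1 : Equiv.Perm GolayPt)⁻¹ p ∈ maskSet 340831 := by
    rw [← hg1'] at hp
    obtain ⟨b, hb, rfl⟩ := Finset.mem_smul_finset.1 hp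
    rw [Equiv.Perm.smul_def, perm_inv_apply]
    exact hb
  obtain ⟨h, hh⟩ := exists_map_dodecad_emb (by norm_num : 1 ≤ 5) _ d0_mem' (emb1' (dec 0))
    (emb1' ((g1 : Equiv.Perm GolayPt)⁻¹ p)) (fun _ => by
      show dec 0 ∈ maskSet 340831
      rw [mem_maskSet]; decide) (fun _ => ha)
  have hh0 := (mem_K0 _ _).1 (stab_to_K0 _ h)
  have hh1 : ((h : Cfsg.M24) : Equiv.Perm GolayPt) (dec 0) = (g1 : Equiv.Perm GolayPt)⁻¹ p := hh 0
  set g : Equiv.Perm GolayPt := (g1 : Equiv.Perm GolayPt) * ((h : Cfsg.M24) : Equiv.Perm GolayPt)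
    with hgdef
  have hgM : g ∈ Cfsg.M24 := Subgroup.mul_mem _ g1.2 hh0.1
  have hgd : g • maskSet 340831 = d := by rw [hgdef, mul_smul, hh0.2, hg1']
  have hgp : g (dec 0) = p := by
    rw [hgdef, Equiv.Perm.mul_apply, hh1, perm_apply_inv]
  have hx : g⁻¹ q ∉ maskSet 340831 := not_mem_of_inv' g _ d hgd q hq
  have h23 : dec 23 ∉ maskSet 340831 := by
    rw [mem_maskSet]; decide
  obtain ⟨h1, hh1K, e1⟩ := trans9_base (dec 23) (g⁻¹ q) h23 hx
  rw [mem_K3, mem_K2, mem_K1, mem_K0] at hh1K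
  obtain ⟨⟨⟨⟨h1M, h1d⟩, h1p⟩, -⟩, -⟩ := hh1K
  refine ⟨g * h1, Subgroup.mul_mem _ hgM h1M, ?_, ?_, ?_⟩
  · rw [mul_smul, h1d, hgd]
  · rw [Equiv.Perm.mul_apply, h1p, hgp]
  · rw [Equiv.Perm.mul_apply, e1, perm_apply_inv]

/-- In the 3-transitive action of the smallest Mathieu group on the complementary dodecad, a point stabiliser is isomorphic to PSL(2, 11). -/
theorem result (d : Finset Cfsg.GolayPt) (hd : d ∈ Cfsg.dodecads) (p q : Cfsg.GolayPt) (hp : p ∈ d) (hq : q ∉ d) : Nonempty (↥(MulAction.stabilizer Cfsg.M24 d ⊓ MulAction.stabilizer Cfsg.M24 p ⊓ MulAction.stabilizer Cfsg.M24 q) ≃* Matrix.ProjectiveSpecialLinearGroup (Fin 2) (ZMod 11)) := by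
  obtain ⟨g0, hg0, rfl, rfl, rfl⟩ := exists_map_cfg2 d hd p q hp hq
  have hK : ∀ y ∈ H0, g0 * y * g0⁻¹ ∈ Cfsg.M24 := by
    intro y hy
    obtain ⟨hM, -⟩ := (mem_H0 y).1 hy
    exact Subgroup.mul_mem _ (Subgroup.mul_mem _ hg0 hM) (Subgroup.inv_mem _ hg0)
  have h : ∀ x : ↥Cfsg.M24, x ∈ MulAction.stabilizer Cfsg.M24 (g0 • maskSet 340831) ⊓
      MulAction.stabilizer Cfsg.M24 (g0 (dec 0)) ⊓ MulAction.stabilizer Cfsg.M24 (g0 (dec 23)) ↔
      g0⁻¹ * (x : Equiv.Perm GolayPt) * g0 ∈ H0 := by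
    intro x
    rw [mem_H0, conj_mem_M24_iff g0 hg0, conj_smul_iff, conj_apply_iff, conj_apply_iff,
      Subgroup.mem_inf, Subgroup.mem_inf, MulAction.mem_stabilizer_iff,
      MulAction.mem_stabilizer_iff, MulAction.mem_stabilizer_iff]
    constructor
    · rintro ⟨⟨h1, h2⟩, h3⟩
      exact ⟨x.2, h1, h2, h3⟩
    · rintro ⟨-, h1, h2, h3⟩
      exact ⟨⟨h1, h2⟩, h3⟩
  exact ⟨(conjEquivGen g0 _ H0 hK h).trans iso0.symm⟩

end Cfsg.Agent.S1601
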