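import Mathlib
import Cfsg.Statements.S1602
import Mathlib
import Cfsg.Agent.Lib.Helper29.M24PairStab

set_option autoImplicit false
open scoped Pointwise
open Cfsg

namespace Cfsg.Agent.S1602

open Cfsg.Agent.Helper27 Cfsg.Agent.Helper29 Cfsg.Agent.Helper29.M24 Cfsg.Agent.Helper29.Dod3
open Cfsg.Agent.Helper29.PairStab
open scoped Pointwise

/-- a one-point embedding -/
def emb1 (a : GolayPt) : Fin 1 ↪ GolayPt := ⟨fun _ => a, fun i j _ => Subsingleton.elim i j⟩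

theorem d0_mem : maskSet 340831 ∈ Cfsg.dodecads := by
  rw [← dod0_eq]
  exact dod0_mem

theorem not_mem_of_inv (g : Equiv.Perm GolayPt) (d0 d : Finset GolayPt) (hg : g • d0 = d)
    (a : GolayPt) (ha : a ∉ d) : g⁻¹ a ∉ d0 := by
  intro h
  apply ha
  rw [← hg]
  have := Finset.smul_mem_smul_finset (a := g) h
  rwa [Equiv.Perm.smul_def, perm_apply_inv] at this

theorem exists_map_cfg (d : Finset GolayPt) (hd : d ∈ Cfsg.dodecads) (p q q' : GolayPt)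
    (hp : p ∈ d) (hq : q ∉ d) (hq' : q' ∉ d) (hqq' : q ≠ q') :
    ∃ g0 ∈ Cfsg.M24, g0 • maskSet 340831 = d ∧ g0 (dec 0) = p ∧ g0 (dec 23) = q ∧
      g0 (dec 5) = q' := by
  obtain ⟨g1, hg1⟩ := dodecad_transitive _ d d0_mem hd
  have hg1' : (g1 : Equiv.Perm GolayPt) • maskSet 340831 = d := hg1
  have ha : (g1 : Equiv.Perm GolayPt)⁻¹ p ∈ maskSet 340831 := by
    rw [← hg1'] at hp
    obtain ⟨b, hb, rfl⟩ := Finset.mem_smul_finset.1 hp
    rw [Equiv.Perm.smul_def, perm_inv_apply]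
    exact hb
  obtain ⟨h, hh⟩ := exists_map_dodecad_emb (by norm_num : 1 ≤ 5) _ d0_mem (emb1 (dec 0))
    (emb1 ((g1 : Equiv.Perm GolayPt)⁻¹ p)) (fun _ => by
      show dec 0 ∈ maskSet 340831
      rw [mem_maskSet]; decide) (fun _ => ha)
  have hh0 := (mem_K0 _ _).1 (stab_to_K0 _ h)
  have hh1 : ((h : Cfsg.M24) : Equiv.Perm GolayPt) (dec 0) = (g1 : Equiv.Perm GolayPt)⁻¹ p := hh 0
  set g : Equiv.Perm GolayPt := (g1 : Equiv.Perm GolayPt) * ((h : Cfsg.M24) : Equiv.Perm GolayPt)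
    with hgdef
  have hgM : g ∈ Cfsg.M24 := Subgroup.mul_mem _ g1.2 hh0.1
  have hgd : g • maskSet 340831 = d := by rw [hgdef, mul_smul, hh0.2, hg1']
  have hgp : g (dec 0) = p := by
    rw [hgdef, Equiv.Perm.mul_apply, hh1, perm_apply_inv]
  -- first point outside
  have hx : g⁻¹ q ∉ maskSet 340831 := not_mem_of_inv g _ d hgd q hq
  have h23 : dec 23 ∉ maskSet 340831 := by
    rw [mem_maskSet]; decide
  obtain ⟨h1, hh1K, e1⟩ := trans9_base (dec 23) (g⁻¹ q) h23 hx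
  rw [mem_K3, mem_K2, mem_K1, mem_K0] at hh1K
  obtain ⟨⟨⟨⟨h1M, h1d⟩, h1p⟩, -⟩, -⟩ := hh1K
  -- second point outside
  have hy : h1⁻¹ (g⁻¹ q') ∉ maskSet 340831 :=
    not_mem_of_inv h1 _ _ h1d _ (not_mem_of_inv g _ d hgd q' hq')
  have hy' : h1⁻¹ (g⁻¹ q') ≠ dec 23 := by
    intro e
    apply hqq'
    have e2 : g⁻¹ q' = h1 (dec 23) := by rw [← e, perm_apply_inv]
    rw [e1] at e2
    exact (g⁻¹.injective e2).symm
  obtain ⟨h2, h2M, h2d, h2p, h2q, e2⟩ := trans11 _ hy hy'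
  refine ⟨g * h1 * h2, Subgroup.mul_mem _ (Subgroup.mul_mem _ hgM h1M) h2M, ?_, ?_, ?_, ?_⟩
  · rw [mul_smul, mul_smul, h2d, h1d, hgd]
  · rw [Equiv.Perm.mul_apply, Equiv.Perm.mul_apply, h2p, h1p, hgp]
  · rw [Equiv.Perm.mul_apply, Equiv.Perm.mul_apply, h2q, e1, perm_apply_inv]
  · rw [Equiv.Perm.mul_apply, Equiv.Perm.mul_apply, e2, perm_apply_inv, perm_apply_inv]

/-- In the 12-point action of the smallest Mathieu group the setwise stabiliser of a pair is isomorphic to the symmetric group of degree 5. -/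
theorem result (d : Finset Cfsg.GolayPt) (hd : d ∈ Cfsg.dodecads) (p q q' : Cfsg.GolayPt) (hp : p ∈ d) (hq : q ∉ d) (hq' : q' ∉ d) (hqq' : q ≠ q') : Nonempty (↥(MulAction.stabilizer Cfsg.M24 d ⊓ MulAction.stabilizer Cfsg.M24 p ⊓ MulAction.stabilizer Cfsg.M24 ({q, q'} : Finset Cfsg.GolayPt)) ≃* Equiv.Perm (Fin 5)) := by
  obtain ⟨g0, hg0, rfl, rfl, rfl, rfl⟩ := exists_map_cfg d hd p q q' hp hq hq' hqq'
  obtain ⟨i⟩ := G5_iso
  have hs : g0 • maskSet 8388640 = ({g0 (dec 23), g0 (dec 5)} : Finset GolayPt) := by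
    rw [maskSet_pair, Finset.smul_finset_insert, Finset.smul_finset_singleton,
      Equiv.Perm.smul_def, Equiv.Perm.smul_def]
  have e := conjEquivGen g0
    (MulAction.stabilizer Cfsg.M24 (g0 • maskSet 340831) ⊓ MulAction.stabilizer Cfsg.M24 (g0 (dec 0)) ⊓
      MulAction.stabilizer Cfsg.M24 ({g0 (dec 23), g0 (dec 5)} : Finset Cfsg.GolayPt)) G5
    (by
      intro y hy
      rw [mem_KS] at hy
      exact Subgroup.mul_mem _ (Subgroup.mul_mem _ hg0 hy.1.1.1) (Subgroup.inv_mem _ hg0))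
    (by
      intro x
      rw [mem_KS, conj_mem_M24_iff g0 hg0, conj_smul_iff, conj_apply_iff, conj_smul_iff, hs]
      simp only [Subgroup.mem_inf, MulAction.mem_stabilizer_iff]
      constructor
      · rintro ⟨⟨h1, h2⟩, h3⟩
        exact ⟨⟨⟨x.2, h1⟩, h2⟩, h3⟩
      · rintro ⟨⟨⟨-, h1⟩, h2⟩, h3⟩
        exact ⟨⟨h1, h2⟩, h3⟩)
  exact ⟨e.trans i⟩

end Cfsg.Agent.S1602
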