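import Mathlib
import Cfsg.Statements.S1603
import Mathlib
import Cfsg.Agent.Lib.Helper29.M24Cent11

set_option autoImplicit false
open scoped Pointwise
open Cfsg

namespace Cfsg.Agent.S1603

open Cfsg.Agent.Helper27 Cfsg.Agent.Helper29 Cfsg.Agent.Helper29.M24 Cfsg.Agent.Helper29.Dod3
open Cfsg.Agent.Helper29.Cent11
open Cfsg.Agent.S0358 (idx)
open scoped Pointwise

/-- the embedding listing pairwise different points -/
def embL (l : List GolayPt) (h : l.Nodup) : Fin l.length ↪ GolayPt :=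
  ⟨l.get, List.nodup_iff_injective_get.1 h⟩

/-- a one-point embedding -/
def emb1 (a : GolayPt) : Fin 1 ↪ GolayPt := ⟨fun _ => a, fun i j _ => Subsingleton.elim i j⟩

theorem d0_mem : maskSet 340831 ∈ Cfsg.dodecads := by
  rw [← dod0_eq]
  exact dod0_mem

theorem d0_card : (maskSet 340831).card = 12 := by
  rw [card_maskSet]
  decide

theorem exists_map1 (d : Finset GolayPt) (hd : d ∈ Cfsg.dodecads) (p : GolayPt) (hp : p ∈ d) :
    ∃ g ∈ Cfsg.M24, g • maskSet 340831 = d ∧ g (dec 0) = p := by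
  obtain ⟨g1, hg1⟩ := dodecad_transitive _ d d0_mem hd
  have hg1' : (g1 : Equiv.Perm GolayPt) • maskSet 340831 = d := hg1
  have ha : (g1 : Equiv.Perm GolayPt)⁻¹ p ∈ maskSet 340831 := by
    rw [← hg1'] at hp
    obtain ⟨b, hb, rfl⟩ := Finset.mem_smul_finset.1 hp
    rw [Equiv.Perm.smul_def, perm_inv_apply]
    exact hb
  obtain ⟨h, hh⟩ := exists_map_dodecad_emb (by norm_num : 1 ≤ 5) _ d0_mem (emb1 (dec 0))
    (emb1 ((g1 : Equiv.Perm GolayPt)⁻¹ p)) (fun _ => by
      show dec 0 ∈ maskSet 340831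
      rw [mem_maskSet]; decide) (fun _ => ha)
  have hh0 := (mem_K0 _ _).1 (stab_to_K0 _ h)
  have hh1 : ((h : Cfsg.M24) : Equiv.Perm GolayPt) (dec 0) = (g1 : Equiv.Perm GolayPt)⁻¹ p := hh 0
  refine ⟨(g1 : Equiv.Perm GolayPt) * ((h : Cfsg.M24) : Equiv.Perm GolayPt),
    Subgroup.mul_mem _ g1.2 hh0.1, ?_, ?_⟩
  · rw [mul_smul, hh0.2, hg1']
  · rw [Equiv.Perm.mul_apply, hh1, perm_apply_inv]

theorem x0_vals : x0 (dec 0) = dec 0 ∧ x0 (dec 4) = dec 12 ∧ x0 (dec 12) = dec 4 ∧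
    x0 (dec 6) = dec 9 ∧ x0 (dec 9) = dec 6 := by
  refine ⟨?_, ?_, ?_, ?_, ?_⟩ <;>
  · apply M24.idx_injective
    rw [x0_idx]
    decide +kernel

theorem x0_mem : x0 ∈ Cfsg.M24 := evalW_mem_M24 wx0 wx0_letters

theorem x0_d0 : x0 • maskSet 340831 = maskSet 340831 :=
  smul_eq_of_mapsW wx0 wx0_letters 340831 340831 le_rfl (by decide +kernel)

theorem base_pts : ∀ i : Fin 5, (![dec 0, dec 4, dec 12, dec 6, dec 9] : Fin 5 → GolayPt) i ∈
    maskSet 340831 := by
  intro i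
  rw [mem_maskSet]
  revert i
  decide

/-- a non-trivial element of the group of the code preserving a dodecad moves one of its points,
and not only two of them -/
theorem exists_moved (y : Equiv.Perm GolayPt) (hy : y ∈ Cfsg.M24)
    (hd : y • maskSet 340831 = maskSet 340831) (hne : y ≠ 1) (s : Finset GolayPt)
    (hs : s.card ≤ 2) : ∃ c ∈ maskSet 340831, c ∉ s ∧ y c ≠ c := by
  by_contra hcon
  push Not at hcon
  apply hne
  have hcard : 5 ≤ Fintype.card ↥(maskSet 340831 \ s) := by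
    rw [Fintype.card_coe]
    have := Finset.le_card_sdiff s (maskSet 340831)
    rw [d0_card] at this
    omega
  obtain ⟨f⟩ := Function.Embedding.nonempty_of_card_le (α := Fin 5)
    (β := ↥(maskSet 340831 \ s)) (by rw [Fintype.card_fin]; exact hcard)
  refine dodecad_rigid _ d0_mem (f.trans (Function.Embedding.subtype _)) ?_ y hy hd ?_
  · intro i
    exact (Finset.mem_sdiff.1 (f i).2).1
  · intro i
    have := Finset.mem_sdiff.1 (f i).2
    exact hcon _ this.1 this.2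

theorem smul_mem_d0 (y : Equiv.Perm GolayPt) (hd : y • maskSet 340831 = maskSet 340831)
    (a : GolayPt) (ha : a ∈ maskSet 340831) : y a ∈ maskSet 340831 := by
  have := Finset.smul_mem_smul_finset (a := y) ha
  rwa [hd] at this

/-- the involutions of the stabilizer of the standard dodecad and its point `0` are conjugate -/
theorem conj_base (y : Equiv.Perm GolayPt) (hy : y ∈ Cfsg.M24)
    (hd : y • maskSet 340831 = maskSet 340831) (h0 : y (dec 0) = dec 0) (hsq : y * y = 1)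
    (hne : y ≠ 1) : ∃ h ∈ Cfsg.M24, h • maskSet 340831 = maskSet 340831 ∧ h (dec 0) = dec 0 ∧
      h * y * h⁻¹ = x0 := by
  have hyy : ∀ q, y (y q) = q := fun q => by
    rw [← Equiv.Perm.mul_apply, hsq, Equiv.Perm.one_apply]
  obtain ⟨a, ha, -, hya⟩ := exists_moved y hy hd hne ∅ (by simp)
  set b := y a with hb
  have hbd : b ∈ maskSet 340831 := smul_mem_d0 y hd a ha
  have hyb : y b = a := hyy a
  obtain ⟨c, hc, hcs, hyc⟩ := exists_moved y hy hd hne {a, b} Finset.card_le_two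
  rw [Finset.mem_insert, Finset.mem_singleton, not_or] at hcs
  set e := y c with he
  have hed : e ∈ maskSet 340831 := smul_mem_d0 y hd c hc
  have hye : y e = c := hyy c
  have hea : e ≠ a := by
    intro h
    apply hcs.2
    rw [← hye, h]
  have heb : e ≠ b := by
    intro h
    apply hcs.1
    rw [← hye, h, hyb]
  have h0a : dec 0 ≠ a := by
    intro h
    apply hya
    rw [hb, ← h, h0]
  have h0b : dec 0 ≠ b := by
    intro h
    apply hya
    have : y b = b := by rw [← h, h0]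
    rw [hyb] at this
    exact this.symm ▸ rfl
  have h0c : dec 0 ≠ c := by
    intro h
    apply hyc
    rw [he, ← h, h0]
  have h0e : dec 0 ≠ e := by
    intro h
    apply hyc
    have : y e = e := by rw [← h, h0]
    rw [hye] at this
    exact this.symm ▸ rfl
  have hnd : [dec 0, a, b, c, e].Nodup := by
    simp only [List.nodup_cons, List.mem_cons, List.not_mem_nil, or_false, not_or,
      List.nodup_nil, and_true, not_false_eq_true]
    exact ⟨⟨h0a, h0b, h0c, h0e⟩, ⟨Ne.symm hya, Ne.symm hcs.1, Ne.symm hea⟩,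
      ⟨Ne.symm hcs.2, Ne.symm heb⟩, Ne.symm hyc⟩
  have hnd0 : [dec 0, dec 4, dec 12, dec 6, dec 9].Nodup := by decide
  obtain ⟨h, hh⟩ := exists_map_dodecad_emb (le_refl 5) _ d0_mem (embL _ hnd) (embL _ hnd0)
    (by
      intro i
      fin_cases i
      · show dec 0 ∈ maskSet 340831
        rw [mem_maskSet]; decide
      · exact ha
      · exact hbd
      · exact hc
      · exact hed)
    (by
      intro i
      show [dec 0, dec 4, dec 12, dec 6, dec 9].get i ∈ maskSet 340831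
      rw [mem_maskSet]
      revert i
      decide)
  have hh0 := (mem_K0 _ _).1 (stab_to_K0 _ h)
  set hP : Equiv.Perm GolayPt := ((h : Cfsg.M24) : Equiv.Perm GolayPt) with hhP
  have e0 : hP (dec 0) = dec 0 := hh ⟨0, by decide⟩
  have e1 : hP a = dec 4 := hh ⟨1, by decide⟩
  have e2 : hP b = dec 12 := hh ⟨2, by decide⟩
  have e3 : hP c = dec 6 := hh ⟨3, by decide⟩
  have e4 : hP e = dec 9 := hh ⟨4, by decide⟩
  refine ⟨hP, hh0.1, hh0.2, e0, ?_⟩
  -- the element x0⁻¹ * (hP y hP⁻¹) fixes five points of the dodecad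
  set z : Equiv.Perm GolayPt := hP * y * hP⁻¹ with hz
  have hzM : z ∈ Cfsg.M24 :=
    Subgroup.mul_mem _ (Subgroup.mul_mem _ hh0.1 hy) (Subgroup.inv_mem _ hh0.1)
  have hzd : z • maskSet 340831 = maskSet 340831 := by
    rw [hz, mul_smul, mul_smul, inv_smul_eq_iff.2 hh0.2.symm, hd, hh0.2]
  have hzv : ∀ u v : GolayPt, ∀ u' : GolayPt, hP u = u' → y u = v → z u' = hP v := by
    intro u v u' hu hv
    rw [hz, Equiv.Perm.mul_apply, Equiv.Perm.mul_apply, ← hu, perm_inv_apply, hv]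
  obtain ⟨x00, x04, x012, x06, x09⟩ := x0_vals
  have hfix : x0⁻¹ * z = 1 := by
    refine dodecad_rigid _ d0_mem (embL _ hnd0) ?_ (x0⁻¹ * z)
      (Subgroup.mul_mem _ (Subgroup.inv_mem _ x0_mem) hzM) ?_ ?_
    · intro i
      show [dec 0, dec 4, dec 12, dec 6, dec 9].get i ∈ maskSet 340831
      rw [mem_maskSet]
      revert i
      decide
    · rw [mul_smul, hzd, inv_smul_eq_iff.2 x0_d0.symm]
    · intro i
      fin_cases i
      · show (x0⁻¹ * z) (dec 0) = dec 0
        rw [Equiv.Perm.mul_apply, hzv _ _ _ e0 h0, e0, Equiv.Perm.inv_def,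
          Equiv.symm_apply_eq, x00]
      · show (x0⁻¹ * z) (dec 4) = dec 4
        rw [Equiv.Perm.mul_apply, hzv _ _ _ e1 hb.symm, e2, Equiv.Perm.inv_def,
          Equiv.symm_apply_eq, x04]
      · show (x0⁻¹ * z) (dec 12) = dec 12
        rw [Equiv.Perm.mul_apply, hzv _ _ _ e2 hyb, e1, Equiv.Perm.inv_def,
          Equiv.symm_apply_eq, x012]
      · show (x0⁻¹ * z) (dec 6) = dec 6
        rw [Equiv.Perm.mul_apply, hzv _ _ _ e3 he.symm, e4, Equiv.Perm.inv_def,
          Equiv.symm_apply_eq, x06]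
      · show (x0⁻¹ * z) (dec 9) = dec 9
        rw [Equiv.Perm.mul_apply, hzv _ _ _ e4 hye, e3, Equiv.Perm.inv_def,
          Equiv.symm_apply_eq, x09]
  exact (inv_mul_eq_one.1 hfix).symm

theorem mem_C0_conj (g : Equiv.Perm GolayPt) (hg : g ∈ Cfsg.M24) (k : Equiv.Perm GolayPt) :
    g⁻¹ * k * g ∈ C0 ↔ ((k ∈ Cfsg.M24 ∧ k • g • maskSet 340831 = g • maskSet 340831) ∧
      k (g (dec 0)) = g (dec 0)) ∧ k * (g * x0 * g⁻¹) = g * x0 * g⁻¹ * k := by
  rw [mem_C0, conj_mem_M24_iff g hg, conj_smul_iff, conj_apply_iff]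
  have h : g⁻¹ * k * g * x0 = x0 * (g⁻¹ * k * g) ↔ k * (g * x0 * g⁻¹) = g * x0 * g⁻¹ * k := by
    constructor
    · intro h
      have : k * (g * x0 * g⁻¹) = g * (g⁻¹ * k * g * x0) * g⁻¹ := by group
      rw [this, h]
      group
    · intro h
      have : g⁻¹ * k * g * x0 = g⁻¹ * (k * (g * x0 * g⁻¹)) * g := by group
      rw [this, h]
      group
  rw [h]

/-- Involution centralisers in the smallest Mathieu group are isomorphic to GL(2, 3). -/
theorem result (d : Finset Cfsg.GolayPt) (hd : d ∈ Cfsg.dodecads) (p : Cfsg.GolayPt) (hp : p ∈ d) (x : ↥(MulAction.stabilizer Cfsg.M24 d ⊓ MulAction.stabilizer Cfsg.M24 p)) (hx : orderOf x = 2) : Nonempty (↥(Subgroup.centralizer ({x} : Set ↥(MulAction.stabilizer Cfsg.M24 d ⊓ MulAction.stabilizer Cfsg.M24 p))) ≃* GL (Fin 2) (ZMod 3)) := by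
  classical
  have hmemH1 : ∀ y : ↥Cfsg.M24, y ∈ MulAction.stabilizer Cfsg.M24 d ⊓ MulAction.stabilizer Cfsg.M24 p ↔
      (y : Equiv.Perm GolayPt) • d = d ∧ (y : Equiv.Perm GolayPt) p = p := by
    intro y
    rw [Subgroup.mem_inf, MulAction.mem_stabilizer_iff, MulAction.mem_stabilizer_iff]
    exact Iff.rfl
  set xP : Equiv.Perm GolayPt := ((x : ↥Cfsg.M24) : Equiv.Perm GolayPt) with hxP
  have hxM : xP ∈ Cfsg.M24 := (x : ↥Cfsg.M24).2
  obtain ⟨hxd, hxp⟩ := (hmemH1 x.1).1 x.2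
  have hxsq : xP * xP = 1 := by
    have h2 : x ^ 2 = 1 := by
      rw [← hx]
      exact pow_orderOf_eq_one x
    rw [pow_two] at h2
    have := congrArg (fun y : ↥(MulAction.stabilizer Cfsg.M24 d ⊓ MulAction.stabilizer Cfsg.M24 p) =>
      ((y : ↥Cfsg.M24) : Equiv.Perm GolayPt)) h2
    exact this
  have hxne : xP ≠ 1 := by
    intro h
    have : x = 1 := Subtype.ext (Subtype.ext h)
    rw [this, orderOf_one] at hx
    norm_num at hx
  obtain ⟨g1, hg1M, hg1d, hg1p⟩ := exists_map1 d hd p hp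
  -- conjugate into the standard configuration
  have hyM : g1⁻¹ * xP * g1 ∈ Cfsg.M24 := (conj_mem_M24_iff g1 hg1M xP).2 hxM
  have hyd : (g1⁻¹ * xP * g1) • maskSet 340831 = maskSet 340831 := by
    rw [conj_smul_iff, hg1d, hxd]
  have hy0 : (g1⁻¹ * xP * g1) (dec 0) = dec 0 := by
    rw [conj_apply_iff, hg1p, hxp]
  have hysq : (g1⁻¹ * xP * g1) * (g1⁻¹ * xP * g1) = 1 := by
    have : (g1⁻¹ * xP * g1) * (g1⁻¹ * xP * g1) = g1⁻¹ * (xP * xP) * g1 := by group
    rw [this, hxsq]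
    group
  have hyne : g1⁻¹ * xP * g1 ≠ 1 := by
    intro h
    apply hxne
    have : xP = g1 * (g1⁻¹ * xP * g1) * g1⁻¹ := by group
    rw [this, h]
    group
  obtain ⟨h, hhM, hhd, hh0, hconj⟩ := conj_base _ hyM hyd hy0 hysq hyne
  set g : Equiv.Perm GolayPt := g1 * h⁻¹ with hgdef
  have hgM : g ∈ Cfsg.M24 := Subgroup.mul_mem _ hg1M (Subgroup.inv_mem _ hhM)
  have hgd : g • maskSet 340831 = d := by
    rw [hgdef, mul_smul, inv_smul_eq_iff.2 hhd.symm, hg1d]
  have hgp : g (dec 0) = p := by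
    rw [hgdef, Equiv.Perm.mul_apply]
    have : h⁻¹ (dec 0) = dec 0 := by
      rw [Equiv.Perm.inv_def, Equiv.symm_apply_eq, hh0]
    rw [this, hg1p]
  have hgx : g * x0 * g⁻¹ = xP := by
    rw [← hconj, hgdef]
    group
  -- membership in the centralizer, as permutations
  have hmemC : ∀ k : ↥(MulAction.stabilizer Cfsg.M24 d ⊓ MulAction.stabilizer Cfsg.M24 p),
      k ∈ Subgroup.centralizer ({x} : Set ↥(MulAction.stabilizer Cfsg.M24 d ⊓
        MulAction.stabilizer Cfsg.M24 p)) ↔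
      ((k : ↥Cfsg.M24) : Equiv.Perm GolayPt) * xP = xP * ((k : ↥Cfsg.M24) : Equiv.Perm GolayPt) := by
    intro k
    rw [Subgroup.mem_centralizer_singleton_iff]
    constructor
    · intro hk
      exact congrArg (fun y : ↥(MulAction.stabilizer Cfsg.M24 d ⊓ MulAction.stabilizer Cfsg.M24 p) =>
        ((y : ↥Cfsg.M24) : Equiv.Perm GolayPt)) hk
    · intro hk
      exact Subtype.ext (Subtype.ext hk)
  have hto : ∀ k : ↥(Subgroup.centralizer ({x} : Set ↥(MulAction.stabilizer Cfsg.M24 d ⊓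
      MulAction.stabilizer Cfsg.M24 p))),
      g⁻¹ * (((k : ↥(MulAction.stabilizer Cfsg.M24 d ⊓ MulAction.stabilizer Cfsg.M24 p)) : ↥Cfsg.M24) :
        Equiv.Perm GolayPt) * g ∈ C0 := by
    intro k
    rw [mem_C0_conj g hgM, hgd, hgp, hgx]
    obtain ⟨h1, h2⟩ := (hmemH1 k.1.1).1 k.1.2
    exact ⟨⟨⟨k.1.1.2, h1⟩, h2⟩, (hmemC k.1).1 k.2⟩
  let φ : ↥(Subgroup.centralizer ({x} : Set ↥(MulAction.stabilizer Cfsg.M24 d ⊓
      MulAction.stabilizer Cfsg.M24 p))) →* ↥C0 :=
    { toFun := fun k => ⟨_, hto k⟩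
      map_one' := by
        apply Subtype.ext
        show g⁻¹ * (1 : Equiv.Perm GolayPt) * g = 1
        group
      map_mul' := by
        intro a b
        apply Subtype.ext
        show g⁻¹ * ((((a : ↥(MulAction.stabilizer Cfsg.M24 d ⊓ MulAction.stabilizer Cfsg.M24 p)) :
          ↥Cfsg.M24) : Equiv.Perm GolayPt) * (((b : ↥(MulAction.stabilizer Cfsg.M24 d ⊓
          MulAction.stabilizer Cfsg.M24 p)) : ↥Cfsg.M24) : Equiv.Perm GolayPt)) * g = _
        show _ = g⁻¹ * (((a : ↥(MulAction.stabilizer Cfsg.M24 d ⊓ MulAction.stabilizer Cfsg.M24 p)) :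
          ↥Cfsg.M24) : Equiv.Perm GolayPt) * g * (g⁻¹ * (((b : ↥(MulAction.stabilizer Cfsg.M24 d ⊓
          MulAction.stabilizer Cfsg.M24 p)) : ↥Cfsg.M24) : Equiv.Perm GolayPt) * g)
        group }
  have hinj : Function.Injective φ := by
    intro a b hab
    have h1 : g⁻¹ * (((a : ↥(MulAction.stabilizer Cfsg.M24 d ⊓ MulAction.stabilizer Cfsg.M24 p)) :
        ↥Cfsg.M24) : Equiv.Perm GolayPt) * g = g⁻¹ * (((b : ↥(MulAction.stabilizer Cfsg.M24 d ⊓
        MulAction.stabilizer Cfsg.M24 p)) : ↥Cfsg.M24) : Equiv.Perm GolayPt) * g :=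
      congrArg Subtype.val hab
    have e : ∀ z : Equiv.Perm GolayPt, g * (g⁻¹ * z * g) * g⁻¹ = z := fun z => by group
    have h2 := congrArg (fun z : Equiv.Perm GolayPt => g * z * g⁻¹) h1
    rw [e, e] at h2
    exact Subtype.ext (Subtype.ext (Subtype.ext h2))
  have hsurj : Function.Surjective φ := by
    intro c
    have hc : g⁻¹ * (g * (c : Equiv.Perm GolayPt) * g⁻¹) * g ∈ C0 := by
      have : g⁻¹ * (g * (c : Equiv.Perm GolayPt) * g⁻¹) * g = c := by group
      rw [this]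
      exact c.2
    rw [mem_C0_conj g hgM, hgd, hgp, hgx] at hc
    obtain ⟨⟨⟨c1, c2⟩, c3⟩, c4⟩ := hc
    refine ⟨⟨⟨⟨g * (c : Equiv.Perm GolayPt) * g⁻¹, c1⟩, (hmemH1 _).2 ⟨c2, c3⟩⟩,
      (hmemC _).2 c4⟩, ?_⟩
    apply Subtype.ext
    show g⁻¹ * (g * (c : Equiv.Perm GolayPt) * g⁻¹) * g = c
    group
  obtain ⟨i⟩ := C0_iso
  exact ⟨(MulEquiv.ofBijective φ ⟨hinj, hsurj⟩).trans i⟩

end Cfsg.Agent.S1603
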