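import Mathlib
import Cfsg.Statements.S1607
import Cfsg.Agent.Lib.Helper29.M24Cfg

set_option autoImplicit false
open scoped Pointwise
open Cfsg

namespace Cfsg.Agent.S1607

open Cfsg.Agent.Helper29.M24 Cfsg.Agent.Helper29 Cfsg.Agent.Helper27
open Cfsg.Agent.S0358 (idx)

def hgens : List (ℕ × ℕ) := [
  (963545905816649845049248200019413041, 55737379750062450742067),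
  (982130666217772326503275671745214499, 2771665169),
  (968550367477163398792888842013805009, 14250174898554984526451507),
  (982897599907767410943629474985413697, 11878159382657)]

set_option maxRecDepth 100000 in
def treeTab : List (List ℕ) := [
  [0, 0, 0, 0, 0, 0, 0, 0, 0, 0, 0, 0, 0, 0, 0, 0, 0, 0, 0, 0, 0, 0, 0, 0, 0, 0, 0, 0, 0, 0, 0, 0, 0, 0, 0, 0, 0, 0, 0, 0, 0, 0, 0, 0, 0, 0, 0, 0, 0, 0, 0, 0, 0, 0, 0, 0, 0, 0, 0, 0, 0, 0, 0, 0],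
  [0, 0, 0, 0, 0, 0, 0, 0, 0, 0, 0, 0, 0, 0, 0, 0, 0, 0, 0, 0, 0, 0, 0, 0, 0, 0, 0, 0, 0, 0, 0, 0, 0, 0, 0, 0, 0, 0, 0, 0, 0, 0, 0, 0, 0, 0, 0, 0, 0, 0, 0, 0, 0, 0, 0, 0, 0, 0, 0, 0, 0, 0, 0, 0],
  [0, 0, 0, 0, 0, 0, 0, 0, 0, 0, 0, 0, 0, 0, 0, 0, 0, 0, 0, 0, 0, 0, 0, 0, 0, 0, 0, 0, 0, 0, 0, 0, 0, 0, 0, 0, 0, 0, 0, 0, 0, 0, 0, 0, 0, 0, 0, 0, 0, 0, 0, 0, 0, 0, 0, 0, 0, 0, 0, 0, 0, 0, 0, 0],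
  [0, 0, 0, 0, 0, 0, 0, 0, 0, 0, 0, 0, 0, 0, 0, 0, 0, 0, 0, 0, 0, 0, 0, 0, 0, 0, 0, 0, 0, 0, 0, 0, 0, 0, 0, 0, 0, 0, 0, 0, 0, 0, 0, 0, 0, 0, 0, 0, 0, 0, 0, 0, 0, 0, 0, 0, 0, 0, 0, 0, 0, 0, 0, 0],
  [0, 0, 0, 0, 0, 0, 0, 0, 0, 0, 0, 0, 0, 0, 0, 0, 0, 0, 0, 0, 0, 0, 0, 0, 0, 0, 0, 0, 0, 0, 0, 0, 0, 0, 0, 0, 0, 0, 0, 0, 0, 0, 0, 0, 0, 0, 0, 0, 0, 0, 0, 0, 0, 0, 0, 0, 0, 0, 0, 0, 0, 0, 0, 0],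
  [0, 0, 0, 0, 0, 0, 0, 0, 0, 0, 0, 0, 0, 0, 0, 0, 0, 0, 0, 0, 0, 0, 0, 0, 0, 0, 0, 0, 0, 0, 0, 0, 0, 0, 0, 0, 0, 0, 0, 0, 0, 0, 0, 0, 0, 0, 0, 0, 0, 0, 0, 0, 0, 0, 0, 0, 0, 0, 0, 0, 0, 0, 0, 0],
  [0, 0, 0, 0, 0, 0, 0, 0, 0, 0, 0, 0, 0, 0, 0, 0, 0, 0, 0, 0, 0, 0, 0, 0, 0, 0, 0, 0, 0, 0, 0, 0, 0, 0, 0, 0, 0, 0, 0, 0, 0, 0, 0, 0, 0, 0, 0, 0, 0, 0, 0, 0, 0, 0, 0, 0, 0, 0, 0, 0, 0, 0, 0, 0],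
  [0, 0, 0, 0, 0, 0, 0, 0, 0, 0, 0, 0, 0, 0, 0, 0, 0, 0, 0, 0, 0, 0, 0, 0, 0, 0, 0, 0, 0, 0, 0, 0, 0, 0, 0, 0, 0, 0, 0, 0, 0, 0, 0, 0, 0, 0, 0, 0, 0, 0, 0, 0, 0, 0, 0, 0, 0, 0, 0, 0, 0, 0, 0, 0],
  [0, 0, 0, 0, 0, 0, 0, 0, 0, 0, 0, 0, 0, 0, 0, 0, 0, 0, 0, 0, 0, 0, 0, 0, 0, 0, 0, 0, 0, 0, 0, 0, 0, 0, 0, 0, 0, 0, 0, 0, 0, 0, 0, 0, 0, 0, 0, 0, 0, 0, 0, 0, 0, 0, 0, 0, 0, 0, 0, 0, 0, 0, 0, 0],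
  [0, 0, 0, 0, 0, 0, 0, 0, 0, 0, 0, 0, 0, 0, 0, 0, 0, 0, 0, 0, 0, 0, 0, 0, 0, 0, 0, 0, 0, 0, 0, 0, 0, 0, 0, 0, 0, 0, 0, 0, 0, 0, 0, 0, 0, 0, 0, 0, 0, 0, 0, 0, 0, 0, 0, 0, 0, 0, 0, 0, 0, 0, 0, 0],
  [0, 0, 0, 0, 0, 0, 0, 0, 0, 0, 0, 0, 0, 0, 0, 0, 0, 0, 0, 0, 0, 0, 0, 0, 0, 0, 0, 0, 0, 0, 0, 0, 0, 0, 0, 0, 0, 0, 0, 0, 0, 0, 0, 0, 0, 0, 0, 0, 0, 0, 0, 0, 0, 0, 0, 0, 0, 0, 0, 0, 0, 0, 0, 0],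
  [0, 0, 0, 0, 0, 0, 0, 0, 0, 0, 0, 0, 0, 0, 0, 0, 0, 0, 0, 0, 0, 0, 0, 0, 0, 0, 0, 0, 0, 0, 0, 0, 0, 0, 0, 0, 0, 0, 0, 0, 0, 0, 0, 0, 0, 0, 0, 0, 0, 0, 0, 0, 0, 0, 0, 0, 0, 0, 0, 0, 0, 0, 0, 0],
  [0, 0, 0, 0, 0, 0, 0, 0, 0, 0, 0, 0, 0, 0, 0, 0, 0, 0, 0, 0, 0, 0, 0, 0, 0, 0, 0, 0, 0, 0, 0, 0, 0, 0, 0, 0, 0, 0, 0, 0, 0, 0, 0, 0, 0, 0, 0, 0, 0, 0, 0, 0, 0, 0, 0, 0, 0, 0, 0, 0, 0, 0, 0, 0],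
  [0, 0, 0, 0, 0, 0, 0, 0, 0, 0, 0, 0, 0, 0, 0, 0, 0, 0, 0, 0, 0, 0, 0, 0, 0, 0, 0, 0, 0, 0, 0, 0, 0, 0, 0, 0, 0, 0, 0, 0, 0, 0, 0, 0, 0, 0, 0, 0, 0, 0, 0, 0, 0, 0, 0, 0, 0, 0, 0, 0, 0, 0, 0, 0],
  [0, 0, 0, 0, 0, 0, 0, 0, 0, 0, 0, 0, 0, 0, 0, 0, 0, 0, 0, 0, 0, 0, 0, 0, 0, 0, 0, 0, 0, 0, 0, 0, 0, 0, 0, 0, 0, 0, 0, 0, 0, 0, 0, 0, 0, 0, 0, 0, 0, 0, 0, 0, 0, 0, 0, 0, 0, 0, 0, 0, 0, 0, 0, 0],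
  [0, 0, 0, 0, 0, 0, 0, 0, 0, 0, 0, 0, 0, 0, 0, 0, 0, 0, 0, 0, 0, 0, 0, 0, 0, 0, 0, 0, 0, 0, 0, 0, 0, 0, 0, 0, 0, 0, 0, 0, 0, 0, 0, 0, 0, 0, 0, 0, 0, 0, 0, 0, 0, 0, 0, 0, 0, 0, 0, 0, 0, 0, 0, 0],
  [0, 0, 0, 0, 0, 0, 0, 0, 0, 0, 0, 0, 0, 0, 0, 0, 0, 0, 0, 0, 0, 0, 0, 0, 0, 0, 0, 0, 0, 0, 0, 0, 0, 0, 0, 0, 0, 0, 0, 0, 0, 0, 0, 0, 0, 0, 0, 0, 0, 0, 0, 0, 0, 0, 0, 0, 0, 0, 0, 0, 0, 0, 0, 0],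
  [0, 0, 0, 0, 0, 0, 0, 0, 0, 0, 0, 0, 0, 0, 0, 0, 0, 0, 0, 0, 0, 0, 0, 0, 0, 0, 0, 0, 0, 0, 0, 0, 0, 0, 0, 0, 0, 0, 0, 0, 0, 0, 0, 0, 0, 0, 0, 0, 0, 0, 0, 0, 0, 0, 0, 0, 0, 0, 0, 0, 0, 0, 0, 0],
  [0, 0, 0, 0, 0, 0, 0, 0, 0, 0, 0, 0, 0, 0, 0, 0, 0, 0, 0, 0, 0, 0, 0, 0, 0, 0, 0, 0, 0, 0, 0, 0, 0, 0, 0, 0, 0, 0, 0, 0, 0, 0, 0, 0, 0, 0, 0, 0, 0, 0, 0, 0, 0, 0, 0, 0, 0, 0, 0, 0, 0, 0, 0, 0],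
  [0, 0, 0, 0, 0, 0, 0, 0, 0, 0, 0, 0, 0, 0, 0, 0, 0, 0, 0, 0, 0, 0, 0, 0, 0, 0, 0, 0, 0, 0, 0, 0, 0, 0, 0, 0, 0, 0, 0, 0, 0, 0, 0, 0, 0, 0, 0, 0, 0, 0, 0, 0, 0, 0, 0, 0, 0, 0, 0, 0, 0, 0, 0, 0],
  [0, 0, 0, 0, 0, 0, 0, 0, 0, 0, 0, 0, 0, 0, 0, 0, 0, 0, 0, 0, 0, 0, 0, 0, 0, 0, 0, 0, 0, 0, 0, 0, 0, 0, 0, 0, 0, 0, 0, 0, 0, 0, 0, 0, 0, 0, 0, 0, 0, 0, 0, 0, 0, 0, 0, 0, 0, 0, 0, 0, 0, 0, 0, 0],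
  [0, 0, 0, 0, 0, 0, 0, 0, 0, 0, 0, 0, 0, 0, 0, 0, 0, 0, 0, 0, 0, 0, 0, 0, 0, 0, 0, 0, 0, 0, 0, 0, 0, 0, 0, 0, 0, 0, 0, 0, 0, 0, 0, 0, 0, 0, 0, 0, 0, 0, 0, 0, 0, 0, 0, 0, 0, 0, 0, 0, 0, 0, 0, 0],
  [0, 0, 0, 0, 0, 0, 0, 0, 0, 0, 0, 0, 0, 0, 0, 0, 0, 0, 0, 0, 0, 0, 0, 0, 0, 0, 0, 0, 0, 0, 0, 0, 0, 0, 0, 0, 0, 0, 0, 0, 0, 0, 0, 0, 0, 0, 0, 0, 0, 0, 0, 0, 0, 0, 0, 0, 0, 0, 0, 0, 0, 0, 0, 0],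
  [0, 0, 0, 0, 0, 0, 0, 0, 0, 0, 0, 0, 0, 0, 0, 0, 0, 0, 0, 0, 0, 0, 0, 0, 0, 0, 0, 0, 0, 0, 0, 0, 0, 0, 0, 0, 0, 0, 0, 0, 0, 0, 0, 0, 0, 0, 0, 0, 0, 0, 0, 0, 0, 0, 0, 0, 0, 0, 0, 0, 0, 0, 0, 0],
  [0, 0, 0, 0, 0, 0, 0, 0, 0, 0, 0, 0, 0, 0, 0, 0, 0, 0, 0, 0, 0, 0, 0, 0, 0, 0, 0, 0, 0, 0, 0, 0, 0, 0, 0, 0, 0, 0, 0, 0, 0, 0, 0, 0, 0, 0, 0, 0, 0, 0, 0, 0, 0, 0, 0, 0, 0, 0, 0, 0, 0, 0, 0, 0],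
  [0, 0, 0, 0, 0, 0, 0, 0, 0, 0, 0, 0, 0, 0, 0, 0, 0, 0, 0, 0, 0, 0, 0, 0, 0, 0, 0, 0, 0, 0, 0, 0, 0, 0, 0, 0, 0, 0, 0, 0, 0, 0, 0, 0, 0, 0, 0, 0, 0, 0, 0, 0, 0, 0, 0, 0, 0, 0, 0, 0, 0, 0, 0, 0],
  [0, 0, 0, 0, 0, 0, 0, 0, 0, 0, 0, 0, 0, 0, 0, 0, 0, 0, 0, 0, 0, 0, 0, 0, 0, 0, 0, 0, 0, 0, 0, 0, 0, 0, 0, 0, 0, 0, 0, 0, 0, 0, 0, 0, 0, 0, 0, 0, 0, 0, 0, 0, 0, 0, 0, 0, 0, 0, 0, 0, 0, 0, 0, 0],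
  [0, 0, 0, 0, 0, 0, 0, 0, 0, 0, 0, 0, 0, 0, 0, 0, 0, 0, 0, 0, 0, 0, 0, 0, 0, 0, 0, 0, 0, 0, 0, 0, 0, 0, 0, 0, 0, 0, 0, 0, 0, 0, 0, 0, 0, 0, 0, 0, 0, 0, 0, 0, 0, 0, 0, 0, 0, 0, 0, 0, 0, 0, 0, 0],
  [0, 0, 0, 0, 0, 0, 0, 0, 0, 0, 0, 0, 0, 0, 0, 0, 0, 0, 0, 0, 0, 0, 0, 0, 0, 0, 0, 0, 0, 0, 0, 0, 0, 0, 0, 0, 0, 0, 0, 0, 0, 0, 0, 0, 0, 0, 0, 0, 0, 0, 0, 0, 0, 0, 0, 0, 0, 0, 0, 0, 0, 0, 0, 0],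
  [0, 0, 0, 0, 0, 0, 0, 0, 0, 0, 0, 0, 0, 0, 0, 0, 0, 0, 0, 0, 0, 0, 0, 0, 0, 0, 0, 0, 0, 0, 0, 0, 0, 0, 0, 0, 0, 0, 0, 0, 0, 0, 0, 0, 0, 0, 0, 0, 0, 0, 0, 0, 0, 0, 0, 0, 0, 0, 0, 0, 0, 0, 0, 0],
  [0, 0, 0, 0, 0, 0, 0, 0, 0, 0, 0, 0, 0, 0, 0, 0, 0, 0, 0, 0, 0, 0, 0, 0, 0, 0, 0, 0, 0, 0, 0, 0, 0, 0, 0, 0, 0, 0, 0, 0, 0, 0, 0, 0, 0, 0, 0, 0, 0, 0, 0, 0, 0, 0, 0, 0, 0, 0, 0, 0, 0, 0, 0, 0],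
  [0, 0, 0, 0, 0, 0, 0, 0, 0, 0, 0, 0, 0, 0, 0, 0, 0, 0, 0, 0, 0, 0, 0, 0, 0, 0, 0, 0, 0, 0, 0, 0, 0, 0, 0, 0, 0, 0, 0, 0, 0, 0, 0, 0, 0, 0, 0, 0, 0, 0, 0, 0, 0, 0, 0, 0, 0, 0, 0, 0, 0, 0, 0, 0],
  [0, 0, 0, 0, 0, 0, 0, 0, 0, 0, 0, 0, 0, 0, 0, 0, 0, 0, 0, 0, 0, 0, 0, 0, 0, 0, 0, 1326096, 0, 0, 0, 0, 0, 0, 0, 0, 0, 0, 0, 1051223, 0, 0, 0, 0, 0, 0, 0, 0, 0, 0, 0, 0, 0, 0, 802410, 0, 0, 535332, 0, 0, 0, 0, 0, 0],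
  [0, 0, 0, 0, 0, 0, 0, 1064455, 0, 0, 0, 0, 0, 0, 1055236, 796908, 0, 0, 0, 0, 0, 0, 0, 0, 0, 0, 0, 0, 0, 0, 0, 0, 0, 1051640, 0, 0, 798338, 0, 0, 0, 0, 0, 0, 0, 789687, 0, 0, 0, 0, 0, 1054958, 0, 0, 0, 0, 0, 0, 0, 0, 0, 0, 0, 0, 0],
  [0, 0, 0, 0, 0, 0, 0, 0, 0, 0, 0, 0, 0, 0, 1052659, 0, 0, 0, 0, 0, 0, 0, 0, 0, 0, 0, 0, 0, 1064239, 1052052, 1052444, 0, 0, 802006, 0, 0, 0, 0, 0, 0, 0, 0, 0, 0, 0, 0, 0, 0, 0, 0, 0, 0, 0, 1052510, 0, 0, 0, 0, 0, 0, 0, 0, 0, 1064339],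
  [0, 0, 1051558, 0, 0, 0, 0, 0, 539150, 0, 0, 1051868, 0, 0, 0, 0, 0, 0, 0, 0, 0, 0, 0, 0, 793783, 0, 0, 0, 0, 0, 0, 0, 0, 0, 0, 0, 802660, 0, 0, 0, 0, 0, 0, 530958, 0, 789469, 0, 0, 0, 0, 0, 801799, 0, 0, 0, 1064519, 0, 0, 0, 0, 0, 0, 0, 0],
  [0, 0, 0, 0, 0, 0, 0, 0, 0, 797276, 0, 0, 0, 0, 0, 0, 0, 0, 0, 1052014, 0, 0, 0, 1051987, 0, 0, 0, 0, 1322000, 0, 0, 0, 0, 0, 0, 0, 0, 0, 0, 0, 0, 0, 0, 792634, 0, 0, 0, 0, 0, 0, 0, 0, 0, 1321236, 0, 0, 1060325, 0, 1060499, 0, 531233, 0, 0, 0],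
  [0, 797102, 1052307, 0, 0, 797703, 0, 0, 0, 0, 0, 0, 0, 0, 0, 0, 0, 0, 0, 0, 0, 0, 0, 0, 0, 0, 0, 0, 0, 0, 0, 1064618, 0, 0, 0, 0, 0, 0, 0, 0, 0, 0, 1060808, 0, 0, 0, 0, 0, 0, 0, 0, 0, 0, 0, 0, 0, 0, 539486, 0, 0, 0, 0, 1063846, 0],
  [0, 0, 0, 0, 1064322, 0, 0, 0, 0, 0, 0, 0, 0, 0, 0, 0, 793861, 0, 0, 0, 0, 0, 1056636, 0, 0, 0, 0, 0, 0, 0, 0, 0, 0, 0, 0, 0, 0, 0, 0, 0, 0, 0, 0, 0, 0, 532071, 0, 0, 1314112, 0, 0, 797050, 0, 0, 0, 0, 0, 0, 0, 0, 0, 0, 0, 801675],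
  [0, 0, 0, 0, 0, 1052191, 0, 0, 1060423, 0, 0, 0, 0, 0, 0, 0, 0, 0, 0, 0, 0, 0, 1064275, 0, 0, 0, 1321744, 0, 0, 0, 0, 0, 0, 1052353, 0, 0, 0, 0, 1051768, 0, 0, 0, 0, 0, 0, 0, 531410, 0, 0, 0, 0, 0, 0, 0, 0, 0, 0, 792777, 0, 0, 0, 0, 0, 0],
  [0, 0, 0, 789594, 0, 0, 0, 0, 0, 0, 0, 0, 0, 268339, 0, 0, 0, 0, 1063428, 0, 0, 0, 0, 0, 0, 0, 0, 0, 0, 788858, 0, 0, 0, 0, 0, 0, 0, 0, 1059459, 0, 0, 0, 0, 0, 0, 0, 1060383, 0, 0, 0, 0, 0, 0, 0, 0, 0, 1051895, 0, 0, 0, 0, 0, 0, 0],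
  [0, 0, 0, 0, 0, 798495, 0, 0, 0, 0, 0, 0, 0, 0, 0, 0, 0, 1051951, 0, 0, 0, 0, 798616, 0, 0, 0, 0, 535393, 0, 0, 0, 0, 0, 0, 0, 0, 0, 0, 0, 0, 0, 0, 1052034, 0, 0, 0, 0, 0, 1325898, 0, 0, 0, 1050786, 0, 0, 0, 1055533, 0, 0, 788538, 0, 0, 0, 0],
  [0, 0, 789300, 0, 789718, 793525, 0, 0, 0, 0, 1064302, 0, 0, 0, 0, 0, 0, 0, 0, 0, 0, 0, 0, 797579, 0, 0, 0, 0, 0, 0, 0, 0, 0, 0, 0, 0, 0, 0, 0, 0, 0, 527222, 0, 1325154, 0, 0, 0, 0, 0, 1051060, 0, 0, 0, 0, 0, 0, 0, 0, 0, 0, 0, 0, 793258, 0],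
  [0, 0, 0, 0, 0, 0, 0, 0, 0, 1055319, 0, 0, 0, 0, 0, 0, 0, 0, 0, 0, 1059415, 0, 0, 1060065, 0, 0, 0, 0, 0, 0, 0, 0, 0, 0, 0, 0, 0, 0, 0, 0, 0, 0, 0, 0, 0, 0, 0, 1059332, 0, 0, 1055564, 0, 0, 0, 0, 0, 0, 0, 0, 0, 802299, 794399, 0, 0],
  [0, 0, 0, 1060271, 0, 0, 0, 0, 793071, 0, 0, 0, 0, 0, 0, 1055262, 0, 0, 0, 0, 0, 0, 0, 0, 0, 0, 0, 0, 0, 0, 0, 0, 276531, 0, 0, 268314, 0, 0, 0, 0, 0, 0, 0, 0, 802649, 0, 0, 0, 0, 0, 0, 527198, 0, 0, 0, 0, 0, 0, 0, 0, 0, 0, 0, 0],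
  [0, 0, 0, 0, 0, 0, 0, 0, 0, 1060143, 0, 793690, 0, 0, 0, 0, 0, 0, 0, 0, 0, 1051166, 0, 0, 0, 0, 1051270, 0, 0, 264243, 0, 0, 272435, 0, 0, 0, 0, 0, 801085, 0, 0, 0, 0, 0, 0, 0, 0, 0, 0, 0, 0, 0, 0, 276506, 0, 0, 0, 0, 0, 0, 0, 0, 789084, 0],
  [0, 0, 0, 0, 0, 0, 0, 0, 0, 0, 539510, 0, 0, 0, 1056690, 1051519, 1055363, 0, 0, 0, 0, 0, 0, 0, 0, 0, 0, 0, 0, 0, 0, 0, 0, 0, 0, 0, 0, 790122, 0, 1056168, 0, 0, 0, 0, 802434, 0, 0, 0, 0, 0, 0, 0, 527314, 0, 0, 0, 0, 0, 0, 531318, 0, 0, 0, 0],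
  [0, 0, 794196, 0, 0, 0, 0, 0, 0, 0, 0, 0, 793483, 0, 0, 0, 0, 264218, 0, 0, 0, 0, 0, 0, 0, 0, 0, 0, 531297, 0, 0, 0, 0, 0, 0, 0, 0, 0, 0, 0, 0, 0, 0, 0, 0, 0, 0, 0, 0, 0, 1055366, 0, 0, 0, 0, 790303, 0, 1056591, 0, 0, 0, 0, 0, 0],
  [0, 0, 0, 0, 0, 0, 539489, 0, 0, 0, 0, 0, 0, 0, 0, 1051140, 0, 0, 0, 0, 0, 1063494, 0, 0, 0, 0, 802712, 0, 0, 0, 0, 0, 0, 0, 0, 0, 1059867, 801757, 0, 0, 0, 789765, 0, 0, 0, 0, 0, 0, 0, 0, 0, 1064882, 0, 0, 0, 0, 0, 0, 1064340, 0, 0, 0, 0, 0],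
  [0, 0, 0, 0, 0, 0, 0, 0, 0, 0, 0, 0, 802053, 0, 0, 0, 0, 0, 0, 1063756, 0, 0, 0, 0, 0, 539602, 0, 0, 1060244, 0, 0, 0, 0, 0, 0, 0, 0, 0, 0, 0, 0, 0, 0, 0, 0, 0, 0, 0, 1063928, 0, 0, 0, 0, 0, 0, 792954, 0, 0, 0, 0, 0, 0, 0, 1051725],
  [0, 0, 0, 0, 0, 0, 0, 0, 0, 0, 1064404, 0, 0, 1060786, 0, 0, 0, 0, 0, 0, 0, 0, 0, 0, 0, 1052472, 0, 0, 0, 0, 0, 0, 0, 0, 1055356, 1055736, 0, 0, 0, 0, 0, 0, 0, 0, 1325096, 0, 0, 0, 0, 0, 0, 0, 0, 0, 539425, 0, 0, 0, 0, 0, 0, 0, 0, 0],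
  [0, 0, 0, 0, 0, 0, 0, 0, 0, 0, 0, 790081, 0, 0, 0, 0, 0, 0, 0, 0, 1055497, 527201, 0, 0, 0, 0, 0, 796730, 0, 0, 0, 1056452, 794177, 0, 0, 0, 0, 0, 0, 0, 1060081, 0, 0, 0, 0, 0, 0, 0, 798292, 0, 0, 0, 0, 0, 793814, 0, 0, 0, 0, 0, 0, 0, 0, 0],
  [0, 0, 0, 0, 535390, 0, 0, 793532, 1321579, 0, 1317904, 0, 0, 0, 0, 0, 0, 0, 0, 0, 792893, 0, 0, 0, 0, 0, 0, 0, 0, 0, 0, 0, 0, 1312808, 0, 0, 0, 0, 0, 0, 0, 0, 0, 802591, 0, 0, 793006, 0, 0, 0, 0, 0, 0, 0, 0, 0, 0, 0, 0, 0, 0, 0, 0, 1059593],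
  [0, 790146, 0, 0, 0, 0, 0, 0, 0, 0, 0, 0, 0, 0, 0, 0, 0, 0, 797910, 0, 0, 0, 1056008, 0, 0, 0, 0, 0, 0, 0, 0, 0, 0, 0, 1063875, 0, 0, 0, 0, 0, 0, 0, 0, 0, 0, 802321, 0, 0, 0, 0, 0, 0, 0, 0, 0, 0, 0, 0, 0, 0, 1063558, 1064334, 0, 0],
  [0, 801882, 0, 0, 0, 0, 0, 0, 0, 0, 0, 0, 0, 801588, 0, 0, 0, 0, 794468, 796873, 0, 0, 0, 0, 0, 0, 0, 0, 0, 0, 0, 0, 0, 0, 0, 0, 0, 0, 0, 790011, 1056755, 0, 0, 0, 0, 0, 798273, 0, 0, 0, 0, 0, 0, 0, 0, 0, 0, 0, 0, 0, 0, 0, 0, 0],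
  [0, 0, 0, 0, 0, 0, 0, 0, 0, 0, 0, 0, 0, 797661, 0, 0, 0, 1322197, 0, 789387, 0, 0, 0, 0, 0, 0, 0, 0, 0, 0, 794242, 0, 0, 0, 0, 0, 794129, 0, 0, 0, 0, 0, 0, 800826, 0, 0, 0, 0, 0, 0, 0, 0, 0, 1322304, 0, 0, 1051597, 0, 531236, 0, 0, 0, 0, 0],
  [0, 0, 0, 0, 0, 0, 797492, 0, 0, 0, 0, 0, 0, 0, 0, 0, 535506, 0, 0, 0, 0, 0, 0, 0, 0, 0, 0, 0, 0, 0, 793396, 0, 0, 0, 0, 0, 0, 1064947, 0, 0, 0, 0, 0, 0, 0, 0, 0, 794218, 0, 1064496, 0, 0, 0, 0, 0, 0, 0, 0, 0, 0, 0, 1063238, 0, 0],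
  [526862, 0, 0, 0, 0, 790372, 797786, 0, 0, 0, 0, 0, 0, 0, 0, 0, 0, 0, 0, 531294, 0, 0, 0, 0, 1056407, 0, 0, 0, 0, 0, 0, 0, 0, 0, 0, 1050725, 0, 0, 272410, 0, 0, 540263, 0, 0, 0, 0, 0, 1055156, 0, 0, 0, 0, 0, 0, 0, 0, 0, 0, 0, 0, 0, 0, 0, 0],
  [0, 527137, 0, 0, 0, 0, 0, 0, 0, 0, 0, 0, 0, 0, 0, 0, 0, 0, 798225, 0, 0, 0, 797628, 0, 0, 1055969, 0, 0, 0, 0, 0, 0, 0, 0, 0, 0, 0, 0, 0, 0, 0, 788975, 793180, 0, 0, 0, 0, 0, 0, 0, 0, 0, 1052231, 0, 0, 0, 0, 0, 1060557, 0, 0, 1313081, 0, 0],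
  [794107, 0, 0, 794520, 0, 0, 0, 0, 0, 0, 0, 0, 797957, 0, 0, 0, 0, 0, 0, 0, 0, 0, 0, 0, 0, 0, 0, 0, 0, 0, 0, 1060238, 0, 0, 0, 0, 0, 0, 0, 0, 0, 0, 1056130, 0, 0, 0, 0, 1060851, 0, 0, 0, 0, 0, 0, 0, 0, 0, 0, 0, 0, 1060732, 0, 0, 0],
  [0, 0, 0, 0, 0, 0, 0, 0, 0, 0, 0, 0, 0, 0, 0, 0, 0, 0, 0, 0, 1064828, 0, 0, 0, 0, 0, 0, 801450, 1051072, 0, 527975, 0, 797354, 0, 0, 0, 0, 0, 0, 0, 0, 0, 0, 0, 0, 0, 0, 0, 0, 0, 0, 0, 0, 0, 0, 792812, 0, 0, 0, 0, 0, 1064798, 0, 0],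
  [0, 0, 0, 0, 0, 0, 0, 0, 0, 0, 798314, 0, 0, 0, 788681, 0, 0, 0, 0, 0, 0, 0, 0, 0, 535329, 0, 0, 0, 0, 789162, 0, 0, 0, 0, 0, 535414, 0, 1326869, 0, 0, 1321312, 0, 0, 0, 0, 0, 0, 0, 0, 0, 0, 0, 0, 0, 1313520, 0, 0, 0, 0, 802388, 0, 0, 0, 0],
  [0, 0, 0, 0, 1326400, 0, 0, 0, 0, 0, 0, 1063150, 0, 0, 0, 0, 0, 0, 0, 0, 0, 0, 0, 527140, 789436, 1064641, 0, 0, 0, 0, 0, 0, 0, 0, 1052230, 0, 0, 0, 0, 0, 0, 0, 0, 0, 0, 0, 0, 0, 0, 801263, 0, 0, 0, 0, 0, 796989, 1063885, 0, 0, 0, 0, 0, 0, 0],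
  [0, 0, 0, 0, 0, 0, 0, 801146, 0, 0, 0, 0, 0, 0, 0, 1326164, 0, 1051267, 0, 0, 0, 0, 0, 0, 0, 0, 0, 0, 0, 0, 0, 0, 0, 1326222, 0, 0, 1325510, 0, 0, 0, 0, 0, 0, 0, 0, 0, 1325408, 0, 0, 0, 788716, 0, 0, 0, 0, 0, 0, 0, 0, 0, 0, 0, 0, 0]]

def objP (m : ℕ) : Bool := pop24 m == 8 && m.testBit 23

def inv (m : ℕ) : ℕ := pop24 (8536111 &&& m)

def rep (k : ℕ) : ℕ := if k = 2 then 2098 else if k = 4 then 2073 else 2503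

set_option maxRecDepth 1000000 in
theorem tree_ok : treeOK [23] [8536111] objP inv rep cw hgens treeTab 4096 = true := by
  decide +kernel

set_option maxRecDepth 1000000 in
theorem counts :
    countS (fun m => pop24 m == 8 && (([23] : List ℕ).all (fun a => m.testBit a) &&
        ([] : List ℕ).all (fun a => !m.testBit a) && pop24 (8536111 &&& m) == 2)) 4096 = 112 ∧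
    countS (fun m => pop24 m == 8 && (([23] : List ℕ).all (fun a => m.testBit a) &&
        ([] : List ℕ).all (fun a => !m.testBit a) && pop24 (8536111 &&& m) == 4)) 4096 = 140 := by
  decide +kernel

/-- The point stabiliser acts on the 253 heptads of its S(4, 7, 23) with rank 3 and subdegrees 1, 112, 140 (intersections 8, 2, 4). -/
theorem result (x : Cfsg.GolayPt) (o : Finset Cfsg.GolayPt) (ho : o ∈ Cfsg.octads) (hx : x ∈ o) : {o' : Finset Cfsg.GolayPt | o' ∈ Cfsg.octads ∧ x ∈ o' ∧ (o ∩ o').card = 2}.ncard = 112 ∧ {o' : Finset Cfsg.GolayPt | o' ∈ Cfsg.octads ∧ x ∈ o' ∧ (o ∩ o').card = 4}.ncard = 140 ∧ ∀ o' o'' : Finset Cfsg.GolayPt, o' ∈ Cfsg.octads → o'' ∈ Cfsg.octads → x ∈ o' → x ∈ o'' → (o ∩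 o').card = (o ∩ o'').card → ∃ g : Equiv.Perm Cfsg.GolayPt, g ∈ Cfsg.M24 ∧ g x = x ∧ g • o = o ∧ g • o' = o'' := by
  obtain ⟨g0, hg0, hg0e, hg0x⟩ := exists_map_octad_point o ho x hx
  have hx23 : g0 (dec 23) = x := hg0x
  have hi : g0⁻¹ ∈ Cfsg.M24 := Subgroup.inv_mem _ hg0
  have hoe : g0 • maskSet 8536111 = o := hg0e
  have hset : ∀ k, {o' : Finset Cfsg.GolayPt | o' ∈ Cfsg.octads ∧ x ∈ o' ∧ (o ∩ o').card = k} =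
      {Y | Y ∈ Cfsg.wordsOfWeight (Cfsg.golayCode : Set (Cfsg.GolayPt → ZMod 2)) 8 ∧
        ((∀ a ∈ ([23] : List ℕ), g0 (dec a) ∈ Y) ∧ (∀ a ∈ ([] : List ℕ), g0 (dec a) ∉ Y) ∧
          (g0 • maskSet 8536111 ∩ Y).card = k)} := by
    intro k
    ext Y
    simp only [Set.mem_ofPred_eq, List.mem_singleton, forall_eq, List.not_mem_nil, false_imp_iff,
      implies_true, true_and, hx23, hoe]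
    rfl
  refine ⟨?_, ?_, ?_⟩
  · rw [hset, ncard_cfg g0 hg0 8 [23] [] (by simp) (by simp), counts.1]
  · rw [hset, ncard_cfg g0 hg0 8 [23] [] (by simp) (by simp), counts.2]
  · intro o' o'' ho' ho'' hx' hx'' h
    obtain ⟨n, hn, h8n, en⟩ := (mem_octads_iff' _).1 (smul_mem_octads hi ho')
    obtain ⟨m, hm, h8m, em⟩ := (mem_octads_iff' _).1 (smul_mem_octads hi ho'')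
    have hk : inv (cw n) = inv (cw m) := by
      have h1 := inter_card_eq g0 8536111 o' (cw n) en
      have h2 := inter_card_eq g0 8536111 o'' (cw m) em
      rw [hoe] at h1 h2
      unfold inv
      rw [← h1, ← h2, h]
    have hPn : objP (cw n) = true := by
      unfold objP
      rw [h8n, (mem_iff_testBit g0 23 (by norm_num) o' (cw n) en).1 (by rw [hx23]; exact hx')]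
      rfl
    have hPm : objP (cw m) = true := by
      unfold objP
      rw [h8m, (mem_iff_testBit g0 23 (by norm_num) o'' (cw m) em).1 (by rw [hx23]; exact hx'')]
      rfl
    have base := tree_trans [23] [8536111] (by simp) objP inv rep cw hgens treeTab 4096 tree_ok
      n m hn hm hPn hPm hk
    rw [← en, ← em] at base
    obtain ⟨g, hg, hp, hs, e⟩ := transport_trans [23] [8536111] g0 hg0 o' o'' base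
    refine ⟨g, hg, ?_, ?_, e⟩
    · have := hp 23 (by simp)
      rwa [hx23] at this
    · have := hs 8536111 (by simp)
      rwa [hoe] at this

end Cfsg.Agent.S1607
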