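import Mathlib
import Cfsg.Statements.S1609
import Cfsg.Agent.Lib.Helper29.M23IdxC

set_option autoImplicit false
open scoped Pointwise
open Cfsg

namespace Cfsg.Agent.S1609

open Cfsg.Agent.Helper27 Cfsg.Agent.Helper29 Cfsg.Agent.Helper29.M24
open Cfsg.Agent.Helper29.M23Idx
open Cfsg.Agent.Helper29.FusM23 (Q23)
open Cfsg.Agent.S0358 (idx)

/-- the image in the permutation group of a subgroup of a point stabilizer -/
def img (x : Cfsg.GolayPt) (H : Subgroup ↥(MulAction.stabilizer Cfsg.M24 x)) :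
    Subgroup (Equiv.Perm Cfsg.GolayPt) :=
  (H.map (MulAction.stabilizer Cfsg.M24 x).subtype).map Cfsg.M24.subtype

theorem mem_img (x : Cfsg.GolayPt) (H : Subgroup ↥(MulAction.stabilizer Cfsg.M24 x))
    (z : ↥(MulAction.stabilizer Cfsg.M24 x)) :
    ((z : ↥Cfsg.M24) : Equiv.Perm Cfsg.GolayPt) ∈ img x H ↔ z ∈ H := by
  unfold img
  constructor
  · rintro ⟨y, ⟨w, hw, rfl⟩, e⟩
    have : w = z := Subtype.ext (Subtype.ext e)
    rw [← this]
    exact hw
  · intro h
    exact ⟨z.1, ⟨z, h, rfl⟩, rfl⟩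

theorem img_le (x : Cfsg.GolayPt) (H : Subgroup ↥(MulAction.stabilizer Cfsg.M24 x)) :
    img x H ≤ Cfsg.M24 := by
  rintro _ ⟨y, _, rfl⟩
  exact y.2

theorem img_fix (x : Cfsg.GolayPt) (H : Subgroup ↥(MulAction.stabilizer Cfsg.M24 x)) :
    ∀ g ∈ img x H, g x = x := by
  rintro _ ⟨y, ⟨w, _, rfl⟩, rfl⟩
  exact w.2

theorem card_img (x : Cfsg.GolayPt) (H : Subgroup ↥(MulAction.stabilizer Cfsg.M24 x)) :
    Nat.card (img x H) = Nat.card H := by
  unfold img
  rw [Subgroup.card_subtype, Subgroup.card_subtype]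

/-- transport of the description of a conjugate back to the subgroup -/
theorem transport (x : Cfsg.GolayPt) (H : Subgroup ↥(MulAction.stabilizer Cfsg.M24 x))
    (g : Equiv.Perm Cfsg.GolayPt) (hg : g ∈ Cfsg.M24) (hgx : g x = dec 23)
    (C : Finset Cfsg.GolayPt)
    (h : conjS g (img x H) = Cfsg.Spor.M23 ⊓ MulAction.stabilizer (Equiv.Perm Cfsg.GolayPt) C) :
    H = (MulAction.stabilizer Cfsg.M24 (g⁻¹ • C)).subgroupOf (MulAction.stabilizer Cfsg.M24 x) := by
  ext z
  rw [← mem_img x H z, Subgroup.mem_subgroupOf, MulAction.mem_stabilizer_iff]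
  have h1 : ((z : ↥Cfsg.M24) : Equiv.Perm Cfsg.GolayPt) ∈ img x H ↔
      g * ((z : ↥Cfsg.M24) : Equiv.Perm Cfsg.GolayPt) * g⁻¹ ∈ conjS g (img x H) := by
    rw [mem_conjS]
    have : g⁻¹ * (g * ((z : ↥Cfsg.M24) : Equiv.Perm Cfsg.GolayPt) * g⁻¹) * g =
        ((z : ↥Cfsg.M24) : Equiv.Perm Cfsg.GolayPt) := by group
    rw [this]
  rw [h1, h, Subgroup.mem_inf, mem_M23]
  have h2 : g * ((z : ↥Cfsg.M24) : Equiv.Perm Cfsg.GolayPt) * g⁻¹ ∈
      MulAction.stabilizer (Equiv.Perm Cfsg.GolayPt) C ↔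
      ((z : ↥Cfsg.M24) : Equiv.Perm Cfsg.GolayPt) • (g⁻¹ • C) = g⁻¹ • C := by
    rw [MulAction.mem_stabilizer_iff, conj_smul_iff]
  rw [h2]
  show _ ↔ ((z : ↥Cfsg.M24) : Equiv.Perm Cfsg.GolayPt) • (g⁻¹ • C) = g⁻¹ • C
  have hz : ((z : ↥Cfsg.M24) : Equiv.Perm Cfsg.GolayPt) x = x := z.2
  constructor
  · rintro ⟨_, h3⟩
    exact h3
  · intro h3
    refine ⟨⟨?_, ?_⟩, h3⟩
    · exact Subgroup.mul_mem _ (Subgroup.mul_mem _ hg z.1.2) (Subgroup.inv_mem _ hg)
    · rw [Equiv.Perm.mul_apply, Equiv.Perm.mul_apply]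
      have : g⁻¹ (dec 23) = x := by rw [← hgx]; simp
      rw [this, hz, hgx]

/-- Subgroups of index 253 in the Mathieu group of degree 23 are exactly the duad stabilisers and the heptad stabilisers. -/
theorem result (x : Cfsg.GolayPt) (H : Subgroup ↥(MulAction.stabilizer Cfsg.M24 x)) (hH : H.index = 253) : (∃ s : Finset Cfsg.GolayPt, s.card = 2 ∧ x ∉ s ∧ H = (MulAction.stabilizer Cfsg.M24 s).subgroupOf (MulAction.stabilizer Cfsg.M24 x)) ∨ ∃ o ∈ Cfsg.octads, x ∈ o ∧ H = (MulAction.stabilizer Cfsg.M24 o).subgroupOf (MulAction.stabilizer Cfsg.M24 x) := by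
  have hc : Nat.card (img x H) = 40320 := by
    rw [card_img]
    have h1 := Subgroup.card_mul_index H
    rw [hH, card_stab_point x] at h1
    omega
  obtain ⟨g, hg, hgx, hQ, hM23⟩ := conj_to_std (img x H) (img_le x H) x (img_fix x H)
    (by rw [hc]; norm_num)
  have hgi : g⁻¹ (dec 23) = x := by rw [← hgx]; simp
  rcases std_253 (conjS g (img x H)) hM23 hQ (by rw [card_conjS, hc]) with h | h
  · left
    refine ⟨g⁻¹ • ({dec 5, dec 14} : Finset Cfsg.GolayPt), ?_, ?_, transport x H g hg hgx _ h⟩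
    · rw [Finset.card_smul_finset]
      apply Finset.card_pair
      intro h'
      have := dec_inj (by norm_num) (by norm_num) h'
      omega
    · intro hx
      rw [← hgi] at hx
      change g⁻¹ • dec 23 ∈ _ at hx
      rw [Finset.smul_mem_smul_finset_iff, Finset.mem_insert, Finset.mem_singleton] at hx
      rcases hx with h' | h'
      · have := dec_inj (by norm_num) (by norm_num) h'
        omega
      · have := dec_inj (by norm_num) (by norm_num) h'
        omega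
  · right
    refine ⟨g⁻¹ • oct0, smul_mem_octads (Subgroup.inv_mem _ hg) oct0_mem, ?_,
      transport x H g hg hgx _ h⟩
    rw [← hgi]
    exact Finset.smul_mem_smul_finset dec23_mem_oct0

end Cfsg.Agent.S1609
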