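import Mathlib
import Cfsg.Statements.S1610
import Cfsg.Agent.Lib.Helper26.Hexacode

set_option autoImplicit false
open Cfsg

namespace Cfsg.Agent.S1610

open Cfsg.Agent.Helper26 Cfsg.Agent.Helper26.Hex

/-- The hexacode has 64 words, minimum weight 4, and weight distribution 0^1 4^45 6^18. -/
theorem result (F : Type*) [Field F] [Fintype F] [DecidableEq F] (hF : Fintype.card F = 4) (ω : F) (hω : ω ^ 2 + ω + 1 = 0) : Nat.card ↥(Cfsg.hexacode F ω) = 64 ∧ (∀ x ∈ Cfsg.hexacode F ω, x ≠ 0 → (Finset.univ.filter fun i => x i ≠ 0).card = 4 ∨ (Finset.univ.filter fun i => x i ≠ 0).card = 6) ∧ {x : Fin 6 → F | x ∈ Cfsg.hexacode F ω ∧ (Finset.univ.filter fun i => x i ≠ 0).card = 4}.ncard = 45 ∧ {x : Fin 6 → F | x ∈ Cfsg.hexacode F ω ∧ (Finset.univ.filter fun i => x i ≠ 0).card = 6}.ncard = 18 := by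
  obtain ⟨e, he⟩ : ∃ e : F4 ≃+* F, e F4.w = ω := ⟨F4.toFEquiv hF ω hω, F4.toFEquiv_w hF ω hω⟩
  -- the parametrization
  obtain ⟨Ψ, hΨ⟩ : ∃ Ψ : F4 × F4 × F4 → (Fin 6 → F), ∀ t i, Ψ t i = e (word F4.w t i) :=
    ⟨fun t i => e (word F4.w t i), fun _ _ => rfl⟩
  have hΨinj : Function.Injective Ψ := by
    intro t t' h
    apply word4_injective
    ext i
    apply e.injective
    rw [← hΨ, ← hΨ, h]
  have hmem : ∀ x : Fin 6 → F, x ∈ Cfsg.hexacode F ω ↔ ∃ t, Ψ t = x := by
    intro x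
    constructor
    · intro hx
      have hx' : (fun i => e (e.symm (x i))) ∈ Cfsg.hexacode F (e F4.w) := by
        rw [he]
        have : (fun i => e (e.symm (x i))) = x := by ext i; simp
        rw [this]; exact hx
      rw [mem_hexacode_map, mem_hexacode_iff] at hx'
      obtain ⟨t, ht⟩ := hx'
      refine ⟨t, ?_⟩
      ext i
      rw [hΨ, ht]
      simp
    · rintro ⟨t, rfl⟩
      have h1 : (fun i => e (word F4.w t i)) ∈ Cfsg.hexacode F (e F4.w) := by
        rw [mem_hexacode_map, mem_hexacode_iff]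
        exact ⟨t, rfl⟩
      rw [he] at h1
      have : Ψ t = fun i => e (word F4.w t i) := by ext i; exact hΨ t i
      rw [this]; exact h1
  have hwt : ∀ t, (Finset.univ.filter fun i => Ψ t i ≠ 0).card = wt4 (word F4.w t) := by
    intro t
    unfold wt4
    have : (Finset.univ.filter fun i => Ψ t i ≠ 0) =
        (Finset.univ.filter fun i => e (word F4.w t i) ≠ 0) := by
      ext i
      simp [hΨ]
    rw [this]
    exact wt_map e (word F4.w t)
  have hzero : ∀ t, Ψ t ≠ 0 → word F4.w t ≠ 0 := by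
    intro t h h0
    apply h
    ext i
    rw [hΨ, h0]
    simp
  have hset : ∀ k : ℕ, {x : Fin 6 → F | x ∈ Cfsg.hexacode F ω ∧
      (Finset.univ.filter fun i => x i ≠ 0).card = k} =
      Ψ '' ((Finset.univ.filter fun t : F4 × F4 × F4 => wt4 (word F4.w t) = k) : Set _) := by
    intro k
    ext x
    constructor
    · rintro ⟨hx, hk⟩
      obtain ⟨t, rfl⟩ := (hmem x).mp hx
      refine ⟨t, ?_, rfl⟩
      rw [hwt] at hk
      simp [hk]
    · rintro ⟨t, ht, rfl⟩
      refine ⟨(hmem _).mpr ⟨t, rfl⟩, ?_⟩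
      rw [hwt]
      simpa using ht
  refine ⟨?_, ?_, ?_, ?_⟩
  · have e1 : ↥(Cfsg.hexacode F ω) ≃ Set.range Ψ :=
      Equiv.subtypeEquivRight (fun x => by rw [Set.mem_range]; exact hmem x)
    rw [Nat.card_congr e1, Nat.card_congr (Equiv.ofInjective Ψ hΨinj).symm, Nat.card_eq_fintype_card,
      Fintype.card_prod, Fintype.card_prod, F4.card_F4]
  · intro x hx hx0
    obtain ⟨t, rfl⟩ := (hmem x).mp hx
    rw [hwt]
    exact wt4_cases t (hzero t hx0)
  · rw [hset 4, Set.ncard_image_of_injective _ hΨinj, Set.ncard_coe_finset]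
    exact card_wt4_four
  · rw [hset 6, Set.ncard_image_of_injective _ hΨinj, Set.ncard_coe_finset]
    exact card_wt4_six

end Cfsg.Agent.S1610
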