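import Mathlib
import Cfsg.Statements.S1611
import Cfsg.Agent.Lib.Helper26.HexacodeAut

set_option autoImplicit false
open Cfsg

namespace Cfsg.Agent.S1611

open Cfsg.Agent.Helper26 Cfsg.Agent.Helper26.Hex

section

variable {F : Type*} [Field F]

/-- The statement's preservation predicate. -/
def PresF (ω : F) (σ : Equiv.Perm (Fin 6)) (c : Fin 6 → Fˣ) : Prop :=
  ∀ x ∈ Cfsg.hexacode F ω, Cfsg.monomialMap σ c x ∈ Cfsg.hexacode F ω

theorem monomialMap_comp (σ τ : Equiv.Perm (Fin 6)) (c d : Fin 6 → Fˣ) (x : Fin 6 → F) :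
    Cfsg.monomialMap σ c (Cfsg.monomialMap τ d x) =
      Cfsg.monomialMap (σ * τ) (fun i => c i * d (σ.symm i)) x := by
  ext i
  simp only [Cfsg.monomialMap, Units.val_mul, mul_assoc]
  rfl

theorem presF_mul (ω : F) {σ τ : Equiv.Perm (Fin 6)} {c d : Fin 6 → Fˣ} (h1 : PresF ω σ c)
    (h2 : PresF ω τ d) : PresF ω (σ * τ) (fun i => c i * d (σ.symm i)) := by
  intro x hx
  rw [← monomialMap_comp]
  exact h1 _ (h2 _ hx)

theorem presF_one (ω : F) : PresF ω 1 (fun _ => 1) := by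
  intro x hx
  have : Cfsg.monomialMap (1 : Equiv.Perm (Fin 6)) (fun _ => (1 : Fˣ)) x = x := by
    ext i
    show ((1 : Fˣ) : F) * x ((1 : Equiv.Perm (Fin 6)).symm i) = x i
    rw [Units.val_one, one_mul]
    rfl
  rw [this]; exact hx

theorem presF_smul (ω : F) {σ : Equiv.Perm (Fin 6)} {c : Fin 6 → Fˣ} (h : PresF ω σ c) (l : Fˣ) :
    PresF ω σ (fun i => l * c i) := by
  intro x hx
  have : Cfsg.monomialMap σ (fun i => l * c i) x = (l : F) • Cfsg.monomialMap σ c x := by
    ext i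
    simp [Cfsg.monomialMap, mul_assoc]
  rw [this]
  exact Submodule.smul_mem _ _ (h x hx)

/-- The permutation parts of the monomial automorphisms form a subgroup. -/
def permPart (ω : F) : Subgroup (Equiv.Perm (Fin 6)) where
  carrier := {σ | ∃ c, PresF ω σ c}
  one_mem' := ⟨_, presF_one ω⟩
  mul_mem' := by
    rintro σ τ ⟨c, hc⟩ ⟨d, hd⟩
    exact ⟨_, presF_mul ω hc hd⟩
  inv_mem' := by
    rintro σ ⟨c, hc⟩
    have hpow : ∀ n : ℕ, ∃ d, PresF ω (σ ^ n) d := by
      intro n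
      induction n with
      | zero => exact ⟨_, presF_one ω⟩
      | succ n ih =>
        obtain ⟨d, hd⟩ := ih
        rw [pow_succ]
        exact ⟨_, presF_mul ω hd hc⟩
    have h1 : σ ^ (orderOf σ - 1) * σ = 1 := by
      rw [← pow_succ, Nat.sub_add_cancel (orderOf_pos σ), pow_orderOf_eq_one]
    have h2 : σ⁻¹ = σ ^ (orderOf σ - 1) := (eq_inv_of_mul_eq_one_left h1).symm
    show ∃ d, PresF ω σ⁻¹ d
    rw [h2]
    exact hpow _

theorem mem_permPart (ω : F) (σ : Equiv.Perm (Fin 6)) : σ ∈ permPart ω ↔ ∃ c, PresF ω σ c := Iff.rfl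

/-- A monomial automorphism is onto the hexacode. -/
theorem presF_surj [Finite F] (ω : F) {σ : Equiv.Perm (Fin 6)} {c : Fin 6 → Fˣ} (h : PresF ω σ c) :
    ∀ y ∈ Cfsg.hexacode F ω, ∃ x ∈ Cfsg.hexacode F ω, Cfsg.monomialMap σ c x = y := by
  let L : ↥(Cfsg.hexacode F ω) → ↥(Cfsg.hexacode F ω) := fun x => ⟨_, h x.1 x.2⟩
  have hinj : Function.Injective L := by
    intro x x' hxx
    apply Subtype.ext
    ext i
    have h1 : Cfsg.monomialMap σ c x.1 (σ i) = Cfsg.monomialMap σ c x'.1 (σ i) :=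
      congrFun (congrArg Subtype.val hxx) (σ i)
    simp only [Cfsg.monomialMap, Equiv.symm_apply_apply] at h1
    exact mul_left_cancel₀ (Units.ne_zero _) h1
  have hsurj := Finite.injective_iff_surjective.mp hinj
  intro y hy
  obtain ⟨x, hx⟩ := hsurj ⟨y, hy⟩
  exact ⟨x.1, x.2, congrArg Subtype.val hx⟩

/-- Two automorphisms with the same permutation part differ by a diagonal automorphism. -/
theorem presF_div [Finite F] (ω : F) {σ : Equiv.Perm (Fin 6)} {c c' : Fin 6 → Fˣ} (h : PresF ω σ c)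
    (h' : PresF ω σ c') : PresF ω 1 (fun i => c' i / c i) := by
  intro y hy
  obtain ⟨x, hx, rfl⟩ := presF_surj ω h y hy
  have : Cfsg.monomialMap (1 : Equiv.Perm (Fin 6)) (fun i => c' i / c i) (Cfsg.monomialMap σ c x) =
      Cfsg.monomialMap σ c' x := by
    ext i
    show ((c' i / c i : Fˣ) : F) * (((c i : Fˣ) : F) * x (σ.symm i)) = ((c' i : Fˣ) : F) * x (σ.symm i)
    rw [Units.val_div_eq_div_val, ← mul_assoc, div_mul_cancel₀ _ (Units.ne_zero _)]
  rw [this]
  exact h' x hx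

end

theorem vec_eta (k : Fin 6 → Fin 3) : k = ![k 0, k 1, k 2, k 3, k 4, k 5] := by
  ext i
  fin_cases i <;> rfl

theorem omega_ne_zero {F : Type*} [Field F] (ω : F) (hω : ω ^ 2 + ω + 1 = 0) : ω ≠ 0 := by
  intro h
  rw [h] at hω
  simp at hω

section card4

variable {F : Type*} [Field F] [Fintype F] [DecidableEq F] (hF : Fintype.card F = 4) (ω : F)
  (hω : ω ^ 2 + ω + 1 = 0)

include hF hω

theorem exists_exponent (x : F) (hx : x ≠ 0) : ∃ k : Fin 3, x = ω ^ k.val := by
  obtain ⟨y, rfl⟩ := (F4.toFEquiv hF ω hω).surjective x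
  have hy : y ≠ 0 := by
    intro h
    apply hx
    rw [h, map_zero]
  obtain ⟨k, hk⟩ := nonzero4 y hy
  refine ⟨k, ?_⟩
  rw [hk, map_pow, F4.toFEquiv_w]

theorem exists_exponents (c : Fin 6 → Fˣ) : ∃ k : Fin 6 → Fin 3, ∀ i, (c i : F) = ω ^ (k i).val := by
  choose k hk using fun i => exists_exponent hF ω hω (c i : F) (Units.ne_zero _)
  exact ⟨k, hk⟩

theorem presF_iff (σ : Equiv.Perm (Fin 6)) (c : Fin 6 → Fˣ) (k : Fin 6 → Fin 3)
    (hk : ∀ i, (c i : F) = ω ^ (k i).val) : PresF ω σ c ↔ PresB σ k := by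
  rw [← pres4_iff, ← pres_map (F4.toFEquiv hF ω hω), F4.toFEquiv_w]
  have : (fun j => (F4.toFEquiv hF ω hω) (dvec k j)) = fun i => (c i : F) := by
    ext j
    rw [hk]
    unfold dvec
    rw [map_pow, F4.toFEquiv_w]
  rw [this]
  rfl

/-- Diagonal automorphisms are scalar. -/
theorem diag_const (c : Fin 6 → Fˣ) (h : PresF ω 1 c) : ∀ i j, c i = c j := by
  obtain ⟨k, hk⟩ := exists_exponents hF ω hω c
  have hB := (presF_iff hF ω hω 1 c k hk).mp h
  rw [vec_eta k] at hB
  obtain ⟨h1, h2, h3, h4, h5⟩ := diag4 _ _ _ _ _ _ hB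
  have hkk : ∀ i, k i = k 0 := by
    intro i
    fin_cases i
    · rfl
    · exact h1.symm
    · exact h2.symm
    · exact h3.symm
    · exact h4.symm
    · exact h5.symm
  intro i j
  apply Units.ext
  rw [hk, hk, hkk i, hkk j]

theorem swap_notMem : Equiv.swap (0 : Fin 6) 1 ∉ permPart ω := by
  rintro ⟨c, hc⟩
  obtain ⟨k, hk⟩ := exists_exponents hF ω hω c
  have hB := (presF_iff hF ω hω _ c k hk).mp hc
  rw [vec_eta k] at hB
  exact swap4 _ _ _ _ _ _ hB

theorem threeCycle_mem (σ : Equiv.Perm (Fin 6)) (hσ : σ.IsThreeCycle) : σ ∈ permPart ω := by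
  have hne : σ.support.Nonempty := by
    rw [Finset.nonempty_iff_ne_empty]
    intro h
    exact hσ.ne_one (Equiv.Perm.support_eq_empty_iff.mp h)
  obtain ⟨a, ha⟩ := hne
  have heq := hσ.eq_swap_mul_swap_iff_mem_support.mpr ha
  have hnd := hσ.nodup_iff_mem_support.mpr ha
  have hab : a ≠ σ a := by
    intro h; rw [List.nodup_cons] at hnd; apply hnd.1; rw [← h]; simp
  have hbc : σ a ≠ σ (σ a) := by
    intro h
    rw [List.nodup_cons, List.nodup_cons] at hnd
    apply hnd.2.1; rw [← h]; simp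
  have hac : a ≠ σ (σ a) := by
    intro h; rw [List.nodup_cons] at hnd; apply hnd.1; rw [← h]; simp
  have hB := threeCycle4 a (σ a) (σ (σ a)) hab hbc hac
  -- build the units
  let c : Fin 6 → Fˣ := fun i => Units.mk0 (ω ^ (wit a (σ a) (σ (σ a)) i).val)
    (pow_ne_zero _ (omega_ne_zero ω hω))
  rw [heq]
  exact ⟨c, (presF_iff hF ω hω _ c _ (fun i => rfl)).mpr hB⟩

theorem permPart_eq : permPart ω = alternatingGroup (Fin 6) := by
  apply le_antisymm
  · intro σ hσ
    rw [Equiv.Perm.mem_alternatingGroup]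
    by_contra hs
    have hs' : Equiv.Perm.sign σ = -1 := by
      rcases Int.units_eq_one_or (Equiv.Perm.sign σ) with h | h
      · exact absurd h hs
      · exact h
    apply swap_notMem hF ω hω
    have heven : σ⁻¹ * Equiv.swap (0 : Fin 6) 1 ∈ alternatingGroup (Fin 6) := by
      rw [Equiv.Perm.mem_alternatingGroup, map_mul, map_inv, hs',
        Equiv.Perm.sign_swap (by decide : (0 : Fin 6) ≠ 1)]
      decide
    have hle : alternatingGroup (Fin 6) ≤ permPart ω := by
      rw [← Equiv.Perm.closure_three_cycles_eq_alternating, Subgroup.closure_le]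
      intro τ hτ
      exact threeCycle_mem hF ω hω τ hτ
    have := (permPart ω).mul_mem hσ (hle heven)
    rwa [mul_inv_cancel_left] at this
  · rw [← Equiv.Perm.closure_three_cycles_eq_alternating, Subgroup.closure_le]
    intro τ hτ
    exact threeCycle_mem hF ω hω τ hτ

end card4

/-- The monomial automorphism group of the hexacode has order 1080: its diagonal part is the scalars and its permutation parts form the alternating group of degree 6. -/
theorem result (F : Type*) [Field F] [Fintype F] [DecidableEq F] (hF : Fintype.card F = 4) (ω : F) (hω : ω ^ 2 + ω + 1 = 0) : Nat.card {f : Equiv.Perm (Fin 6) × (Fin 6 → Fˣ) // (∀ x ∈ Cfsg.hexacode F ω, Cfsg.monomialMap f.1 f.2 x ∈ Cfsg.hexacode F ω)} = 1080 ∧ (∀ c : Fin 6 → Fˣ, (∀ x ∈ Cfsg.hexacode F ω, Cfsg.monomialMap 1 c x ∈ Cfsg.hexacode F ω) → ∀ i j, c i = c j) ∧ {σ : Equiv.Perm (Fin 6) | ∃ c : Fin 6 → Fˣ, (∀ x ∈ Cfsg.hexacode F ω, Cfsg.monomialMap σ c x ∈ Cfsg.hexacode F ω)} = (alternatingGroup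 (Fin 6) : Set (Equiv.Perm (Fin 6))) := by
  have hP := permPart_eq hF ω hω
  refine ⟨?_, fun c hc => diag_const hF ω hω c hc, ?_⟩
  · -- the count
    have hex : ∀ σ : alternatingGroup (Fin 6), ∃ c, PresF ω σ.1 c := by
      intro σ
      have : σ.1 ∈ permPart ω := by rw [hP]; exact σ.2
      exact this
    choose cσ hcσ using hex
    let Φ : alternatingGroup (Fin 6) × Fˣ →
        {f : Equiv.Perm (Fin 6) × (Fin 6 → Fˣ) // PresF ω f.1 f.2} :=
      fun p => ⟨(p.1.1, fun i => p.2 * cσ p.1 i), presF_smul ω (hcσ p.1) p.2⟩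
    have hinj : Function.Injective Φ := by
      rintro ⟨σ, l⟩ ⟨σ', l'⟩ h
      have h1 : σ.1 = σ'.1 := congrArg (fun f => f.1.1) h
      have hσ : σ = σ' := Subtype.ext h1
      subst hσ
      have h2 : (fun i => l * cσ σ i) = fun i => l' * cσ σ i := congrArg (fun f => f.1.2) h
      have h3 := congrFun h2 0
      simp only [mul_left_inj] at h3
      rw [h3]
    have hsurj : Function.Surjective Φ := by
      rintro ⟨⟨σ, c⟩, hc⟩
      have hσ : σ ∈ alternatingGroup (Fin 6) := by rw [← hP]; exact ⟨c, hc⟩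
      have hd := presF_div ω (hcσ ⟨σ, hσ⟩) hc
      have hconst := diag_const hF ω hω _ hd
      refine ⟨(⟨σ, hσ⟩, c 0 / cσ ⟨σ, hσ⟩ 0), ?_⟩
      apply Subtype.ext
      show (σ, fun i => c 0 / cσ ⟨σ, hσ⟩ 0 * cσ ⟨σ, hσ⟩ i) = (σ, c)
      congr 1
      ext i
      have := hconst i 0
      simp only at this
      rw [← this, div_mul_cancel]
    have hcard : Nat.card (alternatingGroup (Fin 6)) = 360 := by
      have h1 := two_mul_card_alternatingGroup (α := Fin 6)
      rw [Fintype.card_perm, Fintype.card_fin] at h1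
      rw [Nat.card_eq_fintype_card]
      have : (6 : ℕ).factorial = 720 := by decide
      omega
    have hunits : Nat.card Fˣ = 3 := by
      rw [Nat.card_eq_fintype_card, Fintype.card_units, hF]
    show Nat.card {f : Equiv.Perm (Fin 6) × (Fin 6 → Fˣ) // PresF ω f.1 f.2} = 1080
    rw [← Nat.card_congr (Equiv.ofBijective Φ ⟨hinj, hsurj⟩), Nat.card_prod, hcard, hunits]
  · ext σ
    show (∃ c, PresF ω σ c) ↔ σ ∈ alternatingGroup (Fin 6)
    rw [← hP]
    rfl

end Cfsg.Agent.S1611
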