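import Cfsg.Statements.S1628
import Cfsg.Agent.Lib.Helper26.RuLatD

set_option autoImplicit false
open Cfsg

namespace Cfsg.Agent.S1628

/-- The Conway–Wales lattice as stored is even with no vectors of true norm 2: stored norms are multiples of 8, never equal to 8, and the minimum over nonzero vectors is 16. -/
theorem result : (∀ x ∈ Cfsg.Spor.ruLattice, (8 : ℤ) ∣ Cfsg.Spor.ruNorm x) ∧ (∀ x ∈ Cfsg.Spor.ruLattice, Cfsg.Spor.ruNorm x ≠ 8) ∧ (∀ x ∈ Cfsg.Spor.ruLattice, x ≠ 0 → 16 ≤ Cfsg.Spor.ruNorm x) ∧ ∃ x ∈ Cfsg.Spor.ruLattice, Cfsg.Spor.ruNorm x = 16 := by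
  have hle := Cfsg.Agent.Helper26.RuLat.ruLattice_le
  have h8 : ∀ x ∈ Cfsg.Spor.ruLattice, (8 : ℤ) ∣ Cfsg.Spor.ruNorm x := fun x hx =>
    Cfsg.Agent.Helper26.RuLat.eight_dvd_norm (hle hx)
  have hne : ∀ x ∈ Cfsg.Spor.ruLattice, Cfsg.Spor.ruNorm x ≠ 8 := fun x hx h =>
    Cfsg.Agent.Helper26.RuLat.no_norm_eight (hle hx) h
  refine ⟨h8, hne, ?_, ?_⟩
  · intro x hx hx0
    obtain ⟨k, hk⟩ := h8 x hx
    have h1 := hne x hx
    have h2 := Cfsg.Agent.Helper26.RuLat.ruNorm_nonneg x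
    have h3 : Cfsg.Spor.ruNorm x ≠ 0 := fun h =>
      hx0 (Cfsg.Agent.Helper26.RuLat.ruNorm_eq_zero h)
    omega
  · refine ⟨Cfsg.Spor.ruTable.getD 0 0, ?_, ?_⟩
    · rw [Cfsg.Spor.ruLattice, AddSubgroup.mem_sInf]
      intro L hL
      exact hL.1 _ (by unfold Cfsg.Spor.ruTable; simp)
    · decide +kernel

end Cfsg.Agent.S1628
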