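import Mathlib
import Cfsg.Statements.S1631
import Cfsg.Agent.Lib.Helper11.RankOne
import Cfsg.Agent.Lib.Helper11.UnitarySimple
import Cfsg.Agent.S0780

set_option autoImplicit false
open Cfsg

namespace Cfsg.Agent.S1631

open Cfsg.Agent.Helper11 Cfsg.Agent.Helper11.Herm
open Matrix

/-- the matrix of an element -/
def mat {F : Type} [Field F] {n : ℕ} (g : ↥(Cfsg.SU n F 2)) : Matrix (Fin n) (Fin n) F :=
  ((g : Matrix.SpecialLinearGroup (Fin n) F) : Matrix (Fin n) (Fin n) F)

/-- For n ≥ 4 the transvections of SU_n(2), the elements g with g − 1 of rank one, form a class of 3-transpositions generating SU_n(2) (SU_n(2) realised over a field of order 4). -/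
theorem result (F : Type) [Field F] [Fintype F] [DecidableEq F] (hF : Fintype.card F = 4) (n : ℕ) (hn : 4 ≤ n) : Cfsg.IsThreeTranspositionClass {g : ↥(Cfsg.SU n F 2) | (((g : Matrix.SpecialLinearGroup (Fin n) F) : Matrix (Fin n) (Fin n) F) - 1).rank = 1} := by
  have hF' : Fintype.card F = 2 ^ 2 := by rw [hF]; norm_num
  obtain ⟨φ, hφ⟩ := exists_frob hF'
  have hφφ := frob_frob hF' φ hφ
  have hN1 := frob_norm_surj hF' φ hφ
  have hφid := frob_ne_id hF' φ hφ
  have hcard : 3 ≤ Fintype.card (Fin n) := by rw [Fintype.card_fin]; omega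
  have huniq : ∀ ψ : F →+* F, (∀ x, ψ x = x ^ 2) → ψ = φ := fun ψ hψ =>
    RingHom.ext (fun x => by rw [hψ, hφ])
  have hchar2 : CharP F 2 := by
    rw [← ringChar.eq_iff, FiniteField.even_card_iff_char_two, hF]
  have h11 : (1 : F) + 1 = 0 := CharTwo.add_self_eq_zero 1
  have hc1 : ∀ c : F, c ≠ 0 → c + φ c = 0 → c = 1 := by
    intro c hc0 hc
    rw [hφ] at hc
    have : c * (c + 1) = 0 := by linear_combination hc
    rcases mul_eq_zero.1 this with h | h
    · exact absurd h hc0
    · linear_combination h - h11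
  have hnorm : ∀ β : F, β ≠ 0 → β * φ β = 1 := by
    intro β hβ
    rw [hφ, ← pow_succ']
    have := FiniteField.pow_card_sub_one_eq_one β hβ
    rw [hF] at this
    exact this
  have hU : ∀ g : ↥(Cfsg.SU n F 2), IsU φ (mat g) := fun g => (mem_SU_iff_isU φ hφ n _).1 g.2
  have hchar : ∀ g : ↥(Cfsg.SU n F 2), (mat g - 1).rank = 1 ↔
      ∃ v, v ≠ 0 ∧ hdot φ v v = 0 ∧ mat g = tv φ v 1 := by
    intro g
    constructor
    · intro hrk
      obtain ⟨v, c, hv, hvv, hc0, hc, hM⟩ := eq_tv_of_rank_one φ hφφ _ (hU g) g.1.2 hrk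
      exact ⟨v, hv, hvv, by rw [hM, hc1 c hc0 hc]⟩
    · rintro ⟨v, hv, hvv, hM⟩
      rw [hM]
      exact rank_tv_sub_one φ v 1 hv one_ne_zero
  have hmk : ∀ v : Fin n → F, hdot φ v v = 0 → ∃ g : ↥(Cfsg.SU n F 2), mat g = tv φ v 1 := by
    intro v hvv
    exact ⟨mkSU hF' n (tv φ v 1) (by rw [det_tv, hvv, mul_zero, add_zero])
      (fun ψ hψ => by
        rw [huniq ψ hψ]
        exact isU_tv φ hφφ v 1 (by rw [hvv, mul_zero, add_zero, map_one]; exact h11)),
      coe_mkSU hF' n _ _ _⟩
  have hsq : ∀ v : Fin n → F, hdot φ v v = 0 → tv φ v 1 * tv φ v 1 = 1 := by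
    intro v hvv
    rw [tv_mul_tv φ v hvv, h11, tv_zero_right]
  have hmul : ∀ a b : ↥(Cfsg.SU n F 2), mat (a * b) = mat a * mat b := fun a b => rfl
  have hone : mat (1 : ↥(Cfsg.SU n F 2)) = 1 := rfl
  have hext : ∀ a b : ↥(Cfsg.SU n F 2), mat a = mat b → a = b := fun a b h => SU_ext n a b h
  have hsq' : ∀ d : ↥(Cfsg.SU n F 2), ∀ v, hdot φ v v = 0 → mat d = tv φ v 1 → d * d = 1 := by
    intro d v hvv hM
    apply hext
    rw [hmul, hM, hsq v hvv, hone]
  refine ⟨⟨?_, ?_⟩, ?_, ?_⟩
  · -- order two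
    intro d hd
    obtain ⟨v, hv, hvv, hM⟩ := (hchar d).1 hd
    apply orderOf_eq_prime
    · rw [pow_two]
      exact hsq' d v hvv hM
    · intro h1
      have hd' : (mat d - 1).rank = 1 := hd
      rw [h1, hone, sub_self, Matrix.rank_zero] at hd'
      exact zero_ne_one hd'
  · -- products
    intro d hd e he
    obtain ⟨v, hv, hvv, hMd⟩ := (hchar d).1 hd
    obtain ⟨w, hw, hww, hMe⟩ := (hchar e).1 he
    have hd2 := hsq' d v hvv hMd
    have he2 := hsq' e w hww hMe
    have hUv : IsU φ (tv φ v 1) := hMd ▸ hU d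
    have hUw : IsU φ (tv φ w 1) := hMe ▸ hU e
    by_cases hβ : hdot φ v w = 0
    · left
      have hwv : hdot φ w v = 0 := hdot_eq_zero_symm φ hφφ _ _ hβ
      have hcomm : d * e = e * d := by
        apply hext
        rw [hmul, hmul, hMd, hMe, isU_mul_tv φ hUv w 1, tv_mulVec, hwv, mul_zero, zero_smul,
          add_zero]
      rw [pow_two]
      calc d * e * (d * e) = d * e * (e * d) := by rw [hcomm]
        _ = d * (e * e) * d := by group
        _ = 1 := by rw [he2, mul_one, hd2]
    · right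
      obtain ⟨β, hβdef⟩ : ∃ β, β = hdot φ v w := ⟨_, rfl⟩
      have hwv : hdot φ w v = φ β := by rw [hβdef, hdot_conj φ hφφ]
      have hββ := hnorm β (hβdef ▸ hβ)
      have hbraid : d * e * d = e * d * e := by
        apply hext
        rw [hmul, hmul, hmul, hmul, hMd, hMe, isU_mul_tv φ hUv w 1, Matrix.mul_assoc, hsq v hvv,
          Matrix.mul_one, isU_mul_tv φ hUw v 1, Matrix.mul_assoc, hsq w hww, Matrix.mul_one,
          tv_mulVec, tv_mulVec, one_mul, one_mul, hwv, ← hβdef]
        have : v + β • w = β • (w + φ β • v) := by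
          rw [smul_add, smul_smul, hββ, one_smul, add_comm]
        rw [this, tv_smul_left, hββ, one_mul]
      have h3 : (d * e) ^ 3 = (d * e * d) * (e * d * e) := by
        rw [pow_succ, pow_two]
        simp only [mul_assoc]
      rw [h3, hbraid]
      calc e * d * e * (e * d * e) = e * d * (e * e) * d * e := by group
        _ = e * (d * d) * e := by rw [he2, mul_one]; group
        _ = 1 := by rw [hd2, mul_one, he2]
  · -- a single class
    obtain ⟨v0, hv0, hv0v0⟩ := exists_isotropic φ hN1 hcard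
    obtain ⟨d0, hd0⟩ := hmk v0 hv0v0
    refine ⟨d0, (hchar d0).2 ⟨v0, hv0, hv0v0, hd0⟩, ?_⟩
    ext g
    constructor
    · intro hg
      obtain ⟨v, hv, hvv, hM⟩ := (hchar g).1 hg
      obtain ⟨G0, hG0, hG0det, hG0c⟩ := exists_conj_tv φ hφid hφφ hN1 hcard v0 v 1 1 hv0 hv0v0 hv
        hvv one_ne_zero one_ne_zero (by rw [map_one]; exact h11) (by rw [map_one]; exact h11)
      show IsConj d0 g
      rw [isConj_iff]
      refine ⟨mkSU hF' n G0 hG0det (fun ψ hψ => by rw [huniq ψ hψ]; exact hG0), ?_⟩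
      rw [mul_inv_eq_iff_eq_mul]
      apply hext
      rw [hmul, hmul, hd0, hM]
      exact hG0c
    · intro hg
      have hg' : IsConj d0 g := hg
      rw [isConj_iff] at hg'
      obtain ⟨c, hc⟩ := hg'
      rw [mul_inv_eq_iff_eq_mul] at hc
      apply (hchar g).2
      have hinv : mat c * mat c⁻¹ = 1 := by rw [← hmul, mul_inv_cancel, hone]
      have hinv' : mat c⁻¹ * mat c = 1 := by rw [← hmul, inv_mul_cancel, hone]
      refine ⟨mat c *ᵥ v0, ?_, ?_, ?_⟩
      · intro h0
        apply hv0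
        calc v0 = (mat c⁻¹ * mat c) *ᵥ v0 := by rw [hinv', Matrix.one_mulVec]
          _ = 0 := by rw [← Matrix.mulVec_mulVec, h0, Matrix.mulVec_zero]
      · rw [(hU c).hdot_mulVec, hv0v0]
      · have h1 := congrArg mat hc
        rw [hmul, hmul, hd0, isU_mul_tv φ (hU c)] at h1
        calc mat g = mat g * (mat c * mat c⁻¹) := by rw [hinv, Matrix.mul_one]
          _ = tv φ (mat c *ᵥ v0) 1 * (mat c * mat c⁻¹) := by
              rw [← Matrix.mul_assoc, ← h1, Matrix.mul_assoc]
          _ = tv φ (mat c *ᵥ v0) 1 := by rw [hinv, Matrix.mul_one]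
  · -- generation
    have hgen := Cfsg.Agent.S0780.result hF' n (by omega) (by omega)
    rw [eq_top_iff, ← hgen, Subgroup.closure_le]
    rintro A ⟨v, c, hv, hA⟩
    have htv : Cfsg.unitaryTransvection n 2 v c = tv φ v c := by
      unfold Cfsg.unitaryTransvection tv
      congr 3
      funext j
      exact (hφ (v j)).symm
    rw [htv] at hA
    rw [hermForm_eq_hdot φ hφ] at hv
    have hA' : mat A = tv φ v c := hA
    by_cases hv0 : v = 0
    · have : A = 1 := by
        apply hext
        rw [hA', hv0, tv_zero_left, hone]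
      rw [this]
      exact Subgroup.one_mem _
    by_cases hc0 : c = 0
    · have : A = 1 := by
        apply hext
        rw [hA', hc0, tv_zero_right, hone]
      rw [this]
      exact Subgroup.one_mem _
    have hct := trace_zero_of_isU_tv φ hφφ v c hv0 hv (hA' ▸ hU A)
    apply Subgroup.subset_closure
    apply (hchar A).2
    exact ⟨v, hv0, hv, by rw [hA', hc1 c hc0 hct]⟩

end Cfsg.Agent.S1631
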