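import Mathlib
import Cfsg.Statements.S1635
import Cfsg.Agent.S0358
import Cfsg.Agent.S0359
import Cfsg.Agent.S0362
import Cfsg.Agent.Lib.Helper28.Golay

set_option autoImplicit false
set_option linter.style.haveILetI false
set_option linter.unusedSectionVars false

open Cfsg

namespace Cfsg.Agent.S1635

open Cfsg.Agent.Helper28

/-- An identification of the 24 points with `Fin 24`. -/
noncomputable def e24 : GolayPt ≃ Fin 24 := Fintype.equivFinOfCardEq (by decide)

/-- Reindexing of words. -/
noncomputable def reix : (GolayPt → ZMod 2) ≃ₗ[ZMod 2] (Fin 24 → ZMod 2) where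
  toFun v := fun i => v (e24.symm i)
  map_add' _ _ := rfl
  map_smul' _ _ := rfl
  invFun u := fun p => u (e24 p)
  left_inv v := by funext p; simp
  right_inv u := by funext i; simp

theorem reix_apply (v : GolayPt → ZMod 2) (i : Fin 24) : reix v i = v (e24.symm i) := rfl

theorem norm_reix (v : GolayPt → ZMod 2) : hammingNorm (reix v) = hammingNorm v := by
  classical
  unfold hammingNorm
  symm
  refine Finset.card_equiv e24 (fun p => ?_)
  rw [Finset.mem_filter, Finset.mem_filter, reix_apply, Equiv.symm_apply_apply]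
  simp only [Finset.mem_univ, true_and]

/-- The transported code. -/
noncomputable def code24 : Submodule (ZMod 2) (Fin 24 → ZMod 2) :=
  golayCode.map (reix : (GolayPt → ZMod 2) →ₗ[ZMod 2] (Fin 24 → ZMod 2))

theorem reix_mem_code24 (v : GolayPt → ZMod 2) : reix v ∈ code24 ↔ v ∈ golayCode := by
  unfold code24
  constructor
  · rintro ⟨u, hu, huv⟩
    have : u = v := reix.injective huv
    rw [← this]
    exact hu
  · intro hv
    exact ⟨v, hv, rfl⟩

theorem isAbstractGolay_code24 : IsAbstractGolay code24 where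
  hdim := by
    unfold code24
    rw [LinearEquiv.finrank_map_eq]
    exact Cfsg.Agent.S0358.result
  horth := by
    rintro _ ⟨v, hv, rfl⟩ _ ⟨w, hw, rfl⟩
    have := Cfsg.Agent.S0362.result v w hv hw
    rw [← this]
    exact Fintype.sum_equiv e24.symm _ _ (fun i => rfl)
  hmin := by
    rintro _ ⟨w, hw, rfl⟩ hne
    change 8 ≤ hammingNorm (reix w)
    rw [norm_reix]
    have hw0 : w ≠ 0 := by
      rintro rfl
      exact hne (map_zero _)
    have h0 : hammingNorm w ≠ 0 := by
      rw [Ne, hammingNorm_eq_zero]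
      exact hw0
    rcases Cfsg.Agent.S0359.result w hw with h | h | h | h | h <;> omega

theorem mk_eq_iff (w v : GolayPt → ZMod 2) :
    (Submodule.Quotient.mk (reix v) : (Fin 24 → ZMod 2) ⧸ code24) = Submodule.Quotient.mk (reix w)
      ↔ w - v ∈ golayCode := by
  rw [Submodule.Quotient.eq, ← map_sub, reix_mem_code24, ← neg_sub, neg_mem_iff]

/-- Coset leaders of the length-24 code: a coset contains a unique word of weight ≤ 3, or else exactly six words of weight 4 and none lighter. -/
theorem result (w : Cfsg.GolayPt → ZMod 2) : ({v : Cfsg.GolayPt → ZMod 2 | hammingNorm v ≤ 4 ∧ w - v ∈ Cfsg.golayCode}.ncard = 1 ∧ ∃ v : Cfsg.GolayPt → ZMod 2, hammingNorm v ≤ 3 ∧ w - v ∈ Cfsg.golayCode) ∨ ({v : Cfsg.GolayPt → ZMod 2 | hammingNorm v ≤ 4 ∧ w - v ∈ Cfsg.golayCode}.ncard = 6 ∧ ∀ v : Cfsg.GolayPt → ZMod 2, w - v ∈ Cfsg.golayCode → hammingNorm v ≤ 4 → hammingNorm v = 4) := by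
  classical
  set q : (Fin 24 → ZMod 2) ⧸ code24 := Submodule.Quotient.mk (reix w) with hq
  set S : Set (GolayPt → ZMod 2) := {v | hammingNorm v ≤ 4 ∧ w - v ∈ golayCode} with hS
  set T : Finset (Fin 24 → ZMod 2) :=
    Finset.univ.filter (fun u => hammingNorm u ≤ 4 ∧ Submodule.Quotient.mk u = q) with hT
  have hST : S.ncard = T.card := by
    have h1 : (reix '' S) = (T : Set (Fin 24 → ZMod 2)) := by
      ext u
      simp only [Set.mem_image, hT, Finset.coe_filter, Finset.mem_univ, true_and, Set.mem_ofPred_eq]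
      constructor
      · rintro ⟨v, ⟨hv1, hv2⟩, rfl⟩
        exact ⟨by rw [norm_reix]; exact hv1, (mk_eq_iff w v).mpr hv2⟩
      · rintro ⟨hu1, hu2⟩
        refine ⟨reix.symm u, ⟨?_, ?_⟩, reix.apply_symm_apply u⟩
        · rw [← norm_reix, reix.apply_symm_apply]
          exact hu1
        · rw [← mk_eq_iff, reix.apply_symm_apply]
          exact hu2
    rw [← Set.ncard_image_of_injective S reix.injective, h1, Set.ncard_coe_finset]
  have hT34 : T.card = n3 code24 q + n4 code24 q := by
    rw [← Finset.card_filter_add_card_filter_not (s := T) (fun u => hammingNorm u ≤ 3)]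
    unfold n3 n4
    congr 1
    · congr 1
      ext u
      simp only [hT, Finset.mem_filter, Finset.mem_univ, true_and]
      constructor
      · rintro ⟨⟨-, h2⟩, h3⟩
        exact ⟨h3, h2⟩
      · rintro ⟨h3, h2⟩
        exact ⟨⟨by omega, h2⟩, h3⟩
    · congr 1
      ext u
      simp only [hT, Finset.mem_filter, Finset.mem_univ, true_and]
      constructor
      · rintro ⟨⟨h1, h2⟩, h3⟩
        exact ⟨by omega, h2⟩
      · rintro ⟨h3, h2⟩
        exact ⟨⟨by omega, h2⟩, by omega⟩
  rcases isAbstractGolay_code24.coset_dichotomy q with ⟨h3, h4⟩ | ⟨h3, h4⟩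
  · left
    refine ⟨by rw [hST, hT34, h3, h4], ?_⟩
    have hpos : 0 < n3 code24 q := by omega
    unfold n3 at hpos
    obtain ⟨u, hu⟩ := Finset.card_pos.mp hpos
    rw [Finset.mem_filter] at hu
    refine ⟨reix.symm u, ?_, ?_⟩
    · rw [← norm_reix, reix.apply_symm_apply]
      exact hu.2.1
    · rw [← mk_eq_iff, reix.apply_symm_apply]
      exact hu.2.2
  · right
    refine ⟨by rw [hST, hT34, h3, h4], ?_⟩
    intro v hv1 hv2
    by_contra hne
    have hv3 : hammingNorm v ≤ 3 := by omega
    have hmem : reix v ∈ Finset.univ.filter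
        (fun u : Fin 24 → ZMod 2 => hammingNorm u ≤ 3 ∧ Submodule.Quotient.mk u = q) := by
      rw [Finset.mem_filter]
      exact ⟨Finset.mem_univ _, by rw [norm_reix]; exact hv3, (mk_eq_iff w v).mpr hv1⟩
    have : 0 < n3 code24 q := by
      unfold n3
      exact Finset.card_pos.mpr ⟨_, hmem⟩
    omega

end Cfsg.Agent.S1635
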