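import Mathlib
import Cfsg.Statements.S1636
import Cfsg.Agent.Lib.Helper29.M24Fam

set_option autoImplicit false
open Cfsg

namespace Cfsg.Agent.S1636

open Cfsg.Agent.Helper27 Cfsg.Agent.Helper29 Cfsg.Agent.Helper29.M24
open Cfsg.Agent.S0358 (idx)

/-- deleting the extra coordinate -/
def punct (w : GolayPt → ZMod 2) : ZMod 23 → ZMod 2 := fun x => w (some x)

/-- the number of ones among the first 23 bits -/
def pop23 (m : ℕ) : ℕ :=
  bit' m 0 + bit' m 1 + bit' m 2 + bit' m 3 + bit' m 4 + bit' m 5 + bit' m 6 + bit' m 7 +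
  bit' m 8 + bit' m 9 + bit' m 10 + bit' m 11 + bit' m 12 + bit' m 13 + bit' m 14 + bit' m 15 +
  bit' m 16 + bit' m 17 + bit' m 18 + bit' m 19 + bit' m 20 + bit' m 21 + bit' m 22

theorem hammingNorm_punct (m : ℕ) : hammingNorm (punct (ofMask m)) = pop23 m := by
  unfold hammingNorm
  rw [Finset.card_filter]
  have h1 : ∀ x : ZMod 23, (if punct (ofMask m) x ≠ 0 then 1 else 0) =
      bit' m (x : Fin 23).val := by
    intro x
    rw [bit'_eq]
    unfold punct ofMask
    have : idx (some x) = (x : Fin 23).val := rfl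
    rw [this]
    cases m.testBit (x : Fin 23).val <;> simp
  rw [Finset.sum_congr rfl (fun p _ => h1 p)]
  have h2 : ∑ x : ZMod 23, bit' m (x : Fin 23).val = ∑ j : Fin 23, bit' m j.val := rfl
  rw [h2, Fin.sum_univ_eq_sum_range (bit' m) 23]
  simp only [Finset.sum_range_succ, Finset.range_zero, Finset.sum_empty, pop23, zero_add]

/-- the punctured code -/
def pcode : Set (ZMod 23 → ZMod 2) :=
  {u | ∃ w ∈ Cfsg.golayCode, ∀ x : ZMod 23, u x = w (some x)}

theorem mem_pcode (u : ZMod 23 → ZMod 2) :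
    u ∈ pcode ↔ ∃ n < 4096, (fun _ : ℕ => true) n = true ∧ u = punct (ofMask (cw n)) := by
  constructor
  · rintro ⟨w, hw, h⟩
    obtain ⟨n, hn, rfl⟩ := exists_cw_of_mem hw
    exact ⟨n, hn, rfl, funext h⟩
  · rintro ⟨n, hn, -, rfl⟩
    exact ⟨ofMask (cw n), cw_mem n, fun x => rfl⟩

set_option maxRecDepth 100000 in
theorem nz23 : (List.range 4096).all (fun n => Nat.beq n 0 || !(Nat.beq (pop23 (cw n)) 0)) = true := by
  decide +kernel

theorem punct_zero (m : ℕ) (h : punct (ofMask m) = 0) : pop23 m = 0 := by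
  rw [← hammingNorm_punct, h, hammingNorm_zero]

theorem punct_inj : ∀ i < 4096, ∀ j < 4096, (fun _ : ℕ => true) i = true →
    (fun _ : ℕ => true) j = true → punct (ofMask (cw i)) = punct (ofMask (cw j)) → i = j := by
  intro i hi j hj _ _ h
  have hx : i ^^^ j < 4096 := Nat.xor_lt_two_pow (n := 12) hi hj
  have h0 : punct (ofMask (cw (i ^^^ j))) = 0 := by
    rw [cw_xor, ofMask_xor]
    funext x
    have := congrFun h x
    unfold punct at this ⊢
    rw [Pi.add_apply, this]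
    exact CharTwo.add_self_eq_zero _
  have h1 := punct_zero _ h0
  have h2 := List.all_eq_true.1 nz23 (i ^^^ j) (List.mem_range.2 hx)
  rw [h1] at h2
  simp only [Nat.beq_refl, Bool.not_true, Bool.or_false] at h2
  have h3 : i ^^^ j = 0 := Nat.eq_of_beq_eq_true h2
  exact Nat.xor_eq_zero_iff.1 h3

theorem ncard_weight (k : ℕ) : {u | u ∈ pcode ∧ hammingNorm u = k}.ncard =
    countN (fun n => (fun _ : ℕ => true) n && Nat.beq (pop23 (cw n)) k) 4096 :=
  ncard_family pcode (fun n => punct (ofMask (cw n))) 4096 (fun _ => true) mem_pcode punct_inj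
    (fun u => hammingNorm u = k) (fun n => Nat.beq (pop23 (cw n)) k) (by
      intro n _ _
      rw [hammingNorm_punct]
      exact ⟨fun h => by rw [h]; exact Nat.beq_refl _, Nat.eq_of_beq_eq_true⟩)

set_option maxRecDepth 100000 in
theorem counts23 : countN (fun n => (fun _ : ℕ => true) n && true) 4096 = 4096 ∧
    countN (fun n => (fun _ : ℕ => true) n && Nat.beq (pop23 (cw n)) 7) 4096 = 253 ∧
    countN (fun n => (fun _ : ℕ => true) n && Nat.beq (pop23 (cw n)) 8) 4096 = 506 ∧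
    countN (fun n => (fun _ : ℕ => true) n && Nat.beq (pop23 (cw n)) 11) 4096 = 1288 ∧
    countN (fun n => (fun _ : ℕ => true) n && Nat.beq (pop23 (cw n)) 12) 4096 = 1288 ∧
    countN (fun n => (fun _ : ℕ => true) n && Nat.beq (pop23 (cw n)) 15) 4096 = 506 ∧
    countN (fun n => (fun _ : ℕ => true) n && Nat.beq (pop23 (cw n)) 16) 4096 = 253 := by
  decide +kernel

set_option maxRecDepth 100000 in
theorem min23 : (List.range 4096).all (fun n => Nat.beq n 0 || Nat.ble 7 (pop23 (cw n))) = true := by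
  decide +kernel

theorem ncard_pcode : pcode.ncard = 4096 := by
  have := ncard_family pcode (fun n => punct (ofMask (cw n))) 4096 (fun _ => true) mem_pcode
    punct_inj (fun _ => True) (fun _ => true) (fun _ _ _ => by simp)
  rw [counts23.1] at this
  rw [← this]
  congr 1
  ext u
  simp

/-- The punctured length-23 code has weight distribution 0^1 7^253 8^506 11^1288 12^1288 15^506 16^253 23^1. -/
theorem result : {u : ZMod 23 → ZMod 2 | ∃ w ∈ Cfsg.golayCode, ∀ x : ZMod 23, u x = w (some x)}.ncard = 4096 ∧ {u : ZMod 23 → ZMod 2 | u ∈ {u : ZMod 23 → ZMod 2 | ∃ w ∈ Cfsg.golayCode, ∀ x : ZMod 23, u x = w (some x)} ∧ hammingNorm u = 7}.ncard = 253 ∧ {u : ZMod 23 → ZMod 2 | u ∈ {u : ZMod 23 → ZMod 2 | ∃ w ∈ Cfsg.golayCode, ∀ x : ZMod 23, u x = w (some x)} ∧ hammingNorm u = 8}.ncard = 506 ∧ {u : ZMod 23 → ZMod 2 | u ∈ {u : ZMod 23 → ZMod 2 | ∃ w ∈ Cfsg.golayCode, ∀ x : ZMod 23, u x = w (some x)} ∧ hammingNorm u = 11}.ncard = 1288 ∧ {u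 : ZMod 23 → ZMod 2 | u ∈ {u : ZMod 23 → ZMod 2 | ∃ w ∈ Cfsg.golayCode, ∀ x : ZMod 23, u x = w (some x)} ∧ hammingNorm u = 12}.ncard = 1288 ∧ {u : ZMod 23 → ZMod 2 | u ∈ {u : ZMod 23 → ZMod 2 | ∃ w ∈ Cfsg.golayCode, ∀ x : ZMod 23, u x = w (some x)} ∧ hammingNorm u = 15}.ncard = 506 ∧ {u : ZMod 23 → ZMod 2 | u ∈ {u : ZMod 23 → ZMod 2 | ∃ w ∈ Cfsg.golayCode, ∀ x : ZMod 23, u x = w (some x)} ∧ hammingNorm u = 16}.ncard = 253 ∧ ∀ u ∈ {u : ZMod 23 → ZMod 2 | ∃ w ∈ Cfsg.golayCode, ∀ x : ZMod 23, u x = w (some x)}, u ≠ 0 → 7 ≤ hammingNorm u := by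
  have e : {u : ZMod 23 → ZMod 2 | ∃ w ∈ Cfsg.golayCode, ∀ x : ZMod 23, u x = w (some x)} = pcode :=
    rfl
  rw [e]
  refine ⟨ncard_pcode, ?_, ?_, ?_, ?_, ?_, ?_, ?_⟩
  · rw [ncard_weight 7, counts23.2.1]
  · rw [ncard_weight 8, counts23.2.2.1]
  · rw [ncard_weight 11, counts23.2.2.2.1]
  · rw [ncard_weight 12, counts23.2.2.2.2.1]
  · rw [ncard_weight 15, counts23.2.2.2.2.2.1]
  · rw [ncard_weight 16, counts23.2.2.2.2.2.2]
  · intro u hu hne
    obtain ⟨n, hn, -, rfl⟩ := (mem_pcode u).1 hu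
    rw [hammingNorm_punct]
    have := List.all_eq_true.1 min23 n (List.mem_range.2 hn)
    rw [Bool.or_eq_true] at this
    rcases this with h | h
    · exfalso
      apply hne
      have h0 : n = 0 := Nat.eq_of_beq_eq_true h
      rw [h0, cw_zero, ofMask_zero]
      rfl
    · exact Nat.le_of_ble_eq_true h

end Cfsg.Agent.S1636
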