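import Mathlib
import Cfsg.Statements.S1637
import Cfsg.Agent.S1636

set_option autoImplicit false
open Cfsg

namespace Cfsg.Agent.S1637

open Cfsg.Agent.Helper27 Cfsg.Agent.Helper29 Cfsg.Agent.S1636

theorem punct_sub (w w' : GolayPt → ZMod 2) : punct (w - w') = punct w - punct w' := rfl

theorem pcode_sub (c c' : ZMod 23 → ZMod 2) (hc : c ∈ pcode) (hc' : c' ∈ pcode) :
    c - c' ∈ pcode := by
  obtain ⟨w, hw, h⟩ := hc
  obtain ⟨w', hw', h'⟩ := hc'
  refine ⟨w - w', Submodule.sub_mem _ hw hw', fun x => ?_⟩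
  rw [Pi.sub_apply, Pi.sub_apply, h x, h' x]

theorem pcode_min (c : ZMod 23 → ZMod 2) (hc : c ∈ pcode) (hne : c ≠ 0) : 7 ≤ hammingNorm c :=
  Cfsg.Agent.S1636.result.2.2.2.2.2.2.2 c hc hne

theorem uniq (u c c' : ZMod 23 → ZMod 2) (hc : c ∈ pcode) (hc' : c' ∈ pcode)
    (h : hammingDist u c ≤ 3) (h' : hammingDist u c' ≤ 3) : c = c' := by
  by_contra hne
  have h1 : c - c' ≠ 0 := sub_ne_zero.2 hne
  have h2 := pcode_min _ (pcode_sub c c' hc hc') h1
  have h2' : 7 ≤ hammingDist c' c := by
    rw [hammingDist_eq_hammingNorm, neg_add_eq_sub]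
    exact h2
  have h3 := hammingDist_triangle c' u c
  rw [hammingDist_comm c' u] at h3
  omega

/-- binary words as subsets -/
def suppEquiv : (ZMod 23 → ZMod 2) ≃ Finset (ZMod 23) where
  toFun e := Finset.univ.filter fun i => e i ≠ 0
  invFun s := fun i => if i ∈ s then 1 else 0
  left_inv e := by
    funext i
    simp only [Finset.mem_filter, Finset.mem_univ, true_and]
    have : ∀ a : ZMod 2, (if a ≠ 0 then (1 : ZMod 2) else 0) = a := by decide
    exact this (e i)
  right_inv s := by
    ext i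
    simp only [Finset.mem_filter, Finset.mem_univ, true_and]
    by_cases h : i ∈ s <;> simp [h]

theorem suppEquiv_card (e : ZMod 23 → ZMod 2) : (suppEquiv e).card = hammingNorm e := rfl

theorem card_small_sets :
    (Finset.univ.filter fun s : Finset (ZMod 23) => s.card ≤ 3).card = 2048 := by
  have h : (Finset.univ.filter fun s : Finset (ZMod 23) => s.card ≤ 3) =
      (Finset.range 4).biUnion fun k => Finset.powersetCard k (Finset.univ : Finset (ZMod 23)) := by
    ext s
    simp only [Finset.mem_filter, Finset.mem_univ, true_and, Finset.mem_biUnion, Finset.mem_range,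
      Finset.mem_powersetCard, Finset.subset_univ]
    constructor
    · intro h
      exact ⟨s.card, by omega, rfl⟩
    · rintro ⟨k, hk, rfl⟩
      omega
  rw [h, Finset.card_biUnion]
  · simp only [Finset.card_powersetCard, Finset.card_univ, ZMod.card]
    decide
  · intro i _ j _ hij
    exact Finset.pairwise_disjoint_powersetCard _ hij

theorem card_ball : Nat.card {e : ZMod 23 → ZMod 2 // hammingNorm e ≤ 3} = 2048 := by
  rw [Nat.card_congr (suppEquiv.subtypeEquiv (p := fun e => hammingNorm e ≤ 3)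
    (q := fun s => s.card ≤ 3) (fun e => by rw [suppEquiv_card])),
    Nat.card_eq_fintype_card, Fintype.card_subtype, card_small_sets]

theorem card_pcode : Nat.card pcode = 4096 := by
  rw [Nat.card_coe_set_eq, ncard_pcode]

/-- the sum map from pairs (code word, error of weight at most three) -/
def sumMap (x : pcode × {e : ZMod 23 → ZMod 2 // hammingNorm e ≤ 3}) : ZMod 23 → ZMod 2 :=
  x.1.1 + x.2.1

theorem dist_add (c e : ZMod 23 → ZMod 2) : hammingDist (c + e) c = hammingNorm e := by
  rw [hammingDist_comm, hammingDist_eq_hammingNorm, neg_add_cancel_left]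

theorem sumMap_injective : Function.Injective sumMap := by
  rintro ⟨c, e⟩ ⟨c', e'⟩ h
  have h0 : c.1 + e.1 = c'.1 + e'.1 := h
  have h1 : hammingDist (c.1 + e.1) c.1 ≤ 3 := by
    rw [dist_add]
    exact e.2
  have h2 : hammingDist (c.1 + e.1) c'.1 ≤ 3 := by
    rw [h0, dist_add]
    exact e'.2
  have hc : c.1 = c'.1 := uniq _ _ _ c.2 c'.2 h1 h2
  have he : e.1 = e'.1 := by
    rw [hc] at h0
    exact add_left_cancel h0
  exact Prod.ext (Subtype.ext hc) (Subtype.ext he)

theorem sumMap_surjective : Function.Surjective sumMap := by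
  have hbij : Function.Bijective sumMap := by
    rw [Nat.bijective_iff_injective_and_card]
    refine ⟨sumMap_injective, ?_⟩
    rw [Nat.card_prod, card_pcode, card_ball, Nat.card_eq_fintype_card, Fintype.card_fun,
      ZMod.card, ZMod.card]
    norm_num
  exact hbij.2

/-- The punctured length-23 code is a perfect 3-error-correcting code: each word of length 23 is within distance 3 of exactly one codeword. -/
theorem result (u : ZMod 23 → ZMod 2) : ∃! c : ZMod 23 → ZMod 2, c ∈ {u : ZMod 23 → ZMod 2 | ∃ w ∈ Cfsg.golayCode, ∀ x : ZMod 23, u x = w (some x)} ∧ hammingDist u c ≤ 3 := by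
  have e : {u : ZMod 23 → ZMod 2 | ∃ w ∈ Cfsg.golayCode, ∀ x : ZMod 23, u x = w (some x)} = pcode :=
    rfl
  rw [e]
  obtain ⟨⟨c, er⟩, hx⟩ := sumMap_surjective u
  have hu : u = c.1 + er.1 := hx.symm
  refine ⟨c.1, ⟨c.2, ?_⟩, ?_⟩
  · rw [hu, dist_add]
    exact er.2
  · rintro c' ⟨hc', hd'⟩
    have hd : hammingDist u c.1 ≤ 3 := by
      rw [hu, dist_add]
      exact er.2
    exact uniq u c' c.1 hc' c.2 hd' hd

end Cfsg.Agent.S1637
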