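import Mathlib
import Cfsg.Statements.S1638
import Cfsg.Agent.Lib.Helper29.M24Mask

set_option autoImplicit false
open scoped Pointwise
open Cfsg

namespace Cfsg.Agent.S1638

open Cfsg.Agent.Helper29.M24 Cfsg.Agent.Helper29 Cfsg.Agent.Helper27
open Cfsg.Agent.S0358 (idx)

def p0 : Cfsg.GolayPt := dec 23
def q0 : Cfsg.GolayPt := dec 0
def base4 : ℕ := 8388615
def L5 : List ℕ := [2126, 2357, 2503, 3374, 3474]

def pairTab : List (ℕ × ℕ) := [
  (10, 0), (12, 207633857729331), (18, 760183), (20, 11860658443059), (24, 0), (34, 620663),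
  (36, 792259285811), (40, 0), (48, 186472285426483), (66, 702871), (68, 236976805860147), (72, 703703),
  (80, 12376471), (96, 792259285811), (130, 2883164024), (132, 198075516129320981299), (136, 12383096293580690227), (144, 2883164024),
  (160, 46118041719), (192, 52631), (258, 825224), (260, 11877569876787), (264, 2749), (272, 825224),
  (288, 11114376), (320, 659115299635), (384, 55176), (514, 12360071), (516, 53156407294645043), (520, 778447053533827891),
  (528, 12360071), (544, 51591), (576, 2983492695970611), (640, 2982392915907379), (768, 707975), (1026, 55672),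
  (1028, 53367577951687475), (1032, 9), (1040, 772472), (1056, 3322279447843635), (1088, 53367577951687475), (1152, 44408),
  (1280, 2983557120480051), (1536, 53156407294645043), (2050, 46118049912), (2052, 13608056764952302387), (2056, 3017), (2064, 46118049912),
  (2080, 207363006354227), (2112, 183), (2176, 2899941240), (2304, 825224), (2560, 186335114908467), (3072, 55672),
  (4098, 12359559), (4100, 53049750103348019), (4104, 53049750103348019), (4112, 12437104300442080051), (4128, 48353877675037491), (4160, 57834824707429171),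
  (4224, 38791), (4352, 55176), (4608, 11310983), (5120, 48582503347606323), (6144, 53049750103348019), (8194, 216),
  (8196, 48353873380070195), (8200, 43992), (8208, 180148632), (8224, 620663), (8256, 707991), (8320, 43416),
  (8448, 48353873380070195), (8704, 11783080596275), (9216, 3023207990121267), (10240, 180148632), (12288, 3224), (16386, 198805383),
  (16388, 3264963109278515), (16392, 2713), (16400, 2935), (16416, 198805383), (16448, 702871), (16512, 198805383),
  (16640, 14128132739891), (16896, 53156407294645043), (17408, 3317808655323955), (18432, 776312), (20480, 11508202689331), (24576, 216),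
  (32770, 706423), (32772, 3614607806911283), (32776, 3614607806911283), (32784, 198075515025514386227), (32800, 11257719), (32832, 43415),
  (32896, 706423), (33024, 198023048), (33280, 12360071), (33792, 198075515025514386227), (34816, 48562711869870899), (36864, 12359559),
  (40960, 3315540644156211), (49152, 180197239), (65538, 180848504), (65540, 12383061105182069555), (65544, 10546398450483), (65552, 180848504),
  (65568, 14124920), (65600, 55190194040), (65664, 180848504), (65792, 207642179228467), (66048, 850468359393071923), (66560, 221583911506739),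
  (67584, 181897080), (69632, 835831660335682355), (73728, 216), (81920, 168738365461299), (98304, 228034424), (131074, 13203576),
  (131076, 217728643257488200499), (131080, 13203576), (131088, 14252152), (131104, 207363006354227), (131136, 11368568), (131200, 217728643257488200499),
  (131328, 53524910899), (131584, 53367513527178035), (132096, 42651668907905843), (133120, 12383077666307527475), (135168, 211384440), (139264, 14526228070531420979),
  (147456, 11241351), (163840, 13203576), (196608, 12383061105182069555), (262146, 3180951415), (262148, 513354847027), (262152, 703641),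
  (262160, 179926903), (262176, 3023070819603251), (262208, 513354847027), (262272, 11237239), (262400, 2883164040), (262656, 53156402999677747),
  (263168, 694648), (264192, 513354847027), (266240, 772781265552495411), (270336, 11302775), (278528, 3180951415), (294912, 180975479),
  (327680, 57871108859581235), (393216, 186330819941171), (524290, 3650586487), (524292, 3051726841402163), (524296, 44441), (524304, 47735879394218803),
  (524320, 166608330117939), (524352, 7), (524416, 2883164024), (524544, 3051726841402163), (524800, 706951), (525312, 3650586487),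
  (526336, 50693900151), (528384, 850502512973009715), (532480, 2881980279), (540672, 201792702206771), (557056, 778444849947169587), (589824, 3113715575),
  (655360, 61246678276330291), (786432, 46118041463), (1048578, 3111679864), (1048580, 13711520912179), (1048584, 703897), (1048592, 3111679864),
  (1048608, 11924814517043), (1048640, 13711520912179), (1048704, 239111404606259), (1048832, 12379719693371790131), (1049088, 3111679864), (1049600, 13711520912179),
  (1050624, 3245240619455283), (1052672, 850468359124636467), (1056768, 188873172144947), (1064960, 208320784061235), (1081344, 3614607806911283), (1114112, 3113715576),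
  (1179648, 228161656), (1310720, 10412986028851), (1572864, 3262833073935155), (2097154, 46398994551), (2097156, 50840556339), (2097160, 2790609715),
  (2097168, 46398994551), (2097184, 194541687), (2097216, 50840556339), (2097280, 198075516129320981299), (2097408, 814270993203), (2097664, 3021975602942771),
  (2098176, 11792207401779), (2099200, 51320), (2101248, 50840556339), (2105344, 728371647283), (2113536, 12420999), (2129920, 555127),
  (2162688, 11860926878515), (2228224, 54061781811), (2359296, 11806220777591), (2621440, 46398994551), (3145728, 517381378867), (4194306, 50895226760),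
  (4194308, 48827630016090931), (4194312, 48827630016090931), (4194320, 180848520), (4194336, 3036406424621875), (4194368, 3791633742385971), (4194432, 228034440),
  (4194560, 180848520), (4194816, 2899806088), (4195328, 10477678973747), (4196352, 13608056764952302387), (4198400, 773625695046030131), (4202496, 48827630016090931),
  (4210688, 46117914504), (4227072, 50895226760), (4259840, 50895226760), (4325376, 3382151048), (4456448, 738089994120), (4718592, 46331824008),
  (5242880, 46600259464), (6291456, 3327480627)]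

def pairW (m : ℕ) : List ℕ :=
  match pairTab.find? (fun e => e.1 == m) with
  | some e => decW 40 e.2
  | none => []

def inOct (m : ℕ) : Bool := L5.any fun n => pop24 ((m ||| base4) &&& cw n) == pop24 (m ||| base4)

def cls (m : ℕ) : ℕ := if pop24 (6 &&& m) = 1 then 1 else if inOct m = true then 2 else 3

def repOf (c : ℕ) : ℕ := if c = 1 then 10 else if c = 2 then 40 else 24

def Adm (m : ℕ) : Prop := m.testBit 23 = false ∧ m.testBit 0 = false ∧ m ≠ 6

instance (m : ℕ) : Decidable (Adm m) := by unfold Adm; infer_instance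

def pairEntry (m : ℕ) : Prop :=
  Adm m → (∀ l ∈ pairW m, l < ngen) ∧ appW (pairW m) 23 = 23 ∧ appW (pairW m) 0 = 0 ∧
    mapsW (pairW m) 6 6 ∧ mapsW (pairW m) (repOf (cls m)) m

instance (m : ℕ) : Decidable (pairEntry m) := by unfold pairEntry; infer_instance

set_option maxRecDepth 1000000 in
theorem pair_ok : ∀ m ∈ pairMasks, pairEntry m := by decide +kernel

set_option maxRecDepth 1000000 in
theorem L5_complete : ∀ n < 4096, pop24 (cw n) = 8 → pop24 (base4 &&& cw n) = 4 → n ∈ L5 := by
  decide +kernel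

theorem L5_oct : ∀ n ∈ L5, n < 4096 ∧ pop24 (cw n) = 8 := by decide +kernel

def PA (m : ℕ) : Bool := !m.testBit 23 && !m.testBit 0 && pop24 (6 &&& m) == 0 && inOct m

def PB (m : ℕ) : Bool := !m.testBit 23 && !m.testBit 0 && pop24 (6 &&& m) == 0 && !inOct m

set_option maxRecDepth 1000000 in
theorem countsAB : (pairMasks.filter PA).length = 30 ∧ (pairMasks.filter PB).length = 160 := by
  decide +kernel

theorem rep_pop : ∀ c, pop24 (repOf c) = 2 := by
  intro c
  unfold repOf
  split_ifs <;> decide +kernel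

/-- the octad condition -/
def Cond (p q : Cfsg.GolayPt) (s t : Finset Cfsg.GolayPt) : Prop :=
  ∃ o ∈ Cfsg.octads, p ∈ o ∧ q ∈ o ∧ s ∪ t ⊆ o

def Good (p q : Cfsg.GolayPt) (t : Finset Cfsg.GolayPt) : Prop := t.card = 2 ∧ p ∉ t ∧ q ∉ t

theorem base4_spec : ∀ x : Cfsg.GolayPt,
    (base4.testBit (idx x) = true ↔ x = p0 ∨ x = q0 ∨ (6 : ℕ).testBit (idx x) = true) := by
  decide

theorem base4_set : maskSet base4 = insert p0 (insert q0 (maskSet 6)) := by
  ext x
  rw [mem_maskSet, Finset.mem_insert, Finset.mem_insert, mem_maskSet]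
  exact base4_spec x

theorem base4_pop : pop24 base4 = 4 := by decide +kernel

theorem cond_iff (m : ℕ) : Cond p0 q0 (maskSet 6) (maskSet m) ↔ inOct m = true := by
  have hsub : ∀ o : Finset Cfsg.GolayPt,
      (p0 ∈ o ∧ q0 ∈ o ∧ maskSet 6 ∪ maskSet m ⊆ o) ↔ maskSet (m ||| base4) ⊆ o := by
    intro o
    rw [maskSet_or, base4_set]
    constructor
    · rintro ⟨h1, h2, h3⟩
      intro x hx
      rw [Finset.mem_union, Finset.mem_insert, Finset.mem_insert] at hx
      rcases hx with hx | rfl | rfl | hx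
      · exact h3 (Finset.mem_union_right _ hx)
      · exact h1
      · exact h2
      · exact h3 (Finset.mem_union_left _ hx)
    · intro h
      refine ⟨h ?_, h ?_, ?_⟩
      · exact Finset.mem_union_right _ (Finset.mem_insert_self _ _)
      · exact Finset.mem_union_right _ (Finset.mem_insert_of_mem (Finset.mem_insert_self _ _))
      · intro x hx
        rw [Finset.mem_union] at hx
        rcases hx with hx | hx
        · exact h (Finset.mem_union_right _
            (Finset.mem_insert_of_mem (Finset.mem_insert_of_mem hx)))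
        · exact h (Finset.mem_union_left _ hx)
  unfold Cond inOct
  rw [List.any_eq_true]
  constructor
  · rintro ⟨o, ho, h⟩
    obtain ⟨n, hn, h8, rfl⟩ := (mem_octads_iff' o).1 ho
    have h1 := (hsub _).1 h
    have h2 : maskSet base4 ⊆ maskSet (cw n) := by
      refine subset_trans ?_ h1
      rw [maskSet_or]
      exact Finset.subset_union_right
    rw [maskSet_subset_iff, base4_pop] at h2
    refine ⟨n, L5_complete n hn h8 h2, ?_⟩
    rw [beq_iff_eq]
    exact (maskSet_subset_iff _ _).1 h1
  · rintro ⟨n, hn, h⟩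
    rw [beq_iff_eq] at h
    obtain ⟨hn4, h8⟩ := L5_oct n hn
    refine ⟨maskSet (cw n), (mem_octads_iff' _).2 ⟨n, hn4, h8, rfl⟩, ?_⟩
    exact (hsub _).2 ((maskSet_subset_iff _ _).2 h)

theorem p0_mem (m : ℕ) : p0 ∈ maskSet m ↔ m.testBit 23 = true := mem_maskSet_idx m 23 (by norm_num)

theorem q0_mem (m : ℕ) : q0 ∈ maskSet m ↔ m.testBit 0 = true := mem_maskSet_idx m 0 (by norm_num)

theorem good_iff (t : Finset Cfsg.GolayPt) :
    Good p0 q0 t ↔ ∃ m ∈ pairMasks, m.testBit 23 = false ∧ m.testBit 0 = false ∧ t = maskSet m := by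
  constructor
  · rintro ⟨h2, hp, hq⟩
    obtain ⟨m, hm, rfl⟩ := exists_pairMask t h2
    refine ⟨m, hm, ?_, ?_, rfl⟩
    · rw [p0_mem] at hp
      simpa using hp
    · rw [q0_mem] at hq
      simpa using hq
  · rintro ⟨m, hm, h23, h0, rfl⟩
    refine ⟨?_, ?_, ?_⟩
    · rw [card_maskSet, (pairMasks_spec m hm).2]
    · rw [p0_mem, h23]
      simp
    · rw [q0_mem, h0]
      simp

theorem baseA_set :
    {t : Finset Cfsg.GolayPt | Good p0 q0 t ∧ Disjoint (maskSet 6) t ∧ Cond p0 q0 (maskSet 6) t} =
      {t | ∃ m ∈ pairMasks, PA m = true ∧ t = maskSet m} := by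
  ext t
  simp only [Set.mem_ofPred_eq]
  constructor
  · rintro ⟨hg, hd, hc⟩
    obtain ⟨m, hm, h23, h0, rfl⟩ := (good_iff t).1 hg
    refine ⟨m, hm, ?_, rfl⟩
    rw [disjoint_maskSet_iff] at hd
    rw [cond_iff] at hc
    unfold PA
    simp [h23, h0, hd, hc]
  · rintro ⟨m, hm, hP, rfl⟩
    unfold PA at hP
    simp only [Bool.and_eq_true, Bool.not_eq_eq_eq_not, Bool.not_true, beq_iff_eq] at hP
    obtain ⟨⟨⟨h23, h0⟩, hd⟩, hc⟩ := hP
    exact ⟨(good_iff _).2 ⟨m, hm, h23, h0, rfl⟩, (disjoint_maskSet_iff _ _).2 hd, (cond_iff m).2 hc⟩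

theorem baseB_set :
    {t : Finset Cfsg.GolayPt | Good p0 q0 t ∧ Disjoint (maskSet 6) t ∧ ¬ Cond p0 q0 (maskSet 6) t} =
      {t | ∃ m ∈ pairMasks, PB m = true ∧ t = maskSet m} := by
  ext t
  simp only [Set.mem_ofPred_eq]
  constructor
  · rintro ⟨hg, hd, hc⟩
    obtain ⟨m, hm, h23, h0, rfl⟩ := (good_iff t).1 hg
    refine ⟨m, hm, ?_, rfl⟩
    rw [disjoint_maskSet_iff] at hd
    rw [cond_iff] at hc
    unfold PB
    simp [h23, h0, hd, hc]
  · rintro ⟨m, hm, hP, rfl⟩
    unfold PB at hP
    simp only [Bool.and_eq_true, Bool.not_eq_eq_eq_not, Bool.not_true, beq_iff_eq] at hP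
    obtain ⟨⟨⟨h23, h0⟩, hd⟩, hc⟩ := hP
    refine ⟨(good_iff _).2 ⟨m, hm, h23, h0, rfl⟩, (disjoint_maskSet_iff _ _).2 hd, ?_⟩
    rw [cond_iff, hc]
    simp

theorem fix_of_appW (w : List ℕ) (hw : ∀ l ∈ w, l < ngen) (x : ℕ) (hx : x < 24)
    (h : appW w x = x) : evalW w (dec x) = dec x := by
  apply M24.idx_injective
  have : idx (dec x) = x := idx_dec ⟨x, hx⟩
  rw [idx_evalW w hw, this, h]

/-- base transitivity -/
theorem base_trans (m m' : ℕ) (hm : m ∈ pairMasks) (hm' : m' ∈ pairMasks) (ha : Adm m) (ha' : Adm m')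
    (hc : cls m = cls m') :
    ∃ g ∈ Cfsg.M24, g p0 = p0 ∧ g q0 = q0 ∧ g • maskSet 6 = maskSet 6 ∧
      g • maskSet m = maskSet m' := by
  obtain ⟨a1, a2, a3, a4, a5⟩ := pair_ok m hm ha
  obtain ⟨b1, b2, b3, b4, b5⟩ := pair_ok m' hm' ha'
  rw [← hc] at b5
  have hrp := rep_pop (cls m)
  have ea := smul_eq_of_mapsW _ a1 _ _ (by rw [hrp, (pairMasks_spec m hm).2]) a5
  have eb := smul_eq_of_mapsW _ b1 _ _ (by rw [hrp, (pairMasks_spec m' hm').2]) b5
  have sa := smul_eq_of_mapsW _ a1 _ _ le_rfl a4
  have sb := smul_eq_of_mapsW _ b1 _ _ le_rfl b4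
  have pa : evalW (pairW m) p0 = p0 := fix_of_appW _ a1 23 (by norm_num) a2
  have pb : evalW (pairW m') p0 = p0 := fix_of_appW _ b1 23 (by norm_num) b2
  have qa : evalW (pairW m) q0 = q0 := fix_of_appW _ a1 0 (by norm_num) a3
  have qb : evalW (pairW m') q0 = q0 := fix_of_appW _ b1 0 (by norm_num) b3
  refine ⟨evalW (pairW m') * (evalW (pairW m))⁻¹,
    Subgroup.mul_mem _ (evalW_mem_M24 _ b1) (Subgroup.inv_mem _ (evalW_mem_M24 _ a1)), ?_, ?_, ?_, ?_⟩
  · rw [Equiv.Perm.mul_apply]
    have : (evalW (pairW m))⁻¹ p0 = p0 := by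
      conv_lhs => rw [← pa]
      rw [perm_inv_apply]
    rw [this, pb]
  · rw [Equiv.Perm.mul_apply]
    have : (evalW (pairW m))⁻¹ q0 = q0 := by
      conv_lhs => rw [← qa]
      rw [perm_inv_apply]
    rw [this, qb]
  · rw [mul_smul]
    have : (evalW (pairW m))⁻¹ • maskSet 6 = maskSet 6 := by
      rw [inv_smul_eq_iff]
      exact sa.symm
    rw [this, sb]
  · rw [mul_smul]
    have : (evalW (pairW m))⁻¹ • maskSet m = maskSet (repOf (cls m)) := by
      rw [inv_smul_eq_iff]
      exact ea.symm
    rw [this, eb]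

/-- invariance of the conditions -/
theorem cond_smul (g : Equiv.Perm Cfsg.GolayPt) (hg : g ∈ Cfsg.M24) (p q : Cfsg.GolayPt)
    (s t : Finset Cfsg.GolayPt) : Cond (g p) (g q) (g • s) (g • t) ↔ Cond p q s t := by
  have key : ∀ (g : Equiv.Perm Cfsg.GolayPt), g ∈ Cfsg.M24 → ∀ (p q : Cfsg.GolayPt)
      (s t : Finset Cfsg.GolayPt), Cond p q s t → Cond (g p) (g q) (g • s) (g • t) := by
    rintro g hg p q s t ⟨o, ho, hp, hq, hst⟩
    refine ⟨g • o, smul_mem_octads hg ho, Finset.smul_mem_smul_finset hp,
      Finset.smul_mem_smul_finset hq, ?_⟩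
    rw [← Finset.smul_finset_union]
    exact Finset.smul_finset_subset_smul_finset hst
  constructor
  · intro h
    have := key g⁻¹ (Subgroup.inv_mem _ hg) _ _ _ _ h
    rwa [perm_inv_apply, perm_inv_apply, inv_smul_smul, inv_smul_smul] at this
  · exact key g hg p q s t

theorem good_smul (g : Equiv.Perm Cfsg.GolayPt) (p q : Cfsg.GolayPt) (t : Finset Cfsg.GolayPt) :
    Good (g p) (g q) (g • t) ↔ Good p q t := by
  unfold Good
  rw [Finset.card_smul_finset]
  have h1 : g p ∈ g • t ↔ p ∈ t := Finset.smul_mem_smul_finset_iff g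
  have h2 : g q ∈ g • t ↔ q ∈ t := Finset.smul_mem_smul_finset_iff g
  rw [h1, h2]

theorem disj_smul (g : Equiv.Perm Cfsg.GolayPt) (s t : Finset Cfsg.GolayPt) :
    Disjoint (g • s) (g • t) ↔ Disjoint s t := by
  rw [Finset.disjoint_iff_inter_eq_empty, Finset.disjoint_iff_inter_eq_empty,
    ← Finset.smul_finset_inter, Finset.smul_finset_eq_empty]

theorem image_set (R : Cfsg.GolayPt → Cfsg.GolayPt → Finset Cfsg.GolayPt → Finset Cfsg.GolayPt → Prop)
    (g : Equiv.Perm Cfsg.GolayPt)
    (hR : ∀ p q s t, R (g p) (g q) (g • s) (g • t) ↔ R p q s t)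
    (p q : Cfsg.GolayPt) (s : Finset Cfsg.GolayPt) :
    {t | R (g p) (g q) (g • s) t} = (fun t => g • t) '' {t | R p q s t} := by
  ext t
  constructor
  · intro h
    refine ⟨g⁻¹ • t, ?_, smul_inv_smul g t⟩
    have : R (g p) (g q) (g • s) (g • g⁻¹ • t) := by rw [smul_inv_smul]; exact h
    exact (hR _ _ _ _).1 this
  · rintro ⟨t', ht', rfl⟩
    exact (hR _ _ _ _).2 ht'

theorem s0_eq : maskSet 6 = {bp 2, bp 3} := by
  ext x
  rw [mem_maskSet, Finset.mem_insert, Finset.mem_singleton]
  revert x
  decide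

theorem exists_g0 (p q : Cfsg.GolayPt) (hpq : p ≠ q) (s : Finset Cfsg.GolayPt)
    (hs : s.card = 2 ∧ p ∉ s ∧ q ∉ s) :
    ∃ g0 ∈ Cfsg.M24, g0 p0 = p ∧ g0 q0 = q ∧ g0 • maskSet 6 = s := by
  obtain ⟨h2, hp, hq⟩ := hs
  obtain ⟨a, b, hab, rfl⟩ := Finset.card_eq_two.1 h2
  rw [Finset.mem_insert, Finset.mem_singleton, not_or] at hp hq
  obtain ⟨g0, hg0, h⟩ := exists_map_emb (by norm_num : 4 ≤ 5)
    (emb4 p q a b hpq hp.1 hp.2 hq.1 hq.2 hab)
  refine ⟨g0, hg0, h 0, h 1, ?_⟩
  rw [s0_eq, Finset.smul_finset_insert, Finset.smul_finset_singleton]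
  have e2 : g0 (bp 2) = a := h 2
  have e3 : g0 (bp 3) = b := h 3
  change {g0 (bp 2), g0 (bp 3)} = ({a, b} : Finset Cfsg.GolayPt)
  rw [e2, e3]

/-- Fix two points p ≠ q and a pair s of two further points. Among the pairs avoiding p, q and disjoint from s, exactly 30 lie in an octad together with p, q and s and exactly 160 do not; and any two pairs other than s that meet s in equally many points and agree on that octad property are carried to one another by an element of the group of the length-24 code fixing p, q and s. -/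
theorem result (p q : Cfsg.GolayPt) (hpq : p ≠ q) (s : Finset Cfsg.GolayPt) (hs : (s.card = 2 ∧ p ∉ s ∧ q ∉ s)) : {t : Finset Cfsg.GolayPt | (t.card = 2 ∧ p ∉ t ∧ q ∉ t) ∧ Disjoint s t ∧ (∃ o ∈ Cfsg.octads, p ∈ o ∧ q ∈ o ∧ s ∪ t ⊆ o)}.ncard = 30 ∧ {t : Finset Cfsg.GolayPt | (t.card = 2 ∧ p ∉ t ∧ q ∉ t) ∧ Disjoint s t ∧ ¬ (∃ o ∈ Cfsg.octads, p ∈ o ∧ q ∈ o ∧ s ∪ t ⊆ o)}.ncard = 160 ∧ ∀ t t' : Finset Cfsg.GolayPt, (t.card = 2 ∧ p ∉ t ∧ q ∉ t) → (t'.card = 2 ∧ p ∉ t' ∧ q ∉ t') → t ≠ s → t' ≠ s → (s ∩ t).card = (s ∩ t').card → ((∃ o ∈ Cfsg.octads, p ∈ o ∧ q ∈ o ∧ s ∪ t ⊆ o) ↔ (∃ o ∈ Cfsg.octads, p ∈ o ∧ q ∈ o ∧ s ∪ t' ⊆ o)) → ∃ g : Equiv.Perm Cfsg.GolayPt, g ∈ Cfsg.M24 ∧ g p = p ∧ g q = q ∧ g • s = s ∧ g • t = t' := by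
  obtain ⟨g0, hg0, hgp, hgq, hgs⟩ := exists_g0 p q hpq s hs
  have hRA : ∀ (p q : Cfsg.GolayPt) (s t : Finset Cfsg.GolayPt),
      (Good (g0 p) (g0 q) (g0 • t) ∧ Disjoint (g0 • s) (g0 • t) ∧ Cond (g0 p) (g0 q) (g0 • s) (g0 • t)) ↔
        (Good p q t ∧ Disjoint s t ∧ Cond p q s t) := by
    intro p q s t
    rw [good_smul, disj_smul, cond_smul g0 hg0]
  have hRB : ∀ (p q : Cfsg.GolayPt) (s t : Finset Cfsg.GolayPt),
      (Good (g0 p) (g0 q) (g0 • t) ∧ Disjoint (g0 • s) (g0 • t) ∧ ¬ Cond (g0 p) (g0 q) (g0 • s) (g0 • t)) ↔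
        (Good p q t ∧ Disjoint s t ∧ ¬ Cond p q s t) := by
    intro p q s t
    rw [good_smul, disj_smul, cond_smul g0 hg0]
  have hA := image_set (fun p q s t => Good p q t ∧ Disjoint s t ∧ Cond p q s t) g0 hRA p0 q0 (maskSet 6)
  have hB := image_set (fun p q s t => Good p q t ∧ Disjoint s t ∧ ¬ Cond p q s t) g0 hRB p0 q0 (maskSet 6)
  rw [hgp, hgq, hgs] at hA hB
  refine ⟨?_, ?_, ?_⟩
  · change {t | Good p q t ∧ Disjoint s t ∧ Cond p q s t}.ncard = 30
    rw [hA, ncard_smul_image, baseA_set,
      ncard_maskList _ pairMasks_nodup (fun m hm => (pairMasks_spec m hm).1), countsAB.1]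
  · change {t | Good p q t ∧ Disjoint s t ∧ ¬ Cond p q s t}.ncard = 160
    rw [hB, ncard_smul_image, baseB_set,
      ncard_maskList _ pairMasks_nodup (fun m hm => (pairMasks_spec m hm).1), countsAB.2]
  · intro t t' ht ht' hts ht's hcard hiff
    have hi : g0⁻¹ ∈ Cfsg.M24 := Subgroup.inv_mem _ hg0
    have ip : g0⁻¹ p = p0 := by rw [← hgp, perm_inv_apply]
    have iq : g0⁻¹ q = q0 := by rw [← hgq, perm_inv_apply]
    have is : g0⁻¹ • s = maskSet 6 := by rw [← hgs, inv_smul_smul]
    have hgd : Good p0 q0 (g0⁻¹ • t) := by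
      have := (good_smul g0⁻¹ p q t).2 ht
      rwa [ip, iq] at this
    have hgd' : Good p0 q0 (g0⁻¹ • t') := by
      have := (good_smul g0⁻¹ p q t').2 ht'
      rwa [ip, iq] at this
    obtain ⟨m, hm, h23, h0, em⟩ := (good_iff _).1 hgd
    obtain ⟨m', hm', h23', h0', em'⟩ := (good_iff _).1 hgd'
    have hne : m ≠ 6 := by
      rintro rfl
      apply hts
      rw [← smul_inv_smul g0 t, em, hgs]
    have hne' : m' ≠ 6 := by
      rintro rfl
      apply ht's
      rw [← smul_inv_smul g0 t', em', hgs]
    have hint : ∀ e : Finset Cfsg.GolayPt, (maskSet 6 ∩ g0⁻¹ • e).card = (s ∩ e).card := by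
      intro e
      rw [← is, ← Finset.smul_finset_inter, Finset.card_smul_finset]
    have hk : pop24 (6 &&& m) = pop24 (6 &&& m') := by
      have h1 := hint t
      have h2 := hint t'
      rw [em, inter_maskSet_card] at h1
      rw [em', inter_maskSet_card] at h2
      rw [h1, h2, hcard]
    have hco : inOct m = inOct m' := by
      have c1 : Cond p0 q0 (maskSet 6) (maskSet m) ↔ Cond p q s t := by
        rw [← em, ← is, ← ip, ← iq]
        exact cond_smul g0⁻¹ hi p q s t
      have c2 : Cond p0 q0 (maskSet 6) (maskSet m') ↔ Cond p q s t' := by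
        rw [← em', ← is, ← ip, ← iq]
        exact cond_smul g0⁻¹ hi p q s t'
      rw [cond_iff] at c1 c2
      have : inOct m = true ↔ inOct m' = true := c1.trans (hiff.trans c2.symm)
      cases h1 : inOct m <;> cases h2 : inOct m' <;> simp_all
    have hcls : cls m = cls m' := by
      unfold cls
      rw [hk, hco]
    obtain ⟨h, hh, hhp, hhq, hhs, hhm⟩ := base_trans m m' hm hm' ⟨h23, h0, hne⟩ ⟨h23', h0', hne'⟩ hcls
    refine ⟨g0 * h * g0⁻¹, Subgroup.mul_mem _ (Subgroup.mul_mem _ hg0 hh) hi, ?_, ?_, ?_, ?_⟩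
    · rw [Equiv.Perm.mul_apply, Equiv.Perm.mul_apply, ip, hhp, hgp]
    · rw [Equiv.Perm.mul_apply, Equiv.Perm.mul_apply, iq, hhq, hgq]
    · rw [mul_smul, mul_smul, is, hhs, hgs]
    · rw [mul_smul, mul_smul, em, hhm, ← em', smul_inv_smul]

end Cfsg.Agent.S1638
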