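import Mathlib
import Cfsg.Statements.S1679
import Cfsg.Agent.Lib.Helper9.G24Iso
import Cfsg.Agent.Lib.Helper9.TC2Word

set_option autoImplicit false
set_option maxRecDepth 1000000
open Cfsg

namespace Cfsg.Agent.S1679

open Cfsg.Lie Cfsg.Agent.Helper9 Cfsg.Agent.Helper9.TC2 Cfsg.Agent.Helper9.TCData Cfsg.Spor
  Cfsg.Agent.Helper9.G24Simple Cfsg.Agent.Helper9.G24Iso

theorem sub1 : SubPres SuzC0.edges SuzC0.extra SuzD1.edges SuzD1.extra SuzC0.iota :=
  ⟨by decide +kernel, by decide +kernel⟩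

/-- The homomorphism from the presented group on six generators. -/
noncomputable def phi1 : PG24 →* PresentedGroup (relSet SuzC0.edges SuzC0.extra) := subPresHom sub1

theorem phi1_ne : phi1 (PresentedGroup.of 0) ≠ 1 := by
  unfold phi1
  rw [subPresHom_of]
  exact SuzC0.cert.mk_ne_one_of_moves (FreeGroup.of (SuzC0.iota 0)) (i := 2) (by decide)
    (by decide +kernel)

theorem phi1_injective : Function.Injective phi1 := by
  have := g24_simple.1
  exact injective_of_simple phi1 (PresentedGroup.of 0) phi1_ne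

theorem range_set : Set.range (fun b : Fin 6 => FreeGroup.of (SuzC0.iota b)) =
    ({Suz.a, Suz.b, Suz.c, Suz.d, Suz.e, Suz.f} : Set (FreeGroup Suz.Gen)) := by
  ext s
  simp only [Set.mem_range, Set.mem_insert_iff, Set.mem_singleton_iff]
  constructor
  · rintro ⟨b, rfl⟩
    fin_cases b <;> simp [SuzC0.iota, Suz.a, Suz.b, Suz.c, Suz.d, Suz.e, Suz.f]
  · rintro (h | h | h | h | h | h)
    · exact ⟨0, h.symm⟩
    · exact ⟨1, h.symm⟩
    · exact ⟨2, h.symm⟩
    · exact ⟨3, h.symm⟩
    · exact ⟨4, h.symm⟩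
    · exact ⟨5, h.symm⟩

theorem phi1_range : phi1.range =
    coxH Suz.edges Suz.extra ({Suz.a, Suz.b, Suz.c, Suz.d, Suz.e, Suz.f} : Set (FreeGroup Suz.Gen)) := by
  unfold phi1
  rw [subPresHom_range, range_set]

/-- In the presented sporadic Suzuki group (generators a, …, g), the subgroup generated by the images of a, …, f is isomorphic to the adjoint Chevalley group of type G₂ over a field with four elements. -/
theorem result : ∃ (K : Type) (_ : Field K) (_ : Fintype K), Fintype.card K = 4 ∧ Nonempty ((((Subgroup.closure ({Cfsg.Spor.Suz.a, Cfsg.Spor.Suz.b, Cfsg.Spor.Suz.c, Cfsg.Spor.Suz.d, Cfsg.Spor.Suz.e, Cfsg.Spor.Suz.f} : Set (FreeGroup Cfsg.Spor.Suz.Gen))).map (PresentedGroup.mk (Cfsg.Spor.coxRelators Cfsg.Spor.Suz.edges ∪ {r | r ∈ Cfsg.Spor.Suz.extra})))) ≃* Cfsg.Lie.chevG2.group K) := by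
  refine ⟨F4, inferInstance, inferInstance, F4.card, ⟨?_⟩⟩
  exact ((MulEquiv.subgroupCongr phi1_range).symm.trans
    (MonoidHom.ofInjective phi1_injective).symm).trans iso

end Cfsg.Agent.S1679
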