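import Mathlib
import Cfsg.Statements.S1680
import Cfsg.Agent.Lib.Helper9.TCPack
import Cfsg.Agent.Lib.Helper9.TCCox
import Cfsg.Agent.Lib.Helper9.TCData.Suz1680

set_option autoImplicit false
set_option maxRecDepth 100000
open Cfsg

namespace Cfsg.Agent.S1680

open Cfsg.Agent.Helper9.TC Cfsg.Agent.Helper9.TCData.Suz1680 Cfsg.Spor.Suz

/-- The generators, in the order of the columns. -/
def gens : List Gen := [.a, .b, .c, .d, .e, .f, .g]

/-- The generators of the subgroup. -/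
def sgens : List (FreeGroup Gen) := [a, b, c, d, e, f]

theorem fits : suzP.chkFits = true := by decide +kernel

/-- The certificate. -/
def cert : CoxCert edges extra ({a, b, c, d, e, f} : Set (FreeGroup Gen)) where
  gens := gens
  sgens := sgens
  D := suzP.toData
  hc := by intro x; cases x <;> decide
  hnd := by decide
  hn := by decide
  hS := by
    ext s
    simp only [Set.mem_insert_iff, Set.mem_singleton_iff, Set.mem_ofPred_eq, sgens, List.mem_cons,
      List.mem_nil_iff, or_false]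
  hk := rfl
  hinv := fun _ => rfl
  hrels := by decide +kernel
  hsubs := by decide +kernel
  hz1 := Packed.hz1 fits
  hz2 := Packed.hz2 fits
  hn0 := by decide
  h1 := by decide +kernel
  h2 := by decide +kernel
  h3 := by decide +kernel
  h4 := by decide +kernel
  h5 := by decide +kernel
  h6 := by decide +kernel

theorem ho1 : chkO1 suzP.toData suzPOrb.toOrb = true := by decide +kernel

theorem ho2 : chkO2 suzP.toData suzPOrb.toOrb = true := by decide +kernel

/-- In the presented sporadic Suzuki group, let H be the subgroup generated by the images of a, …, f. Then H has index 1782, H has orbits of sizes 416 and 1365 on the cosets of H other than H itself (with the index 1782 this makes the action rank 3). -/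
theorem result : (((Subgroup.closure ({Cfsg.Spor.Suz.a, Cfsg.Spor.Suz.b, Cfsg.Spor.Suz.c, Cfsg.Spor.Suz.d, Cfsg.Spor.Suz.e, Cfsg.Spor.Suz.f} : Set (FreeGroup Cfsg.Spor.Suz.Gen))).map (PresentedGroup.mk (Cfsg.Spor.coxRelators Cfsg.Spor.Suz.edges ∪ {r | r ∈ Cfsg.Spor.Suz.extra})))).index = 1782 ∧ ∃ q₁ q₂ : Cfsg.Spor.Suz ⧸ (((Subgroup.closure ({Cfsg.Spor.Suz.a, Cfsg.Spor.Suz.b, Cfsg.Spor.Suz.c, Cfsg.Spor.Suz.d, Cfsg.Spor.Suz.e, Cfsg.Spor.Suz.f} : Set (FreeGroup Cfsg.Spor.Suz.Gen))).map (PresentedGroup.mk (Cfsg.Spor.coxRelators Cfsg.Spor.Suz.edges ∪ {r | r ∈ Cfsg.Spor.Suz.extra})))), (MulAction.orbit (((Subgroup.closure ({Cfsg.Spor.Suz.a, Cfsg.Spor.Suz.b, Cfsg.Spor.Suz.c, Cfsg.Spor.Suz.d, Cfsg.Spor.Suz.e, Cfsg.Spor.Suz.f} : Set (FreeGroup Cfsg.Spor.Suz.Gen))).map (PresentedGroup.mk (Cfsg.Spor.coxRelators Cfsg.Spor.Suz.edges ∪ {r | r ∈ Cfsg.Spor.Suz.extra})))) q₁).ncard = 416 ∧ (MulAction.orbit (((Subgroup.closure ({Cfsg.Spor.Suz.a,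 Cfsg.Spor.Suz.b, Cfsg.Spor.Suz.c, Cfsg.Spor.Suz.d, Cfsg.Spor.Suz.e, Cfsg.Spor.Suz.f} : Set (FreeGroup Cfsg.Spor.Suz.Gen))).map (PresentedGroup.mk (Cfsg.Spor.coxRelators Cfsg.Spor.Suz.edges ∪ {r | r ∈ Cfsg.Spor.Suz.extra})))) q₂).ncard = 1365 := by
  refine ⟨cert.index_eq, ?_⟩
  obtain ⟨q₁, -, e₁⟩ := cert.orbit_ncard suzPOrb.toOrb ho1 ho2 (i₀ := 47) (by decide +kernel)
    (by decide +kernel)
  obtain ⟨q₂, -, e₂⟩ := cert.orbit_ncard suzPOrb.toOrb ho1 ho2 (i₀ := 1) (by decide +kernel)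
    (by decide +kernel)
  refine ⟨q₁, q₂, e₁.trans ?_, e₂.trans ?_⟩
  · decide +kernel
  · decide +kernel

end Cfsg.Agent.S1680
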