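import Mathlib
import Cfsg.Statements.S1686
import Cfsg.Agent.S1696
import Cfsg.Agent.Lib.Helper9.O73Mat

set_option autoImplicit false
set_option maxRecDepth 1000000
open Cfsg

namespace Cfsg.Agent.S1686

open Cfsg.Agent.Helper9 Cfsg.Agent.Helper9.TC2 Cfsg.Agent.Helper9.TCData Cfsg.Spor
  Cfsg.Agent.Helper9.O73Simple Cfsg.Agent.Helper9.O73Mat

/-- The presented group Fi22. -/
abbrev G22 : Type := PresentedGroup (relSet Fi22C0.edges Fi22C0.extra)

/-- The subgroup generated by b, …, i. -/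
abbrev H : Subgroup G22 :=
  coxH Fi22C0.edges Fi22C0.extra (Set.range fun b : Fin 8 => FreeGroup.of (Fi22C0.iota b))

theorem cardG : Nat.card G22 = 64561751654400 := S1696.result.2

theorem cardH : Nat.card H = 4585351680 := by
  have h1 : H.index = 14080 := Fi22C0.cert.index_eq
  have h2 := Subgroup.card_mul_index H
  rw [h1, cardG] at h2
  have h3 : Nat.card H * 14080 = 4585351680 * 14080 := by rw [h2]
  exact Nat.eq_of_mul_eq_mul_right (by norm_num) h3

/-- The homomorphism onto the subgroup. -/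
noncomputable def phi : PO73 →* G22 := subPresHom S1696.sub1

theorem phi_range : phi.range = H := subPresHom_range S1696.sub1

theorem phi_bij : Function.Bijective phi.rangeRestrict := by
  have hfin : Finite PO73 := hub.1
  have hs : Function.Surjective phi.rangeRestrict := phi.rangeRestrict_surjective
  have hcard : Nat.card PO73 = Nat.card phi.range := by
    rw [phi_range, cardH]
    exact o73_simple.2
  rw [Nat.bijective_iff_surjective_and_card]
  exact ⟨hs, hcard⟩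

/-- The isomorphism with the subgroup. -/
noncomputable def eqv : PO73 ≃* H :=
  (MulEquiv.ofBijective phi.rangeRestrict phi_bij).trans (MulEquiv.subgroupCongr phi_range)

theorem hset : ({Cfsg.Spor.Fi22.b, Cfsg.Spor.Fi22.c, Cfsg.Spor.Fi22.d, Cfsg.Spor.Fi22.e,
    Cfsg.Spor.Fi22.f, Cfsg.Spor.Fi22.g, Cfsg.Spor.Fi22.h, Cfsg.Spor.Fi22.i} :
    Set (FreeGroup Cfsg.Spor.Fi22.Gen)) =
    Set.range fun b : Fin 8 => FreeGroup.of (Fi22C0.iota b) := by
  ext s
  constructor
  · rintro (rfl | rfl | rfl | rfl | rfl | rfl | rfl | rfl)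
    · exact ⟨0, rfl⟩
    · exact ⟨1, rfl⟩
    · exact ⟨2, rfl⟩
    · exact ⟨3, rfl⟩
    · exact ⟨4, rfl⟩
    · exact ⟨5, rfl⟩
    · exact ⟨6, rfl⟩
    · exact ⟨7, rfl⟩
  · rintro ⟨b, rfl⟩
    fin_cases b
    · exact Or.inl rfl
    · exact Or.inr (Or.inl rfl)
    · exact Or.inr (Or.inr (Or.inl rfl))
    · exact Or.inr (Or.inr (Or.inr (Or.inl rfl)))
    · exact Or.inr (Or.inr (Or.inr (Or.inr (Or.inl rfl))))
    · exact Or.inr (Or.inr (Or.inr (Or.inr (Or.inr (Or.inl rfl)))))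
    · exact Or.inr (Or.inr (Or.inr (Or.inr (Or.inr (Or.inr (Or.inl rfl))))))
    · exact Or.inr (Or.inr (Or.inr (Or.inr (Or.inr (Or.inr (Or.inr rfl))))))

theorem main : Nonempty (H ≃* Cfsg.POmega (ZMod 3) (Cfsg.quadFormOdd 3 (ZMod 3))) :=
  ⟨eqv.symm.trans iso⟩

/-- In the presented Fischer group Fi₂₂, the subgroup generated by the images of b, …, i is isomorphic to PΩ(7, 3), the commutator subgroup of the isometry group of the quadratic form x₀² + x₁y₁ + x₂y₂ + x₃y₃ over the integers mod 3, modulo its centre. -/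
theorem result : Nonempty ((((Subgroup.closure ({Cfsg.Spor.Fi22.b, Cfsg.Spor.Fi22.c, Cfsg.Spor.Fi22.d, Cfsg.Spor.Fi22.e, Cfsg.Spor.Fi22.f, Cfsg.Spor.Fi22.g, Cfsg.Spor.Fi22.h, Cfsg.Spor.Fi22.i} : Set (FreeGroup Cfsg.Spor.Fi22.Gen))).map (PresentedGroup.mk (Cfsg.Spor.coxRelators Cfsg.Spor.Fi22.edges ∪ {r | r ∈ Cfsg.Spor.Fi22.extra})))) ≃* Cfsg.POmega (ZMod 3) (Cfsg.quadFormOdd 3 (ZMod 3))) := by
  rw [hset]
  exact main

end Cfsg.Agent.S1686
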