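import Mathlib
import Cfsg.Statements.S1691
import Cfsg.Agent.Lib.Helper9.Cox

set_option autoImplicit false
open Cfsg

namespace Cfsg.Agent.S1691

open Cfsg.Agent.Helper9 Cfsg.Spor Cfsg.Spor.Fi24

/-- every generator is a node -/
theorem node (x : Gen) : x ∈ coxNodes Fi24.edges := by
  cases x <;> decide

/-- the sign map on generators -/
def sgn : Gen → Multiplicative (ZMod 2) := fun _ => Multiplicative.ofAdd 1

theorem sgn_rel : ∀ r ∈ coxRelators Fi24.edges ∪ {r | r ∈ Fi24.extra},
    FreeGroup.lift sgn r = 1 := by
  intro r hr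
  rcases hr with hr | hr
  · obtain ⟨x, _, y, _, rfl⟩ := hr
    have h2 : (Multiplicative.ofAdd (1 : ZMod 2)) * Multiplicative.ofAdd 1 = 1 := by decide
    simp only [map_pow, map_mul, FreeGroup.lift_apply_of, sgn, h2, one_pow]
  · have hr' : r ∈ Fi24.extra := hr
    simp only [Fi24.extra, List.mem_cons, List.not_mem_nil, or_false] at hr'
    rcases hr' with rfl | rfl
    · simp only [map_pow, map_mul, map_inv, FreeGroup.lift_apply_of, sgn, Fi24.l, Fi24.a, Fi24.b,
        Fi24.c, Fi24.d, Fi24.e, Fi24.f, Fi24.h]
      decide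
    · simp only [map_pow, map_mul, map_inv, FreeGroup.lift_apply_of, sgn, Fi24.l, Fi24.a, Fi24.b,
        Fi24.c, Fi24.d, Fi24.e, Fi24.f, Fi24.h, Fi24.g, Fi24.j, Fi24.k, Fi24.i]
      decide

/-- the sign homomorphism -/
noncomputable def sgnHom : Fi24 →* Multiplicative (ZMod 2) := PresentedGroup.toGroup sgn_rel

theorem sgnHom_surj : Function.Surjective sgnHom := by
  intro z
  have hz : z = 1 ∨ z = Multiplicative.ofAdd 1 := by revert z; decide
  rcases hz with rfl | rfl
  · exact ⟨1, map_one _⟩
  · exact ⟨PresentedGroup.of Gen.d, PresentedGroup.toGroup.of sgn_rel⟩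

theorem two_dvd_index : 2 ∣ (commutator Fi24).index := by
  have hle : commutator Fi24 ≤ sgnHom.ker := Abelianization.commutator_subset_ker sgnHom
  have hidx : sgnHom.ker.index = 2 := by
    rw [Subgroup.index_ker, MonoidHom.range_eq_top.mpr sgnHom_surj]
    simp [Nat.card_eq_fintype_card]
  rw [← hidx]
  exact Subgroup.index_dvd_of_le hle

/-- all generators have the same image in the abelianization -/
theorem ab_all (x : Gen) :
    (Abelianization.of (PresentedGroup.of x : Fi24)) = Abelianization.of (PresentedGroup.of Gen.d : Fi24) := by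
  have E : ∀ x y : Gen, Odd (coxLabel Fi24.edges x y) →
      (Abelianization.of (PresentedGroup.of x : Fi24)) = Abelianization.of (PresentedGroup.of y : Fi24) :=
    fun x y h => cox_ab_eq (Abelianization.of) (node x) (node y) h
  have hc := E Gen.c Gen.d (by decide)
  have hb := (E Gen.b Gen.c (by decide)).trans hc
  have ha := (E Gen.a Gen.b (by decide)).trans hb
  have hk := (E Gen.k Gen.a (by decide)).trans ha
  have hl := (E Gen.l Gen.k (by decide)).trans hk
  have he := E Gen.e Gen.d (by decide)
  have hf := (E Gen.f Gen.e (by decide)).trans he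
  have hg := (E Gen.g Gen.f (by decide)).trans hf
  have hj := (E Gen.j Gen.g (by decide)).trans hg
  have hh := E Gen.h Gen.d (by decide)
  have hi := (E Gen.i Gen.h (by decide)).trans hh
  cases x
  all_goals first | rfl | assumption

theorem top_eq_zpowers :
    (⊤ : Subgroup (Abelianization Fi24)) =
      Subgroup.zpowers (Abelianization.of (PresentedGroup.of Gen.d : Fi24)) := by
  symm
  rw [eq_top_iff]
  rintro z -
  obtain ⟨w, rfl⟩ := QuotientGroup.mk_surjective z
  have hw : w ∈ Subgroup.closure (Set.range (PresentedGroup.of : Gen → Fi24)) := by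
    rw [PresentedGroup.closure_range_of]; trivial
  induction hw using Subgroup.closure_induction with
  | mem y hy =>
    obtain ⟨x, rfl⟩ := hy
    have := ab_all x
    change Abelianization.of (PresentedGroup.of x : Fi24) ∈ _
    rw [this]
    exact Subgroup.mem_zpowers _
  | one => exact Subgroup.one_mem _
  | mul a b _ _ ha hb => exact Subgroup.mul_mem _ ha hb
  | inv a _ ha => exact Subgroup.inv_mem _ ha

/-- The commutator subgroup of the presented group Fi₂₄ has index 2 (the presented group is Fi₂₄′:2 with Fi₂₄′ its derived subgroup). -/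
theorem result : (commutator Cfsg.Spor.Fi24).index = 2 := by
  set u := (Abelianization.of (PresentedGroup.of Gen.d : Fi24)) with hu
  have hu2 : u ^ 2 = 1 := by
    rw [hu, ← map_pow, pow_two, cox_sq (node Gen.d), map_one]
  have hidx : (commutator Fi24).index = orderOf u := by
    rw [Subgroup.index]
    change Nat.card (Abelianization Fi24) = _
    rw [← Nat.card_zpowers, ← top_eq_zpowers]
    exact (Nat.card_congr (Subgroup.topEquiv (G := Abelianization Fi24)).toEquiv).symm
  have h1 : orderOf u ∣ 2 := orderOf_dvd_of_pow_eq_one hu2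
  have h2 : 2 ∣ orderOf u := hidx ▸ two_dvd_index
  rw [hidx]
  exact Nat.dvd_antisymm h1 h2

end Cfsg.Agent.S1691
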