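import Mathlib
import Cfsg.Statements.S1693
import Cfsg.Agent.S1699
import Cfsg.Agent.Lib.Helper9.TC2Word
import Cfsg.Agent.Lib.Helper9.TC2Fin
import Cfsg.Agent.Lib.Helper9.L37Mat

set_option autoImplicit false
set_option maxRecDepth 1000000
open Cfsg

namespace Cfsg.Agent.S1693

open Cfsg.Agent.Helper9 Cfsg.Agent.Helper9.TC2 Cfsg.Agent.Helper9.TCData Cfsg.Spor
  Cfsg.Agent.Helper9.L37Simple Cfsg.Agent.Helper9.L37Mat

/-- The presented O'Nan group. -/
abbrev G : Type := PresentedGroup (relSet ONC0.edges ONC0.extra)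

theorem finG : Finite G := S1699.hub.1

theorem simpleG : IsSimpleGroup G := S1699.result.1

theorem cardG : Nat.card G = 460815505920 := S1699.result.2

/-- The base points. -/
def pts : List ℕ := CoxCert.levPts ONC0.levs []

theorem hPS : ONC0.cert.PS pts = ⊥ := by
  have hfin : Finite (PresentedGroup (relSet ONC0.edges ONC0.extra)) := finG
  exact ONC0.cert.PS_base_eq_bot (ONC0.tab.k + ONC0.slp.length) ONC0.lidx ONC0.lpar
    ONC0.lgi (ONC0.cert.exists_elt ONC0.slp S1699.hslp ONC0.hSlp) ONC0.levs S1699.hok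
    (cardG.trans S1699.hprod.symm)

theorem hpts : ∀ b ∈ pts, b < ONC0.cert.D.n := by decide +kernel

/-- A word which fixes the base points is trivial. -/
theorem wordOne (x : FreeGroup ON.Gen)
    (hx : ∀ b ∈ pts, runT ONC0.cert.D (colWord ONC0.cert.cols x) b = b) :
    (PresentedGroup.mk (relSet ONC0.edges ONC0.extra) x : G) = 1 :=
  ONC0.cert.mk_eq_one_of_base pts hPS hpts x hx

/-- The subgroup generated by a, …, f. -/
abbrev H : Subgroup G :=
  coxH ONC0.edges ONC0.extra (Set.range fun b : Fin 6 => FreeGroup.of (ONC0.iota b))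

theorem cardH : Nat.card H = 3753792 := by
  have h1 : H.index = 122760 := ONC0.cert.index_eq
  have h2 := Subgroup.card_mul_index H
  rw [h1, cardG] at h2
  have h3 : Nat.card H * 122760 = 3753792 * 122760 := by rw [h2]
  exact Nat.eq_of_mul_eq_mul_right (by norm_num) h3

/-- The images of the generators. -/
def F : Fin 5 → FreeGroup ON.Gen :=
  ![ON.a * ON.b, ON.a * ON.c, ON.a * ON.d, ON.a * ON.e, ON.a * ON.f]

theorem lift_mk : FreeGroup.lift (fun i => (PresentedGroup.mk (relSet ONC0.edges ONC0.extra) (F i) : G)) =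
    (PresentedGroup.mk (relSet ONC0.edges ONC0.extra)).comp (FreeGroup.lift F) := by
  apply FreeGroup.ext_hom
  intro i
  rw [FreeGroup.lift_apply_of, MonoidHom.comp_apply, FreeGroup.lift_apply_of]

theorem key1 : ∀ r ∈ L37B0.extra, ∀ b ∈ pts,
    runT ONC0.cert.D (colWord ONC0.cert.cols (FreeGroup.lift F r)) b = b := by
  decide +kernel

theorem key2 : ∀ x ∈ coxNodes L37B0.edges, ∀ y ∈ coxNodes L37B0.edges, ∀ b ∈ pts,
    runT ONC0.cert.D (colWord ONC0.cert.cols
      (FreeGroup.lift F ((FreeGroup.of x * FreeGroup.of y) ^ coxLabel L37B0.edges x y))) b = b := by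
  decide +kernel

theorem rels_on : ∀ r ∈ relSet L37B0.edges L37B0.extra,
    FreeGroup.lift (fun i => (PresentedGroup.mk (relSet ONC0.edges ONC0.extra) (F i) : G)) r = 1 := by
  intro r hr
  rw [lift_mk, MonoidHom.comp_apply]
  rcases hr with hr | hr
  · obtain ⟨x, hx, y, hy, rfl⟩ := hr
    exact wordOne _ (key2 x hx y hy)
  · exact wordOne _ (key1 r hr)

/-- The homomorphism to the O'Nan group. -/
noncomputable def theta0 : PL37 →* G := PresentedGroup.toGroup rels_on

theorem theta0_of (i : Fin 5) : theta0 (PresentedGroup.of i) =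
    PresentedGroup.mk (relSet ONC0.edges ONC0.extra) (F i) :=
  PresentedGroup.toGroup.of rels_on

theorem ab_ne_one : (PresentedGroup.mk (relSet ONC0.edges ONC0.extra) (F 0) : G) ≠ 1 := by
  apply ONC0.cert.mk_ne_one_of_moves (F 0) (i := 1) (by decide)
  decide +kernel

theorem theta0_inj : Function.Injective theta0 := by
  haveI := l37_simple.1
  exact injective_of_simple theta0 (PresentedGroup.of 0) (by
    rw [theta0_of]
    exact ab_ne_one)

theorem F_mem (i : Fin 5) : (PresentedGroup.mk (relSet ONC0.edges ONC0.extra) (F i) : G) ∈ H := by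
  have hg : ∀ b : Fin 6, (PresentedGroup.mk (relSet ONC0.edges ONC0.extra)
      (FreeGroup.of (ONC0.iota b)) : G) ∈ H := by
    intro b
    exact Subgroup.mem_map_of_mem _ (Subgroup.subset_closure ⟨b, rfl⟩)
  fin_cases i
  · exact H.mul_mem (hg 0) (hg 1)
  · exact H.mul_mem (hg 0) (hg 2)
  · exact H.mul_mem (hg 0) (hg 3)
  · exact H.mul_mem (hg 0) (hg 4)
  · exact H.mul_mem (hg 0) (hg 5)

theorem theta0_mem (x : PL37) : theta0 x ∈ H := by
  have h : theta0.range ≤ H := by
    rw [MonoidHom.range_eq_map, ← PresentedGroup.closure_range_of, MonoidHom.map_closure,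
      Subgroup.closure_le]
    rintro _ ⟨_, ⟨i, rfl⟩, rfl⟩
    rw [theta0_of]
    exact F_mem i
  exact h ⟨x, rfl⟩

/-- The homomorphism to the subgroup. -/
noncomputable def theta : PL37 →* H := theta0.codRestrict H theta0_mem

theorem theta_inj : Function.Injective theta := by
  intro x y hxy
  apply theta0_inj
  exact congrArg Subtype.val hxy

theorem card_range : Nat.card theta.range = 1876896 := by
  rw [← l37_simple.2]
  exact (Nat.card_congr (MonoidHom.ofInjective theta_inj).toEquiv).symm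

theorem index_range : theta.range.index = 2 := by
  have h := Subgroup.card_mul_index theta.range
  rw [card_range, cardH] at h
  have h3 : 1876896 * theta.range.index = 1876896 * 2 := by rw [h]
  exact Nat.eq_of_mul_eq_mul_left (by norm_num) h3

theorem main : ∃ N : Subgroup H, N.Normal ∧ N.index = 2 ∧
    Nonempty (N ≃* Matrix.ProjectiveSpecialLinearGroup (Fin 3) (ZMod 7)) :=
  ⟨theta.range, Subgroup.normal_of_index_eq_two index_range, index_range,
    ⟨(MonoidHom.ofInjective theta_inj).symm.trans iso⟩⟩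

theorem hset : ({Cfsg.Spor.ON.a, Cfsg.Spor.ON.b, Cfsg.Spor.ON.c, Cfsg.Spor.ON.d,
    Cfsg.Spor.ON.e, Cfsg.Spor.ON.f} : Set (FreeGroup Cfsg.Spor.ON.Gen)) =
    Set.range fun b : Fin 6 => FreeGroup.of (ONC0.iota b) := by
  ext s
  constructor
  · rintro (rfl | rfl | rfl | rfl | rfl | rfl)
    · exact ⟨0, rfl⟩
    · exact ⟨1, rfl⟩
    · exact ⟨2, rfl⟩
    · exact ⟨3, rfl⟩
    · exact ⟨4, rfl⟩
    · exact ⟨5, rfl⟩
  · rintro ⟨b, rfl⟩
    fin_cases b
    · exact Or.inl rfl
    · exact Or.inr (Or.inl rfl)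
    · exact Or.inr (Or.inr (Or.inl rfl))
    · exact Or.inr (Or.inr (Or.inr (Or.inl rfl)))
    · exact Or.inr (Or.inr (Or.inr (Or.inr (Or.inl rfl))))
    · exact Or.inr (Or.inr (Or.inr (Or.inr (Or.inr rfl))))

/-- In the presented O'Nan group, the subgroup H generated by the images of a, …, f has a normal subgroup of index 2 isomorphic to PSL(3, 7). -/
theorem result : ∃ N : Subgroup (((Subgroup.closure ({Cfsg.Spor.ON.a, Cfsg.Spor.ON.b, Cfsg.Spor.ON.c, Cfsg.Spor.ON.d, Cfsg.Spor.ON.e, Cfsg.Spor.ON.f} : Set (FreeGroup Cfsg.Spor.ON.Gen))).map (PresentedGroup.mk (Cfsg.Spor.coxRelators Cfsg.Spor.ON.edges ∪ {r | r ∈ Cfsg.Spor.ON.extra})))), N.Normal ∧ N.index = 2 ∧ Nonempty (N ≃* Matrix.ProjectiveSpecialLinearGroup (Fin 3) (ZMod 7)) := by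
  rw [hset]
  exact main

end Cfsg.Agent.S1693
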