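import Mathlib
import Cfsg.Statements.S1698
import Cfsg.Agent.S1691
import Cfsg.Agent.Lib.Helper9.Fi24K
import Cfsg.Agent.Lib.Helper9.CommSimple
import Cfsg.Agent.Lib.Helper9.TC2Comm
import Cfsg.Agent.Lib.Helper9.TCData.X1690B.All
import Cfsg.Agent.Lib.Helper9.TCData.Fi24CX.Cert

set_option autoImplicit false
set_option maxRecDepth 1000000
open Cfsg

namespace Cfsg.Agent.S1698

open Cfsg.Agent.Helper9 Cfsg.Agent.Helper9.TC2 Cfsg.Agent.Helper9.TCData Cfsg.Spor
  Cfsg.Agent.Helper9.Fi24K

theorem hlab : ∀ i < C.D.n, X1690B.orb.lab i < 3 := by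
  intro i hi
  have := X1690B.hOL i hi
  rwa [Nat.blt_eq] at this

theorem hroot : ∀ l < 3, X1690B.orb.root l < C.D.n ∧ X1690B.orb.lab (X1690B.orb.root l) = l := by
  decide +kernel

theorem hsz : ∀ l < 3, cnt (fun i => Nat.beq (X1690B.orb.lab i) l) C.D.n =
    ([1, 275264, 31671] : List ℕ).getD l 0 := by
  decide +kernel

theorem hsub : ∀ T ∈ (Finset.range 3).powerset, 0 ∈ T →
    (∑ l ∈ T, ([1, 275264, 31671] : List ℕ).getD l 0) ∣ C.D.n → T = {0} ∨ T = Finset.range 3 := by
  decide +kernel

/-- The subgroup is maximal. -/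
theorem hmax : ∀ L : Subgroup G, K ≤ L → L = K ∨ L = ⊤ :=
  C.maximal X1690B.orb X1690B.hO1 X1690B.hO2 3 0 [1, 275264, 31671] hlab hroot hsz
    (by decide +kernel) (by decide) (by decide) hsub

theorem hker : C.phi.ker = ⊥ := C.ker_eq_bot hcore

theorem hxw : colWord C.cols Fi24CX.xelt = X1690B.xw := by decide +kernel

theorem hx : ∀ i < C.D.n, (runT C.D (colWord C.cols Fi24CX.xelt))^[29] i = i := by
  rw [hxw]
  exact iterate_of_chkXP Cfsg.Agent.S1690.permOK (by decide) X1690B.hXP

/-- The element of order 29. -/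
def x : G := mkG Fi24CX.xelt

theorem hx29 : x ^ 29 = 1 := C.mk_pow_eq_one hker Fi24CX.xelt 29 hx

/-- The commutator subgroup. -/
abbrev D : Subgroup G := commutator G

theorem hidx : D.index = 2 := Cfsg.Agent.S1691.result

theorem x_mem_D : x ∈ D := by
  have := finG
  have : Fact (Nat.Prime 29) := ⟨by norm_num⟩
  apply mem_of_not_dvd_index 29 x 1 (by rw [pow_one]; exact hx29) D
  rw [hidx]
  norm_num

theorem hcx : Finite (PresentedGroup (relSet Fi24.edges (Fi24.extra ++ [Fi24CX.xelt]))) ∧
    Nat.card (PresentedGroup (relSet Fi24.edges (Fi24.extra ++ [Fi24CX.xelt]))) = 2 :=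
  Fi24CX.cert.card_eq_of_empty

/-- The normal closure of the element is the commutator subgroup. -/
theorem closure_eq : Subgroup.normalClosure ({x} : Set G) = D := by
  have := finG
  have h1 : (Subgroup.normalClosure ({x} : Set G)).index ≤ 2 :=
    index_normalClosure_le Fi24CX.xelt 2 hcx.1 (le_of_eq hcx.2)
  have h2 : Subgroup.normalClosure ({x} : Set G) ≤ D :=
    Subgroup.normalClosure_le_normal (Set.singleton_subset_iff.2 x_mem_D)
  have h3 := Subgroup.relIndex_mul_index h2
  rw [hidx] at h3
  have h4 : (Subgroup.normalClosure ({x} : Set G)).index ≠ 0 := Subgroup.index_ne_zero_of_finite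
  have h5 : (Subgroup.normalClosure ({x} : Set G)).relIndex D = 1 := by
    have h6 : (Subgroup.normalClosure ({x} : Set G)).relIndex D ≠ 0 := by
      intro h0
      rw [h0, zero_mul] at h3
      exact h4 h3.symm
    have h7 : (Subgroup.normalClosure ({x} : Set G)).relIndex D * 2 ≤ 1 * 2 := by
      rw [h3]
      exact h1
    have h8 := Nat.le_of_mul_le_mul_right h7 (by norm_num)
    omega
  exact le_antisymm h2 (Subgroup.relIndex_eq_one.1 h5)

/-- Every nontrivial normal subgroup contains the commutator subgroup. -/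
theorem hmin : ∀ M : Subgroup G, M.Normal → M ≠ ⊥ → D ≤ M := by
  intro M hM hne
  have := finG
  have : Fact (Nat.Prime 29) := ⟨by norm_num⟩
  have hk : 29 ^ 1 ∣ K.index := by
    have h1 : K.index = 306936 := C.index_eq
    rw [h1]
    norm_num
  have hk' : ¬ 29 ^ (1 + 1) ∣ Nat.card G := by
    rw [cardG]
    norm_num
  have h1 := SimpleCrit.not_dvd_index_of_normal K hmax hcore 29 1 hk hk' M hM hne
  have h2 : x ∈ M := mem_of_not_dvd_index 29 x 1 (by rw [pow_one]; exact hx29) M h1
  rw [← closure_eq]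
  exact Subgroup.normalClosure_le_normal (Set.singleton_subset_iff.2 h2)

theorem cardD : Nat.card D = 1255205709190661721292800 := by
  have h := Subgroup.card_mul_index D
  rw [hidx, cardG] at h
  have h3 : Nat.card D * 2 = 1255205709190661721292800 * 2 := by rw [h]
  exact Nat.eq_of_mul_eq_mul_right (by norm_num) h3

theorem hsq : ∀ m : ℕ, m * m ≠ Nat.card D := by
  intro m hm
  rw [cardD] at hm
  have h11 : (11 : ℕ) ∣ m * m := by
    rw [hm]
    norm_num
  have h1 : (11 : ℕ) ∣ m := by
    rcases (Nat.Prime.dvd_mul (by norm_num : Nat.Prime 11)).1 h11 with h | h <;> exact h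
  obtain ⟨t, rfl⟩ := h1
  have h121 : (121 : ℕ) ∣ 1255205709190661721292800 := ⟨t * t, by rw [← hm]; ring⟩
  norm_num at h121

theorem hnt : Nontrivial D := by
  have := finG
  rw [← Finite.one_lt_card_iff_nontrivial, cardD]
  norm_num

/-- The commutator subgroup of the presented Fi₂₄ (our definition of Fi₂₄′) is simple of the expected order (that is, it is a simple group of the order of the Fischer group Fi₂₄′). -/
theorem result : Cfsg.IsFi24' Cfsg.Spor.Fi24' := by
  have := finG
  exact ⟨CommSimple.isSimpleGroup_commutator hidx hmin hsq hnt, cardD⟩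

end Cfsg.Agent.S1698
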