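import Mathlib
import Cfsg.Statements.S1717

set_option autoImplicit false
open Cfsg

namespace Cfsg.Agent.S1717

open Matrix

/-- The group SL(5, 2). -/
abbrev L5 := Matrix.SpecialLinearGroup (Fin 5) (ZMod 2)

/-- 5 × 5 matrices over the field with two elements. -/
abbrev M5 := Matrix (Fin 5) (Fin 5) (ZMod 2)

/-- A matrix supported on row `a` and with column `a` zero. -/
def Nil (a : Fin 5) (N : M5) : Prop := (∀ i j, i ≠ a → N i j = 0) ∧ (∀ i, N i a = 0)

theorem Nil.mul_eq_zero {a : Fin 5} {N N' : M5} (h : Nil a N) (h' : Nil a N') : N * N' = 0 := by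
  ext i j
  rw [Matrix.mul_apply]
  apply Finset.sum_eq_zero
  intro k _
  by_cases hk : k = a
  · subst hk
    rw [h.2 i, zero_mul]
  · rw [h'.1 k j hk, mul_zero]

theorem Nil.add {a : Fin 5} {N N' : M5} (h : Nil a N) (h' : Nil a N') : Nil a (N + N') := by
  refine ⟨fun i j hi => ?_, fun i => ?_⟩
  · rw [Matrix.add_apply, h.1 i j hi, h'.1 i j hi, add_zero]
  · rw [Matrix.add_apply, h.2 i, h'.2 i, add_zero]

theorem Nil.conj {a : Fin 5} {N : M5} (h : Nil a N) (x y : M5) (hx : ∀ i, i ≠ a → x i a = 0)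
    (hy : ∀ i, i ≠ a → y i a = 0) : Nil a (x * N * y) := by
  have h1 : Nil a (x * N) := by
    refine ⟨fun i j hi => ?_, fun i => ?_⟩
    · rw [Matrix.mul_apply]
      apply Finset.sum_eq_zero
      intro k _
      by_cases hk : k = a
      · subst hk
        rw [hx i hi, zero_mul]
      · rw [h.1 k j hk, mul_zero]
    · rw [Matrix.mul_apply]
      apply Finset.sum_eq_zero
      intro k _
      rw [h.2 k, mul_zero]
  refine ⟨fun i j hi => ?_, fun i => ?_⟩
  · rw [Matrix.mul_apply]
    apply Finset.sum_eq_zero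
    intro k _
    rw [h1.1 i k hi, zero_mul]
  · rw [Matrix.mul_apply]
    apply Finset.sum_eq_zero
    intro k _
    by_cases hk : k = a
    · subst hk
      rw [h1.2 i, zero_mul]
    · rw [hy k hk, mul_zero]

theorem Nil.zero (a : Fin 5) : Nil a 0 := ⟨fun _ _ _ => rfl, fun _ => rfl⟩

theorem Nil.single {a b : Fin 5} (hab : a ≠ b) : Nil a (Matrix.single a b (1 : ZMod 2)) := by
  refine ⟨fun i j hi => ?_, fun i => ?_⟩
  · exact Matrix.single_apply_of_row_ne (Ne.symm hi) b j _
  · exact Matrix.single_apply_of_col_ne a i (Ne.symm hab) _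

theorem add_self_M5 (N : M5) : N + N = 0 := by
  ext i j
  exact CharTwo.add_self_eq_zero _

/-- A family of matrices closed under sums, any two of which have product zero. -/
structure NilFam (Q : M5 → Prop) : Prop where
  zero : Q 0
  add : ∀ N N', Q N → Q N' → Q (N + N')
  mul : ∀ N N', Q N → Q N' → N * N' = 0

theorem NilFam.one_add_mul {Q : M5 → Prop} (hQ : NilFam Q) {N N' : M5} (h : Q N) (h' : Q N') :
    (1 + N) * (1 + N') = 1 + (N + N') := by
  rw [add_mul, mul_add, mul_add, one_mul, mul_one, one_mul, hQ.mul N N' h h', add_zero, add_assoc,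
    add_comm N' N]

theorem NilFam.coe_mul_sub_one {Q : M5 → Prop} (hQ : NilFam Q) {g h : L5} (hg : Q ((g : M5) - 1))
    (hh : Q ((h : M5) - 1)) :
    ((g * h : L5) : M5) - 1 = ((g : M5) - 1) + ((h : M5) - 1) := by
  have h1 := hQ.one_add_mul hg hh
  rw [add_sub_cancel, add_sub_cancel] at h1
  rw [Matrix.SpecialLinearGroup.coe_mul, h1, add_sub_cancel_left]

theorem NilFam.mul_self {Q : M5 → Prop} (hQ : NilFam Q) {g : L5} (hg : Q ((g : M5) - 1)) :
    g * g = 1 := by
  apply Subtype.ext
  have h1 := hQ.coe_mul_sub_one hg hg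
  rw [add_self_M5, sub_eq_zero] at h1
  rw [h1, Matrix.SpecialLinearGroup.coe_one]

/-- The elements `1 + N` of `SL(5, 2)` with `N` in the family. -/
def NilFam.grp {Q : M5 → Prop} (hQ : NilFam Q) : Subgroup L5 where
  carrier := {g | Q ((g : M5) - 1)}
  mul_mem' := by
    intro g h hg hh
    show Q (((g * h : L5) : M5) - 1)
    rw [hQ.coe_mul_sub_one hg hh]
    exact hQ.add _ _ hg hh
  one_mem' := by
    show Q (((1 : L5) : M5) - 1)
    rw [Matrix.SpecialLinearGroup.coe_one, sub_self]
    exact hQ.zero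
  inv_mem' := by
    intro g hg
    have h3 : g⁻¹ = g := inv_eq_of_mul_eq_one_left (hQ.mul_self hg)
    rw [h3]
    exact hg

theorem NilFam.mem_grp {Q : M5 → Prop} (hQ : NilFam Q) {g : L5} :
    g ∈ hQ.grp ↔ Q ((g : M5) - 1) := Iff.rfl

theorem NilFam.isPGroup {Q : M5 → Prop} (hQ : NilFam Q) : IsPGroup 2 hQ.grp := by
  intro g
  refine ⟨1, ?_⟩
  apply Subtype.ext
  rw [pow_one, pow_two]
  exact hQ.mul_self g.2

theorem coe_conj_sub_one (x g : L5) :
    ((x * g * x⁻¹ : L5) : M5) - 1 = (x : M5) * ((g : M5) - 1) * ((x⁻¹ : L5) : M5) := by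
  have e3 : (x : M5) * ((x⁻¹ : L5) : M5) = 1 := by
    rw [← Matrix.SpecialLinearGroup.coe_mul, mul_inv_cancel, Matrix.SpecialLinearGroup.coe_one]
  rw [Matrix.SpecialLinearGroup.coe_mul, Matrix.SpecialLinearGroup.coe_mul, mul_sub, sub_mul,
    mul_one, e3]

theorem nilFam_row (a : Fin 5) : NilFam (Nil a) :=
  ⟨Nil.zero a, fun _ _ h h' => h.add h', fun _ _ h h' => h.mul_eq_zero h'⟩

theorem nilFam_col (a : Fin 5) : NilFam (fun N => Nil a Nᵀ) := by
  refine ⟨?_, fun N N' h h' => ?_, fun N N' h h' => ?_⟩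
  · show Nil a (0 : M5)ᵀ
    rw [Matrix.transpose_zero]
    exact Nil.zero a
  · show Nil a (N + N')ᵀ
    rw [Matrix.transpose_add]
    exact Nil.add h h'
  · have h1 : (N * N')ᵀ = 0 := by
      rw [Matrix.transpose_mul]
      exact Nil.mul_eq_zero h' h
    rw [← Matrix.transpose_transpose (N * N'), h1, Matrix.transpose_zero]

/-- Matrices differing from the identity in row `a` only. -/
def rowGrp (a : Fin 5) : Subgroup L5 := (nilFam_row a).grp

/-- Matrices differing from the identity in column `a` only. -/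
def colGrp (a : Fin 5) : Subgroup L5 := (nilFam_col a).grp

theorem conj_mem_rowGrp {a : Fin 5} {g : L5} (hg : g ∈ rowGrp a) (x : L5)
    (hx : ∀ i, i ≠ a → (x : M5) i a = 0) (hy : ∀ i, i ≠ a → ((x⁻¹ : L5) : M5) i a = 0) :
    x * g * x⁻¹ ∈ rowGrp a := by
  have hg' : Nil a ((g : M5) - 1) := hg
  show Nil a (((x * g * x⁻¹ : L5) : M5) - 1)
  rw [coe_conj_sub_one]
  exact hg'.conj _ _ hx hy

theorem conj_mem_colGrp {a : Fin 5} {g : L5} (hg : g ∈ colGrp a) (x : L5)
    (hx : ∀ i, i ≠ a → (x : M5) a i = 0) (hy : ∀ i, i ≠ a → ((x⁻¹ : L5) : M5) a i = 0) :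
    x * g * x⁻¹ ∈ colGrp a := by
  have hg' : Nil a ((g : M5) - 1)ᵀ := hg
  show Nil a (((x * g * x⁻¹ : L5) : M5) - 1)ᵀ
  rw [coe_conj_sub_one, Matrix.transpose_mul, Matrix.transpose_mul, ← mul_assoc]
  exact hg'.conj _ _ hy hx

/-- A matrix commuting with an elementary transvection. -/
theorem comm_transvection (a b : Fin 5) (M : M5)
    (h : Matrix.transvection a b 1 * M = M * Matrix.transvection a b 1) :
    (∀ i, i ≠ a → M i a = 0) ∧ (∀ j, j ≠ b → M b j = 0) ∧ M a a = M b b := by
  rw [Matrix.transvection, add_mul, mul_add, one_mul, mul_one] at h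
  have h3 := add_left_cancel h
  refine ⟨?_, ?_, ?_⟩
  · intro i hi
    have := congr_fun (congr_fun h3 i) b
    simp only [Matrix.single_mul_apply_of_ne _ _ _ _ _ hi] at this
    simpa using this.symm
  · intro j hj
    have := congr_fun (congr_fun h3 a) j
    simpa [hj] using this
  · have := congr_fun (congr_fun h3 a) b
    simpa using this.symm

/-- The elementary transvections in `SL(5, 2)`. -/
def tv (a b : Fin 5) (hab : a ≠ b) : L5 :=
  ⟨Matrix.transvection a b 1, Matrix.det_transvection_of_ne a b hab 1⟩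

theorem coe_tv_sub_one (a b : Fin 5) (hab : a ≠ b) :
    ((tv a b hab : L5) : M5) - 1 = Matrix.single a b 1 := by
  show Matrix.transvection a b 1 - 1 = Matrix.single a b 1
  rw [Matrix.transvection, add_sub_cancel_left]

theorem tv_mem_rowGrp (a b : Fin 5) (hab : a ≠ b) : tv a b hab ∈ rowGrp a := by
  show Nil a (((tv a b hab : L5) : M5) - 1)
  rw [coe_tv_sub_one]
  exact Nil.single hab

theorem tv_mem_colGrp (a b : Fin 5) (hab : a ≠ b) : tv a b hab ∈ colGrp b := by
  show Nil b (((tv a b hab : L5) : M5) - 1)ᵀ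
  rw [coe_tv_sub_one, Matrix.transpose_single]
  exact Nil.single (Ne.symm hab)

theorem zmod2_cases (x : ZMod 2) : x = 0 ∨ x = 1 := by
  revert x
  decide

/-- A matrix of determinant 1 commuting with seven elementary transvections is the identity or the
transvection at `(0, 1)`. -/
theorem eq_of_comm (M : M5) (hdet : M.det = 1)
    (h01 : Matrix.transvection 0 1 1 * M = M * Matrix.transvection 0 1 1)
    (h02 : Matrix.transvection 0 2 1 * M = M * Matrix.transvection 0 2 1)
    (h03 : Matrix.transvection 0 3 1 * M = M * Matrix.transvection 0 3 1)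
    (h04 : Matrix.transvection 0 4 1 * M = M * Matrix.transvection 0 4 1)
    (h21 : Matrix.transvection 2 1 1 * M = M * Matrix.transvection 2 1 1)
    (h31 : Matrix.transvection 3 1 1 * M = M * Matrix.transvection 3 1 1)
    (h41 : Matrix.transvection 4 1 1 * M = M * Matrix.transvection 4 1 1) :
    M = 1 ∨ M = Matrix.transvection 0 1 1 := by
  obtain ⟨a1, a2, a3⟩ := comm_transvection 0 1 M h01
  obtain ⟨b1, b2, b3⟩ := comm_transvection 0 2 M h02
  obtain ⟨c1, c2, c3⟩ := comm_transvection 0 3 M h03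
  obtain ⟨d1, d2, d3⟩ := comm_transvection 0 4 M h04
  obtain ⟨e1, e2, e3⟩ := comm_transvection 2 1 M h21
  obtain ⟨f1, f2, f3⟩ := comm_transvection 3 1 M h31
  obtain ⟨g1, g2, g3⟩ := comm_transvection 4 1 M h41
  have hc : M 0 0 = 1 := by
    rcases zmod2_cases (M 0 0) with h0 | h0
    · exfalso
      have : M.det = 0 := by
        apply Matrix.det_eq_zero_of_row_eq_zero 1
        intro j
        by_cases hj : j = 1
        · subst hj
          rw [← a3, h0]
        · exact a2 j hj
      rw [this] at hdet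
      exact zero_ne_one hdet
    · exact h0
  have hdiag : ∀ i, M i i = 1 := by
    intro i
    fin_cases i
    · exact hc
    · show M 1 1 = 1
      rw [← a3, hc]
    · show M 2 2 = 1
      rw [← b3, hc]
    · show M 3 3 = 1
      rw [← c3, hc]
    · show M 4 4 = 1
      rw [← d3, hc]
  have hrow : ∀ i j, i ≠ 0 → i ≠ j → M i j = 0 := by
    intro i j hi hij
    fin_cases i
    · exact absurd rfl hi
    · exact a2 j (Ne.symm hij)
    · exact b2 j (Ne.symm hij)
    · exact c2 j (Ne.symm hij)
    · exact d2 j (Ne.symm hij)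
  have hcol : ∀ j, j ≠ 0 → j ≠ 1 → M 0 j = 0 := by
    intro j hj0 hj1
    fin_cases j
    · exact absurd rfl hj0
    · exact absurd rfl hj1
    · exact e1 0 (by decide)
    · exact f1 0 (by decide)
    · exact g1 0 (by decide)
  rcases zmod2_cases (M 0 1) with hx | hx
  · left
    ext i j
    by_cases hij : i = j
    · subst hij
      rw [hdiag, Matrix.one_apply_eq]
    · rw [Matrix.one_apply_ne hij]
      by_cases hi : i = 0
      · subst hi
        by_cases hj : j = 1
        · subst hj
          exact hx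
        · exact hcol j (Ne.symm hij) hj
      · exact hrow i j hi hij
  · right
    ext i j
    rw [Matrix.transvection, Matrix.add_apply]
    by_cases hij : i = j
    · subst hij
      rw [hdiag, Matrix.one_apply_eq, Matrix.single_apply_of_ne, add_zero]
      rintro ⟨h1, h2⟩
      rw [← h1] at h2
      exact absurd h2 (by decide)
    · rw [Matrix.one_apply_ne hij, zero_add]
      by_cases hi : i = 0
      · subst hi
        by_cases hj : j = 1
        · subst hj
          rw [hx, Matrix.single_apply_same]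
        · rw [hcol j (Ne.symm hij) hj, Matrix.single_apply_of_col_ne _ _ (Ne.symm hj)]
      · rw [hrow i j hi hij, Matrix.single_apply_of_row_ne (Ne.symm hi)]

theorem NilFam.comm {Q : M5 → Prop} (hQ : NilFam Q) {g h : L5} (hg : g ∈ hQ.grp) (hh : h ∈ hQ.grp) :
    g * h = h * g := by
  apply Subtype.ext
  have h1 := hQ.coe_mul_sub_one hg hh
  have h2 := hQ.coe_mul_sub_one hh hg
  rw [add_comm] at h2
  exact sub_left_injective (h1.trans h2.symm)

/-- A Sylow subgroup of a subgroup containing the normaliser of its image is a Sylow subgroup of the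
whole group. -/
theorem not_dvd_index_of_normalizer_le {G : Type*} [Group G] [Finite G] {p : ℕ} [Fact p.Prime]
    (H : Subgroup G) (P : Sylow p H)
    (hN : Subgroup.normalizer (((P : Subgroup H).map H.subtype : Subgroup G) : Set G) ≤ H) :
    ¬ p ∣ ((P : Subgroup H).map H.subtype).index := by
  set PG : Subgroup G := (P : Subgroup H).map H.subtype with hPG
  have hPGp : IsPGroup p PG := P.isPGroup'.map _
  obtain ⟨Q, hQ⟩ := hPGp.exists_le_sylow
  have heqQ : PG = Q := by
    by_contra hne
    have hlt : PG < (Q : Subgroup G) := lt_of_le_of_ne hQ hne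
    have : Group.IsNilpotent ↥(Q : Subgroup G) := Q.isPGroup'.isNilpotent
    have hnc := Group.normalizerCondition_of_isNilpotent (G := ↥(Q : Subgroup G))
    have hlt' : PG.subgroupOf Q < ⊤ := by
      rw [lt_top_iff_ne_top, Ne, Subgroup.subgroupOf_eq_top]
      exact not_le_of_gt hlt
    have h2 := hnc _ hlt'
    obtain ⟨g, hgN, hgP⟩ := SetLike.exists_of_lt h2
    have hgNG : (g : G) ∈ Subgroup.normalizer (PG : Set G) := by
      rw [← Subgroup.subgroupOf_normalizer_eq hQ] at hgN
      exact Subgroup.mem_subgroupOf.mp hgN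
    have hgH : (g : G) ∈ H := hN hgNG
    set P2 := PG ⊔ Subgroup.zpowers (g : G) with hP2
    have hP2Q : P2 ≤ Q := sup_le hQ (Subgroup.zpowers_le.mpr g.2)
    have hP2p : IsPGroup p ↥P2 := Q.isPGroup'.to_le hP2Q
    have hle : (P : Subgroup ↥H) ≤ P2.subgroupOf H := by
      intro y hy
      exact Subgroup.mem_subgroupOf.mpr
        ((le_sup_left : PG ≤ P2) (Subgroup.mem_map_of_mem _ hy))
    have heq : P2.subgroupOf H = (P : Subgroup ↥H) := P.is_maximal' hP2p.comap_subtype hle
    apply hgP
    rw [Subgroup.mem_subgroupOf]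
    have h3 : (⟨(g : G), hgH⟩ : ↥H) ∈ P2.subgroupOf H :=
      Subgroup.mem_subgroupOf.mpr
        ((le_sup_right : Subgroup.zpowers (g : G) ≤ P2) (Subgroup.mem_zpowers _))
    rw [heq] at h3
    exact ⟨_, h3, rfl⟩
  rw [heqQ]
  exact Q.not_dvd_index

theorem aux {G : Type*} [Group G] [Finite G] (s : L5) (hs : (s : M5) = Matrix.transvection 0 1 1)
    (z : G) (hz : orderOf z = 2) (Cz : Subgroup G) (hCz : Cz = Subgroup.centralizer ({z} : Set G))
    (Cs : Subgroup L5) (hCs : Cs = Subgroup.centralizer ({s} : Set L5)) (e : Cz ≃* Cs)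
    (T : Sylow 2 Cz) : ¬ 2 ∣ ((T : Subgroup Cz).map Cz.subtype).index := by
  have : Fact (Nat.Prime 2) := ⟨Nat.prime_two⟩
  have hs' : s = tv 0 1 (by decide) := Subtype.ext hs
  -- entries of the elements of `Cs`
  have hent : ∀ x : L5, x ∈ Cs → (∀ i : Fin 5, i ≠ 0 → (x : M5) i 0 = 0) ∧
      (∀ j : Fin 5, j ≠ 1 → (x : M5) 1 j = 0) := by
    intro x hx
    rw [hCs] at hx
    have h1 : s * x = x * s := hx s rfl
    have h2 : (s : M5) * (x : M5) = (x : M5) * (s : M5) := by
      rw [← Matrix.SpecialLinearGroup.coe_mul, ← Matrix.SpecialLinearGroup.coe_mul, h1]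
    rw [hs] at h2
    obtain ⟨a1, a2, -⟩ := comm_transvection 0 1 _ h2
    exact ⟨a1, a2⟩
  -- the two normal subgroups
  have hrowle : rowGrp 0 ≤ Cs := by
    intro g hg
    rw [hCs, Subgroup.mem_centralizer_iff]
    intro h hh
    rw [Set.mem_singleton_iff] at hh
    subst hh
    rw [hs']
    exact (nilFam_row 0).comm (tv_mem_rowGrp 0 1 (by decide)) hg
  have hcolle : colGrp 1 ≤ Cs := by
    intro g hg
    rw [hCs, Subgroup.mem_centralizer_iff]
    intro h hh
    rw [Set.mem_singleton_iff] at hh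
    subst hh
    rw [hs']
    exact (nilFam_col 1).comm (tv_mem_colGrp 0 1 (by decide)) hg
  have hAn : ((rowGrp 0).subgroupOf Cs).Normal := by
    refine ⟨fun n hn x => ?_⟩
    rw [Subgroup.mem_subgroupOf] at hn ⊢
    rw [Subgroup.coe_mul, Subgroup.coe_mul, Subgroup.coe_inv]
    refine conj_mem_rowGrp hn _ (hent _ x.2).1 ?_
    have := (hent _ (x⁻¹).2).1
    rwa [Subgroup.coe_inv] at this
  have hBn : ((colGrp 1).subgroupOf Cs).Normal := by
    refine ⟨fun n hn x => ?_⟩
    rw [Subgroup.mem_subgroupOf] at hn ⊢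
    rw [Subgroup.coe_mul, Subgroup.coe_mul, Subgroup.coe_inv]
    refine conj_mem_colGrp hn _ (hent _ x.2).2 ?_
    have := (hent _ (x⁻¹).2).2
    rwa [Subgroup.coe_inv] at this
  have hAp : IsPGroup 2 ((rowGrp 0).subgroupOf Cs) := (nilFam_row 0).isPGroup.comap_subtype
  have hBp : IsPGroup 2 ((colGrp 1).subgroupOf Cs) := (nilFam_col 1).isPGroup.comap_subtype
  have hAT : ((rowGrp 0).subgroupOf Cs).comap e.toMonoidHom ≤ T :=
    (hAp.comap_of_injective e.toMonoidHom e.injective).le_sylow_of_normal T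
  have hBT : ((colGrp 1).subgroupOf Cs).comap e.toMonoidHom ≤ T :=
    (hBp.comap_of_injective e.toMonoidHom e.injective).le_sylow_of_normal T
  -- central elements of `T`
  have hcen : ∀ g : Cz, g ∈ T → (∀ t ∈ T, t * g = g * t) →
      ((e g : Cs) : L5) = 1 ∨ ((e g : Cs) : L5) = s := by
    intro g hg hcomm
    have key : ∀ q : L5, (hq : q ∈ Cs) → e.symm ⟨q, hq⟩ ∈ T →
        (q : M5) * (((e g : Cs) : L5) : M5) = (((e g : Cs) : L5) : M5) * (q : M5) := by
      intro q hq hqT
      have h1 := hcomm _ hqT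
      have h2 : (⟨q, hq⟩ : Cs) * e g = e g * ⟨q, hq⟩ := by
        have := congrArg e h1
        rwa [map_mul, map_mul, MulEquiv.apply_symm_apply] at this
      have h3 : q * ((e g : Cs) : L5) = ((e g : Cs) : L5) * q := congrArg Subtype.val h2
      rw [← Matrix.SpecialLinearGroup.coe_mul, ← Matrix.SpecialLinearGroup.coe_mul, h3]
    have rowT : ∀ b : Fin 5, (hb : (0 : Fin 5) ≠ b) →
        (tv 0 b hb : M5) * (((e g : Cs) : L5) : M5) = (((e g : Cs) : L5) : M5) * (tv 0 b hb : M5) := by
      intro b hb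
      refine key _ (hrowle (tv_mem_rowGrp 0 b hb)) (hAT ?_)
      rw [Subgroup.mem_comap]
      show e (e.symm _) ∈ _
      rw [MulEquiv.apply_symm_apply, Subgroup.mem_subgroupOf]
      exact tv_mem_rowGrp 0 b hb
    have colT : ∀ a : Fin 5, (ha : a ≠ (1 : Fin 5)) →
        (tv a 1 ha : M5) * (((e g : Cs) : L5) : M5) = (((e g : Cs) : L5) : M5) * (tv a 1 ha : M5) := by
      intro a ha
      refine key _ (hcolle (tv_mem_colGrp a 1 ha)) (hBT ?_)
      rw [Subgroup.mem_comap]
      show e (e.symm _) ∈ _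
      rw [MulEquiv.apply_symm_apply, Subgroup.mem_subgroupOf]
      exact tv_mem_colGrp a 1 ha
    have := eq_of_comm (((e g : Cs) : L5) : M5) ((e g : Cs) : L5).2
      (rowT 1 (by decide)) (rowT 2 (by decide)) (rowT 3 (by decide)) (rowT 4 (by decide))
      (colT 2 (by decide)) (colT 3 (by decide)) (colT 4 (by decide))
    rcases this with h | h
    · left
      exact Subtype.ext h
    · right
      exact Subtype.ext (h.trans hs.symm)
  -- the involution lies in `T` and is mapped to `s`
  have hzC : z ∈ Cz := by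
    rw [hCz, Subgroup.mem_centralizer_iff]
    intro h hh
    rw [Set.mem_singleton_iff] at hh
    rw [hh]
  set z' : Cz := ⟨z, hzC⟩ with hz'
  have hz'c : ∀ t : Cz, t * z' = z' * t := by
    intro t
    apply Subtype.ext
    have h : ∀ y : G, y ∈ Cz → z * y = y * z := by
      intro y hy
      rw [hCz] at hy
      exact (Subgroup.mem_centralizer_iff.mp hy) z rfl
    exact (h _ t.2).symm
  have hz'T : z' ∈ T := by
    have : (Subgroup.zpowers z').Normal := by
      refine ⟨fun n hn x => ?_⟩
      obtain ⟨k, rfl⟩ := Subgroup.mem_zpowers_iff.mp hn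
      have : x * z' ^ k * x⁻¹ = z' ^ k := by
        have hc : Commute x z' := hz'c x
        rw [(hc.zpow_right k).eq, mul_inv_cancel_right]
      rw [this]
      exact Subgroup.zpow_mem_zpowers _ _
    have hp : IsPGroup 2 (Subgroup.zpowers z') := by
      apply IsPGroup.of_card (n := 1)
      rw [Nat.card_zpowers, pow_one, ← hz]
      exact Subgroup.orderOf_mk z hzC
    exact hp.le_sylow_of_normal T (Subgroup.mem_zpowers z')
  have hz1 : z ≠ 1 := by
    intro h
    rw [h, orderOf_one] at hz
    exact absurd hz (by decide)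
  have hez : ((e z' : Cs) : L5) = s := by
    rcases hcen z' hz'T (fun t _ => hz'c t) with h | h
    · exfalso
      have : e z' = 1 := Subtype.ext h
      rw [MulEquiv.map_eq_one_iff] at this
      exact hz1 (congrArg Subtype.val this)
    · exact h
  -- the normaliser of the image of `T` centralises `z`
  apply not_dvd_index_of_normalizer_le Cz T
  intro x hx
  rw [Subgroup.mem_normalizer_iff] at hx
  have hzT' : z ∈ (T : Subgroup Cz).map Cz.subtype := ⟨z', hz'T, rfl⟩
  obtain ⟨g, hgT, hgx⟩ := (hx z).mp hzT'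
  have hgc : ∀ t ∈ T, t * g = g * t := by
    intro t ht
    apply Subtype.ext
    rw [Subgroup.coe_mul, Subgroup.coe_mul]
    have hgx' : (g : G) = x * z * x⁻¹ := hgx
    rw [hgx']
    have h1 : x⁻¹ * (t : G) * x ∈ (T : Subgroup Cz).map Cz.subtype := by
      have h2 : (t : G) ∈ (T : Subgroup Cz).map Cz.subtype := ⟨t, ht, rfl⟩
      have h3 := (hx (x⁻¹ * (t : G) * x)).mpr
      apply h3
      have : x * (x⁻¹ * (t : G) * x) * x⁻¹ = t := by group
      rw [this]
      exact h2
    obtain ⟨u, -, hu⟩ := h1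
    have h4 := hz'c u
    have h5 : (u : G) * z = z * u := congrArg Subtype.val h4
    have hu' : (u : G) = x⁻¹ * (t : G) * x := hu
    rw [hu'] at h5
    calc (t : G) * (x * z * x⁻¹) = x * (x⁻¹ * (t : G) * x * z) * x⁻¹ := by group
      _ = x * (z * (x⁻¹ * (t : G) * x)) * x⁻¹ := by rw [h5]
      _ = x * z * x⁻¹ * t := by group
  have hgz : g = z' := by
    rcases hcen g hgT hgc with h | h
    · exfalso
      have : e g = 1 := Subtype.ext h
      rw [MulEquiv.map_eq_one_iff] at this
      have h6 : (g : G) = 1 := congrArg Subtype.val this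
      have hgx' : (g : G) = x * z * x⁻¹ := hgx
      rw [hgx'] at h6
      apply hz1
      have : z = x⁻¹ * (x * z * x⁻¹) * x := by group
      rw [this, h6]
      group
    · apply e.injective
      apply Subtype.ext
      rw [h, hez]
  rw [hCz, Subgroup.mem_centralizer_iff]
  intro h hh
  rw [Set.mem_singleton_iff] at hh
  subst hh
  have hgx' : (g : G) = x * h * x⁻¹ := hgx
  rw [hgz] at hgx'
  have h7 : h = x * h * x⁻¹ := hgx'
  calc h * x = x * h * x⁻¹ * x := by rw [← h7]
    _ = x * h := by group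

/-- Let G be a finite group with an involution z whose centraliser C is isomorphic to the centraliser of a transvection of SL(5, 2). Then a Sylow 2-subgroup of C, viewed in G, is a Sylow 2-subgroup of G (its index in G is odd). -/
theorem result {G : Type*} [Group G] [Finite G] (s : Matrix.SpecialLinearGroup (Fin 5) (ZMod 2)) (hs : (s : Matrix (Fin 5) (Fin 5) (ZMod 2)) = Matrix.transvection 0 1 1) (z : G) (hz : orderOf z = 2) (e : (Subgroup.centralizer ({z} : Set G)) ≃* Subgroup.centralizer ({s} : Set (Matrix.SpecialLinearGroup (Fin 5) (ZMod 2)))) (T : Sylow 2 (Subgroup.centralizer ({z} : Set G))) : ¬ 2 ∣ ((T : Subgroup (Subgroup.centralizer ({z} : Set G))).map (Subgroup.subtype (Subgroup.centralizer ({z} : Set G)))).index :=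
  aux s hs z hz _ rfl _ rfl e T

end Cfsg.Agent.S1717
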