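import Mathlib
import Cfsg.Statements.S1754
import Cfsg.Agent.Lib.Helper9.Quasi

set_option autoImplicit false
open Cfsg

namespace Cfsg.Agent.S1754

open Cfsg.Agent.Helper9

/-- Let A be a standard subgroup of the finite group G (A quasisimple, C_G(A) tightly embedded of even order, A commuting elementwise with no other conjugate of itself, and N_G(A) = N_G(C_G(A))), and let t be an involution of G centralizing A. Then the centralizer of t lies in the normalizer of A; in particular A, viewed inside C_G(t), is a component of C_G(t). -/
theorem result {G : Type*} [Group G] [Finite G]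
    (A : Subgroup G) (hA : Cfsg.IsStandardSubgroup A) (t : G) (ht : orderOf t = 2) (htA : t ∈ Subgroup.centralizer (A : Set G)) :
    Subgroup.centralizer ({t} : Set G) ≤ Subgroup.normalizer (A : Set G) ∧
      Cfsg.IsComponent (A.subgroupOf (Subgroup.centralizer ({t} : Set G))) := by
  obtain ⟨hq, ⟨_, htight⟩, _, hnorm⟩ := hA
  have h1 : Subgroup.centralizer ({t} : Set G) ≤ Subgroup.normalizer (A : Set G) := by
    intro g hg
    rw [hnorm]
    by_contra hgn
    have hodd := htight g hgn
    set K := Subgroup.centralizer (A : Set G) with hK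
    have hgt : g * t * g⁻¹ = t := by
      have := Subgroup.mem_centralizer_singleton_iff.mp hg
      rw [this, mul_inv_cancel_right]
    have htK' : t ∈ K.map (MulAut.conj g).toMonoidHom := by
      have := conj_mem_map_conj (g := g) htA
      rwa [hgt] at this
    have hmem : t ∈ K ⊓ K.map (MulAut.conj g).toMonoidHom := ⟨htA, htK'⟩
    have hord : orderOf (⟨t, hmem⟩ : ↥(K ⊓ K.map (MulAut.conj g).toMonoidHom)) = 2 := by
      rw [← ht]
      exact Subgroup.orderOf_mk t hmem
    have hdvd : 2 ∣ Nat.card ↥(K ⊓ K.map (MulAut.conj g).toMonoidHom) := by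
      rw [← hord]
      exact orderOf_dvd_natCard _
    rcases hodd with ⟨k, hk⟩
    omega
  refine ⟨h1, ?_, ?_⟩
  · -- normal hence subnormal
    have hn : (A.subgroupOf (Subgroup.centralizer ({t} : Set G))).Normal := by
      refine ⟨fun n hn g => ?_⟩
      rw [Subgroup.mem_subgroupOf] at hn ⊢
      have hg := h1 g.2
      have := (Subgroup.mem_normalizer_iff.mp hg (n : G)).mp hn
      simpa using this
    exact hn.isSubnormal
  · have hle : A ≤ Subgroup.centralizer ({t} : Set G) := by
      intro a ha
      rw [Subgroup.mem_centralizer_singleton_iff]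
      exact (Subgroup.mem_centralizer_iff.mp htA a ha)
    exact isQuasisimple_of_mulEquiv (Subgroup.subgroupOfEquivOfLe hle).symm hq

end Cfsg.Agent.S1754
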