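import Mathlib
import Cfsg.Statements.S1755
import Cfsg.Agent.Lib.Helper9.Basic
import Cfsg.Agent.Lib.Helper9.Symplectic
import Cfsg.Agent.Lib.Helper7.FStar

set_option autoImplicit false
open Cfsg

namespace Cfsg.Agent.S1755

open Cfsg.Agent.Helper9

theorem aux {G : Type*} [Group G] [Finite G] (C : Subgroup G) (z : G)
    (hzC : ∀ g, g ∈ C ↔ g * z = z * g) (hz : orderOf z = 2) (Q : Subgroup C) [Q.Normal]
    (hzQ : ∀ h : z ∈ C, (⟨z, h⟩ : C) ∈ Q) (hQ : Cfsg.IsOfSymplecticType Q)
    (B : Subgroup Q) (hBc : B.Characteristic) (hBa : IsMulCommutative B) (g : G) :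
    ((B.map Q.subtype).map C.subtype).map (MulAut.conj g).toMonoidHom =
        (B.map Q.subtype).map C.subtype ∨
      ((B.map Q.subtype).map C.subtype).map (MulAut.conj g).toMonoidHom ⊓
        (B.map Q.subtype).map C.subtype = ⊥ := by
  have : Fact (Nat.Prime 2) := ⟨Nat.prime_two⟩
  by_cases hB : B = ⊥
  · right
    rw [hB, Subgroup.map_bot, Subgroup.map_bot, inf_bot_eq]
  · have hzC' : z ∈ C := (hzC z).mpr rfl
    obtain ⟨zQ, hzQdef⟩ : ∃ zQ : Q, zQ = ⟨⟨z, hzC'⟩, hzQ hzC'⟩ := ⟨_, rfl⟩
    have hzQval : ((zQ : C) : G) = z := by rw [hzQdef]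
    have hzQc : ∀ q : Q, q * zQ = zQ * q := by
      intro q
      apply Subtype.ext
      apply Subtype.ext
      simp only [Subgroup.coe_mul, hzQval]
      exact (hzC _).mp (q : C).2
    have hzQo : orderOf zQ = 2 := by
      rw [← hz, ← hzQval, Subgroup.orderOf_coe, Subgroup.orderOf_coe]
    obtain ⟨hzB, huniq⟩ := symplectic_unique_involution hQ B hBc hBa hB zQ hzQc hzQo
    have huniq₀ : ∀ x ∈ (B.map Q.subtype).map C.subtype, orderOf x = 2 → x = z := by
      rintro _ ⟨_, ⟨b, hb, rfl⟩, rfl⟩ hxo
      have h1 : orderOf b = 2 := by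
        rw [← hxo]
        simp only [Subgroup.coe_subtype, Subgroup.orderOf_coe]
      have h2 := huniq b hb h1
      rw [h2]
      exact hzQval
    by_cases hI : ((B.map Q.subtype).map C.subtype).map (MulAut.conj g).toMonoidHom ⊓
        (B.map Q.subtype).map C.subtype = ⊥
    · right; exact hI
    · left
      have hB₀pg : IsPGroup 2 ((B.map Q.subtype).map C.subtype) :=
        ((hQ.1.to_subgroup B).map _).map _
      obtain ⟨x, hxI, hxo⟩ := exists_order_p_of_ne_bot _ (hB₀pg.to_le inf_le_right) hI
      have hx1 : x = z := huniq₀ x hxI.2 hxo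
      have hx2 : g⁻¹ * x * g = z := by
        apply huniq₀ _ (mem_map_conj.mp hxI.1)
        rw [← hxo]
        have := (SemiconjBy.conj_mk g⁻¹ x).orderOf_eq g⁻¹
        rw [inv_inv] at this
        exact this.symm
      have hgC : g ∈ C := by
        rw [hzC]
        rw [hx1] at hx2
        calc g * z = g * (g⁻¹ * z * g) := by rw [hx2]
          _ = z * g := by group
      apply Subgroup.eq_of_le_of_card_ge _ (by rw [card_map_conj])
      rintro _ ⟨_, ⟨_, ⟨b, hb, rfl⟩, rfl⟩, rfl⟩
      have hchar := (Subgroup.characteristic_iff_map_eq.mp hBc)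
        (MulAut.conjNormal (⟨g, hgC⟩ : C) : MulAut Q)
      have h3 : (MulAut.conjNormal (⟨g, hgC⟩ : C) : MulAut Q) b ∈ B := by
        rw [← hchar]
        exact ⟨b, hb, rfl⟩
      exact ⟨_, ⟨_, h3, rfl⟩, by simp [MulAut.conj_apply]⟩

/-- Let G be a finite group and let z be an involution of G such that Q, the generalized Fitting subgroup of the centralizer C of z, is a 2-group of symplectic type (every characteristic abelian subgroup of Q is cyclic). Let B be a characteristic abelian subgroup of Q, viewed as a subgroup of G. Then for every g in G, the conjugate of B by g either equals B or meets B trivially. -/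
theorem result {G : Type*} [Group G] [Finite G] (z : G) (hz : orderOf z = 2) (hQ : Cfsg.IsOfSymplecticType ↥(Cfsg.generalizedFittingSubgroup ↥(Subgroup.centralizer ({z} : Set G))))
    (B : Subgroup ↥(Cfsg.generalizedFittingSubgroup ↥(Subgroup.centralizer ({z} : Set G)))) (hBc : B.Characteristic) (hBa : IsMulCommutative ↥B) (g : G) :
    ((B.map (Cfsg.generalizedFittingSubgroup ↥(Subgroup.centralizer ({z} : Set G))).subtype).map (Subgroup.centralizer ({z} : Set G)).subtype).map (MulAut.conj g).toMonoidHom =
        (B.map (Cfsg.generalizedFittingSubgroup ↥(Subgroup.centralizer ({z} : Set G))).subtype).map (Subgroup.centralizer ({z} : Set G)).subtype ∨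
      ((B.map (Cfsg.generalizedFittingSubgroup ↥(Subgroup.centralizer ({z} : Set G))).subtype).map (Subgroup.centralizer ({z} : Set G)).subtype).map (MulAut.conj g).toMonoidHom ⊓
        (B.map (Cfsg.generalizedFittingSubgroup ↥(Subgroup.centralizer ({z} : Set G))).subtype).map (Subgroup.centralizer ({z} : Set G)).subtype = ⊥ := by
  have hzC : ∀ g, g ∈ Subgroup.centralizer ({z} : Set G) ↔ g * z = z * g := fun g =>
    Subgroup.mem_centralizer_singleton_iff
  have hnorm : (Cfsg.generalizedFittingSubgroup ↥(Subgroup.centralizer ({z} : Set G))).Normal :=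
    Cfsg.Agent.Helper7.generalizedFittingSubgroup_normal
  refine aux (Subgroup.centralizer ({z} : Set G)) z hzC hz _ ?_ hQ B hBc hBa g
  intro h
  apply Cfsg.Agent.Helper7.fittingSubgroup_le_generalizedFittingSubgroup
  have hcen : Subgroup.zpowers (⟨z, h⟩ : Subgroup.centralizer ({z} : Set G)) ≤
      Subgroup.center (Subgroup.centralizer ({z} : Set G)) := by
    rw [Subgroup.zpowers_le, Subgroup.mem_center_iff]
    intro q
    apply Subtype.ext
    exact (hzC _).mp q.2
  have hn : (Subgroup.zpowers (⟨z, h⟩ : Subgroup.centralizer ({z} : Set G))).Normal := by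
    constructor
    intro n hn q
    have h1 : q * n * q⁻¹ = n := by
      have := Subgroup.mem_center_iff.mp (hcen hn) q
      rw [this, mul_inv_cancel_right]
    rw [h1]; exact hn
  have hnil : Group.IsNilpotent (Subgroup.zpowers (⟨z, h⟩ : Subgroup.centralizer ({z} : Set G))) := by
    letI : CommGroup (Subgroup.zpowers (⟨z, h⟩ : Subgroup.centralizer ({z} : Set G))) :=
      { (inferInstance : Group (Subgroup.zpowers (⟨z, h⟩ : Subgroup.centralizer ({z} : Set G)))) with
        mul_comm := fun a b => mul_comm' a b }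
    infer_instance
  exact Cfsg.Agent.Helper7.le_fittingSubgroup _ hnil (Subgroup.mem_zpowers _)

end Cfsg.Agent.S1755
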