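import Mathlib
import Cfsg.Statements.S1756
import Cfsg.Agent.Lib.Helper9.Extraspecial

set_option autoImplicit false
open Cfsg

namespace Cfsg.Agent.S1756

/-- Let Q be an extraspecial 2-subgroup of the finite group G (special with centre of order 2) and t an involution of G normalizing Q such that the centralizer of t in Q has index at most 2 in Q. Then t lies in the product of Q with the centralizer of Q. -/
theorem result {G : Type*} [Group G] [Finite G] (Q : Subgroup G)
    (hQ : Cfsg.IsExtraspecial 2 ↥Q) (t : G) (ht : orderOf t = 2) (htN : t ∈ Subgroup.normalizer (Q : Set G))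
    (hi : (Subgroup.centralizer ({t} : Set G) ⊓ Q).relIndex Q ≤ 2) :
    t ∈ Q ⊔ Subgroup.centralizer (Q : Set G) := by
  obtain ⟨τ, hτdef⟩ : ∃ τ : MulAut Q, τ = Subgroup.normalizerMonoidHom Q ⟨t, htN⟩ := ⟨_, rfl⟩
  have hτapp : ∀ q : Q, ((τ q : Q) : G) = t * q * t⁻¹ := fun q => by rw [hτdef]; rfl
  have ht2 : t * t = 1 := by rw [← pow_two, ← ht, pow_orderOf_eq_one]
  have htinv : t⁻¹ = t := inv_eq_of_mul_eq_one_left ht2
  have hττ : ∀ q, τ (τ q) = q := by
    intro q
    apply Subtype.ext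
    rw [hτapp, hτapp, htinv]
    calc t * (t * (q : G) * t) * t = (t * t) * q * (t * t) := by group
      _ = q := by rw [ht2, one_mul, mul_one]
  obtain ⟨F, hFdef⟩ : ∃ F : Subgroup Q, F = (Subgroup.centralizer ({t} : Set G) ⊓ Q).subgroupOf Q :=
    ⟨_, rfl⟩
  have hF : ∀ q, q ∈ F ↔ τ q = q := by
    intro q
    rw [hFdef, Subgroup.mem_subgroupOf, Subgroup.mem_inf, Subgroup.mem_centralizer_singleton_iff]
    constructor
    · rintro ⟨h, -⟩
      apply Subtype.ext
      rw [hτapp, ← h, mul_inv_cancel_right]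
    · intro h
      refine ⟨?_, q.2⟩
      have h1 := congrArg Subtype.val h
      rw [hτapp] at h1
      exact (mul_inv_eq_iff_eq_mul.mp h1).symm
  have hi' : F.index ≤ 2 := by rw [hFdef]; exact hi
  obtain ⟨y, hy⟩ := Cfsg.Agent.Helper9.aut_inner_of_extraspecial hQ τ hττ F hF hi'
  have hmem : (y : G)⁻¹ * t ∈ Subgroup.centralizer (Q : Set G) := by
    rw [Subgroup.mem_centralizer_iff]
    intro q hq
    have h1 := congrArg Subtype.val (hy ⟨q, hq⟩)
    rw [hτapp] at h1
    simp only [Subgroup.coe_mul, Subgroup.coe_inv] at h1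
    -- h1 : t * q * t⁻¹ = y * q * y⁻¹
    have h2 : (y : G)⁻¹ * t * q = q * ((y : G)⁻¹ * t) := by
      calc (y : G)⁻¹ * t * q = (y : G)⁻¹ * (t * q * t⁻¹) * t := by group
        _ = (y : G)⁻¹ * ((y : G) * q * (y : G)⁻¹) * t := by rw [h1]
        _ = q * ((y : G)⁻¹ * t) := by group
    exact h2.symm
  have h3 : t = (y : G) * ((y : G)⁻¹ * t) := by group
  rw [h3]
  exact Subgroup.mul_mem_sup y.2 hmem

end Cfsg.Agent.S1756
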