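import Cfsg.Statements.S1774
import Cfsg.Agent.Lib.Helper27.SyDefs
import Cfsg.Agent.Lib.Helper16.SyA
import Cfsg.Agent.Lib.Helper1.SyB
import Cfsg.Agent.Lib.Helper27.SyC
import Cfsg.Agent.Lib.Helper1.SyD
import Cfsg.Agent.Lib.Helper27.SyE
import Cfsg.Agent.Lib.Helper5.SyS3
import Cfsg.Agent.Lib.Helper25.SyFP
import Cfsg.Agent.Lib.Helper8.SyCONJ
import Cfsg.Agent.Lib.Helper26.SyDIH
import Cfsg.Agent.Lib.Helper13.SYSTRUCT
import Cfsg.Agent.Lib.Helper27.SyFSTAR

set_option autoImplicit false
open Cfsg

namespace Cfsg.Agent.S1774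

open Cfsg.Agent.Helper27.Sy

/-- Let G be a finite group and let z be an involution of G such that Q, the generalized Fitting subgroup of the centralizer C of z, is a 2-group of symplectic type (every characteristic abelian subgroup of Q is cyclic); suppose every element of Q has order dividing 4. Let g ∈ G with z' = g z g⁻¹ ≠ z and z' ∈ Q. Then z lies in the conjugate g Q g⁻¹, and the subgroup X generated by Q and g Q g⁻¹ induces every automorphism of the four-group generated by z and z': for any two distinct non-identity elements u, v of that four-group there is x ∈ X with x z x⁻¹ = u and x z' x⁻¹ = v. -/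
theorem result {G : Type*} [Group G] [Finite G] (z : G) (hz : orderOf z = 2) (hQ : Cfsg.IsOfSymplecticType ↥(Cfsg.generalizedFittingSubgroup ↥(Subgroup.centralizer ({z} : Set G))))
    (h4 : ∀ q ∈ (Cfsg.generalizedFittingSubgroup ↥(Subgroup.centralizer ({z} : Set G))).map (Subgroup.centralizer ({z} : Set G)).subtype, q ^ 4 = 1) (g : G) (hne : g * z * g⁻¹ ≠ z) (hin : g * z * g⁻¹ ∈ (Cfsg.generalizedFittingSubgroup ↥(Subgroup.centralizer ({z} : Set G))).map (Subgroup.centralizer ({z} : Set G)).subtype) :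
    z ∈ ((Cfsg.generalizedFittingSubgroup ↥(Subgroup.centralizer ({z} : Set G))).map (Subgroup.centralizer ({z} : Set G)).subtype).map (MulAut.conj g).toMonoidHom ∧
      ∀ u ∈ Subgroup.closure ({z, g * z * g⁻¹} : Set G), ∀ v ∈ Subgroup.closure ({z, g * z * g⁻¹} : Set G),
        u ≠ 1 → v ≠ 1 → u ≠ v →
          ∃ x ∈ (Cfsg.generalizedFittingSubgroup ↥(Subgroup.centralizer ({z} : Set G))).map (Subgroup.centralizer ({z} : Set G)).subtype ⊔ ((Cfsg.generalizedFittingSubgroup ↥(Subgroup.centralizer ({z} : Set G))).map (Subgroup.centralizer ({z} : Set G)).subtype).map (MulAut.conj g).toMonoidHom, x * z * x⁻¹ = u ∧ x * (g * z * g⁻¹) * x⁻¹ = v := by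
  classical
  have h4' : ∀ q : ↥(Cfsg.generalizedFittingSubgroup ↥(Subgroup.centralizer ({z} : Set G))),
      q ^ 4 = 1 := by
    intro q
    have h := h4 ((Subgroup.centralizer ({z} : Set G)).subtype (q : ↥(Subgroup.centralizer ({z} : Set G))))
      (Subgroup.mem_map_of_mem _ q.2)
    apply Subtype.ext
    apply Subtype.ext
    simpa using h
  have hna := fstar_nonab z hz hQ g hne hin
  have hst := struct_of_symplectic hQ h4' hna (fun R h16 => no_big_dihedral h4' R h16)
  have hS := side_of_struct z hz hst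
  have hC := hS.cfg g hne hin
  have hP2 : IsPGroup 2 ↥(((Cfsg.generalizedFittingSubgroup ↥(Subgroup.centralizer ({z} : Set G))).map
      (Subgroup.centralizer ({z} : Set G)).subtype).map (MulAut.conj g).toMonoidHom) :=
    (hQ.1.map _).map _
  have haz : g * z * g⁻¹ * z = z * (g * z * g⁻¹) := hS.cen _ hin
  have hzQa : z ∈ ((Cfsg.generalizedFittingSubgroup ↥(Subgroup.centralizer ({z} : Set G))).map
      (Subgroup.centralizer ({z} : Set G)).subtype).map (MulAut.conj g).toMonoidHom := by
    by_contra hzn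
    obtain ⟨x0, h1⟩ := hC.exists_cfg1
    have h4c := ((h1.toCfg2 hzn).toCfg3).toCfg4
    apply h4c.false
    apply exists_fixed _ hP2 (g * z * g⁻¹) z hC.Sa.zQ hC.Sa.zz (fun y hy => hC.Sa.cen y hy) hS.zz
      haz.symm (fun y hy => hC.Sa.nrm z haz.symm y hy)
    refine ⟨g * x0 * g⁻¹, ⟨x0, h1.x0Q, by simp [MulAut.conj_apply]⟩, ?_, ?_⟩
    · intro h
      have hx1 : x0 = 1 := by
        have := congrArg (fun t => g⁻¹ * t * g) h
        simpa [mul_assoc] using this
      have h2 := h1.x0a
      rw [hx1] at h2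
      simp at h2
      exact hS.z1 h2
    · intro h
      have hx1 : x0 = z := by
        have := congrArg (fun t => g⁻¹ * t * g) h
        simpa [mul_assoc] using this
      have h2 := h1.x0a
      rw [hx1] at h2
      -- z * a * z⁻¹ = z * a, so a * z⁻¹ = a
      have h3 : g * z * g⁻¹ * z⁻¹ = g * z * g⁻¹ := by
        have := congrArg (fun t => z⁻¹ * t) h2
        simpa [mul_assoc] using this
      have h5 : z⁻¹ = 1 := by
        have := congrArg (fun t => (g * z * g⁻¹)⁻¹ * t) h3
        simpa [mul_assoc] using this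
      exact hS.z1 (inv_eq_one.mp h5)
  refine ⟨hzQa, ?_⟩
  intro u hu v hv hu1 hv1 huv
  have hu' := closure_pair hS.zz hC.Sa.zz haz hu
  have hv' := closure_pair hS.zz hC.Sa.zz haz hv
  exact hC.six hzQa (hu'.resolve_left hu1) (hv'.resolve_left hv1) huv

end Cfsg.Agent.S1774
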