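import Mathlib
import Cfsg.Statements.S1775
import Cfsg.Agent.Lib.Helper7.SecB2
import Cfsg.Agent.Lib.Helper7.ExtLayer
import Cfsg.Agent.Lib.Helper7.Fitting
import Cfsg.Agent.Lib.Helper7.Layer

set_option autoImplicit false
open Cfsg

namespace Cfsg.Agent.S1775

/-- Let G be a finite group whose generalized Fitting subgroup is a non-abelian simple group and in which every proper section (every quotient H/N of a proper subgroup H, or of G by a nontrivial normal subgroup) has the B-property. Let x, y be commuting involutions, let D be the intersection of the 2-layer of C_G(x) with C_G(y), and let J be a 2-component of D. Write Q for the quotient of C_G(y) by its largest normal odd-order subgroup. Then (i) the image of J in Q is a component of the centralizer in Q of the image of x; and (ii) for every J-invariant subgroup E of odd order of C_G(x) ∩ C_G(y), the commutator subgroup [J, E] lies in the largest normal odd-order subgroup of C_G(y). -/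
theorem result {G : Type*} [Group G] [Finite G]
    (hF : IsSimpleGroup ↥(Cfsg.generalizedFittingSubgroup G)) (hF' : ¬ IsMulCommutative ↥(Cfsg.generalizedFittingSubgroup G))
    (hsec : ∀ (H : Subgroup G) (N : Subgroup ↥H) [N.Normal], (H ≠ ⊤ ∨ N ≠ ⊥) → Cfsg.HasBProperty (↥H ⧸ N))
    (x y : G) (hx : orderOf x = 2) (hy : orderOf y = 2) (hxy : x * y = y * x)
    (J : Subgroup ↥((Cfsg.pLayer 2 ↥(Subgroup.centralizer ({x} : Set G))).map (Subgroup.centralizer ({x} : Set G)).subtype ⊓ Subgroup.centralizer ({y} : Set G)))
    (hJ : Cfsg.IsPComponent 2 J) :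
    Cfsg.IsComponent
        ((((J.map (Subgroup.subtype _)).subgroupOf (Subgroup.centralizer ({y} : Set G))).map (QuotientGroup.mk' (Cfsg.oddCore ↥(Subgroup.centralizer ({y} : Set G))))).subgroupOf
          (Subgroup.centralizer ({(QuotientGroup.mk' (Cfsg.oddCore ↥(Subgroup.centralizer ({y} : Set G))) ⟨x, Subgroup.mem_centralizer_singleton_iff.mpr hxy⟩ : ↥(Subgroup.centralizer ({y} : Set G)) ⧸ Cfsg.oddCore ↥(Subgroup.centralizer ({y} : Set G)))} : Set _))) ∧
      ∀ E : Subgroup G, E ≤ Subgroup.centralizer ({x} : Set G) ⊓ Subgroup.centralizer ({y} : Set G) → Odd (Nat.card ↥E) →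
        (∀ j ∈ J.map (Subgroup.subtype _), ∀ e ∈ E, j * e * j⁻¹ ∈ E) →
          ⁅J.map (Subgroup.subtype _), E⁆ ≤ (Cfsg.oddCore ↥(Subgroup.centralizer ({y} : Set G))).map (Subgroup.centralizer ({y} : Set G)).subtype := by
  classical
  haveI : Fact (Nat.Prime 2) := ⟨Nat.prime_two⟩
  -- `C(y)` is a proper subgroup
  have hCy : Subgroup.centralizer ({y} : Set G) ≠ ⊤ := by
    intro htop
    have hyc : y ∈ Subgroup.center G := by
      rw [Subgroup.mem_center_iff]
      intro g
      have hg : g ∈ Subgroup.centralizer ({y} : Set G) := by rw [htop]; trivial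
      exact Subgroup.mem_centralizer_singleton_iff.mp hg
    have hcF : Subgroup.center G ≤ Cfsg.generalizedFittingSubgroup G := by
      have h1 : Subgroup.center G ≤ Cfsg.fittingSubgroup G :=
        Cfsg.Agent.Helper7.le_fittingSubgroup (Subgroup.center G)
          (Cfsg.Agent.Helper7.isNilpotent_of_isMulCommutative _)
      exact h1.trans le_sup_right
    have hn : ((Subgroup.center G).subgroupOf (Cfsg.generalizedFittingSubgroup G)).Normal :=
      inferInstance
    rcases hn.eq_bot_or_eq_top with h | h
    · have hmem : (⟨y, hcF hyc⟩ : ↥(Cfsg.generalizedFittingSubgroup G)) ∈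
          (Subgroup.center G).subgroupOf (Cfsg.generalizedFittingSubgroup G) :=
        Subgroup.mem_subgroupOf.mpr hyc
      rw [h, Subgroup.mem_bot] at hmem
      have hy1 : y = 1 := congrArg Subtype.val hmem
      rw [hy1, orderOf_one] at hy
      norm_num at hy
    · apply hF'
      rw [Subgroup.subgroupOf_eq_top] at h
      exact Subgroup.le_centralizer_iff_isMulCommutative.mp
        (h.trans (Subgroup.center_le_centralizer _))
  have hB : Cfsg.HasBProperty (↥(Subgroup.centralizer ({y} : Set G)) ⧸
      Cfsg.pPrimeCore 2 ↥(Subgroup.centralizer ({y} : Set G))) :=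
    hsec (Subgroup.centralizer ({y} : Set G))
      (Cfsg.pPrimeCore 2 ↥(Subgroup.centralizer ({y} : Set G))) (Or.inl hCy)
  have hLx : (Cfsg.pLayer 2 ↥(Subgroup.centralizer ({x} : Set G))).map
      (Subgroup.centralizer ({x} : Set G)).subtype ≤ Subgroup.centralizer ({x} : Set G) :=
    Subgroup.map_subtype_le _
  have hLxN : Subgroup.centralizer ({x} : Set G) ≤ Subgroup.normalizer
      (((Cfsg.pLayer 2 ↥(Subgroup.centralizer ({x} : Set G))).map
        (Subgroup.centralizer ({x} : Set G)).subtype : Subgroup G) : Set G) := by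
    have hnorm : (Cfsg.pLayer 2 ↥(Subgroup.centralizer ({x} : Set G))).Normal :=
      Cfsg.Agent.Helper7.pLayer_normal 2
    have h1 := Subgroup.le_normalizer_map (Subgroup.centralizer ({x} : Set G)).subtype
      (H := Cfsg.pLayer 2 ↥(Subgroup.centralizer ({x} : Set G)))
    rw [Subgroup.normalizer_eq_top_iff.mpr hnorm, ← MonoidHom.range_eq_map,
      Subgroup.range_subtype] at h1
    exact h1
  have hDN : Subgroup.centralizer ({x} : Set G) ⊓ Subgroup.centralizer ({y} : Set G) ≤
      Subgroup.normalizer ((((Cfsg.pLayer 2 ↥(Subgroup.centralizer ({x} : Set G))).map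
        (Subgroup.centralizer ({x} : Set G)).subtype ⊓ Subgroup.centralizer ({y} : Set G) :
          Subgroup G)) : Set G) := by
    refine le_trans (le_inf (inf_le_left.trans hLxN) (inf_le_right.trans Subgroup.le_normalizer))
      Subgroup.inf_normalizer_le_normalizer_inf
  exact Cfsg.Agent.Helper7.SecB.main_aux (Subgroup.mem_centralizer_singleton_iff.mpr hxy) hx hB
    (inf_le_left.trans hLx) inf_le_right hDN J hJ

end Cfsg.Agent.S1775
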