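import Mathlib
import Cfsg.Statements.S1781
import Cfsg.Agent.Lib.Helper9.TwoGroupAut
import Cfsg.Agent.Lib.Helper9.Basic

set_option autoImplicit false
open Cfsg

namespace Cfsg.Agent.S1781

open Cfsg.Agent.Helper9

variable {G : Type*} [Group G]

/-- For a TI subgroup, the centralizer of a nonidentity element normalizes it. -/
theorem centralizer_le_normalizer_of_ti (A : Subgroup G)
    (hti : ∀ h : G, A.map (MulAut.conj h).toMonoidHom = A ∨ A.map (MulAut.conj h).toMonoidHom ⊓ A = ⊥)
    {x : G} (hxA : x ∈ A) (hx1 : x ≠ 1) {c : G} (hc : c * x = x * c) :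
    c ∈ Subgroup.normalizer (A : Set G) := by
  apply mem_normalizer_of_map_conj_eq_self
  rcases hti c with h | h
  · exact h
  · exfalso
    have h1 : x ∈ A.map (MulAut.conj c).toMonoidHom := by
      rw [mem_map_conj]
      have : c⁻¹ * x * c = x := by rw [mul_assoc, ← hc, inv_mul_cancel_left]
      rw [this]; exact hxA
    have : x ∈ A.map (MulAut.conj c).toMonoidHom ⊓ A := ⟨h1, hxA⟩
    rw [h, Subgroup.mem_bot] at this
    exact hx1 this

/-- The key asymmetric step. -/
theorem lemmaX (A A' : Subgroup G) (hA2 : IsPGroup 2 ↥A)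
    (hA'2 : IsPGroup 2 ↥A') (hA'a : IsMulCommutative ↥A')
    (hti : ∀ h : G, A.map (MulAut.conj h).toMonoidHom = A ∨ A.map (MulAut.conj h).toMonoidHom ⊓ A = ⊥)
    (hAA' : A ⊓ A' = ⊥) (b : G) (hbA : b ∈ A) (hbN : b ∈ Subgroup.normalizer (A' : Set G))
    (hb2 : b ^ 2 ≠ 1) : A' ≤ Subgroup.normalizer (A : Set G) := by
  have hb1 : b ≠ 1 := by
    rintro rfl
    exact hb2 (one_pow 2)
  letI : CommGroup A' := { (inferInstance : Group A') with mul_comm := hA'a.is_comm.comm }
  set τ : MulAut A' := A'.normalizerMonoidHom ⟨b, hbN⟩ with hτ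
  have hτapp : ∀ x : A', ((τ x : A') : G) = b * x * b⁻¹ := fun x => rfl
  -- order of τ is a power of 2
  have hτord : ∃ k : ℕ, orderOf τ = 2 ^ k := by
    obtain ⟨m, hm⟩ := (IsPGroup.iff_orderOf (p := 2)).mp hA2 ⟨b, hbA⟩
    have hbm : orderOf b = 2 ^ m := by
      rw [← hm]; exact (Subgroup.orderOf_mk b hbA).symm
    have hbm' : orderOf (⟨b, hbN⟩ : Subgroup.normalizer (A' : Set G)) = 2 ^ m := by
      rw [← hbm]; exact Subgroup.orderOf_mk b hbN
    have hdvd : orderOf τ ∣ 2 ^ m := by
      rw [← hbm', hτ]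
      exact orderOf_map_dvd _ _
    exact (Nat.dvd_prime_pow Nat.prime_two).mp hdvd |>.imp fun k hk => hk.2
  -- fixed points of τ² are fixed points of τ
  have hC : ∀ x : A', τ (τ x) = x → τ x = x := by
    intro x hx
    by_cases hx1 : (x : G) = 1
    · have : x = 1 := Subtype.ext hx1
      rw [this, map_one]
    · -- x commutes with b²
      have h1 : b ^ 2 * (x : G) = (x : G) * b ^ 2 := by
        have := congrArg (fun y : A' => (y : G)) hx
        simp only [hτapp] at this
        calc b ^ 2 * (x : G) = b * (b * (x : G) * b⁻¹) * b⁻¹ * b ^ 2 := by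
              simp [pow_two, mul_assoc]
          _ = (x : G) * b ^ 2 := by rw [this]
      -- so x normalizes A
      have hxN : (x : G) ∈ Subgroup.normalizer (A : Set G) :=
        centralizer_le_normalizer_of_ti A hti (A.pow_mem hbA 2) hb2 h1.symm
      -- commutator of b and x lies in A ⊓ A'
      have h3 : b * (x : G) * b⁻¹ * (x : G)⁻¹ ∈ A' :=
        A'.mul_mem ((Subgroup.mem_normalizer_iff.mp hbN x).mp x.2) (A'.inv_mem x.2)
      have h4 : b * (x : G) * b⁻¹ * (x : G)⁻¹ ∈ A := by
        have : (x : G) * b⁻¹ * (x : G)⁻¹ ∈ A :=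
          (Subgroup.mem_normalizer_iff.mp hxN b⁻¹).mp (A.inv_mem hbA)
        have := A.mul_mem hbA this
        simpa [mul_assoc] using this
      have h5 : b * (x : G) * b⁻¹ * (x : G)⁻¹ ∈ A ⊓ A' := ⟨h4, h3⟩
      rw [hAA', Subgroup.mem_bot] at h5
      apply Subtype.ext
      rw [hτapp]
      exact mul_inv_eq_one.mp h5
  have htriv := aut_trivial_of_fix_sq hA'2 τ hτord hC
  intro x hx
  have h1 := congrArg (fun y : A' => (y : G)) (htriv ⟨x, hx⟩)
  simp only [hτapp] at h1
  -- x commutes with b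
  have h2 : x * b = b * x := by
    have := congrArg (fun y => y * b) h1
    simpa [mul_assoc] using this.symm
  exact centralizer_le_normalizer_of_ti A hti hbA hb1 h2

theorem ti_conj (A : Subgroup G)
    (hti : ∀ h : G, A.map (MulAut.conj h).toMonoidHom = A ∨ A.map (MulAut.conj h).toMonoidHom ⊓ A = ⊥)
    (g : G) : ∀ h : G, (A.map (MulAut.conj g).toMonoidHom).map (MulAut.conj h).toMonoidHom =
      A.map (MulAut.conj g).toMonoidHom ∨
      (A.map (MulAut.conj g).toMonoidHom).map (MulAut.conj h).toMonoidHom ⊓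
        A.map (MulAut.conj g).toMonoidHom = ⊥ := by
  intro h
  have key : (A.map (MulAut.conj g).toMonoidHom).map (MulAut.conj h).toMonoidHom =
      (A.map (MulAut.conj (g⁻¹ * h * g)).toMonoidHom).map (MulAut.conj g).toMonoidHom := by
    rw [Subgroup.map_map, Subgroup.map_map]
    congr 1
    ext x
    simp [MulAut.conj_apply, mul_assoc]
  rw [key]
  rcases hti (g⁻¹ * h * g) with h1 | h1
  · left; rw [h1]
  · right
    rw [← Subgroup.map_inf_eq _ _ _ (MulAut.conj g).injective, h1, Subgroup.map_bot]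

/-- Let A be an abelian 2-subgroup of the finite group G such that every conjugate of A equals A or meets A trivially, and let g ∈ G with g A g⁻¹ ≠ A. Then either the subgroup of those elements of A that normalize g A g⁻¹ is an elementary abelian 2-group, or A and g A g⁻¹ commute elementwise. -/
theorem result {G : Type*} [Group G] [Finite G] (A : Subgroup G)
    (hA2 : IsPGroup 2 ↥A) (hAa : IsMulCommutative ↥A)
    (hti : ∀ h : G, A.map (MulAut.conj h).toMonoidHom = A ∨ A.map (MulAut.conj h).toMonoidHom ⊓ A = ⊥)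
    (g : G) (hg : A.map (MulAut.conj g).toMonoidHom ≠ A) :
    Cfsg.IsElementaryAbelian 2 (A ⊓ Subgroup.normalizer ((A.map (MulAut.conj g).toMonoidHom : Subgroup G) : Set G)) ∨
      ⁅A, A.map (MulAut.conj g).toMonoidHom⁆ = ⊥ := by
  set A' := A.map (MulAut.conj g).toMonoidHom with hA'
  have hAA' : A ⊓ A' = ⊥ := by
    rcases hti g with h | h
    · exact absurd h hg
    · rw [inf_comm]; exact h
  by_cases hexp : ∀ b ∈ A ⊓ Subgroup.normalizer (A' : Set G), b ^ 2 = 1
  · left
    refine ⟨⟨⟨?_⟩⟩, hexp⟩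
    rintro ⟨a, ha⟩ ⟨b, hb⟩
    apply Subtype.ext
    have := hAa.is_comm.comm ⟨a, ha.1⟩ ⟨b, hb.1⟩
    exact congrArg (fun y : A => (y : G)) this
  · right
    push Not at hexp
    obtain ⟨b, ⟨hbA, hbN⟩, hb2⟩ := hexp
    -- the conjugation isomorphism A ≃* A'
    let e : A ≃* A' := A.equivMapOfInjective _ (MulAut.conj g).injective
    have hA'2 : IsPGroup 2 A' := hA2.of_equiv e
    have hA'a : IsMulCommutative A' := by
      refine ⟨⟨?_⟩⟩
      intro x y
      obtain ⟨x', rfl⟩ := e.surjective x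
      obtain ⟨y', rfl⟩ := e.surjective y
      rw [← map_mul, ← map_mul, hAa.is_comm.comm x' y']
    have h1 : A' ≤ Subgroup.normalizer (A : Set G) :=
      lemmaX A A' hA2 hA'2 hA'a hti hAA' b hbA hbN hb2
    -- now swap roles with b' = g b g⁻¹
    have hb'A' : g * b * g⁻¹ ∈ A' := conj_mem_map_conj hbA
    have hb'2 : (g * b * g⁻¹) ^ 2 ≠ 1 := by
      intro h
      apply hb2
      have : (g * b * g⁻¹) ^ 2 = g * b ^ 2 * g⁻¹ := by
        rw [pow_two, pow_two]; group
      rw [this] at h
      have h' := congrArg (fun y => g⁻¹ * y * g) h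
      simpa [mul_assoc] using h'
    have h2 : A ≤ Subgroup.normalizer (A' : Set G) :=
      lemmaX A' A hA'2 hA2 hAa (ti_conj A hti g) (by rw [inf_comm]; exact hAA') (g * b * g⁻¹) hb'A'
        (h1 hb'A') hb'2
    -- commutators lie in A ⊓ A'
    rw [eq_bot_iff, ← hAA', Subgroup.commutator_le]
    intro a ha a' ha'
    constructor
    · have : a' * a⁻¹ * a'⁻¹ ∈ A :=
        (Subgroup.mem_normalizer_iff.mp (h1 ha') a⁻¹).mp (A.inv_mem ha)
      have := A.mul_mem ha this
      simpa [commutatorElement_def, mul_assoc] using this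
    · have : a * a' * a⁻¹ ∈ A' :=
        (Subgroup.mem_normalizer_iff.mp (h2 ha) a').mp ha'
      have := A'.mul_mem this (A'.inv_mem ha')
      simpa [commutatorElement_def, mul_assoc] using this

end Cfsg.Agent.S1781
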