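import Mathlib
import Cfsg.Statements.S1783
import Cfsg.Agent.Lib.Helper9.TIFamily2
import Cfsg.Agent.Lib.Helper9.PCoreSub
import Cfsg.Agent.Lib.Helper7.FStar
import Cfsg.Agent.Lib.Helper15.PCore
import Cfsg.Agent.Lib.Helper23.BurnsideFrattini
-- import your own Cfsg.Agent.* helpers here

set_option autoImplicit false
open Cfsg

namespace Cfsg.Agent.S1783

open Subgroup Cfsg.Agent.Helper9

/-- an element acting trivially on `Q / Φ(Q)` for `Q = O₂(X) = F*(X)` lies in `Q` -/
theorem mem_pCore_of_trivial_on_frattini_quotient {X : Type*} [Group X] [Finite X]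
    (hX : Cfsg.generalizedFittingSubgroup X = Cfsg.pCore 2 X) (x : X)
    (hx : ∀ q ∈ Cfsg.pCore 2 X, x * q * x⁻¹ * q⁻¹ ∈
      (frattini ↥(Cfsg.pCore 2 X)).map (Cfsg.pCore 2 X).subtype) :
    x ∈ Cfsg.pCore 2 X := by
  haveI : Fact (Nat.Prime 2) := ⟨Nat.prime_two⟩
  set Q := Cfsg.pCore 2 X with hQ
  haveI hQc : Q.Characteristic := pCore_characteristic 2
  have hQn : Q.Normal := inferInstance
  have hQp : IsPGroup 2 Q := pCore_isPGroup' 2 X
  set Φ := (frattini ↥Q).map Q.subtype with hΦ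
  haveI hΦc : Φ.Characteristic := inferInstance
  have hΦn : Φ.Normal := inferInstance
  have hΦQ : Φ ≤ Q := map_subtype_le _
  have hCQ : centralizer (Q : Set X) ≤ Q := by
    have := Cfsg.Agent.Helper7.centralizer_generalizedFittingSubgroup_le (G := X)
    rwa [hX] at this
  -- the kernel of the action on `Q / Φ`
  let K : Subgroup X :=
    { carrier := {y | ∀ q ∈ Q, y * q * y⁻¹ * q⁻¹ ∈ Φ}
      one_mem' := by
        intro q _
        simp
      mul_mem' := by
        intro a b ha hb q hq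
        have h1 := hb q hq
        have h2 := ha q hq
        have h3 : a * (b * q * b⁻¹ * q⁻¹) * a⁻¹ ∈ Φ := hΦn.conj_mem _ h1 a
        have e : a * b * q * (a * b)⁻¹ * q⁻¹ =
            (a * (b * q * b⁻¹ * q⁻¹) * a⁻¹) * (a * q * a⁻¹ * q⁻¹) := by group
        show a * b * q * (a * b)⁻¹ * q⁻¹ ∈ Φ
        rw [e]
        exact mul_mem h3 h2
      inv_mem' := by
        intro a ha q hq
        have h1 := ha q hq
        have h2 : a⁻¹ * (a * q * a⁻¹ * q⁻¹)⁻¹ * a⁻¹⁻¹ ∈ Φ := hΦn.conj_mem _ (inv_mem h1) a⁻¹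
        have e : a⁻¹ * q * a⁻¹⁻¹ * q⁻¹ = a⁻¹ * (a * q * a⁻¹ * q⁻¹)⁻¹ * a⁻¹⁻¹ := by group
        show a⁻¹ * q * a⁻¹⁻¹ * q⁻¹ ∈ Φ
        rw [e]
        exact h2 }
  have hKmem : ∀ y, y ∈ K ↔ ∀ q ∈ Q, y * q * y⁻¹ * q⁻¹ ∈ Φ := fun y => Iff.rfl
  have hKn : K.Normal := by
    constructor
    intro n hn g
    rw [hKmem] at hn ⊢
    intro q hq
    have hq' : g⁻¹ * q * g ∈ Q := by
      have := hQn.conj_mem q hq g⁻¹
      simpa using this
    have h1 := hn _ hq'
    have h2 := hΦn.conj_mem _ h1 g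
    have e : g * n * g⁻¹ * q * (g * n * g⁻¹)⁻¹ * q⁻¹ =
        g * (n * (g⁻¹ * q * g) * n⁻¹ * (g⁻¹ * q * g)⁻¹) * g⁻¹ := by group
    rw [e]
    exact h2
  have hKp : IsPGroup 2 K := by
    apply Cfsg.Agent.Helper15.isPGroup_of_forall_coprime_eq_one
    intro c hc hcop
    have hz : zpowers c ≤ K := zpowers_le.mpr hc
    have hcard : (Nat.card (zpowers c)).Coprime 2 := by
      rw [Nat.card_zpowers]
      exact hcop
    have hsolv : Group.IsSolvable (zpowers c) := inferInstance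
    have hnorm : zpowers c ≤ normalizer (Φ : Set X) := by
      rw [Subgroup.normalizer_eq_top]
      exact le_top
    have hact : ∀ a ∈ zpowers c, ∀ r ∈ Q, a * r * a⁻¹ * r⁻¹ ∈ Φ := fun a ha r hr =>
      (hKmem a).mp (hz ha) r hr
    have h1 := Cfsg.Agent.Helper23.centralizes_of_frattini Q hQp (zpowers c) hcard hsolv hnorm hact
    have h2 : c ∈ centralizer (Q : Set X) := by
      rw [mem_centralizer_iff]
      intro q hq
      have := mem_centralizer_iff.mp (h1 hq) c (mem_zpowers c)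
      exact this.symm
    exact Cfsg.Agent.Helper15.eq_one_of_isPGroup_of_coprime hQp (hCQ h2) hcop
  exact le_pCore' hKn hKp ((hKmem x).mpr hx)

/-- Let X be a finite group whose generalized Fitting subgroup equals its largest normal 2-subgroup Q, and let A be an abelian 2-subgroup of X such that every conjugate of A equals A or meets A trivially. Let B be the subgroup generated by the squares of the elements of A. Then B lies in Q, and if B is not an elementary abelian 2-group then the normal closure of B in X is commutative. -/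
theorem result {X : Type*} [Group X] [Finite X]
    (hX : Cfsg.generalizedFittingSubgroup X = Cfsg.pCore 2 X) (A : Subgroup X) (hA2 : IsPGroup 2 ↥A) (hAa : IsMulCommutative ↥A)
    (hti : ∀ h : X, A.map (MulAut.conj h).toMonoidHom = A ∨ A.map (MulAut.conj h).toMonoidHom ⊓ A = ⊥) :
    Subgroup.closure ((fun a : X => a ^ 2) '' (A : Set X)) ≤ Cfsg.pCore 2 X ∧
      (¬ Cfsg.IsElementaryAbelian 2 (Subgroup.closure ((fun a : X => a ^ 2) '' (A : Set X))) →
        IsMulCommutative ↥(Subgroup.normalClosure ((fun a : X => a ^ 2) '' (A : Set X)))) := by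
  haveI : Fact (Nat.Prime 2) := ⟨Nat.prime_two⟩
  set Q := Cfsg.pCore 2 X with hQ
  have hQn : Q.Normal := inferInstance
  have hQp : IsPGroup 2 Q := pCore_isPGroup' 2 X
  set Sq : Set X := (fun a : X => a ^ 2) '' (A : Set X) with hSq
  set B := Subgroup.closure Sq with hB
  have hAc : ∀ a ∈ A, ∀ a' ∈ A, a * a' = a' * a := fun a ha a' ha' =>
    congrArg Subtype.val (hAa.is_comm.comm ⟨a, ha⟩ ⟨a', ha'⟩)
  have hBA : B ≤ A := by
    rw [hB, closure_le]
    rintro _ ⟨a, ha, rfl⟩
    exact pow_mem ha 2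
  -- Part 1
  have part1 : B ≤ Q := by
    by_cases hsq : ∃ a ∈ A, a * a ≠ 1
    · obtain ⟨a₀, ha₀, ha₀2⟩ := hsq
      set P := Q ⊔ A with hP
      have hPp : IsPGroup 2 P := IsPGroup.to_sup_of_normal_left hQp hA2
      have hQP : Q ≤ P := le_sup_left
      have hAP : A ≤ P := le_sup_right
      set Δ : Set (Subgroup X) := {R | ∃ x ∈ P, R = A.map (MulAut.conj x).toMonoidHom} with hΔ
      have hAΔ : A ∈ Δ := ⟨1, one_mem P, (map_conj_one A).symm⟩
      have key := ti_family_commute_ambient P hPp Δ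
        (by
          rintro R ⟨x, hx, rfl⟩
          rintro _ ⟨a, ha, rfl⟩
          exact mul_mem (mul_mem hx (hAP ha)) (inv_mem hx))
        (by
          rintro s hs R ⟨x, hx, rfl⟩
          exact ⟨s * x, mul_mem hs hx, map_conj_map_conj A s x⟩)
        (by
          rintro R ⟨x, hx, rfl⟩
          refine ⟨x * a₀ * x⁻¹, conj_mem_map_conj ha₀, fun h => ha₀2 ?_⟩
          have e : x * a₀ * x⁻¹ * (x * a₀ * x⁻¹) = x * (a₀ * a₀) * x⁻¹ := by group
          rw [e] at h
          have : a₀ * a₀ = x⁻¹ * (x * (a₀ * a₀) * x⁻¹) * x := by group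
          rw [this, h]
          group)
        (by
          rintro R ⟨x, hx, rfl⟩ T ⟨y, hy, rfl⟩
          rw [card_map_conj, card_map_conj])
        (by
          rintro R ⟨x, hx, rfl⟩ T ⟨y, hy, rfl⟩
          exact ti_conj_of_ti hti x y)
      -- quadratic action
      have hquad : ∀ q ∈ Q, ∀ a ∈ A, ∀ a' ∈ A,
          (q * a * q⁻¹ * a⁻¹) * a' = a' * (q * a * q⁻¹ * a⁻¹) := by
        intro q hq a ha a' ha'
        by_cases heq : A.map (MulAut.conj q).toMonoidHom = A
        · have h1 : q * a * q⁻¹ ∈ A := heq ▸ conj_mem_map_conj ha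
          exact hAc _ (mul_mem h1 (inv_mem ha)) a' ha'
        · have h1 := key _ ⟨q, hQP hq, rfl⟩ A hAΔ heq (q * a * q⁻¹) (conj_mem_map_conj ha) a' ha'
          have h2 := hAc a⁻¹ (inv_mem ha) a' ha'
          rw [mul_assoc, h2, ← mul_assoc, h1, mul_assoc]
      have hmain : ∀ a ∈ A, a ^ 2 ∈ Q := by
        intro a ha
        apply mem_pCore_of_trivial_on_frattini_quotient hX
        intro q hq
        -- w = [q, a]
        set w := q * a * q⁻¹ * a⁻¹ with hw
        have hwQ : w ∈ Q := by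
          have h1 : a * q⁻¹ * a⁻¹ ∈ Q := hQn.conj_mem _ (inv_mem hq) a
          have : w = q * (a * q⁻¹ * a⁻¹) := by rw [hw]; group
          rw [this]
          exact mul_mem hq h1
        have hwa : w * a = a * w := hquad q hq a ha a ha
        have h1 : q * a ^ 2 * q⁻¹ * (a ^ 2)⁻¹ = w * w := by
          have e : q * (a * a) * q⁻¹ * (a * a)⁻¹ =
              (q * a * q⁻¹ * a⁻¹) * (a * (q * a * q⁻¹ * a⁻¹)) * a⁻¹ := by group
          rw [pow_two, e, ← hw, ← hwa]
          group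
        have h2 : w * w ∈ (frattini ↥Q).map Q.subtype := by
          have := Cfsg.Agent.Helper21.pow_mem_frattini_of_isPGroup hQp (⟨w, hwQ⟩ : ↥Q)
          exact ⟨_, this, by simp [pow_two]⟩
        have h3 : a ^ 2 * q * (a ^ 2)⁻¹ * q⁻¹ = (q * a ^ 2 * q⁻¹ * (a ^ 2)⁻¹)⁻¹ := by group
        rw [h3, h1]
        exact inv_mem h2
      rw [hB, closure_le]
      rintro _ ⟨a, ha, rfl⟩
      exact hmain a ha
    · rw [hB, closure_le]
      rintro _ ⟨a, ha, rfl⟩
      have : a * a = 1 := by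
        by_contra h
        exact hsq ⟨a, ha, h⟩
      show a ^ 2 ∈ Q
      rw [pow_two, this]
      exact one_mem _
  refine ⟨part1, ?_⟩
  -- Part 2
  intro hnotEA
  have hBc : ∀ b ∈ B, ∀ b' ∈ B, b * b' = b' * b := fun b hb b' hb' => hAc b (hBA hb) b' (hBA hb')
  have hsqB : ∃ b ∈ B, b * b ≠ 1 := by
    by_contra hcon
    apply hnotEA
    refine ⟨⟨⟨fun b b' => Subtype.ext (hBc b b.2 b' b'.2)⟩⟩, fun b hb => ?_⟩
    by_contra h
    exact hcon ⟨b, hb, by rwa [pow_two] at h⟩
  obtain ⟨b₀, hb₀, hb₀2⟩ := hsqB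
  -- `B` is TI
  have hBti : ∀ h : X, B.map (MulAut.conj h).toMonoidHom = B ∨
      B.map (MulAut.conj h).toMonoidHom ⊓ B = ⊥ := by
    intro h
    rcases hti h with h1 | h1
    · left
      have hN : h ∈ normalizer (A : Set X) := mem_normalizer_of_map_conj_eq_self h1
      rw [hB, MonoidHom.map_closure]
      congr 1
      ext y
      constructor
      · rintro ⟨_, ⟨a, ha, rfl⟩, rfl⟩
        refine ⟨h * a * h⁻¹, (mem_normalizer_iff.mp hN a).mp ha, ?_⟩
        simp [MulAut.conj_apply, conj_pow]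
      · rintro ⟨a, ha, rfl⟩
        have ha' : h⁻¹ * a * h ∈ A := (mem_normalizer_iff''.mp hN a).mp ha
        refine ⟨(h⁻¹ * a * h) ^ 2, ⟨_, ha', rfl⟩, ?_⟩
        simp only [MulEquiv.coe_toMonoidHom, MulAut.conj_apply]
        have : (h⁻¹ * a * h) ^ 2 = h⁻¹ * a ^ 2 * h := by
          have := conj_pow (a := h⁻¹) (b := a) (i := 2)
          simpa using this
        rw [this]
        group
    · right
      rw [eq_bot_iff, ← h1]
      exact inf_le_inf (Subgroup.map_mono hBA) hBA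
  set Δ : Set (Subgroup X) := {R | ∃ x : X, R = B.map (MulAut.conj x).toMonoidHom} with hΔ
  have key := ti_family_commute_ambient Q hQp Δ
    (by
      rintro R ⟨x, rfl⟩
      rintro _ ⟨b, hb, rfl⟩
      exact hQn.conj_mem b (part1 hb) x)
    (by
      rintro s _ R ⟨x, rfl⟩
      exact ⟨s * x, map_conj_map_conj B s x⟩)
    (by
      rintro R ⟨x, rfl⟩
      refine ⟨x * b₀ * x⁻¹, conj_mem_map_conj hb₀, fun h => hb₀2 ?_⟩
      have e : x * b₀ * x⁻¹ * (x * b₀ * x⁻¹) = x * (b₀ * b₀) * x⁻¹ := by group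
      rw [e] at h
      have : b₀ * b₀ = x⁻¹ * (x * (b₀ * b₀) * x⁻¹) * x := by group
      rw [this, h]
      group)
    (by
      rintro R ⟨x, rfl⟩ T ⟨y, rfl⟩
      rw [card_map_conj, card_map_conj])
    (by
      rintro R ⟨x, rfl⟩ T ⟨y, rfl⟩
      exact ti_conj_of_ti hBti x y)
  show IsMulCommutative ↥(Subgroup.closure (Group.conjugatesOfSet Sq))
  apply Subgroup.isMulCommutative_closure
  intro u hu v hv
  obtain ⟨s, hs, hsu⟩ := Group.mem_conjugatesOfSet_iff.mp hu
  obtain ⟨s', hs', hsv⟩ := Group.mem_conjugatesOfSet_iff.mp hv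
  obtain ⟨g, rfl⟩ := isConj_iff.mp hsu
  obtain ⟨h, rfl⟩ := isConj_iff.mp hsv
  have hsB : s ∈ B := Subgroup.subset_closure hs
  have hs'B : s' ∈ B := Subgroup.subset_closure hs'
  by_cases heq : B.map (MulAut.conj g).toMonoidHom = B.map (MulAut.conj h).toMonoidHom
  · -- both in the abelian group `B^g`
    have h1 : h * s' * h⁻¹ ∈ B.map (MulAut.conj g).toMonoidHom := heq ▸ conj_mem_map_conj hs'B
    obtain ⟨b, hb, hb'⟩ := h1
    have hb'' : g * b * g⁻¹ = h * s' * h⁻¹ := by simpa [MulAut.conj_apply] using hb'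
    rw [← hb'']
    have := hBc s hsB b hb
    calc g * s * g⁻¹ * (g * b * g⁻¹) = g * (s * b) * g⁻¹ := by group
      _ = g * (b * s) * g⁻¹ := by rw [this]
      _ = g * b * g⁻¹ * (g * s * g⁻¹) := by group
  · exact key _ ⟨g, rfl⟩ _ ⟨h, rfl⟩ heq _ (conj_mem_map_conj hsB) _ (conj_mem_map_conj hs'B)

end Cfsg.Agent.S1783
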