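import Mathlib
import Cfsg.Statements.S1784
import Cfsg.Agent.Lib.Helper9.ExtraspecialInv
import Cfsg.Agent.Lib.Helper7.FStar
import Cfsg.Agent.Lib.Helper21.PGroupFrattini

set_option autoImplicit false
open Cfsg

namespace Cfsg.Agent.S1784

open Subgroup Cfsg.Agent.Helper9

/-- Let G be a finite group and let z be an involution of G such that Q, the generalized Fitting subgroup of the centralizer C of z, is a 2-group of symplectic type (every characteristic abelian subgroup of Q is cyclic); suppose Q is extraspecial, and view Q inside G. Let α be an involution of C that is not in Q, and let Q₀ be the subgroup of those q ∈ Q whose commutator with α lies in the subgroup generated by z. Then (a) the subgroup generated by the commutators α q α⁻¹ q⁻¹, q ∈ Q, equals the centre of Q₀; and (b) if Q₀ is not contained in the product of the centralizer of α in Q with the subgroup generated by z, then some element of Q conjugates α to α z. -/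
theorem result {G : Type*} [Group G] [Finite G] (z : G) (hz : orderOf z = 2) (hQ : Cfsg.IsOfSymplecticType ↥(Cfsg.generalizedFittingSubgroup ↥(Subgroup.centralizer ({z} : Set G)))) (hE : Cfsg.IsExtraspecial 2 ↥(Cfsg.generalizedFittingSubgroup ↥(Subgroup.centralizer ({z} : Set G))))
    (α : G) (hα : orderOf α = 2) (hαC : α ∈ Subgroup.centralizer ({z} : Set G)) (hαQ : α ∉ (Cfsg.generalizedFittingSubgroup ↥(Subgroup.centralizer ({z} : Set G))).map (Subgroup.centralizer ({z} : Set G)).subtype)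
    (Q₀ : Subgroup G) (hQ₀ : ∀ q : G, q ∈ Q₀ ↔ (q ∈ (Cfsg.generalizedFittingSubgroup ↥(Subgroup.centralizer ({z} : Set G))).map (Subgroup.centralizer ({z} : Set G)).subtype ∧ α * q * α⁻¹ * q⁻¹ ∈ Subgroup.zpowers z)) :
    Subgroup.closure ((fun q : G => α * q * α⁻¹ * q⁻¹) '' ((Cfsg.generalizedFittingSubgroup ↥(Subgroup.centralizer ({z} : Set G))).map (Subgroup.centralizer ({z} : Set G)).subtype : Set G)) = (Subgroup.center ↥Q₀).map Q₀.subtype ∧
      (¬ Q₀ ≤ ((Cfsg.generalizedFittingSubgroup ↥(Subgroup.centralizer ({z} : Set G))).map (Subgroup.centralizer ({z} : Set G)).subtype ⊓ Subgroup.centralizer ({α} : Set G)) ⊔ Subgroup.zpowers z →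
        ∃ q ∈ (Cfsg.generalizedFittingSubgroup ↥(Subgroup.centralizer ({z} : Set G))).map (Subgroup.centralizer ({z} : Set G)).subtype, q * α * q⁻¹ = α * z) := by
  classical
  set C := Subgroup.centralizer ({z} : Set G) with hCdef
  set F := Cfsg.generalizedFittingSubgroup ↥C with hFdef
  set Q := F.map C.subtype with hQdef
  have hzz : z * z = 1 := by
    have := pow_orderOf_eq_one z
    rwa [hz, pow_two] at this
  have hz1 : z ≠ 1 := by
    intro h
    rw [h, orderOf_one] at hz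
    omega
  have hαα : α * α = 1 := by
    have := pow_orderOf_eq_one α
    rwa [hα, pow_two] at this
  have hαz : α * z = z * α := mem_centralizer_singleton_iff.mp hαC
  have hZ : ∀ x, x ∈ zpowers z ↔ x = 1 ∨ x = z := mem_zpowers_involution hzz
  -- the central involution inside `F`
  have hzC : z ∈ C := mem_centralizer_singleton_iff.mpr rfl
  set zC : ↥C := ⟨z, hzC⟩ with hzCdef
  have hzCcen : ∀ c : ↥C, c * zC = zC * c := by
    intro c
    apply Subtype.ext
    exact mem_centralizer_singleton_iff.mp c.2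
  have hFcent : centralizer (F : Set ↥C) ≤ F :=
    Cfsg.Agent.Helper7.centralizer_generalizedFittingSubgroup_le
  have hzF : zC ∈ F := by
    apply hFcent
    rw [mem_centralizer_iff]
    intro h _
    exact hzCcen h
  set zF : ↥F := ⟨zC, hzF⟩ with hzFdef
  have hzFcen : ∀ a : ↥F, a * zF = zF * a := by
    intro a
    apply Subtype.ext
    exact hzCcen a
  have hzF1 : zF ≠ 1 := by
    intro h
    apply hz1
    have := congrArg (fun u : ↥F => ((u : ↥C) : G)) h
    exact this
  obtain ⟨z₀, hc₀, hsq₀, hne₀, halt₀, hcen₀⟩ := extraspecial_two_data hE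
  have hz₀ : z₀ = zF := by
    rcases hcen₀ zF hzFcen with h | h
    · exact absurd h hzF1
    · exact h.symm
  rw [hz₀] at hc₀ hsq₀ hne₀ halt₀ hcen₀
  have hsqr : ∀ a : ↥F, a * a = 1 ∨ a * a = zF := by
    intro a
    apply hcen₀
    have h1 : a ^ 2 ∈ frattini ↥F :=
      Cfsg.Agent.Helper21.pow_mem_frattini_of_isPGroup hE.1.1 a
    rw [hE.1.2.1, pow_two, mem_center_iff] at h1
    exact h1
  -- the automorphism
  set αC : ↥C := ⟨α, hαC⟩ with hαCdef
  have hαCα : αC * αC = 1 := Subtype.ext hαα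
  have hαCinv : αC⁻¹ = αC := inv_eq_of_mul_eq_one_left hαCα
  set τ : MulAut ↥F := MulAut.conjNormal αC with hτdef
  have hτval : ∀ q : ↥F, ((τ q : ↥F) : ↥C) = αC * (q : ↥C) * αC⁻¹ := fun q =>
    MulAut.conjNormal_apply αC q
  have hτ : ∀ q, τ (τ q) = q := by
    intro q
    apply Subtype.ext
    rw [hτval, hτval, hαCinv]
    calc αC * (αC * (q : ↥C) * αC) * αC = (αC * αC) * (q : ↥C) * (αC * αC) := by group
      _ = q := by rw [hαCα, one_mul, mul_one]
  have hτne : ∃ q, τ q ≠ q := by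
    by_contra hcon
    apply hαQ
    have h1 : ∀ q, τ q = q := fun q => not_not.mp (not_exists.mp hcon q)
    have h2 : αC ∈ centralizer (F : Set ↥C) := by
      rw [mem_centralizer_iff]
      intro h hh
      have h3 := congrArg (fun u : ↥F => (u : ↥C)) (h1 ⟨h, hh⟩)
      simp only [hτval] at h3
      calc h * αC = (αC * h * αC⁻¹) * αC := by rw [h3]
        _ = αC * h := by group
    exact ⟨αC, hFcent h2, rfl⟩
  have key := mem_closure_comm_iff hc₀ hsq₀ hne₀ halt₀ hcen₀ hsqr τ hτ hτne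
  -- the embedding
  set ι : ↥F →* G := C.subtype.comp F.subtype with hιdef
  have hιinj : Function.Injective ι := by
    intro a b hab
    exact Subtype.ext (Subtype.ext hab)
  have hιQ : ∀ g : G, g ∈ Q ↔ ∃ x : ↥F, ι x = g := by
    intro g
    constructor
    · rintro ⟨c, hcF, rfl⟩
      exact ⟨⟨c, hcF⟩, rfl⟩
    · rintro ⟨x, rfl⟩
      exact ⟨x, x.2, rfl⟩
  have hιτ : ∀ x : ↥F, ι (τ x * x⁻¹) = α * ι x * α⁻¹ * (ι x)⁻¹ := by
    intro x
    rw [map_mul, map_inv]
    congr 1
  have hιz : (zpowers zF).map ι = zpowers z := by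
    rw [MonoidHom.map_zpowers]
    rfl
  have hmemZ : ∀ x : ↥F, τ x * x⁻¹ ∈ zpowers zF ↔ α * ι x * α⁻¹ * (ι x)⁻¹ ∈ zpowers z := by
    intro x
    rw [← hιz, ← hιτ, Subgroup.mem_map_iff_mem hιinj]
  have hmemQ₀ : ∀ x : ↥F, ι x ∈ Q₀ ↔ τ x * x⁻¹ ∈ zpowers zF := by
    intro x
    rw [hQ₀, hmemZ]
    exact ⟨fun h => h.2, fun h => ⟨(hιQ _).mpr ⟨x, rfl⟩, h⟩⟩
  constructor
  · have himg : ((fun q : G => α * q * α⁻¹ * q⁻¹) '' (Q : Set G)) =
        ι '' (Set.range fun q : ↥F => τ q * q⁻¹) := by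
      ext g
      constructor
      · rintro ⟨q, hq, rfl⟩
        obtain ⟨x, rfl⟩ := (hιQ q).mp hq
        exact ⟨_, ⟨x, rfl⟩, hιτ x⟩
      · rintro ⟨_, ⟨x, rfl⟩, rfl⟩
        exact ⟨ι x, (hιQ _).mpr ⟨x, rfl⟩, (hιτ x).symm⟩
    rw [himg, ← MonoidHom.map_closure]
    ext g
    constructor
    · rintro ⟨x, hx, rfl⟩
      obtain ⟨hx1, hx2⟩ := (key x).mp hx
      have hxQ₀ : ι x ∈ Q₀ := (hmemQ₀ x).mpr hx1
      refine ⟨⟨ι x, hxQ₀⟩, ?_, rfl⟩
      rw [SetLike.mem_coe, mem_center_iff]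
      rintro ⟨v, hv⟩
      obtain ⟨y, rfl⟩ := (hιQ v).mp ((hQ₀ v).mp hv).1
      apply Subtype.ext
      show ι y * ι x = ι x * ι y
      rw [← map_mul, ← map_mul, hx2 y ((hmemQ₀ y).mp hv)]
    · rintro ⟨⟨u, hu⟩, hucen, rfl⟩
      obtain ⟨x, rfl⟩ := (hιQ u).mp ((hQ₀ u).mp hu).1
      refine ⟨x, (key x).mpr ?_, rfl⟩
      refine ⟨(hmemQ₀ x).mp hu, fun y hy => ?_⟩
      have hyQ₀ : ι y ∈ Q₀ := (hmemQ₀ y).mpr hy
      rw [SetLike.mem_coe, mem_center_iff] at hucen
      have h1 := congrArg (fun w : ↥Q₀ => (w : G)) (hucen ⟨ι y, hyQ₀⟩)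
      apply hιinj
      rw [map_mul, map_mul]
      exact h1.symm
  · intro hnot
    obtain ⟨q, hqQ₀, hq⟩ := SetLike.not_le_iff_exists.mp hnot
    obtain ⟨hqQ, hqz⟩ := (hQ₀ q).mp hqQ₀
    refine ⟨q, hqQ, ?_⟩
    rcases (hZ _).mp hqz with h | h
    · exfalso
      apply hq
      apply mem_sup_left
      refine mem_inf.mpr ⟨hqQ, ?_⟩
      rw [mem_centralizer_singleton_iff]
      have : α * q = q * α := by
        have e : α * q = (α * q * α⁻¹ * q⁻¹) * (q * α) := by group
        rw [e, h, one_mul]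
      exact this.symm
    · have hzinv : z⁻¹ = z := inv_eq_of_mul_eq_one_left hzz
      have h1 : q * α⁻¹ * q⁻¹ = α⁻¹ * z := by rw [← h]; group
      have h2 : q * α * q⁻¹ = (q * α⁻¹ * q⁻¹)⁻¹ := by group
      rw [h2, h1, mul_inv_rev, inv_inv, hzinv, hαz]

end Cfsg.Agent.S1784
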