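import Mathlib
import Cfsg.Statements.S1785
import Cfsg.Agent.Lib.Helper9.E8Chain
-- import your own Cfsg.Agent.* helpers here

set_option autoImplicit false
open Cfsg

namespace Cfsg.Agent.S1785

open Subgroup Cfsg.Agent.Helper9

/-- the commuting relation on elementary abelian subgroups of order 8 -/
def R {X : Type*} [Group X] (C D : Subgroup X) : Prop :=
  Cfsg.IsElementaryAbelian 2 C ∧ Nat.card ↥C = 8 ∧ Cfsg.IsElementaryAbelian 2 D ∧ Nat.card ↥D = 8 ∧
    ⁅C, D⁆ = ⊥

theorem R_symm {X : Type*} [Group X] : Symmetric (R (X := X)) := by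
  rintro C D ⟨h1, h2, h3, h4, h5⟩
  refine ⟨h3, h4, h1, h2, ?_⟩
  rw [Subgroup.commutator_comm]
  exact h5

theorem rtg_symm {α : Type*} {r : α → α → Prop} (hs : ∀ a b, r a b → r b a) {a b : α}
    (h : Relation.ReflTransGen r a b) : Relation.ReflTransGen r b a := by
  induction h with
  | refl => exact Relation.ReflTransGen.refl
  | tail _ hbc ih => exact Relation.ReflTransGen.head (hs _ _ hbc) ih

theorem chain_into {X : Type*} [Group X] [Finite X] (E : Subgroup X) [E.Normal] (hE : EA2 E)
    (hE32 : 32 ≤ Nat.card ↥E) :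
    ∀ n : ℕ, ∀ A : Subgroup X, EA2 A → Nat.card A = 8 → 8 - Nat.card ↥(A ⊓ E) ≤ n →
      ∃ A' : Subgroup X, EA2 A' ∧ Nat.card A' = 8 ∧ A' ≤ E ∧ Relation.ReflTransGen R A A' := by
  intro n
  induction n with
  | zero =>
    intro A hA hcard hn
    have h1 : A ⊓ E = A := by
      apply Subgroup.eq_of_le_of_card_ge inf_le_left
      omega
    exact ⟨A, hA, hcard, inf_eq_left.mp h1, Relation.ReflTransGen.refl⟩
  | succ n ih =>
    intro A hA hcard hn
    by_cases hAE : A ≤ E
    · exact ⟨A, hA, hcard, hAE, Relation.ReflTransGen.refl⟩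
    · obtain ⟨A₂, hA₂, hc₂, hcomm, hlt⟩ := e8_step E hE hE32 hA hAE hcard
      have hle : Nat.card ↥(A₂ ⊓ E) ≤ 8 := by
        rw [← hc₂]
        exact Subgroup.card_le_of_le inf_le_left
      obtain ⟨A', hA', hc', hA'E, hchain⟩ := ih A₂ hA₂ hc₂ (by omega)
      refine ⟨A', hA', hc', hA'E, Relation.ReflTransGen.head ?_ hchain⟩
      refine ⟨(ea2_iff A).mpr hA, hcard, (ea2_iff A₂).mpr hA₂, hc₂, ?_⟩
      rw [Subgroup.commutator_eq_bot_iff_le_centralizer]
      intro a ha
      rw [mem_centralizer_iff]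
      intro b hb
      exact (hcomm a ha b hb).symm

/-- Let X be a finite 2-group having a normal elementary abelian subgroup of order at least 32. Then (a) for any two elementary abelian subgroups A, B of X of order 8 there is a chain A = A₁, A₂, …, Aₙ = B of elementary abelian subgroups of order 8 in which consecutive members commute elementwise; and (b) every elementary abelian subgroup of X of order 4 is contained in an elementary abelian subgroup of order 8. -/
theorem result {X : Type*} [Group X] [Finite X]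
    (hX : IsPGroup 2 X) (E : Subgroup X) [E.Normal] (hE : Cfsg.IsElementaryAbelian 2 E) (hE32 : 32 ≤ Nat.card ↥E) :
    (∀ A B : Subgroup X, Cfsg.IsElementaryAbelian 2 A → Nat.card ↥A = 8 → Cfsg.IsElementaryAbelian 2 B → Nat.card ↥B = 8 →
        Relation.ReflTransGen
          (fun C D : Subgroup X => Cfsg.IsElementaryAbelian 2 C ∧ Nat.card ↥C = 8 ∧ Cfsg.IsElementaryAbelian 2 D ∧ Nat.card ↥D = 8 ∧ ⁅C, D⁆ = ⊥)
          A B) ∧
      (∀ V : Subgroup X, Cfsg.IsElementaryAbelian 2 V → Nat.card ↥V = 4 →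
        ∃ A : Subgroup X, V ≤ A ∧ Cfsg.IsElementaryAbelian 2 A ∧ Nat.card ↥A = 8) := by
  have hE' : EA2 E := (ea2_iff E).mp hE
  constructor
  · intro A B hA hcA hB hcB
    obtain ⟨A', hA', hcA', hA'E, hchA⟩ := chain_into E hE' hE32 _ A ((ea2_iff A).mp hA) hcA le_rfl
    obtain ⟨B', hB', hcB', hB'E, hchB⟩ := chain_into E hE' hE32 _ B ((ea2_iff B).mp hB) hcB le_rfl
    have hAB : R A' B' := by
      refine ⟨(ea2_iff A').mpr hA', hcA', (ea2_iff B').mpr hB', hcB', ?_⟩
      rw [Subgroup.commutator_eq_bot_iff_le_centralizer]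
      intro a ha
      rw [mem_centralizer_iff]
      intro b hb
      exact hE'.1 b (hB'E hb) a (hA'E ha)
    have hchB' : Relation.ReflTransGen R B' B := rtg_symm (fun a b h => R_symm h) hchB
    exact hchA.trans ((Relation.ReflTransGen.single hAB).trans hchB')
  · intro V hV hcV
    have hV' : EA2 V := (ea2_iff V).mp hV
    have key : ∃ e ∈ E, (∀ a ∈ V, e * a = a * e) ∧ e ∉ V := by
      by_cases hVE : V ≤ E
      · have : ∃ e ∈ E, e ∉ V := by
          by_contra hcon
          have hle : E ≤ V := fun e he => by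
            by_contra h
            exact hcon ⟨e, he, h⟩
          have := Subgroup.card_le_of_le hle
          omega
        obtain ⟨e, heE, heV⟩ := this
        exact ⟨e, heE, fun a ha => hE'.1 e heE a (hVE ha), heV⟩
      · exact exists_centralizing_outside E hE' hE32 hV' hVE (m := 2) (by norm_num)
          (by rw [hcV]; norm_num)
    obtain ⟨e, heE, hec, heV⟩ := key
    have he2 : e * e = 1 := hE'.2 e heE
    refine ⟨V ⊔ zpowers e, le_sup_left, (ea2_iff _).mpr (ea2_sup_zpowers hV' he2 hec), ?_⟩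
    rw [card_sup_zpowers he2 hec heV, hcV]

end Cfsg.Agent.S1785
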