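import Mathlib
import Cfsg.Statements.S1850
import Cfsg.Agent.Lib.Helper10.CharPChain
-- import your own Cfsg.Agent.* helpers here

set_option autoImplicit false
open Cfsg

namespace Cfsg.Agent.S1850
open Cfsg.Agent.Helper7 Cfsg.Agent.Helper10.CharPChain in

/-- Let G be a non-abelian finite simple QTKE-group and T a Sylow 2-subgroup of G. If U is a nontrivial 2-subgroup of G with U ∩ Z(T) ≠ 1, then F*(N_G(U)) = O₂(N_G(U)). -/
theorem result {G : Type*} [Group G] [Finite G] [IsSimpleGroup G]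
    (hG : ¬ IsMulCommutative G) (hQ : Cfsg.IsQTKE G) (T : Sylow 2 G) (U : Subgroup G)
    (hU : IsPGroup 2 ↥U) (hZ : U ⊓ ((T : Subgroup G) ⊓ Subgroup.centralizer ((T : Subgroup G) : Set G)) ≠ ⊥) :
    Subgroup.normalizer (U : Set G) ∈ Cfsg.calHe G := by
  obtain ⟨z, hz1⟩ := (Subgroup.ne_bot_iff_exists_ne_one).mp hZ
  obtain ⟨hzU, hzT, hzC⟩ : (z : G) ∈ U ∧ (z : G) ∈ (T : Subgroup G) ∧
      (z : G) ∈ Subgroup.centralizer ((T : Subgroup G) : Set G) := by
    have := z.2
    exact ⟨this.1, this.2.1, this.2.2⟩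
  have hz1' : (z : G) ≠ 1 := fun h => hz1 (Subtype.ext h)
  set W : Subgroup G := Subgroup.zpowers (z : G) with hW
  have hWU : W ≤ U := Subgroup.zpowers_le.mpr hzU
  have hW2 : IsPGroup 2 ↥W := hU.to_le hWU
  have hWne : W ≠ ⊥ := by
    intro h
    have : (z : G) ∈ W := Subgroup.mem_zpowers _
    rw [h, Subgroup.mem_bot] at this
    exact hz1' this
  have hTW : (T : Subgroup G) ≤ Subgroup.normalizer (W : Set G) := by
    refine le_trans ?_ (Subgroup.centralizer_le_normalizer _)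
    intro t ht
    rw [Subgroup.mem_centralizer_iff]
    intro w hw
    obtain ⟨n, rfl⟩ := Subgroup.mem_zpowers_iff.mp hw
    have h1 : t * (z : G) = (z : G) * t := Subgroup.mem_centralizer_iff.mp hzC t ht
    have h2 : Commute (z : G) t := h1.symm
    exact (h2.zpow_left n).eq
  have hloc : Cfsg.IsTwoLocal (Subgroup.normalizer (W : Set G)) := ⟨W, hW2, hWne, rfl⟩
  have hchar : Cfsg.IsOfCharacteristicTwo ↥(Subgroup.normalizer (W : Set G)) :=
    hQ.2.2 _ hloc ⟨T, hTW⟩
  have hmain := charp_normalizer_of_le 2 U W hWU hU hchar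
  exact generalizedFittingSubgroup_eq_pCore_of_centralizer_le 2 hmain

end Cfsg.Agent.S1850
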