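import Mathlib
import Cfsg.Statements.S1892
import Mathlib
import Cfsg.Agent.Lib.Helper10.ThreeSub
import Cfsg.Agent.Lib.Helper10.Cores
import Cfsg.Agent.Lib.Helper23.PSolvable
import Cfsg.Agent.Lib.Helper7.Coprime
-- import your own Cfsg.Agent.* helpers here

set_option autoImplicit false
open Cfsg

namespace Cfsg.Agent.S1892

/-- Let S be a finite p-solvable group with no nontrivial normal subgroup of order prime to p, A a p-subgroup of S, and Q a nontrivial A-invariant subgroup of order prime to p with [A, Q] = Q. Then the commutator [O_p(S), A, Q] is nontrivial. -/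
theorem result {S : Type*} [Group S] [Finite S] {p : ℕ} [Fact p.Prime]
    (hS : Cfsg.IsPSolvable p S) (hred : Cfsg.pPrimeCore p S = ⊥)
    (A Q : Subgroup S) (hA : IsPGroup p A) (hQ : ¬ p ∣ Nat.card Q) (hQ1 : Q ≠ ⊥)
    (hinv : ∀ a ∈ A, ∀ x ∈ Q, a * x * a⁻¹ ∈ Q) (hAQ : ⁅A, Q⁆ = Q) :
    ⁅⁅Cfsg.pCore p S, A⁆, Q⁆ ≠ ⊥ := by
  classical
  intro hbot
  set P := Cfsg.pCore p S with hP
  haveI hPn : P.Normal := Cfsg.Agent.Helper10.pCore_normal p
  have hPp : IsPGroup p ↥P := Cfsg.Agent.Helper10.pCore_isPGroup p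
  set N := ⁅P, A⁆ with hN
  have hPN : P ≤ Subgroup.normalizer (N : Set S) :=
    Cfsg.Agent.Helper10.le_normalizer_commutator_left P A
  have hAN : A ≤ Subgroup.normalizer (N : Set S) :=
    Cfsg.Agent.Helper10.le_normalizer_commutator_right P A
  have hQN : Q ≤ Subgroup.normalizer (N : Set S) := by
    have h1 : ⁅Q, N⁆ = ⊥ := by rw [Subgroup.commutator_comm]; exact hbot
    exact Cfsg.Agent.Helper7.le_normalizer_of_commutator_eq_bot h1
  -- three subgroups modulo N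
  have h1 : ⁅⁅Q, P⁆, A⁆ ≤ N := by
    have : ⁅Q, P⁆ ≤ P := Subgroup.commutator_le_right Q P
    exact Subgroup.commutator_mono this le_rfl
  have h2 : ⁅⁅P, A⁆, Q⁆ ≤ N := by rw [hbot]; exact bot_le
  have h3 : ⁅⁅A, Q⁆, P⁆ ≤ N := Cfsg.Agent.Helper10.three_subgroups_mod hAN hQN hPN h1 h2
  rw [hAQ] at h3
  have h4 : ⁅⁅P, Q⁆, Q⁆ = ⊥ := by
    rw [eq_bot_iff, ← hbot, Subgroup.commutator_comm P Q]
    exact Subgroup.commutator_mono h3 le_rfl
  have hcop : (Nat.card ↥Q).Coprime (Nat.card ↥P) := by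
    obtain ⟨n, hn⟩ := IsPGroup.iff_card.mp hPp
    rw [hn]
    exact Nat.Coprime.pow_right n
      ((Nat.Prime.coprime_iff_not_dvd (Fact.out : p.Prime)).mpr hQ).symm
  have hQnP : Q ≤ Subgroup.normalizer (P : Set S) := by
    rw [Subgroup.normalizer_eq_top]; exact le_top
  have h5 : P ≤ Subgroup.centralizer (Q : Set S) :=
    Cfsg.Agent.Helper7.le_centralizer_of_commutator_commutator_eq_bot hcop hQnP h4
  have h6 : Q ≤ Subgroup.centralizer (P : Set S) := Subgroup.le_centralizer_iff.mp h5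
  have h7 : Q ≤ P := h6.trans (Cfsg.Agent.Helper23.PSolv.centralizer_pCore_le hS hred)
  apply hQ1
  have h8 : Nat.card ↥Q ∣ Nat.card ↥P := Subgroup.card_dvd_of_le h7
  have h9 : Nat.card ↥Q = 1 := Nat.Coprime.eq_one_of_dvd hcop h8
  exact Subgroup.card_eq_one.mp h9

end Cfsg.Agent.S1892
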