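import Mathlib
import Cfsg.Statements.S1893
import Cfsg.Agent.Lib.Helper14.ScnCent2

set_option autoImplicit false
open Cfsg

namespace Cfsg.Agent.S1893

/-- Let S be a finite solvable group, π a set of primes containing neither 2 nor 3, H a Hall π-subgroup of S, and A a self-centralizing normal subgroup of the Fitting subgroup F(H). Then C_S(A) = A × D for a normal subgroup D of C_S(A) whose order has no prime divisor in π. -/
theorem result {S : Type*} [Group S] [Finite S] [Group.IsSolvable S]
    (π : Set ℕ) (h2 : 2 ∉ π) (h3 : 3 ∉ π) (H : Subgroup S) (hH : Cfsg.IsPiHall π H)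
    (A : Subgroup S) (hA : Cfsg.IsSCN ((Cfsg.fittingSubgroup H).map H.subtype) A) :
    ∃ D : Subgroup S, D ≤ Subgroup.centralizer (A : Set S) ∧
      (∀ c ∈ Subgroup.centralizer (A : Set S), ∀ d ∈ D, c * d * c⁻¹ ∈ D) ∧
      A ⊓ D = ⊥ ∧ A ⊔ D = Subgroup.centralizer (A : Set S) ∧
      ∀ q : ℕ, q.Prime → q ∣ Nat.card D → q ∉ π := by
  have hAab : A ≤ Subgroup.centralizer (A : Set S) := by
    have h := hA.2.2
    intro a ha
    rw [← h] at ha
    exact (Subgroup.mem_inf.1 ha).2
  have hAH : A ≤ H := hA.1.trans (Subgroup.map_subtype_le _)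
  apply Cfsg.Agent.Helper14.ScnCent.exists_complement_of_pi_elements π A hAab
  · intro q hq hd
    exact hH.1 q hq (hd.trans (Subgroup.card_dvd_of_le hAH))
  · intro r hr hrπ y hy hyr
    haveI : Fact r.Prime := ⟨hr⟩
    have hr5 : 5 ≤ r := by
      by_contra hlt
      have h1 := hr.two_le
      have : r = 2 ∨ r = 3 ∨ r = 4 := by omega
      rcases this with rfl | rfl | rfl
      · exact h2 hrπ
      · exact h3 hrπ
      · exact absurd hr (by norm_num)
    exact Cfsg.Agent.Helper14.ScnCent.mem_of_pElement π H hH A hA r hr5 hrπ y hy hyr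

end Cfsg.Agent.S1893
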