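import Mathlib
import Cfsg.Statements.S1896
import Cfsg.Agent.Lib.Helper10.MetaTwo3
-- import your own Cfsg.Agent.* helpers here

set_option autoImplicit false
open Cfsg

namespace Cfsg.Agent.S1896

/-- A finite metacyclic 2-group whose automorphism group is not a 2-group is isomorphic to the quaternion group of order 8 or to a homocyclic abelian group Z_{2^n} × Z_{2^n}. -/
theorem result {X : Type*} [Group X] [Finite X] (hX : IsPGroup 2 X)
    (hm : Cfsg.IsMetacyclic X) (hA : ¬ IsPGroup 2 (MulAut X)) :
    Nonempty (X ≃* QuaternionGroup 2) ∨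
      ∃ n : ℕ, Nonempty (X ≃* Multiplicative (ZMod (2 ^ n)) × Multiplicative (ZMod (2 ^ n))) := by
  obtain ⟨α, r, hr, hαr, hα1⟩ := Helper10.exists_odd_aut hA
  have h2g := Helper10.twoGen_of_isMetacyclic hm
  by_cases hab : ∀ u v : X, u * v = v * u
  · right
    letI : CommGroup X := { ‹Group X› with mul_comm := hab }
    obtain ⟨n, -, -, -, -, hiso⟩ := Helper10.abelian_case hX h2g α r hr hαr hα1
    exact ⟨n, hiso⟩
  · left
    have h4 := Helper10.index_commutator_of_metacyclic hX hm α r hr hαr hα1 hab
    refine Cfsg.Agent.S4189.result hX ?_ h4 hA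
    intro hc
    exact hab (fun u v => hc.is_comm.comm u v)

end Cfsg.Agent.S1896
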