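import Mathlib
import Cfsg.Statements.S1898
-- import your own Cfsg.Agent.* helpers here

set_option autoImplicit false
open Cfsg

namespace Cfsg.Agent.S1898
open scoped commutatorElement

/-- commutators are central of order dividing 2 -/
theorem comm_props {X : Type*} [Group X]
    (hel : Cfsg.IsElementaryAbelian 2 (commutator X)) (hcen : commutator X ≤ Subgroup.center X)
    (a b : X) : (∀ g : X, ⁅a, b⁆ * g = g * ⁅a, b⁆) ∧ ⁅a, b⁆ * ⁅a, b⁆ = 1 := by
  have hmem : ⁅a, b⁆ ∈ commutator X := by
    rw [commutator_def]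
    exact Subgroup.commutator_mem_commutator (Subgroup.mem_top a) (Subgroup.mem_top b)
  refine ⟨fun g => ?_, ?_⟩
  · exact ((Subgroup.mem_center_iff.mp (hcen hmem)) g).symm
  · have := hel.2 _ hmem
    rwa [pow_two] at this

theorem mul_eq_comm_mul {X : Type*} [Group X] (a b : X) : a * b = ⁅a, b⁆ * (b * a) := by
  rw [commutatorElement_def]; group

/-- squares are central -/
theorem sq_central {X : Type*} [Group X]
    (hel : Cfsg.IsElementaryAbelian 2 (commutator X)) (hcen : commutator X ≤ Subgroup.center X)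
    (x y : X) : x * (y * y) = (y * y) * x := by
  obtain ⟨hc, hcc⟩ := comm_props hel hcen x y
  have h1 : x * y = ⁅x, y⁆ * (y * x) := mul_eq_comm_mul x y
  calc x * (y * y) = (x * y) * y := by group
    _ = ⁅x, y⁆ * (y * x) * y := by rw [← h1]
    _ = ⁅x, y⁆ * y * (x * y) := by group
    _ = ⁅x, y⁆ * y * (⁅x, y⁆ * (y * x)) := by rw [← h1]
    _ = (⁅x, y⁆ * y * ⁅x, y⁆) * (y * x) := by group
    _ = (y * ⁅x, y⁆ * ⁅x, y⁆) * (y * x) := by rw [hc y]
    _ = y * (⁅x, y⁆ * ⁅x, y⁆) * (y * x) := by group
    _ = (y * y) * x := by rw [hcc]; group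

theorem mul_pow_four {X : Type*} [Group X]
    (hel : Cfsg.IsElementaryAbelian 2 (commutator X)) (hcen : commutator X ≤ Subgroup.center X)
    (x y : X) (hx : x ^ 4 = 1) (hy : y ^ 4 = 1) : (x * y) ^ 4 = 1 := by
  obtain ⟨hc, hcc⟩ := comm_props hel hcen y x
  have h1 : y * x = ⁅y, x⁆ * (x * y) := mul_eq_comm_mul y x
  -- (xy)^2 = c x^2 y^2
  have h2 : (x * y) * (x * y) = ⁅y, x⁆ * ((x * x) * (y * y)) := by
    calc (x * y) * (x * y) = x * (y * x) * y := by group
      _ = x * (⁅y, x⁆ * (x * y)) * y := by rw [← h1]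
      _ = (x * ⁅y, x⁆) * (x * y) * y := by group
      _ = (⁅y, x⁆ * x) * (x * y) * y := by rw [hc x]
      _ = ⁅y, x⁆ * ((x * x) * (y * y)) := by group
  have hxx : ∀ g : X, g * (x * x) = (x * x) * g := fun g => sq_central hel hcen g x
  have hyy : ∀ g : X, g * (y * y) = (y * y) * g := fun g => sq_central hel hcen g y
  have hx4 : (x * x) * (x * x) = 1 := by
    have : x ^ 4 = (x * x) * (x * x) := by simp only [pow_succ, pow_zero, one_mul, mul_assoc]
    rw [← this, hx]
  have hy4 : (y * y) * (y * y) = 1 := by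
    have : y ^ 4 = (y * y) * (y * y) := by simp only [pow_succ, pow_zero, one_mul, mul_assoc]
    rw [← this, hy]
  calc (x * y) ^ 4 = ((x * y) * (x * y)) * ((x * y) * (x * y)) := by simp only [pow_succ, pow_zero, one_mul, mul_assoc]
    _ = (⁅y, x⁆ * ((x * x) * (y * y))) * (⁅y, x⁆ * ((x * x) * (y * y))) := by rw [h2]
    _ = ⁅y, x⁆ * (((x * x) * (y * y)) * ⁅y, x⁆) * ((x * x) * (y * y)) := by group
    _ = ⁅y, x⁆ * (⁅y, x⁆ * ((x * x) * (y * y))) * ((x * x) * (y * y)) := by rw [← hc ((x * x) * (y * y))]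
    _ = (⁅y, x⁆ * ⁅y, x⁆) * ((x * x) * ((y * y) * (x * x)) * (y * y)) := by group
    _ = (x * x) * ((y * y) * (x * x)) * (y * y) := by rw [hcc, one_mul]
    _ = (x * x) * ((x * x) * (y * y)) * (y * y) := by rw [hxx (y * y)]
    _ = ((x * x) * (x * x)) * ((y * y) * (y * y)) := by group
    _ = 1 := by rw [hx4, hy4, one_mul]

/-- key step: an automorphism fixing all elements with `g^4 = 1`, with odd order `m`, is trivial. -/
theorem aut_trivial_of_odd {X : Type*} [Group X] (hX : IsPGroup 2 X)
    (hel : Cfsg.IsElementaryAbelian 2 (commutator X)) (hcen : commutator X ≤ Subgroup.center X)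
    (ψ : MulAut X) (hfix : ∀ g : X, g ^ 4 = 1 → ψ g = g) (m : ℕ) (hm : Odd m) (hψm : ψ ^ m = 1) :
    ψ = 1 := by
  have key : ∀ k : ℕ, ∀ x : X, x ^ (2 ^ k) = 1 → ψ x = x := by
    intro k
    induction k with
    | zero =>
      intro x hx
      apply hfix
      have : x = 1 := by simpa using hx
      rw [this, one_pow]
    | succ k ih =>
      intro x hx
      have hx2 : (x * x) ^ (2 ^ k) = 1 := by
        rw [← pow_two, ← pow_mul, ← pow_succ']
        exact hx
      have h1 : ψ (x * x) = x * x := ih _ hx2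
      set c := x⁻¹ * ψ x with hc
      have hψx : ψ x = x * c := by rw [hc]; group
      have h2 : (x * c) * (x * c) = x * x := by rw [← hψx, ← map_mul, h1]
      obtain ⟨hd, hdd⟩ := comm_props hel hcen c x
      have h3 : c * x = ⁅c, x⁆ * (x * c) := mul_eq_comm_mul c x
      have h4 : (x * c) * (x * c) = (x * x) * (⁅c, x⁆ * (c * c)) := by
        calc (x * c) * (x * c) = x * (c * x) * c := by group
          _ = x * (⁅c, x⁆ * (x * c)) * c := by rw [← h3]
          _ = (x * ⁅c, x⁆) * x * (c * c) := by group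
          _ = (⁅c, x⁆ * x) * x * (c * c) := by rw [hd x]
          _ = ⁅c, x⁆ * (x * x) * (c * c) := by group
          _ = (x * x) * ⁅c, x⁆ * (c * c) := by rw [hd (x * x)]
          _ = (x * x) * (⁅c, x⁆ * (c * c)) := by group
      have h5 : ⁅c, x⁆ * (c * c) = 1 := by
        have : (x * x) * (⁅c, x⁆ * (c * c)) = (x * x) * 1 := by rw [← h4, h2, mul_one]
        exact mul_left_cancel this
      have h6 : c * c = ⁅c, x⁆ := by
        have : c * c = ⁅c, x⁆⁻¹ := eq_inv_of_mul_eq_one_right h5
        rw [this]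
        exact inv_eq_of_mul_eq_one_right hdd
      have hc4 : c ^ 4 = 1 := by
        have : c ^ 4 = (c * c) * (c * c) := by simp only [pow_succ, pow_zero, one_mul, mul_assoc]
        rw [this, h6, hdd]
      have hψc : ψ c = c := hfix c hc4
      have hiter : ∀ j : ℕ, (ψ ^ j) x = x * c ^ j := by
        intro j
        induction j with
        | zero => simp
        | succ j ihj =>
          rw [pow_succ', MulAut.mul_apply, ihj, map_mul, map_pow, hψc, hψx]
          group
      have h7 := hiter m
      rw [hψm, MulAut.one_apply] at h7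
      have hcm : c ^ m = 1 := by
        have : x * 1 = x * c ^ m := by rw [mul_one]; exact h7
        exact (mul_left_cancel this).symm
      -- c^4 = 1, c^m = 1, m odd → c = 1
      have hord : orderOf c ∣ Nat.gcd 4 m := Nat.dvd_gcd (orderOf_dvd_of_pow_eq_one hc4) (orderOf_dvd_of_pow_eq_one hcm)
      have hgcd : Nat.gcd 4 m = 1 := by
        have h2m : Nat.Coprime 2 m := (Nat.coprime_two_left).mpr hm
        have : Nat.Coprime (2 ^ 2) m := Nat.Coprime.pow_left 2 h2m
        simpa using this
      rw [hgcd, Nat.dvd_one, orderOf_eq_one_iff] at hord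
      rw [hψx, hord, mul_one]
  ext x
  obtain ⟨k, hk⟩ := hX x
  rw [MulAut.one_apply]
  exact key k x hk

/-- Let X be a finite 2-group whose derived subgroup is elementary abelian and central. Then the subgroup generated by the elements of order dividing 4 has exponent dividing 4, and every automorphism of X fixing each element of order dividing 4 has 2-power order. -/
theorem result {X : Type*} [Group X] [Finite X] (hX : IsPGroup 2 X)
    (hel : Cfsg.IsElementaryAbelian 2 (commutator X)) (hcen : commutator X ≤ Subgroup.center X) :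
    (∀ x ∈ Subgroup.closure {g : X | g ^ 4 = 1}, x ^ 4 = 1) ∧
      ∀ φ : MulAut X, (∀ g : X, g ^ 4 = 1 → φ g = g) → ∃ k : ℕ, φ ^ (2 ^ k) = 1 := by
  constructor
  · intro x hx
    induction hx using Subgroup.closure_induction with
    | mem g hg => exact hg
    | one => exact one_pow 4
    | mul a b _ _ ha hb => exact mul_pow_four hel hcen a b ha hb
    | inv a _ ha => rw [inv_pow, ha, inv_one]
  · intro φ hφ
    have hfin : orderOf φ ≠ 0 := (orderOf_pos φ).ne'
    obtain ⟨k, m, hm, hkm⟩ := Nat.exists_eq_two_pow_mul_odd hfin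
    refine ⟨k, ?_⟩
    apply aut_trivial_of_odd hX hel hcen (φ ^ (2 ^ k)) ?_ m hm ?_
    · intro g hg
      have : ∀ j : ℕ, (φ ^ j) g = g := by
        intro j
        induction j with
        | zero => simp
        | succ j ih => rw [pow_succ', MulAut.mul_apply, ih, hφ g hg]
      exact this _
    · rw [← pow_mul, ← hkm, pow_orderOf_eq_one]

end Cfsg.Agent.S1898
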