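import Mathlib
import Cfsg.Statements.S1899
-- import your own Cfsg.Agent.* helpers here

set_option autoImplicit false
open Cfsg

namespace Cfsg.Agent.S1899

/-- Let a dihedral group of order 2n, n odd and n > 1, act on a finite abelian 2-group A through automorphisms d and t with d^n = 1, t² = 1 and t d t⁻¹ = d⁻¹, and suppose that d fixes only the identity. Then A is the internal direct product of C_A(t) and its image under d. -/
theorem result {A : Type*} [CommGroup A] [Finite A] (hA : IsPGroup 2 A)
    {n : ℕ} (hn : Odd n) (hn1 : 1 < n) (d t : MulAut A) (hd : d ^ n = 1) (ht : t ^ 2 = 1) (hdt : t * d * t⁻¹ = d⁻¹)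
    (hfix : ∀ a : A, d a = a → a = 1) :
    (MulEquiv.toMonoidHom t).eqLocus (MonoidHom.id A) ⊓ ((MulEquiv.toMonoidHom t).eqLocus (MonoidHom.id A)).map d.toMonoidHom = ⊥ ∧
      (MulEquiv.toMonoidHom t).eqLocus (MonoidHom.id A) ⊔ ((MulEquiv.toMonoidHom t).eqLocus (MonoidHom.id A)).map d.toMonoidHom = ⊤ := by
  -- basic identities
  have F1 : ∀ x : A, t (t x) = x := by
    intro x
    have := congrArg (fun f : MulAut A => f x) ht
    simpa [pow_two, MulAut.mul_apply] using this
  have F2 : ∀ x : A, t (d x) = d⁻¹ (t x) := by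
    intro x
    have h : t * d = d⁻¹ * t := by
      calc t * d = (t * d * t⁻¹) * t := by group
        _ = d⁻¹ * t := by rw [hdt]
    have := congrArg (fun f : MulAut A => f x) h
    simpa [MulAut.mul_apply] using this
  have F3 : ∀ x : A, d (d x) = x → d x = x := by
    intro x hx
    obtain ⟨k, hk⟩ := hn
    have h1 : ∀ j : ℕ, (d ^ (2 * j)) x = x := by
      intro j
      induction j with
      | zero => simp
      | succ j ih =>
        have : d ^ (2 * (j + 1)) = d ^ (2 * j) * (d * d) := by
          rw [mul_add, pow_add]; simp [pow_two]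
        rw [this, MulAut.mul_apply, MulAut.mul_apply, hx, ih]
    have h2 : d ^ (2 * (k + 1)) = d := by
      have : 2 * (k + 1) = n + 1 := by omega
      rw [this, pow_succ, hd, one_mul]
    have := h1 (k + 1)
    rwa [h2] at this
  have dinv_d : ∀ x : A, d⁻¹ (d x) = x := fun x => by simp
  have d_dinv : ∀ x : A, d (d⁻¹ x) = x := fun x => by simp
  constructor
  · rw [eq_bot_iff]
    rintro x ⟨hx1, hx2⟩
    rw [Subgroup.mem_bot]
    obtain ⟨c, hc, rfl⟩ := hx2
    have hc' : t c = c := hc
    have hx1' : t (d c) = d c := hx1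
    rw [F2, hc'] at hx1'
    -- d⁻¹ c = d c
    have h3 : d (d c) = c := by
      have := congrArg d hx1'
      rw [d_dinv] at this
      exact this.symm
    have h4 := F3 c h3
    have h5 := hfix c h4
    show d c = 1
    rw [h5, map_one]
  · rw [eq_top_iff]
    intro a _
    -- the homomorphism b ↦ e b * b⁻¹ with e = d⁻¹ d⁻¹
    let ψ : A →* A :=
      { toFun := fun b => d⁻¹ (d⁻¹ b) * b⁻¹
        map_one' := by simp
        map_mul' := by
          intro x y
          simp only [map_mul, mul_inv]
          exact mul_mul_mul_comm _ _ _ _ }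
    have hinj : Function.Injective ψ := by
      rw [injective_iff_map_eq_one]
      intro b hb
      have hb' : d⁻¹ (d⁻¹ b) * b⁻¹ = 1 := hb
      have h1 : d⁻¹ (d⁻¹ b) = b := by
        have := mul_inv_eq_one.mp hb'
        exact this
      have h2 : d (d b) = b := by
        have := congrArg (fun y => d (d y)) h1
        simp only [d_dinv] at this
        exact this.symm
      exact hfix b (F3 b h2)
    have hsurj : Function.Surjective ψ := Finite.injective_iff_surjective.mp hinj
    obtain ⟨b, hb⟩ := hsurj a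
    have hb' : d⁻¹ (d⁻¹ b) * b⁻¹ = a := hb
    set b' := d⁻¹ b with hb'def
    have hdb' : d b' = b := d_dinv b
    -- u ∈ C, w ∈ C
    set sb := d (t b') with hsb
    have htsb : t sb = d⁻¹ b' := by rw [hsb, F2, F1]
    have hu : sb * t sb ∈ (MulEquiv.toMonoidHom t).eqLocus (MonoidHom.id A) := by
      show t (sb * t sb) = sb * t sb
      rw [map_mul, F1, mul_comm]
    have hw : (b' * t b')⁻¹ ∈ (MulEquiv.toMonoidHom t).eqLocus (MonoidHom.id A) := by
      show t ((b' * t b')⁻¹) = (b' * t b')⁻¹
      rw [map_inv, map_mul, F1, mul_comm]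
    have hv : (b * sb)⁻¹ ∈ ((MulEquiv.toMonoidHom t).eqLocus (MonoidHom.id A)).map d.toMonoidHom := by
      refine ⟨(b' * t b')⁻¹, hw, ?_⟩
      show d ((b' * t b')⁻¹) = (b * sb)⁻¹
      rw [map_inv, map_mul, hdb']
    have ha : a = (sb * t sb) * (b * sb)⁻¹ := by
      rw [← hb', htsb, mul_inv]
      -- d⁻¹ b' * b⁻¹ = sb * d⁻¹ b' * (b⁻¹ * sb⁻¹)
      rw [mul_comm sb, mul_assoc, ← mul_assoc sb, mul_comm sb b⁻¹, mul_assoc, mul_inv_cancel, mul_one]
    rw [ha]
    exact Subgroup.mul_mem_sup hu hv

end Cfsg.Agent.S1899
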