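import Mathlib
import Cfsg.Statements.S1900
import Mathlib
import Cfsg.Agent.Lib.Helper10.TwoFixers
-- import your own Cfsg.Agent.* helpers here

set_option autoImplicit false
open Cfsg

namespace Cfsg.Agent.S1900

theorem centralizer_zpowers_eq_singleton {G : Type*} [Group G] (x : G) :
    Subgroup.centralizer ((Subgroup.zpowers x : Subgroup G) : Set G) = Subgroup.centralizer ({x} : Set G) := by
  apply le_antisymm
  · exact Subgroup.centralizer_le (by
      intro z hz
      rw [Set.mem_singleton_iff] at hz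
      rw [hz]; exact Subgroup.mem_zpowers x)
  · intro g hg
    rw [Subgroup.mem_centralizer_iff] at hg ⊢
    intro z hz
    obtain ⟨k, rfl⟩ := Subgroup.mem_zpowers_iff.mp hz
    have h1 : Commute x g := hg x (Set.mem_singleton x)
    exact (h1.zpow_left k)

theorem exists_gen_of_prime_card {G : Type*} [Group G] [Finite G] {q : ℕ} [Fact q.Prime]
    (X : Subgroup G) (hX : Nat.card X = q) : ∃ x ∈ X, x ≠ 1 ∧ Subgroup.zpowers x = X := by
  have hq : q.Prime := Fact.out
  have hne : X ≠ ⊥ := by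
    rw [← Subgroup.one_lt_card_iff_ne_bot, hX]; exact hq.one_lt
  obtain ⟨⟨x, hx⟩, hx1'⟩ := Subgroup.ne_bot_iff_exists_ne_one.mp hne
  have hx1 : x ≠ 1 := fun h => hx1' (Subtype.ext h)
  refine ⟨x, hx, hx1, ?_⟩
  have hle : Subgroup.zpowers x ≤ X := Subgroup.zpowers_le.mpr hx
  have hxq : x ^ q = 1 := by
    have := pow_card_eq_one' (G := ↥X) (x := ⟨x, hx⟩)
    rw [hX] at this
    exact congrArg Subtype.val this
  have ho : orderOf x = q := orderOf_eq_prime hxq hx1
  exact Subgroup.eq_of_le_of_card_ge hle (by rw [Nat.card_zpowers, ho, hX])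

/-- Let S = PQ be a finite group with P a normal Sylow p-subgroup and Q elementary abelian of order q², q a prime different from p. If exactly two subgroups X₁, X₂ of order q in Q have a nontrivial centralizer in P, then P is the internal direct product of C_P(X₁) and C_P(X₂): they commute elementwise, meet trivially and generate P. -/
theorem result {S : Type*} [Group S] [Finite S] {p q : ℕ} [Fact p.Prime] [Fact q.Prime] (hpq : p ≠ q)
    (P : Sylow p S) [(P : Subgroup S).Normal] (Q : Subgroup S) (hQ : Cfsg.IsElementaryAbelian q Q) (hQc : Nat.card Q = q ^ 2)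
    (hS : (P : Subgroup S) ⊔ Q = ⊤)
    (X₁ X₂ : Subgroup S) (h₁ : X₁ ≤ Q) (h₂ : X₂ ≤ Q) (h₁₂ : X₁ ≠ X₂) (hc₁ : Nat.card X₁ = q) (hc₂ : Nat.card X₂ = q)
    (hf₁ : (P : Subgroup S) ⊓ Subgroup.centralizer (X₁ : Set S) ≠ ⊥)
    (hf₂ : (P : Subgroup S) ⊓ Subgroup.centralizer (X₂ : Set S) ≠ ⊥)
    (honly : ∀ X : Subgroup S, X ≤ Q → Nat.card X = q →
      (P : Subgroup S) ⊓ Subgroup.centralizer (X : Set S) ≠ ⊥ → X = X₁ ∨ X = X₂) :
    ⁅(P : Subgroup S) ⊓ Subgroup.centralizer (X₁ : Set S), (P : Subgroup S) ⊓ Subgroup.centralizer (X₂ : Set S)⁆ = ⊥ ∧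
      ((P : Subgroup S) ⊓ Subgroup.centralizer (X₁ : Set S)) ⊓ ((P : Subgroup S) ⊓ Subgroup.centralizer (X₂ : Set S)) = ⊥ ∧
      ((P : Subgroup S) ⊓ Subgroup.centralizer (X₁ : Set S)) ⊔ ((P : Subgroup S) ⊓ Subgroup.centralizer (X₂ : Set S)) = P := by
  classical
  have hq : q.Prime := Fact.out
  obtain ⟨x₁, hx₁X, hx₁1, hgen₁⟩ := exists_gen_of_prime_card X₁ hc₁
  obtain ⟨x₂, hx₂X, hx₂1, hgen₂⟩ := exists_gen_of_prime_card X₂ hc₂
  have hC₁ : Subgroup.centralizer (X₁ : Set S) = Subgroup.centralizer ({x₁} : Set S) := by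
    rw [← hgen₁]; exact centralizer_zpowers_eq_singleton x₁
  have hC₂ : Subgroup.centralizer (X₂ : Set S) = Subgroup.centralizer ({x₂} : Set S) := by
    rw [← hgen₂]; exact centralizer_zpowers_eq_singleton x₂
  have hne_of : ∀ {A B : Subgroup S}, Nat.card A = q → Nat.card B = q → A ≠ B → ∀ {b : S}, b ≠ 1 →
      Subgroup.zpowers b = B → b ∉ A := by
    intro A B hA hB hAB b hb1 hgen hbA
    apply hAB
    have hle : B ≤ A := by rw [← hgen]; exact Subgroup.zpowers_le.mpr hbA
    exact (Subgroup.eq_of_le_of_card_ge hle (by rw [hA, hB])).symm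
  have hcfg : Cfsg.Agent.Helper10.Cfg p q (P : Subgroup S) Q x₁ x₂ :=
    { hpq := hpq
      hP := P.isPGroup'
      hPn := inferInstance
      hsup := hS
      hQ := hQ
      hx₁ := h₁ hx₁X
      hx₂ := h₂ hx₂X
      h12 := by rw [hgen₁]; exact hne_of hc₁ hc₂ h₁₂ hx₂1 hgen₂
      h21 := by rw [hgen₂]; exact hne_of hc₂ hc₁ (Ne.symm h₁₂) hx₁1 hgen₁
      honly := by
        intro u hu hu1 hu2
        rw [hgen₁] at hu1
        rw [hgen₂] at hu2
        by_contra hne
        have hu_ne : u ≠ 1 := fun h => hu1 (h ▸ X₁.one_mem)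
        have huq : u ^ q = 1 := hQ.2 u hu
        have ho : orderOf u = q := orderOf_eq_prime huq hu_ne
        have hcard : Nat.card (Subgroup.zpowers u) = q := by rw [Nat.card_zpowers, ho]
        have hne' : (P : Subgroup S) ⊓ Subgroup.centralizer ((Subgroup.zpowers u : Subgroup S) : Set S) ≠ ⊥ := by
          rw [centralizer_zpowers_eq_singleton]; exact hne
        rcases honly (Subgroup.zpowers u) (Subgroup.zpowers_le.mpr hu) hcard hne' with h | h
        · exact hu1 (h ▸ Subgroup.mem_zpowers u)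
        · exact hu2 (h ▸ Subgroup.mem_zpowers u) }
  rw [hC₁, hC₂]
  refine ⟨?_, ?_, ?_⟩
  · rw [Subgroup.commutator_eq_bot_iff_le_centralizer]
    intro a ha
    rw [Subgroup.mem_centralizer_iff]
    intro b hb
    exact (hcfg.commutes a ha b hb).symm
  · rw [eq_bot_iff]
    rintro c ⟨⟨hcP, hc1⟩, ⟨-, hc2⟩⟩
    exact Subgroup.mem_bot.mpr (hcfg.fix_both hcP hc1 hc2)
  · apply le_antisymm (sup_le inf_le_left inf_le_left)
    have hcop : (Nat.card (P : Subgroup S)).Coprime q := by
      obtain ⟨k, hk⟩ := IsPGroup.iff_card.mp P.isPGroup'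
      rw [hk]
      exact Nat.Coprime.pow_left k ((Nat.coprime_primes Fact.out Fact.out).mpr hpq)
    have hQN : Q ≤ Subgroup.normalizer ((P : Subgroup S) : Set S) := by
      rw [Subgroup.normalizer_eq_top (P : Subgroup S)]; exact le_top
    apply Cfsg.Agent.Helper15.le_of_forall_ne_one_inf_centralizer_le hQ (le_of_eq hQc.symm) hcop hQN
    intro u hu hu1
    by_cases hm1 : u ∈ Subgroup.zpowers x₁
    · rw [hcfg.centralizer_eq hm1 hu1]; exact le_sup_left
    · by_cases hm2 : u ∈ Subgroup.zpowers x₂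
      · rw [hcfg.symm.centralizer_eq hm2 hu1]; exact le_sup_right
      · rw [hcfg.honly u hu hm1 hm2]; exact bot_le

end Cfsg.Agent.S1900
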