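import Mathlib
import Cfsg.Statements.S1901
import Mathlib
import Cfsg.Agent.Lib.Helper10.PSolvNorm
-- import your own Cfsg.Agent.* helpers here

set_option autoImplicit false
open Cfsg

namespace Cfsg.Agent.S1901

/-- Let G be a finite p-solvable group and Q a subgroup of order prime to p such that p divides the index of C_G(Q) in N_G(Q). Then Q normalizes no Sylow p-subgroup of G. -/
theorem result {G : Type*} [Group G] [Finite G] {p : ℕ} [Fact p.Prime]
    (hG : Cfsg.IsPSolvable p G) (Q : Subgroup G) (hQ : ¬ p ∣ Nat.card Q)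
    (hA : p ∣ (Subgroup.centralizer (Q : Set G)).relIndex (Subgroup.normalizer (Q : Set G)))
    (P : Sylow p G) : ¬ Q ≤ Subgroup.normalizer ((P : Subgroup G) : Set G) := by
  classical
  intro hQP
  have hQc : (Nat.card ↥Q).Coprime p :=
    ((Nat.Prime.coprime_iff_not_dvd (Fact.out : p.Prime)).mpr hQ).symm
  set C0 := Subgroup.centralizer (Q : Set G) with hC0
  set N0 := Subgroup.normalizer (Q : Set G) with hN0
  haveI hCn : (C0.subgroupOf N0).Normal :=
    Subgroup.normal_subgroupOf_centralizer_normalizer (Q : Set G)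
  have hpel : ∀ x : ↥N0, (∃ k : ℕ, orderOf x = p ^ k) → x ∈ C0.subgroupOf N0 := by
    intro x ⟨k, hk⟩
    rw [Subgroup.mem_subgroupOf]
    exact Cfsg.Agent.Helper10.pElement_normalizer_centralizes p _ G rfl hG P Q hQc hQP (x : G)
      ⟨k, by rw [Subgroup.orderOf_coe]; exact hk⟩ x.2
  exact Cfsg.Agent.Helper10.not_dvd_index_of_pElements_mem p (C0.subgroupOf N0) hpel hA

end Cfsg.Agent.S1901
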