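import Mathlib
import Cfsg.Statements.S1902
import Cfsg.Agent.Lib.Helper14.PSolvConstr
import Cfsg.Agent.Lib.Helper7.PConstrainedInv
import Cfsg.Agent.Lib.Helper7.Signalizer

set_option autoImplicit false
open Cfsg

namespace Cfsg.Agent.S1902

/-- Let p be an odd prime, G a finite p-solvable group, and B an elementary abelian subgroup of order p² such that B is the subgroup generated by the elements of order p of some Sylow p-subgroup of C_G(b₀), for some nontrivial b₀ ∈ B. Then every B-invariant subgroup of G of order prime to p lies in O_{p'}(G). -/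
theorem result {G : Type*} [Group G] [Finite G] {p : ℕ} [Fact p.Prime] (hp : p ≠ 2)
    (hG : Cfsg.IsPSolvable p G) (B : Subgroup G) (hB : Cfsg.IsElementaryAbelian p B) (hBc : Nat.card B = p ^ 2)
    (b₀ : G) (hb₀ : b₀ ∈ B) (hb₁ : b₀ ≠ 1) (P : Sylow p ↥(Subgroup.centralizer ({b₀} : Set G)))
    (hBP : B = Subgroup.closure {x : G | x ∈ ((P : Subgroup ↥(Subgroup.centralizer ({b₀} : Set G))).map
      (Subgroup.centralizer ({b₀} : Set G)).subtype : Subgroup G) ∧ orderOf x = p})
    (Q : Subgroup G) (hQ : ¬ p ∣ Nat.card Q) (hinv : ∀ b ∈ B, ∀ x ∈ Q, b * x * b⁻¹ ∈ Q) :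
    Q ≤ Cfsg.pPrimeCore p G := by
  classical
  have hpp := (Fact.out : p.Prime)
  have hX := Cfsg.Agent.Helper14.PSolvConstr.isPConstrained_of_isPSolvable p hG
  have hBcomm : ∀ a ∈ B, ∀ b ∈ B, a * b = b * a := by
    intro a ha b hb
    have := hB.1.is_comm.comm ⟨a, ha⟩ ⟨b, hb⟩
    exact congrArg Subtype.val this
  have hBp : IsPGroup p ↥B := IsPGroup.of_card hBc
  have hmemC : ∀ y : G, y * b₀ = b₀ * y → y ∈ Subgroup.centralizer ({b₀} : Set G) := by
    intro y hy
    rw [Subgroup.mem_centralizer_singleton_iff]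
    first
      | exact hy
      | exact hy.symm
  have hBC : B ≤ Subgroup.centralizer ({b₀} : Set G) := fun b hb => hmemC b (hBcomm b hb b₀ hb₀)
  have hΩ : ∀ x ∈ Subgroup.centralizer (B : Set G), orderOf x = p → x ∈ B := by
    intro x hx hxo
    have hxb : ∀ b ∈ B, b * x = x * b := fun b hb => Subgroup.mem_centralizer_iff.mp hx b hb
    have hxC : x ∈ Subgroup.centralizer ({b₀} : Set G) := hmemC x (hxb b₀ hb₀).symm
    have hxp : x ^ p = 1 := by rw [← hxo]; exact pow_orderOf_eq_one x
    set D := B ⊔ Subgroup.zpowers x with hD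
    have hDC : D ≤ Subgroup.centralizer ({b₀} : Set G) := sup_le hBC (Subgroup.zpowers_le.mpr hxC)
    have hzp : IsPGroup p ↥(Subgroup.zpowers x) := by
      apply IsPGroup.of_card (n := 1)
      rw [Nat.card_zpowers, hxo, pow_one]
    have hzN : Subgroup.zpowers x ≤ Subgroup.normalizer (B : Set G) :=
      Subgroup.zpowers_le.mpr (Subgroup.centralizer_le_normalizer _ hx)
    have hDp : IsPGroup p ↥D := hBp.to_sup_of_normal_left' hzp hzN
    have hDexp : ∀ y ∈ D, y ^ p = 1 := by
      intro y hy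
      rw [hD] at hy
      haveI : (B.subgroupOf (B ⊔ Subgroup.zpowers x)).Normal := by
        rw [Subgroup.normal_subgroupOf_iff_le_normalizer le_sup_left]
        exact sup_le Subgroup.le_normalizer hzN
      obtain ⟨b, hb, z, hz, rfl⟩ : ∃ b ∈ B, ∃ z ∈ Subgroup.zpowers x, b * z = y := by
        have h1 : y ∈ B ⊔ Subgroup.zpowers x := hy
        rw [Subgroup.sup_eq_closure_mul] at h1
        refine Subgroup.closure_induction (p := fun y _ => ∃ b ∈ B, ∃ z ∈ Subgroup.zpowers x,
          b * z = y) ?_ ?_ ?_ ?_ h1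
        · rintro _ ⟨b, hb, z, hz, rfl⟩
          exact ⟨b, hb, z, hz, rfl⟩
        · exact ⟨1, B.one_mem, 1, Subgroup.one_mem _, by simp⟩
        · rintro _ _ _ _ ⟨b, hb, z, hz, rfl⟩ ⟨b', hb', z', hz', rfl⟩
          refine ⟨b * b', B.mul_mem hb hb', z * z', Subgroup.mul_mem _ hz hz', ?_⟩
          obtain ⟨n, rfl⟩ := Subgroup.mem_zpowers_iff.mp hz
          have hc : Commute b' (x ^ n) := (show Commute b' x from hxb b' hb').zpow_right n
          calc b * b' * (x ^ n * z') = b * (b' * x ^ n) * z' := by group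
            _ = b * (x ^ n * b') * z' := by rw [hc.eq]
            _ = b * x ^ n * (b' * z') := by group
        · rintro _ _ ⟨b, hb, z, hz, rfl⟩
          refine ⟨b⁻¹, B.inv_mem hb, z⁻¹, Subgroup.inv_mem _ hz, ?_⟩
          obtain ⟨n, rfl⟩ := Subgroup.mem_zpowers_iff.mp hz
          have hc : Commute b (x ^ n) := (show Commute b x from hxb b hb).zpow_right n
          rw [mul_inv_rev, ← hc.inv_inv.eq]
      obtain ⟨n, rfl⟩ := Subgroup.mem_zpowers_iff.mp hz
      have hc : Commute b (x ^ n) := (show Commute b x from hxb b hb).zpow_right n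
      rw [hc.mul_pow, hB.2 b hb, one_mul, ← zpow_natCast, ← zpow_mul, mul_comm, zpow_mul,
        zpow_natCast, hxp, one_zpow]
    -- conjugate `D` into `P`
    have hDsub : IsPGroup p ↥(D.subgroupOf (Subgroup.centralizer ({b₀} : Set G))) := hDp.comap_subtype
    obtain ⟨P', hP'⟩ := hDsub.exists_le_sylow
    obtain ⟨c, hc⟩ := MulAction.exists_smul_eq ↥(Subgroup.centralizer ({b₀} : Set G)) P P'
    have hconj : ∀ y ∈ D, (c : G)⁻¹ * y * (c : G) ∈ B := by
      intro y hy
      by_cases hy1 : y = 1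
      · rw [hy1]; simp [B.one_mem]
      have h1 : (⟨y, hDC hy⟩ : ↥(Subgroup.centralizer ({b₀} : Set G))) ∈ (P' : Subgroup ↥(Subgroup.centralizer ({b₀} : Set G))) := hP' (Subgroup.mem_subgroupOf.mpr hy)
      rw [← hc, Sylow.smul_def, Sylow.pointwise_smul_def,
        Subgroup.mem_pointwise_smul_iff_inv_smul_mem] at h1
      have h2 : ((MulAut.conj c)⁻¹ • (⟨y, hDC hy⟩ : ↥(Subgroup.centralizer ({b₀} : Set G))) : ↥(Subgroup.centralizer ({b₀} : Set G))) = c⁻¹ * ⟨y, hDC hy⟩ * c := by
        rw [← map_inv, MulAut.smul_def, MulAut.conj_apply, inv_inv]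
      rw [h2] at h1
      rw [hBP]
      apply Subgroup.subset_closure
      refine ⟨⟨_, h1, by simp⟩, ?_⟩
      have h3 : (c : G)⁻¹ * y * (c : G) = MulAut.conj (c : G)⁻¹ y := by
        rw [MulAut.conj_apply, inv_inv]
      rw [h3, MulEquiv.orderOf_eq]
      exact orderOf_eq_prime (hDexp y hy) hy1
    have hle : D.map (MulAut.conj (c : G)⁻¹).toMonoidHom ≤ B := by
      rintro _ ⟨y, hy, rfl⟩
      have := hconj y hy
      simpa [MulAut.conj_apply] using this
    have hcard : Nat.card ↥D ≤ Nat.card ↥B := by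
      have h1 : Nat.card ↥(D.map (MulAut.conj (c : G)⁻¹).toMonoidHom) = Nat.card ↥D :=
        Subgroup.card_map_of_injective (MulAut.conj (c : G)⁻¹).injective
      rw [← h1]
      exact Nat.le_of_dvd Nat.card_pos (Subgroup.card_dvd_of_le hle)
    have hBD : B = D := Subgroup.eq_of_le_of_card_ge le_sup_left hcard
    rw [hBD]
    exact Subgroup.mem_sup_right (Subgroup.mem_zpowers x)
  have hBQ : B ≤ Subgroup.normalizer (Q : Set G) := fun b hb =>
    Cfsg.Agent.Helper7.mem_normalizer_of_forall_conj_mem (fun u hu => hinv b hb u hu)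
  exact Cfsg.Agent.Helper7.le_pPrimeCore_of_isPConstrained p hp hX B hBp hΩ Q hQ hBQ

end Cfsg.Agent.S1902
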