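import Mathlib
import Cfsg.Statements.S1905
import Mathlib
import Cfsg.Agent.Lib.Helper10.StrongEmb
-- import your own Cfsg.Agent.* helpers here

set_option autoImplicit false
open Cfsg

namespace Cfsg.Agent.S1905

/-- Let M be a subgroup of even order of a finite group S such that M contains the centralizer in S of each of its involutions and the normal core of M in S has odd order. Then all involutions of S are conjugate. If moreover N_S(X) ≤ M for a Sylow 2-subgroup X of M and I is an involution in the centre of X, then all involutions of M are conjugate in M and M = M₀ C_M(I) for some subgroup M₀ of M of odd order. -/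
theorem result {S : Type*} [Group S] [Finite S] (M : Subgroup S) (hM : Even (Nat.card M))
    (hC : ∀ i ∈ M, orderOf i = 2 → Subgroup.centralizer ({i} : Set S) ≤ M) (hcore : Odd (Nat.card M.normalCore)) :
    (∀ x y : S, orderOf x = 2 → orderOf y = 2 → IsConj x y) ∧
      ∀ (X : Sylow 2 M) (I : M), I ∈ (Subgroup.center ↥(X : Subgroup ↥M)).map (X : Subgroup ↥M).subtype → orderOf I = 2 →
        Subgroup.normalizer (((X : Subgroup M).map M.subtype : Subgroup S) : Set S) ≤ M →
        (∀ x y : M, orderOf x = 2 → orderOf y = 2 → IsConj x y) ∧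
          ∃ M₀ : Subgroup M, Odd (Nat.card M₀) ∧
            ∀ m : M, ∃ a ∈ M₀, ∃ c ∈ Subgroup.centralizer ({I} : Set M), m = a * c := by
  classical
  haveI : Fact (Nat.Prime 2) := ⟨Nat.prime_two⟩
  refine ⟨fun x y hx hy => Cfsg.Agent.Helper10.isConj_of_invol hC hM hcore hx hy, ?_⟩
  intro X I hI hI2 hN
  set X' : Subgroup S := (X : Subgroup M).map M.subtype with hX'
  obtain ⟨I', hI'c, hI'I⟩ := hI
  have hIX' : (I : S) ∈ X' := by
    refine ⟨(I' : M), I'.2, ?_⟩
    rw [← hI'I]; rfl
  have hdata : Cfsg.Agent.Helper10.SEData M X' (I : S) := by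
    refine ⟨hC, Subgroup.map_subtype_le _, X.isPGroup'.map _, ?_, hN, hIX', ?_, ?_⟩
    · have : X'.relIndex M = (X : Subgroup M).index := by
        rw [Subgroup.relIndex, hX', Subgroup.subgroupOf,
          Subgroup.comap_map_eq_self_of_injective M.subtype_injective]
      rw [this]
      exact X.not_dvd_index
    · rintro _ ⟨x, hx, rfl⟩
      have h1 := Subgroup.mem_center_iff.mp hI'c ⟨x, hx⟩
      have h2 : (x : M) * (I' : M) = (I' : M) * (x : M) := by
        have := congrArg Subtype.val h1
        simpa using this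
      have h3 : (I' : M) = I := hI'I
      rw [h3] at h2
      have := congrArg Subtype.val h2
      simpa using this
    · rw [Subgroup.orderOf_coe]; exact hI2
  have hconjM : ∀ x y : M, orderOf x = 2 → orderOf y = 2 → IsConj x y := by
    intro x y hx hy
    have hx' : orderOf (x : S) = 2 := by rw [Subgroup.orderOf_coe]; exact hx
    have hy' : orderOf (y : S) = 2 := by rw [Subgroup.orderOf_coe]; exact hy
    have hc := Cfsg.Agent.Helper10.isConj_of_invol hC hM hcore hx' hy'
    obtain ⟨g, hg⟩ := isConj_iff.mp hc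
    have hgM : g ∈ M := by
      apply hdata.mem_of_conj hy' y.2
      have : g⁻¹ * (y : S) * g = x := by rw [← hg]; group
      rw [this]; exact x.2
    rw [isConj_iff]
    refine ⟨⟨g, hgM⟩, ?_⟩
    apply Subtype.ext
    simpa using hg
  refine ⟨hconjM, ?_⟩
  obtain ⟨D, hDM, hDodd, hDtr⟩ := hdata.exists_transitive hcore
  refine ⟨D.subgroupOf M, ?_, ?_⟩
  · have : Nat.card (D.subgroupOf M) = Nat.card D :=
      Nat.card_congr (Subgroup.subgroupOfEquivOfLe hDM).toEquiv
    rw [this]; exact hDodd
  · intro m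
    have hj2 : orderOf ((m : S) * (I : S) * (m : S)⁻¹) = 2 := by
      rw [Cfsg.Agent.Helper10.orderOf_conj_eq, Subgroup.orderOf_coe]; exact hI2
    have hjM : (m : S) * (I : S) * (m : S)⁻¹ ∈ M :=
      M.mul_mem (M.mul_mem m.2 I.2) (M.inv_mem m.2)
    obtain ⟨a, haD, ha⟩ := hDtr _ hjM hj2
    refine ⟨⟨a, hDM haD⟩, ?_, (⟨a, hDM haD⟩ : M)⁻¹ * m, ?_, by group⟩
    · rw [Subgroup.mem_subgroupOf]; exact haD
    · rw [Subgroup.mem_centralizer_singleton_iff]
      apply Subtype.ext
      simp only [Subgroup.coe_mul, Subgroup.coe_inv]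
      calc a⁻¹ * (m : S) * (I : S) = a⁻¹ * ((m : S) * (I : S) * (m : S)⁻¹) * (m : S) := by group
        _ = a⁻¹ * (a * (I : S) * a⁻¹) * (m : S) := by rw [ha]
        _ = (I : S) * (a⁻¹ * (m : S)) := by group

end Cfsg.Agent.S1905
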