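import Mathlib
import Cfsg.Statements.S1906
import Cfsg.Agent.Lib.Helper10.CenInv10
-- import your own Cfsg.Agent.* helpers here

set_option autoImplicit false
open Cfsg

namespace Cfsg.Agent.S1906

/-- Let G be a finite group with no subgroup of index 2 whose Sylow 2-subgroup X embeds in GL₃(F) for a finite field F of odd order. If X contains an elementary abelian subgroup of order 8, then X is abelian. -/
theorem result {G : Type*} [Group G] [Finite G] (hG : ∀ H : Subgroup G, H.index ≠ 2) (X : Sylow 2 G)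
    {F : Type*} [Field F] [Fintype F] (hF : Odd (Fintype.card F))
    (f : ↥(X : Subgroup G) →* GL (Fin 3) F) (hf : Function.Injective f)
    (E : Subgroup G) (hE : E ≤ (X : Subgroup G)) (hEa : Cfsg.IsElementaryAbelian 2 E) (hE8 : Nat.card E = 8) :
    IsMulCommutative (X : Subgroup G) := by
  classical
  by_contra hnc
  have h2 : (2 : F) ≠ 0 := Helper10.CenInv.two_ne_zero_of_odd_card hF
  have hP : IsPGroup 2 ↥(X : Subgroup G) := X.isPGroup'
  have hna : ¬ ∀ a b : ↥(X : Subgroup G), a * b = b * a := fun h => hnc ⟨⟨h⟩⟩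
  have hE'8 : Nat.card (E.subgroupOf (X : Subgroup G)) = 8 := by
    rw [← hE8]; exact Nat.card_congr (Subgroup.subgroupOfEquivOfLe hE).toEquiv
  have hE'c : ∀ a ∈ E.subgroupOf (X : Subgroup G), ∀ b ∈ E.subgroupOf (X : Subgroup G),
      a * b = b * a := by
    intro a ha b hb
    have := hEa.1.is_comm.comm ⟨a.1, Subgroup.mem_subgroupOf.mp ha⟩
      ⟨b.1, Subgroup.mem_subgroupOf.mp hb⟩
    apply Subtype.ext
    exact congrArg (fun z : ↥E => (z : G)) this
  have hE'2 : ∀ a ∈ E.subgroupOf (X : Subgroup G), a ^ 2 = 1 := by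
    intro a ha
    apply Subtype.ext
    have := hEa.2 a.1 (Subgroup.mem_subgroupOf.mp ha)
    simpa using this
  obtain ⟨t, htc, ht2, htd, hall⟩ := Helper10.CenInv.structure_thm f h2 hP hf
    (E.subgroupOf (X : Subgroup G)) hE'c hE'2 hE'8 hna
  have hneg : (-1 : Fˣ) ≠ 1 := Helper10.CenInv.units_neg_one_ne_one h2
  have ht2' : (t : G) ^ 2 = 1 := by
    have := congrArg Subtype.val ht2
    simpa using this
  have htc' : ∀ x ∈ (X : Subgroup G), x * (t : G) = (t : G) * x := by
    intro x hx
    have := (Subgroup.mem_center_iff.mp htc) ⟨x, hx⟩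
    exact congrArg Subtype.val this
  have htnc : t ∉ commutator ↥(X : Subgroup G) := by
    intro h
    have := Abelianization.commutator_subset_ker (Helper10.CenInv.detHom f) h
    rw [MonoidHom.mem_ker, htd] at this
    exact hneg this
  have : Fact (Nat.Prime 2) := ⟨Nat.prime_two⟩
  have hodd : Odd (X : Subgroup G).index := by
    rw [← Nat.not_even_iff_odd, even_iff_two_dvd]
    exact X.not_dvd_index
  have hN : ∀ g ∈ Subgroup.normalizer ((X : Subgroup G) : Set G),
      Helper10.CenInv.psi (X : Subgroup G) (Helper10.CenInv.detHom f) (t : G) g = -1 := by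
    intro g hg
    have hginv : g⁻¹ ∈ Subgroup.normalizer ((X : Subgroup G) : Set G) := Subgroup.inv_mem _ hg
    have hmem : g⁻¹ * (t : G) * g ∈ (X : Subgroup G) := by
      have := (Subgroup.mem_normalizer_iff.mp hginv (t : G)).mp t.2
      simpa using this
    rw [Helper10.CenInv.psi_pos _ _ _ hmem]
    have hcc : (⟨g⁻¹ * (t : G) * g, hmem⟩ : ↥(X : Subgroup G)) ∈
        Subgroup.center ↥(X : Subgroup G) := by
      rw [Subgroup.mem_center_iff]
      intro x
      apply Subtype.ext
      show (x : G) * (g⁻¹ * (t : G) * g) = g⁻¹ * (t : G) * g * (x : G)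
      have hx' : g * (x : G) * g⁻¹ ∈ (X : Subgroup G) :=
        (Subgroup.mem_normalizer_iff.mp hg (x : G)).mp x.2
      have h3 := htc' _ hx'
      calc (x : G) * (g⁻¹ * (t : G) * g) = g⁻¹ * ((g * (x : G) * g⁻¹) * (t : G)) * g := by group
        _ = g⁻¹ * ((t : G) * (g * (x : G) * g⁻¹)) * g := by rw [h3]
        _ = g⁻¹ * (t : G) * g * (x : G) := by group
    have hc2 : (⟨g⁻¹ * (t : G) * g, hmem⟩ : ↥(X : Subgroup G)) ^ 2 = 1 := by
      apply Subtype.ext
      show (g⁻¹ * (t : G) * g) ^ 2 = 1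
      have : (g⁻¹ * (t : G) * g) ^ 2 = g⁻¹ * (t : G) ^ 2 * g := by
        rw [pow_two, pow_two]; group
      rw [this, ht2', mul_one, inv_mul_cancel]
    have hcn : (⟨g⁻¹ * (t : G) * g, hmem⟩ : ↥(X : Subgroup G)) ∉
        commutator ↥(X : Subgroup G) := by
      intro h
      apply htnc
      have h4 : g⁻¹ * (t : G) * g ∈ ⁅(X : Subgroup G), (X : Subgroup G)⁆ := by
        rw [← Helper10.CenInv.map_commutator_subtype]
        exact ⟨_, h, rfl⟩
      have h5 := Helper10.CenInv.conj_mem_commutator_of_mem_normalizer hg h4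
      have h6 : g * (g⁻¹ * (t : G) * g) * g⁻¹ = (t : G) := by group
      rw [h6, ← Helper10.CenInv.map_commutator_subtype] at h5
      obtain ⟨t', ht', ht'e⟩ := h5
      have : t' = t := Subtype.ext ht'e
      rw [← this]; exact ht'
    have hne1 : Helper10.CenInv.detHom f ⟨g⁻¹ * (t : G) * g, hmem⟩ ≠ 1 :=
      fun h => hcn (hall _ hcc hc2 h)
    have hsq : Helper10.CenInv.detHom f ⟨g⁻¹ * (t : G) * g, hmem⟩ ^ 2 = 1 := by
      rw [← map_pow, hc2, map_one]
    rcases Helper10.CenInv.units_sq_eq_one _ hsq with h | h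
    · exact absurd h hne1
    · exact h
  have htr : MonoidHom.transfer (Helper10.CenInv.detHom f) (t : G) = -1 :=
    Helper10.CenInv.transfer_eq (X : Subgroup G) (Helper10.CenInv.detHom f) (t : G) hP hodd (-1)
      (fun y hy => Helper10.CenInv.units_sq_eq_one y hy) ht2' htc' hN
  obtain ⟨H, hH⟩ := Helper10.CenInv.exists_index_two_of_hom
    (MonoidHom.transfer (Helper10.CenInv.detHom f)) (t : G) (by rw [htr]; exact hneg)
    (by rw [htr]; simp)
  exact hG H hH

end Cfsg.Agent.S1906
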