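import Mathlib
import Cfsg.Statements.S1907
import Cfsg.Agent.Lib.Helper10.SylowMore
import Cfsg.Agent.Lib.Helper10.Frobenius
import Cfsg.Agent.Lib.Helper10.Cores
-- import your own Cfsg.Agent.* helpers here

set_option autoImplicit false
open Cfsg

namespace Cfsg.Agent.S1907
open Cfsg.Agent.Helper10 in
theorem auxA {G : Type*} [Group G] [Finite G] {p : ℕ} [hp : Fact p.Prime] (D H : Subgroup G)
    [hD : D.Normal] (hDc : (Nat.card D).Coprime p) (hH : IsPGroup p H)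
    (y : G) (hyN : y ∈ Subgroup.normalizer (H : Set G)) (hy : ∃ k : ℕ, orderOf y = p ^ k)
    (d : G) (hd : d ∈ D) (hy'N : d⁻¹ * y * d ∈ Subgroup.normalizer (H : Set G)) :
    ∃ d₁ ∈ D ⊓ Subgroup.centralizer ({y} : Set G),
      ∃ d₂ ∈ D ⊓ Subgroup.centralizer (H : Set G), d = d₁ * d₂ := by
  set N := Subgroup.normalizer (H : Set G) with hN
  have hEn : (D.subgroupOf N).Normal := hD.subgroupOf N
  have hEc : (Nat.card (D.subgroupOf N)).Coprime p := by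
    have hdvd : Nat.card (D.subgroupOf N) ∣ Nat.card D := by
      have hinj : Function.Injective ((N.subtype.comp (D.subgroupOf N).subtype).codRestrict D
          (fun x => x.2)) := by
        intro a b hab
        have := congrArg Subtype.val hab
        exact Subtype.ext (Subtype.ext this)
      exact Subgroup.card_dvd_of_injective _ hinj
    exact Nat.Coprime.coprime_dvd_left hdvd hDc
  have hord' : orderOf (d⁻¹ * y * d) = orderOf y := by
    have : d⁻¹ * y * d = MulAut.conj d⁻¹ y := by simp [MulAut.conj_apply]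
    rw [this, MulEquiv.orderOf_eq]
  obtain ⟨k, hk⟩ := hy
  have h1 : (⟨y, hyN⟩ : N)⁻¹ * ⟨d⁻¹ * y * d, hy'N⟩ ∈ D.subgroupOf N := by
    rw [Subgroup.mem_subgroupOf]
    have h2 : y⁻¹ * d⁻¹ * y⁻¹⁻¹ ∈ D := hD.conj_mem _ (D.inv_mem hd) y⁻¹
    have e : ((⟨y, hyN⟩ : N)⁻¹ * ⟨d⁻¹ * y * d, hy'N⟩ : N) = ((y⁻¹ * d⁻¹ * y⁻¹⁻¹) * d : G) := by
      simp [mul_assoc]
    rw [e]
    exact D.mul_mem h2 hd
  obtain ⟨e, he, hee⟩ := conj_complement (p := p) (D.subgroupOf N) hEc (⟨y, hyN⟩ : N)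
    ⟨d⁻¹ * y * d, hy'N⟩ ⟨k, by rw [← hk]; exact (Subgroup.orderOf_coe (⟨y, hyN⟩ : N)).symm⟩
    ⟨k, by rw [← hk, ← hord']; exact (Subgroup.orderOf_coe (⟨d⁻¹ * y * d, hy'N⟩ : N)).symm⟩ h1
  have heD : (e : G) ∈ D := Subgroup.mem_subgroupOf.mp he
  have hee' : (e : G)⁻¹ * (d⁻¹ * y * d) * e = y := by
    have := congrArg Subtype.val hee
    simpa using this
  have hdisj : Disjoint D H := by
    apply Subgroup.disjoint_of_coprime_natCard
    obtain ⟨m, hm⟩ := hH.exists_card_eq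
    rw [hm]; exact Nat.Coprime.pow_right m hDc
  -- `D ∩ N` centralizes `H`
  have hcent : ∀ e₀ : G, e₀ ∈ D → e₀ ∈ N → e₀ ∈ Subgroup.centralizer (H : Set G) := by
    intro e₀ h1 h2
    rw [Subgroup.mem_centralizer_iff]
    intro h hh
    have h3 : e₀ * h * e₀⁻¹ * h⁻¹ ∈ H :=
      H.mul_mem ((Subgroup.mem_normalizer_iff.mp h2 h).mp hh) (H.inv_mem hh)
    have h4 : e₀ * h * e₀⁻¹ * h⁻¹ ∈ D := by
      have h5 : h * e₀⁻¹ * h⁻¹ ∈ D := hD.conj_mem _ (D.inv_mem h1) h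
      have e1 : e₀ * h * e₀⁻¹ * h⁻¹ = e₀ * (h * e₀⁻¹ * h⁻¹) := by group
      rw [e1]; exact D.mul_mem h1 h5
    have h6 : e₀ * h * e₀⁻¹ * h⁻¹ = 1 := Subgroup.mem_bot.mp (hdisj.le_bot ⟨h4, h3⟩)
    have e2 : h * e₀ = (e₀ * h * e₀⁻¹ * h⁻¹)⁻¹ * (e₀ * h) := by group
    rw [e2, h6]; simp
  refine ⟨d * e, ⟨D.mul_mem hd heD, ?_⟩, (e : G)⁻¹, ⟨D.inv_mem heD, ?_⟩, by group⟩
  · show d * (e : G) ∈ Subgroup.centralizer ({y} : Set G)
    rw [Subgroup.mem_centralizer_iff]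
    intro h hh
    rw [Set.mem_singleton_iff.mp hh]
    have e3 : y * (d * (e : G)) = (d * e) * ((e : G)⁻¹ * (d⁻¹ * y * d) * e) := by group
    rw [e3, hee']
  · exact Subgroup.inv_mem _ (hcent e heD e.2)

/-- Let P be a Sylow p-subgroup of a finite group G, H = P ∩ O_{p',p}(G), N = N_G(H) and D = O_{p'}(G). (a) If y is an element of p-power order of N and d ∈ D with d⁻¹ y d ∈ N, then d = d₁ d₂ with d₁ ∈ C_D(y) and d₂ ∈ C_D(H). (b) Two elements of P that are conjugate in G are conjugate in N. -/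
theorem result {G : Type*} [Group G] [Finite G] {p : ℕ} [Fact p.Prime] (P : Sylow p G) :
    (∀ y ∈ Subgroup.normalizer (((P : Subgroup G) ⊓ Cfsg.pPrimePCore p G : Subgroup G) : Set G), (∃ k : ℕ, orderOf y = p ^ k) →
      ∀ d ∈ Cfsg.pPrimeCore p G, d⁻¹ * y * d ∈ Subgroup.normalizer (((P : Subgroup G) ⊓ Cfsg.pPrimePCore p G : Subgroup G) : Set G) →
        ∃ d₁ ∈ Cfsg.pPrimeCore p G ⊓ Subgroup.centralizer ({y} : Set G),
          ∃ d₂ ∈ Cfsg.pPrimeCore p G ⊓ Subgroup.centralizer (((P : Subgroup G) ⊓ Cfsg.pPrimePCore p G : Subgroup G) : Set G), d = d₁ * d₂) ∧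
    ∀ x y : G, x ∈ (P : Subgroup G) → y ∈ (P : Subgroup G) → IsConj x y →
      ∃ n ∈ Subgroup.normalizer (((P : Subgroup G) ⊓ Cfsg.pPrimePCore p G : Subgroup G) : Set G), n * x * n⁻¹ = y := by
  have hDn : (Cfsg.pPrimeCore p G).Normal := Cfsg.Agent.Helper10.pPrimeCore_normal p
  have hDc : (Nat.card (Cfsg.pPrimeCore p G)).Coprime p := Cfsg.Agent.Helper10.card_pPrimeCore_coprime p
  set D := Cfsg.pPrimeCore p G with hD
  set K := Cfsg.pPrimePCore p G with hK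
  set H := (P : Subgroup G) ⊓ K with hH
  have hHp : IsPGroup p H := P.isPGroup'.to_le inf_le_left
  have hA := fun y hy1 hy2 d hd hd2 => auxA D H hDc hHp y hy1 hy2 d hd hd2
  refine ⟨hA, ?_⟩
  -- part (b)
  have hcoreN : (Cfsg.pCore p (G ⧸ D)).Normal := Subgroup.sSup_normal _ (fun _ h => h.1)
  have hcoreP : IsPGroup p (Cfsg.pCore p (G ⧸ D)) :=
    Sylow.sSup_of_normal _ (fun _ h => h.2) (fun _ h => h.1)
  have hKn : K.Normal := by
    rw [hK]; unfold Cfsg.pPrimePCore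
    exact hcoreN.comap _
  have hHK : H ≤ K := inf_le_right
  have hHidx : ¬ p ∣ H.relIndex K :=
    Cfsg.Agent.Helper10.inf_normal_relSylow (P : Subgroup G) K P.isPGroup' P.not_dvd_index
  have hPN : (P : Subgroup G) ≤ Subgroup.normalizer (H : Set G) := by
    intro s hs
    rw [Subgroup.mem_normalizer_iff]
    intro h
    constructor
    · intro hh
      exact ⟨Subgroup.mul_mem _ (Subgroup.mul_mem _ hs hh.1) (Subgroup.inv_mem _ hs),
        hKn.conj_mem _ hh.2 s⟩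
    · intro hh
      have e : h = s⁻¹ * (s * h * s⁻¹) * s⁻¹⁻¹ := by group
      rw [e]
      exact ⟨Subgroup.mul_mem _ (Subgroup.mul_mem _ (Subgroup.inv_mem _ hs) hh.1)
        (Subgroup.inv_mem _ (Subgroup.inv_mem _ hs)), hKn.conj_mem _ hh.2 s⁻¹⟩
  have hq : IsPGroup p (↥K ⧸ D.subgroupOf K) := by
    intro x
    induction x using QuotientGroup.induction_on with
    | H c =>
      have hc : QuotientGroup.mk' D (c : G) ∈ Cfsg.pCore p (G ⧸ D) := c.2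
      obtain ⟨j, hj⟩ := hcoreP ⟨_, hc⟩
      refine ⟨j, ?_⟩
      rw [← QuotientGroup.mk_pow, QuotientGroup.eq_one_iff, Subgroup.mem_subgroupOf]
      have h2 := congrArg Subtype.val hj
      simp only [Subgroup.coe_pow, Subgroup.coe_one] at h2
      have h3 : QuotientGroup.mk' D ((c : G) ^ p ^ j) = 1 := by
        rw [map_pow]; exact h2
      have := (QuotientGroup.eq_one_iff _).mp h3
      simpa using this
  intro x y hx hy hxy
  obtain ⟨c, hc⟩ := isConj_iff.mp hxy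
  obtain ⟨k, hkK, hkN⟩ := Cfsg.Agent.Helper10.frattini_elt K H hHK hHp hHidx c⁻¹
  obtain ⟨h, hh, -, d, hd, hkhd⟩ := Cfsg.Agent.Helper10.exists_mul_of_isPGroup_quotient_subgroup
    (p := p) K D H hq hHidx k hkK
  set N := Subgroup.normalizer (H : Set G) with hN
  set m := c⁻¹ * k with hm
  -- c = (h m⁻¹) (m d m⁻¹)
  set n₀ := h * m⁻¹ with hn₀
  set d' := m * d * m⁻¹ with hd'
  have hcn : c = n₀ * d' := by
    rw [hn₀, hd', hm, hkhd]; group
  have hn₀N : n₀ ∈ N := N.mul_mem (Subgroup.le_normalizer hh) (N.inv_mem hkN)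
  have hd'D : d' ∈ D := hDn.conj_mem _ hd m
  have hx'N : d'⁻¹⁻¹ * x * d'⁻¹ ∈ N := by
    have e : d'⁻¹⁻¹ * x * d'⁻¹ = n₀⁻¹ * y * n₀ := by
      rw [← hc, hcn]; group
    rw [e]
    exact N.mul_mem (N.mul_mem (N.inv_mem hn₀N) (hPN hy)) hn₀N
  obtain ⟨d₁, hd₁, d₂, hd₂, hdd⟩ := hA x (hPN hx)
    (Cfsg.Agent.Helper10.exists_orderOf_eq_of_mem_pGroup P.isPGroup' hx) d'⁻¹ (D.inv_mem hd'D) hx'N
  have hd₂N : d₂ ∈ N := Subgroup.centralizer_le_normalizer _ hd₂.2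
  refine ⟨n₀ * d₂⁻¹, N.mul_mem hn₀N (N.inv_mem hd₂N), ?_⟩
  have hcomm : x * d₁ = d₁ * x := (Subgroup.mem_centralizer_iff.mp hd₁.2) x rfl
  have hd'eq : d' = d₂⁻¹ * d₁⁻¹ := by
    have : d' = (d'⁻¹)⁻¹ := by group
    rw [this, hdd]; group
  rw [← hc, hcn, hd'eq]
  have e1 : n₀ * (d₂⁻¹ * d₁⁻¹) * x * (n₀ * (d₂⁻¹ * d₁⁻¹))⁻¹ =
      n₀ * d₂⁻¹ * (d₁⁻¹ * (x * d₁)) * d₂ * n₀⁻¹ := by group
  rw [e1, hcomm]
  group

end Cfsg.Agent.S1907
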