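import Mathlib
import Cfsg.Statements.S1910
import Cfsg.Agent.Lib.Helper10.TightEmb
-- import your own Cfsg.Agent.* helpers here

set_option autoImplicit false
open Cfsg

namespace Cfsg.Agent.S1910

/-- Let Q be a tightly embedded subgroup of a finite group G, g an element outside N_G(Q), T a nontrivial Sylow 2-subgroup of Q^g ∩ N_G(Q), and S a Sylow 2-subgroup of QT containing T. Then T ∩ Q = 1, and N_S(T) is the direct product of T and N_S(T) ∩ Q, with N_S(T) ∩ Q isomorphic to T. -/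
theorem result {G : Type*} [Group G] [Finite G] (Q : Subgroup G) (hQ : Cfsg.IsTightlyEmbedded Q)
    (g : G) (hg : g ∉ Subgroup.normalizer (Q : Set G))
    (T : Subgroup G) (hT1 : T ≠ ⊥) (hT : T ≤ Q.map (MulAut.conj g).toMonoidHom ⊓ Subgroup.normalizer (Q : Set G))
    (hTsyl : IsPGroup 2 T ∧ ¬ 2 ∣ T.relIndex (Q.map (MulAut.conj g).toMonoidHom ⊓ Subgroup.normalizer (Q : Set G)))
    (S : Subgroup G) (hTS : T ≤ S) (hS : S ≤ Q ⊔ T) (hSsyl : IsPGroup 2 S ∧ ¬ 2 ∣ S.relIndex (Q ⊔ T)) :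
    T ⊓ Q = ⊥ ∧
      T ⊓ (S ⊓ Subgroup.normalizer (T : Set G) ⊓ Q) = ⊥ ∧
      ⁅T, S ⊓ Subgroup.normalizer (T : Set G) ⊓ Q⁆ = ⊥ ∧
      T ⊔ (S ⊓ Subgroup.normalizer (T : Set G) ⊓ Q) = S ⊓ Subgroup.normalizer (T : Set G) ∧
      Nonempty (↥(S ⊓ Subgroup.normalizer (T : Set G) ⊓ Q) ≃* T) := by
  classical
  haveI : Fact (Nat.Prime 2) := ⟨Nat.prime_two⟩
  set B := Q.map (MulAut.conj g).toMonoidHom with hB
  have hBr : B = Cfsg.Agent.Helper10.rcg g⁻¹ Q := by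
    rw [hB]; unfold Cfsg.Agent.Helper10.rcg; rw [inv_inv]
  have hQ2 : Cfsg.Agent.Helper10.TI2 Q := Cfsg.Agent.Helper10.TI2_of_isTightlyEmbedded hQ
  have hB2 : Cfsg.Agent.Helper10.TI2 B := hBr ▸ Cfsg.Agent.Helper10.TI2_rcg hQ2 g⁻¹
  have hg' : g⁻¹ ∉ Subgroup.normalizer (Q : Set G) := fun h => hg (by simpa using Subgroup.inv_mem _ h)
  have hAB : ∀ D : Subgroup G, D ≤ Q ⊓ B → IsPGroup 2 D → D = ⊥ := by
    intro D hD hD2
    rw [hBr] at hD
    exact hQ2 g⁻¹ hg' D hD hD2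
  have hBA : ∀ D : Subgroup G, D ≤ B ⊓ Q → IsPGroup 2 D → D = ⊥ := by
    intro D hD hD2
    rw [inf_comm] at hD
    exact hAB D hD hD2
  have hTB : T ≤ B := hT.trans inf_le_left
  have hTQ : T ≤ Subgroup.normalizer (Q : Set G) := hT.trans inf_le_right
  -- the Sylow subgroup `P = S ∩ Q` of `Q`
  set P := S ⊓ Q with hP
  have hJQ : Q ⊔ T ≤ Subgroup.normalizer (Q : Set G) := sup_le Subgroup.le_normalizer hTQ
  have hPsyl : ¬ 2 ∣ P.relIndex Q :=
    Cfsg.Agent.Helper10.inf_relSylow_of_le_normalizer (Q ⊔ T) Q S hSsyl.1 hSsyl.2 le_sup_left hJQ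
  have hTP : T ≤ Subgroup.normalizer (P : Set G) := by
    intro t ht
    rw [Cfsg.Agent.Helper10.mem_normalizer_iff_rcg, hP, Cfsg.Agent.Helper10.rcg_inf,
      Cfsg.Agent.Helper10.rcg_self_of_mem (hTS ht),
      Cfsg.Agent.Helper10.mem_normalizer_iff_rcg.mp (hTQ ht)]
  obtain ⟨h1, hcomm, hRB, hSN, hcard, hiso⟩ := Cfsg.Agent.Helper10.tight_pair (A := Q) (B := B) (T := T)
    (P := P) hB2 hAB ⟨g⁻¹, hBr.symm⟩ hTB hTQ hTsyl.1 hTsyl.2 hT1 inf_le_right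
    (hSsyl.1.to_le inf_le_left) hPsyl hTP
  set R := P ⊓ Subgroup.normalizer (T : Set G) with hR
  have hRR' : S ⊓ Subgroup.normalizer (T : Set G) ⊓ Q = R := by
    rw [hR, hP]; exact inf_right_comm _ _ _
  have hSPT : P ⊔ T = S := by
    apply le_antisymm (sup_le inf_le_left hTS)
    intro s hs
    obtain ⟨q, hq, t, ht, hst⟩ := Cfsg.Agent.Helper1.exists_mul_of_mem_sup hTQ (hS hs)
    have hqS : q ∈ S := by
      have : q = s * t⁻¹ := by rw [hst]; group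
      rw [this]; exact S.mul_mem hs (S.inv_mem (hTS ht))
    rw [hst]
    exact Subgroup.mul_mem _ (Subgroup.mem_sup_left ⟨hqS, hq⟩) (Subgroup.mem_sup_right ht)
  rw [hRR']
  refine ⟨h1, ?_, ?_, ?_, ?_⟩
  · rw [eq_bot_iff, ← h1]
    exact inf_le_inf_left T (inf_le_left.trans inf_le_right)
  · rw [Subgroup.commutator_eq_bot_iff_le_centralizer]
    intro t ht
    rw [Subgroup.mem_centralizer_iff]
    intro r hr
    exact (hcomm t ht r hr).symm
  · rw [← hSPT, hSN]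
  · -- the symmetric argument
    have hTcard : 1 < Nat.card T := by
      have h0 : Nat.card T ≠ 1 := fun h => hT1 (Subgroup.card_eq_one.mp h)
      have h2 : 0 < Nat.card T := Nat.card_pos
      omega
    have hR2 : IsPGroup 2 R := hSsyl.1.to_le (inf_le_left.trans inf_le_left)
    have hRQB : R ≤ Q ⊓ Subgroup.normalizer (B : Set G) := le_inf (inf_le_left.trans inf_le_right) hRB
    obtain ⟨R₁, hRR₁, hR₁le, hR₁2, hR₁syl⟩ := Cfsg.Agent.Helper10.exists_relSylow_ge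
      (Q ⊓ Subgroup.normalizer (B : Set G)) R hRQB hR2
    have hcard1 : Nat.card R ≤ Nat.card R₁ := Subgroup.card_le_of_le hRR₁
    have hR₁ne : R₁ ≠ ⊥ := by
      intro h
      rw [h, Subgroup.card_bot] at hcard1
      omega
    have hR₁B : R₁ ≤ Subgroup.normalizer (B : Set G) := hR₁le.trans inf_le_right
    obtain ⟨S₂, hR₁S₂, hS₂le, hS₂2, hS₂syl⟩ := Cfsg.Agent.Helper10.exists_relSylow_ge
      (B ⊔ R₁) R₁ le_sup_right hR₁2
    set P₂ := S₂ ⊓ B with hP₂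
    have hJB : B ⊔ R₁ ≤ Subgroup.normalizer (B : Set G) := sup_le Subgroup.le_normalizer hR₁B
    have hP₂syl : ¬ 2 ∣ P₂.relIndex B :=
      Cfsg.Agent.Helper10.inf_relSylow_of_le_normalizer (B ⊔ R₁) B S₂ hS₂2 hS₂syl le_sup_left hJB
    have hR₁P₂ : R₁ ≤ Subgroup.normalizer (P₂ : Set G) := by
      intro t ht
      rw [Cfsg.Agent.Helper10.mem_normalizer_iff_rcg, hP₂, Cfsg.Agent.Helper10.rcg_inf,
        Cfsg.Agent.Helper10.rcg_self_of_mem (hR₁S₂ ht),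
        Cfsg.Agent.Helper10.mem_normalizer_iff_rcg.mp (hR₁B ht)]
    have hgBQ : Cfsg.Agent.Helper10.rcg g B = Q := by
      rw [hBr]
      have := Cfsg.Agent.Helper10.rcg_inv_rcg g⁻¹ Q
      rwa [inv_inv] at this
    obtain ⟨-, -, hR₂Q, -, hcard2, -⟩ := Cfsg.Agent.Helper10.tight_pair (A := B) (B := Q) (T := R₁)
      (P := P₂) hQ2 hBA ⟨g, hgBQ⟩ (hR₁le.trans inf_le_left) hR₁B hR₁2 hR₁syl hR₁ne inf_le_right
      (hS₂2.to_le inf_le_left) hP₂syl hR₁P₂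
    have hcard3 : Nat.card ↥(P₂ ⊓ Subgroup.normalizer (R₁ : Set G)) ≤ Nat.card T :=
      Cfsg.Agent.Helper10.card_le_card_of_relSylow hT hTsyl.1 hTsyl.2
        (le_inf (inf_le_left.trans inf_le_right) hR₂Q) (hS₂2.to_le (inf_le_left.trans inf_le_left))
    have heq : Nat.card T = Nat.card R := by omega
    obtain ⟨e⟩ := hiso heq
    exact ⟨e⟩

end Cfsg.Agent.S1910
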