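import Mathlib
import Cfsg.Statements.S1921
import Mathlib
import Cfsg.Agent.Lib.Helper7.Layer
import Cfsg.Agent.Lib.Helper1.Coprime
-- import your own Cfsg.Agent.* helpers here

set_option autoImplicit false
open Cfsg

namespace Cfsg.Agent.S1921

/-- Let a be an involution of a finite group H and L a component of H with a L a⁻¹ ≠ L; put M = ⟨L, aLa⁻¹⟩ and let J be the subgroup generated by the elements x · a x a⁻¹ with x ∈ L (the diagonal). Then every element of M outside J·Z(M) generates M together with J. -/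
theorem result {H : Type*} [Group H] [Finite H] (a : H) (ha : orderOf a = 2) (L : Subgroup H) (hL : Cfsg.IsComponent L)
    (hLa : L.map (MulAut.conj a).toMonoidHom ≠ L) (x : H) (hxM : x ∈ L ⊔ L.map (MulAut.conj a).toMonoidHom)
    (hxJ : x ∉ Subgroup.closure {y : H | ∃ l ∈ L, y = l * (a * l * a⁻¹)} ⊔
      ((L ⊔ L.map (MulAut.conj a).toMonoidHom) ⊓ Subgroup.centralizer ((L ⊔ L.map (MulAut.conj a).toMonoidHom : Subgroup H) : Set H))) :
    Subgroup.closure {y : H | ∃ l ∈ L, y = l * (a * l * a⁻¹)} ⊔ Subgroup.zpowers x = L ⊔ L.map (MulAut.conj a).toMonoidHom := by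
  classical
  set La := L.map (MulAut.conj a).toMonoidHom with hLadef
  set M := L ⊔ La with hM
  set J := Subgroup.closure {y : H | ∃ l ∈ L, y = l * (a * l * a⁻¹)} with hJ
  have hLaC : Cfsg.IsComponent La := Cfsg.Agent.Helper7.isComponent_map_mulEquiv (MulAut.conj a) hL
  have hcomm0 : ⁅L, La⁆ = ⊥ :=
    Cfsg.Agent.Helper7.component_commutator_eq_bot_of_ne hL hLaC (Ne.symm hLa)
  have hcomm : ∀ l ∈ L, ∀ m ∈ La, l * m = m * l := by
    intro l hl m hm
    have h1 := (Subgroup.commutator_eq_bot_iff_le_centralizer.mp hcomm0) hl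
    exact ((Subgroup.mem_centralizer_iff.mp h1) m hm).symm
  have hmemLa : ∀ l ∈ L, a * l * a⁻¹ ∈ La := fun l hl => ⟨l, hl, by simp [MulAut.conj_apply]⟩
  have hgenJ : ∀ l ∈ L, l * (a * l * a⁻¹) ∈ J := fun l hl => Subgroup.subset_closure ⟨l, hl, rfl⟩
  have hJM : J ≤ M := by
    rw [hJ, Subgroup.closure_le]
    rintro _ ⟨l, hl, rfl⟩
    exact Subgroup.mul_mem _ (Subgroup.mem_sup_left hl) (Subgroup.mem_sup_right (hmemLa l hl))
  -- decompose x
  have hLaN : La ≤ Subgroup.normalizer (L : Set H) := by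
    have h1 : La ≤ Subgroup.centralizer (L : Set H) := by
      rw [← Subgroup.commutator_eq_bot_iff_le_centralizer, Subgroup.commutator_comm]
      exact hcomm0
    exact h1.trans (Subgroup.centralizer_le_normalizer _)
  obtain ⟨l₁, hl₁, m₂, hm₂, hx⟩ := Cfsg.Agent.Helper1.exists_mul_of_mem_sup hLaN hxM
  obtain ⟨l₂, hl₂, hm₂e⟩ := hm₂
  have hm₂e' : m₂ = a * l₂ * a⁻¹ := by rw [← hm₂e]; simp [MulAut.conj_apply]
  set j := l₂ * (a * l₂ * a⁻¹) with hj
  have hjJ : j ∈ J := hgenJ l₂ hl₂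
  set l := l₁ * l₂⁻¹ with hl
  have hlL : l ∈ L := L.mul_mem hl₁ (L.inv_mem hl₂)
  have hxl : x = l * j := by
    rw [hx, hm₂e', hl, hj]; group
  set ZM := M ⊓ Subgroup.centralizer ((M : Subgroup H) : Set H) with hZM
  have hlZ : l ∉ Subgroup.centralizer ((M : Subgroup H) : Set H) := by
    intro hlc
    apply hxJ
    rw [hxl]
    exact Subgroup.mul_mem _ (Subgroup.mem_sup_right ⟨Subgroup.mem_sup_left hlL, hlc⟩)
      (Subgroup.mem_sup_left hjJ)
  -- l is not central in L
  have hlnc : ∃ l' ∈ L, l' * l ≠ l * l' := by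
    by_contra hcon
    push Not at hcon
    apply hlZ
    have h1 : M ≤ Subgroup.centralizer ({l} : Set H) := by
      rw [hM, sup_le_iff]
      constructor
      · intro l' hl'
        rw [Subgroup.mem_centralizer_iff]
        intro z hz
        rw [Set.mem_singleton_iff] at hz
        rw [hz]; exact (hcon l' hl').symm
      · intro m hm
        rw [Subgroup.mem_centralizer_iff]
        intro z hz
        rw [Set.mem_singleton_iff] at hz
        rw [hz]; exact hcomm l hlL m hm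
    rw [Subgroup.mem_centralizer_iff]
    intro m hm
    exact ((Subgroup.mem_centralizer_iff.mp (h1 hm)) l (Set.mem_singleton l)).symm
  set Y := J ⊔ Subgroup.zpowers x with hY
  have hJY : J ≤ Y := le_sup_left
  have hxY : x ∈ Y := Subgroup.mem_sup_right (Subgroup.mem_zpowers x)
  have hlY : l ∈ Y := by
    have : l = x * j⁻¹ := by rw [hxl]; group
    rw [this]
    exact Y.mul_mem hxY (Y.inv_mem (hJY hjJ))
  -- N = Y ∩ L is normal in L
  set N : Subgroup ↥L := (Y ⊓ L).subgroupOf L with hN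
  haveI hNn : N.Normal := by
    constructor
    intro n hn l₀
    rw [hN, Subgroup.mem_subgroupOf] at hn ⊢
    refine ⟨?_, (l₀ * n * l₀⁻¹).2⟩
    have hj₀ : (l₀ : H) * (a * l₀ * a⁻¹) ∈ Y := hJY (hgenJ l₀ l₀.2)
    have hm₀ : a * (l₀ : H) * a⁻¹ ∈ La := hmemLa l₀ l₀.2
    have hc : (n : H) * (a * l₀ * a⁻¹) = (a * l₀ * a⁻¹) * n := hcomm n n.2 _ hm₀
    have e : ((l₀ * n * l₀⁻¹ : ↥L) : H)
        = ((l₀ : H) * (a * l₀ * a⁻¹)) * n * ((l₀ : H) * (a * l₀ * a⁻¹))⁻¹ := by
      simp only [Subgroup.coe_mul, Subgroup.coe_inv]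
      rw [mul_assoc (l₀ : H) (a * l₀ * a⁻¹) n, ← hc]
      group
    rw [e]
    exact Y.mul_mem (Y.mul_mem hj₀ hn.1) (Y.inv_mem hj₀)
  have hLY : L ≤ Y := by
    rcases Cfsg.Agent.Helper7.quasisimple_normal_eq_top_or_le_center hL.2 N with htop | hcen
    · intro l' hl'
      have : (⟨l', hl'⟩ : ↥L) ∈ N := by rw [htop]; exact Subgroup.mem_top _
      rw [hN, Subgroup.mem_subgroupOf] at this
      exact this.1
    · exfalso
      obtain ⟨l', hl', hne⟩ := hlnc
      have hlN : (⟨l, hlL⟩ : ↥L) ∈ N := by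
        rw [hN, Subgroup.mem_subgroupOf]; exact ⟨hlY, hlL⟩
      have := (Subgroup.mem_center_iff.mp (hcen hlN)) ⟨l', hl'⟩
      exact hne (congrArg Subtype.val this)
  have hLaY : La ≤ Y := by
    rintro _ ⟨l', hl', rfl⟩
    have h1 : (MulAut.conj a).toMonoidHom l' = l'⁻¹ * (l' * (a * l' * a⁻¹)) := by
      simp [MulAut.conj_apply]
    rw [h1]
    exact Y.mul_mem (Y.inv_mem (hLY hl')) (hJY (hgenJ l' hl'))
  apply le_antisymm
  · exact sup_le hJM (Subgroup.zpowers_le.mpr hxM)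
  · exact sup_le hLY hLaY

end Cfsg.Agent.S1921
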