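import Mathlib
import Cfsg.Statements.S1922
import Mathlib
import Cfsg.Agent.Lib.Helper10.IsolatedInv2
import Cfsg.Agent.Lib.Helper10.WellPlaced
import Cfsg.Agent.Lib.Helper25.SylowIn
-- import your own Cfsg.Agent.* helpers here

set_option autoImplicit false
open Cfsg

namespace Cfsg.Agent.S1922

theorem mem_map_conj_iff {G : Type*} [Group G] (H : Subgroup G) (g x : G) :
    x ∈ H.map (MulAut.conj g).toMonoidHom ↔ g⁻¹ * x * g ∈ H := by
  constructor
  · rintro ⟨y, hy, rfl⟩
    have : g⁻¹ * (MulAut.conj g).toMonoidHom y * g = y := by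
      simp [MulAut.conj_apply, mul_assoc]
    rw [this]; exact hy
  · intro h
    refine ⟨g⁻¹ * x * g, h, ?_⟩
    simp [MulAut.conj_apply, mul_assoc]

open Cfsg.Agent.Helper10 in
theorem two_central_of_odd_index {G : Type*} [Group G] [Finite G] (z : G) (hz : orderOf z = 2)
    (hodd : Odd (Subgroup.centralizer ({z} : Set G)).index) :
    ∃ P : Sylow 2 G, z ∈ (Subgroup.center ↥(P : Subgroup G)).map (P : Subgroup G).subtype := by
  classical
  haveI : Fact (Nat.Prime 2) := ⟨Nat.prime_two⟩
  set C := Subgroup.centralizer ({z} : Set G) with hC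
  obtain ⟨P₀⟩ : Nonempty (Sylow 2 ↥C) := inferInstance
  set P := (P₀ : Subgroup ↥C).map C.subtype with hP
  have hPp : IsPGroup 2 P := P₀.isPGroup'.map _
  obtain ⟨Q, hPQ⟩ := hPp.exists_le_sylow
  have hidx : P.index = (P₀ : Subgroup ↥C).index * C.index := Subgroup.index_map_subtype _
  have hP₀odd : ¬ 2 ∣ (P₀ : Subgroup ↥C).index := P₀.not_dvd_index
  have hnd : ¬ 2 ∣ P.relIndex ⊤ := by
    rw [Subgroup.relIndex_top_right, hidx]
    intro h
    rcases (Nat.Prime.dvd_mul Nat.prime_two).mp h with h | h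
    · exact hP₀odd h
    · exact (Nat.not_even_iff_odd.mpr hodd) (even_iff_two_dvd.mpr h)
  have hPQeq : P = (Q : Subgroup G) := eq_of_le_of_relIndex hPQ le_top Q.isPGroup' hnd
  have hQC : (Q : Subgroup G) ≤ C := by rw [← hPQeq]; exact Subgroup.map_subtype_le _
  have hcomm : ∀ q ∈ (Q : Subgroup G), q * z = z * q := fun q hq =>
    ((Subgroup.mem_centralizer_iff.mp (hQC hq)) z (Set.mem_singleton z)).symm
  have hZp : IsPGroup 2 (Subgroup.zpowers z) :=
    IsPGroup.of_card (n := 1) (by rw [Nat.card_zpowers, hz, pow_one])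
  have hQN : (Q : Subgroup G) ≤ Subgroup.normalizer (Subgroup.zpowers z : Set G) := by
    refine le_trans ?_ (Subgroup.centralizer_le_normalizer _)
    intro q hq
    rw [Subgroup.mem_centralizer_iff]
    intro m hm
    obtain ⟨k, rfl⟩ := Subgroup.mem_zpowers_iff.mp hm
    have : Commute q z := hcomm q hq
    exact (this.zpow_right k).eq.symm
  have hsup : IsPGroup 2 ((Q : Subgroup G) ⊔ Subgroup.zpowers z : Subgroup G) :=
    Q.isPGroup'.to_sup_of_normal_right' hZp hQN
  have hmax := Q.is_maximal' hsup le_sup_left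
  have hzQ : z ∈ (Q : Subgroup G) := by
    rw [← hmax]; exact Subgroup.mem_sup_right (Subgroup.mem_zpowers z)
  refine ⟨Q, ⟨⟨z, hzQ⟩, ?_, rfl⟩⟩
  show (⟨z, hzQ⟩ : ↥(Q : Subgroup G)) ∈ Subgroup.center ↥(Q : Subgroup G)
  rw [Subgroup.mem_center_iff]
  intro q
  exact Subtype.ext (hcomm q q.2)

/-- Let z be an involution of a finite group G and H a proper subgroup such that z lies in gHg⁻¹ exactly when g ∈ H. Then the following are equivalent: (1) for every conjugate t ≠ z of z commuting with z, the product zt lies in gHg⁻¹ exactly when g ∈ H; (2) z lies in the centre of some Sylow 2-subgroup of G, and for every conjugate t ≠ z of z commuting with z, the centralizer of zt is contained in H. -/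
theorem result {G : Type*} [Group G] [Finite G] (z : G) (hz : orderOf z = 2) (H : Subgroup G) (hH : H ≠ ⊤)
    (h0 : ∀ g : G, z ∈ H.map (MulAut.conj g).toMonoidHom ↔ g ∈ H) :
    (∀ t : G, IsConj z t → t ≠ z → t * z = z * t → ∀ g : G, z * t ∈ H.map (MulAut.conj g).toMonoidHom ↔ g ∈ H) ↔
      ((∃ P : Sylow 2 G, z ∈ (Subgroup.center ↥(P : Subgroup G)).map (P : Subgroup G).subtype) ∧
        ∀ t : G, IsConj z t → t ≠ z → t * z = z * t → Subgroup.centralizer ({z * t} : Set G) ≤ H) := by
  classical
  haveI : Fintype G := Fintype.ofFinite G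
  haveI : Fact (Nat.Prime 2) := ⟨Nat.prime_two⟩
  have hzsq : z * z = 1 := by rw [← pow_two, ← hz]; exact pow_orderOf_eq_one z
  have hz1 : z ≠ 1 := by
    intro h
    rw [h, orderOf_one] at hz
    exact absurd hz (by decide)
  have hiso : Cfsg.Agent.Helper10.IsoPt z H :=
    ⟨hzsq, hz1, fun g => by rw [← mem_map_conj_iff]; exact h0 g⟩
  obtain ⟨g₀, hg₀⟩ : ∃ g₀ : G, g₀ ∉ H := by
    by_contra hcon
    push Not at hcon
    exact hH (eq_top_iff.mpr fun x _ => hcon x)
  constructor
  · intro h1
    have hc1 : Cfsg.Agent.Helper10.Cond1 z H := by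
      intro t ht hne hcomm g
      rw [← mem_map_conj_iff]
      exact h1 t ht hne hcomm g
    refine ⟨?_, ?_⟩
    · apply two_central_of_odd_index z hz
      rw [Cfsg.Agent.Helper10.index_centralizer_eq_card_conjAll]
      exact Cfsg.Agent.Helper10.odd_card_conjAll hiso hc1 hg₀
    · intro t ht hne hcomm c hc
      have htH : t ∈ H := hiso.cent_le hcomm
      have hztH : z * t ∈ H := H.mul_mem hiso.mem htH
      apply (hc1 t ht hne hcomm c).mp
      have h2 : c * (z * t) = (z * t) * c :=
        ((Subgroup.mem_centralizer_iff.mp hc) (z * t) (Set.mem_singleton _)).symm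
      have : c⁻¹ * (z * t) * c = z * t := by rw [mul_assoc, ← h2, inv_mul_cancel_left]
      rw [this]; exact hztH
  · rintro ⟨⟨P, hzP⟩, h2⟩ t ht hne hcomm g
    rw [mem_map_conj_iff]
    have htH : t ∈ H := hiso.cent_le hcomm
    have hztH : z * t ∈ H := H.mul_mem hiso.mem htH
    constructor
    · intro hmem
      -- z is central in P, and P ≤ C(z) ≤ H
      obtain ⟨zc, hzc, hzce⟩ := hzP
      have hPcomm : ∀ q ∈ (P : Subgroup G), q * z = z * q := by
        intro q hq
        have := (Subgroup.mem_center_iff.mp hzc) ⟨q, hq⟩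
        have h3 := congrArg Subtype.val this
        simp only [Subgroup.coe_mul] at h3
        rw [← hzce]; exact h3
      have hPH : (P : Subgroup G) ≤ H := fun q hq => hiso.cent_le (hPcomm q hq)
      have hsyl : Cfsg.Agent.Helper25.IsSylowIn 2 (P : Subgroup G) H :=
        (Cfsg.Agent.Helper25.isSylowIn_top_of_sylow P).of_le hPH le_top
      set c' := g⁻¹ * (z * t) * g with hc'
      have hc'sq : c' * c' = 1 := by
        have htsq : t * t = 1 := Cfsg.Agent.Helper10.isConj_sq hiso ht
        calc c' * c' = g⁻¹ * ((z * t) * (z * t)) * g := by rw [hc']; group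
          _ = g⁻¹ * (z * (t * z) * t) * g := by group
          _ = g⁻¹ * (z * (z * t) * t) * g := by rw [hcomm]
          _ = g⁻¹ * ((z * z) * (t * t)) * g := by group
          _ = 1 := by rw [hzsq, htsq]; group
      have hLp : IsPGroup 2 (Subgroup.zpowers c') := by
        have hdvd : orderOf c' ∣ 2 := orderOf_dvd_of_pow_eq_one (by rw [pow_two]; exact hc'sq)
        rcases (Nat.dvd_prime Nat.prime_two).mp hdvd with h | h
        · exact IsPGroup.of_card (n := 0) (by rw [Nat.card_zpowers, h, pow_zero])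
        · exact IsPGroup.of_card (n := 1) (by rw [Nat.card_zpowers, h, pow_one])
      obtain ⟨h, hhH, hle⟩ := hsyl.exists_conj_le (Subgroup.zpowers_le.mpr hmem) hLp
      have hin : h * c' * h⁻¹ ∈ (P : Subgroup G) := by
        apply hle
        rw [Cfsg.Agent.Helper25.mem_conjBy]
        have : h⁻¹ * (h * c' * h⁻¹) * h = c' := by group
        rw [this]; exact Subgroup.mem_zpowers c'
      have h3 := hPcomm _ hin
      -- (g h⁻¹) z (g h⁻¹)⁻¹ commutes with z t
      set w := g * h⁻¹ with hw
      have h4 : (w * z * w⁻¹) ∈ Subgroup.centralizer ({z * t} : Set G) := by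
        rw [Subgroup.mem_centralizer_iff]
        intro y hy
        rw [Set.mem_singleton_iff] at hy
        rw [hy]
        have e1 : z * t * (w * z * w⁻¹) = w * ((h * c' * h⁻¹) * z) * w⁻¹ := by
          rw [hw, hc']; group
        have e2 : w * z * w⁻¹ * (z * t) = w * (z * (h * c' * h⁻¹)) * w⁻¹ := by
          rw [hw, hc']; group
        rw [e1, e2, h3]
      have h5 : w * z * w⁻¹ ∈ H := h2 t ht hne hcomm h4
      have h6 : w⁻¹ ∈ H := (hiso.h0 w⁻¹).mp (by simpa using h5)
      have h7 : w ∈ H := by simpa using H.inv_mem h6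
      have : g = w * h := by rw [hw]; group
      rw [this]
      exact H.mul_mem h7 hhH
    · intro hg
      exact H.mul_mem (H.mul_mem (H.inv_mem hg) hztH) hg

end Cfsg.Agent.S1922
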