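import Mathlib
import Cfsg.Statements.S1924

set_option autoImplicit false
open Cfsg

namespace Cfsg.Agent.S1924

universe u


open scoped Classical in
/-- sign of the permutation induced on `G ⧸ T` -/
noncomputable def sgnHom {G : Type*} [Group G] [Finite G] (T : Subgroup G) : G →* ℤˣ :=
  haveI : Fintype (G ⧸ T) := Fintype.ofFinite _
  Equiv.Perm.sign.comp (MulAction.toPermHom G (G ⧸ T))

open scoped Classical in
theorem sgnHom_free {G : Type*} [Group G] [Finite G] (T : Subgroup G) (c : G) (N r : ℕ)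
    (hN : orderOf c = N) (hNe : Even N)
    (hfree : ∀ (g : G) (i : ℕ), g⁻¹ * c ^ i * g ∈ T → c ^ i = 1)
    (hr : Odd r) (hidx : T.index = r * N) : sgnHom T c = -1 := by
  have : Fintype (G ⧸ T) := Fintype.ofFinite _
  set σ : Equiv.Perm (G ⧸ T) := MulAction.toPermHom G (G ⧸ T) c with hσ
  have hsgn : sgnHom T c = Equiv.Perm.sign σ := by
    unfold sgnHom
    simp only [MonoidHom.coe_comp, Function.comp_apply]
    congr!
  have hNpos : 0 < N := by
    rw [← hN]; exact orderOf_pos c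
  have hc1 : c ≠ 1 := by
    rintro rfl
    rw [orderOf_one] at hN
    rw [← hN] at hNe
    exact absurd hNe (by decide)
  -- fixed points of powers
  have hfix : ∀ (n : ℕ) (x : G ⧸ T), (σ ^ n) x = x → N ∣ n := by
    intro n x hx
    induction x using QuotientGroup.induction_on with
    | H g =>
      have h1 : (σ ^ n) (g : G ⧸ T) = ((c ^ n * g : G) : G ⧸ T) := by
        rw [hσ, ← map_pow]
        rfl
      rw [h1] at hx
      have h2 : g⁻¹ * c ^ n * g ∈ T := by
        have := QuotientGroup.eq.mp hx.symm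
        simpa [mul_assoc] using this
      have h3 := hfree g n h2
      rw [← hN]
      exact orderOf_dvd_of_pow_eq_one h3
  have hall : ∀ n ∈ σ.cycleType, n = N := by
    intro n hn
    have hdvd : n ∣ N := by
      have h1 := Equiv.Perm.dvd_of_mem_cycleType hn
      have h2 : orderOf σ ∣ orderOf c := orderOf_map_dvd _ c
      rw [hN] at h2
      exact h1.trans h2
    obtain ⟨τ, ρ, hσe, hdisj, hcyc, hcard⟩ := Equiv.Perm.mem_cycleType_iff.mp hn
    obtain ⟨x, hx⟩ := hcyc.nonempty_support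
    have hτn : τ ^ n = 1 := by
      rw [← hcard, ← hcyc.orderOf]; exact pow_orderOf_eq_one τ
    have hρx : ρ x = x := by
      have := hdisj x
      rcases this with h | h
      · exact absurd h (Equiv.Perm.mem_support.mp hx)
      · exact h
    have hρn : (ρ ^ n) x = x := by
      exact Equiv.Perm.pow_apply_eq_self_of_apply_eq_self hρx n
    have hσn : (σ ^ n) x = x := by
      rw [hσe, hdisj.commute.mul_pow, hτn, one_mul, hρn]
    exact Nat.dvd_antisymm hdvd (hfix n x hσn)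
  have hrep : σ.cycleType = Multiset.replicate (Multiset.card σ.cycleType) N :=
    Multiset.eq_replicate_card.mpr hall
  have hsupp : σ.support = Finset.univ := by
    ext x
    simp only [Equiv.Perm.mem_support, Finset.mem_univ, iff_true]
    intro hx
    have h1 : (σ ^ 1) x = x := by rw [pow_one]; exact hx
    have h2 := hfix 1 x h1
    have h3 : N = 1 := Nat.dvd_one.mp h2
    rw [h3] at hNe
    exact absurd hNe (by decide)
  have hsum : (Multiset.card σ.cycleType) * N = r * N := by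
    have h1 := Equiv.Perm.sum_cycleType σ
    rw [hrep, Multiset.sum_replicate, hsupp, Finset.card_univ, smul_eq_mul] at h1
    rw [h1, ← hidx, Subgroup.index, Nat.card_eq_fintype_card]
  have hk : Multiset.card σ.cycleType = r := Nat.eq_of_mul_eq_mul_right hNpos hsum
  have hsum2 : σ.cycleType.sum = r * N := by
    have h1 := Equiv.Perm.sum_cycleType σ
    rw [hsupp, Finset.card_univ] at h1
    rw [h1, ← hidx, Subgroup.index, Nat.card_eq_fintype_card]
  rw [hsgn, Equiv.Perm.sign_of_cycleType, hsum2, hk]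
  have hodd : Odd (r * N + r) := by
    have : Even (r * N) := hNe.mul_left r
    exact this.add_odd hr
  exact hodd.neg_one_pow




theorem card_mul_relIndex' {G : Type*} [Group G] (H K : Subgroup G) (h : H ≤ K) :
    Nat.card H * H.relIndex K = Nat.card K := by
  rw [← Nat.card_congr (Subgroup.subgroupOfEquivOfLe h).toEquiv, Subgroup.relIndex,
    Subgroup.card_mul_index]

/-- odd-order elements lie in the kernel of any homomorphism to `ℤˣ` -/
theorem pResidual_le_ker {G : Type*} [Group G] (φ : G →* ℤˣ) : Cfsg.pResidual 2 G ≤ φ.ker := by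
  unfold Cfsg.pResidual
  rw [Subgroup.closure_le]
  intro g hg
  rw [SetLike.mem_coe, MonoidHom.mem_ker]
  have h1 : orderOf (φ g) ∣ orderOf g := orderOf_map_dvd φ g
  have h2 : orderOf (φ g) ∣ 2 := by
    apply orderOf_dvd_of_pow_eq_one
    rw [sq]; exact Int.units_mul_self _
  have h3 : orderOf (φ g) ∣ Nat.gcd (orderOf g) 2 := Nat.dvd_gcd h1 h2
  have hg' : Nat.gcd (orderOf g) 2 = 1 := hg
  rw [hg'] at h3
  exact orderOf_eq_one_iff.mp (Nat.dvd_one.mp h3)

theorem pResidual_le_map {G : Type*} [Group G] (H : Subgroup G) (hH : Cfsg.pResidual 2 G ≤ H) :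
    Cfsg.pResidual 2 G ≤ (Cfsg.pResidual 2 ↥H).map H.subtype := by
  have hH' := hH
  unfold Cfsg.pResidual at hH' ⊢
  rw [Subgroup.closure_le]
  intro g hg
  have hgH : g ∈ H := hH' (Subgroup.subset_closure hg)
  refine ⟨⟨g, hgH⟩, Subgroup.subset_closure ?_, rfl⟩
  show Nat.Coprime (orderOf (⟨g, hgH⟩ : H)) 2
  rw [Subgroup.orderOf_mk]; exact hg

theorem map_pResidual_le {G : Type*} [Group G] (L : Subgroup G) :
    (Cfsg.pResidual 2 ↥L).map L.subtype ≤ Cfsg.pResidual 2 G := by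
  unfold Cfsg.pResidual
  rw [MonoidHom.map_closure, Subgroup.closure_le]
  rintro _ ⟨l, hl, rfl⟩
  apply Subgroup.subset_closure
  show Nat.Coprime (orderOf (L.subtype l)) 2
  rw [Subgroup.coe_subtype, Subgroup.orderOf_coe]; exact hl

theorem pResidual_normal {G : Type*} [Group G] : (Cfsg.pResidual 2 G).Normal := by
  constructor
  intro n hn g
  unfold Cfsg.pResidual at hn ⊢
  induction hn using Subgroup.closure_induction with
  | mem x hx =>
    apply Subgroup.subset_closure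
    show Nat.Coprime (orderOf (g * x * g⁻¹)) 2
    have : orderOf (g * x * g⁻¹) = orderOf x := by
      rw [← MulAut.conj_apply]; exact MulEquiv.orderOf_eq (MulAut.conj g) x
    rw [this]; exact hx
  | one => simp
  | mul x y _ _ hx hy =>
    have : g * (x * y) * g⁻¹ = (g * x * g⁻¹) * (g * y * g⁻¹) := by group
    rw [this]; exact mul_mem hx hy
  | inv x _ hx =>
    have : g * x⁻¹ * g⁻¹ = (g * x * g⁻¹)⁻¹ := by group
    rw [this]; exact inv_mem hx

theorem isPGroup_quot {G : Type*} [Group G] [Finite G] [hn : (Cfsg.pResidual 2 G).Normal] :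
    IsPGroup 2 (G ⧸ Cfsg.pResidual 2 G) := by
  intro q
  induction q using QuotientGroup.induction_on with
  | H g =>
    obtain ⟨k, m, hm, hkm⟩ := Nat.exists_eq_two_pow_mul_odd (orderOf_pos g).ne'
    refine ⟨k, ?_⟩
    rw [← QuotientGroup.mk_pow, QuotientGroup.eq_one_iff]
    apply Subgroup.subset_closure
    show Nat.Coprime (orderOf (g ^ 2 ^ k)) 2
    have h1 : orderOf (g ^ 2 ^ k) = m := by
      rw [orderOf_pow_of_dvd (by positivity) (by rw [hkm]; exact dvd_mul_right _ _), hkm]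
      exact Nat.mul_div_cancel_left m (by positivity)
    rw [h1]
    exact Nat.coprime_two_right.mpr hm

theorem sup_sylow_eq_top {G : Type*} [Group G] [Finite G] (S : Subgroup G) (hSsyl : ¬ 2 ∣ S.index) :
    Cfsg.pResidual 2 G ⊔ S = ⊤ := by
  have := pResidual_normal (G := G)
  rw [← Subgroup.index_eq_one]
  obtain ⟨j, hj⟩ := (IsPGroup.iff_card (p := 2)).mp (isPGroup_quot (G := G))
  have h1 : (Cfsg.pResidual 2 G ⊔ S).index ∣ 2 ^ j := by
    rw [← hj]
    exact Subgroup.index_dvd_of_le le_sup_left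
  have h2 : (Cfsg.pResidual 2 G ⊔ S).index ∣ S.index := Subgroup.index_dvd_of_le le_sup_right
  obtain ⟨i, _, hi⟩ := (Nat.dvd_prime_pow Nat.prime_two).mp h1
  rcases Nat.eq_zero_or_pos i with h0 | hpos
  · rw [hi, h0, pow_zero]
  · exfalso
    apply hSsyl
    refine dvd_trans ?_ h2
    rw [hi]
    exact dvd_pow_self 2 hpos.ne'




theorem card_units_int : Nat.card ℤˣ = 2 := by
  rw [Nat.card_eq_fintype_card]; rfl

theorem card_subgroupOf_comm {G : Type*} [Group G] (A B : Subgroup G) :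
    Nat.card ↥(A.subgroupOf B) = Nat.card ↥(B.subgroupOf A) := by
  have h1 : Nat.card ↥(A.subgroupOf B) = Nat.card ↥(A ⊓ B) := by
    rw [← Subgroup.inf_subgroupOf_right A B]
    exact Nat.card_congr (Subgroup.subgroupOfEquivOfLe (inf_le_right)).toEquiv
  have h2 : Nat.card ↥(B.subgroupOf A) = Nat.card ↥(B ⊓ A) := by
    rw [← Subgroup.inf_subgroupOf_right B A]
    exact Nat.card_congr (Subgroup.subgroupOfEquivOfLe (inf_le_right)).toEquiv
  rw [h1, h2, inf_comm]

theorem sylow_descent {G : Type*} [Group G] [Finite G] (S : Subgroup G) (hS2 : IsPGroup 2 S)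
    (hSsyl : ¬ 2 ∣ S.index) (φ : G →* ℤˣ) (s : G) (hs : s ∈ S) (hφs : φ s = -1) :
    IsPGroup 2 ↥(S.subgroupOf φ.ker) ∧ ¬ 2 ∣ (S.subgroupOf φ.ker).index ∧
      Nat.card ↥(S.subgroupOf φ.ker) * 2 = Nat.card S := by
  have hmap : S.map φ = ⊤ := by
    rw [eq_top_iff]
    intro x _
    rcases Int.units_eq_one_or x with hx | hx
    · rw [hx]; exact Subgroup.one_mem _
    · rw [hx, ← hφs]; exact ⟨s, hs, rfl⟩
  have hrel : φ.ker.relIndex S = 2 := by
    rw [Subgroup.relIndex_ker, hmap, Subgroup.card_top, card_units_int]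
  have hidx : φ.ker.index = 2 := by
    rw [Subgroup.index_ker]
    have htop : φ.range = ⊤ := by
      rw [eq_top_iff]
      intro x _
      rcases Int.units_eq_one_or x with hx | hx
      · rw [hx]; exact Subgroup.one_mem _
      · rw [hx, ← hφs]; exact ⟨s, rfl⟩
    rw [htop, Subgroup.card_top, card_units_int]
  have hcard : Nat.card ↥(S.subgroupOf φ.ker) * 2 = Nat.card S := by
    rw [card_subgroupOf_comm, ← hrel, Subgroup.relIndex, Subgroup.card_mul_index]
  refine ⟨hS2.comap_subtype, ?_, hcard⟩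
  have h1 := Subgroup.card_mul_index (S.subgroupOf φ.ker)
  have h2 := Subgroup.card_mul_index φ.ker
  have h3 := Subgroup.card_mul_index S
  rw [hidx] at h2
  have hpos : 0 < Nat.card ↥(S.subgroupOf φ.ker) := Nat.card_pos
  have h4 : (S.subgroupOf φ.ker).index = S.index := by
    have : Nat.card ↥(S.subgroupOf φ.ker) * ((S.subgroupOf φ.ker).index * 2) =
        Nat.card ↥(S.subgroupOf φ.ker) * (2 * S.index) := by
      calc Nat.card ↥(S.subgroupOf φ.ker) * ((S.subgroupOf φ.ker).index * 2)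
          = (Nat.card ↥(S.subgroupOf φ.ker) * (S.subgroupOf φ.ker).index) * 2 := by ring
        _ = Nat.card G := by rw [h1, h2]
        _ = Nat.card S * S.index := h3.symm
        _ = Nat.card ↥(S.subgroupOf φ.ker) * (2 * S.index) := by rw [← hcard]; ring
    have := Nat.eq_of_mul_eq_mul_left hpos this
    omega
  rw [h4]; exact hSsyl

/-- the inductive statement -/
def P (n : ℕ) : Prop :=
  ∀ (G : Type u) [Group G] [Finite G] (M T : Subgroup G) (c : G), orderOf c = n → IsPGroup 2 M →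
    ¬ 2 ∣ M.index → T ≤ M → c ∈ M → T ⊓ Subgroup.zpowers c = ⊥ →
    Nat.card T * orderOf c = Nat.card M →
    (∀ y ∈ Subgroup.zpowers c, orderOf y = 2 → ∀ g : G, g * y * g⁻¹ ∉ T) →
    T ≤ Cfsg.pResidual 2 G → ∀ x ∈ Subgroup.zpowers c, x ∈ Cfsg.pResidual 2 G → x = 1


theorem step {G : Type u} [Group G] [Finite G] (M T : Subgroup G) (c s : G) (φ : G →* ℤˣ)
    (hM2 : IsPGroup 2 M) (hMsyl : ¬ 2 ∣ M.index) (hTM : T ≤ M) (hcM : c ∈ M) (hsM : s ∈ M)
    (hφs : φ s = -1) (hφc : φ c = 1)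
    (hTc : T ⊓ Subgroup.zpowers c = ⊥) (hcard : Nat.card T * orderOf c * 2 = Nat.card M)
    (hinv : ∀ y ∈ Subgroup.zpowers c, orderOf y = 2 → ∀ g : G, g * y * g⁻¹ ∉ T)
    (hTK : T ≤ Cfsg.pResidual 2 G)
    (IH : P.{u} (orderOf c)) : ∀ x ∈ Subgroup.zpowers c, x ∈ Cfsg.pResidual 2 G → x = 1 := by
  intro x hxc hxK
  have hKH : Cfsg.pResidual 2 G ≤ φ.ker := pResidual_le_ker φ
  have hcH : c ∈ φ.ker := MonoidHom.mem_ker.mpr hφc
  obtain ⟨hM12, hM1syl, hM1card⟩ := sylow_descent M hM2 hMsyl φ s hsM hφs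
  have hTH : T ≤ φ.ker := hTK.trans hKH
  have hmemK : ∀ y : G, y ∈ Cfsg.pResidual 2 G →
      ∃ h : y ∈ φ.ker, (⟨y, h⟩ : φ.ker) ∈ Cfsg.pResidual 2 ↥φ.ker := by
    intro y hy
    obtain ⟨z, hz, hzy⟩ := pResidual_le_map φ.ker hKH hy
    have hyH : y ∈ φ.ker := by rw [← hzy]; exact z.2
    refine ⟨hyH, ?_⟩
    have : (⟨y, hyH⟩ : φ.ker) = z := Subtype.ext hzy.symm
    rw [this]; exact hz
  have hzp : ∀ y : φ.ker, y ∈ Subgroup.zpowers (⟨c, hcH⟩ : φ.ker) →
      (y : G) ∈ Subgroup.zpowers c := by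
    intro y hy
    obtain ⟨k, rfl⟩ := Subgroup.mem_zpowers_iff.mp hy
    rw [Subgroup.coe_zpow]
    exact Subgroup.zpow_mem_zpowers c k
  obtain ⟨hxH, hx1⟩ := hmemK x hxK
  have hx1c : (⟨x, hxH⟩ : φ.ker) ∈ Subgroup.zpowers (⟨c, hcH⟩ : φ.ker) := by
    obtain ⟨k, hk⟩ := Subgroup.mem_zpowers_iff.mp hxc
    rw [Subgroup.mem_zpowers_iff]
    refine ⟨k, ?_⟩
    apply Subtype.ext
    rw [Subgroup.coe_zpow]; exact hk
  have key := IH (↥φ.ker) (M.subgroupOf φ.ker) (T.subgroupOf φ.ker) ⟨c, hcH⟩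
    (Subgroup.orderOf_mk c hcH) hM12 hM1syl ?_ ?_ ?_ ?_ ?_ ?_ ⟨x, hxH⟩ hx1c hx1
  · exact congrArg Subtype.val key
  · intro y hy
    rw [Subgroup.mem_subgroupOf] at hy ⊢
    exact hTM hy
  · rw [Subgroup.mem_subgroupOf]; exact hcM
  · rw [eq_bot_iff]
    rintro y ⟨hyT, hyc⟩
    have h1 : (y : G) ∈ T ⊓ Subgroup.zpowers c := ⟨Subgroup.mem_subgroupOf.mp hyT, hzp y hyc⟩
    rw [hTc, Subgroup.mem_bot] at h1
    rw [Subgroup.mem_bot]; exact Subtype.ext h1
  · have h1 : Nat.card ↥(T.subgroupOf φ.ker) = Nat.card T :=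
      Nat.card_congr (Subgroup.subgroupOfEquivOfLe hTH).toEquiv
    rw [h1, Subgroup.orderOf_mk]
    have h2 : Nat.card T * orderOf c * 2 = Nat.card ↥(M.subgroupOf φ.ker) * 2 := by
      rw [hcard, hM1card]
    exact Nat.eq_of_mul_eq_mul_right (by norm_num) h2
  · intro y hy hy2 g hg
    refine hinv (y : G) (hzp y hy) ?_ (g : G) ?_
    · rw [Subgroup.orderOf_coe]; exact hy2
    · exact Subgroup.mem_subgroupOf.mp hg
  · intro y hy
    obtain ⟨h, hh⟩ := hmemK (y : G) (hTK (Subgroup.mem_subgroupOf.mp hy))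
    exact hh


theorem claim : ∀ n : ℕ, P.{u} n := by
  intro n
  induction n using Nat.strong_induction_on with
  | _ n ih =>
  intro G _ _ M T c hn hM2 hMsyl hTM hcM hTc hcard hinv hTK x hxc hxK
  by_cases hc1 : c = 1
  · subst hc1
    rw [Subgroup.zpowers_one_eq_bot, Subgroup.mem_bot] at hxc
    exact hxc
  obtain ⟨k, hk⟩ := hM2 ⟨c, hcM⟩
  have hk' : c ^ 2 ^ k = 1 := by
    have := congrArg Subtype.val hk
    simpa using this
  have hord : orderOf c ∣ 2 ^ k := orderOf_dvd_of_pow_eq_one hk'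
  obtain ⟨j, hj, hjord⟩ := (Nat.dvd_prime_pow Nat.prime_two).mp hord
  have hj0 : j ≠ 0 := by
    rintro rfl
    rw [pow_zero, orderOf_eq_one_iff] at hjord; exact hc1 hjord
  have hNe : Even (orderOf c) := by rw [hjord]; exact (Nat.even_pow.mpr ⟨even_two, hj0⟩)
  set φ := sgnHom T with hφdef
  have hφc : φ c = -1 := by
    apply sgnHom_free T c (orderOf c) M.index rfl hNe ?_ ?_ ?_
    · intro g i hgi
      by_contra hne
      have hyM : c ^ i ∈ M := M.pow_mem hcM i
      obtain ⟨k2, hk2⟩ := hM2 ⟨c ^ i, hyM⟩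
      have hk2' : (c ^ i) ^ 2 ^ k2 = 1 := by
        have := congrArg Subtype.val hk2
        simpa using this
      obtain ⟨m, hm, hmord⟩ :=
        (Nat.dvd_prime_pow Nat.prime_two).mp (orderOf_dvd_of_pow_eq_one hk2')
      have hm0 : m ≠ 0 := by
        rintro rfl
        rw [pow_zero, orderOf_eq_one_iff] at hmord; exact hne hmord
      have hw : orderOf ((c ^ i) ^ (orderOf (c ^ i) / 2)) = 2 :=
        orderOf_pow_orderOf_div (by rw [hmord]; positivity)
          (by rw [hmord]; exact dvd_pow_self 2 hm0)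
      refine hinv ((c ^ i) ^ (orderOf (c ^ i) / 2)) ?_ hw g⁻¹ ?_
      · exact Subgroup.pow_mem _ (Subgroup.pow_mem _ (Subgroup.mem_zpowers c) i) _
      · rw [← conj_pow]
        apply T.pow_mem
        rw [inv_inv]; exact hgi
    · exact Nat.odd_iff.mpr (by omega)
    · rw [← Subgroup.relIndex_mul_index hTM, mul_comm]
      congr 1
      have h1 := card_mul_relIndex' T M hTM
      rw [← hcard] at h1
      exact (Nat.eq_of_mul_eq_mul_left Nat.card_pos h1)
  have hφc2 : φ (c ^ 2) = 1 := by rw [map_pow, hφc]; norm_num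
  have hord2 : orderOf (c ^ 2) = orderOf c / 2 :=
    orderOf_pow_of_dvd (by norm_num) hNe.two_dvd
  have hlt : orderOf (c ^ 2) < n := by
    rw [hord2, ← hn]; exact Nat.div_lt_self (orderOf_pos c) (by norm_num)
  have hzle : Subgroup.zpowers (c ^ 2) ≤ Subgroup.zpowers c :=
    Subgroup.zpowers_le.mpr (Subgroup.pow_mem _ (Subgroup.mem_zpowers c) 2)
  have hstep := step M T (c ^ 2) c φ hM2 hMsyl hTM (M.pow_mem hcM 2) hcM hφc hφc2 ?_ ?_ ?_ hTK
    (ih _ hlt)
  · apply hstep x ?_ hxK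
    obtain ⟨m, hm⟩ := (Submonoid.mem_powers_iff x c).mp ((mem_powers_iff_mem_zpowers).mpr hxc)
    have hφx : φ x = 1 := MonoidHom.mem_ker.mp (pResidual_le_ker φ hxK)
    rw [← hm, map_pow, hφc] at hφx
    have hme : Even m := by
      by_contra hodd
      rw [Nat.not_even_iff_odd] at hodd
      rw [hodd.neg_one_pow] at hφx
      exact absurd hφx (by decide)
    obtain ⟨t, ht⟩ := hme
    rw [← hm, ht, ← two_mul, pow_mul]
    exact Subgroup.pow_mem _ (Subgroup.mem_zpowers _) t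
  · rw [eq_bot_iff, ← hTc]; exact inf_le_inf_left T hzle
  · rw [hord2, mul_assoc, Nat.div_mul_cancel hNe.two_dvd]; exact hcard
  · intro y hy; exact hinv y (hzle hy)


theorem r_pow' {n : ℕ} (j : ZMod n) (k : ℕ) :
    (DihedralGroup.r j) ^ k = DihedralGroup.r ((k : ZMod n) * j) := by
  induction k with
  | zero => rw [pow_zero, Nat.cast_zero, zero_mul]; rfl
  | succ k ih =>
    rw [pow_succ, ih, DihedralGroup.r_mul_r]
    congr 1
    push_cast
    ring

theorem outside_order_two {G : Type*} [Group G] (D C : Subgroup G) (n : ℕ) (hn : 2 ≤ n)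
    (e : ↥D ≃* DihedralGroup n) (hCD : C ≤ D) (hC : IsCyclic ↥C) (hCi : C.relIndex D = 2)
    (x : G) (hxD : x ∈ D) (hxC : x ∉ C) : orderOf x = 2 := by
  have hn0 : NeZero n := ⟨by omega⟩
  have hcardD : Nat.card D = 2 * n := by
    rw [Nat.card_congr e.toEquiv, DihedralGroup.nat_card]
  have hcardC : Nat.card C = n := by
    have h1 := card_mul_relIndex' C D hCD
    rw [hCi, hcardD] at h1
    omega
  have hox : orderOf x = orderOf (e ⟨x, hxD⟩) := by
    rw [MulEquiv.orderOf_eq, Subgroup.orderOf_mk]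
  rcases hex : e ⟨x, hxD⟩ with i | i
  · -- rotation
    rcases Nat.eq_or_lt_of_le hn with h2 | h3
    · -- n = 2
      subst h2
      have hsq : x * x = 1 := by
        have h1 : e (⟨x, hxD⟩ * ⟨x, hxD⟩) = 1 := by
          rw [map_mul, hex, DihedralGroup.r_mul_r, DihedralGroup.one_def]
          congr 1
          exact CharTwo.add_self_eq_zero i
        have h2 : (⟨x, hxD⟩ * ⟨x, hxD⟩ : D) = 1 := e.injective (by rw [h1, map_one])
        exact congrArg Subtype.val h2
      have hx1 : x ≠ 1 := fun h => hxC (h ▸ C.one_mem)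
      have : Fact (Nat.Prime 2) := ⟨Nat.prime_two⟩
      exact orderOf_eq_prime (by rw [sq]; exact hsq) hx1
    · -- n ≥ 3
      exfalso
      obtain ⟨g, hg⟩ := hC.exists_generator
      have hog : orderOf g = n := by
        rw [orderOf_eq_card_of_forall_mem_zpowers hg, hcardC]
      have hogD : orderOf (e ⟨(g : G), hCD g.2⟩) = n := by
        rw [MulEquiv.orderOf_eq, Subgroup.orderOf_mk, Subgroup.orderOf_coe]; exact hog
      rcases heg : e ⟨(g : G), hCD g.2⟩ with j | j
      · rw [heg, DihedralGroup.orderOf_r] at hogD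
        have hgcd : Nat.gcd n j.val = 1 :=
          (Nat.div_eq_self.mp hogD).resolve_left (by omega)
        have hju : IsUnit j := by
          have h1 : IsUnit ((j.val : ℕ) : ZMod n) :=
            (ZMod.isUnit_iff_coprime j.val n).mpr (Nat.coprime_comm.mp hgcd)
          rwa [ZMod.natCast_zmod_val] at h1
        obtain ⟨uj, huj⟩ := hju
        set k : ℕ := (i * ((uj⁻¹ : (ZMod n)ˣ) : ZMod n)).val with hk
        have hpow : (e ⟨(g : G), hCD g.2⟩) ^ k = e ⟨x, hxD⟩ := by
          rw [heg, hex, r_pow', hk, ZMod.natCast_zmod_val, ← huj, mul_assoc, Units.inv_mul, mul_one]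
        rw [← map_pow] at hpow
        have h2 := e.injective hpow
        have h3 : (g : G) ^ k = x := by
          have := congrArg Subtype.val h2
          simpa using this
        apply hxC
        rw [← h3]
        exact C.pow_mem g.2 k
      · rw [heg, DihedralGroup.orderOf_sr] at hogD
        omega
  · rw [hox, hex, DihedralGroup.orderOf_sr]

theorem sylow_card_eq {G : Type*} [Group G] [Finite G] (L T T' : Subgroup G) (hT : T ≤ L)
    (hT' : T' ≤ L) (h2 : IsPGroup 2 T) (h2' : IsPGroup 2 T') (hs : ¬ 2 ∣ T.relIndex L)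
    (hs' : ¬ 2 ∣ T'.relIndex L) : Nat.card T = Nat.card T' := by
  obtain ⟨a, ha⟩ := (IsPGroup.iff_card (p := 2)).mp h2
  obtain ⟨b, hb⟩ := (IsPGroup.iff_card (p := 2)).mp h2'
  have h1 := card_mul_relIndex' T L hT
  have h1' := card_mul_relIndex' T' L hT'
  rw [ha] at h1
  rw [hb] at h1'
  have hc : ∀ (a b r r' : ℕ), ¬ 2 ∣ r' → 2 ^ a * r = 2 ^ b * r' → a ≤ b := by
    intro a b r r' hr' h
    have hd : 2 ^ a ∣ 2 ^ b * r' := ⟨r, h.symm⟩
    have hcop : Nat.Coprime (2 ^ a) r' :=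
      Nat.Coprime.pow_left a ((Nat.Prime.coprime_iff_not_dvd Nat.prime_two).mpr hr')
    have := hcop.dvd_of_dvd_mul_right hd
    exact (Nat.pow_dvd_pow_iff_le_right (by norm_num)).mp this
  have hab : a ≤ b := hc a b _ _ hs' (h1.trans h1'.symm)
  have hba : b ≤ a := hc b a _ _ hs (h1'.trans h1.symm)
  rw [ha, hb, le_antisymm hab hba]


/-- A consequence of Thompson's transfer lemma. Let G be a finite group, L a subgroup with O²(L) = L, T a Sylow 2-subgroup of L and S a Sylow 2-subgroup of G containing T. Suppose D ≤ S is a dihedral subgroup of order at least 4 (the four-group counts) with D ∩ T = 1 and S = TD as a set of products (so |S| = |T|·|D|), and C ≤ D is cyclic of index 2 in D. If no involution of D outside C is G-conjugate to an involution of the subgroup generated by T and C, and the involution of C is not G-conjugate to any involution of T, then G has a normal subgroup K, containing every Sylow 2-subgroup of L as a Sylow 2-subgroup, with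 G = KD. -/
theorem result {G : Type*} [Group G] [Finite G] (L T S D C : Subgroup G) (hL : Cfsg.pResidual 2 ↥L = ⊤)
    (hTL : T ≤ L) (hT2 : IsPGroup 2 T) (hTsyl : ¬ 2 ∣ T.relIndex L)
    (hS2 : IsPGroup 2 S) (hSsyl : ¬ 2 ∣ S.index) (hTS : T ≤ S)
    (hDS : D ≤ S) (hDih : ∃ n : ℕ, 2 ≤ n ∧ Nonempty (↥D ≃* DihedralGroup n)) (hDT : D ⊓ T = ⊥) (hTD : T ⊔ D = S) (hTDc : Nat.card T * Nat.card D = Nat.card S)
    (hCD : C ≤ D) (hC : IsCyclic ↥C) (hCi : C.relIndex D = 2)
    (h1 : ∀ x ∈ D, x ∉ C → orderOf x = 2 → ∀ g : G, g * x * g⁻¹ ∈ T ⊔ C → False)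
    (h2 : ∀ c ∈ C, orderOf c = 2 → ∀ g : G, g * c * g⁻¹ ∈ T → False) :
    ∃ K : Subgroup G, K.Normal ∧ K ⊔ D = ⊤ ∧
      ∀ T' : Subgroup G, T' ≤ L → IsPGroup 2 T' → ¬ 2 ∣ T'.relIndex L → T' ≤ K ∧ ¬ 2 ∣ T'.relIndex K := by
  classical
  obtain ⟨n, hn2, ⟨e⟩⟩ := hDih
  have hKn : (Cfsg.pResidual 2 G).Normal := pResidual_normal
  have hLK : L ≤ Cfsg.pResidual 2 G := by
    intro l hl
    have h1 : (⟨l, hl⟩ : L) ∈ Cfsg.pResidual 2 ↥L := by rw [hL]; exact Subgroup.mem_top _
    exact map_pResidual_le L ⟨⟨l, hl⟩, h1, rfl⟩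
  have hTK : T ≤ Cfsg.pResidual 2 G := hTL.trans hLK
  have hrefl : ∀ x ∈ D, x ∉ C → orderOf x = 2 := fun x hxD hxC =>
    outside_order_two D C n hn2 e hCD hC hCi x hxD hxC
  obtain ⟨u₀, hu₀D, hu₀C⟩ : ∃ u₀ ∈ D, u₀ ∉ C := by
    by_contra hcon
    push Not at hcon
    have : C.relIndex D = 1 := Subgroup.relIndex_eq_one.mpr hcon
    omega
  have hcardCD : Nat.card C * 2 = Nat.card D := by
    rw [← hCi]; exact card_mul_relIndex' C D hCD
  have hMAS : T ⊔ C ≤ S := sup_le hTS (hCD.trans hDS)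
  have hTC : T ⊓ C = ⊥ := by
    rw [eq_bot_iff, ← hDT, inf_comm]
    exact inf_le_inf_right T hCD
  have hcardMA : Nat.card ↥(T ⊔ C) * 2 = Nat.card S := by
    have hle : Nat.card T * Nat.card C ≤ Nat.card ↥(T ⊔ C) := by
      rw [← Nat.card_prod]
      let f : T × C → ↥(T ⊔ C) := fun p =>
        ⟨(p.1 : G) * (p.2 : G), Subgroup.mul_mem _ (Subgroup.mem_sup_left p.1.2)
          (Subgroup.mem_sup_right p.2.2)⟩
      apply Nat.card_le_card_of_injective f
      rintro ⟨t₁, c₁⟩ ⟨t₂, c₂⟩ hf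
      have hf' : (t₁ : G) * (c₁ : G) = (t₂ : G) * (c₂ : G) := congrArg Subtype.val hf
      have h3 : (t₂ : G)⁻¹ * (t₁ : G) = (c₂ : G) * (c₁ : G)⁻¹ := by
        rw [inv_mul_eq_iff_eq_mul, ← mul_assoc, ← hf', mul_assoc, mul_inv_cancel, mul_one]
      have h4 : (t₂ : G)⁻¹ * (t₁ : G) ∈ T ⊓ C :=
        ⟨T.mul_mem (T.inv_mem t₂.2) t₁.2, by rw [h3]; exact C.mul_mem c₂.2 (C.inv_mem c₁.2)⟩
      rw [hTC, Subgroup.mem_bot] at h4
      have h5 : (t₁ : G) = (t₂ : G) := by
        rw [inv_mul_eq_one] at h4; exact h4.symm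
      have h6 : (c₁ : G) = (c₂ : G) := by
        rw [h5] at hf'; exact mul_left_cancel hf'
      exact Prod.ext (Subtype.ext h5) (Subtype.ext h6)
    have hdvd : Nat.card ↥(T ⊔ C) ∣ Nat.card S := Subgroup.card_dvd_of_le hMAS
    have hne : Nat.card ↥(T ⊔ C) ≠ Nat.card S := by
      intro heq
      have hMS : T ⊔ C = S := Subgroup.eq_of_le_of_card_ge hMAS (le_of_eq heq.symm)
      apply h1 u₀ hu₀D hu₀C (hrefl u₀ hu₀D hu₀C) 1
      rw [one_mul, inv_one, mul_one, hMS]; exact hDS hu₀D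
    obtain ⟨q, hq⟩ := hdvd
    have hSpos : 0 < Nat.card S := Nat.card_pos
    have hapos : 0 < Nat.card ↥(T ⊔ C) := Nat.card_pos
    have hS2' : Nat.card S = Nat.card T * Nat.card C * 2 := by
      rw [mul_assoc, hcardCD, hTDc]
    have hq2 : q ≤ 2 := by
      have : Nat.card ↥(T ⊔ C) * q ≤ Nat.card ↥(T ⊔ C) * 2 := by
        rw [← hq, hS2']; exact Nat.mul_le_mul_right 2 hle
      exact Nat.le_of_mul_le_mul_left this hapos
    have hq0 : q ≠ 0 := by
      rintro rfl; rw [mul_zero] at hq; omega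
    have hq1 : q ≠ 1 := by
      rintro rfl; rw [mul_one] at hq; exact hne hq.symm
    have : q = 2 := by omega
    rw [hq, this]
  have hMAidx : (T ⊔ C).index = S.index * 2 := by
    rw [← Subgroup.relIndex_mul_index hMAS, mul_comm]
    congr 1
    have h3 := card_mul_relIndex' (T ⊔ C) S hMAS
    rw [← hcardMA] at h3
    exact Nat.eq_of_mul_eq_mul_left Nat.card_pos h3
  have hφrefl : ∀ u ∈ D, u ∉ C → sgnHom (T ⊔ C) u = -1 := by
    intro u huD huC
    have hu2 := hrefl u huD huC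
    apply sgnHom_free (T ⊔ C) u 2 S.index hu2 even_two ?_ (Nat.odd_iff.mpr (by omega)) hMAidx
    intro g i hgi
    rcases Nat.even_or_odd i with hi | hi
    · obtain ⟨t, rfl⟩ := hi
      rw [← two_mul, pow_mul, ← hu2, pow_orderOf_eq_one, one_pow]
    · exfalso
      obtain ⟨t, rfl⟩ := hi
      have hui : u ^ (2 * t + 1) = u := by
        rw [pow_succ, pow_mul, ← hu2, pow_orderOf_eq_one, one_pow, one_mul]
      rw [hui] at hgi
      apply h1 u huD huC hu2 g⁻¹
      rw [inv_inv]; exact hgi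
  have hφC : ∀ x ∈ C, sgnHom (T ⊔ C) x = 1 := by
    intro x hxC
    have h3 : u₀ * x ∉ C := fun h => hu₀C (by
      have := C.mul_mem h (C.inv_mem hxC)
      simpa using this)
    have h4 := hφrefl (u₀ * x) (D.mul_mem hu₀D (hCD hxC)) h3
    rw [map_mul, hφrefl u₀ hu₀D hu₀C] at h4
    have := congrArg (fun z => -1 * z) h4
    simpa using this
  obtain ⟨g₀, hg₀⟩ := hC.exists_generator
  have hCz : C = Subgroup.zpowers (g₀ : G) := by
    ext y
    constructor
    · intro hy
      obtain ⟨k, hk⟩ := Subgroup.mem_zpowers_iff.mp (hg₀ ⟨y, hy⟩)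
      rw [Subgroup.mem_zpowers_iff]
      refine ⟨k, ?_⟩
      have := congrArg Subtype.val hk
      simpa using this
    · intro hy
      obtain ⟨k, rfl⟩ := Subgroup.mem_zpowers_iff.mp hy
      exact C.zpow_mem g₀.2 k
  have hordg : orderOf (g₀ : G) = Nat.card C := by
    rw [Subgroup.orderOf_coe]
    exact orderOf_eq_card_of_forall_mem_zpowers hg₀
  have hkey : ∀ x ∈ D, x ∈ Cfsg.pResidual 2 G → x = 1 := by
    intro x hxD hxK
    have hφx : sgnHom (T ⊔ C) x = 1 := MonoidHom.mem_ker.mp (pResidual_le_ker _ hxK)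
    have hxC : x ∈ C := by
      by_contra hxC
      rw [hφrefl x hxD hxC] at hφx
      exact absurd hφx (by decide)
    rw [hCz] at hxC
    refine step S T (g₀ : G) u₀ (sgnHom (T ⊔ C)) hS2 hSsyl hTS (hDS (hCD g₀.2)) (hDS hu₀D)
      (hφrefl u₀ hu₀D hu₀C) (hφC _ g₀.2) ?_ ?_ ?_ hTK (claim _) x hxC hxK
    · rw [← hCz]; exact hTC
    · rw [hordg, mul_assoc, hcardCD]; exact hTDc
    · intro y hy hy2 g hg
      rw [← hCz] at hy
      exact h2 y hy hy2 g hg
  have hKD : Cfsg.pResidual 2 G ⊔ D = ⊤ := by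
    have h3 := sup_sylow_eq_top S hSsyl
    rw [← hTD, ← sup_assoc, sup_eq_left.mpr hTK] at h3
    exact h3
  refine ⟨Cfsg.pResidual 2 G, hKn, hKD, ?_⟩
  intro T' hT'L hT'2 hT'syl
  have hT'K : T' ≤ Cfsg.pResidual 2 G := hT'L.trans hLK
  refine ⟨hT'K, ?_⟩
  have hdisj : Disjoint (Cfsg.pResidual 2 G) D := by
    rw [disjoint_iff, eq_bot_iff]
    rintro x ⟨hxK, hxD⟩
    rw [Subgroup.mem_bot]; exact hkey x hxD hxK
  have hcompl : Subgroup.IsComplement' (Cfsg.pResidual 2 G) D :=
    Subgroup.isComplement'_of_disjoint_and_mul_eq_univ hdisj (by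
      rw [← Subgroup.normal_mul, hKD]; rfl)
  have hcard := hcompl.card_mul_card
  have hTT' : Nat.card T = Nat.card T' := sylow_card_eq L T T' hTL hT'L hT2 hT'2 hTsyl hT'syl
  have hK : Nat.card ↥(Cfsg.pResidual 2 G) = Nat.card T * S.index := by
    have h3 := Subgroup.card_mul_index S
    rw [← hTDc] at h3
    have h4 : Nat.card ↥(Cfsg.pResidual 2 G) * Nat.card D = Nat.card T * S.index * Nat.card D := by
      rw [hcard, ← h3]; ring
    exact Nat.eq_of_mul_eq_mul_right Nat.card_pos h4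
  have h5 := card_mul_relIndex' T' (Cfsg.pResidual 2 G) hT'K
  rw [hK, hTT'] at h5
  have h6 : T'.relIndex (Cfsg.pResidual 2 G) = S.index := Nat.eq_of_mul_eq_mul_left Nat.card_pos h5
  rw [h6]; exact hSsyl

end Cfsg.Agent.S1924
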