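import Mathlib
import Cfsg.Statements.S1939
import Cfsg.Agent.Lib.Helper10.SylowAux
-- import your own Cfsg.Agent.* helpers here

set_option autoImplicit false
open Cfsg

namespace Cfsg.Agent.S1939

/-- Let S be a Sylow p-subgroup of the finite group G and a an element of S that is the only G-conjugate of a lying in S. Then every power of a has the same property: for every n, the only G-conjugate of a^n lying in S is a^n. -/
theorem result {G : Type*} [Group G] [Finite G] {p : ℕ} [Fact p.Prime] (S : Sylow p G) (a : G)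
    (haS : a ∈ (S : Subgroup G)) (hwc : ∀ g : G, g * a * g⁻¹ ∈ (S : Subgroup G) → g * a * g⁻¹ = a) (n : ℕ) :
    ∀ g : G, g * a ^ n * g⁻¹ ∈ (S : Subgroup G) → g * a ^ n * g⁻¹ = a ^ n := by
  intro g hb
  set b := g * a ^ n * g⁻¹ with hbdef
  -- a is central in S
  have haZ : ∀ s ∈ (S : Subgroup G), s * a = a * s := by
    intro s hs
    have h1 : s * a * s⁻¹ ∈ (S : Subgroup G) :=
      (S : Subgroup G).mul_mem ((S : Subgroup G).mul_mem hs haS) ((S : Subgroup G).inv_mem hs)
    have h2 := hwc s h1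
    calc s * a = (s * a * s⁻¹) * s := by group
      _ = a * s := by rw [h2]
  have hanZ : ∀ s ∈ (S : Subgroup G), s * a ^ n = a ^ n * s := by
    intro s hs
    exact ((Commute.pow_right (haZ s hs) n : Commute s (a ^ n))).eq
  -- a commutes with b
  have hab : a * b = b * a := (haZ b hb).symm
  -- g • S ≤ C(b)
  have hgS_le : ((g • S : Sylow p G) : Subgroup G) ≤ Subgroup.centralizer ({b} : Set G) := by
    intro y hy
    rw [Cfsg.Agent.Helper10.sylow_conj_mem] at hy
    rw [Subgroup.mem_centralizer_singleton_iff]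
    have h := hanZ _ hy
    rw [hbdef]
    calc y * (g * a ^ n * g⁻¹) = g * ((g⁻¹ * y * g) * a ^ n) * g⁻¹ := by group
      _ = g * (a ^ n * (g⁻¹ * y * g)) * g⁻¹ := by rw [h]
      _ = g * a ^ n * g⁻¹ * y := by group
  -- the cyclic group generated by a is a p-subgroup of C(b)
  have hR : IsPGroup p (Subgroup.zpowers a) :=
    S.isPGroup'.to_le (Subgroup.zpowers_le.mpr haS)
  have hRK : Subgroup.zpowers a ≤ Subgroup.centralizer ({b} : Set G) := by
    rw [Subgroup.zpowers_le, Subgroup.mem_centralizer_singleton_iff]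
    exact hab
  obtain ⟨c, hcK, hc⟩ := Cfsg.Agent.Helper10.pSubgroup_conj_into_sylow_in_subgroup (g • S) _ hgS_le
    (Subgroup.zpowers a) hR hRK
  have h1 := hc a (Subgroup.mem_zpowers a)
  rw [Cfsg.Agent.Helper10.sylow_conj_mem] at h1
  -- (c g)⁻¹ a (c g) ∈ S
  have h2 : (c * g)⁻¹ * a * (c * g)⁻¹⁻¹ ∈ (S : Subgroup G) := by
    have : (c * g)⁻¹ * a * (c * g)⁻¹⁻¹ = g⁻¹ * (c⁻¹ * a * c) * g := by group
    rw [this]; exact h1
  have h3 := hwc _ h2
  -- so c g commutes with a
  have h3' : (c * g)⁻¹ * a * (c * g) = a := by rw [inv_inv] at h3; exact h3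
  have h4 : (c * g) * a = a * (c * g) := by
    calc (c * g) * a = (c * g) * ((c * g)⁻¹ * a * (c * g)) := by rw [h3']
      _ = a * (c * g) := by group
  have h5 : (c * g) * a ^ n = a ^ n * (c * g) := (Commute.pow_right (h4 : Commute (c * g) a) n).eq
  have hcb : c * b = b * c := Subgroup.mem_centralizer_singleton_iff.mp hcK
  -- b = c b c⁻¹ = (c g) a^n (c g)⁻¹ = a^n
  calc b = c * b * c⁻¹ := by rw [hcb]; group
    _ = ((c * g) * a ^ n) * (c * g)⁻¹ := by rw [hbdef]; group
    _ = a ^ n := by rw [h5]; group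

end Cfsg.Agent.S1939
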