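import Mathlib
import Cfsg.Statements.S1940
-- import your own Cfsg.Agent.* helpers here

set_option autoImplicit false
open Cfsg

namespace Cfsg.Agent.S1940

/-- Let the finite group L act by automorphisms on the finite abelian group M, and let N be an L-invariant subgroup of M such that M/N is a p-group on which L acts trivially (every l • m lies in the coset mN). If every element of M is a product of an element of N and an element fixed by a Sylow p-subgroup T of L, then every element of M is a product of an element of N and an element fixed by all of L. -/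
theorem result {L : Type*} [Group L] [Finite L] {M : Type*} [CommGroup M] [Finite M] [MulDistribMulAction L M]
    {p : ℕ} [Fact p.Prime] (N : Subgroup M) (hN : ∀ (l : L) (m : M), m ∈ N → l • m ∈ N)
    (hquot : IsPGroup p (M ⧸ N)) (htriv : ∀ (l : L) (m : M), (l • m) * m⁻¹ ∈ N) (T : Sylow p L)
    (hT : ∀ m : M, ∃ n ∈ N, ∃ c : M, (∀ t ∈ (T : Subgroup L), t • c = c) ∧ m = n * c) :
    ∀ m : M, ∃ n ∈ N, ∃ c : M, (∀ l : L, l • c = c) ∧ m = n * c := by
  classical
  intro m
  obtain ⟨n₀, hn₀, c₀, hc₀, hm⟩ := hT m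
  haveI : Fintype (L ⧸ (T : Subgroup L)) := Fintype.ofFinite _
  -- the norm of c₀
  set ν : M := ∏ q : L ⧸ (T : Subgroup L), (q.out • c₀) with hν
  -- T-invariance gives coset independence
  have hcoset : ∀ a b : L, a⁻¹ * b ∈ (T : Subgroup L) → b • c₀ = a • c₀ := by
    intro a b hab
    have : b = a * (a⁻¹ * b) := by group
    rw [this, mul_smul, hc₀ _ hab]
  -- (i) ν is L-fixed
  have hνfix : ∀ l : L, l • ν = ν := by
    intro l
    rw [hν, Finset.smul_prod']
    have h1 : ∀ q : L ⧸ (T : Subgroup L), l • (q.out • c₀) = ((l • q).out) • c₀ := by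
      intro q
      rw [← mul_smul]
      apply hcoset
      rw [← QuotientGroup.eq]
      rw [QuotientGroup.out_eq']
      have : ((l * q.out : L) : L ⧸ (T : Subgroup L)) = l • ((q.out : L) : L ⧸ (T : Subgroup L)) := rfl
      rw [this, QuotientGroup.out_eq']
    simp_rw [h1]
    exact Equiv.prod_comp (MulAction.toPerm l : Equiv.Perm (L ⧸ (T : Subgroup L))) (fun q => q.out • c₀)
  -- (ii) ν ≡ c₀^k mod N
  set k := Fintype.card (L ⧸ (T : Subgroup L)) with hk
  have hνN : ν * (c₀ ^ k)⁻¹ ∈ N := by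
    have h1 : ν * (c₀ ^ k)⁻¹ = ∏ q : L ⧸ (T : Subgroup L), ((q.out • c₀) * c₀⁻¹) := by
      rw [Finset.prod_mul_distrib, Finset.prod_const, Finset.card_univ, inv_pow]
    rw [h1]
    exact Subgroup.prod_mem N (fun q _ => htriv q.out c₀)
  -- (iii) k coprime to p
  have hkp : Nat.Coprime k p := by
    have h1 : ¬ p ∣ (T : Subgroup L).index := T.not_dvd_index
    have h2 : (T : Subgroup L).index = k := by
      rw [Subgroup.index, Nat.card_eq_fintype_card]
    rw [h2] at h1
    exact (Nat.Coprime.symm ((Nat.Prime.coprime_iff_not_dvd Fact.out).mpr h1))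
  -- image of c₀ in M ⧸ N
  set cbar : M ⧸ N := QuotientGroup.mk c₀ with hcbar
  obtain ⟨a, ha⟩ := (IsPGroup.iff_orderOf.mp hquot) cbar
  have hcop : Nat.Coprime k (orderOf cbar) := by
    rw [ha]; exact Nat.Coprime.pow_right a hkp
  obtain ⟨j, hj⟩ := exists_pow_eq_self_of_coprime hcop
  -- c₀ * (ν^j)⁻¹ ∈ N
  have hfinal : c₀ * (ν ^ j)⁻¹ ∈ N := by
    rw [← QuotientGroup.eq_one_iff]
    have hνbar : (QuotientGroup.mk ν : M ⧸ N) = cbar ^ k := by
      have := (QuotientGroup.eq_one_iff (N := N) (ν * (c₀ ^ k)⁻¹)).mpr hνN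
      rw [QuotientGroup.mk_mul, QuotientGroup.mk_inv, QuotientGroup.mk_pow, mul_inv_eq_one] at this
      exact this
    rw [QuotientGroup.mk_mul, QuotientGroup.mk_inv, QuotientGroup.mk_pow, hνbar, hj, ← hcbar, mul_inv_cancel]
  refine ⟨n₀ * (c₀ * (ν ^ j)⁻¹), N.mul_mem hn₀ hfinal, ν ^ j, ?_, ?_⟩
  · intro l
    rw [smul_pow', hνfix l]
  · rw [hm]; group

end Cfsg.Agent.S1940
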