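import Mathlib
import Cfsg.Statements.S1941
import Mathlib
import Cfsg.Agent.Lib.Helper10.NormSplit
import Cfsg.Agent.Lib.Helper7.FStarP
-- import your own Cfsg.Agent.* helpers here

set_option autoImplicit false
open Cfsg

namespace Cfsg.Agent.S1941

/-- Let G be a finite group with no nontrivial normal subgroup of order prime to p, T a Sylow p-subgroup of G and E(G) the layer of G (the subgroup generated by its components). An automorphism of G of p-power order that fixes T and E(G) elementwise is inner. -/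
theorem result {G : Type*} [Group G] [Finite G] {p : ℕ} [Fact p.Prime] (hcore : Cfsg.pPrimeCore p G = ⊥)
    (T : Sylow p G) (α : MulAut G) (hα : ∃ j : ℕ, orderOf α = p ^ j) (hfixT : ∀ x ∈ (T : Subgroup G), α x = x)
    (hfixE : ∀ x ∈ Cfsg.layer G, α x = x) : ∃ g : G, ∀ x : G, α x = g * x * g⁻¹ := by
  classical
  set F := Cfsg.generalizedFittingSubgroup G with hF
  have hFn : F.Normal := inferInstance
  -- `α` fixes `F` elementwise
  have hFitT : Cfsg.fittingSubgroup G ≤ (T : Subgroup G) :=
    (Cfsg.Agent.Helper7.fittingSubgroup_le_pCore_of_pPrimeCore_eq_bot p hcore).trans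
      (Cfsg.Agent.Helper14.pCore_le_sylow T)
  have hfixF : ∀ x ∈ F, α x = x := by
    have hle : F ≤ MonoidHom.eqLocus α.toMonoidHom (MonoidHom.id G) := by
      rw [hF]
      unfold Cfsg.generalizedFittingSubgroup
      refine sup_le ?_ ?_
      · intro x hx
        exact hfixE x hx
      · intro x hx
        exact hfixT x (hFitT hx)
    intro x hx
    exact hle hx
  -- the centre of `F`
  set Z := F ⊓ Subgroup.centralizer (F : Set G) with hZ
  have hZn : Z.Normal := inferInstance
  have hZc : ∀ a ∈ Z, ∀ b ∈ Z, a * b = b * a := fun a ha b hb =>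
    (Subgroup.mem_centralizer_iff.mp hb.2 a ha.1)
  have hZcomm : IsMulCommutative ↥Z := ⟨⟨fun a b => Subtype.ext (hZc a a.2 b b.2)⟩⟩
  have hZnil : Group.IsNilpotent ↥Z := Cfsg.Agent.Helper7.isNilpotent_of_isMulCommutative ↥Z
  have hZfit : Z ≤ Cfsg.fittingSubgroup G := Cfsg.Agent.Helper7.le_fittingSubgroup Z hZnil
  have hZp : IsPGroup p Z := T.isPGroup'.to_le (hZfit.trans hFitT)
  have hcent : Subgroup.centralizer (F : Set G) ≤ F :=
    Cfsg.Agent.Helper7.centralizer_generalizedFittingSubgroup_le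
  -- `α g g⁻¹` lies in `Z`
  have hmemZ : ∀ g : G, α g * g⁻¹ ∈ Z := by
    intro g
    have h1 : α g * g⁻¹ ∈ Subgroup.centralizer (F : Set G) := by
      rw [Subgroup.mem_centralizer_iff]
      intro f hf
      have hf' : g⁻¹ * f * g ∈ F := by
        have := hFn.conj_mem f hf g⁻¹
        simpa using this
      have h2 : α (g⁻¹ * f * g) = g⁻¹ * f * g := hfixF _ hf'
      have h3 : α f = f := hfixF f hf
      have h4 : α g * (g⁻¹ * f * g) * (α g)⁻¹ = f := by
        have : α (g * (g⁻¹ * f * g) * g⁻¹) = α g * α (g⁻¹ * f * g) * (α g)⁻¹ := by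
          rw [map_mul, map_mul, map_inv]
        rw [h2] at this
        rw [← this]
        have e : g * (g⁻¹ * f * g) * g⁻¹ = f := by group
        rw [e, h3]
      calc f * (α g * g⁻¹) = (α g * (g⁻¹ * f * g) * (α g)⁻¹) * (α g * g⁻¹) := by rw [h4]
        _ = α g * g⁻¹ * f := by group
    exact ⟨hcent h1, h1⟩
  -- set up the module structure on `Z`
  letI : CommGroup ↥Z :=
    { (inferInstance : Group ↥Z) with mul_comm := fun a b => Subtype.ext (hZc a a.2 b b.2) }
  letI : MulDistribMulAction G ↥Z :=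
    MulDistribMulAction.compHom ↥Z (MulAut.conjNormal : G →* MulAut ↥Z)
  have hsmul : ∀ (g : G) (u : ↥Z), ((g • u : ↥Z) : G) = g * u * g⁻¹ :=
    fun g u => MulAut.conjNormal_apply g u
  have hTidx : ((T : Subgroup G).index).Coprime p :=
    ((Nat.Prime.coprime_iff_not_dvd Fact.out).mpr T.not_dvd_index).symm
  let v : G → ↥Z := fun g => ⟨α g * g⁻¹, hmemZ g⟩
  have hv : ∀ g h : G, v (g * h) = v g * g • v h := by
    intro g h
    apply Subtype.ext
    rw [Subgroup.coe_mul, hsmul]
    show α (g * h) * (g * h)⁻¹ = α g * g⁻¹ * (g * (α h * h⁻¹) * g⁻¹)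
    rw [map_mul]; group
  have hvT : ∀ t ∈ (T : Subgroup G), v t = 1 := by
    intro t ht
    apply Subtype.ext
    show α t * t⁻¹ = 1
    rw [hfixT t ht]; group
  obtain ⟨a, ha⟩ := Cfsg.Agent.Helper10.exists_coboundary_of_trivial_on_sylow hZp (T : Subgroup G)
    hTidx v hv hvT
  refine ⟨(a : G), fun x => ?_⟩
  have h1 := congrArg Subtype.val (ha x)
  rw [Subgroup.coe_mul, Subgroup.coe_inv, hsmul] at h1
  have h2 : α x * x⁻¹ = (a : G) * (x * (a : G) * x⁻¹)⁻¹ := h1
  calc α x = (α x * x⁻¹) * x := by group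
    _ = ((a : G) * (x * (a : G) * x⁻¹)⁻¹) * x := by rw [h2]
    _ = (a : G) * x * (a : G)⁻¹ := by group

end Cfsg.Agent.S1941
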