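import Mathlib
import Cfsg.Statements.S1944
import Mathlib
import Cfsg.Agent.Lib.Helper10.NormSplit
import Cfsg.Agent.Lib.Helper6.SylowConj
import Cfsg.Agent.Lib.Helper22.PPrimeCore
-- import your own Cfsg.Agent.* helpers here

set_option autoImplicit false
open Cfsg

namespace Cfsg.Agent.S1944

/-- Let S be a Sylow p-subgroup of the finite group G and suppose that the centre Z(S) lies in O_{p',p}(G). The elements of S each of which is its only G-conjugate in S form a subgroup W of Z(S); W is then a direct factor of Z(S): there is a subgroup K of Z(S) with W ∩ K = 1 and WK = Z(S). -/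
theorem result {G : Type*} [Group G] [Finite G] {p : ℕ} [Fact p.Prime] (S : Sylow p G)
    (hZ : ((S : Subgroup G) ⊓ Subgroup.centralizer ((S : Subgroup G) : Set G)) ≤ Cfsg.pPrimePCore p G) :
    ∃ W K : Subgroup G, (∀ x : G, x ∈ W ↔ (x ∈ (S : Subgroup G) ∧ ∀ g : G, g * x * g⁻¹ ∈ (S : Subgroup G) → g * x * g⁻¹ = x)) ∧
      K ≤ ((S : Subgroup G) ⊓ Subgroup.centralizer ((S : Subgroup G) : Set G)) ∧ W ⊓ K = ⊥ ∧ W ⊔ K = ((S : Subgroup G) ⊓ Subgroup.centralizer ((S : Subgroup G) : Set G)) := by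
  classical
  set K := Cfsg.pPrimeCore p G with hK
  set π := QuotientGroup.mk' K with hπ
  have hπs : Function.Surjective π := QuotientGroup.mk'_surjective K
  have hker : ∀ x : G, π x = 1 ↔ x ∈ K := fun x => by
    rw [hπ, QuotientGroup.mk'_apply, QuotientGroup.eq_one_iff]
  set Sb : Sylow p (G ⧸ K) := S.mapSurjective hπs with hSb
  have hSbc : (Sb : Subgroup (G ⧸ K)) = (S : Subgroup G).map π := Sylow.coe_mapSurjective _ _
  have hmemSb : ∀ s ∈ (S : Subgroup G), π s ∈ (Sb : Subgroup (G ⧸ K)) := fun s hs => by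
    rw [hSbc]; exact Subgroup.mem_map_of_mem _ hs
  set Q := Cfsg.pCore p (G ⧸ K) with hQ
  have hQS : Q ≤ (Sb : Subgroup _) := Cfsg.Agent.Helper14.pCore_le_sylow Sb
  set V := Q ⊓ Subgroup.centralizer (Q : Set (G ⧸ K)) with hV
  have hVc : ∀ a ∈ V, ∀ b ∈ V, a * b = b * a := fun a ha b hb =>
    (Subgroup.mem_centralizer_iff.mp hb.2 a ha.1)
  have hVp : IsPGroup p V := (Cfsg.Agent.Helper14.pCore_isPGroup p _).to_le inf_le_left
  obtain ⟨Kb, hKb1, hKb2, hKb3⟩ := Cfsg.Agent.Helper10.exists_compl_inf_center' Sb V hVc hVp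
  -- S meets K trivially
  have hKS : ∀ x, x ∈ K → x ∈ (S : Subgroup G) → x = 1 := by
    intro x hxK hxS
    have hcop : (Nat.card K).Coprime (Nat.card (S : Subgroup G)) := by
      obtain ⟨n, hn⟩ := IsPGroup.iff_card.mp S.2
      rw [hn]
      exact Nat.Coprime.pow_right n (Cfsg.Agent.Helper22.card_pPrimeCore_coprime p)
    have := Subgroup.inf_eq_bot_of_coprime hcop
    have hx : x ∈ K ⊓ (S : Subgroup G) := ⟨hxK, hxS⟩
    rw [this] at hx
    exact Subgroup.mem_bot.mp hx
  have hinj : ∀ a ∈ (S : Subgroup G), ∀ b ∈ (S : Subgroup G), π a = π b → a = b := by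
    intro a ha b hb hab
    have h1 : a⁻¹ * b ∈ K := by
      rw [← hker, map_mul, map_inv, hab]; group
    have := hKS _ h1 (mul_mem (inv_mem ha) hb)
    exact inv_mul_eq_one.mp this
  set Z := (S : Subgroup G) ⊓ Subgroup.centralizer ((S : Subgroup G) : Set G) with hZdef
  have hZV : ∀ z ∈ Z, π z ∈ V ⊓ Subgroup.centralizer ((Sb : Subgroup (G ⧸ K)) : Set (G ⧸ K)) := by
    intro z hz
    have hzQ : π z ∈ Q := by
      have := hZ hz
      unfold Cfsg.pPrimePCore at this
      exact Subgroup.mem_comap.mp this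
    have hzC : π z ∈ Subgroup.centralizer ((Sb : Subgroup (G ⧸ K)) : Set (G ⧸ K)) := by
      rw [Subgroup.mem_centralizer_iff]
      intro y hy
      have hy' : y ∈ (S : Subgroup G).map π := by rw [← hSbc]; exact hy
      obtain ⟨s, hs, rfl⟩ := hy'
      rw [← map_mul, ← map_mul, Subgroup.mem_centralizer_iff.mp hz.2 s hs]
    exact ⟨⟨hzQ, Subgroup.centralizer_le hQS hzC⟩, hzC⟩
  have hlift : ∀ u ∈ V ⊓ Subgroup.centralizer ((Sb : Subgroup (G ⧸ K)) : Set (G ⧸ K)),
      ∃ z ∈ Z, π z = u := by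
    intro u hu
    have huS : u ∈ (S : Subgroup G).map π := by rw [← hSbc]; exact hQS hu.1.1
    obtain ⟨s, hs, rfl⟩ := huS
    refine ⟨s, ⟨hs, Subgroup.mem_centralizer_iff.mpr ?_⟩, rfl⟩
    intro t ht
    apply hinj _ (mul_mem ht hs) _ (mul_mem hs ht)
    rw [map_mul, map_mul]
    exact Subgroup.mem_centralizer_iff.mp hu.2 (π t) (hmemSb t ht)
  -- the weakly closed elements
  let W : Subgroup G := Z ⊓ (Subgroup.center (G ⧸ K)).comap π
  have hW : ∀ x : G, x ∈ W ↔ (x ∈ (S : Subgroup G) ∧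
      ∀ g : G, g * x * g⁻¹ ∈ (S : Subgroup G) → g * x * g⁻¹ = x) := by
    intro x
    constructor
    · rintro ⟨hxZ, hxc⟩
      refine ⟨hxZ.1, fun g hg => hinj _ hg _ hxZ.1 ?_⟩
      have hxc' : π x ∈ Subgroup.center (G ⧸ K) := hxc
      rw [map_mul, map_mul, map_inv, Subgroup.mem_center_iff.mp hxc' (π g)]
      group
    · rintro ⟨hxS, hx⟩
      have hxC : x ∈ Subgroup.centralizer ((S : Subgroup G) : Set G) := by
        rw [Subgroup.mem_centralizer_iff]
        intro s hs
        have h1 := hx s (mul_mem (mul_mem hs hxS) (inv_mem hs))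
        calc s * x = s * x * s⁻¹ * s := by group
          _ = x * s := by rw [h1]
      have hxZ : x ∈ Z := ⟨hxS, hxC⟩
      refine ⟨hxZ, ?_⟩
      show π x ∈ Subgroup.center (G ⧸ K)
      rw [Subgroup.mem_center_iff]
      intro g'
      obtain ⟨g, rfl⟩ := hπs g'
      -- y = g x g⁻¹
      have hyQ : π (g * x * g⁻¹) ∈ Q := by
        rw [map_mul, map_mul, map_inv]
        exact (inferInstance : Q.Normal).conj_mem _ (hZV x hxZ).1.1 _
      have hyS : π (g * x * g⁻¹) ∈ (S : Subgroup G).map π := by rw [← hSbc]; exact hQS hyQ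
      obtain ⟨s, hs, hsy⟩ := hyS
      have hyKS : g * x * g⁻¹ ∈ K ⊔ (S : Subgroup G) := by
        have h1 : (g * x * g⁻¹) * s⁻¹ ∈ K := by
          rw [← hker, map_mul, map_inv, hsy]; group
        have : g * x * g⁻¹ = ((g * x * g⁻¹) * s⁻¹) * s := by group
        rw [this]
        exact Subgroup.mul_mem_sup h1 hs
      set H : Subgroup G := (S : Subgroup G).map (MulAut.conj g).toMonoidHom ⊓ (K ⊔ (S : Subgroup G))
        with hH
      have hHp : IsPGroup p H := (S.2.map _).to_le inf_le_left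
      have hyH : g * x * g⁻¹ ∈ H := ⟨⟨x, hxS, by simp [MulAut.conj_apply]⟩, hyKS⟩
      obtain ⟨k, hk, hkH⟩ := Cfsg.Agent.Helper6.Fus.exists_conj_le_sylow S (K ⊔ (S : Subgroup G)) H
        le_sup_right inf_le_right hHp
      have h2 := hkH _ hyH
      have h3 : k * (g * x * g⁻¹) * k⁻¹ = (k * g) * x * (k * g)⁻¹ := by group
      rw [h3] at h2
      have h4 := hx _ h2
      -- π k lies in the image of S
      have hkS : π k ∈ (S : Subgroup G).map π := by
        have hle : K ⊔ (S : Subgroup G) ≤ ((S : Subgroup G).map π).comap π := by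
          refine sup_le ?_ (Subgroup.le_comap_map _ _)
          intro a ha
          rw [Subgroup.mem_comap, (hker a).mpr ha]
          exact one_mem _
        exact hle hk
      obtain ⟨s', hs', hs'k⟩ := hkS
      have h5 : π k * π g * π x * (π g)⁻¹ * (π k)⁻¹ = π x := by
        have := congrArg π h4
        simpa [map_mul, map_inv, mul_assoc] using this
      have h6 : π s' * π x = π x * π s' := by
        rw [← map_mul, ← map_mul, Subgroup.mem_centralizer_iff.mp hxC s' hs']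
      rw [← hs'k] at h5
      calc π g * π x = (π s')⁻¹ * (π s' * π g * π x * (π g)⁻¹ * (π s')⁻¹) * π s' * π g := by group
        _ = (π s')⁻¹ * (π x * π s') * π g := by rw [h5]; group
        _ = π x * π g := by rw [← h6]; group
  refine ⟨W, Z ⊓ Kb.comap π, hW, inf_le_left, ?_, ?_⟩
  · rw [eq_bot_iff]
    rintro x ⟨⟨hxZ, hxc⟩, ⟨-, hxK⟩⟩
    have hxc' : π x ∈ Subgroup.center (G ⧸ K) := hxc
    have hxK' : π x ∈ Kb := hxK
    have h1 : π x ∈ (V ⊓ Subgroup.center (G ⧸ K)) ⊓ Kb := ⟨⟨(hZV x hxZ).1, hxc'⟩, hxK'⟩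
    rw [hKb2] at h1
    have h2 : x ∈ K := (hker x).mp (Subgroup.mem_bot.mp h1)
    exact Subgroup.mem_bot.mpr (hKS x h2 hxZ.1)
  · apply le_antisymm (sup_le inf_le_left inf_le_left)
    intro z hz
    obtain ⟨c, hc, k, hk, hck⟩ := hKb3 (π z) (hZV z hz)
    obtain ⟨w, hwZ, hwc⟩ := hlift c ⟨hc.1, Subgroup.center_le_centralizer _ hc.2⟩
    obtain ⟨k', hk'Z, hk'k⟩ := hlift k (hKb1 hk)
    have hzwk : z = w * k' := by
      apply hinj _ hz.1 _ (mul_mem hwZ.1 hk'Z.1)
      rw [map_mul, hwc, hk'k, hck]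
    rw [hzwk]
    apply Subgroup.mul_mem_sup
    · refine ⟨hwZ, ?_⟩
      show π w ∈ Subgroup.center (G ⧸ K)
      rw [hwc]; exact hc.2
    · refine ⟨hk'Z, ?_⟩
      show π k' ∈ Kb
      rw [hk'k]; exact hk

end Cfsg.Agent.S1944
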