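import Mathlib
import Cfsg.Statements.S1946
import Mathlib
import Cfsg.Agent.Lib.Helper10.OmegaLemma
import Cfsg.Agent.Lib.Helper10.Frobenius3
-- import your own Cfsg.Agent.* helpers here

set_option autoImplicit false
open Cfsg

namespace Cfsg.Agent.S1946

open scoped commutatorElement

/-- the largest `x`-invariant subgroup of `H ⊓ Z` -/
def KK {G : Type*} [Group G] (x : G) (H Z : Subgroup G) : Subgroup G where
  carrier := {h | h ∈ H ∧ ∀ j : ℤ, x ^ j * h * (x ^ j)⁻¹ ∈ Z}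
  one_mem' := ⟨H.one_mem, fun j => by simp⟩
  mul_mem' := by
    rintro a b ⟨ha, ha'⟩ ⟨hb, hb'⟩
    refine ⟨H.mul_mem ha hb, fun j => ?_⟩
    have : x ^ j * (a * b) * (x ^ j)⁻¹ = (x ^ j * a * (x ^ j)⁻¹) * (x ^ j * b * (x ^ j)⁻¹) := by
      group
    rw [this]; exact Z.mul_mem (ha' j) (hb' j)
  inv_mem' := by
    rintro a ⟨ha, ha'⟩
    refine ⟨H.inv_mem ha, fun j => ?_⟩
    have : x ^ j * a⁻¹ * (x ^ j)⁻¹ = (x ^ j * a * (x ^ j)⁻¹)⁻¹ := by group
    rw [this]; exact Z.inv_mem (ha' j)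

theorem mem_KK {G : Type*} [Group G] {x : G} {H Z : Subgroup G} {h : G} :
    h ∈ KK x H Z ↔ h ∈ H ∧ ∀ j : ℤ, x ^ j * h * (x ^ j)⁻¹ ∈ Z := Iff.rfl

theorem KK_le {G : Type*} [Group G] (x : G) (H Z : Subgroup G) : KK x H Z ≤ H := fun _ h => h.1

theorem zpow_conj_mem {G : Type*} [Group G] {x : G} {H : Subgroup G}
    (hx : x ∈ Subgroup.normalizer (H : Set G)) {h : G} (hh : h ∈ H) (j : ℤ) :
    x ^ j * h * (x ^ j)⁻¹ ∈ H :=
  (Subgroup.mem_normalizer_iff.mp (Subgroup.zpow_mem _ hx j) h).mp hh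

theorem mem_normalizer_KK {G : Type*} [Group G] {x : G} {H : Subgroup G} (Z : Subgroup G)
    (hx : x ∈ Subgroup.normalizer (H : Set G)) :
    x ∈ Subgroup.normalizer ((KK x H Z : Subgroup G) : Set G) := by
  apply Cfsg.Agent.Helper10.mem_normalizer_of_conj_mem
  · rintro b ⟨hb, hb'⟩
    refine ⟨(Subgroup.mem_normalizer_iff.mp hx b).mp hb, fun j => ?_⟩
    have e : x ^ j * (x * b * x⁻¹) * (x ^ j)⁻¹ = x ^ (j + 1) * b * (x ^ (j + 1))⁻¹ := by
      rw [zpow_add_one]; group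
    rw [e]; exact hb' (j + 1)
  · rintro b ⟨hb, hb'⟩
    refine ⟨?_, fun j => ?_⟩
    · have := (Subgroup.mem_normalizer_iff.mp (Subgroup.inv_mem _ hx) b).mp hb
      rwa [inv_inv] at this
    · have e : x ^ j * (x⁻¹ * b * x) * (x ^ j)⁻¹ = x ^ (j - 1) * b * (x ^ (j - 1))⁻¹ := by
        rw [zpow_sub_one]; group
      rw [e]; exact hb' (j - 1)

theorem key {G : Type*} [Group G] [Finite G] {p : ℕ} [Fact p.Prime] (P : Sylow p G)
    (hfus : ∀ a ∈ (P : Subgroup G), (a ^ p = 1 ∨ (p = 2 ∧ a ^ 4 = 1)) → ∀ g : G,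
      g * a * g⁻¹ ∈ (P : Subgroup G) → ∃ x ∈ (P : Subgroup G), g * a * g⁻¹ = x * a * x⁻¹)
    (H : Subgroup G) (hH : H ≤ (P : Subgroup G)) (x : G)
    (hx : x ∈ Subgroup.normalizer (H : Set G)) (hcop : (orderOf x).Coprime p) :
    x ∈ Subgroup.centralizer (H : Set G) := by
  classical
  set PP : Subgroup G := (P : Subgroup G) with hPP
  set Z : ℕ → Subgroup G := fun i => (Subgroup.upperCentralSeries ↥PP i).map PP.subtype with hZ
  have hHp : IsPGroup p ↥H := P.2.to_le hH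
  have hcop_el : ∀ z ∈ H, (orderOf x).Coprime (orderOf z) := by
    intro z hz
    obtain ⟨k, hk⟩ := IsPGroup.iff_card.mp hHp
    have h1 : orderOf z ∣ p ^ k := hk ▸ Subgroup.orderOf_dvd_natCard H hz
    exact Nat.Coprime.coprime_dvd_right h1 (Nat.Coprime.pow_right k hcop)
  -- the main induction
  have claim : ∀ i : ℕ, ∀ h ∈ KK x H (Z i), x * h * x⁻¹ = h := by
    intro i
    induction i with
    | zero =>
      rintro h ⟨-, h2⟩
      have := h2 0
      simp only [zpow_zero, one_mul, inv_one, mul_one, hZ, Subgroup.upperCentralSeries_zero,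
        Subgroup.map_bot, Subgroup.mem_bot] at this
      rw [this]; group
    | succ i ih =>
      apply Cfsg.Agent.Helper10.omega_lemma x hcop _ (KK x H (Z (i + 1))) rfl
        (hHp.to_le (KK_le x H _)) (mem_normalizer_KK _ hx)
      intro y hy hyΩ
      have hyH : y ∈ H := hy.1
      -- z = y⁻¹ (x y x⁻¹) ∈ KK x H (Z i)
      have hz : y⁻¹ * (x * y * x⁻¹) ∈ KK x H (Z i) := by
        refine ⟨H.mul_mem (H.inv_mem hyH) ((Subgroup.mem_normalizer_iff.mp hx y).mp hyH), ?_⟩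
        intro j
        set yj := x ^ j * y * (x ^ j)⁻¹ with hyj
        have hyjH : yj ∈ H := zpow_conj_mem hx hyH j
        have hyjΩ : yj ^ p = 1 ∨ (p = 2 ∧ yj ^ 4 = 1) := by
          rcases hyΩ with h | ⟨h2, h⟩
          · left; rw [hyj, conj_pow, h]; group
          · right; refine ⟨h2, ?_⟩; rw [hyj, conj_pow, h]; group
        have hyjZ : yj ∈ Z (i + 1) := hy.2 j
        have hxyjH : x * yj * x⁻¹ ∈ H := (Subgroup.mem_normalizer_iff.mp hx yj).mp hyjH
        obtain ⟨u, hu, hue⟩ := hfus yj (hH hyjH) hyjΩ x (hH hxyjH)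
        have e : x ^ j * (y⁻¹ * (x * y * x⁻¹)) * (x ^ j)⁻¹ = yj⁻¹ * (x * yj * x⁻¹) := by
          rw [hyj]; group
        rw [e, hue]
        -- commutator in the upper central series of P
        obtain ⟨yj', hyj', hyjeq⟩ := hyjZ
        have h1 : yj'⁻¹ ∈ Subgroup.upperCentralSeries ↥PP (i + 1) := Subgroup.inv_mem _ hyj'
        have h2 := Subgroup.mem_upperCentralSeries_succ_iff.mp h1 ⟨u, hu⟩
        refine ⟨⁅yj'⁻¹, ⟨u, hu⟩⁆, h2, ?_⟩
        rw [commutatorElement_def]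
        simp only [Subgroup.subtype_apply, Subgroup.coe_mul, Subgroup.coe_inv, inv_inv]
        rw [show (yj' : G) = yj from hyjeq]
        group
      have hzc := ih _ hz
      exact Cfsg.Agent.Helper7.conj_eq_self_of_coprime x y (isOfFinOrder_of_finite x) hzc
        (hcop_el _ (KK_le x H _ hz))
  -- P is nilpotent
  haveI : Group.IsNilpotent ↥PP := P.2.isNilpotent
  obtain ⟨c, hc⟩ := Group.IsNilpotent.nilpotent' (G := ↥PP)
  rw [Subgroup.mem_centralizer_iff]
  intro h hh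
  have hK : h ∈ KK x H (Z c) := by
    refine ⟨hh, fun j => ?_⟩
    have h1 : x ^ j * h * (x ^ j)⁻¹ ∈ PP := hH (zpow_conj_mem hx hh j)
    exact ⟨⟨_, h1⟩, by rw [hc]; trivial, rfl⟩
  have := claim c h hK
  calc h * x = (x * h * x⁻¹) * x := by rw [this]
    _ = x * h := by group

/-- Let P be a Sylow p-subgroup of the finite group G. Then G has a normal p-complement if and only if P controls the fusion of its elements of order dividing p (dividing 4 when p = 2): whenever such an element a of P has a G-conjugate g a g⁻¹ in P, that conjugate is already x a x⁻¹ for some x in P. -/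
theorem result {G : Type*} [Group G] [Finite G] {p : ℕ} [Fact p.Prime] (P : Sylow p G) :
    Cfsg.HasNormalPComplement p G ↔
      ∀ a ∈ (P : Subgroup G), (a ^ p = 1 ∨ (p = 2 ∧ a ^ 4 = 1)) → ∀ g : G, g * a * g⁻¹ ∈ (P : Subgroup G) →
        ∃ x ∈ (P : Subgroup G), g * a * g⁻¹ = x * a * x⁻¹ := by
  classical
  constructor
  · intro hnpc a ha _ g hg
    obtain ⟨N, hNn, hNc, hNk⟩ := Cfsg.Agent.Helper10.npc_of_hasNormalPComplement hnpc
    have hcompl := Cfsg.Agent.Helper10.isComplement'_of_npc hNc hNk P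
    obtain ⟨⟨⟨n, hn⟩, ⟨x, hx⟩⟩, hnx⟩ := hcompl.existsUnique g |>.exists
    have hg' : g = n * x := hnx.symm
    refine ⟨x, hx, ?_⟩
    set b := x * a * x⁻¹ with hb
    have hbP : b ∈ (P : Subgroup G) := Subgroup.mul_mem _ (Subgroup.mul_mem _ hx ha) (Subgroup.inv_mem _ hx)
    have e1 : g * a * g⁻¹ = n * b * n⁻¹ := by rw [hg', hb]; group
    have h1 : n * b * n⁻¹ ∈ (P : Subgroup G) := e1 ▸ hg
    have h2 : n * b * n⁻¹ * b⁻¹ ∈ N ⊓ (P : Subgroup G) := by
      refine ⟨?_, Subgroup.mul_mem _ h1 (Subgroup.inv_mem _ hbP)⟩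
      have h3 : b * n⁻¹ * b⁻¹ ∈ N := hNn.conj_mem _ (N.inv_mem hn) b
      have e : n * b * n⁻¹ * b⁻¹ = n * (b * n⁻¹ * b⁻¹) := by group
      rw [e]; exact N.mul_mem hn h3
    have hNP : N ⊓ (P : Subgroup G) = ⊥ := by
      apply Subgroup.inf_eq_bot_of_coprime
      obtain ⟨m, hm⟩ := IsPGroup.iff_card.mp P.2
      rw [hm]
      exact Nat.Coprime.pow_right m hNc
    rw [hNP, Subgroup.mem_bot] at h2
    rw [e1]
    calc n * b * n⁻¹ = (n * b * n⁻¹ * b⁻¹) * b := by group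
      _ = b := by rw [h2, one_mul]
  · intro hfus
    apply Cfsg.Agent.Helper10.NPC.hasNormalPComplement
    apply Cfsg.Agent.Helper10.npc_of_frobCond _ G rfl
    apply Cfsg.Agent.Helper10.frobCond_of_sylow P
    intro Q hQ g hg hcop
    exact key P hfus Q hQ g hg hcop

end Cfsg.Agent.S1946
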