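import Mathlib
import Cfsg.Statements.S1947
import Mathlib
import Cfsg.Agent.Lib.Helper10.OmegaLemma
import Cfsg.Agent.Lib.Helper10.Frobenius3
import Cfsg.Agent.Lib.Helper7.PLocal4
-- import your own Cfsg.Agent.* helpers here

set_option autoImplicit false
open Cfsg

namespace Cfsg.Agent.S1947

open scoped commutatorElement

/-- Let G be a finite group and p a prime. If every element of G of order dividing p (dividing 4 when p = 2) lies in some fixed term Z_n(G) of the upper central series, then G has a normal p-complement. -/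
theorem result {G : Type*} [Group G] [Finite G] {p : ℕ} [Fact p.Prime] (n : ℕ)
    (h : ∀ a : G, (a ^ p = 1 ∨ (p = 2 ∧ a ^ 4 = 1)) → a ∈ Subgroup.upperCentralSeries G n) : Cfsg.HasNormalPComplement p G := by
  classical
  apply Cfsg.Agent.Helper10.NPC.hasNormalPComplement
  apply Cfsg.Agent.Helper10.npc_of_frobCond _ G rfl
  intro Q hQ g hg hcop
  apply Cfsg.Agent.Helper10.mem_centralizer_of_omega Q hQ g hcop hg
  intro x hx hxΩ
  have hxZ : x ∈ Subgroup.upperCentralSeries G n := h x hxΩ
  have hcopQ : (orderOf g).Coprime (Nat.card ↥Q) := by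
    obtain ⟨k, hk⟩ := IsPGroup.iff_card.mp hQ
    rw [hk]
    exact Nat.Coprime.pow_right k hcop
  have key := Cfsg.Agent.Helper7.conj_eq_self_of_chain g Q hcopQ n
    (fun i => Q ⊓ Subgroup.upperCentralSeries G (n - i)) (fun i => inf_le_left)
    (by simp) ?_
  · have h1 := key x ⟨hx, by simpa using hxZ⟩
    calc g * x = (g * x * g⁻¹) * g := by group
      _ = x * g := by rw [h1]
  · intro i y hy
    refine ⟨Q.mul_mem (Q.inv_mem hy.1) ((Subgroup.mem_normalizer_iff.mp hg y).mp hy.1), ?_⟩
    by_cases hi : i < n
    · have e : n - i = (n - (i + 1)) + 1 := by omega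
      have hy2 : y ∈ Subgroup.upperCentralSeries G ((n - (i + 1)) + 1) := by
        rw [← e]; exact hy.2
      have hy3 : y⁻¹ ∈ Subgroup.upperCentralSeries G ((n - (i + 1)) + 1) :=
        Subgroup.inv_mem _ hy2
      have := Subgroup.mem_upperCentralSeries_succ_iff.mp hy3 g
      have e2 : y⁻¹ * (g * y * g⁻¹) = ⁅y⁻¹, g⁆ := by
        rw [commutatorElement_def]; group
      rw [e2]
      exact this
    · have e : n - i = 0 := by omega
      have hy2 : y ∈ Subgroup.upperCentralSeries G 0 := by
        rw [← e]; exact hy.2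
      rw [Subgroup.upperCentralSeries_zero, Subgroup.mem_bot] at hy2
      rw [hy2]
      simp

end Cfsg.Agent.S1947
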