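import Mathlib
import Cfsg.Statements.S1948
import Mathlib
import Cfsg.Agent.Lib.Helper7.PConstrained
import Cfsg.Agent.Lib.Helper10.Frobenius5
import Cfsg.Agent.Lib.Helper10.SylowMore
import Cfsg.Agent.Lib.Helper10.Cores
-- import your own Cfsg.Agent.* helpers here

set_option autoImplicit false
open Cfsg

namespace Cfsg.Agent.S1948

theorem fwd_constrained {G : Type*} [Group G] [Finite G] {p : ℕ} [Fact p.Prime] (S : Sylow p G)
    (h : Subgroup.normalizer ((S : Subgroup G) : Set G) ⊔ Cfsg.pPrimeCore p G = ⊤) :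
    Cfsg.IsPConstrained p G := by
  classical
  rw [Cfsg.Agent.Helper7.isPConstrained_iff_centralizer_le]
  set W := Cfsg.pPrimeCore p G with hW
  haveI hWn : W.Normal := Cfsg.Agent.Helper22.pPrimeCore_normal p
  set φ := QuotientGroup.mk' W with hφ
  have hsurj : Function.Surjective φ := QuotientGroup.mk'_surjective W
  set Sb : Subgroup (G ⧸ W) := (S : Subgroup G).map φ with hSb
  haveI hSbn : Sb.Normal := by
    constructor
    intro xb hxb yb
    obtain ⟨y, rfl⟩ := hsurj yb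
    obtain ⟨x, hx, rfl⟩ := hxb
    have hy : y ∈ Subgroup.normalizer ((S : Subgroup G) : Set G) ⊔ W := by rw [h]; trivial
    obtain ⟨n, hn, w, hw, rfl⟩ := Subgroup.mem_sup_of_normal_right.mp hy
    have hw1 : φ w = 1 := (QuotientGroup.eq_one_iff w).mpr hw
    rw [map_mul, hw1, mul_one]
    refine ⟨n * x * n⁻¹, (Subgroup.mem_normalizer_iff.mp hn x).mp hx, ?_⟩
    simp only [map_mul, map_inv]
  have hSbp : IsPGroup p ↥Sb := S.2.map φ
  have hSbidx : (Sb.index).Coprime p := by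
    rw [Nat.coprime_comm, Nat.Prime.coprime_iff_not_dvd (Fact.out : p.Prime)]
    intro hd
    exact S.not_dvd_index (hd.trans (Subgroup.index_map_dvd _ hsurj))
  -- p-elements lie in Sb
  have hpel : ∀ x : G ⧸ W, (∃ k : ℕ, orderOf x = p ^ k) → x ∈ Sb := fun x hx =>
    Cfsg.Agent.Helper7.mem_of_pElement_of_index_coprime p Sb hSbidx x hx
  set C : Subgroup (G ⧸ W) := Subgroup.centralizer (Sb : Set (G ⧸ W)) with hC
  haveI hCn : C.Normal := Subgroup.normal_centralizer
  -- central Sylow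
  obtain ⟨PC⟩ : Nonempty (Sylow p ↥C) := inferInstance
  have hcentral : ∀ x ∈ (PC : Subgroup ↥C), ∀ c : ↥C, x * c = c * x := by
    intro x hx c
    have hxo : ∃ k : ℕ, orderOf (x : G ⧸ W) = p ^ k := by
      obtain ⟨k, hk⟩ := (PC.2 ⟨x, hx⟩)
      have hk' : x ^ p ^ k = 1 := by
        have := congrArg Subtype.val hk
        simpa using this
      obtain ⟨j, -, hj⟩ := (Nat.dvd_prime_pow (Fact.out : p.Prime)).mp (orderOf_dvd_of_pow_eq_one hk')
      exact ⟨j, by rw [Subgroup.orderOf_coe]; exact hj⟩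
    have hxS : (x : G ⧸ W) ∈ Sb := hpel _ hxo
    have := Subgroup.mem_centralizer_iff.mp c.2 (x : G ⧸ W) hxS
    exact Subtype.ext this
  obtain ⟨N, hNn, hNc, k, hNk⟩ := Cfsg.Agent.Helper10.npc_of_central_sylow PC hcentral
  have hNbot : N = ⊥ := by
    have hsub : (N.map C.subtype).IsSubnormal := by
      apply Subgroup.IsSubnormal.step _ C (Subgroup.map_subtype_le _)
        (Subgroup.Normal.isSubnormal hCn)
      rw [Cfsg.Agent.Helper7.subgroupOf_map_subtype_self]
      exact hNn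
    have hle := Cfsg.Agent.Helper7.subnormal_coprime_le_pPrimeCore p _ hsub
      (by rw [Cfsg.Agent.Helper7.card_map_subtype]; exact hNc)
    rw [Cfsg.Agent.Helper7.pPrimeCore_quotient_eq_bot', le_bot_iff] at hle
    rw [eq_bot_iff]
    intro x hx
    have : C.subtype x ∈ N.map C.subtype := Subgroup.mem_map_of_mem _ hx
    rw [hle, Subgroup.mem_bot] at this
    rw [Subgroup.mem_bot]
    exact Subtype.ext this
  have hCcard : Nat.card ↥C = p ^ k := by
    rw [hNbot, Subgroup.index_bot] at hNk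
    exact hNk
  have hCle : C ≤ Sb := by
    intro x hx
    apply hpel
    have h1 : orderOf (⟨x, hx⟩ : ↥C) ∣ p ^ k := hCcard ▸ orderOf_dvd_natCard _
    obtain ⟨j, -, hj⟩ := (Nat.dvd_prime_pow (Fact.out : p.Prime)).mp h1
    refine ⟨j, ?_⟩
    rw [← hj, ← Subgroup.orderOf_coe]
  have hSle : Sb ≤ Cfsg.pCore p (G ⧸ W) := Cfsg.Agent.Helper7.le_pCore hSbn hSbp
  exact ((Subgroup.centralizer_le hSle).trans hCle).trans hSle

theorem fwd_fusion {G : Type*} [Group G] [Finite G] {p : ℕ} [Fact p.Prime] (S : Sylow p G)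
    (h : Subgroup.normalizer ((S : Subgroup G) : Set G) ⊔ Cfsg.pPrimeCore p G = ⊤)
    (Q : Subgroup G) (hQ : Q ≤ (S : Subgroup G)) (g : G)
    (hg : Q.map (MulAut.conj g).toMonoidHom ≤ (S : Subgroup G)) :
    ∃ n ∈ Subgroup.normalizer ((S : Subgroup G) : Set G), ∃ c ∈ Subgroup.centralizer (Q : Set G),
      g = n * c := by
  set W := Cfsg.pPrimeCore p G with hW
  haveI hWn : W.Normal := Cfsg.Agent.Helper22.pPrimeCore_normal p
  have hgm : g ∈ Subgroup.normalizer ((S : Subgroup G) : Set G) ⊔ W := by rw [h]; trivial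
  obtain ⟨n, hn, w, hw, rfl⟩ := Subgroup.mem_sup_of_normal_right.mp hgm
  refine ⟨n, hn, w, ?_, rfl⟩
  have hSW : (S : Subgroup G) ⊓ W = ⊥ :=
    Cfsg.Agent.Helper7.inf_eq_bot_of_isPGroup_of_coprime S.2
      (Cfsg.Agent.Helper22.card_pPrimeCore_coprime p)
  rw [Subgroup.mem_centralizer_iff]
  intro x hx
  have h1 : (n * w) * x * (n * w)⁻¹ ∈ (S : Subgroup G) := by
    apply hg
    exact ⟨x, hx, rfl⟩
  have h2 : w * x * w⁻¹ ∈ (S : Subgroup G) := by
    have h3 := (Subgroup.mem_normalizer_iff.mp (Subgroup.inv_mem _ hn) ((n * w) * x * (n * w)⁻¹)).mp h1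
    have e : n⁻¹ * ((n * w) * x * (n * w)⁻¹) * n⁻¹⁻¹ = w * x * w⁻¹ := by group
    rwa [e] at h3
  have h4 : w * x * w⁻¹ * x⁻¹ ∈ (S : Subgroup G) ⊓ W := by
    refine ⟨(S : Subgroup G).mul_mem h2 ((S : Subgroup G).inv_mem (hQ hx)), ?_⟩
    have h5 : x * w⁻¹ * x⁻¹ ∈ W := hWn.conj_mem _ (W.inv_mem hw) x
    have e : w * x * w⁻¹ * x⁻¹ = w * (x * w⁻¹ * x⁻¹) := by group
    rw [e]
    exact W.mul_mem hw h5
  rw [hSW, Subgroup.mem_bot] at h4
  have e : x * w = (w * x * w⁻¹ * x⁻¹)⁻¹ * (w * x) := by group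
  rw [e, h4, inv_one, one_mul]

theorem bwd {G : Type*} [Group G] [Finite G] {p : ℕ} [Fact p.Prime] (S : Sylow p G)
    (hc : Cfsg.IsPConstrained p G)
    (hf : ∀ Q : Subgroup G, Q ≤ (S : Subgroup G) → ∀ g : G,
      Q.map (MulAut.conj g).toMonoidHom ≤ (S : Subgroup G) →
      ∃ n ∈ Subgroup.normalizer ((S : Subgroup G) : Set G),
        ∃ c ∈ Subgroup.centralizer (Q : Set G), g = n * c) :
    Subgroup.normalizer ((S : Subgroup G) : Set G) ⊔ Cfsg.pPrimeCore p G = ⊤ := by
  classical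
  set W := Cfsg.pPrimeCore p G with hW
  haveI hWn : W.Normal := Cfsg.Agent.Helper22.pPrimeCore_normal p
  set φ := QuotientGroup.mk' W with hφ
  have hsurj : Function.Surjective φ := QuotientGroup.mk'_surjective W
  set K := Cfsg.pPrimePCore p G with hK
  have hKdef : K = (Cfsg.pCore p (G ⧸ W)).comap φ := rfl
  haveI hKn : K.Normal := by
    rw [hKdef]
    exact (Cfsg.Agent.Helper10.pCore_normal p).comap φ
  set P := (S : Subgroup G) ⊓ K with hP
  have hPp : IsPGroup p ↥P := S.2.to_le inf_le_left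
  have hPidx : ¬ p ∣ P.relIndex K :=
    Cfsg.Agent.Helper10.inf_normal_relSylow (S : Subgroup G) K S.2 S.not_dvd_index
  have hWK : W ≤ K := by
    intro x hx
    rw [hKdef, Subgroup.mem_comap]
    have : φ x = 1 := (QuotientGroup.eq_one_iff x).mpr hx
    rw [this]; exact one_mem _
  have hWrel : ∃ a : ℕ, W.relIndex K = p ^ a := by
    have h3 := Subgroup.relIndex_comap (H := (⊥ : Subgroup (G ⧸ W))) φ K
    rw [MonoidHom.comap_bot, hφ, QuotientGroup.ker_mk', Subgroup.relIndex_bot_left,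
      ← hφ, hKdef, Subgroup.map_comap_eq_self_of_surjective hsurj] at h3
    obtain ⟨a, ha⟩ := IsPGroup.iff_card.mp (Cfsg.Agent.Helper10.pCore_isPGroup (G := G ⧸ W) p)
    exact ⟨a, by rw [← hKdef] at h3; rw [h3, ha]⟩
  have hKle : K ≤ P ⊔ W := by
    rw [← Subgroup.relIndex_eq_one]
    have h1 : (P ⊔ W).relIndex K ∣ P.relIndex K := Subgroup.relIndex_dvd_of_le_left K le_sup_left
    have h2 : (P ⊔ W).relIndex K ∣ W.relIndex K := Subgroup.relIndex_dvd_of_le_left K le_sup_right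
    obtain ⟨a, ha⟩ := hWrel
    rw [ha] at h2
    obtain ⟨j, -, hj⟩ := (Nat.dvd_prime_pow (Fact.out : p.Prime)).mp h2
    rcases Nat.eq_zero_or_pos j with hj0 | hj0
    · rw [hj, hj0, pow_zero]
    · exfalso
      apply hPidx
      refine dvd_trans ?_ h1
      rw [hj]
      exact dvd_pow_self p hj0.ne'
  have hPsyl : ¬ p ∣ (P.subgroupOf K).index := hPidx
  have hPp' : IsPGroup p ↥(P.subgroupOf K) := hPp.comap_subtype
  set PK : Sylow p ↥K := hPp'.toSylow hPsyl with hPK
  have hPKcoe : (PK : Subgroup ↥K) = P.subgroupOf K := IsPGroup.toSylow_coe hPp' hPsyl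
  have hPKmap : (PK : Subgroup ↥K).map K.subtype = P := by
    rw [hPKcoe, Subgroup.subgroupOf_map_subtype]
    exact inf_eq_left.mpr inf_le_right
  have hCK : Subgroup.centralizer (P : Set G) ≤ K := by
    have := hc PK
    rwa [hPKmap] at this
  rw [eq_top_iff]
  intro g _
  obtain ⟨c, hcK, hgc⟩ := Cfsg.Agent.Helper10.frattini_elt K P inf_le_right hPp hPidx g
  have hconj : P.map (MulAut.conj (g * c)).toMonoidHom ≤ (S : Subgroup G) := by
    rintro _ ⟨x, hx, rfl⟩
    exact ((Subgroup.mem_normalizer_iff.mp hgc x).mp hx).1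
  obtain ⟨n, hn, z, hz, hgz⟩ := hf P inf_le_left (g * c) hconj
  have hzK : z ∈ K := hCK hz
  have hg : g = n * (z * c⁻¹) := by
    rw [← mul_assoc, ← hgz]; group
  rw [hg]
  have hzc : z * c⁻¹ ∈ P ⊔ W := hKle (K.mul_mem hzK (K.inv_mem hcK))
  have hPN : P ≤ Subgroup.normalizer ((S : Subgroup G) : Set G) :=
    inf_le_left.trans Subgroup.le_normalizer
  exact Subgroup.mul_mem _ (Subgroup.mem_sup_left hn) ((sup_le_sup_right hPN W) hzc)

/-- Let S be a Sylow p-subgroup of the finite group G. Then G = N_G(S)·O_{p'}(G) if and only if G is p-constrained and N_G(S) controls fusion in S, in the sense that whenever a subgroup Q of S has a conjugate g Q g⁻¹ inside S, the element g is a product n c with n normalizing S and c centralizing Q. -/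
theorem result {G : Type*} [Group G] [Finite G] {p : ℕ} [Fact p.Prime] (S : Sylow p G) :
    Subgroup.normalizer ((S : Subgroup G) : Set G) ⊔ Cfsg.pPrimeCore p G = ⊤ ↔
      (Cfsg.IsPConstrained p G ∧
        ∀ Q : Subgroup G, Q ≤ (S : Subgroup G) → ∀ g : G, Q.map (MulAut.conj g).toMonoidHom ≤ (S : Subgroup G) →
          ∃ n ∈ Subgroup.normalizer ((S : Subgroup G) : Set G), ∃ c ∈ Subgroup.centralizer (Q : Set G), g = n * c) := by
  constructor
  · intro h
    exact ⟨fwd_constrained S h, fun Q hQ g hg => fwd_fusion S h Q hQ g hg⟩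
  · rintro ⟨hc, hf⟩
    exact bwd S hc hf

end Cfsg.Agent.S1948
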