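import Mathlib
import Cfsg.Statements.S1952
import Mathlib
import Cfsg.Agent.Lib.Helper10.NormIndex
-- import your own Cfsg.Agent.* helpers here

set_option autoImplicit false
open Cfsg

namespace Cfsg.Agent.S1952

open scoped IsMulCommutative in
theorem core_index_ge {P : Type*} [Group P] [Finite P] {p : ℕ} [Fact p.Prime] (A : Subgroup P) [A.Normal]
    (hA : Cfsg.IsElementaryAbelian p A) (hidx : A.index = p) (x y : P) (hx : x ∈ A)
    (hprod : ((List.range p).map (fun i => (y ^ i)⁻¹ * x * y ^ i)).prod ≠ 1) :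
    ∃ H : Subgroup P, H.index = p ^ 2 ∧ p ^ (p + 1) ≤ H.normalCore.index := by
  classical
  haveI : IsMulCommutative A := hA.1
  have hexp : ∀ a : A, a ^ p = 1 := fun a => Subtype.ext (by simpa using hA.2 a a.2)
  set σ : A →* A := (MulAut.conjNormal y⁻¹ : MulAut A).toMonoidHom with hσdef
  have hσ_apply : ∀ a : A, ((σ a : A) : P) = y⁻¹ * a * y := fun a => by
    rw [hσdef]
    show ((MulAut.conjNormal y⁻¹ a : A) : P) = _
    rw [MulAut.conjNormal_apply, inv_inv]
  have hσ_iter : ∀ (i : ℕ) (a : A), ((σ^[i] a : A) : P) = (y ^ i)⁻¹ * a * y ^ i := by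
    intro i
    induction i with
    | zero => intro a; simp
    | succ i ih =>
      intro a
      rw [Function.iterate_succ_apply', hσ_apply, ih, pow_succ]
      group
  have hyp : y ^ p ∈ A := hidx ▸ A.pow_index_mem y
  have hσp : ∀ a : A, σ^[p] a = a := by
    intro a
    apply Subtype.ext
    rw [hσ_iter]
    have hc : (⟨y ^ p, hyp⟩ : A) * a = a * ⟨y ^ p, hyp⟩ := mul_comm _ _
    have hc' : y ^ p * (a : P) = a * y ^ p := congrArg Subtype.val hc
    rw [mul_assoc, ← hc', inv_mul_cancel_left]
  -- the norm element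
  set nx : A := ∏ i ∈ Finset.range p, σ^[i] ⟨x, hx⟩ with hnx
  have hnx_coe : (nx : P) = ((List.range p).map (fun i => (y ^ i)⁻¹ * x * y ^ i)).prod := by
    have hgen : ∀ k : ℕ, ((∏ i ∈ Finset.range k, σ^[i] ⟨x, hx⟩ : A) : P)
        = ((List.range k).map (fun i => (y ^ i)⁻¹ * x * y ^ i)).prod := by
      intro k
      induction k with
      | zero => simp
      | succ k ih =>
        rw [Finset.prod_range_succ, Subgroup.coe_mul, ih, List.range_succ, List.map_append,
          List.prod_append, hσ_iter]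
        simp
    exact hgen p
  have hnx1 : nx ≠ 1 := by
    intro h
    apply hprod
    rw [← hnx_coe, h]
    rfl
  obtain ⟨H₀, hH₀idx, hH₀n⟩ := Cfsg.Agent.Helper10.exists_index_p_notMem hexp nx hnx1
  refine ⟨H₀.map A.subtype, ?_, ?_⟩
  · rw [Subgroup.index_map_subtype, hH₀idx, hidx, sq]
  · set N := (H₀.map A.subtype).normalCore with hN
    have hNH : N ≤ H₀.map A.subtype := Subgroup.normalCore_le _
    have hNA : N ≤ A := hNH.trans (Subgroup.map_subtype_le H₀)
    have hCσ : ∀ a ∈ N.subgroupOf A, σ a ∈ N.subgroupOf A := by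
      intro a ha
      rw [Subgroup.mem_subgroupOf] at ha ⊢
      rw [hσ_apply]
      have := (Subgroup.normalCore_normal (H₀.map A.subtype)).conj_mem _ ha y⁻¹
      rwa [inv_inv] at this
    have hnxC : ∏ i ∈ Finset.range p, σ^[i] ⟨x, hx⟩ ∉ N.subgroupOf A := by
      intro hmem
      rw [Subgroup.mem_subgroupOf] at hmem
      obtain ⟨b, hb, hbe⟩ := hNH hmem
      have : b = nx := Subtype.ext hbe
      exact hH₀n (this ▸ hb)
    have h1 := Cfsg.Agent.Helper10.index_ge_of_norm_notMem hexp σ hσp (N.subgroupOf A) hCσ ⟨x, hx⟩ hnxC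
    have h2 : N.relIndex A * A.index = N.index := Subgroup.relIndex_mul_index hNA
    rw [← h2, hidx, pow_succ]
    exact Nat.mul_le_mul_right p h1

theorem padicVal_sq_factorial (p : ℕ) [Fact p.Prime] : (Nat.factorial (p ^ 2)).factorization p = p + 1 := by
  rw [Nat.factorization_def _ (Fact.out : p.Prime), sq, padicValNat_factorial_mul]
  have : padicValNat p (Nat.factorial p) = 1 := by
    have h := padicValNat_factorial_mul (p := p) 1
    rw [mul_one] at h
    rw [h]
    simp
  rw [this, add_comm]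

theorem exists_surj_sylow {P : Type*} [Group P] [Finite P] {p : ℕ} [Fact p.Prime] (hP : IsPGroup p P)
    (H : Subgroup P) (hH : H.index = p ^ 2) (hcore : p ^ (p + 1) ≤ H.normalCore.index) :
    ∃ (Q : Sylow p (Equiv.Perm (Fin (p ^ 2)))) (f : P →* ↥(Q : Subgroup (Equiv.Perm (Fin (p ^ 2))))),
      Function.Surjective f := by
  classical
  have hcard : Nat.card (P ⧸ H) = p ^ 2 := hH
  haveI : Finite (P ⧸ H) := Nat.finite_of_card_ne_zero (by rw [hcard]; exact pow_ne_zero _ (Fact.out : p.Prime).pos.ne')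
  have e : (P ⧸ H) ≃ Fin (p ^ 2) := Finite.equivFinOfCardEq hcard
  set F : P →* Equiv.Perm (Fin (p ^ 2)) :=
    (e.permCongrHom.toMonoidHom).comp (MulAction.toPermHom P (P ⧸ H)) with hF
  have hker : F.ker = H.normalCore := by
    rw [hF, Subgroup.normalCore_eq_ker]
    ext g
    simp only [MonoidHom.mem_ker, MonoidHom.comp_apply]
    exact e.permCongrHom.map_eq_one_iff
  have hrange_card : p ^ (p + 1) ≤ Nat.card F.range := by
    rw [← Subgroup.index_ker, hker]; exact hcore
  have hrange_p : IsPGroup p F.range := hP.of_surjective F.rangeRestrict F.rangeRestrict_surjective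
  obtain ⟨Q, hQ⟩ := hrange_p.exists_le_sylow
  have hQcard : Nat.card Q = p ^ (p + 1) := by
    rw [Sylow.card_eq_multiplicity, Nat.card_perm, Nat.card_fin, padicVal_sq_factorial]
  have heq : F.range = (Q : Subgroup _) := Subgroup.eq_of_le_of_card_ge hQ (by rw [hQcard]; exact hrange_card)
  refine ⟨Q, F.codRestrict (Q : Subgroup _) (fun g => hQ ⟨g, rfl⟩), ?_⟩
  rintro ⟨q, hq⟩
  rw [← heq] at hq
  obtain ⟨g, rfl⟩ := hq
  exact ⟨g, rfl⟩

/-- Let P be a finite p-group with a normal elementary abelian subgroup A of index p, and let x ∈ A and y ∈ P with y outside A. If the product of the p conjugates y^(-i) x y^i (i = 0, …, p−1) is not the identity, then the wreath product Z_p ≀ Z_p, realised as a Sylow p-subgroup of the symmetric group of degree p², is a homomorphic image of P. -/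
theorem result {P : Type*} [Group P] [Finite P] {p : ℕ} [Fact p.Prime] (hP : IsPGroup p P) (A : Subgroup P) [A.Normal]
    (hA : Cfsg.IsElementaryAbelian p A) (hidx : A.index = p) (x y : P) (hx : x ∈ A) (hy : y ∉ A)
    (hprod : ((List.range p).map (fun i => (y ^ i)⁻¹ * x * y ^ i)).prod ≠ 1) :
    ∃ (Q : Sylow p (Equiv.Perm (Fin (p ^ 2)))) (f : P →* ↥(Q : Subgroup (Equiv.Perm (Fin (p ^ 2))))), Function.Surjective f := by
  obtain ⟨H, hH, hcore⟩ := core_index_ge A hA hidx x y hx hprod
  exact exists_surj_sylow hP H hH hcore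

end Cfsg.Agent.S1952
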