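import Mathlib
import Cfsg.Statements.S1953
import Cfsg.Agent.Lib.Helper1.FNormalRad
import Cfsg.Agent.Lib.Helper1.QdAutomizer

set_option autoImplicit false
open Cfsg

namespace Cfsg.Agent.S1953

open Cfsg.Agent.Helper1.DF
open Cfsg.Agent.Helper10 (rcs)

theorem map_conj_eq_of_mem_normalizer {G : Type*} [Group G] {Q : Subgroup G} {x : G}
    (hx : x ∈ Subgroup.normalizer (Q : Set G)) : Q.map (MulAut.conj x).toMonoidHom = Q := by
  ext y
  constructor
  · rintro ⟨q, hq, rfl⟩
    exact (Subgroup.mem_normalizer_iff.mp hx q).mp hq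
  · intro hy
    refine ⟨x⁻¹ * y * x, ?_, ?_⟩
    · have := (Subgroup.mem_normalizer_iff.mp (inv_mem hx) y).mp hy
      rwa [inv_inv] at this
    · show x * (x⁻¹ * y * x) * x⁻¹ = y
      group

/-- Let p be an odd prime and P a Sylow p-subgroup of the finite group G, and suppose that for no p-subgroup Q of G does N_G(Q)/C_G(Q) have a section isomorphic to SL₂(p). Call a subgroup Q of P centric-radical when Z(Q) is a Sylow p-subgroup of C_G(Q) and the only normal subgroup X of N_G(Q) containing Q·C_G(Q) such that the index of Q·C_G(Q) in X is a power of p is Q·C_G(Q) itself (that is, N_G(Q)/Q·C_G(Q) has no nontrivial normal p-subgroup). Then there is a centric-radical subgroup Q of P contained in every centric-radical subgroup of P; it is normal in P, and N_G(Q) controls strong fusion in P: whenever a subgroup A of P has g A g⁻¹ ≤ P, the element g is a product h c with h in N_G(Q) and c centralizing A. -/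
theorem result {G : Type*} [Group G] [Finite G] {p : ℕ} [Fact p.Prime] (hp : p ≠ 2) (P : Sylow p G)
    (hfree : ∀ Q : Subgroup G, IsPGroup p ↥Q → ¬ ∃ (H K : Subgroup G) (_ : (K.subgroupOf H).Normal),
      Subgroup.centralizer (Q : Set G) ≤ K ∧ K ≤ H ∧ H ≤ Subgroup.normalizer (Q : Set G) ∧
      Nonempty ((↥H ⧸ K.subgroupOf H) ≃* Matrix.SpecialLinearGroup (Fin 2) (ZMod p)))
    (cr : Subgroup G → Prop)
    (hcr : ∀ Q : Subgroup G, cr Q ↔ (Q ≤ (P : Subgroup G) ∧
      (∃ R : Sylow p ↥(Subgroup.centralizer (Q : Set G)),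
        (R : Subgroup ↥(Subgroup.centralizer (Q : Set G))).map (Subgroup.centralizer (Q : Set G)).subtype = Q ⊓ Subgroup.centralizer (Q : Set G)) ∧
      ∀ X : Subgroup G, X ≤ Subgroup.normalizer (Q : Set G) →
        (∀ n ∈ Subgroup.normalizer (Q : Set G), X.map (MulAut.conj n).toMonoidHom = X) →
        Q ⊔ Subgroup.centralizer (Q : Set G) ≤ X → (∃ k : ℕ, (Q ⊔ Subgroup.centralizer (Q : Set G)).relIndex X = p ^ k) →
        X = Q ⊔ Subgroup.centralizer (Q : Set G))) :
    ∃ Q : Subgroup G, cr Q ∧ (∀ R : Subgroup G, cr R → Q ≤ R) ∧ (∀ x ∈ (P : Subgroup G), Q.map (MulAut.conj x).toMonoidHom = Q) ∧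
      ∀ A : Subgroup G, A ≤ (P : Subgroup G) → ∀ g : G, A.map (MulAut.conj g).toMonoidHom ≤ (P : Subgroup G) →
        ∃ h ∈ Subgroup.normalizer (Q : Set G), ∃ c ∈ Subgroup.centralizer (A : Set G), g = h * c := by
  have hG := qdfree_of_automizer hfree
  have hP : IsPGroup p (P : Subgroup G) := P.isPGroup'
  have hidx : ¬ p ∣ (P : Subgroup G).index := P.not_dvd_index
  obtain ⟨Q, hQP, hQ, hmax⟩ := exists_max_fnormal (P : Subgroup G)
  have hcr' : ∀ R : Subgroup G, cr R ↔ CRad p (P : Subgroup G) R := fun R => hcr R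
  refine ⟨Q, (hcr' Q).mpr (crad_of_max hp hG P Q hP hidx hQP hQ hmax), ?_, ?_, ?_⟩
  · intro R hR
    exact le_of_crad P Q R hP hQP hQ ((hcr' R).mp hR)
  · intro x hx
    exact map_conj_eq_of_mem_normalizer (le_normalizer_of_ctlIn hQP hQ hx)
  · intro A hA g hgA
    have h1 : rcs g⁻¹ (A : Set G) ⊆ ((P : Subgroup G) : Set G) := by
      rintro _ ⟨a, ha, rfl⟩
      apply hgA
      refine ⟨a, ha, ?_⟩
      show g * a * g⁻¹ = g⁻¹⁻¹ * a * g⁻¹
      rw [inv_inv]
    obtain ⟨n, ⟨-, hn⟩, hnA⟩ := hQ (A : Set G) g⁻¹ (Subgroup.mem_top _) hA h1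
    refine ⟨n⁻¹, inv_mem hn, n * g, ?_, by group⟩
    rw [Subgroup.mem_centralizer_iff]
    intro a ha
    have := hnA a ha
    calc a * (n * g) = n * (n⁻¹ * a * n) * g := by group
      _ = n * (g⁻¹⁻¹ * a * g⁻¹) * g := by rw [this]
      _ = n * g * a := by group

end Cfsg.Agent.S1953
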