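import Mathlib
import Cfsg.Statements.S1954
import Mathlib
import Cfsg.Agent.Lib.Helper10.ClosedSeries
import Cfsg.Agent.Lib.Helper10.PCompCover
-- import your own Cfsg.Agent.* helpers here

set_option autoImplicit false
open Cfsg

namespace Cfsg.Agent.S1954
open Cfsg.Agent.Helper10 in
/-- control of strong fusion by several normalizers simultaneously -/
theorem multi_control {G : Type*} [Group G] (T N : Subgroup G) (𝒱 : Finset (Subgroup G))
    (hV : ∀ U ∈ 𝒱, U ≤ T)
    (hctrl : ∀ U ∈ 𝒱, ∀ A : Subgroup G, A ≤ T → ∀ n ∈ N, A.map (MulAut.conj n).toMonoidHom ≤ T →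
      ∃ h ∈ N ⊓ Subgroup.normalizer (U : Set G), ∃ c ∈ N ⊓ Subgroup.centralizer (A : Set G), n = h * c) :
    ∀ A : Subgroup G, A ≤ T → ∀ n ∈ N, A.map (MulAut.conj n).toMonoidHom ≤ T →
      ∃ h ∈ N, (∀ U ∈ 𝒱, h ∈ Subgroup.normalizer (U : Set G)) ∧
        ∃ c ∈ N ⊓ Subgroup.centralizer (A : Set G), n = h * c := by
  classical
  induction 𝒱 using Finset.induction_on with
  | empty =>
    intro A _ n hn _
    exact ⟨n, hn, by simp, 1, one_mem _, by simp⟩
  | insert U₀ s hU₀ ih =>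
    intro A hA n hn hAn
    obtain ⟨h, hhN, hhs, c, hc, hnhc⟩ := ih (fun U hU => hV U (Finset.mem_insert_of_mem hU))
      (fun U hU => hctrl U (Finset.mem_insert_of_mem hU)) A hA n hn hAn
    set A' : Subgroup G := A ⊔ s.sup id with hA'
    have hsT : s.sup id ≤ T := Finset.sup_le (fun U hU => hV U (Finset.mem_insert_of_mem hU))
    have hA'T : A' ≤ T := sup_le hA hsT
    have hcA : ∀ a ∈ A, c * a * c⁻¹ = a := by
      intro a ha
      have := Subgroup.mem_centralizer_iff.mp hc.2 a ha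
      rw [← this]; group
    have hA'h : A'.map (MulAut.conj h).toMonoidHom ≤ T := by
      rw [Subgroup.map_le_iff_le_comap]
      refine sup_le ?_ (Finset.sup_le ?_)
      · intro a ha
        rw [Subgroup.mem_comap]
        have h1 : n * a * n⁻¹ ∈ T := hAn ⟨a, ha, by simp [MulAut.conj_apply]⟩
        have h2 : n * a * n⁻¹ = h * a * h⁻¹ := by
          rw [hnhc]
          calc h * c * a * (h * c)⁻¹ = h * (c * a * c⁻¹) * h⁻¹ := by group
            _ = h * a * h⁻¹ := by rw [hcA a ha]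
        rw [h2] at h1
        simpa [MulAut.conj_apply] using h1
      · intro U hU u hu
        rw [Subgroup.mem_comap]
        have h1 := (Subgroup.mem_normalizer_iff.mp (hhs U hU) u).mp hu
        have h2 : h * u * h⁻¹ ∈ T := hV U (Finset.mem_insert_of_mem hU) h1
        simpa [MulAut.conj_apply] using h2
    obtain ⟨h', hh', c', hc', hhh'⟩ := hctrl U₀ (Finset.mem_insert_self _ _) A' hA'T h hhN hA'h
    have hc'A' : ∀ U ∈ s, c' ∈ Subgroup.normalizer (U : Set G) := by
      intro U hU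
      have hUA' : U ≤ A' := le_trans (Finset.le_sup (f := id) hU) le_sup_right
      exact Subgroup.centralizer_le_normalizer _ (Subgroup.centralizer_le hUA' hc'.2)
    have hh'eq : h' = h * c'⁻¹ := by rw [hhh']; group
    refine ⟨h', hh'.1, ?_, c' * c, ⟨N.mul_mem hc'.1 hc.1, ?_⟩, ?_⟩
    · intro U hU
      rcases Finset.mem_insert.mp hU with rfl | hU
      · exact hh'.2
      · rw [hh'eq]
        exact Subgroup.mul_mem _ (hhs U hU) (Subgroup.inv_mem _ (hc'A' U hU))
    · exact Subgroup.mul_mem _ (Subgroup.centralizer_le (le_sup_left : A ≤ A') hc'.2) hc.2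
    · rw [hnhc, hhh']; group

open Cfsg.Agent.Helper10 in
/-- transport of the control hypothesis under conjugation by an element normalizing `T` and `N` -/
theorem conj_ctrl {G : Type*} [Group G] [Finite G] (T N V : Subgroup G) [N.Normal]
    (hctrl : ∀ A : Subgroup G, A ≤ T → ∀ n ∈ N, A.map (MulAut.conj n).toMonoidHom ≤ T →
      ∃ h ∈ N ⊓ Subgroup.normalizer (V : Set G), ∃ c ∈ N ⊓ Subgroup.centralizer (A : Set G), n = h * c)
    (x : G) (hx : x ∈ Subgroup.normalizer (T : Set G)) :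
    ∀ A : Subgroup G, A ≤ T → ∀ n ∈ N, A.map (MulAut.conj n).toMonoidHom ≤ T →
      ∃ h ∈ N ⊓ Subgroup.normalizer ((V.map (MulAut.conj x).toMonoidHom : Subgroup G) : Set G),
        ∃ c ∈ N ⊓ Subgroup.centralizer (A : Set G), n = h * c := by
  intro A hA n hn hAn
  have hxT : ∀ t ∈ T, x⁻¹ * t * x ∈ T := by
    intro t ht
    have := (Subgroup.mem_normalizer_iff.mp (Subgroup.inv_mem _ hx) t).mp ht
    simpa using this
  set A' : Subgroup G := A.map (MulAut.conj x⁻¹).toMonoidHom with hA'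
  have hA'mem : ∀ a ∈ A, x⁻¹ * a * x ∈ A' := fun a ha => ⟨a, ha, by simp [MulAut.conj_apply]⟩
  have hA'T : A' ≤ T := by
    rintro _ ⟨a, ha, rfl⟩
    have := hxT a (hA ha)
    simpa [MulAut.conj_apply] using this
  have hn' : x⁻¹ * n * x ∈ N := by
    have := (inferInstance : N.Normal).conj_mem n hn x⁻¹
    simpa using this
  have hA'n : A'.map (MulAut.conj (x⁻¹ * n * x)).toMonoidHom ≤ T := by
    rintro _ ⟨_, ⟨a, ha, rfl⟩, rfl⟩
    have h1 : n * a * n⁻¹ ∈ T := hAn ⟨a, ha, by simp [MulAut.conj_apply]⟩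
    have h2 := hxT _ h1
    have e : (MulAut.conj (x⁻¹ * n * x)).toMonoidHom ((MulAut.conj x⁻¹).toMonoidHom a)
        = x⁻¹ * (n * a * n⁻¹) * x := by
      simp [MulAut.conj_apply]; group
    rw [e]; exact h2
  obtain ⟨h', hh', c', hc', hnhc⟩ := hctrl A' hA'T _ hn' hA'n
  refine ⟨x * h' * x⁻¹, ⟨(inferInstance : N.Normal).conj_mem h' hh'.1 x, ?_⟩,
    x * c' * x⁻¹, ⟨(inferInstance : N.Normal).conj_mem c' hc'.1 x, ?_⟩, ?_⟩
  · apply mem_normalizer_of_conj_mem_finite
    rintro _ ⟨v, hv, rfl⟩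
    refine ⟨h' * v * h'⁻¹, (Subgroup.mem_normalizer_iff.mp hh'.2 v).mp hv, ?_⟩
    simp [MulAut.conj_apply]; group
  · refine Subgroup.mem_centralizer_iff.mpr ?_
    intro a ha
    have h1 := Subgroup.mem_centralizer_iff.mp hc'.2 _ (hA'mem a ha)
    calc a * (x * c' * x⁻¹) = x * ((x⁻¹ * a * x) * c') * x⁻¹ := by group
      _ = x * (c' * (x⁻¹ * a * x)) * x⁻¹ := by rw [h1]
      _ = x * c' * x⁻¹ * a := by group
  · have : n = x * (x⁻¹ * n * x) * x⁻¹ := by group
    rw [this, hnhc]; group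

/-- Let N be a normal subgroup of the finite group G, P a Sylow p-subgroup of G, and V a subgroup of P ∩ N normal in P ∩ N such that N_N(V) controls strong fusion in P ∩ N with respect to N (whenever a subgroup A of P ∩ N has n A n⁻¹ ≤ P ∩ N for some n in N, then n = h c with h in N_N(V) and c in C_N(A)). Let W be the subgroup generated by the conjugates of V under N_G(P ∩ N). Then N_G(W) controls strong fusion in P with respect to G. -/
theorem result {G : Type*} [Group G] [Finite G] {p : ℕ} [Fact p.Prime] (N : Subgroup G) [N.Normal] (P : Sylow p G) (V : Subgroup G)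
    (hV : V ≤ (P : Subgroup G) ⊓ N) (hVn : ∀ x ∈ (P : Subgroup G) ⊓ N, V.map (MulAut.conj x).toMonoidHom = V)
    (hctrl : ∀ A : Subgroup G, A ≤ (P : Subgroup G) ⊓ N → ∀ n ∈ N, A.map (MulAut.conj n).toMonoidHom ≤ (P : Subgroup G) ⊓ N →
      ∃ h ∈ N ⊓ Subgroup.normalizer (V : Set G), ∃ c ∈ N ⊓ Subgroup.centralizer (A : Set G), n = h * c)
    (W : Subgroup G) (hW : W = Subgroup.closure (⋃ x ∈ Subgroup.normalizer (((P : Subgroup G) ⊓ N : Subgroup G) : Set G),
      ((V.map (MulAut.conj x).toMonoidHom : Subgroup G) : Set G))) :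
    ∀ A : Subgroup G, A ≤ (P : Subgroup G) → ∀ g : G, A.map (MulAut.conj g).toMonoidHom ≤ (P : Subgroup G) →
        ∃ h ∈ Subgroup.normalizer (W : Set G), ∃ c ∈ Subgroup.centralizer (A : Set G), g = h * c := by
  classical
  set T := (P : Subgroup G) ⊓ N with hT
  set M := Subgroup.normalizer (T : Set G) with hM
  have hTP : T ≤ (P : Subgroup G) := inf_le_left
  have hTN : T ≤ N := inf_le_right
  have hTp : IsPGroup p T := P.isPGroup'.to_le hTP
  have hTidx : ¬ p ∣ T.relIndex N :=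
    Cfsg.Agent.Helper10.inf_normal_relSylow (P : Subgroup G) N P.isPGroup' P.not_dvd_index
  -- the family of conjugates of `V`
  have hfin : Set.Finite {U : Subgroup G | ∃ x ∈ M, U = V.map (MulAut.conj x).toMonoidHom} :=
    Set.toFinite _
  set 𝒱 := hfin.toFinset with h𝒱def
  have h𝒱 : ∀ U, U ∈ 𝒱 ↔ ∃ x ∈ M, U = V.map (MulAut.conj x).toMonoidHom := by
    intro U
    simp [h𝒱def]
  have hconjT : ∀ x ∈ M, ∀ t ∈ T, x * t * x⁻¹ ∈ T := fun x hx t ht =>
    (Subgroup.mem_normalizer_iff.mp hx t).mp ht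
  have h𝒱T : ∀ U ∈ 𝒱, U ≤ T := by
    intro U hU
    obtain ⟨x, hx, rfl⟩ := (h𝒱 U).mp hU
    rintro _ ⟨v, hv, rfl⟩
    have := hconjT x hx v (hV hv)
    simpa [MulAut.conj_apply] using this
  have h𝒱ctrl : ∀ U ∈ 𝒱, ∀ A : Subgroup G, A ≤ T → ∀ n ∈ N, A.map (MulAut.conj n).toMonoidHom ≤ T →
      ∃ h ∈ N ⊓ Subgroup.normalizer (U : Set G), ∃ c ∈ N ⊓ Subgroup.centralizer (A : Set G), n = h * c := by
    intro U hU
    obtain ⟨x, hx, rfl⟩ := (h𝒱 U).mp hU
    exact conj_ctrl T N V hctrl x hx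
  have hmc := multi_control T N 𝒱 h𝒱T h𝒱ctrl
  -- generators of `W`
  set Sgen : Set G := ⋃ x ∈ Subgroup.normalizer (((P : Subgroup G) ⊓ N : Subgroup G) : Set G),
      ((V.map (MulAut.conj x).toMonoidHom : Subgroup G) : Set G) with hSgen
  have hWS : W = Subgroup.closure Sgen := hW
  have hmemS : ∀ w, w ∈ Sgen ↔ ∃ x ∈ M, w ∈ V.map (MulAut.conj x).toMonoidHom := by
    intro w
    simp only [hSgen, Set.mem_iUnion, SetLike.mem_coe, exists_prop]
    rfl
  have hSW : Sgen ⊆ (W : Set G) := by rw [hWS]; exact Subgroup.subset_closure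
  have hWle : ∀ K : Subgroup G, Sgen ⊆ (K : Set G) → W ≤ K := by
    intro K hK
    rw [hWS]; exact (Subgroup.closure_le K).mpr hK
  have hWT : W ≤ T := by
    apply hWle
    intro w hw
    obtain ⟨x, hx, hwx⟩ := (hmemS w).mp hw
    exact h𝒱T _ ((h𝒱 _).mpr ⟨x, hx, rfl⟩) hwx
  have hWn : ∀ h : G, (∀ U ∈ 𝒱, h ∈ Subgroup.normalizer (U : Set G)) →
      h ∈ Subgroup.normalizer (W : Set G) := by
    intro h hh
    apply Cfsg.Agent.Helper10.mem_normalizer_of_conj_mem_finite
    have : W ≤ W.comap (MulAut.conj h).toMonoidHom := by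
      apply hWle
      intro w hw
      obtain ⟨x, hx, hwx⟩ := (hmemS w).mp hw
      have hU := hh _ ((h𝒱 _).mpr ⟨x, hx, rfl⟩)
      have h1 := (Subgroup.mem_normalizer_iff.mp hU w).mp hwx
      have h2 : h * w * h⁻¹ ∈ W := hSW ((hmemS _).mpr ⟨x, hx, h1⟩)
      simpa [MulAut.conj_apply] using h2
    intro b hb
    have := this hb
    simpa [MulAut.conj_apply] using this
  have hMW : M ≤ Subgroup.normalizer (W : Set G) := by
    intro x' hx'
    apply Cfsg.Agent.Helper10.mem_normalizer_of_conj_mem_finite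
    have : W ≤ W.comap (MulAut.conj x').toMonoidHom := by
      apply hWle
      intro w hw
      obtain ⟨x, hx, v, hv, rfl⟩ := (hmemS w).mp hw
      have h2 : x' * (x * v * x⁻¹) * x'⁻¹ ∈ W := by
        apply hSW
        rw [hmemS]
        refine ⟨x' * x, M.mul_mem hx' hx, v, hv, ?_⟩
        simp [MulAut.conj_apply, mul_assoc]
      simpa [MulAut.conj_apply] using h2
    intro b hb
    have := this hb
    simpa [MulAut.conj_apply] using this
  -- the upper central series of `W`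
  have hWp : IsPGroup p W := hTp.to_le hWT
  have : Group.IsNilpotent ↥W := hWp.isNilpotent
  obtain ⟨k, hk⟩ := Group.IsNilpotent.nilpotent ↥W
  set Useq : ℕ → Subgroup G := fun i => (Subgroup.upperCentralSeries ↥W i).map W.subtype with hUseq
  have hU0 : Useq 0 = ⊥ := by simp [hUseq]
  have hUk : Useq k = W := by
    simp only [hUseq, hk]
    rw [← MonoidHom.range_eq_map, Subgroup.range_subtype]
  have hUW : ∀ i, Useq i ≤ W := fun i => Subgroup.map_subtype_le _
  have hUP : ∀ i, Useq i ≤ (P : Subgroup G) := fun i => (hUW i).trans (hWT.trans hTP)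
  have hUc : ∀ i, ∀ w ∈ Useq k, ∀ u ∈ Useq (i + 1), w * u * w⁻¹ * u⁻¹ ∈ Useq i := by
    intro i w hw u hu
    rw [hUk] at hw
    obtain ⟨u', hu', rfl⟩ := hu
    have h1 := (Subgroup.mem_upperCentralSeries_succ_iff).mp hu' ⟨w, hw⟩
    have h2 := Subgroup.inv_mem _ h1
    refine ⟨_, h2, ?_⟩
    simp
    group
  have hUsc : ∀ i, ∀ u ∈ Useq i, ∀ g : G, g * u * g⁻¹ ∈ (P : Subgroup G) → g * u * g⁻¹ ∈ Useq i := by
    intro i u hu g hgu
    have huW : u ∈ W := hUW i hu
    have huT : u ∈ T := hWT huW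
    obtain ⟨c, hcN, hxM⟩ := Cfsg.Agent.Helper10.frattini_elt N T hTN hTp hTidx g
    set x := g * c with hx
    have hguT : g * u * g⁻¹ ∈ T := ⟨hgu, (inferInstance : N.Normal).conj_mem u (hTN huT) g⟩
    -- `n = c⁻¹`
    have hnuT : c⁻¹ * u * c⁻¹⁻¹ ∈ T := by
      have h1 := (Subgroup.mem_normalizer_iff.mp (Subgroup.inv_mem _ hxM) (g * u * g⁻¹)).mp hguT
      have e : x⁻¹ * (g * u * g⁻¹) * x⁻¹⁻¹ = c⁻¹ * u * c⁻¹⁻¹ := by rw [hx]; group
      rwa [e] at h1
    have hA : Subgroup.zpowers u ≤ T := by rw [Subgroup.zpowers_le]; exact huT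
    have hAn : (Subgroup.zpowers u).map (MulAut.conj c⁻¹).toMonoidHom ≤ T := by
      rw [MonoidHom.map_zpowers, Subgroup.zpowers_le]
      simpa [MulAut.conj_apply] using hnuT
    obtain ⟨h, hhN, hh𝒱, c', hc', hnhc⟩ := hmc _ hA c⁻¹ (N.inv_mem hcN) hAn
    have hhW := hWn h hh𝒱
    have hc'u : c' * u * c'⁻¹ = u := by
      have := Subgroup.mem_centralizer_iff.mp hc'.2 u (Subgroup.mem_zpowers u)
      rw [← this]; group
    have h3 : h * u * h⁻¹ ∈ Useq i :=
      Cfsg.Agent.Helper10.conj_mem_map_of_characteristic W _ hhW hu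
    have h4 : x * (h * u * h⁻¹) * x⁻¹ ∈ Useq i :=
      Cfsg.Agent.Helper10.conj_mem_map_of_characteristic W _ (hMW hxM) h3
    have e : g * u * g⁻¹ = x * (h * u * h⁻¹) * x⁻¹ := by
      have e1 : g = x * c⁻¹ := by rw [hx]; group
      rw [e1, hnhc]
      calc x * (h * c') * u * (x * (h * c'))⁻¹ = x * (h * (c' * u * c'⁻¹) * h⁻¹) * x⁻¹ := by group
        _ = x * (h * u * h⁻¹) * x⁻¹ := by rw [hc'u]
    rw [e]; exact h4
  have hmain := Cfsg.Agent.Helper10.controls_of_closed_series P k Useq hU0 hUP hUsc hUc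
  rw [hUk] at hmain
  exact hmain

end Cfsg.Agent.S1954
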