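import Mathlib
import Cfsg.Statements.S1956
import Cfsg.Agent.Lib.Helper10.SylowAux
-- import your own Cfsg.Agent.* helpers here

set_option autoImplicit false
open Cfsg

namespace Cfsg.Agent.S1956

/-- Let P be a Sylow p-subgroup of the finite group G such that every element of P of order dividing p (dividing 4 when p = 2) is central in P. Then the fusion of these elements is controlled by N_G(P): if such an element a of P has g a g⁻¹ in P, then g = n c with n normalizing P and c commuting with a. -/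
theorem result {G : Type*} [Group G] [Finite G] {p : ℕ} [Fact p.Prime] (P : Sylow p G)
    (hcen : ∀ a ∈ (P : Subgroup G), (a ^ p = 1 ∨ (p = 2 ∧ a ^ 4 = 1)) → ∀ y ∈ (P : Subgroup G), a * y = y * a) :
    ∀ a ∈ (P : Subgroup G), (a ^ p = 1 ∨ (p = 2 ∧ a ^ 4 = 1)) → ∀ g : G, g * a * g⁻¹ ∈ (P : Subgroup G) →
      ∃ n ∈ Subgroup.normalizer ((P : Subgroup G) : Set G), ∃ c : G, c * a = a * c ∧ g = n * c := by
  intro a haP hpow g hb
  set b := g * a * g⁻¹ with hbdef
  -- b satisfies the same power condition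
  have hconjpow : ∀ k : ℕ, b ^ k = g * a ^ k * g⁻¹ := by
    intro k
    rw [hbdef]
    exact conj_pow
  have hpowb : b ^ p = 1 ∨ (p = 2 ∧ b ^ 4 = 1) := by
    rcases hpow with h | ⟨h2, h4⟩
    · left; rw [hconjpow, h]; group
    · right; refine ⟨h2, ?_⟩; rw [hconjpow, h4]; group
  -- P ≤ C(b)
  have hP_le : (P : Subgroup G) ≤ Subgroup.centralizer ({b} : Set G) := by
    intro y hy
    rw [Subgroup.mem_centralizer_singleton_iff]
    exact (hcen b hb hpowb y hy).symm
  have hgP_le : ((g • P : Sylow p G) : Subgroup G) ≤ Subgroup.centralizer ({b} : Set G) := by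
    intro y hy
    rw [Cfsg.Agent.Helper10.sylow_conj_mem] at hy
    rw [Subgroup.mem_centralizer_singleton_iff]
    have h := hcen a haP hpow _ hy
    -- a * (g⁻¹ y g) = (g⁻¹ y g) * a
    rw [hbdef]
    calc y * (g * a * g⁻¹) = g * ((g⁻¹ * y * g) * a) * g⁻¹ := by group
      _ = g * (a * (g⁻¹ * y * g)) * g⁻¹ := by rw [h]
      _ = g * a * g⁻¹ * y := by group
  obtain ⟨c', hc'K, hc'⟩ := Cfsg.Agent.Helper10.sylow_conj_in_subgroup (g • P) P _ hgP_le hP_le
  have hc'b : c' * b = b * c' := Subgroup.mem_centralizer_singleton_iff.mp hc'K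
  refine ⟨c' * g, ?_, (c' * g)⁻¹ * c'⁻¹ * (c' * g), ?_, by group⟩
  · -- c' * g ∈ N(P)
    have hinv : (c' * g)⁻¹ ∈ Subgroup.normalizer ((P : Subgroup G) : Set G) := by
      rw [Subgroup.mem_normalizer_iff]
      intro h
      rw [hc' h, Cfsg.Agent.Helper10.sylow_conj_mem]
      have : g⁻¹ * (c'⁻¹ * h * c') * g = (c' * g)⁻¹ * h * (c' * g)⁻¹⁻¹ := by group
      rw [this]
    have := Subgroup.inv_mem _ hinv
    simpa using this
  · -- commutes with a
    have ha : a = g⁻¹ * b * g := by rw [hbdef]; group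
    have hc'b' : c'⁻¹ * b = b * c'⁻¹ := by
      calc c'⁻¹ * b = c'⁻¹ * (b * c') * c'⁻¹ := by group
        _ = c'⁻¹ * (c' * b) * c'⁻¹ := by rw [hc'b]
        _ = b * c'⁻¹ := by group
    rw [ha]
    calc (c' * g)⁻¹ * c'⁻¹ * (c' * g) * (g⁻¹ * b * g) = g⁻¹ * (c'⁻¹ * b) * g := by group
      _ = g⁻¹ * (b * c'⁻¹) * g := by rw [hc'b']
      _ = g⁻¹ * b * g * ((c' * g)⁻¹ * c'⁻¹ * (c' * g)) := by group

end Cfsg.Agent.S1956
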