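import Mathlib
import Cfsg.Statements.S1958
import Mathlib
import Cfsg.Agent.Lib.Helper10.PSolvBalance
-- import your own Cfsg.Agent.* helpers here

set_option autoImplicit false
open Cfsg

namespace Cfsg.Agent.S1958

theorem half {G : Type*} [Group G] [Finite G]
    (p : ℕ) [Fact p.Prime] (x y : G) (hx : orderOf x = p) (hxy : x * y = y * x)
    (hCy : Group.IsSolvable ↥(Subgroup.centralizer ({y} : Set G))) :
    Cfsg.centralizerPPrimeCore p x ⊓ Subgroup.centralizer {y} ≤ Cfsg.centralizerPPrimeCore p y := by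
  classical
  set Cx := Subgroup.centralizer ({x} : Set G) with hCxdef
  set Cy := Subgroup.centralizer ({y} : Set G) with hCydef
  set Ox := Cfsg.centralizerPPrimeCore p x with hOx
  have hOxdef : Ox = (Cfsg.pPrimeCore p ↥Cx).map Cx.subtype := rfl
  haveI hn : (Cfsg.pPrimeCore p ↥Cx).Normal := Cfsg.Agent.Helper22.pPrimeCore_normal p
  have hOxle : Ox ≤ Cx := by rw [hOxdef]; exact Subgroup.map_subtype_le _
  have hOxcard : (Nat.card ↥Ox).Coprime p := by
    rw [hOxdef, Cfsg.Agent.Helper7.card_map_subtype]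
    exact Cfsg.Agent.Helper22.card_pPrimeCore_coprime p
  -- conjugation by elements of Cx preserves Ox
  have hOxconj : ∀ u ∈ Cx, ∀ d ∈ Ox, u * d * u⁻¹ ∈ Ox := by
    intro u hu d hd
    rw [hOxdef] at hd ⊢
    obtain ⟨d', hd', rfl⟩ := hd
    exact ⟨⟨u, hu⟩ * d' * ⟨u, hu⟩⁻¹, hn.conj_mem d' hd' ⟨u, hu⟩, rfl⟩
  have hxCy : x ∈ Cy := by
    rw [hCydef, Subgroup.mem_centralizer_iff]
    intro z hz
    rw [Set.mem_singleton_iff.mp hz]; exact hxy.symm
  set x' : ↥Cy := ⟨x, hxCy⟩ with hx'
  set P : Subgroup ↥Cy := Subgroup.zpowers x' with hP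
  have hPp : IsPGroup p ↥P := by
    apply IsPGroup.of_card (n := 1)
    rw [Nat.card_zpowers, pow_one, ← hx, ← Subgroup.orderOf_coe]
  set D : Subgroup ↥Cy := Ox.subgroupOf Cy with hD
  have hDcard : (Nat.card ↥D).Coprime p := by
    have h1 : Nat.card ↥D ∣ Nat.card ↥Ox := by
      have : Nat.card ↥D = Nat.card ↥(Ox ⊓ Cy) := by
        rw [hD, ← Cfsg.Agent.Helper7.card_map_subtype (Ox.subgroupOf Cy),
          Subgroup.subgroupOf_map_subtype]
      rw [this]
      exact Subgroup.card_dvd_of_le inf_le_left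
    exact Nat.Coprime.coprime_dvd_left h1 hOxcard
  have hcentP : ∀ u : ↥Cy, u ∈ Subgroup.centralizer (P : Set ↥Cy) ↔ (u : G) ∈ Cx := by
    intro u
    constructor
    · intro hu
      have h1 := Subgroup.mem_centralizer_iff.mp hu x' (Subgroup.mem_zpowers x')
      rw [hCxdef, Subgroup.mem_centralizer_iff]
      intro z hz
      rw [Set.mem_singleton_iff.mp hz]
      exact congrArg Subtype.val h1
    · intro hu
      have h1 : x * (u : G) = (u : G) * x :=
        Subgroup.mem_centralizer_iff.mp hu x (Set.mem_singleton x)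
      have h2 : Commute x' u := Subtype.ext h1
      rw [Subgroup.mem_centralizer_iff]
      intro z hz
      obtain ⟨k, rfl⟩ := Subgroup.mem_zpowers_iff.mp hz
      exact (h2.zpow_left k).eq
  have hDP : D ≤ Subgroup.centralizer (P : Set ↥Cy) := by
    intro d hd
    rw [hcentP]
    exact hOxle (Subgroup.mem_subgroupOf.mp hd)
  have hnorm : Subgroup.centralizer (P : Set ↥Cy) ≤ Subgroup.normalizer (D : Set ↥Cy) := by
    intro u hu
    have huCx : (u : G) ∈ Cx := (hcentP u).mp hu
    rw [Subgroup.mem_normalizer_iff]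
    intro d
    rw [hD, Subgroup.mem_subgroupOf, Subgroup.mem_subgroupOf]
    constructor
    · intro hd
      exact hOxconj _ huCx _ hd
    · intro hd
      have := hOxconj _ (Cx.inv_mem huCx) _ hd
      have e : (u : G)⁻¹ * ((u * d * u⁻¹ : ↥Cy) : G) * (u : G)⁻¹⁻¹ = (d : G) := by
        simp only [Subgroup.coe_mul, Subgroup.coe_inv]; group
      rwa [e] at this
  have hcon := Cfsg.Agent.Helper10.centralizer_pCore_quotient_le_of_isSolvable (H := ↥Cy) p hCy
  have hle := Cfsg.Agent.Helper10.le_pPrimeCore_of_centralizer_normalizes p hcon P D hPp hDcard hDP hnorm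
  intro g hg
  have hgCy : g ∈ Cy := hg.2
  have : (⟨g, hgCy⟩ : ↥Cy) ∈ D := Subgroup.mem_subgroupOf.mpr hg.1
  exact ⟨⟨g, hgCy⟩, hle this, rfl⟩

/-- Let `G` be a finite group, `p` a prime, and `x, y` commuting elements of order `p` whose centralizers `C_G(x)` and `C_G(y)` are both solvable. Then `O_{p'}(C_G(x)) ∩ C_G(y) = O_{p'}(C_G(y)) ∩ C_G(x)` (balance). -/
theorem result {G : Type*} [Group G] [Finite G]
    (p : ℕ) [Fact p.Prime] (x y : G) (hx : orderOf x = p) (hy : orderOf y = p) (hxy : x * y = y * x)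
    (hCx : Group.IsSolvable ↥(Subgroup.centralizer ({x} : Set G))) (hCy : Group.IsSolvable ↥(Subgroup.centralizer ({y} : Set G))) :
    Cfsg.centralizerPPrimeCore p x ⊓ Subgroup.centralizer {y} = Cfsg.centralizerPPrimeCore p y ⊓ Subgroup.centralizer {x} := by
  apply le_antisymm
  · exact le_inf (half p x y hx hxy hCy) (inf_le_left.trans (Subgroup.map_subtype_le _))
  · exact le_inf (half p y x hy hxy.symm hCx) (inf_le_left.trans (Subgroup.map_subtype_le _))

end Cfsg.Agent.S1958
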