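import Mathlib
import Cfsg.Statements.S1960
import Cfsg.Agent.Lib.Helper10.TransferFusion
-- import your own Cfsg.Agent.* helpers here

set_option autoImplicit false
open Cfsg

namespace Cfsg.Agent.S1960

/-- Let p be a prime, G a finite group with Sylow p-subgroup S, and 𝓦 a set of conjugacy functors for p on G. Suppose that 𝓦 controls transfer in N_G(T) for every nonidentity subgroup T of S for which N_S(T) is a Sylow p-subgroup of N_G(T): for a Sylow p-subgroup T' of N_G(T), the intersection of T' with the derived subgroup of N_G(T) is generated by its intersections with the derived subgroups of the normalizers in N_G(T) of the W(T'), W ∈ 𝓦. Then 𝓦 controls transfer in G: S ∩ G' is generated by the subgroups S ∩ (N_G(W(S)))', W ∈ 𝓦. -/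
theorem result {G : Type*} [Group G] [Finite G] {p : ℕ} [Fact p.Prime] (S : Sylow p G) (𝓦 : Set (Subgroup G → Subgroup G)) (h𝓦 : ∀ W ∈ 𝓦, Cfsg.IsConjugacyFunctor p W) (hloc : ∀ T : Subgroup G, T ≤ (S : Subgroup G) → T ≠ ⊥ → ¬ p ∣ ((S : Subgroup G) ⊓ Subgroup.normalizer ((T : Subgroup G) : Set G)).relIndex (Subgroup.normalizer ((T : Subgroup G) : Set G)) → Cfsg.FamilyControlsTransferIn p 𝓦 (Subgroup.normalizer ((T : Subgroup G) : Set G))) : Cfsg.FamilyControlsTransferIn p 𝓦 ⊤ := by
  refine ⟨(S : Subgroup G), le_top, S.isPGroup', by rw [Subgroup.relIndex_top_right]; exact S.not_dvd_index, ?_⟩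
  show (S : Subgroup G) ⊓ ⁅(⊤ : Subgroup G), ⊤⁆ = Cfsg.Agent.Helper10.famD 𝓦 (S : Subgroup G)
  apply le_antisymm
  · apply Cfsg.Agent.Helper10.focal_le_of_foc S
    intro y hy v hv
    have hB : Subgroup.zpowers y ≤ (S : Subgroup G) := by
      rw [Subgroup.zpowers_le]; exact hy
    have hBv : Cfsg.Agent.Helper10.rcg v (Subgroup.zpowers y) ≤ (S : Subgroup G) := by
      rw [Cfsg.Agent.Helper10.rcg_le_iff, Subgroup.zpowers_le, Cfsg.Agent.Helper10.mem_rcg]
      simpa using hv
    exact (Cfsg.Agent.Helper10.ft_main (S : Subgroup G) S.isPGroup' S.not_dvd_index 𝓦 h𝓦 hloc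
      (Nat.card (S : Subgroup G))).1 (Subgroup.zpowers y) hB (Nat.sub_le _ _) v hBv y
      (Subgroup.mem_zpowers y)
  · unfold Cfsg.Agent.Helper10.famD
    apply iSup₂_le
    intro W hW
    exact inf_le_inf_left _ (Subgroup.commutator_mono le_top le_top)

end Cfsg.Agent.S1960
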