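import Mathlib
import Cfsg.Statements.S1961
import Cfsg.Agent.Lib.Helper10.Fusion
-- import your own Cfsg.Agent.* helpers here

set_option autoImplicit false
open Cfsg

namespace Cfsg.Agent.S1961

/-- Local-to-global control of strong fusion through well-placed subgroups. Let p be a prime, G a finite group with Sylow p-subgroup S, and W a conjugacy functor for p on G. If W controls strong fusion in N_G(T) for every nonidentity subgroup T of S that is well placed in S with respect to W, then W controls strong fusion in G. -/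
theorem result {G : Type*} [Group G] [Finite G] {p : ℕ} [Fact p.Prime] (S : Sylow p G) (W : Subgroup G → Subgroup G) (hW : Cfsg.IsConjugacyFunctor p W) (hloc : ∀ T : Subgroup G, T ≠ ⊥ → Cfsg.IsWellPlaced p W (S : Subgroup G) T → Cfsg.ControlsStrongFusionIn p W (Subgroup.normalizer ((T : Subgroup G) : Set G))) : Cfsg.ControlsStrongFusionIn p W ⊤ := by
  refine ⟨(S : Subgroup G), le_top, S.isPGroup', by rw [Subgroup.relIndex_top_right]; exact S.not_dvd_index, ?_⟩
  intro A h _ hAS hhA
  have hF : ∀ T : Subgroup G, T ≤ (S : Subgroup G) →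
      ∃ U ∈ {T : Subgroup G | Cfsg.IsWellPlaced p W (S : Subgroup G) T}, U ≤ (S : Subgroup G) ∧
      (∃ g : G, Cfsg.Agent.Helper10.rcg g T = U) ∧
      ¬ p ∣ ((S : Subgroup G) ⊓ Subgroup.normalizer (U : Set G)).relIndex (Subgroup.normalizer (U : Set G)) := by
    intro T hT
    obtain ⟨k, -, hk⟩ := Cfsg.Agent.Helper10.exists_wellPlaced (S : Subgroup G) S.isPGroup'
      S.not_dvd_index hW T hT
    exact ⟨_, hk, hk.1, ⟨k, rfl⟩, hk.2 0⟩
  have hchain := Cfsg.Agent.Helper10.alperin_chain (S : Subgroup G) S.isPGroup' _ hF A h⁻¹ hAS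
    (by
      rintro _ ⟨a, ha, rfl⟩
      have := hhA ⟨a, ha, rfl⟩
      simpa using this)
  obtain ⟨y, hy, hyA⟩ := Cfsg.Agent.Helper10.wellPlaced_chain_fusion (S : Subgroup G) S.isPGroup' hW hloc hchain
  refine ⟨y⁻¹, ⟨Subgroup.mem_top _, Subgroup.inv_mem _ hy⟩, fun a ha => ?_⟩
  have := hyA a ha
  simpa using this

end Cfsg.Agent.S1961
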