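import Mathlib
import Cfsg.Statements.S1964
import Cfsg.Agent.Lib.Helper10.WellPlaced
-- import your own Cfsg.Agent.* helpers here

set_option autoImplicit false
open Cfsg

namespace Cfsg.Agent.S1964

/-- Let p be a prime, G a finite group with Sylow p-subgroup S and W a conjugacy functor for p on G. Then the subgroups of S that are well placed in S with respect to W form a conjugation family for S in G. -/
theorem result {G : Type*} [Group G] [Finite G] {p : ℕ} [Fact p.Prime] (S : Sylow p G) (W : Subgroup G → Subgroup G) (hW : Cfsg.IsConjugacyFunctor p W) : Cfsg.IsConjugationFamily {T : Subgroup G | Cfsg.IsWellPlaced p W (S : Subgroup G) T} (S : Subgroup G) := by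
  refine ⟨fun T hT => hT.1, fun A g _ hA hAg => ?_⟩
  have hF : ∀ T : Subgroup G, T ≤ (S : Subgroup G) →
      ∃ U ∈ {T : Subgroup G | Cfsg.IsWellPlaced p W (S : Subgroup G) T}, U ≤ (S : Subgroup G) ∧
      (∃ g : G, Cfsg.Agent.Helper10.rcg g T = U) ∧
      ¬ p ∣ ((S : Subgroup G) ⊓ Subgroup.normalizer (U : Set G)).relIndex (Subgroup.normalizer (U : Set G)) := by
    intro T hT
    obtain ⟨k, -, hk⟩ := Cfsg.Agent.Helper10.exists_wellPlaced (S : Subgroup G) S.isPGroup'
      S.not_dvd_index hW T hT
    exact ⟨_, hk, hk.1, ⟨k, rfl⟩, hk.2 0⟩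
  exact (Cfsg.Agent.Helper10.alperin_chain (S : Subgroup G) S.isPGroup' _ hF A g hA hAg).toFin

end Cfsg.Agent.S1964
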