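import Mathlib
import Cfsg.Statements.S1966
-- import your own Cfsg.Agent.* helpers here

set_option autoImplicit false
open Cfsg

namespace Cfsg.Agent.S1966

/-- Let p be a prime, G a finite group with Sylow p-subgroup S and 𝓕 a conjugation family for S in G. Then the members of 𝓕 containing O_p(G) still form a conjugation family for S in G. -/
theorem result {G : Type*} [Group G] [Finite G] {p : ℕ} [Fact p.Prime] (S : Sylow p G) (𝓕 : Set (Subgroup G)) (h : Cfsg.IsConjugationFamily 𝓕 (S : Subgroup G)) : Cfsg.IsConjugationFamily {T : Subgroup G | T ∈ 𝓕 ∧ Cfsg.pCore p G ≤ T} (S : Subgroup G) := by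
  have hQn : (Cfsg.pCore p G).Normal := Subgroup.sSup_normal _ (fun _ h => h.1)
  have hQp : IsPGroup p (Cfsg.pCore p G) := Sylow.sSup_of_normal _ (fun _ h => h.2) (fun _ h => h.1)
  have hQS : Cfsg.pCore p G ≤ (S : Subgroup G) := hQp.le_sylow_of_normal S
  obtain ⟨h1, h2⟩ := h
  refine ⟨fun T hT => h1 T hT.1, fun A g hAne hAS hAg => ?_⟩
  obtain ⟨n, T, x, hprod, hTF, hxN, h0, hstep⟩ := h2 (A ∪ (Cfsg.pCore p G : Set G)) g
    (hAne.mono Set.subset_union_left) (Set.union_subset hAS hQS)
    (by
      rintro _ ⟨a, ha | ha, rfl⟩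
      · exact hAg ⟨a, ha, rfl⟩
      · apply hQS
        have := hQn.conj_mem a ha g⁻¹
        simpa using this)
  refine ⟨n, T, x, hprod, ?_, hxN, fun hn => Set.subset_union_left.trans (h0 hn),
    fun i hi => (Set.image_mono Set.subset_union_left).trans (hstep i hi)⟩
  intro i
  refine ⟨hTF i, ?_⟩
  rcases i with ⟨i, hi⟩
  cases i with
  | zero =>
    intro q hq
    exact h0 hi (Or.inr hq)
  | succ j =>
    intro q hq
    have h3 := hstep ⟨j, by omega⟩ hi
    apply h3
    refine ⟨((List.ofFn x).take (j + 1)).prod * q * (((List.ofFn x).take (j + 1)).prod)⁻¹,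
      Or.inr (hQn.conj_mem q hq _), ?_⟩
    simp only
    group

end Cfsg.Agent.S1966
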