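import Mathlib
import Cfsg.Statements.S1967
import Cfsg.Agent.Lib.Helper10.WellPlaced
-- import your own Cfsg.Agent.* helpers here

set_option autoImplicit false
open Cfsg

namespace Cfsg.Agent.S1967

/-- Let p be a prime, G a finite group with Sylow p-subgroup S and W a conjugacy functor for p on G. Then W controls strong fusion in G if and only if, whenever T ≤ S and g ∈ G satisfy gTg⁻¹ ≤ S, one can write g = n c with n ∈ N_G(W(S)) and c ∈ C_G(T). -/
theorem result {G : Type*} [Group G] [Finite G] {p : ℕ} [Fact p.Prime] (S : Sylow p G) (W : Subgroup G → Subgroup G) (hW : Cfsg.IsConjugacyFunctor p W) : Cfsg.ControlsStrongFusionIn p W ⊤ ↔ ∀ (T : Subgroup G) (g : G), T ≤ (S : Subgroup G) → T.map (MulAut.conj g).toMonoidHom ≤ (S : Subgroup G) → ∃ n ∈ Subgroup.normalizer ((W (S : Subgroup G) : Subgroup G) : Set G), ∃ c ∈ Subgroup.centralizer (T : Set G), g = n * c := by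
  constructor
  · rintro ⟨T', -, hT'p, hT'idx, hT'⟩ T g hTS hgT
    -- conjugate T' onto S
    obtain ⟨c, -, hc⟩ := Cfsg.Agent.Helper10.conj_into_relSylow (⊤ : Subgroup G) (S : Subgroup G) T' le_top
      S.isPGroup' (by rw [Subgroup.relIndex_top_right]; exact S.not_dvd_index) le_top hT'p
    have htop : Cfsg.Agent.Helper10.rcg c (⊤ : Subgroup G) = ⊤ := by
      ext y; simp [Cfsg.Agent.Helper10.mem_rcg]
    have hcS : Cfsg.Agent.Helper10.rcg c T' = (S : Subgroup G) := by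
      apply Cfsg.Agent.Helper10.eq_of_le_of_relIndex (p := p) hc le_top S.isPGroup'
      rw [← htop, Cfsg.Agent.Helper10.relIndex_rcg]; exact hT'idx
    have hmemS : ∀ y : G, y ∈ (S : Subgroup G) ↔ c * y * c⁻¹ ∈ T' := by
      intro y; rw [← hcS, Cfsg.Agent.Helper10.mem_rcg]
    obtain ⟨x, hx, hxA⟩ := hT' ((fun t => c * t * c⁻¹) '' (T : Set G)) (c * g * c⁻¹) (Subgroup.mem_top _)
      (by
        rintro _ ⟨t, ht, rfl⟩
        exact (hmemS t).mp (hTS ht))
      (by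
        rintro _ ⟨_, ⟨t, ht, rfl⟩, rfl⟩
        have h1 : g * t * g⁻¹ ∈ (S : Subgroup G) := hgT ⟨t, ht, by simp [MulAut.conj_apply]⟩
        have h2 := (hmemS _).mp h1
        have e : c * g * c⁻¹ * (c * t * c⁻¹) * (c * g * c⁻¹)⁻¹ = c * (g * t * g⁻¹) * c⁻¹ := by group
        show c * g * c⁻¹ * (c * t * c⁻¹) * (c * g * c⁻¹)⁻¹ ∈ (T' : Set G)
        rw [e]; exact h2)
    have hxN : x ∈ Subgroup.normalizer ((W T' : Subgroup G) : Set G) := hx.2
    refine ⟨c⁻¹ * x * c, ?_, (c⁻¹ * x * c)⁻¹ * g, ?_, by group⟩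
    · rw [← hcS, Cfsg.Agent.Helper10.cf_rcg hW hT'p, ← Cfsg.Agent.Helper10.rcg_normalizer,
        Cfsg.Agent.Helper10.mem_rcg]
      have e : c * (c⁻¹ * x * c) * c⁻¹ = x := by group
      rw [e]; exact hxN
    · rw [Subgroup.mem_centralizer_iff]
      intro t ht
      have h1 := hxA (c * t * c⁻¹) ⟨t, ht, rfl⟩
      have h2 : (c⁻¹ * x * c) * t * (c⁻¹ * x * c)⁻¹ = g * t * g⁻¹ := by
        have e1 : (c⁻¹ * x * c) * t * (c⁻¹ * x * c)⁻¹ = c⁻¹ * (x * (c * t * c⁻¹) * x⁻¹) * c := by group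
        rw [e1, h1]; group
      have e2 : t * ((c⁻¹ * x * c)⁻¹ * g) = (c⁻¹ * x * c)⁻¹ * ((c⁻¹ * x * c) * t * (c⁻¹ * x * c)⁻¹) * g := by
        group
      rw [e2, h2]; group
  · intro hfac
    refine ⟨(S : Subgroup G), le_top, S.isPGroup', by rw [Subgroup.relIndex_top_right]; exact S.not_dvd_index, ?_⟩
    intro A h _ hAS hhA
    have h1 : Subgroup.closure A ≤ (S : Subgroup G) := (Subgroup.closure_le _).mpr hAS
    have h2 : (Subgroup.closure A).map (MulAut.conj h).toMonoidHom ≤ (S : Subgroup G) := by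
      rw [MonoidHom.map_closure, Subgroup.closure_le]
      rintro _ ⟨a, ha, rfl⟩
      exact hhA ⟨a, ha, by simp [MulAut.conj_apply]⟩
    obtain ⟨n, hn, c, hc, hnc⟩ := hfac (Subgroup.closure A) h h1 h2
    refine ⟨n, ⟨Subgroup.mem_top _, hn⟩, ?_⟩
    intro a ha
    have h3 := (Subgroup.mem_centralizer_iff.mp hc) a (Subgroup.subset_closure ha)
    rw [hnc]
    have e : n * c * a * (n * c)⁻¹ = n * (c * a) * c⁻¹ * n⁻¹ := by group
    rw [e, ← h3]; group

end Cfsg.Agent.S1967
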