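import Mathlib
import Cfsg.Statements.S1968
import Cfsg.Agent.Lib.Helper10.Fusion
-- import your own Cfsg.Agent.* helpers here

set_option autoImplicit false
open Cfsg

namespace Cfsg.Agent.S1968
open Cfsg.Agent.Helper10 in
theorem chain_moves {G : Type*} [Group G] {𝓕 : Set (Subgroup G)} {A : Set G} {g : G}
    (hc : Chain 𝓕 A g) : ∀ A' : Subgroup G, (A' : Set G) = A → rcg g A' ≠ A' →
      ∃ T ∈ 𝓕, A' ≤ T ∧ ∃ x ∈ Subgroup.normalizer (T : Set G), rcg x A' ≠ A' := by
  induction hc with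
  | nil A =>
    intro A' _ hne
    exact absurd (rcg_one A') hne
  | cons A T x g hT hx hAT _ ih =>
    intro A' hA' hne
    by_cases hxA : rcg x A' = A'
    · apply ih A'
      · rw [← hA', ← coe_rcg, hxA]
      · rwa [rcg_mul, hxA] at hne
    · refine ⟨T, hT, ?_, x, hx, hxA⟩
      intro a ha
      apply hAT
      rw [← hA']
      exact ha

open Cfsg.Agent.Helper10 in
theorem aux1968 {G : Type*} [Group G] [Finite G] {p : ℕ} [Fact p.Prime] (S : Subgroup G)
    (hS : IsPGroup p S) (W : Subgroup G → Subgroup G) (hW : Cfsg.IsConjugacyFunctor p W)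
    (hWZ : ∀ P : Subgroup G, IsPGroup p ↥P → P ⊓ Subgroup.centralizer (P : Set G) ≤ W P)
    (A : Subgroup G) (hAZ : A ≤ S ⊓ Subgroup.centralizer (S : Set G))
    (hAN : Subgroup.normalizer ((W S : Subgroup G) : Set G) ≤ Subgroup.normalizer (A : Set G))
    (n : ℕ) : ∀ T : Subgroup G, Cfsg.IsWellPlaced p W S T → A ≤ T →
      (∃ x ∈ Subgroup.normalizer (T : Set G), rcg x A ≠ A) →
      Nat.card S - Nat.card ↥(S ⊓ Subgroup.normalizer (T : Set G)) ≤ n →
      ∃ T : Subgroup G, Cfsg.IsWellPlaced p W S T ∧ A ≤ T ∧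
        Subgroup.normalizer ((W (S ⊓ Subgroup.normalizer (T : Set G)) : Subgroup G) : Set G) ≤
          Subgroup.normalizer (A : Set G) ∧
        ∃ x ∈ Subgroup.normalizer (T : Set G), rcg x A ≠ A := by
  induction n with
  | zero =>
    intro T hT hAT hx hcard
    refine ⟨T, hT, hAT, ?_, hx⟩
    have hRS : S ⊓ Subgroup.normalizer (T : Set G) = S := by
      apply Subgroup.eq_of_le_of_card_ge inf_le_left
      omega
    rw [hRS]; exact hAN
  | succ n ih =>
    intro T hT hAT hx hcard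
    by_cases hN : Subgroup.normalizer ((W (S ⊓ Subgroup.normalizer (T : Set G)) : Subgroup G) : Set G) ≤
          Subgroup.normalizer (A : Set G)
    · exact ⟨T, hT, hAT, hN, hx⟩
    set R := S ⊓ Subgroup.normalizer (T : Set G) with hR
    have hRp : IsPGroup p R := hS.to_le inf_le_left
    by_cases hRS : R = S
    · exfalso; apply hN; rw [hRS]; exact hAN
    have hlt : R < S := lt_of_le_of_ne inf_le_left hRS
    have hnil : Group.IsNilpotent S := hS.isNilpotent
    have h1 := lt_inf_normalizer_of_lt S R hlt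
    set T₁ := W R with hT₁
    have hT₁wp : Cfsg.IsWellPlaced p W S T₁ := isWellPlaced_next hW hS hT
    have hTR : T ≤ R := le_inf hT.1 Subgroup.le_normalizer
    have hAT₁ : A ≤ T₁ := by
      refine le_trans (le_inf (hAT.trans hTR) ?_) (hWZ R hRp)
      exact (hAZ.trans inf_le_right).trans (Subgroup.centralizer_le (SetLike.coe_subset_coe.mpr inf_le_left))
    set R₁ := S ⊓ Subgroup.normalizer (T₁ : Set G) with hR₁
    have h2 : S ⊓ Subgroup.normalizer (R : Set G) ≤ R₁ := inf_le_inf_left S (cf_normalizer_le hW hRp)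
    have hRR₁ : R < R₁ := lt_of_lt_of_le h1 h2
    have hcard1 : Nat.card S - Nat.card R₁ ≤ n := by
      have := card_lt_card_of_lt hRR₁
      have h3 : Nat.card R₁ ≤ Nat.card S := Subgroup.card_le_of_le inf_le_left
      have h0 : Nat.card S - Nat.card R ≤ n + 1 := hcard
      omega
    apply ih T₁ hT₁wp hAT₁ ?_ hcard1
    obtain ⟨x, hx1, hx2⟩ := SetLike.not_le_iff_exists.mp hN
    exact ⟨x, hx1, fun h => hx2 (mem_normalizer_iff_rcg.mpr h)⟩

/-- Let p be a prime, G a finite group with Sylow p-subgroup S and W a conjugacy functor for p on G with Z(P) ≤ W(P) for every p-subgroup P. Let A be a subgroup of Z(S) normalized by N_G(W(S)) that is not weakly closed in S with respect to G. Then there is a subgroup T of S, well placed in S with respect to W, such that: A ≤ T; N_G(W(N_S(T))) normalizes A; N_S(T) is a Sylow p-subgroup of N_G(T); A ≤ Z(N_S(T)); and A is not weakly closed in N_S(T) with respect to N_G(T), that is, some N_G(T)-conjugate of A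 other than A lies in N_S(T). -/
theorem result {G : Type*} [Group G] [Finite G] {p : ℕ} [Fact p.Prime] (S : Sylow p G) (W : Subgroup G → Subgroup G) (hW : Cfsg.IsConjugacyFunctor p W) (hWZ : ∀ P : Subgroup G, IsPGroup p ↥P → P ⊓ Subgroup.centralizer (P : Set G) ≤ W P) (A : Subgroup G) (hAZ : A ≤ (S : Subgroup G) ⊓ Subgroup.centralizer ((S : Subgroup G) : Set G)) (hAN : Subgroup.normalizer ((W (S : Subgroup G) : Subgroup G) : Set G) ≤ Subgroup.normalizer ((A : Subgroup G) : Set G)) (hnwc : ¬ Cfsg.IsWeaklyClosed A (S : Subgroup G)) : ∃ T : Subgroup G, Cfsg.IsWellPlaced p W (S : Subgroup G) T ∧ A ≤ T ∧ Subgroup.normalizer ((W ((S : Subgroup G) ⊓ Subgroup.normalizer ((T : Subgroup G) : Set G)) : Subgroup G) : Set G) ≤ Subgroup.normalizer ((A : Subgroup G) : Set G) ∧ ¬ p ∣ ((S : Subgroup G) ⊓ Subgroup.normalizer ((T : Subgroup G) : Set G)).relIndex (Subgroup.normalizer ((T : Subgroup G) : Set G)) ∧ A ≤ Subgroup.centralizer (((S : Subgroup G) ⊓ Subgroup.normalizer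 ((T : Subgroup G) : Set G) : Subgroup G) : Set G) ∧ ∃ g ∈ Subgroup.normalizer ((T : Subgroup G) : Set G), A.map (MulAut.conj g).toMonoidHom ≤ (S : Subgroup G) ⊓ Subgroup.normalizer ((T : Subgroup G) : Set G) ∧ A.map (MulAut.conj g).toMonoidHom ≠ A := by
  have hF : ∀ T : Subgroup G, T ≤ (S : Subgroup G) →
      ∃ U ∈ {T : Subgroup G | Cfsg.IsWellPlaced p W (S : Subgroup G) T}, U ≤ (S : Subgroup G) ∧
      (∃ g : G, Cfsg.Agent.Helper10.rcg g T = U) ∧
      ¬ p ∣ ((S : Subgroup G) ⊓ Subgroup.normalizer (U : Set G)).relIndex (Subgroup.normalizer (U : Set G)) := by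
    intro T hT
    obtain ⟨k, -, hk⟩ := Cfsg.Agent.Helper10.exists_wellPlaced (S : Subgroup G) S.isPGroup'
      S.not_dvd_index hW T hT
    exact ⟨_, hk, hk.1, ⟨k, rfl⟩, hk.2 0⟩
  have hAS : A ≤ (S : Subgroup G) := hAZ.trans inf_le_left
  have hex : ∃ g : G, A.map (MulAut.conj g).toMonoidHom ≤ (S : Subgroup G) ∧
      A.map (MulAut.conj g).toMonoidHom ≠ A := by
    by_contra hcon
    push_neg at hcon
    exact hnwc ⟨hAS, hcon⟩
  obtain ⟨g, hg1, hg2⟩ := hex
  have hg1' : Cfsg.Agent.Helper10.rcg g⁻¹ A ≤ (S : Subgroup G) := by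
    unfold Cfsg.Agent.Helper10.rcg; rw [inv_inv]; exact hg1
  have hg2' : Cfsg.Agent.Helper10.rcg g⁻¹ A ≠ A := by
    unfold Cfsg.Agent.Helper10.rcg; rw [inv_inv]; exact hg2
  have hchain := Cfsg.Agent.Helper10.alperin_chain (S : Subgroup G) S.isPGroup' _ hF (A : Set G) g⁻¹
    (SetLike.coe_subset_coe.mpr hAS) (by rw [← Cfsg.Agent.Helper10.coe_rcg]; exact hg1')
  obtain ⟨T₀, hT₀, hAT₀, hx₀⟩ := chain_moves hchain A rfl hg2'
  obtain ⟨T, hT, hAT, hN, x, hx1, hx2⟩ := aux1968 (S : Subgroup G) S.isPGroup' W hW hWZ A hAZ hAN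
    (Nat.card (S : Subgroup G)) T₀ hT₀ hAT₀ hx₀ (Nat.sub_le _ _)
  refine ⟨T, hT, hAT, hN, hT.2 0, ?_, x⁻¹, Subgroup.inv_mem _ hx1, ?_, hx2⟩
  · exact (hAZ.trans inf_le_right).trans (Subgroup.centralizer_le (SetLike.coe_subset_coe.mpr inf_le_left))
  · show Cfsg.Agent.Helper10.rcg x A ≤ _
    have h1 : Cfsg.Agent.Helper10.rcg x A ≤ Cfsg.Agent.Helper10.rcg x T := Cfsg.Agent.Helper10.rcg_mono x hAT
    rw [Cfsg.Agent.Helper10.mem_normalizer_iff_rcg.mp hx1] at h1
    exact h1.trans (le_inf hT.1 Subgroup.le_normalizer)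

end Cfsg.Agent.S1968
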