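import Mathlib
import Cfsg.Statements.S1969
import Cfsg.Agent.Lib.Helper10.SecApply
-- import your own Cfsg.Agent.* helpers here

set_option autoImplicit false
universe u
open Cfsg

namespace Cfsg.Agent.S1969

/-- Let p be a prime, G a finite group and W an isomorphism-invariant p-group functor (W assigns to every group Q a subgroup W(Q), nontrivial whenever Q is a nontrivial finite p-group, and every isomorphism from a finite p-group Q onto a group R carries W(Q) onto W(R)). Suppose that W(S*) is normal in G* whenever G* = K/R is a section of G with C_{G*}(O_p(G*)) ≤ O_p(G*) and S* is a Sylow p-subgroup of G*. Then W controls strong fusion in every section of G: for every section K/R and every Sylow p-subgroup T of K/R, the subgroup W(T) controls strong fusion in K/R. -/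
theorem result {G : Type u} [Group G] [Finite G] {p : ℕ} [Fact p.Prime] (W : ∀ (Q : Type u) [Group Q], Subgroup Q) (hW : Cfsg.IsCharPFunctor.{u} p W) (hloc : ∀ (K R : Subgroup G) [hR : (R.subgroupOf K).Normal], Subgroup.centralizer ((Cfsg.pCore p (↥K ⧸ R.subgroupOf K) : Subgroup (↥K ⧸ R.subgroupOf K)) : Set (↥K ⧸ R.subgroupOf K)) ≤ Cfsg.pCore p (↥K ⧸ R.subgroupOf K) → ∀ T : Sylow p (↥K ⧸ R.subgroupOf K), (Cfsg.inducedFunctor (G := (↥K ⧸ R.subgroupOf K)) W ((T : Subgroup (↥K ⧸ R.subgroupOf K)))).Normal) : ∀ (K R : Subgroup G) [hR : (R.subgroupOf K).Normal], ∀ T : Sylow p (↥K ⧸ R.subgroupOf K), Cfsg.ControlsStrongFusion p (Cfsg.inducedFunctor (G := (↥K ⧸ R.subgroupOf K)) W ((T : Subgroup (↥K ⧸ R.subgroupOf K)))) := by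
  classical
  have h𝓦 : ∀ W' ∈ ({W} : Set (∀ (Q : Type u) [Group Q], Subgroup Q)), Cfsg.IsCharPFunctor.{u} p W' := by
    rintro _ rfl; exact hW
  have hloc' : ∀ (H : Type u) [Group H] [Finite H], Cfsg.Agent.Helper10.IsSec G H →
      Cfsg.Agent.Helper10.Constrained p H →
      Cfsg.FamilyControlsStrongFusionIn p (Cfsg.Agent.Helper10.indFam {W} H) ⊤ := by
    intro H _ _ hH hcon
    obtain ⟨K, R, hR, ⟨e⟩⟩ := hH.exists_equiv
    have hconQ : Cfsg.Agent.Helper10.Constrained p (↥K ⧸ R.subgroupOf K) :=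
      Cfsg.Agent.Helper10.constrained_of_equiv e hcon
    have hn := hloc K R hconQ
    have T₀ : Sylow p (↥K ⧸ R.subgroupOf K) := default
    have hQ : Cfsg.FamilyControlsStrongFusionIn p
        (Cfsg.Agent.Helper10.indFam {W} (↥K ⧸ R.subgroupOf K)) ⊤ := by
      apply Cfsg.Agent.Helper10.ncomp_to_fcs (T₀ : Subgroup (↥K ⧸ R.subgroupOf K)) le_top T₀.isPGroup'
        (by rw [Subgroup.relIndex_top_right]; exact T₀.not_dvd_index)
      intro A g _ hA hgA
      refine Cfsg.Agent.Helper10.NComp.single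
        (N := ⊤ ⊓ Subgroup.normalizer ((Cfsg.inducedFunctor (G := (↥K ⧸ R.subgroupOf K)) W
          (T₀ : Subgroup (↥K ⧸ R.subgroupOf K)) : Subgroup (↥K ⧸ R.subgroupOf K)) : Set (↥K ⧸ R.subgroupOf K)))
        ⟨_, ⟨W, rfl, rfl⟩, rfl⟩ ⟨Subgroup.mem_top _, ?_⟩ hA hgA
      rw [Subgroup.normalizer_eq_top_iff.mpr (hn T₀)]
      exact Subgroup.mem_top _
    have h1 := Cfsg.Agent.Helper10.fcs_map_injective h𝓦 e.symm.toMonoidHom e.symm.injective hQ
    have h2 : e.symm.toMonoidHom.range = ⊤ := MonoidHom.range_eq_top.mpr e.symm.surjective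
    rwa [h2] at h1
  have key := Cfsg.Agent.Helper10.sec_fusion (Cfsg.Agent.Helper10.IsSec G)
    (Cfsg.Agent.Helper10.isSec_closed G) h𝓦 ⟨W, rfl⟩ hloc'
  intro K R hR T
  have hQ := key (Nat.card (↥K ⧸ R.subgroupOf K)) (↥K ⧸ R.subgroupOf K) le_rfl
    (Cfsg.Agent.Helper10.IsSec.of_section K R)
  have h𝓦Q := Cfsg.Agent.Helper10.indFam_conj (H := (↥K ⧸ R.subgroupOf K)) h𝓦
  refine ⟨T, Cfsg.Agent.Helper10.indW_le _, fun A hA => ⟨hA, fun g hgA => ?_⟩⟩
  have hgA' : Cfsg.Agent.Helper10.rcs g⁻¹ A ⊆ ((T : Subgroup (↥K ⧸ R.subgroupOf K)) : Set (↥K ⧸ R.subgroupOf K)) := by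
    rintro _ ⟨a, ha, rfl⟩
    have := hgA ⟨a, ha, rfl⟩
    simpa using this
  obtain ⟨g', hch, hag⟩ := Cfsg.Agent.Helper10.fcs_transfer h𝓦Q hQ (T : Subgroup (↥K ⧸ R.subgroupOf K)) le_top
    T.isPGroup' (by rw [Subgroup.relIndex_top_right]; exact T.not_dvd_index) A g⁻¹
    (Subgroup.mem_top _) hA hgA'
  have hg'N : g' ∈ Subgroup.normalizer ((Cfsg.inducedFunctor (G := (↥K ⧸ R.subgroupOf K)) W
      (T : Subgroup (↥K ⧸ R.subgroupOf K)) : Subgroup (↥K ⧸ R.subgroupOf K)) : Set (↥K ⧸ R.subgroupOf K)) := by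
    apply Cfsg.Agent.Helper10.nchain_mem_of_le ?_ hch
    rintro _ ⟨_, ⟨W', hW', rfl⟩, rfl⟩
    rw [Set.mem_singleton_iff.mp hW']
    exact inf_le_right
  refine ⟨g'⁻¹, Subgroup.inv_mem _ hg'N, fun a ha => ?_⟩
  have := hag a ha
  simp only [inv_inv] at this ⊢
  exact this.symm

end Cfsg.Agent.S1969
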