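import Mathlib
import Cfsg.Statements.S1970
import Cfsg.Agent.Lib.Helper10.SecTransfer
-- import your own Cfsg.Agent.* helpers here

set_option autoImplicit false
universe u
open Cfsg

namespace Cfsg.Agent.S1970

/-- Let p be a prime, G a finite group and W an isomorphism-invariant p-group functor (W assigns to every group Q a subgroup W(Q), nontrivial whenever Q is a nontrivial finite p-group, and every isomorphism from a finite p-group Q onto a group R carries W(Q) onto W(R)). Suppose that for every section G* = K/R of G with C_{G*}(O_p(G*)) ≤ O_p(G*) and every Sylow p-subgroup S* of G*, one has O_p(G*) ∩ (G*)' = O_p(G*) ∩ (N_{G*}(W(S*)))'. Then W controls transfer in every section G* of G: S* ∩ (G*)' = S* ∩ (N_{G*}(W(S*)))' for a Sylow p-subgroup S* of G*. -/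
theorem result {G : Type u} [Group G] [Finite G] {p : ℕ} [Fact p.Prime] (W : ∀ (Q : Type u) [Group Q], Subgroup Q) (hW : Cfsg.IsCharPFunctor.{u} p W) (hloc : ∀ (K R : Subgroup G) [hR : (R.subgroupOf K).Normal], Subgroup.centralizer ((Cfsg.pCore p (↥K ⧸ R.subgroupOf K) : Subgroup (↥K ⧸ R.subgroupOf K)) : Set (↥K ⧸ R.subgroupOf K)) ≤ Cfsg.pCore p (↥K ⧸ R.subgroupOf K) → ∀ T : Sylow p (↥K ⧸ R.subgroupOf K), Cfsg.pCore p (↥K ⧸ R.subgroupOf K) ⊓ commutator (↥K ⧸ R.subgroupOf K) = Cfsg.pCore p (↥K ⧸ R.subgroupOf K) ⊓ ⁅Subgroup.normalizer ((Cfsg.inducedFunctor (G := (↥K ⧸ R.subgroupOf K)) W ((T : Subgroup (↥K ⧸ R.subgroupOf K))) : Subgroup (↥K ⧸ R.subgroupOf K)) : Set (↥K ⧸ R.subgroupOf K)), Subgroup.normalizer ((Cfsg.inducedFunctor (G := (↥K ⧸ R.subgroupOf K)) W ((T : Subgroup (↥K ⧸ R.subgroupOf K))) : Subgroup (↥K ⧸ R.subgroupOf K)) : Set (↥K ⧸ R.subgroupOf K))⁆) : ∀ (K R : Subgroup G) [hR : (R.subgroupOf K).Normal], Cfsg.ControlsTransferIn p (Cfsg.inducedFunctor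 (G := (↥K ⧸ R.subgroupOf K)) W) ⊤ := by
  have h𝓦 : ∀ W' ∈ ({W} : Set (∀ (Q : Type u) [Group Q], Subgroup Q)), IsCharPFunctor.{u} p W' := by
    rintro _ rfl; exact hW
  have hyp : ∀ (H : Type u) [Group H] [Finite H], Cfsg.Agent.Helper10.IsSec G H →
      Cfsg.Agent.Helper10.Constrained p H →
      ∀ T : Subgroup H, IsPGroup p T → ¬ p ∣ T.index →
      pCore p H ⊓ ⁅(⊤ : Subgroup H), ⊤⁆ ≤
        ⁅Subgroup.normalizer ((inducedFunctor (G := H) W T : Subgroup H) : Set H),
          Subgroup.normalizer ((inducedFunctor (G := H) W T : Subgroup H) : Set H)⁆ := by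
    intro H _ _ hH hcon T hTp hTidx
    obtain ⟨K, R, hR, ⟨e⟩⟩ := hH.exists_equiv
    have hconQ : Cfsg.Agent.Helper10.Constrained p (↥K ⧸ R.subgroupOf K) :=
      Cfsg.Agent.Helper10.constrained_of_equiv e hcon
    have hT'p : IsPGroup p (T.map e.toMonoidHom) := hTp.map _
    have hT'idx : ¬ p ∣ (T.map e.toMonoidHom).index := by
      have := Subgroup.index_map_of_bijective (f := e.toMonoidHom) e.bijective T
      rw [this]
      exact hTidx
    have h1 := hloc K R hconQ (hT'p.toSylow hT'idx)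
    rw [IsPGroup.toSylow_coe] at h1
    rintro x ⟨hxP, hxG⟩
    have h2 : e x ∈ pCore p (↥K ⧸ R.subgroupOf K) ⊓ commutator (↥K ⧸ R.subgroupOf K) := by
      constructor
      · rw [← Cfsg.Agent.Helper10.pCore_map_equiv e]; exact Subgroup.mem_map_of_mem _ hxP
      · rw [commutator_def, ← Subgroup.map_top_of_surjective e.toMonoidHom e.surjective,
          ← Subgroup.map_commutator]
        exact Subgroup.mem_map_of_mem _ hxG
    rw [h1] at h2
    have h3 := h2.2
    rw [Cfsg.Agent.Helper10.indW_map hW e.toMonoidHom T hTp e.injective.injOn,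
      ← Subgroup.map_equiv_normalizer_eq, ← Subgroup.map_commutator] at h3
    obtain ⟨n, hn, hne⟩ := h3
    have : n = x := e.injective hne
    rw [← this]; exact hn
  have key := Cfsg.Agent.Helper10.sec_transfer (p := p) (Cfsg.Agent.Helper10.IsSec G)
    (Cfsg.Agent.Helper10.isSec_closed G) h𝓦 ⟨W, rfl⟩
    (fun H _ _ hH hcon hsub hquot => by
      have T₀ : Sylow p H := default
      apply Cfsg.Agent.Helper10.constrained_case_t h𝓦 ⟨W, rfl⟩ hcon hsub hquot (T₀ : Subgroup H)
        T₀.isPGroup' T₀.not_dvd_index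
      refine le_trans ?_ (Cfsg.Agent.Helper10.ft_top (T₀ : Subgroup H)
        (Cfsg.Agent.Helper10.indFam {W} H) (inducedFunctor (G := H) W) ⟨W, rfl, rfl⟩)
      have hPS := Cfsg.Agent.Helper10.pCore_le_sylow (T₀ : Subgroup H) T₀.isPGroup' T₀.not_dvd_index
      exact le_inf (inf_le_left.trans hPS) (hyp H hH hcon _ T₀.isPGroup' T₀.not_dvd_index))
  intro K R hR
  exact Cfsg.Agent.Helper10.ct_of_fct_singleton
    (key _ (↥K ⧸ R.subgroupOf K) le_rfl (Cfsg.Agent.Helper10.IsSec.of_section K R))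

end Cfsg.Agent.S1970
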