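import Mathlib
import Cfsg.Statements.S1972
import Cfsg.Agent.Lib.Helper10.MinFail
import Cfsg.Agent.Lib.Helper10.SecChief
-- import your own Cfsg.Agent.* helpers here

set_option autoImplicit false
universe u
open Cfsg

namespace Cfsg.Agent.S1972

/-- Let p be a prime, G a finite group and W an isomorphism-invariant p-group functor (W assigns to every group Q a subgroup W(Q), nontrivial whenever Q is a nontrivial finite p-group, and every isomorphism from a finite p-group Q onto a group R carries W(Q) onto W(R)). Suppose that whenever G* = K/R is a section of G with C_{G*}(O_p(G*)) ≤ O_p(G*) and S* is a Sylow p-subgroup of G* with W(S*) not normal in G*, there is an element g of S* outside O_p(G*) such that [X, g, …, g] ≤ Y with p − 1 entries g, for every chief factor X/Y of G* with X ≤ O_p(G*). Then W controls transfer in every section of G. -/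
theorem result {G : Type u} [Group G] [Finite G] {p : ℕ} [Fact p.Prime] (W : ∀ (Q : Type u) [Group Q], Subgroup Q) (hW : Cfsg.IsCharPFunctor.{u} p W) (hloc : ∀ (K R : Subgroup G) [hR : (R.subgroupOf K).Normal], Subgroup.centralizer ((Cfsg.pCore p (↥K ⧸ R.subgroupOf K) : Subgroup (↥K ⧸ R.subgroupOf K)) : Set (↥K ⧸ R.subgroupOf K)) ≤ Cfsg.pCore p (↥K ⧸ R.subgroupOf K) → ∀ T : Sylow p (↥K ⧸ R.subgroupOf K), ¬ (Cfsg.inducedFunctor (G := (↥K ⧸ R.subgroupOf K)) W ((T : Subgroup (↥K ⧸ R.subgroupOf K)))).Normal → ∃ g : (↥K ⧸ R.subgroupOf K), g ∈ (T : Subgroup (↥K ⧸ R.subgroupOf K)) ∧ g ∉ Cfsg.pCore p (↥K ⧸ R.subgroupOf K) ∧ ∀ U V : Subgroup (↥K ⧸ R.subgroupOf K), Cfsg.IsChiefFactor U V → U ≤ Cfsg.pCore p (↥K ⧸ R.subgroupOf K) → Cfsg.iterCommutator U (Subgroup.zpowers g) (p - 1) ≤ V) : ∀ (K R : Subgroup G) [hR : (R.subgroupOf K).Normal], Cfsg.ControlsTransferIn p (Cfsg.inducedFunctor (G := (↥K ⧸ R.subgroupOf K)) W) ⊤ := by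
  have h𝓦 : ∀ W' ∈ ({W} : Set (∀ (Q : Type u) [Group Q], Subgroup Q)), IsCharPFunctor.{u} p W' := by
    rintro _ rfl; exact hW
  have hyp : ∀ (H : Type u) [Group H] [Finite H], Cfsg.Agent.Helper10.IsSec G H →
      Cfsg.Agent.Helper10.Constrained p H →
      ∀ S : Subgroup H, IsPGroup p S → ¬ p ∣ S.index →
      ¬ (inducedFunctor (G := H) W S).Normal →
      ∃ g ∈ S, g ∉ pCore p H ∧ ∀ U V : Subgroup H, IsChiefFactor U V → U ≤ pCore p H →
        iterCommutator U (Subgroup.zpowers g) (p - 1) ≤ V := by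
    intro H _ _ hH hcon S hSp hSidx hnn
    obtain ⟨K, R, hR, ⟨e⟩⟩ := hH.exists_equiv
    have hconQ : Cfsg.Agent.Helper10.Constrained p (↥K ⧸ R.subgroupOf K) :=
      Cfsg.Agent.Helper10.constrained_of_equiv e hcon
    have hT'p : IsPGroup p (S.map e.toMonoidHom) := hSp.map _
    have hT'idx : ¬ p ∣ (S.map e.toMonoidHom).index := by
      have := Subgroup.index_map_of_bijective (f := e.toMonoidHom) e.bijective S
      rw [this]
      exact hSidx
    have hmapW : inducedFunctor W (S.map e.toMonoidHom) = (inducedFunctor W S).map e.toMonoidHom :=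
      Cfsg.Agent.Helper10.indW_map hW e.toMonoidHom S hSp e.injective.injOn
    have hnn' : ¬ (inducedFunctor (G := (↥K ⧸ R.subgroupOf K)) W
        ((hT'p.toSylow hT'idx : Sylow p (↥K ⧸ R.subgroupOf K)) :
          Subgroup (↥K ⧸ R.subgroupOf K))).Normal := by
      rw [IsPGroup.toSylow_coe, hmapW]
      intro hn
      apply hnn
      have := Subgroup.Normal.comap hn e.toMonoidHom
      rwa [Subgroup.comap_map_eq_self_of_injective e.injective] at this
    obtain ⟨g', hg'T, hg'P, hg'⟩ := hloc K R hconQ (hT'p.toSylow hT'idx) hnn'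
    rw [IsPGroup.toSylow_coe] at hg'T
    obtain ⟨g, hgS, rfl⟩ := hg'T
    refine ⟨g, hgS, ?_, ?_⟩
    · intro hgP
      apply hg'P
      rw [← Cfsg.Agent.Helper10.pCore_map_equiv e]
      exact Subgroup.mem_map_of_mem _ hgP
    · intro U V hUV hUP
      apply Cfsg.Agent.Helper10.iterCommutator_le_of_map_equiv e U V g (p - 1)
      apply hg' _ _ (Cfsg.Agent.Helper10.isChiefFactor_map_equiv e hUV)
      rw [← Cfsg.Agent.Helper10.pCore_map_equiv e]
      exact Subgroup.map_mono hUP
  have key := Cfsg.Agent.Helper10.sec_transfer (p := p) (Cfsg.Agent.Helper10.IsSec G)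
    (Cfsg.Agent.Helper10.isSec_closed G) h𝓦 ⟨W, rfl⟩
    (fun H _ _ hH hcon hsub hquot => by
      by_contra hG
      have T₀ : Sylow p H := default
      have hSp : IsPGroup p (T₀ : Subgroup H) := T₀.isPGroup'
      have hidx : ¬ p ∣ (T₀ : Subgroup H).index := T₀.not_dvd_index
      by_cases hn : (inducedFunctor (G := H) W (T₀ : Subgroup H)).Normal
      · apply hG
        apply Cfsg.Agent.Helper10.fct_of_le_famD _ (T₀ : Subgroup H) hSp hidx
        have htop := Cfsg.Agent.Helper10.ft_top (T₀ : Subgroup H)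
          (Cfsg.Agent.Helper10.indFam {W} H) (inducedFunctor (G := H) W) ⟨W, rfl, rfl⟩
        rw [Subgroup.normalizer_eq_top_iff.mpr hn] at htop
        exact htop
      · obtain ⟨g, hgS, hgP, hg⟩ := hyp H hH hcon (T₀ : Subgroup H) hSp hidx hn
        obtain ⟨U, V, hUV, hUP, hnot⟩ := Cfsg.Agent.Helper10.mf_bad h𝓦 ⟨W, rfl⟩ hsub hquot hG
          (T₀ : Subgroup H) hSp hidx g hgS hgP
        exact hnot (hg U V hUV hUP))
  intro K R hR
  exact Cfsg.Agent.Helper10.ct_of_fct_singleton
    (key _ (↥K ⧸ R.subgroupOf K) le_rfl (Cfsg.Agent.Helper10.IsSec.of_section K R))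

end Cfsg.Agent.S1972
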