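import Cfsg.Statements.S1983
import Cfsg.Agent.Lib.Helper10.KC3
import Cfsg.Agent.Lib.Helper10.KC4
-- import your own Cfsg.Agent.* helpers here

set_option autoImplicit false
universe u
open Cfsg

namespace Cfsg.Agent.S1983

open Cfsg.Agent.Helper10 in
/-- Let p be a prime, G a finite group with Sylow p-subgroup S and T = O_p(G). Suppose that the lower or the upper K-infinity subgroup of S is not normal in G. Then there is an element g of S outside T such that [X, g, g, g, g] ≤ Y for every chief factor X/Y of G with X ≤ T, and [Z(T), g, g] = 1; and if moreover C_G(T) ≤ T then some quotient group of G is not p-stable (in the normalizer form: some quadratically acting element of a normalizer fails to map into O_p of the automizer). -/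
theorem result {G : Type u} [Group G] [Finite G] {p : ℕ} [Fact p.Prime] (S : Sylow p G) (hK : ¬ (Cfsg.inducedFunctor Cfsg.kInfLower (S : Subgroup G)).Normal ∨ ¬ (Cfsg.inducedFunctor Cfsg.kInfUpper (S : Subgroup G)).Normal) : ∃ g : G, g ∈ (S : Subgroup G) ∧ g ∉ (Cfsg.pCore p G) ∧ (∀ U V : Subgroup G, Cfsg.IsChiefFactor U V → U ≤ (Cfsg.pCore p G) → Cfsg.iterCommutator U (Subgroup.zpowers g) 4 ≤ V) ∧ ⁅⁅((Cfsg.pCore p G) ⊓ Subgroup.centralizer (((Cfsg.pCore p G) : Subgroup G) : Set G)), (Subgroup.zpowers g)⁆, (Subgroup.zpowers g)⁆ = ⊥ ∧ (Subgroup.centralizer (((Cfsg.pCore p G) : Subgroup G) : Set G) ≤ (Cfsg.pCore p G) → ∃ (N : Subgroup G) (_ : N.Normal), ¬ Cfsg.IsNormalizerPStable p (G ⧸ N)) := by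
  have hTn : (pCore p G).Normal := Cfsg.Agent.Helper10.pCore_normal p
  have hTp : IsPGroup p (pCore p G) := pCore_isPGroup p
  obtain ⟨A, hAn, hAT, hA2, hA3, hA4⟩ := exists_critical_normal (pCore p G) hTp
  have hZT : zOf A ≤ pCore p G := inf_le_left.trans hAT
  have hnil := exists_iterCommutator_eq_bot (pCore p G) (zOf A) hTp hZT
  have hZZ : pCore p G ⊓ Subgroup.centralizer ((pCore p G : Subgroup G) : Set G) ≤ zOf A :=
    (inf_le_inf_left _ (Subgroup.centralizer_le (by exact_mod_cast hAT))).trans hA4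
  by_cases hcon : Subgroup.centralizer (((pCore p G) : Subgroup G) : Set G) ≤ pCore p G
  · obtain ⟨g, hgS, hgT, h3, h2, U, V, hUV, hUA, hq, hn⟩ :=
      kcore S A hAT hA2 hA3 hA4 hcon hK
    refine ⟨g, hgS, hgT, four_step (pCore p G) A hAT hA3 hA4 hnil g h3 h2, ?_, ?_⟩
    · rw [eq_bot_iff, ← h2]
      exact Subgroup.commutator_mono (Subgroup.commutator_mono hZZ le_rfl) le_rfl
    · intro _
      have hVn : V.Normal := hUV.2.2.1
      exact ⟨V, hVn, not_stable_of_chief hUV (hTp.to_le (hUA.trans hAT)) g hq hn⟩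
  · obtain ⟨g, hgS, hgT, h3, h2⟩ := kweak S A hAT hA2 hA3 hK
    refine ⟨g, hgS, hgT, four_step (pCore p G) A hAT hA3 hA4 hnil g h3 h2, ?_,
      fun h => absurd h hcon⟩
    rw [eq_bot_iff, ← h2]
    exact Subgroup.commutator_mono (Subgroup.commutator_mono hZZ le_rfl) le_rfl

end Cfsg.Agent.S1983
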