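import Mathlib
import Cfsg.Statements.S2795
import Cfsg.Agent.Lib.Helper1.QdNotStable
-- import your own Cfsg.Agent.* helpers here

set_option autoImplicit false
open Cfsg

namespace Cfsg.Agent.S2795

/-- For an odd prime p and a finite group G, the group Qd(p) is not involved in G if and only if every section of G is p-stable in the normalizer form (for every p-subgroup P of the section and every g in its normalizer acting quadratically on P, the image of g in N(P)/C(P) lies in O_p(N(P)/C(P))). -/
theorem result {G : Type*} [Group G] [Finite G] {p : ℕ} [Fact p.Prime] (hp : p ≠ 2) : ¬ Cfsg.Involves ↥(Cfsg.qd p) G ↔ ∀ (K R : Subgroup G) [hR : (R.subgroupOf K).Normal], Cfsg.IsNormalizerPStable p (K ⧸ R.subgroupOf K) := by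
  constructor
  · intro hG K R hR P hP g hg hq
    have hfree : Cfsg.Agent.Helper4.QDF.QdFree p G :=
      Cfsg.Agent.Helper4.QDF.qdfree_iff.mpr hG
    have hX : Cfsg.Agent.Helper4.QDF.QdFree p (K ⧸ R.subgroupOf K) :=
      (hfree.subgroup K).quotient (R.subgroupOf K)
    exact Cfsg.Agent.Helper1.ZJF.normalizer_stable_qd hp P hP (hX.subgroup _) g hg hq
  · intro h hinv
    obtain ⟨K, R, hR, ⟨e⟩⟩ := hinv
    haveI := hR
    let e' : (K ⧸ R.subgroupOf K) ≃* ↥(Cfsg.Agent.S2761.affSubgroup (ZMod p)) :=
      e.trans (MulEquiv.subgroupCongr (Cfsg.Agent.S2761.qd_eq p))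
    exact Cfsg.Agent.Helper1.ZJF.not_normalizerPStable_of_equiv (p := p) e' (h K R)

end Cfsg.Agent.S2795
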