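import Mathlib
import Cfsg.Statements.S1988
import Cfsg.Agent.Lib.Helper10.KStab7
import Cfsg.Agent.Lib.Helper10.KStab10
import Cfsg.Agent.Lib.Helper10.GTSecInd
import Cfsg.Agent.Lib.Helper10.ControlNPC
import Cfsg.Agent.Lib.Helper10.StrucStable
import Cfsg.Agent.Lib.Helper10.WellPlaced
-- import your own Cfsg.Agent.* helpers here

set_option autoImplicit false
universe u
open Cfsg

namespace Cfsg.Agent.S1988

/-- Let p be an odd prime, G a finite group with Sylow p-subgroup S and K the lower K-infinity subgroup of S. If N_G(K) has a normal p-complement, or if N_G(K)/C_G(K) is a p-group (every element of N_G(K) of order prime to p centralizes K), then G has a normal p-complement. -/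
theorem result {G : Type u} [Group G] [Finite G] {p : ℕ} [Fact p.Prime] (hp : p ≠ 2) (S : Sylow p G) (h : Cfsg.HasNormalPComplement p ↥(Subgroup.normalizer ((Cfsg.inducedFunctor Cfsg.kInfLower (S : Subgroup G) : Subgroup G) : Set G)) ∨ ∀ g ∈ Subgroup.normalizer ((Cfsg.inducedFunctor Cfsg.kInfLower (S : Subgroup G) : Subgroup G) : Set G), (orderOf g).Coprime p → g ∈ Subgroup.centralizer ((Cfsg.inducedFunctor Cfsg.kInfLower (S : Subgroup G) : Subgroup G) : Set G)) : Cfsg.HasNormalPComplement p G := by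
  have hW := Cfsg.Agent.Helper10.isCharPFunctor_kInfLower.{u} p
  have hN : Cfsg.Agent.Helper10.NPC p ↥(Subgroup.normalizer
      ((Cfsg.inducedFunctor Cfsg.kInfLower (S : Subgroup G) : Subgroup G) : Set G)) := by
    rcases h with h | h
    · exact Cfsg.Agent.Helper10.npc_of_hasNormalPComplement h
    · apply Cfsg.Agent.Helper10.npc_normalizer_of_pprime_centralize S _
        (Cfsg.Agent.Helper10.cf_le_normalizer
          (Cfsg.Agent.Helper10.isConjugacyFunctor_indW hW) S.2) ?_ h
      rintro x ⟨hxS, hxC⟩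
      have h1 := (Cfsg.Agent.S1978.result (p := p) (P := ↥(S : Subgroup G)) S.2).1
      have h2 : (⟨x, hxS⟩ : ↥(S : Subgroup G)) ∈
          Subgroup.centralizer (Cfsg.kInfLower ↥(S : Subgroup G) : Set ↥(S : Subgroup G)) := by
        rw [Subgroup.mem_centralizer_iff]
        intro y hy
        apply Subtype.ext
        have := Subgroup.mem_centralizer_iff.mp hxC (y : G) ⟨y, hy, rfl⟩
        simpa using this
      exact ⟨⟨x, hxS⟩, h1 h2, rfl⟩
  apply Cfsg.Agent.Helper10.NPC.hasNormalPComplement
  apply Cfsg.Agent.Helper10.GTS.npc_of_sec hW ?_ S hN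
  intro X _ _ hX P hP hnot ms
  obtain ⟨M, st⟩ := ms.hstruc
  have hfree : Cfsg.Agent.Helper4.SLF.SL2Free p X := Cfsg.Agent.Helper10.sl2free_of_struc hp st
  have hn := (Cfsg.Agent.Helper10.kinf_normal_of_stab ms.hcent
    (Cfsg.Agent.Helper10.ambStab_of_sl2free hp hfree) P).1
  apply hnot
  have htop : Subgroup.normalizer ((Cfsg.inducedFunctor (G := X) Cfsg.kInfLower (P : Subgroup X) :
      Subgroup X) : Set X) = ⊤ := Subgroup.normalizer_eq_top_iff.mpr hn
  rw [htop] at hP
  exact Cfsg.Agent.Helper4.NPCB.npc_top_iff.mp hP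

end Cfsg.Agent.S1988
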