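import Mathlib
import Cfsg.Statements.S1989
import Cfsg.Agent.Lib.Helper10.KStab7
import Cfsg.Agent.Lib.Helper10.KStab8
import Cfsg.Agent.Lib.Helper10.KStab9
import Cfsg.Agent.Lib.Helper10.KInfQd
-- import your own Cfsg.Agent.* helpers here

set_option autoImplicit false
universe u
open Cfsg

namespace Cfsg.Agent.S1989

/-- Let p be an odd prime and G a finite group. Then Qd(p) (the natural semidirect product of an elementary abelian group of order p² by SL₂(p)) is not involved in G if and only if, in every section K/R of G and for every Sylow p-subgroup T of K/R, the lower K-infinity subgroup of T controls strong fusion in K/R. -/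
theorem result {G : Type u} [Group G] [Finite G] {p : ℕ} [Fact p.Prime] (hp : p ≠ 2) : ¬ Cfsg.Involves ↥(Cfsg.qd p) G ↔ ∀ (K R : Subgroup G) [hR : (R.subgroupOf K).Normal], ∀ T : Sylow p (↥K ⧸ R.subgroupOf K), Cfsg.ControlsStrongFusion p (Cfsg.inducedFunctor (G := (↥K ⧸ R.subgroupOf K)) Cfsg.kInfLower (T : Subgroup (↥K ⧸ R.subgroupOf K))) := by
  have hW := Cfsg.Agent.Helper10.isCharPFunctor_kInfLower.{u} p
  constructor
  · intro hG K R hR T
    have hfree : Cfsg.Agent.Helper4.QDF.QdFree p G :=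
      Cfsg.Agent.Helper4.QDF.qdfree_iff.mpr hG
    have hX : Cfsg.Agent.Helper4.QDF.QdFree p (↥K ⧸ R.subgroupOf K) :=
      (hfree.subgroup K).quotient (R.subgroupOf K)
    have h := Cfsg.Agent.Helper10.single_fcs (fun (Q : Type u) [Group Q] => kInfLower Q)
      (fun (H : Type u) [Group H] => Cfsg.Agent.Helper4.QDF.QdFree p H)
      (Cfsg.Agent.Helper1.ZJF.secClosed_qdfree p) hW
      (fun H _ _ hH hc T =>
        (Cfsg.Agent.Helper10.kinf_normal_of_stab hc
          (Cfsg.Agent.Helper10.ambStab_of_qdfree hp hH) T).1) (↥K ⧸ R.subgroupOf K) hX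
    exact Cfsg.Agent.Helper10.controlsStrongFusion_of_fcs_single _ hW h T
  · intro h hinv
    obtain ⟨K, R, hR, ⟨e⟩⟩ := hinv
    haveI := hR
    let e' : (↥K ⧸ R.subgroupOf K) ≃* ↥(Cfsg.Agent.S2761.affSubgroup (ZMod p)) :=
      e.trans (MulEquiv.subgroupCongr (Cfsg.Agent.S2761.qd_eq p))
    have T : Sylow p (↥K ⧸ R.subgroupOf K) := default
    exact (Cfsg.Agent.Helper10.not_controls_kinf_of_equiv e' T).1 (h K R T)

end Cfsg.Agent.S1989
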