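import Mathlib
import Cfsg.Statements.S1990
import Cfsg.Agent.Lib.Helper10.GTSecInd
import Cfsg.Agent.Lib.Helper10.ControlNPC
import Cfsg.Agent.Lib.Helper10.StrucStable
-- import your own Cfsg.Agent.* helpers here

set_option autoImplicit false
universe u
open Cfsg

namespace Cfsg.Agent.S1990

/-- Let p be an odd prime, G a finite group with Sylow p-subgroup S, and W an isomorphism-invariant p-group functor (W assigns to every group Q a subgroup W(Q), nontrivial whenever Q is a nontrivial finite p-group, and every isomorphism from a finite p-group Q onto a group R carries W(Q) onto W(R)). Suppose N_G(W(S)) has a normal p-complement, and W(T) controls strong fusion in every section G* = K/R of G all of whose sections are p-stable in the normalizer form, for every Sylow p-subgroup T of G*. Then G has a normal p-complement. -/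
theorem result {G : Type u} [Group G] [Finite G] {p : ℕ} [Fact p.Prime] (hp : p ≠ 2) (W : ∀ (Q : Type u) [Group Q], Subgroup Q) (hW : Cfsg.IsCharPFunctor.{u} p W) (S : Sylow p G) (hN : Cfsg.HasNormalPComplement p ↥(Subgroup.normalizer ((Cfsg.inducedFunctor (G := G) W (S : Subgroup G) : Subgroup G) : Set G))) (hctl : ∀ (K R : Subgroup G) [hR : (R.subgroupOf K).Normal], (∀ (K' R' : Subgroup (↥K ⧸ R.subgroupOf K)) [hR' : (R'.subgroupOf K').Normal], Cfsg.IsNormalizerPStable p (↥K' ⧸ R'.subgroupOf K')) → ∀ T : Sylow p (↥K ⧸ R.subgroupOf K), Cfsg.ControlsStrongFusion p (Cfsg.inducedFunctor (G := (↥K ⧸ R.subgroupOf K)) W (T : Subgroup (↥K ⧸ R.subgroupOf K)))) : Cfsg.HasNormalPComplement p G := by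
  apply Cfsg.Agent.Helper10.NPC.hasNormalPComplement
  apply Cfsg.Agent.Helper10.GTS.npc_of_sec hW ?_ S
    (Cfsg.Agent.Helper10.npc_of_hasNormalPComplement hN)
  intro X _ _ hX P hP hnot ms
  obtain ⟨M, st⟩ := ms.hstruc
  have hfree : Cfsg.Agent.Helper4.SLF.SL2Free p X := Cfsg.Agent.Helper10.sl2free_of_struc hp st
  obtain ⟨K, R, hR, ⟨e⟩⟩ := hX.exists_equiv
  have hfreeQ : Cfsg.Agent.Helper4.SLF.SL2Free p (↥K ⧸ R.subgroupOf K) := fun h =>
    hfree (Cfsg.Agent.Helper4.SLF.Inv.of_injective e.symm.toMonoidHom e.symm.injective h)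
  have hst : ∀ (K' R' : Subgroup (↥K ⧸ R.subgroupOf K)) [hR' : (R'.subgroupOf K').Normal],
      Cfsg.IsNormalizerPStable p (↥K' ⧸ R'.subgroupOf K') := by
    intro K' R' hR'
    exact Cfsg.Agent.Helper10.isNormalizerPStable_of_sl2free hp
      ((hfreeQ.subgroup K').quotient _)
  have hPp : IsPGroup p ((P : Subgroup X).map e.toMonoidHom) := P.2.map _
  have hidx : ¬ p ∣ ((P : Subgroup X).map e.toMonoidHom).index := by
    have := Subgroup.index_map_of_bijective (f := e.toMonoidHom) e.bijective (P : Subgroup X)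
    rw [this]
    exact P.not_dvd_index
  obtain ⟨T', hUT', hctl'⟩ := hctl K R hst (hPp.toSylow hidx)
  rw [IsPGroup.toSylow_coe] at hUT' hctl'
  have hNQ : Cfsg.Agent.Helper10.NPC p ↥(Subgroup.normalizer
      ((Cfsg.inducedFunctor (G := (↥K ⧸ R.subgroupOf K)) W
        ((P : Subgroup X).map e.toMonoidHom) : Subgroup (↥K ⧸ R.subgroupOf K)) :
          Set (↥K ⧸ R.subgroupOf K))) := by
    rw [Cfsg.Agent.Helper10.indW_map hW e.toMonoidHom (P : Subgroup X) P.2 e.injective.injOn,
      ← Subgroup.map_equiv_normalizer_eq]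
    exact Cfsg.Agent.Helper4.NPCB.npc_of_surjective (e.toMonoidHom.subgroupMap _)
      (e.toMonoidHom.subgroupMap_surjective _) hP
  have hfinal := Cfsg.Agent.Helper10.npc_of_controls T' _ hUT' hctl' hNQ
  exact hnot (Cfsg.Agent.Helper4.NPCB.npc_of_mulEquiv e.symm hfinal)

end Cfsg.Agent.S1990
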