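import Mathlib
import Cfsg.Statements.S1992
import Mathlib
import Cfsg.Agent.S1991
import Cfsg.Agent.S0144
import Cfsg.Agent.Lib.Helper10.IndexP
-- import your own Cfsg.Agent.* helpers here

set_option autoImplicit false
open Cfsg

namespace Cfsg.Agent.S1992

theorem isPGroup_of_normal_index_prime {G : Type*} [Group G] [Finite G] (q : ℕ) (hq : q.Prime)
    (M : Subgroup G) [hM : M.Normal] (hi : M.index = q)
    (h : ∀ r : ℕ, r.Prime → r ∣ Nat.card G → ∀ R : Sylow r G,
      Subgroup.normalizer ((R : Subgroup G) : Set G) = R) : IsPGroup q G := by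
  by_contra hnot
  have hex : ∃ r : ℕ, r.Prime ∧ r ∣ Nat.card G ∧ r ≠ q := by
    by_contra hno
    push Not at hno
    apply hnot
    haveI : Fact q.Prime := ⟨hq⟩
    have := Nat.eq_prime_pow_of_unique_prime_dvd (n := Nat.card G) (p := q) Nat.card_pos.ne'
      (fun {d} hd hdvd => hno d hd hdvd)
    exact IsPGroup.of_card this
  obtain ⟨r, hr, hrdvd, hrq⟩ := hex
  haveI : Fact r.Prime := ⟨hr⟩
  have R : Sylow r G := default
  have hRM : (R : Subgroup G) ≤ M := by
    intro x hx
    rw [← QuotientGroup.eq_one_iff (N := M)]
    have hcard : Nat.card (G ⧸ M) = q := by rw [← Subgroup.index_eq_card, hi]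
    have h1 : ((x : G) : G ⧸ M) ^ q = 1 := by rw [← hcard]; exact pow_card_eq_one'
    obtain ⟨k, hk⟩ := (R.isPGroup' ⟨x, hx⟩)
    have h2 : ((x : G) : G ⧸ M) ^ (r ^ k) = 1 := by
      have : x ^ (r ^ k) = 1 := by
        have := congrArg Subtype.val hk
        simpa using this
      rw [← QuotientGroup.mk_pow, this]
      rfl
    have hcop : Nat.Coprime q (r ^ k) :=
      Nat.Coprime.pow_right k ((Nat.coprime_primes hq hr).mpr (Ne.symm hrq))
    have h3 := pow_gcd_eq_one.mpr ⟨h1, h2⟩
    rw [hcop.gcd_eq_one, pow_one] at h3
    exact h3
  have h4 := R.normalizer_sup_eq_top' hRM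
  have h5 := h r hr hrdvd R
  rw [Sylow.coe_coe] at h5
  rw [h5, sup_of_le_right hRM] at h4
  rw [h4, Subgroup.index_top] at hi
  exact hq.one_lt.ne hi

/-- Let G be a finite group in which, for every prime q dividing the order of G, every Sylow q-subgroup is its own normalizer. Then the order of G is a power of a single prime (G is a q-group for some prime q; for G trivial any prime works). -/
theorem result {G : Type*} [Group G] [Finite G] (h : ∀ q : ℕ, q.Prime → q ∣ Nat.card G → ∀ Q : Sylow q G, Subgroup.normalizer ((Q : Subgroup G) : Set G) = Q) : ∃ q : ℕ, q.Prime ∧ IsPGroup q G := by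
  by_cases htriv : Nat.card G = 1
  · refine ⟨2, Nat.prime_two, ?_⟩
    haveI : Fact (Nat.Prime 2) := ⟨Nat.prime_two⟩
    exact IsPGroup.of_card (n := 0) (by rw [htriv, pow_zero])
  have hmain : ∃ (q : ℕ) (_ : q.Prime) (M : Subgroup G), M.Normal ∧ M.index = q := by
    by_cases hbig : ∃ q : ℕ, q.Prime ∧ q ∣ Nat.card G ∧ 5 ≤ q
    · obtain ⟨q, hq, hqd, hq5⟩ := hbig
      haveI : Fact q.Prime := ⟨hq⟩
      have S : Sylow q G := default
      have hSne : (S : Subgroup G) ≠ ⊥ := by
        intro hb
        have h1 := S.card_eq_multiplicity
        rw [hb, Subgroup.card_bot] at h1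
        have h2 : 0 < (Nat.card G).factorization q :=
          hq.factorization_pos_of_dvd Nat.card_pos.ne' hqd
        have h3 : 1 < q ^ (Nat.card G).factorization q :=
          Nat.one_lt_pow h2.ne' hq.one_lt
        omega
      obtain ⟨M, hMn, hMi⟩ := Cfsg.Agent.S1991.result hq5 S hSne (by
        intro g hg hcop
        rw [h q hq hqd S] at hg
        obtain ⟨k, hk⟩ := (S.isPGroup' ⟨g, hg⟩)
        have h1 : g ^ (q ^ k) = 1 := by
          have := congrArg Subtype.val hk
          simpa using this
        have h2 : orderOf g ∣ q ^ k := orderOf_dvd_of_pow_eq_one h1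
        have h3 : orderOf g = 1 :=
          Nat.Coprime.eq_one_of_dvd (Nat.Coprime.pow_right k hcop) h2
        rw [orderOf_eq_one_iff] at h3
        rw [h3]
        exact Subgroup.one_mem _)
      exact ⟨q, hq, M, hMn, hMi⟩
    · push Not at hbig
      have hsolv : Group.IsSolvable G := by
        have hcard : Nat.card G = 2 ^ (Nat.card G).factorization 2 *
            3 ^ (Nat.card G).factorization 3 := by
          have hne : Nat.card G ≠ 0 := Nat.card_pos.ne'
          apply Nat.eq_of_factorization_eq hne (by positivity)
          intro r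
          rw [Nat.factorization_mul (by positivity) (by positivity),
            Nat.Prime.factorization_pow Nat.prime_two, Nat.Prime.factorization_pow Nat.prime_three]
          simp only [Finsupp.coe_add, Pi.add_apply, Finsupp.single_apply]
          by_cases h2 : r = 2
          · subst h2; simp
          · by_cases h3 : r = 3
            · subst h3; simp
            · have h0 : (Nat.card G).factorization r = 0 := by
                by_cases hr : r.Prime
                · apply Nat.factorization_eq_zero_of_not_dvd
                  intro hrd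
                  have h5 := hbig r hr hrd
                  have h6 := hr.two_le
                  interval_cases r
                  · exact h2 rfl
                  · exact h3 rfl
                  · exact absurd hr (by norm_num)
                · exact Nat.factorization_eq_zero_of_not_prime _ hr
              rw [h0, if_neg (Ne.symm h2), if_neg (Ne.symm h3)]
              rfl
        exact Cfsg.Agent.S0144.result 2 3 _ _ Nat.prime_two Nat.prime_three hcard
      haveI : Nontrivial G := by
        rw [← Finite.one_lt_card_iff_nontrivial]
        have := Nat.card_pos (α := G)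
        omega
      have hlt : _root_.commutator G < ⊤ := Group.IsSolvable.commutator_lt_top_of_nontrivial G
      have hab : Nat.card (Abelianization G) ≠ 1 := by
        intro h1
        have h2 : (_root_.commutator G).index = 1 := by
          rw [Subgroup.index_eq_card]; exact h1
        exact hlt.ne (Subgroup.index_eq_one.mp h2)
      obtain ⟨q, hq, hqd⟩ := Nat.exists_prime_and_dvd hab
      haveI : Fact q.Prime := ⟨hq⟩
      obtain ⟨M, hMn, hMi⟩ := Cfsg.Agent.Helper10.exists_normal_index_p_of_surjective (p := q)
        (Abelianization.of (G := G)) (QuotientGroup.mk'_surjective _)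
        (Cfsg.Agent.Helper10.exists_index_p_of_comm hqd)
      exact ⟨q, hq, M, hMn, hMi⟩
  obtain ⟨q, hq, M, hMn, hMi⟩ := hmain
  exact ⟨q, hq, isPGroup_of_normal_index_prime q hq M hMi h⟩

end Cfsg.Agent.S1992
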