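import Mathlib
import Cfsg.Statements.S1993
import Cfsg.Agent.Lib.Helper10.KStab7
import Cfsg.Agent.Lib.Helper10.KStab8
import Cfsg.Agent.Lib.Helper10.KStab9
import Cfsg.Agent.Lib.Helper10.KInfTransfer
import Cfsg.Agent.S2795
-- import your own Cfsg.Agent.* helpers here

set_option autoImplicit false
universe u
open Cfsg

namespace Cfsg.Agent.S1993

/-- Let p be a prime, G a finite group with Sylow p-subgroup S, and K the upper K-infinity subgroup of S. If p ≥ 5 then S ∩ G' = S ∩ (N_G(K))'; and if p is odd and every section of G is p-stable in the normalizer form, then K controls strong fusion in G. -/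
theorem result {G : Type u} [Group G] [Finite G] {p : ℕ} [Fact p.Prime] (S : Sylow p G) : (5 ≤ p → (S : Subgroup G) ⊓ commutator G = (S : Subgroup G) ⊓ ⁅Subgroup.normalizer ((Cfsg.inducedFunctor Cfsg.kInfUpper (S : Subgroup G) : Subgroup G) : Set G), Subgroup.normalizer ((Cfsg.inducedFunctor Cfsg.kInfUpper (S : Subgroup G) : Subgroup G) : Set G)⁆) ∧ (p ≠ 2 → (∀ (K R : Subgroup G) [hR : (R.subgroupOf K).Normal], Cfsg.IsNormalizerPStable p (↥K ⧸ R.subgroupOf K)) → Cfsg.ControlsStrongFusion p (Cfsg.inducedFunctor Cfsg.kInfUpper (S : Subgroup G))) := by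
  have hW := Cfsg.Agent.Helper10.isCharPFunctor_kInfUpper.{u} p
  refine ⟨fun hp5 => ?_, fun hp hst => ?_⟩
  · exact Cfsg.Agent.Helper10.fct_singleton_sylow hW
      (Cfsg.Agent.Helper10.kinfUpper_fct hp5 G) (S : Subgroup G) S.isPGroup' S.not_dvd_index
  · have hfree : Cfsg.Agent.Helper4.QDF.QdFree p G :=
      Cfsg.Agent.Helper4.QDF.qdfree_iff.mpr ((Cfsg.Agent.S2795.result hp).mpr hst)
    have h := Cfsg.Agent.Helper10.single_fcs (fun (Q : Type u) [Group Q] => kInfUpper Q)
      (fun (H : Type u) [Group H] => Cfsg.Agent.Helper4.QDF.QdFree p H)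
      (Cfsg.Agent.Helper1.ZJF.secClosed_qdfree p) hW
      (fun H _ _ hH hc T =>
        (Cfsg.Agent.Helper10.kinf_normal_of_stab hc
          (Cfsg.Agent.Helper10.ambStab_of_qdfree hp hH) T).2) G hfree
    exact Cfsg.Agent.Helper10.controlsStrongFusion_of_fcs_single _ hW h S

end Cfsg.Agent.S1993
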