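import Mathlib
import Cfsg.Statements.S1996
import Cfsg.Agent.Lib.Helper10.SecApply
-- import your own Cfsg.Agent.* helpers here

set_option autoImplicit false
universe u
open Cfsg

namespace Cfsg.Agent.S1996

/-- Let p be a prime, G a finite group and W₁, W₂ two isomorphism-invariant p-group functors (W assigns to every group Q a subgroup W(Q), nontrivial whenever Q is a nontrivial finite p-group, and every isomorphism from a finite p-group Q onto a group R carries W(Q) onto W(R)). Suppose that G* = N_{G*}(W₁(S*)) N_{G*}(W₂(S*)) whenever G* = K/R is a section of G with C_{G*}(O_p(G*)) ≤ O_p(G*) and S* is a Sylow p-subgroup of G*. Then the pair {W₁, W₂} controls strong fusion in G. -/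
theorem result {G : Type u} [Group G] [Finite G] {p : ℕ} [Fact p.Prime] (W₁ W₂ : ∀ (Q : Type u) [Group Q], Subgroup Q) (hW₁ : Cfsg.IsCharPFunctor.{u} p W₁) (hW₂ : Cfsg.IsCharPFunctor.{u} p W₂) (hfac : ∀ (K R : Subgroup G) [hR : (R.subgroupOf K).Normal], Subgroup.centralizer ((Cfsg.pCore p (↥K ⧸ R.subgroupOf K) : Subgroup (↥K ⧸ R.subgroupOf K)) : Set (↥K ⧸ R.subgroupOf K)) ≤ Cfsg.pCore p (↥K ⧸ R.subgroupOf K) → ∀ T : Sylow p (↥K ⧸ R.subgroupOf K), ∀ x : (↥K ⧸ R.subgroupOf K), ∃ a ∈ Subgroup.normalizer ((Cfsg.inducedFunctor (G := (↥K ⧸ R.subgroupOf K)) W₁ (T : Subgroup (↥K ⧸ R.subgroupOf K)) : Subgroup (↥K ⧸ R.subgroupOf K)) : Set (↥K ⧸ R.subgroupOf K)), ∃ b ∈ Subgroup.normalizer ((Cfsg.inducedFunctor (G := (↥K ⧸ R.subgroupOf K)) W₂ (T : Subgroup (↥K ⧸ R.subgroupOf K)) : Subgroup (↥K ⧸ R.subgroupOf K)) : Set (↥K ⧸ R.subgroupOf K)), x = a * b) : Cfsg.FamilyControlsStrongFusionIn p {Cfsg.inducedFunctor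 (G := G) W₁, Cfsg.inducedFunctor (G := G) W₂} ⊤ := by
  classical
  have h𝓦 : ∀ W' ∈ ({W₁, W₂} : Set (∀ (Q : Type u) [Group Q], Subgroup Q)), Cfsg.IsCharPFunctor.{u} p W' := by
    rintro W' hW'
    rcases hW' with rfl | hW'
    · exact hW₁
    · rw [Set.mem_singleton_iff.mp hW']; exact hW₂
  have hloc' : ∀ (H : Type u) [Group H] [Finite H], Cfsg.Agent.Helper10.IsSec G H →
      Cfsg.Agent.Helper10.Constrained p H →
      Cfsg.FamilyControlsStrongFusionIn p (Cfsg.Agent.Helper10.indFam {W₁, W₂} H) ⊤ := by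
    intro H _ _ hH hcon
    obtain ⟨K, R, hR, ⟨e⟩⟩ := hH.exists_equiv
    have hconQ : Cfsg.Agent.Helper10.Constrained p (↥K ⧸ R.subgroupOf K) :=
      Cfsg.Agent.Helper10.constrained_of_equiv e hcon
    have hn := hfac K R hconQ
    have T₀ : Sylow p (↥K ⧸ R.subgroupOf K) := default
    have hT₀p := T₀.isPGroup'
    have hc₁ := Cfsg.Agent.Helper10.isConjugacyFunctor_indW (H := (↥K ⧸ R.subgroupOf K)) hW₁
    have hc₂ := Cfsg.Agent.Helper10.isConjugacyFunctor_indW (H := (↥K ⧸ R.subgroupOf K)) hW₂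
    have hQ : Cfsg.FamilyControlsStrongFusionIn p
        (Cfsg.Agent.Helper10.indFam {W₁, W₂} (↥K ⧸ R.subgroupOf K)) ⊤ := by
      apply Cfsg.Agent.Helper10.ncomp_to_fcs (T₀ : Subgroup (↥K ⧸ R.subgroupOf K)) le_top hT₀p
        (by rw [Subgroup.relIndex_top_right]; exact T₀.not_dvd_index)
      intro A g _ hA hgA
      obtain ⟨a, ha, b, hb, hgab⟩ := hn T₀ g
      set N₁ := Subgroup.normalizer ((Cfsg.inducedFunctor (G := (↥K ⧸ R.subgroupOf K)) W₁
          (T₀ : Subgroup (↥K ⧸ R.subgroupOf K)) : Subgroup (↥K ⧸ R.subgroupOf K)) : Set (↥K ⧸ R.subgroupOf K)) with hN₁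
      set N₂ := Subgroup.normalizer ((Cfsg.inducedFunctor (G := (↥K ⧸ R.subgroupOf K)) W₂
          (T₀ : Subgroup (↥K ⧸ R.subgroupOf K)) : Subgroup (↥K ⧸ R.subgroupOf K)) : Set (↥K ⧸ R.subgroupOf K)) with hN₂
      have hT₁ : (T₀ : Subgroup (↥K ⧸ R.subgroupOf K)) ≤ N₁ := Cfsg.Agent.Helper10.cf_le_normalizer hc₁ hT₀p
      have hT₂ : (T₀ : Subgroup (↥K ⧸ R.subgroupOf K)) ≤ N₂ := Cfsg.Agent.Helper10.cf_le_normalizer hc₂ hT₀p
      have hclA : Subgroup.closure A ≤ (T₀ : Subgroup (↥K ⧸ R.subgroupOf K)) := (Subgroup.closure_le _).mpr hA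
      have hclgA : Cfsg.Agent.Helper10.rcg g (Subgroup.closure A) ≤ (T₀ : Subgroup (↥K ⧸ R.subgroupOf K)) :=
        Cfsg.Agent.Helper10.closure_rcg_le hgA
      set B := Cfsg.Agent.Helper10.rcg a (Subgroup.closure A) with hB
      have hB₁ : B ≤ N₁ := by
        have := Cfsg.Agent.Helper10.rcg_mono a (hclA.trans hT₁)
        rwa [Cfsg.Agent.Helper10.rcg_self_of_mem ha] at this
      have hB₂ : B ≤ N₂ := by
        have h3 : Cfsg.Agent.Helper10.rcg b B ≤ N₂ := by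
          rw [hB, ← Cfsg.Agent.Helper10.rcg_mul, ← hgab]; exact hclgA.trans hT₂
        rw [Cfsg.Agent.Helper10.rcg_le_iff, Cfsg.Agent.Helper10.rcg_self_of_mem (N₂.inv_mem hb)] at h3
        exact h3
      have hTD : (T₀ : Subgroup (↥K ⧸ R.subgroupOf K)) ≤ N₁ ⊓ N₂ := le_inf hT₁ hT₂
      have hrelD : ¬ p ∣ (T₀ : Subgroup (↥K ⧸ R.subgroupOf K)).relIndex (N₁ ⊓ N₂) :=
        fun hd => T₀.not_dvd_index (hd.trans (Subgroup.relIndex_dvd_index_of_le hTD))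
      obtain ⟨d, hd, hdB⟩ := Cfsg.Agent.Helper10.conj_into_relSylow (N₁ ⊓ N₂)
        (T₀ : Subgroup (↥K ⧸ R.subgroupOf K)) B hTD hT₀p hrelD (le_inf hB₁ hB₂)
        (Cfsg.Agent.Helper10.isPGroup_rcg a (hT₀p.to_le hclA))
      have had : Cfsg.Agent.Helper10.rcs (a * d) A ⊆ ((T₀ : Subgroup (↥K ⧸ R.subgroupOf K)) : Set (↥K ⧸ R.subgroupOf K)) := by
        have h4 : Cfsg.Agent.Helper10.rcg (a * d) (Subgroup.closure A) ≤ (T₀ : Subgroup (↥K ⧸ R.subgroupOf K)) := by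
          rw [Cfsg.Agent.Helper10.rcg_mul]; exact hdB
        intro z hz
        apply h4
        rw [← SetLike.mem_coe, Cfsg.Agent.Helper10.coe_rcg]
        exact Cfsg.Agent.Helper10.rcs_mono _ Subgroup.subset_closure hz
      have g1 : Cfsg.Agent.Helper10.NComp (Cfsg.Agent.Helper10.stepFamily
          (Cfsg.Agent.Helper10.indFam {W₁, W₂} (↥K ⧸ R.subgroupOf K)) ⊤ (T₀ : Subgroup (↥K ⧸ R.subgroupOf K)))
          (T₀ : Subgroup (↥K ⧸ R.subgroupOf K)) A (a * d) :=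
        Cfsg.Agent.Helper10.NComp.single (N := ⊤ ⊓ N₁) ⟨_, ⟨W₁, Set.mem_insert _ _, rfl⟩, rfl⟩
          ⟨Subgroup.mem_top _, N₁.mul_mem ha hd.1⟩ hA had
      have hfin : Cfsg.Agent.Helper10.rcs (d⁻¹ * b) (Cfsg.Agent.Helper10.rcs (a * d) A) ⊆
          ((T₀ : Subgroup (↥K ⧸ R.subgroupOf K)) : Set (↥K ⧸ R.subgroupOf K)) := by
        rw [← Cfsg.Agent.Helper10.rcs_mul]
        have e : a * d * (d⁻¹ * b) = g := by rw [hgab]; group
        rw [e]; exact hgA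
      have g2 : Cfsg.Agent.Helper10.NComp (Cfsg.Agent.Helper10.stepFamily
          (Cfsg.Agent.Helper10.indFam {W₁, W₂} (↥K ⧸ R.subgroupOf K)) ⊤ (T₀ : Subgroup (↥K ⧸ R.subgroupOf K)))
          (T₀ : Subgroup (↥K ⧸ R.subgroupOf K)) (Cfsg.Agent.Helper10.rcs (a * d) A) (d⁻¹ * b) :=
        Cfsg.Agent.Helper10.NComp.single (N := ⊤ ⊓ N₂)
          ⟨_, ⟨W₂, Set.mem_insert_of_mem _ (Set.mem_singleton _), rfl⟩, rfl⟩
          ⟨Subgroup.mem_top _, N₂.mul_mem (N₂.inv_mem hd.2) hb⟩ had hfin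
      have g3 := g1.trans g2
      have e : a * d * (d⁻¹ * b) = g := by rw [hgab]; group
      rwa [e] at g3
    have h1 := Cfsg.Agent.Helper10.fcs_map_injective h𝓦 e.symm.toMonoidHom e.symm.injective hQ
    have h2 : e.symm.toMonoidHom.range = ⊤ := MonoidHom.range_eq_top.mpr e.symm.surjective
    rwa [h2] at h1
  have key := Cfsg.Agent.Helper10.sec_fusion (Cfsg.Agent.Helper10.IsSec G)
    (Cfsg.Agent.Helper10.isSec_closed G) h𝓦 ⟨W₁, Set.mem_insert _ _⟩ hloc'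
  have hG := key (Nat.card G) G le_rfl (Cfsg.Agent.Helper10.IsSec.refl G)
  have e : Cfsg.Agent.Helper10.indFam {W₁, W₂} G =
      {Cfsg.inducedFunctor (G := G) W₁, Cfsg.inducedFunctor (G := G) W₂} := by
    unfold Cfsg.Agent.Helper10.indFam
    rw [Set.image_pair]
  rwa [e] at hG

end Cfsg.Agent.S1996
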