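import Mathlib
import Cfsg.Statements.S1998
import Cfsg.Agent.Lib.Helper10.MinFail
-- import your own Cfsg.Agent.* helpers here

set_option autoImplicit false
universe u
open Cfsg

namespace Cfsg.Agent.S1998

theorem fct_of_surj_section {G : Type u} [Group G] [Finite G] {p : ℕ} [Fact p.Prime]
    {𝓦 : Set (∀ (Q : Type u) [Group Q], Subgroup Q)} (h𝓦 : ∀ W ∈ 𝓦, Cfsg.IsCharPFunctor.{u} p W)
    {H : Type u} [Group H] (K R : Subgroup G) [hR : (R.subgroupOf K).Normal]
    (f : ↥K →* H) (hf : Function.Surjective f) (hker : f.ker = R.subgroupOf K)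
    (h : Cfsg.FamilyControlsTransferIn p (Cfsg.Agent.Helper10.indFam 𝓦 (↥K ⧸ R.subgroupOf K)) ⊤) :
    Cfsg.FamilyControlsTransferIn p (Cfsg.Agent.Helper10.indFam 𝓦 H) ⊤ :=
  Cfsg.Agent.Helper10.fct_of_equiv h𝓦
    ((QuotientGroup.quotientKerEquivOfSurjective f hf).symm.trans
      (QuotientGroup.quotientMulEquivOfEq hker)) h

/-- Let p be a prime, G a finite group with Sylow p-subgroup S, and 𝓦 a nonempty set of isomorphism-invariant p-group functors (W assigns to every group Q a subgroup W(Q), nontrivial whenever Q is a nontrivial finite p-group, and every isomorphism from a finite p-group Q onto a group R carries W(Q) onto W(R)). Suppose the induced conjugacy functors control transfer in every section of G other than G itself, but not in G. Let T be the subgroup generated by the S ∩ (N_G(W(S)))', W ∈ 𝓦, and M = N_G(T ∩ O_p(G)). Then: C_G(O_p(G)) ≤ O_p(G); M is a proper subgroup of G containing every proper subgroup of G that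 contains S (the unique maximal subgroup over S); [O_p(G), M] ≤ O_p(G) ∩ M' ≤ O_p(G) ∩ T; and every element u of S outside O_p(G) satisfies [X, u, …, u] ≰ Y with p − 1 entries u, for some chief factor X/Y of G with X ≤ O_p(G). -/
theorem result {G : Type u} [Group G] [Finite G] {p : ℕ} [Fact p.Prime] (S : Sylow p G) (𝓦 : Set (∀ (Q : Type u) [Group Q], Subgroup Q)) (h𝓦 : ∀ W ∈ 𝓦, Cfsg.IsCharPFunctor.{u} p W) (hne : 𝓦.Nonempty) (hsec : ∀ (K R : Subgroup G) [hR : (R.subgroupOf K).Normal], (K = ⊤ → R ≠ ⊥) → Cfsg.FamilyControlsTransferIn p ((fun W => Cfsg.inducedFunctor (G := (↥K ⧸ R.subgroupOf K)) W) '' 𝓦) ⊤) (hG : ¬ Cfsg.FamilyControlsTransferIn p ((fun W => Cfsg.inducedFunctor (G := G) W) '' 𝓦) ⊤) (T M : Subgroup G) (hT : T = (⨆ W ∈ 𝓦, (S : Subgroup G) ⊓ ⁅Subgroup.normalizer ((Cfsg.inducedFunctor (G := G) W (S : Subgroup G) : Subgroup G) : Set G), Subgroup.normalizer ((Cfsg.inducedFunctor (G := G) W (S : Subgroup G) : Subgroup G)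 : Set G)⁆)) (hM : M = Subgroup.normalizer ((T ⊓ Cfsg.pCore p G : Subgroup G) : Set G)) : Subgroup.centralizer ((Cfsg.pCore p G : Subgroup G) : Set G) ≤ Cfsg.pCore p G ∧ (M ≠ ⊤ ∧ ∀ H : Subgroup G, (S : Subgroup G) ≤ H → H ≠ ⊤ → H ≤ M) ∧ (⁅Cfsg.pCore p G, M⁆ ≤ Cfsg.pCore p G ⊓ ⁅M, M⁆ ∧ Cfsg.pCore p G ⊓ ⁅M, M⁆ ≤ Cfsg.pCore p G ⊓ T) ∧ ∀ u : G, u ∈ (S : Subgroup G) → u ∉ Cfsg.pCore p G → ∃ U V : Subgroup G, Cfsg.IsChiefFactor U V ∧ U ≤ Cfsg.pCore p G ∧ ¬ Cfsg.iterCommutator U (Subgroup.zpowers u) (p - 1) ≤ V := by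
  have hSp : IsPGroup p (S : Subgroup G) := S.isPGroup'
  have hidx : ¬ p ∣ (S : Subgroup G).index := S.not_dvd_index
  have hsub : ∀ L : Subgroup G, L ≠ ⊤ →
      Cfsg.FamilyControlsTransferIn p (Cfsg.Agent.Helper10.indFam 𝓦 G) L := by
    intro L hL
    have h1 := hsec L ⊥ (fun h => absurd h hL)
    have h2 : Cfsg.FamilyControlsTransferIn p (Cfsg.Agent.Helper10.indFam 𝓦 ↥L) ⊤ := by
      apply fct_of_surj_section h𝓦 L ⊥ (MonoidHom.id ↥L) Function.surjective_id ?_ h1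
      ext x
      simp [Subgroup.mem_subgroupOf, MonoidHom.mem_ker]
    have h4 := Cfsg.Agent.Helper10.fct_map_injective h𝓦 L.subtype L.subtype_injective h2
    rwa [Subgroup.range_subtype] at h4
  have hquot : ∀ (N : Subgroup G) [N.Normal], N ≠ ⊥ →
      Cfsg.FamilyControlsTransferIn p (Cfsg.Agent.Helper10.indFam 𝓦 (G ⧸ N)) ⊤ := by
    intro N _ hN
    have h1 := hsec ⊤ N (fun _ => hN)
    apply fct_of_surj_section h𝓦 ⊤ N ((QuotientGroup.mk' N).comp (⊤ : Subgroup G).subtype) ?_ ?_ h1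
    · intro q
      obtain ⟨g, rfl⟩ := QuotientGroup.mk'_surjective N q
      exact ⟨⟨g, Subgroup.mem_top g⟩, rfl⟩
    · ext x
      simp [Subgroup.mem_subgroupOf, MonoidHom.mem_ker]
  have hTeq : T = Cfsg.Agent.Helper10.famD (Cfsg.Agent.Helper10.indFam 𝓦 G) (S : Subgroup G) := by
    rw [hT]
    unfold Cfsg.Agent.Helper10.famD Cfsg.Agent.Helper10.indFam
    rw [iSup_image]
    simp only [top_inf_eq]
  have hMeq : M = Subgroup.normalizer ((Cfsg.Agent.Helper10.famD (Cfsg.Agent.Helper10.indFam 𝓦 G)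
      (S : Subgroup G) ⊓ pCore p G : Subgroup G) : Set G) := by
    rw [hM, hTeq]
  have hSne : (S : Subgroup G) ≠ ⊤ := by
    intro h
    apply Cfsg.Agent.Helper10.mf_not_le h𝓦 hne hG (S : Subgroup G) hSp hidx
    rw [h]
    haveI : (⊤ : Subgroup G).Normal := inferInstance
    apply Cfsg.Agent.Helper10.le_pCore' inferInstance
    intro g
    obtain ⟨k, hk⟩ := hSp ⟨(g : G), by rw [h]; exact Subgroup.mem_top _⟩
    refine ⟨k, ?_⟩
    apply Subtype.ext
    have := congrArg Subtype.val hk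
    simpa using this
  have hle : ∀ H : Subgroup G, (S : Subgroup G) ≤ H → H ≠ ⊤ → H ≤ M := by
    intro H hSH hH
    rw [hMeq]
    exact Cfsg.Agent.Helper10.mf_le_M h𝓦 hsub (S : Subgroup G) hSp hidx H hSH hH
  have hMne : M ≠ ⊤ := by
    rw [hMeq]
    exact Cfsg.Agent.Helper10.mf_M_ne_top h𝓦 hne hsub hquot hG (S : Subgroup G) hSp hidx
  have hSM : (S : Subgroup G) ≤ M := hle _ le_rfl hSne
  have hPS : pCore p G ≤ (S : Subgroup G) := Cfsg.Agent.Helper10.pCore_le_sylow _ hSp hidx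
  haveI hPn : (pCore p G).Normal := Cfsg.Agent.Helper10.pCore_normal p
  refine ⟨Cfsg.Agent.Helper10.mf_constrained h𝓦 hne hsub hquot hG, ⟨hMne, hle⟩, ⟨?_, ?_⟩, ?_⟩
  · apply le_inf
    · exact Subgroup.commutator_le_left _ _
    · exact Subgroup.commutator_mono (hPS.trans hSM) le_rfl
  · apply le_inf inf_le_left
    rw [hTeq]
    refine le_trans ?_ (Cfsg.Agent.Helper10.mf_sub_le h𝓦 hsub (S : Subgroup G) hSp hidx M hSM hMne)
    exact inf_le_inf_right _ hPS
  · intro u huS huP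
    exact Cfsg.Agent.Helper10.mf_bad h𝓦 hne hsub hquot hG (S : Subgroup G) hSp hidx u huS huP

end Cfsg.Agent.S1998
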