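import Mathlib
import Cfsg.Statements.S2003
import Cfsg.Agent.Lib.Helper10.ChainHom
-- import your own Cfsg.Agent.* helpers here

set_option autoImplicit false
open Cfsg

namespace Cfsg.Agent.S2003

/-- Let p be a prime, G a finite group, P a normal p-subgroup of G and Q a critical subgroup of P: a characteristic subgroup with Q/Z(Q) elementary abelian, [P, Q] ≤ Z(Q), C_P(Q) = Z(Q), and such that every automorphism of P of order prime to p fixing Q elementwise is trivial. Let g ∈ G and i, j ≥ 1, and suppose that [X, g, …, g] ≤ Y with i entries g for every chief factor X/Y of G with X ≤ Q, and with j entries g for every chief factor X/Y of G with X ≤ Z(Q). Then [X, g, …, g] ≤ Y with i + j − 1 entries g for every chief factor X/Y of G with X ≤ P. -/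
theorem result {G : Type*} [Group G] [Finite G] {p : ℕ} [Fact p.Prime] (P : Subgroup G) [P.Normal] (hP : IsPGroup p ↥P) (Q : Subgroup G) (hQP : Q ≤ P) (hQchar : (Q.subgroupOf P).Characteristic) (hQ1 : ∀ a ∈ Q, a ^ p ∈ Q ⊓ Subgroup.centralizer ((Q : Subgroup G) : Set G)) (hQ2 : ⁅Q, Q⁆ ≤ Subgroup.centralizer ((Q : Subgroup G) : Set G)) (hQ3 : ⁅P, Q⁆ ≤ Q ⊓ Subgroup.centralizer ((Q : Subgroup G) : Set G)) (hQ4 : P ⊓ Subgroup.centralizer ((Q : Subgroup G) : Set G) = Q ⊓ Subgroup.centralizer ((Q : Subgroup G) : Set G)) (hQ5 : ∀ φ : MulAut ↥P, (orderOf φ).Coprime p → (∀ a : ↥P, (a : G) ∈ Q → φ a = a) → φ = 1) (g : G) (i j : ℕ) (hi : 1 ≤ i) (hj : 1 ≤ j) (hQi : ∀ U V : Subgroup G, Cfsg.IsChiefFactor U V → U ≤ Q → Cfsg.iterCommutator U (Subgroup.zpowers g) i ≤ V) (hZj : ∀ U V : Subgroup G, Cfsg.IsChiefFactor U V → U ≤ Q ⊓ Subgroup.centralizer ((Q : Subgroup G) : Set G) → Cfsg.iterCommutator U (Subgroup.zpowers g) j ≤ V) : ∀ U V : Subgroup G, Cfsg.IsChiefFactor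 U V → U ≤ P → Cfsg.iterCommutator U (Subgroup.zpowers g) (i + j - 1) ≤ V := by
  classical
  have hQn : Q.Normal := by
    have hc := hQchar
    have h1 : ((Q.subgroupOf P).map P.subtype).Normal := ConjAct.normal_of_characteristic_of_normal
    rwa [Subgroup.map_subgroupOf_eq_of_le hQP] at h1
  have hZn : (Cfsg.Agent.Helper10.zOf Q).Normal := Cfsg.Agent.Helper10.zOf_normal_of_normal Q
  have hZP : Cfsg.Agent.Helper10.zOf Q ≤ P := inf_le_left.trans hQP
  have cQ : Cfsg.Agent.Helper10.NilChain (Subgroup.zpowers g) P i Q ⊥ :=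
    Cfsg.Agent.Helper10.exists_nilChain (Subgroup.zpowers g) P hP i ⊥ Q hQn bot_le hQP hQi
  have cZ : Cfsg.Agent.Helper10.NilChain (Subgroup.zpowers g) P j (Cfsg.Agent.Helper10.zOf Q) ⊥ :=
    Cfsg.Agent.Helper10.exists_nilChain (Subgroup.zpowers g) P hP j ⊥ _ hZn bot_le hZP hZj
  have c := Cfsg.Agent.Helper10.nilChain_hom g P P i j Q hQP cQ _ ⊥ cZ P inferInstance hZn le_rfl
    hZP hQ3
  have hle : P ⊓ Cfsg.Agent.Helper10.commNormSubgroup ⊥ Q ≤
      Q ⊓ Subgroup.centralizer ((Q : Subgroup G) : Set G) := by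
    rw [← hQ4]
    rintro x ⟨hxP, hx⟩
    refine ⟨hxP, ?_⟩
    show x ∈ Subgroup.centralizer ((Q : Subgroup G) : Set G)
    rw [Subgroup.mem_centralizer_iff]
    intro q hq
    have h1 := hx.2 q hq
    rw [Subgroup.mem_bot] at h1
    exact (commutatorElement_eq_one_iff_mul_comm.mp h1).symm
  refine c.localize ?_
  intro U V hUV hU
  have hVn := hUV.2.2.1
  exact Cfsg.Agent.Helper10.iterCommutator_le_of_le (by omega) (hZj U V hUV (hU.trans hle))

end Cfsg.Agent.S2003
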