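import Mathlib
import Cfsg.Statements.S2004
import Cfsg.Agent.Lib.Helper4.SL2Free
import Cfsg.Agent.Lib.Helper15.SylowIn

set_option autoImplicit false
open Cfsg

namespace Cfsg.Agent.S2004

open Cfsg.Agent.Helper4.SLF

/-- a surjection of a finite group onto a `p`-group maps every Sylow `p`-subgroup onto it -/
theorem sylow_map_eq_top {L X : Type*} [Group L] [Group X] [Finite L] {p : ℕ} [Fact p.Prime]
    (f : L →* X) (hf : Function.Surjective f) (hX : IsPGroup p X) (P : Sylow p L) :
    (P : Subgroup L).map f = ⊤ := by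
  haveI : Finite X := Finite.of_surjective f hf
  have h1 : ((P : Subgroup L).map f).index ∣ (P : Subgroup L).index :=
    Subgroup.index_map_dvd (P : Subgroup L) hf
  have h2 : ¬ p ∣ (P : Subgroup L).index := P.not_dvd_index
  obtain ⟨k, hk⟩ := IsPGroup.iff_card.mp hX
  have h3 : ((P : Subgroup L).map f).index ∣ p ^ k := by
    rw [← hk]; exact Subgroup.index_dvd_card _
  obtain ⟨j, _, hj⟩ := (Nat.dvd_prime_pow (Fact.out : p.Prime)).mp h3
  rw [← Subgroup.index_eq_one]
  rcases Nat.eq_zero_or_pos j with h0 | h0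
  · rw [hj, h0, pow_zero]
  · exfalso
    apply h2
    refine dvd_trans ?_ h1
    rw [hj]
    exact dvd_pow_self p h0.ne'

/-- lifting a `p`-subgroup of a quotient together with its normalizer -/
theorem exists_lift {L X : Type*} [Group L] [Group X] [Finite L] {p : ℕ} [Fact p.Prime]
    (φ : L →* X) (hφ : Function.Surjective φ) (Q : Subgroup X) (hQ : IsPGroup p Q) :
    ∃ P : Subgroup L, IsPGroup p P ∧ P.map φ = Q ∧
      (Subgroup.normalizer (P : Set L)).map φ = Subgroup.normalizer (Q : Set X) := by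
  classical
  obtain ⟨S⟩ : Nonempty (Sylow p ↥(Q.comap φ)) := inferInstance
  have hsurj : Function.Surjective (φ.subgroupComap Q) :=
    φ.subgroupComap_surjective_of_surjective Q hφ
  have htop := sylow_map_eq_top (φ.subgroupComap Q) hsurj hQ S
  set P : Subgroup L := (S : Subgroup ↥(Q.comap φ)).map (Q.comap φ).subtype with hPdef
  have hPQs : P ≤ Q.comap φ := Subgroup.map_subtype_le _
  have hPp : IsPGroup p P := S.isPGroup'.map _
  have hPmap : P.map φ = Q := by
    apply le_antisymm
    · rintro _ ⟨x, hx, rfl⟩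
      exact hPQs hx
    · intro y hy
      have : (⟨y, hy⟩ : ↥Q) ∈ (S : Subgroup ↥(Q.comap φ)).map (φ.subgroupComap Q) := by
        rw [htop]; trivial
      obtain ⟨s, hs, hsy⟩ := this
      refine ⟨(s : L), ⟨s, hs, rfl⟩, ?_⟩
      exact congrArg Subtype.val hsy
  refine ⟨P, hPp, hPmap, ?_⟩
  apply le_antisymm
  · rw [← hPmap]
    exact Subgroup.le_normalizer_map φ
  · intro y hy
    obtain ⟨x, rfl⟩ := hφ y
    -- `x` normalizes the preimage of `Q`
    have hxN : ∀ z, z ∈ Q.comap φ ↔ x * z * x⁻¹ ∈ Q.comap φ := by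
      intro z
      rw [Subgroup.mem_comap, Subgroup.mem_comap, map_mul, map_mul, map_inv]
      exact (Subgroup.mem_normalizer_iff.mp hy) (φ z)
    have hxN' : x ∈ Subgroup.normalizer ((Q.comap φ : Subgroup L) : Set L) :=
      Subgroup.mem_normalizer_iff.mpr hxN
    have hPS : Cfsg.Agent.Helper15.IsSylowIn p P (Q.comap φ) :=
      Cfsg.Agent.Helper15.isSylowIn_map_subtype S
    have hPS' := hPS.map_conj_of_mem_normalizer hxN'
    obtain ⟨k, hk, hkP⟩ := hPS'.exists_conj hPS
    rw [Cfsg.Agent.Helper15.map_conj_map_conj] at hkP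
    have hconj : ∃ q ∈ Q.comap φ, q * x ∈ Subgroup.normalizer (P : Set L) :=
      ⟨k, hk, Cfsg.Agent.Helper15.mem_normalizer_of_map_conj_eq hkP⟩
    obtain ⟨q, hq, h1⟩ := hconj
    have h2 : φ q ∈ Q := hq
    have h3 : φ q ∈ (Subgroup.normalizer (P : Set L)).map φ := by
      rw [← hPmap] at h2
      obtain ⟨u, hu, huq⟩ := h2
      exact ⟨u, Subgroup.le_normalizer hu, huq⟩
    have h4 : φ (q * x) ∈ (Subgroup.normalizer (P : Set L)).map φ := ⟨q * x, h1, rfl⟩
    have : φ x = (φ q)⁻¹ * φ (q * x) := by rw [map_mul]; group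
    rw [this]
    exact Subgroup.mul_mem _ (Subgroup.inv_mem _ h3) h4

/-- normalizer form of `p`-stability at one `p`-subgroup whose normalizer does not involve
`SL₂(p)` -/
theorem normalizer_stable {p : ℕ} [hpp : Fact p.Prime] (hp : p ≠ 2) {X : Type*} [Group X] [Finite X]
    (P : Subgroup X) (hP : IsPGroup p P)
    (hfree : SL2Free p ↥(Subgroup.normalizer (P : Set X))) (g : X)
    (hg : g ∈ Subgroup.normalizer (P : Set X))
    (hq : ⁅⁅P, Subgroup.zpowers g⁆, Subgroup.zpowers g⁆ = ⊥) :
    (QuotientGroup.mk (s := (Subgroup.centralizer (P : Set X)).subgroupOf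
        (Subgroup.normalizer (P : Set X))) (⟨g, hg⟩ : ↥(Subgroup.normalizer (P : Set X)))) ∈
      pCore p (↥(Subgroup.normalizer (P : Set X)) ⧸
        (Subgroup.centralizer (P : Set X)).subgroupOf (Subgroup.normalizer (P : Set X))) := by
  set N := Subgroup.normalizer (P : Set X) with hN
  have hPN : P ≤ N := Subgroup.le_normalizer
  set V : Subgroup ↥N := P.subgroupOf N with hV
  haveI hVn : V.Normal := Subgroup.normal_in_normalizer
  have hVp : IsPGroup p V := hP.comap_subtype
  have hVmap : V.map N.subtype = P := by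
    rw [hV, Subgroup.map_subgroupOf_eq_of_le hPN]
  have hcent : Subgroup.centralizer (V : Set ↥N) =
      (Subgroup.centralizer (P : Set X)).subgroupOf N := by
    ext n
    rw [Subgroup.mem_subgroupOf, Subgroup.mem_centralizer_iff, Subgroup.mem_centralizer_iff]
    constructor
    · intro h x hx
      have := h ⟨x, hPN hx⟩ (by rw [SetLike.mem_coe, hV, Subgroup.mem_subgroupOf]; exact hx)
      exact congrArg Subtype.val this
    · intro h v hv
      apply Subtype.ext
      rw [SetLike.mem_coe, hV, Subgroup.mem_subgroupOf] at hv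
      exact h v hv
  have hq' : ⁅⁅V, Subgroup.zpowers (⟨g, hg⟩ : ↥N)⁆, Subgroup.zpowers (⟨g, hg⟩ : ↥N)⁆ = ⊥ := by
    have hinj : Function.Injective N.subtype := N.subtype_injective
    apply (Subgroup.map_injective hinj)
    rw [Subgroup.map_bot, Subgroup.map_commutator, Subgroup.map_commutator, hVmap,
      MonoidHom.map_zpowers]
    exact hq
  have h1 := mem_pCore_of_sl2free hp hfree V hVp (⟨g, hg⟩ : ↥N) hq'
  have h2 := (Cfsg.Agent.Helper4.PQ.mem_pCore_equiv_iff p
    (QuotientGroup.quotientMulEquivOfEq hcent) (QuotientGroup.mk (⟨g, hg⟩ : ↥N))).2 h1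
  exact h2

/-- the normalizer (in a subgroup `K`) of `P ≤ K` embeds in the normalizer in `G` of the image -/
theorem inv_normalizer_map_subtype {T : Type*} [Group T] {G : Type*} [Group G] (K : Subgroup G)
    (P : Subgroup ↥K) (h : Inv T ↥(Subgroup.normalizer (P : Set ↥K))) :
    Inv T ↥(Subgroup.normalizer ((P.map K.subtype : Subgroup G) : Set G)) := by
  have hmem : ∀ n : ↥K, n ∈ Subgroup.normalizer (P : Set ↥K) →
      (n : G) ∈ Subgroup.normalizer ((P.map K.subtype : Subgroup G) : Set G) := by
    intro n hn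
    rw [Subgroup.mem_normalizer_iff_map_conj_eq] at hn ⊢
    have hcomm : (MulAut.conj (n : G)).toMonoidHom.comp K.subtype
        = K.subtype.comp (MulAut.conj n).toMonoidHom := by
      ext x
      simp [MulAut.conj_apply]
    show (P.map K.subtype).map (MulAut.conj (n : G)).toMonoidHom = P.map K.subtype
    rw [Subgroup.map_map, hcomm, ← Subgroup.map_map]
    congr 1
  let ι : ↥(Subgroup.normalizer (P : Set ↥K)) →*
      ↥(Subgroup.normalizer ((P.map K.subtype : Subgroup G) : Set G)) :=
    { toFun := fun n => ⟨((n : ↥K) : G), hmem n.1 n.2⟩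
      map_one' := rfl
      map_mul' := fun _ _ => rfl }
  refine Inv.of_injective ι ?_ h
  intro a b hab
  have h0 : ((ι a : ↥(Subgroup.normalizer ((P.map K.subtype : Subgroup G) : Set G))) : G)
      = ((ι b : ↥(Subgroup.normalizer ((P.map K.subtype : Subgroup G) : Set G))) : G) := by
    rw [hab]
  have h1 : (((a : ↥K) : G)) = ((b : ↥K) : G) := h0
  exact Subtype.ext (Subtype.ext h1)

/-- Let p be an odd prime and G a finite group such that SL₂(p) is not involved in N_G(P) for any nonidentity p-subgroup P of G. Then every section of G is p-stable in the normalizer form: in each section, whenever an element of the normalizer of a p-subgroup Q acts quadratically on Q, its image in N(Q)/C(Q) lies in O_p(N(Q)/C(Q)). -/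
theorem result {G : Type*} [Group G] [Finite G] {p : ℕ} [Fact p.Prime] (hp : p ≠ 2) (h : ∀ P : Subgroup G, IsPGroup p ↥P → P ≠ ⊥ → ¬ Cfsg.Involves (Matrix.SpecialLinearGroup (Fin 2) (ZMod p)) ↥(Subgroup.normalizer ((P : Subgroup G) : Set G))) : ∀ (K R : Subgroup G) [hR : (R.subgroupOf K).Normal], Cfsg.IsNormalizerPStable p (↥K ⧸ R.subgroupOf K) := by
  intro K R hR Q hQ g hg hq
  by_cases hQbot : Q = ⊥
  · subst hQbot
    have h1 : (QuotientGroup.mk (s := (Subgroup.centralizer
        (((⊥ : Subgroup (↥K ⧸ R.subgroupOf K)) : Set (↥K ⧸ R.subgroupOf K)))).subgroupOf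
        (Subgroup.normalizer ((⊥ : Subgroup (↥K ⧸ R.subgroupOf K)) : Set (↥K ⧸ R.subgroupOf K))))
        (⟨g, hg⟩ : ↥(Subgroup.normalizer
          ((⊥ : Subgroup (↥K ⧸ R.subgroupOf K)) : Set (↥K ⧸ R.subgroupOf K))))) = 1 := by
      rw [QuotientGroup.eq_one_iff, Subgroup.mem_subgroupOf, Subgroup.mem_centralizer_iff]
      intro x hx
      rw [Subgroup.coe_bot, Set.mem_singleton_iff] at hx
      rw [hx]; simp
    rw [h1]
    exact Subgroup.one_mem _
  · apply normalizer_stable hp Q hQ ?_ g hg hq
    intro hinv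
    obtain ⟨P, hPp, hPmap, hPN⟩ := exists_lift (QuotientGroup.mk' (R.subgroupOf K))
      (QuotientGroup.mk'_surjective _) Q hQ
    have hPne : P ≠ ⊥ := by
      rintro rfl
      rw [Subgroup.map_bot] at hPmap
      exact hQbot hPmap.symm
    have hinv1 : Inv (Matrix.SpecialLinearGroup (Fin 2) (ZMod p))
        ↥((Subgroup.normalizer (P : Set ↥K)).map (QuotientGroup.mk' (R.subgroupOf K))) := by
      rw [hPN]; exact hinv
    have hinv2 : Inv (Matrix.SpecialLinearGroup (Fin 2) (ZMod p))
        ↥(Subgroup.normalizer (P : Set ↥K)) :=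
      Inv.of_surjective ((QuotientGroup.mk' (R.subgroupOf K)).subgroupMap _)
        (MonoidHom.subgroupMap_surjective _ _) hinv1
    have hinv3 := inv_normalizer_map_subtype K P hinv2
    have hne : P.map K.subtype ≠ ⊥ := by
      intro hbot
      apply hPne
      rw [eq_bot_iff]
      intro x hx
      have : (x : G) ∈ P.map K.subtype := ⟨x, hx, rfl⟩
      rw [hbot, Subgroup.mem_bot] at this
      rw [Subgroup.mem_bot]
      exact Subtype.ext this
    exact h (P.map K.subtype) (hPp.map _) hne (inv_iff.mp hinv3)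

end Cfsg.Agent.S2004
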