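import Mathlib
import Cfsg.Statements.S2005
import Cfsg.Agent.Lib.Helper10.GTSecInd
-- import your own Cfsg.Agent.* helpers here

set_option autoImplicit false
universe u
open Cfsg

namespace Cfsg.Agent.S2005

/-- Thompson's normal p-complement criterion in functor form. Let p be a prime, G a finite group with Sylow p-subgroup S, and W an isomorphism-invariant p-group functor (W assigns to every group Q a subgroup W(Q), nontrivial whenever Q is a nontrivial finite p-group, and every isomorphism from a finite p-group Q onto a group R carries W(Q) onto W(R)). Suppose N_G(W(S)) has a normal p-complement, and that W(S*) is normal in G* whenever G* = K/R is a section of G with C_{G*}(O_p(G*)) ≤ O_p(G*) such that G*/O_p(G*) has a normal p-complement, and S* is a Sylow p-subgroup of G* that is a maximal subgroup of G*. Then G has a normal p-complement. -/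
theorem result {G : Type u} [Group G] [Finite G] {p : ℕ} [Fact p.Prime] (W : ∀ (Q : Type u) [Group Q], Subgroup Q) (hW : Cfsg.IsCharPFunctor.{u} p W) (S : Sylow p G) (hN : Cfsg.HasNormalPComplement p ↥(Subgroup.normalizer ((Cfsg.inducedFunctor (G := G) W (S : Subgroup G) : Subgroup G) : Set G))) (hloc : ∀ (K R : Subgroup G) [hR : (R.subgroupOf K).Normal], Subgroup.centralizer ((Cfsg.pCore p (↥K ⧸ R.subgroupOf K) : Subgroup (↥K ⧸ R.subgroupOf K)) : Set (↥K ⧸ R.subgroupOf K)) ≤ Cfsg.pCore p (↥K ⧸ R.subgroupOf K) → Cfsg.HasNormalPComplement p ((↥K ⧸ R.subgroupOf K) ⧸ Cfsg.pCore p (↥K ⧸ R.subgroupOf K)) → ∀ T : Sylow p (↥K ⧸ R.subgroupOf K), IsCoatom (T : Subgroup (↥K ⧸ R.subgroupOf K)) → (Cfsg.inducedFunctor (G := (↥K ⧸ R.subgroupOf K)) W ((T : Subgroup (↥K ⧸ R.subgroupOf K)))).Normal) : Cfsg.HasNormalPComplement p G := by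
  apply Cfsg.Agent.Helper10.NPC.hasNormalPComplement
  apply Cfsg.Agent.Helper10.GTS.npc_of_sec hW ?_ S
    (Cfsg.Agent.Helper10.npc_of_hasNormalPComplement hN)
  intro X _ _ hX P hP hnot ms
  obtain ⟨K, R, hR, ⟨e⟩⟩ := hX.exists_equiv
  have hcon : Subgroup.centralizer ((Cfsg.pCore p (↥K ⧸ R.subgroupOf K) :
      Subgroup (↥K ⧸ R.subgroupOf K)) : Set (↥K ⧸ R.subgroupOf K)) ≤
      Cfsg.pCore p (↥K ⧸ R.subgroupOf K) :=
    Cfsg.Agent.Helper10.constrained_of_equiv e ms.hcent
  have hq : Cfsg.HasNormalPComplement p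
      ((↥K ⧸ R.subgroupOf K) ⧸ Cfsg.pCore p (↥K ⧸ R.subgroupOf K)) :=
    (Cfsg.Agent.Helper4.NPCB.npc_of_mulEquiv
      (Cfsg.Agent.Helper10.GTS.quotPCoreEquiv e) ms.hquo).hasNormalPComplement
  have hPp : IsPGroup p ((P : Subgroup X).map e.toMonoidHom) := P.2.map _
  have hidx : ¬ p ∣ ((P : Subgroup X).map e.toMonoidHom).index := by
    have := Subgroup.index_map_of_bijective (f := e.toMonoidHom) e.bijective (P : Subgroup X)
    rw [this]
    exact P.not_dvd_index
  have hco : IsCoatom (P : Subgroup X) := by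
    refine ⟨?_, ?_⟩
    · intro htop
      apply ms.hPO
      rw [htop]
      apply le_sSup
      refine ⟨inferInstance, ?_⟩
      rw [← htop]
      exact P.2
    · intro b hb
      by_contra hbt
      exact absurd (ms.hmax b hb.le hbt) (not_le_of_gt hb)
  have hn := hloc K R hcon hq (hPp.toSylow hidx)
    (by rw [IsPGroup.toSylow_coe]; exact Cfsg.Agent.Helper10.GTS.isCoatom_map_equiv e hco)
  rw [IsPGroup.toSylow_coe] at hn
  have hn' := Cfsg.Agent.Helper10.GTS.normal_indW_of_equiv hW e (P : Subgroup X) P.2 hn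
  rw [Subgroup.normalizer_eq_top_iff.mpr hn'] at hP
  exact hnot (Cfsg.Agent.Helper4.NPCB.npc_top_iff.mp hP)

end Cfsg.Agent.S2005
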