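import Mathlib
import Cfsg.Statements.S2006
import Cfsg.Agent.Lib.Helper10.GTSecInd
import Cfsg.Agent.Lib.Helper10.EngelChief
import Cfsg.Agent.Lib.Helper10.SecChief
-- import your own Cfsg.Agent.* helpers here

set_option autoImplicit false
universe u
open Cfsg

namespace Cfsg.Agent.S2006

/-- Let p be a prime, G a finite group with Sylow p-subgroup S, and W an isomorphism-invariant p-group functor (W assigns to every group Q a subgroup W(Q), nontrivial whenever Q is a nontrivial finite p-group, and every isomorphism from a finite p-group Q onto a group R carries W(Q) onto W(R)). Suppose N_G(W(S)) has a normal p-complement, and that whenever G* = K/R is a section of G with C_{G*}(O_p(G*)) ≤ O_p(G*) and S* is a Sylow p-subgroup of G* with W(S*) not normal in G*, there are an element g of S* outside O_p(G*) and a chief factor X/Y of G* with X ≤ O_p(G*) such that [X, g, …, g] ≤ Y with p − 1 entries g but [X, g] ≰ Y. Then G has a normal p-complement. -/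
theorem result {G : Type u} [Group G] [Finite G] {p : ℕ} [Fact p.Prime] (W : ∀ (Q : Type u) [Group Q], Subgroup Q) (hW : Cfsg.IsCharPFunctor.{u} p W) (S : Sylow p G) (hN : Cfsg.HasNormalPComplement p ↥(Subgroup.normalizer ((Cfsg.inducedFunctor (G := G) W (S : Subgroup G) : Subgroup G) : Set G))) (hloc : ∀ (K R : Subgroup G) [hR : (R.subgroupOf K).Normal], Subgroup.centralizer ((Cfsg.pCore p (↥K ⧸ R.subgroupOf K) : Subgroup (↥K ⧸ R.subgroupOf K)) : Set (↥K ⧸ R.subgroupOf K)) ≤ Cfsg.pCore p (↥K ⧸ R.subgroupOf K) → ∀ T : Sylow p (↥K ⧸ R.subgroupOf K), ¬ (Cfsg.inducedFunctor (G := (↥K ⧸ R.subgroupOf K)) W ((T : Subgroup (↥K ⧸ R.subgroupOf K)))).Normal → ∃ g : (↥K ⧸ R.subgroupOf K), g ∈ (T : Subgroup (↥K ⧸ R.subgroupOf K)) ∧ g ∉ Cfsg.pCore p (↥K ⧸ R.subgroupOf K) ∧ ∃ U V : Subgroup (↥K ⧸ R.subgroupOf K), Cfsg.IsChiefFactor U V ∧ U ≤ Cfsg.pCore p (↥K ⧸ R.subgroupOf K) ∧ Cfsg.iterCommutator U (Subgroup.zpowers g) (p - 1) ≤ V ∧ ¬ ⁅U, Subgroup.zpowers g⁆ ≤ V)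 : Cfsg.HasNormalPComplement p G := by
  apply Cfsg.Agent.Helper10.NPC.hasNormalPComplement
  apply Cfsg.Agent.Helper10.GTS.npc_of_sec hW ?_ S
    (Cfsg.Agent.Helper10.npc_of_hasNormalPComplement hN)
  intro X _ _ hX P hP hnot ms
  obtain ⟨M, st⟩ := ms.hstruc
  obtain ⟨K, R, hR, ⟨e⟩⟩ := hX.exists_equiv
  have hcon : Subgroup.centralizer ((Cfsg.pCore p (↥K ⧸ R.subgroupOf K) :
      Subgroup (↥K ⧸ R.subgroupOf K)) : Set (↥K ⧸ R.subgroupOf K)) ≤
      Cfsg.pCore p (↥K ⧸ R.subgroupOf K) :=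
    Cfsg.Agent.Helper10.constrained_of_equiv e ms.hcent
  have hPp : IsPGroup p ((P : Subgroup X).map e.toMonoidHom) := P.2.map _
  have hidx : ¬ p ∣ ((P : Subgroup X).map e.toMonoidHom).index := by
    have := Subgroup.index_map_of_bijective (f := e.toMonoidHom) e.bijective (P : Subgroup X)
    rw [this]
    exact P.not_dvd_index
  have hnn : ¬ (Cfsg.inducedFunctor (G := X) W (P : Subgroup X)).Normal := by
    intro hn
    rw [Subgroup.normalizer_eq_top_iff.mpr hn] at hP
    exact hnot (Cfsg.Agent.Helper4.NPCB.npc_top_iff.mp hP)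
  have hnn' : ¬ (Cfsg.inducedFunctor (G := (↥K ⧸ R.subgroupOf K)) W
      ((hPp.toSylow hidx : Sylow p (↥K ⧸ R.subgroupOf K)) :
        Subgroup (↥K ⧸ R.subgroupOf K))).Normal := by
    rw [IsPGroup.toSylow_coe]
    intro hn
    exact hnn (Cfsg.Agent.Helper10.GTS.normal_indW_of_equiv hW e (P : Subgroup X) P.2 hn)
  obtain ⟨g', hg'T, hg'O, U', V', hUV', hU'O, hit', hnot'⟩ :=
    hloc K R hcon (hPp.toSylow hidx) hnn'
  rw [IsPGroup.toSylow_coe] at hg'T
  obtain ⟨g, hgP, rfl⟩ := hg'T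
  set U := U'.map e.symm.toMonoidHom with hU
  set V := V'.map e.symm.toMonoidHom with hV
  have hmapback : ∀ L : Subgroup (↥K ⧸ R.subgroupOf K),
      (L.map e.symm.toMonoidHom).map e.toMonoidHom = L := by
    intro L
    rw [Subgroup.map_map]
    have : e.toMonoidHom.comp e.symm.toMonoidHom = MonoidHom.id _ := by
      ext x; simp
    rw [this, Subgroup.map_id]
  have hUV : Cfsg.IsChiefFactor U V := Cfsg.Agent.Helper10.isChiefFactor_map_equiv e.symm hUV'
  have hUO : U ≤ Cfsg.pCore p X := by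
    rw [← Cfsg.Agent.Helper10.pCore_map_equiv e.symm]
    exact Subgroup.map_mono hU'O
  have hit : Cfsg.iterCommutator U (Subgroup.zpowers g) (p - 1) ≤ V := by
    apply Cfsg.Agent.Helper10.iterCommutator_le_of_map_equiv e U V g (p - 1)
    rw [hU, hV, hmapback, hmapback]
    exact hit'
  obtain ⟨k, hk⟩ := P.2 ⟨g, hgP⟩
  have hk' : g ^ p ^ k = 1 := by
    have := congrArg Subtype.val hk
    simpa using this
  have hcomm := Cfsg.Agent.Helper10.chief_engel st U V hUV hUO g k hk' hit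
  apply hnot'
  have h1 := Subgroup.map_mono (f := e.toMonoidHom) hcomm
  rw [Subgroup.map_commutator, hU, hV, hmapback, hmapback, MonoidHom.map_zpowers] at h1
  exact h1

end Cfsg.Agent.S2006
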