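import Mathlib
import Cfsg.Statements.S2007
import Cfsg.Agent.Lib.Helper10.Frobenius5
-- import your own Cfsg.Agent.* helpers here

set_option autoImplicit false
open Cfsg

namespace Cfsg.Agent.S2007
open Cfsg.Agent.Helper10 in
theorem aux2007 {G : Type*} [Group G] [Finite G] {p : ℕ} [hp : Fact p.Prime] (S : Sylow p G)
    (T : Subgroup G)
    (hTn : (S : Subgroup G) ≤ Subgroup.normalizer ((T : Subgroup G) : Set G))
    (hC : (S : Subgroup G) ⊓ Subgroup.centralizer ((T : Subgroup G) : Set G) ≤ T)
    (hN : ∀ g ∈ Subgroup.normalizer ((T : Subgroup G) : Set G), (orderOf g).Coprime p →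
      g ∈ Subgroup.centralizer ((T : Subgroup G) : Set G)) :
    NPC p ↥(Subgroup.normalizer ((T : Subgroup G) : Set G)) := by
  set H := Subgroup.normalizer (T : Set G) with hH
  set C := Subgroup.centralizer (T : Set G) with hCdef
  have hCH : C ≤ H := Subgroup.centralizer_le_normalizer _
  have hHC : H ≤ Subgroup.normalizer (C : Set G) :=
    (Subgroup.normal_subgroupOf_iff_le_normalizer hCH).mp inferInstance
  -- the quotient `H / C` is a `p`-group
  have hq : IsPGroup p (↥H ⧸ C.subgroupOf H) := by
    intro x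
    induction x using QuotientGroup.induction_on with
    | H n =>
      obtain ⟨e, he⟩ := exists_pow_coprime_order (p := p) (n : G)
      refine ⟨e, ?_⟩
      rw [← QuotientGroup.mk_pow, QuotientGroup.eq_one_iff, Subgroup.mem_subgroupOf]
      have := hN ((n : G) ^ (p ^ e)) (Subgroup.pow_mem _ n.2 _) he
      simpa using this
  have hidx : ∃ j : ℕ, C.relIndex H = p ^ j := by
    obtain ⟨k, hk⟩ := hq.exists_card_eq
    exact ⟨k, by rw [Subgroup.relIndex, Subgroup.index_eq_card]; exact hk⟩
  apply npc_of_normal_subgroup_npc C H hCH hHC hidx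
  -- a Sylow subgroup of `C` is central
  let PC : Sylow p C := default
  apply npc_of_central_sylow PC
  intro x hx c
  set PG : Subgroup G := (PC : Subgroup C).map C.subtype with hPG
  have hPGp : IsPGroup p PG := PC.isPGroup'.map _
  have hPGC : PG ≤ C := by
    rintro _ ⟨y, -, rfl⟩
    exact y.2
  have hSidx : ¬ p ∣ (S : Subgroup G).relIndex H := by
    intro hd
    exact S.not_dvd_index (hd.trans (Subgroup.relIndex_dvd_index_of_le hTn))
  obtain ⟨h, hhH, hh⟩ := conj_into_relSylow H (S : Subgroup G) PG hTn S.isPGroup' hSidx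
    (hPGC.trans hCH) hPGp
  have hhC : rcg h C = C := mem_normalizer_iff_rcg.mp (hHC hhH)
  have hPGT : rcg h PG ≤ T := by
    refine le_trans (le_inf hh ?_) hC
    have := rcg_mono h hPGC
    rwa [hhC] at this
  have hxT : h⁻¹ * (x : G) * h ∈ T := by
    apply hPGT
    rw [mem_rcg]
    have e : h * (h⁻¹ * (x : G) * h) * h⁻¹ = x := by group
    rw [e]
    exact ⟨x, hx, rfl⟩
  have hcC : h⁻¹ * (c : G) * h ∈ C := by
    have : h⁻¹ * (c : G) * h ∈ rcg h C := by
      rw [mem_rcg]
      have e : h * (h⁻¹ * (c : G) * h) * h⁻¹ = c := by group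
      rw [e]; exact c.2
    rwa [hhC] at this
  have h1 := (Subgroup.mem_centralizer_iff.mp hcC) _ hxT
  apply Subtype.ext
  show (x : G) * c = c * x
  have e1 : (x : G) * c = h * ((h⁻¹ * (x : G) * h) * (h⁻¹ * (c : G) * h)) * h⁻¹ := by group
  rw [e1, h1]
  group

/-- Let p be a prime, G a finite group with Sylow p-subgroup S, and T a normal subgroup of S containing C_S(T). If N_G(T)/C_G(T) is a p-group (every element of N_G(T) of order prime to p centralizes T), then N_G(T) has a normal p-complement. -/
theorem result {G : Type*} [Group G] [Finite G] {p : ℕ} [Fact p.Prime] (S : Sylow p G) (T : Subgroup G) (hTS : T ≤ (S : Subgroup G)) (hTn : (S : Subgroup G) ≤ Subgroup.normalizer ((T : Subgroup G) : Set G)) (hC : (S : Subgroup G) ⊓ Subgroup.centralizer ((T : Subgroup G) : Set G) ≤ T) (hN : ∀ g ∈ Subgroup.normalizer ((T : Subgroup G) : Set G), (orderOf g).Coprime p → g ∈ Subgroup.centralizer ((T : Subgroup G) : Set G)) : Cfsg.HasNormalPComplement p ↥(Subgroup.normalizer ((T : Subgroup G) : Set G)) := by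
  exact (aux2007 S T hTn hC hN).hasNormalPComplement

end Cfsg.Agent.S2007
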