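import Mathlib
import Cfsg.Statements.S2011
import Mathlib
import Cfsg.Agent.Lib.Helper10.Alperin
import Cfsg.Agent.Lib.Helper10.Frobenius5
import Cfsg.Agent.Lib.Helper10.Cores
-- import your own Cfsg.Agent.* helpers here

set_option autoImplicit false
open Cfsg

namespace Cfsg.Agent.S2011

theorem fwd {G : Type*} [Group G] [Finite G] (p : ℕ) [Fact p.Prime] (P : Sylow p G) (Q : Subgroup G)
    (hQ : Q ≤ P) (hc : (Cfsg.groupFusionSystem (P : Subgroup G)).IsCentric Q) :
    Cfsg.IsInternalDirectProduct (Q ⊓ Subgroup.centralizer (Q : Set G))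
      ((Cfsg.pPrimeCore p ↥(Subgroup.centralizer (Q : Set G))).map
        (Subgroup.centralizer (Q : Set G)).subtype) (Subgroup.centralizer (Q : Set G)) := by
  classical
  set C := Subgroup.centralizer (Q : Set G) with hC
  set Z := Q ⊓ C with hZ
  have hQp : IsPGroup p ↥Q := P.2.to_le hQ
  -- Step A: p-subgroups of C lie in Q
  have stepA : ∀ T : Subgroup G, IsPGroup p ↥T → T ≤ C → T ≤ Q := by
    intro T hT hTC
    have hTN : T ≤ Subgroup.normalizer (Q : Set G) :=
      hTC.trans (Subgroup.centralizer_le_normalizer _)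
    have hQT : IsPGroup p ↥(Q ⊔ T) := hQp.to_sup_of_normal_left' hT hTN
    obtain ⟨c, -, hc'⟩ := Cfsg.Agent.Helper10.conj_into_relSylow (⊤ : Subgroup G) (P : Subgroup G)
      (Q ⊔ T) le_top P.2 (by rw [Subgroup.relIndex_top_right]; exact P.not_dvd_index) le_top hQT
    have hconj : ∀ b ∈ Q ⊔ T, c⁻¹ * b * c⁻¹⁻¹ ∈ (P : Subgroup G) := by
      intro b hb
      apply hc'
      rw [Cfsg.Agent.Helper10.mem_rcg]
      have e : c * (c⁻¹ * b * c⁻¹⁻¹) * c⁻¹ = b := by group
      rw [e]; exact hb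
    set g := c⁻¹ with hg
    -- the conjugate R of Q
    set φ : ↥Q →* G := Cfsg.conjHom Q g with hφ
    have hφmem : φ ∈ (Cfsg.groupFusionSystem (P : Subgroup G)).Hom Q :=
      ⟨hQ, fun x => hconj _ (Subgroup.mem_sup_left x.2), g, fun x => rfl⟩
    have hcen := hc.2 φ.range ⟨φ, hφmem, rfl⟩
    intro t ht
    have h1 : g * t * g⁻¹ ∈ Cfsg.FusionSystem.centralizerIn (P : Subgroup G) φ.range := by
      refine ⟨hconj _ (Subgroup.mem_sup_right ht), ?_⟩
      show g * t * g⁻¹ ∈ Subgroup.centralizer (φ.range : Set G)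
      rw [Subgroup.mem_centralizer_iff]
      rintro _ ⟨x, rfl⟩
      show g * (x : G) * g⁻¹ * (g * t * g⁻¹) = g * t * g⁻¹ * (g * (x : G) * g⁻¹)
      have h2 := Subgroup.mem_centralizer_iff.mp (hTC ht) (x : G) x.2
      calc g * (x : G) * g⁻¹ * (g * t * g⁻¹) = g * ((x : G) * t) * g⁻¹ := by group
        _ = g * (t * (x : G)) * g⁻¹ := by rw [h2]
        _ = g * t * g⁻¹ * (g * (x : G) * g⁻¹) := by group
    obtain ⟨x, hx⟩ := hcen h1
    have h3 : g * (x : G) * g⁻¹ = g * t * g⁻¹ := hx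
    have h4 : (x : G) = t := mul_left_cancel (mul_right_cancel h3)
    rw [← h4]; exact x.2
  -- Step B: central Sylow in C
  obtain ⟨PC⟩ : Nonempty (Sylow p ↥C) := inferInstance
  have hPCQ : ∀ x ∈ (PC : Subgroup ↥C), (x : G) ∈ Z := by
    intro x hx
    have h1 : ((PC : Subgroup ↥C).map C.subtype) ≤ Q :=
      stepA _ (PC.2.map _) (Subgroup.map_subtype_le _)
    exact ⟨h1 ⟨x, hx, rfl⟩, x.2⟩
  have hZcent : ∀ z ∈ Z, ∀ c ∈ C, z * c = c * z := by
    intro z hz c hc'
    exact Subgroup.mem_centralizer_iff.mp hc' z hz.1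
  have hcentral : ∀ x ∈ (PC : Subgroup ↥C), ∀ c : ↥C, x * c = c * x := by
    intro x hx c
    exact Subtype.ext (hZcent _ (hPCQ x hx) c c.2)
  obtain ⟨N, hNn, hNc, hNk⟩ := Cfsg.Agent.Helper10.npc_of_central_sylow PC hcentral
  -- Step C: N = O_{p'}(C)
  have hNO : N = Cfsg.pPrimeCore p ↥C := by
    apply le_antisymm
    · exact le_sSup ⟨hNn, hNc⟩
    · exact Cfsg.Agent.Helper10.le_of_coprime_of_index_pow hNk
        (Cfsg.Agent.Helper10.card_pPrimeCore_coprime p)
  rw [← hNO]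
  have hZp : IsPGroup p ↥Z := hQp.to_le inf_le_left
  refine ⟨inf_le_right, Subgroup.map_subtype_le _, ?_, ?_, ?_⟩
  · rintro a ha _ ⟨b, -, rfl⟩
    exact hZcent a ha b b.2
  · apply Subgroup.inf_eq_bot_of_coprime
    obtain ⟨m, hm⟩ := IsPGroup.iff_card.mp hZp
    rw [hm, Nat.card_congr (N.equivMapOfInjective C.subtype C.subtype_injective).symm.toEquiv]
    exact (Nat.Coprime.pow_right m hNc).symm
  · apply le_antisymm (sup_le inf_le_right (Subgroup.map_subtype_le _))
    have hcompl := Cfsg.Agent.Helper10.isComplement'_of_npc hNc hNk PC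
    have htop : N ⊔ (PC : Subgroup ↥C) = ⊤ := hcompl.sup_eq_top
    intro c hc'
    have h1 : (⟨c, hc'⟩ : ↥C) ∈ N ⊔ (PC : Subgroup ↥C) := by rw [htop]; trivial
    obtain ⟨n, hn, x, hx, hnx⟩ := Subgroup.mem_sup_of_normal_left.mp h1
    have e : c = (n : G) * (x : G) := by
      have := congrArg Subtype.val hnx
      simpa using this.symm
    rw [e]
    exact Subgroup.mul_mem _ (Subgroup.mem_sup_right ⟨n, hn, rfl⟩)
      (Subgroup.mem_sup_left (hPCQ x hx))

theorem bwd {G : Type*} [Group G] [Finite G] (p : ℕ) [Fact p.Prime] (P : Sylow p G) (Q : Subgroup G)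
    (hQ : Q ≤ P)
    (h : Cfsg.IsInternalDirectProduct (Q ⊓ Subgroup.centralizer (Q : Set G))
      ((Cfsg.pPrimeCore p ↥(Subgroup.centralizer (Q : Set G))).map
        (Subgroup.centralizer (Q : Set G)).subtype) (Subgroup.centralizer (Q : Set G))) :
    (Cfsg.groupFusionSystem (P : Subgroup G)).IsCentric Q := by
  classical
  set C := Subgroup.centralizer (Q : Set G) with hC
  set Z := Q ⊓ C with hZ
  set O := Cfsg.pPrimeCore p ↥C with hO
  haveI hOn : O.Normal := Cfsg.Agent.Helper10.pPrimeCore_normal p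
  have hOc : (Nat.card ↥O).Coprime p := Cfsg.Agent.Helper10.card_pPrimeCore_coprime p
  obtain ⟨hZC, hOC, hcomm, hdisj, hsup⟩ := h
  have htop : Z.subgroupOf C ⊔ O = ⊤ := by
    apply Subgroup.map_injective C.subtype_injective
    rw [Subgroup.map_sup, Subgroup.subgroupOf_map_subtype, inf_eq_left.mpr hZC, hsup,
      ← MonoidHom.range_eq_map, Subgroup.range_subtype]
  refine ⟨hQ, ?_⟩
  rintro R ⟨φ, ⟨-, hφP, g, hg⟩, rfl⟩
  rintro t ⟨htP, htC⟩
  replace htC : t ∈ Subgroup.centralizer (φ.range : Set G) := htC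
  set s := g⁻¹ * t * g with hs
  have hsC : s ∈ C := by
    rw [hC, Subgroup.mem_centralizer_iff]
    intro x hx
    have h1 := Subgroup.mem_centralizer_iff.mp htC (φ ⟨x, hx⟩) ⟨⟨x, hx⟩, rfl⟩
    rw [hg] at h1
    have h2 : g * x * g⁻¹ * t = t * (g * x * g⁻¹) := h1
    calc x * s = g⁻¹ * (g * x * g⁻¹ * t) * g := by rw [hs]; group
      _ = g⁻¹ * (t * (g * x * g⁻¹)) * g := by rw [h2]
      _ = s * x := by rw [hs]; group
  obtain ⟨k, hk⟩ := P.2 ⟨t, htP⟩
  have htk : t ^ p ^ k = 1 := by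
    have := congrArg Subtype.val hk
    simpa using this
  have hsk : s ^ p ^ k = 1 := by
    have e : s = g⁻¹ * t * g⁻¹⁻¹ := by rw [hs, inv_inv]
    rw [e, conj_pow, htk]; group
  have h1 : (⟨s, hsC⟩ : ↥C) ∈ Z.subgroupOf C ⊔ O := by rw [htop]; trivial
  obtain ⟨z, hz, o, ho, hzo⟩ := Subgroup.mem_sup_of_normal_right.mp h1
  have hzZ : (z : G) ∈ Z := Subgroup.mem_subgroupOf.mp hz
  have hoO : (o : G) ∈ O.map C.subtype := ⟨o, ho, rfl⟩
  have e : s = (z : G) * (o : G) := by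
    have := congrArg Subtype.val hzo
    simpa using this.symm
  have hc : Commute (z : G) (o : G) := hcomm _ hzZ _ hoO
  have ho1 : (o : G) = 1 := by
    have h2 : ((z : G) * (o : G)) ^ p ^ k = 1 := by rw [← e]; exact hsk
    rw [hc.mul_pow] at h2
    have h3 : (o : G) ^ p ^ k = ((z : G) ^ p ^ k)⁻¹ := by
      rw [eq_inv_iff_mul_eq_one, ← (hc.pow_pow _ _).eq]
      exact h2
    have h4 : (o : G) ^ p ^ k ∈ Z ⊓ O.map C.subtype :=
      ⟨by rw [h3]; exact Z.inv_mem (Z.pow_mem hzZ _), Subgroup.pow_mem _ hoO _⟩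
    rw [hdisj, Subgroup.mem_bot] at h4
    have h5 : orderOf (o : G) ∣ p ^ k := orderOf_dvd_of_pow_eq_one h4
    have h6 : orderOf (o : G) ∣ Nat.card ↥O := by
      rw [Subgroup.orderOf_coe]
      exact Subgroup.orderOf_dvd_natCard O ho
    have h7 : orderOf (o : G) = 1 :=
      Nat.eq_one_of_dvd_coprimes (Nat.Coprime.pow_right k hOc) h6 h5
    exact orderOf_eq_one_iff.mp h7
  have hsQ : s ∈ Q := by rw [e, ho1, mul_one]; exact hzZ.1
  refine ⟨⟨s, hsQ⟩, ?_⟩
  rw [hg]
  show g * s * g⁻¹ = t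
  rw [hs]; group

/-- Let G be a finite group with Sylow p-subgroup P and Q ≤ P. Then Q is centric in the fusion system of G on P (C_P(R) ≤ R for every G-conjugate R of Q lying in P) if and only if C_G(Q) is the internal direct product of Z(Q) = Q ∩ C_G(Q) and the largest normal subgroup of C_G(Q) of order prime to p. -/
theorem result {G : Type*} [Group G] [Finite G] (p : ℕ) [Fact p.Prime] (P : Sylow p G) (Q : Subgroup G) (hQ : Q ≤ P) : (Cfsg.groupFusionSystem (P : Subgroup G)).IsCentric Q ↔ Cfsg.IsInternalDirectProduct (Q ⊓ Subgroup.centralizer (Q : Set G)) ((Cfsg.pPrimeCore p ↥(Subgroup.centralizer (Q : Set G))).map (Subgroup.centralizer (Q : Set G)).subtype) (Subgroup.centralizer (Q : Set G)) := by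
  exact ⟨fwd p P Q hQ, bwd p P Q hQ⟩

end Cfsg.Agent.S2011
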