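import Mathlib
import Cfsg.Statements.S2014
import Cfsg.Agent.Lib.Helper10.PResidual
-- import your own Cfsg.Agent.* helpers here

set_option autoImplicit false
open Cfsg

namespace Cfsg.Agent.S2014
open Cfsg.Agent.Helper10 in
theorem aux2014 {G : Type*} [Group G] [Finite G] (p : ℕ) [Fact p.Prime] (P : Sylow p G) (A C : Subgroup G) (hext : ¬ p ∣ ((P : Subgroup G) ⊓ Subgroup.normalizer ((C : Subgroup G) : Set G)).relIndex (Subgroup.normalizer ((C : Subgroup G) : Set G))) (h : G) (hh : A.map (MulAut.conj h).toMonoidHom = C) : ∃ g : G, A.map (MulAut.conj g).toMonoidHom = C ∧ ((P : Subgroup G) ⊓ Subgroup.normalizer ((A : Subgroup G) : Set G)).map (MulAut.conj g).toMonoidHom ≤ (P : Subgroup G) ⊓ Subgroup.normalizer ((C : Subgroup G) : Set G) ∧ h * g⁻¹ ∈ (Cfsg.pResidual p ↥(Subgroup.normalizer ((C : Subgroup G) : Set G))).map (Subgroup.normalizer ((C : Subgroup G) : Set G)).subtype := by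
  set N := Subgroup.normalizer (C : Set G) with hN
  set R := (P : Subgroup G) ⊓ N with hR
  set NA := (P : Subgroup G) ⊓ Subgroup.normalizer (A : Set G) with hNA
  have hhC : rcg h⁻¹ A = C := by rw [← map_conj_eq_rcg]; exact hh
  set Q := rcg h⁻¹ NA with hQ
  have hQN : Q ≤ N := by
    rw [hN, ← hhC, ← rcg_normalizer]; exact rcg_mono _ inf_le_right
  have hQp : IsPGroup p Q := isPGroup_rcg _ (P.isPGroup'.to_le inf_le_left)
  obtain ⟨c, hcN, hc⟩ := conj_into_relSylow N R Q inf_le_right (P.isPGroup'.to_le inf_le_left)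
    hext hQN hQp
  obtain ⟨r, hrR, -, u, hu, hru⟩ := exists_mul_of_pResidual_subgroup (p := p) N R hext c⁻¹
    (N.inv_mem hcN)
  have huN : u ∈ N := by
    obtain ⟨u', -, rfl⟩ := hu; exact u'.2
  refine ⟨u * h, ?_, ?_, ?_⟩
  · rw [map_conj_eq_rcg, mul_inv_rev, rcg_mul, hhC]
    exact mem_normalizer_iff_rcg.mp (N.inv_mem huN)
  · rw [map_conj_eq_rcg, mul_inv_rev, rcg_mul]
    intro y hy
    rw [mem_rcg] at hy
    have h1 : c⁻¹ * (u⁻¹ * y * u⁻¹⁻¹) * c ∈ R := hc (by rw [mem_rcg]; simpa [mul_assoc] using hy)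
    have hc' : c = (r * u)⁻¹ := by rw [← hru, inv_inv]
    have e : c⁻¹ * (u⁻¹ * y * u⁻¹⁻¹) * c = r * y * r⁻¹ := by rw [hc']; group
    rw [e] at h1
    have e2 : y = r⁻¹ * (r * y * r⁻¹) * r := by group
    rw [e2]; exact R.mul_mem (R.mul_mem (R.inv_mem hrR) h1) hrR
  · have e : h * (u * h)⁻¹ = u⁻¹ := by group
    rw [e]; exact Subgroup.inv_mem _ hu

/-- Let P be a Sylow p-subgroup of a finite group G and A, C ≤ P subgroups conjugate in G, with C extremal: N_P(C) is a Sylow p-subgroup of N_G(C). Then there is g with gAg⁻¹ = C and g N_P(A) g⁻¹ ≤ N_P(C); moreover, given any h with hAh⁻¹ = C, g can be chosen so that h g⁻¹ lies in O^p(N_G(C)), the subgroup of N_G(C) generated by its elements of order prime to p. -/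
theorem result {G : Type*} [Group G] [Finite G] (p : ℕ) [Fact p.Prime] (P : Sylow p G) (A C : Subgroup G) (hA : A ≤ P) (hC : C ≤ P) (hext : ¬ p ∣ ((P : Subgroup G) ⊓ Subgroup.normalizer ((C : Subgroup G) : Set G)).relIndex (Subgroup.normalizer ((C : Subgroup G) : Set G))) (h : G) (hh : A.map (MulAut.conj h).toMonoidHom = C) : ∃ g : G, A.map (MulAut.conj g).toMonoidHom = C ∧ ((P : Subgroup G) ⊓ Subgroup.normalizer ((A : Subgroup G) : Set G)).map (MulAut.conj g).toMonoidHom ≤ (P : Subgroup G) ⊓ Subgroup.normalizer ((C : Subgroup G) : Set G) ∧ h * g⁻¹ ∈ (Cfsg.pResidual p ↥(Subgroup.normalizer ((C : Subgroup G) : Set G))).map (Subgroup.normalizer ((C : Subgroup G) : Set G)).subtype := by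
  exact aux2014 p P A C hext h hh

end Cfsg.Agent.S2014
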