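import Mathlib
import Cfsg.Statements.S2015
import Mathlib
import Cfsg.Agent.Lib.Helper10.KInfTransfer
-- import your own Cfsg.Agent.* helpers here

set_option autoImplicit false
universe u
open Cfsg

namespace Cfsg.Agent.S2015

/-- For p ≥ 5, every finite p-group P has a characteristic subgroup K containing Z(P), depending only on P, whose normalizer controls transfer wherever P is a Sylow subgroup: for every finite group G and every embedding ι of P onto a Sylow p-subgroup of G, the intersection of ι(P) with the derived subgroup of G equals its intersection with the derived subgroup of N_G(ι(K)). -/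
theorem result (p : ℕ) [Fact p.Prime] (hp : 5 ≤ p) (P : Type u) [Group P] [Finite P] (hP : IsPGroup p P) : ∃ K : Subgroup P, K.Characteristic ∧ Subgroup.center P ≤ K ∧ ∀ (G : Type u) [Group G] [Finite G] (ι : P →* G), Function.Injective ι → (∃ T : Sylow p G, (T : Subgroup G) = ι.range) → ι.range ⊓ commutator G = ι.range ⊓ (commutator ↥(Subgroup.normalizer ((K.map ι : Subgroup G) : Set G))).map (Subgroup.normalizer ((K.map ι : Subgroup G) : Set G)).subtype := by
  have hW := Cfsg.Agent.Helper10.isCharPFunctor_kInfLower.{u} p
  refine ⟨kInfLower P, ?_, Cfsg.Agent.Helper10.center_le_kInfLower, ?_⟩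
  · rw [Subgroup.characteristic_iff_map_eq]
    intro φ
    exact hW.2 P P hP φ
  · intro G _ _ ι hι hT
    obtain ⟨T, hT⟩ := hT
    have hrange : (⊤ : Subgroup P).map ι = ι.range := (MonoidHom.range_eq_map ι).symm
    have htopP : IsPGroup p (⊤ : Subgroup P) := hP.to_subgroup _
    have h1 := Cfsg.Agent.Helper10.indW_map hW ι (⊤ : Subgroup P) htopP hι.injOn
    have h2 : inducedFunctor (G := P) (fun (Q : Type u) [Group Q] => kInfLower Q) ⊤ = kInfLower P := by
      have := hW.2 ↥(⊤ : Subgroup P) P htopP Subgroup.topEquiv
      exact this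
    rw [h2, hrange] at h1
    have hSp : IsPGroup p ι.range := by rw [← hT]; exact T.isPGroup'
    have hidx : ¬ p ∣ ι.range.index := by rw [← hT]; exact T.not_dvd_index
    have h3 := Cfsg.Agent.Helper10.fct_singleton_sylow hW
      (Cfsg.Agent.Helper10.kinfLower_fct hp G) ι.range hSp hidx
    rw [h1] at h3
    rw [h3, Subgroup.map_subtype_commutator]

end Cfsg.Agent.S2015
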