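import Mathlib
import Cfsg.Statements.S2035
import Cfsg.Agent.Lib.Helper29.SchurM12
import Cfsg.Agent.Lib.Helper29.CoverM12

set_option autoImplicit false
open Cfsg

namespace Cfsg.Agent.S2035

/-- The Schur multiplier of the Mathieu group M₁₂ (the stabiliser of a dodecad in the automorphism group of the length-24 binary code) is cyclic of order 2; here the Schur multiplier is described through stem extensions, as in the definitions: surjective homomorphisms onto the group from a finite group, whose kernel is central in that finite group and contained in that finite group's commutator subgroup. -/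
theorem result : Cfsg.HasCyclicSchurMultiplier ↥Cfsg.Spor.M12 2 := by
  refine ⟨Cfsg.Agent.Helper29.CoverM12.exists_stem, ?_⟩
  intro Γ _ _ σ hσ
  obtain ⟨γ, hγ2, hker⟩ := Cfsg.Agent.Helper29.SchurM12.ker_eq_zpowers Γ σ hσ
  have hγK : γ ∈ σ.ker := by rw [hker]; exact Subgroup.mem_zpowers γ
  obtain ⟨γ', hγ'⟩ : ∃ γ' : σ.ker, γ' = ⟨γ, hγK⟩ := ⟨_, rfl⟩
  have hγ'2 : γ' * γ' = 1 := by
    rw [hγ']
    exact Subtype.ext hγ2
  obtain ⟨f, hf⟩ : ∃ f : ℤ →+ Additive σ.ker, f = zmultiplesHom _ (Additive.ofMul γ') := ⟨_, rfl⟩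
  have hf1 : ∀ k : ℤ, f k = Additive.ofMul (γ' ^ k) := by
    intro k
    rw [hf, zmultiplesHom_apply, ofMul_zpow]
  have hf2 : f (2 : ℕ) = 0 := by
    have h := hf1 2
    rw [zpow_two, hγ'2] at h
    exact h
  refine ⟨AddMonoidHom.toMultiplicativeLeft (ZMod.lift 2 ⟨f, hf2⟩), ?_⟩
  intro x
  have hx : (x : Γ) ∈ Subgroup.zpowers γ := by rw [← hker]; exact x.2
  obtain ⟨k, hk⟩ := Subgroup.mem_zpowers_iff.1 hx
  refine ⟨Multiplicative.ofAdd ((k : ℤ) : ZMod 2), ?_⟩
  rw [AddMonoidHom.coe_toMultiplicativeLeft]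
  show Additive.toMul ((ZMod.lift 2 ⟨f, hf2⟩) ((k : ℤ) : ZMod 2)) = x
  rw [ZMod.lift_coe, hf1]
  apply Subtype.ext
  rw [toMul_ofMul, Subgroup.coe_zpow, hγ']
  exact hk

end Cfsg.Agent.S2035
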