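import Cfsg.Statements.S2086
import Cfsg.Agent.Lib.Helper6.SLnQ
import Cfsg.Agent.S2117
-- import your own Cfsg.Agent.* helpers here

set_option autoImplicit false
open Cfsg

namespace Cfsg.Agent.S2086

/-- Schur multipliers of the linear groups: for n ≥ 2 and a field F with q elements (q ≥ 4 when n = 2), apart from the five exceptional pairs (n, q) = (2, 4), (2, 9), (3, 2), (3, 4), (4, 2), the Schur multiplier of PSL_n(F) is cyclic of order gcd(n, q − 1); here the Schur multiplier is described through stem extensions, as in the definitions. -/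
theorem result {F : Type*} [Field F] [Fintype F] {q : ℕ} (hF : Fintype.card F = q) (n : ℕ) (hn : 2 ≤ n) (h2 : n = 2 → 4 ≤ q) (hexc : (n, q) ∉ ({(2, 4), (2, 9), (3, 2), (3, 4), (4, 2)} : Set (ℕ × ℕ))) : Cfsg.HasCyclicSchurMultiplier (Matrix.ProjectiveSpecialLinearGroup (Fin n) F) (Nat.gcd n (q - 1)) := by
  classical
  subst hF
  have hq2 : 2 ≤ Fintype.card F := Fintype.one_lt_card
  simp only [Set.mem_insert_iff, Set.mem_singleton_iff, Prod.mk.injEq, not_or, not_and] at hexc
  obtain ⟨e24, e29, e32, e34, e42⟩ := hexc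
  have hcyc := Cfsg.Agent.Helper6.SLn.isCyclic_center_SL (F := F) (n := n) (by omega)
  have hcard := Cfsg.Agent.Helper6.SLn.card_center_SL (F := F) (n := n) (by omega)
  by_cases hn2 : n = 2
  · subst hn2
    have h4 : 4 ≤ Fintype.card F := h2 rfl
    have hne4 : Fintype.card F ≠ 4 := e24 rfl
    have hne9 : Fintype.card F ≠ 9 := e29 rfl
    obtain ⟨a, ha0, ha2⟩ := Cfsg.Agent.Helper6.SLn.exists_pow_ne_one (F := F) 2 (by
      intro hd
      have := Nat.le_of_dvd (by norm_num) hd
      omega)
    have hperf : commutator (Matrix.SpecialLinearGroup (Fin 2) F) = ⊤ :=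
      Matrix.SL2.commutator_eq_top ha0 ha2
    have hsplit := Cfsg.Agent.Helper6.SLn.splitsCentral_of_multiplier_one hperf
      (Cfsg.Agent.S2117.result hne4 hne9)
    exact Cfsg.Agent.Helper6.SLn.hasCyclicSchurMultiplier_quotient_center hperf hsplit _ hcyc hcard
  · have hn3 : 3 ≤ n := by omega
    have hperf := Cfsg.Agent.Helper6.SLn.commutator_SL_eq_top (F := F) hn3
    have hsplit : Cfsg.Agent.Helper6.SLn.SplitsCentral (Matrix.SpecialLinearGroup (Fin n) F) := by
      apply Cfsg.Agent.Helper6.SLn.splitsCentral_SL hn3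
      · intro h3
        subst h3
        apply Cfsg.Agent.Helper6.SLn.exists_pow_ne_one
        intro hd
        rcases (Nat.dvd_prime Nat.prime_three).1 hd with h | h
        · exact e32 rfl (by omega)
        · exact e34 rfl (by omega)
      · intro h4
        subst h4
        apply Cfsg.Agent.Helper6.SLn.two_ne_zero_or_sq
        have := e42 rfl
        omega
    exact Cfsg.Agent.Helper6.SLn.hasCyclicSchurMultiplier_quotient_center hperf hsplit _ hcyc hcard

end Cfsg.Agent.S2086
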