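import Cfsg.Statements.S2088
import Cfsg.Agent.Lib.Helper9.L34.Lift

set_option autoImplicit false
open Cfsg

namespace Cfsg.Agent.S2088

/-- Exceptional Schur multiplier: over the field with 4 elements, PSL₃ has Schur multiplier isomorphic to the product of cyclic groups of orders 3, 4 and 4 (order 48, not cyclic; here the Schur multiplier is described through stem extensions, as in the definitions). -/
theorem result {F : Type*} [Field F] [Fintype F] (hF : Fintype.card F = 4) : Cfsg.HasSchurMultiplier (Matrix.ProjectiveSpecialLinearGroup (Fin 3) F) (Multiplicative (ZMod 3 × ZMod 4 × ZMod 4)) := by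
  obtain ⟨-, -, ⟨e⟩⟩ := Cfsg.Agent.Helper9.L34CoverL.ker_structure
  have hker := Cfsg.Agent.Helper9.L34Lift.pi_ker hF
  refine Cfsg.Agent.Helper9.StemCover.hasSchurMultiplier_of_cover
    (Cfsg.Agent.Helper9.L34Lift.pi hF) (Cfsg.Agent.Helper9.L34Lift.pi_surjective hF) ?_ ?_
    ((MulEquiv.subgroupCongr hker).trans e) ?_
  · rw [hker]
    exact Cfsg.Agent.Helper9.L34Cover.ker_le_center
  · rw [Cfsg.Agent.Helper9.L34Cover.commutator_eq_top]
    exact le_top
  · intro Γ _ _ σ hσ
    exact Cfsg.Agent.Helper9.L34Lift.exists_lift hF σ hσ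

end Cfsg.Agent.S2088
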