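import Cfsg.Statements.S2090
import Cfsg.Agent.Lib.Helper9.U43M.CoverL
import Cfsg.Agent.Lib.Helper9.Sz8.StemCover

set_option autoImplicit false
set_option maxRecDepth 1000000
open Cfsg

namespace Cfsg.Agent.S2090

open Cfsg.Agent.Helper9 Cfsg.Agent.Helper9.Stem4 Cfsg.Agent.Helper9.U43M

theorem dvd_of_sq_dvd : ∀ e < 1808, e ^ 2 ∣ 3265920 → e ∣ 216 := by decide +kernel

section

universe w

variable {F : Type w} [Field F] [Fintype F] (hF : Fintype.card F = 9)

/-- The map from the covering group to the projective special unitary group. -/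
noncomputable def pi : pres.PC →* Cfsg.PSU 4 F 3 :=
  (iso hF).toMonoidHom.comp (nu pres)

theorem pi_apply (g : pres.PC) : pi hF g = iso hF (nu pres g) := rfl

theorem pi_ker : (pi hF).ker = (nu pres).ker := by
  ext g
  rw [MonoidHom.mem_ker, MonoidHom.mem_ker, pi_apply]
  exact (iso hF).map_eq_one_iff

end

/-- Exceptional Schur multiplier: PSU₄(3), realised over the field with 9 elements, has Schur multiplier isomorphic to the product of cyclic groups of orders 4, 3 and 3 (order 36, not cyclic; here the Schur multiplier is described through stem extensions, as in the definitions). -/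
theorem result {F : Type*} [Field F] [Fintype F] (hF : Fintype.card F = 9) : Cfsg.HasSchurMultiplier (Cfsg.PSU 4 F 3) (Multiplicative (ZMod 4 × ZMod 3 × ZMod 3)) := by
  obtain ⟨-, -, ⟨e⟩⟩ := ker_structure
  have hker := pi_ker hF
  have hsurj : Function.Surjective (pi hF) := (iso hF).surjective.comp nu_surjective
  refine StemCover.hasSchurMultiplier_of_cover (pi hF) hsurj ?_ ?_
    ((MulEquiv.subgroupCongr hker).trans e) ?_
  · rw [hker]
    exact ker_le_center
  · rw [commutator_eq_top 2 5 a2_mem b5_mem (-2) es0_X es1_X es2_X 1543 5 (by rfl)]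
    exact le_top
  · intro Γ _ _ σ hσ
    obtain ⟨hs, hK, hK'⟩ := hσ
    have hidx : σ.ker.index = 3265920 := by
      rw [Subgroup.index_ker, MonoidHom.range_eq_top.mpr hs, Subgroup.card_top, card_PSU hF]
    have hq : ∀ κ ∈ σ.ker, κ ^ pres.q = 1 := by
      apply pow_eq_one_of_sq_dvd σ.ker hK hK' 216
      intro e he
      rw [hidx] at he
      apply dvd_of_sq_dvd _ _ he
      by_contra hlt
      have h1 : 1808 ≤ e := by omega
      have h2 : 1808 ^ 2 ≤ e ^ 2 := Nat.pow_le_pow_left h1 2
      have h3 := Nat.le_of_dvd (by norm_num) he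
      omega
    refine exists_lift (P := pres) (pi hF) ?_ σ hs hK hq 185 6 (by rfl) (-2) es0_X es1_X
    intro R hR
    rw [pi_apply, nu_z hR, map_one]

end Cfsg.Agent.S2090
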