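import Cfsg.Statements.S2092
import Cfsg.Agent.Lib.Helper6.SpR
import Cfsg.Agent.Lib.Helper6.SLnP
import Cfsg.Agent.Lib.Helper2.SpCenter
import Cfsg.Agent.Lib.Helper2.SympPerfect
import Cfsg.Agent.Lib.Helper2.SpB2E
import Cfsg.Agent.Lib.Helper11.SchurTransport
import Cfsg.Agent.S2400
-- import your own Cfsg.Agent.* helpers here

set_option autoImplicit false
open Cfsg

namespace Cfsg.Agent.S2092

/-- Schur multipliers of the symplectic groups: for m ≥ 2 and a field F with q elements (q ≥ 3 when m = 2), with (m, q) ≠ (3, 2), the Schur multiplier of PSp_2m(F) is cyclic of order gcd(2, q − 1); here the Schur multiplier is described through stem extensions, as in the definitions. -/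
theorem result {F : Type*} [Field F] [Fintype F] {q : ℕ} (hF : Fintype.card F = q) (m : ℕ) (hm : 2 ≤ m) (h2 : m = 2 → 3 ≤ q) (hexc : ¬ (m = 3 ∧ q = 2)) : Cfsg.HasCyclicSchurMultiplier (Cfsg.PSp m F) (Nat.gcd 2 (q - 1)) := by
  subst hF
  classical
  haveI : Nonempty (Fin m) := ⟨⟨0, by omega⟩⟩
  have hq : 2 ≤ Fintype.card F := Fintype.one_lt_card
  have hperf : commutator (Matrix.symplecticGroup (Fin m) F) = ⊤ := by
    apply Cfsg.Agent.Helper2.Symp.commutator_symplecticGroup_eq_top
    by_cases h : m = 2
    · exact Or.inr (Or.inl ⟨h, h2 h⟩)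
    · exact Or.inl (by omega)
  have hsplit : Cfsg.Agent.Helper6.SLn.SplitsCentral (Matrix.symplecticGroup (Fin m) F) := by
    by_cases h : m = 2
    · subst h
      have h3 : 3 ≤ Fintype.card F := h2 rfl
      obtain ⟨e⟩ := Cfsg.Agent.Helper2.SpB2.exists_iso_B2 (K := F) h3
      have hM : Cfsg.HasCyclicSchurMultiplier (Cfsg.Lie.chevB2.SteinbergGroup F) 1 :=
        Cfsg.Agent.S2400.result (K := F) (Cfsg.Lie.chevB2, 2) (by simp) (by
          show Fintype.card F ≠ 2
          omega)
      have hM' : Cfsg.HasCyclicSchurMultiplier (Matrix.symplecticGroup (Fin 2) F) 1 :=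
        Cfsg.Agent.Helper11.SchurTransport.hasSchurMultiplier_of_mulEquiv e.symm hM
      exact Cfsg.Agent.Helper6.SLn.splitsCentral_of_multiplier_one hperf hM'
    · intro P _ _ σ hsurj hker
      apply Cfsg.Agent.Helper6.SpN.exists_section_symplectic σ hker hsurj
      · rw [Fintype.card_fin]
        omega
      · rw [Fintype.card_fin]
        intro hm3
        have hq3 : 3 ≤ Fintype.card F := by
          by_contra hlt
          exact hexc ⟨hm3, by omega⟩
        by_contra hcon
        push Not at hcon
        have hsub : (Finset.univ : Finset F) ⊆ {0, 1} := by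
          intro s _
          by_cases hs : s = 0
          · simp [hs]
          · simp [hcon s hs]
        have := Finset.card_le_card hsub
        rw [Finset.card_univ] at this
        have h2' : ({0, 1} : Finset F).card ≤ 2 := Finset.card_le_two
        omega
  have hcard : Nat.card (Subgroup.center (Matrix.symplecticGroup (Fin m) F)) =
      Nat.gcd 2 (Fintype.card F - 1) := Cfsg.Agent.Helper2.Sp.card_center
  have hcyc : IsCyclic (Subgroup.center (Matrix.symplecticGroup (Fin m) F)) := by
    have hle : Nat.gcd 2 (Fintype.card F - 1) ∣ 2 := Nat.gcd_dvd_left _ _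
    have hcases : Nat.gcd 2 (Fintype.card F - 1) = 1 ∨ Nat.gcd 2 (Fintype.card F - 1) = 2 :=
      (Nat.dvd_prime Nat.prime_two).1 hle
    rcases hcases with h1 | h1
    · rw [h1] at hcard
      haveI : Subsingleton (Subgroup.center (Matrix.symplecticGroup (Fin m) F)) :=
        (Nat.card_eq_one_iff_unique.1 hcard).1
      exact isCyclic_of_subsingleton
    · rw [h1] at hcard
      haveI : Fact (Nat.Prime 2) := ⟨Nat.prime_two⟩
      exact isCyclic_of_prime_card hcard
  exact Cfsg.Agent.Helper6.SLn.hasCyclicSchurMultiplier_quotient_center hperf hsplit _ hcyc hcard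

end Cfsg.Agent.S2092
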