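import Cfsg.Statements.S2101
import Cfsg.Agent.Lib.Helper9.G23M.CoverL
import Cfsg.Agent.Lib.Helper9.Sz8.StemCover

set_option autoImplicit false
set_option maxRecDepth 1000000
open Cfsg

namespace Cfsg.Agent.S2101

open Cfsg.Agent.Helper9 Cfsg.Agent.Helper9.Stem3 Cfsg.Agent.Helper9.G23M

theorem dvd_of_sq_dvd : ∀ e < 2061, e ^ 2 ∣ 4245696 → e ∣ 216 := by decide +kernel

section

universe w

variable {F : Type w} [Field F] [Fintype F] (hF : Fintype.card F = 3)

/-- The map from the covering group to the Chevalley group. -/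
noncomputable def pi : pres.PC →* ↥(Cfsg.Lie.chevG2.group F) :=
  (iso hF).toMonoidHom.comp (nu pres)

theorem pi_apply (g : pres.PC) : pi hF g = iso hF (nu pres g) := rfl

theorem pi_ker : (pi hF).ker = (nu pres).ker := by
  ext g
  rw [MonoidHom.mem_ker, MonoidHom.mem_ker, pi_apply]
  exact (iso hF).map_eq_one_iff

end

/-- Exceptional Schur multiplier: over the field with 3 elements the Chevalley group of type G₂ has Schur multiplier cyclic of order 3 (here the Schur multiplier is described through stem extensions, as in the definitions). -/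
theorem result {F : Type*} [Field F] [Fintype F] (hF : Fintype.card F = 3) : Cfsg.HasCyclicSchurMultiplier ↥(Cfsg.Lie.chevG2.group F) 3 := by
  obtain ⟨e⟩ := ker_structure
  have hker := pi_ker hF
  have hsurj : Function.Surjective (pi hF) := (iso hF).surjective.comp nu_surjective
  refine StemCover.hasSchurMultiplier_of_cover (pi hF) hsurj ?_ ?_
    ((MulEquiv.subgroupCongr hker).trans e) ?_
  · rw [hker]
    exact ker_le_center
  · rw [commutator_eq_top a2_mem es0_X es1_X es2_X 133 4 (by rfl)]
    exact le_top
  · intro Γ _ _ σ hσ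
    obtain ⟨hs, hK, hK'⟩ := hσ
    have hidx : σ.ker.index = 4245696 := by
      rw [Subgroup.index_ker, MonoidHom.range_eq_top.mpr hs, Subgroup.card_top, card_G2 hF]
    have hq : ∀ κ ∈ σ.ker, κ ^ pres.q = 1 := by
      apply pow_eq_one_of_sq_dvd σ.ker hK hK' 216
      intro e he
      rw [hidx] at he
      apply dvd_of_sq_dvd _ _ he
      by_contra hlt
      have h1 : 2061 ≤ e := by omega
      have h2 : 2061 ^ 2 ≤ e ^ 2 := Nat.pow_le_pow_left h1 2
      have h3 := Nat.le_of_dvd (by norm_num) he
      omega
    refine exists_lift (P := pres) (pi hF) ?_ σ hs hK hq 83 5 (by rfl) es0_X es1_X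
    intro R hR
    rw [pi_apply, nu_z hR, map_one]

end Cfsg.Agent.S2101
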