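import Cfsg.Statements.S2105
import Cfsg.Agent.Lib.Helper6.CExtSteinChev
import Cfsg.Agent.Lib.Helper6.CExtE6
import Cfsg.Agent.Lib.Helper6.CExtMult
import Cfsg.Agent.S1079
open Cfsg.Lie Cfsg.Agent.Lead.Chev Cfsg.Agent.Helper6.StC Cfsg.Agent.Helper6.CExt
-- import your own Cfsg.Agent.* helpers here

set_option autoImplicit false
open Cfsg

namespace Cfsg.Agent.S2105

/-- Schur multipliers of the (adjoint, simple) Chevalley groups of type E₆: over a field with q elements the Schur multiplier is cyclic of order gcd(3, q − 1) (here the Schur multiplier is described through stem extensions, as in the definitions). -/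
theorem result {F : Type*} [Field F] [Fintype F] {q : ℕ} (hF : Fintype.card F = q) : Cfsg.HasCyclicSchurMultiplier ↥(Cfsg.Lie.chevE6.group F) (Nat.gcd 3 (q - 1)) := by
  classical
  have hD : chevE6 ∈ [chevG2, chevB2, chevD4, chevF4, chevE6, chevE7, chevE8] := by simp
  have hK : chevE6 ∈ [chevB2, chevG2] → ∃ x : F, x ≠ 0 ∧ x ≠ 1 := by
    intro h
    exfalso
    simp only [List.mem_cons, List.mem_nil_iff, or_false] at h
    rcases h with h | h
    · have := congrArg ChevalleyDatum.rank h
      revert this
      decide
    · have := congrArg ChevalleyDatum.rank h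
      revert this
      decide
  have hcard : Nat.card (Subgroup.center (chevE6.SteinbergGroup F)) = Nat.gcd 3 (q - 1) :=
    Cfsg.Agent.S1079.result (K := F) hF (chevE6, 3) (by simp)
  have hn : Nat.gcd 3 (q - 1) ≠ 0 := by
    intro h
    rw [Nat.gcd_eq_zero_iff] at h
    omega
  have hcyc : IsCyclic (Subgroup.center (chevE6.SteinbergGroup F)) := by
    have hdvd : Nat.gcd 3 (q - 1) ∣ 3 := Nat.gcd_dvd_left _ _
    rcases (Nat.dvd_prime Nat.prime_three).1 hdvd with h1 | h3
    · have hsub : Subsingleton (Subgroup.center (chevE6.SteinbergGroup F)) :=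
        (Nat.card_eq_one_iff_unique.1 (hcard.trans h1)).1
      exact isCyclic_of_subsingleton
    · have : Fact (Nat.Prime 3) := ⟨Nat.prime_three⟩
      exact isCyclic_of_prime_card (hcard.trans h3)
  exact hasCyclicSchurMultiplier_of_cover chevE6 hD hK _ hn
    (fun E _ σ hs hc => exists_cover_hom_stein hD steinTab_E6 σ hs hc) hcyc hcard

end Cfsg.Agent.S2105
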