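import Cfsg.Statements.S2107
import Cfsg.Agent.Lib.Helper6.CExtSteinChev
import Cfsg.Agent.Lib.Helper6.CExtE8
import Cfsg.Agent.Lib.Helper20.Schur
import Cfsg.Agent.S2397
import Cfsg.Agent.S1078
open Cfsg.Lie Cfsg.Agent.Lead.Chev Cfsg.Agent.Helper6.StC Cfsg.Agent.Helper6.CExt
-- import your own Cfsg.Agent.* helpers here

set_option autoImplicit false
open Cfsg

namespace Cfsg.Agent.S2107

/-- Schur multipliers of the Chevalley groups of type E₈: over every finite field the Schur multiplier of E₈(q) is trivial (here the Schur multiplier is described through stem extensions, as in the definitions). -/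
theorem result {F : Type*} [Field F] [Fintype F] : Cfsg.HasCyclicSchurMultiplier ↥(Cfsg.Lie.chevE8.group F) 1 := by
  classical
  have hD : chevE8 ∈ [chevG2, chevB2, chevD4, chevF4, chevE6, chevE7, chevE8] := by simp
  have hK : chevE8 ∈ [chevB2, chevG2] → ∃ x : F, x ≠ 0 ∧ x ≠ 1 := by
    intro h
    exfalso
    simp only [List.mem_cons, List.mem_nil_iff, or_false] at h
    rcases h with h | h
    · have := congrArg ChevalleyDatum.rank h
      revert this
      decide
    · have := congrArg ChevalleyDatum.rank h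
      revert this
      decide
  apply Cfsg.Agent.Helper20.hasCyclicSchurMultiplier_one_of_forall_ker_eq_bot
  intro Γs _ _ σ hσ
  obtain ⟨hs, hcz, hcomm⟩ := hσ
  obtain ⟨τ, hτ⟩ := exists_cover_hom_stein hD steinTab_E8 σ hs hcz
  have hlift := lift_relAB (chevFacts_of_mem (F := F) chevE8 hD)
  have hθgen : ∀ (r : ℕ) (t : F), r < chevE8.nroots →
      thetaG hD (chevE8.steinbergRelsAB F) hlift (chevE8.scGen F r t) = XG hD r t := by
    intro r t hr
    apply Subtype.ext
    rw [thetaG_val]
    exact thetaGL_mk hD (chevE8.steinbergRelsAB F) hlift r t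
  have hcomp : σ.comp τ = thetaG hD (chevE8.steinbergRelsAB F) hlift := by
    apply PresentedGroup.ext
    rintro ⟨r, t⟩
    have e : PresentedGroup.of (rels := chevE8.steinbergRelsAB F) (r, t) = chevE8.scGen F r.val t := by
      unfold ChevalleyDatum.scGen ChevalleyDatum.stX
      rw [dif_pos r.2]
      rfl
    rw [e, MonoidHom.comp_apply, hτ r.val t r.2, hθgen r.val t r.2]
  have hθinj : ∀ d, thetaG hD (chevE8.steinbergRelsAB F) hlift d = 1 → d = 1 := by
    intro d hd
    have h1 : d ∈ Subgroup.center (chevE8.SteinbergCover F) :=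
      thetaG_ker_le hD (chevE8.steinbergRelsAB F) (le_refl _) hlift (MonoidHom.mem_ker.2 hd)
    obtain ⟨e, he⟩ := Cfsg.Agent.S2397.result (K := F) chevE8 hD hK
    have h2 : e d ∈ Subgroup.center (chevE8.SteinbergGroup F) := by
      rw [Subgroup.mem_center_iff] at h1 ⊢
      intro g
      obtain ⟨g', rfl⟩ := e.surjective g
      rw [← map_mul, ← map_mul, h1 g']
    rw [Cfsg.Agent.S1078.result chevE8 (by simp), Subgroup.mem_bot] at h2
    exact e.injective (h2.trans (map_one e).symm)
  have hdecomp : ∀ y : Γs, ∃ d, σ y = σ (τ d) := by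
    intro y
    obtain ⟨d, hd⟩ := thetaG_surjective hD (chevE8.steinbergRelsAB F) hlift (σ y)
    refine ⟨d, ?_⟩
    rw [← MonoidHom.comp_apply, hcomp]
    exact hd.symm
  have hcr : commutator Γs ≤ τ.range := by
    rw [commutator_def, Subgroup.commutator_le]
    intro a _ b _
    obtain ⟨d₁, h₁⟩ := hdecomp a
    obtain ⟨d₂, h₂⟩ := hdecomp b
    rw [commutatorElement_def, comm_eq σ hcz a (τ d₁) b (τ d₂) h₁ h₂]
    exact ⟨d₁ * d₂ * d₁⁻¹ * d₂⁻¹, by simp only [map_mul, map_inv]⟩
  rw [eq_bot_iff]
  intro z hz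
  obtain ⟨d, rfl⟩ := hcr (hcomm hz)
  rw [MonoidHom.mem_ker, ← MonoidHom.comp_apply, hcomp] at hz
  rw [Subgroup.mem_bot, hθinj d hz, map_one]

end Cfsg.Agent.S2107
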