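import Mathlib
import Cfsg.Statements.S2111
import Cfsg.Agent.Lib.Helper20.SchurSzE
import Cfsg.Agent.Lib.Helper2.SzBridge

set_option autoImplicit false
open Cfsg

namespace Cfsg.Agent.S2111

open Cfsg.Agent.Helper20.SchurSz Cfsg.Agent.Helper29.StemSylow Cfsg.Agent.Helper2.Sz

universe u

/-- a group all of whose finite stem extensions are isomorphisms has trivial Schur multiplier -/
theorem hasCyclic_one_of_forall {G : Type u} [Group G] [Finite G]
    (h : ∀ (Γ : Type u) [Group Γ] [Finite Γ] (σ : Γ →* G), IsStemExtension σ → σ.ker = ⊥) :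
    HasCyclicSchurMultiplier G 1 := by
  constructor
  · refine ⟨G, inferInstance, inferInstance, MonoidHom.id _,
      ⟨Function.surjective_id, ?_, ?_⟩, ⟨?_⟩⟩
    · rw [MonoidHom.ker_id]
      exact bot_le
    · rw [MonoidHom.ker_id]
      exact bot_le
    · haveI : Unique (MonoidHom.id G).ker := by
        rw [MonoidHom.ker_id]
        infer_instance
      haveI : Unique (Multiplicative (ZMod 1)) :=
        ⟨⟨1⟩, fun a => Subsingleton.elim (α := ZMod 1) _ _⟩
      exact MulEquiv.ofUnique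
  · intro Γ _ _ σ hσ
    have hker := h Γ σ hσ
    refine ⟨1, ?_⟩
    intro x
    refine ⟨1, ?_⟩
    apply Subtype.ext
    have hx : (x : Γ) ∈ (⊥ : Subgroup Γ) := by
      rw [← hker]
      exact x.2
    rw [Subgroup.mem_bot] at hx
    rw [hx]
    rfl

/-- transport along an isomorphism -/
theorem ker_eq_bot_of_equiv {G G' : Type u} [Group G] [Group G'] (e : G ≃* G')
    (h : ∀ (Γ : Type u) [Group Γ] [Finite Γ] (σ : Γ →* G), IsStemExtension σ → σ.ker = ⊥) :
    ∀ (Γ : Type u) [Group Γ] [Finite Γ] (σ : Γ →* G'), IsStemExtension σ → σ.ker = ⊥ := by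
  intro Γ _ _ σ hσ
  obtain ⟨hs, hK, hK'⟩ := hσ
  have hker : (e.symm.toMonoidHom.comp σ).ker = σ.ker := by
    ext x
    rw [MonoidHom.mem_ker, MonoidHom.mem_ker, MonoidHom.comp_apply]
    exact e.symm.map_eq_one_iff
  have := h Γ (e.symm.toMonoidHom.comp σ) ⟨e.symm.surjective.comp hs, by rw [hker]; exact hK,
    by rw [hker]; exact hK'⟩
  rw [← hker]
  exact this

/-- Schur multipliers of the Suzuki groups: for q = 2^(2m+1) with m ≥ 2 the Schur multiplier of Sz(q) is trivial (here the Schur multiplier is described through stem extensions, as in the definitions); q = 8 is exceptional. -/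
theorem result {F : Type*} [Field F] [Fintype F] {m : ℕ} (hm : 2 ≤ m) (hF : Fintype.card F = 2 ^ (2 * m + 1)) : Cfsg.HasCyclicSchurMultiplier ↥(Cfsg.Lie.Sz F (2 ^ (m + 1))) 1 := by
  classical
  have hm1 : 1 ≤ m := by omega
  obtain ⟨S⟩ := nonempty_szData (m := m) hF
  obtain ⟨e⟩ := nonempty_bridge (F := F) hm1 hF
  apply hasCyclic_one_of_forall
  apply ker_eq_bot_of_equiv e
  intro Γ _ _ σ hσ
  obtain ⟨hs, hK, hK'⟩ := hσ
  apply ker_eq_bot_of_local σ hs hK hK'
  intro r hr
  by_cases hr2 : r = 2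
  · subst hr2
    exact local_two_Sz S hm hF σ hs hK
  · by_cases hrG : r ∣ Nat.card (Cfsg.Sz F m)
    · exact local_odd_Sz S hm1 hF σ hs hK r hr hr2 hrG
    · apply local_of_not_sq_dvd σ hs hK r hr
      intro h
      exact hrG (dvd_trans (dvd_pow_self r two_ne_zero) h)

end Cfsg.Agent.S2111
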