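import Cfsg.Statements.S2112
import Cfsg.Agent.Lib.Helper9.Sz8.Lift

set_option autoImplicit false
open Cfsg

namespace Cfsg.Agent.S2112

/-- Exceptional Schur multiplier: the Suzuki group Sz(8), built over the field with 8 elements using the map x ↦ x⁴, has Schur multiplier a four-group, the product of two cyclic groups of order 2 (here the Schur multiplier is described through stem extensions, as in the definitions). -/
theorem result {F : Type*} [Field F] [Fintype F] (hF : Fintype.card F = 8) : Cfsg.HasSchurMultiplier ↥(Cfsg.Lie.Sz F 4) (Multiplicative (ZMod 2 × ZMod 2)) := by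
  obtain ⟨e⟩ := Cfsg.Agent.Helper9.Sz8Cover.nonempty_ker_equiv
  have hker := Cfsg.Agent.Helper9.Sz8Lift.pi_ker hF
  refine Cfsg.Agent.Helper9.StemCover.hasSchurMultiplier_of_cover
    (Cfsg.Agent.Helper9.Sz8Lift.pi hF) (Cfsg.Agent.Helper9.Sz8Lift.pi_surjective hF) ?_ ?_
    ((MulEquiv.subgroupCongr hker).trans e) ?_
  · rw [hker]
    exact Cfsg.Agent.Helper9.Sz8Cover.ker_le_center
  · rw [Cfsg.Agent.Helper9.Sz8Cover.commutator_eq_top]
    exact le_top
  · intro Γ _ _ σ hσ
    exact Cfsg.Agent.Helper9.Sz8Lift.exists_lift hF σ hσ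

end Cfsg.Agent.S2112
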