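import Mathlib
import Cfsg.Statements.S2113
import Cfsg.Agent.Lib.Helper20.Schur
import Cfsg.Agent.Lib.Helper2.ReeStem4

set_option autoImplicit false
open Cfsg

namespace Cfsg.Agent.S2113

open Cfsg.Agent.Helper29.StemSylow Cfsg.Agent.Helper2.Ree

/-- Schur multipliers of the small Ree groups: for q = 3^(2m+1) with m ≥ 1 the Schur multiplier of ²G₂(q) is trivial (here the Schur multiplier is described through stem extensions, as in the definitions). -/
theorem result {K : Type*} [Field K] [Fintype K] {m : ℕ} (hm : 1 ≤ m) (hK : Fintype.card K = 3 ^ (2 * m + 1)) : Cfsg.HasCyclicSchurMultiplier ↥(Cfsg.Lie.twistedG2 K (3 ^ m)) 1 := by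
  classical
  obtain ⟨hc, hperf, f, hf⟩ := Cfsg.Agent.Lead.Tw.exists_ree_setup 3 Nat.prime_three m hK
  have : CharP K 3 := hc
  apply Cfsg.Agent.Helper20.hasCyclicSchurMultiplier_one_of_forall_ker_eq_bot
  intro Γ _ _ σ hσ
  obtain ⟨hs, hKc, hK'⟩ := hσ
  apply ker_eq_bot_of_local σ hs hKc hK'
  intro p hp
  by_cases h2 : p = 2
  · subst h2
    exact local_two hK hperf f hf hm σ hs hKc
  · by_cases h3 : p = 3
    · subst h3
      exact local_three hK hperf f hf hm σ hs hKc
    · have hp3 : 3 < p := by
        have := hp.two_le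
        omega
      exact local_big hK hperf f hf hm σ hs hKc p hp hp3

end Cfsg.Agent.S2113
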