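import Cfsg.Statements.S2115
import Cfsg.Agent.Lib.Helper9.TitsM.CoverU
import Cfsg.Agent.Lib.Helper9.Sz8.StemCover

set_option autoImplicit false
set_option maxRecDepth 1000000
open Cfsg

namespace Cfsg.Agent.S2115

open Cfsg.Agent.Helper9 Cfsg.Agent.Helper9.Stem3 Cfsg.Agent.Helper9.TitsM

theorem dvd_of_sq_dvd : ∀ e < 4240, e ^ 2 ∣ 17971200 → e ∣ 480 := by decide +kernel

theorem zmod_one_subsingleton : Subsingleton (Multiplicative (ZMod 1)) := by
  refine ⟨fun x y => ?_⟩
  have h : ∀ x y : ZMod 1, x = y := by decide
  exact h x y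

/-- The map from the covering group to the Tits group. -/
noncomputable def pi : pres.PC →* Cfsg.Lie.TitsGroup := isoPS.toMonoidHom.comp (nu pres)

theorem pi_apply (g : pres.PC) : pi g = isoPS (nu pres g) := rfl

theorem pi_ker : pi.ker = ⊥ := by
  ext g
  rw [MonoidHom.mem_ker, Subgroup.mem_bot, pi_apply, isoPS.map_eq_one_iff, ← MonoidHom.mem_ker,
    ker_eq_bot, Subgroup.mem_bot]

/-- The Tits group, the commutator subgroup of ²F₄(2), has trivial Schur multiplier (here the Schur multiplier is described through stem extensions, as in the definitions). -/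
theorem result : Cfsg.HasCyclicSchurMultiplier Cfsg.Lie.TitsGroup 1 := by
  have hsurj : Function.Surjective pi := isoPS.surjective.comp nu_surjective
  have e : pi.ker ≃* Multiplicative (ZMod 1) := by
    haveI : Subsingleton pi.ker := by
      rw [pi_ker]
      infer_instance
    haveI := zmod_one_subsingleton
    exact
      { toFun := fun _ => 1
        invFun := fun _ => 1
        left_inv := fun _ => Subsingleton.elim _ _
        right_inv := fun _ => Subsingleton.elim _ _
        map_mul' := fun _ _ => Subsingleton.elim _ _ }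
  refine StemCover.hasSchurMultiplier_of_cover pi hsurj ?_ ?_ e ?_
  · rw [pi_ker]
    exact bot_le
  · rw [pi_ker]
    exact bot_le
  · intro Γ _ _ σ hσ
    obtain ⟨hs, hK, hK'⟩ := hσ
    have hidx : σ.ker.index = 17971200 := by
      rw [Subgroup.index_ker, MonoidHom.range_eq_top.mpr hs, Subgroup.card_top, card_TitsGroup]
    have hq : ∀ κ ∈ σ.ker, κ ^ pres.q = 1 := by
      apply pow_eq_one_of_sq_dvd σ.ker hK hK' 480
      intro e he
      rw [hidx] at he
      apply dvd_of_sq_dvd _ _ he
      by_contra hlt
      have h1 : 4240 ≤ e := by omega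
      have h2 : 4240 ^ 2 ≤ e ^ 2 := Nat.pow_le_pow_left h1 2
      have h3 := Nat.le_of_dvd (by norm_num) he
      omega
    refine exists_lift (P := pres) pi ?_ σ hs hK hq 443 12 (by rfl) es0_X es1_X
    intro R hR
    rw [pi_apply, nu_z hR, map_one]

end Cfsg.Agent.S2115
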