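import Mathlib
import Cfsg.Statements.S2118
import Cfsg.Agent.S0254
import Cfsg.Agent.Lib.Helper29.SL34Pull
import Cfsg.Agent.Lib.Helper29.SchurSL29

set_option autoImplicit false
open Cfsg

namespace Cfsg.Agent.S2118

/-- For the field with 9 elements, the special linear group SL₂ has Schur multiplier cyclic of order 3 (here the Schur multiplier is described through stem extensions, as in the definitions). -/
theorem result {F : Type*} [Field F] [Fintype F] (hF : Fintype.card F = 9) : Cfsg.HasCyclicSchurMultiplier (Matrix.SpecialLinearGroup (Fin 2) F) 3 := by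
  have hcond : ∃ a : F, a ≠ 0 ∧ a ^ 2 ≠ 1 := by
    obtain ⟨x, hx⟩ : IsCyclic Fˣ := inferInstance
    refine ⟨x, Units.ne_zero x, fun h => ?_⟩
    have h2 : x ^ 2 = 1 := Units.ext (by simpa using h)
    have hle := orderOf_le_of_pow_eq_one (by norm_num : 0 < 2) h2
    have hc : orderOf x = Nat.card Fˣ := orderOf_eq_card_of_forall_mem_zpowers hx
    rw [Cfsg.Agent.Helper2.card_units_field, hF] at hc
    omega
  obtain ⟨a0, ha0, hasq⟩ := hcond
  refine ⟨?_, ?_⟩
  · obtain ⟨e⟩ := Cfsg.Agent.S0254.result hF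
    have hperf : commutator (Matrix.SpecialLinearGroup (Fin 2) F) = ⊤ :=
      Matrix.SL2.commutator_eq_top ha0 hasq
    have hfin : Finite (Matrix.SpecialLinearGroup (Fin 2) F) := inferInstance
    obtain ⟨ψ, hψ⟩ : ∃ ψ : Matrix.SpecialLinearGroup (Fin 2) F →*
        Matrix.ProjectiveSpecialLinearGroup (Fin 2) F,
        ψ = QuotientGroup.mk' (Subgroup.center (Matrix.SpecialLinearGroup (Fin 2) F)) := ⟨_, rfl⟩
    have hψs : Function.Surjective ψ := by
      rw [hψ]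
      exact QuotientGroup.mk'_surjective _
    have hψk : ∀ s ∈ ψ.ker, s * s = 1 := by
      intro s hs
      rw [hψ, QuotientGroup.ker_mk', Matrix.SpecialLinearGroup.mem_center_iff] at hs
      obtain ⟨r, hr, hrs⟩ := hs
      rw [Fintype.card_fin] at hr
      apply Subtype.ext
      rw [Matrix.SpecialLinearGroup.coe_mul, ← hrs, ← map_mul, ← pow_two, hr, map_one]
      rfl
    obtain ⟨Γ, i1, i2, σ, hσ, hf⟩ := Cfsg.Agent.Helper29.SL34Pull.exists_stem hperf ψ hψs hψk e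
    exact ⟨Γ, i1, i2, σ, hσ, hf⟩
  · intro Γ _ _ σ hσ
    obtain ⟨γ, hγ3, hker⟩ := Cfsg.Agent.Helper29.SchurSL29.ker_eq_zpowers' hF σ hσ
    have hγK : γ ∈ σ.ker := by rw [hker]; exact Subgroup.mem_zpowers γ
    obtain ⟨γ', hγ'⟩ : ∃ γ' : σ.ker, γ' = ⟨γ, hγK⟩ := ⟨_, rfl⟩
    have hγ'3 : γ' ^ 3 = 1 := by
      rw [hγ']
      exact Subtype.ext hγ3
    obtain ⟨f, hf⟩ : ∃ f : ℤ →+ Additive σ.ker, f = zmultiplesHom _ (Additive.ofMul γ') := ⟨_, rfl⟩
    have hf1 : ∀ k : ℤ, f k = Additive.ofMul (γ' ^ k) := by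
      intro k
      rw [hf, zmultiplesHom_apply, ofMul_zpow]
    have hf2 : f (3 : ℕ) = 0 := by
      have h := hf1 3
      rw [show ((3 : ℤ)) = ((3 : ℕ) : ℤ) from rfl, zpow_natCast, hγ'3] at h
      exact h
    refine ⟨AddMonoidHom.toMultiplicativeLeft (ZMod.lift 3 ⟨f, hf2⟩), ?_⟩
    intro x
    have hx : (x : Γ) ∈ Subgroup.zpowers γ := by rw [← hker]; exact x.2
    obtain ⟨k, hk⟩ := Subgroup.mem_zpowers_iff.1 hx
    refine ⟨Multiplicative.ofAdd ((k : ℤ) : ZMod 3), ?_⟩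
    rw [AddMonoidHom.coe_toMultiplicativeLeft]
    show Additive.toMul ((ZMod.lift 3 ⟨f, hf2⟩) ((k : ℤ) : ZMod 3)) = x
    rw [ZMod.lift_coe, hf1]
    apply Subtype.ext
    rw [toMul_ofMul, Subgroup.coe_zpow, hγ']
    exact hk

end Cfsg.Agent.S2118
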