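import Cfsg.Statements.S2121
import Mathlib
import Cfsg.Agent.Lib.Helper6.OutG2
import Cfsg.Agent.Lib.Helper6.OutQuot
import Cfsg.Agent.Lib.Helper2.OutCongr
-- import your own Cfsg.Agent.* helpers here

set_option autoImplicit false
open Cfsg

namespace Cfsg.Agent.S2121

/-- Outer automorphisms of the Chevalley groups of type G₂: over a field with q = p^f (p prime) ≥ 3 elements, the outer automorphism group of G₂(q) has order f when p ≠ 3 and 2f when p = 3 (field automorphisms, and in characteristic 3 also the exceptional graph automorphism). -/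
theorem result {F : Type*} [Field F] [Fintype F] (p f : ℕ) [Fact p.Prime] [CharP F p] (hF : Fintype.card F = p ^ f) (hq : 3 ≤ p ^ f) : Nat.card (Cfsg.Out ↥(Cfsg.Lie.chevG2.group F)) = (if p = 3 then 2 * f else f) := by
  have hD : Cfsg.Lie.chevG2 ∈ [Cfsg.Lie.chevG2, Cfsg.Lie.chevB2, Cfsg.Lie.chevD4, Cfsg.Lie.chevF4,
      Cfsg.Lie.chevE6, Cfsg.Lie.chevE7, Cfsg.Lie.chevE8] := by simp
  rw [Cfsg.Agent.Helper6.OutCount.card_out (F := F) hD]
  have h1 : Nat.card (Cfsg.Agent.Helper6.OutCount.Sym Cfsg.Lie.chevG2 F) = if p = 3 then 2 else 1 := by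
    rw [Cfsg.Agent.Helper6.OutG2.card_sym (by rw [hF]; exact hq), ringChar.eq F p]
  have h2 : Nat.card (F ≃+* F) = f := Cfsg.Agent.Helper2.OutCongr.card_ringEquiv hF
  have h3 : Nat.card ((Fin Cfsg.Lie.chevG2.rank → Fˣ) ⧸
      (Cfsg.Agent.Helper6.OutCount.cartanHom Cfsg.Lie.chevG2 F).range) = 1 :=
    Cfsg.Agent.Helper6.OutQuot.card_quot hD _ Cfsg.Agent.Lead.Chev.rootCoef_G2 1
      (Cfsg.Agent.S1035.result (F := F) rfl (Cfsg.Lie.chevG2, 1) (by simp))
  rw [h1, h2, h3]
  split_ifs <;> ring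

end Cfsg.Agent.S2121
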