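import Cfsg.Statements.S2123
import Mathlib
import Cfsg.Agent.Lib.Helper6.OutE6
import Cfsg.Agent.Lib.Helper6.OutQuot
import Cfsg.Agent.Lib.Helper2.OutCongr
-- import your own Cfsg.Agent.* helpers here

set_option autoImplicit false
open Cfsg

namespace Cfsg.Agent.S2123

/-- Outer automorphisms of the (adjoint, simple) Chevalley groups of type E₆: over a field with q = p^f (p prime) elements, the outer automorphism group of E₆(q) has order 2 · gcd(3, q − 1) · f (diagonal, field and graph automorphisms). -/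
theorem result {F : Type*} [Field F] [Fintype F] (p f : ℕ) [Fact p.Prime] [CharP F p] (hF : Fintype.card F = p ^ f) : Nat.card (Cfsg.Out ↥(Cfsg.Lie.chevE6.group F)) = 2 * Nat.gcd 3 (p ^ f - 1) * f := by
  have hD : Cfsg.Lie.chevE6 ∈ [Cfsg.Lie.chevG2, Cfsg.Lie.chevB2, Cfsg.Lie.chevD4, Cfsg.Lie.chevF4,
      Cfsg.Lie.chevE6, Cfsg.Lie.chevE7, Cfsg.Lie.chevE8] := by simp
  rw [Cfsg.Agent.Helper6.OutCount.card_out (F := F) hD]
  have h1 : Nat.card (Cfsg.Agent.Helper6.OutCount.Sym Cfsg.Lie.chevE6 F) = 2 :=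
    Cfsg.Agent.Helper6.OutE6.card_sym
  have h2 : Nat.card (F ≃+* F) = f := Cfsg.Agent.Helper2.OutCongr.card_ringEquiv hF
  have h3 : Nat.card ((Fin Cfsg.Lie.chevE6.rank → Fˣ) ⧸
      (Cfsg.Agent.Helper6.OutCount.cartanHom Cfsg.Lie.chevE6 F).range) = Nat.gcd 3 (p ^ f - 1) :=
    Cfsg.Agent.Helper6.OutQuot.card_quot hD _ Cfsg.Agent.Lead.Chev.rootCoef_E6 _
      (by
        have := Cfsg.Agent.S1035.result (F := F) hF (Cfsg.Lie.chevE6, Nat.gcd 3 (p ^ f - 1)) (by simp)
        rw [hF]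
        exact this)
  rw [h1, h2, h3]
  ring

end Cfsg.Agent.S2123
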