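import Cfsg.Statements.S2131
import Cfsg.Agent.Lib.Helper26.J1Cent

set_option autoImplicit false
open Cfsg

namespace Cfsg.Agent.S2131

open Cfsg.Agent.Helper26 Cfsg.Agent.Helper26.J1A Cfsg.Agent.Helper26.J1G
  Cfsg.Agent.Helper26.J1CD Cfsg.Agent.Helper26.J1Z

/-- The Janko group J₁ (the group generated by two explicit 7 × 7 matrices over the integers modulo 11) has an involution whose centraliser is isomorphic to the direct product of a group of order 2 with the alternating group of degree 5. -/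
theorem result : ∃ t : ↥Cfsg.Spor.J1, orderOf t = 2 ∧ Nonempty (↥(Subgroup.centralizer ({t} : Set ↥Cfsg.Spor.J1)) ≃* Multiplicative (ZMod 2) × ↥(alternatingGroup (Fin 5))) := by
  have hJ : Cfsg.Spor.J1 = Subgroup.closure SG := rfl
  have hcardJ : Nat.card ↥Cfsg.Spor.J1 = 175560 := by rw [hJ]; exact card_J1
  have : Finite ↥Cfsg.Spor.J1 := Nat.finite_of_card_ne_zero (by rw [hcardJ]; norm_num)
  let tJ : ↥Cfsg.Spor.J1 := ⟨tA, tA_mem⟩
  have htord : orderOf tJ = 2 := by
    have : Fact (Nat.Prime 2) := ⟨Nat.prime_two⟩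
    apply orderOf_eq_prime
    · exact Subtype.ext tA_sq
    · intro h
      exact tA_ne (congrArg Subtype.val h)
  refine ⟨tJ, htord, ?_⟩
  -- the bound on the centralizer
  have hex : ∀ j : ℕ, ∃ g : ↥Cfsg.Spor.J1, j < nC →
      (((g * tJ * g⁻¹ : ↥Cfsg.Spor.J1) : GL (Fin 7) (ZMod 11)) : M7) = decM (CT j) := by
    intro j
    by_cases hj : j < nC
    · obtain ⟨g, hg, hgv⟩ := conj_exists j hj
      exact ⟨⟨g, hg⟩, fun _ => hgv⟩
    · exact ⟨1, fun h => absurd h hj⟩
  choose gg hgg using hex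
  have hbound : Nat.card (Subgroup.centralizer ({tJ} : Set ↥Cfsg.Spor.J1)) * nC ≤
      Nat.card ↥Cfsg.Spor.J1 := by
    apply CentProd.card_centralizer_mul_le tJ nC gg
    intro i hi j hj h
    apply CKEY_inj i hi j hj
    rw [← CT_key i hi, ← CT_key j hj, ← hgg i hi, ← hgg j hj, h]
  have hC120 : Nat.card (Subgroup.centralizer ({tJ} : Set ↥Cfsg.Spor.J1)) ≤ 120 := by
    rw [hcardJ] at hbound
    have : nC = 1463 := rfl
    rw [this] at hbound
    omega
  -- the subgroup of order 60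
  let B : Subgroup ↥Cfsg.Spor.J1 := (Subgroup.closure S0).subgroupOf Cfsg.Spor.J1
  have eB : ↥B ≃* ↥(Subgroup.closure S0) := Subgroup.subgroupOfEquivOfLe (hJ ▸ S0_le)
  have hBcard : Nat.card B = 60 := by
    rw [Nat.card_congr eB.toEquiv]; exact level0.2
  have hB : B ≤ Subgroup.centralizer ({tJ} : Set ↥Cfsg.Spor.J1) := by
    intro g hg
    have h1 : (g : GL (Fin 7) (ZMod 11)) ∈ Subgroup.closure S0 := Subgroup.mem_subgroupOf.1 hg
    have h2 := S0_le_centralizer h1
    rw [Subgroup.mem_centralizer_iff] at h2 ⊢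
    intro h hh
    rw [Set.mem_singleton_iff] at hh
    rw [hh]
    apply Subtype.ext
    exact h2 tA rfl
  have htB : tJ ∉ B := by
    intro h
    exact tA_not_mem (Subgroup.mem_subgroupOf.1 h)
  obtain ⟨e⟩ := CentProd.centralizer_equiv_prod tJ htord B hB htB (by rw [hBcard]; exact hC120)
  obtain ⟨e5⟩ := A0_equiv
  exact ⟨e.trans (MulEquiv.prodCongr (MulEquiv.refl _) (eB.trans e5))⟩

end Cfsg.Agent.S2131
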