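import Mathlib
import Cfsg.Statements.S2132
import Cfsg.Agent.Lib.Helper29.McLCenA

set_option autoImplicit false
open Cfsg

namespace Cfsg.Agent.S2132

/-- The McLaughlin group (as a two-vector stabiliser in the automorphism group of the rank-24 lattice) has a single conjugacy class of involutions, and the centraliser of an involution is a non-split double cover of the alternating group of degree 8. -/
theorem result : (∀ x y : ↥Cfsg.Spor.McL, orderOf x = 2 → orderOf y = 2 → IsConj x y) ∧ ∃ t : ↥Cfsg.Spor.McL, orderOf t = 2 ∧ Cfsg.IsNonsplitDoubleCover ↥(Subgroup.centralizer ({t} : Set ↥Cfsg.Spor.McL)) ↥(alternatingGroup (Fin 8)) := by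
  obtain ⟨e⟩ := Cfsg.Agent.Helper29.McLM.iso_McL
  haveI : Finite ↥Cfsg.Spor.McL := Finite.of_equiv _ e.toEquiv
  constructor
  · intro x y hx hy
    have inv : ∀ z : ↥Cfsg.Spor.McL, orderOf z = 2 → e.symm z * e.symm z = 1 ∧ e.symm z ≠ 1 := by
      intro z hz
      have hz2 : z * z = 1 := by
        rw [← pow_two, ← hz]
        exact pow_orderOf_eq_one z
      constructor
      · rw [← map_mul, hz2, map_one]
      · intro h
        have h1 : z = 1 := by rw [← e.apply_symm_apply z, h, map_one]
        rw [h1, orderOf_one] at hz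
        norm_num at hz
    obtain ⟨hx2, hx1⟩ := inv x hx
    obtain ⟨hy2, hy1⟩ := inv y hy
    obtain ⟨g, hg⟩ := Cfsg.Agent.Helper29.McLF.conj_invol _ _ hx2 hx1 hy2 hy1
    rw [isConj_iff]
    refine ⟨e g, ?_⟩
    have h := congrArg e hg
    rw [map_mul, map_mul, map_inv, e.apply_symm_apply, e.apply_symm_apply] at h
    exact h
  · refine ⟨e Cfsg.Agent.Helper29.McLF.tE, ?_, ?_⟩
    · apply orderOf_eq_prime
      · rw [pow_two, ← map_mul, Cfsg.Agent.Helper29.McLC.tE_sq, map_one]
      · intro h
        apply Cfsg.Agent.Helper29.McLC.tE_ne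
        apply e.injective
        rw [h, map_one]
    · exact Cfsg.Agent.Helper29.McLCG.nonsplit_of_equiv
        (Cfsg.Agent.Helper29.McLCG.centMap e Cfsg.Agent.Helper29.McLF.tE)
        Cfsg.Agent.Helper29.McLC.tC Cfsg.Agent.Helper29.McLC.tC_central
        Cfsg.Agent.Helper29.McLC.tC_sq Cfsg.Agent.Helper29.McLC.tC_ne
        Cfsg.Agent.Helper29.McLC.card_Ct Cfsg.Agent.Helper29.McLC.cC
        Cfsg.Agent.Helper29.McLC.hrel Cfsg.Agent.Helper29.McLC.cC0_ne
        Cfsg.Agent.Helper29.McLC.gC Cfsg.Agent.Helper29.McLC.gC_sq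

end Cfsg.Agent.S2132
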