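import Mathlib
import Cfsg.Statements.S2136
import Cfsg.Agent.Lib.Helper15.C2Q

set_option autoImplicit false
open Cfsg

namespace Cfsg.Agent.S2136

open Cfsg.Agent.Helper27 Cfsg.Agent.Helper15.C2I MulAction

lemma t0_fix : t0 • Spor.leechU = Spor.leechU := by
  apply Subtype.ext
  rw [t0_smul]
  exact sc_fix_of_supp vecU_supp

/-- the involution, as an element of the second Conway group. -/
def tt : ↥Spor.Co2 :=
  ⟨t0.1, Subgroup.mem_inf.mpr ⟨t0.2, MulAction.mem_stabilizer_iff.mpr t0_fix⟩⟩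

lemma Co2_le : Spor.Co2 ≤ Cfsg.Co0 := by
  unfold Spor.Co2
  exact inf_le_left

/-- the centraliser in the second Conway group, mapped into the full automorphism group. -/
def jj : ↥(Subgroup.centralizer ({tt} : Set ↥Spor.Co2)) →* Co0 :=
  (Subgroup.inclusion Co2_le).comp
    (Subgroup.centralizer ({tt} : Set ↥Spor.Co2)).subtype

lemma jj_injective : Function.Injective jj := by
  intro a b h
  apply Subtype.ext
  apply Subtype.ext
  exact congrArg (fun x : Co0 => (x : Equiv.Perm leechLattice)) h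

lemma jj_tt : (Subgroup.inclusion Co2_le) tt = t0 := rfl

lemma jj_mem (c : ↥(Subgroup.centralizer ({tt} : Set ↥Spor.Co2))) : jj c ∈ C0 := by
  rw [mem_C0]
  constructor
  · exact MulAction.mem_stabilizer_iff.mp (Subgroup.mem_inf.mp c.1.2).2
  · have h := (Subgroup.mem_centralizer_iff.mp c.2) tt rfl
    have h2 : (Subgroup.inclusion Co2_le) (tt * c.1) =
        (Subgroup.inclusion Co2_le) (c.1 * tt) := by rw [h]
    rw [map_mul, map_mul, jj_tt] at h2
    exact h2.symm

/-- the centraliser as the subgroup `C₀`. -/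
def ee : ↥(Subgroup.centralizer ({tt} : Set ↥Spor.Co2)) →* ↥C0 := jj.codRestrict C0 jj_mem

lemma ee_val (c : ↥(Subgroup.centralizer ({tt} : Set ↥Spor.Co2))) : (ee c : Co0) = jj c := rfl

lemma ee_surjective : Function.Surjective ee := by
  intro g
  obtain ⟨h1, h2⟩ := mem_C0.mp g.2
  have hm : g.1.1 ∈ Spor.Co2 :=
    Subgroup.mem_inf.mpr ⟨g.1.2, MulAction.mem_stabilizer_iff.mpr h1⟩
  have hc : (⟨g.1.1, hm⟩ : ↥Spor.Co2) ∈ Subgroup.centralizer ({tt} : Set ↥Spor.Co2) := by
    rw [Subgroup.mem_centralizer_iff]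
    intro h hh
    rw [Set.mem_singleton_iff.mp hh]
    apply Subtype.ext
    exact congrArg (fun x : Co0 => (x : Equiv.Perm leechLattice)) h2.symm
  refine ⟨⟨⟨g.1.1, hm⟩, hc⟩, ?_⟩
  apply Subtype.ext
  apply Subtype.ext
  rfl

/-- The Conway group Co₂ (the stabiliser of a minimal vector of the rank-24 lattice) has an involution whose centraliser C has largest normal 2-subgroup extraspecial of order 2^9 with quotient C / O₂(C) isomorphic to the symplectic group Sp(6, 2) (shape 2^{1+8}Sp(6, 2)). -/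
theorem result : ∃ t : ↥Cfsg.Spor.Co2, orderOf t = 2 ∧ Cfsg.IsExtraspecial 2 (Cfsg.pCore 2 ↥(Subgroup.centralizer ({t} : Set ↥Cfsg.Spor.Co2))) ∧ Nat.card (Cfsg.pCore 2 ↥(Subgroup.centralizer ({t} : Set ↥Cfsg.Spor.Co2))) = 2 ^ 9 ∧ Nonempty (↥(Subgroup.centralizer ({t} : Set ↥Cfsg.Spor.Co2)) ⧸ Cfsg.pCore 2 ↥(Subgroup.centralizer ({t} : Set ↥Cfsg.Spor.Co2)) ≃* Matrix.symplecticGroup (Fin 3) (ZMod 2)) := by
  obtain ⟨ψ, hψ⟩ := exists_psi
  have hsψ := psi_surjective ψ hψ
  set ψ' : ↥(Subgroup.centralizer ({tt} : Set ↥Spor.Co2)) →* Matrix.symplecticGroup (Fin 3) (ZMod 2) :=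
    ψ.comp ee with hψ'
  have hs : Function.Surjective ψ' := hsψ.comp ee_surjective
  have hker : ∀ c, c ∈ ψ'.ker ↔ jj c ∈ KK := by
    intro c
    rw [MonoidHom.mem_ker]
    show ψ (ee c) = 1 ↔ _
    rw [psi_eq_one_iff ψ hψ, ee_val]
  let ι : ↥ψ'.ker →* Co0 := jj.comp ψ'.ker.subtype
  have hι : Function.Injective ι := jj_injective.comp Subtype.val_injective
  have hr : Set.range ι = KK := by
    ext y
    constructor
    · rintro ⟨x, rfl⟩
      exact (hker x.1).mp x.2
    · intro hy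
      obtain ⟨c, hc⟩ := ee_surjective ⟨y, (KK_sub hy).1⟩
      have hc' : jj c = y := by rw [← ee_val, hc]
      exact ⟨⟨c, (hker c).mpr (by rw [hc']; exact hy)⟩, hc'⟩
  obtain ⟨hE, hcard⟩ := extraspecial_of_embedding ι hι hr
  have hk : IsPGroup 2 ψ'.ker := IsPGroup.of_card hcard
  have hcore : pCore 2 ↥(Subgroup.centralizer ({tt} : Set ↥Spor.Co2)) = ψ'.ker :=
    pCore_eq_ker ψ' hs (pCore_two_sp_eq_bot (by norm_num)) hk
  refine ⟨tt, ?_, ?_, ?_, ?_⟩
  · apply orderOf_eq_prime
    · apply Subtype.ext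
      have h1 : t0 ^ 2 = 1 := by
        rcases KK_sq t0_mem_KK with h | h
        · exact h
        · exfalso
          rw [pow_two] at h
          have : t0 = 1 := by
            have := congrArg (fun x => t0⁻¹ * x) h
            simpa using this
          exact t0_ne_one this
      exact congrArg (fun x : Co0 => (x : Equiv.Perm leechLattice)) h1
    · intro h
      apply t0_ne_one
      apply Subtype.ext
      exact congrArg (fun x : ↥Spor.Co2 => (x : Equiv.Perm leechLattice)) h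
  · rw [hcore]; exact hE
  · rw [hcore]; exact hcard
  · exact ⟨(QuotientGroup.quotientMulEquivOfEq hcore).trans
      (QuotientGroup.quotientKerEquivOfSurjective ψ' hs)⟩

end Cfsg.Agent.S2136
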