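import Mathlib
import Cfsg.Statements.S2149
import Cfsg.Agent.S0283
import Cfsg.Agent.Lib.Helper15.PSU35c
import Cfsg.Agent.Lib.Helper15.PSU35g

set_option autoImplicit false
open Cfsg

namespace Cfsg.Agent.S2149

open Cfsg.Agent.Helper15 Cfsg.Agent.Helper15.PSU35

/-- Minimal index of a proper subgroup of PSU₃(5), realised over the field with 25 elements: every proper subgroup has index at least 50, and that index is attained. -/
theorem result {F : Type*} [Field F] [Fintype F] (hF : Fintype.card F = 25) : (∀ H : Subgroup (Cfsg.PSU 3 F 5), H ≠ ⊤ → 50 ≤ H.index) ∧ (∃ H : Subgroup (Cfsg.PSU 3 F 5), H.index = 50) := by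
  obtain ⟨e⟩ := psu_equiv hF
  have hF2 : Fintype.card F = 5 ^ 2 := by rw [hF]; norm_num
  have hsimp : IsSimpleGroup (Cfsg.PSU 3 F 5) :=
    Cfsg.Agent.S0283.result hF2 3 le_rfl (by omega)
  have hsimpR : IsSimpleGroup RW := (MulEquiv.isSimpleGroup_congr e).mp hsimp
  have hcardP : Nat.card (Cfsg.PSU 3 F 5) = 126000 := by
    have h := Subgroup.card_eq_card_quotient_mul_card_subgroup (Subgroup.center (Cfsg.SU 3 F 5))
    rw [HSU3.card_SU hF, HSU3.card_center hF] at h
    change 378000 = Nat.card (Cfsg.PSU 3 F 5) * 3 at h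
    omega
  have hcard : Nat.card RW = 126000 := by
    rw [← Nat.card_congr e.toEquiv, hcardP]
  constructor
  · intro H hH
    have h1 : (H.map e.toMonoidHom) ≠ ⊤ := by
      intro h
      apply hH
      have := congrArg (Subgroup.comap e.toMonoidHom) h
      rw [Subgroup.comap_map_eq_self_of_injective e.injective, Subgroup.comap_top] at this
      exact this
    have h2 := index_ge hcard (H.map e.toMonoidHom) h1
    rwa [Subgroup.index_map_of_bijective (f := e.toMonoidHom) e.bijective] at h2
  · obtain ⟨K, hK⟩ := exists_index_50 hcard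
    refine ⟨K.map e.symm.toMonoidHom, ?_⟩
    rw [Subgroup.index_map_of_bijective (f := e.symm.toMonoidHom) e.symm.bijective]
    exact hK

end Cfsg.Agent.S2149
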