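import Cfsg.Statements.S2155
import Cfsg.Agent.Lib.Helper6.ParCent
import Cfsg.Agent.Lib.Helper14.ParabolicChar
import Cfsg.Agent.S1027
-- import your own Cfsg.Agent.* helpers here

set_option autoImplicit false
open Cfsg

namespace Cfsg.Agent.S2155

/-- In a Chevalley group of type G₂, B₂, D₄, F₄, E₆, E₇ or E₈ over a finite field of characteristic p (for types G₂ and B₂ the field is assumed to have at least 3 elements, so that the group is simple), the generalized Fitting subgroup of every proper standard parabolic subgroup P_J is a p-group (P_J is p-constrained with trivial largest normal subgroup of order prime to p). -/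
theorem result {F : Type*} [Field F] [Fintype F] (p : ℕ) [Fact p.Prime] [CharP F p] (D : Cfsg.Lie.ChevalleyDatum) (hD : D ∈ [Cfsg.Lie.chevG2, Cfsg.Lie.chevB2, Cfsg.Lie.chevD4, Cfsg.Lie.chevF4, Cfsg.Lie.chevE6, Cfsg.Lie.chevE7, Cfsg.Lie.chevE8]) (hq : (D = Cfsg.Lie.chevG2 ∨ D = Cfsg.Lie.chevB2) → 3 ≤ Fintype.card F) (J : Set ℕ) (hJ : ∃ i, i < D.rank ∧ i ∉ J) : IsPGroup p ↥(Cfsg.generalizedFittingSubgroup ↥(D.parabolicSubgroup F J)) := by
  classical
  obtain ⟨i₀, hi₀, hi₀J⟩ := hJ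
  have hF : Cfsg.Agent.Lead.Chev.ChevFacts D F := Cfsg.Agent.Lead.Chev.chevFacts_of_mem D hD
  have hP := Cfsg.Agent.Helper6.ChevL.parFacts_of_mem D hD
  have hC := Cfsg.Agent.Helper6.ChevL.commJ_of_mem D hD
  obtain ⟨T⟩ := Cfsg.Agent.Helper6.HtF.htData_of_mem D hD
  have hT := Cfsg.Agent.Helper6.HtF.parCentFacts_of_mem D hD
  obtain ⟨m, hm⟩ := Cfsg.Agent.Helper6.HtF.exists_rootCoef D hD
  have hmain := Cfsg.Agent.Helper6.HtF.inf_centralizer_le_posUnipotent hF hP hC T hT p m hm J i₀ hi₀ hi₀J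
  -- `U` is a `p`-group
  have hUp : IsPGroup p ↥(D.posUnipotent F) := by
    obtain ⟨n, -, hn⟩ := FiniteField.card F p
    apply IsPGroup.of_card (n := (n : ℕ) * (D.nroots / 2))
    rw [Cfsg.Agent.S1027.result D hD, hn, ← pow_mul]
  set K := D.parabolicSubgroup F J with hK
  set Q := D.unipotentRadical F J with hQ
  have hKN : K ≤ Subgroup.normalizer (Q : Set (GL D.Idx F)) :=
    Cfsg.Agent.Helper6.ChevL.parabolic_le_normalizer hF hP hC J
  have hQU : Q ≤ D.posUnipotent F := Cfsg.Agent.Helper6.ChevL.radical_le_posUnipotent hF J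
  have hUB : D.posUnipotent F ≤ D.borelSubgroup F := by
    unfold Cfsg.Lie.ChevalleyDatum.borelSubgroup
    exact le_sup_left
  have hBK : D.borelSubgroup F ≤ K := Cfsg.Agent.Helper6.ChevL.borel_le_parabolic J
  have hQK : Q ≤ K := hQU.trans (hUB.trans hBK)
  -- `U_J ≤ O_p(K)`
  have hQle : Q ≤ Cfsg.pCoreOf p K := by
    have hn : (Q.subgroupOf K).Normal := by
      constructor
      intro n hn g
      rw [Subgroup.mem_subgroupOf] at hn ⊢
      exact (Subgroup.mem_normalizer_iff.1 (hKN g.2) _).1 hn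
    have hp : IsPGroup p ↥(Q.subgroupOf K) := by
      have h1 : IsPGroup p ↥Q := hUp.to_le hQU
      exact h1.comap_subtype
    have hle := Cfsg.Agent.Helper7.le_pCore hn hp
    intro g hg
    exact ⟨⟨g, hQK hg⟩, hle (Subgroup.mem_subgroupOf.2 hg), rfl⟩
  have hfin : Finite (GL D.Idx F) := inferInstance
  have hfit : Cfsg.generalizedFittingSubgroup ↥K = Cfsg.pCore p ↥K := by
    rw [Cfsg.Agent.Helper14.fstar_eq_pCore_iff_ambient]
    set O := Cfsg.pCoreOf p K with hO
    set C : Subgroup (GL D.Idx F) := K ⊓ Subgroup.centralizer (O : Set (GL D.Idx F)) with hCdef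
    have hCU : C ≤ D.posUnipotent F := by
      intro g hg
      apply hmain
      exact Subgroup.mem_inf.2 ⟨(Subgroup.mem_inf.1 hg).1,
        Subgroup.centralizer_le hQle (Subgroup.mem_inf.1 hg).2⟩
    have hOK : O ≤ K := Subgroup.map_subtype_le _
    have hn : (C.subgroupOf K).Normal := by
      constructor
      intro n hn g
      rw [Subgroup.mem_subgroupOf] at hn ⊢
      refine Subgroup.mem_inf.2 ⟨mul_mem (mul_mem g.2 (Subgroup.mem_inf.1 hn).1) (inv_mem g.2), ?_⟩
      rw [Subgroup.mem_centralizer_iff]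
      intro o ho
      -- `g⁻¹ o g ∈ O`
      have ho' : (g : GL D.Idx F)⁻¹ * o * (g : GL D.Idx F) ∈ O := by
        obtain ⟨o', ho', rfl⟩ := ho
        have hnorm : (Cfsg.pCore p ↥K).Normal := Cfsg.pCore_normal p ↥K
        have := hnorm.conj_mem o' ho' g⁻¹
        refine ⟨g⁻¹ * o' * g⁻¹⁻¹, this, ?_⟩
        simp
      have hcomm := (Subgroup.mem_centralizer_iff.1 (Subgroup.mem_inf.1 hn).2) _ ho'
      calc o * ((g : GL D.Idx F) * (n : GL D.Idx F) * ((g : GL D.Idx F))⁻¹)
          = (g : GL D.Idx F) * (((g : GL D.Idx F)⁻¹ * o * (g : GL D.Idx F)) * (n : GL D.Idx F)) * ((g : GL D.Idx F))⁻¹ := by group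
        _ = (g : GL D.Idx F) * ((n : GL D.Idx F) * ((g : GL D.Idx F)⁻¹ * o * (g : GL D.Idx F))) * ((g : GL D.Idx F))⁻¹ := by rw [hcomm]
        _ = (g : GL D.Idx F) * (n : GL D.Idx F) * ((g : GL D.Idx F))⁻¹ * o := by group
    have hp : IsPGroup p ↥(C.subgroupOf K) := by
      have h1 : IsPGroup p ↥C := hUp.to_le hCU
      exact h1.comap_subtype
    have hle := Cfsg.Agent.Helper7.le_pCore hn hp
    intro g hg
    exact ⟨⟨g, (Subgroup.mem_inf.1 hg).1⟩, hle (Subgroup.mem_subgroupOf.2 hg), rfl⟩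
  rw [hfit]
  exact Cfsg.Agent.Helper7.pCore_isPGroup p

end Cfsg.Agent.S2155
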