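import Mathlib
import Cfsg.Statements.S2160
import Cfsg.Agent.Lib.Helper11.ChevSimpleGen

set_option autoImplicit false
open Cfsg

namespace Cfsg.Agent.S2160

open Cfsg.Lie Cfsg.Agent.Lead.Chev Cfsg.Agent.Helper11.ChevGen

/-- In a Chevalley group of type G₂, B₂, D₄, F₄, E₆, E₇ or E₈ over a finite field, every field automorphism commutes with every graph automorphism. -/
theorem result {F : Type*} [Field F] [Finite F] (D : Cfsg.Lie.ChevalleyDatum) (hD : D ∈ [Cfsg.Lie.chevG2, Cfsg.Lie.chevB2, Cfsg.Lie.chevD4, Cfsg.Lie.chevF4, Cfsg.Lie.chevE6, Cfsg.Lie.chevE7, Cfsg.Lie.chevE8]) (f g : ↥(D.group F) ≃* ↥(D.group F))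
    (hf : D.IsFieldAut f) (hg : D.IsGraphAut g) (y : ↥(D.group F)) : f (g y) = g (f y) := by
  have hFacts : ChevFacts D F := chevFacts_of_mem D hD
  obtain ⟨σ, hσ⟩ := hf
  obtain ⟨π, -, hg'⟩ := hg
  let E : Subgroup ↥(D.group F) :=
    (f.toMonoidHom.comp g.toMonoidHom).eqLocus (g.toMonoidHom.comp f.toMonoidHom)
  have hE : Subgroup.closure (simpleGenSet D F) ≤ E := by
    rw [Subgroup.closure_le]
    rintro y ⟨i, t, hy | hy⟩
    · have h1 := (hg' y i t).1 hy
      have h2 := hσ (g y) _ _ (hFacts.simple_lt (π i) (π i).2) h1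
      have h3 := hσ y _ _ (hFacts.simple_lt i i.2) hy
      have h4 := (hg' (f y) i (σ t)).1 h3
      change f (g y) = g (f y)
      apply Subtype.ext
      apply Units.ext
      rw [h2, h4, map_pow]
    · have h1 := (hg' y i t).2 hy
      have h2 := hσ (g y) _ _ (hFacts.neg_simple_lt (π i) (π i).2) h1
      have h3 := hσ y _ _ (hFacts.neg_simple_lt i i.2) hy
      have h4 := (hg' (f y) i (σ t)).2 h3
      change f (g y) = g (f y)
      apply Subtype.ext
      apply Units.ext
      rw [h2, h4, map_pow]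
  rw [closure_simpleGenSet D hFacts] at hE
  exact hE (Subgroup.mem_top y)

end Cfsg.Agent.S2160
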