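import Mathlib
import Cfsg.Statements.S2161
import Cfsg.Agent.Lib.Helper11.ChevGraphPerm

set_option autoImplicit false
open Cfsg

namespace Cfsg.Agent.S2161

open Cfsg.Lie Cfsg.Agent.Lead.Chev Cfsg.Agent.Helper11.ChevGen Cfsg.Agent.Helper11.ChevGraph

/-- For the Chevalley groups of types D₄ and E₆ (one root length) over any field: if `π` is a symmetry of the Dynkin diagram and `φ` is an automorphism sending `x_{p_i}(t)` to `x_{p_{π i}}(t)` and `x_{-p_i}(t)` to `x_{-p_{π i}}(t)` for every fundamental root `p_i`, then for every root `r` there is a sign `ε = ±1` with `φ(x_r(t)) = x_{π·r}(ε t)` for all `t`, where `π·r` is the root whose coefficients are those of `r` permuted by `π`. -/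
theorem result {F : Type*} [Field F] (D : Cfsg.Lie.ChevalleyDatum) (hD : D ∈ [Cfsg.Lie.chevD4, Cfsg.Lie.chevE6])
    (π : Equiv.Perm (Fin D.rank)) (hπ : D.IsDiagramSymmetry π) (φ : ↥(D.group F) ≃* ↥(D.group F))
    (hφ : ∀ (g : ↥(D.group F)) (i : Fin D.rank) (t : F),
      (((g : GL D.Idx F) : Matrix D.Idx D.Idx F) = D.x F (D.simple i) t →
        ((φ g : GL D.Idx F) : Matrix D.Idx D.Idx F) = D.x F (D.simple (π i)) t) ∧
      (((g : GL D.Idx F) : Matrix D.Idx D.Idx F) = D.x F (D.neg (D.simple i)) t →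
        ((φ g : GL D.Idx F) : Matrix D.Idx D.Idx F) = D.x F (D.neg (D.simple (π i))) t))
    (r : ℕ) (hr : r < D.nroots) :
    ∃ ε : F, (ε = 1 ∨ ε = -1) ∧ ∀ (g : ↥(D.group F)) (t : F),
      ((g : GL D.Idx F) : Matrix D.Idx D.Idx F) = D.x F r t →
        ((φ g : GL D.Idx F) : Matrix D.Idx D.Idx F) = D.x F (D.permRoot π r) (ε * t) := by
  have hD' : D ∈ [chevG2, chevB2, chevD4, chevF4, chevE6, chevE7, chevE8] := by
    simp only [List.mem_cons, List.mem_nil_iff, or_false] at hD ⊢
    rcases hD with rfl | rfl <;> simp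
  have hFacts : ChevFacts D F := chevFacts_of_mem D hD'
  have hsl : slChk D = true := by
    simp only [List.mem_cons, List.mem_nil_iff, or_false] at hD
    rcases hD with rfl | rfl
    · exact slChk_D4
    · exact slChk_E6
  have hinj : injChk D = true := by
    simp only [List.mem_cons, List.mem_nil_iff, or_false] at hD
    rcases hD with rfl | rfl
    · exact injChk_D4
    · exact injChk_E6
  have hX := hFacts.xadd
  -- root elements and the `n_p` as elements of the group
  let xg : ℕ → F → ↥(D.group F) := fun s t => ⟨xGL D hX s t, xGL_mem_group D hX s t⟩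
  have hφ1 : ∀ (j : ℕ) (_ : j < D.rank) (t : F),
      ((φ (xg (D.simple j) t) : ↥(D.group F)) : GL D.Idx F) = xGL D hX (D.simple (ext D π j)) t := by
    intro j hj t
    apply Units.ext
    have := (hφ (xg (D.simple j) t) ⟨j, hj⟩ t).1 rfl
    rw [this, ← ext_fin D π ⟨j, hj⟩]
    rfl
  have hφ2 : ∀ (j : ℕ) (_ : j < D.rank) (t : F),
      ((φ (xg (D.neg (D.simple j)) t) : ↥(D.group F)) : GL D.Idx F) =
        xGL D hX (D.neg (D.simple (ext D π j))) t := by
    intro j hj t
    apply Units.ext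
    have := (hφ (xg (D.neg (D.simple j)) t) ⟨j, hj⟩ t).2 rfl
    rw [this, ← ext_fin D π ⟨j, hj⟩]
    rfl
  let ng : ℕ → ↥(D.group F) := fun j => ⟨nGL D hX (D.simple j), nGL_mem_group D hX _⟩
  have hn_eq : ∀ s : ℕ, nGL D hX s = xGL D hX s 1 * xGL D hX (D.neg s) (-(1 : F)⁻¹) * xGL D hX s 1 := by
    intro s
    unfold nGL ChevalleyDatum.nWord
    rw [wordGL_cons, wordGL_cons, wordGL_cons, wordGL_nil, mul_one, mul_assoc]
  have hφn : ∀ j < D.rank, ((φ (ng j) : ↥(D.group F)) : GL D.Idx F) =
      nGL D hX (D.simple (ext D π j)) := by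
    intro j hj
    have e : ng j = xg (D.simple j) 1 * xg (D.neg (D.simple j)) (-(1 : F)⁻¹) * xg (D.simple j) 1 := by
      apply Subtype.ext
      exact hn_eq _
    rw [e, map_mul, map_mul, Subgroup.coe_mul, Subgroup.coe_mul, hφ1 j hj, hφ2 j hj, hn_eq]
  let nw : List ℕ → ↥(D.group F) := fun w => ⟨nWordGL D hX w, nWordGL_mem_group D hX w⟩
  have hφw : ∀ w : List ℕ, (∀ j ∈ w, j < D.rank) →
      ((φ (nw w) : ↥(D.group F)) : GL D.Idx F) = nWordGL D hX (w.map (ext D π)) := by
    intro w hw
    induction w with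
    | nil =>
      have : nw [] = 1 := Subtype.ext (nWordGL_nil D hX)
      rw [this, map_one]
      rfl
    | cons j w ih =>
      have : nw (j :: w) = ng j * nw w := Subtype.ext (nWordGL_cons D hX j w)
      rw [this, map_mul, Subgroup.coe_mul, hφn j (hw j List.mem_cons_self),
        ih (fun a ha => hw a (List.mem_cons_of_mem _ ha)), List.map_cons, nWordGL_cons]
  obtain ⟨i, hi, w, hw, hwr, ε₁, hε₁, hc⟩ := exists_conj_simple D hFacts r hr
  have hw' : ∀ j ∈ w.map (ext D π), j < D.rank := by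
    intro a ha
    rw [List.mem_map] at ha
    obtain ⟨b, hb, rfl⟩ := ha
    exact ext_lt D π b (hw b hb)
  have hi' : ext D π i < D.rank := ext_lt D π i hi
  have hs' : reflWord D (w.map (ext D π)) (D.simple (ext D π i)) < D.nroots :=
    reflWord_lt D (etaOf D) hFacts.facts _ hw' _ (hFacts.simple_lt _ hi')
  have hperm : D.permRoot π r = reflWord D (w.map (ext D π)) (D.simple (ext D π i)) := by
    apply permRoot_eq hinj π r _ hs'
    intro k
    have := cf_reflWord_perm (etaOf D) hFacts.facts hFacts.simple_lt hFacts.refl hsl π hπ ⟨i, hi⟩ w hw k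
    rw [← ext_fin D π ⟨i, hi⟩] at this
    rw [← hwr]
    exact this
  have hsgn : ((signWord D (etaOf D) (w.map (ext D π)) (D.simple (ext D π i)) : ℤ) : F) = 1 ∨
      ((signWord D (etaOf D) (w.map (ext D π)) (D.simple (ext D π i)) : ℤ) : F) = -1 := by
    rcases signWord_sq D (etaOf D) (w.map (ext D π))
      (fun j hj s => (hFacts.nsimple j (hw' j hj)).sign s) (D.simple (ext D π i)) with h | h
    · left; rw [h]; simp
    · right; rw [h]; simp
  refine ⟨((signWord D (etaOf D) (w.map (ext D π)) (D.simple (ext D π i)) : ℤ) : F) * ε₁, ?_, ?_⟩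
  · rcases hsgn with h | h <;> rcases hε₁ with h' | h' <;> rw [h, h'] <;> simp
  · intro g t hg
    have hg' : g = nw w * xg (D.simple i) (ε₁ * t) * (nw w)⁻¹ := by
      apply Subtype.ext
      rw [Subgroup.coe_mul, Subgroup.coe_mul, Subgroup.coe_inv]
      show (g : GL D.Idx F) = nWordGL D hX w * xGL D hX (D.simple i) (ε₁ * t) * (nWordGL D hX w)⁻¹
      rw [hc t]
      apply Units.ext
      rw [hg]
      rfl
    rw [hg', map_mul, map_mul, map_inv, Subgroup.coe_mul, Subgroup.coe_mul, Subgroup.coe_inv,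
      hφw w hw, hφ1 i hi,
      nWordGL_conj D hX (etaOf D) hFacts.nsimple _ hw' _ (hFacts.simple_lt _ hi') (ε₁ * t),
      hperm, xGL_val, mul_assoc]

end Cfsg.Agent.S2161
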