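import Mathlib
import Cfsg.Statements.S2162
import Cfsg.Agent.Lib.Helper11.SquareZero

set_option autoImplicit false
open Cfsg

namespace Cfsg.Agent.S2162

open Cfsg.Agent.Helper11 Matrix

theorem sq_surj {F : Type*} [Field F] [Finite F] [CharP F 2] (x : F) : ∃ y, y * y = x := by
  have hinj : Function.Injective (fun y : F => y * y) := by
    intro y z hyz
    simp only at hyz
    have h1 : (y - z) * (y + z) = 0 := by ring_nf; linear_combination hyz
    rcases mul_eq_zero.mp h1 with h | h
    · exact sub_eq_zero.mp h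
    · have : y = -z := eq_neg_of_add_eq_zero_left h
      rw [this, CharTwo.neg_eq]
  exact (Finite.injective_iff_surjective.mp hinj) x

theorem sub_one_sq {F : Type*} [Field F] [CharP F 2] {n : ℕ} (a : Matrix.SpecialLinearGroup (Fin n) F)
    (ha : orderOf a = 2) :
    ((a : Matrix (Fin n) (Fin n) F) - 1) * ((a : Matrix (Fin n) (Fin n) F) - 1) = 0 := by
  have h1 : a ^ 2 = 1 := by rw [← ha]; exact pow_orderOf_eq_one a
  have h2 : (a : Matrix (Fin n) (Fin n) F) * (a : Matrix (Fin n) (Fin n) F) = 1 := by
    rw [pow_two] at h1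
    have := congrArg (fun x : Matrix.SpecialLinearGroup (Fin n) F => (x : Matrix (Fin n) (Fin n) F)) h1
    simpa using this
  have h3 : ((a : Matrix (Fin n) (Fin n) F) - 1) * ((a : Matrix (Fin n) (Fin n) F) - 1) =
      (a : Matrix (Fin n) (Fin n) F) * (a : Matrix (Fin n) (Fin n) F) -
        (2 : F) • (a : Matrix (Fin n) (Fin n) F) + 1 := by
    rw [two_smul]; noncomm_ring
  rw [h3, h2, CharTwo.two_eq_zero, zero_smul, sub_zero]
  ext i j
  simp only [Matrix.add_apply, Matrix.zero_apply]
  exact CharTwo.add_self_eq_zero _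

theorem toMatrix'_mulVecLin {F : Type*} [Field F] {n : ℕ} (M : Matrix (Fin n) (Fin n) F) :
    LinearMap.toMatrix' M.mulVecLin = M := by
  rw [← Matrix.toLin'_apply', LinearMap.toMatrix'_toLin']

theorem rank_pos {F : Type*} [Field F] {n : ℕ} (a : Matrix.SpecialLinearGroup (Fin n) F)
    (ha : orderOf a = 2) : 1 ≤ ((a : Matrix (Fin n) (Fin n) F) - 1).rank := by
  by_contra h
  have h0 : ((a : Matrix (Fin n) (Fin n) F) - 1).rank = 0 := by omega
  have h1 : ((a : Matrix (Fin n) (Fin n) F) - 1).mulVecLin = 0 := by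
    unfold Matrix.rank at h0
    have := Submodule.finrank_eq_zero.mp h0
    exact LinearMap.range_eq_bot.mp this
  have h2 : (a : Matrix (Fin n) (Fin n) F) - 1 = 0 := by
    have := congrArg LinearMap.toMatrix' h1
    rw [toMatrix'_mulVecLin] at this
    simpa using this
  have h3 : a = 1 := by
    apply Subtype.ext
    simpa using sub_eq_zero.mp h2
  rw [h3, orderOf_one] at ha
  omega

/-- Conjugacy of involutions in the special linear group over a finite field of characteristic two, in dimension at least 3: two elements of order 2 of SL_n(F) are conjugate in SL_n(F) exactly when the matrices a − 1 and b − 1 have the same rank (the rank of a − 1 is the dimension of the commutator space [V, a]). -/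
theorem result {F : Type*} [Field F] [Fintype F] [CharP F 2] {n : ℕ} (hn : 3 ≤ n) (a b : Matrix.SpecialLinearGroup (Fin n) F) (ha : orderOf a = 2) (hb : orderOf b = 2) :
    IsConj a b ↔ ((a : Matrix (Fin n) (Fin n) F) - 1).rank = ((b : Matrix (Fin n) (Fin n) F) - 1).rank := by
  constructor
  · intro h
    obtain ⟨c, hc⟩ := isConj_iff.mp h
    have h1 : (b : Matrix (Fin n) (Fin n) F) - 1 =
        (c : Matrix (Fin n) (Fin n) F) * ((a : Matrix (Fin n) (Fin n) F) - 1) *
          ((c⁻¹ : Matrix.SpecialLinearGroup (Fin n) F) : Matrix (Fin n) (Fin n) F) := by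
      rw [← hc]
      have hcc : (c : Matrix (Fin n) (Fin n) F) *
          ((c⁻¹ : Matrix.SpecialLinearGroup (Fin n) F) : Matrix (Fin n) (Fin n) F) = 1 := by
        rw [← Matrix.SpecialLinearGroup.coe_mul, mul_inv_cancel]; rfl
      rw [Matrix.SpecialLinearGroup.coe_mul, Matrix.SpecialLinearGroup.coe_mul, Matrix.mul_sub,
        Matrix.sub_mul, Matrix.mul_one, hcc]
    rw [h1, Matrix.rank_mul_eq_left_of_isUnit_det _ _ (by rw [(c⁻¹).2]; exact isUnit_one),
      Matrix.rank_mul_eq_right_of_isUnit_det _ _ (by rw [c.2]; exact isUnit_one)]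
  · intro h
    obtain ⟨T, hT1, hT2⟩ := exists_conj_of_square_zero
      ((a : Matrix (Fin n) (Fin n) F) - 1).mulVecLin ((b : Matrix (Fin n) (Fin n) F) - 1).mulVecLin
      (by rw [← Matrix.mulVecLin_mul, sub_one_sq a ha]; simp)
      (by rw [← Matrix.mulVecLin_mul, sub_one_sq b hb]; simp)
      n ((a : Matrix (Fin n) (Fin n) F) - 1).rank (by simp) rfl h.symm (rank_pos a ha) sq_surj
    -- the matrix of T
    let P : Matrix (Fin n) (Fin n) F := LinearMap.toMatrix' T
    have hPdet : P.det = 1 := by
      rw [← hT1, ← LinearMap.det_toLin', Matrix.toLin'_toMatrix']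
    have hPcomm : P * ((a : Matrix (Fin n) (Fin n) F) - 1) = ((b : Matrix (Fin n) (Fin n) F) - 1) * P := by
      have := congrArg LinearMap.toMatrix' hT2
      rw [LinearMap.toMatrix'_comp, LinearMap.toMatrix'_comp, toMatrix'_mulVecLin,
        toMatrix'_mulVecLin] at this
      exact this
    have hPab : P * (a : Matrix (Fin n) (Fin n) F) = (b : Matrix (Fin n) (Fin n) F) * P := by
      rw [Matrix.mul_sub, Matrix.sub_mul, Matrix.mul_one, Matrix.one_mul] at hPcomm
      exact sub_left_inj.mp hPcomm
    rw [isConj_iff]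
    let c : Matrix.SpecialLinearGroup (Fin n) F := ⟨P, hPdet⟩
    refine ⟨c, ?_⟩
    rw [mul_inv_eq_iff_eq_mul]
    apply Subtype.ext
    rw [Matrix.SpecialLinearGroup.coe_mul, Matrix.SpecialLinearGroup.coe_mul]
    exact hPab

end Cfsg.Agent.S2162
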