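import Mathlib
import Cfsg.Statements.S2163

set_option autoImplicit false
open Cfsg

namespace Cfsg.Agent.S2163

open Matrix

/-- the block matrix -/
def E (F : Type*) [Field F] (n ℓ : ℕ) : Matrix (Fin n) (Fin n) F :=
  Matrix.of (fun i j : Fin n => if j.val < ℓ ∧ i.val = j.val + (n - ℓ) then (1 : F) else 0)

theorem E_sq {F : Type*} [Field F] (n ℓ : ℕ) (h1 : 1 ≤ ℓ) (h2 : 2 * ℓ ≤ n) : E F n ℓ * E F n ℓ = 0 := by
  ext i k
  simp only [E, Matrix.mul_apply, Matrix.of_apply, Matrix.zero_apply]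
  apply Finset.sum_eq_zero
  intro j _
  by_cases hj : j.val < ℓ
  · have : ¬ (k.val < ℓ ∧ j.val = k.val + (n - ℓ)) := by
      rintro ⟨_, h⟩; omega
    rw [if_neg this, mul_zero]
  · have : ¬ (j.val < ℓ ∧ i.val = j.val + (n - ℓ)) := fun h => hj h.1
    rw [if_neg this, zero_mul]

theorem E_rank {F : Type*} [Field F] (n ℓ : ℕ) (h1 : 1 ≤ ℓ) (h2 : 2 * ℓ ≤ n) : (E F n ℓ).rank = ℓ := by
  apply le_antisymm
  · rw [← Matrix.rank_transpose]
    have hs : Function.support (E F n ℓ)ᵀ.row ⊆ ((Finset.univ.filter (fun j : Fin n => j.val < ℓ) : Finset (Fin n)) : Set (Fin n)) := by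
      intro j hj
      simp only [Function.mem_support, ne_eq] at hj
      simp only [Finset.coe_filter, Finset.mem_univ, true_and, Set.mem_ofPred_eq]
      by_contra hlt
      apply hj
      ext i
      simp only [Matrix.row, Matrix.transpose_apply, E, Matrix.of_apply, Pi.zero_apply]
      rw [if_neg (fun h => hlt h.1)]
    have := Matrix.rank_le_card_of_support_subset (E F n ℓ)ᵀ _ hs
    have hc : (Finset.univ.filter (fun j : Fin n => j.val < ℓ)).card = ℓ := by
      have := Fin.card_filter_val_lt (n := n) (m := ℓ)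
      rw [this]; omega
    omega
  · have hr : ∀ k : Fin ℓ, k.val + (n - ℓ) < n := fun k => by have := k.2; omega
    have hc : ∀ k : Fin ℓ, k.val < n := fun k => by have := k.2; omega
    have hsub : (E F n ℓ).submatrix (fun k : Fin ℓ => (⟨k.val + (n - ℓ), hr k⟩ : Fin n))
        (fun k : Fin ℓ => (⟨k.val, hc k⟩ : Fin n)) = 1 := by
      ext a b
      simp only [E, Matrix.submatrix_apply, Matrix.of_apply, Matrix.one_apply]
      by_cases hab : a = b
      · subst hab
        simp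
      · have : ¬ (b.val < ℓ ∧ a.val + (n - ℓ) = b.val + (n - ℓ)) := by
          rintro ⟨_, h⟩
          apply hab
          ext; omega
        rw [if_neg this, if_neg hab]
    have := Matrix.rank_submatrix_le (E F n ℓ) (fun k : Fin ℓ => (⟨k.val + (n - ℓ), hr k⟩ : Fin n))
        (fun k : Fin ℓ => (⟨k.val, hc k⟩ : Fin n))
    rw [hsub, Matrix.rank_one, Fintype.card_fin] at this
    exact this

theorem E_ne_zero {F : Type*} [Field F] (n ℓ : ℕ) (h1 : 1 ≤ ℓ) (h2 : 2 * ℓ ≤ n) : E F n ℓ ≠ 0 := by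
  intro h
  have := E_rank (F := F) n ℓ h1 h2
  rw [h, Matrix.rank_zero] at this
  omega

theorem sq_eq_one {F : Type*} [Field F] [CharP F 2] (n ℓ : ℕ) (h1 : 1 ≤ ℓ) (h2 : 2 * ℓ ≤ n) :
    (1 + E F n ℓ) * (1 + E F n ℓ) = 1 := by
  have hE := E_sq (F := F) n ℓ h1 h2
  have h2E : E F n ℓ + E F n ℓ = 0 := by
    ext i j
    simp only [Matrix.add_apply, Matrix.zero_apply]
    exact CharTwo.add_self_eq_zero _
  calc (1 + E F n ℓ) * (1 + E F n ℓ) = 1 + (E F n ℓ + E F n ℓ) + E F n ℓ * E F n ℓ := by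
        noncomm_ring
    _ = 1 := by rw [h2E, hE]; simp

theorem det_eq_one {F : Type*} [Field F] [CharP F 2] (n ℓ : ℕ) (h1 : 1 ≤ ℓ) (h2 : 2 * ℓ ≤ n) :
    (1 + E F n ℓ).det = 1 := by
  have h := congrArg Matrix.det (sq_eq_one (F := F) n ℓ h1 h2)
  rw [Matrix.det_mul, Matrix.det_one] at h
  set d := (1 + E F n ℓ).det with hd
  have h3 : (d - 1) * (d - 1) = 0 := by
    have h2d : d + d = 0 := CharTwo.add_self_eq_zero _
    calc (d - 1) * (d - 1) = d * d - (d + d) + 1 := by ring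
      _ = 1 - 0 + 1 := by rw [h, h2d]
      _ = 0 := by
        have : (1 : F) + 1 = 0 := CharTwo.add_self_eq_zero _
        rw [sub_zero, this]
  have := mul_self_eq_zero.mp h3
  exact sub_eq_zero.mp this

/-- In SL_n(F), F finite of characteristic 2, n ≥ 3: for each ℓ with 1 ≤ ℓ ≤ n/2 the block matrix with I_ℓ in the lower-left corner added to the identity is an involution of SL_n(F) with rank(a − 1) = ℓ. -/
theorem result {F : Type*} [Field F] [Fintype F] [CharP F 2] {n : ℕ} (hn : 3 ≤ n) (ℓ : ℕ) (h1 : 1 ≤ ℓ) (h2 : 2 * ℓ ≤ n) :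
    ∃ a : Matrix.SpecialLinearGroup (Fin n) F, (a : Matrix (Fin n) (Fin n) F) = 1 + Matrix.of (fun i j : Fin n => if j.val < ℓ ∧ i.val = j.val + (n - ℓ) then (1 : F) else 0) ∧ orderOf a = 2 ∧ ((a : Matrix (Fin n) (Fin n) F) - 1).rank = ℓ := by
  set a : Matrix.SpecialLinearGroup (Fin n) F := ⟨1 + E F n ℓ, det_eq_one n ℓ h1 h2⟩ with ha
  have hacoe : (a : Matrix (Fin n) (Fin n) F) = 1 + E F n ℓ := rfl
  refine ⟨a, rfl, ?_, ?_⟩
  · have : Fact (Nat.Prime 2) := ⟨Nat.prime_two⟩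
    apply orderOf_eq_prime
    · apply Subtype.ext
      rw [pow_two, Matrix.SpecialLinearGroup.coe_mul, hacoe, Matrix.SpecialLinearGroup.coe_one]
      exact sq_eq_one n ℓ h1 h2
    · intro h
      have h' : (a : Matrix (Fin n) (Fin n) F) = 1 := by rw [h]; rfl
      rw [hacoe] at h'
      have : E F n ℓ = 0 := by
        have := congrArg (fun M => M - 1) h'
        simpa using this
      exact E_ne_zero n ℓ h1 h2 this
  · show ((1 + E F n ℓ) - 1).rank = ℓ
    rw [add_sub_cancel_left]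
    exact E_rank n ℓ h1 h2

end Cfsg.Agent.S2163
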