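import Mathlib
import Cfsg.Statements.S2164
import Cfsg.Agent.Lib.Helper11.UnitaryInvol
import Cfsg.Agent.Lib.Helper11.UnitaryGeom
import Cfsg.Agent.Lib.Helper11.Unitary3

set_option autoImplicit false
open Cfsg

namespace Cfsg.Agent.S2164

open Cfsg.Agent.Helper11 Cfsg.Agent.Helper11.Herm
open Matrix

/-- In SU_n(q) (q even, n ≥ 3, form Σ u_i v_i^q over the field with q² elements) two involutions are conjugate iff they are conjugate in SL_n(q²) iff rank(a − 1) = rank(b − 1). -/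
theorem result {F : Type*} [Field F] [Fintype F] [CharP F 2] {n q : ℕ} (hF : Fintype.card F = q ^ 2) (hn : 3 ≤ n) (a b : ↥(Cfsg.SU n F q)) (ha : orderOf a = 2) (hb : orderOf b = 2) :
    (IsConj a b ↔ IsConj (a : Matrix.SpecialLinearGroup (Fin n) F) (b : Matrix.SpecialLinearGroup (Fin n) F)) ∧
    (IsConj a b ↔ (((a : Matrix.SpecialLinearGroup (Fin n) F) : Matrix (Fin n) (Fin n) F) - 1).rank = (((b : Matrix.SpecialLinearGroup (Fin n) F) : Matrix (Fin n) (Fin n) F) - 1).rank) := by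
  obtain ⟨φ, hφ⟩ := exists_frob hF
  have hφφ := frob_frob hF φ hφ
  have hN1 := frob_norm_surj hF φ hφ
  have hN2 := frob_trace_ne_zero hF φ hφ
  have hφid := frob_ne_id hF φ hφ
  have huniq : ∀ ψ : F →+* F, (∀ x, ψ x = x ^ q) → ψ = φ := fun ψ hψ =>
    RingHom.ext (fun x => by rw [hψ, hφ])
  have h2 : (2 : F) = 0 := by
    have := CharP.cast_eq_zero F 2
    exact_mod_cast this
  -- q is even
  have hqeven : 2 ∣ q := by
    have h3 : ((q ^ 2 : ℕ) : F) = 0 := by
      rw [← hF]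
      exact Nat.cast_card_eq_zero F
    rw [Nat.cast_pow] at h3
    have h4 : (q : F) = 0 := pow_eq_zero_iff (by norm_num) |>.1 h3
    exact (CharP.cast_eq_zero_iff F 2 q).1 h4
  obtain ⟨m, hm⟩ := hqeven
  have hsq : ∀ δ : F, δ * φ δ = 1 → ∃ l : F, l * φ l = 1 ∧ l * l = δ := by
    intro δ hδ
    rw [hφ] at hδ
    have hδ' : δ ^ (q + 1) = 1 := by rw [pow_succ, mul_comm]; exact hδ
    refine ⟨δ ^ (m + 1), ?_, ?_⟩
    · rw [hφ, ← pow_succ', ← pow_mul, mul_comm, pow_mul, hδ', one_pow]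
    · rw [← pow_add]
      have : m + 1 + (m + 1) = (q + 1) + 1 := by omega
      rw [this, pow_succ, hδ', one_mul]
  -- the matrices
  have haU : IsU φ ((a : Matrix.SpecialLinearGroup (Fin n) F) : Matrix (Fin n) (Fin n) F) :=
    (mem_SU_iff_isU φ hφ n _).1 a.2
  have hbU : IsU φ ((b : Matrix.SpecialLinearGroup (Fin n) F) : Matrix (Fin n) (Fin n) F) :=
    (mem_SU_iff_isU φ hφ n _).1 b.2
  have haa : a * a = 1 := by
    have := pow_orderOf_eq_one a
    rw [ha, pow_two] at this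
    exact this
  have hbb : b * b = 1 := by
    have := pow_orderOf_eq_one b
    rw [hb, pow_two] at this
    exact this
  have hMaa : ((a : Matrix.SpecialLinearGroup (Fin n) F) : Matrix (Fin n) (Fin n) F) *
      ((a : Matrix.SpecialLinearGroup (Fin n) F) : Matrix (Fin n) (Fin n) F) = 1 := by
    rw [← SU_mul_coe, haa]
    rfl
  have hMbb : ((b : Matrix.SpecialLinearGroup (Fin n) F) : Matrix (Fin n) (Fin n) F) *
      ((b : Matrix.SpecialLinearGroup (Fin n) F) : Matrix (Fin n) (Fin n) F) = 1 := by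
    rw [← SU_mul_coe, hbb]
    rfl
  have ha1 : a ≠ 1 := by
    intro h
    rw [h, orderOf_one] at ha
    omega
  have hb1 : b ≠ 1 := by
    intro h
    rw [h, orderOf_one] at hb
    omega
  obtain ⟨ka, ya, hLIa, hortha, hMa⟩ := exists_invOf_of_involution φ hφφ hN1 hN2 h2 _ _ rfl haU hMaa
  obtain ⟨kb, yb, hLIb, horthb, hMb⟩ := exists_invOf_of_involution φ hφφ hN1 hN2 h2 _ _ rfl hbU hMbb
  have hrka : (((a : Matrix.SpecialLinearGroup (Fin n) F) : Matrix (Fin n) (Fin n) F) - 1).rank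
      = ka := by
    rw [hMa]
    exact rank_invOf φ hφid hφφ hN1 ya hLIa hortha
  have hrkb : (((b : Matrix.SpecialLinearGroup (Fin n) F) : Matrix (Fin n) (Fin n) F) - 1).rank
      = kb := by
    rw [hMb]
    exact rank_invOf φ hφid hφφ hN1 yb hLIb horthb
  have h1 : IsConj a b →
      IsConj (a : Matrix.SpecialLinearGroup (Fin n) F) (b : Matrix.SpecialLinearGroup (Fin n) F) := by
    intro h
    obtain ⟨c, hc⟩ := isConj_iff.1 h
    refine isConj_iff.2 ⟨(c : Matrix.SpecialLinearGroup (Fin n) F), ?_⟩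
    rw [← hc]
    rfl
  have h2' : IsConj (a : Matrix.SpecialLinearGroup (Fin n) F)
      (b : Matrix.SpecialLinearGroup (Fin n) F) →
      (((a : Matrix.SpecialLinearGroup (Fin n) F) : Matrix (Fin n) (Fin n) F) - 1).rank =
      (((b : Matrix.SpecialLinearGroup (Fin n) F) : Matrix (Fin n) (Fin n) F) - 1).rank := by
    intro h
    obtain ⟨c, hc⟩ := isConj_iff.1 h
    have hc' : c * (a : Matrix.SpecialLinearGroup (Fin n) F) =
        (b : Matrix.SpecialLinearGroup (Fin n) F) * c := by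
      rw [← hc]
      group
    have hcM : (c : Matrix (Fin n) (Fin n) F) *
        ((a : Matrix.SpecialLinearGroup (Fin n) F) : Matrix (Fin n) (Fin n) F) =
        ((b : Matrix.SpecialLinearGroup (Fin n) F) : Matrix (Fin n) (Fin n) F) *
          (c : Matrix (Fin n) (Fin n) F) := by
      have := congrArg (fun x : Matrix.SpecialLinearGroup (Fin n) F =>
        (x : Matrix (Fin n) (Fin n) F)) hc'
      simpa using this
    have hcM2 : (c : Matrix (Fin n) (Fin n) F) *
        (((a : Matrix.SpecialLinearGroup (Fin n) F) : Matrix (Fin n) (Fin n) F) - 1) =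
        (((b : Matrix.SpecialLinearGroup (Fin n) F) : Matrix (Fin n) (Fin n) F) - 1) *
          (c : Matrix (Fin n) (Fin n) F) := by
      rw [Matrix.mul_sub, Matrix.sub_mul, hcM, Matrix.mul_one, Matrix.one_mul]
    have hdet : IsUnit (c : Matrix (Fin n) (Fin n) F).det := by
      rw [c.det_coe]
      exact isUnit_one
    rw [← Matrix.rank_mul_eq_right_of_isUnit_det (c : Matrix (Fin n) (Fin n) F) _ hdet, hcM2,
      Matrix.rank_mul_eq_left_of_isUnit_det (c : Matrix (Fin n) (Fin n) F) _ hdet]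
  have h3 : (((a : Matrix.SpecialLinearGroup (Fin n) F) : Matrix (Fin n) (Fin n) F) - 1).rank =
      (((b : Matrix.SpecialLinearGroup (Fin n) F) : Matrix (Fin n) (Fin n) F) - 1).rank →
      IsConj a b := by
    intro h
    rw [hrka, hrkb] at h
    subst h
    rcases Nat.eq_zero_or_pos ka with h0 | hpos
    · exfalso
      subst h0
      apply ha1
      apply SU_ext
      rw [hMa]
      simp [invOf]
    obtain ⟨k, rfl⟩ : ∃ k, ka = k + 1 := ⟨ka - 1, by omega⟩
    obtain ⟨G, hG, hGdet, hGc⟩ := exists_conj_invOf φ hφid hφφ hN1 hsq ya yb hLIa hLIb hortha horthb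
    rw [← hMa, ← hMb] at hGc
    refine isConj_iff.2 ⟨mkSU hF n G hGdet (fun ψ hψ => by rw [huniq ψ hψ]; exact hG), ?_⟩
    rw [mul_inv_eq_iff_eq_mul]
    apply SU_ext
    rw [SU_mul_coe, SU_mul_coe, coe_mkSU]
    exact hGc
  exact ⟨⟨h1, fun h => h3 (h2' h)⟩, ⟨fun h => h2' (h1 h), h3⟩⟩

end Cfsg.Agent.S2164
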