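import Mathlib
import Cfsg.Statements.S2165

set_option autoImplicit false
open Cfsg

namespace Cfsg.Agent.S2165

open Matrix

/-- the swap map `i ↔ i + (n - ℓ)` for `i < ℓ` -/
def swapFun (n ℓ : ℕ) (h2 : 2 * ℓ ≤ n) (i : Fin n) : Fin n :=
  if h : i.val < ℓ then ⟨i.val + (n - ℓ), by omega⟩
  else if h' : n - ℓ ≤ i.val then ⟨i.val - (n - ℓ), by omega⟩
  else i

theorem swapFun_val (n ℓ : ℕ) (h2 : 2 * ℓ ≤ n) (i : Fin n) :
    (swapFun n ℓ h2 i).val = if i.val < ℓ then i.val + (n - ℓ)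
      else if n - ℓ ≤ i.val then i.val - (n - ℓ) else i.val := by
  unfold swapFun
  split_ifs <;> rfl

theorem swapFun_invol (n ℓ : ℕ) (h2 : 2 * ℓ ≤ n) : Function.Involutive (swapFun n ℓ h2) := by
  intro i
  apply Fin.ext
  rw [swapFun_val, swapFun_val]
  have := i.2
  split_ifs <;> omega

/-- the permutation -/
def σ (n ℓ : ℕ) (h2 : 2 * ℓ ≤ n) : Equiv.Perm (Fin n) := (swapFun_invol n ℓ h2).toPerm

theorem σ_apply (n ℓ : ℕ) (h2 : 2 * ℓ ≤ n) (i : Fin n) : σ n ℓ h2 i = swapFun n ℓ h2 i := rfl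

theorem σ_mul_self (n ℓ : ℕ) (h2 : 2 * ℓ ≤ n) : σ n ℓ h2 * σ n ℓ h2 = 1 := by
  ext i
  simp only [Equiv.Perm.mul_apply, σ_apply, Equiv.Perm.one_apply]
  rw [swapFun_invol n ℓ h2 i]

/-- the matrix in the statement -/
def M (F : Type*) [Field F] (n ℓ : ℕ) : Matrix (Fin n) (Fin n) F :=
  Matrix.of (fun i j : Fin n => if (j.val < ℓ ∧ i.val = j.val + (n - ℓ)) ∨ (i.val < ℓ ∧ j.val = i.val + (n - ℓ)) ∨ (i = j ∧ ℓ ≤ i.val ∧ i.val < n - ℓ) then (1 : F) else 0)

theorem M_eq_perm {F : Type*} [Field F] (n ℓ : ℕ) (h2 : 2 * ℓ ≤ n) :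
    M F n ℓ = (σ n ℓ h2).permMatrix F := by
  ext i j
  simp only [M, Matrix.of_apply, Equiv.Perm.permMatrix, PEquiv.toMatrix_apply, Equiv.toPEquiv_apply,
    Option.mem_def, Option.some.injEq]
  congr 1
  rw [σ_apply, eq_iff_iff]
  rw [Fin.ext_iff (a := swapFun n ℓ h2 i), swapFun_val, Fin.ext_iff]
  have := i.2
  have := j.2
  split_ifs <;> constructor <;> intro h <;> omega

theorem M_mul_self {F : Type*} [Field F] (n ℓ : ℕ) (h2 : 2 * ℓ ≤ n) : M F n ℓ * M F n ℓ = 1 := by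
  rw [M_eq_perm n ℓ h2, ← Matrix.permMatrix_mul, σ_mul_self, Matrix.permMatrix_one]

theorem M_mulVec {F : Type*} [Field F] (n ℓ : ℕ) (h2 : 2 * ℓ ≤ n) (v : Fin n → F) :
    M F n ℓ *ᵥ v = v ∘ (σ n ℓ h2) := by
  rw [M_eq_perm n ℓ h2, Matrix.permMatrix_mulVec]

theorem M_det {F : Type*} [Field F] [CharP F 2] (n ℓ : ℕ) (h2 : 2 * ℓ ≤ n) : (M F n ℓ).det = 1 := by
  have h := congrArg Matrix.det (M_mul_self (F := F) n ℓ h2)
  rw [Matrix.det_mul, Matrix.det_one] at h
  set d := (M F n ℓ).det with hd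
  have h3 : (d - 1) * (d - 1) = 0 := by
    have h2d : d + d = 0 := CharTwo.add_self_eq_zero _
    calc (d - 1) * (d - 1) = d * d - (d + d) + 1 := by ring
      _ = 1 - 0 + 1 := by rw [h, h2d]
      _ = 0 := by
        have : (1 : F) + 1 = 0 := CharTwo.add_self_eq_zero _
        rw [sub_zero, this]
  have := mul_self_eq_zero.mp h3
  exact sub_eq_zero.mp this

theorem M_sub_one_rank {F : Type*} [Field F] (n ℓ : ℕ) (h1 : 1 ≤ ℓ) (h2 : 2 * ℓ ≤ n) :
    (M F n ℓ - 1).rank = ℓ := by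
  have hr : ∀ k : Fin ℓ, k.val + (n - ℓ) < n := fun k => by have := k.2; omega
  have hc : ∀ k : Fin ℓ, k.val < n := fun k => by have := k.2; omega
  apply le_antisymm
  · -- upper bound via injectivity of restriction to the first ℓ coordinates on the range
    unfold Matrix.rank
    set f := (M F n ℓ - 1).mulVecLin with hf
    let c : Fin ℓ → Fin n := fun k => ⟨k.val, hc k⟩
    let res : (Fin n → F) →ₗ[F] (Fin ℓ → F) := LinearMap.funLeft F F c
    have hinj : Function.Injective (res.domRestrict (LinearMap.range f)) := by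
      rw [← LinearMap.ker_eq_bot, LinearMap.ker_eq_bot']
      rintro ⟨w, hw⟩ hres
      obtain ⟨v, rfl⟩ := hw
      apply Subtype.ext
      simp only [Submodule.coe_zero]
      have hfv : ∀ i, f v i = v (σ n ℓ h2 i) - v i := by
        intro i
        simp only [hf, Matrix.mulVecLin_apply, Matrix.sub_mulVec, Matrix.one_mulVec, M_mulVec n ℓ h2,
          Pi.sub_apply, Function.comp_apply]
      have hres' : ∀ k : Fin ℓ, f v (c k) = 0 := by
        intro k
        have := congrFun hres k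
        simpa [res, LinearMap.funLeft_apply] using this
      funext i
      rw [Pi.zero_apply, hfv]
      by_cases hi : i.val < ℓ
      · have := hres' ⟨i.val, hi⟩
        rw [hfv] at this
        exact this
      · by_cases hi' : n - ℓ ≤ i.val
        · -- i = σ (c k) with k = i - (n-ℓ)
          have hk : i.val - (n - ℓ) < ℓ := by have := i.2; omega
          have := hres' ⟨i.val - (n - ℓ), hk⟩
          rw [hfv] at this
          have h1 : σ n ℓ h2 (c ⟨i.val - (n - ℓ), hk⟩) = i := by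
            apply Fin.ext
            rw [σ_apply, swapFun_val]
            simp only [c]
            rw [if_pos hk]; omega
          have h2' : σ n ℓ h2 i = c ⟨i.val - (n - ℓ), hk⟩ := by
            apply Fin.ext
            rw [σ_apply, swapFun_val, if_neg hi, if_pos hi']
          rw [h1] at this
          rw [h2']
          have := congrArg Neg.neg this
          simpa using this
        · have : σ n ℓ h2 i = i := by
            apply Fin.ext
            rw [σ_apply, swapFun_val, if_neg hi, if_neg hi']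
          rw [this, sub_self]
    have := LinearMap.finrank_le_finrank_of_injective hinj
    simpa using this
  · have hsub : (M F n ℓ - 1).submatrix (fun k : Fin ℓ => (⟨k.val + (n - ℓ), hr k⟩ : Fin n))
        (fun k : Fin ℓ => (⟨k.val, hc k⟩ : Fin n)) = 1 := by
      ext a b
      simp only [M, Matrix.submatrix_apply, Matrix.sub_apply, Matrix.of_apply, Matrix.one_apply]
      have ha := a.2
      have hb := b.2
      have hne : ¬ ((⟨a.val + (n - ℓ), hr a⟩ : Fin n) = ⟨b.val, hc b⟩) := by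
        rw [Fin.ext_iff]; simp only; omega
      rw [if_neg hne, sub_zero]
      by_cases hab : a = b
      · subst hab
        rw [if_pos (Or.inl ⟨a.2, rfl⟩), if_pos rfl]
      · have : ¬ ((b.val < ℓ ∧ a.val + (n - ℓ) = b.val + (n - ℓ)) ∨ (a.val + (n - ℓ) < ℓ ∧ b.val = a.val + (n - ℓ) + (n - ℓ)) ∨
            ((⟨a.val + (n - ℓ), hr a⟩ : Fin n) = ⟨b.val, hc b⟩ ∧ ℓ ≤ a.val + (n - ℓ) ∧ a.val + (n - ℓ) < n - ℓ)) := by
          rintro (⟨_, h⟩ | ⟨h, _⟩ | ⟨h, _⟩)
          · apply hab; ext; omega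
          · omega
          · exact hne h
        rw [if_neg this, if_neg hab]
    have := Matrix.rank_submatrix_le (M F n ℓ - 1) (fun k : Fin ℓ => (⟨k.val + (n - ℓ), hr k⟩ : Fin n))
        (fun k : Fin ℓ => (⟨k.val, hc k⟩ : Fin n))
    rw [hsub, Matrix.rank_one, Fintype.card_fin] at this
    exact this

theorem M_ne_one {F : Type*} [Field F] (n ℓ : ℕ) (h1 : 1 ≤ ℓ) (h2 : 2 * ℓ ≤ n) : M F n ℓ ≠ 1 := by
  intro h
  have := M_sub_one_rank (F := F) n ℓ h1 h2
  rw [h, sub_self, Matrix.rank_zero] at this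
  omega

/-- In SU_n(q), q even, n ≥ 3: the permutation matrix is an involution of SU_n(q) with rank(a − 1) = ℓ. -/
theorem result {F : Type*} [Field F] [Fintype F] [CharP F 2] {n q : ℕ} (hF : Fintype.card F = q ^ 2) (hn : 3 ≤ n) (ℓ : ℕ) (h1 : 1 ≤ ℓ) (h2 : 2 * ℓ ≤ n) :
    ∃ a : ↥(Cfsg.SU n F q), (((a : Matrix.SpecialLinearGroup (Fin n) F) : Matrix (Fin n) (Fin n) F) = Matrix.of (fun i j : Fin n => if (j.val < ℓ ∧ i.val = j.val + (n - ℓ)) ∨ (i.val < ℓ ∧ j.val = i.val + (n - ℓ)) ∨ (i = j ∧ ℓ ≤ i.val ∧ i.val < n - ℓ) then (1 : F) else 0)) ∧ orderOf a = 2 ∧ ((((a : Matrix.SpecialLinearGroup (Fin n) F) : Matrix (Fin n) (Fin n) F)) - 1).rank = ℓ := by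
  set s : Matrix.SpecialLinearGroup (Fin n) F := ⟨M F n ℓ, M_det n ℓ h2⟩ with hs
  have hscoe : (s : Matrix (Fin n) (Fin n) F) = M F n ℓ := rfl
  have hmem : s ∈ Cfsg.SU n F q := by
    unfold Cfsg.SU Cfsg.preserving
    show ∀ u v, hermForm n F q (slToMat n F s *ᵥ u) (slToMat n F s *ᵥ v) = hermForm n F q u v
    intro u v
    have hmat : slToMat n F s = M F n ℓ := rfl
    rw [hmat, M_mulVec n ℓ h2, M_mulVec n ℓ h2]
    unfold hermForm
    exact Equiv.sum_comp (σ n ℓ h2) (fun i => u i * v i ^ q)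
  refine ⟨⟨s, hmem⟩, rfl, ?_, ?_⟩
  · have : Fact (Nat.Prime 2) := ⟨Nat.prime_two⟩
    apply orderOf_eq_prime
    · apply Subtype.ext
      apply Subtype.ext
      show ((s ^ 2 : Matrix.SpecialLinearGroup (Fin n) F) : Matrix (Fin n) (Fin n) F) = ((1 : Matrix.SpecialLinearGroup (Fin n) F) : Matrix (Fin n) (Fin n) F)
      rw [pow_two, Matrix.SpecialLinearGroup.coe_mul, hscoe, Matrix.SpecialLinearGroup.coe_one]
      exact M_mul_self n ℓ h2
    · intro h
      have h' : (s : Matrix (Fin n) (Fin n) F) = 1 := by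
        have := congrArg (fun x : ↥(Cfsg.SU n F q) => ((x : Matrix.SpecialLinearGroup (Fin n) F) : Matrix (Fin n) (Fin n) F)) h
        simpa using this
      rw [hscoe] at h'
      exact M_ne_one n ℓ h1 h2 h'
  · show (M F n ℓ - 1).rank = ℓ
    exact M_sub_one_rank n ℓ h1 h2

end Cfsg.Agent.S2165
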