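import Mathlib
import Cfsg.Statements.S2166
import Cfsg.Agent.Lib.Helper11.SympInv2
import Cfsg.Agent.S2167

set_option autoImplicit false
open Cfsg

namespace Cfsg.Agent.S2166

open Matrix Cfsg.Agent.Helper11.SympInv Cfsg.Agent.Helper28.SympIso

theorem coe_mul_self {F : Type*} [Field F] {m : ℕ} (a : ↥(Matrix.symplecticGroup (Fin m) F))
    (ha : orderOf a = 2) :
    (a : Matrix (Fin m ⊕ Fin m) (Fin m ⊕ Fin m) F) * (a : Matrix (Fin m ⊕ Fin m) (Fin m ⊕ Fin m) F) = 1 := by
  have h1 : a ^ 2 = 1 := by rw [← ha]; exact pow_orderOf_eq_one a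
  rw [pow_two] at h1
  have := congrArg (fun x : ↥(Matrix.symplecticGroup (Fin m) F) =>
    (x : Matrix (Fin m ⊕ Fin m) (Fin m ⊕ Fin m) F)) h1
  simpa using this

/-- the set `V(a)` is everything exactly in the alternating case -/
theorem card_eq_iff {F : Type*} [Field F] [Fintype F] [CharP F 2] {m : ℕ} (hm : 1 ≤ m)
    (a : ↥(Matrix.symplecticGroup (Fin m) F))
    (haa : (a : Matrix (Fin m ⊕ Fin m) (Fin m ⊕ Fin m) F) * a = 1) :
    (Nat.card {v : Fin m ⊕ Fin m → F // Cfsg.sympForm m F v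
      ((a : Matrix (Fin m ⊕ Fin m) (Fin m ⊕ Fin m) F) *ᵥ v) = 0} = Fintype.card F ^ (2 * m) ↔
      ∀ v, Cfsg.sympForm m F v ((a : Matrix (Fin m ⊕ Fin m) (Fin m ⊕ Fin m) F) *ᵥ v) = 0) ∧
    (¬ (∀ v, Cfsg.sympForm m F v ((a : Matrix (Fin m ⊕ Fin m) (Fin m ⊕ Fin m) F) *ᵥ v) = 0) →
      Nat.card {v : Fin m ⊕ Fin m → F // Cfsg.sympForm m F v
        ((a : Matrix (Fin m ⊕ Fin m) (Fin m ⊕ Fin m) F) *ᵥ v) = 0} * Fintype.card F =
        Fintype.card F ^ (2 * m)) := by
  have hVcard : Nat.card (Fin m ⊕ Fin m → F) = Fintype.card F ^ (2 * m) := by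
    rw [Nat.card_eq_fintype_card, Fintype.card_fun, Fintype.card_sum, Fintype.card_fin, two_mul]
  have hiff : Nat.card {v : Fin m ⊕ Fin m → F // Cfsg.sympForm m F v
      ((a : Matrix (Fin m ⊕ Fin m) (Fin m ⊕ Fin m) F) *ᵥ v) = 0} = Fintype.card F ^ (2 * m) ↔
      ∀ v, Cfsg.sympForm m F v ((a : Matrix (Fin m ⊕ Fin m) (Fin m ⊕ Fin m) F) *ᵥ v) = 0 := by
    constructor
    · intro h v
      rw [← hVcard] at h
      classical
      rw [Nat.card_eq_fintype_card, Nat.card_eq_fintype_card, Fintype.card_subtype] at h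
      have h2 : (Finset.univ.filter (fun v : Fin m ⊕ Fin m → F => Cfsg.sympForm m F v
          ((a : Matrix (Fin m ⊕ Fin m) (Fin m ⊕ Fin m) F) *ᵥ v) = 0)) = Finset.univ := by
        apply Finset.eq_univ_of_card
        exact h
      have h3 : v ∈ Finset.univ.filter (fun v : Fin m ⊕ Fin m → F => Cfsg.sympForm m F v
          ((a : Matrix (Fin m ⊕ Fin m) (Fin m ⊕ Fin m) F) *ᵥ v) = 0) := by
        rw [h2]; exact Finset.mem_univ v
      exact (Finset.mem_filter.1 h3).2
    · intro h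
      rw [← hVcard]
      apply Nat.card_congr
      exact Equiv.subtypeUnivEquiv h
  refine ⟨hiff, fun hn => ?_⟩
  rcases Cfsg.Agent.S2167.card_claim _ a.2 haa hm with h | h
  · exact absurd (hiff.1 h) hn
  · exact h

/-- Conjugacy of involutions in the symplectic group Sp_{2m}(F), F a finite field of characteristic two, m ≥ 2 (Sp taken as the matrices A with A J Aᵀ = J, acting on column vectors, with the alternating form f(u, v) = u ⬝ (J v)). For an involution t write V(t) for the set of vectors v with f(v, t v) = 0 (a subspace). Two involutions a, b are conjugate in Sp_{2m}(F) exactly when a − 1 and b − 1 have the same rank and, in case that rank is even, V(a) and V(b) have the same number of elements. -/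
theorem result {F : Type*} [Field F] [Fintype F] [CharP F 2] {m : ℕ} (hm : 2 ≤ m) (a b : ↥(Matrix.symplecticGroup (Fin m) F)) (ha : orderOf a = 2) (hb : orderOf b = 2) :
    IsConj a b ↔ ((((a : ↥(Matrix.symplecticGroup (Fin m) F)) : Matrix (Fin m ⊕ Fin m) (Fin m ⊕ Fin m) F) - 1).rank = (((b : ↥(Matrix.symplecticGroup (Fin m) F)) : Matrix (Fin m ⊕ Fin m) (Fin m ⊕ Fin m) F) - 1).rank ∧
      (Even (((a : ↥(Matrix.symplecticGroup (Fin m) F)) : Matrix (Fin m ⊕ Fin m) (Fin m ⊕ Fin m) F) - 1).rank → Nat.card {v : Fin m ⊕ Fin m → F // Cfsg.sympForm m F v (Matrix.mulVec ((a : ↥(Matrix.symplecticGroup (Fin m) F)) : Matrix (Fin m ⊕ Fin m) (Fin m ⊕ Fin m) F) v) = 0} = Nat.card {v : Fin m ⊕ Fin m → F // Cfsg.sympForm m F v (Matrix.mulVec ((b : ↥(Matrix.symplecticGroup (Fin m) F)) : Matrix (Fin m ⊕ Fin m) (Fin m ⊕ Fin m) F) v) = 0})) := by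
  have haa := coe_mul_self a ha
  have hbb := coe_mul_self b hb
  have hq2 : 2 ≤ Fintype.card F := Fintype.one_lt_card
  constructor
  · intro hc
    rw [isConj_iff] at hc
    obtain ⟨c, hc⟩ := hc
    have hca : c * a = b * c := by rw [← hc]; group
    have hcam : (c : Matrix (Fin m ⊕ Fin m) (Fin m ⊕ Fin m) F) * a = b * c := by
      have := congrArg (fun x : ↥(Matrix.symplecticGroup (Fin m) F) =>
        (x : Matrix (Fin m ⊕ Fin m) (Fin m ⊕ Fin m) F)) hca
      simpa using this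
    have hdet : IsUnit (c : Matrix (Fin m ⊕ Fin m) (Fin m ⊕ Fin m) F).det :=
      SymplecticGroup.symplectic_det c.2
    constructor
    · have h1 : (c : Matrix (Fin m ⊕ Fin m) (Fin m ⊕ Fin m) F) *
          ((a : Matrix (Fin m ⊕ Fin m) (Fin m ⊕ Fin m) F) - 1) =
          ((b : Matrix (Fin m ⊕ Fin m) (Fin m ⊕ Fin m) F) - 1) *
            (c : Matrix (Fin m ⊕ Fin m) (Fin m ⊕ Fin m) F) := by
        rw [Matrix.mul_sub, Matrix.sub_mul, hcam, Matrix.mul_one, Matrix.one_mul]
      rw [← Matrix.rank_mul_eq_right_of_isUnit_det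
        (c : Matrix (Fin m ⊕ Fin m) (Fin m ⊕ Fin m) F) _ hdet, h1,
        Matrix.rank_mul_eq_left_of_isUnit_det
        (c : Matrix (Fin m ⊕ Fin m) (Fin m ⊕ Fin m) F) _ hdet]
    · intro _
      apply Nat.card_congr
      let e : (Fin m ⊕ Fin m → F) ≃ (Fin m ⊕ Fin m → F) :=
        ((sympMulEquiv m c : Cfsg.Agent.Helper28.IsoGrp.isoGrp (sympBil m F)) :
          (Fin m ⊕ Fin m → F) ≃ₗ[F] (Fin m ⊕ Fin m → F)).toEquiv
      have he : ∀ v, e v = (c : Matrix (Fin m ⊕ Fin m) (Fin m ⊕ Fin m) F) *ᵥ v := fun v => rfl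
      apply Equiv.subtypeEquiv e
      intro v
      rw [he, Matrix.mulVec_mulVec, ← hcam, ← Matrix.mulVec_mulVec,
        Cfsg.Agent.S2167.symp_invariant _ c.2]
  · rintro ⟨hr, hcard⟩
    obtain ⟨ha1, ha2⟩ := card_eq_iff (by omega) a haa
    obtain ⟨hb1, hb2⟩ := card_eq_iff (by omega) b hbb
    by_cases halt : ∀ v, Cfsg.sympForm m F v
        ((a : Matrix (Fin m ⊕ Fin m) (Fin m ⊕ Fin m) F) *ᵥ v) = 0
    · have heven := Cfsg.Agent.S2167.even_claim _ halt
      have h1 := hcard heven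
      rw [ha1.2 halt] at h1
      exact isConj_alt a b haa hbb hr halt (hb1.1 h1.symm)
    · have hbalt : ¬ ∀ v, Cfsg.sympForm m F v
          ((b : Matrix (Fin m ⊕ Fin m) (Fin m ⊕ Fin m) F) *ᵥ v) = 0 := by
        intro hbalt
        have heven := Cfsg.Agent.S2167.even_claim _ hbalt
        rw [← hr] at heven
        have h1 := hcard heven
        rw [hb1.2 hbalt] at h1
        exact halt (ha1.1 h1)
      push Not at halt hbalt
      exact isConj_nonalt a b haa hbb hr halt hbalt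

end Cfsg.Agent.S2166
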