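import Mathlib
import Cfsg.Statements.S2168
import Cfsg.Agent.Lib.Helper11.OrthInvConj

set_option autoImplicit false
open Cfsg

namespace Cfsg.Agent.S2168

open Cfsg.Agent.Helper17.Spinor Cfsg.Agent.Helper11.OrthInv QuadraticMap

/-- the general statement for a bundled quadratic form -/
theorem general {F : Type*} [Field F] [Fintype F] [CharP F 2] {ι : Type} [Fintype ι]
    [DecidableEq ι] (Q : QuadraticForm F (ι → F)) (hQ : (polarBilin Q).Nondegenerate)
    (t s : ↥(Cfsg.isometryGroup F (⇑Q))) (ht : orderOf t = 2) (hs : orderOf s = 2) :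
    IsConj t s ↔ ∃ g ∈ Cfsg.preserving (Units.coeHom (Matrix ι ι F))
      (fun u v => Q (u + v) - Q u - Q v),
      g * ((t : ↥(Cfsg.isometryGroup F (⇑Q))) : GL ι F) * g⁻¹
        = ((s : ↥(Cfsg.isometryGroup F (⇑Q))) : GL ι F) := by
  constructor
  · intro h
    obtain ⟨c, hc⟩ := isConj_iff.1 h
    refine ⟨c.1, ?_, ?_⟩
    · intro u v
      exact polar_mulVec Q c u v
    · exact congrArg Subtype.val hc
  · rintro ⟨g, hg, hgts⟩
    have ht2 : t * t = 1 := by rw [← pow_two, ← ht, pow_orderOf_eq_one]
    have hs2 : s * s = 1 := by rw [← pow_two, ← hs, pow_orderOf_eq_one]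
    apply isConj_of_sp_conj Q hQ t s ht2 hs2 g
    · intro u v
      exact hg u v
    · have h1 : g * (t : GL ι F) = (s : GL ι F) * g := by
        rw [← hgts]; group
      exact congrArg (fun u : GL ι F => (u.1 : Matrix ι ι F)) h1

/-- Involutions in the full isometry group O of the hyperbolic quadratic form Σ x_i y_i in dimension 2m over a finite field F of characteristic two, m ≥ 4 (plus type): two elements of order 2 of O are conjugate in O exactly when they are conjugate under the group of all invertible matrices preserving the polar bilinear form (u, v) ↦ Q(u + v) − Q(u) − Q(v) (the symplectic group of that form). -/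
theorem result {F : Type*} [Field F] [Fintype F] [CharP F 2] {m : ℕ} (hm : 4 ≤ m) (t s : ↥(Cfsg.isometryGroup F (Cfsg.quadFormPlus m F))) (ht : orderOf t = 2) (hs : orderOf s = 2) :
    IsConj t s ↔ ∃ g ∈ Cfsg.preserving (Units.coeHom (Matrix (Fin m ⊕ Fin m) (Fin m ⊕ Fin m) F)) (fun u v => Cfsg.quadFormPlus m F (u + v) - Cfsg.quadFormPlus m F u - Cfsg.quadFormPlus m F v), g * ((t : ↥(Cfsg.isometryGroup F (Cfsg.quadFormPlus m F))) : GL (Fin m ⊕ Fin m) F) * g⁻¹ = ((s : ↥(Cfsg.isometryGroup F (Cfsg.quadFormPlus m F))) : GL (Fin m ⊕ Fin m) F) := by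
  classical
  revert t s
  rw [quadFormPlus_eq]
  intro t s ht hs
  exact general (plusQ m F) plusQ_nondeg t s ht hs

end Cfsg.Agent.S2168
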