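import Mathlib
import Cfsg.Statements.S2173
import Cfsg.Agent.Lib.Helper11.OrthInvOmega

set_option autoImplicit false
open Cfsg

namespace Cfsg.Agent.S2173

open Cfsg.Agent.Helper17.Spinor Cfsg.Agent.Helper11.OrthInv QuadraticMap Module

/-- For the quadratic form Σ x_i y_i + (z₁² + c z₁ z₂ + d z₂²) in dimension 2m with anisotropic binary part over a finite field F of characteristic two, m ≥ 4 (minus type): two involutions of the commutator subgroup Ω that are conjugate in the full isometry group O are conjugate by an element of Ω (no class of involutions of O inside Ω splits). -/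
theorem result {F : Type*} [Field F] [Fintype F] [CharP F 2] {m : ℕ} (hm : 4 ≤ m) (c d : F) (hcd : ∀ z₁ z₂ : F, z₁ ^ 2 + c * z₁ * z₂ + d * z₂ ^ 2 = 0 → z₁ = 0 ∧ z₂ = 0) (t s : ↥(Cfsg.isometryGroup F (Cfsg.quadFormMinus (m - 1) F c d))) (ht : orderOf t = 2) (hs : orderOf s = 2) (htO : t ∈ Cfsg.Omega F (Cfsg.quadFormMinus (m - 1) F c d)) (hsO : s ∈ Cfsg.Omega F (Cfsg.quadFormMinus (m - 1) F c d)) (hconj : IsConj t s) :
    ∃ g ∈ Cfsg.Omega F (Cfsg.quadFormMinus (m - 1) F c d), g * t * g⁻¹ = s := by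
  classical
  revert t s
  rw [quadFormMinus_eq]
  intro t s ht _ _ _ hconj
  have hQ := minusQ_nondeg (k := m - 1) c d hcd
  have hex : Fintype.card F ≠ 2 ∨ Fintype.card ((Fin (m - 1) ⊕ Fin (m - 1)) ⊕ Fin 2) ≠ 4 := by
    rw [Fintype.card_sum, Fintype.card_sum, Fintype.card_fin, Fintype.card_fin]
    right; omega
  have ht2 : t * t = 1 := by
    have := pow_orderOf_eq_one t
    rw [ht] at this
    rw [← pow_two]
    exact this
  have hker : ¬ IsTS (minusQ (m - 1) c d) (LinearMap.ker (Nmap (minusQ (m - 1) c d) t)) := by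
    intro hts
    have h1 := finrank_le_of_isTS_minus c d hcd hts
    have h2 := card_le_two_mul_finrank_ker (minusQ (m - 1) c d) ht2
    rw [Fintype.card_sum, Fintype.card_sum, Fintype.card_fin, Fintype.card_fin] at h2
    omega
  obtain ⟨v, hv, htv⟩ := exists_fixed_nonsingular (minusQ (m - 1) c d) hker
  obtain ⟨g, hg⟩ := isConj_iff.1 hconj
  exact exists_Omega_conj (minusQ (m - 1) c d) hQ hex hg hv htv

end Cfsg.Agent.S2173
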