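import Cfsg.Statements.S2178
import Cfsg.Agent.Lib.Helper6.RootCentData
-- import your own Cfsg.Agent.* helpers here

set_option autoImplicit false
open Cfsg

namespace Cfsg.Agent.S2178

open Cfsg.Lie Cfsg.Agent.Lead.Chev Cfsg.Agent.Helper6.ChevL Cfsg.Agent.Helper6.RootCent

theorem rootGen_QK_eq3 {F : Type*} [Field F] (D : ChevalleyDatum) (k : ℕ) (a b c : ℕ)
    (h1 : ∀ s ∈ [a, b, c], ∃ j < D.rank, j ≠ k ∧ s = D.neg (D.simple j))
    (h2 : ∀ j < D.rank, j ≠ k → D.neg (D.simple j) ∈ [a, b, c]) :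
    rootGen D F (QK D k) = D.posUnipotent F ⊔ D.rootSubgroup F a ⊔ D.rootSubgroup F b ⊔ D.rootSubgroup F c := by
  unfold rootGen ChevalleyDatum.posUnipotent ChevalleyDatum.rootSubgroup
  rw [← Subgroup.closure_union, ← Subgroup.closure_union, ← Subgroup.closure_union]
  congr 1
  ext g
  simp only [QK, Set.mem_ofPred_eq, Set.mem_union]
  constructor
  · rintro ⟨r, t, hr | ⟨j, hj, hjk, rfl⟩, hg⟩
    · exact Or.inl (Or.inl (Or.inl ⟨r, t, hr, hg⟩))
    · have := h2 j hj hjk
      simp only [List.mem_cons, List.mem_nil_iff, or_false] at this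
      rcases this with e | e | e
      · exact Or.inl (Or.inl (Or.inr ⟨t, by rw [← e]; exact hg⟩))
      · exact Or.inl (Or.inr ⟨t, by rw [← e]; exact hg⟩)
      · exact Or.inr ⟨t, by rw [← e]; exact hg⟩
  · rintro (((⟨r, t, hr, hg⟩ | ⟨t, hg⟩) | ⟨t, hg⟩) | ⟨t, hg⟩)
    · exact ⟨r, t, Or.inl hr, hg⟩
    · exact ⟨a, t, Or.inr (h1 a (by simp)), hg⟩
    · exact ⟨b, t, Or.inr (h1 b (by simp)), hg⟩
    · exact ⟨c, t, Or.inr (h1 c (by simp)), hg⟩

/-- Centralizers of the long and the short root involutions in the Chevalley group G of type F₄ over a finite field F of characteristic two (this problem's root numbering for type F₄, from the Chevalley data module: fundamental roots p₁, p₂ short, p₃, p₄ long, with indices 33, 27, 25, 24, their negatives 14, 20, 22, 23; highest root 47, highest short root 44; U the subgroup generated by the positive root subgroups). For an element t of G with matrix x_47(1): the centralizer of t in G is the subgroup generated by U and the root subgroups X_{−p₁}, X_{−p₂},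 X_{−p₃} (the unipotent radical of the maximal parabolic subgroup whose Levi factor has fundamental roots p₁, p₂, p₃, together with that Levi factor's root subgroups; the Levi factor is of type C₃). For an element u of G with matrix x_44(1): the centralizer of u in G is generated by U and X_{−p₂}, X_{−p₃}, X_{−p₄} (the same construction for the Levi factor with fundamental roots p₂, p₃, p₄, of type B₃). -/
theorem result {F : Type*} [Field F] [Fintype F] [CharP F 2] (t u : GL Cfsg.Lie.chevF4.Idx F) (ht : (t : Matrix Cfsg.Lie.chevF4.Idx Cfsg.Lie.chevF4.Idx F) = Cfsg.Lie.chevF4.x F 47 1) (hu : (u : Matrix Cfsg.Lie.chevF4.Idx Cfsg.Lie.chevF4.Idx F) = Cfsg.Lie.chevF4.x F 44 1) :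
    Cfsg.Lie.chevF4.group F ⊓ Subgroup.centralizer {t} = Cfsg.Lie.chevF4.posUnipotent F ⊔ Cfsg.Lie.chevF4.rootSubgroup F 14 ⊔ Cfsg.Lie.chevF4.rootSubgroup F 20 ⊔ Cfsg.Lie.chevF4.rootSubgroup F 22 ∧
    Cfsg.Lie.chevF4.group F ⊓ Subgroup.centralizer {u} = Cfsg.Lie.chevF4.posUnipotent F ⊔ Cfsg.Lie.chevF4.rootSubgroup F 20 ⊔ Cfsg.Lie.chevF4.rootSubgroup F 22 ⊔ Cfsg.Lie.chevF4.rootSubgroup F 23 := by
  have hm : chevF4 ∈ [chevG2, chevB2, chevD4, chevF4, chevE6, chevE7, chevE8] := by simp
  constructor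
  · rw [centralizer_eq (chevFacts_of_mem chevF4 hm) (parFacts_of_mem chevF4 hm)
      (centData_of_chk chevF4 47 3 centOK_F4_long) (corSize_of_mem chevF4 hm) t ht]
    exact rootGen_QK_eq3 chevF4 3 14 20 22 (by decide +kernel) (by decide +kernel)
  · rw [centralizer_eq (chevFacts_of_mem chevF4 hm) (parFacts_of_mem chevF4 hm)
      (centData_of_chk chevF4 44 0 centOK_F4_short) (corSize_of_mem chevF4 hm) u hu]
    exact rootGen_QK_eq3 chevF4 0 20 22 23 (by decide +kernel) (by decide +kernel)

end Cfsg.Agent.S2178
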