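import Cfsg.Statements.S2180
import Cfsg.Agent.Lib.Helper6.G2ShortC
-- import your own Cfsg.Agent.* helpers here

set_option autoImplicit false
open Cfsg

namespace Cfsg.Agent.S2180

/-- Centralizers of involutions in the Chevalley group G of type G₂ over a finite field F of characteristic two with at least four elements (this problem's root numbering for type G₂, from the Chevalley data module: a = p₁ short with index 7, b = p₂ long with index 6, −a = 4, −b = 5, 2a + b = 9, 3a + b = 10, 3a + 2b = 11; U generated by the positive root subgroups). For an element z of G with matrix x_{3a+2b}(1): the centralizer of z in G is generated by U and X_{−a}. For an element t of G with matrix x_{2a+b}(1): the centralizer of t in G is generated by X_{2a+b}, X_{3a+b}, X_{3a+2b}, X_b and X_{−b}. -/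
theorem result {F : Type*} [Field F] [Fintype F] [CharP F 2] (hF : 4 ≤ Fintype.card F) (z t : GL Cfsg.Lie.chevG2.Idx F) (hz : (z : Matrix Cfsg.Lie.chevG2.Idx Cfsg.Lie.chevG2.Idx F) = Cfsg.Lie.chevG2.x F 11 1) (ht : (t : Matrix Cfsg.Lie.chevG2.Idx Cfsg.Lie.chevG2.Idx F) = Cfsg.Lie.chevG2.x F 9 1) :
    Cfsg.Lie.chevG2.group F ⊓ Subgroup.centralizer {z} = Cfsg.Lie.chevG2.posUnipotent F ⊔ Cfsg.Lie.chevG2.rootSubgroup F 4 ∧
    Cfsg.Lie.chevG2.group F ⊓ Subgroup.centralizer {t} = Cfsg.Lie.chevG2.rootSubgroup F 9 ⊔ Cfsg.Lie.chevG2.rootSubgroup F 10 ⊔ Cfsg.Lie.chevG2.rootSubgroup F 11 ⊔ Cfsg.Lie.chevG2.rootSubgroup F 6 ⊔ Cfsg.Lie.chevG2.rootSubgroup F 5 := by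
  have hm : Cfsg.Lie.chevG2 ∈ [Cfsg.Lie.chevG2, Cfsg.Lie.chevB2, Cfsg.Lie.chevD4, Cfsg.Lie.chevF4, Cfsg.Lie.chevE6, Cfsg.Lie.chevE7, Cfsg.Lie.chevE8] := by simp
  have hCF := Cfsg.Agent.Lead.Chev.chevFacts_of_mem (F := F) Cfsg.Lie.chevG2 hm
  have hP := Cfsg.Agent.Helper6.ChevL.parFacts_of_mem Cfsg.Lie.chevG2 hm
  have hC := Cfsg.Agent.Helper6.ChevL.commJ_of_mem Cfsg.Lie.chevG2 hm
  have hS := Cfsg.Agent.Lead.Chev.corSize_of_mem Cfsg.Lie.chevG2 hm
  constructor
  · rw [Cfsg.Agent.Helper6.RootCent.centralizer_eq hCF hP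
      (Cfsg.Agent.Helper6.RootCent.centData_of_chk Cfsg.Lie.chevG2 11 1 Cfsg.Agent.Helper6.RootCent.centOK_G2) hS z hz]
    unfold Cfsg.Agent.Helper6.ChevL.rootGen Cfsg.Lie.ChevalleyDatum.posUnipotent Cfsg.Lie.ChevalleyDatum.rootSubgroup
    rw [← Subgroup.closure_union]
    congr 1
    ext g
    simp only [Cfsg.Agent.Helper6.RootCent.QK, Set.mem_ofPred_eq, Set.mem_union]
    constructor
    · rintro ⟨r, t, hr | ⟨j, hj, hjk, rfl⟩, hg⟩
      · exact Or.inl ⟨r, t, hr, hg⟩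
      · have hj2 : j < 2 := hj
        have hj0 : j = 0 := by omega
        subst hj0
        have e4 : Cfsg.Lie.chevG2.neg (Cfsg.Lie.chevG2.simple 0) = 4 := by decide +kernel
        rw [e4] at hg
        exact Or.inr ⟨t, hg⟩
    · rintro (⟨r, t, hr, hg⟩ | ⟨t, hg⟩)
      · exact ⟨r, t, Or.inl hr, hg⟩
      · refine ⟨4, t, Or.inr ⟨0, by decide, by decide, by decide +kernel⟩, hg⟩
  · rw [Cfsg.Agent.Helper6.G2S.centralizer_short hCF hP hC hS t ht]
    exact Cfsg.Agent.Helper6.G2S.rootGen_QR_eq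

end Cfsg.Agent.S2180
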