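-- Statement S2181 (row 2181): E7(q), q even, has exactly five classes of involutions (assembly by helper23; generic
-- Parts A/B by helper13's INVN team, Part C2 data by helper18, chain checker by helper22, ranks by helper16,
-- table check by helper25; end assembly in Cfsg/Agent/Lib/Helper23/E7Main.lean).
import Cfsg.Statements.S2181
import Cfsg.Agent.Lib.Helper23.E7Main
import Cfsg.Agent.Lib.Helper13.InvNMain
import Cfsg.Agent.Lib.Helper25.InvNTABP
import Cfsg.Agent.Lib.Helper22.InvC2CHAIN
import Cfsg.Agent.Lib.Lead.ChevFactsAll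
import Cfsg.Agent.Lib.Lead.ChevOrderAll
import Cfsg.Agent.Lib.Lead.ChevWsTab
import Cfsg.Agent.Lib.Helper6.ChevLSL2

set_option autoImplicit false
open Cfsg

namespace Cfsg.Agent.S2181

open Cfsg.Lie Cfsg.Agent.Lead.Chev Cfsg.Agent.Helper13.InvN

theorem hmemE7 : chevE7 ∈ [chevG2, chevB2, chevD4, chevF4, chevE6, chevE7, chevE8] := by simp

/-- The Chevalley group of type E₇ over a finite field of characteristic two (the matrix group generated by the root elements) has exactly five conjugacy classes of elements of order 2. -/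
theorem result {F : Type*} [Field F] [Fintype F] [CharP F 2] :
    (ConjClasses.mk '' {g : ↥(Cfsg.Lie.chevE7.group F) | orderOf g = 2}).ncard = 5 := by
  have hF : ChevFacts chevE7 F := chevFacts_of_mem chevE7 hmemE7
  exact Cfsg.Agent.Helper23.E7M.main_of_gen hF
    (fun g hg hgg => invol_conj_frame hF (corSize_of_mem _ hmemE7) (corInj_of_mem _ hmemE7)
      (Cfsg.Agent.Helper6.ChevL.diag2_of_mem _ hmemE7) tabE7 tabE7_ok g hg hgg)
    (c2Tab_sound hF commWs_E7 wsTab_E7 fdE7 fuseChk_E7 tabE7.frames repsE7 c2TabE7 c2TabChk_E7)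

end Cfsg.Agent.S2181
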