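import Cfsg.Statements.S2186
import Cfsg.Agent.Lib.Helper6.RootPairData
import Cfsg.Agent.S1027
-- import your own Cfsg.Agent.* helpers here

set_option autoImplicit false
open Cfsg

namespace Cfsg.Agent.S2186

open Cfsg.Lie Cfsg.Agent.Lead.Chev Cfsg.Agent.Helper6.ChevL Cfsg.Agent.Helper6.RootCent

theorem isPGroup_U {F : Type*} [Field F] [Fintype F] [CharP F 2] (D : ChevalleyDatum)
    (hm : D ∈ [chevG2, chevB2, chevD4, chevF4, chevE6, chevE7, chevE8]) : IsPGroup 2 ↥(D.posUnipotent F) := by
  obtain ⟨n, -, hn⟩ := FiniteField.card F 2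
  have hc := Cfsg.Agent.S1027.result (F := F) D hm
  rw [hn, ← pow_mul] at hc
  have : Fact (Nat.Prime 2) := ⟨Nat.prime_two⟩
  exact IsPGroup.of_card hc

/-- Let G be the Chevalley group of type G₂ (over a field with at least four elements), D₄, E₆, E₇ or E₈ over a finite field F of characteristic two, and let X be the root subgroup of the highest root (the last root index) — a long root subgroup, of order |F|. For every g in G, the subgroup generated by X and its conjugate g X g⁻¹ is either a 2-group or is conjugate by an element of G to the subgroup generated by X and the root subgroup of the lowest root (index 0, the negative of the highest root), which is a copy of SL₂(F). -/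
theorem result {F : Type*} [Field F] [Fintype F] [CharP F 2] (D : Cfsg.Lie.ChevalleyDatum) (hD : D ∈ [Cfsg.Lie.chevG2, Cfsg.Lie.chevD4, Cfsg.Lie.chevE6, Cfsg.Lie.chevE7, Cfsg.Lie.chevE8]) (hF : D = Cfsg.Lie.chevG2 → 4 ≤ Fintype.card F) (g : GL D.Idx F) (hg : g ∈ D.group F) :
    IsPGroup 2 ↥(D.rootSubgroup F (D.nroots - 1) ⊔ (D.rootSubgroup F (D.nroots - 1)).map (MulAut.conj g).toMonoidHom) ∨
    ∃ h ∈ D.group F, (D.rootSubgroup F (D.nroots - 1) ⊔ (D.rootSubgroup F (D.nroots - 1)).map (MulAut.conj g).toMonoidHom).map (MulAut.conj h).toMonoidHom = D.rootSubgroup F (D.nroots - 1) ⊔ D.rootSubgroup F 0 := by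
  simp only [List.mem_cons, List.mem_nil_iff, or_false] at hD
  rcases hD with rfl | rfl | rfl | rfl | rfl
  · have hm : chevG2 ∈ [chevG2, chevB2, chevD4, chevF4, chevE6, chevE7, chevE8] := by simp
    have h0 : chevG2.neg 11 = 0 := by decide +kernel
    have := pair_thm (chevFacts_of_mem chevG2 hm) (centData_of_chk chevG2 11 1 centOK_G2)
      (corSize_of_mem chevG2 hm) pairTab_G2 pairOK_G2 (isPGroup_U chevG2 hm) g hg
    rw [h0] at this
    exact this
  · have hm : chevD4 ∈ [chevG2, chevB2, chevD4, chevF4, chevE6, chevE7, chevE8] := by simp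
    have h0 : chevD4.neg 23 = 0 := by decide +kernel
    have := pair_thm (chevFacts_of_mem chevD4 hm) (centData_of_chk chevD4 23 1 centOK_D4)
      (corSize_of_mem chevD4 hm) pairTab_D4 pairOK_D4 (isPGroup_U chevD4 hm) g hg
    rw [h0] at this
    exact this
  · have hm : chevE6 ∈ [chevG2, chevB2, chevD4, chevF4, chevE6, chevE7, chevE8] := by simp
    have h0 : chevE6.neg 71 = 0 := by decide +kernel
    have := pair_thm (chevFacts_of_mem chevE6 hm) (centData_of_chk chevE6 71 1 centOK_E6)
      (corSize_of_mem chevE6 hm) pairTab_E6 pairOK_E6 (isPGroup_U chevE6 hm) g hg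
    rw [h0] at this
    exact this
  · have hm : chevE7 ∈ [chevG2, chevB2, chevD4, chevF4, chevE6, chevE7, chevE8] := by simp
    have h0 : chevE7.neg 125 = 0 := by decide +kernel
    have := pair_thm (chevFacts_of_mem chevE7 hm) (centData_of_chk chevE7 125 0 centOK_E7)
      (corSize_of_mem chevE7 hm) pairTab_E7 pairOK_E7 (isPGroup_U chevE7 hm) g hg
    rw [h0] at this
    exact this
  · have hm : chevE8 ∈ [chevG2, chevB2, chevD4, chevF4, chevE6, chevE7, chevE8] := by simp
    have h0 : chevE8.neg 239 = 0 := by decide +kernel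
    have := pair_thm (chevFacts_of_mem chevE8 hm) (centData_of_chk chevE8 239 7 centOK_E8)
      (corSize_of_mem chevE8 hm) pairTab_E8 pairOK_E8 (isPGroup_U chevE8 hm) g hg
    rw [h0] at this
    exact this

end Cfsg.Agent.S2186
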