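import Cfsg.Statements.S2209
import Cfsg.Agent.Lib.Helper6.RootCentData
-- import your own Cfsg.Agent.* helpers here

set_option autoImplicit false
open Cfsg

namespace Cfsg.Agent.S2209

open Cfsg.Lie Cfsg.Agent.Lead.Chev Cfsg.Agent.Helper6.ChevL Cfsg.Agent.Helper6.RootCent

theorem rootGen_QK_eq {F : Type*} [Field F] (D : ChevalleyDatum) (k : ℕ) (L : List ℕ)
    (h1 : ∀ s ∈ L, ∃ j < D.rank, j ≠ k ∧ s = D.neg (D.simple j))
    (h2 : ∀ j < D.rank, j ≠ k → D.neg (D.simple j) ∈ L) :
    rootGen D F (QK D k) = D.posUnipotent F ⊔ Subgroup.closure {g : GL D.Idx F | ∃ s ∈ L, ∃ c : F,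
      (g : Matrix D.Idx D.Idx F) = D.x F s c} := by
  unfold rootGen ChevalleyDatum.posUnipotent
  rw [← Subgroup.closure_union]
  congr 1
  ext g
  simp only [QK, Set.mem_ofPred_eq, Set.mem_union]
  constructor
  · rintro ⟨r, t, hr | ⟨j, hj, hjk, rfl⟩, hg⟩
    · exact Or.inl ⟨r, t, hr, hg⟩
    · exact Or.inr ⟨_, h2 j hj hjk, t, hg⟩
  · rintro (⟨r, t, hr, hg⟩ | ⟨s, hs, t, hg⟩)
    · exact ⟨r, t, Or.inl hr, hg⟩
    · exact ⟨s, t, Or.inr (h1 s hs), hg⟩

/-- Centralizer of a long root involution in the Chevalley groups of type E₆, E₇, E₈ over a finite field F of characteristic two. Let G be the group generated by the root elements, U the subgroup generated by the positive root subgroups, r the highest root (the last root index: 71, 125, 239 respectively), and t the element of G with matrix x_r(1). Then the centralizer of t in G is the subgroup generated by U together with the root subgroups X_{−p} for the fundamental roots p orthogonal to r — all fundamental roots except p₂ for E₆, except p₁ for E₇, except p₈ for E₈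 (numbering with p₁–p₃–p₄–…–p_l the long chain and p₂ joined to p₄); the indices of these negative fundamental roots are 15, 29, 32, 34, 35 (E₆), 47, 52, 56, 59, 61, 62 (E₇), 77, 98, 104, 109, 113, 116, 118 (E₈). (This is the unipotent radical of the corresponding maximal parabolic subgroup extended by the root subgroups of its Levi factor, of type A₅, D₆, E₇ respectively.) -/
theorem result {F : Type*} [Field F] [Fintype F] [CharP F 2] (d : Cfsg.Lie.ChevalleyDatum × List ℕ)
    (hd : d ∈ [(Cfsg.Lie.chevE6, [15, 29, 32, 34, 35]), (Cfsg.Lie.chevE7, [47, 52, 56, 59, 61, 62]), (Cfsg.Lie.chevE8, [77, 98, 104, 109, 113, 116, 118])])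
    (t : GL d.1.Idx F) (ht : (t : Matrix d.1.Idx d.1.Idx F) = d.1.x F (d.1.nroots - 1) 1) :
    d.1.group F ⊓ Subgroup.centralizer {t} = d.1.posUnipotent F ⊔ Subgroup.closure {g : GL d.1.Idx F | ∃ s ∈ d.2, ∃ c : F, (g : Matrix d.1.Idx d.1.Idx F) = d.1.x F s c} := by
  simp only [List.mem_cons, List.mem_nil_iff, or_false] at hd
  rcases hd with rfl | rfl | rfl
  · have hm : chevE6 ∈ [chevG2, chevB2, chevD4, chevF4, chevE6, chevE7, chevE8] := by simp
    rw [centralizer_eq (chevFacts_of_mem chevE6 hm) (parFacts_of_mem chevE6 hm)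
      (centData_of_chk chevE6 71 1 centOK_E6) (corSize_of_mem chevE6 hm) t ht]
    exact rootGen_QK_eq chevE6 1 _ (by decide +kernel) (by decide +kernel)
  · have hm : chevE7 ∈ [chevG2, chevB2, chevD4, chevF4, chevE6, chevE7, chevE8] := by simp
    rw [centralizer_eq (chevFacts_of_mem chevE7 hm) (parFacts_of_mem chevE7 hm)
      (centData_of_chk chevE7 125 0 centOK_E7) (corSize_of_mem chevE7 hm) t ht]
    exact rootGen_QK_eq chevE7 0 _ (by decide +kernel) (by decide +kernel)
  · have hm : chevE8 ∈ [chevG2, chevB2, chevD4, chevF4, chevE6, chevE7, chevE8] := by simp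
    rw [centralizer_eq (chevFacts_of_mem chevE8 hm) (parFacts_of_mem chevE8 hm)
      (centData_of_chk chevE8 239 7 centOK_E8) (corSize_of_mem chevE8 hm) t ht]
    exact rootGen_QK_eq chevE8 7 _ (by decide +kernel) (by decide +kernel)

end Cfsg.Agent.S2209
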