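import Mathlib
import Cfsg.Statements.S2222
import Cfsg.Agent.Lib.Helper19.Conj
import Cfsg.Agent.Lib.Helper21.Pron
import Cfsg.Agent.Lib.Helper21.PCentral
import Cfsg.Agent.Lib.Helper21.SylowAlt
import Cfsg.Agent.Lib.Helper21.SylowAlt5

set_option autoImplicit false
open Cfsg

namespace Cfsg.Agent.S2222

open Cfsg.Agent.Helper19 Cfsg.Agent.Helper21

/-- In the alternating group of degree n ≥ 5 every subgroup H of odd index is pronormal: for every element g, the subgroups H and gHg⁻¹ are conjugate by an element of the subgroup they generate. -/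
theorem result (n : ℕ) (hn : 5 ≤ n)
    (H : Subgroup (alternatingGroup (Fin n))) (hH : Odd H.index) : Cfsg.IsPronormal H := by
  have : Fact (Nat.Prime 2) := ⟨Nat.prime_two⟩
  have hnd : ¬ 2 ∣ H.index := by
    rw [← even_iff_two_dvd, Nat.not_even_iff_odd]
    exact hH
  obtain ⟨S, hSH, _⟩ := PCentral.exists_sylow_in (p := 2) H ⊥ hnd IsPGroup.of_bot bot_le
  refine Pron.pron_of_normalizer (G := ↥(alternatingGroup (Fin n)))
    (S : Subgroup ↥(alternatingGroup (Fin n))) H hSH (Pron.sylow_pron S) ?_
  intro g hg
  have key : H.map (MulAut.conj g).toMonoidHom = H := by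
    rcases Nat.lt_or_ge n 6 with h | h
    · have h5 : Fintype.card (Fin n) = 5 := by
        rw [Fintype.card_fin]
        omega
      exact SylowAlt5.map_conj_eq_of_card_five h5 H hH S hSH g hg
    · have h6 : 6 ≤ Fintype.card (Fin n) := by
        rw [Fintype.card_fin]
        exact h
      exact map_conj_eq_self_of_mem H g
        (hSH (SylowAlt.normalizer_sylow_two_alternating h6 S hg))
  refine ⟨1, Subgroup.one_mem _, ?_⟩
  rw [key, map_conj_one]

end Cfsg.Agent.S2222
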