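import Mathlib
import Cfsg.Statements.S2231
import Cfsg.Agent.Lib.Helper11.AbelianPSubgroups

set_option autoImplicit false
open Cfsg

namespace Cfsg.Agent.S2231

open Cfsg.Agent.Helper11

/-- Two `2 × 2` matrices of determinant one fixing a common nonzero vector commute. -/
theorem comm_of_common_fixed {K : Type*} [Field K] (A B : Matrix (Fin 2) (Fin 2) K)
    (hA : A.det = 1) (hB : B.det = 1) (v : Fin 2 → K) (hv : v ≠ 0)
    (hAv : A.mulVec v = v) (hBv : B.mulVec v = v) : A * B = B * A := by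
  have h1 := congrFun hAv 0
  have h2 := congrFun hAv 1
  have h1' := congrFun hBv 0
  have h2' := congrFun hBv 1
  simp only [Matrix.mulVec, dotProduct, Fin.sum_univ_two] at h1 h2 h1' h2'
  rw [Matrix.det_fin_two] at hA hB
  have hxy : v 0 ≠ 0 ∨ v 1 ≠ 0 := by
    by_contra h
    push Not at h
    apply hv
    ext i; fin_cases i <;> simp [h.1, h.2]
  rcases hxy with hx | hy
  · have hd : A 1 1 * v 0 = v 0 + A 0 1 * v 1 := by
      linear_combination v 0 * hA - A 1 1 * h1 + A 0 1 * h2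
    have hd' : B 1 1 * v 0 = v 0 + B 0 1 * v 1 := by
      linear_combination v 0 * hB - B 1 1 * h1' + B 0 1 * h2'
    have ea : A 0 0 = 1 - A 0 1 * v 1 / v 0 := by field_simp; linear_combination h1
    have ed : A 1 1 = 1 + A 0 1 * v 1 / v 0 := by field_simp; linear_combination hd
    have ec : A 1 0 = - A 0 1 * v 1 ^ 2 / v 0 ^ 2 := by
      field_simp
      linear_combination v 0 * h2 - v 1 * hd
    have ea' : B 0 0 = 1 - B 0 1 * v 1 / v 0 := by field_simp; linear_combination h1'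
    have ed' : B 1 1 = 1 + B 0 1 * v 1 / v 0 := by field_simp; linear_combination hd'
    have ec' : B 1 0 = - B 0 1 * v 1 ^ 2 / v 0 ^ 2 := by
      field_simp
      linear_combination v 0 * h2' - v 1 * hd'
    ext i j
    rw [Matrix.mul_apply, Matrix.mul_apply, Fin.sum_univ_two, Fin.sum_univ_two]
    fin_cases i <;> fin_cases j <;> simp only [Fin.zero_eta, Fin.mk_one, Fin.isValue] <;>
      simp only [ea, ed, ec, ea', ed', ec'] <;> field_simp <;> ring
  · have hd : A 0 0 * v 1 = v 1 + A 1 0 * v 0 := by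
      linear_combination v 1 * hA - A 0 0 * h2 + A 1 0 * h1
    have hd' : B 0 0 * v 1 = v 1 + B 1 0 * v 0 := by
      linear_combination v 1 * hB - B 0 0 * h2' + B 1 0 * h1'
    have ea : A 1 1 = 1 - A 1 0 * v 0 / v 1 := by field_simp; linear_combination h2
    have ed : A 0 0 = 1 + A 1 0 * v 0 / v 1 := by field_simp; linear_combination hd
    have ec : A 0 1 = - A 1 0 * v 0 ^ 2 / v 1 ^ 2 := by
      field_simp
      linear_combination v 1 * h1 - v 0 * hd
    have ea' : B 1 1 = 1 - B 1 0 * v 0 / v 1 := by field_simp; linear_combination h2'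
    have ed' : B 0 0 = 1 + B 1 0 * v 0 / v 1 := by field_simp; linear_combination hd'
    have ec' : B 0 1 = - B 1 0 * v 0 ^ 2 / v 1 ^ 2 := by
      field_simp
      linear_combination v 1 * h1' - v 0 * hd'
    ext i j
    rw [Matrix.mul_apply, Matrix.mul_apply, Fin.sum_univ_two, Fin.sum_univ_two]
    fin_cases i <;> fin_cases j <;> simp only [Fin.zero_eta, Fin.mk_one, Fin.isValue] <;>
      simp only [ea, ed, ec, ea', ed', ec'] <;> field_simp <;> ring

/-- In `SL₂(K)`, `K` a finite field of characteristic `p`, all `p`-subgroups are abelian. -/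
theorem abP_sl2 {p : ℕ} [Fact p.Prime] {K : Type*} [Field K] [Fintype K] [CharP K p] :
    AbP p (Matrix.SpecialLinearGroup (Fin 2) K) := by
  intro P hP x hx y hy
  letI act : MulAction P (Fin 2 → K) :=
    { smul := fun g v => (g.1.1 : Matrix (Fin 2) (Fin 2) K).mulVec v
      one_smul := fun v => by
        change ((1 : P).1.1 : Matrix (Fin 2) (Fin 2) K).mulVec v = v
        simp
      mul_smul := fun g h v => by
        change ((g * h : P).1.1 : Matrix (Fin 2) (Fin 2) K).mulVec v =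
          (g.1.1 : Matrix (Fin 2) (Fin 2) K).mulVec ((h.1.1 : Matrix (Fin 2) (Fin 2) K).mulVec v)
        rw [Matrix.mulVec_mulVec]
        rfl }
  have hsmul : ∀ (g : P) (v : Fin 2 → K), g • v = (g.1.1 : Matrix (Fin 2) (Fin 2) K).mulVec v :=
    fun _ _ => rfl
  have hcard : p ∣ Nat.card (Fin 2 → K) := by
    obtain ⟨n, -, hn⟩ := FiniteField.card K p
    rw [Nat.card_fun, Nat.card_eq_fintype_card, Nat.card_eq_fintype_card, hn]
    simp only [Fintype.card_fin]
    rw [← pow_mul]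
    exact dvd_pow_self p (by positivity)
  have h0 : (0 : Fin 2 → K) ∈ MulAction.fixedPoints P (Fin 2 → K) := by
    intro g
    rw [hsmul]
    exact Matrix.mulVec_zero _
  obtain ⟨b, hb, hb0⟩ :=
    hP.exists_fixed_point_of_prime_dvd_card_of_fixed_point (Fin 2 → K) hcard h0
  have hbx := hb ⟨x, hx⟩
  have hby := hb ⟨y, hy⟩
  rw [hsmul] at hbx hby
  have := comm_of_common_fixed x.1 y.1 x.2 y.2 b (Ne.symm hb0) hbx hby
  apply Subtype.ext
  simpa using this

/-- The upper unitriangular subgroup of `SL₃(R)`. -/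
def upperUni (R : Type*) [CommRing R] : Subgroup (Matrix.SpecialLinearGroup (Fin 3) R) where
  carrier := {M | M.1 1 0 = 0 ∧ M.1 2 0 = 0 ∧ M.1 2 1 = 0 ∧ M.1 0 0 = 1 ∧ M.1 1 1 = 1 ∧ M.1 2 2 = 1}
  one_mem' := by simp
  mul_mem' := by
    rintro A B ⟨a1, a2, a3, a4, a5, a6⟩ ⟨b1, b2, b3, b4, b5, b6⟩
    simp only [Set.mem_ofPred_eq, Matrix.SpecialLinearGroup.coe_mul, Matrix.mul_apply,
      Fin.sum_univ_three, a1, a2, a3, a4, a5, a6, b1, b2, b3, b4, b5, b6]
    simp
  inv_mem' := by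
    rintro A ⟨a1, a2, a3, a4, a5, a6⟩
    simp only [Set.mem_ofPred_eq, Matrix.SpecialLinearGroup.coe_inv, Matrix.adjugate_fin_three,
      a1, a2, a3, a4, a5, a6]
    simp

theorem mem_upperUni {R : Type*} [CommRing R] (M : Matrix.SpecialLinearGroup (Fin 3) R) :
    M ∈ upperUni R ↔ (M.1 1 0 = 0 ∧ M.1 2 0 = 0 ∧ M.1 2 1 = 0 ∧ M.1 0 0 = 1 ∧ M.1 1 1 = 1 ∧
      M.1 2 2 = 1) := Iff.rfl

theorem upperUni_isPGroup {p : ℕ} [Fact p.Prime] (hp : p ≠ 2) : IsPGroup p (upperUni (ZMod p)) := by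
  rintro ⟨g, hg⟩
  refine ⟨1, ?_⟩
  rw [pow_one]
  apply Subtype.ext
  apply Subtype.ext
  rw [mem_upperUni] at hg
  obtain ⟨a1, a2, a3, a4, a5, a6⟩ := hg
  have hp3 : 3 ≤ p := by
    have := (Fact.out : p.Prime).two_le
    omega
  change (g ^ p).1 = 1
  rw [Matrix.SpecialLinearGroup.coe_pow]
  have hN : (g.1 - 1) ^ 3 = 0 := by
    ext i j
    simp only [pow_succ, pow_zero, one_mul, Matrix.mul_apply, Fin.sum_univ_three, Matrix.sub_apply,
      Matrix.one_apply]
    fin_cases i <;> fin_cases j <;> simp [a1, a2, a3, a4, a5, a6]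
  have hg' : g.1 = (g.1 - 1) + 1 := by abel
  rw [hg', add_pow_char_of_commute _ (Commute.one_right _), one_pow]
  have : (g.1 - 1) ^ p = 0 := by
    obtain ⟨k, hk⟩ : ∃ k, p = 3 + k := ⟨p - 3, by omega⟩
    have h3 : ∀ k : ℕ, (g.1 - 1) ^ (3 + k) = 0 := fun k => by rw [pow_add, hN, zero_mul]
    have := h3 k
    rwa [← hk] at this
  rw [this, zero_add]

/-- `Qd(p)` has a nonabelian `p`-subgroup for odd `p`. -/
theorem not_abP_qd {p : ℕ} [Fact p.Prime] (hp : p ≠ 2) : ¬ AbP p ↥(Cfsg.qd p) := by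
  intro h
  let x : Matrix.SpecialLinearGroup (Fin 3) (ZMod p) :=
    ⟨!![1, 1, 0; 0, 1, 0; 0, 0, 1], by simp [Matrix.det_fin_three]⟩
  let y : Matrix.SpecialLinearGroup (Fin 3) (ZMod p) :=
    ⟨!![1, 0, 0; 0, 1, 1; 0, 0, 1], by simp [Matrix.det_fin_three]⟩
  have hxq : x ∈ Cfsg.qd p := Subgroup.subset_closure (by
    change x.1 2 0 = 0 ∧ x.1 2 1 = 0 ∧ x.1 2 2 = 1
    simp [x])
  have hyq : y ∈ Cfsg.qd p := Subgroup.subset_closure (by
    change y.1 2 0 = 0 ∧ y.1 2 1 = 0 ∧ y.1 2 2 = 1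
    simp [y])
  have hxU : x ∈ upperUni (ZMod p) := by rw [mem_upperUni]; simp [x]
  have hyU : y ∈ upperUni (ZMod p) := by rw [mem_upperUni]; simp [y]
  have hP : IsPGroup p ((upperUni (ZMod p)).subgroupOf (Cfsg.qd p)) :=
    (upperUni_isPGroup hp).comap_of_injective (Cfsg.qd p).subtype Subtype.coe_injective
  have hc := h _ hP ⟨x, hxq⟩ (by rw [Subgroup.mem_subgroupOf]; exact hxU) ⟨y, hyq⟩
    (by rw [Subgroup.mem_subgroupOf]; exact hyU)
  have hc' : x * y = y * x := congrArg Subtype.val hc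
  have hc'' : (x * y).1 0 2 = (y * x).1 0 2 := by rw [hc']
  rw [Matrix.SpecialLinearGroup.coe_mul, Matrix.SpecialLinearGroup.coe_mul, Matrix.mul_apply,
    Matrix.mul_apply, Fin.sum_univ_three, Fin.sum_univ_three] at hc''
  simp [x, y] at hc''

/-- Let p be an odd prime and K a finite field of characteristic p. Then Qd(p) (the natural semidirect product of an elementary abelian group of order p² by SL₂(p)) is not involved in the projective special linear group PSL₂(K). -/
theorem result {p : ℕ} [Fact p.Prime] (hp : p ≠ 2) {K : Type*} [Field K] [Fintype K] [CharP K p] : ¬ Cfsg.Involves ↥(Cfsg.qd p) (Matrix.ProjectiveSpecialLinearGroup (Fin 2) K) := by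
  rintro ⟨K', R, hn, ⟨e⟩⟩
  classical
  have h1 : AbP p (Matrix.SpecialLinearGroup (Fin 2) K) := abP_sl2
  have h2 : AbP p (Matrix.ProjectiveSpecialLinearGroup (Fin 2) K) := h1.quotient _
  have h3 : AbP p K' := h2.subgroup K'
  have h4 : AbP p (K' ⧸ R.subgroupOf K') := h3.quotient _
  exact not_abP_qd hp (h4.of_equiv e.symm)

end Cfsg.Agent.S2231
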