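import Mathlib
import Cfsg.Statements.S2232
import Cfsg.Agent.Lib.Helper11.SU3PC

set_option autoImplicit false
open Cfsg

namespace Cfsg.Agent.S2232

open Matrix Cfsg.Agent.Helper11.QdFree Cfsg.Agent.Helper11.SU3

section qdfacts

variable {p : ℕ} [hp : Fact p.Prime]

/-- the last row of a matrix of `Qd(p)` -/
theorem lastRow_of_mem {M : Matrix.SpecialLinearGroup (Fin 3) (ZMod p)} (h : M ∈ Cfsg.qd p) :
    Pi.single (2 : Fin 3) (1 : ZMod p) ᵥ* (M : Matrix (Fin 3) (Fin 3) (ZMod p)) =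
      Pi.single (2 : Fin 3) (1 : ZMod p) := by
  unfold Cfsg.qd at h
  induction h using Subgroup.closure_induction with
  | mem x hx =>
    obtain ⟨h0, h1, h2⟩ := hx
    ext j
    fin_cases j <;> simp [Matrix.vecMul, dotProduct, Fin.sum_univ_three, Pi.single_apply, h0, h1, h2]
  | one => simp
  | mul x y _ _ hx hy =>
    rw [Matrix.SpecialLinearGroup.coe_mul, ← Matrix.vecMul_vecMul, hx, hy]
  | inv x _ hx =>
    have h1 : (Pi.single (2 : Fin 3) (1 : ZMod p) ᵥ* (x : Matrix (Fin 3) (Fin 3) (ZMod p))) ᵥ*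
        ((x⁻¹ : Matrix.SpecialLinearGroup (Fin 3) (ZMod p)) : Matrix (Fin 3) (Fin 3) (ZMod p)) =
        Pi.single (2 : Fin 3) (1 : ZMod p) := by
      rw [Matrix.vecMul_vecMul, ← Matrix.SpecialLinearGroup.coe_mul, mul_inv_cancel]
      simp
    rw [hx] at h1
    exact h1

theorem entries_of_mem {M : Matrix.SpecialLinearGroup (Fin 3) (ZMod p)} (h : M ∈ Cfsg.qd p) :
    (M : Matrix (Fin 3) (Fin 3) (ZMod p)) 2 0 = 0 ∧ (M : Matrix (Fin 3) (Fin 3) (ZMod p)) 2 1 = 0 ∧
      (M : Matrix (Fin 3) (Fin 3) (ZMod p)) 2 2 = 1 := by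
  have := lastRow_of_mem h
  refine ⟨?_, ?_, ?_⟩
  · simpa [Matrix.vecMul, dotProduct, Fin.sum_univ_three, Pi.single_apply] using congrFun this 0
  · simpa [Matrix.vecMul, dotProduct, Fin.sum_univ_three, Pi.single_apply] using congrFun this 1
  · simpa [Matrix.vecMul, dotProduct, Fin.sum_univ_three, Pi.single_apply] using congrFun this 2

/-- the upper left block -/
def blockHom : ↥(Cfsg.qd p) →* Matrix (Fin 2) (Fin 2) (ZMod p) where
  toFun M := ((M : Matrix.SpecialLinearGroup (Fin 3) (ZMod p)) :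
    Matrix (Fin 3) (Fin 3) (ZMod p)).submatrix Fin.castSucc Fin.castSucc
  map_one' := by
    ext i j
    fin_cases i <;> fin_cases j <;> simp [Matrix.one_apply]
  map_mul' M N := by
    obtain ⟨h0, h1, h2⟩ := entries_of_mem N.2
    ext i j
    fin_cases i <;> fin_cases j <;>
      simp [Matrix.mul_apply, Fin.sum_univ_three, Fin.sum_univ_two, h0, h1, h2]

/-- a matrix with `(M - 1) ^ 2 = 0` has order dividing `p` -/
theorem pow_char_of_sq (M : Matrix (Fin 3) (Fin 3) (ZMod p)) (h : (M - 1) ^ 2 = 0) : M ^ p = 1 := by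
  have h1 : (M - 1) ^ p = 0 := by
    have h2 : 2 ≤ p := hp.out.two_le
    have e : (M - 1) ^ p = (M - 1) ^ 2 * (M - 1) ^ (p - 2) := by
      rw [← pow_add]
      congr 1
      omega
    rw [e, h, zero_mul]
  have h2 := sub_pow_char_of_commute p (Commute.one_right M)
  rw [h1, one_pow] at h2
  exact sub_eq_zero.1 h2.symm

theorem isPEl_of_sq (M : ↥(Cfsg.qd p))
    (h : (((M : Matrix.SpecialLinearGroup (Fin 3) (ZMod p)) : Matrix (Fin 3) (Fin 3) (ZMod p)) - 1) ^ 2
      = 0) : IsPEl p M := by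
  refine ⟨1, ?_⟩
  rw [pow_one]
  apply Subtype.ext
  apply Subtype.ext
  rw [Subgroup.coe_pow, Matrix.SpecialLinearGroup.coe_pow, pow_char_of_sq _ h]
  rfl

/-- the first transvection -/
def a₀ : ↥(Cfsg.qd p) :=
  ⟨⟨!![1, 1, 0; 0, 1, 0; 0, 0, 1], by simp [Matrix.det_fin_three]⟩,
    Subgroup.subset_closure ⟨by simp, by simp, by simp⟩⟩

/-- the second transvection -/
def b₀ : ↥(Cfsg.qd p) :=
  ⟨⟨!![1, 0, 0; 1, 1, 0; 0, 0, 1], by simp [Matrix.det_fin_three]⟩,
    Subgroup.subset_closure ⟨by simp, by simp, by simp⟩⟩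

/-- a translation -/
def y₀ : ↥(Cfsg.qd p) :=
  ⟨⟨!![1, 0, 1; 0, 1, 0; 0, 0, 1], by simp [Matrix.det_fin_three]⟩,
    Subgroup.subset_closure ⟨by simp, by simp, by simp⟩⟩

theorem a₀_isPEl : IsPEl p (a₀ : ↥(Cfsg.qd p)) := by
  apply isPEl_of_sq
  ext i j
  fin_cases i <;> fin_cases j <;>
    simp [a₀, pow_two, Matrix.mul_apply, Fin.sum_univ_three, Matrix.one_apply]

theorem b₀_isPEl : IsPEl p (b₀ : ↥(Cfsg.qd p)) := by
  apply isPEl_of_sq
  ext i j
  fin_cases i <;> fin_cases j <;>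
    simp [b₀, pow_two, Matrix.mul_apply, Fin.sum_univ_three, Matrix.one_apply]

theorem ab_not_isPEl : ¬ IsPEl p ((a₀ : ↥(Cfsg.qd p)) * b₀) := by
  rintro ⟨k, hk⟩
  set C : Matrix (Fin 3) (Fin 3) (ZMod p) :=
    (((a₀ * b₀ : ↥(Cfsg.qd p)) : Matrix.SpecialLinearGroup (Fin 3) (ZMod p)) :
      Matrix (Fin 3) (Fin 3) (ZMod p)) with hC
  have h1 : C ^ p ^ k = 1 := by
    have := congrArg (fun M : ↥(Cfsg.qd p) =>
      ((M : Matrix.SpecialLinearGroup (Fin 3) (ZMod p)) : Matrix (Fin 3) (Fin 3) (ZMod p))) hk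
    simpa [hC] using this
  have h2 : (C - 1) ^ p ^ k = 0 := by
    rw [sub_pow_char_pow_of_commute p k (Commute.one_right C), h1, one_pow, sub_self]
  have h3 : IsNilpotent (C - 1) := ⟨p ^ k, h2⟩
  have h4 : IsNilpotent (C - 1).trace := Matrix.isNilpotent_trace_of_isNilpotent h3
  have h5 : (C - 1).trace = 0 := h4.eq_zero
  have hCe : C = !![1, 1, 0; 0, 1, 0; 0, 0, 1] * !![1, 0, 0; 1, 1, 0; 0, 0, 1] := by
    rw [hC, Subgroup.coe_mul, Matrix.SpecialLinearGroup.coe_mul]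
    rfl
  have h6 : (C - 1).trace = 1 := by
    rw [hCe]
    simp [Matrix.trace, Fin.sum_univ_three, Matrix.mul_apply, Matrix.one_apply]
    ring
  rw [h6] at h5
  exact one_ne_zero h5

theorem ker_isPGroup : IsPGroup p ↥(blockHom (p := p)).ker := by
  intro y
  obtain ⟨h0, h1, h2⟩ := entries_of_mem (y : ↥(Cfsg.qd p)).2
  have hy : blockHom (y : ↥(Cfsg.qd p)) = 1 := y.2
  have e : ∀ i j : Fin 2, (((y : ↥(Cfsg.qd p)) : Matrix.SpecialLinearGroup (Fin 3) (ZMod p)) :
      Matrix (Fin 3) (Fin 3) (ZMod p)) (Fin.castSucc i) (Fin.castSucc j) =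
        (1 : Matrix (Fin 2) (Fin 2) (ZMod p)) i j := by
    intro i j
    rw [← hy]
    rfl
  have e00 := e 0 0
  have e01 := e 0 1
  have e10 := e 1 0
  have e11 := e 1 1
  simp at e00 e01 e10 e11
  have hsq : IsPEl p (y : ↥(Cfsg.qd p)) := by
    apply isPEl_of_sq
    ext i j
    fin_cases i <;> fin_cases j <;>
      simp [pow_two, Matrix.mul_apply, Fin.sum_univ_three, Matrix.one_apply, h0, h1, h2, e00, e01,
        e10, e11]
  obtain ⟨k, hk⟩ := hsq
  refine ⟨k, ?_⟩
  apply Subtype.ext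
  rw [Subgroup.coe_pow, hk]
  rfl

theorem ker_ne_bot : (blockHom (p := p)).ker ≠ ⊥ := by
  intro h
  have hy : (y₀ : ↥(Cfsg.qd p)) ∈ (blockHom (p := p)).ker := by
    rw [MonoidHom.mem_ker]
    ext i j
    fin_cases i <;> fin_cases j <;> simp [blockHom, y₀, Matrix.one_apply]
  rw [h, Subgroup.mem_bot] at hy
  have := congrArg (fun M : ↥(Cfsg.qd p) =>
      ((M : Matrix.SpecialLinearGroup (Fin 3) (ZMod p)) : Matrix (Fin 3) (Fin 3) (ZMod p)) 0 2) hy
  simp [y₀] at this

end qdfacts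

/-- Let p be an odd prime, q a power of p and K a finite field with q² elements. Then Qd(p) (the natural semidirect product of an elementary abelian group of order p² by SL₂(p)) is not involved in the projective special unitary group PSU₃(q) realised over K. -/
theorem result {p : ℕ} [Fact p.Prime] (hp : p ≠ 2) {K : Type*} [Field K] [Fintype K] [CharP K p] (n : ℕ) (hn : 1 ≤ n) (hK : Fintype.card K = (p ^ n) ^ 2) : ¬ Cfsg.Involves ↥(Cfsg.qd p) (Cfsg.PSU 3 K (p ^ n)) := by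
  classical
  rintro ⟨Kb, Rb, hnorm, ⟨φ⟩⟩
  have hp3 : 3 ≤ p := by
    have := (Fact.out : p.Prime).two_le
    omega
  -- the Frobenius
  set σ : K →+* K := iterateFrobenius K p n with hσdef
  have hσx : ∀ x : K, σ x = x ^ p ^ n := fun x => iterateFrobenius_def p n x
  have hσ : ∀ x : K, σ (σ x) = x := by
    intro x
    rw [hσx, hσx, ← pow_mul, ← sq, ← hK, FiniteField.pow_card]
  set G := ↥(Cfsg.SU 3 K (p ^ n)) with hG
  let ρ : G →* Matrix (Fin 3) (Fin 3) K := (Cfsg.slToMat 3 K).comp (Cfsg.SU 3 K (p ^ n)).subtype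
  have hρ : Function.Injective ρ := by
    intro x y hxy
    apply Subtype.ext
    apply Subtype.ext
    exact hxy
  have hU : ∀ g : G, IsU σ (ρ g) := by
    intro g
    refine ⟨(g : Matrix.SpecialLinearGroup (Fin 3) K).2, ?_⟩
    intro u v
    have := g.2 u v
    simp only [Cfsg.hermForm] at this
    simp only [dotProduct, cj, hσx]
    exact this
  have hfin : Finite G := inferInstance
  -- the preimage of the section
  set Z := Subgroup.center G with hZ
  set Kt : Subgroup G := Kb.comap (QuotientGroup.mk' Z) with hKt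
  let π : Kt →* ↥(Cfsg.qd p) :=
    (φ.toMonoidHom.comp (QuotientGroup.mk' (Rb.subgroupOf Kb))).comp
      ((QuotientGroup.mk' Z).subgroupComap Kb)
  have hπ : Function.Surjective π := by
    refine (φ.surjective.comp (QuotientGroup.mk'_surjective _)).comp ?_
    exact (QuotientGroup.mk' Z).subgroupComap_surjective_of_surjective Kb
      (QuotientGroup.mk'_surjective Z)
  exact no_surj (p := p) (G := G)
    (fun P hP hPne a ha b hb hap hbp =>
      pc_normalizer ρ hρ σ hσ hU hp3 P hP hPne a ha b hb hap hbp)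
    (blockHom (p := p)).ker ker_isPGroup ker_ne_bot a₀ b₀ a₀_isPEl b₀_isPEl ab_not_isPEl Kt π hπ

end Cfsg.Agent.S2232
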