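import Mathlib
import Cfsg.Statements.S2254
import Cfsg.Agent.Lib.Helper12.NilSymStd

set_option autoImplicit false
open Cfsg

namespace Cfsg.Agent.S2254

open Cfsg.Agent.Helper12.NilSym

/-- Let n ≡ 3 (mod 4). Then every nilpotent subgroup of the symmetric group on n letters has order at most 3 times the order of a Sylow 2-subgroup of the symmetric group on n − 3 letters; the bound is attained by a nilpotent subgroup isomorphic to the direct product of such a Sylow 2-subgroup with a cyclic group of order 3; and any two nilpotent subgroups attaining the bound are conjugate. -/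
theorem result  (n : ℕ) (hn : n % 4 = 3)
    (P : Sylow 2 (Equiv.Perm (Fin (n - 3)))) :
    (∀ N : Subgroup (Equiv.Perm (Fin n)), Group.IsNilpotent N → Nat.card N ≤ 3 * Nat.card P) ∧
    (∃ M : Subgroup (Equiv.Perm (Fin n)), Group.IsNilpotent M ∧ Nat.card M = 3 * Nat.card P ∧
      Nonempty (M ≃* (↥(P : Subgroup (Equiv.Perm (Fin (n - 3)))) × Multiplicative (ZMod 3)))) ∧
    (∀ N₁ N₂ : Subgroup (Equiv.Perm (Fin n)), Group.IsNilpotent N₁ → Group.IsNilpotent N₂ →
      Nat.card N₁ = 3 * Nat.card P → Nat.card N₂ = 3 * Nat.card P →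
      ∃ g : Equiv.Perm (Fin n), N₂ = N₁.map (MulAut.conj g).toMonoidHom) := by
  have h3 : 3 ≤ n := by omega
  have hP : Nat.card P = 2 ^ nsV (n - 3) := card_sylow_two (n - 3) P
  refine ⟨?_, ?_, ?_⟩
  · intro N hN
    haveI := hN
    haveI : FaithfulSMul N (Fin n) := by
      constructor
      intro x y h
      apply Subtype.ext
      apply Equiv.ext
      intro s
      exact h s
    have h1 : Nat.card N ≤ nsF n := bound n N (Fin n) (by simp)
    rw [nsF_of_mod n hn] at h1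
    rw [hP]
    exact h1
  · refine ⟨stdM n h3 (P : Subgroup (Equiv.Perm (Fin (n - 3)))),
      stdM_nilpotent n h3 _ P.isPGroup', ?_, ⟨stdEquiv n h3 _⟩⟩
    rw [card_stdM, mul_comm]
  · intro N₁ N₂ hN₁ hN₂ hc₁ hc₂
    haveI := hN₁
    haveI := hN₂
    rw [hP] at hc₁ hc₂
    obtain ⟨g₁, hg₁⟩ := conj_to_std n hn h3 P N₁ hc₁
    obtain ⟨g₂, hg₂⟩ := conj_to_std n hn h3 P N₂ hc₂
    refine ⟨g₂⁻¹ * g₁, ?_⟩
    ext x
    constructor
    · intro hx
      have h1 : g₂ * x * g₂⁻¹ ∈ N₂.map (MulAut.conj g₂).toMonoidHom := ⟨x, hx, rfl⟩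
      rw [← hg₂, hg₁] at h1
      obtain ⟨y, hy, hyx⟩ := h1
      refine ⟨y, hy, ?_⟩
      simp only [MulEquiv.coe_toMonoidHom, MulAut.conj_apply] at hyx ⊢
      have : x = g₂⁻¹ * (g₂ * x * g₂⁻¹) * g₂ := by group
      rw [this, ← hyx]
      group
    · rintro ⟨y, hy, rfl⟩
      have h1 : g₁ * y * g₁⁻¹ ∈ N₁.map (MulAut.conj g₁).toMonoidHom := ⟨y, hy, rfl⟩
      rw [← hg₁, hg₂] at h1
      obtain ⟨z, hz, hzy⟩ := h1
      simp only [MulEquiv.coe_toMonoidHom, MulAut.conj_apply] at hzy ⊢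
      have : g₂⁻¹ * g₁ * y * (g₂⁻¹ * g₁)⁻¹ = g₂⁻¹ * (g₁ * y * g₁⁻¹) * g₂ := by group
      rw [this, ← hzy]
      have : g₂⁻¹ * (g₂ * z * g₂⁻¹) * g₂ = z := by group
      rw [this]
      exact hz

end Cfsg.Agent.S2254
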