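import Mathlib
import Cfsg.Statements.S2255
import Cfsg.Agent.Lib.Helper11.NilAltMain

set_option autoImplicit false
open Cfsg

namespace Cfsg.Agent.S2255

open Cfsg.Agent.Helper12.NilSym Cfsg.Agent.Helper11.NilAlt

/-- Let n be a natural number not congruent to 3 modulo 4, with n ∉ {5, 6, 9}. Then every nilpotent subgroup of the alternating group on n letters has order at most the order of a Sylow 2-subgroup of the alternating group (so the nilpotent subgroups of largest order are exactly the Sylow 2-subgroups). -/
theorem result  (n : ℕ) (hn : n % 4 ≠ 3)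
    (h5 : n ≠ 5) (h6 : n ≠ 6) (h9 : n ≠ 9)
    (N : Subgroup (alternatingGroup (Fin n))) (hN : Group.IsNilpotent N)
    (P : Sylow 2 (alternatingGroup (Fin n))) :
    Nat.card N ≤ Nat.card P := by
  rcases Nat.lt_or_ge n 2 with h2 | h2
  · have hs : Subsingleton (Fin n) := by
      rw [← Finite.card_le_one_iff_subsingleton]
      simp only [Nat.card_eq_fintype_card, Fintype.card_fin]
      omega
    have hN1 : Nat.card N = 1 := by
      rw [Nat.card_eq_one_iff_unique]
      exact ⟨inferInstance, ⟨1⟩⟩
    rw [hN1]
    exact Nat.card_pos
  · have := hN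
    have hfaith : FaithfulSMul N (Fin n) := by
      constructor
      intro x y h
      apply Subtype.ext
      apply Subtype.ext
      apply Equiv.ext
      intro s
      exact h s
    have heven : ∀ g : N, Equiv.Perm.sign (MulAction.toPermHom N (Fin n) g) = 1 := by
      intro g
      have h1 : MulAction.toPermHom N (Fin n) g = ((g : alternatingGroup (Fin n)) :
          Equiv.Perm (Fin n)) := by
        ext s
        rfl
      rw [h1]
      exact (g : alternatingGroup (Fin n)).2
    have h1 : 2 * Nat.card N ≤ 2 ^ nsV n :=
      alt_bound n (by simp) heven hn h5 h6 h9 h2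
    have hnt : Nontrivial (Fin n) := Fin.nontrivial_iff_two_le.mpr h2
    have hA : 2 * Nat.card (alternatingGroup (Fin n)) = n.factorial := by
      rw [two_mul_nat_card_alternatingGroup, Nat.card_perm, Nat.card_eq_fintype_card,
        Fintype.card_fin]
    have hApos : Nat.card (alternatingGroup (Fin n)) ≠ 0 := Nat.card_pos.ne'
    have hP : 2 * Nat.card P = 2 ^ nsV n := by
      rw [Sylow.card_eq_multiplicity, Nat.factorization_def _ Nat.prime_two]
      have hv : nsV n = 1 + padicValNat 2 (Nat.card (alternatingGroup (Fin n))) := by
        unfold nsV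
        rw [← hA, padicValNat.mul (by norm_num) hApos, padicValNat_self]
      rw [hv, pow_add, pow_one]
    omega

end Cfsg.Agent.S2255
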