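import Mathlib
import Cfsg.Statements.S2260

set_option autoImplicit false
open Cfsg

namespace Cfsg.Agent.S2260

theorem nilp_pow_card {F : Type*} [Field F] (d : ℕ) (N : Matrix (Fin d) (Fin d) F)
    (hN : IsNilpotent N) : N ^ d = 0 := by
  have h1 := Matrix.isNilpotent_charpoly_sub_pow_of_isNilpotent hN
  have h2 : N.charpoly = Polynomial.X ^ d := by
    have := h1.eq_zero
    rw [Fintype.card_fin] at this
    exact sub_eq_zero.mp this
  have h3 := Matrix.aeval_self_charpoly N
  rw [h2] at h3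
  simpa using h3

theorem pow_eq_one_of_nilp {F : Type*} [Field F] (p : ℕ) [Fact p.Prime] [CharP F p] (d : ℕ)
    (u : GL (Fin d) F) (k : ℕ) :
    ((u ^ (p ^ k) : GL (Fin d) F) : Matrix (Fin d) (Fin d) F) - 1
      = ((u : Matrix (Fin d) (Fin d) F) - 1) ^ (p ^ k) := by
  rcases Nat.eq_zero_or_pos d with rfl | hd
  · exact Subsingleton.elim _ _
  · haveI : Nonempty (Fin d) := ⟨⟨0, hd⟩⟩
    haveI : CharP (Matrix (Fin d) (Fin d) F) p := Matrix.charP p
    rw [sub_pow_char_pow_of_commute (p := p) (n := k) (Commute.one_right _), one_pow]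
    simp

/-- A unipotent matrix in GL_d over a finite field of characteristic p has order at most p^⌈log_p d⌉, with equality for a single Jordan block of size d. -/
theorem result {F : Type*} [Field F] [Finite F] (p : ℕ) [Fact p.Prime] [CharP F p] (d : ℕ)
    (u : GL (Fin d) F) (hu : IsNilpotent ((u : Matrix (Fin d) (Fin d) F) - 1)) :
    orderOf u ≤ p ^ Nat.clog p d ∧
    (((u : Matrix (Fin d) (Fin d) F) - 1) ^ (d - 1) ≠ 0 → orderOf u = p ^ Nat.clog p d) := by
  have hp : p.Prime := Fact.out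
  have hNd := nilp_pow_card d _ hu
  have hle : d ≤ p ^ Nat.clog p d := Nat.le_pow_clog hp.one_lt d
  have hpow : u ^ (p ^ Nat.clog p d) = 1 := by
    have h := pow_eq_one_of_nilp p d u (Nat.clog p d)
    have h0 : ((u : Matrix (Fin d) (Fin d) F) - 1) ^ (p ^ Nat.clog p d) = 0 :=
      pow_eq_zero_of_le hle hNd
    rw [h0, sub_eq_zero] at h
    exact Units.ext h
  have hdvd : orderOf u ∣ p ^ Nat.clog p d := orderOf_dvd_of_pow_eq_one hpow
  have hpos : 0 < p ^ Nat.clog p d := pow_pos hp.pos _
  refine ⟨Nat.le_of_dvd hpos hdvd, fun hne => ?_⟩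
  -- exact order
  obtain ⟨j, hj, hju⟩ := (Nat.dvd_prime_pow hp).1 hdvd
  rcases Nat.lt_or_ge j (Nat.clog p d) with hlt | hge
  · exfalso
    -- u^(p^j) = 1 so (u-1)^(p^j) = 0, but p^j < d
    have h1 : u ^ (p ^ j) = 1 := by rw [← hju]; exact pow_orderOf_eq_one u
    have h := pow_eq_one_of_nilp p d u j
    rw [h1] at h
    simp only [Units.val_one, sub_self] at h
    have hlt' : p ^ j < d := by
      by_contra hcon
      push_neg at hcon
      have : Nat.clog p d ≤ j := Nat.clog_le_of_le_pow hcon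
      omega
    exact hne (pow_eq_zero_of_le (by omega) h.symm)
  · rw [hju]
    have : j = Nat.clog p d := le_antisymm hj hge
    rw [this]

end Cfsg.Agent.S2260
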