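import Cfsg.Statements.S2262
import Cfsg.Agent.S2261
import Cfsg.Agent.Lib.Helper2.Psln14
import Cfsg.Agent.Lib.Helper17.AOAsm

set_option autoImplicit false
open Cfsg

namespace Cfsg.Agent.S2262

open Cfsg.Agent.Helper2.PN Cfsg.Agent.Helper17.AO

/-- Let F be a finite field with q elements and d ≥ 2, with q ≥ 4 when d = 2, and (d, q) ∉ {(2, 4), (3, 2)}. Then every automorphism of the simple group PSL_d(F) has order at most (q^d − 1)/(q − 1) as an element of the automorphism group, and some automorphism has exactly this order. -/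
theorem result {F : Type*} [Field F] [Fintype F] (d : ℕ) (hd : 2 ≤ d)
    (h2 : d = 2 → 4 ≤ Fintype.card F) (h24 : ¬ (d = 2 ∧ Fintype.card F = 4)) (h32 : ¬ (d = 3 ∧ Fintype.card F = 2)) :
    (∀ φ : MulAut (Matrix.ProjectiveSpecialLinearGroup (Fin d) F),
      (Fintype.card F - 1) * orderOf φ ≤ Fintype.card F ^ d - 1) ∧
    (∃ φ : MulAut (Matrix.ProjectiveSpecialLinearGroup (Fin d) F),
      (Fintype.card F - 1) * orderOf φ = Fintype.card F ^ d - 1) := by
  obtain ⟨p, hchar⟩ := CharP.exists F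
  haveI : Fact p.Prime := ⟨CharP.char_is_prime F p⟩
  constructor
  · intro φ
    rcases aut_form p hd φ with h | ⟨h3, h⟩
    · obtain ⟨⟨g, σ⟩, rfl⟩ := h
      rw [Phi_eq]
      exact field_coset_bound hd h24 σ g
    · obtain ⟨⟨g, σ⟩, hx⟩ := h
      have h1 : φ = tauAut * (Psi g * phiF σ) := by
        rw [← Phi_eq, hx, ← mul_assoc, tauAut_mul_self, one_mul]
      rw [h1]
      exact graph_coset_bound h3 h32 σ g
  · obtain ⟨gbar, hg⟩ := (Cfsg.Agent.S2261.result (F := F) d (by omega)).2
    obtain ⟨g, rfl⟩ := QuotientGroup.mk_surjective gbar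
    refine ⟨Psi g, ?_⟩
    rw [orderOf_Psi hd g]
    exact hg

end Cfsg.Agent.S2262
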