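import Cfsg.Statements.S2263
import Cfsg.Agent.Lib.Helper10.PUAssembly
import Cfsg.Agent.Lib.Helper16.PUExist

set_option autoImplicit false
open Cfsg

namespace Cfsg.Agent.S2263
open Cfsg.Agent.Helper10.PU

theorem result {F : Type*} [Field F] [Fintype F] (p f d : ℕ) (hp : p.Prime) (hf : 1 ≤ f) (q : ℕ) (hq : q = p ^ f)
    (hF : Fintype.card F = q ^ 2) (hd : 3 ≤ d) (h32 : ¬ (d = 3 ∧ q = 2)) :
    (Odd d → 2 ≤ f → (∀ g : (↥(Cfsg.GU d F q) ⧸ Subgroup.center ↥(Cfsg.GU d F q)), orderOf g ≤ q ^ (d - 1) - 1) ∧ ∃ g : (↥(Cfsg.GU d F q) ⧸ Subgroup.center ↥(Cfsg.GU d F q)), orderOf g = q ^ (d - 1) - 1) ∧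
    (Odd d → f = 1 → (∀ g : (↥(Cfsg.GU d F q) ⧸ Subgroup.center ↥(Cfsg.GU d F q)), orderOf g ≤ (p ^ (d - 2) + 1) * p) ∧ ∃ g : (↥(Cfsg.GU d F q) ⧸ Subgroup.center ↥(Cfsg.GU d F q)), orderOf g = (p ^ (d - 2) + 1) * p) ∧
    (Even d → 2 < q → (∀ g : (↥(Cfsg.GU d F q) ⧸ Subgroup.center ↥(Cfsg.GU d F q)), orderOf g ≤ q ^ (d - 1) + 1) ∧ ∃ g : (↥(Cfsg.GU d F q) ⧸ Subgroup.center ↥(Cfsg.GU d F q)), orderOf g = q ^ (d - 1) + 1) ∧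
    (Even d → q = 2 → (∀ g : (↥(Cfsg.GU d F q) ⧸ Subgroup.center ↥(Cfsg.GU d F q)), orderOf g ≤ 4 * (2 ^ (d - 3) + 1)) ∧ ∃ g : (↥(Cfsg.GU d F q) ⧸ Subgroup.center ↥(Cfsg.GU d F q)), orderOf g = 4 * (2 ^ (d - 3) + 1)) := by
  have hU := fun g => upper_bound p f d hp hf q hq hF hd h32 g
  have hE := exists_order_eq p f d hp hf q hq hF hd h32
  refine ⟨?_, ?_, ?_, ?_⟩
  · intro hodd hf2
    have hB : Bnd p f d = q ^ (d - 1) - 1 := by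
      rw [hq]; unfold Bnd; rw [if_pos hodd, if_pos hf2]
    rw [hB] at hU hE
    exact ⟨hU, hE⟩
  · intro hodd hf1
    have hB : Bnd p f d = (p ^ (d - 2) + 1) * p := by
      unfold Bnd; rw [if_pos hodd, if_neg (by omega)]
    rw [hB] at hU hE
    exact ⟨hU, hE⟩
  · intro hev hq2
    have hB : Bnd p f d = q ^ (d - 1) + 1 := by
      rw [hq] at hq2 ⊢; unfold Bnd; rw [if_neg (Nat.not_odd_iff_even.2 hev), if_pos hq2]
    rw [hB] at hU hE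
    exact ⟨hU, hE⟩
  · intro hev hq2
    have hB : Bnd p f d = 4 * (2 ^ (d - 3) + 1) := by
      rw [hq] at hq2; unfold Bnd; rw [if_neg (Nat.not_odd_iff_even.2 hev), if_neg (by omega)]
    rw [hB] at hU hE
    exact ⟨hU, hE⟩

end Cfsg.Agent.S2263
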