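import Mathlib
import Cfsg.Statements.S2268

set_option autoImplicit false
open Cfsg

namespace Cfsg.Agent.S2268

open Subgroup MulAction

/-- Frattini-type step: every `g ∈ N(Q)` factors as `c⁻¹ * a` with `c ∈ C(Q)`, `a ∈ N(Q) ∩ N(P)`. -/
theorem factor {G : Type*} [Group G] [Finite G] {p : ℕ} [Fact p.Prime]
    (P : Sylow p G) (hP : IsMulCommutative (P : Subgroup G)) (Q : Subgroup G) (hQ : Q ≤ (P : Subgroup G))
    (g : G) (hg : g ∈ normalizer (Q : Set G)) :
    ∃ c ∈ centralizer (Q : Set G), c * g ∈ normalizer (Q : Set G) ⊓ normalizer ((P : Subgroup G) : Set G) := by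
  have hPC : (P : Subgroup G) ≤ centralizer (P : Set G) := Subgroup.le_centralizer _
  have h1 : (P : Subgroup G) ≤ centralizer (Q : Set G) :=
    hPC.trans (centralizer_le hQ)
  have h2 : ((g • P : Sylow p G) : Subgroup G) ≤ centralizer (Q : Set G) := by
    rintro x hx
    rw [Sylow.coe_subgroup_smul, Subgroup.mem_pointwise_smul_iff_inv_smul_mem] at hx
    -- g⁻¹ x g ∈ P
    rw [mem_centralizer_iff]
    intro q hq
    -- q ∈ Q, g⁻¹ q g ∈ Q
    have hq' : g⁻¹ * q * g⁻¹⁻¹ ∈ Q := by
      have hginv : g⁻¹ ∈ normalizer (Q : Set G) := inv_mem hg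
      exact (mem_normalizer_iff.mp hginv q).mp hq
    rw [inv_inv] at hq'
    have hx' : g⁻¹ * x * g ∈ (P : Subgroup G) := by
      simpa [MulAut.smul_def, MulAut.conj_apply] using hx
    have hcomm := (mem_centralizer_iff.mp (h1 hx')) _ (SetLike.mem_coe.mpr hq')
    -- (g⁻¹ q g) (g⁻¹ x g) = (g⁻¹ x g)(g⁻¹ q g)
    have : g⁻¹ * (q * x) * g = g⁻¹ * (x * q) * g := by
      calc g⁻¹ * (q * x) * g = (g⁻¹ * q * g) * (g⁻¹ * x * g) := by group
        _ = (g⁻¹ * x * g) * (g⁻¹ * q * g) := hcomm
        _ = g⁻¹ * (x * q) * g := by group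
    exact mul_left_cancel (mul_right_cancel this)
  obtain ⟨h, hh⟩ :=
    exists_smul_eq (centralizer (Q : Set G)) ((g • P).subtype h2) (P.subtype h1)
  simp_rw [Sylow.smul_subtype, Subgroup.smul_def, smul_smul] at hh
  have hn : (h : G) * g ∈ normalizer ((P : Subgroup G) : Set G) :=
    Sylow.smul_eq_iff_mem_normalizer.mp (Sylow.subtype_injective hh)
  refine ⟨h, h.2, ?_, hn⟩
  exact mul_mem (centralizer_le_normalizer _ h.2) hg

/-- If P ∈ Syl_p(G) is abelian and Q ≤ P then N_G(Q) = (N_G(Q) ∩ N_G(P)) C_G(Q), and the order of N_G(Q)/C_G(Q) divides the order of N_G(P)/C_G(P). -/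
theorem result {G : Type*} [Group G] [Finite G] {p : ℕ} [Fact p.Prime]
    (P : Sylow p G) (hP : IsMulCommutative (P : Subgroup G)) (Q : Subgroup G) (hQ : Q ≤ (P : Subgroup G)) :
    Subgroup.normalizer (Q : Set G) =
      (Subgroup.normalizer (Q : Set G) ⊓ Subgroup.normalizer ((P : Subgroup G) : Set G)) ⊔ Subgroup.centralizer (Q : Set G) ∧
    ((Subgroup.centralizer (Q : Set G)).subgroupOf (Subgroup.normalizer (Q : Set G))).index ∣ ((Subgroup.centralizer ((P : Subgroup G) : Set G)).subgroupOf (Subgroup.normalizer ((P : Subgroup G) : Set G))).index := by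
  have hsup : Subgroup.normalizer (Q : Set G) =
      (Subgroup.normalizer (Q : Set G) ⊓ Subgroup.normalizer ((P : Subgroup G) : Set G)) ⊔ Subgroup.centralizer (Q : Set G) := by
    apply le_antisymm
    · intro g hg
      obtain ⟨c, hc, hcg⟩ := factor P hP Q hQ g hg
      have : g = c⁻¹ * (c * g) := by group
      rw [this]
      exact mul_mem (mem_sup_right (inv_mem hc)) (mem_sup_left hcg)
    · exact sup_le inf_le_left (centralizer_le_normalizer _)
  refine ⟨hsup, ?_⟩
  set NQ := Subgroup.normalizer (Q : Set G) with hNQ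
  set NP := Subgroup.normalizer ((P : Subgroup G) : Set G) with hNP
  set CQ := Subgroup.centralizer (Q : Set G) with hCQ
  set CP := Subgroup.centralizer ((P : Subgroup G) : Set G) with hCP
  set A := NQ ⊓ NP with hA
  change CQ.relIndex NQ ∣ CP.relIndex NP
  have hCQN : CQ ≤ NQ := centralizer_le_normalizer _
  have hCPN : CP ≤ NP := centralizer_le_normalizer _
  have hCPQ : CP ≤ CQ := centralizer_le hQ
  -- Step 1: CQ.relIndex NQ = CQ.relIndex A
  have step1 : CQ.relIndex NQ = CQ.relIndex A := by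
    have : (CQ.subgroupOf NQ).Normal := normal_subgroupOf_centralizer_normalizer _
    have h := relIndex_sup_right (H := A.subgroupOf NQ) (K := CQ.subgroupOf NQ)
    have htop : A.subgroupOf NQ ⊔ CQ.subgroupOf NQ = ⊤ := by
      rw [← subgroupOf_sup inf_le_left hCQN, ← hsup]
      exact subgroupOf_self _
    rw [htop, relIndex_top_right] at h
    rw [relIndex_subgroupOf inf_le_left] at h
    exact h
  rw [step1]
  -- CP ≤ A ⊓ CQ
  have hCPA : CP ≤ A := le_inf (hCPQ.trans hCQN) hCPN
  -- CQ.relIndex A = (CQ ⊓ A).relIndex A ∣ CP.relIndex A ∣ CP.relIndex NP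
  have d1 : CQ.relIndex A ∣ CP.relIndex A := by
    rw [← inf_relIndex_right CQ A]
    exact relIndex_dvd_of_le_left A (le_inf hCPQ hCPA)
  have d2 : CP.relIndex A ∣ CP.relIndex NP := by
    rw [← relIndex_mul_relIndex CP A NP hCPA inf_le_right]
    exact dvd_mul_right _ _
  exact d1.trans d2

end Cfsg.Agent.S2268
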