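import Mathlib
import Cfsg.Statements.S2270

set_option autoImplicit false
open Cfsg

namespace Cfsg.Agent.S2270

open Subgroup

theorem conj_pow_aux {G : Type*} [Group G] (x n : G) (hx : n⁻¹ * x * n = x⁻¹) (k : ℕ) :
    (n ^ k)⁻¹ * x * n ^ k = if Even k then x else x⁻¹ := by
  have hx' : n⁻¹ * x⁻¹ * n = x := by
    have : (n⁻¹ * x * n)⁻¹ = (x⁻¹)⁻¹ := by rw [hx]
    rw [inv_inv] at this
    calc n⁻¹ * x⁻¹ * n = (n⁻¹ * x * n)⁻¹ := by group
      _ = x := this
  induction k with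
  | zero => simp
  | succ k ih =>
    have : (n ^ (k + 1))⁻¹ * x * n ^ (k + 1) = n⁻¹ * ((n ^ k)⁻¹ * x * n ^ k) * n := by
      rw [pow_succ]; group
    rw [this, ih]
    by_cases hk : Even k
    · have : ¬ Even (k + 1) := by
        rw [Nat.even_add_one]; exact not_not.mpr hk
      rw [if_pos hk, if_neg this, hx]
    · have : Even (k + 1) := by
        rw [Nat.even_add_one]; exact hk
      rw [if_neg hk, if_pos this, hx']

/-- If some `n ∈ N` inverts an element `x ≠ x⁻¹` centralized by `C`, and `C ∩ N` is normal in `N`, then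
`|N : C ∩ N|` is even. -/
theorem even_index_of_inverting {G : Type*} [Group G] [Finite G] (N C : Subgroup G)
    [hnorm : (C.subgroupOf N).Normal] (x n : G) (hn : n ∈ N) (hx : n⁻¹ * x * n = x⁻¹) (hx2 : x ≠ x⁻¹)
    (hC : ∀ c ∈ C, c * x = x * c) : 2 ∣ (C.subgroupOf N).index := by
  set q := QuotientGroup.mk' (C.subgroupOf N) with hq
  set m := orderOf (q ⟨n, hn⟩) with hm
  have h1 : (q ⟨n, hn⟩) ^ m = 1 := pow_orderOf_eq_one _
  rw [← map_pow] at h1
  have h2 : (⟨n, hn⟩ : N) ^ m ∈ C.subgroupOf N := by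
    rw [hq] at h1
    exact (QuotientGroup.eq_one_iff _).mp h1
  have h3 : n ^ m ∈ C := by
    rw [mem_subgroupOf] at h2
    simpa using h2
  have h4 := conj_pow_aux x n hx m
  have hcomm := hC _ h3
  have h5 : (n ^ m)⁻¹ * x * n ^ m = x := by
    rw [mul_assoc, ← hcomm]; group
  have heven : Even m := by
    by_contra hodd
    rw [if_neg hodd] at h4
    exact hx2 (h5.symm.trans h4)
  have hdvd : m ∣ (C.subgroupOf N).index := by
    rw [index_eq_card]
    exact orderOf_dvd_natCard _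
  exact (even_iff_two_dvd.mp heven).trans hdvd

/-- S_n, n ≥ 3, p odd with p ≤ n, P ∈ Syl_p abelian: N(P)/C(P) has even order. -/
theorem result (n : ℕ) (hn : 3 ≤ n) {p : ℕ} [Fact p.Prime] (hp : p ≠ 2) (hpn : p ≤ n)
    (P : Sylow p (Equiv.Perm (Fin n))) (hP : IsMulCommutative (P : Subgroup (Equiv.Perm (Fin n)))) :
    2 ∣ ((Subgroup.centralizer ((P : Subgroup (Equiv.Perm (Fin n))) : Set (Equiv.Perm (Fin n)))).subgroupOf (Subgroup.normalizer ((P : Subgroup (Equiv.Perm (Fin n))) : Set (Equiv.Perm (Fin n))))).index := by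
  have hpp : p.Prime := Fact.out
  -- an element of order p in P
  have hdvd : p ∣ Nat.card (Equiv.Perm (Fin n)) := by
    rw [Nat.card_eq_fintype_card, Fintype.card_perm, Fintype.card_fin]
    exact (Nat.Prime.dvd_factorial hpp).mpr hpn
  have hdvdP : p ∣ Nat.card (P : Subgroup (Equiv.Perm (Fin n))) := P.dvd_card_of_dvd_card hdvd
  obtain ⟨y, hy⟩ := exists_prime_orderOf_dvd_card' p hdvdP
  set x : Equiv.Perm (Fin n) := (y : Equiv.Perm (Fin n)) with hxdef
  have hxP : x ∈ (P : Subgroup (Equiv.Perm (Fin n))) := y.2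
  have hxord : orderOf x = p := by rw [hxdef, Subgroup.orderOf_coe, hy]
  -- x and x⁻¹ are conjugate
  have hconj : IsConj x x⁻¹ := by
    rw [Equiv.Perm.isConj_iff_cycleType_eq, Equiv.Perm.cycleType_inv]
  obtain ⟨g, hg⟩ := isConj_iff.mp hconj
  -- g * x * g⁻¹ = x⁻¹ ; use g⁻¹
  have hg' : (g⁻¹)⁻¹ * x * g⁻¹ = x⁻¹ := by rw [inv_inv]; exact hg
  have hxinvP : (g⁻¹)⁻¹ * x * g⁻¹ ∈ (P : Subgroup (Equiv.Perm (Fin n))) := by
    rw [hg']; exact inv_mem hxP
  have := hP
  obtain ⟨m, hmN, hm⟩ := P.conj_eq_normalizer_conj_of_mem x g⁻¹ hxP hxinvP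
  rw [hg'] at hm
  have hx2 : x ≠ x⁻¹ := by
    intro h
    have h1 : x ^ 2 = 1 := by
      rw [pow_two]
      nth_rw 2 [h]
      exact mul_inv_cancel x
    have h2 : p ∣ 2 := by
      rw [← hxord]; exact orderOf_dvd_of_pow_eq_one h1
    have h3 : p = 2 := (Nat.prime_dvd_prime_iff_eq hpp Nat.prime_two).mp h2
    exact hp h3
  have hnorm : ((Subgroup.centralizer ((P : Subgroup (Equiv.Perm (Fin n))) : Set (Equiv.Perm (Fin n)))).subgroupOf (Subgroup.normalizer ((P : Subgroup (Equiv.Perm (Fin n))) : Set (Equiv.Perm (Fin n))))).Normal :=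
    normal_subgroupOf_centralizer_normalizer _
  refine even_index_of_inverting _ _ x m hmN hm.symm hx2 ?_
  intro c hc
  exact ((mem_centralizer_iff.mp hc) x hxP).symm

end Cfsg.Agent.S2270
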