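import Mathlib
import Cfsg.Statements.S2269
import Cfsg.Agent.S2270

set_option autoImplicit false
open Cfsg

namespace Cfsg.Agent.S2269

open Equiv Equiv.Perm Subgroup

/-- a `p`-cycle in `S_n` -/
theorem exists_pcycle (n p : ℕ) (hp : 2 ≤ p) (hpn : p ≤ n) :
    ∃ c : Perm (Fin n), c.cycleType = {p} := by
  let l := (List.finRange n).take p
  have hl : l.length = p := by simp [l, hpn]
  have hnd : l.Nodup := (List.nodup_finRange n).sublist (List.take_sublist _ _)
  have hcyc : (l.formPerm).IsCycle := List.isCycle_formPerm hnd (by omega)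
  refine ⟨l.formPerm, ?_⟩
  rw [hcyc.cycleType, List.support_formPerm_of_nodup l hnd (by
    intro x hx
    rw [hx] at hl
    simp at hl
    omega), List.toFinset_card_of_nodup hnd, hl]

/-- A permutation with cycle type `{p}`, `p` odd, `p + 2 ≤ n`, is conjugate to its inverse under
an even permutation. -/
theorem conj_inv_even {n p : ℕ} (hodd : Odd p) (hpn : p + 2 ≤ n) (x : Perm (Fin n))
    (hx : x.cycleType = {p}) : ∃ g : Perm (Fin n), sign g = 1 ∧ g * x * g⁻¹ = x⁻¹ := by
  have hconj : IsConj x x⁻¹ := by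
    rw [Equiv.Perm.isConj_iff_cycleType_eq, Equiv.Perm.cycleType_inv]
  obtain ⟨g₀, hg₀⟩ := isConj_iff.mp hconj
  -- two fixed points
  have hsupp : x.support.card = p := by
    rw [← Equiv.Perm.sum_cycleType, hx]; simp
  have hcompl : 2 ≤ (x.supportᶜ).card := by
    rw [Finset.card_compl, hsupp, Fintype.card_fin]; omega
  obtain ⟨a, ha, b, hb, hab⟩ := Finset.one_lt_card.mp (by omega : 1 < (x.supportᶜ).card)
  have hxa : x a = a := by
    simpa [Equiv.Perm.mem_support] using ha
  have hxb : x b = b := by
    simpa [Equiv.Perm.mem_support] using hb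
  have hcomm : swap a b * x = x * swap a b := by
    have hd : Equiv.Perm.Disjoint (swap a b) x := by
      intro z
      by_cases hza : z = a
      · right; rw [hza]; exact hxa
      · by_cases hzb : z = b
        · right; rw [hzb]; exact hxb
        · left; exact Equiv.swap_apply_of_ne_of_ne hza hzb
    exact hd.commute
  rcases Int.units_eq_one_or (sign g₀) with hs | hs
  · exact ⟨g₀, hs, hg₀⟩
  · refine ⟨g₀ * swap a b, ?_, ?_⟩
    · rw [map_mul, hs, Equiv.Perm.sign_swap hab]; rfl
    · have : g₀ * swap a b * x * (g₀ * swap a b)⁻¹ = g₀ * (swap a b * x * (swap a b)⁻¹) * g₀⁻¹ := by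
        group
      rw [this, hcomm, mul_inv_cancel_right, hg₀]

/-- every `p`-element of a finite group is conjugate into a given Sylow `p`-subgroup -/
theorem exists_conj_mem_sylow {G : Type*} [Group G] [Finite G] {p : ℕ} [Fact p.Prime]
    (P : Sylow p G) (c : G) (hc : orderOf c = p) : ∃ g : G, g * c * g⁻¹ ∈ (P : Subgroup G) := by
  have hQ : IsPGroup p (Subgroup.zpowers c) := by
    apply IsPGroup.of_card (n := 1)
    rw [Nat.card_zpowers, hc, pow_one]
  obtain ⟨P', hP'⟩ := hQ.exists_le_sylow
  obtain ⟨g, hg⟩ := MulAction.exists_smul_eq G P' P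
  refine ⟨g, ?_⟩
  have hc' : c ∈ (P' : Subgroup G) := hP' (Subgroup.mem_zpowers c)
  have : g * c * g⁻¹ ∈ ((g • P' : Sylow p G) : Subgroup G) := by
    rw [Sylow.coe_subgroup_smul]
    have := Subgroup.smul_mem_pointwise_smul c (MulAut.conj g) (P' : Subgroup G) hc'
    simpa [MulAut.smul_def] using this
  rwa [hg] at this

/-- Odd `p` with `p + 2 ≤ n`: `|N(P) : C(P)|` is even. -/
theorem even_index_odd {n p : ℕ} [Fact p.Prime] (hodd : p ≠ 2) (hpn : p + 2 ≤ n)
    (P : Sylow p (alternatingGroup (Fin n)))
    (hP : IsMulCommutative (P : Subgroup (alternatingGroup (Fin n)))) :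
    2 ∣ ((Subgroup.centralizer ((P : Subgroup (alternatingGroup (Fin n))) : Set (alternatingGroup (Fin n)))).subgroupOf (Subgroup.normalizer ((P : Subgroup (alternatingGroup (Fin n))) : Set (alternatingGroup (Fin n))))).index := by
  have hpp : p.Prime := Fact.out
  have hoddp : Odd p := hpp.odd_of_ne_two hodd
  obtain ⟨c, hc⟩ := exists_pcycle n p hpp.two_le (by omega)
  have hsign : ∀ y : Perm (Fin n), y.cycleType = {p} → sign y = 1 := by
    intro y hy
    rw [Equiv.Perm.sign_of_cycleType, hy]
    simp only [Multiset.sum_singleton, Multiset.card_singleton]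
    exact Even.neg_one_pow (Odd.add_one hoddp)
  have hcA : c ∈ alternatingGroup (Fin n) := Equiv.Perm.mem_alternatingGroup.mpr (hsign c hc)
  have hord : orderOf (⟨c, hcA⟩ : alternatingGroup (Fin n)) = p := by
    rw [← Subgroup.orderOf_coe]
    change orderOf c = p
    rw [← Equiv.Perm.lcm_cycleType, hc]
    simp
  obtain ⟨g, hg⟩ := exists_conj_mem_sylow P ⟨c, hcA⟩ hord
  set x : alternatingGroup (Fin n) := g * ⟨c, hcA⟩ * g⁻¹ with hxdef
  have hxct : (x : Perm (Fin n)).cycleType = {p} := by
    rw [hxdef]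
    change (g.1 * c * (g.1)⁻¹).cycleType = {p}
    rw [Equiv.Perm.cycleType_conj, hc]
  obtain ⟨g₁, hg₁s, hg₁⟩ := conj_inv_even hoddp hpn (x : Perm (Fin n)) hxct
  have hg₁A : g₁ ∈ alternatingGroup (Fin n) := Equiv.Perm.mem_alternatingGroup.mpr hg₁s
  have hconj : (⟨g₁, hg₁A⟩ : alternatingGroup (Fin n)) * x * (⟨g₁, hg₁A⟩ : alternatingGroup (Fin n))⁻¹ = x⁻¹ := by
    apply Subtype.ext
    exact hg₁
  set g₂ : alternatingGroup (Fin n) := ⟨g₁, hg₁A⟩ with hg₂
  have hg' : (g₂⁻¹)⁻¹ * x * g₂⁻¹ = x⁻¹ := by rw [inv_inv]; exact hconj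
  have hxinvP : (g₂⁻¹)⁻¹ * x * g₂⁻¹ ∈ (P : Subgroup (alternatingGroup (Fin n))) := by
    rw [hg']; exact inv_mem hg
  have := hP
  obtain ⟨m, hmN, hm⟩ := P.conj_eq_normalizer_conj_of_mem x g₂⁻¹ hg hxinvP
  rw [hg'] at hm
  have hxord : orderOf x = p := by
    rw [← Subgroup.orderOf_coe, ← Equiv.Perm.lcm_cycleType, hxct]
    simp
  have hx2 : x ≠ x⁻¹ := by
    intro h
    have h1 : x ^ 2 = 1 := by
      rw [pow_two]
      nth_rw 2 [h]
      exact mul_inv_cancel x
    have h2 : p ∣ 2 := by
      rw [← hxord]; exact orderOf_dvd_of_pow_eq_one h1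
    have h3 : p = 2 := (Nat.prime_dvd_prime_iff_eq hpp Nat.prime_two).mp h2
    exact hodd h3
  have hnorm : ((Subgroup.centralizer ((P : Subgroup (alternatingGroup (Fin n))) : Set (alternatingGroup (Fin n)))).subgroupOf (Subgroup.normalizer ((P : Subgroup (alternatingGroup (Fin n))) : Set (alternatingGroup (Fin n))))).Normal :=
    normal_subgroupOf_centralizer_normalizer _
  refine Cfsg.Agent.S2270.even_index_of_inverting _ _ x m hmN hm.symm hx2 ?_
  intro c hc
  exact ((mem_centralizer_iff.mp hc) x hg).symm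

/-- Odd `p` with `n ≤ p + 1`: the Sylow `p`-subgroup is cyclic. -/
theorem cyclic_case {n p : ℕ} [Fact p.Prime] (hn : 5 ≤ n) (hodd : p ≠ 2) (hpn : n ≤ p + 1)
    (P : Sylow p (alternatingGroup (Fin n))) :
    IsCyclic (P : Subgroup (alternatingGroup (Fin n))) := by
  have hpp : p.Prime := Fact.out
  have hp3 : 3 ≤ p := by
    have := hpp.two_le
    omega
  haveI : Nontrivial (Fin n) := Fin.nontrivial_iff_two_le.mpr (by omega)
  have hcard : Nat.card (P : Subgroup (alternatingGroup (Fin n))) =
      p ^ (Nat.card (alternatingGroup (Fin n))).factorization p := P.card_eq_multiplicity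
  have hG : 2 * Nat.card (alternatingGroup (Fin n)) = n.factorial := by
    rw [two_mul_nat_card_alternatingGroup, Nat.card_perm, Nat.card_fin]
  have hle : (Nat.card (alternatingGroup (Fin n))).factorization p ≤ 1 := by
    have h1 : (Nat.card (alternatingGroup (Fin n))).factorization p ≤ (n.factorial).factorization p := by
      have hdvd : Nat.card (alternatingGroup (Fin n)) ∣ n.factorial := ⟨2, by rw [← hG]; ring⟩
      exact (Nat.factorization_le_iff_dvd (Nat.card_pos.ne') (Nat.factorial_ne_zero n)).mpr hdvd p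
    have h2 : (n.factorial).factorization p ≤ 1 := by
      have hlog : Nat.log p n < 2 := by
        apply Nat.log_lt_of_lt_pow (by omega)
        nlinarith
      rw [Nat.factorization_factorial hpp hlog]
      have : Finset.Ico 1 2 = {1} := by decide
      rw [this, Finset.sum_singleton, pow_one]
      have : n / p < 2 := by
        rw [Nat.div_lt_iff_lt_mul (by omega)]
        omega
      omega
    omega
  have h01 : (Nat.card (alternatingGroup (Fin n))).factorization p = 0 ∨
      (Nat.card (alternatingGroup (Fin n))).factorization p = 1 := by omega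
  rcases h01 with h | h
  · rw [h, pow_zero] at hcard
    haveI : Subsingleton (P : Subgroup (alternatingGroup (Fin n))) :=
      (Nat.card_eq_one_iff_unique.mp hcard).1
    exact isCyclic_of_subsingleton
  · rw [h, pow_one] at hcard
    exact isCyclic_of_prime_card hcard

/-! ### A dihedral group of order 8 inside `A_6` -/

def rho : Perm (Fin 6) := swap 0 1 * swap 1 2 * swap 2 3 * swap 4 5
def sig : Perm (Fin 6) := swap 1 3 * swap 4 5

def d4fun : DihedralGroup 4 → Perm (Fin 6)
  | .r i => rho ^ i.val
  | .sr i => sig * rho ^ i.val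

theorem d4fun_mul : ∀ x y : DihedralGroup 4, d4fun (x * y) = d4fun x * d4fun y := by decide

theorem d4fun_sign : ∀ x : DihedralGroup 4, sign (d4fun x) = 1 := by decide

theorem d4_noncomm : d4fun (.r 1) * d4fun (.sr 0) ≠ d4fun (.sr 0) * d4fun (.r 1) := by decide

theorem sign_viaEmbeddingHom {α β : Type*} [Fintype α] [DecidableEq α] [Fintype β] [DecidableEq β]
    (ι : α ↪ β) (e : Perm α) : sign (viaEmbeddingHom ι e) = sign e := by
  classical
  rw [viaEmbeddingHom_apply]
  unfold viaEmbedding
  convert sign_extendDomain e (ofInjective ι.1 ι.2)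

/-- For `n ≥ 6` the Sylow 2-subgroups of `A_n` are not abelian. -/
theorem not_comm_two {n : ℕ} (hn : 6 ≤ n) (P : Sylow 2 (alternatingGroup (Fin n)))
    (hP : IsMulCommutative (P : Subgroup (alternatingGroup (Fin n)))) : False := by
  let ι : Perm (Fin 6) →* Perm (Fin n) := viaEmbeddingHom (Fin.castLEEmb hn)
  have hι : Function.Injective ι := viaEmbeddingHom_injective _
  let f : DihedralGroup 4 →* Perm (Fin n) := ι.comp (MonoidHom.mk' d4fun d4fun_mul)
  have hfA : ∀ x, f x ∈ alternatingGroup (Fin n) := by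
    intro x
    rw [Equiv.Perm.mem_alternatingGroup]
    change sign (viaEmbeddingHom (Fin.castLEEmb hn) (d4fun x)) = 1
    rw [sign_viaEmbeddingHom, d4fun_sign]
  let F : DihedralGroup 4 →* alternatingGroup (Fin n) := f.codRestrict _ hfA
  have hD : IsPGroup 2 (DihedralGroup 4) := by
    apply IsPGroup.of_card (n := 3)
    rw [DihedralGroup.nat_card]
    norm_num
  have hQ : IsPGroup 2 F.range := by
    rw [MonoidHom.range_eq_map]
    exact (hD.to_subgroup ⊤).map F
  obtain ⟨P', hP'⟩ := hQ.exists_le_sylow
  obtain ⟨g, hg⟩ := MulAction.exists_smul_eq (alternatingGroup (Fin n)) P' P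
  have hmem : ∀ y ∈ F.range, g * y * g⁻¹ ∈ (P : Subgroup (alternatingGroup (Fin n))) := by
    intro y hy
    have hy' : y ∈ (P' : Subgroup (alternatingGroup (Fin n))) := hP' hy
    have : g * y * g⁻¹ ∈ ((g • P' : Sylow 2 (alternatingGroup (Fin n))) : Subgroup (alternatingGroup (Fin n))) := by
      rw [Sylow.coe_subgroup_smul]
      have := Subgroup.smul_mem_pointwise_smul y (MulAut.conj g) (P' : Subgroup (alternatingGroup (Fin n))) hy'
      simpa [MulAut.smul_def] using this
    rwa [hg] at this
  have h1 := hmem (F (.r 1)) ⟨_, rfl⟩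
  have h2 := hmem (F (.sr 0)) ⟨_, rfl⟩
  have hc : (⟨_, h1⟩ : (P : Subgroup (alternatingGroup (Fin n)))) * ⟨_, h2⟩ = ⟨_, h2⟩ * ⟨_, h1⟩ :=
    hP.is_comm.comm _ _
  have hc' : g * F (.r 1) * g⁻¹ * (g * F (.sr 0) * g⁻¹) = g * F (.sr 0) * g⁻¹ * (g * F (.r 1) * g⁻¹) :=
    congrArg Subtype.val hc
  have hc'' : F (.r 1) * F (.sr 0) = F (.sr 0) * F (.r 1) := by
    have e1 : g * F (.r 1) * g⁻¹ * (g * F (.sr 0) * g⁻¹) = g * (F (.r 1) * F (.sr 0)) * g⁻¹ := by group
    have e2 : g * F (.sr 0) * g⁻¹ * (g * F (.r 1) * g⁻¹) = g * (F (.sr 0) * F (.r 1)) * g⁻¹ := by group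
    rw [e1, e2] at hc'
    exact mul_left_cancel (mul_right_cancel hc')
  have hc3 : f (.r 1) * f (.sr 0) = f (.sr 0) * f (.r 1) := congrArg Subtype.val hc''
  have hc4 : ι (d4fun (.r 1) * d4fun (.sr 0)) = ι (d4fun (.sr 0) * d4fun (.r 1)) := by
    rw [map_mul, map_mul]
    exact hc3
  exact d4_noncomm (hι hc4)

/-! ### The case `n = 5`, `p = 2` -/

set_option maxRecDepth 100000 in
theorem a5_no_order4 : ∀ y : Perm (Fin 5), sign y = 1 → y ^ 4 = 1 → y ^ 2 = 1 := by decide +kernel

theorem factorization_60 : (60 : ℕ).factorization 2 = 2 := by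
  have : (60 : ℕ) = 2 ^ 2 * 15 := by norm_num
  rw [this, Nat.factorization_mul (by norm_num) (by norm_num), Nat.Prime.factorization_pow Nat.prime_two]
  simp [Nat.factorization_eq_zero_of_not_dvd (show ¬ 2 ∣ 15 by norm_num)]

theorem card_a5 : Nat.card (alternatingGroup (Fin 5)) = 60 := by
  rw [nat_card_alternatingGroup, Nat.card_fin]
  decide

theorem a5_case (P : Sylow 2 (alternatingGroup (Fin 5)))
    (hP : IsMulCommutative (P : Subgroup (alternatingGroup (Fin 5)))) :
    ((Subgroup.centralizer ((P : Subgroup (alternatingGroup (Fin 5))) : Set (alternatingGroup (Fin 5)))).subgroupOf (Subgroup.normalizer ((P : Subgroup (alternatingGroup (Fin 5))) : Set (alternatingGroup (Fin 5))))).index = 3 ∧ IsKleinFour (P : Subgroup (alternatingGroup (Fin 5))) := by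
  have hcardP : Nat.card (P : Subgroup (alternatingGroup (Fin 5))) = 4 := by
    rw [P.card_eq_multiplicity, card_a5, factorization_60]
    norm_num
  have hexp : ∀ x : (P : Subgroup (alternatingGroup (Fin 5))), x ^ 2 = 1 := by
    intro x
    have h4 : x ^ 4 = 1 := by rw [← hcardP]; exact pow_card_eq_one'
    have h4' : ((x : alternatingGroup (Fin 5)) : Perm (Fin 5)) ^ 4 = 1 := by
      have := congrArg (fun y : (P : Subgroup (alternatingGroup (Fin 5))) =>
        ((y : alternatingGroup (Fin 5)) : Perm (Fin 5))) h4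
      simpa using this
    have hs : sign ((x : alternatingGroup (Fin 5)) : Perm (Fin 5)) = 1 :=
      Equiv.Perm.mem_alternatingGroup.mp (x : alternatingGroup (Fin 5)).2
    have h2 := a5_no_order4 _ hs h4'
    apply Subtype.ext
    apply Subtype.ext
    simpa using h2
  have hK : IsKleinFour (P : Subgroup (alternatingGroup (Fin 5))) := by
    refine ⟨hcardP, ?_⟩
    have hdvd : Monoid.exponent (P : Subgroup (alternatingGroup (Fin 5))) ∣ 2 :=
      Monoid.exponent_dvd_of_forall_pow_eq_one hexp
    have hne : Monoid.exponent (P : Subgroup (alternatingGroup (Fin 5))) ≠ 1 := by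
      intro h1
      have := Monoid.exp_eq_one_iff.mp h1
      have := Nat.card_eq_one_iff_unique.mpr ⟨this, ⟨1⟩⟩
      omega
    rcases (Nat.dvd_prime Nat.prime_two).mp hdvd with h | h
    · exact absurd h hne
    · exact h
  refine ⟨?_, hK⟩
  -- the index divides |Aut P| which divides 24
  have key := Subgroup.card_dvd_of_injective _
    (QuotientGroup.kerLift_injective (P : Subgroup (alternatingGroup (Fin 5))).normalizerMonoidHom)
  rw [Subgroup.normalizerMonoidHom_ker, ← Subgroup.index] at key
  have h24 : Nat.card (MulAut (P : Subgroup (alternatingGroup (Fin 5)))) ∣ 24 := by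
    have := Subgroup.card_dvd_of_injective (MulAut.toPerm (P : Subgroup (alternatingGroup (Fin 5))))
      (fun a b hab => MulEquiv.toEquiv_injective hab)
    rw [Nat.card_perm, hcardP] at this
    exact this
  have hi24 := key.trans h24
  -- the index divides 15
  have hPC : (P : Subgroup (alternatingGroup (Fin 5))) ≤
      Subgroup.centralizer ((P : Subgroup (alternatingGroup (Fin 5))) : Set (alternatingGroup (Fin 5))) := by
    intro x hx
    rw [Subgroup.mem_centralizer_iff]
    intro y hy
    have := hP.is_comm.comm ⟨y, hy⟩ ⟨x, hx⟩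
    exact congrArg Subtype.val this
  have hCN : Subgroup.centralizer ((P : Subgroup (alternatingGroup (Fin 5))) : Set (alternatingGroup (Fin 5))) ≤
      Subgroup.normalizer ((P : Subgroup (alternatingGroup (Fin 5))) : Set (alternatingGroup (Fin 5))) :=
    Subgroup.centralizer_le_normalizer _
  have hidx : (P : Subgroup (alternatingGroup (Fin 5))).index = 15 := by
    have := (P : Subgroup (alternatingGroup (Fin 5))).card_mul_index
    rw [hcardP, card_a5] at this
    omega
  have hi15 : ((Subgroup.centralizer ((P : Subgroup (alternatingGroup (Fin 5))) : Set (alternatingGroup (Fin 5)))).subgroupOf (Subgroup.normalizer ((P : Subgroup (alternatingGroup (Fin 5))) : Set (alternatingGroup (Fin 5))))).index ∣ 15 := by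
    change (Subgroup.centralizer ((P : Subgroup (alternatingGroup (Fin 5))) : Set (alternatingGroup (Fin 5)))).relIndex (Subgroup.normalizer ((P : Subgroup (alternatingGroup (Fin 5))) : Set (alternatingGroup (Fin 5)))) ∣ 15
    rw [← hidx]
    exact (Subgroup.relIndex_dvd_of_le_left _ hPC).trans (Subgroup.relIndex_dvd_index_of_le (hPC.trans hCN))
  -- the index is not 1
  have hi1 : ((Subgroup.centralizer ((P : Subgroup (alternatingGroup (Fin 5))) : Set (alternatingGroup (Fin 5)))).subgroupOf (Subgroup.normalizer ((P : Subgroup (alternatingGroup (Fin 5))) : Set (alternatingGroup (Fin 5))))).index ≠ 1 := by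
    intro h1
    have hNC : Subgroup.normalizer ((P : Subgroup (alternatingGroup (Fin 5))) : Set (alternatingGroup (Fin 5))) ≤
        Subgroup.centralizer ((P : Subgroup (alternatingGroup (Fin 5))) : Set (alternatingGroup (Fin 5))) :=
      Subgroup.relIndex_eq_one.mp h1
    have hcompl := MonoidHom.ker_transferSylow_isComplement' P hNC
    have hcard := hcompl.card_mul_card
    rw [hcardP, card_a5] at hcard
    have hker : Nat.card (MonoidHom.transferSylow P hNC).ker = 15 := by omega
    rcases (MonoidHom.transferSylow P hNC).normal_ker.eq_bot_or_eq_top with h | h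
    · rw [h] at hker; simp at hker
    · rw [h] at hker
      rw [Subgroup.card_top, card_a5] at hker
      omega
  have hi3 : ((Subgroup.centralizer ((P : Subgroup (alternatingGroup (Fin 5))) : Set (alternatingGroup (Fin 5)))).subgroupOf (Subgroup.normalizer ((P : Subgroup (alternatingGroup (Fin 5))) : Set (alternatingGroup (Fin 5))))).index ∣ 3 := by
    have := Nat.dvd_gcd hi24 hi15
    simpa using this
  rcases (Nat.dvd_prime Nat.prime_three).mp hi3 with h | h
  · exact absurd h hi1
  · exact h

/-- Let n ≥ 5 and let P be an abelian Sylow p-subgroup of the alternating group A_n. Then N(P)/C(P) (taken in A_n) has even order, or P is cyclic, except when n = 5 and p = 2, where P is a four-group and N(P)/C(P) has order 3. -/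
theorem result (n : ℕ) (hn : 5 ≤ n) {p : ℕ} [Fact p.Prime]
    (P : Sylow p (alternatingGroup (Fin n))) (hP : IsMulCommutative (P : Subgroup (alternatingGroup (Fin n)))) :
    (¬ (n = 5 ∧ p = 2) → 2 ∣ ((Subgroup.centralizer ((P : Subgroup (alternatingGroup (Fin n))) : Set (alternatingGroup (Fin n)))).subgroupOf (Subgroup.normalizer ((P : Subgroup (alternatingGroup (Fin n))) : Set (alternatingGroup (Fin n))))).index ∨ IsCyclic (P : Subgroup (alternatingGroup (Fin n)))) ∧
    ((n = 5 ∧ p = 2) → ((Subgroup.centralizer ((P : Subgroup (alternatingGroup (Fin n))) : Set (alternatingGroup (Fin n)))).subgroupOf (Subgroup.normalizer ((P : Subgroup (alternatingGroup (Fin n))) : Set (alternatingGroup (Fin n))))).index = 3 ∧ IsKleinFour (P : Subgroup (alternatingGroup (Fin n)))) := by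
  constructor
  · intro hne
    by_cases hp2 : p = 2
    · subst hp2
      have hn6 : 6 ≤ n := by
        by_contra h
        exact hne ⟨by omega, rfl⟩
      exact (not_comm_two hn6 P hP).elim
    · by_cases hpn : p + 2 ≤ n
      · exact Or.inl (even_index_odd hp2 hpn P hP)
      · exact Or.inr (cyclic_case hn hp2 (by omega) P)
  · rintro ⟨rfl, rfl⟩
    exact a5_case P hP

end Cfsg.Agent.S2269
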