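import Mathlib
import Cfsg.Statements.S2271
import Cfsg.Agent.Lib.Helper4.ArHzB
-- import your own Cfsg.Agent.* helpers here

set_option autoImplicit false
open Cfsg

namespace Cfsg.Agent.S2271

/-- Let n ≥ 5 and let a, b be non-identity permutations in the symmetric group S_n. Then the number of fixed points is not constant on the set of products a′b′ with a′ conjugate to a and b′ conjugate to b under the alternating group: there are even permutations g₁, h₁, g₂, h₂ such that (g₁ a g₁⁻¹)(h₁ b h₁⁻¹) and (g₂ a g₂⁻¹)(h₂ b h₂⁻¹) have different numbers of fixed points. -/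
theorem result (n : ℕ) (hn : 5 ≤ n) (a b : Equiv.Perm (Fin n)) (ha : a ≠ 1) (hb : b ≠ 1) :
    ∃ g₁ h₁ g₂ h₂ : Equiv.Perm (Fin n), g₁ ∈ alternatingGroup (Fin n) ∧ h₁ ∈ alternatingGroup (Fin n) ∧ g₂ ∈ alternatingGroup (Fin n) ∧ h₂ ∈ alternatingGroup (Fin n) ∧
      Nat.card (Function.fixedPoints ⇑(g₁ * a * g₁⁻¹ * (h₁ * b * h₁⁻¹))) ≠
        Nat.card (Function.fixedPoints ⇑(g₂ * a * g₂⁻¹ * (h₂ * b * h₂⁻¹))) := by
  open Cfsg.Agent.Helper4.ArHz in
  -- moved points of a and b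
  have hexa : ∃ ua, a ua ≠ ua := by
    by_contra h
    push_neg at h
    exact ha (Equiv.ext h)
  have hexb : ∃ ub, b ub ≠ ub := by
    by_contra h
    push_neg at h
    exact hb (Equiv.ext h)
  obtain ⟨ua, hua⟩ := hexa
  obtain ⟨ub, hub⟩ := hexb
  -- turning the two kinds of intermediate goals into the statement
  have fromB : Cfsg.Agent.Helper4.ArHz.Goal b a⁻¹ → ∃ g₁ h₁ g₂ h₂ : Equiv.Perm (Fin n),
      g₁ ∈ alternatingGroup (Fin n) ∧ h₁ ∈ alternatingGroup (Fin n) ∧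
      g₂ ∈ alternatingGroup (Fin n) ∧ h₂ ∈ alternatingGroup (Fin n) ∧
      Nat.card (Function.fixedPoints ⇑(g₁ * a * g₁⁻¹ * (h₁ * b * h₁⁻¹))) ≠
        Nat.card (Function.fixedPoints ⇑(g₂ * a * g₂⁻¹ * (h₂ * b * h₂⁻¹))) := by
    rintro ⟨h₁, h₂, hh₁, hh₂, hne⟩
    refine ⟨1, h₁, 1, h₂, Subgroup.one_mem _, hh₁, Subgroup.one_mem _, hh₂, ?_⟩
    have e1 : (1 : Equiv.Perm (Fin n)) * a * 1⁻¹ = a := by group
    rw [e1, Cfsg.Agent.Helper4.ArHz.card_fixedPoints_mul,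
      Cfsg.Agent.Helper4.ArHz.card_fixedPoints_mul]
    exact hne
  have fromA : Cfsg.Agent.Helper4.ArHz.Goal a b⁻¹ → ∃ g₁ h₁ g₂ h₂ : Equiv.Perm (Fin n),
      g₁ ∈ alternatingGroup (Fin n) ∧ h₁ ∈ alternatingGroup (Fin n) ∧
      g₂ ∈ alternatingGroup (Fin n) ∧ h₂ ∈ alternatingGroup (Fin n) ∧
      Nat.card (Function.fixedPoints ⇑(g₁ * a * g₁⁻¹ * (h₁ * b * h₁⁻¹))) ≠
        Nat.card (Function.fixedPoints ⇑(g₂ * a * g₂⁻¹ * (h₂ * b * h₂⁻¹))) := by
    rintro ⟨g₁, g₂, hg₁, hg₂, hne⟩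
    refine ⟨g₁, 1, g₂, 1, hg₁, Subgroup.one_mem _, hg₂, Subgroup.one_mem _, ?_⟩
    have e1 : (1 : Equiv.Perm (Fin n)) * b * 1⁻¹ = b := by group
    rw [e1, Cfsg.Agent.Helper4.ArHz.card_fixedPoints_mul',
      Cfsg.Agent.Helper4.ArHz.card_fixedPoints_mul']
    exact hne
  -- a⁻¹ and b⁻¹ move points
  have hia : a⁻¹ ua ≠ ua := by
    intro h
    apply hua
    have := congrArg a h
    simp at this
    exact this.symm
  have hib : b⁻¹ ub ≠ ub := by
    intro h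
    apply hub
    have := congrArg b h
    simp at this
    exact this.symm
  -- case: b has a long cycle at ub
  by_cases hb2 : b (b ub) = ub
  · -- b has a 2-cycle at ub
    by_cases ha2 : a (a ua) = ua
    · -- a has a 2-cycle
      apply fromB
      have hr2 : a⁻¹ (a⁻¹ ua) = ua := by
        rw [Equiv.Perm.inv_eq_iff_eq, Equiv.Perm.inv_eq_iff_eq]; exact ha2.symm
      exact Cfsg.Agent.Helper4.ArHz.goal_22 hn b a⁻¹ hub hb2 hia hr2
    · by_cases ha3 : a (a (a ua)) = ua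
      · apply fromB
        have hr3 : a⁻¹ (a⁻¹ (a⁻¹ ua)) = ua := by
          rw [Equiv.Perm.inv_eq_iff_eq, Equiv.Perm.inv_eq_iff_eq, Equiv.Perm.inv_eq_iff_eq]
          exact ha3.symm
        exact Cfsg.Agent.Helper4.ArHz.goal_23 hn b a⁻¹ hub hb2 hia hr3
      · apply fromA
        exact Cfsg.Agent.Helper4.ArHz.goal_long hn a b⁻¹ ha2 ha3 hib
  · by_cases hb3 : b (b (b ub)) = ub
    · by_cases ha2 : a (a ua) = ua
      · apply fromB
        have hr2 : a⁻¹ (a⁻¹ ua) = ua := by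
          rw [Equiv.Perm.inv_eq_iff_eq, Equiv.Perm.inv_eq_iff_eq]; exact ha2.symm
        exact Cfsg.Agent.Helper4.ArHz.goal_32 hn b a⁻¹ hub hb3 hia hr2
      · by_cases ha3 : a (a (a ua)) = ua
        · apply fromB
          have hr3 : a⁻¹ (a⁻¹ (a⁻¹ ua)) = ua := by
            rw [Equiv.Perm.inv_eq_iff_eq, Equiv.Perm.inv_eq_iff_eq, Equiv.Perm.inv_eq_iff_eq]
            exact ha3.symm
          exact Cfsg.Agent.Helper4.ArHz.goal_33 hn b a⁻¹ hub hb3 hia hr3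
        · apply fromA
          exact Cfsg.Agent.Helper4.ArHz.goal_long hn a b⁻¹ ha2 ha3 hib
    · apply fromB
      exact Cfsg.Agent.Helper4.ArHz.goal_long hn b a⁻¹ hb2 hb3 hia

end Cfsg.Agent.S2271
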