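import Cfsg.Statements.S2272
import Cfsg.Agent.Lib.Helper10.AradHerzog

set_option autoImplicit false
open Cfsg

namespace Cfsg.Agent.S2272

/-- trace of a conjugate / scalar multiple inside `SL` -/
theorem trace_eq_of_mk_eq {F : Type*} [Field F] (d : ℕ) (hd : 3 ≤ d)
    (X Y C : Matrix.SpecialLinearGroup (Fin d) F)
    (h : (QuotientGroup.mk (C * X * C⁻¹) : Matrix.ProjectiveSpecialLinearGroup (Fin d) F) =
      QuotientGroup.mk Y) :
    ∃ r : F, r ≠ 0 ∧ Y.1.trace = r * X.1.trace := by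
  rw [QuotientGroup.eq, Matrix.SpecialLinearGroup.mem_center_iff] at h
  obtain ⟨r, hr, hZ⟩ := h
  have hr0 : r ≠ 0 := by
    rintro rfl
    rw [Fintype.card_fin, zero_pow (by omega)] at hr
    exact zero_ne_one hr
  refine ⟨r, hr0, ?_⟩
  have hY : Y = (C * X * C⁻¹) * ((C * X * C⁻¹)⁻¹ * Y) := by group
  have hY1 : Y.1 = (C.1 * X.1 * (C⁻¹).1) * (Matrix.scalar (Fin d) r) := by
    conv_lhs => rw [hY]
    rw [Matrix.SpecialLinearGroup.coe_mul, ← hZ]
    simp only [Matrix.SpecialLinearGroup.coe_mul]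
  have hs : (Matrix.scalar (Fin d) r) = r • (1 : Matrix (Fin d) (Fin d) F) := by
    ext i j
    simp [Matrix.scalar_apply, Matrix.one_apply, Matrix.diagonal_apply]
  rw [hY1, hs, Matrix.mul_smul, Matrix.mul_one, Matrix.trace_smul, smul_eq_mul,
    Matrix.trace_mul_cycle, ← Matrix.SpecialLinearGroup.coe_mul, inv_mul_cancel,
    Matrix.SpecialLinearGroup.coe_one, Matrix.one_mul]

/-- Let F be a finite field and d ≥ 3, and let a, b be non-identity elements of PSL_d(F). Then the product of the conjugacy classes of a and b is not a single conjugacy class: there are conjugates a′ of a and b′ of b such that a′b′ is not conjugate to ab. -/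
theorem result {F : Type*} [Field F] [Fintype F] (d : ℕ) (hd : 3 ≤ d)
    (a b : Matrix.ProjectiveSpecialLinearGroup (Fin d) F) (ha : a ≠ 1) (hb : b ≠ 1) :
    ∃ g h : Matrix.ProjectiveSpecialLinearGroup (Fin d) F, ¬ IsConj (a * b) (g * a * g⁻¹ * (h * b * h⁻¹)) := by
  obtain ⟨A, rfl⟩ := QuotientGroup.mk_surjective a
  obtain ⟨B, rfl⟩ := QuotientGroup.mk_surjective b
  have hA : A ∉ Subgroup.center (Matrix.SpecialLinearGroup (Fin d) F) := by
    intro hmem
    exact ha ((QuotientGroup.eq_one_iff A).mpr hmem)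
  have hB : B ∉ Subgroup.center (Matrix.SpecialLinearGroup (Fin d) F) := by
    intro hmem
    exact hb ((QuotientGroup.eq_one_iff B).mpr hmem)
  have hcard : 3 ≤ Fintype.card (Fin d) := by simpa using hd
  obtain ⟨⟨H0, h0⟩, ⟨H1, h1⟩⟩ := Cfsg.Agent.Helper10.AH.exists_trace hcard A B hA hB
  have main : ∀ H : Matrix.SpecialLinearGroup (Fin d) F,
      IsConj ((QuotientGroup.mk A : Matrix.ProjectiveSpecialLinearGroup (Fin d) F) *
          QuotientGroup.mk B)
        (1 * QuotientGroup.mk A * 1⁻¹ * (QuotientGroup.mk H * QuotientGroup.mk B *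
          (QuotientGroup.mk H)⁻¹)) →
      ∃ r : F, r ≠ 0 ∧ (A * (H * B * H⁻¹)).1.trace = r * (A * B).1.trace := by
    intro H hconj
    rw [isConj_iff] at hconj
    obtain ⟨c, hc⟩ := hconj
    obtain ⟨C, rfl⟩ := QuotientGroup.mk_surjective c
    apply trace_eq_of_mk_eq d hd (A * B) (A * (H * B * H⁻¹)) C
    rw [one_mul, inv_one, mul_one] at hc
    exact hc
  by_cases htr : (A * B).1.trace = 0
  · refine ⟨1, QuotientGroup.mk H1, fun hconj => ?_⟩
    obtain ⟨r, _, hr⟩ := main H1 hconj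
    rw [htr, mul_zero] at hr
    exact h1 hr
  · refine ⟨1, QuotientGroup.mk H0, fun hconj => ?_⟩
    obtain ⟨r, hr0, hr⟩ := main H0 hconj
    rw [h0] at hr
    exact (mul_ne_zero hr0 htr) hr.symm

end Cfsg.Agent.S2272
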