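import Mathlib
import Cfsg.Statements.S2277
import Cfsg.Agent.Lib.Helper15.CoprimeGen
import Cfsg.Agent.Lib.Helper19.PGroupBasic
import Cfsg.Agent.Lib.Helper22.OddCyclicMax

set_option autoImplicit false
set_option linter.style.haveILetI false
set_option linter.unusedSectionVars false

open Cfsg

namespace Cfsg.Agent.S2277

open Subgroup

universe u

/-- The bundled hypotheses. -/
structure Hyp (p : ℕ) (G : Type u) [Group G] (P N : Subgroup G) (C D : Set G) : Prop where
  pgroup : IsPGroup p P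
  normal : N.Normal
  coprime : (Nat.card N).Coprime p
  sup : N ⊔ P = ⊤
  hC : closure C = P
  hD : closure D = P
  h : ∀ x ∈ N, ∀ c ∈ C, ∀ d ∈ D, IsPGroup p (closure ({x * c * x⁻¹, d} : Set G))

/-- The conclusion for all configurations in `G`. -/
def Good (p : ℕ) (G : Type u) [Group G] : Prop :=
  ∀ (P N : Subgroup G) (C D : Set G), Hyp p G P N C D → ∀ u ∈ P, ∀ n ∈ N, u * n = n * u

section transport

variable {p : ℕ} {G : Type u} [Group G] {P N : Subgroup G} {C D : Set G}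

theorem closure_preimage_subtype (H : Subgroup G) (S : Set G) (hS : S ⊆ H) :
    closure (H.subtype ⁻¹' S) = (closure S).subgroupOf H := by
  apply le_antisymm
  · rw [closure_le]
    intro x hx
    exact subset_closure hx
  · intro x hx
    have hx' : (x : G) ∈ closure S := hx
    have key : ∀ y ∈ closure S, ∀ hy : y ∈ H, (⟨y, hy⟩ : H) ∈ closure (H.subtype ⁻¹' S) := by
      intro y hy
      induction hy using closure_induction with
      | mem z hz =>
        intro hzH
        exact subset_closure hz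
      | one =>
        intro _
        exact one_mem _
      | mul a b ha hb iha ihb =>
        intro hab
        have haH : a ∈ H := (closure_le H).mpr hS ha
        have hbH : b ∈ H := (closure_le H).mpr hS hb
        have := mul_mem (iha haH) (ihb hbH)
        exact this
      | inv a ha iha =>
        intro ha'
        have haH : a ∈ H := (closure_le H).mpr hS ha
        have := inv_mem (iha haH)
        exact this
    exact key x hx' x.2

theorem Hyp.subgroup (hyp : Hyp p G P N C D) (H : Subgroup G) (hPH : P ≤ H) :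
    Hyp p ↥H (P.subgroupOf H) (N.subgroupOf H) (H.subtype ⁻¹' C) (H.subtype ⁻¹' D) := by
  have hCP : C ⊆ P := by rw [← hyp.hC]; exact subset_closure
  have hDP : D ⊆ P := by rw [← hyp.hD]; exact subset_closure
  haveI := hyp.normal
  refine ⟨hyp.pgroup.comap_subtype, inferInstance, ?_, ?_, ?_, ?_, ?_⟩
  · have hdvd : Nat.card (N.subgroupOf H) ∣ Nat.card N := by
      let f : N.subgroupOf H →* N :=
        { toFun := fun x => ⟨(x : H), x.2⟩
          map_one' := rfl
          map_mul' := fun _ _ => rfl }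
      have hf : Function.Injective f := by
        intro x y hxy
        have := congrArg (fun z : N => (z : G)) hxy
        exact Subtype.ext (Subtype.ext this)
      exact Subgroup.card_dvd_of_injective f hf
    exact Nat.Coprime.coprime_dvd_left hdvd hyp.coprime
  · rw [eq_top_iff]
    intro x _
    have hx : (x : G) ∈ N ⊔ P := by rw [hyp.sup]; exact mem_top _
    rw [mem_sup_of_normal_left] at hx
    obtain ⟨n, hn, u, hu, hnu⟩ := hx
    have huH : u ∈ H := hPH hu
    have hnH : n ∈ H := by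
      have : n = x * u⁻¹ := by rw [← hnu]; group
      rw [this]
      exact H.mul_mem x.2 (H.inv_mem huH)
    have : x = (⟨n, hnH⟩ : H) * ⟨u, huH⟩ := Subtype.ext hnu.symm
    rw [this]
    exact mul_mem (mem_sup_left (show (⟨n, hnH⟩ : H) ∈ N.subgroupOf H from hn))
      (mem_sup_right (show (⟨u, huH⟩ : H) ∈ P.subgroupOf H from hu))
  · rw [closure_preimage_subtype H C (hCP.trans hPH), hyp.hC]
  · rw [closure_preimage_subtype H D (hDP.trans hPH), hyp.hD]
  · intro x hx c hc d hd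
    have h1 := hyp.h (x : G) hx (c : G) hc (d : G) hd
    have hmap : (closure ({x * c * x⁻¹, d} : Set H)).map H.subtype =
        closure ({(x : G) * c * (x : G)⁻¹, (d : G)} : Set G) := by
      rw [MonoidHom.map_closure]
      congr 1
      ext y
      simp only [Set.mem_image, Set.mem_insert_iff, Set.mem_singleton_iff]
      constructor
      · rintro ⟨w, hw | hw, rfl⟩
        · left; rw [hw]; rfl
        · right; rw [hw]; rfl
      · rintro (hy | hy)
        · exact ⟨x * c * x⁻¹, Or.inl rfl, hy.symm⟩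
        · exact ⟨d, Or.inr rfl, hy.symm⟩
    rw [← hmap] at h1
    exact h1.of_injective ((closure ({x * c * x⁻¹, d} : Set H)).equivMapOfInjective H.subtype
      H.subtype_injective).toMonoidHom (MulEquiv.injective _)

theorem Hyp.quotient (hyp : Hyp p G P N C D) (M : Subgroup G) [M.Normal] :
    Hyp p (G ⧸ M) (P.map (QuotientGroup.mk' M)) (N.map (QuotientGroup.mk' M))
      (QuotientGroup.mk' M '' C) (QuotientGroup.mk' M '' D) := by
  haveI := hyp.normal
  have hsurj : Function.Surjective (QuotientGroup.mk' M) := QuotientGroup.mk'_surjective M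
  refine ⟨hyp.pgroup.map _, Subgroup.Normal.map inferInstance _ hsurj, ?_, ?_, ?_, ?_, ?_⟩
  · exact Nat.Coprime.coprime_dvd_left (Subgroup.card_map_dvd _ _) hyp.coprime
  · rw [← Subgroup.map_sup, hyp.sup, ← MonoidHom.range_eq_map, MonoidHom.range_eq_top.mpr hsurj]
  · rw [← MonoidHom.map_closure, hyp.hC]
  · rw [← MonoidHom.map_closure, hyp.hD]
  · rintro _ ⟨x, hx, rfl⟩ _ ⟨c, hc, rfl⟩ _ ⟨d, hd, rfl⟩
    have h1 := hyp.h x hx c hc d hd
    have hmap : (closure ({x * c * x⁻¹, d} : Set G)).map (QuotientGroup.mk' M) =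
        closure ({QuotientGroup.mk' M x * QuotientGroup.mk' M c * (QuotientGroup.mk' M x)⁻¹,
          QuotientGroup.mk' M d} : Set (G ⧸ M)) := by
      rw [MonoidHom.map_closure]
      congr 1
      rw [Set.image_pair, map_mul, map_mul, map_inv]
    rw [← hmap]
    exact h1.map _

end transport


section cn

variable {G : Type u} [Group G]

/-- The centraliser of an element inside `N`. -/
def CN (N : Subgroup G) (g : G) : Subgroup G := N ⊓ centralizer ({g} : Set G)

theorem mem_CN {N : Subgroup G} {g x : G} : x ∈ CN N g ↔ x ∈ N ∧ g * x = x * g := by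
  unfold CN
  rw [mem_inf, mem_centralizer_iff]
  constructor
  · rintro ⟨h1, h2⟩
    exact ⟨h1, h2 g rfl⟩
  · rintro ⟨h1, h2⟩
    refine ⟨h1, fun y hy => ?_⟩
    rw [Set.mem_singleton_iff] at hy
    rw [hy, h2]

end cn

section basic

variable {p : ℕ} [hp : Fact p.Prime] {G : Type u} [Group G] [Finite G] {P N : Subgroup G}
  {C D : Set G}

theorem Hyp.coprime_card (hyp : Hyp p G P N C D) : (Nat.card N).Coprime (Nat.card P) := by
  obtain ⟨k, hk⟩ := IsPGroup.iff_card.mp hyp.pgroup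
  rw [hk]
  exact Nat.Coprime.pow_right k hyp.coprime

theorem Hyp.inf_eq_bot (hyp : Hyp p G P N C D) : N ⊓ P = ⊥ :=
  (Subgroup.disjoint_of_coprime_natCard hyp.coprime_card).eq_bot

theorem Hyp.eq_one_of_mem (hyp : Hyp p G P N C D) {x : G} (h1 : x ∈ N) (h2 : x ∈ P) : x = 1 := by
  have : x ∈ N ⊓ P := ⟨h1, h2⟩
  rw [hyp.inf_eq_bot] at this
  exact Subgroup.mem_bot.mp this

theorem Hyp.exists_mul (hyp : Hyp p G P N C D) (g : G) : ∃ n ∈ N, ∃ u ∈ P, g = n * u := by
  haveI := hyp.normal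
  have hx : g ∈ N ⊔ P := by rw [hyp.sup]; exact mem_top _
  rw [mem_sup_of_normal_left] at hx
  obtain ⟨n, hn, u, hu, hnu⟩ := hx
  exact ⟨n, hn, u, hu, hnu.symm⟩

/-- An element of `N` has order prime to `p`. -/
theorem Hyp.eq_one_of_pow (hyp : Hyp p G P N C D) {m : G} (hm : m ∈ N) (e : ℕ)
    (h : m ^ (p ^ e) = 1) : m = 1 := by
  have h1 : orderOf m ∣ p ^ e := orderOf_dvd_of_pow_eq_one h
  have h2 : orderOf m ∣ Nat.card N := by
    have := orderOf_dvd_natCard (⟨m, hm⟩ : N)
    rwa [Subgroup.orderOf_mk] at this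
  have h3 : orderOf m ∣ Nat.gcd (p ^ e) (Nat.card N) := Nat.dvd_gcd h1 h2
  have h4 : Nat.gcd (p ^ e) (Nat.card N) = 1 :=
    Nat.Coprime.pow_left e hyp.coprime.symm
  rw [h4, Nat.dvd_one] at h3
  exact orderOf_eq_one_iff.mp h3

/-- The coprime-action lemma `[N,P,P] = 1 ⇒ [N,P] = 1`. -/
theorem Hyp.commute_of_comm_mem (hyp : Hyp p G P N C D) (M : Subgroup G) (hMN : M ≤ N)
    (hM : ∀ u ∈ P, ∀ m ∈ M, u * m = m * u)
    (hcomm : ∀ u ∈ P, ∀ n ∈ N, u * n * u⁻¹ * n⁻¹ ∈ M) :
    ∀ u ∈ P, ∀ n ∈ N, u * n = n * u := by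
  intro u hu n hn
  set m := u * n * u⁻¹ * n⁻¹ with hm
  have hmM : m ∈ M := hcomm u hu n hn
  have hum : u * m = m * u := hM u hu m hmM
  have hconj : u * n * u⁻¹ = m * n := by rw [hm]; group
  have hpow : ∀ k : ℕ, u ^ k * n * (u ^ k)⁻¹ = m ^ k * n := by
    intro k
    induction k with
    | zero => simp
    | succ k ih =>
      have h1 : u ^ (k + 1) * n * (u ^ (k + 1))⁻¹ = u * (u ^ k * n * (u ^ k)⁻¹) * u⁻¹ := by
        rw [pow_succ']; group
      rw [h1, ih]
      have h2 : u * (m ^ k * n) * u⁻¹ = (u * m ^ k * u⁻¹) * (u * n * u⁻¹) := by group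
      rw [h2, hconj]
      have h3 : u * m ^ k * u⁻¹ = m ^ k := by
        have : Commute u (m ^ k) := (show Commute u m from hum).pow_right k
        rw [this.eq]; group
      rw [h3, pow_succ]
      group
  obtain ⟨e, he⟩ := (IsPGroup.iff_orderOf.mp hyp.pgroup) (⟨u, hu⟩ : P)
  rw [Subgroup.orderOf_mk] at he
  have h1 := hpow (p ^ e)
  rw [← he, pow_orderOf_eq_one] at h1
  have h2 : m ^ orderOf u = 1 := by
    have : n = m ^ orderOf u * n := by simpa using h1
    exact (mul_eq_right.mp this.symm)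
  rw [he] at h2
  have h3 : m = 1 := hyp.eq_one_of_pow (hMN hmM) e h2
  rw [h3, one_mul] at hconj
  calc u * n = (u * n * u⁻¹) * u := by group
    _ = n * u := by rw [hconj]

/-- The subgroup `N₁ P` for a `P`-invariant `N₁`. -/
def prodSub (N₁ P : Subgroup G) (h : ∀ u ∈ P, ∀ n ∈ N₁, u * n * u⁻¹ ∈ N₁) : Subgroup G where
  carrier := {g | ∃ n ∈ N₁, ∃ u ∈ P, g = n * u}
  mul_mem' := by
    rintro _ _ ⟨n₁, hn₁, u₁, hu₁, rfl⟩ ⟨n₂, hn₂, u₂, hu₂, rfl⟩
    refine ⟨n₁ * (u₁ * n₂ * u₁⁻¹), N₁.mul_mem hn₁ (h u₁ hu₁ n₂ hn₂), u₁ * u₂, P.mul_mem hu₁ hu₂, ?_⟩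
    group
  one_mem' := ⟨1, N₁.one_mem, 1, P.one_mem, by simp⟩
  inv_mem' := by
    rintro _ ⟨n, hn, u, hu, rfl⟩
    refine ⟨u⁻¹ * n⁻¹ * (u⁻¹)⁻¹, h u⁻¹ (P.inv_mem hu) n⁻¹ (N₁.inv_mem hn), u⁻¹, P.inv_mem hu, ?_⟩
    group

theorem le_prodSub_right (N₁ P : Subgroup G) (h : ∀ u ∈ P, ∀ n ∈ N₁, u * n * u⁻¹ ∈ N₁) :
    P ≤ prodSub N₁ P h := fun u hu => ⟨1, N₁.one_mem, u, hu, by simp⟩

theorem le_prodSub_left (N₁ P : Subgroup G) (h : ∀ u ∈ P, ∀ n ∈ N₁, u * n * u⁻¹ ∈ N₁) :
    N₁ ≤ prodSub N₁ P h := fun n hn => ⟨n, hn, 1, P.one_mem, by simp⟩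

/-- `P` is a Sylow subgroup: every `p`-subgroup is conjugate into it by an element of `N`. -/
theorem Hyp.exists_conj (hyp : Hyp p G P N C D) (Q : Subgroup G) (hQ : IsPGroup p Q) :
    ∃ y ∈ N, ∀ q ∈ Q, y⁻¹ * q * y ∈ P := by
  obtain ⟨S, hPS⟩ := hyp.pgroup.exists_le_sylow
  -- `P = S`
  have hSP : ∀ s ∈ (S : Subgroup G), s ∈ P := by
    intro s hs
    obtain ⟨n, hn, u, hu, rfl⟩ := hyp.exists_mul s
    have hnS : n ∈ (S : Subgroup G) := by
      have : n = n * u * u⁻¹ := by group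
      rw [this]
      exact (S : Subgroup G).mul_mem hs ((S : Subgroup G).inv_mem (hPS hu))
    obtain ⟨e, he⟩ := S.isPGroup' (⟨n, hnS⟩ : (S : Subgroup G))
    have he' : n ^ p ^ e = 1 := by
      have := congrArg Subtype.val he
      simpa using this
    rw [hyp.eq_one_of_pow hn e he', one_mul]
    exact hu
  obtain ⟨SQ, hQS⟩ := hQ.exists_le_sylow
  obtain ⟨g, hg⟩ := MulAction.exists_smul_eq G S SQ
  obtain ⟨y, hy, u, hu, rfl⟩ := hyp.exists_mul g
  refine ⟨y, hy, fun q hq => ?_⟩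
  have h1 : q ∈ (((y * u) • S : Sylow p G) : Subgroup G) := by rw [hg]; exact hQS hq
  rw [Sylow.coe_subgroup_smul, Subgroup.mem_pointwise_smul_iff_inv_smul_mem] at h1
  have h2 : (MulAut.conj (y * u))⁻¹ • q = (y * u)⁻¹ * q * (y * u) := by
    rw [← map_inv, MulAut.smul_def, MulAut.conj_apply, inv_inv]
  rw [h2] at h1
  have h3 := hSP _ h1
  have h4 : y⁻¹ * q * y = u * ((y * u)⁻¹ * q * (y * u)) * u⁻¹ := by group
  rw [h4]
  exact P.mul_mem (P.mul_mem hu h3) (P.inv_mem hu)


/-- The factorisation `N = C_N(d) C_N(c)`. -/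
theorem Hyp.factor (hyp : Hyp p G P N C D) : ∀ x ∈ N, ∀ c ∈ C, ∀ d ∈ D,
    ∃ y ∈ CN N d, ∃ w ∈ CN N c, x = y * w := by
  intro x hx c hc d hd
  haveI := hyp.normal
  have hcP : c ∈ P := by rw [← hyp.hC]; exact subset_closure hc
  have hdP : d ∈ P := by rw [← hyp.hD]; exact subset_closure hd
  obtain ⟨y, hy, hyQ⟩ := hyp.exists_conj _ (hyp.h x hx c hc d hd)
  have h1 : y⁻¹ * d * y ∈ P := hyQ d (subset_closure (by simp))
  have h2 : y⁻¹ * (x * c * x⁻¹) * y ∈ P := hyQ _ (subset_closure (by simp))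
  have e1 : y⁻¹ * d * y * d⁻¹ = 1 := by
    apply hyp.eq_one_of_mem
    · have : y⁻¹ * d * y * d⁻¹ = y⁻¹ * (d * y * d⁻¹) := by group
      rw [this]
      exact N.mul_mem (N.inv_mem hy) (hyp.normal.conj_mem y hy d)
    · exact P.mul_mem h1 (P.inv_mem hdP)
  have hw : y⁻¹ * x ∈ N := N.mul_mem (N.inv_mem hy) hx
  have e2 : (y⁻¹ * x) * c * (y⁻¹ * x)⁻¹ * c⁻¹ = 1 := by
    apply hyp.eq_one_of_mem
    · have : (y⁻¹ * x) * c * (y⁻¹ * x)⁻¹ * c⁻¹ = (y⁻¹ * x) * (c * (y⁻¹ * x)⁻¹ * c⁻¹) := by group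
      rw [this]
      exact N.mul_mem hw (hyp.normal.conj_mem _ (N.inv_mem hw) c)
    · have : (y⁻¹ * x) * c * (y⁻¹ * x)⁻¹ = y⁻¹ * (x * c * x⁻¹) * y := by group
      rw [this]
      exact P.mul_mem h2 (P.inv_mem hcP)
  refine ⟨y, mem_CN.mpr ⟨hy, ?_⟩, y⁻¹ * x, mem_CN.mpr ⟨hw, ?_⟩, by group⟩
  · have : y⁻¹ * d * y = d := by
      have := mul_inv_eq_one.mp e1
      exact this
    calc d * y = y * (y⁻¹ * d * y) := by group
      _ = y * d := by rw [this]
  · have : (y⁻¹ * x) * c * (y⁻¹ * x)⁻¹ = c := mul_inv_eq_one.mp e2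
    calc c * (y⁻¹ * x) = ((y⁻¹ * x) * c * (y⁻¹ * x)⁻¹) * (y⁻¹ * x) := by rw [this]
      _ = (y⁻¹ * x) * c := by group

theorem Hyp.card_le (hyp : Hyp p G P N C D) {c d : G} (hc : c ∈ C) (hd : d ∈ D) :
    Nat.card N ≤ Nat.card (CN N d) * Nat.card (CN N c) := by
  rw [← Nat.card_prod]
  let f : (CN N d) × (CN N c) → N := fun yw =>
    ⟨(yw.1 : G) * (yw.2 : G), N.mul_mem (mem_CN.mp yw.1.2).1 (mem_CN.mp yw.2.2).1⟩
  apply Nat.card_le_card_of_surjective f
  rintro ⟨x, hx⟩
  obtain ⟨y, hy, w, hw, hxyw⟩ := hyp.factor x hx c hc d hd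
  exact ⟨(⟨y, hy⟩, ⟨w, hw⟩), Subtype.ext hxyw.symm⟩

end basic


section trace

open scoped IsMulCommutative

variable {G : Type u} [Group G] (N : Subgroup G) [hN : N.Normal] [IsMulCommutative N] (p : ℕ)

/-- Conjugation on `N`. -/
abbrev cj : G →* MulAut N := MulAut.conjNormal

theorem cj_val (g : G) (x : N) : ((cj N g x : N) : G) = g * x * g⁻¹ := MulAut.conjNormal_apply g x

theorem cj_mul_apply (g h : G) (x : N) : cj N (g * h) x = cj N g (cj N h x) := by
  rw [map_mul]; rfl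

theorem cj_one_apply (x : N) : cj N 1 x = x := by
  rw [map_one]; rfl

theorem cj_conj_apply (h g : G) (x : N) : cj N h (cj N g x) = cj N (h * g * h⁻¹) (cj N h x) := by
  rw [← cj_mul_apply, ← cj_mul_apply]
  congr 2
  group

theorem cj_pow_fixed (g : G) (x : N) (h : cj N g x = x) (i : ℕ) : cj N (g ^ i) x = x := by
  induction i with
  | zero => rw [pow_zero, cj_one_apply]
  | succ i ih => rw [pow_succ, cj_mul_apply, h, ih]

/-- The trace map. -/
def T (g : G) (x : N) : N := ∏ i ∈ Finset.range p, cj N (g ^ i) x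

theorem T_mul (g : G) (x y : N) : T N p g (x * y) = T N p g x * T N p g y := by
  unfold T
  rw [← Finset.prod_mul_distrib]
  apply Finset.prod_congr rfl
  intro i _
  rw [map_mul]

theorem T_one (g : G) : T N p g 1 = 1 := by
  unfold T
  apply Finset.prod_eq_one
  intro i _
  rw [map_one]

theorem T_prod {ι : Type*} (s : Finset ι) (g : G) (f : ι → N) :
    T N p g (∏ k ∈ s, f k) = ∏ k ∈ s, T N p g (f k) := by
  classical
  induction s using Finset.induction_on with
  | empty => simp [T_one]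
  | insert k s hk ih => rw [Finset.prod_insert hk, Finset.prod_insert hk, T_mul, ih]

theorem cj_T (h g : G) (x : N) : cj N h (T N p g x) = T N p (h * g * h⁻¹) (cj N h x) := by
  unfold T
  rw [map_prod]
  apply Finset.prod_congr rfl
  intro i _
  rw [cj_conj_apply]
  congr 2
  rw [conj_pow]

theorem T_fixed (g : G) (hg : g ^ p = 1) (x : N) : cj N g (T N p g x) = T N p g x := by
  unfold T
  rw [map_prod]
  have h1 : ∀ i, cj N g (cj N (g ^ i) x) = cj N (g ^ (i + 1)) x := by
    intro i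
    rw [← cj_mul_apply, pow_succ']
  simp_rw [h1]
  have h2 := Finset.prod_range_succ (fun i => cj N (g ^ i) x) p
  have h3 := Finset.prod_range_succ' (fun i => cj N (g ^ i) x) p
  rw [h2] at h3
  simp only [hg, pow_zero] at h3
  exact (mul_right_cancel h3).symm

theorem T_of_fixed (g : G) (x : N) (h : cj N g x = x) : T N p g x = x ^ p := by
  unfold T
  rw [Finset.prod_congr rfl (fun i _ => cj_pow_fixed N g x h i), Finset.prod_const,
    Finset.card_range]

theorem pow_mod_of_pow_eq_one (z : G) (hz : z ^ p = 1) (n : ℕ) : z ^ (n % p) = z ^ n := by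
  conv_rhs => rw [← Nat.div_add_mod n p, pow_add, pow_mul, hz, one_pow, one_mul]

/-- Reindexing the trace of `z` by a unit modulo `p`. -/
theorem T_reindex (hp : p.Prime) (z : G) (hz : z ^ p = 1) (m : ℕ) (hm0 : 0 < m) (hmp : m < p)
    (x : N) : ∏ i ∈ Finset.range p, cj N (z ^ (i * m)) x = T N p z x := by
  unfold T
  have := Cfsg.Agent.Helper15.prod_range_mul_mod hp (fun j => cj N (z ^ j) x) hm0 hmp
  rw [← this]
  apply Finset.prod_congr rfl
  intro i _
  rw [pow_mod_of_pow_eq_one p z hz]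


theorem T_sum (hp : p.Prime) (a z : G) (haz : a * z = z * a) (hz : z ^ p = 1)
    (hTz : ∀ y : N, T N p z y = 1) (x : N) :
    ∏ k ∈ Finset.range p, T N p (a * z ^ k) x = x ^ p := by
  have hcomm : ∀ k : ℕ, Commute a (z ^ k) := fun k => (show Commute a z from haz).pow_right k
  have h1 : ∀ k, T N p (a * z ^ k) x =
      ∏ i ∈ Finset.range p, cj N (a ^ i) (cj N (z ^ (k * i)) x) := by
    intro k
    unfold T
    apply Finset.prod_congr rfl
    intro i _
    rw [(hcomm k).mul_pow, ← pow_mul, cj_mul_apply]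
  simp_rw [h1]
  rw [Finset.prod_comm]
  have h2 : ∀ i, ∏ k ∈ Finset.range p, cj N (a ^ i) (cj N (z ^ (k * i)) x) =
      cj N (a ^ i) (∏ k ∈ Finset.range p, cj N (z ^ (k * i)) x) := by
    intro i
    rw [map_prod]
  simp_rw [h2]
  rw [Finset.prod_eq_single_of_mem 0 (Finset.mem_range.mpr hp.pos)]
  · simp only [mul_zero, pow_zero]
    rw [cj_one_apply]
    simp_rw [cj_one_apply]
    rw [Finset.prod_const, Finset.card_range]
  · intro i hi hi0
    rw [Finset.mem_range] at hi
    rw [T_reindex N p hp z hz i (Nat.pos_of_ne_zero hi0) hi, hTz, map_one]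

theorem T_orth (hp : p.Prime) (a z : G) (haz : a * z = z * a) (hz : z ^ p = 1)
    (hTz : ∀ y : N, T N p z y = 1) (k l : ℕ) (hk : k < p) (hl : l < p) (hkl : k ≠ l) (x : N)
    (hx : cj N (a * z ^ l) x = x) : T N p (a * z ^ k) x = 1 := by
  set m := (k + p - l) % p with hm
  have hmp : m < p := Nat.mod_lt _ hp.pos
  have hm0 : 0 < m := by
    rw [Nat.pos_iff_ne_zero]
    intro h0
    have hdvd : p ∣ k + p - l := Nat.dvd_of_mod_eq_zero h0
    have h1 : k + p - l = p := Nat.eq_of_dvd_of_lt_two_mul (by omega) hdvd (by omega)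
    omega
  have hlm : (l + m) % p = k := by
    rw [hm, Nat.add_mod_mod]
    have : l + (k + p - l) = k + p := by omega
    rw [this, Nat.add_mod_right, Nat.mod_eq_of_lt hk]
  have hzk : z ^ k = z ^ l * z ^ m := by
    rw [← pow_add, ← pow_mod_of_pow_eq_one p z hz (l + m), hlm]
  have hcb : Commute (z ^ m) (a * z ^ l) := by
    have h1 : Commute z a := (show Commute a z from haz).symm
    have h2 : Commute z (a * z ^ l) := h1.mul_right (Commute.pow_right (Commute.refl z) l)
    exact h2.pow_left m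
  have hak : a * z ^ k = z ^ m * (a * z ^ l) := by
    rw [hzk, ← mul_assoc]
    exact hcb.eq.symm
  unfold T
  have h1 : ∀ i, cj N ((a * z ^ k) ^ i) x = cj N (z ^ (i * m)) x := by
    intro i
    rw [hak, hcb.mul_pow, cj_mul_apply, cj_pow_fixed N _ x hx i, ← pow_mul, mul_comm m i]
  simp_rw [h1]
  rw [T_reindex N p hp z hz m hm0 hmp, hTz]

/-- Reindexed form of `T_sum`. -/
theorem T_sum' (hp : p.Prime) (a z : G) (haz : a * z = z * a) (hz : z ^ p = 1)
    (hTz : ∀ y : N, T N p z y = 1) (j : ℕ) (hj0 : 0 < j) (hjp : j < p) (x : N) :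
    ∏ m ∈ Finset.range p, T N p (a * z ^ (m * j % p)) x = x ^ p := by
  rw [Cfsg.Agent.Helper15.prod_range_mul_mod hp (fun k => T N p (a * z ^ k) x) hj0 hjp]
  exact T_sum N p hp a z haz hz hTz x

theorem mul_mod_injective (hp : p.Prime) (j : ℕ) (hj0 : 0 < j) (hjp : j < p) (m m' : ℕ)
    (hm : m < p) (hm' : m' < p) (h : m * j % p = m' * j % p) : m = m' := by
  have hcop : Nat.Coprime p j := (Nat.Prime.coprime_iff_not_dvd hp).mpr
    (fun hd => absurd (Nat.le_of_dvd hj0 hd) (by omega))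
  have h1 : m * j ≡ m' * j [MOD p] := h
  have h2 : m ≡ m' [MOD p] := Nat.ModEq.cancel_right_of_coprime hcop h1
  have h3 : m % p = m' % p := h2
  rwa [Nat.mod_eq_of_lt hm, Nat.mod_eq_of_lt hm'] at h3

theorem conj_pow_eq (a z c : G) (hcz : c * z = z * c) (j : ℕ) (hca : c * a * c⁻¹ = a * z ^ j)
    (m : ℕ) : c ^ m * a * (c ^ m)⁻¹ = a * z ^ (m * j) := by
  induction m with
  | zero => simp
  | succ m ih =>
    have h1 : c ^ (m + 1) * a * (c ^ (m + 1))⁻¹ = c * (c ^ m * a * (c ^ m)⁻¹) * c⁻¹ := by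
      rw [pow_succ']; group
    rw [h1, ih]
    have h2 : c * (a * z ^ (m * j)) * c⁻¹ = (c * a * c⁻¹) * (c * z ^ (m * j) * c⁻¹) := by group
    rw [h2, hca]
    have h3 : c * z ^ (m * j) * c⁻¹ = z ^ (m * j) := by
      have : Commute c (z ^ (m * j)) := (show Commute c z from hcz).pow_right _
      rw [this.eq]; group
    rw [h3, mul_assoc, ← pow_add]
    congr 2
    ring

theorem mem_CN_iff_cj (g : G) (x : N) : (x : G) ∈ CN N g ↔ cj N g x = x := by
  rw [mem_CN]
  constructor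
  · rintro ⟨_, h⟩
    apply Subtype.ext
    rw [cj_val, h]
    group
  · intro h
    refine ⟨x.2, ?_⟩
    have := congrArg Subtype.val h
    rw [cj_val] at this
    calc g * (x : G) = (g * x * g⁻¹) * g := by group
      _ = x * g := by rw [this]

theorem card_CN_conj (h g : G) : Nat.card (CN N (h * g * h⁻¹)) = Nat.card (CN N g) := by
  have : (CN N g).map (MulAut.conj h).toMonoidHom = CN N (h * g * h⁻¹) := by
    ext x
    rw [Subgroup.mem_map]
    constructor
    · rintro ⟨y, hy, rfl⟩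
      rw [mem_CN] at hy ⊢
      refine ⟨hN.conj_mem y hy.1 h, ?_⟩
      show h * g * h⁻¹ * (h * y * h⁻¹) = h * y * h⁻¹ * (h * g * h⁻¹)
      calc h * g * h⁻¹ * (h * y * h⁻¹) = h * (g * y) * h⁻¹ := by group
        _ = h * (y * g) * h⁻¹ := by rw [hy.2]
        _ = h * y * h⁻¹ * (h * g * h⁻¹) := by group
    · intro hx
      rw [mem_CN] at hx
      refine ⟨h⁻¹ * x * h, ?_, ?_⟩
      · rw [mem_CN]
        refine ⟨by simpa using hN.conj_mem x hx.1 h⁻¹, ?_⟩
        calc g * (h⁻¹ * x * h) = h⁻¹ * ((h * g * h⁻¹) * x) * h := by group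
          _ = h⁻¹ * (x * (h * g * h⁻¹)) * h := by rw [hx.2]
          _ = h⁻¹ * x * h * g := by group
      · show h * (h⁻¹ * x * h) * h⁻¹ = x
        group
  rw [← this]
  exact Subgroup.card_map_of_injective (MulAut.conj h).injective


/-- Upper bound: the fixed points of `c` embed into those of `a`. -/
theorem card_CN_le [Finite N] (hp : p.Prime) (a z c : G) (haz : a * z = z * a) (hz : z ^ p = 1)
    (ha : a ^ p = 1) (hTz : ∀ y : N, T N p z y = 1) (htor : ∀ x : N, x ^ p = 1 → x = 1)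
    (hcz : c * z = z * c) (j : ℕ) (hj0 : 0 < j) (hjp : j < p) (hca : c * a * c⁻¹ = a * z ^ j) :
    Nat.card (CN N c) ≤ Nat.card (CN N a) := by
  -- kernel triviality
  have hker : ∀ w : N, cj N c w = w → T N p a w = 1 → w = 1 := by
    intro w hw hTw
    apply htor
    rw [← T_sum' N p hp a z haz hz hTz j hj0 hjp w]
    apply Finset.prod_eq_one
    intro m _
    have h1 := cj_T N p (c ^ m) a w
    rw [hTw, map_one, cj_pow_fixed N c w hw m, conj_pow_eq a z c hcz j hca m] at h1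
    rw [← pow_mod_of_pow_eq_one p z hz (m * j)] at h1
    exact h1.symm
  let f : CN N c → CN N a := fun x =>
    ⟨((T N p a ⟨x, (mem_CN.mp x.2).1⟩ : N) : G), by
      rw [mem_CN_iff_cj]
      exact T_fixed N p a ha _⟩
  haveI : Finite (CN N a) := Finite.of_injective
    (fun x : CN N a => (⟨x, (mem_CN.mp x.2).1⟩ : N))
    (fun x y h => Subtype.ext (congrArg (fun t : N => (t : G)) h))
  apply Nat.card_le_card_of_injective f
  intro x y hxy
  have hxN : (x : G) ∈ N := (mem_CN.mp x.2).1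
  have hyN : (y : G) ∈ N := (mem_CN.mp y.2).1
  have h1 : T N p a ⟨x, hxN⟩ = T N p a ⟨y, hyN⟩ := by
    have := congrArg Subtype.val hxy
    exact Subtype.ext this
  have hx : cj N c ⟨x, hxN⟩ = ⟨x, hxN⟩ := (mem_CN_iff_cj N c ⟨x, hxN⟩).mp x.2
  have hy : cj N c ⟨y, hyN⟩ = ⟨y, hyN⟩ := (mem_CN_iff_cj N c ⟨y, hyN⟩).mp y.2
  have h2 : (⟨x, hxN⟩ : N) * (⟨y, hyN⟩ : N)⁻¹ = 1 := by
    apply hker
    · rw [map_mul, map_inv, hx, hy]
    · have h3 : T N p a ((⟨x, hxN⟩ : N) * (⟨y, hyN⟩ : N)⁻¹) * T N p a ⟨y, hyN⟩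
          = T N p a ⟨x, hxN⟩ := by
        rw [← T_mul, inv_mul_cancel_right]
      rw [h1] at h3
      exact mul_eq_right.mp h3
  have h3 : (⟨x, hxN⟩ : N) = ⟨y, hyN⟩ := mul_inv_eq_one.mp h2
  have h4 : (x : G) = (y : G) := congrArg (fun t : N => (t : G)) h3
  exact Subtype.ext h4

/-- Lower bound: `N` contains the direct product of the `p` conjugates of `C_N(a)`. -/
theorem pow_card_CN_le [Finite N] (hp : p.Prime) (a z c : G) (haz : a * z = z * a)
    (hz : z ^ p = 1) (hTz : ∀ y : N, T N p z y = 1) (htor : ∀ x : N, x ^ p = 1 → x = 1)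
    (hcz : c * z = z * c) (j : ℕ) (hj0 : 0 < j) (hjp : j < p) (hca : c * a * c⁻¹ = a * z ^ j) :
    Nat.card (CN N a) ^ p ≤ Nat.card N := by
  classical
  -- the family
  let b : Fin p → G := fun m => a * z ^ ((m : ℕ) * j % p)
  have hb : ∀ m : Fin p, b m = c ^ (m : ℕ) * a * (c ^ (m : ℕ))⁻¹ := by
    intro m
    rw [conj_pow_eq a z c hcz j hca m, ← pow_mod_of_pow_eq_one p z hz ((m : ℕ) * j)]
  have hcard : ∀ m : Fin p, Nat.card (CN N (b m)) = Nat.card (CN N a) := by
    intro m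
    rw [hb m, card_CN_conj]
  have hmemN : ∀ (m : Fin p) (x : CN N (b m)), (x : G) ∈ N := fun m x => (mem_CN.mp x.2).1
  let Φ : (∀ m : Fin p, CN N (b m)) → N := fun x => ∏ m : Fin p, (⟨x m, hmemN m (x m)⟩ : N)
  have hfix : ∀ (m : Fin p) (x : CN N (b m)), cj N (b m) ⟨x, hmemN m x⟩ = ⟨x, hmemN m x⟩ :=
    fun m x => (mem_CN_iff_cj N (b m) ⟨x, hmemN m x⟩).mp x.2
  have hTΦ : ∀ (x : ∀ m : Fin p, CN N (b m)) (l : Fin p),
      T N p (b l) (Φ x) = (⟨x l, hmemN l (x l)⟩ : N) ^ p := by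
    intro x l
    show T N p (b l) (∏ m : Fin p, (⟨x m, hmemN m (x m)⟩ : N)) = _
    rw [T_prod, Finset.prod_eq_single_of_mem l (Finset.mem_univ l)]
    · exact T_of_fixed N p (b l) _ (hfix l (x l))
    · intro m _ hml
      apply T_orth N p hp a z haz hz hTz _ _ (Nat.mod_lt _ hp.pos) (Nat.mod_lt _ hp.pos) _ _
        (hfix m (x m))
      intro heq
      apply hml
      exact (Fin.ext (mul_mod_injective p hp j hj0 hjp _ _ l.2 m.2 heq)).symm
  have hinj : Function.Injective Φ := by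
    intro x y hxy
    funext l
    have h1 : (⟨x l, hmemN l (x l)⟩ : N) ^ p = (⟨y l, hmemN l (y l)⟩ : N) ^ p := by
      rw [← hTΦ x l, ← hTΦ y l, hxy]
    have h2 : ((⟨x l, hmemN l (x l)⟩ : N) * (⟨y l, hmemN l (y l)⟩ : N)⁻¹) ^ p = 1 := by
      rw [mul_pow, inv_pow, h1, mul_inv_cancel]
    have h3 := htor _ h2
    have h4 : (⟨x l, hmemN l (x l)⟩ : N) = ⟨y l, hmemN l (y l)⟩ := mul_inv_eq_one.mp h3
    have h5 : ((x l : CN N (b l)) : G) = (y l : G) := congrArg (fun t : N => (t : G)) h4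
    exact Subtype.ext h5
  have h1 := Nat.card_le_card_of_injective Φ hinj
  rw [Nat.card_pi] at h1
  simp_rw [hcard] at h1
  rw [Finset.prod_const, Finset.card_univ, Fintype.card_fin] at h1
  exact h1

end trace

section fpf

open scoped IsMulCommutative

variable {G : Type u} [Group G] (N : Subgroup G) [hN : N.Normal] [IsMulCommutative N] (p : ℕ)

theorem T_eq_one_of_CN_eq_bot (g : G) (hg : g ^ p = 1) (h : CN N g = ⊥) (x : N) :
    T N p g x = 1 := by
  have h1 := T_fixed N p g hg x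
  have h2 : ((T N p g x : N) : G) ∈ CN N g := (mem_CN_iff_cj N g _).mpr h1
  rw [h, Subgroup.mem_bot] at h2
  exact Subtype.ext h2

theorem trivial_of_all_fpf (hp : p.Prime) (a z : G) (haz : a * z = z * a) (hz : z ^ p = 1)
    (ha : a ^ p = 1) (hTz : ∀ y : N, T N p z y = 1) (htor : ∀ x : N, x ^ p = 1 → x = 1)
    (h : ∀ k : ℕ, CN N (a * z ^ k) = ⊥) (x : N) : x = 1 := by
  apply htor
  rw [← T_sum N p hp a z haz hz hTz x]
  apply Finset.prod_eq_one
  intro k _
  apply T_eq_one_of_CN_eq_bot N p _ _ (h k)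
  have hcomm : Commute a (z ^ k) := (show Commute a z from haz).pow_right k
  rw [hcomm.mul_pow, ha, ← pow_mul, mul_comm, pow_mul, hz, one_pow, one_mul]

end fpf

section count

variable {G : Type u} [Group G] (N : Subgroup G) [hN : N.Normal] [IsMulCommutative N] (p : ℕ)

/-- The counting contradiction. -/
theorem count_main [Finite N] (hp : p.Prime) (hp3 : 3 ≤ p) (a z c d : G) (haz : a * z = z * a)
    (hz : z ^ p = 1) (ha : a ^ p = 1) (hTz : ∀ y : N, T N p z y = 1)
    (htor : ∀ x : N, x ^ p = 1 → x = 1)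
    (hcz : c * z = z * c) (j : ℕ) (hj0 : 0 < j) (hjp : j < p) (hca : c * a * c⁻¹ = a * z ^ j)
    (hdz : d * z = z * d) (j' : ℕ) (hj0' : 0 < j') (hjp' : j' < p)
    (hda : d * a * d⁻¹ = a * z ^ j')
    (hfac : Nat.card N ≤ Nat.card (CN N d) * Nat.card (CN N c)) (hN1 : 1 < Nat.card N) :
    False := by
  set s := Nat.card (CN N a) with hs
  have h1 : Nat.card (CN N c) ≤ s := card_CN_le N p hp a z c haz hz ha hTz htor hcz j hj0 hjp hca
  have h2 : Nat.card (CN N d) ≤ s :=
    card_CN_le N p hp a z d haz hz ha hTz htor hdz j' hj0' hjp' hda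
  have h3 : s ^ p ≤ Nat.card N := pow_card_CN_le N p hp a z c haz hz hTz htor hcz j hj0 hjp hca
  have h4 : Nat.card N ≤ s * s := hfac.trans (Nat.mul_le_mul h2 h1)
  have hs2 : 2 ≤ s := by
    by_contra hlt
    have : s ≤ 1 := by omega
    have : s * s ≤ 1 := by nlinarith
    omega
  have h5 : s ^ 3 ≤ s ^ p := Nat.pow_le_pow_right (by omega) hp3
  have h6 : s * s < s ^ 3 := by
    have : s ^ 3 = s * s * s := by ring
    rw [this]
    nlinarith
  omega

end count


section pgroup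

/-- In a non-abelian `p`-group (`p` odd) there are `a`, `z` with `z` central of order `p`,
`a` of order dividing `p`, not in `⟨z⟩`, and all commutators `[g, a]` in `⟨z⟩`. -/
theorem exists_pair {R : Type u} [Group R] [Finite R] {p : ℕ} [hp : Fact p.Prime] (hodd : p ≠ 2)
    (hR : IsPGroup p R) (hnc : ¬ ∀ x y : R, x * y = y * x) :
    ∃ a z : R, z ∈ center R ∧ z ≠ 1 ∧ z ^ p = 1 ∧ a ^ p = 1 ∧ (∀ k : ℕ, a * z ^ k ≠ 1) ∧
      ∀ g : R, ∃ j < p, g * a * g⁻¹ = a * z ^ j := by
  classical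
  have hpp : p.Prime := hp.out
  have hncyc : ¬ IsCyclic (⊤ : Subgroup R) := by
    intro hcyc
    apply hnc
    intro x y
    obtain ⟨g, hg⟩ := hcyc.exists_generator
    obtain ⟨m, hm⟩ := hg ⟨x, mem_top x⟩
    obtain ⟨n, hn⟩ := hg ⟨y, mem_top y⟩
    have hx : x = ((g ^ m : (⊤ : Subgroup R)) : R) := (congrArg Subtype.val hm).symm
    have hy : y = ((g ^ n : (⊤ : Subgroup R)) : R) := (congrArg Subtype.val hn).symm
    rw [hx, hy, ← Subgroup.coe_mul, ← Subgroup.coe_mul, zpow_mul_comm]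
  obtain ⟨A, -, hAn, ⟨hAcomm, hAexp⟩, hAcard⟩ :=
    Cfsg.Agent.Helper22.exists_normal_elementary_sq hodd hR ⊤ hncyc
  haveI := hAn
  have hAne : A ≠ ⊥ := by
    intro h
    rw [h, Subgroup.card_bot] at hAcard
    have : 1 < p ^ 2 := Nat.one_lt_pow (by norm_num) hpp.one_lt
    omega
  have hZ := Cfsg.Agent.Helper19.normal_inf_center_ne_bot hR A hAne
  obtain ⟨⟨z, hzmem⟩, hz1⟩ := (Subgroup.ne_bot_iff_exists_ne_one).mp hZ
  have hz1' : z ≠ 1 := fun h => hz1 (Subtype.ext h)
  obtain ⟨hzA, hzc⟩ := Subgroup.mem_inf.mp hzmem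
  have hzp : z ^ p = 1 := hAexp z hzA
  have hzord : orderOf z = p := orderOf_eq_prime hzp hz1'
  have hZn : (zpowers z).Normal := by
    refine ⟨fun x hx g => ?_⟩
    have hxc : x ∈ center R := (zpowers_le.mpr hzc) hx
    have : g * x * g⁻¹ = x := by
      rw [Subgroup.mem_center_iff] at hxc
      rw [hxc g]; group
    rw [this]; exact hx
  haveI := hZn
  have hZcard : Nat.card (zpowers z) = p := by rw [Nat.card_zpowers, hzord]
  have hQ : IsPGroup p (R ⧸ zpowers z) := hR.to_quotient _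
  have hAbn : (A.map (QuotientGroup.mk' (zpowers z))).Normal :=
    Subgroup.Normal.map hAn _ (QuotientGroup.mk'_surjective _)
  haveI := hAbn
  have hAbne : A.map (QuotientGroup.mk' (zpowers z)) ≠ ⊥ := by
    intro h
    rw [Subgroup.map_eq_bot_iff, QuotientGroup.ker_mk'] at h
    have h1 := Subgroup.card_le_of_le h
    rw [hAcard, hZcard] at h1
    have : p < p ^ 2 := by
      have := hpp.one_lt
      nlinarith
    omega
  have hZ2 := Cfsg.Agent.Helper19.normal_inf_center_ne_bot hQ _ hAbne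
  obtain ⟨⟨xb, hxbmem⟩, hxb1⟩ := (Subgroup.ne_bot_iff_exists_ne_one).mp hZ2
  have hxb1' : xb ≠ 1 := fun h => hxb1 (Subtype.ext h)
  obtain ⟨hxbA, hxbc⟩ := Subgroup.mem_inf.mp hxbmem
  obtain ⟨a, haA, rfl⟩ := hxbA
  have haZ : a ∉ zpowers z := by
    intro h
    apply hxb1'
    exact (QuotientGroup.eq_one_iff a).mpr h
  refine ⟨a, z, hzc, hz1', hzp, hAexp a haA, ?_, ?_⟩
  · intro k h
    apply haZ
    have : a = (z ^ k)⁻¹ := eq_inv_of_mul_eq_one_left h
    rw [this]
    exact (zpowers z).inv_mem (Subgroup.pow_mem _ (mem_zpowers z) k)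
  · intro g
    have h1 : QuotientGroup.mk' (zpowers z) (a⁻¹ * (g * a * g⁻¹)) = 1 := by
      rw [map_mul, map_mul, map_mul, map_inv, map_inv]
      rw [Subgroup.mem_center_iff] at hxbc
      rw [hxbc (QuotientGroup.mk' (zpowers z) g)]
      group
    have h2 : a⁻¹ * (g * a * g⁻¹) ∈ zpowers z := (QuotientGroup.eq_one_iff _).mp h1
    rw [mem_zpowers_iff_mem_range_orderOf, hzord, Finset.mem_image] at h2
    obtain ⟨j, hj, hj'⟩ := h2
    refine ⟨j, Finset.mem_range.mp hj, ?_⟩
    have hj'' : z ^ j = a⁻¹ * (g * a * g⁻¹) := hj'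
    rw [hj'']
    group

end pgroup

section minimal

variable {p : ℕ} [hp : Fact p.Prime] {G : Type u} [Group G] [Finite G] {P N : Subgroup G}
  {C D : Set G}

/-- The induction hypothesis. -/
def IHyp (p : ℕ) (G : Type u) [Group G] : Prop :=
  ∀ (H : Type u) [Group H] [Finite H], Nat.card H < Nat.card G → Good p H

theorem step1 (hyp : Hyp p G P N C D) (IH : IHyp p G) (N₁ : Subgroup G) (hN₁ : N₁ ≤ N)
    (hne : N₁ ≠ N) (hinv : ∀ u ∈ P, ∀ n ∈ N₁, u * n * u⁻¹ ∈ N₁) :
    ∀ u ∈ P, ∀ n ∈ N₁, u * n = n * u := by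
  intro u hu n hn
  set H := prodSub N₁ P hinv with hH
  have hPH : P ≤ H := le_prodSub_right N₁ P hinv
  have hNH : N₁ ≤ H := le_prodSub_left N₁ P hinv
  have hHtop : H ≠ ⊤ := by
    intro htop
    apply hne
    apply le_antisymm hN₁
    intro x hx
    have : x ∈ H := by rw [htop]; exact mem_top _
    obtain ⟨n₁, hn₁, u₁, hu₁, rfl⟩ := this
    have hu₁N : u₁ ∈ N := by
      have : u₁ = n₁⁻¹ * (n₁ * u₁) := by group
      rw [this]
      exact N.mul_mem (N.inv_mem (hN₁ hn₁)) hx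
    rw [hyp.eq_one_of_mem hu₁N hu₁, mul_one]
    exact hn₁
  have hlt : Nat.card H < Nat.card G := by
    apply lt_of_le_of_ne (Subgroup.card_le_card_group H)
    intro h
    exact hHtop (Subgroup.eq_top_of_card_eq H h)
  have := IH ↥H hlt _ _ _ _ (hyp.subgroup H hPH) ⟨u, hPH hu⟩ hu ⟨n, hNH hn⟩ (hN₁ hn)
  exact congrArg Subtype.val this

theorem step2 (hyp : Hyp p G P N C D) (IH : IHyp p G) (M : Subgroup G) [M.Normal]
    (hM : M ≠ ⊥) : ∀ u ∈ P, ∀ n ∈ N, u * n * u⁻¹ * n⁻¹ ∈ M := by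
  intro u hu n hn
  have hlt : Nat.card (G ⧸ M) < Nat.card G := by
    have h1 := Subgroup.card_eq_card_quotient_mul_card_subgroup M
    have h2 : 1 < Nat.card M := by
      rw [Subgroup.one_lt_card_iff_ne_bot]
      exact hM
    have h3 : 0 < Nat.card (G ⧸ M) := Nat.card_pos
    rw [h1]
    nlinarith
  have := IH (G ⧸ M) hlt _ _ _ _ (hyp.quotient M) (QuotientGroup.mk' M u)
    (mem_map_of_mem _ hu) (QuotientGroup.mk' M n) (mem_map_of_mem _ hn)
  have h2 : QuotientGroup.mk' M (u * n * u⁻¹ * n⁻¹) = 1 := by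
    rw [map_mul, map_mul, map_mul, this, map_inv, map_inv]
    group
  exact (QuotientGroup.eq_one_iff _).mp h2

theorem minimal_normal (hyp : Hyp p G P N C D) (IH : IHyp p G)
    (hbad : ¬ ∀ u ∈ P, ∀ n ∈ N, u * n = n * u) (M : Subgroup G) [hMn : M.Normal] (hMN : M ≤ N) :
    M = ⊥ ∨ M = N := by
  by_contra hcon
  push Not at hcon
  obtain ⟨h1, h2⟩ := hcon
  apply hbad
  apply hyp.commute_of_comm_mem M hMN
  · exact step1 hyp IH M hMN h2 (fun u _ n hn => hMn.conj_mem n hn u)
  · exact step2 hyp IH M h1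

theorem conj_mem_centralizer (hyp : Hyp p G P N C D) {k : G}
    (hk : ∀ n ∈ N, k * n = n * k) (g : G) : ∀ n ∈ N, (g * k * g⁻¹) * n = n * (g * k * g⁻¹) := by
  intro n hn
  have h1 : g⁻¹ * n * g ∈ N := by
    have := hyp.normal.conj_mem n hn g⁻¹
    simpa using this
  have h2 := hk _ h1
  calc g * k * g⁻¹ * n = g * (k * (g⁻¹ * n * g)) * g⁻¹ := by group
    _ = g * ((g⁻¹ * n * g) * k) * g⁻¹ := by rw [h2]
    _ = n * (g * k * g⁻¹) := by group

theorem faithful (hyp : Hyp p G P N C D) (IH : IHyp p G)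
    (hbad : ¬ ∀ u ∈ P, ∀ n ∈ N, u * n = n * u) :
    ∀ u ∈ P, (∀ n ∈ N, u * n = n * u) → u = 1 := by
  let K : Subgroup G :=
    { carrier := {k | k ∈ P ∧ ∀ n ∈ N, k * n = n * k}
      mul_mem' := by
        rintro a b ⟨ha, ha'⟩ ⟨hb, hb'⟩
        refine ⟨P.mul_mem ha hb, fun n hn => ?_⟩
        rw [mul_assoc, hb' n hn, ← mul_assoc, ha' n hn, mul_assoc]
      one_mem' := ⟨P.one_mem, fun n _ => by simp⟩
      inv_mem' := by
        rintro a ⟨ha, ha'⟩
        refine ⟨P.inv_mem ha, fun n hn => ?_⟩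
        have := ha' n hn
        calc a⁻¹ * n = a⁻¹ * (n * a) * a⁻¹ := by group
          _ = a⁻¹ * (a * n) * a⁻¹ := by rw [this]
          _ = n * a⁻¹ := by group }
  have hKn : K.Normal := by
    refine ⟨fun k hk g => ?_⟩
    obtain ⟨hkP, hkN⟩ := hk
    obtain ⟨n, hn, u, hu, rfl⟩ := hyp.exists_mul g
    have h1 : ∀ m ∈ N, (u * k * u⁻¹) * m = m * (u * k * u⁻¹) := conj_mem_centralizer hyp hkN u
    have h2 : n * u * k * (n * u)⁻¹ = u * k * u⁻¹ := by
      have := h1 n hn
      calc n * u * k * (n * u)⁻¹ = n * (u * k * u⁻¹) * n⁻¹ := by group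
        _ = (u * k * u⁻¹) * n * n⁻¹ := by rw [this]
        _ = u * k * u⁻¹ := by group
    rw [h2]
    exact ⟨P.mul_mem (P.mul_mem hu hkP) (P.inv_mem hu), h1⟩
  haveI := hKn
  have hK : K = ⊥ := by
    by_contra hK
    apply hbad
    intro u hu n hn
    have h1 := step2 hyp IH K hK u hu n hn
    have h2 : u * n * u⁻¹ * n⁻¹ ∈ N := N.mul_mem (hyp.normal.conj_mem n hn u) (N.inv_mem hn)
    have h3 := hyp.eq_one_of_mem h2 h1.1
    have h4 : u * n * u⁻¹ = n := mul_inv_eq_one.mp h3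
    calc u * n = (u * n * u⁻¹) * u := by group
      _ = n * u := by rw [h4]
  intro u hu hun
  have : u ∈ K := ⟨hu, hun⟩
  rw [hK] at this
  exact Subgroup.mem_bot.mp this


theorem N_ne_bot (hbad : ¬ ∀ u ∈ P, ∀ n ∈ N, u * n = n * u) : N ≠ ⊥ := by
  intro h
  apply hbad
  intro u _ n hn
  rw [h, Subgroup.mem_bot] at hn
  rw [hn, mul_one, one_mul]

theorem P_ne_bot (hbad : ¬ ∀ u ∈ P, ∀ n ∈ N, u * n = n * u) : P ≠ ⊥ := by
  intro h
  apply hbad
  intro u hu n _
  rw [h, Subgroup.mem_bot] at hu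
  rw [hu, mul_one, one_mul]

/-- `N` is a group of prime power order. -/
theorem exists_prime_isPGroup (hyp : Hyp p G P N C D) (IH : IHyp p G)
    (hbad : ¬ ∀ u ∈ P, ∀ n ∈ N, u * n = n * u) :
    ∃ r : ℕ, r.Prime ∧ IsPGroup r N := by
  haveI := hyp.normal
  by_contra hcon
  push Not at hcon
  apply hbad
  -- the fixed points of `P` in `N`
  let CP : Subgroup G := N ⊓ centralizer (P : Set G)
  have hCPmem : ∀ x, x ∈ CP ↔ x ∈ N ∧ ∀ u ∈ P, u * x = x * u := by
    intro x
    show x ∈ N ⊓ centralizer (P : Set G) ↔ _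
    rw [mem_inf, mem_centralizer_iff]
    constructor
    · rintro ⟨h1, h2⟩
      exact ⟨h1, fun u hu => h2 u hu⟩
    · rintro ⟨h1, h2⟩
      exact ⟨h1, fun u hu => h2 u hu⟩
  have hPN : P ≤ normalizer (N : Set G) := by
    rw [normalizer_eq_top]
    exact le_top
  have hdvd : Nat.card N ∣ Nat.card CP := by
    have hN0 : Nat.card N ≠ 0 := Nat.card_pos.ne'
    have hC0 : Nat.card CP ≠ 0 := Nat.card_pos.ne'
    rw [← Nat.factorization_le_iff_dvd hN0 hC0]
    intro r
    by_cases hr : r.Prime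
    · haveI : Fact r.Prime := ⟨hr⟩
      obtain ⟨R, hRN, hRr, hRcard, hPR⟩ :=
        Cfsg.Agent.Helper15.exists_invariant_sylow_of_coprime r hyp.pgroup hyp.coprime hPN
      have hRne : R ≠ N := by
        rintro rfl
        exact hcon r hr hRr
      have hinv : ∀ u ∈ P, ∀ n ∈ R, u * n * u⁻¹ ∈ R := by
        intro u hu n hn
        have := hPR hu
        rw [mem_normalizer_iff] at this
        exact (this n).mp hn
      have hcent := step1 hyp IH R hRN hRne hinv
      have hRCP : R ≤ CP := by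
        intro x hx
        rw [hCPmem]
        exact ⟨hRN hx, fun u hu => hcent u hu x hx⟩
      have h1 : Nat.card R ∣ Nat.card CP := Subgroup.card_dvd_of_le hRCP
      rw [hRcard] at h1
      exact (hr.pow_dvd_iff_le_factorization hC0).mp h1
    · rw [Nat.factorization_eq_zero_of_not_prime _ hr]
      exact Nat.zero_le _
  have hCPN : CP = N := by
    apply le_antisymm inf_le_left
    have h1 : Nat.card N ≤ Nat.card CP := Nat.le_of_dvd Nat.card_pos hdvd
    intro x hx
    have h2 : CP.subgroupOf N = ⊤ := by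
      apply Subgroup.eq_top_of_le_card
      have h3 : Nat.card (CP.subgroupOf N) = Nat.card CP :=
        Nat.card_congr (Subgroup.subgroupOfEquivOfLe (inf_le_left : CP ≤ N)).toEquiv
      rw [h3]
      exact h1
    have : (⟨x, hx⟩ : N) ∈ CP.subgroupOf N := by rw [h2]; exact mem_top _
    exact this
  intro u hu n hn
  have : n ∈ CP := by rw [hCPN]; exact hn
  exact ((hCPmem n).mp this).2 u hu

theorem N_abelian (hyp : Hyp p G P N C D) (IH : IHyp p G)
    (hbad : ¬ ∀ u ∈ P, ∀ n ∈ N, u * n = n * u) : ∀ x ∈ N, ∀ y ∈ N, x * y = y * x := by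
  haveI := hyp.normal
  obtain ⟨r, hr, hNr⟩ := exists_prime_isPGroup hyp IH hbad
  haveI : Fact r.Prime := ⟨hr⟩
  haveI : Nontrivial N := (Subgroup.nontrivial_iff_ne_bot N).mpr (N_ne_bot hbad)
  have hZ : (center N).map N.subtype ≠ ⊥ := by
    have h1 : Nontrivial (center N) := hNr.center_nontrivial
    intro h
    rw [Subgroup.map_eq_bot_iff_of_injective _ N.subtype_injective] at h
    rw [Subgroup.nontrivial_iff_ne_bot] at h1
    exact h1 h
  have hle : (center N).map N.subtype ≤ N := by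
    rintro _ ⟨x, _, rfl⟩
    exact x.2
  rcases minimal_normal hyp IH hbad ((center N).map N.subtype) hle with h | h
  · exact absurd h hZ
  · intro x hx y hy
    have hx' : x ∈ (center N).map N.subtype := by rw [h]; exact hx
    obtain ⟨x', hx'c, rfl⟩ := hx'
    have := Subgroup.mem_center_iff.mp hx'c ⟨y, hy⟩
    have h2 := congrArg Subtype.val this
    exact h2.symm

theorem irreducible (hyp : Hyp p G P N C D) (IH : IHyp p G)
    (hbad : ¬ ∀ u ∈ P, ∀ n ∈ N, u * n = n * u) (M : Subgroup G) (hMN : M ≤ N)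
    (hinv : ∀ u ∈ P, ∀ n ∈ M, u * n * u⁻¹ ∈ M) : M = ⊥ ∨ M = N := by
  have hab := N_abelian hyp IH hbad
  have hMn : M.Normal := by
    refine ⟨fun m hm g => ?_⟩
    obtain ⟨n, hn, u, hu, rfl⟩ := hyp.exists_mul g
    have h1 : u * m * u⁻¹ ∈ M := hinv u hu m hm
    have h2 : n * u * m * (n * u)⁻¹ = u * m * u⁻¹ := by
      have := hab n hn _ (hMN h1)
      calc n * u * m * (n * u)⁻¹ = n * (u * m * u⁻¹) * n⁻¹ := by group
        _ = (u * m * u⁻¹) * n * n⁻¹ := by rw [this]
        _ = u * m * u⁻¹ := by group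
    rw [h2]
    exact h1
  exact minimal_normal hyp IH hbad M hMN

theorem central_fpf (hyp : Hyp p G P N C D) (IH : IHyp p G)
    (hbad : ¬ ∀ u ∈ P, ∀ n ∈ N, u * n = n * u) (g : G) (hg : g ∈ P)
    (hgc : ∀ u ∈ P, u * g = g * u) (hg1 : g ≠ 1) : CN N g = ⊥ := by
  have hinv : ∀ u ∈ P, ∀ n ∈ CN N g, u * n * u⁻¹ ∈ CN N g := by
    intro u hu n hn
    rw [mem_CN] at hn ⊢
    refine ⟨hyp.normal.conj_mem n hn.1 u, ?_⟩
    have h1 := hgc u hu
    have h2 := hn.2
    calc g * (u * n * u⁻¹) = (g * u) * n * u⁻¹ := by group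
      _ = (u * g) * n * u⁻¹ := by rw [h1]
      _ = u * (g * n) * u⁻¹ := by group
      _ = u * (n * g) * u⁻¹ := by rw [h2]
      _ = u * n * (u⁻¹ * (u * g) * u⁻¹) := by group
      _ = u * n * (u⁻¹ * (g * u) * u⁻¹) := by rw [h1]
      _ = u * n * u⁻¹ * g := by group
  rcases irreducible hyp IH hbad (CN N g) inf_le_left hinv with h | h
  · exact h
  · exfalso
    apply hg1
    apply faithful hyp IH hbad g hg
    intro n hn
    have : n ∈ CN N g := by rw [h]; exact hn
    exact (mem_CN.mp this).2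


theorem exists_ne_one_of_closure {S : Set G} {H : Subgroup G} (hS : closure S = H) (hH : H ≠ ⊥) :
    ∃ s ∈ S, s ≠ 1 := by
  by_contra hcon
  push Not at hcon
  apply hH
  rw [← hS, closure_eq_bot_iff]
  intro s hs
  exact hcon s hs

theorem exists_not_commute_of_closure {S : Set G} {H : Subgroup G} (hS : closure S = H) (a : G)
    (ha : ¬ ∀ u ∈ H, u * a = a * u) : ∃ s ∈ S, s * a ≠ a * s := by
  by_contra hcon
  push Not at hcon
  apply ha
  intro u hu
  have hle : closure S ≤ centralizer ({a} : Set G) := by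
    rw [closure_le]
    intro s hs
    rw [SetLike.mem_coe, mem_centralizer_iff]
    intro y hy
    rw [Set.mem_singleton_iff] at hy
    rw [hy]
    exact (hcon s hs).symm
  rw [hS] at hle
  have := hle hu
  rw [mem_centralizer_iff] at this
  exact (this a rfl).symm

theorem final (hp3 : 3 ≤ p) (hyp : Hyp p G P N C D) (IH : IHyp p G)
    (hbad : ¬ ∀ u ∈ P, ∀ n ∈ N, u * n = n * u) : False := by
  have hpp : p.Prime := hp.out
  haveI := hyp.normal
  have hab := N_abelian hyp IH hbad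
  haveI : IsMulCommutative N := ⟨⟨fun a b => Subtype.ext (hab a a.2 b b.2)⟩⟩
  have htor : ∀ x : N, x ^ p = 1 → x = 1 := by
    intro x hx
    have h1 : (x : G) ^ p ^ 1 = 1 := by
      rw [pow_one]
      have := congrArg Subtype.val hx
      simpa using this
    exact Subtype.ext (hyp.eq_one_of_pow x.2 1 h1)
  have hN1 : 1 < Nat.card N := by
    rw [Subgroup.one_lt_card_iff_ne_bot]
    exact N_ne_bot hbad
  have hCP : ∀ c ∈ C, c ∈ P := fun c hc => by rw [← hyp.hC]; exact subset_closure hc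
  have hDP : ∀ d ∈ D, d ∈ P := fun d hd => by rw [← hyp.hD]; exact subset_closure hd
  by_cases hPab : ∀ u ∈ P, ∀ v ∈ P, u * v = v * u
  · -- abelian case
    obtain ⟨c, hc, hc1⟩ := exists_ne_one_of_closure hyp.hC (P_ne_bot hbad)
    obtain ⟨d, hd, hd1⟩ := exists_ne_one_of_closure hyp.hD (P_ne_bot hbad)
    have h1 := central_fpf hyp IH hbad c (hCP c hc) (fun u hu => hPab u hu c (hCP c hc)) hc1
    have h2 := central_fpf hyp IH hbad d (hDP d hd) (fun u hu => hPab u hu d (hDP d hd)) hd1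
    have h3 := hyp.card_le hc hd
    rw [h1, h2, Subgroup.card_bot] at h3
    omega
  · -- non-abelian case
    have hnc : ¬ ∀ x y : P, x * y = y * x := by
      intro h
      apply hPab
      intro u hu v hv
      exact congrArg Subtype.val (h ⟨u, hu⟩ ⟨v, hv⟩)
    have hodd : p ≠ 2 := by omega
    obtain ⟨a', z', hz'c, hz'1, hz'p, ha'p, ha'z', hcomm'⟩ :=
      exists_pair hodd hyp.pgroup hnc
    set a : G := (a' : G) with ha
    set z : G := (z' : G) with hz
    have haP : a ∈ P := a'.2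
    have hzP : z ∈ P := z'.2
    have hzc : ∀ u ∈ P, u * z = z * u := by
      intro u hu
      have := (Subgroup.mem_center_iff.mp hz'c) ⟨u, hu⟩
      exact congrArg Subtype.val this
    have hz1 : z ≠ 1 := fun h => hz'1 (Subtype.ext h)
    have hzp : z ^ p = 1 := by
      have := congrArg Subtype.val hz'p
      simpa using this
    have hap : a ^ p = 1 := by
      have := congrArg Subtype.val ha'p
      simpa using this
    have haz : a * z = z * a := hzc a haP
    have haz1 : ∀ k : ℕ, a * z ^ k ≠ 1 := by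
      intro k h
      apply ha'z' k
      apply Subtype.ext
      simpa using h
    have hconj : ∀ g ∈ P, ∃ j < p, g * a * g⁻¹ = a * z ^ j := by
      intro g hg
      obtain ⟨j, hj, hj'⟩ := hcomm' ⟨g, hg⟩
      refine ⟨j, hj, ?_⟩
      have := congrArg Subtype.val hj'
      simpa using this
    have hCNz : CN N z = ⊥ := central_fpf hyp IH hbad z hzP hzc hz1
    have hTz : ∀ y : N, T N p z y = 1 := T_eq_one_of_CN_eq_bot N p z hzp hCNz
    -- `a` is not central
    have hanc : ¬ ∀ u ∈ P, u * a = a * u := by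
      intro hac
      have hall : ∀ k : ℕ, CN N (a * z ^ k) = ⊥ := by
        intro k
        apply central_fpf hyp IH hbad _ (P.mul_mem haP (P.pow_mem hzP k)) _ (haz1 k)
        intro u hu
        have h1 : Commute u a := hac u hu
        have h2 : Commute u (z ^ k) := (show Commute u z from hzc u hu).pow_right k
        exact (h1.mul_right h2).eq
      have := trivial_of_all_fpf N p hpp a z haz hzp hap hTz htor hall
      have hN' : Nat.card N ≤ 1 := by
        rw [Finite.card_le_one_iff_subsingleton]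
        exact ⟨fun x y => by rw [this x, this y]⟩
      omega
    obtain ⟨c, hc, hca⟩ := exists_not_commute_of_closure hyp.hC a hanc
    obtain ⟨d, hd, hda⟩ := exists_not_commute_of_closure hyp.hD a hanc
    obtain ⟨j, hjp, hj⟩ := hconj c (hCP c hc)
    obtain ⟨j', hjp', hj'⟩ := hconj d (hDP d hd)
    have hj0 : 0 < j := by
      rw [Nat.pos_iff_ne_zero]
      rintro rfl
      apply hca
      rw [pow_zero, mul_one] at hj
      calc c * a = (c * a * c⁻¹) * c := by group
        _ = a * c := by rw [hj]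
    have hj0' : 0 < j' := by
      rw [Nat.pos_iff_ne_zero]
      rintro rfl
      apply hda
      rw [pow_zero, mul_one] at hj'
      calc d * a = (d * a * d⁻¹) * d := by group
        _ = a * d := by rw [hj']
    exact count_main N p hpp hp3 a z c d haz hzp hap hTz htor (hzc c (hCP c hc)) j hj0 hjp hj
      (hzc d (hDP d hd)) j' hj0' hjp' hj' (hyp.card_le hc hd) hN1

end minimal


theorem good_aux (p : ℕ) [Fact p.Prime] (hp3 : 3 ≤ p) (n : ℕ) :
    ∀ (G : Type u) [Group G] [Finite G], Nat.card G = n → Good p G := by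
  induction n using Nat.strong_induction_on with
  | _ n ih =>
    intro G _ _ hn P N C D hyp
    by_contra hbad
    have IH : IHyp p G := by
      intro H _ _ hlt
      exact ih (Nat.card H) (hn ▸ hlt) H rfl
    exact final hp3 hyp IH hbad

/-- Let p ≥ 3 be prime and G a finite group with a Sylow p-subgroup P and a normal p-complement N (N normal, of order prime to p, with NP = G). Suppose P is generated by a subset C and also by a subset D, and that ⟨x c x⁻¹, d⟩ is a p-group for all x ∈ N, c ∈ C, d ∈ D. Then P centralizes N, so that G = N × P. -/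
theorem result {G : Type*} [Group G] [Finite G] (p : ℕ) [Fact p.Prime] (hp3 : 3 ≤ p) (P : Sylow p G)
    (N : Subgroup G) [N.Normal] (hN : (Nat.card N).Coprime p) (hNP : N ⊔ (P : Subgroup G) = ⊤)
    (C D : Set G) (hC : Subgroup.closure C = (P : Subgroup G)) (hD : Subgroup.closure D = (P : Subgroup G))
    (h : ∀ x ∈ N, ∀ c ∈ C, ∀ d ∈ D, IsPGroup p ↥(Subgroup.closure ({x * c * x⁻¹, d} : Set G))) :
    ⁅(P : Subgroup G), N⁆ = ⊥ := by
  have hyp : Hyp p G (P : Subgroup G) N C D :=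
    ⟨P.isPGroup', inferInstance, hN, hNP, hC, hD, h⟩
  have hgood := good_aux p hp3 _ G rfl (P : Subgroup G) N C D hyp
  rw [eq_bot_iff, Subgroup.commutator_le]
  intro u hu n hn
  rw [Subgroup.mem_bot, commutatorElement_def, hgood u hu n hn]
  group

end Cfsg.Agent.S2277
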