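import Mathlib
import Cfsg.Statements.S2282
import Cfsg.Agent.S2283
import Cfsg.Agent.Lib.Helper12.SUgenM

set_option autoImplicit false
open Cfsg

namespace Cfsg.Agent.S2282

/-- Let F be a field with q² elements, n ≥ 3 odd with (n, q) ≠ (3, 2), and SU_n(q) the special unitary group of the standard Hermitian form Σ u_i v_i^q. Then SU_n(q) is generated by three conjugate regular unipotent elements: there are u ∈ SU_n(q) with u − 1 nilpotent and (u − 1)^(n−1) ≠ 0, and g, h ∈ SU_n(q), such that u, g u g⁻¹ and h u h⁻¹ generate SU_n(q). -/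
theorem result {F : Type*} [Field F] [Fintype F] (q : ℕ) (hF : Fintype.card F = q ^ 2) (n : ℕ) (hn : 3 ≤ n) (hodd : Odd n) (h32 : ¬ (n = 3 ∧ q = 2)) :
    ∃ u g h : ↥(Cfsg.SU n F q), (IsNilpotent (((u : Matrix.SpecialLinearGroup (Fin n) F) : Matrix (Fin n) (Fin n) F) - 1) ∧ (((u : Matrix.SpecialLinearGroup (Fin n) F) : Matrix (Fin n) (Fin n) F) - 1) ^ (n - 1) ≠ 0) ∧
      Subgroup.closure ({u, g * u * g⁻¹, h * u * h⁻¹} : Set ↥(Cfsg.SU n F q)) = ⊤ := by
  classical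
  obtain ⟨m, hm⟩ := hodd
  have hq2 := Cfsg.Agent.Helper11.Herm.two_le_q hF
  by_cases h3 : n = 3
  · subst h3
    have hq3 : 3 ≤ q := by
      have : q ≠ 2 := fun h => h32 ⟨rfl, h⟩
      omega
    obtain ⟨u, g, hreg, hcl⟩ := Cfsg.Agent.S2283.result q hq3 hF
    refine ⟨u, g, 1, hreg, ?_⟩
    have e : ({u, g * u * g⁻¹, 1 * u * 1⁻¹} : Set ↥(Cfsg.SU 3 F q)) = {u, g * u * g⁻¹} := by
      ext x
      simp only [one_mul, inv_one, mul_one, Set.mem_insert_iff, Set.mem_singleton_iff]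
      tauto
    rw [e]
    exact hcl
  · have hm2 : 2 ≤ m := by omega
    subst hm
    obtain ⟨φ, hφ⟩ := Cfsg.Agent.Helper11.Herm.exists_frob hF
    have hSU : Cfsg.SU (2 * m + 1) F q =
        Cfsg.Agent.Helper11.Herm.SUg (Fin (2 * m + 1)) φ := by
      ext g
      exact Cfsg.Agent.Helper11.Herm.mem_SU_iff_isU φ hφ (2 * m + 1) g
    obtain ⟨U, G, Hh, hreg, hcl⟩ := Cfsg.Agent.Helper12.SUgen.su_gen hF φ hφ m hm2
    have key : ∀ K : Subgroup (Matrix.SpecialLinearGroup (Fin (2 * m + 1)) F),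
        K = Cfsg.Agent.Helper11.Herm.SUg (Fin (2 * m + 1)) φ →
        ∃ u g h : ↥K, (IsNilpotent (((u : Matrix.SpecialLinearGroup (Fin (2 * m + 1)) F) :
          Matrix (Fin (2 * m + 1)) (Fin (2 * m + 1)) F) - 1) ∧
          (((u : Matrix.SpecialLinearGroup (Fin (2 * m + 1)) F) :
          Matrix (Fin (2 * m + 1)) (Fin (2 * m + 1)) F) - 1) ^ (2 * m + 1 - 1) ≠ 0) ∧
          Subgroup.closure ({u, g * u * g⁻¹, h * u * h⁻¹} : Set ↥K) = ⊤ := by
      rintro K rfl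
      refine ⟨U, G, Hh, ?_, hcl⟩
      have e : 2 * m + 1 - 1 = 2 * m := by omega
      rw [e]
      exact hreg
    exact key _ hSU

end Cfsg.Agent.S2282
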