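import Mathlib
import Cfsg.Statements.S2300
import Cfsg.Agent.Lib.Helper12.SL2Count

set_option autoImplicit false
open Cfsg

namespace Cfsg.Agent.S2300

open Cfsg.Agent.Helper12 Cfsg.Agent.Helper24 Cfsg.Agent.Helper5

/-- the cases in even characteristic -/
theorem degree_cases_even {F : Type*} [Field F] [Fintype F] [DecidableEq F]
    (heven : Even (Fintype.card F)) {χ : Matrix.SpecialLinearGroup (Fin 2) F → ℂ}
    (hχ : IsIrrCharacter (Matrix.SpecialLinearGroup (Fin 2) F) χ) (d : ℕ) (hd : χ 1 = (d : ℂ)) :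
    (d = 1 ∧ χ = fun _ => (1 : ℂ)) ∨ (d = Fintype.card F ∧ χ = stSL) ∨
    (d = Fintype.card F + 1 ∧ ∃ μ : MulChar F ℂ, μ ^ 2 ≠ 1 ∧ χ = psSL μ) ∨
    (d + 1 = Fintype.card F) := by
  rcases SL2_degree_cases hχ d hd with h | h | h | ⟨-, μ, hμ1, hμ2, -⟩ | ⟨h, -⟩ |
    ⟨-, π, hπ, -, -, ⟨γ, hγ, hfix⟩, -⟩
  · left; exact h
  · right; left; exact h
  · right; right; left; exact h
  · exact absurd (quadratic_mulChar_trivial heven μ hμ2) hμ1
  · right; right; right; exact h
  · exact absurd (quadratic_mulChar_trivial heven γ (sq_eq_one_of_twist_eq hπ γ hfix)) hγ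

/-- Over a finite field F with q elements, q even, every irreducible complex character of SL₂ has degree 1, q − 1, q or q + 1; and when q ≥ 4 (so that these four numbers are distinct) there are exactly one irreducible character of degree 1, one of degree q, (q − 2)/2 of degree q + 1 and q/2 of degree q − 1. -/
theorem result {F : Type*} [Field F] [Fintype F] [CharP F 2] :
    (∀ χ : Matrix.SpecialLinearGroup (Fin 2) F → ℂ, Cfsg.IsIrrCharacter (Matrix.SpecialLinearGroup (Fin 2) F) χ →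
      χ 1 = 1 ∨ χ 1 = (Fintype.card F : ℂ) - 1 ∨ χ 1 = (Fintype.card F : ℂ) ∨ χ 1 = (Fintype.card F : ℂ) + 1) ∧
    (4 ≤ Fintype.card F →
      Nat.card {χ : Cfsg.IrrCharacter (Matrix.SpecialLinearGroup (Fin 2) F) // (χ : Matrix.SpecialLinearGroup (Fin 2) F → ℂ) 1 = 1} = 1 ∧
      Nat.card {χ : Cfsg.IrrCharacter (Matrix.SpecialLinearGroup (Fin 2) F) // (χ : Matrix.SpecialLinearGroup (Fin 2) F → ℂ) 1 = (Fintype.card F : ℂ)} = 1 ∧
      Nat.card {χ : Cfsg.IrrCharacter (Matrix.SpecialLinearGroup (Fin 2) F) // (χ : Matrix.SpecialLinearGroup (Fin 2) F → ℂ) 1 = (Fintype.card F : ℂ) + 1} = (Fintype.card F - 2) / 2 ∧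
      Nat.card {χ : Cfsg.IrrCharacter (Matrix.SpecialLinearGroup (Fin 2) F) // (χ : Matrix.SpecialLinearGroup (Fin 2) F → ℂ) 1 = (Fintype.card F : ℂ) - 1} = Fintype.card F / 2) := by
  classical
  letI : Fintype (MulChar F ℂ) := Fintype.ofFinite _
  have heven : Even (Fintype.card F) := by
    rw [Nat.even_iff]
    exact FiniteField.even_card_of_char_two (ringChar.eq F 2)
  have hq1 : 1 ≤ Fintype.card F := Fintype.card_pos
  have hdeg : ∀ χ : Matrix.SpecialLinearGroup (Fin 2) F → ℂ,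
      Cfsg.IsIrrCharacter (Matrix.SpecialLinearGroup (Fin 2) F) χ →
      χ 1 = 1 ∨ χ 1 = (Fintype.card F : ℂ) - 1 ∨ χ 1 = (Fintype.card F : ℂ) ∨
        χ 1 = (Fintype.card F : ℂ) + 1 := by
    intro χ hχ
    have hd := irr_one_eq_charDegree hχ
    rcases degree_cases_even heven hχ _ hd with ⟨h, -⟩ | ⟨h, -⟩ | ⟨h, -⟩ | h
    · left; rw [hd, h]; simp
    · right; right; left; rw [hd, h]
    · right; right; right; rw [hd, h]; simp
    · right; left
      rw [hd, ← h]
      simp
  refine ⟨hdeg, ?_⟩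
  intro hq
  -- the four counts
  have hn1 : Nat.card {χ : Cfsg.IrrCharacter (Matrix.SpecialLinearGroup (Fin 2) F) //
      (χ : Matrix.SpecialLinearGroup (Fin 2) F → ℂ) 1 = 1} = 1 := by
    apply card_irr_unique 1 (fun _ => (1 : ℂ)) isIrrCharacter_one rfl
    intro χ hχ h1
    rcases degree_cases_even heven hχ 1 (by rw [h1]; simp) with ⟨-, h⟩ | ⟨h, -⟩ | ⟨h, -⟩ | h
    · exact h
    · omega
    · omega
    · omega
  have hnq : Nat.card {χ : Cfsg.IrrCharacter (Matrix.SpecialLinearGroup (Fin 2) F) //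
      (χ : Matrix.SpecialLinearGroup (Fin 2) F → ℂ) 1 = (Fintype.card F : ℂ)} = 1 := by
    apply card_irr_unique _ stSL isIrrCharacter_stSL stSL_one_apply
    intro χ hχ h1
    rcases degree_cases_even heven hχ (Fintype.card F) h1 with ⟨h, -⟩ | ⟨-, h⟩ | ⟨h, -⟩ | h
    · omega
    · exact h
    · omega
    · omega
  have hnps : 2 * Nat.card {χ : Cfsg.IrrCharacter (Matrix.SpecialLinearGroup (Fin 2) F) //
      (χ : Matrix.SpecialLinearGroup (Fin 2) F → ℂ) 1 = (Fintype.card F : ℂ) + 1} =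
      Fintype.card F - 2 := by
    rw [← card_sq_ne_one_even heven]
    apply card_irr_ps
    intro χ hχ h1
    rcases degree_cases_even heven hχ (Fintype.card F + 1) (by rw [h1]; simp) with
      ⟨h, -⟩ | ⟨h, -⟩ | ⟨-, h⟩ | h
    · omega
    · omega
    · exact h
    · omega
  -- the order equation
  have hD : ∀ χ : Matrix.SpecialLinearGroup (Fin 2) F → ℂ,
      IsIrrCharacter (Matrix.SpecialLinearGroup (Fin 2) F) χ →
      charDegree χ ∈ ({1, Fintype.card F, Fintype.card F + 1, Fintype.card F - 1} : Finset ℕ) := by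
    intro χ hχ
    have hd := irr_one_eq_charDegree hχ
    simp only [Finset.mem_insert, Finset.mem_singleton]
    rcases degree_cases_even heven hχ _ hd with ⟨h, -⟩ | ⟨h, -⟩ | ⟨h, -⟩ | h
    · left; exact h
    · right; left; exact h
    · right; right; left; exact h
    · right; right; right; omega
  obtain ⟨-, hord⟩ := card_irr_fiberwise _ hD
  rw [card_SL2] at hord
  have e1 : (1 : ℕ) ∉ ({Fintype.card F, Fintype.card F + 1, Fintype.card F - 1} : Finset ℕ) := by
    simp only [Finset.mem_insert, Finset.mem_singleton]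
    omega
  have e2 : Fintype.card F ∉ ({Fintype.card F + 1, Fintype.card F - 1} : Finset ℕ) := by
    simp only [Finset.mem_insert, Finset.mem_singleton]
    omega
  have e3 : Fintype.card F + 1 ∉ ({Fintype.card F - 1} : Finset ℕ) := by
    simp only [Finset.mem_singleton]
    omega
  rw [Finset.sum_insert e1, Finset.sum_insert e2, Finset.sum_insert e3, Finset.sum_singleton] at hord
  have c1 : ((1 : ℕ) : ℂ) = 1 := Nat.cast_one
  have c3 : ((Fintype.card F + 1 : ℕ) : ℂ) = (Fintype.card F : ℂ) + 1 := by push_cast; ring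
  have c4 : ((Fintype.card F - 1 : ℕ) : ℂ) = (Fintype.card F : ℂ) - 1 := by
    rw [Nat.cast_sub hq1, Nat.cast_one]
  rw [c1, c3, c4, hn1, hnq] at hord
  set a := Nat.card {χ : Cfsg.IrrCharacter (Matrix.SpecialLinearGroup (Fin 2) F) //
      (χ : Matrix.SpecialLinearGroup (Fin 2) F → ℂ) 1 = (Fintype.card F : ℂ) + 1} with ha
  set b := Nat.card {χ : Cfsg.IrrCharacter (Matrix.SpecialLinearGroup (Fin 2) F) //
      (χ : Matrix.SpecialLinearGroup (Fin 2) F → ℂ) 1 = (Fintype.card F : ℂ) - 1} with hb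
  obtain ⟨m, hm⟩ := heven
  obtain ⟨j, hj⟩ : ∃ j, m = j + 2 := ⟨m - 2, by omega⟩
  have hqj : Fintype.card F = 2 * j + 4 := by omega
  rw [hqj] at hord hnps
  have haj : a = j + 1 := by omega
  have h1 : (2 * j + 4) ^ 2 - 1 = 4 * j ^ 2 + 16 * j + 15 := by
    have : (2 * j + 4) ^ 2 = 4 * j ^ 2 + 16 * j + 16 := by ring
    omega
  have h2 : 2 * j + 4 - 1 = 2 * j + 3 := by omega
  rw [h1, h2, haj] at hord
  have hbj : b = j + 2 := by
    have h3 : (2 * j + 3) ^ 2 * b = (2 * j + 3) ^ 2 * (j + 2) := by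
      zify at hord ⊢
      linear_combination -hord
    exact Nat.eq_of_mul_eq_mul_left (by positivity) h3
  refine ⟨hn1, hnq, ?_, ?_⟩
  · omega
  · omega

end Cfsg.Agent.S2300
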