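import Mathlib
import Cfsg.Statements.S2301
import Cfsg.Agent.Lib.Helper12.SL2Upper

set_option autoImplicit false
open Cfsg

namespace Cfsg.Agent.S2301

open Cfsg.Agent.Helper12

variable {F : Type*} [Field F] [Fintype F]

theorem isSquare_iff_iff (hF : ringChar F ≠ 2) (x y : F) (hx : x ≠ 0) (hy : y ≠ 0) :
    (IsSquare x ↔ IsSquare y) ↔ IsSquare (x * y) := by
  classical
  rw [← quadraticChar_one_iff_isSquare hx, ← quadraticChar_one_iff_isSquare hy,
    ← quadraticChar_one_iff_isSquare (mul_ne_zero hx hy), map_mul]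
  rcases quadraticChar_dichotomy hx with h1 | h1 <;> rcases quadraticChar_dichotomy hy with h2 | h2
    <;> rw [h1, h2] <;> norm_num

theorem upperSL_ne_one (b : F) (hb : b ≠ 0) : upperSL (1 : F) b (one_mul 1) ≠ 1 := by
  intro h
  apply upperSL_not_scalar 1 b (one_mul 1) hb
  rw [h]
  refine ⟨?_, ?_, ?_⟩ <;> simp

theorem orderOf_upperSL (p : ℕ) [Fact p.Prime] [CharP F p] (b : F) (hb : b ≠ 0) :
    orderOf (upperSL (1 : F) b (one_mul 1)) = p := by
  apply orderOf_eq_prime
  · rw [upperSL_one_pow, CharP.cast_eq_zero, zero_mul, upperSL_one_zero]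
  · exact upperSL_ne_one b hb

/-- an element of order `p` is conjugate to `upperSL 1 (-1)` or to `upperSL 1 (-η)` -/
theorem isConj_upper_of_orderOf (p : ℕ) [Fact p.Prime] [CharP F p] (hF : ringChar F ≠ 2)
    (η : F) (hη : ¬ IsSquare η) (g : Matrix.SpecialLinearGroup (Fin 2) F) (hg : orderOf g = p) :
    IsConj g (upperSL (1 : F) (-1) (one_mul 1)) ∨ IsConj g (upperSL (1 : F) (-η) (one_mul 1)) := by
  have hpp : p.Prime := Fact.out
  have hη0 : -η ≠ 0 := by
    intro h
    apply hη
    rw [neg_eq_zero.1 h]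
    exact IsSquare.zero
  have hgp : (g : Matrix (Fin 2) (Fin 2) F) ^ p = 1 := by
    rw [← Matrix.SpecialLinearGroup.coe_pow, ← hg, pow_orderOf_eq_one,
      Matrix.SpecialLinearGroup.coe_one]
  have hg1 : (g : Matrix (Fin 2) (Fin 2) F) ≠ 1 := by
    intro h
    have : g = 1 := Subtype.ext h
    rw [this, orderOf_one] at hg
    exact hpp.one_lt.ne hg
  obtain ⟨hns, htr, -⟩ := unipotent2_data _ p hgp hg1
  by_cases hr : Rep1 g
  · left
    rw [SL2_isConj_iff hF g _ hns (upperSL_not_scalar 1 (-1) _ (by norm_num))]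
    refine ⟨?_, ?_⟩
    · rw [htr, trace_upperSL]; norm_num
    · rw [rep1_upperSL_iff 1 (-1) _ (by norm_num), neg_neg]
      exact iff_of_true hr IsSquare.one
  · right
    rw [SL2_isConj_iff hF g _ hns (upperSL_not_scalar 1 (-η) _ hη0)]
    refine ⟨?_, ?_⟩
    · rw [htr, trace_upperSL]; norm_num
    · rw [rep1_upperSL_iff 1 (-η) _ hη0, neg_neg]
      exact iff_of_false hr hη

/-- Over a finite field with q elements of odd characteristic p, the elements of order p of SL₂ (the non-identity unipotent elements) fall into exactly two conjugacy classes, each of size (q² − 1)/2; two upper unitriangular matrices with non-zero off-diagonal entries b and b′ are conjugate exactly when bb′ is a square. -/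
theorem result {F : Type*} [Field F] [Fintype F] (p : ℕ) [Fact p.Prime] [CharP F p] (hp : p ≠ 2) :
    Nat.card {C : ConjClasses (Matrix.SpecialLinearGroup (Fin 2) F) // ∃ g : Matrix.SpecialLinearGroup (Fin 2) F, orderOf g = p ∧ ConjClasses.mk g = C} = 2 ∧
    (∀ g : Matrix.SpecialLinearGroup (Fin 2) F, orderOf g = p → Nat.card (ConjClasses.mk g).carrier = (Fintype.card F ^ 2 - 1) / 2) ∧
    ∀ g h : Matrix.SpecialLinearGroup (Fin 2) F, (g : Matrix (Fin 2) (Fin 2) F) 0 0 = 1 → (g : Matrix (Fin 2) (Fin 2) F) 1 1 = 1 → (g : Matrix (Fin 2) (Fin 2) F) 1 0 = 0 → (g : Matrix (Fin 2) (Fin 2) F) 0 1 ≠ 0 →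
      (h : Matrix (Fin 2) (Fin 2) F) 0 0 = 1 → (h : Matrix (Fin 2) (Fin 2) F) 1 1 = 1 → (h : Matrix (Fin 2) (Fin 2) F) 1 0 = 0 → (h : Matrix (Fin 2) (Fin 2) F) 0 1 ≠ 0 →
      (IsConj g h ↔ IsSquare ((g : Matrix (Fin 2) (Fin 2) F) 0 1 * (h : Matrix (Fin 2) (Fin 2) F) 0 1)) := by
  classical
  have hF : ringChar F ≠ 2 := by rw [ringChar.eq F p]; exact hp
  obtain ⟨η, hη⟩ := quadraticChar_exists_neg_one hF
  rw [quadraticChar_neg_one_iff_not_isSquare] at hη
  have hη0 : -η ≠ 0 := by
    intro h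
    apply hη
    rw [neg_eq_zero.1 h]
    exact IsSquare.zero
  refine ⟨?_, ?_, ?_⟩
  · rw [Nat.card_eq_two_iff]
    refine ⟨⟨ConjClasses.mk (upperSL (1 : F) (-1) (one_mul 1)), _,
      orderOf_upperSL p (-1) (by norm_num), rfl⟩,
      ⟨ConjClasses.mk (upperSL (1 : F) (-η) (one_mul 1)), _,
      orderOf_upperSL p (-η) hη0, rfl⟩, ?_, ?_⟩
    · intro h
      have h' := congrArg Subtype.val h
      simp only at h'
      rw [ConjClasses.mk_eq_mk_iff_isConj] at h'
      have := rep1_iff_of_isConj _ _ h'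
      rw [rep1_upperSL_iff 1 (-1) _ (by norm_num), rep1_upperSL_iff 1 (-η) _ hη0, neg_neg,
        neg_neg] at this
      exact hη (this.1 IsSquare.one)
    · rw [Set.eq_univ_iff_forall]
      rintro ⟨C, g, hg, rfl⟩
      rcases isConj_upper_of_orderOf p hF η hη g hg with h | h
      · left
        apply Subtype.ext
        exact ConjClasses.mk_eq_mk_iff_isConj.2 h
      · right
        rw [Set.mem_singleton_iff]
        apply Subtype.ext
        exact ConjClasses.mk_eq_mk_iff_isConj.2 h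
  · intro g hg
    have key : ∀ b : F, b ≠ 0 → IsConj g (upperSL (1 : F) b (one_mul 1)) →
        Nat.card (ConjClasses.mk g).carrier = (Fintype.card F ^ 2 - 1) / 2 := by
      intro b hb hc
      rw [ConjClasses.mk_eq_mk_iff_isConj.2 hc]
      have h1 := card_carrier_mul_card_centralizer (upperSL (1 : F) b (one_mul 1))
      rw [card_centralizer_upperSL hF 1 b _ hb, card_SL2] at h1
      have hq : 0 < Fintype.card F := Fintype.card_pos
      have h2 : Nat.card (ConjClasses.mk (upperSL (1 : F) b (one_mul 1))).carrier * 2 =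
          Fintype.card F ^ 2 - 1 := by
        apply Nat.eq_of_mul_eq_mul_left hq
        rw [← h1]; ring
      omega
    rcases isConj_upper_of_orderOf p hF η hη g hg with h | h
    · exact key (-1) (by norm_num) h
    · exact key (-η) hη0 h
  · intro g h hg00 hg11 hg10 hg01 hh00 hh11 hh10 hh01
    obtain ⟨heg, hgu⟩ := eq_upperSL_of_entries g hg10 (hg00.trans hg11.symm)
    obtain ⟨heh, hhu⟩ := eq_upperSL_of_entries h hh10 (hh00.trans hh11.symm)
    have hgns : ¬ IsScalar2 (g : Matrix (Fin 2) (Fin 2) F) := fun hs => hg01 hs.1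
    have hhns : ¬ IsScalar2 (h : Matrix (Fin 2) (Fin 2) F) := fun hs => hh01 hs.1
    have hgr : Rep1 g ↔ IsSquare (-(g : Matrix (Fin 2) (Fin 2) F) 0 1) := by
      have := rep1_upperSL_iff _ _ heg hg01
      rwa [← hgu] at this
    have hhr : Rep1 h ↔ IsSquare (-(h : Matrix (Fin 2) (Fin 2) F) 0 1) := by
      have := rep1_upperSL_iff _ _ heh hh01
      rwa [← hhu] at this
    rw [SL2_isConj_iff hF g h hgns hhns, hgr, hhr,
      isSquare_iff_iff hF _ _ (neg_ne_zero.2 hg01) (neg_ne_zero.2 hh01), neg_mul_neg]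
    rw [Matrix.trace_fin_two, Matrix.trace_fin_two, hg00, hg11, hh00, hh11]
    simp

end Cfsg.Agent.S2301
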