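import Mathlib
import Cfsg.Statements.S2302
import Cfsg.Agent.Lib.Helper12.SL2

set_option autoImplicit false
open Cfsg

namespace Cfsg.Agent.S2302

open Cfsg.Agent.Helper12

variable {F : Type*} [Field F]

theorem two_eq_zero [CharP F 2] : (2 : F) = 0 := CharP.ofNat_eq_zero F 2

theorem neg_eq_self [CharP F 2] (a : F) : -a = a := by
  have : a + a = 0 := by rw [← two_mul, two_eq_zero, zero_mul]
  exact neg_eq_of_add_eq_zero_left this

theorem sq_inj [CharP F 2] {a b : F} (h : a * a = b * b) : a = b := by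
  have h1 : (a - b) ^ 2 = 0 := by
    have : (a - b) ^ 2 = a * a + b * b - 2 * (a * b) := by ring
    rw [this, two_eq_zero, h, zero_mul, sub_zero, ← two_mul, two_eq_zero, zero_mul]
  exact sub_eq_zero.mp (eq_zero_of_pow_eq_zero h1)

/-- An involution of `SL₂` in characteristic 2 is not the identity and has trace 0. -/
theorem invol_data [CharP F 2] (g : Matrix.SpecialLinearGroup (Fin 2) F) (hg : orderOf g = 2) :
    g ≠ 1 ∧ (g : Matrix (Fin 2) (Fin 2) F).trace = 0 := by
  have h1 : g ≠ 1 := by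
    intro h
    rw [h, orderOf_one] at hg
    exact absurd hg (by decide)
  refine ⟨h1, ?_⟩
  have h2 : g * g = 1 := by
    have := pow_orderOf_eq_one g
    rwa [hg, pow_two] at this
  have h3 : (g : Matrix (Fin 2) (Fin 2) F) * (g : Matrix (Fin 2) (Fin 2) F) = 1 := by
    rw [← Matrix.SpecialLinearGroup.coe_mul, h2, Matrix.SpecialLinearGroup.coe_one]
  rw [sq_eq2, Matrix.SpecialLinearGroup.det_coe, one_smul] at h3
  have h4 : (g : Matrix (Fin 2) (Fin 2) F).trace • (g : Matrix (Fin 2) (Fin 2) F) = 0 := by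
    have : (g : Matrix (Fin 2) (Fin 2) F).trace • (g : Matrix (Fin 2) (Fin 2) F) =
        (1 : Matrix (Fin 2) (Fin 2) F) + 1 := by
      have := eq_add_of_sub_eq h3
      exact this
    rw [this, ← two_smul F (1 : Matrix (Fin 2) (Fin 2) F), two_eq_zero, zero_smul]
  rcases smul_eq_zero.mp h4 with h | h
  · exact h
  · exfalso
    have := g.det_coe
    rw [h, Matrix.det_zero] at this
    exact zero_ne_one this

/-- Non-identity trace-zero elements are all conjugate. -/
theorem conj_of_data [Finite F] [CharP F 2] (g h : Matrix.SpecialLinearGroup (Fin 2) F)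
    (hg : g ≠ 1 ∧ (g : Matrix (Fin 2) (Fin 2) F).trace = 0)
    (hh : h ≠ 1 ∧ (h : Matrix (Fin 2) (Fin 2) F).trace = 0) : IsConj g h := by
  have h1 := SL2_char_two_conj_companion g hg.1
  have h2 := SL2_char_two_conj_companion h hh.1
  rw [hg.2] at h1
  rw [hh.2] at h2
  exact SL2_isConj_of_companion g h 0 h1 h2

theorem trace_conj (c a : Matrix.SpecialLinearGroup (Fin 2) F) :
    ((c * a * c⁻¹ : Matrix.SpecialLinearGroup (Fin 2) F) : Matrix (Fin 2) (Fin 2) F).trace =
      (a : Matrix (Fin 2) (Fin 2) F).trace := by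
  rw [Matrix.SpecialLinearGroup.coe_mul, Matrix.SpecialLinearGroup.coe_mul, Matrix.trace_mul_comm,
    ← mul_assoc, ← Matrix.SpecialLinearGroup.coe_mul, inv_mul_cancel,
    Matrix.SpecialLinearGroup.coe_one, one_mul]

/-- The set of non-identity trace-zero elements has `q² - 1` elements. -/
theorem card_data [Fintype F] [CharP F 2] :
    Nat.card {x : Matrix.SpecialLinearGroup (Fin 2) F //
      x ≠ 1 ∧ (x : Matrix (Fin 2) (Fin 2) F).trace = 0} = Fintype.card F ^ 2 - 1 := by
  classical
  have hsq : ∀ a : F, IsSquare a := fun a => FiniteField.isSquare_of_char_two (ringChar.eq F 2) a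
  let S := {x : Matrix.SpecialLinearGroup (Fin 2) F //
      x ≠ 1 ∧ (x : Matrix (Fin 2) (Fin 2) F).trace = 0}
  let T := {bc : F × F // bc ≠ 0}
  have h11 : ∀ x : S, (x.1 : Matrix (Fin 2) (Fin 2) F) 1 1 = (x.1 : Matrix (Fin 2) (Fin 2) F) 0 0 := by
    intro x
    have := x.2.2
    rw [Matrix.trace_fin_two] at this
    have h : (x.1 : Matrix (Fin 2) (Fin 2) F) 1 1 = -(x.1 : Matrix (Fin 2) (Fin 2) F) 0 0 :=
      eq_neg_of_add_eq_zero_right this
    rw [h, neg_eq_self]
  have hdet : ∀ x : S, (x.1 : Matrix (Fin 2) (Fin 2) F) 0 0 * (x.1 : Matrix (Fin 2) (Fin 2) F) 0 0 =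
      1 + (x.1 : Matrix (Fin 2) (Fin 2) F) 0 1 * (x.1 : Matrix (Fin 2) (Fin 2) F) 1 0 := by
    intro x
    have := x.1.det_coe
    rw [Matrix.det_fin_two, h11 x] at this
    linear_combination this
  have hne : ∀ x : S, ((x.1 : Matrix (Fin 2) (Fin 2) F) 0 1, (x.1 : Matrix (Fin 2) (Fin 2) F) 1 0) ≠ (0 : F × F) := by
    intro x h
    have h01 : (x.1 : Matrix (Fin 2) (Fin 2) F) 0 1 = 0 := congrArg Prod.fst h
    have h10 : (x.1 : Matrix (Fin 2) (Fin 2) F) 1 0 = 0 := congrArg Prod.snd h
    exact x.2.1 (scalar_SL2_char_two x.1 ⟨h01, h10, (h11 x).symm⟩)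
  let f : S → T := fun x => ⟨((x.1 : Matrix (Fin 2) (Fin 2) F) 0 1, (x.1 : Matrix (Fin 2) (Fin 2) F) 1 0), hne x⟩
  have hf : Function.Bijective f := by
    constructor
    · intro x y hxy
      have h := congrArg Subtype.val hxy
      have h01 : (x.1 : Matrix (Fin 2) (Fin 2) F) 0 1 = (y.1 : Matrix (Fin 2) (Fin 2) F) 0 1 := congrArg Prod.fst h
      have h10 : (x.1 : Matrix (Fin 2) (Fin 2) F) 1 0 = (y.1 : Matrix (Fin 2) (Fin 2) F) 1 0 := congrArg Prod.snd h
      have h00 : (x.1 : Matrix (Fin 2) (Fin 2) F) 0 0 = (y.1 : Matrix (Fin 2) (Fin 2) F) 0 0 := by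
        apply sq_inj
        rw [hdet x, hdet y, h01, h10]
      apply Subtype.ext
      apply Matrix.SpecialLinearGroup.ext
      intro i j
      fin_cases i <;> fin_cases j
      · exact h00
      · exact h01
      · exact h10
      · change (x.1 : Matrix (Fin 2) (Fin 2) F) 1 1 = (y.1 : Matrix (Fin 2) (Fin 2) F) 1 1
        rw [h11 x, h11 y, h00]
    · rintro ⟨⟨b, c⟩, hbc⟩
      obtain ⟨a, ha⟩ := hsq (1 + b * c)
      have hdetm : (!![a, b; c, a] : Matrix (Fin 2) (Fin 2) F).det = 1 := by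
        rw [Matrix.det_fin_two_of, ← ha]; ring
      let m : Matrix.SpecialLinearGroup (Fin 2) F := ⟨!![a, b; c, a], hdetm⟩
      have hm1 : m ≠ 1 := by
        intro h
        apply hbc
        have e01 := congrArg (fun x : Matrix.SpecialLinearGroup (Fin 2) F => (x : Matrix (Fin 2) (Fin 2) F) 0 1) h
        have e10 := congrArg (fun x : Matrix.SpecialLinearGroup (Fin 2) F => (x : Matrix (Fin 2) (Fin 2) F) 1 0) h
        have f01 : (m : Matrix (Fin 2) (Fin 2) F) 0 1 = b := rfl
        have f10 : (m : Matrix (Fin 2) (Fin 2) F) 1 0 = c := rfl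
        have g01 : ((1 : Matrix.SpecialLinearGroup (Fin 2) F) : Matrix (Fin 2) (Fin 2) F) 0 1 = 0 := by
          rw [Matrix.SpecialLinearGroup.coe_one]; simp
        have g10 : ((1 : Matrix.SpecialLinearGroup (Fin 2) F) : Matrix (Fin 2) (Fin 2) F) 1 0 = 0 := by
          rw [Matrix.SpecialLinearGroup.coe_one]; simp
        simp only [f01, f10, g01, g10] at e01 e10
        rw [e01, e10]; rfl
      have hmtr : (m : Matrix (Fin 2) (Fin 2) F).trace = 0 := by
        change (!![a, b; c, a] : Matrix (Fin 2) (Fin 2) F).trace = 0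
        rw [Matrix.trace_fin_two_of, ← two_mul, two_eq_zero, zero_mul]
      exact ⟨⟨m, hm1, hmtr⟩, rfl⟩
  rw [Nat.card_congr (Equiv.ofBijective f hf)]
  have : Nat.card T = Fintype.card (F × F) - 1 := by
    rw [Nat.card_eq_fintype_card]
    change Fintype.card {bc : F × F // ¬ (bc = 0)} = _
    rw [Fintype.card_subtype_compl, Fintype.card_subtype_eq]
  rw [this, Fintype.card_prod, pow_two]

/-- Over a finite field with q elements of characteristic 2, the involutions of SL₂ (the non-identity unipotent elements) form a single conjugacy class, of size q² − 1. -/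
theorem result {F : Type*} [Field F] [Fintype F] [CharP F 2] (g h : Matrix.SpecialLinearGroup (Fin 2) F) (hg : orderOf g = 2) (hh : orderOf h = 2) :
    IsConj g h ∧ Nat.card (ConjClasses.mk g).carrier = Fintype.card F ^ 2 - 1 := by
  have dg := invol_data g hg
  have dh := invol_data h hh
  refine ⟨conj_of_data g h dg dh, ?_⟩
  rw [← card_data (F := F)]
  apply Nat.card_congr
  apply Equiv.subtypeEquivRight
  intro x
  rw [ConjClasses.mem_carrier_iff_mk_eq, ConjClasses.mk_eq_mk_iff_isConj]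
  constructor
  · intro hx
    rw [isConj_iff] at hx
    obtain ⟨c, hc⟩ := hx
    refine ⟨?_, ?_⟩
    · intro h1
      apply dg.1
      have : g = c * x * c⁻¹ := hc.symm
      rw [this, h1]; group
    · have : x = c⁻¹ * g * c⁻¹⁻¹ := by rw [← hc]; group
      rw [this, trace_conj, dg.2]
  · intro hx
    exact conj_of_data x g hx dg

end Cfsg.Agent.S2302
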