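import Mathlib
import Cfsg.Statements.S2303
import Cfsg.Agent.Lib.Helper12.TwoByTwo

set_option autoImplicit false
open Cfsg

namespace Cfsg.Agent.S2303

open Cfsg.Agent.Helper12 Matrix

variable {F : Type*} [Field F]

theorem mem_cent_iff (g h : GL (Fin 2) F) :
    h ∈ Subgroup.centralizer ({g} : Set (GL (Fin 2) F)) ↔
      (h : Matrix (Fin 2) (Fin 2) F) * (g : Matrix (Fin 2) (Fin 2) F) =
        (g : Matrix (Fin 2) (Fin 2) F) * (h : Matrix (Fin 2) (Fin 2) F) := by
  rw [Subgroup.mem_centralizer_iff]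
  constructor
  · intro hh
    have := hh g (Set.mem_singleton g)
    have h2 := congrArg (fun x : GL (Fin 2) F => (x : Matrix (Fin 2) (Fin 2) F)) this
    simp only [Units.val_mul] at h2
    exact h2.symm
  · intro hh x hx
    rw [Set.mem_singleton_iff] at hx
    subst hx
    apply Units.ext
    rw [Units.val_mul, Units.val_mul]
    exact hh.symm

theorem det_ne_zero_GL (h : GL (Fin 2) F) : (h : Matrix (Fin 2) (Fin 2) F).det ≠ 0 := by
  have := (Matrix.GeneralLinearGroup.det h).ne_zero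
  simpa using this

/-- Part 1: the centralizer of a diagonal matrix with distinct entries. -/
theorem part1 [Fintype F] (g : GL (Fin 2) F) (h01 : (g : Matrix (Fin 2) (Fin 2) F) 0 1 = 0)
    (h10 : (g : Matrix (Fin 2) (Fin 2) F) 1 0 = 0)
    (hne : (g : Matrix (Fin 2) (Fin 2) F) 0 0 ≠ (g : Matrix (Fin 2) (Fin 2) F) 1 1) :
    Nat.card (Subgroup.centralizer ({g} : Set (GL (Fin 2) F))) = (Fintype.card F - 1) ^ 2 := by
  classical
  have hns : ¬ IsScalar2 (g : Matrix (Fin 2) (Fin 2) F) := fun h => hne h.2.2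
  have hdiag : ∀ h : GL (Fin 2) F, h ∈ Subgroup.centralizer ({g} : Set (GL (Fin 2) F)) ↔
      ((h : Matrix (Fin 2) (Fin 2) F) 0 1 = 0 ∧ (h : Matrix (Fin 2) (Fin 2) F) 1 0 = 0) := by
    intro h
    rw [mem_cent_iff, commute_iff_exists_smul _ _ hns]
    constructor
    · rintro ⟨x, y, hxy⟩
      rw [hxy]
      simp [h01, h10]
    · rintro ⟨e1, e2⟩
      have hd : (g : Matrix (Fin 2) (Fin 2) F) 0 0 - (g : Matrix (Fin 2) (Fin 2) F) 1 1 ≠ 0 :=
        sub_ne_zero.mpr hne
      refine ⟨(h : Matrix (Fin 2) (Fin 2) F) 0 0 -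
          ((h : Matrix (Fin 2) (Fin 2) F) 0 0 - (h : Matrix (Fin 2) (Fin 2) F) 1 1) /
            ((g : Matrix (Fin 2) (Fin 2) F) 0 0 - (g : Matrix (Fin 2) (Fin 2) F) 1 1) *
            (g : Matrix (Fin 2) (Fin 2) F) 0 0,
        ((h : Matrix (Fin 2) (Fin 2) F) 0 0 - (h : Matrix (Fin 2) (Fin 2) F) 1 1) /
          ((g : Matrix (Fin 2) (Fin 2) F) 0 0 - (g : Matrix (Fin 2) (Fin 2) F) 1 1), ?_⟩
      ext i j
      fin_cases i <;> fin_cases j <;> simp [h01, h10, e1, e2]
      field_simp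
      ring
  have hunit : ∀ h : Subgroup.centralizer ({g} : Set (GL (Fin 2) F)),
      ((h.1 : GL (Fin 2) F) : Matrix (Fin 2) (Fin 2) F) 0 0 ≠ 0 ∧
      ((h.1 : GL (Fin 2) F) : Matrix (Fin 2) (Fin 2) F) 1 1 ≠ 0 := by
    intro h
    have hd := det_ne_zero_GL h.1
    obtain ⟨e1, e2⟩ := (hdiag h.1).mp h.2
    rw [Matrix.det_fin_two, e1, e2, mul_zero, sub_zero] at hd
    exact ⟨left_ne_zero_of_mul hd, right_ne_zero_of_mul hd⟩
  let f : Subgroup.centralizer ({g} : Set (GL (Fin 2) F)) → Fˣ × Fˣ :=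
    fun h => (Units.mk0 _ (hunit h).1, Units.mk0 _ (hunit h).2)
  have hf : Function.Bijective f := by
    constructor
    · intro a b hab
      have e00 : ((a.1 : GL (Fin 2) F) : Matrix (Fin 2) (Fin 2) F) 0 0 =
          ((b.1 : GL (Fin 2) F) : Matrix (Fin 2) (Fin 2) F) 0 0 :=
        congrArg (fun x : Fˣ × Fˣ => (x.1 : F)) hab
      have e11 : ((a.1 : GL (Fin 2) F) : Matrix (Fin 2) (Fin 2) F) 1 1 =
          ((b.1 : GL (Fin 2) F) : Matrix (Fin 2) (Fin 2) F) 1 1 :=
        congrArg (fun x : Fˣ × Fˣ => (x.2 : F)) hab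
      obtain ⟨a1, a2⟩ := (hdiag a.1).mp a.2
      obtain ⟨b1, b2⟩ := (hdiag b.1).mp b.2
      apply Subtype.ext
      apply Units.ext
      ext i j
      fin_cases i <;> fin_cases j
      · exact e00
      · exact a1.trans b1.symm
      · exact a2.trans b2.symm
      · exact e11
    · rintro ⟨u, w⟩
      have hdet : (!![(u : F), 0; 0, (w : F)] : Matrix (Fin 2) (Fin 2) F).det ≠ 0 := by
        rw [Matrix.det_fin_two_of]
        simp
      let m : GL (Fin 2) F := Matrix.GeneralLinearGroup.mkOfDetNeZero _ hdet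
      have hm : m ∈ Subgroup.centralizer ({g} : Set (GL (Fin 2) F)) := by
        rw [hdiag]
        exact ⟨rfl, rfl⟩
      refine ⟨⟨m, hm⟩, ?_⟩
      apply Prod.ext <;> apply Units.ext <;> rfl
  rw [Nat.card_congr (Equiv.ofBijective f hf), Nat.card_eq_fintype_card, Fintype.card_prod,
    Fintype.card_units, pow_two]

/-- Part 2: the centralizer of an element without eigenvectors. -/
theorem part2 [Fintype F] (g : GL (Fin 2) F)
    (hev : ∀ (c : F) (v : Fin 2 → F), v ≠ 0 → (g : Matrix (Fin 2) (Fin 2) F).mulVec v ≠ c • v) :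
    Nat.card (Subgroup.centralizer ({g} : Set (GL (Fin 2) F))) = Fintype.card F ^ 2 - 1 := by
  classical
  have hns : ¬ IsScalar2 (g : Matrix (Fin 2) (Fin 2) F) := by
    intro hs
    rw [isScalar2_iff] at hs
    apply hev ((g : Matrix (Fin 2) (Fin 2) F) 0 0) ![1, 0]
    · intro h
      have := congrFun h 0
      simp at this
    · rw [hs]
      simp
  have hdet : ∀ x y : F, (x, y) ≠ (0 : F × F) →
      (x • (1 : Matrix (Fin 2) (Fin 2) F) + y • (g : Matrix (Fin 2) (Fin 2) F)).det ≠ 0 := by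
    intro x y hxy hd
    obtain ⟨v, hv, hv0⟩ := Matrix.exists_mulVec_eq_zero_iff.mpr hd
    rw [Matrix.add_mulVec, Matrix.smul_mulVec, Matrix.smul_mulVec, Matrix.one_mulVec] at hv0
    by_cases hy : y = 0
    · rw [hy, zero_smul, add_zero] at hv0
      rcases smul_eq_zero.mp hv0 with h | h
      · exact hxy (by rw [h, hy]; rfl)
      · exact hv h
    · apply hev (-x / y) v hv
      have : (g : Matrix (Fin 2) (Fin 2) F) *ᵥ v = y⁻¹ • (y • ((g : Matrix (Fin 2) (Fin 2) F) *ᵥ v)) := by
        rw [smul_smul, inv_mul_cancel₀ hy, one_smul]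
      rw [this, eq_neg_of_add_eq_zero_right hv0, smul_neg, smul_smul, neg_div, neg_smul]
      congr 2
      field_simp
  let T := {xy : F × F // xy ≠ 0}
  let f : T → Subgroup.centralizer ({g} : Set (GL (Fin 2) F)) := fun xy =>
    ⟨Matrix.GeneralLinearGroup.mkOfDetNeZero _ (hdet xy.1.1 xy.1.2 xy.2), by
      rw [mem_cent_iff, commute_iff_exists_smul _ _ hns]
      exact ⟨xy.1.1, xy.1.2, rfl⟩⟩
  have hfv : ∀ xy : T, ((f xy).1 : Matrix (Fin 2) (Fin 2) F) =
      xy.1.1 • (1 : Matrix (Fin 2) (Fin 2) F) + xy.1.2 • (g : Matrix (Fin 2) (Fin 2) F) := fun _ => rfl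
  have huniq : ∀ x y x' y' : F, x • (1 : Matrix (Fin 2) (Fin 2) F) + y • (g : Matrix (Fin 2) (Fin 2) F) =
      x' • (1 : Matrix (Fin 2) (Fin 2) F) + y' • (g : Matrix (Fin 2) (Fin 2) F) → x = x' ∧ y = y' := by
    intro x y x' y' h
    have hy : y = y' := by
      by_contra hne
      apply hns
      have hd : y - y' ≠ 0 := sub_ne_zero.mpr hne
      have e : (g : Matrix (Fin 2) (Fin 2) F) = ((x' - x) / (y - y')) • (1 : Matrix (Fin 2) (Fin 2) F) := by
        have h2 : (y - y') • (g : Matrix (Fin 2) (Fin 2) F) = (x' - x) • (1 : Matrix (Fin 2) (Fin 2) F) := by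
          rw [sub_smul, sub_smul]
          have := h
          rw [← sub_eq_zero] at this ⊢
          rw [← this]; abel
        have h3 : (g : Matrix (Fin 2) (Fin 2) F) = (y - y')⁻¹ • ((y - y') • (g : Matrix (Fin 2) (Fin 2) F)) := by
          rw [smul_smul, inv_mul_cancel₀ hd, one_smul]
        rw [h3, h2, smul_smul, div_eq_inv_mul]
      rw [e]
      exact isScalar2_smul_one _
    refine ⟨?_, hy⟩
    rw [hy] at h
    have h2 := add_right_cancel h
    have := congrFun (congrFun h2 0) 0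
    simpa using this
  have hf : Function.Bijective f := by
    constructor
    · intro a b hab
      have := congrArg (fun z : Subgroup.centralizer ({g} : Set (GL (Fin 2) F)) =>
        ((z.1 : GL (Fin 2) F) : Matrix (Fin 2) (Fin 2) F)) hab
      simp only [hfv] at this
      obtain ⟨e1, e2⟩ := huniq _ _ _ _ this
      exact Subtype.ext (Prod.ext e1 e2)
    · intro h
      obtain ⟨x, y, hxy⟩ := (commute_iff_exists_smul _ _ hns).mp ((mem_cent_iff g h.1).mp h.2)
      have hne : (x, y) ≠ (0 : F × F) := by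
        intro h0
        have hx : x = 0 := congrArg Prod.fst h0
        have hy : y = 0 := congrArg Prod.snd h0
        have hd := det_ne_zero_GL h.1
        rw [hxy, hx, hy] at hd
        simp at hd
      refine ⟨⟨(x, y), hne⟩, ?_⟩
      apply Subtype.ext
      apply Units.ext
      rw [hfv]
      exact hxy.symm
  rw [← Nat.card_congr (Equiv.ofBijective f hf)]
  have : Nat.card T = Fintype.card (F × F) - 1 := by
    rw [Nat.card_eq_fintype_card]
    change Fintype.card {bc : F × F // ¬ (bc = 0)} = _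
    rw [Fintype.card_subtype_compl, Fintype.card_subtype_eq]
  rw [this, Fintype.card_prod, pow_two]

/-- Over a finite field with q elements: a diagonal element of GL₂ with two distinct diagonal entries has centralizer of order (q − 1)² (so q(q + 1) conjugates), and an element of GL₂ with no eigenvector in F² has centralizer of order q² − 1 (so q(q − 1) conjugates). -/
theorem result {F : Type*} [Field F] [Fintype F] (g : Matrix.GeneralLinearGroup (Fin 2) F) :
    ((g : Matrix (Fin 2) (Fin 2) F) 0 1 = 0 → (g : Matrix (Fin 2) (Fin 2) F) 1 0 = 0 → (g : Matrix (Fin 2) (Fin 2) F) 0 0 ≠ (g : Matrix (Fin 2) (Fin 2) F) 1 1 →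
      Nat.card (Subgroup.centralizer ({g} : Set (Matrix.GeneralLinearGroup (Fin 2) F))) = (Fintype.card F - 1) ^ 2) ∧
    ((∀ (c : F) (v : Fin 2 → F), v ≠ 0 → (g : Matrix (Fin 2) (Fin 2) F).mulVec v ≠ c • v) →
      Nat.card (Subgroup.centralizer ({g} : Set (Matrix.GeneralLinearGroup (Fin 2) F))) = Fintype.card F ^ 2 - 1) :=
  ⟨part1 g, part2 g⟩

end Cfsg.Agent.S2303
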