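import Mathlib
import Cfsg.Statements.S2308
import Cfsg.Agent.Lib.Helper12.BorelInd
import Cfsg.Agent.Lib.Helper5.PermChar

set_option autoImplicit false
open Cfsg

namespace Cfsg.Agent.S2308

open Cfsg.Agent.Helper12

variable {F : Type*} [Field F]

/-- the character `b ↦ α(b₀₀) β(b₁₁)` of the Borel subgroup of `GL₂` is `borelChar α β` -/
theorem borelChar_GL_eq (α β : MulChar F ℂ) :
    (fun b : (Cfsg.upperTriangularGL 2 F) =>
      α (((b : Matrix.GeneralLinearGroup (Fin 2) F) : Matrix (Fin 2) (Fin 2) F) 0 0) *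
        β (((b : Matrix.GeneralLinearGroup (Fin 2) F) : Matrix (Fin 2) (Fin 2) F) 1 1)) =
    borelChar (MonoidHom.id (GL (Fin 2) F)) (Cfsg.upperTriangularGL 2 F) α β := rfl

/-- the value formula for the principal series functions of `GL₂` -/
theorem indFun_GL_apply [Fintype F] [DecidableEq F] (α β : MulChar F ℂ)
    (g : Matrix.GeneralLinearGroup (Fin 2) F) :
    (Cfsg.indFun (Cfsg.upperTriangularGL 2 F)
      (fun b => α (((b : Matrix.GeneralLinearGroup (Fin 2) F) : Matrix (Fin 2) (Fin 2) F) 0 0) *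
        β (((b : Matrix.GeneralLinearGroup (Fin 2) F) : Matrix (Fin 2) (Fin 2) F) 1 1))) g =
    (if (g : Matrix (Fin 2) (Fin 2) F) 1 0 = 0 then α ((g : Matrix (Fin 2) (Fin 2) F) 0 0) *
        β ((g : Matrix (Fin 2) (Fin 2) F) 1 1) else 0) +
      ∑ x : F, if (g : Matrix (Fin 2) (Fin 2) F) 1 0 * x ^ 2 +
          ((g : Matrix (Fin 2) (Fin 2) F) 1 1 - (g : Matrix (Fin 2) (Fin 2) F) 0 0) * x -
          (g : Matrix (Fin 2) (Fin 2) F) 0 1 = 0 then
        α ((g : Matrix (Fin 2) (Fin 2) F) 1 0 * x + (g : Matrix (Fin 2) (Fin 2) F) 1 1) *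
          β ((g : Matrix (Fin 2) (Fin 2) F) 0 0 - (g : Matrix (Fin 2) (Fin 2) F) 1 0 * x)
        else 0 := by
  rw [borelChar_GL_eq, indFun_borelChar borelReps_GL]
  rfl

/-- the permutation character on the cosets of the Borel subgroup -/
theorem fixedPointCharacter_GL_apply [Fintype F] [DecidableEq F]
    (g : Matrix.GeneralLinearGroup (Fin 2) F) :
    Cfsg.fixedPointCharacter (Cfsg.upperTriangularGL 2 F) g =
    (if (g : Matrix (Fin 2) (Fin 2) F) 1 0 = 0 then (1 : MulChar F ℂ) ((g : Matrix (Fin 2) (Fin 2) F) 0 0) *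
        (1 : MulChar F ℂ) ((g : Matrix (Fin 2) (Fin 2) F) 1 1) else 0) +
      ∑ x : F, if (g : Matrix (Fin 2) (Fin 2) F) 1 0 * x ^ 2 +
          ((g : Matrix (Fin 2) (Fin 2) F) 1 1 - (g : Matrix (Fin 2) (Fin 2) F) 0 0) * x -
          (g : Matrix (Fin 2) (Fin 2) F) 0 1 = 0 then
        (1 : MulChar F ℂ) ((g : Matrix (Fin 2) (Fin 2) F) 1 0 * x + (g : Matrix (Fin 2) (Fin 2) F) 1 1) *
          (1 : MulChar F ℂ) ((g : Matrix (Fin 2) (Fin 2) F) 0 0 - (g : Matrix (Fin 2) (Fin 2) F) 1 0 * x)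
        else 0 := by
  rw [← indFun_GL_apply]
  have h1 : (fun b : (Cfsg.upperTriangularGL 2 F) =>
      (1 : MulChar F ℂ) (((b : Matrix.GeneralLinearGroup (Fin 2) F) : Matrix (Fin 2) (Fin 2) F) 0 0) *
        (1 : MulChar F ℂ) (((b : Matrix.GeneralLinearGroup (Fin 2) F) : Matrix (Fin 2) (Fin 2) F) 1 1)) =
      fun _ => (1 : ℂ) := by
    funext b
    have h00 : ((b : Matrix.GeneralLinearGroup (Fin 2) F) : Matrix (Fin 2) (Fin 2) F) 0 0 ≠ 0 :=
      isBorelOf_id.ent00_ne b
    have h11 : ((b : Matrix.GeneralLinearGroup (Fin 2) F) : Matrix (Fin 2) (Fin 2) F) 1 1 ≠ 0 :=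
      isBorelOf_id.ent11_ne b
    rw [MulChar.one_apply (isUnit_iff_ne_zero.2 h00),
      MulChar.one_apply (isUnit_iff_ne_zero.2 h11), mul_one]
  rw [h1, Cfsg.Agent.Helper5.indFun_const_one_eq_card_fixed]
  rfl

/-- Values of the permutation character of GL₂ over a finite field F with q elements on the cosets of its upper triangular subgroup (equivalently, the number of lines of F² that an element maps to themselves): q + 1 at a scalar matrix, 2 at a diagonal matrix with two different diagonal entries, 0 at an element with no eigenvector in F², and 1 at an upper triangular matrix with equal diagonal entries and non-zero upper right entry. -/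
theorem result {F : Type*} [Field F] [Fintype F] (g : Matrix.GeneralLinearGroup (Fin 2) F) :
    ((∃ a : F, (g : Matrix (Fin 2) (Fin 2) F) = a • (1 : Matrix (Fin 2) (Fin 2) F)) → Cfsg.fixedPointCharacter (Cfsg.upperTriangularGL 2 F) g = Fintype.card F + 1) ∧
    ((g : Matrix (Fin 2) (Fin 2) F) 0 1 = 0 → (g : Matrix (Fin 2) (Fin 2) F) 1 0 = 0 → (g : Matrix (Fin 2) (Fin 2) F) 0 0 ≠ (g : Matrix (Fin 2) (Fin 2) F) 1 1 →
      Cfsg.fixedPointCharacter (Cfsg.upperTriangularGL 2 F) g = 2) ∧
    ((∀ (c : F) (v : Fin 2 → F), v ≠ 0 → (g : Matrix (Fin 2) (Fin 2) F).mulVec v ≠ c • v) → Cfsg.fixedPointCharacter (Cfsg.upperTriangularGL 2 F) g = 0) ∧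
    ((g : Matrix (Fin 2) (Fin 2) F) 1 0 = 0 → (g : Matrix (Fin 2) (Fin 2) F) 0 0 = (g : Matrix (Fin 2) (Fin 2) F) 1 1 → (g : Matrix (Fin 2) (Fin 2) F) 0 1 ≠ 0 →
      Cfsg.fixedPointCharacter (Cfsg.upperTriangularGL 2 F) g = 1) := by
  classical
  have hdet : (g : Matrix (Fin 2) (Fin 2) F) 0 0 * (g : Matrix (Fin 2) (Fin 2) F) 1 1 -
      (g : Matrix (Fin 2) (Fin 2) F) 0 1 * (g : Matrix (Fin 2) (Fin 2) F) 1 0 ≠ 0 := by
    have := GL_det_ne_zero g
    rwa [Matrix.det_fin_two] at this
  rw [fixedPointCharacter_GL_apply]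
  set a := (g : Matrix (Fin 2) (Fin 2) F) 0 0 with ha
  set b := (g : Matrix (Fin 2) (Fin 2) F) 0 1 with hb
  set c := (g : Matrix (Fin 2) (Fin 2) F) 1 0 with hc
  set d := (g : Matrix (Fin 2) (Fin 2) F) 1 1 with hd
  refine ⟨?_, ?_, ?_, ?_⟩
  · rintro ⟨s, hs⟩
    have e00 : a = s := by rw [ha, hs]; simp
    have e01 : b = 0 := by rw [hb, hs]; simp
    have e10 : c = 0 := by rw [hc, hs]; simp
    have e11 : d = s := by rw [hd, hs]; simp
    rw [e00, e01, e10, e11] at hdet ⊢
    have hs0 : s ≠ 0 := by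
      intro h
      apply hdet
      rw [h]; ring
    rw [if_pos rfl, MulChar.one_apply (isUnit_iff_ne_zero.2 hs0), mul_one]
    have : ∀ x : F, (if (0 : F) * x ^ 2 + (s - s) * x - 0 = 0 then
        (1 : MulChar F ℂ) (0 * x + s) * (1 : MulChar F ℂ) (s - 0 * x) else 0) = 1 := by
      intro x
      rw [if_pos (by ring)]
      simp [MulChar.one_apply (isUnit_iff_ne_zero.2 hs0)]
    rw [Finset.sum_congr rfl (fun x _ => this x), Finset.sum_const, Finset.card_univ, nsmul_eq_mul]
    ring
  · intro hb0 hc0 hne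
    rw [hb0, hc0] at hdet
    have ha0 : a ≠ 0 := by
      intro h; apply hdet; rw [h]; ring
    have hd0 : d ≠ 0 := by
      intro h; apply hdet; rw [h]; ring
    have hne' : d - a ≠ 0 := fun h => hne (sub_eq_zero.1 h).symm
    rw [if_pos hc0, MulChar.one_apply (isUnit_iff_ne_zero.2 hd0),
      MulChar.one_apply (isUnit_iff_ne_zero.2 ha0), mul_one, hc0, hb0]
    rw [Finset.sum_eq_single (0 : F)]
    · simp [MulChar.one_apply (isUnit_iff_ne_zero.2 ha0), MulChar.one_apply (isUnit_iff_ne_zero.2 hd0)]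
      norm_num
    · intro x _ hx
      rw [if_neg]
      intro h
      apply hx
      have : (d - a) * x = 0 := by linear_combination h
      rcases mul_eq_zero.1 this with h1 | h1
      · exact absurd h1 hne'
      · exact h1
    · intro h
      exact absurd (Finset.mem_univ _) h
  · intro hno
    have hc0 : c ≠ 0 := by
      intro hc0
      apply hno a ![1, 0] (by
        intro h
        have := congrFun h 0
        simp at this)
      ext i
      fin_cases i
      · simp [Matrix.mulVec, dotProduct, Fin.sum_univ_two, ← ha]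
      · simp [Matrix.mulVec, dotProduct, Fin.sum_univ_two, ← hc, hc0]
    rw [if_neg hc0, zero_add]
    apply Finset.sum_eq_zero
    intro x _
    rw [if_neg]
    intro h
    apply hno (c * x + d) ![x, 1] (by
      intro h
      have := congrFun h 1
      simp at this)
    ext i
    fin_cases i
    · simp [Matrix.mulVec, dotProduct, Fin.sum_univ_two, ← ha, ← hb]
      linear_combination (-1 : F) * h
    · simp [Matrix.mulVec, dotProduct, Fin.sum_univ_two, ← hc, ← hd]
  · intro hc0 had hb0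
    rw [hc0, ← had] at hdet
    have ha0 : a ≠ 0 := by
      intro h; apply hdet; rw [h]; ring
    rw [if_pos hc0, ← had, MulChar.one_apply (isUnit_iff_ne_zero.2 ha0), mul_one]
    rw [Finset.sum_eq_zero, add_zero]
    intro x _
    rw [if_neg]
    intro h
    apply hb0
    rw [hc0] at h
    linear_combination (-1 : F) * h

end Cfsg.Agent.S2308
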