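import Mathlib
import Cfsg.Statements.S2305
import Cfsg.Agent.S2304

set_option autoImplicit false
open Cfsg

namespace Cfsg.Agent.S2305

open Cfsg.Agent.Helper12 Cfsg.Agent.S2308 Cfsg.Agent.Helper24

/-- Over a finite field F, for multiplicative characters α, β, α′, β′ of F, the characters of GL₂ induced from the linear characters b ↦ α(b₁₁) β(b₂₂) and b ↦ α′(b₁₁) β′(b₂₂) of the upper triangular subgroup coincide exactly when {α, β} = {α′, β′} as unordered pairs. -/
theorem result {F : Type*} [Field F] [Fintype F] [DecidableEq F] (α β α' β' : MulChar F ℂ) :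
    Cfsg.indFun (Cfsg.upperTriangularGL 2 F) (fun b => α (((b : Matrix.GeneralLinearGroup (Fin 2) F) : Matrix (Fin 2) (Fin 2) F) 0 0) * β (((b : Matrix.GeneralLinearGroup (Fin 2) F) : Matrix (Fin 2) (Fin 2) F) 1 1)) = Cfsg.indFun (Cfsg.upperTriangularGL 2 F) (fun b => α' (((b : Matrix.GeneralLinearGroup (Fin 2) F) : Matrix (Fin 2) (Fin 2) F) 0 0) * β' (((b : Matrix.GeneralLinearGroup (Fin 2) F) : Matrix (Fin 2) (Fin 2) F) 1 1)) ↔
      (α = α' ∧ β = β') ∨ (α = β' ∧ β = α') := by
  classical
  constructor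
  · intro h
    have h1 := classInner_indFun_GL α β α β
    have h2 := classInner_indFun_GL α β α' β'
    have h' : indFun (Cfsg.upperTriangularGL 2 F)
        (borelChar (MonoidHom.id (GL (Fin 2) F)) (Cfsg.upperTriangularGL 2 F) α β) =
        indFun (Cfsg.upperTriangularGL 2 F)
        (borelChar (MonoidHom.id (GL (Fin 2) F)) (Cfsg.upperTriangularGL 2 F) α' β') := h
    rw [← h', h1] at h2
    by_contra hcon
    push Not at hcon
    have e3 : (if α = α' ∧ β = β' then (1 : ℂ) else 0) = 0 := if_neg (fun h => hcon.1 h.1 h.2)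
    have e4 : (if α = β' ∧ β = α' then (1 : ℂ) else 0) = 0 := if_neg (fun h => hcon.2 h.1 h.2)
    have e1 : (if α = α ∧ β = β then (1 : ℂ) else 0) = 1 := if_pos ⟨rfl, rfl⟩
    rw [e1, e3, e4] at h2
    split_ifs at h2 <;> norm_num at h2
  · rintro (⟨rfl, rfl⟩ | ⟨rfl, rfl⟩)
    · rfl
    · by_cases hαβ : α = β
      · rw [hαβ]
      · have hirr1 := Cfsg.Agent.S2304.result α β hαβ
        have hirr2 := Cfsg.Agent.S2304.result β α (fun h => hαβ h.symm)
        have h1 := irr_orthogonality hirr1 hirr2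
        rw [borelChar_GL_eq α β, borelChar_GL_eq β α, classInner_indFun_GL,
          if_neg (fun h => hαβ h.1), if_pos ⟨rfl, rfl⟩] at h1
        by_contra hne
        rw [← borelChar_GL_eq α β, ← borelChar_GL_eq β α, if_neg hne] at h1
        norm_num at h1

end Cfsg.Agent.S2305
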