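import Mathlib
import Cfsg.Statements.S2433
import Cfsg.Agent.Lib.Helper12.BorelInd

set_option autoImplicit false
open Cfsg

namespace Cfsg.Agent.S2433

open Cfsg.Agent.Helper12

variable {F : Type*} [Field F]

theorem ent_toGL (g : Matrix.SpecialLinearGroup (Fin 2) F) (i j : Fin 2) :
    ent Matrix.SpecialLinearGroup.toGL g i j = (g : Matrix (Fin 2) (Fin 2) F) i j := rfl

/-- the character `b ↦ α(b₀₀)` of the Borel subgroup of `SL₂` is `borelChar α 1` -/
theorem borelChar_SL_eq (α : MulChar F ℂ) :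
    (fun b : ((Cfsg.upperTriangularGL 2 F).comap Matrix.SpecialLinearGroup.toGL) =>
      α (((b : Matrix.SpecialLinearGroup (Fin 2) F) : Matrix (Fin 2) (Fin 2) F) 0 0)) =
    borelChar Matrix.SpecialLinearGroup.toGL
      ((Cfsg.upperTriangularGL 2 F).comap Matrix.SpecialLinearGroup.toGL) α 1 := by
  funext b
  rw [borelChar_apply, MulChar.one_apply (isUnit_iff_ne_zero.2 ((isBorelOf_comap _).ent11_ne b)),
    mul_one]
  rfl

/-- the value formula for the principal series function `R(α)` of `SL₂` -/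
theorem indFun_SL_apply [Fintype F] [DecidableEq F] (α : MulChar F ℂ)
    (g : Matrix.SpecialLinearGroup (Fin 2) F) :
    (Cfsg.indFun ((Cfsg.upperTriangularGL 2 F).comap Matrix.SpecialLinearGroup.toGL)
      (fun b => α (((b : Matrix.SpecialLinearGroup (Fin 2) F) : Matrix (Fin 2) (Fin 2) F) 0 0))) g =
    (if (g : Matrix (Fin 2) (Fin 2) F) 1 0 = 0 then α ((g : Matrix (Fin 2) (Fin 2) F) 0 0) *
        (1 : MulChar F ℂ) ((g : Matrix (Fin 2) (Fin 2) F) 1 1) else 0) +
      ∑ x : F, if (g : Matrix (Fin 2) (Fin 2) F) 1 0 * x ^ 2 +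
          ((g : Matrix (Fin 2) (Fin 2) F) 1 1 - (g : Matrix (Fin 2) (Fin 2) F) 0 0) * x -
          (g : Matrix (Fin 2) (Fin 2) F) 0 1 = 0 then
        α ((g : Matrix (Fin 2) (Fin 2) F) 1 0 * x + (g : Matrix (Fin 2) (Fin 2) F) 1 1) *
          (1 : MulChar F ℂ) ((g : Matrix (Fin 2) (Fin 2) F) 0 0 - (g : Matrix (Fin 2) (Fin 2) F) 1 0 * x)
        else 0 := by
  rw [borelChar_SL_eq, indFun_borelChar borelReps_SL]
  rfl

/-- Let F be a finite field with q elements, q odd, α a multiplicative character of F, and R(α) the function on SL₂ induced from the linear character b ↦ α(b₁₁) of the upper triangular subgroup. Then R(α) takes the value α(a) + α(a⁻¹) at a diagonal element with entries a, a⁻¹, a² ≠ 1; the value 0 at every element with no eigenvector in F²; the value α(ε) at an upper triangular element with both diagonal entries ε and non-zero upper right entry; and the value (q + 1)α(ε) at the scalar element ε (ε = ±1). -/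
theorem result {F : Type*} [Field F] [Fintype F] [DecidableEq F] (hodd : Odd (Fintype.card F)) (α : MulChar F ℂ) (g : Matrix.SpecialLinearGroup (Fin 2) F) :
    ((g : Matrix (Fin 2) (Fin 2) F) 0 1 = 0 → (g : Matrix (Fin 2) (Fin 2) F) 1 0 = 0 → (g : Matrix (Fin 2) (Fin 2) F) 0 0 ^ 2 ≠ 1 →
      (Cfsg.indFun ((Cfsg.upperTriangularGL 2 F).comap Matrix.SpecialLinearGroup.toGL) (fun b => α (((b : Matrix.SpecialLinearGroup (Fin 2) F) : Matrix (Fin 2) (Fin 2) F) 0 0))) g = α ((g : Matrix (Fin 2) (Fin 2) F) 0 0) + α ((g : Matrix (Fin 2) (Fin 2) F) 1 1)) ∧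
    ((∀ (c : F) (v : Fin 2 → F), v ≠ 0 → (g : Matrix (Fin 2) (Fin 2) F).mulVec v ≠ c • v) → (Cfsg.indFun ((Cfsg.upperTriangularGL 2 F).comap Matrix.SpecialLinearGroup.toGL) (fun b => α (((b : Matrix.SpecialLinearGroup (Fin 2) F) : Matrix (Fin 2) (Fin 2) F) 0 0))) g = 0) ∧
    ((g : Matrix (Fin 2) (Fin 2) F) 1 0 = 0 → (g : Matrix (Fin 2) (Fin 2) F) 0 0 = (g : Matrix (Fin 2) (Fin 2) F) 1 1 → (g : Matrix (Fin 2) (Fin 2) F) 0 1 ≠ 0 →
      (Cfsg.indFun ((Cfsg.upperTriangularGL 2 F).comap Matrix.SpecialLinearGroup.toGL) (fun b => α (((b : Matrix.SpecialLinearGroup (Fin 2) F) : Matrix (Fin 2) (Fin 2) F) 0 0))) g = α ((g : Matrix (Fin 2) (Fin 2) F) 0 0)) ∧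
    ((g : Matrix (Fin 2) (Fin 2) F) 0 1 = 0 → (g : Matrix (Fin 2) (Fin 2) F) 1 0 = 0 → (g : Matrix (Fin 2) (Fin 2) F) 0 0 = (g : Matrix (Fin 2) (Fin 2) F) 1 1 →
      (Cfsg.indFun ((Cfsg.upperTriangularGL 2 F).comap Matrix.SpecialLinearGroup.toGL) (fun b => α (((b : Matrix.SpecialLinearGroup (Fin 2) F) : Matrix (Fin 2) (Fin 2) F) 0 0))) g = ((Fintype.card F : ℂ) + 1) * α ((g : Matrix (Fin 2) (Fin 2) F) 0 0)) := by
  have hdet : (g : Matrix (Fin 2) (Fin 2) F) 0 0 * (g : Matrix (Fin 2) (Fin 2) F) 1 1 -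
      (g : Matrix (Fin 2) (Fin 2) F) 0 1 * (g : Matrix (Fin 2) (Fin 2) F) 1 0 = 1 := by
    have := g.2
    rwa [Matrix.det_fin_two] at this
  rw [indFun_SL_apply]
  set a := (g : Matrix (Fin 2) (Fin 2) F) 0 0 with ha
  set b := (g : Matrix (Fin 2) (Fin 2) F) 0 1 with hb
  set c := (g : Matrix (Fin 2) (Fin 2) F) 1 0 with hc
  set d := (g : Matrix (Fin 2) (Fin 2) F) 1 1 with hd
  refine ⟨?_, ?_, ?_, ?_⟩
  · intro hb0 hc0 ha2
    rw [hb0, hc0] at hdet
    have had : a * d = 1 := by linear_combination hdet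
    have ha0 : a ≠ 0 := left_ne_zero_of_mul_eq_one had
    have hd0 : d ≠ 0 := right_ne_zero_of_mul_eq_one had
    have hne : d - a ≠ 0 := by
      intro h
      apply ha2
      have : d = a := sub_eq_zero.1 h
      rw [this] at had
      rw [pow_two, had]
    rw [if_pos hc0, MulChar.one_apply (isUnit_iff_ne_zero.2 hd0), mul_one, hc0, hb0]
    congr 1
    rw [Finset.sum_eq_single (0 : F)]
    · simp [MulChar.one_apply (isUnit_iff_ne_zero.2 ha0)]
    · intro x _ hx
      rw [if_neg]
      intro h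
      apply hx
      have : (d - a) * x = 0 := by linear_combination h
      rcases mul_eq_zero.1 this with h1 | h1
      · exact absurd h1 hne
      · exact h1
    · intro h
      exact absurd (Finset.mem_univ _) h
  · intro hno
    have hc0 : c ≠ 0 := by
      intro hc0
      apply hno a ![1, 0] (by
        intro h
        have := congrFun h 0
        simp at this)
      ext i
      fin_cases i
      · simp [Matrix.mulVec, dotProduct, Fin.sum_univ_two, ← ha]
      · simp [Matrix.mulVec, dotProduct, Fin.sum_univ_two, ← hc, hc0]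
    rw [if_neg hc0, zero_add]
    apply Finset.sum_eq_zero
    intro x _
    rw [if_neg]
    intro h
    apply hno (c * x + d) ![x, 1] (by
      intro h
      have := congrFun h 1
      simp at this)
    ext i
    fin_cases i
    · simp [Matrix.mulVec, dotProduct, Fin.sum_univ_two, ← ha, ← hb]
      linear_combination (-1 : F) * h
    · simp [Matrix.mulVec, dotProduct, Fin.sum_univ_two, ← hc, ← hd]
  · intro hc0 had hb0
    rw [hc0, ← had] at hdet
    have ha0 : a ≠ 0 := by
      intro h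
      rw [h] at hdet
      simp at hdet
    rw [if_pos hc0, ← had, MulChar.one_apply (isUnit_iff_ne_zero.2 ha0), mul_one]
    rw [Finset.sum_eq_zero, add_zero]
    intro x _
    rw [if_neg]
    intro h
    apply hb0
    rw [hc0] at h
    linear_combination (-1 : F) * h
  · intro hb0 hc0 had
    rw [hc0, ← had] at hdet
    have ha0 : a ≠ 0 := by
      intro h
      rw [h] at hdet
      simp at hdet
    rw [if_pos hc0, ← had, MulChar.one_apply (isUnit_iff_ne_zero.2 ha0), mul_one, hc0, hb0]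
    have : ∀ x : F, (if (0 : F) * x ^ 2 + (a - a) * x - 0 = 0 then α (0 * x + a) * (1 : MulChar F ℂ) (a - 0 * x)
        else 0) = α a := by
      intro x
      rw [if_pos (by ring)]
      simp [MulChar.one_apply (isUnit_iff_ne_zero.2 ha0)]
    rw [Finset.sum_congr rfl (fun x _ => this x), Finset.sum_const, Finset.card_univ, nsmul_eq_mul]
    ring

end Cfsg.Agent.S2433
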