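import Mathlib
import Cfsg.Statements.S2307
import Cfsg.Agent.S2304
import Cfsg.Agent.S2433
import Cfsg.Agent.Lib.Helper12.CharNormTwo
import Cfsg.Agent.Lib.Helper5.Clifford

set_option autoImplicit false
open Cfsg

namespace Cfsg.Agent.S2307

open Cfsg.Agent.Helper12 Cfsg.Agent.S2308 Cfsg.Agent.S2433 Cfsg.Agent.Helper24 Cfsg.Agent.Helper5

variable {F : Type*} [Field F]

/-- the image of `SL₂` in `GL₂` is normal -/
theorem range_toGL_normal : (Matrix.SpecialLinearGroup.toGL (n := Fin 2) (R := F)).range.Normal := by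
  constructor
  rintro n ⟨g, rfl⟩ x
  have hdet : ((x * Matrix.SpecialLinearGroup.toGL g * x⁻¹ : GL (Fin 2) F) :
      Matrix (Fin 2) (Fin 2) F).det = 1 := by
    have h1 : Matrix.GeneralLinearGroup.det (x * Matrix.SpecialLinearGroup.toGL g * x⁻¹) =
        Matrix.GeneralLinearGroup.det (Matrix.SpecialLinearGroup.toGL g) := by
      rw [map_mul, map_mul, map_inv, mul_comm, ← mul_assoc, inv_mul_cancel, one_mul]
    have h2 := congrArg (fun u : Fˣ => (u : F)) h1
    simp only [Matrix.GeneralLinearGroup.val_det_apply] at h2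
    rw [h2]
    exact g.2
  exact ⟨⟨_, hdet⟩, Matrix.GeneralLinearGroup.ext (fun i j => rfl)⟩

/-- Over a finite field F with q elements, q odd, let α be the multiplicative character of F of order 2. The character of SL₂ induced from the linear character b ↦ α(b₁₁) of the upper triangular subgroup is the sum of two distinct irreducible characters, each of degree (q + 1)/2, which are conjugate under GL₂: some fixed element of GL₂ conjugates the one into the other. -/
theorem result {F : Type*} [Field F] [Fintype F] [DecidableEq F] (hodd : Odd (Fintype.card F)) (α : MulChar F ℂ)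
    (hα : α ^ 2 = 1) (hα1 : α ≠ 1) :
    ∃ χ₁ χ₂ : Matrix.SpecialLinearGroup (Fin 2) F → ℂ, Cfsg.IsIrrCharacter (Matrix.SpecialLinearGroup (Fin 2) F) χ₁ ∧ Cfsg.IsIrrCharacter (Matrix.SpecialLinearGroup (Fin 2) F) χ₂ ∧ χ₁ ≠ χ₂ ∧
      Cfsg.indFun ((Cfsg.upperTriangularGL 2 F).comap Matrix.SpecialLinearGroup.toGL) (fun b => α (((b : Matrix.SpecialLinearGroup (Fin 2) F) : Matrix (Fin 2) (Fin 2) F) 0 0)) = χ₁ + χ₂ ∧
      χ₁ 1 = (((Fintype.card F + 1) / 2 : ℕ) : ℂ) ∧ χ₂ 1 = (((Fintype.card F + 1) / 2 : ℕ) : ℂ) ∧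
      ∃ x : Matrix.GeneralLinearGroup (Fin 2) F, ∀ g h : Matrix.SpecialLinearGroup (Fin 2) F,
        Matrix.SpecialLinearGroup.toGL h = x * Matrix.SpecialLinearGroup.toGL g * x⁻¹ → χ₂ h = χ₁ g := by
  classical
  set R := Cfsg.indFun ((Cfsg.upperTriangularGL 2 F).comap Matrix.SpecialLinearGroup.toGL)
    (fun b => α (((b : Matrix.SpecialLinearGroup (Fin 2) F) : Matrix (Fin 2) (Fin 2) F) 0 0)) with hR
  have hRc : IsCharacter (Matrix.SpecialLinearGroup (Fin 2) F) R := by
    rw [hR, borelChar_SL_eq]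
    exact isCharacter_indFun _ (isCharacter_of_isIrrCharacter
      (isIrrCharacter_borelChar (isBorelOf_comap _) α 1))
  have hinv : α = α⁻¹ := by
    rw [eq_inv_iff_mul_eq_one, ← pow_two]; exact hα
  have hnorm : classInner R R = 2 := by
    rw [hR, borelChar_SL_eq, classInner_indFun_SL, if_pos rfl, if_pos hinv]
    norm_num
  obtain ⟨χ₁, χ₂, h1, h2, hne, hsum⟩ := exists_two_irr_of_norm_two hRc hnorm
  -- the irreducible character of `GL₂` lying above
  set Pi := Cfsg.indFun (Cfsg.upperTriangularGL 2 F)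
    (fun b => α (((b : Matrix.GeneralLinearGroup (Fin 2) F) : Matrix (Fin 2) (Fin 2) F) 0 0) *
      (1 : MulChar F ℂ) (((b : Matrix.GeneralLinearGroup (Fin 2) F) : Matrix (Fin 2) (Fin 2) F) 1 1))
    with hPi
  have hPiirr : IsIrrCharacter (Matrix.GeneralLinearGroup (Fin 2) F) Pi :=
    Cfsg.Agent.S2304.result α 1 hα1
  have hres : ∀ g : Matrix.SpecialLinearGroup (Fin 2) F,
      Pi (Matrix.SpecialLinearGroup.toGL g) = R g := by
    intro g
    rw [hPi, hR, indFun_GL_apply, indFun_SL_apply]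
    rfl
  -- the normal subgroup
  haveI hN : (Matrix.SpecialLinearGroup.toGL (n := Fin 2) (R := F)).range.Normal := range_toGL_normal
  letI : Fintype (Matrix.SpecialLinearGroup.toGL (n := Fin 2) (R := F)).range := Fintype.ofFinite _
  let e : Matrix.SpecialLinearGroup (Fin 2) F ≃*
      (Matrix.SpecialLinearGroup.toGL (n := Fin 2) (R := F)).range :=
    MonoidHom.ofInjective Matrix.SpecialLinearGroup.toGL_injective
  have he : ∀ g : Matrix.SpecialLinearGroup (Fin 2) F,
      ((e g : (Matrix.SpecialLinearGroup.toGL (n := Fin 2) (R := F)).range) :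
        Matrix.GeneralLinearGroup (Fin 2) F) = Matrix.SpecialLinearGroup.toGL g := fun g => rfl
  have hϑ₁ := isIrrCharacter_comp_equiv e.symm h1
  have hϑ₂ := isIrrCharacter_comp_equiv e.symm h2
  have hresN : (fun n : (Matrix.SpecialLinearGroup.toGL (n := Fin 2) (R := F)).range =>
      Pi (n : Matrix.GeneralLinearGroup (Fin 2) F)) = R ∘ e.symm := by
    funext n
    obtain ⟨g, rfl⟩ := e.surjective n
    rw [Function.comp_apply, e.symm_apply_apply, he, hres]
  have hin1 : classInner (fun n : (Matrix.SpecialLinearGroup.toGL (n := Fin 2) (R := F)).range =>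
      Pi (n : Matrix.GeneralLinearGroup (Fin 2) F)) (χ₁ ∘ e.symm) ≠ 0 := by
    rw [hresN, classInner_comp_equiv e.symm, hsum, classInner_add_left, irr_orthogonality h1 h1,
      irr_orthogonality h2 h1, if_pos rfl, if_neg hne.symm]
    norm_num
  have hin2 : classInner (fun n : (Matrix.SpecialLinearGroup.toGL (n := Fin 2) (R := F)).range =>
      Pi (n : Matrix.GeneralLinearGroup (Fin 2) F)) (χ₂ ∘ e.symm) ≠ 0 := by
    rw [hresN, classInner_comp_equiv e.symm, hsum, classInner_add_left, irr_orthogonality h1 h2,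
      irr_orthogonality h2 h2, if_pos rfl, if_neg hne]
    norm_num
  obtain ⟨x, hx⟩ := clifford_conj _ hPiirr hϑ₁ hϑ₂ hin1 hin2
  have hconj : ∀ g h : Matrix.SpecialLinearGroup (Fin 2) F,
      Matrix.SpecialLinearGroup.toGL h = x⁻¹ * Matrix.SpecialLinearGroup.toGL g * x⁻¹⁻¹ →
        χ₂ h = χ₁ g := by
    intro g h hgh
    have h3 := congrFun hx (e h)
    rw [conjFun_apply, Function.comp_apply, Function.comp_apply, e.symm_apply_apply] at h3
    rw [← h3]
    congr 1
    apply e.injective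
    rw [e.apply_symm_apply]
    apply Subtype.ext
    change x * ((e h : (Matrix.SpecialLinearGroup.toGL (n := Fin 2) (R := F)).range) :
      Matrix.GeneralLinearGroup (Fin 2) F) * x⁻¹ =
      ((e g : (Matrix.SpecialLinearGroup.toGL (n := Fin 2) (R := F)).range) :
      Matrix.GeneralLinearGroup (Fin 2) F)
    rw [he, he, hgh]
    group
  have hdeg : χ₂ 1 = χ₁ 1 := hconj 1 1 (by rw [map_one]; group)
  have hR1 : R 1 = (Fintype.card F : ℂ) + 1 := by
    rw [hR, indFun_SL_apply]
    simp only [Matrix.SpecialLinearGroup.coe_one, Matrix.one_apply_eq, Matrix.one_apply_ne,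
      ne_eq, one_ne_zero, not_false_eq_true, zero_ne_one, if_true, zero_mul, sub_self, zero_add,
      sub_zero, map_one, mul_one, Finset.sum_const, Finset.card_univ, nsmul_eq_mul, add_zero]
    ring
  have hsum1 : χ₁ 1 + χ₂ 1 = (Fintype.card F : ℂ) + 1 := by
    rw [← hR1, hsum]; rfl
  have hval : χ₁ 1 = (((Fintype.card F + 1) / 2 : ℕ) : ℂ) := by
    obtain ⟨k, hk⟩ := hodd
    have : (Fintype.card F + 1) / 2 = k + 1 := by omega
    rw [this]
    rw [hdeg, hk] at hsum1
    push_cast at hsum1 ⊢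
    linear_combination (1 / 2 : ℂ) * hsum1
  refine ⟨χ₁, χ₂, h1, h2, hne, hsum, hval, by rw [hdeg, hval], x⁻¹, hconj⟩

end Cfsg.Agent.S2307
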