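import Mathlib
import Cfsg.Statements.S2309
import Cfsg.Agent.Lib.Helper12.GL2Values

set_option autoImplicit false
open Cfsg

namespace Cfsg.Agent.S2309

open Cfsg.Agent.Helper12 Cfsg.Agent.Helper24

/-- Over a finite field F with q elements: every irreducible complex character of GL₂ of degree q − 1 vanishes at every diagonal matrix with two distinct entries, and every irreducible complex character of degree q + 1 vanishes at every element with no eigenvector in F². -/
theorem result {F : Type*} [Field F] [Fintype F] (χ : Matrix.GeneralLinearGroup (Fin 2) F → ℂ) (hχ : Cfsg.IsIrrCharacter (Matrix.GeneralLinearGroup (Fin 2) F) χ) (g : Matrix.GeneralLinearGroup (Fin 2) F) :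
    (χ 1 = (Fintype.card F : ℂ) - 1 → (g : Matrix (Fin 2) (Fin 2) F) 0 1 = 0 → (g : Matrix (Fin 2) (Fin 2) F) 1 0 = 0 → (g : Matrix (Fin 2) (Fin 2) F) 0 0 ≠ (g : Matrix (Fin 2) (Fin 2) F) 1 1 → χ g = 0) ∧
    (χ 1 = (Fintype.card F : ℂ) + 1 → (∀ (c : F) (v : Fin 2 → F), v ≠ 0 → (g : Matrix (Fin 2) (Fin 2) F).mulVec v ≠ c • v) → χ g = 0) := by
  classical
  letI : Fintype (MulChar F ℂ) := Fintype.ofFinite _
  refine ⟨?_, ?_⟩
  · intro hdeg h01 h10 hne
    obtain ⟨s, t, hs, ht, hg⟩ := eq_borelMatGL g h10
    have hst : s ≠ t := by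
      intro h
      apply hne
      rw [← hs, ← ht, h]
    rcases GL2_irr_cases hχ with ⟨α, rfl⟩ | ⟨α, rfl⟩ | ⟨α, β, -, rfl⟩ | ⟨hc, -⟩
    · exfalso
      rw [detChar_one] at hdeg
      have h2 : (Fintype.card F : ℂ) = 2 := by linear_combination (-1 : ℂ) * hdeg
      have h2' : Fintype.card F = 2 := by exact_mod_cast h2
      have hu : Fintype.card Fˣ = 1 := by rw [Fintype.card_units, h2']
      have := Fintype.card_le_one_iff.1 hu.le s t
      exact hst this
    · exfalso
      rw [st_one] at hdeg
      exact one_ne_zero (by linear_combination hdeg : (1 : ℂ) = 0)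
    · exfalso
      rw [ps_one] at hdeg
      have : (2 : ℂ) = 0 := by linear_combination hdeg
      norm_num at this
    · rw [hg, h01]
      exact cuspidal_split (isClassFunction_of_isIrrCharacter hχ) hc s t hst
  · intro hdeg hno
    rcases GL2_irr_cases hχ with ⟨α, rfl⟩ | ⟨α, rfl⟩ | ⟨α, β, -, rfl⟩ | ⟨-, hd⟩
    · exfalso
      rw [detChar_one] at hdeg
      exact card_cast_ne_zero (F := F) (by linear_combination (-1 : ℂ) * hdeg)
    · exfalso
      rw [st_one] at hdeg
      exact one_ne_zero (by linear_combination (-1 : ℂ) * hdeg : (1 : ℂ) = 0)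
    · exact ps_apply_elliptic α β g hno
    · exfalso
      rw [hd] at hdeg
      have : (2 : ℂ) = 0 := by linear_combination (-1 : ℂ) * hdeg
      norm_num at this

end Cfsg.Agent.S2309
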