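import Mathlib
import Cfsg.Statements.S2310
import Cfsg.Agent.Lib.Helper12.GL2Values

set_option autoImplicit false
open Cfsg

namespace Cfsg.Agent.S2310

open Cfsg.Agent.Helper12 Cfsg.Agent.Helper24

/-- Over a finite field F with q ≥ 3 elements, let u be the upper unitriangular matrix of GL₂ with off-diagonal entry 1. An irreducible complex character χ of GL₂ takes at u the value 1 if χ has degree 1 or q + 1, the value −1 if χ has degree q − 1, and the value 0 if χ has degree q. -/
theorem result {F : Type*} [Field F] [Fintype F] (hq : 3 ≤ Fintype.card F) (χ : Matrix.GeneralLinearGroup (Fin 2) F → ℂ) (hχ : Cfsg.IsIrrCharacter (Matrix.GeneralLinearGroup (Fin 2) F) χ)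
    (u : Matrix.GeneralLinearGroup (Fin 2) F) (hu : (u : Matrix (Fin 2) (Fin 2) F) = !![1, 1; 0, 1]) :
    (χ 1 = 1 → χ u = 1) ∧ (χ 1 = (Fintype.card F : ℂ) + 1 → χ u = 1) ∧
    (χ 1 = (Fintype.card F : ℂ) - 1 → χ u = -1) ∧ (χ 1 = (Fintype.card F : ℂ) → χ u = 0) := by
  classical
  letI : Fintype (MulChar F ℂ) := Fintype.ofFinite _
  have hu' : u = borelMatGL 1 1 1 := by
    apply Matrix.GeneralLinearGroup.ext
    intro i j
    rw [hu, borelMatGL_coe]
    simp
  have h10 : (u : Matrix (Fin 2) (Fin 2) F) 1 0 = 0 := by rw [hu]; simp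
  have h00 : (u : Matrix (Fin 2) (Fin 2) F) 0 0 = (u : Matrix (Fin 2) (Fin 2) F) 1 1 := by
    rw [hu]; simp
  have h01 : (u : Matrix (Fin 2) (Fin 2) F) 0 1 ≠ 0 := by rw [hu]; simp
  have hdetu : (u : Matrix (Fin 2) (Fin 2) F).det = 1 := by
    rw [hu, Matrix.det_fin_two_of]; ring
  have hps : ∀ α β : MulChar F ℂ, ps α β u = 1 := by
    intro α β
    rw [ps_apply_unipotent α β u h10 h00 h01, hu]
    simp
  rcases GL2_irr_cases hχ with ⟨α, rfl⟩ | ⟨α, rfl⟩ | ⟨α, β, -, rfl⟩ | ⟨hc, hd⟩
  · have hval : detChar α u = 1 := by rw [detChar_apply, hdetu, map_one]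
    refine ⟨fun _ => hval, ?_, ?_, ?_⟩
    · intro h
      exfalso
      rw [detChar_one] at h
      exact card_cast_ne_zero (F := F) (by linear_combination (-1 : ℂ) * h)
    · intro h
      exfalso
      rw [detChar_one] at h
      exact card_cast_sub_one_ne_one hq h.symm
    · intro h
      exfalso
      rw [detChar_one] at h
      exact card_cast_ne_one h.symm
  · have hval : st α u = 0 := by
      unfold st
      rw [Pi.sub_apply, hps, detChar_apply, hdetu, map_one, sub_self]
    refine ⟨?_, ?_, ?_, fun _ => hval⟩
    · intro h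
      exfalso
      rw [st_one] at h
      exact card_cast_ne_one h
    · intro h
      exfalso
      rw [st_one] at h
      exact one_ne_zero (by linear_combination (-1 : ℂ) * h : (1 : ℂ) = 0)
    · intro h
      exfalso
      rw [st_one] at h
      exact one_ne_zero (by linear_combination h : (1 : ℂ) = 0)
  · refine ⟨?_, fun _ => hps α β, ?_, ?_⟩
    · intro h
      exfalso
      rw [ps_one] at h
      exact card_cast_ne_zero (F := F) (by linear_combination h)
    · intro h
      exfalso
      rw [ps_one] at h
      have : (2 : ℂ) = 0 := by linear_combination h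
      norm_num at this
    · intro h
      exfalso
      rw [ps_one] at h
      exact one_ne_zero (by linear_combination h : (1 : ℂ) = 0)
  · have hval : χ u = -1 := by
      have h := cuspidal_unipotent (isClassFunction_of_isIrrCharacter hχ) hc
      rw [hd, ← hu'] at h
      have hq1 := card_sub_one_ne_zero (F := F)
      have : ((Fintype.card F : ℂ) - 1) * (χ u + 1) = 0 := by linear_combination h
      rcases mul_eq_zero.1 this with h1 | h1
      · exact absurd h1 hq1
      · linear_combination h1
    refine ⟨?_, ?_, fun _ => hval, ?_⟩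
    · intro h
      exfalso
      rw [hd] at h
      exact card_cast_sub_one_ne_one hq h
    · intro h
      exfalso
      rw [hd] at h
      have : (2 : ℂ) = 0 := by linear_combination (-1 : ℂ) * h
      norm_num at this
    · intro h
      exfalso
      rw [hd] at h
      exact one_ne_zero (by linear_combination (-1 : ℂ) * h : (1 : ℂ) = 0)

end Cfsg.Agent.S2310
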