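import Cfsg.Statements.S2314
import Cfsg.Agent.Lib.Helper6.UniASM
import Cfsg.Agent.Lib.Helper22.UniCHEVDATA

set_option autoImplicit false
open Cfsg

namespace Cfsg.Agent.S2314

open Cfsg.Lie Cfsg.Agent.Lead.Chev Cfsg.Agent.Helper6.Uni in
/-- Steinberg's count of unipotent elements: in a Chevalley group of type G₂, B₂, D₄, F₄, E₆, E₇ or E₈ over a finite field of characteristic p with q elements, the number of elements of p-power order is q^(2N), N the number of positive roots — the square of the order of a Sylow p-subgroup. -/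
theorem result {F : Type*} [Field F] [Fintype F] (p : ℕ) [Fact p.Prime] [CharP F p] (D : Cfsg.Lie.ChevalleyDatum) (hD : D ∈ [Cfsg.Lie.chevG2, Cfsg.Lie.chevB2, Cfsg.Lie.chevD4, Cfsg.Lie.chevF4, Cfsg.Lie.chevE6, Cfsg.Lie.chevE7, Cfsg.Lie.chevE8]) :
    Nat.card {g : ↥(D.group F) // ∃ k : ℕ, orderOf g = p ^ k} = Fintype.card F ^ (2 * (D.nroots / 2)) := by
  classical
  have hF : ChevFacts D F := chevFacts_of_mem D hD
  obtain ⟨S, hSU, hSR⟩ := exists_splitData (F := F) p D hD
  have h := S.card_isPE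
  rw [hSR, hSU] at h
  have h1 : Nat.card ↥(⊥ : Subgroup ↥(D.group F)) = 1 := Subgroup.card_bot
  rw [h1, mul_one] at h
  rw [h, Nat.card_congr (Subgroup.subgroupOfEquivOfLe hF.posUnipotent_le_group).toEquiv,
    Cfsg.Agent.S1027.result D hD, ← pow_mul, mul_comm]

end Cfsg.Agent.S2314
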