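import Mathlib
import Cfsg.Statements.S2315
import Cfsg.Agent.Lib.Helper17.NilCount5

set_option autoImplicit false
open Cfsg

namespace Cfsg.Agent.S2315

open Matrix in
theorem pPower_iff_nilpotent {F : Type*} [Field F] (p : ℕ) [Fact p.Prime] [CharP F p] {n : ℕ}
    [NeZero n] (g : Matrix.GeneralLinearGroup (Fin n) F) :
    (∃ k : ℕ, orderOf g = p ^ k) ↔ IsNilpotent ((g : Matrix (Fin n) (Fin n) F) - 1) := by
  have hsub : ∀ k : ℕ, ((g : Matrix (Fin n) (Fin n) F) - 1) ^ p ^ k =
      ((g ^ p ^ k : Matrix.GeneralLinearGroup (Fin n) F) : Matrix (Fin n) (Fin n) F) - 1 := by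
    intro k
    rw [sub_pow_char_pow_of_commute p k (Commute.one_right _), one_pow, Units.val_pow_eq_pow_val]
  constructor
  · rintro ⟨k, hk⟩
    refine ⟨p ^ k, ?_⟩
    rw [hsub, ← hk, pow_orderOf_eq_one, Units.val_one, sub_self]
  · rintro ⟨m, hm⟩
    have hp : p.Prime := Fact.out
    have hmk : m ≤ p ^ m := (Nat.lt_pow_self hp.one_lt).le
    have h1 : ((g : Matrix (Fin n) (Fin n) F) - 1) ^ p ^ m = 0 := by
      rw [← Nat.sub_add_cancel hmk, pow_add, hm, mul_zero]
    rw [hsub, sub_eq_zero] at h1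
    have h2 : g ^ p ^ m = 1 := Units.ext h1
    have h3 := orderOf_dvd_of_pow_eq_one h2
    obtain ⟨j, -, hj⟩ := (Nat.dvd_prime_pow hp).1 h3
    exact ⟨j, hj⟩

/-- Steinberg's count of unipotent elements for the general linear group: over a finite field with q elements of characteristic p, the number of elements of GL_n of p-power order (the unipotent matrices) is q^(n(n−1)). -/
theorem result {F : Type*} [Field F] [Fintype F] (p : ℕ) [Fact p.Prime] [CharP F p] (n : ℕ) :
    Nat.card {g : Matrix.GeneralLinearGroup (Fin n) F // ∃ k : ℕ, orderOf g = p ^ k} = Fintype.card F ^ (n * (n - 1)) := by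
  rcases Nat.eq_zero_or_pos n with h0 | hn
  · subst h0
    have : Unique {g : Matrix.GeneralLinearGroup (Fin 0) F // ∃ k : ℕ, orderOf g = p ^ k} :=
      { default := ⟨1, 0, by simp⟩
        uniq := fun g => Subtype.ext (Subsingleton.elim _ _) }
    rw [Nat.card_unique]
    simp
  have : NeZero n := ⟨by omega⟩
  have h1 := Cfsg.Agent.Helper17.NilCount.card_nilpotent (F := F) (α := Fin n)
  rw [Fintype.card_fin] at h1
  rw [← h1]
  apply Nat.card_eq_of_bijective
    (fun g : {g : Matrix.GeneralLinearGroup (Fin n) F // ∃ k : ℕ, orderOf g = p ^ k} =>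
      (⟨(g.1 : Matrix (Fin n) (Fin n) F) - 1, (pPower_iff_nilpotent p g.1).1 g.2⟩ :
        {N : Matrix (Fin n) (Fin n) F // IsNilpotent N}))
  constructor
  · intro g g' hgg
    have h2 := congrArg Subtype.val hgg
    simp only [sub_left_inj] at h2
    exact Subtype.ext (Units.ext h2)
  · rintro ⟨N, hN⟩
    obtain ⟨u, hu⟩ := hN.isUnit_one_add
    have hu' : (u : Matrix (Fin n) (Fin n) F) - 1 = N := by rw [hu]; abel
    refine ⟨⟨u, (pPower_iff_nilpotent p u).2 (by rw [hu']; exact hN)⟩, ?_⟩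
    exact Subtype.ext hu'

end Cfsg.Agent.S2315
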