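import Mathlib
import Cfsg.Statements.S2570
import Cfsg.Agent.Lib.Helper13.NilpotentGL

set_option autoImplicit false
open Cfsg

namespace Cfsg.Agent.S2570

open Cfsg.Agent.Helper13.Nilp

section
variable {F : Type*} [Field F] {p : ℕ} [Fact p.Prime] [CharP F p] {n : ℕ}

theorem pow_p_eq_one_iff (g : GL (Fin n) F) : g ^ p = 1 ↔ nilMat g ^ p = 0 := by
  rcases isEmpty_or_nonempty (Fin n) with h | h
  · constructor
    · intro _
      exact Subsingleton.elim _ _
    · intro _
      apply Units.ext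
      exact Subsingleton.elim _ _
  · haveI : CharP (Matrix (Fin n) (Fin n) F) p := Matrix.charP p
    unfold nilMat
    rw [sub_pow_char_of_commute p (Commute.one_right _), one_pow, sub_eq_zero]
    constructor
    · intro hg
      rw [← Units.val_pow_eq_pow_val, hg]
      rfl
    · intro hg
      apply Units.ext
      rw [Units.val_pow_eq_pow_val, hg]
      rfl

theorem eq_one_iff (g : GL (Fin n) F) : g = 1 ↔ nilMat g ^ 1 = 0 := by
  rw [pow_one]
  unfold nilMat
  rw [sub_eq_zero]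
  constructor
  · intro hg
    rw [hg]
    rfl
  · intro hg
    apply Units.ext
    rw [hg]
    rfl

theorem orderOf_eq_iff (g : GL (Fin n) F) (cb : ChainBasis (nilOf g)) :
    orderOf g = p ↔ (∀ a ∈ cb.type, a ≤ p) ∧ ¬ (∀ a ∈ cb.type, a ≤ 1) := by
  rw [orderOf_eq_prime_iff, pow_p_eq_one_iff, Ne, eq_one_iff, nilMat_pow_eq_zero_iff g cb,
    nilMat_pow_eq_zero_iff g cb]

end

/-- the partition into ones -/
def ones (n : ℕ) : Nat.Partition n :=
  ⟨Multiset.replicate n 1, fun {i} hi => by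
    rw [Multiset.eq_of_mem_replicate hi]; exact Nat.one_pos, by
    rw [Multiset.sum_replicate, smul_eq_mul, mul_one]⟩

theorem eq_ones_iff {n : ℕ} (μ : Nat.Partition n) : μ = ones n ↔ ∀ a ∈ μ.parts, a ≤ 1 := by
  constructor
  · rintro rfl a ha
    exact (Multiset.eq_of_mem_replicate ha).le
  · intro h
    have h1 : ∀ a ∈ μ.parts, a = 1 := fun a ha => le_antisymm (h a ha) (μ.parts_pos ha)
    have h2 : μ.parts = Multiset.replicate (Multiset.card μ.parts) 1 :=
      Multiset.eq_replicate_card.2 h1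
    have h3 : Multiset.card μ.parts = n := by
      have := μ.parts_sum
      rw [h2, Multiset.sum_replicate, smul_eq_mul, mul_one] at this
      exact this
    apply Nat.Partition.ext
    rw [h2, h3]
    rfl

theorem count_eq (n p : ℕ) (hp : 1 ≤ p)
    [DecidablePred (fun μ : Nat.Partition n => ∀ a ∈ μ.parts, a ≤ p)] :
    Nat.card {μ : Nat.Partition n // (∀ a ∈ μ.parts, a ≤ p) ∧ ¬ (∀ a ∈ μ.parts, a ≤ 1)} =
      (Finset.univ.filter (fun μ : Nat.Partition n => ∀ a ∈ μ.parts, a ≤ p)).card - 1 := by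
  classical
  rw [Nat.card_eq_fintype_card, Fintype.card_subtype]
  have h1 : (Finset.univ.filter (fun μ : Nat.Partition n =>
      (∀ a ∈ μ.parts, a ≤ p) ∧ ¬ (∀ a ∈ μ.parts, a ≤ 1))) =
      (Finset.univ.filter (fun μ : Nat.Partition n => ∀ a ∈ μ.parts, a ≤ p)).erase (ones n) := by
    ext μ
    rw [Finset.mem_filter, Finset.mem_erase, Finset.mem_filter, Ne, eq_ones_iff]
    tauto
  have h2 : ones n ∈ (Finset.univ.filter (fun μ : Nat.Partition n => ∀ a ∈ μ.parts, a ≤ p)) := by
    rw [Finset.mem_filter]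
    refine ⟨Finset.mem_univ _, ?_⟩
    intro a ha
    exact ((eq_ones_iff (ones n)).1 rfl a ha).trans hp
  convert (congrArg Finset.card h1).trans (Finset.card_erase_of_mem h2) using 2

section
variable {F : Type*} [Field F] {n : ℕ}

theorem exists_rep (μ : Nat.Partition n) :
    ∃ g : GL (Fin n) F, ∃ cb : ChainBasis (nilOf g), cb.type = μ.parts :=
  exists_of_type μ.parts (fun _ ha => μ.parts_pos ha) μ.parts_sum

/-- representative of the class of Jordan type `μ` -/
noncomputable def rep (F : Type*) [Field F] {n : ℕ} (μ : Nat.Partition n) : GL (Fin n) F :=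
  (exists_rep (F := F) μ).choose

theorem rep_spec (μ : Nat.Partition n) : ∃ cb : ChainBasis (nilOf (rep F μ)), cb.type = μ.parts :=
  (exists_rep (F := F) μ).choose_spec

theorem rep_injective {μ μ' : Nat.Partition n} (h : IsConj (rep F μ) (rep F μ')) : μ = μ' := by
  obtain ⟨cb, hcb⟩ := rep_spec (F := F) μ
  obtain ⟨cb', hcb'⟩ := rep_spec (F := F) μ'
  apply Nat.Partition.ext
  rw [← hcb, ← hcb']
  exact type_eq_of_isConj h cb cb'

end

theorem result {F : Type*} [Field F] [Fintype F] {p : ℕ} [Fact p.Prime] [CharP F p] (n : ℕ) : Nat.card {C : ConjClasses (GL (Fin n) F) // ∃ g : GL (Fin n) F, ConjClasses.mk g = C ∧ orderOf g = p} = (Finset.univ.filter (fun μ : Nat.Partition n => ∀ a ∈ μ.parts, a ≤ p)).card - 1 := by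
  classical
  have hp : p.Prime := Fact.out
  rw [← count_eq n p hp.one_lt.le]
  symm
  let Θ : {μ : Nat.Partition n // (∀ a ∈ μ.parts, a ≤ p) ∧ ¬ (∀ a ∈ μ.parts, a ≤ 1)} →
      {C : ConjClasses (GL (Fin n) F) // ∃ g : GL (Fin n) F, ConjClasses.mk g = C ∧ orderOf g = p} :=
    fun μ => ⟨ConjClasses.mk (rep F μ.1), rep F μ.1, rfl, by
      obtain ⟨cb, hcb⟩ := rep_spec (F := F) μ.1
      rw [orderOf_eq_iff _ cb, hcb]
      exact μ.2⟩
  apply Nat.card_eq_of_bijective Θ
  constructor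
  · intro μ μ' h
    have h1 : ConjClasses.mk (rep F μ.1) = ConjClasses.mk (rep F μ'.1) := congrArg Subtype.val h
    rw [ConjClasses.mk_eq_mk_iff_isConj] at h1
    exact Subtype.ext (rep_injective h1)
  · rintro ⟨C, g, rfl, hg⟩
    have hnil : IsNilpotent (nilOf g) := by
      refine ⟨p, ?_⟩
      rw [nilOf_pow_eq_zero_iff, ← pow_p_eq_one_iff, ← hg, pow_orderOf_eq_one]
    obtain ⟨cb⟩ := exists_chainBasis (nilOf g) hnil
    let μ : Nat.Partition n := ⟨cb.type, fun {i} hi => cb.type_pos i hi, type_sum_gl g cb⟩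
    have hμ : (∀ a ∈ μ.parts, a ≤ p) ∧ ¬ (∀ a ∈ μ.parts, a ≤ 1) := (orderOf_eq_iff g cb).1 hg
    refine ⟨⟨μ, hμ⟩, ?_⟩
    apply Subtype.ext
    show ConjClasses.mk (rep F μ) = ConjClasses.mk g
    rw [ConjClasses.mk_eq_mk_iff_isConj]
    obtain ⟨cb', hcb'⟩ := rep_spec (F := F) μ
    exact isConj_of_type_eq cb' cb hcb'

end Cfsg.Agent.S2570
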