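import Mathlib
import Cfsg.Statements.S2317
import Cfsg.Agent.S2570

set_option autoImplicit false
open Cfsg

namespace Cfsg.Agent.S2317

open Cfsg.Agent.Helper13.Nilp

section
variable {F : Type*} [Field F] {p : ℕ} [Fact p.Prime] [CharP F p] {n : ℕ}

theorem pow_ppow_eq_one_iff (g : GL (Fin n) F) (k : ℕ) :
    g ^ (p ^ k) = 1 ↔ nilMat g ^ (p ^ k) = 0 := by
  rcases isEmpty_or_nonempty (Fin n) with h | h
  · constructor
    · intro _
      exact Subsingleton.elim _ _
    · intro _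
      apply Units.ext
      exact Subsingleton.elim _ _
  · haveI : CharP (Matrix (Fin n) (Fin n) F) p := Matrix.charP p
    unfold nilMat
    rw [sub_pow_char_pow_of_commute p k (Commute.one_right _), one_pow, sub_eq_zero]
    constructor
    · intro hg
      rw [← Units.val_pow_eq_pow_val, hg]
      rfl
    · intro hg
      apply Units.ext
      rw [Units.val_pow_eq_pow_val, hg]
      rfl

theorem isPElt_iff (g : GL (Fin n) F) : (∃ k : ℕ, orderOf g = p ^ k) ↔ IsNilpotent (nilMat g) := by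
  have hp : p.Prime := Fact.out
  constructor
  · rintro ⟨k, hk⟩
    refine ⟨p ^ k, ?_⟩
    rw [← pow_ppow_eq_one_iff, ← hk, pow_orderOf_eq_one]
  · rintro ⟨m, hm⟩
    have h1 : nilMat g ^ (p ^ m) = 0 :=
      pow_eq_zero_of_le (Nat.lt_pow_self hp.one_lt).le hm
    rw [← pow_ppow_eq_one_iff] at h1
    exact (Nat.dvd_prime_pow hp).1 (orderOf_dvd_of_pow_eq_one h1) |>.imp fun _ h => h.2

theorem isNilpotent_of_chainBasis (g : GL (Fin n) F) (cb : ChainBasis (nilOf g)) :
    IsNilpotent (nilMat g) := by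
  refine ⟨n, ?_⟩
  rw [nilMat_pow_eq_zero_iff g cb]
  intro a ha
  rw [← type_sum_gl g cb]
  exact Multiset.le_sum_of_mem ha

end

theorem result {F : Type*} [Field F] [Fintype F] (p : ℕ) [Fact p.Prime] [CharP F p] (n : ℕ) :
    Nat.card {C : ConjClasses (Matrix.GeneralLinearGroup (Fin n) F) //
      ∃ g : Matrix.GeneralLinearGroup (Fin n) F, (∃ k : ℕ, orderOf g = p ^ k) ∧ ConjClasses.mk g = C} =
      Fintype.card (Nat.Partition n) := by
  classical
  rw [← Nat.card_eq_fintype_card]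
  symm
  let Θ : Nat.Partition n →
      {C : ConjClasses (Matrix.GeneralLinearGroup (Fin n) F) //
        ∃ g : Matrix.GeneralLinearGroup (Fin n) F, (∃ k : ℕ, orderOf g = p ^ k) ∧
          ConjClasses.mk g = C} :=
    fun μ => ⟨ConjClasses.mk (Cfsg.Agent.S2570.rep F μ), Cfsg.Agent.S2570.rep F μ, by
      obtain ⟨cb, -⟩ := Cfsg.Agent.S2570.rep_spec (F := F) μ
      rw [isPElt_iff]
      exact isNilpotent_of_chainBasis _ cb, rfl⟩
  apply Nat.card_eq_of_bijective Θ
  constructor
  · intro μ μ' h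
    have h1 : ConjClasses.mk (Cfsg.Agent.S2570.rep F μ) =
        ConjClasses.mk (Cfsg.Agent.S2570.rep F μ') := congrArg Subtype.val h
    rw [ConjClasses.mk_eq_mk_iff_isConj] at h1
    exact Cfsg.Agent.S2570.rep_injective h1
  · rintro ⟨C, g, hg, rfl⟩
    have hnil : IsNilpotent (nilOf g) := by
      obtain ⟨m, hm⟩ := (isPElt_iff g).1 hg
      exact ⟨m, (nilOf_pow_eq_zero_iff g m).2 hm⟩
    obtain ⟨cb⟩ := exists_chainBasis (nilOf g) hnil
    let μ : Nat.Partition n := ⟨cb.type, fun {i} hi => cb.type_pos i hi, type_sum_gl g cb⟩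
    refine ⟨μ, ?_⟩
    apply Subtype.ext
    show ConjClasses.mk (Cfsg.Agent.S2570.rep F μ) = ConjClasses.mk g
    rw [ConjClasses.mk_eq_mk_iff_isConj]
    obtain ⟨cb', hcb'⟩ := Cfsg.Agent.S2570.rep_spec (F := F) μ
    exact isConj_of_type_eq cb' cb hcb'

end Cfsg.Agent.S2317
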