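import Mathlib
import Cfsg.Statements.S2320
import Cfsg.Agent.Lib.Helper12.GL2Values

set_option autoImplicit false
open Cfsg

namespace Cfsg.Agent.S2320

open Cfsg.Agent.Helper12 Cfsg.Agent.Helper24

/-- Over a finite field F with q elements, every irreducible complex character of GL₂ of degree q takes a value of absolute value 1 at every diagonal matrix with two different diagonal entries and at every element with no eigenvector in F². -/
theorem result {F : Type*} [Field F] [Fintype F] (χ : Matrix.GeneralLinearGroup (Fin 2) F → ℂ) (hχ : Cfsg.IsIrrCharacter (Matrix.GeneralLinearGroup (Fin 2) F) χ) (hdeg : χ 1 = (Fintype.card F : ℂ)) (g : Matrix.GeneralLinearGroup (Fin 2) F) :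
    ((g : Matrix (Fin 2) (Fin 2) F) 0 1 = 0 → (g : Matrix (Fin 2) (Fin 2) F) 1 0 = 0 → (g : Matrix (Fin 2) (Fin 2) F) 0 0 ≠ (g : Matrix (Fin 2) (Fin 2) F) 1 1 → ‖χ g‖ = 1) ∧
    ((∀ (c : F) (v : Fin 2 → F), v ≠ 0 → (g : Matrix (Fin 2) (Fin 2) F).mulVec v ≠ c • v) → ‖χ g‖ = 1) := by
  classical
  have hdet0 : (g : Matrix (Fin 2) (Fin 2) F).det ≠ 0 := GL2_det_ne_zero' g
  rcases GL2_irr_cases hχ with ⟨α, rfl⟩ | ⟨α, rfl⟩ | ⟨α, β, -, rfl⟩ | ⟨-, hd⟩
  · exfalso
    rw [detChar_one] at hdeg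
    exact card_cast_ne_one hdeg.symm
  · refine ⟨?_, ?_⟩
    · intro h01 h10 hne
      unfold st
      rw [Pi.sub_apply, ps_apply_split α α g h01 h10 hne, detChar_apply, Matrix.det_fin_two, h01,
        zero_mul, sub_zero, map_mul]
      have h00 : (g : Matrix (Fin 2) (Fin 2) F) 0 0 ≠ 0 := by
        intro h
        apply hdet0
        rw [Matrix.det_fin_two, h, h01]; ring
      have h11 : (g : Matrix (Fin 2) (Fin 2) F) 1 1 ≠ 0 := by
        intro h
        apply hdet0
        rw [Matrix.det_fin_two, h, h01]; ring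
      have : α ((g : Matrix (Fin 2) (Fin 2) F) 0 0) * α ((g : Matrix (Fin 2) (Fin 2) F) 1 1) +
          α ((g : Matrix (Fin 2) (Fin 2) F) 1 1) * α ((g : Matrix (Fin 2) (Fin 2) F) 0 0) -
          α ((g : Matrix (Fin 2) (Fin 2) F) 0 0) * α ((g : Matrix (Fin 2) (Fin 2) F) 1 1) =
          α ((g : Matrix (Fin 2) (Fin 2) F) 0 0) * α ((g : Matrix (Fin 2) (Fin 2) F) 1 1) := by ring
      rw [this, norm_mul, norm_mulChar_eq_one α h00, norm_mulChar_eq_one α h11, mul_one]
    · intro hno
      unfold st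
      rw [Pi.sub_apply, ps_apply_elliptic α α g hno, zero_sub, norm_neg, detChar_apply,
        norm_mulChar_eq_one α hdet0]
  · exfalso
    rw [ps_one] at hdeg
    exact one_ne_zero (by linear_combination hdeg : (1 : ℂ) = 0)
  · exfalso
    rw [hd] at hdeg
    exact one_ne_zero (by linear_combination (-1 : ℂ) * hdeg : (1 : ℂ) = 0)

end Cfsg.Agent.S2320
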