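import Mathlib
import Cfsg.Statements.S2321
import Cfsg.Agent.Lib.Helper12.SL2Count

set_option autoImplicit false
open Cfsg

namespace Cfsg.Agent.S2321

open Cfsg.Agent.Helper12 Cfsg.Agent.Helper24 Cfsg.Agent.Helper5

/-- values of the Steinberg character of `SL₂` -/
theorem stSL_apply {F : Type*} [Field F] [Fintype F] [DecidableEq F]
    (g : Matrix.SpecialLinearGroup (Fin 2) F) :
    stSL g = ps (1 : MulChar F ℂ) 1 (Matrix.SpecialLinearGroup.toGL g) - 1 := by
  unfold stSL st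
  rw [resSL_apply, Pi.sub_apply, detChar_apply, toGL_coe, g.2, map_one]

/-- Over a finite field F with q elements, an irreducible complex character of SL₂ of degree q takes the value 1 at every diagonal matrix diag(a, a⁻¹) with a² ≠ 1, the value −1 at every matrix with no eigenvector over F, and the value 0 at every non-diagonal upper triangular matrix with equal diagonal entries. -/
theorem result {F : Type*} [Field F] [Fintype F] (χ : Matrix.SpecialLinearGroup (Fin 2) F → ℂ) (hχ : Cfsg.IsIrrCharacter (Matrix.SpecialLinearGroup (Fin 2) F) χ) (hdeg : χ 1 = (Fintype.card F : ℂ)) (g : Matrix.SpecialLinearGroup (Fin 2) F) :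
    ((g : Matrix (Fin 2) (Fin 2) F) 0 1 = 0 → (g : Matrix (Fin 2) (Fin 2) F) 1 0 = 0 → (g : Matrix (Fin 2) (Fin 2) F) 0 0 ^ 2 ≠ 1 → χ g = 1) ∧
    ((∀ (c : F) (v : Fin 2 → F), v ≠ 0 → (g : Matrix (Fin 2) (Fin 2) F).mulVec v ≠ c • v) → χ g = -1) ∧
    ((g : Matrix (Fin 2) (Fin 2) F) 1 0 = 0 → (g : Matrix (Fin 2) (Fin 2) F) 0 0 = (g : Matrix (Fin 2) (Fin 2) F) 1 1 → (g : Matrix (Fin 2) (Fin 2) F) 0 1 ≠ 0 → χ g = 0) := by
  classical
  have hq : 2 ≤ Fintype.card F := Fintype.one_lt_card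
  have hst : χ = stSL := by
    rcases SL2_degree_cases hχ (Fintype.card F) hdeg with
      ⟨h, -⟩ | ⟨-, h⟩ | ⟨h, -⟩ | ⟨h, -⟩ | ⟨h, -⟩ | ⟨h, -⟩
    · omega
    · exact h
    all_goals omega
  have hdet := g.2
  rw [Matrix.det_fin_two] at hdet
  rw [hst, stSL_apply]
  refine ⟨?_, ?_, ?_⟩
  · intro h01 h10 hsq
    have h00 : (g : Matrix (Fin 2) (Fin 2) F) 0 0 ≠ 0 := by
      intro h0
      rw [h0, h01] at hdet
      simp at hdet
    have h11 : (g : Matrix (Fin 2) (Fin 2) F) 1 1 ≠ 0 := by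
      intro h0
      rw [h0, h01] at hdet
      simp at hdet
    have hne : (g : Matrix (Fin 2) (Fin 2) F) 0 0 ≠ (g : Matrix (Fin 2) (Fin 2) F) 1 1 := by
      intro h
      apply hsq
      rw [h01, ← h] at hdet
      rw [pow_two]
      linear_combination hdet
    rw [ps_apply_split 1 1 _ h01 h10 hne, toGL_coe, MulChar.one_apply (isUnit_iff_ne_zero.2 h00),
      MulChar.one_apply (isUnit_iff_ne_zero.2 h11)]
    norm_num
  · intro hno
    rw [ps_apply_elliptic 1 1 _ hno]
    norm_num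
  · intro h10 h00 h01
    have h00' : (g : Matrix (Fin 2) (Fin 2) F) 0 0 ≠ 0 := by
      intro h0
      rw [h0, h10] at hdet
      simp at hdet
    rw [ps_apply_unipotent 1 1 _ h10 h00 h01, toGL_coe,
      MulChar.one_apply (isUnit_iff_ne_zero.2 h00')]
    norm_num

end Cfsg.Agent.S2321
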