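import Mathlib
import Cfsg.Statements.S2323
import Cfsg.Agent.Lib.Helper12.SL2Values

set_option autoImplicit false
open Cfsg

namespace Cfsg.Agent.S2323

open Cfsg.Agent.Helper12 Cfsg.Agent.Helper24 Cfsg.Agent.Helper5

/-- Over a finite field F with q ≥ 4 elements, let u be the upper unitriangular matrix of SL₂ with off-diagonal entry 1. An irreducible complex character of SL₂ takes at u the value 1 if its degree is q + 1 and the value −1 if its degree is q − 1. -/
theorem result {F : Type*} [Field F] [Fintype F] (hq : 4 ≤ Fintype.card F) (χ : Matrix.SpecialLinearGroup (Fin 2) F → ℂ) (hχ : Cfsg.IsIrrCharacter (Matrix.SpecialLinearGroup (Fin 2) F) χ)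
    (u : Matrix.SpecialLinearGroup (Fin 2) F) (hu : (u : Matrix (Fin 2) (Fin 2) F) = !![1, 1; 0, 1]) :
    (χ 1 = (Fintype.card F : ℂ) + 1 → χ u = 1) ∧ (χ 1 = (Fintype.card F : ℂ) - 1 → χ u = -1) := by
  classical
  have h00 : (u : Matrix (Fin 2) (Fin 2) F) 0 0 = 1 := by rw [hu]; rfl
  have h01 : (u : Matrix (Fin 2) (Fin 2) F) 0 1 = 1 := by rw [hu]; rfl
  have h10 : (u : Matrix (Fin 2) (Fin 2) F) 1 0 = 0 := by rw [hu]; rfl
  have h11 : (u : Matrix (Fin 2) (Fin 2) F) 1 1 = 1 := by rw [hu]; rfl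
  constructor
  · intro h1
    rcases SL2_degree_cases hχ (Fintype.card F + 1) (by rw [h1]; simp) with
      ⟨h, -⟩ | ⟨h, -⟩ | ⟨-, μ, -, h⟩ | ⟨h, -⟩ | ⟨h, -⟩ | ⟨h, -⟩
    · omega
    · omega
    · rw [h, psSL_apply_upper μ u h10 (by rw [h00, h11]) (by rw [h01]; exact one_ne_zero), h00,
        map_one]
    all_goals omega
  · intro h1
    have hd : χ 1 = ((Fintype.card F - 1 : ℕ) : ℂ) := by
      rw [h1, Nat.cast_sub (by omega), Nat.cast_one]
    rcases SL2_degree_cases hχ (Fintype.card F - 1) hd with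
      ⟨h, -⟩ | ⟨h, -⟩ | ⟨h, -⟩ | ⟨h, -⟩ | ⟨-, π, hπ, hc, hdeg, -, hres⟩ | ⟨h, -⟩
    · omega
    · omega
    · omega
    · omega
    · rw [← hres, resSL_apply]
      apply cuspidal_apply_unipotent hπ hc hdeg
      · rw [toGL_coe, h10]
      · rw [toGL_coe, h00]
      · rw [toGL_coe, h11]
      · rw [toGL_coe, h01]; exact one_ne_zero
    · omega

end Cfsg.Agent.S2323
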