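import Mathlib
import Cfsg.Statements.S2324
import Cfsg.Agent.S2299
import Cfsg.Agent.Lib.Helper12.SL2Gauss

set_option autoImplicit false
open Cfsg

namespace Cfsg.Agent.S2324

open Cfsg.Agent.Helper12 Cfsg.Agent.Helper24 Cfsg.Agent.Helper5

/-- in a type with two elements, two elements different from a third one coincide -/
theorem eq_of_card_two {T : Type*} (hT : Nat.card T = 2) (a b c : T) (hab : a ≠ b) (hac : a ≠ c) :
    b = c := by
  classical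
  haveI : Finite T := Nat.finite_of_card_ne_zero (by rw [hT]; norm_num)
  letI : Fintype T := Fintype.ofFinite T
  by_contra hbc
  have h3 : ({a, b, c} : Finset T).card = 3 := by
    rw [Finset.card_insert_of_notMem, Finset.card_insert_of_notMem, Finset.card_singleton]
    · simpa using hbc
    · simp only [Finset.mem_insert, Finset.mem_singleton]
      push Not
      exact ⟨hab, hac⟩
  have := Finset.card_le_univ ({a, b, c} : Finset T)
  rw [h3, ← Nat.card_eq_fintype_card, hT] at this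
  omega

/-- Over a finite field F with q elements, q odd and q ≥ 5, let u be the upper unitriangular matrix of SL₂ with off-diagonal entry 1 and δ = (−1)^((q − 1)/2). Every irreducible complex character χ of SL₂ of degree (q + 1)/2 has (2χ(u) − 1)² = δq, every one of degree (q − 1)/2 has (2χ(u) + 1)² = δq, and the two characters of each of these degrees have values at u adding up to 1 and to −1 respectively. -/
theorem result {F : Type*} [Field F] [Fintype F] (hodd : Odd (Fintype.card F)) (hq : 5 ≤ Fintype.card F)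
    (u : Matrix.SpecialLinearGroup (Fin 2) F) (hu : (u : Matrix (Fin 2) (Fin 2) F) = !![1, 1; 0, 1]) :
    (∀ χ : Matrix.SpecialLinearGroup (Fin 2) F → ℂ, Cfsg.IsIrrCharacter (Matrix.SpecialLinearGroup (Fin 2) F) χ → χ 1 = (((Fintype.card F + 1) / 2 : ℕ) : ℂ) → (2 * χ u - 1) ^ 2 = (-1 : ℂ) ^ ((Fintype.card F - 1) / 2) * (Fintype.card F : ℂ)) ∧
    (∀ χ : Matrix.SpecialLinearGroup (Fin 2) F → ℂ, Cfsg.IsIrrCharacter (Matrix.SpecialLinearGroup (Fin 2) F) χ → χ 1 = (((Fintype.card F - 1) / 2 : ℕ) : ℂ) → (2 * χ u + 1) ^ 2 = (-1 : ℂ) ^ ((Fintype.card F - 1) / 2) * (Fintype.card F : ℂ)) ∧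
    (∀ χ₁ χ₂ : Matrix.SpecialLinearGroup (Fin 2) F → ℂ, Cfsg.IsIrrCharacter (Matrix.SpecialLinearGroup (Fin 2) F) χ₁ → Cfsg.IsIrrCharacter (Matrix.SpecialLinearGroup (Fin 2) F) χ₂ → χ₁ ≠ χ₂ →
      χ₁ 1 = (((Fintype.card F + 1) / 2 : ℕ) : ℂ) → χ₂ 1 = (((Fintype.card F + 1) / 2 : ℕ) : ℂ) → χ₁ u + χ₂ u = 1) ∧
    (∀ χ₁ χ₂ : Matrix.SpecialLinearGroup (Fin 2) F → ℂ, Cfsg.IsIrrCharacter (Matrix.SpecialLinearGroup (Fin 2) F) χ₁ → Cfsg.IsIrrCharacter (Matrix.SpecialLinearGroup (Fin 2) F) χ₂ → χ₁ ≠ χ₂ →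
      χ₁ 1 = (((Fintype.card F - 1) / 2 : ℕ) : ℂ) → χ₂ 1 = (((Fintype.card F - 1) / 2 : ℕ) : ℂ) → χ₁ u + χ₂ u = -1) := by
  classical
  have hF : ringChar F ≠ 2 := by
    intro h
    have := FiniteField.even_card_of_char_two h
    rw [Nat.odd_iff] at hodd
    omega
  obtain ⟨k, hk⟩ := hodd
  have huu : u = uni 1 := Subtype.ext hu
  subst huu
  have h10 : ((uni (1 : F) : Matrix.SpecialLinearGroup (Fin 2) F) :
      Matrix (Fin 2) (Fin 2) F) 1 0 = 0 := by rw [uni_coe]; rfl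
  have h00 : ((uni (1 : F) : Matrix.SpecialLinearGroup (Fin 2) F) :
      Matrix (Fin 2) (Fin 2) F) 0 0 = 1 := by rw [uni_coe]; rfl
  have h11 : ((uni (1 : F) : Matrix.SpecialLinearGroup (Fin 2) F) :
      Matrix (Fin 2) (Fin 2) F) 1 1 = 1 := by rw [uni_coe]; rfl
  have h01 : ((uni (1 : F) : Matrix.SpecialLinearGroup (Fin 2) F) :
      Matrix (Fin 2) (Fin 2) F) 0 1 = 1 := by rw [uni_coe]; rfl
  have hps : ∀ μ : MulChar F ℂ, psSL μ (uni 1) = 1 := by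
    intro μ
    rw [psSL_apply_upper μ (uni 1) h10 (by rw [h00, h11]) (by rw [h01]; exact one_ne_zero), h00,
      map_one]
  have hcusp : ∀ π : GL (Fin 2) F → ℂ, IsIrrCharacter (GL (Fin 2) F) π → IsCuspidalGL2 π →
      π 1 = (Fintype.card F : ℂ) - 1 → resSL π (uni 1) = -1 := by
    intro π hπ hc hdeg
    rw [resSL_apply]
    apply cuspidal_apply_unipotent hπ hc hdeg
    · rw [toGL_coe, h10]
    · rw [toGL_coe, h00]
    · rw [toGL_coe, h11]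
    · rw [toGL_coe, h01]; exact one_ne_zero
  -- the half pairs
  have hplus : ∀ χ : Matrix.SpecialLinearGroup (Fin 2) F → ℂ,
      Cfsg.IsIrrCharacter (Matrix.SpecialLinearGroup (Fin 2) F) χ →
      χ 1 = (((Fintype.card F + 1) / 2 : ℕ) : ℂ) →
      ∃ μ : MulChar F ℂ, μ ≠ 1 ∧ μ ^ 2 = 1 ∧
        ∃ χ' : Matrix.SpecialLinearGroup (Fin 2) F → ℂ, IsHalfPair (psSL μ) χ χ' := by
    intro χ hχ h1
    rcases SL2_degree_cases hχ _ h1 with
      ⟨h, -⟩ | ⟨h, -⟩ | ⟨h, -⟩ | ⟨-, h⟩ | ⟨h, -⟩ | ⟨h, -⟩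
    · omega
    · omega
    · omega
    · exact h
    · omega
    · omega
  have hminus : ∀ χ : Matrix.SpecialLinearGroup (Fin 2) F → ℂ,
      Cfsg.IsIrrCharacter (Matrix.SpecialLinearGroup (Fin 2) F) χ →
      χ 1 = (((Fintype.card F - 1) / 2 : ℕ) : ℂ) →
      ∃ π : GL (Fin 2) F → ℂ, IsIrrCharacter (GL (Fin 2) F) π ∧ IsCuspidalGL2 π ∧
        π 1 = (Fintype.card F : ℂ) - 1 ∧
        ∃ χ' : Matrix.SpecialLinearGroup (Fin 2) F → ℂ, IsHalfPair (resSL π) χ χ' := by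
    intro χ hχ h1
    rcases SL2_degree_cases hχ _ h1 with
      ⟨h, -⟩ | ⟨h, -⟩ | ⟨h, -⟩ | ⟨h, -⟩ | ⟨h, -⟩ | ⟨-, π, hπ, hc, hdeg, -, h⟩
    · omega
    · omega
    · omega
    · omega
    · omega
    · exact ⟨π, hπ, hc, hdeg, h⟩
  refine ⟨?_, ?_, ?_, ?_⟩
  · intro χ hχ h1
    obtain ⟨μ, -, -, χ', hP⟩ := hplus χ hχ h1
    have hsum : χ (uni 1) + χ' (uni 1) = 1 := by
      rw [← hps μ, hP.sum]; rfl
    have : 2 * χ (uni 1) - 1 = χ (uni 1) - χ' (uni 1) := by linear_combination hsum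
    rw [this]
    exact hP.sq_diff hF
  · intro χ hχ h1
    obtain ⟨π, hπ, hc, hdeg, χ', hP⟩ := hminus χ hχ h1
    have hsum : χ (uni 1) + χ' (uni 1) = -1 := by
      rw [← hcusp π hπ hc hdeg, hP.sum]; rfl
    have : 2 * χ (uni 1) + 1 = χ (uni 1) - χ' (uni 1) := by linear_combination hsum
    rw [this]
    exact hP.sq_diff hF
  · intro χ₁ χ₂ hχ₁ hχ₂ hne h1 h2
    obtain ⟨μ₁, hμ1, hμ2, χ₁', hP₁⟩ := hplus χ₁ hχ₁ h1
    obtain ⟨μ₂, hν1, hν2, χ₂', hP₂⟩ := hplus χ₂ hχ₂ h2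
    have hμ : μ₂ = μ₁ := quadratic_mulChar_unique μ₂ μ₁ hν2 hμ2 hν1 hμ1
    rw [hμ] at hP₂
    rcases hP₁.eq_or_eq hP₂ with h | h
    · exact absurd h.symm hne
    · rw [h, ← hps μ₁, hP₁.sum]; rfl
  · intro χ₁ χ₂ hχ₁ hχ₂ hne h1 h2
    obtain ⟨π, hπ, hc, hdeg, χ₁', hP⟩ := hminus χ₁ hχ₁ h1
    have hcount := ((Cfsg.Agent.S2299.result (F := F) ⟨k, hk⟩).2 hq).2.2.2.2.2
    have h1' : χ₁' 1 = (((Fintype.card F - 1) / 2 : ℕ) : ℂ) := by rw [hP.one_eq, h1]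
    have heq := eq_of_card_two hcount
      (⟨⟨χ₁, hχ₁⟩, h1⟩ : {χ : Cfsg.IrrCharacter (Matrix.SpecialLinearGroup (Fin 2) F) //
        (χ : Matrix.SpecialLinearGroup (Fin 2) F → ℂ) 1 = (((Fintype.card F - 1) / 2 : ℕ) : ℂ)})
      ⟨⟨χ₁', hP.irr'⟩, h1'⟩ ⟨⟨χ₂, hχ₂⟩, h2⟩
      (fun h => hP.ne (congrArg (fun x => x.1.1) h))
      (fun h => hne (congrArg (fun x => x.1.1) h))
    have heq' : χ₁' = χ₂ := congrArg (fun x => x.1.1) heq
    rw [← heq', ← hcusp π hπ hc hdeg, hP.sum]; rfl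

end Cfsg.Agent.S2324
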