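import Mathlib
import Cfsg.Statements.S2325
import Cfsg.Agent.Lib.Helper12.SL2Odd
import Cfsg.Agent.Lib.Helper12.ConjCount

set_option autoImplicit false
open Cfsg

namespace Cfsg.Agent.S2325

open Cfsg.Agent.Helper12

variable {F : Type*} [Field F]

open Classical

/-- the complete invariant of conjugacy classes of `SL₂` in odd characteristic -/
noncomputable def inv (g : Matrix.SpecialLinearGroup (Fin 2) F) : F ⊕ Fin 4 :=
  if IsScalar2 (g : Matrix (Fin 2) (Fin 2) F) then
    Sum.inr (if (g : Matrix (Fin 2) (Fin 2) F) 0 0 = 1 then 0 else 1)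
  else if Rep1 g then Sum.inl (g : Matrix (Fin 2) (Fin 2) F).trace
  else Sum.inr (if (g : Matrix (Fin 2) (Fin 2) F).trace = 2 then 2 else 3)

theorem inv_scalar (g : Matrix.SpecialLinearGroup (Fin 2) F)
    (h : IsScalar2 (g : Matrix (Fin 2) (Fin 2) F)) :
    inv g = Sum.inr (if (g : Matrix (Fin 2) (Fin 2) F) 0 0 = 1 then 0 else 1) := by
  unfold inv; rw [if_pos h]

theorem inv_rep1 (g : Matrix.SpecialLinearGroup (Fin 2) F)
    (h : ¬ IsScalar2 (g : Matrix (Fin 2) (Fin 2) F)) (hr : Rep1 g) :
    inv g = Sum.inl (g : Matrix (Fin 2) (Fin 2) F).trace := by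
  unfold inv; rw [if_neg h, if_pos hr]

theorem inv_not_rep1 (g : Matrix.SpecialLinearGroup (Fin 2) F)
    (h : ¬ IsScalar2 (g : Matrix (Fin 2) (Fin 2) F)) (hr : ¬ Rep1 g) :
    inv g = Sum.inr (if (g : Matrix (Fin 2) (Fin 2) F).trace = 2 then 2 else 3) := by
  unfold inv; rw [if_neg h, if_neg hr]

theorem inv_eq_of_isConj (a b : Matrix.SpecialLinearGroup (Fin 2) F) (hc : IsConj a b) :
    inv a = inv b := by
  by_cases ha : IsScalar2 (a : Matrix (Fin 2) (Fin 2) F)
  · rw [eq_of_isConj_of_isScalar2 a b ha hc]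
  · have hb : ¬ IsScalar2 (b : Matrix (Fin 2) (Fin 2) F) :=
      fun h => ha ((isScalar2_iff_of_isConj a b hc).2 h)
    have htr := trace_eq_of_isConj a b hc
    have hrep := rep1_iff_of_isConj a b hc
    by_cases hr : Rep1 a
    · rw [inv_rep1 a ha hr, inv_rep1 b hb (hrep.1 hr), htr]
    · rw [inv_not_rep1 a ha hr, inv_not_rep1 b hb (fun h => hr (hrep.2 h)), htr]

theorem trace_of_not_rep1 [Fintype F] (hF : ringChar F ≠ 2)
    (g : Matrix.SpecialLinearGroup (Fin 2) F) (hr : ¬ Rep1 g) :
    (g : Matrix (Fin 2) (Fin 2) F).trace = 2 ∨ (g : Matrix (Fin 2) (Fin 2) F).trace = -2 := by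
  by_contra hcon
  push Not at hcon
  apply hr
  apply rep1_of_trace_sq_ne hF
  intro h4
  have : ((g : Matrix (Fin 2) (Fin 2) F).trace - 2) * ((g : Matrix (Fin 2) (Fin 2) F).trace + 2)
      = 0 := by linear_combination h4
  rcases mul_eq_zero.1 this with h | h
  · exact hcon.1 (sub_eq_zero.1 h)
  · exact hcon.2 (eq_neg_of_add_eq_zero_left h)

theorem eq_of_ite_eq {x y : F} {i j : Fin 4} (hij : i ≠ j) (hx : x = 1 ∨ x = -1)
    (hy : y = 1 ∨ y = -1) (c : F) (hc : c = 1)
    (h : (if x = c then i else j) = (if y = c then i else j)) : x = y := by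
  subst hc
  rcases hx with h1 | h1 <;> rcases hy with h2 | h2
  · rw [h1, h2]
  · rw [if_pos h1] at h
    split_ifs at h with h3
    · rw [h1, h3]
    · exact absurd h hij
  · rw [if_pos h2] at h
    split_ifs at h with h3
    · rw [h3, h2]
    · exact absurd h.symm hij
  · rw [h1, h2]

theorem isConj_of_inv_eq [Fintype F] (hF : ringChar F ≠ 2)
    (a b : Matrix.SpecialLinearGroup (Fin 2) F) (h : inv a = inv b) : IsConj a b := by
  by_cases ha : IsScalar2 (a : Matrix (Fin 2) (Fin 2) F)
  · have hb : IsScalar2 (b : Matrix (Fin 2) (Fin 2) F) := by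
      by_contra hb
      rw [inv_scalar a ha] at h
      by_cases hr : Rep1 b
      · rw [inv_rep1 b hb hr] at h
        simp at h
      · rw [inv_not_rep1 b hb hr] at h
        have := Sum.inr_injective h
        split_ifs at this <;> simp at this
    rw [inv_scalar a ha, inv_scalar b hb] at h
    have h00 : (a : Matrix (Fin 2) (Fin 2) F) 0 0 = (b : Matrix (Fin 2) (Fin 2) F) 0 0 :=
      eq_of_ite_eq (by decide) (scalar_SL2_entry a ha) (scalar_SL2_entry b hb) 1 rfl
        (Sum.inr_injective h)
    rw [SL2_eq_of_isScalar2 a b ha hb h00]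
  · have hb : ¬ IsScalar2 (b : Matrix (Fin 2) (Fin 2) F) := by
      intro hb
      rw [inv_scalar b hb] at h
      by_cases hr : Rep1 a
      · rw [inv_rep1 a ha hr] at h
        simp at h
      · rw [inv_not_rep1 a ha hr] at h
        have := Sum.inr_injective h
        split_ifs at this <;> simp at this
    rw [SL2_isConj_iff hF a b ha hb]
    by_cases hr : Rep1 a
    · rw [inv_rep1 a ha hr] at h
      by_cases hr' : Rep1 b
      · rw [inv_rep1 b hb hr'] at h
        exact ⟨Sum.inl_injective h, iff_of_true hr hr'⟩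
      · rw [inv_not_rep1 b hb hr'] at h
        simp at h
    · rw [inv_not_rep1 a ha hr] at h
      by_cases hr' : Rep1 b
      · rw [inv_rep1 b hb hr'] at h
        simp at h
      · rw [inv_not_rep1 b hb hr'] at h
        refine ⟨?_, iff_of_false hr hr'⟩
        have h2 : (2 : F) ≠ 0 := Ring.two_ne_zero hF
        -- reduce to the dichotomy lemma applied to trace / 2
        have key : (a : Matrix (Fin 2) (Fin 2) F).trace / 2 = (b : Matrix (Fin 2) (Fin 2) F).trace / 2 := by
          apply eq_of_ite_eq (i := 2) (j := 3) (by decide) _ _ 1 rfl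
          · have := Sum.inr_injective h
            have e1 : ∀ t : F, (t / 2 = 1) ↔ t = 2 := by
              intro t
              rw [div_eq_iff h2, one_mul]
            simp only [e1]
            exact this
          · rcases trace_of_not_rep1 hF a hr with h1 | h1
            · left; rw [h1]; exact div_self h2
            · right; rw [h1, neg_div, div_self h2]
          · rcases trace_of_not_rep1 hF b hr' with h1 | h1
            · left; rw [h1]; exact div_self h2
            · right; rw [h1, neg_div, div_self h2]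
        field_simp at key
        exact key

/-- the upper triangular element with diagonal `e` and corner `b` -/
def upper (e b : F) (he : e * e = 1) : Matrix.SpecialLinearGroup (Fin 2) F :=
  ⟨!![e, b; 0, e], by rw [Matrix.det_fin_two_of]; simp [he]⟩

/-- the companion matrix as an element of `SL₂` -/
def comp (t : F) : Matrix.SpecialLinearGroup (Fin 2) F :=
  ⟨companion2 t 1, det_companion2 t 1⟩

theorem comp_coe (t : F) :
    ((comp t : Matrix.SpecialLinearGroup (Fin 2) F) : Matrix (Fin 2) (Fin 2) F) =
      companion2 t 1 := rfl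

theorem upper_not_scalar (e b : F) (he : e * e = 1) (hb : b ≠ 0) :
    ¬ IsScalar2 ((upper e b he : Matrix.SpecialLinearGroup (Fin 2) F) :
      Matrix (Fin 2) (Fin 2) F) := by
  rintro ⟨h, -, -⟩
  apply hb
  simpa [upper] using h

theorem upper_not_rep1 (e b : F) (he : e * e = 1) (hb : ¬ IsSquare (-b)) :
    ¬ Rep1 (upper e b he) := by
  rintro ⟨v, hv⟩
  rw [qf2_eq] at hv
  simp only [upper, Matrix.of_apply, Matrix.cons_val', Matrix.cons_val_zero, Matrix.cons_val_one,
    Matrix.cons_val_fin_one] at hv
  apply hb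
  have hv1 : v 1 ≠ 0 := by
    intro h0
    rw [h0] at hv
    simp at hv
  refine ⟨(v 1)⁻¹, ?_⟩
  have h1 : v 1 * (v 1)⁻¹ = 1 := mul_inv_cancel₀ hv1
  linear_combination ((v 1)⁻¹ ^ 2) * hv + b * (v 1 * (v 1)⁻¹ + 1) * h1

theorem inv_surjective [Fintype F] (hF : ringChar F ≠ 2) :
    Function.Surjective (inv : Matrix.SpecialLinearGroup (Fin 2) F → F ⊕ Fin 4) := by
  classical
  have h2 : (2 : F) ≠ 0 := Ring.two_ne_zero hF
  obtain ⟨η, hη⟩ := quadraticChar_exists_neg_one hF
  rw [quadraticChar_neg_one_iff_not_isSquare] at hη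
  have hη' : ¬ IsSquare (-(-η)) := by rwa [neg_neg]
  have hη0 : -η ≠ 0 := by
    intro h
    apply hη
    rw [neg_eq_zero.1 h]
    exact IsSquare.zero
  rintro (t | i)
  · refine ⟨comp t, ?_⟩
    rw [inv_rep1 (comp t) (by rw [comp_coe]; exact companion2_not_scalar t 1)]
    · rw [comp_coe, trace_companion2 t 1]
    · refine ⟨![1, 0], ?_⟩
      rw [qf2_eq, comp_coe]
      simp [companion2]
  · fin_cases i
    · refine ⟨1, ?_⟩
      rw [inv_scalar]
      · simp
      · refine ⟨?_, ?_, ?_⟩ <;> simp
    · refine ⟨upper (-1) 0 (by ring), ?_⟩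
      rw [inv_scalar]
      · have : ((upper (-1 : F) 0 (by ring) : Matrix.SpecialLinearGroup (Fin 2) F) :
            Matrix (Fin 2) (Fin 2) F) 0 0 ≠ 1 := by
          simp only [upper, Matrix.of_apply, Matrix.cons_val', Matrix.cons_val_zero,
            Matrix.cons_val_fin_one]
          intro h
          apply h2
          linear_combination (-1 : F) * h
        rw [if_neg this]
        rfl
      · refine ⟨?_, ?_, ?_⟩ <;> simp [upper]
    · refine ⟨upper 1 (-η) (by ring), ?_⟩
      rw [inv_not_rep1 _ (upper_not_scalar _ _ _ hη0) (upper_not_rep1 _ _ _ hη')]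
      have : ((upper (1 : F) (-η) (by ring) : Matrix.SpecialLinearGroup (Fin 2) F) :
          Matrix (Fin 2) (Fin 2) F).trace = 2 := by
        simp [upper, Matrix.trace_fin_two]; norm_num
      rw [if_pos this]
      rfl
    · refine ⟨upper (-1) (-η) (by ring), ?_⟩
      rw [inv_not_rep1 _ (upper_not_scalar _ _ _ hη0) (upper_not_rep1 _ _ _ hη')]
      have : ((upper (-1 : F) (-η) (by ring) : Matrix.SpecialLinearGroup (Fin 2) F) :
          Matrix (Fin 2) (Fin 2) F).trace ≠ 2 := by
        simp only [upper, Matrix.trace_fin_two, Matrix.of_apply, Matrix.cons_val',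
          Matrix.cons_val_zero, Matrix.cons_val_one, Matrix.cons_val_fin_one]
        intro h
        have h4 : (2 : F) * 2 = 0 := by linear_combination (-1 : F) * h
        rcases mul_eq_zero.1 h4 with h | h <;> exact h2 h
      rw [if_neg this]
      rfl

/-- Over a finite field with q elements, q odd, the special linear group SL₂ has exactly q + 4 conjugacy classes. -/
theorem result {F : Type*} [Field F] [Fintype F] (hodd : Odd (Fintype.card F)) :
    Nat.card (ConjClasses (Matrix.SpecialLinearGroup (Fin 2) F)) = Fintype.card F + 4 := by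
  have hF : ringChar F ≠ 2 := by
    intro h
    have := FiniteField.even_card_iff_char_two.1 h
    rw [Nat.odd_iff] at hodd
    omega
  rw [card_conjClasses_of_invariant inv inv_eq_of_isConj (isConj_of_inv_eq hF) (inv_surjective hF),
    Nat.card_sum, Nat.card_eq_fintype_card, Nat.card_eq_fintype_card, Fintype.card_fin]

end Cfsg.Agent.S2325
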