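import Mathlib
import Cfsg.Statements.S2328
import Cfsg.Agent.Lib.Helper17.ChevSt2
import Cfsg.Agent.Lib.Lead.ChevFactsAll
import Cfsg.Agent.S1027
import Cfsg.Agent.S2326
import Cfsg.Agent.S0931
import Cfsg.Agent.Lib.Helper24.GlaubPGroup

set_option autoImplicit false
open Cfsg

namespace Cfsg.Agent.S2328

/-- In a Chevalley group of type G₂, B₂, D₄, F₄, E₆, E₇ or E₈ over a finite field of characteristic p, the Steinberg character vanishes at every element whose order is divisible by p (every element that is not semisimple). -/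
theorem result {F : Type*} [Field F] [Fintype F] (p : ℕ) [Fact p.Prime] [CharP F p] (D : Cfsg.Lie.ChevalleyDatum) (hD : D ∈ [Cfsg.Lie.chevG2, Cfsg.Lie.chevB2, Cfsg.Lie.chevD4, Cfsg.Lie.chevF4, Cfsg.Lie.chevE6, Cfsg.Lie.chevE7, Cfsg.Lie.chevE8]) (g : ↥(D.group F)) (hg : p ∣ orderOf g) :
    D.steinbergCharacter F g = 0 := by
  classical
  have hp : p.Prime := Fact.out
  have hF := Cfsg.Agent.Lead.Chev.chevFacts_of_mem (F := F) D hD
  have hirr := Cfsg.Agent.Helper17.ChevSt.steinberg_irr hF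
  have h1 : D.steinbergCharacter F 1 = ((Fintype.card F ^ (D.nroots / 2) : ℕ) : ℂ) := by
    rw [Cfsg.Agent.Helper17.ChevSt.steinberg_one hF, Cfsg.Agent.S1027.result D hD]
  have hdeg : Cfsg.charDegree (D.steinbergCharacter F) = Fintype.card F ^ (D.nroots / 2) :=
    Cfsg.Agent.Helper24.charDegree_natCast _ h1
  obtain ⟨P, hP⟩ := Cfsg.Agent.S2326.result (F := F) p D hD
  have hPcard : Nat.card (P : Subgroup ↥(D.group F)) = Fintype.card F ^ (D.nroots / 2) := by
    rw [hP, Nat.card_congr (Subgroup.subgroupOfEquivOfLe hF.posUnipotent_le_group).toEquiv,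
      Cfsg.Agent.S1027.result D hD]
  obtain ⟨M, hM⟩ := Cfsg.Agent.Helper24.Glaub.exists_isPModular hp
  have hdef : ¬ p ∣ Nat.card ↥(D.group F) / Cfsg.charDegree (D.steinbergCharacter F) := by
    rw [hdeg, ← hPcard]
    have h2 : Nat.card ↥(D.group F) / Nat.card (P : Subgroup ↥(D.group F)) =
        (P : Subgroup ↥(D.group F)).index := by
      rw [← Subgroup.card_mul_index (P : Subgroup ↥(D.group F)),
        Nat.mul_div_cancel_left _ Nat.card_pos]
    rw [h2]
    exact P.not_dvd_index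
  exact Cfsg.Agent.S0931.eq_zero_of_defect_zero hM ⟨_, hirr⟩ hdef hg

end Cfsg.Agent.S2328
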