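import Mathlib
import Cfsg.Statements.S2330
import Cfsg.Agent.Lib.Helper12.TwoByTwo
import Cfsg.Agent.Lib.Helper12.ConjCount

set_option autoImplicit false
open Cfsg

namespace Cfsg.Agent.S2330

open Cfsg.Agent.Helper12 Matrix

variable {F : Type*} [Field F]

theorem scalar_entry_ne_zero (g : GL (Fin 2) F) (hs : IsScalar2 (g : Matrix (Fin 2) (Fin 2) F)) :
    (g : Matrix (Fin 2) (Fin 2) F) 0 0 ≠ 0 := by
  intro h0
  have hdet : (g : Matrix (Fin 2) (Fin 2) F).det ≠ 0 := by
    have := (Matrix.GeneralLinearGroup.det g).ne_zero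
    simpa using this
  apply hdet
  rw [Matrix.det_fin_two, hs.1, hs.2.1, h0]
  ring

open Classical in
/-- The complete conjugacy invariant on `GL₂`. -/
noncomputable def inv (g : GL (Fin 2) F) : Fˣ ⊕ (F × Fˣ) :=
  if hs : IsScalar2 (g : Matrix (Fin 2) (Fin 2) F) then
    Sum.inl (Units.mk0 ((g : Matrix (Fin 2) (Fin 2) F) 0 0) (scalar_entry_ne_zero g hs))
  else Sum.inr ((g : Matrix (Fin 2) (Fin 2) F).trace, Matrix.GeneralLinearGroup.det g)

theorem scalar_central (g c : GL (Fin 2) F) (hs : IsScalar2 (g : Matrix (Fin 2) (Fin 2) F)) :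
    c * g * c⁻¹ = g := by
  rw [isScalar2_iff] at hs
  have hcomm : c * g = g * c := by
    apply Units.ext
    rw [Units.val_mul, Units.val_mul, hs]
    simp
  rw [hcomm, mul_inv_cancel_right]

theorem inv_conj (a b : GL (Fin 2) F) (hab : IsConj a b) : inv a = inv b := by
  rw [isConj_iff] at hab
  obtain ⟨c, rfl⟩ := hab
  by_cases hs : IsScalar2 (a : Matrix (Fin 2) (Fin 2) F)
  · rw [scalar_central a c hs]
  · have hs' : ¬ IsScalar2 ((c * a * c⁻¹ : GL (Fin 2) F) : Matrix (Fin 2) (Fin 2) F) := by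
      intro h
      apply hs
      have := scalar_central (c * a * c⁻¹) c⁻¹ h
      have e : c⁻¹ * (c * a * c⁻¹) * c⁻¹⁻¹ = a := by group
      rw [e] at this
      rw [this]; exact h
    unfold inv
    rw [dif_neg hs, dif_neg hs']
    congr 2
    · rw [Units.val_mul, Units.val_mul, Matrix.trace_mul_comm, ← mul_assoc, ← Units.val_mul,
        inv_mul_cancel, Units.val_one, one_mul]
    · rw [map_mul, map_mul, map_inv, mul_comm, ← mul_assoc, inv_mul_cancel, one_mul]

theorem inv_inj (a b : GL (Fin 2) F) (hab : inv a = inv b) : IsConj a b := by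
  unfold inv at hab
  by_cases hsa : IsScalar2 (a : Matrix (Fin 2) (Fin 2) F) <;>
    by_cases hsb : IsScalar2 (b : Matrix (Fin 2) (Fin 2) F)
  · rw [dif_pos hsa, dif_pos hsb] at hab
    have h00 : (a : Matrix (Fin 2) (Fin 2) F) 0 0 = (b : Matrix (Fin 2) (Fin 2) F) 0 0 := by
      have := Sum.inl.inj hab
      exact congrArg Units.val this
    have : a = b := by
      apply Units.ext
      rw [(isScalar2_iff _).mp hsa, (isScalar2_iff _).mp hsb, h00]
    rw [this]
  · rw [dif_pos hsa, dif_neg hsb] at hab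
    exact absurd hab (by simp)
  · rw [dif_neg hsa, dif_pos hsb] at hab
    exact absurd hab (by simp)
  · rw [dif_neg hsa, dif_neg hsb] at hab
    have h := Sum.inr.inj hab
    have htr := congrArg Prod.fst h
    have hdet := congrArg (fun x => (x.2 : F)) h
    simp only at htr hdet
    exact GL2_isConj_of_not_scalar a b hsa hsb htr (by simpa using hdet)

theorem inv_surj : Function.Surjective (inv : GL (Fin 2) F → Fˣ ⊕ (F × Fˣ)) := by
  rintro (a | ⟨t, δ⟩)
  · have hdet : ((a : F) • (1 : Matrix (Fin 2) (Fin 2) F)).det ≠ 0 := by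
      simp [Matrix.det_fin_two]
    refine ⟨Matrix.GeneralLinearGroup.mkOfDetNeZero _ hdet, ?_⟩
    have hs : IsScalar2 ((Matrix.GeneralLinearGroup.mkOfDetNeZero _ hdet : GL (Fin 2) F) :
        Matrix (Fin 2) (Fin 2) F) := isScalar2_smul_one (a : F)
    unfold inv
    rw [dif_pos hs]
    congr 1
    apply Units.ext
    simp [Matrix.GeneralLinearGroup.mkOfDetNeZero]
  · have hdet : (companion2 t (δ : F)).det ≠ 0 := by
      rw [det_companion2]; exact δ.ne_zero
    refine ⟨Matrix.GeneralLinearGroup.mkOfDetNeZero _ hdet, ?_⟩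
    have hs : ¬ IsScalar2 ((Matrix.GeneralLinearGroup.mkOfDetNeZero _ hdet : GL (Fin 2) F) :
        Matrix (Fin 2) (Fin 2) F) := companion2_not_scalar t δ
    unfold inv
    rw [dif_neg hs]
    congr 2
    · exact trace_companion2 t δ
    · apply Units.ext
      simp [Matrix.GeneralLinearGroup.mkOfDetNeZero, det_companion2]

/-- Over a finite field with q elements, the general linear group GL₂ has exactly q² − 1 conjugacy classes. -/
theorem result {F : Type*} [Field F] [Fintype F] :
    Nat.card (ConjClasses (Matrix.GeneralLinearGroup (Fin 2) F)) = Fintype.card F ^ 2 - 1 := by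
  classical
  rw [card_conjClasses_of_invariant inv inv_conj inv_inj inv_surj]
  rw [Nat.card_eq_fintype_card, Fintype.card_sum, Fintype.card_prod, Fintype.card_units]
  have hq : 1 ≤ Fintype.card F := Fintype.card_pos
  obtain ⟨k, hk⟩ : ∃ k, Fintype.card F = k + 1 := ⟨Fintype.card F - 1, by omega⟩
  rw [hk]
  have : (k + 1) ^ 2 = k + 1 - 1 + (k + 1) * (k + 1 - 1) + 1 := by
    simp only [Nat.add_sub_cancel]; ring
  omega

end Cfsg.Agent.S2330
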