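import Mathlib
import Cfsg.Statements.S2331
import Cfsg.Agent.Lib.Helper12.SL2
import Cfsg.Agent.Lib.Helper12.ConjCount

set_option autoImplicit false
open Cfsg

namespace Cfsg.Agent.S2331

open Cfsg.Agent.Helper12

variable {F : Type*} [Field F]

open Classical in
/-- The complete conjugacy invariant on `SL₂` in characteristic 2. -/
noncomputable def inv (g : Matrix.SpecialLinearGroup (Fin 2) F) : Option F :=
  if g = 1 then none else some (g : Matrix (Fin 2) (Fin 2) F).trace

theorem trace_conj (c a : Matrix.SpecialLinearGroup (Fin 2) F) :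
    ((c * a * c⁻¹ : Matrix.SpecialLinearGroup (Fin 2) F) : Matrix (Fin 2) (Fin 2) F).trace =
      (a : Matrix (Fin 2) (Fin 2) F).trace := by
  rw [Matrix.SpecialLinearGroup.coe_mul, Matrix.SpecialLinearGroup.coe_mul, Matrix.trace_mul_comm,
    ← mul_assoc, ← Matrix.SpecialLinearGroup.coe_mul, inv_mul_cancel,
    Matrix.SpecialLinearGroup.coe_one, one_mul]

theorem inv_conj (a b : Matrix.SpecialLinearGroup (Fin 2) F) (hab : IsConj a b) : inv a = inv b := by
  rw [isConj_iff] at hab
  obtain ⟨c, rfl⟩ := hab
  unfold inv
  by_cases h1 : a = 1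
  · subst h1
    simp
  · have h2 : c * a * c⁻¹ ≠ 1 := by
      intro h
      apply h1
      have : a = c⁻¹ * (c * a * c⁻¹) * c := by group
      rw [this, h]; group
    rw [if_neg h1, if_neg h2, trace_conj]

theorem inv_inj [Finite F] [CharP F 2] (a b : Matrix.SpecialLinearGroup (Fin 2) F)
    (hab : inv a = inv b) : IsConj a b := by
  unfold inv at hab
  by_cases ha : a = 1 <;> by_cases hb : b = 1
  · rw [ha, hb]
  · rw [if_pos ha, if_neg hb] at hab; exact absurd hab (by simp)
  · rw [if_neg ha, if_pos hb] at hab; exact absurd hab (by simp)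
  · rw [if_neg ha, if_neg hb] at hab
    have htr := Option.some.inj hab
    have h1 := SL2_char_two_conj_companion a ha
    have h2 := SL2_char_two_conj_companion b hb
    rw [← htr] at h2
    exact SL2_isConj_of_companion a b _ h1 h2

theorem inv_surj : Function.Surjective (inv : Matrix.SpecialLinearGroup (Fin 2) F → Option F) := by
  rintro (_ | t)
  · exact ⟨1, by simp [inv]⟩
  · set c : Matrix.SpecialLinearGroup (Fin 2) F := ⟨companion2 t 1, det_companion2 t 1⟩ with hc
    refine ⟨c, ?_⟩
    unfold inv
    have hne : c ≠ 1 := by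
      intro h
      have h' := congrArg (fun x : Matrix.SpecialLinearGroup (Fin 2) F =>
        (x : Matrix (Fin 2) (Fin 2) F) 1 0) h
      have e1 : (c : Matrix (Fin 2) (Fin 2) F) 1 0 = 1 := by simp [hc, companion2]
      have e2 : ((1 : Matrix.SpecialLinearGroup (Fin 2) F) : Matrix (Fin 2) (Fin 2) F) 1 0 = 0 := by
        rw [Matrix.SpecialLinearGroup.coe_one]; simp
      simp only [e1, e2] at h'
      exact one_ne_zero h'
    rw [if_neg hne]
    congr 1
    exact trace_companion2 t 1

/-- Over a finite field with q elements, q even, the special linear group SL₂ has exactly q + 1 conjugacy classes. -/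
theorem result {F : Type*} [Field F] [Fintype F] [CharP F 2] :
    Nat.card (ConjClasses (Matrix.SpecialLinearGroup (Fin 2) F)) = Fintype.card F + 1 := by
  classical
  rw [card_conjClasses_of_invariant inv inv_conj inv_inj inv_surj]
  rw [Nat.card_eq_fintype_card, Fintype.card_option]

end Cfsg.Agent.S2331
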