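import Mathlib
import Cfsg.Statements.S2337
import Cfsg.Agent.Lib.Helper2.SzRep3
import Cfsg.Agent.Lib.Helper2.SzBridge

set_option autoImplicit false
open Cfsg

namespace Cfsg.Agent.S2337

/-- For the Suzuki group Sz(q), q = 2^(2m+1) with m ≥ 1 (realised inside Sp₄ over the field with q elements), every irreducible complex representation of degree at least 2 has degree at least 2^m·(q − 1). -/
theorem result {F : Type*} [Field F] [Fintype F] (m : ℕ) (hm : 1 ≤ m) (hF : Fintype.card F = 2 ^ (2 * m + 1)) :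
    (∀ (k : ℕ) (ρ : Representation ℂ (Cfsg.Lie.Sz F (2 ^ (m + 1))) (Fin k → ℂ)), ρ.IsIrreducible → 2 ≤ k → 2 ^ m * (2 ^ (2 * m + 1) - 1) ≤ k) := by
  intro k ρ hirr hk
  obtain ⟨S⟩ := Cfsg.Agent.Helper2.Sz.nonempty_szData (m := m) hF
  obtain ⟨e⟩ := Cfsg.Agent.Helper2.Sz.nonempty_bridge (m := m) hm hF
  have hne : ∃ g, (ρ.comp e.toMonoidHom) g ≠ 1 := by
    by_contra hcon
    have hall : ∀ g, ρ g = 1 := by
      intro g
      by_contra hg
      apply hcon
      refine ⟨e.symm g, ?_⟩
      rw [MonoidHom.comp_apply]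
      have h1 : e.toMonoidHom (e.symm g) = g := e.apply_symm_apply g
      rw [h1]
      exact hg
    have h0 := @eq_bot_or_eq_top (Subrepresentation ρ) _ _ hirr
      ⟨Submodule.span ℂ {(Pi.single (⟨0, by omega⟩ : Fin k) (1 : ℂ) : Fin k → ℂ)}, by
        intro g v hv
        rw [hall g]
        exact hv⟩
    rcases h0 with h0 | h0
    · have h1 := congrArg Subrepresentation.toSubmodule h0
      have h2 : Submodule.span ℂ {(Pi.single (⟨0, by omega⟩ : Fin k) (1 : ℂ) : Fin k → ℂ)} = ⊥ := h1
      rw [Submodule.span_singleton_eq_bot] at h2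
      have h3 := congrFun h2 ⟨0, by omega⟩
      rw [Pi.single_eq_same] at h3
      exact one_ne_zero h3
    · have h1 := congrArg Subrepresentation.toSubmodule h0
      have h2 : Submodule.span ℂ {(Pi.single (⟨0, by omega⟩ : Fin k) (1 : ℂ) : Fin k → ℂ)} = ⊤ := h1
      have h3 : (Pi.single (⟨1, by omega⟩ : Fin k) (1 : ℂ) : Fin k → ℂ) ∈
          Submodule.span ℂ {(Pi.single (⟨0, by omega⟩ : Fin k) (1 : ℂ) : Fin k → ℂ)} := by
        rw [h2]
        exact Submodule.mem_top
      obtain ⟨c, hc⟩ := Submodule.mem_span_singleton.1 h3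
      have h4 := congrFun hc ⟨1, by omega⟩
      rw [Pi.smul_apply, Pi.single_eq_same, Pi.single_eq_of_ne (by
        intro h
        exact absurd (congrArg Fin.val h) (by norm_num)), smul_zero] at h4
      exact zero_ne_one h4
  have h := S.min_degree (ρ.comp e.toMonoidHom) hm hF hne
  rwa [Module.finrank_fin_fun] at h

end Cfsg.Agent.S2337
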