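import Mathlib
import Cfsg.Statements.S2343
import Cfsg.Agent.Lib.Helper2.ReeRep2

set_option autoImplicit false
open Cfsg

namespace Cfsg.Agent.S2343

/-- For the Ree group ²G₂(q), q = 3^(2m+1) with m ≥ 1 (realised over the field with q elements), every irreducible complex representation of degree at least 2 has degree at least q² − q + 1. -/
theorem result {K : Type*} [Field K] [Fintype K] (m : ℕ) (hm : 1 ≤ m) (hK : Fintype.card K = 3 ^ (2 * m + 1)) :
    (∀ (k : ℕ) (ρ : Representation ℂ (Cfsg.Lie.twistedG2 K (3 ^ m)) (Fin k → ℂ)), ρ.IsIrreducible → 2 ≤ k → (3 ^ (2 * m + 1)) ^ 2 - 3 ^ (2 * m + 1) + 1 ≤ k) := by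
  intro k ρ hirr hk
  obtain ⟨hc, hperf, f, hf⟩ := Cfsg.Agent.Lead.Tw.exists_ree_setup 3 Nat.prime_three m hK
  have : CharP K 3 := hc
  apply Cfsg.Agent.Helper2.Ree.ree_rep_bound hK hperf f hf hm k ρ
  by_contra hcon
  push Not at hcon
  let e₀ : Fin k → ℂ := Pi.single ⟨0, by omega⟩ 1
  have he₀ : e₀ ≠ 0 := by
    intro h
    have := congrFun h ⟨0, by omega⟩
    simp [e₀] at this
  let W : Submodule ℂ (Fin k → ℂ) := Submodule.span ℂ {e₀}
  let S : Subrepresentation ρ := ⟨W, fun g v hv => by rw [hcon g]; exact hv⟩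
  have := hirr
  rcases eq_bot_or_eq_top S with h | h
  · have h1 : W = ⊥ := congrArg Subrepresentation.toSubmodule h
    have h2 : e₀ ∈ W := Submodule.subset_span rfl
    rw [h1, Submodule.mem_bot] at h2
    exact he₀ h2
  · have h1 : W = ⊤ := congrArg Subrepresentation.toSubmodule h
    have h2 : Module.finrank ℂ W = 1 := finrank_span_singleton he₀
    rw [h1, finrank_top, Module.finrank_fin_fun] at h2
    omega

end Cfsg.Agent.S2343
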