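import Cfsg.Statements.S2347
import Cfsg.Agent.Lib.Helper6.WeilMain
import Cfsg.Agent.Lib.Helper6.WeilXL
import Cfsg.Agent.Lib.Helper23.WeilCHAR
import Cfsg.Agent.Lib.Helper27.WeilREPRLE
import Cfsg.Agent.Lib.Helper27.WeilCONGR
import Cfsg.Agent.Lib.Helper27.WeilORBIT
import Cfsg.Agent.Lib.Helper2.WeilNONTRIV
import Cfsg.Agent.Lib.Helper2.WeilLOWER
-- import your own Cfsg.Agent.* helpers here

set_option autoImplicit false
open Cfsg

namespace Cfsg.Agent.S2347

/-- Smallest degree of a non-linear irreducible complex representation of the symplectic group Sp_{2n} over a finite field of odd order q, n ≥ 2: every irreducible complex representation of degree at least 2 has degree at least (q^n − 1)/2, and there is an irreducible complex representation of exactly that degree (a Weil representation). -/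
theorem result {F : Type*} [Field F] [Fintype F] [DecidableEq F] (n : ℕ) (hn : 2 ≤ n) (hodd : Odd (Fintype.card F)) :
    (∀ (k : ℕ) (ρ : Representation ℂ (Matrix.symplecticGroup (Fin n) F) (Fin k → ℂ)), ρ.IsIrreducible → 2 ≤ k → (Fintype.card F ^ n - 1) / 2 ≤ k) ∧
    (∃ ρ : Representation ℂ (Matrix.symplecticGroup (Fin n) F) (Fin ((Fintype.card F ^ n - 1) / 2) → ℂ), ρ.IsIrreducible) := by
  classical
  have h3 : 3 ≤ Fintype.card F := by
    have h1 : 2 ≤ Fintype.card F := Fintype.one_lt_card
    rcases hodd with ⟨r, hr⟩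
    omega
  have h2 : (2 : F) ≠ 0 := by
    intro h
    have hdvd : ringChar F ∣ 2 := by
      have := (ringChar.spec F 2).1 (by exact_mod_cast h)
      exact this
    have hchar : ringChar F = 2 := by
      rcases (Nat.dvd_prime Nat.prime_two).1 hdvd with h1 | h1
      · exact absurd h1 CharP.ringChar_ne_one
      · exact h1
    have := FiniteField.even_card_of_char_two hchar
    rw [Nat.odd_iff] at hodd
    omega
  constructor
  · intro k ρ hirr hk
    have hne : ∃ g, ρ g ≠ 1 := by
      by_contra hcon
      have hall : ∀ g, ρ g = 1 := by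
        intro g
        by_contra hg
        exact hcon ⟨g, hg⟩
      have h0 := @eq_bot_or_eq_top (Subrepresentation ρ) _ _ hirr
        ⟨Submodule.span ℂ {(Pi.single (⟨0, by omega⟩ : Fin k) (1 : ℂ) : Fin k → ℂ)}, by
          intro g v hv
          rw [hall g]
          exact hv⟩
      rcases h0 with h0 | h0
      · have h1 := congrArg Subrepresentation.toSubmodule h0
        have h2 : Submodule.span ℂ {(Pi.single (⟨0, by omega⟩ : Fin k) (1 : ℂ) : Fin k → ℂ)} = ⊥ := h1
        rw [Submodule.span_singleton_eq_bot] at h2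
        have h3 := congrFun h2 ⟨0, by omega⟩
        rw [Pi.single_eq_same] at h3
        exact one_ne_zero h3
      · have h1 := congrArg Subrepresentation.toSubmodule h0
        have h2 : Submodule.span ℂ {(Pi.single (⟨0, by omega⟩ : Fin k) (1 : ℂ) : Fin k → ℂ)} = ⊤ := h1
        have h3 : (Pi.single (⟨1, by omega⟩ : Fin k) (1 : ℂ) : Fin k → ℂ) ∈
            Submodule.span ℂ {(Pi.single (⟨0, by omega⟩ : Fin k) (1 : ℂ) : Fin k → ℂ)} := by
          rw [h2]
          exact Submodule.mem_top
        obtain ⟨c, hc⟩ := Submodule.mem_span_singleton.1 h3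
        have h4 := congrFun hc ⟨1, by omega⟩
        rw [Pi.smul_apply, Pi.single_eq_same, Pi.single_eq_of_ne (by
          intro h
          exact absurd (congrArg Fin.val h) (by norm_num)), smul_zero] at h4
        exact zero_ne_one h4
    have hS := Cfsg.Agent.Helper6.Weil.exists_xL_ne_one (by omega) ρ hne
    have hb := Cfsg.Agent.Helper6.Weil.lower_bound hn hodd
      (fun T hT hT0 => Cfsg.Agent.Helper6.Weil.ncard_orbit_ge hn h2 T hT hT0
        (fun T' l hl => Cfsg.Agent.Helper6.Weil.ncard_repr_le T' l hl)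
        (fun T' l hl w hw z hz => Cfsg.Agent.Helper6.Weil.exists_congr_mulVec_eq T' l hl w hw z hz))
      (fun ψ hψ lam => Cfsg.Agent.Helper6.Weil.exists_symmChar ψ hψ h2 lam)
      (fun ψ hψ T T' hT hT' h => Cfsg.Agent.Helper6.Weil.symmChar_injective ψ hψ h2 T T' hT hT' h)
      Cfsg.Agent.Helper6.Weil.xL_zero Cfsg.Agent.Helper6.Weil.xL_add
      Cfsg.Agent.Helper6.Weil.dG_mul_xL Cfsg.Agent.Helper6.Weil.cjS_surjective ρ hS
    rwa [Module.finrank_fin_fun] at hb
  · exact Cfsg.Agent.Helper6.Weil.exists_weil n hn hodd h2 h3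

end Cfsg.Agent.S2347
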