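import Mathlib
import Cfsg.Statements.S2355
import Cfsg.Agent.Lib.Helper12.LawFamX

set_option autoImplicit false
open Cfsg

namespace Cfsg.Agent.S2355

/-- A non-trivial law is satisfied by only finitely many finite simple groups that are alternating or classical, up to isomorphism: for every non-trivial element w of the free group on countably many generators there is a bound N such that every alternating group of degree ≥ 5 and every simple classical group (linear, symplectic, unitary or orthogonal, in this problem's sense) in which w is a law has order at most N. -/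
theorem result (w : FreeGroup ℕ) (hw : w ≠ 1) :
    ∃ N : ℕ, ∀ (G : Type*) [Group G] [Finite G],
      (Cfsg.IsAlternating G ∨ Cfsg.IsPSL G ∨ Cfsg.IsPSp G ∨ Cfsg.IsPSU G ∨ Cfsg.IsPOmegaOdd G ∨
          Cfsg.IsPOmegaPlus G ∨ Cfsg.IsPOmegaMinus G) →
      (∀ f : ℕ → G, FreeGroup.lift f w = 1) → Nat.card G ≤ N := by
  classical
  obtain ⟨n0, hn5, hn0⟩ := Cfsg.Agent.Helper12.LawFin.big_alt w hw
  obtain ⟨q0, hq4, hq0⟩ := Cfsg.Agent.Helper12.LawFin.big_sl2 w hw
  refine ⟨max n0.factorial
    ((max q0 ((Cfsg.Agent.S2353.bound w.toWord + 2) ^ 2)) ^ ((2 * n0 + 2) * (2 * n0 + 2))), ?_⟩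
  intro G _ _ hG hlaw
  have hA1 : q0 ≤ max q0 ((Cfsg.Agent.S2353.bound w.toWord + 2) ^ 2) := le_max_left _ _
  have hA2 : (Cfsg.Agent.S2353.bound w.toWord + 2) ^ 2 ≤
      max q0 ((Cfsg.Agent.S2353.bound w.toWord + 2) ^ 2) := le_max_right _ _
  rcases hG with h | h | h | h | h | h | h
  · -- alternating groups
    obtain ⟨n, -, ⟨e⟩⟩ := h
    have hlt : n < n0 := by
      by_contra hcon
      push Not at hcon
      obtain ⟨f, hf⟩ := hn0 n hcon
      apply hf
      rw [Cfsg.Agent.Helper12.LawFin.law_of_mulEquiv e hlaw f]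
      exact Subgroup.one_mem _
    refine le_trans ?_ (le_max_left _ _)
    rw [Nat.card_congr e.toEquiv]
    calc Nat.card (alternatingGroup (Fin n)) ≤ Nat.card (Equiv.Perm (Fin n)) :=
          Subgroup.card_le_card_group _
      _ = n.factorial := by
          rw [Nat.card_eq_fintype_card, Fintype.card_perm, Fintype.card_fin]
      _ ≤ n0.factorial := Nat.factorial_le hlt.le
  · -- linear groups
    obtain ⟨F, _, _, n, hn2, -, ⟨e⟩⟩ := h
    have hnot : ¬ Cfsg.Agent.Helper12.LawFin.Big w (Matrix.SpecialLinearGroup (Fin n) F) :=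
      fun hb => hb.not_law e hlaw
    have hlt : n < n0 := by
      by_contra hcon
      push Not at hcon
      exact hnot (Cfsg.Agent.Helper12.LawFin.big_SL_of_alt F n (hn0 n hcon))
    have hF : Fintype.card F < q0 := by
      by_contra hcon
      push Not at hcon
      obtain ⟨k, rfl⟩ := Nat.exists_eq_add_of_le hn2
      exact hnot (Cfsg.Agent.Helper12.LawFin.big_SL_of_sl2 F k (hq0 F hcon))
    refine le_trans ?_ (le_max_right _ _)
    refine le_trans (Cfsg.Agent.Helper12.LawFin.card_le_of_matrix
      (fun g : Matrix.SpecialLinearGroup (Fin n) F => (g : Matrix (Fin n) (Fin n) F))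
      Subtype.val_injective e) ?_
    rw [Fintype.card_fin]
    exact Cfsg.Agent.Helper12.LawFin.card_bound (by omega) (by omega) Fintype.card_pos
  · -- symplectic groups
    obtain ⟨F, _, _, m, hm2, -, ⟨e⟩⟩ := h
    have hnot : ¬ Cfsg.Agent.Helper12.LawFin.Big w (Matrix.symplecticGroup (Fin m) F) :=
      fun hb => hb.not_law e hlaw
    have hlt : m < n0 := by
      by_contra hcon
      push Not at hcon
      exact hnot (Cfsg.Agent.Helper12.LawFin.big_Sp_of_GL F (Fin m)
        (Cfsg.Agent.Helper12.LawFin.big_GL_of_alt F m (hn0 m hcon)))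
    have hF : Fintype.card F < q0 := by
      by_contra hcon
      push Not at hcon
      obtain ⟨k, rfl⟩ := Nat.exists_eq_add_of_le hm2
      exact hnot (Cfsg.Agent.Helper12.LawFin.big_Sp_of_GL F (Fin (2 + k))
        (Cfsg.Agent.Helper12.LawFin.big_GL_of_sl2 F k (hq0 F hcon)))
    refine le_trans ?_ (le_max_right _ _)
    refine le_trans (Cfsg.Agent.Helper12.LawFin.card_le_of_matrix
      (fun g : Matrix.symplecticGroup (Fin m) F =>
        (g : Matrix (Fin m ⊕ Fin m) (Fin m ⊕ Fin m) F))
      Subtype.val_injective e) ?_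
    rw [Fintype.card_sum, Fintype.card_fin]
    exact Cfsg.Agent.Helper12.LawFin.card_bound (by omega) (by omega) Fintype.card_pos
  · -- unitary groups
    obtain ⟨F, _, _, n, q, hFq, hn3, -, ⟨e⟩⟩ := h
    have hnot : ¬ Cfsg.Agent.Helper12.LawFin.Big w (Cfsg.SU n F q) :=
      fun hb => hb.not_law e hlaw
    have hlt : n < n0 := by
      by_contra hcon
      push Not at hcon
      exact hnot (Cfsg.Agent.Helper12.LawFin.big_SU_of_alt n q (hn0 n hcon))
    have hq : q < Cfsg.Agent.S2353.bound w.toWord + 2 := by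
      by_contra hcon
      push Not at hcon
      obtain ⟨k, rfl⟩ := Nat.exists_eq_add_of_le (show 2 ≤ n by omega)
      exact hnot (Cfsg.Agent.Helper12.LawFin.big_SU hFq k w hw hcon)
    refine le_trans ?_ (le_max_right _ _)
    refine le_trans (Cfsg.Agent.Helper12.LawFin.card_le_of_matrix _
      (Cfsg.Agent.Helper12.LawFin.su_val_injective (F := F) n q) e) ?_
    rw [Fintype.card_fin]
    have hq2 : q ^ 2 ≤ (Cfsg.Agent.S2353.bound w.toWord + 2) ^ 2 := Nat.pow_le_pow_left hq.le 2
    exact Cfsg.Agent.Helper12.LawFin.card_bound (by omega) (by omega) Fintype.card_pos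
  · -- odd-dimensional orthogonal groups
    obtain ⟨F, _, _, m, hm3, -, ⟨e⟩⟩ := h
    have hnot : ¬ Cfsg.Agent.Helper12.LawFin.Big w (Cfsg.Omega F (Cfsg.quadFormOdd m F)) :=
      fun hb => hb.not_law e hlaw
    have hlt : m < n0 := by
      by_contra hcon
      push Not at hcon
      exact hnot (Cfsg.Agent.Helper12.LawFin.big_OmegaOdd m
        (Cfsg.Agent.Helper12.LawFin.altGL F m) (Cfsg.Agent.Helper12.LawFin.altGL_injective F m)
        (Cfsg.Agent.Helper12.LawFin.commutator_alt_eq_top m (le_trans hn5 hcon)) (hn0 m hcon))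
    have hF : Fintype.card F < q0 := by
      by_contra hcon
      push Not at hcon
      obtain ⟨k, rfl⟩ := Nat.exists_eq_add_of_le (show 2 ≤ m by omega)
      exact hnot (Cfsg.Agent.Helper12.LawFin.big_OmegaOdd (2 + k)
        (Cfsg.Agent.Helper12.LawFin.sl2GL F k) (Cfsg.Agent.Helper12.LawFin.sl2GL_injective F k)
        (Cfsg.Agent.Helper12.LawFin.commutator_sl2_eq_top F (le_trans hq4 hcon)) (hq0 F hcon))
    refine le_trans ?_ (le_max_right _ _)
    refine le_trans (Cfsg.Agent.Helper12.LawFin.card_le_of_matrix _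
      (Cfsg.Agent.Helper12.LawFin.omega_val_injective (Cfsg.quadFormOdd m F)) e) ?_
    rw [Fintype.card_sum, Fintype.card_sum, Fintype.card_fin, Fintype.card_unit]
    exact Cfsg.Agent.Helper12.LawFin.card_bound (by omega) (by omega) Fintype.card_pos
  · -- orthogonal groups of plus type
    obtain ⟨F, _, _, m, hm4, ⟨e⟩⟩ := h
    have hnot : ¬ Cfsg.Agent.Helper12.LawFin.Big w (Cfsg.Omega F (Cfsg.quadFormPlus m F)) :=
      fun hb => hb.not_law e hlaw
    have hlt : m < n0 := by
      by_contra hcon
      push Not at hcon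
      exact hnot (Cfsg.Agent.Helper12.LawFin.big_OmegaPlus m
        (Cfsg.Agent.Helper12.LawFin.altGL F m) (Cfsg.Agent.Helper12.LawFin.altGL_injective F m)
        (Cfsg.Agent.Helper12.LawFin.commutator_alt_eq_top m (le_trans hn5 hcon)) (hn0 m hcon))
    have hF : Fintype.card F < q0 := by
      by_contra hcon
      push Not at hcon
      obtain ⟨k, rfl⟩ := Nat.exists_eq_add_of_le (show 2 ≤ m by omega)
      exact hnot (Cfsg.Agent.Helper12.LawFin.big_OmegaPlus (2 + k)
        (Cfsg.Agent.Helper12.LawFin.sl2GL F k) (Cfsg.Agent.Helper12.LawFin.sl2GL_injective F k)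
        (Cfsg.Agent.Helper12.LawFin.commutator_sl2_eq_top F (le_trans hq4 hcon)) (hq0 F hcon))
    refine le_trans ?_ (le_max_right _ _)
    refine le_trans (Cfsg.Agent.Helper12.LawFin.card_le_of_matrix _
      (Cfsg.Agent.Helper12.LawFin.omega_val_injective (Cfsg.quadFormPlus m F)) e) ?_
    rw [Fintype.card_sum, Fintype.card_fin]
    exact Cfsg.Agent.Helper12.LawFin.card_bound (by omega) (by omega) Fintype.card_pos
  · -- orthogonal groups of minus type
    obtain ⟨F, _, _, m, a, b, hm4, -, ⟨e⟩⟩ := h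
    have hnot : ¬ Cfsg.Agent.Helper12.LawFin.Big w
        (Cfsg.Omega F (Cfsg.quadFormMinus (m - 1) F a b)) :=
      fun hb => hb.not_law e hlaw
    have hlt : m - 1 < n0 := by
      by_contra hcon
      push Not at hcon
      exact hnot (Cfsg.Agent.Helper12.LawFin.big_OmegaMinus (m - 1) a b
        (Cfsg.Agent.Helper12.LawFin.altGL F (m - 1))
        (Cfsg.Agent.Helper12.LawFin.altGL_injective F (m - 1))
        (Cfsg.Agent.Helper12.LawFin.commutator_alt_eq_top (m - 1) (le_trans hn5 hcon))
        (hn0 (m - 1) hcon))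
    have hF : Fintype.card F < q0 := by
      by_contra hcon
      push Not at hcon
      obtain ⟨k, hk⟩ := Nat.exists_eq_add_of_le (show 2 ≤ m - 1 by omega)
      rw [hk] at hnot
      exact hnot (Cfsg.Agent.Helper12.LawFin.big_OmegaMinus (2 + k) a b
        (Cfsg.Agent.Helper12.LawFin.sl2GL F k) (Cfsg.Agent.Helper12.LawFin.sl2GL_injective F k)
        (Cfsg.Agent.Helper12.LawFin.commutator_sl2_eq_top F (le_trans hq4 hcon)) (hq0 F hcon))
    refine le_trans ?_ (le_max_right _ _)
    refine le_trans (Cfsg.Agent.Helper12.LawFin.card_le_of_matrix _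
      (Cfsg.Agent.Helper12.LawFin.omega_val_injective (Cfsg.quadFormMinus (m - 1) F a b)) e) ?_
    rw [Fintype.card_sum, Fintype.card_sum, Fintype.card_fin, Fintype.card_fin]
    exact Cfsg.Agent.Helper12.LawFin.card_bound (by omega) (by omega) Fintype.card_pos

end Cfsg.Agent.S2355
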