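import Mathlib
import Cfsg.Statements.S2360
import Cfsg.Agent.Lib.Helper11.UnitaryInvolOdd
import Cfsg.Agent.Lib.Helper11.Unitary3
import Cfsg.Agent.S0278

set_option autoImplicit false
open Cfsg

namespace Cfsg.Agent.S2360

open Cfsg.Agent.Helper11 Cfsg.Agent.Helper11.Herm
open Matrix

section aux

variable {F : Type*} [Field F] [Fintype F] {q : ℕ}

/-- the matrix of an element of SU -/
abbrev mat (x : ↥(Cfsg.SU 3 F q)) : Matrix (Fin 3) (Fin 3) F :=
  ((x : Matrix.SpecialLinearGroup (Fin 3) F) : Matrix (Fin 3) (Fin 3) F)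

theorem two_ne_zero_of_odd (hq : Odd q) (hF : Fintype.card F = q ^ 2) : (2 : F) ≠ 0 := by
  intro h
  have h1 : ((q ^ 2 : ℕ) : F) = 0 := by
    rw [← hF]
    exact Nat.cast_card_eq_zero F
  obtain ⟨j, hj⟩ := hq.pow (n := 2)
  rw [hj] at h1
  push_cast at h1
  rw [h, zero_mul, zero_add] at h1
  exact one_ne_zero h1

theorem mat_one : mat (1 : ↥(Cfsg.SU 3 F q)) = 1 := rfl

theorem rf_ne_one (φ : F →+* F) (h2 : (2 : F) ≠ 0) (v : Fin 3 → F) (hv : hdot φ v v = 1) :
    rf φ v ≠ 1 := by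
  intro h
  have := congrArg Matrix.trace h
  rw [trace_rf φ v hv, Matrix.trace_one, Fintype.card_fin] at this
  apply h2
  have h4 : (2 : F) * 2 = 0 := by
    push_cast at this
    linear_combination -this
  rcases mul_eq_zero.1 h4 with h5 | h5 <;> exact h5

/-- involutions are the reflections -/
theorem inv_iff (hF : Fintype.card F = q ^ 2) (φ : F →+* F) (hφ : ∀ x, φ x = x ^ q)
    (h2 : (2 : F) ≠ 0) (x : ↥(Cfsg.SU 3 F q)) :
    (x ≠ 1 ∧ x * x = 1) ↔ ∃ v : Fin 3 → F, hdot φ v v = 1 ∧ mat x = rf φ v := by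
  have hφφ := frob_frob hF φ hφ
  have hN1 := frob_norm_surj hF φ hφ
  constructor
  · rintro ⟨hx1, hxx⟩
    have hU : IsU φ (mat x) := (mem_SU_iff_isU φ hφ 3 _).1 x.2
    have hdet : (mat x).det = 1 := x.1.2
    have hTT : mat x * mat x = 1 := by
      rw [← SU_mul_coe, hxx]
      rfl
    have hT1 : mat x ≠ 1 := by
      intro h
      apply hx1
      apply SU_ext
      exact h
    exact exists_rf_of_involution φ hφφ hN1 h2 (by simp) (mat x) hU hdet hTT hT1
  · rintro ⟨v, hv, hxv⟩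
    constructor
    · intro h
      apply rf_ne_one φ h2 v hv
      rw [← hxv, h]
      rfl
    · apply SU_ext
      rw [SU_mul_coe]
      show mat x * mat x = 1
      rw [hxv, rf_mul_self φ v hv]

theorem ne_zero_of_norm_one (φ : F →+* F) (v : Fin 3 → F) (hv : hdot φ v v = 1) : v ≠ 0 := by
  intro h
  rw [h, hdot_zero_left] at hv
  exact zero_ne_one hv

/-- the reflection as an element of SU -/
noncomputable def mkRf (hF : Fintype.card F = q ^ 2) (φ : F →+* F) (hφ : ∀ x, φ x = x ^ q)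
    (v : Fin 3 → F) (hv : hdot φ v v = 1) : ↥(Cfsg.SU 3 F q) :=
  mkSU hF 3 (rf φ v) (by rw [det_rf φ v hv, Fintype.card_fin]; norm_num) (fun ψ hψ => by
    have : ψ = φ := RingHom.ext (fun x => by rw [hψ, hφ])
    rw [this]
    exact isU_rf φ (frob_frob hF φ hφ) v hv)

theorem mat_mkRf (hF : Fintype.card F = q ^ 2) (φ : F →+* F) (hφ : ∀ x, φ x = x ^ q)
    (v : Fin 3 → F) (hv : hdot φ v v = 1) : mat (mkRf hF φ hφ v hv) = rf φ v := rfl

theorem conj_rf (hF : Fintype.card F = q ^ 2) (φ : F →+* F) (hφ : ∀ x, φ x = x ^ q)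
    (v w : Fin 3 → F) (hv : hdot φ v v = 1) (hw : hdot φ w w = 1) :
    ∃ g : ↥(Cfsg.SU 3 F q), mat g * rf φ v = rf φ w * mat g := by
  have hφφ := frob_frob hF φ hφ
  have hφid := frob_ne_id hF φ hφ
  obtain ⟨M, hM, hMv⟩ := exists_isU_map φ hφid hφφ v w (ne_zero_of_norm_one φ v hv)
    (ne_zero_of_norm_one φ w hw) (by rw [hv, hw])
  have hdn := hM.det_norm φ
  have hd0 := hM.det_ne_zero φ
  obtain ⟨δ, hδdef⟩ : ∃ δ, δ = (M.det)⁻¹ := ⟨_, rfl⟩
  have hδ : δ * φ δ = 1 := by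
    rw [hδdef, map_inv₀, ← mul_inv, hdn, inv_one]
  have hD : IsU φ (tv φ w (δ - 1)) := by
    apply isU_tv φ hφφ
    rw [hw, map_sub, map_one]
    linear_combination hδ
  have hG : IsU φ (tv φ w (δ - 1) * M) := IsU.mul φ hD hM
  have hGdet : (tv φ w (δ - 1) * M).det = 1 := by
    rw [Matrix.det_mul, det_tv, hw, hδdef]
    field_simp
    ring
  refine ⟨mkSU hF 3 (tv φ w (δ - 1) * M) hGdet (fun ψ hψ => by
    have : ψ = φ := RingHom.ext (fun x => by rw [hψ, hφ])
    rw [this]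
    exact hG), ?_⟩
  show (tv φ w (δ - 1) * M) * rf φ v = rf φ w * (tv φ w (δ - 1) * M)
  rw [isU_mul_rf φ hG, ← Matrix.mulVec_mulVec, hMv, tv_mulVec, hw]
  have : w + ((δ - 1) * 1) • w = δ • w := by module
  rw [this, rf_smul φ δ hδ]

theorem conj_of_mat (g t x : ↥(Cfsg.SU 3 F q)) (h : mat g * mat t = mat x * mat g) :
    g * t * g⁻¹ = x := by
  rw [mul_inv_eq_iff_eq_mul]
  apply SU_ext
  rw [SU_mul_coe, SU_mul_coe]
  exact h

theorem card_inv_mul (hF : Fintype.card F = q ^ 2) (φ : F →+* F) (hφ : ∀ x, φ x = x ^ q)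
    (h2 : (2 : F) ≠ 0) :
    Nat.card {x : ↥(Cfsg.SU 3 F q) // x ≠ 1 ∧ x * x = 1} * (q + 1) = q ^ 2 * (q ^ 3 + 1) := by
  have hφφ := frob_frob hF φ hφ
  have hcnt : Nat.card {v : Fin 3 → F // hdot φ v v = 1} = q ^ 2 * (q ^ 3 + 1) := by
    have h1 := cnt_one_eq hF 3
    rw [if_neg (by decide)] at h1
    unfold cnt at h1
    simp only [hermForm_eq_hdot φ hφ] at h1
    exact h1
  obtain ⟨Θ, hΘ⟩ : ∃ Θ : {v : Fin 3 → F // hdot φ v v = 1} →
      {x : ↥(Cfsg.SU 3 F q) // x ≠ 1 ∧ x * x = 1}, ∀ v, mat (Θ v).1 = rf φ v.1 :=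
    ⟨fun v => ⟨mkRf hF φ hφ v.1 v.2, (inv_iff hF φ hφ h2 _).2 ⟨v.1, v.2, rfl⟩⟩, fun v => rfl⟩
  have hfib : ∀ b : {x : ↥(Cfsg.SU 3 F q) // x ≠ 1 ∧ x * x = 1},
      Nat.card {a : {v : Fin 3 → F // hdot φ v v = 1} // Θ a = b} = q + 1 := by
    intro b
    obtain ⟨v0, hv0, hb⟩ := (inv_iff hF φ hφ h2 b.1).1 b.2
    have hv00 := ne_zero_of_norm_one φ v0 hv0
    rw [← card_norm_one hF]
    symm
    have hmem : ∀ δ : {x : F // x * x ^ q = 1}, hdot φ (δ.1 • v0) (δ.1 • v0) = 1 := by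
      intro δ
      rw [hdot_smul_left, hdot_smul_right, hv0, hφ, mul_one]
      exact δ.2
    have hΘeq : ∀ δ : {x : F // x * x ^ q = 1}, Θ ⟨δ.1 • v0, hmem δ⟩ = b := by
      intro δ
      apply Subtype.ext
      apply SU_ext
      show mat (Θ ⟨δ.1 • v0, hmem δ⟩).1 = mat b.1
      rw [hΘ, hb]
      exact rf_smul φ δ.1 (by rw [hφ]; exact δ.2) v0
    apply Nat.card_congr
    refine Equiv.ofBijective (fun δ => ⟨⟨δ.1 • v0, hmem δ⟩, hΘeq δ⟩) ⟨?_, ?_⟩
    · intro δ δ' h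
      have h1 : δ.1 • v0 = δ'.1 • v0 := congrArg (fun z => z.1.1) h
      apply Subtype.ext
      exact smul_left_injective F hv00 h1
    · rintro ⟨⟨a, ha⟩, hab⟩
      have h1 : rf φ v0 = rf φ a := by
        rw [← hb, ← hab, hΘ]
      obtain ⟨δ, hδ, haδ⟩ := (rf_eq_rf_iff φ hφφ h2 v0 a hv0 ha).1 h1
      refine ⟨⟨δ, by rw [← hφ]; exact hδ⟩, ?_⟩
      apply Subtype.ext
      apply Subtype.ext
      exact haδ.symm
  have : Fintype {x : ↥(Cfsg.SU 3 F q) // x ≠ 1 ∧ x * x = 1} := Fintype.ofFinite _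
  rw [← hcnt, Nat.card_congr (Equiv.sigmaFiberEquiv Θ).symm, Nat.card_sigma,
    Finset.sum_congr rfl (fun b _ => hfib b), Finset.sum_const, Finset.card_univ, smul_eq_mul,
    Nat.card_eq_fintype_card]

end aux

/-- SU3(q), q odd: all involutions are conjugate and there are q²(q²−q+1) of them, an involution centralizer has order q(q+1)(q²−1) (the order of GU2(q)), and two distinct commuting involutions have exactly one further involution commuting with both. -/
theorem result {F : Type*} [Field F] [Fintype F] {q : ℕ} (hq : Odd q)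
    (hF : Fintype.card F = q ^ 2) (t : ↥(Cfsg.SU 3 F q)) (ht : t ≠ 1) (ht2 : t * t = 1) :
    (∀ x : ↥(Cfsg.SU 3 F q), x ≠ 1 → x * x = 1 → ∃ g : ↥(Cfsg.SU 3 F q), g * t * g⁻¹ = x) ∧
    Nat.card {x : ↥(Cfsg.SU 3 F q) // x ≠ 1 ∧ x * x = 1} = q ^ 2 * (q ^ 2 - q + 1) ∧
    Nat.card ↥(Subgroup.centralizer ({t} : Set ↥(Cfsg.SU 3 F q))) = q * (q + 1) * (q ^ 2 - 1) ∧
    ∀ x : ↥(Cfsg.SU 3 F q), x ≠ 1 → x * x = 1 → x ≠ t → Commute t x →
      Nat.card {y : ↥(Cfsg.SU 3 F q) // y ≠ 1 ∧ y * y = 1 ∧ y ≠ t ∧ y ≠ x ∧ Commute t y ∧ Commute x y} = 1 := by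
  obtain ⟨φ, hφ⟩ := exists_frob hF
  have hφφ := frob_frob hF φ hφ
  have h2 := two_ne_zero_of_odd hq hF
  have hq2 := two_le_q hF
  obtain ⟨v, hv, htv⟩ := (inv_iff hF φ hφ h2 t).1 ⟨ht, ht2⟩
  have hconj : ∀ x : ↥(Cfsg.SU 3 F q), x ≠ 1 → x * x = 1 →
      ∃ g : ↥(Cfsg.SU 3 F q), g * t * g⁻¹ = x := by
    intro x hx1 hxx
    obtain ⟨w, hw, hxw⟩ := (inv_iff hF φ hφ h2 x).1 ⟨hx1, hxx⟩
    obtain ⟨g, hg⟩ := conj_rf hF φ hφ v w hv hw
    exact ⟨g, conj_of_mat g t x (by rw [htv, hxw]; exact hg)⟩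
  have hqq : q ≤ q ^ 2 := by nlinarith
  have hq3 : q ^ 3 + 1 = (q ^ 2 - q + 1) * (q + 1) := by
    zify [hqq]
    ring
  have hcount : Nat.card {x : ↥(Cfsg.SU 3 F q) // x ≠ 1 ∧ x * x = 1} =
      q ^ 2 * (q ^ 2 - q + 1) := by
    have h := card_inv_mul hF φ hφ h2
    rw [hq3, ← mul_assoc] at h
    exact Nat.eq_of_mul_eq_mul_right (by omega) h
  have hcent : Nat.card ↥(Subgroup.centralizer ({t} : Set ↥(Cfsg.SU 3 F q))) =
      q * (q + 1) * (q ^ 2 - 1) := by
    have h1 := Subgroup.card_mul_index (MulAction.stabilizer (ConjAct ↥(Cfsg.SU 3 F q)) t)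
    rw [MulAction.index_stabilizer, ← Subgroup.nat_card_centralizer_nat_card_stabilizer] at h1
    have horb : MulAction.orbit (ConjAct ↥(Cfsg.SU 3 F q)) t =
        {x : ↥(Cfsg.SU 3 F q) | x ≠ 1 ∧ x * x = 1} := by
      ext x
      rw [ConjAct.mem_orbit_conjAct, Set.mem_setOf_eq]
      constructor
      · intro h
        obtain ⟨c, hc⟩ := isConj_iff.1 h
        have hx : x = c⁻¹ * t * c := by
          rw [← hc]
          group
        constructor
        · intro hx1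
          apply ht
          rw [← hc, hx1]
          group
        · rw [hx]
          calc c⁻¹ * t * c * (c⁻¹ * t * c) = c⁻¹ * (t * t) * c := by group
            _ = 1 := by rw [ht2]; group
      · rintro ⟨hx1, hxx⟩
        obtain ⟨g, hg⟩ := hconj x hx1 hxx
        exact isConj_iff.2 ⟨g⁻¹, by rw [← hg]; group⟩
    rw [horb] at h1
    have e1 : Set.ncard {x : ↥(Cfsg.SU 3 F q) | x ≠ 1 ∧ x * x = 1} =
        Nat.card {x : ↥(Cfsg.SU 3 F q) // x ≠ 1 ∧ x * x = 1} := by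
      rw [← Nat.card_coe_set_eq]
      rfl
    rw [e1, hcount] at h1
    have e2 : Nat.card (ConjAct ↥(Cfsg.SU 3 F q)) = Nat.card ↥(Cfsg.SU 3 F q) := rfl
    rw [e2] at h1
    have hSU := Cfsg.Agent.S0278.result hF 3 (by norm_num)
    have hprod : (∏ i ∈ Finset.range 3, (if Even i then q ^ (i + 1) + 1 else q ^ (i + 1) - 1)) =
        (q + 1) * (q ^ 2 - 1) * (q ^ 3 + 1) := by
      rw [Finset.prod_range_succ, Finset.prod_range_succ, Finset.prod_range_one]
      rw [if_pos (by decide), if_neg (by decide), if_pos (by decide)]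
      ring
    rw [hprod, hq3] at hSU
    norm_num at hSU
    obtain ⟨a, ha⟩ : ∃ a, a = q ^ 2 - 1 := ⟨_, rfl⟩
    obtain ⟨b, hb⟩ : ∃ b, b = q ^ 2 - q + 1 := ⟨_, rfl⟩
    rw [← ha, ← hb] at hSU
    rw [← ha]
    rw [← hb] at h1
    have hb0 : 0 < b := by omega
    have hq0 : 0 < q := by omega
    have h3 : Nat.card ↥(Cfsg.SU 3 F q) = q ^ 3 * a * b * (q + 1) := by
      apply Nat.eq_of_mul_eq_mul_left (by omega : 0 < q + 1)
      rw [hSU]
      ring
    rw [h3] at h1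
    apply Nat.eq_of_mul_eq_mul_right (by positivity : 0 < q ^ 2 * b)
    rw [h1]
    ring
  refine ⟨hconj, hcount, hcent, ?_⟩
  intro x hx1 hxx hxt hc
  obtain ⟨w, hw, hxw⟩ := (inv_iff hF φ hφ h2 x).1 ⟨hx1, hxx⟩
  have hcomm_mat : ∀ a b : ↥(Cfsg.SU 3 F q), Commute a b → mat a * mat b = mat b * mat a := by
    intro a b hab
    rw [← SU_mul_coe, ← SU_mul_coe, hab.eq]
  have hvw : hdot φ v w = 0 := by
    have h := hcomm_mat t x hc
    rw [htv, hxw] at h
    rcases rf_commute φ hφφ h2 v w hv hw h with h3 | h3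
    · exfalso
      apply hxt
      apply SU_ext
      show mat x = mat t
      rw [htv, hxw, h3]
    · exact h3
  rw [Nat.card_eq_one_iff_unique]
  constructor
  · constructor
    have huniq : ∀ y : {y : ↥(Cfsg.SU 3 F q) // y ≠ 1 ∧ y * y = 1 ∧ y ≠ t ∧ y ≠ x ∧
        Commute t y ∧ Commute x y}, y.1 = t * x := by
      rintro ⟨y, hy1, hyy, hyt, hyx, hty, hxy⟩
      obtain ⟨u, hu, hyu⟩ := (inv_iff hF φ hφ h2 y).1 ⟨hy1, hyy⟩
      have hvu : hdot φ v u = 0 := by
        have h := hcomm_mat t y hty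
        rw [htv, hyu] at h
        rcases rf_commute φ hφφ h2 v u hv hu h with h3 | h3
        · exfalso
          apply hyt
          apply SU_ext
          show mat y = mat t
          rw [htv, hyu, h3]
        · exact h3
      have hwu : hdot φ w u = 0 := by
        have h := hcomm_mat x y hxy
        rw [hxw, hyu] at h
        rcases rf_commute φ hφφ h2 w u hw hu h with h3 | h3
        · exfalso
          apply hyx
          apply SU_ext
          show mat y = mat x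
          rw [hxw, hyu, h3]
        · exact h3
      apply SU_ext
      rw [SU_mul_coe]
      show mat y = mat t * mat x
      rw [htv, hxw, hyu, rf_mul_rf_eq φ hφφ (by simp) v w u hv hw hu hvw hvu hwu]
    intro y y'
    apply Subtype.ext
    rw [huniq y, huniq y']
  · refine ⟨⟨t * x, ?_, ?_, ?_, ?_, ?_, ?_⟩⟩
    · intro h
      apply hxt
      have : x = t⁻¹ := (eq_inv_of_mul_eq_one_right h)
      rw [this]
      exact inv_eq_of_mul_eq_one_right ht2
    · calc t * x * (t * x) = t * (x * t) * x := by group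
        _ = t * (t * x) * x := by rw [hc.eq]
        _ = (t * t) * (x * x) := by group
        _ = 1 := by rw [ht2, hxx, one_mul]
    · intro h
      apply hx1
      have := mul_left_cancel (a := t) (b := x) (c := 1) (by rw [h, mul_one])
      exact this
    · intro h
      apply ht
      have := mul_right_cancel (a := t) (b := x) (c := 1) (by rw [h, one_mul])
      exact this
    · exact (Commute.refl t).mul_right hc
    · exact hc.symm.mul_right (Commute.refl x)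

end Cfsg.Agent.S2360
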