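import Mathlib
import Cfsg.Statements.S2356
import Cfsg.Agent.Lib.Helper11.UnitaryInvolOdd2
import Cfsg.Agent.S2360

set_option autoImplicit false
open Cfsg

namespace Cfsg.Agent.S2356

open Cfsg.Agent.Helper11 Cfsg.Agent.Helper11.Herm Cfsg.Agent.S2360
open Matrix

section aux

variable {F : Type*} [Field F] [Fintype F] {q : ℕ}

theorem mkRf_eq_iff (hF : Fintype.card F = q ^ 2) (φ : F →+* F) (hφ : ∀ x, φ x = x ^ q)
    (v w : Fin 3 → F) (hv : hdot φ v v = 1) (hw : hdot φ w w = 1) :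
    mkRf hF φ hφ v hv = mkRf hF φ hφ w hw ↔ rf φ v = rf φ w := by
  constructor
  · intro h
    have := congrArg mat h
    exact this
  · intro h
    apply SU_ext
    exact h

theorem commute_iff (hF : Fintype.card F = q ^ 2) (φ : F →+* F) (hφ : ∀ x, φ x = x ^ q)
    (h2 : (2 : F) ≠ 0) (v w : Fin 3 → F) (hv : hdot φ v v = 1) (hw : hdot φ w w = 1) :
    Commute (mkRf hF φ hφ v hv) (mkRf hF φ hφ w hw) ↔ rf φ v = rf φ w ∨ hdot φ v w = 0 := by
  have hφφ := frob_frob hF φ hφ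
  constructor
  · intro h
    have h1 : mat (mkRf hF φ hφ v hv) * mat (mkRf hF φ hφ w hw) =
        mat (mkRf hF φ hφ w hw) * mat (mkRf hF φ hφ v hv) := by
      rw [← SU_mul_coe, ← SU_mul_coe, h.eq]
    exact rf_commute φ hφφ h2 v w hv hw h1
  · rintro (h | h)
    · rw [(mkRf_eq_iff hF φ hφ v w hv hw).2 h]
    · apply SU_ext
      rw [SU_mul_coe, SU_mul_coe]
      exact rf_commute_of_orth φ hφφ v w h

/-- general counting: involutions with a property versus vectors of norm one -/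
theorem card_R_mul (hF : Fintype.card F = q ^ 2) (φ : F →+* F) (hφ : ∀ x, φ x = x ^ q)
    (h2 : (2 : F) ≠ 0) (R : ↥(Cfsg.SU 3 F q) → Prop) (P : (Fin 3 → F) → Prop)
    (hRP : ∀ (w : Fin 3 → F) (hw : hdot φ w w = 1), R (mkRf hF φ hφ w hw) ↔ P w) :
    Nat.card {x : ↥(Cfsg.SU 3 F q) // x ≠ 1 ∧ x * x = 1 ∧ R x} * (q + 1) =
      Nat.card {w : Fin 3 → F // hdot φ w w = 1 ∧ P w} := by
  have hφφ := frob_frob hF φ hφ
  obtain ⟨Θ, hΘ⟩ : ∃ Θ : {w : Fin 3 → F // hdot φ w w = 1 ∧ P w} → ↥(Cfsg.SU 3 F q),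
      ∀ w, Θ w = mkRf hF φ hφ w.1 w.2.1 := ⟨fun w => mkRf hF φ hφ w.1 w.2.1, fun w => rfl⟩
  have hQ : ∀ w, (fun x : ↥(Cfsg.SU 3 F q) => x ≠ 1 ∧ x * x = 1 ∧ R x) (Θ w) := by
    intro w
    have h1 := (inv_iff hF φ hφ h2 (Θ w)).2 ⟨w.1, w.2.1, by rw [hΘ]; rfl⟩
    refine ⟨h1.1, h1.2, ?_⟩
    rw [hΘ, hRP]
    exact w.2.2
  have hfib : ∀ b : {x : ↥(Cfsg.SU 3 F q) // x ≠ 1 ∧ x * x = 1 ∧ R x},
      Nat.card {a : {w : Fin 3 → F // hdot φ w w = 1 ∧ P w} // Θ a = b} = q + 1 := by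
    intro b
    obtain ⟨v0, hv0, hb⟩ := (inv_iff hF φ hφ h2 b.1).1 ⟨b.2.1, b.2.2.1⟩
    have hbv : b.1 = mkRf hF φ hφ v0 hv0 := by
      apply SU_ext
      exact hb
    have hv00 := ne_zero_of_norm_one φ v0 hv0
    rw [← card_norm_one hF]
    symm
    have hmem : ∀ δ : {x : F // x * x ^ q = 1}, hdot φ (δ.1 • v0) (δ.1 • v0) = 1 := by
      intro δ
      rw [hdot_smul_left, hdot_smul_right, hv0, hφ, mul_one]
      exact δ.2
    have hmk : ∀ δ : {x : F // x * x ^ q = 1}, mkRf hF φ hφ (δ.1 • v0) (hmem δ) = b.1 := by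
      intro δ
      rw [hbv, mkRf_eq_iff]
      exact rf_smul φ δ.1 (by rw [hφ]; exact δ.2) v0
    have hP : ∀ δ : {x : F // x * x ^ q = 1}, P (δ.1 • v0) := by
      intro δ
      rw [← hRP _ (hmem δ), hmk]
      exact b.2.2.2
    apply Nat.card_congr
    refine Equiv.ofBijective (fun δ => ⟨⟨δ.1 • v0, hmem δ, hP δ⟩, by rw [hΘ]; exact hmk δ⟩)
      ⟨?_, ?_⟩
    · intro δ δ' h
      have h1 : δ.1 • v0 = δ'.1 • v0 := congrArg (fun z => z.1.1) h
      apply Subtype.ext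
      exact smul_left_injective F hv00 h1
    · rintro ⟨⟨a, ha, haP⟩, hab⟩
      have h1 : rf φ v0 = rf φ a := by
        rw [hΘ, hbv, mkRf_eq_iff] at hab
        exact hab.symm
      obtain ⟨δ, hδ, haδ⟩ := (rf_eq_rf_iff φ hφφ h2 v0 a hv0 ha).1 h1
      refine ⟨⟨δ, by rw [← hφ]; exact hδ⟩, ?_⟩
      apply Subtype.ext
      apply Subtype.ext
      exact haδ.symm
  have : Fintype {x : ↥(Cfsg.SU 3 F q) // x ≠ 1 ∧ x * x = 1 ∧ R x} := Fintype.ofFinite _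
  rw [← Nat.card_congr (Equiv.sigmaSubtypeFiberEquiv Θ
    (fun x : ↥(Cfsg.SU 3 F q) => x ≠ 1 ∧ x * x = 1 ∧ R x) hQ), Nat.card_sigma,
    Finset.sum_congr rfl (fun b _ => hfib b), Finset.sum_const, Finset.card_univ, smul_eq_mul,
    Nat.card_eq_fintype_card]

theorem card_split {α : Type*} [Finite α] (p r : α → Prop) :
    Nat.card {x : α // p x} = Nat.card {x : α // p x ∧ r x} + Nat.card {x : α // p x ∧ ¬ r x} := by
  classical
  rw [← Nat.card_congr (Equiv.sumCompl (fun a : {x : α // p x} => r a.1)), Nat.card_sum,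
    Nat.card_congr (Equiv.subtypeSubtypeEquivSubtypeInter p r),
    Nat.card_congr (Equiv.subtypeSubtypeEquivSubtypeInter p (fun x => ¬ r x))]

end aux

/-- Commuting involution graph of SU3(q), q odd: connected of diameter 3 with q(q−1), q(q−2)(q²−1), (q+1)(q²−1) involutions at distances 1, 2, 3 from a given one. -/
theorem result {F : Type*} [Field F] [Fintype F] {q : ℕ} (hq : Odd q)
    (hF : Fintype.card F = q ^ 2) (t : ↥(Cfsg.SU 3 F q)) (ht : t ≠ 1) (ht2 : t * t = 1) :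
    Nat.card {x : ↥(Cfsg.SU 3 F q) // x ≠ 1 ∧ x * x = 1 ∧ x ≠ t ∧ Commute t x} = q * (q - 1) ∧
    Nat.card {x : ↥(Cfsg.SU 3 F q) // x ≠ 1 ∧ x * x = 1 ∧ ¬ Commute t x ∧
        ∃ y : ↥(Cfsg.SU 3 F q), y ≠ 1 ∧ y * y = 1 ∧ Commute t y ∧ Commute y x} = q * (q - 2) * (q ^ 2 - 1) ∧
    Nat.card {x : ↥(Cfsg.SU 3 F q) // x ≠ 1 ∧ x * x = 1 ∧ ¬ Commute t x ∧
        ∀ y : ↥(Cfsg.SU 3 F q), y ≠ 1 → y * y = 1 → ¬ (Commute t y ∧ Commute y x)} = (q + 1) * (q ^ 2 - 1) ∧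
    ∀ x : ↥(Cfsg.SU 3 F q), x ≠ 1 → x * x = 1 →
      ∃ y z : ↥(Cfsg.SU 3 F q), y ≠ 1 ∧ y * y = 1 ∧ z ≠ 1 ∧ z * z = 1 ∧
        Commute t y ∧ Commute y z ∧ Commute z x := by
  classical
  obtain ⟨φ, hφ⟩ := exists_frob hF
  have hφφ := frob_frob hF φ hφ
  have hN1 := frob_norm_surj hF φ hφ
  have hφid := frob_ne_id hF φ hφ
  have h2 := two_ne_zero_of_odd hq hF
  have hq3 : 3 ≤ q := by
    have := two_le_q hF
    obtain ⟨j, hj⟩ := hq
    omega
  obtain ⟨v, hv, htv⟩ := (inv_iff hF φ hφ h2 t).1 ⟨ht, ht2⟩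
  have htv' : t = mkRf hF φ hφ v hv := SU_ext _ _ _ htv
  -- involutions are reflections
  have hinv : ∀ x : ↥(Cfsg.SU 3 F q), x ≠ 1 → x * x = 1 →
      ∃ (w : Fin 3 → F) (hw : hdot φ w w = 1), x = mkRf hF φ hφ w hw := by
    intro x hx1 hxx
    obtain ⟨w, hw, hxw⟩ := (inv_iff hF φ hφ h2 x).1 ⟨hx1, hxx⟩
    exact ⟨w, hw, SU_ext _ _ _ hxw⟩
  have hisinv : ∀ (w : Fin 3 → F) (hw : hdot φ w w = 1),
      mkRf hF φ hφ w hw ≠ 1 ∧ mkRf hF φ hφ w hw * mkRf hF φ hφ w hw = 1 :=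
    fun w hw => (inv_iff hF φ hφ h2 _).2 ⟨w, hw, rfl⟩
  have hsymm : ∀ a b : Fin 3 → F, hdot φ a b = 0 → hdot φ b a = 0 :=
    fun a b h => hdot_eq_zero_symm φ hφφ _ _ h
  -- the middle vertex criterion
  have hmid : ∀ (w : Fin 3 → F) (hw : hdot φ w w = 1), rf φ v ≠ rf φ w →
      ((∃ y : ↥(Cfsg.SU 3 F q), y ≠ 1 ∧ y * y = 1 ∧ Commute t y ∧
        Commute y (mkRf hF φ hφ w hw)) ↔ (hdot φ v w = 0 ∨ hdot φ w v * φ (hdot φ w v) ≠ 1)) := by
    intro w hw hne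
    constructor
    · rintro ⟨y, hy1, hyy, hty, hyx⟩
      obtain ⟨u, hu, rfl⟩ := hinv y hy1 hyy
      rw [htv', commute_iff hF φ hφ h2] at hty
      rw [commute_iff hF φ hφ h2] at hyx
      rcases hty with hty | hty
      · -- y = t
        rcases hyx with hyx | hyx
        · exact absurd (hty.trans hyx) hne
        · left
          have h1 : rf φ u *ᵥ w = -w := rf_mulVec_orth φ u w (hsymm _ _ hyx)
          rw [← hty, rf_mulVec] at h1
          have h3 : (2 * hdot φ w v) • v = 0 := add_eq_left.1 h1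
          rcases smul_eq_zero.1 h3 with h4 | h4
          · rcases mul_eq_zero.1 h4 with h5 | h5
            · exact absurd h5 h2
            · exact hsymm _ _ h5
          · exact absurd h4 (ne_zero_of_norm_one φ v hv)
      · rcases hyx with hyx | hyx
        · -- y = x
          left
          have h1 : rf φ w *ᵥ v = -v := by
            rw [← hyx]
            exact rf_mulVec_orth φ u v hty
          rw [rf_mulVec] at h1
          have h3 : (2 * hdot φ v w) • w = 0 := add_eq_left.1 h1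
          rcases smul_eq_zero.1 h3 with h4 | h4
          · rcases mul_eq_zero.1 h4 with h5 | h5
            · exact absurd h5 h2
            · exact h5
          · exact absurd h4 (ne_zero_of_norm_one φ w hw)
        · right
          exact (exists_common_orth_iff φ hφφ hN1 v w hv hw hne).1
            ⟨u, hu, hty, hsymm _ _ hyx⟩
    · rintro (h | h)
      · refine ⟨t, ht, ht2, Commute.refl t, ?_⟩
        rw [htv', commute_iff hF φ hφ h2]
        exact Or.inr h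
      · obtain ⟨u, hu, hvu, hwu⟩ := (exists_common_orth_iff φ hφφ hN1 v w hv hw hne).2 h
        refine ⟨mkRf hF φ hφ u hu, (hisinv u hu).1, (hisinv u hu).2, ?_, ?_⟩
        · rw [htv', commute_iff hF φ hφ h2]
          exact Or.inr hvu
        · rw [commute_iff hF φ hφ h2]
          exact Or.inr (hsymm _ _ hwu)
  have hnc : ∀ (w : Fin 3 → F) (hw : hdot φ w w = 1),
      ¬ Commute t (mkRf hF φ hφ w hw) ↔ (rf φ v ≠ rf φ w ∧ hdot φ v w ≠ 0) := by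
    intro w hw
    rw [htv', commute_iff hF φ hφ h2]
    push Not
    rfl
  -- distance one
  have hRPa : ∀ (w : Fin 3 → F) (hw : hdot φ w w = 1),
      (mkRf hF φ hφ w hw ≠ t ∧ Commute t (mkRf hF φ hφ w hw)) ↔ hdot φ w v = 0 := by
    intro w hw
    constructor
    · rintro ⟨hne, hc⟩
      rw [htv', commute_iff hF φ hφ h2] at hc
      rcases hc with hc | hc
      · exfalso
        apply hne
        rw [htv', mkRf_eq_iff]
        exact hc.symm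
      · exact hsymm _ _ hc
    · intro h
      constructor
      · intro heq
        rw [htv', mkRf_eq_iff] at heq
        have h1 : rf φ v *ᵥ w = -w := rf_mulVec_orth φ v w h
        rw [← heq, rf_mulVec_self φ w hw] at h1
        have h3 : (2 : F) • w = 0 := by
          rw [two_smul]
          nth_rewrite 1 [h1]
          exact neg_add_cancel w
        rcases smul_eq_zero.1 h3 with h4 | h4
        · exact h2 h4
        · exact ne_zero_of_norm_one φ w hw h4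
      · rw [htv', commute_iff hF φ hφ h2]
        exact Or.inr (hsymm _ _ h)
  have hA0 := card_R_mul hF φ hφ h2 (fun x => x ≠ t ∧ Commute t x)
    (fun w => hdot φ w v = 0) hRPa
  rw [card_norm_one_orth hF φ hφ v hv] at hA0
  have hq1 : 1 ≤ q ^ 2 := Nat.one_le_pow _ _ (by omega)
  have hA : Nat.card {x : ↥(Cfsg.SU 3 F q) // x ≠ 1 ∧ x * x = 1 ∧ x ≠ t ∧ Commute t x} =
      q * (q - 1) := by
    apply Nat.eq_of_mul_eq_mul_right (by omega : 0 < q + 1)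
    rw [hA0]
    zify [hq1, (by omega : 1 ≤ q)]
    ring
  -- distance three, together with t itself
  have hRPc : ∀ (w : Fin 3 → F) (hw : hdot φ w w = 1),
      (mkRf hF φ hφ w hw = t ∨ (¬ Commute t (mkRf hF φ hφ w hw) ∧
        ∀ y : ↥(Cfsg.SU 3 F q), y ≠ 1 → y * y = 1 →
          ¬ (Commute t y ∧ Commute y (mkRf hF φ hφ w hw)))) ↔
      hdot φ w v * φ (hdot φ w v) = 1 := by
    intro w hw
    constructor
    · rintro (h | ⟨h1, h3⟩)
      · rw [htv', mkRf_eq_iff] at h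
        obtain ⟨δ, hδ, hwδ⟩ := (rf_eq_rf_iff φ hφφ h2 v w hv hw).1 h.symm
        rw [hwδ, hdot_smul_left, hv, mul_one]
        exact hδ
      · obtain ⟨hne, hvw⟩ := (hnc w hw).1 h1
        by_contra hcon
        have := (hmid w hw hne).2 (Or.inr hcon)
        obtain ⟨y, hy1, hyy, hty, hyx⟩ := this
        exact h3 y hy1 hyy ⟨hty, hyx⟩
    · intro h
      by_cases hne : rf φ v = rf φ w
      · left
        rw [htv', mkRf_eq_iff]
        exact hne.symm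
      · right
        have hvw : hdot φ v w ≠ 0 := by
          intro h0
          rw [hsymm _ _ h0, zero_mul] at h
          exact zero_ne_one h
        refine ⟨(hnc w hw).2 ⟨hne, hvw⟩, ?_⟩
        intro y hy1 hyy hy
        have := (hmid w hw hne).1 ⟨y, hy1, hyy, hy.1, hy.2⟩
        rcases this with h5 | h5
        · exact hvw h5
        · exact h5 h
  have hC0 := card_R_mul hF φ hφ h2 (fun x => x = t ∨ (¬ Commute t x ∧
        ∀ y : ↥(Cfsg.SU 3 F q), y ≠ 1 → y * y = 1 → ¬ (Commute t y ∧ Commute y x)))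
    (fun w => hdot φ w v * φ (hdot φ w v) = 1) hRPc
  rw [card_norm_one_unit hF φ hφ v hv] at hC0
  have hcnt2 : cnt F q 2 0 = (q ^ 2 - 1) * (q + 1) + 1 := by
    have := cnt_zero_sub_one hF 1
    zify [hq1]
    norm_num at this
    linear_combination this
  have hC' : Nat.card {x : ↥(Cfsg.SU 3 F q) // x ≠ 1 ∧ x * x = 1 ∧ (x = t ∨ (¬ Commute t x ∧
        ∀ y : ↥(Cfsg.SU 3 F q), y ≠ 1 → y * y = 1 → ¬ (Commute t y ∧ Commute y x)))} =
      cnt F q 2 0 := by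
    apply Nat.eq_of_mul_eq_mul_right (by omega : 0 < q + 1)
    rw [hC0, mul_comm]
  have hone : ∀ (p : ↥(Cfsg.SU 3 F q) → Prop), p t →
      Nat.card {x : ↥(Cfsg.SU 3 F q) // p x ∧ x = t} = 1 := by
    intro p hp
    rw [Nat.card_eq_one_iff_unique]
    exact ⟨⟨fun a b => Subtype.ext (a.2.2.trans b.2.2.symm)⟩, ⟨⟨t, hp, rfl⟩⟩⟩
  have hC : Nat.card {x : ↥(Cfsg.SU 3 F q) // x ≠ 1 ∧ x * x = 1 ∧ ¬ Commute t x ∧
        ∀ y : ↥(Cfsg.SU 3 F q), y ≠ 1 → y * y = 1 → ¬ (Commute t y ∧ Commute y x)} =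
      (q + 1) * (q ^ 2 - 1) := by
    have h1 := card_split (fun x : ↥(Cfsg.SU 3 F q) => x ≠ 1 ∧ x * x = 1 ∧ (x = t ∨
      (¬ Commute t x ∧ ∀ y : ↥(Cfsg.SU 3 F q), y ≠ 1 → y * y = 1 →
        ¬ (Commute t y ∧ Commute y x)))) (fun x => x = t)
    rw [hC', hone _ ⟨ht, ht2, Or.inl rfl⟩, hcnt2] at h1
    have h3 : Nat.card {x : ↥(Cfsg.SU 3 F q) // (x ≠ 1 ∧ x * x = 1 ∧ (x = t ∨
        (¬ Commute t x ∧ ∀ y : ↥(Cfsg.SU 3 F q), y ≠ 1 → y * y = 1 →
          ¬ (Commute t y ∧ Commute y x)))) ∧ ¬ x = t} =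
        Nat.card {x : ↥(Cfsg.SU 3 F q) // x ≠ 1 ∧ x * x = 1 ∧ ¬ Commute t x ∧
        ∀ y : ↥(Cfsg.SU 3 F q), y ≠ 1 → y * y = 1 → ¬ (Commute t y ∧ Commute y x)} := by
      apply Nat.card_congr
      apply Equiv.subtypeEquivRight
      intro x
      constructor
      · rintro ⟨⟨hx1, hxx, hx | hx⟩, hxt⟩
        · exact absurd hx hxt
        · exact ⟨hx1, hxx, hx.1, hx.2⟩
      · rintro ⟨hx1, hxx, hnc', hall⟩
        refine ⟨⟨hx1, hxx, Or.inr ⟨hnc', hall⟩⟩, ?_⟩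
        intro hxt
        apply hnc'
        rw [hxt]
    rw [h3] at h1
    have : (q + 1) * (q ^ 2 - 1) = (q ^ 2 - 1) * (q + 1) := by ring
    rw [this]
    omega
  -- the partition
  have htot := (Cfsg.Agent.S2360.result hq hF t ht ht2).2.1
  have hp1 := card_split (fun x : ↥(Cfsg.SU 3 F q) => x ≠ 1 ∧ x * x = 1) (fun x => Commute t x)
  have hp2 := card_split (fun x : ↥(Cfsg.SU 3 F q) => (x ≠ 1 ∧ x * x = 1) ∧ Commute t x)
    (fun x => x = t)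
  have hp3 := card_split (fun x : ↥(Cfsg.SU 3 F q) => (x ≠ 1 ∧ x * x = 1) ∧ ¬ Commute t x)
    (fun x => ∃ y : ↥(Cfsg.SU 3 F q), y ≠ 1 ∧ y * y = 1 ∧ Commute t y ∧ Commute y x)
  rw [hone _ ⟨⟨ht, ht2⟩, Commute.refl t⟩] at hp2
  have e1 : Nat.card {x : ↥(Cfsg.SU 3 F q) // ((x ≠ 1 ∧ x * x = 1) ∧ Commute t x) ∧ ¬ x = t} =
      Nat.card {x : ↥(Cfsg.SU 3 F q) // x ≠ 1 ∧ x * x = 1 ∧ x ≠ t ∧ Commute t x} := by
    apply Nat.card_congr
    apply Equiv.subtypeEquivRight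
    intro x
    constructor
    · rintro ⟨⟨⟨a, b⟩, c⟩, d⟩
      exact ⟨a, b, d, c⟩
    · rintro ⟨a, b, d, c⟩
      exact ⟨⟨⟨a, b⟩, c⟩, d⟩
  have e2 : Nat.card {x : ↥(Cfsg.SU 3 F q) // ((x ≠ 1 ∧ x * x = 1) ∧ ¬ Commute t x) ∧
      ∃ y : ↥(Cfsg.SU 3 F q), y ≠ 1 ∧ y * y = 1 ∧ Commute t y ∧ Commute y x} =
      Nat.card {x : ↥(Cfsg.SU 3 F q) // x ≠ 1 ∧ x * x = 1 ∧ ¬ Commute t x ∧
        ∃ y : ↥(Cfsg.SU 3 F q), y ≠ 1 ∧ y * y = 1 ∧ Commute t y ∧ Commute y x} := by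
    apply Nat.card_congr
    apply Equiv.subtypeEquivRight
    intro x
    constructor
    · rintro ⟨⟨⟨a, b⟩, c⟩, d⟩
      exact ⟨a, b, c, d⟩
    · rintro ⟨a, b, c, d⟩
      exact ⟨⟨⟨a, b⟩, c⟩, d⟩
  have e3 : Nat.card {x : ↥(Cfsg.SU 3 F q) // ((x ≠ 1 ∧ x * x = 1) ∧ ¬ Commute t x) ∧
      ¬ ∃ y : ↥(Cfsg.SU 3 F q), y ≠ 1 ∧ y * y = 1 ∧ Commute t y ∧ Commute y x} =
      Nat.card {x : ↥(Cfsg.SU 3 F q) // x ≠ 1 ∧ x * x = 1 ∧ ¬ Commute t x ∧
        ∀ y : ↥(Cfsg.SU 3 F q), y ≠ 1 → y * y = 1 → ¬ (Commute t y ∧ Commute y x)} := by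
    apply Nat.card_congr
    apply Equiv.subtypeEquivRight
    intro x
    constructor
    · rintro ⟨⟨⟨a, b⟩, c⟩, d⟩
      refine ⟨a, b, c, ?_⟩
      intro y hy1 hyy hy
      exact d ⟨y, hy1, hyy, hy.1, hy.2⟩
    · rintro ⟨a, b, c, d⟩
      refine ⟨⟨⟨a, b⟩, c⟩, ?_⟩
      rintro ⟨y, hy1, hyy, hty, hyx⟩
      exact d y hy1 hyy ⟨hty, hyx⟩
  rw [e1, hA] at hp2
  rw [e2, e3, hC] at hp3
  rw [htot, hp2, hp3] at hp1
  have hB : Nat.card {x : ↥(Cfsg.SU 3 F q) // x ≠ 1 ∧ x * x = 1 ∧ ¬ Commute t x ∧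
        ∃ y : ↥(Cfsg.SU 3 F q), y ≠ 1 ∧ y * y = 1 ∧ Commute t y ∧ Commute y x} =
      q * (q - 2) * (q ^ 2 - 1) := by
    obtain ⟨N, hN⟩ : ∃ N, N = Nat.card {x : ↥(Cfsg.SU 3 F q) // x ≠ 1 ∧ x * x = 1 ∧
        ¬ Commute t x ∧
        ∃ y : ↥(Cfsg.SU 3 F q), y ≠ 1 ∧ y * y = 1 ∧ Commute t y ∧ Commute y x} := ⟨_, rfl⟩
    rw [← hN] at hp1 ⊢
    have hqq : q ≤ q ^ 2 := by nlinarith
    zify [hq1, hqq, (by omega : 1 ≤ q), (by omega : 2 ≤ q)] at hp1 ⊢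
    linear_combination -hp1
  refine ⟨hA, hB, hC, ?_⟩
  intro x hx1 hxx
  obtain ⟨w, hw, rfl⟩ := hinv x hx1 hxx
  obtain ⟨a, b, ha, hb, h1, h3, h4⟩ := exists_path_vec φ hφid hφφ hN1 h2 v w hv hw
  refine ⟨mkRf hF φ hφ a ha, mkRf hF φ hφ b hb, (hisinv a ha).1, (hisinv a ha).2,
    (hisinv b hb).1, (hisinv b hb).2, ?_, ?_, ?_⟩
  · rw [htv', commute_iff hF φ hφ h2]
    exact h1.symm
  · rw [commute_iff hF φ hφ h2]
    exact h3.symm
  · rw [commute_iff hF φ hφ h2]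
    exact h4.symm

end Cfsg.Agent.S2356
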