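import Cfsg.Statements.S2362
import Cfsg.Agent.Lib.Helper15.S62Asm5
import Cfsg.Agent.Lib.Helper15.S62Asm6

set_option autoImplicit false
open Cfsg

namespace Cfsg.Agent.S2362

/-- Let F be a finite field of odd order and n ≥ 3. The simple orthogonal group PΩ(2n+1, F) (type B_n) and the projective symplectic group PSp(2n, F) (type C_n), which have the same order, do not have the same set of element orders. -/
theorem result {F : Type*} [Field F] [Fintype F] (hodd : Odd (Fintype.card F)) (n : ℕ) (hn : 3 ≤ n) :
    Set.range (orderOf : Cfsg.POmega F (Cfsg.quadFormOdd n F) → ℕ) ≠ Set.range (orderOf : Cfsg.PSp n F → ℕ) := by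
  obtain ⟨p, hchar⟩ := CharP.exists F
  have hchar' : CharP F p := hchar
  have hfact : Fact p.Prime := ⟨(CharP.char_is_prime_or_zero F p).resolve_right
    (by
      intro h0
      have hc0 : CharP F 0 := h0 ▸ hchar
      have hcz : CharZero F := CharP.charP_to_charZero F
      exact not_finite F)⟩
  have hp2 : p ≠ 2 := by
    intro h
    have hc2 : CharP F 2 := h ▸ hchar
    have h0 : Fintype.card F % 2 = 0 :=
      FiniteField.even_card_iff_char_two.mp (ringChar.eq F 2)
    have h1 : Fintype.card F % 2 = 1 := Nat.odd_iff.mp hodd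
    omega
  intro hrange
  obtain ⟨x, hx⟩ := Cfsg.Agent.Helper15.S62.exists_order_PSp (F := F) p hp2 n hn
  have hmem : p * (Fintype.card F ^ (n - 1) + 1) ∈ Set.range (orderOf : Cfsg.PSp n F → ℕ) := ⟨x, hx⟩
  rw [← hrange] at hmem
  obtain ⟨y, hy⟩ := hmem
  exact Cfsg.Agent.Helper15.S62.no_order_POmega (F := F) p hp2 n hn y hy

end Cfsg.Agent.S2362
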