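import Mathlib
import Cfsg.Statements.S2363
import Cfsg.Agent.Lib.Lead.LieOrdExc
-- import your own Cfsg.Agent.* helpers here

set_option autoImplicit false
open Cfsg

namespace Cfsg.Agent.S2363

/-- Let G be a finite simple group of Lie type in characteristic p and let p^k be the exact power of p dividing the order of G. Then the order of G is less than p^(3k); and unless G is isomorphic to PSL(2, F) for the field F with p^k elements, the cube of the order of G is less than p^(8k) (that is, the order is below p^(8k/3)). -/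
theorem result {G : Type*} [Group G] [Finite G] (p : ℕ) (hp : p.Prime) (hG : Cfsg.IsLieTypeChar p G) :
    Nat.card G < p ^ (3 * (Nat.card G).factorization p) ∧
      ((¬ ∃ (F : Type) (_ : Field F) (_ : Fintype F), Fintype.card F = p ^ (Nat.card G).factorization p ∧
          Nonempty (G ≃* Matrix.ProjectiveSpecialLinearGroup (Fin 2) F)) →
        Nat.card G ^ 3 < p ^ (8 * (Nat.card G).factorization p)) := by
  have ofB : Cfsg.Agent.Lead.LieOrd.Bounds p G →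
      (Nat.card G < p ^ (3 * (Nat.card G).factorization p) ∧
      ((¬ ∃ (F : Type) (_ : Field F) (_ : Fintype F), Fintype.card F = p ^ (Nat.card G).factorization p ∧
          Nonempty (G ≃* Matrix.ProjectiveSpecialLinearGroup (Fin 2) F)) →
        Nat.card G ^ 3 < p ^ (8 * (Nat.card G).factorization p))) := fun h => ⟨h.1, fun _ => h.2⟩
  have hpow : ∀ {q e d : ℕ}, d ≠ 0 → q ^ d = p ^ e → 2 ≤ q ^ d → ∃ j, j ≠ 0 ∧ q = p ^ j := by
    intro q e d hd h h2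
    have h1 : q ∣ p ^ e := h ▸ dvd_pow_self q hd
    obtain ⟨j, -, rfl⟩ := (Nat.dvd_prime_pow hp).1 h1
    refine ⟨j, ?_, rfl⟩
    rintro rfl
    rw [pow_zero, one_pow] at h2
    omega
  rcases hG with h | h | h | h | h | h | h | h | h | h | h
  · obtain ⟨F, _, _, _, n, hn, -, ⟨e⟩⟩ := h
    obtain ⟨f, hf, -, hF⟩ := Cfsg.Agent.Lead.LieOrd.exists_card_eq F p
    obtain ⟨k, rfl⟩ : ∃ k, n = k + 2 := ⟨n - 2, by omega⟩
    obtain ⟨h1, h2, h3⟩ := Cfsg.Agent.Lead.LieOrd.psl_first hp hf hF k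
    rcases Nat.eq_zero_or_pos k with rfl | hk
    · rw [Nat.card_congr e.toEquiv]
      refine ⟨h2, fun hne => absurd ⟨F, inferInstance, inferInstance, ?_, ⟨e⟩⟩ hne⟩
      rw [h1, hF]
      simp [Finset.sum_range_succ]
    · exact ofB (Cfsg.Agent.Lead.LieOrd.bounds_congr e (h3 hk))
  · obtain ⟨F, _, _, _, m, hm, -, ⟨e⟩⟩ := h
    obtain ⟨f, hf, -, hF⟩ := Cfsg.Agent.Lead.LieOrd.exists_card_eq F p
    exact ofB (Cfsg.Agent.Lead.LieOrd.bounds_congr e (Cfsg.Agent.Lead.LieOrd.psp_bounds hp hf hF m hm))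
  · obtain ⟨F, _, _, _, n, q, hFq, hn, -, ⟨e⟩⟩ := h
    obtain ⟨f, hf, -, hF⟩ := Cfsg.Agent.Lead.LieOrd.exists_card_eq F p
    have h2 : 2 ≤ q ^ 2 := by
      rw [← hFq]
      exact Fintype.one_lt_card
    obtain ⟨j, hj, rfl⟩ := hpow two_ne_zero (hFq.symm.trans hF) h2
    exact ofB (Cfsg.Agent.Lead.LieOrd.bounds_congr e (Cfsg.Agent.Lead.LieOrd.psu_bounds hp hj hFq n hn))
  · obtain ⟨F, _, _, _, m, hm, hodd, ⟨e⟩⟩ := h
    obtain ⟨f, hf, -, hF⟩ := Cfsg.Agent.Lead.LieOrd.exists_card_eq F p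
    exact ofB (Cfsg.Agent.Lead.LieOrd.bounds_congr e
      (Cfsg.Agent.Lead.LieOrd.pomega_odd_bounds hp hf hF hodd m hm))
  · obtain ⟨F, _, _, _, m, hm, ⟨e⟩⟩ := h
    obtain ⟨f, hf, -, hF⟩ := Cfsg.Agent.Lead.LieOrd.exists_card_eq F p
    exact ofB (Cfsg.Agent.Lead.LieOrd.bounds_congr e (Cfsg.Agent.Lead.LieOrd.pomega_plus_bounds hp hf hF m hm))
  · obtain ⟨F, _, _, _, m, a, b, hm, hab, ⟨e⟩⟩ := h
    obtain ⟨f, hf, -, hF⟩ := Cfsg.Agent.Lead.LieOrd.exists_card_eq F p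
    exact ofB (Cfsg.Agent.Lead.LieOrd.bounds_congr e
      (Cfsg.Agent.Lead.LieOrd.pomega_minus_bounds hp hf hF m hm a b hab))
  · obtain ⟨F, _, _, _, h⟩ := h
    obtain ⟨f, hf, -, hF⟩ := Cfsg.Agent.Lead.LieOrd.exists_card_eq F p
    rcases h with ⟨-, ⟨e⟩⟩ | ⟨⟨e⟩⟩ | ⟨⟨e⟩⟩ | ⟨⟨e⟩⟩ | ⟨⟨e⟩⟩
    · exact ofB (Cfsg.Agent.Lead.LieOrd.bounds_congr e (Cfsg.Agent.Lead.LieOrd.g2_bounds hp hf hF))
    · exact ofB (Cfsg.Agent.Lead.LieOrd.bounds_congr e (Cfsg.Agent.Lead.LieOrd.f4_bounds hp hf hF))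
    · exact ofB (Cfsg.Agent.Lead.LieOrd.bounds_congr e (Cfsg.Agent.Lead.LieOrd.e6_bounds hp hf hF))
    · exact ofB (Cfsg.Agent.Lead.LieOrd.bounds_congr e (Cfsg.Agent.Lead.LieOrd.e7_bounds hp hf hF))
    · exact ofB (Cfsg.Agent.Lead.LieOrd.bounds_congr e (Cfsg.Agent.Lead.LieOrd.e8_bounds hp hf hF))
  · obtain ⟨K, _, _, _, q, -, h⟩ := h
    obtain ⟨f, hf, -, hF⟩ := Cfsg.Agent.Lead.LieOrd.exists_card_eq K p
    rcases h with ⟨hK, ⟨e⟩⟩ | ⟨hK, ⟨e⟩⟩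
    · have h2 : 2 ≤ q ^ 2 := by
        rw [← hK]
        exact Fintype.one_lt_card
      obtain ⟨j, hj, rfl⟩ := hpow two_ne_zero (hK.symm.trans hF) h2
      exact ofB (Cfsg.Agent.Lead.LieOrd.bounds_congr e (Cfsg.Agent.Lead.LieOrd.tw_e6_bounds hp hj hK))
    · have h2 : 2 ≤ q ^ 3 := by
        rw [← hK]
        exact Fintype.one_lt_card
      obtain ⟨j, hj, rfl⟩ := hpow (by norm_num) (hK.symm.trans hF) h2
      exact ofB (Cfsg.Agent.Lead.LieOrd.bounds_congr e (Cfsg.Agent.Lead.LieOrd.tw_d4_bounds hp hj hK))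
  · obtain ⟨rfl, F, _, _, m, hm, hF, ⟨e⟩⟩ := h
    exact ofB (Cfsg.Agent.Lead.LieOrd.bounds_congr e (Cfsg.Agent.Lead.LieOrd.sz_bounds hm hF))
  · obtain ⟨rfl, K, _, _, m, hm, hK, ⟨e⟩⟩ := h
    exact ofB (Cfsg.Agent.Lead.LieOrd.bounds_congr e (Cfsg.Agent.Lead.LieOrd.tw_f4_bounds hK))
  · obtain ⟨rfl, K, _, _, m, hm, hK, ⟨e⟩⟩ := h
    exact ofB (Cfsg.Agent.Lead.LieOrd.bounds_congr e (Cfsg.Agent.Lead.LieOrd.tw_g2_bounds hK))

end Cfsg.Agent.S2363
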