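import Mathlib
import Cfsg.Statements.S2364
import Cfsg.Agent.Lib.Helper12.CommUnip
import Cfsg.Agent.Lib.Helper12.CentralLift
import Cfsg.Agent.Lib.Helper2.CardSL

set_option autoImplicit false
open Cfsg

namespace Cfsg.Agent.S2364

theorem pow_sub_pow_eq' (q d i : ℕ) (hi : i ≤ d) : q ^ d - q ^ i = q ^ i * (q ^ (d - i) - 1) := by
  rw [Nat.mul_sub, mul_one, ← pow_add]
  congr 2
  omega

/-- central elements of `SL_n(F)` are killed by `q - 1` -/
theorem center_pow_eq_one {F : Type*} [Field F] [Fintype F] {n : ℕ} (hn : 1 ≤ n)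
    (c : Matrix.SpecialLinearGroup (Fin n) F)
    (hc : c ∈ Subgroup.center (Matrix.SpecialLinearGroup (Fin n) F)) :
    c ^ (Fintype.card F - 1) = 1 := by
  rw [Matrix.SpecialLinearGroup.mem_center_iff] at hc
  obtain ⟨ζ, hζ, hc⟩ := hc
  have hζ0 : ζ ≠ 0 := by
    rintro rfl
    rw [Fintype.card_fin, zero_pow (by omega)] at hζ
    exact zero_ne_one hζ
  apply Subtype.ext
  rw [Matrix.SpecialLinearGroup.coe_pow, ← hc, ← map_pow, FiniteField.pow_card_sub_one_eq_one ζ hζ0,
    map_one]
  rfl

theorem result {F : Type*} [Field F] [Fintype F] (p : ℕ) [Fact p.Prime] [CharP F p] (n : ℕ) (hn : 4 ≤ n)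
    (a b : Matrix.ProjectiveSpecialLinearGroup (Fin n) F) (ha : orderOf a = p) (hab : Commute a b) :
    (orderOf b).primeFactors ⊆ (Nat.card (Matrix.SpecialLinearGroup (Fin (n - 2)) F)).primeFactors := by
  classical
  intro r hr
  rw [Nat.mem_primeFactors] at hr ⊢
  obtain ⟨hrprime, hrb, hb0⟩ := hr
  refine ⟨hrprime, ?_, Nat.card_pos.ne'⟩
  haveI := Fact.mk hrprime
  have hpprime : p.Prime := Fact.out
  obtain ⟨q, hq⟩ : ∃ q, q = Fintype.card F := ⟨_, rfl⟩
  obtain ⟨m, hm⟩ : ∃ m, m = n - 2 := ⟨_, rfl⟩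
  rw [← hm]
  have hm2 : 2 ≤ m := by omega
  have hq1 : 1 < q := by rw [hq]; exact Fintype.one_lt_card
  haveI : Nonempty (Fin m) := ⟨⟨0, by omega⟩⟩
  have hGL : ∏ i : Fin m, (q ^ m - q ^ (i : ℕ)) =
      Nat.card (Matrix.SpecialLinearGroup (Fin m) F) * (q - 1) := by
    rw [hq, ← Matrix.card_GL_field, Cfsg.Agent.Helper2.card_GL_eq_card_SL_mul,
      Cfsg.Agent.Helper2.card_units_field]
  have hpq : p ∣ q := by
    rw [hq, ← CharP.cast_eq_zero_iff F p]
    exact Nat.cast_card_eq_zero F
  by_cases hrp : r = p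
  · -- the characteristic
    subst hrp
    have h1 : r ∣ ∏ i : Fin m, (q ^ m - q ^ (i : ℕ)) := by
      refine dvd_trans ?_ (Finset.dvd_prod_of_mem _ (Finset.mem_univ (⟨1, by omega⟩ : Fin m)))
      exact Nat.dvd_sub (dvd_pow hpq (by omega)) (dvd_pow hpq (by simp))
    rw [hGL] at h1
    rcases (Nat.Prime.dvd_mul hrprime).mp h1 with h | h
    · exact h
    · exfalso
      have h2 : r ∣ 1 := by
        have := Nat.dvd_sub hpq h
        rwa [Nat.sub_sub_self (by omega)] at this
      exact hrprime.one_lt.ne' (Nat.dvd_one.mp h2)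
  · have hrq : ¬ r ∣ q := by
      intro h
      obtain ⟨k, -, hk⟩ := FiniteField.card F p
      rw [hq, hk] at h
      exact hrp ((Nat.prime_dvd_prime_iff_eq hrprime hpprime).mp (hrprime.dvd_of_dvd_pow h))
    obtain ⟨e, he⟩ : ∃ e, e = orderOf ((q : ℕ) : ZMod r) := ⟨_, rfl⟩
    have hq0 : ((q : ℕ) : ZMod r) ≠ 0 := by
      rw [Ne, ZMod.natCast_eq_zero_iff]
      exact hrq
    have he1 : 1 ≤ e := by
      rw [he]
      have : IsOfFinOrder ((q : ℕ) : ZMod r) := by
        have hu : IsUnit ((q : ℕ) : ZMod r) := IsUnit.mk0 _ hq0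
        exact hu.isOfFinOrder  
      exact this.orderOf_pos
    have hdvd : r ∣ q ^ e - 1 := by
      rw [← ZMod.natCast_eq_zero_iff, Nat.cast_sub (Nat.one_le_pow _ _ (by omega)), Nat.cast_pow,
        Nat.cast_one, he, pow_orderOf_eq_one, sub_self]
    have hsub1 : ∀ k : ℕ, q - 1 ∣ q ^ k - 1 := by
      intro k
      have := Nat.sub_dvd_pow_sub_pow q 1 k
      rwa [one_pow] at this
    have hnot1 : 2 ≤ e → ¬ r ∣ q - 1 := by
      intro he2 h
      have h1 : ((q : ℕ) : ZMod r) = 1 := by
        have h2 : (((q - 1 : ℕ) : ℕ) : ZMod r) = 0 := (ZMod.natCast_eq_zero_iff _ _).mpr h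
        rw [Nat.cast_sub (by omega), Nat.cast_one, sub_eq_zero] at h2
        exact h2
      rw [h1, orderOf_one] at he
      omega
    by_cases hem : e ≤ m
    · by_cases he1' : e = 1
      · -- r divides q - 1
        rw [he1', pow_one] at hdvd
        have h1 : (q - 1) ^ m ∣ ∏ i : Fin m, (q ^ m - q ^ (i : ℕ)) := by
          have h2 : ∏ _i : Fin m, (q - 1) ∣ ∏ i : Fin m, (q ^ m - q ^ (i : ℕ)) := by
            apply Finset.prod_dvd_prod_of_dvd
            intro i _
            rw [pow_sub_pow_eq' q m i (le_of_lt i.2)]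
            exact Dvd.dvd.mul_left (hsub1 _) _
          rwa [Finset.prod_const, Finset.card_univ, Fintype.card_fin] at h2
        rw [hGL, show m = (m - 1) + 1 by omega, pow_succ] at h1
        have h3 := Nat.dvd_of_mul_dvd_mul_right (by omega : 0 < q - 1) h1
        rw [show m - 1 + 1 = m by omega] at h3
        exact dvd_trans hdvd (dvd_trans (dvd_pow_self _ (by omega)) h3)
      · have he2 : 2 ≤ e := by omega
        have h1 : r ∣ ∏ i : Fin m, (q ^ m - q ^ (i : ℕ)) := by
          refine dvd_trans ?_ (Finset.dvd_prod_of_mem _ (Finset.mem_univ (⟨m - e, by omega⟩ : Fin m)))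
          show r ∣ q ^ m - q ^ (m - e)
          rw [pow_sub_pow_eq' q m (m - e) (by omega), show m - (m - e) = e by omega]
          exact Dvd.dvd.mul_left hdvd _
        rw [hGL] at h1
        rcases (Nat.Prime.dvd_mul hrprime).mp h1 with h | h
        · exact h
        · exact absurd h (hnot1 he2)
    · -- impossible: `e ≥ n - 1`
      exfalso
      have hen : n - 1 ≤ e := by omega
      have hnotq1 : ¬ r ∣ q - 1 := hnot1 (by omega)
      have hZ : ∀ c ∈ Subgroup.center (Matrix.SpecialLinearGroup (Fin n) F), c ^ (q - 1) = 1 := by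
        intro c hc
        rw [hq]
        exact center_pow_eq_one (by omega) c hc
      have hcop_p : Nat.Coprime p (q - 1) := by
        rw [Nat.coprime_comm, Nat.Prime.coprime_iff_not_dvd hpprime |> fun h => Nat.coprime_comm.trans h]
        intro h
        have h2 : p ∣ 1 := by
          have := Nat.dvd_sub hpq h
          rwa [Nat.sub_sub_self (by omega)] at this
        exact hpprime.one_lt.ne' (Nat.dvd_one.mp h2)
      have hcop_r : Nat.Coprime r (q - 1) := (Nat.Prime.coprime_iff_not_dvd hrprime).mpr hnotq1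
      -- the r-part of b
      obtain ⟨b', hb'⟩ : ∃ b', b' = b ^ (orderOf b / r) := ⟨_, rfl⟩
      have hob' : orderOf b' = r := by
        rw [hb']
        exact orderOf_pow_orderOf_div hb0 hrb
      have hab' : Commute a b' := by rw [hb']; exact hab.pow_right _
      obtain ⟨u, hu1, hu2⟩ := Cfsg.Agent.Helper12.exists_lift_pow_eq_one
        (Subgroup.center (Matrix.SpecialLinearGroup (Fin n) F)) hZ hpprime.one_lt hcop_p a
        (by rw [← ha]; exact pow_orderOf_eq_one a)
      obtain ⟨x, hx1, hx2⟩ := Cfsg.Agent.Helper12.exists_lift_pow_eq_one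
        (Subgroup.center (Matrix.SpecialLinearGroup (Fin n) F)) hZ hrprime.one_lt hcop_r b'
        (by rw [← hob']; exact pow_orderOf_eq_one b')
      have hux : Commute u x := by
        apply Cfsg.Agent.Helper12.commute_of_commute_mk
          (Subgroup.center (Matrix.SpecialLinearGroup (Fin n) F)) le_rfl hZ hcop_p hu2
        rw [hu1, hx1]
        exact hab'
      have hu_ne : u ≠ 1 := by
        rintro rfl
        have h1 : a = 1 := by rw [← hu1]; rfl
        rw [h1, orderOf_one] at ha
        exact hpprime.one_lt.ne ha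
      have hx_ne : x ≠ 1 := by
        rintro rfl
        have h1 : b' = 1 := by rw [← hx1]; rfl
        rw [h1, orderOf_one] at hob'
        exact hrprime.one_lt.ne hob'
      -- pass to endomorphisms
      obtain ⟨T, hT⟩ : ∃ T : Matrix (Fin n) (Fin n) F ≃ₐ[F] Module.End F (Fin n → F),
          T = Matrix.toLinAlgEquiv' := ⟨_, rfl⟩
      have hXr : (T x.1) ^ r = 1 := by
        rw [← map_pow, ← Matrix.SpecialLinearGroup.coe_pow, hx2, Matrix.SpecialLinearGroup.coe_one,
          map_one]
      have hUp : (T u.1) ^ p = 1 := by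
        rw [← map_pow, ← Matrix.SpecialLinearGroup.coe_pow, hu2, Matrix.SpecialLinearGroup.coe_one,
          map_one]
      have hX1 : T x.1 ≠ 1 := by
        intro h
        apply hx_ne
        apply Subtype.ext
        rw [← map_one T] at h
        exact T.injective h
      have hU1 : T u.1 ≠ 1 := by
        intro h
        apply hu_ne
        apply Subtype.ext
        rw [← map_one T] at h
        exact T.injective h
      have hXU : Commute (T x.1) (T u.1) := by
        have h1 : Commute x.1 u.1 := by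
          have := hux.symm.eq
          unfold Commute SemiconjBy
          rw [← Matrix.SpecialLinearGroup.coe_mul, ← Matrix.SpecialLinearGroup.coe_mul, this]
        exact h1.map T
      have hfr : Module.finrank F (Fin n → F) = n := Module.finrank_fin_fun F
      exact Cfsg.Agent.Helper12.not_commute_unipotent (p := p) (r := r) (by rw [← hq]; exact hrq)
        (T x.1) (T u.1) hXU hXr hX1 hUp hU1 (by rw [hfr]; omega)
        (by rw [hfr, ← hq, ← he]; exact hen)

end Cfsg.Agent.S2364
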