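import Mathlib
import Cfsg.Statements.S2365
import Cfsg.Agent.Lib.Helper12.PSUAdjLin
import Cfsg.Agent.Lib.Helper12.PSUAdjArith
import Cfsg.Agent.Lib.Helper12.CentralLift

set_option autoImplicit false
open Cfsg

namespace Cfsg.Agent.S2365

open Cfsg.Agent.Helper12 Cfsg.Agent.Helper11.Herm Cfsg.Agent.Helper13.Uni

theorem center_pow {F : Type*} [Field F] [Fintype F] {q : ℕ} (hF : Fintype.card F = q ^ 2)
    (m : ℕ) (hm : 1 ≤ m) (c : Cfsg.SU m F q) (hc : c ∈ Subgroup.center (Cfsg.SU m F q)) :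
    c ^ (q + 1) = 1 := by
  have h1 : (⟨c, hc⟩ : Subgroup.center (Cfsg.SU m F q)) ^
      Nat.card (Subgroup.center (Cfsg.SU m F q)) = 1 := pow_card_eq_one'
  rw [card_center_SU hF m hm] at h1
  have h2 : c ^ Nat.gcd m (q + 1) = 1 := by
    have := congrArg Subtype.val h1
    simpa using this
  obtain ⟨e, he⟩ := Nat.gcd_dvd_right m (q + 1)
  rw [he, pow_mul, h2, one_pow]

/-- Let q be a power of the prime p, F the field with q² elements, m ≥ 4, and let a, b be commuting elements of PSU(m, q) with a of order p. Then every prime divisor of the order of b divides the order of SU(m − 2, q). -/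
theorem result {F : Type*} [Field F] [Fintype F] (p : ℕ) [Fact p.Prime] [CharP F p] (m q : ℕ) (hm : 4 ≤ m) (hF : Fintype.card F = q ^ 2)
    (a b : Cfsg.PSU m F q) (ha : orderOf a = p) (hab : Commute a b) :
    (orderOf b).primeFactors ⊆ (Nat.card ↥(Cfsg.SU (m - 2) F q)).primeFactors := by
  classical
  intro r hr
  rw [Nat.mem_primeFactors] at hr ⊢
  obtain ⟨hrp, hrd, hb0⟩ := hr
  have hp : p.Prime := Fact.out
  refine ⟨hrp, ?_, Nat.card_pos.ne'⟩
  by_contra hnd
  obtain ⟨hrp', hr2, hcop, hb1, hb2⟩ := PSUAdj.arith_of_not_dvd hF p hm hrp hnd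
  obtain ⟨t, ht⟩ := hrd
  have ht0 : t ≠ 0 := by
    rintro rfl
    rw [mul_zero] at ht
    exact hb0 ht
  obtain ⟨b', hb'⟩ : ∃ b', b' = b ^ t := ⟨_, rfl⟩
  have hb'r : b' ^ r = 1 := by
    rw [hb', ← pow_mul, mul_comm, ← ht, pow_orderOf_eq_one]
  have hb'1 : b' ≠ 1 := by
    intro h
    rw [hb'] at h
    have h1 := orderOf_dvd_of_pow_eq_one h
    rw [ht] at h1
    have h2 := Nat.le_of_dvd (Nat.pos_of_ne_zero ht0) h1
    have h3 := hrp.two_le
    have h4 : 0 < t := Nat.pos_of_ne_zero ht0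
    nlinarith
  have hab' : Commute a b' := by rw [hb']; exact hab.pow_right t
  have hZ : ∀ c ∈ Subgroup.center (Cfsg.SU m F q), c ^ (q + 1) = 1 :=
    fun c hc => center_pow hF m (by omega) c hc
  obtain ⟨x, hx1, hx2⟩ := exists_lift_pow_eq_one (Subgroup.center (Cfsg.SU m F q)) hZ
    hrp.one_lt hcop b' hb'r
  obtain ⟨u, hu1, hu2⟩ := exists_lift_pow_eq_one (Subgroup.center (Cfsg.SU m F q)) hZ
    hp.one_lt (PSUAdj.char_coprime_q_add_one hF p) a (by rw [← ha]; exact pow_orderOf_eq_one a)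
  have hxu : Commute x u := by
    apply commute_of_commute_mk (Subgroup.center (Cfsg.SU m F q)) le_rfl hZ hcop hx2
    rw [hx1, hu1]
    exact hab'.symm
  have hu_ne : u ≠ 1 := by
    rintro rfl
    have h1 : a = 1 := by rw [← hu1]; rfl
    rw [h1, orderOf_one] at ha
    exact hp.one_lt.ne ha
  have hx_ne : x ≠ 1 := by
    rintro rfl
    apply hb'1
    rw [← hx1]; rfl
  obtain ⟨X, hX⟩ : ∃ X : Matrix (Fin m) (Fin m) F,
      X = ((x : Matrix.SpecialLinearGroup (Fin m) F) : Matrix (Fin m) (Fin m) F) := ⟨_, rfl⟩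
  obtain ⟨U, hU⟩ : ∃ U : Matrix (Fin m) (Fin m) F,
      U = ((u : Matrix.SpecialLinearGroup (Fin m) F) : Matrix (Fin m) (Fin m) F) := ⟨_, rfl⟩
  have hcoe_pow : ∀ (y : Cfsg.SU m F q) (k : ℕ),
      (((y ^ k : Cfsg.SU m F q) : Matrix.SpecialLinearGroup (Fin m) F) :
        Matrix (Fin m) (Fin m) F) =
      ((y : Matrix.SpecialLinearGroup (Fin m) F) : Matrix (Fin m) (Fin m) F) ^ k := by
    intro y k
    rw [SubmonoidClass.coe_pow, Matrix.SpecialLinearGroup.coe_pow]
  have hcoe_inj : ∀ y : Cfsg.SU m F q,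
      ((y : Matrix.SpecialLinearGroup (Fin m) F) : Matrix (Fin m) (Fin m) F) = 1 → y = 1 := by
    intro y hy
    apply Subtype.ext
    apply Subtype.ext
    exact hy
  have hXpres : Pres q X := by
    intro v w
    rw [hX]
    exact x.2 v w
  have hXr : X ^ r = 1 := by
    rw [hX, ← hcoe_pow, hx2]
    rfl
  have hUp : U ^ p = 1 := by
    rw [hU, ← hcoe_pow, hu2]
    rfl
  have hX1 : X ≠ 1 := fun h => hx_ne (hcoe_inj x (hX ▸ h))
  have hXU : Commute X U := by
    have h1 := hxu.eq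
    have h2 := congrArg (fun y : Cfsg.SU m F q =>
      ((y : Matrix.SpecialLinearGroup (Fin m) F) : Matrix (Fin m) (Fin m) F)) h1
    rw [hX, hU]
    exact h2
  have h := PSUAdj.not_commute_unipotent_U hF p hm hrp hrp' hr2 hb1 hb2 X U hXpres hXr hX1 hXU hUp
  exact hu_ne (hcoe_inj u (hU ▸ h))

end Cfsg.Agent.S2365
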