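import Mathlib
import Cfsg.Statements.S2367
import Cfsg.Agent.Lib.Helper12.SporadicOrders

set_option autoImplicit false
open Cfsg

namespace Cfsg.Agent.S2367

open Cfsg.Agent.Helper12

theorem cube_lt_two_pow (p : ℕ) (hp : 5 ≤ p) : p ^ 3 < 2 ^ (p + 2) := by
  induction p, hp using Nat.le_induction with
  | base => norm_num
  | succ p hp ih =>
    have h1 : (p + 1) ^ 3 ≤ 2 * p ^ 3 := by nlinarith [sq_nonneg (p - 5 : ℤ), hp]
    calc (p + 1) ^ 3 ≤ 2 * p ^ 3 := h1
      _ < 2 * 2 ^ (p + 2) := by omega
      _ = 2 ^ (p + 1 + 2) := by ring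

theorem three_mul_le_of_factorization_factorial (n p : ℕ) (hp : p.Prime) (hodd : p ≠ 2)
    (hn : n ≠ 0) (h3 : (n.factorial).factorization p = 3) : 3 * p ≤ n := by
  by_contra hlt
  push Not at hlt
  have hp3 : 3 ≤ p := by
    have := hp.two_le
    omega
  have hlt2 : n < p ^ 2 := by nlinarith
  have hlog : Nat.log p n < 2 := Nat.log_lt_of_lt_pow hn hlt2
  rw [Nat.factorization_factorial hp hlog] at h3
  have : Finset.Ico 1 2 = {1} := by decide
  rw [this, Finset.sum_singleton, pow_one] at h3
  have : n / p < 3 := Nat.div_lt_of_lt_mul (by linarith)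
  omega

theorem le_factorization_two_factorial (n : ℕ) :
    n / 2 + n / 4 ≤ (n.factorial).factorization 2 := by
  rw [Nat.factorization_factorial Nat.prime_two (b := Nat.log 2 n + 3) (by omega)]
  have hsub : ({1, 2} : Finset ℕ) ⊆ Finset.Ico 1 (Nat.log 2 n + 3) := by
    intro i hi
    simp only [Finset.mem_insert, Finset.mem_singleton] at hi
    rw [Finset.mem_Ico]
    omega
  calc n / 2 + n / 4 = ∑ i ∈ ({1, 2} : Finset ℕ), n / 2 ^ i := by
        rw [Finset.sum_pair (by norm_num)]
        norm_num
    _ ≤ _ := Finset.sum_le_sum_of_subset hsub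

/-- Let G be an alternating group of degree at least 5 or a simple group with the order of one of the 26 sporadic groups, and let p be an odd prime such that p³ is the exact power of p dividing the order of G. Then p³ is less than the 2-part of the order of G. -/
theorem result {G : Type*} [Group G] [Finite G] (hG : Cfsg.IsAlternating G ∨ Cfsg.IsSporadic G)
    (p : ℕ) (hp : p.Prime) (hodd : p ≠ 2) (h3 : (Nat.card G).factorization p = 3) :
    p ^ 3 < 2 ^ (Nat.card G).factorization 2 := by
  rcases hG with hA | hS
  · obtain ⟨n, hn, ⟨e⟩⟩ := hA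
    haveI : Nontrivial (Fin n) := Fin.nontrivial_iff_two_le.2 (by omega)
    have hc : 2 * Nat.card G = n.factorial := by
      rw [Nat.card_congr e.toEquiv, two_mul_nat_card_alternatingGroup, Nat.card_perm,
        Nat.card_eq_fintype_card, Fintype.card_fin]
    have hc0 : Nat.card G ≠ 0 := Nat.card_pos.ne'
    have hfac : ∀ q, (n.factorial).factorization q =
        (if 2 = q then 1 else 0) + (Nat.card G).factorization q := by
      intro q
      rw [← hc, Nat.factorization_mul two_ne_zero hc0, Finsupp.add_apply,
        Nat.prime_two.factorization, Finsupp.single_apply]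
    have h3' : (n.factorial).factorization p = 3 := by
      rw [hfac p, if_neg (Ne.symm hodd), zero_add, h3]
    have h3p := three_mul_le_of_factorization_factorial n p hp hodd (by omega) h3'
    have h2 := le_factorization_two_factorial n
    rw [hfac 2, if_pos rfl] at h2
    have hp3 : 3 ≤ p := by
      have := hp.two_le
      omega
    have hle : p + 2 ≤ (Nat.card G).factorization 2 := by omega
    have hlt : p ^ 3 < 2 ^ (p + 2) := by
      rcases Nat.lt_or_ge p 5 with h5 | h5
      · interval_cases p
        · norm_num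
        · exact absurd hp (by norm_num)
      · exact cube_lt_two_pow p h5
    exact lt_of_lt_of_le hlt (Nat.pow_le_pow_right (by norm_num) hle)
  · obtain ⟨l, hlp, hc, hP⟩ := sporadic_order_induction hS
      (fun l => ∀ x ∈ l, x.1 ≠ 2 → ppExp l x.1 = 3 → x.1 ^ 3 < 2 ^ (ppExp l 2))
      (by decide +kernel)
    rw [hc, factorization_ppProd l hlp] at h3 ⊢
    obtain ⟨x, hx, rfl⟩ := exists_mem_of_ppExp_ne_zero l p (by rw [h3]; norm_num)
    exact hP x hx hodd h3

end Cfsg.Agent.S2367
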