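import Mathlib
import Cfsg.Statements.S2368
import Cfsg.Agent.Lib.Helper12.Unipotent

set_option autoImplicit false
open Cfsg

namespace Cfsg.Agent.S2368

open Cfsg.Agent.Helper12 Matrix

variable {F : Type*} [Field F]

theorem coe_pow_GL {m : ℕ} (g : Matrix.GeneralLinearGroup (Fin m) F) (k : ℕ) :
    ((g ^ k : Matrix.GeneralLinearGroup (Fin m) F) : Matrix (Fin m) (Fin m) F) =
      (g : Matrix (Fin m) (Fin m) F) ^ k := Units.val_pow_eq_pow_val g k

/-- Let F be a finite field of characteristic p and m ≥ 1. Every element of GL(m, F) of p-power order has order less than p·m, and GL(m, F) has an element of p-power order at least m; so the largest order of a p-element of GL(m, F) is the least power of p that is at least m. -/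
theorem result {F : Type*} [Field F] [Fintype F] (p : ℕ) [Fact p.Prime] [CharP F p] (m : ℕ) (hm : 1 ≤ m) :
    (∀ g : Matrix.GeneralLinearGroup (Fin m) F, (∃ j : ℕ, orderOf g = p ^ j) → orderOf g < p * m) ∧
      ∃ g : Matrix.GeneralLinearGroup (Fin m) F, (∃ j : ℕ, orderOf g = p ^ j) ∧ m ≤ orderOf g := by
  have hp : p.Prime := Fact.out
  have : Nonempty (Fin m) := ⟨⟨0, by omega⟩⟩
  constructor
  · rintro g ⟨j, hj⟩
    set M : Matrix (Fin m) (Fin m) F := (g : Matrix (Fin m) (Fin m) F) with hM
    have hMj : M ^ (p ^ j) = 1 := by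
      have : g ^ (p ^ j) = 1 := by rw [← hj]; exact pow_orderOf_eq_one g
      rw [hM, ← coe_pow_GL, this]; rfl
    have hNj : (M - 1) ^ (p ^ j) = 0 := by
      rw [sub_pow_char_pow_of_commute p j (Commute.one_right M), hMj, one_pow, sub_self]
    have hN : (M - 1) ^ m = 0 := nilpotent_pow_card _ ⟨_, hNj⟩
    set k := Nat.clog p m with hk
    have hmk : m ≤ p ^ k := Nat.le_pow_clog hp.one_lt m
    have hNk : (M - 1) ^ (p ^ k) = 0 := by
      rw [← Nat.sub_add_cancel hmk, pow_add, hN, mul_zero]
    have hMk : M ^ (p ^ k) = 1 := by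
      have := sub_pow_char_pow_of_commute p k (Commute.one_right M)
      rw [hNk, one_pow] at this
      exact (sub_eq_zero.mp this.symm)
    have hgk : g ^ (p ^ k) = 1 := by
      apply Units.ext
      rw [coe_pow_GL]; exact hMk
    have hle : orderOf g ≤ p ^ k := Nat.le_of_dvd (pow_pos hp.pos k) (orderOf_dvd_of_pow_eq_one hgk)
    have hlt : p ^ k < p * m := by
      by_cases h1 : 1 < m
      · have h2 := Nat.pow_pred_clog_lt_self hp.one_lt h1
        have h3 : 0 < k := Nat.clog_pos hp.one_lt h1
        have h4 : p ^ k = p * p ^ (k - 1) := by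
          rw [← pow_succ', Nat.sub_add_cancel h3]
        rw [h4]
        exact Nat.mul_lt_mul_of_pos_left (by simpa using h2) hp.pos
      · have hm1 : m = 1 := by omega
        have hk0 : k = 0 := by rw [hk, hm1]; simp
        rw [hk0, hm1, pow_zero, mul_one]
        exact hp.one_lt
    omega
  · -- the Jordan block
    set J := jordanNil m F with hJ
    have hJnil : IsNilpotent J := ⟨m, jordanNil_pow_eq_zero m le_rfl⟩
    set u : Matrix.GeneralLinearGroup (Fin m) F := hJnil.isUnit_one_add.unit with hu
    have huv : (u : Matrix (Fin m) (Fin m) F) = 1 + J := rfl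
    have hpow : ∀ k : ℕ, ((u ^ (p ^ k) : Matrix.GeneralLinearGroup (Fin m) F) :
        Matrix (Fin m) (Fin m) F) = 1 + J ^ (p ^ k) := by
      intro k
      rw [coe_pow_GL, huv, add_pow_char_pow_of_commute p k (Commute.one_left J), one_pow]
    set K := Nat.clog p m with hK
    have hmK : m ≤ p ^ K := Nat.le_pow_clog hp.one_lt m
    have huK : u ^ (p ^ K) = 1 := by
      apply Units.ext
      rw [hpow, jordanNil_pow_eq_zero m hmK, add_zero]; rfl
    obtain ⟨j, -, hj⟩ := (Nat.dvd_prime_pow hp).mp (orderOf_dvd_of_pow_eq_one huK)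
    refine ⟨u, ⟨j, hj⟩, ?_⟩
    rw [hj]
    by_contra hlt
    push_neg at hlt
    have h1 : u ^ (p ^ j) = 1 := by rw [← hj]; exact pow_orderOf_eq_one u
    have h2 := hpow j
    rw [h1] at h2
    have h3 : J ^ (p ^ j) = 0 := by
      have : (1 : Matrix (Fin m) (Fin m) F) = 1 + J ^ (p ^ j) := h2
      exact (add_eq_left.mp this.symm)
    exact jordanNil_pow_ne_zero m hlt h3

end Cfsg.Agent.S2368
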