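import Cfsg.Statements.S2369
import Cfsg.Agent.Lib.Helper11.F4ICent

set_option autoImplicit false
open Cfsg

namespace Cfsg.Agent.S2369

/-- Let q = 2^(2m+1) with m ≥ 1 and let a, b be commuting elements of the large Ree group ²F₄(q) with a an involution. Then every prime divisor of the order of b divides q(q⁴ − 1). -/
theorem result {K : Type*} [Field K] [Fintype K] (m : ℕ) (hm : 1 ≤ m) (hK : Fintype.card K = 2 ^ (2 * m + 1))
    (a b : ↥(Cfsg.Lie.twistedF4 K (2 ^ m))) (ha : orderOf a = 2) (hab : Commute a b) :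
    (orderOf b).primeFactors ⊆ (2 ^ (2 * m + 1) * ((2 ^ (2 * m + 1)) ^ 4 - 1)).primeFactors := by
  obtain ⟨hc, hperf, f, hf⟩ := Cfsg.Agent.Lead.Tw.exists_ree_setup 2 Nat.prime_two m hK
  haveI := hc
  rw [← hK]
  have ha2 : (a : GL Cfsg.Lie.chevF4.Idx K) * a = 1 := by
    have h : a ^ 2 = 1 := by
      have h := pow_orderOf_eq_one a
      rwa [ha] at h
    rw [pow_two] at h
    exact congrArg Subtype.val h
  have ha1 : (a : GL Cfsg.Lie.chevF4.Idx K) ≠ 1 := by
    intro h
    have : a = 1 := Subtype.ext h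
    rw [this, orderOf_one] at ha
    omega
  have hcomm : Commute (a : GL Cfsg.Lie.chevF4.Idx K) b := by
    have h := hab.eq
    unfold Commute SemiconjBy
    exact congrArg Subtype.val h
  have h := Cfsg.Agent.Helper11.F4I.primeFactors_of_commute hK hperf f hf a b a.2 b.2 ha2 ha1 hcomm
  rwa [Subgroup.orderOf_coe] at h

end Cfsg.Agent.S2369
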