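import Mathlib
import Cfsg.Statements.S2379
import Cfsg.Agent.Lib.Helper12.GLSylowVal
import Cfsg.Agent.Lib.Helper12.GLHomocyclic
import Cfsg.Agent.Lib.Helper12.SLDiag

set_option autoImplicit false
open Cfsg

namespace Cfsg.Agent.S2379

open Cfsg.Agent.Helper12 Cfsg.Agent.Helper15.Zsig

theorem card_filter_Icc_two (n d : ℕ) (hd : 1 ≤ d) :
    ((Finset.Icc 2 n).filter (fun i => d ∣ i)).card = if d = 1 then n - 1 else n / d := by
  split_ifs with h
  · subst h
    simp
  · rw [← Nat.Ioc_filter_dvd_card_eq_div n d]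
    congr 1
    ext x
    simp only [Finset.mem_filter, Finset.mem_Icc, Finset.mem_Ioc]
    constructor
    · rintro ⟨⟨h1, h2⟩, h3⟩
      exact ⟨⟨by omega, h2⟩, h3⟩
    · rintro ⟨⟨h1, h2⟩, h3⟩
      have := Nat.le_of_dvd h1 h3
      exact ⟨⟨by omega, h2⟩, h3⟩

theorem result {F : Type*} [Field F] [Fintype F] {q : ℕ} (hq : Fintype.card F = q) (n : ℕ)
    (r : ℕ) [Fact r.Prime] (hrn : n < r) (hrq : ¬ r ∣ q) (P : Sylow r (Matrix.SpecialLinearGroup (Fin n) F)) :
    Nonempty (↥(P : Subgroup (Matrix.SpecialLinearGroup (Fin n) F)) ≃*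
      (Fin ((Finset.Icc 2 n).filter (fun i => orderOf (q : ZMod r) ∣ i)).card →
        Multiplicative (ZMod (r ^ padicValNat r ((Polynomial.cyclotomic (orderOf (q : ZMod r)) ℤ).eval (q : ℤ)).natAbs)))) := by
  classical
  subst hq
  have hr : r.Prime := Fact.out
  obtain ⟨p, hp⟩ := CharP.exists F
  haveI := hp
  haveI : Fact p.Prime := ⟨CharP.char_is_prime F p⟩
  have hq1 : 1 < Fintype.card F := Fintype.one_lt_card
  obtain ⟨d, hd⟩ : ∃ d, d = orderOf ((Fintype.card F : ℕ) : ZMod r) := ⟨_, rfl⟩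
  have hq0 : ((Fintype.card F : ℕ) : ZMod r) ≠ 0 := by
    rw [Ne, ZMod.natCast_eq_zero_iff]
    exact hrq
  have hd0 : 0 < d := by
    rw [hd]
    exact (IsUnit.mk0 _ hq0).isOfFinOrder.orderOf_pos
  haveI : NeZero d := ⟨hd0.ne'⟩
  obtain ⟨a, ha⟩ : ∃ a, a = padicValNat r (cycN d (Fintype.card F)) := ⟨_, rfl⟩
  have ha' : a = (Fintype.card F ^ d - 1).factorization r := by
    rw [ha, ← Nat.factorization_def _ hr, hd,
      factorization_pow_orderOf_sub_one hr hq1 (by rw [← hd]; exact hd0)]
  have hdvd : r ^ a ∣ Fintype.card F ^ d - 1 := by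
    rw [ha']
    exact Nat.ordProj_dvd _ _
  rw [← hd]
  show Nonempty (↥(P : Subgroup (Matrix.SpecialLinearGroup (Fin n) F)) ≃*
    (Fin ((Finset.Icc 2 n).filter (fun i => d ∣ i)).card →
      Multiplicative (ZMod (r ^ padicValNat r (cycN d (Fintype.card F))))))
  rw [← ha, card_filter_Icc_two n d hd0]
  -- it suffices to find a subgroup of the right shape and order
  suffices hmain : ∃ H : Subgroup (Matrix.SpecialLinearGroup (Fin n) F),
      Nonempty (H ≃* (Fin (if d = 1 then n - 1 else n / d) → Multiplicative (ZMod (r ^ a)))) ∧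
      Nat.card H = r ^ (Nat.card (Matrix.SpecialLinearGroup (Fin n) F)).factorization r by
    obtain ⟨H, ⟨e⟩, hcardH⟩ := hmain
    have e1 : ↥(P : Subgroup (Matrix.SpecialLinearGroup (Fin n) F)) ≃*
        ↥((Sylow.ofCard H hcardH : Sylow r (Matrix.SpecialLinearGroup (Fin n) F)) :
          Subgroup (Matrix.SpecialLinearGroup (Fin n) F)) := Sylow.equiv P (Sylow.ofCard H hcardH)
    have e2 : ↥((Sylow.ofCard H hcardH : Sylow r (Matrix.SpecialLinearGroup (Fin n) F)) :
        Subgroup (Matrix.SpecialLinearGroup (Fin n) F)) ≃* H := MulEquiv.refl _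
    exact ⟨e1.trans (e2.trans e)⟩
  have hcardfun : ∀ m : ℕ, Nat.card (Fin m → Multiplicative (ZMod (r ^ a))) = r ^ (a * m) := by
    intro m
    rw [Nat.card_fun, Nat.card_congr Multiplicative.toAdd, Nat.card_zmod,
      Nat.card_eq_fintype_card, Fintype.card_fin, ← pow_mul]
  by_cases hn0 : n = 0
  · subst hn0
    refine ⟨⊥, ?_, ?_⟩
    · have h0 : (if d = 1 then 0 - 1 else 0 / d) = 0 := by
        split_ifs <;> simp
      rw [h0]
      exact ⟨{ toFun := fun _ => 1
               invFun := fun _ => 1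
               left_inv := fun x => Subsingleton.elim _ _
               right_inv := fun x => Subsingleton.elim _ _
               map_mul' := fun _ _ => Subsingleton.elim _ _ }⟩
    · rw [Subgroup.card_bot]
      have : Nat.card (Matrix.SpecialLinearGroup (Fin 0) F) = 1 := by
        haveI : Subsingleton (Matrix.SpecialLinearGroup (Fin 0) F) :=
          ⟨fun a b => Subtype.ext (Subsingleton.elim _ _)⟩
        exact Nat.card_unique
      rw [this]
      simp
  have hn1 : 1 ≤ n := by omega
  have hSLne : Nat.card (Matrix.SpecialLinearGroup (Fin n) F) ≠ 0 := Nat.card_pos.ne'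
  have hval : (Nat.card (Matrix.SpecialLinearGroup (Fin n) F)).factorization r +
      (Fintype.card F - 1).factorization r = (n / d) * a := by
    have h1 : (Nat.card (Matrix.SpecialLinearGroup (Fin n) F) *
        (Fintype.card F - 1)).factorization r =
        (∏ i : Fin n, (Fintype.card F ^ n - Fintype.card F ^ (i : ℕ))).factorization r := by
      rw [card_SL_mul (F := F) hn1]
    rw [Nat.factorization_mul hSLne (by omega), Finsupp.add_apply,
      factorization_card_GL hr hq1 hrq hrn, ← hd, ← ha'] at h1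
    exact h1
  by_cases hd1 : d = 1
  · -- `r ∣ q - 1`: diagonal torus
    rw [if_pos hd1]
    obtain ⟨k, rfl⟩ : ∃ k, n = k + 1 := ⟨n - 1, by omega⟩
    rw [hd1, pow_one] at hdvd ha'
    obtain ⟨H, ⟨e⟩⟩ := exists_homocyclic_subgroup_SL_diag (F := F) k (r ^ a) hdvd
    refine ⟨H, ⟨by rw [Nat.add_sub_cancel]; exact e⟩, ?_⟩
    rw [Nat.card_congr e.toEquiv, hcardfun]
    congr 1
    rw [hd1, Nat.div_one, ← ha'] at hval
    have : (k + 1) * a = k * a + a := by ring
    rw [mul_comm a k]
    omega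
  · -- `r ∤ q - 1`
    rw [if_neg hd1]
    have hd2 : 2 ≤ d := by omega
    have hr1 : ¬ r ∣ Fintype.card F - 1 :=
      not_dvd_sub_one_of_two_le_orderOf (by omega) (by rw [← hd]; exact hd2)
    have hv0 : (Fintype.card F - 1).factorization r = 0 :=
      Nat.factorization_eq_zero_of_not_dvd hr1
    rw [hv0, add_zero] at hval
    obtain ⟨H, ⟨e⟩⟩ := exists_homocyclic_subgroup_GL (F := F) p n d (n / d) (r ^ a)
      (Nat.div_mul_le_self n d) hdvd
    have hcardH : Nat.card H = r ^ (a * (n / d)) := by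
      rw [Nat.card_congr e.toEquiv, hcardfun]
    have hdet : ∀ h ∈ H, Matrix.GeneralLinearGroup.det h = 1 := by
      intro h hh
      have h1 : h ^ (r ^ (a * (n / d))) = 1 := by
        have h2 : (⟨h, hh⟩ : H) ^ Nat.card H = 1 := pow_card_eq_one'
        rw [hcardH] at h2
        exact congrArg Subtype.val h2
      have h3 : (Matrix.GeneralLinearGroup.det h) ^ (r ^ (a * (n / d))) = 1 := by
        rw [← map_pow, h1, map_one]
      have h4 : (Matrix.GeneralLinearGroup.det h) ^ (Fintype.card F - 1) = 1 := by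
        rw [← Fintype.card_units]
        exact pow_card_eq_one
      have hcop : Nat.Coprime (r ^ (a * (n / d))) (Fintype.card F - 1) :=
        Nat.Coprime.pow_left _ ((Nat.Prime.coprime_iff_not_dvd hr).mpr hr1)
      have h5 : orderOf (Matrix.GeneralLinearGroup.det h) ∣
          Nat.gcd (r ^ (a * (n / d))) (Fintype.card F - 1) :=
        Nat.dvd_gcd (orderOf_dvd_of_pow_eq_one h3) (orderOf_dvd_of_pow_eq_one h4)
      rw [hcop, Nat.dvd_one, orderOf_eq_one_iff] at h5
      exact h5
    have hle : H ≤ (Matrix.SpecialLinearGroup.toGL (n := Fin n) (R := F)).range := by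
      intro h hh
      have h1 := hdet h hh
      have h2 : (h : Matrix (Fin n) (Fin n) F).det = 1 := by
        have := congrArg Units.val h1
        simpa using this
      exact ⟨⟨h.1, h2⟩, Units.ext rfl⟩
    obtain ⟨H', hH'⟩ : ∃ H' : Subgroup (Matrix.SpecialLinearGroup (Fin n) F),
        H' = H.comap Matrix.SpecialLinearGroup.toGL := ⟨_, rfl⟩
    have e' : H' ≃* H :=
      (Subgroup.equivMapOfInjective H' Matrix.SpecialLinearGroup.toGL
        Matrix.SpecialLinearGroup.toGL_injective).trans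
        (MulEquiv.subgroupCongr (by rw [hH', Subgroup.map_comap_eq_self hle]))
    refine ⟨H', ⟨e'.trans e⟩, ?_⟩
    rw [Nat.card_congr e'.toEquiv, hcardH, hval, mul_comm]

end Cfsg.Agent.S2379
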