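import Mathlib
import Cfsg.Statements.S2380
import Cfsg.Agent.Lib.Helper12.GLSylowVal
import Cfsg.Agent.Lib.Helper12.GLHomocyclic

set_option autoImplicit false
open Cfsg

namespace Cfsg.Agent.S2380

open Cfsg.Agent.Helper12 Cfsg.Agent.Helper15.Zsig

theorem result {F : Type*} [Field F] [Fintype F] {q : ℕ} (hq : Fintype.card F = q) (n : ℕ)
    (r : ℕ) [Fact r.Prime] (hrn : n < r) (hrq : ¬ r ∣ q) (P : Sylow r (GL (Fin n) F)) :
    Nonempty (↥(P : Subgroup (GL (Fin n) F)) ≃*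
      (Fin (n / orderOf (q : ZMod r)) →
        Multiplicative (ZMod (r ^ padicValNat r ((Polynomial.cyclotomic (orderOf (q : ZMod r)) ℤ).eval (q : ℤ)).natAbs)))) := by
  classical
  subst hq
  have hr : r.Prime := Fact.out
  obtain ⟨p, hp⟩ := CharP.exists F
  haveI := hp
  haveI : Fact p.Prime := ⟨CharP.char_is_prime F p⟩
  have hq1 : 1 < Fintype.card F := Fintype.one_lt_card
  obtain ⟨d, hd⟩ : ∃ d, d = orderOf ((Fintype.card F : ℕ) : ZMod r) := ⟨_, rfl⟩
  have hq0 : ((Fintype.card F : ℕ) : ZMod r) ≠ 0 := by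
    rw [Ne, ZMod.natCast_eq_zero_iff]
    exact hrq
  have hd0 : 0 < d := by
    rw [hd]
    exact (IsUnit.mk0 _ hq0).isOfFinOrder.orderOf_pos
  haveI : NeZero d := ⟨hd0.ne'⟩
  obtain ⟨a, ha⟩ : ∃ a, a = padicValNat r (cycN d (Fintype.card F)) := ⟨_, rfl⟩
  have ha' : a = (Fintype.card F ^ d - 1).factorization r := by
    rw [ha, ← Nat.factorization_def _ hr, hd,
      factorization_pow_orderOf_sub_one hr hq1 (by rw [← hd]; exact hd0)]
  have hdvd : r ^ a ∣ Fintype.card F ^ d - 1 := by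
    rw [ha']
    exact Nat.ordProj_dvd _ _
  obtain ⟨H, ⟨e⟩⟩ := exists_homocyclic_subgroup_GL (F := F) p n d (n / d) (r ^ a)
    (Nat.div_mul_le_self n d) hdvd
  have hcardH : Nat.card H = r ^ (Nat.card (GL (Fin n) F)).factorization r := by
    rw [Nat.card_congr e.toEquiv, Nat.card_fun, Nat.card_congr Multiplicative.toAdd, Nat.card_zmod,
      Nat.card_eq_fintype_card, Fintype.card_fin, ← pow_mul, Matrix.card_GL_field,
      factorization_card_GL hr hq1 hrq hrn, ← hd, ← ha', mul_comm]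
  have e1 : ↥(P : Subgroup (GL (Fin n) F)) ≃* ↥((Sylow.ofCard H hcardH : Sylow r (GL (Fin n) F)) :
      Subgroup (GL (Fin n) F)) := Sylow.equiv P (Sylow.ofCard H hcardH)
  have e2 : ↥((Sylow.ofCard H hcardH : Sylow r (GL (Fin n) F)) : Subgroup (GL (Fin n) F)) ≃* H :=
    MulEquiv.refl _
  rw [← hd]
  show Nonempty (↥(P : Subgroup (GL (Fin n) F)) ≃*
    (Fin (n / d) → Multiplicative (ZMod (r ^ padicValNat r (cycN d (Fintype.card F))))))
  rw [← ha]
  exact ⟨e1.trans (e2.trans e)⟩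

end Cfsg.Agent.S2380
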