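import Mathlib
import Cfsg.Statements.S2384
import Cfsg.Agent.Lib.Helper13.SemisimpleCharpolyGL
import Cfsg.Agent.Lib.Helper13.MonicCount

set_option autoImplicit false
open Cfsg

namespace Cfsg.Agent.S2384

open Cfsg.Agent.Helper13.SS Polynomial

section aux
variable {F : Type*} [Field F] {n : ℕ}

theorem charpoly_eq_of_isConj {g h : Matrix.SpecialLinearGroup (Fin n) F} (hgh : IsConj g h) :
    (g : Matrix (Fin n) (Fin n) F).charpoly = (h : Matrix (Fin n) (Fin n) F).charpoly := by
  obtain ⟨y, rfl⟩ := isConj_iff.1 hgh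
  rw [Matrix.SpecialLinearGroup.coe_mul, Matrix.charpoly_mul_comm,
    ← Matrix.SpecialLinearGroup.coe_mul, ← mul_assoc, inv_mul_cancel, one_mul]

theorem charpoly_coeff_zero_sl (g : Matrix.SpecialLinearGroup (Fin n) F) :
    (g : Matrix (Fin n) (Fin n) F).charpoly.coeff 0 = (-1) ^ n := by
  have h1 := Matrix.det_eq_sign_charpoly_coeff (g : Matrix (Fin n) (Fin n) F)
  rw [g.det_coe, Fintype.card_fin] at h1
  have h2 : ((-1 : F) ^ n) * ((-1) ^ n) = 1 := by
    rw [← mul_pow]
    simp
  calc (g : Matrix (Fin n) (Fin n) F).charpoly.coeff 0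
      = ((-1 : F) ^ n * (-1) ^ n) * (g : Matrix (Fin n) (Fin n) F).charpoly.coeff 0 := by
        rw [h2, one_mul]
    _ = (-1) ^ n * ((-1) ^ n * (g : Matrix (Fin n) (Fin n) F).charpoly.coeff 0) := by ring
    _ = (-1) ^ n := by rw [← h1, mul_one]

end aux

/-- In `SL_n(q)`, `q` a power of the prime `p`, the number of conjugacy classes of elements of order prime to `p` (the semisimple classes) is `q^(n-1)`. -/
theorem result {F : Type*} [Field F] [Fintype F] {q : ℕ} (hq : Fintype.card F = q) (p : ℕ) [Fact p.Prime] [CharP F p] (n : ℕ) (hn : 1 ≤ n) :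
    Nat.card {c : ConjClasses (Matrix.SpecialLinearGroup (Fin n) F) //
      ∃ g : Matrix.SpecialLinearGroup (Fin n) F, ConjClasses.mk g = c ∧ (orderOf g).Coprime p} = q ^ (n - 1) := by
  classical
  subst hq
  rw [← card_monic_eq n hn ((-1 : F) ^ n)]
  set T := {c : ConjClasses (Matrix.SpecialLinearGroup (Fin n) F) //
      ∃ g : Matrix.SpecialLinearGroup (Fin n) F, ConjClasses.mk g = c ∧ (orderOf g).Coprime p}
  have hrep : ∀ t : T, ∃ g : Matrix.SpecialLinearGroup (Fin n) F,
      ConjClasses.mk g = t.1 ∧ (orderOf g).Coprime p := fun t => t.2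
  choose rep hrep1 hrep2 using hrep
  let Ψ : T → {P : F[X] // P.Monic ∧ P.natDegree = n ∧ P.coeff 0 = (-1) ^ n} := fun t =>
    ⟨(rep t : Matrix (Fin n) (Fin n) F).charpoly, Matrix.charpoly_monic _, by
      rw [Matrix.charpoly_natDegree_eq_dim, Fintype.card_fin], charpoly_coeff_zero_sl _⟩
  apply Nat.card_eq_of_bijective Ψ
  constructor
  · intro t t' htt
    have h1 : (rep t : Matrix (Fin n) (Fin n) F).charpoly =
        (rep t' : Matrix (Fin n) (Fin n) F).charpoly := congrArg Subtype.val htt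
    have h2 : IsConj (rep t) (rep t') :=
      sl_isConj_of_charpoly_eq (p := p) (rep t) (rep t') (hrep2 t) (hrep2 t') h1
    apply Subtype.ext
    rw [← hrep1 t, ← hrep1 t']
    exact ConjClasses.mk_eq_mk_iff_isConj.2 h2
  · rintro ⟨P, hP1, hP2, hP3⟩
    have hP0 : P.coeff 0 ≠ 0 := by
      rw [hP3]
      exact pow_ne_zero _ (neg_ne_zero.2 one_ne_zero)
    obtain ⟨g, hg1, hg2⟩ := exists_gl_of_charpoly (p := p) P hP1 hP2 hP0
    have hdet : (g : Matrix (Fin n) (Fin n) F).det = 1 := by
      rw [Matrix.det_eq_sign_charpoly_coeff, hg1, hP3, Fintype.card_fin, ← mul_pow]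
      simp
    set g' : Matrix.SpecialLinearGroup (Fin n) F := ⟨(g : Matrix (Fin n) (Fin n) F), hdet⟩ with hg'
    have hord : orderOf g' = orderOf g := by
      rw [orderOf_eq_orderOf_iff]
      intro k
      have e1 : g' ^ k = 1 ↔ (g : Matrix (Fin n) (Fin n) F) ^ k = 1 := by
        constructor
        · intro h
          have := congrArg Subtype.val h
          rwa [Matrix.SpecialLinearGroup.coe_pow] at this
        · intro h
          apply Subtype.ext
          rw [Matrix.SpecialLinearGroup.coe_pow]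
          exact h
      have e2 : g ^ k = 1 ↔ (g : Matrix (Fin n) (Fin n) F) ^ k = 1 := by
        rw [Units.ext_iff, Units.val_pow_eq_pow_val, Units.val_one]
      rw [e1, e2]
    have hg2' : (orderOf g').Coprime p := by rw [hord]; exact hg2
    refine ⟨⟨ConjClasses.mk g', g', rfl, hg2'⟩, ?_⟩
    apply Subtype.ext
    show (rep ⟨ConjClasses.mk g', g', rfl, hg2'⟩ : Matrix (Fin n) (Fin n) F).charpoly = P
    rw [← hg1]
    have := charpoly_eq_of_isConj
      (ConjClasses.mk_eq_mk_iff_isConj.1 (hrep1 ⟨ConjClasses.mk g', g', rfl, hg2'⟩))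
    rw [this]

end Cfsg.Agent.S2384
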