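import Mathlib
import Cfsg.Statements.S2389
import Cfsg.Agent.Lib.Helper13.SympConj
import Cfsg.Agent.Lib.Helper13.SemisimpleCharpolyGL

set_option autoImplicit false
open Cfsg

namespace Cfsg.Agent.S2389

open Polynomial Cfsg.Agent.Helper13.SS in
/-- In the symplectic group `Sp_{2n}(q)`, `q` a power of the prime `p`, two elements of order prime to `p` with the same characteristic polynomial are conjugate in `Sp_{2n}(q)`. -/
theorem result {F : Type*} [Field F] [Fintype F] (p : ℕ) [Fact p.Prime] [CharP F p] (n : ℕ)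
    (g h : ↥(Matrix.symplecticGroup (Fin n) F)) (hg : (orderOf g).Coprime p) (hh : (orderOf h).Coprime p)
    (hc : (g : Matrix (Fin n ⊕ Fin n) (Fin n ⊕ Fin n) F).charpoly = (h : Matrix (Fin n ⊕ Fin n) (Fin n ⊕ Fin n) F).charpoly) :
    IsConj g h := by
  classical
  set m := orderOf g * orderOf h with hm
  have hmp : m.Coprime p := Nat.Coprime.mul_left hg hh
  have hmF : (m : F) ≠ 0 := cast_ne_zero_of_coprime hmp
  have hm1 : 1 ≤ m := Nat.mul_pos (orderOf_pos g) (orderOf_pos h)
  have hgm : g ^ m = 1 := by rw [hm, pow_mul, pow_orderOf_eq_one, one_pow]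
  have hhm : h ^ m = 1 := by rw [hm, mul_comm, pow_mul, pow_orderOf_eq_one, one_pow]
  have hgm' : (g : Matrix (Fin n ⊕ Fin n) (Fin n ⊕ Fin n) F) ^ m = 1 := by
    rw [← SubmonoidClass.coe_pow, hgm]
    rfl
  have hhm' : (h : Matrix (Fin n ⊕ Fin n) (Fin n ⊕ Fin n) F) ^ m = 1 := by
    rw [← SubmonoidClass.coe_pow, hhm]
    rfl
  set S := irrFactors (X ^ m - 1 : F[X]) with hS
  have hprod : ∏ f ∈ S, f = X ^ m - 1 := sepFactors_prod hmF
  set φ := Matrix.toLinAlgEquiv' (R := F) (n := Fin n ⊕ Fin n) with hφ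
  have hchar : ∀ M : Matrix (Fin n ⊕ Fin n) (Fin n ⊕ Fin n) F, (φ M).charpoly = M.charpoly := by
    intro M
    exact Matrix.charpoly_toLin' M
  have hkg : aeval (φ g) (∏ f ∈ S, f) = 0 := by
    rw [hprod, map_sub, map_pow, aeval_X, map_one, ← map_pow, hgm', map_one, sub_self]
  have hkh : aeval (φ h) (∏ f ∈ S, f) = 0 := by
    rw [hprod, map_sub, map_pow, aeval_X, map_one, ← map_pow, hhm', map_one, sub_self]
  have hirr : ∀ f ∈ S, Irreducible f := fun f hf => irrFactors_irreducible hf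
  have hmon : ∀ f ∈ S, f.Monic := fun f hf => irrFactors_monic hf
  obtain ⟨T, hT⟩ := exists_equiv_of_charpoly_eq S hirr hmon (φ g) (φ h) hkg hkh
    (by rw [hchar, hchar, hc])
  apply Cfsg.Agent.Helper13.SympSS.symp_isConj_of_intertwiner g h m hm1 hmF hgm T
  intro v
  have := hT v
  rw [Matrix.toLinAlgEquiv'_apply, Matrix.toLinAlgEquiv'_apply] at this
  exact this

end Cfsg.Agent.S2389
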