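import Mathlib
import Cfsg.Statements.S2385
import Cfsg.Agent.Lib.Helper13.SympPalin
import Cfsg.Agent.S2389

set_option autoImplicit false
open Cfsg

namespace Cfsg.Agent.S2385

open Cfsg.Agent.Helper13.SympSS Polynomial

section aux
variable {F : Type*} [Field F] {n : ℕ}

theorem charpoly_eq_of_isConj {g h : Matrix.symplecticGroup (Fin n) F} (hgh : IsConj g h) :
    (g : Matrix (Fin n ⊕ Fin n) (Fin n ⊕ Fin n) F).charpoly =
      (h : Matrix (Fin n ⊕ Fin n) (Fin n ⊕ Fin n) F).charpoly := by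
  obtain ⟨y, rfl⟩ := isConj_iff.1 hgh
  have h1 : ((y * g * y⁻¹ : Matrix.symplecticGroup (Fin n) F) :
      Matrix (Fin n ⊕ Fin n) (Fin n ⊕ Fin n) F) =
      (y : Matrix (Fin n ⊕ Fin n) (Fin n ⊕ Fin n) F) *
        ((g * y⁻¹ : Matrix.symplecticGroup (Fin n) F) :
          Matrix (Fin n ⊕ Fin n) (Fin n ⊕ Fin n) F) := by
    rw [mul_assoc]
    rfl
  rw [h1, Matrix.charpoly_mul_comm]
  have h2 : ((g * y⁻¹ : Matrix.symplecticGroup (Fin n) F) :
      Matrix (Fin n ⊕ Fin n) (Fin n ⊕ Fin n) F) *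
      (y : Matrix (Fin n ⊕ Fin n) (Fin n ⊕ Fin n) F) =
      ((g * y⁻¹ * y : Matrix.symplecticGroup (Fin n) F) :
        Matrix (Fin n ⊕ Fin n) (Fin n ⊕ Fin n) F) := rfl
  rw [h2, inv_mul_cancel_right]

end aux

/-- In the symplectic group `Sp_{2n}(q)`, `q` a power of the prime `p`, the number of conjugacy classes of elements of order prime to `p` is `q^n`. -/
theorem result {F : Type*} [Field F] [Fintype F] {q : ℕ} (hq : Fintype.card F = q) (p : ℕ) [Fact p.Prime] [CharP F p] (n : ℕ) :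
    Nat.card {c : ConjClasses ↥(Matrix.symplecticGroup (Fin n) F) //
      ∃ g : ↥(Matrix.symplecticGroup (Fin n) F), ConjClasses.mk g = c ∧ (orderOf g).Coprime p} = q ^ n := by
  classical
  subst hq
  rw [← card_palindromic n]
  set T := {c : ConjClasses ↥(Matrix.symplecticGroup (Fin n) F) //
      ∃ g : ↥(Matrix.symplecticGroup (Fin n) F), ConjClasses.mk g = c ∧ (orderOf g).Coprime p}
  have hrep : ∀ t : T, ∃ g : ↥(Matrix.symplecticGroup (Fin n) F),
      ConjClasses.mk g = t.1 ∧ (orderOf g).Coprime p := fun t => t.2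
  choose rep hrep1 hrep2 using hrep
  let Ψ : T → {P : F[X] // P.Monic ∧ P.natDegree = 2 * n ∧ P.reverse = P} := fun t =>
    ⟨(rep t : Matrix (Fin n ⊕ Fin n) (Fin n ⊕ Fin n) F).charpoly, Matrix.charpoly_monic _, by
      rw [Matrix.charpoly_natDegree_eq_dim, Fintype.card_sum, Fintype.card_fin, two_mul],
      reverse_charpoly_of_mem _ (rep t).2⟩
  apply Nat.card_eq_of_bijective Ψ
  constructor
  · intro t t' htt
    have h1 : (rep t : Matrix (Fin n ⊕ Fin n) (Fin n ⊕ Fin n) F).charpoly =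
        (rep t' : Matrix (Fin n ⊕ Fin n) (Fin n ⊕ Fin n) F).charpoly := congrArg Subtype.val htt
    have h2 : IsConj (rep t) (rep t') :=
      Cfsg.Agent.S2389.result p n (rep t) (rep t') (hrep2 t) (hrep2 t') h1
    apply Subtype.ext
    rw [← hrep1 t, ← hrep1 t']
    exact ConjClasses.mk_eq_mk_iff_isConj.2 h2
  · rintro ⟨P, hP1, hP2, hP3⟩
    obtain ⟨g, hg1, hg2⟩ := exists_symp_of_palindromic (p := p) n P hP1 hP2 hP3
    refine ⟨⟨ConjClasses.mk g, g, rfl, hg2⟩, ?_⟩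
    apply Subtype.ext
    show (rep ⟨ConjClasses.mk g, g, rfl, hg2⟩ :
      Matrix (Fin n ⊕ Fin n) (Fin n ⊕ Fin n) F).charpoly = P
    rw [← hg1]
    exact charpoly_eq_of_isConj
      (ConjClasses.mk_eq_mk_iff_isConj.1 (hrep1 ⟨ConjClasses.mk g, g, rfl, hg2⟩))

end Cfsg.Agent.S2385
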