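import Mathlib
import Cfsg.Statements.S2390
import Cfsg.Agent.Lib.Helper13.UnitaryConj

set_option autoImplicit false
open Cfsg

namespace Cfsg.Agent.S2390

open Cfsg.Agent.Helper13.Uni Cfsg.Agent.Helper13.SS in
/-- In the special unitary group `SU_n(q)` (inside `SL_n` over the field with `q²` elements), `q` a power of the prime `p`, two elements of order prime to `p` with the same characteristic polynomial are conjugate in `SU_n(q)`. -/
theorem result {F : Type*} [Field F] [Fintype F] {q : ℕ} (hF : Fintype.card F = q ^ 2) (p : ℕ) [Fact p.Prime] [CharP F p] (n : ℕ)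
    (g h : ↥(Cfsg.SU n F q)) (hg : (orderOf g).Coprime p) (hh : (orderOf h).Coprime p)
    (hc : ((g : Matrix.SpecialLinearGroup (Fin n) F) : Matrix (Fin n) (Fin n) F).charpoly =
      ((h : Matrix.SpecialLinearGroup (Fin n) F) : Matrix (Fin n) (Fin n) F).charpoly) : IsConj g h := by
  classical
  by_cases hn : n = 0
  · subst hn
    have : g = h := by
      apply Subtype.ext
      apply Subtype.ext
      ext i
      exact i.elim0
    rw [this]
  set m := orderOf g * orderOf h with hm
  have hmp : m.Coprime p := Nat.Coprime.mul_left hg hh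
  have hmF : (m : F) ≠ 0 := cast_ne_zero_of_coprime hmp
  have hm1 : 1 ≤ m := Nat.mul_pos (orderOf_pos g) (orderOf_pos h)
  have hgm : g ^ m = 1 := by rw [hm, pow_mul, pow_orderOf_eq_one, one_pow]
  have hhm : h ^ m = 1 := by rw [hm, mul_comm, pow_mul, pow_orderOf_eq_one, one_pow]
  set a : Matrix (Fin n) (Fin n) F := ((g : Matrix.SpecialLinearGroup (Fin n) F) :
    Matrix (Fin n) (Fin n) F) with hadef
  set b : Matrix (Fin n) (Fin n) F := ((h : Matrix.SpecialLinearGroup (Fin n) F) :
    Matrix (Fin n) (Fin n) F) with hbdef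
  have haM : a ^ m = 1 := by
    rw [hadef, ← Matrix.SpecialLinearGroup.coe_pow, ← SubmonoidClass.coe_pow, hgm]
    rfl
  have hbM : b ^ m = 1 := by
    rw [hbdef, ← Matrix.SpecialLinearGroup.coe_pow, ← SubmonoidClass.coe_pow, hhm]
    rfl
  have ha : Pres q a := fun u v => g.2 u v
  have hb : Pres q b := fun u v => h.2 u v
  obtain ⟨y, hy, hya⟩ := exists_unitary_conj_of_charpoly hF p n a b ha hb m hm1 hmF haM hbM hc
  have hydet := hy.det_norm hF
  have hy0 : y.det ≠ 0 := by
    intro h0
    rw [h0, zero_mul] at hydet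
    exact zero_ne_one hydet
  obtain ⟨c, hcP, hca, hcdet⟩ := exists_unitary_commute_det hF p n (by omega) a ha m hm1 hmF haM
    (y.det)⁻¹ (by rw [inv_pow, ← mul_inv, hydet, inv_one])
  have hzdet : (y * c).det = 1 := by
    rw [Matrix.det_mul, hcdet, mul_inv_cancel₀ hy0]
  set z : Matrix.SpecialLinearGroup (Fin n) F := ⟨y * c, hzdet⟩ with hzdef
  have hz : z ∈ Cfsg.SU n F q := by
    intro u v
    show Cfsg.hermForm n F q ((y * c).mulVec u) ((y * c).mulVec v) = Cfsg.hermForm n F q u v
    rw [← Matrix.mulVec_mulVec, ← Matrix.mulVec_mulVec, hy, hcP]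
  rw [isConj_iff]
  refine ⟨⟨z, hz⟩, ?_⟩
  rw [mul_inv_eq_iff_eq_mul]
  apply Subtype.ext
  apply Subtype.ext
  show (y * c) * a = b * (y * c)
  rw [mul_assoc, hca, ← mul_assoc, hya, mul_assoc]

end Cfsg.Agent.S2390
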