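import Mathlib
import Cfsg.Statements.S2386
import Cfsg.Agent.Lib.Helper13.UnitaryPalin
import Cfsg.Agent.S2390

set_option autoImplicit false
open Cfsg

namespace Cfsg.Agent.S2386

open Cfsg.Agent.Helper13.Uni Cfsg.Agent.Helper11.Herm Polynomial

section aux
variable {F : Type*} [Field F] {n q : ℕ}

theorem charpoly_eq_of_isConj {g h : ↥(Cfsg.SU n F q)} (hgh : IsConj g h) :
    ((g : Matrix.SpecialLinearGroup (Fin n) F) : Matrix (Fin n) (Fin n) F).charpoly =
      ((h : Matrix.SpecialLinearGroup (Fin n) F) : Matrix (Fin n) (Fin n) F).charpoly := by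
  obtain ⟨y, rfl⟩ := isConj_iff.1 hgh
  have h1 : (((y * g * y⁻¹ : ↥(Cfsg.SU n F q)) : Matrix.SpecialLinearGroup (Fin n) F) :
      Matrix (Fin n) (Fin n) F) =
      ((y : Matrix.SpecialLinearGroup (Fin n) F) : Matrix (Fin n) (Fin n) F) *
        (((g * y⁻¹ : ↥(Cfsg.SU n F q)) : Matrix.SpecialLinearGroup (Fin n) F) :
          Matrix (Fin n) (Fin n) F) := by
    rw [mul_assoc]
    rfl
  rw [h1, Matrix.charpoly_mul_comm]
  have h2 : (((g * y⁻¹ : ↥(Cfsg.SU n F q)) : Matrix.SpecialLinearGroup (Fin n) F) :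
      Matrix (Fin n) (Fin n) F) *
      ((y : Matrix.SpecialLinearGroup (Fin n) F) : Matrix (Fin n) (Fin n) F) =
      (((g * y⁻¹ * y : ↥(Cfsg.SU n F q)) : Matrix.SpecialLinearGroup (Fin n) F) :
        Matrix (Fin n) (Fin n) F) := rfl
  rw [h2, inv_mul_cancel_right]

end aux

/-- In the special unitary group `SU_n(q)` (matrices of determinant one over the field with `q²` elements preserving the standard Hermitian form), `q` a power of the prime `p`, the number of conjugacy classes of elements of order prime to `p` is `q^(n-1)`. -/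
theorem result {F : Type*} [Field F] [Fintype F] {q : ℕ} (hF : Fintype.card F = q ^ 2) (p : ℕ) [Fact p.Prime] [CharP F p] (n : ℕ) (hn : 1 ≤ n) :
    Nat.card {c : ConjClasses ↥(Cfsg.SU n F q) // ∃ g : ↥(Cfsg.SU n F q), ConjClasses.mk g = c ∧ (orderOf g).Coprime p} = q ^ (n - 1) := by
  classical
  obtain ⟨φ, hφ⟩ := exists_frob hF
  rw [← card_cpal hF φ hφ n hn]
  set T := {c : ConjClasses ↥(Cfsg.SU n F q) //
      ∃ g : ↥(Cfsg.SU n F q), ConjClasses.mk g = c ∧ (orderOf g).Coprime p}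
  have hrep : ∀ t : T, ∃ g : ↥(Cfsg.SU n F q),
      ConjClasses.mk g = t.1 ∧ (orderOf g).Coprime p := fun t => t.2
  choose rep hrep1 hrep2 using hrep
  have hsq : ((-1 : F) ^ n) * ((-1 : F) ^ n) = 1 := by
    rw [← mul_pow, neg_mul_neg, one_mul, one_pow]
  have hc0 : ∀ M : Matrix (Fin n) (Fin n) F, M.charpoly.coeff 0 = (-1) ^ n * M.det := by
    intro M
    have h1 := Matrix.det_eq_sign_charpoly_coeff M
    rw [Fintype.card_fin] at h1
    rw [h1, ← mul_assoc, hsq, one_mul]
  let Ψ : T → {P : F[X] // P.Monic ∧ P.natDegree = n ∧ P.coeff 0 = (-1) ^ n ∧ CPal φ P} :=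
    fun t =>
    ⟨((rep t : Matrix.SpecialLinearGroup (Fin n) F) : Matrix (Fin n) (Fin n) F).charpoly,
      Matrix.charpoly_monic _, by
      rw [Matrix.charpoly_natDegree_eq_dim, Fintype.card_fin], by
      rw [hc0, (rep t : Matrix.SpecialLinearGroup (Fin n) F).2, mul_one], by
      apply cpal_charpoly
      rw [isU_iff_preserves]
      intro u v
      rw [← hermForm_eq_hdot φ hφ, ← hermForm_eq_hdot φ hφ]
      exact (rep t).2 u v⟩
  apply Nat.card_eq_of_bijective Ψ
  constructor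
  · intro t t' htt
    have h1 : ((rep t : Matrix.SpecialLinearGroup (Fin n) F) : Matrix (Fin n) (Fin n) F).charpoly =
        ((rep t' : Matrix.SpecialLinearGroup (Fin n) F) : Matrix (Fin n) (Fin n) F).charpoly :=
      congrArg Subtype.val htt
    have h2 : IsConj (rep t) (rep t') :=
      Cfsg.Agent.S2390.result hF p n (rep t) (rep t') (hrep2 t) (hrep2 t') h1
    apply Subtype.ext
    rw [← hrep1 t, ← hrep1 t']
    exact ConjClasses.mk_eq_mk_iff_isConj.2 h2
  · rintro ⟨P, hP1, hP2, hP3, hP4⟩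
    obtain ⟨g, hg1, hg2, M, hM1, hMp, hgM⟩ := exists_unitary_of_cpal hF p φ hφ n P hP1 hP2 hP4
    have hdet : g.det = 1 := by
      have h1 := hc0 g
      rw [hg2, hP3] at h1
      have h2 : (-1 : F) ^ n * ((-1) ^ n * g.det) = (-1) ^ n * (-1) ^ n := by rw [← h1]
      rw [← mul_assoc, hsq, one_mul] at h2
      exact h2
    set g' : Matrix.SpecialLinearGroup (Fin n) F := ⟨g, hdet⟩ with hg'
    have hmem : g' ∈ Cfsg.SU n F q := fun u v => hg1 u v
    set g'' : ↥(Cfsg.SU n F q) := ⟨g', hmem⟩ with hg''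
    have hpow : g'' ^ M = 1 := by
      apply Subtype.ext
      rw [SubmonoidClass.coe_pow]
      apply Subtype.ext
      rw [Matrix.SpecialLinearGroup.coe_pow]
      exact hgM
    have hord : (orderOf g'').Coprime p :=
      Nat.Coprime.coprime_dvd_left (orderOf_dvd_of_pow_eq_one hpow) hMp
    refine ⟨⟨ConjClasses.mk g'', g'', rfl, hord⟩, ?_⟩
    apply Subtype.ext
    show ((rep ⟨ConjClasses.mk g'', g'', rfl, hord⟩ : Matrix.SpecialLinearGroup (Fin n) F) :
      Matrix (Fin n) (Fin n) F).charpoly = P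
    have h3 : ((g'' : Matrix.SpecialLinearGroup (Fin n) F) : Matrix (Fin n) (Fin n) F) = g := rfl
    have h4 := charpoly_eq_of_isConj
      (ConjClasses.mk_eq_mk_iff_isConj.1 (hrep1 ⟨ConjClasses.mk g'', g'', rfl, hord⟩))
    rw [h3, hg2] at h4
    exact h4

end Cfsg.Agent.S2386
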