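import Mathlib
import Cfsg.Statements.S2387
import Cfsg.Agent.Lib.Helper13.SemisimpleCharpolyGL
import Cfsg.Agent.Lib.Helper13.MonicCount

set_option autoImplicit false
open scoped MatrixGroups
open Cfsg

namespace Cfsg.Agent.S2387

open Cfsg.Agent.Helper13.SS Polynomial

section aux
variable {F : Type*} [Field F] {n : ℕ}

theorem charpoly_eq_of_isConj {g h : GL (Fin n) F} (hgh : IsConj g h) :
    (g : Matrix (Fin n) (Fin n) F).charpoly = (h : Matrix (Fin n) (Fin n) F).charpoly := by
  obtain ⟨y, rfl⟩ := isConj_iff.1 hgh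
  have := Matrix.charpoly_units_conj y (g : Matrix (Fin n) (Fin n) F)
  rw [← this]
  congr 1
  rw [Units.val_mul, Units.val_mul, Matrix.coe_units_inv]

theorem charpoly_coeff_zero_ne (g : GL (Fin n) F) :
    (g : Matrix (Fin n) (Fin n) F).charpoly.coeff 0 ≠ 0 := by
  intro h
  have h1 := Matrix.det_eq_sign_charpoly_coeff (g : Matrix (Fin n) (Fin n) F)
  rw [h, mul_zero] at h1
  have h2 : IsUnit (g : Matrix (Fin n) (Fin n) F).det :=
    (Matrix.isUnit_iff_isUnit_det _).1 g.isUnit
  rw [h1] at h2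
  exact not_isUnit_zero h2

end aux

/-- In `GL_n(q)` with `n ≥ 1`, `q` a power of the prime `p`, the number of conjugacy classes of elements of order prime to `p` (diagonalisable over the algebraic closure; determined by the characteristic polynomial) is `(q - 1) q^(n-1)`. -/
theorem result {F : Type*} [Field F] [Fintype F] {q : ℕ} (hq : Fintype.card F = q) (p : ℕ) [Fact p.Prime] [CharP F p] (n : ℕ) (hn : 1 ≤ n) :
    Nat.card {c : ConjClasses (GL (Fin n) F) // ∃ g : GL (Fin n) F, ConjClasses.mk g = c ∧ (orderOf g).Coprime p} = (q - 1) * q ^ (n - 1) := by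
  classical
  subst hq
  rw [← card_monic_ne_zero n hn]
  set T := {c : ConjClasses (GL (Fin n) F) // ∃ g : GL (Fin n) F, ConjClasses.mk g = c ∧ (orderOf g).Coprime p}
  have hrep : ∀ t : T, ∃ g : GL (Fin n) F, ConjClasses.mk g = t.1 ∧ (orderOf g).Coprime p := fun t => t.2
  choose rep hrep1 hrep2 using hrep
  let Ψ : T → {P : F[X] // P.Monic ∧ P.natDegree = n ∧ P.coeff 0 ≠ 0} := fun t =>
    ⟨(rep t : Matrix (Fin n) (Fin n) F).charpoly, Matrix.charpoly_monic _, by
      rw [Matrix.charpoly_natDegree_eq_dim, Fintype.card_fin], charpoly_coeff_zero_ne _⟩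
  apply Nat.card_eq_of_bijective Ψ
  constructor
  · intro t t' htt
    have h1 : (rep t : Matrix (Fin n) (Fin n) F).charpoly =
        (rep t' : Matrix (Fin n) (Fin n) F).charpoly := congrArg Subtype.val htt
    have h2 : IsConj (rep t) (rep t') :=
      isConj_of_charpoly_eq (p := p) (rep t) (rep t') (hrep2 t) (hrep2 t') h1
    apply Subtype.ext
    rw [← hrep1 t, ← hrep1 t']
    exact ConjClasses.mk_eq_mk_iff_isConj.2 h2
  · rintro ⟨P, hP1, hP2, hP3⟩
    obtain ⟨g, hg1, hg2⟩ := exists_gl_of_charpoly (p := p) P hP1 hP2 hP3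
    refine ⟨⟨ConjClasses.mk g, g, rfl, hg2⟩, ?_⟩
    apply Subtype.ext
    show (rep ⟨ConjClasses.mk g, g, rfl, hg2⟩ : Matrix (Fin n) (Fin n) F).charpoly = P
    rw [← hg1]
    apply charpoly_eq_of_isConj
    exact ConjClasses.mk_eq_mk_iff_isConj.1 (hrep1 ⟨ConjClasses.mk g, g, rfl, hg2⟩)

end Cfsg.Agent.S2387
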