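import Mathlib
import Cfsg.Statements.S2391

set_option autoImplicit false
open Cfsg

namespace Cfsg.Agent.S2391

section aux

variable {F : Type*} [Field F] {n : ℕ}

/-- the linear map of a special linear matrix -/
noncomputable abbrev T (u : Matrix.SpecialLinearGroup (Fin n) F) : (Fin n → F) →ₗ[F] (Fin n → F) :=
  Matrix.mulVecLin (u : Matrix (Fin n) (Fin n) F)

theorem T_apply (u : Matrix.SpecialLinearGroup (Fin n) F) (v : Fin n → F) :
    T u v = (u : Matrix (Fin n) (Fin n) F).mulVec v := rfl

theorem T_mul (u w : Matrix.SpecialLinearGroup (Fin n) F) (v : Fin n → F) :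
    T (u * w) v = T u (T w v) := by
  simp only [T_apply, Matrix.SpecialLinearGroup.coe_mul, Matrix.mulVec_mulVec]

theorem T_one (v : Fin n → F) : T (1 : Matrix.SpecialLinearGroup (Fin n) F) v = v := by
  simp only [T_apply, Matrix.SpecialLinearGroup.coe_one, Matrix.one_mulVec]

/-- the upper fixed-point series of `U` acting on `F^n` -/
noncomputable def W (U : Subgroup (Matrix.SpecialLinearGroup (Fin n) F)) :
    ℕ → Submodule F (Fin n → F)
  | 0 => ⊥
  | j + 1 => ⨅ u : U, (W U j).comap (T (u : Matrix.SpecialLinearGroup (Fin n) F) - LinearMap.id)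

variable (U : Subgroup (Matrix.SpecialLinearGroup (Fin n) F))

theorem mem_W_succ (j : ℕ) (v : Fin n → F) :
    v ∈ W U (j + 1) ↔ ∀ u ∈ U, T u v - v ∈ W U j := by
  simp only [W, Submodule.mem_iInf, Submodule.mem_comap, LinearMap.sub_apply, LinearMap.id_apply,
    Subtype.forall]

theorem W_invariant (j : ℕ) : ∀ u ∈ U, ∀ v ∈ W U j, T u v ∈ W U j := by
  induction j with
  | zero =>
    intro u _ v hv
    have : v = 0 := by simpa [W] using hv
    subst this
    simp [W]
  | succ j ih =>
    intro u hu v hv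
    rw [mem_W_succ] at hv ⊢
    intro u' hu'
    have h1 := hv (u' * u) (U.mul_mem hu' hu)
    have h2 := hv u hu
    have : T u' (T u v) - T u v = (T (u' * u) v - v) - (T u v - v) := by
      rw [T_mul]; abel
    rw [this]
    exact (W U j).sub_mem h1 h2

theorem W_le_succ (j : ℕ) : W U j ≤ W U (j + 1) := by
  intro v hv
  rw [mem_W_succ]
  intro u hu
  exact (W U j).sub_mem (W_invariant U j u hu v hv) hv

theorem W_mono : Monotone (W U) := monotone_nat_of_le_succ (W_le_succ U)

theorem W_normalizer_le (j : ℕ) :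
    ∀ g ∈ Subgroup.normalizer (U : Set (Matrix.SpecialLinearGroup (Fin n) F)),
      ∀ v ∈ W U j, T g v ∈ W U j := by
  induction j with
  | zero =>
    intro g _ v hv
    have : v = 0 := by simpa [W] using hv
    subst this
    simp [W]
  | succ j ih =>
    intro g hg v hv
    rw [mem_W_succ] at hv ⊢
    intro u hu
    have hg' : g⁻¹ ∈ Subgroup.normalizer (U : Set (Matrix.SpecialLinearGroup (Fin n) F)) :=
      Subgroup.inv_mem _ hg
    have hconj : g⁻¹ * u * g ∈ U := by
      have := (Subgroup.mem_normalizer_iff.1 hg' u).1 hu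
      simpa using this
    have h1 := hv _ hconj
    have h2 := ih g hg _ h1
    have : T u (T g v) - T g v = T g (T (g⁻¹ * u * g) v - v) := by
      rw [map_sub, ← T_mul, ← T_mul]
      congr 2
      group
    rw [this]
    exact h2

theorem W_normalizer_map (j : ℕ)
    (g : Matrix.SpecialLinearGroup (Fin n) F)
    (hg : g ∈ Subgroup.normalizer (U : Set (Matrix.SpecialLinearGroup (Fin n) F))) :
    (W U j).map (T g) = W U j := by
  apply le_antisymm
  · rintro _ ⟨v, hv, rfl⟩
    exact W_normalizer_le U j g hg v hv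
  · intro v hv
    refine ⟨T g⁻¹ v, W_normalizer_le U j g⁻¹ (Subgroup.inv_mem _ hg) v hv, ?_⟩
    rw [← T_mul, mul_inv_cancel, T_one]

theorem U_eq_bot_of_W_one (h : W U 1 = ⊤) : U = ⊥ := by
  rw [Subgroup.eq_bot_iff_forall]
  intro u hu
  apply Subtype.ext
  apply Matrix.mulVec_injective
  funext v
  have hv : v ∈ W U 1 := by rw [h]; trivial
  rw [mem_W_succ] at hv
  have := hv u hu
  have h0 : T u v - v = 0 := by simpa [W] using this
  rw [Matrix.SpecialLinearGroup.coe_one, Matrix.one_mulVec]
  exact sub_eq_zero.1 h0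

end aux

section quot

variable {F : Type*} [Field F] [Fintype F] {n : ℕ}
  (U : Subgroup (Matrix.SpecialLinearGroup (Fin n) F))

/-- the action of `U` on the quotient by an invariant subspace -/
noncomputable def quotAction (Wj : Submodule F (Fin n → F))
    (hW : ∀ u ∈ U, ∀ v ∈ Wj, T u v ∈ Wj) : MulAction U ((Fin n → F) ⧸ Wj) where
  smul u x := Wj.mapQ Wj (T (u : Matrix.SpecialLinearGroup (Fin n) F)) (fun v hv => hW u u.2 v hv) x
  one_smul x := by
    induction x using Submodule.Quotient.induction_on with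
    | _ v =>
      change Wj.mapQ Wj (T ((1 : U) : Matrix.SpecialLinearGroup (Fin n) F)) _ _ = _
      rw [Submodule.mapQ_apply]
      simp only [Subgroup.coe_one, T_one]
  mul_smul u w x := by
    induction x using Submodule.Quotient.induction_on with
    | _ v =>
      change Wj.mapQ Wj (T ((u * w : U) : Matrix.SpecialLinearGroup (Fin n) F)) _ _ =
        Wj.mapQ Wj (T (u : Matrix.SpecialLinearGroup (Fin n) F)) _
          (Wj.mapQ Wj (T (w : Matrix.SpecialLinearGroup (Fin n) F)) _ _)
      rw [Submodule.mapQ_apply, Submodule.mapQ_apply, Submodule.mapQ_apply]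
      simp only [Subgroup.coe_mul, T_mul]

theorem W_lt_succ (p : ℕ) [Fact p.Prime] [CharP F p] (hU : IsPGroup p ↥U) (j : ℕ)
    (hj : W U j ≠ ⊤) : W U j < W U (j + 1) := by
  classical
  refine lt_of_le_of_ne (W_le_succ U j) ?_
  intro heq
  letI : MulAction U ((Fin n → F) ⧸ W U j) := quotAction U (W U j) (W_invariant U j)
  have hsmul : ∀ (u : U) (v : Fin n → F),
      u • (Submodule.Quotient.mk v : (Fin n → F) ⧸ W U j) =
        Submodule.Quotient.mk (T (u : Matrix.SpecialLinearGroup (Fin n) F) v) := by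
    intro u v
    change (W U j).mapQ (W U j) (T (u : Matrix.SpecialLinearGroup (Fin n) F)) _ _ = _
    rw [Submodule.mapQ_apply]
  have hnt : Nontrivial ((Fin n → F) ⧸ W U j) := Submodule.Quotient.nontrivial_iff.2 hj
  have hcard : p ∣ Nat.card ((Fin n → F) ⧸ W U j) := by
    have h1 : Nat.card ((Fin n → F) ⧸ W U j) =
        Nat.card F ^ Module.finrank F ((Fin n → F) ⧸ W U j) := Module.natCard_eq_pow_finrank
    have h2 : 0 < Module.finrank F ((Fin n → F) ⧸ W U j) := Module.finrank_pos
    obtain ⟨k, hp, hk⟩ := FiniteField.card F p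
    rw [h1, Nat.card_eq_fintype_card, hk]
    refine dvd_trans ?_ (pow_dvd_pow _ h2)
    rw [pow_one]
    exact dvd_pow_self p k.pos.ne'
  have h0 : (0 : (Fin n → F) ⧸ W U j) ∈ MulAction.fixedPoints U ((Fin n → F) ⧸ W U j) := by
    intro u
    have := hsmul u 0
    simpa using this
  obtain ⟨b, hb, hb0⟩ := hU.exists_fixed_point_of_prime_dvd_card_of_fixed_point _ hcard h0
  induction b using Submodule.Quotient.induction_on with
  | _ v =>
    have hv : v ∈ W U (j + 1) := by
      rw [mem_W_succ]
      intro u hu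
      have := hb ⟨u, hu⟩
      rw [hsmul] at this
      exact (Submodule.Quotient.eq _).1 this
    rw [← heq] at hv
    apply hb0
    exact ((Submodule.Quotient.mk_eq_zero _).2 hv).symm

end quot

/-- The Borel–Tits property of `SL_n(q)` in flag form: for a field `F` of characteristic `p` with finitely many elements and a non-trivial `p`-subgroup `U` of `SL_n(F)`, there is a flag `0 = V₀ < V₁ < ⋯ < V_{k+1} = F^n` with at least one proper non-zero member such that every element of the normaliser of `U` maps each `V_i` onto itself and every element of `U` acts trivially on each quotient `V_{i+1}/V_i` (so the normaliser lies in the parabolic subgroup of the flag and `U` in its unipotent radical). -/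
theorem result {F : Type*} [Field F] [Fintype F] (p : ℕ) [Fact p.Prime] [CharP F p] (n : ℕ)
    (U : Subgroup (Matrix.SpecialLinearGroup (Fin n) F)) (hU : IsPGroup p ↥U) (hne : U ≠ ⊥) :
    ∃ (k : ℕ) (V : Fin (k + 2) → Submodule F (Fin n → F)), 1 ≤ k ∧ StrictMono V ∧ V 0 = ⊥ ∧ V (Fin.last (k + 1)) = ⊤ ∧
      (∀ g ∈ Subgroup.normalizer (U : Set (Matrix.SpecialLinearGroup (Fin n) F)), ∀ i, (V i).map (Matrix.mulVecLin (g : Matrix (Fin n) (Fin n) F)) = V i) ∧
      (∀ u ∈ U, ∀ i : Fin (k + 1), ∀ v ∈ V i.succ, (u : Matrix (Fin n) (Fin n) F).mulVec v - v ∈ V (Fin.castSucc i)) := by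
  classical
  have hex : ∃ K, W U K = ⊤ := by
    obtain ⟨m, hm⟩ := WellFoundedGT.monotone_chain_condition ⟨W U, W_mono U⟩
    refine ⟨m, ?_⟩
    by_contra hcon
    have := W_lt_succ U p hU m hcon
    have h2 := hm (m + 1) (Nat.le_succ m)
    simp only [OrderHom.coe_mk] at h2
    exact this.ne h2
  have hK := Nat.find_spec hex
  have hmin : ∀ j, j < Nat.find hex → W U j ≠ ⊤ := fun j hj => Nat.find_min hex hj
  have h1 : W U 1 ≠ ⊤ := fun h => hne (U_eq_bot_of_W_one U h)
  have h0 : W U 0 ≠ ⊤ := by
    intro h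
    apply h1
    exact top_le_iff.1 (h ▸ W_le_succ U 0)
  have hK2 : 2 ≤ Nat.find hex := by
    by_contra hlt
    push_neg at hlt
    interval_cases hKv : Nat.find hex
    · exact h0 hK
    · exact h1 hK
  obtain ⟨k, hk⟩ : ∃ k, Nat.find hex = k + 1 := ⟨Nat.find hex - 1, by omega⟩
  refine ⟨k, fun i => W U i.val, by omega, ?_, rfl, ?_, ?_, ?_⟩
  · rw [Fin.strictMono_iff_lt_succ]
    intro i
    simp only [Fin.val_castSucc, Fin.val_succ]
    exact W_lt_succ U p hU i.val (hmin _ (by rw [hk]; exact i.2))
  · simp only [Fin.val_last]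
    rw [← hk]; exact hK
  · intro g hg i
    exact W_normalizer_map U i.val g hg
  · intro u hu i v hv
    simp only [Fin.val_succ] at hv
    simp only [Fin.val_castSucc]
    exact (mem_W_succ U i.val v).1 hv u hu

end Cfsg.Agent.S2391
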