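import Mathlib
import Cfsg.Statements.S2392
import Cfsg.Agent.Lib.Helper12.SLMinDeg

set_option autoImplicit false
open Cfsg

namespace Cfsg.Agent.S2392

/-- Base change of a matrix representation to an extension field, as endomorphisms. -/
noncomputable def repEnd {G : Type*} [Group G] {K L : Type*} [Field K] [Field L] [Algebra K L] {d : ℕ}
    (ρ : G →* GL (Fin d) K) : G →* Module.End L (Fin d → L) where
  toFun g := Matrix.toLin' (((ρ g : GL (Fin d) K) : Matrix (Fin d) (Fin d) K).map (algebraMap K L))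
  map_one' := by
    rw [map_one, Units.val_one, Matrix.map_one _ (map_zero _) (map_one _), Matrix.toLin'_one]
    rfl
  map_mul' a b := by
    rw [map_mul, Units.val_mul, Matrix.map_mul, Matrix.toLin'_mul]
    rfl

theorem repEnd_ker {G : Type*} [Group G] {K L : Type*} [Field K] [Field L] [Algebra K L] {d : ℕ}
    (ρ : G →* GL (Fin d) K) : (repEnd (L := L) ρ).ker ≤ ρ.ker := by
  intro g hg
  rw [MonoidHom.mem_ker] at hg ⊢
  have h1 : Matrix.toLin' (((ρ g : GL (Fin d) K) : Matrix (Fin d) (Fin d) K).map (algebraMap K L)) =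
      Matrix.toLin' (1 : Matrix (Fin d) (Fin d) L) := by
    rw [Matrix.toLin'_one]
    exact hg
  have h2 := Matrix.toLin'.injective h1
  have h3 : ((ρ g : GL (Fin d) K) : Matrix (Fin d) (Fin d) K).map (algebraMap K L) =
      (1 : Matrix (Fin d) (Fin d) K).map (algebraMap K L) := by
    rw [h2, Matrix.map_one _ (map_zero _) (map_one _)]
  have h4 := Matrix.map_injective (algebraMap K L).injective h3
  exact Units.ext h4

theorem result {F : Type*} [Field F] [Fintype F] {q : ℕ} (hq : Fintype.card F = q) (n : ℕ) (hn : 3 ≤ n)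
    {K : Type*} [Field K] (hK : ringChar K ≠ ringChar F) {d : ℕ}
    (ρ : Matrix.SpecialLinearGroup (Fin n) F →* GL (Fin d) K) (hker : ρ.ker ≤ Subgroup.center (Matrix.SpecialLinearGroup (Fin n) F)) :
    q ^ (n - 1) - 1 ≤ d := by
  classical
  obtain ⟨p, hp⟩ : ∃ p, p = ringChar F := ⟨_, rfl⟩
  haveI : CharP F p := by rw [hp]; exact ringChar.charP F
  have hpprime : p.Prime := CharP.char_is_prime F p
  obtain ⟨k, -, hk⟩ := FiniteField.card F p
  have hpK : (p : K) ≠ 0 := by
    intro h0
    have h1 : ringChar K ∣ p := ringChar.dvd h0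
    rcases (Nat.dvd_prime hpprime).mp h1 with h | h
    · exact CharP.ringChar_ne_one h
    · exact hK (h.trans hp)
  obtain ⟨L, hL⟩ : ∃ L, L = AlgebraicClosure K := ⟨_, rfl⟩
  subst hL
  have hpL : (p : AlgebraicClosure K) ≠ 0 := by
    intro h0
    apply hpK
    apply (algebraMap K (AlgebraicClosure K)).injective
    rw [map_natCast, h0, map_zero]
  have hqL : (Fintype.card F : AlgebraicClosure K) ≠ 0 := by
    rw [hk]
    push_cast
    exact pow_ne_zero _ hpL
  have hexp : Monoid.exponent (Multiplicative F) ∣ Fintype.card F := by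
    have := Group.exponent_dvd_nat_card (G := Multiplicative F)
    rwa [Nat.card_eq_fintype_card, Fintype.card_multiplicative] at this
  have : NeZero ((Monoid.exponent (Multiplicative F) : ℕ) : AlgebraicClosure K) := by
    constructor
    intro h0
    obtain ⟨m, hm⟩ := hexp
    apply hqL
    rw [hm]
    push_cast
    rw [h0, zero_mul]
  have : HasEnoughRootsOfUnity (AlgebraicClosure K) (Monoid.exponent (Multiplicative F)) :=
    IsSepClosed.hasEnoughRootsOfUnity _ _
  have h1ne : (Multiplicative.ofAdd (1 : F)) ≠ 1 := by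
    intro h
    have : (1 : F) = 0 := h
    exact one_ne_zero this
  obtain ⟨φ, hφ⟩ := CommGroup.exists_apply_ne_one_of_hasEnoughRootsOfUnity (Multiplicative F)
    (AlgebraicClosure K) h1ne
  obtain ⟨ψ, hψ⟩ : ∃ ψ : AddChar F (AlgebraicClosure K), ψ 1 ≠ 1 := by
    refine ⟨AddChar.toMonoidHomEquiv.symm ((Units.coeHom (AlgebraicClosure K)).comp φ), ?_⟩
    intro h
    apply hφ
    apply Units.ext
    exact h
  have hcore := Cfsg.Agent.Helper12.sl_min_degree_core (F := F) (ι := Fin n)
    (L := AlgebraicClosure K) (V := Fin d → AlgebraicClosure K)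
    (by rw [Fintype.card_fin]; omega) (repEnd ρ) (le_trans (repEnd_ker ρ) hker) ψ ⟨1, hψ⟩ hqL
  rw [Fintype.card_fin, Module.finrank_fin_fun, hq] at hcore
  exact hcore

end Cfsg.Agent.S2392
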