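import Mathlib
import Cfsg.Statements.S2393
import Cfsg.Agent.Lib.Helper12.SpMinDeg
import Cfsg.Agent.Lib.Helper12.CrossChar

set_option autoImplicit false
open scoped MatrixGroups
open Cfsg

namespace Cfsg.Agent.S2393

/-- A lower bound for representations in cross characteristic: for `n ≥ 2` and a field `F` with `q` elements, `q` odd, every homomorphism from the symplectic group `Sp_{2n}(F)` to `GL_d(K)`, `K` a field of characteristic different from that of `F`, whose kernel is central has `d ≥ q^(n-1)(q-1)/2`. -/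
theorem result {F : Type*} [Field F] [Fintype F] {q : ℕ} (hq : Fintype.card F = q) (hodd : Odd q) (n : ℕ) (hn : 2 ≤ n)
    {K : Type*} [Field K] (hK : ringChar K ≠ ringChar F) {d : ℕ}
    (ρ : ↥(Matrix.symplecticGroup (Fin n) F) →* GL (Fin d) K) (hker : ρ.ker ≤ Subgroup.center ↥(Matrix.symplecticGroup (Fin n) F)) :
    q ^ (n - 1) * (q - 1) / 2 ≤ d := by
  classical
  obtain ⟨⟨ψ, hψ⟩, hqL⟩ := Cfsg.Agent.Helper12.CrossChar.exists_addChar (F := F) hK
  have h2 : (2 : F) ≠ 0 := by
    apply Ring.two_ne_zero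
    intro h
    have := FiniteField.even_card_of_char_two h
    rw [hq] at this
    exact (Nat.not_even_iff_odd.mpr hodd) (Nat.even_iff.mpr this)
  have hcore := Cfsg.Agent.Helper12.SpMin.sp_min_degree_core (F := F) (l := Fin n)
    (L := AlgebraicClosure K) (V := Fin d → AlgebraicClosure K) h2 (⟨0, by omega⟩ : Fin n)
    (Cfsg.Agent.Helper12.CrossChar.repEnd' ρ)
    (le_trans (Cfsg.Agent.Helper12.CrossChar.repEnd'_ker ρ) hker) ψ ⟨1, hψ⟩ hqL
  rw [Fintype.card_fin, Module.finrank_fin_fun, hq] at hcore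
  exact Nat.div_le_of_le_mul hcore

end Cfsg.Agent.S2393
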