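import Mathlib
import Cfsg.Statements.S2394
import Cfsg.Agent.Lib.Helper2.SympCard
import Cfsg.Agent.Lib.Helper15.Zsigmondy

set_option autoImplicit false
open Cfsg

namespace Cfsg.Agent.S2394

theorem pow_sub_pow_eq (q d i : ℕ) (hi : i < d) : q ^ d - q ^ i = q ^ i * (q ^ (d - i) - 1) := by
  rw [Nat.mul_sub, mul_one, ← pow_add]
  congr 2
  omega

theorem result {F : Type*} [Field F] [Fintype F] (n : ℕ) {d : ℕ}
    (ρ : ↥(Matrix.symplecticGroup (Fin n) F) →* GL (Fin d) F) (hρ : Function.Injective ρ) : 2 * n ≤ d := by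
  classical
  by_contra hlt
  push_neg at hlt
  obtain ⟨q, hqdef⟩ : ∃ q, q = Fintype.card F := ⟨_, rfl⟩
  have hq : 1 < q := by rw [hqdef]; exact Fintype.one_lt_card
  have hdvd : Nat.card (Matrix.symplecticGroup (Fin n) F) ∣ Nat.card (GL (Fin d) F) :=
    Subgroup.card_dvd_of_injective ρ hρ
  rw [Cfsg.Agent.Helper2.Symp.card_symplecticGroup, Matrix.card_GL_field, ← hqdef] at hdvd
  have hn : 1 ≤ n := by omega
  have hfac : q ^ (2 * n) - 1 ∣ ∏ i : Fin d, (q ^ d - q ^ (i : ℕ)) := by
    refine dvd_trans ?_ hdvd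
    apply dvd_mul_of_dvd_right
    have hmem : n - 1 ∈ Finset.range n := Finset.mem_range.mpr (by omega)
    have h2 := Finset.dvd_prod_of_mem (fun i => q ^ (2 * (i + 1)) - 1) hmem
    have h3 : n - 1 + 1 = n := by omega
    simp only [h3] at h2
    exact h2
  have hq2 : 4 ≤ q ^ 2 := by nlinarith
  by_cases hn1 : n = 1
  · subst hn1
    rw [show 2 * 1 = 2 from rfl] at hfac
    have hd : d = 0 ∨ d = 1 := by omega
    rcases hd with rfl | rfl
    · simp only [Finset.univ_eq_empty, Finset.prod_empty] at hfac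
      have := Nat.le_of_dvd (by omega) hfac
      omega
    · simp only [Finset.univ_unique, Fin.default_eq_zero, Fin.val_zero, pow_zero,
        Finset.prod_singleton, pow_one] at hfac
      have := Nat.le_of_dvd (by omega) hfac
      have h4 : q < q ^ 2 := by nlinarith
      omega
  by_cases h6 : q = 2 ∧ 2 * n = 6
  · obtain ⟨rfl, h6⟩ := h6
    have hn3 : n = 3 := by omega
    subst hn3
    have hd : d ≤ 5 := by omega
    interval_cases d <;>
      simp [Finset.prod_range_succ, Fin.prod_univ_succ] at hdvd <;> omega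
  · obtain ⟨r, hr, hrdvd, hrprim⟩ := Cfsg.Agent.Helper15.Zsig.zsigmondy q (2 * n) hq (by omega) h6
      (by rintro ⟨h, -⟩; omega)
    have hrprod := dvd_trans hrdvd hfac
    rw [Prime.dvd_finsetProd_iff hr.prime] at hrprod
    obtain ⟨i, -, hi⟩ := hrprod
    rw [pow_sub_pow_eq q d i i.2] at hi
    have hrq : ¬ r ∣ q := by
      intro h
      have h1 : r ∣ q ^ (2 * n) := dvd_pow h (by omega)
      have h2 : 1 ≤ q ^ (2 * n) := Nat.one_le_pow _ _ (by omega)
      have h3 : r ∣ 1 := by
        have := (Nat.dvd_sub h1 hrdvd)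
        rwa [Nat.sub_sub_self h2] at this
      exact hr.one_lt.ne' (Nat.dvd_one.mp h3)
    rcases (Nat.Prime.dvd_mul hr).mp hi with h | h
    · exact hrq (hr.dvd_of_dvd_pow h)
    · exact hrprim (d - i) (by have := i.2; omega) (by omega) h

end Cfsg.Agent.S2394
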