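import Cfsg.Statements.S2398
import Cfsg.Agent.Lib.Helper6.CExtUniv
import Cfsg.Agent.Lib.Helper6.CExtG2
import Cfsg.Agent.Lib.Helper6.CExtB2
import Cfsg.Agent.Lib.Helper6.CExtD4
import Cfsg.Agent.Lib.Helper6.CExtF4
import Cfsg.Agent.Lib.Helper6.CExtSteinChev
import Cfsg.Agent.Lib.Helper6.CExtE6
import Cfsg.Agent.Lib.Helper6.CExtE7
import Cfsg.Agent.Lib.Helper6.CExtE8
import Cfsg.Agent.S2395
open Cfsg.Lie Cfsg.Agent.Lead.Chev Cfsg.Agent.Helper6.StC Cfsg.Agent.Helper6.CExt
-- import your own Cfsg.Agent.* helpers here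

set_option autoImplicit false
open Cfsg

namespace Cfsg.Agent.S2398

/-- Universality of the group Δ presented by Steinberg's generators with relators (R1), (R2), over a field with more than four elements (types G₂, B₂, D₄, F₄, E₆, E₇, E₈): for every central extension `π₁ : E → G₁` (surjective, central kernel) and every homomorphism `σ : Δ → G₁` there is exactly one homomorphism `τ : Δ → E` with `π₁ ∘ τ = σ`. In particular every central extension of Δ splits; together with the fact that Δ maps onto the Chevalley group with central kernel, this makes Δ the universal central extension of the Chevalley group. -/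
theorem result {K : Type*} [Field K] (hK5 : ∃ s : Finset K, 4 < s.card) (D : Cfsg.Lie.ChevalleyDatum) (hD : D ∈ [Cfsg.Lie.chevG2, Cfsg.Lie.chevB2, Cfsg.Lie.chevD4, Cfsg.Lie.chevF4, Cfsg.Lie.chevE6, Cfsg.Lie.chevE7, Cfsg.Lie.chevE8])
    {G₁ E : Type*} [Group G₁] [Group E] (π₁ : E →* G₁) (hπ : Function.Surjective π₁) (hc : π₁.ker ≤ Subgroup.center E)
    (σ : D.SteinbergCover K →* G₁) : ∃! τ : D.SteinbergCover K →* E, π₁.comp τ = σ := by
  classical
  have hK2 : ∃ x : K, x ≠ 0 ∧ x ≠ 1 := by
    obtain ⟨v, h0, h1, _⟩ := exists_avoid3 hK5 (0 : K) 1 0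
    exact ⟨v, h0, h1⟩
  have hlift := lift_relAB (chevFacts_of_mem (F := K) D hD)
  have hθgen : ∀ (r : ℕ) (t : K), r < D.nroots →
      thetaG hD (D.steinbergRelsAB K) hlift (D.scGen K r t) = XG hD r t := by
    intro r t hr
    apply Subtype.ext
    rw [thetaG_val]
    exact thetaGL_mk hD (D.steinbergRelsAB K) hlift r t
  have hof : ∀ (r : Fin D.nroots) (t : K),
      PresentedGroup.of (rels := D.steinbergRelsAB K) (r, t) = D.scGen K r.val t := by
    intro r t
    unfold ChevalleyDatum.scGen ChevalleyDatum.stX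
    rw [dif_pos r.2]
    rfl
  have hperf : commutator (D.SteinbergCover K) = ⊤ := Cfsg.Agent.S2395.result D hD (fun _ => hK2)
  apply exists_unique_lift (thetaG hD (D.steinbergRelsAB K) hlift)
    (thetaG_surjective hD (D.steinbergRelsAB K) hlift)
    (thetaG_ker_le hD (D.steinbergRelsAB K) (le_refl _) hlift) hperf ?_ π₁ hπ hc σ
  intro Q _ ψ hs hc'
  have hex : ∃ τ : D.SteinbergCover K →* Q, ∀ (r : ℕ) (t : K), r < D.nroots →
      ψ (τ (D.scGen K r t)) = XG hD r t := by
    have hD' := hD
    simp only [List.mem_cons, List.not_mem_nil, or_false] at hD'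
    rcases hD' with rfl | rfl | rfl | rfl | rfl | rfl | rfl
    · exact exists_cover_hom hD torusTab_G2 hK5 ψ hs hc'
    · exact exists_cover_hom_tor2 hD torusTab2_B2 hK5 ψ hs hc'
    · exact exists_cover_hom_tor2 hD torusTab2_D4 hK5 ψ hs hc'
    · exact exists_cover_hom_hyb hD hybTab_F4 hK2 ψ hs hc'
    · exact exists_cover_hom_stein hD steinTab_E6 ψ hs hc'
    · exact exists_cover_hom_stein hD steinTab_E7 ψ hs hc'
    · exact exists_cover_hom_stein hD steinTab_E8 ψ hs hc'
  obtain ⟨τ, hτ⟩ := hex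
  refine ⟨τ, ?_⟩
  apply PresentedGroup.ext
  rintro ⟨r, t⟩
  rw [hof, MonoidHom.comp_apply, hτ r.val t r.2, hθgen r.val t r.2]

end Cfsg.Agent.S2398
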