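import Cfsg.Statements.S2399
import Cfsg.Agent.Lib.Helper6.CExtUniv
import Cfsg.Agent.Lib.Helper6.CExtG2
import Cfsg.Agent.Lib.Helper6.CExtB2
import Cfsg.Agent.Lib.Helper6.CExtD4
import Cfsg.Agent.Lib.Helper6.CExtF4
import Cfsg.Agent.Lib.Helper6.CExtSteinChev
import Cfsg.Agent.Lib.Helper6.CExtE6
import Cfsg.Agent.Lib.Helper6.CExtE7
import Cfsg.Agent.Lib.Helper6.CExtE8
import Cfsg.Agent.Lib.Helper6.CExtPtor
import Cfsg.Agent.Lib.Helper6.CExtProj
import Cfsg.Agent.S2395
open Cfsg.Lie Cfsg.Agent.Lead.Chev Cfsg.Agent.Helper6.StC Cfsg.Agent.Helper6.CExt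
-- import your own Cfsg.Agent.* helpers here

set_option autoImplicit false
open scoped MatrixGroups
open Cfsg

namespace Cfsg.Agent.S2399

/-- Projective representations in the natural characteristic lift: for each of the types G₂, B₂, D₄, F₄, E₆, E₇, E₈ over any field `K` (for types B₂ and G₂ the field must have more than two elements — the cases where the Chevalley group is not simple are set aside), every homomorphism from the Chevalley group to `PGL_n(L) = GL_n(L)/Z`, `L` a field of the same characteristic as `K`, lifts uniquely to a homomorphism from the group Δ presented by (R1), (R2) to `GL_n(L)`, compatibly with the projection Δ → Chevalley group sending x̄_r(t) to x_r(t). -/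
theorem result {K : Type*} [Field K] (D : Cfsg.Lie.ChevalleyDatum) (hD : D ∈ [Cfsg.Lie.chevG2, Cfsg.Lie.chevB2, Cfsg.Lie.chevD4, Cfsg.Lie.chevF4, Cfsg.Lie.chevE6, Cfsg.Lie.chevE7, Cfsg.Lie.chevE8]) (hK : D ∈ [Cfsg.Lie.chevB2, Cfsg.Lie.chevG2] → ∃ x : K, x ≠ 0 ∧ x ≠ 1)
    (θ : D.SteinbergCover K →* ↥(D.group K))
    (hθ : ∀ (r : ℕ) (t : K), r < D.nroots → ((θ (D.scGen K r t) : GL D.Idx K) : Matrix D.Idx D.Idx K) = D.x K r t)
    {L : Type*} [Field L] (hL : ringChar L = ringChar K) {n : ℕ}
    (φ : ↥(D.group K) →* GL (Fin n) L ⧸ Subgroup.center (GL (Fin n) L)) :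
    ∃! ψ : D.SteinbergCover K →* GL (Fin n) L, (QuotientGroup.mk' (Subgroup.center (GL (Fin n) L))).comp ψ = φ.comp θ := by
  classical
  have hK2 : D ∈ [chevB2, chevG2] → ∃ x : K, x ≠ 0 ∧ x ≠ 1 := hK
  have hlift := lift_relAB (chevFacts_of_mem (F := K) D hD)
  have hof : ∀ (r : Fin D.nroots) (t : K),
      PresentedGroup.of (rels := D.steinbergRelsAB K) (r, t) = D.scGen K r.val t := by
    intro r t
    unfold ChevalleyDatum.scGen ChevalleyDatum.stX
    rw [dif_pos r.2]
    rfl
  have hθgen : ∀ (r : ℕ) (t : K), r < D.nroots → θ (D.scGen K r t) = XG hD r t := by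
    intro r t hr
    apply Subtype.ext
    apply Units.ext
    rw [hθ r t hr, XG_val]
    rfl
  have hθeq : θ = thetaG hD (D.steinbergRelsAB K) hlift := by
    apply PresentedGroup.ext
    rintro ⟨r, t⟩
    rw [hof, hθgen r.val t r.2]
    apply Subtype.ext
    rw [thetaG_val]
    exact (thetaGL_mk hD (D.steinbergRelsAB K) hlift r.val t).symm
  have hθs : Function.Surjective θ := by
    rw [hθeq]
    exact thetaG_surjective hD (D.steinbergRelsAB K) hlift
  have hθc : θ.ker ≤ Subgroup.center (D.SteinbergCover K) := by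
    rw [hθeq]
    exact thetaG_ker_le hD (D.steinbergRelsAB K) (le_refl _) hlift
  have hperf : commutator (D.SteinbergCover K) = ⊤ := Cfsg.Agent.S2395.result D hD hK2
  have hqk : (QuotientGroup.mk' (Subgroup.center (GL (Fin n) L))).ker ≤
      Subgroup.center (GL (Fin n) L) := by
    rw [QuotientGroup.ker_mk']
  have hcomp : ∀ {Q : Type _} [Group Q] (ψ : Q →* D.group K) (τ : D.SteinbergCover K →* Q),
      (∀ (r : ℕ) (t : K), r < D.nroots → ψ (τ (D.scGen K r t)) = XG hD r t) → ψ.comp τ = θ := by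
    intro Q _ ψ τ hτ
    apply PresentedGroup.ext
    rintro ⟨r, t⟩
    rw [hof, MonoidHom.comp_apply, hτ r.val t r.2, hθgen r.val t r.2]
  -- existence
  have hex : ∃ ψ : D.SteinbergCover K →* GL (Fin n) L,
      (QuotientGroup.mk' (Subgroup.center (GL (Fin n) L))).comp ψ = φ.comp θ := by
    by_cases hE : D ∈ [chevE6, chevE7, chevE8] ∨ ∃ s : Finset K, 4 < s.card
    · -- the presented group is the universal central extension
      have hcov : ∀ (Q : Type _) [Group Q] (ψ : Q →* D.group K), Function.Surjective ψ →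
          ψ.ker ≤ Subgroup.center Q → ∃ τ : D.SteinbergCover K →* Q, ψ.comp τ = θ := by
        intro Q _ ψ hs hc'
        have hD' := hD
        simp only [List.mem_cons, List.not_mem_nil, or_false] at hD'
        have hK5 : D ∈ [chevG2, chevB2, chevD4, chevF4] → ∃ s : Finset K, 4 < s.card := by
          intro h
          rcases hE with hE | hE
          · exfalso
            simp only [List.mem_cons, List.not_mem_nil, or_false] at h hE
            rcases h with rfl | rfl | rfl | rfl <;> rcases hE with hE | hE | hE <;>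
              · have := congrArg ChevalleyDatum.rank hE
                revert this
                decide
          · exact hE
        rcases hD' with rfl | rfl | rfl | rfl | rfl | rfl | rfl
        · obtain ⟨τ, hτ⟩ := exists_cover_hom hD torusTab_G2 (hK5 (by simp)) ψ hs hc'
          exact ⟨τ, hcomp ψ τ hτ⟩
        · obtain ⟨τ, hτ⟩ := exists_cover_hom_tor2 hD torusTab2_B2 (hK5 (by simp)) ψ hs hc'
          exact ⟨τ, hcomp ψ τ hτ⟩
        · obtain ⟨τ, hτ⟩ := exists_cover_hom_tor2 hD torusTab2_D4 (hK5 (by simp)) ψ hs hc'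
          exact ⟨τ, hcomp ψ τ hτ⟩
        · have hK3 : ∃ x : K, x ≠ 0 ∧ x ≠ 1 := by
            obtain ⟨v, h0, h1, _⟩ := exists_avoid3 (hK5 (by simp)) (0 : K) 1 0
            exact ⟨v, h0, h1⟩
          obtain ⟨τ, hτ⟩ := exists_cover_hom_hyb hD hybTab_F4 hK3 ψ hs hc'
          exact ⟨τ, hcomp ψ τ hτ⟩
        · obtain ⟨τ, hτ⟩ := exists_cover_hom_stein hD steinTab_E6 ψ hs hc'
          exact ⟨τ, hcomp ψ τ hτ⟩
        · obtain ⟨τ, hτ⟩ := exists_cover_hom_stein hD steinTab_E7 ψ hs hc'
          exact ⟨τ, hcomp ψ τ hτ⟩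
        · obtain ⟨τ, hτ⟩ := exists_cover_hom_stein hD steinTab_E8 ψ hs hc'
          exact ⟨τ, hcomp ψ τ hτ⟩
      obtain ⟨ψ, hψ, -⟩ := exists_unique_lift θ hθs hθc hperf hcov
        (QuotientGroup.mk' (Subgroup.center (GL (Fin n) L))) (QuotientGroup.mk'_surjective _) hqk
        (φ.comp θ)
      exact ⟨ψ, hψ⟩
    · -- a small finite field: the kernel has no `p`-torsion
      rw [not_or] at hE
      obtain ⟨hE1, hE2⟩ := hE
      have hfin : Finite K := by
        by_contra hinf
        rw [not_finite_iff_infinite] at hinf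
        obtain ⟨s, hs⟩ := Infinite.exists_subset_card_eq K 5
        exact hE2 ⟨s, by omega⟩
      have hcK : CharP K (ringChar K) := ringChar.charP K
      have hp : (ringChar K).Prime := CharP.char_is_prime K (ringChar K)
      have hcL : CharP L (ringChar K) := hL ▸ ringChar.charP L
      have hpK : ((ringChar K : ℕ) : K) = 0 := CharP.cast_eq_zero K (ringChar K)
      have hpairs : ∀ r < D.nroots, ∀ s < D.nroots, s ≠ r → s ≠ D.neg r →
          ∃ w : List ℕ, (∀ i ∈ w, i < D.rank) ∧ r ∈ listW D w ∧ s ∈ listW D w ∧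
            ∀ c ∈ D.commTerms r s, c.1 ∈ listW D w := by
        have hD' := hD
        simp only [List.mem_cons, List.not_mem_nil, or_false] at hD' hE1
        rcases hD' with rfl | rfl | rfl | rfl | rfl | rfl | rfl
        · exact torusTab_G2.pairs
        · exact torusTab2_B2.pairs
        · exact torusTab2_D4.pairs
        · exact hybTab_F4.pairs
        · exact absurd (Or.inl rfl) hE1
        · exact absurd (Or.inr (Or.inl rfl)) hE1
        · exact absurd (Or.inr (Or.inr rfl)) hE1
      apply exists_lift_PGL_ptor θ hθs hperf (ringChar K) hp φ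
      intro Q _ σ hs hc' htor hdiv
      obtain ⟨τ, hτ⟩ := exists_cover_hom_ptor hD (ringChar K) hpK hpairs σ hs hc' htor hdiv
      exact ⟨τ, hcomp σ τ hτ⟩
  obtain ⟨ψ, hψ⟩ := hex
  refine ⟨ψ, hψ, ?_⟩
  intro ψ' hψ'
  exact lift_unique_of_perfect hperf (QuotientGroup.mk' (Subgroup.center (GL (Fin n) L))) hqk ψ' ψ
    (hψ'.trans hψ.symm)

end Cfsg.Agent.S2399
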