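import Mathlib
import Cfsg.Statements.S2402
import Cfsg.Agent.Lib.Helper12.SLGen2

set_option autoImplicit false
open Cfsg

namespace Cfsg.Agent.S2402

open Cfsg.Agent.Helper12 Matrix

/-- Explicit two-element generation of `PSL_{n+1}(K)` for a finite field `K` with more than three elements: let `k` generate the multiplicative group of `K`, `h = diag(k, k⁻¹, 1, …, 1)`, `x = 1 + E₁₂` (the elementary transvection) and `w` the monomial matrix with entries `1` in positions `(i, i+1)` and `(−1)^n` in position `(n+1, 1)`. Then `h` and `x·w` generate `SL_{n+1}(K)` modulo its centre: the subgroup they generate together with the centre is everything. -/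
theorem result {K : Type*} [Field K] [Fintype K] (hK : 3 < Fintype.card K) (n : ℕ) (hn : 1 ≤ n)
    (k : Kˣ) (hk : ∀ u : Kˣ, u ∈ Subgroup.zpowers k)
    (h x w : Matrix.SpecialLinearGroup (Fin (n + 1)) K)
    (hh : (h : Matrix (Fin (n + 1)) (Fin (n + 1)) K) =
      Matrix.diagonal (fun i => if i.val = 0 then (k : K) else if i.val = 1 then ((k⁻¹ : Kˣ) : K) else 1))
    (hx : (x : Matrix (Fin (n + 1)) (Fin (n + 1)) K) = Matrix.transvection (0 : Fin (n + 1)) (1 : Fin (n + 1)) 1)
    (hw : (w : Matrix (Fin (n + 1)) (Fin (n + 1)) K) =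
      Matrix.of (fun i j => if j.val = i.val + 1 then 1 else if i.val = n ∧ j.val = 0 then (-1) ^ n else 0)) :
    Subgroup.closure ({h, x * w} : Set (Matrix.SpecialLinearGroup (Fin (n + 1)) K)) ⊔
      Subgroup.center (Matrix.SpecialLinearGroup (Fin (n + 1)) K) = ⊤ := by
  classical
  set H := Subgroup.closure ({h, x * w} : Set (Matrix.SpecialLinearGroup (Fin (n + 1)) K)) with hH
  have hhH : h ∈ H := Subgroup.subset_closure (by simp)
  have hyH : x * w ∈ H := Subgroup.subset_closure (by simp)
  have hcox := isCoxW_of_eq hn w hw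
  have hval1 : (1 : Fin (n + 1)).val = 1 := by
    rw [Fin.val_one']
    exact Nat.mod_eq_of_lt (by omega)
  have h01 : (0 : Fin (n + 1)) ≠ 1 := by
    intro h'
    have := congrArg Fin.val h'
    rw [hval1] at this
    simp at this
  have hx' : x = Matrix.SpecialLinearGroup.transvection h01 1 := Subtype.ext hx
  set d : Fin (n + 1) → K := fun i => if i.val = 0 then (k : K) else
    if i.val = 1 then ((k⁻¹ : Kˣ) : K) else 1 with hd
  have hd0 : d 0 = (k : K) := by simp [hd]
  have hd1 : d 1 = ((k⁻¹ : Kˣ) : K) := by
    simp only [hd, hval1]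
    simp
  have hkinv : ((k⁻¹ : Kˣ) : K) = (k : K)⁻¹ := Units.val_inv_eq_inv_val k
  have hk0 : (k : K) ≠ 0 := k.ne_zero
  -- the order of `k`
  have hord : orderOf k = Fintype.card K - 1 := by
    have h1 : Subgroup.zpowers k = ⊤ := by
      rw [eq_top_iff]
      intro u _
      exact hk u
    rw [← Nat.card_zpowers, h1, Subgroup.card_top, Nat.card_eq_fintype_card, Fintype.card_units]
  have hk2 : (k : K) * (k : K) ≠ 1 := by
    intro h1
    have h2 : k ^ 2 = 1 := by
      apply Units.ext
      rw [Units.val_pow_eq_pow_val, pow_two, h1, Units.val_one]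
    have h3 := orderOf_dvd_of_pow_eq_one h2
    have h4 := Nat.le_of_dvd (by norm_num) h3
    omega
  have hk1 : (k : K) ≠ 1 := by
    intro h1
    apply hk2
    rw [h1, mul_one]
  -- conjugation by `h`
  have hconj : ∀ c : K, h * Matrix.SpecialLinearGroup.transvection h01 c =
      Matrix.SpecialLinearGroup.transvection h01 ((k : K) * (k : K) * c) * h := by
    intro c
    rw [diag_mul_transvection h d hh h01 (by rw [hd1, hkinv]; exact inv_ne_zero hk0) c]
    congr 2
    rw [hd0, hd1, hkinv]
    field_simp
  -- the additive subgroup of parameters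
  let A : AddSubgroup K :=
    { carrier := {c | Matrix.SpecialLinearGroup.transvection h01 c ∈ H}
      zero_mem' := by
        change Matrix.SpecialLinearGroup.transvection h01 (0 : K) ∈ H
        rw [Matrix.SpecialLinearGroup.transvection_coeff_zero]
        exact H.one_mem
      add_mem' := by
        intro a b ha hb
        change Matrix.SpecialLinearGroup.transvection h01 (a + b) ∈ H
        rw [Matrix.SpecialLinearGroup.transvection_add]
        exact H.mul_mem ha hb
      neg_mem' := by
        intro a ha
        change Matrix.SpecialLinearGroup.transvection h01 (-a) ∈ H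
        rw [← Matrix.SpecialLinearGroup.transvection_inv]
        exact H.inv_mem ha }
  have hAmem : ∀ c : K, c ∈ A ↔ Matrix.SpecialLinearGroup.transvection h01 c ∈ H := fun c => Iff.rfl
  have hA : ∀ c ∈ A, (k : K) * (k : K) * c ∈ A := by
    intro c hc
    rw [hAmem] at hc ⊢
    have : Matrix.SpecialLinearGroup.transvection h01 ((k : K) * (k : K) * c) =
        h * Matrix.SpecialLinearGroup.transvection h01 c * h⁻¹ := by
      rw [hconj, mul_inv_cancel_right]
    rw [this]
    exact H.mul_mem (H.mul_mem hhH hc) (H.inv_mem hhH)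
  -- a non-trivial element of the root subgroup
  obtain ⟨D', hD'def⟩ : ∃ D' : Matrix.SpecialLinearGroup (Fin (n + 1)) K, D' = w * h * w⁻¹ :=
    ⟨_, rfl⟩
  have hD' : (D' : Matrix (Fin (n + 1)) (Fin (n + 1)) K) = diagonal (fun a => d (a + 1)) := by
    rw [hD'def]
    exact coxW_mul_diag hcox h d hh
  have hd'0 : d (0 + 1) = (k : K)⁻¹ := by rw [zero_add, hd1, hkinv]
  -- the value `e`
  obtain ⟨e, he1, hde⟩ : ∃ e : K, e ≠ 1 ∧ d (1 + 1) * (k : K) = e := by
    refine ⟨d (1 + 1) * (k : K), ?_, rfl⟩
    by_cases hn1 : n = 1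
    · subst hn1
      have : (1 + 1 : Fin 2) = 0 := by decide
      rw [this, hd0]
      exact hk2
    · have hv : (1 + 1 : Fin (n + 1)).val = 2 := by
        rw [Fin.val_add, hval1]
        exact Nat.mod_eq_of_lt (by omega)
      have : d (1 + 1) = 1 := by
        simp only [hd, hv]
        simp
      rw [this, one_mul]
      exact hk1
  have hd'1 : d (1 + 1) ≠ 0 := by
    intro h0
    rw [h0, zero_mul] at hde
    -- `e = 0`, fine, but then use the definition directly
    by_cases hn1 : n = 1
    · subst hn1
      have : (1 + 1 : Fin 2) = 0 := by decide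
      rw [this, hd0] at h0
      exact hk0 h0
    · have hv : (1 + 1 : Fin (n + 1)).val = 2 := by
        rw [Fin.val_add, hval1]
        exact Nat.mod_eq_of_lt (by omega)
      have : d (1 + 1) = 1 := by
        simp only [hd, hv]
        simp
      rw [this] at h0
      exact one_ne_zero h0
  have hxD : x * D' = D' * Matrix.SpecialLinearGroup.transvection h01 e := by
    rw [diag_mul_transvection D' _ hD' h01 hd'1 e, hx']
    congr 2
    rw [hd'0, ← hde]
    field_simp
  obtain ⟨z, hz⟩ : ∃ z : Matrix.SpecialLinearGroup (Fin (n + 1)) K,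
      z = (x * w) * h * (x * w)⁻¹ := ⟨_, rfl⟩
  have hzH : z ∈ H := by
    rw [hz]
    exact H.mul_mem (H.mul_mem hyH hhH) (H.inv_mem hyH)
  have hz1 : z = D' * Matrix.SpecialLinearGroup.transvection h01 (e - 1) := by
    have e1 : z = x * D' * x⁻¹ := by
      rw [hz, hD'def]
      group
    rw [e1, hxD, hx', Matrix.SpecialLinearGroup.transvection_inv, mul_assoc,
      ← Matrix.SpecialLinearGroup.transvection_add, sub_eq_add_neg]
  have hcomm : h * D' = D' * h := by
    apply Subtype.ext
    rw [Matrix.SpecialLinearGroup.coe_mul, Matrix.SpecialLinearGroup.coe_mul, hh, hD',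
      diagonal_mul_diagonal, diagonal_mul_diagonal]
    congr 1
    funext a
    exact mul_comm _ _
  have hc₀ : Matrix.SpecialLinearGroup.transvection h01 (((k : K) * (k : K) - 1) * (e - 1)) ∈ H := by
    have h1 : h * z * h⁻¹ = D' * Matrix.SpecialLinearGroup.transvection h01
        ((k : K) * (k : K) * (e - 1)) := by
      rw [hz1, ← mul_assoc, hcomm, mul_assoc D', hconj, ← mul_assoc, mul_inv_cancel_right]
    have h2 : Matrix.SpecialLinearGroup.transvection h01 (((k : K) * (k : K) - 1) * (e - 1)) =
        z⁻¹ * (h * z * h⁻¹) := by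
      rw [h1, hz1, _root_.mul_inv_rev, mul_assoc, inv_mul_cancel_left,
        Matrix.SpecialLinearGroup.transvection_inv,
        ← Matrix.SpecialLinearGroup.transvection_add]
      congr 1
      ring
    rw [h2]
    exact H.mul_mem (H.inv_mem hzH) (H.mul_mem (H.mul_mem hhH hzH) (H.inv_mem hhH))
  have hne : ((k : K) * (k : K) - 1) * (e - 1) ≠ 0 :=
    mul_ne_zero (sub_ne_zero.2 hk2) (sub_ne_zero.2 he1)
  have hAtop := addSubgroup_eq_top_of_sq_closed hK k hk A hA _ ((hAmem _).2 hc₀) hne
  have hgood : TvGood H 0 1 := by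
    intro _ c
    have : c ∈ A := by
      rw [hAtop]
      exact AddSubgroup.mem_top c
    exact this
  have hxH : x ∈ H := by
    rw [hx']
    exact hgood h01 1
  have hwH : w ∈ H := by
    have : w = x⁻¹ * (x * w) := by group
    rw [this]
    exact H.mul_mem (H.inv_mem hxH) hyH
  rw [eq_top_of_tvGood hn H hcox hwH hgood, top_sup_eq]

end Cfsg.Agent.S2402
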