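import Mathlib
import Cfsg.Statements.S2403
import Cfsg.Agent.Lib.Helper12.SLGen

set_option autoImplicit false
open Cfsg

namespace Cfsg.Agent.S2403

open Cfsg.Agent.Helper12 Matrix

/-- over a prime field the first transvection generates its root subgroup -/
theorem tvGood_of_prime {K : Type*} [Field K] [Fintype K] (hK : Fintype.card K ≤ 3) {n : ℕ}
    (hn : 1 ≤ n) (H : Subgroup (Matrix.SpecialLinearGroup (Fin (n + 1)) K))
    (x : Matrix.SpecialLinearGroup (Fin (n + 1)) K) (hxH : x ∈ H)
    (hx : (x : Matrix (Fin (n + 1)) (Fin (n + 1)) K) =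
      Matrix.transvection (0 : Fin (n + 1)) (1 : Fin (n + 1)) 1) : TvGood H 0 1 := by
  intro h01 c
  obtain ⟨p, hp⟩ := CharP.exists K
  haveI := hp
  obtain ⟨f, hpp, hq⟩ := FiniteField.card K p
  haveI : Fact p.Prime := ⟨hpp⟩
  have hcard : Fintype.card K = p := by
    have hf : (f : ℕ) = 1 := by
      by_contra hne
      have h2 : 2 ≤ (f : ℕ) := by
        have := f.pos
        omega
      have : p ^ 2 ≤ p ^ (f : ℕ) := Nat.pow_le_pow_right hpp.pos h2
      have h4 : 2 ^ 2 ≤ p ^ 2 := Nat.pow_le_pow_left hpp.two_le 2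
      omega
    rw [hq, hf, pow_one]
  -- every element is a natural number
  obtain ⟨m, rfl⟩ : ∃ m : ℕ, c = (m : K) := by
    let e := ZMod.ringEquivOfPrime K hpp hcard
    refine ⟨(e.symm c).val, ?_⟩
    have h1 : e (e.symm c) = c := e.apply_symm_apply c
    have h2 : (((e.symm c).val : ℕ) : ZMod p) = e.symm c := ZMod.natCast_zmod_val _
    calc c = e (e.symm c) := h1.symm
      _ = e ((((e.symm c).val : ℕ) : ZMod p)) := by rw [h2]
      _ = (((e.symm c).val : ℕ) : K) := map_natCast e _
  have hx' : x = Matrix.SpecialLinearGroup.transvection h01 1 := Subtype.ext hx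
  have hpow : ∀ m : ℕ, Matrix.SpecialLinearGroup.transvection h01 ((m : ℕ) : K) = x ^ m := by
    intro m
    induction m with
    | zero => simp
    | succ m ih =>
      rw [Nat.cast_succ, Matrix.SpecialLinearGroup.transvection_add, ih, pow_succ, hx']
  rw [hpow]
  exact pow_mem hxH m

/-- Explicit two-element generation of `PSL_{n+1}(K)` over the fields with two or three elements: with `x = 1 + E₁₂` and `w` the monomial matrix with entries `1` in positions `(i, i+1)` and `(−1)^n` in position `(n+1, 1)`, the elements `x` and `w` generate `SL_{n+1}(K)` modulo its centre. -/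
theorem result {K : Type*} [Field K] [Fintype K] (hK : Fintype.card K ≤ 3) (n : ℕ) (hn : 1 ≤ n)
    (x w : Matrix.SpecialLinearGroup (Fin (n + 1)) K)
    (hx : (x : Matrix (Fin (n + 1)) (Fin (n + 1)) K) = Matrix.transvection (0 : Fin (n + 1)) (1 : Fin (n + 1)) 1)
    (hw : (w : Matrix (Fin (n + 1)) (Fin (n + 1)) K) =
      Matrix.of (fun i j => if j.val = i.val + 1 then 1 else if i.val = n ∧ j.val = 0 then (-1) ^ n else 0)) :
    Subgroup.closure ({x, w} : Set (Matrix.SpecialLinearGroup (Fin (n + 1)) K)) ⊔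
      Subgroup.center (Matrix.SpecialLinearGroup (Fin (n + 1)) K) = ⊤ := by
  have hxH : x ∈ Subgroup.closure ({x, w} : Set (Matrix.SpecialLinearGroup (Fin (n + 1)) K)) :=
    Subgroup.subset_closure (by simp)
  have hwH : w ∈ Subgroup.closure ({x, w} : Set (Matrix.SpecialLinearGroup (Fin (n + 1)) K)) :=
    Subgroup.subset_closure (by simp)
  have h := eq_top_of_tvGood hn _ (isCoxW_of_eq hn w hw) hwH (tvGood_of_prime hK hn _ x hxH hx)
  rw [h, top_sup_eq]

end Cfsg.Agent.S2403
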