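import Cfsg.Statements.S2412
import Cfsg.Agent.S2283
import Cfsg.Agent.Lib.Helper11.SU2GMain

set_option autoImplicit false
open Cfsg

namespace Cfsg.Agent.S2412

/-- The projective special unitary group `PSU_n(q)` with `n ≥ 3`, realised over the field with `q²` elements, `(n, q) ≠ (3, 2)`, is generated by two of its elements. -/
theorem result {F : Type*} [Field F] [Fintype F] {q : ℕ} (hq : IsPrimePow q) (hF : Fintype.card F = q ^ 2) (n : ℕ) (hn : 3 ≤ n) (h32 : n = 3 → q ≠ 2) :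
    ∃ a b : Cfsg.PSU n F q, Subgroup.closure ({a, b} : Set (Cfsg.PSU n F q)) = ⊤ := by
  classical
  have hq2 := Cfsg.Agent.Helper11.Herm.two_le_q hF
  -- two generators of `SU_n(q)`
  have hSUgen : ∃ a b : ↥(Cfsg.SU n F q),
      Subgroup.closure ({a, b} : Set ↥(Cfsg.SU n F q)) = ⊤ := by
    by_cases h3 : n = 3
    · subst h3
      have hq3 : 3 ≤ q := by
        have : q ≠ 2 := h32 rfl
        omega
      obtain ⟨u, g, -, hcl⟩ := Cfsg.Agent.S2283.result q hq3 hF
      exact ⟨u, g * u * g⁻¹, hcl⟩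
    · have hn4 : 4 ≤ n := by omega
      obtain ⟨φ, hφ⟩ := Cfsg.Agent.Helper11.Herm.exists_frob hF
      have hSU : Cfsg.SU n F q = Cfsg.Agent.Helper11.Herm.SUg (Fin n) φ := by
        ext g
        exact Cfsg.Agent.Helper11.Herm.mem_SU_iff_isU φ hφ n g
      obtain ⟨a, b, hab⟩ := Cfsg.Agent.Helper11.SU2G.two_gen_SUg hF φ hφ n hn4
      have key : ∀ K : Subgroup (Matrix.SpecialLinearGroup (Fin n) F),
          K = Cfsg.Agent.Helper11.Herm.SUg (Fin n) φ →
          ∃ a b : ↥K, Subgroup.closure ({a, b} : Set ↥K) = ⊤ := by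
        rintro K rfl
        exact ⟨a, b, hab⟩
      exact key _ hSU
  obtain ⟨a, b, hab⟩ := hSUgen
  refine ⟨QuotientGroup.mk a, QuotientGroup.mk b, ?_⟩
  have h1 : Subgroup.map (QuotientGroup.mk' (Subgroup.center ↥(Cfsg.SU n F q)))
      (Subgroup.closure ({a, b} : Set ↥(Cfsg.SU n F q))) = ⊤ := by
    rw [hab]
    exact Subgroup.map_top_of_surjective _ (QuotientGroup.mk'_surjective _)
  rw [MonoidHom.map_closure] at h1
  rw [← h1]
  congr 1
  ext x
  simp [Set.image_pair]

end Cfsg.Agent.S2412
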