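import Mathlib
import Cfsg.Statements.S2416
import Cfsg.Agent.Lib.Helper6.ChevLGenData

set_option autoImplicit false
open scoped MatrixGroups
open Cfsg

namespace Cfsg.Agent.S2416

open Cfsg.Lie Cfsg.Agent.Lead.Chev Cfsg.Agent.Helper6.ChevL in
/-- A Chevalley group of type G₂, B₂, D₄, F₄, E₆, E₇ or E₈ over a finite field lies in (indeed equals) the subgroup generated by its monomial subgroup `N` and a single fundamental root subgroup `X_p`, where `p` is a short fundamental root if there are two root lengths (any fundamental root otherwise), provided the characteristic is not 2 for types B₂, F₄ and not 3 for type G₂ (and the field has more than two elements for B₂, G₂). -/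
theorem result {K : Type*} [Field K] [Finite K] (D : Cfsg.Lie.ChevalleyDatum) (hD : D ∈ [Cfsg.Lie.chevG2, Cfsg.Lie.chevB2, Cfsg.Lie.chevD4, Cfsg.Lie.chevF4, Cfsg.Lie.chevE6, Cfsg.Lie.chevE7, Cfsg.Lie.chevE8])
    (hK : D ∈ [Cfsg.Lie.chevB2, Cfsg.Lie.chevG2] → ∃ x : K, x ≠ 0 ∧ x ≠ 1)
    (h2 : D ∈ [Cfsg.Lie.chevB2, Cfsg.Lie.chevF4] → ringChar K ≠ 2) (h3 : D = Cfsg.Lie.chevG2 → ringChar K ≠ 3)
    (i : ℕ) (hi : i < D.rank) (hshort : D.isLong (D.simple i) = false) :
    D.group K ≤ D.monomialSubgroup K ⊔ D.rootSubgroup K (D.simple i) := by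
  have hF : ChevFacts D K := chevFacts_of_mem D hD
  simp only [List.mem_cons, List.mem_nil_iff, or_false] at hD
  rcases hD with rfl | rfl | rfl | rfl | rfl | rfl | rfl
  · refine group_le_short hF (orbFacts_G2 hF) (Or.inr ⟨4, 8, -3, ?_⟩) i hi hshort
    obtain ⟨a1, a2, a3, a4, a5, a6, a7⟩ := commData_of chevG2 orbCert2_G2 4 8 1 (-3) commOK2_G2
    exact ⟨a1, a2, a3, a4, a5, a6, a7,
      intCast_neg_prime_ne_zero 3 Nat.prime_three (h3 rfl)⟩
  · refine group_le_short hF (orbFacts_B2 hF) (Or.inr ⟨2, 6, -2, ?_⟩) i hi hshort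
    obtain ⟨a1, a2, a3, a4, a5, a6, a7⟩ := commData_of chevB2 orbCert2_B2 2 6 1 (-2) commOK2_B2
    exact ⟨a1, a2, a3, a4, a5, a6, a7,
      intCast_neg_prime_ne_zero 2 Nat.prime_two (h2 (by simp))⟩
  · exact group_le_short hF (orbFacts_D4 hF) (Or.inl rfl) i hi hshort
  · refine group_le_short hF (orbFacts_F4 hF) (Or.inr ⟨9, 39, -2, ?_⟩) i hi hshort
    obtain ⟨a1, a2, a3, a4, a5, a6, a7⟩ := commData_of chevF4 orbCert2_F4 9 39 2 (-2) commOK2_F4
    exact ⟨a1, a2, a3, a4, a5, a6, a7,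
      intCast_neg_prime_ne_zero 2 Nat.prime_two (h2 (by simp))⟩
  · exact group_le_short hF (orbFacts_E6 hF) (Or.inl rfl) i hi hshort
  · exact group_le_short hF (orbFacts_E7 hF) (Or.inl rfl) i hi hshort
  · exact group_le_short hF (orbFacts_E8 hF) (Or.inl rfl) i hi hshort

end Cfsg.Agent.S2416
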