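import Mathlib
import Cfsg.Statements.S2418
import Cfsg.Agent.Lib.Helper6.CoxeterCenterData

set_option autoImplicit false
open Cfsg

namespace Cfsg.Agent.S2418

open Cfsg.Agent.Helper6.TC

/-- the reordering of the nodes of D₄ putting the central node last -/
def σD4 : Equiv.Perm (Fin 4) where
  toFun := ![0, 2, 3, 1]
  invFun := ![0, 3, 1, 2]
  left_inv := by decide
  right_inv := by decide

theorem mD4P_eq : ∀ i j : Fin 4, Cfsg.Lie.coxeterD4 (σD4 i) (σD4 j) = mD4P i j := by
  intro i j; fin_cases i <;> fin_cases j <;> decide +kernel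

/-- the general pattern -/
theorem center_of_cert {n : ℕ} (M : CoxeterMatrix (Fin n)) (σ : Equiv.Perm (Fin n)) (C : Cert)
    (hm : ∀ i j : Fin n, M (σ i) (σ j) = C.m i j) (hok : C.ok n = true)
    (D : CenterData) (hD : centerOk C.A n D = true) (hnodup : D.fixl.Nodup)
    (cw : List ℕ) (ks : List ℕ)
    (hzs : D.zs = ks.map fun k => (List.replicate k cw).flatten)
    (hcw : cw = (List.finRange n).map (fun i => ((σ.symm i : Fin n) : ℕ))) :
    Nat.card (Subgroup.center M.Group) = D.zs.length ∧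
      Subgroup.center M.Group ≤ Subgroup.zpowers ((List.finRange n).map M.simple).prod := by
  obtain ⟨-, ⟨F⟩⟩ := coxeter_faithful_perm M σ C hm hok
  have := center_result F D hD hnodup cw ks hzs
  rw [← coxeterElement_eq_perm M σ cw hcw] at this
  exact this

/-- For the Coxeter groups of types B₂, G₂, D₄, F₄, E₇, E₈ the centre has order 2 (the element acting as −1 on the root system) and is generated by a power of the Coxeter element `s₁ s₂ ⋯ s_l`; the Coxeter group of type E₆ has trivial centre. -/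
theorem result (c : (Σ n : ℕ, CoxeterMatrix (Fin n)) × ℕ)
    (hc : c ∈ [(⟨2, CoxeterMatrix.B 2⟩, 2), (⟨2, CoxeterMatrix.G₂⟩, 2), (⟨4, Cfsg.Lie.coxeterD4⟩, 2), (⟨4, CoxeterMatrix.F₄⟩, 2),
      (⟨6, CoxeterMatrix.E₆⟩, 1), (⟨7, CoxeterMatrix.E₇⟩, 2), (⟨8, CoxeterMatrix.E₈⟩, 2)]) :
    Nat.card (Subgroup.center c.1.2.Group) = c.2 ∧
      Subgroup.center c.1.2.Group ≤ Subgroup.zpowers ((List.finRange c.1.1).map c.1.2.simple).prod := by
  simp only [List.mem_cons, List.not_mem_nil, or_false] at hc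
  rcases hc with rfl | rfl | rfl | rfl | rfl | rfl | rfl
  · exact center_of_cert (CoxeterMatrix.B 2) (Equiv.refl _) certB2 mB2_eq certB2_ok centB2
      centB2_ok (by decide) [0, 1] [0, 2] rfl (by decide)
  · exact center_of_cert CoxeterMatrix.G₂ (Equiv.refl _) certG2 mG2_eq certG2_ok centG2
      centG2_ok (by decide) [0, 1] [0, 3] rfl (by decide)
  · exact center_of_cert Cfsg.Lie.coxeterD4 σD4 certD4P mD4P_eq certD4P_ok centD4P
      centD4P_ok (by decide) [0, 3, 1, 2] [0, 3] rfl (by decide)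
  · exact center_of_cert CoxeterMatrix.F₄ (Equiv.refl _) certF4 mF4_eq certF4_ok centF4
      centF4_ok (by decide) [0, 1, 2, 3] [0, 6] rfl (by decide)
  · exact center_of_cert CoxeterMatrix.E₆ (Equiv.refl _) certE6 mE6_eq certE6_ok centE6
      centE6_ok (by decide) [0, 1, 2, 3, 4, 5] [0] rfl (by decide)
  · exact center_of_cert CoxeterMatrix.E₇ (Equiv.refl _) certE7 mE7_eq certE7_ok centE7
      centE7_ok (by decide) [0, 1, 2, 3, 4, 5, 6] [0, 9] rfl (by decide)
  · exact center_of_cert CoxeterMatrix.E₈ (Equiv.refl _) certE8 mE8_eq certE8_ok centE8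
      centE8_ok (by decide) [0, 1, 2, 3, 4, 5, 6, 7] [0, 15] rfl (by decide)

end Cfsg.Agent.S2418
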