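import Mathlib
import Cfsg.Statements.S2419
import Cfsg.Agent.Lib.Helper6.CoxeterGenData
import Cfsg.Agent.S1092

set_option autoImplicit false
open Cfsg

namespace Cfsg.Agent.S2419

open Cfsg.Agent.Helper6.TC

lemma conj_of_tword {n : ℕ} (M : CoxeterMatrix (Fin n)) (C : Cert)
    (F : Faithful C.A n (cgenP M (Equiv.refl _))) (D : GenData) (hD : genOk C.A n D = true)
    (t : List ℕ × ℕ) (ht : t ∈ D.tws) :
    ∃ (g : M.Group) (i : Fin n), wp (cgenP M (Equiv.refl _)) (tword t) = g * M.simple i * g⁻¹ := by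
  obtain ⟨-, h2, -, -⟩ := genOk_spec C.A n D hD
  obtain ⟨h3, h4⟩ := h2 t ht
  refine ⟨wp (cgenP M (Equiv.refl _)) t.1, ⟨t.2, h4⟩, ?_⟩
  rw [wp_tword F t h3, cgenP_of_lt M _ h4]
  rfl

lemma cox_eq {n : ℕ} (M : CoxeterMatrix (Fin n)) :
    ((List.finRange n).map M.simple).prod = wp (cgenP M (Equiv.refl _)) (List.range n) := by
  apply coxeterElement_eq_perm
  rw [← List.map_coe_finRange_eq_range]
  rfl

/-- one reflection -/
theorem gen_of_cert1 {n : ℕ} (M : CoxeterMatrix (Fin n)) (C : Cert)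
    (hm : ∀ i j : Fin n, M i j = C.m i j) (hok : C.ok n = true)
    (D : GenData) (hD : genOk C.A n D = true) (hcw : D.cw = List.range n)
    (t : List ℕ × ℕ) (htws : D.tws = [t]) :
    ∃ T : Finset M.Group, T.card = 1 ∧
      (∀ t ∈ T, ∃ (g : M.Group) (i : Fin n), t = g * M.simple i * g⁻¹) ∧
      Subgroup.closure (({((List.finRange n).map M.simple).prod} : Set M.Group) ∪ ↑T) = ⊤ := by
  classical
  obtain ⟨-, ⟨F⟩⟩ := coxeter_faithful_perm M (Equiv.refl _) C hm hok
  refine ⟨{wp (cgenP M (Equiv.refl _)) (tword t)}, Finset.card_singleton _, ?_, ?_⟩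
  · intro x hx
    rw [Finset.mem_singleton] at hx
    subst hx
    exact conj_of_tword M C F D hD t (by rw [htws]; exact List.mem_singleton_self _)
  · apply gen_result F D hD
    · rw [hcw, ← cox_eq]
      exact Or.inl rfl
    · intro t' ht'
      rw [htws, List.mem_singleton] at ht'
      subst ht'
      exact Or.inr (by simp)

/-- two reflections -/
theorem gen_of_cert2 {n : ℕ} (M : CoxeterMatrix (Fin n)) (C : Cert)
    (hm : ∀ i j : Fin n, M i j = C.m i j) (hok : C.ok n = true)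
    (D : GenData) (hD : genOk C.A n D = true) (hcw : D.cw = List.range n)
    (t1 t2 : List ℕ × ℕ) (htws : D.tws = [t1, t2]) (y : ℕ) (hy : y < C.A.N)
    (hne : wordAct C.A (tword t1) y ≠ wordAct C.A (tword t2) y) :
    ∃ T : Finset M.Group, T.card = 2 ∧
      (∀ t ∈ T, ∃ (g : M.Group) (i : Fin n), t = g * M.simple i * g⁻¹) ∧
      Subgroup.closure (({((List.finRange n).map M.simple).prod} : Set M.Group) ∪ ↑T) = ⊤ := by
  classical
  obtain ⟨-, ⟨F⟩⟩ := coxeter_faithful_perm M (Equiv.refl _) C hm hok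
  obtain ⟨-, h2, -, -⟩ := genOk_spec C.A n D hD
  have hne' : wp (cgenP M (Equiv.refl _)) (tword t1) ≠ wp (cgenP M (Equiv.refl _)) (tword t2) := by
    intro heq
    apply hne
    have m1 : t1 ∈ D.tws := by rw [htws]; simp
    have m2 : t2 ∈ D.tws := by rw [htws]; simp
    rw [← F.φ_wp_apply _ (tword_lt t1 (h2 t1 m1).1 (h2 t1 m1).2) hy,
      ← F.φ_wp_apply _ (tword_lt t2 (h2 t2 m2).1 (h2 t2 m2).2) hy, heq]
  refine ⟨{wp (cgenP M (Equiv.refl _)) (tword t1), wp (cgenP M (Equiv.refl _)) (tword t2)},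
    Finset.card_pair hne', ?_, ?_⟩
  · intro x hx
    rw [Finset.mem_insert, Finset.mem_singleton] at hx
    rcases hx with rfl | rfl
    · exact conj_of_tword M C F D hD t1 (by rw [htws]; simp)
    · exact conj_of_tword M C F D hD t2 (by rw [htws]; simp)
  · apply gen_result F D hD
    · rw [hcw, ← cox_eq]
      exact Or.inl rfl
    · intro t' ht'
      rw [htws, List.mem_cons, List.mem_singleton] at ht'
      rcases ht' with rfl | rfl
      · exact Or.inr (by simp)
      · exact Or.inr (by simp)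

/-- The Coxeter groups of types B₂, G₂, E₆, E₇, E₈ are generated by the Coxeter element `s₁ s₂ ⋯ s_l` together with one suitable reflection (a conjugate of a simple reflection); for types D₄ and F₄ the Coxeter element together with two suitable reflections suffices. -/
theorem result (c : (Σ n : ℕ, CoxeterMatrix (Fin n)) × ℕ)
    (hc : c ∈ [(⟨2, CoxeterMatrix.B 2⟩, 1), (⟨2, CoxeterMatrix.G₂⟩, 1), (⟨4, Cfsg.Lie.coxeterD4⟩, 2), (⟨4, CoxeterMatrix.F₄⟩, 2),
      (⟨6, CoxeterMatrix.E₆⟩, 1), (⟨7, CoxeterMatrix.E₇⟩, 1), (⟨8, CoxeterMatrix.E₈⟩, 1)]) :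
    ∃ T : Finset c.1.2.Group, T.card = c.2 ∧ (∀ t ∈ T, ∃ (g : c.1.2.Group) (i : Fin c.1.1), t = g * c.1.2.simple i * g⁻¹) ∧
      Subgroup.closure (({((List.finRange c.1.1).map c.1.2.simple).prod} : Set c.1.2.Group) ∪ ↑T) = ⊤ := by
  simp only [List.mem_cons, List.not_mem_nil, or_false] at hc
  rcases hc with rfl | rfl | rfl | rfl | rfl | rfl | rfl
  · exact gen_of_cert1 (CoxeterMatrix.B 2) certB2 mB2_eq certB2_ok genB2 genB2_ok rfl _ rfl
  · exact gen_of_cert1 CoxeterMatrix.G₂ certG2 mG2_eq certG2_ok genG2 genG2_ok rfl _ rfl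
  · exact gen_of_cert2 Cfsg.Lie.coxeterD4 certD4 Cfsg.Agent.S1092.mD4_eq certD4_ok genD4 genD4_ok
      rfl _ _ rfl 0 (by decide +kernel) (by decide +kernel)
  · exact gen_of_cert2 CoxeterMatrix.F₄ certF4 mF4_eq certF4_ok genF4 genF4_ok
      rfl _ _ rfl 1 (by decide +kernel) (by decide +kernel)
  · exact gen_of_cert1 CoxeterMatrix.E₆ certE6 mE6_eq certE6_ok genE6 genE6_ok rfl _ rfl
  · exact gen_of_cert1 CoxeterMatrix.E₇ certE7 mE7_eq certE7_ok genE7 genE7_ok rfl _ rfl
  · exact gen_of_cert1 CoxeterMatrix.E₈ certE8 mE8_eq certE8_ok genE8 genE8_ok rfl _ rfl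

end Cfsg.Agent.S2419
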