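import Mathlib
import Cfsg.Statements.S2429
import Cfsg.Agent.Lib.Helper12.SL2Nonsplit

set_option autoImplicit false
open Cfsg

namespace Cfsg.Agent.S2429

open Cfsg.Agent.Helper12

/-- Let F be a finite field with q elements, q odd. Then SL₂ over F contains a cyclic subgroup T′ of order q + 1 (a non-split torus) with the following properties: T′ is its own centraliser, and indeed the centraliser of each element of T′ other than 1 and −1 is exactly T′; every element of SL₂ having no eigenvector in F² is conjugate to an element of T′; the normaliser of T′ has order 2(q + 1) and exactly (q + 7)/2 conjugacy classes; and every element of that normaliser outside T′ has square −1. -/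
theorem result {F : Type*} [Field F] [Fintype F] (hodd : Odd (Fintype.card F)) :
    ∃ T' : Subgroup (Matrix.SpecialLinearGroup (Fin 2) F), IsCyclic T' ∧ Nat.card T' = Fintype.card F + 1 ∧
      Subgroup.centralizer ((T' : Set (Matrix.SpecialLinearGroup (Fin 2) F))) = T' ∧
      (∀ g : Matrix.SpecialLinearGroup (Fin 2) F, g ∈ T' → (g : Matrix (Fin 2) (Fin 2) F) ≠ 1 → (g : Matrix (Fin 2) (Fin 2) F) ≠ -1 → Subgroup.centralizer ({g} : Set (Matrix.SpecialLinearGroup (Fin 2) F)) = T') ∧
      (∀ g : Matrix.SpecialLinearGroup (Fin 2) F, (∀ (c : F) (v : Fin 2 → F), v ≠ 0 → (g : Matrix (Fin 2) (Fin 2) F).mulVec v ≠ c • v) → ∃ h : Matrix.SpecialLinearGroup (Fin 2) F, h * g * h⁻¹ ∈ T') ∧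
      Nat.card (Subgroup.normalizer (T' : Set (Matrix.SpecialLinearGroup (Fin 2) F))) = 2 * (Fintype.card F + 1) ∧
      Nat.card (ConjClasses (Subgroup.normalizer (T' : Set (Matrix.SpecialLinearGroup (Fin 2) F)))) = (Fintype.card F + 7) / 2 ∧
      ∀ g : Matrix.SpecialLinearGroup (Fin 2) F, g ∈ Subgroup.normalizer (T' : Set (Matrix.SpecialLinearGroup (Fin 2) F)) → g ∉ T' → ((g * g) : Matrix (Fin 2) (Fin 2) F) = -1 := by
  classical
  have hF : ringChar F ≠ 2 := by
    intro h
    have := FiniteField.even_card_of_char_two h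
    rw [Nat.odd_iff] at hodd
    omega
  have h2 : (2 : F) ≠ 0 := Ring.two_ne_zero hF
  obtain ⟨g₀, hg₀⟩ := exists_elliptic (F := F)
  have hr := hg₀.isRegularSL
  have htr := hg₀.trace_sq_ne h2
  have hcard : Nat.card (torus g₀) = Fintype.card F + 1 := card_centralizer_elliptic hF g₀ hg₀
  refine ⟨torus g₀, isCyclic_torus hg₀, hcard, ?_, ?_, ?_, ?_, ?_, ?_⟩
  · ext x
    constructor
    · intro hx
      rw [Subgroup.mem_centralizer_iff] at hx
      rw [mem_torus_iff]
      exact hx g₀ (self_mem_torus g₀)
    · intro hx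
      rw [Subgroup.mem_centralizer_iff]
      intro h hh
      exact torus_comm g₀ hg₀.not_scalar h x hh hx
  · intro g hg h1 hm1
    have hns : ¬ IsScalar2 (g : Matrix (Fin 2) (Fin 2) F) := by
      intro hs
      have he := (isScalar2_iff _).1 hs
      rcases scalar_SL2_entry g hs with h | h
      · apply h1
        rw [he, h, one_smul]
      · apply hm1
        rw [he, h, neg_smul, one_smul]
    exact (torus_eq_of_mem hg₀ hg hns).2
  · intro g hg
    exact exists_conj_mem_torus hF hg₀ g hg
  · rw [card_normalizer_torus hF hr htr, hcard]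
  · have := card_conjClasses_normalizer_torus hF hr htr
    rw [hcard] at this
    obtain ⟨k, hk⟩ : ∃ k, Nat.card (ConjClasses (Subgroup.normalizer ((torus g₀ : Subgroup (Matrix.SpecialLinearGroup (Fin 2) F)) : Set (Matrix.SpecialLinearGroup (Fin 2) F)))) = k := ⟨_, rfl⟩
    rw [hk]
    rw [hk] at this
    omega
  · intro g hg hgT
    have := sq_of_mem_normalizer_torus hr g hg hgT
    rw [Matrix.SpecialLinearGroup.coe_mul] at this
    exact this

end Cfsg.Agent.S2429
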