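import Mathlib
import Cfsg.Statements.S2431
import Cfsg.Agent.Lib.Helper12.SL2Quat

set_option autoImplicit false
open Cfsg

namespace Cfsg.Agent.S2431

open Cfsg.Agent.Helper12

/-- Let F be a finite field with q elements, q odd, and S a Sylow 2-subgroup of SL₂ over F. The centraliser of S is the centre of SL₂ (of order 2); S is its own normaliser when q ≡ ±1 mod 8, and has index 3 in its normaliser when q ≡ ±3 mod 8. -/
theorem result {F : Type*} [Field F] [Fintype F] (hodd : Odd (Fintype.card F)) (S : Sylow 2 (Matrix.SpecialLinearGroup (Fin 2) F)) :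
    Subgroup.centralizer ((S : Subgroup (Matrix.SpecialLinearGroup (Fin 2) F)) : Set (Matrix.SpecialLinearGroup (Fin 2) F)) = Subgroup.center (Matrix.SpecialLinearGroup (Fin 2) F) ∧
    ((Fintype.card F % 8 = 1 ∨ Fintype.card F % 8 = 7) →
      Subgroup.normalizer ((S : Subgroup (Matrix.SpecialLinearGroup (Fin 2) F)) : Set (Matrix.SpecialLinearGroup (Fin 2) F)) = (S : Subgroup (Matrix.SpecialLinearGroup (Fin 2) F))) ∧
    ((Fintype.card F % 8 = 3 ∨ Fintype.card F % 8 = 5) →
      Nat.card (Subgroup.normalizer ((S : Subgroup (Matrix.SpecialLinearGroup (Fin 2) F)) : Set (Matrix.SpecialLinearGroup (Fin 2) F))) = 3 * Nat.card S) := by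
  classical
  have hF : ringChar F ≠ 2 := by
    intro h
    have := FiniteField.even_card_of_char_two h
    rw [Nat.odd_iff] at hodd
    omega
  have h2 : (2 : F) ≠ 0 := Ring.two_ne_zero hF
  obtain ⟨c, h⟩ := exists_quatData hodd S
  have htr := trace_sq_ne_of_sq h2 h.sq
  obtain ⟨hr, hcyc, hn⟩ := regular_of_trace_sq_ne hF c htr
  have h4 := four_dvd_card_torus h2 h.sq
  have hq2 : 2 ≤ Fintype.card F := Fintype.one_lt_card
  refine ⟨h.centralizer_eq hF, ?_, ?_⟩
  · intro hq
    apply h.normalizer_eq hF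
    rcases hn with hn | hn <;> rw [hn] at h4 ⊢ <;> omega
  · intro hq
    apply card_normalizer_of_not_eight_dvd S h hF
    rcases hn with hn | hn <;> rw [hn] at h4 ⊢ <;> omega

end Cfsg.Agent.S2431
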