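import Mathlib
import Cfsg.Statements.S2434
import Cfsg.Agent.Lib.Helper12.SL2CuspConv
import Cfsg.Agent.Lib.Helper12.SL2Three

set_option autoImplicit false
open Cfsg

namespace Cfsg.Agent.S2434

open Cfsg.Agent.Helper12 Cfsg.Agent.Helper24 Cfsg.Agent.Helper5

open scoped ComplexConjugate

/-- a linear character of the non-split torus that is not of square one -/
theorem exists_theta_sq_ne_one {F : Type*} [Field F] [Fintype F] [DecidableEq F]
    (hF : ringChar F ≠ 2) {g₀ : Matrix.SpecialLinearGroup (Fin 2) F} (hg₀ : IsElliptic g₀)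
    (hC : IsCyclic (torus g₀)) : ∃ θ : torus g₀ →* ℂˣ, ∃ c : torus g₀, θ c ^ 2 ≠ 1 := by
  classical
  obtain ⟨c₁, hgen⟩ := hC.exists_generator
  have hcardH := card_hom_torus hF hg₀
  have hq : 2 ≤ Fintype.card F := Fintype.one_lt_card
  haveI : Finite (torus g₀ →* ℂˣ) := Nat.finite_of_card_ne_zero (by rw [hcardH]; omega)
  letI : Fintype (torus g₀ →* ℂˣ) := Fintype.ofFinite _
  by_contra hcon
  push Not at hcon
  have hinj : Set.InjOn (fun θ : torus g₀ →* ℂˣ => θ c₁)
      ((Finset.univ : Finset (torus g₀ →* ℂˣ)) : Set (torus g₀ →* ℂˣ)) := by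
    intro θ _ θ' _ h
    exact hom_ext_of_generator c₁ hgen θ θ' h
  have hmaps : ∀ θ ∈ (Finset.univ : Finset (torus g₀ →* ℂˣ)),
      (fun θ : torus g₀ →* ℂˣ => θ c₁) θ ∈ ({1, -1} : Finset ℂˣ) := by
    intro θ _
    have h1 := hcon θ c₁
    rw [Finset.mem_insert, Finset.mem_singleton]
    have : (θ c₁ - 1 : ℂ) * ((θ c₁ : ℂ) + 1) = 0 := by
      have h3 : ((θ c₁ : ℂˣ) : ℂ) ^ 2 = 1 := by
        rw [← Units.val_pow_eq_pow_val, h1, Units.val_one]
      linear_combination h3
    rcases mul_eq_zero.1 this with h | h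
    · left
      exact Units.ext (sub_eq_zero.1 h)
    · right
      apply Units.ext
      rw [Units.val_neg, Units.val_one]
      exact eq_neg_of_add_eq_zero_left h
  have h1 := (Finset.card_le_card_of_injOn _ hmaps hinj).trans Finset.card_le_two
  rw [Finset.card_univ, ← Nat.card_eq_fintype_card, hcardH] at h1
  omega

/-- Let F be a finite field with q elements, q odd, and C a cyclic subgroup of order q + 1 of SL₂ over F (a non-split torus; it contains the centre). For every homomorphism θ from C to the non-zero complex numbers with θ² ≠ 1 there is an irreducible complex character χ of degree q − 1 such that χ(c) = −θ(c) − θ(c)⁻¹ for every non-central c in C, χ(zg) = θ(z)χ(g) for central z in C, χ vanishes at diagonal elements with entry a, a² ≠ 1, and χ takes the value −1 at every upper unitriangular element other than 1. Conversely every irreducible character of degree q − 1 has, for some such θ, the values −θ(c) − θ(c)⁻¹ at the non-central elements c of C (for q ≥ 5 these are exactly the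 cuspidal characters of degree q − 1). -/
theorem result {F : Type*} [Field F] [Fintype F] (hodd : Odd (Fintype.card F))
    (C : Subgroup (Matrix.SpecialLinearGroup (Fin 2) F)) (hC : IsCyclic C) (hcard : Nat.card C = Fintype.card F + 1) :
    (∀ θ : C →* ℂˣ, (∃ c : C, θ c ^ 2 ≠ 1) →
      ∃ χ : Matrix.SpecialLinearGroup (Fin 2) F → ℂ, Cfsg.IsIrrCharacter (Matrix.SpecialLinearGroup (Fin 2) F) χ ∧ χ 1 = (Fintype.card F : ℂ) - 1 ∧
        (∀ c : C, (c : Matrix.SpecialLinearGroup (Fin 2) F) ∉ Subgroup.center (Matrix.SpecialLinearGroup (Fin 2) F) → χ c = -((θ c).val + (θ c)⁻¹.val)) ∧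
        (∀ c : C, (c : Matrix.SpecialLinearGroup (Fin 2) F) ∈ Subgroup.center (Matrix.SpecialLinearGroup (Fin 2) F) → ∀ g : Matrix.SpecialLinearGroup (Fin 2) F, χ ((c : Matrix.SpecialLinearGroup (Fin 2) F) * g) = (θ c).val * χ g) ∧
        (∀ g : Matrix.SpecialLinearGroup (Fin 2) F, (g : Matrix (Fin 2) (Fin 2) F) 0 1 = 0 → (g : Matrix (Fin 2) (Fin 2) F) 1 0 = 0 → (g : Matrix (Fin 2) (Fin 2) F) 0 0 ^ 2 ≠ 1 → χ g = 0) ∧
        (∀ g : Matrix.SpecialLinearGroup (Fin 2) F, (g : Matrix (Fin 2) (Fin 2) F) 1 0 = 0 → (g : Matrix (Fin 2) (Fin 2) F) 0 0 = 1 → (g : Matrix (Fin 2) (Fin 2) F) 1 1 = 1 → (g : Matrix (Fin 2) (Fin 2) F) 0 1 ≠ 0 → χ g = -1)) ∧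
    (∀ χ : Matrix.SpecialLinearGroup (Fin 2) F → ℂ, Cfsg.IsIrrCharacter (Matrix.SpecialLinearGroup (Fin 2) F) χ → χ 1 = (Fintype.card F : ℂ) - 1 →
      ∃ θ : C →* ℂˣ, (∃ c : C, θ c ^ 2 ≠ 1) ∧
        ∀ c : C, (c : Matrix.SpecialLinearGroup (Fin 2) F) ∉ Subgroup.center (Matrix.SpecialLinearGroup (Fin 2) F) → χ c = -((θ c).val + (θ c)⁻¹.val)) := by
  classical
  have hF : ringChar F ≠ 2 := by
    intro h
    have := FiniteField.even_card_of_char_two h
    rw [Nat.odd_iff] at hodd
    omega
  have h2 : (2 : F) ≠ 0 := Ring.two_ne_zero hF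
  have hq : 2 ≤ Fintype.card F := Fintype.one_lt_card
  obtain ⟨c₀, hell, rfl⟩ := exists_elliptic_of_cyclic hF C hC hcard
  have hpm : ∀ θ : torus c₀ →* ℂˣ,
      ((θ ⟨negOneSL, negOneSL_mem_torus c₀⟩ : ℂˣ) : ℂ) = 1 ∨
        ((θ ⟨negOneSL, negOneSL_mem_torus c₀⟩ : ℂˣ) : ℂ) = -1 := by
    intro θ
    have h1 := theta_sq_of_scalar θ ⟨negOneSL, negOneSL_mem_torus c₀⟩
      ((isScalar2_iff_eq _).2 (Or.inr rfl))
    have : (((θ ⟨negOneSL, negOneSL_mem_torus c₀⟩ : ℂˣ) : ℂ) - 1) *
        (((θ ⟨negOneSL, negOneSL_mem_torus c₀⟩ : ℂˣ) : ℂ) + 1) = 0 := by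
      linear_combination h1
    rcases mul_eq_zero.1 this with h | h
    · left; exact sub_eq_zero.1 h
    · right; exact eq_neg_of_add_eq_zero_left h
  constructor
  · intro θ hθ
    obtain ⟨α, hα⟩ := exists_mulChar_neg_one h2 _ (hpm θ)
    have hirr := isIrrCharacter_cuspChar hF hell θ α hθ hα
    have hone := cuspChar_one hF hell θ α
    have hscal : ∀ c : torus c₀,
        IsScalar2 ((c : Matrix.SpecialLinearGroup (Fin 2) F) : Matrix (Fin 2) (Fin 2) F) →
        cuspChar c₀ θ α c = ((Fintype.card F : ℂ) - 1) * ((θ c : ℂˣ) : ℂ) := by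
      intro c hs
      apply cuspChar_scalar hF hell θ α c hs
      rcases (isScalar2_iff_eq c.1).1 hs with h | h
      · have hc1 : c = 1 := Subtype.ext h
        rw [hc1, OneMemClass.coe_one, Matrix.SpecialLinearGroup.coe_one, Matrix.one_apply_eq,
          map_one, map_one, Units.val_one]
      · have hc1 : c = ⟨negOneSL, negOneSL_mem_torus c₀⟩ := Subtype.ext h
        rw [hc1]
        simp only
        rw [negOneSL_coe]
        have : ((-1 : Matrix (Fin 2) (Fin 2) F)) 0 0 = -1 := by simp
        rw [this, hα]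
    refine ⟨cuspChar c₀ θ α, hirr, hone, ?_, ?_, ?_, ?_⟩
    · intro c hc
      exact cuspChar_apply_torus hF hell θ α c (fun hs => hc (mem_center_of_isScalar2 c.1 hs))
    · intro c hc g
      have hs := isScalar2_of_mem_center c.1 hc
      have hcomm : ∀ y : Matrix.SpecialLinearGroup (Fin 2) F, y * c.1 = c.1 * y :=
        fun y => Subgroup.mem_center_iff.1 hc y
      rw [← hcomm g, irr_mul_central hirr g c.1 hcomm, hscal c hs, hone]
      have hq1 : (Fintype.card F : ℂ) - 1 ≠ 0 := by
        intro h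
        have : (Fintype.card F : ℂ) = 1 := by linear_combination h
        exact card_cast_ne_one this
      field_simp
    · intro g h01 h10 hsq
      have hd : IsSplitReg g := ⟨h01, h10, hsq⟩
      apply cuspChar_split hF hell θ α g hd.trace_sq_ne
      intro hg
      apply hg ((g : Matrix (Fin 2) (Fin 2) F) 0 0) ![1, 0]
      · intro h0
        have := congrFun h0 0
        simp at this
      · ext i
        fin_cases i
        · simp [Matrix.mulVec, dotProduct, Fin.sum_univ_two]
        · simp [Matrix.mulVec, dotProduct, Fin.sum_univ_two, h10]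
    · intro g h10 h00 h11 h01
      exact cuspChar_unipotent hF hell θ α g h10 h00 h11 h01
  · intro χ hχ hdeg
    by_cases hq5 : 5 ≤ Fintype.card F
    · obtain ⟨θ, α, hθ, rfl⟩ := exists_theta_of_degree hodd hq5 hell hC χ hχ hdeg
      refine ⟨θ, hθ, ?_⟩
      intro c hc
      exact cuspChar_apply_torus hF hell θ α c (fun hs => hc (mem_center_of_isScalar2 c.1 hs))
    · have h3 : Fintype.card F = 3 := by
        obtain ⟨k, hk⟩ := hodd
        omega
      obtain ⟨θ, c', hc'⟩ := exists_theta_sq_ne_one hF hell hC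
      refine ⟨θ, ⟨c', hc'⟩, ?_⟩
      have hcardT : Nat.card (torus c₀) = 4 := by
        rw [card_centralizer_elliptic hF c₀ hell, h3]
      -- squares of the non-scalar elements
      have hsq : ∀ c : torus c₀,
          ¬ IsScalar2 ((c : Matrix.SpecialLinearGroup (Fin 2) F) : Matrix (Fin 2) (Fin 2) F) →
          c * c = ⟨negOneSL, negOneSL_mem_torus c₀⟩ := by
        intro c hns
        have h4 : c ^ 4 = 1 := by
          rw [← hcardT]
          exact pow_card_eq_one'
        have h5 : (c.1 * c.1) * (c.1 * c.1) = 1 := by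
          have h4' : c.1 ^ 4 = 1 := by
            have := congrArg Subtype.val h4
            simpa using this
          rw [← h4', pow_succ, pow_succ, pow_succ, pow_one, mul_assoc]
          simp only [mul_assoc]
        apply Subtype.ext
        change c.1 * c.1 = negOneSL
        rcases SL2_sq_eq_one h2 (c.1 * c.1) h5 with h | h
        · exfalso
          apply hns
          rw [isScalar2_iff_eq]
          exact SL2_sq_eq_one h2 c.1 h
        · exact h
      have hns' : ¬ IsScalar2 ((c' : Matrix.SpecialLinearGroup (Fin 2) F) :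
          Matrix (Fin 2) (Fin 2) F) := by
        intro hs
        apply hc'
        have := theta_sq_of_scalar θ c' hs
        apply Units.ext
        rw [Units.val_pow_eq_pow_val, pow_two, this, Units.val_one]
      have hm1 : ((θ ⟨negOneSL, negOneSL_mem_torus c₀⟩ : ℂˣ) : ℂ) = -1 := by
        rcases hpm θ with h | h
        · exfalso
          apply hc'
          apply Units.ext
          rw [pow_two, ← map_mul, hsq c' hns', h, Units.val_one]
        · exact h
      intro c hc
      have hns : ¬ IsScalar2 ((c : Matrix.SpecialLinearGroup (Fin 2) F) :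
          Matrix (Fin 2) (Fin 2) F) := fun hs => hc (mem_center_of_isScalar2 c.1 hs)
      have hcell := (torus_eq_of_mem hell c.2 hns).1
      have hdeg2 : χ 1 = 2 := by
        rw [hdeg, h3]
        norm_num
      rw [SL2_three_vanish h3 hχ hdeg2 c.1 hcell]
      have hx : ((θ c : ℂˣ) : ℂ) * ((θ c : ℂˣ) : ℂ) = -1 := by
        rw [← Units.val_mul, ← map_mul, hsq c hns, hm1]
      rw [Units.val_inv_eq_inv_val, inv_eq_of_mul_eq_one_right
        (show ((θ c : ℂˣ) : ℂ) * (-((θ c : ℂˣ) : ℂ)) = 1 by linear_combination -hx)]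
      ring

end Cfsg.Agent.S2434
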