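import Mathlib
import Cfsg.Statements.S2435
import Cfsg.Agent.Lib.Helper12.SL2HalfVal

set_option autoImplicit false
open Cfsg

namespace Cfsg.Agent.S2435

open Cfsg.Agent.Helper12 Cfsg.Agent.Helper24 Cfsg.Agent.Helper5

/-- the quadratic character with complex values -/
theorem quadratic_apply {F : Type*} [Field F] [Fintype F] [DecidableEq F] (hF : ringChar F ≠ 2)
    (μ : MulChar F ℂ) (h1 : μ ≠ 1) (hsq : μ ^ 2 = 1) (a : F) (ha : a ≠ 0) :
    (IsSquare a → μ a = 1) ∧ (¬ IsSquare a → μ a = -1) := by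
  have hQ : (quadraticChar F).ringHomComp (Int.castRingHom ℂ) ≠ 1 := by
    rw [MulChar.ringHomComp_ne_one_iff (RingHom.injective_int (Int.castRingHom ℂ))]
    exact quadraticChar_ne_one hF
  have hQ2 : ((quadraticChar F).ringHomComp (Int.castRingHom ℂ)) ^ 2 = 1 :=
    ((quadraticChar_isQuadratic (F := F)).comp (Int.castRingHom ℂ)).sq_eq_one
  have hμ := quadratic_mulChar_unique μ _ hsq hQ2 h1 hQ
  constructor
  · intro h
    rw [hμ, MulChar.ringHomComp_apply, (quadraticChar_one_iff_isSquare ha).2 h]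
    simp
  · intro h
    rw [hμ, MulChar.ringHomComp_apply, quadraticChar_neg_one_iff_not_isSquare.2 h]
    simp

/-- Let F be a finite field with q elements, q odd and q ≥ 5, and χ an irreducible complex character of SL₂ over F. If χ has degree (q + 1)/2, then at a diagonal element with entry a, a² ≠ 1, χ takes the value 1 when a is a square in F and −1 otherwise. If χ has degree (q − 1)/2, then at an element g with no eigenvector in F² (so g has order dividing q + 1), χ takes the value −1 when g raised to the power (q + 1)/2 is the identity and the value 1 otherwise. -/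
theorem result {F : Type*} [Field F] [Fintype F] (hodd : Odd (Fintype.card F)) (hq : 5 ≤ Fintype.card F)
    (χ : Matrix.SpecialLinearGroup (Fin 2) F → ℂ) (hχ : Cfsg.IsIrrCharacter (Matrix.SpecialLinearGroup (Fin 2) F) χ) (g : Matrix.SpecialLinearGroup (Fin 2) F) :
    (χ 1 = (((Fintype.card F + 1) / 2 : ℕ) : ℂ) → (g : Matrix (Fin 2) (Fin 2) F) 0 1 = 0 → (g : Matrix (Fin 2) (Fin 2) F) 1 0 = 0 → (g : Matrix (Fin 2) (Fin 2) F) 0 0 ^ 2 ≠ 1 →
      (IsSquare ((g : Matrix (Fin 2) (Fin 2) F) 0 0) → χ g = 1) ∧ (¬ IsSquare ((g : Matrix (Fin 2) (Fin 2) F) 0 0) → χ g = -1)) ∧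
    (χ 1 = (((Fintype.card F - 1) / 2 : ℕ) : ℂ) → (∀ (c : F) (v : Fin 2 → F), v ≠ 0 → (g : Matrix (Fin 2) (Fin 2) F).mulVec v ≠ c • v) →
      (((g ^ ((Fintype.card F + 1) / 2)) : Matrix (Fin 2) (Fin 2) F) = 1 → χ g = -1) ∧ (((g ^ ((Fintype.card F + 1) / 2)) : Matrix (Fin 2) (Fin 2) F) ≠ 1 → χ g = 1)) := by
  classical
  have hF : ringChar F ≠ 2 := by
    intro h
    have := FiniteField.even_card_of_char_two h
    rw [Nat.odd_iff] at hodd
    omega
  have h2 : (2 : F) ≠ 0 := Ring.two_ne_zero hF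
  constructor
  · intro hdeg h01 h10 hsq
    obtain ⟨k, hk⟩ := hodd
    have hcases := SL2_degree_cases hχ _ hdeg
    rcases hcases with h | h | h | h | h | h
    · have := h.1; omega
    · have := h.1; omega
    · have := h.1; omega
    · obtain ⟨-, μ, hμ1, hμ2, χ', hP⟩ := h
      have hd := SL2_diag_entries g h01
      have h00 : (g : Matrix (Fin 2) (Fin 2) F) 0 0 ≠ 0 := by
        intro h0
        rw [h0, zero_mul] at hd
        exact zero_ne_one hd
      have htr : (g : Matrix (Fin 2) (Fin 2) F).trace ^ 2 ≠ 4 := by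
        intro ht
        apply hsq
        rw [Matrix.trace_fin_two] at ht
        have h3 : ((g : Matrix (Fin 2) (Fin 2) F) 0 0 - (g : Matrix (Fin 2) (Fin 2) F) 1 1) ^ 2
            = 0 := by
          linear_combination ht - 4 * hd
        have h4 : (g : Matrix (Fin 2) (Fin 2) F) 0 0 = (g : Matrix (Fin 2) (Fin 2) F) 1 1 :=
          sub_eq_zero.1 ((pow_eq_zero_iff (two_ne_zero)).1 h3)
        rw [pow_two]
        nth_rw 2 [h4]
        exact hd
      have h2χ := hP.two_mul_apply g (hP.eq_of_trace_sq_ne hF g htr)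
      rw [psSL_apply_split μ g h01 h10 hsq] at h2χ
      have hμsq : ∀ x : F, x ≠ 0 → μ x * μ x = 1 := by
        intro x hx
        have := congrArg (fun ε : MulChar F ℂ => ε x) hμ2
        simp only [MulChar.pow_apply' _ (two_ne_zero), MulChar.one_apply (IsUnit.mk0 x hx)] at this
        rw [← pow_two]
        exact this
      have hμ11 : μ ((g : Matrix (Fin 2) (Fin 2) F) 1 1) = μ ((g : Matrix (Fin 2) (Fin 2) F) 0 0) := by
        have h5 : μ ((g : Matrix (Fin 2) (Fin 2) F) 0 0) * μ ((g : Matrix (Fin 2) (Fin 2) F) 1 1)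
            = 1 := by
          rw [← map_mul, hd, map_one]
        have h6 := hμsq _ h00
        have h7 : μ ((g : Matrix (Fin 2) (Fin 2) F) 0 0) ≠ 0 := by
          intro h0
          rw [h0, zero_mul] at h6
          exact zero_ne_one h6
        apply mul_left_cancel₀ h7
        rw [h5, h6]
      rw [hμ11] at h2χ
      have hχg : χ g = μ ((g : Matrix (Fin 2) (Fin 2) F) 0 0) := by
        apply mul_left_cancel₀ (two_ne_zero' ℂ)
        rw [h2χ]
        ring
      rw [hχg]
      exact quadratic_apply hF μ hμ1 hμ2 _ h00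
    · have := h.1; omega
    · have := h.1; omega
  · intro hdeg hg
    have hgell : IsElliptic g := hg
    obtain ⟨g₀, hg₀⟩ := exists_elliptic (F := F)
    have hC : IsCyclic (torus g₀) := isCyclic_torus hg₀
    obtain ⟨P, hP⟩ := exists_conj_mem_torus hF hg₀ g hgell
    have hcell : IsElliptic (P * g * P⁻¹) := isElliptic_of_isConj hgell (isConj_iff.2 ⟨P, rfl⟩)
    obtain ⟨θ₀, hθ1, hθsq, hval⟩ := half_sub_apply_torus hodd hq hg₀ hC hχ hdeg
      ⟨P * g * P⁻¹, hP⟩ hcell.not_scalar
    have hχg : χ g = χ (P * g * P⁻¹) := ((isClassFunction_of_isIrrCharacter hχ) g P).symm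
    have hθ := theta0_apply hF hodd hg₀ hC θ₀ hθ1 hθsq ⟨P * g * P⁻¹, hP⟩
    have hpow : (⟨P * g * P⁻¹, hP⟩ : torus g₀) ^ ((Fintype.card F + 1) / 2) = 1 ↔
        ((g ^ ((Fintype.card F + 1) / 2)) : Matrix (Fin 2) (Fin 2) F) = 1 := by
      rw [Subtype.ext_iff, SubmonoidClass.coe_pow]
      change (P * g * P⁻¹) ^ _ = 1 ↔ _
      rw [conj_pow, conj_eq_one_iff, ← Matrix.SpecialLinearGroup.coe_pow]
      constructor
      · intro h
        rw [h]
        rfl
      · intro h
        apply Subtype.ext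
        rw [h]
        rfl
    have hval' : χ g = -((θ₀ ⟨P * g * P⁻¹, hP⟩ : ℂˣ) : ℂ) := by
      rw [hχg]
      exact hval
    constructor
    · intro h
      rw [hval', hθ.1 (hpow.2 h)]
      simp
    · intro h
      rw [hval', hθ.2 (fun h' => h (hpow.1 h'))]
      simp

end Cfsg.Agent.S2435
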