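import Mathlib
import Cfsg.Statements.S2436
import Cfsg.Agent.Lib.Helper12.SL2McKayTwo

set_option autoImplicit false
open Cfsg

namespace Cfsg.Agent.S2436

open Cfsg.Agent.Helper12 Cfsg.Agent.Helper24 Cfsg.Agent.Helper5

universe u

/-- odd primes different from the characteristic -/
theorem mckay_odd {F : Type u} [Field F] [Fintype F] [DecidableEq F]
    (hodd : Odd (Fintype.card F)) (hF : ringChar F ≠ 2)
    (ℓ : ℕ) [Fact ℓ.Prime] (hℓ2 : ℓ ≠ 2) (p : ℕ) [Fact p.Prime] [CharP F p] (hℓp : ℓ ≠ p)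
    (hdvd : ℓ ∣ Nat.card (Matrix.SpecialLinearGroup (Fin 2) F))
    (S : Sylow ℓ (Matrix.SpecialLinearGroup (Fin 2) F)) :
    Nat.card {χ : IrrCharacter (Matrix.SpecialLinearGroup (Fin 2) F) //
      ¬ ℓ ∣ charDegree (χ : Matrix.SpecialLinearGroup (Fin 2) F → ℂ)} =
    Nat.card {ψ : IrrCharacter (Subgroup.normalizer
      ((S : Subgroup (Matrix.SpecialLinearGroup (Fin 2) F)) :
        Set (Matrix.SpecialLinearGroup (Fin 2) F))) //
      ¬ ℓ ∣ charDegree (ψ : Subgroup.normalizer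
      ((S : Subgroup (Matrix.SpecialLinearGroup (Fin 2) F)) :
        Set (Matrix.SpecialLinearGroup (Fin 2) F)) → ℂ)} := by
  have h2 : (2 : F) ≠ 0 := Ring.two_ne_zero hF
  have hℓpr : ℓ.Prime := Fact.out
  have hpp : p.Prime := Fact.out
  obtain ⟨n, -, hq⟩ := FiniteField.card F p
  have hq2 : 2 ≤ Fintype.card F := Fintype.one_lt_card
  obtain ⟨c, hcP, hc1, hcomm, k, hk⟩ := Cfsg.Agent.S2430.exists_central_elt S hdvd
  have hcop2 : Nat.Coprime ℓ 2 := (Nat.coprime_primes hℓpr Nat.prime_two).2 hℓ2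
  have hcop3 : Nat.Coprime (ℓ ^ k) (2 * p) :=
    Nat.Coprime.pow_left k (Nat.Coprime.mul_right hcop2 ((Nat.coprime_primes hℓpr hpp).2 hℓp))
  have hroot : ∀ l : F, l ^ 2 - (c : Matrix (Fin 2) (Fin 2) F).trace * l + 1 = 0 →
      l ^ 2 ≠ 1 := by
    intro l hl hl1
    exact hc1 (eq_one_of_pow_coprime c _ _ hk (SL2_pow_two_char_eq_one p c l hl hl1) hcop3)
  have htr : (c : Matrix (Fin 2) (Fin 2) F).trace ^ 2 ≠ 4 := by
    intro ht
    apply hroot ((c : Matrix (Fin 2) (Fin 2) F).trace / 2)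
    · field_simp
      linear_combination -ht
    · field_simp
      linear_combination ht
  obtain ⟨hr, hcyc, hcard⟩ := regular_of_trace_sq_ne hF c htr
  have hP : (S : Subgroup (Matrix.SpecialLinearGroup (Fin 2) F)) ≤ torus c := by
    intro x hx
    rw [mem_torus_iff]
    exact hcomm x hx
  have hN := normalizer_eq_normalizer_torus hr
    (S : Subgroup (Matrix.SpecialLinearGroup (Fin 2) F)) hcP hP
  -- `ℓ` divides the order of the torus
  have hℓT : ℓ ∣ Nat.card (torus c) := by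
    have h1 : orderOf c ∣ ℓ ^ k := orderOf_dvd_of_pow_eq_one hk
    obtain ⟨j, hj, hj'⟩ := (Nat.dvd_prime_pow hℓpr).1 h1
    have hj0 : j ≠ 0 := by
      rintro rfl
      rw [pow_zero, orderOf_eq_one_iff] at hj'
      exact hc1 hj'
    have h3 : ℓ ∣ orderOf c := by rw [hj']; exact dvd_pow_self ℓ hj0
    exact dvd_trans h3 (Subgroup.orderOf_dvd_natCard _ (self_mem_torus c))
  have hdvd2 : ¬ ℓ ∣ 2 := fun h => hℓ2 ((Nat.prime_dvd_prime_iff_eq hℓpr Nat.prime_two).1 h)
  -- the right hand side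
  have hidx := index_torus_normalizer hF hr htr
  have hall : ∀ ψ : IrrCharacter (Subgroup.normalizer ((torus c :
      Subgroup (Matrix.SpecialLinearGroup (Fin 2) F)) :
        Set (Matrix.SpecialLinearGroup (Fin 2) F))),
      ¬ ℓ ∣ charDegree (ψ : Subgroup.normalizer ((torus c :
      Subgroup (Matrix.SpecialLinearGroup (Fin 2) F)) :
        Set (Matrix.SpecialLinearGroup (Fin 2) F)) → ℂ) := by
    intro ψ hdvdψ
    haveI : ((torus c).subgroupOf (Subgroup.normalizer ((torus c :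
      Subgroup (Matrix.SpecialLinearGroup (Fin 2) F)) :
        Set (Matrix.SpecialLinearGroup (Fin 2) F)))).Normal :=
      Subgroup.normal_of_index_eq_two hidx
    have hab : ∀ a ∈ (torus c).subgroupOf (Subgroup.normalizer ((torus c :
      Subgroup (Matrix.SpecialLinearGroup (Fin 2) F)) :
        Set (Matrix.SpecialLinearGroup (Fin 2) F))),
        ∀ b ∈ (torus c).subgroupOf (Subgroup.normalizer ((torus c :
      Subgroup (Matrix.SpecialLinearGroup (Fin 2) F)) :
        Set (Matrix.SpecialLinearGroup (Fin 2) F))), a * b = b * a := by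
      rintro ⟨a, ha⟩ ha' ⟨b, hb⟩ hb'
      rw [Subgroup.mem_subgroupOf] at ha' hb'
      apply Subtype.ext
      exact torus_comm c hr.ns a b ha' hb'
    have h1 := charDegree_dvd_index_of_abelian_normal _ hab ψ
    rw [hidx] at h1
    exact hdvd2 (dvd_trans hdvdψ h1)
  have hRHS : 2 * Nat.card {ψ : IrrCharacter (Subgroup.normalizer
      ((S : Subgroup (Matrix.SpecialLinearGroup (Fin 2) F)) :
        Set (Matrix.SpecialLinearGroup (Fin 2) F))) //
      ¬ ℓ ∣ charDegree (ψ : Subgroup.normalizer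
      ((S : Subgroup (Matrix.SpecialLinearGroup (Fin 2) F)) :
        Set (Matrix.SpecialLinearGroup (Fin 2) F)) → ℂ)} = Nat.card (torus c) + 6 := by
    rw [card_irr_not_dvd_of_eq hN ℓ, card_irr_not_dvd_of_forall ℓ hall,
      card_conjClasses_normalizer_torus hF hr htr]
  -- `q ≥ 5`
  have hq5 : 5 ≤ Fintype.card F := by
    by_contra hcon
    have hq3 : Fintype.card F = 3 := by
      obtain ⟨k, hk⟩ := hodd
      omega
    rw [hq3] at hcard
    rcases hcard with h | h <;> rw [h] at hℓT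
    · exact hdvd2 hℓT
    · have : ℓ ∣ 2 ^ 2 := by
        norm_num
        exact hℓT
      exact hdvd2 (hℓpr.dvd_of_dvd_pow this)
  -- the left hand side
  have hLHS := card_irr_not_dvd_SL2 hodd hq5 ℓ
  have hnq : ¬ ℓ ∣ Fintype.card F := by
    intro h
    rw [hq] at h
    exact hℓp ((Nat.prime_dvd_prime_iff_eq hℓpr hpp).1 (hℓpr.dvd_of_dvd_pow h))
  have hn1 : ¬ ℓ ∣ 1 := fun h => hℓpr.one_lt.ne' (Nat.dvd_one.1 h)
  have hhalf : ∀ m : ℕ, Even m → (ℓ ∣ m / 2 ↔ ℓ ∣ m) := by
    rintro m ⟨j, hj⟩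
    have e : m / 2 = j := by omega
    rw [e]
    constructor
    · intro h
      rw [hj, ← two_mul]
      exact Dvd.dvd.mul_left h 2
    · intro h
      have : ℓ ∣ 2 * j := by rw [two_mul, ← hj]; exact h
      exact Nat.Coprime.dvd_of_dvd_mul_left hcop2 this
  have hev1 : Even (Fintype.card F + 1) := by
    obtain ⟨k, hk⟩ := hodd
    exact ⟨k + 1, by omega⟩
  have hev2 : Even (Fintype.card F - 1) := by
    obtain ⟨k, hk⟩ := hodd
    exact ⟨k, by omega⟩
  rw [hLHS]
  rcases hcard with hT | hT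
  · rw [hT] at hℓT hRHS
    have hnp1 : ¬ ℓ ∣ Fintype.card F + 1 := by
      intro h
      have : ℓ ∣ Fintype.card F + 1 - (Fintype.card F - 1) := Nat.dvd_sub h hℓT
      have e : Fintype.card F + 1 - (Fintype.card F - 1) = 2 := by omega
      rw [e] at this
      exact hdvd2 this
    rw [if_neg hn1, if_neg hnq, if_neg hnp1, if_pos hℓT, if_neg (fun h => hnp1 ((hhalf _ hev1).1 h)),
      if_pos ((hhalf _ hev2).2 hℓT)]
    obtain ⟨k, hk⟩ := hodd
    omega
  · rw [hT] at hℓT hRHS
    have hnm1 : ¬ ℓ ∣ Fintype.card F - 1 := by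
      intro h
      have : ℓ ∣ Fintype.card F + 1 - (Fintype.card F - 1) := Nat.dvd_sub hℓT h
      have e : Fintype.card F + 1 - (Fintype.card F - 1) = 2 := by omega
      rw [e] at this
      exact hdvd2 this
    rw [if_neg hn1, if_neg hnq, if_pos hℓT, if_neg hnm1, if_pos ((hhalf _ hev1).2 hℓT),
      if_neg (fun h => hnm1 ((hhalf _ hev2).1 h))]
    obtain ⟨k, hk⟩ := hodd
    omega

/-- the prime two -/
theorem mckay_two {F : Type u} [Field F] [Fintype F] [DecidableEq F]
    (hodd : Odd (Fintype.card F)) (hF : ringChar F ≠ 2)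
    (S : Sylow 2 (Matrix.SpecialLinearGroup (Fin 2) F)) :
    Nat.card {χ : IrrCharacter (Matrix.SpecialLinearGroup (Fin 2) F) //
      ¬ 2 ∣ charDegree (χ : Matrix.SpecialLinearGroup (Fin 2) F → ℂ)} =
    Nat.card {ψ : IrrCharacter (Subgroup.normalizer
      ((S : Subgroup (Matrix.SpecialLinearGroup (Fin 2) F)) :
        Set (Matrix.SpecialLinearGroup (Fin 2) F))) //
      ¬ 2 ∣ charDegree (ψ : Subgroup.normalizer
      ((S : Subgroup (Matrix.SpecialLinearGroup (Fin 2) F)) :
        Set (Matrix.SpecialLinearGroup (Fin 2) F)) → ℂ)} := by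
  have h2 : (2 : F) ≠ 0 := Ring.two_ne_zero hF
  have hq2 : 2 ≤ Fintype.card F := Fintype.one_lt_card
  obtain ⟨c, h⟩ := exists_quatData hodd S
  have htr := trace_sq_ne_of_sq h2 h.sq
  obtain ⟨hr, hcyc, hcard⟩ := regular_of_trace_sq_ne hF c htr
  -- the left hand side for `q ≥ 5`
  have hLHS : 5 ≤ Fintype.card F →
      Nat.card {χ : IrrCharacter (Matrix.SpecialLinearGroup (Fin 2) F) //
      ¬ 2 ∣ charDegree (χ : Matrix.SpecialLinearGroup (Fin 2) F → ℂ)} = 4 := by
    intro hq5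
    rw [card_irr_not_dvd_SL2 hodd hq5 2]
    obtain ⟨k, hk⟩ := hodd
    rw [hk]
    have e1 : (2 * k + 1 + 1) / 2 = k + 1 := by omega
    have e2 : (2 * k + 1 - 1) / 2 = k := by omega
    rw [e1, e2]
    split_ifs <;> omega
  by_cases h8 : 8 ∣ Nat.card (torus c)
  · have hq5 : 5 ≤ Fintype.card F := by
      have := Nat.le_of_dvd Nat.card_pos h8
      rcases hcard with h' | h' <;> omega
    rw [hLHS hq5, card_irr_not_dvd_of_eq (h.normalizer_eq hF h8) 2,
      card_irr_odd_of_quatData h hF]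
  · rw [card_irr_odd_normalizer_of_not_eight_dvd S h hF h8]
    by_cases hq5 : 5 ≤ Fintype.card F
    · exact hLHS hq5
    · have hq3 : Fintype.card F = 3 := by
        obtain ⟨k, hk⟩ := hodd
        omega
      exact card_irr_odd_SL2_of_card_three S h hF h8 hq3

/-- Let F be a finite field with q elements, q odd, ℓ any prime and S a Sylow ℓ-subgroup of SL₂ over F with normaliser N. Then SL₂ and N have the same number of irreducible complex characters of degree not divisible by ℓ (the McKay equality holds for SL₂ over F at every prime). -/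
theorem result {F : Type*} [Field F] [Fintype F] (hodd : Odd (Fintype.card F)) (ℓ : ℕ) [Fact ℓ.Prime] (S : Sylow ℓ (Matrix.SpecialLinearGroup (Fin 2) F)) :
    Nat.card {χ : Cfsg.IrrCharacter (Matrix.SpecialLinearGroup (Fin 2) F) // ¬ ℓ ∣ Cfsg.charDegree (χ : Matrix.SpecialLinearGroup (Fin 2) F → ℂ)} =
      Nat.card {ψ : Cfsg.IrrCharacter (Subgroup.normalizer ((S : Subgroup (Matrix.SpecialLinearGroup (Fin 2) F)) : Set (Matrix.SpecialLinearGroup (Fin 2) F))) //
        ¬ ℓ ∣ Cfsg.charDegree (ψ : Subgroup.normalizer ((S : Subgroup (Matrix.SpecialLinearGroup (Fin 2) F)) : Set (Matrix.SpecialLinearGroup (Fin 2) F)) → ℂ)} := by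
  classical
  have hF : ringChar F ≠ 2 := by
    intro h
    have := FiniteField.even_card_of_char_two h
    rw [Nat.odd_iff] at hodd
    omega
  obtain ⟨p, hp⟩ := CharP.exists F
  haveI := hp
  obtain ⟨n, hpp, hq⟩ := FiniteField.card F p
  haveI : Fact p.Prime := ⟨hpp⟩
  by_cases hdvd : ℓ ∣ Nat.card (Matrix.SpecialLinearGroup (Fin 2) F)
  · by_cases hℓp : ℓ = p
    · subst hℓp
      rw [card_irr_not_dvd_char hF ℓ, card_irr_normalizer_sylow_char hF ℓ S]
    · by_cases hℓ2 : ℓ = 2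
      · subst hℓ2
        exact mckay_two hodd hF S
      · exact mckay_odd hodd hF ℓ hℓ2 p hℓp hdvd S
  · exact mckay_of_not_dvd ℓ hdvd S

end Cfsg.Agent.S2436
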