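import Mathlib
import Cfsg.Statements.S2437
import Cfsg.Agent.Lib.Helper12.SL2Borel
import Cfsg.Agent.Lib.Helper12.ConjCount

set_option autoImplicit false
open Cfsg

namespace Cfsg.Agent.S2437

open Cfsg.Agent.Helper12

open Classical

variable {F : Type*} [Field F]

/-- the upper left entry -/
def ea (x : borelSL2 F) : F :=
  ((x : Matrix.SpecialLinearGroup (Fin 2) F) : Matrix (Fin 2) (Fin 2) F) 0 0
/-- the upper right entry -/
def eb (x : borelSL2 F) : F :=
  ((x : Matrix.SpecialLinearGroup (Fin 2) F) : Matrix (Fin 2) (Fin 2) F) 0 1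
/-- the lower right entry -/
def ed (x : borelSL2 F) : F :=
  ((x : Matrix.SpecialLinearGroup (Fin 2) F) : Matrix (Fin 2) (Fin 2) F) 1 1

theorem ea_ne (x : borelSL2 F) : ea x ≠ 0 := borel_entry_00_ne x
theorem ea_mul_ed (x : borelSL2 F) : ea x * ed x = 1 := borel_entry_mul x

theorem isConj_iff' (x y : borelSL2 F) :
    IsConj x y ↔ ea x = ea y ∧ ∃ s t : F, s ≠ 0 ∧ eb y = s ^ 2 * eb x + s * t * (ed x - ea x) :=
  borel_isConj_iff x y

theorem ed_eq_ea (x : borelSL2 F) (h : ea x * ea x = 1) : ed x = ea x := by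
  have := ea_mul_ed x
  have h2 : ea x * (ed x - ea x) = 0 := by linear_combination this - h
  rcases mul_eq_zero.1 h2 with h3 | h3
  · exact absurd h3 (ea_ne x)
  · exact sub_eq_zero.1 h3

theorem ed_sub_ea_ne (x : borelSL2 F) (h : ea x * ea x ≠ 1) : ed x - ea x ≠ 0 := by
  intro h0
  apply h
  have := ea_mul_ed x
  rw [sub_eq_zero.1 h0] at this
  exact this

/-- the square class code of an element of the field -/
noncomputable def cls (b : F) : Fin 3 := if b = 0 then 0 else if IsSquare b then 1 else 2

theorem cls_eq_of_smul (b s : F) (hs : s ≠ 0) : cls (s ^ 2 * b) = cls b := by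
  unfold cls
  have h1 : s ^ 2 * b = 0 ↔ b = 0 := by
    simp [hs]
  have h2 : IsSquare (s ^ 2 * b) ↔ IsSquare b := by
    constructor
    · rintro ⟨r, hr⟩
      refine ⟨r / s, ?_⟩
      field_simp
      linear_combination hr
    · rintro ⟨r, hr⟩
      exact ⟨s * r, by rw [hr]; ring⟩
  simp only [h1, h2]

theorem exists_of_cls_eq [Fintype F] (hF : ringChar F ≠ 2) (b b' : F) (h : cls b = cls b') :
    ∃ s : F, s ≠ 0 ∧ b' = s ^ 2 * b := by
  unfold cls at h
  by_cases hb : b = 0
  · rw [if_pos hb] at h
    have hb' : b' = 0 := by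
      by_contra hb'
      rw [if_neg hb'] at h
      split_ifs at h <;> simp at h
    exact ⟨1, one_ne_zero, by rw [hb, hb']; ring⟩
  · rw [if_neg hb] at h
    have hb' : b' ≠ 0 := by
      intro hb'
      rw [if_pos hb'] at h
      split_ifs at h <;> simp at h
    rw [if_neg hb'] at h
    by_cases hsq : IsSquare b
    · rw [if_pos hsq] at h
      have hsq' : IsSquare b' := by
        by_contra hsq'
        rw [if_neg hsq'] at h
        simp at h
      obtain ⟨u, hu⟩ := hsq
      obtain ⟨v, hv⟩ := hsq'
      have hu0 : u ≠ 0 := by rintro rfl; exact hb (by rw [hu, mul_zero])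
      have hv0 : v ≠ 0 := by rintro rfl; exact hb' (by rw [hv, mul_zero])
      refine ⟨v / u, div_ne_zero hv0 hu0, ?_⟩
      rw [hu, hv]
      field_simp
    · rw [if_neg hsq] at h
      have hsq' : ¬ IsSquare b' := by
        intro hsq'
        rw [if_pos hsq'] at h
        simp at h
      obtain ⟨r, hr⟩ := isSquare_mul_of_not_isSquare hF b b' hsq hsq'
      have hr0 : r ≠ 0 := by
        rintro rfl
        rw [mul_zero] at hr
        rcases mul_eq_zero.1 hr with h | h
        · exact hb h
        · exact hb' h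
      refine ⟨r / b, div_ne_zero hr0 hb, ?_⟩
      field_simp
      rw [pow_two, ← hr]; ring

/-- the target of the complete invariant -/
abbrev T (F : Type*) [Field F] := {a : F // a ≠ 0 ∧ a * a ≠ 1} ⊕ (Bool × Fin 3)

/-- the complete invariant of conjugacy classes of the Borel subgroup -/
noncomputable def inv (x : borelSL2 F) : T F :=
  if h : ea x * ea x ≠ 1 then Sum.inl ⟨ea x, ea_ne x, h⟩
  else Sum.inr (decide (ea x = 1), cls (eb x))

theorem inv_of_ne (x : borelSL2 F) (h : ea x * ea x ≠ 1) :
    inv x = Sum.inl ⟨ea x, ea_ne x, h⟩ := by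
  unfold inv; rw [dif_pos h]

theorem inv_of_eq (x : borelSL2 F) (h : ea x * ea x = 1) :
    inv x = Sum.inr (decide (ea x = 1), cls (eb x)) := by
  unfold inv; rw [dif_neg (not_not.2 h)]

theorem inv_eq_of_isConj (x y : borelSL2 F) (hc : IsConj x y) : inv x = inv y := by
  obtain ⟨h00, s, t, hs, h01⟩ := (isConj_iff' x y).1 hc
  by_cases h : ea x * ea x ≠ 1
  · have h' : ea y * ea y ≠ 1 := by rwa [← h00]
    rw [inv_of_ne x h, inv_of_ne y h']
    congr 1
    exact Subtype.ext h00
  · rw [not_not] at h
    have h' : ea y * ea y = 1 := by rwa [← h00]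
    rw [inv_of_eq x h, inv_of_eq y h']
    rw [ed_eq_ea x h, sub_self, mul_zero, add_zero] at h01
    rw [h01, cls_eq_of_smul _ _ hs, h00]

theorem isConj_of_inv_eq [Fintype F] (hF : ringChar F ≠ 2) (x y : borelSL2 F)
    (hi : inv x = inv y) : IsConj x y := by
  rw [isConj_iff']
  by_cases h : ea x * ea x ≠ 1
  · rw [inv_of_ne x h] at hi
    by_cases h' : ea y * ea y ≠ 1
    · rw [inv_of_ne y h'] at hi
      have h00 : ea x = ea y := congrArg Subtype.val (Sum.inl_injective hi)
      refine ⟨h00, 1, (eb y - eb x) / (ed x - ea x), one_ne_zero, ?_⟩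
      have := ed_sub_ea_ne x h
      field_simp
      ring
    · rw [not_not] at h'
      rw [inv_of_eq y h'] at hi
      simp at hi
  · rw [not_not] at h
    rw [inv_of_eq x h] at hi
    by_cases h' : ea y * ea y ≠ 1
    · rw [inv_of_ne y h'] at hi
      simp at hi
    · rw [not_not] at h'
      rw [inv_of_eq y h'] at hi
      have hi' := Sum.inr_injective hi
      rw [Prod.mk.injEq] at hi'
      obtain ⟨hd, hcl⟩ := hi'
      have hx : ea x = 1 ∨ ea x = -1 := by
        have : (ea x - 1) * (ea x + 1) = 0 := by linear_combination h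
        rcases mul_eq_zero.1 this with h | h
        · left; exact sub_eq_zero.1 h
        · right; exact eq_neg_of_add_eq_zero_left h
      have hy : ea y = 1 ∨ ea y = -1 := by
        have : (ea y - 1) * (ea y + 1) = 0 := by linear_combination h'
        rcases mul_eq_zero.1 this with h | h
        · left; exact sub_eq_zero.1 h
        · right; exact eq_neg_of_add_eq_zero_left h
      have h00 : ea x = ea y := by
        rw [decide_eq_decide] at hd
        rcases hx with h1 | h1 <;> rcases hy with h2 | h2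
        · rw [h1, h2]
        · rw [h1, hd.1 h1]
        · rw [hd.2 h2, h2]
        · rw [h1, h2]
      obtain ⟨s, hs, hb⟩ := exists_of_cls_eq hF _ _ hcl
      refine ⟨h00, s, 0, hs, ?_⟩
      rw [hb]; ring

theorem ea_borelMk (s t : F) (hs : s ≠ 0) : ea (borelMk s t hs) = s := by
  unfold ea; rw [borelMk_coe]; simp

theorem eb_borelMk (s t : F) (hs : s ≠ 0) : eb (borelMk s t hs) = t := by
  unfold eb; rw [borelMk_coe]; simp

theorem inv_surjective [Fintype F] (hF : ringChar F ≠ 2) :
    Function.Surjective (inv : borelSL2 F → T F) := by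
  have h2 : (2 : F) ≠ 0 := Ring.two_ne_zero hF
  obtain ⟨η, hη⟩ := quadraticChar_exists_neg_one hF
  rw [quadraticChar_neg_one_iff_not_isSquare] at hη
  have hη0 : η ≠ 0 := by
    rintro rfl
    exact hη IsSquare.zero
  have hneg : (-1 : F) ≠ 1 := by
    intro h
    apply h2
    linear_combination (-1 : F) * h
  rintro (⟨a, ha0, ha1⟩ | ⟨e, i⟩)
  · refine ⟨borelMk a 0 ha0, ?_⟩
    rw [inv_of_ne _ (by rw [ea_borelMk]; exact ha1)]
    congr 1
  · -- choose the diagonal entry and the corner
    obtain ⟨s, hs0, hss, hsd⟩ : ∃ s : F, s ≠ 0 ∧ s * s = 1 ∧ decide (s = 1) = e := by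
      cases e
      · exact ⟨-1, by norm_num, by ring, by simpa using hneg⟩
      · exact ⟨1, one_ne_zero, by ring, by simp⟩
    obtain ⟨b, hb⟩ : ∃ b : F, cls b = i := by
      fin_cases i
      · exact ⟨0, by simp [cls]⟩
      · exact ⟨1, by simp [cls]⟩
      · exact ⟨η, by simp [cls, hη0, hη]⟩
    refine ⟨borelMk s b hs0, ?_⟩
    rw [inv_of_eq _ (by rw [ea_borelMk]; exact hss), ea_borelMk, eb_borelMk, hsd, hb]

theorem card_T [Fintype F] (hF : ringChar F ≠ 2) (h3 : 3 ≤ Fintype.card F) :
    Nat.card (T F) = Fintype.card F + 3 := by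
  have h2 : (2 : F) ≠ 0 := Ring.two_ne_zero hF
  have hneg : (-1 : F) ≠ 1 := by
    intro h
    apply h2
    linear_combination (-1 : F) * h
  rw [Nat.card_sum, Nat.card_prod, Nat.card_eq_fintype_card, Nat.card_eq_fintype_card,
    Nat.card_eq_fintype_card, Fintype.card_bool, Fintype.card_fin, Fintype.card_subtype]
  have : (Finset.univ.filter fun a : F => a ≠ 0 ∧ a * a ≠ 1) = Finset.univ \ {0, 1, -1} := by
    ext a
    simp only [Finset.mem_filter, Finset.mem_univ, true_and, Finset.mem_sdiff, Finset.mem_insert,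
      Finset.mem_singleton, not_or]
    constructor
    · rintro ⟨h0, h1⟩
      refine ⟨h0, ?_, ?_⟩
      · rintro rfl; exact h1 (by ring)
      · rintro rfl; exact h1 (by ring)
    · rintro ⟨h0, h1, h1'⟩
      refine ⟨h0, ?_⟩
      intro h
      have : (a - 1) * (a + 1) = 0 := by linear_combination h
      rcases mul_eq_zero.1 this with h | h
      · exact h1 (sub_eq_zero.1 h)
      · exact h1' (eq_neg_of_add_eq_zero_left h)
  rw [this, Finset.card_sdiff_of_subset (Finset.subset_univ _), Finset.card_univ]
  have hc : ({0, 1, -1} : Finset F).card = 3 := by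
    rw [Finset.card_insert_of_notMem, Finset.card_pair hneg.symm]
    simp only [Finset.mem_insert, Finset.mem_singleton, not_or]
    exact ⟨zero_ne_one, by norm_num⟩
  rw [hc]
  omega

/-- Over a finite field F with q elements, q odd, the upper triangular subgroup of SL₂ (a Borel subgroup, of order q(q − 1)) has exactly q + 3 conjugacy classes. -/
theorem result {F : Type*} [Field F] [Fintype F] (hodd : Odd (Fintype.card F)) :
    Nat.card (ConjClasses ((Cfsg.upperTriangularGL 2 F).comap Matrix.SpecialLinearGroup.toGL)) = Fintype.card F + 3 := by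
  have hF : ringChar F ≠ 2 := by
    intro h
    have := FiniteField.even_card_iff_char_two.1 h
    rw [Nat.odd_iff] at hodd
    omega
  have h3 : 3 ≤ Fintype.card F := by
    have h1 : 1 < Fintype.card F := Fintype.one_lt_card
    rw [Nat.odd_iff] at hodd
    omega
  change Nat.card (ConjClasses (borelSL2 F)) = _
  rw [card_conjClasses_of_invariant inv inv_eq_of_isConj (isConj_of_inv_eq hF) (inv_surjective hF),
    card_T hF h3]

end Cfsg.Agent.S2437
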