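import Mathlib
import Cfsg.Statements.S2438
import Cfsg.Agent.Lib.Helper12.SL2Half

set_option autoImplicit false
open Cfsg

namespace Cfsg.Agent.S2438

open Cfsg.Agent.Helper12 Cfsg.Agent.Helper24 Cfsg.Agent.Helper5

variable {F : Type*} [Field F] [Fintype F] [DecidableEq F]

theorem uni_entries (b : F) :
    ((uni b : Matrix.SpecialLinearGroup (Fin 2) F) : Matrix (Fin 2) (Fin 2) F) 1 0 = 0 ∧
    ((uni b : Matrix.SpecialLinearGroup (Fin 2) F) : Matrix (Fin 2) (Fin 2) F) 0 0 = 1 ∧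
    ((uni b : Matrix.SpecialLinearGroup (Fin 2) F) : Matrix (Fin 2) (Fin 2) F) 1 1 = 1 ∧
    ((uni b : Matrix.SpecialLinearGroup (Fin 2) F) : Matrix (Fin 2) (Fin 2) F) 0 1 = b := by
  rw [uni_coe]
  simp

theorem sum_psSL_uni (μ : MulChar F ℂ) :
    ∑ b : F, psSL μ (uni b) = 2 * (Fintype.card F : ℂ) := by
  rw [sum_field_of_const (fun b => psSL μ (uni b)) 1, uni_zero, psSL_one_apply]
  · ring
  · intro b hb
    obtain ⟨h10, h00, h11, h01⟩ := uni_entries b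
    show psSL μ (uni b) = 1
    rw [psSL_apply_upper μ (uni b) h10 (by rw [h00, h11]) (by rw [h01]; exact hb), h00, map_one]

theorem sum_stSL_uni : ∑ b : F, stSL (uni b) = (Fintype.card F : ℂ) := by
  rw [sum_field_of_const (fun b => stSL (uni b)) 0, uni_zero, stSL_one_apply]
  · ring
  · intro b hb
    obtain ⟨h10, h00, h11, h01⟩ := uni_entries b
    show stSL (uni b) = 0
    unfold stSL st
    rw [resSL_apply, Pi.sub_apply, detChar_apply, toGL_coe, (uni b).2, map_one,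
      ps_apply_unipotent 1 1 _ (by rw [toGL_coe, h10]) (by rw [toGL_coe, h00, h11])
        (by rw [toGL_coe, h01]; exact hb), toGL_coe, h00, map_one]
    ring

theorem sum_cuspidal_uni {π : GL (Fin 2) F → ℂ} (hπ : IsIrrCharacter (GL (Fin 2) F) π)
    (hc : IsCuspidalGL2 π) (hdeg : π 1 = (Fintype.card F : ℂ) - 1) :
    ∑ b : F, resSL π (uni b) = 0 := by
  rw [sum_field_of_const (fun b => resSL π (uni b)) (-1), uni_zero, resSL_one, hdeg]
  · ring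
  · intro b hb
    obtain ⟨h10, h00, h11, h01⟩ := uni_entries b
    show resSL π (uni b) = -1
    rw [resSL_apply]
    apply cuspidal_apply_unipotent hπ hc hdeg
    · rw [toGL_coe, h10]
    · rw [toGL_coe, h00]
    · rw [toGL_coe, h11]
    · rw [toGL_coe, h01]; exact hb

/-- Over a finite field F with q elements, q odd and q ≥ 5, the sum of an irreducible complex character of SL₂ over the upper unitriangular subgroup is 2q, q, 0, q, 0 according as its degree is q + 1, q, q − 1, (q + 1)/2, (q − 1)/2. -/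
theorem result {F : Type*} [Field F] [Fintype F] [DecidableEq F] (hodd : Odd (Fintype.card F)) (hq : 5 ≤ Fintype.card F)
    (χ : Matrix.SpecialLinearGroup (Fin 2) F → ℂ) (hχ : Cfsg.IsIrrCharacter (Matrix.SpecialLinearGroup (Fin 2) F) χ) :
    (χ 1 = (Fintype.card F : ℂ) + 1 →
      (∑ g : Matrix.SpecialLinearGroup (Fin 2) F, if (g : Matrix (Fin 2) (Fin 2) F) 1 0 = 0 ∧ (g : Matrix (Fin 2) (Fin 2) F) 0 0 = 1 ∧ (g : Matrix (Fin 2) (Fin 2) F) 1 1 = 1 then χ g else 0) = 2 * (Fintype.card F : ℂ)) ∧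
    (χ 1 = (Fintype.card F : ℂ) →
      (∑ g : Matrix.SpecialLinearGroup (Fin 2) F, if (g : Matrix (Fin 2) (Fin 2) F) 1 0 = 0 ∧ (g : Matrix (Fin 2) (Fin 2) F) 0 0 = 1 ∧ (g : Matrix (Fin 2) (Fin 2) F) 1 1 = 1 then χ g else 0) = (Fintype.card F : ℂ)) ∧
    (χ 1 = (Fintype.card F : ℂ) - 1 →
      (∑ g : Matrix.SpecialLinearGroup (Fin 2) F, if (g : Matrix (Fin 2) (Fin 2) F) 1 0 = 0 ∧ (g : Matrix (Fin 2) (Fin 2) F) 0 0 = 1 ∧ (g : Matrix (Fin 2) (Fin 2) F) 1 1 = 1 then χ g else 0) = 0) ∧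
    (χ 1 = (((Fintype.card F + 1) / 2 : ℕ) : ℂ) →
      (∑ g : Matrix.SpecialLinearGroup (Fin 2) F, if (g : Matrix (Fin 2) (Fin 2) F) 1 0 = 0 ∧ (g : Matrix (Fin 2) (Fin 2) F) 0 0 = 1 ∧ (g : Matrix (Fin 2) (Fin 2) F) 1 1 = 1 then χ g else 0) = (Fintype.card F : ℂ)) ∧
    (χ 1 = (((Fintype.card F - 1) / 2 : ℕ) : ℂ) →
      (∑ g : Matrix.SpecialLinearGroup (Fin 2) F, if (g : Matrix (Fin 2) (Fin 2) F) 1 0 = 0 ∧ (g : Matrix (Fin 2) (Fin 2) F) 0 0 = 1 ∧ (g : Matrix (Fin 2) (Fin 2) F) 1 1 = 1 then χ g else 0) = 0) := by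
  obtain ⟨k, hk⟩ := hodd
  rw [sum_unitriangular]
  refine ⟨?_, ?_, ?_, ?_, ?_⟩
  · intro h1
    rcases SL2_degree_cases hχ (Fintype.card F + 1) (by rw [h1]; simp) with
      ⟨h, -⟩ | ⟨h, -⟩ | ⟨-, μ, -, h⟩ | ⟨h, -⟩ | ⟨h, -⟩ | ⟨h, -⟩
    · omega
    · omega
    · rw [h]; exact sum_psSL_uni μ
    all_goals omega
  · intro h1
    rcases SL2_degree_cases hχ (Fintype.card F) h1 with
      ⟨h, -⟩ | ⟨-, h⟩ | ⟨h, -⟩ | ⟨h, -⟩ | ⟨h, -⟩ | ⟨h, -⟩
    · omega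
    · rw [h]; exact sum_stSL_uni
    all_goals omega
  · intro h1
    have hd : χ 1 = ((Fintype.card F - 1 : ℕ) : ℂ) := by
      rw [h1, Nat.cast_sub (by omega), Nat.cast_one]
    rcases SL2_degree_cases hχ (Fintype.card F - 1) hd with
      ⟨h, -⟩ | ⟨h, -⟩ | ⟨h, -⟩ | ⟨h, -⟩ | ⟨-, π, hπ, hc, hdeg, -, hres⟩ | ⟨h, -⟩
    · omega
    · omega
    · omega
    · omega
    · rw [← hres]; exact sum_cuspidal_uni hπ hc hdeg
    · omega
  · intro h1
    rcases SL2_degree_cases hχ _ h1 with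
      ⟨h, -⟩ | ⟨h, -⟩ | ⟨h, -⟩ | ⟨-, μ, -, -, χ', hP⟩ | ⟨h, -⟩ | ⟨h, -⟩
    · omega
    · omega
    · omega
    · have h2 := hP.two_mul_sum_uni
      rw [sum_psSL_uni] at h2
      linear_combination (1 / 2 : ℂ) * h2
    · omega
    · omega
  · intro h1
    rcases SL2_degree_cases hχ _ h1 with
      ⟨h, -⟩ | ⟨h, -⟩ | ⟨h, -⟩ | ⟨h, -⟩ | ⟨h, -⟩ | ⟨-, π, hπ, hc, hdeg, -, χ', hP⟩
    · omega
    · omega
    · omega
    · omega
    · omega
    · have h2 := hP.two_mul_sum_uni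
      rw [sum_cuspidal_uni hπ hc hdeg] at h2
      linear_combination (1 / 2 : ℂ) * h2

end Cfsg.Agent.S2438
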