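import Mathlib
import Cfsg.Statements.S2439
import Cfsg.Agent.Lib.Helper12.SL2Quat
import Cfsg.Agent.Lib.Helper12.SL2Count
import Cfsg.Agent.Lib.Helper23.BlockCount
import Cfsg.Agent.Lib.Helper23.BlockDefectGroup2
import Cfsg.Agent.Lib.Helper23.BlockDefectZero

set_option autoImplicit false
open Cfsg

namespace Cfsg.Agent.S2439

open Cfsg.Agent.Helper12 Cfsg.Agent.Helper24 Cfsg.Agent.Helper23.Blk

open scoped ComplexConjugate

variable {F : Type*} [Field F] [Fintype F]

theorem neg_one_eq : (-1 : Matrix.SpecialLinearGroup (Fin 2) F) = negOneSL := by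
  apply Subtype.ext
  rw [negOneSL_coe]
  rfl

theorem sign_cases [DecidableEq F] {χ : Matrix.SpecialLinearGroup (Fin 2) F → ℂ}
    (hχ : IsIrrCharacter (Matrix.SpecialLinearGroup (Fin 2) F) χ) :
    χ (-1) = χ 1 ∨ χ (-1) = -χ 1 := by
  rw [neg_one_eq]
  have h1 := irr_mul_central hχ negOneSL negOneSL (fun y => (negOneSL_comm y).symm)
  rw [negOneSL_mul_self] at h1
  have h0 : χ 1 ≠ 0 := irr_one_ne_zero hχ
  have h2 : (χ negOneSL - χ 1) * (χ negOneSL + χ 1) = 0 := by
    field_simp at h1
    linear_combination -h1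
  rcases mul_eq_zero.1 h2 with h | h
  · left; exact sub_eq_zero.1 h
  · right; exact eq_neg_of_add_eq_zero_left h

theorem centralChar_neg_one (χ : Matrix.SpecialLinearGroup (Fin 2) F → ℂ) :
    centralChar χ (-1) = χ (-1) / χ 1 := by
  unfold centralChar
  have : Subgroup.centralizer ({(-1 : Matrix.SpecialLinearGroup (Fin 2) F)} :
      Set (Matrix.SpecialLinearGroup (Fin 2) F)) = ⊤ := by
    rw [eq_top_iff]
    intro x _
    rw [Subgroup.mem_centralizer_iff]
    intro y hy
    rw [Set.mem_singleton_iff] at hy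
    rw [hy, neg_one_eq]
    exact negOneSL_comm x
  rw [this, Subgroup.index_top]
  simp

/-- characters in one block have the same sign at `-1` -/
theorem sign_of_sameBlock [DecidableEq F] {p : ℕ} {M : Ideal AlgInt} (hM : IsPModular p M)
    (hp : p ≠ 2) {χ ψ : Matrix.SpecialLinearGroup (Fin 2) F → ℂ}
    (hχ : IsIrrCharacter (Matrix.SpecialLinearGroup (Fin 2) F) χ)
    (hψ : IsIrrCharacter (Matrix.SpecialLinearGroup (Fin 2) F) ψ)
    (h : SameBlock M χ ψ) (hs : χ (-1) = χ 1) : ψ (-1) = ψ 1 := by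
  have h0 : χ 1 ≠ 0 := irr_one_ne_zero hχ
  have h0' : ψ 1 ≠ 0 := irr_one_ne_zero hψ
  rcases sign_cases hψ with h1 | h1
  · exact h1
  · exfalso
    have h2 := h (-1)
    rw [centralChar_neg_one, centralChar_neg_one, hs, h1, div_self h0, neg_div, div_self h0'] at h2
    have h3 : (1 : ℂ) - -1 = ((2 : ℕ) : ℂ) := by norm_num
    rw [h3, memLocalIdeal_natCast_iff hM] at h2
    exact hp ((Nat.prime_dvd_prime_iff_eq hM.1 Nat.prime_two).1 h2)

theorem sign_of_sameBlock' [DecidableEq F] {p : ℕ} {M : Ideal AlgInt} (hM : IsPModular p M)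
    (hp : p ≠ 2) {χ ψ : Matrix.SpecialLinearGroup (Fin 2) F → ℂ}
    (hχ : IsIrrCharacter (Matrix.SpecialLinearGroup (Fin 2) F) χ)
    (hψ : IsIrrCharacter (Matrix.SpecialLinearGroup (Fin 2) F) ψ)
    (h : SameBlock M χ ψ) (hs : χ (-1) = -χ 1) : ψ (-1) = -ψ 1 := by
  haveI : M.IsPrime := hM.2.1.isPrime
  rcases sign_cases hψ with h1 | h1
  · have h2 := sign_of_sameBlock hM hp hψ hχ (sameBlock_symm h) h1
    rw [hs] at h2
    have h0 : χ 1 ≠ 0 := irr_one_ne_zero hχ
    exfalso
    apply h0
    have : (2 : ℂ) * χ 1 = 0 := by linear_combination -h2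
    rcases mul_eq_zero.1 this with h3 | h3
    · norm_num at h3
    · exact h3
  · exact h1

/-- a block containing a character of degree prime to `p` has full defect -/
theorem blockDefect_of_mem {G : Type*} [Group G] {p : ℕ} {B : Set (IrrCharacter G)}
    {χ : IrrCharacter G} (hχ : χ ∈ B) (hd : ¬ p ∣ charDegree (χ : G → ℂ)) :
    blockDefect p B = (Nat.card G).factorization p := by
  unfold blockDefect
  have : sInf ((fun χ : IrrCharacter G => (charDegree (χ : G → ℂ)).factorization p) '' B) = 0 := by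
    rw [Nat.sInf_eq_zero]
    left
    exact ⟨χ, hχ, Nat.factorization_eq_zero_of_not_dvd hd⟩
  rw [this, Nat.sub_zero]

theorem char_dvd_card (p : ℕ) [Fact p.Prime] [CharP F p] : p ∣ Fintype.card F := by
  obtain ⟨n, hpp, hq⟩ := FiniteField.card F p
  rw [hq]
  exact dvd_pow_self p n.ne_zero

/-- `p`-regular non-central elements have centralisers of order prime to `p` -/
theorem not_dvd_card_centralizer [DecidableEq F] (p : ℕ) [Fact p.Prime] [CharP F p] (hp : p ≠ 2)
    (x : Matrix.SpecialLinearGroup (Fin 2) F) (hx1 : x ≠ 1) (hx2 : x ≠ -1)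
    (hreg : ¬ p ∣ orderOf x) :
    ¬ p ∣ Nat.card (Subgroup.centralizer ({x} : Set (Matrix.SpecialLinearGroup (Fin 2) F))) := by
  have hpp : p.Prime := Fact.out
  have hF : ringChar F ≠ 2 := by
    rw [ringChar.eq F p]
    exact hp
  have h2 : (2 : F) ≠ 0 := Ring.two_ne_zero hF
  have hpq := char_dvd_card (F := F) p
  have hq2 : 2 ≤ Fintype.card F := Fintype.one_lt_card
  by_cases htr : (x : Matrix (Fin 2) (Fin 2) F).trace ^ 2 = 4
  · exfalso
    have h3 := SL2_pow_two_char_eq_one p x ((x : Matrix (Fin 2) (Fin 2) F).trace / 2) (by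
      field_simp
      linear_combination -htr) (by
      field_simp
      linear_combination htr)
    have h4 := orderOf_dvd_of_pow_eq_one h3
    have hcop : Nat.Coprime (orderOf x) p :=
      ((Nat.Prime.coprime_iff_not_dvd hpp).2 hreg).symm
    have h5 : orderOf x ∣ 2 := Nat.Coprime.dvd_of_dvd_mul_right hcop h4
    have h6 : x * x = 1 := by
      rw [← pow_two]
      exact orderOf_dvd_iff_pow_eq_one.1 h5
    rcases SL2_sq_eq_one h2 x h6 with h7 | h7
    · exact hx1 h7
    · exact hx2 (by rw [h7, neg_one_eq])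
  · obtain ⟨-, -, hn⟩ := regular_of_trace_sq_ne hF x htr
    change ¬ p ∣ Nat.card (torus x)
    intro hdvd
    have hp1 : p ≠ 1 := hpp.one_lt.ne'
    rcases hn with hn | hn
    · rw [hn] at hdvd
      have : p ∣ Fintype.card F - (Fintype.card F - 1) := Nat.dvd_sub hpq hdvd
      have e : Fintype.card F - (Fintype.card F - 1) = 1 := by omega
      rw [e] at this
      exact hp1 (Nat.dvd_one.1 this)
    · rw [hn] at hdvd
      have : p ∣ Fintype.card F + 1 - Fintype.card F := Nat.dvd_sub hdvd hpq
      have e : Fintype.card F + 1 - Fintype.card F = 1 := by omega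
      rw [e] at this
      exact hp1 (Nat.dvd_one.1 this)

theorem char_dvd_card_SL2 [DecidableEq F] (p : ℕ) [Fact p.Prime] [CharP F p] :
    p ∣ Nat.card (Matrix.SpecialLinearGroup (Fin 2) F) := by
  rw [card_SL2]
  exact Dvd.dvd.mul_right (char_dvd_card p) _

/-- there are at most two blocks of full defect -/
theorem card_full_defect_le [DecidableEq F] (p : ℕ) [Fact p.Prime] [CharP F p] (hp : p ≠ 2)
    (M : Ideal AlgInt) (hM : IsPModular p M) :
    Nat.card {B : Set (IrrCharacter (Matrix.SpecialLinearGroup (Fin 2) F)) |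
      IsPBlock M B ∧ blockDefect p B =
        (Nat.card (Matrix.SpecialLinearGroup (Fin 2) F)).factorization p} ≤ 2 := by
  have hpp : p.Prime := Fact.out
  haveI hMp : M.IsPrime := hM.2.1.isPrime
  have hv : (Nat.card (Matrix.SpecialLinearGroup (Fin 2) F)).factorization p ≠ 0 :=
    (hpp.factorization_pos_of_dvd Nat.card_pos.ne' (char_dvd_card_SL2 p)).ne'
  have h1 := card_blocks_le_card_classes hM
    {B : Set (IrrCharacter (Matrix.SpecialLinearGroup (Fin 2) F)) |
      IsPBlock M B ∧ blockDefect p B =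
        (Nat.card (Matrix.SpecialLinearGroup (Fin 2) F)).factorization p}
    (fun B hB => hB.1) (p ^ (Nat.card (Matrix.SpecialLinearGroup (Fin 2) F)).factorization p)
    (fun B hB => by rw [hB.2])
    {ConjClasses.mk (1 : Matrix.SpecialLinearGroup (Fin 2) F), ConjClasses.mk (-1)} (by
      intro B hB x hx hxC
      have hreg : ¬ p ∣ orderOf x := by
        intro hdiv
        apply hx
        rw [blockCoeff_eq_zero_of_pSingular hM hB.1 hdiv]
        exact memLocalIdeal_zero hMp.ne_top
      have hx1 : x ≠ 1 := by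
        rintro rfl
        exact hxC (Set.mem_insert _ _)
      have hx2 : x ≠ -1 := by
        rintro rfl
        exact hxC (Set.mem_insert_of_mem _ rfl)
      rw [Nat.factorization_eq_zero_of_not_dvd (not_dvd_card_centralizer p hp x hx1 hx2 hreg),
        pow_zero]
      exact Nat.one_lt_pow hv hpp.one_lt)
  refine le_trans h1 ?_
  rw [Nat.card_coe_set_eq]
  exact le_trans (Set.ncard_insert_le _ _) (by rw [Set.ncard_singleton])

/-- every Sylow subgroup is a defect group of a block of full defect -/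
theorem isDefectGroup_of_full {G : Type*} [Group G] [Finite G] {p : ℕ} [Fact p.Prime]
    {M : Ideal AlgInt} (hM : IsPModular p M) {B : Set (IrrCharacter G)} (hB : IsPBlock M B)
    (hd : blockDefect p B = (Nat.card G).factorization p) (P : Sylow p G) :
    IsDefectGroup p M B (P : Subgroup G) := by
  obtain ⟨D, hD⟩ := exists_isDefectGroup hM hB
  have hc := card_defectGroup hM hB hD
  rw [hd] at hc
  obtain ⟨g, hg⟩ := MulAction.exists_smul_eq G (Sylow.ofCard D hc) P
  have h1 := isDefectGroup_conj hM hB hD g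
  have h2 : (P : Subgroup G) = D.map (MulAut.conj g).toMonoidHom := by
    rw [← hg, Sylow.coe_subgroup_smul, Sylow.coe_ofCard]
    rfl
  rw [h2]
  exact h1

theorem stSL_neg_one [DecidableEq F] :
    stSL (F := F) (-1) = (Fintype.card F : ℂ) := by
  have h1 := congrFun (psSL_one_eq (F := F)) (-1)
  rw [Pi.add_apply, neg_one_eq, psSL_apply_scalar 1 negOneSL
    ((isScalar2_iff_eq _).2 (Or.inr rfl)), negOneSL_coe] at h1
  have h3 : ((-1 : Matrix (Fin 2) (Fin 2) F) 0 0) = -1 := by simp
  rw [h3, MulChar.one_apply (isUnit_one.neg)] at h1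
  rw [neg_one_eq]
  linear_combination -h1

/-- there is an irreducible character which is not trivial on the centre -/
theorem exists_sign_neg [DecidableEq F] (h2 : (2 : F) ≠ 0) :
    ∃ χ : IrrCharacter (Matrix.SpecialLinearGroup (Fin 2) F),
      (χ : Matrix.SpecialLinearGroup (Fin 2) F → ℂ) (-1) =
        -(χ : Matrix.SpecialLinearGroup (Fin 2) F → ℂ) 1 := by
  classical
  letI : Fintype (IrrCharacter (Matrix.SpecialLinearGroup (Fin 2) F)) := irrFintype
  by_contra hcon
  push Not at hcon
  have hall : ∀ χ : IrrCharacter (Matrix.SpecialLinearGroup (Fin 2) F),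
      (χ : Matrix.SpecialLinearGroup (Fin 2) F → ℂ) (-1) =
        (χ : Matrix.SpecialLinearGroup (Fin 2) F → ℂ) 1 := fun χ =>
    (sign_cases χ.2).resolve_right (hcon χ)
  have hso := second_orthogonality' (-1 : Matrix.SpecialLinearGroup (Fin 2) F) 1
  rw [if_neg (by
    rw [isConj_one_right, neg_one_eq]
    exact negOneSL_ne_one h2)] at hso
  have h3 : ∀ χ : IrrCharacter (Matrix.SpecialLinearGroup (Fin 2) F),
      (χ : Matrix.SpecialLinearGroup (Fin 2) F → ℂ) (-1) *
        conj ((χ : Matrix.SpecialLinearGroup (Fin 2) F → ℂ) 1) =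
      ((charDegree (χ : Matrix.SpecialLinearGroup (Fin 2) F → ℂ) ^ 2 : ℕ) : ℂ) := by
    intro χ
    rw [hall χ, irr_one_eq_charDegree χ.2, Complex.conj_natCast]
    push_cast
    ring
  rw [Finset.sum_congr rfl (fun χ _ => h3 χ), ← Nat.cast_sum, sum_charDegree_sq] at hso
  have : 0 < Nat.card (Matrix.SpecialLinearGroup (Fin 2) F) := Nat.card_pos
  have h4 : (Nat.card (Matrix.SpecialLinearGroup (Fin 2) F) : ℂ) ≠ 0 := by
    exact_mod_cast this.ne'
  exact h4 hso

/-- Let F be a finite field with q elements of odd characteristic p, and M a maximal ideal of the algebraic integers containing p. Then SL₂ over F has exactly three p-blocks relative to M: the irreducible character of degree q (the Steinberg character) alone; the other irreducible characters taking the same value at −1 as at 1 (the principal block); and the irreducible characters χ with χ(−1) = −χ(1). Every Sylow p-subgroup is a defect group of each of the last two blocks. -/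
theorem result {F : Type*} [Field F] [Fintype F] (p : ℕ) [Fact p.Prime] [CharP F p] (hp : p ≠ 2)
    (M : Ideal Cfsg.AlgInt) (hM : Cfsg.IsPModular p M) :
    (∀ B : Set (Cfsg.IrrCharacter (Matrix.SpecialLinearGroup (Fin 2) F)), Cfsg.IsPBlock M B ↔
      (B = {χ : Cfsg.IrrCharacter (Matrix.SpecialLinearGroup (Fin 2) F) | (χ : Matrix.SpecialLinearGroup (Fin 2) F → ℂ) 1 = (Fintype.card F : ℂ)} ∨
       B = {χ : Cfsg.IrrCharacter (Matrix.SpecialLinearGroup (Fin 2) F) | (χ : Matrix.SpecialLinearGroup (Fin 2) F → ℂ) (-1) = (χ : Matrix.SpecialLinearGroup (Fin 2) F → ℂ) 1 ∧ (χ : Matrix.SpecialLinearGroup (Fin 2) F → ℂ) 1 ≠ (Fintype.card F : ℂ)} ∨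
       B = {χ : Cfsg.IrrCharacter (Matrix.SpecialLinearGroup (Fin 2) F) | (χ : Matrix.SpecialLinearGroup (Fin 2) F → ℂ) (-1) = -(χ : Matrix.SpecialLinearGroup (Fin 2) F → ℂ) 1})) ∧
    Nat.card {B : Set (Cfsg.IrrCharacter (Matrix.SpecialLinearGroup (Fin 2) F)) // Cfsg.IsPBlock M B} = 3 ∧
    ∀ P : Sylow p (Matrix.SpecialLinearGroup (Fin 2) F),
      Cfsg.IsDefectGroup p M {χ : Cfsg.IrrCharacter (Matrix.SpecialLinearGroup (Fin 2) F) | (χ : Matrix.SpecialLinearGroup (Fin 2) F → ℂ) (-1) = (χ : Matrix.SpecialLinearGroup (Fin 2) F → ℂ) 1 ∧ (χ : Matrix.SpecialLinearGroup (Fin 2) F → ℂ) 1 ≠ (Fintype.card F : ℂ)} (P : Subgroup (Matrix.SpecialLinearGroup (Fin 2) F)) ∧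
      Cfsg.IsDefectGroup p M {χ : Cfsg.IrrCharacter (Matrix.SpecialLinearGroup (Fin 2) F) | (χ : Matrix.SpecialLinearGroup (Fin 2) F → ℂ) (-1) = -(χ : Matrix.SpecialLinearGroup (Fin 2) F → ℂ) 1} (P : Subgroup (Matrix.SpecialLinearGroup (Fin 2) F)) := by
  classical
  have hpp : p.Prime := Fact.out
  haveI hMp : M.IsPrime := hM.2.1.isPrime
  have hF : ringChar F ≠ 2 := by
    rw [ringChar.eq F p]
    exact hp
  have h2 : (2 : F) ≠ 0 := Ring.two_ne_zero hF
  have hpq := char_dvd_card (F := F) p
  have hq2 : 2 ≤ Fintype.card F := Fintype.one_lt_card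
  have hp1 : p ≠ 1 := hpp.one_lt.ne'
  have hp2 : 2 ≤ p := hpp.two_le
  -- the Steinberg character
  obtain ⟨St, hSt⟩ : ∃ St : IrrCharacter (Matrix.SpecialLinearGroup (Fin 2) F),
      (St : Matrix.SpecialLinearGroup (Fin 2) F → ℂ) = stSL := ⟨⟨stSL, isIrrCharacter_stSL⟩, rfl⟩
  have hSt1 : (St : Matrix.SpecialLinearGroup (Fin 2) F → ℂ) 1 = (Fintype.card F : ℂ) := by
    rw [hSt, stSL_one_apply]
  have hStneg : (St : Matrix.SpecialLinearGroup (Fin 2) F → ℂ) (-1) = (Fintype.card F : ℂ) := by
    rw [hSt, stSL_neg_one]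
  have hStuniq : ∀ χ : IrrCharacter (Matrix.SpecialLinearGroup (Fin 2) F),
      (χ : Matrix.SpecialLinearGroup (Fin 2) F → ℂ) 1 = (Fintype.card F : ℂ) → χ = St := by
    intro χ hχ
    have hc := SL2_degree_cases χ.2 (Fintype.card F) hχ
    rcases hc with h | h | h | h | h | h
    · have := h.1; omega
    · apply Subtype.ext
      rw [h.2, hSt]
    · have := h.1; omega
    · have := h.1; omega
    · have := h.1; omega
    · have := h.1; omega
  have hdeg : ∀ χ : IrrCharacter (Matrix.SpecialLinearGroup (Fin 2) F), χ ≠ St →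
      ¬ p ∣ charDegree (χ : Matrix.SpecialLinearGroup (Fin 2) F → ℂ) := by
    intro χ hχ hdvd
    have hc := SL2_degree_cases χ.2 _ (irr_one_eq_charDegree χ.2)
    have key : ∀ m : ℕ, p ∣ m → (m = Fintype.card F + 1 ∨ m + 1 = Fintype.card F) → False := by
      intro m hm hmq
      rcases hmq with h | h
      · have : p ∣ m - Fintype.card F := Nat.dvd_sub hm hpq
        have e : m - Fintype.card F = 1 := by omega
        rw [e] at this
        exact hp1 (Nat.dvd_one.1 this)
      · have : p ∣ Fintype.card F - m := Nat.dvd_sub hpq hm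
        have e : Fintype.card F - m = 1 := by omega
        rw [e] at this
        exact hp1 (Nat.dvd_one.1 this)
    rcases hc with h | h | h | h | h | h
    · rw [h.1] at hdvd
      exact hp1 (Nat.dvd_one.1 hdvd)
    · apply hχ
      apply Subtype.ext
      rw [h.2, hSt]
    · exact key _ hdvd (Or.inl h.1)
    · exact key _ (Dvd.dvd.mul_left hdvd 2) (Or.inl h.1)
    · exact key _ hdvd (Or.inr h.1)
    · exact key _ (Dvd.dvd.mul_left hdvd 2) (Or.inr h.1)
  -- the block of the Steinberg character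
  have hBSt : blockOf M (St : Matrix.SpecialLinearGroup (Fin 2) F → ℂ) = {St} := by
    apply (not_dvd_iff_blockOf_eq_singleton hM St).1
    have hd : charDegree (St : Matrix.SpecialLinearGroup (Fin 2) F → ℂ) = Fintype.card F :=
      charDegree_natCast _ hSt1
    rw [hd, card_SL2, Nat.mul_div_cancel_left _ (by omega : 0 < Fintype.card F)]
    intro hdvd
    have h1 : 1 ≤ Fintype.card F ^ 2 := Nat.one_le_pow _ _ (by omega)
    have : p ∣ Fintype.card F ^ 2 - (Fintype.card F ^ 2 - 1) :=
      Nat.dvd_sub (Dvd.dvd.pow hpq two_ne_zero) hdvd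
    have e : Fintype.card F ^ 2 - (Fintype.card F ^ 2 - 1) = 1 := by omega
    rw [e] at this
    exact hp1 (Nat.dvd_one.1 this)
  have hsetSt : {χ : IrrCharacter (Matrix.SpecialLinearGroup (Fin 2) F) |
      (χ : Matrix.SpecialLinearGroup (Fin 2) F → ℂ) 1 = (Fintype.card F : ℂ)} = {St} := by
    ext χ
    rw [Set.mem_setOf_eq, Set.mem_singleton_iff]
    constructor
    · exact hStuniq χ
    · rintro rfl
      exact hSt1
  -- the blocks of full defect
  have hfull : ∀ χ : IrrCharacter (Matrix.SpecialLinearGroup (Fin 2) F), χ ≠ St →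
      blockDefect p (blockOf M (χ : Matrix.SpecialLinearGroup (Fin 2) F → ℂ)) =
        (Nat.card (Matrix.SpecialLinearGroup (Fin 2) F)).factorization p :=
    fun χ hχ => blockDefect_of_mem (mem_blockOf_self χ) (hdeg χ hχ)
  obtain ⟨χ₁, hχ₁⟩ := exists_sign_neg (F := F) h2
  have hq0 : (Fintype.card F : ℂ) ≠ 0 := by
    have : Fintype.card F ≠ 0 := by omega
    exact_mod_cast this
  have hχ₁St : χ₁ ≠ St := by
    rintro rfl
    rw [hStneg, hSt1] at hχ₁
    apply hq0
    have : (2 : ℂ) * (Fintype.card F : ℂ) = 0 := by linear_combination hχ₁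
    rcases mul_eq_zero.1 this with h3 | h3
    · norm_num at h3
    · exact h3
  have htriv1 : ((principalChar (Matrix.SpecialLinearGroup (Fin 2) F) :
      IrrCharacter (Matrix.SpecialLinearGroup (Fin 2) F)) :
        Matrix.SpecialLinearGroup (Fin 2) F → ℂ) = fun _ => (1 : ℂ) := rfl
  have htrivSt : principalChar (Matrix.SpecialLinearGroup (Fin 2) F) ≠ St := by
    intro h
    have h1 := hSt1
    rw [← h, htriv1] at h1
    have h1' : (1 : ℂ) = (Fintype.card F : ℂ) := h1
    have : (1 : ℕ) = Fintype.card F := by exact_mod_cast h1'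
    omega
  have hthree : ∀ B : Set (IrrCharacter (Matrix.SpecialLinearGroup (Fin 2) F)),
      IsPBlock M B → blockDefect p B =
        (Nat.card (Matrix.SpecialLinearGroup (Fin 2) F)).factorization p →
      B = blockOf M ((principalChar (Matrix.SpecialLinearGroup (Fin 2) F) :
        IrrCharacter (Matrix.SpecialLinearGroup (Fin 2) F)) :
          Matrix.SpecialLinearGroup (Fin 2) F → ℂ) ∨
      B = blockOf M (χ₁ : Matrix.SpecialLinearGroup (Fin 2) F → ℂ) := by
    intro B hB hBd
    by_contra hcon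
    push Not at hcon
    have hle := card_full_defect_le (F := F) p hp M hM
    rw [Nat.card_coe_set_eq] at hle
    have hfin : ({B : Set (IrrCharacter (Matrix.SpecialLinearGroup (Fin 2) F)) |
      IsPBlock M B ∧ blockDefect p B =
        (Nat.card (Matrix.SpecialLinearGroup (Fin 2) F)).factorization p}).Finite := by
      have : Finite (IrrCharacter (Matrix.SpecialLinearGroup (Fin 2) F)) := irr_finite'
      exact Set.toFinite _
    have h3 : 2 < ({B : Set (IrrCharacter (Matrix.SpecialLinearGroup (Fin 2) F)) |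
      IsPBlock M B ∧ blockDefect p B =
        (Nat.card (Matrix.SpecialLinearGroup (Fin 2) F)).factorization p}).ncard := by
      rw [Set.two_lt_ncard_iff hfin]
      refine ⟨B, _, _, ⟨hB, hBd⟩, ⟨⟨_, rfl⟩, hfull _ htrivSt⟩, ⟨⟨_, rfl⟩, hfull _ hχ₁St⟩,
        hcon.1, hcon.2, ?_⟩
      intro heq
      have h4 : χ₁ ∈ blockOf M ((principalChar (Matrix.SpecialLinearGroup (Fin 2) F) :
        IrrCharacter (Matrix.SpecialLinearGroup (Fin 2) F)) :
          Matrix.SpecialLinearGroup (Fin 2) F → ℂ) := by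
        rw [heq]
        exact mem_blockOf_self χ₁
      have h5 := sign_of_sameBlock hM hp (principalChar _).2 χ₁.2 h4 (by rw [htriv1])
      rw [hχ₁] at h5
      have h0 : (χ₁ : Matrix.SpecialLinearGroup (Fin 2) F → ℂ) 1 ≠ 0 := irr_one_ne_zero χ₁.2
      apply h0
      have : (2 : ℂ) * (χ₁ : Matrix.SpecialLinearGroup (Fin 2) F → ℂ) 1 = 0 := by
        linear_combination -h5
      rcases mul_eq_zero.1 this with h3 | h3
      · norm_num at h3
      · exact h3
    omega
  have hneg : ∀ z : ℂ, z = -z → z = 0 := by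
    intro z hz
    have : (2 : ℂ) * z = 0 := by linear_combination hz
    rcases mul_eq_zero.1 this with h3 | h3
    · norm_num at h3
    · exact h3
  -- the principal block
  have hB0 : {χ : IrrCharacter (Matrix.SpecialLinearGroup (Fin 2) F) |
      (χ : Matrix.SpecialLinearGroup (Fin 2) F → ℂ) (-1) =
        (χ : Matrix.SpecialLinearGroup (Fin 2) F → ℂ) 1 ∧
      (χ : Matrix.SpecialLinearGroup (Fin 2) F → ℂ) 1 ≠ (Fintype.card F : ℂ)} =
      blockOf M ((principalChar (Matrix.SpecialLinearGroup (Fin 2) F) :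
        IrrCharacter (Matrix.SpecialLinearGroup (Fin 2) F)) :
          Matrix.SpecialLinearGroup (Fin 2) F → ℂ) := by
    ext χ
    rw [Set.mem_setOf_eq]
    constructor
    · rintro ⟨hs, hne⟩
      have hχSt : χ ≠ St := by
        rintro rfl
        exact hne hSt1
      rcases hthree _ ⟨χ, rfl⟩ (hfull χ hχSt) with h | h
      · rw [← h]
        exact mem_blockOf_self χ
      · exfalso
        have h4 : χ ∈ blockOf M (χ₁ : Matrix.SpecialLinearGroup (Fin 2) F → ℂ) := by
          rw [← h]
          exact mem_blockOf_self χ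
        have h5 := sign_of_sameBlock' hM hp χ₁.2 χ.2 h4 hχ₁
        rw [hs] at h5
        exact irr_one_ne_zero χ.2 (hneg _ h5)
    · intro hχ
      have hs := sign_of_sameBlock hM hp (principalChar _).2 χ.2 hχ (by rw [htriv1])
      refine ⟨hs, ?_⟩
      intro h1
      have h5 := hStuniq χ h1
      subst h5
      have h6 := blockOf_eq_of_mem hχ
      have h7 : principalChar (Matrix.SpecialLinearGroup (Fin 2) F) ∈
          blockOf M (χ : Matrix.SpecialLinearGroup (Fin 2) F → ℂ) := by
        rw [h6]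
        exact mem_blockOf_self _
      rw [hBSt] at h7
      exact htrivSt h7
  have hB1 : {χ : IrrCharacter (Matrix.SpecialLinearGroup (Fin 2) F) |
      (χ : Matrix.SpecialLinearGroup (Fin 2) F → ℂ) (-1) =
        -(χ : Matrix.SpecialLinearGroup (Fin 2) F → ℂ) 1} =
      blockOf M (χ₁ : Matrix.SpecialLinearGroup (Fin 2) F → ℂ) := by
    ext χ
    rw [Set.mem_setOf_eq]
    constructor
    · intro hs
      have hχSt : χ ≠ St := by
        rintro rfl
        rw [hStneg, hSt1] at hs
        exact hq0 (hneg _ hs)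
      rcases hthree _ ⟨χ, rfl⟩ (hfull χ hχSt) with h | h
      · exfalso
        have h4 : χ ∈ blockOf M ((principalChar (Matrix.SpecialLinearGroup (Fin 2) F) :
            IrrCharacter (Matrix.SpecialLinearGroup (Fin 2) F)) :
              Matrix.SpecialLinearGroup (Fin 2) F → ℂ) := by
          rw [← h]
          exact mem_blockOf_self χ
        have h5 := sign_of_sameBlock hM hp (principalChar _).2 χ.2 h4 (by rw [htriv1])
        rw [hs] at h5
        exact irr_one_ne_zero χ.2 (hneg _ h5.symm)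
      · rw [← h]
        exact mem_blockOf_self χ
    · intro hχ
      exact sign_of_sameBlock' hM hp χ₁.2 χ.2 hχ hχ₁
  have hclass : ∀ B : Set (IrrCharacter (Matrix.SpecialLinearGroup (Fin 2) F)), IsPBlock M B ↔
      (B = {St} ∨ B = blockOf M ((principalChar (Matrix.SpecialLinearGroup (Fin 2) F) :
        IrrCharacter (Matrix.SpecialLinearGroup (Fin 2) F)) :
          Matrix.SpecialLinearGroup (Fin 2) F → ℂ) ∨
        B = blockOf M (χ₁ : Matrix.SpecialLinearGroup (Fin 2) F → ℂ)) := by
    intro B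
    constructor
    · rintro ⟨χ, rfl⟩
      by_cases hχ : χ = St
      · left
        rw [hχ, hBSt]
      · right
        exact hthree _ ⟨χ, rfl⟩ (hfull χ hχ)
    · rintro (h | h | h)
      · exact ⟨St, by rw [h, hBSt]⟩
      · exact ⟨_, h⟩
      · exact ⟨χ₁, h⟩
  refine ⟨?_, ?_, ?_⟩
  · intro B
    rw [hsetSt, hB0, hB1]
    exact hclass B
  · have hset : {B : Set (IrrCharacter (Matrix.SpecialLinearGroup (Fin 2) F)) | IsPBlock M B} =
        {{St}, blockOf M ((principalChar (Matrix.SpecialLinearGroup (Fin 2) F) :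
        IrrCharacter (Matrix.SpecialLinearGroup (Fin 2) F)) :
          Matrix.SpecialLinearGroup (Fin 2) F → ℂ),
          blockOf M (χ₁ : Matrix.SpecialLinearGroup (Fin 2) F → ℂ)} := by
      ext B
      rw [Set.mem_setOf_eq, hclass B]
      simp only [Set.mem_insert_iff, Set.mem_singleton_iff]
    change Nat.card ↥{B : Set (IrrCharacter (Matrix.SpecialLinearGroup (Fin 2) F)) |
      IsPBlock M B} = 3
    rw [Nat.card_coe_set_eq, hset, Set.ncard_eq_three]
    refine ⟨_, _, _, ?_, ?_, ?_, rfl⟩
    · intro h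
      have h7 : principalChar (Matrix.SpecialLinearGroup (Fin 2) F) ∈
          ({St} : Set (IrrCharacter (Matrix.SpecialLinearGroup (Fin 2) F))) := by
        rw [h]
        exact mem_blockOf_self _
      exact htrivSt h7
    · intro h
      have h7 : χ₁ ∈ ({St} : Set (IrrCharacter (Matrix.SpecialLinearGroup (Fin 2) F))) := by
        rw [h]
        exact mem_blockOf_self _
      exact hχ₁St h7
    · intro h
      have h4 : χ₁ ∈ blockOf M ((principalChar (Matrix.SpecialLinearGroup (Fin 2) F) :
        IrrCharacter (Matrix.SpecialLinearGroup (Fin 2) F)) :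
          Matrix.SpecialLinearGroup (Fin 2) F → ℂ) := by
        rw [h]
        exact mem_blockOf_self χ₁
      have h5 := sign_of_sameBlock hM hp (principalChar _).2 χ₁.2 h4 (by rw [htriv1])
      rw [hχ₁] at h5
      exact irr_one_ne_zero χ₁.2 (hneg _ h5.symm)
  · intro P
    rw [hB0, hB1]
    exact ⟨isDefectGroup_of_full hM ⟨_, rfl⟩ (hfull _ htrivSt) P,
      isDefectGroup_of_full hM ⟨_, rfl⟩ (hfull _ hχ₁St) P⟩

end Cfsg.Agent.S2439
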