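import Mathlib
import Cfsg.Statements.S2450
import Cfsg.Agent.Lib.Helper12.SL2Odd

set_option autoImplicit false
open Cfsg

namespace Cfsg.Agent.S2450

open Cfsg.Agent.Helper12

variable {F : Type*} [Field F]

/-- upper unitriangular element -/
def eMat (x : F) : Matrix.SpecialLinearGroup (Fin 2) F :=
  ⟨!![1, x; 0, 1], by simp [Matrix.det_fin_two]⟩

/-- the Weyl element -/
def wMat : Matrix.SpecialLinearGroup (Fin 2) F :=
  ⟨!![0, 1; -1, 0], by simp [Matrix.det_fin_two]⟩

/-- a lower unitriangular element -/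
def lMat : Matrix.SpecialLinearGroup (Fin 2) F :=
  ⟨!![1, 0; 1, 1], by simp [Matrix.det_fin_two]⟩

theorem conj_entry10 (P A : Matrix.SpecialLinearGroup (Fin 2) F) :
    ((P * A * P⁻¹ : Matrix.SpecialLinearGroup (Fin 2) F) : Matrix (Fin 2) (Fin 2) F) 1 0 =
      (P.1 1 0 * A.1 0 0 + P.1 1 1 * A.1 1 0) * P.1 1 1 -
        (P.1 1 0 * A.1 0 1 + P.1 1 1 * A.1 1 1) * P.1 1 0 := by
  rw [Matrix.SpecialLinearGroup.coe_mul, Matrix.SpecialLinearGroup.coe_mul,
    Matrix.SpecialLinearGroup.coe_inv, Matrix.adjugate_fin_two]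
  simp [Matrix.mul_apply, Fin.sum_univ_two]
  ring

/-- every non-scalar element is conjugate to one with non-zero lower left entry -/
theorem exists_conj_lower (A : Matrix.SpecialLinearGroup (Fin 2) F)
    (hA : ¬ IsScalar2 (A : Matrix (Fin 2) (Fin 2) F)) :
    ∃ P : Matrix.SpecialLinearGroup (Fin 2) F,
      ((P * A * P⁻¹ : Matrix.SpecialLinearGroup (Fin 2) F) : Matrix (Fin 2) (Fin 2) F) 1 0 ≠ 0 := by
  by_cases h10 : (A : Matrix (Fin 2) (Fin 2) F) 1 0 = 0
  · by_cases h01 : (A : Matrix (Fin 2) (Fin 2) F) 0 1 = 0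
    · refine ⟨lMat, ?_⟩
      rw [conj_entry10]
      have hne : (A : Matrix (Fin 2) (Fin 2) F) 0 0 ≠ (A : Matrix (Fin 2) (Fin 2) F) 1 1 :=
        fun h => hA ⟨h01, h10, h⟩
      simp only [lMat, Matrix.of_apply, Matrix.cons_val', Matrix.cons_val_zero, Matrix.cons_val_one,
        Matrix.cons_val_fin_one]
      intro h
      apply hne
      have h10' : A.1 1 0 = 0 := h10
      have h01' : A.1 0 1 = 0 := h01
      rw [h10', h01'] at h
      linear_combination h
    · refine ⟨wMat, ?_⟩
      rw [conj_entry10]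
      simp only [wMat, Matrix.of_apply, Matrix.cons_val', Matrix.cons_val_zero, Matrix.cons_val_one,
        Matrix.cons_val_fin_one]
      intro h
      apply h01
      change A.1 0 1 = 0
      linear_combination -h
  · refine ⟨1, ?_⟩
    rw [one_mul, inv_one, mul_one]
    exact h10

theorem eMat_coe (x : F) : ((eMat x : Matrix.SpecialLinearGroup (Fin 2) F) :
    Matrix (Fin 2) (Fin 2) F) = !![1, x; 0, 1] := rfl

theorem eMat_inv_coe (x : F) : (((eMat x)⁻¹ : Matrix.SpecialLinearGroup (Fin 2) F) :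
    Matrix (Fin 2) (Fin 2) F) = !![1, -x; 0, 1] := by
  rw [Matrix.SpecialLinearGroup.coe_inv, eMat_coe, Matrix.adjugate_fin_two]
  simp

theorem trace_formula (A B : Matrix.SpecialLinearGroup (Fin 2) F) (x : F) :
    ((A * (eMat x * B * (eMat x)⁻¹) : Matrix.SpecialLinearGroup (Fin 2) F) :
      Matrix (Fin 2) (Fin 2) F).trace =
      ((A * B : Matrix.SpecialLinearGroup (Fin 2) F) : Matrix (Fin 2) (Fin 2) F).trace +
        (B.1 1 0 * (A.1 0 0 - A.1 1 1) + A.1 1 0 * (B.1 1 1 - B.1 0 0)) * x -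
        (A.1 1 0 * B.1 1 0) * x ^ 2 := by
  rw [Matrix.SpecialLinearGroup.coe_mul, Matrix.SpecialLinearGroup.coe_mul,
    Matrix.SpecialLinearGroup.coe_mul, Matrix.SpecialLinearGroup.coe_mul, eMat_inv_coe, eMat_coe,
    Matrix.eta_fin_two (A : Matrix (Fin 2) (Fin 2) F), Matrix.eta_fin_two (B : Matrix (Fin 2) (Fin 2) F)]
  simp only [Matrix.mul_fin_two, Matrix.trace_fin_two_of, Matrix.of_apply, Matrix.cons_val',
    Matrix.cons_val_zero, Matrix.cons_val_one, Matrix.cons_val_fin_one]
  ring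

/-- a quadratic polynomial function on a field with at least four elements takes two values
that differ even up to sign -/
theorem quad_two_values [Fintype F] [DecidableEq F] (h4 : 4 ≤ Fintype.card F) (τ β γ : F)
    (hγ : γ ≠ 0) :
    ∃ x y : F, (τ + β * x - γ * x ^ 2) ≠ (τ + β * y - γ * y ^ 2) ∧
      (τ + β * x - γ * x ^ 2) ≠ -(τ + β * y - γ * y ^ 2) := by
  set σ := β / γ with hσ
  have hβ : β = γ * σ := by rw [hσ]; field_simp
  have key : ∀ x y : F, x ≠ y → x + y ≠ σ →
      (τ + β * x - γ * x ^ 2) ≠ (τ + β * y - γ * y ^ 2) := by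
    intro x y hxy hs h
    have : γ * ((x - y) * (σ - (x + y))) = 0 := by
      rw [hβ] at h
      linear_combination h
    rcases mul_eq_zero.1 this with h1 | h1
    · exact hγ h1
    · rcases mul_eq_zero.1 h1 with h2 | h2
      · exact hxy (sub_eq_zero.1 h2)
      · exact hs (sub_eq_zero.1 h2).symm
  have avoid : ∀ s : Finset F, s.card ≤ 3 → ∃ z : F, z ∉ s := by
    intro s hs
    have : s.card < (Finset.univ : Finset F).card := by
      rw [Finset.card_univ]; omega
    obtain ⟨z, -, hz⟩ := Finset.exists_mem_notMem_of_card_lt_card this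
    exact ⟨z, hz⟩
  by_cases h2 : (2 : F) = 0
  · -- characteristic two
    have hneg : ∀ v : F, -v = v := by
      intro v
      have : v + v = 0 := by rw [← two_mul, h2, zero_mul]
      exact neg_eq_of_add_eq_zero_left this
    obtain ⟨y, hy⟩ := avoid {0, σ} (Finset.card_le_two.trans (by norm_num))
    simp only [Finset.mem_insert, Finset.mem_singleton, not_or] at hy
    have h := key 0 y (Ne.symm hy.1) (by rw [zero_add]; exact hy.2)
    exact ⟨0, y, h, by rw [hneg]; exact h⟩
  · -- odd characteristic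
    set x₁ := σ / 2 with hx₁
    obtain ⟨x₂, hx₂⟩ := avoid {x₁} (by simp)
    rw [Finset.mem_singleton] at hx₂
    obtain ⟨x₃, hx₃⟩ := avoid {x₁, x₂, σ - x₂} Finset.card_le_three
    simp only [Finset.mem_insert, Finset.mem_singleton, not_or] at hx₃
    have hσ2 : x₁ + x₁ = σ := by rw [hx₁]; field_simp; ring
    have h12 := key x₁ x₂ (Ne.symm hx₂) (by
      intro h; apply hx₂; have := h.trans hσ2.symm; exact (add_left_cancel this))
    have h13 := key x₁ x₃ (Ne.symm hx₃.1) (by
      intro h; apply hx₃.1; have := h.trans hσ2.symm; exact (add_left_cancel this))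
    have h23 := key x₂ x₃ (Ne.symm hx₃.2.1) (by
      intro h; apply hx₃.2.2; rw [← h]; ring)
    by_contra hcon
    push Not at hcon
    have e12 := hcon x₁ x₂ h12
    have e13 := hcon x₁ x₃ h13
    have e23 := hcon x₂ x₃ h23
    apply h13
    rw [e12, e23, neg_neg]

theorem psl_trace_of_isConj (X Y : Matrix.SpecialLinearGroup (Fin 2) F)
    (h : IsConj (X : Matrix.ProjectiveSpecialLinearGroup (Fin 2) F)
      (Y : Matrix.ProjectiveSpecialLinearGroup (Fin 2) F)) :
    (X : Matrix (Fin 2) (Fin 2) F).trace = (Y : Matrix (Fin 2) (Fin 2) F).trace ∨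
      (X : Matrix (Fin 2) (Fin 2) F).trace = -(Y : Matrix (Fin 2) (Fin 2) F).trace := by
  rw [isConj_iff] at h
  obtain ⟨w, hw⟩ := h
  obtain ⟨W, rfl⟩ := QuotientGroup.mk_surjective w
  rw [← QuotientGroup.mk_inv, ← QuotientGroup.mk_mul, ← QuotientGroup.mk_mul, QuotientGroup.eq,
    Matrix.SpecialLinearGroup.mem_center_iff] at hw
  obtain ⟨r, hr, hZ⟩ := hw
  simp only [Fintype.card_fin] at hr
  have hY : Y = (W * X * W⁻¹) * ((W * X * W⁻¹)⁻¹ * Y) := by group
  have htr : (Y : Matrix (Fin 2) (Fin 2) F).trace = r * (X : Matrix (Fin 2) (Fin 2) F).trace := by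
    conv_lhs => rw [hY]
    rw [Matrix.SpecialLinearGroup.coe_mul, ← hZ]
    have : (Matrix.scalar (Fin 2) r : Matrix (Fin 2) (Fin 2) F) = r • (1 : Matrix (Fin 2) (Fin 2) F) := by
      ext i j
      simp [Matrix.scalar, Matrix.diagonal_apply, Matrix.one_apply]
    rw [this, Matrix.mul_smul, Matrix.mul_one, Matrix.trace_smul, smul_eq_mul]
    congr 1
    exact (trace_eq_of_isConj X (W * X * W⁻¹) (isConj_iff.2 ⟨W, rfl⟩)).symm
  have hr' : (r - 1) * (r + 1) = 0 := by linear_combination hr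
  rcases mul_eq_zero.1 hr' with h1 | h1
  · left
    rw [htr, sub_eq_zero.1 h1, one_mul]
  · right
    rw [htr, eq_neg_of_add_eq_zero_left h1]
    ring

/-- The Arad–Herzog conjecture for PSL(2,q): let F be a finite field with q ≥ 4 elements. For any two non-identity elements a, b of PSL(2,F), the set of products of a conjugate of a with a conjugate of b is not a single conjugacy class. -/
theorem result {F : Type*} [Field F] [Fintype F] (h4 : 4 ≤ Fintype.card F)
    (a b : Matrix.ProjectiveSpecialLinearGroup (Fin 2) F) (ha : a ≠ 1) (hb : b ≠ 1) (c : Matrix.ProjectiveSpecialLinearGroup (Fin 2) F) :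
    {g : Matrix.ProjectiveSpecialLinearGroup (Fin 2) F | ∃ u v : Matrix.ProjectiveSpecialLinearGroup (Fin 2) F, g = (u * a * u⁻¹) * (v * b * v⁻¹)} ≠ {g | IsConj c g} := by
  classical
  obtain ⟨A, rfl⟩ := QuotientGroup.mk_surjective a
  obtain ⟨B, rfl⟩ := QuotientGroup.mk_surjective b
  have hA : ¬ IsScalar2 (A : Matrix (Fin 2) (Fin 2) F) := by
    intro h
    apply ha
    exact (QuotientGroup.eq_one_iff A).2 (mem_center_of_isScalar2 A h)
  have hB : ¬ IsScalar2 (B : Matrix (Fin 2) (Fin 2) F) := by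
    intro h
    apply hb
    exact (QuotientGroup.eq_one_iff B).2 (mem_center_of_isScalar2 B h)
  obtain ⟨P, hP⟩ := exists_conj_lower A hA
  obtain ⟨Q, hQ⟩ := exists_conj_lower B hB
  set A' := P * A * P⁻¹ with hA'
  set B' := Q * B * Q⁻¹ with hB'
  intro hset
  -- the products
  have hmem : ∀ x : F, IsConj c (((A' * (eMat x * B' * (eMat x)⁻¹) :
      Matrix.SpecialLinearGroup (Fin 2) F)) : Matrix.ProjectiveSpecialLinearGroup (Fin 2) F) := by
    intro x
    have : (((A' * (eMat x * B' * (eMat x)⁻¹) : Matrix.SpecialLinearGroup (Fin 2) F)) :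
        Matrix.ProjectiveSpecialLinearGroup (Fin 2) F) ∈
        {g : Matrix.ProjectiveSpecialLinearGroup (Fin 2) F | ∃ u v :
          Matrix.ProjectiveSpecialLinearGroup (Fin 2) F,
          g = (u * (A : Matrix.ProjectiveSpecialLinearGroup (Fin 2) F) * u⁻¹) *
            (v * (B : Matrix.ProjectiveSpecialLinearGroup (Fin 2) F) * v⁻¹)} := by
      refine ⟨(P : Matrix.ProjectiveSpecialLinearGroup (Fin 2) F),
        ((eMat x * Q : Matrix.SpecialLinearGroup (Fin 2) F) :
          Matrix.ProjectiveSpecialLinearGroup (Fin 2) F), ?_⟩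
      rw [hA', hB']
      simp only [QuotientGroup.mk_mul, QuotientGroup.mk_inv]
      group
    rw [hset] at this
    exact this
  obtain ⟨x, y, h1, h2⟩ := quad_two_values h4
    ((A' * B' : Matrix.SpecialLinearGroup (Fin 2) F) : Matrix (Fin 2) (Fin 2) F).trace
    (B'.1 1 0 * (A'.1 0 0 - A'.1 1 1) + A'.1 1 0 * (B'.1 1 1 - B'.1 0 0))
    (A'.1 1 0 * B'.1 1 0) (mul_ne_zero hP hQ)
  have hconj := ((hmem x).symm.trans (hmem y))
  rcases psl_trace_of_isConj _ _ hconj with h | h
  · rw [trace_formula, trace_formula] at h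
    exact h1 h
  · rw [trace_formula, trace_formula] at h
    exact h2 h

end Cfsg.Agent.S2450
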