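import Mathlib
import Cfsg.Statements.S2455
import Cfsg.Agent.S2450
import Cfsg.Agent.Lib.Helper12.PSL2Orders

set_option autoImplicit false
open Cfsg

namespace Cfsg.Agent.S2455

open Cfsg.Agent.Helper12
open Cfsg.Agent.S2450

variable {F : Type*} [Field F]

/-- the central element `-1` -/
def negOne : Matrix.SpecialLinearGroup (Fin 2) F :=
  ⟨!![-1, 0; 0, -1], by simp [Matrix.det_fin_two]⟩

theorem negOne_mem_center : (negOne : Matrix.SpecialLinearGroup (Fin 2) F) ∈
    Subgroup.center (Matrix.SpecialLinearGroup (Fin 2) F) := by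
  apply mem_center_of_isScalar2
  refine ⟨?_, ?_, ?_⟩ <;> simp [negOne]

theorem coe_mul_negOne (G : Matrix.SpecialLinearGroup (Fin 2) F) :
    ((G * negOne : Matrix.SpecialLinearGroup (Fin 2) F) : Matrix (Fin 2) (Fin 2) F) =
      -(G : Matrix (Fin 2) (Fin 2) F) := by
  rw [Matrix.SpecialLinearGroup.coe_mul]
  ext i j
  fin_cases i <;> fin_cases j <;> simp [negOne, Matrix.mul_apply, Fin.sum_univ_two]

theorem mk_mul_negOne (G : Matrix.SpecialLinearGroup (Fin 2) F) :
    ((G * negOne : Matrix.SpecialLinearGroup (Fin 2) F) :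
      Matrix.ProjectiveSpecialLinearGroup (Fin 2) F) = (G : Matrix.ProjectiveSpecialLinearGroup (Fin 2) F) := by
  rw [QuotientGroup.mk_mul, (QuotientGroup.eq_one_iff _).2 negOne_mem_center, mul_one]

/-- companion-like normal form under `SL₂`-conjugacy -/
theorem exists_conj_companion (G : Matrix.SpecialLinearGroup (Fin 2) F)
    (hG : ¬ IsScalar2 (G : Matrix (Fin 2) (Fin 2) F)) :
    ∃ (P : Matrix.SpecialLinearGroup (Fin 2) F) (δ : F), δ ≠ 0 ∧
      ((P * G * P⁻¹ : Matrix.SpecialLinearGroup (Fin 2) F) : Matrix (Fin 2) (Fin 2) F) =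
        !![0, -δ⁻¹; δ, (G : Matrix (Fin 2) (Fin 2) F).trace] := by
  obtain ⟨P₀, hP₀⟩ := exists_conj_lower G hG
  set A := P₀ * G * P₀⁻¹ with hA
  set c := (A : Matrix (Fin 2) (Fin 2) F) 1 0 with hc
  set x := -(A : Matrix (Fin 2) (Fin 2) F) 0 0 / c with hx
  refine ⟨eMat x * P₀, c, hP₀, ?_⟩
  have e : eMat x * P₀ * G * (eMat x * P₀)⁻¹ = eMat x * A * (eMat x)⁻¹ := by
    rw [hA]; group
  rw [e]
  have htr : (G : Matrix (Fin 2) (Fin 2) F).trace = (A : Matrix (Fin 2) (Fin 2) F).trace :=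
    trace_eq_of_isConj G A (isConj_iff.2 ⟨P₀, rfl⟩)
  have hdet : (A : Matrix (Fin 2) (Fin 2) F) 0 0 * (A : Matrix (Fin 2) (Fin 2) F) 1 1 -
      (A : Matrix (Fin 2) (Fin 2) F) 0 1 * c = 1 := by
    have := A.2
    rw [Matrix.det_fin_two] at this
    exact this
  have hcc : c * c⁻¹ = 1 := mul_inv_cancel₀ hP₀
  have hxc : x * c = -(A : Matrix (Fin 2) (Fin 2) F) 0 0 := by
    rw [hx]; field_simp
  rw [Matrix.SpecialLinearGroup.coe_mul, Matrix.SpecialLinearGroup.coe_mul, eMat_inv_coe, eMat_coe,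
    htr, Matrix.trace_fin_two]
  have hA2 := Matrix.eta_fin_two (A : Matrix (Fin 2) (Fin 2) F)
  rw [← hc] at hA2
  rw [hA2]
  simp only [Matrix.mul_fin_two, Matrix.of_apply, Matrix.cons_val', Matrix.cons_val_zero,
    Matrix.cons_val_one, Matrix.cons_val_fin_one]
  ext i j
  fin_cases i <;> fin_cases j
  · simp only [Fin.zero_eta, Matrix.of_apply, Matrix.cons_val', Matrix.cons_val_zero,
      Matrix.cons_val_fin_one]
    linear_combination hxc
  · simp only [Fin.zero_eta, Fin.mk_one, Matrix.of_apply, Matrix.cons_val', Matrix.cons_val_zero,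
      Matrix.cons_val_one, Matrix.cons_val_fin_one]
    have : -c⁻¹ * c = -1 := by rw [neg_mul, inv_mul_cancel₀ hP₀]
    have hinj : ∀ u v : F, u * c = v * c → u = v := fun u v h => mul_right_cancel₀ hP₀ h
    apply hinj
    rw [this]
    linear_combination (-1 : F) * hdet + ((A : Matrix (Fin 2) (Fin 2) F) 1 1 - x * c) * hxc
  · simp
  · simp only [Fin.mk_one, Matrix.of_apply, Matrix.cons_val', Matrix.cons_val_one,
      Matrix.cons_val_fin_one]
    linear_combination (-1 : F) * hxc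


theorem trace_inv_SL2 (W : Matrix.SpecialLinearGroup (Fin 2) F) :
    ((W⁻¹ : Matrix.SpecialLinearGroup (Fin 2) F) : Matrix (Fin 2) (Fin 2) F).trace =
      (W : Matrix (Fin 2) (Fin 2) F).trace := by
  rw [Matrix.SpecialLinearGroup.coe_inv, Matrix.adjugate_fin_two, Matrix.trace_fin_two_of,
    Matrix.trace_fin_two]
  ring

theorem trace_sq_of_isScalar2 (M : Matrix.SpecialLinearGroup (Fin 2) F)
    (h : IsScalar2 (M : Matrix (Fin 2) (Fin 2) F)) :
    (M : Matrix (Fin 2) (Fin 2) F).trace ^ 2 = 4 := by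
  have h00 := h.2.2
  rw [Matrix.trace_fin_two, ← h00]
  rcases scalar_SL2_entry M h with h1 | h1 <;> rw [h1] <;> ring

section finite

variable [Fintype F]

/-- a quadratic function with non-zero linear coefficient takes a square value -/
theorem exists_quad_eq_sq (hF : ringChar F ≠ 2) (a b c : F) (hb : b ≠ 0) :
    ∃ w r : F, a * w ^ 2 + b * w + c = r ^ 2 := by
  by_cases ha : a = 0
  · refine ⟨-c / b, 0, ?_⟩
    rw [ha]
    field_simp
    ring
  · open Polynomial in
    have hf : degree (C a * X ^ 2 + C b * X + C c : F[X]) = 2 := degree_quadratic ha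
    open Polynomial in
    have hg : degree (C (-1 : F) * X ^ 2 : F[X]) = 2 := by
      rw [degree_C_mul_X_pow 2 (neg_ne_zero.2 one_ne_zero)]; rfl
    obtain ⟨w, r, h⟩ := FiniteField.exists_root_sum_quadratic hf hg
      (FiniteField.odd_card_of_char_ne_two hF)
    refine ⟨w, r, ?_⟩
    simp only [Polynomial.eval_mul, Polynomial.eval_C, Polynomial.eval_pow, Polynomial.eval_X,
      Polynomial.eval_add] at h
    linear_combination h

/-- the key factorisation: an element of trace `t` whose product with the companion matrix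
again has trace `t` -/
theorem exists_W (hF : ringChar F ≠ 2) (δ s t : F) (hδ : δ ≠ 0) (hs : s ≠ 2) (ht : t ≠ 0) :
    ∃ W : Matrix.SpecialLinearGroup (Fin 2) F, (W : Matrix (Fin 2) (Fin 2) F).trace = t ∧
      ((W : Matrix (Fin 2) (Fin 2) F) * !![0, -δ⁻¹; δ, s]).trace = t := by
  have h2 : (2 : F) ≠ 0 := Ring.two_ne_zero hF
  obtain ⟨w, r, h⟩ := exists_quad_eq_sq hF (s ^ 2 - 4) (2 * t * (2 - s)) (t ^ 2 - 4)
    (mul_ne_zero (mul_ne_zero h2 ht) (sub_ne_zero.2 (Ne.symm hs)))
  refine ⟨⟨!![t - w, ((t - s * w) + r) / 2 / δ; δ * ((r - (t - s * w)) / 2), w], ?_⟩, ?_, ?_⟩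
  · rw [Matrix.det_fin_two_of]
    field_simp
    linear_combination h
  · simp only [Matrix.trace_fin_two_of]
    ring
  · simp only [Matrix.mul_fin_two, Matrix.trace_fin_two_of]
    field_simp
    ring

/-- elements whose trace is not `±2` are determined up to conjugacy by the trace -/
theorem isConj_of_trace_eq (hF : ringChar F ≠ 2) (X Y : Matrix.SpecialLinearGroup (Fin 2) F)
    (ht : (X : Matrix (Fin 2) (Fin 2) F).trace ^ 2 ≠ 4)
    (h : (Y : Matrix (Fin 2) (Fin 2) F).trace = (X : Matrix (Fin 2) (Fin 2) F).trace) :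
    IsConj X Y := by
  have hX : ¬ IsScalar2 (X : Matrix (Fin 2) (Fin 2) F) := fun hs => ht (trace_sq_of_isScalar2 X hs)
  have hY : ¬ IsScalar2 (Y : Matrix (Fin 2) (Fin 2) F) := fun hs => ht (by
    rw [← h]; exact trace_sq_of_isScalar2 Y hs)
  rw [SL2_isConj_iff hF X Y hX hY]
  refine ⟨h.symm, ?_⟩
  have h1 := rep1_of_trace_sq_ne hF X ht
  have h2 := rep1_of_trace_sq_ne hF Y (by rw [h]; exact ht)
  exact ⟨fun _ => h2, fun _ => h1⟩

end finite

/-- A strong covering result in the direction of Thompson's conjecture (non-identity elements) for PSL(2,q), q odd: let F be a finite field of odd characteristic p with at least 5 elements and let x ∈ PSL(2,F) have order greater than 2 and not divisible by p (so x is not unipotent). Then every non-identity element of PSL(2,F) is a product of two conjugates of x. -/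
theorem result {F : Type*} [Field F] [Fintype F] (p : ℕ) [Fact p.Prime] [CharP F p] (hp : p ≠ 2) (h5 : 5 ≤ Fintype.card F)
    (x : Matrix.ProjectiveSpecialLinearGroup (Fin 2) F) (hx2 : 2 < orderOf x) (hxp : ¬ p ∣ orderOf x) : ∀ g : Matrix.ProjectiveSpecialLinearGroup (Fin 2) F, g ≠ 1 → ∃ u v : Matrix.ProjectiveSpecialLinearGroup (Fin 2) F, g = (u * x * u⁻¹) * (v * x * v⁻¹) := by
  intro g hg
  have hF : ringChar F ≠ 2 := by rw [ringChar.eq F p]; exact hp
  have h2 : (2 : F) ≠ 0 := Ring.two_ne_zero hF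
  obtain ⟨X, rfl⟩ := QuotientGroup.mk_surjective x
  obtain ⟨G₀, rfl⟩ := QuotientGroup.mk_surjective g
  have hG₀ : ¬ IsScalar2 (G₀ : Matrix (Fin 2) (Fin 2) F) := by
    intro h
    apply hg
    exact (QuotientGroup.eq_one_iff G₀).2 (mem_center_of_isScalar2 G₀ h)
  set t := (X : Matrix (Fin 2) (Fin 2) F).trace with ht
  have ht0 : t ≠ 0 := by
    intro h0
    have hsq := sq_eq_of_det_one (X : Matrix (Fin 2) (Fin 2) F) X.2
    rw [← ht, h0, zero_smul, zero_sub] at hsq
    have h1 : (X : Matrix.ProjectiveSpecialLinearGroup (Fin 2) F) ^ 2 = 1 :=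
      (psl_pow_eq_one_iff X 2).2 ⟨-1, by ring, by rw [pow_two, hsq]; simp⟩
    have h3 := Nat.le_of_dvd (by norm_num) (orderOf_dvd_of_pow_eq_one h1)
    omega
  have ht4 : t ^ 2 ≠ 4 := by
    intro h4
    have hl1 : (t / 2) ^ 2 = 1 := by
      field_simp
      linear_combination h4
    have hroot : (t / 2) ^ 2 - (X : Matrix (Fin 2) (Fin 2) F).trace * (t / 2) + 1 = 0 := by
      rw [← ht]
      field_simp
      linear_combination (-1 : F) * h4
    have hpow := pow_char_eq_smul_of_root (X : Matrix (Fin 2) (Fin 2) F) X.2 (t / 2) hroot hl1 p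
    have h1 : (X : Matrix.ProjectiveSpecialLinearGroup (Fin 2) F) ^ p = 1 :=
      (psl_pow_eq_one_iff X p).2 ⟨(t / 2) ^ p, by rw [← pow_mul, mul_comm, pow_mul, hl1, one_pow], hpow⟩
    have hdvd := orderOf_dvd_of_pow_eq_one h1
    rcases (Nat.dvd_prime (Fact.out : p.Prime)).1 hdvd with h3 | h3
    · omega
    · exact hxp (h3 ▸ dvd_rfl)
  -- choose the lift of `g` with trace different from two
  obtain ⟨G, hGmk, hGs, hGtr⟩ : ∃ G : Matrix.SpecialLinearGroup (Fin 2) F,
      (G : Matrix.ProjectiveSpecialLinearGroup (Fin 2) F) = (G₀ : Matrix.ProjectiveSpecialLinearGroup (Fin 2) F) ∧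
      ¬ IsScalar2 (G : Matrix (Fin 2) (Fin 2) F) ∧ (G : Matrix (Fin 2) (Fin 2) F).trace ≠ 2 := by
    by_cases h : (G₀ : Matrix (Fin 2) (Fin 2) F).trace = 2
    · refine ⟨G₀ * negOne, mk_mul_negOne G₀, ?_, ?_⟩
      · rw [coe_mul_negOne]
        rintro ⟨h01, h10, h00⟩
        apply hG₀
        simp only [Matrix.neg_apply, neg_eq_zero, neg_inj] at h01 h10 h00
        exact ⟨h01, h10, h00⟩
      · rw [coe_mul_negOne, Matrix.trace_neg, h]
        intro h'
        apply h2
        have : (2 : F) * 2 = 0 := by linear_combination (-1 : F) * h'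
        rcases mul_eq_zero.1 this with h3 | h3 <;> exact h3
    · exact ⟨G₀, rfl, hG₀, h⟩
  obtain ⟨P, δ, hδ, hPC⟩ := exists_conj_companion G hGs
  set s := (G : Matrix (Fin 2) (Fin 2) F).trace with hs
  obtain ⟨W, hW1, hW2⟩ := exists_W hF δ s t hδ hGtr ht0
  set C := P * G * P⁻¹ with hC
  have hY : IsConj X W⁻¹ := isConj_of_trace_eq hF X W⁻¹ ht4 (by rw [trace_inv_SL2, hW1])
  have hZ : IsConj X (W * C) := isConj_of_trace_eq hF X (W * C) ht4 (by
    rw [Matrix.SpecialLinearGroup.coe_mul, hPC, hW2])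
  obtain ⟨a, ha⟩ := isConj_iff.1 hY
  obtain ⟨b, hb⟩ := isConj_iff.1 hZ
  refine ⟨((P⁻¹ * a : Matrix.SpecialLinearGroup (Fin 2) F) : Matrix.ProjectiveSpecialLinearGroup (Fin 2) F),
    ((P⁻¹ * b : Matrix.SpecialLinearGroup (Fin 2) F) : Matrix.ProjectiveSpecialLinearGroup (Fin 2) F), ?_⟩
  rw [← hGmk]
  simp only [← QuotientGroup.mk_mul, ← QuotientGroup.mk_inv]
  congr 1
  have e1 : P⁻¹ * a * X * (P⁻¹ * a)⁻¹ * (P⁻¹ * b * X * (P⁻¹ * b)⁻¹) =
      P⁻¹ * ((a * X * a⁻¹) * (b * X * b⁻¹)) * P := by group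
  rw [e1, ha, hb, hC]
  group

end Cfsg.Agent.S2455
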