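import Mathlib
import Cfsg.Statements.S2456
import Cfsg.Agent.S2455
import Cfsg.Agent.Lib.Helper12.SL2

set_option autoImplicit false
open Cfsg

namespace Cfsg.Agent.S2456

open Cfsg.Agent.Helper12
open Cfsg.Agent.S2450
open Cfsg.Agent.S2455

variable {F : Type*} [Field F]

/-- non-identity elements of `SL₂` over a finite field of characteristic two with the same trace
are conjugate -/
theorem isConj_of_trace_eq_char_two [Finite F] [CharP F 2]
    (X Y : Matrix.SpecialLinearGroup (Fin 2) F) (hX : X ≠ 1) (hY : Y ≠ 1)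
    (h : (Y : Matrix (Fin 2) (Fin 2) F).trace = (X : Matrix (Fin 2) (Fin 2) F).trace) :
    IsConj X Y :=
  SL2_isConj_of_companion X Y (X : Matrix (Fin 2) (Fin 2) F).trace
    (SL2_char_two_conj_companion X hX) (by rw [← h]; exact SL2_char_two_conj_companion Y hY)

theorem ne_one_of_trace_ne_zero [CharP F 2] (Y : Matrix.SpecialLinearGroup (Fin 2) F)
    (h : (Y : Matrix (Fin 2) (Fin 2) F).trace ≠ 0) : Y ≠ 1 := by
  rintro rfl
  apply h
  rw [Matrix.SpecialLinearGroup.coe_one, Matrix.trace_one, Fintype.card_fin]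
  exact CharP.ofNat_eq_zero F 2

/-- the key factorisation in characteristic two -/
theorem exists_W2 [Finite F] [CharP F 2] (s t l : F) (ht : t ≠ 0) (hl : l ^ 2 - t * l + 1 = 0) :
    ∃ W : Matrix.SpecialLinearGroup (Fin 2) F, (W : Matrix (Fin 2) (Fin 2) F).trace = t ∧
      ((W : Matrix (Fin 2) (Fin 2) F) * companion2 s 1).trace = t := by
  have hl0 : l ≠ 0 := by
    rintro rfl
    simp at hl
  by_cases hs : s = 0
  · refine ⟨⟨!![t, l; -l⁻¹, 0], ?_⟩, ?_, ?_⟩
    · rw [Matrix.det_fin_two_of]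
      field_simp
      ring
    · simp only [Matrix.trace_fin_two_of]
      ring
    · rw [hs]
      simp only [companion2, Matrix.mul_fin_two, Matrix.trace_fin_two_of]
      field_simp
      linear_combination hl
  · obtain ⟨r, hr⟩ := FiniteField.isSquare_of_char_two (ringChar.eq F 2) ((t - t / s) * (t / s) - 1)
    refine ⟨⟨!![t - t / s, r; r, t / s], ?_⟩, ?_, ?_⟩
    · rw [Matrix.det_fin_two_of, ← hr]
      ring
    · simp only [Matrix.trace_fin_two_of]
      ring
    · simp only [companion2, Matrix.mul_fin_two, Matrix.trace_fin_two_of]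
      field_simp
      ring

/-- A strong covering result in the direction of Thompson's conjecture (non-identity elements) for PSL(2,q), q even: let F be a finite field of characteristic 2 with q ≥ 4 elements and let x ∈ PSL(2,F) have order greater than 2 and not dividing q + 1. Then every non-identity element of PSL(2,F) is a product of two conjugates of x. -/
theorem result {F : Type*} [Field F] [Fintype F] [CharP F 2] (h4 : 4 ≤ Fintype.card F)
    (x : Matrix.ProjectiveSpecialLinearGroup (Fin 2) F) (hx2 : 2 < orderOf x) (hxq : ¬ orderOf x ∣ Fintype.card F + 1) : ∀ g : Matrix.ProjectiveSpecialLinearGroup (Fin 2) F, g ≠ 1 → ∃ u v : Matrix.ProjectiveSpecialLinearGroup (Fin 2) F, g = (u * x * u⁻¹) * (v * x * v⁻¹) := by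
  intro g hg
  obtain ⟨X, rfl⟩ := QuotientGroup.mk_surjective x
  obtain ⟨G, rfl⟩ := QuotientGroup.mk_surjective g
  have hG : G ≠ 1 := by
    rintro rfl
    exact hg rfl
  set t := (X : Matrix (Fin 2) (Fin 2) F).trace with ht
  have ht0 : t ≠ 0 := by
    intro h0
    have hsq := sq_eq_of_det_one (X : Matrix (Fin 2) (Fin 2) F) X.2
    rw [← ht, h0, zero_smul, zero_sub] at hsq
    have h1 : (X : Matrix.ProjectiveSpecialLinearGroup (Fin 2) F) ^ 2 = 1 :=
      (psl_pow_eq_one_iff X 2).2 ⟨-1, by ring, by rw [pow_two, hsq]; simp⟩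
    have h3 := Nat.le_of_dvd (by norm_num) (orderOf_dvd_of_pow_eq_one h1)
    omega
  -- the characteristic polynomial of `X` splits
  obtain ⟨l, hl⟩ : ∃ l : F, l ^ 2 - t * l + 1 = 0 := by
    by_contra hcon
    push Not at hcon
    obtain ⟨c, hc, hpow⟩ := pow_eq_smul_of_no_root (X : Matrix (Fin 2) (Fin 2) F) X.2 hcon
    rw [gcd_two_card_sub_one_of_even (FiniteField.even_card_of_char_two (ringChar.eq F 2)),
      Nat.div_one] at hpow
    apply hxq
    apply orderOf_dvd_of_pow_eq_one
    exact (psl_pow_eq_one_iff X _).2 ⟨c, hc, hpow⟩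
  obtain ⟨P, hP⟩ := SL2_char_two_conj_companion G hG
  set s := (G : Matrix (Fin 2) (Fin 2) F).trace with hs
  obtain ⟨W, hW1, hW2⟩ := exists_W2 s t l ht0 hl
  set C := P⁻¹ * G * P with hC
  have hXne : X ≠ 1 := ne_one_of_trace_ne_zero X ht0
  have hY : IsConj X W⁻¹ := isConj_of_trace_eq_char_two X W⁻¹ hXne
    (ne_one_of_trace_ne_zero _ (by rw [trace_inv_SL2, hW1]; exact ht0))
    (by rw [trace_inv_SL2, hW1])
  have hZtr : ((W * C : Matrix.SpecialLinearGroup (Fin 2) F) : Matrix (Fin 2) (Fin 2) F).trace = t := by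
    rw [Matrix.SpecialLinearGroup.coe_mul, hP, hW2]
  have hZ : IsConj X (W * C) := isConj_of_trace_eq_char_two X (W * C) hXne
    (ne_one_of_trace_ne_zero _ (by rw [hZtr]; exact ht0)) hZtr
  obtain ⟨a, ha⟩ := isConj_iff.1 hY
  obtain ⟨b, hb⟩ := isConj_iff.1 hZ
  refine ⟨((P * a : Matrix.SpecialLinearGroup (Fin 2) F) : Matrix.ProjectiveSpecialLinearGroup (Fin 2) F),
    ((P * b : Matrix.SpecialLinearGroup (Fin 2) F) : Matrix.ProjectiveSpecialLinearGroup (Fin 2) F), ?_⟩
  simp only [← QuotientGroup.mk_mul, ← QuotientGroup.mk_inv]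
  congr 1
  have e1 : P * a * X * (P * a)⁻¹ * (P * b * X * (P * b)⁻¹) =
      P * ((a * X * a⁻¹) * (b * X * b⁻¹)) * P⁻¹ := by group
  rw [e1, ha, hb, hC]
  group

end Cfsg.Agent.S2456
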