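import Mathlib
import Cfsg.Statements.S2467
import Cfsg.Agent.Lib.Helper12.AltOrders

set_option autoImplicit false
open Cfsg

namespace Cfsg.Agent.S2467

open Cfsg.Agent.Helper12

/-- Adjacency of 2 and an odd prime in the prime graph of the alternating groups: let r be an odd prime at most n, with n ≥ 4. The alternating group of degree n has an element of order 2r if and only if r + 4 ≤ n. -/
theorem result (n r : ℕ) (hn : 4 ≤ n) (hr : r.Prime) (hr2 : r ≠ 2) (hrn : r ≤ n) :
    (2 * r ∈ Set.range (orderOf : alternatingGroup (Fin n) → ℕ)) ↔ r + 4 ≤ n := by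
  rw [alt_order_iff]
  have hro : Odd r := hr.odd_of_ne_two hr2
  have hr2' : 2 ≤ r := hr.two_le
  constructor
  · rintro ⟨m, h2, hsum, heven, hlcm⟩
    obtain ⟨a, ha, hra⟩ := prime_dvd_multiset_lcm hr m (hlcm ▸ dvd_mul_left r 2)
    obtain ⟨b, hb, h2b⟩ := prime_dvd_multiset_lcm Nat.prime_two m (hlcm ▸ dvd_mul_right 2 r)
    have ha0 : 0 < a := by have := h2 a ha; omega
    obtain ⟨m', rfl⟩ := Multiset.exists_cons_of_mem ha
    rw [Multiset.sum_cons, Multiset.card_cons] at heven
    rw [Multiset.sum_cons] at hsum
    by_cases hae : Even a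
    · -- `a` is even and divisible by `r`, so `2 * r ≤ a`
      have h2a : 2 ∣ a := hae.two_dvd
      have hcop : Nat.Coprime 2 r := (Nat.coprime_primes Nat.prime_two hr).mpr (Ne.symm hr2)
      have h1 : 2 * r ≤ a := Nat.le_of_dvd ha0 (hcop.mul_dvd_of_dvd_of_dvd h2a hra)
      have hodd' : ¬ Even (m'.sum + m'.card) := by
        intro he
        have h3 : a + m'.sum + (m'.card + 1) = (a + 1) + (m'.sum + m'.card) := by ring
        rw [h3] at heven
        have : Even (a + 1) := (Nat.even_add.mp heven).mpr he
        rw [Nat.even_add_one] at this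
        exact this hae
      obtain ⟨c, hc, hce⟩ := exists_even_of_odd_sum_add_card m' hodd'
      have hc2 : 2 ≤ c := h2 c (Multiset.mem_cons_of_mem hc)
      have hcs : c ≤ m'.sum := Multiset.le_sum_of_mem hc
      omega
    · have hao : Odd a := Nat.not_even_iff_odd.mp hae
      have hra' : r ≤ a := Nat.le_of_dvd ha0 hra
      have hbe : Even b := (even_iff_two_dvd).mpr h2b
      have hb' : b ∈ m' := by
        rcases Multiset.mem_cons.mp hb with h | h
        · exact absurd (h ▸ hbe) hae
        · exact h
      obtain ⟨m'', rfl⟩ := Multiset.exists_cons_of_mem hb'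
      rw [Multiset.sum_cons, Multiset.card_cons] at heven
      rw [Multiset.sum_cons] at hsum
      have hodd' : ¬ Even (m''.sum + m''.card) := by
        intro he
        have h3 : a + (b + m''.sum) + (m''.card + 1 + 1) = (a + 1) + (b + 1) + (m''.sum + m''.card) := by ring
        rw [h3] at heven
        have h4 : Even (a + 1) := hao.add_one
        have h5 : Even ((a + 1) + (b + 1)) := (Nat.even_add.mp heven).mpr he
        have h6 : Even (b + 1) := (Nat.even_add.mp h5).mp h4
        rw [Nat.even_add_one] at h6
        exact h6 hbe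
      obtain ⟨c, hc, hce⟩ := exists_even_of_odd_sum_add_card m'' hodd'
      have hc2 : 2 ≤ c := h2 c (Multiset.mem_cons_of_mem (Multiset.mem_cons_of_mem hc))
      have hb2 : 2 ≤ b := h2 b hb
      have hcs : c ≤ m''.sum := Multiset.le_sum_of_mem hc
      omega
  · intro h
    refine ⟨{r, 2, 2}, ?_, ?_, ?_, ?_⟩
    · intro a ha
      simp only [Multiset.insert_eq_cons, Multiset.mem_cons, Multiset.mem_singleton] at ha
      rcases ha with rfl | rfl | rfl <;> omega
    · simp only [Multiset.insert_eq_cons, Multiset.sum_cons, Multiset.sum_singleton]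
      omega
    · have h1 : Even (r + 1) := hro.add_one
      have h2 : Even (r + 1 + 6) := h1.add (by decide)
      simp only [Multiset.insert_eq_cons, Multiset.sum_cons, Multiset.sum_singleton, Multiset.card_cons,
        Multiset.card_singleton]
      have h3 : r + (2 + 2) + (1 + 1 + 1) = r + 1 + 6 := by ring
      rw [h3]; exact h2
    · simp only [Multiset.insert_eq_cons, Multiset.lcm_cons, Multiset.lcm_singleton, normalize_eq]
      have hcop : Nat.Coprime r 2 := (Nat.coprime_primes hr Nat.prime_two).mpr hr2
      have e1 : lcm (2 : ℕ) 2 = 2 := by decide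
      rw [e1]
      have := hcop.lcm_eq_mul
      rw [mul_comm] at this
      exact this

end Cfsg.Agent.S2467
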