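import Mathlib
import Cfsg.Statements.S2468
import Cfsg.Agent.Lib.Helper12.CommUnip
import Cfsg.Agent.Lib.Helper12.PSLOrder

set_option autoImplicit false
open Cfsg

namespace Cfsg.Agent.S2468

open Cfsg.Agent.Helper12 Module

/-- the fixed-point counting contradiction for two commuting semisimple elements -/
theorem no_commuting_pair {F : Type*} [Field F] [Fintype F] {V : Type*} [AddCommGroup V]
    [Module F V] [FiniteDimensional F V] {r s : ℕ} [Fact r.Prime]
    [Fact s.Prime] (hrq : ¬ r ∣ Fintype.card F) (hsq : ¬ s ∣ Fintype.card F)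
    (X Y : Module.End F V) (hXY : Commute X Y) (hX : X ^ r = 1) (hY : Y ^ s = 1)
    (hX1 : X ≠ 1) (hY1 : Y ≠ 1) {k l : ℕ} (hk : k = orderOf ((Fintype.card F : ℕ) : ZMod r))
    (hl : l = orderOf ((Fintype.card F : ℕ) : ZMod s)) (hkl : k ≤ l) (hn : finrank F V < k + l)
    (hdvd : ¬ k ∣ l) : False := by
  obtain ⟨n, hfr⟩ : ∃ n, finrank F V = n := ⟨_, rfl⟩
  rw [hfr] at hn
  obtain ⟨CX, hCX⟩ : ∃ C, C = LinearMap.ker (X - 1) := ⟨_, rfl⟩
  obtain ⟨CY, hCY⟩ : ∃ C, C = LinearMap.ker (Y - 1) := ⟨_, rfl⟩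
  have hne_top : ∀ (Z : Module.End F V), Z ≠ 1 → LinearMap.ker (Z - 1) ≠ ⊤ := by
    intro Z hZ h
    apply hZ
    ext1 v
    have hv : v ∈ LinearMap.ker (Z - 1) := by rw [h]; trivial
    rw [LinearMap.mem_ker, LinearMap.sub_apply, sub_eq_zero] at hv
    rw [hv]
  have hcx : finrank F CX < n := by
    rw [hCX, ← hfr]
    exact Submodule.finrank_lt (hne_top X hX1)
  have hcy : finrank F CY < n := by
    rw [hCY, ← hfr]
    exact Submodule.finrank_lt (hne_top Y hY1)
  have h1 := orderOf_dvd_finrank_sub hrq X hX ⊤ (fun w _ => trivial)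
  have h2 := orderOf_dvd_finrank_sub hsq Y hY ⊤ (fun w _ => trivial)
  rw [top_inf_eq, finrank_top, hfr, ← hk, ← hCX] at h1
  rw [top_inf_eq, finrank_top, hfr, ← hl, ← hCY] at h2
  have hinvY : ∀ w ∈ CY, X w ∈ CY := by
    intro w hw
    rw [hCY, LinearMap.mem_ker, LinearMap.sub_apply, sub_eq_zero] at hw ⊢
    change (Y * X) w = X w
    rw [← hXY.eq]
    change X (Y w) = X w
    rw [hw]
    rfl
  have hinvX : ∀ w ∈ CX, Y w ∈ CX := by
    intro w hw
    rw [hCX, LinearMap.mem_ker, LinearMap.sub_apply, sub_eq_zero] at hw ⊢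
    change (X * Y) w = Y w
    rw [hXY.eq]
    change Y (X w) = Y w
    rw [hw]
    rfl
  have h3 := orderOf_dvd_finrank_sub hrq X hX CY hinvY
  have h4 := orderOf_dvd_finrank_sub hsq Y hY CX hinvX
  rw [← hk, ← hCX] at h3
  rw [← hl, ← hCY] at h4
  have hz : finrank F ↥(CX ⊓ CY) = finrank F ↥(CY ⊓ CX) := by rw [inf_comm]
  rw [hz] at h4
  have hzx : finrank F ↥(CY ⊓ CX) ≤ finrank F CX := Submodule.finrank_mono inf_le_right
  have hzy : finrank F ↥(CY ⊓ CX) ≤ finrank F CY := Submodule.finrank_mono inf_le_left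
  obtain ⟨cx, hcxd⟩ : ∃ c, c = finrank F CX := ⟨_, rfl⟩
  obtain ⟨cy, hcyd⟩ : ∃ c, c = finrank F CY := ⟨_, rfl⟩
  obtain ⟨z, hzd⟩ : ∃ c, c = finrank F ↥(CY ⊓ CX) := ⟨_, rfl⟩
  rw [← hcxd] at hcx h1 h4 hzx
  rw [← hcyd] at hcy h2 h3 hzy
  rw [← hzd] at h3 h4 hzx hzy
  have b1 : k ≤ n - cx := Nat.le_of_dvd (by omega) h1
  have b2 : l ≤ n - cy := Nat.le_of_dvd (by omega) h2
  have e1 : cy = z := by
    by_contra hne
    have := Nat.le_of_dvd (by omega) h3
    omega
  have e2 : cx = z := by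
    by_contra hne
    have := Nat.le_of_dvd (by omega) h4
    omega
  subst e1
  subst e2
  obtain ⟨j, hj⟩ := h2
  have hj1 : j = 1 := by
    rcases j with _ | _ | j
    · omega
    · rfl
    · exfalso
      have : l * (j + 1 + 1) = l * j + l + l := by ring
      omega
  rw [hj1, mul_one] at hj
  rw [hj] at h1
  exact hdvd h1

theorem result {F : Type*} [Field F] [Fintype F] (p : ℕ) [Fact p.Prime] [CharP F p] (n : ℕ) (hn : 2 ≤ n) (hsmall : n = 2 → 4 ≤ Fintype.card F)
    (r s : ℕ) (hr : r.Prime) (hs : s.Prime) (hr2 : r ≠ 2) (hs2 : s ≠ 2) (hrp : r ≠ p) (hsp : s ≠ p) (hrs : r ≠ s)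
    (hrG : r ∣ Nat.card (Matrix.ProjectiveSpecialLinearGroup (Fin n) F)) (hsG : s ∣ Nat.card (Matrix.ProjectiveSpecialLinearGroup (Fin n) F))
    (k l : ℕ) (hk : k = orderOf ((Fintype.card F : ℕ) : ZMod r)) (hl : l = orderOf ((Fintype.card F : ℕ) : ZMod s))
    (h2k : 2 ≤ k) (hkl : k ≤ l) :
    (r * s ∉ Set.range (orderOf : Matrix.ProjectiveSpecialLinearGroup (Fin n) F → ℕ)) ↔ (n < k + l ∧ ¬ k ∣ l) := by
  classical
  haveI := Fact.mk hr
  haveI := Fact.mk hs
  have hpprime : p.Prime := Fact.out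
  have hq1 : 1 < Fintype.card F := Fintype.one_lt_card
  have hnotdvd : ∀ t : ℕ, t.Prime → t ≠ p → ¬ t ∣ Fintype.card F := by
    intro t ht htp h
    obtain ⟨e, -, he⟩ := FiniteField.card F p
    rw [he] at h
    exact htp ((Nat.prime_dvd_prime_iff_eq ht hpprime).mp (ht.dvd_of_dvd_pow h))
  have hrq := hnotdvd r hr hrp
  have hsq := hnotdvd s hs hsp
  have hrk : r ∣ Fintype.card F ^ k - 1 := by rw [hk]; exact dvd_pow_orderOf_sub_one (by omega)
  have hsl : s ∣ Fintype.card F ^ l - 1 := by rw [hl]; exact dvd_pow_orderOf_sub_one (by omega)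
  have hr1 : ¬ r ∣ Fintype.card F - 1 :=
    not_dvd_sub_one_of_two_le_orderOf (by omega) (by rw [← hk]; exact h2k)
  have hs1 : ¬ s ∣ Fintype.card F - 1 :=
    not_dvd_sub_one_of_two_le_orderOf (by omega) (by rw [← hl]; omega)
  have hcr : Nat.Coprime r (Fintype.card F - 1) := (Nat.Prime.coprime_iff_not_dvd hr).mpr hr1
  have hcs : Nat.Coprime s (Fintype.card F - 1) := (Nat.Prime.coprime_iff_not_dvd hs).mpr hs1
  have hcop : Nat.Coprime (r * s) (Fintype.card F - 1) := Nat.Coprime.mul_left hcr hcs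
  have hkn : k ≤ n := by rw [hk]; exact orderOf_zmod_le_of_dvd_card_PSL (by omega) hr hrq hrG
  have hln : l ≤ n := by rw [hl]; exact orderOf_zmod_le_of_dvd_card_PSL (by omega) hs hsq hsG
  have hrscop : Nat.Coprime r s := (Nat.coprime_primes hr hs).mpr hrs
  constructor
  · intro hno
    by_contra hcon
    apply hno
    rw [Set.mem_range]
    have hcases : k + l ≤ n ∨ k ∣ l := by
      by_contra h
      push Not at h
      exact hcon ⟨by omega, h.2⟩
    haveI : NeZero k := ⟨by omega⟩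
    haveI : NeZero l := ⟨by omega⟩
    rcases hcases with h1 | h1
    · obtain ⟨z1, hz1⟩ := exists_orderOf_units_extension (F := F) p k hrk
      obtain ⟨z2, hz2⟩ := exists_orderOf_units_extension (F := F) p l hsl
      have hfin : finrank F (FiniteField.Extension F p k × FiniteField.Extension F p l) ≤ n := by
        rw [Module.finrank_prod, FiniteField.finrank_extension, FiniteField.finrank_extension]
        exact h1
      obtain ⟨f, hf⟩ := exists_units_embedding
        (FiniteField.Extension F p k × FiniteField.Extension F p l) hfin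
      have hg : orderOf (f (MulEquiv.prodUnits.symm (z1, z2))) = r * s := by
        rw [orderOf_injective f hf, MulEquiv.orderOf_eq, Prod.orderOf_mk, hz1, hz2,
          Nat.Coprime.lcm_eq_mul hrscop]
      exact exists_orderOf_PSL_of_GL (by omega) hcop _ hg
    · have hrl : r ∣ Fintype.card F ^ l - 1 := by
        obtain ⟨j, rfl⟩ := h1
        refine dvd_trans hrk ?_
        have := Nat.sub_dvd_pow_sub_pow (Fintype.card F ^ k) 1 j
        rwa [one_pow, ← pow_mul] at this
      have hrsl : r * s ∣ Fintype.card F ^ l - 1 :=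
        Nat.Coprime.mul_dvd_of_dvd_of_dvd hrscop hrl hsl
      obtain ⟨z, hz⟩ := exists_orderOf_units_extension (F := F) p l hrsl
      have hfin : finrank F (FiniteField.Extension F p l) ≤ n := by
        rw [FiniteField.finrank_extension]
        exact hln
      obtain ⟨f, hf⟩ := exists_units_embedding (FiniteField.Extension F p l) hfin
      have hg : orderOf (f z) = r * s := by
        rw [orderOf_injective f hf, hz]
      exact exists_orderOf_PSL_of_GL (by omega) hcop _ hg
  · rintro ⟨hnkl, hkl'⟩ hmem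
    rw [Set.mem_range] at hmem
    obtain ⟨g, hg⟩ := hmem
    have hrs0 : r * s ≠ 0 := Nat.mul_ne_zero hr.ne_zero hs.ne_zero
    have ha : orderOf (g ^ s) = r := by
      rw [orderOf_pow_of_dvd hs.ne_zero (by rw [hg]; exact dvd_mul_left s r), hg,
        Nat.mul_div_cancel _ hs.pos]
    have hb : orderOf (g ^ r) = s := by
      rw [orderOf_pow_of_dvd hr.ne_zero (by rw [hg]; exact dvd_mul_right r s), hg,
        Nat.mul_div_cancel_left _ hr.pos]
    have hab : Commute (g ^ s) (g ^ r) := (Commute.refl g).pow_pow s r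
    obtain ⟨X, Y, hXY, hX, hY, hX1, hY1⟩ := exists_commuting_end_of_PSL (by omega) hr.one_lt
      hs.one_lt hcr hcs _ _ ha hb hab
    exact no_commuting_pair hrq hsq X Y hXY hX hY hX1 hY1 hk hl hkl
      (by rw [Module.finrank_fin_fun]; exact hnkl) hkl'

end Cfsg.Agent.S2468
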