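import Mathlib
import Cfsg.Statements.S2469
import Cfsg.Agent.Lib.Helper12.PSpRSYes
import Cfsg.Agent.Lib.Helper12.GLSylowVal
import Cfsg.Agent.Lib.Helper2.SympCard

set_option autoImplicit false
open Cfsg

namespace Cfsg.Agent.S2469

open Cfsg.Agent.Helper12 Cfsg.Agent.Helper12.PSpRS Cfsg.Agent.Helper12.PSLAdj

/-- Adjacency of two odd primes in the prime graph of PSp(2n,q): let F be a finite field of characteristic p with q elements, n ≥ 2 with PSp(2n,F) simple, and let r ≠ s be odd primes different from p dividing the order of PSp(2n,F). Let k, l be the multiplicative orders of q modulo r and s, put η(m) = m for odd m and η(m) = m/2 for even m, and suppose η(k) ≤ η(l). Then PSp(2n,F) has NO element of order r·s if and only if η(k) + η(l) > n and l/k is not an odd integer. -/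
theorem result {F : Type*} [Field F] [Fintype F] (p : ℕ) [Fact p.Prime] [CharP F p] (n : ℕ) (hn : 2 ≤ n) (hsmall : n = 2 → 3 ≤ Fintype.card F)
    (r s : ℕ) (hr : r.Prime) (hs : s.Prime) (hr2 : r ≠ 2) (hs2 : s ≠ 2) (hrp : r ≠ p) (hsp : s ≠ p) (hrs : r ≠ s)
    (hrG : r ∣ Nat.card (Cfsg.PSp n F)) (hsG : s ∣ Nat.card (Cfsg.PSp n F))
    (k l ηk ηl : ℕ) (hk : k = orderOf ((Fintype.card F : ℕ) : ZMod r)) (hl : l = orderOf ((Fintype.card F : ℕ) : ZMod s))
    (hηk : (Odd k ∧ ηk = k) ∨ (Even k ∧ 2 * ηk = k)) (hηl : (Odd l ∧ ηl = l) ∨ (Even l ∧ 2 * ηl = l)) (hkl : ηk ≤ ηl) :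
    (r * s ∉ Set.range (orderOf : Cfsg.PSp n F → ℕ)) ↔ (n < ηk + ηl ∧ ¬ ∃ t : ℕ, Odd t ∧ l = k * t) := by
  classical
  have hq1 : 1 < Fintype.card F := Fintype.one_lt_card
  have hsq : ¬ s ∣ Fintype.card F := not_dvd_card_of_ne p hs hsp
  -- `η(l) ≤ n`
  have hηln : ηl ≤ n := by
    have h1 : s ∣ Nat.card (Matrix.symplecticGroup (Fin n) F) :=
      hsG.trans (Subgroup.card_quotient_dvd_card _)
    rw [Cfsg.Agent.Helper2.Symp.card_symplecticGroup] at h1
    have h2 : s ∣ ∏ i ∈ Finset.range n, (Fintype.card F ^ (2 * (i + 1)) - 1) := by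
      rcases (Nat.Prime.dvd_mul hs).1 h1 with h | h
      · exact absurd (hs.dvd_of_dvd_pow h) hsq
      · exact h
    obtain ⟨i, hi, hdiv⟩ := (Prime.dvd_finsetProd_iff hs.prime _).1 h2
    have hin : i < n := Finset.mem_range.1 hi
    have hld : l ∣ 2 * (i + 1) := by
      rw [hl]
      exact orderOf_dvd_of_dvd_pow_sub_one (by omega) hdiv
    rcases hηl with ⟨hodd, hη⟩ | ⟨heven, hη⟩
    · have hc : Nat.Coprime l 2 := (Nat.coprime_two_right).2 hodd
      have h3 : l ∣ i + 1 := hc.dvd_of_dvd_mul_left hld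
      have h4 := Nat.le_of_dvd (by omega) h3
      omega
    · rw [← hη] at hld
      have h3 : ηl ∣ i + 1 := (Nat.mul_dvd_mul_iff_left (by norm_num : 0 < 2)).1 hld
      have h4 := Nat.le_of_dvd (by omega) h3
      omega
  constructor
  · intro hno
    by_contra hcon
    apply hno
    have hcase : ηk + ηl ≤ n ∨ ∃ t : ℕ, Odd t ∧ l = k * t := by
      by_contra h
      push Not at h
      apply hcon
      refine ⟨h.1, ?_⟩
      rintro ⟨t, ht, hlt⟩
      exact h.2 t ht hlt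
    obtain ⟨y, hy⟩ := exists_elt_PSp_rs (F := F) p (n := n) (by omega) hr hs hr2 hs2 hrp hsp hrs
      hk hl hηk hηl hηln hcase
    exact ⟨y, hy⟩
  · rintro ⟨hlt, hno⟩ ⟨y, hy⟩
    exact no_elt_PSp_rs p (by omega) hr hs hr2 hs2 hrp hsp hrs hk hl hηk hηl hkl hlt hno y hy

end Cfsg.Agent.S2469
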