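import Mathlib
import Cfsg.Statements.S2470
import Cfsg.Agent.Lib.Helper12.PSLAdjNo
import Cfsg.Agent.Lib.Helper12.PSLAdjYes
import Cfsg.Agent.Lib.Helper12.PSLAdjDiag

set_option autoImplicit false
open Cfsg

namespace Cfsg.Agent.S2470

open Cfsg.Agent.Helper12 Cfsg.Agent.Helper12.PSLAdj

/-- Adjacency of an odd prime and the characteristic in the prime graph of PSL(n,q): let F be a finite field of characteristic p with q elements, n ≥ 2 with PSL(n,F) simple, and let r ≠ p be an odd prime dividing the order of PSL(n,F), with k the multiplicative order of q modulo r. Then PSL(n,F) has NO element of order r·p if and only if either k > n − 2, or n = 3, r = 3 and 3 divides q − 1 exactly once. -/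
theorem result {F : Type*} [Field F] [Fintype F] (p : ℕ) [Fact p.Prime] [CharP F p] (n : ℕ) (hn : 2 ≤ n) (hsmall : n = 2 → 4 ≤ Fintype.card F)
    (r : ℕ) (hr : r.Prime) (hr2 : r ≠ 2) (hrp : r ≠ p) (hrG : r ∣ Nat.card (Matrix.ProjectiveSpecialLinearGroup (Fin n) F))
    (k : ℕ) (hk : k = orderOf ((Fintype.card F : ℕ) : ZMod r)) :
    (r * p ∉ Set.range (orderOf : Matrix.ProjectiveSpecialLinearGroup (Fin n) F → ℕ)) ↔
      (n - 2 < k ∨ (n = 3 ∧ r = 3 ∧ 3 ∣ Fintype.card F - 1 ∧ ¬ 9 ∣ Fintype.card F - 1)) := by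
  classical
  have hp : p.Prime := Fact.out
  have hq1 : 1 ≤ Fintype.card F := Fintype.card_pos
  have hrq : ¬ r ∣ Fintype.card F := not_dvd_card_of_ne p hr hrp
  have hkpos : 0 < k := by
    rw [hk]
    apply orderOf_pos_iff.mpr
    haveI : Fact r.Prime := ⟨hr⟩
    have hunit : IsUnit ((Fintype.card F : ℕ) : ZMod r) := by
      rw [isUnit_iff_ne_zero, Ne, ZMod.natCast_eq_zero_iff]
      exact hrq
    exact hunit.isOfFinOrder
  constructor
  · -- constructions (contrapositive)
    intro hno
    by_contra hcon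
    push Not at hcon
    obtain ⟨hkn, hexc⟩ := hcon
    apply hno
    have hn3 : 3 ≤ n := by omega
    by_cases hk2 : 2 ≤ k
    · obtain ⟨y, hy⟩ := exists_elt_of_two_le (F := F) p (n := n) hr hrp (by rw [← hk]; exact hk2)
        (by rw [← hk]; omega)
      exact ⟨y, hy⟩
    · have hk1 : k = 1 := by omega
      have hr1 : r ∣ Fintype.card F - 1 := by
        have := dvd_pow_orderOf_sub_one (q := Fintype.card F) (r := r) hq1
        rw [← hk, hk1, pow_one] at this
        exact this
      obtain ⟨y, hy⟩ := exists_elt_of_dvd_sub_one (F := F) p hn3 hr hrp hr1 (by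
        rintro ⟨h1, h2, h3⟩
        exact h3 (hexc h1 h2 (by rw [← h2]; exact hr1)))
      exact ⟨y, hy⟩
  · -- non-existence
    rintro (hlt | ⟨rfl, rfl, h3, h9⟩)
    · rintro ⟨y, hy⟩
      rcases Nat.lt_or_ge n 3 with h2 | h3
      · obtain rfl : n = 2 := by omega
        exact no_elt_two p hr y hy
      · exact no_elt_general p h3 hr hrp (by rw [← hk]; omega) y hy
    · rintro ⟨y, hy⟩
      exact no_elt_exc p hrp h3 h9 y hy

end Cfsg.Agent.S2470
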