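import Mathlib
import Cfsg.Statements.S2471
import Cfsg.Agent.Lib.Helper12.TwoByTwo

set_option autoImplicit false
open Cfsg

namespace Cfsg.Agent.S2471

open Cfsg.Agent.Helper12

theorem sq_eq_one_iff_of_side_lengths_aux {F : Type*} [Field F] (r : F) (hr : r ^ 2 = 1) :
    r = 1 ∨ r = -1 := by
  have : (r - 1) * (r + 1) = 0 := by ring_nf; rw [hr]; ring
  rcases mul_eq_zero.1 this with h | h
  · left; exact sub_eq_zero.1 h
  · right; exact eq_neg_of_add_eq_zero_left h

/-- a scalar matrix in `SL₂` lies in the centre -/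
theorem mem_center_of_eq_smul {F : Type*} [Field F]
    (A : Matrix.SpecialLinearGroup (Fin 2) F) (x : F)
    (h : (A : Matrix (Fin 2) (Fin 2) F) = x • (1 : Matrix (Fin 2) (Fin 2) F)) :
    A ∈ Subgroup.center (Matrix.SpecialLinearGroup (Fin 2) F) := by
  rw [Matrix.SpecialLinearGroup.mem_center_iff]
  refine ⟨x, ?_, ?_⟩
  · have hd := A.2
    rw [h] at hd
    simpa [Matrix.det_smul] using hd
  · rw [h]
    ext i j
    simp [Matrix.scalar, Matrix.diagonal_apply, Matrix.one_apply]

/-- In PSL(2,q) with q odd, the characteristic p is isolated from 2 in the prime graph: for F a finite field of odd characteristic p with at least 5 elements, PSL(2,F) has no element of order 2p. -/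
theorem result {F : Type*} [Field F] [Fintype F] (p : ℕ) [Fact p.Prime] [CharP F p] (hp : p ≠ 2) (h5 : 5 ≤ Fintype.card F) (g : Matrix.ProjectiveSpecialLinearGroup (Fin 2) F) :
    orderOf g ≠ 2 * p := by
  classical
  intro hord
  have hpp : p.Prime := Fact.out
  have hp2 : 2 ≤ p := hpp.two_le
  obtain ⟨A, rfl⟩ := QuotientGroup.mk_surjective g
  -- A^(2p) is central
  have h1 : ((A ^ (2 * p) : Matrix.SpecialLinearGroup (Fin 2) F) :
      Matrix.ProjectiveSpecialLinearGroup (Fin 2) F) = 1 := by
    rw [QuotientGroup.mk_pow, ← hord, pow_orderOf_eq_one]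
  rw [QuotientGroup.eq_one_iff, Matrix.SpecialLinearGroup.mem_center_iff] at h1
  obtain ⟨r, hr, hrA⟩ := h1
  simp only [Fintype.card_fin] at hr
  set M : Matrix (Fin 2) (Fin 2) F := (A : Matrix (Fin 2) (Fin 2) F) with hM
  have hMpow : (M ^ 2) ^ p = r • (1 : Matrix (Fin 2) (Fin 2) F) := by
    rw [← pow_mul, hM, ← Matrix.SpecialLinearGroup.coe_pow, ← hrA]
    ext i j
    simp [Matrix.scalar, Matrix.diagonal_apply, Matrix.one_apply]
  -- r^p = r
  have hrp : r ^ p = r := by
    have hr' : r = 1 ∨ r = -1 := sq_eq_one_iff_of_side_lengths_aux r hr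
    rcases hr' with rfl | rfl
    · simp
    · exact (hpp.eq_two_or_odd'.resolve_left hp).neg_one_pow
  set N : Matrix (Fin 2) (Fin 2) F := M ^ 2 - r • (1 : Matrix (Fin 2) (Fin 2) F) with hN
  have hcomm : Commute (M ^ 2) (r • (1 : Matrix (Fin 2) (Fin 2) F)) := by
    rw [Commute, SemiconjBy]; simp
  have hNp : N ^ p = 0 := by
    rw [hN, sub_pow_char_of_commute p hcomm, hMpow, smul_pow, one_pow, hrp, sub_self]
  obtain ⟨htr, hdet⟩ := nilpotent2_data N p hNp
  have hN2 : N * N = 0 := by
    rw [sq_eq2, htr, hdet]; simp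
  have hNpz : ∀ k, 2 ≤ k → N ^ k = 0 := by
    intro k hk
    obtain ⟨m, rfl⟩ := Nat.exists_eq_add_of_le hk
    rw [pow_add, pow_two, hN2, zero_mul]
  by_cases hN0 : N = 0
  · -- A^2 central, so g^2 = 1
    have hA2 : A ^ 2 ∈ Subgroup.center (Matrix.SpecialLinearGroup (Fin 2) F) := by
      apply mem_center_of_eq_smul _ r
      rw [Matrix.SpecialLinearGroup.coe_pow]
      exact sub_eq_zero.1 hN0
    have : ((A : Matrix.ProjectiveSpecialLinearGroup (Fin 2) F)) ^ 2 = 1 := by
      rw [← QuotientGroup.mk_pow, QuotientGroup.eq_one_iff]; exact hA2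
    have hdvd := orderOf_dvd_of_pow_eq_one this
    rw [hord] at hdvd
    have := Nat.le_of_dvd (by norm_num) hdvd
    omega
  · -- N is not scalar
    have hNs : ¬ IsScalar2 N := by
      rintro ⟨h01, h10, h00⟩
      apply hN0
      have hd : N 0 0 * N 0 0 = 0 := by
        have := hdet
        rw [Matrix.det_fin_two, h01, h10, ← h00] at this
        simpa using this
      have h0 : N 0 0 = 0 := mul_self_eq_zero.1 hd
      ext i j
      fin_cases i <;> fin_cases j <;> simp [h01, h10, h0, ← h00]
    have hMN : M * N = N * M := by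
      rw [hN, mul_sub, sub_mul]
      congr 1
      · rw [pow_two, mul_assoc]
      · simp
    obtain ⟨x, y, hxy⟩ := (commute_iff_exists_smul N M hNs).1 hMN
    have hcomm2 : Commute (x • (1 : Matrix (Fin 2) (Fin 2) F)) (y • N) := by
      rw [Commute, SemiconjBy]; simp [smul_comm x y N]
    have hMp : M ^ p = (x ^ p) • (1 : Matrix (Fin 2) (Fin 2) F) := by
      rw [hxy, add_pow_char_of_commute p hcomm2, smul_pow, smul_pow, one_pow, hNpz p hp2]
      simp
    have hAp : A ^ p ∈ Subgroup.center (Matrix.SpecialLinearGroup (Fin 2) F) := by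
      apply mem_center_of_eq_smul _ (x ^ p)
      rw [Matrix.SpecialLinearGroup.coe_pow]
      exact hMp
    have : ((A : Matrix.ProjectiveSpecialLinearGroup (Fin 2) F)) ^ p = 1 := by
      rw [← QuotientGroup.mk_pow, QuotientGroup.eq_one_iff]; exact hAp
    have hdvd := orderOf_dvd_of_pow_eq_one this
    rw [hord] at hdvd
    have := Nat.le_of_dvd hpp.pos hdvd
    omega

end Cfsg.Agent.S2471
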