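import Mathlib
import Cfsg.Statements.S2472
import Cfsg.Agent.Lib.Helper12.PSpAdjYes
import Cfsg.Agent.Lib.Helper12.GLSylowVal
import Cfsg.Agent.Lib.Helper2.SympCard

set_option autoImplicit false
open Cfsg

namespace Cfsg.Agent.S2472

open Cfsg.Agent.Helper12 Cfsg.Agent.Helper12.PSpAdj Cfsg.Agent.Helper12.PSLAdj
  Cfsg.Agent.Helper15.Zsig

/-- Adjacency of a prime and the characteristic in the prime graph of PSp(2n,q): let F be a finite field of characteristic p with q elements, n ≥ 2 with PSp(2n,F) simple, and let r ≠ p be an odd prime dividing the order of PSp(2n,F), with k the multiplicative order of q modulo r and η(k) = k for odd k, k/2 for even k. Then PSp(2n,F) has NO element of order r·p if and only if η(k) > n − 1. -/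
theorem result {F : Type*} [Field F] [Fintype F] (p : ℕ) [Fact p.Prime] [CharP F p] (n : ℕ) (hn : 2 ≤ n) (hsmall : n = 2 → 3 ≤ Fintype.card F)
    (r : ℕ) (hr : r.Prime) (hr2 : r ≠ 2) (hrp : r ≠ p) (hrG : r ∣ Nat.card (Cfsg.PSp n F))
    (k ηk : ℕ) (hk : k = orderOf ((Fintype.card F : ℕ) : ZMod r)) (hηk : (Odd k ∧ ηk = k) ∨ (Even k ∧ 2 * ηk = k)) :
    (r * p ∉ Set.range (orderOf : Cfsg.PSp n F → ℕ)) ↔ n - 1 < ηk := by
  classical
  have hp : p.Prime := Fact.out
  have hq1 : 1 < Fintype.card F := Fintype.one_lt_card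
  have hrq : ¬ r ∣ Fintype.card F := not_dvd_card_of_ne p hr hrp
  constructor
  · intro hno
    by_contra hcon
    push Not at hcon
    apply hno
    obtain ⟨y, hy⟩ := exists_elt_PSp (F := F) p (n := n) (by omega) hr hr2 hrp (η := ηk)
      (by rw [← hk]; exact hηk) (by omega)
    exact ⟨y, hy⟩
  · intro hlt
    rintro ⟨y, hy⟩
    -- `k ∣ 2 (i+1)` for some `i < n`
    have h1 : r ∣ Nat.card (Matrix.symplecticGroup (Fin n) F) :=
      hrG.trans (Subgroup.card_quotient_dvd_card _)
    rw [Cfsg.Agent.Helper2.Symp.card_symplecticGroup] at h1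
    have h2 : r ∣ ∏ i ∈ Finset.range n, (Fintype.card F ^ (2 * (i + 1)) - 1) := by
      rcases (Nat.Prime.dvd_mul hr).1 h1 with h | h
      · exact absurd (hr.dvd_of_dvd_pow h) hrq
      · exact h
    obtain ⟨i, hi, hdiv⟩ := (Prime.dvd_finsetProd_iff hr.prime _).1 h2
    have hin : i < n := Finset.mem_range.1 hi
    have hkd : k ∣ 2 * (i + 1) := by
      rw [hk]
      exact orderOf_dvd_of_dvd_pow_sub_one (by omega) hdiv
    have hcase : orderOf ((Fintype.card F : ℕ) : ZMod r) = 2 * n ∨
        (orderOf ((Fintype.card F : ℕ) : ZMod r) = n ∧ Odd n) := by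
      rw [← hk]
      rcases hηk with ⟨hodd, hη⟩ | ⟨heven, hη⟩
      · right
        have hc : Nat.Coprime k 2 := (Nat.coprime_two_right).2 hodd
        have h3 : k ∣ i + 1 := hc.dvd_of_dvd_mul_left hkd
        have h4 := Nat.le_of_dvd (by omega) h3
        have h5 : k = n := by omega
        exact ⟨h5, h5 ▸ hodd⟩
      · left
        rw [← hη] at hkd
        have h3 : ηk ∣ i + 1 := (Nat.mul_dvd_mul_iff_left (by norm_num : 0 < 2)).1 hkd
        have h4 := Nat.le_of_dvd (by omega) h3
        omega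
    exact no_elt_PSp p hn hr hr2 hrp hcase y hy

end Cfsg.Agent.S2472
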