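import Cfsg.Statements.S2474
import Cfsg.Agent.Lib.Helper15.S74Asm2
import Cfsg.Agent.Lib.Helper15.S74Asm3
import Cfsg.Agent.Lib.Helper5.S74ExPSp
import Cfsg.Agent.Lib.Helper21.S74ExPOmega

set_option autoImplicit false
open Cfsg

namespace Cfsg.Agent.S2474

/-- For q odd and n ≥ 3 the simple groups PΩ(2n+1,q) and PSp(2n,q) (which have the same order but different sets of element orders) have the same prime graph: for all distinct primes r, s, one of them has an element of order r·s if and only if the other does. -/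
theorem result {F : Type*} [Field F] [Fintype F] (hodd : Odd (Fintype.card F)) (n : ℕ) (hn : 3 ≤ n) (r s : ℕ) (hr : r.Prime) (hs : s.Prime) (hrs : r ≠ s) :
    (r * s ∈ Set.range (orderOf : Cfsg.POmega F (Cfsg.quadFormOdd n F) → ℕ)) ↔ (r * s ∈ Set.range (orderOf : Cfsg.PSp n F → ℕ)) := by
  obtain ⟨p, hchar⟩ := CharP.exists F
  have hchar' : CharP F p := hchar
  have hfact : Fact p.Prime := ⟨(CharP.char_is_prime_or_zero F p).resolve_right
    (by
      intro h0
      have hc0 : CharP F 0 := h0 ▸ hchar
      have hcz : CharZero F := CharP.charP_to_charZero F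
      exact not_finite F)⟩
  have hp2 : p ≠ 2 := by
    intro h
    have hc2 : CharP F 2 := h ▸ hchar
    have h0 : Fintype.card F % 2 = 0 :=
      FiniteField.even_card_iff_char_two.mp (ringChar.eq F 2)
    have h1 : Fintype.card F % 2 = 1 := Nat.odd_iff.mp hodd
    omega
  constructor
  · intro h
    exact Cfsg.Agent.Helper15.S74.ex_PSp p hp2 n hn r s hr hs hrs
      (Cfsg.Agent.Helper15.S74.nx_POmega p hp2 n hn r s hr hs hrs h)
  · intro h
    exact Cfsg.Agent.Helper15.S74.ex_POmega p hp2 n hn r s hr hs hrs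
      (Cfsg.Agent.Helper15.S74.nx_PSp p hp2 n hn r s hr hs hrs h)

end Cfsg.Agent.S2474
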