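import Mathlib
import Cfsg.Statements.S2477
import Cfsg.Agent.Lib.Helper12.AltOrders

set_option autoImplicit false
open Cfsg

namespace Cfsg.Agent.S2477

open Cfsg.Agent.Helper12

/-- Reachable states `(sum, lcm, parity of sum + card)` of multisets of parts `≥ 2` with sum `≤ 10`. -/
def states : List (ℕ × ℕ × ℕ) :=
  [(0,1,0), (2,2,1), (3,3,0), (4,2,0), (4,4,1), (5,5,0), (5,6,1), (6,2,1), (6,3,0), (6,4,0), (6,6,1),
   (7,6,0), (7,7,0), (7,10,1), (7,12,1), (8,2,0), (8,4,0), (8,4,1), (8,6,0), (8,6,1), (8,8,1), (8,15,0),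
   (9,3,0), (9,6,1), (9,9,0), (9,10,0), (9,12,0), (9,14,1), (9,20,1), (10,2,1), (10,4,0), (10,4,1),
   (10,5,0), (10,6,0), (10,6,1), (10,8,0), (10,10,1), (10,12,0), (10,12,1), (10,21,0), (10,30,1)]

theorem states_closed : ∀ st ∈ states, ∀ a ∈ List.range 11, 2 ≤ a → st.1 + a ≤ 10 →
    (st.1 + a, Nat.lcm a st.2.1, (st.2.2 + a + 1) % 2) ∈ states := by
  decide +kernel

theorem states_even : ∀ st ∈ states, st.2.2 = 0 →
    st.2.1 ∈ [1, 2, 3, 4, 5, 6, 7, 8, 9, 10, 12, 15, 21] := by
  decide +kernel

theorem state_mem (m : Multiset ℕ) : (∀ a ∈ m, 2 ≤ a) → m.sum ≤ 10 →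
    (m.sum, m.lcm, (m.sum + m.card) % 2) ∈ states := by
  induction m using Multiset.induction with
  | empty => intro _ _; decide
  | cons a m ih =>
    intro h2 hsum
    rw [Multiset.sum_cons] at hsum
    have hm := ih (fun b hb => h2 b (Multiset.mem_cons_of_mem hb)) (by omega)
    have ha2 : 2 ≤ a := h2 a (Multiset.mem_cons_self a m)
    have hcl := states_closed _ hm a (List.mem_range.mpr (by omega)) ha2 (by simpa using by omega)
    have e1 : (a ::ₘ m).sum = m.sum + a := by rw [Multiset.sum_cons, add_comm]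
    have e2 : (a ::ₘ m).lcm = Nat.lcm a m.lcm := by rw [Multiset.lcm_cons]; rfl
    have e3 : ((a ::ₘ m).sum + (a ::ₘ m).card) % 2 = ((m.sum + m.card) % 2 + a + 1) % 2 := by
      rw [Multiset.sum_cons, Multiset.card_cons]; omega
    rw [e3, e2, e1]
    exact hcl

theorem result : Set.range (orderOf : alternatingGroup (Fin 10) → ℕ) = {1, 2, 3, 4, 5, 6, 7, 8, 9, 10, 12, 15, 21} := by
  ext k
  rw [alt_order_iff]
  constructor
  · rintro ⟨m, h2, hsum, heven, rfl⟩
    have h := states_even _ (state_mem m h2 hsum) (Nat.even_iff.mp heven)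
    simp only [List.mem_cons, List.not_mem_nil, or_false] at h
    simpa using h
  · intro hk
    simp only [Set.mem_insert_iff, Set.mem_singleton_iff] at hk
    rcases hk with rfl | rfl | rfl | rfl | rfl | rfl | rfl | rfl | rfl | rfl | rfl | rfl | rfl
    · exact ⟨0, by decide, by decide, by decide, by decide⟩
    · exact ⟨{2, 2}, by decide, by decide, by decide, by decide⟩
    · exact ⟨{3}, by decide, by decide, by decide, by decide⟩
    · exact ⟨{4, 2}, by decide, by decide, by decide, by decide⟩
    · exact ⟨{5}, by decide, by decide, by decide, by decide⟩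
    · exact ⟨{3, 2, 2}, by decide, by decide, by decide, by decide⟩
    · exact ⟨{7}, by decide, by decide, by decide, by decide⟩
    · exact ⟨{8, 2}, by decide, by decide, by decide, by decide⟩
    · exact ⟨{9}, by decide, by decide, by decide, by decide⟩
    · exact ⟨{5, 2, 2}, by decide, by decide, by decide, by decide⟩
    · exact ⟨{4, 3, 2}, by decide, by decide, by decide, by decide⟩
    · exact ⟨{5, 3}, by decide, by decide, by decide, by decide⟩
    · exact ⟨{7, 3}, by decide, by decide, by decide, by decide⟩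

end Cfsg.Agent.S2477
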