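import Mathlib
import Cfsg.Statements.S2485
import Cfsg.Agent.S2577

set_option autoImplicit false
open scoped Pointwise
open Cfsg

namespace Cfsg.Agent.S2485

open Matrix

section
variable {F : Type*} [Field F]

theorem gl_det_ne_zero (g : GL (Fin 2) F) : (g : Matrix (Fin 2) (Fin 2) F).det ≠ 0 :=
  ((Matrix.isUnit_iff_isUnit_det _).1 g.isUnit).ne_zero

theorem gl_mul_inv (g : GL (Fin 2) F) :
    (g : Matrix (Fin 2) (Fin 2) F) * ((g⁻¹ : GL (Fin 2) F) : Matrix (Fin 2) (Fin 2) F) = 1 := by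
  rw [← Units.val_mul, mul_inv_cancel]; rfl

theorem gl_inv_mul (g : GL (Fin 2) F) :
    ((g⁻¹ : GL (Fin 2) F) : Matrix (Fin 2) (Fin 2) F) * (g : Matrix (Fin 2) (Fin 2) F) = 1 := by
  rw [← Units.val_mul, inv_mul_cancel]; rfl

/-- similitudes of the form `x² + y²` -/
def simT (F : Type*) [Field F] : Subgroup (GL (Fin 2) F) where
  carrier := {g | ∃ c : F,
    (g : Matrix (Fin 2) (Fin 2) F)ᵀ * (g : Matrix (Fin 2) (Fin 2) F) = c • 1}
  one_mem' := ⟨1, by simp⟩
  mul_mem' := by
    rintro g h ⟨c, hc⟩ ⟨d, hd⟩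
    refine ⟨c * d, ?_⟩
    rw [Units.val_mul, Matrix.transpose_mul, Matrix.mul_assoc, ← Matrix.mul_assoc _ g.val, hc,
      Matrix.smul_mul, Matrix.one_mul, Matrix.mul_smul, hd, smul_smul]
  inv_mem' := by
    rintro g ⟨c, hc⟩
    have hc0 : c ≠ 0 := by
      rintro rfl
      rw [zero_smul] at hc
      have h := congrArg Matrix.det hc
      rw [Matrix.det_mul, Matrix.det_transpose, Matrix.det_zero] at h
      exact gl_det_ne_zero g (mul_self_eq_zero.1 h)
    refine ⟨c⁻¹, ?_⟩
    have h1 : ((g⁻¹ : GL (Fin 2) F) : Matrix (Fin 2) (Fin 2) F)ᵀ *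
        (g : Matrix (Fin 2) (Fin 2) F)ᵀ = 1 := by
      rw [← Matrix.transpose_mul, gl_mul_inv, Matrix.transpose_one]
    have h2 : ((g⁻¹ : GL (Fin 2) F) : Matrix (Fin 2) (Fin 2) F)ᵀ *
        ((g : Matrix (Fin 2) (Fin 2) F)ᵀ * (g : Matrix (Fin 2) (Fin 2) F)) *
        ((g⁻¹ : GL (Fin 2) F) : Matrix (Fin 2) (Fin 2) F) = 1 := by
      rw [← Matrix.mul_assoc, h1, Matrix.one_mul, gl_mul_inv]
    rw [hc, Matrix.mul_smul, Matrix.smul_mul, Matrix.mul_one] at h2
    rw [← h2, smul_smul, inv_mul_cancel₀ hc0, one_smul]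

theorem mem_simT (g : GL (Fin 2) F) : g ∈ simT F ↔ ∃ c : F,
    (g : Matrix (Fin 2) (Fin 2) F)ᵀ * (g : Matrix (Fin 2) (Fin 2) F) = c • 1 := Iff.rfl

/-- the explicit similitudes -/
def tmat (a c : F) (e : Bool) : Matrix (Fin 2) (Fin 2) F :=
  if e then !![a, -c; c, a] else !![a, c; c, -a]

theorem tmat_det (a c : F) (e : Bool) :
    (tmat a c e).det = if e then a * a + c * c else -(a * a + c * c) := by
  unfold tmat
  cases e
  · simp only [Bool.false_eq_true, if_false, Matrix.det_fin_two_of]; ring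
  · simp only [if_true, Matrix.det_fin_two_of]; ring

theorem tmat_sim (a c : F) (e : Bool) :
    (tmat a c e)ᵀ * tmat a c e = (a * a + c * c) • (1 : Matrix (Fin 2) (Fin 2) F) := by
  unfold tmat
  cases e
  · ext i j
    fin_cases i <;> fin_cases j <;>
      simp [Matrix.mul_apply, Fin.sum_univ_two] <;> ring
  · ext i j
    fin_cases i <;> fin_cases j <;>
      simp [Matrix.mul_apply, Fin.sum_univ_two] <;> ring

theorem tmat_det_ne (hns : ∀ a c : F, a * a + c * c = 0 → a = 0 ∧ c = 0)
    (d : {p : F × F // p ≠ 0} × Bool) : (tmat d.1.1.1 d.1.1.2 d.2).det ≠ 0 := by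
  have hN : d.1.1.1 * d.1.1.1 + d.1.1.2 * d.1.1.2 ≠ 0 := by
    intro h
    obtain ⟨h1, h2⟩ := hns _ _ h
    exact d.1.2 (Prod.ext h1 h2)
  rw [tmat_det]
  split_ifs
  · exact hN
  · exact neg_ne_zero.2 hN

noncomputable def tGL (hns : ∀ a c : F, a * a + c * c = 0 → a = 0 ∧ c = 0)
    (d : {p : F × F // p ≠ 0} × Bool) : GL (Fin 2) F :=
  Matrix.GeneralLinearGroup.mkOfDetNeZero (tmat d.1.1.1 d.1.1.2 d.2) (tmat_det_ne hns d)

theorem tGL_coe (hns : ∀ a c : F, a * a + c * c = 0 → a = 0 ∧ c = 0)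
    (d : {p : F × F // p ≠ 0} × Bool) :
    ((tGL hns d : GL (Fin 2) F) : Matrix (Fin 2) (Fin 2) F) = tmat d.1.1.1 d.1.1.2 d.2 := rfl

theorem tGL_mem (hns : ∀ a c : F, a * a + c * c = 0 → a = 0 ∧ c = 0)
    (d : {p : F × F // p ≠ 0} × Bool) : tGL hns d ∈ simT F := by
  rw [mem_simT, tGL_coe]
  exact ⟨_, tmat_sim _ _ _⟩

theorem tGL_injective (h2 : (2 : F) ≠ 0) (hns : ∀ a c : F, a * a + c * c = 0 → a = 0 ∧ c = 0) :
    Function.Injective (tGL hns) := by
  rintro ⟨⟨⟨a, c⟩, hp⟩, e⟩ ⟨⟨⟨a', c'⟩, hp'⟩, e'⟩ h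
  have h' : tmat a c e = tmat a' c' e' := congrArg Units.val h
  have e00 := congrFun (congrFun h' 0) 0
  have e10 := congrFun (congrFun h' 1) 0
  have e11 := congrFun (congrFun h' 1) 1
  have e01 := congrFun (congrFun h' 0) 1
  have ha : a = a' := by
    unfold tmat at e00
    cases e <;> cases e' <;> simpa using e00
  have hc : c = c' := by
    unfold tmat at e10
    cases e <;> cases e' <;> simpa using e10
  subst ha hc
  have he : e = e' := by
    unfold tmat at e11 e01
    cases e <;> cases e'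
    · rfl
    · exfalso
      simp at e11 e01
      apply hp
      have h3 : a = 0 := by
        have : (2 : F) * a = 0 := by linear_combination -e11
        rcases mul_eq_zero.1 this with h | h
        · exact absurd h h2
        · exact h
      have h4 : c = 0 := by
        have : (2 : F) * c = 0 := by linear_combination e01
        rcases mul_eq_zero.1 this with h | h
        · exact absurd h h2
        · exact h
      rw [h3, h4]; rfl
    · exfalso
      simp at e11 e01
      apply hp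
      have h3 : a = 0 := by
        have : (2 : F) * a = 0 := by linear_combination e11
        rcases mul_eq_zero.1 this with h | h
        · exact absurd h h2
        · exact h
      have h4 : c = 0 := by
        have : (2 : F) * c = 0 := by linear_combination -e01
        rcases mul_eq_zero.1 this with h | h
        · exact absurd h h2
        · exact h
      rw [h3, h4]; rfl
    · rfl
  subst he
  rfl

theorem tGL_surj (hns : ∀ a c : F, a * a + c * c = 0 → a = 0 ∧ c = 0) (g : GL (Fin 2) F)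
    (hg : g ∈ simT F) : ∃ d, tGL hns d = g := by
  obtain ⟨l, hl⟩ := (mem_simT g).1 hg
  have h00 := congrFun (congrFun hl 0) 0
  have h01 := congrFun (congrFun hl 0) 1
  have h11 := congrFun (congrFun hl 1) 1
  simp only [Matrix.mul_apply, Fin.sum_univ_two, Matrix.transpose_apply, Matrix.smul_apply,
    Matrix.one_apply_eq, Matrix.one_apply_ne, ne_eq, zero_ne_one, not_false_eq_true, smul_eq_mul,
    mul_one, mul_zero] at h00 h01 h11
  have hdet := gl_det_ne_zero g
  rw [Matrix.det_fin_two] at hdet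
  set a := (g : Matrix (Fin 2) (Fin 2) F) 0 0 with ha
  set b := (g : Matrix (Fin 2) (Fin 2) F) 0 1 with hb
  set c := (g : Matrix (Fin 2) (Fin 2) F) 1 0 with hc
  set d := (g : Matrix (Fin 2) (Fin 2) F) 1 1 with hd
  have hp : ((a, c) : F × F) ≠ 0 := by
    intro h
    have h1 : a = 0 := congrArg Prod.fst h
    have h2 : c = 0 := congrArg Prod.snd h
    apply hdet
    rw [h1, h2]; ring
  have hN : a * a + c * c ≠ 0 := by
    intro h
    obtain ⟨h1, h2⟩ := hns _ _ h
    exact hp (Prod.ext h1 h2)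
  have hbN : b * (a * a + c * c) = -c * (a * d - b * c) := by linear_combination a * h01
  have hdN : d * (a * a + c * c) = a * (a * d - b * c) := by linear_combination c * h01
  have hsq : ((a * d - b * c) - (a * a + c * c)) * ((a * d - b * c) + (a * a + c * c)) = 0 := by
    linear_combination (a * a + c * c) * (h11 - h00) - (a * b + c * d) * h01
  rcases mul_eq_zero.1 hsq with h | h
  · have hδ : a * d - b * c = a * a + c * c := by linear_combination h
    refine ⟨⟨⟨(a, c), hp⟩, true⟩, ?_⟩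
    apply Units.ext
    rw [tGL_coe]
    have hb' : b = -c := by
      rw [hδ] at hbN
      exact mul_right_cancel₀ hN hbN
    have hd' : d = a := by
      rw [hδ] at hdN
      exact mul_right_cancel₀ hN hdN
    ext i j
    fin_cases i <;> fin_cases j
    · simp [tmat, ha]
    · simp [tmat]; rw [← hb, hb']
    · simp [tmat, hc]
    · simp [tmat]; rw [← hd, hd']
  · have hδ : a * d - b * c = -(a * a + c * c) := by linear_combination h
    refine ⟨⟨⟨(a, c), hp⟩, false⟩, ?_⟩
    apply Units.ext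
    rw [tGL_coe]
    have hb' : b = c := by
      rw [hδ] at hbN
      have : b * (a * a + c * c) = c * (a * a + c * c) := by linear_combination hbN
      exact mul_right_cancel₀ hN this
    have hd' : d = -a := by
      rw [hδ] at hdN
      have : d * (a * a + c * c) = (-a) * (a * a + c * c) := by linear_combination hdN
      exact mul_right_cancel₀ hN this
    ext i j
    fin_cases i <;> fin_cases j
    · simp [tmat, ha]
    · simp [tmat]; rw [← hb, hb']
    · simp [tmat, hc]
    · simp [tmat]; rw [← hd, hd']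

end

section card
variable {F : Type*} [Field F] [Fintype F]

theorem card_simT (h2 : (2 : F) ≠ 0) (hns : ∀ a c : F, a * a + c * c = 0 → a = 0 ∧ c = 0) :
    Nat.card (simT F) = (Fintype.card F * Fintype.card F - 1) * 2 := by
  classical
  have e : ({p : F × F // p ≠ 0} × Bool) ≃ simT F :=
    Equiv.ofBijective (fun d => ⟨tGL hns d, tGL_mem hns d⟩)
      ⟨fun d d' h => tGL_injective h2 hns (congrArg Subtype.val h), fun g => by
        obtain ⟨d, hd⟩ := tGL_surj hns g.1 g.2
        exact ⟨d, Subtype.ext hd⟩⟩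
  rw [← Nat.card_congr e, Nat.card_prod, Nat.card_eq_fintype_card, Nat.card_eq_fintype_card,
    Fintype.card_bool, Fintype.card_subtype_compl, Fintype.card_subtype_eq, Fintype.card_prod]

theorem center_le_simT : Subgroup.center (GL (Fin 2) F) ≤ simT F := by
  intro g hg
  obtain ⟨c, hc⟩ := (Cfsg.Agent.S2577.mem_center_iff_isScal g).1 hg
  rw [mem_simT, hc]
  refine ⟨c * c, ?_⟩
  rw [Matrix.transpose_smul, Matrix.transpose_one, Matrix.smul_mul, Matrix.one_mul, smul_smul]

theorem card_center : Nat.card (Subgroup.center (GL (Fin 2) F)) = Fintype.card F - 1 := by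
  rw [Matrix.GeneralLinearGroup.center_eq_range_scalar]
  have hinj : Function.Injective (Matrix.GeneralLinearGroup.scalar (Fin 2) : Fˣ →* GL (Fin 2) F) := by
    intro u v h
    have h1 := congrArg Units.val h
    rw [Matrix.GeneralLinearGroup.coe_scalar, Matrix.GeneralLinearGroup.coe_scalar] at h1
    have h2 := congrFun (congrFun h1 0) 0
    simp only [Matrix.scalar_apply, Matrix.diagonal_apply_eq] at h2
    exact Units.ext h2
  rw [← Nat.card_congr (MonoidHom.ofInjective hinj).toEquiv, Nat.card_units,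
    Nat.card_eq_fintype_card]

/-- the image of the similitude group in `PGL₂` -/
def H0 (F : Type*) [Field F] : Subgroup (GL (Fin 2) F ⧸ Subgroup.center (GL (Fin 2) F)) :=
  (simT F).map (QuotientGroup.mk' _)

theorem comap_H0 : (H0 F).comap (QuotientGroup.mk' _) = simT F := by
  unfold H0
  rw [Subgroup.comap_map_eq, QuotientGroup.ker_mk', sup_eq_left.2 center_le_simT]

theorem index_H0 : (H0 F).index = (simT F).index := by
  rw [← comap_H0, Subgroup.index_comap_of_surjective _ (QuotientGroup.mk'_surjective _)]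

theorem sylow_H0 (h2 : (2 : F) ≠ 0) (hns : ∀ a c : F, a * a + c * c = 0 → a = 0 ∧ c = 0)
    (u k : ℕ) (hcard : Fintype.card F = 8 * u + 7) (hk : 8 * u + 8 = 2 ^ k) :
    IsPGroup 2 (H0 F) ∧ ¬ 2 ∣ (H0 F).index := by
  classical
  set r := 8 * u + 6 with hr
  have hq : Fintype.card F = r + 1 := by rw [hcard]
  have hGL : Nat.card (GL (Fin 2) F) = (r * (r + 2)) * ((r + 1) * r) := by
    rw [Matrix.card_GL_field, Fin.prod_univ_two, hq]
    have e1 : (r + 1) ^ 2 - (r + 1) ^ ((0 : Fin 2) : ℕ) = r * (r + 2) := by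
      have : (r + 1) ^ 2 = r * (r + 2) + 1 := by ring
      simp only [Fin.val_zero, pow_zero]
      omega
    have e2 : (r + 1) ^ 2 - (r + 1) ^ ((1 : Fin 2) : ℕ) = (r + 1) * r := by
      have : (r + 1) ^ 2 = (r + 1) * r + (r + 1) := by ring
      simp only [Fin.val_one, pow_one]
      omega
    rw [e1, e2]
  have hT : Nat.card (simT F) = r * (r + 2) * 2 := by
    rw [card_simT h2 hns, hq]
    have : (r + 1) * (r + 1) = r * (r + 2) + 1 := by ring
    rw [this, Nat.add_sub_cancel]
  have hZ : Nat.card (Subgroup.center (GL (Fin 2) F)) = r := by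
    rw [card_center, hq, Nat.add_sub_cancel]
  have hrpos : 0 < r * (r + 2) := by positivity
  -- index of T
  have hidx : 2 * (simT F).index = (r + 1) * r := by
    have h := (simT F).card_mul_index
    rw [hT, hGL] at h
    have h' : r * (r + 2) * (2 * (simT F).index) = r * (r + 2) * ((r + 1) * r) := by
      rw [← h]; ring
    exact Nat.eq_of_mul_eq_mul_left hrpos h'
  have hG : Nat.card (GL (Fin 2) F ⧸ Subgroup.center (GL (Fin 2) F)) = (r + 2) * ((r + 1) * r) := by
    have h := Subgroup.card_eq_card_quotient_mul_card_subgroup (Subgroup.center (GL (Fin 2) F))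
    rw [hGL, hZ] at h
    have hr0 : 0 < r := by omega
    have h' : r * Nat.card (GL (Fin 2) F ⧸ Subgroup.center (GL (Fin 2) F)) =
        r * ((r + 2) * ((r + 1) * r)) := by
      rw [mul_comm r (Nat.card _), ← h]; ring
    exact Nat.eq_of_mul_eq_mul_left hr0 h'
  have hidx0 : (H0 F).index = (simT F).index := index_H0
  have hH : Nat.card (H0 F) = 2 ^ (k + 1) := by
    have h := (H0 F).card_mul_index
    rw [hG, hidx0] at h
    have hpos : 0 < (r + 1) * r := by positivity
    have h' : ((r + 1) * r) * Nat.card (H0 F) = ((r + 1) * r) * (2 * (r + 2)) := by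
      rw [← hidx]
      calc 2 * (simT F).index * Nat.card (H0 F) = 2 * (Nat.card (H0 F) * (simT F).index) := by ring
        _ = 2 * ((r + 2) * ((r + 1) * r)) := by rw [h]
        _ = 2 * (simT F).index * (2 * (r + 2)) := by rw [hidx]; ring
    have := Nat.eq_of_mul_eq_mul_left hpos h'
    rw [this, pow_succ, ← hk, hr]
    ring
  refine ⟨IsPGroup.of_card hH, ?_⟩
  rw [hidx0]
  intro hdvd
  obtain ⟨w, hw⟩ := hdvd
  rw [hw, hr] at hidx
  have h3 : (8 * u + 6 + 1) * (8 * u + 6) = 2 * (2 * (16 * u * u + 26 * u + 10) + 1) := by ring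
  rw [h3] at hidx
  omega

end card

section main
variable {F : Type*} [Field F]

/-- symmetric traceless matrices -/
def smat (u v : F) : Matrix (Fin 2) (Fin 2) F := !![u, v; v, -u]

theorem smat_mul_self (u v : F) :
    smat u v * smat u v = (u * u + v * v) • (1 : Matrix (Fin 2) (Fin 2) F) := by
  unfold smat
  ext i j
  fin_cases i <;> fin_cases j <;> simp [Matrix.mul_apply, Fin.sum_univ_two] <;> ring

theorem smat_transpose (u v : F) : (smat u v)ᵀ = smat u v := by
  unfold smat
  ext i j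
  fin_cases i <;> fin_cases j <;> simp

theorem smat_det (u v : F) : (smat u v).det = -(u * u + v * v) := by
  unfold smat
  rw [Matrix.det_fin_two_of]; ring

theorem exists_comm (P : Matrix (Fin 2) (Fin 2) F) (hP : Pᵀ = P) :
    ∃ u v : F, (u ≠ 0 ∨ v ≠ 0 ∨ (2 : F) = 0) ∧ smat u v * P = P * smat u v := by
  have h10 : P 1 0 = P 0 1 := congrFun (congrFun hP 0) 1
  by_cases h : P 0 0 - P 1 1 = 0 ∧ P 0 1 = 0
  · refine ⟨1, 0, Or.inl one_ne_zero, ?_⟩
    obtain ⟨h1, h2⟩ := h
    have h3 : P 0 0 = P 1 1 := sub_eq_zero.1 h1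
    unfold smat
    ext i j
    fin_cases i <;> fin_cases j <;> simp [Matrix.mul_apply, Fin.sum_univ_two, h10, h2, h3]
  · refine ⟨P 0 0 - P 1 1, 2 * P 0 1, ?_, ?_⟩
    · by_contra hcon
      push Not at hcon
      apply h
      refine ⟨hcon.1, ?_⟩
      rcases mul_eq_zero.1 hcon.2.1 with h3 | h3
      · exact absurd h3 hcon.2.2
      · exact h3
    · unfold smat
      ext i j
      fin_cases i <;> fin_cases j <;> simp [Matrix.mul_apply, Fin.sum_univ_two, h10] <;> ring

theorem key (h2 : (2 : F) ≠ 0) (hns : ∀ a c : F, a * a + c * c = 0 → a = 0 ∧ c = 0)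
    (Y : GL (Fin 2) F) : ∃ S : GL (Fin 2) F, S ∈ simT F ∧ Y⁻¹ * S * Y ∈ simT F ∧
      ¬ Cfsg.Agent.S2577.IsScal (S : Matrix (Fin 2) (Fin 2) F) := by
  set A := (Y : Matrix (Fin 2) (Fin 2) F) with hA
  set W := ((Y⁻¹ : GL (Fin 2) F) : Matrix (Fin 2) (Fin 2) F) with hW
  have hAW : A * W = 1 := gl_mul_inv Y
  have hWA : W * A = 1 := gl_inv_mul Y
  obtain ⟨u, v, huv, hcomm⟩ := exists_comm (A * Aᵀ)
    (by rw [Matrix.transpose_mul, Matrix.transpose_transpose])
  have hN : u * u + v * v ≠ 0 := by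
    intro h
    obtain ⟨h3, h4⟩ := hns u v h
    rcases huv with h5 | h5 | h5
    · exact h5 h3
    · exact h5 h4
    · exact h2 h5
  have hdet : (smat u v).det ≠ 0 := by
    rw [smat_det]
    exact neg_ne_zero.2 hN
  refine ⟨Matrix.GeneralLinearGroup.mkOfDetNeZero (smat u v) hdet, ?_, ?_, ?_⟩
  · rw [mem_simT]
    refine ⟨u * u + v * v, ?_⟩
    change (smat u v)ᵀ * smat u v = _
    rw [smat_transpose, smat_mul_self]
  · rw [mem_simT]
    refine ⟨u * u + v * v, ?_⟩
    change (W * smat u v * A)ᵀ * (W * smat u v * A) = _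
    set S := smat u v with hS
    set Q := Wᵀ * W with hQ
    have hQP : Q * (A * Aᵀ) = 1 := by
      rw [hQ, Matrix.mul_assoc, ← Matrix.mul_assoc W, hWA, Matrix.one_mul, ← Matrix.transpose_mul,
        hAW, Matrix.transpose_one]
    have hPQ : (A * Aᵀ) * Q = 1 := by
      rw [hQ, Matrix.mul_assoc, ← Matrix.mul_assoc Aᵀ, ← Matrix.transpose_mul, hWA,
        Matrix.transpose_one, Matrix.one_mul, hAW]
    have hSQ : S * Q = Q * S := by
      calc S * Q = (Q * (A * Aᵀ)) * S * Q := by rw [hQP, Matrix.one_mul]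
        _ = Q * ((A * Aᵀ) * S) * Q := by simp only [Matrix.mul_assoc]
        _ = Q * (S * (A * Aᵀ)) * Q := by rw [hcomm]
        _ = Q * S * ((A * Aᵀ) * Q) := by simp only [Matrix.mul_assoc]
        _ = Q * S := by rw [hPQ, Matrix.mul_one]
    calc (W * S * A)ᵀ * (W * S * A) = Aᵀ * (S * Q) * S * A := by
          rw [Matrix.transpose_mul, Matrix.transpose_mul, hS, smat_transpose, hQ]
          simp only [Matrix.mul_assoc]
      _ = Aᵀ * Q * (S * S) * A := by rw [hSQ]; simp only [Matrix.mul_assoc]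
      _ = (u * u + v * v) • (Aᵀ * Q * A) := by
          rw [smat_mul_self, Matrix.mul_smul, Matrix.smul_mul, Matrix.mul_one]
      _ = (u * u + v * v) • 1 := by
          congr 1
          rw [hQ, ← Matrix.mul_assoc, ← Matrix.transpose_mul, hWA, Matrix.transpose_one,
            Matrix.one_mul, hWA]
  · rintro ⟨c, hc⟩
    change smat u v = c • 1 at hc
    have e00 := congrFun (congrFun hc 0) 0
    have e01 := congrFun (congrFun hc 0) 1
    have e11 := congrFun (congrFun hc 1) 1
    simp [smat] at e00 e01 e11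
    have hu : u = 0 := by
      have : (2 : F) * u = 0 := by linear_combination e00 - e11
      rcases mul_eq_zero.1 this with h | h
      · exact absurd h h2
      · exact h
    apply hN
    rw [hu, e01]; ring

end main

/-- Let q = 2^k − 1 ≥ 7 be a prime and let G = PGL(2,q), the general linear group of degree 2 over the field with q elements modulo its centre. Then any two Sylow 2-subgroups of G have a non-trivial intersection: for a Sylow 2-subgroup H and every x ∈ G, H ∩ H^x ≠ 1. -/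
theorem result {q k : ℕ} [Fact q.Prime] (hk : q + 1 = 2 ^ k) (hq : 7 ≤ q)
    (H : Sylow 2 (GL (Fin 2) (ZMod q) ⧸ Subgroup.center (GL (Fin 2) (ZMod q))))
    (x : GL (Fin 2) (ZMod q) ⧸ Subgroup.center (GL (Fin 2) (ZMod q))) :
    (H : Subgroup (GL (Fin 2) (ZMod q) ⧸ Subgroup.center (GL (Fin 2) (ZMod q)))) ⊓ MulAut.conj x • (H : Subgroup _) ≠ ⊥ := by
  classical
  have hqp : q.Prime := Fact.out
  -- arithmetic of q
  have hk3 : 3 ≤ k := by
    by_contra hlt
    push Not at hlt
    have : 2 ^ k ≤ 2 ^ 2 := Nat.pow_le_pow_right (by norm_num) (by omega)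
    omega
  obtain ⟨j, rfl⟩ : ∃ j, k = j + 3 := ⟨k - 3, by omega⟩
  have h2j : 1 ≤ 2 ^ j := Nat.one_le_two_pow
  obtain ⟨u, hu⟩ : ∃ u, 2 ^ j = u + 1 := ⟨2 ^ j - 1, by omega⟩
  have hq8 : q = 8 * u + 7 := by
    rw [pow_add, hu] at hk
    omega
  have hk' : 8 * u + 8 = 2 ^ (j + 3) := by rw [← hk, hq8]
  have hq4 : q % 4 = 3 := by omega
  have hq2 : (2 : ZMod q) ≠ 0 := by
    intro h
    have h1 : ((2 : ℕ) : ZMod q) = 0 := by exact_mod_cast h
    rw [ZMod.natCast_eq_zero_iff] at h1
    have := Nat.le_of_dvd (by norm_num) h1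
    omega
  have hns : ∀ a c : ZMod q, a * a + c * c = 0 → a = 0 ∧ c = 0 := by
    intro a c h
    have hc : c = 0 := by
      by_contra hc
      have hsq : IsSquare (-1 : ZMod q) := by
        refine ⟨a / c, ?_⟩
        field_simp
        linear_combination -h
      rw [ZMod.exists_sq_eq_neg_one_iff] at hsq
      exact hsq hq4
    refine ⟨?_, hc⟩
    rw [hc] at h
    simpa using h
  have hcard : Fintype.card (ZMod q) = 8 * u + 7 := by rw [ZMod.card, hq8]
  obtain ⟨hp, hidx⟩ := sylow_H0 hq2 hns u (j + 3) hcard hk'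
  have : Fact (Nat.Prime 2) := ⟨Nat.prime_two⟩
  obtain ⟨g, hg⟩ := MulAction.exists_smul_eq
    (GL (Fin 2) (ZMod q) ⧸ Subgroup.center (GL (Fin 2) (ZMod q))) (hp.toSylow hidx) H
  have hH : (H : Subgroup (GL (Fin 2) (ZMod q) ⧸ Subgroup.center (GL (Fin 2) (ZMod q)))) =
      MulAut.conj g • H0 (ZMod q) := by
    rw [← hg, Sylow.coe_subgroup_smul, IsPGroup.toSylow_coe]
  obtain ⟨Y, hY⟩ := QuotientGroup.mk_surjective (g⁻¹ * x * g)
  obtain ⟨S, hS1, hS2, hS3⟩ := key hq2 hns Y
  have hs1 : (QuotientGroup.mk S : GL (Fin 2) (ZMod q) ⧸ Subgroup.center (GL (Fin 2) (ZMod q))) ∈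
      H0 (ZMod q) := ⟨S, hS1, rfl⟩
  have hs2 : (QuotientGroup.mk (Y⁻¹ * S * Y) :
      GL (Fin 2) (ZMod q) ⧸ Subgroup.center (GL (Fin 2) (ZMod q))) ∈ H0 (ZMod q) :=
    ⟨Y⁻¹ * S * Y, hS2, rfl⟩
  intro hbot
  have hmem : g * (QuotientGroup.mk S) * g⁻¹ ∈
      (H : Subgroup (GL (Fin 2) (ZMod q) ⧸ Subgroup.center (GL (Fin 2) (ZMod q)))) ⊓
        MulAut.conj x • (H : Subgroup _) := by
    rw [hH]
    constructor
    · have := Subgroup.smul_mem_pointwise_smul _ (MulAut.conj g) _ hs1
      rwa [MulAut.smul_def, MulAut.conj_apply] at this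
    · have h1 := Subgroup.smul_mem_pointwise_smul _ (MulAut.conj g) _ hs2
      have h3 := Subgroup.smul_mem_pointwise_smul _ (MulAut.conj x) _ h1
      rw [MulAut.smul_def, MulAut.conj_apply, MulAut.smul_def, MulAut.conj_apply,
        QuotientGroup.mk_mul, QuotientGroup.mk_mul, QuotientGroup.mk_inv, hY] at h3
      have e : x * (g * ((g⁻¹ * x * g)⁻¹ * (QuotientGroup.mk S) * (g⁻¹ * x * g)) * g⁻¹) * x⁻¹ =
          g * (QuotientGroup.mk S) * g⁻¹ := by group
      rwa [e] at h3
  rw [hbot, Subgroup.mem_bot] at hmem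
  have h1 : (QuotientGroup.mk S : GL (Fin 2) (ZMod q) ⧸ Subgroup.center (GL (Fin 2) (ZMod q))) = 1 := by
    have : (QuotientGroup.mk S : GL (Fin 2) (ZMod q) ⧸ Subgroup.center (GL (Fin 2) (ZMod q))) =
        g⁻¹ * (g * (QuotientGroup.mk S) * g⁻¹) * g := by group
    rw [this, hmem]; group
  exact hS3 ((Cfsg.Agent.S2577.mk_eq_one_iff S).1 h1)

end Cfsg.Agent.S2485
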