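import Mathlib
import Cfsg.Statements.S2488
-- import your own Cfsg.Agent.* helpers here

set_option autoImplicit false
open scoped Pointwise
open Cfsg

namespace Cfsg.Agent.S2488

open Equiv

/-- the model involution `(0 1)(2 3)` of the alternating group of degree 6 -/
def w0 : Perm (Fin 6) := swap 0 1 * swap 2 3

theorem w0_sign : Perm.sign w0 = 1 := by decide
theorem w0_sq : w0 * w0 = 1 := by decide
theorem w0_ne : w0 ≠ 1 := by decide

/-- even permutations commuting with `w0` -/
def centSet : Finset (Perm (Fin 6)) :=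
  Finset.univ.filter (fun g => Perm.sign g = 1 ∧ g * w0 = w0 * g)

set_option maxRecDepth 100000 in
theorem cent_card : centSet.card = 8 := by
  unfold centSet
  decide

/-- the involutions of the alternating group of degree 6 -/
def invSet : Finset (Perm (Fin 6)) :=
  Finset.univ.filter (fun g => Perm.sign g = 1 ∧ g * g = 1 ∧ g ≠ 1)

set_option maxRecDepth 100000 in
theorem inv_card : invSet.card = 45 := by
  unfold invSet
  decide

/-- the involutions `g` with prescribed truth values of `(w0 g)^3 = 1`, `(w0 g)^5 = 1` -/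
def fiberSet (b3 b5 : Bool) : Finset (Perm (Fin 6)) :=
  Finset.univ.filter (fun g => Perm.sign g = 1 ∧ g * g = 1 ∧ g ≠ 1 ∧
    decide ((w0 * g) ^ 3 = 1) = b3 ∧ decide ((w0 * g) ^ 5 = 1) = b5)

set_option maxRecDepth 100000 in
theorem fiber_card : ∀ b3 b5 : Bool, (fiberSet b3 b5).card ≤ 16 := by
  unfold fiberSet
  decide

/-- counting lemma: a map whose fibres lie in left cosets of `S` -/
theorem card_le_of_fibers {C β : Type*} [Group C] [Finite C] (S : Subgroup C) (f : C → β)
    (hf : ∀ c d, f c = f d → c⁻¹ * d ∈ S) (T : Finset β) (hT : ∀ c, f c ∈ T) :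
    Nat.card C ≤ T.card * Nat.card S := by
  classical
  have hex : ∀ t : β, ∃ r : C, (∃ c, f c = t) → f r = t := by
    intro t
    by_cases h : ∃ c, f c = t
    · obtain ⟨c, hc⟩ := h
      exact ⟨c, fun _ => hc⟩
    · exact ⟨1, fun h' => absurd h' h⟩
  choose r hr using hex
  let g : C → {x // x ∈ T} × S := fun c =>
    ((⟨f c, hT c⟩ : {x // x ∈ T}), (⟨(r (f c))⁻¹ * c, hf _ _ (hr (f c) ⟨c, rfl⟩)⟩ : S))
  have hg : Function.Injective g := by
    intro c d h
    have h1 : f c = f d := by
      have := congrArg (fun p => ((p.1 : {x // x ∈ T}) : β)) h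
      simpa [g] using this
    have h2 : (r (f c))⁻¹ * c = (r (f d))⁻¹ * d := by
      have := congrArg (fun p => ((p.2 : S) : C)) h
      simpa [g] using this
    rw [h1] at h2
    exact mul_left_cancel h2
  have h3 := Nat.card_le_card_of_injective g hg
  rw [Nat.card_prod, Nat.card_eq_finsetCard] at h3
  exact h3


/-- the key statement for the centraliser of the model involution -/
theorem key {G : Type*} [Group G] [Finite G] (N : Subgroup G) [N.Normal]
    (e : N ≃* alternatingGroup (Fin 6)) (hidx : N.index = 4) :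
    Nat.card G = 1440 ∧ ∃ C : Subgroup G, Nat.card C = 32 ∧
      ∀ x : G, ∃ u : G, u ≠ 1 ∧ u ∈ C ∧ x⁻¹ * u * x ∈ C := by
  classical
  have hN : Nat.card N = 360 := by
    rw [Nat.card_congr e.toEquiv, nat_card_alternatingGroup]
    simp
    decide
  have hG : Nat.card G = 1440 := by
    have h := Subgroup.card_mul_index N
    rw [hN, hidx] at h
    omega
  -- the transport map
  set φ : N → Perm (Fin 6) := fun n => ((e n : alternatingGroup (Fin 6)) : Perm (Fin 6)) with hφ
  have φmul : ∀ a b, φ (a * b) = φ a * φ b := by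
    intro a b
    simp [hφ]
  have φone : φ 1 = 1 := by simp [hφ]
  have φinj : Function.Injective φ := by
    intro a b h
    apply e.injective
    exact Subtype.ext h
  have φsign : ∀ n, Perm.sign (φ n) = 1 := fun n => Perm.mem_alternatingGroup.mp (e n).2
  have φpow : ∀ (a : N) (k : ℕ), φ (a ^ k) = φ a ^ k := by
    intro a k
    simp [hφ]
  have φeq1 : ∀ a : N, φ a = 1 ↔ a = 1 := by
    intro a
    constructor
    · intro h
      apply φinj
      rw [h, φone]
    · intro h
      rw [h, φone]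
  set z0N : N := e.symm ⟨w0, Perm.mem_alternatingGroup.mpr w0_sign⟩ with hz0N
  have φz0 : φ z0N = w0 := by simp [hφ, hz0N]
  set z0 : G := (z0N : G) with hz0
  have hz0mem : z0 ∈ N := z0N.2
  have hz0sq : z0 * z0 = 1 := by
    have h1 : z0N * z0N = 1 := by
      apply φinj
      rw [φmul, φz0, φone, w0_sq]
    have := congrArg (fun n : N => (n : G)) h1
    simpa using this
  have hz0ne : z0 ≠ 1 := by
    intro h
    have h1 : z0N = 1 := Subtype.ext h
    have : φ z0N = 1 := by rw [h1, φone]
    rw [φz0] at this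
    exact w0_ne this
  -- transport of elements of `N`
  have φcoe : ∀ (a b : N), φ a = φ b ↔ (a : G) = (b : G) := by
    intro a b
    constructor
    · intro h
      rw [φinj h]
    · intro h
      rw [Subtype.ext h]
  let τ : G → Perm (Fin 6) := fun y => if h : y ∈ N then φ ⟨y, h⟩ else 1
  have τdef : ∀ (y : G) (h : y ∈ N), τ y = φ ⟨y, h⟩ := by
    intro y h
    simp only [τ, dif_pos h]
  have τinj : ∀ y₁ ∈ N, ∀ y₂ ∈ N, τ y₁ = τ y₂ → y₁ = y₂ := by
    intro y₁ h₁ y₂ h₂ h
    rw [τdef y₁ h₁, τdef y₂ h₂] at h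
    have := φinj h
    exact congrArg (fun n : N => (n : G)) this
  have τmul : ∀ y₁ ∈ N, ∀ y₂ ∈ N, τ (y₁ * y₂) = τ y₁ * τ y₂ := by
    intro y₁ h₁ y₂ h₂
    rw [τdef y₁ h₁, τdef y₂ h₂, τdef (y₁ * y₂) (N.mul_mem h₁ h₂), ← φmul]
    rfl
  have τone : τ 1 = 1 := by
    rw [τdef 1 N.one_mem]
    exact φone
  have τsign : ∀ y ∈ N, Perm.sign (τ y) = 1 := by
    intro y h
    rw [τdef y h]
    exact φsign _
  have τz0 : τ z0 = w0 := by
    rw [τdef z0 hz0mem]
    exact φz0
  have τeq1 : ∀ y ∈ N, (τ y = 1 ↔ y = 1) := by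
    intro y h
    constructor
    · intro h1
      apply τinj y h 1 N.one_mem
      rw [h1, τone]
    · intro h1
      rw [h1, τone]
  have τpow : ∀ y ∈ N, ∀ k : ℕ, τ (y ^ k) = τ y ^ k := by
    intro y h k
    induction k with
    | zero => simpa using τone
    | succ k ih =>
      rw [pow_succ, pow_succ, τmul _ (N.pow_mem h k) _ h, ih]
  -- the centraliser
  set C : Subgroup G := Subgroup.centralizer ({z0} : Set G) with hC
  have memC : ∀ c : G, c ∈ C ↔ c * z0 = z0 * c := fun c => Subgroup.mem_centralizer_singleton_iff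
  let _iG : Fintype G := Fintype.ofFinite G
  let _iQ : Fintype (G ⧸ N) := Fintype.ofFinite _
  -- Part A: `card C ≤ 32`
  have hA : Nat.card C ≤ 32 := by
    have h1 : Nat.card C ≤ (Finset.univ : Finset (G ⧸ N)).card * Nat.card (N.subgroupOf C) := by
      apply card_le_of_fibers (N.subgroupOf C) (fun c : C => (((c : G)) : G ⧸ N))
      · intro c d h
        rw [Subgroup.mem_subgroupOf]
        have := QuotientGroup.eq.mp h
        simpa using this
      · intro c
        exact Finset.mem_univ _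
    have h2 : (Finset.univ : Finset (G ⧸ N)).card = 4 := by
      rw [Finset.card_univ, ← Nat.card_eq_fintype_card, ← Subgroup.index_eq_card, hidx]
    have h3 : Nat.card (N.subgroupOf C) ≤ 8 := by
      have hmem : ∀ c : N.subgroupOf C, τ ((c : C) : G) ∈ centSet := by
        intro c
        have hcN : ((c : C) : G) ∈ N := Subgroup.mem_subgroupOf.mp c.2
        have hcC : ((c : C) : G) * z0 = z0 * ((c : C) : G) := (memC _).mp (c : C).2
        unfold centSet
        rw [Finset.mem_filter]
        refine ⟨Finset.mem_univ _, τsign _ hcN, ?_⟩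
        rw [← τz0, ← τmul _ hcN _ hz0mem, ← τmul _ hz0mem _ hcN, hcC]
      let ψ : N.subgroupOf C → {g // g ∈ centSet} := fun c => ⟨τ ((c : C) : G), hmem c⟩
      have hψ : Function.Injective ψ := by
        intro c d h
        have h' : τ ((c : C) : G) = τ ((d : C) : G) := congrArg Subtype.val h
        have := τinj _ (Subgroup.mem_subgroupOf.mp c.2) _ (Subgroup.mem_subgroupOf.mp d.2) h'
        exact Subtype.ext (Subtype.ext this)
      have := Nat.card_le_card_of_injective ψ hψ
      rw [Nat.card_eq_finsetCard, cent_card] at this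
      exact this
    rw [h2] at h1
    calc Nat.card C ≤ 4 * Nat.card (N.subgroupOf C) := h1
      _ ≤ 4 * 8 := Nat.mul_le_mul_left 4 h3
      _ = 32 := by norm_num
  -- generic conjugation facts
  have conjN : ∀ (g y : G), y ∈ N → g * y * g⁻¹ ∈ N := fun g y hy =>
    Subgroup.Normal.conj_mem inferInstance y hy g
  have conj_sq : ∀ (g y : G), y * y = 1 → (g * y * g⁻¹) * (g * y * g⁻¹) = 1 := by
    intro g y hy
    calc (g * y * g⁻¹) * (g * y * g⁻¹) = g * (y * y) * g⁻¹ := by group
      _ = 1 := by rw [hy]; group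
  have conj_ne : ∀ (g y : G), y ≠ 1 → g * y * g⁻¹ ≠ 1 := by
    intro g y hy h
    apply hy
    have : y = g⁻¹ * (g * y * g⁻¹) * g := by group
    rw [this, h]
    group
  -- Part B: `32 ≤ card C`
  have hB : 32 ≤ Nat.card C := by
    let TI : Finset G := Finset.univ.filter (fun y => y ∈ N ∧ y * y = 1 ∧ y ≠ 1)
    have h1 : Nat.card G ≤ TI.card * Nat.card C := by
      apply card_le_of_fibers C (fun g : G => g * z0 * g⁻¹)
      · intro g h hgh
        rw [memC]
        have e1 : g⁻¹ * h * z0 = g⁻¹ * (h * z0 * h⁻¹) * h := by group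
        have e2 : z0 * (g⁻¹ * h) = g⁻¹ * (g * z0 * g⁻¹) * h := by group
        rw [e1, e2, hgh]
      · intro g
        rw [Finset.mem_filter]
        exact ⟨Finset.mem_univ _, conjN g z0 hz0mem, conj_sq g z0 hz0sq, conj_ne g z0 hz0ne⟩
    have h2 : TI.card ≤ 45 := by
      rw [← inv_card]
      apply Finset.card_le_card_of_injOn τ
      · intro y hy
        have hy' := (Finset.mem_filter.mp hy).2
        unfold invSet
        rw [Finset.mem_coe, Finset.mem_filter]
        refine ⟨Finset.mem_univ _, τsign y hy'.1, ?_, ?_⟩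
        · rw [← τmul y hy'.1 y hy'.1, hy'.2.1, τone]
        · intro h
          exact hy'.2.2 ((τeq1 y hy'.1).mp h)
      · intro y₁ h₁ y₂ h₂ h
        exact τinj y₁ (Finset.mem_filter.mp h₁).2.1 y₂ (Finset.mem_filter.mp h₂).2.1 h
    rw [hG] at h1
    by_contra hlt
    push Not at hlt
    have : TI.card * Nat.card C ≤ 45 * 31 := Nat.mul_le_mul h2 (by omega)
    omega
  have hCcard : Nat.card C = 32 := le_antisymm hA hB
  refine ⟨hG, C, hCcard, ?_⟩
  intro x
  by_contra hno
  push Not at hno
  -- `hno : ∀ u, u ≠ 1 → u ∈ C → x⁻¹ * u * x ∉ C`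
  set z' : G := x * z0 * x⁻¹ with hz'
  have hz'N : z' ∈ N := conjN x z0 hz0mem
  have hz'sq : z' * z' = 1 := conj_sq x z0 hz0sq
  have hz'ne : z' ≠ 1 := conj_ne x z0 hz0ne
  set b3 : Bool := decide ((z0 * z') ^ 3 = 1) with hb3
  set b5 : Bool := decide ((z0 * z') ^ 5 = 1) with hb5
  let Y : Finset G := Finset.univ.filter (fun y => y ∈ N ∧ y * y = 1 ∧ y ≠ 1 ∧
    decide ((z0 * y) ^ 3 = 1) = b3 ∧ decide ((z0 * y) ^ 5 = 1) = b5)
  have key1 : ∀ (c : G), c ∈ C → ∀ k : ℕ, ((z0 * (c * z' * c⁻¹)) ^ k = 1 ↔ (z0 * z') ^ k = 1) := by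
    intro c hc k
    have hcz : c * z0 = z0 * c := (memC c).mp hc
    have e1 : z0 * (c * z' * c⁻¹) = c * (z0 * z') * c⁻¹ := by
      calc z0 * (c * z' * c⁻¹) = (z0 * c) * z' * c⁻¹ := by group
        _ = (c * z0) * z' * c⁻¹ := by rw [hcz]
        _ = c * (z0 * z') * c⁻¹ := by group
    rw [e1, conj_pow]
    constructor
    · intro h
      have : (z0 * z') ^ k = c⁻¹ * (c * (z0 * z') ^ k * c⁻¹) * c := by group
      rw [this, h]
      group
    · intro h
      rw [h]
      group
  have h1 : Nat.card C ≤ Y.card * Nat.card (⊥ : Subgroup C) := by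
    apply card_le_of_fibers (⊥ : Subgroup C) (fun c : C => (c : G) * z' * (c : G)⁻¹)
    · intro c d hcd
      rw [Subgroup.mem_bot]
      by_contra hne
      have hu1 : ((c⁻¹ * d : C) : G) ≠ 1 := by
        intro h
        apply hne
        exact Subtype.ext h
      have hu2 : ((c⁻¹ * d : C) : G) ∈ C := (c⁻¹ * d : C).2
      have hu3 := hno _ hu1 hu2
      apply hu3
      rw [memC]
      have hcomm : ((c⁻¹ * d : C) : G) * z' = z' * ((c⁻¹ * d : C) : G) := by
        have e1 : ((c⁻¹ * d : C) : G) * z' = (c : G)⁻¹ * ((d : G) * z' * (d : G)⁻¹) * (d : G) := by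
          simp only [Subgroup.coe_mul, Subgroup.coe_inv]
          group
        have e2 : z' * ((c⁻¹ * d : C) : G) = (c : G)⁻¹ * ((c : G) * z' * (c : G)⁻¹) * (d : G) := by
          simp only [Subgroup.coe_mul, Subgroup.coe_inv]
          group
        rw [e1, e2]
        have hcd' : (c : G) * z' * (c : G)⁻¹ = (d : G) * z' * (d : G)⁻¹ := hcd
        rw [hcd']
      set u : G := ((c⁻¹ * d : C) : G) with hu
      calc x⁻¹ * u * x * z0 = x⁻¹ * (u * z') * x := by rw [hz']; group
        _ = x⁻¹ * (z' * u) * x := by rw [hcomm]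
        _ = z0 * (x⁻¹ * u * x) := by rw [hz']; group
    · intro c
      have hcC : (c : G) ∈ C := c.2
      rw [Finset.mem_filter]
      refine ⟨Finset.mem_univ _, conjN _ z' hz'N, conj_sq _ z' hz'sq, conj_ne _ z' hz'ne, ?_, ?_⟩
      · rw [hb3]
        exact decide_eq_decide.mpr (key1 _ hcC 3)
      · rw [hb5]
        exact decide_eq_decide.mpr (key1 _ hcC 5)
  have h2 : Y.card ≤ 16 := by
    refine le_trans ?_ (fiber_card b3 b5)
    apply Finset.card_le_card_of_injOn τ
    · intro y hy
      have hy' := (Finset.mem_filter.mp hy).2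
      have hyN := hy'.1
      have hz0y : z0 * y ∈ N := N.mul_mem hz0mem hyN
      have hpow : ∀ k : ℕ, ((w0 * τ y) ^ k = 1 ↔ (z0 * y) ^ k = 1) := by
        intro k
        rw [← τz0, ← τmul z0 hz0mem y hyN, ← τpow _ hz0y k]
        exact τeq1 _ (N.pow_mem hz0y k)
      unfold fiberSet
      rw [Finset.mem_coe, Finset.mem_filter]
      refine ⟨Finset.mem_univ _, τsign y hyN, ?_, ?_, ?_, ?_⟩
      · rw [← τmul y hyN y hyN, hy'.2.1, τone]
      · intro h
        exact hy'.2.2.1 ((τeq1 y hyN).mp h)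
      · rw [← hy'.2.2.2.1]
        exact decide_eq_decide.mpr (hpow 3)
      · rw [← hy'.2.2.2.2]
        exact decide_eq_decide.mpr (hpow 5)
    · intro y₁ h₁ y₂ h₂ h
      exact τinj y₁ (Finset.mem_filter.mp h₁).2.1 y₂ (Finset.mem_filter.mp h₂).2.1 h
  have h3 : Nat.card (⊥ : Subgroup C) = 1 := Subgroup.card_bot
  rw [h3, mul_one, hCcard] at h1
  omega


/-- Let G be a finite group with a normal subgroup N of index 4 isomorphic to the alternating group of degree 6 and with trivial centralizer in G (so G is the full automorphism group of A₆). Then any two Sylow 2-subgroups of G have a non-trivial intersection: for a Sylow 2-subgroup H and every x ∈ G, H ∩ H^x ≠ 1. -/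
theorem result {G : Type*} [Group G] [Finite G] (N : Subgroup G) [N.Normal]
    (e : N ≃* alternatingGroup (Fin 6)) (hidx : N.index = 4)
    (hC : Subgroup.centralizer (N : Set G) = ⊥)
    (H : Sylow 2 G) (x : G) :
    (H : Subgroup G) ⊓ MulAut.conj x • (H : Subgroup G) ≠ ⊥ := by
  obtain ⟨hG, C, hCcard, hCx⟩ := key N e hidx
  have hCp : IsPGroup 2 C := IsPGroup.of_card (n := 5) (by rw [hCcard]; norm_num)
  obtain ⟨Q, hCQ⟩ := hCp.exists_le_sylow
  have hfac : (1440 : ℕ).factorization 2 = 5 := by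
    have h1 : (1440 : ℕ) = 2 ^ 5 * 45 := by norm_num
    rw [h1, Nat.factorization_mul (by norm_num) (by norm_num), Finsupp.add_apply,
      Nat.Prime.factorization_pow Nat.prime_two, Finsupp.single_eq_same,
      Nat.factorization_eq_zero_of_not_dvd (by norm_num)]
  have hQcard : Nat.card (Q : Subgroup G) = 32 := by
    rw [Sylow.card_eq_multiplicity, hG, hfac]
    norm_num
  have hCQ' : C = (Q : Subgroup G) :=
    Subgroup.eq_of_le_of_card_ge hCQ (by rw [hQcard, hCcard])
  obtain ⟨g, hg⟩ := MulAction.exists_smul_eq G Q H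
  have hH : (H : Subgroup G) = MulAut.conj g • C := by
    rw [hCQ', ← hg]
    rfl
  have memH : ∀ y : G, y ∈ (H : Subgroup G) ↔ g⁻¹ * y * g ∈ C := by
    intro y
    rw [hH, Subgroup.mem_pointwise_smul_iff_inv_smul_mem, MulAut.smul_def, MulAut.conj_inv_apply]
  obtain ⟨u, hu1, huC, huC'⟩ := hCx (g⁻¹ * x * g)
  intro hbot
  have hv : g * u * g⁻¹ ∈ (H : Subgroup G) ⊓ MulAut.conj x • (H : Subgroup G) := by
    refine Subgroup.mem_inf.mpr ⟨?_, ?_⟩
    · rw [memH]
      have : g⁻¹ * (g * u * g⁻¹) * g = u := by group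
      rw [this]
      exact huC
    · rw [Subgroup.mem_pointwise_smul_iff_inv_smul_mem]
      have e1 : (MulAut.conj x)⁻¹ • (g * u * g⁻¹) = x⁻¹ * (g * u * g⁻¹) * x := by
        rw [MulAut.smul_def, MulAut.conj_inv_apply]
      rw [e1, memH]
      have : g⁻¹ * (x⁻¹ * (g * u * g⁻¹) * x) * g = (g⁻¹ * x * g)⁻¹ * u * (g⁻¹ * x * g) := by group
      rw [this]
      exact huC'
  rw [hbot, Subgroup.mem_bot] at hv
  apply hu1
  have : u = g⁻¹ * (g * u * g⁻¹) * g := by group
  rw [this, hv]
  group

end Cfsg.Agent.S2488
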