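import Cfsg.Statements.S2490
import Cfsg.Agent.Lib.Helper3.PG7920H

set_option autoImplicit false
open Cfsg

namespace Cfsg.Agent.S2490

open Cfsg.Agent.Helper3.PG7920 in
/-- a prime divisor of 7920 -/
theorem prime_dvd_7920 {a : ℕ} (ha : a.Prime) (hd : a ∣ 7920) : a = 2 ∨ a = 3 ∨ a = 5 ∨ a = 11 := by
  have h : a ∣ 2 ^ 4 * 3 ^ 2 * 5 * 11 := by norm_num; exact hd
  rcases (Nat.Prime.dvd_mul ha).1 h with h | h
  · rcases (Nat.Prime.dvd_mul ha).1 h with h | h
    · rcases (Nat.Prime.dvd_mul ha).1 h with h | h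
      · left; exact (Nat.prime_dvd_prime_iff_eq ha (by norm_num)).1 (ha.dvd_of_dvd_pow h)
      · right; left; exact (Nat.prime_dvd_prime_iff_eq ha (by norm_num)).1 (ha.dvd_of_dvd_pow h)
    · right; right; left; exact (Nat.prime_dvd_prime_iff_eq ha (by norm_num)).1 h
  · right; right; right; exact (Nat.prime_dvd_prime_iff_eq ha (by norm_num)).1 h

/-- Let G be a finite group of order 7920 = 2⁴·3²·5·11 (the order of the smallest Mathieu group) and suppose its prime graph (vertices the prime divisors of the order, distinct p, q joined when there is an element of order pq) is disconnected: the prime divisors split into two non-empty parts with no element of order pq for p in one part and q in the other. Then G is simple. -/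
theorem result {G : Type*} [Group G] [Finite G] (hord : Nat.card G = 7920)
    (hdisc : (∃ A : Set ℕ, (∃ a ∈ A, a.Prime ∧ a ∣ Nat.card G) ∧ (∃ b ∉ A, b.Prime ∧ b ∣ Nat.card G) ∧
      ∀ a ∈ A, ∀ b ∉ A, a.Prime → b.Prime → a ∣ Nat.card G → b ∣ Nat.card G → ¬ ∃ g : G, orderOf g = a * b)) :
    IsSimpleGroup G := by
  obtain ⟨A, ⟨a, haA, hap, had⟩, ⟨b, hbA, hbp, hbd⟩, hsep⟩ := hdisc
  rw [hord] at had hbd
  have d2 : 2 ∣ Nat.card G := by rw [hord]; norm_num
  have d3 : 3 ∣ Nat.card G := by rw [hord]; norm_num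
  have d5 : 5 ∣ Nat.card G := by rw [hord]; norm_num
  have d11 : 11 ∣ Nat.card G := by rw [hord]; norm_num
  have p2 : Nat.Prime 2 := by norm_num
  have p3 : Nat.Prime 3 := by norm_num
  have p5 : Nat.Prime 5 := by norm_num
  have p11 : Nat.Prime 11 := by norm_num
  -- adjacency respects the sides
  have key : ∀ r s : ℕ, r.Prime → s.Prime → r ∣ Nat.card G → s ∣ Nat.card G →
      Cfsg.Agent.Helper3.PG7920.Adj G r s → (r ∈ A ↔ s ∈ A) := by
    intro r s hr hs hrd hsd hadj
    constructor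
    · intro hrA
      by_contra hsA
      exact hsep r hrA s hsA hr hs hrd hsd hadj
    · intro hsA
      by_contra hrA
      exact hsep s hsA r hrA hs hr hsd hrd hadj.symm
  have hS : Cfsg.Agent.Helper3.PG7920.Sep G (2 ∈ A) (3 ∈ A) (5 ∈ A) (11 ∈ A) := by
    refine ⟨key 2 3 p2 p3 d2 d3, key 2 5 p2 p5 d2 d5, key 2 11 p2 p11 d2 d11, key 3 5 p3 p5 d3 d5,
      key 3 11 p3 p11 d3 d11, key 5 11 p5 p11 d5 d11, ?_⟩
    rintro ⟨h1, h2, h3⟩
    rcases prime_dvd_7920 hap had with rfl | rfl | rfl | rfl <;>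
      rcases prime_dvd_7920 hbp hbd with rfl | rfl | rfl | rfl <;> tauto
  haveI : Nontrivial G := by
    rw [← Finite.one_lt_card_iff_nontrivial, hord]
    norm_num
  refine ⟨fun N hN => ?_⟩
  by_contra hcon
  push Not at hcon
  exact Cfsg.Agent.Helper3.PG7920.main hord hS N hN hcon.1 hcon.2

end Cfsg.Agent.S2490
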