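import Mathlib
import Cfsg.Statements.S2495
import Cfsg.Agent.Lib.Helper12.PSLnSingerArith
import Cfsg.Agent.Lib.Helper12.PSLnSingerField
import Cfsg.Agent.Lib.Helper12.PSL3SpecMain
import Cfsg.Agent.Lib.Helper15.Zsigmondy

set_option autoImplicit false
open Cfsg

namespace Cfsg.Agent.S2495

open Cfsg.Agent.Helper12 Polynomial Module

section
variable {F : Type*} [Field F] [Fintype F]

/-- sufficiency of the 2-adic condition -/
theorem exists_of_padic (p : ℕ) [Fact p.Prime] [CharP F p] (hq3 : 3 ≤ Fintype.card F)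
    {n m : ℕ} (hn : n = 2 * m) (hm : 0 < m)
    (hv : padicValNat 2 (Fintype.card F - 1) < padicValNat 2 n) :
    ∃ g : Matrix.ProjectiveSpecialLinearGroup (Fin n) F, orderOf g = Fintype.card F ^ m + 1 := by
  classical
  obtain ⟨hdvd, hiff⟩ := PSLnSinger.order_of_padic_lt hq3 hn hm hv
  obtain ⟨o, ho⟩ : ∃ o, o = (Fintype.card F ^ m + 1) * 2 ^ padicValNat 2 (Fintype.card F - 1) :=
    ⟨_, rfl⟩
  rw [← ho] at hdvd hiff
  haveI : NeZero n := ⟨by omega⟩
  have hgeom : (Fintype.card F - 1) * PSLnSinger.geom (Fintype.card F) n =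
      Fintype.card F ^ n - 1 := PSLnSinger.sub_one_mul_geom (by omega) n
  have hodvd : o ∣ Fintype.card F ^ n - 1 := by
    rw [← hgeom]
    exact dvd_mul_of_dvd_right hdvd _
  obtain ⟨z, hz⟩ := exists_orderOf_units_extension (F := F) p n hodvd
  haveI : Finite (FiniteField.Extension F p n) := Module.finite_of_finite F
  have hfin : finrank F (FiniteField.Extension F p n) = n := FiniteField.finrank_extension F p n
  have hzM : (z : FiniteField.Extension F p n) ^ PSLnSinger.geom (Fintype.card F) n = 1 := by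
    obtain ⟨c, hc⟩ := hdvd
    rw [hc, pow_mul, ← Units.val_pow_eq_pow_val, ← hz, pow_orderOf_eq_one, Units.val_one, one_pow]
  have hdet : LinearMap.det (Algebra.lmul F (FiniteField.Extension F p n)
      (z : FiniteField.Extension F p n)) = 1 := by
    rw [← Algebra.norm_apply]
    apply (algebraMap F (FiniteField.Extension F p n)).injective
    rw [FiniteField.algebraMap_norm_eq_pow_sum, hfin, map_one, Nat.card_eq_fintype_card]
    exact hzM
  obtain ⟨y, hy⟩ := PSL3Spec.exists_PSL_of_end hfin _ hdet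
  refine ⟨y, ?_⟩
  apply PSL3Spec.orderOf_eq_of_pow_iff
  intro j
  rw [hy j, ← hiff j]
  constructor
  · rintro ⟨c, hc⟩
    rw [PSL3Spec.lmul_pow_eq_smul_iff] at hc
    have hc0 : c ≠ 0 := by
      rintro rfl
      rw [map_zero] at hc
      exact (pow_ne_zero j z.ne_zero) hc
    have h1 : (z : FiniteField.Extension F p n) ^ (j * (Fintype.card F - 1)) = 1 := by
      rw [pow_mul, hc, ← map_pow, FiniteField.pow_card_sub_one_eq_one c hc0, map_one]
    have h2 : z ^ (j * (Fintype.card F - 1)) = 1 := by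
      apply Units.ext
      rw [Units.val_pow_eq_pow_val, h1, Units.val_one]
    rw [← hz]
    exact orderOf_dvd_of_pow_eq_one h2
  · intro h
    rw [← hz] at h
    have h1 : z ^ (j * (Fintype.card F - 1)) = 1 := orderOf_dvd_iff_pow_eq_one.1 h
    have h2 : ((z : FiniteField.Extension F p n) ^ j) ^ (Fintype.card F - 1) = 1 := by
      rw [← pow_mul, ← Units.val_pow_eq_pow_val, h1, Units.val_one]
    obtain ⟨c, hc⟩ := PSL3Spec.exists_algebraMap_eq_of_pow_card_sub_one (F := F) h2
    exact ⟨c, (PSL3Spec.lmul_pow_eq_smul_iff _ _ _).2 hc.symm⟩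

end

section nec
universe u
variable {F : Type u} [Field F] [Fintype F]

/-- necessity of the 2-adic condition -/
theorem padic_of_exists (p : ℕ) [Fact p.Prime] [CharP F p] (hq3 : 3 ≤ Fintype.card F)
    (hodd : Odd (Fintype.card F)) {n m : ℕ} (hn : n = 2 * m) (hm : 2 ≤ m)
    (g : Matrix.ProjectiveSpecialLinearGroup (Fin n) F)
    (hg : orderOf g = Fintype.card F ^ m + 1) :
    padicValNat 2 (Fintype.card F - 1) < padicValNat 2 n := by
  classical
  obtain ⟨q, hq⟩ : ∃ q, q = Fintype.card F := ⟨_, rfl⟩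
  rw [← hq] at hq3 hodd hg ⊢
  obtain ⟨N, hN⟩ : ∃ N, N = q ^ m + 1 := ⟨_, rfl⟩
  rw [← hN] at hg
  have hn0 : 0 < n := by omega
  haveI : Nonempty (Fin n) := ⟨⟨0, hn0⟩⟩
  have hNpos : 0 < N := by rw [hN]; omega
  obtain ⟨x, rfl⟩ := QuotientGroup.mk_surjective g
  have hord : ∀ j : ℕ, (QuotientGroup.mk x :
      Matrix.ProjectiveSpecialLinearGroup (Fin n) F) ^ j = 1 ↔ N ∣ j := by
    intro j
    rw [← hg]
    exact orderOf_dvd_iff_pow_eq_one.symm
  -- a primitive prime divisor
  obtain ⟨r, hr, hrd, hrp⟩ := Cfsg.Agent.Helper15.Zsig.zsigmondy q n (by omega) (by omega)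
    (by
      rintro ⟨h2, -⟩
      rw [h2] at hodd
      exact absurd hodd (by decide))
    (by
      rintro ⟨h2, -⟩
      omega)
  haveI : Fact r.Prime := ⟨hr⟩
  have hq1 : 1 ≤ q ^ m := Nat.one_le_pow _ _ (by omega)
  have hrN : r ∣ N := by
    have h1 : q ^ n - 1 = (q ^ m - 1) * (q ^ m + 1) := by
      obtain ⟨s, hs⟩ : ∃ s, q ^ m = s + 1 := ⟨q ^ m - 1, by omega⟩
      rw [hn, mul_comm 2 m, pow_mul, hs, Nat.add_sub_cancel]
      have : (s + 1) ^ 2 = s * (s + 1 + 1) + 1 := by ring
      rw [this, Nat.add_sub_cancel]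
    rw [h1] at hrd
    rcases (Nat.Prime.dvd_mul hr).1 hrd with h | h
    · exact absurd h (hrp m (by omega) (by omega))
    · rw [hN]
      exact h
  have hrq1 : ¬ r ∣ q - 1 := by
    have := hrp 1 (by omega) (by omega)
    rwa [pow_one] at this
  have hrF : ((r : ℕ) : F) ≠ 0 := by
    intro h0
    have h1 : p ∣ r := (CharP.cast_eq_zero_iff F p r).1 h0
    have h2 : p = r := (Nat.prime_dvd_prime_iff_eq Fact.out hr).1 h1
    have h3 : r ∣ q := by
      rw [← h2, hq]
      exact PSLAdj.char_dvd_card p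
    have h4 : r ∣ q ^ n := dvd_pow h3 (by omega)
    have h5 : q ^ n = (q ^ n - 1) + 1 := by
      have : 1 ≤ q ^ n := Nat.one_le_pow _ _ (by omega)
      omega
    rw [h5] at h4
    have h6 := (Nat.dvd_add_right hrd).1 h4
    exact hr.one_lt.ne' (Nat.dvd_one.1 h6)
  -- the element `y = x ^ (N / r)` is of order `r` modulo scalars
  obtain ⟨t, ht⟩ := hrN
  have htpos : 0 < t := by
    rcases Nat.eq_zero_or_pos t with h | h
    · rw [h, mul_zero] at ht
      omega
    · exact h
  have hyr : ∃ c : F, (x : Matrix (Fin n) (Fin n) F) ^ (t * r) =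
      c • (1 : Matrix (Fin n) (Fin n) F) := by
    rw [← PSL3Spec.mk_pow_eq_one_iff, hord]
    rw [ht, mul_comm]
  have hy1 : ¬ ∃ c : F, (x : Matrix (Fin n) (Fin n) F) ^ t =
      c • (1 : Matrix (Fin n) (Fin n) F) := by
    rw [← PSL3Spec.mk_pow_eq_one_iff, hord]
    intro h
    have h1 := Nat.le_of_dvd htpos h
    have h2 : t < r * t := by
      have := hr.two_le
      nlinarith
    omega
  obtain ⟨lam, hlam⟩ := hyr
  have hlam0 : lam ≠ 0 := by
    rintro rfl
    rw [zero_smul] at hlam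
    have h1 : ((x : Matrix (Fin n) (Fin n) F) ^ (t * r)).det = 1 := by
      rw [Matrix.det_pow, x.det_coe, one_pow]
    rw [hlam, Matrix.det_zero] at h1
    exact zero_ne_one h1
  have hcop : (Nat.card Fˣ).Coprime r := by
    rw [Nat.card_units, Nat.card_eq_fintype_card, ← hq]
    exact ((Nat.Prime.coprime_iff_not_dvd hr).2 hrq1).symm
  obtain ⟨μ, hμ⟩ := (powCoprime hcop).surjective (Units.mk0 lam hlam0)⁻¹
  have hμ' : (μ : F) ^ r * lam = 1 := by
    have h1 : μ ^ r = (Units.mk0 lam hlam0)⁻¹ := hμ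
    have h2 : μ ^ r * Units.mk0 lam hlam0 = 1 := by rw [h1, inv_mul_cancel]
    have h3 := congrArg Units.val h2
    rwa [Units.val_mul, Units.val_pow_eq_pow_val, Units.val_mk0, Units.val_one] at h3
  obtain ⟨z, hzdef⟩ : ∃ z : Matrix (Fin n) (Fin n) F,
      z = (μ : F) • (x : Matrix (Fin n) (Fin n) F) ^ t := ⟨_, rfl⟩
  have hzr : z ^ r = 1 := by
    rw [hzdef, _root_.smul_pow, ← pow_mul, hlam, smul_smul, hμ', one_smul]
  have hz1 : z ≠ 1 := by
    intro h1
    apply hy1
    refine ⟨((μ⁻¹ : Fˣ) : F), ?_⟩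
    rw [← h1, hzdef, smul_smul, ← Units.val_mul, inv_mul_cancel, Units.val_one, one_smul]
  have hxz : Commute (x : Matrix (Fin n) (Fin n) F) z := by
    rw [hzdef]
    exact ((Commute.refl _).pow_right t).smul_right _
  have hrp' : ∀ k : ℕ, 0 < k → k < n → ¬ r ∣ Fintype.card F ^ k - 1 := by
    intro k hk1 hk2
    rw [← hq]
    exact hrp k hk1 hk2
  obtain ⟨hirr, hdeg⟩ := PSLnSinger.irreducible_minpoly z hr hrF hzr hz1 hrp'
  haveI : Fact (Irreducible (minpoly F z)) := ⟨hirr⟩
  obtain ⟨k, hk⟩ := PSLnSinger.exists_psi_eq_of_commute z hn0 hdeg _ hxz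
  haveI : FiniteDimensional F (AdjoinRoot (minpoly F z)) :=
    (AdjoinRoot.powerBasis hirr.ne_zero).finite
  haveI : Finite (AdjoinRoot (minpoly F z)) := Module.finite_of_finite F
  have hinj := PSLnSinger.psi_injective z hn0
  have hk0 : k ≠ 0 := by
    rintro rfl
    rw [map_zero] at hk
    have h1 := x.det_coe
    rw [← hk, Matrix.det_zero] at h1
    exact zero_ne_one h1
  have hnorm : Algebra.norm F k = 1 := by
    rw [← PSLnSinger.det_psi z hn0 hdeg k, hk]
    exact x.det_coe
  have hkM : k ^ PSLnSinger.geom q n = 1 := by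
    have h1 := FiniteField.algebraMap_norm_eq_pow_sum F (AdjoinRoot (minpoly F z)) k
    rw [hnorm, map_one, PSLnSinger.finrank_adjoinRoot z hdeg, Nat.card_eq_fintype_card, ← hq] at h1
    exact h1.symm
  have hgpos : 0 < PSLnSinger.geom q n := PSLnSinger.geom_pos hn0
  have ho0 : 0 < orderOf k :=
    orderOf_pos_iff.2 (isOfFinOrder_iff_pow_eq_one.2 ⟨_, hgpos, hkM⟩)
  have ho : orderOf k ∣ PSLnSinger.geom q n := orderOf_dvd_of_pow_eq_one hkM
  have key : ∀ j : ℕ, orderOf k ∣ j * (q - 1) ↔ (q ^ m + 1) ∣ j := by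
    intro j
    rw [← hN, ← hord j, PSL3Spec.mk_pow_eq_one_iff, orderOf_dvd_iff_pow_eq_one]
    constructor
    · intro h
      have h2 : (k ^ j) ^ (Fintype.card F - 1) = 1 := by
        rw [← pow_mul, ← hq, h]
      obtain ⟨c, hc⟩ := PSL3Spec.exists_algebraMap_eq_of_pow_card_sub_one (F := F) h2
      refine ⟨c, ?_⟩
      rw [← hk, ← map_pow, ← hc, AlgHom.commutes, Algebra.algebraMap_eq_smul_one]
    · rintro ⟨c, hc⟩
      have h1 : k ^ j = algebraMap F _ c := by
        apply hinj
        rw [map_pow, hk, hc, AlgHom.commutes, Algebra.algebraMap_eq_smul_one]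
      have hc0 : c ≠ 0 := by
        rintro rfl
        rw [map_zero] at h1
        exact (pow_ne_zero j hk0) h1
      rw [pow_mul, h1, ← map_pow, hq, FiniteField.pow_card_sub_one_eq_one c hc0, map_one]
  exact PSLnSinger.padic_lt_of_order hq3 hodd hn (by omega) ho0 ho key

end nec

/-- Let q be an odd prime power, n ≥ 4 even, and L = PSL(n,q). Then L has an element of order q^(n/2) + 1 if and only if the 2-part of n exceeds the 2-part of q − 1. -/
theorem result {F : Type*} [Field F] [Fintype F] {q : ℕ} (hF : Fintype.card F = q) (hodd : Odd q)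
    {n : ℕ} (hn : 4 ≤ n) (heven : Even n) :
    (∃ g : Matrix.ProjectiveSpecialLinearGroup (Fin n) F, orderOf g = q ^ (n / 2) + 1) ↔
      padicValNat 2 (q - 1) < padicValNat 2 n := by
  subst hF
  obtain ⟨p, hchar⟩ := CharP.exists F
  haveI := hchar
  haveI : Fact p.Prime := ⟨CharP.char_is_prime F p⟩
  obtain ⟨m, hm⟩ := heven
  have hn2 : n = 2 * m := by omega
  have hm2 : n / 2 = m := by omega
  rw [hm2]
  have hq3 : 3 ≤ Fintype.card F := by
    have h1 : 1 < Fintype.card F := Fintype.one_lt_card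
    obtain ⟨t, ht⟩ := hodd
    omega
  constructor
  · rintro ⟨g, hg⟩
    exact padic_of_exists p hq3 hodd hn2 (by omega) g hg
  · intro hv
    exact exists_of_padic p hq3 hn2 (by omega) hv

end Cfsg.Agent.S2495
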