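import Mathlib
import Cfsg.Statements.S2496
import Cfsg.Agent.Lib.Helper12.PSLOrder
import Cfsg.Agent.Lib.Helper12.PSL3SpecExist
import Cfsg.Agent.Lib.Helper12.PSU3SpecExist
import Cfsg.Agent.Lib.Helper12.PSUnTorusArith
import Cfsg.Agent.Lib.Helper12.PSUnTorusField
import Cfsg.Agent.Lib.Helper15.Zsigmondy
import Cfsg.Agent.Lib.Helper12.PSUAdjArith

set_option autoImplicit false
set_option linter.style.haveILetI false
open Cfsg

namespace Cfsg.Agent.S2496

open Cfsg.Agent.Helper12 Polynomial Module Cfsg.Agent.Helper12.PSUnTorus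
  Cfsg.Agent.Helper13.SS Cfsg.Agent.Helper13.HermSS Cfsg.Agent.Helper13.SympSS
  Cfsg.Agent.Helper13.Dual Cfsg.Agent.Helper13.Uni

section suff
variable {F : Type*} [Field F] [Fintype F] {q : ℕ}

/-- sufficiency of the 2-adic condition -/
theorem exists_of_padic_U (hF : Fintype.card F = q ^ 2) (p : ℕ) [Fact p.Prime] [CharP F p]
    (hq3 : 3 ≤ q) (hodd : Odd q) {n m : ℕ} (hn : n = 2 * m) (hm : 2 ≤ m)
    (hv : padicValNat 2 (q + 1) < padicValNat 2 (2 * m)) :
    Even m ∧ ∃ g : Cfsg.PSU n F q, orderOf g = q ^ m + 1 := by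
  classical
  obtain ⟨hmeven, hdvd, hiff⟩ := order_of_padic_lt_U hq3 hodd (by omega) hv
  refine ⟨hmeven, ?_⟩
  obtain ⟨o, ho⟩ : ∃ o, o = (q ^ m + 1) * 2 ^ padicValNat 2 (q + 1) := ⟨_, rfl⟩
  rw [← ho] at hdvd hiff
  have hNo : q ^ m + 1 ∣ o := ho ▸ Dvd.intro _ rfl
  have ho1 : 1 ≤ o := by
    rw [ho]
    exact Nat.mul_pos (by omega) (pow_pos (by norm_num) _)
  haveI : NeZero m := ⟨by omega⟩
  have hodvd : o ∣ Fintype.card F ^ m - 1 := by
    rw [hF, ← pow_mul, ← add_one_mul_tor (by omega) m]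
    exact dvd_mul_of_dvd_right hdvd _
  obtain ⟨z, hz⟩ := exists_orderOf_units_extension (F := F) p m hodvd
  haveI : Finite (FiniteField.Extension F p m) := Module.finite_of_finite F
  have hfin : finrank F (FiniteField.Extension F p m) = m := FiniteField.finrank_extension F p m
  have hint : IsIntegral F (z : FiniteField.Extension F p m) := Algebra.IsIntegral.isIntegral _
  obtain ⟨μ, hμdef⟩ : ∃ μ, μ = minpoly F (z : FiniteField.Extension F p m) := ⟨_, rfl⟩
  have hirr : Irreducible μ := hμdef ▸ minpoly.irreducible hint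
  have hmon : μ.Monic := hμdef ▸ minpoly.monic hint
  have hdegle : μ.natDegree ≤ m := by
    rw [hμdef]
    exact (minpoly.natDegree_le _).trans hfin.le
  haveI : Fact (Irreducible μ) := ⟨hirr⟩
  obtain ⟨θ, hθ⟩ : ∃ θ : AdjoinRoot μ →ₐ[F] FiniteField.Extension F p m,
      θ (AdjoinRoot.root μ) = z :=
    ⟨AdjoinRoot.liftAlgHom μ (Algebra.ofId F _) z (by rw [hμdef]; exact minpoly.aeval F _),
      AdjoinRoot.liftAlgHom_root _ _ _ _⟩
  have hθinj : Function.Injective θ := θ.toRingHom.injective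
  have hroot_pow : ∀ j : ℕ, (AdjoinRoot.root μ) ^ j = 1 ↔ o ∣ j := by
    intro j
    rw [← hθinj.eq_iff, map_pow, hθ, map_one, ← hz, orderOf_dvd_iff_pow_eq_one,
      ← Units.val_pow_eq_pow_val, Units.val_eq_one]
  have hord : orderOf (AdjoinRoot.root μ) = o := PSL3Spec.orderOf_eq_of_pow_iff _ _ hroot_pow
  have hμM : μ ∣ X ^ o - 1 := by
    rw [← AdjoinRoot.mk_eq_zero, map_sub, map_pow, AdjoinRoot.mk_X, map_one,
      (hroot_pow o).2 dvd_rfl, sub_self]
  have hroot0 : AdjoinRoot.root μ ≠ 0 := by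
    intro h0
    have h1 := (hroot_pow o).2 dvd_rfl
    rw [h0, zero_pow (by omega)] at h1
    exact zero_ne_one h1
  have hdegm : μ.natDegree = m := by
    have h1 := PSL3Spec.card_adjoinRoot hirr _ hroot0
    rw [hroot_pow, hF, ← pow_mul] at h1
    exact eq_of_dvd_pow_sub_one (by omega) hirr.natDegree_pos hdegle (hNo.trans h1)
  letI := ZMod.algebra F p
  obtain ⟨σ, hσ, hσ2, hσ1⟩ := exists_frobAlg hF p
  have hσ' : ∀ x, (σ : F →+* F) x = x ^ q := hσ
  have hσ2' : ∀ x, (σ : F →+* F) ((σ : F →+* F) x) = x := hσ2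
  have hne : cdual o (σ : F →+* F) μ ≠ μ := by
    intro hcd
    obtain ⟨i, hi, hi2⟩ := pow_eq_one_of_cdual_eq_self hF p hσ' hσ2' hirr ho1 hμM hcd
    rw [hroot_pow, hF, ← pow_mul] at hi2
    rw [hdegm] at hi
    exact not_dvd_pow_add (by omega) hmeven hm hi (hNo.trans hi2)
  have hU := ureal_pair (σ := σ) hσ2 ho1 hirr hmon hμM
  have hdeg : (μ * cdual o (σ : F →+* F) μ).natDegree = n := by
    rw [hmon.natDegree_mul (cdual_monic hirr), natDegree_cdual ho1 hirr hmon hμM, hdegm, hn]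
    ring
  obtain ⟨g, hg1, hg2, hg3⟩ := hU.exists_matrix σ hσ hσ2 hσ1 n hdeg
  have hdet : g.det = 1 := by
    rw [det_eq_one_iff hF hodd hσ' hσ2' hirr hmon ho1 hμM g hg3, hdegm, hroot_pow]
    exact hdvd
  obtain ⟨y, hy⟩ := PSU3Spec.exists_PSU_of_matrix hF (⟨0, by omega⟩ : Fin n) g hdet hg1
  refine ⟨y, ?_⟩
  apply PSL3Spec.orderOf_eq_of_pow_iff
  intro j
  rw [hy j, pow_scalar_iff hF hσ' hσ2' hirr hmon ho1 hμM hne (by omega) g hg1 hg3 j, hord, hiff j]

end suff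

section arith

theorem ppd_dvd {q r D j : ℕ} (hD : 0 < D) (hrd : r ∣ q ^ D - 1)
    (hrp : ∀ k, 0 < k → k < D → ¬ r ∣ q ^ k - 1) (hj : r ∣ q ^ j - 1) : D ∣ j := by
  have h1 : r ∣ Nat.gcd (q ^ D - 1) (q ^ j - 1) := Nat.dvd_gcd hrd hj
  rw [Nat.pow_sub_one_gcd_pow_sub_one] at h1
  have hg0 : 0 < Nat.gcd D j := Nat.gcd_pos_of_pos_left _ hD
  have hgle : Nat.gcd D j ≤ D := Nat.gcd_le_left _ hD
  rcases Nat.lt_or_ge (Nat.gcd D j) D with h | h
  · exact absurd h1 (hrp _ hg0 h)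
  · have : Nat.gcd D j = D := le_antisymm hgle h
    exact Nat.gcd_eq_left_iff_dvd.1 this

theorem sq_pow_sub_one {q : ℕ} (hq : 1 ≤ q) (k : ℕ) :
    q ^ (2 * k) - 1 = (q ^ k - 1) * (q ^ k + 1) := by
  have h4 : 1 ≤ q ^ k := Nat.one_le_pow _ _ hq
  obtain ⟨s, hs⟩ : ∃ s, q ^ k = s + 1 := ⟨q ^ k - 1, by omega⟩
  rw [mul_comm 2 k, pow_mul, hs, Nat.add_sub_cancel]
  have : (s + 1) ^ 2 = s * (s + 1 + 1) + 1 := by ring
  rw [this, Nat.add_sub_cancel]

/-- the primitive prime divisor used in the necessity proof -/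
theorem exists_ppd {q m : ℕ} (hq3 : 3 ≤ q) (hodd : Odd q) (hm : 2 ≤ m) :
    ∃ r D : ℕ, r.Prime ∧ D = (if Even m then 2 * m else m) ∧ r ∣ q ^ D - 1 ∧
      (∀ k, 0 < k → k < D → ¬ r ∣ q ^ k - 1) ∧
      r ∣ (if Even m then q ^ m + 1 else q ^ m - 1) ∧ ¬ r ∣ q + 1 ∧ r ≠ 2 ∧ ¬ r ∣ q := by
  have hq1 : 1 ≤ q := by omega
  obtain ⟨D, hD⟩ : ∃ D, D = (if Even m then 2 * m else m) := ⟨_, rfl⟩
  have hD3 : 3 ≤ D := by
    rw [hD]
    split_ifs with h
    · omega
    · rcases Nat.lt_or_ge m 3 with h3 | h3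
      · exfalso
        apply h
        have : m = 2 := by omega
        rw [this]
        exact even_two
      · exact h3
  obtain ⟨r, hr, hrd, hrp⟩ := Cfsg.Agent.Helper15.Zsig.zsigmondy q D (by omega) (by omega)
    (by
      rintro ⟨h2, -⟩
      rw [h2] at hodd
      exact absurd hodd (by decide))
    (by
      rintro ⟨h2, -⟩
      omega)
  refine ⟨r, D, hr, hD, hrd, hrp, ?_, ?_, ?_, ?_⟩
  · split_ifs with h
    · rw [if_pos h] at hD
      rw [hD, sq_pow_sub_one hq1] at hrd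
      rcases (Nat.Prime.dvd_mul hr).1 hrd with h' | h'
      · exact absurd h' (hrp m (by omega) (by omega))
      · exact h'
    · rw [if_neg h] at hD
      rw [hD] at hrd
      exact hrd
  · intro h
    apply hrp 2 (by omega) (by omega)
    have := sq_pow_sub_one hq1 1
    rw [mul_one, pow_one] at this
    rw [this]
    exact dvd_mul_of_dvd_right h _
  · rintro rfl
    apply hrp 1 (by omega) (by omega)
    rw [pow_one]
    obtain ⟨t, ht⟩ := hodd
    exact ⟨t, by omega⟩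
  · intro h
    have h1 : r ∣ q ^ D := dvd_pow h (by omega)
    have h2 : 1 ≤ q ^ D := Nat.one_le_pow _ _ hq1
    have h3 : q ^ D = (q ^ D - 1) + 1 := by omega
    rw [h3] at h1
    have h4 := (Nat.dvd_add_right hrd).1 h1
    exact hr.one_lt.ne' (Nat.dvd_one.1 h4)

/-- the degree bound -/
theorem le_of_ppd {q m r D e : ℕ} (hm : 2 ≤ m) (hD : D = (if Even m then 2 * m else m))
    (hrd : r ∣ q ^ D - 1) (hrp : ∀ k, 0 < k → k < D → ¬ r ∣ q ^ k - 1) (he : 1 ≤ e)
    (h : r ∣ q ^ (2 * e) - 1) : m ≤ e := by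
  have hD0 : 0 < D := by
    rw [hD]
    split_ifs <;> omega
  have h1 := ppd_dvd hD0 hrd hrp h
  rw [hD] at h1
  split_ifs at h1 with hev
  · have : m ∣ e := Nat.dvd_of_mul_dvd_mul_left (by norm_num) h1
    exact Nat.le_of_dvd (by omega) this
  · have hodd : Odd m := Nat.not_even_iff_odd.1 hev
    have hcop : Nat.Coprime m 2 := Nat.coprime_two_right.2 hodd   
    have : m ∣ e := hcop.dvd_of_dvd_mul_left h1
    exact Nat.le_of_dvd (by omega) this

/-- no conjugate self-dual factor -/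
theorem not_dvd_of_ppd {q m r D i : ℕ} (hq : 1 ≤ q) (hm : 2 ≤ m) (hr : r.Prime)
    (hD : D = (if Even m then 2 * m else m))
    (hrd : r ∣ q ^ D - 1) (hrp : ∀ k, 0 < k → k < D → ¬ r ∣ q ^ k - 1)
    (hr1 : ¬ r ∣ q + 1) (hr2 : r ≠ 2) (hrq : ¬ r ∣ q) (h : r ∣ q ^ (2 * i) + q) : False := by
  have hD0 : 0 < D := by
    rw [hD]
    split_ifs <;> omega
  rcases Nat.eq_zero_or_pos i with rfl | hi
  · rw [mul_zero, pow_zero, add_comm] at h
    exact hr1 h
  obtain ⟨k, hk⟩ : ∃ k, 2 * i = k + 1 := ⟨2 * i - 1, by omega⟩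
  have hkodd : ¬ 2 ∣ k := by omega
  have h1 : q ^ (2 * i) + q = q * (q ^ k + 1) := by rw [hk]; ring
  rw [h1] at h
  have h2 : r ∣ q ^ k + 1 := ((Nat.Prime.dvd_mul hr).1 h).resolve_left hrq
  have h3 : r ∣ q ^ (2 * k) - 1 := by
    rw [sq_pow_sub_one hq]
    exact dvd_mul_of_dvd_right h2 _
  have h4 := ppd_dvd hD0 hrd hrp h3
  rw [hD] at h4
  split_ifs at h4 with hev
  · have h5 : m ∣ k := Nat.dvd_of_mul_dvd_mul_left (by norm_num) h4
    exact hkodd (hev.two_dvd.trans h5)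
  · have hodd : Odd m := Nat.not_even_iff_odd.1 hev
    have hcop : Nat.Coprime m 2 := Nat.coprime_two_right.2 hodd
    have h5 : m ∣ k := hcop.dvd_of_dvd_mul_left h4
    rw [if_neg hev] at hD
    rw [hD] at hrd
    obtain ⟨c, hc⟩ := h5
    have h6 : q ^ m - 1 ∣ q ^ k - 1 := by
      rw [hc, pow_mul]
      have := Nat.sub_dvd_pow_sub_pow (q ^ m) 1 c
      rwa [one_pow] at this
    have h7 : r ∣ q ^ k - 1 := hrd.trans h6
    have h8 : 1 ≤ q ^ k := Nat.one_le_pow _ _ hq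
    have h9 : q ^ k + 1 = (q ^ k - 1) + 2 := by omega
    rw [h9] at h2
    have h10 := (Nat.dvd_add_right h7).1 h2
    exact hr2 ((Nat.prime_dvd_prime_iff_eq hr Nat.prime_two).1 h10)


end arith

section factor

theorem exists_irreducible_factor_not_dvd {K : Type*} [Field K] {ν a : K[X]} (hν : Squarefree ν)
    (hνa : ¬ ν ∣ a) : ∃ μ : K[X], Irreducible μ ∧ μ.Monic ∧ μ ∣ ν ∧ ¬ μ ∣ a := by
  classical
  have hν0 : ν ≠ 0 := hν.ne_zero
  obtain ⟨c, hc⟩ := EuclideanDomain.gcd_dvd_left ν a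
  have hc0 : c ≠ 0 := by
    rintro rfl
    rw [mul_zero] at hc
    exact hν0 hc
  have hcu : ¬ IsUnit c := by
    intro hu
    apply hνa
    have h1 : ν ∣ EuclideanDomain.gcd ν a := by
      obtain ⟨u, hu'⟩ := hu
      refine ⟨(↑u⁻¹ : K[X]), ?_⟩
      conv_rhs => rw [hc, ← hu', mul_assoc, Units.mul_inv, mul_one]
    exact h1.trans (EuclideanDomain.gcd_dvd_right ν a)
  obtain ⟨g, hg, hgc⟩ := WfDvdMonoid.exists_irreducible_factor hcu hc0
  have hgν : g ∣ ν := by
    rw [hc]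
    exact dvd_mul_of_dvd_right hgc _
  refine ⟨normalize g, (normalize_associated g).symm.irreducible hg,
    Polynomial.monic_normalize hg.ne_zero, normalize_dvd_iff.2 hgν, ?_⟩
  intro h
  have hga : g ∣ a := normalize_dvd_iff.1 h
  have hgd : g ∣ EuclideanDomain.gcd ν a := EuclideanDomain.dvd_gcd hgν hga
  have hsq : g * g ∣ ν := by
    rw [hc]
    exact mul_dvd_mul hgd hgc
  exact hg.not_isUnit (hν g hsq)


end factor

section nec
variable {F : Type*} [Field F] [Fintype F] {q : ℕ}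

/-- necessity of the 2-adic condition -/
theorem padic_of_exists_U (hF : Fintype.card F = q ^ 2) (p : ℕ) [Fact p.Prime] [CharP F p]
    (hq3 : 3 ≤ q) (hodd : Odd q) {n m : ℕ} (hn : n = 2 * m) (hm : 2 ≤ m)
    (g : Cfsg.PSU n F q)
    (hg : orderOf g = if Even m then q ^ m + 1 else q ^ m - 1) :
    padicValNat 2 (q + 1) < padicValNat 2 (2 * m) := by
  classical
  have hp : p.Prime := Fact.out
  have hq1 : 1 ≤ q := by omega
  have hqm : 2 ≤ q ^ m := by
    calc 2 ≤ q := by omega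
      _ = q ^ 1 := (pow_one q).symm
      _ ≤ q ^ m := Nat.pow_le_pow_right hq1 (by omega)
  obtain ⟨N, hN⟩ : ∃ N, N = if Even m then q ^ m + 1 else q ^ m - 1 := ⟨_, rfl⟩
  rw [← hN] at hg
  have hn0 : 0 < n := by omega
  have hNpos : 0 < N := by
    rw [hN]
    split_ifs <;> omega
  obtain ⟨x, rfl⟩ := QuotientGroup.mk_surjective g
  obtain ⟨G, hG⟩ : ∃ G : Matrix (Fin n) (Fin n) F,
      G = ((x : Matrix.SpecialLinearGroup (Fin n) F) : Matrix (Fin n) (Fin n) F) := ⟨_, rfl⟩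
  have hGpres : Pres q G := by
    rw [hG]
    exact fun u v => x.2 u v
  have hGdet : G.det = 1 := by
    rw [hG]
    exact (x : Matrix.SpecialLinearGroup (Fin n) F).det_coe
  have hord : ∀ j : ℕ, (∃ c : F, G ^ j = c • (1 : Matrix (Fin n) (Fin n) F)) ↔ N ∣ j := by
    intro j
    rw [hG, ← PSU3Spec.mk_pow_eq_one_iff_U hF ⟨0, hn0⟩ x j, ← hg]
    exact orderOf_dvd_iff_pow_eq_one.symm
  -- the exponent
  obtain ⟨c0, hc0⟩ := (hord N).2 dvd_rfl
  have hc0n : c0 ^ (q + 1) = 1 :=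
    scalar_norm_of_pres hn0 (by rw [← hc0]; exact pres_pow hGpres N)
  obtain ⟨M, hMdef⟩ : ∃ M, M = N * (q + 1) := ⟨_, rfl⟩
  have hM : 1 ≤ M := by
    rw [hMdef]
    exact Nat.mul_pos hNpos (by omega)
  have hGM : G ^ M = 1 := by
    rw [hMdef, pow_mul, hc0, _root_.smul_pow, one_pow, hc0n, one_smul]
  -- the primitive prime divisor
  obtain ⟨r, D, hr, hD, hrd, hrp, hrN, hrq1, hr2, hrq⟩ := exists_ppd hq3 hodd hm
  rw [← hN] at hrN
  obtain ⟨t, ht⟩ := hrN
  obtain ⟨M', hM'⟩ : ∃ M', M' = t * (q + 1) := ⟨_, rfl⟩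
  have hMM' : M = r * M' := by rw [hMdef, hM', ht, mul_assoc]
  have htpos : 0 < t := by
    rcases Nat.eq_zero_or_pos t with h | h
    · rw [h, mul_zero] at ht
      omega
    · exact h
  have hGM' : G ^ M' ≠ 1 := by
    intro h1
    have h2 : N ∣ M' := (hord M').1 ⟨1, by rw [h1, one_smul]⟩
    rw [hM', ht, mul_comm r t] at h2
    exact hrq1 (Nat.dvd_of_mul_dvd_mul_left htpos h2)
  -- the minimal polynomial
  have hpM : ¬ p ∣ M := by
    intro h
    have hpq : p ∣ q := PSUAdj.char_dvd_q hF p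
    rw [hMdef] at h
    rcases (Nat.Prime.dvd_mul hp).1 h with h1 | h1
    · have h2 : p ∣ q ^ m := dvd_pow hpq (by omega)
      rw [hN] at h1
      split_ifs at h1
      · have h3 := (Nat.dvd_add_right h2).1 h1
        exact hp.one_lt.ne' (Nat.dvd_one.1 h3)
      · have h4 : q ^ m = (q ^ m - 1) + 1 := by omega
        rw [h4] at h2
        have h3 := (Nat.dvd_add_right h1).1 h2
        exact hp.one_lt.ne' (Nat.dvd_one.1 h3)
    · have h3 := (Nat.dvd_add_right hpq).1 h1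
      exact hp.one_lt.ne' (Nat.dvd_one.1 h3)
  have hMF : ((M : ℕ) : F) ≠ 0 := by
    intro h0
    exact hpM ((CharP.cast_eq_zero_iff F p M).1 h0)
  have hsq : Squarefree (X ^ M - 1 : F[X]) := by
    have := (separable_X_pow_sub_C (1 : F) hMF one_ne_zero).squarefree
    rwa [map_one] at this
  have hνM : minpoly F G ∣ X ^ M - 1 := by
    apply minpoly.dvd
    rw [map_sub, map_pow, aeval_X, map_one, hGM, sub_self]
  have hνM' : ¬ minpoly F G ∣ X ^ M' - 1 := by
    rintro ⟨b, hb⟩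
    apply hGM'
    have h1 := congrArg (aeval G) hb
    rw [map_mul, minpoly.aeval, zero_mul, map_sub, map_pow, aeval_X, map_one] at h1
    exact sub_eq_zero.1 h1
  obtain ⟨μ, hirr, hmon, hμν, hμM'⟩ :=
    exists_irreducible_factor_not_dvd (hsq.squarefree_of_dvd hνM) hνM'
  haveI : Fact (Irreducible μ) := ⟨hirr⟩
  have hμM : μ ∣ X ^ M - 1 := hμν.trans hνM
  have hμχ : μ ∣ G.charpoly := hμν.trans (Matrix.minpoly_dvd_charpoly G)
  -- the order of the root
  obtain ⟨ξ, hξ⟩ : ∃ ξ, ξ = AdjoinRoot.root μ := ⟨_, rfl⟩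
  have hξM : ξ ^ M = 1 := by rw [hξ]; exact root_pow_eq_one hμM
  have hξM' : ξ ^ M' ≠ 1 := by
    intro h1
    apply hμM'
    rw [← AdjoinRoot.mk_eq_zero, map_sub, map_pow, AdjoinRoot.mk_X, map_one, ← hξ, h1, sub_self]
  have hξ0 : ξ ≠ 0 := by
    intro h0
    rw [h0, zero_pow (by omega)] at hξM
    exact zero_ne_one hξM
  have ho0 : 0 < orderOf ξ := orderOf_pos_iff.2 (isOfFinOrder_iff_pow_eq_one.2 ⟨M, hM, hξM⟩)
  have hro : r ∣ orderOf ξ := by
    by_contra hnd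
    have hcop : Nat.Coprime (orderOf ξ) r := ((Nat.Prime.coprime_iff_not_dvd hr).2 hnd).symm
    have h1 : orderOf ξ ∣ r * M' := hMM' ▸ orderOf_dvd_of_pow_eq_one hξM
    exact hξM' (orderOf_dvd_iff_pow_eq_one.1 (hcop.dvd_of_dvd_mul_left h1))
  have hcardpow : ∀ i : ℕ, Fintype.card F ^ i = q ^ (2 * i) := by
    intro i
    rw [hF, ← pow_mul]
  have hem : m ≤ μ.natDegree := by
    apply le_of_ppd hm hD hrd hrp hirr.natDegree_pos
    have h1 := PSL3Spec.card_adjoinRoot hirr ξ hξ0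
    rw [hcardpow] at h1
    exact hro.trans (orderOf_dvd_of_pow_eq_one h1)
  -- the conjugate dual factor
  letI := ZMod.algebra F p
  obtain ⟨σ, hσ, hσ2, hσ1⟩ := exists_frobAlg hF p
  have hσ' : ∀ x, (σ : F →+* F) x = x ^ q := hσ
  have hσ2' : ∀ x, (σ : F →+* F) ((σ : F →+* F) x) = x := hσ2
  have hcpal : CPal (σ : F →+* F) G.charpoly := by
    apply cpal_charpoly
    rw [Cfsg.Agent.Helper11.Herm.isU_iff_preserves]
    intro u v
    rw [← Cfsg.Agent.Helper11.Herm.hermForm_eq_hdot (σ : F →+* F) hσ',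
      ← Cfsg.Agent.Helper11.Herm.hermForm_eq_hdot (σ : F →+* F) hσ']
    exact hGpres u v
  have hμ'χ : cdual M (σ : F →+* F) μ ∣ G.charpoly :=
    cdual_dvd_of_cpal hσ2' hM hirr hμM hcpal hμχ
  have hne : cdual M (σ : F →+* F) μ ≠ μ := by
    intro hcd
    obtain ⟨i, -, hi2⟩ := pow_eq_one_of_cdual_eq_self hF p hσ' hσ2' hirr hM hμM hcd
    rw [← hξ, hcardpow] at hi2
    exact not_dvd_of_ppd hq1 hm hr hD hrd hrp hrq1 hr2 hrq
      (hro.trans (orderOf_dvd_of_pow_eq_one hi2))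
  have hcop : IsCoprime μ (cdual M (σ : F →+* F) μ) :=
    coprime_of_monic_irreducible hirr (cdual_irreducible hσ2' hirr) hmon (cdual_monic hirr)
      (Ne.symm hne)
  have hprod : μ * cdual M (σ : F →+* F) μ ∣ G.charpoly := hcop.mul_dvd hμχ hμ'χ
  have hdegprod : (μ * cdual M (σ : F →+* F) μ).natDegree = 2 * μ.natDegree := by
    rw [hmon.natDegree_mul (cdual_monic hirr), natDegree_cdual hM hirr hmon hμM]
    ring
  have hdegχ : G.charpoly.natDegree = n := by
    rw [Matrix.charpoly_natDegree_eq_dim, Fintype.card_fin]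
  have hdegle : 2 * μ.natDegree ≤ n := by
    rw [← hdegprod, ← hdegχ]
    exact natDegree_le_of_dvd hprod (Matrix.charpoly_monic G).ne_zero
  have hdegm : μ.natDegree = m := by omega
  have hchar : G.charpoly = μ * cdual M (σ : F →+* F) μ :=
    Polynomial.eq_of_monic_of_dvd_of_natDegree_le (hmon.mul (cdual_monic hirr))
      (Matrix.charpoly_monic G) hprod (by rw [hdegprod, hdegχ, hdegm, hn])
  -- conclusion
  have hdetξ := (det_eq_one_iff hF hodd hσ' hσ2' hirr hmon hM hμM G hchar).1 hGdet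
  rw [hdegm, ← hξ] at hdetξ
  have ho : orderOf ξ ∣ tor q m := orderOf_dvd_of_pow_eq_one hdetξ
  have key : ∀ j : ℕ, N ∣ j ↔ orderOf ξ ∣ j * (q + 1) := by
    intro j
    rw [← hord j, pow_scalar_iff hF hσ' hσ2' hirr hmon hM hμM hne hn0 G hGpres hchar j, hξ]
  exact padic_lt_of_order_U hq3 hodd hm ho0 ho (by rw [← hN]; exact key)

end nec

/-- Let q be an odd prime power, n ≥ 4 even, and U = PSU(n,q) (realised over the field with q² elements). Then U has an element of order q^(n/2) + (−1)^(n/2) — that is, q^(n/2) + 1 when n/2 is even and q^(n/2) − 1 when n/2 is odd — if and only if the 2-part of n exceeds the 2-part of q + 1. -/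
theorem result {F : Type*} [Field F] [Fintype F] {q : ℕ} (hF : Fintype.card F = q ^ 2) (hodd : Odd q)
    {n : ℕ} (hn : 4 ≤ n) (heven : Even n) :
    (∃ g : Cfsg.PSU n F q, orderOf g = if Even (n / 2) then q ^ (n / 2) + 1 else q ^ (n / 2) - 1) ↔
      padicValNat 2 (q + 1) < padicValNat 2 n := by
  obtain ⟨p, hchar⟩ := CharP.exists F
  haveI := hchar
  haveI : Fact p.Prime := ⟨CharP.char_is_prime F p⟩
  obtain ⟨m, hm⟩ := heven
  have hn2 : n = 2 * m := by omega
  have hm2 : n / 2 = m := by omega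
  rw [hm2]
  have hq3 : 3 ≤ q := by
    have h1 : 1 < Fintype.card F := Fintype.one_lt_card
    rw [hF] at h1
    have h2 : q ≠ 0 := by
      rintro rfl
      simp at h1
    have h3 : q ≠ 1 := by
      rintro rfl
      simp at h1
    obtain ⟨t, ht⟩ := hodd
    omega
  constructor
  · rintro ⟨g, hg⟩
    rw [hn2]
    exact padic_of_exists_U hF p hq3 hodd hn2 (by omega) g hg
  · intro hv
    rw [hn2] at hv
    obtain ⟨hmeven, g, hg⟩ := exists_of_padic_U hF p hq3 hodd hn2 (by omega) hv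
    exact ⟨g, by rw [if_pos hmeven]; exact hg⟩

end Cfsg.Agent.S2496
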