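import Mathlib
import Cfsg.Statements.S2503
import Cfsg.Agent.S2507

set_option autoImplicit false
open Cfsg

namespace Cfsg.Agent.S2503

open Matrix Cfsg.Agent.Helper12

section
variable {F : Type*} [Field F] [CharP F 2]

/-- the norm form -/
def Qf (t x y : F) : F := x * x + t * x * y + y * y

/-- elements `x + y M₀` of the non-split torus, as matrices -/
def torM (t x y : F) : Matrix (Fin 2) (Fin 2) F := !![x, y; y, x + t * y]

theorem det_torM (t x y : F) : (torM t x y).det = Qf t x y := by
  rw [torM, Matrix.det_fin_two_of, Qf]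
  linear_combination (-(y * y)) * (CharTwo.two_eq_zero (R := F))

omit [CharP F 2] in
theorem torM_mul (t x y x' y' : F) :
    torM t x y * torM t x' y' = torM t (x * x' + y * y') (x * y' + x' * y + t * y * y') := by
  ext i j
  fin_cases i <;> fin_cases j <;> simp [torM, Matrix.mul_apply, Fin.sum_univ_two] <;> ring

theorem torM_eq (t x y : F) :
    torM t x y = x • (1 : Matrix (Fin 2) (Fin 2) F) +
      y • ((S2507.comp t : SpecialLinearGroup (Fin 2) F) : Matrix (Fin 2) (Fin 2) F) := by
  ext i j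
  fin_cases i <;> fin_cases j <;> simp [torM, S2507.comp] <;> ring

omit [CharP F 2] in
/-- no roots implies the norm form is anisotropic -/
theorem Qf_ne_zero (t : F) (ht : ∀ r : F, r * r + t * r + 1 ≠ 0) (x y : F) (h : x ≠ 0 ∨ y ≠ 0) :
    Qf t x y ≠ 0 := by
  intro hQ
  by_cases hy : y = 0
  · subst hy
    simp only [Qf, mul_zero, add_zero] at hQ
    rcases h with h | h
    · exact h (mul_self_eq_zero.1 hQ)
    · exact h rfl
  · apply ht (x / y)
    have : x / y * (x / y) + t * (x / y) + 1 = Qf t x y / (y * y) := by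
      rw [Qf]; field_simp
    rw [this, hQ, zero_div]

/-- the torus elements in `SL₂` -/
def torS (t x y : F) (h : Qf t x y = 1) : SpecialLinearGroup (Fin 2) F :=
  ⟨torM t x y, by rw [det_torM, h]⟩

theorem torS_coe (t x y : F) (h : Qf t x y = 1) :
    ((torS t x y h : SpecialLinearGroup (Fin 2) F) : Matrix (Fin 2) (Fin 2) F) = torM t x y := rfl

theorem mem_centralizer_iff (t : F) (g : SpecialLinearGroup (Fin 2) F) :
    g ∈ Subgroup.centralizer ({S2507.comp t} : Set (SpecialLinearGroup (Fin 2) F)) ↔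
      ∃ x y : F, (g : Matrix (Fin 2) (Fin 2) F) = torM t x y := by
  rw [Subgroup.mem_centralizer_singleton_iff]
  constructor
  · intro h
    have hm : (g : Matrix (Fin 2) (Fin 2) F) * ((S2507.comp t : SpecialLinearGroup (Fin 2) F) : Matrix (Fin 2) (Fin 2) F) =
        ((S2507.comp t : SpecialLinearGroup (Fin 2) F) : Matrix (Fin 2) (Fin 2) F) * (g : Matrix (Fin 2) (Fin 2) F) :=
      congrArg (fun z : SpecialLinearGroup (Fin 2) F => (z : Matrix (Fin 2) (Fin 2) F)) h
    obtain ⟨x, y, hxy⟩ := (commute_iff_exists_smul _ _ (S2507.comp_not_scalar t)).1 hm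
    exact ⟨x, y, by rw [hxy, torM_eq]⟩
  · rintro ⟨x, y, hxy⟩
    apply Subtype.ext
    change (g : Matrix (Fin 2) (Fin 2) F) * ((S2507.comp t : SpecialLinearGroup (Fin 2) F) : Matrix (Fin 2) (Fin 2) F) =
        ((S2507.comp t : SpecialLinearGroup (Fin 2) F) : Matrix (Fin 2) (Fin 2) F) * (g : Matrix (Fin 2) (Fin 2) F)
    rw [hxy, torM_eq, add_mul, mul_add]
    simp

theorem torS_mem (t x y : F) (h : Qf t x y = 1) :
    torS t x y h ∈ Subgroup.centralizer ({S2507.comp t} : Set (SpecialLinearGroup (Fin 2) F)) :=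
  (mem_centralizer_iff t _).2 ⟨x, y, rfl⟩

/-- normalisation: a nonzero pair can be scaled to norm one (finite field, char 2) -/
theorem exists_normalize [Finite F] (t : F) (ht : ∀ r : F, r * r + t * r + 1 ≠ 0) (x y : F)
    (h : x ≠ 0 ∨ y ≠ 0) : ∃ s : F, s ≠ 0 ∧ Qf t (x / s) (y / s) = 1 := by
  obtain ⟨s, hs⟩ := FiniteField.isSquare_of_char_two (ringChar.eq F 2) (Qf t x y)
  have hQ := Qf_ne_zero t ht x y h
  have hs0 : s ≠ 0 := by
    rintro rfl
    rw [mul_zero] at hs
    exact hQ hs
  refine ⟨s, hs0, ?_⟩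
  have : Qf t (x / s) (y / s) = Qf t x y / (s * s) := by
    simp only [Qf]; field_simp
  rw [this, ← hs, div_self]
  rw [hs]; exact mul_ne_zero hs0 hs0

end

/-! ### The torus is cyclic -/

section cyclic
open Polynomial
variable {F : Type*} [Field F] [CharP F 2]

/-- the quadratic `X² + tX + 1` -/
noncomputable def μpoly (t : F) : F[X] := C 1 * X ^ 2 + C t * X + C 1

omit [CharP F 2] in
theorem μpoly_natDegree (t : F) : (μpoly t).natDegree = 2 :=
  Polynomial.natDegree_quadratic one_ne_zero

omit [CharP F 2] in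
theorem μpoly_irreducible (t : F) (ht : ∀ r : F, r * r + t * r + 1 ≠ 0) : Irreducible (μpoly t) := by
  apply Polynomial.irreducible_of_degree_le_three_of_not_isRoot
  · rw [μpoly_natDegree]; decide
  · intro x hx
    apply ht x
    have : eval x (μpoly t) = x * x + t * x + 1 := by
      simp only [μpoly, eval_add, eval_mul, eval_C, eval_pow, eval_X]; ring
    rw [← this]; exact hx

omit [CharP F 2] in
theorem μpoly_eval₂ {K : Type*} [CommRing K] (φ : F →+* K) (r : K) (t : F) :
    (μpoly t).eval₂ φ r = r * r + φ t * r + 1 := by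
  simp only [μpoly, eval₂_add, eval₂_mul, eval₂_C, eval₂_pow, eval₂_X]
  rw [map_one]
  ring

theorem torus_isCyclic [Finite F] (t : F) (ht : ∀ r : F, r * r + t * r + 1 ≠ 0) :
    IsCyclic (Subgroup.centralizer ({S2507.comp t} : Set (SpecialLinearGroup (Fin 2) F))) := by
  have : Fact (Irreducible (μpoly t)) := ⟨μpoly_irreducible t ht⟩
  let K := AdjoinRoot (μpoly t)
  let o : F →+* K := AdjoinRoot.of (μpoly t)
  let r : K := AdjoinRoot.root (μpoly t)
  have hoinj : Function.Injective o := o.injective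
  have : CharP K 2 := charP_of_injective_ringHom hoinj 2
  have hrel : r * r + o t * r + 1 = 0 := by
    have := AdjoinRoot.eval₂_root (μpoly t)
    rw [μpoly_eval₂] at this
    exact this
  have h2 : (2 : K) = 0 := CharTwo.two_eq_zero
  -- the map
  let ψ : Subgroup.centralizer ({S2507.comp t} : Set (SpecialLinearGroup (Fin 2) F)) →* K :=
    { toFun := fun g => o ((g : SpecialLinearGroup (Fin 2) F) 0 0) + o ((g : SpecialLinearGroup (Fin 2) F) 0 1) * r
      map_one' := by
        show o ((1 : SpecialLinearGroup (Fin 2) F) 0 0) + o ((1 : SpecialLinearGroup (Fin 2) F) 0 1) * r = 1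
        simp
      map_mul' := by
        rintro ⟨g, hg⟩ ⟨g', hg'⟩
        obtain ⟨x, y, hxy⟩ := (mem_centralizer_iff t g).1 hg
        obtain ⟨x', y', hxy'⟩ := (mem_centralizer_iff t g').1 hg'
        have hprod : ((g * g' : SpecialLinearGroup (Fin 2) F) : Matrix (Fin 2) (Fin 2) F) =
            torM t (x * x' + y * y') (x * y' + x' * y + t * y * y') := by
          rw [Matrix.SpecialLinearGroup.coe_mul, hxy, hxy', torM_mul]
        show o ((g * g' : SpecialLinearGroup (Fin 2) F) 0 0) + o ((g * g' : SpecialLinearGroup (Fin 2) F) 0 1) * r =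
          (o (g 0 0) + o (g 0 1) * r) * (o (g' 0 0) + o (g' 0 1) * r)
        have e1 : (g * g' : SpecialLinearGroup (Fin 2) F) 0 0 = x * x' + y * y' := by
          have := congrFun (congrFun hprod 0) 0
          simpa [torM] using this
        have e2 : (g * g' : SpecialLinearGroup (Fin 2) F) 0 1 = x * y' + x' * y + t * y * y' := by
          have := congrFun (congrFun hprod 0) 1
          simpa [torM] using this
        have e3 : g 0 0 = x := by have := congrFun (congrFun hxy 0) 0; simpa [torM] using this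
        have e4 : g 0 1 = y := by have := congrFun (congrFun hxy 0) 1; simpa [torM] using this
        have e5 : g' 0 0 = x' := by have := congrFun (congrFun hxy' 0) 0; simpa [torM] using this
        have e6 : g' 0 1 = y' := by have := congrFun (congrFun hxy' 0) 1; simpa [torM] using this
        rw [e1, e2, e3, e4, e5, e6]
        simp only [map_add, map_mul]
        linear_combination (-(o y * o y')) * hrel + (o y * o y' * (o t * r + 1)) * h2 }
  have hψ : ∀ g : Subgroup.centralizer ({S2507.comp t} : Set (SpecialLinearGroup (Fin 2) F)),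
      ψ g = o ((g : SpecialLinearGroup (Fin 2) F) 0 0) + o ((g : SpecialLinearGroup (Fin 2) F) 0 1) * r :=
    fun _ => rfl
  have hinj : Function.Injective ψ := by
    rintro ⟨g, hg⟩ ⟨g', hg'⟩ h
    obtain ⟨x, y, hxy⟩ := (mem_centralizer_iff t g).1 hg
    obtain ⟨x', y', hxy'⟩ := (mem_centralizer_iff t g').1 hg'
    rw [hψ, hψ] at h
    have e3 : g 0 0 = x := by have := congrFun (congrFun hxy 0) 0; simpa [torM] using this
    have e4 : g 0 1 = y := by have := congrFun (congrFun hxy 0) 1; simpa [torM] using this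
    have e5 : g' 0 0 = x' := by have := congrFun (congrFun hxy' 0) 0; simpa [torM] using this
    have e6 : g' 0 1 = y' := by have := congrFun (congrFun hxy' 0) 1; simpa [torM] using this
    simp only [e3, e4, e5, e6] at h
    have hy : y = y' := by
      by_contra hne
      have hne' : y - y' ≠ 0 := sub_ne_zero.2 hne
      have hone : o (y - y') ≠ 0 := fun h0 => hne' (hoinj (by rw [h0, map_zero]))
      -- r lies in the image of F
      have hr : r = o ((x' - x) / (y - y')) := by
        rw [map_div₀, eq_div_iff hone, map_sub, map_sub]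
        linear_combination h
      apply ht ((x' - x) / (y - y'))
      apply hoinj
      rw [map_zero, map_add, map_add, map_mul, map_mul, map_one, ← hr]
      exact hrel
    subst hy
    have hx : x = x' := hoinj (add_right_cancel h)
    subst hx
    apply Subtype.ext
    apply Subtype.ext
    rw [hxy, hxy']
  exact isCyclic_of_injective_ringHom ψ hinj

end cyclic

/-! ### The unipotent group `B` -/

section unip
variable {F : Type*} [Field F] [CharP F 2]

/-- upper unitriangular matrices -/
def ub (u : F) : SpecialLinearGroup (Fin 2) F :=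
  ⟨!![1, u; 0, 1], by simp [Matrix.det_fin_two_of]⟩

omit [CharP F 2] in
theorem ub_coe (u : F) : ((ub u : SpecialLinearGroup (Fin 2) F) : Matrix (Fin 2) (Fin 2) F) = !![1, u; 0, 1] := rfl

omit [CharP F 2] in
theorem ub_add (u v : F) : ub (u + v) = ub u * ub v := by
  apply Subtype.ext
  rw [Matrix.SpecialLinearGroup.coe_mul, ub_coe, ub_coe, ub_coe]
  ext i j
  fin_cases i <;> fin_cases j <;> simp [Matrix.mul_apply, Fin.sum_univ_two, add_comm]

omit [CharP F 2] in
theorem ub_zero : ub (0 : F) = 1 := by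
  apply Subtype.ext
  rw [ub_coe, Matrix.SpecialLinearGroup.coe_one]
  ext i j
  fin_cases i <;> fin_cases j <;> simp

omit [CharP F 2] in
theorem ub_injective : Function.Injective (ub : F → SpecialLinearGroup (Fin 2) F) := by
  intro u v h
  have := congrArg (fun g : SpecialLinearGroup (Fin 2) F => (g : Matrix (Fin 2) (Fin 2) F) 0 1) h
  simpa [ub_coe] using this

/-- the group `B` -/
def Bsub (F : Type*) [Field F] : Subgroup (SpecialLinearGroup (Fin 2) F) where
  carrier := Set.range ub
  one_mem' := ⟨0, ub_zero⟩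
  mul_mem' := by
    rintro _ _ ⟨u, rfl⟩ ⟨v, rfl⟩
    exact ⟨u + v, ub_add u v⟩
  inv_mem' := by
    rintro _ ⟨u, rfl⟩
    refine ⟨-u, ?_⟩
    rw [eq_inv_iff_mul_eq_one, ← ub_add, neg_add_cancel, ub_zero]

omit [CharP F 2] in
theorem mem_Bsub (g : SpecialLinearGroup (Fin 2) F) : g ∈ Bsub F ↔ ∃ u, ub u = g := Iff.rfl

omit [CharP F 2] in
theorem Bsub_comm : IsMulCommutative (Bsub F) := by
  refine ⟨⟨?_⟩⟩
  rintro ⟨_, u, rfl⟩ ⟨_, v, rfl⟩
  apply Subtype.ext
  show ub u * ub v = ub v * ub u
  rw [← ub_add, ← ub_add, add_comm]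

theorem Bsub_sq (b : SpecialLinearGroup (Fin 2) F) (hb : b ∈ Bsub F) : b * b = 1 := by
  obtain ⟨u, rfl⟩ := hb
  rw [← ub_add, CharTwo.add_self_eq_zero, ub_zero]

omit [CharP F 2] in
theorem card_Bsub [Fintype F] : Nat.card (Bsub F) = Fintype.card F := by
  rw [← Nat.card_eq_fintype_card]
  symm
  apply Nat.card_eq_of_bijective (fun u : F => (⟨ub u, u, rfl⟩ : Bsub F))
  constructor
  · intro u v h
    exact ub_injective (congrArg Subtype.val h)
  · rintro ⟨_, u, rfl⟩
    exact ⟨u, rfl⟩

end unip

/-! ### The decomposition -/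

section aba
variable {F : Type*} [Field F] [CharP F 2]

omit [CharP F 2] in
theorem trace_mul_torM (t x y : F) (G : Matrix (Fin 2) (Fin 2) F) :
    (G * torM t x y).trace = x * G.trace + y * (G * torM t 0 1).trace := by
  simp only [Matrix.trace_fin_two, Matrix.mul_apply, Fin.sum_univ_two, torM, Matrix.of_apply,
    Matrix.cons_val', Matrix.cons_val_zero, Matrix.cons_val_one, Matrix.cons_val_fin_one]
  ring

theorem exists_trace_zero (t : F) (G : Matrix (Fin 2) (Fin 2) F) :
    ∃ x y : F, (x ≠ 0 ∨ y ≠ 0) ∧ x * G.trace + y * (G * torM t 0 1).trace = 0 := by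
  by_cases h : G.trace = 0
  · exact ⟨1, 0, Or.inl one_ne_zero, by rw [h]; ring⟩
  · refine ⟨(G * torM t 0 1).trace, G.trace, Or.inr h, ?_⟩
    linear_combination ((G * torM t 0 1).trace * G.trace) * (CharTwo.two_eq_zero (R := F))

/-- an element of trace zero is conjugate under the torus to an element of `B` -/
theorem invol_conj [Finite F] (t : F) (ht : ∀ r : F, r * r + t * r + 1 ≠ 0)
    (i : SpecialLinearGroup (Fin 2) F) (hi : (i : Matrix (Fin 2) (Fin 2) F).trace = 0) :
    ∃ a ∈ Subgroup.centralizer ({S2507.comp t} : Set (SpecialLinearGroup (Fin 2) F)),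
      ∃ b ∈ Bsub F, i = a * b * a⁻¹ := by
  set I : Matrix (Fin 2) (Fin 2) F := (i : Matrix (Fin 2) (Fin 2) F) with hI
  have hdet : I.det = 1 := i.det_coe
  have hII : I * I = 1 := by
    rw [sq_eq2, hi, zero_smul, hdet, one_smul, zero_sub]
    exact CharTwo.neg_eq (1 : Matrix (Fin 2) (Fin 2) F)
  set N : Matrix (Fin 2) (Fin 2) F := I - 1 with hN
  have hNN : N * N = 0 := by
    have e : N * N = I * I - (I + I) + 1 := by rw [hN]; noncomm_ring
    rw [e, hII, CharTwo.add_self_eq_zero, sub_zero, CharTwo.add_self_eq_zero]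
  by_cases hN0 : N = 0
  · have hi1 : i = 1 := by
      apply Subtype.ext
      exact sub_eq_zero.1 hN0
    exact ⟨1, Subgroup.one_mem _, 1, Subgroup.one_mem _, by rw [hi1]; group⟩
  · -- a non-zero column of N
    obtain ⟨k, j, hkj⟩ : ∃ k j, N k j ≠ 0 := by
      by_contra hcon
      push Not at hcon
      exact hN0 (Matrix.ext hcon)
    set v : Fin 2 → F := fun l => N l j with hv
    have hNv : N *ᵥ v = 0 := by
      ext l
      have := congrFun (congrFun hNN l) j
      simpa [Matrix.mulVec, dotProduct, Matrix.mul_apply, hv] using this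
    have hv0 : v 0 ≠ 0 ∨ v 1 ≠ 0 := by
      fin_cases k
      · exact Or.inl hkj
      · exact Or.inr hkj
    obtain ⟨s, hs0, hs⟩ := exists_normalize t ht (v 0) (v 1) hv0
    set a : SpecialLinearGroup (Fin 2) F := torS t (v 0 / s) (v 1 / s) hs with ha
    have haA : a ∈ Subgroup.centralizer ({S2507.comp t} : Set (SpecialLinearGroup (Fin 2) F)) :=
      torS_mem t _ _ hs
    set e0 : Fin 2 → F := Pi.single 0 1 with he0
    set w : Fin 2 → F := s⁻¹ • v with hw
    have hae0 : (a : Matrix (Fin 2) (Fin 2) F) *ᵥ e0 = w := by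
      rw [he0, Matrix.mulVec_single_one, ha, torS_coe]
      ext l
      fin_cases l <;> simp [torM, hw, div_eq_inv_mul]
    have hNw : N *ᵥ w = 0 := by rw [hw, Matrix.mulVec_smul, hNv, smul_zero]
    have hIw : I *ᵥ w = w := by
      have : I = 1 + N := by rw [hN]; abel
      rw [this, Matrix.add_mulVec, Matrix.one_mulVec, hNw, add_zero]
    set b : SpecialLinearGroup (Fin 2) F := a⁻¹ * i * a with hb
    have hainv : ((a⁻¹ : SpecialLinearGroup (Fin 2) F) : Matrix (Fin 2) (Fin 2) F) * (a : Matrix (Fin 2) (Fin 2) F) = 1 := by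
      rw [← Matrix.SpecialLinearGroup.coe_mul, inv_mul_cancel, Matrix.SpecialLinearGroup.coe_one]
    have hbe0 : (b : Matrix (Fin 2) (Fin 2) F) *ᵥ e0 = e0 := by
      rw [hb, Matrix.SpecialLinearGroup.coe_mul, Matrix.SpecialLinearGroup.coe_mul,
        ← Matrix.mulVec_mulVec, ← Matrix.mulVec_mulVec, hae0, ← hI, hIw, ← hae0,
        Matrix.mulVec_mulVec, hainv, Matrix.one_mulVec]
    have hb00 : (b : Matrix (Fin 2) (Fin 2) F) 0 0 = 1 := by
      have := congrFun hbe0 0
      rw [he0, Matrix.mulVec_single_one] at this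
      simpa using this
    have hb10 : (b : Matrix (Fin 2) (Fin 2) F) 1 0 = 0 := by
      have := congrFun hbe0 1
      rw [he0, Matrix.mulVec_single_one] at this
      simpa using this
    have hb11 : (b : Matrix (Fin 2) (Fin 2) F) 1 1 = 1 := by
      have := b.det_coe
      rw [Matrix.det_fin_two, hb00, hb10, mul_zero, sub_zero, one_mul] at this
      exact this
    have hbB : b ∈ Bsub F := by
      refine ⟨(b : Matrix (Fin 2) (Fin 2) F) 0 1, ?_⟩
      apply Subtype.ext
      rw [ub_coe]
      ext p q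
      fin_cases p <;> fin_cases q <;> simp [hb00, hb10, hb11]
    exact ⟨a, haA, b, hbB, by rw [hb]; group⟩

/-- `SL₂ = A B A` -/
theorem aba [Finite F] (t : F) (ht : ∀ r : F, r * r + t * r + 1 ≠ 0)
    (g : SpecialLinearGroup (Fin 2) F) :
    ∃ a ∈ Subgroup.centralizer ({S2507.comp t} : Set (SpecialLinearGroup (Fin 2) F)),
      ∃ b ∈ Bsub F, ∃ c ∈ Subgroup.centralizer ({S2507.comp t} : Set (SpecialLinearGroup (Fin 2) F)),
        g = a * b * c := by
  obtain ⟨x, y, hxy, htr⟩ := exists_trace_zero t (g : Matrix (Fin 2) (Fin 2) F)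
  obtain ⟨s, hs0, hs⟩ := exists_normalize t ht x y hxy
  set zt : SpecialLinearGroup (Fin 2) F := torS t (x / s) (y / s) hs with hz
  have hzA : zt ∈ Subgroup.centralizer ({S2507.comp t} : Set (SpecialLinearGroup (Fin 2) F)) :=
    torS_mem t _ _ hs
  have htr0 : ((g * zt : SpecialLinearGroup (Fin 2) F) : Matrix (Fin 2) (Fin 2) F).trace = 0 := by
    rw [Matrix.SpecialLinearGroup.coe_mul, hz, torS_coe, trace_mul_torM]
    have : x / s * (g : Matrix (Fin 2) (Fin 2) F).trace + y / s * ((g : Matrix (Fin 2) (Fin 2) F) * torM t 0 1).trace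
        = (x * (g : Matrix (Fin 2) (Fin 2) F).trace + y * ((g : Matrix (Fin 2) (Fin 2) F) * torM t 0 1).trace) / s := by
      field_simp
    rw [this, htr, zero_div]
  obtain ⟨a, haA, b, hbB, hab⟩ := invol_conj t ht (g * zt) htr0
  refine ⟨a, haA, b, hbB, a⁻¹ * zt⁻¹, Subgroup.mul_mem _ (Subgroup.inv_mem _ haA) (Subgroup.inv_mem _ hzA), ?_⟩
  have : g = (g * zt) * zt⁻¹ := by group
  rw [this, hab]
  group

end aba

theorem result {F : Type*} [Field F] [Fintype F]
    (h2 : 2 ∣ Fintype.card F) (h4 : 4 ≤ Fintype.card F) :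
    ∃ A B : Subgroup (Matrix.ProjectiveSpecialLinearGroup (Fin 2) F),
      IsCyclic A ∧ Nat.card A = Fintype.card F + 1 ∧ IsMulCommutative B ∧ (∀ b ∈ B, b * b = 1) ∧
        Nat.card B = Fintype.card F ∧
        ∀ g : Matrix.ProjectiveSpecialLinearGroup (Fin 2) F, ∃ a ∈ A, ∃ b ∈ B, ∃ c ∈ A, g = a * b * c := by
  classical
  have hchar : CharP F 2 := S2507.charP_two h2
  obtain ⟨t, ht0⟩ := S2507.exists_Rt_zero (F := F)
  have ht : ∀ r : F, r * r + t * r + 1 ≠ 0 := by
    intro r hr
    unfold S2507.Rt at ht0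
    rw [Finset.card_eq_zero, Finset.filter_eq_empty_iff] at ht0
    exact ht0 (Finset.mem_univ r) hr
  let π : SpecialLinearGroup (Fin 2) F →* ProjectiveSpecialLinearGroup (Fin 2) F :=
    QuotientGroup.mk' (Subgroup.center (SpecialLinearGroup (Fin 2) F))
  have hsurj : Function.Surjective π := QuotientGroup.mk'_surjective _
  have hinj : Function.Injective π := by
    intro a b hab
    have := QuotientGroup.eq.1 hab
    have hc : Subgroup.center (SpecialLinearGroup (Fin 2) F) = ⊥ := by
      rw [Subgroup.eq_bot_iff_forall]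
      intro x hx
      rw [Matrix.SpecialLinearGroup.mem_center_iff] at hx
      obtain ⟨r, -, hr⟩ := hx
      apply scalar_SL2_char_two x
      rw [← hr]
      refine ⟨?_, ?_, ?_⟩ <;> simp [Matrix.scalar]
    rw [hc, Subgroup.mem_bot] at this
    exact inv_mul_eq_one.1 this
  set A₀ : Subgroup (SpecialLinearGroup (Fin 2) F) :=
    Subgroup.centralizer ({S2507.comp t} : Set (SpecialLinearGroup (Fin 2) F)) with hA₀
  have hcardA₀ : Nat.card A₀ = Fintype.card F + 1 := by
    rw [hA₀, S2507.card_centralizer _ (S2507.comp_not_scalar t), S2507.comp_trace]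
    have := S2507.Nt_add_Rt t
    omega
  have hcycA₀ : IsCyclic A₀ := torus_isCyclic t ht
  refine ⟨A₀.map π, (Bsub F).map π, ?_, ?_, ?_, ?_, ?_, ?_⟩
  · exact isCyclic_of_surjective (π.subgroupMap A₀) (π.subgroupMap_surjective A₀)
  · rw [Subgroup.card_map_of_injective hinj, hcardA₀]
  · have := Bsub_comm (F := F)
    infer_instance
  · rintro _ ⟨b, hb, rfl⟩
    rw [← map_mul, Bsub_sq b hb, map_one]
  · rw [Subgroup.card_map_of_injective hinj, card_Bsub]
  · intro g
    obtain ⟨g₀, rfl⟩ := hsurj g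
    obtain ⟨a, ha, b, hb, c, hc, habc⟩ := aba t ht g₀
    exact ⟨π a, Subgroup.mem_map_of_mem π ha, π b, Subgroup.mem_map_of_mem π hb, π c,
      Subgroup.mem_map_of_mem π hc, by rw [habc, map_mul, map_mul]⟩

end Cfsg.Agent.S2503
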