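import Mathlib
import Cfsg.Statements.S2504
import Cfsg.Agent.Lib.Helper13.AbelianPerm
import Cfsg.Agent.Lib.Helper13.AbelianPermExists

set_option autoImplicit false
open Cfsg

namespace Cfsg.Agent.S2504

open Cfsg.Agent.Helper13

theorem isGreatest_alt (n c : ℕ) (hex : HasAb (Fin n) c True) (hc : emax n = c) :
    IsGreatest {c : ℕ | ∃ A : Subgroup (alternatingGroup (Fin n)),
      IsMulCommutative A ∧ Nat.card A = c} c := by
  constructor
  · obtain ⟨A, hA, hAc, hAe⟩ := hex
    refine ⟨A.subgroupOf (alternatingGroup (Fin n)), ⟨⟨fun a b => ?_⟩⟩, ?_⟩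
    · apply Subtype.ext
      apply Subtype.ext
      exact hA _ a.2 _ b.2
    · rw [Nat.card_congr (Subgroup.subgroupOfEquivOfLe (hAe trivial)).toEquiv, hAc]
  · rintro c' ⟨A, hA, rfl⟩
    have hfaith : FaithfulSMul A (Fin n) :=
      ⟨fun {a b} h => Subtype.ext (Subtype.ext (Equiv.ext h))⟩
    have := card_le_emax n A (Fin n) (fun a b => hA.is_comm.comm a b)
      (fun g => Equiv.Perm.mem_alternatingGroup.1 (g : alternatingGroup (Fin n)).2)
      (Fintype.card_fin n)
    rwa [hc] at this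

theorem result (k : ℕ) (hk : 2 ≤ k) :
    IsGreatest {c : ℕ | ∃ A : Subgroup (alternatingGroup (Fin (3 * k))), IsMulCommutative A ∧ Nat.card A = c} (3 ^ k) ∧
    IsGreatest {c : ℕ | ∃ A : Subgroup (alternatingGroup (Fin (3 * k + 1))), IsMulCommutative A ∧ Nat.card A = c}
      (4 * 3 ^ (k - 1)) ∧
    IsGreatest {c : ℕ | ∃ A : Subgroup (alternatingGroup (Fin (3 * k + 2))), IsMulCommutative A ∧ Nat.card A = c}
      (16 * 3 ^ (k - 2)) := by
  refine ⟨?_, ?_, ?_⟩
  · exact isGreatest_alt _ _ (hasAb_three_mul k) (emax_three_mul k)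
  · exact isGreatest_alt _ _ (hasAb_three_mul_add_one k (by omega))
      (emax_three_mul_add_one k (by omega))
  · exact isGreatest_alt _ _ (hasAb_even_three_mul_add_two k hk) (emax_three_mul_add_two k hk)

end Cfsg.Agent.S2504
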