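import Mathlib
import Cfsg.Statements.S2505
import Cfsg.Agent.Lib.Helper13.AbelianPerm
import Cfsg.Agent.Lib.Helper13.AbelianPermExists

set_option autoImplicit false
open Cfsg

namespace Cfsg.Agent.S2505

open Cfsg.Agent.Helper13

theorem isGreatest_perm (n c : ℕ) (hex : HasAb (Fin n) c False) (hc : gmax n = c) :
    IsGreatest {c : ℕ | ∃ A : Subgroup (Equiv.Perm (Fin n)), IsMulCommutative A ∧ Nat.card A = c}
      c := by
  constructor
  · obtain ⟨A, hA, hAc, -⟩ := hex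
    exact ⟨A, ⟨⟨fun a b => Subtype.ext (hA a a.2 b b.2)⟩⟩, hAc⟩
  · rintro c' ⟨A, hA, rfl⟩
    have hfaith : FaithfulSMul A (Fin n) :=
      ⟨fun {a b} h => Subtype.ext (Equiv.ext h)⟩
    have := card_le_gmax n A (Fin n) (fun a b => hA.is_comm.comm a b) (Fintype.card_fin n)
    rwa [hc] at this

theorem result (k : ℕ) (hk : 1 ≤ k) :
    IsGreatest {c : ℕ | ∃ A : Subgroup (Equiv.Perm (Fin (3 * k))), IsMulCommutative A ∧ Nat.card A = c} (3 ^ k) ∧
    IsGreatest {c : ℕ | ∃ A : Subgroup (Equiv.Perm (Fin (3 * k + 1))), IsMulCommutative A ∧ Nat.card A = c}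
      (4 * 3 ^ (k - 1)) ∧
    IsGreatest {c : ℕ | ∃ A : Subgroup (Equiv.Perm (Fin (3 * k + 2))), IsMulCommutative A ∧ Nat.card A = c}
      (2 * 3 ^ k) := by
  refine ⟨?_, ?_, ?_⟩
  · exact isGreatest_perm _ _ (hasAb_three_mul k).weaken (gmax_three_mul k)
  · exact isGreatest_perm _ _ (hasAb_three_mul_add_one k hk).weaken (gmax_three_mul_add_one k hk)
  · exact isGreatest_perm _ _ (hasAb_three_mul_add_two k) (gmax_three_mul_add_two k)

end Cfsg.Agent.S2505
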