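import Mathlib
import Cfsg.Statements.S2506
import Cfsg.Agent.Lib.Helper13.AbelianPermConj

set_option autoImplicit false
open scoped Pointwise
open Cfsg

namespace Cfsg.Agent.S2506

open Cfsg.Agent.Helper13 Equiv

theorem hasAb_bot (α : Type*) [Fintype α] [DecidableEq α] : HasAb α 1 True := by
  refine ⟨⊥, ?_, ?_, ?_⟩
  · intro a ha b hb
    rw [Subgroup.mem_bot] at ha hb
    rw [ha, hb]
  · exact Subgroup.card_bot
  · intro _
    exact bot_le

theorem hasAb_five : HasAb (Fin 5) 5 True := by
  have h := HasAb.regular (Multiplicative (ZMod 5)) (fun a b => mul_comm a b) True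
    (fun _ => by decide)
  have hc : Fintype.card (Multiplicative (ZMod 5)) = 5 := by
    rw [Fintype.card_multiplicative, ZMod.card]
  rw [hc] at h
  exact h.congr (Fintype.equivFinOfCardEq hc)

theorem hasAb_emax (n : ℕ) (hn : n ≠ 2) : HasAb (Fin n) (emax n) True := by
  obtain ⟨k, hk | hk | hk⟩ : ∃ k, n = 3 * k ∨ n = 3 * k + 1 ∨ n = 3 * k + 2 := ⟨n / 3, by omega⟩
  · subst hk
    rw [emax_three_mul]
    exact hasAb_three_mul k
  · subst hk
    by_cases h0 : k = 0
    · subst h0
      exact hasAb_bot _
    · rw [emax_three_mul_add_one k (by omega)]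
      exact hasAb_three_mul_add_one k (by omega)
  · subst hk
    by_cases h1 : k = 1
    · subst h1
      exact hasAb_five
    · have h2 : 2 ≤ k := by omega
      rw [emax_three_mul_add_two k h2]
      exact hasAb_even_three_mul_add_two k h2

/-- In the alternating group of any degree, any two abelian subgroups of the largest possible order (among abelian subgroups) are conjugate. -/
theorem result (n : ℕ)
    (A B : Subgroup (alternatingGroup (Fin n))) (hA : IsMulCommutative A) (hB : IsMulCommutative B)
    (hAmax : ∀ C : Subgroup (alternatingGroup (Fin n)), IsMulCommutative C → Nat.card C ≤ Nat.card A)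
    (hBmax : ∀ C : Subgroup (alternatingGroup (Fin n)), IsMulCommutative C → Nat.card C ≤ Nat.card B) :
    ∃ g : alternatingGroup (Fin n), B = MulAut.conj g • A := by
  classical
  by_cases hn2 : n = 2
  · subst hn2
    have hbot : alternatingGroup (Fin 2) = ⊥ :=
      alternatingGroup.eq_bot_of_card_le_two (by simp)
    have hss : Subsingleton (alternatingGroup (Fin 2)) := by
      rw [hbot]; infer_instance
    refine ⟨1, ?_⟩
    ext x
    have hx : x = 1 := Subsingleton.elim _ _
    subst hx
    simp
  · have hinj : Function.Injective (alternatingGroup (Fin n)).subtype :=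
      Subgroup.subtype_injective _
    have hmax : ∀ A : Subgroup (alternatingGroup (Fin n)), IsMulCommutative A →
        (∀ C : Subgroup (alternatingGroup (Fin n)), IsMulCommutative C →
          Nat.card C ≤ Nat.card A) → IsMaxEA (A.map (alternatingGroup (Fin n)).subtype) := by
      intro A hA hAmax
      have hcomm : ∀ a ∈ A.map (alternatingGroup (Fin n)).subtype,
          ∀ b ∈ A.map (alternatingGroup (Fin n)).subtype, a * b = b * a := by
        rintro _ ⟨a, ha, rfl⟩ _ ⟨b, hb, rfl⟩
        rw [← map_mul, ← map_mul]
        congr 1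
        exact congrArg Subtype.val (hA.is_comm.comm ⟨a, ha⟩ ⟨b, hb⟩)
      have heven : ∀ a ∈ A.map (alternatingGroup (Fin n)).subtype, Perm.sign a = 1 := by
        rintro _ ⟨a, ha, rfl⟩
        exact Perm.mem_alternatingGroup.1 a.2
      refine ⟨hcomm, heven, ?_⟩
      have hc : Nat.card (A.map (alternatingGroup (Fin n)).subtype) = Nat.card A :=
        (Nat.card_congr (A.equivMapOfInjective _ hinj).toEquiv).symm
      apply le_antisymm
      · exact card_le_emax_subgroup _ hcomm heven
      · rw [hc, Fintype.card_fin]
        obtain ⟨C, hC, hCc, hCe⟩ := hasAb_emax n hn2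
        have h1 := hAmax (C.subgroupOf (alternatingGroup (Fin n)))
          ⟨⟨fun a b => Subtype.ext (Subtype.ext (hC _ a.2 _ b.2))⟩⟩
        rw [Nat.card_congr (Subgroup.subgroupOfEquivOfLe (hCe trivial)).toEquiv, hCc] at h1
        exact h1
    obtain ⟨-, hodd, hconj⟩ := good.{0} n hn2 (Fin n) (Fintype.card_fin n) _ (hmax A hA hAmax)
    obtain ⟨σ, hσ⟩ := hconj _ (hmax B hB hBmax)
    obtain ⟨σ', hσ'even, hσ'⟩ : ∃ σ' : Perm (Fin n), Perm.sign σ' = 1 ∧
        B.map (alternatingGroup (Fin n)).subtype =
          (A.map (alternatingGroup (Fin n)).subtype).map (MulAut.conj σ').toMonoidHom := by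
      rcases Int.units_eq_one_or (Perm.sign σ) with h | h
      · exact ⟨σ, h, hσ⟩
      · have hn3 : 3 ≤ n := by
          by_contra hlt
          have hn1 : n ≤ 1 := by omega
          have hss : Subsingleton (Fin n) := by
            rw [← Fintype.card_le_one_iff_subsingleton, Fintype.card_fin]; exact hn1
          have h1 : σ = 1 := Subsingleton.elim _ _
          rw [h1, map_one] at h
          exact absurd h (by decide)
        obtain ⟨τ, hτ, hτG⟩ := hodd hn3
        refine ⟨σ * τ, by rw [map_mul, h, hτ]; rfl, ?_⟩
        rw [hσ]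
        conv_lhs => rw [← hτG]
        rw [Subgroup.map_map]
        congr 1
    refine ⟨⟨σ', Perm.mem_alternatingGroup.2 hσ'even⟩, ?_⟩
    ext b
    rw [Subgroup.mem_pointwise_smul_iff_inv_smul_mem]
    constructor
    · intro hb
      have h1 : (alternatingGroup (Fin n)).subtype b ∈
          B.map (alternatingGroup (Fin n)).subtype := ⟨b, hb, rfl⟩
      rw [hσ'] at h1
      obtain ⟨_, ⟨a, ha, rfl⟩, e⟩ := h1
      have h2 : (MulAut.conj (⟨σ', Perm.mem_alternatingGroup.2 hσ'even⟩ :
          alternatingGroup (Fin n)))⁻¹ • b = a := by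
        apply hinj
        simp only [MulEquiv.coe_toMonoidHom, MulAut.conj_apply, Subgroup.coe_subtype] at e
        simp only [MulAut.smul_def, MulAut.conj_inv_apply, Subgroup.coe_subtype, Subgroup.coe_mul,
          Subgroup.coe_inv]
        rw [← e]
        group
      rw [h2]
      exact ha
    · intro hb
      have h1 : (alternatingGroup (Fin n)).subtype b ∈
          (A.map (alternatingGroup (Fin n)).subtype).map (MulAut.conj σ').toMonoidHom := by
        refine ⟨_, ⟨_, hb, rfl⟩, ?_⟩
        simp only [MulEquiv.coe_toMonoidHom, MulAut.conj_apply, Subgroup.coe_subtype,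
          MulAut.smul_def, MulAut.conj_inv_apply, Subgroup.coe_mul, Subgroup.coe_inv]
        group
      rw [← hσ'] at h1
      obtain ⟨b', hb', e⟩ := h1
      rw [← hinj e]
      exact hb'

end Cfsg.Agent.S2506
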