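import Cfsg.Statements.S2510
import Cfsg.Agent.Lib.PL3.PL3RED
import Cfsg.Agent.Lib.PL3.PL3GOALA
import Cfsg.Agent.Lib.PL3.PL3GOALB

set_option autoImplicit false
open Cfsg

namespace Cfsg.Agent.S2510

/-- Let F be a finite field with q = p^a elements, n ≥ 2 (with q ≥ 4 when n = 2), L = PSL(n, F), and let r be a prime dividing q − 1 and not dividing n. Then for every m the direct product L × L × L × (ℤ/r)^m has the same set of element orders as L × L × L; and if n − 1 ≠ p^j for every j ≥ 0 (so never when n = 2, since 1 = p^0), then already L × L × (ℤ/r)^m has the same set of element orders as L × L. -/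
theorem result {F : Type*} [Field F] [Fintype F] (p a n r m : ℕ) (hp : p.Prime) (ha : 1 ≤ a) (hF : Fintype.card F = p ^ a)
    (hn : 2 ≤ n) (hn2 : n = 2 → 4 ≤ Fintype.card F) (hr : r.Prime) (hrq : r ∣ Fintype.card F - 1) (hrn : ¬ r ∣ n) :
    Set.range (orderOf : Matrix.ProjectiveSpecialLinearGroup (Fin n) F × Matrix.ProjectiveSpecialLinearGroup (Fin n) F × Matrix.ProjectiveSpecialLinearGroup (Fin n) F × Multiplicative (Fin m → ZMod r) → ℕ) =
      Set.range (orderOf : Matrix.ProjectiveSpecialLinearGroup (Fin n) F × Matrix.ProjectiveSpecialLinearGroup (Fin n) F × Matrix.ProjectiveSpecialLinearGroup (Fin n) F → ℕ) ∧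
    ((¬ ∃ j : ℕ, n - 1 = p ^ j) →
      Set.range (orderOf : Matrix.ProjectiveSpecialLinearGroup (Fin n) F × Matrix.ProjectiveSpecialLinearGroup (Fin n) F × Multiplicative (Fin m → ZMod r) → ℕ) =
        Set.range (orderOf : Matrix.ProjectiveSpecialLinearGroup (Fin n) F × Matrix.ProjectiveSpecialLinearGroup (Fin n) F → ℕ)) := by
  haveI : Fact p.Prime := ⟨hp⟩
  have ha0 : a ≠ 0 := by omega
  haveI : CharP F p := charP_of_card_eq_prime_pow hF
  refine ⟨?_, fun hnp => ?_⟩
  · exact Cfsg.Agent.Helper21.PL3.range_orderOf_prod3 r m hr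
      (fun x1 x2 x3 => Cfsg.Agent.Helper21.PL3.goalA hn p r hr hrq hrn x1 x2 x3)
  · exact Cfsg.Agent.Helper21.PL3.range_orderOf_prod2 r m hr
      (fun x1 x2 => Cfsg.Agent.Helper21.PL3.goalB hn p r hr hrq hrn hnp x1 x2)

end Cfsg.Agent.S2510
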