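import Cfsg.Statements.S2511
import Cfsg.Agent.Lib.PL3.PL3RED
import Cfsg.Agent.Lib.PU3.PU3GOALA
import Cfsg.Agent.Lib.PU3.PU3GOALB
import Cfsg.Agent.Lib.PU3.PU3KEY
import Cfsg.Agent.Lib.PU3.PU3TORUSEX
import Cfsg.Agent.Lib.PU3.PU3ORDR
import Cfsg.Agent.Lib.PU3.PU3UPR

set_option autoImplicit false
open Cfsg

namespace Cfsg.Agent.S2511

/-- Let F be a finite field with q² elements, q = p^a, n ≥ 3 with (n, q) ≠ (3, 2), L = PSU(n, q) realised over F, and let r be a prime dividing q + 1 and not dividing n. Then for every m the direct product L × L × L × (ℤ/r)^m has the same set of element orders as L × L × L; and if n − 1 is not a power of p, then already L × L × (ℤ/r)^m has the same set of element orders as L × L. -/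
theorem result {F : Type*} [Field F] [Fintype F] (p a n q r m : ℕ) (hp : p.Prime) (ha : 1 ≤ a) (hq : q = p ^ a) (hF : Fintype.card F = q ^ 2)
    (hn : 3 ≤ n) (hn3 : ¬ (n = 3 ∧ q = 2)) (hr : r.Prime) (hrq : r ∣ q + 1) (hrn : ¬ r ∣ n) :
    Set.range (orderOf : Cfsg.PSU n F q × Cfsg.PSU n F q × Cfsg.PSU n F q × Multiplicative (Fin m → ZMod r) → ℕ) = Set.range (orderOf : Cfsg.PSU n F q × Cfsg.PSU n F q × Cfsg.PSU n F q → ℕ) ∧
    ((¬ ∃ j : ℕ, n - 1 = p ^ j) →
      Set.range (orderOf : Cfsg.PSU n F q × Cfsg.PSU n F q × Multiplicative (Fin m → ZMod r) → ℕ) = Set.range (orderOf : Cfsg.PSU n F q × Cfsg.PSU n F q → ℕ)) := by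
  have : Fact p.Prime := ⟨hp⟩
  have hF' : Fintype.card F = p ^ (a * 2) := by rw [hF, hq, pow_mul]
  have : CharP F p := charP_of_card_eq_prime_pow hF'
  have hpr : p ≠ r := by
    rintro rfl
    have h1 : p ∣ q := by
      rw [hq]
      exact dvd_pow_self p (by omega)
    have h2 : p ∣ 1 := (Nat.dvd_add_right h1).1 hrq
    exact hp.one_lt.ne' (Nat.dvd_one.1 h2)
  have hkey := fun (x : Cfsg.PSU n F q) (hx : ¬ Cfsg.Agent.Helper21.PL3.Good r x) =>
    Cfsg.Agent.Helper16.PU3.key hF n (by omega) p r hr hrq hrn x hx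
  have htor := Cfsg.Agent.Helper16.PU3.exists_orderOf_eq_MU hF n (by omega)
  have hord := Cfsg.Agent.Helper16.PU3.exists_orderOf_eq_r hF n (by omega) r hr hrq hrn
  refine ⟨?_, fun hnp => ?_⟩
  · exact Cfsg.Agent.Helper21.PL3.range_orderOf_prod3 r m hr
      (fun x1 x2 x3 => Cfsg.Agent.Helper16.PU3.goalA_gen p r _ hp hr hkey htor hord x1 x2 x3)
  · exact Cfsg.Agent.Helper21.PL3.range_orderOf_prod2 r m hr
      (fun x1 x2 => Cfsg.Agent.Helper16.PU3.goalB_gen p r _ hp hr hpr hkey htor hord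
        (fun x t ht hx => Cfsg.Agent.Helper16.PU3.exists_orderOf_eq_pow_mul hF n (by omega) p r hr
          hrq hrn hnp x t ht hx) x1 x2)

end Cfsg.Agent.S2511
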