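import Mathlib
import Cfsg.Statements.S2513
import Cfsg.Agent.Lib.Helper13.MatrixOrders

set_option autoImplicit false
set_option linter.style.haveILetI false
open Cfsg

namespace Cfsg.Agent.S2513

open Cfsg.Agent.Helper13.MatOrd

/-- Let F be the field with two elements, n ≥ 2, L = PSL(n, F) and k₀ = ⌊(n + 3)/2⌋. Then for every k ≥ k₀ the direct product of k copies of L has the same set of element orders as the direct product of k₀ copies of L. -/
theorem result {F : Type*} [Field F] [Fintype F] (hF : Fintype.card F = 2) (n k : ℕ) (hn : 2 ≤ n) (hk : (n + 3) / 2 ≤ k) :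
    Set.range (orderOf : (Fin k → Matrix.ProjectiveSpecialLinearGroup (Fin n) F) → ℕ) = Set.range (orderOf : (Fin ((n + 3) / 2) → Matrix.ProjectiveSpecialLinearGroup (Fin n) F) → ℕ) := by
  classical
  -- basic facts on `F`
  have hunit : ∀ x : F, x ≠ 0 → x = 1 := by
    intro x hx
    have hc : Fintype.card Fˣ = 1 := by rw [Fintype.card_units, hF]
    haveI : Subsingleton Fˣ := Fintype.card_le_one_iff_subsingleton.mp hc.le
    have := Subsingleton.elim (Units.mk0 x hx) 1
    simpa using congrArg Units.val this
  have h2F : (2 : F) = 0 := by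
    have := Nat.cast_card_eq_zero F
    rw [hF] at this
    exact_mod_cast this
  have hchar : ∀ r : ℕ, r.Prime → r ≠ 2 → (r : F) ≠ 0 := by
    intro r hr hr2 h0
    have hodd : Odd r := hr.odd_of_ne_two hr2
    obtain ⟨t, ht⟩ := hodd
    rw [ht] at h0
    push_cast at h0
    rw [h2F, zero_mul, zero_add] at h0
    exact one_ne_zero h0
  -- centre of `SL_n(F)` is trivial
  have hcenter : Subgroup.center (Matrix.SpecialLinearGroup (Fin n) F) = ⊥ := by
    rw [eq_bot_iff]
    intro A hA
    rw [Matrix.SpecialLinearGroup.mem_center_iff] at hA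
    obtain ⟨c, hc, hcA⟩ := hA
    have hc0 : c ≠ 0 := by
      intro h0
      rw [h0, zero_pow (by simp; omega)] at hc
      exact zero_ne_one hc
    rw [hunit c hc0] at hcA
    rw [Subgroup.mem_bot]
    apply Subtype.ext
    rw [← hcA]
    simp
  let π : Matrix.SpecialLinearGroup (Fin n) F →* Matrix.ProjectiveSpecialLinearGroup (Fin n) F :=
    QuotientGroup.mk' _
  have hπinj : Function.Injective π := by
    rw [← MonoidHom.ker_eq_bot_iff, QuotientGroup.ker_mk', hcenter]
  have hπsurj : Function.Surjective π := QuotientGroup.mk'_surjective _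
  have hord : ∀ x : Matrix.SpecialLinearGroup (Fin n) F,
      orderOf (π x) = orderOf (x : Matrix (Fin n) (Fin n) F) := by
    intro x
    rw [orderOf_injective π hπinj, orderOf_eq_orderOf_iff]
    intro m
    rw [← Matrix.SpecialLinearGroup.coe_pow]
    constructor
    · intro h; rw [h]; rfl
    · intro h; exact Subtype.ext h
  haveI : Finite (Matrix.ProjectiveSpecialLinearGroup (Fin n) F) :=
    Finite.of_surjective π hπsurj
  apply range_orderOf_pi_eq _ _ hk
  intro f
  apply exists_short_tuple n _ _ f
  · -- Singer cycles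
    intro d hd1 hd2
    obtain ⟨A, hA⟩ := exists_orderOf_eq_card_pow_sub_one (F := F) d n (by omega) hd2
    rw [hF] at hA
    have hpos : 0 < 2 ^ d - 1 := by
      have := Nat.one_lt_two_pow (n := d) (by omega)
      omega
    have hpow : A ^ (2 ^ d - 1) = 1 := by rw [← hA]; exact pow_orderOf_eq_one A
    have hdet : A.det = 1 := by
      apply hunit
      intro h0
      have := congrArg Matrix.det hpow
      rw [Matrix.det_pow, h0, zero_pow hpos.ne', Matrix.det_one] at this
      exact zero_ne_one this
    let x : Matrix.SpecialLinearGroup (Fin n) F := ⟨A, hdet⟩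
    refine ⟨π x, ?_⟩
    rw [hord x]
    exact hA
  · -- prime powers dividing element orders
    intro g r a hr hr2 ha hdvd
    obtain ⟨x, rfl⟩ := hπsurj g
    rw [hord] at hdvd
    have hpos : 0 < orderOf (x : Matrix (Fin n) (Fin n) F) := by
      rw [← hord]; exact orderOf_pos _
    obtain ⟨d₀, hd1, hd2, hd3⟩ := exists_dvd_of_prime_pow_dvd_orderOf
      (x : Matrix (Fin n) (Fin n) F) r a hr (hchar r hr hr2) ha hpos hdvd
    rw [Fintype.card_fin] at hd2
    rw [hF] at hd3
    refine ⟨d₀ * (n / d₀), ?_, Nat.mul_div_le n d₀, ?_⟩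
    · have h1 : n < d₀ * (n / d₀ + 1) := Nat.lt_mul_div_succ n (by omega)
      have h2 : 1 ≤ n / d₀ := Nat.div_pos hd2 (by omega)
      have h3 : d₀ ≤ d₀ * (n / d₀) := Nat.le_mul_of_pos_right _ h2
      rw [mul_add, mul_one] at h1
      omega
    · exact hd3.trans (Nat.pow_sub_one_dvd_pow_sub_one 2 (dvd_mul_right d₀ _))

end Cfsg.Agent.S2513
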