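import Mathlib
import Cfsg.Statements.S2514

set_option autoImplicit false
open Cfsg

namespace Cfsg.Agent.S2514

/-- element orders are closed under divisors -/
theorem mem_range_of_dvd {X : Type*} [Group X] [Finite X] (x : X) {n : ℕ} (hn : n ∣ orderOf x) :
    n ∈ Set.range (orderOf : X → ℕ) :=
  ⟨x ^ (orderOf x / n), orderOf_pow_orderOf_div (orderOf_pos x).ne' hn⟩

/-- every element order divides a maximal one -/
theorem exists_maximal_order {X : Type*} [Group X] [Finite X] (x : X) :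
    ∃ y : X, orderOf x ∣ orderOf y ∧
      ∀ m ∈ Set.range (orderOf : X → ℕ), orderOf y ∣ m → m = orderOf y := by
  classical
  set P : ℕ → Prop := fun m => m ∈ Set.range (orderOf : X → ℕ) ∧ orderOf x ∣ m with hP
  have hPx : P (orderOf x) := ⟨⟨x, rfl⟩, dvd_rfl⟩
  have hxle : orderOf x ≤ Nat.card X := orderOf_le_card
  have hspec : P (Nat.findGreatest P (Nat.card X)) := Nat.findGreatest_spec hxle hPx
  obtain ⟨⟨y, hy⟩, hdvd⟩ := hspec
  refine ⟨y, hy ▸ hdvd, ?_⟩
  rintro m ⟨z, rfl⟩ hm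
  have hPz : P (orderOf z) := ⟨⟨z, rfl⟩, dvd_trans (hy ▸ hdvd) hm⟩
  have h1 : orderOf z ≤ Nat.findGreatest P (Nat.card X) := Nat.le_findGreatest orderOf_le_card hPz
  rw [← hy] at h1
  have h2 : orderOf y ≤ orderOf z := Nat.le_of_dvd (orderOf_pos z) hm
  omega

theorem pi_dvd {X : Type*} [Group X] {k : ℕ} (f : Fin k → X) (i : Fin k) :
    orderOf (f i) ∣ orderOf f := by
  rw [Pi.orderOf]
  exact Finset.dvd_lcm (Finset.mem_univ i)

theorem pi_orderOf_dvd {X : Type*} [Group X] {k : ℕ} (f : Fin k → X) (N : ℕ)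
    (h : ∀ i, orderOf (f i) ∣ N) : orderOf f ∣ N := by
  rw [Pi.orderOf]
  exact Finset.lcm_dvd fun i _ => h i

theorem result {G H : Type*} [Group G] [Finite G] [Group H] [Finite H] (k : ℕ) (hk : 1 ≤ k)
    (hsub : {n : ℕ | n ∈ Set.range (orderOf : H → ℕ) ∧ ∀ m ∈ Set.range (orderOf : H → ℕ), n ∣ m → m = n} ⊆ {n : ℕ | n ∈ Set.range (orderOf : G → ℕ) ∧ ∀ m ∈ Set.range (orderOf : G → ℕ), n ∣ m → m = n})
    (hfew : ({n : ℕ | n ∈ Set.range (orderOf : G → ℕ) ∧ ∀ m ∈ Set.range (orderOf : G → ℕ), n ∣ m → m = n} \ {n : ℕ | n ∈ Set.range (orderOf : H → ℕ) ∧ ∀ m ∈ Set.range (orderOf : H → ℕ), n ∣ m → m = n}).ncard < k) :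
    Set.range (orderOf : (Fin k → G) → ℕ) = Set.range (orderOf : (Fin (k - 1) → G) × H → ℕ) := by
  classical
  obtain ⟨k, rfl⟩ : ∃ k', k = k' + 1 := ⟨k - 1, by omega⟩
  show Set.range (orderOf : (Fin (k + 1) → G) → ℕ) = Set.range (orderOf : (Fin k → G) × H → ℕ)
  set μG := {n : ℕ | n ∈ Set.range (orderOf : G → ℕ) ∧ ∀ m ∈ Set.range (orderOf : G → ℕ), n ∣ m → m = n} with hμG
  set μH := {n : ℕ | n ∈ Set.range (orderOf : H → ℕ) ∧ ∀ m ∈ Set.range (orderOf : H → ℕ), n ∣ m → m = n} with hμH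
  apply Set.eq_of_subset_of_subset
  · rintro _ ⟨f, rfl⟩
    -- maximal orders above each coordinate
    choose g hg1 hg2 using fun i => exists_maximal_order (f i)
    have hgμ : ∀ i, orderOf (g i) ∈ μG := fun i => ⟨⟨g i, rfl⟩, hg2 i⟩
    suffices h : ∃ y : (Fin k → G) × H, orderOf f ∣ orderOf y by
      obtain ⟨y, hy⟩ := h
      exact mem_range_of_dvd y hy
    by_cases hA : ∃ j, orderOf (g j) ∈ μH
    · obtain ⟨j, ⟨h, hh⟩, -⟩ := hA
      refine ⟨(fun i => g (j.succAbove i), h), ?_⟩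
      apply pi_orderOf_dvd
      intro i₀
      rw [Prod.orderOf]
      by_cases hij : i₀ = j
      · subst hij
        exact dvd_trans (hg1 i₀) (hh ▸ Nat.dvd_lcm_right _ _)
      · obtain ⟨i, rfl⟩ := Fin.exists_succAbove_eq hij
        exact dvd_trans (hg1 _) (dvd_trans (pi_dvd (fun i => g (j.succAbove i)) i) (Nat.dvd_lcm_left _ _))
    · push Not at hA
      have hmaps : ∀ j ∈ (Set.univ : Set (Fin (k + 1))), orderOf (g j) ∈ μG \ μH :=
        fun j _ => ⟨hgμ j, hA j⟩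
      have hfin : (μG \ μH).Finite :=
        (Set.finite_range (orderOf : G → ℕ)).subset fun n hn => hn.1.1
      have hcard : (μG \ μH).ncard < (Set.univ : Set (Fin (k + 1))).ncard := by
        rw [Set.ncard_univ, Nat.card_fin]; exact hfew
      obtain ⟨j₁, -, j₂, -, hne, heq⟩ := Set.exists_ne_map_eq_of_ncard_lt_of_maps_to hcard hmaps hfin
      refine ⟨(fun i => g (j₁.succAbove i), 1), ?_⟩
      apply pi_orderOf_dvd
      intro i₀
      rw [Prod.orderOf]
      by_cases hij : i₀ = j₁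
      · subst hij
        obtain ⟨i, hi⟩ := Fin.exists_succAbove_eq (Ne.symm hne)
        refine dvd_trans (hg1 i₀) ?_
        rw [heq, ← hi]
        exact dvd_trans (pi_dvd (fun i => g (i₀.succAbove i)) i) (Nat.dvd_lcm_left _ _)
      · obtain ⟨i, rfl⟩ := Fin.exists_succAbove_eq hij
        exact dvd_trans (hg1 _) (dvd_trans (pi_dvd (fun i => g (j₁.succAbove i)) i) (Nat.dvd_lcm_left _ _))
  · rintro _ ⟨⟨f, h⟩, rfl⟩
    obtain ⟨h', hh'1, hh'2⟩ := exists_maximal_order h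
    have hmem : orderOf h' ∈ μG := hsub ⟨⟨h', rfl⟩, hh'2⟩
    obtain ⟨⟨g, hg⟩, -⟩ := hmem
    suffices hs : ∃ y : Fin (k + 1) → G, orderOf (f, h) ∣ orderOf y by
      obtain ⟨y, hy⟩ := hs
      exact mem_range_of_dvd y hy
    refine ⟨Fin.cons g f, ?_⟩
    rw [Prod.orderOf]
    apply Nat.lcm_dvd
    · apply pi_orderOf_dvd
      intro i
      have := pi_dvd (Fin.cons g f : Fin (k + 1) → G) i.succ
      simpa using this
    · have := pi_dvd (Fin.cons g f : Fin (k + 1) → G) 0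
      rw [Fin.cons_zero, hg] at this
      exact dvd_trans hh'1 this

end Cfsg.Agent.S2514
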