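import Mathlib
import Cfsg.Statements.S2516

set_option autoImplicit false
open Cfsg

namespace Cfsg.Agent.S2516

open Multiplicative Polynomial

section
variable {F : Type*} [Field F] {V : Type*} [AddCommGroup V] [Module F V] {G : Type*} [Group G]
  (ρ : Representation F G V)

/-- the action defining the semidirect product -/
noncomputable abbrev act : G →* MulAut (Multiplicative V) :=
  (MulAutMultiplicative V).symm.toMonoidHom.comp
    ((DistribMulAction.toAddAut ((V →ₗ[F] V)ˣ) V).comp ρ.asGroupHom)

theorem act_apply (g : G) (v : V) : (act ρ g) (ofAdd v) = ofAdd (ρ g v) := rfl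

theorem pow_right (x : Multiplicative V ⋊[act ρ] G) (n : ℕ) : (x ^ n).right = x.right ^ n := by
  induction n with
  | zero => simp
  | succ n ih => rw [pow_succ, SemidirectProduct.mul_right, ih, pow_succ]

theorem pow_left (x : Multiplicative V ⋊[act ρ] G) (n : ℕ) :
    (x ^ n).left = ofAdd (∑ i ∈ Finset.range n, ((ρ x.right) ^ i) (toAdd x.left)) := by
  induction n with
  | zero => simp
  | succ n ih =>
    rw [pow_succ, SemidirectProduct.mul_left, ih, pow_right, Finset.sum_range_succ, ofAdd_add]
    congr 1
    have : x.left = ofAdd (toAdd x.left) := rfl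
    rw [this, act_apply, map_pow]
    rfl

end

theorem result {F : Type*} [Field F] (p : ℕ) [Fact p.Prime] [CharP F p] {V : Type*} [AddCommGroup V] [Module F V] [FiniteDimensional F V] [Nontrivial V]
    {G : Type*} [Group G] [Finite G] (ρ : Representation F G V) (g : G) :
    (∃ x : Multiplicative V ⋊[(MulAutMultiplicative V).symm.toMonoidHom.comp
        ((DistribMulAction.toAddAut ((V →ₗ[F] V)ˣ) V).comp ρ.asGroupHom)] G,
        x.right = g ∧ orderOf x = p * orderOf g) ↔
      ¬ (minpoly F (ρ g) ∣ ∑ i ∈ Finset.range (orderOf g), (Polynomial.X : Polynomial F) ^ i) := by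
  have hp : p.Prime := Fact.out
  have hk : 0 < orderOf g := orderOf_pos g
  set k := orderOf g with hkdef
  set N : Module.End F V := ∑ i ∈ Finset.range k, (ρ g) ^ i with hN
  have haeval : aeval (ρ g) (∑ i ∈ Finset.range k, (X : F[X]) ^ i) = N := by
    simp [hN, map_sum]
  rw [minpoly.dvd_iff, haeval]
  have hNapply : ∀ v, N v = ∑ i ∈ Finset.range k, ((ρ g) ^ i) v := by
    intro v; simp [hN, LinearMap.sum_apply]
  constructor
  · rintro ⟨x, hxg, hxo⟩ hN0
    have hxk : x ^ k = 1 := by
      apply SemidirectProduct.ext
      · rw [pow_left, hxg, ← hNapply, hN0]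
        simp
      · rw [pow_right, hxg, hkdef, pow_orderOf_eq_one]
        rfl
    have := orderOf_dvd_of_pow_eq_one hxk
    rw [hxo] at this
    have h1 := Nat.le_of_dvd hk this
    have h2 := hp.two_le
    nlinarith
  · intro hN0
    obtain ⟨v, hv⟩ : ∃ v, N v ≠ 0 := by
      by_contra hcon
      push Not at hcon
      exact hN0 (LinearMap.ext hcon)
    set x : Multiplicative V ⋊[act ρ] G := ⟨ofAdd v, g⟩ with hx
    have hxr : x.right = g := rfl
    have hxl : toAdd x.left = v := rfl
    refine ⟨x, rfl, ?_⟩
    -- z = x^k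
    have hzl : (x ^ k).left = ofAdd (N v) := by rw [pow_left, hxr, hxl, ← hNapply]
    have hzr : (x ^ k).right = 1 := by rw [pow_right, hxr, hkdef, pow_orderOf_eq_one]
    have hzpow : ∀ j : ℕ, ((x ^ k) ^ j).left = ofAdd (j • N v) := by
      intro j
      rw [pow_left, hzr, hzl]
      simp
    have hzpowr : ∀ j : ℕ, ((x ^ k) ^ j).right = 1 := by
      intro j
      rw [pow_right, hzr, one_pow]
    have hpw : p • N v = 0 := by
      rw [← Nat.cast_smul_eq_nsmul F, CharP.cast_eq_zero F p, zero_smul]
    apply Nat.dvd_antisymm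
    · apply orderOf_dvd_of_pow_eq_one
      rw [mul_comm, pow_mul]
      apply SemidirectProduct.ext
      · rw [hzpow, hpw]; rfl
      · rw [hzpowr]; rfl
    · have hxo : x ^ orderOf x = 1 := pow_orderOf_eq_one x
      have hkdvd : k ∣ orderOf x := by
        rw [hkdef]
        apply orderOf_dvd_of_pow_eq_one
        have := congrArg SemidirectProduct.right hxo
        rw [pow_right, hxr] at this
        exact this
      obtain ⟨j, hj⟩ := hkdvd
      rw [hj, pow_mul] at hxo
      have h1 := congrArg SemidirectProduct.left hxo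
      rw [hzpow] at h1
      have h2 : j • N v = 0 := by
        have : ofAdd (j • N v) = ofAdd 0 := h1
        exact ofAdd.injective this
      rw [← Nat.cast_smul_eq_nsmul F] at h2
      have h3 : (j : F) = 0 := by
        rcases smul_eq_zero.mp h2 with h | h
        · exact h
        · exact absurd h hv
      have h4 : p ∣ j := (CharP.cast_eq_zero_iff F p j).mp h3
      rw [hj, mul_comm p k]
      exact Nat.mul_dvd_mul_left k h4

end Cfsg.Agent.S2516
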