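import Mathlib
import Cfsg.Statements.S2518
import Cfsg.Agent.Lib.Helper9.ChevFieldIso
import Cfsg.Agent.Lib.Helper15.G23d
import Cfsg.Agent.Lib.Helper15.G23p

set_option autoImplicit false
open Cfsg

namespace Cfsg.Agent.S2518

open Cfsg.Lie Cfsg.Agent.Helper9 Cfsg.Agent.Helper15.G23

/-- Let F₃ be the field with 3 elements and F₁₃ the field with 13 elements. The Chevalley group G₂(F₃) and PSL(2, F₁₃) have the same prime graph: the same prime divisors of their orders, and for distinct primes r, s an element of order rs in one iff in the other. -/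
theorem result {F : Type*} [Field F] [Fintype F] (hF : Fintype.card F = 3) {E : Type*} [Field E] [Fintype E] (hE : Fintype.card E = 13) :
    ((∀ r : ℕ, r.Prime → (r ∣ Nat.card ↥(Cfsg.Lie.chevG2.group F) ↔ r ∣ Nat.card (Matrix.ProjectiveSpecialLinearGroup (Fin 2) E))) ∧
      (∀ r s : ℕ, r.Prime → s.Prime → r ≠ s → ((∃ x : ↥(Cfsg.Lie.chevG2.group F), orderOf x = r * s) ↔ (∃ y : (Matrix.ProjectiveSpecialLinearGroup (Fin 2) E), orderOf y = r * s)))) := by
  have e0 : F ≃+* ZMod 3 := FiniteField.ringEquivOfCardEq (hF.trans (ZMod.card 3).symm)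
  have e : ↥(chevG2.group F) ≃* Γ3 := ChevFieldIso.groupCongr chevG2 e0
  have hcG : Nat.card ↥(chevG2.group F) = 4245696 := by
    rw [Nat.card_congr e.toEquiv, card_Γ3]
  constructor
  · intro r hr
    rw [hcG, card_psl13 hE]
    constructor
    · intro h
      rcases prime_cases hr h with rfl | rfl | rfl | rfl <;> norm_num
    · intro h
      rcases prime_cases_psl hr h with rfl | rfl | rfl | rfl <;> norm_num
  · intro r s hr hs hrs
    rw [psl_graph hE r s hr hs hrs, ← g23_graph r s hr hs hrs]
    constructor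
    · rintro ⟨g, hg⟩
      exact ⟨e g, by rw [MulEquiv.orderOf_eq, hg]⟩
    · rintro ⟨g, hg⟩
      exact ⟨e.symm g, by rw [MulEquiv.orderOf_eq, hg]⟩

end Cfsg.Agent.S2518
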