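import Mathlib
import Cfsg.Statements.S2521

set_option autoImplicit false
open scoped Pointwise
open Cfsg

namespace Cfsg.Agent.S2521

theorem result {B : Type*} [Group B] [Finite B] (U T : Subgroup B) [U.Normal] (hU : Group.IsNilpotent ↥U) (hT : IsMulCommutative ↥T)
    (hcompl : Subgroup.IsComplement' U T) (t : B) (ht : t ∈ T) (hreg : Subgroup.centralizer ({t} : Set B) = T) (u : B) (hu : u ∈ U) :
    ∃ b : B, b * t * b⁻¹ = t * u := by
  have hdisj : U ⊓ T = ⊥ := disjoint_iff.mp hcompl.disjoint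
  -- the map v ↦ t⁻¹ v t v⁻¹ on U
  let f : U → U := fun v => ⟨t⁻¹ * v * t * (v : B)⁻¹, by
    have h1 : t⁻¹ * (v : B) * t⁻¹⁻¹ ∈ U := Subgroup.Normal.conj_mem inferInstance _ v.2 _
    rw [inv_inv] at h1
    exact U.mul_mem h1 (U.inv_mem v.2)⟩
  have hinj : Function.Injective f := by
    intro v w hvw
    have h1 : t⁻¹ * (v : B) * t * (v : B)⁻¹ = t⁻¹ * (w : B) * t * (w : B)⁻¹ := congrArg Subtype.val hvw
    have h2 : ((w : B)⁻¹ * v) ∈ Subgroup.centralizer ({t} : Set B) := by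
      rw [Subgroup.mem_centralizer_iff]
      intro x hx
      rw [Set.mem_singleton_iff] at hx
      subst hx
      -- x * (w⁻¹ v) = (w⁻¹ v) * x
      have h3 : (v : B) * x * (v : B)⁻¹ = (w : B) * x * (w : B)⁻¹ := by
        calc (v : B) * x * (v : B)⁻¹ = x * (x⁻¹ * v * x * (v : B)⁻¹) := by group
          _ = x * (x⁻¹ * w * x * (w : B)⁻¹) := by rw [h1]
          _ = _ := by group
      calc x * ((w : B)⁻¹ * v) = (w : B)⁻¹ * ((w : B) * x * (w : B)⁻¹) * v := by group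
        _ = (w : B)⁻¹ * ((v : B) * x * (v : B)⁻¹) * v := by rw [h3]
        _ = _ := by group
    rw [hreg] at h2
    have h3 : ((w : B)⁻¹ * v) ∈ U ⊓ T := ⟨U.mul_mem (U.inv_mem w.2) v.2, h2⟩
    rw [hdisj, Subgroup.mem_bot] at h3
    apply Subtype.ext
    calc (v : B) = w * ((w : B)⁻¹ * v) := by group
      _ = w := by rw [h3, mul_one]
  have hsurj : Function.Surjective f := Finite.injective_iff_surjective.mp hinj
  obtain ⟨v, hv⟩ := hsurj ⟨u, hu⟩
  have h1 : t⁻¹ * (v : B) * t * (v : B)⁻¹ = u := congrArg Subtype.val hv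
  refine ⟨v, ?_⟩
  rw [← h1]; group

end Cfsg.Agent.S2521
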