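-- Statement S2522: every non-scalar element of SL(n, K), n ≥ 3, |K| ≥ 4, is a product of two
-- regular unipotent conjugates (Lev).  Design + assembly helper18; pieces by helpers 1, 4, 5, 13,
-- 15, 22, 25, 26 (see plans/S2522_plan.md).
import Cfsg.Statements.S2522
import Cfsg.Agent.Lib.Helper18.LevMain
import Cfsg.Agent.Lib.Helper18.LevTransv2

set_option autoImplicit false
open Cfsg

namespace Cfsg.Agent.S2522

/-- Let K be a field with at least four elements (finite or infinite), n ≥ 3, and J ∈ GL(n, K) the regular unipotent matrix (ones on the diagonal and the superdiagonal, zeros elsewhere). Then every non-scalar g ∈ GL(n, K) with det g = 1 is a product of two GL(n, K)-conjugates of J. -/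
theorem result {K : Type*} [Field K] (hK : 4 ≤ Cardinal.mk K) (n : ℕ) (hn : 3 ≤ n) (J g : GL (Fin n) K)
    (hJ : ∀ i j : Fin n, (J : Matrix (Fin n) (Fin n) K) i j = if i = j then 1 else if j.val = i.val + 1 then 1 else 0)
    (hg : ¬ ∃ c : K, (g : Matrix (Fin n) (Fin n) K) = c • (1 : Matrix (Fin n) (Fin n) K))
    (hdet : (g : Matrix (Fin n) (Fin n) K).det = 1) :
    ∃ x y : GL (Fin n) K, g = (x * J * x⁻¹) * (y * J * y⁻¹) := by
  refine Cfsg.Agent.Helper18.Lev.top_of_transv hK n hn J g hJ hg hdet ?_
  intro gl hd hr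
  have hfr : Module.finrank K (Fin n → K) = n := by simp
  have h := Cfsg.Agent.Helper18.Lev.transvh_case (K := K) (V := Fin n → K)
    (by rw [hfr]; exact hn) gl hd hr
  rwa [hfr] at h

end Cfsg.Agent.S2522
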