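import Mathlib
import Cfsg.Statements.S2532
import Cfsg.Agent.Lib.Helper13.CentralizingHom

set_option autoImplicit false
open Cfsg

namespace Cfsg.Agent.S2532

open Cfsg.Agent.Helper13

/-- a hom from a symmetric group to `{±1}` is trivial on the alternating group -/
theorem hom_trivial_on_alt {r : ℕ} (s : Equiv.Perm (Fin r) →* ℤˣ) :
    ∀ σ ∈ alternatingGroup (Fin r), s σ = 1 := by
  have hle : alternatingGroup (Fin r) ≤ s.ker := by
    rw [← Equiv.Perm.closure_three_cycles_eq_alternating, Subgroup.closure_le]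
    intro c hc
    have hc3 : c ^ 3 = 1 := by
      rw [← Equiv.Perm.IsThreeCycle.orderOf hc]; exact pow_orderOf_eq_one c
    have h3 : s c ^ 3 = 1 := by rw [← map_pow, hc3, map_one]
    show s c = 1
    rcases Int.units_eq_one_or (s c) with h | h
    · exact h
    · rw [h] at h3
      exact absurd h3 (by decide)
  intro σ hσ
  exact hle hσ

theorem result :
    ∃ f : ℕ → ℕ → ℕ, ∀ (m r : ℕ) (H : Subgroup ↥(alternatingGroup (Fin m))), f (Nat.card H) r ≤ m →
      ∃ K : Subgroup ↥(alternatingGroup (Fin m)), Nonempty (↥K ≃* ↥(alternatingGroup (Fin r))) ∧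
        K ≤ Subgroup.centralizer (H : Set ↥(alternatingGroup (Fin m))) := by
  classical
  refine ⟨fun n r => n * (2 ^ n * r + 1), ?_⟩
  intro m r H hf
  have : Fintype H := Fintype.ofFinite H
  let φ : ↥H →* Equiv.Perm (Fin m) := (alternatingGroup (Fin m)).subtype.comp H.subtype
  let _ : MulAction ↥H (Fin m) := MulAction.compHom (Fin m) φ
  have hsmul : ∀ (h : ↥H) (y : Fin m), h • y = ((h : alternatingGroup (Fin m)) : Equiv.Perm (Fin m)) y :=
    fun h y => rfl
  have hcard : Fintype.card H * (2 ^ Fintype.card H * r + 1) ≤ Fintype.card (Fin m) := by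
    rw [Fintype.card_fin, ← Nat.card_eq_fintype_card]
    exact hf
  obtain ⟨π, hπinj, hπcomm⟩ := exists_centralizing_hom (H := ↥H) (X := Fin m) r hcard
  have hsign : ∀ σ : alternatingGroup (Fin r), π σ ∈ alternatingGroup (Fin m) := by
    intro σ
    rw [Equiv.Perm.mem_alternatingGroup]
    exact hom_trivial_on_alt (Equiv.Perm.sign.comp π) σ.1 σ.2
  let π' : alternatingGroup (Fin r) →* alternatingGroup (Fin m) :=
    (π.comp (alternatingGroup (Fin r)).subtype).codRestrict (alternatingGroup (Fin m)) hsign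
  have hπ'inj : Function.Injective π' := by
    intro a b hab
    have : π a = π b := congrArg Subtype.val hab
    exact Subtype.ext (hπinj this)
  refine ⟨π'.range, ⟨(MonoidHom.ofInjective hπ'inj).symm⟩, ?_⟩
  rintro k ⟨σ, rfl⟩
  rw [Subgroup.mem_centralizer_iff]
  intro h hh
  apply Subtype.ext
  apply Equiv.ext
  intro y
  show (h : Equiv.Perm (Fin m)) (π σ y) = π σ ((h : Equiv.Perm (Fin m)) y)
  have := hπcomm σ ⟨h, hh⟩ y
  rw [hsmul, hsmul] at this
  exact this.symm

end Cfsg.Agent.S2532
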