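import Mathlib
import Cfsg.Statements.S2533
import Cfsg.Agent.Lib.Helper12.KronRep3

set_option autoImplicit false
open Cfsg

namespace Cfsg.Agent.S2533

open Matrix Cfsg.Agent.Helper12.KronRep

/-- The action of `ℤˣ` on a commutative group by powers. -/
def invAct (A : Type*) [CommGroup A] : ℤˣ →* MulAut A where
  toFun u :=
    { toFun := fun a => a ^ (u : ℤ)
      invFun := fun a => a ^ (u : ℤ)
      left_inv := fun a => by
        show (a ^ (u : ℤ)) ^ (u : ℤ) = a
        rw [← _root_.zpow_mul, ← Units.val_mul, Int.units_mul_self, Units.val_one, zpow_one]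
      right_inv := fun a => by
        show (a ^ (u : ℤ)) ^ (u : ℤ) = a
        rw [← _root_.zpow_mul, ← Units.val_mul, Int.units_mul_self, Units.val_one, zpow_one]
      map_mul' := fun a b => mul_zpow a b _ }
  map_one' := by
    ext a
    show a ^ ((1 : ℤˣ) : ℤ) = a
    rw [Units.val_one, zpow_one]
  map_mul' u v := by
    ext a
    show a ^ ((u * v : ℤˣ) : ℤ) = (a ^ (v : ℤ)) ^ (u : ℤ)
    rw [← _root_.zpow_mul, Units.val_mul, mul_comm]

theorem invAct_apply (A : Type*) [CommGroup A] (u : ℤˣ) (a : A) :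
    invAct A u a = a ^ (u : ℤ) := rfl

/-- The group `C_p^3 ⋊ C_2`. -/
abbrev HG (p : ℕ) : Type := Multiplicative (Fin 3 → ZMod p) ⋊[invAct _] ℤˣ

theorem card_HG (p : ℕ) [Fact p.Prime] : Nat.card (HG p) = 2 * p ^ 3 := by
  rw [SemidirectProduct.card, Nat.card_eq_fintype_card, Nat.card_eq_fintype_card,
    Fintype.card_units_int, Fintype.card_multiplicative, Fintype.card_fun, ZMod.card,
    Fintype.card_fin, mul_comm]

variable {p : ℕ} [Fact p.Prime] {m : ℕ}

/-- the unipotent part. -/
def f1 (p m : ℕ) [Fact p.Prime] :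
    Multiplicative (Fin 3 → ZMod p) →* SpecialLinearGroup (Idx m) (ZMod p) where
  toFun a := ⟨U m (Multiplicative.toAdd a), det_U _⟩
  map_one' := by
    apply Subtype.ext
    show U m (Multiplicative.toAdd (1 : Multiplicative (Fin 3 → ZMod p))) = 1
    rw [toAdd_one, U_zero]
  map_mul' a b := by
    apply Subtype.ext
    show U m (Multiplicative.toAdd (a * b)) = U m (Multiplicative.toAdd a) * U m (Multiplicative.toAdd b)
    rw [toAdd_mul, U_mul]

theorem unit_cast_pow (p : ℕ) (u : ℤˣ) {k : ℕ} (hk : Even k) :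
    (((u : ℤ) : ZMod p)) ^ k = 1 := by
  obtain ⟨j, rfl⟩ := hk
  rw [← two_mul, pow_mul, ← Int.cast_pow, ← Units.val_pow_eq_pow_val, Int.units_sq, Units.val_one,
    Int.cast_one, one_pow]

/-- the involution part. -/
def f2 (p m : ℕ) [Fact p.Prime] (hm : Even (m + 1)) :
    ℤˣ →* SpecialLinearGroup (Idx m) (ZMod p) where
  toFun u := ⟨T m (((u : ℤ) : ZMod p)), by rw [det_T, unit_cast_pow p u hm]⟩
  map_one' := by
    apply Subtype.ext
    show T m ((((1 : ℤˣ) : ℤ) : ZMod p)) = 1
    rw [Units.val_one, Int.cast_one, T_one]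
  map_mul' u v := by
    apply Subtype.ext
    show T m ((((u * v : ℤˣ) : ℤ) : ZMod p)) = T m (((u : ℤ) : ZMod p)) * T m (((v : ℤ) : ZMod p))
    rw [T_mul, Units.val_mul, Int.cast_mul]

theorem f_compat (p m : ℕ) [Fact p.Prime] (hm : Even (m + 1)) (u : ℤˣ) :
    (f1 p m).comp (invAct (Multiplicative (Fin 3 → ZMod p)) u).toMonoidHom =
      (MulAut.conj (f2 p m hm u)).toMonoidHom.comp (f1 p m) := by
  apply MonoidHom.ext
  intro a
  simp only [MonoidHom.comp_apply, MulEquiv.coe_toMonoidHom, MulAut.conj_apply]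
  rw [eq_mul_inv_iff_mul_eq]
  apply Subtype.ext
  show U m (Multiplicative.toAdd (a ^ (u : ℤ))) * T m (((u : ℤ) : ZMod p)) =
    T m (((u : ℤ) : ZMod p)) * U m (Multiplicative.toAdd a)
  rw [T_mul_U, toAdd_zpow]
  congr 2
  funext k
  simp [zsmul_eq_mul]

/-- the representation into `SL`. -/
def fSL (p m : ℕ) [Fact p.Prime] (hm : Even (m + 1)) :
    HG p →* SpecialLinearGroup (Idx m) (ZMod p) :=
  SemidirectProduct.lift (f1 p m) (f2 p m hm) (f_compat p m hm)

theorem fSL_val (hm : Even (m + 1)) (x : HG p) :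
    (fSL p m hm x).1 = U m (Multiplicative.toAdd x.left) * T m (((x.right : ℤ) : ZMod p)) := rfl

theorem unit_cast_eq_one (hp : p ≠ 2) (u : ℤˣ) (h : (((u : ℤ) : ZMod p)) = 1) : u = 1 := by
  rcases Int.units_eq_one_or u with h1 | h1
  · exact h1
  · exfalso
    rw [h1] at h
    simp only [Units.val_neg, Units.val_one, Int.cast_neg, Int.cast_one] at h
    have h2 : ((2 : ℕ) : ZMod p) = 0 := by
      push_cast
      linear_combination -h
    rw [ZMod.natCast_eq_zero_iff] at h2
    exact hp ((Nat.prime_dvd_prime_iff_eq (Fact.out : p.Prime) Nat.prime_two).mp h2)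

theorem eq_one_of_scalar (hp : p ≠ 2) (hm2 : 2 ≤ m) (hm : Even (m + 1)) (x : HG p) (r : ZMod p)
    (h : (fSL p m hm x).1 = r • (1 : Matrix (Idx m) (Idx m) (ZMod p))) : x = 1 := by
  rw [fSL_val] at h
  obtain ⟨h1, h2⟩ := eq_of_scalar hm2 _ _ r h
  apply SemidirectProduct.ext
  · exact h1
  · exact unit_cast_eq_one hp _ h2

/-- the representation into `PSL`. -/
def fPSL (p m : ℕ) [Fact p.Prime] (hm : Even (m + 1)) :
    HG p →* ProjectiveSpecialLinearGroup (Idx m) (ZMod p) :=
  (QuotientGroup.mk' (Subgroup.center (SpecialLinearGroup (Idx m) (ZMod p)))).comp (fSL p m hm)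

theorem fPSL_injective (hp : p ≠ 2) (hm2 : 2 ≤ m) (hm : Even (m + 1)) :
    Function.Injective (fPSL p m hm) := by
  rw [injective_iff_map_eq_one]
  intro x hx
  have h1 : fSL p m hm x ∈ Subgroup.center (SpecialLinearGroup (Idx m) (ZMod p)) := by
    rw [← QuotientGroup.eq_one_iff]
    exact hx
  obtain ⟨r, -, hr⟩ := Matrix.SpecialLinearGroup.mem_center_iff.mp h1
  refine eq_one_of_scalar hp hm2 hm x r ?_
  rw [← hr, Matrix.smul_one_eq_diagonal]
  rfl

theorem centralizer_fPSL (hp : p ≠ 2) (hm2 : 2 ≤ m) (hm : Even (m + 1)) :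
    Subgroup.centralizer ((fPSL p m hm).range :
      Set (ProjectiveSpecialLinearGroup (Idx m) (ZMod p))) = ⊥ := by
  rw [eq_bot_iff]
  intro y hy
  rw [Subgroup.mem_bot]
  obtain ⟨g, rfl⟩ := QuotientGroup.mk_surjective y
  rw [Subgroup.mem_centralizer_iff] at hy
  -- lift the commutation relations
  have key : ∀ x : HG p, ∃ c : ZMod p,
      (fSL p m hm x).1 * g.1 = c • (g.1 * (fSL p m hm x).1) := by
    intro x
    have h1 := hy (fPSL p m hm x) ⟨x, rfl⟩
    have h2 : (g * fSL p m hm x)⁻¹ * (fSL p m hm x * g) ∈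
        Subgroup.center (SpecialLinearGroup (Idx m) (ZMod p)) := by
      rw [← QuotientGroup.eq]
      exact h1.symm
    obtain ⟨r, -, hr⟩ := Matrix.SpecialLinearGroup.mem_center_iff.mp h2
    refine ⟨r, ?_⟩
    have h3 : fSL p m hm x * g = (g * fSL p m hm x) * ((g * fSL p m hm x)⁻¹ * (fSL p m hm x * g)) := by
      group
    have h4 := congrArg Subtype.val h3
    rw [Matrix.SpecialLinearGroup.coe_mul, Matrix.SpecialLinearGroup.coe_mul (g * fSL p m hm x), ← hr,
      Matrix.SpecialLinearGroup.coe_mul] at h4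
    rw [h4]
    show _ * (Matrix.scalar (Idx m) r) = _
    rw [Matrix.scalar_apply, ← Matrix.smul_one_eq_diagonal, Matrix.mul_smul, Matrix.mul_one]
  have hU : ∀ v : Fin 3 → ZMod p, ∃ c : ZMod p, U m v * g.1 = c • (g.1 * U m v) := by
    intro v
    obtain ⟨c, hc⟩ := key ⟨Multiplicative.ofAdd v, 1⟩
    refine ⟨c, ?_⟩
    rw [fSL_val] at hc
    simpa [T_one] using hc
  have hT : ∃ c : ZMod p, T m (-1) * g.1 = c • (g.1 * T m (-1)) := by
    obtain ⟨c, hc⟩ := key ⟨1, -1⟩
    refine ⟨c, ?_⟩
    rw [fSL_val] at hc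
    simpa [U_zero] using hc
  obtain ⟨a, ha⟩ := scalar_of_proj_commute p hp (by omega) g.1 g.2 hU hT
  rw [QuotientGroup.eq_one_iff, Matrix.SpecialLinearGroup.mem_center_iff]
  refine ⟨a, ?_, ?_⟩
  · have := g.2
    rw [ha, Matrix.det_smul, Matrix.det_one, mul_one] at this
    exact this
  · rw [Matrix.scalar_apply, ← Matrix.smul_one_eq_diagonal, ← ha]

section Reindex

variable {ι κ R : Type*} [Fintype ι] [DecidableEq ι] [Fintype κ] [DecidableEq κ] [CommRing R]

/-- reindexing isomorphism between special linear groups. -/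
def slReidx (e : ι ≃ κ) : SpecialLinearGroup ι R ≃* SpecialLinearGroup κ R where
  toFun A := ⟨Matrix.reindex e e A.1, by rw [Matrix.det_reindex_self]; exact A.2⟩
  invFun A := ⟨Matrix.reindex e.symm e.symm A.1, by rw [Matrix.det_reindex_self]; exact A.2⟩
  left_inv A := by
    apply Subtype.ext
    simp
  right_inv A := by
    apply Subtype.ext
    simp
  map_mul' A B := by
    apply Subtype.ext
    show Matrix.reindex e e (A.1 * B.1) = Matrix.reindex e e A.1 * Matrix.reindex e e B.1
    rw [Matrix.reindex_apply, Matrix.reindex_apply, Matrix.reindex_apply,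
      Matrix.submatrix_mul_equiv]

theorem map_center {G G' : Type*} [Group G] [Group G'] (e : G ≃* G') :
    (Subgroup.center G).map e.toMonoidHom = Subgroup.center G' := by
  ext y
  rw [Subgroup.mem_map, Subgroup.mem_center_iff]
  constructor
  · rintro ⟨x, hx, rfl⟩ g
    rw [Subgroup.mem_center_iff] at hx
    have := congrArg e (hx (e.symm g))
    simpa using this
  · intro hy
    refine ⟨e.symm y, ?_, by simp⟩
    rw [Subgroup.mem_center_iff]
    intro g
    apply e.injective
    simpa using hy (e g)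

/-- reindexing isomorphism between projective special linear groups. -/
noncomputable def pslReidx (e : ι ≃ κ) :
    ProjectiveSpecialLinearGroup ι R ≃* ProjectiveSpecialLinearGroup κ R :=
  QuotientGroup.congr _ _ (slReidx e) (map_center (slReidx e))

end Reindex

theorem transport {H G G' : Type*} [Group H] [Group G] [Group G'] (e : G ≃* G') (φ : H →* G)
    (hinj : Function.Injective φ) (hc : Subgroup.centralizer (φ.range : Set G) = ⊥) :
    ∃ ψ : H →* G', Function.Injective ψ ∧ Subgroup.centralizer (ψ.range : Set G') = ⊥ := by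
  refine ⟨e.toMonoidHom.comp φ, e.injective.comp hinj, ?_⟩
  rw [eq_bot_iff]
  intro y hy
  rw [Subgroup.mem_bot]
  rw [Subgroup.mem_centralizer_iff] at hy
  have h1 : e.symm y ∈ Subgroup.centralizer (φ.range : Set G) := by
    rw [Subgroup.mem_centralizer_iff]
    rintro _ ⟨x, rfl⟩
    have := hy (e (φ x)) ⟨x, rfl⟩
    apply e.injective
    simpa using this
  rw [hc, Subgroup.mem_bot] at h1
  simpa using h1

/-- For every odd prime `p` there is a finite group `H` of order `2p³` which, for infinitely many `n`, embeds in the projective special linear group `PSL(n, p)` as a subgroup with trivial centralizer. -/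
theorem result
    (p : ℕ) [Fact p.Prime] (hp : p ≠ 2) :
    ∃ (H : Type) (_ : Group H) (_ : Finite H), Nat.card H = 2 * p ^ 3 ∧
      ∀ N : ℕ, ∃ n, N ≤ n ∧ ∃ φ : H →* Matrix.ProjectiveSpecialLinearGroup (Fin n) (ZMod p),
        Function.Injective φ ∧ Subgroup.centralizer (φ.range : Set (Matrix.ProjectiveSpecialLinearGroup (Fin n) (ZMod p))) = ⊥ := by
  have hfin : Finite (HG p) := Finite.of_equiv _ SemidirectProduct.equivProd.symm
  refine ⟨HG p, inferInstance, hfin, card_HG p, ?_⟩
  intro N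
  have hm : Even (2 * N + 3 + 1) := ⟨N + 2, by ring⟩
  refine ⟨(2 * N + 3) + (2 * N + 3 + 1), by omega, ?_⟩
  exact transport (pslReidx (finSumFinEquiv : Idx (2 * N + 3) ≃ Fin ((2 * N + 3) + (2 * N + 3 + 1))))
    (fPSL p (2 * N + 3) hm) (fPSL_injective hp (by omega) hm) (centralizer_fPSL hp (by omega) hm)

end Cfsg.Agent.S2533
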