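import Cfsg.Statements.S2534
import Cfsg.Agent.Lib.Helper8.HDMain

set_option autoImplicit false
open Cfsg

namespace Cfsg.Agent.S2534

open Cfsg.Agent.Helper8.HS

/-- For `n ≥ 5` and a set of primes `π`, the alternating group of degree `n` satisfies the full Sylow analogue for `π` (its maximal `π`-subgroups are pairwise conjugate; for a finite group this says Hall `π`-subgroups exist, are all conjugate, and contain every `π`-subgroup up to conjugacy) if and only if either at most one prime of `π` divides its order or every prime dividing its order lies in `π`. -/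
theorem result (n : ℕ) (hn : 5 ≤ n) (π : Set ℕ) :
    Cfsg.IsDPiGroup π ↥(alternatingGroup (Fin n)) ↔
      ((∀ r s : ℕ, r.Prime → s.Prime → r ∈ π → s ∈ π → r ∣ Nat.card ↥(alternatingGroup (Fin n)) → s ∣ Nat.card ↥(alternatingGroup (Fin n)) → r = s) ∨
        ∀ r : ℕ, r.Prime → r ∣ Nat.card ↥(alternatingGroup (Fin n)) → r ∈ π) := by
  have hcard : Fintype.card (Fin n) = n := Fintype.card_fin n
  have hdvd : ∀ {r : ℕ}, r.Prime → (r ∣ Nat.card ↥(alternatingGroup (Fin n)) ↔ r ≤ n) := by
    intro r hr
    rw [prime_dvd_card_alt_iff (by omega) hr, hcard]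
  constructor
  · intro hD
    by_contra hcon
    push Not at hcon
    obtain ⟨⟨r, s, hr, hs, hrπ, hsπ, hrd, hsd, hrs⟩, ⟨t, ht, htd, htπ⟩⟩ := hcon
    apply not_dpi_alt hn hD
    · intro h
      exact hrs (h r s ⟨hr, hrπ, (hdvd hr).mp hrd⟩ ⟨hs, hsπ, (hdvd hs).mp hsd⟩)
    · intro h
      exact htπ (h t ht ((hdvd ht).mp htd))
  · rintro (h | h)
    · exact dpi_of_atMostOne_dvd h
    · exact dpi_of_all_dvd h

end Cfsg.Agent.S2534
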