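import Cfsg.Statements.S2536
import Cfsg.Agent.Lib.Helper8.HSMain
import Cfsg.Agent.Lib.Helper8.HSEx

set_option autoImplicit false
open Cfsg

namespace Cfsg.Agent.S2536

open Cfsg.Agent.Helper8.HS

/-- Let `π` be a set of primes and `n` a natural number such that at least two primes of `π` divide `n!` but not every prime dividing `n!` lies in `π`. Then the symmetric group of degree `n` has a Hall `π`-subgroup if and only if either `n` is prime and the primes of `π` dividing `n!` are exactly the primes smaller than `n` (a point stabilizer is then such a subgroup), or `n ∈ {7, 8}` and the primes of `π` dividing `n!` are exactly 2 and 3. -/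
theorem result (n : ℕ) (π : Set ℕ)
    (h2 : ∃ r s : ℕ, r.Prime ∧ s.Prime ∧ r ≠ s ∧ r ∈ π ∧ s ∈ π ∧ r ≤ n ∧ s ≤ n)
    (hns : ∃ r : ℕ, r.Prime ∧ r ≤ n ∧ r ∉ π) :
    Cfsg.IsEPiGroup π (Equiv.Perm (Fin n)) ↔
      ((n.Prime ∧ ∀ r : ℕ, r.Prime → r ≤ n → (r ∈ π ↔ r < n)) ∨
       ((n = 7 ∨ n = 8) ∧ ∀ r : ℕ, r.Prime → r ≤ n → (r ∈ π ↔ (r = 2 ∨ r = 3)))) := by
  have hcard : Fintype.card (Fin n) = n := Fintype.card_fin n
  constructor
  · rintro ⟨H, hH⟩
    have hc := hall_classify hH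
    rw [Concl, hcard] at hc
    rcases hc with c1 | ⟨c2, -⟩ | c3 | c4 | c5
    · exfalso
      obtain ⟨r, s, hr, hs, hrs, hrπ, hsπ, hrn, hsn⟩ := h2
      exact hrs (c1 r s ⟨hr, hrπ, hrn⟩ ⟨hs, hsπ, hsn⟩)
    · exfalso
      obtain ⟨r, hr, hrn, hrπ⟩ := hns
      exact hrπ (c2 r hr hrn)
    · obtain ⟨hp, hπ, -⟩ := c3
      rw [hcard] at hp hπ
      exact Or.inl ⟨hp, hπ⟩
    · obtain ⟨h7, hπ, -⟩ := c4
      rw [hcard] at h7
      subst h7
      exact Or.inr ⟨Or.inl rfl, hπ⟩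
    · obtain ⟨h8, hπ, -⟩ := c5
      rw [hcard] at h8
      subst h8
      exact Or.inr ⟨Or.inr rfl, hπ⟩
  · rintro (⟨hp, hπ⟩ | ⟨h78, hπ⟩)
    · obtain ⟨H, hH⟩ := exists_isT3 (Ω := Fin n) π (by rw [hcard]; exact hp)
        (by rw [hcard]; exact hπ)
      exact ⟨H, isPiHall_of_isT3 hH⟩
    · rcases h78 with rfl | rfl
      · obtain ⟨H, hH⟩ := exists_isT4 (Ω := Fin 7) π (by simp) hπ
        exact ⟨H, isPiHall_of_isT4 hH⟩
      · obtain ⟨H, hH⟩ := exists_isT5 (Ω := Fin 8) π (by simp) hπ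
        exact ⟨H, isPiHall_of_isT5 hH⟩

end Cfsg.Agent.S2536
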