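import Mathlib
import Cfsg.Statements.S2537
import Cfsg.Agent.S0802
import Cfsg.Agent.S0803
import Cfsg.Agent.S0811
import Cfsg.Agent.S0812
import Cfsg.Agent.Lib.Helper12.PSL2Max3
import Cfsg.Agent.Lib.Helper13.DicksonCor4

set_option autoImplicit false
open Cfsg

namespace Cfsg.Agent.S2537

/-- Let `F` be a finite field with `q` elements of characteristic `p ≥ 5`, and `ε = 1` if `q ≡ 1 (mod 4)`, `ε = -1` otherwise. Then `PSL(2, F)` has a Hall `{2, 3}`-subgroup if and only if `3` divides `q − ε`, or the `{2,3}`-part of `q² − 1` is 24, or the `{2,3}`-part of `q² − 1` is 48 (the `{2,3}`-part of `m` being the largest divisor of `m` with no prime factor other than 2 and 3). -/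
theorem result {F : Type*} [Field F] [Fintype F] {p : ℕ} [Fact p.Prime] [CharP F p]
    (hp : 5 ≤ p) (q : ℕ) (hq : Fintype.card F = q) :
    (∃ H : Subgroup (Matrix.ProjectiveSpecialLinearGroup (Fin 2) F), Cfsg.IsPiHall ({2, 3} : Set ℕ) H) ↔
      (3 ∣ q - 1 ∧ q % 4 = 1) ∨ (3 ∣ q + 1 ∧ q % 4 = 3) ∨
        2 ^ (q ^ 2 - 1).factorization 2 * 3 ^ (q ^ 2 - 1).factorization 3 = 24 ∨
        2 ^ (q ^ 2 - 1).factorization 2 * 3 ^ (q ^ 2 - 1).factorization 3 = 48 := by
  classical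
  have hpp : p.Prime := Fact.out
  obtain ⟨n, -, hn⟩ := FiniteField.card F p
  rw [hq] at hn
  obtain ⟨hq5, h2q, h3q, a, b, M', ha, hb, hM, h2M, h3M, ha3, hb1⟩ :=
    Cfsg.Agent.Helper13.DC.setup23 hpp hp n.ne_zero hn
  rw [← ha, ← hb]
  have hqodd : Odd q := by rw [Nat.odd_iff]; omega
  have hG := Cfsg.Agent.Helper12.PSL2Max.card_PSL2_mul' F hq
  rw [Cfsg.Agent.Helper12.PSL2Max.gcd_two_odd hqodd] at hG
  have hMM : (q - 1) * (q + 1) = q ^ 2 - 1 := by
    obtain ⟨t, ht⟩ : ∃ t, q = t + 1 := ⟨q - 1, by omega⟩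
    rw [ht, Nat.add_sub_cancel]
    have : (t + 1) ^ 2 = t * (t + 1 + 1) + 1 := by ring
    rw [this, Nat.add_sub_cancel]
  have hG' : 2 * Nat.card (Matrix.ProjectiveSpecialLinearGroup (Fin 2) F) =
      q * (2 ^ a * 3 ^ b * M') := by rw [hG, mul_assoc, hMM, hM]
  have hall := fun H => Cfsg.Agent.Helper13.DC.hall23_iff hG' h2q h3q h2M h3M H
  obtain ⟨c, hc⟩ : ∃ c, c = 2 ^ (a - 1) * 3 ^ b := ⟨_, rfl⟩
  have hN : 2 ^ a * 3 ^ b = 2 * c := by
    obtain ⟨a', rfl⟩ : ∃ a', a = a' + 1 := ⟨a - 1, by omega⟩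
    rw [hc, Nat.add_sub_cancel]; ring
  have h12 : 12 ∣ c := by
    obtain ⟨a', rfl⟩ : ∃ a', a = a' + 3 := ⟨a - 3, by omega⟩
    obtain ⟨b', rfl⟩ : ∃ b', b = b' + 1 := ⟨b - 1, by omega⟩
    refine ⟨2 ^ a' * 3 ^ b', ?_⟩
    rw [hc]
    have : a' + 3 - 1 = a' + 2 := by omega
    rw [this]; ring
  have hcpos : 0 < c := by rw [hc]; positivity
  have hcprime : ∀ r : ℕ, r.Prime → r ∣ c → r = 2 ∨ r = 3 := by
    intro r hr hrc
    rw [hc] at hrc
    exact Cfsg.Agent.Helper13.DC.prime_dvd_23 hr hrc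
  rw [hN] at hM
  constructor
  · rintro ⟨H, hH⟩
    have hcH : Nat.card H = c := by
      have := (hall H).1 hH
      rw [hN] at this
      omega
    have hpH : ¬ p ∣ Nat.card H := by
      intro h
      have := hH.1 p hpp h
      have : p = 2 ∨ p = 3 := by simpa using this
      omega
    obtain ⟨s, hq1, hs⟩ : ∃ s, q - 1 = 2 * s ∧ (q - 1) / 2 = s := ⟨(q - 1) / 2, by omega, rfl⟩
    obtain ⟨t, hq2, ht⟩ : ∃ t, q + 1 = 2 * t ∧ (q + 1) / 2 = t := ⟨(q + 1) / 2, by omega, rfl⟩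
    rcases Cfsg.Agent.Helper11.Dickson.dickson_refined hq p H with
      ⟨k, hk, (⟨-, hk'⟩ | ⟨⟨e⟩⟩)⟩ | ⟨hpd, -⟩ | ⟨⟨e⟩⟩ | ⟨⟨e⟩⟩ | ⟨⟨e⟩⟩ | ⟨K, _, _, m, hm, hK⟩
    · -- cyclic
      exfalso
      rw [Cfsg.Agent.Helper12.PSL2Max.gcd_two_odd hqodd, hs, ht] at hk
      rw [hcH] at hk'
      subst hk'
      rcases hk with ⟨u, hu⟩ | ⟨u, hu⟩
      · apply h2M
        refine ⟨s * u, ?_⟩
        apply Nat.eq_of_mul_eq_mul_left (by positivity : 0 < 2 * c)
        rw [← hM, ← hMM, hq1, hq2, hu]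
        ring
      · apply h2M
        refine ⟨t * u, ?_⟩
        apply Nat.eq_of_mul_eq_mul_left (by positivity : 0 < 2 * c)
        rw [← hM, ← hMM, hq1, hq2, hu]
        ring
    · -- dihedral
      rw [Cfsg.Agent.Helper12.PSL2Max.gcd_two_odd hqodd, hs, ht] at hk
      have h2k : c = 2 * k := by
        rw [← hcH, Nat.card_congr e.toEquiv, DihedralGroup.nat_card]
      rcases hk with ⟨u, hu⟩ | ⟨u, hu⟩
      · right; left
        have h12' : 12 ∣ q + 1 := by
          rw [hq2, hu, ← mul_assoc, ← h2k]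
          exact Dvd.dvd.mul_right h12 u
        constructor <;> omega
      · left
        have h12' : 12 ∣ q - 1 := by
          rw [hq1, hu, ← mul_assoc, ← h2k]
          exact Dvd.dvd.mul_right h12 u
        constructor <;> omega
    · exact (hpH hpd).elim
    · right; right; left
      rw [hN, ← hcH, Nat.card_congr e.toEquiv, Cfsg.Agent.Helper12.PSL2Max.card_A4]
    · right; right; right
      rw [hN, ← hcH, Nat.card_congr e.toEquiv, Cfsg.Agent.Helper12.PSL2Max.card_S4]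
    · exfalso
      have h5 : 5 ∣ Nat.card H := by
        rw [Nat.card_congr e.toEquiv, Cfsg.Agent.Helper12.PSL2Max.card_A5]; norm_num
      have := hH.1 5 Nat.prime_five h5
      simp at this
    · exfalso
      have hk2 : 2 ≤ Fintype.card K := Fintype.one_lt_card
      have hm0 : m ≠ 0 := by
        rintro rfl
        rw [pow_zero] at hm
        omega
      have hpK : p ∣ Fintype.card K := by
        have h1 : (Fintype.card K).minFac ∣ p ^ (n : ℕ) := by
          rw [← hn, ← hm]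
          exact (Nat.minFac_dvd _).trans (dvd_pow_self _ hm0)
        have hmp : (Fintype.card K).minFac.Prime := Nat.minFac_prime (by omega)
        have h2 := (Nat.prime_dvd_prime_iff_eq hmp hpp).1 (hmp.dvd_of_dvd_pow h1)
        rw [← h2]; exact Nat.minFac_dvd _
      rcases hK with ⟨⟨e⟩⟩ | ⟨⟨e⟩⟩
      · have h1 := Cfsg.Agent.Helper12.PSL2Max.card_PSL2_mul' K rfl
        rw [← Nat.card_congr e.toEquiv] at h1
        have h2 : p ∣ Nat.gcd 2 (Fintype.card K - 1) * Nat.card H := by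
          rw [h1, mul_assoc]; exact Dvd.dvd.mul_right hpK _
        rcases (Nat.Prime.dvd_mul hpp).1 h2 with h | h
        · have := Nat.le_of_dvd (by norm_num) (h.trans (Nat.gcd_dvd_left _ _))
          omega
        · exact hpH h
      · have h1 := Cfsg.Agent.Helper12.PSL2Max.card_PGL2' K rfl
        rw [← Nat.card_congr e.toEquiv] at h1
        apply hpH
        rw [h1, mul_assoc]; exact Dvd.dvd.mul_right hpK _
  · have hfin : ∀ H : Subgroup (Matrix.ProjectiveSpecialLinearGroup (Fin 2) F), Nat.card H = c →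
        ∃ H : Subgroup (Matrix.ProjectiveSpecialLinearGroup (Fin 2) F),
          Cfsg.IsPiHall ({2, 3} : Set ℕ) H := by
      intro H hH
      exact ⟨H, (hall H).2 (by rw [hH, hN])⟩
    rintro (⟨h3, h4⟩ | ⟨h3, h4⟩ | h | h)
    · have hq13 : q ∉ ({2, 3, 5, 7, 9, 11} : Finset ℕ) := by
        simp only [Finset.mem_insert, Finset.mem_singleton, not_or]
        omega
      obtain ⟨D, -, ⟨e⟩⟩ := Cfsg.Agent.S0812.result hq hq13
      rw [Cfsg.Agent.Helper12.PSL2Max.gcd_two_odd hqodd] at e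
      obtain ⟨n', hn', hcop⟩ := Cfsg.Agent.Helper13.DC.split_arith (x := q - 1) (y := q + 1)
        (by rw [hMM, hM]) (by omega) (by omega) hcprime h2M h3M hcpos
      obtain ⟨H, hH⟩ := Cfsg.Agent.Helper13.DC.exists_sub_of_dihedral D _ e c n'
        (by rw [← hn']; omega) hcop
      exact hfin H hH
    · have hq13 : q ∉ ({2, 7, 9} : Finset ℕ) := by
        simp only [Finset.mem_insert, Finset.mem_singleton, not_or]
        omega
      obtain ⟨D, -, ⟨e⟩⟩ := Cfsg.Agent.S0811.result hq hq13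
      rw [Cfsg.Agent.Helper12.PSL2Max.gcd_two_odd hqodd] at e
      obtain ⟨n', hn', hcop⟩ := Cfsg.Agent.Helper13.DC.split_arith (x := q + 1) (y := q - 1)
        (by rw [mul_comm, hMM, hM]) (by omega) (by omega) hcprime h2M h3M hcpos
      obtain ⟨H, hH⟩ := Cfsg.Agent.Helper13.DC.exists_sub_of_dihedral D _ e c n'
        (by rw [← hn']; omega) hcop
      exact hfin H hH
    · obtain ⟨H, ⟨e⟩⟩ := (Cfsg.Agent.S0802.result (F := F) p n (by rw [hq]; exact hn)).2
        (by rintro ⟨h', _⟩; omega)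
      apply hfin H
      rw [Nat.card_congr e.toEquiv, Cfsg.Agent.Helper12.PSL2Max.card_A4]
      omega
    · have h16 : q ^ 2 % 16 = 1 := by
        have h1 : 16 ∣ q ^ 2 - 1 := by
          rw [hM, ← hN, h]
          exact Dvd.dvd.mul_right (by norm_num) M'
        have : 5 ^ 2 ≤ q ^ 2 := Nat.pow_le_pow_left hq5 2
        omega
      obtain ⟨H, ⟨e⟩⟩ := (Cfsg.Agent.S0803.result hq).2 h16
      apply hfin H
      rw [Nat.card_congr e.toEquiv, Cfsg.Agent.Helper12.PSL2Max.card_S4]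
      omega

end Cfsg.Agent.S2537
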