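import Cfsg.Statements.S2538
import Cfsg.Agent.Lib.Helper8.HAMain
import Cfsg.Agent.Lib.Helper8.HCGen
import Cfsg.Agent.Lib.Helper8.HCTransp

set_option autoImplicit false
open Cfsg

namespace Cfsg.Agent.S2538

open Cfsg.Agent.Helper8.HS

/-- For every `n` and every set of primes `π`, a subgroup of the alternating group of degree `n` is a Hall `π`-subgroup of it if and only if it is the intersection with the alternating group of some Hall `π`-subgroup of the symmetric group of degree `n`. -/
theorem result (n : ℕ) (π : Set ℕ)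
    (M : Subgroup ↥(alternatingGroup (Fin n))) :
    Cfsg.IsPiHall π M ↔ ∃ M₀ : Subgroup (Equiv.Perm (Fin n)), Cfsg.IsPiHall π M₀ ∧ M = M₀.subgroupOf (alternatingGroup (Fin n)) := by
  constructor
  · intro hM
    have hM₁ : IsAltHall π (M.map (alternatingGroup (Fin n)).subtype) :=
      (isAltHall_map_subtype M).mp hM
    have hback : M = (M.map (alternatingGroup (Fin n)).subtype).subgroupOf
        (alternatingGroup (Fin n)) :=
      (Subgroup.comap_map_eq_self_of_injective
        (Subgroup.subtype_injective (alternatingGroup (Fin n))) M).symm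
    by_cases h : 2 ∉ π ∨ Fintype.card (Fin n) ≤ 1
    · exact ⟨_, isPiHall_of_isAltHall h hM₁, hback⟩
    · push Not at h
      obtain ⟨M₀, hM₀, hinf, -⟩ := exists_hall_sym_of_alt h.1 (by omega) hM₁
      refine ⟨M₀, hM₀, ?_⟩
      rw [← Subgroup.inf_subgroupOf_right, hinf]
      exact hback
  · rintro ⟨M₀, hM₀, rfl⟩
    exact isPiHall_subgroupOf_normal (alternatingGroup (Fin n)) hM₀

end Cfsg.Agent.S2538
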