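import Mathlib
import Cfsg.Statements.S2540
import Cfsg.Agent.Lib.Helper2.PSLSimple

set_option autoImplicit false
open Cfsg

namespace Cfsg.Agent.S2540

open Matrix

theorem comm_hom_aux {Γ : Type*} [Group Γ] (a b g : Γ)
    (hb : b * g * b⁻¹ * g⁻¹ ∈ Subgroup.center Γ) :
    (a * b) * g * (a * b)⁻¹ * g⁻¹ = (a * g * a⁻¹ * g⁻¹) * (b * g * b⁻¹ * g⁻¹) := by
  rw [Subgroup.mem_center_iff] at hb
  have e1 : (a * b) * g * (a * b)⁻¹ * g⁻¹ = a * (b * g * b⁻¹ * g⁻¹) * (g * a⁻¹ * g⁻¹) := by group
  rw [e1, mul_assoc a, ← hb (g * a⁻¹ * g⁻¹)]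
  group

theorem comm_central_aux {Γ : Type*} [Group Γ] (x y z w : Γ)
    (hz : z ∈ Subgroup.center Γ) (hw : w ∈ Subgroup.center Γ) :
    x * z * (y * w) * (x * z)⁻¹ * (y * w)⁻¹ = x * y * x⁻¹ * y⁻¹ := by
  rw [Subgroup.mem_center_iff] at hz hw
  have e1 : x * z * (y * w) * (x * z)⁻¹ * (y * w)⁻¹ = x * (z * y) * (w * (z⁻¹ * x⁻¹)) * w⁻¹ * y⁻¹ := by
    group
  rw [e1, ← hz y, ← hw (z⁻¹ * x⁻¹)]
  group

section
variable {F : Type*} [Field F] {n : ℕ}

/-- A matrix of `GL_n` commuting with (the images of) all elements of `SL_n` is scalar. -/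
theorem scalar_of_commute_SL (g : GL (Fin n) F)
    (h : ∀ s : SpecialLinearGroup (Fin n) F, SpecialLinearGroup.toGL s * g = g * SpecialLinearGroup.toGL s) :
    ∃ c : F, (g : Matrix (Fin n) (Fin n) F) = c • (1 : Matrix (Fin n) (Fin n) F) := by
  have hr : (g : Matrix (Fin n) (Fin n) F) ∈ Set.range (Matrix.scalar (Fin n)) := by
    refine Matrix.mem_range_scalar_of_commute_transvectionStruct fun t => ?_
    have := h t.toSpecialLinearGroup
    have h2 := congrArg (fun x : GL (Fin n) F => (x : Matrix (Fin n) (Fin n) F)) this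
    simpa [Commute, SemiconjBy] using h2
  obtain ⟨c, hc⟩ := hr
  refine ⟨c, ?_⟩
  rw [← hc]
  ext i j
  simp [Matrix.scalar_apply, Matrix.diagonal_apply, Matrix.one_apply]

/-- The core group-theoretic argument. -/
theorem main (hperf : commutator (SpecialLinearGroup (Fin n) F) = ⊤)
    (hsimple : IsSimpleGroup (ProjectiveSpecialLinearGroup (Fin n) F))
    (G : Subgroup (GL (Fin n) F))
    (hG : ∀ s : SpecialLinearGroup (Fin n) F, ∀ g ∈ G,
      (SpecialLinearGroup.toGL s) * g * (SpecialLinearGroup.toGL s)⁻¹ ∈ G) :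
    (∀ g ∈ G, ∃ c : F, (g : Matrix (Fin n) (Fin n) F) = c • (1 : Matrix (Fin n) (Fin n) F)) ∨
      (SpecialLinearGroup.toGL : SpecialLinearGroup (Fin n) F →* _).range ≤ G := by
  classical
  set S := SpecialLinearGroup (Fin n) F
  set toGL : S →* GL (Fin n) F := SpecialLinearGroup.toGL with htoGL
  -- the pullback of G to SL
  set G' : Subgroup S := G.comap toGL with hG'
  have hG'n : G'.Normal := by
    constructor
    intro x hx s
    rw [hG', Subgroup.mem_comap] at hx ⊢
    rw [map_mul, map_mul, map_inv]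
    exact hG s _ hx
  set π : S →* ProjectiveSpecialLinearGroup (Fin n) F := QuotientGroup.mk' (Subgroup.center S) with hπ
  have hπs : Function.Surjective π := QuotientGroup.mk'_surjective _
  have hQn : (G'.map π).Normal := hG'n.map π hπs
  rcases hQn.eq_bot_or_eq_top with hbot | htop
  · -- G' is central
    left
    have hcent : G' ≤ Subgroup.center S := by
      intro x hx
      have : π x ∈ G'.map π := Subgroup.mem_map_of_mem π hx
      rw [hbot, Subgroup.mem_bot, hπ, QuotientGroup.mk'_apply, QuotientGroup.eq_one_iff] at this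
      exact this
    intro g hg
    -- the commutator map s ↦ [s, g] lands in the center of GL
    have hcomm : ∀ s : S, toGL s * g * (toGL s)⁻¹ * g⁻¹ ∈ Subgroup.center (GL (Fin n) F) := by
      intro s
      have h1 : toGL s * g * (toGL s)⁻¹ * g⁻¹ ∈ G := G.mul_mem (hG s g hg) (G.inv_mem hg)
      -- it has determinant one
      have hdet : Matrix.GeneralLinearGroup.det (toGL s * g * (toGL s)⁻¹ * g⁻¹) = 1 := by
        rw [map_mul, map_mul, map_mul, map_inv, map_inv]
        have hab : ∀ a b : Fˣ, a * b * a⁻¹ * b⁻¹ = 1 := fun a b => by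
          rw [mul_comm a b, mul_assoc b, mul_inv_cancel, mul_one, mul_inv_cancel]
        exact hab _ _
      have hdet' : ((toGL s * g * (toGL s)⁻¹ * g⁻¹ : GL (Fin n) F) : Matrix (Fin n) (Fin n) F).det = 1 := by
        rw [← Matrix.GeneralLinearGroup.val_det_apply, hdet]; rfl
      set z : S := ⟨((toGL s * g * (toGL s)⁻¹ * g⁻¹ : GL (Fin n) F) : Matrix (Fin n) (Fin n) F), hdet'⟩ with hz
      have hzeq : toGL z = toGL s * g * (toGL s)⁻¹ * g⁻¹ := by
        apply Units.ext
        rfl
      have hzG' : z ∈ G' := by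
        rw [hG', Subgroup.mem_comap, hzeq]; exact h1
      have hzc := hcent hzG'
      rw [Matrix.SpecialLinearGroup.mem_center_iff] at hzc
      obtain ⟨r, hr, hrz⟩ := hzc
      rw [← hzeq, Matrix.GeneralLinearGroup.mem_center_iff_val_mem_range_scalar]
      exact ⟨r, hrz⟩
    -- θ is a hom into an abelian group
    let θ : S →* Subgroup.center (GL (Fin n) F) := MonoidHom.mk'
      (fun s => ⟨toGL s * g * (toGL s)⁻¹ * g⁻¹, hcomm s⟩) (by
        intro s t
        apply Subtype.ext
        have ht := hcomm t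
        simp only [map_mul, Subgroup.coe_mul]
        exact comm_hom_aux (toGL s) (toGL t) g ht)
    have hker : commutator S ≤ θ.ker := by
      rw [commutator_def, Subgroup.commutator_le]
      intro a _ b _
      rw [MonoidHom.mem_ker, map_commutatorElement, commutatorElement_eq_one_iff_commute]
      exact Subtype.ext (Subgroup.mem_center_iff.1 (θ b).2 (θ a).1)
    rw [hperf] at hker
    apply scalar_of_commute_SL g
    intro s
    have hs : θ s = 1 := hker (Subgroup.mem_top s)
    have hs' : toGL s * g * (toGL s)⁻¹ * g⁻¹ = 1 := congrArg Subtype.val hs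
    have : toGL s * g = g * toGL s := by
      have := congrArg (fun x => x * g * toGL s) hs'
      simpa [mul_assoc] using this
    exact this
  · -- G' covers PSL, hence equals SL by perfectness
    right
    have hsup : G' ⊔ Subgroup.center S = ⊤ := by
      have := Subgroup.comap_map_eq π G'
      rw [htop, Subgroup.comap_top, hπ, QuotientGroup.ker_mk'] at this
      exact this.symm
    have hall : ∀ a : S, ∃ x ∈ G', ∃ z ∈ Subgroup.center S, a = x * z := by
      intro a
      have ha : a ∈ G' ⊔ Subgroup.center S := by rw [hsup]; exact Subgroup.mem_top a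
      rw [Subgroup.mem_sup_of_normal_right] at ha
      obtain ⟨x, hx, z, hz, rfl⟩ := ha
      exact ⟨x, hx, z, hz, rfl⟩
    have hcomm : commutator S ≤ G' := by
      rw [commutator_def, Subgroup.commutator_le]
      intro a _ b _
      obtain ⟨x, hx, z, hz, rfl⟩ := hall a
      obtain ⟨y, hy, w, hw, rfl⟩ := hall b
      rw [commutatorElement_def, comm_central_aux x y z w hz hw, ← commutatorElement_def]
      exact Subgroup.commutator_mem_commutator hx hy |> fun h => by
        have hle : ⁅G', G'⁆ ≤ G' := Subgroup.commutator_le_left G' G'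
        exact hle h
    rw [hperf] at hcomm
    rintro _ ⟨s, rfl⟩
    have : s ∈ G' := hcomm (Subgroup.mem_top s)
    exact this

end

theorem result {F : Type*} [Field F] [Fintype F] (n : ℕ) (hn : 1 ≤ n) (hex : ¬ (n = 2 ∧ Fintype.card F ≤ 3)) (G : Subgroup (Matrix.GeneralLinearGroup (Fin n) F)) (hG : ∀ s : Matrix.SpecialLinearGroup (Fin n) F, ∀ g ∈ G, (Matrix.SpecialLinearGroup.toGL s) * g * (Matrix.SpecialLinearGroup.toGL s)⁻¹ ∈ G) : (∀ g ∈ G, ∃ c : F, (g : Matrix (Fin n) (Fin n) F) = c • (1 : Matrix (Fin n) (Fin n) F)) ∨ (Matrix.SpecialLinearGroup.toGL : Matrix.SpecialLinearGroup (Fin n) F →* _).range ≤ G := by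
  rcases Nat.lt_or_ge n 2 with h1 | h2
  · -- n = 1
    obtain rfl : n = 1 := by omega
    left
    intro g _
    refine ⟨(g : Matrix (Fin 1) (Fin 1) F) 0 0, ?_⟩
    ext i j
    have hi : i = 0 := Subsingleton.elim _ _
    have hj : j = 0 := Subsingleton.elim _ _
    subst hi hj
    simp
  rcases Nat.lt_or_ge n 3 with h3 | h3
  · -- n = 2, |F| ≥ 4
    obtain rfl : n = 2 := by omega
    have h4 : 4 ≤ Fintype.card F := by
      by_contra hc
      exact hex ⟨rfl, by omega⟩
    have h4' : 4 ≤ Nat.card F := by rwa [Nat.card_eq_fintype_card]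
    -- an element a with a ≠ 0 and a^2 ≠ 1
    classical
    obtain ⟨a, ha⟩ : ∃ a : F, a ∉ ({0, 1, -1} : Finset F) := by
      by_contra hcon
      push Not at hcon
      have : (Finset.univ : Finset F) ⊆ {0, 1, -1} := fun x _ => hcon x
      have h := Finset.card_le_card this
      rw [Finset.card_univ] at h
      have h3 : ({0, 1, -1} : Finset F).card ≤ 3 := Finset.card_le_three
      omega
    simp only [Finset.mem_insert, Finset.mem_singleton, not_or] at ha
    have hasq : a ^ 2 ≠ 1 := by
      intro h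
      have : (a - 1) * (a + 1) = 0 := by ring_nf; rw [h]; ring
      rcases mul_eq_zero.1 this with h | h
      · exact ha.2.1 (sub_eq_zero.1 h)
      · exact ha.2.2 (eq_neg_of_add_eq_zero_left h)
    exact main (SL2.commutator_eq_top ha.1 hasq)
      (Matrix.ProjectiveSpecialLinearGroup.rank_two_simple h4') G hG
  · have h3' : 3 ≤ Fintype.card (Fin n) := by simpa using h3
    exact main (Cfsg.Agent.Helper2.commutator_SL_eq_top h3')
      (Cfsg.Agent.Helper2.PSL_isSimpleGroup h3') G hG

end Cfsg.Agent.S2540
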