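import Mathlib
import Cfsg.Statements.S2541

set_option autoImplicit false
open Cfsg

namespace Cfsg.Agent.S2541

open Matrix

theorem perm6_pow_sixty (σ : Equiv.Perm (Fin 6)) : σ ^ 60 = 1 := by
  apply orderOf_dvd_iff_pow_eq_one.mp
  rw [← Equiv.Perm.lcm_cycleType, Multiset.lcm_dvd]
  intro n hn
  have h1 := Equiv.Perm.le_card_support_of_mem_cycleType hn
  have h2 : σ.support.card ≤ 6 := by
    have := Finset.card_le_univ σ.support
    simpa using this
  have h3 : n ≤ 6 := le_trans h1 h2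
  have h4 : 2 ≤ n := Equiv.Perm.two_le_of_mem_cycleType hn
  interval_cases n <;> decide

theorem result {F : Type*} [Field F] [Fintype F] (hF : Fintype.card F = 9) : ¬ Nonempty (Equiv.Perm (Fin 6) ≃* Matrix.ProjGenLinGroup (Fin 2) F) := by
  classical
  rintro ⟨e⟩
  -- a generator of the multiplicative group
  obtain ⟨ζ, hζ⟩ := IsCyclic.exists_generator (α := Fˣ)
  have hord : orderOf ζ = 8 := by
    rw [orderOf_eq_card_of_forall_mem_zpowers hζ, Nat.card_eq_fintype_card, Fintype.card_units, hF]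
  have hdet : (Matrix.diagonal ![(ζ : F), 1]).det ≠ 0 := by
    rw [Matrix.det_diagonal]
    simp
  set g : GL (Fin 2) F := Matrix.GeneralLinearGroup.mkOfDetNeZero _ hdet with hg
  have hall : ∀ y : Matrix.ProjGenLinGroup (Fin 2) F, y ^ 60 = 1 := by
    intro y
    obtain ⟨σ, rfl⟩ := e.surjective y
    rw [← map_pow, perm6_pow_sixty, map_one]
  have h1 := hall (Matrix.ProjGenLinGroup.mk g)
  rw [← map_pow, Matrix.ProjGenLinGroup.mk_eq_one,
    Matrix.GeneralLinearGroup.mem_center_iff_val_mem_range_scalar] at h1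
  obtain ⟨c, hc⟩ := h1
  have hgval : ((g ^ 60 : GL (Fin 2) F) : Matrix (Fin 2) (Fin 2) F) = Matrix.diagonal ![(ζ : F) ^ 60, 1] := by
    rw [Units.val_pow_eq_pow_val]
    show (Matrix.diagonal ![(ζ : F), 1]) ^ 60 = _
    rw [Matrix.diagonal_pow]
    congr 1
    ext i
    fin_cases i <;> simp
  rw [hgval] at hc
  have h00 := congrFun (congrFun hc 0) 0
  have h11 := congrFun (congrFun hc 1) 1
  simp at h00 h11
  have hz : (ζ : F) ^ 60 = 1 := by rw [← h00, h11]
  have hz' : ζ ^ 60 = 1 := by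
    apply Units.ext
    rw [Units.val_pow_eq_pow_val, hz, Units.val_one]
  have := orderOf_dvd_of_pow_eq_one hz'
  rw [hord] at this
  omega

end Cfsg.Agent.S2541
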