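import Mathlib
import Cfsg.Statements.S2542
import Cfsg.Agent.S0675
import Cfsg.Agent.S0804
import Cfsg.Agent.Lib.Helper2.CardSL

set_option autoImplicit false
open Cfsg

namespace Cfsg.Agent.S2542

/-- a group acting through a `2`-transitive image is `2`-transitive. -/
theorem two_trans_of_range {G : Type*} [Group G] {X : Type*} [MulAction G X]
    (h : MulAction.IsMultiplyPretransitive (MulAction.toPermHom G X).range X 2) :
    MulAction.IsMultiplyPretransitive G X 2 := by
  constructor
  intro x y
  obtain ⟨⟨r, ⟨g, rfl⟩⟩, hr⟩ := h.exists_smul_eq x y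
  refine ⟨g, ?_⟩
  ext i
  have := congrArg (fun e : Fin 2 ↪ X => e i) hr
  simpa using this

/-- Let F be a field with 11 elements. PSL_2(F) has a subgroup H of index 11 isomorphic to the alternating group A_5, and the action of PSL_2(F) on the cosets of H is 2-transitive (of degree 11). -/
theorem result {F : Type*} [Field F] [Fintype F] (hF : Fintype.card F = 11) : ∃ H : Subgroup (Matrix.ProjectiveSpecialLinearGroup (Fin 2) F), H.index = 11 ∧ Nonempty (H ≃* alternatingGroup (Fin 5)) ∧ MulAction.IsMultiplyPretransitive (Matrix.ProjectiveSpecialLinearGroup (Fin 2) F) ((Matrix.ProjectiveSpecialLinearGroup (Fin 2) F) ⧸ H) 2 := by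
  have hcard : Nat.card (Matrix.ProjectiveSpecialLinearGroup (Fin 2) F) = 660 := by
    have h := Cfsg.Agent.Helper2.card_PSL_mul (F := F) 2 (by norm_num)
    rw [hF] at h
    simp only [Fin.prod_univ_two, Fin.val_zero, Fin.val_one] at h
    norm_num at h
    omega
  have hsimple : IsSimpleGroup (Matrix.ProjectiveSpecialLinearGroup (Fin 2) F) :=
    Matrix.ProjectiveSpecialLinearGroup.rank_two_simple (by
      rw [Nat.card_eq_fintype_card, hF]; norm_num)
  obtain ⟨H, ⟨e⟩⟩ := (Cfsg.Agent.S0804.result hF).mpr (by norm_num)
  have hH : Nat.card H = 60 := by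
    rw [Nat.card_congr e.toEquiv, nat_card_alternatingGroup]
    simp [Nat.factorial]
  have hidx : H.index = 11 := by
    have h := H.card_mul_index
    rw [hH, hcard] at h
    omega
  refine ⟨H, hidx, ⟨e⟩, ?_⟩
  have hfin : Finite (Matrix.ProjectiveSpecialLinearGroup (Fin 2) F) :=
    Nat.finite_of_card_ne_zero (by rw [hcard]; norm_num)
  haveI : Fintype (Matrix.ProjectiveSpecialLinearGroup (Fin 2) F ⧸ H) := Fintype.ofFinite _
  haveI : DecidableEq (Matrix.ProjectiveSpecialLinearGroup (Fin 2) F ⧸ H) := Classical.decEq _
  have hprime : (Fintype.card (Matrix.ProjectiveSpecialLinearGroup (Fin 2) F ⧸ H)).Prime := by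
    rw [← Nat.card_eq_fintype_card, ← Subgroup.index_eq_card, hidx]
    norm_num
  apply two_trans_of_range
  have htrans : MulAction.IsPretransitive
      (MulAction.toPermHom (Matrix.ProjectiveSpecialLinearGroup (Fin 2) F)
        (Matrix.ProjectiveSpecialLinearGroup (Fin 2) F ⧸ H)).range
      (Matrix.ProjectiveSpecialLinearGroup (Fin 2) F ⧸ H) := by
    constructor
    intro x y
    obtain ⟨g, hg⟩ := MulAction.exists_smul_eq (Matrix.ProjectiveSpecialLinearGroup (Fin 2) F) x y
    exact ⟨⟨MulAction.toPermHom _ _ g, ⟨g, rfl⟩⟩, hg⟩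
  rcases Cfsg.Agent.S0675.result hprime
    (MulAction.toPermHom (Matrix.ProjectiveSpecialLinearGroup (Fin 2) F)
      (Matrix.ProjectiveSpecialLinearGroup (Fin 2) F ⧸ H)).range with hsolv | h2
  · exfalso
    -- the action is faithful, so the group would be solvable
    have hker : (MulAction.toPermHom (Matrix.ProjectiveSpecialLinearGroup (Fin 2) F)
        (Matrix.ProjectiveSpecialLinearGroup (Fin 2) F ⧸ H)).ker = ⊥ := by
      rcases (MonoidHom.normal_ker (MulAction.toPermHom
        (Matrix.ProjectiveSpecialLinearGroup (Fin 2) F)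
        (Matrix.ProjectiveSpecialLinearGroup (Fin 2) F ⧸ H))).eq_bot_or_eq_top with h | h
      · exact h
      · exfalso
        have hHtop : H = ⊤ := by
          rw [eq_top_iff]
          intro g _
          have hg : g ∈ (MulAction.toPermHom (Matrix.ProjectiveSpecialLinearGroup (Fin 2) F)
              (Matrix.ProjectiveSpecialLinearGroup (Fin 2) F ⧸ H)).ker := by
            rw [h]; exact Subgroup.mem_top g
          rw [MonoidHom.mem_ker] at hg
          have h1 := congrArg (fun σ => σ ((1 : Matrix.ProjectiveSpecialLinearGroup (Fin 2) F) :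
            Matrix.ProjectiveSpecialLinearGroup (Fin 2) F ⧸ H)) hg
          simp only [MulAction.toPermHom_apply, MulAction.toPerm_apply, Equiv.Perm.coe_one,
            id_eq, MulAction.Quotient.smul_coe, smul_eq_mul, mul_one] at h1
          rw [QuotientGroup.eq] at h1
          simpa using h1
        rw [hHtop, Subgroup.index_top] at hidx
        omega
    have hinj : Function.Injective (MulAction.toPermHom
        (Matrix.ProjectiveSpecialLinearGroup (Fin 2) F)
        (Matrix.ProjectiveSpecialLinearGroup (Fin 2) F ⧸ H)).rangeRestrict := by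
      rw [← MonoidHom.ker_eq_bot_iff, MonoidHom.ker_rangeRestrict]
      exact hker
    have hGsolv : Group.IsSolvable (Matrix.ProjectiveSpecialLinearGroup (Fin 2) F) :=
      Group.isSolvable_of_isSolvable_injective hinj
    have hcomm := IsSimpleGroup.comm_iff_isSolvable.mpr hGsolv
    -- a commutative simple group has no proper nontrivial subgroup
    have hHn : H.Normal := by
      constructor
      intro n hn g
      rw [hcomm g n, mul_inv_cancel_right]
      exact hn
    rcases hHn.eq_bot_or_eq_top with h | h
    · rw [h, Subgroup.card_bot] at hH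
      omega
    · rw [h, Subgroup.index_top] at hidx
      omega
  · exact h2

end Cfsg.Agent.S2542
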