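import Mathlib
import Cfsg.Statements.S2544
import Cfsg.Agent.Lib.Helper17.SteinbergGL
import Cfsg.Agent.Lib.Helper24.CoprimeDegree
import Cfsg.Agent.Lib.Helper24.CharHom
import Cfsg.Agent.S0931
import Cfsg.Agent.Lib.Helper24.GlaubPGroup
import Cfsg.Agent.Lib.Helper2.CardSL

set_option autoImplicit false
open Cfsg

namespace Cfsg.Agent.S2544

open Cfsg.Agent.Helper17.StGL Cfsg.Agent.Helper24 Matrix

section

variable {F : Type*} [Field F] [Fintype F]

/-- the Steinberg character restricted to `SL_n` -/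
noncomputable def chiSL (n : ℕ) : SpecialLinearGroup (Fin n) F → ℂ :=
  fun x => St n F (SpecialLinearGroup.toGL x)

theorem index_ker_det (n : ℕ) (hn : 1 ≤ n) :
    (GeneralLinearGroup.det : GL (Fin n) F →* Fˣ).ker.index = Fintype.card F - 1 := by
  haveI : Nonempty (Fin n) := ⟨⟨0, by omega⟩⟩
  rw [Subgroup.index_ker, MonoidHom.range_eq_top.mpr GeneralLinearGroup.det_surjective,
    Subgroup.card_top, Cfsg.Agent.Helper2.card_units_field]

theorem chiSL_irr (n : ℕ) (hn : 1 ≤ n) :
    Cfsg.IsIrrCharacter (SpecialLinearGroup (Fin n) F) (chiSL (F := F) n) := by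
  classical
  set Y : Subgroup (GL (Fin n) F) := (GeneralLinearGroup.det : GL (Fin n) F →* Fˣ).ker with hY
  have hq1 : 1 ≤ Fintype.card F := Fintype.card_pos
  have hdeg : Cfsg.charDegree (St n F) = Fintype.card F ^ (n * (n - 1) / 2) := by
    apply charDegree_natCast
    rw [St_one, Nat.cast_pow]
  have hcop : (Cfsg.charDegree (St n F)).Coprime Y.index := by
    rw [hdeg, hY, index_ker_det n hn]
    apply Nat.Coprime.pow_left
    rw [Nat.coprime_self_sub_right hq1]
    exact Nat.coprime_one_right _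
  have h1 := Cfsg.Agent.Helper24.CopDeg.restrict_irr_of_coprime Y (St_irr (F := F) (n := n)) hcop
  let f : SpecialLinearGroup (Fin n) F →* Y :=
    (SpecialLinearGroup.toGL).codRestrict Y (fun x => by
      rw [hY, MonoidHom.mem_ker]
      ext
      simp)
  have hf : Function.Surjective f := by
    rintro ⟨g, hg⟩
    rw [hY, MonoidHom.mem_ker] at hg
    have hdet : (g : Matrix (Fin n) (Fin n) F).det = 1 := by
      have := congrArg Units.val hg
      simpa using this
    refine ⟨⟨(g : Matrix (Fin n) (Fin n) F), hdet⟩, ?_⟩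
    apply Subtype.ext
    ext
    rfl
  exact isIrrCharacter_comp_of_surjective f hf h1

theorem chiSL_one (n : ℕ) : chiSL (F := F) n 1 = (Fintype.card F : ℂ) ^ (n * (n - 1) / 2) := by
  unfold chiSL
  rw [map_one, St_one]

theorem chiSL_center (n : ℕ) (z : SpecialLinearGroup (Fin n) F)
    (hz : z ∈ Subgroup.center (SpecialLinearGroup (Fin n) F)) :
    chiSL (F := F) n z = chiSL (F := F) n 1 := by
  rw [Matrix.SpecialLinearGroup.mem_center_iff] at hz
  obtain ⟨r, _, hr⟩ := hz
  unfold chiSL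
  rw [map_one]
  apply St_scalar _ r
  rw [hr]
  rfl

/-- the order of `PSL_n(q)` divides `q^(n(n-1)/2) * m` with `m` prime to `p` -/
theorem card_PSL_dvd (p : ℕ) [Fact p.Prime] [CharP F p] (n : ℕ) (hn : 1 ≤ n) :
    ∃ m : ℕ, p.Coprime m ∧ Nat.card (ProjectiveSpecialLinearGroup (Fin n) F) ∣
      Fintype.card F ^ (n * (n - 1) / 2) * m := by
  classical
  set q := Fintype.card F with hq
  have hq1 : 1 ≤ q := Fintype.card_pos
  have hpq : p ∣ q := by
    obtain ⟨k, _, hk⟩ := FiniteField.card F p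
    rw [hq, hk]
    exact dvd_pow_self p k.ne_zero
  refine ⟨∏ i : Fin n, (q ^ (n - (i : ℕ)) - 1), ?_, ?_⟩
  · apply Nat.Coprime.prod_right
    intro i _
    have hi : 1 ≤ n - (i : ℕ) := by have := i.2; omega
    have h1 : p ∣ q ^ (n - (i : ℕ)) := dvd_trans hpq (dvd_pow_self q (by omega))
    have h2 : 1 ≤ q ^ (n - (i : ℕ)) := Nat.one_le_pow _ _ hq1
    rw [Nat.Prime.coprime_iff_not_dvd (Fact.out : p.Prime)]
    intro h3
    have h4 : p ∣ q ^ (n - (i : ℕ)) - (q ^ (n - (i : ℕ)) - 1) := Nat.dvd_sub h1 h3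
    have h5 : q ^ (n - (i : ℕ)) - (q ^ (n - (i : ℕ)) - 1) = 1 := by omega
    rw [h5] at h4
    exact (Fact.out : p.Prime).one_lt.ne' (Nat.dvd_one.1 h4)
  · have h1 := Cfsg.Agent.Helper2.card_PSL_mul (F := F) n hn
    have h2 : ∏ i : Fin n, (q ^ n - q ^ (i : ℕ)) =
        q ^ (n * (n - 1) / 2) * ∏ i : Fin n, (q ^ (n - (i : ℕ)) - 1) := by
      have h3 : ∀ i : Fin n, q ^ n - q ^ (i : ℕ) = q ^ (i : ℕ) * (q ^ (n - (i : ℕ)) - 1) := by
        intro i
        rw [Nat.mul_sub, mul_one, ← pow_add]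
        congr 2
        have := i.2
        omega
      simp only [h3]
      rw [Finset.prod_mul_distrib, Finset.prod_pow_eq_pow_sum,
        Fin.sum_univ_eq_sum_range (fun i => i) n, Finset.sum_range_id]
    rw [← h2, ← h1]
    exact Dvd.intro_left (n.gcd (Fintype.card F - 1) * (Fintype.card F - 1)) (by ring)

end

/-- Let F be a finite field of characteristic p and consider the projective special linear group PSL_n(F) with n ≥ 2. This group has an irreducible complex character χ whose degree equals the order of a Sylow p-subgroup (namely q^(n(n−1)/2) when #F = q) and whose restriction to any Sylow p-subgroup P is the regular character of P: χ vanishes on the non-identity elements of P. (This is the Steinberg character.) -/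
theorem result {F : Type*} [Field F] [Fintype F] (p : ℕ) [Fact p.Prime] [CharP F p] (n : ℕ) (hn : 2 ≤ n) : ∃ χ : Matrix.ProjectiveSpecialLinearGroup (Fin n) F → ℂ, Cfsg.IsIrrCharacter (Matrix.ProjectiveSpecialLinearGroup (Fin n) F) χ ∧ ∀ P : Sylow p (Matrix.ProjectiveSpecialLinearGroup (Fin n) F), χ 1 = Nat.card P ∧ ∀ x : Matrix.ProjectiveSpecialLinearGroup (Fin n) F, x ∈ P → x ≠ 1 → χ x = 0 := by
  classical
  have hn1 : 1 ≤ n := by omega
  have hp : p.Prime := Fact.out
  obtain ⟨ψ, hψ, hχ⟩ := exists_deflate (Subgroup.center (SpecialLinearGroup (Fin n) F))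
    (chiSL_irr (F := F) n hn1) (fun z hz => chiSL_center n z hz)
  refine ⟨ψ, hψ, ?_⟩
  intro P
  have hψ1 : ψ 1 = ((Fintype.card F ^ (n * (n - 1) / 2) : ℕ) : ℂ) := by
    have h1 := congrFun hχ 1
    rw [Function.comp_apply, chiSL_one] at h1
    rw [Nat.cast_pow, h1]
    rfl
  have hdeg : Cfsg.charDegree ψ = Fintype.card F ^ (n * (n - 1) / 2) := charDegree_natCast _ hψ1
  obtain ⟨k, _, hk⟩ := FiniteField.card F p
  have hdvd1 : Fintype.card F ^ (n * (n - 1) / 2) ∣
      Nat.card (Matrix.ProjectiveSpecialLinearGroup (Fin n) F) := by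
    rw [← hdeg]
    exact charDegree_dvd_card hψ
  have hPcard := P.card_eq_multiplicity
  have hP1 : Fintype.card F ^ (n * (n - 1) / 2) ∣ Nat.card P := by
    rw [hPcard, hk, ← pow_mul]
    apply pow_dvd_pow
    rw [hk, ← pow_mul] at hdvd1
    exact (Nat.Prime.pow_dvd_iff_le_factorization hp (Nat.card_pos).ne').1 hdvd1
  obtain ⟨m, hm, hdvd2⟩ := card_PSL_dvd (F := F) p n hn1
  have hP2 : Nat.card P ∣ Fintype.card F ^ (n * (n - 1) / 2) := by
    have h1 : Nat.card P ∣ Fintype.card F ^ (n * (n - 1) / 2) * m :=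
      dvd_trans (Subgroup.card_subgroup_dvd_card _) hdvd2
    have h2 : (Nat.card P).Coprime m := by
      rw [hPcard]
      exact Nat.Coprime.pow_left _ hm
    exact h2.dvd_of_dvd_mul_right h1
  have hPeq : Nat.card P = Fintype.card F ^ (n * (n - 1) / 2) := Nat.dvd_antisymm hP2 hP1
  constructor
  · rw [hψ1, hPeq]
  · intro x hx hx1
    obtain ⟨M, hM⟩ := Cfsg.Agent.Helper24.Glaub.exists_isPModular hp
    have hdef : ¬ p ∣ Nat.card (Matrix.ProjectiveSpecialLinearGroup (Fin n) F) / Cfsg.charDegree ψ := by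
      rw [hdeg, ← hPeq]
      have h1 : Nat.card (Matrix.ProjectiveSpecialLinearGroup (Fin n) F) / Nat.card P =
          (P : Subgroup (Matrix.ProjectiveSpecialLinearGroup (Fin n) F)).index := by
        rw [← Subgroup.card_mul_index (P : Subgroup (Matrix.ProjectiveSpecialLinearGroup (Fin n) F)),
          Nat.mul_div_cancel_left _ Nat.card_pos]
      rw [h1]
      exact P.not_dvd_index
    have hord : p ∣ orderOf x := by
      obtain ⟨j, hj⟩ := (IsPGroup.iff_orderOf.1 P.2) ⟨x, hx⟩
      rw [← Subgroup.orderOf_coe] at hj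
      have hj' : orderOf x = p ^ j := hj
      rw [hj']
      cases j with
      | zero =>
        exfalso
        rw [pow_zero, orderOf_eq_one_iff] at hj'
        exact hx1 hj'
      | succ j => exact dvd_pow_self p (Nat.succ_ne_zero j)
    exact Cfsg.Agent.S0931.eq_zero_of_defect_zero hM ⟨ψ, hψ⟩ hdef hord

end Cfsg.Agent.S2544
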