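import Mathlib
import Cfsg.Statements.S2550
import Cfsg.Agent.Lib.Helper2.CardSL
import Cfsg.Agent.S2579

set_option autoImplicit false
open Cfsg

namespace Cfsg.Agent.S2550

open Matrix

/-! ### Orders -/

theorem card_PSL4 {F : Type*} [Field F] [Fintype F] (hF : Fintype.card F = 2) :
    Nat.card (ProjectiveSpecialLinearGroup (Fin 4) F) = 20160 := by
  have h := Cfsg.Agent.Helper2.card_PSL_mul (F := F) 4 (by norm_num)
  rw [hF, Fin.prod_univ_four] at h
  norm_num at h
  omega

theorem card_PSL3 {K : Type*} [Field K] [Fintype K] (hK : Fintype.card K = 4) :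
    Nat.card (ProjectiveSpecialLinearGroup (Fin 3) K) = 20160 := by
  have h := Cfsg.Agent.Helper2.card_PSL_mul (F := K) 3 (by norm_num)
  rw [hK, Fin.prod_univ_three] at h
  norm_num at h
  omega

/-! ### Characteristic two -/

theorem charP_two {F : Type*} [Field F] [Fintype F] (h2 : 2 ∣ Fintype.card F) : CharP F 2 := by
  rw [← ringChar.eq_iff, FiniteField.even_card_iff_char_two]
  omega

/-! ### Involutions of `PSL₃(4)` are conjugate -/

theorem rank_eq_one_of_sq_zero {K : Type*} [Field K] (N : Matrix (Fin 3) (Fin 3) K)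
    (hN : N * N = 0) (h0 : N ≠ 0) : N.rank = 1 := by
  set T := Matrix.toLin' N with hT
  have hle : LinearMap.range T ≤ LinearMap.ker T := by
    rintro _ ⟨x, rfl⟩
    rw [LinearMap.mem_ker, hT, Matrix.toLin'_apply, Matrix.toLin'_apply, Matrix.mulVec_mulVec,
      hN, Matrix.zero_mulVec]
  have h1 := LinearMap.finrank_range_add_finrank_ker T
  rw [Module.finrank_fin_fun] at h1
  have h2 := Submodule.finrank_mono hle
  have h3 : Module.finrank K (LinearMap.range T) ≠ 0 := by
    intro h
    rw [Submodule.finrank_eq_zero, LinearMap.range_eq_bot] at h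
    apply h0
    have : Matrix.toLin' N = Matrix.toLin' 0 := by rw [← hT, h, map_zero]
    exact Matrix.toLin'.injective this
  have hr : N.rank = Module.finrank K (LinearMap.range T) := by
    rw [Matrix.rank, hT, Matrix.toLin'_apply']
  rw [hr]
  omega

theorem isTransvection_of_sq {K : Type*} [Field K] [CharP K 2] (M : Matrix (Fin 3) (Fin 3) K)
    (h : M * M = 1) (h1 : M ≠ 1) : Cfsg.IsTransvection M := by
  have hsq : (M - 1) * (M - 1) = 0 := by
    have e : (M - 1) * (M - 1) = M * M - (M + M) + 1 := by noncomm_ring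
    rw [e, h, CharTwo.add_self_eq_zero, sub_zero, CharTwo.add_self_eq_zero]
  exact ⟨rank_eq_one_of_sq_zero _ hsq (sub_ne_zero.2 h1), hsq⟩

theorem exists_lift {K : Type*} [Field K]
    (x : ProjectiveSpecialLinearGroup (Fin 3) K) (hx : orderOf x = 2) :
    ∃ x' : SpecialLinearGroup (Fin 3) K, (QuotientGroup.mk x' : ProjectiveSpecialLinearGroup (Fin 3) K) = x ∧
      x' ^ 2 = 1 ∧ x' ≠ 1 := by
  obtain ⟨g, rfl⟩ := QuotientGroup.mk_surjective x
  have h2 : (QuotientGroup.mk g : ProjectiveSpecialLinearGroup (Fin 3) K) ^ 2 = 1 := by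
    rw [← hx]; exact pow_orderOf_eq_one _
  have hne : (QuotientGroup.mk g : ProjectiveSpecialLinearGroup (Fin 3) K) ≠ 1 := by
    intro h
    rw [h, orderOf_one] at hx
    omega
  have hc : g ^ 2 ∈ Subgroup.center (SpecialLinearGroup (Fin 3) K) := by
    rw [← QuotientGroup.eq_one_iff]; exact h2
  rw [Matrix.SpecialLinearGroup.mem_center_iff] at hc
  obtain ⟨r, hr3, hr⟩ := hc
  rw [Fintype.card_fin] at hr3
  have hz3 : (g ^ 2) ^ 3 = 1 := by
    have hm : (((g ^ 2) ^ 3 : SpecialLinearGroup (Fin 3) K) : Matrix (Fin 3) (Fin 3) K) =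
        ((1 : SpecialLinearGroup (Fin 3) K) : Matrix (Fin 3) (Fin 3) K) := by
      rw [Matrix.SpecialLinearGroup.coe_pow, ← hr, ← map_pow, hr3, map_one, Matrix.SpecialLinearGroup.coe_one]
    exact Subtype.ext hm
  refine ⟨g ^ 3, ?_, ?_, ?_⟩
  · change (QuotientGroup.mk (g ^ 3) : SpecialLinearGroup (Fin 3) K ⧸ _) = QuotientGroup.mk g
    rw [QuotientGroup.mk_pow]
    have : (QuotientGroup.mk g : ProjectiveSpecialLinearGroup (Fin 3) K) ^ 3 = QuotientGroup.mk g := by
      rw [pow_succ, h2, one_mul]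
    exact this
  · rw [← pow_mul, mul_comm, pow_mul]; exact hz3
  · intro h
    apply hne
    have : (QuotientGroup.mk g : ProjectiveSpecialLinearGroup (Fin 3) K) ^ 3 = QuotientGroup.mk g := by
      rw [pow_succ, h2, one_mul]
    rw [← this]
    change (QuotientGroup.mk g : SpecialLinearGroup (Fin 3) K ⧸ _) ^ 3 = 1
    rw [← QuotientGroup.mk_pow, h]
    rfl

theorem invol_conj_PSL3 {K : Type*} [Field K] [Finite K] [CharP K 2]
    (x y : ProjectiveSpecialLinearGroup (Fin 3) K) (hx : orderOf x = 2) (hy : orderOf y = 2) :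
    IsConj x y := by
  obtain ⟨x', rfl, hx2, hx1⟩ := exists_lift x hx
  obtain ⟨y', rfl, hy2, hy1⟩ := exists_lift y hy
  have key : ∀ z : SpecialLinearGroup (Fin 3) K, z ^ 2 = 1 → z ≠ 1 →
      Cfsg.IsTransvection (z : Matrix (Fin 3) (Fin 3) K) := by
    intro z hz2 hz1
    apply isTransvection_of_sq
    · have := congrArg (fun w : SpecialLinearGroup (Fin 3) K => (w : Matrix (Fin 3) (Fin 3) K)) hz2
      simpa [pow_two] using this
    · intro h
      apply hz1
      apply Subtype.ext
      exact h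
  have hconj := Cfsg.Agent.S2579.result (F := K) (n := 3) le_rfl x' y' (key x' hx2 hx1) (key y' hy2 hy1)
  exact (QuotientGroup.mk' (Subgroup.center (SpecialLinearGroup (Fin 3) K))).map_isConj hconj

/-! ### Two non-conjugate involutions of `PSL₄(2)` -/

section
variable {F : Type*} [Field F]

theorem center_SL4_trivial [Fintype F] (hF : Fintype.card F = 2) :
    Subgroup.center (SpecialLinearGroup (Fin 4) F) = ⊥ := by
  classical
  rw [Subgroup.eq_bot_iff_forall]
  intro g hg
  rw [Matrix.SpecialLinearGroup.mem_center_iff] at hg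
  obtain ⟨r, hr4, hr⟩ := hg
  have hr0 : r ≠ 0 := by
    rintro rfl
    simp at hr4
  have hsub : Subsingleton Fˣ := by
    rw [← Fintype.card_le_one_iff_subsingleton, Fintype.card_units, hF]
  have : Units.mk0 r hr0 = 1 := Subsingleton.elim _ _
  have hr1 : r = 1 := by
    have := congrArg Units.val this
    simpa using this
  apply Subtype.ext
  rw [← hr, hr1, map_one]
  rfl

/-- the transvection `1 + E₀₁` -/
def ga : SpecialLinearGroup (Fin 4) F :=
  SpecialLinearGroup.transvection (show (0 : Fin 4) ≠ 1 by decide) 1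

/-- the element `1 + E₀₁ + E₂₃` -/
def gb : SpecialLinearGroup (Fin 4) F :=
  SpecialLinearGroup.transvection (show (0 : Fin 4) ≠ 1 by decide) 1 *
    SpecialLinearGroup.transvection (show (2 : Fin 4) ≠ 3 by decide) 1

theorem ga_coe : ((ga : SpecialLinearGroup (Fin 4) F) : Matrix (Fin 4) (Fin 4) F) =
    1 + Matrix.single 0 1 1 := rfl

theorem gb_coe : ((gb : SpecialLinearGroup (Fin 4) F) : Matrix (Fin 4) (Fin 4) F) =
    1 + (Matrix.single 0 1 1 + Matrix.single 2 3 1) := by
  change (1 + Matrix.single (0 : Fin 4) 1 (1 : F)) * (1 + Matrix.single (2 : Fin 4) 3 (1 : F)) = _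
  rw [add_mul, mul_add, mul_add, one_mul, mul_one, one_mul,
    Matrix.single_mul_single_of_ne (h := by decide), add_zero]
  abel

theorem ga_sq [CharP F 2] : (ga : SpecialLinearGroup (Fin 4) F) ^ 2 = 1 := by
  rw [pow_two]
  unfold ga
  rw [← SpecialLinearGroup.transvection_add, CharTwo.add_self_eq_zero,
    SpecialLinearGroup.transvection_coeff_zero]

theorem ga_ne_one : (ga : SpecialLinearGroup (Fin 4) F) ≠ 1 := by
  intro h
  have := congrArg (fun w : SpecialLinearGroup (Fin 4) F => (w : Matrix (Fin 4) (Fin 4) F) 0 1) h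
  simp [ga_coe] at this

theorem sq_aux [CharP F 2] (A B : Matrix (Fin 4) (Fin 4) F) (hAA : A * A = 0) (hAB : A * B = 0)
    (hBA : B * A = 0) (hBB : B * B = 0) : (1 + (A + B)) * (1 + (A + B)) = 1 := by
  have e : (1 + (A + B)) * (1 + (A + B)) = 1 + ((A + B) + (A + B)) + (A + B) * (A + B) := by
    noncomm_ring
  rw [e, CharTwo.add_self_eq_zero, add_zero, add_mul, mul_add, mul_add, hAA, hAB, hBA, hBB]
  simp

theorem gb_sq [CharP F 2] : (gb : SpecialLinearGroup (Fin 4) F) ^ 2 = 1 := by
  suffices hm : (((gb : SpecialLinearGroup (Fin 4) F) ^ 2 : SpecialLinearGroup (Fin 4) F) : Matrix (Fin 4) (Fin 4) F) =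
      ((1 : SpecialLinearGroup (Fin 4) F) : Matrix (Fin 4) (Fin 4) F) from Subtype.ext hm
  rw [pow_two, Matrix.SpecialLinearGroup.coe_mul, gb_coe, Matrix.SpecialLinearGroup.coe_one]
  exact sq_aux _ _ (Matrix.single_mul_single_of_ne (h := by decide) ..)
    (Matrix.single_mul_single_of_ne (h := by decide) ..)
    (Matrix.single_mul_single_of_ne (h := by decide) ..)
    (Matrix.single_mul_single_of_ne (h := by decide) ..)

theorem gb_ne_one : (gb : SpecialLinearGroup (Fin 4) F) ≠ 1 := by
  intro h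
  have := congrArg (fun w : SpecialLinearGroup (Fin 4) F => (w : Matrix (Fin 4) (Fin 4) F) 0 1) h
  simp [gb_coe] at this

theorem not_conj_ga_gb : ¬ IsConj (ga : SpecialLinearGroup (Fin 4) F) gb := by
  rw [isConj_iff]
  rintro ⟨h, hh⟩
  set H : Matrix (Fin 4) (Fin 4) F := (h : Matrix (Fin 4) (Fin 4) F) with hH
  set G : Matrix (Fin 4) (Fin 4) F := ((h⁻¹ : SpecialLinearGroup (Fin 4) F) : Matrix (Fin 4) (Fin 4) F) with hG
  have hHG : H * G = 1 := by
    have := congrArg (fun w : SpecialLinearGroup (Fin 4) F => (w : Matrix (Fin 4) (Fin 4) F)) (mul_inv_cancel h)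
    simpa only [Matrix.SpecialLinearGroup.coe_mul, Matrix.SpecialLinearGroup.coe_one] using this
  have hm : H * (1 + Matrix.single (0 : Fin 4) (1 : Fin 4) (1 : F)) * G =
      1 + (Matrix.single (0 : Fin 4) (1 : Fin 4) (1 : F) + Matrix.single (2 : Fin 4) (3 : Fin 4) (1 : F)) := by
    have := congrArg (fun w : SpecialLinearGroup (Fin 4) F => (w : Matrix (Fin 4) (Fin 4) F)) hh
    simp only [Matrix.SpecialLinearGroup.coe_mul, ga_coe, gb_coe] at this
    exact this
  have hm2 : H * Matrix.single (0 : Fin 4) (1 : Fin 4) (1 : F) * G =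
      Matrix.single (0 : Fin 4) (1 : Fin 4) (1 : F) + Matrix.single (2 : Fin 4) (3 : Fin 4) (1 : F) := by
    rw [mul_add, add_mul, mul_one, hHG] at hm
    exact add_left_cancel hm
  have hent : ∀ i j : Fin 4, (H * Matrix.single (0 : Fin 4) (1 : Fin 4) (1 : F) * G) i j = H i 0 * G 1 j := by
    intro i j
    simp [Matrix.mul_apply, Matrix.single_apply, Fin.sum_univ_four]
  have e01 := congrFun (congrFun hm2 0) 1
  have e23 := congrFun (congrFun hm2 2) 3
  have e03 := congrFun (congrFun hm2 0) 3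
  rw [hent] at e01 e23 e03
  simp [Matrix.single_apply] at e01 e23 e03
  rcases e03 with h0 | h0
  · rw [h0, zero_mul] at e01; exact zero_ne_one e01
  · rw [h0, mul_zero] at e23; exact zero_ne_one e23

end

theorem not_all_conj_PSL4 {F : Type*} [Field F] [Fintype F] (hF : Fintype.card F = 2) :
    ∃ x y : ProjectiveSpecialLinearGroup (Fin 4) F, orderOf x = 2 ∧ orderOf y = 2 ∧ ¬ IsConj x y := by
  have hchar : CharP F 2 := charP_two (by rw [hF])
  let π : SpecialLinearGroup (Fin 4) F →* ProjectiveSpecialLinearGroup (Fin 4) F :=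
    QuotientGroup.mk' (Subgroup.center (SpecialLinearGroup (Fin 4) F))
  have hinj : Function.Injective π := by
    intro a b hab
    have := QuotientGroup.eq.1 hab
    rw [center_SL4_trivial hF, Subgroup.mem_bot] at this
    exact inv_mul_eq_one.1 this
  refine ⟨π ga, π gb, ?_, ?_, ?_⟩
  · rw [orderOf_injective π hinj]
    exact orderOf_eq_prime ga_sq ga_ne_one
  · rw [orderOf_injective π hinj]
    exact orderOf_eq_prime gb_sq gb_ne_one
  · intro hc
    rw [isConj_iff] at hc
    obtain ⟨c, hc⟩ := hc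
    obtain ⟨c', rfl⟩ := QuotientGroup.mk'_surjective _ c
    apply not_conj_ga_gb (F := F)
    rw [isConj_iff]
    refine ⟨c', hinj ?_⟩
    rw [map_mul, map_mul, map_inv]
    exact hc

theorem result {F K : Type*} [Field F] [Fintype F] [Field K] [Fintype K] (hF : Fintype.card F = 2) (hK : Fintype.card K = 4) : Nat.card (Matrix.ProjectiveSpecialLinearGroup (Fin 4) F) = Nat.card (Matrix.ProjectiveSpecialLinearGroup (Fin 3) K) ∧ ¬ Nonempty (Matrix.ProjectiveSpecialLinearGroup (Fin 4) F ≃* Matrix.ProjectiveSpecialLinearGroup (Fin 3) K) := by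
  refine ⟨by rw [card_PSL4 hF, card_PSL3 hK], ?_⟩
  rintro ⟨e⟩
  have hchar : CharP K 2 := charP_two (by rw [hK]; norm_num)
  obtain ⟨x, y, hx, hy, hxy⟩ := not_all_conj_PSL4 hF
  apply hxy
  have h := invol_conj_PSL3 (e x) (e y) (by rw [MulEquiv.orderOf_eq, hx]) (by rw [MulEquiv.orderOf_eq, hy])
  have := e.symm.toMonoidHom.map_isConj h
  simpa using this

end Cfsg.Agent.S2550
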