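import Mathlib
import Cfsg.Statements.S2552

set_option autoImplicit false
open Cfsg

namespace Cfsg.Agent.S2552

open Module

/-- two subspaces of the same dimension are carried onto each other by a linear automorphism -/
theorem exists_equiv_map_eq {F V : Type*} [Field F] [AddCommGroup V] [Module F V]
    [FiniteDimensional F V] (U₁ U₂ : Submodule F V) (h : finrank F U₁ = finrank F U₂) :
    ∃ e : V ≃ₗ[F] V, U₁.map (e : V →ₗ[F] V) = U₂ := by
  obtain ⟨C₁, hC₁⟩ := Submodule.exists_isCompl U₁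
  obtain ⟨C₂, hC₂⟩ := Submodule.exists_isCompl U₂
  have h1 := Submodule.finrank_add_eq_of_isCompl hC₁
  have h2 := Submodule.finrank_add_eq_of_isCompl hC₂
  have hC : finrank F C₁ = finrank F C₂ := by omega
  let eU : U₁ ≃ₗ[F] U₂ := LinearEquiv.ofFinrankEq _ _ h
  let eC : C₁ ≃ₗ[F] C₂ := LinearEquiv.ofFinrankEq _ _ hC
  let e : V ≃ₗ[F] V := (Submodule.prodEquivOfIsCompl U₁ C₁ hC₁).symm.trans
    ((eU.prodCongr eC).trans (Submodule.prodEquivOfIsCompl U₂ C₂ hC₂))
  refine ⟨e, ?_⟩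
  have hle : U₁.map (e : V →ₗ[F] V) ≤ U₂ := by
    rintro _ ⟨u, hu, rfl⟩
    have : e u = (eU ⟨u, hu⟩ : V) := by
      show (Submodule.prodEquivOfIsCompl U₂ C₂ hC₂) ((eU.prodCongr eC)
        ((Submodule.prodEquivOfIsCompl U₁ C₁ hC₁).symm u)) = _
      rw [Submodule.prodEquivOfIsCompl_symm_apply_left U₁ C₁ hC₁ ⟨u, hu⟩]
      simp
    show e u ∈ U₂
    rw [this]
    exact (eU ⟨u, hu⟩).2
  apply Submodule.eq_of_le_of_finrank_eq hle
  rw [← h]
  exact LinearEquiv.finrank_map_eq e U₁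

theorem result {F : Type*} [Field F] [Fintype F] (n : ℕ) (hn : 1 ≤ n) (U₁ U₂ : Submodule F (Fin n → F)) (h : Module.finrank F U₁ = Module.finrank F U₂) : ∃ g : Matrix.SpecialLinearGroup (Fin n) F, U₁.map ((Matrix.SpecialLinearGroup.toLin' g : (Fin n → F) ≃ₗ[F] (Fin n → F)) : (Fin n → F) →ₗ[F] (Fin n → F)) = U₂ := by
  classical
  by_cases htop : U₁ = ⊤
  · have h2 : U₂ = ⊤ := by
      apply Submodule.eq_top_of_finrank_eq
      rw [← h, htop, finrank_top]
    refine ⟨1, ?_⟩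
    rw [htop, h2, map_one]
    exact Submodule.map_id ⊤
  · obtain ⟨e, he⟩ := exists_equiv_map_eq U₁ U₂ h
    obtain ⟨v₀, hv₀⟩ : ∃ v₀, v₀ ∉ U₁ := by
      by_contra hcon
      push Not at hcon
      exact htop (Submodule.eq_top_iff'.mpr hcon)
    obtain ⟨φ₀, hφ₀, hker₀⟩ := Submodule.exists_le_ker_of_notMem hv₀
    -- determinant of e
    set d : F := LinearMap.det (e : (Fin n → F) →ₗ[F] (Fin n → F)) with hd
    have hd0 : d ≠ 0 := (LinearEquiv.isUnit_det' e).ne_zero
    -- correcting map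
    set φ : Module.Dual F (Fin n → F) := ((d⁻¹ - 1) * (φ₀ v₀)⁻¹) • φ₀ with hφ
    set s : (Fin n → F) →ₗ[F] (Fin n → F) := LinearMap.transvection φ v₀ with hs
    have hsdet : LinearMap.det s = d⁻¹ := by
      rw [hs, LinearMap.transvection.det, hφ, LinearMap.smul_apply, smul_eq_mul, mul_assoc,
        inv_mul_cancel₀ hφ₀, mul_one]
      ring
    have hsfix : ∀ u ∈ U₁, s u = u := by
      intro u hu
      have : φ₀ u = 0 := hker₀ hu
      rw [hs, LinearMap.transvection.apply, hφ, LinearMap.smul_apply, this, smul_zero, zero_smul,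
        add_zero]
    set hmap : (Fin n → F) →ₗ[F] (Fin n → F) := (e : (Fin n → F) →ₗ[F] (Fin n → F)) ∘ₗ s with hh
    have hdet : (LinearMap.toMatrix' hmap).det = 1 := by
      rw [LinearMap.det_toMatrix', hh, LinearMap.det_comp, hsdet, ← hd, mul_inv_cancel₀ hd0]
    refine ⟨(⟨LinearMap.toMatrix' hmap, hdet⟩ : Matrix.SpecialLinearGroup (Fin n) F), ?_⟩
    show U₁.map (Matrix.toLin' (LinearMap.toMatrix' hmap)) = U₂
    rw [Matrix.toLin'_toMatrix', hh, Submodule.map_comp]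
    have : U₁.map s = U₁ := by
      ext x
      constructor
      · rintro ⟨u, hu, rfl⟩
        rw [hsfix u hu]; exact hu
      · intro hx
        exact ⟨x, hx, hsfix x hx⟩
    rw [this, he]

end Cfsg.Agent.S2552
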