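import Mathlib
import Cfsg.Statements.S2556
import Cfsg.Agent.Lib.Helper20.SuzAutF
import Cfsg.Agent.Lib.Helper2.SzBridge

set_option autoImplicit false
open Cfsg

namespace Cfsg.Agent.S2556

open Cfsg.Agent.Helper2.Sz Cfsg.Agent.Helper20.SuzAut in
/-- Let S be a Sylow 2-subgroup of the Suzuki group Sz(q), q = 2ⁿ with n = 2m + 1 ≥ 3 (realised as 4 × 4 matrices over the field with q elements). Then the largest normal 2-subgroup of the automorphism group of S is elementary abelian of order 2^(n²), and the automorphism group of S has order 2^(n²) · n · (q − 1). -/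
theorem result {S : Type*} [Group S] [Finite S] (m : ℕ) (hm : 1 ≤ m)
    {F : Type*} [Field F] [Fintype F] (hF : Fintype.card F = 2 ^ (2 * m + 1))
    (P : Sylow 2 ↥(Cfsg.Lie.Sz F (2 ^ (m + 1)))) (hS : Nonempty (S ≃* ↥(P : Subgroup ↥(Cfsg.Lie.Sz F (2 ^ (m + 1)))))) :
    Cfsg.IsElementaryAbelian 2 (Cfsg.pCore 2 (MulAut S)) ∧ Nat.card ↥(Cfsg.pCore 2 (MulAut S)) = 2 ^ ((2 * m + 1) ^ 2) ∧
      Nat.card (MulAut S) = 2 ^ ((2 * m + 1) ^ 2) * ((2 * m + 1) * (2 ^ (2 * m + 1) - 1)) := by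
  obtain ⟨Sd⟩ := nonempty_szData (m := m) hF
  obtain ⟨b⟩ := nonempty_bridge (F := F) hm hF
  obtain ⟨e⟩ := hS
  haveI : Fact (Nat.Prime 2) := ⟨Nat.prime_two⟩
  let P' : Sylow 2 (Cfsg.Sz F m) := P.comapOfInjective b.toMonoidHom b.injective (by
    rw [MonoidHom.range_eq_top.mpr b.surjective]
    exact le_top)
  obtain ⟨T'⟩ := Sd.nonempty_tdata hm hF P'
  have hcoe : (P' : Subgroup (Cfsg.Sz F m))
      = (P : Subgroup ↥(Cfsg.Lie.Sz F (2 ^ (m + 1)))).comap b.toMonoidHom :=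
    Sylow.coe_comapOfInjective _ _ _ _
  have hmap : (P' : Subgroup (Cfsg.Sz F m)).map b.toMonoidHom
      = (P : Subgroup ↥(Cfsg.Lie.Sz F (2 ^ (m + 1)))) := by
    rw [hcoe]
    exact Subgroup.map_comap_eq_self_of_surjective b.surjective _
  let e2 : ↥(P' : Subgroup (Cfsg.Sz F m)) ≃* ↥(P : Subgroup ↥(Cfsg.Lie.Sz F (2 ^ (m + 1)))) :=
    (b.subgroupMap (P' : Subgroup (Cfsg.Sz F m))).trans (MulEquiv.subgroupCongr hmap)
  let T : TData Sd S := T'.map (e.trans e2.symm).symm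
  exact aut_structure T hF hm

end Cfsg.Agent.S2556
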