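import Mathlib
import Cfsg.Statements.S2561
import Cfsg.Agent.Lib.Helper13.QuadBasis
import Cfsg.Agent.S2616
import Cfsg.Agent.S2564
import Cfsg.Agent.S2562

set_option autoImplicit false
open Cfsg

namespace Cfsg.Agent.S2561

open QuadraticMap Cfsg.Agent.Helper13 Cfsg.Agent.S2564 Cfsg.Agent.S2562 Module Matrix

abbrev Vp (m : ℕ) := Fin m ⊕ Fin m → ZMod 2
abbrev Vm (k : ℕ) := (Fin k ⊕ Fin k) ⊕ Fin 2 → ZMod 2

/-- `q` polarizes to the standard alternating form -/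
def IsPol (m : ℕ) (q : Vp m → ZMod 2) : Prop :=
  ∀ u v : Vp m, q (u + v) = q u + q v + ((Qp m) (u + v) - (Qp m) u - (Qp m) v)

def IsPlus (m : ℕ) (q : Vp m → ZMod 2) : Prop :=
  ∃ g : Vp m ≃ₗ[ZMod 2] Vp m, ∀ v, q v = (Qp m) (g v)

def IsMinus (m : ℕ) (q : Vp m → ZMod 2) : Prop :=
  ∃ g : Vp m ≃ₗ[ZMod 2] Vm (m - 1), ∀ v, q v = (Qm (m - 1)) (g v)

theorem isPol_iff (m : ℕ) (q : Vp m → ZMod 2) :
    IsPol m q ↔ ∀ u v : Vp m, q (u + v) = q u + q v + polar (Qp m) u v := Iff.rfl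

/-- the parametrisation of polarizing functions -/
noncomputable def Phi (m : ℕ) (w : Vp m) : Vp m → ZMod 2 := fun v => (Qp m) v + polar (Qp m) v w

theorem Phi_mem (m : ℕ) (w : Vp m) : IsPol m (Phi m w) := by
  rw [isPol_iff]
  intro u v
  simp only [Phi]
  rw [QuadraticMap.map_add (Qp m) u v, polar_add_left]
  ring

theorem Phi_inj (m : ℕ) : Function.Injective (Phi m) := by
  intro w w' h
  have h1 : ∀ v, polar (Qp m) v w = polar (Qp m) v w' := by
    intro v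
    have := congrFun h v
    simp only [Phi] at this
    exact add_left_cancel this
  have h2 : w - w' = 0 := by
    apply (Qp_nondeg m).2
    intro v
    show polar (Qp m) v (w - w') = 0
    rw [polar_sub_right, h1, sub_self]
  exact sub_eq_zero.mp h2

theorem Phi_surj (m : ℕ) (q : Vp m → ZMod 2) (hq : IsPol m q) : ∃ w, Phi m w = q := by
  rw [isPol_iff] at hq
  have hadd : ∀ u v, (q (u + v) - (Qp m) (u + v)) = (q u - (Qp m) u) + (q v - (Qp m) v) := by
    intro u v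
    rw [hq, QuadraticMap.map_add (Qp m) u v]; ring
  let d : Vp m →+ ZMod 2 := AddMonoidHom.mk' (fun v => q v - (Qp m) v) hadd
  let dl : Vp m →ₗ[ZMod 2] ZMod 2 := d.toZModLinearMap 2
  let w : Vp m := (LinearMap.BilinForm.toDual (polarBilin (Qp m)) (Qp_nondeg m)).symm dl
  refine ⟨w, ?_⟩
  funext v
  have h1 : polarBilin (Qp m) w v = dl v := LinearMap.BilinForm.apply_toDual_symm_apply dl v
  have h2 : polar (Qp m) v w = q v - (Qp m) v := by
    rw [polar_comm]; exact h1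
  simp only [Phi]
  rw [h2]; ring

theorem isPlus_Phi_iff (m : ℕ) (hm : 1 ≤ m) (w : Vp m) : IsPlus m (Phi m w) ↔ (Qp m) w = 0 := by
  have h := (Cfsg.Agent.S2564.result m hm (⇑(Qp m)) (by
    rw [Qp_eq]
    intro u v
    rw [QuadraticMap.map_add (Qp m) u v]; simp [polar]) w).2
  rw [Qp_eq] at h
  exact h

theorem charSum_comp {V W : Type*} [Fintype V] [Fintype W] [AddCommGroup V] [AddCommGroup W]
    [Module (ZMod 2) V] [Module (ZMod 2) W] (g : V ≃ₗ[ZMod 2] W) (q : W → ZMod 2) :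
    charSum (fun v => q (g v)) = charSum q := by
  unfold charSum
  exact Fintype.sum_equiv g.toEquiv _ _ (fun v => rfl)

theorem not_plus_and_minus (m : ℕ) (q : Vp m → ZMod 2) (h1 : IsPlus m q) (h2 : IsMinus m q) :
    False := by
  obtain ⟨g₁, hg₁⟩ := h1
  obtain ⟨g₂, hg₂⟩ := h2
  have e1 : charSum q = 2 ^ m := by
    have : q = fun v => (Qp m) (g₁ v) := funext hg₁
    rw [this, charSum_comp g₁ (⇑(Qp m)), charSum_Qp]
  have e2 : charSum q = -(2 ^ (m - 1 + 1)) := by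
    have : q = fun v => (Qm (m - 1)) (g₂ v) := funext hg₂
    rw [this, charSum_comp g₂ (⇑(Qm (m - 1))), charSum_Qm]
  have h3 : (0 : ℤ) < 2 ^ m := by positivity
  have h4 : (0 : ℤ) < 2 ^ (m - 1 + 1) := by positivity
  linarith

theorem zmod2_cases : ∀ a : ZMod 2, a = 0 ∨ a = 1 := by decide

theorem isPol_zero (m : ℕ) (q : Vp m → ZMod 2) (hq : IsPol m q) : q 0 = 0 := by
  have := (isPol_iff m q).mp hq 0 0
  simp only [add_zero, polar_zero_left] at this
  have h2 := zmod2_add_self (q 0)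
  rw [← this] at h2
  exact h2

/-- a polarizing function as a quadratic form -/
noncomputable def toQF (m : ℕ) (q : Vp m → ZMod 2) (hq : IsPol m q) :
    QuadraticForm (ZMod 2) (Vp m) where
  toFun := q
  toFun_smul := by
    intro a x
    rcases zmod2_cases a with rfl | rfl
    · simp [isPol_zero m q hq]
    · simp
  exists_companion' := ⟨polarBilin (Qp m), fun x y => by rw [(isPol_iff m q).mp hq x y]; rfl⟩

theorem toQF_apply (m : ℕ) (q : Vp m → ZMod 2) (hq : IsPol m q) (v : Vp m) :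
    toQF m q hq v = q v := rfl

theorem toQF_polar (m : ℕ) (q : Vp m → ZMod 2) (hq : IsPol m q) (u v : Vp m) :
    polar (toQF m q hq) u v = polar (Qp m) u v := by
  show q (u + v) - q u - q v = _
  rw [(isPol_iff m q).mp hq u v]; ring

theorem toQF_nondeg (m : ℕ) (q : Vp m → ZMod 2) (hq : IsPol m q) :
    (polarBilin (toQF m q hq)).Nondegenerate := by
  apply nondeg_of_polar
  intro x hx
  apply (Qp_nondeg m).1 x
  intro y
  show polar (Qp m) x y = 0
  rw [← toQF_polar m q hq]; exact hx y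

theorem finrank_Vp (m : ℕ) : finrank (ZMod 2) (Vp m) = 2 * m := by
  rw [Module.finrank_fintype_fun_eq_card]
  simp only [Fintype.card_fin, Fintype.card_sum]
  ring

theorem plus_or_minus (m : ℕ) (hm : 1 ≤ m) (q : Vp m → ZMod 2) (hq : IsPol m q) :
    IsPlus m q ∨ IsMinus m q := by
  rcases Cfsg.Agent.S2616.result (F := ZMod 2) (V := Vp m) hm (finrank_Vp m) (toQF m q hq)
    (toQF_nondeg m q hq) with ⟨b, h1, h2, h3⟩ | ⟨b, ζ, hζ, h1, h2, h3, h4, h5, h6, h7⟩
  · left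
    refine ⟨b.equivFun, ?_⟩
    intro v
    rw [← toQF_apply m q hq v]
    refine eq_matQ_of_basis (toQF m q hq) b (plusMat m (ZMod 2)) ?_ ?_ v
    · rintro (i | i)
      · rw [(h1 i).1]; simp [plusMat]
      · rw [(h1 i).2]; simp [plusMat]
    · rintro (i | i) (j | j) hij
      · rw [(h3 i j).1]; simp [plusMat]
      · rw [h2 i j]; simp [plusMat, Matrix.one_apply]
      · rw [polar_comm, h2 j i]; simp [plusMat, Matrix.one_apply]
      · rw [(h3 i j).2]; simp [plusMat]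
  · right
    have hζ1 : ζ = 1 := by
      rcases zmod2_cases ζ with h | h
      · exfalso; apply hζ 0; rw [h]; simp
      · exact h
    refine ⟨b.equivFun, ?_⟩
    intro v
    rw [← toQF_apply m q hq v]
    refine eq_matQ_of_basis (toQF m q hq) b (minusMat (m - 1) (1 : ZMod 2) 1) ?_ ?_ v
    · rintro ((i | i) | i)
      · rw [(h1 i).1]; simp [minusMat, plusMat]
      · rw [(h1 i).2]; simp [minusMat, plusMat]
      · fin_cases i
        · rw [show ((⟨0, by norm_num⟩ : Fin 2)) = 0 from rfl, h5]; simp [minusMat]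
        · rw [show ((⟨1, by norm_num⟩ : Fin 2)) = 1 from rfl, h7, hζ1]; simp [minusMat]
    · rintro ((i | i) | i) ((j | j) | j) hij
      · rw [(h3 i j).1]; simp [minusMat, plusMat]
      · rw [h2 i j]; simp [minusMat, plusMat, Matrix.one_apply]
      · rw [(h4 i j).1]; simp [minusMat]
      · rw [polar_comm, h2 j i]; simp [minusMat, plusMat, Matrix.one_apply]
      · rw [(h3 i j).2]; simp [minusMat, plusMat]
      · rw [(h4 i j).2]; simp [minusMat]
      · rw [polar_comm, (h4 j i).1]; simp [minusMat]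
      · rw [polar_comm, (h4 j i).2]; simp [minusMat]
      · fin_cases i <;> fin_cases j
        · exact absurd rfl hij
        · show polar (toQF m q hq) (b (Sum.inr 0)) (b (Sum.inr 1)) = _
          rw [h6]; simp [minusMat]
        · show polar (toQF m q hq) (b (Sum.inr 1)) (b (Sum.inr 0)) = _
          rw [polar_comm, h6]; simp [minusMat]
        · exact absurd rfl hij

theorem card_Vp (m : ℕ) : Fintype.card (Vp m) = 2 ^ (2 * m) := by
  rw [Fintype.card_fun, ZMod.card]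
  simp only [Fintype.card_fin, Fintype.card_sum]
  congr 1; ring

theorem card_zeros (m : ℕ) (hm : 1 ≤ m) :
    Fintype.card {w : Vp m // (Qp m) w = 0} = 2 ^ (2 * m - 1) + 2 ^ (m - 1) := by
  have h := two_mul_card_zeros (V := Vp m) (⇑(Qp m))
  rw [charSum_Qp, card_Vp] at h
  obtain ⟨k, rfl⟩ : ∃ k, m = k + 1 := ⟨m - 1, by omega⟩
  have h2 : (2 * Fintype.card {w : Vp (k + 1) // (Qp (k + 1)) w = 0} : ℤ)
      = 2 * ((2 ^ (2 * (k + 1) - 1) + 2 ^ (k + 1 - 1) : ℕ) : ℤ) := by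
    rw [h]
    have e1 : 2 * (k + 1) - 1 = 2 * k + 1 := by omega
    have e2 : k + 1 - 1 = k := by omega
    rw [e1, e2]
    push_cast
    ring
  have h3 := mul_left_cancel₀ (two_ne_zero) h2
  exact_mod_cast h3

theorem card_nonzeros (m : ℕ) (hm : 1 ≤ m) :
    Fintype.card {w : Vp m // ¬ (Qp m) w = 0} = 2 ^ (2 * m - 1) - 2 ^ (m - 1) := by
  rw [Fintype.card_subtype_compl, card_zeros m hm, card_Vp]
  obtain ⟨k, rfl⟩ : ∃ k, m = k + 1 := ⟨m - 1, by omega⟩
  have e1 : 2 * (k + 1) - 1 = 2 * k + 1 := by omega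
  have e2 : 2 * (k + 1) = (2 * k + 1) + 1 := by omega
  rw [e1, e2, pow_succ]
  omega

theorem result (m : ℕ) (hm : 1 ≤ m) :
    Nat.card {q : (Fin m ⊕ Fin m → ZMod 2) → ZMod 2 // (∀ u v : (Fin m ⊕ Fin m → ZMod 2), q (u + v) = q u + q v + (Cfsg.quadFormPlus m (ZMod 2) (u + v) - Cfsg.quadFormPlus m (ZMod 2) u - Cfsg.quadFormPlus m (ZMod 2) v))} = 2 ^ (2 * m) ∧
    (∀ q : (Fin m ⊕ Fin m → ZMod 2) → ZMod 2, (∀ u v : (Fin m ⊕ Fin m → ZMod 2), q (u + v) = q u + q v + (Cfsg.quadFormPlus m (ZMod 2) (u + v) - Cfsg.quadFormPlus m (ZMod 2) u - Cfsg.quadFormPlus m (ZMod 2) v)) →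
      (∃ g : (Fin m ⊕ Fin m → ZMod 2) ≃ₗ[ZMod 2] (Fin m ⊕ Fin m → ZMod 2), ∀ v, q v = Cfsg.quadFormPlus m (ZMod 2) (g v)) ∨
      (∃ g : (Fin m ⊕ Fin m → ZMod 2) ≃ₗ[ZMod 2] ((Fin (m - 1) ⊕ Fin (m - 1)) ⊕ Fin 2 → ZMod 2), ∀ v, q v = Cfsg.quadFormMinus (m - 1) (ZMod 2) 1 1 (g v))) ∧
    Nat.card {q : (Fin m ⊕ Fin m → ZMod 2) → ZMod 2 // (∀ u v : (Fin m ⊕ Fin m → ZMod 2), q (u + v) = q u + q v + (Cfsg.quadFormPlus m (ZMod 2) (u + v) - Cfsg.quadFormPlus m (ZMod 2) u - Cfsg.quadFormPlus m (ZMod 2) v)) ∧ ∃ g : (Fin m ⊕ Fin m → ZMod 2) ≃ₗ[ZMod 2] (Fin m ⊕ Fin m → ZMod 2), ∀ v, q v = Cfsg.quadFormPlus m (ZMod 2) (g v)} = 2 ^ (2 * m - 1) + 2 ^ (m - 1) ∧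
    Nat.card {q : (Fin m ⊕ Fin m → ZMod 2) → ZMod 2 // (∀ u v : (Fin m ⊕ Fin m → ZMod 2), q (u + v) = q u + q v + (Cfsg.quadFormPlus m (ZMod 2) (u + v) - Cfsg.quadFormPlus m (ZMod 2) u - Cfsg.quadFormPlus m (ZMod 2) v)) ∧ ∃ g : (Fin m ⊕ Fin m → ZMod 2) ≃ₗ[ZMod 2] ((Fin (m - 1) ⊕ Fin (m - 1)) ⊕ Fin 2 → ZMod 2), ∀ v, q v = Cfsg.quadFormMinus (m - 1) (ZMod 2) 1 1 (g v)} = 2 ^ (2 * m - 1) - 2 ^ (m - 1) := by
  classical
  rw [Qp_eq, Qm_eq]
  show Nat.card {q : Vp m → ZMod 2 // IsPol m q} = 2 ^ (2 * m) ∧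
    (∀ q : Vp m → ZMod 2, IsPol m q → IsPlus m q ∨ IsMinus m q) ∧
    Nat.card {q : Vp m → ZMod 2 // IsPol m q ∧ IsPlus m q} = 2 ^ (2 * m - 1) + 2 ^ (m - 1) ∧
    Nat.card {q : Vp m → ZMod 2 // IsPol m q ∧ IsMinus m q} = 2 ^ (2 * m - 1) - 2 ^ (m - 1)
  refine ⟨?_, plus_or_minus m hm, ?_, ?_⟩
  · have hbij : Function.Bijective (fun w : Vp m => (⟨Phi m w, Phi_mem m w⟩ : {q : Vp m → ZMod 2 // IsPol m q})) := by
      constructor
      · intro w w' h
        exact Phi_inj m (congrArg Subtype.val h)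
      · rintro ⟨q, hq⟩
        obtain ⟨w, hw⟩ := Phi_surj m q hq
        exact ⟨w, Subtype.ext hw⟩
    rw [← Nat.card_congr (Equiv.ofBijective _ hbij), Nat.card_eq_fintype_card, card_Vp]
  · have hbij : Function.Bijective (fun w : {w : Vp m // (Qp m) w = 0} =>
        (⟨Phi m w.1, Phi_mem m w.1, (isPlus_Phi_iff m hm w.1).mpr w.2⟩ :
          {q : Vp m → ZMod 2 // IsPol m q ∧ IsPlus m q})) := by
      constructor
      · intro w w' h
        exact Subtype.ext (Phi_inj m (congrArg Subtype.val h))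
      · rintro ⟨q, hq, hplus⟩
        obtain ⟨w, hw⟩ := Phi_surj m q hq
        subst hw
        exact ⟨⟨w, (isPlus_Phi_iff m hm w).mp hplus⟩, rfl⟩
    rw [← Nat.card_congr (Equiv.ofBijective _ hbij), Nat.card_eq_fintype_card, card_zeros m hm]
  · have hminus : ∀ w : Vp m, ¬ (Qp m) w = 0 → IsMinus m (Phi m w) := by
      intro w hw
      rcases plus_or_minus m hm (Phi m w) (Phi_mem m w) with h | h
      · exact absurd ((isPlus_Phi_iff m hm w).mp h) hw
      · exact h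
    have hbij : Function.Bijective (fun w : {w : Vp m // ¬ (Qp m) w = 0} =>
        (⟨Phi m w.1, Phi_mem m w.1, hminus w.1 w.2⟩ :
          {q : Vp m → ZMod 2 // IsPol m q ∧ IsMinus m q})) := by
      constructor
      · intro w w' h
        exact Subtype.ext (Phi_inj m (congrArg Subtype.val h))
      · rintro ⟨q, hq, hmin⟩
        obtain ⟨w, hw⟩ := Phi_surj m q hq
        subst hw
        refine ⟨⟨w, ?_⟩, rfl⟩
        intro h0
        exact not_plus_and_minus m _ ((isPlus_Phi_iff m hm w).mpr h0) hmin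
    rw [← Nat.card_congr (Equiv.ofBijective _ hbij), Nat.card_eq_fintype_card, card_nonzeros m hm]

end Cfsg.Agent.S2561
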