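import Mathlib
import Cfsg.Statements.S2567

set_option autoImplicit false
open Cfsg

namespace Cfsg.Agent.S2567

/-- abstract lifting lemma: central quotient, centre killed by `m`, `r` prime not dividing `m`. -/
theorem lift_unique {G : Type*} [Group G] (m r : ℕ) (hr : r.Prime) (hrm : ¬ r ∣ m)
    (hm : ∀ z ∈ Subgroup.center G, z ^ m = 1) (x : G ⧸ Subgroup.center G) (hx : orderOf x = r) :
    ∃! g : G, (QuotientGroup.mk g : G ⧸ Subgroup.center G) = x ∧ orderOf g = r := by
  have : Fact r.Prime := ⟨hr⟩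
  obtain ⟨g₀, rfl⟩ := QuotientGroup.mk_surjective x
  have hcop : Nat.Coprime r m := (Nat.Prime.coprime_iff_not_dvd hr).mpr hrm
  have hbez : (1 : ℤ) = r * Nat.gcdA r m + m * Nat.gcdB r m := by
    have := Nat.gcd_eq_gcd_ab r m
    rw [hcop] at this
    exact_mod_cast this
  set a := Nat.gcdA r m
  set b := Nat.gcdB r m
  -- key: any central w with w^r = 1 is trivial
  have hkill : ∀ w ∈ Subgroup.center G, w ^ r = 1 → w = 1 := by
    intro w hw hwr
    have h1 : w ^ (1 : ℤ) = 1 := by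
      rw [hbez, zpow_add, zpow_mul, zpow_mul, zpow_natCast, zpow_natCast, hwr, hm w hw, one_zpow,
        one_zpow, one_mul]
    simpa using h1
  have hz₀ : g₀ ^ r ∈ Subgroup.center G := by
    rw [← QuotientGroup.eq_one_iff, QuotientGroup.mk_pow, ← hx]
    exact pow_orderOf_eq_one _
  set z₀ := g₀ ^ r with hz₀def
  set z := z₀ ^ (-a) with hzdef
  have hz : z ∈ Subgroup.center G := Subgroup.zpow_mem _ hz₀ _
  have hzr : z ^ r = z₀⁻¹ := by
    rw [hzdef, ← zpow_natCast, ← zpow_mul]
    have : -a * (r : ℤ) = m * b + (-1) := by linarith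
    rw [this, zpow_add, zpow_mul, zpow_natCast, hm z₀ hz₀, one_zpow, one_mul, zpow_neg_one]
  have hcomm : Commute g₀ z := Subgroup.mem_center_iff.mp hz g₀
  have hx1 : (QuotientGroup.mk g₀ : G ⧸ Subgroup.center G) ≠ 1 := by
    intro h
    rw [h, orderOf_one] at hx
    exact hr.one_lt.ne hx
  have hord : ∀ g : G, (QuotientGroup.mk g : G ⧸ Subgroup.center G) = QuotientGroup.mk g₀ →
      g ^ r = 1 → orderOf g = r := by
    intro g hg hgr
    refine orderOf_eq_prime hgr ?_
    rintro rfl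
    exact hx1 hg.symm
  refine ⟨g₀ * z, ⟨?_, ?_⟩, ?_⟩
  · rw [QuotientGroup.mk_mul, (QuotientGroup.eq_one_iff z).mpr hz, mul_one]
  · apply hord
    · rw [QuotientGroup.mk_mul, (QuotientGroup.eq_one_iff z).mpr hz, mul_one]
    · rw [hcomm.mul_pow, hzr, mul_inv_cancel]
  · rintro g' ⟨hg'1, hg'2⟩
    have hw : (g₀ * z)⁻¹ * g' ∈ Subgroup.center G := by
      rw [← QuotientGroup.eq, hg'1, QuotientGroup.mk_mul, (QuotientGroup.eq_one_iff z).mpr hz,
        mul_one]
    set w := (g₀ * z)⁻¹ * g' with hwdef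
    have hg' : g' = (g₀ * z) * w := by rw [hwdef]; group
    have hcw : Commute (g₀ * z) w := Subgroup.mem_center_iff.mp hw (g₀ * z)
    have hgr : (g₀ * z) ^ r = 1 := by rw [hcomm.mul_pow, hzr, mul_inv_cancel]
    have hwr : w ^ r = 1 := by
      have : g' ^ r = 1 := by rw [← hg'2]; exact pow_orderOf_eq_one _
      rw [hg', hcw.mul_pow, hgr, one_mul] at this
      exact this
    rw [hg', hkill w hw hwr, mul_one]

theorem result {F : Type*} [Field F] [Fintype F] {q n r : ℕ} (hF : Fintype.card F = q) (hr : r.Prime) (hdiv : ¬ r ∣ q - 1) (x : GL (Fin n) F ⧸ Subgroup.center (GL (Fin n) F)) (hx : orderOf x = r) : ∃! g : GL (Fin n) F, (QuotientGroup.mk g : GL (Fin n) F ⧸ Subgroup.center (GL (Fin n) F)) = x ∧ orderOf g = r := by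
  refine lift_unique (q - 1) r hr hdiv ?_ x hx
  intro z hz
  obtain ⟨a, ha⟩ := Matrix.GeneralLinearGroup.mem_center_iff_val_mem_range_scalar.mp hz
  apply Units.ext
  rw [Units.val_pow_eq_pow_val, Units.val_one, ← ha, ← map_pow]
  by_cases ha0 : a = 0
  · -- then the matrix ring is trivial
    have h0 : (z : Matrix (Fin n) (Fin n) F) = 0 := by rw [← ha, ha0, map_zero]
    have h10 : (1 : Matrix (Fin n) (Fin n) F) = 0 := by
      rw [← z.mul_inv, h0, zero_mul]
    have : ∀ M : Matrix (Fin n) (Fin n) F, M = 0 := fun M => by rw [← mul_one M, h10, mul_zero]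
    rw [this 1]; exact this _
  · rw [← hF, FiniteField.pow_card_sub_one_eq_one a ha0, map_one]

end Cfsg.Agent.S2567
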