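import Mathlib
import Cfsg.Statements.S2568
import Cfsg.Agent.Lib.Helper13.SemisimpleGL
import Cfsg.Agent.Lib.Helper13.TupleCount

set_option autoImplicit false
open Cfsg

namespace Cfsg.Agent.S2568

open Cfsg.Agent.Helper13.SS Polynomial

open scoped Classical

section
variable {F : Type*} [Field F] [Fintype F] {p q : ℕ} [Fact p.Prime] [CharP F p] {n r : ℕ}

/-- extension of a tuple indexed by the cyclotomic factors to all polynomials -/
noncomputable def ext (r : ℕ) (b : ↥(cycFactors F r) → ℕ) : F[X] → ℕ :=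
  fun f => if h : f ∈ cycFactors F r then b ⟨f, h⟩ else 0

theorem ext_apply (b : ↥(cycFactors F r) → ℕ) (a : ↥(cycFactors F r)) : ext r b a.1 = b a := by
  unfold ext
  rw [dif_pos a.2]

theorem sum_ext (b : ↥(cycFactors F r) → ℕ) : ∑ f ∈ cycFactors F r, ext r b f = ∑ a, b a := by
  rw [← Finset.sum_coe_sort (cycFactors F r) (ext r b)]
  exact Finset.sum_congr rfl (fun a _ => ext_apply b a)

theorem exists_rep (hF : Fintype.card F = q) (hr : r.Prime) (hrp : r ≠ p)
    (hi0 : 0 < orderOf (q : ZMod r))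
    (b : {b : ↥(cycFactors F r) → ℕ // ∑ a, b a ≤ n / orderOf (q : ZMod r)}) :
    ∃ g : GL (Fin n) F, g ^ r = 1 ∧
      ∀ f ∈ cycFactors F r, kdim (L g) f = ext r b.1 f * orderOf (q : ZMod r) := by
  apply exists_gl_of_mult hF hr hrp
  rw [sum_ext]
  exact (Nat.le_div_iff_mul_le hi0).1 b.2

/-- the number of classes of elements with `g ^ r = 1` -/
theorem card_classes_pow_eq_one (hF : Fintype.card F = q) (hr : r.Prime) (hrp : r ≠ p)
    (hi0 : 0 < orderOf (q : ZMod r)) :
    Nat.card {C : ConjClasses (GL (Fin n) F) // ∃ g : GL (Fin n) F, ConjClasses.mk g = C ∧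
      g ^ r = 1} =
    Nat.choose (n / orderOf (q : ZMod r) + (cycFactors F r).card) (cycFactors F r).card := by
  have h1 := card_tuples_le ↥(cycFactors F r) (n / orderOf (q : ZMod r))
  rw [Fintype.card_coe] at h1
  rw [← h1]
  symm
  let Θ : {b : ↥(cycFactors F r) → ℕ // ∑ a, b a ≤ n / orderOf (q : ZMod r)} →
      {C : ConjClasses (GL (Fin n) F) // ∃ g : GL (Fin n) F, ConjClasses.mk g = C ∧ g ^ r = 1} :=
    fun b => ⟨ConjClasses.mk (exists_rep hF hr hrp hi0 b).choose,
      (exists_rep hF hr hrp hi0 b).choose, rfl, (exists_rep hF hr hrp hi0 b).choose_spec.1⟩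
  apply Nat.card_eq_of_bijective Θ
  constructor
  · intro b b' h
    have h2 : ConjClasses.mk (exists_rep hF hr hrp hi0 b).choose =
        ConjClasses.mk (exists_rep hF hr hrp hi0 b').choose := congrArg Subtype.val h
    rw [ConjClasses.mk_eq_mk_iff_isConj, isConj_iff_kdim hr hrp _ _
      (exists_rep hF hr hrp hi0 b).choose_spec.1 (exists_rep hF hr hrp hi0 b').choose_spec.1] at h2
    apply Subtype.ext
    funext a
    have h3 := h2 a.1 a.2
    rw [(exists_rep hF hr hrp hi0 b).choose_spec.2 a.1 a.2,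
      (exists_rep hF hr hrp hi0 b').choose_spec.2 a.1 a.2, ext_apply, ext_apply] at h3
    exact Nat.eq_of_mul_eq_mul_right hi0 h3
  · rintro ⟨C, g, rfl, hg⟩
    have hdvd : ∀ f ∈ cycFactors F r, orderOf (q : ZMod r) ∣ kdim (L g) f := by
      intro f hf
      rw [← cycFactors_natDegree hF hr hrp hf]
      exact dvd_kdim (L g) f (cycFactors_irreducible hf)
    let b : ↥(cycFactors F r) → ℕ := fun a => kdim (L g) a.1 / orderOf (q : ZMod r)
    have hb : ∀ a : ↥(cycFactors F r), b a * orderOf (q : ZMod r) = kdim (L g) a.1 :=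
      fun a => Nat.div_mul_cancel (hdvd a.1 a.2)
    have hbsum : ∑ a, b a ≤ n / orderOf (q : ZMod r) := by
      rw [Nat.le_div_iff_mul_le hi0, Finset.sum_mul, Finset.sum_congr rfl (fun a _ => hb a),
        Finset.sum_coe_sort (cycFactors F r) (fun f => kdim (L g) f)]
      exact sum_kdim_le hr hrp g hg
    refine ⟨⟨b, hbsum⟩, ?_⟩
    apply Subtype.ext
    show ConjClasses.mk (exists_rep hF hr hrp hi0 ⟨b, hbsum⟩).choose = ConjClasses.mk g
    rw [ConjClasses.mk_eq_mk_iff_isConj, isConj_iff_kdim hr hrp _ _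
      (exists_rep hF hr hrp hi0 ⟨b, hbsum⟩).choose_spec.1 hg]
    intro f hf
    rw [(exists_rep hF hr hrp hi0 ⟨b, hbsum⟩).choose_spec.2 f hf]
    have := ext_apply b ⟨f, hf⟩
    rw [this]
    exact hb ⟨f, hf⟩

end

theorem result {F : Type*} [Field F] [Fintype F] {p q : ℕ} [Fact p.Prime] [CharP F p] (hF : Fintype.card F = q) (n r i t : ℕ) (hr : r.Prime) (hrp : r ≠ p) (hi : i = orderOf (q : ZMod r)) (ht : t * i = r - 1) : Nat.card {C : ConjClasses (GL (Fin n) F) // ∃ g : GL (Fin n) F, ConjClasses.mk g = C ∧ orderOf g = r} = Nat.choose (n / i + t) t - 1 := by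
  have hr2 := hr.two_le
  have hi0 : 0 < i := by
    rcases Nat.eq_zero_or_pos i with h | h
    · rw [h, mul_zero] at ht
      omega
    · exact h
  have hcard : (cycFactors F r).card = t := by
    have h1 := cycFactors_card hF hr hrp
    rw [← hi, ← ht] at h1
    exact Nat.eq_of_mul_eq_mul_right hi0 h1
  have hmain := card_classes_pow_eq_one (n := n) hF hr hrp (hi ▸ hi0)
  rw [← hi, hcard] at hmain
  rw [← hmain]
  -- remove the identity class
  have hset : {C : ConjClasses (GL (Fin n) F) | ∃ g : GL (Fin n) F, ConjClasses.mk g = C ∧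
      orderOf g = r} =
      {C : ConjClasses (GL (Fin n) F) | ∃ g : GL (Fin n) F, ConjClasses.mk g = C ∧ g ^ r = 1} \
        {ConjClasses.mk 1} := by
    haveI : Fact r.Prime := ⟨hr⟩
    ext C
    simp only [Set.mem_setOf_eq, Set.mem_diff, Set.mem_singleton_iff]
    constructor
    · rintro ⟨g, rfl, hg⟩
      rw [orderOf_eq_prime_iff] at hg
      refine ⟨⟨g, rfl, hg.1⟩, ?_⟩
      rw [ConjClasses.mk_eq_mk_iff_isConj, isConj_one_left]
      exact hg.2
    · rintro ⟨⟨g, rfl, hg⟩, hne⟩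
      refine ⟨g, rfl, ?_⟩
      rw [orderOf_eq_prime_iff]
      refine ⟨hg, ?_⟩
      rintro rfl
      exact hne rfl
  have hmem : ConjClasses.mk (1 : GL (Fin n) F) ∈
      {C : ConjClasses (GL (Fin n) F) | ∃ g : GL (Fin n) F, ConjClasses.mk g = C ∧ g ^ r = 1} :=
    ⟨1, rfl, one_pow r⟩
  have h2 := Set.ncard_diff_singleton_of_mem hmem
  rw [← hset] at h2
  rw [← Nat.card_coe_set_eq, ← Nat.card_coe_set_eq] at h2
  exact h2

end Cfsg.Agent.S2568
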