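import Mathlib
import Cfsg.Statements.S2569
import Cfsg.Agent.Lib.Helper13.SemisimpleDet

set_option autoImplicit false
open Cfsg

namespace Cfsg.Agent.S2569

open Matrix Polynomial Cfsg.Agent.Helper13

theorem result {F : Type*} [Field F] [Fintype F] {p : ℕ} [Fact p.Prime] [CharP F p] {n : ℕ} (x g : GL (Fin n) F) (hx : (orderOf x).Coprime p) : ∃ h : GL (Fin n) F, (h : Matrix (Fin n) (Fin n) F).det = 1 ∧ h * x * h⁻¹ = g * x * g⁻¹ := by
  rcases Nat.eq_zero_or_pos n with hn | hn
  · subst hn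
    refine ⟨g, ?_, rfl⟩
    rw [Matrix.det_isEmpty]
  -- the endomorphism attached to x is semisimple
  set m := orderOf x with hm
  set Mx : Matrix (Fin n) (Fin n) F := (x : Matrix (Fin n) (Fin n) F) with hMx
  set f : Module.End F (Fin n → F) := Matrix.toLin' Mx with hf
  have hpm : ¬ p ∣ m := by
    intro hdvd
    have h1 : p ∣ Nat.gcd m p := Nat.dvd_gcd hdvd dvd_rfl
    rw [Nat.Coprime] at hx
    rw [hx] at h1
    exact (Fact.out : p.Prime).one_lt.ne' (Nat.dvd_one.1 h1)
  have hmF : (m : F) ≠ 0 := by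
    rw [Ne, CharP.cast_eq_zero_iff F p m]
    exact hpm
  have hXm : Mx ^ m = 1 := by
    have h1 : ((x ^ m : GL (Fin n) F) : Matrix (Fin n) (Fin n) F) = 1 := by
      rw [hm, pow_orderOf_eq_one]; rfl
    rw [Units.val_pow_eq_pow_val] at h1
    exact h1
  have hfm : f ^ m = 1 := by
    rw [hf, ← Matrix.toLin'_pow, hXm, Matrix.toLin'_one]
    rfl
  have hsq : Squarefree (X ^ m - C (1 : F) : F[X]) :=
    (Polynomial.separable_X_pow_sub_C (1 : F) hmF one_ne_zero).squarefree
  have hsemi : f.IsSemisimple := by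
    apply Module.End.isSemisimple_of_squarefree_aeval_eq_zero hsq
    rw [map_sub, map_pow, aeval_X, aeval_C, hfm, map_one, sub_self]
  have : Nontrivial (Fin n → F) := by
    have : Nonempty (Fin n) := ⟨⟨0, hn⟩⟩
    infer_instance
  -- a commuting element with the determinant of g
  obtain ⟨c, hc, hdet⟩ := exists_commuting_det f hsemi (g : Matrix (Fin n) (Fin n) F).det
  set Cm : Matrix (Fin n) (Fin n) F := LinearMap.toMatrix' c with hCm
  have hCdet : Cm.det = (g : Matrix (Fin n) (Fin n) F).det := by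
    rw [hCm, LinearMap.det_toMatrix', hdet]
  have hgdet : (g : Matrix (Fin n) (Fin n) F).det ≠ 0 := (Matrix.isUnits_det_units g).ne_zero
  have hCdet0 : Cm.det ≠ 0 := by rw [hCdet]; exact hgdet
  set cG : GL (Fin n) F := Matrix.GeneralLinearGroup.mkOfDetNeZero Cm hCdet0 with hcG
  have hcomm : cG * x = x * cG := by
    apply Units.ext
    change Cm * Mx = Mx * Cm
    have h1 : c ∘ₗ f = f ∘ₗ c := by
      apply LinearMap.ext
      intro v
      exact hc v
    have := congrArg LinearMap.toMatrix' h1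
    rw [LinearMap.toMatrix'_comp, LinearMap.toMatrix'_comp, hf, LinearMap.toMatrix'_toLin'] at this
    exact this
  refine ⟨g * cG⁻¹, ?_, ?_⟩
  · rw [Units.val_mul, Matrix.det_mul]
    have h2 : ((cG⁻¹ : GL (Fin n) F) : Matrix (Fin n) (Fin n) F).det * Cm.det = 1 := by
      have : (cG⁻¹ * cG : GL (Fin n) F) = 1 := inv_mul_cancel cG
      have := congrArg (fun y : GL (Fin n) F => (y : Matrix (Fin n) (Fin n) F).det) this
      simp only [Units.val_mul, Matrix.det_mul, Units.val_one, Matrix.det_one] at this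
      exact this
    rw [← hCdet, mul_comm]
    exact h2
  · have e1 : g * cG⁻¹ * x * (g * cG⁻¹)⁻¹ = g * (cG⁻¹ * (x * cG)) * g⁻¹ := by group
    rw [e1, ← hcomm]
    group

end Cfsg.Agent.S2569
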