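import Mathlib
import Cfsg.Statements.S2571
import Cfsg.Agent.Lib.Helper13.CyclicVec

set_option autoImplicit false
open Cfsg

namespace Cfsg.Agent.S2571

open Module LinearMap Matrix Polynomial Cfsg.Agent.Helper13

theorem result {F : Type*} [Field F] [Fintype F] {q n : ℕ} (hF : Fintype.card F = q) (hn : 1 ≤ n) (u : GL (Fin n) F) (hnil : ((u : Matrix (Fin n) (Fin n) F) - 1) ^ n = 0) (hreg : ((u : Matrix (Fin n) (Fin n) F) - 1).rank = n - 1) : Nat.card ↥(Subgroup.centralizer ({u} : Set (GL (Fin n) F))) = (q - 1) * q ^ (n - 1) := by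
  classical
  set N : Matrix (Fin n) (Fin n) F := (u : Matrix (Fin n) (Fin n) F) - 1 with hN
  set f : Module.End F (Fin n → F) := Matrix.toLin' N with hf
  have hfr : finrank F (Fin n → F) = n := Module.finrank_fin_fun F
  have hrk : finrank F (range f) = n - 1 := by
    rw [← hreg, Matrix.rank, hf, Matrix.toLin'_apply']
  have h1 : finrank F (ker f) ≤ 1 := by
    have := LinearMap.finrank_range_add_finrank_ker f
    rw [hfr, hrk] at this
    omega
  have hfn : f ^ (finrank F (Fin n → F)) = 0 := by
    rw [hfr, hf, ← Matrix.toLin'_pow, hnil, map_zero]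
  obtain ⟨v, hv⟩ := exists_top_vector f h1 hfn (by omega)
  have hcyc := cyclicSpan_eq_top_of_top_vector f h1 hfn v hv
  -- commutation transfer
  have hcomm : ∀ G : Matrix (Fin n) (Fin n) F, G * (u : Matrix (Fin n) (Fin n) F) = (u : Matrix (Fin n) (Fin n) F) * G ↔
      Commute (Matrix.toLin' G) f := by
    intro G
    have e1 : G * (u : Matrix (Fin n) (Fin n) F) = (u : Matrix (Fin n) (Fin n) F) * G ↔ G * N = N * G := by
      rw [hN, mul_sub, sub_mul, mul_one, one_mul]
      constructor
      · intro h; rw [h]
      · intro h; exact sub_left_injective h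
    rw [e1]
    constructor
    · intro h
      show Matrix.toLin' G * Matrix.toLin' N = Matrix.toLin' N * Matrix.toLin' G
      rw [Module.End.mul_eq_comp, Module.End.mul_eq_comp, ← Matrix.toLin'_mul, ← Matrix.toLin'_mul, h]
    · intro h
      apply Matrix.toLin'.injective
      rw [Matrix.toLin'_mul, Matrix.toLin'_mul]
      exact h
  have hmemC : ∀ g : GL (Fin n) F, g ∈ Subgroup.centralizer ({u} : Set (GL (Fin n) F)) ↔
      Commute (Matrix.toLin' (g : Matrix (Fin n) (Fin n) F)) f := by
    intro g
    rw [Subgroup.mem_centralizer_iff, ← hcomm]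
    constructor
    · intro h
      have := h u rfl
      have := congrArg (fun x : GL (Fin n) F => (x : Matrix (Fin n) (Fin n) F)) this
      simpa using this.symm
    · intro h x hx
      rw [Set.mem_singleton_iff] at hx
      subst hx
      apply Units.ext
      simpa using h.symm
  -- the bijection
  have hinjG : ∀ g : GL (Fin n) F, Function.Injective (Matrix.toLin' (g : Matrix (Fin n) (Fin n) F)) := by
    intro g
    have : Function.Injective (g : Matrix (Fin n) (Fin n) F).mulVec :=
      Matrix.mulVec_injective_iff_isUnit.mpr (Units.isUnit g)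
    rw [Matrix.toLin'_apply', Matrix.coe_mulVecLin]
    exact this
  let φ : ↥(Subgroup.centralizer ({u} : Set (GL (Fin n) F))) → ↥((range f : Set (Fin n → F))ᶜ) :=
    fun g => ⟨Matrix.toLin' ((g : GL (Fin n) F) : Matrix (Fin n) (Fin n) F) v, by
      have := (injective_iff_not_mem_range f h1 hfn (by omega) v hv _ ((hmemC g.1).mp g.2)).mp (hinjG g.1)
      exact this⟩
  have hφ : Function.Bijective φ := by
    constructor
    · intro g₁ g₂ h
      have h' : Matrix.toLin' ((g₁ : GL (Fin n) F) : Matrix (Fin n) (Fin n) F) v =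
          Matrix.toLin' ((g₂ : GL (Fin n) F) : Matrix (Fin n) (Fin n) F) v := congrArg Subtype.val h
      have := comm_ext_of_cyclic f v hcyc _ _ ((hmemC g₁.1).mp g₁.2) ((hmemC g₂.1).mp g₂.2) h'
      have := Matrix.toLin'.injective this
      exact Subtype.ext (Units.ext this)
    · rintro ⟨w, hw⟩
      obtain ⟨p, hp⟩ := exists_aeval_of_mem_cyclicSpan f v w (hcyc ▸ Submodule.mem_top)
      set h : Module.End F (Fin n → F) := aeval f p with hh
      have hhc : Commute h f :=
        (Algebra.commute_of_mem_adjoin_self (aeval_mem_adjoin_singleton F f)).symm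
      have hhinj : Function.Injective h :=
        (injective_iff_not_mem_range f h1 hfn (by omega) v hv h hhc).mpr (by rw [hp]; exact hw)
      set H : Matrix (Fin n) (Fin n) F := LinearMap.toMatrix' h with hH
      have hHlin : Matrix.toLin' H = h := Matrix.toLin'_toMatrix' h
      have hHunit : IsUnit H := by
        apply Matrix.mulVec_injective_iff_isUnit.mp
        have : Function.Injective (Matrix.toLin' H) := by rw [hHlin]; exact hhinj
        rw [Matrix.toLin'_apply', Matrix.coe_mulVecLin] at this
        exact this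
      set g : GL (Fin n) F := hHunit.unit with hg
      have hgval : (g : Matrix (Fin n) (Fin n) F) = H := IsUnit.unit_spec hHunit
      have hgC : g ∈ Subgroup.centralizer ({u} : Set (GL (Fin n) F)) := by
        rw [hmemC, hgval, hHlin]; exact hhc
      refine ⟨⟨g, hgC⟩, ?_⟩
      apply Subtype.ext
      show Matrix.toLin' ((g : GL (Fin n) F) : Matrix (Fin n) (Fin n) F) v = w
      rw [hgval, hHlin, hp]
  rw [Nat.card_congr (Equiv.ofBijective φ hφ), Nat.card_coe_set_eq, Set.ncard_compl,
    ← Nat.card_coe_set_eq]
  have hcV : Nat.card (Fin n → F) = q ^ n := by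
    rw [Module.natCard_eq_pow_finrank (K := F), hfr, Nat.card_eq_fintype_card, hF]
  have hcR : Nat.card (range f) = q ^ (n - 1) := by
    rw [Module.natCard_eq_pow_finrank (K := F), hrk, Nat.card_eq_fintype_card, hF]
  rw [hcV]
  have : Nat.card ↥(range f : Set (Fin n → F)) = q ^ (n - 1) := hcR
  rw [this]
  obtain ⟨k, rfl⟩ : ∃ k, n = k + 1 := ⟨n - 1, by omega⟩
  simp only [Nat.add_sub_cancel]
  rw [pow_succ, Nat.sub_mul, one_mul, mul_comm]

end Cfsg.Agent.S2571
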