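import Mathlib
import Cfsg.Statements.S2572
import Cfsg.Agent.Lib.Helper13.Transv
import Cfsg.Agent.S2579

set_option autoImplicit false
open Cfsg

namespace Cfsg.Agent.S2572

open Matrix

/-! ### Group-theoretic transport lemmas -/

theorem card_centralizer_conj {G : Type*} [Group G] (g h : G) :
    Nat.card (Subgroup.centralizer ({h * g * h⁻¹} : Set G)) =
      Nat.card (Subgroup.centralizer ({g} : Set G)) := by
  refine Nat.card_congr
    { toFun := fun x => ⟨h⁻¹ * x * h, ?_⟩
      invFun := fun y => ⟨h * y * h⁻¹, ?_⟩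
      left_inv := ?_
      right_inv := ?_ }
  · have hx := Subgroup.mem_centralizer_singleton_iff.1 x.2
    rw [Subgroup.mem_centralizer_singleton_iff]
    calc h⁻¹ * ↑x * h * g = h⁻¹ * (↑x * (h * g * h⁻¹)) * h := by group
      _ = h⁻¹ * ((h * g * h⁻¹) * ↑x) * h := by rw [hx]
      _ = g * (h⁻¹ * ↑x * h) := by group
  · have hy := Subgroup.mem_centralizer_singleton_iff.1 y.2
    rw [Subgroup.mem_centralizer_singleton_iff]
    calc h * ↑y * h⁻¹ * (h * g * h⁻¹) = h * (↑y * g) * h⁻¹ := by group
      _ = h * (g * ↑y) * h⁻¹ := by rw [hy]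
      _ = h * g * h⁻¹ * (h * ↑y * h⁻¹) := by group
  · intro x; apply Subtype.ext; simp only; group
  · intro y; apply Subtype.ext; simp only; group

theorem card_centralizer_mulEquiv {G H : Type*} [Group G] [Group H] (ψ : G ≃* H) (g : G) :
    Nat.card (Subgroup.centralizer ({ψ g} : Set H)) =
      Nat.card (Subgroup.centralizer ({g} : Set G)) := by
  refine Nat.card_congr
    { toFun := fun x => ⟨ψ.symm x, ?_⟩
      invFun := fun y => ⟨ψ y, ?_⟩
      left_inv := ?_
      right_inv := ?_ }
  · have hx := Subgroup.mem_centralizer_singleton_iff.1 x.2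
    rw [Subgroup.mem_centralizer_singleton_iff]
    apply ψ.injective
    rw [map_mul, map_mul, ψ.apply_symm_apply]
    exact hx
  · have hy := Subgroup.mem_centralizer_singleton_iff.1 y.2
    rw [Subgroup.mem_centralizer_singleton_iff, ← map_mul, ← map_mul, hy]
  · intro x; apply Subtype.ext; simp
  · intro y; apply Subtype.ext; simp

/-! ### The model computation -/

section model
variable {F : Type*} [Field F] {m : ℕ}

/-- index type `1 + m + 1` -/
abbrev I (m : ℕ) := Unit ⊕ (Fin m ⊕ Unit)

/-- first index -/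
abbrev o : I m := Sum.inl ()
/-- middle indices -/
abbrev mid (k : Fin m) : I m := Sum.inr (Sum.inl k)
/-- last index -/
abbrev z : I m := Sum.inr (Sum.inr ())

/-- the elementary nilpotent matrix `E_{o z}` -/
abbrev E (F : Type*) [Field F] (m : ℕ) : Matrix (I m) (I m) F := Matrix.single o z 1

theorem mul_E_apply (g : Matrix (I m) (I m) F) (i j : I m) :
    (g * E F m) i j = if j = z then g i o else 0 := by
  by_cases h : j = z
  · subst h
    rw [Matrix.mul_single_apply_same, mul_one, if_pos rfl]
  · rw [Matrix.mul_single_apply_of_ne _ _ _ _ _ h _, if_neg h]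

theorem E_mul_apply (g : Matrix (I m) (I m) F) (i j : I m) :
    (E F m * g) i j = if i = o then g z j else 0 := by
  by_cases h : i = o
  · subst h
    rw [Matrix.single_mul_apply_same, one_mul, if_pos rfl]
  · rw [Matrix.single_mul_apply_of_ne _ _ _ _ _ h _, if_neg h]

/-- the general element of the centraliser -/
def build (a : F) (r : Fin m → F) (s : F) (D : Matrix (Fin m) (Fin m) F) (c : Fin m → F) :
    Matrix (I m) (I m) F :=
  Matrix.fromBlocks (Matrix.of fun _ _ => a) (Matrix.of fun _ j => Sum.elim r (fun _ => s) j) 0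
    (Matrix.fromBlocks D (Matrix.of fun k _ => c k) 0 (Matrix.of fun _ _ => a))

theorem det_build (a : F) (r : Fin m → F) (s : F) (D : Matrix (Fin m) (Fin m) F) (c : Fin m → F) :
    (build a r s D c).det = a * (D.det * a) := by
  have h1 : (Matrix.of fun (_ _ : Unit) => a).det = a := by rw [Matrix.det_unique]; rfl
  unfold build
  rw [Matrix.det_fromBlocks_zero₂₁, Matrix.det_fromBlocks_zero₂₁, h1]

section entries
variable (a : F) (r : Fin m → F) (s : F) (D : Matrix (Fin m) (Fin m) F) (c : Fin m → F)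
theorem build_oo : build a r s D c o o = a := rfl
theorem build_om (l : Fin m) : build a r s D c o (mid l) = r l := rfl
theorem build_oz : build a r s D c o z = s := rfl
theorem build_mo (k : Fin m) : build a r s D c (mid k) o = 0 := rfl
theorem build_mm (k l : Fin m) : build a r s D c (mid k) (mid l) = D k l := rfl
theorem build_mz (k : Fin m) : build a r s D c (mid k) z = c k := rfl
theorem build_zo : build a r s D c z o = 0 := rfl
theorem build_zm (l : Fin m) : build a r s D c z (mid l) = 0 := rfl
theorem build_zz : build a r s D c z z = a := rfl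
end entries

theorem comm_iff (g : Matrix (I m) (I m) F) :
    g * E F m = E F m * g ↔
      (∀ k, g (mid k) o = 0) ∧ g z o = 0 ∧ (∀ l, g z (mid l) = 0) ∧ g z z = g o o := by
  constructor
  · intro h
    have key : ∀ i j, (if j = z then g i o else 0) = (if i = o then g z j else 0) := by
      intro i j
      rw [← mul_E_apply, ← E_mul_apply, h]
    refine ⟨fun k => ?_, ?_, fun l => ?_, ?_⟩
    · have := key (mid k) z
      simpa using this
    · have := key z z
      simpa using this
    · have := key o (mid l)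
      simpa using this.symm
    · have := key o z
      simpa using this.symm
  · rintro ⟨h1, h2, h3, h4⟩
    ext i j
    rw [mul_E_apply, E_mul_apply]
    rcases i with _ | k | _ <;> rcases j with _ | l | _ <;> simp [h1, h2, h3, h4]

theorem shape (g : Matrix (I m) (I m) F) (h : g * E F m = E F m * g) :
    g = build (g o o) (fun l => g o (mid l)) (g o z) (Matrix.of fun k l => g (mid k) (mid l))
      (fun k => g (mid k) z) := by
  obtain ⟨h1, h2, h3, h4⟩ := (comm_iff g).1 h
  ext i j
  rcases i with ⟨⟨⟩⟩ | k | ⟨⟨⟩⟩ <;> rcases j with ⟨⟨⟩⟩ | l | ⟨⟨⟩⟩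
  · rfl
  · rfl
  · rfl
  · exact h1 k
  · rfl
  · rfl
  · exact h2
  · exact h3 l
  · exact h4

theorem build_comm (a : F) (r : Fin m → F) (s : F) (D : Matrix (Fin m) (Fin m) F) (c : Fin m → F) :
    build a r s D c * E F m = E F m * build a r s D c := by
  rw [comm_iff]
  exact ⟨fun k => build_mo .., build_zo .., fun l => build_zm .., by rw [build_zz, build_oo]⟩

/-- the standard transvection -/
noncomputable def t0 (F : Type*) [Field F] (m : ℕ) : GL (I m) F :=
  Matrix.GeneralLinearGroup.mkOfDetNeZero (1 + E F m) (by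
    have : (1 : Matrix (I m) (I m) F) + E F m = Matrix.transvection o z 1 := rfl
    rw [this, Matrix.det_transvection_of_ne _ _ (by simp)]
    exact one_ne_zero)

theorem t0_coe : ((t0 F m : GL (I m) F) : Matrix (I m) (I m) F) = 1 + E F m := rfl

theorem mem_centralizer_t0 (x : GL (I m) F) :
    x ∈ Subgroup.centralizer ({t0 F m} : Set (GL (I m) F)) ↔
      (x : Matrix (I m) (I m) F) * E F m = E F m * (x : Matrix (I m) (I m) F) := by
  rw [Subgroup.mem_centralizer_singleton_iff, ← Units.val_inj, Units.val_mul, Units.val_mul, t0_coe,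
    mul_add, add_mul, mul_one, one_mul]
  exact add_right_inj _

/-- the parameter space -/
abbrev P (F : Type*) [Field F] (m : ℕ) := Fˣ × (Fin m → F) × F × GL (Fin m) F × (Fin m → F)

theorem det_build_ne (p : P F m) :
    (build (p.1 : F) p.2.1 p.2.2.1 (p.2.2.2.1 : Matrix (Fin m) (Fin m) F) p.2.2.2.2).det ≠ 0 := by
  rw [det_build]
  have h1 : (p.1 : F) ≠ 0 := p.1.ne_zero
  have h2 : (p.2.2.2.1 : Matrix (Fin m) (Fin m) F).det ≠ 0 :=
    (Matrix.isUnits_det_units p.2.2.2.1).ne_zero
  exact mul_ne_zero h1 (mul_ne_zero h2 h1)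

/-- the parametrisation of the centraliser -/
noncomputable def Φ (p : P F m) : Subgroup.centralizer ({t0 F m} : Set (GL (I m) F)) :=
  ⟨Matrix.GeneralLinearGroup.mkOfDetNeZero
      (build (p.1 : F) p.2.1 p.2.2.1 (p.2.2.2.1 : Matrix (Fin m) (Fin m) F) p.2.2.2.2) (det_build_ne p), by
    rw [mem_centralizer_t0]
    exact build_comm ..⟩

theorem Φ_coe (p : P F m) : (((Φ p : Subgroup.centralizer ({t0 F m} : Set (GL (I m) F))) : GL (I m) F) :
    Matrix (I m) (I m) F) = build (p.1 : F) p.2.1 p.2.2.1 (p.2.2.2.1 : Matrix (Fin m) (Fin m) F) p.2.2.2.2 := rfl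

theorem Φ_bijective : Function.Bijective (Φ : P F m → _) := by
  constructor
  · rintro ⟨a, r, s, D, c⟩ ⟨a', r', s', D', c'⟩ h
    have hm := congrArg (fun x : Subgroup.centralizer ({t0 F m} : Set (GL (I m) F)) =>
      ((x : GL (I m) F) : Matrix (I m) (I m) F)) h
    simp only [Φ_coe] at hm
    have ha : a = a' := Units.ext (by simpa [build_oo] using congrFun (congrFun hm o) o)
    have hr : r = r' := by
      funext l; simpa [build_om] using congrFun (congrFun hm o) (mid l)
    have hs : s = s' := by simpa [build_oz] using congrFun (congrFun hm o) z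
    have hD : D = D' := by
      apply Units.ext
      ext k l
      simpa [build_mm] using congrFun (congrFun hm (mid k)) (mid l)
    have hc : c = c' := by
      funext k; simpa [build_mz] using congrFun (congrFun hm (mid k)) z
    rw [ha, hr, hs, hD, hc]
  · rintro ⟨x, hx⟩
    rw [mem_centralizer_t0] at hx
    have hsh := shape _ hx
    set X : Matrix (I m) (I m) F := (x : Matrix (I m) (I m) F) with hX
    have hdet : X.det ≠ 0 := (Matrix.isUnits_det_units x).ne_zero
    rw [hsh, det_build] at hdet
    have ha : X o o ≠ 0 := left_ne_zero_of_mul hdet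
    have hD : (Matrix.of fun k l => X (mid k) (mid l) : Matrix (Fin m) (Fin m) F).det ≠ 0 :=
      left_ne_zero_of_mul (right_ne_zero_of_mul hdet)
    refine ⟨(Units.mk0 (X o o) ha, fun l => X o (mid l), X o z,
      Matrix.GeneralLinearGroup.mkOfDetNeZero _ hD, fun k => X (mid k) z), ?_⟩
    apply Subtype.ext
    apply Units.ext
    rw [Φ_coe]
    exact hsh.symm

theorem card_P [Fintype F] : Nat.card (P F m) =
    (Fintype.card F - 1) * (Fintype.card F ^ m * (Fintype.card F *
      ((∏ i : Fin m, (Fintype.card F ^ m - Fintype.card F ^ (i : ℕ))) * Fintype.card F ^ m))) := by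
  classical
  have h1 : Nat.card Fˣ = Fintype.card F - 1 := by
    rw [Nat.card_eq_fintype_card, Fintype.card_units]
  have h2 : Nat.card (Fin m → F) = Fintype.card F ^ m := by
    rw [Nat.card_fun, Nat.card_eq_fintype_card, Nat.card_eq_fintype_card, Fintype.card_fin]
  rw [Nat.card_prod, Nat.card_prod, Nat.card_prod, Nat.card_prod, h1, h2, Matrix.card_GL_field,
    Nat.card_eq_fintype_card]

theorem card_centralizer_t0 [Fintype F] :
    Nat.card (Subgroup.centralizer ({t0 F m} : Set (GL (I m) F))) =
    (Fintype.card F - 1) * (Fintype.card F ^ m * (Fintype.card F *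
      ((∏ i : Fin m, (Fintype.card F ^ m - Fintype.card F ^ (i : ℕ))) * Fintype.card F ^ m))) := by
  rw [← card_P, Nat.card_eq_of_bijective Φ Φ_bijective]

end model

/-! ### Conjugacy of transvections in `GL_n` -/

section conj
variable {F : Type*} [Field F] {n : ℕ}

theorem exists_conj (t : GL (Fin n) F) (ht : Cfsg.IsTransvection (t : Matrix (Fin n) (Fin n) F))
    (t₁ : GL (Fin n) F) (i j : Fin n) (hij : i ≠ j)
    (ht₁ : (t₁ : Matrix (Fin n) (Fin n) F) = 1 + Matrix.single i j 1) :
    ∃ h : GL (Fin n) F, h * t₁ * h⁻¹ = t := by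
  obtain ⟨hrk, hsq⟩ := Cfsg.Agent.S2579.data_of_isTransvection _ ht
  obtain ⟨v, φ, u, hv, hu, hφv, hT⟩ := Cfsg.Agent.Helper13.rank_one_data _ hrk hsq
  -- data for the standard transvection
  set v₁ : Fin n → F := Pi.single i 1 with hv₁
  set φ₁ : Module.Dual F (Fin n → F) := LinearMap.proj j with hφ₁
  set u₁ : Fin n → F := Pi.single j 1 with hu₁
  have hv₁0 : v₁ ≠ 0 := by
    intro h
    have := congrFun h i
    simp [hv₁] at this
  have hφu₁ : φ₁ u₁ = 1 := by simp [hφ₁, hu₁]
  have hφv₁ : φ₁ v₁ = 0 := by simp [hφ₁, hv₁, hij.symm]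
  obtain ⟨g, hgv, hgφ⟩ := Cfsg.Agent.Helper13.exists_intertwiner v₁ φ₁ u₁ hv₁0 hφu₁ hφv₁ v φ u hv hu hφv
  have hT₁ : ∀ x, Matrix.toLin' (Matrix.single i j (1 : F)) x = φ₁ x • v₁ := by
    intro x
    rw [Matrix.toLin'_apply, Matrix.single_mulVec_eq, one_mul]
    rfl
  have hcomm : (g : (Fin n → F) →ₗ[F] (Fin n → F)) ∘ₗ Matrix.toLin' (Matrix.single i j (1 : F)) =
      Matrix.toLin' ((t : Matrix (Fin n) (Fin n) F) - 1) ∘ₗ (g : (Fin n → F) →ₗ[F] (Fin n → F)) := by
    apply LinearMap.ext
    intro x
    simp only [LinearMap.comp_apply, LinearEquiv.coe_coe]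
    rw [hT₁, hT, map_smul, hgv, hgφ]
  set H : Matrix (Fin n) (Fin n) F := LinearMap.toMatrix' (g : (Fin n → F) →ₗ[F] (Fin n → F)) with hH
  have hHdet : H.det ≠ 0 := by
    rw [hH, LinearMap.det_toMatrix']
    exact (LinearEquiv.isUnit_det' g).ne_zero
  have hmat : H * Matrix.single i j (1 : F) = ((t : Matrix (Fin n) (Fin n) F) - 1) * H := by
    have := congrArg LinearMap.toMatrix' hcomm
    rw [LinearMap.toMatrix'_comp, LinearMap.toMatrix'_comp, LinearMap.toMatrix'_toLin',
      LinearMap.toMatrix'_toLin'] at this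
    exact this
  have hmat2 : H * (t₁ : Matrix (Fin n) (Fin n) F) = (t : Matrix (Fin n) (Fin n) F) * H := by
    rw [ht₁, mul_add, mul_one, hmat, sub_mul, one_mul]
    abel
  refine ⟨Matrix.GeneralLinearGroup.mkOfDetNeZero H hHdet, ?_⟩
  have : Matrix.GeneralLinearGroup.mkOfDetNeZero H hHdet * t₁ =
      t * Matrix.GeneralLinearGroup.mkOfDetNeZero H hHdet := by
    apply Units.ext
    exact hmat2
  rw [this, mul_inv_cancel_right]

end conj

theorem result {F : Type*} [Field F] [Fintype F] {q n : ℕ} (hF : Fintype.card F = q) (hn : 2 ≤ n) (t : GL (Fin n) F) (ht : Cfsg.IsTransvection (t : Matrix (Fin n) (Fin n) F)) : Nat.card ↥(Subgroup.centralizer ({t} : Set (GL (Fin n) F))) = q ^ (2 * n - 3) * (q - 1) * ∏ i : Fin (n - 2), (q ^ (n - 2) - q ^ (i : ℕ)) := by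
  subst hF
  set m := n - 2 with hm
  have hcard : Fintype.card (I m) = Fintype.card (Fin n) := by
    simp only [Fintype.card_sum, Fintype.card_unique, Fintype.card_fin]
    omega
  let e : I m ≃ Fin n := Fintype.equivOfCardEq hcard
  let ψ : GL (I m) F ≃* GL (Fin n) F := Units.mapEquiv (Matrix.reindexAlgEquiv F F e).toMulEquiv
  have ht₁ : ((ψ (t0 F m) : GL (Fin n) F) : Matrix (Fin n) (Fin n) F) =
      1 + Matrix.single (e o) (e z) 1 := by
    change Matrix.reindexAlgEquiv F F e (1 + E F m) = _
    rw [map_add, map_one, Matrix.coe_reindexAlgEquiv, Matrix.reindex_apply,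
      Matrix.submatrix_single_equiv]
    simp
  have hne : e o ≠ e z := e.injective.ne (by simp)
  obtain ⟨h, hh⟩ := exists_conj t ht (ψ (t0 F m)) (e o) (e z) hne ht₁
  rw [← hh, card_centralizer_conj, card_centralizer_mulEquiv ψ, card_centralizer_t0]
  have hexp : 2 * n - 3 = m + 1 + m := by omega
  rw [hexp, pow_add, pow_add, pow_one]
  ring

end Cfsg.Agent.S2572
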