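import Mathlib
import Cfsg.Statements.S2573
import Cfsg.Agent.Lib.Helper13.RegUnip

set_option autoImplicit false
open scoped Pointwise
open Cfsg

namespace Cfsg.Agent.S2573

theorem result {F : Type*} [Field F] [Finite F] {n : ℕ} (u : Matrix (Fin n) (Fin n) F) (hnil : (u - 1) ^ n = 0) (hreg : (u - 1).rank = n - 1) (W : Submodule F (Fin n → F)) (hW : ∀ v ∈ W, u.mulVec v ∈ W) : W = LinearMap.ker (Matrix.mulVecLin ((u - 1) ^ Module.finrank F W)) := by
  have hfr : Module.finrank F (Fin n → F) = n := Module.finrank_fin_fun F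
  set f : Module.End F (Fin n → F) := Matrix.toLin' (u - 1) with hf
  have h1 : Module.finrank F (LinearMap.ker f) ≤ 1 := by
    have h2 := LinearMap.finrank_range_add_finrank_ker f
    rw [hfr] at h2
    have h3 : Module.finrank F (LinearMap.range f) = n - 1 := by
      rw [← hreg, Matrix.rank, hf, Matrix.toLin'_apply']
    omega
  have hn : f ^ (Module.finrank F (Fin n → F)) = 0 := by
    rw [hfr, hf, ← Matrix.toLin'_pow, hnil, map_zero]
  have hW' : ∀ x ∈ W, f x ∈ W := by
    intro x hx
    rw [hf, Matrix.toLin'_apply, Matrix.sub_mulVec, Matrix.one_mulVec]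
    exact W.sub_mem (hW x hx) hx
  have key := Cfsg.Agent.Helper13.invariant_eq_ker_pow f h1 hn W hW'
  have e : Matrix.mulVecLin ((u - 1) ^ Module.finrank F W) = f ^ Module.finrank F W := by
    rw [hf, ← Matrix.toLin'_pow, Matrix.toLin'_apply']
  rw [e]
  exact key

end Cfsg.Agent.S2573
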