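import Mathlib
import Cfsg.Statements.S2574
import Cfsg.Agent.Lib.Helper13.RegUnip

set_option autoImplicit false
open scoped Pointwise
open Cfsg

namespace Cfsg.Agent.S2574

open Matrix

/-- For `A` with `Aᵀ J A = J` and `N = A - 1`: `(Nᵀ)^a J = (-1)^a (Aᵀ)^a J N^a`. -/
theorem adj_pow {ι R : Type*} [Fintype ι] [DecidableEq ι] [CommRing R] (A J : Matrix ι ι R)
    (hA : Aᵀ * J * A = J) (a : ℕ) :
    ((A - 1)ᵀ) ^ a * J = (-1 : R) ^ a • ((Aᵀ) ^ a * J * (A - 1) ^ a) := by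
  have h1 : (A - 1)ᵀ * J = -(Aᵀ * J * (A - 1)) := by
    rw [Matrix.mul_sub, hA, Matrix.mul_one, transpose_sub, transpose_one, Matrix.sub_mul, Matrix.one_mul]
    abel
  have hc : Commute ((A - 1)ᵀ) (Aᵀ) := by
    rw [transpose_sub, transpose_one]
    exact (Commute.refl _).sub_left (Commute.one_left _)
  induction a with
  | zero => simp
  | succ a ih =>
    calc ((A - 1)ᵀ) ^ (a + 1) * J = (A - 1)ᵀ * (((A - 1)ᵀ) ^ a * J) := by
          rw [pow_succ', Matrix.mul_assoc]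
      _ = (A - 1)ᵀ * ((-1 : R) ^ a • ((Aᵀ) ^ a * J * (A - 1) ^ a)) := by rw [ih]
      _ = (-1 : R) ^ a • (((A - 1)ᵀ * (Aᵀ) ^ a) * J * (A - 1) ^ a) := by
          rw [Matrix.mul_smul, Matrix.mul_assoc, Matrix.mul_assoc, Matrix.mul_assoc]
      _ = (-1 : R) ^ a • (((Aᵀ) ^ a * (A - 1)ᵀ) * J * (A - 1) ^ a) := by
          rw [(hc.pow_right a).eq]
      _ = (-1 : R) ^ a • ((Aᵀ) ^ a * ((A - 1)ᵀ * J) * (A - 1) ^ a) := by
          rw [Matrix.mul_assoc ((Aᵀ) ^ a)]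
      _ = (-1 : R) ^ a • ((Aᵀ) ^ a * (-(Aᵀ * J * (A - 1))) * (A - 1) ^ a) := by rw [h1]
      _ = (-1 : R) ^ (a + 1) • ((Aᵀ) ^ (a + 1) * J * (A - 1) ^ (a + 1)) := by
          rw [pow_succ (-1 : R), pow_succ (Aᵀ), pow_succ' (A - 1)]
          simp only [Matrix.mul_neg, Matrix.neg_mul, Matrix.mul_assoc, mul_neg, mul_one, neg_smul, smul_neg]

theorem result {F : Type*} [Field F] [Finite F] {m : ℕ} (u : Matrix.symplecticGroup (Fin m) F) (hnil : ((u : Matrix (Fin m ⊕ Fin m) (Fin m ⊕ Fin m) F) - 1) ^ (2 * m) = 0) (hreg : ((u : Matrix (Fin m ⊕ Fin m) (Fin m ⊕ Fin m) F) - 1).rank = 2 * m - 1) (W : Submodule F (Fin m ⊕ Fin m → F)) (hW : ∀ v ∈ W, (u : Matrix (Fin m ⊕ Fin m) (Fin m ⊕ Fin m) F).mulVec v ∈ W) (hdim : 2 * Module.finrank F W ≤ 2 * m) : ∀ v ∈ W, ∀ w ∈ W, Cfsg.sympForm m F v w = 0 := by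
  set A : Matrix (Fin m ⊕ Fin m) (Fin m ⊕ Fin m) F := (u : Matrix (Fin m ⊕ Fin m) (Fin m ⊕ Fin m) F) with hAdef
  have hfr : Module.finrank F (Fin m ⊕ Fin m → F) = 2 * m := by
    rw [Module.finrank_fintype_fun_eq_card, Fintype.card_sum, Fintype.card_fin]; ring
  set f : Module.End F (Fin m ⊕ Fin m → F) := Matrix.toLin' (A - 1) with hf
  have h1 : Module.finrank F (LinearMap.ker f) ≤ 1 := by
    have h2 := LinearMap.finrank_range_add_finrank_ker f
    rw [hfr] at h2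
    have h3 : Module.finrank F (LinearMap.range f) = 2 * m - 1 := by
      rw [← hreg, Matrix.rank, hf, Matrix.toLin'_apply']
    omega
  have hn : f ^ (Module.finrank F (Fin m ⊕ Fin m → F)) = 0 := by
    rw [hfr, hf, ← Matrix.toLin'_pow, hnil, map_zero]
  have hW' : ∀ x ∈ W, f x ∈ W := by
    intro x hx
    rw [hf, Matrix.toLin'_apply, Matrix.sub_mulVec, Matrix.one_mulVec]
    exact W.sub_mem (hW x hx) hx
  have key := Cfsg.Agent.Helper13.invariant_eq_ker_pow f h1 hn W hW'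
  set d := Module.finrank F W with hd
  have hdm : d ≤ m := by omega
  have key2 := Cfsg.Agent.Helper13.range_pow_eq_ker_pow f h1 hn (2 * m - d) d (by rw [hfr]; omega)
  rw [← key] at key2
  -- symplectic relation
  have hsymp : Aᵀ * (Matrix.J (Fin m) F) * A = Matrix.J (Fin m) F :=
    SymplecticGroup.mem_iff'.mp u.2
  have hzero : ((A - 1) ^ (2 * m - d))ᵀ * (Matrix.J (Fin m) F) * (A - 1) ^ (2 * m - d) = 0 := by
    rw [transpose_pow, adj_pow A _ hsymp, Matrix.smul_mul, Matrix.mul_assoc, ← pow_add]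
    have : (A - 1) ^ (2 * m - d + (2 * m - d)) = 0 := by
      have : 2 * m - d + (2 * m - d) = 2 * m + (2 * m - d - d) := by omega
      rw [this, pow_add, hnil, Matrix.zero_mul]
    rw [this, Matrix.mul_zero, smul_zero]
  intro v hv w hw
  rw [← key2] at hv hw
  obtain ⟨v', rfl⟩ := hv
  obtain ⟨w', rfl⟩ := hw
  rw [hf, ← Matrix.toLin'_pow, Matrix.toLin'_apply, Matrix.toLin'_apply]
  unfold Cfsg.sympForm
  set P := (A - 1) ^ (2 * m - d) with hP
  calc (P *ᵥ v') ⬝ᵥ (Matrix.J (Fin m) F *ᵥ (P *ᵥ w'))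
      = v' ⬝ᵥ ((Pᵀ * Matrix.J (Fin m) F * P) *ᵥ w') := by
        rw [dotProduct_comm, Matrix.dotProduct_mulVec, ← Matrix.mulVec_transpose, dotProduct_comm,
          Matrix.mulVec_mulVec, Matrix.mulVec_mulVec, Matrix.mul_assoc]
    _ = 0 := by rw [hzero, Matrix.zero_mulVec, dotProduct_zero]

end Cfsg.Agent.S2574
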