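import Mathlib
import Cfsg.Statements.S2575
import Cfsg.Agent.Lib.Helper13.TwoAdic

set_option autoImplicit false
open Cfsg

namespace Cfsg.Agent.S2575

open Cfsg.Agent.Helper13

theorem prod_diag {F : Type*} [Field F] (n i : ℕ) (hi : i ≤ n) :
    ∏ j : Fin n, (if (j : ℕ) < i then (-1 : F) else 1) = (-1) ^ i := by
  rw [Fin.prod_univ_eq_prod_range (fun j => if j < i then (-1 : F) else 1) n, Finset.prod_ite,
    Finset.prod_const_one, mul_one, Finset.prod_const]
  congr 1
  have : (Finset.range n).filter (fun j => j < i) = Finset.range i := by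
    ext j
    simp only [Finset.mem_filter, Finset.mem_range]
    omega
  rw [this, Finset.card_range]

theorem result {F : Type*} [Field F] [Fintype F] {q : ℕ} (hF : Fintype.card F = q) (hq : Odd q) {n : ℕ} (hn : 1 ≤ n) (i : ℕ) (hi : i ≤ n) : (∃ c : F, c ≠ 0 ∧ (c • Matrix.diagonal (fun j : Fin n => if (j : ℕ) < i then (-1 : F) else 1)).det = 1) ↔ (Even i ∨ padicValNat 2 n < padicValNat 2 (q - 1)) := by
  subst hF
  have hn0 : n ≠ 0 := by omega
  have hdet : ∀ c : F, (c • Matrix.diagonal (fun j : Fin n => if (j : ℕ) < i then (-1 : F) else 1)).det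
      = c ^ n * (-1) ^ i := by
    intro c
    rw [Matrix.det_smul, Matrix.det_diagonal, prod_diag n i hi, Fintype.card_fin]
  simp only [hdet]
  rw [← exists_pow_eq_neg_one_iff hq hn0]
  constructor
  · rintro ⟨c, hc0, hc⟩
    rcases Nat.even_or_odd i with hi' | hi'
    · exact Or.inl hi'
    · right
      refine ⟨c, hc0, ?_⟩
      rw [Odd.neg_one_pow hi'] at hc
      have : c ^ n = -(c ^ n * -1) := by ring
      rw [this, hc]
  · rintro (hi' | ⟨c, hc0, hc⟩)
    · exact ⟨1, one_ne_zero, by rw [one_pow, Even.neg_one_pow hi', one_mul]⟩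
    · rcases Nat.even_or_odd i with hi' | hi'
      · exact ⟨1, one_ne_zero, by rw [one_pow, Even.neg_one_pow hi', one_mul]⟩
      · exact ⟨c, hc0, by rw [hc, Odd.neg_one_pow hi']; ring⟩

end Cfsg.Agent.S2575
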