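import Mathlib
import Cfsg.Statements.S2576
import Cfsg.Agent.Lib.Helper13.TwoAdic

set_option autoImplicit false
open Cfsg

namespace Cfsg.Agent.S2576

open Cfsg.Agent.Helper13 Matrix

theorem result {F : Type*} [Field F] [Fintype F] {q : ℕ} (hF : Fintype.card F = q) (hq : Odd q) {m : ℕ} (hm : 1 ≤ m) (μ : F) (hμ : orderOf μ = 2 ^ padicValNat 2 (q - 1)) : (∃ c : F, c ≠ 0 ∧ (c • Matrix.blockDiagonal (fun _ : Fin m => !![(0 : F), 1; μ, 0])).det = 1) ↔ (q % 4 = 3 ∨ padicValNat 2 (q - 1) < padicValNat 2 (2 * m)) := by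
  classical
  subst hF
  have hm0 : m ≠ 0 := by omega
  have h3 := three_le_card_of_odd hq
  have hN0 : Fintype.card F - 1 ≠ 0 := by omega
  have hchar := ringChar_ne_two_of_odd_card hq
  have hqmod : Fintype.card F % 2 = 1 := Nat.odd_iff.mp hq
  set b := padicValNat 2 (Fintype.card F - 1) with hb
  have hN2 : Fintype.card F - 1 = 2 * (Fintype.card F / 2) := by omega
  have hhalf0 : Fintype.card F / 2 ≠ 0 := by omega
  have hb1 : b = padicValNat 2 (Fintype.card F / 2) + 1 := by
    rw [hb, hN2, padicValNat.mul two_ne_zero hhalf0, padicValNat_self, add_comm]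
  have hdet : ∀ c : F, (c • Matrix.blockDiagonal (fun _ : Fin m => !![(0 : F), 1; μ, 0])).det
      = c ^ (2 * m) * (-μ) ^ m := by
    intro c
    rw [Matrix.det_smul, Matrix.det_blockDiagonal]
    simp [Matrix.det_fin_two_of]
  simp only [hdet]
  have hμ0 : μ ≠ 0 := by
    rintro rfl
    have h0 : orderOf (0 : F) = 0 := by
      rw [orderOf_eq_zero_iff']
      intro n hn
      rw [zero_pow (by omega)]
      exact zero_ne_one
    rw [h0] at hμ
    exact (pow_ne_zero _ two_ne_zero) hμ.symm
  have hv2m : padicValNat 2 (2 * m) = 1 + padicValNat 2 m := by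
    rw [padicValNat.mul two_ne_zero hm0, padicValNat_self]
  -- μ is not a square
  have hμns : ¬ IsSquare μ := by
    rintro ⟨s, hs⟩
    have hs0 : s ≠ 0 := by rintro rfl; rw [mul_zero] at hs; exact hμ0 hs
    have h1 : μ ^ (Fintype.card F / 2) = 1 := by
      rw [hs, ← pow_two, ← pow_mul, ← hN2, FiniteField.pow_card_sub_one_eq_one s hs0]
    have h2 := orderOf_dvd_of_pow_eq_one h1
    rw [hμ] at h2
    have h4 := (padicValNat_dvd_iff_le hhalf0).mp h2
    omega
  constructor
  · rintro ⟨c, hc0, hc⟩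
    by_cases hq4 : Fintype.card F % 4 = 3
    · exact Or.inl hq4
    right
    obtain ⟨t, ht⟩ := FiniteField.isSquare_neg_one_iff.mpr hq4
    have ht0 : t ≠ 0 := by
      rintro rfl
      rw [mul_zero] at ht
      exact (neg_ne_zero.mpr one_ne_zero) ht
    set w : F := c ^ 2 * (-μ) with hw
    have hwm : w ^ m = 1 := by rw [hw, mul_pow, ← pow_mul, hc]
    have hw0 : w ≠ 0 := mul_ne_zero (pow_ne_zero _ hc0) (neg_ne_zero.mpr hμ0)
    have hwns : ¬ IsSquare w := by
      rintro ⟨s, hs⟩
      apply hμns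
      refine ⟨s / (c * t), ?_⟩
      have : w = (c * t) * (c * t) * μ := by
        rw [hw]
        have : (c * t) * (c * t) = c ^ 2 * (t * t) := by ring
        rw [this, ← ht]; ring
      field_simp
      have hs' : s ^ 2 = w := by rw [hs]; ring
      rw [hs', this]; ring
    have hwpow : w ^ (Fintype.card F / 2) ≠ 1 := fun h =>
      hwns ((FiniteField.isSquare_iff hchar hw0).mpr h)
    have ho1 : orderOf w ∣ 2 * (Fintype.card F / 2) := by
      rw [← hN2]
      exact orderOf_dvd_of_pow_eq_one (FiniteField.pow_card_sub_one_eq_one w hw0)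
    have ho2 : ¬ orderOf w ∣ Fintype.card F / 2 := by
      rw [orderOf_dvd_iff_pow_eq_one]; exact hwpow
    have h2 := two_pow_dvd_of_dvd_two_mul hhalf0 ho1 ho2
    rw [← hb1] at h2
    have h4 := (padicValNat_dvd_iff_le hm0).mp (dvd_trans h2 (orderOf_dvd_of_pow_eq_one hwm))
    omega
  · rintro (hq4 | hlt)
    · have hb_one : b = 1 := by
        obtain ⟨k, hk⟩ : ∃ k, Fintype.card F - 1 = 2 ^ 1 * (2 * k + 1) := ⟨(Fintype.card F - 1) / 4, by omega⟩
        rw [hb, hk, padicValNat_two_pow_mul_odd 1 _ ⟨k, rfl⟩]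
      rw [hb_one, pow_one] at hμ
      have h1 : μ ^ 2 = 1 := by rw [← hμ]; exact pow_orderOf_eq_one μ
      have h2 : μ ≠ 1 := by
        rintro rfl
        rw [orderOf_one] at hμ
        omega
      have h3 : (μ - 1) * (μ + 1) = 0 := by ring_nf; rw [h1]; ring
      have hμ1 : μ = -1 := by
        rcases mul_eq_zero.mp h3 with h | h
        · exact absurd (sub_eq_zero.mp h) h2
        · exact eq_neg_of_add_eq_zero_left h
      refine ⟨1, one_ne_zero, ?_⟩
      rw [hμ1, neg_neg, one_pow, one_pow, mul_one]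
    · have hbm : b ≤ padicValNat 2 m := by omega
      have hdvd : 2 ^ b ∣ m := (padicValNat_dvd_iff_le hm0).mpr hbm
      have hbpos : 1 ≤ b := by omega
      have hμm : μ ^ m = 1 := by
        rw [← orderOf_dvd_iff_pow_eq_one, hμ]; exact hdvd
      have hmeven : Even m := by
        have : 2 ∣ m := dvd_trans (dvd_pow_self 2 (by omega)) hdvd
        exact even_iff_two_dvd.mpr this
      refine ⟨1, one_ne_zero, ?_⟩
      rw [one_pow, one_mul, neg_pow, hmeven.neg_one_pow, hμm, one_mul]

end Cfsg.Agent.S2576
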