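import Mathlib
import Cfsg.Statements.S2578
import Cfsg.Agent.Lib.Helper13.RegNilConj
import Cfsg.Agent.Lib.Helper12.Unipotent

set_option autoImplicit false
open Cfsg

namespace Cfsg.Agent.S2578

open Matrix Cfsg.Agent.Helper13 Cfsg.Agent.Helper12

/-! ### A counting lemma -/

theorem card_eq_of_surj {A X Y : Type*} (Θ : A → X) (π : A → Y) (hΘ : Function.Surjective Θ)
    (hπ : Function.Surjective π) (h : ∀ a a', Θ a = Θ a' ↔ π a = π a') :
    Nat.card X = Nat.card Y := by
  symm
  apply Nat.card_eq_of_bijective (fun y => Θ (Classical.choose (hπ y)))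
  constructor
  · intro y y' hy
    have := (h _ _).1 hy
    rw [Classical.choose_spec (hπ y), Classical.choose_spec (hπ y')] at this
    exact this
  · intro x
    obtain ⟨a, rfl⟩ := hΘ x
    refine ⟨π a, ?_⟩
    exact (h _ _).2 (Classical.choose_spec (hπ (π a)))

section
variable {F : Type*} [Field F] {n : ℕ}

/-- regular unipotent matrices -/
def Reg (M : Matrix (Fin n) (Fin n) F) : Prop := (M - 1) ^ n = 0 ∧ (M - 1).rank = n - 1

theorem reg_conj (g : GL (Fin n) F) (M : Matrix (Fin n) (Fin n) F) (h : Reg M) :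
    Reg ((g : Matrix (Fin n) (Fin n) F) * M * ((g⁻¹ : GL (Fin n) F) : Matrix (Fin n) (Fin n) F)) := by
  set G : Matrix (Fin n) (Fin n) F := (g : Matrix (Fin n) (Fin n) F) with hG
  set G' : Matrix (Fin n) (Fin n) F := ((g⁻¹ : GL (Fin n) F) : Matrix (Fin n) (Fin n) F) with hG'
  have h1 : G * G' = 1 := by rw [hG, hG', ← Units.val_mul, mul_inv_cancel]; rfl
  have h2 : G' * G = 1 := by rw [hG, hG', ← Units.val_mul, inv_mul_cancel]; rfl
  have e : G * M * G' - 1 = G * (M - 1) * G' := by
    rw [mul_sub, sub_mul, mul_one, h1]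
  have hpow : ∀ k : ℕ, (G * (M - 1) * G') ^ k = G * (M - 1) ^ k * G' := by
    intro k
    induction k with
    | zero => simp [h1]
    | succ k ih =>
      rw [pow_succ, ih, pow_succ]
      calc G * (M - 1) ^ k * G' * (G * (M - 1) * G')
          = G * (M - 1) ^ k * (G' * G) * (M - 1) * G' := by noncomm_ring
        _ = G * ((M - 1) ^ k * (M - 1)) * G' := by rw [h2]; noncomm_ring
  constructor
  · rw [e, hpow, h.1, mul_zero, zero_mul]
  · rw [e, ← h.2]
    have hdG : IsUnit G.det := Matrix.isUnits_det_units g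
    have hdG' : IsUnit G'.det := Matrix.isUnits_det_units g⁻¹
    rw [Matrix.rank_mul_eq_left_of_isUnit_det _ _ hdG', Matrix.rank_mul_eq_right_of_isUnit_det _ _ hdG]

/-- the element of `SL_n` underlying an element of `GL_n` of determinant one -/
def slOf (x : GL (Fin n) F) (h : (x : Matrix (Fin n) (Fin n) F).det = 1) :
    SpecialLinearGroup (Fin n) F := ⟨(x : Matrix (Fin n) (Fin n) F), h⟩

theorem toGL_slOf (x : GL (Fin n) F) (h : (x : Matrix (Fin n) (Fin n) F).det = 1) :
    SpecialLinearGroup.toGL (slOf x h) = x := by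
  apply Units.ext
  rfl

theorem det_conj (g : GL (Fin n) F) (u : SpecialLinearGroup (Fin n) F) :
    ((g * SpecialLinearGroup.toGL u * g⁻¹ : GL (Fin n) F) : Matrix (Fin n) (Fin n) F).det = 1 := by
  rw [← Matrix.GeneralLinearGroup.val_det_apply, map_mul, map_mul, map_inv]
  have : Matrix.GeneralLinearGroup.det (SpecialLinearGroup.toGL u) = 1 := by
    apply Units.ext
    rw [Matrix.GeneralLinearGroup.val_det_apply]
    exact u.det_coe
  rw [this, mul_one, mul_inv_cancel]
  rfl

/-- conjugate of an element of `SL_n` by an element of `GL_n` -/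
def conjGL (g : GL (Fin n) F) (u : SpecialLinearGroup (Fin n) F) : SpecialLinearGroup (Fin n) F :=
  slOf (g * SpecialLinearGroup.toGL u * g⁻¹) (det_conj g u)

theorem toGL_conjGL (g : GL (Fin n) F) (u : SpecialLinearGroup (Fin n) F) :
    SpecialLinearGroup.toGL (conjGL g u) = g * SpecialLinearGroup.toGL u * g⁻¹ := toGL_slOf _ _

theorem conjGL_coe (g : GL (Fin n) F) (u : SpecialLinearGroup (Fin n) F) :
    ((conjGL g u : SpecialLinearGroup (Fin n) F) : Matrix (Fin n) (Fin n) F) =
      (g : Matrix (Fin n) (Fin n) F) * (u : Matrix (Fin n) (Fin n) F) *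
        ((g⁻¹ : GL (Fin n) F) : Matrix (Fin n) (Fin n) F) := rfl

theorem toGL_injective' : Function.Injective
    (SpecialLinearGroup.toGL : SpecialLinearGroup (Fin n) F →* GL (Fin n) F) := by
  intro a b h
  apply Subtype.ext
  have := congrArg (fun x : GL (Fin n) F => (x : Matrix (Fin n) (Fin n) F)) h
  exact this

/-! ### The standard regular unipotent element -/

theorem jordanNil_mulVec (x : Fin n → F) (i : Fin n) :
    (jordanNil n F *ᵥ x) i = if h : i.val + 1 < n then x ⟨i.val + 1, h⟩ else 0 := by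
  simp only [Matrix.mulVec, dotProduct, jordanNil, Matrix.of_apply]
  by_cases h : i.val + 1 < n
  · rw [dif_pos h, Finset.sum_eq_single (⟨i.val + 1, h⟩ : Fin n)]
    · simp
    · intro j _ hj
      have : ¬ j.val = i.val + 1 := fun h' => hj (Fin.ext h')
      simp [this]
    · intro h'; exact absurd (Finset.mem_univ _) h'
  · rw [dif_neg h]
    apply Finset.sum_eq_zero
    intro j _
    have : ¬ j.val = i.val + 1 := by have := j.2; omega
    simp [this]

theorem rank_jordanNil (hn : 1 ≤ n) : (jordanNil n F).rank = n - 1 := by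
  set N := jordanNil n F with hN
  have hfr : Module.finrank F (Fin n → F) = n := Module.finrank_fin_fun F
  have hsum := LinearMap.finrank_range_add_finrank_ker (Matrix.toLin' N)
  rw [hfr] at hsum
  have hrk : N.rank = Module.finrank F (LinearMap.range (Matrix.toLin' N)) := by
    rw [Matrix.rank, Matrix.toLin'_apply']
  let e0 : Fin n → F := Pi.single ⟨0, by omega⟩ 1
  have hker : LinearMap.ker (Matrix.toLin' N) ≤ Submodule.span F {e0} := by
    intro x hx
    rw [LinearMap.mem_ker, Matrix.toLin'_apply] at hx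
    have hx0 : ∀ j : Fin n, j.val ≠ 0 → x j = 0 := by
      intro j hj
      have hlt : (j.val - 1) + 1 < n := by have := j.2; omega
      have := congrFun hx ⟨j.val - 1, by omega⟩
      rw [hN, jordanNil_mulVec, dif_pos hlt] at this
      have hj' : (⟨j.val - 1 + 1, hlt⟩ : Fin n) = j := Fin.ext (by simp; omega)
      rw [hj'] at this
      exact this
    rw [Submodule.mem_span_singleton]
    refine ⟨x ⟨0, by omega⟩, ?_⟩
    ext j
    by_cases hj : j.val = 0
    · have : j = ⟨0, by omega⟩ := Fin.ext hj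
      rw [this]
      simp [e0]
    · have : j ≠ ⟨0, by omega⟩ := fun h => hj (by rw [h])
      simp [e0, this, hx0 j hj]
  have he0ne : e0 ≠ 0 := by
    intro h
    have := congrFun h ⟨0, by omega⟩
    simp [e0] at this
  have hle : Module.finrank F (LinearMap.ker (Matrix.toLin' N)) ≤ 1 :=
    (Submodule.finrank_mono hker).trans (finrank_span_singleton he0ne).le
  have hge : 1 ≤ Module.finrank F (LinearMap.ker (Matrix.toLin' N)) := by
    rw [Nat.succ_le_iff, Module.finrank_pos_iff_exists_ne_zero]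
    have he0 : e0 ∈ LinearMap.ker (Matrix.toLin' N) := by
      rw [LinearMap.mem_ker, Matrix.toLin'_apply]
      ext i
      rw [hN, jordanNil_mulVec]
      by_cases h : i.val + 1 < n
      · rw [dif_pos h]
        simp [e0]
      · rw [dif_neg h]; rfl
    refine ⟨⟨e0, he0⟩, ?_⟩
    intro h
    have := congrArg Subtype.val h
    have := congrFun this ⟨0, by omega⟩
    simp [e0] at this
  rw [hrk]
  omega

/-- the standard regular unipotent element -/
def u0 (F : Type*) [Field F] (n : ℕ) : SpecialLinearGroup (Fin n) F :=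
  ⟨1 + jordanNil n F, by
    have := det_smul_one_add_nilpotent (1 : F) (jordanNil n F) ⟨n, jordanNil_pow_eq_zero n le_rfl⟩
    rw [one_smul, one_pow] at this
    exact this⟩

theorem reg_u0 (hn : 1 ≤ n) : Reg ((u0 F n : SpecialLinearGroup (Fin n) F) : Matrix (Fin n) (Fin n) F) := by
  have : ((u0 F n : SpecialLinearGroup (Fin n) F) : Matrix (Fin n) (Fin n) F) - 1 = jordanNil n F := by
    change 1 + jordanNil n F - 1 = _
    rw [add_sub_cancel_left]
  exact ⟨by rw [this]; exact jordanNil_pow_eq_zero n le_rfl, by rw [this]; exact rank_jordanNil hn⟩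

/-! ### Every regular unipotent element is a `GL`-conjugate of the standard one -/

theorem exists_conjGL_eq (hn : 1 ≤ n) (u : SpecialLinearGroup (Fin n) F)
    (hu : Reg (u : Matrix (Fin n) (Fin n) F)) : ∃ g : GL (Fin n) F, conjGL g (u0 F n) = u := by
  have h0 := reg_u0 (F := F) hn
  obtain ⟨G, hG⟩ := exists_GL_conj_regular_nilpotent _ _ h0.1 h0.2 hu.1 hu.2 hn
  refine ⟨G, ?_⟩
  apply Subtype.ext
  rw [conjGL_coe]
  have h1 : (G : Matrix (Fin n) (Fin n) F) * ((G⁻¹ : GL (Fin n) F) : Matrix (Fin n) (Fin n) F) = 1 := by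
    rw [← Units.val_mul, mul_inv_cancel]; rfl
  have h2 : (G : Matrix (Fin n) (Fin n) F) * ((u0 F n : SpecialLinearGroup (Fin n) F) : Matrix (Fin n) (Fin n) F) =
      (u : Matrix (Fin n) (Fin n) F) * (G : Matrix (Fin n) (Fin n) F) := by
    rw [mul_sub, sub_mul, mul_one, one_mul] at hG
    exact sub_left_injective hG
  rw [h2, mul_assoc, h1, mul_one]

/-! ### The conjugacy criterion -/

theorem det_toGL (s : SpecialLinearGroup (Fin n) F) :
    Matrix.GeneralLinearGroup.det (SpecialLinearGroup.toGL s) = 1 := by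
  apply Units.ext
  rw [Matrix.GeneralLinearGroup.val_det_apply]
  exact s.det_coe

theorem isConj_conjGL_iff (hn : 1 ≤ n) (g g' : GL (Fin n) F) :
    IsConj (conjGL g (u0 F n)) (conjGL g' (u0 F n)) ↔
      ∃ a : Fˣ, Matrix.GeneralLinearGroup.det g' = Matrix.GeneralLinearGroup.det g * a ^ n := by
  set u : GL (Fin n) F := SpecialLinearGroup.toGL (u0 F n) with hu
  constructor
  · rw [isConj_iff]
    rintro ⟨s, hs⟩
    have hs' := congrArg (SpecialLinearGroup.toGL : SpecialLinearGroup (Fin n) F →* GL (Fin n) F) hs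
    rw [map_mul, map_mul, map_inv, toGL_conjGL, toGL_conjGL, ← hu] at hs'
    set S : GL (Fin n) F := SpecialLinearGroup.toGL s with hS
    -- the element c centralises u
    set c : GL (Fin n) F := g'⁻¹ * S * g with hc
    have hcu : c * u = u * c := by
      have e1 : c * u = g'⁻¹ * (S * (g * u * g⁻¹) * S⁻¹) * S * g := by rw [hc]; group
      rw [e1, hs', hc]; group
    have hC : (c : Matrix (Fin n) (Fin n) F) * (((u0 F n : SpecialLinearGroup (Fin n) F) : Matrix (Fin n) (Fin n) F) - 1) =
        (((u0 F n : SpecialLinearGroup (Fin n) F) : Matrix (Fin n) (Fin n) F) - 1) * (c : Matrix (Fin n) (Fin n) F) := by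
      have := congrArg (fun x : GL (Fin n) F => (x : Matrix (Fin n) (Fin n) F)) hcu
      simp only [Units.val_mul] at this
      rw [mul_sub, sub_mul, mul_one, one_mul]
      exact congrArg (fun M => M - (c : Matrix (Fin n) (Fin n) F)) this
    have h0 := reg_u0 (F := F) hn
    obtain ⟨a, ha⟩ := det_of_commute_regular_nilpotent _ _ h0.1 h0.2 hn hC
    have hdc : (c : Matrix (Fin n) (Fin n) F).det ≠ 0 := (Matrix.isUnits_det_units c).ne_zero
    have ha0 : a ≠ 0 := by
      rintro rfl
      rw [zero_pow (by omega)] at ha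
      exact hdc ha
    have hdet : Matrix.GeneralLinearGroup.det c = (Units.mk0 a ha0) ^ n := by
      apply Units.ext
      rw [Matrix.GeneralLinearGroup.val_det_apply, ha]
      simp
    have hdet2 : Matrix.GeneralLinearGroup.det c =
        (Matrix.GeneralLinearGroup.det g')⁻¹ * Matrix.GeneralLinearGroup.det g := by
      rw [hc, map_mul, map_mul, map_inv, hS, det_toGL, mul_one]
    refine ⟨(Units.mk0 a ha0)⁻¹, ?_⟩
    rw [inv_pow, ← hdet, hdet2, _root_.mul_inv_rev, inv_inv, mul_inv_cancel_left]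
  · rintro ⟨a, ha⟩
    set zz : GL (Fin n) F := Matrix.GeneralLinearGroup.scalar (Fin n) a⁻¹ with hzz
    have hdets : ((g' * zz * g⁻¹ : GL (Fin n) F) : Matrix (Fin n) (Fin n) F).det = 1 := by
      rw [← Matrix.GeneralLinearGroup.val_det_apply, map_mul, map_mul, map_inv, hzz,
        Matrix.GeneralLinearGroup.det_scalar, Fintype.card_fin, ha, inv_pow]
      have : Matrix.GeneralLinearGroup.det g * a ^ n * (a ^ n)⁻¹ * (Matrix.GeneralLinearGroup.det g)⁻¹ = 1 := by
        rw [mul_inv_cancel_right, mul_inv_cancel]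
      rw [this]; rfl
    rw [isConj_iff]
    refine ⟨slOf (g' * zz * g⁻¹) hdets, ?_⟩
    apply toGL_injective'
    rw [map_mul, map_mul, map_inv, toGL_conjGL, toGL_conjGL, toGL_slOf, ← hu]
    have hcomm : zz * u = u * zz := Matrix.GeneralLinearGroup.scalar_commute a⁻¹ u
    calc g' * zz * g⁻¹ * (g * u * g⁻¹) * (g' * zz * g⁻¹)⁻¹
        = g' * (zz * u) * zz⁻¹ * g'⁻¹ := by group
      _ = g' * (u * zz) * zz⁻¹ * g'⁻¹ := by rw [hcomm]
      _ = g' * u * g'⁻¹ := by group

end

/-! ### The count -/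

theorem result {F : Type*} [Field F] [Fintype F] {q : ℕ} (hF : Fintype.card F = q) {n : ℕ} (hn : 2 ≤ n) : Nat.card {C : ConjClasses (Matrix.SpecialLinearGroup (Fin n) F) // ∃ u : Matrix.SpecialLinearGroup (Fin n) F, ConjClasses.mk u = C ∧ ((u : Matrix (Fin n) (Fin n) F) - 1) ^ n = 0 ∧ ((u : Matrix (Fin n) (Fin n) F) - 1).rank = n - 1} = Nat.gcd n (q - 1) := by
  classical
  have hn1 : 1 ≤ n := by omega
  have : NeZero n := ⟨by omega⟩
  let D : Subgroup Fˣ := (powMonoidHom n : Fˣ →* Fˣ).range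
  let X := {C : ConjClasses (Matrix.SpecialLinearGroup (Fin n) F) // ∃ u : Matrix.SpecialLinearGroup (Fin n) F, ConjClasses.mk u = C ∧ ((u : Matrix (Fin n) (Fin n) F) - 1) ^ n = 0 ∧ ((u : Matrix (Fin n) (Fin n) F) - 1).rank = n - 1}
  let Θ : GL (Fin n) F → X := fun g =>
    ⟨ConjClasses.mk (conjGL g (u0 F n)), conjGL g (u0 F n), rfl, reg_conj g _ (reg_u0 hn1)⟩
  let π : GL (Fin n) F → Fˣ ⧸ D := fun g => QuotientGroup.mk (Matrix.GeneralLinearGroup.det g)
  have hΘ : Function.Surjective Θ := by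
    rintro ⟨C, u, rfl, hu⟩
    obtain ⟨g, hg⟩ := exists_conjGL_eq hn1 u hu
    refine ⟨g, ?_⟩
    apply Subtype.ext
    show ConjClasses.mk (conjGL g (u0 F n)) = ConjClasses.mk u
    rw [hg]
  have hπ : Function.Surjective π := by
    intro y
    obtain ⟨d, rfl⟩ := QuotientGroup.mk_surjective y
    obtain ⟨g, hg⟩ := Matrix.GeneralLinearGroup.det_surjective (n := Fin n) (R := F) d
    exact ⟨g, by show (QuotientGroup.mk (Matrix.GeneralLinearGroup.det g) : Fˣ ⧸ D) = _; rw [hg]⟩
  have hiff : ∀ g g', Θ g = Θ g' ↔ π g = π g' := by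
    intro g g'
    have e1 : Θ g = Θ g' ↔ IsConj (conjGL g (u0 F n)) (conjGL g' (u0 F n)) := by
      rw [← ConjClasses.mk_eq_mk_iff_isConj]
      exact Subtype.ext_iff
    rw [e1, isConj_conjGL_iff hn1]
    show _ ↔ (QuotientGroup.mk (Matrix.GeneralLinearGroup.det g) : Fˣ ⧸ D) =
      QuotientGroup.mk (Matrix.GeneralLinearGroup.det g')
    rw [QuotientGroup.eq]
    constructor
    · rintro ⟨a, ha⟩
      exact ⟨a, by rw [powMonoidHom_apply, ha, inv_mul_cancel_left]⟩
    · rintro ⟨a, ha⟩
      rw [powMonoidHom_apply] at ha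
      exact ⟨a, by rw [ha, mul_inv_cancel_left]⟩
  have hcard := card_eq_of_surj Θ π hΘ hπ hiff
  have hX : Nat.card X = Nat.card (Fˣ ⧸ D) := hcard
  show Nat.card X = _
  rw [hX, ← Subgroup.index_eq_card, IsCyclic.index_powMonoidHom_range, Nat.card_eq_fintype_card,
    Fintype.card_units, hF, Nat.gcd_comm]

end Cfsg.Agent.S2578
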