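import Mathlib
import Cfsg.Statements.S2580
import Cfsg.Agent.Lib.Helper13.SelfAdjForm

set_option autoImplicit false
open Cfsg

namespace Cfsg.Agent.S2580

open Matrix Cfsg.Agent.Helper13

/-- a square matrix over a field is conjugate to its transpose -/
theorem isConj_transpose {F : Type*} [Field F] {n : Type*} [Fintype n] [DecidableEq n]
    (A : Matrix n n F) : IsConj A Aᵀ := by
  obtain ⟨B, hsymm, hnd, hself⟩ := exists_selfadjoint_form (Matrix.toLin' A)
  set S : Matrix n n F := LinearMap.BilinForm.toMatrix' B with hS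
  have hcomm : Aᵀ * S = S * A := by
    have h1 : LinearMap.BilinForm.compLeft B (Matrix.toLin' A) =
        LinearMap.BilinForm.compRight B (Matrix.toLin' A) := by
      apply LinearMap.ext; intro u; apply LinearMap.ext; intro v
      exact hself u v
    have h2 := congrArg LinearMap.BilinForm.toMatrix' h1
    rw [LinearMap.BilinForm.toMatrix'_compLeft, LinearMap.BilinForm.toMatrix'_compRight,
      LinearMap.toMatrix'_toLin'] at h2
    exact h2
  have hBnd : LinearMap.BilinForm.Nondegenerate B := by
    refine ⟨fun u hu => hnd u hu, fun v hv => hnd v fun u => ?_⟩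
    rw [hsymm]; exact hv u
  have hdet : S.det ≠ 0 := by
    have := (LinearMap.BilinForm.nondegenerate_iff_det_ne_zero (B := B) (Pi.basisFun F n)).mp hBnd
    rwa [LinearMap.BilinForm.toMatrix_basisFun] at this
  have hunit : IsUnit S := (Matrix.isUnit_iff_isUnit_det S).mpr (IsUnit.mk0 _ hdet)
  refine ⟨hunit.unit, ?_⟩
  show hunit.unit.val * A = Aᵀ * hunit.unit.val
  rw [IsUnit.unit_spec, hcomm]

theorem result {F : Type*} [Field F] [Finite F] {n : ℕ} (A : Matrix (Fin n) (Fin n) F) : IsConj A A.transpose :=
  isConj_transpose A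

end Cfsg.Agent.S2580
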