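import Mathlib
import Cfsg.Statements.S2585
import Cfsg.Agent.Lib.Helper13.Fredholm

set_option autoImplicit false
open scoped Pointwise
open Cfsg

namespace Cfsg.Agent.S2585

open Matrix

section
variable {F : Type*} [Field F] [Fintype F] [CharP F 2] {m : ℕ}

/-- the bilinear form with matrix `J` -/
noncomputable def Bf (m : ℕ) (F : Type*) [Field F] : LinearMap.BilinForm F (Fin m ⊕ Fin m → F) :=
  Matrix.toBilin' (Matrix.J (Fin m) F)

theorem sf_eq (u v : Fin m ⊕ Fin m → F) : Cfsg.sympForm m F u v = Bf m F u v := by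
  unfold Cfsg.sympForm Bf
  rw [Matrix.toBilin'_apply']

/-- half of the form -/
noncomputable def B0 (m : ℕ) (F : Type*) [Field F] : LinearMap.BilinForm F (Fin m ⊕ Fin m → F) :=
  Matrix.toBilin' (fromBlocks 0 0 1 0 : Matrix (Fin m ⊕ Fin m) (Fin m ⊕ Fin m) F)

noncomputable def Q0 (m : ℕ) (F : Type*) [Field F] : QuadraticForm F (Fin m ⊕ Fin m → F) :=
  (B0 m F).toQuadraticMap

theorem neg_one_eq_one : (-1 : F) = 1 := by
  have h2 : (2 : F) = 0 := CharTwo.two_eq_zero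
  linear_combination (-1 : F) * h2

theorem polar_Q0 (u v : Fin m ⊕ Fin m → F) : QuadraticMap.polar (Q0 m F) u v = Bf m F u v := by
  unfold Q0
  rw [LinearMap.BilinMap.polar_toQuadraticMap]
  unfold B0 Bf
  rw [Matrix.toBilin'_apply', Matrix.toBilin'_apply', Matrix.toBilin'_apply']
  have hJ : Matrix.J (Fin m) F = (fromBlocks 0 0 1 0 : Matrix (Fin m ⊕ Fin m) (Fin m ⊕ Fin m) F)
      + (fromBlocks 0 0 1 0 : Matrix (Fin m ⊕ Fin m) (Fin m ⊕ Fin m) F)ᵀ := by
    have h1 : (-1 : Matrix (Fin m) (Fin m) F) = 1 := by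
      calc (-1 : Matrix (Fin m) (Fin m) F) = (-1 : F) • (1 : Matrix (Fin m) (Fin m) F) := by simp
        _ = 1 := by rw [neg_one_eq_one, one_smul]
    rw [Matrix.J, fromBlocks_transpose, fromBlocks_add, h1]
    simp
  rw [hJ, Matrix.add_mulVec, dotProduct_add]
  congr 1
  rw [Matrix.dotProduct_mulVec v, ← Matrix.mulVec_transpose, dotProduct_comm]

theorem Bf_inv (A : Matrix (Fin m ⊕ Fin m) (Fin m ⊕ Fin m) F)
    (hA : Aᵀ * (Matrix.J (Fin m) F) * A = Matrix.J (Fin m) F) (u v : Fin m ⊕ Fin m → F) :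
    Bf m F (A *ᵥ u) (A *ᵥ v) = Bf m F u v := by
  unfold Bf
  rw [Matrix.toBilin'_apply', Matrix.toBilin'_apply']
  conv_rhs => rw [← hA]
  rw [dotProduct_comm, Matrix.dotProduct_mulVec, ← Matrix.mulVec_transpose, dotProduct_comm,
    Matrix.mulVec_mulVec, Matrix.mulVec_mulVec, Matrix.mul_assoc]

/-- additive, quadratically homogeneous functions are diagonal -/
theorem diag_of_additive {ι : Type*} [Fintype ι] [DecidableEq ι] (D : (ι → F) → F)
    (hadd : ∀ u v, D (u + v) = D u + D v) (hsm : ∀ (c : F) v, D (c • v) = c * c * D v)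
    (v : ι → F) : D v = ∑ i, v i * v i * D (Pi.single i 1) := by
  let Dh : (ι → F) →+ F := AddMonoidHom.mk' D hadd
  have h1 : D v = Dh v := rfl
  rw [h1]
  conv_lhs => rw [← Finset.univ_sum_single v]
  rw [map_sum]
  apply Finset.sum_congr rfl
  intro i _
  have : (Pi.single i (v i) : ι → F) = v i • Pi.single i 1 := by
    rw [← Pi.single_smul, smul_eq_mul, mul_one]
  rw [this]
  exact hsm _ _

theorem exists_w (A : Matrix (Fin m ⊕ Fin m) (Fin m ⊕ Fin m) F)
    (hA : Aᵀ * (Matrix.J (Fin m) F) * A = Matrix.J (Fin m) F) :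
    ∃ w : Fin m ⊕ Fin m → F, ∀ v, Q0 m F (A *ᵥ v) = Q0 m F v + Bf m F v w * Bf m F v w := by
  set D : (Fin m ⊕ Fin m → F) → F := fun v => Q0 m F (A *ᵥ v) - Q0 m F v with hD
  have hadd : ∀ u v, D (u + v) = D u + D v := by
    intro u v
    have h1 := QuadraticMap.map_add (Q0 m F) (A *ᵥ u) (A *ᵥ v)
    have h2 := QuadraticMap.map_add (Q0 m F) u v
    rw [polar_Q0] at h1 h2
    rw [Bf_inv A hA] at h1
    simp only [hD]
    rw [Matrix.mulVec_add, h1, h2]
    ring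
  have hsm : ∀ (c : F) v, D (c • v) = c * c * D v := by
    intro c v
    simp only [hD]
    rw [Matrix.mulVec_smul, QuadraticMap.map_smul, QuadraticMap.map_smul, smul_eq_mul, smul_eq_mul]
    ring
  have hdiag := diag_of_additive D hadd hsm
  have hsq : ∀ i, IsSquare (D (Pi.single i 1)) := fun i =>
    FiniteField.isSquare_of_char_two (ringChar.eq F 2) _
  choose p hp using hsq
  refine ⟨-(Matrix.J (Fin m) F *ᵥ p), ?_⟩
  intro v
  have hB : Bf m F v (-(Matrix.J (Fin m) F *ᵥ p)) = v ⬝ᵥ p := by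
    unfold Bf
    rw [Matrix.toBilin'_apply', Matrix.mulVec_neg, Matrix.mulVec_mulVec, Matrix.J_squared,
      Matrix.neg_mulVec, Matrix.one_mulVec, neg_neg]
  rw [hB]
  have h3 : (v ⬝ᵥ p) * (v ⬝ᵥ p) = D v := by
    rw [hdiag v, ← pow_two, dotProduct, sum_pow_char 2]
    apply Finset.sum_congr rfl
    intro i _
    rw [hp i]; ring
  rw [h3]
  simp only [hD]; ring

theorem exists_a (A : Matrix (Fin m ⊕ Fin m) (Fin m ⊕ Fin m) F)
    (hA : Aᵀ * (Matrix.J (Fin m) F) * A = Matrix.J (Fin m) F)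
    (hA' : A * (Matrix.J (Fin m) F) * Aᵀ = Matrix.J (Fin m) F)
    (w : Fin m ⊕ Fin m → F)
    (hw : ∀ v, Q0 m F (A *ᵥ v) = Q0 m F v + Bf m F v w * Bf m F v w) :
    ∃ a : Fin m ⊕ Fin m → F, (A - 1) *ᵥ a = A *ᵥ w := by
  apply Cfsg.Agent.Helper13.exists_mulVec_eq_of_forall_vecMul
  intro g hg
  have hgA : Aᵀ *ᵥ g = g := by
    rw [Matrix.vecMul_sub, Matrix.vecMul_one, sub_eq_zero] at hg
    rw [Matrix.mulVec_transpose, hg]
  set z := Matrix.J (Fin m) F *ᵥ g with hz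
  have hAz : A *ᵥ z = z := by
    calc A *ᵥ z = (A * Matrix.J (Fin m) F) *ᵥ (Aᵀ *ᵥ g) := by
          rw [hgA, hz, Matrix.mulVec_mulVec]
      _ = z := by rw [Matrix.mulVec_mulVec, hA', hz]
  have hzw : Bf m F z w = g ⬝ᵥ w := by
    unfold Bf
    rw [Matrix.toBilin'_apply', hz, dotProduct_comm, Matrix.dotProduct_mulVec,
      ← Matrix.mulVec_transpose, dotProduct_comm, Matrix.mulVec_mulVec, Matrix.J_transpose,
      Matrix.neg_mul, Matrix.J_squared, neg_neg, Matrix.one_mulVec]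
  have h1 := hw z
  rw [hAz] at h1
  have h2 : Bf m F z w * Bf m F z w = 0 := by
    have := h1
    linear_combination -this
  have h3 : Bf m F z w = 0 := mul_self_eq_zero.mp h2
  rw [Matrix.dotProduct_mulVec, ← Matrix.mulVec_transpose, hgA, ← hzw, h3]

end

theorem result {F : Type*} [Field F] [Fintype F] [CharP F 2] {m : ℕ} (A : Matrix.symplecticGroup (Fin m) F) : ∃ Q : QuadraticForm F (Fin m ⊕ Fin m → F), (∀ u v : Fin m ⊕ Fin m → F, QuadraticMap.polar ⇑Q u v = Cfsg.sympForm m F u v) ∧ ∀ v : Fin m ⊕ Fin m → F, Q ((A : Matrix (Fin m ⊕ Fin m) (Fin m ⊕ Fin m) F).mulVec v) = Q v := by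
  set M : Matrix (Fin m ⊕ Fin m) (Fin m ⊕ Fin m) F := (A : Matrix (Fin m ⊕ Fin m) (Fin m ⊕ Fin m) F) with hM
  have hA : Mᵀ * (Matrix.J (Fin m) F) * M = Matrix.J (Fin m) F := SymplecticGroup.mem_iff'.mp A.2
  have hA' : M * (Matrix.J (Fin m) F) * Mᵀ = Matrix.J (Fin m) F := SymplecticGroup.mem_iff.mp A.2
  obtain ⟨w, hw⟩ := exists_w M hA
  obtain ⟨a, ha⟩ := exists_a M hA hA' w hw
  have h2 : (2 : F) = 0 := CharTwo.two_eq_zero
  set φ : (Fin m ⊕ Fin m → F) →ₗ[F] F := (Bf m F).flip a with hφ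
  have hφv : ∀ v, φ v = Bf m F v a := fun v => rfl
  refine ⟨Q0 m F + QuadraticMap.linMulLin φ φ, ?_, ?_⟩
  · intro u v
    rw [sf_eq, ← polar_Q0]
    simp only [QuadraticMap.polar, QuadraticMap.add_apply, QuadraticMap.linMulLin_apply, map_add]
    linear_combination (φ u * φ v) * h2
  · intro v
    simp only [QuadraticMap.add_apply, QuadraticMap.linMulLin_apply]
    rw [hw v, hφv, hφv]
    have h3 : Bf m F v w = Bf m F v a - Bf m F (M *ᵥ v) a := by
      rw [← Bf_inv M hA v w, ← ha, Matrix.sub_mulVec, Matrix.one_mulVec, map_sub, Bf_inv M hA]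
    rw [h3]
    linear_combination (-(Bf m F v a * Bf m F (M *ᵥ v) a) + Bf m F (M *ᵥ v) a * Bf m F (M *ᵥ v) a) * h2

end Cfsg.Agent.S2585
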