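import Mathlib
import Cfsg.Statements.S2589
import Cfsg.Agent.Lib.Helper13.SympConj
import Cfsg.Agent.Lib.Helper13.SemisimpleCharpolyGL

set_option autoImplicit false
open Cfsg

namespace Cfsg.Agent.S2589

/-- Two semisimple elements of the finite symplectic group Sp_2m(F) (elements of order prime to the characteristic) are conjugate in Sp_2m(F) if and only if they are conjugate in GL_2m(F). -/
theorem result {F : Type*} [Field F] [Fintype F] {p : ℕ} [Fact p.Prime] [CharP F p] {m : ℕ} (A B : Matrix.symplecticGroup (Fin m) F) (hA : (orderOf A).Coprime p) : IsConj A B ↔ IsConj (A : Matrix (Fin m ⊕ Fin m) (Fin m ⊕ Fin m) F) (B : Matrix (Fin m ⊕ Fin m) (Fin m ⊕ Fin m) F) := by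
  constructor
  · intro h
    exact (Matrix.symplecticGroup (Fin m) F).subtype.map_isConj h
  · rintro ⟨c, hc⟩
    have hc' : (c : Matrix (Fin m ⊕ Fin m) (Fin m ⊕ Fin m) F)
        * (A : Matrix (Fin m ⊕ Fin m) (Fin m ⊕ Fin m) F)
        = (B : Matrix (Fin m ⊕ Fin m) (Fin m ⊕ Fin m) F) * c := hc
    set X : (Fin m ⊕ Fin m → F) ≃ₗ[F] (Fin m ⊕ Fin m → F) :=
      Matrix.toLin'OfInv (M := ((c⁻¹ : (Matrix (Fin m ⊕ Fin m) (Fin m ⊕ Fin m) F)ˣ) :
        Matrix (Fin m ⊕ Fin m) (Fin m ⊕ Fin m) F))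
        (M' := (c : Matrix (Fin m ⊕ Fin m) (Fin m ⊕ Fin m) F)) c.inv_mul c.mul_inv with hX
    have hXa : ∀ v, X v = (c : Matrix (Fin m ⊕ Fin m) (Fin m ⊕ Fin m) F).mulVec v := fun v => rfl
    apply Cfsg.Agent.Helper13.SympSS.symp_isConj_of_intertwiner A B (orderOf A)
      (orderOf_pos A) (Cfsg.Agent.Helper13.SS.cast_ne_zero_of_coprime hA) (pow_orderOf_eq_one A) X
    intro v
    rw [hXa, hXa, Matrix.mulVec_mulVec, Matrix.mulVec_mulVec, hc']

end Cfsg.Agent.S2589
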