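import Mathlib
import Cfsg.Statements.S2590
import Cfsg.Agent.Lib.Helper13.OrthConj
import Cfsg.Agent.Lib.Helper13.SemisimpleCharpolyGL

set_option autoImplicit false
open Cfsg

namespace Cfsg.Agent.S2590

open Cfsg.Agent.Helper13.SS Cfsg.Agent.Helper13.OrthSS

/-- Two semisimple elements of odd order of a finite orthogonal group (isometry group of a quadratic form on F^n with non-degenerate polar form, F finite of characteristic p; the elements have odd order prime to p) are conjugate in the orthogonal group if and only if they are conjugate in GL_n(F). -/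
theorem result {F : Type*} [Field F] [Fintype F] {p : ℕ} [Fact p.Prime] [CharP F p] {n : ℕ} (Q : QuadraticForm F (Fin n → F)) (hQ : (QuadraticMap.polarBilin Q).Nondegenerate) (A B : ↥(Cfsg.isometryGroup F ⇑Q)) (hodd : Odd (orderOf A)) (hA : (orderOf A).Coprime p) : IsConj A B ↔ IsConj ((A : Matrix.GeneralLinearGroup (Fin n) F) : Matrix (Fin n) (Fin n) F) ((B : Matrix.GeneralLinearGroup (Fin n) F) : Matrix (Fin n) (Fin n) F) := by
  classical
  constructor
  · intro h
    obtain ⟨y, hy⟩ := isConj_iff.1 h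
    refine ⟨(y : Matrix.GeneralLinearGroup (Fin n) F), ?_⟩
    have h1 : y * A = B * y := by
      rw [← hy]
      group
    have h2 := congrArg (fun z : ↥(Cfsg.isometryGroup F ⇑Q) =>
      ((z : Matrix.GeneralLinearGroup (Fin n) F) : Matrix (Fin n) (Fin n) F)) h1
    exact h2
  · rintro ⟨c, hc⟩
    have hc' : (c : Matrix (Fin n) (Fin n) F) *
        ((A : Matrix.GeneralLinearGroup (Fin n) F) : Matrix (Fin n) (Fin n) F) =
        ((B : Matrix.GeneralLinearGroup (Fin n) F) : Matrix (Fin n) (Fin n) F) *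
          (c : Matrix (Fin n) (Fin n) F) := hc
    set M := orderOf A with hMdef
    have hM : 1 ≤ M := orderOf_pos A
    have hMF : (M : F) ≠ 0 := cast_ne_zero_of_coprime hA
    set φ := Matrix.toLinAlgEquiv' (R := F) (n := Fin n) with hφ
    have hφa : ∀ (N : Matrix (Fin n) (Fin n) F) (v : Fin n → F), φ N v = N.mulVec v :=
      fun N v => Matrix.toLinAlgEquiv'_apply N v
    set a := φ ((A : Matrix.GeneralLinearGroup (Fin n) F) : Matrix (Fin n) (Fin n) F) with ha
    set b := φ ((B : Matrix.GeneralLinearGroup (Fin n) F) : Matrix (Fin n) (Fin n) F) with hb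
    have haQ : ∀ v, Q (a v) = Q v := fun v => by
      rw [ha, hφa]
      exact A.2 v v
    have hbQ : ∀ v, Q (b v) = Q v := fun v => by
      rw [hb, hφa]
      exact B.2 v v
    have haM : a ^ M = 1 := by
      have h1 : A ^ M = 1 := pow_orderOf_eq_one A
      have h2 : ((A : Matrix.GeneralLinearGroup (Fin n) F) : Matrix (Fin n) (Fin n) F) ^ M = 1 := by
        have := congrArg (fun z : ↥(Cfsg.isometryGroup F ⇑Q) =>
          ((z : Matrix.GeneralLinearGroup (Fin n) F) : Matrix (Fin n) (Fin n) F)) h1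
        simpa using this
      rw [ha, ← map_pow, h2, map_one]
    have hcc : (c : Matrix (Fin n) (Fin n) F) * ((c⁻¹ : (Matrix (Fin n) (Fin n) F)ˣ) :
        Matrix (Fin n) (Fin n) F) = 1 := by
      rw [← Units.val_mul, mul_inv_cancel, Units.val_one]
    have hcc' : ((c⁻¹ : (Matrix (Fin n) (Fin n) F)ˣ) : Matrix (Fin n) (Fin n) F) *
        (c : Matrix (Fin n) (Fin n) F) = 1 := by
      rw [← Units.val_mul, inv_mul_cancel, Units.val_one]
    let T : (Fin n → F) ≃ₗ[F] (Fin n → F) :=
      LinearEquiv.ofLinear (φ (c : Matrix (Fin n) (Fin n) F))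
        (φ ((c⁻¹ : (Matrix (Fin n) (Fin n) F)ˣ) : Matrix (Fin n) (Fin n) F))
        (by rw [← Module.End.mul_eq_comp, ← map_mul, hcc, map_one]; rfl)
        (by rw [← Module.End.mul_eq_comp, ← map_mul, hcc', map_one]; rfl)
    have hTa : ∀ v, T v = φ (c : Matrix (Fin n) (Fin n) F) v := fun v => rfl
    have hT : ∀ v, T (a v) = b (T v) := by
      intro v
      rw [hTa, hTa, ha, hb, ← Module.End.mul_apply, ← Module.End.mul_apply, ← map_mul, ← map_mul,
        hc']
    obtain ⟨g, hgQ, hgc⟩ := exists_isometry_intertwiner Q hQ a b haQ hbQ hM hodd hMF haM T hT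
    set G := LinearMap.toMatrix' (g : (Fin n → F) →ₗ[F] (Fin n → F)) with hG
    set Gi := LinearMap.toMatrix' (g.symm : (Fin n → F) →ₗ[F] (Fin n → F)) with hGi
    have hGv : ∀ v, G.mulVec v = g v := fun v => by
      rw [hG, LinearMap.toMatrix'_mulVec]
      rfl
    have hGG : G * Gi = 1 := by
      rw [hG, hGi, ← LinearMap.toMatrix'_comp]
      have : (g : (Fin n → F) →ₗ[F] (Fin n → F)) ∘ₗ (g.symm : (Fin n → F) →ₗ[F] (Fin n → F))
          = LinearMap.id := by
        ext v : 1
        simp
      rw [this, LinearMap.toMatrix'_id]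
    have hGG' : Gi * G = 1 := by
      rw [hG, hGi, ← LinearMap.toMatrix'_comp]
      have : (g.symm : (Fin n → F) →ₗ[F] (Fin n → F)) ∘ₗ (g : (Fin n → F) →ₗ[F] (Fin n → F))
          = LinearMap.id := by
        ext v : 1
        simp
      rw [this, LinearMap.toMatrix'_id]
    let Gu : Matrix.GeneralLinearGroup (Fin n) F := ⟨G, Gi, hGG, hGG'⟩
    have hGmem : Gu ∈ Cfsg.isometryGroup F ⇑Q := by
      intro u v
      show Q (G.mulVec u) = Q u
      rw [hGv]
      exact hgQ u
    rw [isConj_iff]
    refine ⟨⟨Gu, hGmem⟩, ?_⟩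
    rw [mul_inv_eq_iff_eq_mul]
    apply Subtype.ext
    apply Units.ext
    show G * ((A : Matrix.GeneralLinearGroup (Fin n) F) : Matrix (Fin n) (Fin n) F) =
      ((B : Matrix.GeneralLinearGroup (Fin n) F) : Matrix (Fin n) (Fin n) F) * G
    apply φ.injective
    apply LinearMap.ext
    intro v
    rw [map_mul, map_mul, Module.End.mul_apply, Module.End.mul_apply, hφa G, hφa G, hGv, hGv]
    exact hgc v

end Cfsg.Agent.S2590
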