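import Mathlib
import Cfsg.Statements.S2593
import Cfsg.Agent.Lib.Helper11.SympInv3
import Cfsg.Agent.S2167

set_option autoImplicit false
open Cfsg

namespace Cfsg.Agent.S2593

open Matrix Cfsg.Agent.Helper11.SympInv Cfsg.Agent.Helper28.SympIso

variable {F : Type*} [Field F] {m : ℕ}

theorem orderOf_two_of_sq (g : Matrix.symplecticGroup (Fin m) F)
    (hgg : (g : Matrix (Fin m ⊕ Fin m) (Fin m ⊕ Fin m) F) * g = 1)
    (hr : 1 ≤ ((g : Matrix (Fin m ⊕ Fin m) (Fin m ⊕ Fin m) F) - 1).rank) : orderOf g = 2 := by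
  apply orderOf_eq_prime
  · apply Subtype.ext
    rw [pow_two]
    exact hgg
  · intro h
    rw [h] at hr
    simp at hr

theorem sq_of_orderOf_two (g : Matrix.symplecticGroup (Fin m) F) (hg : orderOf g = 2) :
    (g : Matrix (Fin m ⊕ Fin m) (Fin m ⊕ Fin m) F) * g = 1 ∧ g ≠ 1 := by
  have h1 : g ^ 2 = 1 := by rw [← hg]; exact pow_orderOf_eq_one g
  rw [pow_two] at h1
  refine ⟨?_, ?_⟩
  · have := congrArg (fun x : ↥(Matrix.symplecticGroup (Fin m) F) =>
      (x : Matrix (Fin m ⊕ Fin m) (Fin m ⊕ Fin m) F)) h1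
    simpa using this
  · intro h
    rw [h, orderOf_one] at hg
    omega

/-- Number of conjugacy classes of involutions in the symplectic group Sp_2m(F) over a finite field of characteristic two (m ≥ 1): for each s with 1 ≤ s ≤ m there is one class with rank(t − 1) = s if s is odd and two if s is even (according as v ↦ f(v, tv), f the symplectic form, vanishes identically or not), so m + ⌊m/2⌋ classes in all. -/
theorem result {F : Type*} [Field F] [Fintype F] [CharP F 2] {m : ℕ} (hm : 1 ≤ m) : Nat.card {C : ConjClasses ↥(Matrix.symplecticGroup (Fin m) F) // ∃ g : Matrix.symplecticGroup (Fin m) F, ConjClasses.mk g = C ∧ orderOf g = 2} = m + m / 2 := by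
  classical
  -- representatives
  have hex1 : ∀ i : Fin m, ∃ g : Matrix.symplecticGroup (Fin m) F,
      (g : Matrix (Fin m ⊕ Fin m) (Fin m ⊕ Fin m) F) * g = 1 ∧
      ((g : Matrix (Fin m ⊕ Fin m) (Fin m ⊕ Fin m) F) - 1).rank = (i : ℕ) + 1 ∧
      ∃ u, Cfsg.sympForm m F u ((g : Matrix (Fin m ⊕ Fin m) (Fin m ⊕ Fin m) F) *ᵥ u) ≠ 0 :=
    fun i => exists_nonalt_invol ((i : ℕ) + 1) (by omega) (by have := i.2; omega)
  have hex2 : ∀ j : Fin (m / 2), ∃ g : Matrix.symplecticGroup (Fin m) F,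
      (g : Matrix (Fin m ⊕ Fin m) (Fin m ⊕ Fin m) F) * g = 1 ∧
      ((g : Matrix (Fin m ⊕ Fin m) (Fin m ⊕ Fin m) F) - 1).rank = ((j : ℕ) + 1) + ((j : ℕ) + 1) ∧
      ∀ u, Cfsg.sympForm m F u ((g : Matrix (Fin m ⊕ Fin m) (Fin m ⊕ Fin m) F) *ᵥ u) = 0 :=
    fun j => exists_alt_invol ((j : ℕ) + 1) (by have := j.2; omega)
  choose g1 hg1a hg1b hg1c using hex1
  choose g2 hg2a hg2b hg2c using hex2
  let ψ : Fin m ⊕ Fin (m / 2) → {C : ConjClasses ↥(Matrix.symplecticGroup (Fin m) F) //
      ∃ g : Matrix.symplecticGroup (Fin m) F, ConjClasses.mk g = C ∧ orderOf g = 2} :=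
    fun t => match t with
    | Sum.inl i => ⟨ConjClasses.mk (g1 i), g1 i, rfl,
        orderOf_two_of_sq _ (hg1a i) (by rw [hg1b i]; omega)⟩
    | Sum.inr j => ⟨ConjClasses.mk (g2 j), g2 j, rfl,
        orderOf_two_of_sq _ (hg2a j) (by rw [hg2b j]; omega)⟩
  have hconj : ∀ a b : Matrix.symplecticGroup (Fin m) F, ConjClasses.mk a = ConjClasses.mk b →
      ∃ c : Matrix.symplecticGroup (Fin m) F, c * a = b * c := by
    intro a b h
    rw [ConjClasses.mk_eq_mk_iff_isConj, isConj_iff] at h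
    obtain ⟨c, hc⟩ := h
    exact ⟨c, by rw [← hc]; group⟩
  have hψ : Function.Bijective ψ := by
    constructor
    · rintro (i | j) (i' | j') h
      · have h1 := congrArg Subtype.val h
        obtain ⟨c, hc⟩ := hconj _ _ h1
        have := rank_eq_of_conj _ _ c hc
        rw [hg1b, hg1b] at this
        congr 1
        exact Fin.ext (by omega)
      · exfalso
        have h1 := congrArg Subtype.val h
        obtain ⟨c, hc⟩ := hconj _ _ h1
        obtain ⟨u, hu⟩ := hg1c i
        exact hu ((alt_iff_of_conj _ _ c hc).2 (hg2c j') u)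
      · exfalso
        have h1 := congrArg Subtype.val h
        obtain ⟨c, hc⟩ := hconj _ _ h1
        obtain ⟨u, hu⟩ := hg1c i'
        exact hu ((alt_iff_of_conj _ _ c hc).1 (hg2c j) u)
      · have h1 := congrArg Subtype.val h
        obtain ⟨c, hc⟩ := hconj _ _ h1
        have := rank_eq_of_conj _ _ c hc
        rw [hg2b, hg2b] at this
        congr 1
        exact Fin.ext (by omega)
    · rintro ⟨C, g, rfl, hg⟩
      obtain ⟨hgg, hg1⟩ := sq_of_orderOf_two g hg
      have hr1 := rank_pos_of_ne_one g hg1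
      have hrm := rank_le_of_sq g hgg
      by_cases halt : ∀ v, Cfsg.sympForm m F v
          ((g : Matrix (Fin m ⊕ Fin m) (Fin m ⊕ Fin m) F) *ᵥ v) = 0
      · obtain ⟨k, hk⟩ := Cfsg.Agent.S2167.even_claim _ halt
        have hk1 : 1 ≤ k := by omega
        have hkm : k - 1 < m / 2 := by omega
        refine ⟨Sum.inr ⟨k - 1, hkm⟩, ?_⟩
        apply Subtype.ext
        show ConjClasses.mk (g2 ⟨k - 1, hkm⟩) = ConjClasses.mk g
        rw [ConjClasses.mk_eq_mk_iff_isConj]
        apply isConj_alt _ _ (hg2a _) hgg _ (hg2c _) halt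
        rw [hg2b, hk]
        show k - 1 + 1 + (k - 1 + 1) = k + k
        omega
      · push Not at halt
        have hrm' : ((g : Matrix (Fin m ⊕ Fin m) (Fin m ⊕ Fin m) F) - 1).rank - 1 < m := by omega
        refine ⟨Sum.inl ⟨_, hrm'⟩, ?_⟩
        apply Subtype.ext
        show ConjClasses.mk (g1 ⟨_, hrm'⟩) = ConjClasses.mk g
        rw [ConjClasses.mk_eq_mk_iff_isConj]
        apply isConj_nonalt _ _ (hg1a _) hgg _ (hg1c _) halt
        rw [hg1b]
        show ((g : Matrix (Fin m ⊕ Fin m) (Fin m ⊕ Fin m) F) - 1).rank - 1 + 1 = _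
        omega
  rw [← Nat.card_congr (Equiv.ofBijective ψ hψ), Nat.card_eq_fintype_card, Fintype.card_sum,
    Fintype.card_fin, Fintype.card_fin]

end Cfsg.Agent.S2593
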