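import Mathlib
import Cfsg.Statements.S2595
import Cfsg.Agent.Lib.Helper11.OrthStdFrames

set_option autoImplicit false
open Cfsg

namespace Cfsg.Agent.S2595

open Cfsg.Agent.Helper17.Spinor Cfsg.Agent.Helper11.OrthInv QuadraticMap Module

/-- Number of conjugacy classes of involutions in the full orthogonal group O⁺_2m(F) of the hyperbolic quadratic form Σ x_i y_i over a finite field of characteristic two (m ≥ 1): one class for each odd s ≤ m and two for each even s with 2 ≤ s ≤ m, where s = rank(t − 1); in all m + ⌊m/2⌋. -/
theorem result {F : Type*} [Field F] [Fintype F] [CharP F 2] {m : ℕ} (hm : 1 ≤ m) : Nat.card {C : ConjClasses ↥(Cfsg.isometryGroup F (Cfsg.quadFormPlus m F)) // ∃ g : ↥(Cfsg.isometryGroup F (Cfsg.quadFormPlus m F)), ConjClasses.mk g = C ∧ orderOf g = 2} = m + m / 2 := by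
  classical
  rw [quadFormPlus_eq]
  have hQ := plusQ_nondeg (m := m) (F := F)
  have hcard : Fintype.card (Fin m ⊕ Fin m) = 2 * m := by
    rw [Fintype.card_sum, Fintype.card_fin]; ring
  apply card_invol_classes (plusQ m F) hQ hcard _ (plusW m F) _ plusQ_plusW (plusE m F) _ plusQ_plusE
  · intro W hW
    have := two_mul_finrank_le_of_isTS (plusQ m F) hQ hW
    rw [Module.finrank_fintype_fun_eq_card, hcard] at this
    omega
  · exact ⟨linearIndependent_plusW, fun i j => by
      rw [polarBilin_apply_apply]; exact polar_plusW i j⟩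
  · exact ⟨linearIndependent_plusE, fun i j => by
      rw [polarBilin_apply_apply]; exact polar_plusE i j⟩

end Cfsg.Agent.S2595
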