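import Mathlib
import Cfsg.Statements.S2596
import Cfsg.Agent.Lib.Helper11.OrthStdFrames

set_option autoImplicit false
open Cfsg

namespace Cfsg.Agent.S2596

open Cfsg.Agent.Helper17.Spinor Cfsg.Agent.Helper11.OrthInv QuadraticMap Module

theorem aux {F : Type*} [Field F] [Fintype F] [CharP F 2] (k : ℕ) (a b : F)
    (hab : ∀ z₁ z₂ : F, z₁ ^ 2 + a * z₁ * z₂ + b * z₂ ^ 2 = 0 → z₁ = 0 ∧ z₂ = 0) :
    Nat.card {C : ConjClasses ↥(Cfsg.isometryGroup F (Cfsg.quadFormMinus k F a b)) //
      ∃ g : ↥(Cfsg.isometryGroup F (Cfsg.quadFormMinus k F a b)),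
        ConjClasses.mk g = C ∧ orderOf g = 2} = (k + 1) + k / 2 := by
  classical
  rw [quadFormMinus_eq]
  have hQ := minusQ_nondeg (k := k) a b hab
  have hcard : Fintype.card ((Fin k ⊕ Fin k) ⊕ Fin 2) = 2 * (k + 1) := by
    rw [Fintype.card_sum, Fintype.card_sum, Fintype.card_fin, Fintype.card_fin]; ring
  apply card_invol_classes (minusQ k a b) hQ hcard _ (minusW k F) _ (minusQ_minusW a b)
    (minusE k F) _ (minusQ_minusE a b)
  · intro W hW
    exact finrank_le_of_isTS_minus a b hab hW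
  · exact ⟨linearIndependent_minusW, fun i j => by
      rw [polarBilin_apply_apply]; exact polar_minusW a b i j⟩
  · exact ⟨linearIndependent_minusE, fun i j => by
      rw [polarBilin_apply_apply]; exact polar_minusE a b i j⟩

/-- Number of conjugacy classes of involutions in the full orthogonal group O⁻_2m(F) of an elliptic quadratic form (Σ_(i<m−1) x_i y_i plus an anisotropic binary form) over a finite field of characteristic two (m ≥ 1): one class for each odd s ≤ m, two for each even s with 2 ≤ s < m and one for s = m when m is even, where s = rank(t − 1); in all m + ⌊(m − 1)/2⌋. -/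
theorem result {F : Type*} [Field F] [Fintype F] [CharP F 2] {m : ℕ} (hm : 1 ≤ m) (a b : F) (hab : ∀ z₁ z₂ : F, z₁ ^ 2 + a * z₁ * z₂ + b * z₂ ^ 2 = 0 → z₁ = 0 ∧ z₂ = 0) : Nat.card {C : ConjClasses ↥(Cfsg.isometryGroup F (Cfsg.quadFormMinus (m - 1) F a b)) // ∃ g : ↥(Cfsg.isometryGroup F (Cfsg.quadFormMinus (m - 1) F a b)), ConjClasses.mk g = C ∧ orderOf g = 2} = m + (m - 1) / 2 := by
  rw [aux (m - 1) a b hab]
  omega

end Cfsg.Agent.S2596
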