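import Mathlib
import Cfsg.Statements.S2597
import Cfsg.Agent.Lib.Helper11.OrthInvClassesOmega

set_option autoImplicit false
open Cfsg

namespace Cfsg.Agent.S2597

open Cfsg.Agent.Helper17.Spinor Cfsg.Agent.Helper11.OrthInv QuadraticMap Module

/-- Number of conjugacy classes of involutions in Ω⁺_2m(F) (the commutator subgroup of the orthogonal group of Σ x_i y_i) over a finite field F of characteristic two, m ≥ 1, excluding the case m = 2 over the field of two elements: the involutions of Ω are those with s = rank(t − 1) even, giving two O-classes for each even s with 2 ≤ s ≤ m, each of which is a single Ω-class except that for m even the class with s = m and v ↦ f(v, tv) identically zero splits in two; in all 2⌊m/2⌋ + 1 classes if m is even and 2⌊m/2⌋ if m is odd. -/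
theorem result {F : Type*} [Field F] [Fintype F] [CharP F 2] {m : ℕ} (hm : 1 ≤ m) (h : Fintype.card F ≠ 2 ∨ m ≠ 2) : Nat.card {C : ConjClasses ↥(Cfsg.Omega F (Cfsg.quadFormPlus m F)) // ∃ g : ↥(Cfsg.Omega F (Cfsg.quadFormPlus m F)), ConjClasses.mk g = C ∧ orderOf g = 2} = 2 * (m / 2) + (if Even m then 1 else 0) := by
  classical
  rw [quadFormPlus_eq]
  have hQ := plusQ_nondeg (m := m) (F := F)
  have hcard : Fintype.card (Fin m ⊕ Fin m) = 2 * m := by
    rw [Fintype.card_sum, Fintype.card_fin]; ring
  have hex : Fintype.card F ≠ 2 ∨ Fintype.card (Fin m ⊕ Fin m) ≠ 4 := by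
    rcases h with h | h
    · exact Or.inl h
    · right
      rw [hcard]
      omega
  rw [card_invol_classes_Omega_of_hex (plusQ m F) hQ hex hm hcard (le_refl m) _ (plusW m F) _
    plusQ_plusW (plusE m F) _ plusQ_plusE]
  · by_cases he : Even m
    · rw [if_pos he, if_pos ⟨rfl, he⟩]; ring
    · rw [if_neg he, if_neg (fun h => he h.2)]; ring
  · intro W hW
    have := two_mul_finrank_le_of_isTS (plusQ m F) hQ hW
    rw [Module.finrank_fintype_fun_eq_card, hcard] at this
    omega
  · exact ⟨linearIndependent_plusW, fun i j => by
      rw [polarBilin_apply_apply]; exact polar_plusW i j⟩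
  · exact ⟨linearIndependent_plusE, fun i j => by
      rw [polarBilin_apply_apply]; exact polar_plusE i j⟩

end Cfsg.Agent.S2597
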