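import Mathlib
import Cfsg.Statements.S2598
import Cfsg.Agent.Lib.Helper11.OrthCDMinus

set_option autoImplicit false
open Cfsg

namespace Cfsg.Agent.S2598

open Cfsg.Agent.Helper17.Spinor Cfsg.Agent.Helper11.OrthInv Cfsg.Agent.Helper11.OrthCD
  QuadraticMap Module

theorem aux {F : Type*} [Field F] [Fintype F] [CharP F 2] (k : ℕ) (a b : F)
    (hab : ∀ z₁ z₂ : F, z₁ ^ 2 + a * z₁ * z₂ + b * z₂ ^ 2 = 0 → z₁ = 0 ∧ z₂ = 0) :
    Nat.card {C : ConjClasses ↥(Cfsg.Omega F (Cfsg.quadFormMinus k F a b)) //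
      ∃ g : ↥(Cfsg.Omega F (Cfsg.quadFormMinus k F a b)),
        ConjClasses.mk g = C ∧ orderOf g = 2} = (k + 1) / 2 + k / 2 := by
  classical
  rw [quadFormMinus_eq]
  have hQ := minusQ_nondeg (k := k) a b hab
  have hcard : Fintype.card ((Fin k ⊕ Fin k) ⊕ Fin 2) = 2 * (k + 1) := by
    rw [Fintype.card_sum, Fintype.card_sum, Fintype.card_fin, Fintype.card_fin]; ring
  have hν : ∀ W : Submodule F ((Fin k ⊕ Fin k) ⊕ Fin 2 → F), IsTS (minusQ k a b) W →
      finrank F W ≤ k := fun W hW => finrank_le_of_isTS_minus a b hab hW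
  have hfw : Cfsg.Agent.Helper28.IsoFrames.IsFrame (polarBilin (minusQ k a b)) (k + 1) (minusW k F) :=
    ⟨linearIndependent_minusW, fun i j => by
      rw [polarBilin_apply_apply]; exact polar_minusW a b i j⟩
  have hfe : Cfsg.Agent.Helper28.IsoFrames.IsFrame (polarBilin (minusQ k a b)) k (minusE k F) :=
    ⟨linearIndependent_minusE, fun i j => by
      rw [polarBilin_apply_apply]; exact polar_minusE a b i j⟩
  have hif : (if k = k + 1 ∧ Even (k + 1) then 1 else 0) = 0 := by
    rw [if_neg]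
    rintro ⟨h, -⟩
    omega
  by_cases hex : Fintype.card F ≠ 2 ∨ Fintype.card ((Fin k ⊕ Fin k) ⊕ Fin 2) ≠ 4
  · rw [card_invol_classes_Omega_of_hex (minusQ k a b) hQ hex (Nat.succ_le_succ (Nat.zero_le k))
      hcard (Nat.le_succ k) hν (minusW k F) hfw (minusQ_minusW a b) (minusE k F) hfe
      (minusQ_minusE a b), hif, add_zero]
  · push Not at hex
    have hk : k = 1 := by
      have := hex.2
      rw [hcard] at this
      omega
    subst hk
    have hCD : HasCD (minusQ 1 a b) := fun h hh =>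
      cartan_dieudonne_minus (minusQ 1 a b) hQ hν h hh
    rw [card_invol_classes_Omega (minusQ 1 a b) hQ (m := 1 + 1) (ν := 1) (Nat.succ_le_succ (Nat.zero_le 1)) hcard (Nat.le_succ 1)
      (fun g => mem_Omega_iff_even_rank_sub_one_cd (minusQ 1 a b) hQ hCD g)
      (fun g hg v hv => mul_tG_mem_Omega_cd (minusQ 1 a b) hQ hCD hg hv)
      (fun h => absurd h (by norm_num)) hν (minusW 1 F) hfw (minusQ_minusW a b) (minusE 1 F) hfe
      (minusQ_minusE a b), hif, add_zero]

/-- Number of conjugacy classes of involutions in Ω⁻_2m(F) (the commutator subgroup of the orthogonal group of an elliptic quadratic form, Σ_(i<m−1) x_i y_i plus an anisotropic binary form) over a finite field F of characteristic two, m ≥ 1: the involutions of Ω are those with s = rank(t − 1) even, one O-class for each even s with 2 ≤ s ≤ m on which v ↦ f(v, tv) is not identically zero and one for each even s with 2 ≤ s < m on which it is zero (f the polar form; in characteristic 2, f(v, tv) = Q(v + tv)),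 none of which splits in Ω; in all ⌊m/2⌋ + ⌊(m − 1)/2⌋. -/
theorem result {F : Type*} [Field F] [Fintype F] [CharP F 2] {m : ℕ} (hm : 1 ≤ m) (a b : F) (hab : ∀ z₁ z₂ : F, z₁ ^ 2 + a * z₁ * z₂ + b * z₂ ^ 2 = 0 → z₁ = 0 ∧ z₂ = 0) : Nat.card {C : ConjClasses ↥(Cfsg.Omega F (Cfsg.quadFormMinus (m - 1) F a b)) // ∃ g : ↥(Cfsg.Omega F (Cfsg.quadFormMinus (m - 1) F a b)), ConjClasses.mk g = C ∧ orderOf g = 2} = m / 2 + (m - 1) / 2 := by
  rw [aux (m - 1) a b hab]
  have : m - 1 + 1 = m := by omega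
  rw [this]

end Cfsg.Agent.S2598
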