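import Mathlib
import Cfsg.Statements.S2599

set_option autoImplicit false
open Cfsg

namespace Cfsg.Agent.S2599

/-- An irreducible invariant subspace of a semisimple isometry is non-degenerate or totally singular: let Q be a quadratic form on F^n (F finite of characteristic p) with non-degenerate polar form f, x an isometry of Q of order prime to p, and U a non-zero x-invariant subspace containing no x-invariant subspace other than 0 and U. Then U meets its f-orthogonal trivially, or Q vanishes on U, or p = 2, U is a line spanned by a non-singular vector and x fixes U pointwise. -/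
theorem result {F : Type*} [Field F] [Fintype F] {p : ℕ} [Fact p.Prime] [CharP F p] {n : ℕ} (Q : QuadraticForm F (Fin n → F)) (hQ : (QuadraticMap.polarBilin Q).Nondegenerate) (x : ↥(Cfsg.isometryGroup F ⇑Q)) (hx : (orderOf x).Coprime p) (U : Submodule F (Fin n → F)) (hU0 : U ≠ ⊥) (hUx : ∀ u ∈ U, ((x : Matrix.GeneralLinearGroup (Fin n) F) : Matrix (Fin n) (Fin n) F).mulVec u ∈ U) (hirr : ∀ W : Submodule F (Fin n → F), W ≤ U → (∀ w ∈ W, ((x : Matrix.GeneralLinearGroup (Fin n) F) : Matrix (Fin n) (Fin n) F).mulVec w ∈ W) → W = ⊥ ∨ W = U) : U ⊓ LinearMap.BilinForm.orthogonal (QuadraticMap.polarBilin Q) U = ⊥ ∨ (∀ u ∈ U, Q u = 0) ∨ (p = 2 ∧ Module.finrank F U = 1 ∧ (∃ u ∈ U, Q u ≠ 0) ∧ ∀ u ∈ U, ((x : Matrix.GeneralLinearGroup (Fin n) F) : Matrix (Fin n) (Fin n) F).mulVec u = u) := by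
  classical
  have hp : p.Prime := Fact.out
  -- notation
  obtain ⟨M, hMdef⟩ : ∃ M : Matrix (Fin n) (Fin n) F,
      M = ((x : Matrix.GeneralLinearGroup (Fin n) F) : Matrix (Fin n) (Fin n) F) := ⟨_, rfl⟩
  rw [← hMdef] at hUx hirr ⊢
  have hiso : ∀ u : Fin n → F, Q (M.mulVec u) = Q u := by
    intro u
    have := x.2 u u
    rw [hMdef]
    exact this
  obtain ⟨Mi, hMi⟩ : ∃ Mi : Matrix (Fin n) (Fin n) F, Mi * M = 1 := by
    refine ⟨((x : Matrix.GeneralLinearGroup (Fin n) F)⁻¹ : Matrix.GeneralLinearGroup (Fin n) F), ?_⟩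
    rw [hMdef]
    exact Units.inv_mul _
  have hMinj : ∀ a b : Fin n → F, M.mulVec a = M.mulVec b → a = b := by
    intro a b h
    have := congrArg Mi.mulVec h
    simpa [Matrix.mulVec_mulVec, hMi] using this
  -- the polar form
  set B := QuadraticMap.polarBilin Q with hB
  have hBdef : ∀ u v, B u v = Q (u + v) - Q u - Q v := by
    intro u v
    rw [hB, QuadraticMap.polarBilin_apply_apply]
    rfl
  have hBiso : ∀ u v, B (M.mulVec u) (M.mulVec v) = B u v := by
    intro u v
    rw [hBdef, hBdef, ← Matrix.mulVec_add, hiso, hiso, hiso]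
  -- `M` maps `U` onto `U`
  have hsurj : ∀ u ∈ U, ∃ u' ∈ U, M.mulVec u' = u := by
    let f : (Fin n → F) →ₗ[F] (Fin n → F) := M.mulVecLin
    have hf : ∀ u ∈ U, f u ∈ U := fun u hu => by
      rw [Matrix.mulVecLin_apply]; exact hUx u hu
    let fU : U →ₗ[F] U := f.restrict hf
    have hinj : Function.Injective fU := by
      intro a b hab
      have h1 : M.mulVec (a : Fin n → F) = M.mulVec (b : Fin n → F) := by
        have := congrArg Subtype.val hab
        simpa [fU, f, LinearMap.restrict_apply] using this
      exact Subtype.ext (hMinj _ _ h1)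
    have hsur : Function.Surjective fU := LinearMap.injective_iff_surjective.1 hinj
    intro u hu
    obtain ⟨u', hu'⟩ := hsur ⟨u, hu⟩
    refine ⟨u', u'.2, ?_⟩
    have := congrArg Subtype.val hu'
    simpa [fU, f, LinearMap.restrict_apply] using this
  -- the radical of `U`
  have hW := hirr (U ⊓ LinearMap.BilinForm.orthogonal B U) inf_le_left (by
    intro w hw
    obtain ⟨hwU, hwO⟩ := Submodule.mem_inf.1 hw
    refine Submodule.mem_inf.2 ⟨hUx w hwU, ?_⟩
    have hwO' := LinearMap.BilinForm.mem_orthogonal_iff.1 hwO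
    refine LinearMap.BilinForm.mem_orthogonal_iff.2 ?_
    intro m hm
    obtain ⟨m', hm', rfl⟩ := hsurj m hm
    show B (M.mulVec m') (M.mulVec w) = 0
    rw [hBiso]
    exact hwO' m' hm')
  rcases hW with hW | hW
  · left; exact hW
  right
  -- now `B` vanishes on `U`
  have hBU : ∀ u ∈ U, ∀ v ∈ U, B u v = 0 := by
    intro u hu v hv
    have : v ∈ U ⊓ LinearMap.BilinForm.orthogonal B U := by rw [hW]; exact hv
    exact (LinearMap.BilinForm.mem_orthogonal_iff.1 this.2) u hu
  have hadd : ∀ u ∈ U, ∀ v ∈ U, Q (u + v) = Q u + Q v := by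
    intro u hu v hv
    have := hBU u hu v hv
    rw [hBdef] at this
    linear_combination this
  have hsmul : ∀ (c : F) (u : Fin n → F), Q (c • u) = c * c * Q u := by
    intro c u
    rw [QuadraticMap.map_smul, smul_eq_mul]
  by_cases hp2 : p = 2
  · -- characteristic two
    subst hp2
    have h2 : (2 : F) = 0 := CharTwo.two_eq_zero
    -- the singular vectors of `U`
    let K : Submodule F (Fin n → F) :=
      { carrier := {u | u ∈ U ∧ Q u = 0}
        add_mem' := by
          rintro a b ⟨ha, ha0⟩ ⟨hb, hb0⟩
          exact ⟨U.add_mem ha hb, by rw [hadd a ha b hb, ha0, hb0, add_zero]⟩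
        zero_mem' := ⟨U.zero_mem, by simp⟩
        smul_mem' := by
          rintro c a ⟨ha, ha0⟩
          exact ⟨U.smul_mem c ha, by rw [hsmul, ha0, mul_zero]⟩ }
    have hK := hirr K (fun u hu => hu.1) (by
      rintro w ⟨hwU, hw0⟩
      exact ⟨hUx w hwU, by rw [hiso, hw0]⟩)
    rcases hK with hK | hK
    · -- no singular vectors
      right
      obtain ⟨u₀, hu₀U, hu₀⟩ := (Submodule.ne_bot_iff U).1 hU0
      have hQ0 : ∀ u ∈ U, Q u = 0 → u = 0 := by
        intro u hu h0
        have : u ∈ K := ⟨hu, h0⟩
        rw [hK] at this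
        exact (Submodule.mem_bot F).1 this
      have hb : Q u₀ ≠ 0 := fun h => hu₀ (hQ0 u₀ hu₀U h)
      have hspan : ∀ v ∈ U, ∃ c : F, v = c • u₀ := by
        intro v hv
        obtain ⟨c, hc⟩ := FiniteField.isSquare_of_char_two (ringChar.eq F 2) (Q v / Q u₀)
        refine ⟨c, ?_⟩
        have h1 : Q (v + c • u₀) = 0 := by
          rw [hadd v hv _ (U.smul_mem c hu₀U), hsmul, ← hc, div_mul_cancel₀ _ hb]
          linear_combination (Q v) * h2
        have h3 := hQ0 _ (U.add_mem hv (U.smul_mem c hu₀U)) h1
        have h4 : v = -(c • u₀) := eq_neg_of_add_eq_zero_left h3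
        rw [h4]
        have : (-(1 : F)) = 1 := by linear_combination -h2
        rw [← neg_smul, neg_eq_neg_one_mul, this, one_mul]
      refine ⟨rfl, ?_, ⟨u₀, hu₀U, hb⟩, ?_⟩
      · have : U = Submodule.span F {u₀} := by
          apply le_antisymm
          · intro v hv
            obtain ⟨c, rfl⟩ := hspan v hv
            exact Submodule.smul_mem _ c (Submodule.subset_span rfl)
          · rw [Submodule.span_le]
            intro v hv
            rw [Set.mem_singleton_iff] at hv
            rw [hv]; exact hu₀U
        rw [this]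
        exact finrank_span_singleton hu₀
      · -- `M` fixes `U` pointwise
        obtain ⟨d, hd⟩ := hspan _ (hUx u₀ hu₀U)
        have hd2 : d * d = 1 := by
          have := hiso u₀
          rw [hd, hsmul] at this
          have h5 : (d * d - 1) * Q u₀ = 0 := by linear_combination this
          rcases mul_eq_zero.1 h5 with h6 | h6
          · linear_combination h6
          · exact absurd h6 hb
        have hd1 : d = 1 := by
          have : (d - 1) * (d - 1) = 0 := by linear_combination hd2 - d * h2 + h2
          have := mul_self_eq_zero.1 this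
          linear_combination this
        rw [hd1, one_smul] at hd
        intro u hu
        obtain ⟨c, rfl⟩ := hspan u hu
        rw [Matrix.mulVec_smul, hd]
    · left
      intro u hu
      have : u ∈ K := by rw [hK]; exact hu
      exact this.2
  · -- odd characteristic
    left
    intro u hu
    have h2 : (2 : F) ≠ 0 := by
      intro h
      have h' : ((2 : ℕ) : F) = 0 := by exact_mod_cast h
      rw [CharP.cast_eq_zero_iff F p 2] at h'
      exact hp2 ((Nat.prime_dvd_prime_iff_eq hp Nat.prime_two).1 h')
    have h3 := hBU u hu u hu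
    rw [hBdef] at h3
    have h4 : Q (u + u) = 2 * 2 * Q u := by
      have : u + u = (2 : F) • u := (two_smul F u).symm
      rw [this, hsmul]
    rw [h4] at h3
    have h5 : 2 * Q u = 0 := by linear_combination h3
    rcases mul_eq_zero.1 h5 with h6 | h6
    · exact absurd h6 h2
    · exact h6

end Cfsg.Agent.S2599
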