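import Mathlib
import Cfsg.Statements.S2604
import Cfsg.Agent.Lib.Helper17.OrthOut10

set_option autoImplicit false
open Cfsg

namespace Cfsg.Agent.S2604

/-- Outer automorphism group of the simple orthogonal group Ω_(2m+1)(q), m ≥ 3, q = p^f odd: it is the direct product of a group of order 2 (diagonal automorphisms, from SO) and a cyclic group of order f (field automorphisms). -/
theorem result {F : Type*} [Field F] [Fintype F] {p f m : ℕ} [Fact p.Prime] (hf : 1 ≤ f) (hF : Fintype.card F = p ^ f) (hp : p ≠ 2) (hm : 3 ≤ m) : Nonempty (Cfsg.Out (Cfsg.POmega F (Cfsg.quadFormOdd m F)) ≃* Multiplicative (ZMod 2 × ZMod f)) := by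
  classical
  have h2 : (2 : F) ≠ 0 := by
    have hc : ringChar F ≠ 2 := by
      intro h
      have h1 := FiniteField.even_card_of_char_two h
      rw [hF] at h1
      have hpo : Odd p := (Fact.out : p.Prime).odd_of_ne_two hp
      have h3 : Odd (p ^ f) := hpo.pow
      have := Nat.odd_iff.1 h3
      omega
    exact Ring.two_ne_zero hc
  have hring : Nat.card (RingAut F) = f := Cfsg.Agent.Helper2.OutCongr.card_ringEquiv hF
  obtain ⟨k, rfl⟩ : ∃ k, m = k + 3 := ⟨m - 3, by omega⟩
  rw [Cfsg.Agent.Helper2.Orth.quadFormOdd_eq]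
  exact Cfsg.Agent.Helper17.OrthOut.out_odd h2 k hring

end Cfsg.Agent.S2604
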