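import Mathlib
import Cfsg.Statements.S2605
import Cfsg.Agent.Lib.Helper17.OrthOut17
import Cfsg.Agent.Lib.Helper2.OutCongr

set_option autoImplicit false
open Cfsg

namespace Cfsg.Agent.S2605

/-- Outer automorphism group of PΩ⁻_2m(q), m ≥ 4, q = 2^f: cyclic of order 2f, generated by a semilinear map inducing the Frobenius automorphism of the field (its f-th power is a graph automorphism, an orthogonal transvection). -/
theorem result {F : Type*} [Field F] [Fintype F] {f m : ℕ} (hf : 1 ≤ f) (hF : Fintype.card F = 2 ^ f) (hm : 4 ≤ m) (a b : F) (hab : ∀ z₁ z₂ : F, z₁ ^ 2 + a * z₁ * z₂ + b * z₂ ^ 2 = 0 → z₁ = 0 ∧ z₂ = 0) : IsCyclic (Cfsg.Out (Cfsg.POmega F (Cfsg.quadFormMinus (m - 1) F a b))) ∧ Nat.card (Cfsg.Out (Cfsg.POmega F (Cfsg.quadFormMinus (m - 1) F a b))) = 2 * f := by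
  classical
  haveI : Fact (Nat.Prime 2) := ⟨Nat.prime_two⟩
  haveI : CharP F 2 := charP_of_card_eq_prime_pow hF
  have hring : Nat.card (RingAut F) = f := Cfsg.Agent.Helper2.OutCongr.card_ringEquiv (p := 2) hF
  obtain ⟨k, rfl⟩ : ∃ k, m = k + 4 := ⟨m - 4, by omega⟩
  rw [Cfsg.Agent.Helper2.Orth.quadFormMinus_eq]
  show IsCyclic (Cfsg.Out (Cfsg.POmega F (⇑(Cfsg.Agent.Helper17.Spinor.minusQ (k + 3) a b)))) ∧
    Nat.card (Cfsg.Out (Cfsg.POmega F (⇑(Cfsg.Agent.Helper17.Spinor.minusQ (k + 3) a b)))) = 2 * f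
  have G := Cfsg.Agent.Helper17.OrthOut.good_minus k a b hab
  have ha := Cfsg.Agent.Helper17.OrthOut.a_ne_zero_of_aniso a b hab
  have hcard : Nat.card (Cfsg.Out (Cfsg.POmega F
      (⇑(Cfsg.Agent.Helper17.Spinor.minusQ (k + 3) a b)))) = 2 * f := by
    have h3 : Nat.card (Cfsg.Out (Cfsg.POmega F
        (⇑(Cfsg.Agent.Helper17.Spinor.minusQ (k + 3) a b)))) =
        (Cfsg.Inn (Cfsg.POmega F (⇑(Cfsg.Agent.Helper17.Spinor.minusQ (k + 3) a b)))).index := rfl
    have h4 := (Cfsg.Inn (Cfsg.POmega F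
      (⇑(Cfsg.Agent.Helper17.Spinor.minusQ (k + 3) a b)))).index_mul_card
    rw [G.card_inn, G.card_mulAut'
      (fun σ => Cfsg.Agent.Helper17.OrthOut.exists_semisim_minus_two _ a b hab σ),
      G.relIndex_inn_PG_two, hring, ← h3] at h4
    have hpos : 0 < Nat.card (Cfsg.POmega F
      (⇑(Cfsg.Agent.Helper17.Spinor.minusQ (k + 3) a b))) := Nat.card_pos
    exact Nat.eq_of_mul_eq_mul_right hpos h4
  refine ⟨?_, hcard⟩
  obtain ⟨α, hα⟩ : ∃ α : MulAut (Cfsg.POmega F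
      (⇑(Cfsg.Agent.Helper17.Spinor.minusQ (k + 3) a b))),
      α = Cfsg.Agent.Helper17.OrthOut.stdAut
        (Cfsg.Agent.Helper17.OrthOut.isSemisim_frob (k + 3) a b ha) := ⟨_, rfl⟩
  have hαf : α ^ f ∉ Cfsg.Inn (Cfsg.POmega F
      (⇑(Cfsg.Agent.Helper17.Spinor.minusQ (k + 3) a b))) := by
    rw [hα]
    exact Cfsg.Agent.Helper17.OrthOut.frob_pow_card_notMem (k + 3) a b hab G ha hF
  let x : Cfsg.Out (Cfsg.POmega F (⇑(Cfsg.Agent.Helper17.Spinor.minusQ (k + 3) a b))) :=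
    QuotientGroup.mk α
  let πb : Cfsg.Out (Cfsg.POmega F (⇑(Cfsg.Agent.Helper17.Spinor.minusQ (k + 3) a b))) →*
      RingAut F := QuotientGroup.lift (Cfsg.Inn _) G.fieldHom G.inn_le_ker
  have hπx : πb x = Cfsg.Agent.Helper17.OrthOut.sqAut F := by
    show G.fieldHom α = _
    rw [hα, G.fieldHom_stdAut]
  have hfin : Finite (RingAut F) :=
    Finite.of_injective (fun σ : RingAut F => (σ : F → F)) DFunLike.coe_injective
  have hord : orderOf (Cfsg.Agent.Helper17.OrthOut.sqAut F : RingAut F) = f := by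
    rw [← hring]
    apply orderOf_eq_card_of_forall_mem_zpowers
    intro σ
    obtain ⟨i, hi⟩ := Cfsg.Agent.Helper17.OrthOut.exists_pow_frob
      (Cfsg.Agent.Helper17.OrthOut.sqAut F) Cfsg.Agent.Helper17.OrthOut.sqAut_apply σ
    rw [hi]
    exact Subgroup.npow_mem_zpowers _ i
  have hfinOut : Finite (Cfsg.Out (Cfsg.POmega F
      (⇑(Cfsg.Agent.Helper17.Spinor.minusQ (k + 3) a b)))) := by
    apply Nat.finite_of_card_ne_zero
    rw [hcard]
    omega
  have h1 : f ∣ orderOf x := by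
    have := orderOf_map_dvd πb x
    rwa [hπx, hord] at this
  have h2 : orderOf x ∣ 2 * f := by
    rw [← hcard]
    exact orderOf_dvd_natCard x
  have h3 : ¬ orderOf x ∣ f := by
    intro hdvd
    have h4 : x ^ f = 1 := orderOf_dvd_iff_pow_eq_one.1 hdvd
    have h5 : x ^ f = QuotientGroup.mk (α ^ f) := rfl
    rw [h5, QuotientGroup.eq_one_iff] at h4
    exact hαf h4
  apply isCyclic_of_orderOf_eq_card x
  rw [hcard]
  obtain ⟨j, hj⟩ := h1
  rw [hj] at h2 h3 ⊢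
  have hfpos : 0 < f := hf
  have hj2 : j ∣ 2 := by
    rw [mul_comm 2 f] at h2
    exact Nat.dvd_of_mul_dvd_mul_left hfpos h2
  have hj' : j = 1 ∨ j = 2 := by
    have := (Nat.dvd_prime Nat.prime_two).1 hj2
    exact this
  rcases hj' with rfl | rfl
  · exfalso
    apply h3
    rw [mul_one]
  · ring

end Cfsg.Agent.S2605
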