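import Mathlib
import Cfsg.Statements.S2606
import Cfsg.Agent.Lib.Helper17.OrthOut24
import Cfsg.Agent.Lib.Helper2.OutCongr
import Cfsg.Agent.Lib.Helper2.PslAut7

set_option autoImplicit false
open Cfsg

namespace Cfsg.Agent.S2606

/-- Outer automorphism group of PΩ⁻_2m(q), m ≥ 4, q = p^f odd: it is dihedral of order 8 times cyclic of order f when q ≡ 3 (mod 4) and m is odd, and otherwise the direct product of a group of order 2 with a cyclic group of order 2f. -/
theorem result {F : Type*} [Field F] [Fintype F] {p f m : ℕ} [Fact p.Prime] (hf : 1 ≤ f) (hF : Fintype.card F = p ^ f) (hp : p ≠ 2) (hm : 4 ≤ m) (a b : F) (hab : ∀ z₁ z₂ : F, z₁ ^ 2 + a * z₁ * z₂ + b * z₂ ^ 2 = 0 → z₁ = 0 ∧ z₂ = 0) : if p ^ f % 4 = 3 ∧ Odd m then Nonempty (Cfsg.Out (Cfsg.POmega F (Cfsg.quadFormMinus (m - 1) F a b)) ≃* DihedralGroup 4 × Multiplicative (ZMod f)) else Nonempty (Cfsg.Out (Cfsg.POmega F (Cfsg.quadFormMinus (m - 1) F a b)) ≃* Multiplicative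 (ZMod 2 × ZMod (2 * f))) := by
  classical
  haveI : CharP F p := charP_of_card_eq_prime_pow hF
  have hring : Nat.card (RingAut F) = f := Cfsg.Agent.Helper2.OutCongr.card_ringEquiv hF
  obtain ⟨k, rfl⟩ : ∃ k, m = k + 4 := ⟨m - 4, by omega⟩
  rw [Cfsg.Agent.Helper2.Orth.quadFormMinus_eq]
  show if p ^ f % 4 = 3 ∧ Odd (k + 4) then
      Nonempty (Cfsg.Out (Cfsg.POmega F (⇑(Cfsg.Agent.Helper17.Spinor.minusQ (k + 1 + 2) a b))) ≃*
        DihedralGroup 4 × Multiplicative (ZMod f))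
    else
      Nonempty (Cfsg.Out (Cfsg.POmega F (⇑(Cfsg.Agent.Helper17.Spinor.minusQ (k + 1 + 2) a b))) ≃*
        Multiplicative (ZMod 2 × ZMod (2 * f)))
  have G : Cfsg.Agent.Helper17.OrthOut.Good (Cfsg.Agent.Helper17.Spinor.minusQ (k + 1 + 2) a b) :=
    Cfsg.Agent.Helper17.OrthOut.good_minus k a b hab
  have hpodd : Odd p := (Fact.out : p.Prime).odd_of_ne_two hp
  have hodd : Odd (Fintype.card F) := by rw [hF]; exact hpodd.pow
  have h2 := Cfsg.Agent.Helper17.ConfAut.two_ne_zero_of_odd_card hodd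
  have hT := Cfsg.Agent.Helper2.Orth.twoHyp_minus (F := F) (k + 1) a b
  have hcard : Even (Fintype.card ((Fin (k + 1 + 2) ⊕ Fin (k + 1 + 2)) ⊕ Fin 2)) := by
    rw [Cfsg.Agent.Helper17.ConfAut.card_minus_eq (k + 1)]
    exact even_two_mul _
  have hσ : ∀ σ : F ≃+* F, ∃ g : GL ((Fin (k + 1 + 2) ⊕ Fin (k + 1 + 2)) ⊕ Fin 2) F,
      Cfsg.IsSemisimilarityPair (⇑(Cfsg.Agent.Helper17.Spinor.minusQ (k + 1 + 2) a b)) g σ :=
    fun σ => Cfsg.Agent.Helper17.OrthOut.exists_semisim_minus_odd h2 _ a b hab σ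
  obtain ⟨πb, hπb⟩ : ∃ πb : Cfsg.Out (Cfsg.POmega F
      (⇑(Cfsg.Agent.Helper17.Spinor.minusQ (k + 1 + 2) a b))) →* RingAut F,
      πb = QuotientGroup.lift (Cfsg.Inn _) G.fieldHom G.inn_le_ker := ⟨_, rfl⟩
  have hπmk : ∀ α, πb (QuotientGroup.mk α) = G.fieldHom α := by
    intro α
    rw [hπb]
    rfl
  have hsurj : Function.Surjective πb := by
    intro σ
    obtain ⟨α, hα⟩ := G.fieldHom_surjective hσ σ
    exact ⟨QuotientGroup.mk α, by rw [hπmk, hα]⟩
  obtain ⟨hD8, hK⟩ := Cfsg.Agent.Helper17.OrthOut.minus_PG_structure (k + 1) hodd a b hab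
  haveI hcyc : IsCyclic (RingAut F) := Cfsg.Agent.Helper2.PA.isCyclic_ringAut p
  have eC : RingAut F ≃* Multiplicative (ZMod f) := by
    have e' := (zmodCyclicMulEquiv hcyc).symm
    rw [hring] at e'
    exact e'
  obtain ⟨eK⟩ := Cfsg.Agent.Helper17.OrthOut.ker_lift_equiv (Cfsg.Inn _) G.fieldHom G.inn_le_ker
    (Cfsg.Agent.Helper17.ConfAut.PG (Cfsg.Agent.Helper17.Spinor.minusQ (k + 1 + 2) a b))
    G.ker_fieldHom
  rw [← hπb] at eK
  split_ifs with hc
  · obtain ⟨hq3, hmodd⟩ := hc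
    have hev : Even (k + 1 + 2) := by
      rw [Nat.odd_iff] at hmodd
      rw [Nat.even_iff]
      omega
    obtain ⟨φ, hφs, hφk⟩ := hD8 ⟨hev, by rw [hF]; exact hq3⟩
    have hker' : (Cfsg.Inn (Cfsg.POmega F
        (⇑(Cfsg.Agent.Helper17.Spinor.minusQ (k + 1 + 2) a b)))).subgroupOf
        (Cfsg.Agent.Helper17.ConfAut.PG (Cfsg.Agent.Helper17.Spinor.minusQ (k + 1 + 2) a b)) =
        φ.ker := by
      rw [hφk, Cfsg.Agent.Helper17.ConfAut.inn_eq]
    have e := eK.trans ((QuotientGroup.quotientMulEquivOfEq hker').trans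
      (QuotientGroup.quotientKerEquivOfSurjective φ hφs))
    have hfodd : Odd f := by
      by_contra hne
      rw [Nat.not_odd_iff_even] at hne
      obtain ⟨j, hj⟩ := hne
      rw [hj, pow_add, Nat.mul_mod] at hq3
      have : p ^ j % 4 < 4 := Nat.mod_lt _ (by norm_num)
      interval_cases (p ^ j % 4) <;> omega
    exact Cfsg.Agent.Helper17.OrthOut.d4_prod πb hsurj e hfodd eC
  · have hc' : ¬ (Even (k + 1 + 2) ∧ Fintype.card F % 4 = 3) := by
      rintro ⟨h1, h3⟩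
      apply hc
      refine ⟨by rw [← hF]; exact h3, ?_⟩
      rw [Nat.even_iff] at h1
      rw [Nat.odd_iff]
      omega
    obtain ⟨⟨φ, hφs, hφk⟩, hPSO⟩ := hK hc'
    have hker' : (Cfsg.Inn (Cfsg.POmega F
        (⇑(Cfsg.Agent.Helper17.Spinor.minusQ (k + 1 + 2) a b)))).subgroupOf
        (Cfsg.Agent.Helper17.ConfAut.PG (Cfsg.Agent.Helper17.Spinor.minusQ (k + 1 + 2) a b)) =
        φ.ker := by
      rw [hφk, Cfsg.Agent.Helper17.ConfAut.inn_eq]
    have e := eK.trans ((QuotientGroup.quotientMulEquivOfEq hker').trans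
      (QuotientGroup.quotientKerEquivOfSurjective φ hφs))
    have hK4 : Nat.card πb.ker = 4 := by
      rw [Nat.card_congr e.toEquiv, Nat.card_eq_fintype_card]
      rfl
    have hsq : ∀ x ∈ πb.ker, x * x = 1 := by
      intro x hx
      have hall : ∀ y : Multiplicative (ZMod 2 × ZMod 2), y * y = 1 := by decide
      have h1 : e (⟨x, hx⟩ * ⟨x, hx⟩) = 1 := by rw [map_mul]; exact hall _
      have h3 := e.injective (h1.trans (map_one e).symm)
      exact congrArg Subtype.val h3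
    have hinn : Cfsg.Inn (Cfsg.POmega F
        (⇑(Cfsg.Agent.Helper17.Spinor.minusQ (k + 1 + 2) a b))) =
        Cfsg.Agent.Helper17.ConfAut.PSO (Cfsg.Agent.Helper17.Spinor.minusQ (k + 1 + 2) a b) := by
      rw [Cfsg.Agent.Helper17.ConfAut.inn_eq]
      exact hPSO
    have hcen : πb.ker ≤ Subgroup.center _ := by
      intro x hx
      rw [Subgroup.mem_center_iff]
      intro y
      obtain ⟨β, rfl⟩ := QuotientGroup.mk_surjective x
      obtain ⟨α, rfl⟩ := QuotientGroup.mk_surjective y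
      have hβ : β ∈ Cfsg.Agent.Helper17.ConfAut.PG
          (Cfsg.Agent.Helper17.Spinor.minusQ (k + 1 + 2) a b) := by
        rw [← G.ker_fieldHom, MonoidHom.mem_ker, ← hπmk]
        exact hx
      exact G.comm_mod_inn h2 hT hcard hinn α β hβ
    have hevf : Even f → ∃ x : Cfsg.Out (Cfsg.POmega F
        (⇑(Cfsg.Agent.Helper17.Spinor.minusQ (k + 1 + 2) a b))),
        orderOf (πb x) = f ∧ x ^ f ≠ 1 := by
      intro hfe
      obtain ⟨g, hg, hdet⟩ := Cfsg.Agent.Helper17.OrthOut.exists_semiIso_minus_odd h2 (k + 1 + 2)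
        a b hab (Cfsg.Agent.Helper17.OrthOut.frobAut p)
      rw [Cfsg.Agent.Helper17.OrthOut.frobAut_apply] at hdet
      have hDns := Cfsg.Agent.Helper17.OrthOut.disc_nonsquare h2 a b hab
      have hN := Cfsg.Agent.Helper17.OrthOut.pow_geom_sum_eq_neg_one p hp hF hfe hDns hdet
      have hnot := G.frob_pow_notMem p h2 hT hcard hF hg hN
      refine ⟨QuotientGroup.mk (Cfsg.Agent.Helper17.OrthOut.stdAut hg.toPair), ?_, ?_⟩
      · rw [hπmk, G.fieldHom_stdAut]
        exact Cfsg.Agent.Helper17.OrthOut.orderOf_frobAut p hring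
      · intro h
        have h5 : (QuotientGroup.mk (Cfsg.Agent.Helper17.OrthOut.stdAut hg.toPair) :
            Cfsg.Out (Cfsg.POmega F (⇑(Cfsg.Agent.Helper17.Spinor.minusQ (k + 1 + 2) a b)))) ^ f =
            QuotientGroup.mk ((Cfsg.Agent.Helper17.OrthOut.stdAut hg.toPair) ^ f) := rfl
        rw [h5, QuotientGroup.eq_one_iff, hinn] at h
        exact hnot h
    exact Cfsg.Agent.Helper17.OrthOut.klein_ext πb hsurj hf hring hK4 hsq hcen hevf

end Cfsg.Agent.S2606
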