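import Mathlib
import Cfsg.Statements.S2612
import Cfsg.Agent.Lib.Helper17.OrthPlus

set_option autoImplicit false
open Cfsg

namespace Cfsg.Agent.S2612

open Cfsg.Agent.Helper13 Cfsg.Agent.Helper17.Spinor Module

/-- For the hyperbolic quadratic form Σ x_i y_i on F^(2m) (F finite, m ≥ 1, excluding m = 2 over the field of two elements), Ω⁺_2m(F) (the commutator subgroup of the orthogonal group) contains an element interchanging the two complementary maximal totally singular subspaces {y = 0} and {x = 0} if and only if m is even (dimension divisible by 4). -/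
theorem result {F : Type*} [Field F] [Fintype F] {m : ℕ} (hm : 1 ≤ m) (h : Fintype.card F ≠ 2 ∨ m ≠ 2) : (∃ g : ↥(Cfsg.isometryGroup F (Cfsg.quadFormPlus m F)), g ∈ Cfsg.Omega F (Cfsg.quadFormPlus m F) ∧ (∀ v : Fin m ⊕ Fin m → F, (∀ i, v (Sum.inr i) = 0) → ∀ i, (((g : Matrix.GeneralLinearGroup (Fin m ⊕ Fin m) F) : Matrix (Fin m ⊕ Fin m) (Fin m ⊕ Fin m) F).mulVec v) (Sum.inl i) = 0) ∧ (∀ v : Fin m ⊕ Fin m → F, (∀ i, v (Sum.inl i) = 0) → ∀ i, (((g : Matrix.GeneralLinearGroup (Fin m ⊕ Fin m) F) : Matrix (Fin m ⊕ Fin m) (Fin m ⊕ Fin m) F).mulVec v) (Sum.inr i) = 0)) ↔ Even m := by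
  classical
  rw [quadFormPlus_eq]
  have hnd : (QuadraticMap.polarBilin (plusQ m F)).Nondegenerate := plusQ_nondeg
  have hex : Fintype.card F ≠ 2 ∨ Fintype.card (Fin m ⊕ Fin m) ≠ 4 := by
    rw [Fintype.card_sum, Fintype.card_fin]
    rcases h with h | h
    · exact Or.inl h
    · right; omega
  constructor
  · rintro ⟨g, hg, h1, -⟩
    obtain ⟨vs, hvs, rfl⟩ := exists_prod_tG (plusQ m F) hnd hex g
    rw [prod_tG_mem_Omega_iff_all (plusQ m F) hnd hex vs hvs] at hg
    have key := length_parity_plus vs hvs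
    have hbot : plusU m F ⊓ (plusU m F).map (vs.map (refl (plusQ m F))).prod = ⊥ := by
      rw [Submodule.eq_bot_iff]
      intro x hx
      obtain ⟨hx1, hx2⟩ := Submodule.mem_inf.1 hx
      rw [Submodule.mem_map] at hx2
      obtain ⟨y, hy, rfl⟩ := hx2
      rw [mem_plusU] at hx1 hy
      have h3 := h1 y hy
      have h4 : ∀ z, (vs.map (refl (plusQ m F))).prod z
          = ((((vs.map (tG (plusQ m F))).prod : ↥(Cfsg.isometryGroup F ⇑(plusQ m F))) :
            Matrix.GeneralLinearGroup (Fin m ⊕ Fin m) F) :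
              Matrix (Fin m ⊕ Fin m) (Fin m ⊕ Fin m) F).mulVec z := by
        intro z
        rw [← toEnd_prod_tG (plusQ m F) vs hvs, toEnd_apply]
      funext k
      rcases k with i | i
      · rw [h4]; exact h3 i
      · exact hx1 i
    rw [hbot, finrank_bot] at key
    have := Nat.even_iff.1 hg.1
    rw [Nat.even_iff]
    omega
  · intro hm2
    have hQ : ∀ v ∈ swapList m F, plusQ m F v ≠ 0 := by
      intro v hv
      rw [swapList_Q v hv]
      exact neg_ne_zero.2 one_ne_zero
    refine ⟨((swapList m F).map (tG (plusQ m F))).prod, ?_, ?_, ?_⟩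
    · rw [prod_tG_mem_Omega_iff_all (plusQ m F) hnd hex _ hQ, swapList_length, swapList_prod_Q,
        hm2.neg_one_pow]
      exact ⟨hm2, ⟨1, by ring⟩⟩
    · intro v hv i
      rw [coe_prod_tG _ _ hQ, swapList_prod, Matrix.fromBlocks_mulVec]
      simp [hv]
    · intro v hv i
      rw [coe_prod_tG _ _ hQ, swapList_prod, Matrix.fromBlocks_mulVec]
      simp [hv]

end Cfsg.Agent.S2612
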