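import Mathlib
import Cfsg.Statements.S2613
import Cfsg.Agent.Lib.Helper17.SpinorHyp
import Cfsg.Agent.Lib.Helper13.MatQuad

set_option autoImplicit false
open Cfsg

namespace Cfsg.Agent.S2613

open Cfsg.Agent.Helper13 Cfsg.Agent.Helper17.Spinor

/-- For the hyperbolic form Σ x_j y_j on F^(2m), F finite with q elements, q odd, and 1 ≤ i ≤ m: the involution negating the first i hyperbolic pairs (x_j, y_j ↦ −x_j, −y_j for j < i) and fixing the rest lies in Ω⁺_2m(q) (commutator subgroup of the orthogonal group) if and only if q^i ≡ 1 (mod 4); its (−1)-eigenspace is a hyperbolic 2i-space. -/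
theorem result {F : Type*} [Field F] [Fintype F] {q : ℕ} (hF : Fintype.card F = q) (hq : Odd q) {m : ℕ} (i : ℕ) (hi : 1 ≤ i) (him : i ≤ m) : (∃ g : ↥(Cfsg.isometryGroup F (Cfsg.quadFormPlus m F)), g ∈ Cfsg.Omega F (Cfsg.quadFormPlus m F) ∧ ((g : Matrix.GeneralLinearGroup (Fin m ⊕ Fin m) F) : Matrix (Fin m ⊕ Fin m) (Fin m ⊕ Fin m) F) = Matrix.diagonal (fun k : Fin m ⊕ Fin m => if (Sum.elim (fun j : Fin m => (j : ℕ)) (fun j : Fin m => (j : ℕ)) k) < i then (-1 : F) else 1)) ↔ q ^ i % 4 = 1 := by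
  classical
  have hQeq : Cfsg.quadFormPlus m F = ⇑(matQ (plusMat m F)) := by
    funext v
    rw [matQ_plusMat]; rfl
  rw [hQeq]
  have hnd : (QuadraticMap.polarBilin (matQ (plusMat m F))).Nondegenerate := by
    apply matQ_nondeg
    rw [plusMat_add_transpose, hypBlock_det]
    exact pow_ne_zero _ (neg_ne_zero.2 one_ne_zero)
  refine exists_mem_Omega_diagonal_iff (matQ (plusMat m F)) hF hq hnd
    (Sum.elim (fun j : Fin m => (j : ℕ)) (fun j : Fin m => (j : ℕ))) i ?_
  intro j hj
  have hjm : j < m := lt_of_lt_of_le hj him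
  refine ⟨Sum.inl ⟨j, hjm⟩, Sum.inr ⟨j, hjm⟩, ⟨?_, ?_, ?_, ?_, ?_, ?_⟩, ?_⟩
  · simp
  · rw [matQ_single]; simp [plusMat]
  · rw [matQ_single]; simp [plusMat]
  · rw [polar_matQ_single]; simp [plusMat]
  · intro k hk1 hk2
    rw [polar_matQ_single]
    rcases k with k | k
    · simp [plusMat]
    · have : (⟨j, hjm⟩ : Fin m) ≠ k := by
        intro h; apply hk2; rw [h]
      simp [plusMat, Matrix.one_apply, this]
  · intro k hk1 hk2
    rw [polar_matQ_single]
    rcases k with k | k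
    · have : k ≠ (⟨j, hjm⟩ : Fin m) := by
        intro h; apply hk1; rw [h]
      simp [plusMat, Matrix.one_apply, this]
    · simp [plusMat]
  · intro k
    rcases k with k | k
    · simp [Fin.ext_iff]
    · simp [Fin.ext_iff]

end Cfsg.Agent.S2613
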