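import Mathlib
import Cfsg.Statements.S2614
import Cfsg.Agent.Lib.Helper17.SpinorHyp
import Cfsg.Agent.Lib.Helper13.MatQuad

set_option autoImplicit false
open Cfsg

namespace Cfsg.Agent.S2614

open Cfsg.Agent.Helper13 Cfsg.Agent.Helper17.Spinor Matrix

/-- upper triangular matrix of `x₀² + Σ x_i y_i` -/
def oddMat (m : ℕ) (F : Type*) [Field F] :
    Matrix (Unit ⊕ (Fin m ⊕ Fin m)) (Unit ⊕ (Fin m ⊕ Fin m)) F :=
  fromBlocks 1 0 0 (plusMat m F)

theorem matQ_oddMat {F : Type*} [Field F] (m : ℕ) (v : Unit ⊕ (Fin m ⊕ Fin m) → F) :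
    matQ (oddMat m F) v = v (Sum.inl ()) ^ 2 + ∑ i : Fin m, v (Sum.inr (Sum.inl i)) * v (Sum.inr (Sum.inr i)) := by
  rw [matQ_apply_sum]
  simp [oddMat, plusMat, Fintype.sum_sum_type, Matrix.one_apply, Finset.sum_ite_eq]
  ring

theorem oddMat_det {F : Type*} [Field F] (m : ℕ) :
    (oddMat m F + (oddMat m F)ᵀ).det = 2 * (-1) ^ m := by
  unfold oddMat
  rw [fromBlocks_transpose, fromBlocks_add, plusMat_add_transpose]
  simp only [transpose_zero, add_zero, transpose_one]
  rw [det_fromBlocks_zero₂₁, hypBlock_det, Matrix.det_unique]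
  simp
  norm_num

/-- For the form x_0² + Σ x_j y_j on F^(2m+1), F finite with q elements, q odd, and 1 ≤ i ≤ m: the involution of determinant one negating the first i hyperbolic pairs (and fixing x_0 and the other pairs) lies in Ω_(2m+1)(q) (commutator subgroup of the orthogonal group) if and only if q^i ≡ 1 (mod 4); its (−1)-eigenspace is a hyperbolic 2i-space. -/
theorem result {F : Type*} [Field F] [Fintype F] {q : ℕ} (hF : Fintype.card F = q) (hq : Odd q) {m : ℕ} (i : ℕ) (hi : 1 ≤ i) (him : i ≤ m) : (∃ g : ↥(Cfsg.isometryGroup F (Cfsg.quadFormOdd m F)), g ∈ Cfsg.Omega F (Cfsg.quadFormOdd m F) ∧ ((g : Matrix.GeneralLinearGroup (Unit ⊕ (Fin m ⊕ Fin m)) F) : Matrix (Unit ⊕ (Fin m ⊕ Fin m)) (Unit ⊕ (Fin m ⊕ Fin m)) F) = Matrix.diagonal (fun k : Unit ⊕ (Fin m ⊕ Fin m) => if (Sum.elim (fun _ : Unit => i) (Sum.elim (fun j : Fin m => (j : ℕ)) (fun j : Fin m => (j : ℕ))) k) < i then (-1 : F) else 1)) ↔ q ^ i % 4 = 1 := by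
  classical
  have hQeq : Cfsg.quadFormOdd m F = ⇑(matQ (oddMat m F)) := by
    funext v
    rw [matQ_oddMat]; rfl
  rw [hQeq]
  have h2 : (2 : F) ≠ 0 := by
    have hc : ringChar F ≠ 2 := by
      intro h
      have := FiniteField.even_card_of_char_two h
      rw [hF] at this
      have := Nat.odd_iff.1 hq
      omega
    exact Ring.two_ne_zero hc
  have hnd : (QuadraticMap.polarBilin (matQ (oddMat m F))).Nondegenerate := by
    apply matQ_nondeg
    rw [oddMat_det]
    exact mul_ne_zero h2 (pow_ne_zero _ (neg_ne_zero.2 one_ne_zero))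
  refine exists_mem_Omega_diagonal_iff (matQ (oddMat m F)) hF hq hnd
    (Sum.elim (fun _ : Unit => i) (Sum.elim (fun j : Fin m => (j : ℕ)) (fun j : Fin m => (j : ℕ))))
    i ?_
  intro j hj
  have hjm : j < m := lt_of_lt_of_le hj him
  refine ⟨Sum.inr (Sum.inl ⟨j, hjm⟩), Sum.inr (Sum.inr ⟨j, hjm⟩), ⟨?_, ?_, ?_, ?_, ?_, ?_⟩, ?_⟩
  · simp
  · rw [matQ_single]; simp [oddMat, plusMat]
  · rw [matQ_single]; simp [oddMat, plusMat]
  · rw [polar_matQ_single]; simp [oddMat, plusMat]
  · intro k hk1 hk2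
    rw [polar_matQ_single]
    rcases k with k | k | k
    · simp [oddMat, plusMat]
    · simp [oddMat, plusMat]
    · have : (⟨j, hjm⟩ : Fin m) ≠ k := by
        intro h; apply hk2; rw [h]
      simp [oddMat, plusMat, Matrix.one_apply, this]
  · intro k hk1 hk2
    rw [polar_matQ_single]
    rcases k with k | k | k
    · simp [oddMat, plusMat]
    · have : k ≠ (⟨j, hjm⟩ : Fin m) := by
        intro h; apply hk1; rw [h]
      simp [oddMat, plusMat, Matrix.one_apply, this]
    · simp [oddMat, plusMat]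
  · intro k
    rcases k with k | k | k
    · simp; omega
    · simp [Fin.ext_iff]
    · simp [Fin.ext_iff]

end Cfsg.Agent.S2614
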