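import Mathlib
import Cfsg.Statements.S2615
import Cfsg.Agent.Lib.Helper17.SpinorHyp
import Cfsg.Agent.Lib.Helper13.MatQuad

set_option autoImplicit false
open Cfsg

namespace Cfsg.Agent.S2615

open Cfsg.Agent.Helper13 Cfsg.Agent.Helper17.Spinor

/-- For an elliptic form Σ_(j<m−1) x_j y_j + (z₁² + a z₁z₂ + b z₂²) (anisotropic binary part) on F^(2m), F finite with q elements, q odd, and 1 ≤ i ≤ m − 1: the involution negating the first i hyperbolic pairs and fixing the rest lies in Ω⁻_2m(q) (commutator subgroup of the orthogonal group) if and only if q^i ≡ 1 (mod 4). -/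
theorem result {F : Type*} [Field F] [Fintype F] {q : ℕ} (hF : Fintype.card F = q) (hq : Odd q) {m : ℕ} (a b : F) (hab : ∀ z₁ z₂ : F, z₁ ^ 2 + a * z₁ * z₂ + b * z₂ ^ 2 = 0 → z₁ = 0 ∧ z₂ = 0) (i : ℕ) (hi : 1 ≤ i) (him : i + 1 ≤ m) : (∃ g : ↥(Cfsg.isometryGroup F (Cfsg.quadFormMinus (m - 1) F a b)), g ∈ Cfsg.Omega F (Cfsg.quadFormMinus (m - 1) F a b) ∧ ((g : Matrix.GeneralLinearGroup ((Fin (m - 1) ⊕ Fin (m - 1)) ⊕ Fin 2) F) : Matrix ((Fin (m - 1) ⊕ Fin (m - 1)) ⊕ Fin 2) ((Fin (m - 1) ⊕ Fin (m - 1)) ⊕ Fin 2) F) = Matrix.diagonal (fun k : (Fin (m - 1) ⊕ Fin (m - 1)) ⊕ Fin 2 => if (Sum.elim (Sum.elim (fun j : Fin (m - 1) => (j : ℕ)) (fun j : Fin (m - 1) => (j : ℕ))) (fun _ : Fin 2 => i) k) < i then (-1 : F) else 1)) ↔ q ^ i % 4 = 1 := by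
  classical
  have hQeq : Cfsg.quadFormMinus (m - 1) F a b = ⇑(matQ (minusMat (m - 1) a b)) := by
    funext v
    rw [matQ_minusMat]; rfl
  rw [hQeq]
  have hnd : (QuadraticMap.polarBilin (matQ (minusMat (m - 1) a b))).Nondegenerate := by
    apply matQ_nondeg
    rw [minusMat_det]
    refine mul_ne_zero (pow_ne_zero _ (neg_ne_zero.2 one_ne_zero)) ?_
    intro h0
    have h2 : (2 : F) ≠ 0 := by
      have hc : ringChar F ≠ 2 := by
        intro h
        have := FiniteField.even_card_of_char_two h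
        rw [hF] at this
        have := Nat.odd_iff.1 hq
        omega
      exact Ring.two_ne_zero hc
    have := hab (-a) 2 (by linear_combination h0)
    exact h2 this.2
  refine exists_mem_Omega_diagonal_iff (matQ (minusMat (m - 1) a b)) hF hq hnd
    (Sum.elim (Sum.elim (fun j : Fin (m - 1) => (j : ℕ)) (fun j : Fin (m - 1) => (j : ℕ)))
      (fun _ : Fin 2 => i)) i ?_
  intro j hj
  have hjm : j < m - 1 := by omega
  refine ⟨Sum.inl (Sum.inl ⟨j, hjm⟩), Sum.inl (Sum.inr ⟨j, hjm⟩), ⟨?_, ?_, ?_, ?_, ?_, ?_⟩, ?_⟩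
  · simp
  · rw [matQ_single]; simp [minusMat, plusMat]
  · rw [matQ_single]; simp [minusMat, plusMat]
  · rw [polar_matQ_single]; simp [minusMat, plusMat]
  · intro k hk1 hk2
    rw [polar_matQ_single]
    rcases k with (k | k) | k
    · simp [minusMat, plusMat]
    · have : (⟨j, hjm⟩ : Fin (m - 1)) ≠ k := by
        intro h; apply hk2; rw [h]
      simp [minusMat, plusMat, Matrix.one_apply, this]
    · simp [minusMat, plusMat]
  · intro k hk1 hk2
    rw [polar_matQ_single]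
    rcases k with (k | k) | k
    · have : k ≠ (⟨j, hjm⟩ : Fin (m - 1)) := by
        intro h; apply hk1; rw [h]
      simp [minusMat, plusMat, Matrix.one_apply, this]
    · simp [minusMat, plusMat]
    · simp [minusMat, plusMat]
  · intro k
    rcases k with (k | k) | k
    · simp [Fin.ext_iff]
    · simp [Fin.ext_iff]
    · simp; omega

end Cfsg.Agent.S2615
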