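import Mathlib
import Cfsg.Statements.S2619

set_option autoImplicit false
open Cfsg

namespace Cfsg.Agent.S2619

open Module QuadraticMap

theorem result {F V ι : Type*} [Field F] [Finite F] [CharP F 2] [AddCommGroup V] [Module F V] [Fintype ι] (b : Module.Basis ι F V) (B : LinearMap.BilinForm F V) (hB : B.IsAlt) (c : ι → F) : ∃! Q : QuadraticForm F V, QuadraticMap.polarBilin Q = B ∧ ∀ i, Q (b i) = c i := by
  classical
  let _ : LinearOrder ι := LinearOrder.lift' (Fintype.equivFin ι) (Fintype.equivFin ι).injective
  have h2 : (2 : F) = 0 := CharP.cast_eq_zero F 2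
  have hneg : ∀ x : F, -x = x := fun x => by
    have : x + x = 0 := by rw [← two_mul, h2, zero_mul]
    exact neg_eq_of_add_eq_zero_left this
  -- the triangular bilinear form
  let A : LinearMap.BilinForm F V :=
    b.constr (S := F) fun i => b.constr (S := F) fun j =>
      if i = j then c i else if i < j then B (b i) (b j) else 0
  have hA : ∀ i j, A (b i) (b j) = if i = j then c i else if i < j then B (b i) (b j) else 0 := by
    intro i j
    simp only [A, Basis.constr_basis]
  refine ⟨A.toQuadraticMap, ⟨?_, ?_⟩, ?_⟩
  · rw [LinearMap.BilinMap.polarBilin_toQuadraticMap]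
    refine b.ext fun i => b.ext fun j => ?_
    rw [LinearMap.add_apply, LinearMap.add_apply, LinearMap.flip_apply, hA, hA]
    by_cases hij : i = j
    · subst hij
      simp only [if_true]
      rw [hB (b i), ← two_mul, h2, zero_mul]
    · rw [if_neg hij, if_neg (Ne.symm hij)]
      rcases lt_or_gt_of_ne hij with h | h
      · rw [if_pos h, if_neg (not_lt_of_gt h), add_zero]
      · rw [if_neg (not_lt_of_gt h), if_pos h, zero_add, ← hB.neg_eq, hneg]
  · intro i
    rw [LinearMap.BilinMap.toQuadraticMap_apply, hA, if_pos rfl]
  · rintro Q' ⟨hQ'1, hQ'2⟩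
    have hAQ : Q'.toBilin b = A := by
      refine b.ext fun i => b.ext fun j => ?_
      rw [toBilin_apply, hA, hQ'2]
      have : polar Q' (b i) (b j) = B (b i) (b j) := by
        rw [← hQ'1]; rfl
      rw [this]
    have := toQuadraticMap_toBilin Q' b
    rw [hAQ] at this
    exact this.symm

end Cfsg.Agent.S2619
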