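import Mathlib
import Cfsg.Statements.S2620
import Cfsg.Agent.Lib.Helper13.QuadFinite
import Cfsg.Agent.Lib.Helper13.MatQuad

set_option autoImplicit false
open scoped Pointwise
open Cfsg

namespace Cfsg.Agent.S2620

open Module QuadraticMap Cfsg.Agent.Helper13

theorem result {F : Type*} [Field F] [Fintype F] {q : ℕ} (hF : Fintype.card F = q) (hq : Odd q) {m : ℕ} (hm : 1 ≤ m) {ι : Type*} [Fintype ι] [DecidableEq ι] (b : Module.Basis ι F (Fin m ⊕ Fin m → F)) : IsSquare (Matrix.of (fun i j : ι => QuadraticMap.polar (Cfsg.quadFormPlus m F) (b i) (b j))).det ↔ Even (m * (q - 1) / 2) := by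
  have hQ : Cfsg.quadFormPlus m F = ⇑(matQ (plusMat m F)) := by
    funext v
    rw [matQ_plusMat]; rfl
  rw [hQ]
  set std := Pi.basisFun F (Fin m ⊕ Fin m) with hstd
  set e := b.indexEquiv std with he
  rw [← gram_det_reindex (matQ (plusMat m F)) b e, gram_det_basis (matQ (plusMat m F)) std (b.reindex e),
    gram_matQ, plusMat_add_transpose, hypBlock_det]
  have hP : (std.toMatrix (b.reindex e)).det ≠ 0 := by
    have := Module.Basis.invertibleToMatrix std (b.reindex e)
    exact (Matrix.isUnit_det_of_invertible _).ne_zero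
  rw [isSquare_mul_sq_iff _ _ hP]
  -- now: IsSquare ((-1)^m) ↔ Even (m * (q-1) / 2)
  obtain ⟨k, hk⟩ := hq
  have hdiv : m * (q - 1) / 2 = m * k := by
    rw [hk]
    have : m * (2 * k + 1 - 1) = 2 * (m * k) := by
      rw [Nat.add_sub_cancel]; ring
    rw [this, Nat.mul_div_cancel_left _ (by norm_num : 0 < 2)]
  rw [hdiv, Nat.even_mul]
  rcases Nat.even_or_odd m with hme | hmo
  · have : ((-1 : F)) ^ m = 1 := hme.neg_one_pow
    rw [this]
    exact ⟨fun _ => Or.inl hme, fun _ => ⟨1, by ring⟩⟩
  · have : ((-1 : F)) ^ m = -1 := hmo.neg_one_pow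
    rw [this, FiniteField.isSquare_neg_one_iff, hF, hk]
    constructor
    · intro h
      right
      rcases Nat.even_or_odd k with hke | hko
      · exact hke
      · exfalso
        obtain ⟨j, hj⟩ := hko
        apply h
        rw [hj]; omega
    · rintro (h | h)
      · exact absurd h (Nat.not_even_iff_odd.mpr hmo)
      · obtain ⟨j, hj⟩ := h
        rw [hj]; omega

end Cfsg.Agent.S2620
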