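import Mathlib
import Cfsg.Statements.S2623
import Cfsg.Agent.Lib.Helper13.QuadFinite

set_option autoImplicit false
open scoped Pointwise
open Cfsg

namespace Cfsg.Agent.S2623

theorem result {F : Type*} [Field F] [Fintype F] (h2 : (2 : F) ≠ 0) {n : ℕ} (Q₁ Q₂ : QuadraticForm F (Fin n → F)) (h₁ : (QuadraticMap.polarBilin Q₁).Nondegenerate) (h₂ : (QuadraticMap.polarBilin Q₂).Nondegenerate) : (∃ g : (Fin n → F) ≃ₗ[F] (Fin n → F), ∀ v, Q₂ (g v) = Q₁ v) ↔ IsSquare ((Matrix.of (fun i j : Fin n => QuadraticMap.polar ⇑Q₁ (Pi.single i 1) (Pi.single j 1))).det * (Matrix.of (fun i j : Fin n => QuadraticMap.polar ⇑Q₂ (Pi.single i 1) (Pi.single j 1))).det) := by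
  constructor
  · rintro ⟨g, hg⟩
    exact Cfsg.Agent.Helper13.disc_of_equiv Q₁ Q₂ g hg
  · intro h
    exact Cfsg.Agent.Helper13.equiv_of_disc h2 Q₁ Q₂ h₁ h₂ h

end Cfsg.Agent.S2623
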