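import Mathlib
import Cfsg.Statements.S2625
import Cfsg.Agent.Lib.Helper13.QuadFinite

set_option autoImplicit false
open scoped Pointwise
open Cfsg

namespace Cfsg.Agent.S2625

open Module QuadraticMap Cfsg.Agent.Helper13

theorem result {F : Type*} [Field F] [Fintype F] {n : ℕ} (hn : Odd n) (Q : QuadraticForm F (Fin n → F)) (hQ : (QuadraticMap.polarBilin Q).Nondegenerate) (g : (Fin n → F) ≃ₗ[F] (Fin n → F)) (c : F) (hg : ∀ v, Q (g v) = c * Q v) : IsSquare c := by
  set std := Pi.basisFun F (Fin n) with hstd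
  set b := std.map g with hb
  have h1 := gram_det_basis Q std b
  have h2 : (Matrix.of fun i j => polar Q (b i) (b j)) = c • (Matrix.of fun i j => polar Q (std i) (std j)) := by
    ext i j
    simp only [Matrix.of_apply, Matrix.smul_apply, hb, Module.Basis.map_apply, polar, ← map_add, hg, smul_eq_mul]
    ring
  rw [h2, Matrix.det_smul, Fintype.card_fin] at h1
  have hG : (Matrix.of fun i j => polar Q (std i) (std j)).det ≠ 0 := gram_det_ne_zero Q std hQ
  have h3 : c ^ n = (std.toMatrix b).det ^ 2 := mul_right_cancel₀ hG h1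
  obtain ⟨k, hk⟩ := hn
  by_cases hc : c = 0
  · exact ⟨0, by rw [hc, mul_zero]⟩
  · refine ⟨(std.toMatrix b).det / c ^ k, ?_⟩
    have hck : c ^ k ≠ 0 := pow_ne_zero _ hc
    field_simp
    have : c ^ n = c * (c ^ k) ^ 2 := by rw [hk]; ring
    rw [this] at h3
    linear_combination h3

end Cfsg.Agent.S2625
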