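import Mathlib
import Cfsg.Statements.S2626

set_option autoImplicit false
open Cfsg

namespace Cfsg.Agent.S2626

open Matrix

/-- block diagonal embedding as a monoid hom on matrices -/
def blockDiagHom (F : Type*) [Field F] (k l : ℕ) :
    Matrix (Fin k) (Fin k) F × Matrix (Fin l) (Fin l) F →* Matrix (Fin k ⊕ Fin l) (Fin k ⊕ Fin l) F where
  toFun p := Matrix.fromBlocks p.1 0 0 p.2
  map_one' := Matrix.fromBlocks_one
  map_mul' p q := by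
    simp [Matrix.fromBlocks_multiply]

/-- block diagonal embedding on GL -/
noncomputable def blockDiagGL (F : Type*) [Field F] (k l : ℕ) :
    GL (Fin k) F × GL (Fin l) F →* GL (Fin k ⊕ Fin l) F :=
  (Units.map (blockDiagHom F k l)).comp (MulEquiv.prodUnits.symm.toMonoidHom)

theorem blockDiagGL_coe (F : Type*) [Field F] (k l : ℕ) (p : GL (Fin k) F × GL (Fin l) F) :
    ((blockDiagGL F k l p : GL (Fin k ⊕ Fin l) F) : Matrix (Fin k ⊕ Fin l) (Fin k ⊕ Fin l) F)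
      = Matrix.fromBlocks (p.1 : Matrix (Fin k) (Fin k) F) 0 0 (p.2 : Matrix (Fin l) (Fin l) F) := rfl

theorem result {F : Type*} [Field F] [Fintype F] {k l : ℕ} (Q₁ : QuadraticForm F (Fin k → F)) (Q₂ : QuadraticForm F (Fin l → F)) (h₁ : (QuadraticMap.polarBilin Q₁).Nondegenerate) (h₂ : (QuadraticMap.polarBilin Q₂).Nondegenerate) (g₁ : ↥(Cfsg.isometryGroup F ⇑Q₁)) (g₂ : ↥(Cfsg.isometryGroup F ⇑Q₂)) (hg₁ : g₁ ∈ Cfsg.Omega F ⇑Q₁) (hg₂ : g₂ ∈ Cfsg.Omega F ⇑Q₂) : ∃ g : ↥(Cfsg.isometryGroup F (fun v : Fin k ⊕ Fin l → F => Q₁ (v ∘ Sum.inl) + Q₂ (v ∘ Sum.inr))), g ∈ Cfsg.Omega F (fun v : Fin k ⊕ Fin l → F => Q₁ (v ∘ Sum.inl) + Q₂ (v ∘ Sum.inr)) ∧ ((g : Matrix.GeneralLinearGroup (Fin k ⊕ Fin l) F) : Matrix (Fin k ⊕ Fin l) (Fin k ⊕ Fin l) F) = Matrix.fromBlocks ((g₁ : Matrix.GeneralLinearGroup (Fin k) F) : Matrix (Fin k) (Fin k) F) 0 0 ((g₂ : Matrix.GeneralLinearGroup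 (Fin l) F) : Matrix (Fin l) (Fin l) F) := by
  classical
  set Q : (Fin k ⊕ Fin l → F) → F := fun v => Q₁ (v ∘ Sum.inl) + Q₂ (v ∘ Sum.inr) with hQ
  -- the hom on isometry groups
  have hmem : ∀ p : ↥(Cfsg.isometryGroup F ⇑Q₁) × ↥(Cfsg.isometryGroup F ⇑Q₂),
      blockDiagGL F k l (p.1.1, p.2.1) ∈ Cfsg.isometryGroup F Q := by
    intro p u _
    show Q ((blockDiagGL F k l (p.1.1, p.2.1) : Matrix _ _ F) *ᵥ u) = Q u
    rw [blockDiagGL_coe, Matrix.fromBlocks_mulVec]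
    set A : Matrix (Fin k) (Fin k) F := ((p.1 : GL (Fin k) F) : Matrix (Fin k) (Fin k) F) with hA
    set D : Matrix (Fin l) (Fin l) F := ((p.2 : GL (Fin l) F) : Matrix (Fin l) (Fin l) F) with hD
    simp only [hQ, Matrix.zero_mulVec, add_zero, zero_add]
    have e1 : (Sum.elim (A *ᵥ (u ∘ Sum.inl)) (D *ᵥ (u ∘ Sum.inr))) ∘ Sum.inl
        = A *ᵥ (u ∘ Sum.inl) := by
      ext i; simp
    have e2 : (Sum.elim (A *ᵥ (u ∘ Sum.inl)) (D *ᵥ (u ∘ Sum.inr))) ∘ Sum.inr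
        = D *ᵥ (u ∘ Sum.inr) := by
      ext i; simp
    rw [e1, e2]
    have t1 : Q₁ (A *ᵥ (u ∘ Sum.inl)) = Q₁ (u ∘ Sum.inl) := p.1.2 (u ∘ Sum.inl) (u ∘ Sum.inl)
    have t2 : Q₂ (D *ᵥ (u ∘ Sum.inr)) = Q₂ (u ∘ Sum.inr) := p.2.2 (u ∘ Sum.inr) (u ∘ Sum.inr)
    rw [t1, t2]
  let φ : ↥(Cfsg.isometryGroup F ⇑Q₁) × ↥(Cfsg.isometryGroup F ⇑Q₂) →* ↥(Cfsg.isometryGroup F Q) :=
    ((blockDiagGL F k l).comp (MonoidHom.prodMap (Subgroup.subtype _) (Subgroup.subtype _))).codRestrict _ hmem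
  refine ⟨φ (g₁, g₂), ?_, rfl⟩
  have hcomm : ((g₁, g₂) : ↥(Cfsg.isometryGroup F ⇑Q₁) × ↥(Cfsg.isometryGroup F ⇑Q₂)) ∈
      commutator (↥(Cfsg.isometryGroup F ⇑Q₁) × ↥(Cfsg.isometryGroup F ⇑Q₂)) := by
    rw [commutator_def, ← Subgroup.top_prod_top, Subgroup.commutator_prod_prod]
    exact ⟨hg₁, hg₂⟩
  have : Subgroup.map φ (commutator _) ≤ commutator _ := by
    rw [commutator_def, Subgroup.map_commutator, commutator_def]
    exact Subgroup.commutator_mono le_top le_top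
  exact this ⟨_, hcomm, rfl⟩

end Cfsg.Agent.S2626
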