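import Mathlib
import Cfsg.Statements.S2629
import Cfsg.Agent.Lib.Helper17.SpinorIndex
import Cfsg.Agent.Lib.Helper17.OrthClass
import Cfsg.Agent.Lib.Helper13.MatQuad

set_option autoImplicit false
open Cfsg

namespace Cfsg.Agent.S2629

open Cfsg.Agent.Helper13 Cfsg.Agent.Helper17.Spinor Module

theorem isTS_ker_funLeft {F : Type*} [Field F] (m : ℕ) :
    IsTS (matQ (plusMat m F))
      (LinearMap.ker (LinearMap.funLeft F F (Sum.inr : Fin m → Fin m ⊕ Fin m))) := by
  intro v hv
  rw [LinearMap.mem_ker] at hv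
  rw [matQ_plusMat]
  apply Finset.sum_eq_zero
  intro i _
  have : v (Sum.inr i) = 0 := congrFun hv i
  rw [this, mul_zero]

theorem finrank_ker_funLeft {F : Type*} [Field F] (m : ℕ) :
    finrank F ↥(LinearMap.ker (LinearMap.funLeft F F (Sum.inr : Fin m → Fin m ⊕ Fin m))) = m := by
  have h1 := LinearMap.finrank_range_add_finrank_ker
    (LinearMap.funLeft F F (Sum.inr : Fin m → Fin m ⊕ Fin m))
  have h2 : LinearMap.range (LinearMap.funLeft F F (Sum.inr : Fin m → Fin m ⊕ Fin m)) = ⊤ :=
    LinearMap.range_eq_top.2 (LinearMap.funLeft_surjective_of_injective F F _ Sum.inr_injective)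
  rw [h2, finrank_top, Module.finrank_fintype_fun_eq_card, Module.finrank_fintype_fun_eq_card,
    Fintype.card_sum, Fintype.card_fin] at h1
  omega

/-- For the hyperbolic form Σ x_i y_i on F^(2m) over a finite field of odd order (m ≥ 1), an isometry g preserves the class of the maximal totally singular subspace U₀ = {y = 0} (that is, m − dim(U₀ ∩ gU₀) is even) if and only if det g = 1: the stabiliser of each of the two classes of maximal totally singular subspaces is SO. -/
theorem result {F : Type*} [Field F] [Fintype F] (h2 : (2 : F) ≠ 0) {m : ℕ} (hm : 1 ≤ m) (g : ↥(Cfsg.isometryGroup F (Cfsg.quadFormPlus m F))) : Even (m - Module.finrank F ↥(LinearMap.ker (LinearMap.funLeft F F (Sum.inr : Fin m → Fin m ⊕ Fin m)) ⊓ (LinearMap.ker (LinearMap.funLeft F F (Sum.inr : Fin m → Fin m ⊕ Fin m))).map (Matrix.mulVecLin ((g : Matrix.GeneralLinearGroup (Fin m ⊕ Fin m) F) : Matrix (Fin m ⊕ Fin m) (Fin m ⊕ Fin m) F)))) ↔ ((g : Matrix.GeneralLinearGroup (Fin m ⊕ Fin m) F) : Matrix (Fin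 m ⊕ Fin m) (Fin m ⊕ Fin m) F).det = 1 := by
  classical
  have hQeq : Cfsg.quadFormPlus m F = ⇑(matQ (plusMat m F)) := by
    funext v
    rw [matQ_plusMat]; rfl
  revert g
  rw [hQeq]
  intro g
  have hnd : (QuadraticMap.polarBilin (matQ (plusMat m F))).Nondegenerate := by
    apply matQ_nondeg
    rw [plusMat_add_transpose, hypBlock_det]
    exact pow_ne_zero _ (neg_ne_zero.2 one_ne_zero)
  obtain ⟨vs, hvs, rfl⟩ := exists_prod_rG (matQ (plusMat m F)) h2 hnd g
  have hdet := det_coe_prod_rG (matQ (plusMat m F)) h2 vs hvs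
  rw [hdet, neg_one_pow_eq_one_iff_even (neg_one_ne_one_of_two_ne_zero h2)]
  have hfr := finrank_ker_funLeft (F := F) m
  have hV : finrank F (Fin m ⊕ Fin m → F) = 2 * m := by
    rw [Module.finrank_fintype_fun_eq_card, Fintype.card_sum, Fintype.card_fin]; ring
  have key := (finrank_inf_map_prod_refl_add_length (matQ (plusMat m F)) hnd
    (isTS_ker_funLeft (F := F) m) (by rw [hfr, hV]) vs hvs).2
  have hlin : Matrix.mulVecLin ((((vs.map (rG (matQ (plusMat m F)) h2)).prod :
      ↥(Cfsg.isometryGroup F ⇑(matQ (plusMat m F)))) :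
      Matrix.GeneralLinearGroup (Fin m ⊕ Fin m) F) : Matrix (Fin m ⊕ Fin m) (Fin m ⊕ Fin m) F)
      = (vs.map (refl (matQ (plusMat m F)))).prod := by
    rw [← toEnd_prod_rG (matQ (plusMat m F)) h2 vs hvs]
    rfl
  rw [hlin]
  rw [hfr] at key
  have hle : finrank F ↥(LinearMap.ker (LinearMap.funLeft F F (Sum.inr : Fin m → Fin m ⊕ Fin m)) ⊓
      (LinearMap.ker (LinearMap.funLeft F F (Sum.inr : Fin m → Fin m ⊕ Fin m))).map
        (vs.map (refl (matQ (plusMat m F)))).prod) ≤ m := by
    exact le_trans (Submodule.finrank_mono inf_le_left) (le_of_eq hfr)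
  rw [Nat.even_iff, Nat.even_iff]
  omega

end Cfsg.Agent.S2629
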