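import Mathlib
import Cfsg.Statements.S2631
import Cfsg.Agent.Lib.Helper17.OrthPlus
import Cfsg.Agent.Lib.Helper17.OmegaTrans

set_option autoImplicit false
open Cfsg

namespace Cfsg.Agent.S2631

open Cfsg.Agent.Helper13 Cfsg.Agent.Helper17.Spinor Module

/-- For the hyperbolic form Σ x_i y_i on F^(2m) over a finite field (m ≥ 1, excluding m = 2 over the field of two elements), Ω (the commutator subgroup of the orthogonal group) acts transitively on each of the two classes of maximal totally singular subspaces: if U and W are m-dimensional totally singular subspaces with m − dim(U ∩ W) even, some element of Ω carries U to W. -/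
theorem result {F : Type*} [Field F] [Fintype F] {m : ℕ} (hm : 1 ≤ m) (h : Fintype.card F ≠ 2 ∨ m ≠ 2) (U W : Submodule F (Fin m ⊕ Fin m → F)) (hU : Module.finrank F U = m) (hW : Module.finrank F W = m) (hU0 : ∀ u ∈ U, Cfsg.quadFormPlus m F u = 0) (hW0 : ∀ w ∈ W, Cfsg.quadFormPlus m F w = 0) (he : Even (m - Module.finrank F ↥(U ⊓ W))) : ∃ g : ↥(Cfsg.isometryGroup F (Cfsg.quadFormPlus m F)), g ∈ Cfsg.Omega F (Cfsg.quadFormPlus m F) ∧ U.map (Matrix.mulVecLin ((g : Matrix.GeneralLinearGroup (Fin m ⊕ Fin m) F) : Matrix (Fin m ⊕ Fin m) (Fin m ⊕ Fin m) F)) = W := by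
  classical
  revert hU0 hW0
  rw [quadFormPlus_eq]
  intro hU0 hW0
  have hnd : (QuadraticMap.polarBilin (plusQ m F)).Nondegenerate := plusQ_nondeg
  have hex : Fintype.card F ≠ 2 ∨ Fintype.card (Fin m ⊕ Fin m) ≠ 4 := by
    rw [Fintype.card_sum, Fintype.card_fin]
    rcases h with h | h
    · exact Or.inl h
    · right; omega
  have hUts : IsTS (plusQ m F) U := hU0
  have hWts : IsTS (plusQ m F) W := hW0
  obtain ⟨g₀, hg₀, -⟩ := exists_map_eq_of_equiv (plusQ m F) hnd hex U W
    (LinearEquiv.ofFinrankEq U W (by rw [hU, hW]))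
    (fun u => by rw [hW0 _ (Subtype.property _), hU0 _ u.2])
  obtain ⟨vs, hvs, rfl⟩ := exists_prod_tG (plusQ m F) hnd hex g₀
  have key := (finrank_inf_map_prod_refl_add_length (plusQ m F) hnd hUts
    (by rw [hU, finrank_plus_space]) vs hvs).2
  rw [← toEnd_prod_tG _ vs hvs, hg₀, hU] at key
  have heven : Even vs.length := by
    have hle : finrank F ↥(U ⊓ W) ≤ m :=
      le_trans (Submodule.finrank_mono inf_le_left) (le_of_eq hU)
    rw [Nat.even_iff] at he ⊢
    omega
  obtain ⟨e₀, he₀W, he₀0⟩ : ∃ x ∈ W, x ≠ 0 := by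
    apply Submodule.exists_mem_ne_zero_of_ne_bot
    intro hbot
    rw [hbot, finrank_bot] at hW
    omega
  exact exists_mem_Omega_map_eq_of_even (plusQ m F) hnd hex U W vs hvs heven hg₀
    (fun _ c hc => exists_pair_hyp (plusQ m F) hnd W he₀0 (hW0 _ he₀W) he₀W
      (fun w hw => hWts.polar_eq_zero _ he₀W hw) c hc)

end Cfsg.Agent.S2631
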