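import Mathlib
import Cfsg.Statements.S2633
import Cfsg.Agent.Lib.Helper17.OmegaTrans

set_option autoImplicit false
open Cfsg

namespace Cfsg.Agent.S2633

open Cfsg.Agent.Helper17.Spinor Module

/-- Ω is transitive on totally singular subspaces of each dimension less than half the dimension: for a quadratic form Q on F^n with non-degenerate polar form (F finite; excluding dimension 4 over the field of two elements), if U and W are subspaces of the same dimension k with 2k < n on which Q vanishes, then some element of Ω (the commutator subgroup of the orthogonal group) carries U to W. -/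
theorem result {F : Type*} [Field F] [Fintype F] {n : ℕ} (h : Fintype.card F ≠ 2 ∨ n ≠ 4) (Q : QuadraticForm F (Fin n → F)) (hQ : (QuadraticMap.polarBilin Q).Nondegenerate) (U W : Submodule F (Fin n → F)) {k : ℕ} (hk : 2 * k < n) (hU : Module.finrank F U = k) (hW : Module.finrank F W = k) (hU0 : ∀ u ∈ U, Q u = 0) (hW0 : ∀ w ∈ W, Q w = 0) : ∃ g : ↥(Cfsg.isometryGroup F ⇑Q), g ∈ Cfsg.Omega F ⇑Q ∧ U.map (Matrix.mulVecLin ((g : Matrix.GeneralLinearGroup (Fin n) F) : Matrix (Fin n) (Fin n) F)) = W := by
  classical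
  have hex : Fintype.card F ≠ 2 ∨ Fintype.card (Fin n) ≠ 4 := by rw [Fintype.card_fin]; exact h
  have hWts : IsTS Q W := hW0
  by_cases hk0 : k = 0
  · subst hk0
    have hUb : U = ⊥ := Submodule.finrank_eq_zero.1 hU
    have hWb : W = ⊥ := Submodule.finrank_eq_zero.1 hW
    exact ⟨1, Subgroup.one_mem _, by rw [hUb, hWb, Submodule.map_bot]⟩
  obtain ⟨g₀, hg₀, -⟩ := exists_map_eq_of_equiv Q hQ hex U W
    (LinearEquiv.ofFinrankEq U W (by rw [hU, hW]))
    (fun u => by rw [hW0 _ (Subtype.property _), hU0 _ u.2])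
  obtain ⟨e₀, he₀W, he₀0⟩ : ∃ x ∈ W, x ≠ 0 := by
    apply Submodule.exists_mem_ne_zero_of_ne_bot
    intro hbot
    rw [hbot, finrank_bot] at hW
    omega
  refine exists_mem_Omega_map_eq Q hQ hex U W g₀ hg₀ ?_
    (fun _ c hc => exists_pair_hyp Q hQ W he₀0 (hW0 _ he₀W) he₀W
      (fun w hw => hWts.polar_eq_zero _ he₀W hw) c hc)
  by_contra hcon
  push Not at hcon
  have hT : IsTS Q (LinearMap.BilinForm.orthogonal (QuadraticMap.polarBilin Q) W) := by
    intro v hv
    by_contra hne
    refine hcon v hne (map_tG_of_orth Q W hne (fun w hw => ?_))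
    rw [QuadraticMap.polar_comm]
    exact (mem_orthogonal_iff' Q W v).1 hv w hw
  have hle : LinearMap.BilinForm.orthogonal (QuadraticMap.polarBilin Q) W
      ≤ LinearMap.BilinForm.orthogonal (QuadraticMap.polarBilin Q)
        (LinearMap.BilinForm.orthogonal (QuadraticMap.polarBilin Q) W) :=
    fun x hx => (mem_orthogonal_iff' Q _ x).2 (fun u hu => hT.polar_eq_zero Q hu hx)
  have h1 := LinearMap.BilinForm.finrank_orthogonal hQ W
  have h2 := LinearMap.BilinForm.finrank_orthogonal hQ
    (LinearMap.BilinForm.orthogonal (QuadraticMap.polarBilin Q) W)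
  have h3 := Submodule.finrank_mono hle
  rw [Module.finrank_fintype_fun_eq_card, Fintype.card_fin] at h1 h2
  omega

end Cfsg.Agent.S2633
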