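import Mathlib
import Cfsg.Statements.S2634
import Cfsg.Agent.Lib.Helper17.OmegaChar2

set_option autoImplicit false
open Cfsg

namespace Cfsg.Agent.S2634

open Cfsg.Agent.Helper17.Spinor

/-- Over a finite field of characteristic two, Ω (the commutator subgroup of the orthogonal group of a quadratic form Q on F^n with non-degenerate polar form; excluding dimension 4 over the field of two elements) acts transitively on the non-singular 1-spaces: for u, v with Q(u) ≠ 0 and Q(v) ≠ 0 some element of Ω carries the line through u to the line through v. -/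
theorem result {F : Type*} [Field F] [Fintype F] [CharP F 2] {n : ℕ} (h : Fintype.card F ≠ 2 ∨ n ≠ 4) (Q : QuadraticForm F (Fin n → F)) (hQ : (QuadraticMap.polarBilin Q).Nondegenerate) (u v : Fin n → F) (hu : Q u ≠ 0) (hv : Q v ≠ 0) : ∃ g : ↥(Cfsg.isometryGroup F ⇑Q), g ∈ Cfsg.Omega F ⇑Q ∧ (F ∙ ((g : Matrix.GeneralLinearGroup (Fin n) F) : Matrix (Fin n) (Fin n) F).mulVec u) = F ∙ v := by
  have hex : Fintype.card F ≠ 2 ∨ Fintype.card (Fin n) ≠ 4 := by rw [Fintype.card_fin]; exact h
  have hchar : ringChar F = 2 := ringChar.eq F 2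
  obtain ⟨c, hc⟩ := FiniteField.isSquare_of_char_two hchar (Q u / Q v)
  have hc0 : c ≠ 0 := by
    rintro rfl
    rw [mul_zero] at hc
    exact div_ne_zero hu hv hc
  have hQcv : Q u = Q (c • v) := by
    rw [QuadraticMap.map_smul, ← hc, smul_eq_mul]
    field_simp
  obtain ⟨h₀, hh₀, hh₀u⟩ := exists_isometry_map_nonsingular Q hQ hu hQcv
  obtain ⟨g₀, hg₀⟩ := exists_toEnd_eq Q hQ hex h₀ hh₀
  have hspan : (F ∙ (c • v)) = F ∙ v :=
    Submodule.span_singleton_smul_eq (IsUnit.mk0 c hc0) v
  by_cases hmem : g₀ ∈ Cfsg.Omega F ⇑Q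
  · refine ⟨g₀, hmem, ?_⟩
    have : ((g₀ : Matrix.GeneralLinearGroup (Fin n) F) : Matrix (Fin n) (Fin n) F).mulVec u
        = c • v := by
      rw [← toEnd_apply, hg₀, hh₀u]
    rw [this, hspan]
  · obtain ⟨vs, hvs, hg₀eq⟩ := exists_prod_tG Q hQ hex g₀
    have hodd : ¬ Even vs.length := by
      intro he
      apply hmem
      rw [hg₀eq]
      exact (prod_tG_mem_commutator_iff Q hQ hex vs hvs).2 he
    refine ⟨tG Q v * g₀, ?_, ?_⟩
    · have h1 : tG Q v * g₀ = ((v :: vs).map (tG Q)).prod := by
        rw [List.map_cons, List.prod_cons, hg₀eq]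
      rw [h1]
      refine (prod_tG_mem_commutator_iff Q hQ hex (v :: vs) ?_).2 ?_
      · intro w hw
        rcases List.mem_cons.1 hw with rfl | hw
        · exact hv
        · exact hvs w hw
      · rw [List.length_cons]
        exact Nat.even_add_one.2 hodd
    · have : (((tG Q v * g₀ : ↥(Cfsg.isometryGroup F ⇑Q)) : Matrix.GeneralLinearGroup (Fin n) F) :
          Matrix (Fin n) (Fin n) F).mulVec u = c • v := by
        rw [← toEnd_apply, map_mul, Module.End.mul_apply, hg₀, hh₀u, toEnd_tG Q hv, map_smul,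
          refl_apply, polar_self_char_two, mul_zero, zero_smul, sub_zero]
      rw [this, hspan]

end Cfsg.Agent.S2634
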