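import Mathlib
import Cfsg.Statements.S2635
import Cfsg.Agent.Lib.Helper17.OmegaChar2

set_option autoImplicit false
open Cfsg

namespace Cfsg.Agent.S2635

open Cfsg.Agent.Helper17.Spinor

theorem prod_tG_mem_closure {F : Type*} [Field F] {n : ℕ}
    (Q : QuadraticForm F (Fin n → F)) :
    ∀ (m : ℕ) (vs : List (Fin n → F)), vs.length = 2 * m → (∀ v ∈ vs, Q v ≠ 0) →
      (vs.map (tG Q)).prod ∈ Subgroup.closure {g : ↥(Cfsg.isometryGroup F ⇑Q) |
        ∃ u v : Fin n → F, Q u ≠ 0 ∧ Q v ≠ 0 ∧
          ((g : Matrix.GeneralLinearGroup (Fin n) F) : Matrix (Fin n) (Fin n) F)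
            = Cfsg.reflectionMatrix ⇑Q u * Cfsg.reflectionMatrix ⇑Q v} := by
  intro m
  induction m with
  | zero =>
    intro vs hlen _
    have : vs = [] := List.length_eq_zero_iff.1 (by omega)
    subst this
    simp
  | succ m ih =>
    intro vs hlen hvs
    match vs, hlen, hvs with
    | [], hlen, _ => simp at hlen
    | [u], hlen, _ => simp at hlen; omega
    | u :: v :: rest, hlen, hvs =>
      have hu : Q u ≠ 0 := hvs u (by simp)
      have hv : Q v ≠ 0 := hvs v (by simp)
      rw [List.map_cons, List.prod_cons, List.map_cons, List.prod_cons, ← mul_assoc]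
      refine Subgroup.mul_mem _ (Subgroup.subset_closure ⟨u, v, hu, hv, ?_⟩)
        (ih rest (by simp at hlen; omega) (fun w hw => hvs w (by simp [hw])))
      rw [Subgroup.coe_mul, Units.val_mul, tG_coe Q hu, tG_coe Q hv]

/-- Over a finite field of characteristic two, for a quadratic form Q on F^n with non-degenerate polar form, n ≥ 2, other than dimension 4 over the field of two elements, Ω (the commutator subgroup of the orthogonal group) is exactly the subgroup generated by the products of two reflections (orthogonal transvections) x ↦ x − Q(v)⁻¹ f(x, v) v, Q(v) ≠ 0: the products of an even number of reflections. -/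
theorem result {F : Type*} [Field F] [Fintype F] [CharP F 2] {n : ℕ} (hn : 2 ≤ n) (h : Fintype.card F ≠ 2 ∨ n ≠ 4) (Q : QuadraticForm F (Fin n → F)) (hQ : (QuadraticMap.polarBilin Q).Nondegenerate) : Cfsg.Omega F ⇑Q = Subgroup.closure {g : ↥(Cfsg.isometryGroup F ⇑Q) | ∃ u v : Fin n → F, Q u ≠ 0 ∧ Q v ≠ 0 ∧ ((g : Matrix.GeneralLinearGroup (Fin n) F) : Matrix (Fin n) (Fin n) F) = Cfsg.reflectionMatrix ⇑Q u * Cfsg.reflectionMatrix ⇑Q v} := by
  have hex : Fintype.card F ≠ 2 ∨ Fintype.card (Fin n) ≠ 4 := by rw [Fintype.card_fin]; exact h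
  apply le_antisymm
  · intro g hg
    obtain ⟨vs, hvs, rfl⟩ := exists_prod_tG Q hQ hex g
    obtain ⟨m, hm⟩ := (prod_tG_mem_commutator_iff Q hQ hex vs hvs).1 hg
    exact prod_tG_mem_closure Q m vs (by omega) hvs
  · rw [Subgroup.closure_le]
    rintro g ⟨u, v, hu, hv, hg⟩
    have hg' : g = tG Q u * tG Q v := by
      apply Subtype.ext
      apply Units.ext
      rw [hg, Subgroup.coe_mul, Units.val_mul, tG_coe Q hu, tG_coe Q hv]
    rw [hg']
    exact tG_mul_tG_mem_commutator Q hQ hex hu hv

end Cfsg.Agent.S2635
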