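import Mathlib
import Cfsg.Statements.S2636
import Cfsg.Agent.Lib.Helper17.FixedSubfield

set_option autoImplicit false
open Cfsg

namespace Cfsg.Agent.S2636

/-- Centraliser of a field automorphism in PGL_n: let F be the field with q = q₀^r elements, σ a field automorphism of F of prime order r (so its fixed field has q₀ elements) and n ≥ 1. The invertible matrices g whose entrywise image under σ is a scalar multiple of g — those whose coset modulo scalars is fixed by σ — number (q − 1)/(q₀ − 1) · |GL_n(q₀)|; equivalently the centraliser in PGL_n(q) of the induced automorphism has the order of PGL_n(q₀). -/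
theorem result {F : Type*} [Field F] [Fintype F] {q₀ r n : ℕ} (hr : r.Prime) (hn : 1 ≤ n) (hF : Fintype.card F = q₀ ^ r) (σ : F ≃+* F) (hσ : orderOf σ = r) : Nat.card {g : GL (Fin n) F // ∃ c : F, c ≠ 0 ∧ (g : Matrix (Fin n) (Fin n) F).map σ = c • (g : Matrix (Fin n) (Fin n) F)} = (q₀ ^ r - 1) / (q₀ - 1) * ∏ i : Fin n, (q₀ ^ n - q₀ ^ (i : ℕ)) := by
  classical
  obtain ⟨F₀, hmem, hcard⟩ := Helper17.exists_fixed_subfield hr hF σ hσ
  haveI : Fintype F₀ := Fintype.ofFinite _
  have hn0 : (0 : ℕ) < n := hn
  let i0 : Fin n := ⟨0, hn0⟩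
  have hq₀ : 2 ≤ q₀ := by
    rw [← hcard]
    exact Finite.one_lt_card
  -- the product map
  let sc : Fˣ →* GL (Fin n) F := Matrix.GeneralLinearGroup.scalar (Fin n)
  let mp : GL (Fin n) F₀ →* GL (Fin n) F := Matrix.GeneralLinearGroup.map F₀.subtype
  let φ : Fˣ × GL (Fin n) F₀ →* GL (Fin n) F :=
    MonoidHom.noncommCoprod sc mp
      (fun d h => Matrix.GeneralLinearGroup.scalar_commute d (mp h))
  have hφ : ∀ (d : Fˣ) (h : GL (Fin n) F₀) (k l : Fin n),
      ((φ (d, h) : GL (Fin n) F) : Matrix (Fin n) (Fin n) F) k l = (d : F) * ((h k l : F₀) : F) := by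
    intro d h k l
    show ((sc d * mp h : GL (Fin n) F) : Matrix (Fin n) (Fin n) F) k l = _
    rw [Units.val_mul]
    simp [sc, mp, Matrix.scalar_apply, Matrix.diagonal_mul]
  -- the range of `φ`
  have hrange : ∀ g : GL (Fin n) F, g ∈ φ.range ↔
      ∃ c : F, c ≠ 0 ∧ (g : Matrix (Fin n) (Fin n) F).map σ = c • (g : Matrix (Fin n) (Fin n) F) := by
    intro g
    constructor
    · rintro ⟨⟨d, h⟩, rfl⟩
      refine ⟨σ d / d, div_ne_zero ((map_ne_zero σ).2 d.ne_zero) d.ne_zero, ?_⟩
      ext k l
      rw [Matrix.map_apply, Matrix.smul_apply, hφ, map_mul, (hmem _).1 (h k l).2, smul_eq_mul]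
      field_simp
    · rintro ⟨c, hc, hg⟩
      have hgkl : ∀ k l, σ (g k l) = c * g k l := by
        intro k l
        have := congrFun (congrFun hg k) l
        simpa [Matrix.map_apply, Matrix.smul_apply] using this
      obtain ⟨i, j, hij⟩ : ∃ i j, g i j ≠ 0 := by
        by_contra hcon
        push Not at hcon
        have h0 : (g : Matrix (Fin n) (Fin n) F) = 0 := by
          ext k l; exact hcon k l
        have hdet : (g : Matrix (Fin n) (Fin n) F).det = 0 := by
          rw [h0]
          haveI : Nonempty (Fin n) := ⟨i0⟩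
          exact Matrix.det_zero
        have := (Matrix.GeneralLinearGroup.det g).ne_zero
        exact this hdet
      obtain ⟨e, he⟩ : ∃ e : F, e = g i j := ⟨_, rfl⟩
      have he0 : e ≠ 0 := by rw [he]; exact hij
      have hσe : σ e = c * e := by rw [he]; exact hgkl i j
      let h' : Matrix (Fin n) (Fin n) F₀ := fun k l => ⟨e⁻¹ * g k l, (hmem _).2 (by
        rw [map_mul, map_inv₀, hgkl, hσe]
        field_simp)⟩
      have hmap : h'.map F₀.subtype = e⁻¹ • (g : Matrix (Fin n) (Fin n) F) := by
        ext k l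
        rfl
      have hdet : h'.det ≠ 0 := by
        intro h0
        have h1 : (h'.map F₀.subtype).det = 0 := by
          rw [← RingHom.mapMatrix_apply, ← RingHom.map_det, h0, map_zero]
        rw [hmap, Matrix.det_smul] at h1
        rcases mul_eq_zero.1 h1 with h2 | h2
        · exact pow_ne_zero _ (inv_ne_zero he0) h2
        · exact (Matrix.GeneralLinearGroup.det g).ne_zero h2
      refine ⟨(Units.mk0 e he0, Matrix.GeneralLinearGroup.mkOfDetNeZero h' hdet), ?_⟩
      apply Units.ext
      ext k l
      rw [hφ]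
      show e * (e⁻¹ * g k l) = g k l
      field_simp
  -- the kernel of `φ`
  let ψ : F₀ˣ →* Fˣ × GL (Fin n) F₀ :=
    MonoidHom.prod ((Units.map (F₀.subtype : F₀ →* F)).comp (MulEquiv.inv F₀ˣ).toMonoidHom)
      (Matrix.GeneralLinearGroup.scalar (Fin n))
  have hψinj : Function.Injective ψ := by
    intro e e' h
    have h1 : (ψ e).1 = (ψ e').1 := congrArg Prod.fst h
    have h2 : ((e⁻¹ : F₀ˣ) : F₀) = ((e'⁻¹ : F₀ˣ) : F₀) := by
      have := congrArg Units.val h1
      exact Subtype.ext this
    exact inv_injective (Units.ext h2)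
  have hker : φ.ker = ψ.range := by
    ext ⟨d, h⟩
    rw [MonoidHom.mem_ker]
    constructor
    · intro h1
      have h2 : ∀ k l, (d : F) * ((h k l : F₀) : F) = if k = l then 1 else 0 := by
        intro k l
        rw [← hφ, h1]
        simp [Matrix.one_apply]
      have hd : (d : F) * ((h i0 i0 : F₀) : F) = 1 := by rw [h2, if_pos rfl]
      have h00 : (h i0 i0 : F₀) ≠ 0 := by
        intro h0
        rw [h0] at hd
        simp at hd
      refine ⟨Units.mk0 (h i0 i0) h00, ?_⟩
      apply Prod.ext
      · apply Units.ext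
        show (((Units.mk0 (h i0 i0) h00)⁻¹ : F₀ˣ) : F) = d
        simp only [Units.val_inv_eq_inv_val, Units.val_mk0, Subfield.coe_inv]
        exact (eq_inv_of_mul_eq_one_left hd).symm
      · have hkl' : ∀ k l, Matrix.scalar (Fin n) (h i0 i0) k l = h k l := by
          intro k l
          apply Subtype.ext
          have hk := h2 k l
          by_cases hkl : k = l
          · subst hkl
            rw [if_pos rfl] at hk
            simp only [Matrix.scalar_apply, Matrix.diagonal_apply_eq]
            have : (d : F) * ((h i0 i0 : F₀) : F) = (d : F) * ((h k k : F₀) : F) := by rw [hd, hk]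
            exact mul_left_cancel₀ d.ne_zero this
          · rw [if_neg hkl] at hk
            simp only [Matrix.scalar_apply, Matrix.diagonal_apply_ne _ hkl]
            rcases mul_eq_zero.1 hk with h3 | h3
            · exact absurd h3 d.ne_zero
            · simp [h3]
        apply Units.ext
        ext k l
        first
          | exact hkl' k l
          | exact congrArg Subtype.val (hkl' k l)
    · rintro ⟨e, he⟩
      have h1 : d = (Units.map (F₀.subtype : F₀ →* F)) e⁻¹ := (congrArg Prod.fst he).symm
      have h2 : h = Matrix.GeneralLinearGroup.scalar (Fin n) e := (congrArg Prod.snd he).symm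
      apply Units.ext
      ext k l
      rw [hφ, h1, h2]
      simp only [Matrix.GeneralLinearGroup.coe_scalar, Matrix.scalar_apply, Matrix.diagonal_apply,
        Units.coe_map, MonoidHom.coe_coe, Subfield.coe_subtype, Units.val_one, Matrix.one_apply]
      by_cases hkl : k = l
      · simp [hkl]
      · simp [hkl]
  have hkercard : Nat.card φ.ker = q₀ - 1 := by
    rw [hker, ← Nat.card_congr (MonoidHom.ofInjective hψinj).toEquiv, Nat.card_units, hcard]
  have hcount : Nat.card φ.ker * Nat.card φ.range = (q₀ ^ r - 1) * ∏ i : Fin n, (q₀ ^ n - q₀ ^ (i : ℕ)) := by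
    have h1 := Subgroup.card_mul_index φ.ker
    rw [Subgroup.index_ker] at h1
    rw [h1, Nat.card_prod, Nat.card_units, Nat.card_eq_fintype_card (α := F), hF,
      Matrix.card_GL_field, ← Nat.card_eq_fintype_card, hcard]
  have hS : Nat.card {g : GL (Fin n) F // ∃ c : F, c ≠ 0 ∧
      (g : Matrix (Fin n) (Fin n) F).map σ = c • (g : Matrix (Fin n) (Fin n) F)}
      = Nat.card φ.range :=
    Nat.card_congr (Equiv.subtypeEquivRight (fun g => (hrange g).symm))
  rw [hS]
  rw [hkercard] at hcount
  obtain ⟨k, hk⟩ : (q₀ - 1) ∣ (q₀ ^ r - 1) := by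
    exact Nat.sub_one_dvd_pow_sub_one q₀ r
  have hq1 : 0 < q₀ - 1 := by omega
  rw [hk, Nat.mul_div_cancel_left _ hq1]
  rw [hk, mul_assoc] at hcount
  exact Nat.eq_of_mul_eq_mul_left hq1 hcount

end Cfsg.Agent.S2636
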