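import Mathlib
import Cfsg.Statements.S2637
import Cfsg.Agent.Lib.Helper11.Herm3Cent

set_option autoImplicit false
open Cfsg

namespace Cfsg.Agent.S2637

open Matrix Cfsg.Agent.Helper11.H3 Cfsg.Agent.Helper11.SympInv Cfsg.Agent.Helper28.SympIso
  Cfsg.Agent.Helper28.IsoGrp

theorem cnt_cast (q : ℕ) (hq : 2 ≤ q) (j : ℕ) :
    ((cnt q j).1 : ℤ) + ((q : ℤ) - 1) * (cnt q j).2 = (q : ℤ) ^ (2 * j) ∧
      (q : ℤ) * (cnt q j).2 = (q : ℤ) ^ j * ((q : ℤ) ^ j - (-1) ^ j) := by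
  induction j with
  | zero =>
    show ((1 : ℕ) : ℤ) + ((q : ℤ) - 1) * ((0 : ℕ) : ℤ) = _ ∧ (q : ℤ) * ((0 : ℕ) : ℤ) = _
    simp
  | succ j ih =>
    obtain ⟨h1, h2⟩ := ih
    have hq2 : 1 ≤ q ^ 2 := Nat.one_le_pow _ _ (by omega)
    have hq3 : q + 1 ≤ q ^ 2 := by nlinarith
    have e1 : ((cnt q (j + 1)).1 : ℤ) = (cnt q j).1 + ((q : ℤ) ^ 2 - 1) * (cnt q j).2 := by
      show (((cnt q j).1 + (q ^ 2 - 1) * (cnt q j).2 : ℕ) : ℤ) = _
      push_cast [Nat.cast_sub hq2]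
      ring
    have e2 : ((cnt q (j + 1)).2 : ℤ) =
        ((q : ℤ) + 1) * (cnt q j).1 + ((q : ℤ) ^ 2 - ((q : ℤ) + 1)) * (cnt q j).2 := by
      show (((q + 1) * (cnt q j).1 + (q ^ 2 - (q + 1)) * (cnt q j).2 : ℕ) : ℤ) = _
      push_cast [Nat.cast_sub hq3]
      ring
    constructor
    · rw [e1, e2]
      linear_combination (q : ℤ) ^ 2 * h1
    · rw [e2]
      linear_combination (q : ℤ) * ((q : ℤ) + 1) * h1 - (q : ℤ) * h2

theorem cnt_succ_cast (q : ℕ) (hq : 2 ≤ q) (j : ℕ) :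
    ((cnt q (j + 1)).2 : ℤ) = (q : ℤ) ^ j * ((q : ℤ) ^ (j + 1) - (-1) ^ (j + 1)) := by
  have h := (cnt_cast q hq (j + 1)).2
  have hq0 : (q : ℤ) ≠ 0 := by
    have : (0 : ℤ) < q := by exact_mod_cast (by omega : 0 < q)
    exact this.ne'
  apply mul_left_cancel₀ hq0
  rw [h]
  ring

/-- For q ≡ 2 (mod 3), an element of order 3 of Sp_2m(q) without eigenvalue 1 has centraliser of order #GU_m(q). -/
theorem result {F : Type*} [Field F] [Fintype F] {q : ℕ} (hF : Fintype.card F = q) (hq : q % 3 = 2) {m : ℕ} (hm : 1 ≤ m) (x : Matrix.symplecticGroup (Fin m) F) (hx3 : x ^ 3 = 1) (hfpf : IsUnit ((x : Matrix (Fin m ⊕ Fin m) (Fin m ⊕ Fin m) F) - 1)) : (Nat.card ↥(Subgroup.centralizer ({x} : Set ↥(Matrix.symplecticGroup (Fin m) F))) : ℤ) = (q : ℤ) ^ (m * (m - 1) / 2) * ∏ i : Fin m, ((q : ℤ) ^ ((i : ℕ) + 1) - (-1) ^ ((i : ℕ) + 1)) := by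
  classical
  subst hF
  set a : Matrix (Fin m ⊕ Fin m) (Fin m ⊕ Fin m) F := (x : Matrix (Fin m ⊕ Fin m) (Fin m ⊕ Fin m) F)
    with ha
  have ha3 : a * a * a = 1 := by
    have := congrArg Subtype.val hx3
    rw [pow_succ, pow_two] at this
    exact this
  -- `a² + a + 1 = 0`
  have hrel : a * a + a + 1 = 0 := by
    have h1 : (a - 1) * (a * a + a + 1) = 0 := by
      have : (a - 1) * (a * a + a + 1) = a * a * a - 1 := by noncomm_ring
      rw [this, ha3, sub_self]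
    obtain ⟨u, hu⟩ := hfpf
    have h2 : (↑u⁻¹ : Matrix (Fin m ⊕ Fin m) (Fin m ⊕ Fin m) F) * ((a - 1) * (a * a + a + 1)) = 0 := by
      rw [h1, mul_zero]
    rw [← mul_assoc, ← hu, Units.inv_mul, one_mul] at h2
    exact h2
  have hsetup : Setup (sympBil m F) a.mulVecLin := by
    refine ⟨sympBil_isAlt m, ?_, ?_, ?_⟩
    · intro u v
      rw [Matrix.mulVecLin_apply, Matrix.mulVecLin_apply]
      exact sympBil_mulVec x.2 u v
    · intro v
      simp only [Matrix.mulVecLin_apply]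
      rw [Matrix.mulVec_mulVec]
      have : (a * a + a + 1) *ᵥ v = 0 := by rw [hrel, Matrix.zero_mulVec]
      rw [Matrix.add_mulVec, Matrix.add_mulVec, Matrix.one_mulVec] at this
      exact this
    · intro v hv
      rw [Matrix.mulVecLin_apply] at hv
      obtain ⟨u, hu⟩ := hfpf
      have h1 : (a - 1) *ᵥ v = 0 := by
        rw [Matrix.sub_mulVec, Matrix.one_mulVec, hv, sub_self]
      have h2 : (↑u⁻¹ : Matrix (Fin m ⊕ Fin m) (Fin m ⊕ Fin m) F) *ᵥ ((a - 1) *ᵥ v) = 0 := by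
        rw [h1, Matrix.mulVec_zero]
      rw [Matrix.mulVec_mulVec, ← hu, Units.inv_mul, Matrix.one_mulVec] at h2
      exact h2
  have hB : NonDeg (sympBil m F) ⊤ := by
    intro w _ hw
    exact (sympBil_nondegenerate m).1 w (fun y => hw y Submodule.mem_top)
  have hcard : Nat.card (Fin m ⊕ Fin m → F) = Fintype.card F ^ (2 * m) := by
    rw [Nat.card_eq_fintype_card, Fintype.card_fun, Fintype.card_sum, Fintype.card_fin, two_mul]
  have hN : ∀ z, Nmat a z = a.mulVecLin z - z := by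
    intro z
    rw [Nmat_apply, Matrix.mulVecLin_apply]
  have hq2 : 2 ≤ Fintype.card F := by
    have := Fintype.one_lt_card (α := F)
    omega
  rw [card_centralizer_eq x, card_cent_x hsetup hB hq hcard (Nmat a) hN]
  have hrefl : ∏ i ∈ Finset.range m, (cnt (Fintype.card F) (m - i)).2 =
      ∏ j ∈ Finset.range m, (cnt (Fintype.card F) (j + 1)).2 := by
    rw [← Finset.prod_range_reflect (fun j => (cnt (Fintype.card F) (j + 1)).2) m]
    apply Finset.prod_congr rfl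
    intro j hj
    rw [Finset.mem_range] at hj
    congr 2
    omega
  rw [hrefl]
  push_cast
  rw [Finset.prod_congr rfl (fun j _ => cnt_succ_cast (Fintype.card F) hq2 j),
    Finset.prod_mul_distrib, Finset.prod_pow_eq_pow_sum, Finset.sum_range_id,
    Finset.prod_range (fun j => ((Fintype.card F : ℤ) ^ (j + 1) - (-1) ^ (j + 1)))]

end Cfsg.Agent.S2637
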