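import Mathlib
import Cfsg.Statements.S2638

set_option autoImplicit false
open Cfsg

namespace Cfsg.Agent.S2638


open Polynomial in
theorem natDegree_ge_of_irreducible_factor {F : Type*} [Field F] [Fintype F] {q : ℕ}
    (hF : Fintype.card F = q) {n r : ℕ} (hr : r.Prime) (hi : orderOf (q : ZMod r) = n)
    (g : F[X]) (hg : Irreducible g) (hdvd : g ∣ X ^ r - 1) (hndvd : ¬ g ∣ X - 1) :
    n ≤ g.natDegree := by
  classical
  have : Fact (Irreducible g) := ⟨hg⟩
  have hfin : Module.Finite F (AdjoinRoot g) := (AdjoinRoot.powerBasis hg.ne_zero).finite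
  have : Finite (AdjoinRoot g) := Module.finite_of_finite F
  have : Fintype (AdjoinRoot g) := Fintype.ofFinite _
  have hcard : Fintype.card (AdjoinRoot g) = q ^ g.natDegree := by
    rw [Module.card_eq_pow_finrank (K := F), hF, (AdjoinRoot.powerBasis hg.ne_zero).finrank,
      AdjoinRoot.powerBasis_dim]
  have hζr : (AdjoinRoot.root g) ^ r = 1 := by
    have h : AdjoinRoot.mk g (X ^ r - 1) = 0 := AdjoinRoot.mk_eq_zero.2 hdvd
    rw [map_sub, map_pow, AdjoinRoot.mk_X, map_one, sub_eq_zero] at h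
    exact h
  have hζ1 : AdjoinRoot.root g ≠ 1 := by
    intro h
    apply hndvd
    rw [← AdjoinRoot.mk_eq_zero, map_sub, AdjoinRoot.mk_X, map_one, h, sub_self]
  have hζ0 : AdjoinRoot.root g ≠ 0 := by
    intro h
    rw [h, zero_pow hr.ne_zero] at hζr
    exact zero_ne_one hζr
  have : Fact r.Prime := ⟨hr⟩
  have hu : orderOf (Units.mk0 (AdjoinRoot.root g) hζ0) = r := by
    apply orderOf_eq_prime
    · apply Units.ext
      simpa using hζr
    · intro h
      apply hζ1
      simpa using congrArg Units.val h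
  have h1 : r ∣ Fintype.card (AdjoinRoot g)ˣ := hu ▸ orderOf_dvd_card
  rw [Fintype.card_units, hcard] at h1
  have hq : 0 < q := by rw [← hF]; exact Fintype.card_pos
  have h2 : (q : ZMod r) ^ g.natDegree = 1 := by
    have h := (ZMod.natCast_eq_zero_iff _ _).2 h1
    rw [Nat.cast_sub (Nat.one_le_pow _ _ hq), Nat.cast_pow, Nat.cast_one, sub_eq_zero] at h
    exact h
  have h3 : n ∣ g.natDegree := hi ▸ orderOf_dvd_of_pow_eq_one h2
  exact Nat.le_of_dvd hg.natDegree_pos h3

open Polynomial in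
theorem minpoly_irreducible_of_order {F : Type*} [Field F] [Fintype F] {p q : ℕ} [Fact p.Prime]
    [CharP F p] (hF : Fintype.card F = q) {n r : ℕ} (hn : 1 ≤ n) (hr : r.Prime) (hrp : r ≠ p)
    (hi : orderOf (q : ZMod r) = n) (M : Matrix (Fin n) (Fin n) F) (hM : M ^ r = 1) (hM1 : M ≠ 1) :
    Irreducible (minpoly F M) ∧ (minpoly F M).natDegree = n := by
  classical
  have hp : p.Prime := Fact.out
  have : Nonempty (Fin n) := ⟨⟨0, hn⟩⟩
  have hint : IsIntegral F M := Algebra.IsIntegral.isIntegral M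
  obtain ⟨μ, hμ⟩ : ∃ μ, μ = minpoly F M := ⟨_, rfl⟩
  rw [← hμ]
  have hμmonic : μ.Monic := hμ ▸ minpoly.monic hint
  have hμ0 : μ ≠ 0 := hμmonic.ne_zero
  have hμaeval : aeval M μ = 0 := hμ ▸ minpoly.aeval F M
  have hμdvd : μ ∣ X ^ r - 1 := by
    rw [hμ]
    apply minpoly.dvd
    simp [hM]
  have hr0 : (r : F) ≠ 0 := by
    intro h
    rw [CharP.cast_eq_zero_iff F p r] at h
    exact hrp ((Nat.prime_dvd_prime_iff_eq hp hr).1 h).symm
  have hsep : (X ^ r - 1 : F[X]).Separable := by
    have := separable_X_pow_sub_C (1 : F) hr0 one_ne_zero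
    simpa using this
  have hsq : Squarefree μ := hsep.squarefree.squarefree_of_dvd hμdvd
  have hdeg : μ.natDegree ≤ n := by
    have h1 : μ ∣ M.charpoly := hμ ▸ Matrix.minpoly_dvd_charpoly M
    have h2 := natDegree_le_of_dvd h1 (Matrix.charpoly_monic M).ne_zero
    rwa [Matrix.charpoly_natDegree_eq_dim, Fintype.card_fin] at h2
  have hX1 : Irreducible (X - 1 : F[X]) := by
    have := irreducible_X_sub_C (1 : F)
    simpa using this
  have hX1deg : (X - 1 : F[X]).natDegree = 1 := by
    have := natDegree_X_sub_C (1 : F)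
    simpa using this
  have hμnu : ¬ IsUnit μ := hμ ▸ minpoly.not_isUnit F M
  -- no irreducible factor divides `X - 1`
  have hkey : ∀ g : F[X], Irreducible g → g ∣ μ → ¬ g ∣ X - 1 := by
    intro g hg hgμ hg1
    have hassoc : Associated g (X - 1) := hg.associated_of_dvd hX1 hg1
    have hX1μ : (X - 1 : F[X]) ∣ μ := hassoc.symm.dvd.trans hgμ
    obtain ⟨μ', hμ'⟩ := hX1μ
    have hμ'0 : μ' ≠ 0 := by
      rintro rfl
      rw [mul_zero] at hμ'
      exact hμ0 hμ'
    have hdegμ : μ.natDegree = 1 + μ'.natDegree := by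
      rw [hμ', natDegree_mul hX1.ne_zero hμ'0, hX1deg]
    by_cases hu : IsUnit μ'
    · -- then `μ = X - 1` and `M = 1`
      have h1 : μ'.natDegree = 0 := natDegree_eq_zero_of_isUnit hu
      obtain ⟨c, hc⟩ := natDegree_eq_zero.1 h1
      have h2 : aeval M ((X - 1 : F[X]) * C c) = 0 := by rw [hc, ← hμ', hμaeval]
      have hc0 : c ≠ 0 := by
        rintro rfl
        rw [map_zero] at hc
        exact hμ'0 hc.symm
      rw [map_mul, aeval_C, map_sub, aeval_X, map_one] at h2
      have h3 : (M - 1) * (algebraMap F (Matrix (Fin n) (Fin n) F) c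
          * algebraMap F (Matrix (Fin n) (Fin n) F) c⁻¹) = 0 := by
        rw [← mul_assoc, h2, zero_mul]
      rw [← map_mul, mul_inv_cancel₀ hc0, map_one, mul_one, sub_eq_zero] at h3
      exact hM1 h3
    · obtain ⟨g', hg', hg'μ'⟩ := WfDvdMonoid.exists_irreducible_factor hu hμ'0
      have hg'μ : g' ∣ μ := hg'μ'.trans (hμ' ▸ dvd_mul_left μ' (X - 1))
      have hg'1 : ¬ g' ∣ X - 1 := by
        intro h
        have hassoc' : Associated g' (X - 1) := hg'.associated_of_dvd hX1 h
        have h1 : (X - 1 : F[X]) ∣ μ' := hassoc'.symm.dvd.trans hg'μ'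
        have h2 : (X - 1 : F[X]) * (X - 1) ∣ μ := by
          rw [hμ']
          exact mul_dvd_mul_left _ h1
        exact hX1.not_isUnit (hsq _ h2)
      have h1 := natDegree_ge_of_irreducible_factor hF hr hi g' hg' (hg'μ.trans hμdvd) hg'1
      have h2 := natDegree_le_of_dvd hg'μ' hμ'0
      omega
  obtain ⟨g, hg, hgμ⟩ := WfDvdMonoid.exists_irreducible_factor hμnu hμ0
  have h1 := natDegree_ge_of_irreducible_factor hF hr hi g hg (hgμ.trans hμdvd) (hkey g hg hgμ)
  obtain ⟨h, hh⟩ := hgμ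
  have hh0 : h ≠ 0 := by
    rintro rfl
    rw [mul_zero] at hh
    exact hμ0 hh
  have h2 : μ.natDegree = g.natDegree + h.natDegree := by
    rw [hh, natDegree_mul hg.ne_zero hh0]
  have h3 : h.natDegree = 0 := by omega
  have hhu : IsUnit h := by
    obtain ⟨c, hc⟩ := natDegree_eq_zero.1 h3
    rw [← hc]
    apply isUnit_C.2
    apply IsUnit.mk0
    rintro rfl
    rw [map_zero] at hc
    exact hh0 hc.symm
  constructor
  · rw [hh]
    exact (irreducible_mul_isUnit hhu).2 hg
  · omega

/-- If an element x of GL_n(q), n ≥ 1, has prime order r and the multiplicative order of q modulo r is n (r is a primitive prime divisor of q^n − 1, so x acts irreducibly), then the centraliser of x in GL_n(q) is cyclic of order q^n − 1 (the multiplicative group of the field with q^n elements, a Singer cycle). -/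
theorem result {F : Type*} [Field F] [Fintype F] {p q : ℕ} [Fact p.Prime] [CharP F p] (hF : Fintype.card F = q) {n r : ℕ} (hn : 1 ≤ n) (hr : r.Prime) (hrp : r ≠ p) (hi : orderOf (q : ZMod r) = n) (x : GL (Fin n) F) (hx : orderOf x = r) : IsCyclic ↥(Subgroup.centralizer ({x} : Set (GL (Fin n) F))) ∧ Nat.card ↥(Subgroup.centralizer ({x} : Set (GL (Fin n) F))) = q ^ n - 1 := by
  classical
  have hp : p.Prime := Fact.out
  haveI : Nonempty (Fin n) := ⟨⟨0, hn⟩⟩
  obtain ⟨M, hMdef⟩ : ∃ M : Matrix (Fin n) (Fin n) F, M = (x : Matrix (Fin n) (Fin n) F) :=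
    ⟨_, rfl⟩
  have hMr : M ^ r = 1 := by
    rw [hMdef, ← Units.val_pow_eq_pow_val, ← hx, pow_orderOf_eq_one]
    rfl
  have hM1 : M ≠ 1 := by
    intro h
    have h1 : x = 1 := Units.ext (hMdef ▸ h)
    rw [h1, orderOf_one] at hx
    exact hr.ne_one hx.symm
  obtain ⟨hirr, hdeg⟩ := minpoly_irreducible_of_order hF hn hr hrp hi M hMr hM1
  obtain ⟨μ, hμ⟩ : ∃ μ, μ = minpoly F M := ⟨_, rfl⟩
  rw [← hμ] at hirr hdeg
  haveI : Fact (Irreducible μ) := ⟨hirr⟩
  have hfin : Module.Finite F (AdjoinRoot μ) := (AdjoinRoot.powerBasis hirr.ne_zero).finite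
  haveI : Finite (AdjoinRoot μ) := Module.finite_of_finite F
  haveI : Fintype (AdjoinRoot μ) := Fintype.ofFinite _
  have hrank : Module.finrank F (AdjoinRoot μ) = n := by
    rw [(AdjoinRoot.powerBasis hirr.ne_zero).finrank, AdjoinRoot.powerBasis_dim, hdeg]
  have hcardA : Fintype.card (AdjoinRoot μ) = q ^ n := by
    rw [Module.card_eq_pow_finrank (K := F), hF, hrank]
  -- the evaluation homomorphism
  let Ψ : AdjoinRoot μ →ₐ[F] Matrix (Fin n) (Fin n) F :=
    Ideal.Quotient.liftₐ (Ideal.span {μ}) (Polynomial.aeval M) (by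
      intro a ha
      obtain ⟨b, rfl⟩ := Ideal.mem_span_singleton.1 ha
      rw [map_mul, hμ, minpoly.aeval, zero_mul])
  have hΨmk : ∀ s : Polynomial F, Ψ (AdjoinRoot.mk μ s) = Polynomial.aeval M s := fun s => rfl
  have hΨroot : Ψ (AdjoinRoot.root μ) = M := by
    rw [← AdjoinRoot.mk_X, hΨmk, Polynomial.aeval_X]
  have hΨinj : Function.Injective Ψ := RingHom.injective Ψ.toRingHom
  -- a cyclic vector
  obtain ⟨v, hv⟩ : ∃ v : Fin n → F, v ≠ 0 := by
    refine ⟨Pi.single ⟨0, hn⟩ 1, ?_⟩
    intro h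
    have := congrFun h ⟨0, hn⟩
    simp at this
  let ev : AdjoinRoot μ →ₗ[F] (Fin n → F) :=
    { toFun := fun a => (Ψ a).mulVec v
      map_add' := fun a b => by rw [map_add, Matrix.add_mulVec]
      map_smul' := fun c a => by rw [map_smul, Matrix.smul_mulVec, RingHom.id_apply] }
  have hev : ∀ a, ev a = (Ψ a).mulVec v := fun a => rfl
  have hevinj : Function.Injective ev := by
    rw [← LinearMap.ker_eq_bot, LinearMap.ker_eq_bot']
    intro a ha
    by_contra ha0
    apply hv
    have h1 : (Ψ a⁻¹ * Ψ a).mulVec v = v := by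
      rw [← map_mul, inv_mul_cancel₀ ha0, map_one, Matrix.one_mulVec]
    rw [← h1, ← Matrix.mulVec_mulVec, ← hev a, ha, Matrix.mulVec_zero]
  have hevsurj : Function.Surjective ev :=
    (LinearMap.injective_iff_surjective_of_finrank_eq_finrank
      (by rw [hrank, Module.finrank_fin_fun])).1 hevinj
  -- the centralizer
  have hcent : ∀ N : Matrix (Fin n) (Fin n) F, N * M = M * N → ∃ a, Ψ a = N := by
    intro N hN
    obtain ⟨a₀, ha₀⟩ := hevsurj (N.mulVec v)
    refine ⟨a₀, ?_⟩
    have hcomm : ∀ a, N * Ψ a = Ψ a * N := by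
      intro a
      obtain ⟨s, rfl⟩ := AdjoinRoot.mk_surjective a
      rw [hΨmk]
      have hNM : Commute N M := hN
      exact (Algebra.commute_of_mem_adjoin_singleton_of_commute
        (Polynomial.aeval_mem_adjoin_singleton F M) hNM).eq
    apply Matrix.toLin'.injective
    apply LinearMap.ext
    intro w
    obtain ⟨a, rfl⟩ := hevsurj w
    rw [Matrix.toLin'_apply, Matrix.toLin'_apply, hev, Matrix.mulVec_mulVec, Matrix.mulVec_mulVec,
      ← map_mul, mul_comm, map_mul, ← Matrix.mulVec_mulVec, ← hev a₀, ha₀, Matrix.mulVec_mulVec,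
      hcomm]
  let ψ : (AdjoinRoot μ)ˣ →* GL (Fin n) F :=
    Units.map (Ψ : AdjoinRoot μ →* Matrix (Fin n) (Fin n) F)
  have hψ : ∀ u : (AdjoinRoot μ)ˣ, ((ψ u : GL (Fin n) F) : Matrix (Fin n) (Fin n) F) = Ψ u :=
    fun u => rfl
  have hψinj : Function.Injective ψ := Units.map_injective hΨinj
  have hrange : Subgroup.centralizer ({x} : Set (GL (Fin n) F)) = ψ.range := by
    ext g
    rw [Subgroup.mem_centralizer_singleton_iff]
    constructor
    · intro hg
      have hN : (g : Matrix (Fin n) (Fin n) F) * M = M * (g : Matrix (Fin n) (Fin n) F) := by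
        rw [hMdef, ← Units.val_mul, ← Units.val_mul, hg]
      obtain ⟨a, ha⟩ := hcent _ hN
      have ha0 : a ≠ 0 := by
        rintro rfl
        rw [map_zero] at ha
        exact g.ne_zero ha.symm
      exact ⟨Units.mk0 a ha0, Units.ext ha⟩
    · rintro ⟨u, rfl⟩
      apply Units.ext
      rw [Units.val_mul, Units.val_mul, hψ, ← hMdef, ← hΨroot, ← map_mul, ← map_mul, mul_comm]
  constructor
  · rw [hrange]
    exact isCyclic_of_surjective ψ.rangeRestrict ψ.rangeRestrict_surjective
  · rw [hrange, ← Nat.card_congr (MonoidHom.ofInjective hψinj).toEquiv, Nat.card_units,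
      Nat.card_eq_fintype_card, hcardA]

end Cfsg.Agent.S2638
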