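import Mathlib
import Cfsg.Statements.S2639
import Cfsg.Agent.Lib.Helper17.QuadExt
import Cfsg.Agent.Lib.Helper17.ScalarRestrictHom

set_option autoImplicit false
open Cfsg

namespace Cfsg.Agent.S2639

/-- The unitary group embeds in the symplectic group of twice the dimension over the subfield: for a field K with q² elements and a field F with q elements (isomorphic to the subfield of K of order q), there is an injective homomorphism GU_m(q) → Sp_2m(F). -/
theorem result {K F : Type*} [Field K] [Fintype K] [Field F] [Fintype F] {q : ℕ} (hK : Fintype.card K = q ^ 2) (hF : Fintype.card F = q) (m : ℕ) : ∃ φ : ↥(Cfsg.GU m K q) →* ↥(Matrix.symplecticGroup (Fin m) F), Function.Injective φ := by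
  classical
  obtain ⟨emb, σ, hσ, hσσ, hσemb, hfix, θ, hθ⟩ := Helper17.exists_quadExt_data hK hF
  letI : Algebra F K := emb.toAlgebra
  have halg : ∀ (c : F) (x : K), c • x = emb c * x := fun c x => rfl
  -- the skew element
  obtain ⟨lam, hlam⟩ : ∃ lam : K, lam = θ - σ θ := ⟨_, rfl⟩
  have hlam0 : lam ≠ 0 := by rw [hlam]; exact sub_ne_zero.2 (Ne.symm hθ)
  have hσlam : σ lam = -lam := by rw [hlam, map_sub, hσσ]; ring
  obtain ⟨fe, hfe⟩ : ∃ fe : K, fe = -θ / lam ^ 2 := ⟨_, rfl⟩
  have hfe1 : lam * (σ fe - fe) = 1 := by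
    have h1 : σ fe = -σ θ / lam ^ 2 := by
      rw [hfe, map_div₀, map_neg, map_pow, hσlam]; congr 1; ring
    rw [h1, hfe]
    field_simp
    rw [hlam]; ring
  have hind : ∀ a b : F, emb a + emb b * fe = 0 → a = 0 ∧ b = 0 := by
    intro a b h
    by_cases hb : b = 0
    · subst hb
      rw [map_zero, zero_mul, add_zero] at h
      exact ⟨emb.injective (by rw [h, map_zero]), rfl⟩
    · exfalso
      have hb' : emb b ≠ 0 := fun h0 => hb (emb.injective (by rw [h0, map_zero]))
      have h1 : fe = emb (-a / b) := by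
        rw [map_div₀, map_neg]
        field_simp
        linear_combination h
      have h2 : σ fe = fe := by rw [h1, hσemb]
      rw [h2, sub_self, mul_zero] at hfe1
      exact zero_ne_one hfe1
  -- the linear map
  let Ψ₀ : (Fin m ⊕ Fin m → F) →ₗ[F] (Fin m → K) :=
    { toFun := fun w i => emb (w (Sum.inl i)) + emb (w (Sum.inr i)) * fe
      map_add' := by
        intro w w'; funext i
        simp only [Pi.add_apply, map_add]; ring
      map_smul' := by
        intro c w; funext i
        simp only [Pi.smul_apply, smul_eq_mul, map_mul, RingHom.id_apply, halg]; ring }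
  have hΨ₀ : ∀ w i, Ψ₀ w i = emb (w (Sum.inl i)) + emb (w (Sum.inr i)) * fe := fun w i => rfl
  have hinj : Function.Injective Ψ₀ := by
    rw [← LinearMap.ker_eq_bot, LinearMap.ker_eq_bot']
    intro w hw
    funext x
    rcases x with i | i
    · exact (hind _ _ (by rw [← hΨ₀, hw]; rfl)).1
    · exact (hind _ _ (by rw [← hΨ₀, hw]; rfl)).2
  have hbij : Function.Bijective Ψ₀ := by
    apply Function.Injective.bijective_of_nat_card_le hinj
    rw [Nat.card_eq_fintype_card, Nat.card_eq_fintype_card, Fintype.card_fun, Fintype.card_fun,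
      Fintype.card_sum, Fintype.card_fin, hK, hF, ← pow_mul, two_mul]
  let Ψ : (Fin m ⊕ Fin m → F) ≃ₗ[F] (Fin m → K) := LinearEquiv.ofBijective Ψ₀ hbij
  have hΨ : ∀ w i, Ψ w i = emb (w (Sum.inl i)) + emb (w (Sum.inr i)) * fe := fun w i => rfl
  obtain ⟨T, hTinj, hT⟩ := Helper17.exists_hom_of_linearEquiv m Ψ
  -- the alternating form
  have hform : ∀ w w' : Fin m ⊕ Fin m → F,
      lam * (hermForm m K q (Ψ w) (Ψ w') - hermForm m K q (Ψ w') (Ψ w))
        = emb (-(w ⬝ᵥ (Matrix.J (Fin m) F).mulVec w')) := by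
    intro w w'
    have hJ : w ⬝ᵥ (Matrix.J (Fin m) F).mulVec w'
        = ∑ i, (w (Sum.inr i) * w' (Sum.inl i) - w (Sum.inl i) * w' (Sum.inr i)) := by
      rw [Matrix.J, Matrix.fromBlocks_mulVec]
      simp only [dotProduct, Fintype.sum_sum_type, Sum.elim_inl, Sum.elim_inr, Matrix.zero_mulVec,
        Matrix.neg_mulVec, Matrix.one_mulVec, zero_add, add_zero, Pi.neg_apply,
        Function.comp_apply, Finset.sum_sub_distrib]
      simp only [mul_neg, Finset.sum_neg_distrib]
      ring
    rw [hJ, hermForm, hermForm, ← Finset.sum_sub_distrib, Finset.mul_sum, ← Finset.sum_neg_distrib,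
      map_sum]
    apply Finset.sum_congr rfl
    intro i _
    rw [← hσ, ← hσ, hΨ, hΨ]
    simp only [map_add, map_mul, hσemb, map_sub, map_neg]
    linear_combination (emb (w (Sum.inl i)) * emb (w' (Sum.inr i))
      - emb (w' (Sum.inl i)) * emb (w (Sum.inr i))) * hfe1
  have hmem : ∀ g : ↥(Cfsg.GU m K q),
      T ((g : Matrix.GeneralLinearGroup (Fin m) K) : Matrix (Fin m) (Fin m) K)
        ∈ Matrix.symplecticGroup (Fin m) F := by
    intro g
    set A := T ((g : Matrix.GeneralLinearGroup (Fin m) K) : Matrix (Fin m) (Fin m) K) with hA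
    have hg := g.2
    have hpres : ∀ w w' : Fin m ⊕ Fin m → F,
        (A.mulVec w) ⬝ᵥ (Matrix.J (Fin m) F).mulVec (A.mulVec w')
          = w ⬝ᵥ (Matrix.J (Fin m) F).mulVec w' := by
      intro w w'
      have h1 := hform (A.mulVec w) (A.mulVec w')
      rw [hT, hT] at h1
      have h2 : ∀ u v : Fin m → K, hermForm m K q
          (((g : Matrix.GeneralLinearGroup (Fin m) K) : Matrix (Fin m) (Fin m) K).mulVec u)
          (((g : Matrix.GeneralLinearGroup (Fin m) K) : Matrix (Fin m) (Fin m) K).mulVec v)
          = hermForm m K q u v := fun u v => hg u v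
      rw [h2, h2, hform] at h1
      have h3 := emb.injective h1
      exact (neg_injective h3).symm
    have hAJ : A.transpose * Matrix.J (Fin m) F * A = Matrix.J (Fin m) F := by
      ext i j
      have := hpres (Pi.single i 1) (Pi.single j 1)
      rw [← Matrix.vecMul_transpose, ← Matrix.dotProduct_mulVec, Matrix.mulVec_mulVec,
        Matrix.mulVec_mulVec, Matrix.mulVec_single_one, Matrix.mulVec_single_one,
        single_one_dotProduct, single_one_dotProduct] at this
      simpa [Matrix.mul_assoc] using this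
    exact SymplecticGroup.mem_iff'.2 hAJ
  let φ₀ : ↥(Cfsg.GU m K q) →* Matrix (Fin m ⊕ Fin m) (Fin m ⊕ Fin m) F :=
    (T.comp (Units.coeHom _)).comp (Cfsg.GU m K q).subtype
  refine ⟨φ₀.codRestrict (Matrix.symplecticGroup (Fin m) F) hmem, ?_⟩
  intro g g' h
  have h1 : φ₀ g = φ₀ g' := congrArg Subtype.val h
  have h2 := hTinj h1
  exact Subtype.ext (Units.ext h2)

end Cfsg.Agent.S2639
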