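import Mathlib
import Cfsg.Statements.S2640
import Cfsg.Agent.Lib.Helper17.UnitaryOrthogonal

set_option autoImplicit false
open Cfsg

namespace Cfsg.Agent.S2640


theorem quadFormPlus_radical {F : Type*} [Field F] (m : ℕ) (w : Fin m ⊕ Fin m → F)
    (h : ∀ w', Cfsg.quadFormPlus m F (w + w') = Cfsg.quadFormPlus m F w') : w = 0 := by
  classical
  have h0 : Cfsg.quadFormPlus m F w = 0 := by
    have := h 0
    rw [add_zero] at this
    rw [this]
    simp [Cfsg.quadFormPlus]
  funext x
  rcases x with j | j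
  · have h1 := h (Pi.single (Sum.inr j) 1)
    have h2 : Cfsg.quadFormPlus m F (w + Pi.single (Sum.inr j) 1)
        = Cfsg.quadFormPlus m F w + w (Sum.inl j) := by
      simp only [Cfsg.quadFormPlus, Pi.add_apply, Pi.single_apply, Sum.inr.injEq, reduceCtorEq,
        if_false, add_zero, mul_add, Finset.sum_add_distrib, mul_ite, mul_one, mul_zero,
        Finset.sum_ite_eq', Finset.mem_univ, if_true]
    have h3 : Cfsg.quadFormPlus m F (Pi.single (Sum.inr j) 1 : Fin m ⊕ Fin m → F) = 0 := by
      simp [Cfsg.quadFormPlus]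
    rw [h2, h3, h0, zero_add] at h1
    exact h1
  · have h1 := h (Pi.single (Sum.inl j) 1)
    have h2 : Cfsg.quadFormPlus m F (w + Pi.single (Sum.inl j) 1)
        = Cfsg.quadFormPlus m F w + w (Sum.inr j) := by
      simp only [Cfsg.quadFormPlus, Pi.add_apply, Pi.single_apply, Sum.inl.injEq, reduceCtorEq,
        if_false, add_zero, add_mul, Finset.sum_add_distrib, ite_mul, one_mul, zero_mul,
        Finset.sum_ite_eq', Finset.mem_univ, if_true]
    have h3 : Cfsg.quadFormPlus m F (Pi.single (Sum.inl j) 1 : Fin m ⊕ Fin m → F) = 0 := by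
      simp [Cfsg.quadFormPlus]
    rw [h2, h3, h0, zero_add] at h1
    exact h1

/-- For m even, the unitary group GU_m(q) (over the field with q² elements) embeds in the orthogonal group O⁺_2m(q) of the hyperbolic form Σ x_i y_i over the field with q elements (there is an injective homomorphism). -/
theorem result {K F : Type*} [Field K] [Fintype K] [Field F] [Fintype F] {q : ℕ} (hK : Fintype.card K = q ^ 2) (hF : Fintype.card F = q) (m : ℕ) (hm : Even m) : ∃ φ : ↥(Cfsg.GU m K q) →* ↥(Cfsg.isometryGroup F (Cfsg.quadFormPlus m F)), Function.Injective φ := by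
  classical
  obtain ⟨r, rfl⟩ := hm
  obtain ⟨emb, σ, hσ, hσσ, hσemb, hfix, θ, hθ⟩ := Helper17.exists_quadExt_data hK hF
  letI : Algebra F K := emb.toAlgebra
  have halg : ∀ (c : F) (x : K), c • x = emb c * x := fun c x => rfl
  obtain ⟨ε, hε⟩ := Helper17.exists_norm_eq hK hF emb (-1)
  rw [← hσ, map_neg, map_one] at hε
  obtain ⟨ε', x₁, x₂, hε', h11, h12, h21, h22⟩ := Helper17.exists_hyp_data σ hσσ θ hθ ε hε
  let Ψ₀ : (Fin (r + r) ⊕ Fin (r + r) → F) →ₗ[F] (Fin (r + r) → K) :=
    { toFun := fun w => Fin.addCases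
        (fun i => (emb (w (Sum.inl (Fin.castAdd r i))) + emb (w (Sum.inl (Fin.natAdd r i))) * θ)
          + (emb (w (Sum.inr (Fin.castAdd r i))) * x₁ + emb (w (Sum.inr (Fin.natAdd r i))) * x₂))
        (fun i => ε * (emb (w (Sum.inl (Fin.castAdd r i))) + emb (w (Sum.inl (Fin.natAdd r i))) * θ)
          + ε' * (emb (w (Sum.inr (Fin.castAdd r i))) * x₁
            + emb (w (Sum.inr (Fin.natAdd r i))) * x₂))
      map_add' := by
        intro w w'; funext j
        refine Fin.addCases ?_ ?_ j
        · intro i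
          simp only [Pi.add_apply, map_add, Fin.addCases_left]; ring
        · intro i
          simp only [Pi.add_apply, map_add, Fin.addCases_right]; ring
      map_smul' := by
        intro c w; funext j
        refine Fin.addCases ?_ ?_ j
        · intro i
          simp only [Pi.smul_apply, smul_eq_mul, map_mul, RingHom.id_apply, halg,
            Fin.addCases_left]; ring
        · intro i
          simp only [Pi.smul_apply, smul_eq_mul, map_mul, RingHom.id_apply, halg,
            Fin.addCases_right]; ring }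
  have hΨl : ∀ w i, Ψ₀ w (Fin.castAdd r i) =
      (emb (w (Sum.inl (Fin.castAdd r i))) + emb (w (Sum.inl (Fin.natAdd r i))) * θ)
          + (emb (w (Sum.inr (Fin.castAdd r i))) * x₁ + emb (w (Sum.inr (Fin.natAdd r i))) * x₂) :=
    fun w i => by
      simp only [Ψ₀, LinearMap.coe_mk, AddHom.coe_mk, Fin.addCases_left]
  have hΨr : ∀ w i, Ψ₀ w (Fin.natAdd r i) =
      ε * (emb (w (Sum.inl (Fin.castAdd r i))) + emb (w (Sum.inl (Fin.natAdd r i))) * θ)
          + ε' * (emb (w (Sum.inr (Fin.castAdd r i))) * x₁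
            + emb (w (Sum.inr (Fin.natAdd r i))) * x₂) :=
    fun w i => by
      simp only [Ψ₀, LinearMap.coe_mk, AddHom.coe_mk, Fin.addCases_right]
  refine Helper17.exists_hom_isometryGroup hK hF (r + r)
    (by rw [Fintype.card_sum, Fintype.card_fin, two_mul])
    (Cfsg.quadFormPlus (r + r) F) (quadFormPlus_radical (r + r)) Ψ₀ ?_
  intro w
  show hermForm (r + r) K q (Ψ₀ w) (Ψ₀ w) = emb (Cfsg.quadFormPlus (r + r) F w)
  rw [hermForm, Cfsg.quadFormPlus, Fin.sum_univ_add, Fin.sum_univ_add, ← Finset.sum_add_distrib,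
    ← Finset.sum_add_distrib, map_sum]
  apply Finset.sum_congr rfl
  intro i _
  rw [← hσ, ← hσ, hΨl, hΨr]
  simp only [map_add, map_mul, hσemb]
  linear_combination
    (emb (w (Sum.inl (Fin.castAdd r i))) + emb (w (Sum.inl (Fin.natAdd r i))) * θ)
      * (emb (w (Sum.inl (Fin.castAdd r i))) + emb (w (Sum.inl (Fin.natAdd r i))) * σ θ) * hε
    + (emb (w (Sum.inr (Fin.castAdd r i))) * x₁ + emb (w (Sum.inr (Fin.natAdd r i))) * x₂)
      * (emb (w (Sum.inr (Fin.castAdd r i))) * σ x₁ + emb (w (Sum.inr (Fin.natAdd r i))) * σ x₂)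
      * hε'
    + emb (w (Sum.inl (Fin.castAdd r i))) * emb (w (Sum.inr (Fin.castAdd r i))) * h11
    + emb (w (Sum.inl (Fin.castAdd r i))) * emb (w (Sum.inr (Fin.natAdd r i))) * h21
    + emb (w (Sum.inl (Fin.natAdd r i))) * emb (w (Sum.inr (Fin.castAdd r i))) * h12
    + emb (w (Sum.inl (Fin.natAdd r i))) * emb (w (Sum.inr (Fin.natAdd r i))) * h22

end Cfsg.Agent.S2640
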