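import Mathlib
import Cfsg.Statements.S2641
import Cfsg.Agent.Lib.Helper17.UnitaryOrthogonal
import Cfsg.Agent.Lib.Helper17.QuadRoot

set_option autoImplicit false
open Cfsg

namespace Cfsg.Agent.S2641


theorem quadFormMinus_radical {F : Type*} [Field F] (m : ℕ) (a b : F)
    (hab : ∀ z₁ z₂ : F, z₁ ^ 2 + a * z₁ * z₂ + b * z₂ ^ 2 = 0 → z₁ = 0 ∧ z₂ = 0)
    (w : (Fin m ⊕ Fin m) ⊕ Fin 2 → F)
    (h : ∀ w', Cfsg.quadFormMinus m F a b (w + w') = Cfsg.quadFormMinus m F a b w') : w = 0 := by
  classical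
  have h0 : Cfsg.quadFormMinus m F a b w = 0 := by
    have := h 0
    rw [add_zero] at this
    rw [this]
    simp [Cfsg.quadFormMinus]
  have hl : ∀ j, w (Sum.inl (Sum.inl j)) = 0 := by
    intro j
    have h1 := h (Pi.single (Sum.inl (Sum.inr j)) 1)
    have h2 : Cfsg.quadFormMinus m F a b (w + Pi.single (Sum.inl (Sum.inr j)) 1)
        = Cfsg.quadFormMinus m F a b w + w (Sum.inl (Sum.inl j)) := by
      simp only [Cfsg.quadFormMinus, Pi.add_apply, Pi.single_apply, Sum.inl.injEq, Sum.inr.injEq,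
        reduceCtorEq, if_false, add_zero, mul_add, Finset.sum_add_distrib, mul_ite, mul_one,
        mul_zero, Finset.sum_ite_eq', Finset.mem_univ, if_true]
      ring
    have h3 : Cfsg.quadFormMinus m F a b
        (Pi.single (Sum.inl (Sum.inr j)) 1 : (Fin m ⊕ Fin m) ⊕ Fin 2 → F) = 0 := by
      simp [Cfsg.quadFormMinus]
    rw [h2, h3, h0, zero_add] at h1
    exact h1
  have hr : ∀ j, w (Sum.inl (Sum.inr j)) = 0 := by
    intro j
    have h1 := h (Pi.single (Sum.inl (Sum.inl j)) 1)
    have h2 : Cfsg.quadFormMinus m F a b (w + Pi.single (Sum.inl (Sum.inl j)) 1)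
        = Cfsg.quadFormMinus m F a b w + w (Sum.inl (Sum.inr j)) := by
      simp only [Cfsg.quadFormMinus, Pi.add_apply, Pi.single_apply, Sum.inl.injEq, Sum.inr.injEq,
        reduceCtorEq, if_false, add_zero, add_mul, Finset.sum_add_distrib, ite_mul, one_mul,
        zero_mul, Finset.sum_ite_eq', Finset.mem_univ, if_true]
      ring
    have h3 : Cfsg.quadFormMinus m F a b
        (Pi.single (Sum.inl (Sum.inl j)) 1 : (Fin m ⊕ Fin m) ⊕ Fin 2 → F) = 0 := by
      simp [Cfsg.quadFormMinus]
    rw [h2, h3, h0, zero_add] at h1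
    exact h1
  have hz : w (Sum.inr 0) = 0 ∧ w (Sum.inr 1) = 0 := by
    apply hab
    have hsum : ∑ i : Fin m, w (Sum.inl (Sum.inl i)) * w (Sum.inl (Sum.inr i)) = 0 :=
      Finset.sum_eq_zero (fun i _ => by rw [hl, zero_mul])
    rw [Cfsg.quadFormMinus, hsum, zero_add] at h0
    exact h0
  funext x
  rcases x with (j | j) | k
  · exact hl j
  · exact hr j
  · fin_cases k
    · exact hz.1
    · exact hz.2

/-- For m odd, the unitary group GU_m(q) (over the field with q² elements) embeds in the orthogonal group O⁻_2m(q) of an elliptic form (Σ_(i<m−1) x_i y_i plus an anisotropic binary form) over the field with q elements (there is an injective homomorphism). -/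
theorem result {K F : Type*} [Field K] [Fintype K] [Field F] [Fintype F] {q : ℕ} (hK : Fintype.card K = q ^ 2) (hF : Fintype.card F = q) (m : ℕ) (hm : Odd m) (a b : F) (hab : ∀ z₁ z₂ : F, z₁ ^ 2 + a * z₁ * z₂ + b * z₂ ^ 2 = 0 → z₁ = 0 ∧ z₂ = 0) : ∃ φ : ↥(Cfsg.GU m K q) →* ↥(Cfsg.isometryGroup F (Cfsg.quadFormMinus (m - 1) F a b)), Function.Injective φ := by
  classical
  obtain ⟨r, rfl⟩ : ∃ r, m = r + r + 1 := by
    obtain ⟨r, rfl⟩ := hm
    exact ⟨r, by ring⟩
  show ∃ φ : ↥(Cfsg.GU (r + r + 1) K q) →*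
    ↥(Cfsg.isometryGroup F (Cfsg.quadFormMinus (r + r) F a b)), Function.Injective φ
  obtain ⟨emb, σ, hσ, hσσ, hσemb, hfix, θ₀, hθ₀⟩ := Helper17.exists_quadExt_data hK hF
  letI : Algebra F K := emb.toAlgebra
  have halg : ∀ (c : F) (x : K), c • x = emb c * x := fun c x => rfl
  -- a root of the binary form
  have hab' : ∀ z : F, z ^ 2 + a * z + b ≠ 0 := by
    intro z hz
    have := (hab z 1 (by rw [← hz]; ring)).2
    exact one_ne_zero this
  obtain ⟨θ, hroot⟩ := Helper17.exists_root_quadratic hK hF emb a b hab'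
  have hθ : σ θ ≠ θ := by
    intro h
    obtain ⟨z, hz⟩ := hfix θ h
    apply hab' z
    apply emb.injective
    rw [map_add, map_add, map_pow, map_mul, hz, hroot, map_zero]
  have hroot' : (σ θ) ^ 2 + emb a * σ θ + emb b = 0 := by
    have := congrArg σ hroot
    rwa [map_add, map_add, map_pow, map_mul, hσemb, hσemb, map_zero] at this
  have htr : θ + σ θ = -emb a := by
    have h1 : (θ - σ θ) * (θ + σ θ + emb a) = 0 := by linear_combination hroot - hroot'
    rcases mul_eq_zero.1 h1 with h2 | h2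
    · exact absurd (sub_eq_zero.1 h2).symm hθ
    · linear_combination h2
  have hnorm : θ * σ θ = emb b := by linear_combination θ * htr - hroot
  obtain ⟨ε, hε⟩ := Helper17.exists_norm_eq hK hF emb (-1)
  rw [← hσ, map_neg, map_one] at hε
  obtain ⟨ε', x₁, x₂, hε', h11, h12, h21, h22⟩ := Helper17.exists_hyp_data σ hσσ θ hθ ε hε
  let Ψ₀ : ((Fin (r + r) ⊕ Fin (r + r)) ⊕ Fin 2 → F) →ₗ[F] (Fin (r + r + 1) → K) :=
    { toFun := fun w => Fin.lastCases
        (emb (w (Sum.inr 0)) - θ * emb (w (Sum.inr 1)))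
        (fun j => Fin.addCases
        (fun i => (emb (w (Sum.inl (Sum.inl (Fin.castAdd r i))))
            + emb (w (Sum.inl (Sum.inl (Fin.natAdd r i)))) * θ)
          + (emb (w (Sum.inl (Sum.inr (Fin.castAdd r i)))) * x₁
            + emb (w (Sum.inl (Sum.inr (Fin.natAdd r i)))) * x₂))
        (fun i => ε * (emb (w (Sum.inl (Sum.inl (Fin.castAdd r i))))
            + emb (w (Sum.inl (Sum.inl (Fin.natAdd r i)))) * θ)
          + ε' * (emb (w (Sum.inl (Sum.inr (Fin.castAdd r i)))) * x₁
            + emb (w (Sum.inl (Sum.inr (Fin.natAdd r i)))) * x₂)) j)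
      map_add' := by
        intro w w'; funext j
        refine Fin.lastCases ?_ ?_ j
        · simp only [Pi.add_apply, map_add, Fin.lastCases_last]; ring
        · intro j
          refine Fin.addCases ?_ ?_ j
          · intro i
            simp only [Pi.add_apply, map_add, Fin.lastCases_castSucc, Fin.addCases_left]; ring
          · intro i
            simp only [Pi.add_apply, map_add, Fin.lastCases_castSucc, Fin.addCases_right]; ring
      map_smul' := by
        intro c w; funext j
        refine Fin.lastCases ?_ ?_ j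
        · simp only [Pi.smul_apply, smul_eq_mul, map_mul, RingHom.id_apply, halg,
            Fin.lastCases_last]; ring
        · intro j
          refine Fin.addCases ?_ ?_ j
          · intro i
            simp only [Pi.smul_apply, smul_eq_mul, map_mul, RingHom.id_apply, halg,
              Fin.lastCases_castSucc, Fin.addCases_left]; ring
          · intro i
            simp only [Pi.smul_apply, smul_eq_mul, map_mul, RingHom.id_apply, halg,
              Fin.lastCases_castSucc, Fin.addCases_right]; ring }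
  have hΨlast : ∀ w, Ψ₀ w (Fin.last (r + r)) = emb (w (Sum.inr 0)) - θ * emb (w (Sum.inr 1)) :=
    fun w => by
      simp only [Ψ₀, LinearMap.coe_mk, AddHom.coe_mk, Fin.lastCases_last]
  have hΨl : ∀ w i, Ψ₀ w (Fin.castSucc (Fin.castAdd r i)) =
      (emb (w (Sum.inl (Sum.inl (Fin.castAdd r i))))
            + emb (w (Sum.inl (Sum.inl (Fin.natAdd r i)))) * θ)
          + (emb (w (Sum.inl (Sum.inr (Fin.castAdd r i)))) * x₁
            + emb (w (Sum.inl (Sum.inr (Fin.natAdd r i)))) * x₂) :=
    fun w i => by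
      simp only [Ψ₀, LinearMap.coe_mk, AddHom.coe_mk, Fin.lastCases_castSucc, Fin.addCases_left]
  have hΨr : ∀ w i, Ψ₀ w (Fin.castSucc (Fin.natAdd r i)) =
      ε * (emb (w (Sum.inl (Sum.inl (Fin.castAdd r i))))
            + emb (w (Sum.inl (Sum.inl (Fin.natAdd r i)))) * θ)
          + ε' * (emb (w (Sum.inl (Sum.inr (Fin.castAdd r i)))) * x₁
            + emb (w (Sum.inl (Sum.inr (Fin.natAdd r i)))) * x₂) :=
    fun w i => by
      simp only [Ψ₀, LinearMap.coe_mk, AddHom.coe_mk, Fin.lastCases_castSucc, Fin.addCases_right]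
  refine Helper17.exists_hom_isometryGroup hK hF (r + r + 1)
    (by simp only [Fintype.card_sum, Fintype.card_fin]; ring)
    (Cfsg.quadFormMinus (r + r) F a b) (quadFormMinus_radical (r + r) a b hab) Ψ₀ ?_
  intro w
  show hermForm (r + r + 1) K q (Ψ₀ w) (Ψ₀ w) = emb (Cfsg.quadFormMinus (r + r) F a b w)
  rw [hermForm, Cfsg.quadFormMinus, Fin.sum_univ_castSucc, Fin.sum_univ_add, Fin.sum_univ_add,
    ← Finset.sum_add_distrib, ← Finset.sum_add_distrib, map_add, map_sum]
  congr 1
  · apply Finset.sum_congr rfl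
    intro i _
    rw [← hσ, ← hσ, hΨl, hΨr]
    simp only [map_add, map_mul, hσemb]
    linear_combination
      (emb (w (Sum.inl (Sum.inl (Fin.castAdd r i))))
          + emb (w (Sum.inl (Sum.inl (Fin.natAdd r i)))) * θ)
        * (emb (w (Sum.inl (Sum.inl (Fin.castAdd r i))))
          + emb (w (Sum.inl (Sum.inl (Fin.natAdd r i)))) * σ θ) * hε
      + (emb (w (Sum.inl (Sum.inr (Fin.castAdd r i)))) * x₁
          + emb (w (Sum.inl (Sum.inr (Fin.natAdd r i)))) * x₂)
        * (emb (w (Sum.inl (Sum.inr (Fin.castAdd r i)))) * σ x₁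
          + emb (w (Sum.inl (Sum.inr (Fin.natAdd r i)))) * σ x₂) * hε'
      + emb (w (Sum.inl (Sum.inl (Fin.castAdd r i))))
        * emb (w (Sum.inl (Sum.inr (Fin.castAdd r i)))) * h11
      + emb (w (Sum.inl (Sum.inl (Fin.castAdd r i))))
        * emb (w (Sum.inl (Sum.inr (Fin.natAdd r i)))) * h21
      + emb (w (Sum.inl (Sum.inl (Fin.natAdd r i))))
        * emb (w (Sum.inl (Sum.inr (Fin.castAdd r i)))) * h12
      + emb (w (Sum.inl (Sum.inl (Fin.natAdd r i))))
        * emb (w (Sum.inl (Sum.inr (Fin.natAdd r i)))) * h22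
  · rw [← hσ, hΨlast]
    simp only [map_add, map_mul, map_sub, map_pow, hσemb]
    linear_combination (-(emb (w (Sum.inr 0)) * emb (w (Sum.inr 1)))) * htr
      + (emb (w (Sum.inr 1))) ^ 2 * hnorm

end Cfsg.Agent.S2641
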