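import Mathlib
import Cfsg.Statements.S2642
import Cfsg.Agent.Lib.Helper13.UnipotentUnitary
import Cfsg.Agent.S2570

set_option autoImplicit false
open Cfsg

namespace Cfsg.Agent.S2642

open Cfsg.Agent.Helper13.Nilp Cfsg.Agent.Helper13.UniU Cfsg.Agent.S2570

section
variable {K : Type*} [Field K] [Fintype K] {p q n : ℕ} [Fact p.Prime] [CharP K p]

theorem exists_urep (hK : Fintype.card K = q ^ 2) (μ : Nat.Partition n) :
    ∃ B : ↥(Cfsg.GU n K q), IsConj (rep K μ) (B : GL (Fin n) K) := by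
  obtain ⟨cb, hcb⟩ := rep_spec (F := K) μ
  apply exists_unitary_conj_of_unipotent hK
  refine ⟨n, ?_⟩
  rw [nilMat_pow_eq_zero_iff _ cb]
  intro a ha
  have h1 : a ≤ cb.type.sum := Multiset.le_sum_of_mem ha
  rwa [type_sum_gl] at h1

/-- a unitary representative of the Jordan type `μ` -/
noncomputable def urep (hK : Fintype.card K = q ^ 2) (μ : Nat.Partition n) : ↥(Cfsg.GU n K q) :=
  (exists_urep hK μ).choose

theorem urep_spec (hK : Fintype.card K = q ^ 2) (μ : Nat.Partition n) :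
    IsConj (rep K μ) (urep hK μ : GL (Fin n) K) := (exists_urep hK μ).choose_spec

end

/-- Number of conjugacy classes of elements of order p in the general unitary group GU_n(q), q a power of p: every unipotent Jordan type occurs and the classes correspond to the partitions of n with all parts at most p other than the all-ones partition, exactly as in GL_n; so there are (number of partitions of n with parts ≤ p) − 1 classes. -/
theorem result {K : Type*} [Field K] [Fintype K] {p q n : ℕ} [Fact p.Prime] [CharP K p] (hK : Fintype.card K = q ^ 2) : Nat.card {C : ConjClasses ↥(Cfsg.GU n K q) // ∃ g : ↥(Cfsg.GU n K q), ConjClasses.mk g = C ∧ orderOf g = p} = (Finset.univ.filter (fun μ : Nat.Partition n => ∀ a ∈ μ.parts, a ≤ p)).card - 1 := by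
  classical
  have hp : p.Prime := Fact.out
  rw [← count_eq n p hp.one_lt.le]
  symm
  have hord : ∀ μ : Nat.Partition n, (∀ a ∈ μ.parts, a ≤ p) ∧ ¬ (∀ a ∈ μ.parts, a ≤ 1) →
      orderOf (urep hK μ) = p := by
    intro μ hμ
    obtain ⟨cb, hcb⟩ := rep_spec (F := K) μ
    have h1 : orderOf (rep K μ) = p := by
      rw [orderOf_eq_iff _ cb, hcb]
      exact hμ
    rw [← Subgroup.orderOf_coe, ← h1]
    obtain ⟨y, hy⟩ := urep_spec hK μ
    exact (SemiconjBy.orderOf_eq _ hy).symm
  let Θ : {μ : Nat.Partition n // (∀ a ∈ μ.parts, a ≤ p) ∧ ¬ (∀ a ∈ μ.parts, a ≤ 1)} →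
      {C : ConjClasses ↥(Cfsg.GU n K q) //
        ∃ g : ↥(Cfsg.GU n K q), ConjClasses.mk g = C ∧ orderOf g = p} :=
    fun μ => ⟨ConjClasses.mk (urep hK μ.1), urep hK μ.1, rfl, hord μ.1 μ.2⟩
  apply Nat.card_eq_of_bijective Θ
  constructor
  · intro μ μ' h
    have h1 : ConjClasses.mk (urep hK μ.1) = ConjClasses.mk (urep hK μ'.1) :=
      congrArg Subtype.val h
    rw [ConjClasses.mk_eq_mk_iff_isConj] at h1
    have h2 : IsConj (urep hK μ.1 : GL (Fin n) K) (urep hK μ'.1 : GL (Fin n) K) :=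
      (Cfsg.Agent.S2587.result hK _ _).1 h1
    have h3 : IsConj (rep K μ.1) (rep K μ'.1) :=
      ((urep_spec hK μ.1).trans h2).trans (urep_spec hK μ'.1).symm
    exact Subtype.ext (rep_injective h3)
  · rintro ⟨C, g, rfl, hg⟩
    have hg' : orderOf (g : GL (Fin n) K) = p := by rw [Subgroup.orderOf_coe, hg]
    have hnil : IsNilpotent (nilOf (g : GL (Fin n) K)) := by
      refine ⟨p, ?_⟩
      rw [nilOf_pow_eq_zero_iff, ← pow_p_eq_one_iff, ← hg', pow_orderOf_eq_one]
    obtain ⟨cb⟩ := exists_chainBasis (nilOf (g : GL (Fin n) K)) hnil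
    let μ : Nat.Partition n := ⟨cb.type, fun {i} hi => cb.type_pos i hi, type_sum_gl _ cb⟩
    have hμ : (∀ a ∈ μ.parts, a ≤ p) ∧ ¬ (∀ a ∈ μ.parts, a ≤ 1) :=
      (orderOf_eq_iff (g : GL (Fin n) K) cb).1 hg'
    refine ⟨⟨μ, hμ⟩, ?_⟩
    apply Subtype.ext
    show ConjClasses.mk (urep hK μ) = ConjClasses.mk g
    rw [ConjClasses.mk_eq_mk_iff_isConj, Cfsg.Agent.S2587.result hK]
    obtain ⟨cb', hcb'⟩ := rep_spec (F := K) μ
    exact (urep_spec hK μ).symm.trans (isConj_of_type_eq cb' cb hcb')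

end Cfsg.Agent.S2642
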