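import Mathlib
import Cfsg.Statements.S2643
import Cfsg.Agent.Lib.Helper13.UnipotentUnitary
import Cfsg.Agent.S2578
import Cfsg.Agent.S2672

set_option autoImplicit false
set_option linter.style.haveILetI false
open Cfsg

namespace Cfsg.Agent.S2643

open Matrix Cfsg.Agent.Helper13 Cfsg.Agent.S2578 Cfsg.Agent.Helper13.Uni
  Cfsg.Agent.Helper13.UniU Cfsg.Agent.Helper13.Nilp Cfsg.Agent.S2672 Cfsg.Agent.Helper11.Herm

section basic
variable {K : Type*} [Field K] {q n : ℕ}

/-- an element of `GU` of determinant one as an element of `SU` -/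
def suOf (x : ↥(Cfsg.GU n K q))
    (hx : ((x : GL (Fin n) K) : Matrix (Fin n) (Fin n) K).det = 1) : ↥(Cfsg.SU n K q) :=
  ⟨⟨((x : GL (Fin n) K) : Matrix (Fin n) (Fin n) K), hx⟩, fun u v => x.2 u v⟩

/-- the inclusion of `SU` into `GU` -/
def guHom : ↥(Cfsg.SU n K q) →* ↥(Cfsg.GU n K q) where
  toFun s := ⟨SpecialLinearGroup.toGL (s : SpecialLinearGroup (Fin n) K), fun u v => s.2 u v⟩
  map_one' := Subtype.ext (Units.ext rfl)
  map_mul' _ _ := Subtype.ext (Units.ext rfl)

theorem coe_guHom (s : ↥(Cfsg.SU n K q)) :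
    ((guHom s : GL (Fin n) K) : Matrix (Fin n) (Fin n) K) =
      ((s : SpecialLinearGroup (Fin n) K) : Matrix (Fin n) (Fin n) K) := rfl

theorem guHom_suOf (x : ↥(Cfsg.GU n K q))
    (hx : ((x : GL (Fin n) K) : Matrix (Fin n) (Fin n) K).det = 1) : guHom (suOf x hx) = x :=
  Subtype.ext (Units.ext rfl)

theorem guHom_injective : Function.Injective (guHom : ↥(Cfsg.SU n K q) → ↥(Cfsg.GU n K q)) := by
  intro a b h
  apply Subtype.ext
  apply Subtype.ext
  have h1 := congrArg (fun x : ↥(Cfsg.GU n K q) =>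
    ((x : GL (Fin n) K) : Matrix (Fin n) (Fin n) K)) h
  exact h1

/-- the determinant on `GU` -/
def detU : ↥(Cfsg.GU n K q) →* Kˣ :=
  (Matrix.GeneralLinearGroup.det).comp (Subgroup.subtype _)

theorem coe_detU (x : ↥(Cfsg.GU n K q)) :
    ((detU x : Kˣ) : K) = ((x : GL (Fin n) K) : Matrix (Fin n) (Fin n) K).det := rfl

theorem detU_guHom (s : ↥(Cfsg.SU n K q)) : detU (guHom s) = 1 := by
  apply Units.ext
  rw [coe_detU, coe_guHom]
  exact s.1.det_coe

theorem det_eq_one_of_detU {x : ↥(Cfsg.GU n K q)} (h : detU x = 1) :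
    ((x : GL (Fin n) K) : Matrix (Fin n) (Fin n) K).det = 1 := by
  rw [← coe_detU, h]
  rfl

theorem detU_conj (g U : ↥(Cfsg.GU n K q)) (hU : detU U = 1) : detU (g * U * g⁻¹) = 1 := by
  rw [map_mul, map_mul, map_inv, hU, mul_one, mul_inv_cancel]

end basic

section decomp
variable {F : Type*} [Field F] {n : ℕ}

open Polynomial Module LinearMap in
/-- a matrix commuting with a regular nilpotent matrix is a scalar plus a nilpotent matrix -/
theorem decomp_of_commute_regular_nilpotent (N C : Matrix (Fin n) (Fin n) F)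
    (hnil : N ^ n = 0) (hreg : N.rank = n - 1) (hn : 1 ≤ n) (hC : C * N = N * C) :
    ∃ (a : F) (M' : Matrix (Fin n) (Fin n) F), IsNilpotent M' ∧
      C = a • (1 : Matrix (Fin n) (Fin n) F) + M' := by
  obtain ⟨h1, h2⟩ := regular_data N hnil hreg hn
  have hpos : 0 < finrank F (Fin n → F) := by rw [Module.finrank_fin_fun]; omega
  obtain ⟨v, hv⟩ := exists_top_vector _ h1 h2 hpos
  have hcyc := cyclicSpan_eq_top_of_top_vector _ h1 h2 v hv
  have hcomm : Commute (Matrix.toLin' C) (Matrix.toLin' N) := by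
    show Matrix.toLin' C * Matrix.toLin' N = Matrix.toLin' N * Matrix.toLin' C
    rw [Module.End.mul_eq_comp, Module.End.mul_eq_comp, ← Matrix.toLin'_mul, ← Matrix.toLin'_mul, hC]
  obtain ⟨p, hp⟩ := exists_aeval_of_commute _ v hcyc _ hcomm
  have hCp : C = aeval N p := by
    apply Matrix.toLin'.injective
    rw [hp]
    exact (Polynomial.aeval_algHom_apply
      (Matrix.toLinAlgEquiv' : Matrix (Fin n) (Fin n) F ≃ₐ[F] _).toAlgHom N p)
  have hdecomp : aeval N p =
      (p.coeff 0) • (1 : Matrix (Fin n) (Fin n) F) + N * aeval N p.divX := by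
    conv_lhs => rw [← Polynomial.divX_mul_X_add p]
    rw [map_add, map_mul, aeval_X, aeval_C, Algebra.algebraMap_eq_smul_one, add_comm]
    congr 1
    exact ((Algebra.commute_of_mem_adjoin_self (aeval_mem_adjoin_singleton F N))).eq.symm
  have hNnil : IsNilpotent N := ⟨n, hnil⟩
  have hnil2 : IsNilpotent (N * aeval N p.divX) :=
    Commute.isNilpotent_mul_right
      (Algebra.commute_of_mem_adjoin_self (aeval_mem_adjoin_singleton F N)) hNnil
  exact ⟨p.coeff 0, N * aeval N p.divX, hnil2, by rw [hCp, hdecomp]⟩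

end decomp

section unitary
variable {K : Type*} [Field K] [Fintype K] {q n : ℕ}

theorem pres_pow {y : Matrix (Fin n) (Fin n) K} (hy : Pres q y) (m : ℕ) : Pres q (y ^ m) := by
  induction m with
  | zero =>
    intro u v
    rw [pow_zero, Matrix.one_mulVec, Matrix.one_mulVec]
  | succ m ih =>
    intro u v
    rw [pow_succ, ← Matrix.mulVec_mulVec, ← Matrix.mulVec_mulVec, ih, hy]

/-- the scalar part of a unitary matrix which is a scalar plus a nilpotent matrix has norm one -/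
theorem norm_scalar_part (hK : Fintype.card K = q ^ 2) (p : ℕ) [Fact p.Prime] [CharP K p]
    (hn : 1 ≤ n) (C M' : Matrix (Fin n) (Fin n) K) (a : K) (hC : Pres q C)
    (hM' : IsNilpotent M') (hCa : C = a • (1 : Matrix (Fin n) (Fin n) K) + M') :
    a ^ (q + 1) = 1 := by
  haveI : Nonempty (Fin n) := ⟨⟨0, by omega⟩⟩
  haveI : CharP (Matrix (Fin n) (Fin n) K) p := Matrix.charP p
  obtain ⟨j, hj⟩ := hM'
  have hpj : j ≤ p ^ j := (Nat.lt_pow_self (Fact.out : p.Prime).one_lt).le
  have hM0 : M' ^ (p ^ j) = 0 := pow_eq_zero_of_le hpj hj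
  have hcomm : Commute (a • (1 : Matrix (Fin n) (Fin n) K)) M' :=
    (Commute.one_left M').smul_left a
  have hpow : C ^ (p ^ j) = (a ^ (p ^ j)) • (1 : Matrix (Fin n) (Fin n) K) := by
    rw [hCa, add_pow_char_pow_of_commute p j hcomm, hM0, add_zero, smul_pow, one_pow]
  have hP := pres_pow hC (p ^ j)
  rw [hpow] at hP
  set s := a ^ (p ^ j) with hs
  have h1 := hP (Pi.single ⟨0, by omega⟩ 1) (Pi.single ⟨0, by omega⟩ 1)
  rw [Matrix.smul_mulVec, Matrix.one_mulVec] at h1
  have hq0 : q ≠ 0 := by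
    rintro rfl
    have := Fintype.card_pos (α := K)
    rw [hK] at this
    simp at this
  have h2 : Cfsg.hermForm n K q (Pi.single (⟨0, by omega⟩ : Fin n) (1 : K))
      (Pi.single ⟨0, by omega⟩ 1) = 1 := by
    unfold Cfsg.hermForm
    rw [Finset.sum_eq_single (⟨0, by omega⟩ : Fin n)]
    · simp
    · intro i _ hi
      rw [Pi.single_eq_of_ne hi, zero_mul]
    · intro h
      exact absurd (Finset.mem_univ _) h
  have h3 : Cfsg.hermForm n K q (s • Pi.single (⟨0, by omega⟩ : Fin n) (1 : K))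
      (s • Pi.single ⟨0, by omega⟩ 1) = s ^ (q + 1) := by
    unfold Cfsg.hermForm
    rw [Finset.sum_eq_single (⟨0, by omega⟩ : Fin n)]
    · simp [pow_succ']
    · intro i _ hi
      rw [Pi.smul_apply, Pi.single_eq_of_ne hi, smul_zero, zero_mul]
    · intro h
      exact absurd (Finset.mem_univ _) h
  rw [h3, h2] at h1
  -- `(a ^ (q + 1)) ^ (p ^ j) = 1`
  have h4 : (a ^ (q + 1)) ^ (p ^ j) = 1 := by
    rw [← pow_mul, mul_comm, pow_mul, ← hs, h1]
  have h5 : (a ^ (q + 1) - 1) ^ (p ^ j) = 0 := by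
    rw [sub_pow_char_pow, h4, one_pow, sub_self]
  exact sub_eq_zero.1
    ((pow_eq_zero_iff (pow_ne_zero j (Fact.out : p.Prime).ne_zero)).1 h5)

end unitary

section main
variable {K : Type*} [Field K] [Fintype K] {q n : ℕ}

/-- scalar unitary matrices -/
theorem scalar_mem_GU (hK : Fintype.card K = q ^ 2) (a : Kˣ) (ha : a ∈ normOne K q) :
    Matrix.GeneralLinearGroup.scalar (Fin n) a ∈ Cfsg.GU n K q := by
  obtain ⟨φ, hφ⟩ := exists_frob hK
  rw [mem_GU_iff_isU φ hφ]
  have h1 : ((Matrix.GeneralLinearGroup.scalar (Fin n) a : GL (Fin n) K) :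
      Matrix (Fin n) (Fin n) K) = Matrix.diagonal (fun _ => (a : K)) := rfl
  rw [h1]
  exact isU_diagonal φ _ (fun _ => mul_frob_of_mem φ hφ a ha)

theorem detU_mem_normOne (hK : Fintype.card K = q ^ 2) (x : ↥(Cfsg.GU n K q)) :
    detU x ∈ normOne K q := by
  rw [mem_normOne]
  apply Units.ext
  rw [Units.val_pow_eq_pow_val, coe_detU, Units.val_one, pow_succ']
  exact (Cfsg.Agent.S2671.pres_of_mem x).det_norm hK

theorem detU_surjective (hK : Fintype.card K = q ^ 2) (hn : 1 ≤ n) (d : Kˣ)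
    (hd : d ∈ normOne K q) : ∃ x : ↥(Cfsg.GU n K q), detU x = d := by
  classical
  obtain ⟨φ, hφ⟩ := exists_frob hK
  set i₀ : Fin n := ⟨0, by omega⟩ with hi₀
  set dd : Fin n → K := fun j => if j = i₀ then (d : K) else 1 with hdd
  have hU : IsU φ (Matrix.diagonal dd) := by
    apply isU_diagonal
    intro j
    rw [hdd]
    by_cases hj : j = i₀
    · simp only [hj, if_true]
      exact mul_frob_of_mem φ hφ d hd
    · simp only [hj, if_false]
      rw [map_one, one_mul]
  have hP : Pres q (Matrix.diagonal dd) := by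
    intro u v
    rw [hermForm_eq_hdot φ hφ, hermForm_eq_hdot φ hφ]
    exact (isU_iff_preserves φ _).1 hU u v
  refine ⟨Cfsg.Agent.S2671.mkGU hK _ hP, ?_⟩
  apply Units.ext
  rw [coe_detU, Cfsg.Agent.S2671.coe_mkGU, Matrix.det_diagonal, hdd,
    Finset.prod_ite_eq' Finset.univ i₀]
  simp

/-- existence of a regular unipotent unitary matrix -/
theorem exists_regular (hK : Fintype.card K = q ^ 2) (hn : 1 ≤ n) :
    ∃ U : ↥(Cfsg.GU n K q), Reg ((U : GL (Fin n) K) : Matrix (Fin n) (Fin n) K) ∧ detU U = 1 := by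
  set A : GL (Fin n) K := SpecialLinearGroup.toGL (u0 K n) with hA
  have h0 := reg_u0 (F := K) hn
  have hnil : IsNilpotent (nilMat A) := ⟨n, h0.1⟩
  obtain ⟨B, hB⟩ := exists_unitary_conj_of_unipotent hK A hnil
  obtain ⟨y, hy⟩ := isConj_iff.1 hB
  refine ⟨B, ?_, ?_⟩
  · rw [← hy]
    exact reg_conj y _ h0
  · apply Units.ext
    rw [coe_detU, ← hy, ← Matrix.GeneralLinearGroup.val_det_apply, map_mul, map_mul, map_inv,
      mul_comm, ← mul_assoc, inv_mul_cancel, one_mul, Matrix.GeneralLinearGroup.val_det_apply]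
    exact (u0 K n).det_coe

theorem isConj_iff_det (hK : Fintype.card K = q ^ 2) (p : ℕ) [Fact p.Prime] [CharP K p]
    (hn : 1 ≤ n) (U : ↥(Cfsg.GU n K q))
    (hreg : Reg ((U : GL (Fin n) K) : Matrix (Fin n) (Fin n) K)) (hU : detU U = 1)
    (g g' : ↥(Cfsg.GU n K q)) :
    IsConj (suOf (g * U * g⁻¹) (det_eq_one_of_detU (detU_conj g U hU)))
      (suOf (g' * U * g'⁻¹) (det_eq_one_of_detU (detU_conj g' U hU))) ↔
      ∃ a : Kˣ, a ∈ normOne K q ∧ detU g' = detU g * a ^ n := by
  constructor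
  · rw [isConj_iff]
    rintro ⟨s, hs⟩
    have hs' := congrArg guHom hs
    rw [map_mul, map_mul, map_inv, guHom_suOf, guHom_suOf] at hs'
    set S : ↥(Cfsg.GU n K q) := guHom s with hS
    set c : ↥(Cfsg.GU n K q) := g'⁻¹ * S * g with hc
    have hcu : c * U = U * c := by
      have e1 : c * U = g'⁻¹ * (S * (g * U * g⁻¹) * S⁻¹) * S * g := by rw [hc]; group
      rw [e1, hs', hc]; group
    set u : Matrix (Fin n) (Fin n) K := ((U : GL (Fin n) K) : Matrix (Fin n) (Fin n) K) with hu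
    set cm : Matrix (Fin n) (Fin n) K := ((c : GL (Fin n) K) : Matrix (Fin n) (Fin n) K) with hcm
    have hC : cm * (u - 1) = (u - 1) * cm := by
      have := congrArg (fun x : ↥(Cfsg.GU n K q) =>
        ((x : GL (Fin n) K) : Matrix (Fin n) (Fin n) K)) hcu
      have h2 : cm * u = u * cm := this
      rw [mul_sub, sub_mul, mul_one, one_mul, h2]
    obtain ⟨a, M', hM', hdec⟩ := decomp_of_commute_regular_nilpotent _ _ hreg.1 hreg.2 hn hC
    have ha1 : a ^ (q + 1) = 1 :=
      norm_scalar_part hK p hn cm M' a (Cfsg.Agent.S2671.pres_of_mem c) hM' hdec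
    have ha0 : a ≠ 0 := by
      rintro rfl
      rw [zero_pow (by omega)] at ha1
      exact zero_ne_one ha1
    have hdetc : detU c = (Units.mk0 a ha0) ^ n := by
      apply Units.ext
      rw [coe_detU, ← hcm, hdec, det_smul_one_add_nilpotent _ _ hM']
      simp
    have hdet2 : detU c = (detU g')⁻¹ * detU g := by
      rw [hc, map_mul, map_mul, map_inv, hS, detU_guHom, mul_one]
    refine ⟨(Units.mk0 a ha0)⁻¹, ?_, ?_⟩
    · rw [mem_normOne, inv_pow, inv_eq_one]
      apply Units.ext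
      rw [Units.val_pow_eq_pow_val, Units.val_mk0, ha1, Units.val_one]
    · rw [inv_pow, ← hdetc, hdet2, _root_.mul_inv_rev, inv_inv, mul_inv_cancel_left]
  · rintro ⟨a, haN, ha⟩
    have haN' : a⁻¹ ∈ normOne K q := (normOne K q).inv_mem haN
    set zz : ↥(Cfsg.GU n K q) :=
      ⟨Matrix.GeneralLinearGroup.scalar (Fin n) a⁻¹, scalar_mem_GU hK a⁻¹ haN'⟩ with hzz
    have hdzz : detU zz = (a ^ n)⁻¹ := by
      show Matrix.GeneralLinearGroup.det (Matrix.GeneralLinearGroup.scalar (Fin n) a⁻¹) = _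
      rw [Matrix.GeneralLinearGroup.det_scalar, Fintype.card_fin, inv_pow]
    have hdets : detU (g' * zz * g⁻¹) = 1 := by
      rw [map_mul, map_mul, map_inv, hdzz, ha, mul_inv_cancel_right, mul_inv_cancel]
    rw [isConj_iff]
    refine ⟨suOf (g' * zz * g⁻¹) (det_eq_one_of_detU hdets), ?_⟩
    apply guHom_injective
    rw [map_mul, map_mul, map_inv, guHom_suOf, guHom_suOf, guHom_suOf]
    have hcomm : zz * U = U * zz := by
      apply Subtype.ext
      exact Matrix.GeneralLinearGroup.scalar_commute a⁻¹ (U : GL (Fin n) K)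
    calc g' * zz * g⁻¹ * (g * U * g⁻¹) * (g' * zz * g⁻¹)⁻¹
        = g' * (zz * U) * zz⁻¹ * g'⁻¹ := by group
      _ = g' * (U * zz) * zz⁻¹ * g'⁻¹ := by rw [hcomm]
      _ = g' * U * g'⁻¹ := by group

end main

/-- Regular unipotent classes of SU_n(q), n ≥ 2: the elements u of the special unitary group (isometries of Σ u_i v_i^q of determinant one over the field with q² elements) with (u − 1)^n = 0 and rank(u − 1) = n − 1 form exactly gcd(n, q + 1) conjugacy classes of SU_n(q). -/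
theorem result {K : Type*} [Field K] [Fintype K] {q n : ℕ} (hK : Fintype.card K = q ^ 2) (hn : 2 ≤ n) : Nat.card {C : ConjClasses ↥(Cfsg.SU n K q) // ∃ u : ↥(Cfsg.SU n K q), ConjClasses.mk u = C ∧ (((u : GL (Fin n) K) : Matrix (Fin n) (Fin n) K) - 1) ^ n = 0 ∧ (((u : GL (Fin n) K) : Matrix (Fin n) (Fin n) K) - 1).rank = n - 1} = Nat.gcd n (q + 1) := by
  classical
  obtain ⟨p, hchar⟩ := CharP.exists K
  haveI := hchar
  haveI : Fact p.Prime := ⟨CharP.char_is_prime K p⟩
  have hn1 : 1 ≤ n := by omega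
  haveI : NeZero n := ⟨by omega⟩
  obtain ⟨U, hreg, hU⟩ := exists_regular hK hn1
  let N₁ : Subgroup Kˣ := normOne K q
  let D : Subgroup N₁ := (powMonoidHom n : N₁ →* N₁).range
  let X := {C : ConjClasses ↥(Cfsg.SU n K q) // ∃ u : ↥(Cfsg.SU n K q), ConjClasses.mk u = C ∧ (((u : GL (Fin n) K) : Matrix (Fin n) (Fin n) K) - 1) ^ n = 0 ∧ (((u : GL (Fin n) K) : Matrix (Fin n) (Fin n) K) - 1).rank = n - 1}
  let rep : ↥(Cfsg.GU n K q) → ↥(Cfsg.SU n K q) := fun g =>
    suOf (g * U * g⁻¹) (det_eq_one_of_detU (detU_conj g U hU))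
  have hrep : ∀ g, Reg (((rep g : SpecialLinearGroup (Fin n) K) : GL (Fin n) K) :
      Matrix (Fin n) (Fin n) K) := by
    intro g
    exact reg_conj (g : GL (Fin n) K) _ hreg
  let Θ : ↥(Cfsg.GU n K q) → X := fun g => ⟨ConjClasses.mk (rep g), rep g, rfl, hrep g⟩
  let π : ↥(Cfsg.GU n K q) → N₁ ⧸ D := fun g =>
    QuotientGroup.mk (⟨detU g, detU_mem_normOne hK g⟩ : N₁)
  have hΘ : Function.Surjective Θ := by
    rintro ⟨C, u, rfl, hu⟩
    -- `u` is conjugate to `U` in `GL`, hence in `GU`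
    have hu' : Reg ((guHom u : GL (Fin n) K) : Matrix (Fin n) (Fin n) K) := hu
    obtain ⟨G, hG⟩ := exists_GL_conj_regular_nilpotent _ _ hreg.1 hreg.2 hu'.1 hu'.2 hn1
    have hGL : IsConj (U : GL (Fin n) K) (guHom u : GL (Fin n) K) := by
      rw [isConj_iff]
      refine ⟨G, ?_⟩
      rw [mul_inv_eq_iff_eq_mul]
      apply Units.ext
      rw [Units.val_mul, Units.val_mul]
      rw [mul_sub, sub_mul, mul_one, one_mul] at hG
      exact sub_left_injective hG
    obtain ⟨g, hg⟩ := isConj_iff.1 ((Cfsg.Agent.S2587.result hK U (guHom u)).2 hGL)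
    refine ⟨g, ?_⟩
    apply Subtype.ext
    show ConjClasses.mk (rep g) = ConjClasses.mk u
    congr 1
    apply guHom_injective
    show guHom (suOf (g * U * g⁻¹) _) = guHom u
    rw [guHom_suOf, hg]
  have hπ : Function.Surjective π := by
    intro y
    obtain ⟨d, rfl⟩ := QuotientGroup.mk_surjective y
    obtain ⟨g, hg⟩ := detU_surjective hK hn1 (d : Kˣ) d.2
    refine ⟨g, ?_⟩
    show (QuotientGroup.mk (⟨detU g, detU_mem_normOne hK g⟩ : N₁) : N₁ ⧸ D) = QuotientGroup.mk d
    congr 1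
    exact Subtype.ext hg
  have hiff : ∀ g g', Θ g = Θ g' ↔ π g = π g' := by
    intro g g'
    have e1 : Θ g = Θ g' ↔ IsConj (rep g) (rep g') := by
      rw [← ConjClasses.mk_eq_mk_iff_isConj]
      exact Subtype.ext_iff
    rw [e1, isConj_iff_det hK p hn1 U hreg hU]
    show _ ↔ (QuotientGroup.mk (⟨detU g, detU_mem_normOne hK g⟩ : N₁) : N₁ ⧸ D) =
      QuotientGroup.mk (⟨detU g', detU_mem_normOne hK g'⟩ : N₁)
    rw [QuotientGroup.eq]
    constructor
    · rintro ⟨a, haN, ha⟩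
      refine ⟨⟨a, haN⟩, ?_⟩
      apply Subtype.ext
      rw [powMonoidHom_apply]
      show a ^ n = (detU g)⁻¹ * detU g'
      rw [ha, inv_mul_cancel_left]
    · rintro ⟨a, ha⟩
      rw [powMonoidHom_apply] at ha
      have ha' := congrArg Subtype.val ha
      refine ⟨(a : Kˣ), a.2, ?_⟩
      have h3 : ((a : Kˣ)) ^ n = (detU g)⁻¹ * detU g' := ha'
      rw [h3, mul_inv_cancel_left]
  have hcard := card_eq_of_surj Θ π hΘ hπ hiff
  have hX : Nat.card X = Nat.card (N₁ ⧸ D) := hcard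
  show Nat.card X = _
  rw [hX, ← Subgroup.index_eq_card, IsCyclic.index_powMonoidHom_range, card_normOne hK,
    Nat.gcd_comm]

end Cfsg.Agent.S2643
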