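import Mathlib
import Cfsg.Statements.S2644
import Cfsg.Agent.Lib.Helper11.UnitaryTransv

set_option autoImplicit false
open Cfsg

namespace Cfsg.Agent.S2644

open Cfsg.Agent.Helper11.Herm

/-- In the special unitary group SU_n(q) with n ≥ 3 (isometries of Σ u_i v_i^q of determinant one over the field with q² elements), any two transvections (elements t with t − 1 of rank one and square zero) are conjugate. -/
theorem result {K : Type*} [Field K] [Fintype K] {q n : ℕ} (hK : Fintype.card K = q ^ 2) (hn : 3 ≤ n) (s t : ↥(Cfsg.SU n K q)) (hs : Cfsg.IsTransvection (((s : GL (Fin n) K) : Matrix (Fin n) (Fin n) K))) (ht : Cfsg.IsTransvection (((t : GL (Fin n) K) : Matrix (Fin n) (Fin n) K))) : IsConj s t := by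
  obtain ⟨φ, hφ⟩ := exists_frob hK
  have hφφ := frob_frob hK φ hφ
  have hN1 := frob_norm_surj hK φ hφ
  have hφid := frob_ne_id hK φ hφ
  have hsU : IsU φ ((s : Matrix.SpecialLinearGroup (Fin n) K) : Matrix (Fin n) (Fin n) K) :=
    (mem_SU_iff_isU φ hφ n _).1 s.2
  have htU : IsU φ ((t : Matrix.SpecialLinearGroup (Fin n) K) : Matrix (Fin n) (Fin n) K) :=
    (mem_SU_iff_isU φ hφ n _).1 t.2
  have hs' : ((s : Matrix.SpecialLinearGroup (Fin n) K) : Matrix (Fin n) (Fin n) K) =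
      (((s : GL (Fin n) K) : Matrix (Fin n) (Fin n) K)) := rfl
  have ht' : ((t : Matrix.SpecialLinearGroup (Fin n) K) : Matrix (Fin n) (Fin n) K) =
      (((t : GL (Fin n) K) : Matrix (Fin n) (Fin n) K)) := rfl
  rw [← hs'] at hs
  rw [← ht'] at ht
  obtain ⟨v, c, hv, hvv, hc, hct, hsv⟩ := isU_transvection_eq_tv φ hφφ _ hsU hs.1 hs.2
  obtain ⟨v', c', hv', hvv', hc', hct', htv⟩ := isU_transvection_eq_tv φ hφφ _ htU ht.1 ht.2
  obtain ⟨G, hG, hGdet, hGconj⟩ := exists_conj_tv φ hφid hφφ hN1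
    (by rw [Fintype.card_fin]; exact hn) v v' c c' hv hvv hv' hvv' hc hc' hct hct'
  rw [isConj_iff]
  refine ⟨mkSU hK n G hGdet (fun ψ hψ => by
    have : ψ = φ := RingHom.ext (fun x => by rw [hψ, hφ])
    rw [this]
    exact hG), ?_⟩
  rw [mul_inv_eq_iff_eq_mul]
  apply SU_ext
  rw [SU_mul_coe, SU_mul_coe, coe_mkSU, hsv, htv]
  exact hGconj

end Cfsg.Agent.S2644
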