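import Mathlib
import Cfsg.Statements.S2645
import Cfsg.Agent.Lib.Helper13.SympPrime
import Cfsg.Agent.S2389

set_option autoImplicit false
open Cfsg

namespace Cfsg.Agent.S2645

open Cfsg.Agent.Helper13.SS Cfsg.Agent.Helper13.SympSS Polynomial

open scoped Classical

section
variable {F : Type*} [Field F] [Fintype F] {p q : ℕ} [Fact p.Prime] [CharP F p] {m r : ℕ}

theorem exists_rep (hF : Fintype.card F = q) (hr : r.Prime) (hr2 : r ≠ 2) (hrp : r ≠ p)
    (hi0 : 0 < orderOf (q : ZMod r))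
    (k : {k : ↥(cycFactors F r) → ℕ // (∀ a, k (starΦ hr hr2 hrp a) = k a) ∧
      orderOf (q : ZMod r) * ∑ a, k a ≤ 2 * m}) :
    ∃ g : Matrix.symplecticGroup (Fin m) F, g ^ r = 1 ∧
      (g : Matrix (Fin m ⊕ Fin m) (Fin m ⊕ Fin m) F).charpoly =
        primePoly r m (orderOf (q : ZMod r)) k.1 :=
  (sreal_primePoly hF hr hr2 hrp hi0 k.1 k.2.1).exists_matrix m
    (natDegree_primePoly hF hr hrp k.1 k.2.2)

/-- the number of classes of elements with `g ^ r = 1` -/
theorem card_classes_pow_eq_one (hF : Fintype.card F = q) (hr : r.Prime) (hr2 : r ≠ 2)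
    (hrp : r ≠ p) (hi0 : 0 < orderOf (q : ZMod r)) :
    Nat.card {C : ConjClasses ↥(Matrix.symplecticGroup (Fin m) F) //
      ∃ g : Matrix.symplecticGroup (Fin m) F, ConjClasses.mk g = C ∧ g ^ r = 1} =
    Nat.card {k : ↥(cycFactors F r) → ℕ // (∀ a, k (starΦ hr hr2 hrp a) = k a) ∧
      orderOf (q : ZMod r) * ∑ a, k a ≤ 2 * m} := by
  have hp : p.Prime := Fact.out
  have hcop : ∀ g : Matrix.symplecticGroup (Fin m) F, g ^ r = 1 → (orderOf g).Coprime p := by
    intro g hg
    exact Nat.Coprime.coprime_dvd_left (orderOf_dvd_of_pow_eq_one hg)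
      ((Nat.coprime_primes hr hp).2 hrp)
  symm
  let Θ : {k : ↥(cycFactors F r) → ℕ // (∀ a, k (starΦ hr hr2 hrp a) = k a) ∧
      orderOf (q : ZMod r) * ∑ a, k a ≤ 2 * m} →
      {C : ConjClasses ↥(Matrix.symplecticGroup (Fin m) F) //
        ∃ g : Matrix.symplecticGroup (Fin m) F, ConjClasses.mk g = C ∧ g ^ r = 1} :=
    fun k => ⟨ConjClasses.mk (exists_rep hF hr hr2 hrp hi0 k).choose,
      (exists_rep hF hr hr2 hrp hi0 k).choose, rfl,
      (exists_rep hF hr hr2 hrp hi0 k).choose_spec.1⟩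
  apply Nat.card_eq_of_bijective Θ
  constructor
  · intro k k' h
    have h2 : ConjClasses.mk (exists_rep hF hr hr2 hrp hi0 k).choose =
        ConjClasses.mk (exists_rep hF hr hr2 hrp hi0 k').choose := congrArg Subtype.val h
    rw [ConjClasses.mk_eq_mk_iff_isConj] at h2
    have h3 := symp_charpoly_eq_of_isConj h2
    rw [(exists_rep hF hr hr2 hrp hi0 k).choose_spec.2,
      (exists_rep hF hr hr2 hrp hi0 k').choose_spec.2] at h3
    exact Subtype.ext (primePoly_injective hr hrp _ _ _ h3)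
  · rintro ⟨C, g, rfl, hg⟩
    obtain ⟨k, hk1, hk2, hk3⟩ := charpoly_eq_primePoly hF hr hr2 hrp g hg
    refine ⟨⟨k, hk1, hk2⟩, ?_⟩
    apply Subtype.ext
    show ConjClasses.mk (exists_rep hF hr hr2 hrp hi0 ⟨k, hk1, hk2⟩).choose = ConjClasses.mk g
    rw [ConjClasses.mk_eq_mk_iff_isConj]
    apply Cfsg.Agent.S2389.result p m _ g
      (hcop _ (exists_rep hF hr hr2 hrp hi0 ⟨k, hk1, hk2⟩).choose_spec.1) (hcop g hg)
    rw [(exists_rep hF hr hr2 hrp hi0 ⟨k, hk1, hk2⟩).choose_spec.2, hk3]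

end

/-- Number of conjugacy classes of elements of odd prime order r, r different from the characteristic, in the symplectic group Sp_2m(q): let i be the multiplicative order of q modulo r and t = (r − 1)/i. If i is odd the eigenvalue orbits pair off (Λ ≠ Λ⁻¹) and the classes correspond to the non-zero (t/2)-tuples (a_j) with 2i Σ a_j ≤ 2m, giving C(⌊m/i⌋ + t/2, t/2) − 1 classes; if i is even (Λ = Λ⁻¹) they correspond to the non-zero t-tuples with i Σ a_j ≤ 2m, giving C(⌊2m/i⌋ + t, t) − 1 classes. -/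
theorem result {F : Type*} [Field F] [Fintype F] {p q : ℕ} [Fact p.Prime] [CharP F p] (hF : Fintype.card F = q) (m r i t : ℕ) (hr : r.Prime) (hr2 : r ≠ 2) (hrp : r ≠ p) (hi : i = orderOf (q : ZMod r)) (ht : t * i = r - 1) : Nat.card {C : ConjClasses ↥(Matrix.symplecticGroup (Fin m) F) // ∃ g : Matrix.symplecticGroup (Fin m) F, ConjClasses.mk g = C ∧ orderOf g = r} = if Odd i then Nat.choose (m / i + t / 2) (t / 2) - 1 else Nat.choose (2 * m / i + t) t - 1 := by
  have hr2' := hr.two_le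
  have hi0 : 0 < i := by
    rcases Nat.eq_zero_or_pos i with h | h
    · rw [h, mul_zero] at ht
      omega
    · exact h
  have hcard : Fintype.card ↥(cycFactors F r) = t := by
    have h1 := cycFactors_card hF hr hrp
    rw [← hi, ← ht] at h1
    rw [Fintype.card_coe]
    exact Nat.eq_of_mul_eq_mul_right hi0 h1
  have hmain := card_classes_pow_eq_one (m := m) hF hr hr2 hrp (hi ▸ hi0)
  rw [← hi] at hmain
  have hcount : Nat.card {k : ↥(cycFactors F r) → ℕ // (∀ a, k (starΦ hr hr2 hrp a) = k a) ∧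
      i * ∑ a, k a ≤ 2 * m} =
      if Odd i then Nat.choose (m / i + t / 2) (t / 2) else Nat.choose (2 * m / i + t) t := by
    split_ifs with hodd
    · rw [card_selfdual_tuples_odd _ (starΦ_involutive hr hr2 hrp) _ i m hi0, hcard]
      intro a h
      exact dualPoly_ne_self_of_odd hF hr hr2 hrp (hi ▸ hodd) a.2 (congrArg Subtype.val h)
    · rw [card_selfdual_tuples_even _ _ i m hi0, hcard]
      intro a
      apply Subtype.ext
      exact dualPoly_eq_self_of_even hF hr (hi ▸ hi0) (hi ▸ Nat.not_odd_iff_even.1 hodd) a.2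
  have hgoal : (if Odd i then Nat.choose (m / i + t / 2) (t / 2) - 1
      else Nat.choose (2 * m / i + t) t - 1) =
      (if Odd i then Nat.choose (m / i + t / 2) (t / 2) else Nat.choose (2 * m / i + t) t) - 1 := by
    split_ifs <;> rfl
  rw [hgoal, ← hcount, ← hmain]
  -- remove the identity class
  have hset : {C : ConjClasses ↥(Matrix.symplecticGroup (Fin m) F) |
      ∃ g : Matrix.symplecticGroup (Fin m) F, ConjClasses.mk g = C ∧ orderOf g = r} =
      {C : ConjClasses ↥(Matrix.symplecticGroup (Fin m) F) |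
        ∃ g : Matrix.symplecticGroup (Fin m) F, ConjClasses.mk g = C ∧ g ^ r = 1} \
        {ConjClasses.mk 1} := by
    haveI : Fact r.Prime := ⟨hr⟩
    ext C
    simp only [Set.mem_setOf_eq, Set.mem_diff, Set.mem_singleton_iff]
    constructor
    · rintro ⟨g, rfl, hg⟩
      rw [orderOf_eq_prime_iff] at hg
      refine ⟨⟨g, rfl, hg.1⟩, ?_⟩
      rw [ConjClasses.mk_eq_mk_iff_isConj, isConj_one_left]
      exact hg.2
    · rintro ⟨⟨g, rfl, hg⟩, hne⟩
      refine ⟨g, rfl, ?_⟩
      rw [orderOf_eq_prime_iff]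
      refine ⟨hg, ?_⟩
      rintro rfl
      exact hne rfl
  have hmem : ConjClasses.mk (1 : Matrix.symplecticGroup (Fin m) F) ∈
      {C : ConjClasses ↥(Matrix.symplecticGroup (Fin m) F) |
        ∃ g : Matrix.symplecticGroup (Fin m) F, ConjClasses.mk g = C ∧ g ^ r = 1} :=
    ⟨1, rfl, one_pow r⟩
  have h2 := Set.ncard_diff_singleton_of_mem hmem
  rw [← hset] at h2
  rw [← Nat.card_coe_set_eq, ← Nat.card_coe_set_eq] at h2
  exact h2

end Cfsg.Agent.S2645
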