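import Mathlib
import Cfsg.Statements.S2646
import Cfsg.Agent.Lib.Helper13.UnipCentMain
import Cfsg.Agent.Lib.Helper13.UnipotentUnitary
import Cfsg.Agent.Lib.Helper13.WallNorm

set_option autoImplicit false
set_option linter.style.haveILetI false
set_option linter.unusedSectionVars false
set_option linter.unusedVariables false
open Cfsg

namespace Cfsg.Agent.S2646

open Matrix Finset Cfsg.Agent.Helper17.UnipCent Cfsg.Agent.Helper13.UCF Cfsg.Agent.Helper13.Cay
  Cfsg.Agent.Helper17 Cfsg.Agent.Helper11.Herm Cfsg.Agent.Helper13.UCM Cfsg.Agent.Helper13.UniU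
  Cfsg.Agent.Helper13.Nilp

theorem guOrder_cast (q₀ n : ℕ) (hq₀ : 1 ≤ q₀) :
    ((guOrder q₀ n : ℕ) : ℤ) = (q₀ : ℤ) ^ (n * (n - 1) / 2) *
      ∏ i : Fin n, ((q₀ : ℤ) ^ ((i : ℕ) + 1) - (-1) ^ ((i : ℕ) + 1)) := by
  unfold guOrder
  rw [Nat.cast_mul, Nat.cast_pow, Nat.cast_prod,
    Fin.prod_univ_eq_prod_range (fun i => ((q₀ : ℤ) ^ (i + 1) - (-1) ^ (i + 1))) n]
  congr 1
  apply Finset.prod_congr rfl
  intro i _
  by_cases hi : Even i
  · rw [if_pos hi, Odd.neg_one_pow (Even.add_one hi)]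
    push_cast
    ring
  · rw [if_neg hi, Even.neg_one_pow (by
      rw [Nat.not_even_iff_odd] at hi
      exact Odd.add_one hi)]
    have : 1 ≤ q₀ ^ (i + 1) := Nat.one_le_pow _ _ hq₀
    rw [Nat.cast_sub this]
    push_cast
    ring

section
variable {K : Type*} [Field K] [Fintype K] {q n : ℕ}

/-- the centraliser in the unitary group as a group of isometries commuting with the element -/
theorem card_centralizer_eq (φ : K →+* K) (hφ : ∀ x, φ x = x ^ q) (u : ↥(Cfsg.GU n K q)) :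
    Nat.card ↥(Subgroup.centralizer ({u} : Set ↥(Cfsg.GU n K q))) =
      Nat.card (isoS φ (1 : Matrix (Fin n) (Fin n) K)
        ((u : GL (Fin n) K) : Matrix (Fin n) (Fin n) K)) := by
  apply Nat.card_eq_of_bijective
    (fun x : ↥(Subgroup.centralizer ({u} : Set ↥(Cfsg.GU n K q))) =>
      (⟨(x.1 : GL (Fin n) K), by
        rw [mem_isoS]
        constructor
        · have h1 := Subgroup.mem_centralizer_singleton_iff.1 x.2
          have h2 := congrArg (fun y : ↥(Cfsg.GU n K q) =>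
            ((y : GL (Fin n) K) : Matrix (Fin n) (Fin n) K)) h1
          simp only [Subgroup.coe_mul, Units.val_mul] at h2
          exact h2
        · have h1 := (mem_GU_iff_isU φ hφ n _).1 x.1.2
          unfold IsU at h1
          rw [Matrix.mul_one]
          exact h1⟩ : isoS φ (1 : Matrix (Fin n) (Fin n) K)
        ((u : GL (Fin n) K) : Matrix (Fin n) (Fin n) K)))
  constructor
  · intro x y hxy
    have h1 : (x.1 : GL (Fin n) K) = (y.1 : GL (Fin n) K) :=
      congrArg (fun z : isoS φ (1 : Matrix (Fin n) (Fin n) K)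
        ((u : GL (Fin n) K) : Matrix (Fin n) (Fin n) K) => (z : GL (Fin n) K)) hxy
    exact Subtype.ext (Subtype.ext h1)
  · rintro ⟨y, hy⟩
    rw [mem_isoS] at hy
    have hyU : y ∈ Cfsg.GU n K q := by
      rw [mem_GU_iff_isU φ hφ]
      unfold IsU
      have := hy.2
      rw [Matrix.mul_one] at this
      exact this
    refine ⟨⟨⟨y, hyU⟩, ?_⟩, rfl⟩
    rw [Subgroup.mem_centralizer_singleton_iff]
    apply Subtype.ext
    apply Units.ext
    show (y : Matrix (Fin n) (Fin n) K) * ((u : GL (Fin n) K) : Matrix (Fin n) (Fin n) K) =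
      ((u : GL (Fin n) K) : Matrix (Fin n) (Fin n) K) * (y : Matrix (Fin n) (Fin n) K)
    exact hy.1

end

section intertwiner
variable {K : Type*} [Field K] {n t : ℕ}

theorem reindex_pow (d : Fin t → ℕ) (e : Idx d ≃ Fin n) (X : Matrix (Idx d) (Idx d) K) (m : ℕ) :
    (Matrix.reindex e e X) ^ m = Matrix.reindex e e (X ^ m) := by
  have h := map_pow (Matrix.reindexAlgEquiv K K e) X m
  rw [Matrix.coe_reindexAlgEquiv] at h
  exact h.symm

theorem reindex_sub_one (d : Fin t → ℕ) (e : Idx d ≃ Fin n) (X : Matrix (Idx d) (Idx d) K) :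
    Matrix.reindex e e X - 1 = Matrix.reindex e e (X - 1) := by
  have h := map_sub (Matrix.reindexAlgEquiv K K e) X 1
  rw [map_one, Matrix.coe_reindexAlgEquiv] at h
  exact h.symm

/-- a linear intertwiner between the model and a matrix of the given Jordan type -/
theorem exists_intertwiner (φ : K →+* K) (d : Fin t → ℕ) (e : Idx d ≃ Fin n) (b : K)
    (hb : b + φ b = 1) (U : Matrix (Fin n) (Fin n) K)
    (hu : IsConj (Matrix.reindex e e (Cfsg.jordanTypeMatrix d K)) U) :
    ∃ (T : Matrix (Fin n) (Idx d) K) (T' : Matrix (Idx d) (Fin n) K), T * T' = 1 ∧ T' * T = 1 ∧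
      T * cay φ (Nil d K) b = U * T := by
  classical
  have hNil := Nil_isNilpotent (K := K) d
  set u₁ := cay φ (Nil d K) b with hu₁
  set J := Cfsg.jordanTypeMatrix d K with hJ
  have hJN : J - 1 = Nil d K := rfl
  have hu₁nil : IsNilpotent (u₁ - 1) := cay_sub_one_isNilpotent φ (Nil d K) b hNil hb
  have hu₁det : IsUnit u₁.det := by
    have h1 : IsUnit (1 + (u₁ - 1)) := hu₁nil.isUnit_one_add
    rw [add_sub_cancel] at h1
    exact (Matrix.isUnit_iff_isUnit_det _).1 h1
  have hJdet : IsUnit J.det := by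
    have h1 : IsUnit (1 + (J - 1)) := (hJN ▸ hNil : IsNilpotent (J - 1)).isUnit_one_add
    rw [add_sub_cancel] at h1
    exact (Matrix.isUnit_iff_isUnit_det _).1 h1
  set g₁ : GL (Fin n) K := Matrix.nonsingInvUnit (Matrix.reindex e e u₁) (by
    rw [Matrix.det_reindex_self]; exact hu₁det) with hg₁
  set g₂ : GL (Fin n) K := Matrix.nonsingInvUnit (Matrix.reindex e e J) (by
    rw [Matrix.det_reindex_self]; exact hJdet) with hg₂
  have hn1 : ∀ m, nilMat g₁ ^ m = Matrix.reindex e e ((u₁ - 1) ^ m) := by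
    intro m
    unfold nilMat
    show (Matrix.reindex e e u₁ - 1) ^ m = _
    rw [reindex_sub_one, reindex_pow]
  have hn2 : ∀ m, nilMat g₂ ^ m = Matrix.reindex e e ((J - 1) ^ m) := by
    intro m
    unfold nilMat
    show (Matrix.reindex e e J - 1) ^ m = _
    rw [reindex_sub_one, reindex_pow]
  have hconj : IsConj g₁ g₂ := by
    apply isConj_of_rank_eq
    · obtain ⟨k, hk⟩ := hu₁nil
      refine ⟨k, ?_⟩
      rw [hn1, hk]
      simp
    · obtain ⟨k, hk⟩ := hNil
      refine ⟨k, ?_⟩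
      rw [hn2, hJN, hk]
      simp
    · intro m
      rw [hn1, hn2, Matrix.rank_reindex, Matrix.rank_reindex, hJN,
        rank_cay_sub_one_pow φ (Nil d K) b hNil hb]
  obtain ⟨y, hy⟩ := isConj_iff.1 hconj
  obtain ⟨c, hc⟩ := hu
  have hc' : (c : Matrix (Fin n) (Fin n) K) * Matrix.reindex e e J =
      U * (c : Matrix (Fin n) (Fin n) K) := hc
  have hy' : (y : Matrix (Fin n) (Fin n) K) * Matrix.reindex e e u₁ =
      Matrix.reindex e e J * (y : Matrix (Fin n) (Fin n) K) := by
    have h1 : y * g₁ = g₂ * y := by rw [← hy]; group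
    have h2 := congrArg (fun z : GL (Fin n) K => (z : Matrix (Fin n) (Fin n) K)) h1
    simp only [Units.val_mul] at h2
    exact h2
  set Tm : Matrix (Fin n) (Fin n) K := (c : Matrix (Fin n) (Fin n) K) *
    (y : Matrix (Fin n) (Fin n) K) with hTm
  set Tmi : Matrix (Fin n) (Fin n) K := ((y⁻¹ : GL (Fin n) K) : Matrix (Fin n) (Fin n) K) *
    ((c⁻¹ : (Matrix (Fin n) (Fin n) K)ˣ) : Matrix (Fin n) (Fin n) K) with hTmi
  have hT1 : Tm * Tmi = 1 := by
    rw [hTm, hTmi]
    calc (c : Matrix (Fin n) (Fin n) K) * (y : Matrix (Fin n) (Fin n) K) *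
          (((y⁻¹ : GL (Fin n) K) : Matrix (Fin n) (Fin n) K) *
            ((c⁻¹ : (Matrix (Fin n) (Fin n) K)ˣ) : Matrix (Fin n) (Fin n) K))
        = (c : Matrix (Fin n) (Fin n) K) * ((y : Matrix (Fin n) (Fin n) K) *
            ((y⁻¹ : GL (Fin n) K) : Matrix (Fin n) (Fin n) K)) *
            ((c⁻¹ : (Matrix (Fin n) (Fin n) K)ˣ) : Matrix (Fin n) (Fin n) K) := by
          simp only [Matrix.mul_assoc]
      _ = 1 := by
          rw [← Units.val_mul, mul_inv_cancel, Units.val_one, Matrix.mul_one, ← Units.val_mul,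
            mul_inv_cancel, Units.val_one]
  have hT2 : Tmi * Tm = 1 := mul_eq_one_comm.1 hT1
  have hTu : Tm * Matrix.reindex e e u₁ = U * Tm := by
    rw [hTm, Matrix.mul_assoc, hy', ← Matrix.mul_assoc, hc', Matrix.mul_assoc]
  refine ⟨Tm.submatrix id e, Tmi.submatrix e id, ?_, ?_, ?_⟩
  · rw [Matrix.submatrix_mul_equiv, hT1]
    exact Matrix.submatrix_one_equiv (Equiv.refl (Fin n))
  · have : Tmi.submatrix e id * Tm.submatrix id e =
        (Tmi.submatrix (e : Idx d → Fin n) (Equiv.refl (Fin n))) *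
          (Tm.submatrix (Equiv.refl (Fin n)) (e : Idx d → Fin n)) := rfl
    rw [this, Matrix.submatrix_mul_equiv, hT2, Matrix.submatrix_one_equiv]
  · have h1 : u₁ = (Matrix.reindex e e u₁).submatrix e e := by
      ext a a'
      simp [Matrix.reindex_apply]
    have h2 : U * Tm.submatrix id e = (U.submatrix id (Equiv.refl (Fin n))) *
        (Tm.submatrix (Equiv.refl (Fin n)) (e : Idx d → Fin n)) := rfl
    rw [h2, Matrix.submatrix_mul_equiv, ← hTu]
    nth_rewrite 1 [h1]
    rw [Matrix.submatrix_mul_equiv]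

end intertwiner

/-- Order of the centraliser in the general unitary group GU_n(q) of a unipotent element of given Jordan type: if u ∈ GU_n(q) (isometries of Σ u_i v_i^q over the field with q² elements) is similar to the unipotent matrix with a_i Jordan blocks of size i (all sizes at least 1), then its centraliser in GU_n(q) has order q^γ · Π_i |GU_(a_i)(q)| with γ = 2 Σ_(i<j) i a_i a_j + Σ_i (i − 1) a_i², the same exponent as in GL_n(q), where |GU_a(q)| = q^(a(a−1)/2) Π_(k=1)^a (q^k − (−1)^k). -/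
theorem result {K : Type*} [Field K] [Fintype K] {q n t : ℕ} (hK : Fintype.card K = q ^ 2) (d : Fin t → ℕ) (hd : ∀ k, 1 ≤ d k) (e : ((k : Fin t) × Fin (d k)) ≃ Fin n) (u : ↥(Cfsg.GU n K q)) (hu : IsConj (Matrix.reindex e e (Cfsg.jordanTypeMatrix d K)) ((u : GL (Fin n) K) : Matrix (Fin n) (Fin n) K)) : (Nat.card ↥(Subgroup.centralizer ({u} : Set ↥(Cfsg.GU n K q))) : ℤ) = (q : ℤ) ^ (2 * (∑ i ∈ Finset.range (Finset.univ.sup d + 1), ∑ j ∈ Finset.range (Finset.univ.sup d + 1), if i < j then i * (Finset.univ.filter (fun k : Fin t => d k = i)).card * (Finset.univ.filter (fun k : Fin t => d k = j)).card else 0) + ∑ i ∈ Finset.range (Finset.univ.sup d + 1), (i - 1) * (Finset.univ.filter (fun k : Fin t => d k = i)).card ^ 2) * ∏ i ∈ Finset.range (Finset.univ.sup d + 1), ((q : ℤ) ^ ((Finset.univ.filter (fun k : Fin t => d k = i)).card * ((Finset.univ.filter (fun k : Fin t => d k = i)).card - 1) / 2) * ∏ j : Fin (Finset.univ.filter (fun k : Fin t => d k = i)).card,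 ((q : ℤ) ^ ((j : ℕ) + 1) - (-1) ^ ((j : ℕ) + 1))) := by
  classical
  obtain ⟨φ, hφ⟩ := exists_frob hK
  have hφ2 : ∀ x, φ (φ x) = x := frob_frob hK φ hφ
  obtain ⟨p, hp⟩ := CharP.exists K
  haveI : Fact p.Prime := ⟨CharP.char_is_prime K p⟩
  obtain ⟨c₀, hc₀⟩ : ∃ c, φ c ≠ c := by
    letI := ZMod.algebra K p
    obtain ⟨σ, hσ, hσ2, c₀, hc₀⟩ := Cfsg.Agent.Helper13.Uni.exists_frobAlg hK p
    refine ⟨c₀, ?_⟩
    rw [hφ, ← hσ]
    exact hc₀
  obtain ⟨b, hb⟩ := Cfsg.Agent.Helper13.Wall.exists_trace_one φ hφ2 ⟨c₀, hc₀⟩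
  set ω : K := c₀ - φ c₀ with hωdef
  have hω0 : ω ≠ 0 := sub_ne_zero.2 (Ne.symm hc₀)
  have hω : φ ω = -ω := by
    rw [hωdef, map_sub, hφ2]
    ring
  have hq1 : 1 ≤ q := by
    have := two_le_q hK
    omega
  set N := Finset.univ.sup d with hNdef
  have hN : ∀ k, d k ≤ N := fun k => Finset.le_sup (f := d) (Finset.mem_univ k)
  set U : Matrix (Fin n) (Fin n) K := ((u : GL (Fin n) K) : Matrix (Fin n) (Fin n) K) with hU
  have hNil := Nil_isNilpotent (K := K) d
  have hNφ := Nil_map (K := K) d φ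
  obtain ⟨M, hM, hgM⟩ := cay_pow_eq_one φ (Nil d K) b p hNil hb
  have hinv : (cay φ (Nil d K) b)ᵀ * H0 d ω * (cay φ (Nil d K) b).map φ = H0 d ω :=
    (skew_iff_cay φ (Nil d K) b hφ2 hNil hNφ hb _).1 (Nil_skew d ω)
  obtain ⟨T, T', h1, h2, hT⟩ := exists_intertwiner φ d e b hb U hu
  have hUU : Uᵀ * 1 * U.map φ = 1 := by
    have := (mem_GU_iff_isU φ hφ n _).1 u.2
    unfold IsU at this
    rw [Matrix.mul_one]
    exact this
  have hB := card_isoS_eq hK φ hφ (cay φ (Nil d K) b) (H0 d ω) U 1 M hM hgM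
    (H0_herm d φ ω hω) (H0_isUnit_det d ω hω0) hinv
    (by rw [Matrix.transpose_one, Matrix.map_one _ (map_zero φ) (map_one φ)])
    (by rw [Matrix.det_one]; exact isUnit_one) hUU T T' h1 h2 hT
  rw [card_centralizer_eq φ hφ u, ← hB, card_isoS_model d φ ω hK hφ hd hω hω0 b hb N hN,
    card_not_PD d N hN]
  have hUG : ∀ s ∈ Finset.range (N + 1), Nat.card (UG {k : Fin t // d k = s} φ) =
      guOrder q (mult d s) := by
    intro s _
    have h : Fintype.card {k : Fin t // d k = s} = mult d s := Fintype.card_subtype _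
    rw [card_UG_congr φ (Fintype.equivFinOfCardEq h), card_UG_fin hK φ hφ]
  rw [Finset.prod_congr rfl hUG]
  push_cast
  congr 1
  apply Finset.prod_congr rfl
  intro i _
  exact guOrder_cast q (mult d i) hq1

end Cfsg.Agent.S2646
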