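import Mathlib
import Cfsg.Statements.S2665
import Cfsg.Agent.Lib.Helper13.LangSemilinear

set_option autoImplicit false
open scoped MatrixGroups
open Cfsg

namespace Cfsg.Agent.S2665

open Cfsg.Agent.Helper13.Lang Module

section aux
variable {K : Type*} [Field K] {n : ℕ}

/-- the semilinear map `v ↦ g · σ(v)` -/
noncomputable def frobMap (σ : K →+* K) (g : Matrix (Fin n) (Fin n) K) :
    (Fin n → K) →ₛₗ[σ] (Fin n → K) where
  toFun v := g.mulVec (fun i => σ (v i))
  map_add' v w := by
    rw [← Matrix.mulVec_add]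
    congr 1
    ext i
    simp
  map_smul' c v := by
    rw [← Matrix.mulVec_smul]
    congr 1
    ext i
    simp

theorem frobMap_apply (σ : K →+* K) (g : Matrix (Fin n) (Fin n) K) (v : Fin n → K) :
    frobMap σ g v = g.mulVec (fun i => σ (v i)) := rfl

theorem frobMap_injective (σ : K →+* K) (g : GL (Fin n) K) :
    Function.Injective (frobMap σ (g : Matrix (Fin n) (Fin n) K)) := by
  intro v w hvw
  rw [frobMap_apply, frobMap_apply] at hvw
  have h1 := congrArg ((g⁻¹ : GL (Fin n) K) : Matrix (Fin n) (Fin n) K).mulVec hvw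
  rw [Matrix.mulVec_mulVec, Matrix.mulVec_mulVec, ← Units.val_mul, inv_mul_cancel, Units.val_one,
    Matrix.one_mulVec, Matrix.one_mulVec] at h1
  ext i
  exact σ.injective (congrFun h1 i)

end aux

/-- The Lang–Steinberg Theorem for the general linear group. Let `K` be an algebraically closed field of prime characteristic `p`, let `q = p^f` with `f ≥ 1`, and let `σ` be the endomorphism of GL_n(K) raising every matrix entry to the `q`-th power. Then every element `g` of GL_n(K) can be written `g = x · σ(x)⁻¹` for some `x` in GL_n(K): the map `x ↦ x σ(x)⁻¹` is surjective. -/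
theorem result {K : Type*} [Field K] [IsAlgClosed K] (p : ℕ) [Fact p.Prime] [CharP K p]
    (f : ℕ) (hf : 1 ≤ f) (n : ℕ) (g : GL (Fin n) K) :
    ∃ x : GL (Fin n) K, g = x * (Matrix.GeneralLinearGroup.map (iterateFrobenius K p f) x)⁻¹ := by
  classical
  have hp : p.Prime := Fact.out
  haveI : ExpChar K p := ExpChar.prime hp
  set σ := iterateFrobenius K p f with hσdef
  set Q := p ^ f with hQdef
  have hQ : 2 ≤ Q := by
    calc 2 ≤ p := hp.two_le
      _ = p ^ 1 := (pow_one p).symm
      _ ≤ p ^ f := Nat.pow_le_pow_right hp.pos hf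
  have hσ : ∀ x, σ x = x ^ Q := fun x => iterateFrobenius_def p f x
  have hσs : Function.Surjective σ := (bijective_iterateFrobenius K p f).2
  set φ := frobMap σ (g : Matrix (Fin n) (Fin n) K) with hφ
  have hspan := fixedSpan_eq_top hQ hσ hσs φ (frobMap_injective σ g)
  unfold fixedSpan at hspan
  -- a basis of fixed vectors
  set B := Basis.ofSpan (K := K) (V := Fin n → K) (s := {v | φ v = v}) (le_of_eq hspan.symm) with hB
  have hBfix : ∀ i, φ (B i) = B i := by
    intro i
    exact Basis.ofSpan_subset (le_of_eq hspan.symm) ⟨i, rfl⟩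
  haveI : Fintype ((linearIndepOn_empty K id).extend (Set.empty_subset {v : Fin n → K | φ v = v})) :=
    FiniteDimensional.fintypeBasisIndex B
  have hcard : Fintype.card
      ((linearIndepOn_empty K id).extend (Set.empty_subset {v : Fin n → K | φ v = v})) = n := by
    rw [← Module.finrank_eq_card_basis B, Module.finrank_fin_fun]
  set e := Fintype.equivFinOfCardEq hcard with he
  set B' : Basis (Fin n) K (Fin n → K) := B.reindex e with hB'
  have hB'fix : ∀ j, φ (B' j) = B' j := by
    intro j
    rw [hB', Basis.reindex_apply]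
    exact hBfix _
  set E := Pi.basisFun K (Fin n) with hE
  set x : Matrix (Fin n) (Fin n) K := E.toMatrix B' with hx
  set y : Matrix (Fin n) (Fin n) K := B'.toMatrix E with hy
  have hxy : x * y = 1 := Basis.toMatrix_mul_toMatrix_flip E B'
  have hyx : y * x = 1 := Basis.toMatrix_mul_toMatrix_flip B' E
  have hxij : ∀ i j, x i j = B' j i := by
    intro i j
    rw [hx, Basis.toMatrix_apply, hE, Pi.basisFun_repr]
  set X : GL (Fin n) K := ⟨x, y, hxy, hyx⟩ with hX
  refine ⟨X, ?_⟩
  rw [eq_mul_inv_iff_mul_eq]
  apply Units.ext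
  rw [Units.val_mul]
  ext i j
  have h1 := congrFun (hB'fix j) i
  rw [hφ, frobMap_apply] at h1
  rw [Matrix.mul_apply]
  show ∑ k, (g : Matrix (Fin n) (Fin n) K) i k * σ (x k j) = x i j
  rw [hxij, ← h1]
  simp only [Matrix.mulVec, dotProduct, hxij]

end Cfsg.Agent.S2665
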