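import Mathlib
import Cfsg.Statements.S2666

set_option autoImplicit false
open scoped Pointwise
open Cfsg

namespace Cfsg.Agent.S2666

theorem mem_fix {X : Type*} [Group X] (τ : MulAut X) (y : X) :
    y ∈ (MulEquiv.toMonoidHom τ).eqLocus (MonoidHom.id X) ↔ τ y = y := Iff.rfl

theorem pow_fix {X : Type*} [Group X] (σ : MulAut X) (e : ℕ) (y : X) (h : σ y = y) :
    (σ ^ e) y = y := by
  induction e with
  | zero => simp
  | succ n ih => rw [pow_succ, MulAut.mul_apply, h, ih]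

/-- norm product telescopes -/
theorem norm_eq {X : Type*} [Group X] (σ : MulAut X) (a : X) (d : ℕ) :
    ((List.range d).map (fun i => (σ ^ i) (a * (σ a)⁻¹))).prod = a * ((σ ^ d) a)⁻¹ := by
  induction d with
  | zero => simp
  | succ n ih =>
    rw [List.range_succ, List.map_append, List.prod_append, ih]
    simp only [List.map_cons, List.map_nil, List.prod_cons, List.prod_nil, mul_one]
    rw [map_mul, map_inv, pow_succ' σ n, MulAut.mul_apply]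
    have : (σ ^ n) (σ a) = σ ((σ ^ n) a) := by
      rw [← MulAut.mul_apply, ← MulAut.mul_apply, ← pow_succ, ← pow_succ']
    rw [this]; group

theorem comm_pow {X : Type*} [Group X] (σ : MulAut X) (e : ℕ) (y : X) :
    (σ ^ e) (σ y) = σ ((σ ^ e) y) := by
  rw [← MulAut.mul_apply, ← MulAut.mul_apply, ← pow_succ, ← pow_succ']

/-- the Shintani image is fixed by σ -/
theorem x_fixed {X : Type*} [Group X] (σ : MulAut X) (e : ℕ) (a : X)
    (hg : (σ ^ e) (a * (σ a)⁻¹) = a * (σ a)⁻¹) :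
    σ (((σ ^ e) a)⁻¹ * a) = ((σ ^ e) a)⁻¹ * a := by
  rw [map_mul, map_inv] at hg
  rw [map_mul, map_inv, ← comm_pow]
  calc ((σ ^ e) (σ a))⁻¹ * σ a = ((σ ^ e) a)⁻¹ * ((σ ^ e) a * ((σ ^ e) (σ a))⁻¹) * σ a := by group
    _ = ((σ ^ e) a)⁻¹ * (a * (σ a)⁻¹) * σ a := by rw [hg]
    _ = _ := by group

theorem result {X : Type*} [Group X] (σ : MulAut X) (e : ℕ) (he : 1 ≤ e)
    (hL : ∀ g : X, ∃ a : X, g = a * (σ a)⁻¹) (hLe : ∀ g : X, ∃ a : X, g = a * ((σ ^ e) a)⁻¹) :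
    (∀ g ∈ (MulEquiv.toMonoidHom (σ ^ e)).eqLocus (MonoidHom.id X), ∀ a : X, g = a * (σ a)⁻¹ →
        ((σ ^ e) a)⁻¹ * a ∈ (MulEquiv.toMonoidHom σ).eqLocus (MonoidHom.id X) ∧
          a⁻¹ * ((List.range e).map (fun i => (σ ^ i) g)).prod * a = ((σ ^ e) a)⁻¹ * a) ∧
    (∀ g ∈ (MulEquiv.toMonoidHom (σ ^ e)).eqLocus (MonoidHom.id X), ∀ g' ∈ (MulEquiv.toMonoidHom (σ ^ e)).eqLocus (MonoidHom.id X), ∀ a b : X,
        g = a * (σ a)⁻¹ → g' = b * (σ b)⁻¹ →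
          ((∃ k ∈ (MulEquiv.toMonoidHom (σ ^ e)).eqLocus (MonoidHom.id X), g' = k * g * (σ k)⁻¹) ↔
            (∃ h ∈ (MulEquiv.toMonoidHom σ).eqLocus (MonoidHom.id X), ((σ ^ e) b)⁻¹ * b = h * (((σ ^ e) a)⁻¹ * a) * h⁻¹))) ∧
    (∀ x ∈ (MulEquiv.toMonoidHom σ).eqLocus (MonoidHom.id X), ∃ g ∈ (MulEquiv.toMonoidHom (σ ^ e)).eqLocus (MonoidHom.id X), ∃ a : X,
        g = a * (σ a)⁻¹ ∧ ((σ ^ e) a)⁻¹ * a = x) := by
  simp only [mem_fix]
  refine ⟨?_, ?_, ?_⟩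
  · intro g hg a ha
    subst ha
    refine ⟨x_fixed σ e a hg, ?_⟩
    rw [norm_eq]; group
  · intro g hg g' hg' a b ha hb
    subst ha hb
    constructor
    · rintro ⟨k, hk, hkk⟩
      have hσh : σ (b⁻¹ * k * a) = b⁻¹ * k * a := by
        rw [map_mul, map_mul, map_inv]
        have : σ k = (k * (a * (σ a)⁻¹))⁻¹ * (b * (σ b)⁻¹) * σ k * σ k := by
          rw [hkk]; group
        calc (σ b)⁻¹ * σ k * σ a = b⁻¹ * (b * (σ b)⁻¹) * σ k * σ a := by group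
          _ = b⁻¹ * (k * (a * (σ a)⁻¹) * (σ k)⁻¹) * σ k * σ a := by rw [hkk]
          _ = _ := by group
      refine ⟨b⁻¹ * k * a, hσh, ?_⟩
      have hτh := pow_fix σ e _ hσh
      rw [map_mul, map_mul, map_inv, hk] at hτh
      set ta := (σ ^ e) a
      set tb := (σ ^ e) b
      -- hτh : tb⁻¹ * k * ta = b⁻¹ * k * a
      calc tb⁻¹ * b = (tb⁻¹ * k * ta) * ta⁻¹ * k⁻¹ * b := by group
        _ = (b⁻¹ * k * a) * ta⁻¹ * k⁻¹ * b := by rw [hτh]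
        _ = _ := by group
    · rintro ⟨h, hh, hx⟩
      have hτh := pow_fix σ e _ hh
      refine ⟨b * h * a⁻¹, ?_, ?_⟩
      · rw [map_mul, map_mul, map_inv, hτh]
        set ta := (σ ^ e) a
        set tb := (σ ^ e) b
        calc tb * h * ta⁻¹ = tb * (h * (ta⁻¹ * a) * h⁻¹) * h * a⁻¹ := by group
          _ = tb * (tb⁻¹ * b) * h * a⁻¹ := by rw [hx]
          _ = _ := by group
      · rw [map_mul, map_mul, map_inv, hh]; group
  · intro x hx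
    obtain ⟨a, hxc⟩ : ∃ a : X, ((σ ^ e) a)⁻¹ * a = x := by
      obtain ⟨c, hc⟩ := hLe x⁻¹
      refine ⟨c⁻¹, ?_⟩
      rw [map_inv, inv_inv]
      calc (σ ^ e) c * c⁻¹ = (c * ((σ ^ e) c)⁻¹)⁻¹ := by group
        _ = x := by rw [← hc, inv_inv]
    refine ⟨a * (σ a)⁻¹, ?_, a, rfl, hxc⟩
    -- fixed by σ^e
    have hσx : σ (((σ ^ e) a)⁻¹ * a) = ((σ ^ e) a)⁻¹ * a := by rw [hxc, hx]
    rw [map_mul, map_inv, ← comm_pow] at hσx
    rw [map_mul, map_inv]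
    calc (σ ^ e) a * ((σ ^ e) (σ a))⁻¹ = (σ ^ e) a * (((σ ^ e) (σ a))⁻¹ * σ a) * (σ a)⁻¹ := by group
      _ = (σ ^ e) a * (((σ ^ e) a)⁻¹ * a) * (σ a)⁻¹ := by rw [hσx]
      _ = _ := by group

end Cfsg.Agent.S2666
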