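import Mathlib
import Cfsg.Statements.S2667

set_option autoImplicit false
open scoped Pointwise
open Cfsg

namespace Cfsg.Agent.S2667

theorem mem_fix {X : Type*} [Group X] (τ : MulAut X) (y : X) :
    y ∈ (MulEquiv.toMonoidHom τ).eqLocus (MonoidHom.id X) ↔ τ y = y := Iff.rfl

theorem pow_fix {X : Type*} [Group X] (σ : MulAut X) (e : ℕ) (y : X) (h : σ y = y) :
    (σ ^ e) y = y := by
  induction e with
  | zero => simp
  | succ n ih => rw [pow_succ, MulAut.mul_apply, h, ih]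

theorem result {X : Type*} [Group X] (σ : MulAut X) (e : ℕ) (he : 1 ≤ e)
    (g : X) (hg : g ∈ (MulEquiv.toMonoidHom (σ ^ e)).eqLocus (MonoidHom.id X)) (a : X) (ha : g = a * (σ a)⁻¹) (k : X) :
    (k ∈ (MulEquiv.toMonoidHom (σ ^ e)).eqLocus (MonoidHom.id X) ∧ k * g * (σ k)⁻¹ = g) ↔
      (a⁻¹ * k * a ∈ (MulEquiv.toMonoidHom σ).eqLocus (MonoidHom.id X) ∧
        (a⁻¹ * k * a) * (((σ ^ e) a)⁻¹ * a) = (((σ ^ e) a)⁻¹ * a) * (a⁻¹ * k * a)) := by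
  rw [mem_fix, mem_fix]
  -- first: k g σ(k)⁻¹ = g ↔ σ (a⁻¹ k a) = a⁻¹ k a
  have key1 : k * g * (σ k)⁻¹ = g ↔ σ (a⁻¹ * k * a) = a⁻¹ * k * a := by
    rw [map_mul, map_mul, map_inv, ha]
    constructor
    · intro h
      have h2 : σ k = σ a * a⁻¹ * k * a * (σ a)⁻¹ := by
        have h3 : k * (a * (σ a)⁻¹) = a * (σ a)⁻¹ * σ k := mul_inv_eq_iff_eq_mul.mp h
        calc σ k = (a * (σ a)⁻¹)⁻¹ * (a * (σ a)⁻¹ * σ k) := by group
          _ = (a * (σ a)⁻¹)⁻¹ * (k * (a * (σ a)⁻¹)) := by rw [h3]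
          _ = _ := by group
      rw [h2]; group
    · intro h
      have h2 : σ k = σ a * a⁻¹ * k * a * (σ a)⁻¹ := by
        calc σ k = σ a * ((σ a)⁻¹ * σ k * σ a) * (σ a)⁻¹ := by group
          _ = σ a * (a⁻¹ * k * a) * (σ a)⁻¹ := by rw [h]
          _ = _ := by group
      rw [h2]; group
  rw [key1]
  constructor
  · rintro ⟨hk, h1⟩
    refine ⟨h1, ?_⟩
    have h2 := pow_fix σ e _ h1
    rw [map_mul, map_mul, map_inv, hk] at h2
    -- h2 : b⁻¹ * k * b = a⁻¹ * k * a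
    set b := (σ ^ e) a with hb
    have h3 : k = b * (a⁻¹ * k * a) * b⁻¹ := by rw [← h2]; group
    calc a⁻¹ * k * a * (b⁻¹ * a) = a⁻¹ * k * a * b⁻¹ * a := by group
      _ = b⁻¹ * (b * (a⁻¹ * k * a) * b⁻¹) * a := by group
      _ = b⁻¹ * k * a := by rw [← h3]
      _ = _ := by group
  · rintro ⟨h1, hc⟩
    refine ⟨?_, h1⟩
    have h2 := pow_fix σ e _ h1
    rw [map_mul, map_mul, map_inv] at h2
    set b := (σ ^ e) a with hb
    -- h2 : b⁻¹ * (σ^e k) * b = a⁻¹ * k * a ; hc: a⁻¹ k a b⁻¹ a = b⁻¹ a a⁻¹ k a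
    have h3 : a⁻¹ * k * a = b⁻¹ * k * b := by
      calc a⁻¹ * k * a = (a⁻¹ * k * a * (b⁻¹ * a)) * (a⁻¹ * b) := by group
        _ = (b⁻¹ * a * (a⁻¹ * k * a)) * (a⁻¹ * b) := by rw [hc]
        _ = _ := by group
    rw [h3] at h2
    calc (σ ^ e) k = b * (b⁻¹ * (σ ^ e) k * b) * b⁻¹ := by group
      _ = b * (b⁻¹ * k * b) * b⁻¹ := by rw [h2]
      _ = k := by group

end Cfsg.Agent.S2667
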