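import Mathlib
import Cfsg.Statements.S2668

set_option autoImplicit false
open scoped Pointwise
open Cfsg

namespace Cfsg.Agent.S2668

theorem mem_fix {X : Type*} [Group X] (τ : MulAut X) (y : X) :
    y ∈ (MulEquiv.toMonoidHom τ).eqLocus (MonoidHom.id X) ↔ τ y = y := Iff.rfl

theorem pow_fix {X : Type*} [Group X] (σ : MulAut X) (e : ℕ) (y : X) (h : σ y = y) :
    (σ ^ e) y = y := by
  induction e with
  | zero => simp
  | succ n ih => rw [pow_succ, MulAut.mul_apply, h, ih]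

/-- norm product telescopes -/
theorem norm_eq {X : Type*} [Group X] (σ : MulAut X) (a : X) (d : ℕ) :
    ((List.range d).map (fun i => (σ ^ i) (a * (σ a)⁻¹))).prod = a * ((σ ^ d) a)⁻¹ := by
  induction d with
  | zero => simp
  | succ n ih =>
    rw [List.range_succ, List.map_append, List.prod_append, ih]
    simp only [List.map_cons, List.map_nil, List.prod_cons, List.prod_nil, mul_one]
    rw [map_mul, map_inv, pow_succ' σ n, MulAut.mul_apply]
    have : (σ ^ n) (σ a) = σ ((σ ^ n) a) := by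
      rw [← MulAut.mul_apply, ← MulAut.mul_apply, ← pow_succ, ← pow_succ']
    rw [this]; group

theorem pow_quot {X : Type*} [Group X] (τ : MulAut X) (a : X) (hx : τ ((τ a)⁻¹ * a) = (τ a)⁻¹ * a)
    (n : ℕ) : ((τ ^ n) a)⁻¹ * a = ((τ a)⁻¹ * a) ^ n := by
  induction n with
  | zero => simp
  | succ n ih =>
    have h1 : τ (((τ ^ n) a)⁻¹ * a) = ((τ ^ (n+1)) a)⁻¹ * τ a := by
      rw [map_mul, map_inv, pow_succ' τ n, MulAut.mul_apply]
    have h2 : τ (((τ a)⁻¹ * a) ^ n) = ((τ a)⁻¹ * a) ^ n := by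
      rw [map_pow, hx]
    rw [ih, h2] at h1
    rw [pow_succ (((τ a)⁻¹ * a)), h1]; group

theorem result {X : Type*} [Group X] (σ : MulAut X) (e d : ℕ) (he : 1 ≤ e) (hd : 1 ≤ d)
    (g : X) (hg : g ∈ (MulEquiv.toMonoidHom (σ ^ e)).eqLocus (MonoidHom.id X)) (a : X) (ha : g = a * (σ a)⁻¹) :
    ((List.range d).map (fun i => (σ ^ i) g)).prod = a * ((σ ^ d) a)⁻¹ ∧
      ((List.range d).map (fun i => (σ ^ i) g)).prod ∈ (MulEquiv.toMonoidHom ((σ ^ d) ^ e)).eqLocus (MonoidHom.id X) ∧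
      (((σ ^ d) ^ e) a)⁻¹ * a = (((σ ^ e) a)⁻¹ * a) ^ d := by
  rw [mem_fix] at hg
  have hcomm : (σ ^ d) ^ e = (σ ^ e) ^ d := by rw [← pow_mul, ← pow_mul, mul_comm]
  have hcs : ∀ (i : ℕ) (y : X), (σ ^ e) ((σ ^ i) y) = (σ ^ i) ((σ ^ e) y) := by
    intro i y
    rw [← MulAut.mul_apply, ← MulAut.mul_apply, ← pow_add, ← pow_add, add_comm]
  refine ⟨by rw [ha]; exact norm_eq σ a d, ?_, ?_⟩
  · rw [hcomm]
    have : ((List.range d).map (fun i => (σ ^ i) g)).prod ∈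
        (MulEquiv.toMonoidHom (σ ^ e)).eqLocus (MonoidHom.id X) := by
      apply Subgroup.list_prod_mem
      intro y hy
      rw [List.mem_map] at hy
      obtain ⟨i, _, rfl⟩ := hy
      rw [mem_fix, hcs, hg]
    rw [mem_fix] at this ⊢
    exact pow_fix _ _ _ this
  · rw [hcomm]
    apply pow_quot
    -- x fixed by σ^e
    apply pow_fix
    -- σ x = x
    have h1 : (σ ^ e) a * ((σ ^ e) (σ a))⁻¹ = a * (σ a)⁻¹ := by
      rw [← ha, ← map_inv, ← map_mul, ← ha, hg]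
    have h2 : (σ ^ e) (σ a) = σ ((σ ^ e) a) := by
      have := hcs 1 a
      simpa using this
    rw [map_mul, map_inv, ← h2]
    calc ((σ ^ e) (σ a))⁻¹ * σ a = ((σ ^ e) a)⁻¹ * ((σ ^ e) a * ((σ ^ e) (σ a))⁻¹) * σ a := by group
      _ = ((σ ^ e) a)⁻¹ * (a * (σ a)⁻¹) * σ a := by rw [h1]
      _ = _ := by group

end Cfsg.Agent.S2668
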