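import Mathlib
import Cfsg.Statements.S2669

set_option autoImplicit false
open scoped Pointwise
open Cfsg

namespace Cfsg.Agent.S2669

theorem mem_fix {X : Type*} [Group X] (τ : MulAut X) (y : X) :
    y ∈ (MulEquiv.toMonoidHom τ).eqLocus (MonoidHom.id X) ↔ τ y = y := Iff.rfl

theorem pow_fix {X : Type*} [Group X] (σ : MulAut X) (e : ℕ) (y : X) (h : σ y = y) :
    (σ ^ e) y = y := by
  induction e with
  | zero => simp
  | succ n ih => rw [pow_succ, MulAut.mul_apply, h, ih]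

theorem pow_stable {X : Type*} [Group X] (σ : MulAut X) (Y : Subgroup X)
    (hY : ∀ y : X, y ∈ Y ↔ σ y ∈ Y) (e : ℕ) (y : X) (h : y ∈ Y) : (σ ^ e) y ∈ Y := by
  induction e with
  | zero => simpa using h
  | succ n ih => rw [pow_succ', MulAut.mul_apply]; exact (hY _).mp ih

/-- counting a relation through its first projection, when all fibres are equivalent to a fixed type -/
theorem card_rel {α β : Type*} (R : Set (α × β)) (K : Set α) (T : Type*)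
    (h1 : ∀ p ∈ R, p.1 ∈ K) (e' : ∀ k ∈ K, Nonempty ({b : β // (k, b) ∈ R} ≃ T)) :
    Nat.card R = Nat.card K * Nat.card T := by
  have e : ∀ k ∈ K, {b : β // (k, b) ∈ R} ≃ T := fun k hk => Classical.choice (e' k hk)
  rw [← Nat.card_prod]
  apply Nat.card_congr
  refine
    { toFun := fun p => (⟨p.1.1, h1 p.1 p.2⟩, e p.1.1 (h1 p.1 p.2) ⟨p.1.2, p.2⟩)
      invFun := fun kt => ⟨(kt.1.1, ((e kt.1.1 kt.1.2).symm kt.2).1), ((e kt.1.1 kt.1.2).symm kt.2).2⟩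
      left_inv := ?_
      right_inv := ?_ }
  · rintro ⟨⟨k, b⟩, hp⟩
    simp
  · rintro ⟨⟨k, hk⟩, t⟩
    simp

/-- a nonempty "coset-like" set is equivalent to the intersection subgroup -/
noncomputable def cosetEquiv {X : Type*} [Group X] (A B : Subgroup X) (c b₀ : X) (hb₀ : b₀ ∈ A)
    (hcb₀ : c * b₀ ∈ B) : {b : X // b ∈ A ∧ c * b ∈ B} ≃ ↥(A ⊓ B) where
  toFun b := ⟨b₀⁻¹ * b.1, A.mul_mem (A.inv_mem hb₀) b.2.1, by
    have : b₀⁻¹ * b.1 = (c * b₀)⁻¹ * (c * b.1) := by group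
    rw [this]
    exact B.mul_mem (B.inv_mem hcb₀) b.2.2⟩
  invFun t := ⟨b₀ * t.1, A.mul_mem hb₀ t.2.1, by
    have : c * (b₀ * t.1) = (c * b₀) * t.1 := by group
    rw [this]
    exact B.mul_mem hcb₀ t.2.2⟩
  left_inv b := by
    apply Subtype.ext
    show b₀ * (b₀⁻¹ * b.1) = b.1
    group
  right_inv t := by
    apply Subtype.ext
    show b₀⁻¹ * (b₀ * t.1) = t.1
    group

theorem result {X : Type*} [Group X] (σ : MulAut X) (e : ℕ) (he : 1 ≤ e)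
    [Finite ↥((MulEquiv.toMonoidHom (σ ^ e)).eqLocus (MonoidHom.id X))]
    (Y : Subgroup X) (hY : ∀ y : X, y ∈ Y ↔ σ y ∈ Y)
    (hYL : ∀ y ∈ Y, ∃ a ∈ Y, y = a * (σ a)⁻¹) (hYLe : ∀ y ∈ Y, ∃ a ∈ Y, y = a * ((σ ^ e) a)⁻¹)
    (g : X) (hg : g ∈ (MulEquiv.toMonoidHom (σ ^ e)).eqLocus (MonoidHom.id X)) (a : X) (ha : g = a * (σ a)⁻¹) :
    Nat.card {k : ↥((MulEquiv.toMonoidHom (σ ^ e)).eqLocus (MonoidHom.id X)) // (k : X)⁻¹ * g * σ k ∈ Y} *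
        Nat.card ↥(Y ⊓ (MulEquiv.toMonoidHom σ).eqLocus (MonoidHom.id X)) =
      Nat.card {h : ↥((MulEquiv.toMonoidHom σ).eqLocus (MonoidHom.id X)) // (h : X)⁻¹ * (((σ ^ e) a)⁻¹ * a) * h ∈ Y} *
        Nat.card ↥(Y ⊓ (MulEquiv.toMonoidHom (σ ^ e)).eqLocus (MonoidHom.id X)) := by
  set τ := σ ^ e with hτ
  set Gs := (MulEquiv.toMonoidHom τ).eqLocus (MonoidHom.id X) with hGs
  set Hs := (MulEquiv.toMonoidHom σ).eqLocus (MonoidHom.id X) with hHs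
  set x := (τ a)⁻¹ * a with hx
  -- the two relations
  set TrA : Set (X × X) := {p | p.1 ∈ Gs ∧ p.2 ∈ Y ∧ a⁻¹ * p.1 * p.2 ∈ Hs} with hTrA
  set TrB : Set (X × X) := {p | p.1 ∈ Hs ∧ p.2 ∈ Y ∧ a * p.1 * p.2 ∈ Gs} with hTrB
  set K1 : Set X := {k | k ∈ Gs ∧ k⁻¹ * g * σ k ∈ Y} with hK1
  set K2 : Set X := {h | h ∈ Hs ∧ h⁻¹ * x * h ∈ Y} with hK2
  -- TrA ≃ TrB
  have hAB : Nat.card TrA = Nat.card TrB := by
    apply Nat.card_congr
    refine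
      { toFun := fun p => ⟨(a⁻¹ * p.1.1 * p.1.2, (p.1.2)⁻¹), p.2.2.2, Y.inv_mem p.2.2.1, ?_⟩
        invFun := fun p => ⟨(a * p.1.1 * p.1.2, (p.1.2)⁻¹), p.2.2.2, Y.inv_mem p.2.2.1, ?_⟩
        left_inv := ?_
        right_inv := ?_ }
    · show a * (a⁻¹ * p.1.1 * p.1.2) * (p.1.2)⁻¹ ∈ Gs
      have : a * (a⁻¹ * p.1.1 * p.1.2) * (p.1.2)⁻¹ = p.1.1 := by group
      rw [this]; exact p.2.1
    · show a⁻¹ * (a * p.1.1 * p.1.2) * (p.1.2)⁻¹ ∈ Hs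
      have : a⁻¹ * (a * p.1.1 * p.1.2) * (p.1.2)⁻¹ = p.1.1 := by group
      rw [this]; exact p.2.1
    · rintro ⟨⟨k, b⟩, hp⟩
      apply Subtype.ext
      show (a * (a⁻¹ * k * b) * b⁻¹, b⁻¹⁻¹) = (k, b)
      rw [inv_inv]
      congr 1
      group
    · rintro ⟨⟨h, b⟩, hp⟩
      apply Subtype.ext
      show (a⁻¹ * (a * h * b) * b⁻¹, b⁻¹⁻¹) = (h, b)
      rw [inv_inv]
      congr 1
      group
  -- count TrA
  have hA : Nat.card TrA = Nat.card K1 * Nat.card ↥(Y ⊓ Hs) := by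
    apply card_rel TrA K1
    · rintro ⟨k, b⟩ ⟨hk, hb, hh⟩
      refine ⟨hk, ?_⟩
      show k⁻¹ * g * σ k ∈ Y
      rw [mem_fix] at hh
      have h1 : k⁻¹ * g * σ k = b * (σ b)⁻¹ := by
        rw [map_mul, map_mul, map_inv] at hh
        rw [ha]
        calc k⁻¹ * (a * (σ a)⁻¹) * σ k = k⁻¹ * a * ((σ a)⁻¹ * σ k * σ b) * (σ b)⁻¹ := by group
          _ = k⁻¹ * a * (a⁻¹ * k * b) * (σ b)⁻¹ := by rw [hh]
          _ = _ := by group
      rw [h1]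
      exact Y.mul_mem hb (Y.inv_mem ((hY b).mp hb))
    · rintro k ⟨hk, hky⟩
      obtain ⟨b₀, hb₀, hb₀'⟩ := hYL _ hky
      have hcb₀ : a⁻¹ * k * b₀ ∈ Hs := by
        rw [mem_fix, map_mul, map_mul, map_inv]
        rw [ha] at hb₀'
        calc (σ a)⁻¹ * σ k * σ b₀ = a⁻¹ * k * (k⁻¹ * (a * (σ a)⁻¹) * σ k) * σ b₀ := by group
          _ = a⁻¹ * k * (b₀ * (σ b₀)⁻¹) * σ b₀ := by rw [hb₀']
          _ = _ := by group
      have e1 : {b : X // (k, b) ∈ TrA} ≃ {b : X // b ∈ Y ∧ a⁻¹ * k * b ∈ Hs} :=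
        Equiv.subtypeEquivRight (fun b => by
          show (k ∈ Gs ∧ b ∈ Y ∧ a⁻¹ * k * b ∈ Hs) ↔ _
          exact ⟨fun h => h.2, fun h => ⟨hk, h⟩⟩)
      exact ⟨e1.trans (cosetEquiv Y Hs (a⁻¹ * k) b₀ hb₀ hcb₀)⟩
  -- count TrB
  have hB : Nat.card TrB = Nat.card K2 * Nat.card ↥(Y ⊓ Gs) := by
    apply card_rel TrB K2
    · rintro ⟨h, b⟩ ⟨hh, hb, hk⟩
      refine ⟨hh, ?_⟩
      show h⁻¹ * x * h ∈ Y
      rw [mem_fix] at hh hk
      have hτh : τ h = h := pow_fix σ e h hh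
      have h1 : h⁻¹ * x * h = τ b * b⁻¹ := by
        rw [map_mul, map_mul, hτh] at hk
        rw [hx]
        calc h⁻¹ * ((τ a)⁻¹ * a) * h = h⁻¹ * (τ a)⁻¹ * (a * h * b) * b⁻¹ := by group
          _ = h⁻¹ * (τ a)⁻¹ * (τ a * h * τ b) * b⁻¹ := by rw [hk]
          _ = _ := by group
      rw [h1]
      exact Y.mul_mem (pow_stable σ Y hY e b hb) (Y.inv_mem hb)
    · rintro h ⟨hh, hhy⟩
      obtain ⟨c, hc, hc'⟩ := hYLe _ (Y.inv_mem hhy)
      have hτh : τ h = h := pow_fix σ e h hh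
      have hcb₀ : a * h * c ∈ Gs := by
        rw [mem_fix, map_mul, map_mul, hτh]
        have h2 : h⁻¹ * x * h = τ c * c⁻¹ := by
          calc h⁻¹ * x * h = ((h⁻¹ * x * h)⁻¹)⁻¹ := by rw [inv_inv]
            _ = (c * (τ c)⁻¹)⁻¹ := by rw [hc']
            _ = _ := by group
        rw [hx] at h2
        calc τ a * h * τ c = τ a * h * (τ c * c⁻¹) * c := by group
          _ = τ a * h * (h⁻¹ * ((τ a)⁻¹ * a) * h) * c := by rw [h2]
          _ = _ := by group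
      have e1 : {b : X // (h, b) ∈ TrB} ≃ {b : X // b ∈ Y ∧ a * h * b ∈ Gs} :=
        Equiv.subtypeEquivRight (fun b => by
          show (h ∈ Hs ∧ b ∈ Y ∧ a * h * b ∈ Gs) ↔ _
          exact ⟨fun h' => h'.2, fun h' => ⟨hh, h'⟩⟩)
      exact ⟨e1.trans (cosetEquiv Y Gs (a * h) c hc hcb₀)⟩
  -- relate K1, K2 to the subtypes in the statement
  have hK1c : Nat.card {k : ↥Gs // (k : X)⁻¹ * g * σ k ∈ Y} = Nat.card K1 := by
    apply Nat.card_congr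
    exact
      { toFun := fun k => ⟨k.1.1, k.1.2, k.2⟩
        invFun := fun k => ⟨⟨k.1, k.2.1⟩, k.2.2⟩
        left_inv := fun k => rfl
        right_inv := fun k => rfl }
  have hK2c : Nat.card {h : ↥Hs // (h : X)⁻¹ * x * h ∈ Y} = Nat.card K2 := by
    apply Nat.card_congr
    exact
      { toFun := fun k => ⟨k.1.1, k.1.2, k.2⟩
        invFun := fun k => ⟨⟨k.1, k.2.1⟩, k.2.2⟩
        left_inv := fun k => rfl
        right_inv := fun k => rfl }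
  rw [hK1c, hK2c, ← hA, ← hB, hAB]

end Cfsg.Agent.S2669
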