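import Mathlib
import Cfsg.Statements.S2670
import Cfsg.Agent.Lib.Helper13.ProjCount

set_option autoImplicit false
set_option linter.style.haveILetI false
open Cfsg

namespace Cfsg.Agent.S2670

open Polynomial Cfsg.Agent.Helper13.SS Cfsg.Agent.Helper13.ProjP

section aux
variable {F : Type*} [Field F] [Fintype F] {n r : ℕ}

/-- an element of `GL_n(F)` whose `r`-th power is a given non-power scalar -/
theorem exists_pow_eq_sc (hr : r.Prime) (hrn : r ∣ n) (c : Fˣ) (hc : ∀ b : F, b ^ r ≠ (c : F)) :
    ∃ g : GL (Fin n) F, g ^ r = sc c := by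
  classical
  set f : F[X] := X ^ r - C (c : F) with hf
  have hirr : Irreducible f := X_pow_sub_C_irreducible_of_prime hr hc
  have hmon : f.Monic := monic_X_pow_sub_C _ hr.ne_zero
  have hdeg : f.natDegree = r := natDegree_X_pow_sub_C
  obtain ⟨g₀, hg₀, -, -⟩ := realC_congr
    (realC_sum f {f} (fun x hx => by rw [Finset.mem_singleton.1 hx]; exact hirr)
      (fun x hx => by rw [Finset.mem_singleton.1 hx]; exact hmon)
      (fun x hx => by rw [Finset.mem_singleton.1 hx]) (fun _ => n / r) {f} subset_rfl)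
    (d' := fun x => if x ∈ ({f} : Finset F[X]) then n / r * x.natDegree else 0)
    (c' := ∏ x ∈ ({f} : Finset F[X]), x ^ (n / r)) (m' := n)
    (fun _ _ => rfl) rfl (by rw [Finset.sum_singleton, hdeg, Nat.div_mul_cancel hrn])
  have h1 : g₀ ^ r = (c : F) • (1 : Module.End F (Fin n → F)) := by
    rw [hf, map_sub, map_pow, aeval_X, aeval_C, sub_eq_zero,
      Algebra.algebraMap_eq_smul_one] at hg₀
    exact hg₀
  set M₀ : Matrix (Fin n) (Fin n) F := LinearMap.toMatrixAlgEquiv' g₀ with hM₀
  have h2 : M₀ ^ r = Matrix.diagonal (fun _ => (c : F)) := by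
    rw [hM₀, ← map_pow, h1, map_smul, map_one, Matrix.smul_one_eq_diagonal]
  have hdet : M₀.det ≠ 0 := by
    intro h0
    have h3 := congrArg Matrix.det h2
    rw [Matrix.det_pow, h0, zero_pow hr.ne_zero, Matrix.det_diagonal, Finset.prod_const] at h3
    exact pow_ne_zero _ c.ne_zero h3.symm
  refine ⟨Matrix.GeneralLinearGroup.mkOfDetNeZero M₀ hdet, ?_⟩
  apply Units.ext
  rw [Units.val_pow_eq_pow_val, sc_val]
  exact h2

/-- the hypotheses of the abstract count hold for `GL_n(F)` -/
theorem setup_gl (p : ℕ) [Fact p.Prime] [CharP F p] (hr : r.Prime) :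
    Setup (MonoidHom.id (GL (Fin n) F)) (⊤ : Subgroup Fˣ) r where
  inj := fun _ _ h => h
  center := by
    intro g
    rw [Matrix.GeneralLinearGroup.center_eq_range_scalar]
    constructor
    · rintro ⟨c, hc⟩
      exact ⟨c, Subgroup.mem_top c, hc.symm⟩
    · rintro ⟨c, -, hc⟩
      exact ⟨c, hc.symm⟩
  diag := by
    intro d _
    have hdet : (Matrix.diagonal (fun i => (d i : F))).det ≠ 0 := by
      rw [Matrix.det_diagonal, Finset.prod_ne_zero_iff]
      exact fun i _ => (d i).ne_zero
    exact ⟨Matrix.GeneralLinearGroup.mkOfDetNeZero _ hdet, rfl⟩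
  conj := by
    intro g h M hM hMF hgM hhM hc
    have hp : p.Prime := Fact.out
    have hMp : M.Coprime p := by
      apply Nat.Coprime.symm
      rw [Nat.Prime.coprime_iff_not_dvd hp]
      intro hd
      exact hMF ((CharP.cast_eq_zero_iff F p M).2 hd)
    exact isConj_of_charpoly_eq (p := p) g h
      (Nat.Coprime.coprime_dvd_left (orderOf_dvd_of_pow_eq_one hgM) hMp)
      (Nat.Coprime.coprime_dvd_left (orderOf_dvd_of_pow_eq_one hhM) hMp) hc
  irr := by
    intro c _ hc b hb
    have hb0 : b ≠ 0 := by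
      rintro rfl
      rw [zero_pow hr.ne_zero] at hb
      exact c.ne_zero hb.symm
    apply hc (Units.mk0 b hb0) (Subgroup.mem_top _)
    apply Units.ext
    rw [Units.val_pow_eq_pow_val, Units.val_mk0, hb]
  exB := by
    intro hrn c _ hc
    have hc' : ∀ b : F, b ^ r ≠ (c : F) := by
      intro b hb
      have hb0 : b ≠ 0 := by
        rintro rfl
        rw [zero_pow hr.ne_zero] at hb
        exact c.ne_zero hb.symm
      apply hc (Units.mk0 b hb0) (Subgroup.mem_top _)
      apply Units.ext
      rw [Units.val_pow_eq_pow_val, Units.val_mk0, hb]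
    exact exists_pow_eq_sc hr hrn c hc'

end aux

/-- Number of conjugacy classes of elements of prime order r in PGL_n(q) = GL_n(q)/scalars when r divides q − 1 (n ≥ 2): the classes of elements with a diagonalisable lift correspond to the orbits of the cyclic rotation on the r-tuples of eigenvalue multiplicities (a_0, …, a_(r−1)) summing to n with every a_j < n, and when r divides n there are r − 1 further classes (lifts acting irreducibly on blocks of size r); in all (C(n+r−1, r−1) − r − [r ∣ n])/r + r·[r ∣ n] classes. -/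
theorem result {F : Type*} [Field F] [Fintype F] {q : ℕ} (hF : Fintype.card F = q) {n r : ℕ} (hn : 2 ≤ n) (hr : r.Prime) (hrq : r ∣ q - 1) : Nat.card {C : ConjClasses (GL (Fin n) F ⧸ Subgroup.center (GL (Fin n) F)) // ∃ g : GL (Fin n) F ⧸ Subgroup.center (GL (Fin n) F), ConjClasses.mk g = C ∧ orderOf g = r} = (Nat.choose (n + r - 1) (r - 1) - r - (if r ∣ n then 1 else 0)) / r + r * (if r ∣ n then 1 else 0) := by
  classical
  obtain ⟨p, hchar⟩ := CharP.exists F
  haveI := hchar
  haveI : Fact p.Prime := ⟨CharP.char_is_prime F p⟩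
  have hp : p.Prime := Fact.out
  have hS := setup_gl (F := F) (n := n) p hr
  have hcardA : Nat.card (⊤ : Subgroup Fˣ) = q - 1 := by
    rw [Subgroup.card_top, Nat.card_eq_fintype_card, Fintype.card_units, hF]
  have hrA : r ∣ Nat.card (⊤ : Subgroup Fˣ) := by rw [hcardA]; exact hrq
  have hrF : (r : F) ≠ 0 := by
    intro h0
    have h1 : p ∣ r := (CharP.cast_eq_zero_iff F p r).1 h0
    have h2 : p = r := (Nat.prime_dvd_prime_iff_eq hp hr).1 h1
    subst h2
    -- `p ∣ q - 1` and `p ∣ q`
    have h3 : p ∣ q := by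
      rw [← hF]
      have := FiniteField.cast_card_eq_zero F
      exact (CharP.cast_eq_zero_iff F p _).1 this
    have hq1 : 1 ≤ q := by rw [← hF]; exact Fintype.card_pos
    have h4 : p ∣ q - (q - 1) := Nat.dvd_sub h3 hrq
    have h5 : q - (q - 1) = 1 := by omega
    rw [h5] at h4
    exact hp.one_lt.ne' (Nat.dvd_one.1 h4)
  exact hS.card_classes hr hrA hrF (by omega)

end Cfsg.Agent.S2670
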