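import Mathlib
import Cfsg.Statements.S2673
import Cfsg.Agent.Lib.Helper13.OrthPrime
import Cfsg.Agent.Lib.Helper2.OrthOrders

set_option autoImplicit false
open Cfsg

namespace Cfsg.Agent.S2673

open Cfsg.Agent.Helper13 Cfsg.Agent.Helper13.SS Cfsg.Agent.Helper13.SympSS
  Cfsg.Agent.Helper13.OrthSS Polynomial

open scoped Classical

section
variable {F : Type*} [Field F] [Fintype F] {p q : ℕ} [Fact p.Prime] [CharP F p] {r : ℕ}
  {ι : Type} [Fintype ι] [DecidableEq ι]

theorem exists_rep (hF : Fintype.card F = q) (h2 : (2 : F) ≠ 0) (hr : r.Prime) (hr2 : r ≠ 2)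
    (hrp : r ≠ p) (hi0 : 0 < orderOf (q : ZMod r)) (Q : QuadraticForm F (ι → F))
    (hQ : (QuadraticMap.polarBilin Q).Nondegenerate)
    (k : {k : ↥(cycFactors F r) → ℕ // (∀ a, k (starΦ hr hr2 hrp a) = k a) ∧
      orderOf (q : ZMod r) * ∑ a, k a < Fintype.card ι}) :
    ∃ g : ↥(Cfsg.isometryGroup F ⇑Q), g ^ r = 1 ∧
      ((g : GL ι F) : Matrix ι ι F).charpoly =
        primePolyN r (Fintype.card ι) (orderOf (q : ZMod r)) k.1 := by
  have hreal := qreal_primeProd hF hr hr2 hrp hi0 k.1 k.2.1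
  have hdeg := natDegree_primeProd hF hr hrp k.1
  obtain ⟨g, hgQ, hgr, hgc⟩ := hreal.exists_end_odd h2 Q hQ (by rw [hdeg]; exact k.2.2)
  obtain ⟨x, hx, hxr, hLx⟩ := exists_gl_of_end (⇑Q) g hgQ r hr.one_lt.le hgr
  refine ⟨⟨x, hx⟩, ?_, ?_⟩
  · apply Subtype.ext
    rw [SubmonoidClass.coe_pow]
    exact hxr
  · show (x : Matrix ι ι F).charpoly = _
    rw [← LG_charpoly, hLx, hgc, hdeg]
    rfl

/-- the number of classes of elements with `g ^ r = 1` -/
theorem card_classes_pow_eq_one (hF : Fintype.card F = q) (h2 : (2 : F) ≠ 0) (hr : r.Prime)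
    (hr2 : r ≠ 2) (hrp : r ≠ p) (hi0 : 0 < orderOf (q : ZMod r)) (Q : QuadraticForm F (ι → F))
    (hQ : (QuadraticMap.polarBilin Q).Nondegenerate) (hodd : Odd (Fintype.card ι)) :
    Nat.card {C : ConjClasses ↥(Cfsg.isometryGroup F ⇑Q) //
      ∃ g : ↥(Cfsg.isometryGroup F ⇑Q), ConjClasses.mk g = C ∧ g ^ r = 1} =
    Nat.card {k : ↥(cycFactors F r) → ℕ // (∀ a, k (starΦ hr hr2 hrp a) = k a) ∧
      orderOf (q : ZMod r) * ∑ a, k a < Fintype.card ι} := by
  have hp : p.Prime := Fact.out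
  have hrF : (r : F) ≠ 0 := cast_ne_zero_of_prime_ne hr hrp
  have hrodd : Odd r := hr.odd_of_ne_two hr2
  symm
  let Θ : {k : ↥(cycFactors F r) → ℕ // (∀ a, k (starΦ hr hr2 hrp a) = k a) ∧
      orderOf (q : ZMod r) * ∑ a, k a < Fintype.card ι} →
      {C : ConjClasses ↥(Cfsg.isometryGroup F ⇑Q) //
        ∃ g : ↥(Cfsg.isometryGroup F ⇑Q), ConjClasses.mk g = C ∧ g ^ r = 1} :=
    fun k => ⟨ConjClasses.mk (exists_rep hF h2 hr hr2 hrp hi0 Q hQ k).choose,
      (exists_rep hF h2 hr hr2 hrp hi0 Q hQ k).choose, rfl,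
      (exists_rep hF h2 hr hr2 hrp hi0 Q hQ k).choose_spec.1⟩
  apply Nat.card_eq_of_bijective Θ
  constructor
  · intro k k' h
    have h2' : ConjClasses.mk (exists_rep hF h2 hr hr2 hrp hi0 Q hQ k).choose =
        ConjClasses.mk (exists_rep hF h2 hr hr2 hrp hi0 Q hQ k').choose := congrArg Subtype.val h
    rw [ConjClasses.mk_eq_mk_iff_isConj] at h2'
    have h3 := orth_charpoly_eq_of_isConj (⇑Q) h2'
    rw [(exists_rep hF h2 hr hr2 hrp hi0 Q hQ k).choose_spec.2,
      (exists_rep hF h2 hr hr2 hrp hi0 Q hQ k').choose_spec.2] at h3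
    exact Subtype.ext (primePolyN_injective hr hrp _ _ _ _ h3)
  · rintro ⟨C, g, rfl, hg⟩
    have hg' : (g : GL ι F) ^ r = 1 := by
      rw [← SubmonoidClass.coe_pow, hg]
      rfl
    obtain ⟨k, hk1, hk2, hk3⟩ := orth_charpoly_eq_primePolyN hF hr hr2 hrp Q hQ (g : GL ι F)
      (fun v => by rw [LG_apply]; exact g.2 v v) hg'
    have hk2' : orderOf (q : ZMod r) * ∑ a, k a < Fintype.card ι := by
      have hev := even_mul_sum hF hr hr2 hrp k hk1
      rcases Nat.lt_or_ge (orderOf (q : ZMod r) * ∑ a, k a) (Fintype.card ι) with h | h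
      · exact h
      · exfalso
        have : orderOf (q : ZMod r) * ∑ a, k a = Fintype.card ι := le_antisymm hk2 h
        rw [this] at hev
        exact (Nat.not_even_iff_odd.2 hodd) hev
    refine ⟨⟨k, hk1, hk2'⟩, ?_⟩
    apply Subtype.ext
    show ConjClasses.mk (exists_rep hF h2 hr hr2 hrp hi0 Q hQ ⟨k, hk1, hk2'⟩).choose =
      ConjClasses.mk g
    rw [ConjClasses.mk_eq_mk_iff_isConj]
    apply orth_isConj_of_charpoly Q hQ _ g hr.one_lt.le hrodd hrF
      (exists_rep hF h2 hr hr2 hrp hi0 Q hQ ⟨k, hk1, hk2'⟩).choose_spec.1 hg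
    rw [(exists_rep hF h2 hr hr2 hrp hi0 Q hQ ⟨k, hk1, hk2'⟩).choose_spec.2, hk3]

/-- removing the identity class -/
theorem card_order_eq (G : Type*) [Group G] [Finite G] (hr : r.Prime) :
    Nat.card {C : ConjClasses G // ∃ g : G, ConjClasses.mk g = C ∧ orderOf g = r} =
      Nat.card {C : ConjClasses G // ∃ g : G, ConjClasses.mk g = C ∧ g ^ r = 1} - 1 := by
  have hset : {C : ConjClasses G | ∃ g : G, ConjClasses.mk g = C ∧ orderOf g = r} =
      {C : ConjClasses G | ∃ g : G, ConjClasses.mk g = C ∧ g ^ r = 1} \ {ConjClasses.mk 1} := by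
    haveI : Fact r.Prime := ⟨hr⟩
    ext C
    simp only [Set.mem_setOf_eq, Set.mem_diff, Set.mem_singleton_iff]
    constructor
    · rintro ⟨g, rfl, hg⟩
      rw [orderOf_eq_prime_iff] at hg
      refine ⟨⟨g, rfl, hg.1⟩, ?_⟩
      rw [ConjClasses.mk_eq_mk_iff_isConj, isConj_one_left]
      exact hg.2
    · rintro ⟨⟨g, rfl, hg⟩, hne⟩
      refine ⟨g, rfl, ?_⟩
      rw [orderOf_eq_prime_iff]
      refine ⟨hg, ?_⟩
      rintro rfl
      exact hne rfl
  have hmem : ConjClasses.mk (1 : G) ∈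
      {C : ConjClasses G | ∃ g : G, ConjClasses.mk g = C ∧ g ^ r = 1} := ⟨1, rfl, one_pow r⟩
  have h2 := Set.ncard_diff_singleton_of_mem hmem
  rw [← hset] at h2
  rw [← Nat.card_coe_set_eq, ← Nat.card_coe_set_eq] at h2
  exact h2

theorem div_even (i m : ℕ) (hi : Even i) : (2 * m + 1) / i = 2 * m / i := by
  obtain ⟨h, rfl⟩ := hi
  rw [← two_mul, ← Nat.div_div_eq_div_mul, ← Nat.div_div_eq_div_mul]
  congr 1
  omega

end


/-- Number of conjugacy classes of elements of odd prime order r ≠ p in the orthogonal group O_(2m+1)(q) of x_0² + Σ x_j y_j, q odd: with i the multiplicative order of q mod r and t = (r − 1)/i, there are C(⌊m/i⌋ + t/2, t/2) − 1 classes if i is odd (dual pairs of totally singular i-blocks) and C(⌊(2m+1)/i⌋ + t, t) − 1 if i is even (elliptic i-blocks). -/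
theorem result {F : Type*} [Field F] [Fintype F] {p q : ℕ} [Fact p.Prime] [CharP F p] (hF : Fintype.card F = q) (hq : Odd q) (m r i t : ℕ) (hr : r.Prime) (hr2 : r ≠ 2) (hrp : r ≠ p) (hi : i = orderOf (q : ZMod r)) (ht : t * i = r - 1) : Nat.card {C : ConjClasses ↥(Cfsg.isometryGroup F (Cfsg.quadFormOdd m F)) // ∃ g : ↥(Cfsg.isometryGroup F (Cfsg.quadFormOdd m F)), ConjClasses.mk g = C ∧ orderOf g = r} = if Odd i then Nat.choose (m / i + t / 2) (t / 2) - 1 else Nat.choose ((2 * m + 1) / i + t) t - 1 := by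
  classical
  have hp : p.Prime := Fact.out
  have hr2' := hr.two_le
  have h2 : (2 : F) ≠ 0 := by
    intro h
    have h3 : ((2 : ℕ) : F) = 0 := by exact_mod_cast h
    rw [CharP.cast_eq_zero_iff F p] at h3
    have hp2 : p = 2 := (Nat.prime_dvd_prime_iff_eq hp Nat.prime_two).1 h3
    obtain ⟨n, hn, hqn⟩ := exists_card_pow (p := p) hF
    rw [hqn, hp2] at hq
    exact (Nat.not_even_iff_odd.2 hq) ((Nat.even_pow' hn.ne').2 even_two)
  have hi0 : 0 < i := by
    rcases Nat.eq_zero_or_pos i with h | h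
    · rw [h, mul_zero] at ht
      omega
    · exact h
  have hcard : Fintype.card ↥(cycFactors F r) = t := by
    have h1 := cycFactors_card hF hr hrp
    rw [← hi, ← ht] at h1
    rw [Fintype.card_coe]
    exact Nat.eq_of_mul_eq_mul_right hi0 h1
  rw [card_order_eq _ hr]
  have hQeq := Cfsg.Agent.Helper2.Orth.quadFormOdd_eq (F := F) m
  have hcι : Fintype.card (Unit ⊕ (Fin m ⊕ Fin m)) = 2 * m + 1 := by
    simp
    omega
  have hmain := card_classes_pow_eq_one (ι := Unit ⊕ (Fin m ⊕ Fin m)) hF h2 hr hr2 hrp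
    (hi ▸ hi0) (matQ (Cfsg.Agent.Helper2.Orth.oddMat m F))
    (Cfsg.Agent.Helper2.Orth.nondeg_odd m h2) (by rw [hcι]; exact ⟨m, rfl⟩)
  rw [← hQeq, ← hi, hcι] at hmain
  rw [hmain]
  have hequiv : Nat.card {k : ↥(cycFactors F r) → ℕ // (∀ a, k (starΦ hr hr2 hrp a) = k a) ∧
      i * ∑ a, k a < 2 * m + 1} =
      Nat.card {k : ↥(cycFactors F r) → ℕ // (∀ a, k (starΦ hr hr2 hrp a) = k a) ∧
      i * ∑ a, k a ≤ 2 * m} := by
    apply Nat.card_congr
    apply Equiv.subtypeEquivRight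
    intro k
    rw [Nat.lt_succ_iff]
  rw [hequiv]
  split_ifs with hodd
  · rw [card_selfdual_tuples_odd _ (starΦ_involutive hr hr2 hrp) _ i m hi0, hcard]
    intro a h
    exact dualPoly_ne_self_of_odd hF hr hr2 hrp (hi ▸ hodd) a.2 (congrArg Subtype.val h)
  · rw [card_selfdual_tuples_even _ _ i m hi0, hcard,
      div_even i m (Nat.not_odd_iff_even.1 hodd)]
    intro a
    apply Subtype.ext
    exact dualPoly_eq_self_of_even hF hr (hi ▸ hi0) (hi ▸ Nat.not_odd_iff_even.1 hodd) a.2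

end Cfsg.Agent.S2673
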