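import Mathlib
import Cfsg.Statements.S2675
import Cfsg.Agent.Lib.Helper13.OrthType6
import Cfsg.Agent.Lib.Helper13.OrthCount

set_option autoImplicit false
open Cfsg

namespace Cfsg.Agent.S2675

/-- Number of conjugacy classes of elements of odd prime order r ≠ p in the orthogonal group O⁻_2m(q) of an elliptic form Σ_(j<m−1) x_j y_j + z₁² + a z₁z₂ + c z₂² (binary part anisotropic, m ≥ 1): with i the multiplicative order of q mod r and t = (r − 1)/i — if i is odd, C(⌊m/i⌋ + t/2, t/2) − 1 minus, when i divides m, the C(m/i + t/2 − 1, t/2 − 1) tuples filling the whole space (dual pairs of totally singular blocks fill a hyperbolic space); if i is even, C(⌊2m/i⌋ + t, t) − 1 minus, when i divides 2m with even quotient, the C(2m/i + t − 1, t − 1) tuples filling the whole space with an even number of elliptic blocks. -/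
theorem result {F : Type*} [Field F] [Fintype F] {p q : ℕ} [Fact p.Prime] [CharP F p] (hF : Fintype.card F = q) (m r i t : ℕ) (hm : 1 ≤ m) (a c : F) (hac : ∀ z₁ z₂ : F, z₁ ^ 2 + a * z₁ * z₂ + c * z₂ ^ 2 = 0 → z₁ = 0 ∧ z₂ = 0) (hr : r.Prime) (hr2 : r ≠ 2) (hrp : r ≠ p) (hi : i = orderOf (q : ZMod r)) (ht : t * i = r - 1) : Nat.card {C : ConjClasses ↥(Cfsg.isometryGroup F (Cfsg.quadFormMinus (m - 1) F a c)) // ∃ g : ↥(Cfsg.isometryGroup F (Cfsg.quadFormMinus (m - 1) F a c)), ConjClasses.mk g = C ∧ orderOf g = r} = if Odd i then Nat.choose (m / i + t / 2) (t / 2) - 1 - (if i ∣ m then Nat.choose (m / i + t / 2 - 1) (t / 2 - 1) else 0) else Nat.choose (2 * m / i + t) t - 1 - (if i ∣ 2 * m ∧ Even (2 * m / i) then Nat.choose (2 * m / i + t - 1) (t - 1) else 0) := by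
  classical
  have hp : p.Prime := Fact.out
  have hr2' := hr.two_le
  have hi0 : 0 < i := by
    rcases Nat.eq_zero_or_pos i with h | h
    · rw [h, mul_zero] at ht
      omega
    · exact h
  have ht0 : 0 < t := by
    rcases Nat.eq_zero_or_pos t with h | h
    · rw [h, zero_mul] at ht
      omega
    · exact h
  have hcard : Fintype.card ↥(Cfsg.Agent.Helper13.SS.cycFactors F r) = t := by
    have h1 := Cfsg.Agent.Helper13.SS.cycFactors_card hF hr hrp
    rw [← hi, ← ht] at h1
    rw [Fintype.card_coe]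
    exact Nat.eq_of_mul_eq_mul_right hi0 h1
  rw [Cfsg.Agent.Helper13.OrthSS.card_order_eq _ hr]
  have hQeq := Cfsg.Agent.Helper2.Orth.quadFormMinus_eq (F := F) (m := m - 1) a c
  have hcι : Fintype.card ((Fin (m - 1) ⊕ Fin (m - 1)) ⊕ Fin 2) = 2 * m := by
    simp
    omega
  have hmain := Cfsg.Agent.Helper13.OrthSS.card_classes_pow_eq_one_even
    (ι := (Fin (m - 1) ⊕ Fin (m - 1)) ⊕ Fin 2)
    hF hr hr2 hrp (hi ▸ hi0) (Cfsg.Agent.Helper13.matQ (Cfsg.Agent.Helper13.minusMat (m - 1) a c))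
    (Cfsg.Agent.Helper2.Orth.nondeg_minus (m - 1) a c hac) (by rw [hcι]; exact even_two_mul m)
  rw [← hQeq, ← hi, hcι] at hmain
  rw [hmain]
  have hhyp := Cfsg.Agent.Helper13.OrthSS.not_isHyp_minusMat (F := F) (m - 1) a c hac
  by_cases hodd : Odd i
  · rw [if_pos hodd, Cfsg.Agent.Helper13.OrthSS.count_odd _
      (Cfsg.Agent.Helper13.SympSS.starΦ_involutive hr hr2 hrp) _ i m hi0 hodd
      (by rw [hcard]; exact ht0), if_neg hhyp, hcard, Nat.sub_right_comm]
    intro a h
    exact Cfsg.Agent.Helper13.SympSS.dualPoly_ne_self_of_odd hF hr hr2 hrp (hi ▸ hodd) a.2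
      (congrArg Subtype.val h)
  · rw [if_neg hodd, Cfsg.Agent.Helper13.OrthSS.count_even _ _ i m hi0
      (Nat.not_odd_iff_even.1 hodd) (by rw [hcard]; exact ht0), hcard, Nat.sub_right_comm]
    · congr 1
      apply if_congr _ rfl rfl
      rw [iff_false_right hhyp, Nat.not_odd_iff_even]
    · intro a
      apply Subtype.ext
      exact Cfsg.Agent.Helper13.SympSS.dualPoly_eq_self_of_even hF hr (hi ▸ hi0)
        (hi ▸ Nat.not_odd_iff_even.1 hodd) a.2

end Cfsg.Agent.S2675
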