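import Mathlib
import Cfsg.Statements.S2677
import Cfsg.Agent.Lib.Helper13.UnitaryFieldAut

set_option autoImplicit false
set_option linter.style.haveILetI false
open Cfsg

namespace Cfsg.Agent.S2677

open Cfsg.Agent.Helper11.Herm Cfsg.Agent.Helper13.FAut Cfsg.Agent.Helper13.UFA

theorem guOrder_cast (q₀ n : ℕ) (hq₀ : 1 ≤ q₀) :
    ((guOrder q₀ n : ℕ) : ℤ) = (q₀ : ℤ) ^ (n * (n - 1) / 2) *
      ∏ i : Fin n, ((q₀ : ℤ) ^ ((i : ℕ) + 1) - (-1) ^ ((i : ℕ) + 1)) := by
  unfold guOrder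
  rw [Nat.cast_mul, Nat.cast_pow, Nat.cast_prod,
    Fin.prod_univ_eq_prod_range (fun i => ((q₀ : ℤ) ^ (i + 1) - (-1) ^ (i + 1))) n]
  congr 1
  apply Finset.prod_congr rfl
  intro i _
  by_cases hi : Even i
  · rw [if_pos hi, Odd.neg_one_pow (Even.add_one hi)]
    push_cast
    ring
  · rw [if_neg hi, Even.neg_one_pow (by
      rw [Nat.not_even_iff_odd] at hi
      exact Odd.add_one hi)]
    have : 1 ≤ q₀ ^ (i + 1) := Nat.one_le_pow _ _ hq₀
    rw [Nat.cast_sub this]
    push_cast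
    ring

/-- Centraliser of a field automorphism of odd prime order in PGU_n(q): let q = q₀^r with r an odd prime, K the field with q² elements and σ a field automorphism of K of order r (fixed field of order q₀²). The elements g of GU_n(q) whose entrywise image under σ is a scalar multiple of g — those whose coset modulo the q + 1 unitary scalars is fixed by σ — number (q + 1)/(q₀ + 1) · |GU_n(q₀)|; equivalently the centraliser in PGU_n(q) of the induced automorphism has the order of PGU_n(q₀). -/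
theorem result {K : Type*} [Field K] [Fintype K] {q₀ q r n : ℕ} (hr : r.Prime) (hr2 : r ≠ 2) (hn : 1 ≤ n) (hq : q = q₀ ^ r) (hK : Fintype.card K = q ^ 2) (σ : K ≃+* K) (hσ : orderOf σ = r) : (Nat.card {g : ↥(Cfsg.GU n K q) // ∃ c : K, c ≠ 0 ∧ ((g : GL (Fin n) K) : Matrix (Fin n) (Fin n) K).map σ = c • ((g : GL (Fin n) K) : Matrix (Fin n) (Fin n) K)} : ℤ) = ((q + 1) / (q₀ + 1) : ℕ) * ((q₀ : ℤ) ^ (n * (n - 1) / 2) * ∏ i : Fin n, ((q₀ : ℤ) ^ ((i : ℕ) + 1) - (-1) ^ ((i : ℕ) + 1))) := by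
  classical
  have hrodd := hr.odd_of_ne_two hr2
  haveI : Fintype ↥(fixedField σ) := Fintype.ofFinite _
  have hF : Fintype.card ↥(fixedField σ) = q₀ ^ 2 := by
    rw [← Nat.card_eq_fintype_card]
    apply card_fixedField σ r (q₀ ^ 2) hr.pos hσ
    rw [hK, hq, ← pow_mul, ← pow_mul, mul_comm]
  have hq₀ : 1 ≤ q₀ := by
    rcases Nat.eq_zero_or_pos q₀ with h | h
    · exfalso
      have : Fintype.card K = 0 := by
        rw [hK, hq, h, zero_pow hr.ne_zero, zero_pow two_ne_zero]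
      exact Fintype.card_ne_zero this
    · exact h
  have hfix : ∀ x : K, σ x = x ↔ ∃ a : ↥(fixedField σ), (fixedField σ).subtype a = x := by
    intro x
    rw [← mem_fixedField]
    constructor
    · intro hx
      exact ⟨⟨x, hx⟩, rfl⟩
    · rintro ⟨a, rfl⟩
      exact a.2
  have key := card_mul hr hr2 hn hq hK hF σ hσ (fixedField σ).subtype hfix
  rw [card_GU hF] at key
  have hdvd : q₀ + 1 ∣ q + 1 := by
    have := Odd.nat_add_dvd_pow_add_pow q₀ 1 hrodd
    rw [one_pow, ← hq] at this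
    exact this
  obtain ⟨m, hm⟩ := hdvd
  have hm' : (q + 1) / (q₀ + 1) = m := by
    rw [hm, Nat.mul_div_cancel_left _ (by omega)]
  rw [hm', ← guOrder_cast q₀ n hq₀, ← Nat.cast_mul]
  congr 1
  rw [hm, mul_assoc, mul_comm] at key
  exact Nat.eq_of_mul_eq_mul_left (by omega : 0 < q₀ + 1) key

end Cfsg.Agent.S2677
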