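import Mathlib
import Cfsg.Statements.S2678
import Cfsg.Agent.Lib.Helper17.QuadExt

set_option autoImplicit false
open Cfsg

namespace Cfsg.Agent.S2678

/-- restriction of scalars for matrices, general index types -/
theorem exists_hom_of_linearEquiv' {K F : Type*} [Field K] [Field F] [Algebra F K] {ι κ : Type}
    [Fintype ι] [DecidableEq ι] [Fintype κ] [DecidableEq κ] (Ψ : (ι → F) ≃ₗ[F] (κ → K)) :
    ∃ T : Matrix κ κ K →* Matrix ι ι F, Function.Injective T ∧
      ∀ M w, Ψ ((T M).mulVec w) = M.mulVec (Ψ w) := by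
  classical
  let f : Matrix κ κ K → ((ι → F) →ₗ[F] (ι → F)) := fun M =>
    Ψ.symm.toLinearMap ∘ₗ ((Matrix.toLin' M).restrictScalars F) ∘ₗ Ψ.toLinearMap
  have hf : ∀ M w, f M w = Ψ.symm (M.mulVec (Ψ w)) := fun M w => by
    simp [f, Matrix.toLin'_apply]
  let T : Matrix κ κ K →* Matrix ι ι F :=
    { toFun := fun M => LinearMap.toMatrix' (f M)
      map_one' := by
        have : f 1 = LinearMap.id := by
          apply LinearMap.ext; intro w
          simp [hf]
        rw [this, LinearMap.toMatrix'_id]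
      map_mul' := fun M N => by
        have : f (M * N) = f M ∘ₗ f N := by
          apply LinearMap.ext; intro w
          simp [hf, Matrix.mulVec_mulVec]
        rw [this, LinearMap.toMatrix'_comp] }
  refine ⟨T, ?_, ?_⟩
  · intro M N h
    have h1 : f M = f N := LinearMap.toMatrix'.injective h
    apply Matrix.toLin'.injective
    apply LinearMap.ext; intro v
    have := congrArg (fun g => Ψ (g (Ψ.symm v))) h1
    simpa [hf] using this
  · intro M w
    show Ψ ((LinearMap.toMatrix' (f M)).mulVec w) = _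
    rw [LinearMap.toMatrix'_mulVec, hf, LinearEquiv.apply_symm_apply]

lemma J_form {l R : Type*} [Fintype l] [DecidableEq l] [CommRing R] (w w' : l ⊕ l → R) :
    w ⬝ᵥ (Matrix.J l R).mulVec w'
      = ∑ i, (w (Sum.inr i) * w' (Sum.inl i) - w (Sum.inl i) * w' (Sum.inr i)) := by
  rw [Matrix.J, Matrix.fromBlocks_mulVec]
  simp only [dotProduct, Fintype.sum_sum_type, Sum.elim_inl, Sum.elim_inr, Matrix.zero_mulVec,
    Matrix.neg_mulVec, Matrix.one_mulVec, zero_add, add_zero, Pi.neg_apply,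
    Function.comp_apply, Finset.sum_sub_distrib]
  simp only [mul_neg, Finset.sum_neg_distrib]
  ring

/-- a matrix preserving the standard alternating form is symplectic -/
lemma mem_symplectic_of_preserves {l R : Type*} [Fintype l] [DecidableEq l] [CommRing R]
    (A : Matrix (l ⊕ l) (l ⊕ l) R)
    (hpres : ∀ w w' : l ⊕ l → R,
      (A.mulVec w) ⬝ᵥ (Matrix.J l R).mulVec (A.mulVec w') = w ⬝ᵥ (Matrix.J l R).mulVec w') :
    A ∈ Matrix.symplecticGroup l R := by
  have hAJ : A.transpose * Matrix.J l R * A = Matrix.J l R := by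
    ext i j
    have := hpres (Pi.single i 1) (Pi.single j 1)
    rw [← Matrix.vecMul_transpose, ← Matrix.dotProduct_mulVec, Matrix.mulVec_mulVec,
      Matrix.mulVec_mulVec, Matrix.mulVec_single_one, Matrix.mulVec_single_one,
      single_one_dotProduct, single_one_dotProduct] at this
    simpa [Matrix.mul_assoc] using this
  exact SymplecticGroup.mem_iff'.2 hAJ

/-- a symplectic matrix preserves the standard alternating form -/
lemma preserves_of_mem_symplectic {l R : Type*} [Fintype l] [DecidableEq l] [CommRing R]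
    {A : Matrix (l ⊕ l) (l ⊕ l) R} (hA : A ∈ Matrix.symplecticGroup l R) (w w' : l ⊕ l → R) :
    (A.mulVec w) ⬝ᵥ (Matrix.J l R).mulVec (A.mulVec w') = w ⬝ᵥ (Matrix.J l R).mulVec w' := by
  have hAJ := SymplecticGroup.mem_iff'.1 hA
  rw [Matrix.mulVec_mulVec, ← Matrix.vecMul_transpose, ← Matrix.dotProduct_mulVec,
    Matrix.mulVec_mulVec, ← Matrix.mul_assoc, hAJ]

/-- Field-extension embedding of symplectic groups: for a field K with q² elements and a field F with q elements there is an injective homomorphism Sp_2a(K) → Sp_4a(F). -/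
theorem result {K F : Type*} [Field K] [Fintype K] [Field F] [Fintype F] {q : ℕ} (hK : Fintype.card K = q ^ 2) (hF : Fintype.card F = q) (a : ℕ) : ∃ φ : ↥(Matrix.symplecticGroup (Fin a) K) →* ↥(Matrix.symplecticGroup (Fin (2 * a)) F), Function.Injective φ := by
  classical
  obtain ⟨emb, σ, hσ, hσσ, hσemb, hfix, θ, hθ⟩ := Helper17.exists_quadExt_data hK hF
  letI : Algebra F K := emb.toAlgebra
  have halg : ∀ (c : F) (x : K), c • x = emb c * x := fun c x => rfl
  obtain ⟨lam, hlam⟩ : ∃ lam : K, lam = θ - σ θ := ⟨_, rfl⟩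
  have hlam0 : lam ≠ 0 := by rw [hlam]; exact sub_ne_zero.2 (Ne.symm hθ)
  have hσlam : σ lam = -lam := by rw [hlam, map_sub, hσσ]; ring
  -- dual bases `(1, θ)` and `(c1, c2)` for the trace form
  obtain ⟨c1, hc1⟩ : ∃ c1 : K, c1 = -σ θ / lam := ⟨_, rfl⟩
  obtain ⟨c2, hc2⟩ : ∃ c2 : K, c2 = 1 / lam := ⟨_, rfl⟩
  have hσc1 : σ c1 = θ / lam := by
    rw [hc1, map_div₀, map_neg, hσσ, hσlam]; field_simp
  have hσc2 : σ c2 = -1 / lam := by
    rw [hc2, map_div₀, map_one, hσlam]; field_simp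
  have t11 : c1 + σ c1 = 1 := by
    rw [hσc1, hc1]; field_simp; rw [hlam]; ring
  have t12 : c2 + σ c2 = 0 := by
    rw [hσc2, hc2]; field_simp; ring
  have t21 : θ * c1 + σ θ * σ c1 = 0 := by
    rw [hσc1, hc1]; field_simp; ring
  have t22 : θ * c2 + σ θ * σ c2 = 1 := by
    rw [hσc2, hc2]; field_simp; rw [hlam]; ring
  -- the index bijection
  let e : Fin a ⊕ Fin a ≃ Fin (2 * a) := finSumFinEquiv.trans (finCongr (two_mul a).symm)
  have hsum : ∀ f : Fin (2 * a) → F, ∑ j, f j = ∑ i, f (e (Sum.inl i)) + ∑ i, f (e (Sum.inr i)) := by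
    intro f
    rw [← Equiv.sum_comp e f, Fintype.sum_sum_type]
  -- the linear map
  let Ψ₀ : (Fin (2 * a) ⊕ Fin (2 * a) → F) →ₗ[F] (Fin a ⊕ Fin a → K) :=
    { toFun := fun w => Sum.elim
        (fun i => emb (w (Sum.inl (e (Sum.inl i)))) + emb (w (Sum.inl (e (Sum.inr i)))) * θ)
        (fun i => emb (w (Sum.inr (e (Sum.inl i)))) * c1 + emb (w (Sum.inr (e (Sum.inr i)))) * c2)
      map_add' := by
        intro w w'; funext x
        rcases x with i | i
        · simp only [Pi.add_apply, map_add, Sum.elim_inl]; ring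
        · simp only [Pi.add_apply, map_add, Sum.elim_inr]; ring
      map_smul' := by
        intro c w; funext x
        rcases x with i | i
        · simp only [Pi.smul_apply, smul_eq_mul, map_mul, RingHom.id_apply, halg, Sum.elim_inl]; ring
        · simp only [Pi.smul_apply, smul_eq_mul, map_mul, RingHom.id_apply, halg, Sum.elim_inr]; ring }
  have hΨl : ∀ w i, Ψ₀ w (Sum.inl i)
      = emb (w (Sum.inl (e (Sum.inl i)))) + emb (w (Sum.inl (e (Sum.inr i)))) * θ := fun w i => rfl
  have hΨr : ∀ w i, Ψ₀ w (Sum.inr i)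
      = emb (w (Sum.inr (e (Sum.inl i)))) * c1 + emb (w (Sum.inr (e (Sum.inr i)))) * c2 :=
    fun w i => rfl
  -- the trace of the `K`-form is the `F`-form
  have hform : ∀ w w' : Fin (2 * a) ⊕ Fin (2 * a) → F,
      (Ψ₀ w) ⬝ᵥ (Matrix.J (Fin a) K).mulVec (Ψ₀ w')
        + σ ((Ψ₀ w) ⬝ᵥ (Matrix.J (Fin a) K).mulVec (Ψ₀ w'))
        = emb (w ⬝ᵥ (Matrix.J (Fin (2 * a)) F).mulVec w') := by
    intro w w'
    rw [J_form, J_form, hsum, map_add, map_sum, map_sum, map_sum, ← Finset.sum_add_distrib,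
      ← Finset.sum_add_distrib]
    apply Finset.sum_congr rfl
    intro i _
    rw [hΨl, hΨl, hΨr, hΨr]
    simp only [map_add, map_mul, hσemb, map_sub]
    linear_combination
      (emb (w (Sum.inr (e (Sum.inl i)))) * emb (w' (Sum.inl (e (Sum.inl i))))
        - emb (w (Sum.inl (e (Sum.inl i)))) * emb (w' (Sum.inr (e (Sum.inl i))))) * t11
      + (emb (w (Sum.inr (e (Sum.inr i)))) * emb (w' (Sum.inl (e (Sum.inl i))))
        - emb (w (Sum.inl (e (Sum.inl i)))) * emb (w' (Sum.inr (e (Sum.inr i))))) * t12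
      + (emb (w (Sum.inr (e (Sum.inl i)))) * emb (w' (Sum.inl (e (Sum.inr i))))
        - emb (w (Sum.inl (e (Sum.inr i)))) * emb (w' (Sum.inr (e (Sum.inl i))))) * t21
      + (emb (w (Sum.inr (e (Sum.inr i)))) * emb (w' (Sum.inl (e (Sum.inr i))))
        - emb (w (Sum.inl (e (Sum.inr i)))) * emb (w' (Sum.inr (e (Sum.inr i))))) * t22
  have hinj : Function.Injective Ψ₀ := by
    rw [← LinearMap.ker_eq_bot, LinearMap.ker_eq_bot']
    intro w hw
    have h0 : ∀ w', w ⬝ᵥ (Matrix.J (Fin (2 * a)) F).mulVec w' = 0 := by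
      intro w'
      apply emb.injective
      rw [← hform, hw, zero_dotProduct, map_zero, add_zero, map_zero]
    funext j
    have h1 := h0 ((Matrix.J (Fin (2 * a)) F).mulVec (Pi.single j 1))
    rw [Matrix.mulVec_mulVec, Matrix.J_squared, Matrix.neg_mulVec, Matrix.one_mulVec,
      dotProduct_neg, dotProduct_single_one] at h1
    simpa using h1
  have hbij : Function.Bijective Ψ₀ := by
    apply Function.Injective.bijective_of_nat_card_le hinj
    rw [Nat.card_eq_fintype_card, Nat.card_eq_fintype_card, Fintype.card_fun, Fintype.card_fun,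
      Fintype.card_sum, Fintype.card_sum, Fintype.card_fin, Fintype.card_fin, hK, hF, ← pow_mul]
    apply le_of_eq
    congr 1; ring
  let Ψ : (Fin (2 * a) ⊕ Fin (2 * a) → F) ≃ₗ[F] (Fin a ⊕ Fin a → K) :=
    LinearEquiv.ofBijective Ψ₀ hbij
  have hΨ : ∀ w, Ψ w = Ψ₀ w := fun w => rfl
  obtain ⟨T, hTinj, hT⟩ := exists_hom_of_linearEquiv' Ψ
  have hmem : ∀ g : ↥(Matrix.symplecticGroup (Fin a) K),
      T (g : Matrix (Fin a ⊕ Fin a) (Fin a ⊕ Fin a) K)
        ∈ Matrix.symplecticGroup (Fin (2 * a)) F := by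
    intro g
    apply mem_symplectic_of_preserves
    intro w w'
    apply emb.injective
    rw [← hform, ← hform, ← hΨ, ← hΨ, ← hΨ, ← hΨ, hT, hT, preserves_of_mem_symplectic g.2]
  let φ₀ : ↥(Matrix.symplecticGroup (Fin a) K) →*
      Matrix (Fin (2 * a) ⊕ Fin (2 * a)) (Fin (2 * a) ⊕ Fin (2 * a)) F :=
    T.comp (Matrix.symplecticGroup (Fin a) K).subtype
  refine ⟨φ₀.codRestrict (Matrix.symplecticGroup (Fin (2 * a)) F) hmem, ?_⟩
  intro g g' h
  have h1 : φ₀ g = φ₀ g' := congrArg Subtype.val h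
  exact Subtype.ext (hTinj h1)

end Cfsg.Agent.S2678
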