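import Mathlib
import Cfsg.Statements.S2679
import Cfsg.Agent.S2678
import Cfsg.Agent.Lib.Helper17.QuadExt
import Cfsg.Agent.Lib.Helper17.QuadRoot

set_option autoImplicit false
open Cfsg

namespace Cfsg.Agent.S2679

/-- the polarization identity for the minus type form -/
lemma quadFormMinus_add_smul {K : Type*} [Field K] (n : ℕ) (a c : K)
    (v v' : (Fin n ⊕ Fin n) ⊕ Fin 2 → K) (t : K) :
    quadFormMinus n K a c (v + t • v') = quadFormMinus n K a c v
      + t * (quadFormMinus n K a c (v + v') - quadFormMinus n K a c v - quadFormMinus n K a c v')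
      + t ^ 2 * quadFormMinus n K a c v' := by
  simp only [quadFormMinus, Pi.add_apply, Pi.smul_apply, smul_eq_mul]
  have h : ∀ (A B C D X Y Z W : K), A = B + t * (C - B - D) + t ^ 2 * D →
      X = Y + t * (Z - Y - W) + t ^ 2 * W →
      A + X = B + Y + t * (C + Z - (B + Y) - (D + W)) + t ^ 2 * (D + W) := by
    intro A B C D X Y Z W h1 h2
    rw [h1, h2]; ring
  apply h
  · simp only [Finset.mul_sum, ← Finset.sum_add_distrib, ← Finset.sum_sub_distrib]
    apply Finset.sum_congr rfl
    intro i _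
    ring
  · ring

lemma quadFormMinus_map {F K : Type*} [Field F] [Field K] (emb : F →+* K) (n : ℕ) (a c : F)
    (x : (Fin n ⊕ Fin n) ⊕ Fin 2 → F) :
    quadFormMinus n K (emb a) (emb c) (emb ∘ x) = emb (quadFormMinus n F a c x) := by
  simp only [quadFormMinus, Function.comp_apply, map_add, map_sum, map_mul, map_pow]

/-- an isometry over `F` stays an isometry over `K` -/
lemma isometry_extend {F K : Type*} [Field F] [Field K] (emb : F →+* K) (r : K)
    (hdec : ∀ k : K, ∃ x y : F, k = emb x + r * emb y) (n : ℕ) (a c : F)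
    (M : Matrix ((Fin n ⊕ Fin n) ⊕ Fin 2) ((Fin n ⊕ Fin n) ⊕ Fin 2) F)
    (hM : ∀ u, quadFormMinus n F a c (M.mulVec u) = quadFormMinus n F a c u)
    (v : (Fin n ⊕ Fin n) ⊕ Fin 2 → K) :
    quadFormMinus n K (emb a) (emb c) ((M.map emb).mulVec v)
      = quadFormMinus n K (emb a) (emb c) v := by
  choose x y hxy using fun j => hdec (v j)
  have hv : v = emb ∘ x + r • (emb ∘ y) := by
    funext j
    simp only [Pi.add_apply, Pi.smul_apply, Function.comp_apply, smul_eq_mul]
    exact hxy j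
  have hmap : ∀ z : (Fin n ⊕ Fin n) ⊕ Fin 2 → F,
      (M.map emb).mulVec (emb ∘ z) = emb ∘ (M.mulVec z) := by
    intro z; funext i
    exact (RingHom.map_mulVec emb M z i).symm
  have hadd : ∀ z z' : (Fin n ⊕ Fin n) ⊕ Fin 2 → F, emb ∘ z + emb ∘ z' = emb ∘ (z + z') := by
    intro z z'; funext i
    simp
  rw [hv, Matrix.mulVec_add, Matrix.mulVec_smul, hmap, hmap, quadFormMinus_add_smul,
    quadFormMinus_add_smul, hadd, hadd, ← Matrix.mulVec_add, quadFormMinus_map, quadFormMinus_map,
    quadFormMinus_map, quadFormMinus_map, quadFormMinus_map, quadFormMinus_map, hM, hM, hM]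

/-- An elliptic orthogonal group embeds in the hyperbolic orthogonal group of the same dimension over the quadratic extension: for a field F with q elements and a field K with q² elements there is an injective homomorphism from O⁻_2m(F) (isometries of Σ_(j<m−1) x_j y_j + z₁² + a z₁z₂ + c z₂², binary part anisotropic) to O⁺_2m(K) (isometries of Σ_(j<m) x_j y_j over K). -/
theorem result {F K : Type*} [Field F] [Fintype F] [Field K] [Fintype K] {q : ℕ} (hF : Fintype.card F = q) (hK : Fintype.card K = q ^ 2) {m : ℕ} (hm : 1 ≤ m) (a c : F) (hac : ∀ z₁ z₂ : F, z₁ ^ 2 + a * z₁ * z₂ + c * z₂ ^ 2 = 0 → z₁ = 0 ∧ z₂ = 0) : ∃ φ : ↥(Cfsg.isometryGroup F (Cfsg.quadFormMinus (m - 1) F a c)) →* ↥(Cfsg.isometryGroup K (Cfsg.quadFormPlus m K)), Function.Injective φ := by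
  classical
  obtain ⟨n, rfl⟩ : ∃ n, m = n + 1 := ⟨m - 1, by omega⟩
  rw [Nat.add_sub_cancel]
  obtain ⟨emb, σ, hσ, hσσ, hσemb, hfix, θ, hθ⟩ := Helper17.exists_quadExt_data hK hF
  have hnoroot : ∀ z : F, z ^ 2 + a * z + c ≠ 0 := by
    intro z hz
    have := hac z 1 (by rw [mul_one, one_pow, mul_one]; exact hz)
    exact one_ne_zero this.2
  obtain ⟨r, hr⟩ := Helper17.exists_root_quadratic hK hF emb a c hnoroot
  have hrσ : σ r ≠ r := by
    intro h
    obtain ⟨x, hx⟩ := hfix r h
    apply hnoroot x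
    apply emb.injective
    rw [map_add, map_add, map_pow, map_mul, hx, hr, map_zero]
  have hσr : (σ r) ^ 2 + emb a * σ r + emb c = 0 := by
    have := congrArg σ hr
    simpa only [map_add, map_mul, map_pow, hσemb, map_zero] using this
  have hd : r - σ r ≠ 0 := sub_ne_zero.2 (Ne.symm hrσ)
  have hsum : r + σ r = - emb a := by
    have h1 : (r - σ r) * (r + σ r + emb a) = 0 := by linear_combination hr - hσr
    rcases mul_eq_zero.1 h1 with h | h
    · exact absurd h hd
    · linear_combination h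
  have hprod : r * σ r = emb c := by linear_combination (-1) * hr + r * hsum
  have hdec : ∀ k : K, ∃ x y : F, k = emb x + r * emb y := by
    intro k
    have hd' : σ r - r ≠ 0 := sub_ne_zero.2 hrσ
    have hy : σ ((k - σ k) / (r - σ r)) = (k - σ k) / (r - σ r) := by
      rw [map_div₀, map_sub, map_sub, hσσ, hσσ, div_eq_div_iff hd' hd]
      ring
    obtain ⟨y, hy'⟩ := hfix _ hy
    have hx : σ (k - r * ((k - σ k) / (r - σ r))) = k - r * ((k - σ k) / (r - σ r)) := by
      rw [map_sub, map_mul, hy]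
      field_simp
      ring
    obtain ⟨x, hx'⟩ := hfix _ hx
    exact ⟨x, y, by rw [hx', hy']; ring⟩
  -- the change of coordinates
  let L : ((Fin n ⊕ Fin n) ⊕ Fin 2 → K) →ₗ[K] (Fin (n + 1) ⊕ Fin (n + 1) → K) :=
    { toFun := fun v => Sum.elim
        (Fin.lastCases (v (Sum.inr 0) - r * v (Sum.inr 1)) (fun i => v (Sum.inl (Sum.inl i))))
        (Fin.lastCases (v (Sum.inr 0) - σ r * v (Sum.inr 1)) (fun i => v (Sum.inl (Sum.inr i))))
      map_add' := by
        intro v v'; funext j
        rcases j with j | j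
        · refine Fin.lastCases ?_ ?_ j
          · simp only [Sum.elim_inl, Fin.lastCases_last, Pi.add_apply]; ring
          · intro i; simp only [Sum.elim_inl, Fin.lastCases_castSucc, Pi.add_apply]
        · refine Fin.lastCases ?_ ?_ j
          · simp only [Sum.elim_inr, Fin.lastCases_last, Pi.add_apply]; ring
          · intro i; simp only [Sum.elim_inr, Fin.lastCases_castSucc, Pi.add_apply]
      map_smul' := by
        intro t v; funext j
        rcases j with j | j
        · refine Fin.lastCases ?_ ?_ j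
          · simp only [Sum.elim_inl, Fin.lastCases_last, Pi.smul_apply, smul_eq_mul,
              RingHom.id_apply]; ring
          · intro i; simp only [Sum.elim_inl, Fin.lastCases_castSucc, Pi.smul_apply, smul_eq_mul,
              RingHom.id_apply]
        · refine Fin.lastCases ?_ ?_ j
          · simp only [Sum.elim_inr, Fin.lastCases_last, Pi.smul_apply, smul_eq_mul,
              RingHom.id_apply]; ring
          · intro i; simp only [Sum.elim_inr, Fin.lastCases_castSucc, Pi.smul_apply, smul_eq_mul,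
              RingHom.id_apply] }
  have hLl : ∀ v, L v (Sum.inl (Fin.last n)) = v (Sum.inr 0) - r * v (Sum.inr 1) := fun v => by
    simp only [L, LinearMap.coe_mk, AddHom.coe_mk, Sum.elim_inl, Fin.lastCases_last]
  have hLr : ∀ v, L v (Sum.inr (Fin.last n)) = v (Sum.inr 0) - σ r * v (Sum.inr 1) := fun v => by
    simp only [L, LinearMap.coe_mk, AddHom.coe_mk, Sum.elim_inr, Fin.lastCases_last]
  have hLl' : ∀ v (i : Fin n), L v (Sum.inl (Fin.castSucc i)) = v (Sum.inl (Sum.inl i)) :=
    fun v i => by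
      simp only [L, LinearMap.coe_mk, AddHom.coe_mk, Sum.elim_inl, Fin.lastCases_castSucc]
  have hLr' : ∀ v (i : Fin n), L v (Sum.inr (Fin.castSucc i)) = v (Sum.inl (Sum.inr i)) :=
    fun v i => by
      simp only [L, LinearMap.coe_mk, AddHom.coe_mk, Sum.elim_inr, Fin.lastCases_castSucc]
  have hLQ : ∀ v, quadFormPlus (n + 1) K (L v) = quadFormMinus n K (emb a) (emb c) v := by
    intro v
    rw [quadFormPlus, quadFormMinus, Fin.sum_univ_castSucc, hLl, hLr]
    simp only [hLl', hLr']
    congr 1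
    linear_combination (-(v (Sum.inr 0) * v (Sum.inr 1))) * hsum + (v (Sum.inr 1)) ^ 2 * hprod
  have hLinj : Function.Injective L := by
    rw [← LinearMap.ker_eq_bot, LinearMap.ker_eq_bot']
    intro v hv
    have hA : v (Sum.inr 0) - r * v (Sum.inr 1) = 0 := by rw [← hLl, hv]; rfl
    have hB : v (Sum.inr 0) - σ r * v (Sum.inr 1) = 0 := by rw [← hLr, hv]; rfl
    have h1 : v (Sum.inr 1) = 0 := by
      have : (r - σ r) * v (Sum.inr 1) = 0 := by linear_combination hB - hA
      rcases mul_eq_zero.1 this with h | h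
      · exact absurd h hd
      · exact h
    have h0 : v (Sum.inr 0) = 0 := by rw [h1, mul_zero, sub_zero] at hA; exact hA
    funext j
    rcases j with (i | i) | j
    · rw [← hLl' v i, hv]; rfl
    · rw [← hLr' v i, hv]; rfl
    · fin_cases j
      · exact h0
      · exact h1
  have hLbij : Function.Bijective L := by
    apply Function.Injective.bijective_of_nat_card_le hLinj
    rw [Nat.card_eq_fintype_card, Nat.card_eq_fintype_card, Fintype.card_fun, Fintype.card_fun]
    apply le_of_eq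
    congr 1
    simp only [Fintype.card_sum, Fintype.card_fin]
    ring
  let Ψ : (Fin (n + 1) ⊕ Fin (n + 1) → K) ≃ₗ[K] ((Fin n ⊕ Fin n) ⊕ Fin 2 → K) :=
    (LinearEquiv.ofBijective L hLbij).symm
  have hΨ : ∀ w, L (Ψ w) = w := fun w => (LinearEquiv.ofBijective L hLbij).apply_symm_apply w
  obtain ⟨T, hTinj, hT⟩ := Cfsg.Agent.S2678.exists_hom_of_linearEquiv' (K := K) (F := K) Ψ
  have hQ : ∀ w, quadFormPlus (n + 1) K w = quadFormMinus n K (emb a) (emb c) (Ψ w) :=
    fun w => by rw [← hLQ, hΨ]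
  let φ₀ : ↥(Cfsg.isometryGroup F (Cfsg.quadFormMinus n F a c)) →*
      Matrix.GeneralLinearGroup (Fin (n + 1) ⊕ Fin (n + 1)) K :=
    (Units.map (T.comp (emb.mapMatrix : Matrix ((Fin n ⊕ Fin n) ⊕ Fin 2) ((Fin n ⊕ Fin n) ⊕ Fin 2) F
      →+* Matrix ((Fin n ⊕ Fin n) ⊕ Fin 2) ((Fin n ⊕ Fin n) ⊕ Fin 2) K).toMonoidHom)).comp
      (Cfsg.isometryGroup F (Cfsg.quadFormMinus n F a c)).subtype
  have hφ₀ : ∀ g : ↥(Cfsg.isometryGroup F (Cfsg.quadFormMinus n F a c)),
      ((φ₀ g : Matrix.GeneralLinearGroup (Fin (n + 1) ⊕ Fin (n + 1)) K) :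
          Matrix (Fin (n + 1) ⊕ Fin (n + 1)) (Fin (n + 1) ⊕ Fin (n + 1)) K)
        = T (((g : Matrix.GeneralLinearGroup ((Fin n ⊕ Fin n) ⊕ Fin 2) F) :
          Matrix ((Fin n ⊕ Fin n) ⊕ Fin 2) ((Fin n ⊕ Fin n) ⊕ Fin 2) F).map emb) := fun g => rfl
  have hmem : ∀ g, φ₀ g ∈ Cfsg.isometryGroup K (Cfsg.quadFormPlus (n + 1) K) := by
    intro g u v
    show quadFormPlus (n + 1) K (((φ₀ g : Matrix.GeneralLinearGroup (Fin (n + 1) ⊕ Fin (n + 1)) K) :
          Matrix (Fin (n + 1) ⊕ Fin (n + 1)) (Fin (n + 1) ⊕ Fin (n + 1)) K).mulVec u)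
      = quadFormPlus (n + 1) K u
    rw [hφ₀, hQ, hQ, hT]
    exact isometry_extend emb r hdec n a c _ (fun u => g.2 u u) _
  refine ⟨φ₀.codRestrict _ hmem, ?_⟩
  intro g g' h
  have h1 : φ₀ g = φ₀ g' := congrArg Subtype.val h
  have h2 : T (((g : Matrix.GeneralLinearGroup ((Fin n ⊕ Fin n) ⊕ Fin 2) F) :
          Matrix ((Fin n ⊕ Fin n) ⊕ Fin 2) ((Fin n ⊕ Fin n) ⊕ Fin 2) F).map emb)
      = T (((g' : Matrix.GeneralLinearGroup ((Fin n ⊕ Fin n) ⊕ Fin 2) F) :
          Matrix ((Fin n ⊕ Fin n) ⊕ Fin 2) ((Fin n ⊕ Fin n) ⊕ Fin 2) F).map emb) := by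
    rw [← hφ₀, ← hφ₀, h1]
  have h3 := hTinj h2
  have h4 := Matrix.map_injective emb.injective h3
  exact Subtype.ext (Units.ext h4)

end Cfsg.Agent.S2679
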