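import Mathlib
import Cfsg.Statements.S2680
import Cfsg.Agent.Lib.Helper11.SympCent3

set_option autoImplicit false
open Cfsg

namespace Cfsg.Agent.S2680

open Cfsg.Agent.Helper11.SympInv

/-- Centraliser order of an involution t of Sp_2m(q), q even, with s = rank(t − 1) odd (type b_s): |C(t)| = q^(2ms − (3s² − s)/2) · |Sp_(s−1)(q)| · |Sp_(2m−2s)(q)|, where |Sp_2k(q)| = q^(k²) Π_(i=1)^k (q^(2i) − 1). -/
theorem result {F : Type*} [Field F] [Fintype F] [CharP F 2] {q : ℕ} (hF : Fintype.card F = q) {m s : ℕ} (t : Matrix.symplecticGroup (Fin m) F) (ht : t ^ 2 = 1) (hs : ((t : Matrix (Fin m ⊕ Fin m) (Fin m ⊕ Fin m) F) - 1).rank = s) (hodd : Odd s) : Nat.card ↥(Subgroup.centralizer ({t} : Set ↥(Matrix.symplecticGroup (Fin m) F))) = q ^ (2 * m * s - (3 * s ^ 2 - s) / 2) * ((q : ℕ) ^ (((s - 1) / 2) ^ 2) * ∏ i : Fin ((s - 1) / 2), (q ^ (2 * ((i : ℕ) + 1)) - 1)) * ((q : ℕ) ^ ((m - s) ^ 2) * ∏ i : Fin (m - s), (q ^ (2 * ((i : ℕ) + 1)) - 1)) := by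
  subst hF
  have ht' : (t : Matrix (Fin m ⊕ Fin m) (Fin m ⊕ Fin m) F) * t = 1 := by
    have := congrArg Subtype.val ht
    rw [pow_two] at this
    exact this
  have hna := nonalt_of_odd t ht' hs hodd
  have key := card_centralizer_nonalt t ht' hs hna
  have hsm : s ≤ m := by rw [← hs]; exact rank_le_of_sq t ht'
  have hq : 2 ≤ Fintype.card F := Fintype.one_lt_card
  have hfr := frames_mul (Fintype.card F) m s hsm
  obtain ⟨j, hj⟩ := hodd
  have hof := (ofib_closed (Fintype.card F) j).1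
  have hj' : (s - 1) / 2 = j := by omega
  rw [hj', Fin.prod_univ_eq_prod_range (fun i => Fintype.card F ^ (2 * (i + 1)) - 1) j,
    Fin.prod_univ_eq_prod_range (fun i => Fintype.card F ^ (2 * (i + 1)) - 1) (m - s)]
  show _ = Fintype.card F ^ (2 * m * s - (3 * s ^ 2 - s) / 2) * spOrd (Fintype.card F) j *
    spOrd (Fintype.card F) (m - s)
  have hpos : 0 < ∏ i ∈ Finset.range s,
      (Fintype.card F ^ (2 * m - i) - Fintype.card F ^ i) := by
    rcases Nat.eq_zero_or_pos (∏ i ∈ Finset.range s,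
      (Fintype.card F ^ (2 * m - i) - Fintype.card F ^ i)) with h | h
    · rw [h, zero_mul] at hfr
      have := spOrd_pos hq m
      omega
    · exact h
  apply Nat.eq_of_mul_eq_mul_right hpos
  rw [key, ← hfr]
  have hof' : ofib (Fintype.card F) s = spOrd (Fintype.card F) j := by rw [hj]; exact hof
  rw [hof']
  ring

end Cfsg.Agent.S2680
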