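import Mathlib
import Cfsg.Statements.S2681
import Cfsg.Agent.Lib.Helper11.SympCent4

set_option autoImplicit false
open Cfsg

namespace Cfsg.Agent.S2681

open Cfsg.Agent.Helper11.SympInv

/-- Centraliser order of an involution t of Sp_2m(q), q even, with s = rank(t − 1) even and f(v, tv) = 0 for every v, f the symplectic form (type a_s): |C(t)| = q^(2ms − (3s² − s)/2) · |Sp_s(q)| · |Sp_(2m−2s)(q)|. -/
theorem result {F : Type*} [Field F] [Fintype F] [CharP F 2] {q : ℕ} (hF : Fintype.card F = q) {m s : ℕ} (t : Matrix.symplecticGroup (Fin m) F) (ht : t ^ 2 = 1) (ht1 : t ≠ 1) (hs : ((t : Matrix (Fin m ⊕ Fin m) (Fin m ⊕ Fin m) F) - 1).rank = s) (heven : Even s) (halt : ∀ v : Fin m ⊕ Fin m → F, Cfsg.sympForm m F v ((t : Matrix (Fin m ⊕ Fin m) (Fin m ⊕ Fin m) F).mulVec v) = 0) : Nat.card ↥(Subgroup.centralizer ({t} : Set ↥(Matrix.symplecticGroup (Fin m) F))) = q ^ (2 * m * s - (3 * s ^ 2 - s) / 2) * ((q : ℕ) ^ ((s / 2) ^ 2) * ∏ i : Fin (s /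 2), (q ^ (2 * ((i : ℕ) + 1)) - 1)) * ((q : ℕ) ^ ((m - s) ^ 2) * ∏ i : Fin (m - s), (q ^ (2 * ((i : ℕ) + 1)) - 1)) := by
  subst hF
  have ht' : (t : Matrix (Fin m ⊕ Fin m) (Fin m ⊕ Fin m) F) * t = 1 := by
    have := congrArg Subtype.val ht
    rw [pow_two] at this
    exact this
  obtain ⟨k, hk, key⟩ := card_centralizer_alt t ht' hs halt
  have hsm : s ≤ m := by rw [← hs]; exact rank_le_of_sq t ht'
  have hq : 2 ≤ Fintype.card F := Fintype.one_lt_card
  have hfr := frames_mul (Fintype.card F) m s hsm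
  have hkk : s / 2 = k := by omega
  rw [hkk, Fin.prod_univ_eq_prod_range (fun i => Fintype.card F ^ (2 * (i + 1)) - 1) k,
    Fin.prod_univ_eq_prod_range (fun i => Fintype.card F ^ (2 * (i + 1)) - 1) (m - s)]
  show _ = Fintype.card F ^ (2 * m * s - (3 * s ^ 2 - s) / 2) * spOrd (Fintype.card F) k *
    spOrd (Fintype.card F) (m - s)
  have hpos : 0 < ∏ i ∈ Finset.range s,
      (Fintype.card F ^ (2 * m - i) - Fintype.card F ^ i) := by
    rcases Nat.eq_zero_or_pos (∏ i ∈ Finset.range s,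
      (Fintype.card F ^ (2 * m - i) - Fintype.card F ^ i)) with h | h
    · rw [h, zero_mul] at hfr
      have := spOrd_pos hq m
      omega
    · exact h
  apply Nat.eq_of_mul_eq_mul_right hpos
  rw [key, ← hfr]
  ring

end Cfsg.Agent.S2681
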