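import Mathlib
import Cfsg.Statements.S2682
import Cfsg.Agent.Lib.Helper11.SympCent3

set_option autoImplicit false
open Cfsg

namespace Cfsg.Agent.S2682

open Cfsg.Agent.Helper11.SympInv

/-- Centraliser order of an involution t of Sp_2m(q), q even, with s = rank(t − 1) even and f(v, tv) ≠ 0 for some v, f the symplectic form (type c_s): |C(t)| = q^(2ms − (3s² − 3s)/2 − 1) · |Sp_(s−2)(q)| · |Sp_(2m−2s)(q)|. -/
theorem result {F : Type*} [Field F] [Fintype F] [CharP F 2] {q : ℕ} (hF : Fintype.card F = q) {m s : ℕ} (t : Matrix.symplecticGroup (Fin m) F) (ht : t ^ 2 = 1) (hs : ((t : Matrix (Fin m ⊕ Fin m) (Fin m ⊕ Fin m) F) - 1).rank = s) (heven : Even s) (hna : ∃ v : Fin m ⊕ Fin m → F, Cfsg.sympForm m F v ((t : Matrix (Fin m ⊕ Fin m) (Fin m ⊕ Fin m) F).mulVec v) ≠ 0) : Nat.card ↥(Subgroup.centralizer ({t} : Set ↥(Matrix.symplecticGroup (Fin m) F))) = q ^ (2 * m * s - (3 * s ^ 2 - 3 * s) / 2 - 1) * ((q : ℕ) ^ (((s - 2) / 2)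 ^ 2) * ∏ i : Fin ((s - 2) / 2), (q ^ (2 * ((i : ℕ) + 1)) - 1)) * ((q : ℕ) ^ ((m - s) ^ 2) * ∏ i : Fin (m - s), (q ^ (2 * ((i : ℕ) + 1)) - 1)) := by
  subst hF
  have ht' : (t : Matrix (Fin m ⊕ Fin m) (Fin m ⊕ Fin m) F) * t = 1 := by
    have := congrArg Subtype.val ht
    rw [pow_two] at this
    exact this
  have key := card_centralizer_nonalt t ht' hs hna
  have hsm : s ≤ m := by rw [← hs]; exact rank_le_of_sq t ht'
  have hq : 2 ≤ Fintype.card F := Fintype.one_lt_card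
  have hfr := frames_mul (Fintype.card F) m s hsm
  -- the rank is not zero
  have hs0 : s ≠ 0 := by
    intro h0
    obtain ⟨v, hv⟩ := hna
    apply hv
    have h1 : t = 1 := by
      by_contra hne
      have := rank_pos_of_ne_one t hne
      omega
    rw [h1]
    show Cfsg.sympForm m F v ((1 : Matrix (Fin m ⊕ Fin m) (Fin m ⊕ Fin m) F).mulVec v) = 0
    rw [Matrix.one_mulVec, ← Cfsg.Agent.Helper28.SympIso.sympBil_apply]
    exact Cfsg.Agent.Helper28.SympIso.sympBil_isAlt m v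
  obtain ⟨j', hj'⟩ := heven
  obtain ⟨j, hj⟩ : ∃ j, s = 2 * j + 2 := ⟨j' - 1, by omega⟩
  have hof := (ofib_closed (Fintype.card F) j).2
  have hjj : (s - 2) / 2 = j := by omega
  rw [hjj, Fin.prod_univ_eq_prod_range (fun i => Fintype.card F ^ (2 * (i + 1)) - 1) j,
    Fin.prod_univ_eq_prod_range (fun i => Fintype.card F ^ (2 * (i + 1)) - 1) (m - s)]
  show _ = Fintype.card F ^ (2 * m * s - (3 * s ^ 2 - 3 * s) / 2 - 1) *
    spOrd (Fintype.card F) j * spOrd (Fintype.card F) (m - s)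
  have hpos : 0 < ∏ i ∈ Finset.range s,
      (Fintype.card F ^ (2 * m - i) - Fintype.card F ^ i) := by
    rcases Nat.eq_zero_or_pos (∏ i ∈ Finset.range s,
      (Fintype.card F ^ (2 * m - i) - Fintype.card F ^ i)) with h | h
    · rw [h, zero_mul] at hfr
      have := spOrd_pos hq m
      omega
    · exact h
  apply Nat.eq_of_mul_eq_mul_right hpos
  rw [key, ← hfr]
  have hof' : ofib (Fintype.card F) s =
      Fintype.card F ^ (2 * j + 1) * spOrd (Fintype.card F) j := by rw [hj]; exact hof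
  rw [hof']
  have hexp : 2 * m * s - (3 * s ^ 2 - 3 * s) / 2 - 1
      = (2 * m * s - (3 * s ^ 2 - s) / 2) + (2 * j + 1) := by
    obtain ⟨t₀, ht1, -, ht3, ht4⟩ := tri_aux s
    have ht4' := ht4 hs0
    obtain ⟨p, hp⟩ : ∃ p, p = s ^ 2 := ⟨_, rfl⟩
    obtain ⟨a, ha⟩ : ∃ a, a = m * s := ⟨_, rfl⟩
    have ha2 : p ≤ a := by rw [ha, hp, pow_two]; exact Nat.mul_le_mul_right s hsm
    have e1 : 2 * m * s = 2 * a := by rw [ha]; ring
    rw [e1]
    rw [← hp] at ht1 ht3 ⊢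
    have h1 : 3 * p - 3 * s = 2 * (t₀ - s) := by omega
    rw [h1, ht1, Nat.mul_div_cancel_left _ (by norm_num : 0 < 2),
      Nat.mul_div_cancel_left _ (by norm_num : 0 < 2)]
    omega
  rw [hexp, pow_add]
  ring

end Cfsg.Agent.S2682
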