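import Mathlib
import Cfsg.Statements.S2683
import Cfsg.Agent.Lib.Helper11.OrthCent2

set_option autoImplicit false
open Cfsg

namespace Cfsg.Agent.S2683

open Cfsg.Agent.Helper17.Spinor Cfsg.Agent.Helper11.OrthInv Cfsg.Agent.Helper11.OrthCent
  Cfsg.Agent.Helper11.SympInv QuadraticMap Module

theorem result {F : Type*} [Field F] [Fintype F] [CharP F 2] {q : ℕ} (hF : Fintype.card F = q) {m s : ℕ} (h : Fintype.card F ≠ 2 ∨ m ≠ 2) (x : ↥(Cfsg.isometryGroup F (Cfsg.quadFormPlus m F))) (hx : x ^ 2 = 1) (hs : (((x : Matrix.GeneralLinearGroup (Fin m ⊕ Fin m) F) : Matrix (Fin m ⊕ Fin m) (Fin m ⊕ Fin m) F) - 1).rank = s) (hodd : Odd s) : Nat.card {g : ↥(Cfsg.Omega F (Cfsg.quadFormPlus m F)) // (g : ↥(Cfsg.isometryGroup F (Cfsg.quadFormPlus m F))) * x = x * (g : ↥(Cfsg.isometryGroup F (Cfsg.quadFormPlus m F)))} = q ^ (2 * m * (s - 1) - (3 * s ^ 2 - 3 * s) / 2) * ((q : ℕ) ^ (((s - 1) / 2) ^ 2) * ∏ i : Fin ((s - 1)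 / 2), (q ^ (2 * ((i : ℕ) + 1)) - 1)) * ((q : ℕ) ^ ((m - s) ^ 2) * ∏ i : Fin (m - s), (q ^ (2 * ((i : ℕ) + 1)) - 1)) := by
  classical
  subst hF
  revert x
  rw [quadFormPlus_eq]
  intro x hx hs
  have hQ := plusQ_nondeg (m := m) (F := F)
  have hcard : Fintype.card (Fin m ⊕ Fin m) = 2 * m := by
    rw [Fintype.card_sum, Fintype.card_fin]; ring
  have hxx : x * x = 1 := by rw [← pow_two]; exact hx
  have hr : finrank F (LinearMap.range (Nmap (plusQ m F) x)) = s := hs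
  have hsm := rank_le_half (plusQ m F) hcard hxx
  obtain ⟨j, hj⟩ := hodd
  obtain ⟨k, rfl⟩ : ∃ k, m = k + 1 := ⟨m - 1, by omega⟩
  have hna : ∃ u, polarBilin (plusQ (k + 1) F) u (Nmap (plusQ (k + 1) F) x u) ≠ 0 := by
    by_contra hcon
    push Not at hcon
    obtain ⟨k', hk', -⟩ := alt_decomp (polarBilin_isAlt (plusQ (k + 1) F)) hQ _ _
      (isSA_Nmap (plusQ (k + 1) F) hxx) rfl hcon
    omega
  have key := card_centralizer_Omega_plus_nonalt k (2 * j) h x hxx (by rw [hr, hj]) hna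
  rw [key, (ofib_closed (Fintype.card F) j).1]
  subst hj
  have hjk : 2 * j ≤ k := by omega
  have h1 : (2 * j + 1 - 1) / 2 = j := by omega
  have h2 : k + 1 - (2 * j + 1) = k - 2 * j := by omega
  rw [h1, h2, Fin.prod_univ_eq_prod_range (fun i => Fintype.card F ^ (2 * (i + 1)) - 1) j,
    Fin.prod_univ_eq_prod_range (fun i => Fintype.card F ^ (2 * (i + 1)) - 1) (k - 2 * j)]
  show _ = Fintype.card F ^ _ * spOrd (Fintype.card F) j * spOrd (Fintype.card F) (k - 2 * j)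
  have hexp : 2 * (k + 1) * (2 * j + 1 - 1) - (3 * (2 * j + 1) ^ 2 - 3 * (2 * j + 1)) / 2
      = 2 * k * (2 * j) - (3 * (2 * j) ^ 2 - 2 * j) / 2 := by
    have e1 : (2 * j + 1) ^ 2 = 4 * (j * j) + 4 * j + 1 := by ring
    have e2 : (2 * j) ^ 2 = 4 * (j * j) := by ring
    have e3 : 2 * (k + 1) * (2 * j + 1 - 1) = 4 * (k * j) + 4 * j := by
      rw [Nat.add_sub_cancel]; ring
    have e4 : 2 * k * (2 * j) = 4 * (k * j) := by ring
    have e5 : 2 * (j * j) ≤ k * j := by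
      have := Nat.mul_le_mul_right j hjk
      linarith
    rw [e1, e2, e3, e4]
    have aux : ∀ a b j : ℕ, 2 * b ≤ a → j ≤ b →
        4 * a + 4 * j - (3 * (4 * b + 4 * j + 1) - 3 * (2 * j + 1)) / 2
          = 4 * a - (3 * (4 * b) - 2 * j) / 2 := by
      intro a b j h h'
      omega
    exact aux _ _ _ e5 (Nat.le_mul_self j)
  rw [hexp]
  ring

end Cfsg.Agent.S2683
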