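import Mathlib
import Cfsg.Statements.S2684
import Cfsg.Agent.Lib.Helper11.OrthCent4

set_option autoImplicit false
open Cfsg

namespace Cfsg.Agent.S2684

open Cfsg.Agent.Helper17.Spinor Cfsg.Agent.Helper11.OrthInv Cfsg.Agent.Helper11.OrthCent
  Cfsg.Agent.Helper11.SympInv QuadraticMap Module

theorem result {F : Type*} [Field F] [Fintype F] [CharP F 2] {q : ℕ} (hF : Fintype.card F = q) {m s : ℕ} (h : Fintype.card F ≠ 2 ∨ m ≠ 2) (x : ↥(Cfsg.isometryGroup F (Cfsg.quadFormPlus m F))) (hx : x ^ 2 = 1) (hx1 : x ≠ 1) (hs : (((x : Matrix.GeneralLinearGroup (Fin m ⊕ Fin m) F) : Matrix (Fin m ⊕ Fin m) (Fin m ⊕ Fin m) F) - 1).rank = s) (heven : Even s) (halt : ∀ v : Fin m ⊕ Fin m → F, Cfsg.quadFormPlus m F ((((x : Matrix.GeneralLinearGroup (Fin m ⊕ Fin m) F) : Matrix (Fin m ⊕ Fin m) (Fin m ⊕ Fin m) F) - 1).mulVec v) = 0) : Nat.card {g : ↥(Cfsg.Omega F (Cfsg.quadFormPlus m F)) // (g : ↥(Cfsg.isometryGroup F (Cfsg.quadFormPlus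 m F))) * x = x * (g : ↥(Cfsg.isometryGroup F (Cfsg.quadFormPlus m F)))} = q ^ (2 * m * s - (3 * s ^ 2 + s) / 2) * ((q : ℕ) ^ ((s / 2) ^ 2) * ∏ i : Fin (s / 2), (q ^ (2 * ((i : ℕ) + 1)) - 1)) * (if s = m then 1 else q ^ ((m - s) * (m - s - 1)) * (q ^ (m - s) - 1) * ∏ i : Fin (m - s - 1), (q ^ (2 * ((i : ℕ) + 1)) - 1)) := by
  classical
  subst hF
  revert x
  rw [quadFormPlus_eq]
  intro x hx hx1 hs halt
  have hcard : Fintype.card (Fin m ⊕ Fin m) = 2 * m := by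
    rw [Fintype.card_sum, Fintype.card_fin]; ring
  have hxx : x * x = 1 := by rw [← pow_two]; exact hx
  have hr : finrank F (LinearMap.range (Nmap (plusQ m F) x)) = s := hs
  have hsm := rank_le_half (plusQ m F) hcard hxx
  have hr1 := rank_pos_of_ne_one (plusQ m F) hx1
  have halt' : ∀ u, polarBilin (plusQ m F) u (Nmap (plusQ m F) x u) = 0 := by
    intro u
    rw [polarBilin_apply_apply, ← Q_Nmap]
    exact halt u
  obtain ⟨j, hj⟩ := heven
  have hj' : s = 2 * j := by omega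
  obtain ⟨k, rfl⟩ : ∃ k, m = k + 1 := ⟨m - 1, by omega⟩
  have key := card_centralizer_Omega_plus_alt k j h x hxx (hr.trans hj') halt'
  rw [key]
  subst hj'
  have h1 : 2 * j / 2 = j := Nat.mul_div_cancel_left j (by norm_num)
  rw [h1, Fin.prod_univ_eq_prod_range (fun i => Fintype.card F ^ (2 * (i + 1)) - 1) j,
    Fin.prod_univ_eq_prod_range (fun i => Fintype.card F ^ (2 * (i + 1)) - 1)
      (k + 1 - 2 * j - 1)]
  rfl

end Cfsg.Agent.S2684
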