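import Mathlib
import Cfsg.Statements.S2685
import Cfsg.Agent.Lib.Helper11.OrthCent2

set_option autoImplicit false
open Cfsg

namespace Cfsg.Agent.S2685

open Cfsg.Agent.Helper17.Spinor Cfsg.Agent.Helper11.OrthInv Cfsg.Agent.Helper11.OrthCent
  Cfsg.Agent.Helper11.SympInv QuadraticMap Module

theorem result {F : Type*} [Field F] [Fintype F] [CharP F 2] {q : ℕ} (hF : Fintype.card F = q) {m s : ℕ} (h : Fintype.card F ≠ 2 ∨ m ≠ 2) (x : ↥(Cfsg.isometryGroup F (Cfsg.quadFormPlus m F))) (hx : x ^ 2 = 1) (hs : (((x : Matrix.GeneralLinearGroup (Fin m ⊕ Fin m) F) : Matrix (Fin m ⊕ Fin m) (Fin m ⊕ Fin m) F) - 1).rank = s) (heven : Even s) (hna : ∃ v : Fin m ⊕ Fin m → F, Cfsg.quadFormPlus m F ((((x : Matrix.GeneralLinearGroup (Fin m ⊕ Fin m) F) : Matrix (Fin m ⊕ Fin m) (Fin m ⊕ Fin m) F) - 1).mulVec v) ≠ 0) : Nat.card {g : ↥(Cfsg.Omega F (Cfsg.quadFormPlus m F)) // (g : ↥(Cfsg.isometryGroup F (Cfsg.quadFormPlus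 m F))) * x = x * (g : ↥(Cfsg.isometryGroup F (Cfsg.quadFormPlus m F)))} = q ^ (2 * m * (s - 1) - (3 * s ^ 2 - 5 * s) / 2 - 1) * ((q : ℕ) ^ (((s - 2) / 2) ^ 2) * ∏ i : Fin ((s - 2) / 2), (q ^ (2 * ((i : ℕ) + 1)) - 1)) * ((q : ℕ) ^ ((m - s) ^ 2) * ∏ i : Fin (m - s), (q ^ (2 * ((i : ℕ) + 1)) - 1)) := by
  classical
  subst hF
  revert x
  rw [quadFormPlus_eq]
  intro x hx hs hna
  have hQ := plusQ_nondeg (m := m) (F := F)
  have hcard : Fintype.card (Fin m ⊕ Fin m) = 2 * m := by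
    rw [Fintype.card_sum, Fintype.card_fin]; ring
  have hxx : x * x = 1 := by rw [← pow_two]; exact hx
  have hr : finrank F (LinearMap.range (Nmap (plusQ m F) x)) = s := hs
  have hsm := rank_le_half (plusQ m F) hcard hxx
  have hna' : ∃ u, polarBilin (plusQ m F) u (Nmap (plusQ m F) x u) ≠ 0 := by
    obtain ⟨v, hv⟩ := hna
    refine ⟨v, ?_⟩
    rw [polarBilin_apply_apply, ← Q_Nmap]
    exact hv
  have hx1 : x ≠ 1 := by
    rintro rfl
    obtain ⟨u, hu⟩ := hna'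
    apply hu
    rw [Nmap_apply]
    have : ((1 : ↥(Cfsg.isometryGroup F (⇑(plusQ m F)))).1.1 :
        Matrix (Fin m ⊕ Fin m) (Fin m ⊕ Fin m) F) = 1 := rfl
    rw [this, Matrix.one_mulVec, sub_self, map_zero]
  have hr1 := rank_pos_of_ne_one (plusQ m F) hx1
  obtain ⟨j', hj'⟩ := heven
  obtain ⟨j, hj⟩ : ∃ j, s = 2 * j + 2 := ⟨j' - 1, by omega⟩
  obtain ⟨k, rfl⟩ : ∃ k, m = k + 1 := ⟨m - 1, by omega⟩
  have key := card_centralizer_Omega_plus_nonalt k (2 * j + 1) h x hxx (by rw [hr, hj]) hna'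
  rw [key, (ofib_closed (Fintype.card F) j).2]
  subst hj
  have hjk : 2 * j + 1 ≤ k := by omega
  have h1 : (2 * j + 2 - 2) / 2 = j := by omega
  have h2 : k + 1 - (2 * j + 2) = k - (2 * j + 1) := by omega
  rw [h1, h2, Fin.prod_univ_eq_prod_range (fun i => Fintype.card F ^ (2 * (i + 1)) - 1) j,
    Fin.prod_univ_eq_prod_range (fun i => Fintype.card F ^ (2 * (i + 1)) - 1) (k - (2 * j + 1))]
  show _ = Fintype.card F ^ _ * spOrd (Fintype.card F) j *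
    spOrd (Fintype.card F) (k - (2 * j + 1))
  have hexp : 2 * (k + 1) * (2 * j + 2 - 1) - (3 * (2 * j + 2) ^ 2 - 5 * (2 * j + 2)) / 2 - 1
      = (2 * j + 1) + (2 * k * (2 * j + 1) - (3 * (2 * j + 1) ^ 2 - (2 * j + 1)) / 2) := by
    have e1 : (2 * j + 2) ^ 2 = 4 * (j * j) + 8 * j + 4 := by ring
    have e2 : (2 * j + 1) ^ 2 = 4 * (j * j) + 4 * j + 1 := by ring
    have e3 : 2 * (k + 1) * (2 * j + 2 - 1) = 4 * (k * j) + 2 * k + 4 * j + 2 := by
      have : 2 * j + 2 - 1 = 2 * j + 1 := by omega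
      rw [this]; ring
    have e4 : 2 * k * (2 * j + 1) = 4 * (k * j) + 2 * k := by ring
    have e5 : 2 * (j * j) + j ≤ k * j := by
      have := Nat.mul_le_mul_right j hjk
      linarith
    rw [e1, e2, e3, e4]
    have aux : ∀ a b j k : ℕ, 2 * b + j ≤ a → j ≤ b → 2 * j + 1 ≤ k →
        4 * a + 2 * k + 4 * j + 2 - (3 * (4 * b + 8 * j + 4) - 5 * (2 * j + 2)) / 2 - 1
          = (2 * j + 1) + (4 * a + 2 * k - (3 * (4 * b + 4 * j + 1) - (2 * j + 1)) / 2) := by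
      intro a b j k h h' h''
      omega
    exact aux _ _ _ _ e5 (Nat.le_mul_self j) hjk
  rw [hexp, pow_add]
  ring

end Cfsg.Agent.S2685
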