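import Mathlib
import Cfsg.Statements.S2686
import Cfsg.Agent.Lib.Helper2.Plb9

set_option autoImplicit false
open Cfsg

namespace Cfsg.Agent.S2686

open Cfsg.Agent.Helper2.PLB Cfsg.Agent.Helper2.PN Cfsg.Agent.Helper2.SpA

/-- an automorphism of graph type is not in the group generated by the inner-diagonal and the
field automorphisms -/
theorem graph_not_mem {F : Type*} [Field F] (r : ℕ) [Fact r.Prime] [CharP F r] {n : ℕ}
    (hn : 3 ≤ n) (g g' : GL (Fin n) F) (σ σ' : RingAut F)
    (h : Psi g * phiF σ * tauAut = Psi g' * phiF (ι := Fin n) σ') : False := by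
  obtain ⟨m, rfl⟩ : ∃ m, n = m + 2 := ⟨n - 2, by omega⟩
  apply tauAut_not_mem_range (F := F) r (m := m) (by omega)
  have h1 : (tauAut : MulAut (Matrix.ProjectiveSpecialLinearGroup (Fin (m + 2)) F)) =
      (Psi g * phiF σ)⁻¹ * (Psi g' * phiF σ') := by
    rw [← h]
    group
  rw [h1, ← Phi_eq, ← Phi_eq, ← map_inv, ← map_mul]
  exact ⟨_, rfl⟩

/-- A criterion for the failure of local balance in almost simple groups with linear socle. Let F be a finite field of characteristic r and K = PSL_n(F) (n ≥ 2) simple. Let A be a group of automorphisms of K containing all inner automorphisms (an almost simple group with socle K), and β ∈ A an automorphism of prime order p ≠ r that is not inner-diagonal (not induced by conjugation by an invertible matrix). Then the largest normal subgroup of C_A(β) of order prime to p is nontrivial if and only if β is the composite of an inner-diagonal automorphism with the automorphism induced by a field automorphism applied entrywise (β is of field type) and p does not divide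 the number of fixed points of β on K. -/
theorem result
    (F : Type*) [Field F] [Fintype F] (r : ℕ) [Fact r.Prime] [CharP F r] (n : ℕ) (hn : 2 ≤ n)
    (hK : IsSimpleGroup (Matrix.ProjectiveSpecialLinearGroup (Fin n) F))
    (𝒢 : Subgroup (MulAut (Matrix.ProjectiveSpecialLinearGroup (Fin n) F))) (hinn : ∀ k : Matrix.ProjectiveSpecialLinearGroup (Fin n) F, MulAut.conj k ∈ 𝒢)
    (p : ℕ) [Fact p.Prime] (hpr : p ≠ r) (β : MulAut (Matrix.ProjectiveSpecialLinearGroup (Fin n) F)) (hβ : β ∈ 𝒢) (hord : orderOf β = p)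
    (hnot : ¬ Cfsg.IsInnerDiagonalAutPSL β) :
    Cfsg.pPrimeCore p ↥(𝒢 ⊓ Subgroup.centralizer {β}) ≠ ⊥ ↔
      ((∃ γ φ : MulAut (Matrix.ProjectiveSpecialLinearGroup (Fin n) F), Cfsg.IsInnerDiagonalAutPSL γ ∧ Cfsg.IsFieldAutPSL φ ∧ β = φ.trans γ) ∧
        Nat.Coprime p (Nat.card ↥(MonoidHom.eqLocus β.toMonoidHom (MonoidHom.id (Matrix.ProjectiveSpecialLinearGroup (Fin n) F))))) := by
  have hfin : Finite F := Finite.of_fintype F
  have hp : p.Prime := Fact.out
  rw [pPrimeCore_ne_bot_iff p (𝒢 ⊓ Subgroup.centralizer {β})]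
  rcases aut_cases r hn β with ⟨g, σ, hβe⟩ | ⟨hn3, g, σ, hβe⟩
  · -- field type
    have hord' : orderOf (Psi g * phiF (ι := Fin n) σ) = p := by rw [← hβe]; exact hord
    have hnot' : ¬ IsInnerDiagonalAutPSL (Psi g * phiF (ι := Fin n) σ) := by
      rw [← hβe]; exact hnot
    obtain ⟨a, hordσ, hx⟩ := exists_conj_phiF_of_prime r hn g σ hp hord' hnot'
    have hfield : ∃ γ φ : MulAut (Matrix.ProjectiveSpecialLinearGroup (Fin n) F),
        Cfsg.IsInnerDiagonalAutPSL γ ∧ Cfsg.IsFieldAutPSL φ ∧ β = φ.trans γ := by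
      refine ⟨Psi g, phiF σ, isInnerDiagonal_Psi g, ⟨σ, ?_⟩, hβe⟩
      have := isStdField_Phi (n := n) (F := F) σ
      rw [← phiF_apply] at this
      exact this
    have hcrit := core_criterionL r hn 𝒢 hinn hp hpr a σ hordσ
    rw [← hx, ← hβe] at hcrit
    rw [hcrit]
    exact ⟨fun h => ⟨hfield, h⟩, fun h => h.2⟩
  · -- graph type: both sides are false
    have hβe' : β = gb g σ := by rw [hβe, gb, mul_assoc]
    have hp2 : p = 2 := by
      rcases hp.eq_two_or_odd' with h | h
      · exact h
      · exfalso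
        obtain ⟨hh, τ, ha⟩ := mem_range_of_odd r hn3 β (by rw [hord]; exact h)
        rw [hβe] at ha
        exact graph_not_mem r hn3 g hh σ τ ha
    subst hp2
    have h2 : (2 : F) ≠ 0 := by
      intro h
      have h1 : ((2 : ℕ) : F) = 0 := by exact_mod_cast h
      rw [CharP.cast_eq_zero_iff F r 2] at h1
      have hr : r.Prime := Fact.out
      exact hpr ((Nat.prime_dvd_prime_iff_eq hr Nat.prime_two).1 h1).symm
    have hsq : gb g σ * gb g σ = 1 := by
      rw [← hβe', ← pow_two, ← hord]
      exact pow_orderOf_eq_one β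
    constructor
    · rintro ⟨N, hNC, hne, hcop, hnorm⟩
      exfalso
      apply hne
      rw [hβe'] at hNC hnorm
      exact core_bot_graph r hn3 h2 g σ hsq 𝒢 hinn N hNC hcop hnorm
    · rintro ⟨⟨γ, φ, hγ, ⟨σ', hφ⟩, hβγ⟩, -⟩
      exfalso
      obtain ⟨g', rfl⟩ := exists_eq_Psi_of_isInnerDiagonal hγ
      have hφ' := eq_phiF_of_isStdField hφ
      rw [hφ', hβe] at hβγ
      exact graph_not_mem r hn3 g g' σ σ' hβγ

end Cfsg.Agent.S2686
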