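import Mathlib
import Cfsg.Statements.S2687
import Cfsg.Agent.S0282
import Cfsg.Agent.Lib.Helper2.Pua11

set_option autoImplicit false
open Cfsg

namespace Cfsg.Agent.S2687

open Cfsg.Agent.Helper11 Cfsg.Agent.Helper11.Herm Cfsg.Agent.Helper2.PU Cfsg.Agent.Helper2.PUA

/-- a finite simple group of composite order is not solvable -/
theorem not_solvable_of_simple {G : Type*} [Group G] [Finite G] (hG : IsSimpleGroup G)
    (hcard : ¬ (Nat.card G).Prime) : ¬ Group.IsSolvable G := by
  intro hsol
  have hcomm : ∀ a b : G, a * b = b * a := IsSimpleGroup.comm_iff_isSolvable.2 hsol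
  let cg : CommGroup G := { (inferInstance : Group G) with mul_comm := hcomm }
  exact hcard (@IsSimpleGroup.prime_card G cg hG)

/-- A criterion for the failure of local balance in almost simple groups with unitary socle. Let F be a finite field of characteristic r with q² elements and K = PSU_n(q) (n ≥ 3, the central quotient of the determinant-one isometries of the standard Hermitian form) simple. Let A be a group of automorphisms of K containing all inner automorphisms, and β ∈ A an automorphism of prime order p ≠ r that is not inner-diagonal (not induced by conjugation by a matrix of the general unitary group). Then the largest normal subgroup of C_A(β) of order prime to p is nontrivial if and only if β is the composite of an inner-diagonal automorphism with the automorphism induced by a field automorphism of F applied entrywise and p does not divide the number of fixed points of β on K. -/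
theorem result
    (F : Type*) [Field F] [Fintype F] (r : ℕ) [Fact r.Prime] [CharP F r] (q : ℕ) (hF : Fintype.card F = q ^ 2)
    (n : ℕ) (hn : 3 ≤ n) (hK : IsSimpleGroup (Cfsg.PSU n F q))
    (𝒢 : Subgroup (MulAut (Cfsg.PSU n F q))) (hinn : ∀ k : Cfsg.PSU n F q, MulAut.conj k ∈ 𝒢)
    (p : ℕ) [Fact p.Prime] (hpr : p ≠ r) (β : MulAut (Cfsg.PSU n F q)) (hβ : β ∈ 𝒢) (hord : orderOf β = p)
    (hnot : ¬ Cfsg.IsInnerDiagonalAutPSU β) :
    Cfsg.pPrimeCore p ↥(𝒢 ⊓ Subgroup.centralizer {β}) ≠ ⊥ ↔
      ((∃ γ φ : MulAut (Cfsg.PSU n F q), Cfsg.IsInnerDiagonalAutPSU γ ∧ (∃ σ : F ≃+* F, Cfsg.IsFieldAutPSUOf σ φ) ∧ β = φ.trans γ) ∧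
        Nat.Coprime p (Nat.card ↥(MonoidHom.eqLocus β.toMonoidHom (MonoidHom.id (Cfsg.PSU n F q))))) := by
  have hr : r.Prime := Fact.out
  -- `q` is a power of `r`
  obtain ⟨k, -, hk⟩ := FiniteField.card F r
  obtain ⟨f, -, hq⟩ : ∃ f ≤ (k : ℕ), q = r ^ f := by
    apply (Nat.dvd_prime_pow hr).1
    rw [← hk, hF]
    exact dvd_pow_self q (by norm_num)
  -- the excluded case
  have hs : ¬ (n = 3 ∧ q = 2) := by
    rintro ⟨rfl, rfl⟩
    have hF4 : Fintype.card F = 4 := by rw [hF]; norm_num
    obtain ⟨hcard, hsol⟩ := Cfsg.Agent.S0282.result hF4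
    have hfin : Finite (Cfsg.PSU 3 F 2) := Nat.finite_of_card_ne_zero (by rw [hcard]; norm_num)
    exact not_solvable_of_simple hK (by rw [hcard]; norm_num) hsol
  obtain ⟨φ', hφ'⟩ := exists_frob hF
  have H := hypU_of_card hF φ' hφ' hn hs
  have hSU : Cfsg.SU n F q = SUg (Fin n) φ' := by
    ext g
    rw [mem_SU_iff_isU φ' hφ', mem_SUg_iff]
  have hGU : Cfsg.GU n F q = UG (Fin n) φ' := GU_eq_UG φ' hφ' n
  exact local_balance_general hq hF φ' hφ' hn H (frob_comm φ' hφ') _ hSU _ hGU 𝒢 hinn p hpr β hβ
    hord hnot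

end Cfsg.Agent.S2687
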