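import Mathlib
import Cfsg.Statements.S2689
import Cfsg.Agent.Lib.Helper2.Psln14

set_option autoImplicit false
open Cfsg

namespace Cfsg.Agent.S2689

/-- The automorphism group of a simple projective special linear group PSL_n(F) over a finite field (n ≥ 2; |F| ≥ 4 when n = 2) is generated by the automorphisms induced by invertible semilinear maps of F^n (the image of the projective semilinear group) together with the inverse-transpose automorphism. -/
theorem result {F : Type*} [Field F] [Fintype F] {p f : ℕ} [Fact p.Prime] (hF : Fintype.card F = p ^ f) (hf : 1 ≤ f) {n : ℕ} (hn : 2 ≤ n) (hs : n = 2 → 4 ≤ Fintype.card F) :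
    Cfsg.gammaPSL n F ⊔ Cfsg.autSubgroupOf (fun β : Matrix.ProjectiveSpecialLinearGroup (Fin n) F ≃* Matrix.ProjectiveSpecialLinearGroup (Fin n) F => Cfsg.IsInverseTransposeAutPSL β) = ⊤ := by
  have : CharP F p := charP_of_card_eq_prime_pow hF
  have hΦ : ∀ x : Cfsg.Agent.Helper2.PN.GamL (Fin n) F,
      Cfsg.Agent.Helper2.PN.Phi x ∈ Cfsg.gammaPSL n F := by
    intro x
    apply Subgroup.subset_closure
    exact ⟨x.1, x.2, Cfsg.Agent.Helper2.PN.isInducedBySemilinear_Phi x.1 x.2⟩
  have hτ : (Cfsg.Agent.Helper2.PN.tauAut :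
      MulAut (Matrix.ProjectiveSpecialLinearGroup (Fin n) F)) ∈
      Cfsg.autSubgroupOf (fun β : Matrix.ProjectiveSpecialLinearGroup (Fin n) F ≃*
        Matrix.ProjectiveSpecialLinearGroup (Fin n) F => Cfsg.IsInverseTransposeAutPSL β) := by
    apply Subgroup.subset_closure
    exact Cfsg.Agent.Helper2.PN.isInverseTranspose_tauAut
  rw [eq_top_iff]
  intro β _
  rcases Cfsg.Agent.Helper2.PN.aut_form p hn β with ⟨x, hx⟩ | ⟨-, x, hx⟩
  · rw [← hx]
    exact Subgroup.mem_sup_left (hΦ x)
  · have hβ : β = (Cfsg.Agent.Helper2.PN.tauAut)⁻¹ * Cfsg.Agent.Helper2.PN.Phi x := by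
      rw [hx, inv_mul_cancel_left]
    rw [hβ]
    exact Subgroup.mul_mem _ (Subgroup.mem_sup_right (Subgroup.inv_mem _ hτ))
      (Subgroup.mem_sup_left (hΦ x))

end Cfsg.Agent.S2689
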