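import Mathlib
import Cfsg.Statements.S2690
import Cfsg.Agent.Lib.Helper2.Psln14

set_option autoImplicit false
open Cfsg

namespace Cfsg.Agent.S2690

/-- Every automorphism of a simple projective special linear group PSL_n(F) over a finite field (n ≥ 2; |F| ≥ 4 when n = 2) is a product δ φ γ of an inner-diagonal automorphism δ (induced by an invertible matrix), a standard field automorphism φ (one automorphism of F applied to every entry, possibly the identity) and γ either the identity or the inverse-transpose automorphism. -/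
theorem result {F : Type*} [Field F] [Fintype F] {p f : ℕ} [Fact p.Prime] (hF : Fintype.card F = p ^ f) (hf : 1 ≤ f) {n : ℕ} (hn : 2 ≤ n) (hs : n = 2 → 4 ≤ Fintype.card F) (β : MulAut (Matrix.ProjectiveSpecialLinearGroup (Fin n) F)) :
    ∃ (δ φ γ : MulAut (Matrix.ProjectiveSpecialLinearGroup (Fin n) F)) (σ : F ≃+* F), Cfsg.IsInnerDiagonalAutPSL δ ∧ Cfsg.IsStdFieldAutPSL σ φ ∧ (γ = 1 ∨ Cfsg.IsInverseTransposeAutPSL γ) ∧ β = δ * φ * γ := by
  have : CharP F p := charP_of_card_eq_prime_pow hF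
  have hfin : ∀ x : Cfsg.Agent.Helper2.PN.GamL (Fin n) F,
      Cfsg.Agent.Helper2.PN.Phi x =
        Cfsg.Agent.Helper2.PN.Phi ⟨x.1, 1⟩ * Cfsg.Agent.Helper2.PN.Phi ⟨1, x.2⟩ := by
    intro x
    rw [← map_mul]
    congr 1
    apply SemidirectProduct.ext
    · simp
    · simp
  rcases Cfsg.Agent.Helper2.PN.aut_form p hn β⁻¹ with ⟨x, hx⟩ | ⟨-, x, hx⟩
  · refine ⟨Cfsg.Agent.Helper2.PN.Phi ⟨x⁻¹.1, 1⟩, Cfsg.Agent.Helper2.PN.Phi ⟨1, x⁻¹.2⟩, 1, x⁻¹.2,
      Cfsg.Agent.Helper2.PN.isInnerDiagonal_Phi _, Cfsg.Agent.Helper2.PN.isStdField_Phi _,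
      Or.inl rfl, ?_⟩
    rw [mul_one, ← hfin, map_inv, hx, inv_inv]
  · refine ⟨Cfsg.Agent.Helper2.PN.Phi ⟨x⁻¹.1, 1⟩, Cfsg.Agent.Helper2.PN.Phi ⟨1, x⁻¹.2⟩,
      Cfsg.Agent.Helper2.PN.tauAut, x⁻¹.2,
      Cfsg.Agent.Helper2.PN.isInnerDiagonal_Phi _, Cfsg.Agent.Helper2.PN.isStdField_Phi _,
      Or.inr Cfsg.Agent.Helper2.PN.isInverseTranspose_tauAut, ?_⟩
    rw [← hfin, map_inv, hx, mul_inv_rev, inv_inv, inv_mul_cancel_right]

end Cfsg.Agent.S2690
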