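import Mathlib
import Cfsg.Statements.S2691
import Cfsg.Agent.Lib.Helper2.Psu17

set_option autoImplicit false
open Cfsg

namespace Cfsg.Agent.S2691

open Cfsg.Agent.Helper11 Cfsg.Agent.Helper11.Herm Cfsg.Agent.Helper2.PU

/-- The automorphism group of a simple projective special unitary group PSU_n(q), n ≥ 3, (n, q) ≠ (3, 2), realised over the field F with q² elements through the Hermitian form Σ uᵢ vᵢ^q, is generated by the automorphisms induced by the semilinear maps v ↦ g σ(v) with g a general unitary matrix and σ an automorphism of F (the image of the projective semilinear unitary group). -/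
theorem result {F : Type*} [Field F] [Fintype F] {p f q : ℕ} [Fact p.Prime] (hq : q = p ^ f) (hf : 1 ≤ f) (hF : Fintype.card F = q ^ 2) {n : ℕ} (hn : 3 ≤ n) (hs : ¬ (n = 3 ∧ q = 2)) :
    Cfsg.gammaPSU n F q = ⊤ := by
  obtain ⟨φ', hφ'⟩ := exists_frob hF
  have H := hypU_of_card hF φ' hφ' hn hs
  have hF' : Fintype.card F = p ^ (f * 2) := by rw [hF, hq, pow_mul]
  have hchar : CharP F p := charP_of_card_eq_prime_pow hF'
  have hSU : Cfsg.SU n F q = SUg (Fin n) φ' := by
    ext g
    rw [mem_SU_iff_isU φ' hφ', mem_SUg_iff]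
  rw [eq_top_iff]
  intro β _
  unfold Cfsg.gammaPSU Cfsg.autSubgroupOf
  apply Subgroup.subset_closure
  obtain ⟨σ, g, ψ, hg, h1, h2, h3⟩ :=
    aut_general H p (frob_comm φ' hφ') (Cfsg.SU n F q) hSU β
  refine ⟨⟨g, adjU φ' g, self_mul_adjU hg, adjU_mul_self hg⟩, σ, ?_, ?_⟩
  · rw [mem_GU_iff_isU φ' hφ']
    exact hg
  · intro s s' h
    exact h3 s s' h

end Cfsg.Agent.S2691
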