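import Mathlib
import Cfsg.Statements.S2692
import Cfsg.Agent.Lib.Helper2.Psu17

set_option autoImplicit false
open Cfsg

namespace Cfsg.Agent.S2692

open Cfsg.Agent.Helper11 Cfsg.Agent.Helper11.Herm Cfsg.Agent.Helper2.PU

/-- Every automorphism of a simple PSU_n(q), n ≥ 3, (n, q) ≠ (3, 2), realised over the field F with q² elements, is a product δ φ of an inner-diagonal automorphism δ (induced by a general unitary matrix) and a standard field automorphism φ (one automorphism of F applied to every entry, possibly the identity; the standard field automorphisms of even order are the graph automorphisms here). -/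
theorem result {F : Type*} [Field F] [Fintype F] {p f q : ℕ} [Fact p.Prime] (hq : q = p ^ f) (hf : 1 ≤ f) (hF : Fintype.card F = q ^ 2) {n : ℕ} (hn : 3 ≤ n) (hs : ¬ (n = 3 ∧ q = 2)) (β : MulAut (Cfsg.PSU n F q)) :
    ∃ (δ φ : MulAut (Cfsg.PSU n F q)) (σ : F ≃+* F), Cfsg.IsInnerDiagonalAutPSU δ ∧ Cfsg.IsFieldAutPSUOf σ φ ∧ β = δ * φ := by
  obtain ⟨φ', hφ'⟩ := exists_frob hF
  have H := hypU_of_card hF φ' hφ' hn hs
  have hF' : Fintype.card F = p ^ (f * 2) := by rw [hF, hq, pow_mul]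
  have hchar : CharP F p := charP_of_card_eq_prime_pow hF'
  have hSU : Cfsg.SU n F q = SUg (Fin n) φ' := by
    ext g
    rw [mem_SU_iff_isU φ' hφ', mem_SUg_iff]
  obtain ⟨σ, g, ψ, hg, h1, h2, h3⟩ :=
    aut_general H p (frob_comm φ' hφ') (Cfsg.SU n F q) hSU β
  refine ⟨β * ψ⁻¹, ψ, σ, ?_, h1, by group⟩
  refine ⟨⟨g, adjU φ' g, self_mul_adjU hg, adjU_mul_self hg⟩, ?_, ?_⟩
  · rw [mem_GU_iff_isU φ' hφ']
    exact hg
  · intro s s' h
    exact h2 s s' h

end Cfsg.Agent.S2692
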