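import Mathlib
import Cfsg.Statements.S2694
import Cfsg.Agent.Lib.Helper17.OrthAut26
import Cfsg.Agent.Lib.Helper2.OrthFrames3

set_option autoImplicit false
open Cfsg

namespace Cfsg.Agent.S2694

/-- For m ≥ 3 and a finite field F of odd order, the automorphism group of the orthogonal group Ω_{2m+1}(F) (realised as PΩ of the form x₀² + Σ xᵢ yᵢ, whose centre is trivial) is generated by the automorphisms induced by the semisimilarities v ↦ g σ(v) of the form (the image of the projective semisimilarity group); there are no graph or graph-field automorphisms. -/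
theorem result {F : Type*} [Field F] [Fintype F] (hodd : Odd (Fintype.card F)) {m : ℕ} (hm : 3 ≤ m) :
    Cfsg.gammaPOmega F (Cfsg.quadFormOdd m F) = ⊤ := by
  classical
  have h2 : (2 : F) ≠ 0 := by
    have hc : ringChar F ≠ 2 := by
      intro h
      have := FiniteField.even_card_of_char_two h
      have := Nat.odd_iff.1 hodd
      omega
    exact Ring.two_ne_zero hc
  obtain ⟨k, rfl⟩ : ∃ k, m = k + 3 := ⟨m - 3, by omega⟩
  rw [Cfsg.Agent.Helper2.Orth.quadFormOdd_eq]
  have hc : Fintype.card (Unit ⊕ (Fin (k + 3) ⊕ Fin (k + 3))) = 2 * k + 7 := by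
    simp only [Fintype.card_sum, Fintype.card_fin, Fintype.card_unit]
    omega
  have hex : Fintype.card F ≠ 2 ∨ Fintype.card (Unit ⊕ (Fin (k + 3) ⊕ Fin (k + 3))) ≠ 4 := by
    right
    omega
  have hQ := Cfsg.Agent.Helper2.Orth.nondeg_odd (F := F) (k + 3) h2
  exact Cfsg.Agent.Helper17.OrthAut.gammaPOmega_eq_top hQ hex
    (Cfsg.Agent.Helper2.Orth.hypFrame_odd k)
    (Cfsg.Agent.Helper17.OrthAut.noBigMax_of_odd hQ ⟨k + 3, by omega⟩)

end Cfsg.Agent.S2694
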