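import Mathlib
import Cfsg.Statements.S2695
import Cfsg.Agent.Lib.Helper17.OrthAut28
import Cfsg.Agent.Lib.Helper2.OrthFrames3

set_option autoImplicit false
open Cfsg

namespace Cfsg.Agent.S2695

/-- For m ≥ 5 and a finite field F, the automorphism group of PΩ⁺_{2m}(F) (the form Σ xᵢ yᵢ) is generated by the automorphisms induced by the semisimilarities v ↦ g σ(v) of the form (the image of the projective semisimilarity group). The case 2m = 8 is excluded: there triality gives further automorphisms. -/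
theorem result {F : Type*} [Field F] [Fintype F] {m : ℕ} (hm : 5 ≤ m) :
    Cfsg.gammaPOmega F (Cfsg.quadFormPlus m F) = ⊤ := by
  classical
  obtain ⟨k, rfl⟩ : ∃ k, m = k + 3 := ⟨m - 3, by omega⟩
  rw [Cfsg.Agent.Helper2.Orth.quadFormPlus_eq]
  have hc : Fintype.card (Fin (k + 3) ⊕ Fin (k + 3)) = 2 * (k + 3) := by
    simp only [Fintype.card_sum, Fintype.card_fin]
    omega
  have hex : Fintype.card F ≠ 2 ∨ Fintype.card (Fin (k + 3) ⊕ Fin (k + 3)) ≠ 4 := by
    right
    omega
  have hQ := Cfsg.Agent.Helper2.Orth.nondeg_plus (F := F) (k + 3)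
  exact Cfsg.Agent.Helper17.OrthAut.gammaPOmega_eq_top hQ hex
    (Cfsg.Agent.Helper2.Orth.hypFrame_plus k)
    (Cfsg.Agent.Helper17.OrthAut.noBigMax_of_even hQ hm hc)

end Cfsg.Agent.S2695
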