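import Mathlib
import Cfsg.Statements.S2696
import Cfsg.Agent.Lib.Helper17.OrthAut27

set_option autoImplicit false
open Cfsg

namespace Cfsg.Agent.S2696

/-- For m ≥ 3 and a finite field F, the automorphism group of the minus-type group PΩ⁻_{2m+2}(F) (the form Σ xᵢ yᵢ + z₁² + a z₁ z₂ + b z₂² with anisotropic binary part) is generated by the automorphisms induced by the semisimilarities v ↦ g σ(v) of the form, that is, pairs with Q(g σ(v)) = c σ(Q(v)) (the image of the projective semisimilarity group). -/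
theorem result {F : Type*} [Field F] [Fintype F] {m : ℕ} (hm : 3 ≤ m) (a b : F) (hab : ∀ z₁ z₂ : F, z₁ ^ 2 + a * z₁ * z₂ + b * z₂ ^ 2 = 0 → z₁ = 0 ∧ z₂ = 0) :
    Cfsg.gammaPOmega F (Cfsg.quadFormMinus m F a b) = ⊤ := by
  classical
  obtain ⟨k, rfl⟩ : ∃ k, m = k + 3 := ⟨m - 3, by omega⟩
  rw [Cfsg.Agent.Helper2.Orth.quadFormMinus_eq]
  have hc : Fintype.card ((Fin (k + 3) ⊕ Fin (k + 3)) ⊕ Fin 2) = 2 * k + 8 := by
    simp only [Fintype.card_sum, Fintype.card_fin]
    omega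
  have hex : Fintype.card F ≠ 2 ∨ Fintype.card ((Fin (k + 3) ⊕ Fin (k + 3)) ⊕ Fin 2) ≠ 4 := by
    right
    omega
  have hQ := Cfsg.Agent.Helper2.Orth.nondeg_minus (F := F) (k + 3) a b hab
  exact Cfsg.Agent.Helper17.OrthAut.gammaPOmega_eq_top hQ hex
    (Cfsg.Agent.Helper2.Orth.hypFrame_minus k a b)
    (Cfsg.Agent.Helper17.OrthAut.noBigMax_minus (k + 3) a b hab)

end Cfsg.Agent.S2696
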