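import Mathlib
import Cfsg.Statements.S2697
import Cfsg.Agent.Lib.Helper2.Psln28

set_option autoImplicit false
open Cfsg

namespace Cfsg.Agent.S2697

/-- Let T = PSL_n(F) be simple over a finite field (n ≥ 2; |F| ≥ 4 when n = 2) and let x be a field automorphism or a graph-field automorphism of T of prime order r. Then an element y of the coset Inndiag(T)·x (that is, y = δ x with δ in the inner-diagonal group, the image of PGL_n(F)) has order r if and only if y is conjugate to x by an element of Inndiag(T). -/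
theorem result {F : Type*} [Field F] [Fintype F] {p f : ℕ} [Fact p.Prime] (hF : Fintype.card F = p ^ f) (hf : 1 ≤ f) {n : ℕ} (hn : 2 ≤ n) (hs : n = 2 → 4 ≤ Fintype.card F) (x δ : MulAut (Matrix.ProjectiveSpecialLinearGroup (Fin n) F)) (hx : Cfsg.IsFieldAutClassPSL x ∨ Cfsg.IsGraphFieldAutClassPSL x) {r : ℕ} (hr : r.Prime) (hxr : orderOf x = r) (hδ : δ ∈ Cfsg.inndiagPSL n F) :
    orderOf (δ * x) = r ↔ Cfsg.IsConjUnder (Cfsg.inndiagPSL n F) x (δ * x) := by
  have hchar : CharP F p := charP_of_card_eq_prime_pow hF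
  have hnt : Nontrivial (Fin n) := Fin.nontrivial_iff_two_le.mpr hn
  have hG : (Cfsg.inndiagPSL n F).Normal := by
    rw [Cfsg.Agent.Helper2.PN.inndiag_eq]
    exact Cfsg.Agent.Helper2.PN.normal_range_Psi p hn
  constructor
  · intro h
    rcases hx with hx | hx
    · obtain ⟨α, σ, hσ1, hα⟩ := Cfsg.Agent.Helper2.PN.exists_of_isFieldAutClass hx
      have hord : orderOf σ = r := by
        rw [← Cfsg.Agent.Helper2.PN.orderOf_phiF (n := n) p σ, ← hα, ← hxr]
        exact (MulAut.conj α).orderOf_eq x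
      apply Cfsg.Agent.Helper2.PN.isConjUnder_of_core (Cfsg.inndiagPSL n F) α x δ r hδ ?_ h
      intro δ₀ hδ₀ h0
      rw [hα] at h0 ⊢
      rw [Cfsg.Agent.Helper2.PN.inndiag_eq] at hδ₀
      obtain ⟨g, rfl⟩ := hδ₀
      have hpow : (Cfsg.Agent.Helper2.PN.Psi g * Cfsg.Agent.Helper2.PN.phiF σ) ^ r = 1 := by
        rw [← h0]
        exact pow_orderOf_eq_one _
      obtain ⟨k, hk⟩ := Cfsg.Agent.Helper2.PN.exists_conj_phiF p σ r hr.pos hord g hpow
      refine ⟨Cfsg.Agent.Helper2.PN.Psi k, ?_, hk⟩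
      rw [Cfsg.Agent.Helper2.PN.inndiag_eq]
      exact ⟨k, rfl⟩
    · obtain ⟨h3, α, σ, hσ1, hα⟩ := Cfsg.Agent.Helper2.PN.exists_of_isGraphFieldAutClass hx
      obtain ⟨m, rfl⟩ : ∃ m, n = m + 2 := ⟨n - 2, by omega⟩
      have hord0 : orderOf (Cfsg.Agent.Helper2.PN.phiF (ι := Fin (m + 2)) σ *
          Cfsg.Agent.Helper2.PN.tauAut) = r := by
        rw [← hα, ← hxr]
        exact (MulAut.conj α).orderOf_eq x
      have hr2 : r = 2 := Cfsg.Agent.Helper2.PN.orderOf_x0_eq_two p (by omega) σ r hr hord0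
      subst hr2
      have hσ := Cfsg.Agent.Helper2.PN.involution_of_orderOf_x0 p σ hord0
      apply Cfsg.Agent.Helper2.PN.isConjUnder_of_core (Cfsg.inndiagPSL (m + 2) F) α x δ 2 hδ ?_ h
      intro δ₀ hδ₀ h0
      rw [hα] at h0 ⊢
      rw [Cfsg.Agent.Helper2.PN.inndiag_eq] at hδ₀
      obtain ⟨g, rfl⟩ := hδ₀
      have hpow : (Cfsg.Agent.Helper2.PN.Psi g * (Cfsg.Agent.Helper2.PN.phiF σ *
          Cfsg.Agent.Helper2.PN.tauAut)) ^ 2 = 1 := by
        have := pow_orderOf_eq_one (Cfsg.Agent.Helper2.PN.Psi g * (Cfsg.Agent.Helper2.PN.phiF σ *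
          Cfsg.Agent.Helper2.PN.tauAut))
        rwa [h0] at this
      obtain ⟨k, hk⟩ := Cfsg.Agent.Helper2.PN.exists_conj_x0 p σ hσ hσ1 g hpow
      refine ⟨Cfsg.Agent.Helper2.PN.Psi k, ?_, hk⟩
      rw [Cfsg.Agent.Helper2.PN.inndiag_eq]
      exact ⟨k, rfl⟩
  · rintro ⟨h, -, heq⟩
    rw [heq, ← hxr]
    exact (MulAut.conj h).orderOf_eq x

end Cfsg.Agent.S2697
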