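import Mathlib
import Cfsg.Statements.S2698
import Cfsg.Agent.Lib.Helper2.Psln28

set_option autoImplicit false
open Cfsg

namespace Cfsg.Agent.S2698

/-- Let T = PSL_n(F) be simple over the field F with p^f elements (n ≥ 2; p^f ≥ 4 when n = 2), G = Inndiag(T) the image of PGL_n(F) in Aut(T), and x a field automorphism of T of prime order r. Then r divides f; the centralizer C_G(x) is isomorphic to PGL_n(F₀) for the subfield size |F₀| = p^(f/r); and the G-class of x is the union of exactly gcd(n, (p^f − 1)/(p^(f/r) − 1)) classes under conjugation by T (the inner automorphism group). -/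
theorem result {F : Type*} [Field F] [Fintype F] {p f : ℕ} [Fact p.Prime] (hF : Fintype.card F = p ^ f) (hf : 1 ≤ f) {n : ℕ} (hn : 2 ≤ n) (hs : n = 2 → 4 ≤ Fintype.card F) (x : MulAut (Matrix.ProjectiveSpecialLinearGroup (Fin n) F)) (hx : Cfsg.IsFieldAutClassPSL x) {r : ℕ} (hr : r.Prime) (hxr : orderOf x = r) (F₀ : Type*) [Field F₀] [Fintype F₀] (hF₀ : Fintype.card F₀ = p ^ (f / r)) :
    r ∣ f ∧ Nonempty (↥(Cfsg.inndiagPSL n F ⊓ Subgroup.centralizer {x}) ≃* Matrix.ProjGenLinGroup (Fin n) F₀) ∧ Cfsg.splitClassCount (Cfsg.inndiagPSL n F) (Cfsg.Inn (Matrix.ProjectiveSpecialLinearGroup (Fin n) F)) x = Nat.gcd n ((p ^ f - 1) / (p ^ (f / r) - 1)) := by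
  have hchar : CharP F p := charP_of_card_eq_prime_pow hF
  have hnt : Nontrivial (Fin n) := Fin.nontrivial_iff_two_le.mpr hn
  obtain ⟨α, σ, hσ1, hα⟩ := Cfsg.Agent.Helper2.PN.exists_of_isFieldAutClass hx
  have hord : orderOf σ = r := by
    rw [← Cfsg.Agent.Helper2.PN.orderOf_phiF (n := n) p σ, ← hα, ← hxr]
    exact (MulAut.conj α).orderOf_eq x
  have hr0 : 0 < r := hr.pos
  have hrf : r ∣ f := by
    have := orderOf_dvd_natCard σ
    rwa [hord, Cfsg.Agent.Helper2.OutCongr.card_ringEquiv hF] at this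
  have hcardfix : Nat.card (Cfsg.Agent.Helper13.FAut.fixedField σ) = p ^ (f / r) :=
    Cfsg.Agent.Helper13.FAut.card_fixedField σ r (p ^ (f / r)) hr0 hord
      (by rw [hF, ← pow_mul, Nat.div_mul_cancel hrf])
  haveI : Fintype (Cfsg.Agent.Helper13.FAut.fixedField σ) := Fintype.ofFinite _
  have e : F₀ ≃+* Cfsg.Agent.Helper13.FAut.fixedField σ :=
    FiniteField.ringEquivOfCardEq (by rw [hF₀, ← Nat.card_eq_fintype_card, hcardfix])
  haveI hG : (Cfsg.inndiagPSL n F).Normal := by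
    rw [Cfsg.Agent.Helper2.PN.inndiag_eq]
    exact Cfsg.Agent.Helper2.PN.normal_range_Psi p hn
  refine ⟨hrf, ?_, ?_⟩
  · obtain ⟨e1⟩ := Cfsg.Agent.Helper2.PN.centralizer_phiF_equiv (n := n) p σ r hr0 hord e
    have e2 := Cfsg.Agent.Helper2.PN.centralizerInfEquiv (Cfsg.inndiagPSL n F) α x
    rw [hα] at e2
    exact ⟨e2.trans e1⟩
  · rw [← Cfsg.Agent.Helper2.PN.splitClassCount_conj _ _ α x, hα]
    obtain ⟨m, rfl⟩ := Nat.exists_eq_add_of_le' hn
    rw [Cfsg.Agent.Helper2.PN.splitClassCount_phiF p σ r hr0 hord,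
      Cfsg.Agent.Helper2.PN.index_ufix, hcardfix, Nat.card_eq_fintype_card, hF]

end Cfsg.Agent.S2698
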