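import Mathlib
import Cfsg.Statements.S2699
import Cfsg.Agent.Lib.Helper2.Pgr10

set_option autoImplicit false
open Cfsg

namespace Cfsg.Agent.S2699

open Matrix Cfsg.Agent.Helper13 Cfsg.Agent.Helper2.PGR Cfsg.Agent.Helper2.PN

/-- Let T = PSL_n(F) over the field with p^f elements with n ≥ 3 odd, n = 2m + 1, and G = Inndiag(T) the image of PGL_n(F). Every involutory graph automorphism γ of T (an inner-diagonal automorphism followed by inverse-transpose, of order 2) has centralizer C_G(γ) isomorphic to the projective conformal orthogonal group of the form x₀² + Σ xᵢ yᵢ in dimension n (for q even this group is isomorphic to Sp_{n−1}(q)), and any two involutory graph automorphisms are G-conjugate. -/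
theorem result {F : Type*} [Field F] [Fintype F] {p f : ℕ} [Fact p.Prime] (hF : Fintype.card F = p ^ f) (hf : 1 ≤ f) {n : ℕ} (hn : 3 ≤ n) {m : ℕ} (hnm : n = 2 * m + 1) (γ γ' : MulAut (Matrix.ProjectiveSpecialLinearGroup (Fin n) F)) (hγ : Cfsg.IsGraphAutClassPSL γ) (hγ2 : orderOf γ = 2) (hγ' : Cfsg.IsGraphAutClassPSL γ') (hγ'2 : orderOf γ' = 2) :
    Nonempty (↥(Cfsg.inndiagPSL n F ⊓ Subgroup.centralizer {γ}) ≃* Cfsg.PGO F (Cfsg.quadFormOdd m F)) ∧ Cfsg.IsConjUnder (Cfsg.inndiagPSL n F) γ γ' := by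
  classical
  obtain ⟨p', hp'⟩ := CharP.exists F
  have hpp : Fact p'.Prime := ⟨CharP.char_is_prime F p'⟩
  have hn2 : 2 ≤ n := by omega
  obtain ⟨M, rfl, hM⟩ := exists_grM_of_invol p' γ hγ hγ2
  obtain ⟨M', rfl, hM'⟩ := exists_grM_of_invol p' γ' hγ' hγ'2
  have hdet : (M : Matrix (Fin n) (Fin n) F).det ≠ 0 := (Matrix.isUnits_det_units M).ne_zero
  have hdet' : (M' : Matrix (Fin n) (Fin n) F).det ≠ 0 := (Matrix.isUnits_det_units M').ne_zero
  have hcard : Fintype.card (Fin n) = 2 * m + 1 := by rw [Fintype.card_fin]; exact hnm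
  have hnotalt : ∀ X : Matrix (Fin n) (Fin n) F, X.det ≠ 0 →
      ¬ ∀ v : Fin n → F, v ⬝ᵥ (X *ᵥ v) = 0 := by
    intro X hX halt
    have := even_card_of_alt X hX halt
    rw [hcard] at this
    rcases this with ⟨k, hk⟩
    omega
  by_cases h2 : (2 : F) = 0
  · have hp2 : p' = 2 := by
      have h3 : ((2 : ℕ) : F) = 0 := by exact_mod_cast h2
      rw [CharP.cast_eq_zero_iff F p'] at h3
      exact (Nat.prime_dvd_prime_iff_eq hpp.out Nat.prime_two).1 h3
    subst hp2
    have hs : (M : Matrix (Fin n) (Fin n) F)ᵀ = M := by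
      rcases hM with h | ⟨h, -⟩
      · exact h
      · exact absurd h2 h
    have hs' : (M' : Matrix (Fin n) (Fin n) F)ᵀ = M' := by
      rcases hM' with h | ⟨h, -⟩
      · exact h
      · exact absurd h2 h
    have hna : ∃ v : Fin n → F, v ⬝ᵥ ((M : Matrix (Fin n) (Fin n) F) *ᵥ v) ≠ 0 := by
      by_contra hcon
      push Not at hcon
      exact hnotalt _ hdet hcon
    have hna' : ∃ v : Fin n → F, v ⬝ᵥ ((M' : Matrix (Fin n) (Fin n) F) *ᵥ v) ≠ 0 := by
      by_contra hcon
      push Not at hcon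
      exact hnotalt _ hdet' hcon
    have hT := hasType_one_of_not_alt (M : Matrix (Fin n) (Fin n) F) hdet hs hna n
      (Fintype.card_fin n)
    have hT' := hasType_one_of_not_alt (M' : Matrix (Fin n) (Fin n) F) hdet' hs' hna' n
      (Fintype.card_fin n)
    refine ⟨?_, conj_of_hasType 2 hn2 M M' _ hT hT'⟩
    obtain ⟨e⟩ := centralizer_equiv_of_hasType 2 hn2 M (oddB m F)
      (hT.trans (hasType_oddB m n hnm).symm) _ rfl
    obtain ⟨e'⟩ := pgo_equiv_two (F := F) h2 m
    exact ⟨e.trans e'⟩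
  · have hsym : ∀ X : GL (Fin n) F, ((X : Matrix (Fin n) (Fin n) F)ᵀ = X ∨
        ((2 : F) ≠ 0 ∧ (X : Matrix (Fin n) (Fin n) F)ᵀ = -X)) →
        (X : Matrix (Fin n) (Fin n) F)ᵀ = X := by
      intro X hX
      rcases hX with h | ⟨-, h⟩
      · exact h
      · exact absurd (alt_of_skew h2 _ h) (hnotalt _ (Matrix.isUnits_det_units X).ne_zero)
    have hT := hasType_sym_odd (M : Matrix (Fin n) (Fin n) F) hdet (hsym M hM) h2 m hcard
    have hT' := hasType_sym_odd (M' : Matrix (Fin n) (Fin n) F) hdet' (hsym M' hM') h2 m hcard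
    exact ⟨centralizer_equiv_of_hasType p' hn2 M (oddN m F) hT _ (simG_oddN h2 m).symm,
      conj_of_hasType p' hn2 M M' _ hT hT'⟩

end Cfsg.Agent.S2699
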