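import Mathlib
import Cfsg.Statements.S2700
import Cfsg.Agent.Lib.Helper2.Pgr8

set_option autoImplicit false
open Cfsg

namespace Cfsg.Agent.S2700

open Matrix Cfsg.Agent.Helper13 Cfsg.Agent.Helper2.PGR Cfsg.Agent.Helper2.PN

/-- Let T = PSL_n(F) over a finite field of odd order with n = 2m ≥ 4 even, and G = Inndiag(T) the image of PGL_n(F). The involutory graph automorphisms of T fall into exactly three G-classes, with representatives γ₁, γ₂, γ₃ whose centralizers in G are isomorphic respectively to the projective conformal symplectic group PGSp_n(F), the projective conformal orthogonal group of the plus-type form Σ xᵢ yᵢ, and that of a minus-type form Σ xᵢ yᵢ + z₁² + a z₁ z₂ + b z₂² (anisotropic binary part) in dimension n. -/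
theorem result {F : Type*} [Field F] [Fintype F] (hodd : Odd (Fintype.card F)) {n m : ℕ} (hm : 2 ≤ m) (hnm : n = 2 * m) :
    ∃ (γ₁ γ₂ γ₃ : MulAut (Matrix.ProjectiveSpecialLinearGroup (Fin n) F)) (a b : F), (∀ z₁ z₂ : F, z₁ ^ 2 + a * z₁ * z₂ + b * z₂ ^ 2 = 0 → z₁ = 0 ∧ z₂ = 0) ∧ Cfsg.IsGraphAutClassPSL γ₁ ∧ orderOf γ₁ = 2 ∧ Cfsg.IsGraphAutClassPSL γ₂ ∧ orderOf γ₂ = 2 ∧ Cfsg.IsGraphAutClassPSL γ₃ ∧ orderOf γ₃ = 2 ∧ ¬ Cfsg.IsConjUnder (Cfsg.inndiagPSL n F) γ₁ γ₂ ∧ ¬ Cfsg.IsConjUnder (Cfsg.inndiagPSL n F) γ₁ γ₃ ∧ ¬ Cfsg.IsConjUnder (Cfsg.inndiagPSL n F) γ₂ γ₃ ∧ (∀ γ : MulAut (Matrix.ProjectiveSpecialLinearGroup (Fin n) F), Cfsg.IsGraphAutClassPSL γ → orderOf γ = 2 → Cfsg.IsConjUnder (Cfsg.inndiagPSL n F) γ₁ γ ∨ Cfsg.IsConjUnder (Cfsg.inndiagPSL n F) γ₂ γ ∨ Cfsg.IsConjUnder (Cfsg.inndiagPSL n F) γ₃ γ) ∧ Nonempty (↥(Cfsg.inndiagPSL n F ⊓ Subgroup.centralizer {γ₁}) ≃* Cfsg.PGSp m F) ∧ Nonempty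 (↥(Cfsg.inndiagPSL n F ⊓ Subgroup.centralizer {γ₂}) ≃* Cfsg.PGO F (Cfsg.quadFormPlus m F)) ∧ Nonempty (↥(Cfsg.inndiagPSL n F ⊓ Subgroup.centralizer {γ₃}) ≃* Cfsg.PGO F (Cfsg.quadFormMinus (m - 1) F a b)) := by
  classical
  obtain ⟨p, hp⟩ := CharP.exists F
  have hpp : Fact p.Prime := ⟨CharP.char_is_prime F p⟩
  have h2 : (2 : F) ≠ 0 := by
    have hc : ringChar F ≠ 2 := by
      intro h
      have := FiniteField.even_card_of_char_two h
      have := Nat.odd_iff.1 hodd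
      omega
    exact Ring.two_ne_zero hc
  have hn3 : 3 ≤ n := by omega
  have hn2 : 2 ≤ n := by omega
  obtain ⟨ζ₀, hζ₀⟩ := exists_zeta (F := F)
  have e₁ : Fin n ≃ Fin m ⊕ Fin m :=
    Fintype.equivOfCardEq (by simp only [Fintype.card_sum, Fintype.card_fin]; omega)
  have e₃ : Fin n ≃ (Fin (m - 1) ⊕ Fin (m - 1)) ⊕ Fin 2 :=
    Fintype.equivOfCardEq (by simp only [Fintype.card_sum, Fintype.card_fin]; omega)
  have hJ := J_det_ne_zero (F := F) m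
  have hH := hypBlock_det_ne_zero (F := F) m
  have hN := minusN_det_ne_zero (m - 1) ζ₀ h2 hζ₀
  have hJT : (Matrix.J (Fin m) F)ᵀ = (-1 : F) • Matrix.J (Fin m) F := by
    rw [Matrix.J_transpose, neg_one_smul]
  have hHT : (hypBlock m F)ᵀ = (1 : F) • hypBlock m F := by
    rw [hypBlock_transpose, one_smul]
  have hNT : (minusN (m - 1) ζ₀)ᵀ = (1 : F) • minusN (m - 1) ζ₀ := by
    rw [minusN_transpose, one_smul]
  have hHne : hypBlock m F ≠ 0 := by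
    intro h
    have hne : Nonempty (Fin m ⊕ Fin m) := ⟨Sum.inl ⟨0, by omega⟩⟩
    rw [h, Matrix.det_zero] at hH
    exact hH rfl
  have hNne : minusN (m - 1) ζ₀ ≠ 0 := by
    intro h
    have hne : Nonempty ((Fin (m - 1) ⊕ Fin (m - 1)) ⊕ Fin 2) := ⟨Sum.inr 0⟩
    rw [h, Matrix.det_zero] at hN
    exact hN rfl
  obtain ⟨i1, o1⟩ := stdM_invol p hn3 e₁ (Matrix.J (Fin m) F) hJ (-1) (by ring) hJT
  obtain ⟨i2, o2⟩ := stdM_invol p hn3 e₁ (hypBlock m F) hH 1 (by ring) hHT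
  obtain ⟨i3, o3⟩ := stdM_invol p hn3 e₃ (minusN (m - 1) ζ₀) hN 1 (by ring) hNT
  refine ⟨grM (stdM e₁ (Matrix.J (Fin m) F) hJ), grM (stdM e₁ (hypBlock m F) hH),
    grM (stdM e₃ (minusN (m - 1) ζ₀) hN), 1, ζ₀, aniso_of_zeta ζ₀ hζ₀, i1, o1, i2, o2, i3, o3,
    ?_, ?_, ?_, ?_, ?_, ?_, ?_⟩
  · intro hc
    have := hasType_of_stdM_conj p hn2 _ _ hJ _ _ hH hc
    exact not_hasType_sym_skew h2 _ _ (hypBlock_transpose m) hHne (Matrix.J_transpose _ _) this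
  · intro hc
    have := hasType_of_stdM_conj p hn2 _ _ hJ _ _ hN hc
    exact not_hasType_sym_skew h2 _ _ (minusN_transpose _ _) hNne (Matrix.J_transpose _ _) this
  · intro hc
    have := hasType_of_stdM_conj p hn2 _ _ hH _ _ hN hc
    exact not_hasType_hyp_minus h2 m (by omega) ζ₀ hζ₀ this.symm
  · intro γ hγ hγ2
    obtain ⟨M, rfl, hM⟩ := exists_grM_of_invol p γ hγ hγ2
    have hdet : (M : Matrix (Fin n) (Fin n) F).det ≠ 0 := by
      exact (Matrix.isUnits_det_units M).ne_zero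
    rcases hM with hs | ⟨-, hsk⟩
    · rcases hasType_sym_even (M : Matrix (Fin n) (Fin n) F) hdet hs h2 m (by omega)
        (by rw [Fintype.card_fin]; exact hnm) with h | ⟨ζ, hζ, h⟩
      · right; left
        exact stdM_conj p hn2 _ _ hH M h
      · right; right
        exact stdM_conj p hn2 _ _ hN M (h.trans (hasType_minusN (m - 1) ζ ζ₀ hζ hζ₀))
    · left
      apply stdM_conj p hn2 _ _ hJ M
      exact hasType_J_of_alt _ hdet (alt_of_skew h2 _ hsk) m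
        (by rw [Fintype.card_fin]; exact hnm)
  · exact stdM_centralizer p hn2 e₁ _ hJ (Cfsg.GSp m F) (simG_J m).symm
  · exact stdM_centralizer p hn2 e₁ _ hH _ (simG_hypBlock h2 m).symm
  · exact stdM_centralizer p hn2 e₃ _ hN _ (simG_minusN h2 (m - 1) ζ₀).symm

end Cfsg.Agent.S2700
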