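import Mathlib
import Cfsg.Statements.S2701
import Cfsg.Agent.Lib.Helper2.Pgr11

set_option autoImplicit false
open Cfsg

namespace Cfsg.Agent.S2701

open Matrix Cfsg.Agent.Helper13 Cfsg.Agent.Helper2.PGR Cfsg.Agent.Helper2.PN
  Cfsg.Agent.Helper2.Symp

/-- Let T = PSL_n(F) over a finite field of characteristic 2 with n = 2m ≥ 4 even, and G = Inndiag(T) the image of PGL_n(F). The involutory graph automorphisms of T fall into exactly two G-classes, with representatives γ₁ and γ₃ whose centralizers in G are isomorphic respectively to the symplectic group Sp_n(F) and to the centralizer in Sp_n(F) of a symplectic transvection. -/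
theorem result {F : Type*} [Field F] [Fintype F] [CharP F 2] {n m : ℕ} (hm : 2 ≤ m) (hnm : n = 2 * m) :
    ∃ (γ₁ γ₃ : MulAut (Matrix.ProjectiveSpecialLinearGroup (Fin n) F)) (t : ↥(Matrix.symplecticGroup (Fin m) F)), Cfsg.IsTransvection (t : Matrix (Fin m ⊕ Fin m) (Fin m ⊕ Fin m) F) ∧ Cfsg.IsGraphAutClassPSL γ₁ ∧ orderOf γ₁ = 2 ∧ Cfsg.IsGraphAutClassPSL γ₃ ∧ orderOf γ₃ = 2 ∧ ¬ Cfsg.IsConjUnder (Cfsg.inndiagPSL n F) γ₁ γ₃ ∧ (∀ γ : MulAut (Matrix.ProjectiveSpecialLinearGroup (Fin n) F), Cfsg.IsGraphAutClassPSL γ → orderOf γ = 2 → Cfsg.IsConjUnder (Cfsg.inndiagPSL n F) γ₁ γ ∨ Cfsg.IsConjUnder (Cfsg.inndiagPSL n F) γ₃ γ) ∧ Nonempty (↥(Cfsg.inndiagPSL n F ⊓ Subgroup.centralizer {γ₁}) ≃* ↥(Matrix.symplecticGroup (Fin m) F)) ∧ Nonempty (↥(Cfsg.inndiagPSL n F ⊓ Subgroup.centralizer {γ₃}) ≃* ↥(Subgroup.centralizer ({t} : Set ↥(Matrix.symplecticGroup (Fin m) F)))) := by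
  classical
  have hpp : Fact (2 : ℕ).Prime := ⟨Nat.prime_two⟩
  have h2 : (2 : F) = 0 := CharTwo.two_eq_zero
  have hn3 : 3 ≤ n := by omega
  have hn2 : 2 ≤ n := by omega
  obtain ⟨i0⟩ : Nonempty (Fin m) := ⟨⟨0, by omega⟩⟩
  have e₁ : Fin n ≃ Fin m ⊕ Fin m :=
    Fintype.equivOfCardEq (by simp only [Fintype.card_sum, Fintype.card_fin]; omega)
  have hJ := J_det_ne_zero (F := F) m
  have hN := symN_det_ne_zero (eV i0 : Fin m ⊕ Fin m → F) (fV i0) h2 (hyp_mulVec_eV i0)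
    (eV_dot_fV i0)
  have hJT : (Matrix.J (Fin m) F)ᵀ = (-1 : F) • Matrix.J (Fin m) F := by
    rw [Matrix.J_transpose, neg_one_smul]
  have hNT : (symN (eV i0 : Fin m ⊕ Fin m → F))ᵀ = (1 : F) • symN (eV i0) := by
    rw [symN_transpose, one_smul]
  have hNna := symN_not_alt (eV i0 : Fin m ⊕ Fin m → F) (fV i0) (hyp_mulVec_eV i0)
    (eV_dot_eV i0) (eV_dot_fV i0)
  obtain ⟨i1, o1⟩ := stdM_invol 2 hn3 e₁ (Matrix.J (Fin m) F) hJ (-1) (by ring) hJT
  obtain ⟨i3, o3⟩ := stdM_invol 2 hn3 e₁ (symN (eV i0 : Fin m ⊕ Fin m → F)) hN 1 (by ring) hNT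
  refine ⟨grM (stdM e₁ (Matrix.J (Fin m) F) hJ),
    grM (stdM e₁ (symN (eV i0 : Fin m ⊕ Fin m → F)) hN), stdTr h2 i0,
    isTransvection_stdTr h2 i0, i1, o1, i3, o3, ?_, ?_, ?_, ?_⟩
  · intro hc
    have hT := hasType_of_stdM_conj 2 hn2 _ _ hJ _ _ hN hc
    obtain ⟨v, hv⟩ := hNna
    exact hv (hT.symm.alt (fun v => Cfsg.Agent.S0764.dot_J_self m v) v)
  · intro γ hγ hγ2
    obtain ⟨M, rfl, hM⟩ := exists_grM_of_invol 2 γ hγ hγ2
    have hdet : (M : Matrix (Fin n) (Fin n) F).det ≠ 0 := (Matrix.isUnits_det_units M).ne_zero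
    have hs : (M : Matrix (Fin n) (Fin n) F)ᵀ = M := by
      rcases hM with h | ⟨h, -⟩
      · exact h
      · exact absurd h2 h
    by_cases halt : ∀ v : Fin n → F, v ⬝ᵥ ((M : Matrix (Fin n) (Fin n) F) *ᵥ v) = 0
    · left
      apply stdM_conj 2 hn2 _ _ hJ M
      exact hasType_J_of_alt _ hdet halt m (by rw [Fintype.card_fin]; exact hnm)
    · right
      push Not at halt
      have hT := hasType_one_of_not_alt (M : Matrix (Fin n) (Fin n) F) hdet hs halt n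
        (Fintype.card_fin n)
      have hT' := hasType_one_of_not_alt (symN (eV i0 : Fin m ⊕ Fin m → F)) hN
        (symN_transpose _) hNna n
        (by simp only [Fintype.card_sum, Fintype.card_fin]; omega)
      exact stdM_conj 2 hn2 _ _ hN M (hT.trans hT'.symm)
  · obtain ⟨e⟩ := stdM_centralizer 2 hn2 e₁ _ hJ (Cfsg.GSp m F) (simG_J m).symm
    obtain ⟨e'⟩ := pgsp_equiv_symp (F := F) h2 (show 0 < m by omega)
    exact ⟨e.trans e'⟩
  · obtain ⟨e⟩ := stdM_centralizer 2 hn2 e₁ _ hN (simG (symN (eV i0 : Fin m ⊕ Fin m → F))) rfl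
    obtain ⟨e'⟩ := symN_equiv (F := F) h2 i0
    exact ⟨e.trans e'.symm⟩

end Cfsg.Agent.S2701
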