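import Mathlib
import Cfsg.Statements.S2702
import Cfsg.Agent.Lib.Helper2.Pgr13

set_option autoImplicit false
open Cfsg

namespace Cfsg.Agent.S2702

open Matrix Cfsg.Agent.Helper13 Cfsg.Agent.Helper2.PGR Cfsg.Agent.Helper2.PN

theorem count_eq {F : Type*} [Field F] (p : ℕ) [CharP F p] [Fact p.Prime] {n : ℕ} (hn : 2 ≤ n)
    (M : GL (Fin n) F) :
    Cfsg.splitClassCount (Cfsg.inndiagPSL n F)
      (Cfsg.Inn (Matrix.ProjectiveSpecialLinearGroup (Fin n) F)) (grM M) =
      ((powMonoidHom n : Fˣ →* Fˣ).range ⊔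
        (simG (M : Matrix (Fin n) (Fin n) F)).map Matrix.GeneralLinearGroup.det).index := by
  obtain ⟨m', rfl⟩ : ∃ m', n = m' + 2 := ⟨n - 2, by omega⟩
  exact splitClassCount_eq p (grM M) _ (comap_centralizer_grM p (by omega) M)

theorem pow_range_le {G : Type*} [CommGroup G] (k : ℕ) :
    (powMonoidHom (2 * k) : G →* G).range ≤ (powMonoidHom k : G →* G).range := by
  rintro _ ⟨x, rfl⟩
  exact ⟨x ^ 2, by rw [powMonoidHom_apply, powMonoidHom_apply, ← pow_mul]⟩

/-- Let T = PSL_n(F) over the field with q = p^f elements, n ≥ 3, G = Inndiag(T) the image of PGL_n(F), and γ an involutory graph automorphism of T. The G-class of γ is the union of exactly c T-classes, where: if n is even and q is odd, c = gcd(n/2, q − 1) when C_G(γ) is isomorphic to the projective conformal symplectic group PGSp_n(F) (symplectic type) and c = gcd(n, q − 1)/2 otherwise; and c = gcd(n, q − 1) when n is odd or q is even. -/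
theorem result {F : Type*} [Field F] [Fintype F] {p f : ℕ} [Fact p.Prime] (hF : Fintype.card F = p ^ f) (hf : 1 ≤ f) {n : ℕ} (hn : 3 ≤ n) (γ : MulAut (Matrix.ProjectiveSpecialLinearGroup (Fin n) F)) (hγ : Cfsg.IsGraphAutClassPSL γ) (hγ2 : orderOf γ = 2) :
    ((Even n ∧ Odd p ∧ Nonempty (↥(Cfsg.inndiagPSL n F ⊓ Subgroup.centralizer {γ}) ≃* Cfsg.PGSp (n / 2) F)) → Cfsg.splitClassCount (Cfsg.inndiagPSL n F) (Cfsg.Inn (Matrix.ProjectiveSpecialLinearGroup (Fin n) F)) γ = Nat.gcd (n / 2) (p ^ f - 1)) ∧ ((Even n ∧ Odd p ∧ ¬ Nonempty (↥(Cfsg.inndiagPSL n F ⊓ Subgroup.centralizer {γ}) ≃* Cfsg.PGSp (n / 2) F)) → Cfsg.splitClassCount (Cfsg.inndiagPSL n F) (Cfsg.Inn (Matrix.ProjectiveSpecialLinearGroup (Fin n) F)) γ = Nat.gcd n (p ^ f - 1) / 2) ∧ (¬ (Even n ∧ Odd p) → Cfsg.splitClassCount (Cfsg.inndiagPSL n F) (Cfsg.Inn (Matrix.ProjectiveSpecialLinearGroup (Fin n) F)) γ = Nat.gcd n (p ^ f - 1)) := by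
  classical
  have hchar : CharP F p := charP_of_card_eq_prime_pow hF
  have hn2 : 2 ≤ n := by omega
  obtain ⟨M, rfl, hM⟩ := exists_grM_of_invol p γ hγ hγ2
  have hdet : (M : Matrix (Fin n) (Fin n) F).det ≠ 0 := (Matrix.isUnits_det_units M).ne_zero
  have hcount := count_eq p hn2 M
  have hcardU : Nat.card Fˣ = p ^ f - 1 := by
    rw [Nat.card_units, Nat.card_eq_fintype_card, hF]
  have h2of : Odd p → (2 : F) ≠ 0 := by
    intro hp h2
    have h3 : ((2 : ℕ) : F) = 0 := by exact_mod_cast h2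
    rw [CharP.cast_eq_zero_iff F p] at h3
    have := (Nat.prime_dvd_prime_iff_eq (Fact.out : p.Prime) Nat.prime_two).1 h3
    rw [this] at hp
    exact absurd hp (by decide)
  -- the symplectic type
  have hskew : ∀ k : ℕ, n = 2 * k → (2 : F) ≠ 0 →
      (M : Matrix (Fin n) (Fin n) F)ᵀ = -(M : Matrix (Fin n) (Fin n) F) →
      HasType (M : Matrix (Fin n) (Fin n) F) (Matrix.J (Fin k) F) := by
    intro k hnk h2 hsk
    exact hasType_J_of_alt _ hdet (alt_of_skew h2 _ hsk) k (by rw [Fintype.card_fin]; exact hnk)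
  refine ⟨?_, ?_, ?_⟩
  · rintro ⟨⟨k, hk⟩, hp, ⟨e⟩⟩
    have hnk : n = 2 * k := by omega
    have h2 := h2of hp
    have hk2 : n / 2 = k := by omega
    rw [hk2] at e ⊢
    rcases hM with hs | ⟨-, hsk⟩
    · exfalso
      obtain ⟨k', rfl⟩ : ∃ k', k = k' + 1 := ⟨k - 1, by omega⟩
      rcases hasType_sym_even (M : Matrix (Fin n) (Fin n) F) hdet hs h2 (k' + 1) (by omega)
        (by rw [Fintype.card_fin]; exact hnk) with h | ⟨ζ, hζ, h⟩
      · obtain ⟨e'⟩ := centralizer_equiv_of_hasType p hn2 M (hypBlock (k' + 1) F) h _ rfl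
        have h1 := Nat.card_congr (e'.symm.trans e).toEquiv
        have h3 := card_pgo_plus_lt (F := F) h2 k'
        omega
      · have h' : HasType (M : Matrix (Fin n) (Fin n) F) (minusN k' ζ) := h
        obtain ⟨e'⟩ := centralizer_equiv_of_hasType p hn2 M (minusN k' ζ) h' _ rfl
        have h1 := Nat.card_congr (e'.symm.trans e).toEquiv
        have h3 := card_pgo_minus_lt (F := F) h2 k' ζ hζ
        omega
    · have hT := hskew k hnk h2 hsk
      rw [hcount, map_det_simG_of_hasType _ _ hT, det_simG_J]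
      have hle : (powMonoidHom n : Fˣ →* Fˣ).range ≤ (powMonoidHom k : Fˣ →* Fˣ).range := by
        rw [hnk]
        exact pow_range_le k
      rw [sup_eq_right.2 hle, IsCyclic.index_powMonoidHom_range, hcardU, Nat.gcd_comm]
  · rintro ⟨⟨k, hk⟩, hp, hne⟩
    have hnk : n = 2 * k := by omega
    have h2 := h2of hp
    have hk2 : n / 2 = k := by omega
    rw [hk2] at hne
    rcases hM with hs | ⟨-, hsk⟩
    · have hodd : Odd (Fintype.card F) := by
        rw [hF]
        exact hp.pow
      rw [hcount, det_simG_sym _ hdet hs h2 k (by omega) hnk, index_neg_one_sup_pow hodd, hF, hnk]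
    · exfalso
      apply hne
      have hT := hskew k hnk h2 hsk
      exact centralizer_equiv_of_hasType p hn2 M (Matrix.J (Fin k) F) hT (Cfsg.GSp k F)
        (simG_J k).symm
  · intro hcon
    have hle : (simG (M : Matrix (Fin n) (Fin n) F)).map Matrix.GeneralLinearGroup.det ≤
        (powMonoidHom n : Fˣ →* Fˣ).range := by
      by_cases hev : Even n
      · have hp : ¬ Odd p := fun hp => hcon ⟨hev, hp⟩
        have hp2 : p = 2 := by
          rcases (Fact.out : p.Prime).eq_two_or_odd' with h | h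
          · exact h
          · exact absurd h hp
        have h2 : (2 : F) = 0 := by
          have h3 : ((p : ℕ) : F) = 0 := CharP.cast_eq_zero F p
          rw [hp2] at h3
          exact_mod_cast h3
        have := det_simG_le_of_two h2 (M : Matrix (Fin n) (Fin n) F) hdet
        rw [Fintype.card_fin] at this
        exact this
      · have := det_simG_le_of_odd (M : Matrix (Fin n) (Fin n) F) hdet
          (by rw [Fintype.card_fin]; exact Nat.not_even_iff_odd.1 hev)
        rw [Fintype.card_fin] at this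
        exact this
    rw [hcount, sup_eq_left.2 hle, IsCyclic.index_powMonoidHom_range, hcardU, Nat.gcd_comm]

end Cfsg.Agent.S2702
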