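import Mathlib
import Cfsg.Statements.S2703
import Cfsg.Agent.Lib.Helper2.Pgr9

set_option autoImplicit false
open Cfsg

namespace Cfsg.Agent.S2703

open Matrix Cfsg.Agent.Helper13 Cfsg.Agent.Helper2.PGR Cfsg.Agent.Helper2.PN

/-- Let T = PSL_n(F) over the field with q elements, q odd, n = 2m ≥ 4 even, and ι the inverse-transpose automorphism. Its centralizer in G = Inndiag(T) (the image of PGL_n(F)) is isomorphic to the projective conformal orthogonal group of the plus-type form Σ xᵢ yᵢ in dimension n when n(q − 1)/4 is even, and to that of a minus-type form (Σ xᵢ yᵢ + z₁² + a z₁ z₂ + b z₂² with anisotropic binary part) when n(q − 1)/4 is odd. -/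
theorem result {F : Type*} [Field F] [Fintype F] (hodd : Odd (Fintype.card F)) {n m : ℕ} (hm : 2 ≤ m) (hnm : n = 2 * m) (ι : MulAut (Matrix.ProjectiveSpecialLinearGroup (Fin n) F)) (hι : Cfsg.IsInverseTransposeAutPSL ι) :
    (Even (n * (Fintype.card F - 1) / 4) → Nonempty (↥(Cfsg.inndiagPSL n F ⊓ Subgroup.centralizer {ι}) ≃* Cfsg.PGO F (Cfsg.quadFormPlus m F))) ∧ (¬ Even (n * (Fintype.card F - 1) / 4) → ∃ a b : F, (∀ z₁ z₂ : F, z₁ ^ 2 + a * z₁ * z₂ + b * z₂ ^ 2 = 0 → z₁ = 0 ∧ z₂ = 0) ∧ Nonempty (↥(Cfsg.inndiagPSL n F ⊓ Subgroup.centralizer {ι}) ≃* Cfsg.PGO F (Cfsg.quadFormMinus (m - 1) F a b))) := by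
  classical
  subst hnm
  obtain ⟨p, hp⟩ := CharP.exists F
  have hpp : Fact p.Prime := ⟨CharP.char_is_prime F p⟩
  have h2 : (2 : F) ≠ 0 := by
    have hc : ringChar F ≠ 2 := by
      intro h
      have := FiniteField.even_card_of_char_two h
      have := Nat.odd_iff.1 hodd
      omega
    exact Ring.two_ne_zero hc
  have hn2 : 2 ≤ 2 * m := by omega
  have hι1 : ι = grM (1 : GL (Fin (2 * m)) F) := by
    rw [eq_tauAut_of_isInverseTranspose hι, grM_eq, inv_one, map_one, one_mul]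
  have hcoe : ((1 : GL (Fin (2 * m)) F) : Matrix (Fin (2 * m)) (Fin (2 * m)) F) = 1 := rfl
  obtain ⟨hplus, hminus⟩ := hasType_one_even (F := F) h2 (2 * m) m (by omega) rfl
  rw [← isSquare_neg_one_pow_iff hodd m, hι1]
  constructor
  · intro hsq
    exact centralizer_equiv_of_hasType p hn2 (1 : GL (Fin (2 * m)) F) (hypBlock m F)
      (by rw [hcoe]; exact hplus hsq) _ (simG_hypBlock h2 m).symm
  · intro hnsq
    obtain ⟨ζ, hζ, h⟩ := hminus hnsq
    refine ⟨1, ζ, aniso_of_zeta ζ hζ, ?_⟩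
    exact centralizer_equiv_of_hasType p hn2 (1 : GL (Fin (2 * m)) F) (minusN (m - 1) ζ)
      (by rw [hcoe]; exact h) _ (simG_minusN h2 (m - 1) ζ).symm

end Cfsg.Agent.S2703
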