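import Mathlib
import Cfsg.Statements.S2704
import Cfsg.Agent.Lib.Helper2.Psln28

set_option autoImplicit false
open Cfsg

namespace Cfsg.Agent.S2704

/-- Let T = PSL_n(F) over the field F with p^f elements, n ≥ 3, and G = Inndiag(T) the image of PGL_n(F). If x is an involutory graph-field automorphism of T then f is even; x is G-conjugate to every other involutory graph-field automorphism; C_G(x) is isomorphic to the projective general unitary group PGU_n(q₀) with q₀² = p^f, realised over F itself through the Hermitian form Σ uᵢ vᵢ^{q₀}; and the G-class of x is the union of exactly gcd(n, q₀ − 1) T-classes. -/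
theorem result {F : Type*} [Field F] [Fintype F] {p f : ℕ} [Fact p.Prime] (hF : Fintype.card F = p ^ f) (hf : 1 ≤ f) {n : ℕ} (hn : 3 ≤ n) (x : MulAut (Matrix.ProjectiveSpecialLinearGroup (Fin n) F)) (hx : Cfsg.IsGraphFieldAutClassPSL x) (hx2 : orderOf x = 2) :
    Even f ∧ (∀ y : MulAut (Matrix.ProjectiveSpecialLinearGroup (Fin n) F), Cfsg.IsGraphFieldAutClassPSL y → orderOf y = 2 → Cfsg.IsConjUnder (Cfsg.inndiagPSL n F) x y) ∧ Nonempty (↥(Cfsg.inndiagPSL n F ⊓ Subgroup.centralizer {x}) ≃* Cfsg.PGU n F (p ^ (f / 2))) ∧ Cfsg.splitClassCount (Cfsg.inndiagPSL n F) (Cfsg.Inn (Matrix.ProjectiveSpecialLinearGroup (Fin n) F)) x = Nat.gcd n (p ^ (f / 2) - 1) := by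
  have hchar : CharP F p := charP_of_card_eq_prime_pow hF
  have hn2 : 2 ≤ n := by omega
  have hnt : Nontrivial (Fin n) := Fin.nontrivial_iff_two_le.mpr hn2
  obtain ⟨-, α, σ, hσ1, hα⟩ := Cfsg.Agent.Helper2.PN.exists_of_isGraphFieldAutClass hx
  have hord0 : orderOf (Cfsg.Agent.Helper2.PN.phiF (ι := Fin n) σ *
      Cfsg.Agent.Helper2.PN.tauAut) = 2 := by
    rw [← hα, ← hx2]
    exact (MulAut.conj α).orderOf_eq x
  have hσ := Cfsg.Agent.Helper2.PN.involution_of_orderOf_x0 p σ hord0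
  obtain ⟨hev, hq⟩ := Cfsg.Agent.Helper2.PN.involution_apply hF σ hσ hσ1
  have hG : (Cfsg.inndiagPSL n F).Normal := by
    rw [Cfsg.Agent.Helper2.PN.inndiag_eq]
    exact Cfsg.Agent.Helper2.PN.normal_range_Psi p hn2
  have hcardfix : Nat.card (Cfsg.Agent.Helper13.FAut.fixedField σ) = p ^ (f / 2) :=
    Cfsg.Agent.Helper13.FAut.card_fixedField σ 2 (p ^ (f / 2)) (by norm_num)
      (Cfsg.Agent.Helper2.PN.orderOf_eq_two_of_involution σ hσ hσ1)
      (by rw [hF, ← pow_mul, Nat.div_mul_cancel hev.two_dvd])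
  refine ⟨hev, ?_, ?_, ?_⟩
  · intro y hy hy2
    obtain ⟨-, β, σ', hσ'1, hβ⟩ := Cfsg.Agent.Helper2.PN.exists_of_isGraphFieldAutClass hy
    have hord1 : orderOf (Cfsg.Agent.Helper2.PN.phiF (ι := Fin n) σ' *
        Cfsg.Agent.Helper2.PN.tauAut) = 2 := by
      rw [← hβ, ← hy2]
      exact (MulAut.conj β).orderOf_eq y
    have hσ' := Cfsg.Agent.Helper2.PN.involution_of_orderOf_x0 p σ' hord1
    have hσeq : σ' = σ := by
      ext t
      rw [(Cfsg.Agent.Helper2.PN.involution_apply hF σ' hσ' hσ'1).2 t, hq t]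
    rw [hσeq] at hβ
    obtain ⟨a, ha⟩ := Cfsg.Agent.Helper2.PN.conj_x0_eq p hn2 σ α⁻¹
    obtain ⟨b, hb⟩ := Cfsg.Agent.Helper2.PN.conj_x0_eq p hn2 σ β⁻¹
    have hx' : x = Cfsg.Agent.Helper2.PN.Psi a * (Cfsg.Agent.Helper2.PN.phiF σ *
        Cfsg.Agent.Helper2.PN.tauAut) * (Cfsg.Agent.Helper2.PN.Psi a)⁻¹ := by
      rw [← ha, ← hα]; group
    have hy' : y = Cfsg.Agent.Helper2.PN.Psi b * (Cfsg.Agent.Helper2.PN.phiF σ *
        Cfsg.Agent.Helper2.PN.tauAut) * (Cfsg.Agent.Helper2.PN.Psi b)⁻¹ := by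
      rw [← hb, ← hβ]; group
    refine ⟨Cfsg.Agent.Helper2.PN.Psi b * (Cfsg.Agent.Helper2.PN.Psi a)⁻¹, ?_, ?_⟩
    · rw [Cfsg.Agent.Helper2.PN.inndiag_eq]
      exact ⟨b * a⁻¹, by rw [map_mul, map_inv]⟩
    · rw [hy', hx']; group
  · obtain ⟨e1⟩ := Cfsg.Agent.Helper2.PN.centralizer_x0_equiv (n := n) p σ hσ hσ1 (p ^ (f / 2)) hq
    have e2 := Cfsg.Agent.Helper2.PN.centralizerInfEquiv (Cfsg.inndiagPSL n F) α x
    rw [hα] at e2
    exact ⟨e2.trans e1⟩
  · rw [← Cfsg.Agent.Helper2.PN.splitClassCount_conj _ _ α x, hα]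
    obtain ⟨m, rfl⟩ := Nat.exists_eq_add_of_le' hn2
    rw [Cfsg.Agent.Helper2.PN.splitClassCount_x0 p σ hσ hσ1, hcardfix]

end Cfsg.Agent.S2704
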