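import Mathlib
import Cfsg.Statements.S2706
import Cfsg.Agent.Lib.Helper2.Pug6

set_option autoImplicit false
open Cfsg

namespace Cfsg.Agent.S2706

open Matrix Cfsg.Agent.Helper11 Cfsg.Agent.Helper11.Herm Cfsg.Agent.Helper2.PU
open Cfsg.Agent.Helper13 Cfsg.Agent.Helper2.PGR Cfsg.Agent.Helper2.PUG

/-- Let T = PSU_n(q) be simple with n = 2m + 1 ≥ 3 odd, realised over the field F with q² elements, and G = Inndiag(T) the image of PGU_n(q). Every involutory graph automorphism γ of T (an inner-diagonal automorphism times a standard field automorphism of even order, of order 2) has centralizer C_G(γ) isomorphic to the projective conformal orthogonal group of the form x₀² + Σ xᵢ yᵢ in dimension n over a field F₀ with q elements, and any two involutory graph automorphisms of T are G-conjugate. -/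
theorem result {F : Type*} [Field F] [Fintype F] {p f q : ℕ} [Fact p.Prime] (hq : q = p ^ f) (hf : 1 ≤ f) (hF : Fintype.card F = q ^ 2) {n : ℕ} (hn : 3 ≤ n) (hs : ¬ (n = 3 ∧ q = 2)) {m : ℕ} (hnm : n = 2 * m + 1) (F₀ : Type*) [Field F₀] [Fintype F₀] (hF₀ : Fintype.card F₀ = q) (γ γ' : MulAut (Cfsg.PSU n F q)) (hγ : Cfsg.IsGraphAutClassPSU γ) (hγ2 : orderOf γ = 2) (hγ' : Cfsg.IsGraphAutClassPSU γ') (hγ'2 : orderOf γ' = 2) :
    Nonempty (↥(Cfsg.inndiagPSU n F q ⊓ Subgroup.centralizer {γ}) ≃* Cfsg.PGO F₀ (Cfsg.quadFormOdd m F₀)) ∧ Cfsg.IsConjUnder (Cfsg.inndiagPSU n F q) γ γ' := by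
  classical
  obtain ⟨φ', hφ'⟩ := exists_frob hF
  have H := hypU_of_card hF φ' hφ' hn hs
  have hF' : Fintype.card F = p ^ (2 * f) := by rw [hF, hq, ← pow_mul, mul_comm]
  have hchar : CharP F p := charP_of_card_eq_prime_pow hF'
  have hSU : Cfsg.SU n F q = SUg (Fin n) φ' := by
    ext g
    rw [mem_SU_iff_isU φ' hφ', mem_SUg_iff]
  have hGU : Cfsg.GU n F q = UG (Fin n) φ' := GU_eq_UG φ' hφ' n
  obtain ⟨j, R⟩ := exists_realStr hF hF₀ φ' hφ'
  obtain ⟨σ₀, hσ₀d⟩ : ∃ σ₀, σ₀ = sigOf φ' (frob_frob hF φ' hφ') := ⟨_, rfl⟩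
  have hσ₀ : ∀ x, σ₀ x = φ' x := fun x => by rw [hσ₀d]; rfl
  have hinv : ∀ σ : RingAut F, σ * σ = 1 → σ ≠ 1 → σ = σ₀ := by
    intro σ h1 h2
    rw [hσ₀d]
    exact hinv_frob hF φ' hφ' σ h1 h2
  have hcomm := frob_comm φ' hφ'
  obtain ⟨B, hBdet, hBs, hB⟩ := exists_isOfType hcomm σ₀ j H p hσ₀ R hinv _ hSU _ hGU γ hγ.2 hγ2
  obtain ⟨B', hBdet', hBs', hB'⟩ :=
    exists_isOfType hcomm σ₀ j H p hσ₀ R hinv _ hSU _ hGU γ' hγ'.2 hγ'2
  have hcard : Fintype.card (Fin n) = 2 * m + 1 := by rw [Fintype.card_fin]; exact hnm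
  have hnotalt : ∀ X : Matrix (Fin n) (Fin n) F₀, X.det ≠ 0 →
      ¬ ∀ v : Fin n → F₀, v ⬝ᵥ (X *ᵥ v) = 0 := by
    intro X hX halt
    have := even_card_of_alt X hX halt
    rw [hcard] at this
    rcases this with ⟨k, hk⟩
    omega
  by_cases h2 : (2 : F₀) = 0
  · obtain ⟨p₀, hp₀⟩ := CharP.exists F₀
    have hpp₀ : Fact p₀.Prime := ⟨CharP.char_is_prime F₀ p₀⟩
    have hp2 : p₀ = 2 := by
      have h3 : ((2 : ℕ) : F₀) = 0 := by exact_mod_cast h2
      rw [CharP.cast_eq_zero_iff F₀ p₀] at h3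
      exact (Nat.prime_dvd_prime_iff_eq hpp₀.out Nat.prime_two).1 h3
    subst hp2
    have hsB : Bᵀ = B := by
      rcases hBs with h | ⟨h, -⟩
      · exact h
      · exact absurd h2 h
    have hsB' : B'ᵀ = B' := by
      rcases hBs' with h | ⟨h, -⟩
      · exact h
      · exact absurd h2 h
    have hna : ∃ v : Fin n → F₀, v ⬝ᵥ (B *ᵥ v) ≠ 0 := by
      by_contra hcon
      push Not at hcon
      exact hnotalt _ hBdet hcon
    have hna' : ∃ v : Fin n → F₀, v ⬝ᵥ (B' *ᵥ v) ≠ 0 := by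
      by_contra hcon
      push Not at hcon
      exact hnotalt _ hBdet' hcon
    have hT := hasType_one_of_not_alt B hBdet hsB hna n (Fintype.card_fin n)
    have hT' := hasType_one_of_not_alt B' hBdet' hsB' hna' n (Fintype.card_fin n)
    refine ⟨?_, hB.conj hcomm σ₀ j H p hσ₀ R _ hGU hB' (hT.trans hT'.symm)⟩
    obtain ⟨e⟩ := (hB.of_hasType hcomm σ₀ j R (hT.trans (hasType_oddB m n hnm).symm)).cent
      hcomm σ₀ j H p hσ₀ R _ hGU
    obtain ⟨e'⟩ := pgo_equiv_two (F := F₀) h2 m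
    exact ⟨e.trans e'⟩
  · have hsym : ∀ X : Matrix (Fin n) (Fin n) F₀, X.det ≠ 0 → (Xᵀ = X ∨
        ((2 : F₀) ≠ 0 ∧ Xᵀ = -X)) → Xᵀ = X := by
      intro X hXd hX
      rcases hX with h | ⟨-, h⟩
      · exact h
      · exact absurd (alt_of_skew h2 _ h) (hnotalt _ hXd)
    have hT := hasType_sym_odd B hBdet (hsym B hBdet hBs) h2 m hcard
    have hT' := hasType_sym_odd B' hBdet' (hsym B' hBdet' hBs') h2 m hcard
    refine ⟨?_, hB.conj hcomm σ₀ j H p hσ₀ R _ hGU hB' (hT.trans hT'.symm)⟩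
    have h3 := (hB.of_hasType hcomm σ₀ j R hT).cent hcomm σ₀ j H p hσ₀ R _ hGU
    rw [simG_oddN h2 m] at h3
    exact h3

end Cfsg.Agent.S2706
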