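import Mathlib
import Cfsg.Statements.S2707
import Cfsg.Agent.Lib.Helper2.Pug6

set_option autoImplicit false
open Cfsg

namespace Cfsg.Agent.S2707

open Matrix Cfsg.Agent.Helper11 Cfsg.Agent.Helper11.Herm Cfsg.Agent.Helper2.PU
open Cfsg.Agent.Helper13 Cfsg.Agent.Helper2.PGR Cfsg.Agent.Helper2.PUG

/-- Let T = PSU_n(q) with n = 2m ≥ 4 even and q odd, realised over the field F with q² elements, and G = Inndiag(T) the image of PGU_n(q). The involutory graph automorphisms of T fall into exactly three G-classes, with representatives whose centralizers in G are isomorphic respectively to the projective conformal symplectic group PGSp_n(F₀), the projective conformal orthogonal group of the plus-type form Σ xᵢ yᵢ, and that of a minus-type form Σ xᵢ yᵢ + z₁² + a z₁ z₂ + b z₂² (anisotropic binary part) in dimension n, all over a field F₀ with q elements. -/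
theorem result {F : Type*} [Field F] [Fintype F] {q : ℕ} (hodd : Odd q) (hF : Fintype.card F = q ^ 2) {n m : ℕ} (hm : 2 ≤ m) (hnm : n = 2 * m) (F₀ : Type*) [Field F₀] [Fintype F₀] (hF₀ : Fintype.card F₀ = q) :
    ∃ (γ₁ γ₂ γ₃ : MulAut (Cfsg.PSU n F q)) (a b : F₀), (∀ z₁ z₂ : F₀, z₁ ^ 2 + a * z₁ * z₂ + b * z₂ ^ 2 = 0 → z₁ = 0 ∧ z₂ = 0) ∧ Cfsg.IsGraphAutClassPSU γ₁ ∧ orderOf γ₁ = 2 ∧ Cfsg.IsGraphAutClassPSU γ₂ ∧ orderOf γ₂ = 2 ∧ Cfsg.IsGraphAutClassPSU γ₃ ∧ orderOf γ₃ = 2 ∧ ¬ Cfsg.IsConjUnder (Cfsg.inndiagPSU n F q) γ₁ γ₂ ∧ ¬ Cfsg.IsConjUnder (Cfsg.inndiagPSU n F q) γ₁ γ₃ ∧ ¬ Cfsg.IsConjUnder (Cfsg.inndiagPSU n F q) γ₂ γ₃ ∧ (∀ γ : MulAut (Cfsg.PSU n F q), Cfsg.IsGraphAutClassPSU γ → orderOf γ = 2 → Cfsg.IsConjUnder (Cfsg.inndiagPSU n F q) γ₁ γ ∨ Cfsg.IsConjUnder (Cfsg.inndiagPSU n F q) γ₂ γ ∨ Cfsg.IsConjUnder (Cfsg.inndiagPSU n F q) γ₃ γ) ∧ Nonempty (↥(Cfsg.inndiagPSU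 n F q ⊓ Subgroup.centralizer {γ₁}) ≃* Cfsg.PGSp m F₀) ∧ Nonempty (↥(Cfsg.inndiagPSU n F q ⊓ Subgroup.centralizer {γ₂}) ≃* Cfsg.PGO F₀ (Cfsg.quadFormPlus m F₀)) ∧ Nonempty (↥(Cfsg.inndiagPSU n F q ⊓ Subgroup.centralizer {γ₃}) ≃* Cfsg.PGO F₀ (Cfsg.quadFormMinus (m - 1) F₀ a b)) := by
  classical
  obtain ⟨φ', hφ'⟩ := exists_frob hF
  have hn : 3 ≤ n := by omega
  have hs : ¬ (n = 3 ∧ q = 2) := by omega
  have H := hypU_of_card hF φ' hφ' hn hs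
  obtain ⟨p, hp⟩ := CharP.exists F
  have hpp : Fact p.Prime := ⟨CharP.char_is_prime F p⟩
  have hSU : Cfsg.SU n F q = SUg (Fin n) φ' := by
    ext g
    rw [mem_SU_iff_isU φ' hφ', mem_SUg_iff]
  have hGU : Cfsg.GU n F q = UG (Fin n) φ' := GU_eq_UG φ' hφ' n
  obtain ⟨j, R⟩ := exists_realStr hF hF₀ φ' hφ'
  obtain ⟨σ₀, hσ₀d⟩ : ∃ σ₀, σ₀ = sigOf φ' (frob_frob hF φ' hφ') := ⟨_, rfl⟩
  have hσ₀ : ∀ x, σ₀ x = φ' x := fun x => by rw [hσ₀d]; rfl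
  have hinv : ∀ σ : RingAut F, σ * σ = 1 → σ ≠ 1 → σ = σ₀ := by
    intro σ h1 h2
    rw [hσ₀d]
    exact hinv_frob hF φ' hφ' σ h1 h2
  have hcomm := frob_comm φ' hφ'
  have htr := frob_trace_ne_zero hF φ' hφ'
  have h2 : (2 : F₀) ≠ 0 := by
    have hc : ringChar F₀ ≠ 2 := by
      intro h
      have := FiniteField.even_card_of_char_two h
      rw [hF₀] at this
      have := Nat.odd_iff.1 hodd
      omega
    exact Ring.two_ne_zero hc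
  obtain ⟨ζ₀, hζ₀⟩ := exists_zeta (F := F₀)
  have hne1 : Nonempty (Fin m ⊕ Fin m) := ⟨Sum.inl ⟨0, by omega⟩⟩
  have hne3 : Nonempty ((Fin (m - 1) ⊕ Fin (m - 1)) ⊕ Fin 2) := ⟨Sum.inr 0⟩
  have hc1 : Fintype.card (Fin n) = Fintype.card (Fin m ⊕ Fin m) := by
    simp only [Fintype.card_sum, Fintype.card_fin]; omega
  have hc3 : Fintype.card (Fin n) = Fintype.card ((Fin (m - 1) ⊕ Fin (m - 1)) ⊕ Fin 2) := by
    simp only [Fintype.card_sum, Fintype.card_fin]; omega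
  have hJ := J_det_ne_zero (F := F₀) m
  have hH := hypBlock_det_ne_zero (F := F₀) m
  have hN := minusN_det_ne_zero (m - 1) ζ₀ h2 hζ₀
  have hHne : hypBlock m F₀ ≠ 0 := by
    intro h
    rw [h, Matrix.det_zero] at hH
    exact hH rfl
  have hNne : minusN (m - 1) ζ₀ ≠ 0 := by
    intro h
    rw [h, Matrix.det_zero] at hN
    exact hN rfl
  obtain ⟨γ₁, g1, o1, t1⟩ := exists_class hcomm σ₀ j H p hσ₀ R htr _ hSU _ hGU
    (Matrix.J (Fin m) F₀) hJ (Or.inr (Matrix.J_transpose _ _)) hc1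
  obtain ⟨γ₂, g2, o2, t2⟩ := exists_class hcomm σ₀ j H p hσ₀ R htr _ hSU _ hGU
    (hypBlock m F₀) hH (Or.inl (hypBlock_transpose m)) hc1
  obtain ⟨γ₃, g3, o3, t3⟩ := exists_class hcomm σ₀ j H p hσ₀ R htr _ hSU _ hGU
    (minusN (m - 1) ζ₀) hN (Or.inl (minusN_transpose _ _)) hc3
  refine ⟨γ₁, γ₂, γ₃, 1, ζ₀, aniso_of_zeta ζ₀ hζ₀, ⟨hn, g1⟩, o1, ⟨hn, g2⟩, o2, ⟨hn, g3⟩, o3,
    ?_, ?_, ?_, ?_, ?_, ?_, ?_⟩
  · intro hc
    have := t1.hasType hcomm σ₀ j H p hσ₀ R _ hGU t2 hc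
    exact not_hasType_sym_skew h2 _ _ (hypBlock_transpose m) hHne (Matrix.J_transpose _ _)
      this.symm
  · intro hc
    have := t1.hasType hcomm σ₀ j H p hσ₀ R _ hGU t3 hc
    exact not_hasType_sym_skew h2 _ _ (minusN_transpose _ _) hNne (Matrix.J_transpose _ _)
      this.symm
  · intro hc
    have := t2.hasType hcomm σ₀ j H p hσ₀ R _ hGU t3 hc
    exact not_hasType_hyp_minus h2 m (by omega) ζ₀ hζ₀ this
  · intro γ hγ hγ2
    obtain ⟨B, hBdet, hBs, hB⟩ :=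
      exists_isOfType hcomm σ₀ j H p hσ₀ R hinv _ hSU _ hGU γ hγ.2 hγ2
    rcases hBs with hsy | ⟨-, hsk⟩
    · rcases hasType_sym_even B hBdet hsy h2 m (by omega)
        (by rw [Fintype.card_fin]; exact hnm) with h | ⟨ζ, hζ, h⟩
      · right; left
        exact t2.conj hcomm σ₀ j H p hσ₀ R _ hGU hB h.symm
      · right; right
        exact t3.conj hcomm σ₀ j H p hσ₀ R _ hGU hB
          (h.trans (hasType_minusN (m - 1) ζ ζ₀ hζ hζ₀)).symm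
    · left
      apply t1.conj hcomm σ₀ j H p hσ₀ R _ hGU hB
      exact (hasType_J_of_alt _ hBdet (alt_of_skew h2 _ hsk) m
        (by rw [Fintype.card_fin]; exact hnm)).symm
  · have h3 := t1.cent hcomm σ₀ j H p hσ₀ R _ hGU
    rw [simG_J m] at h3
    exact h3
  · have h3 := t2.cent hcomm σ₀ j H p hσ₀ R _ hGU
    rw [simG_hypBlock h2 m] at h3
    exact h3
  · have h3 := t3.cent hcomm σ₀ j H p hσ₀ R _ hGU
    rw [simG_minusN h2 (m - 1) ζ₀] at h3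
    exact h3

end Cfsg.Agent.S2707
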