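import Mathlib
import Cfsg.Statements.S2708
import Cfsg.Agent.Lib.Helper2.Pug6

set_option autoImplicit false
open Cfsg

namespace Cfsg.Agent.S2708

open Matrix Cfsg.Agent.Helper11 Cfsg.Agent.Helper11.Herm Cfsg.Agent.Helper2.PU
open Cfsg.Agent.Helper13 Cfsg.Agent.Helper2.PGR Cfsg.Agent.Helper2.PUG Cfsg.Agent.Helper2.Symp

/-- Let T = PSU_n(q) with n = 2m ≥ 4 even and q even, realised over the field F (of characteristic 2) with q² elements, and G = Inndiag(T) the image of PGU_n(q). The involutory graph automorphisms of T fall into exactly two G-classes, with representatives whose centralizers in G are isomorphic respectively to the symplectic group Sp_n(F₀) and to the centralizer in Sp_n(F₀) of a symplectic transvection, F₀ a field with q elements. -/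
theorem result {F : Type*} [Field F] [Fintype F] [CharP F 2] {q : ℕ} (hF : Fintype.card F = q ^ 2) {n m : ℕ} (hm : 2 ≤ m) (hnm : n = 2 * m) (F₀ : Type*) [Field F₀] [Fintype F₀] (hF₀ : Fintype.card F₀ = q) :
    ∃ (γ₁ γ₃ : MulAut (Cfsg.PSU n F q)) (t : ↥(Matrix.symplecticGroup (Fin m) F₀)), Cfsg.IsTransvection (t : Matrix (Fin m ⊕ Fin m) (Fin m ⊕ Fin m) F₀) ∧ Cfsg.IsGraphAutClassPSU γ₁ ∧ orderOf γ₁ = 2 ∧ Cfsg.IsGraphAutClassPSU γ₃ ∧ orderOf γ₃ = 2 ∧ ¬ Cfsg.IsConjUnder (Cfsg.inndiagPSU n F q) γ₁ γ₃ ∧ (∀ γ : MulAut (Cfsg.PSU n F q), Cfsg.IsGraphAutClassPSU γ → orderOf γ = 2 → Cfsg.IsConjUnder (Cfsg.inndiagPSU n F q) γ₁ γ ∨ Cfsg.IsConjUnder (Cfsg.inndiagPSU n F q) γ₃ γ) ∧ Nonempty (↥(Cfsg.inndiagPSU n F q ⊓ Subgroup.centralizer {γ₁}) ≃* ↥(Matrix.symplecticGroup (Fin m) F₀)) ∧ Nonempty (↥(Cfsg.inndiagPSU n F q ⊓ Subgroup.centralizer {γ₃}) ≃* ↥(Subgroup.centralizer ({t}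 : Set ↥(Matrix.symplecticGroup (Fin m) F₀)))) := by
  classical
  have hpp : Fact (2 : ℕ).Prime := ⟨Nat.prime_two⟩
  obtain ⟨φ', hφ'⟩ := exists_frob hF
  have hn : 3 ≤ n := by omega
  have hs : ¬ (n = 3 ∧ q = 2) := by omega
  have H := hypU_of_card hF φ' hφ' hn hs
  have hSU : Cfsg.SU n F q = SUg (Fin n) φ' := by
    ext g
    rw [mem_SU_iff_isU φ' hφ', mem_SUg_iff]
  have hGU : Cfsg.GU n F q = UG (Fin n) φ' := GU_eq_UG φ' hφ' n
  obtain ⟨j, R⟩ := exists_realStr hF hF₀ φ' hφ'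
  obtain ⟨σ₀, hσ₀d⟩ : ∃ σ₀, σ₀ = sigOf φ' (frob_frob hF φ' hφ') := ⟨_, rfl⟩
  have hσ₀ : ∀ x, σ₀ x = φ' x := fun x => by rw [hσ₀d]; rfl
  have hinv : ∀ σ : RingAut F, σ * σ = 1 → σ ≠ 1 → σ = σ₀ := by
    intro σ h1 h2
    rw [hσ₀d]
    exact hinv_frob hF φ' hφ' σ h1 h2
  have hcomm := frob_comm φ' hφ'
  have htr := frob_trace_ne_zero hF φ' hφ'
  have h2 : (2 : F₀) = 0 := by
    apply j.injective
    rw [map_ofNat, map_zero]
    exact CharTwo.two_eq_zero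
  have hchar₀ : CharP F₀ 2 := CharTwo.of_one_ne_zero_of_two_eq_zero one_ne_zero h2
  obtain ⟨i0⟩ : Nonempty (Fin m) := ⟨⟨0, by omega⟩⟩
  have hne1 : Nonempty (Fin m ⊕ Fin m) := ⟨Sum.inl i0⟩
  have hc1 : Fintype.card (Fin n) = Fintype.card (Fin m ⊕ Fin m) := by
    simp only [Fintype.card_sum, Fintype.card_fin]; omega
  have hJ := J_det_ne_zero (F := F₀) m
  have hN := symN_det_ne_zero (eV i0 : Fin m ⊕ Fin m → F₀) (fV i0) h2 (hyp_mulVec_eV i0)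
    (eV_dot_fV i0)
  have hNna := symN_not_alt (eV i0 : Fin m ⊕ Fin m → F₀) (fV i0) (hyp_mulVec_eV i0)
    (eV_dot_eV i0) (eV_dot_fV i0)
  obtain ⟨γ₁, g1, o1, t1⟩ := exists_class hcomm σ₀ j H 2 hσ₀ R htr _ hSU _ hGU
    (Matrix.J (Fin m) F₀) hJ (Or.inr (Matrix.J_transpose _ _)) hc1
  obtain ⟨γ₃, g3, o3, t3⟩ := exists_class hcomm σ₀ j H 2 hσ₀ R htr _ hSU _ hGU
    (symN (eV i0 : Fin m ⊕ Fin m → F₀)) hN (Or.inl (symN_transpose _)) hc1
  refine ⟨γ₁, γ₃, stdTr h2 i0, isTransvection_stdTr h2 i0, ⟨hn, g1⟩, o1, ⟨hn, g3⟩, o3,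
    ?_, ?_, ?_, ?_⟩
  · intro hc
    have hT := t1.hasType hcomm σ₀ j H 2 hσ₀ R _ hGU t3 hc
    obtain ⟨v, hv⟩ := hNna
    exact hv (hT.alt (fun v => Cfsg.Agent.S0764.dot_J_self m v) v)
  · intro γ hγ hγ2
    obtain ⟨B, hBdet, hBs, hB⟩ :=
      exists_isOfType hcomm σ₀ j H 2 hσ₀ R hinv _ hSU _ hGU γ hγ.2 hγ2
    have hsB : Bᵀ = B := by
      rcases hBs with h | ⟨h, -⟩
      · exact h
      · exact absurd h2 h
    by_cases halt : ∀ v : Fin n → F₀, v ⬝ᵥ (B *ᵥ v) = 0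
    · left
      apply t1.conj hcomm σ₀ j H 2 hσ₀ R _ hGU hB
      exact (hasType_J_of_alt _ hBdet halt m (by rw [Fintype.card_fin]; exact hnm)).symm
    · right
      push Not at halt
      have hT := hasType_one_of_not_alt B hBdet hsB halt n (Fintype.card_fin n)
      have hT' := hasType_one_of_not_alt (symN (eV i0 : Fin m ⊕ Fin m → F₀)) hN
        (symN_transpose _) hNna n
        (by simp only [Fintype.card_sum, Fintype.card_fin]; omega)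
      exact t3.conj hcomm σ₀ j H 2 hσ₀ R _ hGU hB (hT'.trans hT.symm)
  · obtain ⟨e⟩ := t1.cent hcomm σ₀ j H 2 hσ₀ R _ hGU
    rw [simG_J m] at e
    obtain ⟨e'⟩ := pgsp_equiv_symp (F := F₀) h2 (show 0 < m by omega)
    exact ⟨e.trans e'⟩
  · obtain ⟨e⟩ := t3.cent hcomm σ₀ j H 2 hσ₀ R _ hGU
    obtain ⟨e'⟩ := symN_equiv (F := F₀) h2 i0
    exact ⟨e.trans e'.symm⟩

end Cfsg.Agent.S2708
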