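import Mathlib
import Cfsg.Statements.S2709
import Cfsg.Agent.Lib.Helper2.Pug8

set_option autoImplicit false
open Cfsg

namespace Cfsg.Agent.S2709

open Matrix Cfsg.Agent.Helper11 Cfsg.Agent.Helper11.Herm Cfsg.Agent.Helper2.PU
open Cfsg.Agent.Helper13 Cfsg.Agent.Helper2.PGR Cfsg.Agent.Helper2.PUG

/-- Let T = PSU_n(q) be simple (n ≥ 3, (n,q) ≠ (3,2), q = p^f), realised over the field F with q² elements, G = Inndiag(T) the image of PGU_n(q), and γ an involutory graph automorphism of T. The G-class of γ is the union of exactly c T-classes, where: if n is even and q is odd, c = gcd(n/2, q + 1) when C_G(γ) is isomorphic to PGSp_n(F₀) for a field F₀ with q elements (symplectic type) and c = gcd(n, q + 1)/2 otherwise; and c = gcd(n, q + 1) when n is odd or q is even. -/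
theorem result {F : Type*} [Field F] [Fintype F] {p f q : ℕ} [Fact p.Prime] (hq : q = p ^ f) (hf : 1 ≤ f) (hF : Fintype.card F = q ^ 2) {n : ℕ} (hn : 3 ≤ n) (hs : ¬ (n = 3 ∧ q = 2)) (F₀ : Type*) [Field F₀] [Fintype F₀] (hF₀ : Fintype.card F₀ = q) (γ : MulAut (Cfsg.PSU n F q)) (hγ : Cfsg.IsGraphAutClassPSU γ) (hγ2 : orderOf γ = 2) :
    ((Even n ∧ Odd q ∧ Nonempty (↥(Cfsg.inndiagPSU n F q ⊓ Subgroup.centralizer {γ}) ≃* Cfsg.PGSp (n / 2) F₀)) → Cfsg.splitClassCount (Cfsg.inndiagPSU n F q) (Cfsg.Inn (Cfsg.PSU n F q)) γ = Nat.gcd (n / 2) (q + 1)) ∧ ((Even n ∧ Odd q ∧ ¬ Nonempty (↥(Cfsg.inndiagPSU n F q ⊓ Subgroup.centralizer {γ}) ≃* Cfsg.PGSp (n / 2) F₀)) → Cfsg.splitClassCount (Cfsg.inndiagPSU n F q) (Cfsg.Inn (Cfsg.PSU n F q)) γ = Nat.gcd n (q + 1) / 2) ∧ (¬ (Even n ∧ Odd q) → Cfsg.splitClassCount (Cfsg.inndiagPSU n F q) (Cfsg.Inn (Cfsg.PSU n F q)) γ = Nat.gcd n (q + 1)) := by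
  classical
  obtain ⟨φ', hφ'⟩ := exists_frob hF
  have H := hypU_of_card hF φ' hφ' hn hs
  have hF' : Fintype.card F = p ^ (2 * f) := by rw [hF, hq, ← pow_mul, mul_comm]
  have hchar : CharP F p := charP_of_card_eq_prime_pow hF'
  have hSU : Cfsg.SU n F q = SUg (Fin n) φ' := by
    ext g
    rw [mem_SU_iff_isU φ' hφ', mem_SUg_iff]
  have hGU : Cfsg.GU n F q = UG (Fin n) φ' := GU_eq_UG φ' hφ' n
  obtain ⟨j, R⟩ := exists_realStr hF hF₀ φ' hφ'
  obtain ⟨σ₀, hσ₀d⟩ : ∃ σ₀, σ₀ = sigOf φ' (frob_frob hF φ' hφ') := ⟨_, rfl⟩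
  have hσ₀ : ∀ x, σ₀ x = φ' x := fun x => by rw [hσ₀d]; rfl
  have hinv : ∀ σ : RingAut F, σ * σ = 1 → σ ≠ 1 → σ = σ₀ := by
    intro σ h1 h2
    rw [hσ₀d]
    exact hinv_frob hF φ' hφ' σ h1 h2
  have hcomm := frob_comm φ' hφ'
  have hq1 : Nat.card (nOne φ') = q + 1 := card_nOne hF φ' hφ'
  obtain ⟨B, hBdet, hBs, hB⟩ := exists_isOfType hcomm σ₀ j H p hσ₀ R hinv _ hSU _ hGU γ hγ.2 hγ2
  have h2of : Odd q → (2 : F₀) ≠ 0 := by
    intro hodd
    have hc : ringChar F₀ ≠ 2 := by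
      intro h
      have := FiniteField.even_card_of_char_two h
      rw [hF₀] at this
      have := Nat.odd_iff.1 hodd
      omega
    exact Ring.two_ne_zero hc
  have hcardn : Fintype.card (Fin n) = n := Fintype.card_fin n
  refine ⟨?_, ?_, ?_⟩
  · rintro ⟨⟨k, hk⟩, hodd, ⟨e⟩⟩
    have hnk : n = 2 * k := by omega
    have h2 := h2of hodd
    have hk2 : n / 2 = k := by omega
    rw [hk2] at e ⊢
    rcases hBs with hsy | ⟨-, hsk⟩
    · exfalso
      obtain ⟨k', rfl⟩ : ∃ k', k = k' + 1 := ⟨k - 1, by omega⟩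
      rcases hasType_sym_even B hBdet hsy h2 (k' + 1) (by omega)
        (by rw [Fintype.card_fin]; exact hnk) with h | ⟨ζ, hζ, h⟩
      · obtain ⟨e'⟩ := (hB.of_hasType hcomm σ₀ j R h).cent hcomm σ₀ j H p hσ₀ R _ hGU
        have h1 := Nat.card_congr (e'.symm.trans e).toEquiv
        have h3 := card_pgo_plus_lt (F := F₀) h2 k'
        omega
      · have h' : HasType B (minusN k' ζ) := h
        have hne3 : Nonempty ((Fin k' ⊕ Fin k') ⊕ Fin 2) := ⟨Sum.inr 0⟩
        obtain ⟨e'⟩ := (hB.of_hasType hcomm σ₀ j R h').cent hcomm σ₀ j H p hσ₀ R _ hGU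
        have h1 := Nat.card_congr (e'.symm.trans e).toEquiv
        have h3 := card_pgo_minus_lt (F := F₀) h2 k' ζ hζ
        omega
    · have hT : HasType B (Matrix.J (Fin k) F₀) :=
        hasType_J_of_alt _ hBdet (alt_of_skew h2 _ hsk) k (by rw [Fintype.card_fin]; exact hnk)
      exact (hB.of_hasType hcomm σ₀ j R hT).count_symp hcomm σ₀ j H p hσ₀ R _ hGU k
        (by rw [Fintype.card_fin]; exact hnk) q hq1
  · rintro ⟨⟨k, hk⟩, hodd, hne⟩
    have hnk : n = 2 * k := by omega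
    have h2 := h2of hodd
    have hk2 : n / 2 = k := by omega
    rw [hk2] at hne
    rcases hBs with hsy | ⟨-, hsk⟩
    · have := hB.count_orth hcomm σ₀ j H p hσ₀ R _ hGU B hBdet hsy h2 k (by omega) hnk hcardn
        q hq1
      have e1 : Nat.gcd (2 * k) (q + 1) / 2 = Nat.gcd n (q + 1) / 2 := by rw [hnk]
      exact this.trans e1
    · exfalso
      apply hne
      have hT : HasType B (Matrix.J (Fin k) F₀) :=
        hasType_J_of_alt _ hBdet (alt_of_skew h2 _ hsk) k (by rw [Fintype.card_fin]; exact hnk)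
      have hne1 : Nonempty (Fin k ⊕ Fin k) := ⟨Sum.inl ⟨0, by omega⟩⟩
      have h3 := (hB.of_hasType hcomm σ₀ j R hT).cent hcomm σ₀ j H p hσ₀ R _ hGU
      rw [simG_J k] at h3
      exact h3
  · intro hcon
    have hcase : Odd (Fintype.card (Fin n)) ∨ ((2 : F) = 0 ∧ Even (Fintype.card (Fin n))) := by
      rw [hcardn]
      by_cases hev : Even n
      · right
        refine ⟨?_, hev⟩
        have hqe : ¬ Odd q := fun ho => hcon ⟨hev, ho⟩
        have hp2 : p = 2 := by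
          rcases (Fact.out : p.Prime).eq_two_or_odd' with h | h
          · exact h
          · exact absurd (hq ▸ h.pow) hqe
        have h3 : ((p : ℕ) : F) = 0 := CharP.cast_eq_zero F p
        rw [hp2] at h3
        exact_mod_cast h3
      · left
        exact Nat.not_even_iff_odd.1 hev
    have := hB.count_eq_gcd hcomm σ₀ j H p hσ₀ _ hGU hcase q hq1
    have e1 : Nat.gcd (Fintype.card (Fin n)) (q + 1) = Nat.gcd n (q + 1) := by rw [hcardn]
    exact this.trans e1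

end Cfsg.Agent.S2709
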