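import Mathlib
import Cfsg.Statements.S2710
import Cfsg.Agent.Lib.Helper2.Pug6

set_option autoImplicit false
open Cfsg

namespace Cfsg.Agent.S2710

open Matrix Cfsg.Agent.Helper11 Cfsg.Agent.Helper11.Herm Cfsg.Agent.Helper2.PU
open Cfsg.Agent.Helper13 Cfsg.Agent.Helper2.PGR Cfsg.Agent.Helper2.PUG

/-- Let T = PSU_n(q) with n ≥ 4 divisible by 4 (n = 2m) and q odd, realised over the field F with q² elements, G = Inndiag(T) the image of PGU_n(q), and φ the standard field automorphism of T attached to the q-th power map of F (it induces inverse-transpose on the unitary matrices and is a graph automorphism). Its centralizer in G is isomorphic to the projective conformal orthogonal group of the plus-type form Σ xᵢ yᵢ in dimension n over a field F₀ with q elements. (Dimensions n ≡ 2 (mod 4) are not covered.) -/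
theorem result {F : Type*} [Field F] [Fintype F] {q : ℕ} (hodd : Odd q) (hF : Fintype.card F = q ^ 2) {n m : ℕ} (hm : 2 ≤ m) (hnm : n = 2 * m) (h4 : 4 ∣ n) (F₀ : Type*) [Field F₀] [Fintype F₀] (hF₀ : Fintype.card F₀ = q) (σ : F ≃+* F) (hσ : ∀ a : F, σ a = a ^ q) (φ : MulAut (Cfsg.PSU n F q)) (hφ : Cfsg.IsFieldAutPSUOf σ φ) :
    Nonempty (↥(Cfsg.inndiagPSU n F q ⊓ Subgroup.centralizer {φ}) ≃* Cfsg.PGO F₀ (Cfsg.quadFormPlus m F₀)) := by
  classical
  obtain ⟨φ', hφ'⟩ := exists_frob hF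
  have hn : 3 ≤ n := by omega
  have hs : ¬ (n = 3 ∧ q = 2) := by omega
  have H := hypU_of_card hF φ' hφ' hn hs
  obtain ⟨p, hp⟩ := CharP.exists F
  have hpp : Fact p.Prime := ⟨CharP.char_is_prime F p⟩
  have hSU : Cfsg.SU n F q = SUg (Fin n) φ' := by
    ext g
    rw [mem_SU_iff_isU φ' hφ', mem_SUg_iff]
  have hGU : Cfsg.GU n F q = UG (Fin n) φ' := GU_eq_UG φ' hφ' n
  obtain ⟨j, R⟩ := exists_realStr hF hF₀ φ' hφ'
  have hσ₀ : ∀ x, σ x = φ' x := fun x => by rw [hσ, hφ']
  have h2 : (2 : F₀) ≠ 0 := by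
    have hc : ringChar F₀ ≠ 2 := by
      intro h
      have := FiniteField.even_card_of_char_two h
      rw [hF₀] at this
      have := Nat.odd_iff.1 hodd
      omega
    exact Ring.two_ne_zero hc
  have hne : Nonempty (Fin m ⊕ Fin m) := ⟨Sum.inl ⟨0, by omega⟩⟩
  have hT : HasType (1 : Matrix (Fin n) (Fin n) F₀) (hypBlock m F₀) := by
    apply (hasType_one_even h2 n m (by omega) hnm).1
    obtain ⟨k, hk⟩ := h4
    have hmk : m = 2 * k := by omega
    rw [hmk, pow_mul, neg_one_sq, one_pow]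
    exact ⟨1, by ring⟩
  have h1 := isOfType_field (frob_comm φ' hφ') σ j H p hσ₀ (Cfsg.SU n F q) hSU φ hφ
  have h3 := (h1.of_hasType (frob_comm φ' hφ') σ j R hT).cent (frob_comm φ' hφ') σ j H p hσ₀ R
    (Cfsg.GU n F q) hGU
  rw [simG_hypBlock h2 m] at h3
  exact h3

end Cfsg.Agent.S2710
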