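import Mathlib
import Cfsg.Statements.S2712
import Cfsg.Agent.Lib.Helper2.Spa21

set_option autoImplicit false
open Cfsg

namespace Cfsg.Agent.S2712

open Cfsg.Agent.Helper2.SpA

/-- Let T = PSp_{2m}(F) be simple over the field F with p^f elements (m ≥ 2, (2m, |F|) ≠ (4, 2)), G = Inndiag(T) the image of the projective conformal symplectic group PGSp_{2m}(F), and x a field automorphism of T of prime order r. Then r divides f; C_G(x) is isomorphic to PGSp_{2m}(F₀) for a field F₀ with p^(f/r) elements; and the G-class of x is the union of exactly gcd(gcd(2, p^f − 1), r) T-classes. -/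
theorem result {F : Type*} [Field F] [Fintype F] {p f : ℕ} [Fact p.Prime] (hF : Fintype.card F = p ^ f) (hf : 1 ≤ f) {m : ℕ} (hm : 2 ≤ m) (hs : m = 2 → 3 ≤ Fintype.card F) (x : MulAut (Cfsg.PSp m F)) (hx : Cfsg.IsFieldAutClassPSp x) {r : ℕ} (hr : r.Prime) (hxr : orderOf x = r) (F₀ : Type*) [Field F₀] [Fintype F₀] (hF₀ : Fintype.card F₀ = p ^ (f / r)) :
    r ∣ f ∧ Nonempty (↥(Cfsg.inndiagPSp m F ⊓ Subgroup.centralizer {x}) ≃* Cfsg.PGSp m F₀) ∧ Cfsg.splitClassCount (Cfsg.inndiagPSp m F) (Cfsg.Inn (Cfsg.PSp m F)) x = Nat.gcd (Nat.gcd 2 (p ^ f - 1)) r := by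
  have hchar : CharP F p := charP_of_card_eq_prime_pow hF
  obtain ⟨hc, σ, hord, hcount⟩ := field_class_Sp (F₀ := F₀) p hm x hx hr hxr
    (fun σ hord => (exists_descS hF σ hr hord hF₀).2.1)
  obtain ⟨hrf, -, hidx⟩ := exists_descS hF σ hr hord hF₀
  refine ⟨hrf, hc, ?_⟩
  rw [hcount, hidx]
  have hp2 : 2 ≤ p := (Fact.out : p.Prime).two_le
  have hfr : 0 < f / r := Nat.div_pos (Nat.le_of_dvd (by omega) hrf) hr.pos
  have hq₀ : 2 ≤ p ^ (f / r) := by
    calc 2 ≤ p := hp2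
      _ = p ^ 1 := (pow_one p).symm
      _ ≤ p ^ (f / r) := Nat.pow_le_pow_right (by omega) hfr
  have h1 : p ^ f = (p ^ (f / r)) ^ r := by rw [← pow_mul, Nat.div_mul_cancel hrf]
  rw [h1]
  exact gcd_two_geom _ r hq₀ hr.pos

end Cfsg.Agent.S2712
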