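import Mathlib
import Cfsg.Statements.S2722
import Cfsg.Agent.Lib.Helper17.ConfAut11

set_option autoImplicit false
open Cfsg

namespace Cfsg.Agent.S2722

/-- Let T = PΩ⁺_{2m}(F) with m ≥ 4 and |F| = q odd. Inside Aut(T), the image G̃ of the conformal orthogonal group of the form modulo the image of the special orthogonal group is elementary abelian of order 4. -/
theorem result {F : Type*} [Field F] [Fintype F] (hodd : Odd (Fintype.card F)) {m : ℕ} (hm : 4 ≤ m) :
    (∃ φ : ↥(Cfsg.pgoAut F (Cfsg.quadFormPlus m F)) →* Multiplicative (ZMod 2 × ZMod 2), Function.Surjective φ ∧ φ.ker = (Cfsg.psoAut F (Cfsg.quadFormPlus m F)).subgroupOf (Cfsg.pgoAut F (Cfsg.quadFormPlus m F))) := by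
  classical
  open Cfsg.Agent.Helper17.ConfAut Cfsg.Agent.Helper2.Orth Cfsg.Agent.Helper13 in
  obtain ⟨k, rfl⟩ : ∃ k, m = k + 2 := ⟨m - 2, by omega⟩
  have h2 := two_ne_zero_of_odd_card hodd
  rw [quadFormPlus_eq, pgoAut_eq, psoAut_eq]
  have hQ := nondeg_plus (F := F) (m := k + 2)
  have hT := twoHyp_plus (F := F) k
  obtain ⟨δ, lam, hδ, hlam⟩ := exists_delta h2 hQ (card_plus_even (k + 2))
  exact klein_PG_PSO h2 hQ hT (card_plus_even (k + 2)) hδ hlam

end Cfsg.Agent.S2722
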