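import Mathlib
import Cfsg.Statements.S2723
import Cfsg.Agent.Lib.Helper17.ConfAut11

set_option autoImplicit false
open Cfsg

namespace Cfsg.Agent.S2723

/-- Let T = PΩ⁺_{2m}(F) with m ≥ 4 and |F| = q odd. The image of the special orthogonal group in Aut(T) contains the inner automorphism group T with index 1 (they coincide) when m is odd and q ≡ 3 (mod 4), and with index 2 otherwise (the index is 2 exactly when the discriminant of the form is a square). -/
theorem result {F : Type*} [Field F] [Fintype F] (hodd : Odd (Fintype.card F)) {m : ℕ} (hm : 4 ≤ m) :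
    ((Odd m ∧ Fintype.card F % 4 = 3) → (Cfsg.Inn (Cfsg.POmega F (Cfsg.quadFormPlus m F))).relIndex (Cfsg.psoAut F (Cfsg.quadFormPlus m F)) = 1) ∧ (¬ (Odd m ∧ Fintype.card F % 4 = 3) → (Cfsg.Inn (Cfsg.POmega F (Cfsg.quadFormPlus m F))).relIndex (Cfsg.psoAut F (Cfsg.quadFormPlus m F)) = 2) := by
  classical
  open Cfsg.Agent.Helper17.ConfAut Cfsg.Agent.Helper2.Orth Cfsg.Agent.Helper13 in
  obtain ⟨k, rfl⟩ : ∃ k, m = k + 2 := ⟨m - 2, by omega⟩
  have h2 := two_ne_zero_of_odd_card hodd
  rw [quadFormPlus_eq, inn_eq, psoAut_eq]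
  have hQ := nondeg_plus (F := F) (m := k + 2)
  have hT := twoHyp_plus (F := F) k
  have hneg := negGL_mem_plus_iff hodd (k + 2) (by omega)
  constructor
  · intro hc
    rw [Subgroup.relIndex_eq_one]
    apply PSO_le_POm_of_not_mem h2 hQ hT (card_plus_even (k + 2))
    rw [hneg]
    exact fun hn => hn hc
  · intro hc
    exact relIndex_POm_PSO_of_mem h2 hQ hT (card_plus_even (k + 2)) (hneg.2 hc)

end Cfsg.Agent.S2723
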