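import Mathlib
import Cfsg.Statements.S2725
import Cfsg.Agent.Lib.Helper17.ConfAut17

set_option autoImplicit false
open Cfsg

namespace Cfsg.Agent.S2725

/-- Let T = PΩ⁺_{2m}(F) with m ≥ 4 and |F| = q odd. The inner-diagonal group G = Inndiag(T) (image of the class-preserving similarities) taken modulo the inner automorphism group T is cyclic of order 2 when m is odd and q ≡ 3 (mod 4), cyclic of order 4 when m is odd and q ≡ 1 (mod 4), and elementary abelian of order 4 when m is even. -/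
theorem result {F : Type*} [Field F] [Fintype F] (hodd : Odd (Fintype.card F)) {m : ℕ} (hm : 4 ≤ m) :
    ((Odd m ∧ Fintype.card F % 4 = 3) → (∃ φ : ↥(Cfsg.inndiagPOmegaPlus m F) →* Multiplicative (ZMod 2), Function.Surjective φ ∧ φ.ker = (Cfsg.Inn (Cfsg.POmega F (Cfsg.quadFormPlus m F))).subgroupOf (Cfsg.inndiagPOmegaPlus m F))) ∧ ((Odd m ∧ Fintype.card F % 4 = 1) → (∃ φ : ↥(Cfsg.inndiagPOmegaPlus m F) →* Multiplicative (ZMod 4), Function.Surjective φ ∧ φ.ker = (Cfsg.Inn (Cfsg.POmega F (Cfsg.quadFormPlus m F))).subgroupOf (Cfsg.inndiagPOmegaPlus m F))) ∧ (Even m → (∃ φ : ↥(Cfsg.inndiagPOmegaPlus m F) →* Multiplicative (ZMod 2 × ZMod 2), Function.Surjective φ ∧ φ.ker = (Cfsg.Inn (Cfsg.POmega F (Cfsg.quadFormPlus m F))).subgroupOf (Cfsg.inndiagPOmegaPlus m F))) := by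
  classical
  open Cfsg.Agent.Helper17.ConfAut in
  obtain ⟨k, rfl⟩ : ∃ k, m = k + 2 := ⟨m - 2, by omega⟩
  have h2 := two_ne_zero_of_odd_card hodd
  have key : Cfsg.inndiagPOmegaPlus (k + 2) F = Cfsg.autSubgroupOf
      (fun β : Cfsg.POmega F (Cfsg.quadFormPlus (k + 2) F) ≃*
          Cfsg.POmega F (Cfsg.quadFormPlus (k + 2) F) =>
        ∃ g : GL (Fin (k + 2) ⊕ Fin (k + 2)) F,
          g ∈ Geo.quadSimilarityGroup (F := F) (Cfsg.quadFormPlus (k + 2) F) ∧
          Cfsg.PreservesSingularClasses (Cfsg.quadFormPlus (k + 2) F)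
            (g : Matrix (Fin (k + 2) ⊕ Fin (k + 2)) (Fin (k + 2) ⊕ Fin (k + 2)) F) ∧
          Cfsg.IsInducedBySemilinearPOmega (Cfsg.quadFormPlus (k + 2) F) g (RingEquiv.refl F) β) :=
    rfl
  rw [key, Cfsg.Agent.Helper17.Spinor.quadFormPlus_eq, inndiag_eq h2 (by omega), inn_eq]
  exact inndiag_plus_structure k hodd (by omega)

end Cfsg.Agent.S2725
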