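import Mathlib
import Cfsg.Statements.S2726
import Cfsg.Agent.Lib.Helper17.ConfAut11

set_option autoImplicit false
open Cfsg

namespace Cfsg.Agent.S2726

/-- Let T = PΩ⁻_{2m+2}(F) with m ≥ 3 and |F| = q odd (form with anisotropic binary part). Inside Aut(T), the image G̃ of the conformal orthogonal group of the form modulo the image of the special orthogonal group is elementary abelian of order 4. -/
theorem result {F : Type*} [Field F] [Fintype F] (hodd : Odd (Fintype.card F)) {m : ℕ} (hm : 3 ≤ m) (a b : F) (hab : (∀ z₁ z₂ : F, z₁ ^ 2 + a * z₁ * z₂ + b * z₂ ^ 2 = 0 → z₁ = 0 ∧ z₂ = 0)) :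
    (∃ φ : ↥(Cfsg.pgoAut F (Cfsg.quadFormMinus m F a b)) →* Multiplicative (ZMod 2 × ZMod 2), Function.Surjective φ ∧ φ.ker = (Cfsg.psoAut F (Cfsg.quadFormMinus m F a b)).subgroupOf (Cfsg.pgoAut F (Cfsg.quadFormMinus m F a b))) := by
  classical
  open Cfsg.Agent.Helper17.ConfAut Cfsg.Agent.Helper2.Orth Cfsg.Agent.Helper13 in
  obtain ⟨k, rfl⟩ : ∃ k, m = k + 2 := ⟨m - 2, by omega⟩
  have h2 := two_ne_zero_of_odd_card hodd
  rw [quadFormMinus_eq, pgoAut_eq, psoAut_eq]
  have hQ := nondeg_minus (F := F) (k + 2) a b hab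
  have hT := twoHyp_minus (F := F) k a b
  obtain ⟨δ, lam, hδ, hlam⟩ := exists_delta h2 hQ (card_minus_even (k + 2))
  exact klein_PG_PSO h2 hQ hT (card_minus_even (k + 2)) hδ hlam

end Cfsg.Agent.S2726
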