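import Mathlib
import Cfsg.Statements.S2729
import Cfsg.Agent.Lib.Helper17.ConfAut27

set_option autoImplicit false
open Cfsg

namespace Cfsg.Agent.S2729

/-- Let T = PΩ⁻_{2m+2}(F) with m ≥ 3 and |F| = q odd (form with anisotropic binary part). The inner-diagonal group G = Inndiag(T) (image of the class-preserving similarities) taken modulo the inner automorphism group T is cyclic of order 4 when m is even and q ≡ 3 (mod 4), and of order 2 otherwise. -/
theorem result {F : Type*} [Field F] [Fintype F] (hodd : Odd (Fintype.card F)) {m : ℕ} (hm : 3 ≤ m) (a b : F) (hab : (∀ z₁ z₂ : F, z₁ ^ 2 + a * z₁ * z₂ + b * z₂ ^ 2 = 0 → z₁ = 0 ∧ z₂ = 0)) :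
    ((Even m ∧ Fintype.card F % 4 = 3) → (∃ φ : ↥(Cfsg.inndiagPOmegaMinus m F a b) →* Multiplicative (ZMod 4), Function.Surjective φ ∧ φ.ker = (Cfsg.Inn (Cfsg.POmega F (Cfsg.quadFormMinus m F a b))).subgroupOf (Cfsg.inndiagPOmegaMinus m F a b))) ∧ (¬ (Even m ∧ Fintype.card F % 4 = 3) → (∃ φ : ↥(Cfsg.inndiagPOmegaMinus m F a b) →* Multiplicative (ZMod 2), Function.Surjective φ ∧ φ.ker = (Cfsg.Inn (Cfsg.POmega F (Cfsg.quadFormMinus m F a b))).subgroupOf (Cfsg.inndiagPOmegaMinus m F a b))) := by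
  classical
  open Cfsg.Agent.Helper17.ConfAut in
  obtain ⟨k, rfl⟩ : ∃ k, m = k + 2 := ⟨m - 2, by omega⟩
  have h2 := two_ne_zero_of_odd_card hodd
  have key : Cfsg.inndiagPOmegaMinus (k + 2) F a b = Cfsg.autSubgroupOf
      (fun β : Cfsg.POmega F (Cfsg.quadFormMinus (k + 2) F a b) ≃*
          Cfsg.POmega F (Cfsg.quadFormMinus (k + 2) F a b) =>
        ∃ g : GL ((Fin (k + 2) ⊕ Fin (k + 2)) ⊕ Fin 2) F,
          g ∈ Geo.quadSimilarityGroup (F := F) (Cfsg.quadFormMinus (k + 2) F a b) ∧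
          Cfsg.PreservesSingularClassesMinus (k + 2) a b
            (g : Matrix ((Fin (k + 2) ⊕ Fin (k + 2)) ⊕ Fin 2)
              ((Fin (k + 2) ⊕ Fin (k + 2)) ⊕ Fin 2) F) ∧
          Cfsg.IsInducedBySemilinearPOmega (Cfsg.quadFormMinus (k + 2) F a b) g
            (RingEquiv.refl F) β) :=
    rfl
  rw [key, Cfsg.Agent.Helper17.Spinor.quadFormMinus_eq, inndiag_minus_eq (k + 2) a b h2 hab, inn_eq]
  exact inndiag_minus_structure k hodd a b hab

end Cfsg.Agent.S2729
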