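import Mathlib
import Cfsg.Statements.S2730
import Cfsg.Agent.Lib.Helper2.Spa39

set_option autoImplicit false
open Cfsg

namespace Cfsg.Agent.S2730

open Cfsg.Agent.Helper2.SpA Cfsg.Agent.Helper2.Symp Cfsg.Agent.Helper2.PU

/-- A criterion for the failure of local balance in almost simple groups whose socle is a projective symplectic group PSp_{2m}(F) (m ≥ 2, (2m, |F|) ≠ (4, 2)). Let F be a finite field of characteristic r and K the (simple) group in question; let A be a group of automorphisms of K containing all inner automorphisms, and x ∈ A an automorphism of prime order p ≠ r that is not inner-diagonal (not induced by a conformal symplectic matrix). Then the largest normal subgroup of C_A(x) of order prime to p is nontrivial if and only if x is a field automorphism of K (conjugate under Aut(K) to a non-identity standard field automorphism) and p does not divide the number of fixed points of x on K. -/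
theorem result {F : Type*} [Field F] [Fintype F] {r : ℕ} [Fact r.Prime] [CharP F r] {m : ℕ} (hm : 2 ≤ m) (hs : m = 2 → 3 ≤ Fintype.card F) (hK : IsSimpleGroup (Cfsg.PSp m F)) (A : Subgroup (MulAut (Cfsg.PSp m F))) (hinn : ∀ k : Cfsg.PSp m F, MulAut.conj k ∈ A) {p : ℕ} [Fact p.Prime] (hpr : p ≠ r) (x : MulAut (Cfsg.PSp m F)) (hxA : x ∈ A) (hord : orderOf x = p) (hnot : ¬ Cfsg.IsInnerDiagonalAutPSp x) :
    Cfsg.pPrimeCore p ↥(A ⊓ Subgroup.centralizer {x}) ≠ ⊥ ↔ (Cfsg.IsFieldAutClassPSp x ∧ Nat.Coprime p (Nat.card ↥(MonoidHom.eqLocus x.toMonoidHom (MonoidHom.id (Cfsg.PSp m F))))) := by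
  have hfin : Finite F := Finite.of_fintype F
  have hp : p.Prime := Fact.out
  obtain ⟨a, σ, hordσ, hx⟩ :=
    exists_conj_phiS_of_prime (m := m) (F := F) r hm x hp hpr hord hnot
  have hfield : Cfsg.IsFieldAutClassPSp x := by
    refine ⟨a⁻¹, σ, ?_, ?_⟩
    · intro hσ
      have h1 : σ = 1 := hσ
      rw [h1, orderOf_one] at hordσ
      exact hp.one_lt.ne hordσ
    · have h2 : a⁻¹ * x * (a⁻¹)⁻¹ = phiS σ := by
        rw [hx]
        group
      exact (isStdFieldAutPSp_iff σ _).2 h2
  rw [pPrimeCore_ne_bot_iff p (A ⊓ Subgroup.centralizer {x})]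
  have hcrit := core_criterion (m := m) (F := F) r hm A hinn hp hpr a σ hordσ
  rw [← hx] at hcrit
  rw [hcrit]
  exact ⟨fun h => ⟨hfield, h⟩, fun h => h.2⟩

end Cfsg.Agent.S2730
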