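import Cfsg.Statements.S2734
import Cfsg.Agent.Lib.Helper6.FoldD4Main
import Cfsg.Agent.Lib.Helper11.ChevSimpleGen
-- import your own Cfsg.Agent.* helpers here

set_option autoImplicit false
open Cfsg

namespace Cfsg.Agent.S2734

open Cfsg.Lie Cfsg.Agent.Lead.Chev Cfsg.Agent.Lead.Tw Cfsg.Agent.Helper6.ChevC Cfsg.Agent.Helper6.Fold
  Cfsg.Agent.Helper11.ChevGen

section aux

variable {F : Type*} [Field F]

/-- `α` sends `x_{±p_i}(t)` to `x_{±p_{p i}}(t)` -/
def PermAut (α : ↥(chevD4.group F) ≃* ↥(chevD4.group F)) (p : ℕ → ℕ) : Prop :=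
  ∀ (y : ↥(chevD4.group F)) (i : ℕ) (t : F), i < 4 →
    (((y : GL chevD4.Idx F) : Matrix chevD4.Idx chevD4.Idx F) = chevD4.x F (chevD4.simple i) t →
      ((α y : GL chevD4.Idx F) : Matrix chevD4.Idx chevD4.Idx F) = chevD4.x F (chevD4.simple (p i)) t) ∧
    (((y : GL chevD4.Idx F) : Matrix chevD4.Idx chevD4.Idx F) = chevD4.x F (chevD4.neg (chevD4.simple i)) t →
      ((α y : GL chevD4.Idx F) : Matrix chevD4.Idx chevD4.Idx F) =
        chevD4.x F (chevD4.neg (chevD4.simple (p i))) t)

theorem permAut_ext (α β : ↥(chevD4.group F) ≃* ↥(chevD4.group F)) (p : ℕ → ℕ) (hα : PermAut α p)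
    (hβ : PermAut β p) : α = β := by
  have hE : Subgroup.closure (simpleGenSet chevD4 F) ≤ (α.toMonoidHom).eqLocus β.toMonoidHom := by
    rw [Subgroup.closure_le]
    rintro y ⟨i, t, hy | hy⟩
    · show α y = β y
      apply Subtype.ext
      apply Units.ext
      rw [(hα y i.val t i.2).1 hy, (hβ y i.val t i.2).1 hy]
    · show α y = β y
      apply Subtype.ext
      apply Units.ext
      rw [(hα y i.val t i.2).2 hy, (hβ y i.val t i.2).2 hy]
  rw [closure_simpleGenSet chevD4 Cfsg.Agent.Lead.Tw.D4.hF] at hE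
  ext y
  have := hE (Subgroup.mem_top y)
  exact congrArg (fun z : ↥(chevD4.group F) => ((z : GL chevD4.Idx F) : Matrix chevD4.Idx chevD4.Idx F) _ _) this

theorem permAut_congr (α : ↥(chevD4.group F) ≃* ↥(chevD4.group F)) (p q : ℕ → ℕ) (hα : PermAut α p)
    (hpq : ∀ i < 4, p i = q i) : PermAut α q := by
  intro y i t hi
  rw [← hpq i hi]
  exact hα y i t hi

theorem permAut_mul (α β : MulAut ↥(chevD4.group F)) (p q : ℕ → ℕ) (hα : PermAut α p)
    (hβ : PermAut β q) (hq : ∀ i < 4, q i < 4) : PermAut (α * β) (fun i => p (q i)) := by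
  intro y i t hi
  constructor
  · intro hy
    have h1 := (hβ y i t hi).1 hy
    exact (hα (β y) (q i) t (hq i hi)).1 h1
  · intro hy
    have h1 := (hβ y i t hi).2 hy
    exact (hα (β y) (q i) t (hq i hi)).2 h1

theorem permAut_one : PermAut (1 : MulAut ↥(chevD4.group F)) (fun i => i) := by
  intro y i t hi
  exact ⟨fun h => h, fun h => h⟩

/-- the standard triality automorphism -/
noncomputable def gA (F : Type*) [Field F] : MulAut ↥(chevD4.group F) :=
  graphAut chevD4 GD4a.gp GD4a.gpInv GD4a.data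

theorem permAut_gA : PermAut (gA F) (fun i => GD4a.rhoL.getD i 0) := by
  intro y i t hi
  constructor
  · intro hy
    show (((graphAut chevD4 GD4a.gp GD4a.gpInv GD4a.data y : ↥(chevD4.group F)) : GL chevD4.Idx F) :
      Matrix chevD4.Idx chevD4.Idx F) = _
    rw [graphAut_apply chevD4 GD4a.gp GD4a.gpInv GD4a.data y _ (GD4a.simple_lt i hi) t hy, GD4a.pi_simple i hi,
      GD4a.eps_simple i hi, Int.cast_one, one_mul]
  · intro hy
    show (((graphAut chevD4 GD4a.gp GD4a.gpInv GD4a.data y : ↥(chevD4.group F)) : GL chevD4.Idx F) :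
      Matrix chevD4.Idx chevD4.Idx F) = _
    rw [graphAut_apply chevD4 GD4a.gp GD4a.gpInv GD4a.data y _ (GD4a.neg_simple_lt i hi) t hy,
      GD4a.pi_neg_simple i hi, GD4a.eps_neg_simple i hi, Int.cast_one, one_mul]

theorem Phi_refl (g : GL chevD4.Idx F) : Cfsg.Agent.S1080.Phi chevD4 (RingEquiv.refl F) g = g := by
  apply Units.ext
  rw [Cfsg.Agent.S1080.Phi_coe]
  ext i j
  rfl

theorem gA_fixed_iff (g : ↥(chevD4.group F)) : gA F g = g ↔ (D4.T0 F).σ (g : GL chevD4.Idx F) = g := by
  have e : (D4.T0 F).σ (g : GL chevD4.Idx F) = ((gA F g : ↥(chevD4.group F)) : GL chevD4.Idx F) := by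
    show spU chevD4 F GD4a.gp GD4a.gpInv GD4a.data.inv1 GD4a.data.inv2 *
      Cfsg.Agent.S1080.Phi chevD4 (RingEquiv.refl F) (g : GL chevD4.Idx F) *
        (spU chevD4 F GD4a.gp GD4a.gpInv GD4a.data.inv1 GD4a.data.inv2)⁻¹ = _
    rw [Phi_refl]
    rfl
  rw [e]
  constructor
  · intro h
    rw [h]
  · intro h
    exact Subtype.ext h

instance : DecidablePred (chevD4.IsDiagramSymmetry) := fun π => by
  unfold ChevalleyDatum.IsDiagramSymmetry
  infer_instance

theorem perm_cases : ∀ π : Equiv.Perm (Fin chevD4.rank), chevD4.IsDiagramSymmetry π →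
    (List.finRange chevD4.rank).map (fun i => (π i).val) ∈
      [[0, 1, 2, 3], [2, 1, 3, 0], [3, 1, 0, 2], [2, 1, 0, 3], [3, 1, 2, 0], [0, 1, 3, 2]] := by
  decide +kernel

theorem graphExp_eq : ∀ i < 4, ∀ j < 4, ∀ c : ℕ, chevD4.graphExp c i j = 1 := by
  have h : ∀ i < 4, chevD4.isLong (chevD4.simple i) = false := by decide +kernel
  intro i hi j hj c
  unfold ChevalleyDatum.graphExp
  rw [h j hj]
  rfl

/-- the fixed points of `τ` are those of the standard triality -/
theorem main [Fintype F] (τ : MulAut ↥(chevD4.group F))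
    (hfix : ∀ g : ↥(chevD4.group F), τ g = g ↔ gA F g = g) :
    Nonempty (↥(MonoidHom.eqLocus τ.toMonoidHom (MonoidHom.id ↥(chevD4.group F))) ≃* ↥(chevG2.group F)) := by
  obtain ⟨e⟩ := D4.nonempty_equiv (K := F)
  set E := MonoidHom.eqLocus τ.toMonoidHom (MonoidHom.id ↥(chevD4.group F)) with hE
  have hmap : E.map (chevD4.group F).subtype = orthGroup Cfsg.Agent.Lead.Tw.D4.hF (D4.T0 F) Cfsg.Agent.Lead.Tw.D4.S := by
    ext x
    rw [D4.mem_orthGroup_iff]
    constructor
    · rintro ⟨g, hg, rfl⟩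
      refine ⟨g.2, ?_⟩
      have h1 : τ g = g := hg
      exact (gA_fixed_iff g).1 ((hfix g).1 h1)
    · rintro ⟨hx, hσ⟩
      refine ⟨⟨x, hx⟩, ?_, rfl⟩
      show τ ⟨x, hx⟩ = ⟨x, hx⟩
      exact (hfix _).2 ((gA_fixed_iff ⟨x, hx⟩).2 hσ)
  exact ⟨((E.equivMapOfInjective (chevD4.group F).subtype Subtype.coe_injective).trans
    (MulEquiv.subgroupCongr hmap)).trans e.symm⟩

end aux

/-- In the Chevalley group of type D₄ over a finite field F (the matrix group generated by the root elements), a graph automorphism attached to a symmetry π of the Dynkin diagram (sending each fundamental root element x_p(t) to x_{π(p)}(t) and each x_{−p}(t) to x_{−π(p)}(t)) that has order 3 — a standard triality graph automorphism, π being a 3-cycle of the three outer nodes — has fixed-point subgroup isomorphic to the Chevalley group of type G₂ over F. -/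
theorem result {F : Type*} [Field F] [Fintype F] (τ : MulAut ↥(Cfsg.Lie.chevD4.group F)) (hτ : Cfsg.Lie.chevD4.IsGraphAut τ) (hτ3 : orderOf τ = 3) :
    Nonempty (↥(MonoidHom.eqLocus τ.toMonoidHom (MonoidHom.id ↥(Cfsg.Lie.chevD4.group F))) ≃* ↥(Cfsg.Lie.chevG2.group F)) := by
  classical
  obtain ⟨π, hπ, hτ'⟩ := hτ
  have hcases := perm_cases π hπ
  -- the action of `τ` on the fundamental root elements
  set p : ℕ → ℕ := fun i => if h : i < 4 then (π ⟨i, h⟩).val else i with hp
  have hplt : ∀ i < 4, p i < 4 := by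
    intro i hi
    simp only [hp, dif_pos hi]
    exact (π ⟨i, hi⟩).2
  have hτp : PermAut τ p := by
    intro y i t hi
    have h := hτ' y ⟨i, hi⟩ t
    have e1 : (π ⟨i, hi⟩).val = p i := by simp only [hp, dif_pos hi]
    rw [graphExp_eq i hi _ (π ⟨i, hi⟩).2, pow_one, e1] at h
    exact h
  have hvals : (List.finRange chevD4.rank).map (fun i => (π i).val) = [p 0, p 1, p 2, p 3] := by
    simp only [hp]
    rfl
  rw [hvals] at hcases
  have h3 : τ ^ 3 = 1 := by
    rw [← hτ3]
    exact pow_orderOf_eq_one τ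
  have hne1 : τ ≠ 1 := by
    intro h
    rw [h, orderOf_one] at hτ3
    norm_num at hτ3
  have hsq : τ * τ ≠ 1 := by
    intro h
    have h2 : τ ^ 2 = 1 := by rw [pow_two]; exact h
    have hd := orderOf_dvd_of_pow_eq_one h2
    rw [hτ3] at hd
    norm_num at hd
  simp only [List.mem_cons, List.cons.injEq, List.mem_nil_iff, and_true, or_false] at hcases
  rcases hcases with ⟨h0, h1, h2, h3'⟩ | ⟨h0, h1, h2, h3'⟩ | ⟨h0, h1, h2, h3'⟩ | ⟨h0, h1, h2, h3'⟩ |
    ⟨h0, h1, h2, h3'⟩ | ⟨h0, h1, h2, h3'⟩
  · -- identity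
    exfalso
    apply hne1
    apply permAut_ext τ 1 (fun i => i) _ permAut_one
    apply permAut_congr τ p _ hτp
    intro i hi
    interval_cases i <;> assumption
  · -- the standard triality
    have hτA : τ = gA F := by
      apply permAut_ext τ (gA F) (fun i => GD4a.rhoL.getD i 0) _ permAut_gA
      apply permAut_congr τ p _ hτp
      intro i hi
      interval_cases i
      · exact h0
      · exact h1
      · exact h2
      · exact h3'
    apply main τ
    intro g
    rw [hτA]
  · -- the inverse triality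
    have hτA : τ * τ = gA F := by
      apply permAut_ext (τ * τ) (gA F) (fun i => GD4a.rhoL.getD i 0) _ permAut_gA
      apply permAut_congr (τ * τ) (fun i => p (p i)) _ (permAut_mul τ τ p p hτp hτp hplt)
      intro i hi
      interval_cases i
      · show p (p 0) = 2
        rw [h0, h3']
      · show p (p 1) = 1
        rw [h1, h1]
      · show p (p 2) = 3
        rw [h2, h0]
      · show p (p 3) = 0
        rw [h3', h2]
    apply main τ
    intro g
    rw [← hτA]
    constructor
    · intro h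
      show τ (τ g) = g
      rw [h, h]
    · intro h
      have h4 : τ (τ g) = g := h
      have h5 : τ (τ (τ g)) = g := by
        have := congrArg (fun α : MulAut ↥(chevD4.group F) => α g) h3
        simpa [pow_succ, MulAut.mul_apply] using this
      rw [h4] at h5
      exact h5
  · exfalso
    apply hsq
    apply permAut_ext (τ * τ) 1 (fun i => i) _ permAut_one
    apply permAut_congr (τ * τ) (fun i => p (p i)) _ (permAut_mul τ τ p p hτp hτp hplt)
    intro i hi
    interval_cases i
    · show p (p 0) = 0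
      rw [h0, h2]
    · show p (p 1) = 1
      rw [h1, h1]
    · show p (p 2) = 2
      rw [h2, h0]
    · show p (p 3) = 3
      rw [h3', h3']
  · exfalso
    apply hsq
    apply permAut_ext (τ * τ) 1 (fun i => i) _ permAut_one
    apply permAut_congr (τ * τ) (fun i => p (p i)) _ (permAut_mul τ τ p p hτp hτp hplt)
    intro i hi
    interval_cases i
    · show p (p 0) = 0
      rw [h0, h3']
    · show p (p 1) = 1
      rw [h1, h1]
    · show p (p 2) = 2
      rw [h2, h2]
    · show p (p 3) = 3
      rw [h3', h0]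
  · exfalso
    apply hsq
    apply permAut_ext (τ * τ) 1 (fun i => i) _ permAut_one
    apply permAut_congr (τ * τ) (fun i => p (p i)) _ (permAut_mul τ τ p p hτp hτp hplt)
    intro i hi
    interval_cases i
    · show p (p 0) = 0
      rw [h0, h0]
    · show p (p 1) = 1
      rw [h1, h1]
    · show p (p 2) = 2
      rw [h2, h3']
    · show p (p 3) = 3
      rw [h3', h2]

end Cfsg.Agent.S2734
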