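import Mathlib
import Cfsg.Statements.S2738
import Cfsg.Agent.S0248

set_option autoImplicit false
open Cfsg

namespace Cfsg.Agent.S2738

open Matrix

theorem result (F : Type*) [Field F] [Fintype F] (hF : Fintype.card F = 4) : Nat.card ↥(Subgroup.center (Matrix.SpecialLinearGroup (Fin 3) F)) = 3 ∧ ¬ ∃ K : Subgroup (Matrix.SpecialLinearGroup (Fin 3) F), Subgroup.IsComplement' (Subgroup.center (Matrix.SpecialLinearGroup (Fin 3) F)) K := by
  classical
  have hcard : Nat.card ↥(Subgroup.center (Matrix.SpecialLinearGroup (Fin 3) F)) = 3 := by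
    rw [Nat.card_congr (Matrix.SpecialLinearGroup.center_equiv_rootsOfUnity' (0 : Fin 3)).toEquiv]
    have hU : Fintype.card Fˣ = 3 := by rw [Fintype.card_units, hF]
    have htop : rootsOfUnity (Fintype.card (Fin 3)) F = ⊤ := by
      rw [eq_top_iff]
      intro u _
      rw [mem_rootsOfUnity, Fintype.card_fin]
      have := pow_card_eq_one (x := u)
      rwa [hU] at this
    rw [htop, Subgroup.card_top, Nat.card_eq_fintype_card, hU]
  refine ⟨hcard, ?_⟩
  rintro ⟨K, hK⟩
  set Z := Subgroup.center (Matrix.SpecialLinearGroup (Fin 3) F) with hZ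
  -- `K` is normal
  haveI hKn : K.Normal := by
    constructor
    intro k hk g
    obtain ⟨⟨⟨z, hz⟩, ⟨k', hk'⟩⟩, hzk⟩ := hK.2 g
    simp only at hzk
    rw [← hzk]
    have hzc : ∀ x, x * z = z * x := fun x => Subgroup.mem_center_iff.mp hz x
    have e : z * k' * k * (z * k')⁻¹ = k' * k * k'⁻¹ := by
      calc z * k' * k * (z * k')⁻¹ = z * (k' * k * k'⁻¹) * z⁻¹ := by group
        _ = (k' * k * k'⁻¹) * z * z⁻¹ := by rw [← hzc]
        _ = k' * k * k'⁻¹ := by group
    rw [e]
    exact K.mul_mem (K.mul_mem hk' hk) (K.inv_mem hk')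
  have hidx : K.index = 3 := by rw [hK.index_eq_card, hcard]
  have hq : Nat.card (Matrix.SpecialLinearGroup (Fin 3) F ⧸ K) = 3 := hidx
  haveI : Fact (Nat.Prime 3) := ⟨by norm_num⟩
  haveI hcyc : IsCyclic (Matrix.SpecialLinearGroup (Fin 3) F ⧸ K) := isCyclic_of_prime_card hq
  letI : CommGroup (Matrix.SpecialLinearGroup (Fin 3) F ⧸ K) := IsCyclic.commGroup
  have hle : commutator (Matrix.SpecialLinearGroup (Fin 3) F) ≤ K := by
    have h1 := Abelianization.commutator_subset_ker (QuotientGroup.mk' K)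
    rwa [QuotientGroup.ker_mk'] at h1
  rw [Cfsg.Agent.S0248.result 3 le_rfl, top_le_iff] at hle
  rw [hle, Subgroup.index_top] at hidx
  norm_num at hidx

end Cfsg.Agent.S2738
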