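import Mathlib
import Cfsg.Statements.S2739
import Cfsg.Agent.Lib.Helper13.DetSplit
import Cfsg.Agent.S0819

set_option autoImplicit false
open scoped Pointwise
open Cfsg

namespace Cfsg.Agent.S2739

open Cfsg.Agent.Helper13.SS Polynomial Module

open scoped Classical

section lin
variable {F : Type*} [Field F] {V : Type*} [AddCommGroup V] [Module F V]

theorem eig_of_mem (x : Module.End F V) (μ : F) (v : V)
    (hv : v ∈ LinearMap.ker (aeval x (X - C μ : F[X]))) : x v = μ • v := by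
  rw [LinearMap.mem_ker, map_sub, aeval_X, aeval_C, LinearMap.sub_apply,
    Algebra.algebraMap_eq_smul_one, LinearMap.smul_apply, Module.End.one_apply, sub_eq_zero] at hv
  exact hv

theorem coprime_lin {a b : F} (h : a ≠ b) : IsCoprime (X - C a : F[X]) (X - C b) :=
  Polynomial.isCoprime_X_sub_C_of_isUnit_sub (sub_ne_zero.2 h).isUnit

omit [AddCommGroup V] [Module F V] in
theorem arith (ω : F) (h1 : ω ≠ 1) (h2 : ω ^ 2 ≠ 1) (h3 : ω ^ 3 = 1) (a₀ a₁ a₂ : ℕ)
    (hs : 3 = a₀ + (a₁ + a₂)) (h0 : a₀ ≠ 3) (h1' : a₁ ≠ 3) (h2' : a₂ ≠ 3)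
    (key : ω ^ (a₁ + 2 * a₂) = 1) : a₀ = 1 ∧ a₁ = 1 ∧ a₂ = 1 := by
  have e4 : ω ^ 4 = ω := by
    have : ω ^ 4 = ω ^ 3 * ω := by ring
    rw [this, h3, one_mul]
  have e5 : ω ^ 5 = ω ^ 2 := by
    have : ω ^ 5 = ω ^ 3 * ω ^ 2 := by ring
    rw [this, h3, one_mul]
  have ha1 : a₁ ≤ 2 := by omega
  have ha2 : a₂ ≤ 2 := by omega
  interval_cases a₁ <;> interval_cases a₂
  · omega
  · exact absurd key h2
  · exact absurd (e4 ▸ key) h1
  · exact absurd (by simpa using key) h1
  · omega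
  · exact absurd (e5 ▸ key) h2
  · exact absurd key h2
  · exact absurd (e4 ▸ key) h1
  · omega

variable [FiniteDimensional F V]

/-- eigenvalue pattern of an element of order three with determinant one -/
theorem kdims (ω : F) (hω0 : ω ≠ 0) (hω1 : ω ≠ 1) (hω : ω ^ 2 + ω + 1 = 0)
    (hV : finrank F V = 3) (x : Module.End F V) (hx3 : x ^ 3 = 1)
    (hdet : LinearMap.det x = 1) (hns : ∀ c : F, x ≠ c • (1 : Module.End F V)) :
    kdim x (X - C 1 : F[X]) = 1 ∧ kdim x (X - C ω : F[X]) = 1 ∧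
      kdim x (X - C (ω ^ 2) : F[X]) = 1 := by
  have hω3 : ω ^ 3 = 1 := by
    have : ω ^ 3 - 1 = (ω - 1) * (ω ^ 2 + ω + 1) := by ring
    rw [hω, mul_zero] at this
    exact sub_eq_zero.1 this
  have hω2ne1 : ω ^ 2 ≠ 1 := by
    intro h
    apply hω1
    have : ω ^ 3 = ω ^ 2 * ω := by ring
    rw [hω3, h, one_mul] at this
    exact this.symm
  have hω2neω : ω ^ 2 ≠ ω := by
    intro h
    apply hω1
    have h1 : ω * (ω - 1) = 0 := by rw [mul_sub, mul_one, ← sq, h, sub_self]
    rcases mul_eq_zero.1 h1 with h2 | h2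
    · exact absurd h2 hω0
    · exact sub_eq_zero.1 h2
  set f₀ : F[X] := X - C 1 with hf₀
  set f₁ : F[X] := X - C ω with hf₁
  set f₂ : F[X] := X - C (ω ^ 2) with hf₂
  have c01 : IsCoprime f₀ f₁ := coprime_lin (Ne.symm hω1)
  have c02 : IsCoprime f₀ f₂ := coprime_lin (Ne.symm hω2ne1)
  have c12 : IsCoprime f₁ f₂ := coprime_lin (Ne.symm hω2neω)
  have hprod : f₀ * (f₁ * f₂) = X ^ 3 - 1 := by
    rw [Cfsg.Agent.S0819.X_cube_sub_one ω hω, mul_assoc]
  have hkill : aeval x (f₀ * (f₁ * f₂)) = 0 := by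
    rw [hprod, map_sub, map_pow, aeval_X, map_one, hx3, sub_self]
  have hcop : IsCoprime f₀ (f₁ * f₂) := IsCoprime.mul_right c01 c02
  set L := LinearMap.ker (aeval x f₀) with hL
  set P := LinearMap.ker (aeval x (f₁ * f₂)) with hP
  have hLP : IsCompl L P := isCompl_ker_aeval x hcop hkill
  have hLinv := ker_aeval_invariant x f₀
  have hPinv := ker_aeval_invariant x (f₁ * f₂)
  have hsplit := det_split hLP x hLinv hPinv
  have hdetL : LinearMap.det (x.restrict hLinv) = 1 := by
    rw [det_restrict_scalar x hLinv 1 (fun v hv => eig_of_mem x 1 v hv), one_pow]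
  -- the plane part
  set z : Module.End F P := x.restrict hPinv with hz
  have hzkill : aeval z (f₁ * f₂) = 0 := aeval_restrict_eq_zero x P hPinv (f₁ * f₂) le_rfl
  have hLP' : IsCompl (LinearMap.ker (aeval z f₁)) (LinearMap.ker (aeval z f₂)) :=
    isCompl_ker_aeval z c12 hzkill
  have hdetz : LinearMap.det z = ω ^ kdim z f₁ * (ω ^ 2) ^ kdim z f₂ :=
    det_of_scalars hLP' z ω (ω ^ 2) (fun v hv => eig_of_mem z ω v hv)
      (fun v hv => eig_of_mem z (ω ^ 2) v hv)
  have hk1 : kdim z f₁ = kdim x f₁ :=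
    kdim_restrict x P hPinv f₁ (ker_aeval_le_of_dvd x (dvd_mul_right f₁ f₂))
  have hk2 : kdim z f₂ = kdim x f₂ :=
    kdim_restrict x P hPinv f₂ (ker_aeval_le_of_dvd x (dvd_mul_left f₂ f₁))
  rw [hdet, hdetL, one_mul, hdetz, hk1, hk2] at hsplit
  -- dimension count
  have hsum : finrank F V = kdim x f₀ + (kdim x f₁ + kdim x f₂) := by
    have h1 : kdim x (f₀ * (f₁ * f₂)) = finrank F V := by
      unfold kdim
      rw [hkill, LinearMap.ker_zero, finrank_top]
    rw [← h1, kdim_mul x hcop, kdim_mul x c12]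
  rw [hV] at hsum
  have hbound : ∀ μ : F, kdim x (X - C μ : F[X]) ≠ 3 := by
    intro μ h
    have h1 : LinearMap.ker (aeval x (X - C μ : F[X])) = ⊤ :=
      Submodule.eq_top_of_finrank_eq (by rw [hV]; exact h)
    have h2 : aeval x (X - C μ : F[X]) = 0 := LinearMap.ker_eq_top.1 h1
    rw [map_sub, aeval_X, aeval_C, Algebra.algebraMap_eq_smul_one, sub_eq_zero] at h2
    exact hns μ h2
  have hb0 := hbound 1
  have hb1 := hbound ω
  have hb2 := hbound (ω ^ 2)
  set a₀ := kdim x f₀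
  set a₁ := kdim x f₁
  set a₂ := kdim x f₂
  have hω4 : ω ^ 4 = ω := by
    have : ω ^ 4 = ω ^ 3 * ω := by ring
    rw [this, hω3, one_mul]
  have key : ω ^ (a₁ + 2 * a₂) = 1 := by
    rw [pow_add, pow_mul]
    exact hsplit.symm
  exact arith ω hω1 hω2ne1 hω3 a₀ a₁ a₂ hsum hb0 hb1 hb2 key

end lin

section cube
variable {F : Type*} [Field F] [Fintype F]

/-- over the field with four elements a matrix whose cube is a nontrivial scalar has that scalar
as determinant -/
theorem det_of_cube_scalar (hF : Fintype.card F = 4) (M : Matrix (Fin 3) (Fin 3) F) (c : F)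
    (hc0 : c ≠ 0) (hc : c ≠ 1) (hM : M ^ 3 = c • (1 : Matrix (Fin 3) (Fin 3) F)) :
    M.det = c := by
  set f : F[X] := X ^ 3 - C c with hf
  have hfm : f.Monic := monic_X_pow_sub_C c (by norm_num)
  have hfd : f.natDegree = 3 := natDegree_X_pow_sub_C
  have hfirr : Irreducible f := by
    apply Polynomial.irreducible_of_degree_le_three_of_not_isRoot
    · rw [hfd]; simp
    · intro x hx
      rw [IsRoot.def, hf, eval_sub, eval_pow, eval_X, eval_C, sub_eq_zero] at hx
      by_cases hx0 : x = 0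
      · rw [hx0] at hx
        apply hc0
        rw [← hx]
        simp
      · apply hc
        rw [← hx]
        exact Cfsg.Agent.S0819.cube_eq_one hF hx0
  have hkill : aeval M f = 0 := by
    rw [hf, map_sub, map_pow, aeval_X, aeval_C, hM, Algebra.algebraMap_eq_smul_one, sub_self]
  have hmin : f = minpoly F M := minpoly.eq_of_irreducible_of_monic hfirr hkill hfm
  have hdvd : f ∣ M.charpoly := hmin ▸ Matrix.minpoly_dvd_charpoly M
  have hchar : M.charpoly = f := by
    apply Polynomial.eq_of_monic_of_dvd_of_natDegree_le hfm (Matrix.charpoly_monic M) hdvd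
    rw [Matrix.charpoly_natDegree_eq_dim, hfd]
    simp
  rw [Matrix.det_eq_sign_charpoly_coeff, hchar, hf]
  simp
  ring

end cube

section conj
variable {F : Type*} [Field F] [Fintype F] {V : Type*} [AddCommGroup V] [Module F V]
  [FiniteDimensional F V]

omit [Fintype F] [AddCommGroup V] [Module F V] [FiniteDimensional F V] in
theorem lin_inj {a b : F} (h : (X - C a : F[X]) = X - C b) : a = b :=
  C_injective (sub_right_injective h)

omit [Fintype F] [FiniteDimensional F V] in
theorem aeval_commute (x : Module.End F V) (p : F[X]) : aeval x p * x = x * aeval x p := by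
  have h1 : aeval x (p * X) = aeval x (X * p) := by rw [mul_comm]
  rwa [map_mul, map_mul, aeval_X] at h1

omit [Fintype F] [FiniteDimensional F V] in
theorem aeval_lin_apply (x : Module.End F V) (μ : F) (v : V) :
    aeval x (X - C μ : F[X]) v = x v - μ • v := by
  rw [map_sub, aeval_X, aeval_C, LinearMap.sub_apply, Algebra.algebraMap_eq_smul_one,
    LinearMap.smul_apply, Module.End.one_apply]

theorem exists_det_one_intertwiner (hF : Fintype.card F = 4) (hV : finrank F V = 3)
    (x y : Module.End F V) (hx3 : x ^ 3 = 1) (hy3 : y ^ 3 = 1)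
    (hdx : LinearMap.det x = 1) (hdy : LinearMap.det y = 1)
    (hnx : ∀ c : F, x ≠ c • (1 : Module.End F V)) (hny : ∀ c : F, y ≠ c • (1 : Module.End F V)) :
    ∃ T : Module.End F V, LinearMap.det T = 1 ∧ T * x = y * T := by
  obtain ⟨ω, hω0, hω1, hω⟩ := Cfsg.Agent.S0819.exists_omega hF
  obtain ⟨kx0, kx1, kx2⟩ := kdims ω hω0 hω1 hω hV x hx3 hdx hnx
  obtain ⟨ky0, ky1, ky2⟩ := kdims ω hω0 hω1 hω hV y hy3 hdy hny
  have hω3 : ω ^ 3 = 1 := Cfsg.Agent.S0819.cube_eq_one hF hω0
  have hω2ne1 : ω ^ 2 ≠ 1 := by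
    intro h
    apply hω1
    have : ω ^ 3 = ω ^ 2 * ω := by ring
    rw [hω3, h, one_mul] at this
    exact this.symm
  have hω2neω : ω ^ 2 ≠ ω := by
    intro h
    apply hω1
    have h1 : ω * (ω - 1) = 0 := by rw [mul_sub, mul_one, ← sq, h, sub_self]
    rcases mul_eq_zero.1 h1 with h2 | h2
    · exact absurd h2 hω0
    · exact sub_eq_zero.1 h2
  set f₀ : F[X] := X - C 1 with hf₀
  set f₁ : F[X] := X - C ω with hf₁
  set f₂ : F[X] := X - C (ω ^ 2) with hf₂
  have c01 : IsCoprime f₀ f₁ := coprime_lin (Ne.symm hω1)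
  have c02 : IsCoprime f₀ f₂ := coprime_lin (Ne.symm hω2ne1)
  have c12 : IsCoprime f₁ f₂ := coprime_lin (Ne.symm hω2neω)
  have n01 : f₀ ≠ f₁ := fun h => hω1 (lin_inj h).symm
  have n02 : f₀ ≠ f₂ := fun h => hω2ne1 (lin_inj h).symm
  have n12 : f₁ ≠ f₂ := fun h => hω2neω (lin_inj h).symm
  have hprod : f₀ * (f₁ * f₂) = X ^ 3 - 1 := by
    rw [Cfsg.Agent.S0819.X_cube_sub_one ω hω, mul_assoc]
  set S : Finset F[X] := insert f₀ (insert f₁ {f₂}) with hS
  have hprodS : ∏ f ∈ S, f = X ^ 3 - 1 := by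
    rw [hS, Finset.prod_insert (by simp [n01, n02]), Finset.prod_insert (by simp [n12]),
      Finset.prod_singleton, hprod]
  have hmem : ∀ f ∈ S, f = f₀ ∨ f = f₁ ∨ f = f₂ := by
    intro f hf
    simpa [hS] using hf
  have hirr : ∀ f ∈ S, Irreducible f := by
    intro f hf
    rcases hmem f hf with h | h | h <;> rw [h] <;> exact irreducible_X_sub_C _
  have hcopS : (S : Set F[X]).Pairwise IsCoprime := by
    intro a ha b hb hab
    rcases hmem a ha with h | h | h <;> rcases hmem b hb with h' | h' | h'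
    · exact absurd (h.trans h'.symm) hab
    · rw [h, h']; exact c01
    · rw [h, h']; exact c02
    · rw [h, h']; exact c01.symm
    · exact absurd (h.trans h'.symm) hab
    · rw [h, h']; exact c12
    · rw [h, h']; exact c02.symm
    · rw [h, h']; exact c12.symm
    · exact absurd (h.trans h'.symm) hab
  have hkx : aeval x (∏ f ∈ S, f) = 0 := by
    rw [hprodS, map_sub, map_pow, aeval_X, map_one, hx3, sub_self]
  have hky : aeval y (∏ f ∈ S, f) = 0 := by
    rw [hprodS, map_sub, map_pow, aeval_X, map_one, hy3, sub_self]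
  have hk : ∀ f ∈ S, kdim x f = kdim y f := by
    intro f hf
    rcases hmem f hf with h | h | h <;> rw [h]
    · rw [kx0, ky0]
    · rw [kx1, ky1]
    · rw [kx2, ky2]
  obtain ⟨T, hT⟩ := exists_equiv_aux S V V x y hirr hcopS hkx hky hk
  set δ : F := LinearMap.det (T : V →ₗ[F] V) with hδ
  have hδ0 : δ ≠ 0 := (LinearEquiv.isUnit_det' T).ne_zero
  set κ : F := (1 - ω) * (1 - ω ^ 2) with hκ
  have hκ0 : κ ≠ 0 :=
    mul_ne_zero (sub_ne_zero.2 (Ne.symm hω1)) (sub_ne_zero.2 (Ne.symm hω2ne1))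
  set c : Module.End F V := 1 + ((δ⁻¹ - 1) * κ⁻¹) • aeval x (f₁ * f₂) with hc
  have hkill : aeval x (f₀ * (f₁ * f₂)) = 0 := by
    rw [hprod, map_sub, map_pow, aeval_X, map_one, hx3, sub_self]
  have hcop : IsCoprime f₀ (f₁ * f₂) := IsCoprime.mul_right c01 c02
  set L := LinearMap.ker (aeval x f₀) with hL
  set P := LinearMap.ker (aeval x (f₁ * f₂)) with hP
  have hLP : IsCompl L P := isCompl_ker_aeval x hcop hkill
  have hcL : ∀ v ∈ L, c v = δ⁻¹ • v := by
    intro v hv
    have h1 : x v = (1 : F) • v := eig_of_mem x 1 v hv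
    rw [one_smul] at h1
    have h2 : aeval x (f₁ * f₂) v = κ • v := by
      rw [map_mul, Module.End.mul_apply, hf₁, hf₂, aeval_lin_apply, aeval_lin_apply, map_sub,
        map_smul, h1, h1, hκ]
      module
    rw [hc, LinearMap.add_apply, Module.End.one_apply, LinearMap.smul_apply, h2, smul_smul]
    have h3 : (δ⁻¹ - 1) * κ⁻¹ * κ = δ⁻¹ - 1 := by
      rw [mul_assoc, inv_mul_cancel₀ hκ0, mul_one]
    rw [h3]
    module
  have hcP : ∀ v ∈ P, c v = (1 : F) • v := by
    intro v hv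
    have h2 : aeval x (f₁ * f₂) v = 0 := hv
    rw [hc, LinearMap.add_apply, Module.End.one_apply, LinearMap.smul_apply, h2, smul_zero,
      add_zero, one_smul]
  have hdetc : LinearMap.det c = δ⁻¹ := by
    rw [det_of_scalars hLP c δ⁻¹ 1 hcL hcP, one_pow, mul_one]
    have : finrank F L = 1 := kx0
    rw [this, pow_one]
  have hcx : c * x = x * c := by
    rw [hc, add_mul, mul_add, one_mul, mul_one, smul_mul_assoc, mul_smul_comm, aeval_commute]
  have hTx : (T : Module.End F V) * x = y * (T : Module.End F V) := by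
    apply LinearMap.ext
    intro v
    exact hT v
  refine ⟨(T : Module.End F V) * c, ?_, ?_⟩
  · rw [Module.End.mul_eq_comp, LinearMap.det_comp, hdetc, ← hδ, mul_inv_cancel₀ hδ0]
  · rw [mul_assoc, hcx, ← mul_assoc, hTx, mul_assoc]

end conj

theorem conj_smul_zpowers {G : Type*} [Group G] (g a : G) :
    MulAut.conj g • Subgroup.zpowers a = Subgroup.zpowers (g * a * g⁻¹) := by
  have h := MonoidHom.map_zpowers (MulAut.conj g).toMonoidHom a
  have h2 : (MulAut.conj g).toMonoidHom a = g * a * g⁻¹ := rfl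
  rw [h2] at h
  rw [← h]
  rfl

section grp
variable {F : Type*} [Field F] [Fintype F]

theorem exists_lift (hF : Fintype.card F = 4)
    (X : Subgroup (Matrix.ProjectiveSpecialLinearGroup (Fin 3) F)) (hX : Nat.card ↥X = 3) :
    ∃ a : Matrix.SpecialLinearGroup (Fin 3) F,
      (a : Matrix (Fin 3) (Fin 3) F) ^ 3 = 1 ∧
      (∀ c : F, (a : Matrix (Fin 3) (Fin 3) F) ≠ c • (1 : Matrix (Fin 3) (Fin 3) F)) ∧
      X = Subgroup.zpowers (QuotientGroup.mk a : Matrix.ProjectiveSpecialLinearGroup (Fin 3) F) := by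
  haveI : Fact (Nat.Prime 3) := ⟨by norm_num⟩
  haveI : Finite X := Nat.finite_of_card_ne_zero (by omega)
  have hne : X ≠ ⊥ := by
    intro h
    rw [h] at hX
    simp at hX
  obtain ⟨x, hx1⟩ := (Subgroup.ne_bot_iff_exists_ne_one).1 hne
  have hx3 : x ^ 3 = 1 := by
    have := pow_card_eq_one' (G := ↥X) (x := x)
    rwa [hX] at this
  have hx1' : (x : Matrix.ProjectiveSpecialLinearGroup (Fin 3) F) ≠ 1 := by
    intro h
    apply hx1
    exact Subtype.ext h
  have hx3' : (x : Matrix.ProjectiveSpecialLinearGroup (Fin 3) F) ^ 3 = 1 := by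
    have := congrArg Subtype.val hx3
    simpa using this
  have hord : orderOf (x : Matrix.ProjectiveSpecialLinearGroup (Fin 3) F) = 3 :=
    orderOf_eq_prime hx3' hx1'
  have hXeq : Subgroup.zpowers (x : Matrix.ProjectiveSpecialLinearGroup (Fin 3) F) = X := by
    apply Subgroup.eq_of_le_of_card_ge
    · rw [Subgroup.zpowers_le]
      exact x.2
    · rw [Nat.card_zpowers, hord, hX]
  obtain ⟨a, ha⟩ := QuotientGroup.mk_surjective (x : Matrix.ProjectiveSpecialLinearGroup (Fin 3) F)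
  have hacen : a ^ 3 ∈ Subgroup.center (Matrix.SpecialLinearGroup (Fin 3) F) := by
    rw [← QuotientGroup.eq_one_iff, QuotientGroup.mk_pow, ha]
    exact hx3'
  obtain ⟨r, hr3, hr⟩ := Matrix.SpecialLinearGroup.mem_center_iff.1 hacen
  have hr3' : r ^ 3 = 1 := by simpa using hr3
  have hr0 : r ≠ 0 := by
    intro h
    rw [h] at hr3'
    simp at hr3'
  have hcube : (a : Matrix (Fin 3) (Fin 3) F) ^ 3 = r • (1 : Matrix (Fin 3) (Fin 3) F) := by
    rw [← Matrix.SpecialLinearGroup.coe_pow, ← hr, Matrix.smul_one_eq_diagonal]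
    rfl
  have hr1 : r = 1 := by
    by_contra hr1
    have := det_of_cube_scalar hF (a : Matrix (Fin 3) (Fin 3) F) r hr0 hr1 hcube
    rw [a.det_coe] at this
    exact hr1 this.symm
  refine ⟨a, ?_, ?_, ?_⟩
  · rw [hcube, hr1, one_smul]
  · intro c hc
    apply hx1'
    rw [← ha, QuotientGroup.eq_one_iff, Matrix.SpecialLinearGroup.mem_center_iff]
    refine ⟨c, ?_, ?_⟩
    · have h1 := a.det_coe
      rw [hc, Matrix.det_smul, Matrix.det_one, mul_one] at h1
      exact h1
    · rw [hc, Matrix.smul_one_eq_diagonal]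
      rfl
  · rw [ha, hXeq]

end grp

/-- In the projective special linear group PSL(3, 4) all subgroups of order 3 are conjugate. -/
theorem result (F : Type*) [Field F] [Fintype F] (hF : Fintype.card F = 4) (X Y : Subgroup (Matrix.ProjectiveSpecialLinearGroup (Fin 3) F)) (hX : Nat.card ↥X = 3) (hY : Nat.card ↥Y = 3) : ∃ g : Matrix.ProjectiveSpecialLinearGroup (Fin 3) F, MulAut.conj g • X = Y := by
  obtain ⟨a, ha3, hans, hXa⟩ := exists_lift hF X hX
  obtain ⟨b, hb3, hbns, hYb⟩ := exists_lift hF Y hY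
  set φ := Matrix.toLinAlgEquiv' (R := F) (n := Fin 3) with hφ
  have hV : finrank F (Fin 3 → F) = 3 := by simp
  have hdet : ∀ M : Matrix (Fin 3) (Fin 3) F, LinearMap.det (φ M) = M.det := by
    intro M
    exact LinearMap.det_toLin' M
  have hns : ∀ M : Matrix (Fin 3) (Fin 3) F,
      (∀ c : F, M ≠ c • (1 : Matrix (Fin 3) (Fin 3) F)) →
      ∀ c : F, φ M ≠ c • (1 : Module.End F (Fin 3 → F)) := by
    intro M hM c hc
    apply hM c
    apply φ.injective
    rw [hc, map_smul, map_one]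
  obtain ⟨T, hTdet, hT⟩ := exists_det_one_intertwiner hF hV (φ a) (φ b)
    (by rw [← map_pow, ha3, map_one]) (by rw [← map_pow, hb3, map_one])
    (by rw [hdet, a.det_coe]) (by rw [hdet, b.det_coe]) (hns _ hans) (hns _ hbns)
  set M := φ.symm T with hM
  have hMT : φ M = T := φ.apply_symm_apply T
  have hMdet : M.det = 1 := by rw [← hdet, hMT, hTdet]
  have hMab : M * (a : Matrix (Fin 3) (Fin 3) F) = (b : Matrix (Fin 3) (Fin 3) F) * M := by
    apply φ.injective
    rw [map_mul, map_mul, hMT, hT]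
  set g : Matrix.SpecialLinearGroup (Fin 3) F := ⟨M, hMdet⟩ with hg
  have hgab : g * a = b * g := by
    apply Subtype.ext
    rw [Matrix.SpecialLinearGroup.coe_mul, Matrix.SpecialLinearGroup.coe_mul]
    exact hMab
  refine ⟨QuotientGroup.mk g, ?_⟩
  rw [hXa, hYb, conj_smul_zpowers]
  congr 1
  show (QuotientGroup.mk g : Matrix.ProjectiveSpecialLinearGroup (Fin 3) F) * QuotientGroup.mk a *
    (QuotientGroup.mk g)⁻¹ = QuotientGroup.mk b
  rw [← QuotientGroup.mk_mul, hgab, QuotientGroup.mk_mul, mul_inv_cancel_right]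

end Cfsg.Agent.S2739
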