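import Mathlib
import Cfsg.Statements.S2758
import Cfsg.Agent.Lib.Lead.DihedralRecog
import Cfsg.Agent.Lib.Helper1.Coprime
import Cfsg.Agent.Lib.Helper1.CommutatorBasic

set_option autoImplicit false
open Cfsg

namespace Cfsg.Agent.S2758

/-- (b) ⇒ (c): a 2-element normalizing but not centralizing a `p`-group inverts some nontrivial
`p`-element (after replacing it by a suitable power). -/
theorem b_imp_c {G : Type*} [Group G] [Finite G] {p : ℕ} [Fact p.Prime]
    (h : ∃ (x : G) (P : Subgroup G), (∃ k : ℕ, orderOf x = 2 ^ k) ∧ IsPGroup p ↥P ∧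
      x ∈ Subgroup.normalizer (P : Set G) ∧ x ∉ Subgroup.centralizer (P : Set G)) :
    ∃ x y : G, (∃ k : ℕ, orderOf x = 2 ^ k) ∧ (∃ k : ℕ, orderOf y = p ^ k) ∧ y ≠ 1 ∧
      x * y * x⁻¹ = y⁻¹ := by
  obtain ⟨x, P, ⟨k, hk⟩, hP, hxN, hxC⟩ := h
  -- find the switch point
  have hex : ∃ j : ℕ, x ^ 2 ^ j ∈ Subgroup.centralizer (P : Set G) :=
    ⟨k, by rw [← hk, pow_orderOf_eq_one]; exact Subgroup.one_mem _⟩
  classical
  set j₀ := Nat.find hex with hj₀
  have hj₀spec : x ^ 2 ^ j₀ ∈ Subgroup.centralizer (P : Set G) := Nat.find_spec hex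
  have hj₀ne : j₀ ≠ 0 := by
    intro h0
    rw [h0, pow_zero, pow_one] at hj₀spec
    exact hxC hj₀spec
  obtain ⟨j, hj⟩ := Nat.exists_eq_succ_of_ne_zero hj₀ne
  have hjmin : x ^ 2 ^ j ∉ Subgroup.centralizer (P : Set G) :=
    Nat.find_min hex (by rw [← hj₀, hj]; exact Nat.lt_succ_self j)
  set x' := x ^ 2 ^ j with hx'
  have hx'2 : x' * x' ∈ Subgroup.centralizer (P : Set G) := by
    have : x' * x' = x ^ 2 ^ j₀ := by
      rw [hx', hj, Nat.succ_eq_add_one, pow_succ, pow_mul, pow_two]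
    rw [this]; exact hj₀spec
  have hx'N : x' ∈ Subgroup.normalizer (P : Set G) := Subgroup.pow_mem _ hxN _
  have hx'ord : ∃ i : ℕ, orderOf x' = 2 ^ i := by
    have hdvd : orderOf x' ∣ 2 ^ k := by rw [← hk]; exact orderOf_pow_dvd _
    obtain ⟨i, -, hi⟩ := (Nat.dvd_prime_pow Nat.prime_two).mp hdvd
    exact ⟨i, hi⟩
  -- an element not commuting with x'
  have hz : ∃ z ∈ P, z * x' ≠ x' * z := by
    by_contra hcon
    push_neg at hcon
    exact hjmin (Subgroup.mem_centralizer_iff.mpr hcon)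
  obtain ⟨z, hzP, hzx⟩ := hz
  have hconj : x' * z * x'⁻¹ ∈ P := (Subgroup.mem_normalizer_iff.mp hx'N z).mp hzP
  set w := z⁻¹ * (x' * z * x'⁻¹) with hw
  have hwP : w ∈ P := P.mul_mem (P.inv_mem hzP) hconj
  have hw1 : w ≠ 1 := by
    intro h1
    apply hzx
    have : x' * z * x'⁻¹ = z := by
      have := congrArg (fun t => z * t) h1
      simpa [hw] using this
    calc z * x' = (x' * z * x'⁻¹) * x' := by rw [this]
      _ = x' * z := by group
  have hcomm : z * (x' * x') = (x' * x') * z := (Subgroup.mem_centralizer_iff.mp hx'2) z hzP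
  have hinv : x' * w * x'⁻¹ = w⁻¹ := by
    have e1 : x' * w * x'⁻¹ = (x' * z⁻¹ * x'⁻¹) * ((x' * x') * z * (x' * x')⁻¹) := by
      rw [hw]; group
    have e2 : (x' * x') * z * (x' * x')⁻¹ = z := by rw [← hcomm]; group
    rw [e1, e2, hw]; group
  refine ⟨x', w, hx'ord, ?_, hw1, hinv⟩
  obtain ⟨i, hi⟩ := (IsPGroup.iff_orderOf.mp hP) ⟨w, hwP⟩
  exact ⟨i, by rw [← hi]; exact (Subgroup.orderOf_mk w hwP).symm⟩

/-- (c) ⇒ (a) -/
theorem c_imp_a {G : Type*} [Group G] [Finite G] {p : ℕ} [Fact p.Prime] (hp : p ≠ 2)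
    (h : ∃ x y : G, (∃ k : ℕ, orderOf x = 2 ^ k) ∧ (∃ k : ℕ, orderOf y = p ^ k) ∧ y ≠ 1 ∧
      x * y * x⁻¹ = y⁻¹) : Cfsg.Involves (DihedralGroup p) G := by
  obtain ⟨x, y₀, ⟨k, hk⟩, ⟨m, hm⟩, hy₀, hinv₀⟩ := h
  have hpp : p.Prime := Fact.out
  haveI : NeZero p := ⟨hpp.ne_zero⟩
  have hm0 : m ≠ 0 := by
    rintro rfl
    rw [pow_zero, orderOf_eq_one_iff] at hm
    exact hy₀ hm
  obtain ⟨m', rfl⟩ := Nat.exists_eq_succ_of_ne_zero hm0
  set y := y₀ ^ p ^ m' with hy
  have hyord : orderOf y = p := by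
    rw [hy, orderOf_pow_of_dvd (pow_ne_zero _ hpp.ne_zero)
      (by rw [hm]; exact pow_dvd_pow p (Nat.le_succ m')), hm, Nat.succ_eq_add_one, pow_succ,
      Nat.mul_div_cancel_left _ (pow_pos hpp.pos _)]
  have hinv : x * y * x⁻¹ = y⁻¹ := by
    rw [hy, ← inv_pow, ← hinv₀, conj_pow]
  have hnot2 : ¬ p ∣ 2 ^ k := fun hdvd =>
    hp ((Nat.prime_dvd_prime_iff_eq hpp Nat.prime_two).mp (hpp.dvd_of_dvd_pow hdvd))
  -- x² commutes with y
  have hxxy : (x * x) * y = y * (x * x) := by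
    have e1 : x * y = y⁻¹ * x := by rw [← hinv]; group
    have e2 : x * y⁻¹ = y * x := by
      have : x * y⁻¹ * x⁻¹ = y := by
        have := congrArg (fun t => t⁻¹) hinv
        simpa [mul_assoc] using this
      calc x * y⁻¹ = (x * y⁻¹ * x⁻¹) * x := by group
        _ = y * x := by rw [this]
    calc (x * x) * y = x * (x * y) := by group
      _ = x * (y⁻¹ * x) := by rw [e1]
      _ = (x * y⁻¹) * x := by group
      _ = (y * x) * x := by rw [e2]
      _ = y * (x * x) := by group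
  set N := Subgroup.zpowers y with hN
  set X := Subgroup.zpowers x with hX
  set K := N ⊔ X with hK
  set R := Subgroup.zpowers (x * x) with hR
  have hyK : y ∈ K := (le_sup_left : N ≤ K) (Subgroup.mem_zpowers y)
  have hxK : x ∈ K := (le_sup_right : X ≤ K) (Subgroup.mem_zpowers x)
  have hRK : R ≤ K := by
    rw [hR, Subgroup.zpowers_le]; exact K.mul_mem hxK hxK
  have hKcent : ∀ g ∈ K, g * (x * x) = (x * x) * g := by
    have h1 : K ≤ Subgroup.centralizer ({x * x} : Set G) := by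
      refine sup_le ?_ ?_
      · rw [hN, Subgroup.zpowers_le, Subgroup.mem_centralizer_iff]
        intro g hg; rw [Set.mem_singleton_iff] at hg; rw [hg]; exact hxxy
      · rw [hX, Subgroup.zpowers_le, Subgroup.mem_centralizer_iff]
        intro g hg; rw [Set.mem_singleton_iff] at hg; rw [hg]; group
    intro g hg
    exact ((Subgroup.mem_centralizer_iff.mp (h1 hg)) (x * x) rfl).symm
  have hRn : (R.subgroupOf K).Normal := by
    rw [Subgroup.normal_subgroupOf_iff_le_normalizer hRK]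
    refine le_trans ?_ (Cfsg.Agent.Helper1.centralizer_le_normalizer R)
    rw [Subgroup.le_centralizer_iff, hR, Subgroup.zpowers_le, Subgroup.mem_centralizer_iff]
    exact hKcent
  have hXN : X ≤ Subgroup.normalizer (N : Set G) := by
    rw [hX, Subgroup.zpowers_le, Subgroup.mem_normalizer_iff_map_conj_eq, hN,
      MonoidHom.map_zpowers]
    show Subgroup.zpowers (x * y * x⁻¹) = Subgroup.zpowers y
    rw [hinv, Subgroup.zpowers_inv]
  refine ⟨K, R, hRn, ?_⟩
  set π := QuotientGroup.mk' (R.subgroupOf K) with hπ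
  set a : ↥K ⧸ R.subgroupOf K := π ⟨y, hyK⟩ with ha
  set s : ↥K ⧸ R.subgroupOf K := π ⟨x, hxK⟩ with hs
  have hker : ∀ g : ↥K, π g = 1 ↔ (g : G) ∈ R := by
    intro g
    rw [hπ, QuotientGroup.mk'_apply, QuotientGroup.eq_one_iff, Subgroup.mem_subgroupOf]
  have hRord : ∀ g ∈ R, orderOf g ∣ 2 ^ k := by
    intro g hg
    have h1 : orderOf g ∣ orderOf (x * x) := orderOf_dvd_of_mem_zpowers hg
    have h2 : orderOf (x * x) ∣ orderOf x := by rw [← pow_two]; exact orderOf_pow_dvd 2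
    rw [hk] at h2
    exact h1.trans h2
  have hss : s * s = 1 := by
    rw [hs, ← map_mul, hker]
    exact Subgroup.mem_zpowers (x * x)
  have haord : orderOf a = p := by
    have h1 : a ^ p = 1 := by
      rw [ha, ← map_pow, hker]
      show y ^ p ∈ R
      rw [← hyord, pow_orderOf_eq_one]; exact R.one_mem
    have h2 : orderOf a ∣ p := orderOf_dvd_of_pow_eq_one h1
    rcases (Nat.dvd_prime hpp).mp h2 with h3 | h3
    · exfalso
      rw [orderOf_eq_one_iff, ha, hker] at h3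
      have := hRord y h3
      rw [hyord] at this
      exact hnot2 this
    · exact h3
  have hsas : s * a * s = a⁻¹ := by
    have e : (⟨x, hxK⟩ : ↥K) * ⟨y, hyK⟩ * ⟨x, hxK⟩ = (⟨y, hyK⟩ : ↥K)⁻¹ * (⟨x, hxK⟩ * ⟨x, hxK⟩) := by
      apply Subtype.ext
      show x * y * x = y⁻¹ * (x * x)
      rw [← hinv]; group
    rw [hs, ha, ← map_mul, ← map_mul, e, map_mul, map_inv, map_mul]
    rw [← hs, hss, mul_one]
  have hsA : s ∉ Subgroup.zpowers a := by
    intro hmem
    obtain ⟨i, hi⟩ := Subgroup.mem_zpowers_iff.mp hmem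
    have hcomm : s * a = a * s := by rw [← hi, ← zpow_add_one, ← zpow_one_add, add_comm]
    have h1 : a⁻¹ = a := by
      rw [← hsas, hcomm, mul_assoc, hss, mul_one]
    have h2 : a ^ 2 = 1 := by
      rw [pow_two]
      nth_rewrite 1 [← h1]
      exact inv_mul_cancel a
    have h3 : p ∣ 2 := by rw [← haord]; exact orderOf_dvd_of_pow_eq_one h2
    exact hp ((Nat.prime_dvd_prime_iff_eq hpp Nat.prime_two).mp h3)
  have hcover : ∀ b : ↥K ⧸ R.subgroupOf K, b ∈ Subgroup.zpowers a ∨ b * s ∈ Subgroup.zpowers a := by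
    intro b
    obtain ⟨g, rfl⟩ := QuotientGroup.mk'_surjective (R.subgroupOf K) b
    obtain ⟨n, hn, c, hc, hgnc⟩ := Cfsg.Agent.Helper1.exists_mul_of_mem_sup hXN g.2
    have hnK : n ∈ K := (le_sup_left : N ≤ K) hn
    have hcK : c ∈ K := (le_sup_right : X ≤ K) hc
    have hg : g = ⟨n, hnK⟩ * ⟨c, hcK⟩ := Subtype.ext hgnc
    obtain ⟨i, hi⟩ := Subgroup.mem_zpowers_iff.mp hn
    obtain ⟨j, hj⟩ := Subgroup.mem_zpowers_iff.mp hc
    have hn' : π ⟨n, hnK⟩ = a ^ i := by
      rw [ha, ← map_zpow]; congr 1; exact Subtype.ext hi.symm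
    have hc' : π ⟨c, hcK⟩ = s ^ j := by
      rw [hs, ← map_zpow]; congr 1; exact Subtype.ext hj.symm
    have hs2 : s ^ (2 : ℤ) = 1 := by
      rw [zpow_two]; exact hss
    rw [show QuotientGroup.mk' (R.subgroupOf K) g = π g from rfl, hg, map_mul, hn', hc']
    rcases Int.even_or_odd' j with ⟨t, ht | ht⟩
    · left
      rw [ht, zpow_mul, hs2, one_zpow, mul_one]
      exact Subgroup.zpow_mem _ (Subgroup.mem_zpowers a) i
    · right
      rw [ht, zpow_add, zpow_mul, hs2, one_zpow, one_mul, zpow_one, mul_assoc, hss, mul_one]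
      exact Subgroup.zpow_mem _ (Subgroup.mem_zpowers a) i
  have hidx : (Subgroup.zpowers a).index = 2 := by
    rw [Subgroup.index_eq_two_iff]
    refine ⟨s, fun b => ?_⟩
    have hnot : ¬ (b * s ∈ Subgroup.zpowers a ∧ b ∈ Subgroup.zpowers a) := by
      rintro ⟨h1, h2⟩
      apply hsA
      have : s = b⁻¹ * (b * s) := by group
      rw [this]
      exact Subgroup.mul_mem _ (Subgroup.inv_mem _ h2) h1
    rcases hcover b with h | h
    · exact Or.inr ⟨h, fun h' => hnot ⟨h', h⟩⟩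
    · exact Or.inl ⟨h, fun h' => hnot ⟨h, h'⟩⟩
  have hcard : Nat.card (↥K ⧸ R.subgroupOf K) = 2 * p := by
    rw [← (Subgroup.zpowers a).index_mul_card, hidx, Nat.card_zpowers, haord]
  exact Cfsg.Agent.Lead.nonempty_mulEquiv_dihedral p a s haord hss hsas hsA hcard

/-- (a) ⇒ (b) -/
theorem a_imp_b {G : Type*} [Group G] [Finite G] {p : ℕ} [Fact p.Prime] (hp : p ≠ 2)
    (h : Cfsg.Involves (DihedralGroup p) G) :
    ∃ (x : G) (P : Subgroup G), (∃ k : ℕ, orderOf x = 2 ^ k) ∧ IsPGroup p ↥P ∧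
      x ∈ Subgroup.normalizer (P : Set G) ∧ x ∉ Subgroup.centralizer (P : Set G) := by
  obtain ⟨K, R, hRn, ⟨e⟩⟩ := h
  have hpp : p.Prime := Fact.out
  haveI : NeZero p := ⟨hpp.ne_zero⟩
  set φ : ↥K →* DihedralGroup p :=
    e.toMonoidHom.comp (QuotientGroup.mk' (R.subgroupOf K)) with hφ
  have hφs : Function.Surjective φ := e.surjective.comp (QuotientGroup.mk'_surjective _)
  set C : Subgroup (DihedralGroup p) := Subgroup.zpowers (DihedralGroup.r 1) with hC
  have hCcard : Nat.card C = p := by rw [hC, Nat.card_zpowers, DihedralGroup.orderOf_r_one]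
  have hCidx : C.index = 2 := by
    have := C.index_mul_card
    rw [hCcard, DihedralGroup.nat_card] at this
    exact Nat.eq_of_mul_eq_mul_right hpp.pos this
  haveI hCn : C.Normal := Subgroup.normal_of_index_eq_two hCidx
  set N : Subgroup ↥K := C.comap φ with hN
  haveI hNn : N.Normal := hCn.comap φ
  have hNidx : N.index = 2 := by rw [hN, Subgroup.index_comap_of_surjective _ hφs]; exact hCidx
  obtain P : Sylow p ↥N := default
  set P' : Subgroup ↥K := (P : Subgroup ↥N).map N.subtype with hP'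
  have hfrat := Sylow.normalizer_sup_eq_top P
  have hex : ∃ g ∈ Subgroup.normalizer (P' : Set ↥K), g ∉ N := by
    by_contra hcon
    push_neg at hcon
    have hle : Subgroup.normalizer (P' : Set ↥K) ≤ N := hcon
    have h1 : N = ⊤ := by rw [← hfrat]; exact (sup_eq_right.mpr hle).symm
    rw [h1, Subgroup.index_top] at hNidx
    omega
  obtain ⟨g, hgN, hgn⟩ := hex
  obtain ⟨k, m, hmodd, hkm⟩ := Nat.exists_eq_two_pow_mul_odd (orderOf_pos g).ne'
  set x₀ := g ^ m with hx₀
  have hm0 : m ≠ 0 := by rintro rfl; simp at hmodd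
  have hx₀ord : orderOf x₀ = 2 ^ k := by
    rw [hx₀, orderOf_pow_of_dvd hm0 ⟨2 ^ k, by rw [hkm, mul_comm]⟩, hkm,
      Nat.mul_div_cancel _ (Nat.pos_of_ne_zero hm0)]
  have hx₀N : x₀ ∈ Subgroup.normalizer (P' : Set ↥K) := Subgroup.pow_mem _ hgN m
  have hx₀n : x₀ ∉ N := by
    obtain ⟨t, ht⟩ := hmodd
    intro hmem
    apply hgn
    have hg2 : g ^ 2 ∈ N := Subgroup.sq_mem_of_index_two hNidx g
    have : g = ((g ^ 2) ^ t)⁻¹ * x₀ := by
      rw [hx₀, ht, pow_add, pow_mul, pow_one]; group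
    rw [this]
    exact N.mul_mem (N.inv_mem (N.pow_mem hg2 t)) hmem
  have hPz : ∃ z ∈ P', φ z ≠ 1 := by
    by_contra hcon
    push_neg at hcon
    set ψ : ↥N →* DihedralGroup p := φ.comp N.subtype with hψ
    have hrange : ψ.range = C := by
      rw [hψ, MonoidHom.range_comp, N.range_subtype, hN,
        Subgroup.map_comap_eq_self_of_surjective hφs]
    have hidx : ψ.ker.index = p := by rw [Subgroup.index_ker, hrange, hCcard]
    have hle : (P : Subgroup ↥N) ≤ ψ.ker := by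
      intro z hz
      rw [MonoidHom.mem_ker]
      exact hcon (N.subtype z) (Subgroup.mem_map_of_mem _ hz)
    have hdvd := Subgroup.index_dvd_of_le hle
    rw [hidx] at hdvd
    exact P.not_dvd_index hdvd
  obtain ⟨z, hzP, hz1⟩ := hPz
  have hzC : φ z ∈ C := by
    obtain ⟨z', -, rfl⟩ := hzP
    exact z'.2
  have hnc : z * x₀ ≠ x₀ * z := by
    intro hc
    have hc' : φ z * φ x₀ = φ x₀ * φ z := by rw [← map_mul, ← map_mul, hc]
    obtain ⟨i, hi⟩ := Subgroup.mem_zpowers_iff.mp hzC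
    rw [DihedralGroup.r_one_zpow] at hi
    have hx₀C : φ x₀ ∉ C := hx₀n
    rcases hφx : φ x₀ with j | j
    · apply hx₀C
      rw [hφx, hC, Subgroup.mem_zpowers_iff]
      refine ⟨(j.val : ℤ), ?_⟩
      rw [DihedralGroup.r_one_zpow]
      congr 1
      simp
    · rw [hφx, ← hi, DihedralGroup.r_mul_sr, DihedralGroup.sr_mul_r] at hc'
      have h2 : j - (i : ZMod p) = j + (i : ZMod p) := by
        injection hc'
      have h3 : (2 : ZMod p) * (i : ZMod p) = 0 := by
        have : (i : ZMod p) + (i : ZMod p) = 0 := by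
          linear_combination (-1 : ZMod p) * h2
        rw [two_mul]; exact this
      have h4 : (2 : ZMod p) ≠ 0 := by
        intro h0
        have : ((2 : ℕ) : ZMod p) = 0 := by exact_mod_cast h0
        rw [ZMod.natCast_eq_zero_iff] at this
        exact hp ((Nat.prime_dvd_prime_iff_eq hpp Nat.prime_two).mp this)
      have h5 : (i : ZMod p) = 0 := (mul_eq_zero.mp h3).resolve_left h4
      apply hz1
      rw [← hi, h5, DihedralGroup.r_zero]
  refine ⟨(x₀ : G), P'.map K.subtype, ⟨k, ?_⟩, ?_, ?_, ?_⟩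
  · rw [Subgroup.orderOf_coe]; exact hx₀ord
  · exact (P.isPGroup'.map _).map _
  · exact Subgroup.le_normalizer_map K.subtype (Subgroup.mem_map_of_mem K.subtype hx₀N)
  · intro hcent
    apply hnc
    have := (Subgroup.mem_centralizer_iff.mp hcent) (z : G) (Subgroup.mem_map_of_mem K.subtype hzP)
    exact Subtype.ext this

/-- For an odd prime p and a finite group G the following are equivalent: the dihedral group of order 2p is involved in G; some element of 2-power order normalizes but does not centralize some p-subgroup of G; some element of 2-power order inverts some nonidentity element of p-power order. -/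
theorem result {G : Type*} [Group G] [Finite G] {p : ℕ} [Fact p.Prime] (hp : p ≠ 2) : (Cfsg.Involves (DihedralGroup p) G ↔ ∃ (x : G) (P : Subgroup G), (∃ k : ℕ, orderOf x = 2 ^ k) ∧ IsPGroup p ↥P ∧ x ∈ Subgroup.normalizer (P : Set G) ∧ x ∉ Subgroup.centralizer (P : Set G)) ∧ (Cfsg.Involves (DihedralGroup p) G ↔ ∃ x y : G, (∃ k : ℕ, orderOf x = 2 ^ k) ∧ (∃ k : ℕ, orderOf y = p ^ k) ∧ y ≠ 1 ∧ x * y * x⁻¹ = y⁻¹) := by
  refine ⟨⟨a_imp_b hp, fun h => c_imp_a hp (b_imp_c h)⟩,
    ⟨fun h => b_imp_c (a_imp_b hp h), c_imp_a hp⟩⟩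

end Cfsg.Agent.S2758
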