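import Mathlib
import Cfsg.Statements.S2759
import Cfsg.Agent.Lib.Helper14.S4Inv
import Cfsg.Agent.Lib.Helper14.S4Rho

set_option autoImplicit false
open Cfsg

namespace Cfsg.Agent.S2759

open Subgroup Cfsg.Agent.Helper14 Cfsg.Agent.Helper14.S4Rho

/-- the forward direction -/
theorem forward {G : Type*} [Group G] [Finite G] (h : Cfsg.Involves (Equiv.Perm (Fin 4)) G) :
    ∃ T : Subgroup G, IsPGroup 2 ↥T ∧ Cfsg.Involves (Equiv.Perm (Fin 3))
      (↥(Subgroup.normalizer (T : Set G)) ⧸
        (Subgroup.centralizer (T : Set G)).subgroupOf (Subgroup.normalizer (T : Set G))) := by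
  haveI : Fact (Nat.Prime 2) := ⟨Nat.prime_two⟩
  obtain ⟨K, f, hf⟩ := S4Sec.exists_surjective_of_involves h
  -- the preimage of the four-group
  obtain ⟨N0, hN0⟩ : ∃ N0 : Subgroup ↥K, N0 = rho.ker.comap f := ⟨_, rfl⟩
  haveI hN0n : N0.Normal := by rw [hN0]; infer_instance
  have hmemN0 : ∀ x : ↥K, x ∈ N0 ↔ rho (f x) = 1 := by
    intro x; rw [hN0, mem_comap, MonoidHom.mem_ker]
  obtain ⟨T0⟩ : Nonempty (Sylow 2 ↥N0) := inferInstance
  obtain ⟨T', hT'⟩ : ∃ T' : Subgroup ↥K, T' = (T0 : Subgroup ↥N0).map N0.subtype := ⟨_, rfl⟩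
  have hfrat : normalizer (T' : Set ↥K) ⊔ N0 = ⊤ := by
    rw [hT']; exact Sylow.normalizer_sup_eq_top T0
  have hT'p : IsPGroup 2 ↥T' := by rw [hT']; exact T0.isPGroup'.map _
  have hT'N0 : T' ≤ N0 := by
    rw [hT']
    rintro _ ⟨x, -, rfl⟩
    exact x.2
  -- the image of `T'` is the four-group
  have himage : ∀ v : Equiv.Perm (Fin 4), rho v = 1 → ∃ t ∈ T', f t = v := by
    subst hN0
    intro v hv
    have hfNs : Function.Surjective (f.subgroupComap rho.ker) :=
      f.subgroupComap_surjective_of_surjective rho.ker hf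
    have hdvd : ((T0 : Subgroup ↥(rho.ker.comap f)).map (f.subgroupComap rho.ker)).index ∣
        (T0 : Subgroup ↥(rho.ker.comap f)).index := Subgroup.index_map_dvd _ hfNs
    have hker2 : IsPGroup 2 ↥rho.ker := by
      intro v
      refine ⟨1, ?_⟩
      apply Subtype.ext
      have := rho_ker_sq v.1 (MonoidHom.mem_ker.mp v.2)
      simpa [pow_two] using this
    obtain ⟨n, hn⟩ := hker2.index
      ((T0 : Subgroup ↥(rho.ker.comap f)).map (f.subgroupComap rho.ker))
    have hodd : ¬ 2 ∣ (T0 : Subgroup ↥(rho.ker.comap f)).index := T0.not_dvd_index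
    have hn0 : n = 0 := by
      by_contra hne
      apply hodd
      refine dvd_trans ?_ hdvd
      rw [hn]
      exact dvd_pow_self 2 hne
    rw [hn0, pow_zero, Subgroup.index_eq_one] at hn
    have hmem : (⟨v, MonoidHom.mem_ker.mpr hv⟩ : ↥rho.ker) ∈
        (T0 : Subgroup ↥(rho.ker.comap f)).map (f.subgroupComap rho.ker) := by
      rw [hn]; exact mem_top _
    obtain ⟨t, ht, hte⟩ := hmem
    refine ⟨(t : ↥K), ?_, ?_⟩
    · rw [hT']
      exact ⟨t, ht, rfl⟩
    · have := congrArg (fun z : ↥rho.ker => (z : Equiv.Perm (Fin 4))) hte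
      exact this
  -- the `2`-subgroup of `G`
  refine ⟨T'.map K.subtype, hT'p.map _, ?_⟩
  have hLle : ∀ x : ↥(normalizer (T' : Set ↥K)),
      (K.subtype.comp (normalizer (T' : Set ↥K)).subtype) x ∈
        normalizer ((T'.map K.subtype : Subgroup G) : Set G) := by
    intro x
    exact Subgroup.le_normalizer_map K.subtype (mem_map_of_mem _ x.2)
  refine involves_quotient_of_hom _
    ((K.subtype.comp (normalizer (T' : Set ↥K)).subtype).codRestrict _ hLle)
    ((rho.comp f).comp (normalizer (T' : Set ↥K)).subtype) ?_ ?_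
  · -- surjectivity, by the Frattini argument
    intro s
    obtain ⟨s4, rfl⟩ := rho_surj s
    obtain ⟨k, rfl⟩ := hf s4
    have hk : k ∈ normalizer (T' : Set ↥K) ⊔ N0 := by rw [hfrat]; exact mem_top _
    obtain ⟨l, hl, n, hn, rfl⟩ := Subgroup.mem_sup_of_normal_right.mp hk
    refine ⟨⟨l, hl⟩, ?_⟩
    simp only [MonoidHom.comp_apply, Subgroup.subtype_apply, map_mul]
    rw [(hmemN0 n).mp hn, mul_one]
  · -- the centralizer of `T` maps into the kernel
    intro l hl
    rw [mem_subgroupOf] at hl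
    have hl' : ((l : ↥K) : G) ∈ centralizer ((T'.map K.subtype : Subgroup G) : Set G) := hl
    simp only [MonoidHom.comp_apply, Subgroup.subtype_apply]
    apply rho_cent
    intro v hv
    obtain ⟨t, ht, rfl⟩ := himage v hv
    rw [← map_mul, ← map_mul]
    congr 1
    apply Subtype.ext
    have := (mem_centralizer_iff.mp hl') ((t : ↥K) : G) (mem_map_of_mem _ ht)
    simpa using this.symm

/-- For a finite group G, the symmetric group of degree 4 is involved in G if and only if there is a 2-subgroup T of G such that the symmetric group of degree 3 is involved in N(T)/C(T). -/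
theorem result {G : Type*} [Group G] [Finite G] : Cfsg.Involves (Equiv.Perm (Fin 4)) G ↔ ∃ T : Subgroup G, IsPGroup 2 ↥T ∧ Cfsg.Involves (Equiv.Perm (Fin 3)) (↥(Subgroup.normalizer (T : Set G)) ⧸ (Subgroup.centralizer (T : Set G)).subgroupOf (Subgroup.normalizer (T : Set G))) := by
  constructor
  · exact forward
  · rintro ⟨T, hT, h⟩
    exact S4Inv.s4_of_s3_normalizer T hT h

end Cfsg.Agent.S2759
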