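import Mathlib
import Cfsg.Statements.S2760
import Cfsg.Agent.Lib.Helper14.CharP

set_option autoImplicit false
open Cfsg

namespace Cfsg.Agent.S2760

open Cfsg.Agent.Helper14

/-- Let G be a finite group with C_G(O₂(G)) ≤ O₂(G) and H a subgroup of G such that H is normal in G, or the subgroup O²(H) generated by the elements of H of odd order is normal in G. Then C_H(O₂(H)) ≤ O₂(H). -/
theorem result {G : Type*} [Group G] [Finite G] (hchar : Subgroup.centralizer (Cfsg.pCore 2 G : Set G) ≤ Cfsg.pCore 2 G) (H : Subgroup G) (hH : H.Normal ∨ ((Cfsg.pResidual 2 ↥H).map H.subtype).Normal) : Subgroup.centralizer (Cfsg.pCore 2 ↥H : Set ↥H) ≤ Cfsg.pCore 2 ↥H := by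
  rw [charP_iff_ambient]
  rcases hH with hH | hR
  · exact charP_ambient_of_normal hchar hH
  · set R := (Cfsg.pResidual 2 ↥H).map H.subtype with hRdef
    have hRA := charP_ambient_of_normal hchar hR
    apply charP_ambient_of_pprime_trivial
    intro x hx hxc
    obtain ⟨hxH, hxQ⟩ := Subgroup.mem_inf.mp hx
    have hxR : x ∈ R := by
      refine ⟨⟨x, hxH⟩, ?_, rfl⟩
      apply Subgroup.subset_closure
      show Nat.Coprime (orderOf (⟨x, hxH⟩ : ↥H)) 2
      rwa [Subgroup.orderOf_mk]
    have hRH : R ≤ H := Subgroup.map_subtype_le _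
    have hQRH : Cfsg.pCoreOf 2 R ≤ Cfsg.pCoreOf 2 H := by
      apply le_pCoreOf ((pCoreOf_le 2 R).trans hRH)
      · apply le_normalizer_of_map_conj_le
        intro g _
        rw [← pCoreOf_map_equiv]
        have : R.map (MulAut.conj g).toMonoidHom = R :=
          map_conj_eq_self_of_le_normalizer (H := ⊤)
            (by rw [Subgroup.normalizer_eq_top_iff.mpr hR]) (Subgroup.mem_top g)
        rw [this]
      · exact pCoreOf_isPGroup 2 R
    have hxm : x ∈ Cfsg.pCoreOf 2 R :=
      hRA (Subgroup.mem_inf.mpr ⟨hxR, Subgroup.centralizer_le hQRH hxQ⟩)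
    exact eq_one_of_mem_pGroup_of_coprime (pCoreOf_isPGroup 2 R) hxm hxc

end Cfsg.Agent.S2760
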