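import Mathlib
import Cfsg.Statements.S2762
import Cfsg.Agent.Lib.Helper14.QdAff2

set_option autoImplicit false
open Cfsg

namespace Cfsg.Agent.S2762

open Cfsg.Agent.S2761 Cfsg.Agent.Helper14.Qd

theorem qdOver_eq (F : Type*) [Field F] : Cfsg.qdOver F = affSubgroup F :=
  Subgroup.closure_eq (affSubgroup F)

/-- Let F be a finite field of characteristic p and Qd(F) = F² ⋊ SL₂(F), realised as the matrices in SL₃(F) with last row (0, 0, 1). Then O_p(Qd(F)) is the translation subgroup (upper-left 2 × 2 block the identity); the block matrices (vanishing translation part) form a complement K to it, K ≅ SL₂(F), and K acts on O_p(Qd(F)) as SL₂(F) on its natural module. -/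
theorem result {F : Type*} [Field F] [Fintype F] {p : ℕ} [Fact p.Prime] [CharP F p] : (∀ M : ↥(Cfsg.qdOver F), M ∈ Cfsg.pCore p ↥(Cfsg.qdOver F) ↔ ((M : Matrix.SpecialLinearGroup (Fin 3) F) : Matrix (Fin 3) (Fin 3) F) 0 0 = 1 ∧ ((M : Matrix.SpecialLinearGroup (Fin 3) F) : Matrix (Fin 3) (Fin 3) F) 0 1 = 0 ∧ ((M : Matrix.SpecialLinearGroup (Fin 3) F) : Matrix (Fin 3) (Fin 3) F) 1 0 = 0 ∧ ((M : Matrix.SpecialLinearGroup (Fin 3) F) : Matrix (Fin 3) (Fin 3) F) 1 1 = 1) ∧ ∃ K : Subgroup ↥(Cfsg.qdOver F), (∀ M : ↥(Cfsg.qdOver F), M ∈ K ↔ ((M : Matrix.SpecialLinearGroup (Fin 3) F) : Matrix (Fin 3) (Fin 3) F) 0 2 = 0 ∧ ((M : Matrix.SpecialLinearGroup (Fin 3) F) : Matrix (Fin 3) (Fin 3) F) 1 2 = 0) ∧ K ⊓ Cfsg.pCore p ↥(Cfsg.qdOver F) = ⊥ ∧ K ⊔ Cfsg.pCore p ↥(Cfsg.qdOver F) = ⊤ ∧ Nonempty (↥K ≃* Matrix.SpecialLinearGroup (Fin 2) F) ∧ Cfsg.IsNaturalSL2Module F (Cfsg.pCore p ↥(Cfsg.qdOver F)) K := by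
  rw [qdOver_eq, pCore_eq_transSubgroup]
  refine ⟨fun M => mem_transSubgroup_iff M, linSubgroup F, fun M => mem_linSubgroup_iff M,
    linSubgroup_inf_transSubgroup, linSubgroup_sup_transSubgroup, ?_, isNaturalSL2Module⟩
  exact ⟨(MonoidHom.ofInjective linHom_injective).symm⟩

end Cfsg.Agent.S2762
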