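import Mathlib
import Cfsg.Statements.S2763
import Cfsg.Agent.Lib.Helper14.QdSylow

set_option autoImplicit false
open Cfsg

namespace Cfsg.Agent.S2763

open scoped Matrix
open Cfsg.Agent.S2761 Cfsg.Agent.Helper14.Qd Cfsg.Agent.Helper14.SL2Vec

/-- conjugation by an element of `N_G(K)` preserves the image of a characteristic subgroup of `K` -/
theorem conj_mem_map_of_char {G : Type*} [Group G] (K : Subgroup G) (H : Subgroup ↥K)
    (hH : H.Characteristic)
    {n : G} (hn : n ∈ Subgroup.normalizer (K : Set G)) {x : G} (hx : x ∈ H.map K.subtype) :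
    n * x * n⁻¹ ∈ H.map K.subtype := by
  obtain ⟨y, hy, rfl⟩ := hx
  set φ : MulAut ↥K := K.normalizerMonoidHom ⟨n, hn⟩ with hφ
  have h1 : H.map φ.toMonoidHom = H := Subgroup.characteristic_iff_map_eq.mp hH φ
  have h2 : φ y ∈ H := by
    rw [← h1]; exact Subgroup.mem_map_of_mem _ hy
  exact ⟨φ y, h2, rfl⟩

theorem normalizer_le_normalizer_map_of_char {G : Type*} [Group G] (K : Subgroup G)
    (H : Subgroup ↥K) (hH : H.Characteristic) :
    Subgroup.normalizer (K : Set G) ≤ Subgroup.normalizer ((H.map K.subtype : Subgroup G) : Set G) := by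
  intro n hn
  rw [Subgroup.mem_normalizer_iff]
  intro b
  constructor
  · exact conj_mem_map_of_char K H hH hn
  · intro hb
    have := conj_mem_map_of_char K H hH (Subgroup.inv_mem _ hn) hb
    have e : n⁻¹ * (n * b * n⁻¹) * n⁻¹⁻¹ = b := by group
    rwa [e] at this

section

variable {p : ℕ} [Fact p.Prime]

/-- subgroups of translations over the prime field are closed under scalars -/
theorem trans_smul_mem {W : Subgroup ↥(affSubgroup (ZMod p))} {w : Fin 2 → ZMod p}
    (h : trans w ∈ W) (c : ZMod p) : trans (c • w) ∈ W := by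
  haveI : NeZero p := ⟨(Fact.out : p.Prime).ne_zero⟩
  have h1 : c • w = c.val • w := by
    rw [← Nat.cast_smul_eq_nsmul (ZMod p), ZMod.natCast_zmod_val]
  rw [h1, ← trans_pow]
  exact W.pow_mem h _

/-- the main argument, for a vector stabilizer -/
theorem aux (P : Subgroup ↥(affSubgroup (ZMod p))) (v₀ : Fin 2 → ZMod p) (hv₀ : v₀ ≠ 0)
    (hP : P = stab v₀) (T : Subgroup ↥P) (hT : T ≠ ⊥) (hTc : T.Characteristic) :
    Subgroup.normalizer ((T.map P.subtype : Subgroup ↥(affSubgroup (ZMod p))) : Set ↥(affSubgroup (ZMod p)))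
      = Subgroup.normalizer (P : Set ↥(affSubgroup (ZMod p))) ∧
    Subgroup.normalizer (P : Set ↥(affSubgroup (ZMod p))) ≠ ⊤ := by
  subst hP
  haveI : NeZero p := ⟨(Fact.out : p.Prime).ne_zero⟩
  obtain ⟨w₀, hd⟩ := exists_dt_eq_one hv₀
  set A := ↥(affSubgroup (ZMod p)) with hA
  set V := transSubgroup (ZMod p) with hV
  haveI hVn : V.Normal := transSubgroup_normal
  have hVP : V ≤ stab v₀ := transSubgroup_le_stab v₀
  -- the element `s`
  set s := hmk v₀ w₀ 1 0 0 with hs
  have hsP : s ∈ stab v₀ := hmk_mem_stab _ _ _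
  have hsV : s ∉ V := fun h => one_ne_zero ((hmk_mem_transSubgroup_iff hd 1 0 0).mp h)
  have hsproj : proj (ZMod p) s = transv v₀ 1 := proj_aff _ _
  constructor
  swap
  · -- `N(P) ≠ ⊤`
    intro htop
    have hPn : (stab v₀).Normal := Subgroup.normalizer_eq_top_iff.mp htop
    have hle : stab v₀ ≤ V := by
      rw [hV, ← pCore_eq_transSubgroup (p := p)]
      exact Cfsg.Agent.Helper14.le_pCore hPn (isPGroup_stab hv₀)
    exact hsV (hle hsP)
  set T' := T.map (stab v₀).subtype with hT'
  have hT'P : T' ≤ stab v₀ := by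
    rintro _ ⟨y, -, rfl⟩
    exact y.2
  have hNN := normalizer_le_normalizer_map_of_char (stab v₀) T hTc
  apply le_antisymm _ hNN
  have hPT' : stab v₀ ≤ Subgroup.normalizer (T' : Set A) := Subgroup.le_normalizer.trans hNN
  have hconjT' : ∀ x ∈ stab v₀, ∀ t ∈ T', x * t * x⁻¹ ∈ T' :=
    fun x hx t ht => (Subgroup.mem_normalizer_iff.mp (hPT' hx) t).mp ht
  set W := T' ⊓ V with hW
  -- step 1: `W ≠ ⊥`
  have hW1 : W ≠ ⊥ := by
    intro hW0
    have hcent : T' ≤ Subgroup.centralizer (V : Set A) := by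
      intro t ht
      rw [Subgroup.mem_centralizer_iff]
      intro v hv
      have h1 : t * v * t⁻¹ * v⁻¹ ∈ W := by
        rw [hW, Subgroup.mem_inf]
        constructor
        · have h2 : v * t⁻¹ * v⁻¹ ∈ T' := hconjT' v (hVP hv) _ (T'.inv_mem ht)
          have h3 := T'.mul_mem ht h2
          have e : t * (v * t⁻¹ * v⁻¹) = t * v * t⁻¹ * v⁻¹ := by group
          rwa [e] at h3
        · exact V.mul_mem (hVn.conj_mem v hv t) (V.inv_mem hv)
      rw [hW0, Subgroup.mem_bot] at h1
      calc v * t = (t * v * t⁻¹ * v⁻¹)⁻¹ * (t * v) := by group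
        _ = t * v := by rw [h1, inv_one, one_mul]
    have hTV : T' ≤ V := hcent.trans centralizer_transSubgroup_le
    have hT'bot : T' = ⊥ := by
      rw [eq_bot_iff, ← hW0, hW]
      exact le_inf le_rfl hTV
    apply hT
    rw [eq_bot_iff]
    intro y hy
    have : ((stab v₀).subtype y) ∈ T' := Subgroup.mem_map_of_mem _ hy
    rw [hT'bot, Subgroup.mem_bot] at this
    rw [Subgroup.mem_bot]
    exact Subtype.ext this
  -- `W` is normalized by `s`
  have hsW : ∀ x ∈ W, s * x * s⁻¹ ∈ W := by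
    intro x hx
    rw [hW, Subgroup.mem_inf] at hx ⊢
    exact ⟨hconjT' s hsP x hx.1, hVn.conj_mem x hx.2 s⟩
  -- step 3: `trans v₀ ∈ W`
  have hv₀W : trans v₀ ∈ W := by
    obtain ⟨⟨x, hxW⟩, hx1⟩ := (Subgroup.ne_bot_iff_exists_ne_one).mp hW1
    have hx1' : x ≠ 1 := fun h => hx1 (Subtype.ext h)
    have hxV : x ∈ V := by rw [hW, Subgroup.mem_inf] at hxW; exact hxW.2
    obtain ⟨w, rfl⟩ := (mem_transSubgroup_iff_exists x).mp hxV
    by_cases hdw : dt v₀ w = 0
    · obtain ⟨c, hc⟩ := eq_smul_of_dt_eq_zero hv₀ hdw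
      have hc0 : c ≠ 0 := by
        rintro rfl
        apply hx1'
        rw [hc, zero_smul, trans_zero]
      have := trans_smul_mem hxW c⁻¹
      rwa [hc, smul_smul, inv_mul_cancel₀ hc0, one_smul] at this
    · have h1 : s * trans w * s⁻¹ * (trans w)⁻¹ ∈ W := W.mul_mem (hsW _ hxW) (W.inv_mem hxW)
      rw [conj_trans_gen, hsproj, transv_mulVec, one_mul, trans_inv, trans_mul] at h1
      have h2 : w + dt v₀ w • v₀ + -w = dt v₀ w • v₀ := by abel
      rw [h2] at h1
      have := trans_smul_mem h1 (dt v₀ w)⁻¹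
      rwa [smul_smul, inv_mul_cancel₀ hdw, one_smul] at this
  intro g hg
  have hgW : ∀ x ∈ W, g * x * g⁻¹ ∈ W := by
    intro x hx
    rw [hW, Subgroup.mem_inf] at hx ⊢
    exact ⟨(Subgroup.mem_normalizer_iff.mp hg x).mp hx.1, hVn.conj_mem x hx.2 g⟩
  by_cases hcase : ∃ w : Fin 2 → ZMod p, Cfsg.Agent.Helper14.Qd.trans w ∈ W ∧ dt v₀ w ≠ 0
  · -- `V ≤ T'`
    obtain ⟨w, hwW, hdw⟩ := hcase
    have hVW : V ≤ W := by
      intro x hx
      obtain ⟨u, rfl⟩ := (mem_transSubgroup_iff_exists x).mp hx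
      have hcr := cramer v₀ w u
      have hu : u = (dt u w / dt v₀ w) • v₀ + (dt v₀ u / dt v₀ w) • w := by
        have : dt v₀ w • u = dt v₀ w • ((dt u w / dt v₀ w) • v₀ + (dt v₀ u / dt v₀ w) • w) := by
          rw [smul_add, smul_smul, smul_smul, mul_div_cancel₀ _ hdw, mul_div_cancel₀ _ hdw, hcr]
        exact smul_right_injective _ hdw this
      rw [hu, ← trans_mul]
      exact W.mul_mem (trans_smul_mem hv₀W _) (trans_smul_mem hwW _)
    have hVT' : V ≤ T' := hVW.trans inf_le_left
    by_cases hT'V : T' ≤ V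
    · -- `T' = V` contradicts characteristicity
      exfalso
      have hTeq : T = V.subgroupOf (stab v₀) := by
        ext y
        rw [Subgroup.mem_subgroupOf]
        constructor
        · intro hy
          exact hT'V (Subgroup.mem_map_of_mem _ hy)
        · intro hy
          obtain ⟨z, hz, hzy⟩ := hVT' hy
          have : z = y := Subtype.ext hzy
          rwa [this] at hz
      rw [hTeq] at hTc
      exact not_characteristic_transSubgroup hv₀ hTc
    · -- `T' = P`
      obtain ⟨t, htT', htV⟩ := SetLike.not_le_iff_exists.mp hT'V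
      have htP : t ∈ stab v₀ := hT'P htT'
      have ht := eq_hmk_coords hd htP
      set ct := cC w₀ t with hct
      have hct0 : ct ≠ 0 := by
        intro h0
        apply htV
        rw [ht, hmk_mem_transSubgroup_iff hd]
        exact h0
      have hPT : stab v₀ ≤ T' := by
        intro x hx
        have hxe := eq_hmk_coords hd hx
        set cx := cC w₀ x with hcx
        set n := (cx / ct).val with hn
        have hncast : (n : ZMod p) = cx / ct := ZMod.natCast_zmod_val _
        have hprojt : proj (ZMod p) t = transv v₀ ct := by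
          conv_lhs => rw [ht]
          exact proj_aff _ _
        have hprojx : proj (ZMod p) x = transv v₀ cx := by
          conv_lhs => rw [hxe]
          exact proj_aff _ _
        have hd' : dt v₀ w₀ ≠ 0 := by rw [hd]; exact one_ne_zero
        have hpow : proj (ZMod p) (t ^ n) = proj (ZMod p) x := by
          rw [map_pow, hprojt, hprojx]
          apply eq_of_mulVec_eq hd'
          · have h0 : (transv v₀ ct : Matrix (Fin 2) (Fin 2) (ZMod p)) *ᵥ v₀ - v₀ = (0 : ZMod p) • v₀ := by
              rw [transv_mulVec_self, sub_self, zero_smul]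
            rw [pow_mulVec_of_fix (transv_mulVec_self v₀ ct) h0, mul_zero, zero_smul, add_zero,
              transv_mulVec_self]
          · have hc : (transv v₀ ct : Matrix (Fin 2) (Fin 2) (ZMod p)) *ᵥ w₀ - w₀ = ct • v₀ := by
              rw [transv_mulVec, hd, mul_one]; abel
            rw [pow_mulVec_of_fix (transv_mulVec_self v₀ ct) hc, transv_mulVec, hd, mul_one, hncast,
              div_mul_cancel₀ _ hct0]
        have hxt : x * (t ^ n)⁻¹ ∈ V := by
          rw [hV]
          unfold transSubgroup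
          rw [MonoidHom.mem_ker, map_mul, map_inv, hpow, mul_inv_cancel]
        have := T'.mul_mem (hVT' hxt) (T'.pow_mem htT' n)
        rwa [inv_mul_cancel_right] at this
      have hT'eq : T' = stab v₀ := le_antisymm hT'P hPT
      rw [← hT'eq]
      exact hg
  · -- `W` lies on the line of `v₀`
    push Not at hcase
    have h1 := hgW _ hv₀W
    rw [conj_trans_gen] at h1
    have h2 := hcase _ h1
    obtain ⟨c, hc⟩ := eq_smul_of_dt_eq_zero hv₀ h2
    exact mem_normalizer_stab_of_scale hv₀ hc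

/-- the statement for any subgroup equal to the affine group -/
theorem aux2 (Q : Subgroup (Matrix.SpecialLinearGroup (Fin 3) (ZMod p)))
    (hQ : Q = affSubgroup (ZMod p)) (S : Sylow p ↥Q)
    (T : Subgroup ↥(S : Subgroup ↥Q)) (hT : T ≠ ⊥) (hTc : T.Characteristic) :
    Subgroup.normalizer ((T.map (S : Subgroup ↥Q).subtype : Subgroup ↥Q) : Set ↥Q) =
      Subgroup.normalizer ((S : Subgroup ↥Q) : Set ↥Q) ∧
    Subgroup.normalizer ((S : Subgroup ↥Q) : Set ↥Q) ≠ ⊤ := by
  subst hQ
  haveI : NeZero p := ⟨(Fact.out : p.Prime).ne_zero⟩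
  obtain ⟨v₀, hv₀, hS⟩ := sylow_eq_stab S
  exact aux (S : Subgroup ↥(affSubgroup (ZMod p))) v₀ hv₀ hS T hT hTc

end

/-- In the group Qd(p) (elementary abelian of order p² extended by SL₂(p) acting naturally), let S be a Sylow p-subgroup and T a nonidentity characteristic subgroup of S. Then N(T) = N(S), and N(S) is a proper subgroup of Qd(p). -/
theorem result {p : ℕ} [Fact p.Prime] (S : Sylow p ↥(Cfsg.qd p)) (T : Subgroup ↥(S : Subgroup ↥(Cfsg.qd p))) (hT : T ≠ ⊥) (hTc : T.Characteristic) : Subgroup.normalizer ((T.map (S : Subgroup ↥(Cfsg.qd p)).subtype : Subgroup ↥(Cfsg.qd p)) : Set ↥(Cfsg.qd p)) = Subgroup.normalizer ((S : Subgroup ↥(Cfsg.qd p)) : Set ↥(Cfsg.qd p)) ∧ Subgroup.normalizer ((S : Subgroup ↥(Cfsg.qd p)) : Set ↥(Cfsg.qd p)) ≠ ⊤ :=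
  aux2 (Cfsg.qd p) (qd_eq p) S T hT hTc

end Cfsg.Agent.S2763
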