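import Mathlib
import Cfsg.Statements.S2781
import Cfsg.Agent.Lib.Helper14.PReducedSub
import Cfsg.Agent.Lib.Helper14.SylowNormal

set_option autoImplicit false
open Cfsg

namespace Cfsg.Agent.S2781

open Cfsg.Agent.Helper14
open scoped commutatorElement IsMulCommutative

/-- Conjugation by an element of the normalizer of `V`, as an endomorphism of `V`. -/
def conjHom {G : Type*} [Group G] (V : Subgroup G) (n : G) (hn : n ∈ Subgroup.normalizer (V : Set G)) :
    ↥V →* ↥V where
  toFun v := ⟨n * v * n⁻¹, (Subgroup.mem_normalizer_iff.mp hn v).mp v.2⟩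
  map_one' := by apply Subtype.ext; simp
  map_mul' := by intro a b; apply Subtype.ext; simp [mul_assoc]

/-- The averaging lemma: for an abelian subgroup `V` of exponent `p` normalized by the finite subgroup `R`, with `T`
an ambient Sylow `p`-subgroup of `R`, every element of `C_V(T)` lies in `[V, R] C_V(R)`. -/
theorem averaging {G : Type*} [Group G] {p : ℕ} [hp : Fact p.Prime] (V R : Subgroup G) [Finite R]
    (hV : Cfsg.IsElementaryAbelian p V) (hRV : R ≤ Subgroup.normalizer (V : Set G))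
    (S : Sylow p ↥R) (v : G) (hvV : v ∈ V)
    (hvT : v ∈ Subgroup.centralizer (((S : Subgroup ↥R).map R.subtype : Subgroup G) : Set G)) :
    v ∈ ⁅V, R⁆ ⊔ (V ⊓ Subgroup.centralizer (R : Set G)) := by
  haveI : IsMulCommutative ↥V := hV.1
  classical
  haveI : Fintype (↥R ⧸ (S : Subgroup ↥R)) := Fintype.ofFinite _
  -- the conjugates of v
  let f : ↥R → ↥V := fun r => ⟨(r : G) * v * (r : G)⁻¹,
    (Subgroup.mem_normalizer_iff.mp (hRV r.2) v).mp hvV⟩
  have hf : ∀ a b : ↥R, (QuotientGroup.leftRel (S : Subgroup ↥R)) a b → f a = f b := by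
    intro a b hab
    rw [QuotientGroup.leftRel_apply] at hab
    have hs : ((a⁻¹ * b : ↥R) : G) ∈ ((S : Subgroup ↥R).map R.subtype : Subgroup G) := ⟨_, hab, rfl⟩
    have hc := (Subgroup.mem_centralizer_iff.mp hvT) _ hs
    apply Subtype.ext
    show (a : G) * v * (a : G)⁻¹ = (b : G) * v * (b : G)⁻¹
    have hb : (b : G) = (a : G) * ((a⁻¹ * b : ↥R) : G) := by
      simp
    rw [hb]
    set s := ((a⁻¹ * b : ↥R) : G) with hsdef
    have : s * v * s⁻¹ = v := by rw [hc]; group
    calc (a : G) * v * (a : G)⁻¹ = (a : G) * (s * v * s⁻¹) * (a : G)⁻¹ := by rw [this]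
      _ = (a : G) * s * v * ((a : G) * s)⁻¹ := by group
  let fbar : ↥R ⧸ (S : Subgroup ↥R) → ↥V := fun q => Quotient.liftOn' q f hf
  let w : ↥V := ∏ q : ↥R ⧸ (S : Subgroup ↥R), fbar q
  set m := Fintype.card (↥R ⧸ (S : Subgroup ↥R)) with hm
  -- w is centralized by R
  have hwR : (w : G) ∈ Subgroup.centralizer (R : Set G) := by
    rw [Subgroup.mem_centralizer_iff]
    intro r hr
    have h1 : conjHom V r (hRV hr) w = w := by
      show conjHom V r (hRV hr) (∏ q : ↥R ⧸ (S : Subgroup ↥R), fbar q) = _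
      rw [map_prod]
      have h2 : ∀ q : ↥R ⧸ (S : Subgroup ↥R),
          conjHom V r (hRV hr) (fbar q) = fbar ((⟨r, hr⟩ : ↥R) • q) := by
        intro q
        induction q using Quotient.inductionOn' with
        | h a =>
          apply Subtype.ext
          show r * ((a : G) * v * (a : G)⁻¹) * r⁻¹ = ((⟨r, hr⟩ * a : ↥R) : G) * v * ((⟨r, hr⟩ * a : ↥R) : G)⁻¹
          simp only [Subgroup.coe_mul]
          group
      simp_rw [h2]
      exact Equiv.prod_comp (MulAction.toPerm (⟨r, hr⟩ : ↥R)) fbar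
    have h3 := congrArg Subtype.val h1
    have h4 : r * (w : G) * r⁻¹ = (w : G) := h3
    calc r * (w : G) = (r * (w : G) * r⁻¹) * r := by group
      _ = (w : G) * r := by rw [h4]
  -- w * (v^m)⁻¹ ∈ [V, R]
  have hcomm : ∀ q : ↥R ⧸ (S : Subgroup ↥R), ((fbar q * (⟨v, hvV⟩ : ↥V)⁻¹ : ↥V) : G) ∈ ⁅V, R⁆ := by
    intro q
    induction q using Quotient.inductionOn' with
    | h a =>
      show (a : G) * v * (a : G)⁻¹ * v⁻¹ ∈ ⁅V, R⁆
      rw [Subgroup.commutator_comm]
      have := Subgroup.commutator_mem_commutator a.2 hvV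
      rwa [commutatorElement_def] at this
  have hprod : ((w * ((⟨v, hvV⟩ : ↥V) ^ m)⁻¹ : ↥V) : G) ∈ ⁅V, R⁆ := by
    have e : w * ((⟨v, hvV⟩ : ↥V) ^ m)⁻¹ = ∏ q : ↥R ⧸ (S : Subgroup ↥R), (fbar q * (⟨v, hvV⟩ : ↥V)⁻¹) := by
      rw [Finset.prod_mul_distrib, Finset.prod_const, Finset.card_univ, inv_pow]
    rw [e]
    have hmem : (∏ q : ↥R ⧸ (S : Subgroup ↥R), (fbar q * (⟨v, hvV⟩ : ↥V)⁻¹)) ∈ (⁅V, R⁆).subgroupOf V := by
      apply Subgroup.prod_mem
      intro q _
      exact Subgroup.mem_subgroupOf.mpr (hcomm q)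
    exact Subgroup.mem_subgroupOf.mp hmem
  -- v^m ∈ W
  set W := ⁅V, R⁆ ⊔ (V ⊓ Subgroup.centralizer (R : Set G)) with hW
  have hvm : v ^ m ∈ W := by
    have h1 : (w : G) ∈ W := Subgroup.mem_sup_right (Subgroup.mem_inf.mpr ⟨w.2, hwR⟩)
    have h2 : (w : G) * (v ^ m)⁻¹ ∈ W := Subgroup.mem_sup_left (by simpa using hprod)
    have e : v ^ m = ((w : G) * (v ^ m)⁻¹)⁻¹ * (w : G) := by group
    rw [e]
    exact W.mul_mem (W.inv_mem h2) h1
  have hvp : v ^ p = 1 := hV.2 v hvV
  -- m is prime to p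
  have hmcop : Nat.Coprime m p := by
    have h1 : m = (S : Subgroup ↥R).index := by
      rw [hm, Subgroup.index, Nat.card_eq_fintype_card]
    rw [h1, Nat.coprime_comm, Nat.Prime.coprime_iff_not_dvd hp.out]
    exact S.not_dvd_index
  -- Bezout
  have hb := Nat.gcd_eq_gcd_ab m p
  rw [hmcop] at hb
  have e : v = (v ^ m) ^ (Nat.gcdA m p) * (v ^ p) ^ (Nat.gcdB m p) := by
    rw [← zpow_natCast v m, ← zpow_natCast v p, ← zpow_mul, ← zpow_mul, ← zpow_add, ← hb]
    simp
  rw [e, hvp, one_zpow, mul_one]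
  exact W.zpow_mem hvm _

/-- Let H act faithfully by conjugation on the elementary abelian p-subgroup V of a finite group, let O^p(H) be the subgroup of H generated by its elements of order prime to p, and T a Sylow p-subgroup of O^p(H). If V is generated by the H-conjugates of C_V(T) (V is the smallest H-invariant subgroup containing C_V(T)), then V = [V, O^p(H)]·C_V(O^p(H)). -/
theorem result {G : Type*} [Group G] [Finite G] {p : ℕ} [Fact p.Prime] (V H : Subgroup G) (hV : Cfsg.IsElementaryAbelian p V) (hHV : H ≤ Subgroup.normalizer (V : Set G)) (hf : H ⊓ Subgroup.centralizer (V : Set G) = ⊥) (R : Subgroup G) (hR : R = (Cfsg.pResidual p ↥H).map H.subtype) (S : Sylow p ↥R) (T : Subgroup G) (hT : T = ((S : Subgroup ↥R).map R.subtype)) (hgen : ∀ W : Subgroup G, H ≤ Subgroup.normalizer (W : Set G) → (V ⊓ Subgroup.centralizer ((T : Subgroup G) : Set G)) ≤ W → V ≤ W) : ⁅V, R⁆ ⊔ (V ⊓ Subgroup.centralizer ((R : Subgroup G) : Set G)) = V := by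
  have hRH : R ≤ H := hR ▸ Subgroup.map_subtype_le _
  have hHR : H ≤ Subgroup.normalizer (R : Set G) :=
    hR ▸ le_normalizer_map_subtype_of_normal Cfsg.Agent.Helper22.pResidual_normal
  have hRV : R ≤ Subgroup.normalizer (V : Set G) := hRH.trans hHV
  apply le_antisymm
  · exact sup_le (commutator_le_of_le_normalizer hRV) inf_le_left
  · apply hgen
    · apply le_normalizer_sup
      · apply le_normalizer_of_map_conj_le
        intro g hg
        rw [Subgroup.map_commutator, map_conj_eq_self_of_le_normalizer hHV hg,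
          map_conj_eq_self_of_le_normalizer hHR hg]
      · exact le_normalizer_inf hHV (le_normalizer_centralizer_of_le_normalizer hHR)
    · intro v hv
      obtain ⟨hvV, hvT⟩ := Subgroup.mem_inf.mp hv
      rw [hT] at hvT
      exact averaging V R hV hRV S v hvV hvT

end Cfsg.Agent.S2781
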