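import Mathlib
import Cfsg.Statements.S2787
import Cfsg.Agent.S0590
import Cfsg.Agent.Lib.Helper2.NoQuadC

set_option autoImplicit false
open Cfsg

namespace Cfsg.Agent.S2787

open scoped commutatorElement
open Cfsg.Agent.Helper2.NoQuad

/-- Let p be a prime and let H act by conjugation on the elementary abelian p-subgroup V of a finite group, irreducibly (no H-invariant subgroups of V other than 1 and V) and nontrivially, and suppose H/C_H(V) is isomorphic to PSL₂(F) for a field F with p^n elements, p^n odd, or p = 3 and H/C_H(V) is isomorphic to a Ree group ²G₂(3^(2m+1)), m ≥ 1. Then no subgroup A of H acting nontrivially on V acts quadratically: [V, A, A] = 1 forces [V, A] = 1. -/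
theorem result {G : Type*} [Group G] [Finite G] {p : ℕ} [Fact p.Prime] (V H : Subgroup G) (hV : Cfsg.IsElementaryAbelian p V) (hHV : H ≤ Subgroup.normalizer (V : Set G)) (hirr : ∀ U : Subgroup G, U ≤ V → H ≤ Subgroup.normalizer (U : Set G) → U = ⊥ ∨ U = V) (hnt : ¬ H ≤ Subgroup.centralizer (V : Set G)) [hn : ((Subgroup.centralizer (V : Set G)).subgroupOf H).Normal] (hq : (∃ (F : Type) (_ : Field F) (_ : Fintype F) (n : ℕ), Fintype.card F = p ^ n ∧ Odd (Fintype.card F) ∧ Nonempty (↥H ⧸ (Subgroup.centralizer (V : Set G)).subgroupOf H ≃* Matrix.ProjectiveSpecialLinearGroup (Fin 2) F)) ∨ (p = 3 ∧ Cfsg.Lie.IsoRee (↥H ⧸ (Subgroup.centralizer (V : Set G)).subgroupOf H))) (A : Subgroup G) (hA : A ≤ H) (hquad : ⁅⁅V, A⁆, A⁆ = ⊥) : ⁅V, A⁆ = ⊥ := by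
  classical
  by_contra hne
  have hpow := (Cfsg.Agent.S0590.result V A hV (hA.trans hHV) hquad).2
  obtain ⟨hVc, hVp⟩ := hV
  let _ : CommGroup ↥V :=
    { (inferInstance : Group ↥V) with mul_comm := fun a b => mul_comm' a b }
  set C := (Subgroup.centralizer (V : Set G)).subgroupOf H with hC
  set act₀ := Cfsg.Agent.S0656.conjAct V H hHV with hact₀
  have hker : ∀ h : ↥H, h ∈ C ↔ act₀ h = 1 := by
    intro h
    rw [hC, Subgroup.mem_subgroupOf, Subgroup.mem_centralizer_iff]
    constructor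
    · intro hh
      ext v
      rw [Cfsg.Agent.S0656.conjAct_apply, MulAut.one_apply, ← hh v v.2]
      group
    · intro hh v hv
      have h1 : act₀ h ⟨v, hv⟩ = ⟨v, hv⟩ := by rw [hh]; rfl
      have h2 := congrArg Subtype.val h1
      rw [Cfsg.Agent.S0656.conjAct_apply] at h2
      simp only at h2
      calc v * (h : G) = ((h : G) * v * (h : G)⁻¹) * h := by rw [h2]
        _ = h * v := by group
  let act : (↥H ⧸ C) →* MulAut ↥V := QuotientGroup.lift C act₀ (fun h hh => (hker h).1 hh)
  have hact : Function.Injective act := by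
    rw [injective_iff_map_eq_one]
    intro x hx
    obtain ⟨h, rfl⟩ := QuotientGroup.mk_surjective x
    rw [QuotientGroup.eq_one_iff]
    exact (hker h).2 hx
  have hW : ∀ w : ↥V, w ^ p = 1 := by
    intro w
    apply Subtype.ext
    rw [Subgroup.coe_pow]
    exact hVp w w.2
  -- some `a ∈ A` acts nontrivially
  obtain ⟨a, haA, haC⟩ : ∃ a ∈ A, a ∉ Subgroup.centralizer (V : Set G) := by
    by_contra hcon
    push Not at hcon
    apply hne
    rw [Subgroup.commutator_comm, Subgroup.commutator_eq_bot_iff_le_centralizer]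
    exact hcon
  -- every element of `A` acts quadratically
  have hquadA : ∀ (b : G) (hb : b ∈ A) (w : ↥V),
      act₀ ⟨b, hA hb⟩ (act₀ ⟨b, hA hb⟩ w / w) = act₀ ⟨b, hA hb⟩ w / w := by
    intro b hb w
    set c : ↥V := act₀ ⟨b, hA hb⟩ w / w with hc
    have hcG : (c : G) = b * w * b⁻¹ * (w : G)⁻¹ := by
      rw [hc, div_eq_mul_inv, Subgroup.coe_mul, Subgroup.coe_inv, Cfsg.Agent.S0656.conjAct_apply]
    have hcmem : (c : G) ∈ ⁅V, A⁆ := by
      have h1 : ⁅(w : G), b⁆ ∈ ⁅V, A⁆ := Subgroup.commutator_mem_commutator w.2 hb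
      have h2 : (c : G) = ⁅(w : G), b⁆⁻¹ := by
        rw [hcG, commutatorElement_def]; group
      rw [h2]
      exact Subgroup.inv_mem _ h1
    have h1 : ⁅(c : G), b⁆ ∈ ⁅⁅V, A⁆, A⁆ := Subgroup.commutator_mem_commutator hcmem hb
    rw [hquad, Subgroup.mem_bot, commutatorElement_def] at h1
    apply Subtype.ext
    rw [Cfsg.Agent.S0656.conjAct_apply]
    show b * (c : G) * b⁻¹ = c
    calc b * (c : G) * b⁻¹ = ((c : G) * b * (c : G)⁻¹ * b⁻¹)⁻¹ * (c : G) := by group
      _ = c := by rw [h1, inv_one, one_mul]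
  set x : ↥H ⧸ C := QuotientGroup.mk ⟨a, hA haA⟩ with hx
  have hx1 : x ≠ 1 := by
    rw [hx, Ne, QuotientGroup.eq_one_iff, hC, Subgroup.mem_subgroupOf]
    exact haC
  have hxp : x ^ p = 1 := by
    rw [hx, ← QuotientGroup.mk_pow, QuotientGroup.eq_one_iff, hC, Subgroup.mem_subgroupOf]
    exact hpow a haA
  have hqx : ∀ w : ↥V, act x (act x w / w) = act x w / w := fun w => hquadA a haA w
  have hqxx : ∀ w : ↥V, act (x * x) (act (x * x) w / w) = act (x * x) w / w :=
    fun w => hquadA (a * a) (mul_mem haA haA) w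
  rcases hq with ⟨F, _, _, n, hcard, hodd, ⟨e⟩⟩ | ⟨hp3, hree⟩
  · have hchar : CharP F p := charP_of_card_eq_prime_pow hcard
    have hp2 : p ≠ 2 := by
      rintro rfl
      rw [hcard] at hodd
      rcases Nat.eq_zero_or_pos n with h0 | h0
      · rw [h0, pow_zero] at hcard
        have := Fintype.one_lt_card (α := F)
        omega
      · exact (Nat.not_even_iff_odd.2 hodd) ((Nat.even_pow.2 ⟨even_two, h0.ne'⟩))
    exact no_quad_PSL2 p hp2 e act hact hW x hx1 hxp hqxx
  · subst hp3
    exact no_quad_Ree hree act hact hW x hx1 hqx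

end Cfsg.Agent.S2787
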