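import Mathlib
import Cfsg.Statements.S2794
import Cfsg.Agent.Lib.Helper1.QdNoControl
-- import your own Cfsg.Agent.* helpers here

set_option autoImplicit false
open Cfsg

namespace Cfsg.Agent.S2794

/-- For an odd prime p and a finite group G, the group Qd(p) is not involved in G if and only if in every section K/R of G, for every Sylow p-subgroup S* of K/R, the centre of J(S*) (J generated by the abelian subgroups of largest order) controls strong fusion in K/R. -/
theorem result {G : Type*} [Group G] [Finite G] {p : ℕ} [Fact p.Prime] (hp : p ≠ 2) : ¬ Cfsg.Involves ↥(Cfsg.qd p) G ↔ ∀ (K R : Subgroup G) [hR : (R.subgroupOf K).Normal], ∀ T : Sylow p (K ⧸ R.subgroupOf K), Cfsg.ControlsStrongFusion p (Cfsg.centerThompsonAOf (T : Subgroup (K ⧸ R.subgroupOf K))) := by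
  constructor
  · intro hG K R hR T
    have hfree : Cfsg.Agent.Helper4.QDF.QdFree p G :=
      Cfsg.Agent.Helper4.QDF.qdfree_iff.mpr hG
    have hX : Cfsg.Agent.Helper4.QDF.QdFree p (K ⧸ R.subgroupOf K) :=
      (hfree.subgroup K).quotient (R.subgroupOf K)
    have hfcs := Cfsg.Agent.Helper1.ZJF.fcs_of_qdfree hp (K ⧸ R.subgroupOf K) hX
    have hTle : Cfsg.centerThompsonAOf (T : Subgroup (K ⧸ R.subgroupOf K)) ≤
        (T : Subgroup (K ⧸ R.subgroupOf K)) := by
      rw [← Cfsg.Agent.Helper1.ZJF.inducedFunctor_zjA]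
      exact Cfsg.Agent.Helper10.indW_le _
    refine ⟨T, hTle, fun A hA => ⟨hA, fun g hg => ?_⟩⟩
    have hrel : ¬ p ∣ (T : Subgroup (K ⧸ R.subgroupOf K)).relIndex ⊤ := by
      rw [Subgroup.relIndex_top_right]; exact T.not_dvd_index
    obtain ⟨n, hn, hnA⟩ := Cfsg.Agent.Helper1.ZJF.exists_mem_normalizer_of_fcs hfcs
      (T : Subgroup (K ⧸ R.subgroupOf K)) le_top T.isPGroup' hrel A g⁻¹ (Subgroup.mem_top _) hA
      (by
        rintro _ ⟨a, ha, rfl⟩
        have := hg ⟨a, ha, rfl⟩
        simpa using this)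
    refine ⟨n⁻¹, Subgroup.inv_mem _ hn.2, fun a ha => ?_⟩
    have := hnA a ha
    rw [inv_inv] at this ⊢
    exact this.symm
  · intro h hinv
    obtain ⟨K, R, hR, ⟨e⟩⟩ := hinv
    haveI := hR
    let e' : (K ⧸ R.subgroupOf K) ≃* ↥(Cfsg.Agent.S2761.affSubgroup (ZMod p)) :=
      e.trans (MulEquiv.subgroupCongr (Cfsg.Agent.S2761.qd_eq p))
    have T : Sylow p (K ⧸ R.subgroupOf K) := default
    have h1 := Cfsg.Agent.Helper1.ZJF.controlsStrongFusion_map e' (h K R T)
    have hsurj : Function.Surjective e'.toMonoidHom := e'.surjective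
    have h2 : (Cfsg.centerThompsonAOf (T : Subgroup (K ⧸ R.subgroupOf K))).map e'.toMonoidHom =
        Cfsg.centerThompsonAOf ((T.mapSurjective hsurj : Sylow p _) :
          Subgroup ↥(Cfsg.Agent.S2761.affSubgroup (ZMod p))) := by
      rw [Sylow.coe_mapSurjective]
      exact (Cfsg.Agent.Helper4.ZJ.centerThompsonAOf_map_of_injOn e'.toMonoidHom _
        (fun x _ y _ hxy => e'.injective hxy)).symm
    rw [h2] at h1
    exact Cfsg.Agent.Helper1.ZJF.not_controls_aff _ h1

end Cfsg.Agent.S2794
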