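import Mathlib
import Cfsg.Statements.S2801
import Cfsg.Agent.Lib.Helper14.Basic

set_option autoImplicit false
open Cfsg

namespace Cfsg.Agent.S2801

open Cfsg.Agent.Helper14

/-- If `O_p(L/N) = 1`, a normal subgroup with `p`-group image in `L/N` lies in `N`. -/
theorem le_of_pCore_quotient_eq_bot {L : Type*} [Group L] {p : ℕ} (N : Subgroup L) [N.Normal]
    (h : Cfsg.pCore p (L ⧸ N) = ⊥) (D : Subgroup L) (hD : D.Normal)
    (hp : IsPGroup p (D.map (QuotientGroup.mk' N))) : D ≤ N := by
  have hn : (D.map (QuotientGroup.mk' N)).Normal :=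
    Subgroup.Normal.map hD _ (QuotientGroup.mk'_surjective N)
  have hle : D.map (QuotientGroup.mk' N) ≤ ⊥ := h ▸ le_pCore hn hp
  intro d hd
  have : QuotientGroup.mk' N d ∈ (⊥ : Subgroup (L ⧸ N)) := hle (Subgroup.mem_map_of_mem _ hd)
  rw [Subgroup.mem_bot] at this
  exact (QuotientGroup.eq_one_iff d).mp this

/-- The elements of order dividing `p` in the centre of `Q`, as a subgroup. -/
def omegaCenter {L : Type*} [Group L] (p : ℕ) (Q : Subgroup L) : Subgroup L where
  carrier := {a | a ∈ Q ∧ a ∈ Subgroup.centralizer (Q : Set L) ∧ a ^ p = 1}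
  one_mem' := ⟨Subgroup.one_mem _, Subgroup.one_mem _, one_pow _⟩
  mul_mem' := by
    rintro a b ⟨ha, hac, hap⟩ ⟨hb, hbc, hbp⟩
    refine ⟨Subgroup.mul_mem _ ha hb, Subgroup.mul_mem _ hac hbc, ?_⟩
    have hcomm : Commute a b := by
      have := (Subgroup.mem_centralizer_iff.mp hbc) a ha
      exact this
    rw [hcomm.mul_pow, hap, hbp, one_mul]
  inv_mem' := by
    rintro a ⟨ha, hac, hap⟩
    exact ⟨Subgroup.inv_mem _ ha, Subgroup.inv_mem _ hac, by rw [inv_pow, hap, inv_one]⟩

theorem omegaCenter_comm {L : Type*} [Group L] (p : ℕ) (Q : Subgroup L) {a b : L}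
    (ha : a ∈ omegaCenter p Q) (hb : b ∈ omegaCenter p Q) : a * b = b * a :=
  (Subgroup.mem_centralizer_iff.mp hb.2.1) a ha.1

theorem pReduced_le_omegaCenter {L : Type*} [Group L] {p : ℕ} [Fact p.Prime] [Finite L] (V : Subgroup L)
    (hV : Cfsg.IsPReducedNormal p V) : V ≤ omegaCenter p (Cfsg.pCore p L) := by
  obtain ⟨hVn, ⟨hVc, hVp⟩, hCn, hO⟩ := hV
  have hVpg : IsPGroup p V := by
    intro a
    refine ⟨1, ?_⟩
    apply Subtype.ext
    simpa using hVp a a.2
  have hVQ : V ≤ Cfsg.pCore p L := le_pCore hVn hVpg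
  have hQn : (Cfsg.pCore p L).Normal := by
    apply Subgroup.sSup_normal
    intro H hH
    exact hH.1
  have hQC : Cfsg.pCore p L ≤ Subgroup.centralizer (V : Set L) := by
    apply le_of_pCore_quotient_eq_bot _ hO _ hQn
    exact (pCore_isPGroup p L).map _
  intro a ha
  refine ⟨hVQ ha, ?_, hVp a ha⟩
  have := Subgroup.le_centralizer_iff.mp hQC
  exact this ha

/-- Let L be a finite group and p a prime with C_L(O_p(L)) ≤ O_p(L). Then L has a unique largest p-reduced normal subgroup: some normal elementary abelian p-subgroup Y with O_p(L/C_L(Y)) = 1 contains every other such subgroup. -/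
theorem result {L : Type*} [Group L] [Finite L] {p : ℕ} [Fact p.Prime] (hchar : Subgroup.centralizer (Cfsg.pCore p L : Set L) ≤ Cfsg.pCore p L) : ∃ Y : Subgroup L, (Cfsg.IsPReducedNormal p Y ∧ ∀ V : Subgroup L, Cfsg.IsPReducedNormal p V → V ≤ Y) := by
  refine ⟨sSup {V : Subgroup L | Cfsg.IsPReducedNormal p V}, ?_, fun V hV => le_sSup hV⟩
  set Y := sSup {V : Subgroup L | Cfsg.IsPReducedNormal p V} with hY
  have hYn : Y.Normal := Subgroup.sSup_normal _ (fun V hV => hV.1)
  have hYE : Y ≤ omegaCenter p (Cfsg.pCore p L) := sSup_le (fun V hV => pReduced_le_omegaCenter V hV)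
  have hCn : (Subgroup.centralizer (Y : Set L)).Normal := Subgroup.normal_centralizer
  refine ⟨hYn, ⟨⟨⟨fun a b => ?_⟩⟩, fun a ha => (hYE ha).2.2⟩, hCn, ?_⟩
  · apply Subtype.ext
    exact omegaCenter_comm p _ (hYE a.2) (hYE b.2)
  · rw [eq_bot_iff]
    set D := (Cfsg.pCore p (L ⧸ Subgroup.centralizer (Y : Set L))).comap
      (QuotientGroup.mk' (Subgroup.centralizer (Y : Set L))) with hD
    have hPn : (Cfsg.pCore p (L ⧸ Subgroup.centralizer (Y : Set L))).Normal :=
      Subgroup.sSup_normal _ (fun H hH => hH.1)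
    have hDn : D.Normal := Subgroup.Normal.comap hPn _
    have hDV : ∀ V : Subgroup L, Cfsg.IsPReducedNormal p V → D ≤ Subgroup.centralizer (V : Set L) := by
      intro V hV
      have hVY : V ≤ Y := le_sSup hV
      obtain ⟨hVn, _, hCVn, hO⟩ := hV
      apply le_of_pCore_quotient_eq_bot _ hO _ hDn
      intro x
      obtain ⟨x, d, hd, rfl⟩ := x
      have hd' : QuotientGroup.mk' (Subgroup.centralizer (Y : Set L)) d ∈
          Cfsg.pCore p (L ⧸ Subgroup.centralizer (Y : Set L)) := hd
      obtain ⟨k, hk⟩ := pCore_isPGroup p (L ⧸ Subgroup.centralizer (Y : Set L)) ⟨_, hd'⟩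
      refine ⟨k, ?_⟩
      apply Subtype.ext
      have hk' : (QuotientGroup.mk' (Subgroup.centralizer (Y : Set L)) d) ^ (p ^ k) = 1 := by
        have := congrArg Subtype.val hk
        simpa using this
      rw [← map_pow] at hk'
      have hmem : d ^ (p ^ k) ∈ Subgroup.centralizer (Y : Set L) := (QuotientGroup.eq_one_iff _).mp hk'
      have hmem' : d ^ (p ^ k) ∈ Subgroup.centralizer (V : Set L) := Subgroup.centralizer_le hVY hmem
      show (QuotientGroup.mk' (Subgroup.centralizer (V : Set L)) d) ^ (p ^ k) = 1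
      rw [← map_pow]
      exact (QuotientGroup.eq_one_iff _).mpr hmem'
    have hDY : D ≤ Subgroup.centralizer (Y : Set L) := by
      rw [Subgroup.le_centralizer_iff]
      apply sSup_le
      intro V hV
      exact Subgroup.le_centralizer_iff.mp (hDV V hV)
    intro x hx
    obtain ⟨d, rfl⟩ := QuotientGroup.mk'_surjective _ x
    have hd : d ∈ D := hx
    rw [Subgroup.mem_bot]
    exact (QuotientGroup.eq_one_iff d).mpr (hDY hd)

end Cfsg.Agent.S2801
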