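import Mathlib
import Cfsg.Statements.S2804
import Cfsg.Agent.Lib.Helper14.PReducedSub

set_option autoImplicit false
open Cfsg

namespace Cfsg.Agent.S2804

open Cfsg.Agent.Helper14
open scoped commutatorElement

/-- Let L be a finite group and p a prime with C_L(O_p(L)) ≤ O_p(L), V a p-reduced normal subgroup of L and K a subnormal subgroup of L. Then [V, O^p(K)] is contained in K and is a p-reduced normal subgroup of K, where O^p(K) is the subgroup of K generated by its elements of order prime to p. -/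
theorem result {L : Type*} [Group L] [Finite L] {p : ℕ} [Fact p.Prime] (hchar : Subgroup.centralizer (Cfsg.pCore p L : Set L) ≤ Cfsg.pCore p L) (V : Subgroup L) (hV : Cfsg.IsPReducedNormal p V) (K : Subgroup L) (hK : K.IsSubnormal) : ⁅V, (Cfsg.pResidual p ↥K).map K.subtype⁆ ≤ K ∧ Cfsg.IsPReducedNormal p ((⁅V, (Cfsg.pResidual p ↥K).map K.subtype⁆).subgroupOf K) := by
  have hVn : V.Normal := hV.1
  have hVe : Cfsg.IsElementaryAbelian p V := hV.2.1
  have hVp : IsPGroup p V := Cfsg.Agent.Helper14.IsElementaryAbelian.isPGroup hVe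
  have hVc : ∀ a ∈ V, ∀ b ∈ V, a * b = b * a := by
    intro a ha b hb
    exact congrArg Subtype.val (hVe.1.is_comm.comm ⟨a, ha⟩ ⟨b, hb⟩)
  set E := (Cfsg.pResidual p ↥K).map K.subtype with hE
  set U := ⁅V, E⁆ with hU
  have hEK : E ≤ K := Subgroup.map_subtype_le _
  have hKE : K ≤ Subgroup.normalizer (E : Set L) :=
    le_normalizer_map_subtype_of_normal Cfsg.Agent.Helper22.pResidual_normal
  have hKV : K ≤ Subgroup.normalizer (V : Set L) := by
    rw [Subgroup.normalizer_eq_top_iff.mpr hVn]; exact le_top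
  have hUV : U ≤ V := Subgroup.commutator_le_left V E
  -- Step B: U ≤ K
  have hUK : U ≤ K := by
    rw [hU, Subgroup.commutator_le]
    rintro v hv _ ⟨e, he, rfl⟩
    revert v
    unfold Cfsg.pResidual at he
    induction he using Subgroup.closure_induction with
    | mem e he =>
      intro v hv
      have hec : (orderOf ((e : ↥K) : L)).Coprime p := by
        rw [Subgroup.orderOf_coe]; exact he
      have := comm_mem_of_subnormal hVn hVc hVp hK (e : L) e.2 hec v hv
      rwa [← commutatorElement_def] at this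
    | one =>
      intro v _
      simp
    | mul a b _ _ iha ihb =>
      intro v hv
      have e : ⁅v, K.subtype (a * b)⁆ = ⁅v, K.subtype a⁆ * (K.subtype a * ⁅v, K.subtype b⁆ * (K.subtype a)⁻¹) := by
        simp only [commutatorElement_def, map_mul]; group
      rw [e]
      exact K.mul_mem (iha v hv) (K.mul_mem (K.mul_mem a.2 (ihb v hv)) (K.inv_mem a.2))
    | inv a _ iha =>
      intro v hv
      have e : ⁅v, K.subtype a⁻¹⁆ = (K.subtype a)⁻¹ * ⁅v, K.subtype a⁆⁻¹ * K.subtype a := by
        simp only [commutatorElement_def, map_inv]; group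
      rw [e]
      exact K.mul_mem (K.mul_mem (K.inv_mem a.2) (K.inv_mem (iha v hv))) a.2
  refine ⟨hUK, ?_⟩
  have hKU : K ≤ Subgroup.normalizer (U : Set L) := by
    apply le_normalizer_of_map_conj_le
    intro g hg
    rw [hU, Subgroup.map_commutator, map_conj_eq_self_of_le_normalizer hKV hg,
      map_conj_eq_self_of_le_normalizer hKE hg]
  -- C_K(U) ≤ C(V)
  have hQ : K ⊓ Subgroup.centralizer (U : Set L) ≤ Subgroup.centralizer (V : Set L) := by
    apply le_centralizer_of_subnormal hV hK inf_le_left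
      (le_normalizer_inf Subgroup.le_normalizer (le_normalizer_centralizer_of_le_normalizer hKU))
    intro y hy
    obtain ⟨a, ha⟩ := exists_pow_orderOf_coprime (p := p) y
    refine ⟨a, ?_⟩
    have hzQ : y ^ (p ^ a) ∈ K ⊓ Subgroup.centralizer (U : Set L) := Subgroup.pow_mem _ hy _
    obtain ⟨hzK, hzU⟩ := Subgroup.mem_inf.mp hzQ
    have hzE : y ^ (p ^ a) ∈ E := by
      refine ⟨⟨y ^ (p ^ a), hzK⟩, ?_, rfl⟩
      apply Cfsg.Agent.Helper22.mem_pResidual_of_coprime
      rwa [Subgroup.orderOf_mk]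
    rw [Subgroup.mem_centralizer_iff]
    intro v hv
    have hcU : v * y ^ (p ^ a) * v⁻¹ * (y ^ (p ^ a))⁻¹ ∈ U := by
      have := Subgroup.commutator_mem_commutator hv hzE
      rwa [commutatorElement_def] at this
    have hcomm : Commute (v * y ^ (p ^ a) * v⁻¹ * (y ^ (p ^ a))⁻¹) (y ^ (p ^ a)) :=
      (Subgroup.mem_centralizer_iff.mp hzU) _ hcU
    obtain ⟨k, hk⟩ := hVp ⟨_, hUV hcU⟩
    have hk' : (v * y ^ (p ^ a) * v⁻¹ * (y ^ (p ^ a))⁻¹) ^ (p ^ k) = 1 := by
      have := congrArg Subtype.val hk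
      simpa using this
    exact commute_of_commutator_commute' v (y ^ (p ^ a)) k hcomm hk' ha
  rw [isPReducedNormal_iff]
  refine ⟨(Subgroup.normal_subgroupOf_iff_le_normalizer hUK).mpr hKU, ⟨⟨⟨fun a b => ?_⟩⟩, fun a ha => ?_⟩, ?_⟩
  · apply Subtype.ext
    apply Subtype.ext
    exact hVc _ (hUV (Subgroup.mem_subgroupOf.mp a.2)) _ (hUV (Subgroup.mem_subgroupOf.mp b.2))
  · apply Subtype.ext
    exact hVe.2 _ (hUV (Subgroup.mem_subgroupOf.mp ha))
  · intro D' hD'n hD'p
    set D := D'.map K.subtype with hD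
    have hDK : D ≤ K := Subgroup.map_subtype_le _
    have hKD : K ≤ Subgroup.normalizer (D : Set L) := le_normalizer_map_subtype_of_normal hD'n
    have hDp : PowCond p D (Subgroup.centralizer (V : Set L)) := by
      rintro _ ⟨d, hd, rfl⟩
      obtain ⟨k, hk⟩ := hD'p d hd
      refine ⟨k, ?_⟩
      have h1 := (mem_centralizer_subgroupOf_iff hUK _).mp hk
      exact hQ (Subgroup.mem_inf.mpr ⟨(d ^ (p ^ k)).2, h1⟩)
    have hDV := le_centralizer_of_subnormal hV hK hDK hKD hDp
    intro d hd
    rw [mem_centralizer_subgroupOf_iff hUK]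
    exact Subgroup.centralizer_le hUV (hDV ⟨d, hd, rfl⟩)

end Cfsg.Agent.S2804
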