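import Mathlib
import Cfsg.Statements.S2805
import Cfsg.Agent.Lib.Helper14.Kieler

set_option autoImplicit false
open Cfsg

namespace Cfsg.Agent.S2805

open Cfsg.Agent.Helper14

/-- The inductive form of the Kieler lemma along a subnormal series. -/
theorem kieler_aux {H : Type*} [Group H] [Finite H] {p : ℕ} [Fact p.Prime]
    (hH : Subgroup.centralizer (Cfsg.pCore p H : Set H) ≤ Cfsg.pCore p H) (T : Sylow p H) (L : Subgroup H)
    (hL : L.IsSubnormal) :
    L ⊓ Subgroup.centralizer (pCoreOf p L : Set H) ≤ pCoreOf p L ∧ IsSylowOf p L ((T : Subgroup H) ⊓ L) ∧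
      L ⊓ Subgroup.centralizer ((Cfsg.omegaOne p ((T : Subgroup H) ⊓
        Subgroup.centralizer ((T : Subgroup H) : Set H))) : Set H) =
      L ⊓ Subgroup.centralizer ((Cfsg.omegaOne p (((T : Subgroup H) ⊓ L) ⊓
        Subgroup.centralizer ((((T : Subgroup H) ⊓ L) : Subgroup H) : Set H))) : Set H) := by
  induction hL with
  | top =>
    refine ⟨?_, ?_, ?_⟩
    · rw [← charP_iff_ambient]
      exact charP_of_mulEquiv Subgroup.topEquiv.symm hH
    · rw [inf_top_eq]
      exact isSylowOf_of_sylow_le T le_top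
    · rw [inf_top_eq]
  | step L K hLK _ hN ih =>
    obtain ⟨hcharK, hTK, hKeq⟩ := ih
    have hKL : K ≤ Subgroup.normalizer (L : Set H) := (Subgroup.normal_subgroupOf_iff_le_normalizer hLK).mp hN
    have hTL : ((T : Subgroup H) ⊓ K) ⊓ L = (T : Subgroup H) ⊓ L := by
      rw [inf_assoc, inf_of_le_right hLK]
    refine ⟨charP_ambient_of_le_normalizer hcharK hLK hKL, ?_, ?_⟩
    · have := hTK.inf_of_le_normalizer hLK hKL
      rwa [hTL] at this
    · have h1 := kieler_normal hcharK hTK hLK hKL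
      rw [hTL] at h1
      rw [← h1]
      have h2 : L ⊓ Subgroup.centralizer ((Cfsg.omegaOne p ((T : Subgroup H) ⊓
          Subgroup.centralizer ((T : Subgroup H) : Set H))) : Set H) =
          L ⊓ (K ⊓ Subgroup.centralizer ((Cfsg.omegaOne p ((T : Subgroup H) ⊓
          Subgroup.centralizer ((T : Subgroup H) : Set H))) : Set H)) := by
        rw [← inf_assoc, inf_of_le_left hLK]
      rw [h2, hKeq, ← inf_assoc, inf_of_le_left hLK]

/-- Let H be a finite group of characteristic p, T a Sylow p-subgroup and L a subnormal subgroup. Then C_L(Ω₁(Z(T))) = C_L(Ω₁(Z(T ∩ L))). -/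
theorem result {H : Type*} [Group H] [Finite H] {p : ℕ} [Fact p.Prime] (hH : Subgroup.centralizer (Cfsg.pCore p H : Set H) ≤ Cfsg.pCore p H) (T : Sylow p H) (L : Subgroup H) (hL : L.IsSubnormal) : L ⊓ Subgroup.centralizer ((Cfsg.omegaOne p ((T : Subgroup H) ⊓ Subgroup.centralizer ((T : Subgroup H) : Set H))) : Set H) = L ⊓ Subgroup.centralizer ((Cfsg.omegaOne p (((T : Subgroup H) ⊓ L) ⊓ Subgroup.centralizer ((((T : Subgroup H) ⊓ L) : Subgroup H) : Set H))) : Set H) :=
  (kieler_aux hH T L hL).2.2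

end Cfsg.Agent.S2805
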