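import Mathlib
import Cfsg.Statements.S2807
import Cfsg.Agent.Lib.Helper10.WYComm
import Cfsg.Agent.Lib.Helper10.WreathImage
-- import your own Cfsg.Agent.* helpers here

set_option autoImplicit false
open Cfsg

namespace Cfsg.Agent.S2807

/-- Let S be a Sylow p-subgroup of the finite group G. If S ∩ G' ≠ S ∩ (N_G(S))' (derived subgroups), then the wreath product Z_p ≀ Z_p — realised as a Sylow p-subgroup of the symmetric group of degree p² — is a homomorphic image of S. -/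
theorem result {G : Type*} [Group G] [Finite G] {p : ℕ} [Fact p.Prime] (S : Sylow p G) (h : (S : Subgroup G) ⊓ commutator G ≠ (S : Subgroup G) ⊓ ⁅Subgroup.normalizer ((S : Subgroup G) : Set G), Subgroup.normalizer ((S : Subgroup G) : Set G)⁆) : ∃ (P : Sylow p (Equiv.Perm (Fin (p ^ 2)))) (f : ↥(S : Subgroup G) →* ↥(P : Subgroup (Equiv.Perm (Fin (p ^ 2))))), Function.Surjective f := by
  classical
  have hwc : Cfsg.IsWeaklyClosed (S : Subgroup G) (S : Subgroup G) := by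
    refine ⟨le_rfl, fun g hg => ?_⟩
    apply Subgroup.eq_of_le_of_card_ge hg
    rw [Subgroup.card_map_of_injective (MulAut.conj g).injective]
  have hnot : ¬ Cfsg.Agent.Helper10.WY.Hyp2 p (S : Subgroup G) (S : Subgroup G) :=
    fun hH => h (Cfsg.Agent.Helper10.WY.sylow_inf_commutator_eq₂ S (S : Subgroup G) hwc hH)
  unfold Cfsg.Agent.Helper10.WY.Hyp2 at hnot
  push Not at hnot
  obtain ⟨x, hx, z, hz, W₀, hW₀co, hzW₀, hxW₀, huW₀, hufr⟩ := hnot
  have hxW₀' := hxW₀ hx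
  -- transport to the abstract group
  have hxm : (⟨x, hx⟩ : ↥(S : Subgroup G)) ∈ W₀ := by
    obtain ⟨y, hy, hyx⟩ := hxW₀'
    have : y = ⟨x, hx⟩ := Subtype.ext hyx
    rw [← this]; exact hy
  have hzm : (⟨z, hz⟩ : ↥(S : Subgroup G)) ∉ W₀ := fun hc => hzW₀ ⟨⟨z, hz⟩, hc, rfl⟩
  have hiter : ∀ k : ℕ, ((((Cfsg.Agent.Helper10.WY.cz (⟨z, hz⟩ : ↥(S : Subgroup G)))^[k]
      (⟨x, hx⟩ : ↥(S : Subgroup G)) : ↥(S : Subgroup G)) : G)) =
      (fun y : G => y⁻¹ * z⁻¹ * y * z)^[k] x := by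
    intro k
    induction k with
    | zero => rfl
    | succ k ih =>
      rw [Function.iterate_succ_apply', Function.iterate_succ_apply', ← ih]
      rfl
  have hP : IsPGroup p ↥(S : Subgroup G) := S.2
  obtain ⟨Q, f, hf⟩ := Cfsg.Agent.Helper10.Wr.wreath_image (p := p) hP W₀ hW₀co
    (⟨z, hz⟩ : ↥(S : Subgroup G)) (⟨x, hx⟩ : ↥(S : Subgroup G)) hzm hxm (by
      intro hc
      apply hufr
      refine ⟨_, hc, ?_⟩
      exact hiter (p - 1))
  exact ⟨Q, f, hf⟩

end Cfsg.Agent.S2807
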