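import Mathlib
import Cfsg.Statements.S2809
import Cfsg.Agent.Lib.Helper14.Basic

set_option autoImplicit false
open Cfsg

namespace Cfsg.Agent.S2809

open Cfsg.Agent.Helper14
open scoped commutatorElement

/-- If `c = [r, x]` commutes with `x`, is a `p`-element, and `x` has order prime to `p`, then `r` and `x` commute. -/
theorem commute_of_commutator_commute {G : Type*} [Group G] {p : ℕ} (r x : G) (j : ℕ)
    (hcx : Commute (r * x * r⁻¹ * x⁻¹) x) (hc : (r * x * r⁻¹ * x⁻¹) ^ (p ^ j) = 1)
    (hx : (orderOf x).Coprime p) : r * x = x * r := by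
  set c := r * x * r⁻¹ * x⁻¹ with hcdef
  have h1 : r * x * r⁻¹ = c * x := by rw [hcdef]; group
  have h2 : (r * x * r⁻¹) ^ (orderOf x) = 1 := by
    rw [conj_pow, pow_orderOf_eq_one]; group
  have h3 : c ^ (orderOf x) = 1 := by
    rw [h1, hcx.mul_pow, pow_orderOf_eq_one, mul_one] at h2
    exact h2
  have h4 : c = 1 := eq_one_of_pow_eq_one_of_coprime h3 hc (Nat.Coprime.pow_right j hx)
  have : r * x * r⁻¹ = x := by rw [h1, h4, one_mul]
  calc r * x = r * x * r⁻¹ * r := by group
    _ = x * r := by rw [this]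

theorem iter_le {H : Type*} [Group H] (R L : Subgroup H) (hL : L ≤ Subgroup.normalizer (R : Set H)) (n : ℕ) :
    Cfsg.iterCommutator R L n ≤ R := by
  induction n with
  | zero => exact le_refl _
  | succ n ih =>
    show ⁅Cfsg.iterCommutator R L n, L⁆ ≤ R
    rw [Subgroup.commutator_le]
    intro r hr l hl
    have hrR : r ∈ R := ih hr
    have hl' := hL hl
    rw [Subgroup.mem_normalizer_iff] at hl'
    have : l * r⁻¹ * l⁻¹ ∈ R := (hl' r⁻¹).mp (R.inv_mem hrR)
    have h2 : r * (l * r⁻¹ * l⁻¹) ∈ R := R.mul_mem hrR this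
    have e : ⁅r, l⁆ = r * (l * r⁻¹ * l⁻¹) := by rw [commutatorElement_def]; group
    rw [e]; exact h2

/-- Let H be a finite group, p a prime, R a p-subgroup of H with C_H(R) ≤ R, and L a subgroup of N_H(R) acting nilpotently on R (some iterated commutator [R, L, …, L] is trivial). Then L is a p-group. -/
theorem result {H : Type*} [Group H] [Finite H] {p : ℕ} [Fact p.Prime] (R : Subgroup H) (hR : IsPGroup p ↥R) (hC : Subgroup.centralizer (R : Set H) ≤ R) (L : Subgroup H) (hL : L ≤ Subgroup.normalizer (R : Set H)) (hnil : ∃ n : ℕ, Cfsg.iterCommutator R L n = ⊥) : IsPGroup p ↥L := by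
  obtain ⟨n, hn⟩ := hnil
  apply isPGroup_of_pprime_elements_trivial
  intro x hx
  have hx' : (orderOf (x : H)).Coprime p := by rwa [Subgroup.orderOf_coe]
  -- x centralizes every term of the chain
  have key : ∀ k : ℕ, k ≤ n → ∀ r ∈ Cfsg.iterCommutator R L (n - k), r * (x : H) = (x : H) * r := by
    intro k
    induction k with
    | zero =>
      intro _ r hr
      rw [Nat.sub_zero, hn, Subgroup.mem_bot] at hr
      rw [hr]; group
    | succ k ih =>
      intro hk r hr
      have hk' : k ≤ n := Nat.le_of_succ_le hk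
      have hidx : n - k = (n - (k + 1)) + 1 := by omega
      have hc_mem : r * (x : H) * r⁻¹ * (x : H)⁻¹ ∈ Cfsg.iterCommutator R L (n - k) := by
        rw [hidx]
        show _ ∈ ⁅Cfsg.iterCommutator R L (n - (k + 1)), L⁆
        exact Subgroup.commutator_mem_commutator hr x.2
      have hcR : r * (x : H) * r⁻¹ * (x : H)⁻¹ ∈ R := iter_le R L hL _ hc_mem
      obtain ⟨j, hj⟩ := hR ⟨_, hcR⟩
      have hj' : (r * (x : H) * r⁻¹ * (x : H)⁻¹) ^ (p ^ j) = 1 := by
        have := congrArg Subtype.val hj
        simpa using this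
      exact commute_of_commutator_commute r (x : H) j (ih hk' _ hc_mem) hj' hx'
  have hxc : (x : H) ∈ Subgroup.centralizer (R : Set H) := by
    rw [Subgroup.mem_centralizer_iff]
    intro r hr
    have := key n le_rfl r (by rw [Nat.sub_self]; exact hr)
    exact this
  have hxR : (x : H) ∈ R := hC hxc
  obtain ⟨j, hj⟩ := hR ⟨_, hxR⟩
  have hj' : (x : H) ^ (p ^ j) = 1 := by
    have := congrArg Subtype.val hj
    simpa using this
  have h1 : (x : H) = 1 :=
    eq_one_of_pow_eq_one_of_coprime (pow_orderOf_eq_one _) hj' (Nat.Coprime.pow_right j hx')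
  exact Subtype.ext h1

end Cfsg.Agent.S2809
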