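import Mathlib
import Cfsg.Statements.S2810
import Cfsg.Agent.Lib.Helper14.Basic
import Cfsg.Agent.S2809

set_option autoImplicit false
open Cfsg

namespace Cfsg.Agent.S2810

open Cfsg.Agent.Helper14
open scoped commutatorElement

/-- The stability group of a chain of normal subgroups. -/
def stab {H : Type*} [Group H] (n : ℕ) (A : Fin (n + 1) → Subgroup H) (hnorm : ∀ i, (A i).Normal) :
    Subgroup H where
  carrier := {g | ∀ i : Fin n, ∀ a ∈ A i.succ, a * g * a⁻¹ * g⁻¹ ∈ A i.castSucc}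
  one_mem' := by
    intro i a _
    have : a * 1 * a⁻¹ * (1 : H)⁻¹ = 1 := by group
    rw [this]; exact Subgroup.one_mem _
  mul_mem' := by
    intro g h hg hh i a ha
    have e : a * (g * h) * a⁻¹ * (g * h)⁻¹ = (a * g * a⁻¹ * g⁻¹) * (g * (a * h * a⁻¹ * h⁻¹) * g⁻¹) := by
      group
    rw [e]
    exact Subgroup.mul_mem _ (hg i a ha) ((hnorm _).conj_mem _ (hh i a ha) g)
  inv_mem' := by
    intro g hg i a ha
    have e : a * g⁻¹ * a⁻¹ * g⁻¹⁻¹ = g⁻¹ * (a * g * a⁻¹ * g⁻¹)⁻¹ * g⁻¹⁻¹ := by group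
    rw [e]
    exact (hnorm _).conj_mem _ (Subgroup.inv_mem _ (hg i a ha)) g⁻¹

theorem stab_normal {H : Type*} [Group H] (n : ℕ) (A : Fin (n + 1) → Subgroup H)
    (hnorm : ∀ i, (A i).Normal) : (stab n A hnorm).Normal := by
  constructor
  intro g hg h i a ha
  have ha' : h⁻¹ * a * h⁻¹⁻¹ ∈ A i.succ := (hnorm _).conj_mem _ ha h⁻¹
  have e : a * (h * g * h⁻¹) * a⁻¹ * (h * g * h⁻¹)⁻¹ =
      h * ((h⁻¹ * a * h⁻¹⁻¹) * g * (h⁻¹ * a * h⁻¹⁻¹)⁻¹ * g⁻¹) * h⁻¹ := by group
  rw [e]
  exact (hnorm _).conj_mem _ (hg i _ ha') h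

/-- Let H be a finite group of characteristic p and L a subgroup of H centralizing every factor of some H-invariant chain 1 = A₀ ≤ A₁ ≤ … ≤ Aₙ = O_p(H) of normal subgroups (that is, [A_{i+1}, L] ≤ Aᵢ for each i). Then L ≤ O_p(H). -/
theorem result {H : Type*} [Group H] [Finite H] {p : ℕ} [Fact p.Prime] (hchar : Subgroup.centralizer (Cfsg.pCore p H : Set H) ≤ Cfsg.pCore p H) (L : Subgroup H) (n : ℕ) (A : Fin (n + 1) → Subgroup H) (h0 : A 0 = ⊥) (hn : A (Fin.last n) = Cfsg.pCore p H) (hmono : Monotone A) (hnorm : ∀ i, (A i).Normal) (hcent : ∀ i : Fin n, ⁅A i.succ, L⁆ ≤ A i.castSucc) : L ≤ Cfsg.pCore p H := by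
  have hLC : L ≤ stab n A hnorm := by
    intro l hl i a ha
    have := Subgroup.commutator_mem_commutator ha hl
    have h2 := hcent i this
    rwa [commutatorElement_def] at h2
  refine hLC.trans (le_pCore (stab_normal n A hnorm) ?_)
  have hAp : ∀ i, A i ≤ Cfsg.pCore p H := fun i => hn ▸ hmono (Fin.le_last i)
  have hP : IsPGroup p (Cfsg.pCore p H) := pCore_isPGroup p H
  apply isPGroup_of_pprime_elements_trivial
  intro x hx
  have hx' : (orderOf (x : H)).Coprime p := by rwa [Subgroup.orderOf_coe]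
  have key : ∀ k : Fin (n + 1), ∀ r ∈ A k, r * (x : H) = (x : H) * r := by
    intro k
    induction k using Fin.induction with
    | zero =>
      intro r hr
      rw [h0, Subgroup.mem_bot] at hr
      rw [hr]; group
    | succ i ih =>
      intro r hr
      have hc_mem : r * (x : H) * r⁻¹ * (x : H)⁻¹ ∈ A i.castSucc := x.2 i r hr
      obtain ⟨j, hj⟩ := hP ⟨_, hAp _ hc_mem⟩
      have hj' : (r * (x : H) * r⁻¹ * (x : H)⁻¹) ^ (p ^ j) = 1 := by
        have := congrArg Subtype.val hj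
        simpa using this
      exact Cfsg.Agent.S2809.commute_of_commutator_commute r (x : H) j (ih _ hc_mem) hj' hx'
  have hxc : (x : H) ∈ Subgroup.centralizer (Cfsg.pCore p H : Set H) := by
    rw [Subgroup.mem_centralizer_iff]
    intro r hr
    exact key (Fin.last n) r (by rw [hn]; exact hr)
  have hxR : (x : H) ∈ Cfsg.pCore p H := hchar hxc
  obtain ⟨j, hj⟩ := hP ⟨_, hxR⟩
  have hj' : (x : H) ^ (p ^ j) = 1 := by
    have := congrArg Subtype.val hj
    simpa using this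
  have h1 : (x : H) = 1 :=
    eq_one_of_pow_eq_one_of_coprime (pow_orderOf_eq_one _) hj' (Nat.Coprime.pow_right j hx')
  exact Subtype.ext h1

end Cfsg.Agent.S2810
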