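import Mathlib
import Cfsg.Statements.S2815
import Cfsg.Agent.Lib.Helper14.Basic
import Cfsg.Agent.Lib.Helper1.CommutatorBasic
import Cfsg.Agent.Lib.Helper10.PResidual
import Cfsg.Agent.Lib.Helper22.PResidual
import Cfsg.Agent.Lib.Helper7.FStar2
import Cfsg.Agent.Lib.Helper7.Layer3
import Cfsg.Agent.Lib.Helper7.Fitting2

set_option autoImplicit false
open Cfsg

namespace Cfsg.Agent.S2815

open Cfsg.Agent.Helper7
open scoped commutatorElement

/-- In a finite group with `O_p = 1`, nilpotent normal subgroups have order prime to `p`. -/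
theorem not_dvd_card_of_nilpotent_normal {H : Type*} [Group H] [Finite H] {p : ℕ} [Fact p.Prime]
    (hO : Cfsg.pCore p H = ⊥) (N : Subgroup H) [N.Normal] [Group.IsNilpotent ↥N] :
    ¬ p ∣ Nat.card ↥N := by
  intro hdvd
  obtain S : Sylow p ↥N := default
  haveI : (S : Subgroup ↥N).Characteristic := S.characteristic_of_normal inferInstance
  haveI : ((S : Subgroup ↥N).map N.subtype).Normal := ConjAct.normal_of_characteristic_of_normal
  have hle : (S : Subgroup ↥N).map N.subtype ≤ Cfsg.pCore p H :=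
    le_sSup ⟨inferInstance, S.isPGroup'.map _⟩
  rw [hO, le_bot_iff] at hle
  have hS : (S : Subgroup ↥N) = ⊥ := (Subgroup.map_eq_bot_iff_of_injective _ N.subtype_injective).mp hle
  exact S.ne_bot_of_dvd_card hdvd hS

/-- Perfect three-subgroups lemma. -/
theorem commutator_eq_bot_of_perfect {H : Type*} [Group H] {K N : Subgroup H} (hK : ⁅K, K⁆ = K)
    (h : ⁅⁅N, K⁆, K⁆ = ⊥) : ⁅K, N⁆ = ⊥ := by
  have h2 : ⁅⁅K, N⁆, K⁆ = ⊥ := by rw [Subgroup.commutator_comm K N]; exact h
  have := Subgroup.commutator_commutator_eq_bot_of_rotate h2 h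
  rwa [hK] at this

theorem result {H : Type*} [Group H] [Finite H] {p : ℕ} [Fact p.Prime] (hp : p ∣ Nat.card H) (hO : Cfsg.pCore p H = ⊥) (hq : Cfsg.IsQuasisimple ↥(Cfsg.pResidual p H)) : Cfsg.pResidual p H = Cfsg.generalizedFittingSubgroup H ∧ (∀ Y : Subgroup H, IsPGroup p ↥Y → Y ≠ ⊥ → ⁅Cfsg.pResidual p H, Y⁆ = Cfsg.pResidual p H ∧ Cfsg.pResidual p H ≤ ⨆ k : ↥(Cfsg.pResidual p H), Y.map (MulAut.conj (k : H)).toMonoidHom) ∧ (∀ C : Subgroup H, C.Normal → ¬ Cfsg.pResidual p H ≤ C → (Nat.card ↥C).Coprime p) ∧ Cfsg.IsPIrreducible p H := by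
  have hpp : p.Prime := Fact.out
  set K := Cfsg.pResidual p H with hK
  haveI hKn : K.Normal := Cfsg.Agent.Helper10.pResidual_normal p H
  have hKcomp : Cfsg.IsComponent K := ⟨hKn.isSubnormal, hq⟩
  have hKperf : ⁅K, K⁆ = K := component_perfect hKcomp
  have hpow : ∀ x : H, ∃ k : ℕ, x ^ (p ^ k) ∈ K := by
    intro x
    obtain ⟨k, hk⟩ := (Cfsg.Agent.Helper10.isPGroup_quotient_pResidual (G := H) (p := p))
      (QuotientGroup.mk x)
    refine ⟨k, ?_⟩
    rw [← QuotientGroup.mk_pow] at hk
    exact (QuotientGroup.eq_one_iff _).mp hk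
  -- subgroups normalized by `K` and not containing it centralize `K`
  have hkey : ∀ N : Subgroup H, K ≤ Subgroup.normalizer (N : Set H) → ¬ K ≤ N →
      N ≤ Subgroup.centralizer (K : Set H) := by
    intro N hN hKN
    have h1 : ⁅K ⊓ N, K⁆ = ⊥ := component_inf_le_center hKcomp hN hKN
    have h2 : ⁅N, K⁆ ≤ K ⊓ N :=
      le_inf (Subgroup.commutator_le_right N K) (Cfsg.Agent.Helper1.commutator_le_of_le_normalizer hN)
    have h3 : ⁅⁅N, K⁆, K⁆ = ⊥ := by
      rw [eq_bot_iff, ← h1]
      exact Subgroup.commutator_mono h2 le_rfl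
    have h4 := commutator_eq_bot_of_perfect hKperf h3
    rw [Subgroup.commutator_comm] at h4
    exact Subgroup.commutator_eq_bot_iff_le_centralizer.mp h4
  -- the centralizer of `K`
  set C := Subgroup.centralizer (K : Set H) with hC
  haveI hCn : C.Normal := Subgroup.normal_centralizer
  haveI hCnil : Group.IsNilpotent ↥C := by
    apply Group.of_quotient_center_nilpotent
    have hPG : IsPGroup p (↥C ⧸ Subgroup.center ↥C) := by
      intro x
      obtain ⟨c, rfl⟩ := QuotientGroup.mk_surjective x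
      obtain ⟨k, hk⟩ := hpow (c : H)
      refine ⟨k, ?_⟩
      rw [← QuotientGroup.mk_pow, QuotientGroup.eq_one_iff, Subgroup.mem_center_iff]
      intro d
      apply Subtype.ext
      have h1 := Subgroup.mem_centralizer_iff.mp d.2 _ hk
      simp only [Subgroup.coe_mul, Subgroup.coe_pow]
      exact h1.symm
    exact hPG.isNilpotent
  have hCp : ¬ p ∣ Nat.card ↥C := not_dvd_card_of_nilpotent_normal hO C
  have hCcop : (Nat.card ↥C).Coprime p := ((Nat.Prime.coprime_iff_not_dvd hpp).mpr hCp).symm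
  have hCK : C ≤ K := by
    intro x hx
    apply Cfsg.Agent.Helper22.mem_pResidual_of_coprime
    exact Nat.Coprime.coprime_dvd_left (Subgroup.orderOf_dvd_natCard C hx) hCcop
  refine ⟨?_, ?_, ?_, ?_⟩
  · -- K = F*(H)
    apply le_antisymm
    · exact (component_le_layer hKcomp).trans layer_le_generalizedFittingSubgroup
    · unfold Cfsg.generalizedFittingSubgroup
      apply sup_le
      · unfold Cfsg.layer
        apply sSup_le
        intro L hL
        by_cases hLK : L = K
        · rw [hLK]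
        · have h1 : ⁅L, K⁆ = ⊥ := component_commutator_eq_bot_of_ne hL hKcomp hLK
          have h2 : L ≤ C := Subgroup.commutator_eq_bot_iff_le_centralizer.mp h1
          exact h2.trans hCK
      · have h1 : ⁅K, Cfsg.fittingSubgroup H⁆ = ⊥ := component_commutator_fittingSubgroup hKcomp
        rw [Subgroup.commutator_comm] at h1
        exact (Subgroup.commutator_eq_bot_iff_le_centralizer.mp h1).trans hCK
  · -- p-subgroups
    intro Y hY hYne
    have h1 : ⁅K, Y⁆ = K := by
      by_contra hne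
      have hle : ⁅K, Y⁆ ≤ K := Subgroup.commutator_le_left K Y
      have hKN : ¬ K ≤ ⁅K, Y⁆ := fun h => hne (le_antisymm hle h)
      have h2 := hkey ⁅K, Y⁆ (Cfsg.Agent.Helper1.le_normalizer_commutator_left K Y) hKN
      have h3 : ⁅⁅K, Y⁆, K⁆ = ⊥ := Subgroup.commutator_eq_bot_iff_le_centralizer.mpr h2
      have h3' : ⁅⁅Y, K⁆, K⁆ = ⊥ := by rw [Subgroup.commutator_comm Y K]; exact h3
      have h4 := commutator_eq_bot_of_perfect hKperf h3'
      rw [Subgroup.commutator_comm] at h4
      have h5 : Y ≤ C := Subgroup.commutator_eq_bot_iff_le_centralizer.mp h4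
      -- Y is a p-group inside a p'-group
      apply hYne
      rw [eq_bot_iff]
      intro y hy
      rw [Subgroup.mem_bot]
      obtain ⟨k, hk⟩ := hY ⟨y, hy⟩
      have hk' : y ^ (p ^ k) = 1 := by
        have := congrArg Subtype.val hk
        simpa using this
      have h6 : orderOf y ∣ p ^ k := orderOf_dvd_of_pow_eq_one hk'
      have h7 : orderOf y ∣ Nat.card ↥C := Subgroup.orderOf_dvd_natCard C (h5 hy)
      have h8 : (Nat.card ↥C).Coprime (p ^ k) := Nat.Coprime.pow_right k hCcop
      have h9 : orderOf y ∣ 1 := by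
        rw [← h8]
        exact Nat.dvd_gcd h7 h6
      exact orderOf_eq_one_iff.mp (Nat.dvd_one.mp h9)
    refine ⟨h1, ?_⟩
    set J := ⨆ k : ↥K, Y.map (MulAut.conj (k : H)).toMonoidHom with hJ
    have hYJ : Y ≤ J := by
      have := le_iSup (fun k : ↥K => Y.map (MulAut.conj (k : H)).toMonoidHom) (1 : ↥K)
      refine le_trans ?_ this
      intro y hy
      exact ⟨y, hy, by simp⟩
    calc K = ⁅K, Y⁆ := h1.symm
      _ ≤ J := by
        rw [Subgroup.commutator_le]
        intro k hk y hy
        have e : ⁅k, y⁆ = (k * y * k⁻¹) * y⁻¹ := by rw [commutatorElement_def]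
        rw [e]
        apply J.mul_mem _ (J.inv_mem (hYJ hy))
        have := le_iSup (fun k : ↥K => Y.map (MulAut.conj (k : H)).toMonoidHom) (⟨k, hk⟩ : ↥K)
        apply this
        exact ⟨y, hy, by simp⟩
  · -- normal subgroups not containing K
    intro C' hC'n hKC'
    have h1 : C' ≤ C := hkey C' (by rw [Subgroup.normalizer_eq_top_iff.mpr hC'n]; exact le_top) hKC'
    exact Nat.Coprime.coprime_dvd_left (Subgroup.card_dvd_of_le h1) hCcop
  · -- p-irreducible
    constructor
    · intro hcl
      obtain P : Sylow p H := default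
      haveI := hcl P
      have hle : (P : Subgroup H) ≤ Cfsg.pCore p H := le_sSup ⟨inferInstance, P.isPGroup'⟩
      rw [hO, le_bot_iff] at hle
      exact P.ne_bot_of_dvd_card hp hle
    · intro N hNn hNcl
      by_contra hKN
      apply hNcl
      have h1 : N ≤ C := hkey N (by rw [Subgroup.normalizer_eq_top_iff.mpr hNn]; exact le_top) hKN
      have hNcop : (Nat.card ↥N).Coprime p :=
        Nat.Coprime.coprime_dvd_left (Subgroup.card_dvd_of_le h1) hCcop
      intro P
      have hPbot : (P : Subgroup ↥N) = ⊥ := by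
        rw [← Subgroup.card_eq_one]
        obtain ⟨k, hk⟩ := IsPGroup.iff_card.mp P.isPGroup'
        have h2 : Nat.card ↥(P : Subgroup ↥N) ∣ Nat.card ↥N := Subgroup.card_subgroup_dvd_card _
        have h3 : (Nat.card ↥N).Coprime (p ^ k) := Nat.Coprime.pow_right k hNcop
        rw [← hk] at h3
        exact Nat.Coprime.eq_one_of_dvd h3.symm h2
      rw [hPbot]
      infer_instance

end Cfsg.Agent.S2815
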