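import Mathlib
import Cfsg.Statements.S2812
import Cfsg.Agent.Lib.Helper14.FStarAct2
import Cfsg.Agent.Lib.Helper7.Fitting2
import Cfsg.Agent.Lib.Helper10.PCompCover

set_option autoImplicit false
open Cfsg

namespace Cfsg.Agent.S2812

open Cfsg.Agent.Helper14
open scoped commutatorElement Pointwise

/-- conjugation by an element normalizing `H`, on subgroups of `H` -/
theorem map_normalizerMonoidHom_map_subtype {G : Type*} [Group G] (H : Subgroup G) (y : G)
    (hy : y ∈ Subgroup.normalizer (H : Set G)) (K : Subgroup ↥H) :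
    (K.map (H.normalizerMonoidHom ⟨y, hy⟩ : ↥H ≃* ↥H).toMonoidHom).map H.subtype =
      MulAut.conj y • K.map H.subtype := by
  ext x
  constructor
  · rintro ⟨_, ⟨k, hk, rfl⟩, rfl⟩
    exact ⟨(k : G), ⟨k, hk, rfl⟩, rfl⟩
  · rintro ⟨_, ⟨k, hk, rfl⟩, rfl⟩
    exact ⟨_, ⟨k, hk, rfl⟩, rfl⟩

/-- Let H be a subgroup of the finite group G with O_p(H) = 1, Y a p-subgroup of G normalizing H, and L a subgroup of the generalized Fitting subgroup F*(H) that is subnormal in H and normalized by Y. Then L = [L, Y]·C_L(Y) and [L, Y] = [L, Y, Y]. -/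
theorem result {G : Type*} [Group G] [Finite G] {p : ℕ} [Fact p.Prime] (H : Subgroup G) (hO : Cfsg.pCore p ↥H = ⊥) (Y : Subgroup G) (hY : IsPGroup p ↥Y) (hYH : Y ≤ Subgroup.normalizer (H : Set G)) (L : Subgroup G) (hLF : L ≤ (Cfsg.generalizedFittingSubgroup ↥H).map H.subtype) (hLsn : (L.subgroupOf H).IsSubnormal) (hYL : Y ≤ Subgroup.normalizer (L : Set G)) : ⁅L, Y⁆ ⊔ (L ⊓ Subgroup.centralizer (Y : Set G)) = L ∧ ⁅L, Y⁆ = ⁅⁅L, Y⁆, Y⁆ := by
  have hLH : L ≤ H := hLF.trans (Subgroup.map_subtype_le _)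
  set S := L.subgroupOf H with hS
  have hSmap : S.map H.subtype = L := Subgroup.map_subgroupOf_eq_of_le hLH
  have hSF : S ≤ Cfsg.generalizedFittingSubgroup ↥H := by
    intro x hx
    obtain ⟨y, hy, hyx⟩ := hLF (show (x : G) ∈ L from hx)
    have : y = x := Subtype.ext hyx
    rwa [this] at hy
  haveI hFchar : (Cfsg.fittingSubgroup ↥H).Characteristic :=
    Cfsg.Agent.Helper7.fittingSubgroup_characteristic
  refine abstract_splitting (F₁ := (Cfsg.fittingSubgroup ↥H).map H.subtype ⊓ L)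
    {K' | ∃ K : Subgroup ↥H, Cfsg.IsComponent K ∧ K.map H.subtype = K' ∧ K' ≤ L} hY hYL
    ?_ ?_ ?_ ?_ inf_le_right ?_ ?_ ?_
  · rintro K' ⟨K, _, _, h⟩
    exact h
  · rintro K' ⟨K, hK, rfl, _⟩
    exact (Cfsg.Agent.Helper7.isQuasisimple_map_subtype K).mpr hK.2
  · rintro K₁' ⟨K₁, hK₁, rfl, _⟩ K₂' ⟨K₂, hK₂, rfl, _⟩ hne
    have hne' : K₁ ≠ K₂ := fun h => hne (by rw [h])
    rw [← Subgroup.map_commutator,
      Cfsg.Agent.Helper7.component_commutator_eq_bot_of_ne hK₁ hK₂ hne', Subgroup.map_bot]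
  · rintro K' ⟨K, hK, rfl, hKL⟩ y hy
    refine ⟨K.map (H.normalizerMonoidHom ⟨y, hYH hy⟩ : ↥H ≃* ↥H).toMonoidHom,
      Cfsg.Agent.Helper7.isComponent_map_mulEquiv _ hK,
      map_normalizerMonoidHom_map_subtype H y (hYH hy) K, ?_⟩
    rw [← conj_smul_eq_of_mem_normalizer (hYL hy)]
    exact Subgroup.pointwise_smul_le_pointwise_smul_iff.mpr hKL
  · refine le_trans (le_inf ?_ hYL) Subgroup.inf_normalizer_le_normalizer_inf
    exact hYH.trans
      (Cfsg.Agent.Helper10.normalizer_le_normalizer_map_of_characteristic H _)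
  · have h1 : Nat.card ↥((Cfsg.fittingSubgroup ↥H).map H.subtype) =
        Nat.card ↥(Cfsg.fittingSubgroup ↥H) :=
      Nat.card_congr ((Cfsg.fittingSubgroup ↥H).equivMapOfInjective H.subtype
        H.subtype_injective).symm.toEquiv
    have h2 := card_fittingSubgroup_coprime hO
    rw [← h1] at h2
    exact Nat.Coprime.coprime_dvd_left (Subgroup.card_dvd_of_le inf_le_left) h2
  · have h1 := Cfsg.Agent.Helper7.le_layer_sup_fitting_of_subnormal hLsn hSF
    rw [Cfsg.Agent.Helper7.map_subtype_layer_eq hLsn] at h1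
    have h2 := Subgroup.map_mono (f := H.subtype) h1
    rw [hSmap, Subgroup.map_sup] at h2
    refine h2.trans (sup_le_sup ?_ ?_)
    · rw [Subgroup.map_le_iff_le_comap]
      apply sSup_le
      rintro K ⟨hK, hKS⟩
      rw [← Subgroup.map_le_iff_le_comap]
      refine le_sSup ⟨K, hK, rfl, ?_⟩
      rw [← hSmap]
      exact Subgroup.map_mono hKS
    · refine (Subgroup.map_inf_le _ _ _).trans ?_
      rw [hSmap]

end Cfsg.Agent.S2812
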