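import Mathlib
import Cfsg.Statements.S2813
import Cfsg.Agent.Lib.Helper14.Basic

set_option autoImplicit false
open Cfsg

namespace Cfsg.Agent.S2813

open Cfsg.Agent.Helper14
open scoped commutatorElement

/-- Let K be a subgroup of the finite group H with O_p(K) = 1 and Y a p-subgroup of N_H(K) with [K, Y, Y] = 1. Then [K, Y] = 1. -/
theorem result {H : Type*} [Group H] [Finite H] {p : ℕ} [Fact p.Prime] (K : Subgroup H) (hO : Cfsg.pCore p ↥K = ⊥) (Y : Subgroup H) (hY : IsPGroup p ↥Y) (hYK : Y ≤ Subgroup.normalizer (K : Set H)) (hq : ⁅⁅K, Y⁆, Y⁆ = ⊥) : ⁅K, Y⁆ = ⊥ := by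
  set A : Subgroup H := ⁅K, Y⁆ with hA
  -- A ≤ K
  have hAK : A ≤ K := by
    rw [hA, Subgroup.commutator_le]
    intro k hk y hy
    have hy' := hYK hy
    rw [Subgroup.mem_normalizer_iff] at hy'
    have : y * k⁻¹ * y⁻¹ ∈ K := (hy' k⁻¹).mp (K.inv_mem hk)
    have e : ⁅k, y⁆ = k * (y * k⁻¹ * y⁻¹) := by rw [commutatorElement_def]; group
    rw [e]; exact K.mul_mem hk this
  -- Y centralizes A
  have hYA : ∀ a ∈ A, ∀ y ∈ Y, a * y = y * a := by
    intro a ha y hy
    have : ⁅a, y⁆ ∈ ⁅A, Y⁆ := Subgroup.commutator_mem_commutator ha hy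
    rw [hq, Subgroup.mem_bot, commutatorElement_def] at this
    calc a * y = (a * y * a⁻¹ * y⁻¹) * y * a := by group
      _ = y * a := by rw [this, one_mul]
  -- K normalizes A
  have hKA : ∀ k ∈ K, ∀ a ∈ A, k * a * k⁻¹ ∈ A := by
    intro k hk a ha
    have hmap : A.map (MulAut.conj k).toMonoidHom ≤ A := by
      rw [hA, Subgroup.commutator_def, MonoidHom.map_closure, Subgroup.closure_le]
      rintro _ ⟨g, ⟨k1, hk1, y, hy, rfl⟩, rfl⟩
      have e : (MulAut.conj k).toMonoidHom ⁅k1, y⁆ = ⁅k * k1, y⁆ * ⁅k, y⁆⁻¹ := by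
        simp only [MulEquiv.coe_toMonoidHom, MulAut.conj_apply, commutatorElement_def]; group
      rw [e]
      exact Subgroup.mul_mem _ (Subgroup.commutator_mem_commutator (K.mul_mem hk hk1) hy)
        (Subgroup.inv_mem _ (Subgroup.commutator_mem_commutator hk hy))
    have := hmap (Subgroup.mem_map_of_mem _ ha)
    simpa using this
  -- conjugates of Y by K centralize A
  have hconj : ∀ k ∈ K, ∀ y ∈ Y, ∀ a ∈ A, a * (k * y * k⁻¹) = (k * y * k⁻¹) * a := by
    intro k hk y hy a ha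
    have h1 : k⁻¹ * a * k ∈ A := by
      have := hKA k⁻¹ (K.inv_mem hk) a ha
      simpa using this
    have h2 := hYA _ h1 y hy
    calc a * (k * y * k⁻¹) = k * ((k⁻¹ * a * k) * y) * k⁻¹ := by group
      _ = k * (y * (k⁻¹ * a * k)) * k⁻¹ := by rw [h2]
      _ = (k * y * k⁻¹) * a := by group
  -- generators centralize A
  have hgen : ∀ k ∈ K, ∀ y ∈ Y, ∀ a ∈ A, a * ⁅k, y⁆ = ⁅k, y⁆ * a := by
    intro k hk y hy a ha
    have e : ⁅k, y⁆ = (k * y * k⁻¹) * y⁻¹ := by rw [commutatorElement_def]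
    rw [e]
    have h1 := hconj k hk y hy a ha
    have h2 := hYA a ha y⁻¹ (Y.inv_mem hy)
    calc a * (k * y * k⁻¹ * y⁻¹) = (a * (k * y * k⁻¹)) * y⁻¹ := by group
      _ = (k * y * k⁻¹) * (a * y⁻¹) := by rw [h1]; group
      _ = (k * y * k⁻¹) * (y⁻¹ * a) := by rw [h2]
      _ = k * y * k⁻¹ * y⁻¹ * a := by group
  -- A is abelian
  have hAab : ∀ a ∈ A, ∀ b ∈ A, a * b = b * a := by
    intro a ha b hb
    have : b ∈ Subgroup.centralizer {a} := by
      have hle : A ≤ Subgroup.centralizer {a} := by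
        rw [hA, Subgroup.commutator_def, Subgroup.closure_le]
        rintro _ ⟨k, hk, y, hy, rfl⟩
        rw [SetLike.mem_coe, Subgroup.mem_centralizer_iff]
        intro x hx
        rw [Set.mem_singleton_iff] at hx
        rw [hx]
        exact hgen k hk y hy a ha
      exact hle hb
    rw [Subgroup.mem_centralizer_iff] at this
    exact this a rfl
  -- generators are p-elements
  have hgenp : ∀ k ∈ K, ∀ y ∈ Y, ∃ j : ℕ, ⁅k, y⁆ ^ (p ^ j) = 1 := by
    intro k hk y hy
    obtain ⟨j, hj⟩ := hY ⟨y, hy⟩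
    have hj' : y ^ (p ^ j) = 1 := by
      have := congrArg Subtype.val hj
      simpa using this
    refine ⟨j, ?_⟩
    have hc : Commute ⁅k, y⁆ y := hYA _ (Subgroup.commutator_mem_commutator hk hy) y hy
    have h1 : k * y * k⁻¹ = ⁅k, y⁆ * y := by rw [commutatorElement_def]; group
    have h2 : (k * y * k⁻¹) ^ (p ^ j) = 1 := by rw [conj_pow, hj']; group
    rw [h1, hc.mul_pow, hj', mul_one] at h2
    exact h2
  -- A is a p-group
  have hAp : ∀ a ∈ A, ∃ j : ℕ, a ^ (p ^ j) = 1 := by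
    intro a ha
    have ha' : a ∈ Subgroup.closure {g | ∃ g₁ ∈ K, ∃ g₂ ∈ Y, ⁅g₁, g₂⁆ = g} := by
      rw [← Subgroup.commutator_def]; exact ha
    induction ha' using Subgroup.closure_induction with
    | mem x hx =>
      obtain ⟨k, hk, y, hy, rfl⟩ := hx
      exact hgenp k hk y hy
    | one => exact ⟨0, by simp⟩
    | mul x y hx hy ihx ihy =>
      have hxA : x ∈ A := by rw [hA, Subgroup.commutator_def]; exact hx
      have hyA : y ∈ A := by rw [hA, Subgroup.commutator_def]; exact hy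
      obtain ⟨j1, h1⟩ := ihx hxA
      obtain ⟨j2, h2⟩ := ihy hyA
      refine ⟨j1 + j2, ?_⟩
      have hc : Commute x y := hAab x hxA y hyA
      rw [hc.mul_pow, pow_add, pow_mul, h1, one_pow, one_mul, mul_comm (p ^ j1), pow_mul, h2, one_pow]
    | inv x hx ihx =>
      have hxA : x ∈ A := by rw [hA, Subgroup.commutator_def]; exact hx
      obtain ⟨j, h⟩ := ihx hxA
      exact ⟨j, by rw [inv_pow, h, inv_one]⟩
  -- A.subgroupOf K is a normal p-subgroup of K
  have hsub : A.subgroupOf K ≤ pCore p ↥K := by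
    apply le_pCore
    · constructor
      intro n hn g
      rw [Subgroup.mem_subgroupOf] at hn ⊢
      have := hKA g g.2 n hn
      simpa using this
    · intro x
      obtain ⟨j, hj⟩ := hAp (x : K) x.2
      refine ⟨j, ?_⟩
      apply Subtype.ext
      apply Subtype.ext
      simpa using hj
  rw [hO, le_bot_iff, Subgroup.subgroupOf_eq_bot] at hsub
  exact disjoint_iff.mp hsub ▸ (inf_eq_left.mpr hAK).symm

end Cfsg.Agent.S2813
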