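import Mathlib
import Cfsg.Statements.S2814
import Cfsg.Agent.Lib.Helper14.SubnormalClosure
import Cfsg.Agent.Lib.Helper14.PReducedAmb
import Cfsg.Agent.Lib.Helper10.PResidual
import Cfsg.Agent.Lib.Helper1.CommutatorBasic

set_option autoImplicit false
open Cfsg

namespace Cfsg.Agent.S2814

open Cfsg.Agent.Helper14
open scoped commutatorElement

/-- Let A be a subgroup of the finite group H and K the subnormal closure of A (intersection of the subnormal subgroups containing A). Then K is the normal closure of A inside K and N_H(A) ≤ N_H(K); K = A·O^p(K), O^p(K) being generated by the elements of K of order prime to p; and if A is a p-group, O^p(K) = [O^p(K), A]. -/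
theorem result {H : Type*} [Group H] [Finite H] {p : ℕ} [Fact p.Prime] (A : Subgroup H) (K : Subgroup H) (hK : K = Cfsg.subnormalClosure A) : (Subgroup.normalClosure ((A.subgroupOf K : Subgroup ↥K) : Set ↥K)).map K.subtype = K ∧ Subgroup.normalizer (A : Set H) ≤ Subgroup.normalizer (K : Set H) ∧ A ⊔ (Cfsg.pResidual p ↥K).map K.subtype = K ∧ (IsPGroup p ↥A → ⁅(Cfsg.pResidual p ↥K).map K.subtype, A⁆ = (Cfsg.pResidual p ↥K).map K.subtype) := by
  have hAK : A ≤ K := hK ▸ le_subnormalClosure A
  have hKsn : K.IsSubnormal := hK ▸ subnormalClosure_isSubnormal A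
  have hmin : ∀ M : Subgroup H, A ≤ M → M.IsSubnormal → K ≤ M := fun M hAM hM => hK ▸ subnormalClosure_le hAM hM
  have hA'map : (A.subgroupOf K).map K.subtype = A := by
    rw [Subgroup.subgroupOf_map_subtype, inf_of_le_left hAK]
  set R' := Cfsg.pResidual p ↥K with hR'
  haveI hR'n : R'.Normal := Cfsg.Agent.Helper10.pResidual_normal p ↥K
  set R := R'.map K.subtype with hR
  have hRK : R ≤ K := Subgroup.map_subtype_le _
  have hKR : K ≤ Subgroup.normalizer (R : Set H) := le_normalizer_map_subtype_of_normal hR'n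
  -- (iii)
  have h3 : A ⊔ R = K := by
    apply le_antisymm (sup_le hAK hRK)
    have hp : IsPGroup p (↥K ⧸ R') := Cfsg.Agent.Helper10.isPGroup_quotient_pResidual
    haveI : Group.IsNilpotent (↥K ⧸ R') := hp.isNilpotent
    have h1 : (((A.subgroupOf K).map (QuotientGroup.mk' R')).comap (QuotientGroup.mk' R')).IsSubnormal :=
      (isSubnormal_of_isNilpotent _).comap _
    rw [Subgroup.comap_map_eq, QuotientGroup.ker_mk'] at h1
    have h2 := h1.trans' hKsn
    rw [Subgroup.map_sup, hA'map] at h2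
    exact hmin _ le_sup_left h2
  refine ⟨?_, ?_, h3, ?_⟩
  · -- (i)
    apply le_antisymm (Subgroup.map_subtype_le _)
    apply hmin
    · intro a ha
      exact ⟨⟨a, hAK ha⟩, Subgroup.subset_normalClosure (Subgroup.mem_subgroupOf.mpr ha), rfl⟩
    · exact (Subgroup.normalClosure_normal.isSubnormal).trans' hKsn
  · -- (ii)
    rw [hK]
    exact normalizer_le_normalizer_subnormalClosure A
  · -- (iv)
    intro hAp
    set R₀ := ⁅R, A⁆ with hR₀
    have hR₀R : R₀ ≤ R := Cfsg.Agent.Helper1.commutator_le_of_le_normalizer (hAK.trans hKR)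
    apply le_antisymm hR₀R
    have hRR₀ : R ≤ Subgroup.normalizer (R₀ : Set H) := Cfsg.Agent.Helper1.le_normalizer_commutator_left R A
    have hAR₀ : A ≤ Subgroup.normalizer (R₀ : Set H) := Cfsg.Agent.Helper1.le_normalizer_commutator_right R A
    have hKR₀ : K ≤ Subgroup.normalizer (R₀ : Set H) := by
      rw [← h3]; exact sup_le hAR₀ hRR₀
    -- `A ⊔ R₀` is normal in `K`
    have hKAR₀ : K ≤ Subgroup.normalizer ((A ⊔ R₀ : Subgroup H) : Set H) := by
      rw [← h3]
      apply sup_le
      · exact le_normalizer_sup Subgroup.le_normalizer hAR₀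
      · apply le_normalizer_of_conj_mem
        intro r hr x hx
        obtain ⟨a, ha, b, hb, rfl⟩ := (mem_sup_of_le_normalizer hAR₀).mp hx
        have h1 : r * a * r⁻¹ = ⁅r, a⁆ * a := by rw [commutatorElement_def]; group
        have h2 : r * b * r⁻¹ ∈ R₀ := (Subgroup.mem_normalizer_iff.mp (hRR₀ hr) b).mp hb
        have e : r * (a * b) * r⁻¹ = (r * a * r⁻¹) * (r * b * r⁻¹) := by group
        rw [e, h1]
        apply Subgroup.mul_mem _ _ (Subgroup.mem_sup_right h2)
        exact Subgroup.mul_mem _ (Subgroup.mem_sup_right (Subgroup.commutator_mem_commutator hr ha))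
          (Subgroup.mem_sup_left ha)
    have hAR₀K : A ⊔ R₀ ≤ K := sup_le hAK (hR₀R.trans hRK)
    have hsn : (A ⊔ R₀).IsSubnormal :=
      Subgroup.IsSubnormal.step _ K hAR₀K hKsn ((Subgroup.normal_subgroupOf_iff_le_normalizer hAR₀K).mpr hKAR₀)
    have hKle : K ≤ A ⊔ R₀ := hmin _ le_sup_left hsn
    -- every `p'`-element of `K` lies in `R₀`
    rw [hR, hR', Cfsg.pResidual, MonoidHom.map_closure, Subgroup.closure_le]
    rintro _ ⟨g, hg, rfl⟩
    have hgc : (orderOf (g : H)).Coprime p := by
      rw [Subgroup.orderOf_coe]; exact hg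
    obtain ⟨a, ha, b, hb, hgab⟩ := (mem_sup_of_le_normalizer hAR₀).mp (hKle g.2)
    -- powers of `g` are congruent to powers of `a` modulo `R₀`
    have key : ∀ n : ℕ, ∃ c ∈ R₀, (g : H) ^ n = a ^ n * c := by
      intro n
      induction n with
      | zero => exact ⟨1, R₀.one_mem, by simp⟩
      | succ n ih =>
        obtain ⟨c, hc, hn⟩ := ih
        have h1 : a⁻¹ * c * a⁻¹⁻¹ ∈ R₀ :=
          (Subgroup.mem_normalizer_iff.mp (hAR₀ (A.inv_mem ha)) c).mp hc
        refine ⟨(a⁻¹ * c * a⁻¹⁻¹) * b, R₀.mul_mem h1 hb, ?_⟩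
        rw [pow_succ, hn, pow_succ]
        show a ^ n * c * (K.subtype g) = _
        rw [show K.subtype g = a * b from hgab]
        group
    obtain ⟨j, hj⟩ := hAp ⟨a, ha⟩
    have hj' : a ^ (p ^ j) = 1 := by
      have := congrArg Subtype.val hj
      simpa using this
    obtain ⟨c, hc, hgc'⟩ := key (p ^ j)
    rw [hj', one_mul] at hgc'
    -- `g` is a power of `g ^ (p ^ j)`
    have hcop : (orderOf (g : H)).Coprime (p ^ j) := Nat.Coprime.pow_right j hgc
    obtain ⟨m, hm⟩ := exists_pow_eq_self_of_coprime hcop.symm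
    show (g : H) ∈ R₀
    rw [← hm, hgc']
    exact R₀.pow_mem hc m

end Cfsg.Agent.S2814
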