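import Mathlib
import Cfsg.Statements.S2816
import Cfsg.Agent.Lib.Helper14.FStarAct2
import Cfsg.Agent.Lib.Helper14.PReducedSub

set_option autoImplicit false
open Cfsg

namespace Cfsg.Agent.S2816

open Cfsg.Agent.Helper14
open scoped commutatorElement

/-- Let H be a finite group and p a prime with O_p(H) = 1, and Y a p-subgroup of H. Then for every subnormal subgroup K of H containing Y, [F*(H), Y] = [F*(K), Y] = [F*(K), Y, Y]; and if Y₀ ≤ Y with [F*(H), Y, Y₀] = 1 then Y₀ = 1 (in particular [F*(H), Y] = 1 forces Y = 1). -/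
theorem result {H : Type*} [Group H] [Finite H] {p : ℕ} [Fact p.Prime] (hO : Cfsg.pCore p H = ⊥) (Y : Subgroup H) (hY : IsPGroup p ↥Y) : (∀ K : Subgroup H, K.IsSubnormal → Y ≤ K → ⁅Cfsg.generalizedFittingSubgroup H, Y⁆ = ⁅(Cfsg.generalizedFittingSubgroup ↥K).map K.subtype, Y⁆ ∧ ⁅(Cfsg.generalizedFittingSubgroup ↥K).map K.subtype, Y⁆ = ⁅⁅(Cfsg.generalizedFittingSubgroup ↥K).map K.subtype, Y⁆, Y⁆) ∧ (∀ Y₀ : Subgroup H, Y₀ ≤ Y → ⁅⁅Cfsg.generalizedFittingSubgroup H, Y⁆, Y₀⁆ = ⊥ → Y₀ = ⊥) := by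
  have hXn : (Cfsg.generalizedFittingSubgroup H).Normal :=
    Cfsg.Agent.Helper7.generalizedFittingSubgroup_normal
  set X := Cfsg.generalizedFittingSubgroup H with hXdef
  have hYX : Y ≤ Subgroup.normalizer (X : Set H) := by
    rw [Subgroup.normalizer_eq_top]; exact le_top
  have hX := splitting_of_subnormal hO hY hXn.isSubnormal le_rfl hYX
  have hNX : ⁅X, Y⁆ ≤ X := Cfsg.Agent.Helper1.commutator_le_of_le_normalizer hYX
  refine ⟨?_, ?_⟩
  · intro K hK hYK
    set XK := (Cfsg.generalizedFittingSubgroup ↥K).map K.subtype with hXK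
    have hXK_le : XK ≤ X := map_fstar_le_of_isSubnormal hK
    have hXK_sn : XK.IsSubnormal :=
      (Cfsg.Agent.Helper7.generalizedFittingSubgroup_normal (G := ↥K)).isSubnormal.trans' hK
    have hY_XK : Y ≤ Subgroup.normalizer (XK : Set H) :=
      hYK.trans (le_normalizer_map_subtype_of_normal
        (Cfsg.Agent.Helper7.generalizedFittingSubgroup_normal (G := ↥K)))
    have hK2 := splitting_of_subnormal hO hY hXK_sn hXK_le hY_XK
    refine ⟨?_, hK2.2⟩
    apply le_antisymm _ (Subgroup.commutator_mono hXK_le le_rfl)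
    have h1 : ⁅X, Y⁆ ≤ K := le_of_commutator_eq_of_isSubnormal hK hYK hX.2.symm
    have h2 : ⁅X, Y⁆ ≤ XK := (le_inf hNX h1).trans (fstar_inf_le_of_isSubnormal hK)
    calc ⁅X, Y⁆ = ⁅⁅X, Y⁆, Y⁆ := hX.2
      _ ≤ ⁅XK, Y⁆ := Subgroup.commutator_mono h2 le_rfl
  · intro Y₀ hY₀ h
    apply eq_bot_of_isPGroup_of_le_centralizer_fstar hO (hY.to_le hY₀)
    rw [Subgroup.le_centralizer_iff]
    change X ≤ Subgroup.centralizer (Y₀ : Set H)
    calc X = ⁅X, Y⁆ ⊔ (X ⊓ Subgroup.centralizer (Y : Set H)) := hX.1.symm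
      _ ≤ Subgroup.centralizer (Y₀ : Set H) := by
        apply sup_le
        · exact Subgroup.commutator_eq_bot_iff_le_centralizer.mp h
        · exact inf_le_right.trans (Subgroup.centralizer_le hY₀)

end Cfsg.Agent.S2816
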