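import Mathlib
import Cfsg.Statements.S2817
import Cfsg.Agent.Lib.Helper14.FStarAct2
import Cfsg.Agent.Lib.Helper14.FStarAct3
import Cfsg.Agent.Lib.Helper14.Normalize
import Cfsg.Agent.Lib.Helper15.ChermakDelgado
import Cfsg.Agent.Lib.Helper7.Coprime
import Cfsg.Agent.Lib.Helper7.FStar2
import Cfsg.Agent.S0026

set_option autoImplicit false
open Cfsg

namespace Cfsg.Agent.S2817

open Cfsg.Agent.Helper14
open scoped commutatorElement

section general
variable {H : Type*} [Group H]

theorem le_normalizer_sup {K A B : Subgroup H} (hA : K ≤ Subgroup.normalizer (A : Set H))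
    (hB : K ≤ Subgroup.normalizer (B : Set H)) :
    K ≤ Subgroup.normalizer ((A ⊔ B : Subgroup H) : Set H) := by
  apply le_normalizer_of_map_conj_le
  intro g hg
  rw [Subgroup.map_sup, map_conj_eq_self_of_le_normalizer hA hg,
    map_conj_eq_self_of_le_normalizer hB hg]

/-- `[A ⊔ B, Q] ≤ Z` when `[A, Q], [B, Q] ≤ Z` and `A, B` normalize `Z`. -/
theorem commutator_sup_le_of_le_normalizer {A B Q Z : Subgroup H}
    (hA : ⁅A, Q⁆ ≤ Z) (hB : ⁅B, Q⁆ ≤ Z) (hAZ : A ≤ Subgroup.normalizer (Z : Set H))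
    (hBZ : B ≤ Subgroup.normalizer (Z : Set H)) : ⁅A ⊔ B, Q⁆ ≤ Z := by
  let W : Subgroup H :=
    { carrier := {x | x ∈ Subgroup.normalizer (Z : Set H) ∧ ∀ q ∈ Q, ⁅x, q⁆ ∈ Z}
      one_mem' := ⟨Subgroup.one_mem _, fun q _ => by
        rw [commutatorElement_one_left]; exact Z.one_mem⟩
      mul_mem' := by
        rintro x y ⟨hx, hxq⟩ ⟨hy, hyq⟩
        refine ⟨Subgroup.mul_mem _ hx hy, fun q hq => ?_⟩
        have e : ⁅x * y, q⁆ = x * ⁅y, q⁆ * x⁻¹ * ⁅x, q⁆ := by
          simp only [commutatorElement_def]; group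
        rw [e]
        exact Z.mul_mem ((Subgroup.mem_normalizer_iff.mp hx _).mp (hyq q hq)) (hxq q hq)
      inv_mem' := by
        rintro x ⟨hx, hxq⟩
        refine ⟨Subgroup.inv_mem _ hx, fun q hq => ?_⟩
        have e : ⁅x⁻¹, q⁆ = x⁻¹ * ⁅x, q⁆⁻¹ * x⁻¹⁻¹ := by
          simp only [commutatorElement_def]; group
        rw [e]
        exact (Subgroup.mem_normalizer_iff.mp (Subgroup.inv_mem _ hx) _).mp
          (Z.inv_mem (hxq q hq)) }
  have hW : A ⊔ B ≤ W := sup_le
    (fun a ha => ⟨hAZ ha, fun q hq => hA (Subgroup.commutator_mem_commutator ha hq)⟩)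
    (fun b hb => ⟨hBZ hb, fun q hq => hB (Subgroup.commutator_mem_commutator hb hq)⟩)
  rw [Subgroup.commutator_le]
  intro x hx q hq
  exact (hW hx).2 q hq

/-- Part (a): the largest `Q`-centralized normal subgroup of `X` is `C_X(LQ)`, `L = [X, Q]`. -/
theorem part_a (X Q F : Subgroup H) [hXn : X.Normal]
    (hF : F ≤ X ∧ X ≤ Subgroup.normalizer (F : Set H) ∧ Q ≤ Subgroup.centralizer (F : Set H) ∧
      ∀ N : Subgroup H, N ≤ X → X ≤ Subgroup.normalizer (N : Set H) →
        Q ≤ Subgroup.centralizer (N : Set H) → N ≤ F) :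
    F = X ⊓ Subgroup.centralizer ((⁅X, Q⁆ ⊔ Q : Subgroup H) : Set H) := by
  obtain ⟨hFX, hXF, hQF, hmax⟩ := hF
  set L := ⁅X, Q⁆ with hL
  have hXL : X ≤ Subgroup.normalizer (L : Set H) :=
    Cfsg.Agent.Helper1.le_normalizer_commutator_left X Q
  apply le_antisymm
  · refine le_inf hFX ?_
    rw [Subgroup.le_centralizer_iff]
    refine sup_le ?_ hQF
    rw [← Subgroup.commutator_eq_bot_iff_le_centralizer]
    have h1 : ⁅⁅Q, F⁆, X⁆ = ⊥ := by
      rw [Subgroup.commutator_eq_bot_iff_le_centralizer.mpr hQF, Subgroup.commutator_bot_left]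
    have h2 : ⁅⁅F, X⁆, Q⁆ = ⊥ := by
      rw [eq_bot_iff]
      have h3 : ⁅F, X⁆ ≤ F := Cfsg.Agent.Helper1.commutator_le_of_le_normalizer hXF
      have h4 : ⁅F, Q⁆ = ⊥ := by
        rw [Subgroup.commutator_comm]
        exact Subgroup.commutator_eq_bot_iff_le_centralizer.mpr hQF
      exact (Subgroup.commutator_mono h3 le_rfl).trans (le_of_eq h4)
    exact Subgroup.commutator_commutator_eq_bot_of_rotate h1 h2
  · apply hmax _ inf_le_left
    · -- `X` normalizes `C_X(LQ)`
      apply le_normalizer_of_conj_mem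
      intro x hx c hc
      obtain ⟨hcX, hcC⟩ := Subgroup.mem_inf.mp hc
      rw [Cfsg.Agent.Helper15.centralizer_sup] at hcC
      obtain ⟨hcL, hcQ⟩ := Subgroup.mem_inf.mp hcC
      have hxcL : x * c * x⁻¹ ∈ Subgroup.centralizer (L : Set H) :=
        (Subgroup.mem_normalizer_iff.mp
          ((le_normalizer_centralizer_of_le_normalizer hXL) hx) c).mp hcL
      refine Subgroup.mem_inf.mpr ⟨hXn.conj_mem c hcX x, ?_⟩
      rw [Cfsg.Agent.Helper15.centralizer_sup]
      refine Subgroup.mem_inf.mpr ⟨hxcL, ?_⟩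
      rw [Subgroup.mem_centralizer_iff]
      intro q hq
      -- `q x q⁻¹ x⁻¹ ∈ L` commutes with `x c x⁻¹`; `q` commutes with `c`
      have h1 : q * x * q⁻¹ * x⁻¹ ∈ L := by
        have : q * x * q⁻¹ * x⁻¹ = ⁅x, q⁆⁻¹ := by
          simp only [commutatorElement_def]; group
        rw [this]
        exact L.inv_mem (Subgroup.commutator_mem_commutator hx hq)
      have h2 : (q * x * q⁻¹ * x⁻¹) * (x * c * x⁻¹) = (x * c * x⁻¹) * (q * x * q⁻¹ * x⁻¹) :=
        (Subgroup.mem_centralizer_iff.mp hxcL) _ h1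
      have h3 : q * c = c * q := (Subgroup.mem_centralizer_iff.mp hcQ) q hq
      calc q * (x * c * x⁻¹) = (q * x * q⁻¹ * x⁻¹) * x * (q * c) * x⁻¹ := by group
        _ = (q * x * q⁻¹ * x⁻¹) * x * (c * q) * x⁻¹ := by rw [h3]
        _ = ((q * x * q⁻¹ * x⁻¹) * (x * c * x⁻¹)) * (q * x * q⁻¹ * x⁻¹)⁻¹ * q := by group
        _ = ((x * c * x⁻¹) * (q * x * q⁻¹ * x⁻¹)) * (q * x * q⁻¹ * x⁻¹)⁻¹ * q := by rw [h2]
        _ = x * c * x⁻¹ * q := by group
    · rw [Subgroup.le_centralizer_iff]
      exact inf_le_right.trans (Subgroup.centralizer_le (SetLike.coe_subset_coe.2 le_sup_right))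

end general

section finite
variable {H : Type*} [Group H] [Finite H]

/-- a subnormal subgroup of `F*(H)` is generated by `F(H) ∩ L` and `L'` -/
theorem le_fitting_inf_sup_commutator {L : Subgroup H} (hLsn : L.IsSubnormal)
    (hLX : L ≤ Cfsg.generalizedFittingSubgroup H) :
    L ≤ (Cfsg.fittingSubgroup H ⊓ L) ⊔ ⁅L, L⁆ := by
  have h1 := Cfsg.Agent.Helper7.le_layer_sup_fitting_of_subnormal hLsn hLX
  refine h1.trans ?_
  rw [sup_comm]
  refine sup_le_sup le_rfl ?_
  have h2 : ⁅Cfsg.layer ↥L, Cfsg.layer ↥L⁆ = Cfsg.layer ↥L := Cfsg.Agent.Helper7.layer_perfect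
  rw [← h2, Subgroup.map_commutator]
  exact Subgroup.commutator_mono (Subgroup.map_subtype_le _) (Subgroup.map_subtype_le _)

theorem coprime_card_of_isPGroup {p : ℕ} [Fact p.Prime] {A B : Subgroup H} (hA : IsPGroup p ↥A)
    (hB : (Nat.card ↥B).Coprime p) : (Nat.card ↥A).Coprime (Nat.card ↥B) := by
  obtain ⟨n, hn⟩ := hA.exists_card_eq
  rw [hn]
  exact (Nat.Coprime.pow_right n hB).symm

/-- `[F*(H), Q] ≤ E(H) [F(H), Q]` -/
theorem commutator_fstar_le (Q : Subgroup H) :
    ⁅Cfsg.generalizedFittingSubgroup H, Q⁆ ≤ Cfsg.layer H ⊔ ⁅Cfsg.fittingSubgroup H, Q⁆ := by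
  haveI hEn : (Cfsg.layer H).Normal := Cfsg.Agent.Helper7.layer_normal
  haveI hF₀n : (Cfsg.fittingSubgroup H).Normal := Cfsg.Agent.Helper7.fittingSubgroup_normal'
  set E := Cfsg.layer H with hE
  set F₀ := Cfsg.fittingSubgroup H with hF₀
  have htop : ∀ (A : Subgroup H) [A.Normal] (B : Subgroup H),
      B ≤ Subgroup.normalizer (A : Set H) := fun A _ B => by
    rw [Subgroup.normalizer_eq_top]; exact le_top
  have hEF₀ : E ≤ Subgroup.centralizer (F₀ : Set H) :=
    Subgroup.commutator_eq_bot_iff_le_centralizer.mp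
      Cfsg.Agent.Helper7.layer_commutator_fittingSubgroup
  have hR₀F₀ : ⁅F₀, Q⁆ ≤ F₀ := Cfsg.Agent.Helper1.commutator_le_of_le_normalizer (htop F₀ Q)
  have hER₀ : E ≤ Subgroup.normalizer ((⁅F₀, Q⁆ : Subgroup H) : Set H) :=
    (hEF₀.trans (Subgroup.centralizer_le (SetLike.coe_subset_coe.2 hR₀F₀))).trans
      (Cfsg.Agent.Helper1.centralizer_le_normalizer _)
  unfold Cfsg.generalizedFittingSubgroup
  apply commutator_sup_le_of_le_normalizer
  · exact (Cfsg.Agent.Helper1.commutator_le_of_le_normalizer (htop E Q)).trans le_sup_left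
  · exact le_sup_right
  · exact le_normalizer_sup (htop E E) hER₀
  · exact le_normalizer_sup (htop E F₀) (Cfsg.Agent.Helper1.le_normalizer_commutator_left F₀ Q)

end finite

/-- Let H be a finite group and p a prime with O_p(H) = 1, Q a p-subgroup of H, L = [F*(H), Q], and F the largest normal subgroup of F*(H) centralized by Q (a normal subgroup of F*(H) centralized by Q and containing every such). Then F = C_{F*(H)}(LQ); L = [L, Q]; L ∩ F ≤ Φ(L); every p-subgroup B of N_H(Q) with [L, B] ≤ F satisfies [L, B] = 1; and C_H(FL) has order prime to p. -/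
theorem result {H : Type*} [Group H] [Finite H] {p : ℕ} [Fact p.Prime] (hO : Cfsg.pCore p H = ⊥) (Q : Subgroup H) (hQ : IsPGroup p ↥Q) (L : Subgroup H) (hL : L = ⁅Cfsg.generalizedFittingSubgroup H, Q⁆) (F : Subgroup H) (hF : F ≤ Cfsg.generalizedFittingSubgroup H ∧ Cfsg.generalizedFittingSubgroup H ≤ Subgroup.normalizer (F : Set H) ∧ Q ≤ Subgroup.centralizer (F : Set H) ∧ ∀ N : Subgroup H, N ≤ Cfsg.generalizedFittingSubgroup H → Cfsg.generalizedFittingSubgroup H ≤ Subgroup.normalizer (N : Set H) → Q ≤ Subgroup.centralizer (N : Set H) → N ≤ F) : F = Cfsg.generalizedFittingSubgroup H ⊓ Subgroup.centralizer ((L ⊔ Q : Subgroup H) : Set H) ∧ ⁅L, Q⁆ = L ∧ L ⊓ F ≤ (frattini ↥L).map L.subtype ∧ (∀ B : Subgroup H, IsPGroup p ↥B → B ≤ Subgroup.normalizer (Q : Set H) → ⁅L, B⁆ ≤ F → ⁅L, B⁆ = ⊥) ∧ (Nat.card ↥(Subgroup.centralizer ((F ⊔ L : Subgroup H) : Set H))).Coprime p := by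
  have hp : p.Prime := Fact.out
  haveI hXn : (Cfsg.generalizedFittingSubgroup H).Normal :=
    Cfsg.Agent.Helper7.generalizedFittingSubgroup_normal
  haveI hEn : (Cfsg.layer H).Normal := Cfsg.Agent.Helper7.layer_normal
  haveI hF₀n : (Cfsg.fittingSubgroup H).Normal := Cfsg.Agent.Helper7.fittingSubgroup_normal'
  have htop : ∀ (A : Subgroup H) [A.Normal] (B : Subgroup H),
      B ≤ Subgroup.normalizer (A : Set H) := fun A _ B => by
    rw [Subgroup.normalizer_eq_top]; exact le_top
  have hFa := part_a (Cfsg.generalizedFittingSubgroup H) Q F hF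
  have hLER := commutator_fstar_le (H := H) Q
  rw [← hL] at hFa hLER
  set X := Cfsg.generalizedFittingSubgroup H with hX
  set E := Cfsg.layer H with hE
  set F₀ := Cfsg.fittingSubgroup H with hF₀
  have hEX : E ≤ X := Cfsg.Agent.Helper7.layer_le_generalizedFittingSubgroup
  have hF₀X : F₀ ≤ X := Cfsg.Agent.Helper7.fittingSubgroup_le_generalizedFittingSubgroup
  have hF₀p : (Nat.card ↥F₀).Coprime p := card_fittingSubgroup_coprime hO
  have hEF₀ : E ≤ Subgroup.centralizer (F₀ : Set H) :=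
    Subgroup.commutator_eq_bot_iff_le_centralizer.mp
      Cfsg.Agent.Helper7.layer_commutator_fittingSubgroup
  have hQX : Q ≤ Subgroup.normalizer (X : Set H) := htop X Q
  have hsplit := splitting_of_subnormal hO hQ hXn.isSubnormal le_rfl hQX
  rw [← hL] at hsplit
  have hLX : L ≤ X := by
    rw [hL]; exact Cfsg.Agent.Helper1.commutator_le_of_le_normalizer hQX
  have hXL : X ≤ Subgroup.normalizer (L : Set H) := by
    rw [hL]; exact Cfsg.Agent.Helper1.le_normalizer_commutator_left X Q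
  have hQL : Q ≤ Subgroup.normalizer (L : Set H) := by
    rw [hL]; exact Cfsg.Agent.Helper1.le_normalizer_commutator_right X Q
  have hLQ : ⁅L, Q⁆ = L := hsplit.2.symm
  have hLsn : L.IsSubnormal := Subgroup.IsSubnormal.step L X hLX hXn.isSubnormal
    ((Subgroup.normal_subgroupOf_iff_le_normalizer hLX).mpr hXL)
  set R := F₀ ⊓ L with hR
  have hRL : R ≤ L := inf_le_right
  have hRp : (Nat.card ↥R).Coprime p :=
    Nat.Coprime.coprime_dvd_left (Subgroup.card_dvd_of_le inf_le_left) hF₀p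
  have hLR : L ≤ R ⊔ ⁅L, L⁆ := le_fitting_inf_sup_commutator hLsn hLX
  have hfix : L ⊓ Subgroup.centralizer (Q : Set H) ≤ ⁅L, L⁆ :=
    inf_centralizer_le_commutator_self hQ hQL hLQ hRL hRp hLR
  have hFc : F ≤ Subgroup.centralizer (L : Set H) ⊓ Subgroup.centralizer (Q : Set H) := by
    rw [← Cfsg.Agent.Helper15.centralizer_sup]
    rw [hFa]
    exact inf_le_right
  have hDL' : L ⊓ F ≤ ⁅L, L⁆ :=
    (le_inf inf_le_left (inf_le_right.trans (hFc.trans inf_le_right))).trans hfix
  have hDc : L ⊓ F ≤ Subgroup.centralizer (L : Set H) :=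
    inf_le_right.trans (hFc.trans inf_le_left)
  refine ⟨hFa, hLQ, le_map_frattini_of_le_centralizer_of_le_commutator hDc hDL', ?_, ?_⟩
  · intro B hB hBQ hLB
    have hBL : B ≤ Subgroup.normalizer (L : Set H) := by
      rw [hL]
      exact (le_inf (htop X B) hBQ).trans
        (Cfsg.Agent.Helper1.normalizer_inf_normalizer_le_normalizer_commutator X Q)
    have h1 : ⁅L, B⁆ ≤ L ⊓ F :=
      le_inf (Cfsg.Agent.Helper1.commutator_le_of_le_normalizer hBL) hLB
    have h2 : ⁅⁅L, B⁆, L⁆ = ⊥ := by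
      rw [Subgroup.commutator_eq_bot_iff_le_centralizer]
      exact h1.trans hDc
    have h3 : ⁅⁅B, L⁆, L⁆ = ⊥ := by rw [Subgroup.commutator_comm B L]; exact h2
    have h4 : ⁅⁅L, L⁆, B⁆ = ⊥ := Subgroup.commutator_commutator_eq_bot_of_rotate h2 h3
    have h5 : ⁅L, L⁆ ≤ Subgroup.centralizer (B : Set H) :=
      Subgroup.commutator_eq_bot_iff_le_centralizer.mp h4
    have hBR : B ≤ Subgroup.normalizer (R : Set H) := le_normalizer_inf (htop F₀ B) hBL
    have h6 : ⁅⁅R, B⁆, B⁆ = ⊥ := by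
      rw [eq_bot_iff, ← h4]
      exact Subgroup.commutator_mono
        (((Subgroup.commutator_mono hRL le_rfl).trans h1).trans hDL') le_rfl
    have h7 : R ≤ Subgroup.centralizer (B : Set H) :=
      Cfsg.Agent.Helper7.le_centralizer_of_commutator_commutator_eq_bot
        (coprime_card_of_isPGroup hB hRp) hBR h6
    rw [Subgroup.commutator_eq_bot_iff_le_centralizer]
    exact hLR.trans (sup_le h7 h5)
  · rw [Nat.coprime_comm, Nat.Prime.coprime_iff_not_dvd hp]
    intro hdvd
    set C := Subgroup.centralizer ((F ⊔ L : Subgroup H) : Set H) with hC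
    obtain S : Sylow p ↥C := default
    have hSne := S.ne_bot_of_dvd_card hdvd
    set P := (S : Subgroup ↥C).map C.subtype with hP
    have hPp : IsPGroup p ↥P := S.isPGroup'.map _
    have hPC : P ≤ C := Subgroup.map_subtype_le _
    have hPc : P ≤ Subgroup.centralizer (F : Set H) ⊓ Subgroup.centralizer (L : Set H) := by
      rw [← Cfsg.Agent.Helper15.centralizer_sup]; exact hPC
    have hFP : F ≤ Subgroup.centralizer (P : Set H) :=
      Subgroup.le_centralizer_iff.mp (hPc.trans inf_le_left)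
    have hLP : L ≤ Subgroup.centralizer (P : Set H) :=
      Subgroup.le_centralizer_iff.mp (hPc.trans inf_le_right)
    suffices hXP : X ≤ Subgroup.centralizer (P : Set H) by
      have hPbot : P = ⊥ :=
        eq_bot_of_isPGroup_of_le_centralizer_fstar hO hPp (Subgroup.le_centralizer_iff.mp hXP)
      exact hSne ((Subgroup.map_eq_bot_iff_of_injective _ C.subtype_injective).mp hPbot)
    -- the layer
    have hEP : E ≤ Subgroup.centralizer (P : Set H) := by
      rw [hE]
      unfold Cfsg.layer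
      apply sSup_le
      intro K hK
      rcases component_le_commutator_or_le_centralizer (Y := Q) hK with h | h
      · rw [← hX, ← hL] at h
        exact h.trans hLP
      · have hKE : K ≤ E := Cfsg.Agent.Helper7.component_le_layer hK
        have hF₀K : F₀ ≤ Subgroup.normalizer (K : Set H) := by
          have := Cfsg.Agent.Helper7.component_commutator_fittingSubgroup hK
          rw [Subgroup.commutator_comm, Subgroup.commutator_eq_bot_iff_le_centralizer] at this
          exact this.trans (Cfsg.Agent.Helper1.centralizer_le_normalizer K)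
        have hXK : X ≤ Subgroup.normalizer (K : Set H) := by
          rw [hX]
          unfold Cfsg.generalizedFittingSubgroup
          exact sup_le (Cfsg.Agent.Helper7.layer_le_normalizer_component hK) hF₀K
        exact (hF.2.2.2 K (hKE.trans hEX) hXK (Subgroup.le_centralizer_iff.mp h)).trans hFP
    -- the Fitting subgroup
    set R₀ := ⁅F₀, Q⁆ with hR₀
    have hR₀L : R₀ ≤ L := by
      rw [hL]; exact Subgroup.commutator_mono hF₀X le_rfl
    have hR₀P : R₀ ≤ Subgroup.centralizer (P : Set H) := hR₀L.trans hLP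
    have hF₀R₀ : F₀ ≤ Subgroup.normalizer (R₀ : Set H) :=
      Cfsg.Agent.Helper1.le_normalizer_commutator_left F₀ Q
    have hQR₀ : Q ≤ Subgroup.normalizer (R₀ : Set H) :=
      Cfsg.Agent.Helper1.le_normalizer_commutator_right F₀ Q
    set C₁ := F₀ ⊓ Subgroup.centralizer (R₀ : Set H) with hC₁
    have hQC₁ : Q ≤ Subgroup.normalizer (C₁ : Set H) :=
      le_normalizer_inf (htop F₀ Q) (le_normalizer_centralizer_of_le_normalizer hQR₀)
    have hC₁p : (Nat.card ↥C₁).Coprime p :=
      Nat.Coprime.coprime_dvd_left (Subgroup.card_dvd_of_le inf_le_left) hF₀p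
    haveI : Group.IsNilpotent ↥Q := hQ.isNilpotent
    have hS26 := Cfsg.Agent.S0026.result Q C₁ hQC₁ (coprime_card_of_isPGroup hQ hC₁p)
      (Or.inl inferInstance)
    have hR₀P' : ⁅R₀, P⁆ = ⊥ := Subgroup.commutator_eq_bot_iff_le_centralizer.mpr hR₀P
    have hC₁P : C₁ ≤ Subgroup.centralizer (P : Set H) := by
      rw [← hS26]
      apply sup_le
      · exact (Subgroup.commutator_mono inf_le_left le_rfl).trans hR₀P
      · refine le_trans ?_ hFP
        rw [hFa, Cfsg.Agent.Helper15.centralizer_sup]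
        refine le_inf ((inf_le_left.trans inf_le_left).trans hF₀X) (le_inf ?_ inf_le_right)
        refine le_trans ?_ (Subgroup.centralizer_le (SetLike.coe_subset_coe.2 hLER))
        rw [Cfsg.Agent.Helper15.centralizer_sup]
        exact le_inf ((inf_le_left.trans inf_le_left).trans (Subgroup.le_centralizer_iff.mp hEF₀))
          (inf_le_left.trans inf_le_right)
    have h8 : ⁅F₀, P⁆ ≤ C₁ := by
      refine le_inf (Cfsg.Agent.Helper1.commutator_le_of_le_normalizer (htop F₀ P)) ?_
      rw [← Subgroup.commutator_eq_bot_iff_le_centralizer]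
      apply Subgroup.commutator_commutator_eq_bot_of_rotate
      · rw [Subgroup.commutator_comm P R₀, hR₀P', Subgroup.commutator_bot_left]
      · rw [eq_bot_iff, ← hR₀P']
        exact Subgroup.commutator_mono
          (Cfsg.Agent.Helper1.commutator_le_of_le_normalizer hF₀R₀) le_rfl
    have h9 : ⁅⁅F₀, P⁆, P⁆ = ⊥ := by
      rw [eq_bot_iff, ← Subgroup.commutator_eq_bot_iff_le_centralizer.mpr hC₁P]
      exact Subgroup.commutator_mono h8 le_rfl
    have hF₀P : F₀ ≤ Subgroup.centralizer (P : Set H) :=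
      Cfsg.Agent.Helper7.le_centralizer_of_commutator_commutator_eq_bot
        (coprime_card_of_isPGroup hPp hF₀p) (htop F₀ P) h9
    rw [hX]
    unfold Cfsg.generalizedFittingSubgroup
    exact sup_le hEP hF₀P

end Cfsg.Agent.S2817
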