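import Mathlib
import Cfsg.Statements.S2818
import Cfsg.Agent.Lib.Helper9.FrattiniElem

set_option autoImplicit false
open Cfsg

namespace Cfsg.Agent.S2818

open scoped commutatorElement

/-- Let P be a finite p-subgroup of a group G and H a subgroup of N_G(P) with [P, H] ≤ Ω₁(Z(P)) (the elements of order dividing p in the centre of P). Then H centralizes the Frattini subgroup of P. -/
theorem result {G : Type*} [Group G] [Finite G] {p : ℕ} [Fact p.Prime] (P : Subgroup G) (hP : IsPGroup p ↥P) (H : Subgroup G) (hH : H ≤ Subgroup.normalizer (P : Set G)) (h : ⁅P, H⁆ ≤ Cfsg.omegaOne p (P ⊓ Subgroup.centralizer (P : Set G))) : ⁅(frattini ↥P).map P.subtype, H⁆ = ⊥ := by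
  have hZ₁ : ∀ x ∈ Cfsg.omegaOne p (P ⊓ Subgroup.centralizer (P : Set G)),
      (x ∈ P ∧ ∀ y ∈ P, y * x = x * y) ∧ x ^ p = 1 := by
    intro x hx
    unfold Cfsg.omegaOne at hx
    induction hx using Subgroup.closure_induction with
    | mem x hx =>
      obtain ⟨hx1, hx2⟩ := hx
      rw [Subgroup.mem_inf, Subgroup.mem_centralizer_iff] at hx1
      exact ⟨⟨hx1.1, fun y hy => hx1.2 y hy⟩, hx2⟩
    | one => exact ⟨⟨P.one_mem, fun y _ => by simp⟩, one_pow p⟩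
    | mul x y _ _ hx hy =>
      obtain ⟨⟨hxP, hxc⟩, hxp⟩ := hx
      obtain ⟨⟨hyP, hyc⟩, hyp⟩ := hy
      refine ⟨⟨P.mul_mem hxP hyP, fun w hw => ?_⟩, ?_⟩
      · rw [← mul_assoc, hxc w hw, mul_assoc, hyc w hw, mul_assoc]
      · have hcomm : Commute x y := (hyc x hxP)
        rw [hcomm.mul_pow, hxp, hyp, one_mul]
    | inv x _ hx =>
      obtain ⟨⟨hxP, hxc⟩, hxp⟩ := hx
      refine ⟨⟨P.inv_mem hxP, fun w hw => ?_⟩, ?_⟩
      · have := hxc w hw
        calc w * x⁻¹ = x⁻¹ * (x * w) * x⁻¹ := by group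
          _ = x⁻¹ * (w * x) * x⁻¹ := by rw [this]
          _ = x⁻¹ * w := by group
      · rw [inv_pow, hxp, inv_one]
  rw [eq_bot_iff, Subgroup.commutator_le]
  rintro _ ⟨x, hx, rfl⟩ k hk
  rw [Subgroup.mem_bot]
  have hmem : ∀ y : P, ⁅(y : G), k⁆ ∈ Cfsg.omegaOne p (P ⊓ Subgroup.centralizer (P : Set G)) :=
    fun y => h (Subgroup.commutator_mem_commutator y.2 hk)
  obtain ⟨φ, hφ⟩ : ∃ φ : P →* Cfsg.omegaOne p (P ⊓ Subgroup.centralizer (P : Set G)),
      ∀ y : P, ((φ y : Cfsg.omegaOne p (P ⊓ Subgroup.centralizer (P : Set G))) : G) = ⁅(y : G), k⁆ := by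
    refine ⟨MonoidHom.mk' (fun y => ⟨⁅(y : G), k⁆, hmem y⟩) ?_, fun y => rfl⟩
    intro a b
    apply Subtype.ext
    simp only [Subgroup.coe_mul]
    have hb := (hZ₁ _ (hmem b)).1
    have ha := (hZ₁ _ (hmem a)).1
    have h1 : (a : G) * ⁅(b : G), k⁆ = ⁅(b : G), k⁆ * a := hb.2 a a.2
    have h2 : ⁅(b : G), k⁆ * ⁅(a : G), k⁆ = ⁅(a : G), k⁆ * ⁅(b : G), k⁆ := (ha.2 _ hb.1)
    calc ⁅(a : G) * (b : G), k⁆ = ((a : G) * ⁅(b : G), k⁆) * (k * (a : G)⁻¹ * k⁻¹) := by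
          simp only [commutatorElement_def]; group
      _ = (⁅(b : G), k⁆ * a) * (k * (a : G)⁻¹ * k⁻¹) := by rw [h1]
      _ = ⁅(b : G), k⁆ * ⁅(a : G), k⁆ := by simp only [commutatorElement_def]; group
      _ = ⁅(a : G), k⁆ * ⁅(b : G), k⁆ := h2
  have hker : frattini P ≤ φ.ker := by
    apply Cfsg.Agent.Helper9.frattini_le_ker_of_elementary (p := p) φ
    · intro a b
      apply Subtype.ext
      simp only [Subgroup.coe_mul]
      exact (hZ₁ _ b.2).1.2 a (hZ₁ _ a.2).1.1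
    · intro a
      apply Subtype.ext
      simp only [Subgroup.coe_pow, Subgroup.coe_one]
      exact (hZ₁ _ a.2).2
  have h3 := hker hx
  rw [MonoidHom.mem_ker] at h3
  have h4 := congrArg Subtype.val h3
  rw [hφ] at h4
  simpa using h4

end Cfsg.Agent.S2818
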