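import Mathlib
import Cfsg.Statements.S2819
import Cfsg.Agent.Lib.Helper9.FrattiniElem
import Cfsg.Agent.Lib.Helper14.CharP
import Cfsg.Agent.Lib.Helper14.Normalize
import Cfsg.Agent.Lib.Helper1.CommutatorBasic

set_option autoImplicit false
open Cfsg

namespace Cfsg.Agent.S2819

open Cfsg.Agent.Helper14
open scoped commutatorElement

theorem map_commutator_subtype {G : Type*} [Group G] (P : Subgroup G) :
    (commutator ↥P).map P.subtype = ⁅P, P⁆ := by
  rw [commutator_def, Subgroup.map_commutator, ← MonoidHom.range_eq_map, Subgroup.range_subtype]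

/-- Powers of a product modulo the derived subgroup. -/
theorem mul_pow_mod_commutator {G : Type*} [Group G] (P : Subgroup G) {a b : G} (ha : a ∈ P) (hb : b ∈ P) (n : ℕ) :
    ∃ d ∈ ⁅P, P⁆, (a * b) ^ n = a ^ n * b ^ n * d := by
  refine ⟨(a ^ n * b ^ n)⁻¹ * (a * b) ^ n, ?_, by group⟩
  rw [← map_commutator_subtype]
  refine ⟨((⟨a, ha⟩ : ↥P) ^ n * (⟨b, hb⟩ : ↥P) ^ n)⁻¹ * ((⟨a, ha⟩ : ↥P) * ⟨b, hb⟩) ^ n, ?_, by simp⟩
  rw [← Abelianization.ker_of]
  show _ ∈ (Abelianization.of : ↥P →* Abelianization ↥P).ker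
  rw [MonoidHom.mem_ker]
  simp only [map_mul, map_inv, map_pow]
  rw [mul_pow, inv_mul_cancel]

/-- Let P be a finite p-subgroup of a group G, H a subgroup of N_G(P), and Y a subgroup of H centralizing the derived subgroup P' such that [P, Y] is elementary abelian. Then O^p(⟨Y^H⟩), the subgroup of the normal closure of Y in H generated by its elements of order prime to p, centralizes the Frattini subgroup of P. -/
theorem result {G : Type*} [Group G] [Finite G] {p : ℕ} [Fact p.Prime] (P : Subgroup G) (hP : IsPGroup p ↥P) (H : Subgroup G) (hH : H ≤ Subgroup.normalizer (P : Set G)) (Y : Subgroup G) (hYH : Y ≤ H) (hYc : Y ≤ Subgroup.centralizer ((⁅P, P⁆ : Subgroup G) : Set G)) (hel : Cfsg.IsElementaryAbelian p ⁅P, Y⁆) (NY : Subgroup G) (hNY : NY = (Subgroup.normalClosure ((Y.subgroupOf H : Subgroup ↥H) : Set ↥H)).map H.subtype) : (Cfsg.pResidual p ↥NY).map NY.subtype ≤ Subgroup.centralizer (((frattini ↥P).map P.subtype : Subgroup G) : Set G) := by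
  set P' := ⁅P, P⁆ with hP'
  set NP := Subgroup.normalizer (P : Set G) with hNP
  have hNPP' : NP ≤ Subgroup.normalizer (P' : Set G) := by
    have := Cfsg.Agent.Helper1.normalizer_inf_normalizer_le_normalizer_commutator P P
    rwa [inf_idem] at this
  have hPNP : P ≤ NP := Subgroup.le_normalizer
  have hconjP : ∀ g ∈ NP, ∀ x ∈ P, g * x * g⁻¹ ∈ P := fun g hg x hx => (Subgroup.mem_normalizer_iff.mp hg x).mp hx
  have hconjP' : ∀ g ∈ NP, ∀ x ∈ P', g * x * g⁻¹ ∈ P' :=
    fun g hg x hx => (Subgroup.mem_normalizer_iff.mp (hNPP' hg) x).mp hx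
  -- the subgroup of elements acting trivially on `P'` and on the `p`-th powers modulo `P'`
  let K₂ : Subgroup G :=
    { carrier := {g | g ∈ NP ⊓ Subgroup.centralizer (P' : Set G) ∧ ∀ x ∈ P, ⁅x ^ p, g⁆ ∈ P'}
      mul_mem' := by
        rintro g h ⟨hg1, hg2⟩ ⟨hh1, hh2⟩
        refine ⟨Subgroup.mul_mem _ hg1 hh1, fun x hx => ?_⟩
        have e : ⁅x ^ p, g * h⁆ = ⁅x ^ p, g⁆ * (g * ⁅x ^ p, h⁆ * g⁻¹) := by
          simp only [commutatorElement_def]; group
        rw [e]
        exact P'.mul_mem (hg2 x hx) (hconjP' g hg1.1 _ (hh2 x hx))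
      one_mem' := ⟨Subgroup.one_mem _, fun x _ => by simp⟩
      inv_mem' := by
        rintro g ⟨hg1, hg2⟩
        refine ⟨Subgroup.inv_mem _ hg1, fun x hx => ?_⟩
        have e : ⁅x ^ p, g⁻¹⁆ = g⁻¹ * (⁅x ^ p, g⁆)⁻¹ * g⁻¹⁻¹ := by
          simp only [commutatorElement_def]; group
        rw [e]
        exact hconjP' g⁻¹ (Subgroup.inv_mem _ hg1.1) _ (P'.inv_mem (hg2 x hx)) }
  have hK₂mem : ∀ g, g ∈ K₂ ↔ (g ∈ NP ⊓ Subgroup.centralizer (P' : Set G) ∧ ∀ x ∈ P, ⁅x ^ p, g⁆ ∈ P') :=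
    fun g => Iff.rfl
  set K := K₂ ⊓ H with hK
  -- `H` normalizes `K`
  have hHK : H ≤ Subgroup.normalizer (K : Set G) := by
    apply le_normalizer_of_conj_mem
    intro h hh g hg
    obtain ⟨⟨hg1, hg2⟩, hgH⟩ := hg
    have hhNP : h ∈ NP := hH hh
    refine ⟨⟨?_, fun x hx => ?_⟩, H.mul_mem (H.mul_mem hh hgH) (H.inv_mem hh)⟩
    · refine Subgroup.mem_inf.mpr ⟨Subgroup.mul_mem _ (Subgroup.mul_mem _ hhNP hg1.1) (Subgroup.inv_mem _ hhNP), ?_⟩
      have hn : NP ≤ Subgroup.normalizer (Subgroup.centralizer (P' : Set G) : Set G) :=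
        le_normalizer_centralizer_of_le_normalizer hNPP'
      exact (Subgroup.mem_normalizer_iff.mp (hn hhNP) g).mp hg1.2
    · have hx' : h⁻¹ * x * h⁻¹⁻¹ ∈ P := hconjP h⁻¹ (Subgroup.inv_mem _ hhNP) x hx
      have e : ⁅x ^ p, h * g * h⁻¹⁆ = h * ⁅(h⁻¹ * x * h⁻¹⁻¹) ^ p, g⁆ * h⁻¹ := by
        rw [conj_pow]
        simp only [commutatorElement_def]; group
      rw [e]
      exact hconjP' h hhNP _ (hg2 _ hx')
  -- `Y ≤ K`
  have hYK : Y ≤ K := by
    intro y hy
    have hyNP : y ∈ NP := hH (hYH hy)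
    refine ⟨⟨Subgroup.mem_inf.mpr ⟨hyNP, hYc hy⟩, fun x hx => ?_⟩, hYH hy⟩
    set c := ⁅x, y⁆ with hc
    have hcE : c ∈ ⁅P, Y⁆ := Subgroup.commutator_mem_commutator hx hy
    have hcp : c ^ p = 1 := hel.2 c hcE
    have hcP : c ∈ P := by
      have h1 : y * x⁻¹ * y⁻¹ ∈ P := hconjP y hyNP _ (P.inv_mem hx)
      have e : c = x * (y * x⁻¹ * y⁻¹) := by rw [hc, commutatorElement_def]; group
      rw [e]
      exact P.mul_mem hx h1
    have hyx : y * x * y⁻¹ = c⁻¹ * x := by rw [hc, commutatorElement_def]; group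
    obtain ⟨d, hd, hpow⟩ := mul_pow_mod_commutator P (P.inv_mem hcP) hx p
    have hyxp : y * x ^ p * y⁻¹ = x ^ p * d := by
      rw [← conj_pow, hyx, hpow, inv_pow, hcp, inv_one, one_mul]
    have e : ⁅x ^ p, y⁆ = x ^ p * d⁻¹ * (x ^ p)⁻¹ := by
      have : ⁅x ^ p, y⁆ = x ^ p * (y * x ^ p * y⁻¹)⁻¹ := by
        rw [commutatorElement_def]; group
      rw [this, hyxp]; group
    rw [e]
    exact hconjP' _ (hPNP (P.pow_mem hx p)) _ (P'.inv_mem hd)
  -- `NY ≤ K`
  have hNYK : NY ≤ K := by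
    rw [hNY]
    haveI : (K.subgroupOf H).Normal := (Subgroup.normal_subgroupOf_iff_le_normalizer inf_le_right).mpr hHK
    have h1 : Subgroup.normalClosure ((Y.subgroupOf H : Subgroup ↥H) : Set ↥H) ≤ K.subgroupOf H := by
      apply Subgroup.normalClosure_le_normal
      intro y hy
      exact Subgroup.mem_subgroupOf.mpr (hYK (Subgroup.mem_subgroupOf.mp hy))
    rintro _ ⟨y, hy, rfl⟩
    exact Subgroup.mem_subgroupOf.mp (h1 hy)
  -- `p'`-elements of `K` centralize the Frattini subgroup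
  rw [Cfsg.pResidual, MonoidHom.map_closure, Subgroup.closure_le]
  rintro _ ⟨g', hg', rfl⟩
  have hgc : (orderOf (g' : G)).Coprime p := by
    rw [Subgroup.orderOf_coe]; exact hg'
  set g : G := (g' : G) with hg
  have hgK : g ∈ K := hNYK g'.2
  obtain ⟨⟨hg1, hg2⟩, _⟩ := hgK
  have hPp : IsPGroup p P := hP
  -- the subgroup of `P` of elements commuting with `g`
  set D := (Subgroup.centralizer ({g} : Set G)).subgroupOf P with hD
  have hDmem : ∀ x : ↥P, x ∈ D ↔ g * (x : G) = (x : G) * g := by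
    intro x
    rw [hD, Subgroup.mem_subgroupOf, Subgroup.mem_centralizer_iff]
    simp
  have hcommD : commutator ↥P ≤ D := by
    intro x hx
    rw [hDmem]
    have hx' : (x : G) ∈ P' := by
      rw [hP', ← map_commutator_subtype]
      exact ⟨x, hx, rfl⟩
    exact ((Subgroup.mem_centralizer_iff.mp hg1.2) _ hx').symm
  haveI hDn : D.Normal := by
    constructor
    intro n hn x
    have h1 : x * n * x⁻¹ * n⁻¹ ∈ commutator ↥P := by
      rw [commutator_def]
      exact Subgroup.commutator_mem_commutator (Subgroup.mem_top x) (Subgroup.mem_top n)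
    have : x * n * x⁻¹ = (x * n * x⁻¹ * n⁻¹) * n := by group
    rw [this]
    exact D.mul_mem (hcommD h1) hn
  have hpowD : ∀ x : ↥P, x ^ p ∈ D := by
    intro x
    rw [hDmem]
    have hc := hg2 (x : G) x.2
    set u : G := (x : G) ^ p with hu
    have hcomm : Commute (u * g * u⁻¹ * g⁻¹) g := by
      have h1 : u * g * u⁻¹ * g⁻¹ = ⁅u, g⁆ := by rw [commutatorElement_def]
      rw [h1]
      exact (Subgroup.mem_centralizer_iff.mp hg1.2) _ hc
    have hcP : u * g * u⁻¹ * g⁻¹ ∈ P := by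
      have h1 : g * u⁻¹ * g⁻¹ ∈ P := hconjP g hg1.1 _ (P.inv_mem (P.pow_mem x.2 p))
      have e : u * g * u⁻¹ * g⁻¹ = u * (g * u⁻¹ * g⁻¹) := by group
      rw [e]
      exact P.mul_mem (P.pow_mem x.2 p) h1
    obtain ⟨j, hj⟩ := hPp ⟨_, hcP⟩
    have hj' : (u * g * u⁻¹ * g⁻¹) ^ (p ^ j) = 1 := by
      have := congrArg Subtype.val hj
      simpa using this
    have := commute_of_commutator_commute' u g j hcomm hj' hgc
    show g * ((x ^ p : ↥P) : G) = ((x ^ p : ↥P) : G) * g
    rw [Subgroup.coe_pow]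
    exact this.symm
  have hfr : frattini ↥P ≤ D := by
    have h1 := Cfsg.Agent.Helper9.frattini_le_ker_of_elementary (p := p) (QuotientGroup.mk' D) (by
      intro a b
      induction a using QuotientGroup.induction_on with
      | H a =>
        induction b using QuotientGroup.induction_on with
        | H b =>
          rw [← QuotientGroup.mk_mul, ← QuotientGroup.mk_mul, QuotientGroup.eq]
          apply hcommD
          rw [commutator_def]
          have e : (a * b)⁻¹ * (b * a) = ⁅b⁻¹, a⁻¹⁆ := by rw [commutatorElement_def]; group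
          rw [e]
          exact Subgroup.commutator_mem_commutator (Subgroup.mem_top _) (Subgroup.mem_top _)) (by
      intro a
      induction a using QuotientGroup.induction_on with
      | H a =>
        rw [← QuotientGroup.mk_pow]
        exact (QuotientGroup.eq_one_iff _).mpr (hpowD a))
    rwa [QuotientGroup.ker_mk'] at h1
  show g ∈ Subgroup.centralizer (((frattini ↥P).map P.subtype : Subgroup G) : Set G)
  rw [Subgroup.mem_centralizer_iff]
  rintro _ ⟨x, hx, rfl⟩
  exact ((hDmem x).mp (hfr hx)).symm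

end Cfsg.Agent.S2819
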