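import Mathlib
import Cfsg.Statements.S2820
import Cfsg.Agent.Lib.Helper9.PCoreSub

set_option autoImplicit false
open Cfsg

namespace Cfsg.Agent.S2820

open Cfsg.Agent.Helper9
open scoped Pointwise

/-- Let A and B be subnormal subgroups of the finite group H with A a p-group and B = O^p(B) (B generated by its elements of order prime to p). Then A normalizes B and B = O^p(AB), the subgroup of ⟨A, B⟩ generated by its elements of order prime to p. -/
theorem result {H : Type*} [Group H] [Finite H] {p : ℕ} [Fact p.Prime] (A B : Subgroup H) (hA : A.IsSubnormal) (hB : B.IsSubnormal) (hAp : IsPGroup p ↥A) (hBres : (Cfsg.pResidual p ↥B).map B.subtype = B) : A ≤ Subgroup.normalizer (B : Set H) ∧ (Cfsg.pResidual p ↥(A ⊔ B)).map (A ⊔ B).subtype = B := by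
  -- B is generated by its p'-elements
  have hBgen : B ≤ Subgroup.closure {g : H | g ∈ B ∧ (orderOf g).Coprime p} := by
    intro b hb
    rw [← hBres] at hb
    obtain ⟨b', hb', rfl⟩ := hb
    unfold Cfsg.pResidual at hb'
    induction hb' using Subgroup.closure_induction with
    | mem x hx =>
      apply Subgroup.subset_closure
      refine ⟨x.2, ?_⟩
      rw [Subgroup.coe_subtype, Subgroup.orderOf_coe]
      exact hx
    | one => exact Subgroup.one_mem _
    | mul x y _ _ hx hy => rw [map_mul]; exact Subgroup.mul_mem _ hx hy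
    | inv x _ hx => rw [map_inv]; exact Subgroup.inv_mem _ hx
  have hAP : A ≤ pCore p H := subnormal_pGroup_le_pCore p A hA hAp
  have hML := normal_pGroup_normalizes p (pCore p H) B inferInstance (pCore_isPGroup' p H) hB hBgen
  have hnorm : A ≤ Subgroup.normalizer (B : Set H) := by
    intro a ha
    rw [Subgroup.mem_normalizer_iff]
    intro h
    constructor
    · intro hh
      exact hML a (hAP ha) h hh
    · intro hh
      have := hML a⁻¹ (Subgroup.inv_mem _ (hAP ha)) _ hh
      rw [inv_inv] at this
      have e : a⁻¹ * (a * h * a⁻¹) * a = h := by group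
      rwa [e] at this
  refine ⟨hnorm, ?_⟩
  apply le_antisymm
  · rw [Subgroup.map_le_iff_le_comap]
    unfold Cfsg.pResidual
    rw [Subgroup.closure_le]
    intro g hg
    rw [SetLike.mem_coe, Subgroup.mem_comap, Subgroup.coe_subtype]
    have hgmem : (g : H) ∈ ((A ⊔ B : Subgroup H) : Set H) := g.2
    rw [Subgroup.coe_mul_of_left_le_normalizer_right A B hnorm] at hgmem
    obtain ⟨a, ha, b, hb, hab⟩ := Set.mem_mul.mp hgmem
    obtain ⟨k, hk⟩ := hAp ⟨a, ha⟩
    have hk' : a ^ (p ^ k) = 1 := by
      have := congrArg Subtype.val hk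
      simpa using this
    have hcop : (orderOf (a * b)).Coprime p := by
      rw [hab, Subgroup.orderOf_coe]
      exact hg
    rw [← hab]
    apply mul_mem_of_coprime_of_normalizes B a b hb _ k hk' hcop
    intro x hx
    have := hML a⁻¹ (Subgroup.inv_mem _ (hAP ha)) x hx
    rwa [inv_inv] at this
  · refine hBgen.trans ?_
    rw [Subgroup.closure_le]
    intro s hs
    refine ⟨⟨s, (le_sup_right : B ≤ A ⊔ B) hs.1⟩, ?_, rfl⟩
    unfold Cfsg.pResidual
    apply Subgroup.subset_closure
    show (orderOf (⟨s, _⟩ : ↥(A ⊔ B))).Coprime p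
    rw [Subgroup.orderOf_mk]
    exact hs.2

end Cfsg.Agent.S2820
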