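import Mathlib
import Cfsg.Statements.S2823
import Cfsg.Agent.Lib.Helper14.LargestPReduced
import Cfsg.Agent.Lib.Helper14.PReducedComm
import Cfsg.Agent.Lib.Helper14.Kieler
import Cfsg.Agent.Lib.Helper14.CosetNorm
import Cfsg.Agent.Lib.Helper10.PResidual
import Cfsg.Agent.Lib.Helper22.PResidual
import Cfsg.Agent.Lib.Helper7.Coprime
import Cfsg.Agent.S2821

set_option autoImplicit false
open Cfsg

namespace Cfsg.Agent.S2823

open Cfsg.Agent.Helper14
open scoped commutatorElement

/-- Let H be a finite group, p a prime, T a Sylow p-subgroup and L a subgroup of characteristic p containing T; let Z_L be the subgroup generated by the Ω₁(Z(S)) over the Sylow p-subgroups S of L and O^p(L) the subgroup generated by the elements of L of order prime to p. Then Z_L = Ω₁(Z(L))·[Z_L, O^p(L)] and [Z_L, L] = [Z_L, O^p(L)]. -/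
theorem result {H : Type*} [Group H] [Finite H] {p : ℕ} [Fact p.Prime] (T : Sylow p H) (L : Subgroup H) (hTL : (T : Subgroup H) ≤ L) (hL : Subgroup.centralizer (Cfsg.pCore p ↥L : Set ↥L) ≤ Cfsg.pCore p ↥L) : Cfsg.sylowCenterClosure p L = (Cfsg.omegaOne p (L ⊓ Subgroup.centralizer ((L : Subgroup H) : Set H))) ⊔ ⁅Cfsg.sylowCenterClosure p L, (Cfsg.pResidual p ↥L).map L.subtype⁆ ∧ ⁅Cfsg.sylowCenterClosure p L, L⁆ = ⁅Cfsg.sylowCenterClosure p L, (Cfsg.pResidual p ↥L).map L.subtype⁆ := by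
  set V := Cfsg.sylowCenterClosure p L with hV
  set O := (Cfsg.pResidual p ↥L).map L.subtype with hO
  set A := ⁅V, O⁆ with hA
  have hp : p.Prime := Fact.out
  obtain ⟨hLY, hYe, -⟩ := largestPReducedOf_spec (p := p) L
  have hVY : V ≤ Cfsg.largestPReducedOf p L :=
    (Cfsg.Agent.S2821.result T L hTL hL _ rfl).2.2.2.2.1
  have hVe : IsElementaryAbelian p V := IsElementaryAbelian.mono hYe hVY
  have hVc : ∀ a ∈ V, ∀ b ∈ V, a * b = b * a := IsElementaryAbelian.comm hVe
  have hVL : V ≤ L := hVY.trans (largestPReducedOf_le p L)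
  have hLV : L ≤ Subgroup.normalizer ((V : Subgroup H) : Set H) := le_normalizer_sylowCenterClosure p L
  have hOL : O ≤ L := Subgroup.map_subtype_le _
  have hLO : L ≤ Subgroup.normalizer ((O : Subgroup H) : Set H) :=
    le_normalizer_map_subtype_of_normal Cfsg.Agent.Helper22.pResidual_normal
  have hAV : A ≤ V := commutator_le_of_le_normalizer (hOL.trans hLV)
  have hLA : L ≤ Subgroup.normalizer ((A : Subgroup H) : Set H) :=
    (le_inf hLV hLO).trans (Cfsg.Agent.Helper7.normalizer_inf_normalizer_le_normalizer_commutator V O)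
  -- `[V, L] ≤ A`
  have hcomm : ∀ v ∈ V, v ∈ V ∧ ∀ l ∈ L, ⁅v, l⁆ ∈ A := by
    intro v hv
    have hv' : v ∈ ⨆ S : Sylow p ↥L, omegaOne p (((S : Subgroup ↥L).map L.subtype) ⊓
        Subgroup.centralizer (((S : Subgroup ↥L).map L.subtype : Subgroup H) : Set H)) := hv
    refine Subgroup.iSup_induction (C := fun v => v ∈ V ∧ ∀ l ∈ L, ⁅v, l⁆ ∈ A) _ hv' ?_ ?_ ?_
    · intro S' z hz
      set S := (S' : Subgroup ↥L).map L.subtype with hS
      have hSsyl : IsSylowOf p L S := ⟨S', rfl⟩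
      have hzV : z ∈ V := omegaZ_le_sylowCenterClosure hSsyl hz
      refine ⟨hzV, ?_⟩
      intro l hl
      obtain ⟨hzS, hzC, -⟩ := mem_omegaOne_center_iff.mp hz
      obtain ⟨r, hrS, hrL, u, hu, rfl⟩ :=
        Cfsg.Agent.Helper10.exists_mul_of_pResidual_subgroup L S hSsyl.not_dvd_relIndex l hl
      have hzr : r * z = z * r := (Subgroup.mem_centralizer_iff.mp hzC) r hrS
      have h1 : ⁅z, u⁆ ∈ A := Subgroup.commutator_mem_commutator hzV hu
      have h2 : r * ⁅z, u⁆ * r⁻¹ ∈ A := (Subgroup.mem_normalizer_iff.mp (hLA hrL) _).mp h1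
      have e : ⁅z, r * u⁆ = r * ⁅z, u⁆ * r⁻¹ := by
        simp only [commutatorElement_def]
        calc z * (r * u) * z⁻¹ * (r * u)⁻¹ = (z * r) * u * z⁻¹ * u⁻¹ * r⁻¹ := by group
          _ = (r * z) * u * z⁻¹ * u⁻¹ * r⁻¹ := by rw [hzr]
          _ = r * (z * u * z⁻¹ * u⁻¹) * r⁻¹ := by group
      rw [e]; exact h2
    · refine ⟨V.one_mem, fun l _ => ?_⟩
      rw [commutatorElement_one_left]; exact A.one_mem
    · intro v₁ v₂ h1 h2
      refine ⟨V.mul_mem h1.1 h2.1, fun l hl => ?_⟩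
      have ha2 := h2.2 l hl
      have ha1 := h1.2 l hl
      have hc : v₁ * ⁅v₂, l⁆ = ⁅v₂, l⁆ * v₁ := hVc v₁ h1.1 _ (hAV ha2)
      have e : ⁅v₁ * v₂, l⁆ = ⁅v₂, l⁆ * ⁅v₁, l⁆ := by
        calc ⁅v₁ * v₂, l⁆ = (v₁ * ⁅v₂, l⁆) * v₁⁻¹ * ⁅v₁, l⁆ := by
              simp only [commutatorElement_def]; group
          _ = (⁅v₂, l⁆ * v₁) * v₁⁻¹ * ⁅v₁, l⁆ := by rw [hc]
          _ = ⁅v₂, l⁆ * ⁅v₁, l⁆ := by group
      rw [e]; exact A.mul_mem ha2 ha1
  have hVLA : ⁅V, L⁆ ≤ A := by
    rw [Subgroup.commutator_le]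
    intro v hv l hl
    exact (hcomm v hv).2 l hl
  have hTsyl : IsSylowOf p L (T : Subgroup H) := isSylowOf_of_sylow_le T hTL
  refine ⟨?_, le_antisymm hVLA (Subgroup.commutator_mono le_rfl hOL)⟩
  apply le_antisymm
  · -- `V ≤ Ω₁Z(L) ⊔ A`
    rw [hV, sylowCenterClosure_le_iff]
    intro S hS z hz
    have hzV : z ∈ V := omegaZ_le_sylowCenterClosure hS hz
    obtain ⟨hzS, hzC, hzp⟩ := mem_omegaOne_center_iff.mp hz
    obtain ⟨c, hc, w, hw, hzm⟩ := pow_relIndex_eq_mul (W := V) (A := L) (T₀ := S) hVc hLV hS.le hzV hzC A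
      (by
        intro a ha
        have := (hcomm z hzV).2 a ha
        have e : z * (a * z * a⁻¹)⁻¹ = ⁅z, a⁆ := by simp only [commutatorElement_def]; group
        rw [e]; exact this)
    set m := S.relIndex L with hm
    have hmcop : m.Coprime p := by
      rw [Nat.coprime_comm, Nat.Prime.coprime_iff_not_dvd hp]
      exact hS.not_dvd_relIndex
    -- invert `m` modulo `p`
    obtain ⟨m', -, hm'⟩ := Nat.exists_mul_mod_eq_one_of_coprime hmcop hp.one_lt
    have hzpow : z ^ (m * m') = z := by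
      have h1 : m * m' = p * (m * m' / p) + 1 := by
        have := Nat.div_add_mod (m * m') p
        rw [hm'] at this
        exact this.symm
      rw [h1, pow_succ, pow_mul, hzp, one_pow, one_mul]
    have hcw : c * w = w * c := hVc c hc.1 w hw.1
    have hz : z = c ^ m' * w ^ m' := by
      rw [← hzpow, pow_mul, hzm, (Commute.mul_pow hcw m')]
    rw [hz]
    apply Subgroup.mul_mem_sup
    · rw [mem_omegaOne_center_iff]
      refine ⟨hVL (V.pow_mem hc.1 _), Subgroup.pow_mem _ hc.2 _, hVe.2 _ (V.pow_mem hc.1 _)⟩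
    · exact A.pow_mem hw.2 _
  · apply sup_le
    · intro x hx
      obtain ⟨hxL, hxC, hxp⟩ := mem_omegaOne_center_iff.mp hx
      by_cases hx1 : x = 1
      · rw [hx1]; exact V.one_mem
      have hZp : IsPGroup p (Subgroup.zpowers x) := by
        apply IsPGroup.of_card (n := 1)
        rw [Nat.card_zpowers, pow_one]
        exact orderOf_eq_prime hxp hx1
      have hZL : Subgroup.zpowers x ≤ L := by rw [Subgroup.zpowers_le]; exact hxL
      have hLZ : L ≤ Subgroup.normalizer ((Subgroup.zpowers x : Subgroup H) : Set H) := by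
        apply le_normalizer_of_conj_mem
        intro g hg y hy
        have hyC : y ∈ Subgroup.centralizer ((L : Subgroup H) : Set H) := by
          have : Subgroup.zpowers x ≤ Subgroup.centralizer ((L : Subgroup H) : Set H) := by
            rw [Subgroup.zpowers_le]; exact hxC
          exact this hy
        have := (Subgroup.mem_centralizer_iff.mp hyC) g hg
        have e : g * y * g⁻¹ = y := by rw [this]; group
        rw [e]; exact hy
      have hxQ : x ∈ Cfsg.pCoreOf p L := le_pCoreOf hZL hLZ hZp (Subgroup.mem_zpowers x)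
      have hxT : x ∈ (T : Subgroup H) := pCoreOf_le_of_isSylowOf hTsyl hxQ
      have hxZ : x ∈ omegaZ p (T : Subgroup H) := by
        unfold omegaZ
        rw [mem_omegaOne_center_iff]
        exact ⟨hxT, Subgroup.centralizer_le hTL hxC, hxp⟩
      exact omegaZ_le_sylowCenterClosure hTsyl hxZ
    · exact hAV

end Cfsg.Agent.S2823
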