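import Mathlib
import Cfsg.Statements.S2825
import Cfsg.Agent.Lib.Helper14.PReducedRel

set_option autoImplicit false
open Cfsg

namespace Cfsg.Agent.S2825

open Cfsg.Agent.Helper14

/-- `Y_⊤ ≤ Y_H`. -/
theorem largestPReducedOf_top_le {H : Type*} [Group H] [Finite H] {p : ℕ} [Fact p.Prime] :
    largestPReducedOf p (⊤ : Subgroup H) ≤ largestPReduced p H := by
  apply (largestPReduced_spec H).2
  obtain ⟨hn, he, hred⟩ := largestPReducedOf_spec (p := p) (⊤ : Subgroup H)
  rw [isPReducedNormal_iff]
  refine ⟨Subgroup.normalizer_eq_top_iff.mp (top_le_iff.mp hn), he, ?_⟩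
  intro D hDn hDp
  apply hred D le_top ?_ hDp
  rw [Subgroup.normalizer_eq_top_iff.mpr hDn]

/-- `C_L(Y_H) ≤ C(Y_L)` for subnormal `L`. -/
theorem inf_centralizer_le {H : Type*} [Group H] [Finite H] {p : ℕ} [Fact p.Prime] (L : Subgroup H)
    (hL : L.IsSubnormal) :
    L ⊓ Subgroup.centralizer (largestPReduced p H : Set H) ≤
      Subgroup.centralizer (largestPReducedOf p L : Set H) := by
  induction hL with
  | top => exact inf_le_right.trans (Subgroup.centralizer_le largestPReducedOf_top_le)
  | step L K hLK _ hN ih =>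
    have hKL : K ≤ Subgroup.normalizer (L : Set H) := (Subgroup.normal_subgroupOf_iff_le_normalizer hLK).mp hN
    refine le_trans ?_ (inf_centralizer_largestPReducedOf_le hLK hKL)
    refine le_inf inf_le_left ?_
    exact (inf_le_inf_right _ hLK).trans ih

/-- Let L be a subnormal subgroup of the finite group H, p a prime, Y_H and Y_L the largest p-reduced normal subgroups. Then Y_H ∩ L = Y_H ∩ Y_L and this subgroup is a p-reduced normal subgroup of L; C_L(Y_L) = C_L(Y_H) = C_L(Y_H ∩ L); and if O^p(H) ≤ L, then [Y_L, L] = 1 if and only if [Y_H, H] = 1. -/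
theorem result {H : Type*} [Group H] [Finite H] {p : ℕ} [Fact p.Prime] (L : Subgroup H) (hL : L.IsSubnormal) : Cfsg.largestPReduced p H ⊓ L = Cfsg.largestPReduced p H ⊓ (Cfsg.largestPReducedOf p L) ∧ Cfsg.IsPReducedNormal p ((Cfsg.largestPReduced p H ⊓ L).subgroupOf L) ∧ L ⊓ Subgroup.centralizer ((Cfsg.largestPReducedOf p L : Subgroup H) : Set H) = L ⊓ Subgroup.centralizer (Cfsg.largestPReduced p H : Set H) ∧ L ⊓ Subgroup.centralizer (Cfsg.largestPReduced p H : Set H) = L ⊓ Subgroup.centralizer ((Cfsg.largestPReduced p H ⊓ L : Subgroup H) : Set H) ∧ (Cfsg.pResidual p H ≤ L → (⁅(Cfsg.largestPReducedOf p L), L⁆ = ⊥ ↔ ⁅Cfsg.largestPReduced p H, (⊤ : Subgroup H)⁆ = ⊥)) := by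
  set Y := largestPReduced p H with hY
  set YL := largestPReducedOf p L with hYL
  have hYred : IsPReducedNormal p Y := (largestPReduced_spec H).1
  obtain ⟨hYn, hYe, hYr⟩ := (isPReducedNormal_iff Y).mp hYred
  obtain ⟨hUL, hUred, hQ⟩ := commutator_pResidual_spec Y hYred L hL
  set U := ⁅Y, (pResidual p ↥L).map L.subtype⁆ with hU
  have hUY : U ≤ Y := Subgroup.commutator_le_left _ _
  have hUYL : U ≤ YL := le_largestPReducedOf hUL hUred
  have hYLL : YL ≤ L := largestPReducedOf_le p L
  -- (4)
  have h4 : L ⊓ Subgroup.centralizer (Y : Set H) = L ⊓ Subgroup.centralizer ((Y ⊓ L : Subgroup H) : Set H) := by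
    apply le_antisymm
    · exact inf_le_inf_left L (Subgroup.centralizer_le inf_le_left)
    · refine le_inf inf_le_left ?_
      exact (inf_le_inf_left L (Subgroup.centralizer_le (le_inf hUY hUL))).trans hQ
  -- (2)
  have h2 : IsPReducedNormal p ((Y ⊓ L).subgroupOf L) := by
    rw [isPReducedNormal_subgroupOf_iff inf_le_right]
    refine ⟨le_normalizer_inf ?_ Subgroup.le_normalizer, IsElementaryAbelian.mono hYe inf_le_left, ?_⟩
    · rw [Subgroup.normalizer_eq_top_iff.mpr hYn]; exact le_top
    · intro D hDL hLD hDp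
      have hDp' : PowCond p D (Subgroup.centralizer (Y : Set H)) := by
        intro d hd
        obtain ⟨k, hk⟩ := hDp d hd
        refine ⟨k, ?_⟩
        have : d ^ (p ^ k) ∈ L ⊓ Subgroup.centralizer ((Y ⊓ L : Subgroup H) : Set H) :=
          Subgroup.mem_inf.mpr ⟨L.pow_mem (hDL hd) _, hk⟩
        rw [← h4] at this
        exact (Subgroup.mem_inf.mp this).2
      exact (le_centralizer_of_subnormal hYred hL hDL hLD hDp').trans (Subgroup.centralizer_le inf_le_left)
  -- (1)
  have h1 : Y ⊓ L = Y ⊓ YL := by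
    apply le_antisymm
    · exact le_inf inf_le_left (le_largestPReducedOf inf_le_right h2)
    · exact inf_le_inf_left Y hYLL
  -- (3)
  have h3 : L ⊓ Subgroup.centralizer (YL : Set H) = L ⊓ Subgroup.centralizer (Y : Set H) := by
    apply le_antisymm
    · refine le_inf inf_le_left ?_
      exact (inf_le_inf_left L (Subgroup.centralizer_le hUYL)).trans hQ
    · exact le_inf inf_le_left (inf_centralizer_le L hL)
  refine ⟨h1, h2, h3, h4, ?_⟩
  intro hRL
  rw [Subgroup.commutator_eq_bot_iff_le_centralizer, Subgroup.commutator_eq_bot_iff_le_centralizer]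
  constructor
  · intro h
    have hLC : L ≤ Subgroup.centralizer (YL : Set H) := Subgroup.le_centralizer_iff.mp h
    have hLY : L ≤ Subgroup.centralizer (Y : Set H) := by
      have : L ≤ L ⊓ Subgroup.centralizer (YL : Set H) := le_inf le_rfl hLC
      rw [h3] at this
      exact this.trans inf_le_right
    have hp : PowCond p (⊤ : Subgroup H) (Subgroup.centralizer (Y : Set H)) := by
      intro y _
      obtain ⟨a, ha⟩ := exists_pow_orderOf_coprime (p := p) y
      refine ⟨a, hLY (hRL ?_)⟩
      exact Cfsg.Agent.Helper22.mem_pResidual_of_coprime _ ha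
    have := hYr ⊤ inferInstance hp
    exact Subgroup.le_centralizer_iff.mp this
  · intro h
    have hTY : (⊤ : Subgroup H) ≤ Subgroup.centralizer (Y : Set H) := Subgroup.le_centralizer_iff.mp h
    have : L ≤ L ⊓ Subgroup.centralizer (Y : Set H) := le_inf le_rfl (le_top.trans hTY)
    rw [← h3] at this
    exact Subgroup.le_centralizer_iff.mp (this.trans inf_le_right)

end Cfsg.Agent.S2825
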