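import Mathlib
import Cfsg.Statements.S2826
import Cfsg.Agent.Lib.Helper14.CosetNorm
import Cfsg.Agent.Lib.Helper14.PReduced
import Cfsg.Agent.Lib.Helper14.AmalgamZ
import Cfsg.Agent.Lib.Helper10.PResidual

set_option autoImplicit false
open Cfsg

namespace Cfsg.Agent.S2826

open Cfsg.Agent.Helper14
open scoped commutatorElement

/-- An element commuting with `z ^ m`, where `z ^ p = 1` and `m` is prime to `p`, commutes with `z`. -/
theorem commute_of_commute_pow {G : Type*} [Group G] {p : ℕ} [hp : Fact p.Prime] {z b : G} {m : ℕ} (hz : z ^ p = 1)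
    (hm : m.Coprime p) (h : b * z ^ m = z ^ m * b) : b * z = z * b := by
  obtain ⟨k, -, hk⟩ := Nat.exists_mul_mod_eq_one_of_coprime hm hp.out.one_lt
  have h1 : z = (z ^ m) ^ k := by
    rw [← pow_mul, pow_eq_pow_mod (m * k) hz, hk, pow_one]
  have h2 : Commute b ((z ^ m) ^ k) := Commute.pow_right h k
  rw [← h1] at h2
  exact h2

/-- Let H be a finite group of characteristic p, T a Sylow p-subgroup, and V an elementary abelian normal p-subgroup containing Ω₁(Z(T)). Then C_H(Ω₁(Z(T))) = C_H([V, O^p(H)] ∩ Ω₁(Z(T))). -/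
theorem result {H : Type*} [Group H] [Finite H] {p : ℕ} [Fact p.Prime] (hH : Subgroup.centralizer (Cfsg.pCore p H : Set H) ≤ Cfsg.pCore p H) (T : Sylow p H) (V : Subgroup H) [V.Normal] (hV : Cfsg.IsElementaryAbelian p V) (hZV : (Cfsg.omegaOne p ((T : Subgroup H) ⊓ Subgroup.centralizer (((T : Subgroup H) : Subgroup H) : Set H))) ≤ V) : Subgroup.centralizer ((Cfsg.omegaOne p ((T : Subgroup H) ⊓ Subgroup.centralizer (((T : Subgroup H) : Subgroup H) : Set H))) : Set H) = Subgroup.centralizer (((⁅V, Cfsg.pResidual p H⁆ ⊓ (Cfsg.omegaOne p ((T : Subgroup H) ⊓ Subgroup.centralizer (((T : Subgroup H) : Subgroup H) : Set H)))) : Subgroup H) : Set H) := by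
  set Z := Cfsg.omegaOne p ((T : Subgroup H) ⊓ Subgroup.centralizer ((T : Subgroup H) : Set H)) with hZ
  set V₀ := ⁅V, Cfsg.pResidual p H⁆ with hV₀
  set B := Subgroup.centralizer ((V₀ ⊓ Z : Subgroup H) : Set H) with hB
  apply le_antisymm
  · exact Subgroup.centralizer_le inf_le_right
  have hZT : Z ≤ (T : Subgroup H) ⊓ Subgroup.centralizer ((T : Subgroup H) : Set H) := omegaOne_le p _
  have hTZ : (T : Subgroup H) ≤ Subgroup.centralizer (Z : Set H) :=
    Subgroup.le_centralizer_iff.mp (hZT.trans inf_le_right)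
  have hTB : (T : Subgroup H) ≤ B := hTZ.trans (Subgroup.centralizer_le inf_le_right)
  have hVc : ∀ a ∈ V, ∀ b ∈ V, a * b = b * a := by
    intro a ha b hb
    exact congrArg Subtype.val (hV.1.is_comm.comm ⟨a, ha⟩ ⟨b, hb⟩)
  have hVp : IsPGroup p V := Cfsg.Agent.Helper14.IsElementaryAbelian.isPGroup hV
  have hVT : V ≤ (T : Subgroup H) := (le_pCore inferInstance hVp).trans (pCore_le_sylow T)
  have hBV : B ≤ Subgroup.normalizer (V : Set H) := by
    rw [Subgroup.normalizer_eq_top_iff.mpr inferInstance]; exact le_top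
  have hidx : ((T : Subgroup H).relIndex B).Coprime p := by
    have h1 : ¬ p ∣ (T : Subgroup H).index := T.not_dvd_index
    have h2 : (T : Subgroup H).relIndex B ∣ (T : Subgroup H).index := Subgroup.relIndex_dvd_index_of_le hTB
    exact (Nat.Coprime.symm ((Nat.Prime.coprime_iff_not_dvd Fact.out).mpr (fun h => h1 (h.trans h2))))
  rw [Subgroup.le_centralizer_iff]
  intro z hz
  have hzV : z ∈ V := hZV hz
  have hzT : z ∈ Subgroup.centralizer ((T : Subgroup H) : Set H) := (hZT hz).2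
  have hD : ∀ a ∈ B, z * (a * z * a⁻¹)⁻¹ ∈ V₀ := by
    intro a _
    obtain ⟨r, hr, u, hu, hru⟩ := Cfsg.Agent.Helper10.exists_mul_of_pResidual (p := p) (T : Subgroup H)
      T.not_dvd_index a⁻¹
    have ha : a = (r * u)⁻¹ := by rw [← hru, inv_inv]
    rw [ha]
    have hrz : r * z = z * r := (Subgroup.mem_centralizer_iff.mp hzT r hr)
    have e : z * ((r * u)⁻¹ * z * (r * u)⁻¹⁻¹)⁻¹ = ⁅z, u⁻¹⁆ := by
      have h1 : r⁻¹ * z * r = z := by
        calc r⁻¹ * z * r = r⁻¹ * (z * r) := by group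
          _ = z := by rw [← hrz]; group
      have h2 : (r * u)⁻¹ * z * (r * u)⁻¹⁻¹ = u⁻¹ * (r⁻¹ * z * r) * u := by group
      rw [h2, h1, commutatorElement_def]; group
    rw [e]
    exact Subgroup.commutator_mem_commutator hzV (Subgroup.inv_mem _ hu)
  obtain ⟨c, hc, w, hw, hzm⟩ := pow_relIndex_eq_mul hVc hBV hTB hzV hzT V₀ hD
  obtain ⟨hcV, hcB⟩ := Subgroup.mem_inf.mp hc
  obtain ⟨hwV, hwV₀⟩ := Subgroup.mem_inf.mp hw
  -- `w` lies in `Z`
  have hwZ : w ∈ Z := by
    apply Subgroup.subset_closure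
    refine ⟨Subgroup.mem_inf.mpr ⟨hVT hwV, ?_⟩, hV.2 w hwV⟩
    have hw' : w = c⁻¹ * z ^ ((T : Subgroup H).relIndex B) := by rw [hzm]; group
    rw [hw']
    apply Subgroup.mul_mem
    · exact Subgroup.inv_mem _ (Subgroup.centralizer_le hTB hcB)
    · exact Subgroup.pow_mem _ hzT _
  rw [Subgroup.mem_centralizer_iff]
  intro b hb
  have h1 : b * c = c * b := (Subgroup.mem_centralizer_iff.mp hcB) b hb
  have h2 : b * w = w * b := ((Subgroup.mem_centralizer_iff.mp hb) w (Subgroup.mem_inf.mpr ⟨hwV₀, hwZ⟩)).symm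
  have h3 : b * z ^ ((T : Subgroup H).relIndex B) = z ^ ((T : Subgroup H).relIndex B) * b := by
    rw [hzm, ← mul_assoc, h1, mul_assoc, h2, mul_assoc]
  exact commute_of_commute_pow (hV.2 z hzV) hidx h3

end Cfsg.Agent.S2826
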