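import Mathlib
import Cfsg.Statements.S2827
import Cfsg.Agent.Lib.Helper16.Conj
import Cfsg.Agent.Lib.Helper16.SylowNormal
import Cfsg.Agent.Lib.Helper16.PClosed
import Cfsg.Agent.Lib.Helper16.Commutator
import Cfsg.Agent.Lib.Helper22.PResidual
import Cfsg.Agent.Lib.Helper14.Basic

set_option autoImplicit false
open Cfsg

namespace Cfsg.Agent.S2827

open Cfsg.Agent.Helper16
open scoped commutatorElement

/-- Let H be a finite p-irreducible group (not p-closed, and O^p(H) lies in every normal subgroup that is not p-closed) and T a Sylow p-subgroup. Then H is generated by the conjugates of T and H = H'·T; O^p(H) ≤ H'; and for every normal subgroup Y of T not contained in O_p(H), O^p(H) = [O^p(H), Y] and O^p(H) is contained in the normal closure of Y in H. -/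
theorem result {H : Type*} [Group H] [Finite H] {p : ℕ} [Fact p.Prime] (hH : Cfsg.IsPIrreducible p H) (T : Sylow p H) : Subgroup.normalClosure ((T : Subgroup H) : Set H) = ⊤ ∧ commutator H ⊔ (T : Subgroup H) = ⊤ ∧ Cfsg.pResidual p H ≤ commutator H ∧ ∀ Y : Subgroup H, Y ≤ (T : Subgroup H) → (T : Subgroup H) ≤ Subgroup.normalizer (Y : Set H) → ¬ Y ≤ Cfsg.pCore p H → ⁅Cfsg.pResidual p H, Y⁆ = Cfsg.pResidual p H ∧ Cfsg.pResidual p H ≤ Subgroup.normalClosure (Y : Set H) := by
  obtain ⟨hncl, hirr⟩ := hH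
  have hRn : (Cfsg.pResidual p H).Normal := Cfsg.Agent.Helper22.pResidual_normal
  have hRT : (T : Subgroup H) ⊔ Cfsg.pResidual p H = ⊤ :=
    Cfsg.Agent.Helper22.sylow_sup_pResidual_eq_top T
  -- a normal subgroup containing a p-subgroup not inside O_p(H) contains O^p(H)
  have key : ∀ N : Subgroup H, N.Normal → ∀ Y : Subgroup H, Y ≤ N → IsPGroup p Y →
      ¬ Y ≤ Cfsg.pCore p H → Cfsg.pResidual p H ≤ N := by
    intro N hN Y hYN hY hYc
    apply hirr N hN
    intro hcl
    exact hYc (le_pCore_of_le_isPClosed_normal N hcl Y hYN hY)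
  have hTc : ¬ (T : Subgroup H) ≤ Cfsg.pCore p H := fun h => hncl (isPClosed_of_sylow_le_pCore T h)
  -- (1)
  have h1 : Subgroup.normalClosure ((T : Subgroup H) : Set H) = ⊤ := by
    have h := key _ Subgroup.normalClosure_normal T Subgroup.le_normalClosure T.2 hTc
    rw [eq_top_iff, ← hRT]
    exact sup_le Subgroup.le_normalClosure h
  -- (2)
  have h2 : commutator H ⊔ (T : Subgroup H) = ⊤ := by
    have hn : (commutator H ⊔ (T : Subgroup H)).Normal := normal_of_commutator_le le_sup_left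
    rw [eq_top_iff, ← h1]
    exact Subgroup.normalClosure_le_normal (SetLike.coe_subset_coe.2 le_sup_right)
  -- (3)
  have h3 : Cfsg.pResidual p H ≤ commutator H := by
    have hq := isPGroup_quotient_of_sup_eq_top (T : Subgroup H) (commutator H) T.2
      (by rw [sup_comm]; exact h2)
    have := Cfsg.Agent.Helper22.pResidual_le_ker_of_isPGroup (QuotientGroup.mk' (commutator H)) hq
    rwa [QuotientGroup.ker_mk'] at this
  refine ⟨h1, h2, h3, ?_⟩
  intro Y hYT hTY hYc
  have hYp : IsPGroup p Y := T.2.to_le hYT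
  have hsecond : Cfsg.pResidual p H ≤ Subgroup.normalClosure (Y : Set H) :=
    key _ Subgroup.normalClosure_normal Y Subgroup.le_normalClosure hYp hYc
  refine ⟨?_, hsecond⟩
  apply le_antisymm (Subgroup.commutator_le_left _ _)
  -- K = [R, Y]; N₂ = K ⊔ Y is normal
  have hKR : ⁅Cfsg.pResidual p H, Y⁆ ≤ Cfsg.pResidual p H := Subgroup.commutator_le_left _ _
  have hRK : Cfsg.pResidual p H ≤ Subgroup.normalizer ((⁅Cfsg.pResidual p H, Y⁆ : Subgroup H) : Set H) :=
    le_normalizer_commutator_left _ _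
  have hTK : (T : Subgroup H) ≤ Subgroup.normalizer ((⁅Cfsg.pResidual p H, Y⁆ : Subgroup H) : Set H) := by
    intro t ht
    rw [mem_normalizer_iff_map_conj_eq, Subgroup.map_commutator,
      map_conj_eq_of_mem_normalizer (hTY ht)]
    congr 1
    apply map_conj_eq_of_mem_normalizer
    rw [Subgroup.normalizer_eq_top_iff.2 hRn]
    trivial
  have hKn : (⁅Cfsg.pResidual p H, Y⁆ : Subgroup H).Normal := by
    rw [← Subgroup.normalizer_eq_top_iff, eq_top_iff, ← hRT]
    exact sup_le hTK hRK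
  have hRN₂ : Cfsg.pResidual p H
      ≤ Subgroup.normalizer ((⁅Cfsg.pResidual p H, Y⁆ ⊔ Y : Subgroup H) : Set H) := by
    intro r hr
    rw [mem_normalizer_iff_map_conj_eq]
    apply map_conj_eq_of_le
    rw [Subgroup.map_le_iff_le_comap]
    apply sup_le
    · intro k hk
      rw [Subgroup.mem_comap]
      apply Subgroup.mem_sup_left
      simp only [MulEquiv.coe_toMonoidHom, MulAut.conj_apply]
      exact hKn.conj_mem k hk r
    · intro y hy
      rw [Subgroup.mem_comap]
      have e : (MulAut.conj r).toMonoidHom y = ⁅r, y⁆ * y := by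
        simp only [MulEquiv.coe_toMonoidHom, MulAut.conj_apply, commutatorElement_def]
        group
      rw [e]
      exact Subgroup.mul_mem _ (Subgroup.mem_sup_left (Subgroup.commutator_mem_commutator hr hy))
        (Subgroup.mem_sup_right hy)
  have hTN₂ : (T : Subgroup H)
      ≤ Subgroup.normalizer ((⁅Cfsg.pResidual p H, Y⁆ ⊔ Y : Subgroup H) : Set H) := by
    intro t ht
    rw [mem_normalizer_iff_map_conj_eq, Subgroup.map_sup,
      map_conj_eq_of_mem_normalizer (hTY ht), map_conj_eq_of_mem_normalizer (hTK ht)]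
  have hN₂n : (⁅Cfsg.pResidual p H, Y⁆ ⊔ Y : Subgroup H).Normal := by
    rw [← Subgroup.normalizer_eq_top_iff, eq_top_iff, ← hRT]
    exact sup_le hTN₂ hRN₂
  have hRN₂' : Cfsg.pResidual p H ≤ ⁅Cfsg.pResidual p H, Y⁆ ⊔ Y :=
    key _ hN₂n Y le_sup_right hYp hYc
  -- every p'-element lies in K
  show Subgroup.closure {g : H | Nat.Coprime (orderOf g) p} ≤ ⁅Cfsg.pResidual p H, Y⁆
  rw [Subgroup.closure_le]
  intro g hg
  have hgR : g ∈ Cfsg.pResidual p H := Subgroup.subset_closure hg
  have hg2 := hRN₂' hgR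
  rw [Subgroup.mem_sup_of_normal_left] at hg2
  obtain ⟨k, hk, y, hy, rfl⟩ := hg2
  have hcop : Nat.Coprime (orderOf (k * y)) p := hg
  obtain ⟨j, hj⟩ := hYp ⟨y, hy⟩
  have hyj : y ^ p ^ j = 1 := by
    have := congrArg (fun v : Y => (v : H)) hj
    simpa using this
  have e1 : ((k * y : H) : H ⧸ ⁅Cfsg.pResidual p H, Y⁆) = (y : H ⧸ ⁅Cfsg.pResidual p H, Y⁆) := by
    rw [QuotientGroup.mk_mul, (QuotientGroup.eq_one_iff k).2 hk, one_mul]
  have e2 : ((k * y : H) : H ⧸ ⁅Cfsg.pResidual p H, Y⁆) ^ (p ^ j) = 1 := by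
    rw [e1, ← QuotientGroup.mk_pow, hyj]; rfl
  have e3 : ((k * y : H) : H ⧸ ⁅Cfsg.pResidual p H, Y⁆) ^ (orderOf (k * y)) = 1 := by
    rw [← QuotientGroup.mk_pow, pow_orderOf_eq_one]; rfl
  have e4 := Cfsg.Agent.Helper14.eq_one_of_pow_eq_one_of_coprime e3 e2
    (Nat.Coprime.pow_right j hcop)
  exact (QuotientGroup.eq_one_iff (k * y)).1 e4

end Cfsg.Agent.S2827
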