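import Mathlib
import Cfsg.Statements.S2828
import Cfsg.Agent.Lib.Helper16.PElem
import Cfsg.Agent.Lib.Helper16.QuotPGroup

set_option autoImplicit false
open Cfsg

namespace Cfsg.Agent.S2828

open Cfsg.Agent.Helper16

/-- Let H be a finite group, p a prime and D a normal p-subgroup of H. Then H is p-irreducible if and only if H/D is p-irreducible, and H is strongly p-irreducible if and only if H/D is strongly p-irreducible. -/
theorem result {H : Type*} [Group H] [Finite H] {p : ℕ} [Fact p.Prime] (D : Subgroup H) [D.Normal] (hD : IsPGroup p ↥D) : (Cfsg.IsPIrreducible p H ↔ Cfsg.IsPIrreducible p (H ⧸ D)) ∧ (Cfsg.IsStronglyPIrreducible p H ↔ Cfsg.IsStronglyPIrreducible p (H ⧸ D)) := by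
  have hπ : Function.Surjective (QuotientGroup.mk' D) := QuotientGroup.mk'_surjective D
  have hR : (pResidual p H).map (QuotientGroup.mk' D) = pResidual p (H ⧸ D) :=
    map_pResidual_eq_of_surjective _ hπ
  have hO : (pCore p (H ⧸ D)).comap (QuotientGroup.mk' D) = pCore p H := comap_pCore_quotient D hD
  have hcl : IsPClosed p H ↔ IsPClosed p (H ⧸ D) := by
    rw [isPClosed_iff_forall, isPClosed_iff_forall]
    constructor
    · intro h x' y' hx hy
      obtain ⟨x, rfl⟩ := hπ x'
      obtain ⟨y, rfl⟩ := hπ y'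
      rw [← map_mul]
      exact (h x y ((isPElem_mk_iff D hD x).1 hx) ((isPElem_mk_iff D hD y).1 hy)).map _
    · intro h x y hx hy
      have := h (QuotientGroup.mk' D x) (QuotientGroup.mk' D y) (hx.map _) (hy.map _)
      rw [← map_mul] at this
      exact (isPElem_mk_iff D hD _).1 this
  have hclN : ∀ N : Subgroup H, IsPClosed p (N.map (QuotientGroup.mk' D)) → IsPClosed p N := by
    intro N h
    rw [isPClosed_subgroup_iff] at h ⊢
    intro x hx y hy hpx hpy
    have := h (QuotientGroup.mk' D x) ⟨x, hx, rfl⟩ (QuotientGroup.mk' D y) ⟨y, hy, rfl⟩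
      (hpx.map _) (hpy.map _)
    rw [← map_mul] at this
    exact (isPElem_mk_iff D hD _).1 this
  have hclN' : ∀ N' : Subgroup (H ⧸ D), IsPClosed p (N'.comap (QuotientGroup.mk' D)) →
      IsPClosed p N' := by
    intro N' h
    rw [isPClosed_subgroup_iff] at h ⊢
    intro x' hx y' hy hpx hpy
    obtain ⟨x, rfl⟩ := hπ x'
    obtain ⟨y, rfl⟩ := hπ y'
    have := h x hx y hy ((isPElem_mk_iff D hD x).1 hpx) ((isPElem_mk_iff D hD y).1 hpy)
    rw [← map_mul]
    exact this.map _
  have hback : ∀ N : Subgroup H, N.Normal →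
      pResidual p (H ⧸ D) ≤ N.map (QuotientGroup.mk' D) → pResidual p H ≤ N := by
    intro N hN h
    apply pResidual_le_of_le_sup N D hD
    have h1 : pResidual p H ≤
        ((pResidual p H).map (QuotientGroup.mk' D)).comap (QuotientGroup.mk' D) :=
      Subgroup.le_comap_map _ _
    refine h1.trans ?_
    rw [hR]
    refine (Subgroup.comap_mono h).trans ?_
    rw [Subgroup.comap_map_eq, QuotientGroup.ker_mk']
  have hfwd : ∀ N' : Subgroup (H ⧸ D), pResidual p H ≤ N'.comap (QuotientGroup.mk' D) →
      pResidual p (H ⧸ D) ≤ N' := by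
    intro N' h
    rw [← hR, Subgroup.map_le_iff_le_comap]
    exact h
  constructor
  · constructor
    · rintro ⟨h1, h2⟩
      refine ⟨fun h => h1 (hcl.2 h), ?_⟩
      intro N' hN' hncl
      apply hfwd
      apply h2 _ (hN'.comap _)
      intro h
      exact hncl (hclN' N' h)
    · rintro ⟨h1, h2⟩
      refine ⟨fun h => h1 (hcl.1 h), ?_⟩
      intro N hN hncl
      apply hback N hN
      apply h2 _ (hN.map _ hπ)
      intro h
      exact hncl (hclN N h)
  · constructor
    · rintro ⟨h1, h2⟩
      refine ⟨fun h => h1 (hcl.2 h), ?_⟩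
      intro N' hN' hcomm
      apply hfwd
      apply h2 _ (hN'.comap _)
      intro h
      apply hcomm
      have e : ⁅N', (⊤ : Subgroup (H ⧸ D))⁆
          = (⁅N'.comap (QuotientGroup.mk' D), (⊤ : Subgroup H)⁆).map (QuotientGroup.mk' D) := by
        rw [Subgroup.map_commutator, Subgroup.map_comap_eq_self_of_surjective hπ,
          Subgroup.map_top_of_surjective _ hπ]
      rw [e, Subgroup.map_le_iff_le_comap, hO]
      exact h
    · rintro ⟨h1, h2⟩
      refine ⟨fun h => h1 (hcl.1 h), ?_⟩
      intro N hN hcomm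
      apply hback N hN
      apply h2 _ (hN.map _ hπ)
      intro h
      apply hcomm
      have e : ⁅N.map (QuotientGroup.mk' D), (⊤ : Subgroup (H ⧸ D))⁆
          = (⁅N, (⊤ : Subgroup H)⁆).map (QuotientGroup.mk' D) := by
        rw [Subgroup.map_commutator, Subgroup.map_top_of_surjective _ hπ]
      rw [e, Subgroup.map_le_iff_le_comap, hO] at h
      exact h

end Cfsg.Agent.S2828
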