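import Mathlib
import Cfsg.Statements.S2829
import Cfsg.Agent.Lib.Helper14.Basic

set_option autoImplicit false
open Cfsg

namespace Cfsg.Agent.S2829

open Cfsg.Agent.Helper14
open scoped commutatorElement

/-- Every strongly p-irreducible finite group is p-irreducible. -/
theorem result {H : Type*} [Group H] [Finite H] {p : ℕ} [Fact p.Prime] (hH : Cfsg.IsStronglyPIrreducible p H) : Cfsg.IsPIrreducible p H := by
  obtain ⟨hnc, hall⟩ := hH
  refine ⟨hnc, fun N hN hNc => hall N hN (fun hle => hNc ?_)⟩
  intro P
  have hQp : IsPGroup p ((pCore p H).subgroupOf N) :=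
    (pCore_isPGroup p H).comap_of_injective _ (Subgroup.subtype_injective N)
  have hQn : ((pCore p H).subgroupOf N).Normal := Subgroup.normal_subgroupOf
  have hQP : (pCore p H).subgroupOf N ≤ P := hQp.le_sylow_of_normal P
  constructor
  intro x hx n
  have h1 : ⁅(n : H), (x : H)⁆ ∈ pCore p H :=
    hle (Subgroup.commutator_mem_commutator n.2 (Subgroup.mem_top _))
  have h2 : n * x * n⁻¹ * x⁻¹ ∈ (P : Subgroup N) := by
    apply hQP
    rw [Subgroup.mem_subgroupOf]
    simpa [commutatorElement_def] using h1
  have := (P : Subgroup N).mul_mem h2 hx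
  simpa using this

end Cfsg.Agent.S2829
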