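import Mathlib
import Cfsg.Statements.S2830
import Cfsg.Agent.Lib.Helper16.PElem
import Cfsg.Agent.Lib.Helper16.PClosed
import Cfsg.Agent.Lib.Helper14.Basic

set_option autoImplicit false
open Cfsg

namespace Cfsg.Agent.S2830

open Cfsg.Agent.Helper16

theorem isPElem_coe_iff {G : Type*} [Group G] {p : ℕ} (H : Subgroup G) (z : H) :
    IsPElem p z ↔ IsPElem p (z : G) := by
  constructor
  · rintro ⟨k, hk⟩
    exact ⟨k, by simpa using congrArg (fun v : H => (v : G)) hk⟩
  · rintro ⟨k, hk⟩
    exact ⟨k, Subtype.ext (by simpa using hk)⟩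

/-- Let H act by conjugation on the elementary abelian p-subgroup V of a finite group G (H ≤ N(V)), with H p-irreducible and O^p(H) not centralizing V. Then C_H(V) is p-closed and C_T(V) ≤ O_p(H) for every p-subgroup T of H. If in addition O_p(H) centralizes V, then C_T(V) = T ∩ O_p(H) for every p-subgroup T of H, and V is p-reduced for H: O_p(H/C_H(V)) = 1. -/
theorem result {G : Type*} [Group G] [Finite G] {p : ℕ} [Fact p.Prime] (V H : Subgroup G) (hV : Cfsg.IsElementaryAbelian p V) (hHV : H ≤ Subgroup.normalizer (V : Set G)) (hH : Cfsg.IsPIrreducible p ↥H) (hnc : ¬ (Cfsg.pResidual p ↥H).map H.subtype ≤ Subgroup.centralizer (V : Set G)) [hn : ((Subgroup.centralizer (V : Set G)).subgroupOf H).Normal] : Cfsg.IsPClosed p ↥(H ⊓ Subgroup.centralizer (V : Set G)) ∧ (∀ T : Subgroup G, T ≤ H → IsPGroup p ↥T → T ⊓ Subgroup.centralizer (V : Set G) ≤ Cfsg.pCoreOf p H) ∧ (Cfsg.pCoreOf p H ≤ Subgroup.centralizer (V : Set G) → (∀ T : Subgroup G, T ≤ H → IsPGroup p ↥T → T ⊓ Subgroup.centralizer (V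 : Set G) = T ⊓ Cfsg.pCoreOf p H) ∧ Cfsg.pCore p (↥H ⧸ (Subgroup.centralizer (V : Set G)).subgroupOf H) = ⊥) := by
  have hRC : ¬ Cfsg.pResidual p ↥H ≤ (Subgroup.centralizer (V : Set G)).subgroupOf H := by
    intro h
    apply hnc
    rintro _ ⟨x, hx, rfl⟩
    have := h hx
    rw [Subgroup.mem_subgroupOf] at this
    exact this
  have hCcl : IsPClosed p ↥((Subgroup.centralizer (V : Set G)).subgroupOf H) := by
    by_contra hcon
    exact hRC (hH.2 _ hn hcon)
  -- (1)
  have h1 : Cfsg.IsPClosed p ↥(H ⊓ Subgroup.centralizer (V : Set G)) := by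
    rw [isPClosed_subgroup_iff] at hCcl ⊢
    intro x hx y hy hpx hpy
    rw [Subgroup.mem_inf] at hx hy
    have := hCcl ⟨x, hx.1⟩ (by rw [Subgroup.mem_subgroupOf]; exact hx.2) ⟨y, hy.1⟩
      (by rw [Subgroup.mem_subgroupOf]; exact hy.2) ((isPElem_coe_iff H _).2 hpx)
      ((isPElem_coe_iff H _).2 hpy)
    exact (isPElem_coe_iff H _).1 this
  -- (2)
  have h2 : ∀ T : Subgroup G, T ≤ H → IsPGroup p ↥T →
      T ⊓ Subgroup.centralizer (V : Set G) ≤ Cfsg.pCoreOf p H := by
    intro T hTH hT
    have hYp : IsPGroup p ((T ⊓ Subgroup.centralizer (V : Set G) : Subgroup G).subgroupOf H) :=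
      (hT.to_le inf_le_left).comap_subtype
    have hYC : (T ⊓ Subgroup.centralizer (V : Set G) : Subgroup G).subgroupOf H
        ≤ (Subgroup.centralizer (V : Set G)).subgroupOf H := by
      intro x hx
      rw [Subgroup.mem_subgroupOf] at hx ⊢
      exact hx.2
    have := le_pCore_of_le_isPClosed_normal _ hCcl _ hYC hYp
    intro x hx
    exact ⟨⟨x, hTH hx.1⟩, this (by rw [Subgroup.mem_subgroupOf]; exact hx), rfl⟩
  refine ⟨h1, h2, ?_⟩
  intro hO
  have hO' : pCore p ↥H ≤ (Subgroup.centralizer (V : Set G)).subgroupOf H := by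
    intro x hx
    rw [Subgroup.mem_subgroupOf]
    exact hO ⟨x, hx, rfl⟩
  constructor
  · intro T hTH hT
    apply le_antisymm
    · exact le_inf inf_le_left (h2 T hTH hT)
    · exact le_inf inf_le_left (inf_le_right.trans hO)
  · rw [eq_bot_iff]
    intro q hq
    rw [Subgroup.mem_bot]
    obtain ⟨x, rfl⟩ := QuotientGroup.mk_surjective q
    -- q is a p-element
    obtain ⟨j, hj⟩ := Cfsg.Agent.Helper14.pCore_isPGroup p _ ⟨_, hq⟩
    have hqj : (QuotientGroup.mk x : ↥H ⧸ (Subgroup.centralizer (V : Set G)).subgroupOf H) ^ p ^ j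
        = 1 := by
      simpa using congrArg (fun v : pCore p (↥H ⧸ (Subgroup.centralizer (V : Set G)).subgroupOf H)
        => (v : ↥H ⧸ (Subgroup.centralizer (V : Set G)).subgroupOf H)) hj
    have hKn : ((pCore p (↥H ⧸ (Subgroup.centralizer (V : Set G)).subgroupOf H)).comap
        (QuotientGroup.mk' ((Subgroup.centralizer (V : Set G)).subgroupOf H))).Normal :=
      Subgroup.Normal.comap (pCore_normal' p) _
    by_cases hKcl : IsPClosed p ↥((pCore p (↥H ⧸ (Subgroup.centralizer (V : Set G)).subgroupOf H)).comap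
        (QuotientGroup.mk' ((Subgroup.centralizer (V : Set G)).subgroupOf H)))
    · -- K is p-closed
      have hp : p.Prime := Fact.out
      have hne : orderOf x ≠ 0 := (orderOf_pos x).ne'
      obtain ⟨a, m, hm, ham⟩ := Nat.exists_eq_pow_mul_and_not_dvd hne p hp.ne_one
      have hxm : IsPGroup p (Subgroup.zpowers (x ^ m)) := by
        rintro ⟨y, hy⟩
        rw [Subgroup.mem_zpowers_iff] at hy
        obtain ⟨n, rfl⟩ := hy
        refine ⟨a, ?_⟩
        apply Subtype.ext
        simp only [Subgroup.coe_pow, Subgroup.coe_one]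
        have h3 : (x ^ m) ^ p ^ a = 1 := by
          rw [← pow_mul, mul_comm, ← ham, pow_orderOf_eq_one]
        rw [← zpow_natCast, ← zpow_mul, mul_comm, zpow_mul, zpow_natCast, h3, one_zpow]
      have hxK : Subgroup.zpowers (x ^ m) ≤
          (pCore p (↥H ⧸ (Subgroup.centralizer (V : Set G)).subgroupOf H)).comap
            (QuotientGroup.mk' ((Subgroup.centralizer (V : Set G)).subgroupOf H)) := by
        rw [Subgroup.zpowers_le, Subgroup.mem_comap, map_pow]
        exact Subgroup.pow_mem _ hq m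
      have h4 := le_pCore_of_le_isPClosed_normal _ hKcl _ hxK hxm
      have h5 : x ^ m ∈ (Subgroup.centralizer (V : Set G)).subgroupOf H :=
        hO' (h4 (Subgroup.mem_zpowers _))
      have h6 : (QuotientGroup.mk x : ↥H ⧸ (Subgroup.centralizer (V : Set G)).subgroupOf H) ^ m
          = 1 := by
        rw [← QuotientGroup.mk_pow, QuotientGroup.eq_one_iff]
        exact h5
      have hcop : Nat.Coprime m (p ^ j) :=
        Nat.Coprime.pow_right j ((Nat.Prime.coprime_iff_not_dvd hp).mpr hm).symm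
      exact Cfsg.Agent.Helper14.eq_one_of_pow_eq_one_of_coprime h6 hqj hcop
    · -- K not p-closed: O^p(H) ≤ K, contradiction
      exfalso
      have hRK := hH.2 _ hKn hKcl
      apply hRC
      show Subgroup.closure {g : ↥H | Nat.Coprime (orderOf g) p} ≤ _
      rw [Subgroup.closure_le]
      intro g hg
      have hgK := hRK (Subgroup.subset_closure hg)
      rw [Subgroup.mem_comap] at hgK
      obtain ⟨i, hi⟩ := Cfsg.Agent.Helper14.pCore_isPGroup p _ ⟨_, hgK⟩
      have hgi : (QuotientGroup.mk' ((Subgroup.centralizer (V : Set G)).subgroupOf H) g) ^ p ^ i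
          = 1 := by
        simpa using congrArg (fun v : pCore p (↥H ⧸ (Subgroup.centralizer (V : Set G)).subgroupOf H)
          => (v : ↥H ⧸ (Subgroup.centralizer (V : Set G)).subgroupOf H)) hi
      have hgo : (QuotientGroup.mk' ((Subgroup.centralizer (V : Set G)).subgroupOf H) g)
          ^ orderOf g = 1 := by
        rw [← map_pow, pow_orderOf_eq_one, map_one]
      have hcop : Nat.Coprime (orderOf g) (p ^ i) := Nat.Coprime.pow_right i hg
      have := Cfsg.Agent.Helper14.eq_one_of_pow_eq_one_of_coprime hgo hgi hcop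
      rw [SetLike.mem_coe, ← QuotientGroup.eq_one_iff]
      exact this

end Cfsg.Agent.S2830
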