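import Mathlib
import Cfsg.Statements.S2831
import Cfsg.Agent.Lib.Helper16.SylowNormal
import Cfsg.Agent.Lib.Helper22.PResidual

set_option autoImplicit false
open Cfsg

namespace Cfsg.Agent.S2831

open Cfsg.Agent.Helper16

/-- Let H be a finite group with Sylow p-subgroup T such that H is T-minimal (H is generated by the conjugates of T and T lies in exactly one maximal subgroup of H). Then H is p-irreducible: H is not p-closed and O^p(H) lies in every normal subgroup of H that is not p-closed. -/
theorem result {H : Type*} [Group H] [Finite H] {p : ℕ} [Fact p.Prime] (T : Sylow p H) (hmin : Cfsg.IsMinimalOver (T : Subgroup H)) : Cfsg.IsPIrreducible p H := by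
  obtain ⟨hgen, M, ⟨hMco, hTM⟩, hMuniq⟩ := hmin
  have hle : ∀ K : Subgroup H, (T : Subgroup H) ≤ K → K ≠ ⊤ → K ≤ M := by
    intro K hTK hK
    rcases eq_top_or_exists_le_coatom K with h | ⟨M', hM', hKM'⟩
    · exact absurd h hK
    · have := hMuniq M' ⟨hM', hTK.trans hKM'⟩
      rw [← this]; exact hKM'
  constructor
  · intro hcl
    have hTn : (T : Subgroup H).Normal := hcl T
    have : Subgroup.normalClosure ((T : Subgroup H) : Set H) ≤ T :=
      Subgroup.normalClosure_le_normal (le_refl _)
    rw [hgen] at this
    exact hMco.1 (eq_top_iff.2 (this.trans hTM))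
  · intro N hN hNcl
    have hK : Subgroup.normalizer (((T : Subgroup H) ⊓ N : Subgroup H) : Set H) ≠ ⊤ := by
      intro h
      apply hNcl
      apply isPClosed_of_inf_normal T N
      have hn : ((T : Subgroup H) ⊓ N).Normal := Subgroup.normalizer_eq_top_iff.1 h
      rw [← Subgroup.inf_subgroupOf_right]
      exact hn.subgroupOf N
    have hTK : (T : Subgroup H)
        ≤ Subgroup.normalizer (((T : Subgroup H) ⊓ N : Subgroup H) : Set H) := by
      intro t ht
      rw [Subgroup.mem_normalizer_iff]
      intro x
      rw [Subgroup.mem_inf, Subgroup.mem_inf]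
      constructor
      · rintro ⟨hxT, hxN⟩
        exact ⟨mul_mem (mul_mem ht hxT) (inv_mem ht), hN.conj_mem x hxN t⟩
      · rintro ⟨hxT, hxN⟩
        refine ⟨?_, ?_⟩
        · have : x = t⁻¹ * (t * x * t⁻¹) * t := by group
          rw [this]; exact mul_mem (mul_mem (inv_mem ht) hxT) ht
        · have : x = t⁻¹ * (t * x * t⁻¹) * t⁻¹⁻¹ := by group
          rw [this]; exact hN.conj_mem _ hxN t⁻¹
    have hKM := hle _ hTK hK
    have hTN : (T : Subgroup H) ⊔ N = ⊤ := by
      by_contra hne
      have h1 := hle _ le_sup_left hne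
      have h2 : (⊤ : Subgroup H) ≤ M := by
        rw [← normalizer_inf_sup_eq_top T N]
        exact sup_le hKM (le_sup_right.trans h1)
      exact hMco.1 (eq_top_iff.2 h2)
    have hq := isPGroup_quotient_of_sup_eq_top (T : Subgroup H) N T.2 hTN
    have := Cfsg.Agent.Helper22.pResidual_le_ker_of_isPGroup (QuotientGroup.mk' N) hq
    rwa [QuotientGroup.ker_mk'] at this

end Cfsg.Agent.S2831
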