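import Mathlib
import Cfsg.Statements.S2833
import Cfsg.Agent.Lib.Helper16.Conj
import Cfsg.Agent.Lib.Helper16.PGroup2
import Cfsg.Agent.Lib.Helper16.Commutator

set_option autoImplicit false
open Cfsg

namespace Cfsg.Agent.S2833

open Cfsg.Agent.Helper16
open scoped commutatorElement

/-- Let V be a subgroup of a finite group G normalized by the subgroup L, let X ≤ L and g ∈ L with [V, X, X] = 1 and L generated by X and gXg⁻¹. Put W = [V, L]. Then W = [V, X]·[V, gXg⁻¹], C_W(X) = [V, X], and C_W(L) = [V, X] ∩ [V, gXg⁻¹]. -/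
theorem result {G : Type*} [Group G] [Finite G] (V L : Subgroup G) (hLV : L ≤ Subgroup.normalizer (V : Set G)) (X : Subgroup G) (hX : X ≤ L) (g : G) (hg : g ∈ L) (hq : ⁅⁅V, X⁆, X⁆ = ⊥) (hgen : X ⊔ X.map (MulAut.conj g).toMonoidHom = L) (W : Subgroup G) (hW : W = ⁅V, L⁆) : ⁅V, X⁆ ⊔ ⁅V, X.map (MulAut.conj g).toMonoidHom⁆ = W ∧ W ⊓ Subgroup.centralizer (X : Set G) = ⁅V, X⁆ ∧ W ⊓ Subgroup.centralizer (L : Set G) = ⁅V, X⁆ ⊓ ⁅V, X.map (MulAut.conj g).toMonoidHom⁆ := by
  subst hW
  have hXN : X ≤ Subgroup.normalizer (V : Set G) := hX.trans hLV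
  have hgN : g ∈ Subgroup.normalizer (V : Set G) := hLV hg
  have hVg : V.map (MulAut.conj g).toMonoidHom = V := map_conj_eq_of_mem_normalizer hgN
  have hYL : X.map (MulAut.conj g).toMonoidHom ≤ L := by rw [← hgen]; exact le_sup_right
  have hYN : X.map (MulAut.conj g).toMonoidHom ≤ Subgroup.normalizer (V : Set G) := hYL.trans hLV
  have hVY : ⁅V, X.map (MulAut.conj g).toMonoidHom⁆ = ⁅V, X⁆.map (MulAut.conj g).toMonoidHom := by
    rw [Subgroup.map_commutator, hVg]
  have hVXV : ⁅V, X⁆ ≤ V := commutator_le_left_of_le_normalizer hXN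
  have hVYV : ⁅V, X.map (MulAut.conj g).toMonoidHom⁆ ≤ V := commutator_le_left_of_le_normalizer hYN
  have hqX : ∀ w ∈ ⁅V, X⁆, ∀ x ∈ X, x * w = w * x := by
    intro w hw x hx
    have h1 : ⁅w, x⁆ ∈ ⁅⁅V, X⁆, X⁆ := Subgroup.commutator_mem_commutator hw hx
    rw [hq, Subgroup.mem_bot, commutatorElement_def] at h1
    have h2 : w * x * w⁻¹ = x := mul_inv_eq_one.1 h1
    calc x * w = (w * x * w⁻¹) * w := by rw [h2]
      _ = w * x := by group
  have hqY : ∀ w ∈ ⁅V, X.map (MulAut.conj g).toMonoidHom⁆,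
      ∀ y ∈ X.map (MulAut.conj g).toMonoidHom, y * w = w * y := by
    intro w hw y hy
    rw [hVY] at hw
    obtain ⟨w', hw', rfl⟩ := hw
    obtain ⟨x, hx, rfl⟩ := hy
    rw [← map_mul, ← map_mul, hqX w' hw' x hx]
  have hJW : ⁅V, X⁆ ⊔ ⁅V, X.map (MulAut.conj g).toMonoidHom⁆ ≤ ⁅V, L⁆ :=
    sup_le (Subgroup.commutator_mono le_rfl hX) (Subgroup.commutator_mono le_rfl hYL)
  -- X and Y normalize J
  have hXJ : X ≤ Subgroup.normalizer
      ((⁅V, X⁆ ⊔ ⁅V, X.map (MulAut.conj g).toMonoidHom⁆ : Subgroup G) : Set G) := by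
    intro x hx
    rw [mem_normalizer_iff_map_conj_eq]
    apply map_conj_eq_of_le
    rw [Subgroup.map_le_iff_le_comap]
    apply sup_le
    · intro w hw
      rw [Subgroup.mem_comap]
      have : (MulAut.conj x).toMonoidHom w = w := by
        simp only [MulEquiv.coe_toMonoidHom, MulAut.conj_apply]
        rw [hqX w hw x hx]; group
      rw [this]; exact Subgroup.mem_sup_left hw
    · intro w hw
      rw [Subgroup.mem_comap]
      have h1 : ⁅w, x⁆ ∈ ⁅V, X⁆ := Subgroup.commutator_mem_commutator (hVYV hw) hx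
      have h2 : (MulAut.conj x).toMonoidHom w = ⁅w, x⁆⁻¹ * w := by
        simp only [MulEquiv.coe_toMonoidHom, MulAut.conj_apply, commutatorElement_def]
        group
      rw [h2]
      exact Subgroup.mul_mem _ (Subgroup.mem_sup_left (Subgroup.inv_mem _ h1))
        (Subgroup.mem_sup_right hw)
  have hYJ : X.map (MulAut.conj g).toMonoidHom ≤ Subgroup.normalizer
      ((⁅V, X⁆ ⊔ ⁅V, X.map (MulAut.conj g).toMonoidHom⁆ : Subgroup G) : Set G) := by
    intro y hy
    rw [mem_normalizer_iff_map_conj_eq]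
    apply map_conj_eq_of_le
    rw [Subgroup.map_le_iff_le_comap]
    apply sup_le
    · intro w hw
      rw [Subgroup.mem_comap]
      have h1 : ⁅w, y⁆ ∈ ⁅V, X.map (MulAut.conj g).toMonoidHom⁆ :=
        Subgroup.commutator_mem_commutator (hVXV hw) hy
      have h2 : (MulAut.conj y).toMonoidHom w = ⁅w, y⁆⁻¹ * w := by
        simp only [MulEquiv.coe_toMonoidHom, MulAut.conj_apply, commutatorElement_def]
        group
      rw [h2]
      exact Subgroup.mul_mem _ (Subgroup.mem_sup_right (Subgroup.inv_mem _ h1))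
        (Subgroup.mem_sup_left hw)
    · intro w hw
      rw [Subgroup.mem_comap]
      have : (MulAut.conj y).toMonoidHom w = w := by
        simp only [MulEquiv.coe_toMonoidHom, MulAut.conj_apply]
        rw [hqY w hw y hy]; group
      rw [this]; exact Subgroup.mem_sup_right hw
  -- the subgroup S
  let S : Subgroup G :=
    { carrier := {l | l ∈ Subgroup.normalizer
          ((⁅V, X⁆ ⊔ ⁅V, X.map (MulAut.conj g).toMonoidHom⁆ : Subgroup G) : Set G) ∧
          ∀ v ∈ V, ⁅v, l⁆ ∈ ⁅V, X⁆ ⊔ ⁅V, X.map (MulAut.conj g).toMonoidHom⁆}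
      one_mem' := by
        refine ⟨Subgroup.one_mem _, fun v _ => ?_⟩
        rw [commutatorElement_def]
        have : v * 1 * v⁻¹ * (1 : G)⁻¹ = 1 := by group
        rw [this]; exact Subgroup.one_mem _
      mul_mem' := by
        rintro l₁ l₂ ⟨h1, h1'⟩ ⟨h2, h2'⟩
        refine ⟨Subgroup.mul_mem _ h1 h2, fun v hv => ?_⟩
        have e : ⁅v, l₁ * l₂⁆ = ⁅v, l₁⁆ * (l₁ * ⁅v, l₂⁆ * l₁⁻¹) := by
          simp only [commutatorElement_def]; group
        rw [e]
        have h3 := h1
        rw [Subgroup.mem_normalizer_iff] at h3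
        exact Subgroup.mul_mem _ (h1' v hv) ((h3 _).1 (h2' v hv))
      inv_mem' := by
        rintro l ⟨h1, h1'⟩
        refine ⟨Subgroup.inv_mem _ h1, fun v hv => ?_⟩
        have e : ⁅v, l⁻¹⁆ = l⁻¹ * ⁅v, l⁆⁻¹ * l⁻¹⁻¹ := by
          simp only [commutatorElement_def]; group
        rw [e]
        have h3 := Subgroup.inv_mem _ h1
        rw [Subgroup.mem_normalizer_iff] at h3
        exact (h3 _).1 (Subgroup.inv_mem _ (h1' v hv)) }
  have hXS : X ≤ S := fun x hx =>
    ⟨hXJ hx, fun v hv => Subgroup.mem_sup_left (Subgroup.commutator_mem_commutator hv hx)⟩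
  have hYS : X.map (MulAut.conj g).toMonoidHom ≤ S := fun y hy =>
    ⟨hYJ hy, fun v hv => Subgroup.mem_sup_right (Subgroup.commutator_mem_commutator hv hy)⟩
  have hLS : L ≤ S := by rw [← hgen]; exact sup_le hXS hYS
  have hWJ : ⁅V, L⁆ ≤ ⁅V, X⁆ ⊔ ⁅V, X.map (MulAut.conj g).toMonoidHom⁆ := by
    rw [Subgroup.commutator_le]
    intro v hv l hl
    exact (hLS hl).2 v hv
  have h1 : ⁅V, X⁆ ⊔ ⁅V, X.map (MulAut.conj g).toMonoidHom⁆ = ⁅V, L⁆ := le_antisymm hJW hWJ
  -- product decomposition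
  have hnorm : ⁅V, X.map (MulAut.conj g).toMonoidHom⁆
      ≤ Subgroup.normalizer ((⁅V, X⁆ : Subgroup G) : Set G) :=
    hVYV.trans (le_normalizer_commutator_left V X)
  have hdecomp : ∀ w ∈ ⁅V, L⁆, ∃ a ∈ ⁅V, X⁆,
      ∃ b ∈ ⁅V, X.map (MulAut.conj g).toMonoidHom⁆, a * b = w := by
    intro w hw
    rw [← h1] at hw
    exact (mem_sup_iff_of_le_normalizer hnorm).1 hw
  have hgL : ∀ w : G, (∀ x ∈ X, x * w = w * x) →
      (∀ y ∈ X.map (MulAut.conj g).toMonoidHom, y * w = w * y) → g * w = w * g := by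
    intro w hwX hwY
    exact commute_sup hwX hwY g (hgen ▸ hg)
  -- (2)
  have h2 : ⁅V, L⁆ ⊓ Subgroup.centralizer (X : Set G) ≤ ⁅V, X⁆ := by
    intro w hw
    rw [Subgroup.mem_inf, Subgroup.mem_centralizer_iff] at hw
    obtain ⟨hwW, hwX⟩ := hw
    obtain ⟨a, ha, b, hb, rfl⟩ := hdecomp w hwW
    have hbX : ∀ x ∈ X, x * b = b * x := by
      intro x hx
      have e1 := hwX x hx
      have e2 := hqX a ha x hx
      have : a * (x * b) = a * (b * x) := by
        calc a * (x * b) = (a * x) * b := by group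
          _ = (x * a) * b := by rw [e2]
          _ = x * (a * b) := by group
          _ = a * b * x := e1
          _ = a * (b * x) := by group
      exact mul_left_cancel this
    have hbg := hgL b hbX (hqY b hb)
    rw [hVY] at hb
    obtain ⟨b', hb', hbb'⟩ := hb
    have : b' = b := by
      have e : b = g * b' * g⁻¹ := by rw [← hbb']; simp
      have : g * b' = g * b := by
        calc g * b' = (g * b' * g⁻¹) * g := by group
          _ = b * g := by rw [← e]
          _ = g * b := hbg.symm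
      exact mul_left_cancel this
    rw [← this]
    exact Subgroup.mul_mem _ ha hb'
  have h2' : ⁅V, L⁆ ⊓ Subgroup.centralizer ((X.map (MulAut.conj g).toMonoidHom : Subgroup G) : Set G)
      ≤ ⁅V, X.map (MulAut.conj g).toMonoidHom⁆ := by
    intro w hw
    rw [Subgroup.mem_inf, Subgroup.mem_centralizer_iff] at hw
    obtain ⟨hwW, hwY⟩ := hw
    obtain ⟨a, ha, b, hb, rfl⟩ := hdecomp w hwW
    have haY : ∀ y ∈ X.map (MulAut.conj g).toMonoidHom, y * a = a * y := by
      intro y hy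
      have e1 := hwY y hy
      have e2 := hqY b hb y hy
      have : (y * a) * b = (a * y) * b := by
        calc (y * a) * b = y * (a * b) := by group
          _ = a * b * y := e1
          _ = a * (b * y) := by group
          _ = a * (y * b) := by rw [e2]
          _ = (a * y) * b := by group
      exact mul_right_cancel this
    have hag := hgL a (hqX a ha) haY
    have : a ∈ ⁅V, X.map (MulAut.conj g).toMonoidHom⁆ := by
      rw [hVY]
      refine ⟨a, ha, ?_⟩
      simp only [MulEquiv.coe_toMonoidHom, MulAut.conj_apply]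
      rw [hag]; group
    exact Subgroup.mul_mem _ this hb
  refine ⟨h1, le_antisymm h2 ?_, le_antisymm ?_ ?_⟩
  · intro w hw
    rw [Subgroup.mem_inf, Subgroup.mem_centralizer_iff]
    exact ⟨h1 ▸ Subgroup.mem_sup_left hw, fun x hx => hqX w hw x hx⟩
  · intro w hw
    rw [Subgroup.mem_inf] at hw
    obtain ⟨hwW, hwL⟩ := hw
    rw [Subgroup.mem_inf]
    constructor
    · apply h2
      rw [Subgroup.mem_inf]
      exact ⟨hwW, Subgroup.centralizer_le hX hwL⟩
    · apply h2'
      rw [Subgroup.mem_inf]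
      exact ⟨hwW, Subgroup.centralizer_le hYL hwL⟩
  · intro w hw
    rw [Subgroup.mem_inf] at hw
    obtain ⟨hwX, hwY⟩ := hw
    rw [Subgroup.mem_inf, Subgroup.mem_centralizer_iff]
    refine ⟨h1 ▸ Subgroup.mem_sup_left hwX, ?_⟩
    intro l hl
    exact commute_sup (hqX w hwX) (hqY w hwY) l (hgen ▸ hl)

end Cfsg.Agent.S2833
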