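import Mathlib
import Cfsg.Statements.S2835
import Cfsg.Agent.Lib.Helper16.Conj
import Cfsg.Agent.Lib.Helper16.Coatom
import Cfsg.Agent.Lib.Helper14.Basic

set_option autoImplicit false
open Cfsg

namespace Cfsg.Agent.S2835

open Cfsg.Agent.Helper16

/-- Let L be a finite group, L₀ a maximal subgroup, T a Sylow p-subgroup of L₀ and Y ≤ T, and suppose L is Y-minimal (generated by the conjugates of Y, with Y in exactly one maximal subgroup, necessarily L₀). Then N_L(T) ≤ L₀, O_p(L) ≤ L₀ and T is a Sylow p-subgroup of L; N_L(L₀) = L₀; L = ⟨Y, gYg⁻¹⟩ for each g ∈ L outside L₀; and if Y is abelian then Y ∩ gYg⁻¹ = C_Y(L) for each such g. -/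
theorem result {L : Type*} [Group L] [Finite L] {p : ℕ} [Fact p.Prime] (L₀ : Subgroup L) (hL₀ : IsCoatom L₀) (T : Sylow p ↥L₀) (Y : Subgroup L) (hYT : Y ≤ (T : Subgroup ↥L₀).map L₀.subtype) (hmin : Cfsg.IsMinimalOver Y) : Subgroup.normalizer (((T : Subgroup ↥L₀).map L₀.subtype : Subgroup L) : Set L) ≤ L₀ ∧ Cfsg.pCore p L ≤ L₀ ∧ (∃ P : Sylow p L, (P : Subgroup L) = (T : Subgroup ↥L₀).map L₀.subtype) ∧ Subgroup.normalizer (L₀ : Set L) = L₀ ∧ (∀ g : L, g ∉ L₀ → Y ⊔ Y.map (MulAut.conj g).toMonoidHom = ⊤) ∧ (IsMulCommutative ↥Y → ∀ g : L, g ∉ L₀ → Y ⊓ Y.map (MulAut.conj g).toMonoidHom = Y ⊓ Subgroup.center L) := by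
  obtain ⟨hgen, M, ⟨hMco, hYM⟩, hMuniq⟩ := hmin
  have hT'L₀ : (T : Subgroup ↥L₀).map L₀.subtype ≤ L₀ := by
    rintro _ ⟨x, -, rfl⟩; exact x.2
  have hYL₀ : Y ≤ L₀ := hYT.trans hT'L₀
  have hML₀ : M = L₀ := (hMuniq L₀ ⟨hL₀, hYL₀⟩).symm
  have hle : ∀ K : Subgroup L, Y ≤ K → K ≠ ⊤ → K ≤ L₀ := by
    intro K hYK hK
    rcases eq_top_or_exists_le_coatom K with h | ⟨M', hM', hKM'⟩
    · exact absurd h hK
    · have := hMuniq M' ⟨hM', hYK.trans hKM'⟩
      rw [← hML₀, ← this]; exact hKM'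
  have hnotnormal : ∀ K : Subgroup L, K.Normal → Y ≤ K → K ≤ L₀ → False := by
    intro K hK hYK hKL₀
    have : Subgroup.normalClosure (Y : Set L) ≤ K := Subgroup.normalClosure_le_normal hYK
    rw [hgen] at this
    exact hL₀.1 (eq_top_iff.2 (this.trans hKL₀))
  have hT'p : IsPGroup p ((T : Subgroup ↥L₀).map L₀.subtype : Subgroup L) := T.2.map _
  -- (a)
  have ha : Subgroup.normalizer (((T : Subgroup ↥L₀).map L₀.subtype : Subgroup L) : Set L) ≤ L₀ := by
    apply hle _ (hYT.trans Subgroup.le_normalizer)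
    intro h
    exact hnotnormal _ (Subgroup.normalizer_eq_top_iff.1 h) hYT hT'L₀
  -- (c)
  have hc : ∃ P : Sylow p L, (P : Subgroup L) = (T : Subgroup ↥L₀).map L₀.subtype := by
    obtain ⟨P, hP⟩ := hT'p.exists_le_sylow
    refine ⟨P, ?_⟩
    by_contra hne
    have hlt : (((T : Subgroup ↥L₀).map L₀.subtype : Subgroup L).subgroupOf (P : Subgroup L)) < ⊤ := by
      rw [lt_top_iff_ne_top]
      intro h
      apply hne
      apply le_antisymm _ hP
      intro x hx
      have : (⟨x, hx⟩ : (P : Subgroup L)) ∈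
          (((T : Subgroup ↥L₀).map L₀.subtype : Subgroup L).subgroupOf (P : Subgroup L)) := by
        rw [h]; trivial
      exact this
    have hnil : Group.IsNilpotent (P : Subgroup L) := P.2.isNilpotent
    have hnc := Group.normalizerCondition_of_isNilpotent (G := (P : Subgroup L)) _ hlt
    obtain ⟨x, hxN, hxT⟩ := SetLike.exists_of_lt hnc
    rw [Subgroup.mem_subgroupOf] at hxT
    -- x normalizes T' in L
    have hxN' : (x : L) ∈ Subgroup.normalizer
        (((T : Subgroup ↥L₀).map L₀.subtype : Subgroup L) : Set L) := by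
      rw [mem_normalizer_iff_map_conj_eq]
      apply map_conj_eq_of_le
      rintro _ ⟨t, ht, rfl⟩
      rw [Subgroup.mem_normalizer_iff] at hxN
      have := (hxN ⟨t, hP ht⟩).1 (by rw [Subgroup.mem_subgroupOf]; exact ht)
      rw [Subgroup.mem_subgroupOf] at this
      simpa using this
    -- Q = P ⊓ N(T') is a p-subgroup of L₀ containing T'
    have hQL₀ : (P : Subgroup L) ⊓ Subgroup.normalizer
        (((T : Subgroup ↥L₀).map L₀.subtype : Subgroup L) : Set L) ≤ L₀ := inf_le_right.trans ha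
    have hQp : IsPGroup p (((P : Subgroup L) ⊓ Subgroup.normalizer
        (((T : Subgroup ↥L₀).map L₀.subtype : Subgroup L) : Set L) : Subgroup L).subgroupOf L₀) :=
      (P.2.to_le inf_le_left).comap_subtype
    have hTQ : (T : Subgroup ↥L₀) ≤ ((P : Subgroup L) ⊓ Subgroup.normalizer
        (((T : Subgroup ↥L₀).map L₀.subtype : Subgroup L) : Set L) : Subgroup L).subgroupOf L₀ := by
      intro t ht
      rw [Subgroup.mem_subgroupOf]
      have h1 : (t : L) ∈ (T : Subgroup ↥L₀).map L₀.subtype := ⟨t, ht, rfl⟩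
      exact ⟨hP h1, Subgroup.le_normalizer h1⟩
    have hQT := T.is_maximal' hQp hTQ
    have hxQ : (⟨(x : L), hQL₀ ⟨x.2, hxN'⟩⟩ : L₀) ∈
        ((P : Subgroup L) ⊓ Subgroup.normalizer
        (((T : Subgroup ↥L₀).map L₀.subtype : Subgroup L) : Set L) : Subgroup L).subgroupOf L₀ := by
      rw [Subgroup.mem_subgroupOf]; exact ⟨x.2, hxN'⟩
    rw [hQT] at hxQ
    exact hxT ⟨_, hxQ, rfl⟩
  -- (b)
  have hb : Cfsg.pCore p L ≤ L₀ := by
    obtain ⟨P, hP⟩ := hc
    exact ((Cfsg.Agent.Helper14.pCore_le_sylow P).trans hP.le).trans hT'L₀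
  -- (d)
  have hd : Subgroup.normalizer (L₀ : Set L) = L₀ := by
    by_contra hne
    have hlt : L₀ < Subgroup.normalizer (L₀ : Set L) :=
      lt_of_le_of_ne Subgroup.le_normalizer (Ne.symm hne)
    have := hL₀.2 _ hlt
    exact hnotnormal _ (Subgroup.normalizer_eq_top_iff.1 this) hYL₀ le_rfl
  -- (e)
  have he : ∀ g : L, g ∉ L₀ → Y ⊔ Y.map (MulAut.conj g).toMonoidHom = ⊤ := by
    intro g hg
    by_contra hne
    have h1 := hle _ le_sup_left hne
    have h2 : Y.map (MulAut.conj g).toMonoidHom ≤ L₀ := le_sup_right.trans h1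
    have h3 : Y ≤ L₀.map (MulAut.conj g⁻¹).toMonoidHom := by
      have := Subgroup.map_mono (f := (MulAut.conj g⁻¹).toMonoidHom) h2
      rwa [map_conj_inv_map_conj] at this
    have h4 : IsCoatom (L₀.map (MulAut.conj g⁻¹).toMonoidHom) := by
      apply isCoatom_map_of_surjective _ (MulAut.conj g⁻¹).surjective hL₀
      intro x hx
      rw [MonoidHom.mem_ker] at hx
      have : x = 1 := by
        have := (MulAut.conj g⁻¹).injective (hx.trans (map_one _).symm)
        exact this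
      rw [this]; exact L₀.one_mem
    have h5 := hMuniq _ ⟨h4, h3⟩
    rw [hML₀] at h5
    have h6 : g⁻¹ ∈ Subgroup.normalizer (L₀ : Set L) := mem_normalizer_iff_map_conj_eq.2 h5
    rw [hd] at h6
    exact hg (by simpa using L₀.inv_mem h6)
  refine ⟨ha, hb, hc, hd, he, ?_⟩
  intro hYc g hg
  have hYcomm : ∀ a ∈ Y, ∀ b ∈ Y, a * b = b * a := by
    intro a ha b hb
    have := (isMulCommutative_iff.1 hYc) ⟨a, ha⟩ ⟨b, hb⟩
    simpa using congrArg (fun z : Y => (z : L)) this
  ext z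
  rw [Subgroup.mem_inf, Subgroup.mem_inf]
  constructor
  · rintro ⟨hzY, hzg⟩
    refine ⟨hzY, ?_⟩
    have h1 : Y ≤ Subgroup.centralizer ({z} : Set L) := by
      intro a ha
      rw [Subgroup.mem_centralizer_iff]
      intro h hh
      rw [Set.mem_singleton_iff] at hh
      rw [hh]; exact hYcomm z hzY a ha
    have h2 : Y.map (MulAut.conj g).toMonoidHom ≤ Subgroup.centralizer ({z} : Set L) := by
      rintro _ ⟨a, ha, rfl⟩
      obtain ⟨w, hw, rfl⟩ := hzg
      rw [Subgroup.mem_centralizer_iff]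
      intro h hh
      rw [Set.mem_singleton_iff] at hh
      rw [hh, ← map_mul, ← map_mul, hYcomm w hw a ha]
    have h3 : (⊤ : Subgroup L) ≤ Subgroup.centralizer ({z} : Set L) := by
      rw [← he g hg]; exact sup_le h1 h2
    rw [Subgroup.mem_center_iff]
    intro x
    have := h3 (Subgroup.mem_top x)
    rw [Subgroup.mem_centralizer_iff] at this
    exact (this z rfl).symm
  · rintro ⟨hzY, hzc⟩
    refine ⟨hzY, ?_⟩
    rw [mem_map_conj]
    rw [Subgroup.mem_center_iff] at hzc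
    have : g⁻¹ * z * g = z := by
      rw [mul_assoc, ← hzc g, ← mul_assoc, inv_mul_cancel, one_mul]
    rw [this]; exact hzY

end Cfsg.Agent.S2835
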