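import Mathlib
import Cfsg.Statements.S2836
import Cfsg.Agent.Lib.Helper16.Coatom
import Cfsg.Agent.Lib.Helper19.SylowConj
import Cfsg.Agent.Lib.Helper21.FittingSubgroup
import Cfsg.Agent.Lib.Helper10.Alperin
import Cfsg.Agent.Lib.Helper7.Coprime
import Cfsg.Agent.Lib.Helper14.Basic
import Cfsg.Agent.Lib.Helper14.SylowNormal
import Cfsg.Agent.Lib.Helper14.Kieler
import Cfsg.Agent.S2835

set_option autoImplicit false
open Cfsg

namespace Cfsg.Agent.S2836

open Cfsg.Agent.Helper14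

section

variable {L : Type*} [Group L] [Finite L] {p : ℕ} [Fact p.Prime]

/-- a normal subgroup inside `L₀` meets the Sylow subgroup `P ≥ Y` in a normal subgroup of `L` -/
theorem inf_normal (L₀ : Subgroup L) (hL₀ : IsCoatom L₀) (Y : Subgroup L)
    (hle : ∀ K : Subgroup L, Y ≤ K → K ≠ ⊤ → K ≤ L₀) (P : Sylow p L) (hYP : Y ≤ (P : Subgroup L))
    (N : Subgroup L) (hN : N.Normal) (hNL₀ : N ≤ L₀) : ((P : Subgroup L) ⊓ N).Normal := by
  have hsyl : IsSylowOf p N ((P : Subgroup L) ⊓ N) := isSylowOf_inf_normal P hN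
  have hfr := frattini_normal hN hsyl
  have hPn : (P : Subgroup L) ≤ Subgroup.normalizer (((P : Subgroup L) ⊓ N : Subgroup L) : Set L) := by
    apply le_normalizer_of_conj_mem
    intro g hg x hx
    exact ⟨(P : Subgroup L).mul_mem ((P : Subgroup L).mul_mem hg hx.1) ((P : Subgroup L).inv_mem hg),
      hN.conj_mem x hx.2 g⟩
  rw [← Subgroup.normalizer_eq_top_iff]
  by_contra hne
  have h1 := hle _ (hYP.trans hPn) hne
  apply hL₀.1
  rw [eq_top_iff, ← hfr]
  exact sup_le h1 hNL₀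

/-- normal subgroups inside `L₀` are `p`-closed, with `O_p` a Sylow subgroup -/
theorem pclosed_of_normal (L₀ : Subgroup L) (hL₀ : IsCoatom L₀) (Y : Subgroup L)
    (hle : ∀ K : Subgroup L, Y ≤ K → K ≠ ⊤ → K ≤ L₀) (P : Sylow p L) (hYP : Y ≤ (P : Subgroup L))
    (N : Subgroup L) (hN : N.Normal) (hNL₀ : N ≤ L₀) :
    Cfsg.IsPClosed p ↥N ∧ Cfsg.pCore p ↥N = ((P : Subgroup L) ⊓ N).subgroupOf N ∧
      (Nat.card (↥N ⧸ Cfsg.pCore p ↥N)).Coprime p := by
  have hp : p.Prime := Fact.out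
  have hnorm := inf_normal L₀ hL₀ Y hle P hYP N hN hNL₀
  obtain ⟨Q₀, hQ₀⟩ := isSylowOf_inf_normal P hN
  have hQ₀eq : (Q₀ : Subgroup ↥N) = ((P : Subgroup L) ⊓ N).subgroupOf N := by
    rw [← hQ₀]
    unfold Subgroup.subgroupOf
    rw [Subgroup.comap_map_eq_self_of_injective N.subtype_injective]
  have hQ₀n : (Q₀ : Subgroup ↥N).Normal := by
    rw [hQ₀eq]
    exact hnorm.subgroupOf N
  have hcore : Cfsg.pCore p ↥N = (Q₀ : Subgroup ↥N) :=
    le_antisymm (pCore_le_sylow Q₀) (le_pCore hQ₀n Q₀.isPGroup')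
  refine ⟨?_, by rw [hcore, hQ₀eq], ?_⟩
  · intro Q
    letI := Sylow.unique_of_normal Q₀ hQ₀n
    rw [Subsingleton.elim Q Q₀]
    exact hQ₀n
  · rw [← Subgroup.index_eq_card, hcore, Nat.coprime_comm, Nat.Prime.coprime_iff_not_dvd hp]
    exact Q₀.not_dvd_index

end

open Cfsg.Agent.Helper10 Cfsg.Agent.Helper16 Cfsg.Agent.Helper19 in
theorem result {L : Type*} [Group L] [Finite L] {p : ℕ} [Fact p.Prime] (L₀ : Subgroup L) (hL₀ : IsCoatom L₀) (T : Sylow p ↥L₀) (Y : Subgroup L) (hYT : Y ≤ (T : Subgroup ↥L₀).map L₀.subtype) (hmin : Cfsg.IsMinimalOver Y) : (Cfsg.pCore p L ≤ L₀.normalCore ∧ (L₀.normalCore).map (QuotientGroup.mk' (Cfsg.pCore p L)) = frattini (L ⧸ Cfsg.pCore p L) ∧ Cfsg.IsPClosed p ↥(L₀.normalCore)) ∧ ∀ (N : Subgroup L) [N.Normal], N ≤ L₀ → Cfsg.IsPClosed p ↥N ∧ Group.IsNilpotent (↥N ⧸ Cfsg.pCore p ↥N) ∧ (Nat.card (↥N ⧸ Cfsg.pCore p ↥N)).Coprime p := by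
  have hp : p.Prime := Fact.out
  obtain ⟨-, hb, ⟨P, hP⟩, -, -, -⟩ := Cfsg.Agent.S2835.result L₀ hL₀ T Y hYT hmin
  obtain ⟨hgen, M₀, ⟨hM₀co, hYM₀⟩, hM₀uniq⟩ := hmin
  have hT'L₀ : (T : Subgroup ↥L₀).map L₀.subtype ≤ L₀ := by
    rintro _ ⟨x, -, rfl⟩; exact x.2
  have hYL₀ : Y ≤ L₀ := hYT.trans hT'L₀
  have hM₀ : M₀ = L₀ := (hM₀uniq L₀ ⟨hL₀, hYL₀⟩).symm
  have huniq : ∀ M : Subgroup L, IsCoatom M → Y ≤ M → M = L₀ :=
    fun M h1 h2 => (hM₀uniq M ⟨h1, h2⟩).trans hM₀
  have hle : ∀ K : Subgroup L, Y ≤ K → K ≠ ⊤ → K ≤ L₀ := by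
    intro K hYK hK
    rcases eq_top_or_exists_le_coatom K with h | ⟨M', hM', hKM'⟩
    · exact absurd h hK
    · rw [← huniq M' hM' (hYK.trans hKM')]; exact hKM'
  have hYP : Y ≤ (P : Subgroup L) := by rw [hP]; exact hYT
  set D := L₀.normalCore with hD
  have hDn : D.Normal := Subgroup.normalCore_normal L₀
  have hDL₀ : D ≤ L₀ := Subgroup.normalCore_le L₀
  set Q := Cfsg.pCore p L with hQ
  have hQD : Q ≤ D := Subgroup.normal_le_normalCore.mpr hb
  have hQP : Q ≤ (P : Subgroup L) := pCore_le_sylow P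
  obtain ⟨hD1, hD2, hD3⟩ := pclosed_of_normal L₀ hL₀ Y hle P hYP D hDn hDL₀
  set π := QuotientGroup.mk' Q with hπ
  have hπs : Function.Surjective π := QuotientGroup.mk'_surjective Q
  have hker : π.ker = Q := QuotientGroup.ker_mk' Q
  have hfr : D.map π = frattini (L ⧸ Q) := by
    apply le_antisymm
    · unfold frattini Order.radical
      apply le_iInf₂
      intro Mb hMb
      set M := Mb.comap π with hM
      have hMco : IsCoatom M := isCoatom_comap_of_surjective π hπs hMb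
      have hQM : Q ≤ M := by
        intro x hx
        rw [hM, Subgroup.mem_comap]
        have : π x = 1 := by rw [← MonoidHom.mem_ker, hker]; exact hx
        rw [this]; exact Mb.one_mem
      rw [Subgroup.map_le_iff_le_comap]
      change D ≤ M
      by_contra hDM
      have htop : M ⊔ D = ⊤ := by
        apply hMco.2
        refine lt_of_le_of_ne le_sup_left ?_
        intro h
        apply hDM
        rw [h]; exact le_sup_right
      have hidx : ¬ p ∣ M.index := by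
        haveI := hDn
        have h1 : M.relIndex (M ⊔ D) = M.relIndex D :=
          Cfsg.Agent.Helper21.relIndex_sup_eq_of_normal M D
        rw [htop, Subgroup.relIndex_top_right] at h1
        rw [h1, ← Subgroup.inf_relIndex_right]
        have hP₀n := inf_normal L₀ hL₀ Y hle P hYP D hDn hDL₀
        have hP₀Q : (P : Subgroup L) ⊓ D ≤ Q := le_pCore hP₀n (P.isPGroup'.to_le inf_le_left)
        have hP₀M : (P : Subgroup L) ⊓ D ≤ M ⊓ D := le_inf (hP₀Q.trans hQM) inf_le_right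
        intro hdvd
        have h2 := Subgroup.relIndex_dvd_of_le_left D hP₀M
        exact (isSylowOf_inf_normal P hDn).not_dvd_relIndex (hdvd.trans h2)
      obtain ⟨R, hR⟩ := exists_isSylowOf p M
      have hRidx : ¬ p ∣ R.relIndex ⊤ := by
        rw [Subgroup.relIndex_top_right, ← Subgroup.relIndex_mul_index hR.le]
        intro h
        rcases (Nat.Prime.dvd_mul hp).mp h with h | h
        · exact hR.not_dvd_relIndex h
        · exact hidx h
      obtain ⟨c, -, hc⟩ := conj_into_relSylow ⊤ R (P : Subgroup L) le_top hR.isPGroup hRidx le_top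
        P.isPGroup'
      have hYc : rcg c Y ≤ M := (rcg_mono c hYP).trans (hc.trans hR.le)
      have hM' : IsCoatom (M.map (MulAut.conj c).toMonoidHom) := isCoatom_map_conj M c hMco
      have hYM' : Y ≤ M.map (MulAut.conj c).toMonoidHom := by
        intro y hy
        refine ⟨c⁻¹ * y * c, hYc ?_, ?_⟩
        · rw [mem_rcg]
          have : c * (c⁻¹ * y * c) * c⁻¹ = y := by group
          rw [this]; exact hy
        · show c * (c⁻¹ * y * c) * c⁻¹ = y
          group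
      have hML₀ := huniq _ hM' hYM'
      apply hDM
      intro d hd
      have h1 : c * d * c⁻¹ ∈ L₀ := hDL₀ (hDn.conj_mem d hd c)
      rw [← hML₀] at h1
      obtain ⟨m, hm, hmd⟩ := h1
      have hmd' : c * m * c⁻¹ = c * d * c⁻¹ := hmd
      have : m = d := by
        have := congrArg (fun z => c⁻¹ * z * c) hmd'
        simpa [mul_assoc] using this
      rw [← this]; exact hm
    · have hL₀b : IsCoatom (L₀.map π) :=
        isCoatom_map_of_surjective π hπs hL₀ (by rw [hker]; exact hb)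
      have h1 : frattini (L ⧸ Q) ≤ L₀.map π := frattini_le_coatom hL₀b
      haveI hcn : ((frattini (L ⧸ Q)).comap π).Normal := inferInstance
      have h2 : (frattini (L ⧸ Q)).comap π ≤ L₀ := by
        intro x hx
        obtain ⟨l, hl, hlx⟩ := h1 hx
        have h3 : l⁻¹ * x ∈ Q := by
          rw [← hker, MonoidHom.mem_ker, map_mul, map_inv, hlx, inv_mul_cancel]
        have : x = l * (l⁻¹ * x) := by group
        rw [this]
        exact L₀.mul_mem hl (hb h3)
      have h3 : (frattini (L ⧸ Q)).comap π ≤ D := Subgroup.normal_le_normalCore.mpr h2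
      calc frattini (L ⧸ Q) = ((frattini (L ⧸ Q)).comap π).map π :=
            (Subgroup.map_comap_eq_self_of_surjective hπs _).symm
        _ ≤ D.map π := Subgroup.map_mono h3
  refine ⟨⟨hQD, hfr, hD1⟩, ?_⟩
  intro N hNn hNL₀
  obtain ⟨h1, h2, h3⟩ := pclosed_of_normal L₀ hL₀ Y hle P hYP N hNn hNL₀
  refine ⟨h1, ?_, h3⟩
  have hND : N ≤ D := Subgroup.normal_le_normalCore.mpr hNL₀
  set ψ : ↥N →* L ⧸ Q := π.comp N.subtype with hψ
  have hPNn := inf_normal L₀ hL₀ Y hle P hYP N hNn hNL₀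
  have hPNQ : (P : Subgroup L) ⊓ N ≤ Q := le_pCore hPNn (P.isPGroup'.to_le inf_le_left)
  have hkerψ : ψ.ker = Cfsg.pCore p ↥N := by
    rw [h2]
    ext n
    rw [MonoidHom.mem_ker, Subgroup.mem_subgroupOf]
    have e : ψ n = 1 ↔ (n : L) ∈ Q := QuotientGroup.eq_one_iff (n : L)
    rw [e]
    constructor
    · intro h; exact ⟨hQP h, n.2⟩
    · intro h; exact hPNQ h
  have hrange : ψ.range ≤ frattini (L ⧸ Q) := by
    rw [← hfr]
    rintro _ ⟨n, rfl⟩
    exact ⟨n, hND n.2, rfl⟩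
  have hfn : Group.IsNilpotent ↥(frattini (L ⧸ Q)) := frattini_nilpotent
  haveI hrn : Group.IsNilpotent ↥ψ.range := Cfsg.Agent.Helper7.isNilpotent_of_le hrange hfn
  have e1 : ↥N ⧸ Cfsg.pCore p ↥N ≃* ↥N ⧸ ψ.ker := QuotientGroup.quotientMulEquivOfEq hkerψ.symm
  have e2 : ↥N ⧸ ψ.ker ≃* ↥ψ.range := QuotientGroup.quotientKerEquivRange ψ
  exact Group.nilpotent_of_mulEquiv (e1.trans e2).symm

end Cfsg.Agent.S2836
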