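import Mathlib
import Cfsg.Statements.S2837
import Cfsg.Agent.Lib.Helper9.FrattiniElem
import Cfsg.Agent.Lib.Helper21.PGroupFrattini
import Cfsg.Agent.Lib.Helper14.Basic
import Cfsg.Agent.Lib.Helper14.PReducedAmb
import Cfsg.Agent.Lib.Helper14.PReducedComm
import Cfsg.Agent.S2835

set_option autoImplicit false
open Cfsg

namespace Cfsg.Agent.S2837

open Cfsg.Agent.Helper14
open scoped commutatorElement

/-- commutators of joins modulo a normal subgroup -/
theorem commutator_sup_le {G : Type*} [Group G] {C H₁ H₂ K₁ K₂ : Subgroup G} [hC : C.Normal]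
    (h11 : ⁅H₁, K₁⁆ ≤ C) (h12 : ⁅H₁, K₂⁆ ≤ C) (h21 : ⁅H₂, K₁⁆ ≤ C) (h22 : ⁅H₂, K₂⁆ ≤ C) :
    ⁅H₁ ⊔ H₂, K₁ ⊔ K₂⁆ ≤ C := by
  set π := QuotientGroup.mk' C with hπ
  have hker : π.ker = C := QuotientGroup.ker_mk' C
  have key : ∀ H K : Subgroup G, ⁅H, K⁆ ≤ C ↔ H.map π ≤ Subgroup.centralizer ((K.map π : Subgroup (G ⧸ C)) : Set (G ⧸ C)) := by
    intro H K
    rw [← Subgroup.commutator_eq_bot_iff_le_centralizer, ← Subgroup.map_commutator,
      Subgroup.map_eq_bot_iff, hker]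
  rw [key, Subgroup.map_sup, Subgroup.map_sup]
  apply sup_le
  · rw [Subgroup.le_centralizer_iff]
    apply sup_le
    · rw [Subgroup.le_centralizer_iff]; exact (key H₁ K₁).mp h11
    · rw [Subgroup.le_centralizer_iff]; exact (key H₁ K₂).mp h12
  · rw [Subgroup.le_centralizer_iff]
    apply sup_le
    · rw [Subgroup.le_centralizer_iff]; exact (key H₂ K₁).mp h21
    · rw [Subgroup.le_centralizer_iff]; exact (key H₂ K₂).mp h22


theorem result {L : Type*} [Group L] [Finite L] {p : ℕ} [Fact p.Prime] (hchar : Subgroup.centralizer (Cfsg.pCore p L : Set L) ≤ Cfsg.pCore p L) (L₀ : Subgroup L) (hL₀ : IsCoatom L₀) (Y : Subgroup L) (hYL₀ : Y ≤ L₀) (hYel : Cfsg.IsElementaryAbelian p Y) (hmin : Cfsg.IsMinimalOver Y) (hOY : Cfsg.pCore p L ≤ Subgroup.normalizer (Y : Set L)) (A : Subgroup L) (hA : A = Subgroup.normalClosure (((Cfsg.pCore p L ⊓ Y : Subgroup L)) : Set L)) (g : L) (hg : g ∉ L₀) : (frattini ↥A).map A.subtype = ⁅A, A⁆ ∧ ⁅A, A⁆ = ⁅A ⊓ Y, A⁆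 ∧ ⁅A ⊓ Y, A⁆ = ⁅A ⊓ Y, A ⊓ Y.map (MulAut.conj g).toMonoidHom⁆ ∧ ⁅A ⊓ Y, A⁆ ≤ Y ⊓ Subgroup.center L ∧ Y ⊓ Y.map (MulAut.conj g).toMonoidHom = Y ⊓ Subgroup.center L ∧ (A ⊓ Y) ⊓ (A ⊓ Y.map (MulAut.conj g).toMonoidHom) = Y ⊓ Subgroup.center L ∧ A ⊓ Subgroup.center L = Y ⊓ Subgroup.center L := by
  have hp : p.Prime := Fact.out
  set Q := Cfsg.pCore p L with hQ
  have hQn : Q.Normal := Cfsg.pCore_normal p L
  have hQp : IsPGroup p Q := pCore_isPGroup p L
  set Yg := Y.map (MulAut.conj g).toMonoidHom with hYg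
  have hYp : IsPGroup p Y := IsElementaryAbelian.isPGroup hYel
  have hYp' : IsPGroup p (Y.subgroupOf L₀) := hYp.comap_subtype
  obtain ⟨T, hT⟩ := hYp'.exists_le_sylow
  have hYT : Y ≤ (T : Subgroup ↥L₀).map L₀.subtype := by
    intro y hy
    exact ⟨⟨y, hYL₀ hy⟩, hT (Subgroup.mem_subgroupOf.mpr hy), rfl⟩
  obtain ⟨-, -, -, -, he, hf⟩ := Cfsg.Agent.S2835.result L₀ hL₀ T Y hYT hmin
  have hsup : Y ⊔ Yg = ⊤ := he g hg
  have hinf : Y ⊓ Yg = Y ⊓ Subgroup.center L := hf hYel.1 g hg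
  have hYc : ∀ a ∈ Y, ∀ b ∈ Y, a * b = b * a := IsElementaryAbelian.comm hYel
  have hYgc : ∀ a ∈ Yg, ∀ b ∈ Yg, a * b = b * a := by
    rintro _ ⟨a, ha, rfl⟩ _ ⟨b, hb, rfl⟩
    rw [← map_mul, ← map_mul, hYc a ha b hb]
  have hYgexp : ∀ a ∈ Yg, a ^ p = 1 := by
    rintro _ ⟨a, ha, rfl⟩
    rw [← map_pow, hYel.2 a ha, map_one]
  have hQYg : Q ≤ Subgroup.normalizer (Yg : Set L) := by
    apply le_normalizer_of_conj_mem
    rintro q hq _ ⟨y, hy, rfl⟩
    have hq' : g⁻¹ * q * g ∈ Q := by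
      have := hQn.conj_mem q hq g⁻¹
      simpa using this
    have h1 : (g⁻¹ * q * g) * y * (g⁻¹ * q * g)⁻¹ ∈ Y :=
      (Subgroup.mem_normalizer_iff.mp (hOY hq') y).mp hy
    refine ⟨_, h1, ?_⟩
    show g * ((g⁻¹ * q * g) * y * (g⁻¹ * q * g)⁻¹) * g⁻¹ = q * (g * y * g⁻¹) * q⁻¹
    group
  set B := Q ⊓ Y with hB
  set Bg := Q ⊓ Yg with hBg
  set Z₀ := Y ⊓ Subgroup.center L with hZ₀
  have hcentral : ∀ z ∈ Subgroup.center L, ∀ x : L, x * z * x⁻¹ = z := by
    intro z hz x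
    have := Subgroup.mem_center_iff.mp hz x
    rw [this]; group
  have hZ₀Q : Z₀ ≤ Q := by
    apply le_pCore _ (hYp.to_le inf_le_left)
    refine ⟨fun z hz x => ?_⟩
    rw [hcentral z hz.2 x]; exact hz
  have hZ₀Y : Z₀ ≤ Y := inf_le_left
  have hZ₀Yg : Z₀ ≤ Yg := by
    have : Z₀ = Y ⊓ Yg := hinf.symm
    rw [this]; exact inf_le_right
  have hZ₀B : Z₀ ≤ B := le_inf hZ₀Q hZ₀Y
  have hZ₀Bg : Z₀ ≤ Bg := le_inf hZ₀Q hZ₀Yg
  have hcommQ : ∀ W : Subgroup L, Q ≤ Subgroup.normalizer (W : Set L) → ∀ y ∈ W, ∀ q ∈ Q, ⁅y, q⁆ ∈ Q ⊓ W := by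
    intro W hW y hy q hq
    refine ⟨?_, ?_⟩
    · have : ⁅y, q⁆ = (y * q * y⁻¹) * q⁻¹ := by simp only [commutatorElement_def]
      rw [this]; exact Q.mul_mem (hQn.conj_mem q hq y) (Q.inv_mem hq)
    · have : ⁅y, q⁆ = y * (q * y⁻¹ * q⁻¹) := by simp only [commutatorElement_def]; group
      rw [this]
      exact W.mul_mem hy ((Subgroup.mem_normalizer_iff.mp (hW hq) y⁻¹).mp (W.inv_mem hy))
  have hcommYQ : ∀ y ∈ Y, ∀ q ∈ Q, ⁅y, q⁆ ∈ B := hcommQ Y hOY
  have hcommYgQ : ∀ y ∈ Yg, ∀ q ∈ Q, ⁅y, q⁆ ∈ Bg := hcommQ Yg hQYg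
  have hC : ⁅B, Bg⁆ ≤ Z₀ := by
    rw [Subgroup.commutator_le]
    intro b hb c hc
    have hmem : ⁅b, c⁆ ∈ Y ⊓ Yg := by
      refine ⟨(hcommYQ b hb.2 c hc.1).2, ?_⟩
      have h1 := (hcommYgQ c hc.2 b hb.1).2
      have e : ⁅b, c⁆ = (⁅c, b⁆)⁻¹ := (commutatorElement_inv c b).symm
      rw [e]; exact Yg.inv_mem h1
    rw [hinf] at hmem
    exact hmem
  -- `A = B ⊔ Bg`
  have hBA : B ≤ A := by rw [hA]; exact Subgroup.le_normalClosure
  have hAn : A.Normal := by rw [hA]; exact Subgroup.normalClosure_normal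
  have hBgA : Bg ≤ A := by
    rintro x ⟨hxQ, ⟨y, hy, rfl⟩⟩
    have hyQ : y ∈ Q := by
      have := hQn.conj_mem _ hxQ g⁻¹
      have e : g⁻¹ * (MulAut.conj g).toMonoidHom y * g⁻¹⁻¹ = y := by
        show g⁻¹ * (g * y * g⁻¹) * g⁻¹⁻¹ = y
        group
      rwa [e] at this
    exact hAn.conj_mem y (hBA ⟨hyQ, hy⟩) g
  have hnormBBg : ∀ W W' : Subgroup L, (∀ a ∈ W, ∀ b ∈ W, a * b = b * a) →
      (∀ y ∈ W, ∀ q ∈ Q, ⁅y, q⁆ ∈ Q ⊓ W) →
      W ≤ Subgroup.normalizer (((Q ⊓ W) ⊔ (Q ⊓ W') : Subgroup L) : Set L) := by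
    intro W W' hWc hWQ
    apply le_normalizer_of_conj_mem
    intro y hy x hx
    have hle : ((Q ⊓ W) ⊔ (Q ⊓ W')).map (MulAut.conj y).toMonoidHom ≤ (Q ⊓ W) ⊔ (Q ⊓ W') := by
      rw [Subgroup.map_sup]
      apply sup_le
      · rintro _ ⟨b, hb, rfl⟩
        apply Subgroup.mem_sup_left
        have e : (MulAut.conj y).toMonoidHom b = b := by
          show y * b * y⁻¹ = b
          rw [hWc y hy b hb.2]; group
        rw [e]; exact hb
      · rintro _ ⟨c, hc, rfl⟩
        have h1 := hWQ y hy c hc.1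
        have e : (MulAut.conj y).toMonoidHom c = ⁅y, c⁆ * c := by
          show y * c * y⁻¹ = ⁅y, c⁆ * c
          simp only [commutatorElement_def]; group
        rw [e]
        exact Subgroup.mul_mem_sup h1 hc
    exact hle (Subgroup.mem_map_of_mem _ hx)
  have hBBgn : (B ⊔ Bg).Normal := by
    rw [← Subgroup.normalizer_eq_top_iff, eq_top_iff, ← hsup]
    apply sup_le
    · exact hnormBBg Y Yg hYc hcommYQ
    · have := hnormBBg Yg Y hYgc hcommYgQ
      rwa [sup_comm] at this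
  have hAeq : A = B ⊔ Bg := by
    apply le_antisymm
    · rw [hA]; exact Subgroup.normalClosure_le_normal (fun x hx => Subgroup.mem_sup_left hx)
    · exact sup_le hBA hBgA
  have hAQ : A ≤ Q := by rw [hA]; exact Subgroup.normalClosure_le_normal inf_le_left
  have hAY : A ⊓ Y = B := le_antisymm (le_inf (inf_le_left.trans hAQ) inf_le_right) (le_inf hBA inf_le_right)
  have hAYg : A ⊓ Yg = Bg := le_antisymm (le_inf (inf_le_left.trans hAQ) inf_le_right) (le_inf hBgA inf_le_right)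
  have hCn : (⁅B, Bg⁆).Normal := by
    refine ⟨fun z hz x => ?_⟩
    rw [hcentral z (hC hz).2 x]; exact hz
  have hBB : ⁅B, B⁆ ≤ ⁅B, Bg⁆ := by
    rw [Subgroup.commutator_le]
    intro a ha b hb
    have : ⁅a, b⁆ = 1 := by
      rw [commutatorElement_eq_one_iff_commute]; exact hYc a ha.2 b hb.2
    rw [this]; exact Subgroup.one_mem _
  have hBgBg : ⁅Bg, Bg⁆ ≤ ⁅B, Bg⁆ := by
    rw [Subgroup.commutator_le]
    intro a ha b hb
    have : ⁅a, b⁆ = 1 := by
      rw [commutatorElement_eq_one_iff_commute]; exact hYgc a ha.2 b hb.2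
    rw [this]; exact Subgroup.one_mem _
  have hAA : ⁅A, A⁆ = ⁅B, Bg⁆ := by
    apply le_antisymm
    · rw [hAeq]
      exact commutator_sup_le hBB le_rfl (by rw [Subgroup.commutator_comm]) hBgBg
    · exact Subgroup.commutator_mono hBA hBgA
  have hBAc : ⁅B, A⁆ = ⁅B, Bg⁆ := by
    apply le_antisymm
    · rw [← hAA]; exact Subgroup.commutator_mono hBA le_rfl
    · exact Subgroup.commutator_mono le_rfl hBgA
  have hAp : IsPGroup p A := hQp.to_le hAQ
  refine ⟨?_, ?_, ?_, ?_, hinf, ?_, ?_⟩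
  · -- Frattini
    rw [← Subgroup.map_subtype_commutator A]
    congr 1
    apply le_antisymm
    · have hexp : ∀ a : Abelianization ↥A, a ^ p = 1 := by
        set ψ : ↥A →* Abelianization ↥A := (powMonoidHom p).comp Abelianization.of with hψ
        have hk : ψ.ker = ⊤ := by
          rw [eq_top_iff]
          have h1 : (B ⊔ Bg).subgroupOf A = ⊤ := by
            rw [← hAeq]; exact Subgroup.subgroupOf_self A
          rw [← h1, Subgroup.subgroupOf_sup hBA hBgA]
          apply sup_le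
          · intro x hx
            rw [MonoidHom.mem_ker]
            show (Abelianization.of x) ^ p = 1
            rw [← map_pow]
            have : x ^ p = 1 := Subtype.ext (by simpa using hYel.2 (x : L) (Subgroup.mem_subgroupOf.mp hx).2)
            rw [this, map_one]
          · intro x hx
            rw [MonoidHom.mem_ker]
            show (Abelianization.of x) ^ p = 1
            rw [← map_pow]
            have : x ^ p = 1 := Subtype.ext (by simpa using hYgexp (x : L) (Subgroup.mem_subgroupOf.mp hx).2)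
            rw [this, map_one]
        intro a
        obtain ⟨x, rfl⟩ := QuotientGroup.mk_surjective a
        have : x ∈ ψ.ker := by rw [hk]; trivial
        exact this
      have := Cfsg.Agent.Helper9.frattini_le_ker_of_elementary (p := p) (Abelianization.of (G := ↥A))
        (fun a b => mul_comm a b) hexp
      rwa [Abelianization.ker_of] at this
    · rw [commutator_def, Subgroup.commutator_le]
      intro x _ y _
      exact Cfsg.Agent.Helper21.commutator_mem_frattini_of_isPGroup hAp x y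
  · rw [hAY, hAA, hBAc]
  · rw [hAY, hAYg, hBAc]
  · rw [hAY, hBAc]; exact hC
  · rw [hAY, hAYg]
    apply le_antisymm
    · have : B ⊓ Bg ≤ Y ⊓ Yg := inf_le_inf inf_le_right inf_le_right
      rwa [hinf] at this
    · exact le_inf hZ₀B hZ₀Bg
  · apply le_antisymm
    · rintro a ⟨haA, haZ⟩
      refine ⟨?_, haZ⟩
      rw [hAeq] at haA
      have hBnBg : B ≤ Subgroup.normalizer (Bg : Set L) := by
        apply le_normalizer_of_conj_mem
        intro b hb c hc
        have h1 : ⁅b, c⁆ ∈ Bg := hZ₀Bg (hC (Subgroup.commutator_mem_commutator hb hc))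
        have e : b * c * b⁻¹ = ⁅b, c⁆ * c := by simp only [commutatorElement_def]; group
        rw [e]; exact Bg.mul_mem h1 hc
      obtain ⟨b, hb, c, hc, rfl⟩ := (mem_sup_of_le_normalizer hBnBg).mp haA
      -- `c` is central
      have hcY : ∀ y ∈ Y, y * c = c * y := by
        intro y hy
        have h1 : y * (b * c) = (b * c) * y := Subgroup.mem_center_iff.mp haZ y
        have h2 : y * b = b * y := hYc y hy b hb.2
        have : b * (y * c) = b * (c * y) := by
          calc b * (y * c) = (y * b) * c := by rw [h2]; group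
            _ = y * (b * c) := by group
            _ = (b * c) * y := h1
            _ = b * (c * y) := by group
        exact mul_left_cancel this
      have hcYg : ∀ y ∈ Yg, y * c = c * y := fun y hy => hYgc y hy c hc.2
      have hccen : c ∈ Subgroup.center L := by
        rw [Subgroup.mem_center_iff]
        intro x
        have hx : x ∈ Y ⊔ Yg := by rw [hsup]; trivial
        have hle : Y ⊔ Yg ≤ Subgroup.centralizer ({c} : Set L) := by
          apply sup_le
          · intro y hy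
            rw [Subgroup.mem_centralizer_iff]
            rintro _ rfl
            exact (hcY y hy).symm
          · intro y hy
            rw [Subgroup.mem_centralizer_iff]
            rintro _ rfl
            exact (hcYg y hy).symm
        have := (Subgroup.mem_centralizer_iff.mp (hle hx)) c rfl
        exact this.symm
      have hcY' : c ∈ Y := by
        obtain ⟨y, hy, hyc⟩ := hc.2
        have h1 : g * y * g⁻¹ = c := hyc
        have h2 : y = c := by
          have h3 := hcentral c hccen g⁻¹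
          calc y = g⁻¹ * (g * y * g⁻¹) * g⁻¹⁻¹ := by group
            _ = g⁻¹ * c * g⁻¹⁻¹ := by rw [h1]
            _ = c := h3
        rw [← h2]; exact hy
      exact Y.mul_mem hb.2 hcY'
    · exact le_inf (hZ₀B.trans hBA) inf_le_right

end Cfsg.Agent.S2837
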