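import Mathlib
import Cfsg.Statements.S2838
import Cfsg.Agent.Lib.Helper16.Basic
import Cfsg.Agent.Lib.Helper16.Conj
import Cfsg.Agent.Lib.Helper16.PGroup2

set_option autoImplicit false
open Cfsg

namespace Cfsg.Agent.S2838

open Cfsg.Agent.Helper16

variable {H : Type*} [Group H]

/-- conjugating a subgroup elementwise into `T` -/
theorem map_conj_le_of_forall {A T : Subgroup H} {k : H} (h : ∀ a ∈ A, k * a * k⁻¹ ∈ T) :
    A.map (MulAut.conj k).toMonoidHom ≤ T := by
  rintro _ ⟨a, ha, rfl⟩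
  simpa using h a ha

/-- weakly closed ⇒ condition (3) -/
theorem wc_imp_c3 [Finite H] {p : ℕ} [Fact p.Prime] (Q : Subgroup H)
    (hW : Cfsg.IsWeaklyClosedSubgroup p Q) (R : Subgroup H) (hR : IsPGroup p R) (hQR : Q ≤ R) :
    Subgroup.normalizer (R : Set H) ≤ Subgroup.normalizer (Q : Set H) := by
  obtain ⟨T, hQT, hwc⟩ := hW
  obtain ⟨k, hk⟩ := exists_conj_le_sylow hR T
  have hRk : R.map (MulAut.conj k).toMonoidHom ≤ T := map_conj_le_of_forall hk
  have hQk : Q.map (MulAut.conj k).toMonoidHom = Q := hwc k ((Subgroup.map_mono hQR).trans hRk)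
  intro n hn
  have hRn : R.map (MulAut.conj n).toMonoidHom = R := map_conj_eq_of_mem_normalizer hn
  have h1 : Q.map (MulAut.conj (k * n)).toMonoidHom ≤ T := by
    rw [map_conj_mul]
    refine le_trans (Subgroup.map_mono ?_) hRk
    rw [← hRn]; exact Subgroup.map_mono hQR
  have h2 := hwc (k * n) h1
  rw [map_conj_mul] at h2
  have h3 : Q.map (MulAut.conj n).toMonoidHom = Q := map_conj_injective k (h2.trans hQk.symm)
  exact mem_normalizer_iff_map_conj_eq.2 h3

/-- condition (3) ⇒ weakly closed -/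
theorem c3_imp_wc [Finite H] {p : ℕ} [Fact p.Prime] (Q : Subgroup H) (hQp : IsPGroup p Q)
    (h3 : ∀ R : Subgroup H, IsPGroup p R → Q ≤ R →
      Subgroup.normalizer (R : Set H) ≤ Subgroup.normalizer (Q : Set H)) :
    Cfsg.IsWeaklyClosedSubgroup p Q := by
  obtain ⟨T, hQT⟩ := hQp.exists_le_sylow
  refine ⟨T, hQT, ?_⟩
  intro g hg
  have hTN : (T : Subgroup H) ≤ Subgroup.normalizer (Q : Set H) :=
    Subgroup.le_normalizer.trans (h3 T T.2 hQT)
  have hQR' : Q ≤ (T : Subgroup H).map (MulAut.conj g⁻¹).toMonoidHom := by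
    have := Subgroup.map_mono (f := (MulAut.conj g⁻¹).toMonoidHom) hg
    rwa [map_conj_inv_map_conj] at this
  have hR'p : IsPGroup p ((T : Subgroup H).map (MulAut.conj g⁻¹).toMonoidHom : Subgroup H) :=
    T.2.map _
  have hR'N : (T : Subgroup H).map (MulAut.conj g⁻¹).toMonoidHom
      ≤ Subgroup.normalizer (Q : Set H) :=
    Subgroup.le_normalizer.trans (h3 _ hR'p hQR')
  obtain ⟨n, hnN, R₂, hR₂, -, hTR₂, hconj⟩ :=
    exists_conj_mem_common_pGroup (p := p) _ (T : Subgroup H) _ hTN hR'N T.2 hR'p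
  have hR₂T : R₂ = T := T.is_maximal' hR₂ hTR₂
  have h4 : (T : Subgroup H).map (MulAut.conj (n * g⁻¹)).toMonoidHom = T := by
    apply map_conj_eq_of_le
    rw [map_conj_mul]
    rintro _ ⟨b, hb, rfl⟩
    rw [← hR₂T]
    simpa using hconj b hb
  have h5 : n * g⁻¹ ∈ Subgroup.normalizer (Q : Set H) :=
    h3 T T.2 hQT (mem_normalizer_iff_map_conj_eq.2 h4)
  have h6 : g ∈ Subgroup.normalizer (Q : Set H) := by
    have : g = (n * g⁻¹)⁻¹ * n := by group
    rw [this]
    exact mul_mem (inv_mem h5) hnN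
  exact map_conj_eq_of_mem_normalizer h6

/-- weakly closed ⇒ condition (2) -/
theorem wc_imp_c2 [Finite H] {p : ℕ} [Fact p.Prime] (Q : Subgroup H) (hQp : IsPGroup p Q)
    (hW : Cfsg.IsWeaklyClosedSubgroup p Q) (g : H)
    (hg : ⁅Q, Q.map (MulAut.conj g).toMonoidHom⁆ ≤ Q ⊓ Q.map (MulAut.conj g).toMonoidHom) :
    Q.map (MulAut.conj g).toMonoidHom = Q := by
  obtain ⟨T, hQT, hwc⟩ := hW
  have hN : Q ≤ Subgroup.normalizer ((Q.map (MulAut.conj g).toMonoidHom : Subgroup H) : Set H) :=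
    le_normalizer_of_commutator_le_right (hg.trans inf_le_right)
  have hPp : IsPGroup p (Q.map (MulAut.conj g).toMonoidHom : Subgroup H) := hQp.map _
  have hsup : IsPGroup p (Q ⊔ Q.map (MulAut.conj g).toMonoidHom : Subgroup H) :=
    IsPGroup.to_sup_of_normal_right' hQp hPp hN
  obtain ⟨k, hk⟩ := exists_conj_le_sylow hsup T
  have hk' := map_conj_le_of_forall hk
  have h1 : Q.map (MulAut.conj k).toMonoidHom = Q :=
    hwc k ((Subgroup.map_mono le_sup_left).trans hk')
  have h2 : Q.map (MulAut.conj (k * g)).toMonoidHom = Q := by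
    apply hwc
    rw [map_conj_mul]
    exact (Subgroup.map_mono le_sup_right).trans hk'
  rw [map_conj_mul] at h2
  exact map_conj_injective k (h2.trans h1.symm)

/-- condition (2) ⇒ every `p`-overgroup normalizes `Q` -/
theorem c2_imp_normal [Finite H] {p : ℕ} [Fact p.Prime] (Q : Subgroup H)
    (h2 : ∀ g : H, ⁅Q, Q.map (MulAut.conj g).toMonoidHom⁆ ≤ Q ⊓ Q.map (MulAut.conj g).toMonoidHom →
      Q.map (MulAut.conj g).toMonoidHom = Q)
    (R : Subgroup H) (hR : IsPGroup p R) (hQR : Q ≤ R) :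
    R ≤ Subgroup.normalizer (Q : Set H) := by
  by_contra hcon
  have hne : R ⊓ Subgroup.normalizer (Q : Set H) ≠ R := by
    intro h
    exact hcon (h ▸ inf_le_right)
  obtain ⟨x, hxR, hxK, hx1, hx2⟩ := exists_normalizing_not_mem R _ hR inf_le_left hne
  have hQK : Q ≤ R ⊓ Subgroup.normalizer (Q : Set H) := le_inf hQR Subgroup.le_normalizer
  -- P' = Q^x ≤ K ≤ N(Q)
  have hP'N : Q.map (MulAut.conj x).toMonoidHom ≤ Subgroup.normalizer (Q : Set H) := by
    rintro _ ⟨q, hq, rfl⟩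
    have := hx1 q (hQK hq)
    simpa using this.2
  -- Q ≤ N(P')
  have hQN : Q ≤ Subgroup.normalizer ((Q.map (MulAut.conj x).toMonoidHom : Subgroup H) : Set H) := by
    intro q hq
    have h1 : x⁻¹ * q * x ∈ Subgroup.normalizer (Q : Set H) := (hx2 q (hQK hq)).2
    rw [mem_normalizer_iff_map_conj_eq]
    have h3 : q = x * (x⁻¹ * q * x) * x⁻¹ := by group
    rw [h3, map_conj_mul, map_conj_mul, map_conj_inv_map_conj,
      map_conj_eq_of_mem_normalizer h1]
  have h4 := h2 x (le_inf (commutator_le_left_of_le_normalizer hP'N)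
    (commutator_le_right_of_le_normalizer hQN))
  exact hxK ⟨hxR, mem_normalizer_iff_map_conj_eq.2 h4⟩

/-- condition (2) ⇒ weakly closed -/
theorem c2_imp_wc [Finite H] {p : ℕ} [Fact p.Prime] (Q : Subgroup H) (hQp : IsPGroup p Q)
    (h2 : ∀ g : H, ⁅Q, Q.map (MulAut.conj g).toMonoidHom⁆ ≤ Q ⊓ Q.map (MulAut.conj g).toMonoidHom →
      Q.map (MulAut.conj g).toMonoidHom = Q) :
    Cfsg.IsWeaklyClosedSubgroup p Q := by
  obtain ⟨T, hQT⟩ := hQp.exists_le_sylow
  refine ⟨T, hQT, ?_⟩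
  intro g hg
  apply h2
  have hTN : (T : Subgroup H) ≤ Subgroup.normalizer (Q : Set H) :=
    c2_imp_normal Q h2 T T.2 hQT
  have hQR' : Q ≤ (T : Subgroup H).map (MulAut.conj g⁻¹).toMonoidHom := by
    have := Subgroup.map_mono (f := (MulAut.conj g⁻¹).toMonoidHom) hg
    rwa [map_conj_inv_map_conj] at this
  have hR'N : (T : Subgroup H).map (MulAut.conj g⁻¹).toMonoidHom
      ≤ Subgroup.normalizer (Q : Set H) :=
    c2_imp_normal Q h2 _ (T.2.map _) hQR'
  apply le_inf
  · exact commutator_le_left_of_le_normalizer (hg.trans hTN)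
  · apply commutator_le_right_of_le_normalizer
    intro q hq
    have hqT : q ∈ (T : Subgroup H) := hQT hq
    have h1 : g⁻¹ * q * g⁻¹⁻¹ ∈ (T : Subgroup H).map (MulAut.conj g⁻¹).toMonoidHom :=
      conj_mem_map_conj hqT
    have h3 := hR'N h1
    rw [mem_normalizer_iff_map_conj_eq]
    have h4 : q = g * (g⁻¹ * q * g⁻¹⁻¹) * g⁻¹ := by group
    rw [h4, map_conj_mul, map_conj_mul, map_conj_inv_map_conj,
      map_conj_eq_of_mem_normalizer h3]

/-- For a nontrivial p-subgroup Q of a finite group H the following are equivalent: Q is a weakly closed subgroup (it is the only H-conjugate of itself inside some Sylow p-subgroup containing it); Q = P for every conjugate P of Q with [Q, P] ≤ Q ∩ P; Q is normal in N_H(R) for every p-subgroup R of H containing Q. -/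
theorem result {H : Type*} [Group H] [Finite H] {p : ℕ} [Fact p.Prime] (Q : Subgroup H) (hQp : IsPGroup p ↥Q) (hQ1 : Q ≠ ⊥) : (Cfsg.IsWeaklyClosedSubgroup p Q ↔ ∀ g : H, ⁅Q, ((Q : Subgroup H).map (MulAut.conj (g : H)).toMonoidHom)⁆ ≤ Q ⊓ ((Q : Subgroup H).map (MulAut.conj (g : H)).toMonoidHom) → ((Q : Subgroup H).map (MulAut.conj (g : H)).toMonoidHom) = Q) ∧ (Cfsg.IsWeaklyClosedSubgroup p Q ↔ ∀ R : Subgroup H, IsPGroup p ↥R → Q ≤ R → Subgroup.normalizer ((R : Subgroup H) : Set H) ≤ Subgroup.normalizer ((Q : Subgroup H) : Set H)) := by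
  refine ⟨⟨fun hW g hg => wc_imp_c2 Q hQp hW g hg, fun h2 => c2_imp_wc Q hQp h2⟩,
    ⟨fun hW R hR hQR => wc_imp_c3 Q hW R hR hQR, fun h3 => c3_imp_wc Q hQp h3⟩⟩

end Cfsg.Agent.S2838
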