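import Mathlib
import Cfsg.Statements.S2839
import Cfsg.Agent.Lib.Helper28.WeaklyClosed
import Cfsg.Agent.Lib.Helper10.PResidual
import Cfsg.Agent.Lib.Helper19.SylowNormal

set_option autoImplicit false
open Cfsg

namespace Cfsg.Agent.S2839

open Cfsg.Agent.Helper14 Cfsg.Agent.Helper28

/-- Let Q be a nontrivial p-subgroup of the finite group H that is a weakly closed subgroup, K a subgroup containing Q and N a normal subgroup of H. Then Q is a weakly closed subgroup of K; every H-conjugate of Q contained in K is a K-conjugate of Q; N_K(Q) contains a Sylow p-subgroup of K; N = N_N(Q)·O^p(N); and QN/N is a weakly closed subgroup of H/N. -/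
theorem result {H : Type*} [Group H] [Finite H] {p : ℕ} [Fact p.Prime] (Q : Subgroup H) (hQp : IsPGroup p ↥Q) (hQ1 : Q ≠ ⊥) (hwc : Cfsg.IsWeaklyClosedSubgroup p Q) (K : Subgroup H) (hQK : Q ≤ K) (N' : Subgroup H) [N'.Normal] : Cfsg.IsWeaklyClosedSubgroup p (Q.subgroupOf K) ∧ (∀ g : H, ((Q : Subgroup H).map (MulAut.conj (g : H)).toMonoidHom) ≤ K → ∃ k ∈ K, ((Q : Subgroup H).map (MulAut.conj (g : H)).toMonoidHom) = ((Q : Subgroup H).map (MulAut.conj (k : H)).toMonoidHom)) ∧ Cfsg.IsParabolic p ((Subgroup.normalizer ((Q : Subgroup H) : Set H)).subgroupOf K) ∧ (N' ⊓ Subgroup.normalizer ((Q : Subgroup H) : Set H)) ⊔ (Cfsg.pResidual p ↥N').map N'.subtype = N' ∧ Cfsg.IsWeaklyClosedSubgroup p (Q.map (QuotientGroup.mk' N')) := by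
  -- a Sylow subgroup of K containing Q
  obtain ⟨TK, hTK⟩ := (hQp.comap_subtype (K := K)).exists_le_sylow
  set R := (TK : Subgroup K).map K.subtype with hR
  have hRp : IsPGroup p R := TK.isPGroup'.map _
  have hQR : Q ≤ R := by
    intro x hx
    exact ⟨⟨x, hQK hx⟩, hTK (Subgroup.mem_subgroupOf.mpr hx), rfl⟩
  have hRN : R ≤ Subgroup.normalizer (Q : Set H) := weaklyClosed_le_normalizer hwc hRp hQR
  -- a Sylow subgroup of H containing Q
  obtain ⟨T1, hQT1⟩ := hQp.exists_le_sylow
  have hT1N : (T1 : Subgroup H) ≤ Subgroup.normalizer (Q : Set H) :=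
    weaklyClosed_le_normalizer hwc T1.isPGroup' hQT1
  refine ⟨⟨TK, hTK, ?_⟩, ?_, ⟨TK, ?_⟩, ?_, ?_⟩
  · -- weakly closed in K
    intro k hk
    rw [subgroupOf_map_conj] at hk ⊢
    have hle : Q.map (MulAut.conj (k : H)).toMonoidHom ≤ R := by
      intro y hy
      have hyK : y ∈ K := by
        rw [mem_map_conj_iff] at hy
        have := K.mul_mem (K.mul_mem k.2 (hQK hy)) (K.inv_mem k.2)
        simpa [mul_assoc] using this
      have := hk (show (⟨y, hyK⟩ : K) ∈ _ from Subgroup.mem_subgroupOf.mpr hy)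
      exact ⟨⟨y, hyK⟩, this, rfl⟩
    rw [weaklyClosed_pgroup hwc hRp hQR hle]
  · intro g hg
    exact weaklyClosed_conj_in_overgroup hQp hwc hQK hg
  · intro t ht
    rw [Subgroup.mem_subgroupOf]
    exact hRN ⟨t, ht, rfl⟩
  · -- Frattini-type factorization
    apply le_antisymm
    · apply sup_le inf_le_left
      exact Subgroup.map_subtype_le _
    · intro n hn
      have hidx : ¬ p ∣ (Subgroup.normalizer (Q : Set H)).relIndex N' := by
        intro hdvd
        have h1 := Cfsg.Agent.Helper19.relIndex_dvd_index_of_normal_right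
          (Subgroup.normalizer (Q : Set H)) N'
        have h2 : (Subgroup.normalizer (Q : Set H)).index ∣ (T1 : Subgroup H).index :=
          Subgroup.index_dvd_of_le hT1N
        exact T1.not_dvd_index (hdvd.trans (h1.trans h2))
      obtain ⟨r, hr, hrN, u, hu, hnru⟩ :=
        Cfsg.Agent.Helper10.exists_mul_of_pResidual_subgroup (p := p) N'
          (Subgroup.normalizer (Q : Set H)) hidx n hn
      rw [hnru]
      exact Subgroup.mul_mem_sup (Subgroup.mem_inf.mpr ⟨hrN, hr⟩) hu
  · -- weakly closed in the quotient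
    refine ⟨T1.mapSurjective (QuotientGroup.mk'_surjective N'), ?_, ?_⟩
    · rw [Sylow.coe_mapSurjective]
      exact Subgroup.map_mono hQT1
    · intro gb hgb
      obtain ⟨g, rfl⟩ := QuotientGroup.mk'_surjective N' gb
      rw [Sylow.coe_mapSurjective] at hgb
      rw [← map_map_conj] at hgb ⊢
      rw [Subgroup.map_le_iff_le_comap, Subgroup.comap_map_eq, QuotientGroup.ker_mk'] at hgb
      set L := (T1 : Subgroup H) ⊔ N' with hL
      have hT1L : IsSylowOf p L (T1 : Subgroup H) := isSylowOf_of_sylow_le T1 le_sup_left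
      obtain ⟨T2, hT2, hAT2⟩ := exists_isSylowOf_ge hgb (hQp.map _)
      obtain ⟨x, hx, hxT⟩ := hT1L.exists_conj hT2
      have h3 : Q.map (MulAut.conj (x⁻¹ * g)).toMonoidHom ≤ (T1 : Subgroup H) := by
        rw [conj_mul_map]
        calc (Q.map (MulAut.conj g).toMonoidHom).map (MulAut.conj x⁻¹).toMonoidHom
            ≤ T2.map (MulAut.conj x⁻¹).toMonoidHom := Subgroup.map_mono hAT2
          _ = (T1 : Subgroup H) := by rw [hxT, map_conj_inv_map_conj]
      have h4 := weaklyClosed_pgroup hwc T1.isPGroup' hQT1 h3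
      rw [conj_mul_map] at h4
      have h5 : Q.map (MulAut.conj g).toMonoidHom = Q.map (MulAut.conj x).toMonoidHom := by
        rw [← map_conj_map_conj_inv (Q.map (MulAut.conj g).toMonoidHom) x, h4]
      rw [h5]
      -- write x = n * t
      have hx' : x ∈ ((N' ⊔ (T1 : Subgroup H) : Subgroup H) : Set H) := by
        rw [sup_comm]; exact hx
      rw [Subgroup.normal_mul] at hx'
      obtain ⟨n, hn, t, ht, rfl⟩ := Set.mem_mul.mp hx'
      rw [conj_mul_map, map_conj_eq_self_of_le_normalizer hT1N ht, map_map_conj]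
      have : (QuotientGroup.mk' N') n = 1 := by
        rw [QuotientGroup.mk'_apply, QuotientGroup.eq_one_iff]; exact hn
      rw [this]
      ext y
      simp

end Cfsg.Agent.S2839
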