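import Mathlib
import Cfsg.Statements.S2841
import Cfsg.Agent.Lib.Helper14.WeaklyClosed
import Cfsg.Agent.Lib.Helper1.CommutatorBasic

set_option autoImplicit false
open Cfsg

namespace Cfsg.Agent.S2841

open Cfsg.Agent.Helper14
open scoped commutatorElement

/-- Let Q be a nontrivial p-subgroup of the finite group H that is a weakly closed subgroup and N a normal subgroup of H. Then N = N_N(Q)·[N, Q] and [N, Q] = (Q ∩ [N, Q])·[N, Q, Q]. -/
theorem result {H : Type*} [Group H] [Finite H] {p : ℕ} [Fact p.Prime] (Q : Subgroup H) (hQp : IsPGroup p ↥Q) (hQ1 : Q ≠ ⊥) (hwc : Cfsg.IsWeaklyClosedSubgroup p Q) (N' : Subgroup H) [N'.Normal] : (∀ n : H, n ∈ N' → ∃ a ∈ N' ⊓ Subgroup.normalizer ((Q : Subgroup H) : Set H), ∃ b ∈ ⁅N', Q⁆, n = a * b) ∧ (∀ c : H, c ∈ ⁅N', Q⁆ → ∃ a ∈ Q ⊓ ⁅N', Q⁆, ∃ b ∈ ⁅⁅N', Q⁆, Q⁆, c = a * b) := by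
  set R := ⁅N', Q⁆ with hR
  set R₁ := ⁅R, Q⁆ with hR₁
  have hRN : R ≤ N' := Subgroup.commutator_le_left N' Q
  have hQR : Q ≤ Subgroup.normalizer (R : Set H) := Cfsg.Agent.Helper1.le_normalizer_commutator_right N' Q
  have hNR : N' ≤ Subgroup.normalizer (R : Set H) := Cfsg.Agent.Helper1.le_normalizer_commutator_left N' Q
  have hQR₁ : Q ≤ Subgroup.normalizer (R₁ : Set H) := Cfsg.Agent.Helper1.le_normalizer_commutator_right R Q
  have h1 : ∀ n : H, n ∈ N' → ∃ a ∈ N' ⊓ Subgroup.normalizer ((Q : Subgroup H) : Set H), ∃ b ∈ R, n = a * b := by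
    intro n hn
    have hQn : Q.map (MulAut.conj n).toMonoidHom ≤ Q ⊔ R := by
      rintro _ ⟨q, hq, rfl⟩
      have e : (MulAut.conj n).toMonoidHom q = ⁅n, q⁆ * q := by
        simp [commutatorElement_def]
      rw [e]
      exact Subgroup.mul_mem _ (Subgroup.mem_sup_right (Subgroup.commutator_mem_commutator hn hq))
        (Subgroup.mem_sup_left hq)
    obtain ⟨r, hr, hrn⟩ := IsWeaklyClosedSubgroup.exists_mul_mem_normalizer hwc hQp hQR hQn
    refine ⟨r * n, Subgroup.mem_inf.mpr ⟨N'.mul_mem (hRN hr) hn, hrn⟩, n⁻¹ * r⁻¹ * n⁻¹⁻¹, ?_, by group⟩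
    exact (Subgroup.mem_normalizer_iff.mp (hNR (N'.inv_mem hn)) r⁻¹).mp (R.inv_mem hr)
  refine ⟨h1, ?_⟩
  have hle : R ≤ (Q ⊓ R) ⊔ R₁ := by
    rw [hR, Subgroup.commutator_le]
    intro n hn q hq
    obtain ⟨a, ha, b, hb, rfl⟩ := h1 n hn
    obtain ⟨haN, haQ⟩ := Subgroup.mem_inf.mp ha
    have e : ⁅a * b, q⁆ = (a * ⁅b, q⁆ * a⁻¹) * ⁅a, q⁆ := by
      simp only [commutatorElement_def]; group
    rw [e]
    apply Subgroup.mul_mem
    · apply Subgroup.mem_sup_right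
      have hn : a ∈ Subgroup.normalizer (R₁ : Set H) :=
        Cfsg.Agent.Helper1.normalizer_inf_normalizer_le_normalizer_commutator R Q
          (Subgroup.mem_inf.mpr ⟨hNR haN, haQ⟩)
      exact (Subgroup.mem_normalizer_iff.mp hn _).mp (Subgroup.commutator_mem_commutator hb hq)
    · apply Subgroup.mem_sup_left
      refine Subgroup.mem_inf.mpr ⟨?_, Subgroup.commutator_mem_commutator haN hq⟩
      have h2 : a * q * a⁻¹ ∈ Q := (Subgroup.mem_normalizer_iff.mp haQ q).mp hq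
      have e2 : ⁅a, q⁆ = (a * q * a⁻¹) * q⁻¹ := by rw [commutatorElement_def]
      rw [e2]
      exact Q.mul_mem h2 (Q.inv_mem hq)
  intro c hc
  exact (mem_sup_of_le_normalizer (inf_le_left.trans hQR₁)).mp (hle hc)

end Cfsg.Agent.S2841
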