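import Mathlib
import Cfsg.Statements.S2842
import Cfsg.Agent.Lib.Helper14.WeaklyClosedCharP
import Cfsg.Agent.Lib.Helper7.PLocal7

set_option autoImplicit false
open Cfsg

namespace Cfsg.Agent.S2842

open Cfsg.Agent.Helper14
open scoped commutatorElement

theorem centralizer_zpowers {H : Type*} [Group H] (y : H) :
    Subgroup.centralizer ((Subgroup.zpowers y : Subgroup H) : Set H) = Subgroup.centralizer ({y} : Set H) := by
  ext x
  rw [Subgroup.mem_centralizer_iff, Subgroup.mem_centralizer_iff]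
  constructor
  · intro h z hz
    rw [Set.mem_singleton_iff] at hz
    subst hz
    exact h z (Subgroup.mem_zpowers z)
  · rintro h _ ⟨n, rfl⟩
    have : Commute y x := h y (Set.mem_singleton y)
    exact (this.zpow_left n)

/-- Let Q be a nontrivial p-subgroup of the finite group H that is a weakly closed subgroup with C_H(Q) ≤ Q, and Q ≤ L ≤ H. Suppose H has characteristic p, or more generally that C_H(y) has characteristic p for some nonidentity y ∈ C_{O_p(L)}(Q). Then [Q, C_H(O_p(L))] ≤ Q ∩ O_p(L), C_H(O_p(L)) is a p-group, and L has characteristic p. -/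
theorem result {H : Type*} [Group H] [Finite H] {p : ℕ} [Fact p.Prime] (Q : Subgroup H) (hQp : IsPGroup p ↥Q) (hQ1 : Q ≠ ⊥) (hwc : Cfsg.IsWeaklyClosedSubgroup p Q) (hCQ : Subgroup.centralizer ((Q : Subgroup H) : Set H) ≤ Q) (L : Subgroup H) (hQL : Q ≤ L) (hyp : Subgroup.centralizer (Cfsg.pCore p H : Set H) ≤ Cfsg.pCore p H ∨ ∃ y : H, y ≠ 1 ∧ y ∈ (Cfsg.pCoreOf p L) ⊓ Subgroup.centralizer ((Q : Subgroup H) : Set H) ∧ Subgroup.centralizer (Cfsg.pCore p ↥(Subgroup.centralizer ({y} : Set H)) : Set ↥(Subgroup.centralizer ({y} : Set H))) ≤ Cfsg.pCore p ↥(Subgroup.centralizer ({y} : Set H))) : ⁅Q, Subgroup.centralizer (((Cfsg.pCoreOf p L) : Subgroup H) : Set H)⁆ ≤ Q ⊓ (Cfsg.pCoreOf p L) ∧ IsPGroup p ↥(Subgroup.centralizer (((Cfsg.pCoreOf p L) : Subgroup H) : Set H)) ∧ Subgroup.centralizer (Cfsg.pCore p ↥L : Set ↥L) ≤ Cfsg.pCore p ↥L := by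
  set D := pCoreOf p L with hD
  set C := Subgroup.centralizer (D : Set H) with hC
  have hDp : IsPGroup p D := pCoreOf_isPGroup p L
  have hchar : C ⊓ Subgroup.centralizer (pCoreOf p C : Set H) ≤ pCoreOf p C := by
    rcases hyp with hH | ⟨y, _, hy, hychar⟩
    · have h1 := Cfsg.Agent.Helper7.centralizer_pCore_normalizer_le p hH D hDp
      rw [charP_iff_ambient] at h1
      exact charP_ambient_of_le_normalizer h1 (Cfsg.Agent.Helper1.centralizer_le_normalizer D)
        (le_normalizer_centralizer_of_le_normalizer le_rfl)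
    · have hyD : y ∈ D := hy.1
      have hVD : Subgroup.zpowers y ≤ D := (Subgroup.zpowers_le).mpr hyD
      have hV : Subgroup.centralizer (Cfsg.pCore p ↥(Subgroup.centralizer ((Subgroup.zpowers y : Subgroup H) : Set H)) :
          Set ↥(Subgroup.centralizer ((Subgroup.zpowers y : Subgroup H) : Set H))) ≤
          Cfsg.pCore p ↥(Subgroup.centralizer ((Subgroup.zpowers y : Subgroup H) : Set H)) := by
        rw [centralizer_zpowers]
        exact hychar
      have h1 := Cfsg.Agent.Helper7.centralizer_pCore_le_centralizer_aux p _ D (Subgroup.zpowers y) hVD hDp rfl hV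
      rwa [charP_iff_ambient] at h1
  obtain ⟨hCp, hCNQ, hQCD⟩ := IsWeaklyClosedSubgroup.centralizer_pCoreOf hwc hQp hCQ hQL hchar
  have hLD : L ≤ Subgroup.normalizer (D : Set H) := le_normalizer_pCoreOf p L
  have hLC : L ≤ Subgroup.normalizer (C : Set H) := le_normalizer_centralizer_of_le_normalizer hLD
  refine ⟨?_, hCp, ?_⟩
  · rw [Subgroup.commutator_le]
    intro q hq c hc
    have h1 : ⁅q, c⁆ ∈ Q := by
      have h2 : c * q⁻¹ * c⁻¹ ∈ Q := (Subgroup.mem_normalizer_iff.mp (hCNQ hc) q⁻¹).mp (Q.inv_mem hq)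
      have e : ⁅q, c⁆ = q * (c * q⁻¹ * c⁻¹) := by rw [commutatorElement_def]; group
      rw [e]; exact Q.mul_mem hq h2
    have h2 : ⁅q, c⁆ ∈ C := by
      have h3 : q * c * q⁻¹ ∈ C := (Subgroup.mem_normalizer_iff.mp (hLC (hQL hq)) c).mp hc
      have e : ⁅q, c⁆ = (q * c * q⁻¹) * c⁻¹ := by rw [commutatorElement_def]
      rw [e]; exact C.mul_mem h3 (C.inv_mem hc)
    exact Subgroup.mem_inf.mpr ⟨h1, hQCD (Subgroup.mem_inf.mpr ⟨h1, h2⟩)⟩
  · rw [charP_iff_ambient]
    exact le_pCoreOf inf_le_left (le_normalizer_inf Subgroup.le_normalizer hLC) (hCp.to_le inf_le_right)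

end Cfsg.Agent.S2842
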