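import Mathlib
import Cfsg.Statements.S2843
import Cfsg.Agent.Lib.Helper14.Large

set_option autoImplicit false
open Cfsg

namespace Cfsg.Agent.S2843

open Cfsg.Agent.Helper14
open scoped commutatorElement

/-- Let Q be a nontrivial large p-subgroup of the finite group H, Q ≤ L ≤ H, and Y a nontrivial p-subgroup of H normalized by L. Let L° be the weak closure of Q in L (generated by the conjugates of Q inside L). Then L° equals the weak closure of Q in L·C_H(Y), and [L°, C_H(Y)] ≤ O_p(L°); in particular C_H(Y) normalizes L°. -/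
theorem result {H : Type*} [Group H] [Finite H] {p : ℕ} [Fact p.Prime] (Q : Subgroup H) (hQp : IsPGroup p ↥Q) (hQ1 : Q ≠ ⊥) (hL : Cfsg.IsLarge Q) (L : Subgroup H) (hQL : Q ≤ L) (Y : Subgroup H) (hYp : IsPGroup p ↥Y) (hY1 : Y ≠ ⊥) (hLY : L ≤ Subgroup.normalizer ((Y : Subgroup H) : Set H)) : Cfsg.weakClosure Q L = Cfsg.weakClosure Q (L ⊔ Subgroup.centralizer ((Y : Subgroup H) : Set H)) ∧ ⁅Cfsg.weakClosure Q L, Subgroup.centralizer ((Y : Subgroup H) : Set H)⁆ ≤ (Cfsg.pCoreOf p (Cfsg.weakClosure Q L)) ∧ Subgroup.centralizer ((Y : Subgroup H) : Set H) ≤ Subgroup.normalizer (((Cfsg.weakClosure Q L) : Subgroup H) : Set H) := by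
  have hwc : IsWeaklyClosedSubgroup p Q := IsLarge.isWeaklyClosedSubgroup hL hQp hQ1
  set C := Subgroup.centralizer (Y : Set H) with hC
  set W := Cfsg.weakClosure Q L with hW
  set M := L ⊔ C with hM
  have hCY : C ≤ Subgroup.normalizer (Y : Set H) := Cfsg.Agent.Helper1.centralizer_le_normalizer Y
  have hMY : M ≤ Subgroup.normalizer (Y : Set H) := sup_le hLY hCY
  have hLC : L ≤ Subgroup.normalizer (C : Set H) := le_normalizer_centralizer_of_le_normalizer hLY
  -- `C` normalizes every conjugate of `Q` normalizing `Y`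
  have K1 : ∀ g : H, Q.map (MulAut.conj g).toMonoidHom ≤ Subgroup.normalizer (Y : Set H) →
      C ≤ Subgroup.normalizer ((Q.map (MulAut.conj g).toMonoidHom : Subgroup H) : Set H) := by
    intro g hg
    have hLg : IsLarge (Q.map (MulAut.conj g).toMonoidHom) := IsLarge.map_conj hL g
    have hU1 : Y ⊓ Subgroup.centralizer ((Q.map (MulAut.conj g).toMonoidHom : Subgroup H) : Set H) ≠ ⊥ :=
      inf_centralizer_ne_bot_of_powCond hYp hY1 hg (powCond_of_isPGroup (hQp.map _) _)
    have h1 := hLg.2 _ inf_le_right hU1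
    have h2 : C ≤ Subgroup.centralizer
        ((Y ⊓ Subgroup.centralizer ((Q.map (MulAut.conj g).toMonoidHom : Subgroup H) : Set H) : Subgroup H) : Set H) :=
      Subgroup.centralizer_le inf_le_left
    exact (h2.trans (Cfsg.Agent.Helper1.centralizer_le_normalizer _)).trans h1
  have hmemW : ∀ g : H, Q.map (MulAut.conj g).toMonoidHom ≤ L → Q.map (MulAut.conj g).toMonoidHom ≤ W :=
    fun g hg => le_iSup (fun g : {g : H // Q.map (MulAut.conj g).toMonoidHom ≤ L} =>
      Q.map (MulAut.conj (g : H)).toMonoidHom) ⟨g, hg⟩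
  have hWL : W ≤ L := iSup_le (fun g => g.2)
  -- (3)
  have h3 : C ≤ Subgroup.normalizer (W : Set H) := by
    apply le_normalizer_of_map_conj_le
    intro c hc
    rw [hW, Cfsg.weakClosure, Subgroup.map_iSup]
    apply iSup_le
    rintro ⟨g, hg⟩
    rw [map_conj_eq_self_of_le_normalizer (K1 g (hg.trans hLY)) hc]
    exact hmemW g hg
  -- (1)
  have h1 : W = Cfsg.weakClosure Q M := by
    apply le_antisymm
    · apply iSup_le
      rintro ⟨g, hg⟩
      exact le_iSup (fun g : {g : H // Q.map (MulAut.conj g).toMonoidHom ≤ M} =>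
        Q.map (MulAut.conj (g : H)).toMonoidHom) ⟨g, hg.trans le_sup_left⟩
    · apply iSup_le
      rintro ⟨g, hg⟩
      apply hmemW
      set Q' := Q.map (MulAut.conj g).toMonoidHom with hQ'
      obtain ⟨S, hS, hQS⟩ := exists_isSylowOf_ge (hQL.trans (le_sup_left : L ≤ M)) hQp
      obtain ⟨S', hS', hQ'S'⟩ := exists_isSylowOf_ge hg (hQp.map _)
      obtain ⟨m, hm, hmS⟩ := hS.exists_conj hS'
      obtain ⟨l, hl, c, hc, hmlc⟩ := (mem_sup_of_le_normalizer hLC).mp (M.inv_mem hm)
      have hcQ' : Q'.map (MulAut.conj c).toMonoidHom = Q' :=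
        map_conj_eq_self_of_le_normalizer (K1 g (hg.trans hMY)) hc
      have h2 : Q'.map (MulAut.conj m⁻¹).toMonoidHom ≤ S := by
        have := Subgroup.map_mono (f := (MulAut.conj m⁻¹).toMonoidHom) (hmS ▸ hQ'S')
        rwa [map_conj_inv_map_conj] at this
      rw [hmlc, conj_mul_map, hcQ', hQ', ← conj_mul_map] at h2
      have h4 := IsWeaklyClosedSubgroup.eq_of_le hwc hS.isPGroup hQS h2
      rw [conj_mul_map, ← hQ'] at h4
      have h5 := congrArg (fun A : Subgroup H => A.map (MulAut.conj l⁻¹).toMonoidHom) h4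
      simp only [map_conj_inv_map_conj] at h5
      rw [h5]
      rintro _ ⟨q, hq, rfl⟩
      have : (MulAut.conj l⁻¹).toMonoidHom q = l⁻¹ * q * l := by simp
      rw [this]
      exact L.mul_mem (L.mul_mem (L.inv_mem hl) (hQL hq)) hl
  refine ⟨h1, ?_, h3⟩
  -- (2)
  set X := pCoreOf p W with hX
  set E := W ⊓ C with hE
  have hWE : W ≤ Subgroup.normalizer (E : Set H) := le_normalizer_inf Subgroup.le_normalizer (hWL.trans hLC)
  have hEX : pCoreOf p E ≤ X :=
    le_pCoreOf ((pCoreOf_le p E).trans inf_le_left) (hWE.trans (normalizer_le_normalizer_pCoreOf p E))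
      (pCoreOf_isPGroup p E)
  have hWX : W ≤ Subgroup.normalizer (X : Set H) := le_normalizer_pCoreOf p W
  rw [Subgroup.commutator_comm, Subgroup.commutator_le]
  intro c hc w hw
  have key : w ∈ W ∧ ⁅c, w⁆ ∈ X := by
    rw [hW, Cfsg.weakClosure] at hw
    induction hw using Subgroup.iSup_induction' with
    | hp i x hx =>
      obtain ⟨g, hg⟩ := i
      have hxW : x ∈ W := hmemW g hg hx
      refine ⟨hxW, hEX ?_⟩
      have hcN := K1 g (hg.trans hLY) hc
      have h2 : ⁅c, x⁆ ∈ Q.map (MulAut.conj g).toMonoidHom := by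
        have h3 : c * x * c⁻¹ ∈ Q.map (MulAut.conj g).toMonoidHom :=
          (Subgroup.mem_normalizer_iff.mp hcN x).mp hx
        have e : ⁅c, x⁆ = (c * x * c⁻¹) * x⁻¹ := by rw [commutatorElement_def]
        rw [e]
        exact Subgroup.mul_mem _ h3 (Subgroup.inv_mem _ hx)
      have h4 : ⁅c, x⁆ ∈ C := by
        have h5 : x * c⁻¹ * x⁻¹ ∈ C :=
          (Subgroup.mem_normalizer_iff.mp (hLC (hg hx)) c⁻¹).mp (C.inv_mem hc)
        have e : ⁅c, x⁆ = c * (x * c⁻¹ * x⁻¹) := by rw [commutatorElement_def]; group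
        rw [e]
        exact C.mul_mem hc h5
      have h6 : Q.map (MulAut.conj g).toMonoidHom ⊓ E ≤ pCoreOf p E := by
        apply le_pCoreOf inf_le_right
        · exact le_normalizer_inf (inf_le_right.trans (K1 g (hg.trans hLY))) Subgroup.le_normalizer
        · exact (hQp.map _).to_le inf_le_left
      exact h6 (Subgroup.mem_inf.mpr ⟨h2, Subgroup.mem_inf.mpr ⟨hmemW g hg h2, h4⟩⟩)
    | h1 => exact ⟨W.one_mem, by simp⟩
    | hmul x y _ _ hx hy =>
      refine ⟨W.mul_mem hx.1 hy.1, ?_⟩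
      have e : ⁅c, x * y⁆ = ⁅c, x⁆ * (x * ⁅c, y⁆ * x⁻¹) := by
        simp only [commutatorElement_def]; group
      rw [e]
      exact X.mul_mem hx.2 ((Subgroup.mem_normalizer_iff.mp (hWX hx.1) _).mp hy.2)
  exact key.2

end Cfsg.Agent.S2843
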