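import Mathlib
import Cfsg.Statements.S2845
import Cfsg.Agent.Lib.Helper14.Large

set_option autoImplicit false
open Cfsg

namespace Cfsg.Agent.S2845

open Cfsg.Agent.Helper14

theorem pCoreOf_ne_bot {H : Type*} [Group H] {p : ℕ} {L : Subgroup H} (h : Cfsg.pCore p ↥L ≠ ⊥) :
    pCoreOf p L ≠ ⊥ := by
  intro h1
  apply h
  unfold pCoreOf at h1
  rwa [Subgroup.map_eq_bot_iff_of_injective _ L.subtype_injective] at h1

/-- A parabolic subgroup `R` with `O_p(R) ≠ 1` of a group with a large `p`-subgroup has `C_H(O_p(R)) ≤ O_p(R)`. -/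
theorem parabolic_aux {H : Type*} [Group H] [Finite H] {p : ℕ} [Fact p.Prime] (Q : Subgroup H) (hQp : IsPGroup p ↥Q)
    (hQ1 : Q ≠ ⊥) (hL : Cfsg.IsLarge Q) (R : Subgroup H) (hR : Cfsg.IsParabolic p R)
    (hR1 : Cfsg.pCore p ↥R ≠ ⊥) :
    Subgroup.centralizer (((Cfsg.pCoreOf p R) : Subgroup H) : Set H) ≤ (Cfsg.pCoreOf p R) := by
  obtain ⟨T, hTR⟩ := hR
  obtain ⟨T', hQT'⟩ := hQp.exists_le_sylow
  obtain ⟨h, hh⟩ := sylow_exists_conj T' T
  set Q' := Q.map (MulAut.conj h).toMonoidHom with hQ'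
  have hQ'T : Q' ≤ (T : Subgroup H) := hh ▸ Subgroup.map_mono hQT'
  have hL' : IsLarge Q' := IsLarge.map_conj hL h
  have hQ'p : IsPGroup p Q' := hQp.map _
  have hQ'1 : Q' ≠ ⊥ := map_conj_ne_bot hQ1 h
  have hCp := IsLarge.isPGroup_centralizer_pCoreOf hL' hQ'p hQ'1 (hQ'T.trans hTR) (pCoreOf_ne_bot hR1)
  set C := Subgroup.centralizer (pCoreOf p R : Set H) with hC
  have hRC : R ≤ Subgroup.normalizer (C : Set H) :=
    le_normalizer_centralizer_of_le_normalizer (le_normalizer_pCoreOf p R)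
  have hCT : C ≤ (T : Subgroup H) := by
    have h1 : IsPGroup p (((T : Subgroup H) ⊔ C : Subgroup H)) :=
      IsPGroup.to_sup_of_normal_right' T.isPGroup' hCp (hTR.trans hRC)
    have h2 := T.is_maximal' h1 le_sup_left
    rw [← h2]
    exact le_sup_right
  exact le_pCoreOf (hCT.trans hTR) hRC hCp

/-- Let Q be a nontrivial p-subgroup of the finite group H that is large. Then every subgroup L containing Q with O_p(L) ≠ 1 has C_H(O_p(L)) a p-group, has characteristic p, and satisfies L° = Q or C_H(L°) = 1 (L° the weak closure of Q in L); every parabolic subgroup R with O_p(R) ≠ 1 has C_H(O_p(R)) ≤ O_p(R); and H has parabolic characteristic p. -/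
theorem result {H : Type*} [Group H] [Finite H] {p : ℕ} [Fact p.Prime] (Q : Subgroup H) (hQp : IsPGroup p ↥Q) (hQ1 : Q ≠ ⊥) (hL : Cfsg.IsLarge Q) : (∀ L : Subgroup H, Q ≤ L → Cfsg.pCore p ↥L ≠ ⊥ → IsPGroup p ↥(Subgroup.centralizer (((Cfsg.pCoreOf p L) : Subgroup H) : Set H)) ∧ Subgroup.centralizer (Cfsg.pCore p ↥L : Set ↥L) ≤ Cfsg.pCore p ↥L ∧ (Cfsg.weakClosure Q L = Q ∨ Subgroup.centralizer (((Cfsg.weakClosure Q L) : Subgroup H) : Set H) = ⊥)) ∧ (∀ R : Subgroup H, Cfsg.IsParabolic p R → Cfsg.pCore p ↥R ≠ ⊥ → Subgroup.centralizer (((Cfsg.pCoreOf p R) : Subgroup H) : Set H) ≤ (Cfsg.pCoreOf p R)) ∧ Cfsg.IsOfParabolicCharacteristic p H := by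
  have hwc : IsWeaklyClosedSubgroup p Q := IsLarge.isWeaklyClosedSubgroup hL hQp hQ1
  refine ⟨?_, fun R hR hR1 => parabolic_aux Q hQp hQ1 hL R hR hR1, ?_⟩
  · intro L hQL hL1
    have hCp := IsLarge.isPGroup_centralizer_pCoreOf hL hQp hQ1 hQL (pCoreOf_ne_bot hL1)
    refine ⟨hCp, ?_, ?_⟩
    · rw [charP_iff_ambient]
      apply le_pCoreOf inf_le_left
      · exact le_normalizer_inf Subgroup.le_normalizer
          (le_normalizer_centralizer_of_le_normalizer (le_normalizer_pCoreOf p L))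
      · exact hCp.to_le inf_le_right
    · by_cases hC : Subgroup.centralizer (((Cfsg.weakClosure Q L) : Subgroup H) : Set H) = ⊥
      · exact Or.inr hC
      · left
        set W := Cfsg.weakClosure Q L with hW
        have hQW : Q ≤ W := by
          have h1 : Q.map (MulAut.conj (1 : H)).toMonoidHom = Q := by
            ext x; simp
          have h2 : Q.map (MulAut.conj (1 : H)).toMonoidHom ≤ L := by rw [h1]; exact hQL
          have := le_iSup (fun g : {g : H // Q.map (MulAut.conj g).toMonoidHom ≤ L} =>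
            Q.map (MulAut.conj (g : H)).toMonoidHom) ⟨1, h2⟩
          rw [h1] at this
          exact this
        have hWQ : W ≤ Subgroup.normalizer (Q : Set H) := by
          have h1 := hL.2 _ (Subgroup.centralizer_le hQW) hC
          exact (le_normalizer_centralizer_of_le_normalizer Subgroup.le_normalizer).trans h1
        apply le_antisymm _ hQW
        apply iSup_le
        rintro ⟨g, hg⟩
        have hgW : Q.map (MulAut.conj g).toMonoidHom ≤ W :=
          le_iSup (fun g : {g : H // Q.map (MulAut.conj g).toMonoidHom ≤ L} =>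
            Q.map (MulAut.conj (g : H)).toMonoidHom) ⟨g, hg⟩
        have hp : IsPGroup p ((Q.map (MulAut.conj g).toMonoidHom ⊔ Q : Subgroup H)) :=
          IsPGroup.to_sup_of_normal_right' (hQp.map _) hQp (hgW.trans hWQ)
        have := IsWeaklyClosedSubgroup.eq_of_le hwc hp le_sup_right (g := g) le_sup_left
        exact this.le
  · intro R hRp hR1 hpar
    rw [charP_iff_ambient]
    set M := Subgroup.normalizer (R : Set H) with hM
    have hRM : R ≤ pCoreOf p M := le_pCoreOf Subgroup.le_normalizer le_rfl hRp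
    have hM1 : Cfsg.pCore p ↥M ≠ ⊥ := by
      intro h
      apply hR1
      have : pCoreOf p M = ⊥ := by unfold pCoreOf; rw [h, Subgroup.map_bot]
      rw [this] at hRM
      exact le_bot_iff.mp hRM
    exact inf_le_right.trans (parabolic_aux Q hQp hQ1 hL M hpar hM1)

end Cfsg.Agent.S2845
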