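import Mathlib
import Cfsg.Statements.S2846
import Cfsg.Agent.S2843
import Cfsg.Agent.S2845
import Cfsg.Agent.Lib.Helper14.BasicProperty
import Cfsg.Agent.Lib.Helper14.WeakClosureOup
import Cfsg.Agent.Lib.Helper14.Large

set_option autoImplicit false
open Cfsg

namespace Cfsg.Agent.S2846

/-- Let Q be a nontrivial large p-subgroup of the finite group H, S a Sylow p-subgroup containing Q, and L a subgroup containing S with O_p(L) ≠ 1 and C_H(O_p(L)) ≤ O_p(L). Then there are a subgroup M containing S having the basic property (M ∈ 𝔐_H, writing Y_X for the largest p-reduced normal subgroup of X and 𝓛_H for the set of subgroups X with O_p(X) ≠ 1 and C_H(O_p(X)) ≤ O_p(X): M ∈ 𝓛_H, M·C_H(Y_M) is the only maximal member of 𝓛_H containing M and its largest p-reduced normal subgroup is again Y_M, C_M(Y_M) is p-closed, and the image of C_M(Y_M) in M/O_p(M) lies in the Frattini subgroup of M/O_p(M)) and a subgroup L* with S ≤ L* ≤ M,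 O_p(L*) ≠ 1, C_H(O_p(L*)) ≤ O_p(L*), such that L·C_H(Y_L) = L*·C_H(Y_L), the weak closures of Q in L and in L* agree and lie in that of M, and Y_L = Y_{L*} ≤ Y_M. If moreover Q is not normal in L, then Q is normal in neither L* nor M. -/
theorem result {H : Type*} [Group H] [Finite H] {p : ℕ} [Fact p.Prime] (Q : Subgroup H) (hQp : IsPGroup p ↥Q) (hQ1 : Q ≠ ⊥) (hLg : Cfsg.IsLarge Q) (S : Sylow p H) (hQS : Q ≤ (S : Subgroup H)) (L : Subgroup H) (hSL : (S : Subgroup H) ≤ L) (hL : L ∈ Cfsg.charPSubgroups p H) : ∃ M Ls : Subgroup H, (S : Subgroup H) ≤ M ∧ Cfsg.IsInFrakM p M ∧ (S : Subgroup H) ≤ Ls ∧ Ls ≤ M ∧ Ls ∈ Cfsg.charPSubgroups p H ∧ L ⊔ Subgroup.centralizer (((Cfsg.largestPReducedOf p L) : Subgroup H) : Set H) = Ls ⊔ Subgroup.centralizer (((Cfsg.largestPReducedOf p L) : Subgroup H) : Set H) ∧ Cfsg.weakClosure Q L = Cfsg.weakClosure Q Ls ∧ Cfsg.weakClosure Q Ls ≤ Cfsg.weakClosure Q M ∧ (Cfsg.largestPReducedOf p L) = (Cfsg.largestPReducedOf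 p Ls) ∧ (Cfsg.largestPReducedOf p Ls) ≤ (Cfsg.largestPReducedOf p M) ∧ (¬ L ≤ Subgroup.normalizer ((Q : Subgroup H) : Set H) → ¬ Ls ≤ Subgroup.normalizer ((Q : Subgroup H) : Set H) ∧ ¬ M ≤ Subgroup.normalizer ((Q : Subgroup H) : Set H)) := by
  have hwc : IsWeaklyClosedSubgroup p Q :=
    Cfsg.Agent.Helper14.IsLarge.isWeaklyClosedSubgroup hLg hQp hQ1
  have hpc : IsOfParabolicCharacteristic p H := (Cfsg.Agent.S2845.result Q hQp hQ1 hLg).2.2
  obtain ⟨M, Ls, hSM, hMF, hSLs, hLsM, hLsL, hYLs, hYLM, hfac⟩ :=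
    Cfsg.Agent.Helper14.exists_basic hpc S L hSL hL
  have hQL : Q ≤ L := hQS.trans hSL
  have hQLs : Q ≤ Ls := hQS.trans hSLs
  have hS1 : (S : Subgroup H) ≠ ⊥ := by
    intro hbot
    rw [hbot, le_bot_iff] at hQS
    exact hQ1 hQS
  have hYL1 : largestPReducedOf p L ≠ ⊥ :=
    Cfsg.Agent.Helper14.largestPReducedOf_ne_bot S hSL
      (Cfsg.Agent.Helper14.charP_of_mem_charPSubgroups hL) hS1
  have hYLp : IsPGroup p (largestPReducedOf p L) :=
    Cfsg.Agent.Helper14.largestPReducedOf_isPGroup L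
  have h1 := (Cfsg.Agent.S2843.result Q hQp hQ1 hLg L hQL (largestPReducedOf p L) hYLp hYL1
    (Cfsg.Agent.Helper14.largestPReducedOf_spec L).1).1
  have hLsY : Ls ≤ Subgroup.normalizer ((largestPReducedOf p L : Subgroup H) : Set H) := by
    rw [hYLs]
    exact (Cfsg.Agent.Helper14.largestPReducedOf_spec Ls).1
  have h2 := (Cfsg.Agent.S2843.result Q hQp hQ1 hLg Ls hQLs (largestPReducedOf p L) hYLp hYL1
    hLsY).1
  have hwcL : Cfsg.weakClosure Q L = Cfsg.weakClosure Q Ls := by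
    rw [h1, h2, hfac]
  have hmono : Cfsg.weakClosure Q Ls ≤ Cfsg.weakClosure Q M := by
    unfold Cfsg.weakClosure
    apply iSup_le
    rintro ⟨g, hg⟩
    exact le_iSup (fun g : {g : H // Q.map (MulAut.conj g).toMonoidHom ≤ M} =>
      Q.map (MulAut.conj (g : H)).toMonoidHom) ⟨g, hg.trans hLsM⟩
  have hkey : Ls ≤ Subgroup.normalizer ((Q : Subgroup H) : Set H) →
      L ≤ Subgroup.normalizer ((Q : Subgroup H) : Set H) := by
    intro hLsQ
    have h3 : Cfsg.weakClosure Q Ls ≤ Q :=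
      Cfsg.Agent.Helper14.weakClosure_le_of_le_normalizer hQp hQ1 hwc hQLs le_rfl hLsQ
    have h4 : Cfsg.weakClosure Q L = Q :=
      le_antisymm (hwcL ▸ h3) (Cfsg.Agent.Helper14.le_weakClosure Q L hQL)
    have h5 := Cfsg.Agent.Helper14.le_normalizer_weakClosure hQp hQ1 hwc hQL
    rw [h4] at h5
    exact h5
  refine ⟨M, Ls, hSM, hMF, hSLs, hLsM, hLsL, hfac, hwcL, hmono, hYLs, hYLs ▸ hYLM, ?_⟩
  intro hLnQ
  exact ⟨fun h => hLnQ (hkey h), fun h => hLnQ (hkey (hLsM.trans h))⟩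

end Cfsg.Agent.S2846
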