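import Mathlib
import Cfsg.Statements.S2849
import Cfsg.Agent.Lib.Helper28.PReduced

set_option autoImplicit false
open Cfsg

namespace Cfsg.Agent.S2849

open Cfsg.Agent.Helper14 Cfsg.Agent.Helper28
open scoped commutatorElement

/-- Standing hypotheses: G a finite group, S a Sylow p-subgroup, Q a nontrivial large p-subgroup of G contained in S (C_G(Q) ≤ Q and N_G(U) ≤ N_G(Q) for all nontrivial U ≤ C_G(Q)), and M a subgroup containing S with the basic property (M ∈ 𝔐_G(S)); Y_M denotes the largest p-reduced normal subgroup of M and M† = M·C_G(Y_M). Suppose Y_M is asymmetric in G. Then for every subgroup R with Y_M ≤ R ≤ M†, the normal closure of Y_M in N_G(R) is elementary abelian. -/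
theorem result {G : Type*} [Group G] [Finite G] {p : ℕ} [Fact p.Prime] (S : Sylow p G) (Q : Subgroup G) (hQp : IsPGroup p ↥Q) (hQ1 : Q ≠ ⊥) (hQS : Q ≤ (S : Subgroup G)) (hQ : Cfsg.IsLarge Q) (M : Subgroup G) (hSM : (S : Subgroup G) ≤ M) (hM : Cfsg.IsInFrakM p M) (hasym : ¬ Cfsg.IsSymmetricIn (Cfsg.largestPReducedOf p M)) (R : Subgroup G) (hYR : (Cfsg.largestPReducedOf p M) ≤ R) (hRM : R ≤ (M ⊔ Subgroup.centralizer (((Cfsg.largestPReducedOf p M) : Subgroup G) : Set G))) : Cfsg.IsElementaryAbelian p ((Subgroup.normalClosure ((((Cfsg.largestPReducedOf p M)).subgroupOf (Subgroup.normalizer ((R : Subgroup G) : Set G)) : Subgroup ↥(Subgroup.normalizer ((R : Subgroup G) : Set G))) : Set ↥(Subgroup.normalizer ((R : Subgroup G) : Set G)))).map (Subgroup.normalizer ((R : Subgroup G) : Set G)).subtype) := by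
  set Y := Cfsg.largestPReducedOf p M with hY
  set Md := M ⊔ Subgroup.centralizer ((Y : Subgroup G) : Set G) with hMd
  set NR := Subgroup.normalizer ((R : Subgroup G) : Set G) with hNR
  have hMdN : Md ≤ Subgroup.normalizer (Y : Set G) := by
    have h1 : Y = largestPReducedOf p Md := hM.2.2.2.1
    have h2 := le_normalizer_largestPReducedOf p Md
    rw [← h1] at h2
    exact h2
  have hRN : R ≤ Subgroup.normalizer (Y : Set G) := hRM.trans hMdN
  obtain ⟨hYc, hYp⟩ := largestPReducedOf_elementary p M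
  rw [← hY] at hYc hYp
  -- the key commutation
  have key : ∀ g ∈ NR, ∀ y ∈ Y, ∀ y' ∈ Y, y * (g * y' * g⁻¹) = (g * y' * g⁻¹) * y := by
    intro g hg
    set Y' := Y.map (MulAut.conj g).toMonoidHom with hY'
    have hRfix : R.map (MulAut.conj g).toMonoidHom = R := map_conj_eq_self_of_le_normalizer le_rfl hg
    have hY'R : Y' ≤ R := by
      calc Y' ≤ R.map (MulAut.conj g).toMonoidHom := Subgroup.map_mono hYR
        _ = R := hRfix
    have hc1 : ⁅Y, Y'⁆ ≤ Y := by
      rw [Subgroup.commutator_le]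
      intro a ha b hb
      have hbN := hRN (hY'R hb)
      have h1 : b * a⁻¹ * b⁻¹ ∈ Y := (Subgroup.mem_normalizer_iff.mp hbN a⁻¹).mp (Y.inv_mem ha)
      have : ⁅a, b⁆ = a * (b * a⁻¹ * b⁻¹) := by rw [commutatorElement_def]; group
      rw [this]
      exact Y.mul_mem ha h1
    have hc2 : ⁅Y, Y'⁆ ≤ Y' := by
      rw [Subgroup.commutator_le]
      intro a ha b hb
      have haR : a ∈ R := hYR ha
      have hginv : g⁻¹ ∈ NR := NR.inv_mem hg
      have ha' : g⁻¹ * a * g ∈ R := by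
        have := (Subgroup.mem_normalizer_iff.mp hginv a).mp haR
        simpa using this
      have ha'N := hRN ha'
      rw [hY', mem_map_conj_iff] at hb
      have h1 : (g⁻¹ * a * g) * (g⁻¹ * b * g) * (g⁻¹ * a * g)⁻¹ ∈ Y :=
        (Subgroup.mem_normalizer_iff.mp ha'N _).mp hb
      have h2 : a * b * a⁻¹ ∈ Y' := by
        rw [hY', mem_map_conj_iff]
        have : g⁻¹ * (a * b * a⁻¹) * g = (g⁻¹ * a * g) * (g⁻¹ * b * g) * (g⁻¹ * a * g)⁻¹ := by group
        rw [this]
        exact h1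
      have hb' : b ∈ Y' := by rw [hY', mem_map_conj_iff]; exact hb
      have : ⁅a, b⁆ = (a * b * a⁻¹) * b⁻¹ := by rw [commutatorElement_def]
      rw [this]
      exact Y'.mul_mem h2 (Y'.inv_mem hb')
    have hbot : ⁅Y, Y'⁆ = ⊥ := by
      by_contra hne
      exact hasym ⟨g, hne, le_inf hc1 hc2⟩
    rw [Subgroup.commutator_eq_bot_iff_le_centralizer] at hbot
    intro y hy y' hy'
    have h1 := hbot hy
    rw [Subgroup.mem_centralizer_iff] at h1
    have h2 : g * y' * g⁻¹ ∈ (Y' : Set G) := ⟨y', hy', by simp⟩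
    exact (h1 _ h2).symm
  -- the generating set
  set Sg : Set G := {x | ∃ n ∈ NR, ∃ y ∈ Y, x = n * y * n⁻¹} with hSg
  have hcomm : ∀ x ∈ Sg, ∀ x' ∈ Sg, x * x' = x' * x := by
    rintro x ⟨n, hn, y, hy, rfl⟩ x' ⟨n', hn', y', hy', rfl⟩
    have hmem : n⁻¹ * n' ∈ NR := NR.mul_mem (NR.inv_mem hn) hn'
    have h1 := key _ hmem y hy y' hy'
    calc n * y * n⁻¹ * (n' * y' * n'⁻¹)
        = n * (y * ((n⁻¹ * n') * y' * (n⁻¹ * n')⁻¹)) * n⁻¹ := by group
      _ = n * (((n⁻¹ * n') * y' * (n⁻¹ * n')⁻¹) * y) * n⁻¹ := by rw [h1]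
      _ = n' * y' * n'⁻¹ * (n * y * n⁻¹) := by group
  have hpow : ∀ x ∈ Sg, x ^ p = 1 := by
    rintro x ⟨n, hn, y, hy, rfl⟩
    rw [conj_pow, hYp y hy]
    group
  obtain ⟨hEc, hEp⟩ := closure_elementaryAbelian hcomm hpow
  have hle : (Subgroup.normalClosure (((Y.subgroupOf NR : Subgroup ↥NR)) : Set ↥NR)).map NR.subtype ≤
      Subgroup.closure Sg := by
    rw [Subgroup.map_le_iff_le_comap]
    unfold Subgroup.normalClosure
    rw [Subgroup.closure_le]
    intro x hx
    rw [Group.mem_conjugatesOfSet_iff] at hx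
    obtain ⟨a, ha, hax⟩ := hx
    rw [isConj_iff] at hax
    obtain ⟨c, rfl⟩ := hax
    rw [SetLike.mem_coe, Subgroup.mem_comap]
    apply Subgroup.subset_closure
    refine ⟨(c : G), c.2, (a : G), Subgroup.mem_subgroupOf.mp ha, ?_⟩
    simp
  refine ⟨⟨⟨?_⟩⟩, ?_⟩
  · intro a b
    apply Subtype.ext
    exact hEc _ (hle a.2) _ (hle b.2)
  · intro a ha
    exact hEp a (hle ha)

end Cfsg.Agent.S2849
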