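import Mathlib
import Cfsg.Statements.S2850
import Cfsg.Agent.S2845
import Cfsg.Agent.Lib.Helper14.Asym

set_option autoImplicit false
open Cfsg

namespace Cfsg.Agent.S2850

/-- Standing hypotheses: G a finite group, S a Sylow p-subgroup, Q a nontrivial large p-subgroup of G contained in S (C_G(Q) ≤ Q and N_G(U) ≤ N_G(Q) for all nontrivial U ≤ C_G(Q)), and M a subgroup containing S with the basic property (M ∈ 𝔐_G(S)); Y_M denotes the largest p-reduced normal subgroup of M and M† = M·C_G(Y_M). Suppose Y_M is asymmetric in G. Then N_G(L) ≤ N_G(O_p(M)) ≤ M† for every p-subgroup L containing O_p(M); O_p(M) is a weakly closed subgroup of G; for every subgroup L containing O_p(M), L ∩ M† contains a Sylow p-subgroup of L; and two elements of Y_M conjugate in G are conjugate in M. -/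
theorem result {G : Type*} [Group G] [Finite G] {p : ℕ} [Fact p.Prime] (S : Sylow p G) (Q : Subgroup G) (hQp : IsPGroup p ↥Q) (hQ1 : Q ≠ ⊥) (hQS : Q ≤ (S : Subgroup G)) (hQ : Cfsg.IsLarge Q) (M : Subgroup G) (hSM : (S : Subgroup G) ≤ M) (hM : Cfsg.IsInFrakM p M) (hasym : ¬ Cfsg.IsSymmetricIn (Cfsg.largestPReducedOf p M)) : (∀ L : Subgroup G, IsPGroup p ↥L → (Cfsg.pCoreOf p M) ≤ L → Subgroup.normalizer ((L : Subgroup G) : Set G) ≤ Subgroup.normalizer (((Cfsg.pCoreOf p M) : Subgroup G) : Set G) ∧ Subgroup.normalizer (((Cfsg.pCoreOf p M) : Subgroup G) : Set G) ≤ (M ⊔ Subgroup.centralizer (((Cfsg.largestPReducedOf p M) : Subgroup G) : Set G))) ∧ Cfsg.IsWeaklyClosedSubgroup p (Cfsg.pCoreOf p M) ∧ (∀ L : Subgroup G, (Cfsg.pCoreOf p M) ≤ L → Cfsg.IsParabolic p ((L ⊓ (M ⊔ Subgroup.centralizer (((Cfsg.largestPReducedOf p M) : Subgroup G) : Set G))).subgroupOf L)) ∧ (∀ x ∈ (Cfsg.largestPReducedOf p M), ∀ g : G, g * x * g⁻¹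 ∈ (Cfsg.largestPReducedOf p M) → ∃ m ∈ M, m * x * m⁻¹ = g * x * g⁻¹) := by
  have hpc : IsOfParabolicCharacteristic p G := (Cfsg.Agent.S2845.result Q hQp hQ1 hQ).2.2
  set Y := Cfsg.largestPReducedOf p M with hY
  set C := Subgroup.centralizer ((Y : Subgroup G) : Set G) with hC
  set B := Cfsg.pCoreOf p M with hB
  set Md := M ⊔ C with hMd
  have hNB : Subgroup.normalizer (B : Set G) ≤ Md :=
    Cfsg.Agent.Helper14.normalizer_pCoreOf_le_dagger hpc hSM hM
  have hMY : M ≤ Subgroup.normalizer (Y : Set G) := (Cfsg.Agent.Helper14.largestPReducedOf_spec M).1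
  have hMNC : M ≤ Subgroup.normalizer (C : Set G) :=
    Cfsg.Agent.Helper14.le_normalizer_centralizer_of_le_normalizer hMY
  have hBC : B ≤ C := Cfsg.Agent.Helper28.pCoreOf_le_centralizer_largestPReducedOf p M
  have hBp : IsPGroup p B := Cfsg.Agent.Helper14.pCoreOf_isPGroup p M
  refine ⟨?_, ?_, ?_, ?_⟩
  · intro L hL hBL
    exact ⟨(Cfsg.Agent.Helper14.asym_main hpc hSM hM hasym hL hBL).2, hNB⟩
  · exact ⟨S, Cfsg.Agent.Helper14.pCoreOf_isWeaklyClosed hpc hSM hM hasym⟩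
  · intro L hBL
    obtain ⟨TL, hTL, hBTL⟩ := Cfsg.Agent.Helper14.exists_isSylowOf_ge hBL hBp
    have hTLp := hTL.isPGroup
    obtain ⟨P, hP⟩ := hTL
    refine ⟨P, ?_⟩
    intro x hx
    rw [Subgroup.mem_subgroupOf]
    have hxT : (x : G) ∈ TL := by
      rw [← hP]
      exact ⟨x, hx, rfl⟩
    refine Subgroup.mem_inf.mpr ⟨x.2, ?_⟩
    exact hNB ((Cfsg.Agent.Helper14.asym_main hpc hSM hM hasym hTLp hBTL).1 hxT)
  · intro x hx g hgx
    set x' := g * x * g⁻¹ with hx'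
    set K := Subgroup.centralizer ({x'} : Set G) with hK
    have hCK : C ≤ K := Subgroup.centralizer_le (Set.singleton_subset_iff.mpr hgx)
    have hBK : B ≤ K := hBC.trans hCK
    have hgBK : B.map (MulAut.conj g).toMonoidHom ≤ K := by
      rintro _ ⟨b, hb, rfl⟩
      rw [hK, Subgroup.mem_centralizer_iff]
      intro h hh
      rw [Set.mem_singleton_iff] at hh
      have hbx : x * b = b * x := Subgroup.mem_centralizer_iff.mp (hBC hb) x hx
      simp only [MulEquiv.coe_toMonoidHom, MulAut.conj_apply]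
      rw [hh, hx']
      calc g * x * g⁻¹ * (g * b * g⁻¹) = g * (x * b) * g⁻¹ := by group
        _ = g * (b * x) * g⁻¹ := by rw [hbx]
        _ = g * b * g⁻¹ * (g * x * g⁻¹) := by group
    obtain ⟨T₁, hT₁, hBT₁⟩ := Cfsg.Agent.Helper14.exists_isSylowOf_ge hBK hBp
    obtain ⟨T₂, hT₂, hBT₂⟩ := Cfsg.Agent.Helper14.exists_isSylowOf_ge hgBK
      (hBp.map (MulAut.conj g).toMonoidHom)
    obtain ⟨c, hc, hcT⟩ := hT₁.exists_conj hT₂
    have h1 : B.map (MulAut.conj (c⁻¹ * g)).toMonoidHom ≤ T₁ := by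
      rw [Cfsg.Agent.Helper14.conj_mul_map]
      have := Subgroup.map_mono (f := (MulAut.conj c⁻¹).toMonoidHom) (hBT₂.trans_eq hcT)
      rwa [Cfsg.Agent.Helper14.map_conj_inv_map_conj] at this
    have h2 := Cfsg.Agent.Helper14.conj_pCoreOf_eq_of_isPGroup hpc hSM hM hasym hT₁.isPGroup hBT₁ h1
    have h3 : c⁻¹ * g ∈ Md := hNB (Cfsg.Agent.Helper14.mem_normalizer_of_map_conj_eq h2)
    have h3' : c⁻¹ * g ∈ C ⊔ M := by rw [sup_comm]; exact h3
    obtain ⟨c'', hc'', m, hm, hcm⟩ := Cfsg.Agent.Helper1.exists_mul_of_mem_sup hMNC h3'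
    refine ⟨m, hm, ?_⟩
    have hmx : m * x * m⁻¹ ∈ Y := (Subgroup.mem_normalizer_iff.mp (hMY hm) x).mp hx
    have hcomm : (m * x * m⁻¹) * c'' = c'' * (m * x * m⁻¹) :=
      Subgroup.mem_centralizer_iff.mp hc'' _ hmx
    have hcx : x' * c⁻¹ = c⁻¹ * x' :=
      Subgroup.mem_centralizer_iff.mp (K.inv_mem hc) x' (Set.mem_singleton x')
    have e1 : (c⁻¹ * g) * x * (c⁻¹ * g)⁻¹ = x' := by
      calc (c⁻¹ * g) * x * (c⁻¹ * g)⁻¹ = c⁻¹ * x' * c := by rw [hx']; group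
        _ = x' * c⁻¹ * c := by rw [hcx]
        _ = x' := by group
    have e2 : (c⁻¹ * g) * x * (c⁻¹ * g)⁻¹ = m * x * m⁻¹ := by
      rw [hcm]
      calc c'' * m * x * (c'' * m)⁻¹ = c'' * (m * x * m⁻¹) * c''⁻¹ := by group
        _ = (m * x * m⁻¹) * c'' * c''⁻¹ := by rw [hcomm]
        _ = m * x * m⁻¹ := by group
    rw [← e2, e1]

end Cfsg.Agent.S2850
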