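import Mathlib
import Cfsg.Statements.S2851
import Cfsg.Agent.S2845
import Cfsg.Agent.Lib.Helper14.AsymH2
import Cfsg.Agent.Lib.Helper14.FStarMod

set_option autoImplicit false
open Cfsg

namespace Cfsg.Agent.S2851

/-- Standing hypotheses: G a finite group, S a Sylow p-subgroup, Q a nontrivial large p-subgroup of G contained in S, M a subgroup containing S with the basic property (M ∈ 𝔐_G(S)); Y_M the largest p-reduced normal subgroup of M and M† = M·C_G(Y_M). Let F be the preimage in M† of the generalized Fitting subgroup of M†/C_{M†}(Y_M). If Y_M is asymmetric in G and H is a subgroup of characteristic p containing F, then Y_M ≤ Y_H. -/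
theorem result {G : Type*} [Group G] [Finite G] {p : ℕ} [Fact p.Prime] (S : Sylow p G) (Q : Subgroup G) (hQp : IsPGroup p ↥Q) (hQ1 : Q ≠ ⊥) (hQS : Q ≤ (S : Subgroup G)) (hQ : Cfsg.IsLarge Q) (M : Subgroup G) (hSM : (S : Subgroup G) ≤ M) (hM : Cfsg.IsInFrakM p M) (hasym : ¬ Cfsg.IsSymmetricIn (Cfsg.largestPReducedOf p M)) [hn : ((Subgroup.centralizer (((Cfsg.largestPReducedOf p M) : Subgroup G) : Set G)).subgroupOf (M ⊔ Subgroup.centralizer (((Cfsg.largestPReducedOf p M) : Subgroup G) : Set G))).Normal] (F : Subgroup G) (hF : F = ((Cfsg.generalizedFittingSubgroup (↥(M ⊔ Subgroup.centralizer (((Cfsg.largestPReducedOf p M) : Subgroup G) : Set G)) ⧸ (Subgroup.centralizer (((Cfsg.largestPReducedOf p M) : Subgroup G) : Set G)).subgroupOf (M ⊔ Subgroup.centralizer (((Cfsg.largestPReducedOf p M) : Subgroup G) : Set G)))).comap (QuotientGroup.mk' ((Subgroup.centralizer (((Cfsg.largestPReducedOf p M) : Subgroup G) : Set G)).subgroupOf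 (M ⊔ Subgroup.centralizer (((Cfsg.largestPReducedOf p M) : Subgroup G) : Set G))))).map ((M ⊔ Subgroup.centralizer (((Cfsg.largestPReducedOf p M) : Subgroup G) : Set G))).subtype) (H : Subgroup G) (hFH : F ≤ H) (hH : Subgroup.centralizer (Cfsg.pCore p ↥H : Set ↥H) ≤ Cfsg.pCore p ↥H) : (Cfsg.largestPReducedOf p M) ≤ Cfsg.largestPReducedOf p H := by
  classical
  have hpc : IsOfParabolicCharacteristic p G := (Cfsg.Agent.S2845.result Q hQp hQ1 hQ).2.2
  set Y := Cfsg.largestPReducedOf p M with hY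
  set C := Subgroup.centralizer ((Y : Subgroup G) : Set G) with hC
  set B := Cfsg.pCoreOf p M with hB
  set Md := M ⊔ C with hMd
  obtain ⟨hMY, hYe, hYred⟩ := Cfsg.Agent.Helper14.largestPReducedOf_spec (p := p) M
  have hYC : Y ≤ C := by
    intro y hy
    rw [hC, Subgroup.mem_centralizer_iff]
    intro z hz
    have := hYe.1.is_comm.comm (⟨z, hz⟩ : ↥Y) ⟨y, hy⟩
    exact congrArg Subtype.val this
  have hYMd : Y = Cfsg.largestPReducedOf p Md := hM.2.2.2.1
  have hO : ∀ D : Subgroup G, D ≤ Md → Md ≤ Subgroup.normalizer (D : Set G) →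
      Cfsg.Agent.Helper14.PowCond p D C → D ≤ C := by
    have h := (Cfsg.Agent.Helper14.largestPReducedOf_spec (p := p) Md).2.2
    rw [← hYMd] at h
    exact h
  have hkey : ∀ {D : Subgroup G}, D ≤ Md → F ≤ Subgroup.normalizer (D : Set G) →
      Cfsg.Agent.Helper14.PowCond p D C → D ≤ C := fun {D} h1 h2 h3 =>
    Cfsg.Agent.Helper14.le_of_powCond_of_fstar_normalizes_amb hO F hF h1 h2 h3
  have hCMd : C ≤ Md := le_sup_right
  have hCF : C ≤ F := by
    intro c hc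
    rw [hF]
    refine ⟨⟨c, hCMd hc⟩, ?_, rfl⟩
    have h1 : QuotientGroup.mk' (C.subgroupOf Md) ⟨c, hCMd hc⟩ = 1 :=
      (QuotientGroup.eq_one_iff _).mpr (Subgroup.mem_subgroupOf.mpr hc)
    show QuotientGroup.mk' (C.subgroupOf Md) ⟨c, hCMd hc⟩ ∈
      Cfsg.generalizedFittingSubgroup (↥Md ⧸ C.subgroupOf Md)
    rw [h1]
    exact Subgroup.one_mem _
  have hFMd : F ≤ Md := by
    rw [hF]
    exact Subgroup.map_subtype_le _
  have hBp : IsPGroup p B := Cfsg.Agent.Helper14.pCoreOf_isPGroup p M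
  have hBC : B ≤ C := Cfsg.Agent.Helper28.pCoreOf_le_centralizer_largestPReducedOf p M
  have hBH : B ≤ H := hBC.trans (hCF.trans hFH)
  obtain ⟨TH, hTH, hBTH⟩ := Cfsg.Agent.Helper14.exists_isSylowOf_ge hBH hBp
  have hTHMd : TH ≤ Md :=
    (Cfsg.Agent.Helper14.sylowOf_le_normalizer_pCoreOf hpc hSM hM hasym hTH hBTH).2
  set R := Cfsg.pCoreOf p H with hR
  have hRp : IsPGroup p R := Cfsg.Agent.Helper14.pCoreOf_isPGroup p H
  have hHR : H ≤ Subgroup.normalizer (R : Set G) := Cfsg.Agent.Helper14.le_normalizer_pCoreOf p H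
  have hRTH : R ≤ TH := Cfsg.Agent.Helper14.pCoreOf_le_of_isSylowOf hTH
  have hRC : R ≤ C :=
    hkey (hRTH.trans hTHMd) (hFH.trans hHR) (Cfsg.Agent.Helper14.powCond_of_isPGroup hRp _)
  have hchar := Cfsg.Agent.Helper14.charP_iff_ambient.mp hH
  have hYH : Y ≤ H := hYC.trans (hCF.trans hFH)
  -- the normal closure of `Y` in `H`
  set Sg : Set G := {g | ∃ x ∈ H, ∃ y ∈ Y, g = x * y * x⁻¹} with hSg
  set V := Subgroup.closure Sg with hV
  have hYV : Y ≤ V := by
    intro y hy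
    apply Subgroup.subset_closure
    exact ⟨1, H.one_mem, y, hy, by simp⟩
  have hVH : V ≤ H := by
    rw [hV, Subgroup.closure_le]
    rintro _ ⟨x, hx, y, hy, rfl⟩
    exact H.mul_mem (H.mul_mem hx (hYH hy)) (H.inv_mem hx)
  have hHV : H ≤ Subgroup.normalizer (V : Set G) := by
    apply Cfsg.Agent.Helper14.le_normalizer_of_map_conj_le
    intro g hg
    rw [hV, MonoidHom.map_closure, Subgroup.closure_le]
    rintro _ ⟨_, ⟨x, hx, y, hy, rfl⟩, rfl⟩
    apply Subgroup.subset_closure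
    refine ⟨g * x, H.mul_mem hg hx, y, hy, ?_⟩
    simp only [MulEquiv.coe_toMonoidHom, MulAut.conj_apply]
    group
  have hSgC : ∀ g ∈ Sg, g ∈ Subgroup.centralizer (R : Set G) := by
    rintro _ ⟨x, hx, y, hy, rfl⟩
    rw [Subgroup.mem_centralizer_iff]
    intro r hr
    have hr' : x⁻¹ * r * x⁻¹⁻¹ ∈ R :=
      (Subgroup.mem_normalizer_iff.mp (hHR (H.inv_mem hx)) r).mp hr
    have hc := Subgroup.mem_centralizer_iff.mp (hRC hr') y hy
    calc r * (x * y * x⁻¹) = x * ((x⁻¹ * r * x⁻¹⁻¹) * y) * x⁻¹ := by group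
      _ = x * (y * (x⁻¹ * r * x⁻¹⁻¹)) * x⁻¹ := by rw [hc]
      _ = x * y * x⁻¹ * r := by group
  have hVC : V ≤ Subgroup.centralizer (R : Set G) := by
    rw [hV, Subgroup.closure_le]
    exact hSgC
  have hVR : V ≤ R := fun v hv => hchar (Subgroup.mem_inf.mpr ⟨hVH hv, hVC hv⟩)
  have hcomm : ∀ a ∈ Sg, ∀ b ∈ Sg, a * b = b * a := by
    intro a ha b hb
    exact Subgroup.mem_centralizer_iff.mp (hSgC b hb) a (hVR (Subgroup.subset_closure ha))
  have hpow : ∀ a ∈ Sg, a ^ p = 1 := by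
    rintro _ ⟨x, hx, y, hy, rfl⟩
    rw [conj_pow, hYe.2 y hy]
    group
  obtain ⟨hEc, hEp⟩ := Cfsg.Agent.Helper28.closure_elementaryAbelian hcomm hpow
  have hVe : IsElementaryAbelian p V :=
    ⟨⟨⟨fun a b => Subtype.ext (hEc _ a.2 _ b.2)⟩⟩, hEp⟩
  refine hYV.trans (Cfsg.Agent.Helper14.le_largestPReducedOf hVH ?_)
  rw [Cfsg.Agent.Helper14.isPReducedNormal_subgroupOf_iff hVH]
  refine ⟨hHV, hVe, ?_⟩
  intro D hDH hHD hDp
  set CV := Subgroup.centralizer (V : Set G) with hCV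
  have hHCV : H ≤ Subgroup.normalizer (CV : Set G) :=
    Cfsg.Agent.Helper14.le_normalizer_centralizer_of_le_normalizer hHV
  have hCVC : CV ≤ C := Subgroup.centralizer_le hYV
  have hDMd : D ≤ Md := by
    intro d hd
    obtain ⟨t, ht, c, hc, rfl⟩ :=
      Cfsg.Agent.Helper14.exists_mul_of_powCond_amb hTH hDH hHD hHCV hDp d hd
    exact Md.mul_mem (hTHMd ht) (hCMd (hCVC (Subgroup.mem_inf.mp hc).1))
  have hDY : D ≤ C := hkey hDMd (hFH.trans hHD) (hDp.mono_right hCVC)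
  rw [hCV, hV, Subgroup.centralizer_closure]
  intro d hd
  rw [Subgroup.mem_centralizer_iff]
  rintro _ ⟨x, hx, y, hy, rfl⟩
  have hd' : x⁻¹ * d * x⁻¹⁻¹ ∈ D := (Subgroup.mem_normalizer_iff.mp (hHD (H.inv_mem hx)) d).mp hd
  have hc := Subgroup.mem_centralizer_iff.mp (hDY hd') y hy
  calc x * y * x⁻¹ * d = x * (y * (x⁻¹ * d * x⁻¹⁻¹)) * x⁻¹ := by group
    _ = x * ((x⁻¹ * d * x⁻¹⁻¹) * y) * x⁻¹ := by rw [hc]
    _ = d * (x * y * x⁻¹) := by group

end Cfsg.Agent.S2851
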