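import Mathlib
import Cfsg.Statements.S2853
import Cfsg.Agent.S2845
import Cfsg.Agent.Lib.Helper14.AsymH2

set_option autoImplicit false
open Cfsg

namespace Cfsg.Agent.S2853

/-- Standing hypotheses: G a finite group, S a Sylow p-subgroup, Q a nontrivial large p-subgroup of G contained in S, M a subgroup containing S with the basic property (M ∈ 𝔐_G(S)); Y_M the largest p-reduced normal subgroup of M and M† = M·C_G(Y_M). Suppose Y_M is char-p-tall and asymmetric in G and H ∈ ℌ_G(O_p(M)). Then every Sylow p-subgroup of H ∩ M† is a Sylow p-subgroup of H; O_p(H) normalizes O_p(M) and Y_M; O^p(H) = [O^p(H), Y_M] and H = O^p(H)·O_p(M); O^p(H)·Y_M is the normal closure of Y_M in H; and H is the normal closure of O_p(M) in H. Here O^p(H) is the subgroup generated by the elements of H of order prime to p. -/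
theorem result {G : Type*} [Group G] [Finite G] {p : ℕ} [Fact p.Prime] (S : Sylow p G) (Q : Subgroup G) (hQp : IsPGroup p ↥Q) (hQ1 : Q ≠ ⊥) (hQS : Q ≤ (S : Subgroup G)) (hQ : Cfsg.IsLarge Q) (M : Subgroup G) (hSM : (S : Subgroup G) ≤ M) (hM : Cfsg.IsInFrakM p M) (htall : Cfsg.IsCharPTall p (Cfsg.largestPReducedOf p M)) (hasym : ¬ Cfsg.IsSymmetricIn (Cfsg.largestPReducedOf p M)) (H : Subgroup G) (hH : Cfsg.IsInFrakH p M H) (R : Subgroup G) (hR : R = (Cfsg.pResidual p ↥H).map H.subtype) : (∀ T : Sylow p ↥(H ⊓ (M ⊔ Subgroup.centralizer (((Cfsg.largestPReducedOf p M) : Subgroup G) : Set G))), ∃ P : Sylow p ↥H, ((P : Subgroup ↥H).map H.subtype) = (T : Subgroup ↥(H ⊓ (M ⊔ Subgroup.centralizer (((Cfsg.largestPReducedOf p M) : Subgroup G) : Set G)))).map (H ⊓ (M ⊔ Subgroup.centralizer (((Cfsg.largestPReducedOf p M) : Subgroup G) : Set G))).subtype) ∧ Cfsg.pCoreOf p H ≤ Subgroup.normalizer (((Cfsg.pCoreOf p M) : Subgroup G) : Set G)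 ⊓ Subgroup.normalizer (((Cfsg.largestPReducedOf p M) : Subgroup G) : Set G) ∧ ⁅R, (Cfsg.largestPReducedOf p M)⁆ = R ∧ R ⊔ (Cfsg.pCoreOf p M) = H ∧ R ⊔ (Cfsg.largestPReducedOf p M) = (Subgroup.normalClosure ((((Cfsg.largestPReducedOf p M)).subgroupOf H : Subgroup ↥H) : Set ↥H)).map H.subtype ∧ (Subgroup.normalClosure ((((Cfsg.pCoreOf p M)).subgroupOf H : Subgroup ↥H) : Set ↥H)).map H.subtype = H := by
  have hpc : IsOfParabolicCharacteristic p G := (Cfsg.Agent.S2845.result Q hQp hQ1 hQ).2.2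
  set Y := Cfsg.largestPReducedOf p M with hY
  set C := Subgroup.centralizer ((Y : Subgroup G) : Set G) with hC
  set B := Cfsg.pCoreOf p M with hB
  set Md := M ⊔ C with hMd
  have hBH : B ≤ H := hH.2.1
  have hYB : Y ≤ B := Cfsg.Agent.Helper14.largestPReducedOf_le_pCoreOf M
  have hBp : IsPGroup p B := Cfsg.Agent.Helper14.pCoreOf_isPGroup p M
  have hNB : Subgroup.normalizer (B : Set G) ≤ Md :=
    Cfsg.Agent.Helper14.normalizer_pCoreOf_le_dagger hpc hSM hM
  have hRoup : R = Cfsg.Agent.Helper14.oup p H := hR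
  refine ⟨?_, ?_, ?_, ?_, ?_, ?_⟩
  · intro T
    obtain ⟨TH, hTH, hBTH⟩ := Cfsg.Agent.Helper14.exists_isSylowOf_ge hBH hBp
    have hTHMd := (Cfsg.Agent.Helper14.sylowOf_le_normalizer_pCoreOf hpc hSM hM hasym hTH hBTH).2
    have h1 : Cfsg.Agent.Helper14.IsSylowOf p (H ⊓ Md) TH :=
      hTH.of_le (le_inf hTH.le hTHMd) inf_le_left
    have h2 : Cfsg.Agent.Helper14.IsSylowOf p (H ⊓ Md)
        ((T : Subgroup ↥(H ⊓ Md)).map (H ⊓ Md).subtype) := ⟨T, rfl⟩
    obtain ⟨i, hi, hiT⟩ := h1.exists_conj h2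
    obtain ⟨P, hP⟩ := hTH.conj_mem (inf_le_left (a := H) hi)
    exact ⟨P, hP.trans hiT.symm⟩
  · apply le_inf (Cfsg.Agent.Helper14.pCoreOf_le_normalizer_pCoreOf hpc hSM hM hasym hBH)
    exact (Cfsg.Agent.Helper14.pCoreOf_le_normalizer_pCoreOf hpc hSM hM hasym hBH).trans
      (hNB.trans (Cfsg.Agent.Helper14.dagger_le_normalizer hM))
  · rw [hRoup]
    exact Cfsg.Agent.Helper14.frakH_commutator_oup hH
  · rw [hRoup]
    exact Cfsg.Agent.Helper14.frakH_oup_sup_eq hH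
  · rw [hRoup, Cfsg.Agent.Helper14.map_normalClosure_subgroupOf (hYB.trans hBH)]
    exact (Cfsg.Agent.Helper14.frakH_nclOf_eq_oup_sup hH).symm
  · rw [Cfsg.Agent.Helper14.map_normalClosure_subgroupOf hBH]
    exact Cfsg.Agent.Helper14.frakH_nclOf_eq hH

end Cfsg.Agent.S2853
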