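import Mathlib
import Cfsg.Statements.S2854
import Cfsg.Agent.S2845
import Cfsg.Agent.Lib.Helper14.AsymH3

set_option autoImplicit false
open Cfsg

namespace Cfsg.Agent.S2854

/-- Standing hypotheses: G a finite group, S a Sylow p-subgroup, Q a nontrivial large p-subgroup of G contained in S, M a subgroup containing S with the basic property (M ∈ 𝔐_G(S)); Y_M the largest p-reduced normal subgroup of M and M† = M·C_G(Y_M). Suppose Y_M is asymmetric in G, H ∈ ℌ_G(O_p(M)), and H ≤ N_G(gQg⁻¹) for some g ∈ G. Then gQg⁻¹ ≤ O_p(H·gQg⁻¹) ≤ N_G(O_p(M)) ≤ N_G(Y_M) = M†; H is normal in H·gQg⁻¹ with O^p(H) = O^p(H·gQg⁻¹); and H·gQg⁻¹ is p-irreducible. -/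
theorem result {G : Type*} [Group G] [Finite G] {p : ℕ} [Fact p.Prime] (S : Sylow p G) (Q : Subgroup G) (hQp : IsPGroup p ↥Q) (hQ1 : Q ≠ ⊥) (hQS : Q ≤ (S : Subgroup G)) (hQ : Cfsg.IsLarge Q) (M : Subgroup G) (hSM : (S : Subgroup G) ≤ M) (hM : Cfsg.IsInFrakM p M) (hasym : ¬ Cfsg.IsSymmetricIn (Cfsg.largestPReducedOf p M)) (H : Subgroup G) (hH : Cfsg.IsInFrakH p M H) (g : G) (hHQ : H ≤ Subgroup.normalizer ((((Q : Subgroup G).map (MulAut.conj (g : G)).toMonoidHom) : Subgroup G) : Set G)) : ((Q : Subgroup G).map (MulAut.conj (g : G)).toMonoidHom) ≤ Cfsg.pCoreOf p (H ⊔ ((Q : Subgroup G).map (MulAut.conj (g : G)).toMonoidHom)) ∧ Cfsg.pCoreOf p (H ⊔ ((Q : Subgroup G).map (MulAut.conj (g : G)).toMonoidHom)) ≤ Subgroup.normalizer (((Cfsg.pCoreOf p M) : Subgroup G) : Set G) ∧ Subgroup.normalizer (((Cfsg.pCoreOf p M) : Subgroup G) : Set G) ≤ Subgroup.normalizer (((Cfsg.largestPReducedOf p M) : Subgroup G) : Set G) ∧ Subgroup.normalizer (((Cfsg.largestPReducedOf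 p M) : Subgroup G) : Set G) = (M ⊔ Subgroup.centralizer (((Cfsg.largestPReducedOf p M) : Subgroup G) : Set G)) ∧ (H.subgroupOf (H ⊔ ((Q : Subgroup G).map (MulAut.conj (g : G)).toMonoidHom))).Normal ∧ (Cfsg.pResidual p ↥H).map H.subtype = (Cfsg.pResidual p ↥(H ⊔ ((Q : Subgroup G).map (MulAut.conj (g : G)).toMonoidHom))).map (H ⊔ ((Q : Subgroup G).map (MulAut.conj (g : G)).toMonoidHom)).subtype ∧ Cfsg.IsPIrreducible p ↥(H ⊔ ((Q : Subgroup G).map (MulAut.conj (g : G)).toMonoidHom)) := by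
  have hpc : IsOfParabolicCharacteristic p G := (Cfsg.Agent.S2845.result Q hQp hQ1 hQ).2.2
  set Y := Cfsg.largestPReducedOf p M with hY
  set C := Subgroup.centralizer ((Y : Subgroup G) : Set G) with hC
  set B := Cfsg.pCoreOf p M with hB
  set Md := M ⊔ C with hMd
  set Qg := (Q : Subgroup G).map (MulAut.conj (g : G)).toMonoidHom with hQg
  set H' := H ⊔ Qg with hH'
  have hBH : B ≤ H := hH.2.1
  have hQgp : IsPGroup p Qg := hQp.map _
  have hNB : Subgroup.normalizer (B : Set G) ≤ Md :=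
    Cfsg.Agent.Helper14.normalizer_pCoreOf_le_dagger hpc hSM hM
  have hH'H : H' ≤ Subgroup.normalizer (H : Set G) :=
    Cfsg.Agent.Helper14.frakH_sup_le_normalizer hpc hSM hM hasym hH hQgp hHQ
  refine ⟨Cfsg.Agent.Helper14.le_pCoreOf_sup_of_le_normalizer hQgp hHQ,
    Cfsg.Agent.Helper14.pCoreOf_le_normalizer_pCoreOf hpc hSM hM hasym (hBH.trans le_sup_left),
    hNB.trans (Cfsg.Agent.Helper14.dagger_le_normalizer hM),
    Cfsg.Agent.Helper14.normalizer_eq_dagger hpc hSM hM,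
    (Subgroup.normal_subgroupOf_iff_le_normalizer le_sup_left).mpr hH'H, ?_, ?_⟩
  · exact (Cfsg.Agent.Helper14.oup_sup_eq_of_le_normalizer hQgp (le_sup_right.trans hH'H)).symm
  · refine ⟨Cfsg.Agent.Helper14.frakH_sup_not_isPClosed hpc hSM hM hasym hH hQgp hHQ, ?_⟩
    intro N hN hncl
    set Na := N.map H'.subtype with hNa
    have hNaH' : Na ≤ H' := Subgroup.map_subtype_le _
    have hsub : Na.subgroupOf H' = N := by
      unfold Subgroup.subgroupOf
      exact Subgroup.comap_map_eq_self_of_injective H'.subtype_injective _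
    have hnorm : H' ≤ Subgroup.normalizer (Na : Set G) := by
      apply (Subgroup.normal_subgroupOf_iff_le_normalizer hNaH').mp
      rw [hsub]
      exact hN
    have hncl' : ¬ IsPClosed p ↥Na := by
      intro h
      apply hncl
      exact Cfsg.Agent.Helper14.isPClosed_of_mulEquiv
        (N.equivMapOfInjective H'.subtype H'.subtype_injective).symm h
    have h1 := Cfsg.Agent.Helper14.frakH_sup_oup_le hpc hSM hM hasym hH hQgp hHQ hNaH' hnorm hncl'
    exact (Subgroup.map_le_map_iff_of_injective H'.subtype_injective).mp h1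

end Cfsg.Agent.S2854
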