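import Mathlib
import Cfsg.Statements.S2856
import Cfsg.Agent.Lib.Helper14.AmalgamV

set_option autoImplicit false
open Cfsg

namespace Cfsg.Agent.S2856

open Cfsg.Agent.Helper14

/-- Let (M₁, M₂) be an amalgam pair in X satisfying the rank-two standing hypothesis (characteristic p, the normalizers in M₁ and in M₂ of a Sylow p-subgroup of M₁ ∩ M₂ equal and contained in M₁ ∩ M₂, and strongly p-embedded residues), λ a vertex of the coset graph, L_λ the subgroup of its stabilizer generated by the p-elements, Q_λ = O_p of the stabilizer, O^p(L_λ) the subgroup of L_λ generated by its elements of order prime to p, and V_λ^{(k)} the subgroup generated by the Z_μ over the vertices μ at distance at most k from λ (Z_μ being generated by the Ω₁(Z(S)), S a Sylow p-subgroup of the stabilizer of μ). If n ≥ 1 and V_λ^{(n)} ≤ Q_λ, then O^p(L_λ) does not centralize V_λ^{(n)}/[V_λ^{(n)}, Q_λ], that is, [V_λ^{(n)}, O^p(L_λ)] is not contained in [V_λ^{(n)}, Q_λ]. -/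
theorem result {X : Type*} [Group X] {p : ℕ} [Fact p.Prime] (M₁ M₂ : Subgroup X) (h : Cfsg.IsSpeAmalgamPair p M₁ M₂) (lam : Cfsg.CosetVertex M₁ M₂) (n : ℕ) (hn : 1 ≤ n) (V : Subgroup X) (hV : V = Cfsg.vertexVIter p M₁ M₂ n lam) (hVQ : V ≤ Cfsg.vertexQ p lam) : ¬ ⁅V, ((Cfsg.pResidual p ↥(Cfsg.pElementClosure p (MulAction.stabilizer X lam))).map (Cfsg.pElementClosure p (MulAction.stabilizer X lam)).subtype)⁆ ≤ ⁅V, Cfsg.vertexQ p lam⁆ := by
  intro hle
  subst hV
  have hchar := h.1
  have hc := charPPair_connected hchar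
  obtain ⟨μ, hadj⟩ := exists_adj lam
  obtain ⟨m, rfl⟩ : ∃ m, n = m + 1 := ⟨n - 1, by omega⟩
  set V := Cfsg.vertexVIter p M₁ M₂ (m + 1) lam with hV
  set W := Cfsg.vertexVIter p M₁ M₂ m μ with hW
  set Q := Cfsg.vertexQ p lam with hQ
  set R := (Cfsg.pResidual p ↥(Cfsg.pElementClosure p (MulAction.stabilizer X lam))).map
    (Cfsg.pElementClosure p (MulAction.stabilizer X lam)).subtype with hR
  have hWV : W ≤ V := vertexVIter_le_of_adj hc p le_rfl hadj
  have hWn : MulAction.stabilizer X μ ≤ Subgroup.normalizer (W : Set X) :=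
    stabilizer_le_normalizer_vertexVIter hc p m μ
  have hVn : MulAction.stabilizer X lam ≤ Subgroup.normalizer (V : Set X) :=
    stabilizer_le_normalizer_vertexVIter hc p (m + 1) lam
  have hRW : ⁅R, W⁆ ≤ W ⊔ ⁅V, Q⁆ := by
    rw [Subgroup.commutator_comm]
    exact ((Subgroup.commutator_mono hWV le_rfl).trans hle).trans le_sup_right
  have hVK : V ≤ W ⊔ ⁅V, Q⁆ := by
    apply vertexVIter_succ_le hchar hadj m
    intro g hg
    obtain ⟨r, hr, y, hy, rfl⟩ := spe_stabilizer_eq_oup_mul h hadj g hg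
    exact map_conj_mul_le le_sup_left hWn hRW hr hy.2
  have hfin := charPPair_stabilizer_finite hchar lam
  have hQG : Q ≤ MulAction.stabilizer X lam := pCoreOf_le p _
  have hQfin : Finite ↥Q := Finite.of_injective (Subgroup.inclusion hQG) (Subgroup.inclusion_injective hQG)
  have hQnil : Group.IsNilpotent ↥Q := (pCoreOf_isPGroup p _).isNilpotent
  have hVW : V ≤ W :=
    le_of_le_sup_commutator_nilpotent hVQ hWV (hQG.trans hVn)
      ((charPPair_vertexQ_le_stabilizer_of_adj hchar hadj).trans hWn) hVK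
  exact spe_false_of_vertexVIter_le h hadj (m + 1) W hVQ hWn hWV hVW

end Cfsg.Agent.S2856
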