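import Mathlib
import Cfsg.Statements.S2859
import Cfsg.Agent.Lib.Helper14.WeakClosureOup
import Cfsg.Agent.Lib.Helper1.CommutatorBasic

set_option autoImplicit false
open Cfsg

namespace Cfsg.Agent.S2859

open Subgroup Cfsg.Agent.Helper14
open scoped commutatorElement

variable {G : Type*} [Group G]

/-- basic facts on `X = ⟨Q^G⟩` -/
theorem setup [Finite G] {p : ℕ} [Fact p.Prime] {Q : Subgroup G} (hQp : IsPGroup p ↥Q)
    (hQ1 : Q ≠ ⊥) (hwc : Cfsg.IsWeaklyClosedSubgroup p Q) {X : Subgroup G}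
    (hX : X = Cfsg.weakClosure Q ⊤) :
    Q ≤ X ∧ (∀ Y : Subgroup G, Q ≤ Y → X ≤ normalizer (Y : Set G) → X ≤ Y) ∧
      X = ⨆ x : ↥X, Q.map (MulAut.conj (x : G)).toMonoidHom := by
  have hQX : Q ≤ X := by
    rw [hX]
    exact le_weakClosure Q ⊤ le_top
  have hwX : X ≤ Cfsg.weakClosure Q X := by
    have h1 : Cfsg.weakClosure Q ⊤ ≤ Cfsg.weakClosure Q X := by
      unfold Cfsg.weakClosure
      apply iSup_le
      rintro ⟨g, hg⟩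
      have hgX : Q.map (MulAut.conj g).toMonoidHom ≤ X := by
        rw [hX]
        unfold Cfsg.weakClosure
        exact le_iSup (fun g : {g : G // Q.map (MulAut.conj g).toMonoidHom ≤ ⊤} =>
          Q.map (MulAut.conj (g : G)).toMonoidHom) ⟨g, hg⟩
      exact le_iSup (fun g : {g : G // Q.map (MulAut.conj g).toMonoidHom ≤ X} =>
        Q.map (MulAut.conj (g : G)).toMonoidHom) ⟨g, hgX⟩
    exact hX.le.trans h1
  refine ⟨hQX, ?_, ?_⟩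
  · intro Y hQY hXY
    exact hwX.trans (weakClosure_le_of_le_normalizer hQp hQ1 hwc hQX hQY hXY)
  · exact le_antisymm (hwX.trans (weakClosure_eq_iSup hQp hQ1 hwc hQX).le)
      ((weakClosure_eq_iSup hQp hQ1 hwc hQX).ge.trans (weakClosure_le Q X))

/-- the facts about `D = [H₁,H₂]` -/
theorem dfacts [Finite G] {p : ℕ} [Fact p.Prime] {Q : Subgroup G} (hQp : IsPGroup p ↥Q)
    {X : Subgroup G} (hQX : Q ≤ X)
    (hXsup : X = ⨆ x : ↥X, Q.map (MulAut.conj (x : G)).toMonoidHom)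
    {H₁ H₂ : Subgroup G}
    (hn₁ : H₁ ≤ X ∧ X ≤ normalizer (H₁ : Set G)) (hn₂ : H₂ ≤ X ∧ X ≤ normalizer (H₂ : Set G))
    (hcomm : ⁅H₁, H₂⁆ ≤ normalizer (Q : Set G)) :
    ⁅H₁, H₂⁆ ≤ H₁ ∧ ⁅H₁, H₂⁆ ≤ H₂ ∧ X ≤ normalizer ((⁅H₁, H₂⁆ : Subgroup G) : Set G) ∧
      X ≤ normalizer (pCoreOf p ⁅H₁, H₂⁆ : Set G) ∧
      X ≤ centMod (pCoreOf p ⁅H₁, H₂⁆) ((⁅H₁, H₂⁆ : Subgroup G) : Set G) := by
  set D := ⁅H₁, H₂⁆ with hD
  have hDH₁ : D ≤ H₁ := commutator_le_of_le_normalizer (hn₂.1.trans hn₁.2)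
  have hDH₂ : D ≤ H₂ := commutator_le_of_le_normalizer' (hn₁.1.trans hn₂.2)
  have hXD : X ≤ normalizer (D : Set G) :=
    (le_inf hn₁.2 hn₂.2).trans
      (Cfsg.Agent.Helper1.normalizer_inf_normalizer_le_normalizer_commutator H₁ H₂)
  have hXR : X ≤ normalizer (pCoreOf p D : Set G) :=
    hXD.trans (normalizer_le_normalizer_pCoreOf p D)
  refine ⟨hDH₁, hDH₂, hXD, hXR, ?_⟩
  have hconjX : ∀ x : ↥X, Q.map (MulAut.conj (x : G)).toMonoidHom ≤ X := by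
    intro x
    calc Q.map (MulAut.conj (x : G)).toMonoidHom ≤ X.map (MulAut.conj (x : G)).toMonoidHom :=
          Subgroup.map_mono hQX
      _ = X := map_conj_eq_self_of_mem x.2
  have key : ∀ x : ↥X, Q.map (MulAut.conj (x : G)).toMonoidHom ≤
      centMod (pCoreOf p D) (D : Set G) := by
    intro x
    -- `D` normalizes `Q^x`
    have hDQx : ∀ d ∈ D, ∀ z ∈ Q.map (MulAut.conj (x : G)).toMonoidHom,
        d * z * d⁻¹ ∈ Q.map (MulAut.conj (x : G)).toMonoidHom := by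
      intro d hd z hz
      rw [mem_map_conj_iff] at hz ⊢
      have hxinv : (x : G)⁻¹ ∈ normalizer (D : Set G) := hXD (X.inv_mem x.2)
      have h1 : (x : G)⁻¹ * d * (x : G)⁻¹⁻¹ ∈ D := (Subgroup.mem_normalizer_iff.mp hxinv d).mp hd
      have h2 := hcomm h1
      have h3 := (Subgroup.mem_normalizer_iff.mp h2 _).mp hz
      have e : (x : G)⁻¹ * (d * z * d⁻¹) * (x : G) =
          (x : G)⁻¹ * d * (x : G)⁻¹⁻¹ * ((x : G)⁻¹ * z * (x : G)) *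
            ((x : G)⁻¹ * d * (x : G)⁻¹⁻¹)⁻¹ := by group
      rw [e]
      exact h3
    have hDnorm : D ≤ normalizer ((D ⊓ Q.map (MulAut.conj (x : G)).toMonoidHom : Subgroup G) : Set G) := by
      apply le_normalizer_of_conj_mem
      intro d hd z hz
      rw [Subgroup.mem_inf] at hz ⊢
      exact ⟨D.mul_mem (D.mul_mem hd hz.1) (D.inv_mem hd), hDQx d hd z hz.2⟩
    have hpg : IsPGroup p ↥(D ⊓ Q.map (MulAut.conj (x : G)).toMonoidHom) :=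
      (hQp.map _).to_le inf_le_right
    have hle := le_pCoreOf inf_le_left hDnorm hpg
    intro y hy
    have hyX : y ∈ X := hconjX x hy
    refine ⟨hXR hyX, ?_⟩
    intro d hd
    apply hle
    rw [Subgroup.mem_inf]
    constructor
    · have h1 : y * d * y⁻¹ ∈ D := (Subgroup.mem_normalizer_iff.mp (hXD hyX) d).mp hd
      have e : ⁅y, d⁆ = y * d * y⁻¹ * d⁻¹ := by simp only [commutatorElement_def]
      rw [e]
      exact D.mul_mem h1 (D.inv_mem hd)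
    · have h1 := hDQx d hd y⁻¹ (Subgroup.inv_mem _ hy)
      have e : ⁅y, d⁆ = y * (d * y⁻¹ * d⁻¹) := by simp only [commutatorElement_def]; group
      rw [e]
      exact Subgroup.mul_mem _ hy h1
  calc X = ⨆ x : ↥X, Q.map (MulAut.conj (x : G)).toMonoidHom := hXsup
    _ ≤ centMod (pCoreOf p D) (D : Set G) := iSup_le key

/-- the half of the statement concerning `H₁` -/
theorem half [Finite G] {p : ℕ} [Fact p.Prime] {Q : Subgroup G} (hQp : IsPGroup p ↥Q)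
    (hQ1 : Q ≠ ⊥) (hwc : Cfsg.IsWeaklyClosedSubgroup p Q) {X : Subgroup G} (hQX : Q ≤ X)
    (hXsup : X = ⨆ x : ↥X, Q.map (MulAut.conj (x : G)).toMonoidHom)
    {H₁ H₂ : Subgroup G}
    (hn₁ : H₁ ≤ X ∧ X ≤ normalizer (H₁ : Set G)) (hn₂ : H₂ ≤ X ∧ X ≤ normalizer (H₂ : Set G))
    (hprod : H₁ ⊔ H₂ = X) (hcomm : ⁅H₁, H₂⁆ ≤ normalizer (Q : Set G)) :
    ⁅oup p (Cfsg.weakClosure Q (H₁ ⊔ Q)), Q⁆ = oup p (Cfsg.weakClosure Q (H₁ ⊔ Q)) ∧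
    ⁅oup p (Cfsg.weakClosure Q (H₁ ⊔ Q)), H₁⁆ = oup p (Cfsg.weakClosure Q (H₁ ⊔ Q)) ∧
    oup p (Cfsg.weakClosure Q (H₁ ⊔ Q)) ≤ ⁅H₁, H₁⁆ ∧
    X ≤ normalizer (oup p (Cfsg.weakClosure Q (H₁ ⊔ Q)) : Set G) ∧
    oup p (Cfsg.weakClosure Q (H₁ ⊔ Q)) ≤
      centMod (pCoreOf p ⁅H₁, H₂⁆) ((H₂ : Subgroup G) : Set G) ∧
    oup p (Cfsg.weakClosure Q (H₁ ⊔ Q)) ≤ H₁ ∧
    Cfsg.weakClosure Q (H₁ ⊔ Q) = oup p (Cfsg.weakClosure Q (H₁ ⊔ Q)) ⊔ Q ∧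
    H₁ ≤ normalizer (Cfsg.weakClosure Q (H₁ ⊔ Q) : Set G) := by
  obtain ⟨hDH₁, hDH₂, hXD, hXR, hcent⟩ := dfacts hQp hQX hXsup hn₁ hn₂ hcomm
  set D := ⁅H₁, H₂⁆ with hD
  set R := pCoreOf p D with hR
  set L₁ := Cfsg.weakClosure Q (H₁ ⊔ Q) with hL₁
  set K₁ := oup p L₁ with hK₁
  have hRp : IsPGroup p ↥R := pCoreOf_isPGroup p D
  have hRD : R ≤ D := pCoreOf_le p D
  have hQH₁ : Q ≤ normalizer (H₁ : Set G) := hQX.trans hn₁.2
  have hQL : Q ≤ H₁ ⊔ Q := le_sup_right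
  set U := ⁅H₁, Q⁆ with hU
  have hUH : U ≤ H₁ := commutator_le_of_le_normalizer hQH₁
  have hQU : Q ≤ normalizer (U : Set G) := Cfsg.Agent.Helper10.le_normalizer_commutator_right H₁ Q
  have hL₁U : L₁ ≤ U ⊔ Q :=
    weakClosure_le_of_le_normalizer hQp hQ1 hwc hQL le_sup_right
      (sup_le_normalizer_commutator_sup H₁ Q)
  have hK₁U : K₁ ≤ U := by
    apply oup_le_of_pow_mem
    intro g hg
    exact exists_pow_mem_of_mem_sup hQp hQU (hL₁U hg)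
  have hK₁H₁ : K₁ ≤ H₁ := hK₁U.trans hUH
  -- decomposition of elements of `Q`
  have hdec : ∀ q ∈ Q, ∃ a₁ ∈ H₁, ∃ a₂ ∈ H₂, q = a₁ * a₂ := by
    intro q hq
    have hqX : q ∈ H₁ ⊔ H₂ := by rw [hprod]; exact hQX hq
    exact Cfsg.Agent.Helper1.exists_mul_of_mem_sup (hn₂.1.trans hn₁.2) hqX
  have hcomm_mul : ∀ h a₁ a₂ : G, ⁅h, a₁ * a₂⁆ = ⁅h, a₁⁆ * (a₁ * ⁅h, a₂⁆ * a₁⁻¹) := by
    intro h a₁ a₂
    simp only [commutatorElement_def]; group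
  have hU' : U ≤ ⁅H₁, H₁⁆ ⊔ D := by
    rw [hU, Subgroup.commutator_le]
    intro h hh q hq
    obtain ⟨a₁, ha₁, a₂, ha₂, rfl⟩ := hdec q hq
    rw [hcomm_mul]
    refine Subgroup.mul_mem _ (Subgroup.mem_sup_left (Subgroup.commutator_mem_commutator hh ha₁))
      (Subgroup.mem_sup_right ?_)
    exact (Subgroup.mem_normalizer_iff.mp (hXD (hn₁.1 ha₁)) _).mp
      (Subgroup.commutator_mem_commutator hh ha₂)
  -- `[D, X] ≤ R`
  have hDX : ⁅D, X⁆ ≤ R := by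
    rw [Subgroup.commutator_comm]
    exact commutator_le_of_le_centMod hcent
  have hDc : D ≤ centMod R (H₂ : Set G) :=
    le_centMod (le_normalizer_pCoreOf p D) ((Subgroup.commutator_mono le_rfl hn₂.1).trans hDX)
  have hH₁R : H₁ ≤ normalizer (R : Set G) := hn₁.1.trans hXR
  have hH₂R : H₂ ≤ normalizer (R : Set G) := hn₂.1.trans hXR
  have hH₁H₁c : ⁅H₁, H₁⁆ ≤ centMod R (H₂ : Set G) := by
    apply le_centMod ((commutator_le_of_le_normalizer (hn₁.1.trans hn₁.2)).trans hH₁R)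
    apply Cfsg.Agent.Helper10.three_subgroups_mod hH₁R hH₁R hH₂R
    · exact (Subgroup.commutator_mono le_rfl hn₁.1).trans hDX
    · rw [Subgroup.commutator_comm H₂ H₁]
      exact (Subgroup.commutator_mono le_rfl hn₁.1).trans hDX
  have hUc : U ≤ centMod R (H₂ : Set G) := hU'.trans (sup_le hH₁H₁c hDc)
  have hK₁c : K₁ ≤ centMod R (H₂ : Set G) := hK₁U.trans hUc
  have hH₁L₁ : H₁ ≤ normalizer (L₁ : Set G) :=
    le_sup_left.trans (le_normalizer_weakClosure hQp hQ1 hwc hQL)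
  have hH₁K₁ : H₁ ≤ normalizer (K₁ : Set G) := hH₁L₁.trans (normalizer_le_normalizer_oup L₁)
  have hRK₁ : R ≤ normalizer (K₁ : Set G) := (hRD.trans hDH₁).trans hH₁K₁
  have hH₂K₁ : H₂ ≤ normalizer (K₁ : Set G) := by
    apply le_normalizer_of_map_conj_le
    intro h hh
    apply map_conj_oup_le_of
    intro y hy hc
    have hyK : y ∈ K₁ := mem_oup_of_coprime hy hc
    have e : h * y * h⁻¹ = y * ⁅y⁻¹, h⁆ := by
      simp only [commutatorElement_def]; group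
    have h1 : ⁅y⁻¹, h⁆ ∈ R := (hK₁c (K₁.inv_mem hyK)).2 h hh
    have hmem : h * y * h⁻¹ ∈ K₁ ⊔ R := by
      rw [e]
      exact Subgroup.mul_mem _ (Subgroup.mem_sup_left hyK) (Subgroup.mem_sup_right h1)
    have hc' : (orderOf (h * y * h⁻¹)).Coprime p := by
      have : orderOf (h * y * h⁻¹) = orderOf y := (MulAut.conj h).orderOf_eq y
      rw [this]
      exact hc
    exact coprime_mem_of_mem_sup hRp hRK₁ hmem hc'
  have hXK₁ : X ≤ normalizer (K₁ : Set G) := by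
    rw [← hprod]
    exact sup_le hH₁K₁ hH₂K₁
  have hKQ : ⁅K₁, Q⁆ = K₁ := commutator_oup_weakClosure hQp hQ1 hwc hQL
  have hKH : ⁅K₁, H₁⁆ = K₁ := by
    apply le_antisymm (commutator_le_of_le_normalizer hH₁K₁)
    set V := ⁅K₁, H₁⁆ with hV
    have h1 : ⁅K₁, Q⁆ ≤ V ⊔ R := by
      rw [Subgroup.commutator_le]
      intro k hk q hq
      obtain ⟨a₁, ha₁, a₂, ha₂, rfl⟩ := hdec q hq
      rw [hcomm_mul]
      refine Subgroup.mul_mem _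
        (Subgroup.mem_sup_left (Subgroup.commutator_mem_commutator hk ha₁))
        (Subgroup.mem_sup_right ?_)
      exact (Subgroup.mem_normalizer_iff.mp (hH₁R ha₁) _).mp ((hK₁c hk).2 a₂ ha₂)
    rw [hKQ] at h1
    have hRV : R ≤ normalizer (V : Set G) :=
      (hRD.trans hDH₁).trans (Cfsg.Agent.Helper10.le_normalizer_commutator_right K₁ H₁)
    apply oup_le_of_coprime_mem
    intro y hy hc
    exact coprime_mem_of_mem_sup hRp hRV (h1 (mem_oup_of_coprime hy hc)) hc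
  refine ⟨hKQ, hKH, ?_, hXK₁, hK₁c, hK₁H₁, weakClosure_eq_oup_sup hQp hQ1 hwc hQL, hH₁L₁⟩
  calc K₁ = ⁅K₁, H₁⁆ := hKH.symm
    _ ≤ ⁅H₁, H₁⁆ := Subgroup.commutator_mono hK₁H₁ le_rfl

/-- Let Q be a nontrivial p-subgroup of the finite group H that is a weakly closed subgroup, H° the weak closure of Q in H (generated by the conjugates of Q) and H_∘ = O^p(H°). Suppose H₁, H₂ are normal subgroups of H° with H° = H₁H₂ and [H₁, H₂] ≤ N_H(Q), and put Kᵢ = O^p of the weak closure of Q in HᵢQ. Then for i = 1, 2: Kᵢ = [Kᵢ, Q] = [Kᵢ, Hᵢ] ≤ Hᵢ′ and Kᵢ is normal in H°; H_∘ = K₁K₂; and [K₁, K₂] ≤ O_p(H°). -/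
theorem result {G : Type*} [Group G] [Finite G] {p : ℕ} [Fact p.Prime] (Q : Subgroup G) (hQp : IsPGroup p ↥Q) (hQ1 : Q ≠ ⊥) (hwc : Cfsg.IsWeaklyClosedSubgroup p Q) (Hc : Subgroup G) (hHc : Hc = Cfsg.weakClosure Q ⊤) (H₁ H₂ : Subgroup G) (hn₁ : H₁ ≤ Hc ∧ Hc ≤ Subgroup.normalizer ((H₁ : Subgroup G) : Set G)) (hn₂ : H₂ ≤ Hc ∧ Hc ≤ Subgroup.normalizer ((H₂ : Subgroup G) : Set G)) (hprod : H₁ ⊔ H₂ = Hc) (hcomm : ⁅H₁, H₂⁆ ≤ Subgroup.normalizer ((Q : Subgroup G) : Set G)) (K₁ K₂ : Subgroup G) (hK₁ : K₁ = ((Cfsg.pResidual p ↥(Cfsg.weakClosure Q (H₁ ⊔ Q))).map ((Cfsg.weakClosure Q (H₁ ⊔ Q))).subtype)) (hK₂ : K₂ = ((Cfsg.pResidual p ↥(Cfsg.weakClosure Q (H₂ ⊔ Q))).map ((Cfsg.weakClosure Q (H₂ ⊔ Q))).subtype)) : (⁅K₁, Q⁆ = K₁ ∧ ⁅K₁, H₁⁆ = K₁ ∧ K₁ ≤ ⁅H₁, H₁⁆ ∧ Hc ≤ Subgroup.normalizer ((K₁ : Subgroup G) : Set G)) ∧ (⁅K₂, Q⁆ = K₂ ∧ ⁅K₂, H₂⁆ = K₂ ∧ K₂ ≤ ⁅H₂, H₂⁆ ∧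 Hc ≤ Subgroup.normalizer ((K₂ : Subgroup G) : Set G)) ∧ K₁ ⊔ K₂ = ((Cfsg.pResidual p ↥Hc).map (Hc).subtype) ∧ ⁅K₁, K₂⁆ ≤ (Cfsg.pCoreOf p Hc) := by
  obtain ⟨hQX, hXtop, hXsup⟩ := setup hQp hQ1 hwc hHc
  have hK₁' : K₁ = oup p (Cfsg.weakClosure Q (H₁ ⊔ Q)) := hK₁
  have hK₂' : K₂ = oup p (Cfsg.weakClosure Q (H₂ ⊔ Q)) := hK₂
  have hprod' : H₂ ⊔ H₁ = Hc := by rw [sup_comm]; exact hprod
  have hcomm' : ⁅H₂, H₁⁆ ≤ Subgroup.normalizer ((Q : Subgroup G) : Set G) := by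
    rw [Subgroup.commutator_comm]; exact hcomm
  obtain ⟨a1, a2, a3, a4, a5, a6, a7, a8⟩ :=
    half hQp hQ1 hwc hQX hXsup hn₁ hn₂ hprod hcomm
  obtain ⟨b1, b2, b3, b4, b5, b6, b7, b8⟩ :=
    half hQp hQ1 hwc hQX hXsup hn₂ hn₁ hprod' hcomm'
  rw [← hK₁'] at a1 a2 a3 a4 a5 a6 a7
  rw [← hK₂'] at b1 b2 b3 b4 b5 b6 b7
  obtain ⟨hDH₁, hDH₂, hXD, hXR, hcent⟩ := dfacts hQp hQX hXsup hn₁ hn₂ hcomm
  refine ⟨⟨a1, a2, a3, a4⟩, ⟨b1, b2, b3, b4⟩, ?_, ?_⟩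
  · show K₁ ⊔ K₂ = oup p Hc
    apply le_antisymm
    · apply sup_le
      · rw [hK₁']
        exact oup_mono ((weakClosure_le Q (H₁ ⊔ Q)).trans (sup_le hn₁.1 hQX))
      · rw [hK₂']
        exact oup_mono ((weakClosure_le Q (H₂ ⊔ Q)).trans (sup_le hn₂.1 hQX))
    · have hQN : Q ≤ normalizer ((K₁ ⊔ K₂ : Subgroup G) : Set G) :=
        le_normalizer_sup' (hQX.trans a4) (hQX.trans b4)
      have hXY : Hc ≤ normalizer ((K₁ ⊔ K₂ ⊔ Q : Subgroup G) : Set G) := by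
        rw [← hprod]
        apply sup_le
        · have e : K₁ ⊔ K₂ ⊔ Q = Cfsg.weakClosure Q (H₁ ⊔ Q) ⊔ K₂ := by
            rw [a7, sup_right_comm]
          rw [e]
          exact le_normalizer_sup' a8 (hn₁.1.trans b4)
        · have e : K₁ ⊔ K₂ ⊔ Q = K₁ ⊔ Cfsg.weakClosure Q (H₂ ⊔ Q) := by
            rw [b7, sup_assoc]
          rw [e]
          exact le_normalizer_sup' (hn₂.1.trans a4) b8
      have hXle : Hc ≤ K₁ ⊔ K₂ ⊔ Q := hXtop _ le_sup_right hXY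
      apply oup_le_of_pow_mem
      intro g hg
      exact exists_pow_mem_of_mem_sup hQp hQN (hXle hg)
  · have h1 : ⁅K₁, K₂⁆ ≤ Cfsg.pCoreOf p ⁅H₁, H₂⁆ :=
      (Subgroup.commutator_mono le_rfl b6).trans (commutator_le_of_le_centMod a5)
    refine h1.trans ?_
    exact le_pCoreOf ((pCoreOf_le p _).trans (hDH₁.trans hn₁.1)) hXR (pCoreOf_isPGroup p _)

end Cfsg.Agent.S2859
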