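import Mathlib
import Cfsg.Statements.S2860
import Cfsg.Agent.Lib.Helper14.QuasiAct
import Cfsg.Agent.Lib.Helper14.Large
import Cfsg.Agent.Lib.Helper14.FStarAct3
import Cfsg.Agent.Lib.Helper19.CentralExt

set_option autoImplicit false
open Cfsg

namespace Cfsg.Agent.S2860

open Subgroup Cfsg.Agent.Helper14
open scoped commutatorElement

section Img

variable {G : Type*} [Group G] {E C : Subgroup G} [hn : (C.subgroupOf E).Normal]

/-- the image of an ambient subgroup in `E / C_E` -/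
def img (E C : Subgroup G) [(C.subgroupOf E).Normal] (A : Subgroup G) :
    Subgroup (↥E ⧸ C.subgroupOf E) :=
  (A.subgroupOf E).map (QuotientGroup.mk' (C.subgroupOf E))

theorem img_mono {A B : Subgroup G} (h : A ≤ B) : img E C A ≤ img E C B := by
  unfold img
  apply Subgroup.map_mono
  intro x hx
  rw [Subgroup.mem_subgroupOf] at hx ⊢
  exact h hx

theorem mem_img {A : Subgroup G} {a : G} (ha : a ∈ A) (haE : a ∈ E) :
    QuotientGroup.mk' (C.subgroupOf E) ⟨a, haE⟩ ∈ img E C A :=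
  Subgroup.mem_map_of_mem _ (Subgroup.mem_subgroupOf.mpr ha)

theorem exists_of_mem_img {A : Subgroup G} {y : ↥E ⧸ C.subgroupOf E} (hy : y ∈ img E C A) :
    ∃ a : G, a ∈ A ∧ ∃ haE : a ∈ E, QuotientGroup.mk' (C.subgroupOf E) ⟨a, haE⟩ = y := by
  obtain ⟨a', ha', rfl⟩ := hy
  exact ⟨a'.1, Subgroup.mem_subgroupOf.mp ha', a'.2, rfl⟩

theorem img_commutator {A B : Subgroup G} (hA : A ≤ E) (hB : B ≤ E) :
    img E C ⁅A, B⁆ = ⁅img E C A, img E C B⁆ := by
  unfold img
  rw [← commutator_subgroupOf hA hB, Subgroup.map_commutator]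

theorem img_normal {A : Subgroup G} (hA : A ≤ E) (hEA : E ≤ normalizer (A : Set G)) :
    (img E C A).Normal := by
  unfold img
  exact Subgroup.Normal.map ((Subgroup.normal_subgroupOf_iff_le_normalizer hA).mpr hEA) _
    (QuotientGroup.mk'_surjective _)

theorem img_isPGroup {p : ℕ} {A : Subgroup G} (hA : IsPGroup p ↥A) : IsPGroup p ↥(img E C A) := by
  unfold img
  exact (hA.comap_subtype).map _

theorem exists_of_mk_mem_img {B : Subgroup G} {x : G} (hxE : x ∈ E)
    (h : QuotientGroup.mk' (C.subgroupOf E) ⟨x, hxE⟩ ∈ img E C B) :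
    ∃ b ∈ B, b⁻¹ * x ∈ C := by
  obtain ⟨b, hb, hbE, hbeq⟩ := exists_of_mem_img h
  refine ⟨b, hb, ?_⟩
  have h1 := (QuotientGroup.eq).mp hbeq
  rw [Subgroup.mem_subgroupOf] at h1
  exact h1

theorem img_eq_bot_iff {A : Subgroup G} (hA : A ≤ E) : img E C A = ⊥ ↔ A ≤ C := by
  unfold img
  rw [Subgroup.map_eq_bot_iff, QuotientGroup.ker_mk']
  constructor
  · intro h a ha
    have := h (Subgroup.mem_subgroupOf.mpr (show ((⟨a, hA ha⟩ : ↥E) : G) ∈ A from ha))
    exact Subgroup.mem_subgroupOf.mp this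
  · intro h x hx
    rw [Subgroup.mem_subgroupOf] at hx ⊢
    exact h hx

end Img

/-- The ambient core of the statement. -/
theorem core {G : Type*} [Group G] [Finite G] {p : ℕ} [Fact p.Prime] (Q : Subgroup G)
    (hQp : IsPGroup p ↥Q) (hQ1 : Q ≠ ⊥) (hQ : Cfsg.IsLarge Q) (U : Subgroup G)
    (hU : Cfsg.IsElementaryAbelian p U) (hU1 : U ≠ ⊥) (E : Subgroup G) (hQE : Q ≤ E)
    (hEU : E ≤ normalizer (U : Set G)) (hQn : ¬ E ≤ normalizer (Q : Set G))
    [hn : ((centralizer (U : Set G)).subgroupOf E).Normal]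
    (hred : Cfsg.pCore p (↥E ⧸ (centralizer (U : Set G)).subgroupOf E) = ⊥)
    (Kb : Subgroup (↥E ⧸ (centralizer (U : Set G)).subgroupOf E))
    (hKb : Kb = img E (centralizer (U : Set G)) (oup p E))
    (hqs : Cfsg.IsQuasisimple ↥Kb) :
    oup p (Cfsg.weakClosure Q E) ≤ E ∧
    E ≤ normalizer (oup p (Cfsg.weakClosure Q E) : Set G) ∧
    img E (centralizer (U : Set G)) (oup p (Cfsg.weakClosure Q E)) = Kb ∧
    ⁅oup p (Cfsg.weakClosure Q E), oup p (Cfsg.weakClosure Q E)⁆ = oup p (Cfsg.weakClosure Q E) ∧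
    ⁅oup p (Cfsg.weakClosure Q E) ⊓ centralizer (U : Set G), oup p (Cfsg.weakClosure Q E)⁆ ≤
      pCoreOf p (oup p (Cfsg.weakClosure Q E)) ∧
    pCoreOf p (oup p (Cfsg.weakClosure Q E)) ≤ centralizer (U : Set G) ∧
    ∀ Y : Subgroup G, Y ≤ E → IsPGroup p ↥Y → ¬ Y ≤ centralizer (U : Set G) →
      ⁅oup p (Cfsg.weakClosure Q E), Y⁆ = oup p (Cfsg.weakClosure Q E) := by
  have hwc : Cfsg.IsWeaklyClosedSubgroup p Q := IsLarge.isWeaklyClosedSubgroup hQ hQp hQ1
  set C := centralizer (U : Set G) with hC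
  set Eo := Cfsg.weakClosure Q E with hEo
  set Er := oup p Eo with hEr
  have hUp : IsPGroup p ↥U := IsElementaryAbelian.isPGroup hU
  -- (A) `C ≤ N(Q)`
  have hCQ : C ≤ normalizer (Q : Set G) := by
    have hA1 : U ⊓ centralizer (Q : Set G) ≠ ⊥ :=
      inf_centralizer_ne_bot_of_powCond hUp hU1 (hQE.trans hEU) (powCond_of_isPGroup hQp _)
    have h1 := hQ.2 _ inf_le_right hA1
    refine le_trans ?_ h1
    have h2 : C ≤ centralizer ((U ⊓ centralizer (Q : Set G) : Subgroup G) : Set G) :=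
      Subgroup.centralizer_le inf_le_left
    exact h2.trans (Cfsg.Agent.Helper1.centralizer_le_normalizer _)
  -- (B) `Q ≰ C`
  have hQC : ¬ Q ≤ C := by
    intro h
    apply hQn
    have hUQ : U ≤ centralizer (Q : Set G) := by
      intro u hu
      rw [Subgroup.mem_centralizer_iff]
      intro q hq
      exact (Subgroup.mem_centralizer_iff.mp (h hq) u hu).symm
    exact hEU.trans (hQ.2 U hUQ hU1)
  -- basic inclusions
  have hEoE : Eo ≤ E := weakClosure_le Q E
  have hQEo : Q ≤ Eo := le_weakClosure Q E hQE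
  have hEEo : E ≤ normalizer (Eo : Set G) := le_normalizer_weakClosure hQp hQ1 hwc hQE
  have hErEo : Er ≤ Eo := oup_le Eo
  have hErE : Er ≤ E := hErEo.trans hEoE
  have hEEr : E ≤ normalizer (Er : Set G) := hEEo.trans (normalizer_le_normalizer_oup Eo)
  have hEC : E ≤ normalizer (C : Set G) := le_normalizer_centralizer_of_le_normalizer hEU
  -- the quotient
  have hKbn : Kb.Normal := by
    rw [hKb]
    exact img_normal (oup_le E) (le_normalizer_oup E)
  have hpowK : ∀ x : ↥E ⧸ C.subgroupOf E, ∃ k : ℕ, x ^ p ^ k ∈ Kb := by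
    intro x
    obtain ⟨e, rfl⟩ := QuotientGroup.mk'_surjective _ x
    obtain ⟨k, hk⟩ := exists_pow_mem_oup (p := p) (L := E) e.2
    refine ⟨k, ?_⟩
    rw [hKb, ← map_pow]
    have : (e ^ p ^ k : ↥E) = ⟨(e : G) ^ p ^ k, E.pow_mem e.2 _⟩ := Subtype.ext (by simp)
    rw [this]
    exact mem_img hk _
  have hact : ∀ Y : Subgroup G, Y ≤ E → IsPGroup p ↥Y → ¬ Y ≤ C →
      ⁅Kb, img E C Y⁆ = Kb := by
    intro Y hYE hYp hYC
    apply commutator_eq_of_quasisimple Kb hqs hpowK hred _ (img_isPGroup hYp)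
    intro h
    exact hYC ((img_eq_bot_iff hYE).mp h)
  -- (D) `img Er = Kb`
  have hErKb : img E C Er ≤ Kb := by
    rw [hKb]
    exact img_mono (oup_mono hEoE)
  have hEon : (img E C Eo).Normal := img_normal hEoE hEEo
  have hErn : (img E C Er).Normal := img_normal hErE hEEr
  have hKbEo : Kb ≤ img E C Eo := by
    have h1 := hact Q hQE hQp hQC
    rw [← h1]
    exact (Subgroup.commutator_mono le_rfl (img_mono hQEo)).trans
      (Subgroup.commutator_le_right Kb (img E C Eo))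
  have hKbEr : Kb ≤ img E C Er := by
    haveI hN : ((img E C Er).subgroupOf Kb).Normal := hErn.subgroupOf Kb
    have h1 : (img E C Er).subgroupOf Kb = ⊤ := by
      apply quasisimple_eq_top_of_pow (p := p) hqs
      rintro ⟨x, hx⟩
      obtain ⟨a, ha, haE, rfl⟩ := exists_of_mem_img (hKbEo hx)
      obtain ⟨k, hk⟩ := exists_pow_mem_oup (p := p) (L := Eo) ha
      refine ⟨k, ?_⟩
      rw [Subgroup.mem_subgroupOf]
      show (QuotientGroup.mk' (C.subgroupOf E) ⟨a, haE⟩) ^ p ^ k ∈ img E C Er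
      rw [← map_pow]
      have : ((⟨a, haE⟩ : ↥E) ^ p ^ k : ↥E) = ⟨a ^ p ^ k, E.pow_mem haE _⟩ := Subtype.ext (by simp)
      rw [this]
      exact mem_img hk _
    exact Subgroup.subgroupOf_eq_top.mp h1
  have himgEr : img E C Er = Kb := le_antisymm hErKb hKbEr
  -- decomposition
  have hdec : ∀ A : Subgroup G, A ≤ Er → Kb ≤ img E C A →
      ∀ x ∈ Er, ∃ y ∈ A, ∃ c ∈ Er ⊓ C, x = y * c := by
    intro A hA hKA x hx
    have h1 : QuotientGroup.mk' (C.subgroupOf E) ⟨x, hErE hx⟩ ∈ img E C A :=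
      hKA (himgEr ▸ mem_img hx _)
    obtain ⟨b, hb, hbc⟩ := exists_of_mk_mem_img (hErE hx) h1
    refine ⟨b, hb, b⁻¹ * x, ?_, by group⟩
    exact Subgroup.mem_inf.mpr ⟨Er.mul_mem (Er.inv_mem (hA hb)) hx, hbc⟩
  have hErQ : ⁅Er, Q⁆ = Er := commutator_oup_weakClosure hQp hQ1 hwc hQE
  have hoo : oup p Er = Er := oup_oup Eo
  haveI hperfK : Group.IsPerfect ↥Kb := hqs.1
  have hKK : ⁅Kb, Kb⁆ = Kb := Subgroup.commutator_eq_self
  -- (2) perfect
  have hperf : ⁅Er, Er⁆ = Er := by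
    apply le_antisymm (Subgroup.commutator_le_self Er)
    set D := ⁅Er, Er⁆ with hD
    have hDEr : D ≤ Er := Subgroup.commutator_le_self Er
    have hKD : Kb ≤ img E C D := by
      rw [hD, img_commutator hErE hErE, himgEr, hKK]
    have hQD : Q ≤ normalizer (D : Set G) :=
      (le_inf (hQE.trans hEEr) (hQE.trans hEEr)).trans
        (Cfsg.Agent.Helper1.normalizer_inf_normalizer_le_normalizer_commutator Er Er)
    have hErD : Er ≤ normalizer (D : Set G) :=
      (le_inf Subgroup.le_normalizer Subgroup.le_normalizer).trans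
        (Cfsg.Agent.Helper1.normalizer_inf_normalizer_le_normalizer_commutator Er Er)
    have h1 : ⁅Er, Q⁆ ≤ D ⊔ (Er ⊓ C ⊓ Q) := by
      rw [Subgroup.commutator_le]
      intro x hx q hq
      obtain ⟨y, hy, c, hc, rfl⟩ := hdec D hDEr hKD x hx
      have hcEr : c ∈ Er := (Subgroup.mem_inf.mp hc).1
      have hcC : c ∈ C := (Subgroup.mem_inf.mp hc).2
      have e : ⁅y * c, q⁆ = ⁅y, ⁅c, q⁆⁆ * ⁅c, q⁆ * ⁅y, q⁆ := by
        simp only [commutatorElement_def]; group
      have hcqQ : ⁅c, q⁆ ∈ Q := by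
        have h2 : c * q * c⁻¹ ∈ Q := (Subgroup.mem_normalizer_iff.mp (hCQ hcC) q).mp hq
        have e2 : ⁅c, q⁆ = c * q * c⁻¹ * q⁻¹ := by simp only [commutatorElement_def]
        rw [e2]
        exact Q.mul_mem h2 (Q.inv_mem hq)
      have hqinv : q⁻¹ ∈ Q := Q.inv_mem hq
      have hcqEr : ⁅c, q⁆ ∈ Er := by
        have h2 : q * c⁻¹ * q⁻¹ ∈ Er :=
          (Subgroup.mem_normalizer_iff.mp (hEEr (hQE hq)) _).mp (Er.inv_mem hcEr)
        have e2 : ⁅c, q⁆ = c * (q * c⁻¹ * q⁻¹) := by simp only [commutatorElement_def]; group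
        rw [e2]
        exact Er.mul_mem hcEr h2
      have hcqC : ⁅c, q⁆ ∈ C := by
        have h2 : q * c⁻¹ * q⁻¹ ∈ C :=
          (Subgroup.mem_normalizer_iff.mp (hEC (hQE hq)) _).mp (C.inv_mem hcC)
        have e2 : ⁅c, q⁆ = c * (q * c⁻¹ * q⁻¹) := by simp only [commutatorElement_def]; group
        rw [e2]
        exact C.mul_mem hcC h2
      have hyq : ⁅y, q⁆ ∈ D := by
        have h2 : q * y⁻¹ * q⁻¹ ∈ D :=
          (Subgroup.mem_normalizer_iff.mp (hQD hq) _).mp (D.inv_mem hy)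
        have e2 : ⁅y, q⁆ = y * (q * y⁻¹ * q⁻¹) := by simp only [commutatorElement_def]; group
        rw [e2]
        exact D.mul_mem hy h2
      rw [e]
      refine Subgroup.mul_mem _ (Subgroup.mul_mem _ (Subgroup.mem_sup_left ?_)
        (Subgroup.mem_sup_right ?_)) (Subgroup.mem_sup_left hyq)
      · exact Subgroup.commutator_mem_commutator (hDEr hy) hcqEr
      · exact Subgroup.mem_inf.mpr ⟨Subgroup.mem_inf.mpr ⟨hcqEr, hcqC⟩, hcqQ⟩
    rw [hErQ] at h1
    have hRp : IsPGroup p ↥(Er ⊓ C ⊓ Q) := hQp.to_le inf_le_right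
    have hRD : Er ⊓ C ⊓ Q ≤ normalizer (D : Set G) :=
      (inf_le_left.trans inf_le_left).trans hErD
    rw [← hoo]
    apply oup_le_of_pow_mem
    intro g hg
    exact exists_pow_mem_of_mem_sup hRp hRD (h1 hg)
  -- (5') `[C₀, Er] ≤ P`
  set C₀ := Er ⊓ C with hC₀
  set P := pCoreOf p Er with hP
  have hEC₀ : E ≤ normalizer (C₀ : Set G) := le_normalizer_inf hEEr hEC
  have hEP : E ≤ normalizer (P : Set G) := hEEr.trans (normalizer_le_normalizer_pCoreOf p Er)
  have hP₀P : pCoreOf p C₀ ≤ P := by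
    apply le_pCoreOf ((pCoreOf_le p C₀).trans inf_le_left)
    · exact (hErE.trans hEC₀).trans (normalizer_le_normalizer_pCoreOf p C₀)
    · exact pCoreOf_isPGroup p C₀
  have hEocent : Eo ≤ centMod (pCoreOf p C₀) (C₀ : Set G) := by
    rw [hEo, weakClosure_eq_iSup hQp hQ1 hwc hQE]
    apply iSup_le
    intro e
    apply map_conj_le_centMod_pCoreOf hQp (inf_le_right.trans hCQ) (hEC₀ e.2)
    calc Q.map (MulAut.conj (e : G)).toMonoidHom ≤ E.map (MulAut.conj (e : G)).toMonoidHom :=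
          Subgroup.map_mono hQE
      _ = E := map_conj_eq_self_of_mem e.2
      _ ≤ normalizer (C₀ : Set G) := hEC₀
  have hC₀Er : ⁅C₀, Er⁆ ≤ P := by
    rw [Subgroup.commutator_comm]
    exact (commutator_le_of_le_centMod (hErEo.trans hEocent)).trans hP₀P
  -- (e) `P ≤ C`
  have hPC : P ≤ C := by
    have hPE : P ≤ E := (pCoreOf_le p Er).trans hErE
    rw [← img_eq_bot_iff (C := C) hPE, eq_bot_iff, ← hred]
    exact le_pCore (img_normal hPE hEP) (img_isPGroup (pCoreOf_isPGroup p Er))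
  refine ⟨hErE, hEEr, himgEr, hperf, hC₀Er, hPC, ?_⟩
  -- (6)
  intro Y hYE hYp hYC
  have hYEr : Y ≤ normalizer (Er : Set G) := hYE.trans hEEr
  apply le_antisymm (commutator_le_of_le_normalizer hYEr)
  set V := ⁅Er, Y⁆ with hV
  have hVEr : V ≤ Er := commutator_le_of_le_normalizer hYEr
  have hErV : Er ≤ normalizer (V : Set G) := Cfsg.Agent.Helper10.le_normalizer_commutator_left Er Y
  have hKV : Kb ≤ img E C V := by
    rw [hV, img_commutator hErE hYE, himgEr, hact Y hYE hYp hYC]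
  have h1 : ⁅Er, Er⁆ ≤ V ⊔ P := by
    rw [Subgroup.commutator_le]
    intro x hx x' hx'
    obtain ⟨v, hv, c, hc, rfl⟩ := hdec V hVEr hKV x hx
    have e : ⁅v * c, x'⁆ = v * ⁅c, x'⁆ * v⁻¹ * ⁅v, x'⁆ := by
      simp only [commutatorElement_def]; group
    have hcx : ⁅c, x'⁆ ∈ P := hC₀Er (Subgroup.commutator_mem_commutator hc hx')
    have hvP : v * ⁅c, x'⁆ * v⁻¹ ∈ P :=
      (Subgroup.mem_normalizer_iff.mp (hEP (hErE (hVEr hv))) _).mp hcx
    have hvx : ⁅v, x'⁆ ∈ V := by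
      have h2 : x' * v⁻¹ * x'⁻¹ ∈ V :=
        (Subgroup.mem_normalizer_iff.mp (hErV hx') _).mp (V.inv_mem hv)
      have e2 : ⁅v, x'⁆ = v * (x' * v⁻¹ * x'⁻¹) := by simp only [commutatorElement_def]; group
      rw [e2]
      exact V.mul_mem hv h2
    rw [e]
    exact Subgroup.mul_mem _ (Subgroup.mem_sup_right hvP) (Subgroup.mem_sup_left hvx)
  rw [hperf] at h1
  have hPV : P ≤ normalizer (V : Set G) := (pCoreOf_le p Er).trans hErV
  rw [← hoo]
  apply oup_le_of_pow_mem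
  intro g hg
  exact exists_pow_mem_of_mem_sup (pCoreOf_isPGroup p Er) hPV (h1 hg)

/-- Let Q be a nontrivial large p-subgroup of the finite group H, U a nontrivial elementary abelian p-subgroup of H, and Q ≤ E ≤ N_H(U) with Q not normal in E. Suppose O_p(E/C_E(U)) = 1 and O^p(E)·C_E(U)/C_E(U) is quasisimple. Let E° be the weak closure of Q in E (generated by the conjugates of Q inside E) and E_∘ = O^p(E°). Then O^p(E)·C_E(U) = E_∘·C_E(U); E_∘ is perfect and equals O^p(E_∘); E_∘/C_{E_∘}(U) and E_∘/O_p(E_∘) are quasisimple; and E_∘ = [E_∘, Y] for every p-subgroup Y of E not centralizing U. -/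
theorem result {G : Type*} [Group G] [Finite G] {p : ℕ} [Fact p.Prime] (Q : Subgroup G) (hQp : IsPGroup p ↥Q) (hQ1 : Q ≠ ⊥) (hQ : Cfsg.IsLarge Q) (U : Subgroup G) (hU : Cfsg.IsElementaryAbelian p U) (hU1 : U ≠ ⊥) (E : Subgroup G) (hQE : Q ≤ E) (hEU : E ≤ Subgroup.normalizer ((U : Subgroup G) : Set G)) (hQn : ¬ E ≤ Subgroup.normalizer ((Q : Subgroup G) : Set G)) [hn : ((Subgroup.centralizer ((U : Subgroup G) : Set G)).subgroupOf E).Normal] (hred : Cfsg.pCore p (↥E ⧸ (Subgroup.centralizer ((U : Subgroup G) : Set G)).subgroupOf E) = ⊥) (hqs : Cfsg.IsQuasisimple ↥(((Cfsg.pResidual p ↥E) ⊔ (Subgroup.centralizer ((U : Subgroup G) : Set G)).subgroupOf E).map (QuotientGroup.mk' ((Subgroup.centralizer ((U : Subgroup G) : Set G)).subgroupOf E)))) (Er : Subgroup G) (hEr : Er = ((Cfsg.pResidual p ↥(Cfsg.weakClosure Q E)).map ((Cfsg.weakClosure Q E)).subtype)) [hn2 : ((Subgroup.centralizer ((U : Subgroup G) : Set G)).subgroupOf Er).Normal] : ((Cfsg.pResidual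 p ↥E).map (E).subtype) ⊔ (E ⊓ Subgroup.centralizer ((U : Subgroup G) : Set G)) = Er ⊔ (E ⊓ Subgroup.centralizer ((U : Subgroup G) : Set G)) ∧ ⁅Er, Er⁆ = Er ∧ ((Cfsg.pResidual p ↥Er).map (Er).subtype) = Er ∧ Cfsg.IsQuasisimple (↥Er ⧸ (Subgroup.centralizer ((U : Subgroup G) : Set G)).subgroupOf Er) ∧ Cfsg.IsQuasisimple (↥Er ⧸ Cfsg.pCore p ↥Er) ∧ ∀ Y : Subgroup G, Y ≤ E → IsPGroup p ↥Y → ¬ Y ≤ Subgroup.centralizer ((U : Subgroup G) : Set G) → ⁅Er, Y⁆ = Er := by
  set C := Subgroup.centralizer ((U : Subgroup G) : Set G) with hC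
  have hEr' : Er = oup p (Cfsg.weakClosure Q E) := hEr
  have hKbeq : ((Cfsg.pResidual p ↥E) ⊔ C.subgroupOf E).map (QuotientGroup.mk' (C.subgroupOf E)) =
      img E C (oup p E) := by
    unfold img
    rw [Subgroup.map_sup, QuotientGroup.map_mk'_self, sup_bot_eq]
    congr 1
    unfold oup Subgroup.subgroupOf
    exact (Subgroup.comap_map_eq_self_of_injective E.subtype_injective _).symm
  have hqs' : Cfsg.IsQuasisimple ↥(img E C (oup p E)) := hKbeq ▸ hqs
  obtain ⟨c1, c2, c3, c4, c5, c6, c7⟩ :=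
    core Q hQp hQ1 hQ U hU hU1 E hQE hEU hQn hred (img E C (oup p E)) rfl hqs'
  rw [← hEr'] at c1 c2 c3 c4 c5 c6 c7
  -- (4)
  have h4 : Cfsg.IsQuasisimple (↥Er ⧸ C.subgroupOf Er) := by
    let θ : ↥Er →* ↥E ⧸ C.subgroupOf E :=
      (QuotientGroup.mk' (C.subgroupOf E)).comp (Subgroup.inclusion c1)
    have hθ : ∀ x : ↥Er, θ x ∈ img E C (oup p E) := by
      intro x
      rw [← c3]
      exact mem_img x.2 (c1 x.2)
    let ψ : ↥Er →* ↥(img E C (oup p E)) := θ.codRestrict _ hθ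
    have hψ : Function.Surjective ψ := by
      rintro ⟨k, hk⟩
      obtain ⟨a, ha, haE, rfl⟩ := exists_of_mem_img (c3.symm ▸ hk)
      exact ⟨⟨a, ha⟩, Subtype.ext rfl⟩
    have hker : ψ.ker = C.subgroupOf Er := by
      ext x
      rw [MonoidHom.mem_ker, Subgroup.mem_subgroupOf]
      constructor
      · intro h
        have h1 : θ x = 1 := congrArg Subtype.val h
        have h2 : (QuotientGroup.mk' (C.subgroupOf E)) (Subgroup.inclusion c1 x) = 1 := h1
        rw [QuotientGroup.mk'_apply, QuotientGroup.eq_one_iff, Subgroup.mem_subgroupOf] at h2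
        exact h2
      · intro h
        apply Subtype.ext
        show (QuotientGroup.mk' (C.subgroupOf E)) (Subgroup.inclusion c1 x) = 1
        rw [QuotientGroup.mk'_apply, QuotientGroup.eq_one_iff, Subgroup.mem_subgroupOf]
        exact h
    let e : ↥Er ⧸ C.subgroupOf Er ≃* ↥(img E C (oup p E)) :=
      (QuotientGroup.quotientMulEquivOfEq hker.symm).trans
        (QuotientGroup.quotientKerEquivOfSurjective ψ hψ)
    exact Cfsg.Agent.Helper7.isQuasisimple_of_mulEquiv e.symm hqs'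
  refine ⟨?_, c4, ?_, h4, ?_, c7⟩
  · -- (1)
    have hErle : Er ≤ oup p E := by
      rw [hEr']
      exact oup_mono (weakClosure_le Q E)
    apply le_antisymm
    · apply sup_le _ le_sup_right
      intro x hx
      have hxE : x ∈ E := oup_le E hx
      have h1 : QuotientGroup.mk' (C.subgroupOf E) ⟨x, hxE⟩ ∈ img E C Er := by
        rw [c3]
        exact mem_img hx _
      obtain ⟨b, hb, hbc⟩ := exists_of_mk_mem_img hxE h1
      have e : x = b * (b⁻¹ * x) := by group
      rw [e]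
      refine Subgroup.mul_mem _ (Subgroup.mem_sup_left hb) (Subgroup.mem_sup_right ?_)
      exact Subgroup.mem_inf.mpr ⟨E.mul_mem (E.inv_mem (c1 hb)) hxE, hbc⟩
    · exact sup_le (le_sup_of_le_left hErle) le_sup_right
  · -- (3)
    show oup p Er = Er
    rw [hEr']
    exact oup_oup _
  · -- (5)
    haveI : Group.IsPerfect ↥Er := Subgroup.isPerfect_iff.mpr c4
    have hle : Cfsg.pCore p ↥Er ≤ (C.subgroupOf Er).comap (MonoidHom.id ↥Er) := by
      intro x hx
      rw [Subgroup.mem_comap, MonoidHom.id_apply, Subgroup.mem_subgroupOf]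
      apply c6
      exact ⟨x, hx, rfl⟩
    let ρ : ↥Er ⧸ Cfsg.pCore p ↥Er →* ↥Er ⧸ C.subgroupOf Er :=
      QuotientGroup.map (Cfsg.pCore p ↥Er) (C.subgroupOf Er) (MonoidHom.id ↥Er) hle
    have hρ : Function.Surjective ρ := by
      intro y
      obtain ⟨x, rfl⟩ := QuotientGroup.mk_surjective y
      exact ⟨QuotientGroup.mk x, rfl⟩
    have hkerρ : ρ.ker ≤ Subgroup.center (↥Er ⧸ Cfsg.pCore p ↥Er) := by
      intro z hz
      obtain ⟨x, rfl⟩ := QuotientGroup.mk_surjective z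
      rw [MonoidHom.mem_ker] at hz
      have hx : x ∈ C.subgroupOf Er := by
        have : (QuotientGroup.mk x : ↥Er ⧸ C.subgroupOf Er) = 1 := hz
        rwa [QuotientGroup.eq_one_iff] at this
      rw [Subgroup.mem_subgroupOf] at hx
      rw [Subgroup.mem_center_iff]
      intro g
      obtain ⟨y, rfl⟩ := QuotientGroup.mk_surjective g
      rw [← QuotientGroup.mk_mul, ← QuotientGroup.mk_mul, QuotientGroup.eq]
      have h1 : ⁅((x : G))⁻¹, ((y : G))⁻¹⁆ ∈ Cfsg.pCoreOf p Er := by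
        apply c5
        apply Subgroup.commutator_mem_commutator
        · exact Subgroup.mem_inf.mpr ⟨Er.inv_mem x.2, C.inv_mem hx⟩
        · exact Er.inv_mem y.2
      rw [mem_pCoreOf_iff] at h1
      obtain ⟨hmem, h2⟩ := h1
      have e : (y * x)⁻¹ * (x * y) = (⟨⁅((x : G))⁻¹, ((y : G))⁻¹⁆, hmem⟩ : ↥Er) := by
        apply Subtype.ext
        simp only [commutatorElement_def, Subgroup.coe_mul, Subgroup.coe_inv]
        group
      rw [e]
      exact h2
    have h5 := Cfsg.Agent.Helper19.simple_quotient_center_of_central_ext ρ hρ hkerρ h4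
    exact ⟨inferInstance, h5.1⟩

end Cfsg.Agent.S2860
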