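import Mathlib
import Cfsg.Statements.S2864
import Cfsg.Agent.S2845
import Cfsg.Agent.Lib.Helper14.QuasiAct
import Cfsg.Agent.Lib.Helper23.BurnsideFrattini
import Cfsg.Agent.Lib.Helper23.PGroup
import Cfsg.Agent.Lib.Helper10.OmegaLemma

set_option autoImplicit false
open Cfsg

namespace Cfsg.Agent.S2864

open Subgroup Cfsg.Agent.Helper14
open scoped commutatorElement

variable {G : Type*} [Group G]

/-- `p'`-elements acting trivially on `A / A'` centralize the `p`-group `A`. -/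
theorem mem_centralizer_of_commutator_le [Finite G] {p : ℕ} [Fact p.Prime] {A : Subgroup G}
    (hAp : IsPGroup p ↥A) {x : G} (hxA : x ∈ normalizer (A : Set G))
    (hx : (orderOf x).Coprime p) (hact : ∀ n : ℤ, ∀ r ∈ A, ⁅x ^ n, r⁆ ∈ ⁅A, A⁆) :
    x ∈ centralizer (A : Set G) := by
  have hΦ : ⁅A, A⁆ ≤ (frattini ↥A).map A.subtype := by
    rw [← Subgroup.map_subtype_commutator]
    exact Subgroup.map_mono (Cfsg.Agent.Helper23.commutator_le_frattini_pgroup p hAp)
  have hz : Subgroup.zpowers x ≤ normalizer (A : Set G) := by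
    rw [Subgroup.zpowers_le]
    exact hxA
  have h1 := Cfsg.Agent.Helper23.centralizes_of_frattini A hAp (Subgroup.zpowers x)
    (by rw [Nat.card_zpowers]; exact hx) inferInstance
    (hz.trans (Cfsg.Agent.Helper10.normalizer_le_normalizer_map_frattini A))
    (by
      intro a ha r hr
      obtain ⟨n, rfl⟩ := Subgroup.mem_zpowers_iff.mp ha
      have := hΦ (hact n r hr)
      rwa [commutatorElement_def] at this)
  rw [Subgroup.mem_centralizer_iff]
  intro r hr
  have := Subgroup.mem_centralizer_iff.mp (h1 hr) x (Subgroup.mem_zpowers x)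
  exact this.symm

/-- a group `D` with `[D, O^p(D)] ≤ O_p(O^p(D))` has all its `p`-subgroups in `O_p(D)` -/
theorem le_pCoreOf_of_commutator_oup_le [Finite G] {p : ℕ} [Fact p.Prime] {D Y : Subgroup G}
    (hYD : Y ≤ D) (hYp : IsPGroup p ↥Y)
    (hcomm : ⁅oup p D, D⁆ ≤ pCoreOf p (oup p D)) : Y ≤ pCoreOf p D := by
  obtain ⟨T⟩ : Nonempty (Sylow p ↥D) := Sylow.nonempty
  -- `O_p(O^p(D))` is a normal `p`-subgroup of `D`
  set P₀ := pCoreOf p (oup p D) with hP₀
  have hDP₀ : D ≤ normalizer (P₀ : Set G) :=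
    (le_normalizer_oup D).trans (normalizer_le_normalizer_pCoreOf p (oup p D))
  have hP₀D : P₀ ≤ D := (pCoreOf_le p _).trans (oup_le D)
  have hP₀n : (P₀.subgroupOf D).Normal :=
    (Subgroup.normal_subgroupOf_iff_le_normalizer hP₀D).mpr hDP₀
  have hP₀T : P₀.subgroupOf D ≤ (T : Subgroup ↥D) := by
    haveI := hP₀n
    have hpg : IsPGroup p ↥(P₀.subgroupOf D) := (pCoreOf_isPGroup p (oup p D)).comap_subtype
    exact hpg.le_sylow_of_normal T
  -- `T` is normal in `D`
  have hTn : (T : Subgroup ↥D).Normal := by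
    rw [← Subgroup.normalizer_eq_top_iff, eq_top_iff, ← Cfsg.Agent.Helper22.sylow_sup_pResidual_eq_top T]
    apply sup_le Subgroup.le_normalizer
    apply le_normalizer_of_conj_mem
    intro d hd t ht
    have h1 : ⁅(d : G), (t : G)⁆ ∈ P₀ := by
      apply hcomm
      apply Subgroup.commutator_mem_commutator _ t.2
      exact ⟨d, hd, rfl⟩
    have h2 : (⟨⁅(d : G), (t : G)⁆, hP₀D h1⟩ : ↥D) ∈ (T : Subgroup ↥D) :=
      hP₀T (Subgroup.mem_subgroupOf.mpr h1)
    have e : d * t * d⁻¹ = (⟨⁅(d : G), (t : G)⁆, hP₀D h1⟩ : ↥D) * t := by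
      apply Subtype.ext
      simp only [commutatorElement_def, Subgroup.coe_mul, Subgroup.coe_inv]
      group
    rw [e]
    exact Subgroup.mul_mem _ h2 ht
  -- `Y ≤ T`
  have hY' : IsPGroup p ↥(Y.subgroupOf D) := hYp.comap_subtype
  obtain ⟨T', hYT'⟩ := hY'.exists_le_sylow
  obtain ⟨g, hg⟩ := MulAction.exists_smul_eq ↥D T T'
  have hgT : g • T = T := Sylow.smul_eq_of_normal
  rw [hgT] at hg
  rw [← hg] at hYT'
  have hTle : (T : Subgroup ↥D) ≤ Cfsg.pCore p ↥D := le_pCore hTn T.isPGroup'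
  intro y hy
  rw [mem_pCoreOf_iff]
  exact ⟨hYD hy, hTle (hYT' (Subgroup.mem_subgroupOf.mpr hy))⟩

/-- Standing hypotheses: G a finite group, S a Sylow p-subgroup, Q a nontrivial large p-subgroup of G contained in S, M a subgroup containing S with the basic property (M ∈ 𝔐_G(S)); Y_M the largest p-reduced normal subgroup of M and M† = M·C_G(Y_M). Let I be a nontrivial normal p-subgroup of M and Y ≤ O_p(M†); let L be a subgroup of G containing Y and A a normal p-subgroup of L with I ≤ A ≤ M. If [Y, A] ≤ [I, A], then Y ≤ O_p(L). -/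
theorem result {G : Type*} [Group G] [Finite G] {p : ℕ} [Fact p.Prime] (S : Sylow p G) (Q : Subgroup G) (hQp : IsPGroup p ↥Q) (hQ1 : Q ≠ ⊥) (hQS : Q ≤ (S : Subgroup G)) (hQ : Cfsg.IsLarge Q) (M : Subgroup G) (hSM : (S : Subgroup G) ≤ M) (hM : Cfsg.IsInFrakM p M) (I : Subgroup G) (hI1 : I ≠ ⊥) (hIp : IsPGroup p ↥I) (hIM : I ≤ M ∧ M ≤ Subgroup.normalizer ((I : Subgroup G) : Set G)) (Y : Subgroup G) (hY : Y ≤ (Cfsg.pCoreOf p (M ⊔ Subgroup.centralizer (((Cfsg.largestPReducedOf p M) : Subgroup G) : Set G)))) (L : Subgroup G) (hYL : Y ≤ L) (A : Subgroup G) (hAp : IsPGroup p ↥A) (hAL : A ≤ L ∧ L ≤ Subgroup.normalizer ((A : Subgroup G) : Set G)) (hIA : I ≤ A) (hAM : A ≤ M) (hc : ⁅Y, A⁆ ≤ ⁅I, A⁆) : Y ≤ (Cfsg.pCoreOf p L) := by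
  set Md := M ⊔ Subgroup.centralizer (((Cfsg.largestPReducedOf p M) : Subgroup G) : Set G) with hMd
  set B := Cfsg.pCoreOf p Md with hB
  have hBp : IsPGroup p ↥B := pCoreOf_isPGroup p Md
  have hYp : IsPGroup p ↥Y := hBp.to_le hY
  -- (F1) `N(I) ≤ M†`
  have hNI : normalizer (I : Set G) ≤ Md := by
    have hmem : normalizer (I : Set G) ∈ Cfsg.charPSubgroups p G := by
      have hpar : Cfsg.IsParabolic p (normalizer (I : Set G)) := ⟨S, hSM.trans hIM.2⟩
      have hIO : I ≤ pCoreOf p (normalizer (I : Set G)) :=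
        le_pCoreOf Subgroup.le_normalizer le_rfl hIp
      have hne : Cfsg.pCore p ↥(normalizer (I : Set G)) ≠ ⊥ := by
        intro h
        apply hI1
        rw [eq_bot_iff]
        intro x hx
        have := hIO hx
        unfold Cfsg.pCoreOf at this
        rw [h, Subgroup.map_bot] at this
        exact this
      exact ⟨hne, (Cfsg.Agent.S2845.result Q hQp hQ1 hQ).2.1 _ hpar hne⟩
    obtain ⟨X, hNX, hXmax⟩ := Set.Finite.exists_le_maximal (Set.toFinite (Cfsg.charPSubgroups p G)) hmem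
    have hXm : X ∈ Cfsg.maxCharPSubgroups p G := by
      refine ⟨hXmax.prop, ?_⟩
      intro L' hL' hXL'
      exact le_antisymm (hXmax.le_of_ge hL' hXL') hXL'
    have hXeq := hM.2.2.1 X hXm (hIM.2.trans hNX)
    rw [hXeq] at hNX
    exact hNX
  have hMdB : Md ≤ normalizer (B : Set G) := le_normalizer_pCoreOf p Md
  -- the normal closure of `Y` in `L`
  set D := ⨆ l : ↥L, Y.map (MulAut.conj (l : G)).toMonoidHom with hD
  have hYD : Y ≤ D := by
    have h2 : Y.map (MulAut.conj (((1 : ↥L) : ↥L) : G)).toMonoidHom = Y := by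
      ext x
      rw [mem_map_conj_iff]
      simp
    exact h2.symm.le.trans (le_iSup (fun l : ↥L => Y.map (MulAut.conj (l : G)).toMonoidHom) 1)
  have hconjL : ∀ l : ↥L, Y.map (MulAut.conj (l : G)).toMonoidHom ≤ L := by
    intro l
    calc Y.map (MulAut.conj (l : G)).toMonoidHom ≤ L.map (MulAut.conj (l : G)).toMonoidHom :=
          Subgroup.map_mono hYL
      _ = L := map_conj_eq_self_of_mem l.2
  have hDL : D ≤ L := iSup_le hconjL
  have hLD : L ≤ normalizer (D : Set G) := by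
    apply le_normalizer_of_map_conj_le
    intro g hg
    rw [hD, Subgroup.map_iSup]
    apply iSup_le
    intro k
    rw [← conj_mul_map]
    exact le_iSup (fun l : ↥L => Y.map (MulAut.conj (l : G)).toMonoidHom) (⟨g, hg⟩ * k)
  -- `[D, A] ≤ [A, A]`
  have hLAA : L ≤ normalizer ((⁅A, A⁆ : Subgroup G) : Set G) :=
    (le_inf hAL.2 hAL.2).trans
      (Cfsg.Agent.Helper1.normalizer_inf_normalizer_le_normalizer_commutator A A)
  have hDcent : D ≤ centMod ⁅A, A⁆ (A : Set G) := by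
    apply iSup_le
    intro l y hy
    refine ⟨hLAA (hconjL l hy), ?_⟩
    intro a ha
    rw [mem_map_conj_iff] at hy
    have hlinv : (l : G)⁻¹ ∈ normalizer (A : Set G) := hAL.2 (L.inv_mem l.2)
    have ha' : (l : G)⁻¹ * a * (l : G)⁻¹⁻¹ ∈ A := (Subgroup.mem_normalizer_iff.mp hlinv a).mp ha
    have h1 : ⁅(l : G)⁻¹ * y * (l : G), (l : G)⁻¹ * a * (l : G)⁻¹⁻¹⁆ ∈ ⁅A, A⁆ :=
      (Subgroup.commutator_mono hIA le_rfl) (hc (Subgroup.commutator_mem_commutator hy ha'))
    have h2 := (Subgroup.mem_normalizer_iff.mp (hLAA l.2) _).mp h1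
    have e : (l : G) * ⁅(l : G)⁻¹ * y * (l : G), (l : G)⁻¹ * a * (l : G)⁻¹⁻¹⁆ * (l : G)⁻¹ = ⁅y, a⁆ := by
      simp only [commutatorElement_def]; group
    rwa [e] at h2
  -- `O^p(D)` centralizes `A`
  have hD₀A : oup p D ≤ centralizer (A : Set G) := by
    apply oup_le_of_coprime_mem
    intro x hx hxc
    apply mem_centralizer_of_commutator_le hAp (hAL.2 (hDL hx)) hxc
    intro n r hr
    exact (hDcent (D.zpow_mem hx n)).2 r hr
  have hD₀Md : oup p D ≤ Md := by
    refine hD₀A.trans (le_trans ?_ hNI)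
    exact (Subgroup.centralizer_le hIA).trans (Cfsg.Agent.Helper1.centralizer_le_normalizer _)
  have hLD₀ : L ≤ normalizer (oup p D : Set G) := hLD.trans (normalizer_le_normalizer_oup D)
  -- `[D, O^p(D)] ≤ O_p(O^p(D))`
  have hDD₀ : D ≤ centMod (pCoreOf p (oup p D)) (oup p D : Set G) := by
    apply iSup_le
    intro l y hy
    have hyL : y ∈ L := hconjL l hy
    have hyB : y ∈ B.map (MulAut.conj (l : G)).toMonoidHom := Subgroup.map_mono hY hy
    refine ⟨(hLD₀.trans (normalizer_le_normalizer_pCoreOf p (oup p D))) hyL, ?_⟩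
    intro d hd
    exact commutator_mem_pCoreOf_of_mem_map_conj hBp (hD₀Md.trans hMdB) (hLD₀ l.2) hyB (hLD₀ hyL) hd
  have hcomm : ⁅oup p D, D⁆ ≤ pCoreOf p (oup p D) := by
    rw [Subgroup.commutator_comm]
    exact commutator_le_of_le_centMod hDD₀
  have hYOD : Y ≤ pCoreOf p D := le_pCoreOf_of_commutator_oup_le hYD hYp hcomm
  refine hYOD.trans ?_
  exact le_pCoreOf ((pCoreOf_le p D).trans hDL) (hLD.trans (normalizer_le_normalizer_pCoreOf p D))
    (pCoreOf_isPGroup p D)

end Cfsg.Agent.S2864
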