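import Mathlib
import Cfsg.Statements.S2872
import Cfsg.Agent.Lib.Helper9.CyclicTransfer
import Cfsg.Agent.Lib.Helper9.ThompsonRepl
import Cfsg.Agent.Lib.Helper21.PGroupFrattini

set_option autoImplicit false
open Cfsg

namespace Cfsg.Agent.S2872

open MulAction Cfsg.Agent.Helper9

universe u

/-- Variant of `Cfsg.Agent.Helper9.odd_card_goodCosets` (same proof): the perfectness hypothesis is replaced by the
vanishing of homomorphisms into commutative `2`-groups on `y`. -/
theorem odd_card_goodCosets' {G : Type u} [Group G] [Finite G] (S T : Subgroup G) (hTS : T ≤ S)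
    (hTn : (T.subgroupOf S).Normal) (hcyc : IsCyclic (↥S ⧸ T.subgroupOf S))
    (hodd : Odd S.index) (y : G) (hy2 : y * y = 1) (hyS : y ∈ S) (hyT : y ∉ T)
    (hV : ∀ f : G →* ↥S ⧸ T.subgroupOf S, f y = 1) :
    Odd (Nat.card (goodCosets S T y)) := by
  classical
  letI : CommGroup (↥S ⧸ T.subgroupOf S) := IsCyclic.commGroup
  obtain ⟨ϕ, hϕdef⟩ : ∃ ϕ : ↥S →* ↥S ⧸ T.subgroupOf S, ϕ = QuotientGroup.mk' (T.subgroupOf S) :=
    ⟨_, rfl⟩
  have hVy : MonoidHom.transfer ϕ y = 1 := hV (MonoidHom.transfer ϕ)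
  let _ : Fintype (Quotient (orbitRel (Subgroup.zpowers y) (G ⧸ S))) := Fintype.ofFinite _
  have hformula := MonoidHom.transfer_eq_prod_quotient_orbitRel_zpowers_quot ϕ y
  have hsum := Subgroup.index_eq_sum_minimalPeriod S y
  have hϕ1 : ∀ s : S, ϕ s = 1 ↔ (s : G) ∈ T := fun s => by
    rw [hϕdef, QuotientGroup.mk'_apply, QuotientGroup.eq_one_iff, Subgroup.mem_subgroupOf]
  have hϕsq : ∀ s : S, (s : G) * (s : G) = 1 → (ϕ s) ^ 2 = 1 := by
    intro s hs2
    rw [← map_pow]
    have : s ^ 2 = 1 := Subtype.ext (by simp [pow_two, hs2])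
    rw [this, map_one]
  have ha₀1 : ϕ ⟨y, hyS⟩ ≠ 1 := by
    intro h
    rw [hϕ1] at h
    exact hyT h
  have ha₀o : orderOf (ϕ ⟨y, hyS⟩) = 2 := orderOf_eq_prime (hϕsq _ hy2) ha₀1
  have hϕinv : ∀ s : S, (s : G) * (s : G) = 1 → (s : G) ∉ T → ϕ s = ϕ ⟨y, hyS⟩ := by
    intro s hs2 hsT
    apply involution_unique_of_isCyclic _ ha₀o
    apply orderOf_eq_prime (hϕsq s hs2)
    rw [Ne, hϕ1]
    exact hsT
  have hper : ∀ c : G ⧸ S, Function.minimalPeriod (y • ·) c = 1 ∨
      Function.minimalPeriod (y • ·) c = 2 := by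
    intro c
    have hdvd : Function.minimalPeriod (y • ·) c ∣ 2 := by
      apply Function.IsPeriodicPt.minimalPeriod_dvd
      show (y • ·)^[2] c = c
      rw [smul_iterate, pow_two, hy2]
      exact one_smul _ _
    exact (Nat.dvd_prime Nat.prime_two).mp hdvd
  have hkey : ∀ q : Quotient (orbitRel (Subgroup.zpowers y) (G ⧸ S)),
      ∃ χ : ℕ, ϕ ⟨q.out.out⁻¹ * y ^ Function.minimalPeriod (y • ·) q.out * q.out.out,
            QuotientGroup.out_conj_pow_minimalPeriod_mem S y q.out⟩ = (ϕ ⟨y, hyS⟩) ^ χ ∧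
        (if q.out ∈ goodCosets S T y then 1 else 0) + 2 * (if q.out ∈ goodCosets S T y then 0 else 1)
          = Function.minimalPeriod (y • ·) q.out + χ := by
    intro q
    rcases hper q.out with h1 | h2
    · by_cases hT : q.out.out⁻¹ * y * q.out.out ∈ T
      · refine ⟨0, ?_, ?_⟩
        · rw [pow_zero, hϕ1]
          simp only [h1, pow_one]
          exact hT
        · have hgood : q.out ∈ goodCosets S T y := (mem_goodCosets_iff hTS hTn _).mpr hT
          rw [if_pos hgood, if_pos hgood, h1]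
      · refine ⟨1, ?_, ?_⟩
        · rw [pow_one]
          apply hϕinv
          · simp only [h1, pow_one]
            calc q.out.out⁻¹ * y * q.out.out * (q.out.out⁻¹ * y * q.out.out)
                = q.out.out⁻¹ * (y * y) * q.out.out := by group
              _ = 1 := by rw [hy2]; group
          · simp only [h1, pow_one]
            exact hT
        · have hgood : q.out ∉ goodCosets S T y := fun h =>
            hT ((mem_goodCosets_iff hTS hTn _).mp h)
          rw [if_neg hgood, if_neg hgood, h1]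
    · refine ⟨0, ?_, ?_⟩
      · rw [pow_zero, hϕ1]
        simp only [h2, pow_two, hy2, mul_one, inv_mul_cancel]
        exact T.one_mem
      · have hgood : q.out ∉ goodCosets S T y := by
          intro h
          have h3 := smul_eq_of_mem_goodCosets hTS h
          have h4 : Function.minimalPeriod (y • ·) q.out = 1 :=
            Function.minimalPeriod_eq_one_iff_isFixedPt.mpr h3
          omega
        rw [if_neg hgood, if_neg hgood, h2]
  choose χ hχ1 hχ2 using hkey
  have hprod : MonoidHom.transfer ϕ y = (ϕ ⟨y, hyS⟩) ^ (∑ q, χ q) := by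
    rw [hformula, ← Finset.prod_pow_eq_pow_sum]
    exact Finset.prod_congr rfl (fun q _ => hχ1 q)
  have hχeven : 2 ∣ ∑ q, χ q := by
    rw [← ha₀o]
    apply orderOf_dvd_of_pow_eq_one
    rw [← hprod, hVy]
  have hsumeq : (∑ q : Quotient (orbitRel (Subgroup.zpowers y) (G ⧸ S)),
        (if q.out ∈ goodCosets S T y then 1 else 0)) +
      2 * (∑ q : Quotient (orbitRel (Subgroup.zpowers y) (G ⧸ S)),
        (if q.out ∈ goodCosets S T y then 0 else 1)) = S.index + ∑ q, χ q := by
    rw [hsum, Finset.mul_sum, ← Finset.sum_add_distrib, ← Finset.sum_add_distrib]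
    exact Finset.sum_congr rfl (fun q _ => hχ2 q)
  have hfodd : Odd (∑ q : Quotient (orbitRel (Subgroup.zpowers y) (G ⧸ S)),
        (if q.out ∈ goodCosets S T y then 1 else 0)) := by
    obtain ⟨k, hk⟩ := hodd
    obtain ⟨l, hl⟩ := hχeven
    rw [hk, hl] at hsumeq
    rw [Nat.odd_iff]
    omega
  have hkeyout : ∀ c : G ⧸ S, c ∈ goodCosets S T y →
      (Quotient.mk (orbitRel (Subgroup.zpowers y) (G ⧸ S)) c).out = c := by
    intro c hc
    have hfix : y • c = c := smul_eq_of_mem_goodCosets hTS hc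
    have hrel : (Quotient.mk (orbitRel (Subgroup.zpowers y) (G ⧸ S)) c).out ∈
        orbit (Subgroup.zpowers y) c := Quotient.mk_out (s := orbitRel (Subgroup.zpowers y) (G ⧸ S)) c
    obtain ⟨⟨k, hk⟩, hkc⟩ := hrel
    obtain ⟨n, rfl⟩ := Subgroup.mem_zpowers_iff.mp hk
    rw [← hkc]
    show y ^ n • c = c
    have hstab : y ∈ stabilizer G c := hfix
    exact (stabilizer G c).zpow_mem hstab n
  have hcard : Nat.card (goodCosets S T y) =
      ∑ q : Quotient (orbitRel (Subgroup.zpowers y) (G ⧸ S)),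
        (if q.out ∈ goodCosets S T y then 1 else 0) := by
    rw [← Finset.card_filter, ← Fintype.card_subtype, ← Nat.card_eq_fintype_card]
    apply Nat.card_congr
    exact
      { toFun := fun c => ⟨Quotient.mk _ c.1, by rw [hkeyout c.1 c.2]; exact c.2⟩
        invFun := fun q => ⟨q.1.out, q.2⟩
        left_inv := fun c => Subtype.ext (hkeyout c.1 c.2)
        right_inv := fun q => Subtype.ext (Quotient.out_eq q.1) }
  rw [hcard]
  exact hfodd

/-- If `O^2(G) = G`, every homomorphism into a `2`-group is trivial. -/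
theorem hom_trivial_of_pResidual_eq_top {G : Type*} [Group G] [Finite G] (h : Cfsg.pResidual 2 G = ⊤)
    {A : Type*} [Group A] (hA : IsPGroup 2 A) (f : G →* A) (g : G) : f g = 1 := by
  have hle : Cfsg.pResidual 2 G ≤ f.ker := by
    unfold Cfsg.pResidual
    rw [Subgroup.closure_le]
    intro x hx
    rw [Set.mem_setOf_eq] at hx
    rw [SetLike.mem_coe, MonoidHom.mem_ker]
    obtain ⟨k, hk⟩ := hA (f x)
    have h1 : orderOf (f x) ∣ 2 ^ k := orderOf_dvd_of_pow_eq_one hk
    have h2 : orderOf (f x) ∣ orderOf x := orderOf_map_dvd f x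
    have h3 : (orderOf x).Coprime (2 ^ k) := Nat.Coprime.pow_right k hx
    have h4 : orderOf (f x) ∣ 1 := by
      rw [← h3]
      exact Nat.dvd_gcd h2 h1
    exact orderOf_eq_one_iff.mp (Nat.dvd_one.mp h4)
  have : g ∈ f.ker := hle (h ▸ Subgroup.mem_top g)
  exact MonoidHom.mem_ker.mp this

theorem result {G : Type*} [Group G] [Finite G] (S : Sylow 2 G) : Cfsg.pResidual 2 G ≠ ⊤ ∨ Cfsg.omegaOne 2 ((S : Subgroup G) ⊓ Subgroup.centralizer ((S : Subgroup G) : Set G)) ≤ (frattini ↥(S : Subgroup G)).map (S : Subgroup G).subtype ∨ ∃ g ∈ Subgroup.normalizer ((S : Subgroup G) : Set G), ∃ z ∈ Cfsg.omegaOne 2 ((S : Subgroup G) ⊓ Subgroup.centralizer ((S : Subgroup G) : Set G)), g * z * g⁻¹ ≠ z := by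
  haveI : Fact (Nat.Prime 2) := ⟨Nat.prime_two⟩
  by_contra hcon
  push_neg at hcon
  obtain ⟨hres, hnle, hcent⟩ := hcon
  -- an element of `Ω₁(Z(S))` outside the Frattini subgroup
  have hex : ∃ z : G, z ∈ (S : Subgroup G) ∧ z ∈ Subgroup.centralizer ((S : Subgroup G) : Set G) ∧ z ^ 2 = 1 ∧
      z ∉ (frattini ↥(S : Subgroup G)).map (S : Subgroup G).subtype := by
    by_contra hno
    push_neg at hno
    apply hnle
    unfold Cfsg.omegaOne
    rw [Subgroup.closure_le]
    intro x hx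
    exact hno x hx.1.1 hx.1.2 hx.2
  obtain ⟨z, hzS, hzC, hz2, hzF⟩ := hex
  have hzΩ : z ∈ Cfsg.omegaOne 2 ((S : Subgroup G) ⊓ Subgroup.centralizer ((S : Subgroup G) : Set G)) :=
    Subgroup.subset_closure ⟨⟨hzS, hzC⟩, hz2⟩
  have hzF' : (⟨z, hzS⟩ : ↥(S : Subgroup G)) ∉ frattini ↥(S : Subgroup G) := by
    intro h
    exact hzF ⟨⟨z, hzS⟩, h, rfl⟩
  obtain ⟨M, hM, hzM⟩ : ∃ M : Subgroup ↥(S : Subgroup G), IsCoatom M ∧ (⟨z, hzS⟩ : ↥(S : Subgroup G)) ∉ M := by
    by_contra hno
    push_neg at hno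
    apply hzF'
    unfold frattini Order.radical
    simp only [Subgroup.mem_iInf]
    intro M hM
    exact hno M hM
  have hSp : IsPGroup 2 ↥(S : Subgroup G) := S.isPGroup'
  have hMn : M.Normal := Cfsg.Agent.Helper21.coatom_normal_of_isPGroup hSp M hM
  have hMi : M.index = 2 := Cfsg.Agent.Helper21.coatom_index_of_isPGroup hSp M hM
  set T := M.map (S : Subgroup G).subtype with hT
  have hTS : T ≤ (S : Subgroup G) := Subgroup.map_subtype_le M
  have hTM : T.subgroupOf (S : Subgroup G) = M :=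
    Subgroup.comap_map_eq_self_of_injective (S : Subgroup G).subtype_injective M
  have hTn : (T.subgroupOf (S : Subgroup G)).Normal := by rw [hTM]; exact hMn
  have hcyc : IsCyclic (↥(S : Subgroup G) ⧸ T.subgroupOf (S : Subgroup G)) := by
    have hc : Nat.card (↥(S : Subgroup G) ⧸ T.subgroupOf (S : Subgroup G)) = 2 := by
      rw [hTM]; exact hMi
    haveI : Fact (Nat.Prime 2) := ⟨Nat.prime_two⟩
    exact isCyclic_of_prime_card hc
  have hodd : Odd (S : Subgroup G).index := by
    rw [← Nat.not_even_iff_odd, even_iff_two_dvd]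
    exact S.not_dvd_index
  have hzT : z ∉ T := by
    rintro ⟨m, hm, hmz⟩
    apply hzM
    have : m = ⟨z, hzS⟩ := Subtype.ext hmz
    rw [← this]
    exact hm
  have hz2' : z * z = 1 := by rw [← pow_two]; exact hz2
  have hc2 : Nat.card (↥(S : Subgroup G) ⧸ T.subgroupOf (S : Subgroup G)) = 2 ^ 1 := by
    rw [pow_one, hTM]; exact hMi
  have hcard := odd_card_goodCosets' (S : Subgroup G) T hTS hTn hcyc hodd z hz2' hzS hzT (by
    intro f
    exact hom_trivial_of_pResidual_eq_top hres (IsPGroup.of_card hc2) f z)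
  -- `S` acts on the good cosets
  let sub : SubMulAction ↥(S : Subgroup G) (G ⧸ (S : Subgroup G)) :=
    { carrier := goodCosets (S : Subgroup G) T z
      smul_mem' := by
        rintro s c ⟨g, rfl, hg⟩
        refine ⟨(s : G) * g, rfl, ?_⟩
        have hcomm : (s : G) * z = z * (s : G) := Subgroup.mem_centralizer_iff.mp hzC s s.2
        have e : ((s : G) * g)⁻¹ * z * ((s : G) * g) = g⁻¹ * z * g := by
          calc ((s : G) * g)⁻¹ * z * ((s : G) * g) = g⁻¹ * ((s : G)⁻¹ * (z * (s : G))) * g := by group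
            _ = g⁻¹ * z * g := by rw [← hcomm]; group
        rw [e]; exact hg }
  have hcard' : ¬ 2 ∣ Nat.card ↥sub := by
    have : Nat.card ↥sub = Nat.card (goodCosets (S : Subgroup G) T z) := rfl
    rw [this]
    intro h2
    exact (Nat.not_even_iff_odd.mpr hcard) (even_iff_two_dvd.mpr h2)
  obtain ⟨c, hc⟩ := hSp.nonempty_fixed_point_of_prime_not_dvd_card ↥sub hcard'
  obtain ⟨g, hgc, hg⟩ := c.2
  -- `g⁻¹` normalizes `S`
  have hgN : g⁻¹ ∈ Subgroup.normalizer ((S : Subgroup G) : Set G) := by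
    apply Cfsg.Agent.Helper9.mem_normalizer_of_conj_mem
    intro a ha
    have h1 : (⟨a, ha⟩ : ↥(S : Subgroup G)) • c = c := hc ⟨a, ha⟩
    have h2 : ((⟨a, ha⟩ : ↥(S : Subgroup G)) • c : ↥sub).1 = c.1 := congrArg Subtype.val h1
    have h3 : ((a * g : G) : G ⧸ (S : Subgroup G)) = (g : G ⧸ (S : Subgroup G)) := by
      rw [hgc]
      rw [← h2]
      show _ = a • (c.1 : G ⧸ (S : Subgroup G))
      rw [← hgc]
      rfl
    have h4 := QuotientGroup.eq.mp h3
    have e : g⁻¹ * a * g⁻¹⁻¹ = ((a * g)⁻¹ * g)⁻¹ := by group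
    rw [e]
    exact Subgroup.inv_mem _ h4
  have h5 := hcent g⁻¹ hgN z hzΩ
  rw [inv_inv] at h5
  rw [h5] at hg
  exact hzT hg

end Cfsg.Agent.S2872
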