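import Mathlib
import Cfsg.Statements.S2873
import Cfsg.Agent.Lib.Helper28.DihedralCore
import Cfsg.Agent.Lib.Helper14.Basic

set_option autoImplicit false
open Cfsg

namespace Cfsg.Agent.S2873

open Cfsg.Agent.Helper14 Cfsg.Agent.Helper28

/-- Let G be a finite group and r an odd prime such that G ⧸ O₂(G) is dihedral of order 2r, and let R be a Sylow r-subgroup of G with C_{O₂(G)}(R) = 1. Then N_G(R) is dihedral of order 2r; for any involution a of N_G(R), every involution of G outside O₂(G) is conjugate to a; and |C_{O₂(G)}(a)|² = |O₂(G)|. -/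
theorem result {G : Type*} [Group G] [Finite G] {r : ℕ} [Fact r.Prime] (hr : r ≠ 2) [hN : (Cfsg.pCore 2 G).Normal] (hquot : Nonempty (G ⧸ Cfsg.pCore 2 G ≃* DihedralGroup r)) (R : Sylow r G) (hC : Cfsg.pCore 2 G ⊓ Subgroup.centralizer ((R : Subgroup G) : Set G) = ⊥) : Nonempty (↥(Subgroup.normalizer ((R : Subgroup G) : Set G)) ≃* DihedralGroup r) ∧ ∀ a : G, a ∈ Subgroup.normalizer ((R : Subgroup G) : Set G) → orderOf a = 2 → (∀ b : G, orderOf b = 2 → b ∉ Cfsg.pCore 2 G → ∃ g : G, g * a * g⁻¹ = b) ∧ Nat.card ↥(Cfsg.pCore 2 G ⊓ Subgroup.centralizer ({a} : Set G)) ^ 2 = Nat.card ↥(Cfsg.pCore 2 G) := by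
  obtain ⟨e⟩ := hquot
  set V := Cfsg.pCore 2 G with hV
  set π : G →* DihedralGroup r := e.toMonoidHom.comp (QuotientGroup.mk' V) with hπ
  have hcore : DihCore V π R := by
    refine ⟨hr, hN, pCore_isPGroup 2 G, ?_, ?_, hC⟩
    · intro z
      obtain ⟨q, hq⟩ := e.surjective z
      obtain ⟨g, rfl⟩ := QuotientGroup.mk'_surjective V q
      exact ⟨g, hq⟩
    · ext g
      rw [MonoidHom.mem_ker, hπ, MonoidHom.comp_apply]
      constructor
      · intro h1
        have h2 : (QuotientGroup.mk' V) g = 1 := by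
          apply e.injective
          rw [map_one]
          exact h1
        rwa [QuotientGroup.mk'_apply, QuotientGroup.eq_one_iff] at h2
      · intro h1
        have h2 : (QuotientGroup.mk' V) g = 1 := by
          rw [QuotientGroup.mk'_apply, QuotientGroup.eq_one_iff]; exact h1
        rw [h2]
        exact map_one _
  refine ⟨hcore.nonempty_equiv, ?_⟩
  intro a haD ha2
  have haa : a * a = 1 := by
    rw [← pow_two, ← ha2, pow_orderOf_eq_one]
  have ha1 : a ≠ 1 := by
    intro h1
    rw [h1, orderOf_one] at ha2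
    omega
  refine ⟨?_, hcore.card_sq haD haa ha1⟩
  intro b hb2 hbV
  have hbb : b * b = 1 := by
    rw [← pow_two, ← hb2, pow_orderOf_eq_one]
  exact hcore.conj_of_involution haD haa ha1 hbb hbV

end Cfsg.Agent.S2873
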