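import Mathlib
import Cfsg.Statements.S2874

set_option autoImplicit false
universe u
open Cfsg

namespace Cfsg.Agent.S2874

open Matrix Equiv

/-- reduction mod 2 -/
noncomputable def rho (k : ℕ) (hk : 1 ≤ k) : ZMod (2 ^ k) →+* ZMod 2 :=
  ZMod.castHom (dvd_pow_self 2 (by omega : k ≠ 0)) (ZMod 2)

theorem two_pow_eq_zero (k : ℕ) : (2 : ZMod (2 ^ k)) ^ k = 0 := by
  have := ZMod.natCast_self (2 ^ k)
  push_cast at this
  exact this

theorem exists_two_mul (k : ℕ) (hk : 1 ≤ k) (x : ZMod (2 ^ k)) (hx : rho k hk x = 0) :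
    ∃ y, x = 2 * y := by
  have : NeZero (2 ^ k) := ⟨by positivity⟩
  have h1 : ((x.val : ℕ) : ZMod 2) = 0 := by
    have : rho k hk x = ((x.val : ℕ) : ZMod 2) := by
      unfold rho
      rw [ZMod.castHom_apply, ZMod.natCast_val]
    rw [← this, hx]
  rw [ZMod.natCast_eq_zero_iff] at h1
  obtain ⟨m, hm⟩ := h1
  refine ⟨(m : ZMod (2 ^ k)), ?_⟩
  have : x = ((x.val : ℕ) : ZMod (2 ^ k)) := (ZMod.natCast_zmod_val x).symm
  rw [this, hm]
  push_cast
  rfl

theorem zmod2_cases (x : ZMod 2) : x = 0 ∨ x = 1 := by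
  revert x
  decide

theorem isUnit_of_rho (k : ℕ) (hk : 1 ≤ k) (x : ZMod (2 ^ k)) (hx : rho k hk x = 1) :
    IsUnit x := by
  have h0 : rho k hk (x - 1) = 0 := by rw [map_sub, hx, map_one, sub_self]
  obtain ⟨y, hy⟩ := exists_two_mul k hk _ h0
  have hx' : x = 1 + 2 * y := by rw [← hy]; ring
  rw [hx']
  apply IsNilpotent.isUnit_one_add
  refine ⟨k, ?_⟩
  rw [mul_pow, two_pow_eq_zero, zero_mul]

theorem two_torsion (k : ℕ) (hk : 1 ≤ k) (x : ZMod (2 ^ k)) (hx : 2 * x = 0) :
    x = 0 ∨ x = 2 ^ (k - 1) := by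
  have : NeZero (2 ^ k) := ⟨by positivity⟩
  have hxv : x = ((x.val : ℕ) : ZMod (2 ^ k)) := (ZMod.natCast_zmod_val x).symm
  have h1 : ((2 * x.val : ℕ) : ZMod (2 ^ k)) = 0 := by
    push_cast
    rw [← hxv]
    exact hx
  rw [ZMod.natCast_eq_zero_iff] at h1
  obtain ⟨m, hm⟩ := h1
  have hlt0 : x.val < 2 ^ k := ZMod.val_lt x
  have hk' : 2 ^ k = 2 * 2 ^ (k - 1) := by
    rw [← pow_succ']
    congr 1
    omega
  have hlt : x.val < 2 * 2 ^ (k - 1) := by rw [← hk']; exact hlt0
  have hm' : x.val = 2 ^ (k - 1) * m := by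
    have : 2 * x.val = 2 * (2 ^ (k - 1) * m) := by rw [hm, hk']; ring
    omega
  have hm2 : m < 2 := by
    by_contra hcon
    push Not at hcon
    have : 2 ^ (k - 1) * 2 ≤ 2 ^ (k - 1) * m := Nat.mul_le_mul_left _ hcon
    omega
  interval_cases m
  · left
    rw [hxv, hm']
    simp
  · right
    rw [hxv, hm']
    simp

section Ring
variable {R : Type*} [CommRing R]

def om : Matrix (Fin 2) (Fin 2) R := !![0, -1; 1, -1]
def omInv : Matrix (Fin 2) (Fin 2) R := !![-1, 1; -1, 0]

theorem om_mul_omInv : (om : Matrix (Fin 2) (Fin 2) R) * omInv = 1 := by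
  ext i j
  fin_cases i <;> fin_cases j <;> simp [om, omInv, Matrix.mul_apply, Fin.sum_univ_two]

theorem omInv_mul_om : (omInv : Matrix (Fin 2) (Fin 2) R) * om = 1 := by
  ext i j
  fin_cases i <;> fin_cases j <;> simp [om, omInv, Matrix.mul_apply, Fin.sum_univ_two]

theorem stepB (a : Matrix (Fin 2) (Fin 2) R) (h1 : a * a = 1)
    (h2 : a * (om * a * omInv) = (om * a * omInv) * a)
    (h3 : a * (om * a * omInv) * (omInv * a * om) = 1) :
    a 1 1 = a 0 0 ∧ 2 * a 0 1 = 0 ∧ 2 * a 1 0 = 0 ∧ 2 * (a 0 0 - 1) = 0 ∧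
      a 0 0 - 1 = a 0 1 + a 1 0 := by
  have e1 := fun i j => congrFun (congrFun h1 i) j
  have e2 := fun i j => congrFun (congrFun h2 i) j
  have e3 := fun i j => congrFun (congrFun h3 i) j
  have e100 := e1 0 0
  have e101 := e1 0 1
  have e110 := e1 1 0
  have e111 := e1 1 1
  have e200 := e2 0 0
  have e201 := e2 0 1
  have e210 := e2 1 0
  have e211 := e2 1 1
  have e300 := e3 0 0
  have e301 := e3 0 1
  have e310 := e3 1 0
  have e311 := e3 1 1
  simp only [om, omInv, Matrix.mul_apply, Fin.sum_univ_two, Matrix.of_apply, Matrix.cons_val',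
    Matrix.cons_val_zero, Matrix.cons_val_one, Matrix.one_apply_eq, Matrix.one_apply_ne,
    Matrix.cons_val_fin_one] at e100 e101 e110 e111 e200 e201 e210 e211 e300 e301 e310 e311
  clear e1 e2 e3 h1 h2 h3
  generalize a 0 0 = p at *
  generalize a 0 1 = q at *
  generalize a 1 0 = r at *
  generalize a 1 1 = s at *
  simp at e100 e101 e110 e111 e200 e201 e210 e211 e300 e301 e310 e311
  have hr : 2 * r = 0 := by grind
  have hq : 2 * q = 0 := by grind
  have hp : p + 91 * q - 65 * r - 1 = 0 := by grind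
  have hs : 33 * q + 45 * r + s - 1 = 0 := by grind
  refine ⟨?_, hq, hr, ?_, ?_⟩
  · linear_combination hs - hp + 29 * hq - 55 * hr
  · linear_combination 2 * hp - 91 * hq + 65 * hr
  · linear_combination hp - 46 * hq + 32 * hr

end Ring

theorem A1 : ∀ m : Matrix (Fin 2) (Fin 2) (ZMod 2), m * m * m = 1 →
    m = 1 ∨ (m 1 0 = 1 ∧ (m 0 0 - 1) * (m 1 1 - 1) - m 0 1 * m 1 0 = 1) := by
  decide

theorem A2 {S : Type*} [Ring S] (X : S) (k : ℕ) (h2 : (2 : S) ^ k = 0)
    (h : (1 + 2 * X) * (1 + 2 * X) * (1 + 2 * X) = 1) : 2 * X = 0 := by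
  have hcomm : Commute (2 : S) X := Commute.ofNat_left 2 X
  have h2X : X * 2 = 2 * X := hcomm.eq.symm
  have key : (2 * X) * (1 + 2 * (2 * X * X + 3 * X + 1)) =
      (1 + 2 * X) * (1 + 2 * X) * (1 + 2 * X) - 1 := by
    noncomm_ring
  rw [h, sub_self] at key
  have hnil : IsNilpotent (2 * (2 * X * X + 3 * X + 1)) := by
    refine ⟨k, ?_⟩
    rw [(Commute.ofNat_left 2 _).mul_pow, h2, zero_mul]
  exact (IsUnit.mul_left_eq_zero hnil.isUnit_one_add).mp key

noncomputable def omU {R : Type*} [CommRing R] : GL (Fin 2) R :=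
  ⟨om, omInv, om_mul_omInv, omInv_mul_om⟩

theorem two_mat_pow (k : ℕ) : (2 : Matrix (Fin 2) (Fin 2) (ZMod (2 ^ k))) ^ k = 0 := by
  have h : ((2 ^ k : ℕ) : Matrix (Fin 2) (Fin 2) (ZMod (2 ^ k))) = 0 := CharP.cast_eq_zero _ _
  push_cast at h
  exact h

theorem stepA (k : ℕ) (hk : 1 ≤ k) (c : GL (Fin 2) (ZMod (2 ^ k))) (hc3 : c * c * c = 1)
    (hc1 : c ≠ 1) : ∃ P : GL (Fin 2) (ZMod (2 ^ k)), c * P = P * omU := by
  set C : Matrix (Fin 2) (Fin 2) (ZMod (2 ^ k)) := (c : Matrix (Fin 2) (Fin 2) (ZMod (2 ^ k))) with hC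
  have hC3 : C * C * C = 1 := by
    have := congrArg Units.val hc3
    simpa using this
  have hC1 : C ≠ 1 := fun h => hc1 (Units.ext h)
  have hm3 : ((rho k hk).mapMatrix C) * ((rho k hk).mapMatrix C) * ((rho k hk).mapMatrix C) = 1 := by
    rw [← map_mul, ← map_mul, hC3, map_one]
  rcases A1 _ hm3 with h | ⟨h10, hdet⟩
  · exfalso
    apply hC1
    have hent : ∀ i j, ∃ y, C i j - (1 : Matrix (Fin 2) (Fin 2) (ZMod (2 ^ k))) i j = 2 * y := by
      intro i j
      apply exists_two_mul k hk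
      have := congrFun (congrFun h i) j
      rw [RingHom.mapMatrix_apply, Matrix.map_apply] at this
      rw [map_sub, this]
      by_cases hij : i = j
      · subst hij; simp
      · simp [hij]
    choose X hX using hent
    have hCX : C = 1 + 2 * Matrix.of X := by
      ext i j
      have := hX i j
      rw [two_mul, Matrix.add_apply, Matrix.add_apply, Matrix.of_apply]
      linear_combination this
    have h0 := A2 (Matrix.of X) k (two_mat_pow k) (by rw [← hCX]; exact hC3)
    rw [hCX, h0, add_zero]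
  · have hu10 : IsUnit (C 1 0) :=
      isUnit_of_rho k hk _ (by simpa [RingHom.mapMatrix_apply] using h10)
    have hudet : IsUnit ((C 0 0 - 1) * (C 1 1 - 1) - C 0 1 * C 1 0) :=
      isUnit_of_rho k hk _ (by simpa [RingHom.mapMatrix_apply, map_sub, map_mul] using hdet)
    have hCm1 : IsUnit (C - 1) := by
      rw [Matrix.isUnit_iff_isUnit_det, Matrix.det_fin_two]
      simpa using hudet
    have hpoly : C * C + C + 1 = 0 := by
      have h1 : (C - 1) * (C * C + C + 1) = 0 := by
        have h2 : (C - 1) * (C * C + C + 1) = C * C * C - 1 := by noncomm_ring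
        rw [h2, hC3, sub_self]
      exact (IsUnit.mul_right_eq_zero hCm1).mp h1
    have hPdet : IsUnit (!![1, C 0 0; 0, C 1 0] : Matrix (Fin 2) (Fin 2) (ZMod (2 ^ k))).det := by
      rw [Matrix.det_fin_two]
      simpa using hu10
    refine ⟨Matrix.GeneralLinearGroup.mk'' _ hPdet, ?_⟩
    apply Units.ext
    have e00 := congrFun (congrFun hpoly 0) 0
    have e10 := congrFun (congrFun hpoly 1) 0
    simp only [Matrix.add_apply, Matrix.mul_apply, Fin.sum_univ_two, Matrix.one_apply_eq,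
      Matrix.zero_apply] at e00 e10
    have e10' : C 1 0 * C 0 0 + C 1 1 * C 1 0 + C 1 0 = 0 := by simpa using e10
    rw [Units.val_mul, Units.val_mul]
    show C * !![1, C 0 0; 0, C 1 0] = !![1, C 0 0; 0, C 1 0] * om
    ext i j
    fin_cases i <;> fin_cases j
    · simp [om, Matrix.mul_apply, Fin.sum_univ_two]
    · simp [om, Matrix.mul_apply, Fin.sum_univ_two]
      linear_combination e00
    · simp [om, Matrix.mul_apply, Fin.sum_univ_two]
    · simp [om, Matrix.mul_apply, Fin.sum_univ_two]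
      linear_combination e10'

def pa : Perm (Fin 4) := swap 0 1 * swap 2 3
def pc : Perm (Fin 4) := swap 0 1 * swap 1 2

theorem pa_mem : pa ∈ alternatingGroup (Fin 4) := by
  rw [Equiv.Perm.mem_alternatingGroup]
  decide

theorem pc_mem : pc ∈ alternatingGroup (Fin 4) := by
  rw [Equiv.Perm.mem_alternatingGroup]
  decide

theorem facts_perm : pa ≠ 1 ∧ pa * pa = 1 ∧ pc * pc * pc = 1 ∧ pc ≠ 1 ∧
    pa * (pc * pa * pc⁻¹) = (pc * pa * pc⁻¹) * pa ∧
    pa * (pc * pa * pc⁻¹) * (pc⁻¹ * pa * pc) = 1 ∧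
    ∀ x : Perm (Fin 4), Perm.sign x = 1 → ∃ i j l : Fin 3, x = pc ^ (i : ℕ) * pa ^ (j : ℕ) * pc ^ (l : ℕ) := by
  decide



theorem exists_gens {G : Type*} [Group G] (H : Subgroup G)
    (e : H ≃* alternatingGroup (Fin 4)) :
    ∃ a c : G, a ≠ 1 ∧ a * a = 1 ∧ c * c * c = 1 ∧ c ≠ 1 ∧
      a * (c * a * c⁻¹) = (c * a * c⁻¹) * a ∧
      a * (c * a * c⁻¹) * (c⁻¹ * a * c) = 1 ∧ H = Subgroup.closure {a, c} := by
  obtain ⟨f1, f2, f3, f4, f5, f6, f7⟩ := facts_perm
  let A : alternatingGroup (Fin 4) := ⟨pa, pa_mem⟩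
  let C : alternatingGroup (Fin 4) := ⟨pc, pc_mem⟩
  let ψ : alternatingGroup (Fin 4) →* G := H.subtype.comp e.symm.toMonoidHom
  have hψ : Function.Injective ψ := by
    intro x y hxy
    have : (e.symm x : G) = (e.symm y : G) := hxy
    exact e.symm.injective (Subtype.ext this)
  have hψH : ∀ x, ψ x ∈ H := fun x => (e.symm x).2
  have hA1 : A ≠ 1 := fun h => f1 (congrArg Subtype.val h)
  have hAA : A * A = 1 := Subtype.ext f2
  have hC3 : C * C * C = 1 := Subtype.ext f3
  have hC1 : C ≠ 1 := fun h => f4 (congrArg Subtype.val h)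
  have hcomm : A * (C * A * C⁻¹) = (C * A * C⁻¹) * A := Subtype.ext f5
  have hprod : A * (C * A * C⁻¹) * (C⁻¹ * A * C) = 1 := Subtype.ext f6
  refine ⟨ψ A, ψ C, ?_, ?_, ?_, ?_, ?_, ?_, ?_⟩
  · intro h
    exact hA1 (hψ (by rw [h, map_one]))
  · rw [← map_mul, hAA, map_one]
  · rw [← map_mul, ← map_mul, hC3, map_one]
  · intro h
    exact hC1 (hψ (by rw [h, map_one]))
  · have := congrArg ψ hcomm
    simpa only [map_mul, map_inv] using this
  · have := congrArg ψ hprod
    simpa only [map_mul, map_inv, map_one] using this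
  · apply le_antisymm
    · intro x hx
      obtain ⟨i, j, l, hijl⟩ := f7 (e ⟨x, hx⟩).1 (Equiv.Perm.mem_alternatingGroup.mp (e ⟨x, hx⟩).2)
      have hy : e ⟨x, hx⟩ = C ^ (i : ℕ) * A ^ (j : ℕ) * C ^ (l : ℕ) := Subtype.ext hijl
      have hx' : x = ψ (e ⟨x, hx⟩) := by
        show x = ((e.symm (e ⟨x, hx⟩) : H) : G)
        rw [MulEquiv.symm_apply_apply]
      rw [hx', hy, map_mul, map_mul, map_pow, map_pow, map_pow]
      have ha : ψ A ∈ Subgroup.closure {ψ A, ψ C} := Subgroup.subset_closure (by simp)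
      have hc : ψ C ∈ Subgroup.closure {ψ A, ψ C} := Subgroup.subset_closure (by simp)
      exact mul_mem (mul_mem (pow_mem hc _) (pow_mem ha _)) (pow_mem hc _)
    · rw [Subgroup.closure_le]
      rintro x (rfl | rfl)
      · exact hψH _
      · exact hψH _

section Final

variable (k : ℕ)

/-- `2^(k-1)` -/
def hh : ZMod (2 ^ k) := 2 ^ (k - 1)

theorem two_mul_hh (hk : 2 ≤ k) : 2 * hh k = 0 := by
  unfold hh
  rw [← pow_succ']
  have : k - 1 + 1 = k := by omega
  rw [this]
  exact two_pow_eq_zero k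

theorem hh_mul_hh (hk : 2 ≤ k) : hh k * hh k = 0 := by
  unfold hh
  rw [← pow_add]
  have : k - 1 + (k - 1) = k + (k - 2) := by omega
  rw [this, pow_add, two_pow_eq_zero, zero_mul]

/-- the matrix of `w1` -/
def W : Matrix (Fin 2) (Fin 2) (ZMod (2 ^ k)) := !![1 + hh k, hh k; 0, 1 + hh k]

theorem W_mul_W (hk : 2 ≤ k) : W k * W k = 1 := by
  have h1 := two_mul_hh k hk
  have h2 := hh_mul_hh k hk
  ext i j
  fin_cases i <;> fin_cases j
  · simp [W, Matrix.mul_apply, Fin.sum_univ_two]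
    linear_combination h1 + h2
  · simp [W, Matrix.mul_apply, Fin.sum_univ_two]
    linear_combination h1 + 2 * h2
  · simp [W, Matrix.mul_apply, Fin.sum_univ_two]
  · simp [W, Matrix.mul_apply, Fin.sum_univ_two]
    linear_combination h1 + h2

noncomputable def w1 (hk : 2 ≤ k) : GL (Fin 2) (ZMod (2 ^ k)) :=
  ⟨W k, W k, W_mul_W k hk, W_mul_W k hk⟩

/-- the canonical copy of `A₄` -/
noncomputable def H0 (hk : 2 ≤ k) : Subgroup (GL (Fin 2) (ZMod (2 ^ k))) :=
  Subgroup.closure {w1 k hk, omU}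

theorem closure_eq_of_conj {G : Type*} [Group G] (w c a : G)
    (h : a = w ∨ a = c * w * c⁻¹ ∨ a = c⁻¹ * w * c) :
    Subgroup.closure {a, c} = Subgroup.closure {w, c} := by
  apply le_antisymm
  · rw [Subgroup.closure_le]
    have hw : w ∈ Subgroup.closure {w, c} := Subgroup.subset_closure (by simp)
    have hc : c ∈ Subgroup.closure {w, c} := Subgroup.subset_closure (by simp)
    rintro x (hx | hx)
    · rw [hx]
      rcases h with h | h | h
      · rw [h]; exact hw
      · rw [h]; exact mul_mem (mul_mem hc hw) (inv_mem hc)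
      · rw [h]; exact mul_mem (mul_mem (inv_mem hc) hw) hc
    · rw [hx]; exact hc
  · rw [Subgroup.closure_le]
    have ha : a ∈ Subgroup.closure {a, c} := Subgroup.subset_closure (by simp)
    have hc : c ∈ Subgroup.closure {a, c} := Subgroup.subset_closure (by simp)
    rintro x (hx | hx)
    · rw [hx]
      rcases h with h | h | h
      · rw [← h]; exact ha
      · have : w = c⁻¹ * a * c := by rw [h]; group
        rw [this]
        exact mul_mem (mul_mem (inv_mem hc) ha) hc
      · have : w = c * a * c⁻¹ := by rw [h]; group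
        rw [this]
        exact mul_mem (mul_mem hc ha) (inv_mem hc)
    · rw [hx]; exact hc

theorem main (hk : 2 ≤ k) (H : Subgroup (GL (Fin 2) (ZMod (2 ^ k))))
    (e : H ≃* alternatingGroup (Fin 4)) :
    ∃ g : GL (Fin 2) (ZMod (2 ^ k)), H.map (MulAut.conj g).toMonoidHom = H0 k hk := by
  obtain ⟨a, c, ha1, haa, hc3, hc1, hcomm, hprod, hH⟩ := exists_gens H e
  obtain ⟨P, hP⟩ := stepA k (by omega) c hc3 hc1
  refine ⟨P⁻¹, ?_⟩
  have hφc : (MulAut.conj P⁻¹).toMonoidHom c = omU := by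
    show P⁻¹ * c * P⁻¹⁻¹ = omU
    rw [inv_inv, mul_assoc, hP, inv_mul_cancel_left]
  have hφinj : Function.Injective (MulAut.conj P⁻¹).toMonoidHom := (MulAut.conj P⁻¹).injective
  generalize (MulAut.conj P⁻¹).toMonoidHom = φ at hφc hφinj ⊢
  set a' : GL (Fin 2) (ZMod (2 ^ k)) := φ a with ha'
  have hmap : H.map φ = Subgroup.closure {a', omU} := by
    rw [hH, MonoidHom.map_closure, Set.image_pair, hφc]
  rw [hmap]
  -- relations for a'
  have ha'1 : a' ≠ 1 := by
    intro h
    apply ha1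
    exact hφinj (by rw [map_one]; exact h)
  have r1 : a' * a' = 1 := by
    rw [ha', ← map_mul, haa, map_one]
  have r2 : a' * (omU * a' * omU⁻¹) = (omU * a' * omU⁻¹) * a' := by
    have := congrArg φ hcomm
    simp only [map_mul, map_inv, hφc] at this
    exact this
  have r3 : a' * (omU * a' * omU⁻¹) * (omU⁻¹ * a' * omU) = 1 := by
    have := congrArg φ hprod
    simp only [map_mul, map_inv, hφc, map_one] at this
    exact this
  -- matrix forms
  set A' : Matrix (Fin 2) (Fin 2) (ZMod (2 ^ k)) :=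
    (a' : Matrix (Fin 2) (Fin 2) (ZMod (2 ^ k))) with hA'
  have m1 : A' * A' = 1 := by
    have := congrArg Units.val r1
    simpa using this
  have m2 : A' * (om * A' * omInv) = (om * A' * omInv) * A' := congrArg Units.val r2
  have m3 : A' * (om * A' * omInv) * (omInv * A' * om) = 1 := congrArg Units.val r3
  obtain ⟨e11, e01, e10, e00, esum⟩ := stepB A' m1 m2 m3
  have h2h := two_mul_hh k hk
  apply closure_eq_of_conj
  have t01 : A' 0 1 = 0 ∨ A' 0 1 = hh k := two_torsion k (by omega) _ e01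
  have t10 : A' 1 0 = 0 ∨ A' 1 0 = hh k := two_torsion k (by omega) _ e10
  rcases t01 with q0 | qh <;> rcases t10 with r0 | rh
  · exfalso
    apply ha'1
    apply Units.ext
    show A' = 1
    ext i j
    fin_cases i <;> fin_cases j
    · show A' 0 0 = 1
      linear_combination esum + q0 + r0
    · show A' 0 1 = 0
      exact q0
    · show A' 1 0 = 0
      exact r0
    · show A' 1 1 = 1
      linear_combination e11 + esum + q0 + r0
  · right; left
    apply Units.ext
    show A' = om * W k * omInv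
    ext i j
    fin_cases i <;> fin_cases j
    · show A' 0 0 = _
      simp [om, omInv, W, Matrix.mul_apply, Fin.sum_univ_two]
      linear_combination esum + q0 + rh
    · show A' 0 1 = _
      simp [om, omInv, W, Matrix.mul_apply, Fin.sum_univ_two]
      exact q0
    · show A' 1 0 = _
      simp [om, omInv, W, Matrix.mul_apply, Fin.sum_univ_two]
      linear_combination rh + h2h
    · show A' 1 1 = _
      simp [om, omInv, W, Matrix.mul_apply, Fin.sum_univ_two]
      linear_combination e11 + esum + q0 + rh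
  · left
    apply Units.ext
    show A' = W k
    ext i j
    fin_cases i <;> fin_cases j
    · show A' 0 0 = _
      simp [W]
      linear_combination esum + qh + r0
    · show A' 0 1 = _
      simp [W]
      exact qh
    · show A' 1 0 = _
      simp [W]
      exact r0
    · show A' 1 1 = _
      simp [W]
      linear_combination e11 + esum + qh + r0
  · right; right
    apply Units.ext
    show A' = omInv * W k * om
    ext i j
    fin_cases i <;> fin_cases j
    · show A' 0 0 = _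
      simp [om, omInv, W, Matrix.mul_apply, Fin.sum_univ_two]
      linear_combination esum + qh + rh + h2h
    · show A' 0 1 = _
      simp [om, omInv, W, Matrix.mul_apply, Fin.sum_univ_two]
      linear_combination qh
    · show A' 1 0 = _
      simp [om, omInv, W, Matrix.mul_apply, Fin.sum_univ_two]
      linear_combination rh + h2h
    · show A' 1 1 = _
      simp [om, omInv, W, Matrix.mul_apply, Fin.sum_univ_two]
      linear_combination e11 + esum + qh + rh

end Final

/-- For k ≥ 2, any two subgroups of GL₂(ℤ/2ᵏℤ) (the automorphism group of the homocyclic group ℤ/2ᵏ × ℤ/2ᵏ) that are isomorphic to the alternating group of degree 4 are conjugate. -/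
theorem result (k : ℕ) (hk : 2 ≤ k) (H₁ H₂ : Subgroup (GL (Fin 2) (ZMod (2 ^ k)))) (h₁ : Nonempty (↥H₁ ≃* ↥(alternatingGroup (Fin 4)))) (h₂ : Nonempty (↥H₂ ≃* ↥(alternatingGroup (Fin 4)))) : ∃ g : GL (Fin 2) (ZMod (2 ^ k)), H₂ = H₁.map (MulAut.conj g).toMonoidHom := by
  obtain ⟨e₁⟩ := h₁
  obtain ⟨e₂⟩ := h₂
  obtain ⟨g₁, hg₁⟩ := main k hk H₁ e₁
  obtain ⟨g₂, hg₂⟩ := main k hk H₂ e₂
  refine ⟨g₂⁻¹ * g₁, ?_⟩
  have key : ∀ (H : Subgroup (GL (Fin 2) (ZMod (2 ^ k)))) (g : GL (Fin 2) (ZMod (2 ^ k))),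
      (H.map (MulAut.conj g).toMonoidHom).map (MulAut.conj g⁻¹).toMonoidHom = H := by
    intro H g
    rw [Subgroup.map_map]
    convert Subgroup.map_id H
    ext x
    simp [mul_assoc]
  have h2 := key H₂ g₂
  rw [hg₂, ← hg₁, Subgroup.map_map] at h2
  rw [← h2]
  congr 1
  ext x
  simp [mul_assoc]

end Cfsg.Agent.S2874
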