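import Mathlib
import Cfsg.Statements.S2879
import Cfsg.Agent.Lib.Helper14.Basic
import Cfsg.Agent.Lib.Helper16.Solvable2
import Cfsg.Agent.Lib.Helper16.DihedralSylow
import Cfsg.Agent.Lib.Helper16.QuatSylow
import Cfsg.Agent.Lib.Helper16.SL23Recog
import Cfsg.Agent.Lib.Helper6.QD
import Cfsg.Agent.Lib.Helper6.NC
import Cfsg.Agent.Lib.Helper22.PPrimeCore

set_option autoImplicit false
open Cfsg

namespace Cfsg.Agent.S2879

open Cfsg.Agent.Helper16

/-- dihedral and quasi-dihedral `2`-groups have a cyclic subgroup of index two outside of which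
all elements have order at most four -/
theorem exists_cyclic_index_two {T : Type*} [Group T] (h2 : IsPGroup 2 T)
    (hT : (∃ n : ℕ, 4 ≤ n ∧ Nonempty (T ≃* DihedralGroup n)) ∨ Cfsg.IsQuasiDihedral T) :
    ∃ (m : ℕ) (a : T), 2 ≤ m ∧ orderOf a = 2 ^ m ∧ Nat.card T = 2 ^ (m + 1) ∧
      ∀ y : T, y ∉ Subgroup.zpowers a → y ^ 4 = 1 := by
  rcases hT with ⟨n, hn, ⟨e⟩⟩ | hqd
  · haveI : NeZero n := ⟨by omega⟩
    haveI : Finite T := Finite.of_equiv _ e.symm.toEquiv
    obtain ⟨k, hk⟩ := IsPGroup.iff_card.mp h2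
    have hc : Nat.card T = 2 * n := by rw [Nat.card_congr e.toEquiv, DihedralGroup.nat_card]
    have hk1 : 1 ≤ k := by
      by_contra h
      have : k = 0 := by omega
      rw [this, pow_zero] at hk
      omega
    obtain ⟨m, rfl⟩ : ∃ m, k = m + 1 := ⟨k - 1, by omega⟩
    have hnm : n = 2 ^ m := by
      rw [hc, pow_succ, mul_comm] at hk
      exact Nat.eq_of_mul_eq_mul_right (by norm_num) hk
    have hm : 2 ≤ m := by
      by_contra h
      have : m ≤ 1 := by omega
      have h3 : 2 ^ m ≤ 2 ^ 1 := Nat.pow_le_pow_right (by norm_num) this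
      omega
    obtain ⟨a, hao, -, hsq, -⟩ := dihedralLike_of_mulEquiv n e
    refine ⟨m, a, hm, by rw [hao, hnm], hk, fun y hy => ?_⟩
    have : y ^ 4 = (y ^ 2) ^ 2 := by rw [← pow_mul]
    rw [this, hsq y hy, one_pow]
  · obtain ⟨d⟩ := Cfsg.Agent.Helper6.QD.exists_data hqd
    refine ⟨d.n, d.x, by have := d.hn; omega, d.hx, d.card, fun y hy => ?_⟩
    rcases Cfsg.Agent.Helper6.QD.cases d y with ⟨i, hi⟩ | ⟨i, hi⟩
    · exfalso
      exact hy ((Cfsg.Agent.Helper6.QD.mem_zpowers_iff d y).mpr ⟨i, hi⟩)
    · have h4 : y ^ 4 = (y * y) * (y * y) := by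
        rw [← pow_two, ← pow_two, ← pow_mul]
      rw [h4, hi, Cfsg.Agent.Helper6.QD.xpy_mul_xpy, Cfsg.Agent.Helper6.QD.xp_mul_xp]
      have : i + Cfsg.Agent.Helper6.QD.e d * i + (i + Cfsg.Agent.Helper6.QD.e d * i) = 0 := by
        unfold Cfsg.Agent.Helper6.QD.e
        linear_combination i * Cfsg.Agent.Helper6.QD.two_mul_half d
      rw [this, Cfsg.Agent.Helper6.QD.xp_zero]

/-- Let G be a finite solvable group with O(G) = 1 whose Sylow 2-subgroup T is dihedral of order at least 8 or semidihedral, and suppose G ≠ T and Z(T) is normal in G. Then G has a normal subgroup isomorphic to SL₂(3). -/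
theorem result {G : Type*} [Group G] [Finite G] (hsol : IsSolvable G) (hO : Cfsg.oddCore G = ⊥) (T : Sylow 2 G) (hT : (∃ n : ℕ, 4 ≤ n ∧ Nonempty (↥(T : Subgroup G) ≃* DihedralGroup n)) ∨ Cfsg.IsQuasiDihedral ↥(T : Subgroup G)) (hne : (T : Subgroup G) ≠ ⊤) (hZ : ((T : Subgroup G) ⊓ Subgroup.centralizer ((T : Subgroup G) : Set G)).Normal) : ∃ U : Subgroup G, U.Normal ∧ Nonempty (↥U ≃* Matrix.SpecialLinearGroup (Fin 2) (ZMod 3)) := by
  haveI : Fact (Nat.Prime 2) := ⟨Nat.prime_two⟩
  set Q := Cfsg.pCore 2 G with hQdef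
  haveI hQn : Q.Normal := Cfsg.Agent.Helper16.pCore_normal' 2
  have hQ2 : IsPGroup 2 Q := Cfsg.Agent.Helper14.pCore_isPGroup 2 G
  have hCQ : Subgroup.centralizer (Q : Set G) ≤ Q := centralizer_pCore_le_of_isSolvable 2 hsol hO
  have hQT : Q ≤ (T : Subgroup G) := Cfsg.Agent.Helper14.pCore_le_sylow T
  obtain ⟨m, a, hm, hao, hcard, hout⟩ := exists_cyclic_index_two T.2 hT
  -- ambient forms
  have haT : (a : G) ∈ (T : Subgroup G) := a.2
  have hao' : orderOf (a : G) = 2 ^ m := by rw [← hao]; exact Subgroup.orderOf_coe a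
  have hout' : ∀ y ∈ (T : Subgroup G), y ∉ Subgroup.zpowers (a : G) → y ^ 4 = 1 := by
    intro y hyT hy
    have h1 : (⟨y, hyT⟩ : (T : Subgroup G)) ∉ Subgroup.zpowers a := fun h => hy (by
      obtain ⟨k, hk⟩ := Subgroup.mem_zpowers_iff.1 h
      rw [Subgroup.mem_zpowers_iff]
      refine ⟨k, ?_⟩
      have := congrArg (fun v : (T : Subgroup G) => (v : G)) hk
      simpa using this)
    have h3 := hout _ h1
    have := congrArg (fun v : (T : Subgroup G) => (v : G)) h3
    simpa using this
  -- an element of odd prime order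
  have hidx : (T : Subgroup G).index ≠ 1 := by rwa [Ne, Subgroup.index_eq_one]
  obtain ⟨r, hr, hrdvd⟩ := Nat.exists_prime_and_dvd hidx
  have hr2 : r ≠ 2 := by
    rintro rfl
    exact T.not_dvd_index hrdvd
  have hrG : r ∣ Nat.card G := hrdvd.trans (Subgroup.index_dvd_card _)
  haveI : Fact r.Prime := ⟨hr⟩
  obtain ⟨g, hg⟩ := exists_prime_orderOf_dvd_card' r hrG
  have hodd : Odd (orderOf g) := by rw [hg]; exact hr.odd_of_ne_two hr2
  have hgN : g ∈ Subgroup.normalizer (Q : Set G) := by
    rw [Subgroup.normalizer_eq_top]; trivial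
  have hgC : g ∉ Subgroup.centralizer (Q : Set G) := by
    intro h
    obtain ⟨k, hk⟩ := hQ2 ⟨g, hCQ h⟩
    have hk' : g ^ 2 ^ k = 1 := by simpa using congrArg Subtype.val hk
    have h1 : r ∣ 2 ^ k := by rw [← hg]; exact orderOf_dvd_of_pow_eq_one hk'
    have h2 : r ∣ 2 := hr.dvd_of_dvd_pow h1
    exact hr2 ((Nat.prime_dvd_prime_iff_eq hr Nat.prime_two).mp h2)
  rcases four_or_quat_of_odd_normalizer (T : Subgroup G) haT hao' hcard hout' Q hQT hgN hodd hgC
    with ⟨h4, hsq⟩ | ⟨h8, b, y₀, hb, hy₀, hbo, hy2, hyb⟩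
  · -- four-group: impossible
    exfalso
    set Z := (T : Subgroup G) ⊓ Subgroup.centralizer ((T : Subgroup G) : Set G) with hZdef
    have hZQ : Z ≤ Q := fun z hz =>
      hCQ (Subgroup.centralizer_le (SetLike.coe_subset_coe.mpr hQT) hz.2)
    have hTcard : 8 ≤ Nat.card (T : Subgroup G) := by
      rw [hcard]
      calc 8 = 2 ^ 3 := by norm_num
        _ ≤ 2 ^ (m + 1) := Nat.pow_le_pow_right (by norm_num) (by omega)
    have hZneQ : Z ≠ Q := by
      intro h
      have h1 : (T : Subgroup G) ≤ Q := by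
        intro x hx
        apply hCQ
        rw [Subgroup.mem_centralizer_iff]
        intro q hq
        have hqZ : q ∈ Z := by rw [h]; exact hq
        exact ((Subgroup.mem_centralizer_iff.mp hqZ.2) x hx).symm
      have := Subgroup.card_le_of_le h1
      omega
    haveI : Nontrivial (T : Subgroup G) := by
      rw [← Finite.one_lt_card_iff_nontrivial]; omega
    haveI := T.2.center_nontrivial
    obtain ⟨⟨z, hzc⟩, hz1⟩ := exists_ne (1 : Subgroup.center (T : Subgroup G))
    have htZ : (z : G) ∈ Z := by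
      rw [hZdef, Subgroup.mem_inf]
      refine ⟨z.2, ?_⟩
      rw [Subgroup.mem_centralizer_iff]
      intro x hx
      have := Subgroup.mem_center_iff.mp hzc ⟨x, hx⟩
      exact congrArg (fun v : (T : Subgroup G) => (v : G)) this
    have ht1 : (z : G) ≠ 1 := by
      intro h
      apply hz1
      apply Subtype.ext
      apply Subtype.ext
      exact h
    have htQ : (z : G) ∈ Q := hZQ htZ
    have ht2 : (z : G) ^ 2 = 1 := hsq _ htQ
    have hto : orderOf (z : G) = 2 := orderOf_eq_prime ht2 ht1
    have hzle : Subgroup.zpowers (z : G) ≤ Z := Subgroup.zpowers_le.mpr htZ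
    have hZcard : Nat.card Z = 2 := by
      have h1 : Nat.card Z ∣ 4 := h4 ▸ Subgroup.card_dvd_of_le hZQ
      have h2 : Nat.card Z ≠ 4 := by
        intro h
        apply hZneQ
        exact Subgroup.eq_of_le_of_card_ge hZQ (by rw [h4, h])
      have h3 : 2 ≤ Nat.card Z := by
        have := Subgroup.card_le_of_le hzle
        rwa [Nat.card_zpowers, hto] at this
      have h5 : Nat.card Z ≤ 4 := Nat.le_of_dvd (by norm_num) h1
      interval_cases (Nat.card Z) <;> omega
    have hZt : Subgroup.zpowers (z : G) = Z :=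
      Subgroup.eq_of_le_of_card_ge hzle (by rw [hZcard, Nat.card_zpowers, hto])
    have hgt : g * (z : G) * g⁻¹ = (z : G) := by
      have h1 : g * (z : G) * g⁻¹ ∈ Z := hZ.conj_mem _ htZ g
      rw [← hZt] at h1
      obtain ⟨k, hk⟩ := Subgroup.mem_zpowers_iff.mp h1
      have hk2 : (z : G) ^ k = (z : G) ^ (k % 2) := by
        have := zpow_mod_orderOf (z : G) k
        rw [hto] at this
        exact this.symm
      rcases Int.emod_two_eq_zero_or_one k with h | h
      · exfalso
        rw [hk2, h, zpow_zero] at hk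
        apply ht1
        have : (z : G) = g⁻¹ * (g * (z : G) * g⁻¹) * g := by group
        rw [this, ← hk]; group
      · rw [hk2, h, zpow_one] at hk
        exact hk.symm
    exact hgC (mem_centralizer_four_of_fix Q h4 hsq hgN hodd htQ ht1 hgt)
  · -- quaternion case
    obtain ⟨x, y, hxQ, hyQ, hxo, hyx2, hyx, hgx, hgy⟩ :=
      exists_rel_of_odd_normalizer_quat Q h8 hb hy₀ hbo hy2 hyb hgN hodd hgC
    have hQ8 : Q8.IsQ8 (⟨b, hb⟩ : Q) ⟨y₀, hy₀⟩ := by
      refine ⟨h8, ?_, ?_, ?_⟩
      · rw [← hbo]; exact Subgroup.orderOf_mk b hb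
      · exact Subtype.ext (by simpa using hy2)
      · exact Subtype.ext (by simpa using hyb)
    obtain ⟨eQ⟩ := hQ8.nonempty_mulEquiv
    have hAut : Nat.card (MulAut Q) ∣ 24 := by
      have h2 : Nat.card (MulAut Q) = Nat.card (MulAut (QuaternionGroup 2)) :=
        Nat.card_congr (MulAut.congr eQ).toEquiv
      rw [h2]
      exact Cfsg.Agent.Helper6.NC.card_mulAut_Q8_dvd
    -- `r = 3`
    have hr3 : r = 3 := by
      set α : MulAut Q := Q.normalizerMonoidHom ⟨g, hgN⟩ with hαdef
      have hα : α ^ r = 1 := by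
        rw [hαdef, ← map_pow]
        have : (⟨g, hgN⟩ : Subgroup.normalizer (Q : Set G)) ^ r = 1 :=
          Subtype.ext (by rw [← hg]; simp [pow_orderOf_eq_one])
        rw [this, map_one]
      have hα1 : α ≠ 1 := by
        intro h1
        apply hgC
        have h2 : (⟨g, hgN⟩ : Subgroup.normalizer (Q : Set G)) ∈ Q.normalizerMonoidHom.ker := by
          rw [MonoidHom.mem_ker]; exact h1
        rw [Subgroup.normalizerMonoidHom_ker, Subgroup.mem_subgroupOf] at h2
        exact h2
      have hαo : orderOf α = r := orderOf_eq_prime hα hα1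
      have h1 : r ∣ 24 := by
        rw [← hαo]
        exact (orderOf_dvd_natCard α).trans hAut
      have h2 : r ∣ 2 ^ 3 * 3 := by norm_num; exact h1
      rcases (Nat.Prime.dvd_mul hr).mp h2 with h | h
      · exfalso
        have := hr.dvd_of_dvd_pow h
        exact hr2 ((Nat.prime_dvd_prime_iff_eq hr Nat.prime_two).mp this)
      · exact (Nat.prime_dvd_prime_iff_eq hr Nat.prime_three).mp h
    rw [hr3] at hg
    -- the subgroup `U`
    set U := Subgroup.zpowers g ⊔ Q with hUdef
    have hUcard : Nat.card U = 24 := by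
      have hinf : Subgroup.zpowers g ⊓ Q = ⊥ := by
        apply Subgroup.inf_eq_bot_of_coprime
        rw [Nat.card_zpowers, hg, h8]
        norm_num
      rw [hUdef, Cfsg.Agent.Helper22.card_sup_eq_mul _ _ hinf, Nat.card_zpowers, hg, h8]
    -- `|G|` divides `48`
    have hG48 : Nat.card G ∣ 48 := by
      set C := Subgroup.centralizer (Q : Set G) with hC
      have h1 : C.index ∣ 24 := by
        have := Cfsg.Agent.Helper6.NC.relIndex_centralizer_dvd Q
        rw [Subgroup.normalizer_eq_top, Subgroup.relIndex_top_right] at this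
        exact this.trans hAut
      have h2 : C.subgroupOf Q = Subgroup.center Q := by
        ext q
        rw [Subgroup.mem_subgroupOf, Subgroup.mem_centralizer_iff, Subgroup.mem_center_iff]
        constructor
        · intro h t
          apply Subtype.ext
          exact h _ t.2
        · intro h t ht
          exact congrArg Subtype.val (h ⟨t, ht⟩)
      have h3 : Nat.card (Subgroup.center Q) = 2 := by
        have e1 : Subgroup.center Q ≃ {w : QuaternionGroup 2 // ∀ v, v * w = w * v} :=
          { toFun := fun q => ⟨eQ q.1, fun v => by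
              have := (Subgroup.mem_center_iff.mp q.2) (eQ.symm v)
              have h := congrArg eQ this
              rwa [map_mul, map_mul, MulEquiv.apply_symm_apply] at h⟩
            invFun := fun w => ⟨eQ.symm w.1, by
              rw [Subgroup.mem_center_iff]
              intro g
              have := w.2 (eQ g)
              have h := congrArg eQ.symm this
              rwa [map_mul, map_mul, MulEquiv.symm_apply_apply] at h⟩
            left_inv := fun q => by simp
            right_inv := fun w => by simp }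
        rw [Nat.card_congr e1, Nat.card_eq_fintype_card]
        decide
      have h4 : Nat.card C = 2 := by
        rw [← h3, ← h2]
        exact (Nat.card_congr (Subgroup.subgroupOfEquivOfLe hCQ).toEquiv).symm
      have h5 := Subgroup.card_mul_index C
      rw [h4] at h5
      rw [← h5]
      exact Nat.mul_dvd_mul_left 2 h1
    have hUidx : U.index ∣ 2 := by
      have h1 := Subgroup.card_mul_index U
      rw [hUcard] at h1
      rw [← h1] at hG48
      have : 24 * U.index ∣ 24 * 2 := hG48
      exact Nat.dvd_of_mul_dvd_mul_left (by norm_num) this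
    have hUn : U.Normal := by
      have h1 : U.index = 1 ∨ U.index = 2 := (Nat.dvd_prime Nat.prime_two).mp hUidx
      rcases h1 with h1 | h1
      · rw [Subgroup.index_eq_one] at h1
        rw [h1]; infer_instance
      · exact Subgroup.normal_of_index_eq_two h1
    refine ⟨U, hUn, ?_⟩
    have hxU : x ∈ U := (le_sup_right : Q ≤ U) hxQ
    have hyU : y ∈ U := (le_sup_right : Q ≤ U) hyQ
    have hgU : g ∈ U := (le_sup_left : Subgroup.zpowers g ≤ U) (Subgroup.mem_zpowers g)
    have hrel : SL23.Rel (⟨x, hxU⟩ : U) ⟨y, hyU⟩ ⟨g, hgU⟩ := by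
      refine ⟨?_, ?_, ?_, ?_, ?_, ?_⟩
      · rw [← hxo]; exact Subgroup.orderOf_mk x hxU
      · exact Subtype.ext (by simpa using hyx2)
      · exact Subtype.ext (by simpa using hyx)
      · rw [← hg]; exact Subgroup.orderOf_mk g hgU
      · exact Subtype.ext (by simpa using hgx)
      · exact Subtype.ext (by simpa using hgy)
    exact SL23.nonempty_mulEquiv_SL23_of_card hrel hUcard

end Cfsg.Agent.S2879
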