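import Mathlib
import Cfsg.Statements.S2880
import Cfsg.Agent.Lib.Helper9.Extraspecial
import Cfsg.Agent.Lib.Helper9.ExtraspecialInv
import Cfsg.Agent.Lib.Helper21.PGroupFrattini

set_option autoImplicit false
open Cfsg

namespace Cfsg.Agent.S2880

open Cfsg.Agent.Helper9

/-- The basic data of an extraspecial `2`-group of order `2^(2m+1)` with an elementary abelian subgroup `A` of
order `2^(m+1)`: the central involution `z`, commutators and squares in `{1, z}`, and `C(A) = A`. -/
theorem setup {E : Type*} [Group E] [Finite E] (m : ℕ) (hE : Cfsg.IsExtraspecial 2 E)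
    (hcard : Nat.card E = 2 ^ (2 * m + 1)) (A : Subgroup E) (hA : Cfsg.IsElementaryAbelian 2 A)
    (hAcard : Nat.card A = 2 ^ (m + 1)) :
    ∃ z : E, (∀ a : E, a * z = z * a) ∧ z * z = 1 ∧ z ≠ 1 ∧
      (∀ a b : E, a * b = b * a ∨ a * b = z * b * a) ∧ (∀ a : E, a * a = 1 ∨ a * a = z) ∧
      Subgroup.centralizer (A : Set E) = A := by
  haveI : Fact (Nat.Prime 2) := ⟨Nat.prime_two⟩
  obtain ⟨z, hc, hsq, hne, halt, hcen⟩ := extraspecial_two_data hE
  have hsqr : ∀ a : E, a * a = 1 ∨ a * a = z := by
    intro a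
    apply hcen
    have h1 : a ^ 2 ∈ frattini E := Cfsg.Agent.Helper21.pow_mem_frattini_of_isPGroup hE.1.1 a
    rw [hE.1.2.1, pow_two, Subgroup.mem_center_iff] at h1
    exact h1
  refine ⟨z, hc, hsq, hne, halt, hsqr, ?_⟩
  have hAC : A ≤ Subgroup.centralizer (A : Set E) := by
    intro a ha
    rw [Subgroup.mem_centralizer_iff]
    intro b hb
    haveI := hA.1
    exact congrArg Subtype.val (mul_comm' (⟨b, hb⟩ : ↥A) ⟨a, ha⟩)
  symm
  apply Subgroup.eq_of_le_of_card_ge hAC
  have h := relIndex_centralizer_eq hc hsq halt (⊤ : Subgroup E) A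
  rw [top_inf_eq, Subgroup.relIndex_top_right] at h
  -- `A ∩ Z(E)` has order at most 2
  have hZ : Nat.card ↥(A ⊓ Subgroup.centralizer ((⊤ : Subgroup E) : Set E)) ≤ 2 := by
    have hle : A ⊓ Subgroup.centralizer ((⊤ : Subgroup E) : Set E) ≤ Subgroup.center E := by
      intro x hx
      rw [Subgroup.mem_center_iff]
      intro g
      exact Subgroup.mem_centralizer_iff.mp hx.2 g (Subgroup.mem_top g)
    have := Subgroup.card_le_of_le hle
    rw [hE.2] at this
    exact this
  have h1 : (A ⊓ Subgroup.centralizer ((⊤ : Subgroup E) : Set E)).relIndex A *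
      Nat.card ↥(A ⊓ Subgroup.centralizer ((⊤ : Subgroup E) : Set E)) = Nat.card ↥A := by
    have h1 := ((A ⊓ Subgroup.centralizer ((⊤ : Subgroup E) : Set E)).subgroupOf A).index_mul_card
    rw [Nat.card_congr (Subgroup.subgroupOfEquivOfLe (inf_le_left :
      A ⊓ Subgroup.centralizer ((⊤ : Subgroup E) : Set E) ≤ A)).toEquiv] at h1
    exact h1
  have h2 : (Subgroup.centralizer (A : Set E)).index * Nat.card ↥(Subgroup.centralizer (A : Set E)) =
      Nat.card E := Subgroup.index_mul_card _
  rw [hcard] at h2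
  rw [hAcard] at h1 ⊢
  rw [← h] at h1
  -- arithmetic
  set i := (Subgroup.centralizer (A : Set E)).index
  set c := Nat.card ↥(Subgroup.centralizer (A : Set E))
  set k := Nat.card ↥(A ⊓ Subgroup.centralizer ((⊤ : Subgroup E) : Set E))
  have hi : 2 ^ m ≤ i := by
    have : 2 ^ (m + 1) ≤ i * 2 := by
      rw [← h1]; exact Nat.mul_le_mul_left i hZ
    rw [pow_succ] at this
    omega
  have hpos : 0 < 2 ^ m := Nat.two_pow_pos m
  have h3 : c * 2 ^ m ≤ 2 ^ (m + 1) * 2 ^ m := by
    calc c * 2 ^ m ≤ c * i := Nat.mul_le_mul_left c hi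
      _ = 2 ^ (2 * m + 1) := by rw [mul_comm]; exact h2
      _ = 2 ^ (m + 1) * 2 ^ m := by rw [← pow_add]; congr 1; omega
  exact Nat.le_of_mul_le_mul_right h3 hpos

/-- Counting a predicate on a finite type via `Finset.filter`. -/
theorem natCard_subtype_eq {α : Type*} [Fintype α] (q : α → Prop) [DecidablePred q] :
    Nat.card {x : α // q x} = (Finset.univ.filter q).card := by
  rw [Nat.card_eq_fintype_card, Fintype.card_subtype]

/-- The number of solutions of `x² = 1`. -/
theorem card_sq_eq_one {E : Type*} [Group E] [Finite E] (m : ℕ) (hE : Cfsg.IsExtraspecial 2 E)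
    (hcard : Nat.card E = 2 ^ (2 * m + 1)) (A : Subgroup E) (hA : Cfsg.IsElementaryAbelian 2 A)
    (hAcard : Nat.card A = 2 ^ (m + 1)) :
    Nat.card {x : E // x * x = 1} = 2 ^ (2 * m) + 2 ^ m := by
  classical
  obtain ⟨z, hc, hsq, hne, halt, hsqr, hCA⟩ := setup m hE hcard A hA hAcard
  haveI : Fintype E := Fintype.ofFinite E
  haveI : Fintype ↥A := Fintype.ofFinite _
  have hAsq : ∀ a ∈ A, a * a = 1 := fun a ha => by rw [← pow_two]; exact hA.2 a ha
  have hAcomm : ∀ a ∈ A, ∀ b ∈ A, a * b = b * a := by
    intro a ha b hb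
    haveI := hA.1
    exact congrArg Subtype.val (mul_comm' (⟨a, ha⟩ : ↥A) ⟨b, hb⟩)
  set S : Finset E := Finset.univ.filter (fun x => x * x = 1) with hS
  -- double counting
  have hdc : ∑ x : E, (Finset.univ.filter (fun a : ↥A => (x * (a : E)) * (x * (a : E)) = 1)).card
       = ∑ a : ↥A, (Finset.univ.filter (fun x : E => (x * (a : E)) * (x * (a : E)) = 1)).card := by
    simp only [Finset.card_filter]
    exact Finset.sum_comm
  have hright : ∀ a : ↥A,
      (Finset.univ.filter (fun x : E => (x * (a : E)) * (x * (a : E)) = 1)).card = S.card := by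
    intro a
    apply Finset.card_bij (fun x _ => x * (a : E))
    · intro x hx
      rw [Finset.mem_filter] at hx
      rw [hS, Finset.mem_filter]
      exact ⟨Finset.mem_univ _, hx.2⟩
    · intro x _ y _ hxy
      exact mul_right_cancel hxy
    · intro y hy
      rw [hS, Finset.mem_filter] at hy
      refine ⟨y * (a : E)⁻¹, ?_, by group⟩
      rw [Finset.mem_filter]
      refine ⟨Finset.mem_univ _, ?_⟩
      have : y * (a : E)⁻¹ * (a : E) = y := by group
      rw [this]
      exact hy.2
  have hcardA : Fintype.card ↥A = 2 ^ (m + 1) := by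
    rw [← Nat.card_eq_fintype_card]; exact hAcard
  have hleftA : ∀ x ∈ A,
      (Finset.univ.filter (fun a : ↥A => (x * (a : E)) * (x * (a : E)) = 1)).card = 2 ^ (m + 1) := by
    intro x hx
    rw [Finset.filter_true_of_mem, Finset.card_univ, hcardA]
    intro a _
    exact hAsq _ (A.mul_mem hx a.2)
  have hleftN : ∀ x ∉ A,
      (Finset.univ.filter (fun a : ↥A => (x * (a : E)) * (x * (a : E)) = 1)).card = 2 ^ m := by
    intro x hx
    have hnle : ¬ A ≤ Subgroup.centralizer {x} := by
      intro hle
      apply hx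
      rw [← hCA, Subgroup.mem_centralizer_iff]
      intro a ha
      have := Subgroup.mem_centralizer_iff.mp (hle ha) x rfl
      exact this.symm
    have hidx := relIndex_centralizer_singleton_eq_two hc hsq halt A x hnle
    -- the commuting elements of `A`
    set T : Finset ↥A := Finset.univ.filter (fun a : ↥A => (a : E) * x = x * (a : E)) with hT
    have hTcard : T.card * 2 = 2 ^ (m + 1) := by
      have h1 := ((A ⊓ Subgroup.centralizer {x}).subgroupOf A).index_mul_card
      rw [hAcard] at h1
      have h2 : ((A ⊓ Subgroup.centralizer {x}).subgroupOf A).index = 2 := hidx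
      rw [h2] at h1
      have h3 : Nat.card ↥((A ⊓ Subgroup.centralizer {x}).subgroupOf A) = T.card := by
        rw [hT, ← natCard_subtype_eq]
        apply Nat.card_congr
        refine Equiv.subtypeEquivRight ?_
        intro a
        rw [Subgroup.mem_subgroupOf, Subgroup.mem_inf, Subgroup.mem_centralizer_iff]
        constructor
        · intro h
          exact (h.2 x rfl).symm
        · intro h
          refine ⟨a.2, ?_⟩
          intro y hy
          rw [Set.mem_singleton_iff] at hy
          rw [hy]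
          exact h.symm
      rw [h3] at h1
      omega
    have hTc : (Finset.univ.filter (fun a : ↥A => ¬ ((a : E) * x = x * (a : E)))).card * 2 = 2 ^ (m + 1) := by
      have h1 := Finset.card_filter_add_card_filter_not (s := (Finset.univ : Finset ↥A))
        (fun a : ↥A => (a : E) * x = x * (a : E))
      rw [Finset.card_univ, hcardA] at h1
      rw [← hT] at h1
      have : 2 ^ (m + 1) = 2 ^ m * 2 := pow_succ 2 m
      omega
    have hpow : 2 ^ (m + 1) = 2 ^ m * 2 := pow_succ 2 m
    have hval : ∀ a : ↥A, (x * (a : E)) * (x * (a : E)) =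
        if (a : E) * x = x * (a : E) then x * x else z * (x * x) := by
      intro a
      by_cases hax : (a : E) * x = x * (a : E)
      · rw [if_pos hax]
        calc x * (a : E) * (x * (a : E)) = x * ((a : E) * x) * (a : E) := by group
          _ = x * (x * (a : E)) * (a : E) := by rw [hax]
          _ = x * x * ((a : E) * (a : E)) := by group
          _ = x * x := by rw [hAsq _ a.2, mul_one]
      · rw [if_neg hax]
        have hax' : (a : E) * x = z * x * (a : E) := by
          rcases halt (a : E) x with h | h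
          · exact absurd h hax
          · exact h
        calc x * (a : E) * (x * (a : E)) = x * ((a : E) * x) * (a : E) := by group
          _ = x * (z * x * (a : E)) * (a : E) := by rw [hax']
          _ = (x * z) * x * ((a : E) * (a : E)) := by group
          _ = z * (x * x) := by rw [hAsq _ a.2, mul_one, hc x]; group
    rcases hsqr x with hx1 | hxz
    · have : (Finset.univ.filter (fun a : ↥A => (x * (a : E)) * (x * (a : E)) = 1)) = T := by
        rw [hT]
        apply Finset.filter_congr
        intro a _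
        rw [hval a]
        by_cases hax : (a : E) * x = x * (a : E)
        · simp [hax, hx1]
        · simp [hax, hx1, hne]
      rw [this]
      omega
    · have : (Finset.univ.filter (fun a : ↥A => (x * (a : E)) * (x * (a : E)) = 1)) =
          (Finset.univ.filter (fun a : ↥A => ¬ ((a : E) * x = x * (a : E)))) := by
        apply Finset.filter_congr
        intro a _
        rw [hval a]
        by_cases hax : (a : E) * x = x * (a : E)
        · simp [hax, hxz, hne]
        · simp [hax, hxz, hsq]
      rw [this]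
      omega
  -- evaluate the left side
  have hleft : ∑ x : E, (Finset.univ.filter (fun a : ↥A => (x * (a : E)) * (x * (a : E)) = 1)).card
      = 2 ^ (m + 1) * 2 ^ (m + 1) + (2 ^ (2 * m + 1) - 2 ^ (m + 1)) * 2 ^ m := by
    rw [← Finset.sum_filter_add_sum_filter_not Finset.univ (fun x : E => x ∈ A)]
    have hcA : (Finset.univ.filter (fun x : E => x ∈ A)).card = 2 ^ (m + 1) := by
      rw [← natCard_subtype_eq]; exact hAcard
    have hcN : (Finset.univ.filter (fun x : E => ¬ x ∈ A)).card = 2 ^ (2 * m + 1) - 2 ^ (m + 1) := by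
      have h1 := Finset.card_filter_add_card_filter_not (s := (Finset.univ : Finset E))
        (fun x : E => x ∈ A)
      rw [Finset.card_univ, ← Nat.card_eq_fintype_card, hcard, hcA] at h1
      omega
    rw [Finset.sum_congr rfl (fun x hx => hleftA x (Finset.mem_filter.mp hx).2),
      Finset.sum_congr rfl (fun x hx => hleftN x (Finset.mem_filter.mp hx).2),
      Finset.sum_const, Finset.sum_const, hcA, hcN, smul_eq_mul, smul_eq_mul]
  have hrightsum : ∑ a : ↥A, (Finset.univ.filter (fun x : E => (x * (a : E)) * (x * (a : E)) = 1)).card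
      = 2 ^ (m + 1) * S.card := by
    rw [Finset.sum_congr rfl (fun a _ => hright a), Finset.sum_const, Finset.card_univ, hcardA, smul_eq_mul]
  rw [hleft, hrightsum] at hdc
  rw [natCard_subtype_eq]
  -- arithmetic: 2^(m+1) * |S| = 2^(m+1) * 2^(m+1) + (2^(2m+1) - 2^(m+1)) * 2^m
  have e1 : 2 ^ (2 * m + 1) = 2 ^ (m + 1) * 2 ^ m := by rw [← pow_add]; congr 1; omega
  have e2 : 2 ^ (2 * m) = 2 ^ m * 2 ^ m := by rw [← pow_add]; congr 1; omega
  have e3 : 2 ^ (m + 1) = 2 * 2 ^ m := by rw [pow_succ]; ring
  have hpos : 0 < 2 ^ m := Nat.two_pow_pos m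
  set t := 2 ^ m with ht
  rw [e1, e3] at hdc
  rw [e2]
  have h4 : 2 * t * t - 2 * t = 2 * t * (t - 1) := by
    rw [Nat.mul_sub, mul_one]
  rw [h4] at hdc
  have h5 : 2 * t * S.card = 2 * t * (2 * t + (t - 1) * t) := by
    rw [← hdc]; ring
  have h6 : S.card = 2 * t + (t - 1) * t := Nat.eq_of_mul_eq_mul_left (by positivity) h5
  show S.card = t * t + t
  rw [h6]
  obtain ⟨u, hu⟩ : ∃ u, t = u + 1 := ⟨t - 1, by omega⟩
  rw [hu]
  simp only [Nat.add_sub_cancel]
  ring

/-- In this setting an element has order `4` iff its square is not `1`. -/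
theorem orderOf_eq_four_iff {E : Type*} [Group E] {z : E} (hsq : z * z = 1)
    (hsqr : ∀ a : E, a * a = 1 ∨ a * a = z) (x : E) : orderOf x = 4 ↔ ¬ (x * x = 1) := by
  constructor
  · intro h hx
    have h1 : orderOf x ∣ 2 := orderOf_dvd_of_pow_eq_one (by rw [pow_two]; exact hx)
    rw [h] at h1
    norm_num at h1
  · intro hx
    have h4 : x ^ (2 ^ 2) = 1 := by
      have e : x ^ (2 ^ 2) = (x * x) * (x * x) := by
        norm_num [pow_succ, mul_assoc]
      rw [e]
      rcases hsqr x with h | h
      · exact absurd h hx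
      · rw [h, hsq]
    have hdvd : orderOf x ∣ 2 ^ 2 := orderOf_dvd_of_pow_eq_one h4
    obtain ⟨k, hk, hko⟩ := (Nat.dvd_prime_pow Nat.prime_two).mp hdvd
    interval_cases k
    · exfalso
      rw [pow_zero, orderOf_eq_one_iff] at hko
      apply hx
      rw [hko, mul_one]
    · exfalso
      apply hx
      rw [← pow_two]
      have := pow_orderOf_eq_one x
      rwa [hko, pow_one] at this
    · rw [hko]; norm_num

theorem result {E : Type*} [Group E] [Finite E] (m : ℕ) (hm : 1 ≤ m) (hE : Cfsg.IsExtraspecial 2 E) (hcard : Nat.card E = 2 ^ (2 * m + 1)) (hplus : ∃ A : Subgroup E, Cfsg.IsElementaryAbelian 2 A ∧ Nat.card A = 2 ^ (m + 1)) : Nat.card {x : E // orderOf x = 4} = 2 ^ (2 * m) - 2 ^ m := by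
  classical
  obtain ⟨A, hA, hAcard⟩ := hplus
  obtain ⟨z, hc, hsq, hne, halt, hsqr, hCA⟩ := setup m hE hcard A hA hAcard
  have h1 := card_sq_eq_one m hE hcard A hA hAcard
  haveI : Fintype E := Fintype.ofFinite E
  have h2 : Nat.card {x : E // orderOf x = 4} = Nat.card {x : E // ¬ (x * x = 1)} :=
    Nat.card_congr (Equiv.subtypeEquivRight (orderOf_eq_four_iff hsq hsqr))
  rw [h2, natCard_subtype_eq]
  rw [natCard_subtype_eq] at h1
  have h3 := Finset.card_filter_add_card_filter_not (s := (Finset.univ : Finset E)) (fun x : E => x * x = 1)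
  rw [Finset.card_univ, ← Nat.card_eq_fintype_card, hcard, h1] at h3
  have e1 : 2 ^ (2 * m + 1) = 2 * 2 ^ (2 * m) := by rw [pow_succ]; ring
  omega

end Cfsg.Agent.S2880
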