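import Mathlib
import Cfsg.Statements.S2881
import Cfsg.Agent.S2880

set_option autoImplicit false
open Cfsg

namespace Cfsg.Agent.S2881

/-- `2^m ≡ 1 (mod 5)` forces `4 ∣ m`. -/
theorem four_dvd_of_two_pow_mod {m : ℕ} (h : 2 ^ m % 5 = 1) : 4 ∣ m := by
  have hm : m = 4 * (m / 4) + m % 4 := (Nat.div_add_mod m 4).symm
  have h1 : 2 ^ m % 5 = 2 ^ (m % 4) % 5 := by
    conv_lhs => rw [hm, pow_add, pow_mul, Nat.mul_mod, Nat.pow_mod]
    norm_num
  rw [h1] at h
  have h2 : m % 4 < 4 := Nat.mod_lt _ (by norm_num)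
  apply Nat.dvd_of_mod_eq_zero
  generalize m % 4 = r at h h2
  interval_cases r
  · rfl
  · norm_num at h
  · norm_num at h
  · norm_num at h

theorem result {E : Type*} [Group E] [Finite E] (m : ℕ) (hm : 1 ≤ m) (hE : Cfsg.IsExtraspecial 2 E) (hcard : Nat.card E = 2 ^ (2 * m + 1)) (hplus : ∃ A : Subgroup E, Cfsg.IsElementaryAbelian 2 A ∧ Nat.card A = 2 ^ (m + 1)) (ω : E ≃* E) (hω : orderOf ω = 5) (hfix : ∀ x : E, ω x = x ↔ x ∈ Subgroup.center E) : 4 ∣ m := by
  haveI : Fact (Nat.Prime 5) := ⟨by norm_num⟩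
  have hcount := Cfsg.Agent.S2880.result m hm hE hcard hplus
  -- the action of `⟨ω⟩` on the elements of order 4
  let sub : SubMulAction ↥(Subgroup.zpowers (ω : MulAut E)) E :=
    { carrier := {x : E | orderOf x = 4}
      smul_mem' := by
        intro g x hx
        show orderOf ((g : MulAut E) x) = 4
        rw [MulEquiv.orderOf_eq]
        exact hx }
  have hP : IsPGroup 5 ↥(Subgroup.zpowers (ω : MulAut E)) := by
    apply IsPGroup.of_card (n := 1)
    rw [Nat.card_zpowers, pow_one]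
    exact hω
  have hfp : Nat.card ↥sub ≡ Nat.card (MulAction.fixedPoints ↥(Subgroup.zpowers (ω : MulAut E)) ↥sub) [MOD 5] :=
    hP.card_modEq_card_fixedPoints ↥sub
  have hempty : IsEmpty (MulAction.fixedPoints ↥(Subgroup.zpowers (ω : MulAut E)) ↥sub) := by
    constructor
    rintro ⟨x, hx⟩
    have h1 : (⟨ω, Subgroup.mem_zpowers _⟩ : ↥(Subgroup.zpowers (ω : MulAut E))) • x = x := hx _
    have h2 : ω (x : E) = (x : E) := congrArg Subtype.val h1
    have h3 : (x : E) ∈ Subgroup.center E := (hfix _).mp h2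
    have h4 : (⟨(x : E), h3⟩ : Subgroup.center E) ^ Nat.card (Subgroup.center E) = 1 := pow_card_eq_one'
    rw [hE.2] at h4
    have h5 : (x : E) ^ 2 = 1 := by
      have := congrArg Subtype.val h4
      simpa using this
    have h6 : orderOf (x : E) ∣ 2 := orderOf_dvd_of_pow_eq_one h5
    have h7 : orderOf (x : E) = 4 := x.2
    rw [h7] at h6
    norm_num at h6
  have h0 : Nat.card (MulAction.fixedPoints ↥(Subgroup.zpowers (ω : MulAut E)) ↥sub) = 0 :=
    Nat.card_of_isEmpty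
  rw [h0] at hfp
  have hsubcard : Nat.card ↥sub = 2 ^ (2 * m) - 2 ^ m := hcount
  rw [hsubcard] at hfp
  have hdvd : 5 ∣ 2 ^ (2 * m) - 2 ^ m := (Nat.modEq_zero_iff_dvd).mp hfp
  have e1 : 2 ^ (2 * m) - 2 ^ m = 2 ^ m * (2 ^ m - 1) := by
    rw [Nat.mul_sub, mul_one, ← pow_add]
    congr 2
    omega
  rw [e1] at hdvd
  have hcop : Nat.Coprime 5 (2 ^ m) := Nat.Coprime.pow_right m (by norm_num)
  have hdvd' : 5 ∣ 2 ^ m - 1 := hcop.dvd_of_dvd_mul_left hdvd
  apply four_dvd_of_two_pow_mod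
  have hpos : 0 < 2 ^ m := Nat.two_pow_pos m
  omega

end Cfsg.Agent.S2881
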