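import Mathlib
import Cfsg.Statements.S2882
import Mathlib
import Cfsg.Agent.Lib.Helper29.M24Syl2

set_option autoImplicit false
open Cfsg

namespace Cfsg.Agent.S2882


open Cfsg.Agent.Helper27 Cfsg.Agent.Helper29 Cfsg.Agent.Helper29.M24 Cfsg.Agent.Helper29.Syl2
open scoped Pointwise

/-- the subgroup `P0`, inside the group of the code -/
def P0' : Subgroup ↥Cfsg.M24 := P0.subgroupOf Cfsg.M24

theorem mem_P0' (x : ↥Cfsg.M24) : x ∈ P0' ↔ (x : Equiv.Perm GolayPt) ∈ P0 := Subgroup.mem_subgroupOf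

theorem P0'_isPGroup : IsPGroup 2 ↥P0' := by
  intro g
  refine ⟨3, ?_⟩
  apply Subtype.ext
  apply Subtype.ext
  have h := P0_pow8 ((g : ↥Cfsg.M24) : Equiv.Perm GolayPt) ((mem_P0' _).1 g.2)
  simpa using h

theorem P0'_normalizer (n : ↥Cfsg.M24) (hn : ∀ y ∈ P0', n * y * n⁻¹ ∈ P0') : n ∈ P0' := by
  rw [mem_P0']
  apply P0_normalizer _ n.2
  intro x hx
  have hxM : x ∈ Cfsg.M24 := ((mem_P0 x).1 hx).1
  have := hn ⟨x, hxM⟩ ((mem_P0' _).2 hx)
  rw [mem_P0'] at this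
  exact this

theorem P0'_maximal (Q : Subgroup ↥Cfsg.M24) (hQ : IsPGroup 2 ↥Q) (hle : P0' ≤ Q) : Q = P0' := by
  have : Fact (Nat.Prime 2) := ⟨by norm_num⟩
  have hnil : Group.IsNilpotent ↥Q := IsPGroup.isNilpotent hQ
  have NC : NormalizerCondition ↥Q := Group.normalizerCondition_of_isNilpotent
  by_cases htop : P0'.subgroupOf Q = ⊤
  · exact le_antisymm (Subgroup.subgroupOf_eq_top.1 htop) hle
  · exfalso
    have hlt := NC (P0'.subgroupOf Q) (lt_top_iff_ne_top.2 htop)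
    obtain ⟨x, hxN, hxH⟩ := SetLike.exists_of_lt hlt
    apply hxH
    rw [Subgroup.mem_subgroupOf]
    apply P0'_normalizer
    intro y hy
    have hyH : (⟨y, hle hy⟩ : ↥Q) ∈ P0'.subgroupOf Q := Subgroup.mem_subgroupOf.2 hy
    have h2 := (Subgroup.mem_normalizer_iff.1 hxN ⟨y, hle hy⟩).1 hyH
    exact Subgroup.mem_subgroupOf.1 h2

/-- the subgroup `P0` as a Sylow 2-subgroup -/
def Sy0 : Sylow 2 ↥Cfsg.M24 where
  toSubgroup := P0'
  isPGroup' := P0'_isPGroup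
  is_maximal' := fun {Q} hQ hle => P0'_maximal Q hQ hle

theorem mem_smul_Sy0 (g x : ↥Cfsg.M24) :
    x ∈ ((g • Sy0 : Sylow 2 ↥Cfsg.M24) : Subgroup ↥Cfsg.M24) ↔ g⁻¹ * x * g ∈ P0' := by
  rw [Sylow.coe_subgroup_smul, Subgroup.mem_pointwise_smul_iff_inv_smul_mem]
  show (MulAut.conj g)⁻¹ • x ∈ P0' ↔ _
  rw [MulAut.smul_def, MulAut.conj_inv_apply]

/-- In the Mathieu group of degree 24 (realised as the automorphism group of the extended binary Golay code) every Sylow 2-subgroup is self-normalizing. -/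
theorem result (S : Sylow 2 ↥Cfsg.M24) : Subgroup.normalizer ((S : Subgroup ↥Cfsg.M24) : Set ↥Cfsg.M24) = (S : Subgroup ↥Cfsg.M24) := by
  have : Fact (Nat.Prime 2) := ⟨by norm_num⟩
  obtain ⟨g, rfl⟩ := MulAction.exists_smul_eq ↥Cfsg.M24 Sy0 S
  apply le_antisymm
  · intro n hn
    rw [Subgroup.mem_normalizer_iff] at hn
    rw [mem_smul_Sy0]
    apply P0'_normalizer
    intro y hy
    have h1 : g * y * g⁻¹ ∈ ((g • Sy0 : Sylow 2 ↥Cfsg.M24) : Subgroup ↥Cfsg.M24) := by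
      rw [mem_smul_Sy0]
      have : g⁻¹ * (g * y * g⁻¹) * g = y := by group
      rw [this]
      exact hy
    have h2 := (hn (g * y * g⁻¹)).1 h1
    have h3 := (mem_smul_Sy0 g _).1 h2
    have e : g⁻¹ * (n * (g * y * g⁻¹) * n⁻¹) * g = g⁻¹ * n * g * y * (g⁻¹ * n * g)⁻¹ := by group
    rw [e] at h3
    exact h3
  · exact Subgroup.le_normalizer

end Cfsg.Agent.S2882
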