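import Mathlib
import Cfsg.Statements.S2896
import Cfsg.Agent.Lib.Helper14.ParabolicChar

set_option autoImplicit false
open Cfsg

namespace Cfsg.Agent.S2896

open Cfsg.Agent.Helper14

/-- A nontrivial finite `p`-subgroup has an element of order `p`. -/
theorem exists_orderOf_eq_of_ne_bot {G : Type*} [Group G] [Finite G] {p : ℕ} [Fact p.Prime] {W : Subgroup G}
    (hW : IsPGroup p W) (hne : W ≠ ⊥) : ∃ w ∈ W, orderOf w = p := by
  have hdvd : p ∣ Nat.card ↥W := by
    rcases hW.card_eq_or_dvd with h1 | h1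
    · exact absurd (Subgroup.card_eq_one.mp h1) hne
    · exact h1
  obtain ⟨w, hw⟩ := exists_prime_orderOf_dvd_card' p hdvd
  exact ⟨(w : G), w.2, by rw [Subgroup.orderOf_coe]; exact hw⟩

/-- Characteristic `p` for `C(z)` gives characteristic `p` (ambient form) for the centralizer of a conjugate. -/
theorem charP_centralizer_conj {G : Type*} [Group G] [Finite G] {p : ℕ} [Fact p.Prime] (z g : G)
    (h : Cfsg.generalizedFittingSubgroup ↥(Subgroup.centralizer ({z} : Set G)) =
      Cfsg.pCore p ↥(Subgroup.centralizer ({z} : Set G))) :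
    Subgroup.centralizer ({g * z * g⁻¹} : Set G) ⊓
        Subgroup.centralizer (pCoreOf p (Subgroup.centralizer ({g * z * g⁻¹} : Set G)) : Set G) ≤
      pCoreOf p (Subgroup.centralizer ({g * z * g⁻¹} : Set G)) := by
  rw [fstar_eq_pCore_iff_ambient] at h
  rw [centralizer_singleton_conj]
  exact charP_ambient_map_conj g h

/-- Key step: a `p`-subgroup `R ≤ g S g⁻¹` and `w ∈ Z(R)` of order `p` with `g⁻¹ w g` good: `N(R)` has characteristic `p`. -/
theorem charP_normalizer_of_conj {G : Type*} [Group G] [Finite G] {p : ℕ} [Fact p.Prime] {R : Subgroup G}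
    (hR : IsPGroup p R) {w : G} (hwR : w ∈ R) (hwc : ∀ x ∈ R, x * w = w * x) (g : G)
    (h : Cfsg.generalizedFittingSubgroup ↥(Subgroup.centralizer ({g⁻¹ * w * g} : Set G)) =
      Cfsg.pCore p ↥(Subgroup.centralizer ({g⁻¹ * w * g} : Set G))) :
    Subgroup.centralizer (pCore p ↥(Subgroup.normalizer (R : Set G)) : Set ↥(Subgroup.normalizer (R : Set G))) ≤
      pCore p ↥(Subgroup.normalizer (R : Set G)) := by
  rw [charP_iff_ambient]
  have h1 := charP_centralizer_conj (g⁻¹ * w * g) g h
  have e : g * (g⁻¹ * w * g) * g⁻¹ = w := by group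
  rw [e] at h1
  exact charP_ambient_normalizer_of_center_elt hR hwR hwc h1

theorem result {G : Type*} [Group G] [Finite G] {p : ℕ} [Fact p.Prime] (hdiv : p ∣ Nat.card G) (S : Sylow p G) (X : Subgroup G) (hX : X ≤ (S : Subgroup G)) : (∀ z : G, z ≠ 1 → z ∈ X → (∀ x ∈ X, x * z = z * x) → Cfsg.generalizedFittingSubgroup ↥(Subgroup.centralizer ({z} : Set G)) = Cfsg.pCore p ↥(Subgroup.centralizer ({z} : Set G)) → Cfsg.generalizedFittingSubgroup ↥(Subgroup.normalizer (X : Set G)) = Cfsg.pCore p ↥(Subgroup.normalizer (X : Set G))) ∧ (Cfsg.IsOfParabolicCharacteristic p G ↔ ∀ z : G, z ≠ 1 → z ∈ Cfsg.omegaOne p ((S : Subgroup G) ⊓ Subgroup.centralizer ((S : Subgroup G) : Set G)) → Cfsg.generalizedFittingSubgroup ↥(Subgroup.centralizer ({z} : Set G)) = Cfsg.pCore p ↥(Subgroup.centralizer ({z} : Set G))) ∧ ((∀ z : G, z ∈ (S : Subgroup G) → orderOf z = p → Cfsg.generalizedFittingSubgroup ↥(Subgroup.centralizer ({z} : Set G)) = Cfsg.pCore p ↥(Subgroup.centralizer ({z} : Set G))) → Cfsg.IsOfLocalCharacteristic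 p G) := by
  have hp : p.Prime := Fact.out
  refine ⟨?_, ⟨?_, ?_⟩, ?_⟩
  · -- (i)
    intro z _ hzX hzc hF
    rw [fstar_eq_pCore_iff_ambient] at hF ⊢
    exact charP_ambient_normalizer_of_center_elt (S.isPGroup'.to_le hX) hzX hzc hF
  · -- (ii) ⇒
    intro hG z hz1 hzΩ
    obtain ⟨hzS, hzC, hzp⟩ := mem_omegaOne_center_iff.mp hzΩ
    set R := Subgroup.zpowers z with hR
    have hRS : R ≤ (S : Subgroup G) := Subgroup.zpowers_le.mpr hzS
    have hRp : IsPGroup p R := S.isPGroup'.to_le hRS
    have hRne : R ≠ ⊥ := Subgroup.zpowers_ne_bot.mpr hz1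
    have hSN : (S : Subgroup G) ≤ Subgroup.normalizer (R : Set G) := by
      refine le_trans ?_ (Subgroup.centralizer_le_normalizer _)
      rw [hR, centralizer_zpowers_eq]
      intro s hs
      rw [Subgroup.mem_centralizer_iff]
      intro y hy
      rw [Set.mem_singleton_iff] at hy
      rw [hy]
      exact (Subgroup.mem_centralizer_iff.mp hzC s hs).symm
    have h1 := hG R hRp hRne ⟨S, hSN⟩
    rw [charP_iff_ambient] at h1
    rw [fstar_eq_pCore_iff_ambient]
    apply charP_ambient_of_le_normalizer h1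
    · rw [← centralizer_zpowers_eq]
      exact Subgroup.centralizer_le_normalizer _
    · rw [← centralizer_zpowers_eq]
      exact le_normalizer_centralizer_of_le_normalizer le_rfl
  · -- (ii) ⇐
    intro h R hRp hRne hpar
    obtain ⟨T, hT⟩ := hpar
    have hR' : R ≤ pCoreOf p (Subgroup.normalizer (R : Set G)) := le_pCoreOf Subgroup.le_normalizer le_rfl hRp
    have hRT : R ≤ (T : Subgroup G) := hR'.trans (pCoreOf_le_of_isSylowOf (isSylowOf_of_sylow_le T hT))
    have hpc : PowCond p (T : Subgroup G) (Subgroup.centralizer (R : Set G)) := by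
      intro d hd
      obtain ⟨k, hk⟩ := T.isPGroup' ⟨d, hd⟩
      refine ⟨k, ?_⟩
      have : d ^ (p ^ k) = 1 := by
        have := congrArg Subtype.val hk
        simpa using this
      rw [this]
      exact Subgroup.one_mem _
    have hWne := inf_centralizer_ne_bot_of_powCond hRp hRne hT hpc
    obtain ⟨w, hwW, hwo⟩ := exists_orderOf_eq_of_ne_bot (hRp.to_le inf_le_left) hWne
    obtain ⟨hwR, hwT⟩ := Subgroup.mem_inf.mp hwW
    obtain ⟨g, hg⟩ := sylow_exists_conj S T
    have hzS : g⁻¹ * w * g ∈ (S : Subgroup G) := by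
      have : w ∈ (T : Subgroup G) := hRT hwR
      rw [hg, mem_map_conj_iff] at this
      exact this
    have hz1 : g⁻¹ * w * g ≠ 1 := by
      intro h1
      have hw1 : w = 1 := by
        have : w = g * (g⁻¹ * w * g) * g⁻¹ := by group
        rw [this, h1]; group
      rw [hw1, orderOf_one] at hwo
      exact hp.one_lt.ne hwo
    have hzΩ : g⁻¹ * w * g ∈ Cfsg.omegaOne p ((S : Subgroup G) ⊓ Subgroup.centralizer ((S : Subgroup G) : Set G)) := by
      rw [mem_omegaOne_center_iff]
      refine ⟨hzS, ?_, ?_⟩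
      · rw [Subgroup.mem_centralizer_iff]
        intro s hs
        have hsT : g * s * g⁻¹ ∈ (T : Subgroup G) := by
          rw [hg, mem_map_conj_iff]
          have : g⁻¹ * (g * s * g⁻¹) * g = s := by group
          rw [this]; exact hs
        have h2 := Subgroup.mem_centralizer_iff.mp hwT _ hsT
        have e1 : s * (g⁻¹ * w * g) = g⁻¹ * (g * s * g⁻¹ * w) * g := by group
        have e2 : g⁻¹ * w * g * s = g⁻¹ * (w * (g * s * g⁻¹)) * g := by group
        rw [e1, e2, h2]
      · have : (g⁻¹ * w * g) ^ p = g⁻¹ * w ^ p * g := by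
          have := conj_pow (a := g⁻¹) (b := w) (i := p)
          simpa using this
        rw [this, ← hwo, pow_orderOf_eq_one]; group
    have hF := h _ hz1 hzΩ
    refine charP_normalizer_of_conj hRp hwR ?_ g hF
    intro x hx
    exact Subgroup.mem_centralizer_iff.mp hwT x (hRT hx)
  · -- (iii)
    intro h
    refine ⟨hdiv, ?_⟩
    intro T hTp hTne
    have hpc : PowCond p T (Subgroup.centralizer (T : Set G)) := by
      intro d hd
      obtain ⟨k, hk⟩ := hTp ⟨d, hd⟩
      refine ⟨k, ?_⟩
      have : d ^ (p ^ k) = 1 := by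
        have := congrArg Subtype.val hk
        simpa using this
      rw [this]
      exact Subgroup.one_mem _
    have hWne := inf_centralizer_ne_bot_of_powCond hTp hTne Subgroup.le_normalizer hpc
    obtain ⟨w, hwW, hwo⟩ := exists_orderOf_eq_of_ne_bot (hTp.to_le inf_le_left) hWne
    obtain ⟨hwT, hwC⟩ := Subgroup.mem_inf.mp hwW
    obtain ⟨P, hP⟩ := hTp.exists_le_sylow
    obtain ⟨g, hg⟩ := sylow_exists_conj S P
    have hzS : g⁻¹ * w * g ∈ (S : Subgroup G) := by
      have : w ∈ (P : Subgroup G) := hP hwT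
      rw [hg, mem_map_conj_iff] at this
      exact this
    have hzo : orderOf (g⁻¹ * w * g) = p := by
      have := orderOf_injective (MulAut.conj g⁻¹).toMonoidHom (MulAut.conj g⁻¹).injective w
      rw [← hwo, ← this]
      simp
    have hF := h _ hzS hzo
    refine charP_normalizer_of_conj hTp hwT ?_ g hF
    intro x hx
    exact Subgroup.mem_centralizer_iff.mp hwC x hx

end Cfsg.Agent.S2896
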