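import Mathlib
import Cfsg.Statements.S2897
import Cfsg.Agent.S2896
import Cfsg.Agent.Lib.Helper14.ParabolicChar
import Cfsg.Agent.Lib.Helper14.SylowNormal
import Cfsg.Agent.Lib.Helper14.AmalgamZ

set_option autoImplicit false
open Cfsg

namespace Cfsg.Agent.S2897

open Cfsg.Agent.Helper14

/-- Characteristic `p` of a subgroup of a subgroup, read off from its image in the ambient group. -/
theorem charP_typed_of_map_subtype {G : Type*} [Group G] {p : ℕ} {H : Subgroup G} (N : Subgroup ↥H)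
    (h : (N.map H.subtype) ⊓ Subgroup.centralizer (pCoreOf p (N.map H.subtype) : Set G) ≤
      pCoreOf p (N.map H.subtype)) :
    Subgroup.centralizer (pCore p ↥N : Set ↥N) ≤ pCore p ↥N := by
  rw [← charP_iff_ambient] at h
  exact charP_of_mulEquiv (N.equivMapOfInjective H.subtype H.subtype_injective).symm h

/-- The normalizer inside a subgroup, mapped to the ambient group. -/
theorem map_subtype_normalizer {G : Type*} [Group G] {H : Subgroup G} (R : Subgroup ↥H) :
    (Subgroup.normalizer (R : Set ↥H)).map H.subtype =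
      Subgroup.normalizer ((R.map H.subtype : Subgroup G) : Set G) ⊓ H := by
  have h1 : (R.map H.subtype).subgroupOf H = R :=
    Subgroup.comap_map_eq_self_of_injective H.subtype_injective R
  have h2 := Subgroup.subgroupOf_normalizer_eq (Subgroup.map_subtype_le R)
  rw [h1] at h2
  rw [← h2, Subgroup.subgroupOf_map_subtype]

theorem result {G : Type*} [Group G] [Finite G] {p : ℕ} [Fact p.Prime] (hdiv : p ∣ Nat.card G) (hG : Cfsg.IsOfParabolicCharacteristic p G) (S : Sylow p G) (G₁ : Subgroup G) [G₁.Normal] (hne : Cfsg.omegaOne p (((S : Subgroup G) ⊓ G₁) ⊓ Subgroup.centralizer (((S : Subgroup G) ⊓ G₁ : Subgroup G) : Set G)) ≠ ⊥) (hle : Cfsg.omegaOne p (((S : Subgroup G) ⊓ G₁) ⊓ Subgroup.centralizer (((S : Subgroup G) ⊓ G₁ : Subgroup G) : Set G)) ≤ Cfsg.omegaOne p ((S : Subgroup G) ⊓ Subgroup.centralizer ((S : Subgroup G) : Set G))) : Cfsg.IsOfParabolicCharacteristic p ↥G₁ := by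
  have hp : p.Prime := Fact.out
  intro R hRp hRne hpar
  obtain ⟨T₁, hT₁⟩ := hpar
  set R' := R.map G₁.subtype with hR'
  set T' := (T₁ : Subgroup ↥G₁).map G₁.subtype with hT'
  have hR'p : IsPGroup p R' := hRp.map _
  have hR'ne : R' ≠ ⊥ := by
    intro h
    apply hRne
    rw [hR'] at h
    exact (Subgroup.map_eq_bot_iff_of_injective R G₁.subtype_injective).mp h
  have hR'G : R' ≤ G₁ := Subgroup.map_subtype_le R
  have hT'syl : IsSylowOf p G₁ T' := ⟨T₁, rfl⟩
  have hT'N : T' ≤ Subgroup.normalizer (R' : Set G) ⊓ G₁ := by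
    rw [← map_subtype_normalizer]
    exact Subgroup.map_mono hT₁
  have hT'syl2 : IsSylowOf p (Subgroup.normalizer (R' : Set G) ⊓ G₁) T' := hT'syl.of_le hT'N inf_le_right
  have hR'core : R' ≤ pCoreOf p (Subgroup.normalizer (R' : Set G) ⊓ G₁) :=
    le_pCoreOf (le_inf Subgroup.le_normalizer hR'G) inf_le_left hR'p
  have hR'T : R' ≤ T' := hR'core.trans (pCoreOf_le_of_isSylowOf hT'syl2)
  have hT'p : IsPGroup p T' := hT'syl.isPGroup
  have hpc : PowCond p T' (Subgroup.centralizer (R' : Set G)) := by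
    intro d hd
    obtain ⟨k, hk⟩ := hT'p ⟨d, hd⟩
    refine ⟨k, ?_⟩
    have : d ^ (p ^ k) = 1 := by
      have := congrArg Subtype.val hk
      simpa using this
    rw [this]
    exact Subgroup.one_mem _
  have hWne := inf_centralizer_ne_bot_of_powCond hR'p hR'ne (hT'N.trans inf_le_left) hpc
  obtain ⟨w, hwW, hwo⟩ := Cfsg.Agent.S2896.exists_orderOf_eq_of_ne_bot (hR'p.to_le inf_le_left) hWne
  obtain ⟨hwR, hwT⟩ := Subgroup.mem_inf.mp hwW
  have hw1 : w ≠ 1 := by
    intro h
    rw [h, orderOf_one] at hwo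
    exact hp.one_lt.ne hwo
  have hwΩ : w ∈ omegaZ p T' := by
    unfold omegaZ
    rw [mem_omegaOne_center_iff]
    exact ⟨hR'T hwR, hwT, by rw [← hwo, pow_orderOf_eq_one]⟩
  have hSsyl : IsSylowOf p G₁ ((S : Subgroup G) ⊓ G₁) := isSylowOf_inf_normal S inferInstance
  obtain ⟨g, hgG, hg⟩ := hSsyl.exists_conj hT'syl
  rw [hg, omegaZ_map_equiv, mem_map_conj_iff] at hwΩ
  have hzΩ : g⁻¹ * w * g ∈ Cfsg.omegaOne p ((S : Subgroup G) ⊓ Subgroup.centralizer ((S : Subgroup G) : Set G)) :=
    hle hwΩ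
  have hz1 : g⁻¹ * w * g ≠ 1 := by
    intro h1
    apply hw1
    have : w = g * (g⁻¹ * w * g) * g⁻¹ := by group
    rw [this, h1]; group
  have hF := (Cfsg.Agent.S2896.result hdiv S ⊥ bot_le).2.1.mp hG _ hz1 hzΩ
  have hN := Cfsg.Agent.S2896.charP_normalizer_of_conj hR'p hwR
    (fun x hx => Subgroup.mem_centralizer_iff.mp hwT x (hR'T hx)) g hF
  rw [charP_iff_ambient] at hN
  apply charP_typed_of_map_subtype
  rw [map_subtype_normalizer]
  apply charP_ambient_of_le_normalizer hN inf_le_left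
  apply le_normalizer_inf Subgroup.le_normalizer
  have hG₁ : Subgroup.normalizer ((G₁ : Subgroup G) : Set G) = ⊤ :=
    Subgroup.normalizer_eq_top_iff.mpr inferInstance
  rw [hG₁]
  exact le_top

end Cfsg.Agent.S2897
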