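import Mathlib
import Cfsg.Statements.S2898
import Cfsg.Agent.Lib.Helper15.StronglyEmbedded
import Cfsg.Agent.Lib.Helper15.PCore
import Cfsg.Agent.Lib.Helper22.PPrimeCore

set_option autoImplicit false
open Cfsg

namespace Cfsg.Agent.S2898

open Cfsg.Agent.Helper15

/-- a fixed-point-free involution acting by conjugation on a finite normal subgroup inverts it -/
theorem fpf_involution_inverts {H : Type*} [Group H] (N : Subgroup H) [Finite N] [hNn : N.Normal]
    (e : H) (hee : e * e = 1)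
    (hfix : ∀ n ∈ N, e * n = n * e → n = 1) : ∀ x ∈ N, e * x * e⁻¹ = x⁻¹ := by
  let φ : N → N := fun n =>
    ⟨(n : H)⁻¹ * (e * n * e⁻¹), N.mul_mem (N.inv_mem n.2) (hNn.conj_mem n n.2 e)⟩
  have hinj : Function.Injective φ := by
    intro n m hnm
    have h : (n : H)⁻¹ * (e * n * e⁻¹) = (m : H)⁻¹ * (e * m * e⁻¹) := congrArg Subtype.val hnm
    have hmn : (m : H) * (n : H)⁻¹ ∈ N := N.mul_mem m.2 (N.inv_mem n.2)
    have hc : e * ((m : H) * (n : H)⁻¹) = ((m : H) * (n : H)⁻¹) * e := by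
      have h' : (m : H) * (n : H)⁻¹ = e * m * e⁻¹ * (e * n * e⁻¹)⁻¹ := by
        have : (e * n * e⁻¹) = (n : H) * ((m : H)⁻¹ * (e * m * e⁻¹)) := by rw [← h]; group
        rw [this]; group
      calc e * ((m : H) * (n : H)⁻¹) = (e * m * e⁻¹ * (e * n * e⁻¹)⁻¹) * e := by group
        _ = ((m : H) * (n : H)⁻¹) * e := by rw [← h']
    have := hfix _ hmn hc
    have hmn' : (m : H) = n := mul_inv_eq_one.mp this
    exact Subtype.ext hmn'.symm
  have hsurj : Function.Surjective φ := Finite.injective_iff_surjective.mp hinj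
  intro x hx
  obtain ⟨n, hn⟩ := hsurj ⟨x, hx⟩
  have hx' : x = (n : H)⁻¹ * (e * n * e⁻¹) := (congrArg Subtype.val hn).symm
  rw [hx']
  calc e * ((n : H)⁻¹ * (e * n * e⁻¹)) * e⁻¹
      = (e * n * e⁻¹)⁻¹ * ((e * e) * n * (e * e)⁻¹) := by group
    _ = (e * n * e⁻¹)⁻¹ * n := by rw [hee]; group
    _ = ((n : H)⁻¹ * (e * n * e⁻¹))⁻¹ := by group

/-- in a group of parabolic characteristic 2, an involution centralized by a Sylow 2-subgroup
inverts the odd core -/
theorem involution_inverts_oddCore {G : Type*} [Group G] [Finite G]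
    (hG : Cfsg.IsOfParabolicCharacteristic 2 G) (S : Sylow 2 G) (z : G) (hz : orderOf z = 2)
    (hSz : (S : Subgroup G) ≤ Subgroup.centralizer ({z} : Set G)) :
    ∀ x ∈ Cfsg.oddCore G, z * x * z⁻¹ = x⁻¹ := by
  haveI : Fact (Nat.Prime 2) := ⟨Nat.prime_two⟩
  set O := Cfsg.oddCore G with hO
  have hOodd : (Nat.card O).Coprime 2 := Cfsg.Agent.Helper22.card_pPrimeCore_coprime 2
  have hzz : z * z = 1 := by
    have := pow_orderOf_eq_one z
    rwa [hz, pow_two] at this
  have hz1 : z ≠ 1 := by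
    intro h; rw [h, orderOf_one] at hz; omega
  set R := Subgroup.zpowers z with hR
  have hRp : IsPGroup 2 R := by
    apply IsPGroup.of_card (n := 1)
    rw [Nat.card_zpowers, hz, pow_one]
  have hRne : R ≠ ⊥ := by
    intro h
    exact hz1 (Subgroup.zpowers_eq_bot.mp h)
  have hcz : Subgroup.centralizer ({z} : Set G) = Subgroup.centralizer (R : Set G) := by
    rw [hR, Subgroup.zpowers_eq_closure, Subgroup.centralizer_closure]
  have hpar : Cfsg.IsParabolic 2 (Subgroup.normalizer (R : Set G)) :=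
    ⟨S, (hSz.trans hcz.le).trans (Subgroup.centralizer_le_normalizer _)⟩
  have hchar := hG R hRp hRne hpar
  set L := Subgroup.normalizer (R : Set G) with hL
  set D := O ⊓ Subgroup.centralizer (R : Set G) with hD
  have hDL : D ≤ L := inf_le_right.trans (Subgroup.centralizer_le_normalizer _)
  have hDn : (D.subgroupOf L).Normal := by
    refine ⟨fun d hd l => ?_⟩
    rw [Subgroup.mem_subgroupOf] at hd ⊢
    rw [hD, Subgroup.mem_inf] at hd ⊢
    obtain ⟨hdO, hdC⟩ := hd
    refine ⟨?_, ?_⟩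
    · exact (inferInstance : O.Normal).conj_mem _ hdO _
    · rw [Subgroup.mem_centralizer_iff] at hdC ⊢
      intro r hr
      have hr' : (l : G)⁻¹ * r * l ∈ R := (Subgroup.mem_normalizer_iff''.mp l.2 r).mp hr
      have h1 := hdC _ hr'
      show r * ((l : G) * (d : G) * (l : G)⁻¹) = (l : G) * (d : G) * (l : G)⁻¹ * r
      calc r * ((l : G) * (d : G) * (l : G)⁻¹)
          = (l : G) * (((l : G)⁻¹ * r * l) * (d : G)) * (l : G)⁻¹ := by group
        _ = (l : G) * ((d : G) * ((l : G)⁻¹ * r * l)) * (l : G)⁻¹ := by rw [h1]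
        _ = (l : G) * (d : G) * (l : G)⁻¹ * r := by group
  have hQp : IsPGroup 2 ↥(Cfsg.pCore 2 ↥L) := isPGroup_pCore 2 ↥L
  have hcop : (Nat.card ↥(D.subgroupOf L)).Coprime (Nat.card ↥(Cfsg.pCore 2 ↥L)) := by
    obtain ⟨k, hk⟩ := IsPGroup.iff_card.mp hQp
    rw [hk]
    apply Nat.Coprime.pow_right
    have h1 : Nat.card ↥(D.subgroupOf L) = Nat.card ↥D :=
      Nat.card_congr (Subgroup.subgroupOfEquivOfLe hDL).toEquiv
    rw [h1]
    exact Nat.Coprime.coprime_dvd_left (Subgroup.card_dvd_of_le inf_le_left) hOodd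
  have hdisj : D.subgroupOf L ⊓ Cfsg.pCore 2 ↥L = ⊥ := Subgroup.inf_eq_bot_of_coprime hcop
  have hDle : D.subgroupOf L ≤ Subgroup.centralizer (Cfsg.pCore 2 ↥L : Set ↥L) := by
    intro d hd
    rw [Subgroup.mem_centralizer_iff]
    intro q hq
    exact (Subgroup.commute_of_normal_of_disjoint _ _ hDn (Cfsg.pCore_normal 2 ↥L)
      (disjoint_iff.mpr hdisj) d q hd hq).eq.symm
  have hDbot : D = ⊥ := by
    rw [eq_bot_iff]
    intro d hd
    have h1 : (⟨d, hDL hd⟩ : L) ∈ D.subgroupOf L := Subgroup.mem_subgroupOf.mpr hd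
    have h2 : (⟨d, hDL hd⟩ : L) ∈ D.subgroupOf L ⊓ Cfsg.pCore 2 ↥L := ⟨h1, hchar (hDle h1)⟩
    rw [hdisj, Subgroup.mem_bot] at h2
    rw [Subgroup.mem_bot]
    exact congrArg Subtype.val h2
  apply fpf_involution_inverts O z hzz
  intro n hn hcomm
  have : n ∈ D := by
    rw [hD, Subgroup.mem_inf]
    refine ⟨hn, ?_⟩
    rw [← hcz, Subgroup.mem_centralizer_iff]
    intro y hy
    rw [Set.mem_singleton_iff] at hy
    rw [hy]; exact hcomm
  rw [hDbot, Subgroup.mem_bot] at this
  exact this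

/-- Let G be a finite group of even order with parabolic characteristic 2. If the centre of G ⧸ O(G) is trivial, then O(G) = 1. -/
theorem result {G : Type*} [Group G] [Finite G] (h2 : 2 ∣ Nat.card G) (hG : Cfsg.IsOfParabolicCharacteristic 2 G) [hN : (Cfsg.oddCore G).Normal] (hZ : Subgroup.center (G ⧸ Cfsg.oddCore G) = ⊥) : Cfsg.oddCore G = ⊥ := by
  haveI : Fact (Nat.Prime 2) := ⟨Nat.prime_two⟩
  by_contra hne
  set O := Cfsg.oddCore G with hO
  have hOodd : (Nat.card O).Coprime 2 := Cfsg.Agent.Helper22.card_pPrimeCore_coprime 2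
  -- elements of O equal to their inverse are trivial
  have hinv1 : ∀ x ∈ O, x = x⁻¹ → x = 1 := by
    intro x hx hxx
    have h1 : x ^ 2 = 1 := by
      rw [pow_two]
      nth_rewrite 2 [hxx]
      exact mul_inv_cancel x
    have h2 : orderOf x ∣ 2 := orderOf_dvd_of_pow_eq_one h1
    have h3 : orderOf x ∣ Nat.card O := by
      have := orderOf_dvd_natCard (⟨x, hx⟩ : O)
      rwa [Subgroup.orderOf_mk] at this
    have h4 : orderOf x ∣ Nat.gcd (Nat.card O) 2 := Nat.dvd_gcd h3 h2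
    rw [hOodd] at h4
    exact orderOf_eq_one_iff.mp (Nat.dvd_one.mp h4)
  obtain ⟨S⟩ : Nonempty (Sylow 2 G) := inferInstance
  have hSne : (S : Subgroup G) ≠ ⊥ := by
    intro hb
    have h1 := S.card_eq_multiplicity
    rw [hb, Subgroup.card_bot] at h1
    have h3 : 1 ≤ (Nat.card G).factorization 2 :=
      (Nat.Prime.dvd_iff_one_le_factorization Nat.prime_two Nat.card_pos.ne').mp h2
    have h4 : 2 ^ 1 ≤ 2 ^ (Nat.card G).factorization 2 := Nat.pow_le_pow_right (by norm_num) h3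
    omega
  obtain ⟨z, hzS, hz, hSz⟩ := exists_orderOf_eq_prime_centralized S.isPGroup' le_rfl
    Subgroup.le_normalizer hSne
  have hzinv := involution_inverts_oddCore hG S z hz hSz
  set C := Subgroup.centralizer (O : Set G) with hC
  have hCn : C.Normal := Subgroup.normal_centralizer
  -- S ∩ C = 1
  have hSC : (S : Subgroup G) ⊓ C = ⊥ := by
    by_contra hSCne
    have hconjle : ∀ s ∈ (S : Subgroup G), ((S : Subgroup G) ⊓ C).map (MulAut.conj s).toMonoidHom
        ≤ (S : Subgroup G) ⊓ C := by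
      intro s hs
      rw [map_conj_le_iff]
      intro h hh
      rw [Subgroup.mem_inf] at hh ⊢
      exact ⟨Subgroup.mul_mem _ (Subgroup.mul_mem _ hs hh.1) (Subgroup.inv_mem _ hs),
        hCn.conj_mem _ hh.2 _⟩
    have hnorm : (S : Subgroup G) ≤
        Subgroup.normalizer (((S : Subgroup G) ⊓ C : Subgroup G) : Set G) := fun s hs =>
      mem_normalizer_of_map_conj_le (hconjle s hs) (hconjle s⁻¹ (Subgroup.inv_mem _ hs))
    obtain ⟨z', hz'SC, hz', hSz'⟩ := exists_orderOf_eq_prime_centralized S.isPGroup' inf_le_left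
      hnorm hSCne
    have h1 := involution_inverts_oddCore hG S z' hz' hSz'
    apply hne
    rw [eq_bot_iff]
    intro x hx
    rw [Subgroup.mem_bot]
    apply hinv1 x hx
    have h2 := h1 x hx
    have h3 : x * z' = z' * x := (Subgroup.mem_centralizer_iff.mp (Subgroup.mem_inf.mp hz'SC).2) x hx
    rw [← h2, ← h3, mul_inv_cancel_right]
  -- C has odd order
  have hCodd : (Nat.card C).Coprime 2 := by
    rw [Nat.coprime_comm, Nat.Prime.coprime_iff_not_dvd Nat.prime_two]
    intro hdvd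
    obtain ⟨t, ht⟩ := exists_prime_orderOf_dvd_card' 2 hdvd
    have ht' : orderOf (t : G) = 2 := by rw [Subgroup.orderOf_coe]; exact ht
    have hPt : IsPGroup 2 (Subgroup.zpowers (t : G)) := by
      apply IsPGroup.of_card (n := 1)
      rw [Nat.card_zpowers, ht', pow_one]
    obtain ⟨g, hg⟩ := hPt.exists_le_sylow
    obtain ⟨k, hk⟩ := MulAction.exists_smul_eq G g S
    have h1 : k * (t : G) * k⁻¹ ∈ (S : Subgroup G) := by
      have hcoe : ((k • g : Sylow 2 G) : Subgroup G)
          = (g : Subgroup G).map (MulAut.conj k).toMonoidHom := rfl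
      rw [← hk, hcoe]
      exact conj_mem_map_conj k (hg (Subgroup.mem_zpowers _))
    have h2 : k * (t : G) * k⁻¹ ∈ C := hCn.conj_mem _ t.2 _
    have h3 : k * (t : G) * k⁻¹ ∈ (S : Subgroup G) ⊓ C := Subgroup.mem_inf.mpr ⟨h1, h2⟩
    rw [hSC, Subgroup.mem_bot] at h3
    have h4 : (t : G) = 1 := by
      have := congrArg (fun y => k⁻¹ * y * k) h3
      simpa [mul_assoc] using this
    rw [h4, orderOf_one] at ht'
    omega
  have hCO : C ≤ O := Cfsg.Agent.Helper22.le_pPrimeCore 2 C hCn hCodd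
  -- the image of z is central
  have hzc : (QuotientGroup.mk z : G ⧸ O) ∈ Subgroup.center (G ⧸ O) := by
    rw [Subgroup.mem_center_iff]
    intro g'
    obtain ⟨g, rfl⟩ := QuotientGroup.mk_surjective g'
    rw [← QuotientGroup.mk_mul, ← QuotientGroup.mk_mul, QuotientGroup.eq]
    apply hCO
    rw [Subgroup.mem_centralizer_iff]
    intro x hx
    have hOn : O.Normal := inferInstance
    have hzconj : ∀ x ∈ O, z⁻¹ * x⁻¹ * z = x := by
      intro x hx
      have e1 : z⁻¹ * x⁻¹ * z ∈ O := by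
        have := hOn.conj_mem _ (O.inv_mem hx) z⁻¹
        simpa using this
      have e2 := hzinv _ e1
      have e3 : z * (z⁻¹ * x⁻¹ * z) * z⁻¹ = x⁻¹ := by group
      rw [e3] at e2
      exact (inv_injective e2).symm
    have e1 : g * x * g⁻¹ ∈ O := hOn.conj_mem x hx g
    have e2 := hzinv _ e1
    have e5 : (g * z)⁻¹ * (z * g) * x = z⁻¹ * x⁻¹ * z * ((g * z)⁻¹ * (z * g)) := by
      calc (g * z)⁻¹ * (z * g) * x
          = z⁻¹ * g⁻¹ * (z * (g * x * g⁻¹) * z⁻¹) * z * g := by group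
        _ = z⁻¹ * g⁻¹ * (g * x * g⁻¹)⁻¹ * z * g := by rw [e2]
        _ = z⁻¹ * x⁻¹ * z * ((g * z)⁻¹ * (z * g)) := by group
    rw [e5, hzconj x hx]
  rw [hZ, Subgroup.mem_bot, QuotientGroup.eq_one_iff] at hzc
  have h3 : orderOf z ∣ Nat.card O := by
    have := orderOf_dvd_natCard (⟨z, hzc⟩ : O)
    rwa [Subgroup.orderOf_mk] at this
  rw [hz] at h3
  have h4 : 2 ∣ Nat.gcd (Nat.card O) 2 := Nat.dvd_gcd h3 dvd_rfl
  rw [hOodd] at h4
  omega

end Cfsg.Agent.S2898
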