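import Mathlib
import Cfsg.Statements.S2907

set_option autoImplicit false
open Cfsg

namespace Cfsg.Agent.S2907

open scoped commutatorElement in
theorem comm_mem_center {X : Type*} [Group X] (h : commutator X = Subgroup.center X) (x y : X) :
    x * y * x⁻¹ * y⁻¹ ∈ Subgroup.center X := by
  rw [← h, commutator_def]
  exact Subgroup.commutator_mem_commutator (Subgroup.mem_top x) (Subgroup.mem_top y)

/-- the commutator hom `y ↦ [x, y]` into the centre -/
def commHom {X : Type*} [Group X] (h : commutator X = Subgroup.center X) (x : X) :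
    X →* Subgroup.center X where
  toFun y := ⟨x * y * x⁻¹ * y⁻¹, comm_mem_center h x y⟩
  map_one' := by ext; simp
  map_mul' y1 y2 := by
    ext
    simp only [Subgroup.coe_mul]
    have hc := comm_mem_center h x y2
    rw [Subgroup.mem_center_iff] at hc
    have h1 := hc y1⁻¹
    calc x * (y1 * y2) * x⁻¹ * (y1 * y2)⁻¹
        = x * y1 * x⁻¹ * ((x * y2 * x⁻¹ * y2⁻¹) * y1⁻¹) := by group
      _ = x * y1 * x⁻¹ * (y1⁻¹ * (x * y2 * x⁻¹ * y2⁻¹)) := by rw [h1]
      _ = x * y1 * x⁻¹ * y1⁻¹ * (x * y2 * x⁻¹ * y2⁻¹) := by group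

theorem commHom_apply {X : Type*} [Group X] (h : commutator X = Subgroup.center X) (x y : X) :
    ((commHom h x y : Subgroup.center X) : X) = x * y * x⁻¹ * y⁻¹ := rfl

/-- Let X be a finite semi-extraspecial p-group and x an element of X outside the centre. Then the index of C_X(x) in X equals the order of Z(X), and the commutators [x, y], y ∈ X, form exactly the centre Z(X). -/
theorem result {X : Type*} [Group X] [Finite X] {p : ℕ} [Fact p.Prime] (hX : Cfsg.IsSemiExtraspecial p X) (x : X) (hx : x ∉ Subgroup.center X) : (Subgroup.centralizer ({x} : Set X)).index = Nat.card ↥(Subgroup.center X) ∧ {z : X | ∃ y : X, z = x * y * x⁻¹ * y⁻¹} = (Subgroup.center X : Set X) := by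
  obtain ⟨⟨hp, hfr, hcomm⟩, hY⟩ := hX
  set φ := commHom hcomm x with hφ
  have hker : φ.ker = Subgroup.centralizer ({x} : Set X) := by
    ext y
    rw [MonoidHom.mem_ker, Subgroup.mem_centralizer_iff]
    simp only [Set.mem_singleton_iff, forall_eq]
    constructor
    · intro h
      have h1 : x * y * x⁻¹ * y⁻¹ = 1 := congrArg Subtype.val h
      calc x * y = (x * y * x⁻¹ * y⁻¹) * (y * x) := by group
        _ = y * x := by rw [h1, one_mul]
    · intro h
      apply Subtype.ext
      show x * y * x⁻¹ * y⁻¹ = 1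
      rw [h]; group
  have hrange : φ.range = ⊤ := by
    by_contra hne
    obtain ⟨Y', hY'co, hle⟩ := (eq_top_or_exists_le_coatom φ.range).resolve_left hne
    set Y := Y'.map (Subgroup.center X).subtype with hYdef
    have hYle : Y ≤ Subgroup.center X := Subgroup.map_subtype_le Y'
    have hYsub : Y.subgroupOf (Subgroup.center X) = Y' :=
      Subgroup.comap_map_eq_self_of_injective (Subgroup.subtype_injective _) Y'
    obtain ⟨hYn, hES⟩ := hY Y hYle (hYsub ▸ hY'co)
    obtain ⟨-, hcard⟩ := hES
    -- image of x is central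
    have hxbar : (QuotientGroup.mk x : X ⧸ Y) ∈ Subgroup.center (X ⧸ Y) := by
      rw [Subgroup.mem_center_iff]
      intro g
      obtain ⟨y, rfl⟩ := QuotientGroup.mk_surjective g
      have hz : x * y * x⁻¹ * y⁻¹ ∈ Y := by
        refine Subgroup.mem_map.mpr ⟨φ y, hle ⟨y, rfl⟩, rfl⟩
      have hz1 : (QuotientGroup.mk (x * y * x⁻¹ * y⁻¹) : X ⧸ Y) = 1 :=
        (QuotientGroup.eq_one_iff _).mpr hz
      have : x * y = (x * y * x⁻¹ * y⁻¹) * (y * x) := by group
      calc (QuotientGroup.mk y : X ⧸ Y) * QuotientGroup.mk x = QuotientGroup.mk (y * x) := rfl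
        _ = QuotientGroup.mk (x * y * x⁻¹ * y⁻¹) * QuotientGroup.mk (y * x) := by
            rw [hz1, one_mul]
        _ = QuotientGroup.mk ((x * y * x⁻¹ * y⁻¹) * (y * x)) := rfl
        _ = QuotientGroup.mk (x * y) := by rw [← this]
        _ = QuotientGroup.mk x * QuotientGroup.mk y := rfl
    -- pick z0 in the centre outside Y
    obtain ⟨z0', hz0'⟩ : ∃ z : Subgroup.center X, z ∉ Y' := by
      by_contra hall
      push Not at hall
      exact hY'co.1 (eq_top_iff.mpr fun z _ => hall z)
    have hz0Y : (z0' : X) ∉ Y := by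
      intro hmem
      obtain ⟨w, hw, hwz⟩ := Subgroup.mem_map.mp hmem
      have : w = z0' := Subtype.ext hwz
      exact hz0' (this ▸ hw)
    have hz0c : (QuotientGroup.mk (z0' : X) : X ⧸ Y) ∈ Subgroup.center (X ⧸ Y) := by
      rw [Subgroup.mem_center_iff]
      intro g
      obtain ⟨y, rfl⟩ := QuotientGroup.mk_surjective g
      rw [← QuotientGroup.mk_mul, ← QuotientGroup.mk_mul, Subgroup.mem_center_iff.mp z0'.2 y]
    have hne1 : (⟨_, hz0c⟩ : Subgroup.center (X ⧸ Y)) ≠ 1 := by
      intro h
      have h1 : (QuotientGroup.mk (z0' : X) : X ⧸ Y) = 1 := congrArg Subtype.val h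
      exact hz0Y ((QuotientGroup.eq_one_iff _).mp h1)
    have hmem := mem_zpowers_of_prime_card hcard hne1 (g' := ⟨_, hxbar⟩)
    obtain ⟨k, hk⟩ := Subgroup.mem_zpowers_iff.mp hmem
    have hk' : (QuotientGroup.mk ((z0' : X) ^ k) : X ⧸ Y) = QuotientGroup.mk x := by
      have := congrArg Subtype.val hk
      simpa using this
    rw [QuotientGroup.eq] at hk'
    have h1 := hYle hk'
    have h2 : (z0' : X) ^ k ∈ Subgroup.center X := Subgroup.zpow_mem _ z0'.2 k
    have h3 := Subgroup.mul_mem _ h2 h1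
    rw [mul_inv_cancel_left] at h3
    exact hx h3
  refine ⟨?_, ?_⟩
  · rw [← hker, Subgroup.index_ker, hrange]
    exact Nat.card_congr Subgroup.topEquiv.toEquiv
  · ext z
    simp only [Set.mem_ofPred_eq, SetLike.mem_coe]
    constructor
    · rintro ⟨y, rfl⟩; exact comm_mem_center hcomm x y
    · intro hz
      have : (⟨z, hz⟩ : Subgroup.center X) ∈ φ.range := hrange ▸ Subgroup.mem_top _
      obtain ⟨y, hy⟩ := this
      exact ⟨y, (congrArg Subtype.val hy).symm⟩

end Cfsg.Agent.S2907
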