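import Mathlib
import Cfsg.Statements.S2908
import Cfsg.Agent.S0029
import Cfsg.Agent.Lib.Helper1.Coprime
import Cfsg.Agent.Lib.Helper1.CommutatorBasic
import Cfsg.Agent.Lib.Helper21.PGroupFrattini
import Cfsg.Agent.Lib.Helper15.SylowIn

set_option autoImplicit false
open Cfsg

namespace Cfsg.Agent.S2908

open scoped commutatorElement

/-- Let P be a p-subgroup of a finite group, normalized by a p-subgroup A and by a subgroup B of order prime to p that commutes elementwise with A. If [P, B] ≤ [P, A], then B centralizes P. -/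
theorem result {G : Type*} [Group G] [Finite G] {p : ℕ} [Fact p.Prime] (P A B : Subgroup G) (hP : IsPGroup p ↥P) (hA : IsPGroup p ↥A) (hB : ¬ p ∣ Nat.card ↥B) (hnA : A ≤ Subgroup.normalizer (P : Set G)) (hnB : B ≤ Subgroup.normalizer (P : Set G)) (hAB : ⁅A, B⁆ = ⊥) (hcomm : ⁅P, B⁆ ≤ ⁅P, A⁆) : ⁅P, B⁆ = ⊥ := by
  have hp : p.Prime := Fact.out
  -- elementwise commutation of A and B
  have hab : ∀ a ∈ A, ∀ b ∈ B, a * b = b * a := by
    intro a ha b hb
    have h1 : ⁅a, b⁆ ∈ ⁅A, B⁆ := Subgroup.commutator_mem_commutator ha hb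
    rw [hAB, Subgroup.mem_bot] at h1
    exact commutatorElement_eq_one_iff_mul_comm.mp h1
  -- the p-group X = P ⊔ A
  have hX : IsPGroup p ↥(P ⊔ A) := by
    rw [sup_comm]
    exact IsPGroup.to_sup_of_normal_right' hA hP hnA
  -- B normalizes X
  have hBA : B ≤ Subgroup.normalizer (A : Set G) := by
    intro b hb
    rw [Subgroup.mem_normalizer_iff]
    intro a
    constructor
    · intro ha
      have : b * a * b⁻¹ = a := by rw [← hab a ha b hb]; group
      rw [this]; exact ha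
    · intro ha
      have h2 := hab _ ha b hb
      have : a = b * a * b⁻¹ := by
        have h3 : b * a * b⁻¹ * b = b * (b * a * b⁻¹) := h2
        have h4 : b * a = b * (b * a * b⁻¹) := by rw [← h3]; group
        exact mul_left_cancel h4
      rw [this]; exact ha
  have hBX : B ≤ Subgroup.normalizer ((P ⊔ A : Subgroup G) : Set G) := by
    intro b hb
    have h1 := Subgroup.mem_normalizer_iff_map_conj_eq.mp (hnB hb)
    have h2 := Subgroup.mem_normalizer_iff_map_conj_eq.mp (hBA hb)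
    rw [Subgroup.mem_normalizer_iff_map_conj_eq, Subgroup.map_sup, h1, h2]
  -- coprimality
  have hcop : (Nat.card B).Coprime (Nat.card (frattini ↥(P ⊔ A))) := by
    obtain ⟨n, hn⟩ := IsPGroup.iff_card.mp hX
    have hd : Nat.card (frattini ↥(P ⊔ A)) ∣ p ^ n := hn ▸ Subgroup.card_subgroup_dvd_card _
    obtain ⟨m, -, hm⟩ := (Nat.dvd_prime_pow hp).mp hd
    rw [hm]
    exact Nat.Coprime.pow_right m ((Nat.Prime.coprime_iff_not_dvd hp).mpr hB).symm
  -- trivial action on the Frattini quotient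
  have htriv : ∀ b ∈ B, ∀ k ∈ P ⊔ A,
      b * k * b⁻¹ * k⁻¹ ∈ (frattini ↥(P ⊔ A)).map (P ⊔ A).subtype := by
    intro b hb k hk
    obtain ⟨x, hx, a, ha, rfl⟩ := Cfsg.Agent.Helper1.exists_mul_of_mem_sup hnA hk
    -- b (x a) b⁻¹ (x a)⁻¹ = [b,x] * x (b a b⁻¹ a⁻¹) x⁻¹ = [b, x]
    have h1 : b * (x * a) * b⁻¹ * (x * a)⁻¹ = ⁅b, x⁆ := by
      have : b * a * b⁻¹ = a := by rw [← hab a ha b hb]; group
      calc b * (x * a) * b⁻¹ * (x * a)⁻¹ = b * x * b⁻¹ * (b * a * b⁻¹) * a⁻¹ * x⁻¹ := by group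
        _ = b * x * b⁻¹ * a * a⁻¹ * x⁻¹ := by rw [this]
        _ = ⁅b, x⁆ := by rw [commutatorElement_def]; group
    rw [h1]
    have h2 : ⁅b, x⁆ ∈ ⁅P, A⁆ := by
      apply hcomm
      rw [Subgroup.commutator_comm]
      exact Subgroup.commutator_mem_commutator hb hx
    -- ⁅P, A⁆ ≤ image of the Frattini subgroup
    have h3 : ⁅P, A⁆ ≤ (frattini ↥(P ⊔ A)).map (P ⊔ A).subtype := by
      rw [Subgroup.commutator_le]
      intro u hu v hv
      have hu' : u ∈ P ⊔ A := (le_sup_left : P ≤ P ⊔ A) hu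
      have hv' : v ∈ P ⊔ A := (le_sup_right : A ≤ P ⊔ A) hv
      refine ⟨⟨u, hu'⟩ * ⟨v, hv'⟩ * ⟨u, hu'⟩⁻¹ * ⟨v, hv'⟩⁻¹,
        Cfsg.Agent.Helper21.commutator_mem_frattini_of_isPGroup hX _ _, ?_⟩
      simp [commutatorElement_def]
    exact h3 h2
  have hcent := Cfsg.Agent.S0029.result B (P ⊔ A) hBX hcop htriv
  rw [Subgroup.commutator_comm, Subgroup.commutator_eq_bot_iff_le_centralizer]
  exact hcent.trans (Subgroup.centralizer_le (by
    intro x hx
    exact (le_sup_left : P ≤ P ⊔ A) hx))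

end Cfsg.Agent.S2908
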