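import Mathlib
import Cfsg.Statements.S2909
import Cfsg.Agent.S2908
import Cfsg.Agent.Lib.Helper15.CoprimeGen2
import Cfsg.Agent.Lib.Helper7.Coprime
import Cfsg.Agent.Lib.Helper10.ThreeSub

set_option autoImplicit false
open Cfsg

namespace Cfsg.Agent.S2909

open scoped commutatorElement
open Cfsg.Agent.Helper15

/-- Let p be a prime, E a normal p-subgroup of the finite group G, and U a non-cyclic elementary abelian p-subgroup of G such that either C_E(U) = C_E(u) for every nontrivial u ∈ U, or [E, U] = [E, ⟨u⟩] for every nontrivial u ∈ U. If R is a subgroup of order prime to p normalized by U, then [R, U] centralizes E. -/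
theorem result {G : Type*} [Group G] [Finite G] {p : ℕ} [Fact p.Prime] (E : Subgroup G) [E.Normal] (hE : IsPGroup p ↥E) (U : Subgroup G) (hU : Cfsg.IsElementaryAbelian p U) (hnc : ¬ IsCyclic ↥U) (hcond : (∀ u ∈ U, u ≠ 1 → E ⊓ Subgroup.centralizer (U : Set G) = E ⊓ Subgroup.centralizer ({u} : Set G)) ∨ (∀ u ∈ U, u ≠ 1 → ⁅E, U⁆ = ⁅E, Subgroup.zpowers u⁆)) (R : Subgroup G) (hR : ¬ p ∣ Nat.card ↥R) (hRU : U ≤ Subgroup.normalizer (R : Set G)) : ⁅R, U⁆ ≤ Subgroup.centralizer (E : Set G) := by
  classical
  have hpp : p.Prime := Fact.out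
  have hUp : IsPGroup p ↥U := isPGroup_of_isElementaryAbelian hU
  have hUc : ∀ a ∈ U, ∀ b ∈ U, a * b = b * a := by
    intro a ha b hb
    have := hU.1.is_comm.comm (⟨a, ha⟩ : U) ⟨b, hb⟩
    exact congrArg Subtype.val this
  -- `p ^ 2 ≤ |U|`
  have hU2 : p ^ 2 ≤ Nat.card ↥U := by
    obtain ⟨n, hn⟩ := IsPGroup.iff_card.mp hUp
    rcases n with _ | _ | n
    · exfalso
      apply hnc
      rw [pow_zero] at hn
      haveI : Subsingleton ↥U := (Nat.card_eq_one_iff_unique.mp hn).1
      exact isCyclic_of_subsingleton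
    · exfalso
      apply hnc
      rw [zero_add, pow_one] at hn
      exact isCyclic_of_prime_card hn
    · rw [hn]
      exact Nat.pow_le_pow_right hpp.pos (by omega)
  have hRcop : (Nat.card ↥R).Coprime p := ((Nat.Prime.coprime_iff_not_dvd hpp).mpr hR).symm
  have hnormE : ∀ Y : Subgroup G, Y ≤ Subgroup.normalizer (E : Set G) := by
    intro Y
    apply Cfsg.Agent.Helper1.le_normalizer_of_forall_conj_mem
    intro g _ x hx
    exact ‹E.Normal›.conj_mem x hx g
  -- the subgroup of elements commuting with `U` modulo `C(E)`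
  set N : Subgroup G := Subgroup.centralizer (E : Set G) with hN
  haveI hNn : N.Normal := Subgroup.normal_centralizer
  set X : Subgroup G := (Subgroup.centralizer
    ((U.map (QuotientGroup.mk' N) : Subgroup (G ⧸ N)) : Set (G ⧸ N))).comap (QuotientGroup.mk' N)
    with hX
  have hXmem : ∀ r : G, r ∈ X ↔ ∀ u ∈ U, ⁅r, u⁆ ∈ N := by
    intro r
    rw [hX, Subgroup.mem_comap, Subgroup.mem_centralizer_iff]
    constructor
    · intro h u hu
      have h1 := h _ (Subgroup.mem_map_of_mem (QuotientGroup.mk' N) hu)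
      rw [← QuotientGroup.eq_one_iff, commutatorElement_def]
      have h2 : ((r * u * r⁻¹ * u⁻¹ : G) : G ⧸ N)
          = (QuotientGroup.mk' N r) * (QuotientGroup.mk' N u) * (QuotientGroup.mk' N r)⁻¹ *
            (QuotientGroup.mk' N u)⁻¹ := by
        simp
      rw [h2, ← h1]
      group
    · rintro h _ ⟨u, hu, rfl⟩
      have h1 := h u hu
      rw [← QuotientGroup.eq_one_iff, commutatorElement_def] at h1
      have h2 : ((r * u * r⁻¹ * u⁻¹ : G) : G ⧸ N)
          = (QuotientGroup.mk' N r) * (QuotientGroup.mk' N u) * (QuotientGroup.mk' N r)⁻¹ *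
            (QuotientGroup.mk' N u)⁻¹ := by
        simp
      rw [h2] at h1
      have h3 : (QuotientGroup.mk' N r) * (QuotientGroup.mk' N u)
          = ((QuotientGroup.mk' N r) * (QuotientGroup.mk' N u) * (QuotientGroup.mk' N r)⁻¹ *
            (QuotientGroup.mk' N u)⁻¹) * ((QuotientGroup.mk' N u) * (QuotientGroup.mk' N r)) := by
        group
      rw [h3, h1, one_mul]
  -- it suffices that `R ≤ X`
  suffices hRX : R ≤ X by
    rw [Subgroup.commutator_le]
    intro r hr u hu
    exact (hXmem r).mp (hRX hr) u hu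
  apply le_of_forall_ne_one_inf_centralizer_le hU hU2 hRcop hRU X
  intro u hu hu1
  set Ru : Subgroup G := R ⊓ Subgroup.centralizer ({u} : Set G) with hRu
  set A : Subgroup G := ⁅Ru, U⁆ with hA
  have hcz : Subgroup.centralizer ({u} : Set G)
      = Subgroup.centralizer ((Subgroup.zpowers u : Subgroup G) : Set G) := by
    rw [Subgroup.zpowers_eq_closure, Subgroup.centralizer_closure]
  have hUCu : U ≤ Subgroup.centralizer ({u} : Set G) := by
    intro v hv
    rw [mem_centralizer_singleton_iff]
    exact hUc v hv u hu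
  have hURu : U ≤ Subgroup.normalizer (Ru : Set G) := by
    refine le_trans ?_ (normalizer_inf_normalizer_le_normalizer_inf _ _)
    exact le_inf hRU (hUCu.trans Subgroup.le_normalizer)
  have hARu : A ≤ Ru := Cfsg.Agent.Helper1.commutator_le_of_le_normalizer hURu
  have hAR : A ≤ R := hARu.trans inf_le_left
  have hAu : A ≤ Subgroup.centralizer ((Subgroup.zpowers u : Subgroup G) : Set G) := by
    rw [← hcz]; exact hARu.trans inf_le_right
  have hAp : ¬ p ∣ Nat.card ↥A := fun h => hR (h.trans (Subgroup.card_dvd_of_le hAR))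
  have hzp : IsPGroup p ↥(Subgroup.zpowers u) := hUp.to_le (Subgroup.zpowers_le.mpr hu)
  have hRuz : Ru ≤ Subgroup.normalizer ((Subgroup.zpowers u : Subgroup G) : Set G) := by
    refine le_trans ?_ (Subgroup.centralizer_le_normalizer _)
    rw [← hcz]; exact inf_le_right
  -- key: `A` centralizes `E`
  have hAE : A ≤ N := by
    rcases hcond with h1 | h2
    · -- case 1
      have hEu := h1 u hu hu1
      set Eu : Subgroup G := E ⊓ Subgroup.centralizer ({u} : Set G) with hEudef
      have hEuU : ⁅Eu, U⁆ = ⊥ := by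
        rw [Subgroup.commutator_eq_bot_iff_le_centralizer, ← hEu]
        exact inf_le_right
      have hRuEu : Ru ≤ Subgroup.normalizer (Eu : Set G) := by
        refine le_trans ?_ (normalizer_inf_normalizer_le_normalizer_inf _ _)
        exact le_inf (hnormE _) (inf_le_right.trans Subgroup.le_normalizer)
      have e1 : ⁅⁅U, Eu⁆, Ru⁆ = ⊥ := by
        rw [Subgroup.commutator_comm U Eu, hEuU, Subgroup.commutator_bot_left]
      have e2 : ⁅⁅Eu, Ru⁆, U⁆ = ⊥ := by
        rw [eq_bot_iff, ← hEuU]
        exact Subgroup.commutator_mono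
          (Cfsg.Agent.Helper1.commutator_le_of_le_normalizer hRuEu) le_rfl
      have e3 : ⁅⁅Ru, U⁆, Eu⁆ = ⊥ := Subgroup.commutator_commutator_eq_bot_of_rotate e1 e2
      have e4 : A ≤ Subgroup.centralizer (Eu : Set G) :=
        Subgroup.commutator_eq_bot_iff_le_centralizer.mp e3
      have hnil : Group.IsNilpotent ↥(E ⊔ Subgroup.zpowers u) := by
        have : IsPGroup p ↥(E ⊔ Subgroup.zpowers u) := by
          rw [sup_comm]
          exact IsPGroup.to_sup_of_normal_right' hzp hE (hnormE _)
        exact this.isNilpotent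
      have hcop : (Nat.card ↥A).Coprime (Nat.card ↥E) := by
        obtain ⟨n, hn⟩ := IsPGroup.iff_card.mp hE
        rw [hn]
        exact Nat.Coprime.pow_right n ((Nat.Prime.coprime_iff_not_dvd hpp).mpr hAp).symm
      have hfin := Cfsg.Agent.Helper7.thompson_AxB E A (Subgroup.zpowers u) (hnormE _) (hnormE _)
        (Subgroup.commutator_eq_bot_iff_le_centralizer.mpr hAu) hcop hnil
        (by
          rw [← hcz]
          exact Subgroup.le_centralizer_iff.mp e4)
      exact Subgroup.le_centralizer_iff.mp hfin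
    · -- case 2
      have hM := h2 u hu hu1
      set M : Subgroup G := ⁅E, U⁆ with hMdef
      have hRuM : Ru ≤ Subgroup.normalizer (M : Set G) := by
        rw [hM]
        refine le_trans ?_
          (Cfsg.Agent.Helper1.normalizer_inf_normalizer_le_normalizer_commutator _ _)
        exact le_inf (hnormE _) hRuz
      have hUM : U ≤ Subgroup.normalizer (M : Set G) :=
        Cfsg.Agent.Helper1.le_normalizer_commutator_right E U
      have hEM : E ≤ Subgroup.normalizer (M : Set G) :=
        Cfsg.Agent.Helper1.le_normalizer_commutator_left E U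
      have e1 : ⁅⁅U, E⁆, Ru⁆ ≤ M := by
        rw [Subgroup.commutator_comm U E]
        exact Cfsg.Agent.Helper1.commutator_le_of_le_normalizer hRuM
      have e2 : ⁅⁅E, Ru⁆, U⁆ ≤ M :=
        Subgroup.commutator_mono
          (Cfsg.Agent.Helper1.commutator_le_of_le_normalizer (hnormE _)) le_rfl
      have e3 : ⁅⁅Ru, U⁆, E⁆ ≤ M :=
        Cfsg.Agent.Helper10.three_subgroups_mod hRuM hUM hEM e1 e2
      have e4 : ⁅E, A⁆ ≤ ⁅E, Subgroup.zpowers u⁆ := by
        rw [← hM, Subgroup.commutator_comm E A]
        exact e3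
      have hzA : ⁅Subgroup.zpowers u, A⁆ = ⊥ := by
        rw [Subgroup.commutator_comm]
        exact Subgroup.commutator_eq_bot_iff_le_centralizer.mpr hAu
      have hfin := Cfsg.Agent.S2908.result E (Subgroup.zpowers u) A hE hzp hAp (hnormE _)
        (hnormE _) hzA e4
      rw [Subgroup.commutator_comm] at hfin
      exact Subgroup.commutator_eq_bot_iff_le_centralizer.mp hfin
  -- conclude
  intro r hr
  rw [hXmem]
  intro v hv
  exact hAE (Subgroup.commutator_mem_commutator hr hv)

end Cfsg.Agent.S2909
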