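import Mathlib
import Cfsg.Statements.S2912
import Cfsg.Agent.Lib.Helper15.ExtraModule5

set_option autoImplicit false
open Cfsg

namespace Cfsg.Agent.S2912

open Cfsg.Agent.Helper15 Cfsg.Agent.Helper15.ExtraMod
open scoped commutatorElement

/-- an extraspecial subgroup with its centre is an extraspecial-like pair -/
theorem sympl_of_isExtraspecial {G : Type*} [Group G] {p : ℕ} (E : Subgroup G)
    (hE : Cfsg.IsExtraspecial p ↥E) :
    Sympl p E ((Subgroup.center ↥E).map E.subtype) where
  le := Subgroup.map_subtype_le _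
  card := by
    rw [Subgroup.card_map_of_injective E.subtype_injective]
    exact hE.2
  central := by
    rintro g hg _ ⟨c, hc, rfl⟩
    have h1 := Subgroup.mem_center_iff.mp hc ⟨g, hg⟩
    exact congrArg Subtype.val h1
  comm_mem := by
    intro g hg h hh
    refine ⟨⁅(⟨g, hg⟩ : ↥E), ⟨h, hh⟩⁆, ?_, rfl⟩
    rw [← hE.1.2.2, commutator_def]
    exact Subgroup.commutator_mem_commutator (Subgroup.mem_top _) (Subgroup.mem_top _)
  center_le := by
    intro g hg hcomm
    refine ⟨⟨g, hg⟩, ?_, rfl⟩
    rw [SetLike.mem_coe, Subgroup.mem_center_iff]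
    intro h
    exact Subtype.ext (hcomm h h.2).symm

section Abstract

variable {A : Type*} [CommGroup A]

theorem nrm_comm (p : ℕ) {σ τ : MulAut A} (hc : Commute σ τ) (a : A) :
    nrm p τ (σ a) = σ (nrm p τ a) := by
  unfold nrm
  rw [map_prod]
  apply Finset.prod_congr rfl
  intro m _
  have h1 : τ ^ m * σ = σ * τ ^ m := ((hc.pow_right m).eq).symm
  have h2 := congrArg (fun f : MulAut A => f a) h1
  exact h2

end Abstract

/-- Let p and r be distinct primes, let E be an extraspecial subgroup of order p^(2w+1) of a finite group, and let A be an elementary abelian r-subgroup normalized by E on which E acts faithfully (C_E(A) = 1). If n ≥ 1 is least with p dividing rⁿ − 1 (the smallest dimension of a faithful representation of a group of order p over the field with r elements), then the order of A is at least r^(n·p^w). -/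
theorem result {G : Type*} [Group G] [Finite G] {p r : ℕ} [Fact p.Prime] [hr : Fact r.Prime] (hpr : p ≠ r) (E A : Subgroup G) (w : ℕ) (hE : Cfsg.IsExtraspecial p ↥E) (hEcard : Nat.card ↥E = p ^ (2 * w + 1)) (hA : Cfsg.IsElementaryAbelian r A) (hnorm : E ≤ Subgroup.normalizer (A : Set G)) (hfaith : E ⊓ Subgroup.centralizer (A : Set G) = ⊥) (n : ℕ) (hn : 1 ≤ n) (hdiv : p ∣ r ^ n - 1) (hmin : ∀ k : ℕ, 1 ≤ k → p ∣ r ^ k - 1 → n ≤ k) : r ^ (n * p ^ w) ≤ Nat.card ↥A := by
  have hp : p.Prime := Fact.out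
  have hrp : r.Prime := Fact.out
  have hS := sympl_of_isExtraspecial E hE
  set Z := (Subgroup.center ↥E).map E.subtype with hZdef
  obtain ⟨z, hzZ, hz1⟩ := hS.exists_ne_one
  have hzE : z ∈ E := hS.le hzZ
  have hAc : IsMulCommutative ↥A := hA.1
  letI : CommGroup ↥A := { (inferInstance : Group ↥A) with mul_comm := fun a b => mul_comm' a b }
  obtain ⟨k, hk⟩ := (isPGroup_of_isElementaryAbelian hA).exists_card_eq
  have hcop : (Nat.card ↥A).Coprime p := by
    rw [hk]
    exact Nat.Coprime.pow_left k ((Nat.coprime_primes hrp hp).mpr (Ne.symm hpr))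
  set τ : MulAut ↥A := Subgroup.normalizerMonoidHom A ⟨z, hnorm hzE⟩ with hτdef
  have hτ : τ ^ p = 1 := by
    rw [hτdef, ← map_pow]
    have : (⟨z, hnorm hzE⟩ : Subgroup.normalizer (A : Set G)) ^ p = 1 :=
      Subtype.ext (by simpa using hS.pow_p_eq_one hzZ)
    rw [this, map_one]
  have hτapply : ∀ a : ↥A, ((τ a : ↥A) : G) = z * a * z⁻¹ := fun a => rfl
  let nrmHom : ↥A →* ↥A :=
    { toFun := nrm p τ
      map_one' := nrm_one p τ
      map_mul' := nrm_mul p τ }
  have hnrmHom : ∀ a : ↥A, nrmHom a = nrm p τ a := fun a => rfl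
  set K : Subgroup ↥A := nrmHom.ker with hKdef
  set A₁ : Subgroup G := K.map A.subtype with hA₁def
  have hA₁A : A₁ ≤ A := Subgroup.map_subtype_le _
  have hA₁ : Cfsg.IsElementaryAbelian r A₁ := isElementaryAbelian_of_le hA₁A hA
  -- `E` normalizes `A₁`
  have hnorm₁ : E ≤ Subgroup.normalizer (A₁ : Set G) := by
    apply Cfsg.Agent.Helper1.le_normalizer_of_forall_conj_mem
    rintro g hg _ ⟨a, ha, rfl⟩
    set σ : MulAut ↥A := Subgroup.normalizerMonoidHom A ⟨g, hnorm hg⟩ with hσdef
    have hc : Commute σ τ := by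
      show σ * τ = τ * σ
      rw [hσdef, hτdef, ← map_mul, ← map_mul]
      congr 1
      exact Subtype.ext (hS.central g hg z hzZ)
    refine ⟨σ a, ?_, rfl⟩
    rw [SetLike.mem_coe, hKdef, MonoidHom.mem_ker, hnrmHom, nrm_comm p hc]
    have h1 : nrm p τ a = 1 := ha
    rw [h1, map_one]
  -- `Z` acts without fixed points on `A₁`
  have hfix : ∀ t ∈ Z, t ≠ 1 → ∀ a ∈ A₁, t * a = a * t → a = 1 := by
    rintro t ht ht1 _ ⟨b, hb, rfl⟩ hta
    obtain ⟨j, hj⟩ := hS.exists_pow_eq ht ht1 hzZ
    have hc : Commute t (A.subtype b) := hta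
    have hcz : Commute z (A.subtype b) := by
      rw [← hj]
      exact hc.pow_left j
    have hτb : τ b = b := by
      apply Subtype.ext
      rw [hτapply]
      have h2 : z * (b : G) = b * z := hcz.eq
      rw [h2]
      group
    have h3 : nrm p τ b = 1 := hb
    rw [nrm_of_fixed hτb] at h3
    have h4 := eq_one_of_pow_eq_one_of_coprime (p := p) hcop h3
    rw [h4, map_one]
  -- `A₁` is not trivial
  have hne : A₁ ≠ ⊥ := by
    intro hbot
    have hKbot : K = ⊥ :=
      (Subgroup.map_eq_bot_iff_of_injective K A.subtype_injective).mp hbot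
    apply hz1
    have hzmem : z ∈ E ⊓ Subgroup.centralizer (A : Set G) := by
      refine Subgroup.mem_inf.mpr ⟨hzE, ?_⟩
      rw [Subgroup.mem_centralizer_iff]
      intro a ha
      have hb : (⟨a, ha⟩ : ↥A)⁻¹ * τ ⟨a, ha⟩ ∈ K := by
        rw [hKdef, MonoidHom.mem_ker, hnrmHom, nrm_mul, nrm_inv,
          nrm_comm p (Commute.refl τ), nrm_fixed hτ, inv_mul_cancel]
      rw [hKbot, Subgroup.mem_bot] at hb
      have h1 : τ ⟨a, ha⟩ = ⟨a, ha⟩ := by
        have := congrArg (fun x => (⟨a, ha⟩ : ↥A) * x) hb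
        simpa using this
      have h2 : z * a * z⁻¹ = a := congrArg Subtype.val h1
      calc a * z = (z * a * z⁻¹) * z := by rw [h2]
        _ = z * a := by group
    rw [hfaith, Subgroup.mem_bot] at hzmem
    exact hzmem
  have hmain := main_bound hpr hmin w E Z A₁ hS hEcard.ge hA₁ hne hnorm₁ hfix
  exact hmain.trans (Subgroup.card_le_of_le hA₁A)

end Cfsg.Agent.S2912
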