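import Mathlib
import Cfsg.Statements.S2922
import Cfsg.Agent.Lib.Helper15.CharPAmbient

set_option autoImplicit false
open Cfsg

namespace Cfsg.Agent.S2922

open Cfsg.Agent.Helper15

theorem normalizer_le_normalizer_centralizer {X : Type*} [Group X] (B : Subgroup X) :
    Subgroup.normalizer (B : Set X) ≤
      Subgroup.normalizer ((Subgroup.centralizer (B : Set X) : Subgroup X) : Set X) := by
  intro l hl
  apply mem_normalizer_of_map_conj_eq
  rw [← centralizer_map_conj, map_conj_eq_of_mem_normalizer hl]

/-- Let p be a prime, X a finite group, B a p-subgroup of X and C a normal subgroup of B. If N_X(C) has characteristic p (its generalized Fitting subgroup is O_p(N_X(C))), then N_X(B) and C_X(B) have characteristic p. -/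
theorem result {X : Type*} [Group X] [Finite X] {p : ℕ} [Fact p.Prime] (B C : Subgroup X) (hB : IsPGroup p ↥B) (hCB : C ≤ B) (hCn : (C.subgroupOf B).Normal) (hC : Cfsg.generalizedFittingSubgroup ↥(Subgroup.normalizer (C : Set X)) = Cfsg.pCore p ↥(Subgroup.normalizer (C : Set X))) : Cfsg.generalizedFittingSubgroup ↥(Subgroup.normalizer (B : Set X)) = Cfsg.pCore p ↥(Subgroup.normalizer (B : Set X)) ∧ Cfsg.generalizedFittingSubgroup ↥(Subgroup.centralizer (B : Set X)) = Cfsg.pCore p ↥(Subgroup.centralizer (B : Set X)) := by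
  have hN : CharPIn p (Subgroup.normalizer (C : Set X)) :=
    charPIn_iff.mpr (Cfsg.Agent.Helper7.centralizer_pCore_le_of_generalizedFittingSubgroup_eq p hC)
  have hBN : B ≤ Subgroup.normalizer (C : Set X) :=
    (Subgroup.normal_subgroupOf_iff_le_normalizer hCB).mp hCn
  have hM : CharPIn p (Subgroup.normalizer (C : Set X) ⊓ Subgroup.normalizer (B : Set X)) :=
    hN.inf_normalizer hBN hB
  have hBcore : B ≤ pCoreOf p (Subgroup.normalizer (B : Set X)) :=
    Cfsg.Agent.Helper14.le_pCoreOf Subgroup.le_normalizer le_rfl hB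
  have hL : CharPIn p (Subgroup.normalizer (B : Set X)) := by
    apply CharPIn.of_centralizer_le hM inf_le_right
    intro x hx
    rw [Subgroup.mem_inf] at hx ⊢
    refine ⟨?_, hx.1⟩
    apply Subgroup.centralizer_le_normalizer
    exact Subgroup.centralizer_le (SetLike.coe_subset_coe.2 (hCB.trans hBcore)) hx.2
  have hL' : CharPIn p (Subgroup.centralizer (B : Set X)) :=
    hL.of_le_normalizer (Subgroup.centralizer_le_normalizer _)
      (normalizer_le_normalizer_centralizer B)
  exact ⟨Cfsg.Agent.Helper7.generalizedFittingSubgroup_eq_pCore_of_centralizer_le p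
      (charPIn_iff.mp hL),
    Cfsg.Agent.Helper7.generalizedFittingSubgroup_eq_pCore_of_centralizer_le p
      (charPIn_iff.mp hL')⟩

end Cfsg.Agent.S2922
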