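import Mathlib
import Cfsg.Statements.S2925
import Cfsg.Agent.S0542
import Cfsg.Agent.Lib.Helper7.Layer
import Cfsg.Agent.Lib.Helper7.FStar
import Cfsg.Agent.Lib.Helper15.SylowIn
import Cfsg.Agent.Lib.Helper15.SylowGraph

set_option autoImplicit false
open Cfsg

namespace Cfsg.Agent.S2925

open Cfsg.Agent.Helper15

/-- Let K be a component of the finite group X and T a Sylow 2-subgroup of X. If some abelian normal subgroup Y of T does not normalize K, then K ⧸ Z(K) has abelian Sylow 2-subgroups. -/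
theorem result {X : Type*} [Group X] [Finite X] (K : Subgroup X) (hK : Cfsg.IsComponent K) (T : Sylow 2 X) (Y : Subgroup X) (hYT : Y ≤ (T : Subgroup X)) (hYn : (Y.subgroupOf (T : Subgroup X)).Normal) (hYab : IsMulCommutative ↥Y) (hnot : ¬ Y ≤ Subgroup.normalizer (K : Set X)) (P : Sylow 2 (↥K ⧸ Subgroup.center ↥K)) : IsMulCommutative ↥(P : Subgroup (↥K ⧸ Subgroup.center ↥K)) := by
  classical
  haveI : Fact (Nat.Prime 2) := ⟨Nat.prime_two⟩
  -- an element of `Y` moving `K`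
  obtain ⟨y, hyY, hyK⟩ : ∃ y ∈ Y, y ∉ Subgroup.normalizer (K : Set X) := by
    by_contra h
    push Not at h
    exact hnot h
  set Ky : Subgroup X := K.map (MulAut.conj y).toMonoidHom with hKy
  have hKy_comp : Cfsg.IsComponent Ky := Cfsg.Agent.Helper7.isComponent_map_mulEquiv (MulAut.conj y) hK
  have hne : K ≠ Ky := by
    intro h
    exact hyK (mem_normalizer_of_map_conj_eq h.symm)
  have hcomm : ⁅K, Ky⁆ = ⊥ :=
    Cfsg.Agent.Helper7.component_commutator_eq_bot_of_ne hK hKy_comp hne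
  have hKC : K ≤ Subgroup.centralizer (Ky : Set X) :=
    Subgroup.commutator_eq_bot_iff_le_centralizer.mp hcomm
  have hcm : ∀ k ∈ K, ∀ u ∈ Ky, k * u = u * k := by
    intro k hk u hu
    exact ((Subgroup.mem_centralizer_iff.mp (hKC hk)) u hu).symm
  -- key computation
  have hkey : ∀ a ∈ (T : Subgroup X), a ∈ K → ∀ b ∈ (T : Subgroup X), b ∈ K →
      a⁻¹ * b⁻¹ * a * b ∈ Ky := by
    intro a haT haK b hbT hbK
    have hua : y * a⁻¹ * y⁻¹ ∈ Ky := ⟨a⁻¹, K.inv_mem haK, rfl⟩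
    have hub : y * b⁻¹ * y⁻¹ ∈ Ky := ⟨b⁻¹, K.inv_mem hbK, rfl⟩
    have hca : a * (y * a⁻¹ * y⁻¹) ∈ Y := by
      have h1 := hYn.conj_mem ⟨y, hYT hyY⟩ (Subgroup.mem_subgroupOf.mpr hyY) ⟨a, haT⟩
      have h2 : a * y * a⁻¹ ∈ Y := Subgroup.mem_subgroupOf.mp h1
      have e : a * (y * a⁻¹ * y⁻¹) = (a * y * a⁻¹) * y⁻¹ := by group
      rw [e]
      exact Y.mul_mem h2 (Y.inv_mem hyY)
    have hcb : b * (y * b⁻¹ * y⁻¹) ∈ Y := by
      have h1 := hYn.conj_mem ⟨y, hYT hyY⟩ (Subgroup.mem_subgroupOf.mpr hyY) ⟨b, hbT⟩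
      have h2 : b * y * b⁻¹ ∈ Y := Subgroup.mem_subgroupOf.mp h1
      have e : b * (y * b⁻¹ * y⁻¹) = (b * y * b⁻¹) * y⁻¹ := by group
      rw [e]
      exact Y.mul_mem h2 (Y.inv_mem hyY)
    have hab : a * (y * a⁻¹ * y⁻¹) * (b * (y * b⁻¹ * y⁻¹))
        = b * (y * b⁻¹ * y⁻¹) * (a * (y * a⁻¹ * y⁻¹)) := by
      have := hYab.is_comm.comm (⟨_, hca⟩ : Y) ⟨_, hcb⟩
      exact congrArg Subtype.val this
    set ua := y * a⁻¹ * y⁻¹ with hua_def
    set ub := y * b⁻¹ * y⁻¹ with hub_def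
    have h1 : a * b * (ua * ub) = b * a * (ub * ua) := by
      calc a * b * (ua * ub) = a * (b * ua) * ub := by group
        _ = a * (ua * b) * ub := by rw [hcm b hbK ua hua]
        _ = a * ua * (b * ub) := by group
        _ = b * ub * (a * ua) := hab
        _ = b * (ub * a) * ua := by group
        _ = b * (a * ub) * ua := by rw [hcm a haK ub hub]
        _ = b * a * (ub * ua) := by group
    have h2 : a⁻¹ * b⁻¹ * a * b = ub * ua * (ua * ub)⁻¹ := by
      have : a * b = b * a * (ub * ua) * (ua * ub)⁻¹ := by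
        rw [← h1]; group
      calc a⁻¹ * b⁻¹ * a * b = a⁻¹ * b⁻¹ * (a * b) := by group
        _ = a⁻¹ * b⁻¹ * (b * a * (ub * ua) * (ua * ub)⁻¹) := by rw [← this]
        _ = ub * ua * (ua * ub)⁻¹ := by group
    rw [h2]
    exact Ky.mul_mem (Ky.mul_mem hub hua) (Ky.inv_mem (Ky.mul_mem hua hub))
  -- the Sylow subgroup `T ∩ K` of `K`
  obtain ⟨Q₀, hQ₀⟩ := Cfsg.Agent.S0542.result 2 K hK.1 T
  set π : ↥K →* ↥K ⧸ Subgroup.center ↥K := QuotientGroup.mk' (Subgroup.center ↥K) with hπ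
  have hπs : Function.Surjective π := QuotientGroup.mk'_surjective _
  set P₀ : Sylow 2 (↥K ⧸ Subgroup.center ↥K) := Q₀.mapSurjective hπs with hP₀
  have hP₀comm : IsMulCommutative ↥(P₀ : Subgroup (↥K ⧸ Subgroup.center ↥K)) := by
    refine ⟨⟨?_⟩⟩
    rintro ⟨_, ⟨a, ha, rfl⟩⟩ ⟨_, ⟨b, hb, rfl⟩⟩
    apply Subtype.ext
    show π a * π b = π b * π a
    have haT : (a : X) ∈ (T : Subgroup X) := by
      have : a ∈ (Q₀ : Subgroup ↥K) := ha
      rw [hQ₀] at this
      exact Subgroup.mem_subgroupOf.mp this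
    have hbT : (b : X) ∈ (T : Subgroup X) := by
      have : b ∈ (Q₀ : Subgroup ↥K) := hb
      rw [hQ₀] at this
      exact Subgroup.mem_subgroupOf.mp this
    have hm : a⁻¹ * b⁻¹ * a * b ∈ Subgroup.center ↥K := by
      rw [Subgroup.mem_center_iff]
      intro k
      apply Subtype.ext
      have h1 := hkey a haT a.2 b hbT b.2
      have h2 := hcm k k.2 _ h1
      simpa using h2
    have h3 : π (a⁻¹ * b⁻¹ * a * b) = 1 := by
      rw [hπ, QuotientGroup.mk'_apply, QuotientGroup.eq_one_iff]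
      exact hm
    rw [map_mul, map_mul, map_mul, map_inv, map_inv] at h3
    calc π a * π b = π b * π a * ((π a)⁻¹ * (π b)⁻¹ * π a * π b) := by group
      _ = π b * π a := by rw [h3, mul_one]
  obtain ⟨g, hg⟩ := MulAction.exists_smul_eq (↥K ⧸ Subgroup.center ↥K) P₀ P
  rw [← hg, sylow_coe_smul_eq_map]
  infer_instance

end Cfsg.Agent.S2925
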