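import Mathlib
import Cfsg.Statements.S2929
import Cfsg.Agent.Lib.Helper7.FStar
import Cfsg.Agent.Lib.Helper7.Components2
import Cfsg.Agent.Lib.Helper7.Quasisimple
import Cfsg.Agent.Lib.Helper15.SylowIn
import Cfsg.Agent.Lib.Helper15.ThreeCyc3

set_option autoImplicit false
set_option linter.style.haveILetI false
set_option linter.unusedVariables false
open Cfsg

namespace Cfsg.Agent.S2929

open Equiv Equiv.Perm Cfsg.Agent.Helper15 Cfsg.Agent.Helper15.ThreeCyc Cfsg.Agent.Helper7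

/-- permutations stabilizing a finset -/
def stabF {α : Type*} [Fintype α] [DecidableEq α] (D : Finset α) : Subgroup (Perm α) where
  carrier := {σ | ∀ x, x ∈ D ↔ σ x ∈ D}
  mul_mem' := by intro a b ha hb x; rw [Perm.mul_apply, hb x, ha (b x)]
  one_mem' := by intro x; simp
  inv_mem' := by intro a ha x; rw [ha (a⁻¹ x)]; simp

/-- Let n ≥ 5 and let H be a subgroup of the symmetric group of degree n whose generalized Fitting subgroup F*(H) is quasisimple. If H contains a Sylow 3-subgroup of the symmetric group, then F*(H) is isomorphic to an alternating group of degree m for some m ∈ {n − 2, n − 1, n}. -/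
theorem result (n : ℕ) (hn : 5 ≤ n) (H : Subgroup (Equiv.Perm (Fin n))) (hF : Cfsg.IsQuasisimple ↥(Cfsg.generalizedFittingSubgroup ↥H)) (hS : ∃ P : Sylow 3 (Equiv.Perm (Fin n)), (P : Subgroup (Equiv.Perm (Fin n))) ≤ H) : ∃ m : ℕ, (m = n - 2 ∨ m = n - 1 ∨ m = n) ∧ Nonempty (↥(Cfsg.generalizedFittingSubgroup ↥H) ≃* ↥(alternatingGroup (Fin m))) := by
  classical
  obtain ⟨P, hPH⟩ := hS
  set K₀ := Cfsg.generalizedFittingSubgroup ↥H with hK₀
  haveI hK₀n : K₀.Normal := by
    haveI := generalizedFittingSubgroup_characteristic (G := ↥H)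
    exact Subgroup.normal_of_characteristic K₀
  haveI hperf : Group.IsPerfect ↥K₀ := hF.1
  have hcent : Subgroup.centralizer (K₀ : Set ↥H) ≤ K₀ :=
    centralizer_generalizedFittingSubgroup_le
  have hcomp : Cfsg.IsComponent K₀ := ⟨hK₀n.isSubnormal, hF⟩
  let ι : ↥K₀ →* Perm (Fin n) := H.subtype.comp K₀.subtype
  let Δ : Finset (Fin n) := Finset.univ.filter (fun x => ∃ k : ↥K₀, ι k x ≠ x)
  have hΔ : ∀ x, x ∈ Δ ↔ ∃ k : ↥K₀, ι k x ≠ x := by
    intro x; simp [Δ]
  have hconj : ∀ h ∈ H, ∀ k : ↥K₀, ∃ k' : ↥K₀, ι k' = h * ι k * h⁻¹ := by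
    intro h hh k
    exact ⟨⟨⟨h, hh⟩ * k.1 * ⟨h, hh⟩⁻¹, hK₀n.conj_mem k.1 k.2 _⟩, rfl⟩
  have hΔstab1 : ∀ h ∈ H, ∀ x, x ∈ Δ → h x ∈ Δ := by
    intro h hh x hx
    rw [hΔ] at hx ⊢
    obtain ⟨k, hk⟩ := hx
    obtain ⟨k', hk'⟩ := hconj h hh k
    refine ⟨k', ?_⟩
    rw [hk']
    simp only [Perm.mul_apply]
    intro h2
    apply hk
    have h3 := h.injective h2
    simpa using h3
  have hΔstab : ∀ h ∈ H, ∀ x, x ∈ Δ ↔ h x ∈ Δ := by
    intro h hh x
    refine ⟨hΔstab1 h hh x, fun hx => ?_⟩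
    have := hΔstab1 h⁻¹ (H.inv_mem hh) _ hx
    simpa using this
  have hfix : ∀ h ∈ H, (∀ x ∈ Δ, h x = x) → h = 1 := by
    intro h hh hfixΔ
    have hmem : (⟨h, hh⟩ : ↥H) ∈ Subgroup.centralizer (K₀ : Set ↥H) := by
      rw [Subgroup.mem_centralizer_iff]
      intro k hk
      apply Subtype.ext
      show (k : Perm (Fin n)) * h = h * (k : Perm (Fin n))
      have hdis : Perm.Disjoint (k : Perm (Fin n)) h := by
        intro x
        by_cases hx : x ∈ Δ
        · right; exact hfixΔ x hx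
        · left
          by_contra hkx
          exact hx ((hΔ x).2 ⟨⟨k, hk⟩, hkx⟩)
      exact hdis.commute.eq
    have hK : (⟨h, hh⟩ : ↥H) ∈ K₀ := hcent hmem
    by_contra hne
    obtain ⟨x, hx⟩ : ∃ x, h x ≠ x := by
      by_contra hall
      push Not at hall
      exact hne (Perm.ext hall)
    have hxΔ : x ∈ Δ := (hΔ x).2 ⟨⟨⟨h, hh⟩, hK⟩, hx⟩
    exact hx (hfixΔ x hxΔ)
  haveI : Fact (Nat.Prime 3) := ⟨Nat.prime_three⟩
  have hHY : H ≤ stabF Δ := fun h hh => hΔstab h hh
  have hPY : (P : Subgroup (Perm (Fin n))) ≤ stabF Δ := hPH.trans hHY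
  have hsylconj : ∀ c₁ : Perm (Fin n), c₁.IsThreeCycle → c₁ ∈ stabF Δ →
      ∃ y ∈ stabF Δ, y * c₁ * y⁻¹ ∈ (P : Subgroup (Perm (Fin n))) := by
    intro c₁ hc3 hcY
    have hQ : IsPGroup 3 (Subgroup.zpowers c₁) := by
      apply IsPGroup.of_card (n := 1)
      rw [Nat.card_zpowers, hc3.orderOf]; norm_num
    have hQY : Subgroup.zpowers c₁ ≤ stabF Δ := by
      rw [Subgroup.zpowers_le]; exact hcY
    obtain ⟨T, hQT, hT⟩ := exists_isSylowIn_ge hQ hQY
    obtain ⟨y, hyY, hy⟩ := hT.exists_conj (isSylowIn_of_sylow_le P hPY)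
    refine ⟨y, hyY, ?_⟩
    rw [← hy]
    exact Subgroup.mem_map.2 ⟨c₁, hQT (Subgroup.mem_zpowers c₁), rfl⟩
  have hcompl : (Finset.univ \ Δ).card ≤ 2 := by
    by_contra hgt
    push Not at hgt
    obtain ⟨a, ha, b, hb, c, hc, hab, hac, hbc⟩ := Finset.two_lt_card.1 hgt
    obtain ⟨c₁, hc3, -, hcs⟩ := exists_threeCycle hab hac hbc
    have hfixc : ∀ x ∈ Δ, c₁ x = x := by
      intro x hx
      apply notMem_support.1
      intro hxs
      have := hcs hxs
      simp only [Finset.mem_insert, Finset.mem_singleton] at this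
      rcases this with rfl | rfl | rfl
      · exact (Finset.mem_sdiff.1 ha).2 hx
      · exact (Finset.mem_sdiff.1 hb).2 hx
      · exact (Finset.mem_sdiff.1 hc).2 hx
    have hcY : c₁ ∈ stabF Δ := by
      intro x
      by_cases hx : x ∈ Δ
      · rw [hfixc x hx]
      · constructor
        · intro h; exact absurd h hx
        · intro h
          have h1 := hfixc _ h
          have h2 := c₁.injective h1
          rw [h2] at h; exact h
    obtain ⟨y, hyY, hyP⟩ := hsylconj c₁ hc3 hcY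
    have h1 : y * c₁ * y⁻¹ = 1 := by
      apply hfix _ (hPH hyP)
      intro x hx
      have hyx : y⁻¹ x ∈ Δ := ((stabF Δ).inv_mem hyY x).1 hx
      simp only [Perm.mul_apply]
      rw [hfixc _ hyx]; simp
    have h2 : c₁ = 1 := by
      have := congrArg (fun z => y⁻¹ * z * y) h1
      simpa [mul_assoc] using this
    exact hc3.ne_one h2
  have hΔcard : n ≤ Δ.card + 2 := by
    have := Finset.card_sdiff_add_card_eq_card (Finset.subset_univ Δ)
    rw [Finset.card_univ, Fintype.card_fin] at this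
    omega
  obtain ⟨c, hcH, hc3, hcΔ⟩ : ∃ c ∈ H, c.IsThreeCycle ∧ c.support ⊆ Δ := by
    obtain ⟨a, ha, b, hb, c', hc', hab, hac, hbc⟩ :=
      Finset.two_lt_card.1 (by omega : 2 < Δ.card)
    obtain ⟨c₁, hc13, -, hcs⟩ := exists_threeCycle hab hac hbc
    have hcsΔ : c₁.support ⊆ Δ := by
      refine hcs.trans ?_
      intro z hz
      simp only [Finset.mem_insert, Finset.mem_singleton] at hz
      rcases hz with rfl | rfl | rfl <;> assumption
    have hcY : c₁ ∈ stabF Δ := stable_of_support_subset hcsΔ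
    obtain ⟨y, hyY, hyP⟩ := hsylconj c₁ hc13 hcY
    refine ⟨y * c₁ * y⁻¹, hPH hyP, isThreeCycle_conj y hc13, ?_⟩
    intro x hx
    rw [mem_support_conj] at hx
    have h1 := hcsΔ hx
    have h2 := (hyY (y⁻¹ x)).1 h1
    simpa using h2
  obtain ⟨x₀, hx₀⟩ : c.support.Nonempty := by
    rw [← Finset.card_pos, hc3.card_support]; norm_num
  have hZ : (∀ k : ↥K₀, ι k * c = c * ι k) → False := by
    intro hcomm
    have hstab : ∀ (k : ↥K₀) x, x ∈ c.support ↔ ι k x ∈ c.support := by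
      intro k x
      rw [mem_support, mem_support]
      have h1 : c (ι k x) = ι k (c x) := by
        have := congrArg (fun f : Perm (Fin n) => f x) (hcomm k)
        simpa [Perm.mul_apply] using this.symm
      rw [h1]
      exact ⟨fun h h2 => h ((ι k).injective h2), fun h h2 => h (by rw [h2])⟩
    have hfixK := fixes_of_perfect ι c.support (by rw [hc3.card_support]; norm_num) hstab
    obtain ⟨k, hk⟩ := (hΔ x₀).1 (hcΔ hx₀)
    exact hk (hfixK k x₀ hx₀)
  let T₀ : Set ↥H := {t | (t : Perm (Fin n)).IsThreeCycle}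
  let N₀ : Subgroup ↥H := Subgroup.normalClosure T₀
  let T' : Set (Perm (Fin n)) := H.subtype '' (Group.conjugatesOfSet T₀)
  have hT'3 : ∀ t ∈ T', t.IsThreeCycle := by
    rintro _ ⟨t, ht, rfl⟩
    rw [Group.mem_conjugatesOfSet_iff] at ht
    obtain ⟨s, hs, hst⟩ := ht
    rw [isConj_iff] at hst
    obtain ⟨g, rfl⟩ := hst
    exact isThreeCycle_conj (g : Perm (Fin n)) hs
  have hN : N₀.map H.subtype = Subgroup.closure T' := by
    show (Subgroup.closure (Group.conjugatesOfSet T₀)).map H.subtype = _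
    rw [MonoidHom.map_closure]
  have hcT₀ : (⟨c, hcH⟩ : ↥H) ∈ T₀ := hc3
  have hcT' : c ∈ T' := ⟨⟨c, hcH⟩, Group.subset_conjugatesOfSet hcT₀, rfl⟩
  have hKN : K₀ ≤ N₀ := by
    rcases component_le_or_commutator_eq_bot' K₀ N₀ hcomp
      (Subgroup.normalClosure_normal.isSubnormal) with h | h
    · exact h
    · exfalso
      apply hZ
      intro k
      rw [Subgroup.commutator_eq_bot_iff_le_centralizer] at h
      have hk := h k.2
      rw [Subgroup.mem_centralizer_iff] at hk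
      have hcN : (⟨c, hcH⟩ : ↥H) ∈ N₀ := Subgroup.subset_normalClosure hcT₀
      have h1 := hk _ hcN
      have h2 := congrArg Subtype.val h1
      exact h2.symm
  obtain ⟨S, hcS, hgood, hSstab⟩ := exists_invariant_good T' hT'3 hcT'
  have hιN : ∀ k : ↥K₀, ι k ∈ Subgroup.closure T' := by
    intro k
    rw [← hN]
    exact ⟨k.1, hKN k.2, rfl⟩
  have hS5 : 5 ≤ S.card := by
    by_contra hlt
    push Not at hlt
    have hfixK := fixes_of_perfect ι S (by omega) (fun k x => hSstab _ (hιN k) x)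
    obtain ⟨k, hk⟩ := (hΔ x₀).1 (hcΔ hx₀)
    exact hk (hfixK k x₀ (hcS hx₀))
  have hAN : altOn S ≤ Subgroup.closure T' := good_altOn_le hgood
  have hNH : Subgroup.closure T' ≤ H := by
    rw [← hN]; exact Subgroup.map_subtype_le _
  have hAH : altOn S ≤ H := hAN.trans hNH
  haveI hAsimple : IsSimpleGroup ↥(altOn S) := isSimpleGroup_altOn hS5
  have hcA : c ∈ altOn S := threeCycle_mem_altOn hc3 hcS
  let K : Subgroup (Perm (Fin n)) := K₀.map H.subtype
  have hKmem : ∀ g, g ∈ K ↔ ∃ k : ↥K₀, ι k = g := by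
    intro g; constructor
    · rintro ⟨k, hk, rfl⟩; exact ⟨⟨k, hk⟩, rfl⟩
    · rintro ⟨k, rfl⟩; exact ⟨k.1, k.2, rfl⟩
  have hKnormH : ∀ h ∈ H, ∀ g ∈ K, h * g * h⁻¹ ∈ K := by
    intro h hh g hg
    obtain ⟨k, rfl⟩ := (hKmem g).1 hg
    obtain ⟨k', hk'⟩ := hconj h hh k
    exact (hKmem _).2 ⟨k', hk'⟩
  have hKnormA : ∀ g ∈ K, ∀ a ∈ altOn S, g * a * g⁻¹ ∈ altOn S := by
    intro g hg a ha
    obtain ⟨k, rfl⟩ := (hKmem g).1 hg
    exact conj_mem_altOn (hSstab _ (hιN k)) ha
  have hM : (K.subgroupOf (altOn S)).Normal := by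
    constructor
    intro m hm a
    rw [Subgroup.mem_subgroupOf] at hm ⊢
    exact hKnormH _ (hAH a.2) _ hm
  have hAK : altOn S ≤ K := by
    rcases hM.eq_bot_or_eq_top with h | h
    · exfalso
      rw [Subgroup.subgroupOf_eq_bot] at h
      apply hZ
      intro k
      have hkK : ι k ∈ K := (hKmem _).2 ⟨k, rfl⟩
      have h1 : ι k * c * (ι k)⁻¹ * c⁻¹ ∈ K := by
        have : ι k * c * (ι k)⁻¹ * c⁻¹ = ι k * (c * (ι k)⁻¹ * c⁻¹) := by group
        rw [this]
        exact K.mul_mem hkK (hKnormH c hcH _ (K.inv_mem hkK))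
      have h2 : ι k * c * (ι k)⁻¹ * c⁻¹ ∈ altOn S :=
        (altOn S).mul_mem (hKnormA _ hkK c hcA) ((altOn S).inv_mem hcA)
      have h3 : ι k * c * (ι k)⁻¹ * c⁻¹ = 1 := Subgroup.disjoint_def.1 h h1 h2
      have h4 := congrArg (fun z => z * c * ι k) h3
      simpa [mul_assoc] using h4
    · exact Subgroup.subgroupOf_eq_top.1 h
  have hKA : K ≤ altOn S := by
    let A₁ : Subgroup ↥K₀ := (altOn S).comap ι
    haveI hA₁n : A₁.Normal := by
      constructor
      intro a ha k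
      show ι (k * a * k⁻¹) ∈ altOn S
      rw [map_mul, map_mul, map_inv]
      exact hKnormA _ ((hKmem _).2 ⟨k, rfl⟩) _ ha
    rcases quasisimple_normal_eq_top_or_le_center hF A₁ with h | h
    · intro g hg
      obtain ⟨k, rfl⟩ := (hKmem g).1 hg
      have hk : k ∈ A₁ := by rw [h]; trivial
      exact hk
    · exfalso
      apply hZ
      obtain ⟨kc, hkc⟩ := (hKmem c).1 (hAK hcA)
      have hkcA : kc ∈ A₁ := by
        show ι kc ∈ altOn S
        rw [hkc]; exact hcA
      have hcen := h hkcA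
      rw [Subgroup.mem_center_iff] at hcen
      intro k
      have h1 := congrArg ι (hcen k)
      rw [map_mul, map_mul, hkc] at h1
      exact h1
  have hKeq : K = altOn S := le_antisymm hKA hAK
  refine ⟨S.card, ?_, ⟨?_⟩⟩
  · have hS_le : S.card ≤ n := by simpa using Finset.card_le_univ S
    have hΔS : Δ ⊆ S := by
      intro x hx
      obtain ⟨k, hk⟩ := (hΔ x).1 hx
      have h1 : ι k ∈ altOn S := hKA ((hKmem _).2 ⟨k, rfl⟩)
      exact h1.2 (mem_support.2 hk)
    have := Finset.card_le_card hΔS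
    omega
  · exact ((Subgroup.equivMapOfInjective K₀ H.subtype H.subtype_injective).trans
      (MulEquiv.subgroupCongr hKeq)).trans (altOnEquiv S)

end Cfsg.Agent.S2929
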