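import Mathlib
import Cfsg.Agent.S1237
import Cfsg.Agent.Lib.Helper22.FpfTauF
import Cfsg.Agent.Lib.Helper16.Fpf3H
import Cfsg.Statements.S2933
-- import your own Cfsg.Agent.* helpers here

set_option autoImplicit false
open Cfsg

namespace Cfsg.Agent.S2933

open Cfsg.Agent.Helper22.Aut3 Cfsg.Agent.Helper22.FpfTau Cfsg.Agent.Helper16.Fpf3

/-- conjugation by a normalizing element -/
def conjAut {G : Type*} [Group G] (T : Subgroup G) (g : G)
    (hg : g ∈ Subgroup.normalizer (T : Set G)) : MulAut T where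
  toFun x := ⟨g * x.1 * g⁻¹, (Subgroup.mem_normalizer_iff.mp hg x.1).mp x.2⟩
  invFun x := ⟨g⁻¹ * x.1 * g, by
    have := (Subgroup.mem_normalizer_iff.mp (Subgroup.inv_mem _ hg) x.1).mp x.2
    rwa [inv_inv] at this⟩
  left_inv x := by
    apply Subtype.ext
    show g⁻¹ * (g * x.1 * g⁻¹) * g = x.1
    group
  right_inv x := by
    apply Subtype.ext
    show g * (g⁻¹ * x.1 * g) * g⁻¹ = x.1
    group
  map_mul' x y := by
    apply Subtype.ext
    show g * (x.1 * y.1) * g⁻¹ = (g * x.1 * g⁻¹) * (g * y.1 * g⁻¹)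
    group

theorem conjAut_coe {G : Type*} [Group G] (T : Subgroup G) (g : G)
    (hg : g ∈ Subgroup.normalizer (T : Set G)) (x : T) :
    ((conjAut T g hg x : T) : G) = g * x.1 * g⁻¹ := rfl

/-- fixed points of an automorphism of order dividing three, modulo three -/
theorem card_fixSub_modEq {U : Type*} [Group U] [Finite U] (α : MulAut U)
    (h3 : ∀ x, α (α (α x)) = x) : Nat.card U ≡ Nat.card (fixSub α) [MOD 3] := by
  classical
  haveI : Fintype U := Fintype.ofFinite U
  let σ : Function.End U := fun n => α n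
  haveI : Fact (Nat.Prime 3) := ⟨Nat.prime_three⟩
  have hσ : σ ^ 3 ^ 1 = 1 := by
    rw [pow_one]
    funext n
    show σ^[3] n = n
    exact h3 n
  have := Equiv.Perm.card_fixedPoints_modEq (p := 3) (n := 1) hσ
  rw [Nat.card_eq_fintype_card]
  refine this.trans ?_
  rw [← Nat.card_eq_fintype_card]
  have : Nat.card (Function.fixedPoints σ) = Nat.card (fixSub α) :=
    Nat.card_congr (Equiv.subtypeEquivRight (fun x => Iff.rfl))
  rw [this]

/-- `ρ` moves every nonidentity element of `V`. -/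
theorem no_fixed_in_V {G : Type*} [Group G] [Finite G] (V : Subgroup G) (hV : Nat.card V = 4)
    (ρ : G) (hρ : orderOf ρ = 3) (hρn : ρ ∈ Subgroup.normalizer (V : Set G))
    (hVρ : ⁅V, Subgroup.zpowers ρ⁆ = V) {v : G} (hv : v ∈ V) (hfix : ρ * v * ρ⁻¹ = v) :
    v = 1 := by
  by_contra hv1
  set σ := conjAut V ρ hρn with hσ
  have hρ3 : ρ ^ 3 = 1 := by rw [← hρ]; exact pow_orderOf_eq_one ρ
  have h3 : ∀ x, σ (σ (σ x)) = x := by
    intro x
    apply Subtype.ext
    rw [conjAut_coe, conjAut_coe, conjAut_coe]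
    have : ρ * (ρ * (ρ * x.1 * ρ⁻¹) * ρ⁻¹) * ρ⁻¹ = (ρ * ρ * ρ) * x.1 * (ρ * ρ * ρ)⁻¹ := by group
    rw [this, ← pow_three', hρ3]; group
  have hmod := card_fixSub_modEq σ h3
  have hvF : (⟨v, hv⟩ : V) ∈ fixSub σ := by
    rw [mem_fixSub]
    apply Subtype.ext
    rw [conjAut_coe]
    exact hfix
  have hdvd : Nat.card (fixSub σ) ∣ 4 := by
    rw [← hV]; exact Subgroup.card_subgroup_dvd_card _
  have hne1 : Nat.card (fixSub σ) ≠ 1 := by
    intro h1
    rw [Subgroup.card_eq_one] at h1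
    rw [h1, Subgroup.mem_bot] at hvF
    exact hv1 (congrArg Subtype.val hvF)
  have hcard : Nat.card (fixSub σ) = 4 := by
    have hle : Nat.card (fixSub σ) ≤ 4 := Nat.le_of_dvd (by norm_num) hdvd
    have hpos : 0 < Nat.card (fixSub σ) := Nat.card_pos
    rw [hV] at hmod
    unfold Nat.ModEq at hmod
    interval_cases (Nat.card (fixSub σ)) <;> omega
  have htop : fixSub σ = ⊤ := Subgroup.eq_top_of_card_eq _ (by rw [hcard, hV])
  have hcent : V ≤ Subgroup.centralizer (Subgroup.zpowers ρ : Set G) := by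
    intro w hw
    have hwF : (⟨w, hw⟩ : V) ∈ fixSub σ := by rw [htop]; exact Subgroup.mem_top _
    rw [mem_fixSub] at hwF
    have h1 : ρ * w * ρ⁻¹ = w := by
      have := congrArg (fun x : V => (x : G)) hwF
      rwa [conjAut_coe] at this
    have hcomm : Commute ρ w := by
      show ρ * w = w * ρ
      calc ρ * w = (ρ * w * ρ⁻¹) * ρ := by group
        _ = w * ρ := by rw [h1]
    rw [Subgroup.mem_centralizer_iff]
    intro h hh
    obtain ⟨k, rfl⟩ := Subgroup.mem_zpowers_iff.mp hh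
    exact (hcomm.zpow_left k).eq
  have hbot : ⁅V, Subgroup.zpowers ρ⁆ = ⊥ :=
    Subgroup.commutator_eq_bot_iff_le_centralizer.mpr hcent
  rw [hbot] at hVρ
  rw [← hVρ, Subgroup.card_bot] at hV
  norm_num at hV

/-- Let T be a 2-subgroup of a finite group G, V ≤ Z(T) a four-group, and t, ρ ∈ N_G(V) ∩ N_G(T) elements of order 2 and 3 with t commuting with ρ and with V. If [V, ρ] = V and C_T(t) = V, then T is elementary abelian of order 16, or homocyclic of rank 2 (ℤ/2ⁿ × ℤ/2ⁿ for some n ≥ 1), or isomorphic to a Sylow 2-subgroup of PSL₃(4) or of PSU₃(4). -/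
theorem result {G : Type*} [Group G] [Finite G] (T V : Subgroup G) (hT : IsPGroup 2 ↥T) (hVT : V ≤ T ⊓ Subgroup.centralizer (T : Set G)) (hV : Nat.card ↥V = 4 ∧ ∀ v ∈ V, v ^ 2 = 1) (t ρ : G) (ht : orderOf t = 2) (hρ : orderOf ρ = 3) (htn : t ∈ Subgroup.normalizer (V : Set G) ⊓ Subgroup.normalizer (T : Set G)) (hρn : ρ ∈ Subgroup.normalizer (V : Set G) ⊓ Subgroup.normalizer (T : Set G)) (htρ : t * ρ = ρ * t) (htV : t ∈ Subgroup.centralizer (V : Set G)) (hVρ : ⁅V, Subgroup.zpowers ρ⁆ = V) (hCt : T ⊓ Subgroup.centralizer ({t} : Set G) = V) : (Nat.card ↥T = 16 ∧ ∀ x ∈ T, x ^ 2 = 1) ∨ (∃ n : ℕ, 1 ≤ n ∧ Nonempty (↥T ≃* Multiplicative (ZMod (2 ^ n)) × Multiplicative (ZMod (2 ^ n)))) ∨ (∃ (F : Type) (_ : Field F) (_ : Fintype F), Fintype.card F = 4 ∧ ∀ P : Sylow 2 (Matrix.ProjectiveSpecialLinearGroup (Fin 3) F), Nonempty (↥T ≃* ↥(P : Subgroup (Matrix.ProjectiveSpecialLinearGroup (Fin 3) F)))) ∨ (∃ (F : Type) (_ : Field F) (_ : Fintype F), Fintype.card F =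 16 ∧ ∀ P : Sylow 2 (Cfsg.PSU 3 F 4), Nonempty (↥T ≃* ↥(P : Subgroup (Cfsg.PSU 3 F 4)))) := by
  classical
  haveI : Fact (Nat.Prime 2) := ⟨Nat.prime_two⟩
  set φ := conjAut T ρ hρn.2 with hφdef
  set τ := conjAut T t htn.2 with hτdef
  have ht2 : t * t = 1 := by
    have := pow_orderOf_eq_one t
    rwa [ht, pow_two] at this
  have htinv : t⁻¹ = t := by rw [inv_eq_iff_mul_eq_one]; exact ht2
  have hρ3 : ρ ^ 3 = 1 := by rw [← hρ]; exact pow_orderOf_eq_one ρ
  have hτinv : ∀ x, τ (τ x) = x := by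
    intro x
    apply Subtype.ext
    rw [conjAut_coe, conjAut_coe]
    have : t * (t * x.1 * t⁻¹) * t⁻¹ = (t * t) * x.1 * (t * t)⁻¹ := by group
    rw [this, ht2]; group
  have hcomm : ∀ x, τ (φ x) = φ (τ x) := by
    intro x
    apply Subtype.ext
    rw [conjAut_coe, conjAut_coe, conjAut_coe, conjAut_coe]
    have e1 : t * (ρ * x.1 * ρ⁻¹) * t⁻¹ = (t * ρ) * x.1 * (t * ρ)⁻¹ := by group
    have e2 : ρ * (t * x.1 * t⁻¹) * ρ⁻¹ = (ρ * t) * x.1 * (ρ * t)⁻¹ := by group
    rw [e1, e2, htρ]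
  have hcube : ∀ x, φ (φ (φ x)) = x := by
    intro x
    apply Subtype.ext
    rw [conjAut_coe, conjAut_coe, conjAut_coe]
    have : ρ * (ρ * (ρ * x.1 * ρ⁻¹) * ρ⁻¹) * ρ⁻¹ = (ρ * ρ * ρ) * x.1 * (ρ * ρ * ρ)⁻¹ := by group
    rw [this, ← pow_three', hρ3]; group
  -- the fixed points of τ
  have hfixτ : ∀ x : T, x ∈ fixSub τ ↔ x.1 ∈ V := by
    intro x
    rw [mem_fixSub, ← hCt, Subgroup.mem_inf, Subgroup.mem_centralizer_iff]
    constructor
    · intro hx
      refine ⟨x.2, ?_⟩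
      intro h hh
      rw [Set.mem_singleton_iff] at hh
      rw [hh]
      have h1 : t * x.1 * t⁻¹ = x.1 := by
        have := congrArg (fun y : T => (y : G)) hx
        rwa [conjAut_coe] at this
      calc t * x.1 = (t * x.1 * t⁻¹) * t := by group
        _ = x.1 * t := by rw [h1]
    · rintro ⟨-, hx⟩
      apply Subtype.ext
      rw [conjAut_coe]
      have := hx t rfl
      rw [this]; group
  have hVleT : V ≤ T := fun v hv => (hVT hv).1
  have hc4 : Nat.card (fixSub τ) = 4 := by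
    rw [← hV.1]
    apply Nat.card_congr
    exact
      { toFun := fun x => ⟨x.1.1, (hfixτ x.1).mp x.2⟩
        invFun := fun v => ⟨⟨v.1, hVleT v.2⟩, (hfixτ _).mpr v.2⟩
        left_inv := fun x => rfl
        right_inv := fun v => rfl }
  -- ρ is fixed-point-free
  have hfpf : ∀ x : T, φ x = x → x = 1 := by
    intro x hx
    by_contra hx1
    have hCinv : Inv τ (fixSub φ) := by
      intro y hy
      rw [mem_fixSub] at *
      rw [← hcomm, hy]
    have hne : fixSub φ ≠ ⊥ := by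
      intro hbot
      have : x ∈ fixSub φ := hx
      rw [hbot, Subgroup.mem_bot] at this
      exact hx1 this
    obtain ⟨y, hyC, hy1, hy⟩ := exists_fixed_of_ne_bot hτinv hCinv (hT.to_subgroup _) hne
    have hyV : y.1 ∈ V := (hfixτ y).mp hy
    have hyρ : ρ * y.1 * ρ⁻¹ = y.1 := by
      have := congrArg (fun z : T => (z : G)) (mem_fixSub.mp hyC)
      rwa [conjAut_coe] at this
    have := no_fixed_in_V V hV.1 ρ hρ hρn.1 hVρ hyV hyρ
    exact hy1 (Subtype.ext this)
  have hFT : FT φ τ := ⟨⟨hcube, hfpf⟩, hτinv, hcomm, hT⟩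
  by_cases hab : ∀ a b : T, a * b = b * a
  · rcases abelian_cases hFT hab hc4 with ⟨h1, h2⟩ | h4
    · left
      refine ⟨h2, fun x hx => ?_⟩
      have := congrArg (fun y : T => (y : G)) (h1 ⟨x, hx⟩)
      rw [pow_two]
      exact this
    · right; left
      have C : Cfg T φ := cfg_of_card_four hFT.fpf hT (fun x _ g => hab g x) h4
      obtain ⟨n, hn, ⟨e⟩⟩ := C.abelian_iso hab
      exact ⟨n, hn, ⟨e.trans (MulEquiv.prodMultiplicative _ _)⟩⟩
  · push Not at hab
    have h64 : Nat.card T = 64 := by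
      rcases abelian_or_card hFT hc4 with h | h
      · obtain ⟨a, b, hab'⟩ := hab
        exact absurd (h a b) hab'
      · exact h
    rcases nonabelian_cases hFT.fpf h64 hab with hframe | he
    · right; right; right
      haveI : Fintype (GaloisField 2 4) := Fintype.ofFinite _
      have hF : Fintype.card (GaloisField 2 4) = 16 := by
        rw [← Nat.card_eq_fintype_card, GaloisField.card 2 4 (by norm_num)]
        norm_num
      refine ⟨GaloisField 2 4, inferInstance, inferInstance, hF, ?_⟩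
      intro P
      obtain ⟨hc, hp, hfin, hna', ψ', C'⟩ := Cfsg.Agent.S1237.exists_cfg_sylow hF P
      haveI := hfin
      exact iso_of_hasFrame hframe (C'.nonabelian_frame hna') hc hp
    · right; right; left
      obtain ⟨e⟩ := he
      refine ⟨Cfsg.Agent.Helper26.F4, inferInstance, inferInstance,
        Cfsg.Agent.Helper26.F4.card_F4, ?_⟩
      intro P
      haveI : Finite (Matrix.ProjectiveSpecialLinearGroup (Fin 3) Cfsg.Agent.Helper26.F4) :=
        Nat.finite_of_card_ne_zero (by rw [card_PSL34]; norm_num)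
      obtain ⟨S, ⟨e'⟩⟩ := exists_sylow_heis
      obtain ⟨g, hg⟩ := MulAction.exists_smul_eq
        (Matrix.ProjectiveSpecialLinearGroup (Fin 3) Cfsg.Agent.Helper26.F4) S P
      have e'' := S.equivSMul g
      rw [hg] at e''
      exact ⟨(e.symm.trans e').trans e''⟩

end Cfsg.Agent.S2933
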