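import Mathlib
import Cfsg.Statements.S2934
import Cfsg.Agent.Lib.Helper15.QE10
import Cfsg.Agent.Lib.Helper27.ExtraCrit

set_option autoImplicit false
open Cfsg
open scoped commutatorElement

namespace Cfsg.Agent.S2934

open Cfsg.Agent.Helper15.QE

/-- Let p be an odd prime, W a finite 2-group and E a non-cyclic abelian p-subgroup of Aut(W) such that, for every nontrivial e ∈ E, the fixed points of e in W contain at most one involution. Then E has order 9, W is extraspecial of order 2⁵, 2⁷ or 2⁹, and the common fixed points of E in W form exactly the centre Z(W). -/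
theorem result {W : Type*} [Group W] [Finite W] (hW : IsPGroup 2 W) {p : ℕ} [Fact p.Prime] (hp : p ≠ 2) (E : Subgroup (MulAut W)) (hE : IsPGroup p ↥E) (hab : IsMulCommutative ↥E) (hnc : ¬ IsCyclic ↥E) (hfix : ∀ e ∈ E, e ≠ 1 → ∀ x y : W, orderOf x = 2 → orderOf y = 2 → e x = x → e y = y → x = y) : Nat.card ↥E = 9 ∧ Cfsg.IsExtraspecial 2 W ∧ (Nat.card W = 2 ^ 5 ∨ Nat.card W = 2 ^ 7 ∨ Nat.card W = 2 ^ 9) ∧ {x : W | ∀ e ∈ E, e x = x} = (Subgroup.center W : Set W) := by
  -- the ambient group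
  haveI : Finite (W ⋊[E.subtype] ↥E) := Finite.of_equiv _ SemidirectProduct.equivProd.symm
  obtain ⟨ι, hιdef⟩ : ∃ ι : W →* W ⋊[E.subtype] ↥E, ι = SemidirectProduct.inl := ⟨_, rfl⟩
  obtain ⟨κ, hκdef⟩ : ∃ κ : ↥E →* W ⋊[E.subtype] ↥E, κ = SemidirectProduct.inr := ⟨_, rfl⟩
  have hι : Function.Injective ι := by rw [hιdef]; exact SemidirectProduct.inl_injective
  have hκ : Function.Injective κ := by rw [hκdef]; exact SemidirectProduct.inr_injective
  have hconj : ∀ (e : ↥E) (w : W), κ e * ι w * (κ e)⁻¹ = ι ((e : MulAut W) w) := by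
    intro e w
    rw [hιdef, hκdef, ← map_inv]
    exact (SemidirectProduct.inl_aut e w).symm
  have hcomm_iff : ∀ (e : ↥E) (w : W), κ e * ι w = ι w * κ e ↔ (e : MulAut W) w = w := by
    intro e w
    constructor
    · intro h1
      apply hι
      rw [← hconj, h1]; group
    · intro h1
      have h2 := hconj e w
      rw [h1] at h2
      calc κ e * ι w = κ e * ι w * (κ e)⁻¹ * κ e := by group
        _ = ι w * κ e := by rw [h2]
  have hcfg : Cfg p ι.range κ.range := by
    refine ⟨?_, ?_, ?_, ?_, ?_⟩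
    · exact hW.of_equiv (MonoidHom.ofInjective hι)
    · exact hE.of_equiv (MonoidHom.ofInjective hκ)
    · rintro _ ⟨a, rfl⟩ _ ⟨b, rfl⟩
      rw [← map_mul, ← map_mul]
      congr 1
      exact hab.is_comm.comm a b
    · have hn : (ι.range).Normal := by
        rw [hιdef, SemidirectProduct.range_inl_eq_ker_rightHom]
        infer_instance
      rw [Subgroup.normalizer_eq_top]
      exact le_top
    · rintro _ ⟨e, rfl⟩ he1 _ ⟨x, rfl⟩ _ ⟨y, rfl⟩ hx hy hex hey
      congr 1
      rw [orderOf_injective ι hι] at hx hy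
      apply hfix e e.2 _ x y hx hy ((hcomm_iff e x).mp hex) ((hcomm_iff e y).mp hey)
      intro h1
      apply he1
      have : e = 1 := Subtype.ext h1
      rw [this, map_one]
  have hnc' : ¬ IsCyclic ↥κ.range := by
    intro hc
    apply hnc
    exact isCyclic_of_surjective (MonoidHom.ofInjective hκ).symm
      (MonoidHom.ofInjective hκ).symm.surjective
  have hfaith : ∀ e ∈ κ.range, (∀ w ∈ ι.range, e * w = w * e) → e = 1 := by
    rintro _ ⟨e, rfl⟩ hall
    have h1 : (e : MulAut W) = 1 := by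
      ext w
      exact (hcomm_iff e w).mp (hall _ ⟨w, rfl⟩)
    have : e = 1 := Subtype.ext h1
    rw [this, map_one]
  obtain ⟨hcard, z, ⟨z₀, rfl⟩, hz2, hzc, hcen, hcl, hsq, hord, hfixE, u, ⟨u₀, rfl⟩, v, ⟨v₀, rfl⟩,
    huv⟩ := ambient_main hp hcfg hnc' hfaith
  have hz₀2 : orderOf z₀ = 2 := by rw [← orderOf_injective ι hι]; exact hz2
  have hz₀1 : z₀ ≠ 1 := ne_one_of_orderOf_two hz₀2
  have hmemz : ∀ c : W, ι c ∈ Subgroup.zpowers (ι z₀) ↔ c = 1 ∨ c = z₀ := by
    intro c
    rw [mem_zpowers_two hz2]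
    constructor
    · rintro (h1 | h1)
      · left; apply hι; rw [h1, map_one]
      · right; exact hι h1
    · rintro (h1 | h1)
      · left; rw [h1, map_one]
      · right; rw [h1]
  have hzc₀ : ∀ a : W, a * z₀ = z₀ * a := by
    intro a
    apply hι
    rw [map_mul, map_mul]
    exact hzc _ ⟨a, rfl⟩
  have hcen₀ : ∀ c : W, (∀ a : W, a * c = c * a) → c = 1 ∨ c = z₀ := by
    intro c hc
    rw [← hmemz]
    apply hcen _ ⟨c, rfl⟩
    rintro _ ⟨a, rfl⟩
    rw [← map_mul, ← map_mul, hc a]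
  refine ⟨?_, ?_, ?_, ?_⟩
  · rw [← hcard]
    exact Nat.card_congr (MonoidHom.ofInjective hκ).toEquiv
  · apply Cfsg.Agent.Helper27.isExtraspecial_two_of_data hW z₀ hz₀1 hzc₀ hcen₀
    · intro a b
      rw [← hmemz, commutatorElement_def, map_mul, map_mul, map_mul, map_inv, map_inv]
      exact hcl _ ⟨a, rfl⟩ _ ⟨b, rfl⟩
    · intro a
      rw [← hmemz, map_pow]
      exact hsq _ ⟨a, rfl⟩
    · refine ⟨u₀, v₀, ?_⟩
      intro h1
      apply huv
      rw [commutatorElement_def] at h1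
      rw [← map_mul, ← map_mul]
      congr 1
      calc u₀ * v₀ = u₀ * v₀ * u₀⁻¹ * v₀⁻¹ * (v₀ * u₀) := by group
        _ = v₀ * u₀ := by rw [h1, one_mul]
  · rw [← Nat.card_congr (MonoidHom.ofInjective hι).toEquiv] at hord
    exact hord
  · ext x
    simp only [Set.mem_setOf_eq, SetLike.mem_coe, Subgroup.mem_center_iff]
    have hx := hfixE (ι x) ⟨x, rfl⟩
    rw [hmemz] at hx
    constructor
    · intro hfx
      have : x = 1 ∨ x = z₀ := by
        apply hx.mp
        rintro _ ⟨e, rfl⟩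
        exact (hcomm_iff e x).mpr (hfx e e.2)
      rcases this with h1 | h1
      · intro g; rw [h1, mul_one, one_mul]
      · intro g; rw [h1]; exact hzc₀ g
    · intro hxc e he
      have h1 := hcen₀ x hxc
      have h2 := hx.mpr h1 (κ ⟨e, he⟩) ⟨⟨e, he⟩, rfl⟩
      exact (hcomm_iff ⟨e, he⟩ x).mp h2

end Cfsg.Agent.S2934
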