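import Mathlib
import Cfsg.Statements.S2939
import Cfsg.Agent.Lib.Helper15.SylowControl

set_option autoImplicit false
open Cfsg

namespace Cfsg.Agent.S2939

open Cfsg.Agent.Helper15

variable {G : Type*} [Group G]

/-- left-accumulated products `x_{k-1} ⋯ x_0` -/
def accL (x : ℕ → G) : ℕ → G
  | 0 => 1
  | k + 1 => x k * accL x k

theorem forward [Finite G] {p : ℕ} [Fact p.Prime] (𝓕 : Set (Subgroup G)) (h𝓕 : Cfsg.IsNormalSet 𝓕)
    (hc : Cfsg.ControlsSylowIntersections p 𝓕) : Cfsg.FamilyStronglyControlsFusion p 𝓕 := by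
  intro S A g hAS hA1 hAg
  have hAT : A ⊆ (((g • S : Sylow p G) : Subgroup G) : Set G) := by
    rw [sylow_coe_smul_eq_map]; exact conjRight_subset_iff.mp hAg
  by_cases hST : S = g • S
  · refine ⟨0, Fin.elim0, Fin.elim0, g, Sylow.smul_eq_iff_mem_normalizer.mp hST.symm,
      fun i => i.elim0, by simp, fun i => i.elim0⟩
  · have hinf : (S : Subgroup G) ⊓ ((g • S : Sylow p G) : Subgroup G) ≠ ⊥ := by
      obtain ⟨a, haA, ha1⟩ := hA1
      intro hb
      have : a ∈ (S : Subgroup G) ⊓ ((g • S : Sylow p G) : Subgroup G) := ⟨hAS haA, hAT haA⟩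
      rw [hb] at this
      exact ha1 this
    have hAinf : A ⊆ (((S : Subgroup G) ⊓ ((g • S : Sylow p G) : Subgroup G) : Subgroup G) : Set G) :=
      fun a ha => ⟨hAS ha, hAT ha⟩
    obtain ⟨n, c, X, x, h0, hl, hstep⟩ := hc S (g • S) hST hinf
    set x' : ℕ → G := fun k => if h : k < n then x ⟨k, h⟩ else 1 with hx'
    have hx'i : ∀ i : Fin n, x' i = x i := fun i => by simp [hx']
    set u : ℕ → G := accL x' with hu
    have husucc : ∀ i : Fin n, u (i + 1) = x i * u i := fun i => by
      show x' i * accL x' i = _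
      rw [hx'i]
    have hcu : ∀ i : Fin (n + 1), c i = u i • S := by
      intro i
      induction i using Fin.induction with
      | zero => rw [h0]; exact (one_smul G S).symm
      | succ j ih =>
        obtain ⟨_, _, _, hconj, _⟩ := hstep j
        rw [sylow_eq_smul_of_subgroupConjRight hconj, ih, Fin.val_succ, husucc, mul_smul]
        rfl
    set y : Fin n → G := fun i => (u i)⁻¹ * x i * u i with hy
    set Y : Fin n → Subgroup G := fun i => (X i).map (MulAut.conj (u i)⁻¹).toMonoidHom with hY
    have hprod : ∀ k : ℕ, k ≤ n → ((List.ofFn y).take k).prod = u k := by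
      intro k
      induction k with
      | zero => intro _; simp [hu, accL]
      | succ k ih =>
        intro hk
        have hk' : k < n := hk
        rw [List.prod_take_succ _ k (by rw [List.length_ofFn]; exact hk'), ih hk'.le,
          List.getElem_ofFn]
        have := husucc ⟨k, hk'⟩
        simp only at this
        rw [this, hy]
        simp only
        group
    refine ⟨n, Y, y, (u n)⁻¹ * g, ?_, ?_, ?_, ?_⟩
    · apply Sylow.smul_eq_iff_mem_normalizer.mp
      have := hcu (Fin.last n)
      rw [hl, Fin.val_last] at this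
      rw [mul_smul, this, inv_smul_smul]
    · intro i
      constructor
      · have h1 := sylowMembers_map_conj h𝓕 (hstep i).1 (u i)⁻¹
        have h2 := hcu i.castSucc
        rw [Fin.val_castSucc] at h2
        rw [h2, sylow_coe_smul_eq_map, map_conj_inv_map_conj] at h1
        exact h1
      · show y i ∈ (X i).map (MulAut.conj (u i)⁻¹).toMonoidHom
        rw [mem_map_conj_iff]
        have : (u i)⁻¹⁻¹ * y i * (u i)⁻¹ = x i := by rw [hy]; simp only; group
        rw [this]
        exact (hstep i).2.2.1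
    · have h1 := hprod n le_rfl
      have h2 : (List.ofFn y).take n = List.ofFn y := by
        apply List.take_of_length_le
        rw [List.length_ofFn]
      rw [h2] at h1
      rw [h1, mul_inv_cancel_left]
    · intro i
      rw [hprod (i + 1) i.2]
      obtain ⟨_, _, hxX, _, hle⟩ := hstep i
      apply Set.subset_inter
      · refine (conjRight_subset_iff (H := (S : Subgroup G))).mpr ?_
        rw [← sylow_coe_smul_eq_map]
        have h2 := hcu i.succ
        rw [Fin.val_succ] at h2
        rw [← h2]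
        exact fun a ha => (hle (hAinf ha)).1
      · rw [conjRight_subset_iff]
        have h3 : (Y i).map (MulAut.conj (u (i + 1))).toMonoidHom = X i := by
          show ((X i).map (MulAut.conj (u i)⁻¹).toMonoidHom).map
            (MulAut.conj (u (i + 1))).toMonoidHom = X i
          rw [map_conj_map_conj, husucc, mul_inv_cancel_right, map_conj_eq_self_of_mem hxX]
        rw [h3]
        exact fun a ha => (hle (hAinf ha)).2

theorem backward [Finite G] {p : ℕ} [Fact p.Prime] (𝓕 : Set (Subgroup G)) (h𝓕 : Cfsg.IsNormalSet 𝓕)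
    (hf : Cfsg.FamilyStronglyControlsFusion p 𝓕) : Cfsg.ControlsSylowIntersections p 𝓕 := by
  intro S T hST hinf
  obtain ⟨g, hg⟩ := MulAction.exists_smul_eq G S T
  set A : Set G := (((S : Subgroup G) ⊓ (T : Subgroup G) : Subgroup G) : Set G) with hA
  have hAS : A ⊆ ((S : Subgroup G) : Set G) := fun a ha => ha.1
  have hAT : A ⊆ ((T : Subgroup G) : Set G) := fun a ha => ha.2
  have hA1 : ∃ a ∈ A, a ≠ 1 := by
    obtain ⟨⟨a, ha⟩, ha1⟩ := (Subgroup.ne_bot_iff_exists_ne_one).mp hinf
    exact ⟨a, ha, fun h => ha1 (Subtype.ext h)⟩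
  have hAg : Cfsg.conjRight g A ⊆ ((S : Subgroup G) : Set G) := by
    rw [conjRight_subset_iff, ← sylow_coe_smul_eq_map, hg]
    exact hAT
  obtain ⟨n, Y, y, y₀, hy₀, hY, hgprod, hlast⟩ := hf S A g hAS hA1 hAg
  set u : ℕ → G := fun k => ((List.ofFn y).take k).prod with hu
  have hu0 : u 0 = 1 := by simp [hu]
  have husucc : ∀ i : Fin n, u (i + 1) = u i * y i := by
    intro i
    show ((List.ofFn y).take (i + 1)).prod = ((List.ofFn y).take i).prod * y i
    rw [List.prod_take_succ _ i (by rw [List.length_ofFn]; exact i.2), List.getElem_ofFn]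
  have hun : u n = (List.ofFn y).prod := by
    show ((List.ofFn y).take n).prod = _
    rw [List.take_of_length_le (by rw [List.length_ofFn])]
  set c : Fin (n + 1) → Sylow p G := fun i => u i • S with hc
  set X : Fin n → Subgroup G := fun i => (Y i).map (MulAut.conj (u i)).toMonoidHom with hX
  set x : Fin n → G := fun i => u i * y i * (u i)⁻¹ with hx
  have hxX : ∀ i : Fin n, x i ∈ X i := by
    intro i
    show x i ∈ (Y i).map (MulAut.conj (u i)).toMonoidHom
    rw [mem_map_conj_iff]
    have : (u i)⁻¹ * x i * u i = y i := by rw [hx]; simp only; group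
    rw [this]
    exact (hY i).2
  have hcsucc : ∀ i : Fin n, c i.succ = x i • c i.castSucc := by
    intro i
    show u (i.succ : Fin (n + 1)) • S = x i • (u (i.castSucc : Fin (n + 1)) • S)
    rw [Fin.val_succ, Fin.val_castSucc, husucc, ← mul_smul]
    congr 1
    rw [hx]; simp only; group
  have hX1 : ∀ i : Fin n, X i ∈ Cfsg.sylowMembers p 𝓕 ((c i.castSucc : Sylow p G) : Subgroup G) := by
    intro i
    have h1 := sylowMembers_map_conj h𝓕 (hY i).1 (u i)
    rw [← sylow_coe_smul_eq_map] at h1
    show X i ∈ Cfsg.sylowMembers p 𝓕 ((u (i.castSucc : Fin (n + 1)) • S : Sylow p G) : Subgroup G)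
    rw [Fin.val_castSucc]
    exact h1
  refine ⟨n, c, X, x, ?_, ?_, ?_⟩
  · show u ((0 : Fin (n + 1)) : ℕ) • S = S
    rw [Fin.val_zero, hu0, one_smul]
  · show u ((Fin.last n : Fin (n + 1)) : ℕ) • S = T
    rw [Fin.val_last, hun]
    have h1 : (List.ofFn y).prod = g * y₀⁻¹ := by rw [hgprod, mul_inv_cancel_right]
    have h2 : y₀⁻¹ • S = S :=
      Sylow.smul_eq_iff_mem_normalizer.mpr (Subgroup.inv_mem _ hy₀)
    rw [h1, mul_smul, h2, hg]
  · intro i
    refine ⟨hX1 i, ?_, hxX i, ?_, ?_⟩
    · have h1 := sylowMembers_map_conj h𝓕 (hX1 i) (x i)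
      rw [map_conj_eq_self_of_mem (hxX i), ← sylow_coe_smul_eq_map, ← hcsucc] at h1
      exact h1
    · rw [hcsucc]
      exact subgroupConjRight_smul _ _
    · have h1 := hlast i
      have h2 : ((List.ofFn y).take (i + 1)).prod = u (i + 1) := rfl
      rw [h2] at h1
      have h3 : Cfsg.conjRight (u (i + 1)) A ⊆ ((S : Subgroup G) : Set G) :=
        fun a ha => (h1 ha).1
      have h4 : Cfsg.conjRight (u (i + 1)) A ⊆ ((Y i : Subgroup G) : Set G) :=
        fun a ha => (h1 ha).2
      rw [conjRight_subset_iff] at h3 h4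
      have h5 : (Y i).map (MulAut.conj (u (i + 1))).toMonoidHom = X i := by
        show _ = (Y i).map (MulAut.conj (u i)).toMonoidHom
        rw [husucc, ← map_conj_map_conj, map_conj_eq_self_of_mem (hY i).2]
      rw [h5] at h4
      rw [← sylow_coe_smul_eq_map] at h3
      have h6 : c i.succ = u (i + 1) • S := by
        show u (i.succ : Fin (n + 1)) • S = _
        rw [Fin.val_succ]
      rw [← h6] at h3
      exact le_inf (fun a ha => h3 ha) (fun a ha => h4 ha)

/-- statement -/
theorem result {G : Type*} [Group G] [Finite G] {p : ℕ} [Fact p.Prime] (hdiv : p ∣ Nat.card G) (𝓕 : Set (Subgroup G)) (h𝓕 : Cfsg.IsNormalSet 𝓕) : Cfsg.ControlsSylowIntersections p 𝓕 ↔ Cfsg.FamilyStronglyControlsFusion p 𝓕 := by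
  exact ⟨forward 𝓕 h𝓕, backward 𝓕 h𝓕⟩

end Cfsg.Agent.S2939
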