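import Mathlib
import Cfsg.Statements.S2940
import Cfsg.Agent.Lib.Helper15.SylowIn

set_option autoImplicit false
open Cfsg

namespace Cfsg.Agent.S2940

open Cfsg.Agent.Helper15

/-- Let S be a Sylow p-subgroup of the finite group G and G₁, G₂ subgroups containing S with G = G₁G₂. Then for every g ∈ G there is a Sylow p-subgroup U of G with S ∩ S^g ≤ U ≤ G₁ ∩ G₂^g (conjugates taken as X^g = g⁻¹Xg). -/
theorem result {G : Type*} [Group G] [Finite G] {p : ℕ} [Fact p.Prime] (S : Sylow p G) (G₁ G₂ : Subgroup G) (h1 : (S : Subgroup G) ≤ G₁) (h2 : (S : Subgroup G) ≤ G₂) (hfact : ∀ g : G, ∃ g₁ ∈ G₁, ∃ g₂ ∈ G₂, g = g₁ * g₂) (g : G) : ∃ U : Sylow p G, (S : Subgroup G) ⊓ Cfsg.subgroupConjRight g (S : Subgroup G) ≤ (U : Subgroup G) ∧ (U : Subgroup G) ≤ G₁ ⊓ Cfsg.subgroupConjRight g G₂ := by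
  obtain ⟨a, ha, b, hb, hab⟩ := hfact g⁻¹
  have hg : g = b⁻¹ * a⁻¹ := by
    have : g = (g⁻¹)⁻¹ := (inv_inv g).symm
    rw [this, hab, mul_inv_rev]
  unfold Cfsg.subgroupConjRight
  have hcoe : ((a • S : Sylow p G) : Subgroup G) = (S : Subgroup G).map (MulAut.conj a).toMonoidHom := rfl
  have hPD : ((a • S : Sylow p G) : Subgroup G) ≤ G₁ ⊓ G₂.map (MulAut.conj g⁻¹).toMonoidHom := by
    rw [hcoe]
    refine le_inf (map_conj_le_of_mem h1 ha) ?_
    rintro _ ⟨s, hs, rfl⟩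
    rw [mem_map_conj_iff]
    simp only [MulEquiv.coe_toMonoidHom, MulAut.conj_apply, inv_inv]
    have : g * (a * s * a⁻¹) * g⁻¹ = b⁻¹ * s * b := by
      rw [hg]; group
    rw [this]
    exact G₂.mul_mem (G₂.mul_mem (G₂.inv_mem hb) (h2 hs)) hb
  have hQ : IsPGroup p ↥((S : Subgroup G) ⊓ (S : Subgroup G).map (MulAut.conj g⁻¹).toMonoidHom) :=
    S.isPGroup'.to_le inf_le_left
  have hQD : (S : Subgroup G) ⊓ (S : Subgroup G).map (MulAut.conj g⁻¹).toMonoidHom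
      ≤ G₁ ⊓ G₂.map (MulAut.conj g⁻¹).toMonoidHom :=
    inf_le_inf h1 (map_conj_mono h2 _)
  exact exists_sylow_le_of_sylow_le (a • S) hPD hQ hQD

end Cfsg.Agent.S2940
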