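import Mathlib
import Cfsg.Statements.S2941
import Cfsg.Agent.Lib.Helper15.SylowIn
import Cfsg.Agent.Lib.Helper1.CommutatorBasic
import Cfsg.Agent.Lib.Helper1.Coprime

set_option autoImplicit false
open Cfsg

namespace Cfsg.Agent.S2941

open Cfsg.Agent.Helper15

/-- an element of odd order in `K ⊔ J`, with `J` a `2`-group normalizing `K`, lies in `K` -/
theorem mem_of_odd_orderOf {G : Type*} [Group G] [Finite G] {K J : Subgroup G}
    (hJK : J ≤ Subgroup.normalizer (K : Set G)) (hJ : IsPGroup 2 ↥J) {y : G} (hy : y ∈ K ⊔ J)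
    (hodd : Odd (orderOf y)) : y ∈ K := by
  obtain ⟨k, hk, j, hj, rfl⟩ := Cfsg.Agent.Helper1.exists_mul_of_mem_sup hJK hy
  have hpow : ∀ m : ℕ, ∃ k' ∈ K, (k * j) ^ m = k' * j ^ m := by
    intro m
    induction m with
    | zero => exact ⟨1, K.one_mem, by simp⟩
    | succ m ih =>
      obtain ⟨k', hk', hm⟩ := ih
      refine ⟨k' * (j ^ m * k * (j ^ m)⁻¹), K.mul_mem hk' ?_, ?_⟩
      · exact (Subgroup.mem_normalizer_iff.1 (hJK (J.pow_mem hj m)) k).1 hk
      · rw [pow_succ, hm, pow_succ]; group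
  obtain ⟨a, ha⟩ := hJ ⟨j, hj⟩
  have ha' : j ^ 2 ^ a = 1 := by
    have := congrArg Subtype.val ha
    simpa using this
  obtain ⟨k', hk', hk'eq⟩ := hpow (2 ^ a)
  rw [ha', mul_one] at hk'eq
  have hcop : Nat.Coprime (2 ^ a) (orderOf (k * j)) :=
    Nat.Coprime.pow_left a (Nat.coprime_two_left.2 hodd)
  have hmem : k * j ∈ Subgroup.zpowers ((k * j) ^ 2 ^ a) := by
    have h1 : orderOf ((k * j) ^ 2 ^ a) = orderOf (k * j) := by
      rw [orderOf_pow, Nat.Coprime.gcd_eq_one hcop.symm, Nat.div_one]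
    have h2 : Subgroup.zpowers ((k * j) ^ 2 ^ a) = Subgroup.zpowers (k * j) := by
      apply Subgroup.eq_of_le_of_card_ge
      · rw [Subgroup.zpowers_le]; exact Subgroup.pow_mem _ (Subgroup.mem_zpowers _) _
      · rw [Nat.card_zpowers, Nat.card_zpowers, h1]
    rw [h2]; exact Subgroup.mem_zpowers _
  have hle : Subgroup.zpowers ((k * j) ^ 2 ^ a) ≤ K := by
    rw [Subgroup.zpowers_le, hk'eq]; exact hk'
  exact hle hmem

/-- Let G be a finite group of characteristic 2 type in which every 2-local subgroup is solvable and the centralizer of Ω₁(Z(S)) lies in N_G(S) for every Sylow 2-subgroup S, and let T be a nontrivial 2-subgroup and K a J(T)-component (J the Thompson subgroup generated by the elementary abelian 2-subgroups of largest order). If a subgroup Q is normalized by ⟨K, J(T)⟩ and normalizes J(T), then Q normalizes K. -/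
theorem result {G : Type*} [Group G] [Finite G] (hL : Cfsg.IsCharacteristicTwoType G) (hN : ∀ N : Subgroup G, Cfsg.IsTwoLocal N → Group.IsSolvable ↥N)
    (hZ : ∀ S : Sylow 2 G, Subgroup.centralizer (Cfsg.omegaCenterOf (S : Subgroup G) : Set G) ≤ Subgroup.normalizer ((S : Subgroup G) : Set G)) (T : Subgroup G) (hT : IsPGroup 2 ↥T) (hT1 : T ≠ ⊥) (K : Subgroup G) (hK : Cfsg.IsJComponent T K)
    (Q : Subgroup G) (hQ1 : K ⊔ Cfsg.thompsonSubgroupOf 2 T ≤ Subgroup.normalizer (Q : Set G)) (hQ2 : Q ≤ Subgroup.normalizer (Cfsg.thompsonSubgroupOf 2 T : Set G)) :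
    Q ≤ Subgroup.normalizer (K : Set G) := by
  obtain ⟨hgen, hcomm, -, -, -, -⟩ := hK
  have hJT : Cfsg.thompsonSubgroupOf 2 T ≤ T := Subgroup.map_subtype_le _
  generalize Cfsg.thompsonSubgroupOf 2 T = J at *
  have hJ2 : IsPGroup 2 ↥J := hT.to_le hJT
  have hJK : J ≤ Subgroup.normalizer (K : Set G) := by
    have := Cfsg.Agent.Helper1.le_normalizer_commutator_right K J
    rwa [hcomm] at this
  -- the subgroup generated by the conjugates of `J` under `K ⊔ J`
  set Y : Subgroup G := ⨆ x : ↥(K ⊔ J), J.map (MulAut.conj (x : G)).toMonoidHom with hY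
  have hJY : J ≤ Y := by
    have h := le_iSup (fun x : ↥(K ⊔ J) => J.map (MulAut.conj (x : G)).toMonoidHom) 1
    have h' : J.map (MulAut.conj ((1 : ↥(K ⊔ J)) : G)).toMonoidHom = J := map_conj_one J
    rwa [h'] at h
  have hKY : K ≤ Y := by
    rw [← hcomm, Subgroup.commutator_le]
    intro k hk j hj
    have h1 : k * j * k⁻¹ ∈ Y := by
      have h := le_iSup (fun x : ↥(K ⊔ J) => J.map (MulAut.conj (x : G)).toMonoidHom)
        ⟨k, Subgroup.mem_sup_left hk⟩
      exact h (conj_mem_map_conj k hj)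
    rw [commutatorElement_def]
    exact Y.mul_mem h1 (Y.inv_mem (hJY hj))
  have hYle : Y ≤ K ⊔ J := by
    rw [hY]
    refine iSup_le ?_
    intro x
    exact map_conj_le_of_mem le_sup_right x.2
  have hYeq : Y = K ⊔ J := le_antisymm hYle (sup_le hKY hJY)
  have hQY : Q ≤ Subgroup.normalizer (Y : Set G) := by
    apply Cfsg.Agent.Helper1.le_normalizer_of_forall_conj_mem
    intro q hq y hy
    have hmap : Y.map (MulAut.conj q).toMonoidHom ≤ Y := by
      rw [hY, Subgroup.map_iSup]
      refine iSup_le ?_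
      intro x
      have hq' : (x : G)⁻¹ * q * (x : G) ∈ Q := by
        have hx := hQ1 ((K ⊔ J).inv_mem x.2)
        have := (Subgroup.mem_normalizer_iff.1 hx q).1 hq
        simpa using this
      have e : q * (x : G) = (x : G) * ((x : G)⁻¹ * q * (x : G)) := by group
      rw [map_conj_map_conj, e, ← map_conj_map_conj, map_conj_eq_of_mem_normalizer (hQ2 hq')]
      exact le_iSup (fun x : ↥(K ⊔ J) => J.map (MulAut.conj (x : G)).toMonoidHom) x
    exact hmap ⟨y, hy, rfl⟩
  rw [hYeq] at hQY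
  apply Cfsg.Agent.Helper1.le_normalizer_of_forall_conj_mem
  intro q hq x hx
  rw [← hgen] at hx
  induction hx using Subgroup.closure_induction with
  | mem g hg =>
    obtain ⟨hgK, hgodd⟩ := hg
    apply mem_of_odd_orderOf hJK hJ2
    · exact (Subgroup.mem_normalizer_iff.1 (hQY hq) g).1 (Subgroup.mem_sup_left hgK)
    · have : q * g * q⁻¹ = MulAut.conj q g := by simp [MulAut.conj_apply]
      rw [this, (MulAut.conj q).orderOf_eq g]
      exact hgodd
  | one => simp
  | mul a b _ _ ha hb =>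
    have : q * (a * b) * q⁻¹ = (q * a * q⁻¹) * (q * b * q⁻¹) := by group
    rw [this]; exact K.mul_mem ha hb
  | inv a _ ha =>
    have : q * a⁻¹ * q⁻¹ = (q * a * q⁻¹)⁻¹ := by group
    rw [this]; exact K.inv_mem ha

end Cfsg.Agent.S2941
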