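import Mathlib
import Cfsg.Statements.S2955
import Cfsg.Agent.Lib.Helper15.SylowControl

set_option autoImplicit false
open Cfsg

namespace Cfsg.Agent.S2955

open Cfsg.Agent.Helper15

variable {G : Type*} [Group G]

/-- one control step keeps us inside the `M`-orbit of `S` -/
theorem orbit_step {p : ℕ} {𝓕 : Set (Subgroup G)} (h𝓕 : Cfsg.IsNormalSet 𝓕) (S : Sylow p G)
    (M : Subgroup G) (hM : ∀ X ∈ Cfsg.sylowMembers p 𝓕 (S : Subgroup G), X ≤ M)
    {R R' : Sylow p G} (hR : ∃ m ∈ M, R = m • S) {X : Subgroup G}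
    (hX : X ∈ Cfsg.sylowMembers p 𝓕 (R : Subgroup G)) {x : G} (hx : x ∈ X)
    (hconj : Cfsg.subgroupConjRight x (R' : Subgroup G) = (R : Subgroup G)) :
    ∃ m ∈ M, R' = m • S := by
  obtain ⟨m, hm, rfl⟩ := hR
  have h1 := sylowMembers_map_conj h𝓕 hX m⁻¹
  rw [sylow_coe_smul_eq_map, map_conj_inv_map_conj] at h1
  have h2 : X.map (MulAut.conj m⁻¹).toMonoidHom ≤ M := hM _ h1
  have h3 : m⁻¹ * x * m ∈ M := by
    apply h2
    rw [mem_map_conj_iff]
    simpa [mul_assoc] using hx
  have h4 : x ∈ M := by
    have := M.mul_mem (M.mul_mem hm h3) (M.inv_mem hm)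
    simpa [mul_assoc] using this
  refine ⟨x * m, M.mul_mem h4 hm, ?_⟩
  rw [mul_smul]
  exact sylow_eq_smul_of_subgroupConjRight hconj

/-- Let p be a prime dividing the order of the finite group G and 𝓕 a conjugation-closed family of subgroups that controls Sylow p-intersections in G. Suppose the Sylow p-subgroups of G are chain-connected: any two of them are joined by a chain of Sylow p-subgroups, consecutive ones distinct with nontrivial intersection, all containing the intersection of the two ends (equivalently, the graph on the Sylow p-subgroups whose edges are the distinct pairs meeting nontrivially is connected). Then for every Sylow p-subgroup S, G is generated by N_G(S) together with the members of 𝓕 that meet S in a Sylow p-subgroup of themselves. -/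
theorem result {G : Type*} [Group G] [Finite G] (p : ℕ) [Fact p.Prime] (hdiv : p ∣ Nat.card G)
    (𝓕 : Set (Subgroup G)) (h𝓕 : Cfsg.IsNormalSet 𝓕) (hc : Cfsg.ControlsSylowIntersections p 𝓕)
    (hconn : Cfsg.IsSylowChainConnected p G) (S : Sylow p G) :
    (⨆ X ∈ Cfsg.sylowMembers p 𝓕 (S : Subgroup G), X) ⊔ Subgroup.normalizer ((S : Subgroup G) : Set G) = ⊤ := by
  set M : Subgroup G := (⨆ X ∈ Cfsg.sylowMembers p 𝓕 (S : Subgroup G), X) ⊔
    Subgroup.normalizer ((S : Subgroup G) : Set G) with hMdef
  have hM : ∀ X ∈ Cfsg.sylowMembers p 𝓕 (S : Subgroup G), X ≤ M := fun X hX =>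
    le_sup_of_le_left (le_iSup₂_of_le X hX le_rfl)
  have hNM : Subgroup.normalizer ((S : Subgroup G) : Set G) ≤ M := le_sup_right
  -- adjacency keeps us inside the orbit
  have hadj : ∀ R R' : Sylow p G, (∃ m ∈ M, R = m • S) → sylowAdj p R R' → ∃ m ∈ M, R' = m • S := by
    intro R R' hR hRR'
    obtain ⟨n, c, X, x, h0, hl, hstep⟩ := hc R R' hRR'.1 hRR'.2
    have hall : ∀ i : Fin (n + 1), ∃ m ∈ M, c i = m • S := by
      intro i
      induction i using Fin.induction with
      | zero => rw [h0]; exact hR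
      | succ j ih =>
        obtain ⟨hX1, _, hxX, hconj, _⟩ := hstep j
        exact orbit_step h𝓕 S M hM ih hX1 hxX hconj
    rw [← hl]
    exact hall (Fin.last n)
  have hreach : ∀ T : Sylow p G, Relation.ReflTransGen (sylowAdj p) S T → ∃ m ∈ M, T = m • S := by
    intro T hT
    induction hT with
    | refl => exact ⟨1, M.one_mem, (one_smul G S).symm⟩
    | tail _ hbc ih => exact hadj _ _ ih hbc
  rw [isSylowChainConnected_iff] at hconn
  rw [eq_top_iff]
  intro g _
  obtain ⟨m, hm, hgm⟩ := hreach (g • S) (hconn S (g • S))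
  have h1 : (m⁻¹ * g) • S = S := by
    rw [mul_smul, hgm, inv_smul_smul]
  have h2 : m⁻¹ * g ∈ Subgroup.normalizer ((S : Subgroup G) : Set G) :=
    Sylow.smul_eq_iff_mem_normalizer.mp h1
  have := M.mul_mem hm (hNM h2)
  simpa using this

end Cfsg.Agent.S2955
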