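import Mathlib
import Cfsg.Statements.S2957
import Cfsg.Agent.Lib.Helper15.FunctorReg3

set_option autoImplicit false
open Cfsg

namespace Cfsg.Agent.S2957

open Cfsg.Agent.Helper15 Cfsg.Agent.Helper15.FReg

/-- Let p be a prime dividing the order of the finite group G, f an equivariant assignment of a set of subgroups f(P) of P to every p-subgroup P, each normalized by N_G(P), and S a Sylow p-subgroup. If G = G₁G₂ for subgroups G₁, G₂ both containing S and both regular for f (in each Gᵢ, the family of normalizers in Gᵢ of the members of f(P), P a Sylow p-subgroup of Gᵢ, controls Sylow p-intersections), then G itself is regular for f. -/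
theorem result {G : Type*} [Group G] [Finite G] (p : ℕ) [Fact p.Prime] (hdiv : p ∣ Nat.card G)
    (f : Subgroup G → Set (Subgroup G)) (hf : Cfsg.IsNormalizerFunctor p f) (S : Sylow p G)
    (G₁ G₂ : Subgroup G) (h₁ : (S : Subgroup G) ≤ G₁) (h₂ : (S : Subgroup G) ≤ G₂)
    (hprod : ∀ g : G, ∃ g₁ ∈ G₁, ∃ g₂ ∈ G₂, g = g₁ * g₂)
    (hr₁ : Cfsg.IsFunctorRegular p f G₁) (hr₂ : Cfsg.IsFunctorRegular p f G₂) :
    Cfsg.IsFunctorRegular p f ⊤ := by
  have a₁ := regularAmb_of_isFunctorRegular hf hr₁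
  have a₂ := regularAmb_of_isFunctorRegular hf hr₂
  apply isFunctorRegular_of_regularAmb hf
  intro R T hR hT hne hinf
  obtain ⟨a, ha⟩ := MulAction.exists_smul_eq G S hR.sylowOfTop
  obtain ⟨b, hb⟩ := MulAction.exists_smul_eq G S hT.sylowOfTop
  have hRa : R = (S : Subgroup G).map (MulAut.conj a).toMonoidHom := by
    rw [← sylow_coe_smul_eq_map, ha]; rfl
  have hTb : T = (S : Subgroup G).map (MulAut.conj b).toMonoidHom := by
    rw [← sylow_coe_smul_eq_map, hb]; rfl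
  -- factor `a⁻¹ b = g₂ g₁`
  obtain ⟨k₁, hk₁, k₂, hk₂, hk⟩ := hprod (a⁻¹ * b)⁻¹
  have hg : a⁻¹ * b = k₂⁻¹ * k₁⁻¹ := by
    have := congrArg (fun z => z⁻¹) hk
    simpa using this
  have hT₀ : T.map (MulAut.conj a⁻¹).toMonoidHom
      = (S : Subgroup G).map (MulAut.conj (k₂⁻¹ * k₁⁻¹)).toMonoidHom := by
    rw [hTb, map_conj_map_conj, hg]
  have hR₀ : R.map (MulAut.conj a⁻¹).toMonoidHom = (S : Subgroup G) := by
    rw [hRa, map_conj_inv_map_conj]
  have hD₀ : (R ⊓ T).map (MulAut.conj a⁻¹).toMonoidHom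
      = (S : Subgroup G) ⊓ (S : Subgroup G).map (MulAut.conj (k₂⁻¹ * k₁⁻¹)).toMonoidHom := by
    rw [Subgroup.map_inf _ _ _ (MulAut.conj a⁻¹).injective, hR₀, hT₀]
  have hne₀ : (S : Subgroup G) ⊓ (S : Subgroup G).map (MulAut.conj (k₂⁻¹ * k₁⁻¹)).toMonoidHom ≠ ⊥ := by
    rw [← hD₀]; exact map_conj_ne_bot hinf _
  have hchain := fchain_of_prod hf S G₁ G₂ h₁ h₂ a₁ a₂ k₁⁻¹ k₂⁻¹ (G₁.inv_mem hk₁) (G₂.inv_mem hk₂) hne₀
  have hchain' := FChain.map_conj hf S.isPGroup' hchain a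
  rw [map_conj_top, ← hD₀, ← hT₀, map_conj_map_conj_inv, map_conj_map_conj_inv, ← hRa] at hchain'
  exact hchain'

end Cfsg.Agent.S2957
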