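import Mathlib
import Cfsg.Statements.S2958

set_option autoImplicit false
open Cfsg

namespace Cfsg.Agent.S2958

/-- Let X, A, B be subgroups of a group G such that G is generated by the conjugates of X and every conjugate of X is contained in A or in B. Then A = G or B = G. -/
theorem result {G : Type*} [Group G] (X A B : Subgroup G) (hgen : (⨆ g : G, X.map (MulAut.conj g).toMonoidHom) = ⊤) (hcover : ∀ g : G, X.map (MulAut.conj g).toMonoidHom ≤ A ∨ X.map (MulAut.conj g).toMonoidHom ≤ B) : A = ⊤ ∨ B = ⊤ := by
  classical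
  by_cases hB : B = ⊤
  · exact Or.inr hB
  left
  -- N is generated by the conjugates not inside B
  set N : Subgroup G := ⨆ (g : G) (_ : ¬ X.map (MulAut.conj g).toMonoidHom ≤ B),
    X.map (MulAut.conj g).toMonoidHom with hN
  have hNA : N ≤ A := by
    refine iSup₂_le ?_
    intro g hg
    exact (hcover g).resolve_right hg
  have hleN : ∀ g : G, ¬ X.map (MulAut.conj g).toMonoidHom ≤ B →
      X.map (MulAut.conj g).toMonoidHom ≤ N := fun g hg =>
    le_iSup₂ (f := fun (g : G) (_ : ¬ X.map (MulAut.conj g).toMonoidHom ≤ B) =>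
            X.map (MulAut.conj g).toMonoidHom) g hg
  have hmapmap : ∀ (h g : G), (X.map (MulAut.conj g).toMonoidHom).map (MulAut.conj h).toMonoidHom
      = X.map (MulAut.conj (h * g)).toMonoidHom := by
    intro h g
    rw [Subgroup.map_map]
    congr 1
    ext x
    simp [MulAut.conj_apply, mul_assoc]
  -- each element of each conjugate maps N into N
  have hstab : ∀ (g : G) (h : G), h ∈ X.map (MulAut.conj g).toMonoidHom →
      N.map (MulAut.conj h).toMonoidHom ≤ N := by
    intro g h hh
    by_cases hgB : X.map (MulAut.conj g).toMonoidHom ≤ B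
    · have hhB : h ∈ B := hgB hh
      rw [hN, Subgroup.map_iSup]
      refine iSup_le ?_
      intro g'
      rw [Subgroup.map_iSup]
      refine iSup_le ?_
      intro hg'
      rw [hmapmap]
      have hnot : ¬ X.map (MulAut.conj (h * g')).toMonoidHom ≤ B := by
        intro hle
        apply hg'
        intro y hy
        have hy' : (MulAut.conj h) y ∈ X.map (MulAut.conj (h * g')).toMonoidHom := by
          rw [← hmapmap]
          exact Subgroup.mem_map_of_mem _ hy
        have := hle hy'
        have h2 : h⁻¹ * ((MulAut.conj h) y) * h ∈ B :=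
          B.mul_mem (B.mul_mem (B.inv_mem hhB) this) hhB
        simpa [MulAut.conj_apply, mul_assoc] using h2
      exact hleN (h * g') hnot
    · have hhN : h ∈ N := hleN g hgB hh
      rintro _ ⟨n, hn, rfl⟩
      simp only [MulEquiv.coe_toMonoidHom, MulAut.conj_apply]
      exact N.mul_mem (N.mul_mem hhN hn) (N.inv_mem hhN)
  have hstab' : ∀ (g : G) (h : G), h ∈ X.map (MulAut.conj g).toMonoidHom →
      ∀ n ∈ N, h * n * h⁻¹ ∈ N := by
    intro g h hh n hn
    have := hstab g h hh (Subgroup.mem_map_of_mem _ hn)
    simpa [MulAut.conj_apply] using this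
  -- hence the normalizer of N is everything
  have hnorm : ∀ g : G, X.map (MulAut.conj g).toMonoidHom ≤ Subgroup.normalizer (N : Set G) := by
    intro g h hh
    rw [Subgroup.mem_normalizer_iff]
    intro n
    constructor
    · exact hstab' g h hh n
    · intro hn
      have := hstab' g h⁻¹ (Subgroup.inv_mem _ hh) _ hn
      simpa [mul_assoc] using this
  have htop : Subgroup.normalizer (N : Set G) = ⊤ := by
    rw [eq_top_iff, ← hgen]
    exact iSup_le hnorm
  -- some conjugate is not in B
  have hex : ∃ g₀ : G, ¬ X.map (MulAut.conj g₀).toMonoidHom ≤ B := by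
    by_contra hcon
    push Not at hcon
    apply hB
    rw [eq_top_iff, ← hgen]
    exact iSup_le hcon
  obtain ⟨g₀, hg₀⟩ := hex
  have hall : ∀ g : G, X.map (MulAut.conj g).toMonoidHom ≤ N := by
    intro g
    rintro _ ⟨x, hx, rfl⟩
    have h1 : g₀ * x * g₀⁻¹ ∈ N := by
      apply hleN g₀ hg₀
      exact ⟨x, hx, by simp [MulAut.conj_apply]⟩
    have h2 : g * g₀⁻¹ ∈ Subgroup.normalizer (N : Set G) := by
      rw [htop]; exact Subgroup.mem_top _
    rw [Subgroup.mem_normalizer_iff] at h2
    have h3 := (h2 _).1 h1
    simp only [MulEquiv.coe_toMonoidHom, MulAut.conj_apply]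
    convert h3 using 1
    group
  rw [eq_top_iff, ← hgen]
  exact le_trans (iSup_le hall) hNA

end Cfsg.Agent.S2958
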