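import Mathlib
import Cfsg.Statements.S2960
import Cfsg.Agent.Lib.Helper15.PCore
import Cfsg.Agent.Lib.Helper15.Isolated

namespace Cfsg.Agent.S2960

open Cfsg.Agent.Helper15

/-- Let G be a finite group of characteristic p (C_G(O_p(G)) ≤ O_p(G)), p prime, T a Sylow p-subgroup of G and Q a normal subgroup of T with C_T(Q) ≤ Q. Then C_G(Q) ≤ Q. -/
theorem result {G : Type*} [Group G] [Finite G] {p : ℕ} [Fact p.Prime] (hG : Subgroup.centralizer (Cfsg.pCore p G : Set G) ≤ Cfsg.pCore p G) (T : Sylow p G) (Q : Subgroup G) (hQT : Q ≤ (T : Subgroup G)) (hQn : (T : Subgroup G) ≤ Subgroup.normalizer (Q : Set G)) (hC : (T : Subgroup G) ⊓ Subgroup.centralizer (Q : Set G) ≤ Q) : Subgroup.centralizer (Q : Set G) ≤ Q := by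
  set C := Subgroup.centralizer (Q : Set G) with hCdef
  have hRp : IsPGroup p ↥(Cfsg.pCore p G) := isPGroup_pCore p G
  have hRT : Cfsg.pCore p G ≤ (T : Subgroup G) := pCore_le_sylow T
  -- T normalizes C
  have hTC : (T : Subgroup G) ≤ Subgroup.normalizer (C : Set G) := by
    intro t ht
    have key : ∀ s ∈ (T : Subgroup G), ∀ c ∈ C, s * c * s⁻¹ ∈ C := by
      intro s hs c hc
      rw [hCdef, Subgroup.mem_centralizer_iff] at hc ⊢
      intro q hq
      have hq' : s⁻¹ * q * s ∈ Q := by
        have := (Subgroup.mem_normalizer_iff.1 (hQn ((T : Subgroup G).inv_mem hs)) q).1 hq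
        rwa [inv_inv] at this
      have := hc _ hq'
      calc q * (s * c * s⁻¹) = s * ((s⁻¹ * q * s) * c) * s⁻¹ := by group
        _ = s * (c * (s⁻¹ * q * s)) * s⁻¹ := by rw [this]
        _ = s * c * s⁻¹ * q := by group
    rw [Subgroup.mem_normalizer_iff]
    intro c
    constructor
    · exact key t ht c
    · intro h
      have := key t⁻¹ ((T : Subgroup G).inv_mem ht) _ h
      have e : t⁻¹ * (t * c * t⁻¹) * t⁻¹⁻¹ = c := by group
      rwa [e] at this
  -- C is a p-group
  have hCp : IsPGroup p ↥C := by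
    apply isPGroup_of_forall_coprime_eq_one
    intro c hc hcop
    have hcent : ∀ x ∈ Cfsg.pCore p G, x * c = c * x := by
      apply commute_of_coprime_of_commutator_commute hRp hcop
      intro x hx
      have hxT : x ∈ (T : Subgroup G) := hRT hx
      have h1 : x * c * x⁻¹ ∈ C := (Subgroup.mem_normalizer_iff.1 (hTC hxT) c).1 hc
      have hzC : x * c * x⁻¹ * c⁻¹ ∈ C := C.mul_mem h1 (C.inv_mem hc)
      have hzR : x * c * x⁻¹ * c⁻¹ ∈ Cfsg.pCore p G := by
        have h2 : c * x⁻¹ * c⁻¹ ∈ Cfsg.pCore p G :=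
          (Cfsg.pCore_normal p G).conj_mem _ ((Cfsg.pCore p G).inv_mem hx) _
        have := (Cfsg.pCore p G).mul_mem hx h2
        convert this using 1
        group
      refine ⟨hzR, ?_⟩
      have hzQ : x * c * x⁻¹ * c⁻¹ ∈ Q := hC ⟨hRT hzR, hzC⟩
      have := Subgroup.mem_centralizer_iff.1 hc _ hzQ
      exact this
    have hcR : c ∈ Cfsg.pCore p G := by
      apply hG
      rw [Subgroup.mem_centralizer_iff]
      intro x hx
      exact hcent x hx
    exact eq_one_of_isPGroup_of_coprime hRp hcR hcop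
  have hsup : IsPGroup p ↥((T : Subgroup G) ⊔ C) :=
    IsPGroup.to_sup_of_normal_right' T.isPGroup' hCp hTC
  have hTeq := T.is_maximal' hsup le_sup_left
  have hCT : C ≤ (T : Subgroup G) := by
    rw [← hTeq]; exact le_sup_right
  exact (le_inf hCT le_rfl).trans hC

end Cfsg.Agent.S2960
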