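import Mathlib
import Cfsg.Statements.S2961
import Cfsg.Agent.Lib.Helper15.CharPAmbient
import Cfsg.Agent.Lib.Helper15.ChermakDelgado
import Cfsg.Agent.Lib.Helper15.CoprimeGen2
import Cfsg.Agent.Lib.Helper7.PLocal2
import Cfsg.Agent.Lib.Helper1.CommutatorBasic

set_option autoImplicit false
open Cfsg

namespace Cfsg.Agent.S2961

open scoped commutatorElement
open Cfsg.Agent.Helper15

/-- Let G be a finite group of characteristic p (C_G(O_p(G)) ≤ O_p(G)), p prime, T a Sylow p-subgroup of G and Q a normal subgroup of T with C_T(Q) ≤ Q. Then every subgroup L of G containing Q has characteristic p: C_L(O_p(L)) ≤ O_p(L). -/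
theorem result {G : Type*} [Group G] [Finite G] {p : ℕ} [Fact p.Prime] (hG : Subgroup.centralizer (Cfsg.pCore p G : Set G) ≤ Cfsg.pCore p G) (T : Sylow p G) (Q : Subgroup G) (hQT : Q ≤ (T : Subgroup G)) (hQn : (T : Subgroup G) ≤ Subgroup.normalizer (Q : Set G)) (hC : (T : Subgroup G) ⊓ Subgroup.centralizer (Q : Set G) ≤ Q) (L : Subgroup G) (hQL : Q ≤ L) : Subgroup.centralizer (Cfsg.pCore p ↥L : Set ↥L) ≤ Cfsg.pCore p ↥L := by
  classical
  have hpp : p.Prime := Fact.out
  rw [← charPIn_iff]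
  set R : Subgroup G := Cfsg.pCore p G with hR
  have hRn : R.Normal := Cfsg.pCore_normal p G
  have hRp : IsPGroup p ↥R := isPGroup_pCore p G
  have hRT : R ≤ (T : Subgroup G) := pCore_le_sylow T
  have hQp : IsPGroup p ↥Q := T.isPGroup'.to_le hQT
  have hnormR : ∀ Y : Subgroup G, Y ≤ Subgroup.normalizer (R : Set G) := by
    intro Y
    apply Cfsg.Agent.Helper1.le_normalizer_of_forall_conj_mem
    intro g _ x hx
    exact hRn.conj_mem x hx g
  -- Step 1: `C_G(Q) ≤ Q`
  have hCQp : IsPGroup p ↥(Subgroup.centralizer (Q : Set G)) := by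
    apply isPGroup_of_forall_coprime_eq_one
    intro c hc hcop
    have h1 : c ∈ Subgroup.centralizer
        ((R ⊓ Subgroup.centralizer (Q : Set G) : Subgroup G) : Set G) := by
      have hle : R ⊓ Subgroup.centralizer (Q : Set G) ≤ Q :=
        (inf_le_inf_right _ hRT).trans hC
      exact Subgroup.centralizer_le hle hc
    have h2 := Cfsg.Agent.Helper7.thompson_AxB_element p R Q hRp hQp (hnormR Q) c
      (hnormR ⊤ (Subgroup.mem_top c)) hcop hc h1
    exact eq_one_of_isPGroup_of_coprime hRp (hG h2) hcop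
  have hTCQ : (T : Subgroup G) ≤ Subgroup.normalizer
      ((Subgroup.centralizer (Q : Set G) : Subgroup G) : Set G) := by
    intro t ht
    apply mem_normalizer_of_map_conj_eq
    rw [← centralizer_map_conj, map_conj_eq_of_mem_normalizer (hQn ht)]
  have hCQ : Subgroup.centralizer (Q : Set G) ≤ Q := by
    have h1 : IsPGroup p ↥((T : Subgroup G) ⊔ Subgroup.centralizer (Q : Set G)) :=
      IsPGroup.to_sup_of_normal_right' T.isPGroup' hCQp hTCQ
    have h2 := T.is_maximal' h1 le_sup_left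
    have h3 : Subgroup.centralizer (Q : Set G) ≤ (T : Subgroup G) := by
      rw [← h2]; exact le_sup_right
    exact (le_inf h3 le_rfl).trans hC
  -- Step 2
  set D : Subgroup G := pCoreOf p L with hD
  set Y : Subgroup G := L ⊓ Subgroup.centralizer (D : Set G) with hY
  have hLD : L ≤ Subgroup.normalizer (D : Set G) := Cfsg.Agent.Helper14.le_normalizer_pCoreOf p L
  have hLY : L ≤ Subgroup.normalizer (Y : Set G) := le_normalizer_inf_centralizer hLD
  have hYL : Y ≤ L := inf_le_left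
  set R₀ : Subgroup G := Q ⊓ R with hR₀
  have hR₀D : R₀ ≤ D := by
    have h1 : L ⊓ R ≤ D := by
      apply Cfsg.Agent.Helper14.le_pCoreOf inf_le_left
      · refine le_trans ?_ (normalizer_inf_normalizer_le_normalizer_inf _ _)
        exact le_inf Subgroup.le_normalizer (hnormR L)
      · exact hRp.to_le inf_le_right
    exact (inf_le_inf_right _ hQL).trans h1
  have hYR₀ : Y ≤ Subgroup.centralizer (R₀ : Set G) :=
    inf_le_right.trans (Subgroup.centralizer_le hR₀D)
  have hQR₀ : Q ≤ Subgroup.normalizer (R₀ : Set G) := by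
    refine le_trans ?_ (normalizer_inf_normalizer_le_normalizer_inf _ _)
    exact le_inf Subgroup.le_normalizer (hnormR Q)
  -- the kernel of the action on `R / R₀`
  let K : Subgroup G :=
    { carrier := {g | g ∈ Subgroup.normalizer (R₀ : Set G) ∧ ∀ r ∈ R, g * r * g⁻¹ * r⁻¹ ∈ R₀}
      one_mem' := by
        refine ⟨Subgroup.one_mem _, ?_⟩
        intro r _
        simp [R₀.one_mem]
      mul_mem' := by
        rintro g h ⟨hgN, hg⟩ ⟨hhN, hh⟩
        refine ⟨Subgroup.mul_mem _ hgN hhN, ?_⟩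
        intro r hr
        have e : g * h * r * (g * h)⁻¹ * r⁻¹
            = g * (h * r * h⁻¹ * r⁻¹) * g⁻¹ * (g * r * g⁻¹ * r⁻¹) := by group
        rw [e]
        exact R₀.mul_mem ((Subgroup.mem_normalizer_iff.mp hgN _).mp (hh r hr)) (hg r hr)
      inv_mem' := by
        rintro g ⟨hgN, hg⟩
        refine ⟨Subgroup.inv_mem _ hgN, ?_⟩
        intro r hr
        have hr' : g⁻¹ * r * g ∈ R := by
          have := hRn.conj_mem r hr g⁻¹
          simpa using this
        have h1 := hg _ hr'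
        have e : g * (g⁻¹ * r * g) * g⁻¹ * (g⁻¹ * r * g)⁻¹ = (g⁻¹ * r * g⁻¹⁻¹ * r⁻¹)⁻¹ := by
          group
        rw [e] at h1
        simpa using R₀.inv_mem h1 }
  have hKmem : ∀ g : G, g ∈ K ↔
      (g ∈ Subgroup.normalizer (R₀ : Set G) ∧ ∀ r ∈ R, g * r * g⁻¹ * r⁻¹ ∈ R₀) := fun g => Iff.rfl
  have hQK : Q ≤ K := by
    intro q hq
    rw [hKmem]
    refine ⟨hQR₀ hq, ?_⟩
    intro r hr
    rw [hR₀, Subgroup.mem_inf]
    constructor
    · have h1 : r * q⁻¹ * r⁻¹ ∈ Q :=
        (Subgroup.mem_normalizer_iff.mp (hQn (hRT hr)) _).mp (Q.inv_mem hq)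
      have e : q * r * q⁻¹ * r⁻¹ = q * (r * q⁻¹ * r⁻¹) := by group
      rw [e]
      exact Q.mul_mem hq h1
    · exact R.mul_mem (hRn.conj_mem r hr q) (R.inv_mem hr)
  have hYK : ∀ y ∈ Y, ∀ g ∈ K, y * g * y⁻¹ ∈ K := by
    intro y hy g hg
    rw [hKmem] at hg ⊢
    obtain ⟨hgN, hg⟩ := hg
    have hyN : y ∈ Subgroup.normalizer (R₀ : Set G) :=
      Subgroup.centralizer_le_normalizer _ (hYR₀ hy)
    refine ⟨Subgroup.mul_mem _ (Subgroup.mul_mem _ hyN hgN) (Subgroup.inv_mem _ hyN), ?_⟩
    intro r hr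
    have hr' : y⁻¹ * r * y ∈ R := by
      have := hRn.conj_mem r hr y⁻¹
      simpa using this
    have h1 := hg _ hr'
    have e : y * g * y⁻¹ * r * (y * g * y⁻¹)⁻¹ * r⁻¹
        = y * (g * (y⁻¹ * r * y) * g⁻¹ * (y⁻¹ * r * y)⁻¹) * y⁻¹ := by group
    rw [e]
    exact (Subgroup.mem_normalizer_iff.mp hyN _).mp h1
  set W : Subgroup G := ⁅Y, Q⁆ with hW
  have hWY : W ≤ Y := Cfsg.Agent.Helper1.commutator_le_of_le_normalizer (hQL.trans hLY)
  have hWK : W ≤ K := by
    rw [hW, Subgroup.commutator_le]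
    intro y hy q hq
    rw [commutatorElement_def]
    have e : y * q * y⁻¹ * q⁻¹ = (y * q * y⁻¹) * q⁻¹ := by group
    rw [e]
    exact K.mul_mem (hYK y hy q (hQK hq)) (K.inv_mem (hQK hq))
  have hWp : IsPGroup p ↥W := by
    apply isPGroup_of_forall_coprime_eq_one
    intro w hw hcop
    have hwK := (hKmem w).mp (hWK hw)
    have hwR₀ : w ∈ Subgroup.centralizer (R₀ : Set G) := hYR₀ (hWY hw)
    have h1 : ∀ x ∈ R, x * w = w * x := by
      apply commute_of_coprime_of_commutator_commute hRp hcop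
      intro x hx
      have h2 : x * w * x⁻¹ * w⁻¹ ∈ R₀ := by
        have h3 := hwK.2 x⁻¹ (R.inv_mem hx)
        have e : x * w * x⁻¹ * w⁻¹ = x * (w * x⁻¹ * w⁻¹ * x⁻¹⁻¹) * x⁻¹ := by group
        rw [e]
        have hxN : x ∈ Subgroup.normalizer (R₀ : Set G) := by
          have hx1 : x ∈ Subgroup.normalizer (Q : Set G) := hQn (hRT hx)
          have hx2 : x ∈ Subgroup.normalizer (R : Set G) := Subgroup.le_normalizer hx
          exact normalizer_inf_normalizer_le_normalizer_inf _ _ ⟨hx1, hx2⟩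
        exact (Subgroup.mem_normalizer_iff.mp hxN _).mp h3
      refine ⟨(inf_le_right : R₀ ≤ R) h2, ?_⟩
      exact ((Subgroup.mem_centralizer_iff.mp hwR₀) _ h2)
    have h2 : w ∈ Subgroup.centralizer (R : Set G) := by
      rw [Subgroup.mem_centralizer_iff]
      exact h1
    exact eq_one_of_isPGroup_of_coprime hRp (hG h2) hcop
  have hWD : W ≤ D := by
    have h1 : W ≤ pCoreOf p Y :=
      Cfsg.Agent.Helper14.le_pCoreOf hWY (Cfsg.Agent.Helper1.le_normalizer_commutator_left Y Q) hWp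
    have h2 : pCoreOf p Y ≤ D :=
      Cfsg.Agent.Helper14.le_pCoreOf ((Cfsg.Agent.Helper14.pCoreOf_le p Y).trans hYL)
        (le_normalizer_pCoreOf_of_le_normalizer hLY) (Cfsg.Agent.Helper14.pCoreOf_isPGroup p Y)
    exact h1.trans h2
  -- every `p'`-element of `Y` is trivial
  have hYp : IsPGroup p ↥Y := by
    apply isPGroup_of_forall_coprime_eq_one
    intro y hy hcop
    have hyD : y ∈ Subgroup.centralizer (D : Set G) :=
      (inf_le_right : Y ≤ Subgroup.centralizer (D : Set G)) hy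
    have h1 : ∀ x ∈ Q, x * y = y * x := by
      intro x hx
      have hz : x * y * x⁻¹ * y⁻¹ ∈ W := by
        rw [hW, Subgroup.commutator_comm]
        exact Subgroup.commutator_mem_commutator hx hy
      set z := x * y * x⁻¹ * y⁻¹ with hzdef
      have hzc : Commute z y := ((Subgroup.mem_centralizer_iff.mp hyD) z (hWD hz))
      have e1 : x * y * x⁻¹ = z * y := by rw [hzdef]; group
      have e2 : (x * y * x⁻¹) ^ orderOf y = 1 := by
        rw [conj_pow, pow_orderOf_eq_one]; group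
      rw [e1, hzc.mul_pow, pow_orderOf_eq_one, mul_one] at e2
      have h3 : orderOf z ∣ orderOf y := orderOf_dvd_of_pow_eq_one e2
      have h4 : (orderOf z).Coprime p := Nat.Coprime.coprime_dvd_left h3 hcop
      have h5 : z = 1 := eq_one_of_isPGroup_of_coprime hWp hz h4
      have h6 : x * y * x⁻¹ * y⁻¹ = 1 := by rw [← hzdef, h5]
      calc x * y = (x * y * x⁻¹ * y⁻¹) * (y * x) := by group
        _ = y * x := by rw [h6, one_mul]
    have h2 : y ∈ Subgroup.centralizer (Q : Set G) := by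
      rw [Subgroup.mem_centralizer_iff]
      exact h1
    exact eq_one_of_isPGroup_of_coprime hQp (hCQ h2) hcop
  exact Cfsg.Agent.Helper14.le_pCoreOf hYL hLY hYp

end Cfsg.Agent.S2961
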