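import Mathlib
import Cfsg.Statements.S2963

set_option autoImplicit false
open Cfsg

namespace Cfsg.Agent.S2963

open scoped Pointwise

/-- Let n be odd. If the symmetric group of degree n is a minimal parabolic group for the prime 2, that is, a Sylow 2-subgroup is not normal and lies in exactly one maximal subgroup, then n = 2^m + 1 for some natural number m. -/
theorem result (n : ℕ) (hn : Odd n) (h : Cfsg.IsPMinimal 2 (Equiv.Perm (Fin n))) : ∃ m : ℕ, n = 2 ^ m + 1 := by
  classical
  obtain ⟨S⟩ : Nonempty (Sylow 2 (Equiv.Perm (Fin n))) := inferInstance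
  obtain ⟨hnn, M, ⟨hM, hSM⟩, huniq⟩ := h S
  have hcardn : Nat.card (Fin n) = n := by simp
  have hP : IsPGroup 2 ↥(S : Subgroup (Equiv.Perm (Fin n))) := S.isPGroup'
  -- a fixed point
  have hfp := hP.card_modEq_card_fixedPoints (Fin n)
  rw [hcardn] at hfp
  have hfpne : (MulAction.fixedPoints ↥(S : Subgroup (Equiv.Perm (Fin n))) (Fin n)).Nonempty := by
    by_contra hcon
    rw [Set.not_nonempty_iff_eq_empty] at hcon
    rw [hcon] at hfp
    have h0 : Nat.card ↥(∅ : Set (Fin n)) = 0 := by simp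
    rw [h0] at hfp
    have : n % 2 = 0 := hfp
    obtain ⟨k, hk⟩ := hn
    omega
  obtain ⟨x₀, hx₀⟩ := hfpne
  have hx₀' : ∀ g ∈ (S : Subgroup (Equiv.Perm (Fin n))), g x₀ = x₀ := by
    intro g hg
    exact (MulAction.mem_fixedPoints.mp hx₀) ⟨g, hg⟩
  -- some other point
  by_cases hy : ∃ y : Fin n, y ≠ x₀
  · obtain ⟨y, hy⟩ := hy
    set Δ : Set (Fin n) := MulAction.orbit ↥(S : Subgroup (Equiv.Perm (Fin n))) y with hΔ
    have hyΔ : y ∈ Δ := MulAction.mem_orbit_self y
    have hx₀Δ : x₀ ∉ Δ := by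
      intro hmem
      obtain ⟨g, hg⟩ := hmem
      have h1 : (g : Equiv.Perm (Fin n)) y = x₀ := hg
      have h2 : (g : Equiv.Perm (Fin n)) x₀ = x₀ := hx₀' g g.2
      exact hy ((g : Equiv.Perm (Fin n)).injective (h1.trans h2.symm))
    have hodd2 : ∀ s : Set (Fin n), Nat.card (Fin n) ≠ 2 * s.ncard := by
      intro s hs
      rw [hcardn] at hs
      obtain ⟨k, hk⟩ := hn
      omega
    have hco1 : IsCoatom (MulAction.stabilizer (Equiv.Perm (Fin n)) ({x₀} : Set (Fin n))) := by
      apply Equiv.Perm.isCoatom_stabilizer (Set.singleton_nonempty x₀) _ (hodd2 _)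
      exact ⟨y, hy⟩
    have hco2 : IsCoatom (MulAction.stabilizer (Equiv.Perm (Fin n)) Δ) := by
      apply Equiv.Perm.isCoatom_stabilizer ⟨y, hyΔ⟩ _ (hodd2 _)
      exact ⟨x₀, hx₀Δ⟩
    have hle1 : (S : Subgroup (Equiv.Perm (Fin n))) ≤
        MulAction.stabilizer (Equiv.Perm (Fin n)) ({x₀} : Set (Fin n)) := by
      intro g hg
      rw [MulAction.mem_stabilizer_iff, Set.smul_set_singleton]
      congr 1
      exact hx₀' g hg
    have hle2 : (S : Subgroup (Equiv.Perm (Fin n))) ≤
        MulAction.stabilizer (Equiv.Perm (Fin n)) Δ := by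
      intro g hg
      rw [MulAction.mem_stabilizer_iff]
      exact MulAction.smul_orbit (⟨g, hg⟩ : ↥(S : Subgroup (Equiv.Perm (Fin n)))) y
    have heq : MulAction.stabilizer (Equiv.Perm (Fin n)) Δ =
        MulAction.stabilizer (Equiv.Perm (Fin n)) ({x₀} : Set (Fin n)) :=
      (huniq _ ⟨hco2, hle2⟩).trans (huniq _ ⟨hco1, hle1⟩).symm
    -- the orbit is everything but `x₀`
    have hall : ∀ y' : Fin n, y' ≠ x₀ → y' ∈ Δ := by
      intro y' hy'
      by_contra hy'Δ
      have hsw : Equiv.swap x₀ y' ∈ MulAction.stabilizer (Equiv.Perm (Fin n)) Δ := by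
        rw [MulAction.mem_stabilizer_iff]
        ext a
        constructor
        · rintro ⟨b, hb, rfl⟩
          have hb1 : b ≠ x₀ := fun hbb => hx₀Δ (hbb ▸ hb)
          have hb2 : b ≠ y' := fun hbb => hy'Δ (hbb ▸ hb)
          show Equiv.swap x₀ y' b ∈ Δ
          rw [Equiv.swap_apply_of_ne_of_ne hb1 hb2]
          exact hb
        · intro ha
          have ha1 : a ≠ x₀ := fun hbb => hx₀Δ (hbb ▸ ha)
          have ha2 : a ≠ y' := fun hbb => hy'Δ (hbb ▸ ha)
          refine ⟨a, ha, ?_⟩
          show Equiv.swap x₀ y' a = a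
          exact Equiv.swap_apply_of_ne_of_ne ha1 ha2
      rw [heq, MulAction.mem_stabilizer_iff, Set.smul_set_singleton] at hsw
      have h1 : Equiv.swap x₀ y' • x₀ = x₀ := Set.singleton_injective hsw
      have h2 : Equiv.swap x₀ y' x₀ = x₀ := h1
      rw [Equiv.swap_apply_left] at h2
      exact hy' h2
    have hΔeq : Δ = ({x₀} : Set (Fin n))ᶜ := by
      ext a
      constructor
      · intro ha hax
        rw [Set.mem_singleton_iff] at hax
        exact hx₀Δ (hax ▸ ha)
      · intro ha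
        exact hall a (by simpa using ha)
    obtain ⟨k, hk⟩ := hP.card_orbit y
    refine ⟨k, ?_⟩
    have h1 := Set.ncard_add_ncard_compl ({x₀} : Set (Fin n)) (Set.toFinite _) (Set.toFinite _)
    rw [Set.ncard_singleton, hcardn, ← hΔeq, ← Nat.card_coe_set_eq, hΔ, hk] at h1
    omega
  · exfalso
    push Not at hy
    apply hnn
    have hsub : Subsingleton (Equiv.Perm (Fin n)) := by
      constructor
      intro a b
      ext x
      rw [hy (a x), hy (b x)]
    constructor
    intro a ha g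
    rwa [Subsingleton.elim (g * a * g⁻¹) a]

end Cfsg.Agent.S2963
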