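import Mathlib
import Cfsg.Statements.S2968
import Cfsg.Agent.Lib.Helper15.Isolated

namespace Cfsg.Agent.S2968

open Cfsg.Agent.Helper15

/-- Let G be a finite group, p a prime, P a Sylow p-subgroup of G and x ∈ P an element of p-power order which is isolated in G (the only conjugate of x commuting with x is x itself). Then x lies in the centre of P, and the subgroup generated by x is both strongly closed and weakly closed in P with respect to G. -/
theorem result {G : Type*} [Group G] [Finite G] {p : ℕ} [Fact p.Prime] (P : Sylow p G) (x : G) (hxP : x ∈ (P : Subgroup G)) (hx : ∃ k : ℕ, orderOf x = p ^ k) (hiso : Cfsg.IsIsolated x) : x ∈ (P : Subgroup G) ⊓ Subgroup.centralizer ((P : Subgroup G) : Set G) ∧ Cfsg.IsStronglyClosed (Subgroup.zpowers x) (P : Subgroup G) ∧ Cfsg.IsWeaklyClosed (Subgroup.zpowers x) (P : Subgroup G) := by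
  have hPc : (P : Subgroup G) ≤ Subgroup.centralizer ({x} : Set G) :=
    IsIsolated.commute_of_mem hiso P.isPGroup' hxP
  have hcomm : ∀ h ∈ (P : Subgroup G), h * x = x * h := fun h hh =>
    mem_centralizer_singleton_iff.1 (hPc hh)
  have hle : Subgroup.zpowers x ≤ (P : Subgroup G) := (Subgroup.zpowers_le).2 hxP
  have key : ∀ (g : G) (n : ℤ), g * x ^ n * g⁻¹ ∈ (P : Subgroup G) → g * x ^ n * g⁻¹ = x ^ n := by
    intro g n hg
    rw [← conj_zpow] at hg ⊢
    apply IsIsolated.conj_zpow_eq hiso hx
    exact (hcomm _ hg).symm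
  refine ⟨⟨hxP, ?_⟩, ⟨hle, ?_⟩, ⟨hle, ?_⟩⟩
  · show x ∈ Subgroup.centralizer ((P : Subgroup G) : Set G)
    rw [Subgroup.mem_centralizer_iff]
    intro h hh
    exact hcomm h hh
  · intro y hy g hg
    obtain ⟨n, rfl⟩ := Subgroup.mem_zpowers_iff.1 hy
    rw [key g n hg]
    exact Subgroup.zpow_mem_zpowers x n
  · intro g hg
    rw [MonoidHom.map_zpowers] at hg ⊢
    have h1 : g * x * g⁻¹ ∈ (P : Subgroup G) := by
      apply hg
      have := Subgroup.mem_zpowers ((MulAut.conj g).toMonoidHom x)
      simpa using this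
    have h2 := key g 1 (by simpa using h1)
    have h3 : (MulAut.conj g).toMonoidHom x = x := by
      simp only [zpow_one] at h2
      simpa using h2
    rw [h3]

end Cfsg.Agent.S2968
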