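import Mathlib
import Cfsg.Statements.S2969
import Cfsg.Agent.Lib.Helper15.Isolated

namespace Cfsg.Agent.S2969

open Cfsg.Agent.Helper15

/-- Let G be a finite group, p a prime and x ∈ G an element of p-power order which is isolated in G. If R is a p-subgroup of G containing x, then N_G(R) ≤ C_G(x); in particular x lies in the centre of R. Moreover, if x lies in a normal subgroup N of a subgroup H of G, then H = N·C_H(x). -/
theorem result {G : Type*} [Group G] [Finite G] {p : ℕ} [Fact p.Prime] (x : G) (hx : ∃ k : ℕ, orderOf x = p ^ k) (hiso : Cfsg.IsIsolated x) : (∀ R : Subgroup G, IsPGroup p ↥R → x ∈ R → Subgroup.normalizer (R : Set G) ≤ Subgroup.centralizer ({x} : Set G)) ∧ (∀ H N : Subgroup G, N ≤ H → H ≤ Subgroup.normalizer (N : Set G) → x ∈ N → N ⊔ (H ⊓ Subgroup.centralizer ({x} : Set G)) = H) := by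
  constructor
  · intro R hR hxR n hn
    have h1 : n * x * n⁻¹ ∈ R := (Subgroup.mem_normalizer_iff.1 hn x).1 hxR
    have h2 := IsIsolated.commute_of_mem hiso hR hxR h1
    have h3 := mem_centralizer_singleton_iff.1 h2
    have h4 := hiso n h3.symm
    exact mem_centralizer_singleton_iff.2 (conj_eq_self_iff.1 h4)
  · intro H N hNH hHN hxN
    apply le_antisymm
    · exact sup_le hNH inf_le_left
    · intro h hh
      set x' := h * x * h⁻¹ with hx'
      have hx'N : x' ∈ N := (Subgroup.mem_normalizer_iff.1 (hHN hh) x).1 hxN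
      have hx'ord : ∃ k : ℕ, orderOf x' = p ^ k := by
        obtain ⟨k, hk⟩ := hx
        refine ⟨k, ?_⟩
        rw [hx', ← hk]
        have := MulEquiv.orderOf_eq (MulAut.conj h) x
        rwa [MulAut.conj_apply] at this
      have hP : IsPGroup p ↥(Subgroup.zpowers x) := isPGroup_zpowers_of_orderOf hx
      have hP' : IsPGroup p ↥(Subgroup.zpowers x') := isPGroup_zpowers_of_orderOf hx'ord
      obtain ⟨T, hxT, hT⟩ := exists_isSylowIn_ge hP ((Subgroup.zpowers_le).2 hxN)
      obtain ⟨T', hxT', hT'⟩ := exists_isSylowIn_ge hP' ((Subgroup.zpowers_le).2 hx'N)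
      obtain ⟨c, hcN, hcT⟩ := hT'.exists_conj hT
      have h1 : c * x' * c⁻¹ ∈ T := by
        rw [← hcT]
        exact conj_mem_map_conj c (hxT' (Subgroup.mem_zpowers x'))
      have h2 : T ≤ Subgroup.centralizer ({x} : Set G) :=
        IsIsolated.commute_of_mem hiso hT.isPGroup (hxT (Subgroup.mem_zpowers x))
      have h3 : (c * x' * c⁻¹) * x = x * (c * x' * c⁻¹) := mem_centralizer_singleton_iff.1 (h2 h1)
      have e1 : c * x' * c⁻¹ = (c * h) * x * (c * h)⁻¹ := by rw [hx']; group
      have h4 : (c * h) * x * (c * h)⁻¹ = x := by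
        apply hiso
        rw [← e1]
        exact h3.symm
      have h5 : c * h ∈ H ⊓ Subgroup.centralizer ({x} : Set G) :=
        ⟨H.mul_mem (hNH hcN) hh, mem_centralizer_singleton_iff.2 (conj_eq_self_iff.1 h4)⟩
      have e2 : h = c⁻¹ * (c * h) := by group
      rw [e2]
      exact Subgroup.mul_mem_sup (N.inv_mem hcN) h5

end Cfsg.Agent.S2969
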