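import Mathlib
import Cfsg.Statements.S2971
import Cfsg.Agent.Lib.Helper15.OmegaOne
import Cfsg.Agent.Lib.Helper15.StronglyEmbedded
import Cfsg.Agent.Lib.Helper10.Frobenius3
import Cfsg.Agent.Lib.Helper10.Frobenius2
import Cfsg.Agent.Lib.Helper22.PPrimeCore

set_option autoImplicit false
open Cfsg

namespace Cfsg.Agent.S2971

open Cfsg.Agent.Helper15

/-- in a group of `p`-rank one, an element of order dividing `p` commuting with an element `z` of
order `p` is a power of `z` -/
theorem mem_zpowers_of_commute_of_prank {G : Type*} [Group G] [Finite G] {p : ℕ} [Fact p.Prime]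
    (hrk : Cfsg.PRankLE p 1 G) {y z : G} (hz : orderOf z = p) (hy : y ^ p = 1)
    (hc : Commute y z) : y ∈ Subgroup.zpowers z := by
  have hzp : z ^ p = 1 := by rw [← hz]; exact pow_orderOf_eq_one z
  have hcomm : ∀ a ∈ ({y, z} : Set G), ∀ b ∈ ({y, z} : Set G), a * b = b * a := by
    intro a ha b hb
    rcases ha with rfl | rfl <;> rcases hb with rfl | rfl
    · rfl
    · exact hc.eq
    · exact hc.eq.symm
    · rfl
  haveI hA : IsMulCommutative ↥(Subgroup.closure ({y, z} : Set G)) :=
    Subgroup.isMulCommutative_closure hcomm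
  have hexp : ∀ a ∈ Subgroup.closure ({y, z} : Set G), a ^ p = 1 := by
    intro a ha
    induction ha using Subgroup.closure_induction with
    | mem a ha =>
      rcases ha with rfl | rfl
      · exact hy
      · exact hzp
    | one => exact one_pow _
    | mul a b ha hb iha ihb =>
      have hab : Commute a b := by
        have := hA.is_comm.comm (⟨a, ha⟩ : Subgroup.closure ({y, z} : Set G)) ⟨b, hb⟩
        exact congrArg Subtype.val this
      rw [hab.mul_pow, iha, ihb, one_mul]
    | inv a ha iha => rw [inv_pow, iha, inv_one]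
  have hcard := hrk _ hA hexp
  rw [pow_one] at hcard
  have hle : Subgroup.zpowers z ≤ Subgroup.closure ({y, z} : Set G) :=
    Subgroup.zpowers_le.mpr (Subgroup.subset_closure (by simp))
  have heq : Subgroup.zpowers z = Subgroup.closure ({y, z} : Set G) := by
    apply Subgroup.eq_of_le_of_card_ge hle
    rw [Nat.card_zpowers, hz]
    exact hcard
  rw [heq]
  exact Subgroup.subset_closure (by simp)

/-- Let G be a finite group and p an odd prime such that G has p-rank at most 1 (no elementary abelian subgroup of order p²). If x ∈ G is an isolated element of order p, then x is central modulo the largest normal subgroup of G of order prime to p. -/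
theorem result {G : Type*} [Group G] [Finite G] {p : ℕ} [Fact p.Prime] (hp : p ≠ 2) (hrk : Cfsg.PRankLE p 1 G) (x : G) (hx : orderOf x = p) (hiso : Cfsg.IsIsolated x) : Cfsg.InZStar p x := by
  have hpp : p.Prime := Fact.out
  have hxp : x ^ p = 1 := by rw [← hx]; exact pow_orderOf_eq_one x
  have hx1 : x ≠ 1 := by
    intro h
    rw [h, orderOf_one] at hx
    exact hpp.one_lt.ne hx
  -- a Sylow subgroup containing `x`
  have hzx : IsPGroup p ↥(Subgroup.zpowers x) := by
    apply IsPGroup.of_card (n := 1)
    rw [Nat.card_zpowers, hx, pow_one]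
  obtain ⟨P, hxP⟩ := hzx.exists_le_sylow
  have hxP' : x ∈ (P : Subgroup G) := hxP (Subgroup.mem_zpowers x)
  have hP1 : (P : Subgroup G) ≠ ⊥ := by
    intro h
    rw [h, Subgroup.mem_bot] at hxP'
    exact hx1 hxP'
  obtain ⟨z, hzP, hzo, hPz⟩ := exists_orderOf_eq_prime_centralized P.isPGroup' le_rfl
    Subgroup.le_normalizer hP1
  have hcz : ∀ s ∈ (P : Subgroup G), Commute s z := by
    intro s hs
    have := hPz hs
    rw [mem_centralizer_singleton_iff] at this
    exact this
  have hxz : x ∈ Subgroup.zpowers z :=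
    mem_zpowers_of_commute_of_prank hrk hzo hxp (hcz x hxP')
  -- `x` is central in `P`
  have hcx : ∀ s ∈ (P : Subgroup G), Commute s x := by
    intro s hs
    obtain ⟨k, rfl⟩ := Subgroup.mem_zpowers_iff.mp hxz
    exact (hcz s hs).zpow_right k
  -- elements of order dividing `p` in `P` are powers of `x`
  have hkey : ∀ y ∈ (P : Subgroup G), y ^ p = 1 → y ∈ Subgroup.zpowers x := by
    intro y hy hyp
    exact mem_zpowers_of_commute_of_prank hrk hx hyp (hcx y hy)
  have hF : Cfsg.Agent.Helper10.FrobCond p G := by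
    apply Cfsg.Agent.Helper10.frobCond_of_sylow P
    intro Q hQP g hg hcop
    have hA : (Nat.card ↥(Subgroup.zpowers g)).Coprime p := by
      rw [Nat.card_zpowers]; exact hcop
    have h1 : Subgroup.zpowers g ≤ Subgroup.normalizer (Q : Set G) := Subgroup.zpowers_le.mpr hg
    have h2 : Subgroup.zpowers g ≤ Subgroup.centralizer (Cfsg.omegaOne p Q : Set G) := by
      unfold Cfsg.omegaOne
      rw [Subgroup.centralizer_closure]
      intro a ha
      rw [Subgroup.mem_centralizer_iff]
      rintro y ⟨hyQ, hyp⟩
      by_cases hy1 : y = 1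
      · rw [hy1]; simp
      -- `y` is a power of `x`, and `x` a power of `y`
      have hyx : y ∈ Subgroup.zpowers x := hkey y (hQP hyQ) hyp
      have hxy : x ∈ Subgroup.zpowers y := by
        have hle : Subgroup.zpowers y ≤ Subgroup.zpowers x := Subgroup.zpowers_le.mpr hyx
        have hyo : orderOf y = p := by
          have h3 : orderOf y ∣ p := orderOf_dvd_of_pow_eq_one hyp
          rcases (Nat.dvd_prime hpp).mp h3 with h4 | h4
          · exact absurd (orderOf_eq_one_iff.mp h4) hy1
          · exact h4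
        have heq : Subgroup.zpowers y = Subgroup.zpowers x := by
          apply Subgroup.eq_of_le_of_card_ge hle
          rw [Nat.card_zpowers, Nat.card_zpowers, hx, hyo]
        rw [heq]
        exact Subgroup.mem_zpowers x
      have hxQ : x ∈ Q := (Subgroup.zpowers_le.mpr hyQ) hxy
      have hgx : g * x * g⁻¹ ∈ Q := (Subgroup.mem_normalizer_iff.mp hg x).mp hxQ
      have hgxp : (g * x * g⁻¹) ^ p = 1 := by rw [conj_pow, hxp]; group
      have h3 : g * x * g⁻¹ ∈ Subgroup.zpowers x := hkey _ (hQP hgx) hgxp
      have h4 : Commute x (g * x * g⁻¹) := by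
        obtain ⟨k, hk⟩ := Subgroup.mem_zpowers_iff.mp h3
        rw [← hk]
        exact (Commute.refl x).zpow_right k
      have h5 : g * x * g⁻¹ = x := hiso g h4
      have hgcx : Commute g x := by
        have : g * x = x * g := by
          calc g * x = (g * x * g⁻¹) * g := by group
            _ = x * g := by rw [h5]
        exact this
      obtain ⟨k, rfl⟩ := Subgroup.mem_zpowers_iff.mp hyx
      obtain ⟨m, rfl⟩ := Subgroup.mem_zpowers_iff.mp ha
      exact ((hgcx.zpow_right k).zpow_left m).eq.symm
    have h3 := le_centralizer_of_le_centralizer_omegaOne hp (Subgroup.zpowers g) hA _ Q rfl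
      (P.isPGroup'.to_le hQP) h1 h2
    exact h3 (Subgroup.mem_zpowers g)
  have hNPC : Cfsg.Agent.Helper10.NPC p G :=
    Cfsg.Agent.Helper10.npc_of_frobCond (Nat.card G) G rfl hF
  obtain ⟨N, hN, hNcop, hidx⟩ := hNPC
  have hcompl := Cfsg.Agent.Helper10.isComplement'_of_npc hNcop hidx P
  have hNle : N ≤ Cfsg.pPrimeCore p G := Cfsg.Agent.Helper22.le_pPrimeCore p N hN hNcop
  intro g
  obtain ⟨⟨n, s⟩, hns⟩ := hcompl.2 g
  have hns' : (n : G) * (s : G) = g := hns
  apply hNle
  have e : g * x * g⁻¹ * x⁻¹ = (n : G) * (x * (n : G)⁻¹ * x⁻¹) := by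
    rw [← hns']
    have := (hcx s s.2).eq
    calc (n : G) * (s : G) * x * ((n : G) * (s : G))⁻¹ * x⁻¹
        = (n : G) * ((s : G) * x) * (s : G)⁻¹ * (n : G)⁻¹ * x⁻¹ := by group
      _ = (n : G) * (x * (s : G)) * (s : G)⁻¹ * (n : G)⁻¹ * x⁻¹ := by rw [this]
      _ = (n : G) * (x * (n : G)⁻¹ * x⁻¹) := by group
  rw [e]
  exact N.mul_mem n.2 (hN.conj_mem _ (N.inv_mem n.2) x)

end Cfsg.Agent.S2971
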