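import Mathlib
import Cfsg.Statements.S2998
import Cfsg.Agent.Lib.Helper15.Isolated

namespace Cfsg.Agent.S2998

open Cfsg.Agent.Helper15

private lemma map_conj_le_iff' {G : Type*} [Group G] {H K : Subgroup G} {g : G} :
    H.map (MulAut.conj g).toMonoidHom ≤ K ↔ ∀ h ∈ H, g * h * g⁻¹ ∈ K := by
  constructor
  · intro h y hy
    exact h (conj_mem_map_conj g hy)
  · rintro h _ ⟨y, hy, rfl⟩
    simpa [MulAut.conj_apply] using h y hy

/-- Let G be a finite group, p a prime, P a Sylow p-subgroup of G and x ∈ P an element such that N_G(R) ≤ C_G(x) for every nontrivial subgroup R of P. Then P ≤ C_G(x); every G-conjugate of x lying in P equals x (so g ∈ C_G(x) whenever g x g⁻¹ ∈ P); and for every normal subgroup N of G, the image of x in G ⧸ N has the same property with respect to the image of P: the normalizer of every nontrivial subgroup of the image of P centralizes the image of x. -/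
theorem result {G : Type*} [Group G] [Finite G] {p : ℕ} [Fact p.Prime] (P : Sylow p G) (x : G) (hxP : x ∈ (P : Subgroup G)) (hlc : ∀ R : Subgroup G, R ≤ (P : Subgroup G) → R ≠ ⊥ → Subgroup.normalizer (R : Set G) ≤ Subgroup.centralizer ({x} : Set G)) : (P : Subgroup G) ≤ Subgroup.centralizer ({x} : Set G) ∧ (∀ g : G, g * x * g⁻¹ ∈ (P : Subgroup G) → g * x * g⁻¹ = x) ∧ ∀ (N : Subgroup G) [N.Normal], ∀ R : Subgroup (G ⧸ N), R ≤ (P : Subgroup G).map (QuotientGroup.mk' N) → R ≠ ⊥ → Subgroup.normalizer (R : Set (G ⧸ N)) ≤ Subgroup.centralizer ({(QuotientGroup.mk x : G ⧸ N)} : Set (G ⧸ N)) := by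
  by_cases hx1 : x = 1
  · subst hx1
    refine ⟨?_, ?_, ?_⟩
    · intro y _
      rw [mem_centralizer_singleton_iff]; simp
    · intro g _; simp
    · intro N _ R _ _ y _
      rw [mem_centralizer_singleton_iff]; simp
  have hPne : (P : Subgroup G) ≠ ⊥ := by
    intro h
    rw [h, Subgroup.mem_bot] at hxP
    exact hx1 hxP
  have hNP : Subgroup.normalizer ((P : Subgroup G) : Set G) ≤ Subgroup.centralizer ({x} : Set G) :=
    hlc _ le_rfl hPne
  have hPC : (P : Subgroup G) ≤ Subgroup.centralizer ({x} : Set G) :=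
    Subgroup.le_normalizer.trans hNP
  refine ⟨hPC, ?_, ?_⟩
  · intro g hg
    set x' := g * x * g⁻¹ with hx'
    set K := Subgroup.centralizer ({x'} : Set G) with hK
    -- the conjugate Sylow subgroup lies in K
    have hP'K : (P : Subgroup G).map (MulAut.conj g).toMonoidHom ≤ K := by
      rw [map_conj_le_iff']
      intro y hy
      rw [hK, mem_centralizer_singleton_iff, hx']
      have := mem_centralizer_singleton_iff.1 (hPC hy)
      calc g * y * g⁻¹ * (g * x * g⁻¹) = g * (y * x) * g⁻¹ := by group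
        _ = g * (x * y) * g⁻¹ := by rw [this]
        _ = _ := by group
    have hP'S : IsSylowIn p ((P : Subgroup G).map (MulAut.conj g).toMonoidHom) K := by
      have h1 := (isSylowIn_top P).map_conj g
      rw [map_conj_eq_self_of_mem (Subgroup.mem_top g)] at h1
      exact h1.of_le hP'K le_top
    have hQ : IsPGroup p ↥((P : Subgroup G) ⊓ K) := P.isPGroup'.to_le inf_le_left
    obtain ⟨T, hQT, hT⟩ := exists_isSylowIn_ge hQ (inf_le_right : (P : Subgroup G) ⊓ K ≤ K)
    obtain ⟨c, hcK, hcT⟩ := hP'S.exists_conj hT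
    rw [map_conj_map_conj] at hcT
    set g' := c * g with hg'
    have hcx' : c * x' * c⁻¹ = x' := conj_eq_self_iff.2 (mem_centralizer_singleton_iff.1 hcK)
    have hg'x : g' * x * g'⁻¹ = x' := by
      rw [← hcx', hx', hg']; group
    have hx'K : x' ∈ K := mem_centralizer_singleton_iff.2 rfl
    have hx'T : x' ∈ T := hQT ⟨hg, hx'K⟩
    -- x' is locally central with respect to T
    have hlcT : ∀ R : Subgroup G, R ≤ T → R ≠ ⊥ →
        Subgroup.normalizer (R : Set G) ≤ Subgroup.centralizer ({x'} : Set G) := by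
      intro R hRT hR1 n hn
      have h1 : R.map (MulAut.conj g'⁻¹).toMonoidHom ≤ (P : Subgroup G) := by
        have := map_conj_mono hRT g'⁻¹
        rwa [← hcT, map_conj_inv_map_conj] at this
      have h2 : R.map (MulAut.conj g'⁻¹).toMonoidHom ≠ ⊥ := by
        intro hb
        apply hR1
        have := congrArg (fun H : Subgroup G => H.map (MulAut.conj g').toMonoidHom) hb
        rw [map_conj_map_conj_inv, Subgroup.map_bot] at this
        exact this
      have h3 : g'⁻¹ * n * g' ∈ Subgroup.normalizer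
          ((R.map (MulAut.conj g'⁻¹).toMonoidHom : Subgroup G) : Set G) := by
        rw [Subgroup.mem_normalizer_iff]
        intro y
        rw [mem_map_conj_iff, mem_map_conj_iff]
        have := Subgroup.mem_normalizer_iff.1 hn (g' * y * g'⁻¹)
        simp only [inv_inv]
        have e : g' * (g'⁻¹ * n * g' * y * (g'⁻¹ * n * g')⁻¹) * g'⁻¹
            = n * (g' * y * g'⁻¹) * n⁻¹ := by group
        rw [e]
        exact this
      have h4 := hlc _ h1 h2 h3
      rw [mem_centralizer_singleton_iff] at h4 ⊢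
      rw [← hg'x]
      calc n * (g' * x * g'⁻¹) = g' * ((g'⁻¹ * n * g') * x) * g'⁻¹ := by group
        _ = g' * (x * (g'⁻¹ * n * g')) * g'⁻¹ := by rw [h4]
        _ = _ := by group
    -- D = P ⊓ T
    have hx'1 : x' ≠ 1 := by
      intro h
      apply hx1
      have : x = g⁻¹ * x' * g := by rw [hx']; group
      rw [this, h]; group
    have hD1 : (P : Subgroup G) ⊓ T ≠ ⊥ := by
      intro h
      have : x' ∈ (P : Subgroup G) ⊓ T := ⟨hg, hx'T⟩
      rw [h, Subgroup.mem_bot] at this
      exact hx'1 this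
    have hND := hlcT _ (inf_le_right : (P : Subgroup G) ⊓ T ≤ T) hD1
    have key : (P : Subgroup G) ⊓ Subgroup.normalizer (((P : Subgroup G) ⊓ T : Subgroup G) : Set G)
        = (P : Subgroup G) ⊓ T := by
      apply le_antisymm
      · rintro y ⟨hyP, hyN⟩
        exact ⟨hyP, hQT ⟨hyP, hND hyN⟩⟩
      · exact le_inf inf_le_left Subgroup.le_normalizer
    have hPD := eq_of_inf_normalizer_eq P.isPGroup' inf_le_left key
    have hPT : (P : Subgroup G) ≤ T := by
      rw [hPD]; exact inf_le_right
    have hTP : T = (P : Subgroup G) := P.is_maximal' hT.isPGroup hPT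
    rw [hTP] at hcT
    have hg'N := mem_normalizer_of_map_conj_eq hcT
    have := mem_centralizer_singleton_iff.1 (hNP hg'N)
    rw [← hg'x]
    exact conj_eq_self_iff.2 this
  · intro N _ R hRP hR1 nb hnb
    obtain ⟨n, rfl⟩ := QuotientGroup.mk_surjective nb
    set L := R.comap (QuotientGroup.mk' N) with hL
    have hNL : N ≤ L := by
      intro y hy
      rw [hL, Subgroup.mem_comap]
      have : (QuotientGroup.mk' N) y = 1 := (QuotientGroup.eq_one_iff y).2 hy
      rw [this]; exact R.one_mem
    have hLPN : L ≤ (P : Subgroup G) ⊔ N := by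
      intro l hl
      rw [hL, Subgroup.mem_comap] at hl
      obtain ⟨u, hu, hul⟩ := hRP hl
      have h1 : u⁻¹ * l ∈ N := by
        rw [← QuotientGroup.eq_one_iff (N := N)]
        have : (QuotientGroup.mk (u⁻¹ * l) : G ⧸ N) = ((QuotientGroup.mk' N) u)⁻¹ * (QuotientGroup.mk' N) l := rfl
        rw [this, hul]; simp
      have : l = u * (u⁻¹ * l) := by group
      rw [this]
      exact Subgroup.mul_mem_sup hu h1
    -- R₀ = L ⊓ P is nontrivial
    have hR01 : L ⊓ (P : Subgroup G) ≠ ⊥ := by
      intro hb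
      apply hR1
      rw [eq_bot_iff]
      intro rb hrb
      obtain ⟨u, hu, hur⟩ := hRP hrb
      have huL : u ∈ L := by
        rw [hL, Subgroup.mem_comap, hur]; exact hrb
      have : u ∈ L ⊓ (P : Subgroup G) := ⟨huL, hu⟩
      rw [hb, Subgroup.mem_bot] at this
      rw [Subgroup.mem_bot, ← hur, this, map_one]
    -- n normalizes L
    have hnL : ∀ l ∈ L, ∀ k ∈ N, (k * n) * l * (k * n)⁻¹ ∈ L := by
      intro l hl k hk
      rw [hL, Subgroup.mem_comap] at hl ⊢
      have hk1 : (QuotientGroup.mk' N) k = 1 := (QuotientGroup.eq_one_iff k).2 hk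
      have e : (QuotientGroup.mk' N) ((k * n) * l * (k * n)⁻¹)
          = (QuotientGroup.mk n : G ⧸ N) * (QuotientGroup.mk' N) l * (QuotientGroup.mk n : G ⧸ N)⁻¹ := by
        simp only [map_mul, map_inv, hk1, one_mul]
        rfl
      rw [e]
      exact (Subgroup.mem_normalizer_iff.1 hnb _).1 hl
    -- Sylow argument in P ⊔ N
    have hPS : IsSylowIn p (P : Subgroup G) ((P : Subgroup G) ⊔ N) :=
      isSylowIn_of_sylow_le P le_sup_left
    have hR0p : IsPGroup p ↥((L ⊓ (P : Subgroup G)).map (MulAut.conj n).toMonoidHom) :=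
      isPGroup_map_conj (P.isPGroup'.to_le inf_le_right) n
    have hR0le : (L ⊓ (P : Subgroup G)).map (MulAut.conj n).toMonoidHom ≤ (P : Subgroup G) ⊔ N := by
      rw [map_conj_le_iff']
      intro y hy
      apply hLPN
      have := hnL y hy.1 1 N.one_mem
      simpa using this
    obtain ⟨T, hT1, hT⟩ := exists_isSylowIn_ge hR0p hR0le
    obtain ⟨m, hm, hmT⟩ := hT.exists_conj hPS
    have hmem : m ∈ ((((P : Subgroup G) ⊔ N : Subgroup G)) : Set G) := hm
    rw [Subgroup.mul_normal] at hmem
    obtain ⟨u, hu, l, hl, hul⟩ := Set.mem_mul.1 hmem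
    have h1 : (L ⊓ (P : Subgroup G)).map (MulAut.conj (l * n)).toMonoidHom ≤ L ⊓ (P : Subgroup G) := by
      rw [map_conj_le_iff']
      intro y hy
      refine ⟨hnL y hy.1 l hl, ?_⟩
      have h2 : m * (n * y * n⁻¹) * m⁻¹ ∈ (P : Subgroup G) := by
        rw [← hmT]
        exact conj_mem_map_conj m (hT1 (conj_mem_map_conj n hy))
      have e : (l * n) * y * (l * n)⁻¹ = u⁻¹ * (m * (n * y * n⁻¹) * m⁻¹) * u := by
        rw [← hul]; group
      rw [e]
      exact (P : Subgroup G).mul_mem ((P : Subgroup G).mul_mem ((P : Subgroup G).inv_mem hu) h2) hu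
    have h2 := mem_normalizer_of_map_conj_eq (map_conj_eq_iff_le.2 h1)
    have h3 := hlc _ inf_le_right hR01 h2
    rw [mem_centralizer_singleton_iff] at h3 ⊢
    have hl1 : (QuotientGroup.mk l : G ⧸ N) = 1 := (QuotientGroup.eq_one_iff l).2 hl
    have h4 := congrArg (QuotientGroup.mk : G → G ⧸ N) h3
    simp only [QuotientGroup.mk_mul, hl1, one_mul] at h4
    exact h4

end Cfsg.Agent.S2998
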