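import Mathlib
import Cfsg.Statements.S3003
import Cfsg.Agent.Lib.Helper15.CoprimeGen

set_option autoImplicit false
open Cfsg

namespace Cfsg.Agent.S3003

open Cfsg.Agent.Helper15

theorem part1 {G : Type*} [Group G] [Finite G] {p : ℕ} [Fact p.Prime] (Q : Subgroup G)
    (hQp : IsPGroup p ↥Q) (hlarge : Cfsg.IsLarge Q) (G₁ : Subgroup G) (hQG : Q ≤ G₁)
    (R : Subgroup G) (hR : (Nat.card ↥R).Coprime p)
    (hGR : G₁ ≤ Subgroup.normalizer (R : Set G)) (U : Subgroup G)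
    (hx : ∃ x ∈ U, x ≠ 1 ∧ ∃ g ∈ G₁, g * x * g⁻¹ ∈ Q ⊓ Subgroup.centralizer (Q : Set G)) :
    R ⊓ Subgroup.centralizer (U : Set G) = ⊥ := by
  obtain ⟨x, hxU, hx1, g, hg, hz⟩ := hx
  rw [Subgroup.mem_inf] at hz
  obtain ⟨hzQ, hzC⟩ := hz
  obtain ⟨hCQ, hQbang⟩ := hlarge
  have hQR : Q ⊓ R = ⊥ := by
    apply Subgroup.inf_eq_bot_of_coprime
    obtain ⟨k, hk⟩ := IsPGroup.iff_card.mp hQp
    rw [hk]
    exact (Nat.Coprime.pow_right k hR).symm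
  rw [eq_bot_iff]
  intro c hc
  rw [Subgroup.mem_inf] at hc
  obtain ⟨hcR, hcU⟩ := hc
  rw [Subgroup.mem_bot]
  set z := g * x * g⁻¹ with hzdef
  set d := g * c * g⁻¹ with hddef
  have hcx : x * c = c * x := (Subgroup.mem_centralizer_iff.mp hcU) x hxU
  have hdR : d ∈ R := (Subgroup.mem_normalizer_iff.mp (hGR hg) c).mp hcR
  have hdz : d * z = z * d := by
    rw [hzdef, hddef]
    calc g * c * g⁻¹ * (g * x * g⁻¹) = g * (c * x) * g⁻¹ := by group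
      _ = g * (x * c) * g⁻¹ := by rw [hcx]
      _ = g * x * g⁻¹ * (g * c * g⁻¹) := by group
  have hz1 : z ≠ 1 := by
    intro h
    apply hx1
    have : x = g⁻¹ * z * g := by rw [hzdef]; group
    rw [this, h]; group
  have hdNQ : d ∈ Subgroup.normalizer (Q : Set G) := by
    apply hQbang (Subgroup.zpowers z)
    · rw [Subgroup.zpowers_le]; exact hzC
    · intro h
      exact hz1 (Subgroup.zpowers_eq_bot.mp h)
    · apply Subgroup.centralizer_le_normalizer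
      rw [Subgroup.mem_centralizer_iff]
      intro y hy
      obtain ⟨k, rfl⟩ := Subgroup.mem_zpowers_iff.mp hy
      exact ((Commute.zpow_right (show Commute d z from hdz) k).eq).symm
  have hdCQ : d ∈ Subgroup.centralizer (Q : Set G) := by
    rw [Subgroup.mem_centralizer_iff]
    intro q hq
    have h1 : d * q * d⁻¹ * q⁻¹ ∈ Q :=
      Q.mul_mem ((Subgroup.mem_normalizer_iff.mp hdNQ q).mp hq) (Q.inv_mem hq)
    have h2 : d * q * d⁻¹ * q⁻¹ ∈ R := by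
      have h3 : q * d⁻¹ * q⁻¹ ∈ R :=
        (Subgroup.mem_normalizer_iff.mp (hGR (hQG hq)) d⁻¹).mp (R.inv_mem hdR)
      have h4 : d * q * d⁻¹ * q⁻¹ = d * (q * d⁻¹ * q⁻¹) := by group
      rw [h4]
      exact R.mul_mem hdR h3
    have h5 : d * q * d⁻¹ * q⁻¹ ∈ Q ⊓ R := Subgroup.mem_inf.mpr ⟨h1, h2⟩
    rw [hQR, Subgroup.mem_bot] at h5
    calc q * d = (d * q * d⁻¹ * q⁻¹)⁻¹ * (d * q) := by group
      _ = d * q := by rw [h5, inv_one, one_mul]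
  have hd1 : d = 1 := by
    have h5 : d ∈ Q ⊓ R := Subgroup.mem_inf.mpr ⟨hCQ hdCQ, hdR⟩
    rwa [hQR, Subgroup.mem_bot] at h5
  have : c = g⁻¹ * d * g := by rw [hddef]; group
  rw [this, hd1]; group

/-- statement -/
theorem result {G : Type*} [Group G] [Finite G] {p : ℕ} [Fact p.Prime] (Q : Subgroup G) (hQp : IsPGroup p ↥Q) (hlarge : Cfsg.IsLarge Q) (G₁ : Subgroup G) (hQG : Q ≤ G₁) (R : Subgroup G) (hR : (Nat.card ↥R).Coprime p) (hGR : G₁ ≤ Subgroup.normalizer (R : Set G)) (U : Subgroup G) (hUG : U ≤ G₁) (hUp : IsPGroup p ↥U) : ((∃ x ∈ U, x ≠ 1 ∧ ∃ g ∈ G₁, g * x * g⁻¹ ∈ Q ⊓ Subgroup.centralizer (Q : Set G)) → R ⊓ Subgroup.centralizer (U : Set G) = ⊥) ∧ (Cfsg.IsElementaryAbelian p U → p ^ 2 ≤ Nat.card ↥U → (∀ U₀ : Subgroup G, U₀ ≤ U → IsCoatom (U₀.subgroupOf U) → ∃ x ∈ U₀, x ≠ 1 ∧ ∃ g ∈ G₁, g * x * g⁻¹ ∈ Q ⊓ Subgroup.centralizer (Q : Set G)) → R = ⊥) := by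
  refine ⟨part1 Q hQp hlarge G₁ hQG R hR hGR U, ?_⟩
  intro hUel hU2 hall
  exact eq_bot_of_forall_coatom_centralizer_eq_bot hUel hU2 hR (hUG.trans hGR)
    (fun U₀ hU₀ hco => part1 Q hQp hlarge G₁ hQG R hR hGR U₀ (hall U₀ hU₀ hco))

end Cfsg.Agent.S3003
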