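import Mathlib
import Cfsg.Statements.S3009
import Cfsg.Agent.Lib.Helper12.NatModH

set_option autoImplicit false
open Cfsg

namespace Cfsg.Agent.S3009

/-- Let p be a prime and let G and V be subgroups of a finite group with V elementary abelian and normalized by G, and G isomorphic to SL₂(F) for a finite field F with pⁿ elements. Suppose G acts irreducibly and nontrivially on V by conjugation (no G-invariant subgroups of V other than 1 and V, and [V, G] ≠ 1), and let S be a Sylow p-subgroup of G and V₀ = C_V(S). If [V, S, S] = 1 or |V| ≤ |V₀|², then G acts on V as SL₂(F) on its natural two-dimensional module; in particular |V| = |F|². -/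
theorem result {X : Type*} [Group X] [Finite X] {p : ℕ} [Fact p.Prime] (G V : Subgroup X) (hV : Cfsg.IsElementaryAbelian p V) (hGV : G ≤ Subgroup.normalizer (V : Set X)) (F : Type) [Field F] [Fintype F] (n : ℕ) (hF : Fintype.card F = p ^ n) (hG : Nonempty (↥G ≃* Matrix.SpecialLinearGroup (Fin 2) F)) (hirr : ∀ U : Subgroup X, U ≤ V → G ≤ Subgroup.normalizer (U : Set X) → U = ⊥ ∨ U = V) (hnt : ⁅V, G⁆ ≠ ⊥) (S : Sylow p ↥G) (hyp : ⁅⁅V, (S : Subgroup ↥G).map G.subtype⁆, (S : Subgroup ↥G).map G.subtype⁆ = ⊥ ∨ Nat.card ↥V ≤ Nat.card ↥(V ⊓ Subgroup.centralizer (((S : Subgroup ↥G).map G.subtype : Subgroup X) : Set X)) ^ 2) : Cfsg.ActsAsSL2OnSection F ⊤ G V ⊥ := by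
  classical
  obtain ⟨e⟩ := hG
  haveI : CharP F p := Cfsg.Agent.Helper12.NatMod.charP_of_card_eq_pow p hF
  obtain ⟨e', he'⟩ := Cfsg.Agent.Helper12.NatMod.exists_adjusted_equiv e S
  haveI : IsMulCommutative ↥V := hV.1
  refine Cfsg.Agent.Helper12.NatMod.acts_natural hV.2 hGV e' hirr hnt
    ((S : Subgroup ↥G).map G.subtype) ?_ hyp
  intro y
  constructor
  · rintro ⟨s, hs, rfl⟩
    obtain ⟨x, hx⟩ := (he' s).1 hs
    refine ⟨x, ?_⟩
    rw [← hx, e'.symm_apply_apply]
    rfl
  · rintro ⟨x, rfl⟩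
    exact ⟨e'.symm (Cfsg.Agent.Helper12.NatMod.uu x),
      (he' _).2 ⟨x, e'.apply_symm_apply _⟩, rfl⟩

end Cfsg.Agent.S3009
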