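import Mathlib
import Cfsg.Statements.S3011
import Cfsg.Agent.S0200
import Cfsg.Agent.Lib.Helper15.PCore

set_option autoImplicit false
open Cfsg

namespace Cfsg.Agent.S3011

open Cfsg.Agent.Helper15

variable {G : Type*} [Group G]

theorem eq_one_of_odd_of_mul_self {h : G} (ho : Odd (orderOf h)) (h2 : h * h = 1) : h = 1 := by
  have h1 : orderOf h ∣ 2 := orderOf_dvd_of_pow_eq_one (by rw [pow_two]; exact h2)
  rcases (Nat.dvd_prime Nat.prime_two).mp h1 with h3 | h3
  · exact orderOf_eq_one_iff.mp h3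
  · rw [h3] at ho
    exact absurd ho (by decide)

theorem eq_one_of_comm_of_inverts {t k : G} (ho : Odd (orderOf k)) (hc : t * k = k * t)
    (hi : t * k * t⁻¹ = k⁻¹) : k = 1 := by
  apply eq_one_of_odd_of_mul_self ho
  have : k = k⁻¹ := by
    calc k = t * k * t⁻¹ := by rw [hc]; group
      _ = k⁻¹ := hi
  calc k * k = k * k⁻¹ := by nth_rewrite 2 [this]; rfl
    _ = 1 := mul_inv_cancel k

theorem eq_one_of_odd_inverts {y k : G} (hy : Odd (orderOf y)) (hk : Odd (orderOf k))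
    (h : y * k * y⁻¹ = k⁻¹) : k = 1 := by
  have h2 : Commute (y ^ 2) k := by
    have : y ^ 2 * k * (y ^ 2)⁻¹ = k := by
      calc y ^ 2 * k * (y ^ 2)⁻¹ = y * (y * k * y⁻¹) * y⁻¹ := by rw [pow_two]; group
        _ = y * k⁻¹ * y⁻¹ := by rw [h]
        _ = (y * k * y⁻¹)⁻¹ := by group
        _ = k := by rw [h, inv_inv]
    calc y ^ 2 * k = (y ^ 2 * k * (y ^ 2)⁻¹) * y ^ 2 := by group
      _ = k * y ^ 2 := by rw [this]
  obtain ⟨m, hm⟩ := hy
  have hyy : y = (y ^ 2) ^ (m + 1) := by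
    rw [← pow_mul]
    have : 2 * (m + 1) = orderOf y + 1 := by omega
    rw [this, pow_succ, pow_orderOf_eq_one, one_mul]
  have hc : Commute y k := by
    rw [hyy]; exact h2.pow_left _
  exact eq_one_of_comm_of_inverts hk hc.eq h

theorem inverts_mul_of_comm_of_inverts {x y h : G} (hx : x * h = h * x)
    (hy : y * h * y⁻¹ = h⁻¹) : (x * y) * h * (x * y)⁻¹ = h⁻¹ := by
  have hx' : x * h⁻¹ * x⁻¹ = h⁻¹ := by
    have : x * h⁻¹ = h⁻¹ * x := by
      calc x * h⁻¹ = h⁻¹ * (h * x) * h⁻¹ := by group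
        _ = h⁻¹ * (x * h) * h⁻¹ := by rw [hx]
        _ = h⁻¹ * x := by group
    rw [this]; group
  calc (x * y) * h * (x * y)⁻¹ = x * (y * h * y⁻¹) * x⁻¹ := by group
    _ = x * h⁻¹ * x⁻¹ := by rw [hy]
    _ = h⁻¹ := hx'

theorem inverts_mul_of_inverts_of_comm {x y h : G} (hx : x * h * x⁻¹ = h⁻¹)
    (hy : y * h = h * y) : (x * y) * h * (x * y)⁻¹ = h⁻¹ := by
  calc (x * y) * h * (x * y)⁻¹ = x * ((y * h) * y⁻¹) * x⁻¹ := by group
    _ = x * ((h * y) * y⁻¹) * x⁻¹ := by rw [hy]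
    _ = x * h * x⁻¹ := by group
    _ = h⁻¹ := hx

/-- the key configuration is contradictory -/
theorem key (u v : G) (hu : u * u = 1) (hv : v * v = 1) (huv : u * v = v * u)
    (hS : ∀ h : G, Odd (orderOf h) →
      (u * h * u⁻¹ = h⁻¹ ∨ v * h * v⁻¹ = h⁻¹ ∨ (u * v) * h * (u * v)⁻¹ = h⁻¹) →
      (u * h = h * u ∨ v * h = h * v ∨ (u * v) * h = h * (u * v)))
    (h k : G) (hh1 : h ≠ 1) (hho : Odd (orderOf h)) (hhv : v * h = h * v)
    (hhu : u * h * u⁻¹ = h⁻¹)
    (hk1 : k ≠ 1) (hko : Odd (orderOf k)) (hkw : (u * v) * k = k * (u * v))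
    (hku : u * k * u⁻¹ = k⁻¹) : False := by
  have huinv : u⁻¹ = u := inv_eq_of_mul_eq_one_right hu
  have hvinv : v⁻¹ = v := inv_eq_of_mul_eq_one_right hv
  -- `v` inverts `k`
  have hkv : v * k * v⁻¹ = k⁻¹ := by
    have e : v = u * (u * v) := by rw [← mul_assoc, hu, one_mul]
    rw [e]
    exact inverts_mul_of_inverts_of_comm hku hkw
  -- `u * v` inverts `h`
  have hhw : (u * v) * h * (u * v)⁻¹ = h⁻¹ := inverts_mul_of_inverts_of_comm hhu hhv
  -- Step A
  have stepA : ∀ j : ℕ, Commute (h ^ j * h ^ j) k := by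
    intro j
    set x := h ^ j with hx
    have hxv : v * x = x * v := ((show Commute v h from hhv).pow_right j).eq
    have hxu : u * x * u⁻¹ = x⁻¹ := by
      rw [hx, ← conj_pow, hhu, inv_pow]
    have hxw : (u * v) * x * (u * v)⁻¹ = x⁻¹ := inverts_mul_of_inverts_of_comm hxu hxv
    have hxo : Odd (orderOf (x * x)) := by
      have : x * x = h ^ (j + j) := by rw [hx, pow_add]
      rw [this]
      exact Odd.of_dvd_nat hho (orderOf_pow_dvd _)
    set kx := x⁻¹ * k * x with hkx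
    have hkxo : Odd (orderOf kx) := by
      have hsc : SemiconjBy x⁻¹ k kx := by
        show x⁻¹ * k = kx * x⁻¹
        rw [hkx]; group
      rw [← hsc.orderOf_eq]
      exact hko
    have hkx1 : kx ≠ 1 := by
      intro h1
      apply hk1
      have : k = x * kx * x⁻¹ := by rw [hkx]; group
      rw [this, h1]; group
    have hvkx : v * kx * v⁻¹ = kx⁻¹ := by
      have hxv' : v * x⁻¹ = x⁻¹ * v := by
        calc v * x⁻¹ = x⁻¹ * (x * v) * x⁻¹ := by group
          _ = x⁻¹ * (v * x) * x⁻¹ := by rw [hxv]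
          _ = x⁻¹ * v := by group
      calc v * kx * v⁻¹ = (v * x⁻¹) * k * x * v⁻¹ := by rw [hkx]; group
        _ = x⁻¹ * v * k * x * v⁻¹ := by rw [hxv']
        _ = x⁻¹ * (v * k * v⁻¹) * (v * x) * v⁻¹ := by group
        _ = x⁻¹ * k⁻¹ * (x * v) * v⁻¹ := by rw [hkv, hxv]
        _ = kx⁻¹ := by rw [hkx]; group
    rcases hS kx hkxo (Or.inr (Or.inl hvkx)) with h1 | h1 | h1
    · -- `u` commutes with `kx`
      exfalso
      have e1 : u * kx * u⁻¹ = x * k⁻¹ * x⁻¹ := by
        calc u * kx * u⁻¹ = (u * x * u⁻¹)⁻¹ * (u * k * u⁻¹) * (u * x * u⁻¹) := by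
              rw [hkx]; group
          _ = x * k⁻¹ * x⁻¹ := by rw [hxu, hku, inv_inv]
      have e2 : u * kx * u⁻¹ = kx := by rw [h1]; group
      rw [e2, hkx] at e1
      have e3 : (x * x) * k * (x * x)⁻¹ = k⁻¹ := by
        have : k = x * (x * k⁻¹ * x⁻¹) * x⁻¹ := by rw [← e1]; group
        have e4 : x * x * k⁻¹ * x⁻¹ * x⁻¹ = k := by
          calc x * x * k⁻¹ * x⁻¹ * x⁻¹ = x * (x * k⁻¹ * x⁻¹) * x⁻¹ := by group
            _ = k := this.symm
        calc (x * x) * k * (x * x)⁻¹ = (x * x * k⁻¹ * x⁻¹ * x⁻¹)⁻¹ := by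
              simp only [mul_inv_rev, inv_inv, mul_assoc]
          _ = k⁻¹ := by rw [e4]
      exact hk1 (eq_one_of_odd_inverts hxo hko e3)
    · exfalso
      exact hkx1 (eq_one_of_comm_of_inverts hkxo h1 hvkx)
    · -- `u * v` commutes with `kx`
      have e1 : (u * v) * kx * (u * v)⁻¹ = x * k * x⁻¹ := by
        have hkw' : (u * v) * k * (u * v)⁻¹ = k := by rw [hkw]; group
        calc (u * v) * kx * (u * v)⁻¹
            = ((u * v) * x * (u * v)⁻¹)⁻¹ * ((u * v) * k * (u * v)⁻¹) * ((u * v) * x * (u * v)⁻¹) := by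
              rw [hkx]; group
          _ = x * k * x⁻¹ := by rw [hxw, hkw', inv_inv]
      have e2 : (u * v) * kx * (u * v)⁻¹ = kx := by rw [h1]; group
      rw [e2, hkx] at e1
      show (x * x) * k = k * (x * x)
      calc (x * x) * k = x * (x * k * x⁻¹) * x := by group
        _ = x * (x⁻¹ * k * x) * x := by rw [e1]
        _ = k * (x * x) := by group
  -- Step B
  have stepB : Commute h k := by
    obtain ⟨m, hm⟩ := hho
    have e : h = h ^ (m + 1) * h ^ (m + 1) := by
      rw [← pow_add]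
      have : m + 1 + (m + 1) = orderOf h + 1 := by omega
      rw [this, pow_succ, pow_orderOf_eq_one, one_mul]
    have := stepA (m + 1)
    rw [← e] at this
    exact this
  -- Step C
  have hhk : h * k = k * h := stepB.eq
  have hhko : Odd (orderOf (h * k)) := by
    have h1 : orderOf (h * k) ∣ Nat.lcm (orderOf h) (orderOf k) := stepB.orderOf_mul_dvd_lcm
    have h2 : Odd (Nat.lcm (orderOf h) (orderOf k)) := by
      have h3 : Nat.lcm (orderOf h) (orderOf k) ∣ orderOf h * orderOf k :=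
        Nat.lcm_dvd (dvd_mul_right _ _) (dvd_mul_left _ _)
      exact Odd.of_dvd_nat (hho.mul hko) h3
    exact Odd.of_dvd_nat h2 h1
  have hhku : u * (h * k) * u⁻¹ = (h * k)⁻¹ := by
    calc u * (h * k) * u⁻¹ = (u * h * u⁻¹) * (u * k * u⁻¹) := by group
      _ = h⁻¹ * k⁻¹ := by rw [hhu, hku]
      _ = (k * h)⁻¹ := by group
      _ = (h * k)⁻¹ := by rw [hhk]
  rcases hS (h * k) hhko (Or.inl hhku) with h1 | h1 | h1
  · have e1 : h * k = 1 := eq_one_of_comm_of_inverts hhko h1 hhku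
    have e2 : k = h⁻¹ := by
      calc k = h⁻¹ * (h * k) := by group
        _ = h⁻¹ := by rw [e1, mul_one]
    have e3 : v * k = k * v := by
      rw [e2]
      calc v * h⁻¹ = h⁻¹ * (h * v) * h⁻¹ := by group
        _ = h⁻¹ * (v * h) * h⁻¹ := by rw [hhv]
        _ = h⁻¹ * v := by group
    exact hk1 (eq_one_of_comm_of_inverts hko e3 hkv)
  · have e3 : v * k = k * v := by
      calc v * k = h⁻¹ * (h * v) * k := by group
        _ = h⁻¹ * (v * h) * k := by rw [hhv]
        _ = h⁻¹ * (v * (h * k)) := by group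
        _ = h⁻¹ * ((h * k) * v) := by rw [h1]
        _ = k * v := by group
    exact hk1 (eq_one_of_comm_of_inverts hko e3 hkv)
  · have e3 : (u * v) * h = h * (u * v) := by
      calc (u * v) * h = ((u * v) * (h * k)) * k⁻¹ := by group
        _ = ((h * k) * (u * v)) * k⁻¹ := by rw [h1]
        _ = h * (k * (u * v)) * k⁻¹ := by group
        _ = h * ((u * v) * k) * k⁻¹ := by rw [hkw]
        _ = h * (u * v) * (k * k⁻¹) := by group
        _ = h * (u * v) := by rw [mul_inv_cancel, mul_one]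
    exact hh1 (eq_one_of_comm_of_inverts hho e3 hhw)

theorem key' (u v w : G) (hw : u * v = w) (hu : u * u = 1) (hv : v * v = 1) (huv : u * v = v * u)
    (hS : ∀ h : G, Odd (orderOf h) →
      (u * h * u⁻¹ = h⁻¹ ∨ v * h * v⁻¹ = h⁻¹ ∨ w * h * w⁻¹ = h⁻¹) →
      (u * h = h * u ∨ v * h = h * v ∨ w * h = h * w))
    (h k : G) (hh1 : h ≠ 1) (hho : Odd (orderOf h)) (hhv : v * h = h * v)
    (hhu : u * h * u⁻¹ = h⁻¹)
    (hk1 : k ≠ 1) (hko : Odd (orderOf k)) (hkw : w * k = k * w)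
    (hku : u * k * u⁻¹ = k⁻¹) : False := by
  subst hw
  exact key u v hu hv huv hS h k hh1 hho hhv hhu hk1 hko hkw hku

/-- Let G be a finite group and V a nontrivial elementary abelian 2-subgroup of G of order at most 4 such that, whenever an element of V inverts an element h of G of odd order, some nontrivial element of V commutes with h. Then V meets O₂(G) nontrivially. (The case of order at most 4 has a short argument from the Baer–Suzuki theorem.) -/
theorem result {G : Type*} [Group G] [Finite G] (V : Subgroup G) (hV : Cfsg.IsElementaryAbelian 2 V) (hV1 : V ≠ ⊥) (hS : Cfsg.IsSidkiPair V) (h4 : Nat.card V ≤ 4) : V ⊓ Cfsg.pCore 2 G ≠ ⊥ := by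
  intro hbot
  obtain ⟨hcomm, hexp⟩ := hV
  have hsq : ∀ t ∈ V, t * t = 1 := fun t ht => by rw [← pow_two]; exact hexp t ht
  have hcomm' : ∀ s ∈ V, ∀ t ∈ V, s * t = t * s := by
    intro s hs t ht
    have := hcomm.is_comm.comm ⟨s, hs⟩ ⟨t, ht⟩
    exact congrArg Subtype.val this
  -- every nonidentity element of V inverts some nontrivial odd-order element
  have hinv : ∀ t ∈ V, t ≠ 1 → ∃ h : G, h ≠ 1 ∧ Odd (orderOf h) ∧ t * h * t⁻¹ = h⁻¹ := by
    intro t ht ht1
    apply Cfsg.Agent.S0200.result t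
    · haveI : Fact (Nat.Prime 2) := ⟨Nat.prime_two⟩
      exact orderOf_eq_prime (by rw [pow_two]; exact hsq t ht) ht1
    · intro N hN hNp htN
      have : t ∈ V ⊓ pCore 2 G := Subgroup.mem_inf.mpr ⟨ht, le_pCore hN hNp htN⟩
      rw [hbot, Subgroup.mem_bot] at this
      exact ht1 this
  -- the Sidki condition for a generating pair
  have hS3 : ∀ u v w : G, u ∈ V → v ∈ V → w ∈ V → (∀ z ∈ V, z ≠ 1 → z = u ∨ z = v ∨ z = w) →
      ∀ h : G, Odd (orderOf h) →
      (u * h * u⁻¹ = h⁻¹ ∨ v * h * v⁻¹ = h⁻¹ ∨ w * h * w⁻¹ = h⁻¹) →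
      (u * h = h * u ∨ v * h = h * v ∨ w * h = h * w) := by
    intro u v w hu hv hw hall h hho hcase
    have : ∃ z ∈ V, z ≠ 1 ∧ z * h = h * z := by
      rcases hcase with h1 | h1 | h1
      · exact hS h u hu hho h1
      · exact hS h v hv hho h1
      · exact hS h w hw hho h1
    obtain ⟨z, hz, hz1, hzh⟩ := this
    rcases hall z hz hz1 with rfl | rfl | rfl
    · exact Or.inl hzh
    · exact Or.inr (Or.inl hzh)
    · exact Or.inr (Or.inr hzh)
  obtain ⟨⟨a, ha⟩, ha1'⟩ := (Subgroup.ne_bot_iff_exists_ne_one).mp hV1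
  have ha1 : a ≠ 1 := fun h => ha1' (Subtype.ext h)
  by_cases hb : ∃ b ∈ V, b ≠ 1 ∧ b ≠ a
  swap
  · -- V = {1, a}
    push Not at hb
    obtain ⟨h, hh1, hho, hha⟩ := hinv a ha ha1
    obtain ⟨w, hw, hw1, hwh⟩ := hS h a ha hho hha
    have : w = a := hb w hw hw1
    subst this
    exact hh1 (eq_one_of_comm_of_inverts hho hwh hha)
  obtain ⟨b, hb, hb1, hba⟩ := hb
  set c := a * b with hc
  have hcV : c ∈ V := V.mul_mem ha hb
  have haa := hsq a ha
  have hbb := hsq b hb
  have hab : a * b = b * a := hcomm' a ha b hb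
  have hc1 : c ≠ 1 := by
    intro h1
    apply hba
    calc b = a * (a * b) := by rw [← mul_assoc, haa, one_mul]
      _ = a := by rw [← hc, h1, mul_one]
  have hca : c ≠ a := by
    intro h1
    apply hb1
    calc b = a * (a * b) := by rw [← mul_assoc, haa, one_mul]
      _ = 1 := by rw [← hc, h1, haa]
  have hcb : c ≠ b := by
    intro h1
    apply ha1
    calc a = (a * b) * b := by rw [mul_assoc, hbb, mul_one]
      _ = 1 := by rw [← hc, h1, hbb]
  -- V = {1, a, b, c}
  have hall : ∀ z ∈ V, z ≠ 1 → z = a ∨ z = b ∨ z = c := by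
    classical
    set T : Finset G := {1, a, b, c} with hT
    have hTcard : T.card = 4 := by
      rw [hT]
      rw [Finset.card_insert_of_notMem, Finset.card_insert_of_notMem, Finset.card_insert_of_notMem,
        Finset.card_singleton]
      · simp only [Finset.mem_singleton]; exact fun h => hcb h.symm
      · simp only [Finset.mem_insert, Finset.mem_singleton]
        rintro (h | h)
        · exact hba h.symm
        · exact hca h.symm
      · simp only [Finset.mem_insert, Finset.mem_singleton]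
        rintro (h | h | h)
        · exact ha1 h.symm
        · exact hb1 h.symm
        · exact hc1 h.symm
    have hsub : (T : Set G) ⊆ (V : Set G) := by
      intro z hz
      rw [hT] at hz
      simp only [Finset.coe_insert, Finset.coe_singleton, Set.mem_insert_iff,
        Set.mem_singleton_iff] at hz
      rcases hz with rfl | rfl | rfl | rfl
      · exact V.one_mem
      · exact ha
      · exact hb
      · exact hcV
    have hcard : (V : Set G).ncard ≤ (T : Set G).ncard := by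
      rw [Set.ncard_coe_finset, hTcard, ← Nat.card_coe_set_eq]
      exact h4
    have heq : (T : Set G) = (V : Set G) :=
      Set.eq_of_subset_of_ncard_le hsub hcard (Set.toFinite _)
    intro z hz hz1
    have hzT : z ∈ (T : Set G) := by rw [heq]; exact hz
    rw [hT] at hzT
    simp only [Finset.coe_insert, Finset.coe_singleton, Set.mem_insert_iff,
      Set.mem_singleton_iff] at hzT
    rcases hzT with h | h | h | h
    · exact absurd h hz1
    · exact Or.inl h
    · exact Or.inr (Or.inl h)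
    · exact Or.inr (Or.inr h)
  have hba' : b * a = c := by rw [hc, hab]
  have hca' : c * a = b := by rw [hc, hab, mul_assoc, haa, mul_one]
  have hcb' : c * b = a := by rw [hc, mul_assoc, hbb, mul_one]
  have hac' : a * c = b := by rw [hc, ← mul_assoc, haa, one_mul]
  have hbc' : b * c = a := by rw [hc, hab, ← mul_assoc, hbb, one_mul]
  have hSab := hS3 a b c ha hb hcV hall
  have hSba := hS3 b a c hb ha hcV (fun z hz hz1 => by
    rcases hall z hz hz1 with h | h | h
    · exact Or.inr (Or.inl h)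
    · exact Or.inl h
    · exact Or.inr (Or.inr h))
  have hSca := hS3 c a b hcV ha hb (fun z hz hz1 => by
    rcases hall z hz hz1 with h | h | h
    · exact Or.inr (Or.inl h)
    · exact Or.inr (Or.inr h)
    · exact Or.inl h)
  -- the three configurations
  -- from a
  have hA : (∃ h : G, h ≠ 1 ∧ Odd (orderOf h) ∧ b * h = h * b ∧ a * h * a⁻¹ = h⁻¹) ∨
      (∃ h : G, h ≠ 1 ∧ Odd (orderOf h) ∧ c * h = h * c ∧ a * h * a⁻¹ = h⁻¹) := by
    obtain ⟨h, hh1, hho, hha⟩ := hinv a ha ha1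
    rcases hSab h hho (Or.inl hha) with h1 | h1 | h1
    · exact absurd (eq_one_of_comm_of_inverts hho h1 hha) hh1
    · exact Or.inl ⟨h, hh1, hho, h1, hha⟩
    · exact Or.inr ⟨h, hh1, hho, h1, hha⟩
  have hB : (∃ h : G, h ≠ 1 ∧ Odd (orderOf h) ∧ a * h = h * a ∧ b * h * b⁻¹ = h⁻¹) ∨
      (∃ h : G, h ≠ 1 ∧ Odd (orderOf h) ∧ c * h = h * c ∧ a * h * a⁻¹ = h⁻¹) := by
    obtain ⟨h, hh1, hho, hhb⟩ := hinv b hb hb1
    rcases hSab h hho (Or.inr (Or.inl hhb)) with h1 | h1 | h1
    · exact Or.inl ⟨h, hh1, hho, h1, hhb⟩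
    · exact absurd (eq_one_of_comm_of_inverts hho h1 hhb) hh1
    · refine Or.inr ⟨h, hh1, hho, h1, ?_⟩
      have := inverts_mul_of_comm_of_inverts h1 hhb
      rwa [hcb'] at this
  have hC : (∃ h : G, h ≠ 1 ∧ Odd (orderOf h) ∧ a * h = h * a ∧ b * h * b⁻¹ = h⁻¹) ∨
      (∃ h : G, h ≠ 1 ∧ Odd (orderOf h) ∧ b * h = h * b ∧ a * h * a⁻¹ = h⁻¹) := by
    obtain ⟨h, hh1, hho, hhc⟩ := hinv c hcV hc1
    rcases hSab h hho (Or.inr (Or.inr hhc)) with h1 | h1 | h1
    · refine Or.inl ⟨h, hh1, hho, h1, ?_⟩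
      have := inverts_mul_of_comm_of_inverts h1 hhc
      rwa [hac'] at this
    · refine Or.inr ⟨h, hh1, hho, h1, ?_⟩
      have := inverts_mul_of_comm_of_inverts h1 hhc
      rwa [hbc'] at this
    · exact absurd (eq_one_of_comm_of_inverts hho h1 hhc) hh1
  -- Y_b ∧ Y_c impossible
  have hbc : (∃ h : G, h ≠ 1 ∧ Odd (orderOf h) ∧ b * h = h * b ∧ a * h * a⁻¹ = h⁻¹) →
      (∃ h : G, h ≠ 1 ∧ Odd (orderOf h) ∧ c * h = h * c ∧ a * h * a⁻¹ = h⁻¹) → False := by
    rintro ⟨h, hh1, hho, hhb, hha⟩ ⟨k, hk1, hko, hkc, hka⟩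
    exact key' a b c rfl haa hbb hab hSab h k hh1 hho hhb hha hk1 hko hkc hka
  have hac : (∃ h : G, h ≠ 1 ∧ Odd (orderOf h) ∧ a * h = h * a ∧ b * h * b⁻¹ = h⁻¹) →
      (∃ h : G, h ≠ 1 ∧ Odd (orderOf h) ∧ c * h = h * c ∧ a * h * a⁻¹ = h⁻¹) → False := by
    rintro ⟨h, hh1, hho, hha, hhb⟩ ⟨k, hk1, hko, hkc, hka⟩
    have hkb : b * k * b⁻¹ = k⁻¹ := by
      have := inverts_mul_of_comm_of_inverts hkc hka
      rwa [hca'] at this
    exact key' b a c hba' hbb haa hab.symm hSba h k hh1 hho hha hhb hk1 hko hkc hkb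
  have hab' : (∃ h : G, h ≠ 1 ∧ Odd (orderOf h) ∧ a * h = h * a ∧ b * h * b⁻¹ = h⁻¹) →
      (∃ h : G, h ≠ 1 ∧ Odd (orderOf h) ∧ b * h = h * b ∧ a * h * a⁻¹ = h⁻¹) → False := by
    rintro ⟨h, hh1, hho, hha, hhb⟩ ⟨k, hk1, hko, hkb, hka⟩
    have hhc : c * h * c⁻¹ = h⁻¹ := inverts_mul_of_comm_of_inverts hha hhb
    have hkc : c * k * c⁻¹ = k⁻¹ := by
      have := inverts_mul_of_comm_of_inverts hkb hka
      rwa [hba'] at this
    have hcac : c * a = a * c := by rw [hca', hac']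
    exact key' c a b hca' (hsq c hcV) haa hcac hSca h k hh1 hho hha hhc hk1 hko hkb hkc
  rcases hA with h1 | h1
  · rcases hB with h2 | h2
    · exact hab' h2 h1
    · exact hbc h1 h2
  · rcases hB with h2 | h2
    · exact hac h2 h1
    · rcases hC with h3 | h3
      · exact hac h3 h1
      · exact hbc h3 h1

end Cfsg.Agent.S3011
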