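import Mathlib
import Cfsg.Statements.S3012

namespace Cfsg.Agent.S3012

/-- Let G be a finite group, V a nontrivial elementary abelian 2-subgroup of G satisfying the Sidki pair condition (every odd-order element inverted by an element of V commutes with a nontrivial element of V), and K a normal subgroup of G with V ∩ K = 1. Then the image of V in G/K satisfies the Sidki pair condition in G/K. -/
theorem result {G : Type*} [Group G] [Finite G] (V K : Subgroup G) [K.Normal] (hV : Cfsg.IsElementaryAbelian 2 V) (hV1 : V ≠ ⊥) (hS : Cfsg.IsSidkiPair V) (hVK : V ⊓ K = ⊥) : Cfsg.IsSidkiPair (V.map (QuotientGroup.mk' K)) := by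
  intro hb vb hvb hodd hinv
  obtain ⟨v, hvV, rfl⟩ := hvb
  obtain ⟨h, rfl⟩ := QuotientGroup.mk'_surjective K hb
  have hv2 : v ^ 2 = 1 := hV.2 v hvV
  have hvinv : v⁻¹ = v := by
    rw [inv_eq_iff_mul_eq_one, ← pow_two, hv2]
  set y : G := v * h⁻¹ * v * h with hy
  have hyinv : v * y * v⁻¹ = y⁻¹ := by
    have e1 : v * y * v⁻¹ = (v * v) * h⁻¹ * v * h * v⁻¹ := by rw [hy]; group
    have e2 : y⁻¹ = h⁻¹ * v⁻¹ * h * v⁻¹ := by rw [hy]; group
    rw [e1, e2, ← pow_two, hv2, hvinv]; group
  have hybar : QuotientGroup.mk' K y = (QuotientGroup.mk' K h) ^ 2 := by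
    have e1 : QuotientGroup.mk' K y
        = (QuotientGroup.mk' K v * (QuotientGroup.mk' K h)⁻¹ * (QuotientGroup.mk' K v)⁻¹)
          * QuotientGroup.mk' K h := by
      have hy' : y = v * h⁻¹ * v⁻¹ * h := by rw [hvinv]
      rw [hy']
      simp only [map_mul, map_inv]
    have e2 : QuotientGroup.mk' K v * (QuotientGroup.mk' K h)⁻¹ * (QuotientGroup.mk' K v)⁻¹
        = QuotientGroup.mk' K h := by
      have := congrArg (·⁻¹) hinv
      simp only [mul_inv_rev, inv_inv] at this
      rw [← mul_assoc] at this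
      exact this
    rw [e1, e2, pow_two]
  have hy0 : orderOf y ≠ 0 := (orderOf_pos y).ne'
  obtain ⟨k, m, hm, hkm⟩ := Nat.exists_eq_two_pow_mul_odd hy0
  set z : G := y ^ (2 ^ k) with hz
  have hzodd : Odd (orderOf z) := by
    have h2k : (2 : ℕ) ^ k ≠ 0 := by positivity
    have : orderOf z = m := by
      rw [hz, orderOf_pow_of_dvd h2k (by rw [hkm]; exact dvd_mul_right _ _), hkm]
      exact Nat.mul_div_cancel_left m (by positivity)
    rw [this]; exact hm
  have hzinv : v * z * v⁻¹ = z⁻¹ := by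
    rw [hz, ← conj_pow, hyinv, inv_pow]
  obtain ⟨w, hwV, hw1, hwz⟩ := hS z v hvV hzodd hzinv
  refine ⟨QuotientGroup.mk' K w, Subgroup.mem_map_of_mem _ hwV, ?_, ?_⟩
  · intro h1
    have hwK : w ∈ K := by
      have := (QuotientGroup.eq_one_iff (N := K) w).1 h1
      exact this
    have : w ∈ V ⊓ K := ⟨hwV, hwK⟩
    rw [hVK, Subgroup.mem_bot] at this
    exact hw1 this
  · have hzbar : QuotientGroup.mk' K z = (QuotientGroup.mk' K h) ^ (2 ^ (k + 1)) := by
      rw [hz, map_pow, hybar, ← pow_mul, pow_succ, mul_comm]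
    have hcop : Nat.Coprime (2 ^ (k + 1)) (orderOf (QuotientGroup.mk' K h)) := by
      apply Nat.Coprime.pow_left
      exact Nat.coprime_two_left.2 hodd
    obtain ⟨n, hn⟩ := exists_pow_eq_self_of_coprime hcop
    have c1 : Commute (QuotientGroup.mk' K w) (QuotientGroup.mk' K z) := by
      have : Commute w z := hwz
      exact this.map (QuotientGroup.mk' K)
    rw [hzbar] at c1
    have c2 := c1.pow_right n
    rw [hn] at c2
    exact c2.eq
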