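import Mathlib
import Cfsg.Statements.S3013

namespace Cfsg.Agent.S3013

private lemma commute_of_sq {G : Type*} [Group G] {w y : G} (hy : Odd (orderOf y))
    (h : Commute w (y ^ 2)) : Commute w y := by
  obtain ⟨k, hk⟩ := hy
  have e : (y ^ 2) ^ (k + 1) = y := by
    rw [← pow_mul]
    have : 2 * (k + 1) = orderOf y + 1 := by omega
    rw [this, pow_succ, pow_orderOf_eq_one, one_mul]
  rw [← e]
  exact h.pow_right _

/-- Let G be a finite group and V a nontrivial elementary abelian 2-subgroup of G satisfying the Sidki pair condition. Let v ∈ V and let x be an element of odd order inverted by v, and put C = C_G(v) ∩ C_G(x), the centralizer of the dihedral subgroup generated by v and x. Then C ∩ V is nontrivial and satisfies the Sidki pair condition inside C: every odd-order element of C inverted by an element of C ∩ V commutes with a nontrivial element of C ∩ V. -/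
theorem result {G : Type*} [Group G] [Finite G] (V : Subgroup G) (hV : Cfsg.IsElementaryAbelian 2 V) (hV1 : V ≠ ⊥) (hS : Cfsg.IsSidkiPair V) (v x : G) (hv : v ∈ V) (hx : Odd (orderOf x)) (hinv : v * x * v⁻¹ = x⁻¹) (C : Subgroup G) (hC : C = Subgroup.centralizer ({v} : Set G) ⊓ Subgroup.centralizer ({x} : Set G)) : C ⊓ V ≠ ⊥ ∧ Cfsg.IsSidkiPair ((C ⊓ V).subgroupOf C) := by
  have hcomm : ∀ a ∈ V, ∀ b ∈ V, a * b = b * a := by
    intro a ha b hb
    have := hV.1.is_comm.comm (⟨a, ha⟩ : V) ⟨b, hb⟩
    exact congrArg Subtype.val this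
  have memC : ∀ z : G, z ∈ C ↔ (v * z = z * v ∧ x * z = z * x) := by
    intro z
    rw [hC, Subgroup.mem_inf, Subgroup.mem_centralizer_iff, Subgroup.mem_centralizer_iff]
    simp
  constructor
  · obtain ⟨w, hwV, hw1, hwx⟩ := hS x v hv hx hinv
    intro hbot
    have : w ∈ C ⊓ V := by
      refine ⟨(memC w).2 ⟨hcomm v hv w hwV, hwx.symm⟩, hwV⟩
    rw [hbot, Subgroup.mem_bot] at this
    exact hw1 this
  · intro h u hu hh hinvh
    rw [Subgroup.mem_subgroupOf] at hu
    obtain ⟨huC, huV⟩ := hu
    set y : G := (h : G) with hy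
    have hyC : y ∈ C := h.2
    obtain ⟨hvy, hxy⟩ := (memC y).1 hyC
    obtain ⟨hvu, hxu⟩ := (memC (u : G)).1 huC
    have hyodd : Odd (orderOf y) := by
      rw [hy, Subgroup.orderOf_coe]; exact hh
    have hinvy : (u : G) * y * (u : G)⁻¹ = y⁻¹ := by
      have := congrArg Subtype.val hinvh
      simpa using this
    have cxy : Commute x y := hxy
    have hodd : Odd (orderOf (x * y)) := by
      have hd : orderOf (x * y) ∣ orderOf x * orderOf y := by
        exact (cxy.orderOf_mul_dvd_lcm).trans (Nat.lcm_dvd_mul _ _)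
      exact Odd.of_dvd_nat (hx.mul hyodd) hd
    have huv : (u : G) * v ∈ V := V.mul_mem huV hv
    have hvinv : v * y * v⁻¹ = y := by
      rw [hvy, mul_inv_cancel_right]
    have huxinv : (u : G) * x⁻¹ * (u : G)⁻¹ = x⁻¹ := by
      have : (u : G) * x * (u : G)⁻¹ = x := by
        rw [← hxu, mul_inv_cancel_right]
      have h2 := congrArg (·⁻¹) this
      simp only [mul_inv_rev, inv_inv] at h2
      rw [← mul_assoc] at h2
      exact h2
    have hinv2 : ((u : G) * v) * (x * y) * ((u : G) * v)⁻¹ = (x * y)⁻¹ := by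
      have e1 : ((u : G) * v) * (x * y) * ((u : G) * v)⁻¹
          = (u : G) * ((v * x * v⁻¹) * (v * y * v⁻¹)) * (u : G)⁻¹ := by group
      rw [e1, hinv, hvinv]
      have e2 : (u : G) * (x⁻¹ * y) * (u : G)⁻¹
          = ((u : G) * x⁻¹ * (u : G)⁻¹) * ((u : G) * y * (u : G)⁻¹) := by group
      rw [e2, huxinv, hinvy, mul_inv_rev]
      exact (cxy.inv_left.inv_right).eq
    obtain ⟨w, hwV, hw1, hwxy⟩ := hS (x * y) ((u : G) * v) huv hodd hinv2
    have hwv : w * v = v * w := hcomm w hwV v hv
    -- w commutes with x⁻¹ * y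
    have hwxy' : w * (x⁻¹ * y) = (x⁻¹ * y) * w := by
      have e1 : x⁻¹ * y = v * (x * y) * v⁻¹ := by
        have : v * (x * y) * v⁻¹ = (v * x * v⁻¹) * (v * y * v⁻¹) := by group
        rw [this, hinv, hvinv]
      have hwv' : w * v⁻¹ = v⁻¹ * w := by
        have : Commute w v := hwv
        exact this.inv_right.eq
      rw [e1]
      calc w * (v * (x * y) * v⁻¹) = (w * v) * (x * y) * v⁻¹ := by group
        _ = v * (w * (x * y)) * v⁻¹ := by rw [hwv]; group
        _ = v * ((x * y) * w) * v⁻¹ := by rw [hwxy]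
        _ = v * (x * y) * (w * v⁻¹) := by group
        _ = v * (x * y) * (v⁻¹ * w) := by rw [hwv']
        _ = v * (x * y) * v⁻¹ * w := by group
    have c1 : Commute w (x * y) := hwxy
    have c2 : Commute w (x⁻¹ * y) := hwxy'
    have c3 : Commute w (y ^ 2) := by
      have : y ^ 2 = (x * y) * (x⁻¹ * y) := by
        rw [pow_two]
        have : x * y * (x⁻¹ * y) = (y * x) * (x⁻¹ * y) := by rw [cxy.eq]
        rw [this]; group
      rw [this]
      exact c1.mul_right c2
    have c4 : Commute w y := commute_of_sq hyodd c3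
    have c5 : Commute w x := by
      have : x = (x * y) * y⁻¹ := by group
      rw [this]
      exact c1.mul_right c4.inv_right
    have hwC : w ∈ C := (memC w).2 ⟨hwv.symm, c5.symm.eq⟩
    refine ⟨⟨w, hwC⟩, ?_, ?_, ?_⟩
    · rw [Subgroup.mem_subgroupOf]
      exact ⟨hwC, hwV⟩
    · intro h1
      exact hw1 (congrArg Subtype.val h1)
    · apply Subtype.ext
      simpa using c4.eq
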