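import Mathlib
import Cfsg.Statements.S3014

set_option autoImplicit false
open Cfsg

namespace Cfsg.Agent.S3014

variable {G : Type*} [Group G]

theorem mem_map_conj {H : Subgroup G} {g x : G} :
    x ∈ H.map (MulAut.conj g).toMonoidHom ↔ g⁻¹ * x * g ∈ H := by
  constructor
  · rintro ⟨y, hy, rfl⟩
    have : g⁻¹ * ((MulAut.conj g).toMonoidHom y) * g = y := by
      simp [mul_assoc]
    rw [this]; exact hy
  · intro h
    refine ⟨g⁻¹ * x * g, h, ?_⟩
    simp [mul_assoc]

theorem card_map_conj [Finite G] (H : Subgroup G) (g : G) :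
    Nat.card (H.map (MulAut.conj g).toMonoidHom) = Nat.card H :=
  Subgroup.card_map_of_injective (MulAut.conj g).injective

/-- the quotient of a group by a normal coatom is commutative -/
theorem comm_of_coatom {M : Type*} [Group M] (K : Subgroup M) [K.Normal] (hK : IsCoatom K)
    (a b : M ⧸ K) : a * b = b * a := by
  have hsub : ∀ L : Subgroup (M ⧸ K), L = ⊥ ∨ L = ⊤ := by
    intro L
    have h1 : K ≤ L.comap (QuotientGroup.mk' K) := by
      intro x hx
      rw [Subgroup.mem_comap]
      have : QuotientGroup.mk' K x = 1 := (QuotientGroup.eq_one_iff x).mpr hx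
      rw [this]; exact L.one_mem
    rcases eq_or_lt_of_le h1 with h2 | h2
    · left
      rw [eq_bot_iff]
      intro y hy
      obtain ⟨x, rfl⟩ := QuotientGroup.mk'_surjective K y
      have : x ∈ L.comap (QuotientGroup.mk' K) := hy
      rw [← h2] at this
      rw [Subgroup.mem_bot]
      exact (QuotientGroup.eq_one_iff x).mpr this
    · right
      have h3 := hK.2 _ h2
      rw [eq_top_iff]
      intro y _
      obtain ⟨x, rfl⟩ := QuotientGroup.mk'_surjective K y
      have : x ∈ L.comap (QuotientGroup.mk' K) := by rw [h3]; trivial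
      exact this
  by_cases ha : a = 1
  · rw [ha]; simp
  · rcases hsub (Subgroup.zpowers a) with h | h
    · exact absurd (Subgroup.zpowers_eq_bot.mp h) ha
    · have hb : b ∈ Subgroup.zpowers a := by rw [h]; trivial
      obtain ⟨k, rfl⟩ := Subgroup.mem_zpowers_iff.mp hb
      exact (Commute.zpow_right (Commute.refl a) k).eq

/-- transfer case: if `M ∩ M^a ≤ H` for all `a ∉ M`, the quotient map `M → M/H` extends to `G`. -/
theorem transfer_case [Finite G] (H M : Subgroup G) (hHM : H ≤ M)
    [hnorm : (H.subgroupOf M).Normal] (hmaxH : IsCoatom (H.subgroupOf M))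
    (hNM : ∀ a : G, a ∉ M → ∀ x, x ∈ M → a * x * a⁻¹ ∈ M → x ∈ H) :
    Subgroup.normalClosure (H : Set G) ⊓ M ≤ H := by
  classical
  letI : CommGroup (↥M ⧸ H.subgroupOf M) :=
    { (inferInstance : Group (↥M ⧸ H.subgroupOf M)) with
      mul_comm := comm_of_coatom _ hmaxH }
  let φ : ↥M →* (↥M ⧸ H.subgroupOf M) := QuotientGroup.mk' (H.subgroupOf M)
  haveI : M.FiniteIndex := inferInstance
  have hφ : ∀ (x : G) (hx : x ∈ M), φ ⟨x, hx⟩ = 1 ↔ x ∈ H := by
    intro x hx
    rw [show φ ⟨x, hx⟩ = ((⟨x, hx⟩ : ↥M) : ↥M ⧸ H.subgroupOf M) from rfl,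
      QuotientGroup.eq_one_iff, Subgroup.mem_subgroupOf]
  have key : ∀ m : G, ∀ hm : m ∈ M, MonoidHom.transfer φ m = φ ⟨m, hm⟩ := by
    intro m hm
    haveI : Fintype (Quotient (MulAction.orbitRel (Subgroup.zpowers m) (G ⧸ M))) :=
      Fintype.ofFinite _
    rw [MonoidHom.transfer_eq_prod_quotient_orbitRel_zpowers_quot φ m]
    have hfix : m • (((1 : G) : G ⧸ M)) = ((1 : G) : G ⧸ M) := by
      rw [MulAction.Quotient.smul_coe, smul_eq_mul, mul_one, QuotientGroup.eq]
      simpa using M.inv_mem hm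
    have hfixz : ∀ z : Subgroup.zpowers m, z • (((1 : G) : G ⧸ M)) = ((1 : G) : G ⧸ M) := by
      rintro ⟨z, hz⟩
      obtain ⟨k, rfl⟩ := Subgroup.mem_zpowers_iff.mp hz
      have hk : m ^ k ∈ M := M.zpow_mem hm k
      show (m ^ k) • (((1 : G) : G ⧸ M)) = ((1 : G) : G ⧸ M)
      rw [MulAction.Quotient.smul_coe, smul_eq_mul, mul_one, QuotientGroup.eq]
      simpa using M.inv_mem hk
    let q₀ : Quotient (MulAction.orbitRel (Subgroup.zpowers m) (G ⧸ M)) :=
      Quotient.mk'' ((1 : G) : G ⧸ M)
    have hout_of_mem : ∀ q : Quotient (MulAction.orbitRel (Subgroup.zpowers m) (G ⧸ M)),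
        q.out.out ∈ M → q = q₀ := by
      intro q hq
      have h1 : q.out = ((1 : G) : G ⧸ M) := by
        rw [← QuotientGroup.out_eq' q.out, QuotientGroup.eq]
        simpa using M.inv_mem hq
      rw [← Quotient.out_eq' q, h1]
    have hq₀ : q₀.out = ((1 : G) : G ⧸ M) := by
      have h1 : Quotient.mk'' q₀.out = q₀ := Quotient.out_eq' q₀
      have h2 := Quotient.exact' h1
      rw [MulAction.orbitRel_apply] at h2
      obtain ⟨z, hz⟩ := h2
      rw [← hz]
      exact hfixz z
    rw [Fintype.prod_eq_single q₀]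
    · have ha : q₀.out.out ∈ M := by
        have : ((q₀.out.out : G) : G ⧸ M) = ((1 : G) : G ⧸ M) := by
          rw [QuotientGroup.out_eq', hq₀]
        rw [QuotientGroup.eq] at this
        simpa using M.inv_mem this
      have hper : Function.minimalPeriod (m • ·) q₀.out = 1 := by
        rw [Function.minimalPeriod_eq_one_iff_isFixedPt, hq₀]
        exact hfix
      have hgen : ∀ (k : ℕ), k = 1 → ∀ (a : G) (ha : a ∈ M) (h : a⁻¹ * m ^ k * a ∈ M),
          φ ⟨a⁻¹ * m ^ k * a, h⟩ = φ ⟨m, hm⟩ := by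
        rintro k rfl a ha h
        have : (⟨a⁻¹ * m ^ 1 * a, h⟩ : ↥M) = (⟨a, ha⟩ : ↥M)⁻¹ * ⟨m, hm⟩ * ⟨a, ha⟩ := by
          apply Subtype.ext
          simp
        rw [this, map_mul, map_mul, map_inv, mul_comm, mul_inv_cancel_left]
      exact hgen _ hper _ ha _
    · intro q hq
      have ha : q.out.out ∉ M := fun h => hq (hout_of_mem q h)
      rw [hφ]
      refine hNM _ ha _ (QuotientGroup.out_conj_pow_minimalPeriod_mem M m q.out) ?_
      have : q.out.out * (q.out.out⁻¹ * m ^ Function.minimalPeriod (m • ·) q.out * q.out.out)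
          * q.out.out⁻¹ = m ^ Function.minimalPeriod (m • ·) q.out := by group
      rw [this]
      exact M.pow_mem hm _
  have hle : Subgroup.normalClosure (H : Set G) ≤ (MonoidHom.transfer φ).ker := by
    apply Subgroup.normalClosure_le_normal
    intro h hh
    have hhM : h ∈ M := hHM hh
    show h ∈ (MonoidHom.transfer φ).ker
    rw [MonoidHom.mem_ker, key h hhM, hφ]
    exact hh
  rintro x ⟨hx1, hx2⟩
  have hxM : x ∈ M := hx2
  have := hle hx1
  rw [MonoidHom.mem_ker, key x hxM, hφ] at this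
  exact this

theorem map_conj_eq_of_le [Finite G] (H M : Subgroup G) (hHM : H ≤ M)
    (hcl : ∀ g : G, (H ⊔ H.map (MulAut.conj g).toMonoidHom) ⊓ M = H) (g : G)
    (hg : H.map (MulAut.conj g).toMonoidHom ≤ M) : H.map (MulAut.conj g).toMonoidHom = H := by
  have h1 : H ⊔ H.map (MulAut.conj g).toMonoidHom ≤ M := sup_le hHM hg
  have h2 := hcl g
  rw [inf_eq_left.mpr h1] at h2
  have h3 : H.map (MulAut.conj g).toMonoidHom ≤ H := le_sup_right.trans h2.le
  exact Subgroup.eq_of_le_of_card_ge h3 (card_map_conj H g).ge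

/-- Let G be a finite group and H ≤ M ≤ G subgroups such that for every g ∈ G the subgroup generated by H and g H g⁻¹ meets M exactly in H. If H is a maximal subgroup of M and M is a maximal subgroup of G, then the normal closure of H in G meets M exactly in H. -/
theorem result {G : Type*} [Group G] [Finite G] (H M : Subgroup G) (hHM : H ≤ M) (hcl : ∀ g : G, (H ⊔ H.map (MulAut.conj g).toMonoidHom) ⊓ M = H) (hmaxH : IsCoatom (H.subgroupOf M)) (hmaxM : IsCoatom M) : Subgroup.normalClosure (H : Set G) ⊓ M = H := by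
  apply le_antisymm _ (le_inf Subgroup.le_normalClosure hHM)
  by_cases hN : H.Normal
  · rw [Subgroup.normalClosure_eq_self]; exact inf_le_left
  have hconj := map_conj_eq_of_le H M hHM hcl
  have hnormM : ∀ m ∈ M, H.map (MulAut.conj m).toMonoidHom = H := by
    intro m hm
    apply hconj
    intro x hx
    rw [mem_map_conj] at hx
    have : x = m * (m⁻¹ * x * m) * m⁻¹ := by group
    rw [this]
    exact M.mul_mem (M.mul_mem hm (hHM hx)) (M.inv_mem hm)
  have hMN : M ≤ Subgroup.normalizer (H : Set G) := fun m hm =>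
    Subgroup.mem_normalizer_iff_map_conj_eq.mpr (hnormM m hm)
  haveI hnorm : (H.subgroupOf M).Normal :=
    (Subgroup.normal_subgroupOf_iff_le_normalizer hHM).mpr hMN
  have hNG : ∀ g, H.map (MulAut.conj g).toMonoidHom = H → g ∈ M := by
    intro g hg
    by_contra hgM
    have h1 : M < Subgroup.normalizer (H : Set G) :=
      lt_of_le_of_ne hMN (fun h => hgM (h ▸ Subgroup.mem_normalizer_iff_map_conj_eq.mpr hg))
    exact hN (Subgroup.normalizer_eq_top_iff.mp (hmaxM.2 _ h1))
  by_cases hB : ∀ a : G, a ∉ M → ∀ x, x ∈ M → a * x * a⁻¹ ∈ M → x ∈ H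
  · exact transfer_case H M hHM hmaxH hB
  · push_neg at hB
    obtain ⟨a, haM, u, huM, hu2, huH⟩ := hB
    -- `u` normalizes `H` and `H^(a⁻¹)`
    have hu1 : H.map (MulAut.conj u).toMonoidHom = H := hnormM u huM
    have hu3 : (H.map (MulAut.conj a⁻¹).toMonoidHom).map (MulAut.conj u).toMonoidHom
        = H.map (MulAut.conj a⁻¹).toMonoidHom := by
      have hv := hnormM _ hu2
      ext x
      rw [mem_map_conj, mem_map_conj, mem_map_conj]
      have e1 : a⁻¹⁻¹ * (u⁻¹ * x * u) * a⁻¹ = (a * u * a⁻¹)⁻¹ * (a⁻¹⁻¹ * x * a⁻¹) * (a * u * a⁻¹) := by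
        group
      rw [e1, ← mem_map_conj, hv]
    set X := H ⊔ H.map (MulAut.conj a⁻¹).toMonoidHom with hX
    have huX : u ∈ Subgroup.normalizer (X : Set G) := by
      rw [Subgroup.mem_normalizer_iff_map_conj_eq]
      show X.map (MulAut.conj u).toMonoidHom = X
      rw [hX, Subgroup.map_sup, hu1, hu3]
    have hML : M ≤ H ⊔ Subgroup.zpowers u := by
      rw [← Subgroup.subgroupOf_eq_top]
      apply hmaxH.2
      refine lt_of_le_of_ne ?_ ?_
      · intro x hx
        rw [Subgroup.mem_subgroupOf] at hx ⊢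
        exact (le_sup_left : H ≤ H ⊔ Subgroup.zpowers u) hx
      · intro h
        have h1 : (⟨u, huM⟩ : ↥M) ∈ (H ⊔ Subgroup.zpowers u).subgroupOf M := by
          rw [Subgroup.mem_subgroupOf]
          exact (le_sup_right : Subgroup.zpowers u ≤ H ⊔ Subgroup.zpowers u)
            (Subgroup.mem_zpowers u)
        rw [← h, Subgroup.mem_subgroupOf] at h1
        exact huH h1
    have hMY : M ≤ X ⊔ Subgroup.zpowers u :=
      hML.trans (sup_le_sup_right le_sup_left _)
    have hY : X ⊔ Subgroup.zpowers u = ⊤ := by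
      by_contra hne
      have h1 : ¬ M < X ⊔ Subgroup.zpowers u := fun h => hne (hmaxM.2 _ h)
      have h2 : X ⊔ Subgroup.zpowers u = M := by
        rcases eq_or_lt_of_le hMY with h | h
        · exact h.symm
        · exact absurd h h1
      have h3 : H.map (MulAut.conj a⁻¹).toMonoidHom ≤ M := by
        rw [← h2]
        exact le_sup_right.trans le_sup_left
      have h4 := hNG _ (hconj _ h3)
      exact haM (by simpa using M.inv_mem h4)
    have hXn : X.Normal := by
      rw [← Subgroup.normalizer_eq_top_iff, eq_top_iff, ← hY]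
      exact sup_le Subgroup.le_normalizer ((Subgroup.zpowers_le).mpr huX)
    have h5 : Subgroup.normalClosure (H : Set G) ≤ X :=
      Subgroup.normalClosure_le_normal (le_sup_left : H ≤ X)
    calc Subgroup.normalClosure (H : Set G) ⊓ M ≤ X ⊓ M := inf_le_inf_right _ h5
      _ = H := hcl a⁻¹

end Cfsg.Agent.S3014
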