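import Mathlib
import Cfsg.Statements.S3015
import Cfsg.Agent.S3014

set_option autoImplicit false
open Cfsg

namespace Cfsg.Agent.S3015

open Cfsg.Agent.S3014 (mem_map_conj card_map_conj)

variable {G : Type*} [Group G]

/-- a subgroup of prime index is a coatom -/
theorem isCoatom_of_index_prime {M : Type*} [Group M] [Finite M] (K : Subgroup M)
    (h : K.index.Prime) : IsCoatom K := by
  refine ⟨?_, ?_⟩
  · intro hK
    rw [hK, Subgroup.index_top] at h
    exact Nat.not_prime_one h
  · intro L hL
    have h1 : L.index ∣ K.index := Subgroup.index_dvd_of_le hL.le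
    rcases (Nat.dvd_prime h).mp h1 with h2 | h2
    · exact Subgroup.index_eq_one.mp h2
    · exfalso
      have e1 := Subgroup.card_mul_index K
      have e2 := Subgroup.card_mul_index L
      rw [h2, ← e1] at e2
      have e3 : Nat.card L = Nat.card K := Nat.eq_of_mul_eq_mul_right h.pos e2
      exact hL.ne (Subgroup.eq_of_le_of_card_ge hL.le e3.le)

/-- the subgroup generated by the `r'`-elements of `K` -/
def res (r : ℕ) (K : Subgroup G) : Subgroup G :=
  Subgroup.closure {x | x ∈ K ∧ (orderOf x).Coprime r}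

theorem res_le (r : ℕ) (K : Subgroup G) : res r K ≤ K :=
  (Subgroup.closure_le K).mpr (fun _ hx => hx.1)

theorem res_map_conj (r : ℕ) (K : Subgroup G) (g : G) :
    (res r K).map (MulAut.conj g).toMonoidHom = res r (K.map (MulAut.conj g).toMonoidHom) := by
  unfold res
  rw [MonoidHom.map_closure]
  congr 1
  ext y
  constructor
  · rintro ⟨x, ⟨hx1, hx2⟩, rfl⟩
    refine ⟨Subgroup.mem_map_of_mem _ hx1, ?_⟩
    have : orderOf ((MulAut.conj g).toMonoidHom x) = orderOf x :=
      MulEquiv.orderOf_eq (MulAut.conj g) x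
    show (orderOf ((MulAut.conj g).toMonoidHom x)).Coprime r
    rw [this]; exact hx2
  · rintro ⟨⟨x, hx1, rfl⟩, hy2⟩
    refine ⟨x, ⟨hx1, ?_⟩, rfl⟩
    have : orderOf ((MulAut.conj g).toMonoidHom x) = orderOf x :=
      MulEquiv.orderOf_eq (MulAut.conj g) x
    have hy2' : (orderOf ((MulAut.conj g).toMonoidHom x)).Coprime r := hy2
    rw [this] at hy2'; exact hy2'

theorem isPGroup_of_res_eq_bot [Finite G] {r : ℕ} (hr : r.Prime) (K : Subgroup G)
    (h : res r K = ⊥) : IsPGroup r K := by
  rintro ⟨x, hx⟩
  obtain ⟨k, m, hm, hxm⟩ :=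
    Nat.exists_eq_pow_mul_and_not_dvd (orderOf_pos x).ne' r hr.ne_one
  refine ⟨k, ?_⟩
  have h1 : orderOf (x ^ r ^ k) = m := by
    rw [orderOf_pow_of_dvd (pow_ne_zero _ hr.ne_zero) (hxm ▸ dvd_mul_right _ _), hxm,
      Nat.mul_div_cancel_left _ (pow_pos hr.pos _)]
  have h2 : x ^ r ^ k ∈ res r K := by
    refine Subgroup.subset_closure ⟨K.pow_mem hx _, ?_⟩
    rw [h1]
    exact ((Nat.Prime.coprime_iff_not_dvd hr).mpr hm).symm
  rw [h, Subgroup.mem_bot] at h2
  exact Subtype.ext (by simpa using h2)

theorem not_isSolvable_of [IsSimpleGroup G] (hG : ¬ IsMulCommutative G) : ¬ Group.IsSolvable G :=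
  fun h => hG ⟨⟨fun a b => (IsSimpleGroup.comm_iff_isSolvable.mpr h) a b⟩⟩

/-- a non-abelian finite simple group has no maximal subgroup of prime order -/
theorem not_coatom_prime_card [Finite G] [IsSimpleGroup G] (hG : ¬ IsMulCommutative G)
    (M : Subgroup G) (hmaxM : IsCoatom M) {r : ℕ} (hr : r.Prime) (hM : Nat.card M = r) :
    False := by
  haveI : Fact r.Prime := ⟨hr⟩
  have hnotsolv := not_isSolvable_of hG
  have hMp : IsPGroup r M := IsPGroup.of_card (n := 1) (by rw [hM, pow_one])
  obtain ⟨P, hP⟩ := hMp.exists_le_sylow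
  rcases eq_or_lt_of_le hP with h | h
  · have hMnn : ¬ M.Normal := by
      intro hn
      rcases hn.eq_bot_or_eq_top with h1 | h1
      · rw [h1] at hM
        simp at hM
        exact hr.ne_one hM.symm
      · exact hmaxM.1 h1
    have hnorm : Subgroup.normalizer ((P : Subgroup G) : Set G) = P := by
      rw [← h]
      rcases eq_or_lt_of_le (Subgroup.le_normalizer (H := M)) with h1 | h1
      · exact h1.symm
      · exact absurd (Subgroup.normalizer_eq_top_iff.mp (hmaxM.2 _ h1)) hMnn
    have hcyc : IsCyclic ↥(P : Subgroup G) := by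
      rw [← h]
      exact isCyclic_of_prime_card hM
    have hcomm : ∀ a ∈ (P : Subgroup G), ∀ b ∈ (P : Subgroup G), a * b = b * a := by
      intro a ha b hb
      have := (isMulCommutative_iff.mp hcyc.commutative) (⟨a, ha⟩ : ↥(P : Subgroup G)) ⟨b, hb⟩
      exact congrArg Subtype.val this
    have hNC : Subgroup.normalizer ((P : Subgroup G) : Set G)
        ≤ Subgroup.centralizer ((P : Subgroup G) : Set G) := by
      rw [hnorm]
      intro a ha b hb
      exact hcomm b hb a ha
    have hcompl := MonoidHom.ker_transferSylow_isComplement' P hNC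
    have hcard := hcompl.card_mul_card
    have hPc : Nat.card (P : Subgroup G) = r := by rw [← h]; exact hM
    rcases (MonoidHom.normal_ker (MonoidHom.transferSylow P hNC)).eq_bot_or_eq_top with h1 | h1
    · rw [h1, Subgroup.card_bot, one_mul, hPc] at hcard
      haveI := isCyclic_of_prime_card hcard.symm
      exact hG (IsCyclic.commutative (α := G))
    · rw [h1, Subgroup.card_top] at hcard
      have hpos : 0 < Nat.card G := Nat.card_pos
      have : Nat.card (P : Subgroup G) = 1 := by
        have h2 : Nat.card G * Nat.card (P : Subgroup G) = Nat.card G * 1 := by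
          rw [hcard, mul_one]
        exact Nat.eq_of_mul_eq_mul_left hpos h2
      rw [hPc] at this
      exact hr.ne_one this
  · have hPtop : (P : Subgroup G) = ⊤ := hmaxM.2 _ h
    have hGp : IsPGroup r G := by
      have h1 := P.isPGroup'
      rw [hPtop] at h1
      exact IsPGroup.of_equiv h1 Subgroup.topEquiv
    have := hGp.isNilpotent
    exact hnotsolv inferInstance

theorem card_mul_relIndex_of_le [Finite G] {H M : Subgroup G} (hHM : H ≤ M) :
    Nat.card H * H.relIndex M = Nat.card M := by
  have h1 := Subgroup.card_mul_index (H.subgroupOf M)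
  have h2 : Nat.card (H.subgroupOf M) = Nat.card H :=
    Nat.card_congr (Subgroup.subgroupOfEquivOfLe hHM).toEquiv
  rw [h2] at h1
  exact h1

theorem map_conj_map_conj (K : Subgroup G) (g m : G) :
    (K.map (MulAut.conj g).toMonoidHom).map (MulAut.conj m).toMonoidHom
      = (K.map (MulAut.conj (g⁻¹ * m * g)).toMonoidHom).map (MulAut.conj g).toMonoidHom := by
  ext x
  simp only [mem_map_conj]
  have : g⁻¹ * (m⁻¹ * x * m) * g = (g⁻¹ * m * g)⁻¹ * (g⁻¹ * x * g) * (g⁻¹ * m * g) := by group
  rw [this]

/-- no "bad" conjugates: under the hypotheses (and no two conjugates of `H` generating `G`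
is not even needed), a conjugate of `H` inside `M` equals `H`. -/
theorem conj_le_imp_eq [Finite G] [IsSimpleGroup G] (M H : Subgroup G) (hmaxM : IsCoatom M)
    (hHM : H ≤ M) (hHn : (H.subgroupOf M).Normal) (hidx : (H.relIndex M).Prime)
    (hHbot : H ≠ ⊥) (g : G) (hg : H.map (MulAut.conj g).toMonoidHom ≤ M) :
    H.map (MulAut.conj g).toMonoidHom = H := by
  classical
  by_contra hne'
  have hr := hidx
  have hHtop : H ≠ ⊤ := fun h => hmaxM.1 (top_le_iff.mp (h ▸ hHM))
  have hMN : M ≤ Subgroup.normalizer (H : Set G) :=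
    (Subgroup.normal_subgroupOf_iff_le_normalizer hHM).mp hHn
  have hnormM : ∀ m ∈ M, H.map (MulAut.conj m).toMonoidHom = H := fun m hm =>
    Subgroup.mem_normalizer_iff_map_conj_eq.mp (hMN hm)
  have hMnn : ¬ M.Normal := by
    intro hn
    rcases hn.eq_bot_or_eq_top with h | h
    · exact hHbot (le_bot_iff.mp (h ▸ hHM))
    · exact hmaxM.1 h
  have hNM : ∀ g, M.map (MulAut.conj g).toMonoidHom = M → g ∈ M := by
    intro g hg
    by_contra hgM
    have : M < Subgroup.normalizer (M : Set G) :=
      lt_of_le_of_ne Subgroup.le_normalizer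
        (fun h => hgM (h ▸ Subgroup.mem_normalizer_iff_map_conj_eq.mpr hg))
    exact hMnn (Subgroup.normalizer_eq_top_iff.mp (hmaxM.2 _ this))
  obtain ⟨H', hH'⟩ : ∃ H', H' = H.map (MulAut.conj g).toMonoidHom := ⟨_, rfl⟩
  obtain ⟨M', hM'⟩ : ∃ M', M' = M.map (MulAut.conj g).toMonoidHom := ⟨_, rfl⟩
  rw [← hH'] at hg hne'
  have hMM' : M' ≠ M := fun h => hne' (hH' ▸ hnormM g (hNM g (hM' ▸ h)))
  have hnormM' : ∀ m ∈ M', H'.map (MulAut.conj m).toMonoidHom = H' := by
    intro m hm
    rw [hM', mem_map_conj] at hm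
    rw [hH', map_conj_map_conj, hnormM _ hm]
  have hcardH' : Nat.card H' = Nat.card H := by rw [hH']; exact card_map_conj H g
  have hcardM' : Nat.card M' = Nat.card M := by rw [hM']; exact card_map_conj M g
  -- the residual
  have hres1 : res (H.relIndex M) H' ≤ res (H.relIndex M) H := by
    apply (Subgroup.closure_le _).mpr
    rintro x ⟨hx1, hx2⟩
    apply Subgroup.subset_closure
    refine ⟨?_, hx2⟩
    have hxM : x ∈ M := hg hx1
    have h1 : (⟨x, hxM⟩ : ↥M) ^ (H.subgroupOf M).index ∈ H.subgroupOf M :=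
      Subgroup.pow_index_mem _ _
    have h1' : x ^ (H.relIndex M) ∈ H := by
      rw [Subgroup.mem_subgroupOf] at h1
      have h2 : x ^ (H.subgroupOf M).index ∈ H := by simpa using h1
      exact h2
    obtain ⟨k, hk⟩ := exists_pow_eq_self_of_coprime hx2.symm
    rw [← hk]
    exact H.pow_mem h1' k
  have hres2 : Nat.card (res (H.relIndex M) H') = Nat.card (res (H.relIndex M) H) := by
    rw [hH', ← res_map_conj]
    exact card_map_conj _ g
  have hres : res (H.relIndex M) H' = res (H.relIndex M) H :=
    Subgroup.eq_of_le_of_card_ge hres1 hres2.ge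
  have hP1 : M ≤ Subgroup.normalizer ((res (H.relIndex M) H : Subgroup G) : Set G) := by
    intro m hm
    rw [Subgroup.mem_normalizer_iff_map_conj_eq]
    show (res (H.relIndex M) H).map (MulAut.conj m).toMonoidHom = _
    rw [res_map_conj, hnormM m hm]
  have hP2 : M' ≤ Subgroup.normalizer ((res (H.relIndex M) H : Subgroup G) : Set G) := by
    intro m hm
    rw [Subgroup.mem_normalizer_iff_map_conj_eq]
    show (res (H.relIndex M) H).map (MulAut.conj m).toMonoidHom = _
    rw [← hres, res_map_conj, hnormM' m hm]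
  have hsup : M ⊔ M' = ⊤ := by
    apply hmaxM.2
    refine lt_of_le_of_ne le_sup_left ?_
    intro h
    have h1 : M' ≤ M := by rw [h]; exact le_sup_right
    exact hMM' (Subgroup.eq_of_le_of_card_ge h1 hcardM'.ge)
  have hPn : (res (H.relIndex M) H).Normal := by
    rw [← Subgroup.normalizer_eq_top_iff, eq_top_iff, ← hsup]
    exact sup_le hP1 hP2
  rcases hPn.eq_bot_or_eq_top with h | h
  · have : Fact (H.relIndex M).Prime := ⟨hr⟩
    have hHp : IsPGroup (H.relIndex M) H := isPGroup_of_res_eq_bot hr H h
    have hMp : IsPGroup (H.relIndex M) M := by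
      obtain ⟨k, hk⟩ := hHp.exists_card_eq
      apply IsPGroup.of_card (n := k + 1)
      rw [← card_mul_relIndex_of_le hHM, hk, pow_succ]
    -- `H'` is maximal in `M`, hence normal
    have hidx' : (H'.subgroupOf M).index = H.relIndex M := by
      have e1 := card_mul_relIndex_of_le hg
      have e2 := card_mul_relIndex_of_le hHM
      rw [hcardH', ← e2] at e1
      have hpos : 0 < Nat.card H := Nat.card_pos
      exact Nat.eq_of_mul_eq_mul_left hpos e1
    have hco : IsCoatom (H'.subgroupOf M) := isCoatom_of_index_prime _ (hidx'.symm ▸ hr)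
    have : Group.IsNilpotent ↥M := hMp.isNilpotent
    have hn' : (H'.subgroupOf M).Normal :=
      Subgroup.NormalizerCondition.normal_of_coatom _
        (Group.normalizerCondition_of_isNilpotent (G := ↥M)) hco
    have hQ1 : M ≤ Subgroup.normalizer (H' : Set G) :=
      (Subgroup.normal_subgroupOf_iff_le_normalizer hg).mp hn'
    have hQ2 : M' ≤ Subgroup.normalizer (H' : Set G) := fun m hm =>
      Subgroup.mem_normalizer_iff_map_conj_eq.mpr (hnormM' m hm)
    have hH'n : H'.Normal := by
      rw [← Subgroup.normalizer_eq_top_iff, eq_top_iff, ← hsup]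
      exact sup_le hQ1 hQ2
    rcases hH'n.eq_bot_or_eq_top with h3 | h3
    · have : Nat.card H = 1 := by rw [← hcardH', h3, Subgroup.card_bot]
      exact hHbot (Subgroup.card_eq_one.mp this)
    · have : Nat.card H = Nat.card G := by rw [← hcardH', h3, Subgroup.card_top]
      exact hHtop (Subgroup.eq_top_of_card_eq H this)
  · exact hHtop (top_le_iff.mp (h ▸ res_le _ H))

/-- Let G be a finite non-abelian simple group, M a maximal subgroup of G and H a normal subgroup of M of prime index in M. Then G is generated by H together with one of its conjugates. -/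
theorem result {G : Type*} [Group G] [Finite G] [IsSimpleGroup G] (hG : ¬ IsMulCommutative G) (M H : Subgroup G) (hmaxM : IsCoatom M) (hHM : H ≤ M) (hHn : (H.subgroupOf M).Normal) (hidx : (H.relIndex M).Prime) : ∃ g : G, H ⊔ H.map (MulAut.conj g).toMonoidHom = ⊤ := by
  by_contra hne
  push_neg at hne
  have hmaxH : IsCoatom (H.subgroupOf M) := isCoatom_of_index_prime _ hidx
  have hHbot : H ≠ ⊥ := by
    intro h
    apply not_coatom_prime_card hG M hmaxM hidx
    rw [h, Subgroup.relIndex_bot_left]
  have hHneM : H ≠ M := by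
    intro h
    rw [h, Subgroup.relIndex_self] at hidx
    exact Nat.not_prime_one hidx
  have hbad := conj_le_imp_eq M H hmaxM hHM hHn hidx hHbot
  have hcl : ∀ g : G, (H ⊔ H.map (MulAut.conj g).toMonoidHom) ⊓ M = H := by
    intro g
    apply le_antisymm _ (le_inf le_sup_left hHM)
    by_contra hnot
    -- then `M ≤ H ⊔ H^g`
    have h1 : H.subgroupOf M < ((H ⊔ H.map (MulAut.conj g).toMonoidHom) ⊓ M).subgroupOf M := by
      refine lt_of_le_of_ne ?_ ?_
      · intro x hx
        rw [Subgroup.mem_subgroupOf] at hx ⊢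
        exact ⟨(le_sup_left : H ≤ _) hx, x.2⟩
      · intro h
        apply hnot
        intro x hx
        have hxM : x ∈ M := hx.2
        have : (⟨x, hxM⟩ : ↥M) ∈ ((H ⊔ H.map (MulAut.conj g).toMonoidHom) ⊓ M).subgroupOf M := by
          rw [Subgroup.mem_subgroupOf]; exact hx
        rw [← h, Subgroup.mem_subgroupOf] at this
        exact this
    have h2 := hmaxH.2 _ h1
    rw [Subgroup.subgroupOf_eq_top] at h2
    have h3 : M ≤ H ⊔ H.map (MulAut.conj g).toMonoidHom := h2.trans inf_le_left
    rcases eq_or_lt_of_le h3 with h4 | h4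
    · have h5 : H.map (MulAut.conj g).toMonoidHom ≤ M := by rw [h4]; exact le_sup_right
      have h6 := hbad g h5
      rw [h6, sup_idem] at h4
      exact hHneM h4.symm
    · exact hne g (hmaxM.2 _ h4)
  have hfin := Cfsg.Agent.S3014.result H M hHM hcl hmaxH hmaxM
  have hncl : Subgroup.normalClosure (H : Set G) = ⊤ := by
    rcases (Subgroup.normalClosure_normal (s := (H : Set G))).eq_bot_or_eq_top with h | h
    · exact absurd (le_bot_iff.mp (h ▸ Subgroup.le_normalClosure)) hHbot
    · exact h
  rw [hncl, top_inf_eq] at hfin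
  exact hHneM hfin.symm

end Cfsg.Agent.S3015
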