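import Mathlib
import Cfsg.Statements.S3020
import Cfsg.Agent.Lib.Helper22.PPrimeCore

set_option autoImplicit false
open Cfsg

namespace Cfsg.Agent.S3020

/-- a self-normalizing `p`-subgroup has full `p`-power order -/
theorem card_eq_of_normalizer_eq {G : Type*} [Group G] [Finite G] {p : ℕ} [hp : Fact p.Prime]
    (H : Subgroup G) (hH : IsPGroup p H) (hN : Subgroup.normalizer (H : Set G) = H) :
    Nat.card H = p ^ (Nat.card G).factorization p := by
  obtain ⟨n, hn⟩ := IsPGroup.iff_card.mp hH
  have h1 : ¬ p ^ (n + 1) ∣ Nat.card G := by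
    intro hd
    have h := Sylow.prime_pow_dvd_card_normalizer hd hn
    rw [hN, hn] at h
    have := (Nat.pow_dvd_pow_iff_le_right hp.out.one_lt).mp h
    omega
  have h2 : p ^ n ∣ Nat.card G := hn ▸ Subgroup.card_subgroup_dvd_card H
  rw [hp.out.pow_dvd_iff_le_factorization Nat.card_pos.ne'] at h1 h2
  rw [hn]
  congr 1
  omega

/-- Let G be a finite group, p a prime and H an abelian p-subgroup of G that is extremely closed (for every g, the subgroup generated by H and g H g⁻¹ meets N_G(H) exactly in H). Then for every g ∈ G, the subgroup T generated by H and g H g⁻¹ is the product of H with O_{p'}(T), and H meets O_{p'}(T) trivially; that is, O_{p'}(T) is a normal p-complement of H in T. -/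
theorem result {G : Type*} [Group G] [Finite G] {p : ℕ} [Fact p.Prime] (H : Subgroup G) (hHp : IsPGroup p H) (hHab : IsMulCommutative H) (hcl : Cfsg.IsExtremelyClosed H) (g : G) (T : Subgroup G) (hT : T = H ⊔ H.map (MulAut.conj g).toMonoidHom) : H ⊔ (Cfsg.pPrimeCore p ↥T).map T.subtype = T ∧ H ⊓ (Cfsg.pPrimeCore p ↥T).map T.subtype = ⊥ := by
  classical
  have hpp : p.Prime := Fact.out
  have hHT : H ≤ T := hT ▸ le_sup_left
  set H' : Subgroup ↥T := H.subgroupOf T with hH'
  have hH'p : IsPGroup p H' := hHp.comap_subtype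
  have hmapH' : H'.map T.subtype = H := by
    rw [hH', Subgroup.subgroupOf_map_subtype]; exact inf_eq_left.mpr hHT
  -- the normalizer of H' in T is H'
  have hnorm : Subgroup.normalizer (H' : Set ↥T) = H' := by
    apply le_antisymm
    · intro t ht
      have h1 : (t : G) ∈ Subgroup.normalizer (H : Set G) := by
        rw [Subgroup.mem_normalizer_iff] at ht ⊢
        intro h
        constructor
        · intro hh
          have := (ht ⟨h, hHT hh⟩).mp (Subgroup.mem_subgroupOf.mpr hh)
          exact Subgroup.mem_subgroupOf.mp this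
        · intro hh
          have hhT : h ∈ T := by
            have := T.mul_mem (T.mul_mem (T.inv_mem t.2) (hHT hh)) t.2
            simpa [mul_assoc] using this
          have := (ht ⟨h, hhT⟩).mpr (Subgroup.mem_subgroupOf.mpr hh)
          exact Subgroup.mem_subgroupOf.mp this
      have h2 : (t : G) ∈ (H ⊔ H.map (MulAut.conj g).toMonoidHom) ⊓
          Subgroup.normalizer (H : Set G) := ⟨hT ▸ t.2, h1⟩
      rw [hcl g] at h2
      exact Subgroup.mem_subgroupOf.mpr h2
    · exact Subgroup.le_normalizer
  -- so H' is a Sylow subgroup of T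
  set P : Sylow p ↥T := Sylow.ofCard H' (card_eq_of_normalizer_eq H' hH'p hnorm) with hP
  have hPH : (P : Subgroup ↥T) = H' := Sylow.coe_ofCard _ _
  -- abelian, so the normalizer centralizes
  have hcomm : ∀ a ∈ H', ∀ b ∈ H', a * b = b * a := by
    intro a ha b hb
    have := hHab.is_comm.comm (⟨a, Subgroup.mem_subgroupOf.mp ha⟩ : H) ⟨b, Subgroup.mem_subgroupOf.mp hb⟩
    apply Subtype.ext
    show (a : G) * (b : G) = (b : G) * (a : G)
    exact congrArg Subtype.val this
  have hNC : Subgroup.normalizer ((P : Subgroup ↥T) : Set ↥T) ≤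
      Subgroup.centralizer ((P : Subgroup ↥T) : Set ↥T) := by
    rw [hPH, hnorm]
    intro a ha
    rw [Subgroup.mem_centralizer_iff]
    intro b hb
    exact hcomm b hb a ha
  have hcompl := MonoidHom.ker_transferSylow_isComplement' P hNC
  set K := (MonoidHom.transferSylow P hNC).ker with hK
  have hKn : K.Normal := MonoidHom.normal_ker _
  have hKcard : (Nat.card K).Coprime p := by
    have h1 := hcompl.card_mul_card
    have h2 : Nat.card K = (P : Subgroup ↥T).index := by
      have h3 := (P : Subgroup ↥T).card_mul_index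
      rw [← h1, mul_comm] at h3
      exact (Nat.eq_of_mul_eq_mul_right Nat.card_pos h3).symm
    rw [h2]
    exact ((Nat.Prime.coprime_iff_not_dvd hpp).mpr P.not_dvd_index).symm
  have hKle : K ≤ Cfsg.pPrimeCore p ↥T := Cfsg.Agent.Helper22.le_pPrimeCore p K hKn hKcard
  have hsup : H' ⊔ Cfsg.pPrimeCore p ↥T = ⊤ := by
    apply eq_top_iff.mpr
    rw [← hcompl.sup_eq_top, hPH]
    exact sup_le (le_sup_of_le_right hKle) le_sup_left
  have hinf : H' ⊓ Cfsg.pPrimeCore p ↥T = ⊥ := by
    rw [eq_bot_iff]
    intro t ht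
    rw [Subgroup.mem_bot]
    obtain ⟨k, hk⟩ := IsPGroup.iff_orderOf.mp hH'p ⟨t, ht.1⟩
    have hk' : orderOf t = p ^ k := by
      rw [← hk]; exact (Subgroup.orderOf_mk t ht.1).symm
    have hd : orderOf t ∣ Nat.card (Cfsg.pPrimeCore p ↥T) := by
      have := orderOf_dvd_natCard (⟨t, ht.2⟩ : Cfsg.pPrimeCore p ↥T)
      rwa [Subgroup.orderOf_mk] at this
    have hco := Cfsg.Agent.Helper22.card_pPrimeCore_coprime (G := ↥T) p
    have h1 : (orderOf t).Coprime p := Nat.Coprime.coprime_dvd_left hd hco
    rw [hk'] at h1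
    have : k = 0 := by
      by_contra hk0
      have := (Nat.coprime_pow_left_iff (Nat.pos_of_ne_zero hk0) p p).mp h1
      rw [Nat.coprime_self] at this
      exact hpp.one_lt.ne' this
    rw [this, pow_zero] at hk'
    exact orderOf_eq_one_iff.mp hk'
  constructor
  · rw [← hmapH', ← Subgroup.map_sup, hsup, ← MonoidHom.range_eq_map, Subgroup.range_subtype]
  · rw [← hmapH', ← Subgroup.map_inf _ _ _ (Subgroup.subtype_injective T), hinf, Subgroup.map_bot]

end Cfsg.Agent.S3020
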