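import Mathlib
import Cfsg.Statements.S3021
import Cfsg.Agent.Lib.Helper15.Basic

set_option autoImplicit false
open Cfsg

namespace Cfsg.Agent.S3021

open Cfsg.Agent.Helper15

/-- Let G be a finite group, p a prime and H a p-subgroup of G that is extremely closed (for every g, the subgroup generated by H and g H g⁻¹ meets N_G(H) exactly in H). Then every p-subgroup Q of G containing H has N_G(Q) ≤ N_G(H); in particular every Sylow p-subgroup P of G containing H normalizes H, and H is strongly closed in P with respect to G. -/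
theorem result {G : Type*} [Group G] [Finite G] {p : ℕ} [Fact p.Prime] (H : Subgroup G) (hHp : IsPGroup p H) (hcl : Cfsg.IsExtremelyClosed H) : (∀ Q : Subgroup G, IsPGroup p Q → H ≤ Q → Subgroup.normalizer (Q : Set G) ≤ Subgroup.normalizer (H : Set G)) ∧ ∀ P : Sylow p G, H ≤ (P : Subgroup G) → (P : Subgroup G) ≤ Subgroup.normalizer (H : Set G) ∧ Cfsg.IsStronglyClosed H (P : Subgroup G) := by
  have key : ∀ Q : Subgroup G, IsPGroup p Q → H ≤ Q → ∀ n ∈ Subgroup.normalizer (Q : Set G),
      H.map (MulAut.conj n).toMonoidHom ≤ H := by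
    intro Q hQ hHQ n hn
    have hle : H ⊔ H.map (MulAut.conj n).toMonoidHom ≤ Q :=
      sup_le hHQ (map_conj_le_of_mem_normalizer hHQ hn)
    have hK : IsPGroup p ↥(H ⊔ H.map (MulAut.conj n).toMonoidHom) := hQ.to_le hle
    have := eq_of_inf_normalizer_eq hK le_sup_left (hcl n)
    calc H.map (MulAut.conj n).toMonoidHom ≤ H ⊔ H.map (MulAut.conj n).toMonoidHom := le_sup_right
      _ = H := this
  have part1 : ∀ Q : Subgroup G, IsPGroup p Q → H ≤ Q →
      Subgroup.normalizer (Q : Set G) ≤ Subgroup.normalizer (H : Set G) := by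
    intro Q hQ hHQ n hn
    exact mem_normalizer_of_map_conj_le (key Q hQ hHQ n hn)
      (key Q hQ hHQ n⁻¹ (Subgroup.inv_mem _ hn))
  refine ⟨part1, ?_⟩
  intro P hHP
  have hPN : (P : Subgroup G) ≤ Subgroup.normalizer (H : Set G) :=
    le_trans Subgroup.le_normalizer (part1 P P.isPGroup' hHP)
  refine ⟨hPN, hHP, ?_⟩
  intro x hx g hg
  have h1 : g * x * g⁻¹ ∈ (H ⊔ H.map (MulAut.conj g).toMonoidHom) ⊓ Subgroup.normalizer (H : Set G) :=
    ⟨(le_sup_right : _ ≤ H ⊔ H.map (MulAut.conj g).toMonoidHom) (conj_mem_map_conj g hx), hPN hg⟩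
  rw [hcl g] at h1
  exact h1

end Cfsg.Agent.S3021
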