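import Mathlib
import Cfsg.Statements.S3023
import Cfsg.Agent.Lib.Helper15.CharPAmbient
import Cfsg.Agent.Lib.Helper15.StronglyEmbedded
import Cfsg.Agent.S0542

set_option autoImplicit false
open Cfsg

namespace Cfsg.Agent.S3023

open Cfsg.Agent.Helper15

variable {G : Type*} [Group G]

theorem normalizer_le_normalizer_centralizer' (B : Subgroup G) :
    Subgroup.normalizer (B : Set G) ≤
      Subgroup.normalizer ((Subgroup.centralizer (B : Set G) : Subgroup G) : Set G) := by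
  intro l hl
  apply mem_normalizer_of_map_conj_eq
  rw [← centralizer_map_conj, map_conj_eq_of_mem_normalizer hl]

theorem centralizer_singleton_eq_centralizer_zpowers (z : G) :
    Subgroup.centralizer ({z} : Set G)
      = Subgroup.centralizer ((Subgroup.zpowers z : Subgroup G) : Set G) := by
  rw [Subgroup.zpowers_eq_closure, Subgroup.centralizer_closure]

/-- statement -/
theorem result {G : Type*} [Group G] [Finite G] {p : ℕ} [Fact p.Prime] (hG : Cfsg.IsOfParabolicCharacteristic p G) (S : Sylow p G) (G₁ : Subgroup G) (hsn : G₁.IsSubnormal) (hne : ((S : Subgroup G) ⊓ G₁) ⊓ Subgroup.centralizer (((S : Subgroup G) ⊓ G₁ : Subgroup G) : Set G) ≠ ⊥) (hle : ((S : Subgroup G) ⊓ G₁) ⊓ Subgroup.centralizer (((S : Subgroup G) ⊓ G₁ : Subgroup G) : Set G) ≤ (S : Subgroup G) ⊓ Subgroup.centralizer ((S : Subgroup G) : Set G)) : Cfsg.IsOfParabolicCharacteristic p ↥G₁ := by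
  have hpp : p.Prime := Fact.out
  intro R' hR'p hR'1 hpar
  obtain ⟨T', hT'⟩ := hpar
  set R₁ : Subgroup G := R'.map G₁.subtype with hR₁
  set T₁ : Subgroup G := (T' : Subgroup ↥G₁).map G₁.subtype with hT₁def
  have hT₁ : IsSylowIn p T₁ G₁ := isSylowIn_map_subtype T'
  have hS₁ : IsSylowIn p ((S : Subgroup G) ⊓ G₁) G₁ := by
    obtain ⟨Q, hQ⟩ := Cfsg.Agent.S0542.result p G₁ hsn S
    have := isSylowIn_map_subtype Q
    rwa [hQ, Subgroup.subgroupOf_map_subtype] at this
  obtain ⟨g, hgG₁, hg⟩ := hS₁.exists_conj hT₁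
  have hR₁G₁ : R₁ ≤ G₁ := Subgroup.map_subtype_le _
  have hR₁p : IsPGroup p ↥R₁ := hR'p.map _
  have hR₁ne : R₁ ≠ ⊥ := by
    intro hb
    apply hR'1
    exact (Subgroup.map_eq_bot_iff_of_injective R' (Subgroup.subtype_injective G₁)).mp hb
  have hT₁N : T₁ ≤ Subgroup.normalizer (R₁ : Set G) :=
    (Subgroup.map_mono hT').trans (Subgroup.le_normalizer_map _)
  have hR₁T₁ : R₁ ≤ T₁ := by
    have h1 : IsPGroup p ↥(T₁ ⊔ R₁) := hT₁.isPGroup.to_sup_of_normal_right' hR₁p hT₁N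
    have h2 := hT₁.eq_of_le h1 le_sup_left (sup_le hT₁.le hR₁G₁)
    rw [← h2]
    exact le_sup_right
  obtain ⟨z, hzR₁, hz, hT₁z⟩ := exists_orderOf_eq_prime_centralized hT₁.isPGroup hR₁T₁ hT₁N hR₁ne
  -- `z` is centralized by the Sylow subgroup `S' = g S g⁻¹` of `G`
  have hzT₁ : z ∈ T₁ := hR₁T₁ hzR₁
  have hw : g⁻¹ * z * g ∈ ((S : Subgroup G) ⊓ G₁) ⊓
      Subgroup.centralizer (((S : Subgroup G) ⊓ G₁ : Subgroup G) : Set G) := by
    rw [Subgroup.mem_inf]
    constructor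
    · rw [← mem_map_conj_iff, hg]; exact hzT₁
    · rw [← mem_map_conj_iff, ← centralizer_map_conj, hg, Subgroup.mem_centralizer_iff]
      intro t ht
      have := hT₁z ht
      rw [mem_centralizer_singleton_iff] at this
      exact this
  have hw' := hle hw
  have hS'z : ((g • S : Sylow p G) : Subgroup G) ≤ Subgroup.centralizer ({z} : Set G) := by
    intro s hs
    have hcoe : ((g • S : Sylow p G) : Subgroup G)
        = (S : Subgroup G).map (MulAut.conj g).toMonoidHom := rfl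
    rw [hcoe, mem_map_conj_iff] at hs
    rw [mem_centralizer_singleton_iff]
    have h1 := (Subgroup.mem_centralizer_iff.mp (Subgroup.mem_inf.mp hw').2) _ hs
    -- (g⁻¹ s g) (g⁻¹ z g) = (g⁻¹ z g) (g⁻¹ s g)
    calc s * z = g * ((g⁻¹ * s * g) * (g⁻¹ * z * g)) * g⁻¹ := by group
      _ = g * ((g⁻¹ * z * g) * (g⁻¹ * s * g)) * g⁻¹ := by rw [h1]
      _ = z * s := by group
  -- the parabolic `p`-local `N_G(⟨z⟩)`
  set Z₀ := Subgroup.zpowers z with hZ₀
  have hZ₀p : IsPGroup p ↥Z₀ := by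
    apply IsPGroup.of_card (n := 1)
    rw [Nat.card_zpowers, hz, pow_one]
  have hZ₀ne : Z₀ ≠ ⊥ := by
    intro h
    have := Subgroup.zpowers_eq_bot.mp h
    rw [this, orderOf_one] at hz
    exact hpp.one_lt.ne hz
  have hCN : Subgroup.centralizer ({z} : Set G) ≤ Subgroup.normalizer (Z₀ : Set G) := by
    rw [centralizer_singleton_eq_centralizer_zpowers]
    exact Subgroup.centralizer_le_normalizer _
  have hNZ : CharPIn p (Subgroup.normalizer (Z₀ : Set G)) :=
    charPIn_iff.mpr (hG Z₀ hZ₀p hZ₀ne ⟨g • S, hS'z.trans hCN⟩)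
  have hCz : CharPIn p (Subgroup.centralizer ({z} : Set G)) := by
    apply hNZ.of_le_normalizer hCN
    rw [centralizer_singleton_eq_centralizer_zpowers]
    exact normalizer_le_normalizer_centralizer' Z₀
  have hR₁C : R₁ ≤ Subgroup.centralizer ({z} : Set G) := hR₁T₁.trans hT₁z
  have hY : CharPIn p (Subgroup.centralizer ({z} : Set G) ⊓ Subgroup.normalizer (R₁ : Set G)) :=
    hCz.inf_normalizer hR₁C hR₁p
  have hY₀ : CharPIn p (G₁ ⊓
      (Subgroup.centralizer ({z} : Set G) ⊓ Subgroup.normalizer (R₁ : Set G))) := by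
    apply hY.of_isSubnormal inf_le_right
    rw [Subgroup.inf_subgroupOf_right]
    exact hsn.subgroupOf
  have hR₁core : R₁ ≤ pCoreOf p (G₁ ⊓ Subgroup.normalizer (R₁ : Set G)) :=
    Cfsg.Agent.Helper14.le_pCoreOf (le_inf hR₁G₁ Subgroup.le_normalizer) inf_le_right hR₁p
  have hL₁ : CharPIn p (G₁ ⊓ Subgroup.normalizer (R₁ : Set G)) := by
    apply CharPIn.of_centralizer_le hY₀ (inf_le_inf_left _ inf_le_right)
    intro x hx
    rw [Subgroup.mem_inf] at hx
    obtain ⟨hxL, hxc⟩ := hx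
    rw [Subgroup.mem_inf] at hxL
    rw [Subgroup.mem_inf, Subgroup.mem_inf]
    refine ⟨hxL.1, ?_, hxL.2⟩
    rw [mem_centralizer_singleton_iff]
    exact ((Subgroup.mem_centralizer_iff.mp hxc) z (hR₁core hzR₁)).symm
  -- back to the type-level statement
  have hR'eq : R' = R₁.subgroupOf G₁ :=
    (Subgroup.comap_map_eq_self_of_injective (Subgroup.subtype_injective G₁) R').symm
  have e1 : Subgroup.normalizer ((R' : Subgroup ↥G₁) : Set ↥G₁)
      = (G₁ ⊓ Subgroup.normalizer (R₁ : Set G)).subgroupOf G₁ := by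
    rw [hR'eq, ← Subgroup.subgroupOf_normalizer_eq hR₁G₁, Subgroup.inf_subgroupOf_left]
  have e2 : ↥(Subgroup.normalizer ((R' : Subgroup ↥G₁) : Set ↥G₁)) ≃*
      ↥(G₁ ⊓ Subgroup.normalizer (R₁ : Set G)) :=
    (MulEquiv.subgroupCongr e1).trans (Subgroup.subgroupOfEquivOfLe inf_le_left)
  exact centralizer_pCore_le_of_equiv e2.symm (charPIn_iff.mp hL₁)

end Cfsg.Agent.S3023
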