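import Mathlib
import Cfsg.Statements.S3025
import Cfsg.Agent.S0016
import Cfsg.Agent.Lib.Helper15.SylowIn
import Cfsg.Agent.Lib.Helper15.ChermakDelgado

set_option autoImplicit false
open Cfsg

namespace Cfsg.Agent.S3025

open Cfsg.Agent.Helper15

/-- Let F be a finite group and H a nontrivial subgroup of F that is contained in every nontrivial subgroup of F which H normalizes. Then F has a nontrivial normal subgroup N contained in every nontrivial normal subgroup of F (a unique minimal normal subgroup), N is simple, and one of the following holds: C_F(N) = 1; or H = N has prime order p, C_F(N) is cyclic of order a power of p, and F/C_F(N) is cyclic of order dividing p − 1; or H = N has order 2, N is central in F, and F is a generalized quaternion group. -/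
theorem result {F : Type*} [Group F] [Finite F] (H : Subgroup F) (hH : H ≠ ⊥)
    (hmin : ∀ R : Subgroup F, R ≠ ⊥ → H ≤ Subgroup.normalizer (R : Set F) → H ≤ R) :
    ∃ N : Subgroup F, N.Normal ∧ N ≠ ⊥ ∧ (∀ M : Subgroup F, M.Normal → M ≠ ⊥ → N ≤ M) ∧ IsSimpleGroup ↥N ∧
      (Subgroup.centralizer (N : Set F) = ⊥ ∨
       (H = N ∧ (Nat.card N).Prime ∧ IsCyclic ↥(Subgroup.centralizer (N : Set F)) ∧
          (∃ k : ℕ, 1 ≤ k ∧ Nat.card ↥(Subgroup.centralizer (N : Set F)) = Nat.card N ^ k) ∧
          (∃ g : F, Subgroup.centralizer (N : Set F) ⊔ Subgroup.zpowers g = ⊤) ∧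
          (Subgroup.centralizer (N : Set F)).index ∣ Nat.card N - 1) ∨
       (H = N ∧ Nat.card N = 2 ∧ Subgroup.centralizer (N : Set F) = ⊤ ∧
          ∃ k : ℕ, 1 ≤ k ∧ Nonempty (F ≃* QuaternionGroup (2 ^ k)))) := by
  classical
  set N : Subgroup F := Subgroup.normalClosure (H : Set F) with hN
  haveI hNn : N.Normal := Subgroup.normalClosure_normal
  have hHN : H ≤ N := Subgroup.le_normalClosure
  have hN1 : N ≠ ⊥ := by
    intro h
    apply hH
    rw [eq_bot_iff, ← h]
    exact hHN
  have hHle : ∀ M : Subgroup F, M.Normal → M ≠ ⊥ → H ≤ M := by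
    intro M hM hM1
    apply hmin M hM1
    intro h _
    have : Subgroup.normalizer (M : Set F) = ⊤ := Subgroup.normalizer_eq_top_iff.mpr hM
    rw [this]; trivial
  have hNle : ∀ M : Subgroup F, M.Normal → M ≠ ⊥ → N ≤ M := by
    intro M hM hM1
    haveI := hM
    exact Subgroup.normalClosure_le_normal (hHle M hM hM1)
  -- `N` is simple
  have hNsimple : IsSimpleGroup ↥N := by
    haveI : Nontrivial ↥N := (Subgroup.nontrivial_iff_ne_bot N).mpr hN1
    refine ⟨fun T' hT' => ?_⟩
    by_cases hT1 : T' = ⊥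
    · exact Or.inl hT1
    right
    set Tg : Subgroup F := T'.map N.subtype with hTg
    have hTgN : Tg ≤ N := Subgroup.map_subtype_le _
    have hTg1 : Tg ≠ ⊥ := by
      intro h
      apply hT1
      rw [eq_bot_iff]
      intro x hx
      have : (x : F) ∈ Tg := ⟨x, hx, rfl⟩
      rw [h, Subgroup.mem_bot] at this
      rw [Subgroup.mem_bot]
      exact Subtype.ext this
    -- `N` normalizes `Tg`
    have hNTg : ∀ n ∈ N, ∀ t ∈ Tg, n * t * n⁻¹ ∈ Tg := by
      rintro n hn _ ⟨t, ht, rfl⟩
      exact ⟨⟨n, hn⟩ * t * ⟨n, hn⟩⁻¹, hT'.conj_mem t ht ⟨n, hn⟩, by simp⟩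
    have hHcore : H ≤ Tg.normalCore := by
      intro h hh b
      -- `H ≤ b⁻¹ Tg b`
      set Tb : Subgroup F := Tg.map (MulAut.conj b⁻¹).toMonoidHom with hTb
      have hTb1 : Tb ≠ ⊥ := by
        intro hb
        apply hTg1
        rw [eq_bot_iff]
        intro t ht
        have : b⁻¹ * t * b⁻¹⁻¹ ∈ Tb := ⟨t, ht, rfl⟩
        rw [hb, Subgroup.mem_bot] at this
        rw [Subgroup.mem_bot]
        have e : t = b * (b⁻¹ * t * b⁻¹⁻¹) * b⁻¹ := by group
        rw [e, this]; group
      have hNTb : N ≤ Subgroup.normalizer (Tb : Set F) := by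
        intro n hn
        apply mem_normalizer_of_map_conj_le
        · rintro _ ⟨_, ⟨t, ht, rfl⟩, rfl⟩
          refine ⟨(b * n * b⁻¹) * t * (b * n * b⁻¹)⁻¹,
            hNTg _ (hNn.conj_mem n hn b) t ht, ?_⟩
          simp only [MulEquiv.coe_toMonoidHom, MulAut.conj_apply]
          group
        · rintro _ ⟨_, ⟨t, ht, rfl⟩, rfl⟩
          refine ⟨(b * n⁻¹ * b⁻¹) * t * (b * n⁻¹ * b⁻¹)⁻¹,
            hNTg _ (hNn.conj_mem n⁻¹ (N.inv_mem hn) b) t ht, ?_⟩
          simp only [MulEquiv.coe_toMonoidHom, MulAut.conj_apply]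
          group
      have h1 := hmin Tb hTb1 (hHN.trans hNTb) hh
      obtain ⟨t, ht, hth⟩ := h1
      have e : b * h * b⁻¹ = t := by
        rw [← hth]
        simp only [MulEquiv.coe_toMonoidHom, MulAut.conj_apply]
        group
      rw [e]
      exact ht
    have hcore1 : Tg.normalCore ≠ ⊥ := by
      intro h
      apply hH
      rw [eq_bot_iff, ← h]
      exact hHcore
    have h2 : N ≤ Tg := (hNle _ inferInstance hcore1).trans (Subgroup.normalCore_le _)
    rw [eq_top_iff]
    intro x _
    obtain ⟨t, ht, htx⟩ := h2 x.2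
    have : t = x := Subtype.ext htx
    rw [← this]; exact ht
  refine ⟨N, hNn, hN1, hNle, hNsimple, ?_⟩
  by_cases hC1 : Subgroup.centralizer (N : Set F) = ⊥
  · exact Or.inl hC1
  right
  set C : Subgroup F := Subgroup.centralizer (N : Set F) with hC
  haveI hCn : C.Normal := Subgroup.normal_centralizer
  have hNC : N ≤ C := hNle C hCn hC1
  -- `N` is commutative of prime order
  have hNcomm : ∀ a b : ↥N, a * b = b * a := by
    intro a b
    have := (Subgroup.mem_centralizer_iff.mp (hNC a.2)) b b.2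
    exact Subtype.ext this.symm
  letI : CommGroup ↥N := { (inferInstance : Group ↥N) with mul_comm := hNcomm }
  have hNprime : (Nat.card ↥N).Prime := IsSimpleGroup.prime_card
  set p := Nat.card ↥N with hp
  haveI : Fact p.Prime := ⟨hNprime⟩
  have hHeqN : H = N := by
    apply Subgroup.eq_of_le_of_card_ge hHN
    have h1 : Nat.card ↥H ∣ p := Subgroup.card_dvd_of_le hHN
    rcases (Nat.dvd_prime hNprime).mp h1 with h2 | h2
    · exact absurd (Subgroup.card_eq_one.mp h2) hH
    · rw [h2]
  -- nontrivial subgroups of `C` contain `N`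
  have hCsub : ∀ R : Subgroup F, R ≤ C → R ≠ ⊥ → N ≤ R := by
    intro R hRC hR1
    rw [← hHeqN]
    apply hmin R hR1
    rw [hHeqN]
    refine le_trans ?_ (Subgroup.centralizer_le_normalizer _)
    exact Subgroup.le_centralizer_iff.mp hRC
  -- `C` is a `p`-group
  have hCp : IsPGroup p ↥C := by
    have hcard : Nat.card ↥C = p ^ (Nat.card ↥C).primeFactorsList.length := by
      apply Nat.eq_prime_pow_of_unique_prime_dvd Nat.card_pos.ne'
      intro q hq hqd
      haveI : Fact q.Prime := ⟨hq⟩
      obtain ⟨c, hc⟩ := exists_prime_orderOf_dvd_card' q hqd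
      have hc1 : Subgroup.zpowers (c : F) ≠ ⊥ := by
        intro h
        have : (c : F) = 1 := Subgroup.zpowers_eq_bot.mp h
        have h3 : orderOf (c : F) = 1 := by rw [this, orderOf_one]
        rw [Subgroup.orderOf_coe, hc] at h3
        exact hq.one_lt.ne' h3
      have h4 := hCsub (Subgroup.zpowers (c : F)) (Subgroup.zpowers_le.mpr c.2) hc1
      have h5 : p ∣ q := by
        have := Subgroup.card_dvd_of_le h4
        rwa [Nat.card_zpowers, Subgroup.orderOf_coe, hc] at this
      exact ((Nat.prime_dvd_prime_iff_eq hNprime hq).mp h5).symm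
    exact IsPGroup.of_card hcard
  -- unique subgroup of order `p`
  have huniq : ∀ H' K' : Subgroup ↥C, Nat.card H' = p → Nat.card K' = p → H' = K' := by
    have key : ∀ H' : Subgroup ↥C, Nat.card H' = p → H'.map C.subtype = N := by
      intro H' hH'
      have hcard : Nat.card ↥(H'.map C.subtype) = p := by
        rw [Subgroup.card_map_of_injective C.subtype_injective, hH']
      have h1 : H'.map C.subtype ≠ ⊥ := by
        intro h
        rw [h, Subgroup.card_bot] at hcard
        exact hNprime.one_lt.ne hcard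
      have h2 := hCsub _ (Subgroup.map_subtype_le _) h1
      exact (Subgroup.eq_of_le_of_card_ge h2 (by rw [hcard])).symm
    intro H' K' hH' hK'
    apply Subgroup.map_injective C.subtype_injective
    rw [key H' hH', key K' hK']
  have h16 := Cfsg.Agent.S0016.result p hCp huniq
  -- the action on `N`
  set φ : F →* MulAut ↥N := MulAut.conjNormal with hφ
  have hker : φ.ker = C := by
    ext g
    rw [MonoidHom.mem_ker, hC, Subgroup.mem_centralizer_iff]
    constructor
    · intro h n hn
      have h1 := congrArg (fun f : MulAut ↥N => ((f ⟨n, hn⟩ : ↥N) : F)) h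
      simp only [hφ, MulAut.conjNormal_apply, MulAut.one_apply] at h1
      calc n * g = (g * n * g⁻¹) * g := by rw [h1]
        _ = g * n := by group
    · intro h
      ext n
      simp only [hφ, MulAut.conjNormal_apply, MulAut.one_apply]
      rw [← h n n.2]; group
  haveI : IsCyclic ↥N := isCyclic_of_prime_card rfl
  have hcardAut : Nat.card (MulAut ↥N) = p - 1 := by
    rw [IsCyclic.card_mulAut, ← hp, Nat.totient_prime hNprime]
  have hidx : C.index ∣ p - 1 := by
    rw [← hker, Subgroup.index_ker, ← hcardAut]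
    exact Subgroup.card_subgroup_dvd_card _
  haveI : IsCyclic (MulAut ↥N) := by
    have e := IsCyclic.mulAutMulEquiv ↥N
    haveI : IsCyclic (ZMod (Nat.card ↥N))ˣ := by
      infer_instance
    exact isCyclic_of_surjective e.symm.toMonoidHom e.symm.surjective
  have hgen : ∃ g : F, C ⊔ Subgroup.zpowers g = ⊤ := by
    obtain ⟨⟨a, ⟨g, rfl⟩⟩, hg⟩ := IsCyclic.exists_generator (α := ↥φ.range)
    refine ⟨g, ?_⟩
    rw [eq_top_iff]
    intro x _
    have hx : (⟨φ x, ⟨x, rfl⟩⟩ : ↥φ.range) ∈ Subgroup.zpowers (⟨φ g, ⟨g, rfl⟩⟩ : ↥φ.range) := hg _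
    obtain ⟨k, hk⟩ := Subgroup.mem_zpowers_iff.mp hx
    have hk' : φ g ^ k = φ x := by
      have := congrArg Subtype.val hk
      simpa using this
    have h1 : x * (g ^ k)⁻¹ ∈ C := by
      rw [← hker, MonoidHom.mem_ker, map_mul, map_inv, map_zpow, hk', mul_inv_cancel]
    have e : x = (x * (g ^ k)⁻¹) * g ^ k := by group
    rw [e]
    exact Subgroup.mul_mem _ ((le_sup_left : C ≤ C ⊔ Subgroup.zpowers g) h1)
      ((le_sup_right : Subgroup.zpowers g ≤ C ⊔ Subgroup.zpowers g)
        (Subgroup.zpow_mem_zpowers g k))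
  have hCcard : ∃ k : ℕ, 1 ≤ k ∧ Nat.card ↥C = p ^ k := by
    obtain ⟨k, hk⟩ := IsPGroup.iff_card.mp hCp
    refine ⟨k, ?_, hk⟩
    rcases Nat.eq_zero_or_pos k with h0 | h0
    · exfalso
      rw [h0, pow_zero] at hk
      exact hC1 (Subgroup.card_eq_one.mp hk)
    · exact h0
  rcases h16 with hcyc | ⟨hp2, n, ⟨e⟩⟩
  · exact Or.inl ⟨hHeqN, hNprime, hcyc, hCcard, hgen, hidx⟩
  · by_cases hcyc : IsCyclic ↥C
    · exact Or.inl ⟨hHeqN, hNprime, hcyc, hCcard, hgen, hidx⟩
    right
    have hp2' : Nat.card ↥N = 2 := hp2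
    have hCtop : C = ⊤ := by
      rw [hp2] at hidx
      have : C.index = 1 := Nat.dvd_one.mp hidx
      exact Subgroup.index_eq_one.mp this
    refine ⟨hHeqN, hp2', hCtop, n, ?_, ?_⟩
    · rcases Nat.eq_zero_or_pos n with h0 | h0
      · exfalso
        apply hcyc
        rw [h0, pow_zero] at e
        haveI := QuaternionGroup.quaternionGroup_one_isCyclic
        exact isCyclic_of_surjective e.symm.toMonoidHom e.symm.surjective
      · exact h0
    · have e2 : F ≃* ↥C := by
        rw [hCtop]
        exact Subgroup.topEquiv.symm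
      exact ⟨e2.trans e⟩

end Cfsg.Agent.S3025
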