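import Mathlib
import Cfsg.Statements.S3027
import Cfsg.Agent.Lib.Helper15.SylowIn

set_option autoImplicit false
open Cfsg

namespace Cfsg.Agent.S3027

open Cfsg.Agent.Helper15
open scoped Pointwise commutatorElement

variable {G : Type*} [Group G]

theorem exists_mul_of_mem_sup_normal (H D : Subgroup G) [D.Normal] {x : G} (hx : x ∈ H ⊔ D) :
    ∃ a ∈ H, ∃ d ∈ D, x = a * d := by
  have : x ∈ ((H ⊔ D : Subgroup G) : Set G) := hx
  rw [Subgroup.mul_normal] at this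
  obtain ⟨a, ha, d, hd, rfl⟩ := this
  exact ⟨a, ha, d, hd, rfl⟩

/-- commutators modulo a normal subgroup -/
theorem commutator_le_sup (D : Subgroup G) [hD : D.Normal] {A B A' B' : Subgroup G}
    (hA : A ≤ A' ⊔ D) (hB : B ≤ B' ⊔ D) : ⁅A, B⁆ ≤ ⁅A', B'⁆ ⊔ D := by
  rw [Subgroup.commutator_le]
  intro x hx y hy
  obtain ⟨a, ha, d₁, hd₁, rfl⟩ := exists_mul_of_mem_sup_normal A' D (hA hx)
  obtain ⟨b, hb, d₂, hd₂, rfl⟩ := exists_mul_of_mem_sup_normal B' D (hB hy)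
  have hπ : ∀ d ∈ D, (QuotientGroup.mk d : G ⧸ D) = 1 := fun d hd =>
    (QuotientGroup.eq_one_iff d).mpr hd
  have h1 : ⁅a * d₁, b * d₂⁆ * ⁅a, b⁆⁻¹ ∈ D := by
    rw [← QuotientGroup.eq_one_iff]
    simp only [commutatorElement_def, QuotientGroup.mk_mul, QuotientGroup.mk_inv, hπ d₁ hd₁,
      hπ d₂ hd₂, mul_one]
    group
  have h2 : ⁅a * d₁, b * d₂⁆ = (⁅a * d₁, b * d₂⁆ * ⁅a, b⁆⁻¹) * ⁅a, b⁆ := by group
  rw [h2]
  exact Subgroup.mul_mem _ (Subgroup.mem_sup_right h1)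
    (Subgroup.mem_sup_left (Subgroup.commutator_mem_commutator ha hb))

/-- relative version: two supplements normalized by `K` inside `K` (with `K` perfect modulo `D`)
intersect in a supplement -/
theorem le_inf_sup (D : Subgroup G) [D.Normal] {K B₁ B₂ : Subgroup G}
    (hK : K ≤ ⁅K, K⁆ ⊔ D) (h₁ : B₁ ≤ K) (h₂ : B₂ ≤ K)
    (hn₁ : K ≤ Subgroup.normalizer (B₁ : Set G)) (hn₂ : K ≤ Subgroup.normalizer (B₂ : Set G))
    (hs₁ : K ≤ B₁ ⊔ D) (hs₂ : K ≤ B₂ ⊔ D) : K ≤ (B₁ ⊓ B₂) ⊔ D := by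
  have h3 : ⁅B₁, B₂⁆ ≤ B₁ ⊓ B₂ := by
    rw [Subgroup.commutator_le]
    intro a ha b hb
    rw [commutatorElement_def, Subgroup.mem_inf]
    constructor
    · have : b * a⁻¹ * b⁻¹ ∈ B₁ :=
        (Subgroup.mem_normalizer_iff.mp (hn₁ (h₂ hb)) a⁻¹).mp (B₁.inv_mem ha)
      have e : a * b * a⁻¹ * b⁻¹ = a * (b * a⁻¹ * b⁻¹) := by group
      rw [e]; exact B₁.mul_mem ha this
    · have : a * b * a⁻¹ ∈ B₂ := (Subgroup.mem_normalizer_iff.mp (hn₂ (h₁ ha)) b).mp hb
      exact B₂.mul_mem this (B₂.inv_mem hb)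
  calc K ≤ ⁅K, K⁆ ⊔ D := hK
    _ ≤ (⁅B₁, B₂⁆ ⊔ D) ⊔ D := sup_le_sup_right (commutator_le_sup D hs₁ hs₂) D
    _ ≤ ((B₁ ⊓ B₂) ⊔ D) ⊔ D := sup_le_sup_right (sup_le_sup_right h3 D) D
    _ = (B₁ ⊓ B₂) ⊔ D := by rw [sup_assoc, sup_idem]

/-- statement -/
theorem result {G : Type*} [Group G] [Finite G] (D : Subgroup G) [D.Normal] (hperf : ⁅(⊤ : Subgroup G), (⊤ : Subgroup G)⁆ ⊔ D = ⊤) :
    ∃ B : Subgroup G, B.Normal ∧ B ⊔ D = ⊤ ∧ ∀ B' : Subgroup G, B'.IsSubnormal → B' ⊔ D = ⊤ → B ≤ B' := by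
  classical
  -- perfectness modulo `D` passes to supplements
  have hperfK : ∀ K : Subgroup G, K ⊔ D = ⊤ → K ≤ ⁅K, K⁆ ⊔ D := by
    intro K hKD
    have h1 : ⁅(⊤ : Subgroup G), (⊤ : Subgroup G)⁆ ≤ ⁅K, K⁆ ⊔ D :=
      commutator_le_sup D (hKD ▸ le_rfl) (hKD ▸ le_rfl)
    have h2 : (⊤ : Subgroup G) ≤ ⁅K, K⁆ ⊔ D := by
      rw [← hperf]
      exact sup_le h1 le_sup_right
    exact le_top.trans h2
  -- a minimal normal supplement
  obtain ⟨B₀, ⟨hB₀n, hB₀D⟩, hB₀min⟩ := Set.Finite.exists_minimal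
    (s := {X : Subgroup G | X.Normal ∧ X ⊔ D = ⊤}) (Set.toFinite _)
    ⟨⊤, Subgroup.normal_top, top_sup_eq _⟩
  have hB₀least : ∀ X : Subgroup G, X.Normal → X ⊔ D = ⊤ → B₀ ≤ X := by
    intro X hXn hXD
    have h1 : (⊤ : Subgroup G) ≤ (B₀ ⊓ X) ⊔ D :=
      le_inf_sup D (hperfK ⊤ (top_sup_eq _)) le_top le_top
        (by rw [Subgroup.normalizer_eq_top_iff.mpr hB₀n])
        (by rw [Subgroup.normalizer_eq_top_iff.mpr hXn])
        (hB₀D ▸ le_rfl) (hXD ▸ le_rfl)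
    have h2 : B₀ ≤ B₀ ⊓ X :=
      hB₀min ⟨Subgroup.normal_inf_normal B₀ X, top_le_iff.mp h1⟩ inf_le_left
    exact h2.trans inf_le_right
  -- uniqueness inside `B₀`
  have huniq : ∀ X : Subgroup G, X ≤ B₀ → B₀ ≤ Subgroup.normalizer (X : Set G) → X ⊔ D = ⊤ →
      X = B₀ := by
    obtain ⟨C, ⟨hCle, hCn, hCD⟩, hCmin⟩ := Set.Finite.exists_minimal
      (s := {X : Subgroup G | X ≤ B₀ ∧ B₀ ≤ Subgroup.normalizer (X : Set G) ∧ X ⊔ D = ⊤})
      (Set.toFinite _) ⟨B₀, le_rfl, Subgroup.le_normalizer, hB₀D⟩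
    have hCleast : ∀ X : Subgroup G, X ≤ B₀ → B₀ ≤ Subgroup.normalizer (X : Set G) →
        X ⊔ D = ⊤ → C ≤ X := by
      intro X hXle hXn hXD
      have h1 : B₀ ≤ (C ⊓ X) ⊔ D :=
        le_inf_sup D (hperfK B₀ hB₀D) hCle hXle hCn hXn (hCD ▸ le_top) (hXD ▸ le_top)
      have h2 : (C ⊓ X) ⊔ D = ⊤ := by
        rw [eq_top_iff, ← hB₀D]
        exact sup_le h1 le_sup_right
      have h3 : B₀ ≤ Subgroup.normalizer ((C ⊓ X : Subgroup G) : Set G) := by
        intro b hb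
        have hc := hCn hb
        have hx := hXn hb
        rw [Subgroup.mem_normalizer_iff] at hc hx ⊢
        intro h
        rw [Subgroup.mem_inf, Subgroup.mem_inf, hc h, hx h]
      have h4 : C ≤ C ⊓ X := hCmin ⟨inf_le_left.trans hCle, h3, h2⟩ inf_le_left
      exact h4.trans inf_le_right
    -- `C` is normal in `G`
    have hconj : ∀ g : G, C ≤ C.map (MulAut.conj g).toMonoidHom := by
      intro g
      apply hCleast
      · have := map_conj_mono hCle g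
        rwa [map_conj_eq_of_mem_normalizer (H := B₀) (by
          rw [Subgroup.normalizer_eq_top_iff.mpr hB₀n]; exact Subgroup.mem_top g)] at this
      · intro b hb
        have hb' : g⁻¹ * b * g ∈ B₀ := by
          have := hB₀n.conj_mem b hb g⁻¹
          simpa using this
        have h5 := hCn hb'
        have h6 : (C.map (MulAut.conj g).toMonoidHom).map (MulAut.conj b).toMonoidHom
            = C.map (MulAut.conj g).toMonoidHom := by
          rw [map_conj_map_conj]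
          have e : b * g = g * (g⁻¹ * b * g) := by group
          rw [e, ← map_conj_map_conj, map_conj_eq_of_mem_normalizer h5]
        exact mem_normalizer_of_map_conj_eq h6
      · have h7 : (C ⊔ D).map (MulAut.conj g).toMonoidHom = ⊤ := by
          rw [hCD]
          exact map_conj_eq_of_mem_normalizer (by
            rw [Subgroup.normalizer_eq_top_iff.mpr Subgroup.normal_top]; exact Subgroup.mem_top g)
        rw [Subgroup.map_sup] at h7
        have hDn : D.Normal := inferInstance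
        rwa [map_conj_eq_of_mem_normalizer (H := D) (by
          rw [Subgroup.normalizer_eq_top_iff.mpr hDn]; exact Subgroup.mem_top g)] at h7
    have hCnormal : C.Normal := by
      refine ⟨fun n hn g => ?_⟩
      have := hconj g⁻¹ hn
      rw [mem_map_conj_iff] at this
      simpa using this
    have hCB : C = B₀ := le_antisymm hCle (hB₀least C hCnormal hCD)
    intro X hXle hXn hXD
    exact le_antisymm hXle (hCB ▸ hCleast X hXle hXn hXD)
  refine ⟨B₀, hB₀n, hB₀D, ?_⟩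
  intro B' hB'
  induction hB' with
  | top => intro _; exact le_top
  | step H K hHK hK hHn ih =>
    intro hHD
    have hKD : K ⊔ D = ⊤ := by
      rw [eq_top_iff, ← hHD]
      exact sup_le_sup_right hHK D
    have hBK : B₀ ≤ K := ih hKD
    have hKH : K ≤ Subgroup.normalizer (H : Set G) :=
      (Subgroup.normal_subgroupOf_iff_le_normalizer hHK).mp hHn
    have h1 : K ≤ (B₀ ⊓ H) ⊔ D :=
      le_inf_sup D (hperfK K hKD) hBK hHK
        (by rw [Subgroup.normalizer_eq_top_iff.mpr hB₀n]; exact le_top) hKH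
        (hB₀D ▸ le_top) (hHD ▸ le_top)
    have h2 : (B₀ ⊓ H) ⊔ D = ⊤ := by
      rw [eq_top_iff, ← hKD]
      exact sup_le h1 le_sup_right
    have h3 : B₀ ≤ Subgroup.normalizer ((B₀ ⊓ H : Subgroup G) : Set G) := by
      intro b hb
      have hc : b ∈ Subgroup.normalizer (B₀ : Set G) := Subgroup.le_normalizer hb
      have hx := hKH (hBK hb)
      rw [Subgroup.mem_normalizer_iff] at hc hx ⊢
      intro h
      rw [Subgroup.mem_inf, Subgroup.mem_inf, hc h, hx h]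
    have h4 := huniq (B₀ ⊓ H) inf_le_left h3 h2
    exact (inf_eq_left.mp h4)

end Cfsg.Agent.S3027
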