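import Mathlib
import Cfsg.Statements.S3036
import Cfsg.Agent.Lib.Helper15.ChermakDelgado

namespace Cfsg.Agent.S3036

open Cfsg.Agent.Helper15
open scoped Pointwise

/-- Let G be a finite non-abelian simple group and A a proper nontrivial subgroup of G. Then |G| > |A| · |C_G(A)|. In particular |G| > |A|² for every nontrivial abelian subgroup A of G. -/
theorem result {G : Type*} [Group G] [Finite G] [IsSimpleGroup G] (hG : ¬ IsMulCommutative G) (A : Subgroup G) (hA1 : A ≠ ⊥) (hA2 : A ≠ ⊤) : Nat.card A * Nat.card ↥(Subgroup.centralizer (A : Set G)) < Nat.card G := by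
  by_contra hcon
  rw [not_lt] at hcon
  have hmA : Nat.card G ≤ cdMeasure A := hcon
  -- measure of ⊥ and ⊤
  have hbot : cdMeasure (⊥ : Subgroup G) = Nat.card G := by
    unfold cdMeasure
    have : Subgroup.centralizer (((⊥ : Subgroup G) : Subgroup G) : Set G) = ⊤ := by
      rw [Subgroup.centralizer_eq_top_iff_subset]
      intro x hx
      rw [SetLike.mem_coe, Subgroup.mem_bot] at hx
      rw [hx]; exact (Subgroup.center G).one_mem
    rw [this, Subgroup.card_bot, one_mul, Subgroup.card_top]
  have hcenter : Subgroup.center G = ⊥ := by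
    rcases (Subgroup.Normal.eq_bot_or_eq_top (inferInstance : (Subgroup.center G).Normal)) with h | h
    · exact h
    · exfalso
      apply hG
      refine ⟨⟨fun a b => ?_⟩⟩
      have ha : a ∈ Subgroup.center G := by rw [h]; exact Subgroup.mem_top a
      exact ((Subgroup.mem_center_iff.1 ha) b).symm
  have htop : cdMeasure (⊤ : Subgroup G) = Nat.card G := by
    unfold cdMeasure
    rw [Subgroup.coe_top, Subgroup.centralizer_univ, hcenter, Subgroup.card_bot, mul_one,
      Subgroup.card_top]
  -- a proper nontrivial member of the Chermak–Delgado lattice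
  have hex : ∃ H : Subgroup G, Cfsg.IsCentralizerLarge H ∧ H ≠ ⊥ ∧ H ≠ ⊤ := by
    obtain ⟨H₀, hH₀⟩ := exists_cdMeasure_eq_max G
    by_cases h0 : H₀ ≠ ⊥ ∧ H₀ ≠ ⊤
    · exact ⟨H₀, hH₀, h0.1, h0.2⟩
    · have hM : Cfsg.maxCentralizerProduct G = Nat.card G := by
        rw [← hH₀]
        by_cases hb : H₀ = ⊥
        · rw [hb, hbot]
        · have ht : H₀ = ⊤ := by
            by_contra ht
            exact h0 ⟨hb, ht⟩
          rw [ht, htop]
      refine ⟨A, ?_, hA1, hA2⟩
      rw [isCentralizerLarge_iff]
      apply le_antisymm (cdMeasure_le_max A)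
      rw [hM]; exact hmA
  -- choose a maximal one
  have hfin : {H : Subgroup G | Cfsg.IsCentralizerLarge H ∧ H ≠ ⊥ ∧ H ≠ ⊤}.Finite := Set.toFinite _
  obtain ⟨H, hHmem, hHmax⟩ := hfin.exists_maximal hex
  obtain ⟨hHcl, hH1, hH2⟩ := hHmem
  have hnorm : H.Normal := by
    refine ⟨fun n hn g => ?_⟩
    have hH' := IsCentralizerLarge.map_conj hHcl g
    have hS := IsCentralizerLarge.sup hHcl hH'
    have hSset := IsCentralizerLarge.coe_sup hHcl hH'
    have hle : H.map (MulAut.conj g).toMonoidHom ≤ H := by
      by_cases hStop : H ⊔ H.map (MulAut.conj g).toMonoidHom = ⊤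
      · -- then g ∈ H
        have hg : g⁻¹ ∈ ((H ⊔ H.map (MulAut.conj g).toMonoidHom : Subgroup G) : Set G) := by
          rw [hStop]; exact Subgroup.mem_top _
        rw [hSset] at hg
        obtain ⟨h, hh, k, hk, hhk⟩ := Set.mem_mul.1 hg
        rw [SetLike.mem_coe, mem_map_conj_iff] at hk
        have hgH : g ∈ H := by
          have e : g = h⁻¹ * (g⁻¹ * k * g)⁻¹ := by
            have : k = h⁻¹ * g⁻¹ := by rw [← hhk]; group
            rw [this]; group
          rw [e]
          exact H.mul_mem (H.inv_mem hh) (H.inv_mem hk)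
        rw [map_conj_eq_self_of_mem hgH]
      · have hmem : (H ⊔ H.map (MulAut.conj g).toMonoidHom) ∈
            {H : Subgroup G | Cfsg.IsCentralizerLarge H ∧ H ≠ ⊥ ∧ H ≠ ⊤} := by
          refine ⟨hS, ?_, hStop⟩
          intro hb
          apply hH1
          rw [eq_bot_iff, ← hb]
          exact le_sup_left
        have := hHmax hmem le_sup_left
        exact le_sup_right.trans this
    exact hle (conj_mem_map_conj g hn)
  rcases hnorm.eq_bot_or_eq_top with h | h
  · exact hH1 h
  · exact hH2 h

end Cfsg.Agent.S3036
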