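import Mathlib
import Cfsg.Statements.S3037
import Cfsg.Agent.Lib.Helper15.ChermakDelgado

set_option autoImplicit false
open Cfsg

namespace Cfsg.Agent.S3037

open Cfsg.Agent.Helper15

variable {X : Type*} [Group X]

/-- the real-exponent measure `|H|^α |C_V(H)|` -/
noncomputable def meas (V : Subgroup X) (α : ℝ) (H : Subgroup X) : ℝ :=
  (Nat.card H : ℝ) ^ α * (Nat.card ↥(V ⊓ Subgroup.centralizer (H : Set X)) : ℝ)

theorem meas_pos [Finite X] (V : Subgroup X) (α : ℝ) (H : Subgroup X) : 0 < meas V α H :=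
  mul_pos (Real.rpow_pos_of_pos (by exact_mod_cast Nat.card_pos) _) (by exact_mod_cast Nat.card_pos)

theorem meas_mul_le [Finite X] (V : Subgroup X) {α : ℝ} (hα : 0 ≤ α) (H K : Subgroup X) :
    meas V α H * meas V α K ≤ meas V α (H ⊔ K) * meas V α (H ⊓ K) := by
  unfold meas
  have h1 : Nat.card H * Nat.card K ≤ Nat.card ↥(H ⊔ K) * Nat.card ↥(H ⊓ K) :=
    card_mul_card_le_sup_inf H K
  have h2 : Nat.card ↥(V ⊓ Subgroup.centralizer (H : Set X)) *
      Nat.card ↥(V ⊓ Subgroup.centralizer (K : Set X)) ≤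
      Nat.card ↥(V ⊓ Subgroup.centralizer ((H ⊓ K : Subgroup X) : Set X)) *
      Nat.card ↥(V ⊓ Subgroup.centralizer ((H ⊔ K : Subgroup X) : Set X)) := by
    refine (card_mul_card_le_sup_inf _ _).trans (Nat.mul_le_mul ?_ ?_)
    · apply Subgroup.card_le_of_le
      exact sup_le
        (inf_le_inf_left _ (Subgroup.centralizer_le (SetLike.coe_subset_coe.2 inf_le_left)))
        (inf_le_inf_left _ (Subgroup.centralizer_le (SetLike.coe_subset_coe.2 inf_le_right)))
    · apply Subgroup.card_le_of_le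
      rw [centralizer_sup]
      exact le_inf (inf_le_left.trans inf_le_left) (inf_le_inf inf_le_right inf_le_right)
  have h1' : ((Nat.card H : ℝ) * (Nat.card K : ℝ)) ≤
      (Nat.card ↥(H ⊔ K) : ℝ) * (Nat.card ↥(H ⊓ K) : ℝ) := by exact_mod_cast h1
  have h2' : (Nat.card ↥(V ⊓ Subgroup.centralizer (H : Set X)) : ℝ) *
      (Nat.card ↥(V ⊓ Subgroup.centralizer (K : Set X)) : ℝ) ≤
      (Nat.card ↥(V ⊓ Subgroup.centralizer ((H ⊓ K : Subgroup X) : Set X)) : ℝ) *
      (Nat.card ↥(V ⊓ Subgroup.centralizer ((H ⊔ K : Subgroup X) : Set X)) : ℝ) := by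
    exact_mod_cast h2
  have h3 : ((Nat.card H : ℝ) * (Nat.card K : ℝ)) ^ α ≤
      ((Nat.card ↥(H ⊔ K) : ℝ) * (Nat.card ↥(H ⊓ K) : ℝ)) ^ α :=
    Real.rpow_le_rpow (by positivity) h1' hα
  rw [Real.mul_rpow (by positivity) (by positivity),
    Real.mul_rpow (by positivity) (by positivity)] at h3
  calc (Nat.card H : ℝ) ^ α * (Nat.card ↥(V ⊓ Subgroup.centralizer (H : Set X)) : ℝ) *
        ((Nat.card K : ℝ) ^ α * (Nat.card ↥(V ⊓ Subgroup.centralizer (K : Set X)) : ℝ))
      = ((Nat.card H : ℝ) ^ α * (Nat.card K : ℝ) ^ α) *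
        ((Nat.card ↥(V ⊓ Subgroup.centralizer (H : Set X)) : ℝ) *
          (Nat.card ↥(V ⊓ Subgroup.centralizer (K : Set X)) : ℝ)) := by ring
    _ ≤ ((Nat.card ↥(H ⊔ K) : ℝ) ^ α * (Nat.card ↥(H ⊓ K) : ℝ) ^ α) *
        ((Nat.card ↥(V ⊓ Subgroup.centralizer ((H ⊓ K : Subgroup X) : Set X)) : ℝ) *
      (Nat.card ↥(V ⊓ Subgroup.centralizer ((H ⊔ K : Subgroup X) : Set X)) : ℝ)) :=
        mul_le_mul h3 h2' (by positivity) (by positivity)
    _ = _ := by ring

theorem map_conj_eq_of_mem_normalizer {V : Subgroup X} {g : X}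
    (hg : g ∈ Subgroup.normalizer (V : Set X)) : V.map (MulAut.conj g).toMonoidHom = V := by
  ext x
  rw [mem_map_conj_iff]
  exact ((Subgroup.mem_normalizer_iff''.mp hg) x).symm

theorem meas_map_conj (V : Subgroup X) (α : ℝ) (H : Subgroup X) {g : X}
    (hg : g ∈ Subgroup.normalizer (V : Set X)) :
    meas V α (H.map (MulAut.conj g).toMonoidHom) = meas V α H := by
  unfold meas
  have h1 : V ⊓ Subgroup.centralizer ((H.map (MulAut.conj g).toMonoidHom : Subgroup X) : Set X)
      = (V ⊓ Subgroup.centralizer (H : Set X)).map (MulAut.conj g).toMonoidHom := by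
    rw [Subgroup.map_inf _ _ _ (MulAut.conj g).injective, centralizer_map_conj,
      map_conj_eq_of_mem_normalizer hg]
  rw [h1, card_map_conj, card_map_conj]

theorem meas_bot [Finite X] (V : Subgroup X) (α : ℝ) : meas V α ⊥ = (Nat.card V : ℝ) := by
  unfold meas
  have : V ⊓ Subgroup.centralizer ((⊥ : Subgroup X) : Set X) = V := by
    apply inf_eq_left.mpr
    intro v _
    rw [Subgroup.mem_centralizer_iff]
    intro h hh
    have : h = 1 := hh
    rw [this, one_mul, mul_one]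
  rw [this, Subgroup.card_bot, Nat.cast_one, Real.one_rpow, one_mul]

/-- conjugation invariance of `C_V(N)` -/
theorem map_conj_inf_centralizer_le {V N : Subgroup X} {g : X}
    (hgV : g ∈ Subgroup.normalizer (V : Set X)) (hgN : g ∈ Subgroup.normalizer (N : Set X)) :
    (V ⊓ Subgroup.centralizer (N : Set X)).map (MulAut.conj g).toMonoidHom
      ≤ V ⊓ Subgroup.centralizer (N : Set X) := by
  rw [Subgroup.map_inf _ _ _ (MulAut.conj g).injective, ← centralizer_map_conj,
    map_conj_eq_of_mem_normalizer hgV, map_conj_eq_of_mem_normalizer hgN]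

/-- Let V and G be subgroups of a finite group with V an elementary abelian p-group (p prime) on which G acts faithfully and irreducibly by conjugation: G normalizes V, G ∩ C(V) = 1, and the only subgroups of V normalized by G are 1 and V. If for some nontrivial subgroup A of G and some real α > 0 one has |V| ≤ |A|^α · |C_V(A)|, then |V| ≤ |G|^α. -/
theorem result {X : Type*} [Group X] [Finite X] {p : ℕ} [Fact p.Prime] (V G : Subgroup X) (hV : Cfsg.IsElementaryAbelian p V)
    (hGV : G ≤ Subgroup.normalizer (V : Set X)) (hfaith : G ⊓ Subgroup.centralizer (V : Set X) = ⊥)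
    (hirr : ∀ W : Subgroup X, W ≤ V → G ≤ Subgroup.normalizer (W : Set X) → W = ⊥ ∨ W = V)
    (A : Subgroup X) (hA : A ≤ G) (hA1 : A ≠ ⊥) (α : ℝ) (hα : 0 < α)
    (hbig : (Nat.card V : ℝ) ≤ (Nat.card A : ℝ) ^ α * (Nat.card ↥(V ⊓ Subgroup.centralizer (A : Set X)) : ℝ)) :
    (Nat.card V : ℝ) ≤ (Nat.card G : ℝ) ^ α := by
  classical
  -- maximal measure
  obtain ⟨M0, hM0G, hM0⟩ := Set.exists_max_image {H : Subgroup X | H ≤ G} (meas V α)
    (Set.toFinite _) ⟨⊥, show (⊥ : Subgroup X) ≤ G from bot_le⟩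
  have hM0' : ∀ H : Subgroup X, H ≤ G → meas V α H ≤ meas V α M0 := fun H hH => hM0 H hH
  -- a member of the lattice of maximal order
  obtain ⟨N, ⟨hNG, hNm⟩, hNmax⟩ := Set.exists_max_image
    {H : Subgroup X | H ≤ G ∧ meas V α H = meas V α M0} (fun H => Nat.card H)
    (Set.toFinite _) ⟨M0, show M0 ≤ G ∧ meas V α M0 = meas V α M0 from ⟨hM0G, rfl⟩⟩
  have hsup : ∀ H K : Subgroup X, H ≤ G → K ≤ G → meas V α H = meas V α M0 →
      meas V α K = meas V α M0 → meas V α (H ⊔ K) = meas V α M0 := by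
    intro H K hH hK hHm hKm
    apply le_antisymm (hM0' _ (sup_le hH hK))
    have h1 := meas_mul_le V hα.le H K
    rw [hHm, hKm] at h1
    have h2 : meas V α (H ⊓ K) ≤ meas V α M0 := hM0' _ (inf_le_left.trans hH)
    have h3 : meas V α (H ⊔ K) * meas V α (H ⊓ K) ≤ meas V α (H ⊔ K) * meas V α M0 :=
      mul_le_mul_of_nonneg_left h2 (meas_pos V α _).le
    have h4 := h1.trans h3
    exact le_of_mul_le_mul_right h4 (meas_pos V α M0)
  have htop : ∀ H : Subgroup X, H ≤ G → meas V α H = meas V α M0 → H ≤ N := by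
    intro H hH hHm
    have h1 := hNmax (N ⊔ H) (show N ⊔ H ≤ G ∧ meas V α (N ⊔ H) = meas V α M0 from
      ⟨sup_le hNG hH, hsup N H hNG hH hNm hHm⟩)
    have h2 : N = N ⊔ H := Subgroup.eq_of_le_of_card_ge le_sup_left h1
    rw [h2]; exact le_sup_right
  -- N is normalized by G
  have hconj : ∀ g ∈ G, N.map (MulAut.conj g).toMonoidHom ≤ N := by
    intro g hg
    apply htop _ (map_conj_le_of_mem hNG hg)
    rw [meas_map_conj V α N (hGV hg), hNm]
  have hGN : G ≤ Subgroup.normalizer (N : Set X) := fun g hg =>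
    mem_normalizer_of_map_conj_le (hconj g hg) (hconj g⁻¹ (G.inv_mem hg))
  -- C_V(N) is G-invariant
  have hGW : G ≤ Subgroup.normalizer ((V ⊓ Subgroup.centralizer (N : Set X) : Subgroup X) : Set X) :=
    fun g hg => mem_normalizer_of_map_conj_le
      (map_conj_inf_centralizer_le (hGV hg) (hGN hg))
      (map_conj_inf_centralizer_le (hGV (G.inv_mem hg)) (hGN (G.inv_mem hg)))
  have hAm : meas V α A ≤ meas V α M0 := hM0' A hA
  rcases hirr _ inf_le_left hGW with hW | hW
  · -- C_V(N) = 1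
    have h1 : meas V α N = (Nat.card N : ℝ) ^ α := by
      unfold meas
      rw [hW, Subgroup.card_bot, Nat.cast_one, mul_one]
    have h2 : (Nat.card N : ℝ) ^ α ≤ (Nat.card G : ℝ) ^ α :=
      Real.rpow_le_rpow (by positivity) (by exact_mod_cast Subgroup.card_le_of_le hNG) hα.le
    calc (Nat.card V : ℝ) ≤ meas V α A := hbig
      _ ≤ meas V α M0 := hAm
      _ = meas V α N := hNm.symm
      _ = (Nat.card N : ℝ) ^ α := h1
      _ ≤ _ := h2
  · -- C_V(N) = V, so N = 1
    exfalso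
    have h1 : V ≤ Subgroup.centralizer (N : Set X) := inf_eq_left.mp hW
    have h2 : N ≤ Subgroup.centralizer (V : Set X) := Subgroup.le_centralizer_iff.mp h1
    have h3 : N = ⊥ := by
      rw [eq_bot_iff, ← hfaith]
      exact le_inf hNG h2
    have h4 : meas V α M0 = (Nat.card V : ℝ) := by
      rw [← hNm, h3, meas_bot]
    have h5 : meas V α A = meas V α M0 := le_antisymm hAm (h4 ▸ hbig)
    have h6 := htop A hA h5
    rw [h3] at h6
    exact hA1 (eq_bot_iff.mpr h6)

end Cfsg.Agent.S3037
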