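import Mathlib
import Cfsg.Statements.S3044
import Cfsg.Agent.Lib.Helper15.Iso10

set_option autoImplicit false
open Cfsg

namespace Cfsg.Agent.S3044

open Cfsg.Agent.Helper15.Iso Cfsg.Agent.Helper15.SubSyl Cfsg.Agent.Helper14 in
/-- Let G be a finite group, p a prime, S a Sylow p-subgroup of G and P a p-minimal subgroup of G containing S (S is not normal in P and lies in exactly one maximal subgroup of P). Let L be the subgroup generated by N_G(S) and all p-minimal subgroups of G containing S other than P, and suppose P is isolated: O_p(L) is not contained in O_p(P). Put Y for the normal closure of O^p(P) in G. Then G = YL; P is again isolated in the subgroup YS (the subgroup L₀ generated by N_{YS}(S) and the p-minimal subgroups of YS containing S other than P has O_p(L₀) not contained in O_p(P)); and either Y = O^p(P), or p divides |Y/O_p(Y)|, Y/O_p(Y) is generated by its components (a central product of quasisimple groups), and S permutes these components transitively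 by conjugation. -/
theorem result {G : Type*} [Group G] [Finite G] {p : ℕ} [Fact p.Prime] (S : Sylow p G) (P : Subgroup G) (hSP : (S : Subgroup G) ≤ P) (hPmin : Cfsg.IsPMinimal p ↥P)
    (L Y : Subgroup G)
    (hL : L = Subgroup.normalizer ((S : Subgroup G) : Set G) ⊔ ⨆ P' : {P' : Subgroup G // (S : Subgroup G) ≤ P' ∧ Cfsg.IsPMinimal p ↥P' ∧ P' ≠ P}, (P' : Subgroup G))
    (hiso : ¬ (Cfsg.pCore p ↥L).map L.subtype ≤ (Cfsg.pCore p ↥P).map P.subtype)
    (hY : Y = Subgroup.normalClosure (((Cfsg.pResidual p ↥P).map P.subtype : Subgroup G) : Set G)) :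
    Y ⊔ L = ⊤ ∧
    ¬ (Cfsg.pCore p ↥((Subgroup.normalizer ((S : Subgroup G) : Set G) ⊓ (Y ⊔ (S : Subgroup G))) ⊔
          ⨆ P' : {P' : Subgroup G // (S : Subgroup G) ≤ P' ∧ P' ≤ Y ⊔ (S : Subgroup G) ∧ Cfsg.IsPMinimal p ↥P' ∧ P' ≠ P}, (P' : Subgroup G))).map
        (Subgroup.subtype _) ≤ (Cfsg.pCore p ↥P).map P.subtype ∧
    ((Cfsg.pResidual p ↥P).map P.subtype = Y ∨
     ∃ _ : (Cfsg.pCore p ↥Y).Normal,
       p ∣ Nat.card (↥Y ⧸ Cfsg.pCore p ↥Y) ∧ Cfsg.layer (↥Y ⧸ Cfsg.pCore p ↥Y) = ⊤ ∧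
       ∀ K₁ K₂ : Subgroup (↥Y ⧸ Cfsg.pCore p ↥Y), Cfsg.IsComponent K₁ → Cfsg.IsComponent K₂ →
         ∃ s ∈ (S : Subgroup G), ((K₂.comap (QuotientGroup.mk' (Cfsg.pCore p ↥Y))).map Y.subtype) = (((K₁.comap (QuotientGroup.mk' (Cfsg.pCore p ↥Y))).map Y.subtype)).map (MulAut.conj s).toMonoidHom) := by
  have h := isoSetting_of S P hSP hPmin L hL hiso
  have hY' : Y = yOf p P := hY
  subst hY'
  refine ⟨h.sup_eq_top', ?_, ?_⟩
  · -- isolation inside `Y S`
    set L₀ : Subgroup G := (Subgroup.normalizer ((S : Subgroup G) : Set G) ⊓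
      (yOf p P ⊔ (S : Subgroup G))) ⊔
      ⨆ P' : {P' : Subgroup G // (S : Subgroup G) ≤ P' ∧ P' ≤ yOf p P ⊔ (S : Subgroup G) ∧
        Cfsg.IsPMinimal p ↥P' ∧ P' ≠ P}, (P' : Subgroup G) with hL₀
    show ¬ pCoreOf p L₀ ≤ pCoreOf p P
    have hL₀L : L₀ ≤ L := by
      rw [hL₀]
      refine sup_le (inf_le_left.trans h.hNL) ?_
      apply iSup_le
      rintro ⟨P', h1, h2, h3, h4⟩
      show P' ≤ L
      exact h.hPL P' h1 h3 h4
    have hQL₀ : pCoreOf p L ≤ L₀ := by
      refine h.hQS.trans ?_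
      rw [hL₀]
      exact (le_inf Subgroup.le_normalizer le_sup_right).trans le_sup_left
    have hQ : pCoreOf p L ≤ pCoreOf p L₀ :=
      le_pCoreOf hQL₀ (hL₀L.trans h.hLQ) (pCoreOf_isPGroup p L)
    intro hcon
    exact h.hiso (hQ.trans hcon)
  · by_cases hp' : p ∣ (oOf p P).relIndex (yOf p P)
    swap
    · left; exact h.pprime_case hp'
    by_cases hc : ⁅yOf p P, yOf p P⁆ ≤ dOf p P L
    · left; exact (h.abelian_case hc).1
    right
    have hperf : ⁅yOf p P, yOf p P⁆ = yOf p P := by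
      rcases h.normal_dich' ⁅yOf p P, yOf p P⁆ (Subgroup.commutator_le_left _ _) with h1 | h1
      · exact h1
      · exact absurd h1 hc
    have hl := h.layer_eq_top hperf
    refine ⟨inferInstance, ?_, hl, ?_⟩
    · have e : (oOf p P).subgroupOf (yOf p P) = Cfsg.pCore p ↥(yOf p P) := by
        show ((Cfsg.pCore p ↥(yOf p P)).map (yOf p P).subtype).comap (yOf p P).subtype = _
        exact Subgroup.comap_map_eq_self_of_injective (yOf p P).subtype_injective _
      have e2 : (oOf p P).relIndex (yOf p P) = Nat.card (↥(yOf p P) ⧸ Cfsg.pCore p ↥(yOf p P)) := by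
        show ((oOf p P).subgroupOf (yOf p P)).index = _
        rw [e]; rfl
      rw [← e2]; exact hp'
    · intro K₁ K₂ hK₁ hK₂
      exact h.transitive hperf hl K₁ K₂ hK₁ hK₂

end Cfsg.Agent.S3044
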