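import Mathlib
import Cfsg.Statements.S3049
import Cfsg.Agent.Lib.Helper15.IsoRank5
import Cfsg.Agent.Lib.Helper7.FStar2

set_option autoImplicit false
open Cfsg

namespace Cfsg.Agent.S3049

open Cfsg.Agent.Helper15.IsoRank in
/-- Let G be a finite group and p an odd prime with O_{p'}(G) = 1. Suppose that G has p-rank at most 2 (no elementary abelian subgroup of order p³) and that some element x of order p is isolated in G (no G-conjugate of x other than x commutes with x) and not central. Then the generalized Fitting subgroup F*(G) is a non-abelian simple group. Since O_{p'}(G) = 1, such an x is not central modulo O_{p'}(G): the hypotheses describe a counterexample to the Z*_p statement in p-rank at most 2. -/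
theorem result {G : Type*} [Group G] [Finite G] {p : ℕ} [Fact p.Prime] (hp : p ≠ 2) (hcore : Cfsg.pPrimeCore p G = ⊥)
    (hrank : Cfsg.PRankLE p 2 G) (x : G) (hx : orderOf x = p) (hiso : Cfsg.IsIsolated x) (hnc : x ∉ Subgroup.center G) :
    IsSimpleGroup ↥(Cfsg.generalizedFittingSubgroup G) ∧ ¬ IsMulCommutative ↥(Cfsg.generalizedFittingSubgroup G) := by
  have h : Hyp p G x := ⟨hp, hcore, hrank, hx, hiso, hnc⟩
  have hex : ∃ K : Subgroup G, Cfsg.IsComponent K := by
    by_contra hno
    have hno' : ∀ L : Subgroup G, ¬ Cfsg.IsComponent L := fun L hL => hno ⟨L, hL⟩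
    have hlayer : Cfsg.layer G = ⊥ := Cfsg.Agent.Helper7.layer_eq_bot_iff.2 hno'
    have hF : Cfsg.generalizedFittingSubgroup G = ⊥ := by
      unfold Cfsg.generalizedFittingSubgroup
      rw [hlayer, h.fitting_eq_bot, sup_bot_eq]
    have hle := Cfsg.Agent.Helper7.centralizer_generalizedFittingSubgroup_le (G := G)
    rw [hF] at hle
    have hx1 : x ∈ (⊥ : Subgroup G) := by
      apply hle
      rw [Subgroup.mem_centralizer_iff]
      intro a ha
      have : a = 1 := Subgroup.mem_bot.1 ha
      rw [this, one_mul, mul_one]
    rw [Subgroup.mem_bot] at hx1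
    rw [hx1, orderOf_one] at hx
    exact (Fact.out : p.Prime).one_lt.ne hx
  obtain ⟨K, hK⟩ := hex
  have hlayer : Cfsg.layer G = K := by
    unfold Cfsg.layer
    apply le_antisymm
    · apply sSup_le
      intro L hL
      rw [h.component_unique hL hK]
    · exact le_sSup hK
  have hF : Cfsg.generalizedFittingSubgroup G = K := by
    unfold Cfsg.generalizedFittingSubgroup
    rw [hlayer, h.fitting_eq_bot, sup_bot_eq]
  rw [hF]
  exact ⟨h.isSimpleGroup_component hK, Cfsg.Agent.Helper7.quasisimple_not_isMulCommutative hK.2⟩

end Cfsg.Agent.S3049
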