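-- Statement S3050 (row 3050): Higman's theorem on 2-groups with `SL₂(2ⁿ)` on top and a fixed-point-free
-- element of order 3.  Design/assembly: helper23 (`plans/S3050_plan.md`); pieces `SLH-*` by the team.
import Cfsg.Statements.S3050
import Cfsg.Agent.Lib.Helper23.SlhDefs
import Cfsg.Agent.Lib.Helper12.NatModH
import Cfsg.Agent.Lib.Helper19.SLHGSYS
import Cfsg.Agent.Lib.Helper23.SlhInduction
import Cfsg.Agent.Lib.Helper5.SlhGNF
import Cfsg.Agent.Lib.Helper23.SlhDECOMP

set_option autoImplicit false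
set_option linter.unusedSectionVars false
set_option linter.unusedVariables false
set_option linter.style.haveILetI false
open Cfsg

namespace Cfsg.Agent.S3050

open Cfsg.Agent.Helper23.Slh in
/-- Let G be a finite group with a normal 2-subgroup Q such that G/Q is isomorphic to SL(2, 2ⁿ) with n ≥ 2, and suppose some element of G of order 3 fixes no nonidentity element of Q under conjugation. Then Q is elementary abelian and is the direct product of normal subgroups of G on each of which G acts as SL(2, 2ⁿ) acts on its natural two-dimensional module (a Galois twist of the natural action allowed). -/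
theorem result {G : Type*} [Group G] [Finite G]
    (Q : Subgroup G) [Q.Normal] (hQ : IsPGroup 2 ↥Q) (n : ℕ) (hn : 2 ≤ n)
    (K : Type*) [Field K] [Fintype K] (hK : Fintype.card K = 2 ^ n)
    (e : G ⧸ Q ≃* Matrix.SpecialLinearGroup (Fin 2) K)
    (x : G) (hx : orderOf x = 3) (hfpf : ∀ q ∈ Q, x * q * x⁻¹ = q → q = 1) :
    Cfsg.IsElementaryAbelian 2 Q ∧
      ∃ (k : ℕ) (V : Fin k → Subgroup G), (∀ i, V i ≤ Q ∧ (V i).Normal ∧
        Cfsg.ActsAsSL2OnSection K ⊤ ⊤ (V i) ⊥) ∧ iSupIndep V ∧ ⨆ i, V i = Q := by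
  haveI : Fact (Nat.Prime 2) := ⟨Nat.prime_two⟩
  haveI : CharP K 2 := Cfsg.Agent.Helper12.NatMod.charP_of_card_eq_pow 2 hK
  have hF : ∃ s : K, s ≠ 0 ∧ s ≠ 1 := by
    by_contra hcon
    push Not at hcon
    have h4 : 4 ≤ Fintype.card K := by
      rw [hK]
      calc 4 = 2 ^ 2 := by norm_num
        _ ≤ 2 ^ n := Nat.pow_le_pow_right (by norm_num) hn
    have h2 : Fintype.card K ≤ 2 := by
      classical
      have hsub : (Finset.univ : Finset K) ⊆ {0, 1} := by
        intro s _
        by_cases h0 : s = 0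
        · simp [h0]
        · simp [hcon s h0]
      calc Fintype.card K = (Finset.univ : Finset K).card := rfl
        _ ≤ ({0, 1} : Finset K).card := Finset.card_le_card hsub
        _ ≤ 2 := Finset.card_le_two
    omega
  obtain ⟨S, A, hSπ, hAφ⟩ := exists_sys Q e x hx hfpf
  have hel := elementary_aux (S := S) hF (Nat.card ↥Q) ↥Q rfl hQ A
  have hNF := nf_of_elementary A hel.1 hel.2
  refine ⟨⟨⟨⟨fun a b => hel.1 a b⟩⟩, fun a ha => ?_⟩, ?_⟩
  · have := hel.2 ⟨a, ha⟩
    have h2 := congrArg (fun z : ↥Q => (z : G)) this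
    simp only [Subgroup.coe_mul, Subgroup.coe_one] at h2
    rw [pow_two]; exact h2
  · obtain ⟨k, ψ, hψ⟩ := hNF
    refine ⟨k, decomp Q S.π S.surj k ψ ?_⟩
    intro g y y' hy' i
    have hyy : y' = A.φ g y := Subtype.ext (by rw [hy', hAφ])
    rw [hyy]
    exact hψ g y i

end Cfsg.Agent.S3050
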