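import Mathlib
import Cfsg.Statements.S3053
import Cfsg.Agent.Lib.Helper15.Extra3b

set_option autoImplicit false
open Cfsg

namespace Cfsg.Agent.S3053

open Cfsg.Agent.Helper15 Cfsg.Agent.Helper15.ExtraMod

/-- Let p be an odd prime and G a finite group with a Sylow p-subgroup P that is extraspecial of order p³ and exponent p². Then the centre of P is strongly closed in P with respect to G: a G-conjugate of an element of Z(P) that lies in P already lies in Z(P). In particular a nontrivial central element of P is conjugate in G to no noncentral element of P. -/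
theorem result {G : Type*} [Group G] [Finite G]
    {p : ℕ} [Fact p.Prime] (hp : p ≠ 2) (P : Sylow p G) (hE : Cfsg.IsExtraspecial p ↥P)
    (hcard : Nat.card P = p ^ 3) (hexp : Monoid.exponent ↥P = p ^ 2) :
    Cfsg.IsStronglyClosed ((Subgroup.center ↥P).map (P : Subgroup G).subtype) (P : Subgroup G) := by
  have hpp : p.Prime := Fact.out
  have hS := sympl_of_isExtraspecial' (P : Subgroup G) hE
  have hexp' : ∃ u ∈ (P : Subgroup G), u ^ p ≠ 1 := by
    by_contra hcon
    push Not at hcon
    have h1 : Monoid.exponent ↥P ∣ p := by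
      apply Monoid.exponent_dvd_of_forall_pow_eq_one
      intro g
      exact Subtype.ext (hcon g g.2)
    rw [hexp] at h1
    have h2 := Nat.le_of_dvd hpp.pos h1
    have h3 : p ^ 1 < p ^ 2 := Nat.pow_lt_pow_right hpp.one_lt (by norm_num)
    rw [pow_one] at h3
    omega
  refine ⟨hS.le, ?_⟩
  intro z hzZ g hgP
  by_contra hyZ
  have hyE : g * z * g⁻¹ ∈ hS.omega hp := by
    refine ⟨hgP, ?_⟩
    rw [conj_pow, hS.pow_p_eq_one hzZ, mul_one, mul_inv_cancel]
  obtain ⟨g', hg'1, hg'2⟩ := exists_extremal_conj_central P (z := z) (g := g)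
    (fun h hh => hS.central h hh z hzZ)
  rw [hS.inf_centralizer_eq_omega hp hcard hexp' hyE hyZ] at hg'2
  have hg'N := hS.mem_normalizer_omega_of_map_le hp hg'2
  obtain ⟨s, hsN, hs⟩ := hS.exists_inverting hp hcard hexp' hyE hyZ hzZ hg'N hg'1
  exact Sympl.no_inverting P hS hp hcard hexp' hsN hs

end Cfsg.Agent.S3053
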