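import Mathlib
import Cfsg.Statements.S3055
import Cfsg.Agent.Lib.Helper11.ES3G

set_option autoImplicit false
open Cfsg

namespace Cfsg.Agent.S3055

open Cfsg.Agent.Helper11.ES3
open scoped commutatorElement

/-- Let p be an odd prime and G a finite group with a Sylow p-subgroup P that is extraspecial of order p³ and exponent p. If all nonidentity elements of P are conjugate in G, then p ≤ 7. -/
theorem result {G : Type*} [Group G] [Finite G]
    {p : ℕ} [Fact p.Prime] (hp : p ≠ 2) (P : Sylow p G) (hE : Cfsg.IsExtraspecial p ↥P)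
    (hcard : Nat.card P = p ^ 3) (hexp : Monoid.exponent ↥P = p)
    (hconj : ∀ x y : ↥P, x ≠ 1 → y ≠ 1 → ∃ g : G, g * (x : G) * g⁻¹ = (y : G)) :
    p ≤ 7 := by
  classical
  have hpr : p.Prime := Fact.out
  set Z : Subgroup G := (Subgroup.center ↥(P : Subgroup G)).map (P : Subgroup G).subtype with hZ
  have hcardZ : Nat.card Z = p := by
    rw [hZ, Subgroup.card_map_of_injective (Subgroup.subtype_injective _)]
    exact hE.2
  have hex : ∃ z ∈ Z, z ≠ 1 := by
    by_contra h
    push Not at h
    have hbot : Z = ⊥ := by
      rw [eq_bot_iff]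
      intro g hg
      rw [Subgroup.mem_bot]
      exact h g hg
    rw [hbot, Subgroup.card_bot] at hcardZ
    exact hpr.one_lt.ne hcardZ
  obtain ⟨z, hzZ, hz1⟩ := hex
  have hcomm : commutator ↥P = Subgroup.center ↥P := hE.1.2.2
  have E : ESz p (P : Subgroup G) Z z :=
    { ZleP := Subgroup.map_subtype_le _
      central := by
        intro g hg ζ hζ
        obtain ⟨ζ', hζ', rfl⟩ := Subgroup.mem_map.1 hζ
        have := Subgroup.mem_center_iff.1 hζ' ⟨g, hg⟩
        exact congrArg Subtype.val this
      comm := by
        intro g hg h hh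
        have h1 : ⁅(⟨g, hg⟩ : ↥P), (⟨h, hh⟩ : ↥P)⁆ ∈ commutator ↥P := by
          rw [commutator_def]
          exact Subgroup.commutator_mem_commutator (Subgroup.mem_top _) (Subgroup.mem_top _)
        rw [hcomm] at h1
        refine Subgroup.mem_map.2 ⟨_, h1, ?_⟩
        rw [commutatorElement_def]
        rfl
      cardP := hcard
      cardZ := hcardZ
      exp := by
        intro g hg
        have := Monoid.pow_exponent_eq_one (⟨g, hg⟩ : ↥P)
        rw [hexp] at this
        have := congrArg Subtype.val this
        simpa using this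
      center := by
        intro g hg hall
        refine Subgroup.mem_map.2 ⟨⟨g, hg⟩, ?_, rfl⟩
        rw [Subgroup.mem_center_iff]
        intro a
        exact Subtype.ext (hall a a.2).symm
      hz := hzZ
      hz1 := hz1 }
  apply prime_le_seven P E
  intro x hx y hy hx1 hy1
  exact hconj ⟨x, hx⟩ ⟨y, hy⟩ (fun h => hx1 (congrArg Subtype.val h))
    (fun h => hy1 (congrArg Subtype.val h))

end Cfsg.Agent.S3055
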