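import Mathlib
import Cfsg.Statements.S3057
import Cfsg.Agent.Lib.Helper27.SylowComp
import Cfsg.Agent.Lib.Helper27.Basic
import Cfsg.Agent.Lib.Helper23.PSolvable
import Cfsg.Agent.Lib.Helper9.PPrimeCoreSub
import Cfsg.Agent.Lib.Helper6.QuatFacts
import Cfsg.Agent.S0016
import Cfsg.Agent.S3056

set_option autoImplicit false

namespace Cfsg.Agent.S3057

open Cfsg.Agent.Helper15 Cfsg.Agent.Helper27

/-- In a cyclic group all elements of order `p` lie in one subgroup. -/
theorem uniq_of_cyclic {P : Type*} [Group P] [Finite P] [IsCyclic P] (p : ℕ) [hp : Fact p.Prime]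
    (x y : P) (hx : orderOf x = p) (hy : orderOf y = p) : y ∈ Subgroup.zpowers x := by
  classical
  have := Fintype.ofFinite P
  have hle := IsCyclic.card_pow_eq_one_le (α := P) (n := p) hp.out.pos
  set F := Finset.univ.filter (fun a : P => a ^ p = 1) with hF
  set Zx := Finset.univ.filter (fun a : P => a ∈ Subgroup.zpowers x) with hZx
  have hZxF : Zx ⊆ F := by
    intro a ha
    rw [hZx, Finset.mem_filter] at ha
    rw [hF, Finset.mem_filter]
    refine ⟨Finset.mem_univ _, ?_⟩
    obtain ⟨k, rfl⟩ := Subgroup.mem_zpowers_iff.mp ha.2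
    rw [← zpow_natCast, ← zpow_mul, mul_comm, zpow_mul, zpow_natCast, ← hx, pow_orderOf_eq_one,
      one_zpow]
  have hZxcard : Zx.card = p := by
    have h1 : Zx.card = Fintype.card (Subgroup.zpowers x) := by
      rw [Fintype.card_subtype]
    rw [h1, ← Nat.card_eq_fintype_card, Nat.card_zpowers, hx]
  have heq : Zx = F := Finset.eq_of_subset_of_card_le hZxF (hle.trans hZxcard.ge)
  have hyF : y ∈ F := by
    rw [hF, Finset.mem_filter]
    exact ⟨Finset.mem_univ _, by rw [← hy]; exact pow_orderOf_eq_one y⟩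
  rw [← heq, hZx, Finset.mem_filter] at hyF
  exact hyF.2

/-- In a generalized quaternion group all involutions coincide. -/
theorem uniq_of_quaternion {P : Type*} [Group P] {n : ℕ} (φ : P ≃* QuaternionGroup (2 ^ n))
    (x y : P) (hx : orderOf x = 2) (hy : orderOf y = 2) : y ∈ Subgroup.zpowers x := by
  have key : ∀ t : P, orderOf t = 2 →
      φ t = QuaternionGroup.a ((2 ^ n : ℕ) : ZMod (2 * 2 ^ n)) := by
    intro t ht
    have h1 : t * t = 1 := by
      have := pow_orderOf_eq_one t
      rwa [ht, pow_two] at this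
    have h2 : φ t * φ t = 1 := by rw [← map_mul, h1, map_one]
    rcases Helper6.Quat.sq_eq_one (φ t) h2 with h | h
    · exfalso
      have : t = 1 := by
        apply φ.injective
        rw [h, map_one]
      rw [this, orderOf_one] at ht
      norm_num at ht
    · exact h
  have : x = y := φ.injective (by rw [key x hx, key y hy])
  rw [← this]
  exact Subgroup.mem_zpowers x

theorem result {G : Type*} [Group G] [Finite G]
    (p : ℕ) [Fact p.Prime] (hdiv : p ∣ Nat.card G) (hsol : Cfsg.IsPSolvable p G) (P : Sylow p G) :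
    ¬ Cfsg.IsSylowChainConnected p G ↔
      Cfsg.pCore p G = ⊥ ∧ (IsCyclic ↥P ∨ (p = 2 ∧ ∃ n : ℕ, Nonempty (↥P ≃* QuaternionGroup (2 ^ n)))) := by
  classical
  have hp : p.Prime := Fact.out
  constructor
  · intro hdisc
    have hdisc' := hdisc
    rw [isSylowChainConnected_iff] at hdisc
    push Not at hdisc
    obtain ⟨S, T, hST⟩ := hdisc
    have hOp : Cfsg.pCore p G = ⊥ := by
      by_contra hne
      apply hST
      by_cases heq : S = T
      · rw [heq]
      · apply Relation.ReflTransGen.single
        refine ⟨heq, ?_⟩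
        intro hbot
        apply hne
        rw [eq_bot_iff, ← hbot]
        exact le_inf (Helper23.PSolv.pCore_le_sylow S) (Helper23.PSolv.pCore_le_sylow T)
    refine ⟨hOp, ?_⟩
    -- the component stabilizer of `P` is proper
    have hHne : componentStabilizer p P ≠ ⊤ := by
      intro htop
      apply hST
      obtain ⟨g₁, hg₁⟩ := MulAction.exists_smul_eq G P S
      obtain ⟨g₂, hg₂⟩ := MulAction.exists_smul_eq G P T
      have h1 : g₁ ∈ componentStabilizer p P := by rw [htop]; exact Subgroup.mem_top _
      have h2 : g₂ ∈ componentStabilizer p P := by rw [htop]; exact Subgroup.mem_top _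
      rw [mem_componentStabilizer, hg₁] at h1
      rw [mem_componentStabilizer, hg₂] at h2
      exact (reflTransGen_sylowAdj_symm h1).trans h2
    apply Cfsg.Agent.S0016.result p P.2
    by_contra huniq
    push Not at huniq
    obtain ⟨H₁, K₁, hH₁, hK₁, hHK⟩ := huniq
    apply hHne
    -- a central element of order p
    haveI : Nontrivial ↥(P : Subgroup G) := by
      have : Nontrivial H₁ := by
        rw [← Finite.one_lt_card_iff_nontrivial, hH₁]; exact hp.one_lt
      obtain ⟨a, b, hab⟩ := this
      exact ⟨⟨a, b, fun h => hab (Subtype.ext h)⟩⟩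
    have hcn : Nontrivial (Subgroup.center ↥(P : Subgroup G)) := P.2.center_nontrivial
    have hcp : IsPGroup p (Subgroup.center ↥(P : Subgroup G)) := P.2.to_subgroup _
    obtain ⟨k, hk0, hk⟩ := hcp.nontrivial_iff_card.mp hcn
    have hdvd : p ∣ Nat.card (Subgroup.center ↥(P : Subgroup G)) :=
      hk.symm ▸ dvd_pow_self _ (ne_of_gt hk0)
    obtain ⟨z, hz⟩ := exists_prime_orderOf_dvd_card' p hdvd
    have hzo : orderOf (z : ↥(P : Subgroup G)) = p := by rw [Subgroup.orderOf_coe, hz]
    -- a subgroup of order p different from ⟨z⟩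
    obtain ⟨X, hX, hXz⟩ : ∃ X : Subgroup ↥(P : Subgroup G), Nat.card X = p ∧
        X ≠ Subgroup.zpowers (z : ↥(P : Subgroup G)) := by
      by_cases h : H₁ = Subgroup.zpowers (z : ↥(P : Subgroup G))
      · exact ⟨K₁, hK₁, fun h' => hHK (h.trans h'.symm)⟩
      · exact ⟨H₁, hH₁, h⟩
    have hXnt : Nontrivial X := by
      rw [← Finite.one_lt_card_iff_nontrivial, hX]; exact hp.one_lt
    obtain ⟨x, hx1⟩ := exists_ne (1 : X)
    have hxo : orderOf (x : ↥(P : Subgroup G)) = p := by
      rw [Subgroup.orderOf_coe]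
      have h1 : orderOf x ∣ p := by
        have := orderOf_dvd_natCard x
        rwa [hX] at this
      rcases (Nat.dvd_prime hp).mp h1 with h | h
      · exact absurd (orderOf_eq_one_iff.mp h) hx1
      · exact h
    have hxz : (x : ↥(P : Subgroup G)) ∉ Subgroup.zpowers (z : ↥(P : Subgroup G)) := by
      intro hmem
      apply hXz
      have h1 : Subgroup.zpowers (x : ↥(P : Subgroup G)) ≤ X := (Subgroup.zpowers_le).mpr x.2
      have h2 : Subgroup.zpowers (x : ↥(P : Subgroup G)) = X :=
        Subgroup.eq_of_le_of_card_ge h1 (by rw [Nat.card_zpowers, hxo, hX])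
      have h3 : Subgroup.zpowers (x : ↥(P : Subgroup G)) ≤
          Subgroup.zpowers (z : ↥(P : Subgroup G)) := (Subgroup.zpowers_le).mpr hmem
      have h4 := Subgroup.eq_of_le_of_card_ge h3 (by rw [Nat.card_zpowers, Nat.card_zpowers, hxo, hzo])
      rw [← h2, h4]
    -- pass to G
    set z' : G := ((z : ↥(P : Subgroup G)) : G) with hz'
    set x' : G := ((x : ↥(P : Subgroup G)) : G) with hx'
    have hz'o : orderOf z' = p := by rw [hz', Subgroup.orderOf_coe, hzo]
    have hx'o : orderOf x' = p := by rw [hx', Subgroup.orderOf_coe, hxo]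
    have hz'P : z' ∈ (P : Subgroup G) := (z : ↥(P : Subgroup G)).2
    have hx'P : x' ∈ (P : Subgroup G) := (x : ↥(P : Subgroup G)).2
    have hcomm : z' * x' = x' * z' := by
      have := Subgroup.mem_center_iff.mp z.2 (x : ↥(P : Subgroup G))
      exact (congrArg Subtype.val this).symm
    have hx'z' : x' ∉ Subgroup.zpowers z' := by
      intro hmem
      apply hxz
      obtain ⟨k, hk⟩ := Subgroup.mem_zpowers_iff.mp hmem
      rw [Subgroup.mem_zpowers_iff]
      refine ⟨k, Subtype.ext ?_⟩
      rw [Subgroup.coe_zpow]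
      exact hk
    set E := Subgroup.zpowers z' ⊔ Subgroup.zpowers x' with hE
    have hz'p : z' ^ p = 1 := by rw [← hz'o]; exact pow_orderOf_eq_one z'
    have hx'p : x' ^ p = 1 := by rw [← hx'o]; exact pow_orderOf_eq_one x'
    have hEel : Cfsg.IsElementaryAbelian p E := by
      apply Helper3.isElementaryAbelian_sup (Helper3.isElementaryAbelian_zpowers hz'p)
        (Helper3.isElementaryAbelian_zpowers hx'p)
      rw [Subgroup.zpowers_le, Subgroup.mem_centralizer_iff]
      intro y hy
      obtain ⟨k, rfl⟩ := Subgroup.mem_zpowers_iff.mp hy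
      exact ((Commute.zpow_left (show Commute z' x' from hcomm) k)).eq
    have hEP : E ≤ (P : Subgroup G) :=
      sup_le ((Subgroup.zpowers_le).mpr hz'P) ((Subgroup.zpowers_le).mpr hx'P)
    have hEcard : p < Nat.card E := by
      by_contra hle
      push Not at hle
      have h1 : Nat.card (Subgroup.zpowers z') = p := by rw [Nat.card_zpowers, hz'o]
      have h2 : Subgroup.zpowers z' = E :=
        Subgroup.eq_of_le_of_card_ge le_sup_left (by rw [h1]; exact hle)
      apply hx'z'
      rw [h2]
      exact (le_sup_right : Subgroup.zpowers x' ≤ E) (Subgroup.mem_zpowers x')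
    -- K = O_{p'}(G)
    set K := Cfsg.pPrimeCore p G with hK
    have hKcop : (Nat.card K).Coprime p := Helper22.card_pPrimeCore_coprime p
    have hKnd : ¬ p ∣ Nat.card K := (Nat.Prime.coprime_iff_not_dvd hp).mp hKcop.symm
    have hKH : K ≤ componentStabilizer p P :=
      le_componentStabilizer_of_coprime P K hKnd E hEel hEP hEcard
    -- the quotient
    have hπ : Function.Surjective (QuotientGroup.mk' K) := QuotientGroup.mk'_surjective K
    have hbot : Cfsg.pPrimeCore p (G ⧸ K) = ⊥ := Helper9.pPrimeCore_quotient_eq_bot p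
    have hsolq : Cfsg.IsPSolvable p (G ⧸ K) := Helper23.PSolv.isPSolvable_quotient K hsol
    have hHH := Helper23.PSolv.centralizer_pCore_le hsolq hbot
    set Qb := Cfsg.pCore p (G ⧸ K) with hQb
    have hQbn : Qb.Normal := Helper27.pCore_normal p
    have hQbp : IsPGroup p Qb := Helper27.pCore_isPGroup p
    have hQbne : Qb ≠ ⊥ := by
      intro h
      rw [h] at hHH
      have htop : (⊤ : Subgroup (G ⧸ K)) ≤ ⊥ := by
        refine le_trans ?_ hHH
        intro y _ w hw
        rw [SetLike.mem_coe, Subgroup.mem_bot] at hw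
        subst hw
        simp
      have hKtop : K = ⊤ := by
        rw [eq_top_iff]
        intro g _
        have : (QuotientGroup.mk' K g) ∈ (⊥ : Subgroup (G ⧸ K)) := htop (Subgroup.mem_top _)
        rw [Subgroup.mem_bot] at this
        exact (QuotientGroup.eq_one_iff g).mp this
      apply hKnd
      rw [hKtop, Subgroup.card_top]
      exact hdiv
    -- Q̄ lies in the image of P
    have hQbP : Qb ≤ (P : Subgroup G).map (QuotientGroup.mk' K) := by
      have h1 : Qb ≤ ((P.mapSurjective hπ : Sylow p (G ⧸ K)) : Subgroup (G ⧸ K)) :=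
        Helper23.PSolv.pCore_le_sylow _
      rwa [Sylow.coe_mapSurjective] at h1
    set Q := (P : Subgroup G) ⊓ Qb.comap (QuotientGroup.mk' K) with hQ
    have hQmap : Q.map (QuotientGroup.mk' K) = Qb := by
      apply le_antisymm
      · rintro _ ⟨q, hq, rfl⟩
        exact hq.2
      · intro y hy
        obtain ⟨s, hs, rfl⟩ := hQbP hy
        exact ⟨s, ⟨hs, hy⟩, rfl⟩
    have hQne : Q ≠ ⊥ := by
      intro h
      apply hQbne
      rw [← hQmap, h, Subgroup.map_bot]
    have hQK : Q ⊔ K = Qb.comap (QuotientGroup.mk' K) := by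
      rw [← hQmap, Subgroup.comap_map_eq, QuotientGroup.ker_mk']
    have hQKn : (Q ⊔ K).Normal := by
      rw [hQK]
      exact Subgroup.Normal.comap hQbn _
    exact componentStabilizer_eq_top P K hKcop hKH Q hQne inf_le_left hQKn
  · rintro ⟨hOp, hP⟩
    -- unique subgroup of order p in P
    have hU : ∀ x y : ↥(P : Subgroup G), orderOf x = p → orderOf y = p →
        y ∈ Subgroup.zpowers x := by
      rcases hP with hc | ⟨h2, n, ⟨φ⟩⟩
      · intro x y hx hy
        haveI := hc
        exact uniq_of_cyclic p x y hx hy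
      · subst h2
        intro x y hx hy
        exact uniq_of_quaternion φ x y hx hy
    rw [Cfsg.Agent.S3056.result]
    haveI : (⊤ : Subgroup G).Normal := inferInstance
    obtain ⟨x₀, hx₀P, -, hx₀o⟩ := exists_order_p_in_sylow P ⊤ (by rw [Subgroup.card_top]; exact hdiv)
    set Z := Subgroup.zpowers x₀ with hZ
    have huniq : ∀ y ∈ (P : Subgroup G), orderOf y = p → y ∈ Z := by
      intro y hy hyo
      have h1 := hU ⟨x₀, hx₀P⟩ ⟨y, hy⟩ (by rw [Subgroup.orderOf_mk, hx₀o])
        (by rw [Subgroup.orderOf_mk, hyo])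
      obtain ⟨k, hk⟩ := Subgroup.mem_zpowers_iff.mp h1
      rw [hZ, Subgroup.mem_zpowers_iff]
      refine ⟨k, ?_⟩
      have := congrArg Subtype.val hk
      rw [Subgroup.coe_zpow] at this
      exact this
    set H := Subgroup.normalizer (Z : Set G) with hH
    have hx₀ne : x₀ ≠ 1 := by
      intro h; rw [h, orderOf_one] at hx₀o; exact hp.one_lt.ne hx₀o
    have hZcard : Nat.card Z = p := by rw [hZ, Nat.card_zpowers, hx₀o]
    have hZp : IsPGroup p Z := IsPGroup.of_card (n := 1) (by rw [hZcard, pow_one])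
    have hconjZ : ∀ s ∈ (P : Subgroup G), ∀ z ∈ Z, s * z * s⁻¹ ∈ Z := by
      intro s hs z hz
      obtain ⟨k, rfl⟩ := Subgroup.mem_zpowers_iff.mp hz
      have h1 : s * x₀ ^ k * s⁻¹ = (s * x₀ * s⁻¹) ^ k := by rw [conj_zpow]
      rw [h1]
      apply Subgroup.zpow_mem
      apply huniq
      · exact Subgroup.mul_mem _ (Subgroup.mul_mem _ hs hx₀P) (Subgroup.inv_mem _ hs)
      · rw [orderOf_conj', hx₀o]
    have hPH : (P : Subgroup G) ≤ H := Subgroup.le_normalizer_iff.mpr hconjZ
    have hZH : Z ≤ H := Subgroup.le_normalizer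
    refine ⟨H, ?_, ?_, ?_⟩
    · intro htop
      have hZn : Z.Normal := Subgroup.normalizer_eq_top_iff.mp htop
      have : Z ≤ Cfsg.pCore p G := Helper27.le_pCore hZn hZp
      rw [hOp, le_bot_iff] at this
      apply hx₀ne
      have h1 : x₀ ∈ Z := Subgroup.mem_zpowers x₀
      rw [this, Subgroup.mem_bot] at h1
      exact h1
    · rw [← hZcard]
      exact Subgroup.card_dvd_of_le hZH
    · -- elements of order p in H lie in Z
      have hkey : ∀ y ∈ H, orderOf y = p → y ∈ Z := by
        intro y hyH hyo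
        have hQp : IsPGroup p (Subgroup.zpowers y) :=
          IsPGroup.of_card (n := 1) (by rw [Nat.card_zpowers, hyo, pow_one])
        obtain ⟨T, hyT, hT⟩ := exists_isSylowIn_ge hQp ((Subgroup.zpowers_le).mpr hyH)
        have hPs : IsSylowIn p (P : Subgroup G) H := isSylowIn_of_sylow_le P hPH
        obtain ⟨h, hhH, hconj⟩ := hPs.exists_conj hT
        have hyT' : y ∈ T := hyT (Subgroup.mem_zpowers y)
        rw [← hconj] at hyT'
        obtain ⟨s, hs, hsy⟩ := hyT'
        -- y = h s h⁻¹
        have hso : orderOf s = p := by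
          have : y = h * s * h⁻¹ := by rw [← hsy]; rfl
          rw [this, orderOf_conj'] at hyo
          exact hyo
        have hsZ := huniq s hs hso
        have : y = h * s * h⁻¹ := by rw [← hsy]; rfl
        rw [this]
        exact (Subgroup.mem_normalizer_iff.mp hhH s).mp hsZ
      intro g hg hdvd
      apply hg
      obtain ⟨y, hy⟩ := exists_prime_orderOf_dvd_card' p hdvd
      have hyo : orderOf (y : G) = p := by rw [Subgroup.orderOf_coe, hy]
      have hy1 : (y : G) ∈ H := y.2.1
      have hy2 : (y : G) ∈ H.map (MulAut.conj g).toMonoidHom := y.2.2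
      obtain ⟨w, hw, hwy⟩ := hy2
      have hwy' : (y : G) = g * w * g⁻¹ := by rw [← hwy]; rfl
      have hwo : orderOf w = p := by
        rw [hwy', orderOf_conj'] at hyo; exact hyo
      have hyZ := hkey _ hy1 hyo
      have hwZ := hkey w hw hwo
      -- zpowers y = Z and zpowers w = Z
      have hy_gen : Subgroup.zpowers (y : G) = Z :=
        Subgroup.eq_of_le_of_card_ge ((Subgroup.zpowers_le).mpr hyZ)
          (by rw [hZcard, Nat.card_zpowers, hyo])
      have hw_gen : Subgroup.zpowers w = Z :=
        Subgroup.eq_of_le_of_card_ge ((Subgroup.zpowers_le).mpr hwZ)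
          (by rw [hZcard, Nat.card_zpowers, hwo])
      -- g normalizes Z
      rw [hH]
      apply mem_normalizer_of_map_conj_eq
      rw [map_conj_eq_iff_le, ← hw_gen]
      rw [map_conj_le_iff]
      intro v hv
      obtain ⟨k, rfl⟩ := Subgroup.mem_zpowers_iff.mp hv
      have h1 : g * w ^ k * g⁻¹ = (g * w * g⁻¹) ^ k := by rw [conj_zpow]
      rw [h1, ← hwy', hw_gen, ← hy_gen]
      exact Subgroup.zpow_mem _ (Subgroup.mem_zpowers _) k

end Cfsg.Agent.S3057
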