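import Mathlib
import Cfsg.Statements.S3059
import Cfsg.Agent.Lib.Helper15.ClassicalSE

namespace Cfsg.Agent.S3059

open Cfsg.Agent.Helper15

/-- Let p be a prime and H a strongly p-embedded subgroup of the finite group G in the classical sense: H is proper, p divides the order of H, and H ∩ gHg⁻¹ has order prime to p for every g outside H. Then for every normal subgroup N of G of order divisible by p, G = H · O^p(N), where O^p(N) is the subgroup generated by the elements of N of order prime to p. -/
theorem result {G : Type*} [Group G] [Finite G]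
    (p : ℕ) [Fact p.Prime] (H : Subgroup G) (hH : H ≠ ⊤) (hpH : p ∣ Nat.card H)
    (hse : ∀ g : G, g ∉ H → ¬ p ∣ Nat.card ↥(H ⊓ H.map (MulAut.conj g).toMonoidHom))
    (N : Subgroup G) [N.Normal] (hN : p ∣ Nat.card N) :
    H ⊔ Subgroup.closure {g : G | g ∈ N ∧ (orderOf g).Coprime p} = ⊤ := by
  have hp : p.Prime := Fact.out
  -- a Sylow subgroup of N inside H
  obtain ⟨T₀, hT₀⟩ := exists_isSylowIn (p := p) N
  obtain ⟨SH, hSH⟩ := exists_isSylowIn (p := p) H
  have hSHtop := isSylowIn_top_of_classicalSE hpH hse hSH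
  obtain ⟨S', hT₀S'⟩ := hT₀.isPGroup.exists_le_sylow
  obtain ⟨k, _, hk⟩ := (isSylowIn_top S').exists_conj hSHtop
  set T := T₀.map (MulAut.conj k).toMonoidHom with hTdef
  have hT : IsSylowIn p T N :=
    hT₀.map_conj_of_mem_normalizer (by rw [Subgroup.normalizer_eq_top]; exact Subgroup.mem_top k)
  have hTH : T ≤ H := by
    have h1 : T ≤ SH := by rw [← hk]; exact map_conj_mono hT₀S' k
    exact h1.trans hSH.le
  have hT1 : T ≠ ⊥ := by
    intro hb
    have := hT.card_eq
    rw [hb, Subgroup.card_bot] at this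
    have hpos : 0 < (Nat.card ↥N).factorization p :=
      Nat.Prime.factorization_pos_of_dvd hp Nat.card_pos.ne' hN
    have : 1 < p ^ (Nat.card ↥N).factorization p := Nat.one_lt_pow hpos.ne' hp.one_lt
    omega
  -- Frattini
  have hfr : Subgroup.normalizer (T : Set G) ⊔ N = ⊤ := by
    have h := Sylow.normalizer_sup_eq_top hT.toSylow
    have e : ((hT.toSylow : Subgroup ↥N)).map N.subtype = T := hT.map_toSylow
    rw [← e]
    exact h
  have hNT : Subgroup.normalizer (T : Set G) ≤ H :=
    normalizer_le_of_classicalSE hse hT.isPGroup hT1 hTH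
  -- the subgroup L generated by the p'-elements of N
  set L := Subgroup.closure {g : G | g ∈ N ∧ (orderOf g).Coprime p} with hL
  have hLn : L.Normal := by
    refine ⟨fun n hn g => ?_⟩
    have h1 : L.map (MulAut.conj g).toMonoidHom ≤ L := by
      rw [hL, MonoidHom.map_closure, Subgroup.closure_le]
      rintro _ ⟨y, ⟨hyN, hy⟩, rfl⟩
      apply Subgroup.subset_closure
      simp only [MulEquiv.coe_toMonoidHom, MulAut.conj_apply]
      refine ⟨(inferInstance : N.Normal).conj_mem y hyN g, ?_⟩
      rw [orderOf_conj']; exact hy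
    exact h1 (conj_mem_map_conj g hn)
  have hLN : L ≤ N := by
    rw [hL, Subgroup.closure_le]
    intro y hy
    exact hy.1
  -- the image of N modulo L is a p-group
  have hNbar : IsPGroup p ↥(N.map (QuotientGroup.mk' L)) := by
    rintro ⟨_, g, hg, rfl⟩
    have hg0 : orderOf g ≠ 0 := (orderOf_pos g).ne'
    obtain ⟨a, m, hm, ham⟩ := Nat.exists_eq_pow_mul_and_not_dvd hg0 p hp.ne_one
    refine ⟨a, ?_⟩
    apply Subtype.ext
    simp only [Subgroup.coe_pow, Subgroup.coe_one]
    rw [← map_pow]
    have hmem : g ^ (p ^ a) ∈ L := by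
      apply Subgroup.subset_closure
      refine ⟨N.pow_mem hg _, ?_⟩
      have hord : orderOf (g ^ (p ^ a)) = m := by
        rw [orderOf_pow_of_dvd (pow_pos hp.pos a).ne' (by rw [ham]; exact dvd_mul_right _ _), ham]
        exact Nat.mul_div_cancel_left m (pow_pos hp.pos a)
      rw [hord]
      exact ((Nat.Prime.coprime_iff_not_dvd hp).2 hm).symm
    exact (QuotientGroup.eq_one_iff _).2 hmem
  -- hence N ≤ T ⊔ L
  have hNTL : N ≤ T ⊔ L := by
    rw [← Subgroup.relIndex_eq_one]
    have h1 : (T ⊔ L).relIndex N ∣ T.relIndex N := Subgroup.relIndex_dvd_of_le_left N le_sup_left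
    have h2 : (T ⊔ L).relIndex N
        = (T.map (QuotientGroup.mk' L)).relIndex (N.map (QuotientGroup.mk' L)) := by
      rw [← Subgroup.relIndex_comap, Subgroup.comap_map_eq, QuotientGroup.ker_mk']
    have h3 : (T.map (QuotientGroup.mk' L)).relIndex (N.map (QuotientGroup.mk' L))
        ∣ Nat.card ↥(N.map (QuotientGroup.mk' L)) := Subgroup.relIndex_dvd_card _ _
    obtain ⟨n, hn⟩ := hNbar.exists_card_eq
    rw [hn, ← h2] at h3
    obtain ⟨j, _, hj⟩ := (Nat.dvd_prime_pow hp).1 h3
    have h4 : ¬ p ∣ T.relIndex N := hT.not_dvd_relIndex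
    by_contra hne
    have hj0 : j ≠ 0 := by
      intro h0
      rw [h0, pow_zero] at hj
      exact hne hj
    apply h4
    refine dvd_trans ?_ h1
    rw [hj]
    exact dvd_pow_self p hj0
  rw [eq_top_iff, ← hfr]
  apply sup_le (hNT.trans le_sup_left)
  exact hNTL.trans (sup_le (hTH.trans le_sup_left) le_sup_right)

end Cfsg.Agent.S3059
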