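import Mathlib
import Cfsg.Statements.S3063
import Cfsg.Agent.Lib.Helper9.Gillam

set_option autoImplicit false
open Cfsg

namespace Cfsg.Agent.S3063

open Cfsg.Agent.Helper9 in
/-- A weak replacement Theorem for metabelian p-groups: let S be a finite p-group whose derived subgroup is abelian and A an abelian subgroup of S of largest possible order. Then the normal closure of A in S contains an abelian subgroup B of the same order as A that is normal in S. -/
theorem result {S : Type*} [Group S] [Finite S] {p : ℕ} [Fact p.Prime]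
    (hS : IsPGroup p S) (hmeta : IsMulCommutative ↥(commutator S))
    (A : Subgroup S) (hA : A ∈ Cfsg.maxAbelianSubgroups S) :
    ∃ B ∈ Cfsg.maxAbelianSubgroups S, B.Normal ∧ B ≤ Subgroup.normalClosure (A : Set S) := by
  classical
  set T := Subgroup.normalClosure (A : Set S) with hT
  have hTn : T.Normal := Subgroup.normalClosure_normal
  have hQc : ∀ q ∈ commutator S, ∀ q' ∈ commutator S, q * q' = q' * q := fun q hq q' hq' =>
    congrArg Subtype.val (hmeta.is_comm.comm ⟨q, hq⟩ ⟨q', hq'⟩)
  have hfin : {B : Subgroup S | B ∈ Cfsg.maxAbelianSubgroups S ∧ B ≤ T}.Finite := Set.toFinite _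
  have hne : {B : Subgroup S | B ∈ Cfsg.maxAbelianSubgroups S ∧ B ≤ T}.Nonempty :=
    ⟨A, hA, Subgroup.le_normalClosure⟩
  obtain ⟨B, hB, hmax⟩ :=
    hfin.exists_maximalFor (fun B : Subgroup S => Nat.card ↥(B ⊓ commutator S)) _ hne
  have key : ∀ x : S, commSub B x ≤ B := by
    intro x
    have hMQ : commSub B x ≤ commutator S := by
      unfold commSub
      rw [Subgroup.closure_le]
      rintro y ⟨a, _, rfl⟩
      rw [commutator_def, ← commutatorElement_def]
      exact Subgroup.commutator_mem_commutator (Subgroup.mem_top a) (Subgroup.mem_top x)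
    have hMc : ∀ m ∈ commSub B x, ∀ m' ∈ commSub B x, m * m' = m' * m :=
      fun m hm m' hm' => hQc m (hMQ hm) m' (hMQ hm')
    have hBstar := replacement_of_comm hB.1 x hMc
    set Bstar := commSub B x ⊔ (B ⊓ Subgroup.centralizer (commSub B x : Set S)) with hBs
    have hMT : commSub B x ≤ T := by
      unfold commSub
      rw [Subgroup.closure_le]
      rintro y ⟨a, ha, rfl⟩
      have e : a * x * a⁻¹ * x⁻¹ = a * (x * a⁻¹ * x⁻¹) := by group
      rw [e]
      exact T.mul_mem (hB.2 ha) (hTn.conj_mem _ (T.inv_mem (hB.2 ha)) x)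
    have hBsT : Bstar ≤ T := sup_le hMT (inf_le_left.trans hB.2)
    have hle : B ⊓ commutator S ≤ Bstar ⊓ commutator S := by
      intro z hz
      refine Subgroup.mem_inf.mpr ⟨?_, hz.2⟩
      apply (le_sup_right : B ⊓ Subgroup.centralizer (commSub B x : Set S) ≤ Bstar)
      refine Subgroup.mem_inf.mpr ⟨hz.1, ?_⟩
      rw [Subgroup.mem_centralizer_iff]
      intro m hm
      exact hQc m (hMQ hm) z hz.2
    have hcard := hmax (show Bstar ∈ {B : Subgroup S | B ∈ Cfsg.maxAbelianSubgroups S ∧ B ≤ T}
      from ⟨hBstar, hBsT⟩) (Subgroup.card_le_of_le hle)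
    have heq : B ⊓ commutator S = Bstar ⊓ commutator S :=
      Subgroup.eq_of_le_of_card_ge hle hcard
    intro m hm
    have : m ∈ Bstar ⊓ commutator S :=
      Subgroup.mem_inf.mpr ⟨(le_sup_left : commSub B x ≤ Bstar) hm, hMQ hm⟩
    rw [← heq] at this
    exact this.1
  refine ⟨B, hB.1, ?_, hB.2⟩
  constructor
  intro b hb x
  have h1 := key x (mem_commSub (A := B) (x := x) (B.inv_mem hb))
  have e : x * b * x⁻¹ = b * (b⁻¹ * x * b⁻¹⁻¹ * x⁻¹) := by group
  rw [e]
  exact B.mul_mem hb h1

end Cfsg.Agent.S3063
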