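import Mathlib
import Cfsg.Statements.S3069
import Cfsg.Agent.S1991

set_option autoImplicit false
open Cfsg

namespace Cfsg.Agent.S3069

/-- Let p ≥ 7 be a prime and S a nontrivial Sylow p-subgroup of the finite group G. If N_G(S)/C_G(S) is a p-group (every element of N_G(S) of order prime to p centralizes S), then O^p(G) < G, i.e. G has a nontrivial p-factor group. -/
theorem result {G : Type*} [Group G] [Finite G] {p : ℕ} [Fact p.Prime]
    (hp : 7 ≤ p) (S : Sylow p G) (hS : (S : Subgroup G) ≠ ⊥)
    (hN : ∀ g ∈ Subgroup.normalizer ((S : Subgroup G) : Set G), (orderOf g).Coprime p →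
      g ∈ Subgroup.centralizer ((S : Subgroup G) : Set G)) :
    Cfsg.pResidual p G ≠ ⊤ := by
  obtain ⟨N, hNn, hNi⟩ := Cfsg.Agent.S1991.result (p := p) (by omega) S hS hN
  haveI := hNn
  have hpp : p.Prime := Fact.out
  have hle : Cfsg.pResidual p G ≤ N := by
    unfold Cfsg.pResidual
    rw [Subgroup.closure_le]
    intro g hg
    have hg' : Nat.Coprime (orderOf g) p := hg
    -- the image of `g` in `G ⧸ N` has order dividing both `p` and `orderOf g`
    have h1 : orderOf (QuotientGroup.mk g : G ⧸ N) ∣ orderOf g :=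
      orderOf_dvd_of_pow_eq_one (by rw [← QuotientGroup.mk_pow, pow_orderOf_eq_one]; rfl)
    have h2 : orderOf (QuotientGroup.mk g : G ⧸ N) ∣ p := by
      have h3 : Nat.card (G ⧸ N) = p := hNi
      rw [← h3]
      exact orderOf_dvd_natCard _
    have h4 : orderOf (QuotientGroup.mk g : G ⧸ N) ∣ 1 := by
      rw [← Nat.Coprime.gcd_eq_one hg']
      exact Nat.dvd_gcd h1 h2
    have h5 : (QuotientGroup.mk g : G ⧸ N) = 1 := orderOf_eq_one_iff.1 (Nat.dvd_one.1 h4)
    exact (QuotientGroup.eq_one_iff g).1 h5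
  intro htop
  rw [htop, top_le_iff] at hle
  rw [hle, Subgroup.index_top] at hNi
  exact hpp.one_lt.ne hNi

end Cfsg.Agent.S3069
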