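import Mathlib
import Cfsg.Statements.S3071
import Cfsg.Agent.Lib.Helper1.ZJTower
-- import your own Cfsg.Agent.* helpers here

set_option autoImplicit false
open Cfsg

namespace Cfsg.Agent.S3071

open Cfsg.Agent.Helper4.SLF in
/-- a section of a subgroup `M`, as a section of the ambient group with top inside `M` -/
theorem inv_le {T : Type*} [Group T] {G : Type*} [Group G] (M : Subgroup G) (h : Inv T ↥M) :
    ∃ (K L : Subgroup G) (hL : (L.subgroupOf K).Normal), K ≤ M ∧
      Nonempty ((K ⧸ L.subgroupOf K) ≃* T) := by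
  obtain ⟨K', f, hf⟩ := h
  set K : Subgroup G := K'.map M.subtype with hK
  let e : K' ≃* K := K'.equivMapOfInjective M.subtype M.subtype_injective
  set f' : K →* T := f.comp e.symm.toMonoidHom with hf'
  have hf's : Function.Surjective f' := hf.comp e.symm.surjective
  set L : Subgroup G := f'.ker.map K.subtype with hL
  have hLK : L.subgroupOf K = f'.ker := by
    rw [hL, Subgroup.subgroupOf, Subgroup.comap_map_eq_self_of_injective K.subtype_injective]
  have hLn : (L.subgroupOf K).Normal := by rw [hLK]; infer_instance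
  exact ⟨K, L, hLn, Subgroup.map_subtype_le _, ⟨(QuotientGroup.quotientMulEquivOfEq hLK).trans
    (QuotientGroup.quotientKerEquivOfSurjective f' hf's)⟩⟩

/-- Let p be an odd prime and S a Sylow p-subgroup of the finite group G such that, for every subgroup P with Z(S) ≤ P ≤ S, the normalizer N_G(P) has no section isomorphic to SL₂(p). Let J(S) be the subgroup generated by the abelian subgroups of S of largest order. Then two elements of S are conjugate in G if and only if they are conjugate in N_G(Z(J(S))). -/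
theorem result {G : Type*} [Group G] [Finite G] {p : ℕ} [Fact p.Prime]
    (hp : p ≠ 2) (S : Sylow p G)
    (hfree : ∀ P : Subgroup G, (S : Subgroup G) ⊓ Subgroup.centralizer ((S : Subgroup G) : Set G) ≤ P → P ≤ S →
      ¬ ∃ (H K : Subgroup G) (hK : (K.subgroupOf H).Normal), H ≤ Subgroup.normalizer (P : Set G) ∧
        Nonempty ((H ⧸ K.subgroupOf H) ≃* Matrix.SpecialLinearGroup (Fin 2) (ZMod p))) :
    ∀ x ∈ S, ∀ y ∈ S, (∃ g : G, g * x * g⁻¹ = y) ↔
      ∃ n ∈ Subgroup.normalizer (Cfsg.centerThompsonAOf (S : Subgroup G) : Set G), n * x * n⁻¹ = y := by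
  classical
  set W : Subgroup G → Subgroup G := inducedFunctor (G := G) Cfsg.Agent.Helper1.ZJF.zjA with hWdef
  have hWeq : ∀ Q : Subgroup G, W Q = Cfsg.centerThompsonAOf Q :=
    fun Q => Cfsg.Agent.Helper1.ZJF.inducedFunctor_zjA Q
  have hW : Cfsg.IsConjugacyFunctor p W :=
    Cfsg.Agent.Helper10.isConjugacyFunctor_indW (Cfsg.Agent.Helper1.ZJF.isCharPFunctor_zjA p)
  have hWZ : ∀ Q : Subgroup G, IsPGroup p Q → Q ⊓ Subgroup.centralizer (Q : Set G) ≤ W Q := by
    intro Q _
    rw [hWeq]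
    exact Cfsg.Agent.Helper1.ZJF.center_le_centerThompsonAOf Q
  have hS : IsPGroup p (S : Subgroup G) := S.isPGroup'
  -- local control
  have hloc : ∀ T : Subgroup G, Cfsg.IsWellPlaced p W (S : Subgroup G) T →
      (S : Subgroup G) ⊓ Subgroup.centralizer ((S : Subgroup G) : Set G) ≤ T →
      ∀ (B : Set G) (x : G), x ∈ Subgroup.normalizer (T : Set G) →
        B ⊆ (((S : Subgroup G) ⊓ Subgroup.normalizer (T : Set G) : Subgroup G) : Set G) →
        Cfsg.Agent.Helper10.rcs x B ⊆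
          (((S : Subgroup G) ⊓ Subgroup.normalizer (T : Set G) : Subgroup G) : Set G) →
        ∃ y ∈ Subgroup.normalizer (T : Set G) ⊓ Subgroup.normalizer
            ((W ((S : Subgroup G) ⊓ Subgroup.normalizer (T : Set G)) : Subgroup G) : Set G),
          ∀ b ∈ B, y⁻¹ * b * y = x⁻¹ * b * x := by
    intro T hT hZT B x hx hB hxB
    have hfreeM : Cfsg.Agent.Helper4.SLF.SL2Free p ↥(Subgroup.normalizer (T : Set G)) := by
      intro hinv
      obtain ⟨K, L, hL, hKM, hiso⟩ := inv_le _ hinv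
      exact hfree T hZT hT.1 ⟨K, L, hL, hKM, hiso⟩
    have h1 := Cfsg.Agent.Helper1.ZJF.fcs_of_sl2free hp ↥(Subgroup.normalizer (T : Set G)) hfreeM
    have h2 := Cfsg.Agent.Helper10.fcs_map_injective Cfsg.Agent.Helper1.ZJF.h𝓦_zjA
      (Subgroup.normalizer (T : Set G)).subtype (Subgroup.subtype_injective _) h1
    rw [Subgroup.range_subtype] at h2
    have h3 := Cfsg.Agent.Helper1.ZJF.exists_mem_normalizer_of_fcs h2
      ((S : Subgroup G) ⊓ Subgroup.normalizer (T : Set G)) inf_le_right (hS.to_le inf_le_left)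
      (hT.2 0) B x hx hB hxB
    obtain ⟨n, hn, hnB⟩ := h3
    rw [← hWeq] at hn
    exact ⟨n, hn, hnB⟩
  -- the global statement
  have key : ∀ (A : Set G) (g : G), A ⊆ ((S : Subgroup G) : Set G) →
      Cfsg.Agent.Helper10.rcs g A ⊆ ((S : Subgroup G) : Set G) →
      ∃ n ∈ Subgroup.normalizer ((W (S : Subgroup G) : Subgroup G) : Set G),
        ∀ a ∈ A, n⁻¹ * a * n = g⁻¹ * a * g := by
    intro A g hA hgA
    refine Cfsg.Agent.Helper10.wp_final (S : Subgroup G) hS S.not_dvd_index W hW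
      (fun A g => ∃ n ∈ Subgroup.normalizer ((W (S : Subgroup G) : Subgroup G) : Set G),
        ∀ a ∈ A, n⁻¹ * a * n = g⁻¹ * a * g) ?_ ?_ ?_ ?_ ?_ A g hA hgA
    · intro A _
      exact ⟨1, Subgroup.one_mem _, fun a _ => rfl⟩
    · rintro A B g ⟨n, hn, hnB⟩ hAB
      exact ⟨n, hn, fun a ha => hnB a (hAB ha)⟩
    · rintro A g h ⟨n₁, hn₁, h1⟩ ⟨n₂, hn₂, h2⟩
      refine ⟨n₁ * n₂, Subgroup.mul_mem _ hn₁ hn₂, fun a ha => ?_⟩
      have e1 : (n₁ * n₂)⁻¹ * a * (n₁ * n₂) = n₂⁻¹ * (n₁⁻¹ * a * n₁) * n₂ := by group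
      rw [e1, h1 a ha, h2 _ ⟨a, ha, rfl⟩]
      group
    · rintro A g g₂ ⟨n, hn, h1⟩ h2
      exact ⟨n, hn, fun a ha => (h1 a ha).trans (h2 a ha).symm⟩
    · intro T hT hZT x hx B hB hxB
      exact Cfsg.Agent.Helper1.ZJF.tower hS hW hWZ hloc (Nat.card (S : Subgroup G)) T hT hZT
        (Nat.sub_le _ _) B x hx hB hxB
  intro x hx y hy
  constructor
  · rintro ⟨g, hg⟩
    obtain ⟨n, hn, hnA⟩ := key {x} g⁻¹ (by
        intro a ha
        rw [Set.mem_singleton_iff] at ha
        rw [ha]; exact hx) (by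
        rintro _ ⟨a, ha, rfl⟩
        rw [Set.mem_singleton_iff] at ha
        rw [ha]
        show g⁻¹⁻¹ * x * g⁻¹ ∈ (S : Subgroup G)
        rw [inv_inv, hg]; exact hy)
    rw [hWeq] at hn
    refine ⟨n⁻¹, Subgroup.inv_mem _ hn, ?_⟩
    have := hnA x rfl
    rw [inv_inv] at this ⊢
    rw [this, hg]
  · rintro ⟨n, -, hn⟩
    exact ⟨n, hn⟩

end Cfsg.Agent.S3071
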