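import Mathlib
import Cfsg.Statements.S3072
import Cfsg.Agent.Lib.Helper4.SAG5
-- import your own Cfsg.Agent.* helpers here

set_option autoImplicit false
open Cfsg

namespace Cfsg.Agent.S3072

/-- A strong form of the Alperin–Goldschmidt fusion Theorem. Let P be a Sylow p-subgroup of the finite group G, A a subset of P containing a nonidentity element, and g an element with g⁻¹Ag ⊆ P. Then g = c·x₁⋯xₙ·y with c ∈ C_G(A), y ∈ N_G(P) and, for each i, an element xᵢ and a subgroup Hᵢ ≤ P such that: N_P(Hᵢ) is a Sylow p-subgroup of N_G(Hᵢ); C_P(Hᵢ) ≤ Hᵢ; O_{p',p}(N_G(Hᵢ)) = Hᵢ·C_G(Hᵢ); the Sylow p-subgroups of N_G(Hᵢ)/Hᵢ are not chain-connected through nontrivial intersections (the quotient has a strongly p-embedded subgroup); xᵢ lies in O^p(Xᵢ), where Xᵢ/Hᵢ is the smallest normal subgroup of N_G(Hᵢ)/Hᵢ of order divisible by p; and (x₁⋯xᵢ₋₁)⁻¹A(x₁⋯xᵢ₋₁) ⊆ Hᵢ. -/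
theorem result {G : Type*} [Group G] [Finite G] {p : ℕ} [Fact p.Prime]
    (P : Sylow p G) (A : Set G) (hA : A ⊆ (P : Set G)) (hA1 : ∃ a ∈ A, a ≠ 1)
    (g : G) (hAg : (fun a => g⁻¹ * a * g) '' A ⊆ (P : Set G)) :
    ∃ (n : ℕ) (H X : Fin n → Subgroup G) (x : Fin n → G) (c y : G),
      c ∈ Subgroup.centralizer A ∧ y ∈ Subgroup.normalizer ((P : Subgroup G) : Set G) ∧
      g = c * (List.ofFn x).prod * y ∧
      ∀ i : Fin n,
        H i ≤ (P : Subgroup G) ∧
        ¬ p ∣ ((P : Subgroup G) ⊓ Subgroup.normalizer (H i : Set G)).relIndex (Subgroup.normalizer (H i : Set G)) ∧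
        (P : Subgroup G) ⊓ Subgroup.centralizer (H i : Set G) ≤ H i ∧
        (Cfsg.pPrimePCore p ↥(Subgroup.normalizer (H i : Set G))).map (Subgroup.normalizer (H i : Set G)).subtype =
          H i ⊔ Subgroup.centralizer (H i : Set G) ∧
        ¬ Cfsg.IsSylowChainConnected p
            (↥(Subgroup.normalizer (H i : Set G)) ⧸ (H i).subgroupOf (Subgroup.normalizer (H i : Set G))) ∧
        (H i ≤ X i ∧ X i ≤ Subgroup.normalizer (H i : Set G) ∧
          ((X i).subgroupOf (Subgroup.normalizer (H i : Set G))).Normal ∧ p ∣ (H i).relIndex (X i) ∧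
          ∀ Y : Subgroup G, H i ≤ Y → Y ≤ Subgroup.normalizer (H i : Set G) →
            (Y.subgroupOf (Subgroup.normalizer (H i : Set G))).Normal → p ∣ (H i).relIndex Y → X i ≤ Y) ∧
        x i ∈ (Cfsg.pResidual p ↥(X i)).map (X i).subtype ∧
        (fun a => (((List.ofFn x).take i.val).prod)⁻¹ * a * ((List.ofFn x).take i.val).prod) '' A ⊆ (H i : Set G) := by
  classical
  obtain ⟨c, m, y, hc, hy, hg, hm⟩ := Cfsg.Agent.Helper4.SAG.sreach_of_conj P A g hA hAg
  obtain ⟨n, T, x, hprod, hT, hx, h0, hstep⟩ := hm.toFin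
  choose X hX using hT
  refine ⟨n, T, X, x, c, y, hc, hy, by rw [hprod]; exact hg, ?_⟩
  intro i
  obtain ⟨h1, h2, h3, h4, h5, h6, h7⟩ := hX i
  refine ⟨h1, h2, h3, h4, h5, h6, h7, ?_⟩
  rcases Nat.eq_zero_or_pos i.val with h00 | hpos
  · have e2 : (List.take i.val (List.ofFn x)).prod = 1 := by rw [h00]; simp
    rw [e2]
    have hn : 0 < n := lt_of_le_of_lt (Nat.zero_le _) i.isLt
    have e3 : i = ⟨0, hn⟩ := Fin.ext h00
    rintro _ ⟨a, ha, rfl⟩
    rw [e3]
    have : (1 : G)⁻¹ * a * 1 = a := by group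
    change (1 : G)⁻¹ * a * 1 ∈ (T ⟨0, hn⟩ : Set G)
    rw [this]
    exact h0 hn ha
  · obtain ⟨j, hj⟩ := Nat.exists_eq_succ_of_ne_zero (Nat.pos_iff_ne_zero.mp hpos)
    have hj' : j + 1 < n := by have := i.isLt; omega
    have hjn : j < n := by omega
    have := hstep ⟨j, hjn⟩ hj'
    have e3 : i = ⟨j + 1, hj'⟩ := Fin.ext hj
    have e4 : i.val = j + 1 := hj
    rw [e4, e3]
    exact this

end Cfsg.Agent.S3072
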