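import Mathlib
import Cfsg.Statements.S3074
import Cfsg.Agent.Lib.Helper14.QdSylow
import Cfsg.Agent.Lib.Helper14.Heis

set_option autoImplicit false
open Cfsg

namespace Cfsg.Agent.S3074

open scoped Matrix
open Cfsg.Agent.S2761 Cfsg.Agent.Helper14.Qd Cfsg.Agent.Helper14.SL2Vec

section

variable {p : ℕ} [Fact p.Prime]

theorem aux (hp : p ≠ 2) (Pp : Subgroup ↥(affSubgroup (ZMod p))) (v₀ : Fin 2 → ZMod p) (hv₀ : v₀ ≠ 0)
    (hP : Pp = stab v₀) :
    Cfsg.IsExtraspecial p ↥Pp ∧ Nat.card ↥Pp = p ^ 3 ∧ Monoid.exponent ↥Pp = p := by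
  subst hP
  obtain ⟨w₀, hd⟩ := exists_dt_eq_one hv₀
  apply Cfsg.Agent.Helper14.Heis.isExtraspecial
    (fun c b a => (⟨hmk v₀ w₀ c b a, hmk_mem_stab c b a⟩ : ↥(stab v₀))) _ _ _ hp
  · intro x
    exact ⟨_, _, _, Subtype.ext (eq_hmk_coords hd x.2)⟩
  · intro c b a c' b' a' h
    exact hmk_injective hd (congrArg Subtype.val h)
  · intro c b a c' b' a'
    exact Subtype.ext (hmk_mul hd c b a c' b' a')

theorem aux2 (hp : p ≠ 2) (Q : Subgroup (Matrix.SpecialLinearGroup (Fin 3) (ZMod p)))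
    (hQ : Q = affSubgroup (ZMod p)) (P : Sylow p ↥Q) :
    Cfsg.IsExtraspecial p ↥P ∧ Nat.card P = p ^ 3 ∧ Monoid.exponent ↥P = p := by
  subst hQ
  haveI : NeZero p := ⟨(Fact.out : p.Prime).ne_zero⟩
  obtain ⟨v₀, hv₀, hS⟩ := sylow_eq_stab P
  exact aux hp (P : Subgroup ↥(affSubgroup (ZMod p))) v₀ hv₀ hS

end

/-- Let p be an odd prime. A Sylow p-subgroup of Qd(p), the split extension of an elementary abelian group of order p² by SL₂(p) acting naturally, is extraspecial of order p³ and exponent p. -/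
theorem result (p : ℕ) [Fact p.Prime] (hp : p ≠ 2) (P : Sylow p ↥(Cfsg.qd p)) :
    Cfsg.IsExtraspecial p ↥P ∧ Nat.card P = p ^ 3 ∧ Monoid.exponent ↥P = p :=
  aux2 hp (Cfsg.qd p) (qd_eq p) P

end Cfsg.Agent.S3074
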