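import Mathlib
import Cfsg.Statements.S3075

set_option autoImplicit false
open Cfsg

namespace Cfsg.Agent.S3075

/-- the scalar matrix `-1` in `SL₂`. -/
def negOne (F : Type*) [Field F] : Matrix.SpecialLinearGroup (Fin 2) F :=
  ⟨!![-1, 0; 0, -1], by simp [Matrix.det_fin_two]⟩

theorem negOne_val (F : Type*) [Field F] : (negOne F).1 = -1 := by
  ext i j
  fin_cases i <;> fin_cases j <;> simp [negOne]

theorem negOne_mul_self (F : Type*) [Field F] : negOne F * negOne F = 1 := by
  apply Subtype.ext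
  show (negOne F).1 * (negOne F).1 = 1
  rw [negOne_val]; simp

theorem negOne_comm (F : Type*) [Field F] (M : Matrix.SpecialLinearGroup (Fin 2) F) :
    negOne F * M = M * negOne F := by
  apply Subtype.ext
  show (negOne F).1 * M.1 = M.1 * (negOne F).1
  rw [negOne_val]; simp

theorem negOne_ne_one (F : Type*) [Field F] (h2 : (2 : F) ≠ 0) : negOne F ≠ 1 := by
  intro h
  have h00 : (negOne F).1 0 0 = (1 : Matrix.SpecialLinearGroup (Fin 2) F).1 0 0 := by rw [h]
  rw [negOne_val, Matrix.SpecialLinearGroup.coe_one, Matrix.neg_apply, Matrix.one_apply_eq] at h00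
  apply h2
  have : (2 : F) = 1 - (-1) := by ring
  rw [this, h00]; ring

/-- an upper transvection. -/
def upperT (F : Type*) [Field F] : Matrix.SpecialLinearGroup (Fin 2) F :=
  ⟨!![1, 1; 0, 1], by simp [Matrix.det_fin_two]⟩

/-- a lower transvection. -/
def lowerT (F : Type*) [Field F] : Matrix.SpecialLinearGroup (Fin 2) F :=
  ⟨!![1, 0; 1, 1], by simp [Matrix.det_fin_two]⟩

theorem sl2_not_comm (F : Type*) [Field F] :
    ∃ u l : Matrix.SpecialLinearGroup (Fin 2) F, u * l ≠ l * u := by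
  refine ⟨upperT F, lowerT F, ?_⟩
  intro h
  have h' : (upperT F).1 * (lowerT F).1 = (lowerT F).1 * (upperT F).1 := congrArg Subtype.val h
  have h00 := congrFun (congrFun h' 0) 0
  simp [upperT, lowerT, Matrix.mul_apply, Fin.sum_univ_two] at h00

theorem mul_pow_of_commute_helper {N : Type*} [Group N] (n : N) (p : ℕ) :
    (n * n) ^ p = n ^ p * n ^ p := (Commute.refl n).mul_pow p

/-- commutators act trivially on a normal subgroup of prime order. -/
theorem comm_centralizes_prime {N : Type*} [Group N] [Finite N] {p : ℕ} [Fact p.Prime]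
    (H : Subgroup N) [H.Normal] (hH : Nat.card H = p) (g h c : N) (hc : c ∈ H) :
    (g * h) * c * (g * h)⁻¹ = (h * g) * c * (h * g)⁻¹ := by
  have : IsCyclic H := isCyclic_of_prime_card hH
  have hcomm : ∀ α β : MulAut H, α * β = β * α := by
    intro α β
    apply (IsCyclic.mulAutMulEquiv H).injective
    rw [map_mul, map_mul, mul_comm]
  have h1 : (MulAut.conjNormal (H := H)) (g * h) = (MulAut.conjNormal (H := H)) (h * g) := by
    rw [map_mul, map_mul, hcomm]
  have h2 := congrArg (fun α : MulAut H => ((α ⟨c, hc⟩ : H) : N)) h1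
  simp only [MulAut.conjNormal_apply] at h2
  rw [h2]

/-- Let p be an odd prime and N a finite group with a normal elementary abelian subgroup A of order p² that is its own centralizer in N, such that N/A is isomorphic to SL₂(p) (over any field F with p elements). Then N splits over A: some subgroup U of N satisfies A ∩ U = 1 and AU = N. -/
theorem result {N : Type*} [Group N] [Finite N] {p : ℕ} [Fact p.Prime] (hp : p ≠ 2)
    (A : Subgroup N) [A.Normal] (hAcomm : IsMulCommutative A) (hAcard : Nat.card A = p ^ 2) (hAexp : Monoid.exponent ↥A = p)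
    (hAself : Subgroup.centralizer (A : Set N) = A)
    {F : Type*} [Field F] [Fintype F] (hF : Fintype.card F = p) (e : N ⧸ A ≃* Matrix.SpecialLinearGroup (Fin 2) F) :
    ∃ U : Subgroup N, A ⊓ U = ⊥ ∧ A ⊔ U = ⊤ := by
  classical
  have hpp : p.Prime := Fact.out
  obtain ⟨k, hk⟩ := hpp.odd_of_ne_two hp
  -- elementary facts on A
  have hApow : ∀ a ∈ A, a ^ p = 1 := by
    intro a ha
    have h1 := Monoid.pow_exponent_eq_one (⟨a, ha⟩ : A)
    rw [hAexp] at h1
    have h2 := congrArg Subtype.val h1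
    simpa using h2
  have hAc : ∀ a ∈ A, ∀ b ∈ A, a * b = b * a := by
    intro a ha b hb
    have h1 := hAcomm.is_comm.comm (⟨a, ha⟩ : A) ⟨b, hb⟩
    exact congrArg Subtype.val h1
  have hsq : ∀ a ∈ A, a * a = 1 → a = 1 := by
    intro a ha h2
    have h3 : a ^ p = 1 := hApow a ha
    rw [hk, pow_succ, pow_mul, pow_two, h2, one_pow, one_mul] at h3
    exact h3
  -- (2 : F) ≠ 0
  have h2F : (2 : F) ≠ 0 := by
    intro h2
    have hpF : ((p : ℕ) : F) = 0 := by
      rw [← hF]; exact FiniteField.cast_card_eq_zero F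
    rw [hk] at hpF
    push_cast at hpF
    rw [h2, zero_mul, zero_add] at hpF
    exact one_ne_zero hpF
  -- the central involution of the quotient
  set z : N ⧸ A := e.symm (negOne F) with hz
  have hzz : z * z = 1 := by
    rw [hz, ← map_mul, negOne_mul_self, map_one]
  have hz1 : z ≠ 1 := by
    intro h
    apply negOne_ne_one F h2F
    have := congrArg e h
    rwa [hz, MulEquiv.apply_symm_apply, map_one] at this
  have hzc : ∀ x : N ⧸ A, z * x = x * z := by
    intro x
    apply e.injective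
    rw [map_mul, map_mul, hz, MulEquiv.apply_symm_apply, negOne_comm]
  obtain ⟨n, hn⟩ := QuotientGroup.mk_surjective z
  set t : N := n ^ p with ht
  have htz : (QuotientGroup.mk t : N ⧸ A) = z := by
    rw [ht, QuotientGroup.mk_pow, hn, hk, pow_succ, pow_mul, pow_two, hzz, one_pow, one_mul]
  have htA : t ∉ A := by
    intro h
    apply hz1
    rw [← htz]
    exact (QuotientGroup.eq_one_iff t).mpr h
  have htt : t * t = 1 := by
    have h1 : n * n ∈ A := by
      rw [← QuotientGroup.eq_one_iff, QuotientGroup.mk_mul, hn, hzz]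
    have h2 := hApow _ h1
    rw [ht, ← mul_pow_of_commute_helper n p]
    exact h2
  have htinv : t⁻¹ = t := inv_eq_of_mul_eq_one_left htt
  have hcomm_t : ∀ g : N, g * t * g⁻¹ * t⁻¹ ∈ A := by
    intro g
    rw [← QuotientGroup.eq_one_iff]
    simp only [QuotientGroup.mk_mul, QuotientGroup.mk_inv, htz]
    rw [← hzc]
    group
  have hconjA : ∀ g : N, ∀ a ∈ A, g * a * g⁻¹ ∈ A := fun g a ha => ‹A.Normal›.conj_mem a ha g
  have hconj : ∀ g : N, ∀ a ∈ A, t * (g * a * g⁻¹) * t⁻¹ = g * (t * a * t⁻¹) * g⁻¹ := by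
    intro g a ha
    have hb : g⁻¹ * t * g * t⁻¹ ∈ A := by
      have := hcomm_t g⁻¹
      simpa using this
    have hb' : t * g = g * (g⁻¹ * t * g * t⁻¹) * t := by group
    calc t * (g * a * g⁻¹) * t⁻¹ = (t * g) * a * (t * g)⁻¹ := by group
      _ = (g * (g⁻¹ * t * g * t⁻¹) * t) * a * (g * (g⁻¹ * t * g * t⁻¹) * t)⁻¹ := by rw [← hb']
      _ = g * ((g⁻¹ * t * g * t⁻¹) * (t * a * t⁻¹) * (g⁻¹ * t * g * t⁻¹)⁻¹) * g⁻¹ := by group
      _ = g * (t * a * t⁻¹) * g⁻¹ := by
          rw [hAc _ hb _ (hconjA t a ha), mul_inv_cancel_right]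
  have hσσ : ∀ a : N, t * (t * a * t⁻¹) * t⁻¹ = a := by
    intro a
    rw [htinv]
    calc t * (t * a * t) * t = (t * t) * a * (t * t) := by group
      _ = a := by rw [htt, one_mul, mul_one]
  -- the two eigen-subgroups
  set Aplus : Subgroup N := A ⊓ Subgroup.centralizer {t} with hAplus
  have hmemplus : ∀ a : N, a ∈ Aplus ↔ a ∈ A ∧ t * a * t⁻¹ = a := by
    intro a
    rw [hAplus, Subgroup.mem_inf, Subgroup.mem_centralizer_singleton_iff]
    constructor
    · rintro ⟨h1, h2⟩
      exact ⟨h1, by rw [← h2, mul_inv_cancel_right]⟩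
    · rintro ⟨h1, h2⟩
      refine ⟨h1, ?_⟩
      calc a * t = (t * a * t⁻¹) * t := by rw [h2]
        _ = t * a := by group
  let Aminus : Subgroup N :=
    { carrier := {a | a ∈ A ∧ t * a * t⁻¹ = a⁻¹}
      one_mem' := ⟨A.one_mem, by simp⟩
      mul_mem' := by
        rintro a b ⟨ha, ha'⟩ ⟨hb, hb'⟩
        refine ⟨A.mul_mem ha hb, ?_⟩
        calc t * (a * b) * t⁻¹ = (t * a * t⁻¹) * (t * b * t⁻¹) := by group
          _ = a⁻¹ * b⁻¹ := by rw [ha', hb']
          _ = (a * b)⁻¹ := by rw [mul_inv_rev, hAc _ (A.inv_mem ha) _ (A.inv_mem hb)]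
      inv_mem' := by
        rintro a ⟨ha, ha'⟩
        refine ⟨A.inv_mem ha, ?_⟩
        calc t * a⁻¹ * t⁻¹ = (t * a * t⁻¹)⁻¹ := by group
          _ = a⁻¹⁻¹ := by rw [ha'] }
  have hmemminus : ∀ a : N, a ∈ Aminus ↔ a ∈ A ∧ t * a * t⁻¹ = a⁻¹ := fun a => Iff.rfl
  have hplusle : Aplus ≤ A := inf_le_left
  have hminusle : Aminus ≤ A := fun a ha => ha.1
  -- decomposition
  have hdecomp : ∀ a ∈ A, ∃ u ∈ Aplus, ∃ v ∈ Aminus, a = u * v := by
    intro a ha
    set c := a ^ (k + 1) with hc
    have hcA : c ∈ A := A.pow_mem ha _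
    have hcc : c * c = a := by
      rw [hc, ← pow_add]
      have : k + 1 + (k + 1) = p + 1 := by omega
      rw [this, pow_succ, hApow a ha, one_mul]
    have hσc : t * c * t⁻¹ ∈ A := hconjA t c hcA
    refine ⟨c * (t * c * t⁻¹), ?_, c * (t * c * t⁻¹)⁻¹, ?_, ?_⟩
    · rw [hmemplus]
      refine ⟨A.mul_mem hcA hσc, ?_⟩
      calc t * (c * (t * c * t⁻¹)) * t⁻¹ = (t * c * t⁻¹) * (t * (t * c * t⁻¹) * t⁻¹) := by group
        _ = (t * c * t⁻¹) * c := by rw [hσσ]
        _ = c * (t * c * t⁻¹) := hAc _ hσc _ hcA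
    · rw [hmemminus]
      refine ⟨A.mul_mem hcA (A.inv_mem hσc), ?_⟩
      calc t * (c * (t * c * t⁻¹)⁻¹) * t⁻¹ = (t * c * t⁻¹) * (t * (t * c * t⁻¹) * t⁻¹)⁻¹ := by group
        _ = (t * c * t⁻¹) * c⁻¹ := by rw [hσσ]
        _ = (c * (t * c * t⁻¹)⁻¹)⁻¹ := by rw [mul_inv_rev, inv_inv]
    · calc a = c * c := hcc.symm
        _ = c * (c * (t * c * t⁻¹)) * (t * c * t⁻¹)⁻¹ := by group
        _ = c * ((t * c * t⁻¹) * c) * (t * c * t⁻¹)⁻¹ := by rw [hAc c hcA _ hσc]
        _ = c * (t * c * t⁻¹) * (c * (t * c * t⁻¹)⁻¹) := by group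
  -- normality of both
  have hplusN : Aplus.Normal := by
    constructor
    intro a ha g
    rw [hmemplus] at ha ⊢
    exact ⟨hconjA g a ha.1, by rw [hconj g a ha.1, ha.2]⟩
  have hminusN : Aminus.Normal := by
    constructor
    intro a ha g
    rw [hmemminus] at ha ⊢
    refine ⟨hconjA g a ha.1, ?_⟩
    rw [hconj g a ha.1, ha.2]
    group
  have hinter : ∀ a, a ∈ Aplus → a ∈ Aminus → a = 1 := by
    intro a h1 h2
    rw [hmemplus] at h1
    rw [hmemminus] at h2
    apply hsq a h1.1
    have h3 : a = a⁻¹ := h1.2.symm.trans h2.2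
    calc a * a = a * a⁻¹ := by rw [← h3]
      _ = 1 := mul_inv_cancel a
  have hcardp : ∀ H : Subgroup N, H ≤ A → H ≠ ⊥ → H ≠ A → Nat.card H = p := by
    intro H hle h0 h1
    have hdvd : Nat.card H ∣ p ^ 2 := hAcard ▸ Subgroup.card_dvd_of_le hle
    obtain ⟨i, hi, hcard⟩ := (Nat.dvd_prime_pow hpp).1 hdvd
    interval_cases i
    · exfalso; apply h0
      exact Subgroup.card_eq_one.mp (by simpa using hcard)
    · simpa using hcard
    · exfalso; apply h1
      exact Subgroup.eq_of_le_of_card_ge hle (by rw [hcard, hAcard])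
  have hplus : Aplus = ⊥ := by
    by_contra hne
    have h1 : Aplus ≠ A := by
      intro h
      apply htA
      rw [← hAself, Subgroup.mem_centralizer_iff]
      intro a ha
      have ha' : a ∈ Aplus := by rw [h]; exact ha
      rw [hmemplus] at ha'
      calc a * t = (t * a * t⁻¹) * t := by rw [ha'.2]
        _ = t * a := by group
    have hc1 : Nat.card Aplus = p := hcardp Aplus hplusle hne h1
    have h2 : Aminus ≠ ⊥ := by
      intro h
      apply h1
      apply le_antisymm hplusle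
      intro a ha
      obtain ⟨u, hu, v, hv, rfl⟩ := hdecomp a ha
      rw [h, Subgroup.mem_bot] at hv
      rw [hv, mul_one]; exact hu
    have h3 : Aminus ≠ A := by
      intro h
      apply hne
      rw [eq_bot_iff]
      intro a ha
      rw [Subgroup.mem_bot]
      exact hinter a ha (by rw [h]; exact hplusle ha)
    have hc2 : Nat.card Aminus = p := hcardp Aminus hminusle h2 h3
    -- commutators centralize A
    have hcent : ∀ g h : N, (h * g)⁻¹ * (g * h) ∈ A := by
      intro g h
      rw [← hAself, Subgroup.mem_centralizer_iff]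
      intro a ha
      obtain ⟨u, hu, v, hv, rfl⟩ := hdecomp a ha
      have e1 := comm_centralizes_prime Aplus hc1 g h u hu
      have e2 := comm_centralizes_prime Aminus hc2 g h v hv
      have e3 : (g * h) * (u * v) * (g * h)⁻¹ = (h * g) * (u * v) * (h * g)⁻¹ := by
        calc (g * h) * (u * v) * (g * h)⁻¹
            = ((g * h) * u * (g * h)⁻¹) * ((g * h) * v * (g * h)⁻¹) := by group
          _ = ((h * g) * u * (h * g)⁻¹) * ((h * g) * v * (h * g)⁻¹) := by rw [e1, e2]
          _ = (h * g) * (u * v) * (h * g)⁻¹ := by group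
      calc u * v * ((h * g)⁻¹ * (g * h))
          = (h * g)⁻¹ * ((h * g) * (u * v) * (h * g)⁻¹) * (g * h) := by group
        _ = (h * g)⁻¹ * ((g * h) * (u * v) * (g * h)⁻¹) * (g * h) := by rw [e3]
        _ = (h * g)⁻¹ * (g * h) * (u * v) := by group
    obtain ⟨U, L, hUL⟩ := sl2_not_comm F
    apply hUL
    obtain ⟨g, hg⟩ := QuotientGroup.mk_surjective (e.symm U)
    obtain ⟨h, hh⟩ := QuotientGroup.mk_surjective (e.symm L)
    have h4 : (QuotientGroup.mk (g * h) : N ⧸ A) = QuotientGroup.mk (h * g) := by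
      have := (QuotientGroup.eq_one_iff ((h * g)⁻¹ * (g * h))).mpr (hcent g h)
      rw [QuotientGroup.mk_mul, QuotientGroup.mk_inv, inv_mul_eq_one] at this
      exact this.symm
    rw [QuotientGroup.mk_mul, QuotientGroup.mk_mul, hg, hh, ← map_mul, ← map_mul] at h4
    exact e.symm.injective h4
  -- t inverts A
  have hinv : ∀ a ∈ A, t * a * t⁻¹ = a⁻¹ := by
    intro a ha
    obtain ⟨u, hu, v, hv, rfl⟩ := hdecomp a ha
    rw [hplus, Subgroup.mem_bot] at hu
    rw [hu, one_mul]
    exact ((hmemminus v).mp hv).2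
  refine ⟨Subgroup.centralizer {t}, hplus, ?_⟩
  rw [eq_top_iff]
  intro g _
  have hb : g⁻¹ * t * g * t⁻¹ ∈ A := by
    have := hcomm_t g⁻¹
    simpa using this
  set b := g⁻¹ * t * g * t⁻¹ with hbdef
  have hb' : t * g = g * b * t := by rw [hbdef]; group
  set c := b ^ (k + 1) with hc
  have hcA : c ∈ A := A.pow_mem hb _
  have hcc : c * c = b := by
    rw [hc, ← pow_add]
    have : k + 1 + (k + 1) = p + 1 := by omega
    rw [this, pow_succ, hApow b hb, one_mul]
  have hgc : g * c ∈ Subgroup.centralizer {t} := by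
    rw [Subgroup.mem_centralizer_singleton_iff]
    have h5 : t * c = c⁻¹ * t := by
      calc t * c = (t * c * t⁻¹) * t := by group
        _ = c⁻¹ * t := by rw [hinv c hcA]
    calc g * c * t = g * (c * c) * (c⁻¹ * t) := by group
      _ = g * b * (t * c) := by rw [hcc, h5]
      _ = (g * b * t) * c := by group
      _ = t * (g * c) := by rw [← hb']; group
  have : g = (g * c) * c⁻¹ := by group
  rw [this]
  exact Subgroup.mul_mem _ ((le_sup_right : Subgroup.centralizer {t} ≤ A ⊔ Subgroup.centralizer {t}) hgc)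
    ((le_sup_left : A ≤ A ⊔ Subgroup.centralizer {t}) (A.inv_mem hcA))

end Cfsg.Agent.S3075
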