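import Mathlib
import Cfsg.Statements.S3076
import Cfsg.Agent.Lib.Helper9.CentricRadical
import Cfsg.Agent.Lib.Helper14.PReducedSub

set_option autoImplicit false
open Cfsg

namespace Cfsg.Agent.S3076

open Cfsg.Agent.Helper9 in
/-- Let P be a Sylow p-subgroup of the finite group G and H ≤ P a subgroup with N_P(H) a Sylow p-subgroup of N_G(H). Let N be the preimage in N_G(H) of O_p(N_G(H)/C_G(H)). Then H is a Sylow p-subgroup of N if and only if C_P(H) ≤ H and O_{p',p}(N_G(H)) = H·C_G(H). -/
theorem result {G : Type*} [Group G] [Finite G] {p : ℕ} [Fact p.Prime]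
    (P : Sylow p G) (H : Subgroup G) (hHP : H ≤ (P : Subgroup G))
    (hSyl : ¬ p ∣ ((P : Subgroup G) ⊓ Subgroup.normalizer (H : Set G)).relIndex (Subgroup.normalizer (H : Set G)))
    [hC : ((Subgroup.centralizer (H : Set G)).subgroupOf (Subgroup.normalizer (H : Set G))).Normal] :
    (H ≤ ((Cfsg.pCore p (↥(Subgroup.normalizer (H : Set G)) ⧸
              (Subgroup.centralizer (H : Set G)).subgroupOf (Subgroup.normalizer (H : Set G)))).comap
            (QuotientGroup.mk' _)).map (Subgroup.normalizer (H : Set G)).subtype ∧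
      ¬ p ∣ H.relIndex (((Cfsg.pCore p (↥(Subgroup.normalizer (H : Set G)) ⧸
              (Subgroup.centralizer (H : Set G)).subgroupOf (Subgroup.normalizer (H : Set G)))).comap
            (QuotientGroup.mk' _)).map (Subgroup.normalizer (H : Set G)).subtype)) ↔
    ((P : Subgroup G) ⊓ Subgroup.centralizer (H : Set G) ≤ H ∧
      (Cfsg.pPrimePCore p ↥(Subgroup.normalizer (H : Set G))).map (Subgroup.normalizer (H : Set G)).subtype =
        H ⊔ Subgroup.centralizer (H : Set G)) := by
  classical
  set Nm := Subgroup.normalizer (H : Set G) with hNm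
  set C' := (Subgroup.centralizer (H : Set G)).subgroupOf Nm with hC'
  set L' := (Cfsg.pCore p (↥Nm ⧸ C')).comap (QuotientGroup.mk' C') with hL'
  have hHN : H ≤ Nm := Subgroup.le_normalizer
  have hCN : Subgroup.centralizer (H : Set G) ≤ Nm := Subgroup.centralizer_le_normalizer _
  set H' := H.subgroupOf Nm with hH'
  have hH'n : H'.Normal := Subgroup.normal_in_normalizer
  have hHp : IsPGroup p H := P.2.to_le hHP
  have hH'p : IsPGroup p H' := hHp.comap_subtype
  -- the Sylow subgroup of the normalizer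
  have hP'p : IsPGroup p (((P : Subgroup G) ⊓ Nm).subgroupOf Nm) :=
    (P.2.to_le inf_le_left).comap_subtype
  let P' : Sylow p ↥Nm := hP'p.toSylow hSyl
  have hP'coe : (P' : Subgroup ↥Nm) = ((P : Subgroup G) ⊓ Nm).subgroupOf Nm := rfl
  have hH'P' : H' ≤ (P' : Subgroup ↥Nm) := by
    rw [hP'coe]
    intro h hh
    rw [Subgroup.mem_subgroupOf] at hh ⊢
    exact ⟨hHP hh, h.2⟩
  have hCdef : C' = Subgroup.centralizer (H' : Set ↥Nm) := by
    ext r
    rw [Cfsg.Agent.Helper14.mem_centralizer_subgroupOf_iff hHN, hC', Subgroup.mem_subgroupOf]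
  have key := centric_radical_iff H' hH'p P' hH'P' C' hCdef
  -- translations
  have hHmap : H'.map Nm.subtype = H := by
    rw [hH', Subgroup.subgroupOf_map_subtype, inf_eq_left.mpr hHN]
  have hCmap : C'.map Nm.subtype = Subgroup.centralizer (H : Set G) := by
    rw [hC', Subgroup.subgroupOf_map_subtype, inf_eq_left.mpr hCN]
  have t1 : H ≤ L'.map Nm.subtype ↔ H' ≤ L' := by
    conv_lhs => rw [← hHmap]
    exact Subgroup.map_subtype_le_map_subtype
  have t2 : H.relIndex (L'.map Nm.subtype) = H'.relIndex L' := by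
    conv_lhs => rw [← hHmap]
    exact Subgroup.relIndex_map_map_of_injective H' L' Nm.subtype_injective
  have t3 : (P : Subgroup G) ⊓ Subgroup.centralizer (H : Set G) ≤ H ↔
      (P' : Subgroup ↥Nm) ⊓ C' ≤ H' := by
    constructor
    · intro h x hx
      rw [hP'coe] at hx
      rw [hH', Subgroup.mem_subgroupOf]
      apply h
      exact ⟨(Subgroup.mem_subgroupOf.mp hx.1).1, Subgroup.mem_subgroupOf.mp hx.2⟩
    · intro h x hx
      have hxN : x ∈ Nm := hCN hx.2
      have : (⟨x, hxN⟩ : ↥Nm) ∈ H' := by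
        apply h
        refine Subgroup.mem_inf.mpr ⟨?_, ?_⟩
        · rw [hP'coe, Subgroup.mem_subgroupOf]
          exact ⟨hx.1, hxN⟩
        · rw [hC', Subgroup.mem_subgroupOf]
          exact hx.2
      exact Subgroup.mem_subgroupOf.mp this
  have t4 : (Cfsg.pPrimePCore p ↥Nm).map Nm.subtype = H ⊔ Subgroup.centralizer (H : Set G) ↔
      Cfsg.pPrimePCore p ↥Nm = H' ⊔ C' := by
    have e : (H' ⊔ C').map Nm.subtype = H ⊔ Subgroup.centralizer (H : Set G) := by
      rw [Subgroup.map_sup, hHmap, hCmap]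
    rw [← e]
    exact (Subgroup.map_injective Nm.subtype_injective).eq_iff
  rw [t1, t2, t3, t4]
  exact key

end Cfsg.Agent.S3076
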