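import Mathlib
import Cfsg.Statements.S3078
import Cfsg.Agent.Lib.Helper9.GlaubermanOmega
import Cfsg.Agent.Lib.Helper4.GlaubermanRepl2
import Cfsg.Agent.S0650
-- import your own Cfsg.Agent.* helpers here

set_option autoImplicit false
open Cfsg

namespace Cfsg.Agent.S3078

open Subgroup Cfsg.Agent.Helper9 Cfsg.Agent.Helper4.GR
open scoped commutatorElement

theorem map_omegaOne {G : Type*} [Group G] (p : ℕ) (H : Subgroup G) (X : Subgroup ↥H) :
    (Cfsg.omegaOne p X).map H.subtype = Cfsg.omegaOne p (X.map H.subtype) := by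
  unfold Cfsg.omegaOne
  rw [MonoidHom.map_closure]
  congr 1
  ext y
  constructor
  · rintro ⟨x, ⟨hx, hxp⟩, rfl⟩
    refine ⟨⟨x, hx, rfl⟩, ?_⟩
    rw [← map_pow, hxp, map_one]
  · rintro ⟨⟨x, hx, rfl⟩, hyp⟩
    refine ⟨x, ⟨hx, ?_⟩, rfl⟩
    apply H.subtype_injective
    rw [map_pow, hyp, map_one]

/-- A replacement Theorem for abelian subgroups of p-groups, p odd. Let G be a finite p-group with p odd, A an abelian subgroup of G, and B a subgroup of nilpotency class at most 2 with [B, B] ≤ A, such that A normalizes B but B does not normalize A. Then there is an abelian subgroup A* of G of the same order as A with A ∩ B strictly contained in A* ∩ B, A* contained in N_G(A) and in the normal closure of A, the exponent of A* dividing the exponent of A, and with the subgroup generated by the elements of order dividing p in A of order at most that of the corresponding subgroup of A* (the rank of A is at most the rank of A*). -/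
theorem result {G : Type*} [Group G] [Finite G] {p : ℕ} [Fact p.Prime] (hp : p ≠ 2) (hG : IsPGroup p G) (A B : Subgroup G) (hA : IsMulCommutative A) (hB2 : ⁅⁅B, B⁆, B⁆ = ⊥) (hBA : ⁅B, B⁆ ≤ A) (hAB : A ≤ Subgroup.normalizer (B : Set G)) (hBnA : ¬ B ≤ Subgroup.normalizer (A : Set G)) : ∃ Astar : Subgroup G, IsMulCommutative Astar ∧ Nat.card Astar = Nat.card A ∧ A ⊓ B < Astar ⊓ B ∧ Astar ≤ Subgroup.normalizer (A : Set G) ∧ Astar ≤ Subgroup.normalClosure (A : Set G) ∧ Monoid.exponent Astar ∣ Monoid.exponent A ∧ Nat.card (Cfsg.omegaOne p A) ≤ Nat.card (Cfsg.omegaOne p Astar) := by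
  classical
  have hpp : p.Prime := Fact.out
  set H := A ⊔ B with hH
  have hAH : A ≤ H := le_sup_left
  have hBH : B ≤ H := le_sup_right
  set A' := A.subgroupOf H with hA'def
  set B' := B.subgroupOf H with hB'def
  haveI hB'n : B'.Normal :=
    Subgroup.normal_subgroupOf_of_le_normalizer (sup_le hAB le_normalizer)
  have hHp : IsPGroup p ↥H := hG.to_subgroup H
  haveI : Group.IsNilpotent ↥H := hHp.isNilpotent
  have hAc : ∀ x ∈ A, ∀ y ∈ A, x * y = y * x := fun x hx y hy =>
    congrArg Subtype.val (hA.is_comm.comm ⟨x, hx⟩ ⟨y, hy⟩)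
  have hA'c : IsMulCommutative ↥A' :=
    ⟨⟨fun x y => Subtype.ext (Subtype.ext (hAc _ x.2 _ y.2))⟩⟩
  have hBA' : ⁅B', B'⁆ ≤ A' := by
    rw [commutator_le]
    intro x hx y hy
    rw [hA'def, mem_subgroupOf]
    have : ((⁅x, y⁆ : ↥H) : G) = ⁅(x : G), (y : G)⁆ := by
      simp [commutatorElement_def]
    rw [this]
    exact hBA (commutator_mem_commutator (mem_subgroupOf.mp hx) (mem_subgroupOf.mp hy))
  have hnot' : ¬ B' ≤ normalizer (A' : Set ↥H) := by
    intro hle
    apply hBnA
    intro b hb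
    apply mem_normalizer_of_conj_mem
    intro a ha
    have hb' : (⟨b, hBH hb⟩ : ↥H) ∈ B' := mem_subgroupOf.mpr hb
    have ha' : (⟨a, hAH ha⟩ : ↥H) ∈ A' := mem_subgroupOf.mpr ha
    have := (mem_normalizer_iff.mp (hle hb') _).mp ha'
    exact mem_subgroupOf.mp this
  obtain ⟨b, hbB, hbN, hbA⟩ :=
    exists_mem_normalizer_not_mem B' (normalizer (A' : Set ↥H)) hnot'
  have hres := Cfsg.Agent.S0650.result hHp B' (fun h => absurd h hp) A' hA'c hBA' hnot' b hbB hbN
    hbA
  have hE : ((A' ⊓ A'.map (MulAut.conj (b⁻¹)).toMonoidHom) ⊔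
      Subgroup.closure {g : ↥H | ∃ a ∈ A', g = a * b⁻¹ * a⁻¹ * b}) = Astar A' b := rfl
  rw [hE] at hres
  obtain ⟨hcard, hTc, -, hlt, -, -, hTN, -, -, hexp⟩ := hres
  set T' := Astar A' b with hT'
  have hA'comm : ∀ x ∈ A', ∀ y ∈ A', x * y = y * x := fun x hx y hy =>
    congrArg Subtype.val (hA'c.is_comm.comm ⟨x, hx⟩ ⟨y, hy⟩)
  have hHyp : Hyp A' B' b :=
    { Bn := inferInstance
      Acomm := hA'comm
      BA := by
        intro x hx y hy
        have := hBA' (Subgroup.commutator_mem_commutator hx hy)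
        rwa [commutatorElement_def] at this
      hb := hbB
      hbN := Subgroup.mem_normalizer_iff.1 hbN }
  have hT'comm : ∀ x ∈ T', ∀ y ∈ T', x * y = y * x := fun x hx y hy =>
    congrArg Subtype.val (hTc.is_comm.comm ⟨x, hx⟩ ⟨y, hy⟩)
  have hmapA : A'.map H.subtype = A := Subgroup.map_subgroupOf_eq_of_le hAH
  have hmapB : B'.map H.subtype = B := Subgroup.map_subgroupOf_eq_of_le hBH
  have hcardA : Nat.card ↥A' = Nat.card ↥A :=
    Nat.card_congr (Subgroup.subgroupOfEquivOfLe hAH).toEquiv
  refine ⟨T'.map H.subtype, ?_, ?_, ?_, ?_, ?_, ?_, ?_⟩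
  · -- commutative
    refine ⟨⟨?_⟩⟩
    rintro ⟨_, x, hx, rfl⟩ ⟨_, y, hy, rfl⟩
    apply Subtype.ext
    show H.subtype x * H.subtype y = H.subtype y * H.subtype x
    rw [← map_mul, ← map_mul, hT'comm x hx y hy]
  · rw [Subgroup.card_map_of_injective H.subtype_injective, hcard, hcardA]
  · -- strict increase of the intersection with `B`
    have h1 : (A' ⊓ B').map H.subtype = A ⊓ B := by
      rw [Subgroup.map_inf _ _ _ H.subtype_injective, hmapA, hmapB]
    have h2 : (T' ⊓ B').map H.subtype = T'.map H.subtype ⊓ B := by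
      rw [Subgroup.map_inf _ _ _ H.subtype_injective, hmapB]
    rw [← h1, ← h2]
    exact (Subgroup.map_lt_map_iff_of_injective H.subtype_injective).mpr hlt
  · -- inside the normalizer of `A`
    rintro _ ⟨x, hx, rfl⟩
    apply mem_normalizer_of_conj_mem
    intro a ha
    have ha' : (⟨a, hAH ha⟩ : ↥H) ∈ A' := mem_subgroupOf.mpr ha
    have := (mem_normalizer_iff.mp (hTN hx) _).mp ha'
    exact mem_subgroupOf.mp this
  · -- inside the normal closure
    have hD : A' ≤ (normalClosure (A : Set G)).subgroupOf H := by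
      intro x hx
      exact mem_subgroupOf.mpr (le_normalClosure (mem_subgroupOf.mp hx))
    have h1 : T' ≤ (normalClosure (A : Set G)).subgroupOf H := Astar_le_of_normal hD b
    rintro _ ⟨x, hx, rfl⟩
    exact mem_subgroupOf.mp (h1 hx)
  · -- exponent
    have h1 := hexp hp
    apply Monoid.exponent_dvd_of_forall_pow_eq_one
    rintro ⟨_, x, hx, rfl⟩
    apply Subtype.ext
    show (H.subtype x) ^ Monoid.exponent ↥A = 1
    have h2 : Monoid.exponent ↥A' ∣ Monoid.exponent ↥A := by
      apply Monoid.exponent_dvd_of_forall_pow_eq_one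
      intro a'
      have := Monoid.pow_exponent_eq_one (⟨(a' : G), mem_subgroupOf.mp a'.2⟩ : ↥A)
      apply Subtype.ext
      apply Subtype.ext
      have h3 := congrArg Subtype.val this
      simpa using h3
    have h3 : (⟨x, hx⟩ : ↥T') ^ Monoid.exponent ↥A = 1 := by
      obtain ⟨k, hk⟩ := h1.trans h2
      rw [hk, pow_mul, Monoid.pow_exponent_eq_one, one_pow]
    have h4 := congrArg (fun w : ↥T' => ((w : ↥H) : G)) h3
    simpa using h4
  · -- Ω₁
    have hodd : Odd p := hpp.odd_of_ne_two hp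
    have key := card_omegaOne_le_Astar hHyp hT'comm hodd
    have e1 : Nat.card ↥(Cfsg.omegaOne p A) = Nat.card ↥(Cfsg.omegaOne p A') := by
      rw [← hmapA, ← map_omegaOne, Subgroup.card_map_of_injective H.subtype_injective]
    have e2 : Nat.card ↥(Cfsg.omegaOne p (T'.map H.subtype)) =
        Nat.card ↥(Cfsg.omegaOne p T') := by
      rw [← map_omegaOne, Subgroup.card_map_of_injective H.subtype_injective]
    rw [e1, e2]
    exact key

end Cfsg.Agent.S3078
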