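import Mathlib
import Cfsg.Statements.S3084
import Cfsg.Agent.Lib.Helper19.ExtClif5
import Cfsg.Agent.Lib.Helper19.ExtClif6

set_option autoImplicit false
open Cfsg

namespace Cfsg.Agent.S3084

/-- Let K be a group acting faithfully and linearly on a finite-dimensional vector space U of dimension 2n ≥ 2 over the field with two elements, preserving a quadratic form q whose polar bilinear form is non-degenerate and which vanishes on some n-dimensional subspace (a non-singular form of plus type). Then there is a finite group R with a normal extraspecial 2-subgroup Q of order 2^(2n+1), an isomorphism of R/Q with K, and a surjective homomorphism χ from Q onto (the additive group of) U with kernel the centre of Q, such that χ carries conjugation by any r in R to the action of the image of r in K, and an element a of Q squares to the identity exactly when q vanishes at χ(a). -/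
theorem result {K : Type*} [Group K] {U : Type*} [AddCommGroup U] [Module (ZMod 2) U] [Module.Finite (ZMod 2) U] (n : ℕ) (hn1 : 1 ≤ n) (hn : Module.finrank (ZMod 2) U = 2 * n) (ρ : Representation (ZMod 2) K U) (hρ : Function.Injective ρ) (q : QuadraticForm (ZMod 2) U) (hq : ∀ (k : K) (u : U), q (ρ k u) = q u) (hnd : (QuadraticMap.polarBilin q).Nondegenerate) (hplus : ∃ W : Submodule (ZMod 2) U, Module.finrank (ZMod 2) ↥W = n ∧ ∀ w ∈ W, q w = 0) : ∃ (R : Type) (_ : Group R) (_ : Finite R) (Q : Subgroup R) (hN : Q.Normal) (e : R ⧸ Q ≃* K) (χ : ↥Q →* Multiplicative U), Cfsg.IsExtraspecial 2 ↥Q ∧ Nat.card ↥Q = 2 ^ (2 * n + 1) ∧ Function.Surjective χ ∧ χ.ker = Subgroup.center ↥Q ∧ (∀ (r : R) (a : ↥Q), χ ⟨r * a * r⁻¹, hN.conj_mem (a : R) a.2 r⟩ = Multiplicative.ofAdd (ρ (e (r : R ⧸ Q)) (Multiplicative.toAdd (χ a)))) ∧ ∀ a : ↥Q, a * a = 1 ↔ q (Multiplicative.toAdd (χ a)) = 0 := by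
  classical
  open Cfsg.Agent.Helper19.ExtClif in
  have hUfin : Finite U := Module.finite_of_finite (ZMod 2)
  let _ : Fintype U := Fintype.ofFinite U
  have hKfin : Finite K := by
    apply Finite.of_injective (fun k : K => ((ρ k : U →ₗ[ZMod 2] U) : U → U))
    intro k k' h
    apply hρ
    apply LinearMap.ext
    intro u
    exact congrFun h u
  have hcard : Nat.card U = 2 ^ (2 * n) := by
    rw [Module.natCard_eq_pow_finrank (K := ZMod 2), Nat.card_zmod, hn]
  set b := Module.finBasis (ZMod 2) U with hb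
  set β : LinearMap.BilinForm (ZMod 2) U := q.toBilin b with hβ
  have hβQ : β.toQuadraticMap = q := QuadraticMap.toQuadraticMap_toBilin q b
  have hβq : ∀ u, β u u = q u := by
    intro u
    rw [← hβQ]
    rfl
  have hpol : ∀ u v, β u v + β v u = QuadraticMap.polar q u v := by
    intro u v
    rw [← LinearMap.BilinMap.polar_toQuadraticMap, hβQ]
  have hnd' : ∀ u : U, (∀ w, β u w + β w u = 0) → u = 0 := by
    intro u hu
    apply hnd.1 u
    intro w
    rw [QuadraticMap.polarBilin_apply_apply, ← hpol, hu w]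
  have hinv1 : ∀ (k : K) (u : U), β (ρ k u) (ρ k u) = β u u := by
    intro k u
    rw [hβq, hβq, hq]
  have hinv2 : ∀ (k : K) (u v : U),
      β (ρ k u) (ρ k v) + β (ρ k v) (ρ k u) = β u v + β v u := by
    intro k u v
    rw [hpol, hpol]
    unfold QuadraticMap.polar
    rw [← map_add, hq, hq, hq]
  obtain ⟨D⟩ := Cfsg.Agent.Helper19.ExtClif.extData_R0 β ρ hρ hnd' hinv1 hinv2
  obtain ⟨hR0fin, -⟩ := D.conclusion hnd' n hn1 hcard
  have D' := D.transport (Shrink.mulEquiv :
    Shrink.{0} ↥(Cfsg.Agent.Helper19.ExtClif.R0 β ρ) ≃* ↥(Cfsg.Agent.Helper19.ExtClif.R0 β ρ))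
  obtain ⟨hfin, Q, hN, e, χ, h1, h2, h3, h4, h5, h6⟩ := D'.conclusion hnd' n hn1 hcard
  refine ⟨Shrink.{0} ↥(Cfsg.Agent.Helper19.ExtClif.R0 β ρ), inferInstance, hfin, Q, hN, e, χ,
    h1, h2, h3, h4, h5, fun a => ?_⟩
  rw [h6 a, hβq]

end Cfsg.Agent.S3084
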