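import Mathlib
import Cfsg.Statements.S3087

set_option autoImplicit false
open Cfsg

namespace Cfsg.Agent.S3087

/-- fixed points of a subgroup, as an additive subgroup -/
def fixAdd {G V : Type*} [Group G] [AddCommGroup V] (p : ℕ) [Module (ZMod p) V]
    (ρ : Representation (ZMod p) G V) (X : Subgroup G) : AddSubgroup V where
  carrier := {v | ∀ x ∈ X, ρ x v = v}
  zero_mem' := by intro x _; simp
  add_mem' := by
    intro a b ha hb x hx
    simp [ha x hx, hb x hx]
  neg_mem' := by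
    intro a ha x hx
    simp [ha x hx]

theorem addcard_mul_relIndex {V : Type*} [AddCommGroup V] {X Y : AddSubgroup V} (h : X ≤ Y) :
    Nat.card X * X.relIndex Y = Nat.card Y := by
  have := AddSubgroup.relIndex_mul_relIndex (⊥ : AddSubgroup V) X Y bot_le h
  rwa [AddSubgroup.relIndex_bot_left, AddSubgroup.relIndex_bot_left] at this

theorem addcard_sup_mul_card_inf {V : Type*} [AddCommGroup V] (X Y : AddSubgroup V) :
    Nat.card ↥(X ⊔ Y) * Nat.card ↥(X ⊓ Y) = Nat.card X * Nat.card Y := by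
  have h1 := addcard_mul_relIndex (le_sup_left : X ≤ X ⊔ Y)
  have h2 := addcard_mul_relIndex (inf_le_right : X ⊓ Y ≤ Y)
  rw [AddSubgroup.relIndex_sup_left] at h1
  rw [AddSubgroup.inf_relIndex_right] at h2
  rw [← h1, ← h2]
  ring

/-- Let p be a prime, G a finite group acting linearly on a finite vector space V over the field with p elements, W a G-invariant subspace, and A a subgroup of G with |A|·|C_V(A)| ≥ |B|·|C_V(B)| for every subgroup B of A. Then |A|·|C_W(A)| ≥ |B|·|C_W(B)| for every subgroup B of A that contains C_A(W); that is, the image of A in the group induced on W satisfies the same maximality condition. -/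
theorem result {G V : Type*} [Group G] [Finite G] [AddCommGroup V] [Finite V] (p : ℕ) [Fact p.Prime] [Module (ZMod p) V]
    (ρ : Representation (ZMod p) G V) (W : Submodule (ZMod p) V) (hW : ∀ g : G, ∀ w ∈ W, ρ g w ∈ W)
    (A : Subgroup G)
    (hP : ∀ B : Subgroup G, B ≤ A →
      Nat.card ↥B * Nat.card {v : V // ∀ b ∈ B, ρ b v = v} ≤ Nat.card ↥A * Nat.card {v : V // ∀ a ∈ A, ρ a v = v})
    (B : Subgroup G) (hBA : B ≤ A) (hCB : ∀ a ∈ A, (∀ w ∈ W, ρ a w = w) → a ∈ B) :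
    Nat.card ↥B * Nat.card {w : W // ∀ b ∈ B, ρ b w = w} ≤ Nat.card ↥A * Nat.card {w : W // ∀ a ∈ A, ρ a w = w} := by
  classical
  -- translate the cardinalities
  have cV : ∀ X : Subgroup G, Nat.card {v : V // ∀ b ∈ X, ρ b v = v} = Nat.card ↥(fixAdd p ρ X) :=
    fun X => rfl
  have cW : ∀ X : Subgroup G, Nat.card {w : W // ∀ b ∈ X, ρ b w = w}
      = Nat.card ↥(fixAdd p ρ X ⊓ W.toAddSubgroup) := by
    intro X
    refine Nat.card_congr ?_
    refine
      { toFun := fun w => ⟨(w.1 : V), ⟨w.2, w.1.2⟩⟩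
        invFun := fun v => ⟨⟨v.1, v.2.2⟩, v.2.1⟩
        left_inv := ?_
        right_inv := ?_ }
    · intro w; rfl
    · intro v; rfl
  rw [cW, cW]
  have hPB := hP B hBA
  rw [cV, cV] at hPB
  set X := fixAdd p ρ A with hX
  set FB := fixAdd p ρ B with hFB
  set Wa := W.toAddSubgroup with hWa
  set Y := FB ⊓ Wa with hY
  have hXFB : X ≤ FB := by
    intro v hv x hx
    exact hv x (hBA hx)
  have hsup : X ⊔ Y ≤ FB := sup_le hXFB inf_le_left
  have hinf : X ⊓ Y = X ⊓ Wa := by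
    rw [hY, ← inf_assoc, inf_eq_left.2 hXFB]
  have hprod := addcard_sup_mul_card_inf X Y
  rw [hinf] at hprod
  have hle : Nat.card ↥(X ⊔ Y) ≤ Nat.card ↥FB :=
    Nat.card_le_card_of_injective (AddSubgroup.inclusion hsup) (AddSubgroup.inclusion_injective hsup)
  have hXpos : 0 < Nat.card ↥X := Nat.card_pos
  -- |B||Y||X| = |B||X ⊔ Y||X ⊓ Wa| ≤ |B||FB||X ⊓ Wa| ≤ |A||X||X ⊓ Wa|
  have h3 : Nat.card ↥B * Nat.card ↥Y * Nat.card ↥X ≤ Nat.card ↥A * Nat.card ↥(X ⊓ Wa) * Nat.card ↥X := by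
    calc Nat.card ↥B * Nat.card ↥Y * Nat.card ↥X
        = Nat.card ↥B * (Nat.card ↥X * Nat.card ↥Y) := by ring
      _ = Nat.card ↥B * (Nat.card ↥(X ⊔ Y) * Nat.card ↥(X ⊓ Wa)) := by rw [hprod]
      _ ≤ Nat.card ↥B * (Nat.card ↥FB * Nat.card ↥(X ⊓ Wa)) := by gcongr
      _ = (Nat.card ↥B * Nat.card ↥FB) * Nat.card ↥(X ⊓ Wa) := by ring
      _ ≤ (Nat.card ↥A * Nat.card ↥X) * Nat.card ↥(X ⊓ Wa) := by gcongr
      _ = Nat.card ↥A * Nat.card ↥(X ⊓ Wa) * Nat.card ↥X := by ring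
  exact Nat.le_of_mul_le_mul_right h3 hXpos

end Cfsg.Agent.S3087
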