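import Mathlib
import Cfsg.Statements.S3125
import Cfsg.Agent.S1992

set_option autoImplicit false
open Cfsg

namespace Cfsg.Agent.S3125

/-- Let G be a finite group such that, for every prime p dividing the order of G, every Sylow p-subgroup of G is its own normalizer. Then G is not a non-abelian simple group. -/
theorem result {G : Type*} [Group G] [Finite G]
    (h : ∀ p : ℕ, p.Prime → p ∣ Nat.card G → ∀ P : Sylow p G, Subgroup.normalizer ((P : Subgroup G) : Set G) = P) :
    ¬ (IsSimpleGroup G ∧ ¬ IsMulCommutative G) := by
  rintro ⟨hs, hna⟩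
  obtain ⟨q, hq, hpG⟩ := Cfsg.Agent.S1992.result h
  have : Fact q.Prime := ⟨hq⟩
  apply hna
  have : Nontrivial G := IsSimpleGroup.toNontrivial
  have hc : Nontrivial (Subgroup.center G) := hpG.center_nontrivial
  have htop : Subgroup.center G = ⊤ := by
    rcases (inferInstance : (Subgroup.center G).Normal).eq_bot_or_eq_top with h0 | h0
    · exfalso
      rw [Subgroup.nontrivial_iff_ne_bot] at hc
      exact hc h0
    · exact h0
  refine ⟨⟨fun a b => ?_⟩⟩
  have hb : b ∈ Subgroup.center G := by rw [htop]; trivial
  rw [Subgroup.mem_center_iff] at hb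
  exact hb a

end Cfsg.Agent.S3125
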