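import Mathlib
import Cfsg.Statements.S3155

set_option autoImplicit false
open Cfsg

namespace Cfsg.Agent.S3155

lemma no_sq (d : ZMod 4) : d * d ≠ -1 := by
  revert d; decide

lemma key (σ : (ZMod 4 × ZMod 4 × ZMod 4) →+ (ZMod 4 × ZMod 4 × ZMod 4))
    (h : ∀ v, σ (σ v) = -v) : False := by
  have : Fact (1 < 4) := ⟨by norm_num⟩
  let f : (ZMod 4 × ZMod 4 × ZMod 4) →ₗ[ZMod 4] (ZMod 4 × ZMod 4 × ZMod 4) :=
    σ.toZModLinearMap 4
  have hf : f * f = (-1 : ZMod 4) • (1 : (ZMod 4 × ZMod 4 × ZMod 4) →ₗ[ZMod 4] (ZMod 4 × ZMod 4 × ZMod 4)) := by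
    apply LinearMap.ext
    intro v
    rw [Module.End.mul_apply, LinearMap.smul_apply, Module.End.one_apply, neg_smul, one_smul]
    exact h v
  have hdet := congrArg LinearMap.det hf
  rw [map_mul, LinearMap.det_smul] at hdet
  have hr : Module.finrank (ZMod 4) (ZMod 4 × ZMod 4 × ZMod 4) = 3 := by
    rw [Module.finrank_prod, Module.finrank_prod, Module.finrank_self]
  rw [hr] at hdet
  simp only [map_one, mul_one] at hdet
  have : ((-1 : ZMod 4)) ^ 3 = -1 := by decide
  rw [this] at hdet
  exact no_sq _ hdet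

/-- Let B be the direct product of three cyclic groups of order 4. Then the automorphism of B inverting every element is not the square of any automorphism of B. -/
theorem result {B : Type*} [CommGroup B] [Finite B] (hB : Nonempty (B ≃* Multiplicative (ZMod 4 × ZMod 4 × ZMod 4)))
    (τ : B ≃* B) : τ.trans τ ≠ MulEquiv.inv B := by
  obtain ⟨e⟩ := hB
  intro hτ
  let ρ : Multiplicative (ZMod 4 × ZMod 4 × ZMod 4) →* Multiplicative (ZMod 4 × ZMod 4 × ZMod 4) :=
    (e.toMonoidHom.comp τ.toMonoidHom).comp e.symm.toMonoidHom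
  have hρ : ∀ v, ρ (ρ v) = v⁻¹ := by
    intro v
    simp only [ρ, MonoidHom.comp_apply, MulEquiv.coe_toMonoidHom, MulEquiv.symm_apply_apply]
    have := congrArg (fun g : B ≃* B => g (e.symm v)) hτ
    simp only [MulEquiv.trans_apply, MulEquiv.inv_apply] at this
    rw [this]
    simp
  apply key (AddMonoidHom.toMultiplicative.symm ρ)
  intro v
  exact congrArg Multiplicative.toAdd (hρ (Multiplicative.ofAdd v))

end Cfsg.Agent.S3155
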