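import Mathlib
import Cfsg.Statements.S3156
import Cfsg.Agent.Lib.Helper16.HsAutC
-- import your own Cfsg.Agent.* helpers here

set_option autoImplicit false
set_option linter.style.haveILetI false
open Cfsg

namespace Cfsg.Agent.S3156

open Cfsg.Agent.Helper11.Herm Cfsg.Agent.Helper16.HsAut in
/-- If a finite group T is isomorphic to a Sylow 2-subgroup of the projective special unitary group of dimension 3 with parameter 4 (realised over the field with 16 elements), then no subgroup of the automorphism group of T is isomorphic to the symmetric group of degree 3. -/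
theorem result {T : Type*} [Group T] [Finite T] (hT : (∃ (F : Type) (_ : Field F) (_ : Fintype F), Fintype.card F = 16 ∧ ∃ S : Sylow 2 (Cfsg.PSU 3 F 4), Nonempty (T ≃* ↥(S : Subgroup (Cfsg.PSU 3 F 4))))) (H : Subgroup (MulAut T)) : ¬ Nonempty (↥H ≃* Equiv.Perm (Fin 3)) := by
  rintro ⟨f⟩
  obtain ⟨F, _, _, hF, S, ⟨e⟩⟩ := hT
  have hF' : Fintype.card F = 4 ^ 2 := by rw [hF]; norm_num
  obtain ⟨φ, hφ⟩ := exists_frob hF'
  haveI : Fact (∀ x : F, φ (φ x) = x) := ⟨frob_frob hF' φ hφ⟩
  haveI : CharP F 2 := by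
    haveI : Fact (Nat.Prime 2) := ⟨Nat.prime_two⟩
    exact charP_of_card_eq_prime_pow (p := 2) (f := 4) (by rw [hF]; norm_num)
  obtain ⟨e'⟩ := exists_sylow_equiv hF' φ hφ ⟨2, rfl⟩ S
  let E : T ≃* Hs φ := e.trans e'
  let Φ : MulAut T ≃* MulAut (Hs φ) := MulAut.congr E
  let ψ : Equiv.Perm (Fin 3) →* MulAut (Hs φ) :=
    Φ.toMonoidHom.comp (H.subtype.comp f.symm.toMonoidHom)
  have hψ : Function.Injective ψ := by
    intro x y hxy
    have h1 : (f.symm x : MulAut T) = (f.symm y : MulAut T) := Φ.injective hxy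
    exact f.symm.injective (Subtype.ext h1)
  let r : Equiv.Perm (Fin 3) := c[0, 1, 2]
  let t : Equiv.Perm (Fin 3) := Equiv.swap 0 1
  have hr3 : r ^ 3 = 1 := by decide
  have hr1 : r ≠ 1 := by decide
  have ht2 : t ^ 2 = 1 := by decide
  have htr : t * r * t⁻¹ = r⁻¹ := by decide
  apply no_S3_model hF' φ hφ (ψ r) (ψ t)
  · rw [← map_pow, hr3, map_one]
  · intro h
    apply hr1
    apply hψ
    rw [h, map_one]
  · rw [← map_pow, ht2, map_one]
  · rw [← map_inv, ← map_inv, ← map_mul, ← map_mul, htr]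

end Cfsg.Agent.S3156
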