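import Mathlib
import Cfsg.Statements.S3157
import Cfsg.Agent.Lib.Helper16.Fpf3E
import Cfsg.Agent.Lib.Helper16.Fpf3G
import Cfsg.Agent.Lib.Helper16.Fpf3H
-- import your own Cfsg.Agent.* helpers here

set_option autoImplicit false
set_option linter.style.haveILetI false
open Cfsg

namespace Cfsg.Agent.S3157

open Cfsg.Agent.Helper16.Fpf3 in
/-- Let T be a non-abelian group of order 64 admitting automorphisms ρ of order 3 and x of order 2 with x ρ x⁻¹ = ρ⁻¹ (so they generate a symmetric group of degree 3), where ρ fixes only the identity. Then T is isomorphic to a Sylow 2-subgroup of the projective special linear group of dimension 3 over the field with 4 elements, and the subgroup of fixed points of x is dihedral of order 8 or quaternion of order 8. -/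
theorem result {T : Type*} [Group T] [Finite T] (hT : Nat.card T = 64) (hna : ¬ IsMulCommutative T) (ρ x : MulAut T) (hρ : orderOf ρ = 3) (hx : orderOf x = 2)
    (hxr : x * ρ * x⁻¹ = ρ⁻¹) (hfp : ∀ y : T, ρ y = y → y = 1) (C : Subgroup T) (hC : ∀ y : T, y ∈ C ↔ x y = y) :
    (∃ (F : Type) (_ : Field F) (_ : Fintype F), Fintype.card F = 4 ∧
        ∃ S : Sylow 2 (Matrix.ProjectiveSpecialLinearGroup (Fin 3) F), Nonempty (T ≃* ↥(S : Subgroup (Matrix.ProjectiveSpecialLinearGroup (Fin 3) F)))) ∧
      (Nonempty (↥C ≃* DihedralGroup 4) ∨ Nonempty (↥C ≃* QuaternionGroup 2)) := by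
  have hfpf : IsFpf3 ρ := by
    constructor
    · intro t
      have h3 : ρ ^ 3 = 1 := by rw [← hρ]; exact pow_orderOf_eq_one ρ
      have := congrArg (fun f : MulAut T => f t) h3
      simpa [pow_succ] using this
    · exact hfp
  have hna' : ∃ a b : T, a * b ≠ b * a := by
    by_contra hcon
    push Not at hcon
    exact hna ⟨⟨hcon⟩⟩
  have hx2 : ∀ t, x (x t) = t := by
    intro t
    have h2 : x ^ 2 = 1 := by rw [← hx]; exact pow_orderOf_eq_one x
    have := congrArg (fun f : MulAut T => f t) h2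
    simpa [pow_succ] using this
  have hxr' : ∀ t, x (ρ t) = ρ (ρ (x t)) := by
    intro t
    have h1 : x * ρ = ρ⁻¹ * x := by
      calc x * ρ = (x * ρ * x⁻¹) * x := by group
        _ = ρ⁻¹ * x := by rw [hxr]
    have h2 := congrArg (fun f : MulAut T => f t) h1
    simp only [MulAut.mul_apply] at h2
    rw [h2, MulAut.inv_apply, MulEquiv.symm_apply_eq, hfpf.cube]
  refine ⟨?_, C_dihedral_or_quaternion hfpf hT hna' hx2 hxr' hC⟩
  obtain ⟨c, d, hcc, hdd, hcd⟩ := exists_involutions hfpf hT hna' hx2 hxr' hC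
  obtain ⟨e⟩ := heis_equiv hfpf hT hna' hcc hdd hcd
  obtain ⟨S, ⟨e'⟩⟩ := exists_sylow_heis
  exact ⟨Cfsg.Agent.Helper26.F4, inferInstance, inferInstance, Cfsg.Agent.Helper26.F4.card_F4,
    S, ⟨e.symm.trans e'⟩⟩

end Cfsg.Agent.S3157
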